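import Cfsg.Statements.S0751

set_option autoImplicit false
open Cfsg

namespace Cfsg.Agent.S0751

open Module

section scalars
variable {F : Type*} [Field F]

theorem exists_moved (σ : F →+* F) (hσ : σ ≠ RingHom.id F) : ∃ e : F, σ e ≠ e := by
  by_contra hcon
  apply hσ
  ext a
  by_contra h
  exact hcon ⟨a, h⟩

/-- an element of trace one -/
theorem exists_trace_one (σ : F →+* F) (hσ : σ ≠ RingHom.id F) (hσ2 : ∀ a : F, σ (σ a) = a) :
    ∃ t : F, t + σ t = 1 := by
  obtain ⟨e, he⟩ := exists_moved σ hσ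
  by_cases h2 : (2 : F) = 0
  · have hne : e + σ e ≠ 0 := by
      intro h
      apply he
      have h3 : e + e = 0 := by rw [← two_mul, h2, zero_mul]
      have h4 : σ e = -e := by linear_combination h
      have h5 : -e = e := by linear_combination -h3
      rw [h4, h5]
    refine ⟨e / (e + σ e), ?_⟩
    rw [map_div₀, map_add, hσ2, add_comm (σ e) e, ← add_div, div_self hne]
  · refine ⟨1 / 2, ?_⟩
    rw [map_div₀, map_one, map_ofNat]
    field_simp
    norm_num

/-- nonzero elements of prescribed trace -/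
theorem exists_trace (σ : F →+* F) (hσ : σ ≠ RingHom.id F) (hσ2 : ∀ a : F, σ (σ a) = a)
    (κ : F) (hκ : σ κ = κ) : ∃ d : F, d ≠ 0 ∧ d + σ d = κ := by
  by_cases h0 : κ = 0
  · obtain ⟨e, he⟩ := exists_moved σ hσ
    refine ⟨e - σ e, sub_ne_zero.mpr (Ne.symm he), ?_⟩
    rw [map_sub, hσ2, h0]
    ring
  · obtain ⟨t, ht⟩ := exists_trace_one σ hσ hσ2
    have h1 : κ * t + σ (κ * t) = κ := by
      rw [map_mul, hκ, ← mul_add, ht, mul_one]
    refine ⟨κ * t, ?_, h1⟩
    intro h
    rw [h, map_zero, add_zero] at h1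
    exact h0 h1.symm

theorem exists_scalar (σ : F →+* F) (hσ : σ ≠ RingHom.id F) (hσ2 : ∀ a : F, σ (σ a) = a)
    (β γ : F) (hβ : σ β = β) (hγ : γ ≠ 0) :
    ∃ a : F, a ≠ 0 ∧ σ a * a * β + σ a * γ + a * σ γ = 0 := by
  have hσγ : σ γ ≠ 0 := by
    intro h
    apply hγ
    rw [← hσ2 γ, h, map_zero]
  have hκ : σ (-β / (γ * σ γ)) = -β / (γ * σ γ) := by
    rw [map_div₀, map_neg, map_mul, hσ2, hβ, mul_comm]
  obtain ⟨d, hd0, hd⟩ := exists_trace σ hσ hσ2 _ hκ
  have hσd : σ d ≠ 0 := by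
    intro h
    apply hd0
    rw [← hσ2 d, h, map_zero]
  refine ⟨(σ d * σ γ)⁻¹, inv_ne_zero (mul_ne_zero hσd hσγ), ?_⟩
  have h1 : σ ((σ d * σ γ)⁻¹) = (d * γ)⁻¹ := by
    rw [map_inv₀, map_mul, hσ2, hσ2]
  rw [h1]
  have hβ' : β = -(d + σ d) * (γ * σ γ) := by
    rw [hd]
    field_simp
  rw [hβ']
  field_simp
  ring

end scalars

section geometry
variable {F V : Type*} [Field F] [AddCommGroup V] [Module F V] [FiniteDimensional F V]

/-- quasi-reflection moving `x` to `y` -/
theorem move1 (σ : F →+* F) (B : V →ₛₗ[σ] V →ₗ[F] F) (hS : B.IsSymm) (hB : B.SeparatingLeft)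
    (x y : V) (hxy : B x x = B y y) (hγ : B (x - y) x ≠ 0) :
    ∃ g : V ≃ₗ[F] V, (∀ u v : V, B (g u) (g v) = B u v) ∧ g x = y ∧
      ∀ h : V, B (x - y) h = 0 → g h = h := by
  set u := x - y with hu
  set γ := B u x with hγdef
  have hσγ : σ γ = B x u := hS.eq u x
  have hσγ0 : σ γ ≠ 0 := by
    intro h
    exact hγ ((map_eq_zero σ).mp h)
  have hN : B u u = γ + σ γ := by
    rw [hσγ, hγdef]
    have e1 : B u u = B u x - B u y := by
      conv_lhs => rw [hu]
      rw [map_sub]
    have e2 : B x u = B x x - B x y := by rw [hu, map_sub]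
    have e3 : B u y = B x y - B y y := by rw [hu, map_sub, LinearMap.sub_apply]
    rw [e1, e2, e3, hxy]
    ring
  let τ : V →ₗ[F] V := LinearMap.id - γ⁻¹ • (B u).smulRight u
  have hτ : ∀ v, τ v = v - (γ⁻¹ * B u v) • u := by
    intro v
    simp only [τ, LinearMap.sub_apply, LinearMap.id_apply, LinearMap.smul_apply,
      LinearMap.smulRight_apply, smul_smul]
  have hiso : ∀ v w, B (τ v) (τ w) = B v w := by
    intro v w
    rw [hτ, hτ]
    simp only [map_sub, LinearMap.sub_apply, map_smul, LinearMap.map_smulₛₗ₂, smul_eq_mul,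
      map_mul, map_inv₀]
    rw [hS.eq u v, hN]
    field_simp
    ring
  have hinj : Function.Injective τ := by
    rw [← LinearMap.ker_eq_bot, LinearMap.ker_eq_bot']
    intro v hv
    apply hB
    intro w
    rw [← hiso v w, hv, map_zero, LinearMap.zero_apply]
  refine ⟨LinearEquiv.ofInjectiveEndo τ hinj, ?_, ?_, ?_⟩
  · intro v w
    simp only [LinearEquiv.coe_ofInjectiveEndo]
    exact hiso v w
  · simp only [LinearEquiv.coe_ofInjectiveEndo]
    rw [hτ, inv_mul_cancel₀ hγ, one_smul, hu]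
    abel
  · intro h hh
    simp only [LinearEquiv.coe_ofInjectiveEndo]
    rw [hτ, hh, mul_zero, zero_smul, sub_zero]

/-- representing functionals -/
theorem exists_rep [Finite F] (σ : F →+* F) (B : V →ₛₗ[σ] V →ₗ[F] F) (hB : B.SeparatingLeft)
    (f : V →ₗ[F] F) : ∃ t : V, ∀ v, B t v = f v := by
  have hfin : Finite V := Module.finite_of_finite F
  have hfin' : Finite (Module.Dual F V) := Module.finite_of_finite F
  have hinj : Function.Injective (fun t : V => (B t : Module.Dual F V)) := by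
    intro t t' h
    have h1 : B (t - t') = 0 := by
      rw [map_sub]
      exact sub_eq_zero.mpr h
    have h2 := hB (t - t') (fun v => by rw [h1]; rfl)
    exact sub_eq_zero.mp h2
  have hcard : Nat.card (Module.Dual F V) ≤ Nat.card V := by
    rw [Module.natCard_eq_pow_finrank (K := F) (V := V),
      Module.natCard_eq_pow_finrank (K := F) (V := Module.Dual F V), Subspace.dual_finrank_eq]
  obtain ⟨t, ht⟩ := (hinj.bijective_of_nat_card_le hcard).2 f
  exact ⟨t, fun v => by rw [← ht]⟩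


/-- Step: an isometry fixing `H` pointwise and moving `x` to `y`. -/
theorem exists_fix_move [Finite F] (σ : F →+* F) (hσ : σ ≠ RingHom.id F)
    (hσ2 : ∀ a : F, σ (σ a) = a) (B : V →ₛₗ[σ] V →ₗ[F] F) (hS : B.IsSymm)
    (hB : B.SeparatingLeft)
    (H : Submodule F V) (x y : V) (hx : x ∉ H) (hy : y ∉ H)
    (hxy : ∀ h ∈ H, B h y = B h x) (hnorm : B x x = B y y) :
    ∃ g : V ≃ₗ[F] V, (∀ u v : V, B (g u) (g v) = B u v) ∧ (∀ h ∈ H, g h = h) ∧ g x = y := by
  have huH : ∀ h ∈ H, B (x - y) h = 0 := by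
    intro h hh
    rw [map_sub, LinearMap.sub_apply, ← hS.eq h x, ← hS.eq h y, hxy h hh, sub_self]
  by_cases h0 : B (x - y) x ≠ 0
  · obtain ⟨g, hg1, hg2, hg3⟩ := move1 σ B hS hB x y hnorm h0
    exact ⟨g, hg1, fun h hh => hg3 h (huH h hh), hg2⟩
  · push Not at h0
    have hex : ∀ z : V, z ∉ H → ∃ t : V, (∀ h ∈ H, B t h = 0) ∧ B t z ≠ 0 := by
      intro z hz
      obtain ⟨f, hfz, hfH⟩ := Submodule.exists_le_ker_of_notMem hz
      obtain ⟨t, ht⟩ := exists_rep σ B hB f
      refine ⟨t, fun h hh => ?_, ?_⟩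
      · rw [ht]; exact LinearMap.mem_ker.mp (hfH hh)
      · rw [ht]; exact hfz
    obtain ⟨t₁, ht₁H, ht₁⟩ := hex x hx
    obtain ⟨t₂, ht₂H, ht₂⟩ := hex y hy
    obtain ⟨t₀, ht₀H, ht₀x, ht₀y⟩ :
        ∃ t₀ : V, (∀ h ∈ H, B t₀ h = 0) ∧ B t₀ x ≠ 0 ∧ B t₀ y ≠ 0 := by
      by_cases h1 : B t₁ y ≠ 0
      · exact ⟨t₁, ht₁H, ht₁, h1⟩
      · push Not at h1
        by_cases h2 : B t₂ x ≠ 0
        · exact ⟨t₂, ht₂H, h2, ht₂⟩
        · push Not at h2
          refine ⟨t₁ + t₂, ?_, ?_, ?_⟩
          · intro h hh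
            rw [map_add, LinearMap.add_apply, ht₁H h hh, ht₂H h hh, add_zero]
          · rw [map_add, LinearMap.add_apply, h2, add_zero]; exact ht₁
          · rw [map_add, LinearMap.add_apply, h1, zero_add]; exact ht₂
    obtain ⟨a, ha0, ha⟩ := exists_scalar σ hσ hσ2 (B t₀ t₀) (B t₀ x) (hS.eq t₀ t₀) ht₀x
    have hσa : σ a ≠ 0 := (map_ne_zero σ).mpr ha0
    set t := a • t₀ with ht
    have htH : ∀ h ∈ H, B t h = 0 := by
      intro h hh
      rw [ht, LinearMap.map_smulₛₗ₂, ht₀H h hh, smul_zero]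
    have htx : B t x ≠ 0 := by
      rw [ht, LinearMap.map_smulₛₗ₂, smul_eq_mul]
      exact mul_ne_zero hσa ht₀x
    have hty : B t y ≠ 0 := by
      rw [ht, LinearMap.map_smulₛₗ₂, smul_eq_mul]
      exact mul_ne_zero hσa ht₀y
    have hcond : B t t + B t x + B x t = 0 := by
      rw [ht, LinearMap.map_smulₛₗ₂, map_smul, LinearMap.map_smulₛₗ₂, map_smul, smul_eq_mul,
        smul_eq_mul, smul_eq_mul, smul_eq_mul, ← hS.eq t₀ x]
      linear_combination ha
    set w := x + t with hw
    have hww : B x x = B w w := by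
      rw [hw]
      simp only [map_add, LinearMap.add_apply]
      linear_combination -hcond
    have h1 : B (x - w) x ≠ 0 := by
      have e : x - w = -t := by rw [hw]; abel
      rw [e, map_neg, LinearMap.neg_apply]
      exact neg_ne_zero.mpr htx
    have hwy : B w w = B y y := by rw [← hww, hnorm]
    have hyt : B y t ≠ 0 := by
      rw [← hS.eq t y]
      exact (map_ne_zero σ).mpr hty
    have h2 : B (w - y) w ≠ 0 := by
      have e : B (w - y) w = -B y t := by
        have e1 : w - y = (x - y) + t := by rw [hw]; abel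
        have e2 : B (x - y) t = B x t - B y t := by rw [map_sub, LinearMap.sub_apply]
        rw [e1, hw]
        simp only [map_add, LinearMap.add_apply]
        rw [h0, e2]
        linear_combination hcond
      rw [e]
      exact neg_ne_zero.mpr hyt
    obtain ⟨g₁, hg₁iso, hg₁x, hg₁fix⟩ := move1 σ B hS hB x w hww h1
    obtain ⟨g₂, hg₂iso, hg₂w, hg₂fix⟩ := move1 σ B hS hB w y hwy h2
    refine ⟨g₁.trans g₂, ?_, ?_, ?_⟩
    · intro u v
      simp only [LinearEquiv.trans_apply]
      rw [hg₂iso, hg₁iso]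
    · intro h hh
      simp only [LinearEquiv.trans_apply]
      have e1 : g₁ h = h := by
        apply hg₁fix
        have e : x - w = -t := by rw [hw]; abel
        rw [e, map_neg, LinearMap.neg_apply, htH h hh, neg_zero]
      rw [e1]
      apply hg₂fix
      have e1 : w - y = (x - y) + t := by rw [hw]; abel
      rw [e1, map_add, LinearMap.add_apply, huH h hh, htH h hh, add_zero]
    · simp only [LinearEquiv.trans_apply]
      rw [hg₁x, hg₂w]

theorem witt_herm [Finite F] (σ : F →+* F) (hσ : σ ≠ RingHom.id F)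
    (hσ2 : ∀ a : F, σ (σ a) = a) (B : V →ₛₗ[σ] V →ₗ[F] F) (hS : B.IsSymm)
    (hB : B.SeparatingLeft) (n : ℕ) :
    ∀ (X : Submodule F V), finrank F X = n → ∀ ψ : X →ₗ[F] V, Function.Injective ψ →
    (∀ x x' : X, B (ψ x) (ψ x') = B (x : V) (x' : V)) →
    ∃ g : V ≃ₗ[F] V, (∀ u v : V, B (g u) (g v) = B u v) ∧ ∀ x : X, g (x : V) = ψ x := by
  induction n with
  | zero =>
    intro X hX ψ _ _
    refine ⟨LinearEquiv.refl F V, fun u v => rfl, ?_⟩
    intro x
    have hX0 : X = ⊥ := Submodule.finrank_eq_zero.mp hX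
    have hx0 : x = 0 := by
      apply Subtype.ext
      have : (x : V) ∈ (⊥ : Submodule F V) := hX0 ▸ x.2
      simpa using this
    rw [hx0]; simp
  | succ n ih =>
    intro X hX ψ hψinj hψ
    have hXnt : Nontrivial X := Module.nontrivial_of_finrank_pos (R := F) (by omega)
    obtain ⟨x₀, hx₀⟩ := exists_ne (0 : X)
    obtain ⟨H', hH'⟩ := Submodule.exists_isCompl (Submodule.span F {x₀})
    have hH'n : finrank F H' = n := by
      have h1 := Submodule.finrank_add_eq_of_isCompl hH'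
      rw [finrank_span_singleton hx₀, hX] at h1
      omega
    set H : Submodule F V := H'.map X.subtype with hH
    have hHX : H ≤ X := Submodule.map_subtype_le X H'
    have hHn : finrank F H = n := by
      rw [hH, Submodule.finrank_map_subtype_eq]; exact hH'n
    have hmemH : ∀ z : X, (z : V) ∈ H ↔ z ∈ H' := by
      intro z
      rw [hH, Submodule.mem_map]
      constructor
      · rintro ⟨w, hw, hwz⟩
        have : w = z := Subtype.ext hwz
        rwa [← this]
      · intro hz; exact ⟨z, hz, rfl⟩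
    have hx₀H' : x₀ ∉ H' := by
      intro h
      have : x₀ ∈ Submodule.span F {x₀} ⊓ H' := ⟨Submodule.mem_span_singleton_self x₀, h⟩
      rw [hH'.inf_eq_bot] at this
      exact hx₀ ((Submodule.mem_bot F).mp this)
    obtain ⟨g₀, hg₀iso, hg₀⟩ := ih H hHn (ψ.comp (Submodule.inclusion hHX))
      (hψinj.comp (Submodule.inclusion_injective hHX))
      (fun h h' => hψ _ _)
    have hg₀' : ∀ z : X, z ∈ H' → g₀ (z : V) = ψ z := by
      intro z hz
      have := hg₀ ⟨(z : V), (hmemH z).mpr hz⟩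
      have e : (Submodule.inclusion hHX) ⟨(z : V), (hmemH z).mpr hz⟩ = z := Subtype.ext rfl
      rw [LinearMap.comp_apply, e] at this
      exact this
    set y : V := g₀.symm (ψ x₀) with hy
    have hg₀y : g₀ y = ψ x₀ := by rw [hy]; simp
    have hxH : (x₀ : V) ∉ H := fun h => hx₀H' ((hmemH x₀).mp h)
    have hyH : y ∉ H := by
      intro h
      obtain ⟨w, hw, hwy⟩ := h
      have h1 : g₀ (w : V) = ψ w := hg₀' w hw
      have hwy' : (w : V) = y := hwy
      rw [hwy', hg₀y] at h1
      have : x₀ = w := hψinj h1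
      exact hx₀H' (this ▸ hw)
    have hxy : ∀ h ∈ H, B h y = B h (x₀ : V) := by
      rintro _ ⟨w, hw, rfl⟩
      have h1 := hg₀iso (w : V) y
      rw [hg₀' w hw, hg₀y, hψ] at h1
      exact h1.symm
    have hnorm : B (x₀ : V) (x₀ : V) = B y y := by
      have h1 := hg₀iso y y
      rw [hg₀y, hψ] at h1
      exact h1
    obtain ⟨g₁, hg₁iso, hg₁H, hg₁x⟩ :=
      exists_fix_move σ hσ hσ2 B hS hB H (x₀ : V) y hxH hyH hxy hnorm
    refine ⟨g₁.trans g₀, ?_, ?_⟩
    · intro u v
      simp only [LinearEquiv.trans_apply]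
      rw [hg₀iso, hg₁iso]
    · intro z
      have hz : z ∈ Submodule.span F {x₀} ⊔ H' := by rw [hH'.sup_eq_top]; trivial
      obtain ⟨l, hl, h', hh', rfl⟩ := Submodule.mem_sup.mp hz
      obtain ⟨c, rfl⟩ := Submodule.mem_span_singleton.mp hl
      simp only [LinearEquiv.trans_apply, Submodule.coe_add, Submodule.coe_smul, map_add,
        map_smul]
      rw [hg₁x, hg₁H _ ((hmemH h').mpr hh'), hg₀y, hg₀' h' hh']

end geometry

/-- Witt's Lemma for Hermitian forms. Let σ be a non-identity involutive automorphism of a finite field F and B a non-degenerate σ-sesquilinear form on a finite-dimensional F-space V which is conjugate-symmetric (σ (B x y) = B y x). Then every linear equivalence between subspaces X, Y of V preserving B extends to a B-preserving linear automorphism of V. -/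
theorem result {F V : Type*} [Field F] [Finite F] [AddCommGroup V] [Module F V] [FiniteDimensional F V] (σ : F →+* F) (hσ : σ ≠ RingHom.id F) (hσ2 : ∀ a : F, σ (σ a) = a) (B : V →ₛₗ[σ] V →ₗ[F] F) (hS : B.IsSymm) (hB : B.Nondegenerate) (X Y : Submodule F V) (φ : X ≃ₗ[F] Y) (hφ : ∀ x x' : X, B (φ x : V) (φ x' : V) = B (x : V) (x' : V)) : ∃ g : V ≃ₗ[F] V, (∀ u v : V, B (g u) (g v) = B u v) ∧ ∀ x : X, g (x : V) = (φ x : V) := by
  obtain ⟨g, hg1, hg2⟩ := witt_herm σ hσ hσ2 B hS hB.1 _ X rfl (Y.subtype.comp (φ : X →ₗ[F] Y))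
    (Y.subtype_injective.comp φ.injective) (fun x x' => hφ x x')
  exact ⟨g, hg1, fun x => hg2 x⟩

end Cfsg.Agent.S0751
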