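import Cfsg.Statements.S0002

set_option autoImplicit false
open Pointwise
open Cfsg

namespace Cfsg.Agent.S0002

open MulOpposite MulAction Subgroup

/-- The class of a complement in `QuotientDiff`. -/
noncomputable def cls {G : Type*} [Group G] [Finite G] (A : Subgroup G) [A.Normal]
    [IsMulCommutative A] (H : Subgroup G) (hH : Subgroup.IsComplement' A H) : A.QuotientDiff :=
  Quotient.mk'' (⟨(H : Set G), hH.symm⟩ : A.LeftTransversal)

/-- A complement `H` of the abelian normal Hall subgroup `A` is the stabilizer of its own class
in `QuotientDiff`. -/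
theorem eq_stabilizer {G : Type*} [Group G] [Finite G] (A : Subgroup G) [A.Normal]
    [IsMulCommutative A] (hA : (Nat.card A).Coprime A.index)
    (H : Subgroup G) (hH : Subgroup.IsComplement' A H) :
    H = stabilizer G (cls A H hH) := by
  have hle : H ≤ stabilizer G (cls A H hH) := by
    intro h hh
    rw [mem_stabilizer_iff]
    change Quotient.mk'' (op h⁻¹ • (⟨(H : Set G), hH.symm⟩ : A.LeftTransversal)) = Quotient.mk'' _
    congr 1
    apply Subtype.ext
    ext x
    change x ∈ op h⁻¹ • (H : Set G) ↔ x ∈ (H : Set G)
    rw [Set.mem_smul_set]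
    constructor
    · rintro ⟨y, hy, rfl⟩
      exact H.mul_mem hy (H.inv_mem hh)
    · intro hx
      exact ⟨x * h, H.mul_mem hx hh, by simp⟩
  have hc := isComplement'_stabilizer_of_coprime (α := cls A H hH) hA
  apply Subgroup.eq_of_le_of_card_ge hle
  have h1 := hH.card_mul_card
  have h2 := hc.card_mul_card
  have hpos : 0 < Nat.card A := Nat.card_pos
  have : Nat.card A * Nat.card (stabilizer G (cls A H hH)) = Nat.card A * Nat.card H := by
    rw [h1, h2]
  exact (Nat.eq_of_mul_eq_mul_left hpos this).le

/-- Schur's Theorem, conjugacy part, for an abelian normal subgroup of coprime order and index: any two complements are conjugate by an element of the normal subgroup. -/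
theorem result {G : Type*} [Group G] [Finite G] (A : Subgroup G) [A.Normal] [IsMulCommutative A]
    (hA : (Nat.card A).Coprime A.index)
    (H K : Subgroup G) (hH : Subgroup.IsComplement' A H) (hK : Subgroup.IsComplement' A K) :
    ∃ a ∈ A, MulAut.conj a • H = K := by
  obtain ⟨a, ha⟩ := exists_smul_eq hA (cls A H hH) (cls A K hK)
  refine ⟨a, a.2, ?_⟩
  conv_rhs => rw [eq_stabilizer A hA K hK]
  conv_lhs => rw [eq_stabilizer A hA H hH]
  rw [← ha]
  change _ = stabilizer G ((a : G) • cls A H hH)
  rw [stabilizer_smul_eq_stabilizer_map_conj]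
  rfl

end Cfsg.Agent.S0002
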