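import Cfsg.Statements.S0188
import Cfsg.Agent.Lib.Helper75_CharArith

set_option autoImplicit false
open Cfsg

namespace Cfsg.Agent.S0188


open scoped ComplexConjugate
open Cfsg.Agent.Lib.Helper3_CharBridge Cfsg.Agent.Lib.Helper3_CharOrtho
  Cfsg.Agent.Lib.Helper3_CharComplete Cfsg.Agent.Lib.Helper75_CharArith

/-- The pointwise product of two characters is a character (tensor product). -/
theorem isCharacter_mul {K : Type*} [Group K] {χ ψ : K → ℂ} (hχ : Cfsg.IsCharacter K χ)
    (hψ : Cfsg.IsCharacter K ψ) : Cfsg.IsCharacter K (χ * ψ) := by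
  obtain ⟨n, ρ, rfl⟩ := hχ
  obtain ⟨m, σ, rfl⟩ := hψ
  rw [← Representation.char_tensor]
  exact isCharacter_of_rep _

/-- outer product of two functions -/
def prodChar {G H : Type*} (φ : G → ℂ) (ψ : H → ℂ) : G × H → ℂ := fun x => φ x.1 * ψ x.2

theorem isCharacter_prodChar {G H : Type*} [Group G] [Group H] {φ : G → ℂ} {ψ : H → ℂ}
    (hφ : Cfsg.IsCharacter G φ) (hψ : Cfsg.IsCharacter H ψ) :
    Cfsg.IsCharacter (G × H) (prodChar φ ψ) := by
  have h1 := isCharacter_comp (MonoidHom.fst G H) hφ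
  have h2 := isCharacter_comp (MonoidHom.snd G H) hψ
  exact isCharacter_mul h1 h2

theorem classInner_prodChar {G H : Type*} [Group G] [Group H] [Fintype G] [Fintype H]
    (φ φ' : G → ℂ) (ψ ψ' : H → ℂ) :
    Cfsg.classInner (prodChar φ ψ) (prodChar φ' ψ') =
      Cfsg.classInner φ φ' * Cfsg.classInner ψ ψ' := by
  unfold Cfsg.classInner prodChar
  rw [Fintype.sum_prod_type, Nat.card_prod]
  have : ∀ (x : G), ∑ y : H, φ (x, y).1 * ψ (x, y).2 * conj (φ' (x, y).1 * ψ' (x, y).2) =
      (φ x * conj (φ' x)) * ∑ y : H, ψ y * conj (ψ' y) := by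
    intro x
    rw [Finset.mul_sum]
    refine Finset.sum_congr rfl fun y _ => ?_
    rw [map_mul]
    ring
  simp only [this]
  rw [← Finset.sum_mul]
  push_cast
  rw [mul_inv]
  ring

theorem isIrr_prodChar {G H : Type*} [Group G] [Group H] [Finite G] [Finite H]
    {φ : G → ℂ} {ψ : H → ℂ}
    (hφ : Cfsg.IsIrrCharacter G φ) (hψ : Cfsg.IsIrrCharacter H ψ) :
    Cfsg.IsIrrCharacter (G × H) (prodChar φ ψ) := by
  classical
  haveI := Fintype.ofFinite G
  haveI := Fintype.ofFinite H
  apply isIrrCharacter_of_classInner_self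
    (isCharacter_prodChar (isCharacter_of_isIrrCharacter hφ) (isCharacter_of_isIrrCharacter hψ))
  rw [classInner_prodChar, classInner_self_of_isIrrCharacter hφ,
    classInner_self_of_isIrrCharacter hψ, mul_one]

theorem exists_of_isIrr {G H : Type*} [Group G] [Group H] [Finite G] [Finite H]
    {θ : G × H → ℂ} (hθ : Cfsg.IsIrrCharacter (G × H) θ) :
    ∃ (φ : G → ℂ) (ψ : H → ℂ), Cfsg.IsIrrCharacter G φ ∧ Cfsg.IsIrrCharacter H ψ ∧
      θ = prodChar φ ψ := by
  classical
  haveI := Fintype.ofFinite G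
  haveI := Fintype.ofFinite H
  by_contra hcon
  have hne : ∀ (φ : G → ℂ) (ψ : H → ℂ), Cfsg.IsIrrCharacter G φ → Cfsg.IsIrrCharacter H ψ →
      θ ≠ prodChar φ ψ := by
    intro φ ψ hφ hψ h
    exact hcon ⟨φ, ψ, hφ, hψ, h⟩
  have horth : ∀ (φ : G → ℂ) (ψ : H → ℂ), Cfsg.IsIrrCharacter G φ → Cfsg.IsIrrCharacter H ψ →
      Cfsg.classInner θ (prodChar φ ψ) = 0 := by
    intro φ ψ hφ hψ
    exact classInner_of_isIrrCharacter_of_ne hθ (isIrr_prodChar hφ hψ) (hne φ ψ hφ hψ)
  have hcf := isClassFunction_of_isIrrCharacter hθ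
  have hGne : (Nat.card G : ℂ) ≠ 0 := card_ne_zero_complex
  have hHne : (Nat.card H : ℂ) ≠ 0 := card_ne_zero_complex
  -- step 1
  have hF : ∀ (ψ : H → ℂ), Cfsg.IsIrrCharacter H ψ →
      (fun g : G => ∑ h : H, θ (g, h) * conj (ψ h)) = 0 := by
    intro ψ hψ
    apply eq_zero_of_forall_classInner_irr_eq_zero
    · intro g x
      refine Finset.sum_congr rfl fun h _ => ?_
      have := hcf (g, h) (x, 1)
      simp only [Prod.mk_mul_mk, Prod.inv_mk, inv_one, one_mul, mul_one] at this
      rw [this]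
    · intro φ hφ
      have h0 := horth φ ψ hφ hψ
      unfold Cfsg.classInner prodChar at h0
      rw [Fintype.sum_prod_type] at h0
      have h1 : (∑ x : G, ∑ y : H, θ (x, y) * conj (φ (x, y).1 * ψ (x, y).2)) = 0 := by
        rcases mul_eq_zero.mp h0 with h | h
        · exfalso
          rw [inv_eq_zero, Nat.card_prod] at h
          push_cast at h
          rcases mul_eq_zero.mp h with h | h
          · exact hGne h
          · exact hHne h
        · exact h
      unfold Cfsg.classInner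
      have h2 : (∑ g : G, (∑ h : H, θ (g, h) * conj (ψ h)) * conj (φ g)) = 0 := by
        rw [← h1]
        refine Finset.sum_congr rfl fun x _ => ?_
        rw [Finset.sum_mul]
        refine Finset.sum_congr rfl fun y _ => ?_
        rw [map_mul]
        ring
      rw [h2, mul_zero]
  -- step 2
  have hzero : θ = 0 := by
    funext ⟨g, h⟩
    have hfg : (fun h : H => θ (g, h)) = 0 := by
      apply eq_zero_of_forall_classInner_irr_eq_zero
      · intro h x
        have := hcf (g, h) (1, x)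
        simp only [Prod.mk_mul_mk, Prod.inv_mk, inv_one, one_mul, mul_one] at this
        exact this
      · intro ψ hψ
        unfold Cfsg.classInner
        have := congrFun (hF ψ hψ) g
        simp only [Pi.zero_apply] at this
        rw [this, mul_zero]
    exact congrFun hfg h
  exact isIrrCharacter_ne_zero hθ hzero

/-- The irreducible complex characters of G × H are precisely the functions (g, h) ↦ φ g * ψ h with φ, ψ irreducible characters of G and H. -/
theorem result {G : Type*} [Group G] [Finite G] {H : Type*} [Group H] [Finite H] (θ : G × H → ℂ) : Cfsg.IsIrrCharacter (G × H) θ ↔ ∃ (φ : G → ℂ) (ψ : H → ℂ), Cfsg.IsIrrCharacter G φ ∧ Cfsg.IsIrrCharacter H ψ ∧ θ = fun x => φ x.1 * ψ x.2 := by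
  constructor
  · intro hθ
    obtain ⟨φ, ψ, hφ, hψ, h⟩ := exists_of_isIrr hθ
    exact ⟨φ, ψ, hφ, hψ, h⟩
  · rintro ⟨φ, ψ, hφ, hψ, rfl⟩
    exact isIrr_prodChar hφ hψ

end Cfsg.Agent.S0188
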