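import Cfsg.Statements.S0856
import Cfsg.Agent.Lib.Helper75_CharProd

set_option autoImplicit false
open Cfsg

namespace Cfsg.Agent.S0856

open Cfsg.Agent.Lib.Helper3_CharBridge Cfsg.Agent.Lib.Helper3_CharOrtho
  Cfsg.Agent.Lib.Helper3_CharComplete Cfsg.Agent.Lib.Helper75_CharArith
  Cfsg.Agent.Lib.Helper75_Induced Cfsg.Agent.Lib.Helper75_Clifford
  Cfsg.Agent.Lib.Helper75_IndChar Cfsg.Agent.Lib.Helper75_CharProd in
/-- Let N be a normal subgroup of the finite group G and φ, ϑ irreducible characters of N that are invariant under conjugation by G, such that the pointwise product φ * ϑ is irreducible and ϑ is the restriction of an irreducible character χ of G. Then multiplication by χ is a bijection from the set of irreducible characters of G having nonzero inner product with the function induced from φ onto the set of those having nonzero inner product with the function induced from φ * ϑ. -/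
theorem result {G : Type*} [Group G] [Fintype G] (N : Subgroup G) [hN : N.Normal] (φ ϑ : N → ℂ) (hφ : Cfsg.IsIrrCharacter N φ) (hϑ : Cfsg.IsIrrCharacter N ϑ) (hφinv : ∀ (g : G) (n : N), φ ⟨g * n * g⁻¹, hN.conj_mem (n : G) n.2 g⟩ = φ n) (hϑinv : ∀ (g : G) (n : N), ϑ ⟨g * n * g⁻¹, hN.conj_mem (n : G) n.2 g⟩ = ϑ n) (hprod : Cfsg.IsIrrCharacter N (φ * ϑ)) (χ : G → ℂ) (hχ : Cfsg.IsIrrCharacter G χ) (hext : ∀ n : N, χ n = ϑ n) : Set.BijOn (fun β : G → ℂ => β * χ) {β : G → ℂ | Cfsg.IsIrrCharacter G β ∧ Cfsg.classInner (Cfsg.indFun N φ) β ≠ 0} {ψ : G → ℂ | Cfsg.IsIrrCharacter G ψ ∧ Cfsg.classInner (Cfsg.indFun N (φ * ϑ)) ψ ≠ 0} := by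
  classical
  have : Fintype N := Fintype.ofFinite N
  have hres : res N χ = ϑ := funext hext
  have hχc : Cfsg.IsCharacter G χ := isCharacter_of_isIrrCharacter hχ
  have hφc : ∀ g, conjFun N hN φ g = φ := conjFun_eq_of_forall N hN φ hφinv
  have hprodinv : ∀ g, conjFun N hN (φ * ϑ) g = φ * ϑ := by
    intro g
    funext n
    show φ _ * ϑ _ = φ n * ϑ n
    rw [hφinv g n, hϑinv g n]
  have hIndφ : Cfsg.IsCharacter G (Cfsg.indFun N φ) :=
    isCharacter_indFun N (isCharacter_of_isIrrCharacter hφ)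
  obtain ⟨m, hm, hsum⟩ := exists_multiplicities hIndφ
  have hkey : Cfsg.indFun N (φ * ϑ) =
      ∑ β : Cfsg.IrrCharacter G, (m β : ℂ) • ((β : G → ℂ) * χ) := by
    rw [← hres, ← indFun_mul N φ (isClassFunction_of_isIrrCharacter hχ)]
    conv_lhs => rw [hsum]
    rw [Finset.sum_mul]
    refine Finset.sum_congr rfl (fun β _ => ?_)
    rw [smul_mul_assoc]
  have hβχ : ∀ β : Cfsg.IrrCharacter G, Cfsg.IsCharacter G ((β : G → ℂ) * χ) := fun β =>
    isCharacter_mul (isCharacter_of_isIrrCharacter β.2) hχc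
  have hn : ∀ β β' : Cfsg.IrrCharacter G, ∃ k : ℕ,
      Cfsg.classInner ((β : G → ℂ) * χ) ((β' : G → ℂ) * χ) = k := fun β β' =>
    classInner_isCharacter_nat (hβχ β) (hβχ β')
  choose n hn using hn
  have hdiag : ∀ β, m β ≠ 0 → 1 ≤ n β β := by
    intro β _
    by_contra h
    have h0 : n β β = 0 := by omega
    have h1 := hn β β
    rw [h0, Nat.cast_zero] at h1
    refine classInner_self_ne_zero (f := (β : G → ℂ) * χ) ?_ h1
    rw [Pi.mul_apply]
    exact mul_ne_zero (irr_one_ne_zero β.2) (irr_one_ne_zero hχ)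
  have hsumeq : ∑ β, ∑ β', m β * m β' * n β β' = ∑ β, m β * m β := by
    have h1 : ((∑ β, ∑ β', m β * m β' * n β β' : ℕ) : ℂ) = (N.index : ℂ) := by
      rw [← classInner_indFun_self_of_invariant N hN hprod hprodinv]
      conv_rhs => rw [hkey, classInner_sum_left]
      push_cast
      refine Finset.sum_congr rfl (fun β _ => ?_)
      rw [classInner_sum_right]
      refine Finset.sum_congr rfl (fun β' _ => ?_)
      rw [classInner_smul_left, classInner_smul_right, hn, Complex.conj_natCast]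
      ring
    have h2 : ((∑ β, m β * m β : ℕ) : ℂ) = (N.index : ℂ) := by
      rw [← classInner_indFun_self_of_invariant N hN hφ hφc,
        classInner_self_eq_sum (isClassFunction_of_isCharacter hIndφ)]
      push_cast
      refine Finset.sum_congr rfl (fun β _ => ?_)
      rw [hm β, Complex.conj_natCast]
    exact_mod_cast h1.trans h2.symm
  have hgram := nat_gram_lemma m n hdiag hsumeq
  have hirr : ∀ β : Cfsg.IrrCharacter G, m β ≠ 0 →
      Cfsg.IsIrrCharacter G ((β : G → ℂ) * χ) := by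
    intro β hβ
    apply isIrrCharacter_of_classInner_self (hβχ β)
    rw [hn β β, (hgram β hβ).1, Nat.cast_one]
  have hinner : ∀ β, m β ≠ 0 →
      Cfsg.classInner (Cfsg.indFun N (φ * ϑ)) ((β : G → ℂ) * χ) = m β := by
    intro β hβ
    rw [hkey, classInner_sum_left, Finset.sum_eq_single β]
    · rw [classInner_smul_left, hn, (hgram β hβ).1, Nat.cast_one, mul_one]
    · intro β' _ hne
      rw [classInner_smul_left, hn]
      by_cases hβ' : m β' = 0
      · rw [hβ', Nat.cast_zero, zero_mul]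
      · rw [(hgram β' hβ').2 β (Ne.symm hne) hβ, Nat.cast_zero, mul_zero]
    · intro h
      exact absurd (Finset.mem_univ β) h
  have hm0 : ∀ β : Cfsg.IrrCharacter G,
      Cfsg.classInner (Cfsg.indFun N φ) (β : G → ℂ) ≠ 0 → m β ≠ 0 := by
    intro β hβ h
    apply hβ
    rw [hm β, h, Nat.cast_zero]
  refine ⟨?_, ?_, ?_⟩
  · rintro β ⟨hβirr, hβne⟩
    have hmβ : m ⟨β, hβirr⟩ ≠ 0 := hm0 ⟨β, hβirr⟩ hβne
    refine ⟨hirr ⟨β, hβirr⟩ hmβ, ?_⟩
    show Cfsg.classInner (Cfsg.indFun N (φ * ϑ)) (β * χ) ≠ 0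
    rw [hinner ⟨β, hβirr⟩ hmβ]
    exact_mod_cast hmβ
  · rintro β ⟨hβirr, hβne⟩ γ ⟨hγirr, hγne⟩ heq
    by_contra hne
    have hmβ : m ⟨β, hβirr⟩ ≠ 0 := hm0 ⟨β, hβirr⟩ hβne
    have hmγ : m ⟨γ, hγirr⟩ ≠ 0 := hm0 ⟨γ, hγirr⟩ hγne
    have hne' : (⟨γ, hγirr⟩ : Cfsg.IrrCharacter G) ≠ ⟨β, hβirr⟩ := by
      intro h
      exact hne (congrArg Subtype.val h).symm
    have h0 : n ⟨β, hβirr⟩ ⟨γ, hγirr⟩ = 0 := (hgram ⟨β, hβirr⟩ hmβ).2 ⟨γ, hγirr⟩ hne' hmγ
    have h1 := hn ⟨β, hβirr⟩ ⟨γ, hγirr⟩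
    have h2 := hn ⟨β, hβirr⟩ ⟨β, hβirr⟩
    rw [(hgram ⟨β, hβirr⟩ hmβ).1] at h2
    rw [h0] at h1
    have heq' : β * χ = γ * χ := heq
    simp only at h1 h2
    rw [← heq', h2] at h1
    norm_num at h1
  · rintro ψ ⟨hψirr, hψne⟩
    rw [hkey, classInner_sum_left] at hψne
    obtain ⟨β, -, hβ⟩ := Finset.exists_ne_zero_of_sum_ne_zero hψne
    rw [classInner_smul_left] at hβ
    have hmβ : m β ≠ 0 := by
      intro h
      apply hβ
      rw [h, Nat.cast_zero, zero_mul]
    have h3 : Cfsg.classInner ((β : G → ℂ) * χ) ψ ≠ 0 := right_ne_zero_of_mul hβ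
    rw [classInner_irr (hirr β hmβ) hψirr] at h3
    have heq : (β : G → ℂ) * χ = ψ := by
      by_contra h
      rw [if_neg h] at h3
      exact h3 rfl
    refine ⟨(β : G → ℂ), ⟨β.2, ?_⟩, heq⟩
    rw [hm β]
    exact_mod_cast hmβ

end Cfsg.Agent.S0856
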