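import Mathlib
import Cfsg.Statements.S2420
import Cfsg.Agent.Lib.Helper40_BlockTri

set_option autoImplicit false
open scoped MatrixGroups
open Cfsg

namespace Cfsg.Agent.S2420

open Matrix Cfsg.Agent.Lib.Helper40_BlockTri

section Labels

variable {n : ℕ} (μ : Fin n → ℕ)

/-- partial sums `μ 0 + ⋯ + μ j` -/
def psum (j : Fin n) : ℕ := ∑ k ∈ Finset.univ.filter (fun k : Fin n => k ≤ j), μ k

/-- partial sums `μ 0 + ⋯ + μ (j-1)` -/
def psumPrev (j : Fin n) : ℕ := ∑ k ∈ Finset.univ.filter (fun k : Fin n => k < j), μ k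

theorem psum_eq (j : Fin n) : psum μ j = psumPrev μ j + μ j := by
  unfold psum psumPrev
  have : Finset.univ.filter (fun k : Fin n => k ≤ j) =
      insert j (Finset.univ.filter (fun k : Fin n => k < j)) := by
    ext k
    simp only [Finset.mem_filter, Finset.mem_univ, true_and, Finset.mem_insert]
    exact le_iff_eq_or_lt
  rw [this, Finset.sum_insert (by simp), add_comm]

theorem psum_mono {j j' : Fin n} (h : j ≤ j') : psum μ j ≤ psum μ j' := by
  unfold psum
  apply Finset.sum_le_sum_of_subset
  intro k
  simp only [Finset.mem_filter, Finset.mem_univ, true_and]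
  exact fun hk => le_trans hk h

theorem psum_le_prev {j j' : Fin n} (h : j < j') : psum μ j ≤ psumPrev μ j' := by
  unfold psum psumPrev
  apply Finset.sum_le_sum_of_subset
  intro k
  simp only [Finset.mem_filter, Finset.mem_univ, true_and]
  exact fun hk => lt_of_le_of_lt hk h

theorem psum_le_total (j : Fin n) : psum μ j ≤ ∑ i, μ i := by
  unfold psum
  exact Finset.sum_le_sum_of_subset (Finset.filter_subset _ _)

theorem compLabel_eq (a i : Fin n) (h1 : psumPrev μ a ≤ i.val) (h2 : i.val < psum μ a) :
    Cfsg.compLabel μ i = a.val := by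
  unfold Cfsg.compLabel
  have : (Finset.univ.filter fun j : Fin n =>
      (∑ k ∈ Finset.univ.filter (fun k : Fin n => k ≤ j), μ k) ≤ i.val) = Finset.Iio a := by
    ext j
    simp only [Finset.mem_filter, Finset.mem_univ, true_and, Finset.mem_Iio]
    constructor
    · intro hj
      by_contra hlt
      have : a ≤ j := not_lt.mp hlt
      have := psum_mono μ this
      unfold psum at this h2
      omega
    · intro hj
      have := psum_le_prev μ hj
      unfold psum at this
      omega
  rw [this, Fin.card_Iio]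

/-- the labelling with values in `Fin (n+1)` -/
def lab (i : Fin n) : Fin (n + 1) :=
  ⟨Cfsg.compLabel μ i, by
    unfold Cfsg.compLabel
    have := Finset.card_le_univ (Finset.univ.filter fun j : Fin n =>
      (∑ k ∈ Finset.univ.filter (fun k : Fin n => k ≤ j), μ k) ≤ i.val)
    rw [Fintype.card_fin] at this
    omega⟩

/-- extension of `μ` by zero -/
def μext (a : Fin (n + 1)) : ℕ := if h : a.val < n then μ ⟨a.val, h⟩ else 0

theorem sum_μext : ∑ a, μext μ a = ∑ i, μ i := by
  rw [Fin.sum_univ_castSucc]
  have h1 : μext μ (Fin.last n) = 0 := by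
    unfold μext
    rw [dif_neg]
    simp
  rw [h1, add_zero]
  apply Finset.sum_congr rfl
  intro i _
  unfold μext
  rw [dif_pos (show (Fin.castSucc i).val < n from i.isLt)]
  rfl

theorem card_interval (lo hi : ℕ) (h : hi ≤ n) :
    (Finset.univ.filter fun i : Fin n => lo ≤ i.val ∧ i.val < hi).card = hi - lo := by
  have : (Finset.univ.filter fun i : Fin n => lo ≤ i.val ∧ i.val < hi).map Fin.valEmbedding =
      Finset.Ico lo hi := by
    ext x
    simp only [Finset.mem_map, Finset.mem_filter, Finset.mem_univ, true_and, Finset.mem_Ico,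
      Fin.valEmbedding_apply]
    constructor
    · rintro ⟨i, hi', rfl⟩
      exact hi'
    · intro hx
      exact ⟨⟨x, by omega⟩, hx, rfl⟩
  rw [← Finset.card_map Fin.valEmbedding, this, Nat.card_Ico]

theorem μext_le_card (hμ : ∑ i, μ i = n) (a : Fin (n + 1)) :
    μext μ a ≤ Fintype.card {i : Fin n // lab μ i = a} := by
  unfold μext
  split_ifs with h
  · rw [Fintype.card_subtype]
    have hsub : (Finset.univ.filter fun i : Fin n =>
        psumPrev μ ⟨a.val, h⟩ ≤ i.val ∧ i.val < psum μ ⟨a.val, h⟩) ⊆
        Finset.univ.filter fun i : Fin n => lab μ i = a := by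
      intro i
      simp only [Finset.mem_filter, Finset.mem_univ, true_and]
      intro hi
      apply Fin.ext
      exact compLabel_eq μ ⟨a.val, h⟩ i hi.1 hi.2
    have hc := card_interval (n := n) (psumPrev μ ⟨a.val, h⟩) (psum μ ⟨a.val, h⟩)
      (by have := psum_le_total μ ⟨a.val, h⟩; omega)
    have := Finset.card_le_card hsub
    rw [hc, psum_eq] at this
    omega
  · exact Nat.zero_le _

theorem sum_card_fiber {ι : Type*} [Fintype ι] [DecidableEq ι] {N : ℕ} (b : ι → Fin N) :
    ∑ a : Fin N, Fintype.card {i // b i = a} = Fintype.card ι := by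
  rw [← Fintype.card_sigma]
  exact Fintype.card_congr (Equiv.sigmaFiberEquiv b)

theorem card_fiber (hμ : ∑ i, μ i = n) (a : Fin (n + 1)) :
    Fintype.card {i : Fin n // lab μ i = a} = μext μ a := by
  have h1 : ∑ a : Fin (n + 1), Fintype.card {i : Fin n // lab μ i = a} = n := by
    rw [sum_card_fiber, Fintype.card_fin]
  have h2 : ∑ a, μext μ a = n := by rw [sum_μext, hμ]
  by_contra hne
  have hlt : μext μ a < Fintype.card {i : Fin n // lab μ i = a} :=
    lt_of_le_of_ne (μext_le_card μ hμ a) (Ne.symm hne)
  have : ∑ a, μext μ a < ∑ a : Fin (n + 1), Fintype.card {i : Fin n // lab μ i = a} :=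
    Finset.sum_lt_sum (fun a _ => μext_le_card μ hμ a) ⟨a, Finset.mem_univ _, hlt⟩
  omega

end Labels

section Pairs

variable {ι : Type*} [Fintype ι] [DecidableEq ι] {N : ℕ} (b : ι → Fin N)

theorem card_pairs :
    ∑ a : Fin N, Fintype.card {i // b i = a} * Fintype.card {i // b i = a} +
      2 * Fintype.card {p : ι × ι // b p.1 < b p.2} = Fintype.card ι * Fintype.card ι := by
  classical
  have hswap : Fintype.card {p : ι × ι // b p.2 < b p.1} =
      Fintype.card {p : ι × ι // b p.1 < b p.2} := by
    apply Fintype.card_congr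
    exact
      { toFun := fun p => ⟨p.1.swap, p.2⟩
        invFun := fun p => ⟨p.1.swap, p.2⟩
        left_inv := fun p => by simp
        right_inv := fun p => by simp }
  have heq : Fintype.card {p : ι × ι // b p.1 = b p.2} =
      ∑ a : Fin N, Fintype.card {i // b i = a} * Fintype.card {i // b i = a} := by
    have e : {p : ι × ι // b p.1 = b p.2} ≃ Σ a : Fin N, {i // b i = a} × {i // b i = a} :=
      { toFun := fun p => ⟨b p.1.2, ⟨p.1.1, p.2⟩, ⟨p.1.2, rfl⟩⟩
        invFun := fun x => ⟨(x.2.1.1, x.2.2.1), x.2.1.2.trans x.2.2.2.symm⟩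
        left_inv := fun p => by simp
        right_inv := by
          rintro ⟨a, ⟨i, hi⟩, ⟨j, hj⟩⟩
          subst hj
          simp }
    rw [Fintype.card_congr e, Fintype.card_sigma]
    apply Finset.sum_congr rfl
    intro a _
    rw [Fintype.card_prod]
  have htot : Fintype.card {p : ι × ι // b p.1 = b p.2} +
      Fintype.card {p : ι × ι // b p.1 < b p.2} + Fintype.card {p : ι × ι // b p.2 < b p.1} =
      Fintype.card (ι × ι) := by
    rw [Fintype.card_subtype, Fintype.card_subtype, Fintype.card_subtype, ← Finset.card_univ]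
    rw [← Finset.card_union_of_disjoint, ← Finset.card_union_of_disjoint]
    · congr 1
      ext p
      simp only [Finset.mem_union, Finset.mem_filter, Finset.mem_univ, true_and, iff_true]
      rcases lt_trichotomy (b p.1) (b p.2) with h | h | h
      · exact Or.inl (Or.inr h)
      · exact Or.inl (Or.inl h)
      · exact Or.inr h
    · rw [Finset.disjoint_left]
      intro p hp
      simp only [Finset.mem_union, Finset.mem_filter, Finset.mem_univ, true_and] at hp ⊢
      rcases hp with h | h
      · rw [h]; exact lt_irrefl _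
      · exact lt_asymm h
    · rw [Finset.disjoint_left]
      intro p hp
      simp only [Finset.mem_filter, Finset.mem_univ, true_and] at hp ⊢
      rw [hp]; exact lt_irrefl _
  rw [Fintype.card_prod, heq, hswap] at htot
  omega

end Pairs

section Main

variable {F : Type*} [Field F] [Fintype F] {n : ℕ} (μ : Fin n → ℕ)

/-- the parabolic subgroup as a set of matrices -/
def parabolicEquiv :
    ↥(Cfsg.parabolicGL n F μ) ≃ {M : Matrix (Fin n) (Fin n) F // M.BlockTriangular (lab μ) ∧ M.det ≠ 0} where
  toFun g := ⟨g.1.1, by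
    refine ⟨?_, Matrix.GeneralLinearGroup.det_ne_zero g.1⟩
    have := g.2
    intro i j hij
    exact this hij⟩
  invFun M := ⟨Matrix.GeneralLinearGroup.mkOfDetNeZero M.1 M.2.2, by
    intro i j hij
    exact M.2.1 hij⟩
  left_inv g := by
    apply Subtype.ext
    apply Units.ext
    rfl
  right_inv M := by
    apply Subtype.ext
    rfl

theorem card_parabolic (hμ : ∑ i, μ i = n) :
    Nat.card ↥(Cfsg.parabolicGL n F μ) =
      (∏ a : Fin (n + 1), glCard (Fintype.card F) (μext μ a)) *
        Fintype.card F ^ Fintype.card {p : Fin n × Fin n // lab μ p.1 < lab μ p.2} := by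
  rw [Nat.card_congr (parabolicEquiv μ), card_btInv]
  congr 1
  apply Finset.prod_congr rfl
  intro a _
  rw [card_fiber μ hμ a]

end Main

theorem result {F : Type*} [Field F] [Fintype F] {q : ℕ} (hq : Fintype.card F = q) {n : ℕ} (μ : Fin n → ℕ) (hμ : ∑ i, μ i = n) :
    Nat.card (GL (Fin n) F ⧸ Cfsg.parabolicGL n F μ) * ∏ i : Fin n, ∏ j ∈ Finset.range (μ i), ∑ l ∈ Finset.range (j + 1), q ^ l =
      ∏ j ∈ Finset.range n, ∑ l ∈ Finset.range (j + 1), q ^ l := by
  subst hq
  set q := Fintype.card F with hq
  have hq2 : 2 ≤ q := Fintype.one_lt_card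
  have hq1 : 1 ≤ q := by omega
  set U := Fintype.card {p : Fin n × Fin n // lab μ p.1 < lab μ p.2} with hU
  set idx := Nat.card (GL (Fin n) F ⧸ Cfsg.parabolicGL n F μ) with hidx
  -- Lagrange
  have hlag : Nat.card ↥(Cfsg.parabolicGL n F μ) * idx = Nat.card (GL (Fin n) F) := by
    have := Subgroup.card_mul_index (Cfsg.parabolicGL n F μ)
    rwa [Subgroup.index_eq_card] at this
  rw [card_parabolic μ hμ, Matrix.card_GL_field] at hlag
  change _ = glCard q n at hlag
  -- the sizes
  have hsum : ∑ a, μext μ a = n := by rw [sum_μext, hμ]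
  have hpairs := card_pairs (lab μ)
  simp only [card_fiber μ hμ, Fintype.card_fin] at hpairs
  have htri : ∑ a, tri (μext μ a) + U = tri n := by
    have h1 : ∀ a : Fin (n + 1), μext μ a * μext μ a = 2 * tri (μext μ a) + μext μ a :=
      fun a => (two_tri_add _).symm
    rw [Finset.sum_congr rfl (fun a _ => h1 a), Finset.sum_add_distrib, ← Finset.mul_sum, hsum] at hpairs
    have h2 := two_tri_add n
    omega
  -- expand the orders
  rw [glCard_eq q n hq1, Finset.prod_congr rfl (fun a _ => glCard_eq q (μext μ a) hq1),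
    Finset.prod_mul_distrib, Finset.prod_mul_distrib, Finset.prod_pow_eq_pow_sum,
    Finset.prod_pow_eq_pow_sum, hsum] at hlag
  -- the q-factorials
  have hQ : ∏ a, qFact q (μext μ a) = ∏ i : Fin n, qFact q (μ i) := by
    rw [Fin.prod_univ_castSucc]
    have h1 : μext μ (Fin.last n) = 0 := by
      unfold μext
      rw [dif_neg]
      simp
    rw [h1]
    have h2 : qFact q 0 = 1 := by simp [qFact]
    rw [h2, mul_one]
    apply Finset.prod_congr rfl
    intro i _
    unfold μext
    rw [dif_pos (show (Fin.castSucc i).val < n from i.isLt)]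
    rfl
  rw [hQ] at hlag
  have hpos : 0 < q ^ tri n * (q - 1) ^ n := by
    apply Nat.mul_pos
    · exact pow_pos (by omega) _
    · exact pow_pos (by omega) _
  have hfin : q ^ tri n * (q - 1) ^ n * (idx * ∏ i : Fin n, qFact q (μ i)) =
      q ^ tri n * (q - 1) ^ n * qFact q n := by
    rw [← hlag, ← htri, pow_add]
    ring
  exact Nat.eq_of_mul_eq_mul_left hpos hfin

end Cfsg.Agent.S2420
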