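import Mathlib
import Cfsg.Statements.S2424
import Cfsg.Agent.S2420

set_option autoImplicit false
open Cfsg

namespace Cfsg.Agent.S2424

open Finset Polynomial

/-- the q-integer -/
def Q (q r : ℕ) : ℕ := ∑ l ∈ Finset.range r, q ^ l

/-- the q-factorial -/
def Qf (q r : ℕ) : ℕ := ∏ j ∈ Finset.range r, Q q (j + 1)

/-- the falling q-factorial -/
def Fall (q lam k : ℕ) : ℕ := ∏ t ∈ Finset.range k, Q q (lam - t)

/-- triangular numbers -/
def tri (m : ℕ) : ℕ := ∑ i ∈ Finset.range m, i

theorem Q_zero (q : ℕ) : Q q 0 = 0 := by simp [Q]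

theorem Qf_succ (q m : ℕ) : Qf q (m + 1) = Qf q m * Q q (m + 1) := by
  unfold Qf
  rw [Finset.prod_range_succ]

theorem Fall_succ (q lam k : ℕ) : Fall q lam (k + 1) = Fall q lam k * Q q (lam - k) := by
  unfold Fall
  rw [Finset.prod_range_succ]

theorem tri_succ (m : ℕ) : tri (m + 1) = tri m + m := by
  unfold tri
  rw [Finset.sum_range_succ]

theorem Qf_eq_mul_Fall (q lam : ℕ) : ∀ k, k ≤ lam → Qf q lam = Qf q (lam - k) * Fall q lam k := by
  intro k
  induction k with
  | zero =>
    intro _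
    simp [Fall]
  | succ k ih =>
    intro hk
    have h1 := ih (by omega)
    have h2 : lam - k = (lam - (k + 1)) + 1 := by omega
    rw [Fall_succ, h1, h2, Qf_succ, ← h2]
    ring

theorem Fall_eq_zero (q lam k : ℕ) (h : lam < k) : Fall q lam k = 0 := by
  unfold Fall
  apply Finset.prod_eq_zero (Finset.mem_range.2 h)
  rw [Nat.sub_self, Q_zero]

theorem Q_split (q lam k : ℕ) (hk : k ≤ lam) : Q q lam = Q q k + q ^ k * Q q (lam - k) := by
  unfold Q
  have h1 : lam = k + (lam - k) := by omega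
  conv_lhs => rw [h1, Finset.sum_range_add]
  congr 1
  rw [Finset.mul_sum]
  apply Finset.sum_congr rfl
  intro x _
  rw [pow_add]

/-- the falling factorial as a product of differences of q-integers -/
theorem Fall_eq_prod (q lam k : ℕ) :
    ((q : ℂ) ^ tri k) * (Fall q lam k : ℂ) = ∏ t ∈ Finset.range k, ((Q q lam : ℂ) - (Q q t : ℂ)) := by
  rcases Nat.lt_or_ge lam k with h | h
  · rw [Fall_eq_zero q lam k h, Nat.cast_zero, mul_zero]
    symm
    apply Finset.prod_eq_zero (Finset.mem_range.2 h)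
    exact sub_self _
  · induction k with
    | zero => simp [tri, Fall]
    | succ k ih =>
      have h1 := ih (by omega)
      have h2 := Q_split q lam k (by omega)
      rw [Finset.prod_range_succ, ← h1, Fall_succ, tri_succ, pow_add, h2]
      push_cast
      ring

theorem two_tri_succ (m : ℕ) : 2 * tri (m + 1) = (m + 1) * m := by
  induction m with
  | zero => simp [tri]
  | succ m ih =>
    rw [tri_succ, mul_add, ih]
    ring

theorem six_sum_tri (m : ℕ) : 6 * ∑ j ∈ Finset.range (m + 2), tri j = (m + 2) * (m + 1) * m := by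
  induction m with
  | zero => simp [tri, Finset.sum_range_succ]
  | succ m ih =>
    rw [Finset.sum_range_succ, mul_add, ih]
    have h3 : 6 * tri (m + 2) = 3 * ((m + 2) * (m + 1)) := by
      rw [← two_tri_succ (m + 1)]
      ring
    rw [h3]
    ring

theorem sum_tri (n : ℕ) : ∑ j ∈ Finset.range n, tri j = n * (n - 1) * (n - 2) / 6 := by
  rcases n with _ | n
  · simp
  · rcases n with _ | n
    · simp [tri]
    · have h := six_sum_tri n
      have e1 : n + 1 + 1 - 1 = n + 1 := by omega
      have e2 : n + 1 + 1 - 2 = n := by omega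
      rw [e1, e2, show n + 1 + 1 = n + 2 from rfl, ← h,
        Nat.mul_div_cancel_left _ (by norm_num : 0 < 6)]

theorem fixedPointCharacter_one {G : Type*} [Group G] (H : Subgroup G) :
    Cfsg.fixedPointCharacter H 1 = (Nat.card (G ⧸ H) : ℂ) := by
  unfold Cfsg.fixedPointCharacter
  congr 1
  apply Nat.card_congr
  refine ⟨fun x => x.1, fun x => ⟨x, ?_⟩, fun x => rfl, fun x => rfl⟩
  rw [MulAction.mem_fixedBy, one_smul]

/-- Degrees of the partition-indexed irreducible characters of `GL_n(q)`: for `ν` a partition of `n` with `n` non-decreasing parts `ν_0 ≤ ⋯ ≤ ν_{n−1}` (zeros allowed; positions counted from 0) and `λ_i = ν_i + i`, write `Q(r)` for the q-integer `1 + q + ⋯ + q^(r−1)` and `Q!(r)` for `Q(1)Q(2)⋯Q(r)`; then the degree `γ(ν)` of the character satisfies `γ(ν) · q^(n(n−1)(n−2)/6) · ∏_i Q!(λ_i) = Q!(n) · ∏_{i<j} (Q(λ_j) − Q(λ_i))`. For `ν = (1,…,1)` this gives the Steinberg degree `q^(n(n−1)/2)`, for `ν = (0,…,0,n)` degree 1. -/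
theorem result {F : Type*} [Field F] [Fintype F] {q : ℕ} (hq : Fintype.card F = q) {n : ℕ} (ν : Fin n → ℕ) (hmono : Monotone ν) (hsum : ∑ i, ν i = n) :
    Cfsg.unipotentCharacterGL n F ν 1 * (q : ℂ) ^ (n * (n - 1) * (n - 2) / 6) *
        ∏ i : Fin n, ∏ j ∈ Finset.range (ν i + i.val), ((∑ l ∈ Finset.range (j + 1), q ^ l : ℕ) : ℂ) =
      (∏ j ∈ Finset.range n, ((∑ l ∈ Finset.range (j + 1), q ^ l : ℕ) : ℂ)) *
        ∏ i : Fin n, ∏ j ∈ Finset.univ.filter (fun j : Fin n => i < j),
          (((∑ l ∈ Finset.range (ν j + j.val), q ^ l : ℕ) : ℂ) - ((∑ l ∈ Finset.range (ν i + i.val), q ^ l : ℕ) : ℂ)) := by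
  classical
  -- notation
  set lam : Fin n → ℕ := fun i => ν i + i.val with hlam
  have hQf : ∀ r : ℕ, (∏ j ∈ Finset.range r, ((∑ l ∈ Finset.range (j + 1), q ^ l : ℕ) : ℂ)) =
      (Qf q r : ℂ) := by
    intro r
    unfold Qf Q
    push_cast
    rfl
  have hQ : ∀ r : ℕ, ((∑ l ∈ Finset.range r, q ^ l : ℕ) : ℂ) = (Q q r : ℂ) := fun r => rfl
  have hQf' : ∀ r : ℕ, (∏ j ∈ Finset.range r, (Q q (j + 1) : ℂ)) = (Qf q r : ℂ) := by
    intro r
    unfold Qf
    push_cast
    rfl
  simp only [hQ, hQf']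
  -- each term of the alternating sum
  have hterm : ∀ κ : Equiv.Perm (Fin n),
      (if ∀ i : Fin n, (κ i).val ≤ ν i + i.val then
        ((Equiv.Perm.sign κ : ℤ) : ℂ) *
          Cfsg.fixedPointCharacter (Cfsg.parabolicGL n F fun i => ν i + i.val - (κ i).val) 1
        else 0) * ∏ i : Fin n, (Qf q (lam i) : ℂ) =
      (Qf q n : ℂ) * (((Equiv.Perm.sign κ : ℤ) : ℂ) * ∏ i : Fin n, (Fall q (lam i) (κ i).val : ℂ)) := by
    intro κ
    split_ifs with hc
    · have hμsum : ∑ i : Fin n, (ν i + i.val - (κ i).val) = n := by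
        have h1 : ∑ i : Fin n, (ν i + i.val - (κ i).val) + ∑ i : Fin n, (κ i).val =
            ∑ i : Fin n, ν i + ∑ i : Fin n, i.val := by
          rw [← Finset.sum_add_distrib, ← Finset.sum_add_distrib]
          apply Finset.sum_congr rfl
          intro i _
          have := hc i
          omega
        have h2 : ∑ i : Fin n, (κ i).val = ∑ i : Fin n, i.val :=
          Equiv.sum_comp κ (fun i : Fin n => i.val)
        omega
      have h20 := Cfsg.Agent.S2420.result hq (fun i => ν i + i.val - (κ i).val) hμsum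
      have h20' : (Nat.card (GL (Fin n) F ⧸ Cfsg.parabolicGL n F fun i => ν i + i.val - (κ i).val) : ℂ) *
          ∏ i : Fin n, (Qf q (ν i + i.val - (κ i).val) : ℂ) = (Qf q n : ℂ) := by
        have := congrArg (fun x : ℕ => (x : ℂ)) h20
        simp only [Nat.cast_mul, Nat.cast_prod] at this
        simp only [hQf] at this
        exact this
      have hsplit : ∏ i : Fin n, (Qf q (lam i) : ℂ) =
          (∏ i : Fin n, (Qf q (ν i + i.val - (κ i).val) : ℂ)) *
            ∏ i : Fin n, (Fall q (lam i) (κ i).val : ℂ) := by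
        rw [← Finset.prod_mul_distrib]
        apply Finset.prod_congr rfl
        intro i _
        rw [Qf_eq_mul_Fall q (lam i) (κ i).val (hc i)]
        push_cast
        rfl
      rw [fixedPointCharacter_one, hsplit, ← h20']
      ring
    · rw [zero_mul]
      rw [not_forall] at hc
      obtain ⟨i, hi⟩ := hc
      have h0 : ∏ i : Fin n, (Fall q (lam i) (κ i).val : ℂ) = 0 := by
        apply Finset.prod_eq_zero (Finset.mem_univ i)
        have hlt : lam i < (κ i).val := by
          show ν i + i.val < (κ i).val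
          omega
        rw [Fall_eq_zero q (lam i) (κ i).val hlt, Nat.cast_zero]
      rw [h0, mul_zero, mul_zero]
  -- the determinant
  set M : Matrix (Fin n) (Fin n) ℂ := Matrix.of fun i j => (Fall q (lam i) j.val : ℂ) with hM
  have hγ : Cfsg.unipotentCharacterGL n F ν 1 * ∏ i : Fin n, (Qf q (lam i) : ℂ) =
      (Qf q n : ℂ) * M.det := by
    unfold Cfsg.unipotentCharacterGL
    rw [Finset.sum_mul, Finset.sum_congr rfl (fun κ _ => hterm κ), ← Finset.mul_sum,
      ← Matrix.det_transpose, Matrix.det_apply]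
    congr 1
    apply Finset.sum_congr rfl
    intro κ _
    rw [Units.smul_def, zsmul_eq_mul]
    rfl
  -- the Vandermonde evaluation
  set x : Fin n → ℂ := fun i => (Q q (lam i) : ℂ) with hx
  let P : Fin n → ℂ[X] := fun j => ∏ t ∈ Finset.range j.val, (X - C ((Q q t : ℂ)))
  have hPdeg : ∀ j, (P j).natDegree = j := by
    intro j
    show (∏ t ∈ Finset.range j.val, (X - C ((Q q t : ℂ)))).natDegree = (j : ℕ)
    rw [natDegree_prod_of_monic _ _ (fun t _ => monic_X_sub_C _),
      Finset.sum_congr rfl (fun t _ => natDegree_X_sub_C ((Q q t : ℂ))), Finset.sum_const,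
      Finset.card_range, smul_eq_mul, mul_one]
  have hPmonic : ∀ j, (P j).Monic := fun j => monic_prod_of_monic _ _ (fun t _ => monic_X_sub_C _)
  have hvand := Matrix.det_eval_matrixOfPolynomials_eq_det_vandermonde x P hPdeg hPmonic
  have hscale : (Matrix.of fun i j => (P j).eval (x i)) =
      Matrix.of fun i j => ((q : ℂ) ^ tri j.val) * M i j := by
    ext i j
    simp only [Matrix.of_apply, hM]
    rw [Fall_eq_prod]
    show (∏ t ∈ Finset.range j.val, (X - C ((Q q t : ℂ)))).eval (x i) = _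
    rw [eval_prod]
    apply Finset.prod_congr rfl
    intro t _
    rw [eval_sub, eval_X, eval_C]
  rw [hscale, Matrix.det_mul_row, Matrix.det_vandermonde] at hvand
  have hexp : ∏ j : Fin n, ((q : ℂ) ^ tri j.val) = (q : ℂ) ^ (n * (n - 1) * (n - 2) / 6) := by
    rw [Finset.prod_pow_eq_pow_sum, Fin.sum_univ_eq_sum_range (fun j => tri j) n, sum_tri]
  rw [hexp] at hvand
  have hfinal : ∏ i : Fin n, ∏ j ∈ Finset.univ.filter (fun j : Fin n => i < j),
      ((Q q (ν j + j.val) : ℂ) - (Q q (ν i + i.val) : ℂ)) =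
      ∏ i : Fin n, ∏ j ∈ Finset.Ioi i, (x j - x i) := by
    apply Finset.prod_congr rfl
    intro i _
    apply Finset.prod_congr
    · ext j
      simp
    · intro j _
      rfl
  rw [hfinal, hvand]
  linear_combination ((q : ℂ) ^ (n * (n - 1) * (n - 2) / 6)) * hγ

end Cfsg.Agent.S2424
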