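import Cfsg.Statements.S0864
import Cfsg.Agent.Lib.Helper15_Linear

set_option autoImplicit false
open Cfsg

namespace Cfsg.Agent.S0864

open scoped Pointwise
open Cfsg.Agent.Lib.Helper15_Linear

/-- Transfer from `H` evaluated on an element of a normal subgroup `N ≤ H` of `G`, for a
hom whose restriction to `N` is `G`-invariant. -/
theorem transfer_of_normal_le {G : Type*} [Group G] (N H : Subgroup G) [hN : N.Normal]
    (hNH : N ≤ H) [H.FiniteIndex]
    {A : Type*} [CommGroup A] (ϕ : H →* A)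
    (hinv : ∀ (g : G) (n : N), ϕ ⟨g * n * g⁻¹, hNH (hN.conj_mem (n : G) n.2 g)⟩ = ϕ ⟨n, hNH n.2⟩)
    (g : N) :
    MonoidHom.transfer ϕ (g : G) = ϕ ⟨g, hNH g.2⟩ ^ H.index := by
  classical
  let _ := H.fintypeQuotientOfFiniteIndex
  let T : H.LeftTransversal := default
  rw [MonoidHom.transfer_def ϕ T]
  unfold Subgroup.leftTransversals.diff
  simp only
  have key : ∀ q : G ⧸ H, ∀ h,
      ϕ ⟨((T.2.leftQuotientEquiv q : G))⁻¹ * (((g : G) • T).2.leftQuotientEquiv q : G), h⟩
        = ϕ ⟨g, hNH g.2⟩ := by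
    intro q h
    have h1 : ((((g : G) • T).2.leftQuotientEquiv q : G)) =
        (g : G) * (T.2.leftQuotientEquiv ((g : G)⁻¹ • q) : G) := by
      rw [Subgroup.smul_apply_eq_smul_apply_inv_smul]; rfl
    have h2 : (g : G)⁻¹ • q = q := by
      induction q using QuotientGroup.induction_on with
      | H x =>
        rw [MulAction.Quotient.smul_mk, smul_eq_mul]
        rw [QuotientGroup.eq]
        have : ((g : G)⁻¹ * x)⁻¹ * x = x⁻¹ * (g : G) * x := by group
        rw [this]
        have := hN.conj_mem (g : G) g.2 x⁻¹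
        apply hNH
        simpa using this
    have := hinv ((T.2.leftQuotientEquiv q : G))⁻¹ g
    rw [← this]
    congr 1
    apply Subtype.ext
    simp only [h1, h2]
    group
  rw [Finset.prod_congr rfl (fun q _ => key q _), Finset.prod_const, Finset.card_univ,
    Subgroup.index_eq_card, Nat.card_eq_fintype_card]

/-- Let N be a normal subgroup of the finite group G and λ a character of N of degree 1 invariant under conjugation by G. Suppose that for every prime p dividing the order of λ (in the group of functions under pointwise multiplication) there is a subgroup H containing N, of index prime to p and with the index of N in H a power of p, together with a character of H of degree 1 restricting to λ. Then λ is the restriction of a character of G of degree 1. -/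
theorem result {G : Type*} [Group G] [Finite G] (N : Subgroup G) [hN : N.Normal] (lam : N → ℂ) (hlam : Cfsg.IsCharacter N lam ∧ lam 1 = 1) (hinv : ∀ (g : G) (n : N), lam ⟨g * n * g⁻¹, hN.conj_mem (n : G) n.2 g⟩ = lam n) (hsyl : ∀ p : ℕ, p.Prime → p ∣ orderOf lam → ∃ (H : Subgroup G) (hNH : N ≤ H) (ν : H → ℂ), Nat.Coprime H.index p ∧ (∃ k : ℕ, N.relIndex H = p ^ k) ∧ Cfsg.IsCharacter H ν ∧ ν 1 = 1 ∧ ∀ n : N, ν ⟨(n : G), hNH n.2⟩ = lam n) : ∃ μ : G → ℂ, Cfsg.IsCharacter G μ ∧ μ 1 = 1 ∧ ∀ n : N, μ n = lam n := by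
  classical
  obtain ⟨hchar, h1⟩ := hlam
  set m := orderOf lam with hm
  have lam_mul : ∀ a b : N, lam (a * b) = lam a * lam b := linear_mul lam hchar h1
  have lam_pow : ∀ (a : N) (k : ℕ), lam (a ^ k) = lam a ^ k := by
    intro a k
    induction k with
    | zero => simp [h1]
    | succ k ih => rw [pow_succ, lam_mul, ih, pow_succ]
  have hlamfin : lam ^ Nat.card N = 1 := by
    funext a
    rw [Pi.pow_apply, ← lam_pow, pow_card_eq_one', h1]; rfl
  have hmpos : 0 < m := by
    rw [hm]
    exact orderOf_pos_iff.2 (isOfFinOrder_iff_pow_eq_one.2 ⟨Nat.card N, Nat.card_pos, hlamfin⟩)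
  have hlam_m : ∀ a : N, lam a ^ m = 1 := by
    intro a
    have := congrFun (pow_orderOf_eq_one lam) a
    simpa using this
  let lamH : N →* ℂ := linearHom lam hchar h1
  let lamU : N →* ℂˣ := lamH.toHomUnits
  have hlamU : ∀ a : N, ((lamU a : ℂˣ) : ℂ) = lam a := fun a => rfl
  have hlamU_m : ∀ a : N, lamU a ^ m = 1 := by
    intro a
    apply Units.ext
    rw [Units.val_pow_eq_pow_val, hlamU, hlam_m]; rfl
  -- the subgroup of achievable exponents
  let S : AddSubgroup ℤ :=
    { carrier := {k : ℤ | ∃ μ : G →* ℂˣ, ∀ a : N, μ (a : G) = lamU a ^ k}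
      zero_mem' := ⟨1, fun a => by simp⟩
      add_mem' := by
        rintro k l ⟨μ, hμ⟩ ⟨μ', hμ'⟩
        refine ⟨μ * μ', fun a => ?_⟩
        rw [MonoidHom.mul_apply, hμ, hμ', zpow_add]
      neg_mem' := by
        rintro k ⟨μ, hμ⟩
        refine ⟨μ⁻¹, fun a => ?_⟩
        rw [MonoidHom.inv_apply, hμ, zpow_neg] }
  have hmS : (m : ℤ) ∈ S := ⟨1, fun a => by
    rw [zpow_natCast, hlamU_m]; rfl⟩
  have hpS : ∀ p : ℕ, p.Prime → p ∣ m → ∃ j : ℕ, Nat.Coprime j p ∧ (j : ℤ) ∈ S := by
    intro p hp hpm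
    obtain ⟨H, hNH, ν, hcop, -, hνc, hν1, hνN⟩ := hsyl p hp hpm
    let νH : H →* ℂ := linearHom ν hνc hν1
    let νU : H →* ℂˣ := νH.toHomUnits
    have hνU : ∀ a : H, ((νU a : ℂˣ) : ℂ) = ν a := fun a => rfl
    have hνUN : ∀ a : N, νU ⟨a, hNH a.2⟩ = lamU a := by
      intro a
      apply Units.ext
      rw [hνU, hlamU, hνN]
    refine ⟨H.index, hcop, MonoidHom.transfer νU, fun a => ?_⟩
    rw [transfer_of_normal_le N H hNH νU ?_ a, hνUN, zpow_natCast]
    intro g n
    rw [hνUN n]
    have := hνUN ⟨g * n * g⁻¹, hN.conj_mem (n : G) n.2 g⟩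
    rw [this]
    apply Units.ext
    rw [hlamU, hlamU]
    exact hinv g n
  have h1S : (1 : ℤ) ∈ S := by
    obtain ⟨d, hd⟩ := Int.subgroup_cyclic S
    have hdm : d ∣ (m : ℤ) := by
      rw [hd] at hmS
      obtain ⟨c, hc⟩ := AddSubgroup.mem_closure_singleton.1 hmS
      exact ⟨c, by rw [← hc]; simp [mul_comm]⟩
    have hunit : d.natAbs = 1 := by
      by_contra hne
      obtain ⟨p, hp, hpd⟩ := Nat.exists_prime_and_dvd hne
      have hpm : p ∣ m := by
        have : (p : ℤ) ∣ (m : ℤ) := dvd_trans (Int.natCast_dvd.2 hpd) hdm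
        exact_mod_cast this
      obtain ⟨j, hj, hjS⟩ := hpS p hp hpm
      rw [hd] at hjS
      obtain ⟨c, hc⟩ := AddSubgroup.mem_closure_singleton.1 hjS
      have hdj : d ∣ (j : ℤ) := ⟨c, by rw [← hc]; simp [mul_comm]⟩
      have hpj : p ∣ j := by
        have : (p : ℤ) ∣ (j : ℤ) := dvd_trans (Int.natCast_dvd.2 hpd) hdj
        exact_mod_cast this
      have := Nat.dvd_gcd hpj (dvd_refl p)
      rw [hj] at this
      exact hp.one_lt.ne' (Nat.dvd_one.1 this)
    rw [hd]
    rcases Int.natAbs_eq d with h | h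
    · rw [h, hunit]
      exact AddSubgroup.subset_closure (by simp)
    · have : (1 : ℤ) = -d := by rw [h, hunit]; simp
      rw [this]
      exact AddSubgroup.neg_mem _ (AddSubgroup.subset_closure (by simp))
  obtain ⟨μu, hμu⟩ := h1S
  let μH : G →* ℂ := (Units.coeHom ℂ).comp μu
  have hμchar := isCharacter_of_hom μH
  refine ⟨fun g => μH g, hμchar.1, hμchar.2, fun a => ?_⟩
  show ((μu (a : G) : ℂˣ) : ℂ) = lam a
  rw [hμu, zpow_one, hlamU]

end Cfsg.Agent.S0864
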