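import Cfsg.Statements.S4665
import Mathlib.Analysis.Complex.Polynomial.Basic

set_option autoImplicit false
open Cfsg

namespace Cfsg.Agent.S4665

open scoped Classical in
/-- The bilinear pairing of two irreducible characters: `1` if they are equal and `0` otherwise. -/
theorem irr_pairing {G : Type*} [Group G] [Fintype G] (χ ψ : G → ℂ) (hχ : IsIrrCharacter G χ)
    (hψ : IsIrrCharacter G ψ) :
    (Nat.card G : ℂ)⁻¹ * ∑ g : G, χ g * ψ g⁻¹ = if χ = ψ then 1 else 0 := by
  obtain ⟨n, ρ, hρ, rfl⟩ := hχ
  obtain ⟨m, σ, hσ, rfl⟩ := hψ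
  have : Invertible (Nat.card G : ℂ) := invertibleOfNonzero (by
    exact_mod_cast Nat.card_pos.ne')
  have h := Representation.char_orthonormal ρ σ
  rw [h]
  by_cases he : Nonempty (Representation.Equiv σ ρ)
  · obtain ⟨φ⟩ := he
    have : ρ.character = σ.character := (Representation.char_iso φ).symm
    simp [this, Nonempty.intro φ]
  · rw [if_neg he]
    by_cases hc : ρ.character = σ.character
    · exfalso
      -- equal characters but not isomorphic: the pairing of `ρ` with itself is `1`
      have h1 := Representation.char_orthonormal ρ ρ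
      rw [if_pos ⟨Representation.Equiv.refl ρ⟩] at h1
      have h2 := Representation.char_orthonormal ρ σ
      rw [if_neg he, ← hc, h1] at h2
      exact one_ne_zero h2
    · rw [if_neg hc]

/-- The irreducible characters of a finite group are linearly independent. -/
theorem irr_linearIndependent {G : Type*} [Group G] [Fintype G] :
    LinearIndependent ℂ (fun χ : IrrCharacter G => (χ : G → ℂ)) := by
  classical
  rw [linearIndependent_iff']
  intro s c hc ψ hψ
  have h1 : (Nat.card G : ℂ)⁻¹ * ∑ g : G, (∑ χ ∈ s, c χ • (χ : G → ℂ)) g * (ψ : G → ℂ) g⁻¹ = 0 := by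
    rw [hc]; simp
  have h2 : (Nat.card G : ℂ)⁻¹ * ∑ g : G, (∑ χ ∈ s, c χ • (χ : G → ℂ)) g * (ψ : G → ℂ) g⁻¹
      = ∑ χ ∈ s, c χ * ((Nat.card G : ℂ)⁻¹ * ∑ g : G, (χ : G → ℂ) g * (ψ : G → ℂ) g⁻¹) := by
    simp only [Finset.sum_apply, Pi.smul_apply, smul_eq_mul, Finset.sum_mul, Finset.mul_sum]
    rw [Finset.sum_comm]
    refine Finset.sum_congr rfl fun χ _ => Finset.sum_congr rfl fun g _ => by ring
  rw [h2] at h1
  simp only [irr_pairing _ _ (Subtype.property _) ψ.2] at h1
  have h3 : ∀ χ ∈ s, c χ * (if (χ : G → ℂ) = (ψ : G → ℂ) then (1 : ℂ) else 0) = if χ = ψ then c χ else 0 := by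
    intro χ _
    by_cases h : χ = ψ
    · simp [h]
    · have : ¬ ((χ : G → ℂ) = (ψ : G → ℂ)) := fun h' => h (Subtype.ext h')
      simp [h, this]
  rw [Finset.sum_congr rfl h3, Finset.sum_ite_eq' s ψ, if_pos hψ] at h1
  exact h1

/-- A finite group has finitely many irreducible characters. -/
theorem irr_finite {G : Type*} [Group G] [Fintype G] : Finite (IrrCharacter G) :=
  irr_linearIndependent.finite_of_isNoetherian

/-- The sum of a character over a subgroup is the order of the subgroup times a natural number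
(the dimension of the fixed space). -/
theorem sum_subgroup_char {G : Type*} [Group G] (ψ : G → ℂ) (hψ : IsCharacter G ψ)
    (P : Subgroup G) [Fintype P] :
    ∃ d : ℕ, ∑ x : P, ψ x = (Nat.card P : ℂ) * d := by
  obtain ⟨n, ρ, rfl⟩ := hψ
  have hne : (Nat.card P : ℂ) ≠ 0 := by exact_mod_cast Nat.card_pos.ne'
  have : Invertible (Nat.card P : ℂ) := invertibleOfNonzero hne
  let σ : Representation ℂ P (Fin n → ℂ) := ρ.comp P.subtype
  have h := Representation.card_inv_mul_sum_char_eq_finrank σ
  refine ⟨Module.finrank ℂ (Representation.invariants σ), ?_⟩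
  rw [← h, ← mul_assoc, mul_inv_cancel₀ hne, one_mul]
  rfl

theorem isCharacter_of_irr {G : Type*} [Group G] (ψ : IrrCharacter G) :
    IsCharacter G (ψ : G → ℂ) := by
  obtain ⟨n, ρ, _, h⟩ := ψ.2
  exact ⟨n, ρ, h⟩

/-- Fix a prime p, a maximal ideal M of the algebraic integers containing p, and a p-block B of the finite group G, and let p^a be the p-part of the order of G. Let χ be an integer combination of the irreducible characters in B. If the function that agrees with χ on p-regular elements and vanishes on p-singular elements is again an integer combination of the irreducible characters in B, then p^a divides χ(1). -/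
theorem result {G : Type*} [Group G] [Fintype G] (p : ℕ) [Fact p.Prime] (M : Ideal Cfsg.AlgInt) (hM : Cfsg.IsPModular p M) (B : Set (Cfsg.IrrCharacter G)) (hB : Cfsg.IsPBlock M B) (χ : G → ℂ) (hχ : (∃ n : Cfsg.IrrCharacter G → ℤ, ∀ g : G, χ g = ∑ᶠ ψ ∈ B, (n ψ : ℂ) * (ψ : G → ℂ) g)) (h0 : (∃ n : Cfsg.IrrCharacter G → ℤ, ∀ g : G, Cfsg.pRegularPart p χ g = ∑ᶠ ψ ∈ B, (n ψ : ℂ) * (ψ : G → ℂ) g)) : ∃ k : ℤ, χ 1 = (p ^ (Nat.card G).factorization p : ℂ) * k := by
  classical
  obtain ⟨m, hm⟩ := h0
  have hfin : Finite (IrrCharacter G) := irr_finite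
  have hBfin : B.Finite := Set.toFinite B
  -- a Sylow `p`-subgroup
  obtain ⟨P⟩ : Nonempty (Sylow p G) := inferInstance
  have hPcard : Nat.card (P : Subgroup G) = p ^ (Nat.card G).factorization p :=
    P.card_eq_multiplicity
  have := Fintype.ofFinite (P : Subgroup G)
  -- the sum of the `p`-regular part over `P` is `χ 1`
  have hsum1 : ∑ x : (P : Subgroup G), pRegularPart p χ (x : G) = χ 1 := by
    rw [Finset.sum_eq_single (1 : (P : Subgroup G))]
    · simp [pRegularPart, IsPRegular, (Fact.out : p.Prime).one_lt.ne']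
    · intro x _ hx
      have hx1 : (x : G) ≠ 1 := fun h => hx (Subtype.ext h)
      obtain ⟨k, hk⟩ := (P.isPGroup'.to_le le_rfl) x
      have hord : orderOf (x : G) ∣ p ^ k := by
        rw [orderOf_dvd_iff_pow_eq_one]
        simpa using congrArg Subtype.val hk
      obtain ⟨j, _, hj⟩ := (Nat.dvd_prime_pow Fact.out).mp hord
      have hj0 : j ≠ 0 := by
        rintro rfl
        rw [pow_zero, orderOf_eq_one_iff] at hj
        exact hx1 hj
      have : p ∣ orderOf (x : G) := by rw [hj]; exact dvd_pow_self p hj0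
      have h2 : ¬ IsPRegular p (x : G) := fun h => h this
      simp only [pRegularPart, if_neg h2]
    · intro h; exact absurd (Finset.mem_univ _) h
  -- on the other hand it is `|P|` times an integer
  choose d hd using fun ψ : IrrCharacter G =>
    sum_subgroup_char (ψ : G → ℂ) (isCharacter_of_irr ψ) (P : Subgroup G)
  have hsum2 : ∑ x : (P : Subgroup G), pRegularPart p χ (x : G)
      = (Nat.card (P : Subgroup G) : ℂ) * ((∑ ψ ∈ hBfin.toFinset, m ψ * (d ψ : ℤ) : ℤ) : ℂ) := by
    simp only [hm, finsum_mem_eq_finite_toFinset_sum _ hBfin]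
    rw [Finset.sum_comm]
    push_cast
    rw [Finset.mul_sum]
    refine Finset.sum_congr rfl fun ψ _ => ?_
    rw [← Finset.mul_sum, hd ψ]
    ring
  refine ⟨∑ ψ ∈ hBfin.toFinset, m ψ * (d ψ : ℤ), ?_⟩
  rw [← hsum1, hsum2, hPcard]
  push_cast
  ring

end Cfsg.Agent.S4665
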