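import Cfsg.Statements.S0914
import Cfsg.Agent.Lib.Helper77_WeakOrth
import Cfsg.Agent.S0135
import Cfsg.Agent.S4665

set_option autoImplicit false
open Cfsg

namespace Cfsg.Agent.S0914

open scoped ComplexConjugate
open Cfsg.Agent.Lib.Helper78_LocalRing

/-- The degree of an irreducible character, as a natural number dividing the group order. -/
theorem exists_degree {G : Type*} [Group G] [Finite G] (χ : IrrCharacter G) :
    ∃ n : ℕ, 0 < n ∧ (χ : G → ℂ) 1 = n ∧ charDegree (χ : G → ℂ) = n ∧ n ∣ Nat.card G := by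
  obtain ⟨n, ρ, hirr, hρ⟩ := χ.2
  have hdvd := @Cfsg.Agent.S0135.result G _ _ (Fin n → ℂ) _ _ _ ρ hirr
  rw [Module.finrank_fin_fun] at hdvd
  have h1 : (χ : G → ℂ) 1 = n := by
    rw [← hρ, Representation.char_one]
    simp
  have hpos : 0 < n := by
    rcases Nat.eq_zero_or_pos n with h0 | h0
    · exfalso
      obtain ⟨k, hk, hk1⟩ := Cfsg.Agent.Lib.Helper80_CharBasic.irr_apply_one χ
      rw [h1, h0] at hk1
      have : (k : ℂ) = 0 := by rw [← hk1]; simp
      have : k = 0 := by exact_mod_cast this
      omega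
    · exact h0
  refine ⟨n, hpos, h1, ?_, hdvd⟩
  unfold charDegree
  rw [h1]
  simp

/-- Let χ be an irreducible character of the finite group G, p a prime and M a maximal ideal of the algebraic integers containing p. Then p does not divide the integer (Nat.card G) / χ(1) if and only if the block of χ relative to M consists of χ alone. -/
theorem result {G : Type*} [Group G] [Finite G] (p : ℕ) [Fact p.Prime] (M : Ideal Cfsg.AlgInt) (hM : Cfsg.IsPModular p M) (χ : Cfsg.IrrCharacter G) : ¬ p ∣ Nat.card G / Cfsg.charDegree (χ : G → ℂ) ↔ Cfsg.blockOf M (χ : G → ℂ) = {χ} := by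
  classical
  have := Fintype.ofFinite G
  have hp : p.Prime := hM.1
  have hMp : M.IsPrime := hM.2.1.isPrime
  obtain ⟨n, hnpos, hχ1, hdeg, hndvd⟩ := exists_degree χ
  have hGpos : 0 < Nat.card G := Nat.card_pos
  have hGne : (Nat.card G : ℂ) ≠ 0 := by exact_mod_cast hGpos.ne'
  rw [hdeg]
  obtain ⟨k, hk⟩ := hndvd
  have hkdiv : Nat.card G / n = k := by rw [hk, Nat.mul_div_cancel_left _ hnpos]
  rw [hkdiv]
  have hkpos : 0 < k := by
    rcases Nat.eq_zero_or_pos k with h0 | h0
    · rw [h0, mul_zero] at hk; omega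
    · exact h0
  constructor
  · -- defect zero implies alone in its block
    intro hpk
    have hS : ∀ g : G, MemLocalRing M (blockCoeff ({χ} : Set (IrrCharacter G)) g) := by
      intro g
      have h1 : blockCoeff ({χ} : Set (IrrCharacter G)) g =
          conj ((χ : G → ℂ) g) * ((k : ℂ))⁻¹ := by
        unfold blockCoeff
        rw [finsum_mem_singleton, hχ1, hk]
        have hk0 : (k : ℂ) ≠ 0 := by exact_mod_cast hkpos.ne'
        have hn0 : (n : ℂ) ≠ 0 := by exact_mod_cast hnpos.ne'
        push_cast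
        field_simp
      rw [h1]
      apply memLocalRing_mul hMp
      · rw [← Cfsg.Agent.Lib.Helper80_CharBasic.irr_inv χ g]
        obtain ⟨n', ρ, hirr, hρ⟩ := χ.2
        rw [← hρ]
        exact memLocalRing_algInt hMp
          ⟨_, Cfsg.Agent.Lib.Helper3_CharEigen.isIntegral_char ρ g⁻¹⟩
      · exact memLocalRing_inv_natCast hM hpk
    apply Set.eq_singleton_iff_unique_mem.mpr
    refine ⟨sameBlock_refl hMp _, ?_⟩
    intro ψ hψ
    have := Cfsg.Agent.Lib.Helper78_CharFacts.mem_of_sameBlock_of_memLocalRing_blockCoeff' hMp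
      ({χ} : Set (IrrCharacter G)) hS (Set.mem_singleton χ) hψ
    exact this
  · -- alone in its block implies defect zero
    intro hB
    have hblock : IsPBlock M ({χ} : Set (IrrCharacter G)) := ⟨χ, hB.symm⟩
    -- `χ` vanishes at the `p`-singular elements
    have hvan : ∀ y : G, p ∣ orderOf y → (χ : G → ℂ) y = 0 := by
      intro y hy
      have h1 : ¬ p ∣ orderOf (1 : G) := by
        rw [orderOf_one]
        exact hp.one_lt.ne' ∘ Nat.dvd_one.mp
      have h2 := Cfsg.Agent.Lib.Helper77_WeakOrth.weak_orthogonality_block hM hblock 1 y h1 hy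
      rw [finsum_mem_singleton, hχ1] at h2
      have hn0 : (n : ℂ) ≠ 0 := by exact_mod_cast hnpos.ne'
      have h3 : conj ((χ : G → ℂ) y) = 0 := by
        rcases mul_eq_zero.mp h2 with h | h
        · exact absurd h hn0
        · exact h
      simpa using h3
    -- sum over a Sylow subgroup
    obtain ⟨P⟩ : Nonempty (Sylow p G) := inferInstance
    obtain ⟨a, ha⟩ : ∃ a : ℕ, a = (Nat.card G).factorization p := ⟨_, rfl⟩
    have hPcard : Nat.card (P : Subgroup G) = p ^ a := by
      rw [ha]; exact P.card_eq_multiplicity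
    have := Fintype.ofFinite (P : Subgroup G)
    have hsum1 : ∑ x : (P : Subgroup G), (χ : G → ℂ) (x : G) = (χ : G → ℂ) 1 := by
      rw [Finset.sum_eq_single (1 : (P : Subgroup G))]
      · simp
      · intro x _ hx
        have hx1 : (x : G) ≠ 1 := fun h => hx (Subtype.ext h)
        obtain ⟨j, hj⟩ := (P.isPGroup'.to_le le_rfl) x
        have hord : orderOf (x : G) ∣ p ^ j := by
          rw [orderOf_dvd_iff_pow_eq_one]
          simpa using congrArg Subtype.val hj
        obtain ⟨i, _, hi⟩ := (Nat.dvd_prime_pow hp).mp hord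
        have hi0 : i ≠ 0 := by
          rintro rfl
          rw [pow_zero, orderOf_eq_one_iff] at hi
          exact hx1 hi
        exact hvan _ (by rw [hi]; exact dvd_pow_self p hi0)
      · intro h; exact absurd (Finset.mem_univ _) h
    obtain ⟨d, hd⟩ := Cfsg.Agent.S4665.sum_subgroup_char (χ : G → ℂ)
      (Cfsg.Agent.S4665.isCharacter_of_irr χ) (P : Subgroup G)
    rw [hsum1, hχ1, hPcard] at hd
    have hd' : n = p ^ a * d := by exact_mod_cast hd
    -- now count
    intro hpk
    obtain ⟨c, hc⟩ := hpk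
    have h4 : p ^ (a + 1) ∣ Nat.card G := by
      rw [hk, hd', hc, pow_succ]
      exact ⟨d * c, by ring⟩
    have h5 := (Nat.Prime.pow_dvd_iff_le_factorization hp hGpos.ne').mp h4
    omega

end Cfsg.Agent.S0914
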