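import Cfsg.Statements.S0165
import Cfsg.Agent.S0914
import Cfsg.Agent.S0907
import Cfsg.Agent.Lib.Helper3_CharBridge

set_option autoImplicit false
open Cfsg

namespace Cfsg.Agent.S0165

open scoped ComplexConjugate

/-- For every prime `p` there is a maximal ideal of the algebraic integers containing `p`. -/
theorem exists_isPModular (p : ℕ) (hp : p.Prime) : ∃ M : Ideal AlgInt, IsPModular p M := by
  have hne : Ideal.span {(p : AlgInt)} ≠ ⊤ := by
    rw [Ne, Ideal.span_singleton_eq_top]
    intro hu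
    obtain ⟨b, hb⟩ := hu.exists_right_inv
    have hbint : IsIntegral ℤ (b : ℂ) := b.2
    have hpC : (p : ℂ) ≠ 0 := by exact_mod_cast hp.ne_zero
    have hbval : (b : ℂ) = algebraMap ℚ ℂ (1 / (p : ℚ)) := by
      have h1 := congrArg (fun x : AlgInt => (x : ℂ)) hb
      simp only [MulMemClass.coe_mul, OneMemClass.coe_one] at h1
      have h2 : ((p : AlgInt) : ℂ) = (p : ℂ) := by simp
      rw [h2] at h1
      rw [map_div₀, map_one, map_natCast]
      field_simp
      linear_combination h1
    rw [hbval] at hbint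
    have h3 : IsIntegral ℤ (1 / (p : ℚ)) :=
      (isIntegral_algebraMap_iff (algebraMap ℚ ℂ).injective).1 hbint
    obtain ⟨m, hm⟩ := IsIntegrallyClosed.isIntegral_iff.mp h3
    have hpQ : (p : ℚ) ≠ 0 := by exact_mod_cast hp.ne_zero
    have h4 : (m : ℚ) * (p : ℚ) = 1 := by
      have : (algebraMap ℤ ℚ m : ℚ) = (m : ℚ) := rfl
      rw [← this, hm]
      field_simp
    have h5 : m * (p : ℤ) = 1 := by exact_mod_cast h4
    have h6 : (p : ℤ) ∣ 1 := ⟨m, by rw [mul_comm]; exact h5.symm⟩
    have h7 : p ∣ 1 := by exact_mod_cast h6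
    exact hp.one_lt.ne' (Nat.dvd_one.mp h7)
  obtain ⟨M, hM, hle⟩ := Ideal.exists_le_maximal _ hne
  exact ⟨M, hp, hM, hle (Ideal.mem_span_singleton_self _)⟩

/-- If p ^ n is the exact power of the prime p dividing the order of a finite group and p ^ n divides the degree of an irreducible complex representation, then its character vanishes at every element of order divisible by p. -/
theorem result {G : Type*} [Group G] [Finite G] {V : Type*} [AddCommGroup V] [Module ℂ V] [FiniteDimensional ℂ V] (ρ : Representation ℂ G V) [ρ.IsIrreducible] (p n : ℕ) (hp : p.Prime) (hn : p ^ n ∣ Nat.card G) (hn' : ¬ p ^ (n + 1) ∣ Nat.card G) (hdeg : p ^ n ∣ Module.finrank ℂ V) (x : G) (hx : p ∣ orderOf x) : ρ.character x = 0 := by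
  haveI : Fact p.Prime := ⟨hp⟩
  obtain ⟨M, hM⟩ := exists_isPModular p hp
  let χ : IrrCharacter G := ⟨ρ.character, Cfsg.Agent.Lib.Helper3_CharBridge.isIrrCharacter_of_rep ρ⟩
  obtain ⟨d, hd0, hd1, hd2, hd3⟩ := Cfsg.Agent.S0914.exists_degree χ
  have hdfin : d = Module.finrank ℂ V := by
    have h1 : (χ : G → ℂ) 1 = (Module.finrank ℂ V : ℂ) := by
      change ρ.character 1 = _
      rw [Representation.char_one]
    rw [hd1] at h1
    exact_mod_cast h1
  have hndvd : ¬ p ∣ Nat.card G / charDegree (χ : G → ℂ) := by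
    rw [hd2]
    intro hdv
    apply hn'
    obtain ⟨e, he⟩ := hd3
    have hquot : Nat.card G / d = e := by rw [he]; exact Nat.mul_div_cancel_left e hd0
    rw [hquot] at hdv
    rw [he, pow_succ]
    rw [hdfin]
    exact Nat.mul_dvd_mul hdeg hdv
  have hblock := (Cfsg.Agent.S0914.result p M hM χ).1 hndvd
  have hB : IsPBlock M ({χ} : Set (IrrCharacter G)) := ⟨χ, hblock.symm⟩
  have h1 : ¬ p ∣ orderOf (1 : G) := by
    rw [orderOf_one]
    exact fun h => hp.one_lt.ne' (Nat.dvd_one.mp h)
  have h2 := Cfsg.Agent.S0907.result p M hM {χ} hB 1 x h1 hx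
  rw [finsum_mem_singleton] at h2
  rcases mul_eq_zero.1 h2 with h3 | h3
  · exfalso
    rw [hd1] at h3
    have : d = 0 := by exact_mod_cast h3
    omega
  · have h4 : (χ : G → ℂ) x = 0 := by
      have := congrArg conj h3
      simpa using this
    exact h4

end Cfsg.Agent.S0165
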