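import Cfsg.Statements.S0754

set_option autoImplicit false
open Cfsg

namespace Cfsg.Agent.S0754

open Polynomial

/-- In a field F with q^2 elements, every non-zero μ with μ^q = μ (that is, μ in the subfield of order q) has exactly q + 1 solutions λ of λ^(q+1) = μ. -/
theorem result {F : Type*} [Field F] [Fintype F] {q : ℕ} (hF : Fintype.card F = q ^ 2) (μ : F) (hμ : μ ≠ 0) (hμq : μ ^ q = μ) : Nat.card {x : F // x ^ (q + 1) = μ} = q + 1 := by
  classical
  have hq2 : 2 ≤ q := by
    have h1 : 1 < Fintype.card F := Fintype.one_lt_card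
    rw [hF] at h1
    by_contra hcon
    have : q ≤ 1 := by omega
    interval_cases q <;> simp at h1
  obtain ⟨g, hg⟩ : ∃ g : Fˣ, ∀ x : Fˣ, x ∈ Subgroup.zpowers g := IsCyclic.exists_generator
  have hord : orderOf g = q ^ 2 - 1 := by
    rw [orderOf_eq_card_of_forall_mem_zpowers hg, Nat.card_eq_fintype_card, Fintype.card_units, hF]
  have hN : q ^ 2 - 1 = (q - 1) * (q + 1) := by
    have : q ^ 2 = (q - 1) * (q + 1) + 1 := by
      obtain ⟨r, rfl⟩ : ∃ r, q = r + 1 := ⟨q - 1, by omega⟩
      simp only [Nat.add_sub_cancel]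
      ring
    omega
  have hNpos : 0 < q ^ 2 - 1 := by
    rw [hN]; apply Nat.mul_pos <;> omega
  -- primitive root of order `q + 1`
  have hprimU : IsPrimitiveRoot g (q ^ 2 - 1) := hord ▸ IsPrimitiveRoot.orderOf g
  have hprim : IsPrimitiveRoot ((g : F) ^ (q - 1)) (q + 1) :=
    (IsPrimitiveRoot.coe_units_iff.mpr hprimU).pow hNpos hN
  -- existence of a solution
  have hsol : ∃ α : F, α ^ (q + 1) = μ := by
    set μu : Fˣ := Units.mk0 μ hμ with hμu
    obtain ⟨k, hk⟩ : ∃ k : ℕ, g ^ k = μu := by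
      have := hg μu
      rw [Subgroup.mem_zpowers_iff] at this
      obtain ⟨z, hz⟩ := this
      refine ⟨(z % (orderOf g : ℤ)).toNat, ?_⟩
      rw [← zpow_natCast, Int.toNat_of_nonneg, zpow_mod_orderOf, hz]
      apply Int.emod_nonneg
      rw [hord]
      exact_mod_cast hNpos.ne'
    have hμuq : μu ^ q = μu := by
      apply Units.ext
      simp [hμu, hμq]
    have h1 : g ^ (k * (q - 1)) = 1 := by
      have : g ^ (k * q) = g ^ k := by rw [pow_mul, hk, hμuq]
      have hkq : k * q = k * (q - 1) + k := by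
        obtain ⟨r, rfl⟩ : ∃ r, q = r + 1 := ⟨q - 1, by omega⟩
        simp only [Nat.add_sub_cancel]
        ring
      rw [hkq, pow_add] at this
      exact mul_eq_right.mp this
    have h2 : (q ^ 2 - 1) ∣ k * (q - 1) := by
      rw [← hord]; exact orderOf_dvd_of_pow_eq_one h1
    have h3 : (q + 1) ∣ k := by
      rw [hN, mul_comm k] at h2
      exact Nat.dvd_of_mul_dvd_mul_left (by omega) h2
    obtain ⟨j, hj⟩ := h3
    refine ⟨((g ^ j : Fˣ) : F), ?_⟩
    have : (g ^ j) ^ (q + 1) = μu := by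
      rw [← pow_mul, mul_comm, ← hj, hk]
    have h4 := congrArg (fun u : Fˣ => (u : F)) this
    simpa [hμu] using h4
  have hcard : Multiset.card (nthRoots (q + 1) μ) = q + 1 := by
    rw [hprim.card_nthRoots, if_pos hsol]
  have hnodup : (nthRoots (q + 1) μ).Nodup := hprim.nthRoots_nodup hμ
  have hset : {x : F | x ^ (q + 1) = μ} = ((nthRoots (q + 1) μ).toFinset : Set F) := by
    ext x
    simp [mem_nthRoots (Nat.succ_pos q)]
  have : Nat.card {x : F // x ^ (q + 1) = μ} = Nat.card ((nthRoots (q + 1) μ).toFinset : Set F) := by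
    exact Nat.card_congr (Equiv.setCongr hset)
  rw [this, Nat.card_coe_set_eq, Set.ncard_coe_finset, Multiset.toFinset_card_of_nodup hnodup,
    hcard]

end Cfsg.Agent.S0754
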