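import Cfsg.Statements.S0857
import Cfsg.Agent.Lib.Helper81_Twist

set_option autoImplicit false
open Cfsg

namespace Cfsg.Agent.S0857

open scoped ComplexConjugate
open Cfsg.Agent.Lib.Helper3_CharBridge Cfsg.Agent.Lib.Helper3_CharOrtho
  Cfsg.Agent.Lib.Helper3_CharComplete Cfsg.Agent.Lib.Helper75_CharArith
  Cfsg.Agent.Lib.Helper75_Induced Cfsg.Agent.Lib.Helper75_Clifford
  Cfsg.Agent.Lib.Helper75_CharProd Cfsg.Agent.Lib.Helper79_Linear
  Cfsg.Agent.Lib.Helper81_Twist

/-- Orthogonality for the dual of a finite abelian group. -/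
theorem dual_sum (A : Type*) [CommGroup A] [Finite A] [Fintype (A →* ℂˣ)] [DecidableEq A] (a : A) :
    ∑ l : A →* ℂˣ, ((l a : ℂˣ) : ℂ) = if a = 1 then (Nat.card A : ℂ) else 0 := by
  classical
  have : NeZero (Monoid.exponent A) := ⟨Monoid.exponent_ne_zero_of_finite⟩
  split_ifs with ha
  · subst ha
    simp only [map_one, Units.val_one, Finset.sum_const, Finset.card_univ, nsmul_eq_mul, mul_one]
    rw [← Nat.card_eq_fintype_card, CommGroup.card_monoidHom_of_hasEnoughRootsOfUnity A ℂ]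
  · obtain ⟨φ, hφ⟩ := CommGroup.exists_apply_ne_one_of_hasEnoughRootsOfUnity A ℂ ha
    have h1 : ∑ l : A →* ℂˣ, ((l a : ℂˣ) : ℂ) = ((φ a : ℂˣ) : ℂ) * ∑ l : A →* ℂˣ, ((l a : ℂˣ) : ℂ) := by
      rw [Finset.mul_sum]
      apply Fintype.sum_equiv (Equiv.mulLeft φ⁻¹)
      intro l
      rw [← Units.val_mul]
      congr 1
      simp
    have h2 : ((φ a : ℂˣ) : ℂ) ≠ 1 := by
      intro h
      apply hφ
      exact Units.ext h
    have h3 : (((φ a : ℂˣ) : ℂ) - 1) * ∑ l : A →* ℂˣ, ((l a : ℂˣ) : ℂ) = 0 := by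
      rw [sub_mul, one_mul, ← h1, sub_self]
    rcases mul_eq_zero.1 h3 with h | h
    · exact absurd (sub_eq_zero.1 h) h2
    · exact h

/-- If no nontrivial linear character of `K/N` (abelian) fixes `ϑ` under multiplication, then
`ϑ|_N` is irreducible (norm one). -/
theorem norm_res_eq_one {K : Type*} [Group K] [Fintype K] (N : Subgroup K) [hN : N.Normal]
    [Fintype N]
    (hab : ∀ a b : K, a * b * a⁻¹ * b⁻¹ ∈ N) {ϑ : K → ℂ} (hϑ : IsIrrCharacter K ϑ)
    (hS : ∀ l : K →* ℂˣ, (∀ n ∈ N, l n = 1) → (∀ k, ((l k : ℂˣ) : ℂ) * ϑ k = ϑ k) → l = 1) :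
    classInner (res N ϑ) (res N ϑ) = 1 := by
  classical
  letI : CommGroup (K ⧸ N) :=
    { (inferInstance : Group (K ⧸ N)) with
      mul_comm := by
        intro a b
        induction a using QuotientGroup.induction_on with
        | H a =>
        induction b using QuotientGroup.induction_on with
        | H b =>
        rw [← QuotientGroup.mk_mul, ← QuotientGroup.mk_mul, QuotientGroup.eq]
        have := hab b⁻¹ a⁻¹
        have h2 : (a * b)⁻¹ * (b * a) = b⁻¹ * a⁻¹ * b⁻¹⁻¹ * a⁻¹⁻¹ := by group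
        rw [h2]
        exact this }
  have hexp : NeZero (Monoid.exponent (K ⧸ N)) := ⟨Monoid.exponent_ne_zero_of_finite⟩
  have hcardΛ : Nat.card ((K ⧸ N) →* ℂˣ) = Nat.card (K ⧸ N) :=
    CommGroup.card_monoidHom_of_hasEnoughRootsOfUnity (K ⧸ N) ℂ
  have : Finite ((K ⧸ N) →* ℂˣ) := by
    apply Nat.finite_of_card_ne_zero
    rw [hcardΛ]
    exact Nat.card_pos.ne'
  have : Fintype ((K ⧸ N) →* ℂˣ) := Fintype.ofFinite _
  -- the twist of ϑ by l
  let tw : ((K ⧸ N) →* ℂˣ) → K → ℂ := fun l k => ((l (QuotientGroup.mk k) : ℂˣ) : ℂ) * ϑ k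
  have htw_irr : ∀ l, IsIrrCharacter K (tw l) := by
    intro l
    have h1 := isIrrCharacter_of_hom (l.comp (QuotientGroup.mk' N))
    exact isIrrCharacter_linear_mul h1 (by simp) hϑ
  have hsum : ∑ l : (K ⧸ N) →* ℂˣ, classInner (tw l) ϑ = classInner (res N ϑ) (res N ϑ) := by
    unfold classInner
    rw [← Finset.mul_sum, Finset.sum_comm]
    have h1 : ∀ k : K, ∑ l : (K ⧸ N) →* ℂˣ, tw l k * conj (ϑ k) =
        (if k ∈ N then (Nat.card (K ⧸ N) : ℂ) else 0) * (ϑ k * conj (ϑ k)) := by
      intro k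
      simp only [tw]
      simp_rw [mul_assoc]
      rw [← Finset.sum_mul, dual_sum (K ⧸ N) (QuotientGroup.mk k)]
      congr 2
      apply propext
      exact QuotientGroup.eq_one_iff k
    simp_rw [h1]
    simp_rw [ite_mul, zero_mul]
    rw [← Finset.sum_filter]
    have h2 : ∑ k ∈ Finset.univ.filter (fun k : K => k ∈ N),
        (Nat.card (K ⧸ N) : ℂ) * (ϑ k * conj (ϑ k)) =
        (Nat.card (K ⧸ N) : ℂ) * ∑ n : N, res N ϑ n * conj (res N ϑ n) := by
      rw [← Finset.mul_sum]
      congr 1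
      rw [Finset.sum_subtype (Finset.univ.filter (fun k : K => k ∈ N)) (p := fun k => k ∈ N)
        (by simp) (fun k => ϑ k * conj (ϑ k))]
      rfl
    rw [h2, ← mul_assoc]
    congr 1
    have h3 : Nat.card K = Nat.card (K ⧸ N) * Nat.card N := by
      rw [← Subgroup.index_eq_card, mul_comm, Subgroup.card_mul_index]
    rw [h3]
    have hN0 : (Nat.card N : ℂ) ≠ 0 := by
      rw [Nat.cast_ne_zero]; exact Nat.card_pos.ne'
    have hQ0 : (Nat.card (K ⧸ N) : ℂ) ≠ 0 := by
      rw [Nat.cast_ne_zero]; exact Nat.card_pos.ne'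
    push_cast
    field_simp
  rw [← hsum]
  rw [Finset.sum_eq_single (1 : (K ⧸ N) →* ℂˣ)]
  · have : tw 1 = ϑ := by
      funext k
      simp [tw]
    rw [this, classInner_self_of_isIrrCharacter hϑ]
  · intro l _ hl
    apply classInner_of_isIrrCharacter_of_ne (htw_irr l) hϑ
    intro heq
    apply hl
    have h1 := hS (l.comp (QuotientGroup.mk' N)) ?_ ?_
    · ext q
      have := DFunLike.congr_fun h1 q
      simpa using this
    · intro n hn
      simp [(QuotientGroup.eq_one_iff n).2 hn]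
    · intro k
      exact congrFun heq k
  · intro h
    exact absurd (Finset.mem_univ _) h


/-- If `ϑ` vanishes off `N`, the norm of `ϑ|_N` is the index. -/
theorem norm_res_of_vanish {K : Type*} [Group K] [Fintype K] (N : Subgroup K) [Fintype N]
    {ϑ : K → ℂ} (hϑ : IsIrrCharacter K ϑ) (hv : ∀ k : K, k ∉ N → ϑ k = 0) :
    classInner (res N ϑ) (res N ϑ) = (N.index : ℂ) := by
  classical
  have h1 := classInner_self_of_isIrrCharacter hϑ
  unfold classInner at h1 ⊢
  have h2 : ∑ k : K, ϑ k * conj (ϑ k) = ∑ n : N, res N ϑ n * conj (res N ϑ n) := by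
    have h3 : ∑ k : K, ϑ k * conj (ϑ k) =
        ∑ k ∈ Finset.univ.filter (fun k : K => k ∈ N), ϑ k * conj (ϑ k) := by
      rw [Finset.sum_filter]
      apply Finset.sum_congr rfl
      intro k _
      split_ifs with hk
      · rfl
      · rw [hv k hk, zero_mul]
    rw [h3, Finset.sum_subtype (Finset.univ.filter (fun k : K => k ∈ N)) (p := fun k => k ∈ N)
        (by simp) (fun k => ϑ k * conj (ϑ k))]
    rfl
  rw [h2] at h1
  have hK0 : (Nat.card K : ℂ) ≠ 0 := by
    rw [Nat.cast_ne_zero]; exact Nat.card_pos.ne'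
  have hN0 : (Nat.card N : ℂ) ≠ 0 := by
    rw [Nat.cast_ne_zero]; exact Nat.card_pos.ne'
  have h4 : ∑ n : N, res N ϑ n * conj (res N ϑ n) = (Nat.card K : ℂ) := by
    field_simp at h1
    exact h1
  rw [h4, ← Subgroup.card_mul_index N]
  push_cast
  field_simp

/-- A nonzero character has an irreducible constituent. -/
theorem exists_constituent {K : Type*} [Group K] [Fintype K] {χ : K → ℂ} (hχ : IsCharacter K χ)
    (h1 : χ 1 ≠ 0) : ∃ φ : K → ℂ, IsIrrCharacter K φ ∧ classInner χ φ ≠ 0 := by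
  classical
  by_contra hcon
  push Not at hcon
  apply h1
  have h2 := classFunction_eq_sum χ (isClassFunction_of_isCharacter hχ)
  rw [h2]
  rw [Finset.sum_apply]
  apply Finset.sum_eq_zero
  intro ψ _
  rw [hcon ψ ψ.2, zero_smul]
  rfl


section transport

variable {G : Type*} [Group G] (K L : Subgroup G)

/-- Conjugation commutes with the transport from `L` to `L.subgroupOf K`. -/
theorem conjFun_pb (hL : L.Normal) (hL' : (L.subgroupOf K).Normal) (φ : L → ℂ) (k : K) :
    conjFun (L.subgroupOf K) hL' (resSubgroupOf L K φ) k =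
      resSubgroupOf L K (conjFun L hL φ (k : G)) := by
  funext x
  rfl

theorem pb_injective (hLK : L ≤ K) {φ ψ : L → ℂ}
    (h : resSubgroupOf L K φ = resSubgroupOf L K ψ) : φ = ψ := by
  funext y
  have := congrFun h ⟨⟨y, hLK y.2⟩, Subgroup.mem_subgroupOf.2 y.2⟩
  exact this

theorem pb_surjective (hLK : L ≤ K) (ψ' : L.subgroupOf K → ℂ) :
    ∃ ψ : L → ℂ, resSubgroupOf L K ψ = ψ' ∧
      ψ = fun y : L => ψ' ⟨⟨(y : G), hLK y.2⟩, Subgroup.mem_subgroupOf.2 y.2⟩ := by
  refine ⟨fun y : L => ψ' ⟨⟨(y : G), hLK y.2⟩, Subgroup.mem_subgroupOf.2 y.2⟩, ?_, rfl⟩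
  funext x
  rfl

theorem pb_irr_iff [Finite G] (hLK : L ≤ K) (φ : L → ℂ) :
    IsIrrCharacter (L.subgroupOf K) (resSubgroupOf L K φ) ↔ IsIrrCharacter L φ := by
  constructor
  · intro h
    have := isIrrCharacter_comp_equiv (Subgroup.subgroupOfEquivOfLe hLK).symm h
    exact this
  · intro h
    exact isIrrCharacter_resSubgroupOf L K hLK h

theorem pb_classInner [Fintype L] [Fintype (L.subgroupOf K)] (hLK : L ≤ K) (α β : L → ℂ) :
    classInner (resSubgroupOf L K α) (resSubgroupOf L K β) = classInner α β := by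
  rw [resSubgroupOf_eq_comp L K hLK, resSubgroupOf_eq_comp L K hLK]
  exact classInner_comp_equiv _ α β

theorem pb_sum (F : Finset (L → ℂ)) :
    resSubgroupOf L K (∑ ψ ∈ F, ψ) = ∑ ψ ∈ F, resSubgroupOf L K ψ := by
  funext x
  simp only [resSubgroupOf, Finset.sum_apply]

end transport

/-- Let L < K be normal subgroups of the finite group G with no normal subgroup of G strictly between them and with K / L abelian (the commutator subgroup of K lies in L). Let ϑ be an irreducible character of K invariant under conjugation by G. Then the restriction of ϑ to L is irreducible; or it equals e times an irreducible character of L with e ^ 2 equal to the index of L in K; or it is the sum of a family of pairwise distinct irreducible characters of L indexed by a set whose size is the index of L in K. -/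
theorem result {G : Type*} [Group G] [Fintype G] (K L : Subgroup G) [hK : K.Normal] [L.Normal] (hLK : L < K) (hchief : ∀ M : Subgroup G, M.Normal → L ≤ M → M ≤ K → M = L ∨ M = K) (hab : ⁅K, K⁆ ≤ L) (ϑ : K → ℂ) (hϑ : Cfsg.IsIrrCharacter K ϑ) (hinv : ∀ (g : G) (n : K), ϑ ⟨g * n * g⁻¹, hK.conj_mem (n : G) n.2 g⟩ = ϑ n) : Cfsg.IsIrrCharacter L (fun x : L => ϑ ⟨(x : G), hLK.le x.2⟩) ∨ (∃ (φ : L → ℂ) (e : ℕ), Cfsg.IsIrrCharacter L φ ∧ (fun x : L => ϑ ⟨(x : G), hLK.le x.2⟩) = (e : ℂ) • φ ∧ e ^ 2 = L.relIndex K) ∨ (∃ F : Finset (L → ℂ), (∀ φ ∈ F, Cfsg.IsIrrCharacter L φ) ∧ F.card = L.relIndex K ∧ (fun x : L => ϑ ⟨(x : G), hLK.le x.2⟩) = ∑ φ ∈ F, φ) := by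
  classical
  have hL : L.Normal := inferInstance
  have hle : L ≤ K := hLK.le
  set L' : Subgroup K := L.subgroupOf K with hL'def
  have hL' : L'.Normal := inferInstance
  set ϑL : L → ℂ := fun x => ϑ ⟨(x : G), hLK.le x.2⟩ with hϑLdef
  have hres : res L' ϑ = resSubgroupOf L K ϑL := rfl
  have hϑchar : IsCharacter K ϑ := isCharacter_of_isIrrCharacter hϑ
  have hϑLchar : IsCharacter L ϑL := isCharacter_comp (Subgroup.inclusion hle) hϑchar
  have hnorm : classInner ϑL ϑL = classInner (res L' ϑ) (res L' ϑ) := by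
    rw [hres, pb_classInner K L hle]
  have habK : ∀ a b : K, a * b * a⁻¹ * b⁻¹ ∈ L' := by
    intro a b
    rw [hL'def, Subgroup.mem_subgroupOf]
    apply hab
    have := Subgroup.commutator_mem_commutator a.2 b.2
    rw [commutatorElement_def] at this
    exact this
  -- the set of linear characters of K/L fixing ϑ
  let S : (K →* ℂˣ) → Prop := fun l =>
    (∀ n ∈ L', l n = 1) ∧ ∀ k, ((l k : ℂˣ) : ℂ) * ϑ k = ϑ k
  let U : Subgroup G :=
    { carrier := {x | ∃ h : x ∈ K, ∀ l : K →* ℂˣ, S l → l ⟨x, h⟩ = 1}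
      one_mem' := ⟨K.one_mem, fun l _ => map_one l⟩
      mul_mem' := by
        rintro x y ⟨hx, Hx⟩ ⟨hy, Hy⟩
        refine ⟨K.mul_mem hx hy, fun l hl => ?_⟩
        have : (⟨x * y, K.mul_mem hx hy⟩ : K) = ⟨x, hx⟩ * ⟨y, hy⟩ := rfl
        rw [this, map_mul, Hx l hl, Hy l hl, one_mul]
      inv_mem' := by
        rintro x ⟨hx, Hx⟩
        refine ⟨K.inv_mem hx, fun l hl => ?_⟩
        have : (⟨x⁻¹, K.inv_mem hx⟩ : K) = ⟨x, hx⟩⁻¹ := rfl
        rw [this, map_inv, Hx l hl, inv_one] }
  have hUK : U ≤ K := fun x hx => hx.1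
  have hLU : L ≤ U := by
    intro x hx
    exact ⟨hle hx, fun l hl => hl.1 ⟨x, hle hx⟩ (Subgroup.mem_subgroupOf.2 hx)⟩
  have hUn : U.Normal := by
    constructor
    rintro x ⟨hx, Hx⟩ g
    refine ⟨hK.conj_mem x hx g, fun l hl => ?_⟩
    let l' : K →* ℂˣ := l.comp (MulAut.conjNormal g : MulAut K).toMonoidHom
    have hl' : S l' := by
      constructor
      · intro n hn
        show l ((MulAut.conjNormal g : MulAut K) n) = 1
        apply hl.1
        rw [hL'def, Subgroup.mem_subgroupOf, MulAut.conjNormal_apply]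
        exact hL.conj_mem _ (Subgroup.mem_subgroupOf.1 hn) g
      · intro k
        show ((l ((MulAut.conjNormal g : MulAut K) k) : ℂˣ) : ℂ) * ϑ k = ϑ k
        have h1 : ϑ ((MulAut.conjNormal g : MulAut K) k) = ϑ k := by
          have := hinv g k
          rw [← this]
          congr 1
        rw [← h1]
        exact hl.2 _
    have h2 := Hx l' hl'
    have h3 : l' ⟨x, hx⟩ = l ⟨g * x * g⁻¹, hK.conj_mem x hx g⟩ := by
      show l ((MulAut.conjNormal g : MulAut K) ⟨x, hx⟩) = _
      congr 1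
    rw [← h3]
    exact h2
  rcases hchief U hUn hLU hUK with hU | hU
  swap
  · -- U = K : restriction is irreducible
    left
    apply isIrrCharacter_of_classInner_self hϑLchar
    rw [hnorm]
    apply norm_res_eq_one L' habK hϑ
    intro l h1 h2
    apply MonoidHom.ext
    intro k
    have hk : (k : G) ∈ U := by rw [hU]; exact k.2
    obtain ⟨h, H⟩ := hk
    exact H l ⟨h1, h2⟩
  -- U = L : ϑ vanishes off L
  have hvanish : ∀ k : K, k ∉ L' → ϑ k = 0 := by
    intro k hk
    by_contra h0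
    apply hk
    rw [hL'def, Subgroup.mem_subgroupOf, ← hU]
    refine ⟨k.2, fun l hl => ?_⟩
    have h1 := hl.2 k
    have h3 : ((l k : ℂˣ) : ℂ) = 1 := mul_right_cancel₀ h0 (h1.trans (one_mul _).symm)
    exact Units.ext h3
  have hn : classInner (res L' ϑ) (res L' ϑ) = (L.relIndex K : ℂ) :=
    norm_res_of_vanish L' hϑ hvanish
  -- a constituent
  have hϑ1 : ϑ 1 ≠ 0 := irr_one_ne_zero hϑ
  obtain ⟨φ', hφ', hφ'ne⟩ := exists_constituent (isCharacter_res L' hϑchar) hϑ1
  obtain ⟨φ, hφφ', -⟩ := pb_surjective K L hle φ'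
  subst hφφ'
  have hφ : IsIrrCharacter L φ := (pb_irr_iff K L hle φ).1 hφ'
  have hφclass : IsClassFunction L φ := isClassFunction_of_isIrrCharacter hφ
  have hφne : classInner ϑL φ ≠ 0 := by
    rw [hres, pb_classInner K L hle] at hφ'ne
    exact hφ'ne
  have hinvL : ∀ g : G, conjFun L hL ϑL g = ϑL := by
    intro g
    funext x
    rw [conjFun_apply]
    exact hinv g ⟨x, hle x.2⟩
  have htrans : ∀ ψ : L → ℂ, IsIrrCharacter L ψ → classInner ϑL ψ ≠ 0 →
      ∃ k : K, ψ = conjFun L hL φ (k : G) := by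
    intro ψ hψ hψne
    have h2 : classInner (res L' ϑ) (resSubgroupOf L K ψ) ≠ 0 := by
      rw [hres, pb_classInner K L hle]; exact hψne
    obtain ⟨k, hk⟩ := exists_conj_of_constituent L' hL' hϑ hφ'
      ((pb_irr_iff K L hle ψ).2 hψ) hφ'ne h2
    refine ⟨k, ?_⟩
    rw [conjFun_pb K L hL hL'] at hk
    exact pb_injective K L hle hk
  let T : Subgroup G :=
    { carrier := {g | g ∈ K ∧ conjFun L hL φ g = φ}
      one_mem' := ⟨K.one_mem, conjFun_one L hL φ⟩
      mul_mem' := by
        rintro a b ⟨ha, Ha⟩ ⟨hb, Hb⟩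
        refine ⟨K.mul_mem ha hb, ?_⟩
        rw [← conjFun_conjFun, Ha, Hb]
      inv_mem' := by
        rintro a ⟨ha, Ha⟩
        refine ⟨K.inv_mem ha, ?_⟩
        have := conjFun_conjFun L hL φ a a⁻¹
        rw [Ha, mul_inv_cancel, conjFun_one] at this
        exact this }
  have hTK : T ≤ K := fun x hx => hx.1
  have hLT : L ≤ T := by
    intro x hx
    exact ⟨hle hx, conjFun_of_mem L hL hφclass ⟨x, hx⟩⟩
  have hTn : T.Normal := by
    constructor
    rintro t ⟨htK, Ht⟩ g
    refine ⟨hK.conj_mem t htK g, ?_⟩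
    have hψ : IsIrrCharacter L (conjFun L hL φ g) := isIrrCharacter_conjFun L hL hφ g
    have hψne : classInner ϑL (conjFun L hL φ g) ≠ 0 := by
      have := classInner_conjFun L hL ϑL φ g
      rw [hinvL g] at this
      rw [this]; exact hφne
    obtain ⟨k, hk⟩ := htrans _ hψ hψne
    have hψt : conjFun L hL (conjFun L hL φ g) t = conjFun L hL φ g := by
      rw [hk, conjFun_conjFun]
      have hc : (k : G) * t * (k : G)⁻¹ * t⁻¹ ∈ L := by
        apply hab
        have := Subgroup.commutator_mem_commutator k.2 htK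
        rwa [commutatorElement_def] at this
      have h5 : conjFun L hL φ ((k : G) * t * (k : G)⁻¹ * t⁻¹) = φ :=
        conjFun_of_mem L hL hφclass ⟨_, hc⟩
      have h6 : (k : G) * t = ((k : G) * t * (k : G)⁻¹ * t⁻¹) * t * k := by group
      rw [h6, ← conjFun_conjFun, ← conjFun_conjFun, h5, Ht]
    show conjFun L hL φ (g * t * g⁻¹) = φ
    rw [← conjFun_conjFun, ← conjFun_conjFun, hψt, conjFun_conjFun, mul_inv_cancel, conjFun_one]
  obtain ⟨e, he⟩ := classInner_isCharacter_nat hϑLchar (isCharacter_of_isIrrCharacter hφ)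
  rcases hchief T hTn hLT hTK with hT | hT
  swap
  · -- T = K : fully ramified
    right; left
    have hinv' : ∀ k : K, conjFun L' hL' (resSubgroupOf L K φ) k = resSubgroupOf L K φ := by
      intro k
      rw [conjFun_pb K L hL hL']
      have : (k : G) ∈ T := by rw [hT]; exact k.2
      rw [this.2]
    have h6 := res_eq_smul_of_invariant L' hL' hϑ hφ' hinv' hφ'ne
    have h7 : ϑL = (e : ℂ) • φ := by
      apply pb_injective K L hle
      rw [← hres, h6, hres, pb_classInner K L hle, he]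
      rfl
    refine ⟨φ, e, hφ, h7, ?_⟩
    have h8 : classInner ϑL ϑL = (e : ℂ) ^ 2 := by
      conv_lhs => rw [h7]
      rw [classInner_smul_left, classInner_smul_right, classInner_self_of_isIrrCharacter hφ,
        Complex.conj_natCast]
      ring
    rw [hnorm, hn] at h8
    exact_mod_cast h8.symm
  · -- T = L : induced
    right; right
    have hT' : ∀ k : K, k ∈ L' ↔
        conjFun L' hL' (resSubgroupOf L K φ) k = resSubgroupOf L K φ := by
      intro k
      rw [conjFun_pb K L hL hL']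
      constructor
      · intro h
        have h' : (k : G) ∈ T := by rw [hT]; exact Subgroup.mem_subgroupOf.1 h
        rw [h'.2]
      · intro h
        have h' : (k : G) ∈ T := ⟨k.2, pb_injective K L hle h⟩
        rw [hT] at h'
        exact Subgroup.mem_subgroupOf.2 h'
    obtain ⟨ψ, hψ, -, hψin⟩ := corr_surj L' L' hL' le_rfl hφ' hT' hϑ hφ'ne
    have h9 : classInner ψ (resSubgroupOf L K φ) = classInner (res L' ϑ) (resSubgroupOf L K φ) :=
      hψin
    have h10 : ψ = resSubgroupOf L K φ := by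
      by_contra hne
      apply hφ'ne
      rw [← h9]
      exact classInner_of_isIrrCharacter_of_ne hψ hφ' hne
    have he1 : classInner (res L' ϑ) (resSubgroupOf L K φ) = 1 := by
      rw [← h9, h10, classInner_self_of_isIrrCharacter hφ']
    have hcl := clifford L' hL' hϑ hφ' hφ'ne
    rw [he1, one_smul] at hcl
    let F : Finset (L → ℂ) := Finset.univ.image (fun k : K => conjFun L hL φ (k : G))
    have hFirr : ∀ ψ ∈ F, IsIrrCharacter L ψ := by
      intro ψ hψF
      obtain ⟨k, -, rfl⟩ := Finset.mem_image.1 hψF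
      exact isIrrCharacter_conjFun L hL hφ _
    have hset : {ψ' : L' → ℂ | ∃ k : K, ψ' = conjFun L' hL' (resSubgroupOf L K φ) k} =
        (resSubgroupOf L K) '' (F : Set (L → ℂ)) := by
      ext ψ'
      constructor
      · rintro ⟨k, rfl⟩
        refine ⟨conjFun L hL φ (k : G), ?_, (conjFun_pb K L hL hL' φ k).symm⟩
        exact Finset.mem_coe.2 (Finset.mem_image.2 ⟨k, Finset.mem_univ _, rfl⟩)
      · rintro ⟨ψ, hψF, rfl⟩
        obtain ⟨k, -, rfl⟩ := Finset.mem_image.1 (Finset.mem_coe.1 hψF)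
        exact ⟨k, (conjFun_pb K L hL hL' φ k).symm⟩
    have hsumF : ϑL = ∑ ψ ∈ F, ψ := by
      apply pb_injective K L hle
      rw [← hres, hcl, hset, finsum_mem_image (fun a _ b _ h => pb_injective K L hle h),
        finsum_mem_coe_finset, pb_sum]
    refine ⟨F, hFirr, ?_, hsumF⟩
    have h11 : classInner ϑL ϑL = (F.card : ℂ) := by
      conv_lhs => rw [hsumF]
      rw [classInner_sum_left]
      have : ∀ ψ ∈ F, classInner ψ (∑ ψ' ∈ F, ψ') = 1 := by
        intro ψ hψF
        rw [classInner_sum_right, Finset.sum_eq_single ψ]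
        · exact classInner_self_of_isIrrCharacter (hFirr ψ hψF)
        · intro ψ' hψ'F hne
          exact classInner_of_isIrrCharacter_of_ne (hFirr ψ hψF) (hFirr ψ' hψ'F) (Ne.symm hne)
        · intro h; exact absurd hψF h
      rw [Finset.sum_congr rfl this]
      simp
    rw [hnorm, hn] at h11
    exact_mod_cast h11.symm

end Cfsg.Agent.S0857
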