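import Cfsg.Statements.S0858
import Cfsg.Agent.S0857

set_option autoImplicit false
open Cfsg

namespace Cfsg.Agent.S0858

open scoped ComplexConjugate
open Cfsg.Agent.Lib.Helper3_CharBridge Cfsg.Agent.Lib.Helper3_CharOrtho
  Cfsg.Agent.Lib.Helper3_CharComplete Cfsg.Agent.Lib.Helper75_CharArith
  Cfsg.Agent.Lib.Helper75_Induced Cfsg.Agent.Lib.Helper75_Clifford
  Cfsg.Agent.Lib.Helper75_CharProd

universe u

/-- Inducing from the whole group does nothing to a class function. -/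
theorem indFun_top {G : Type u} [Group G] [Fintype G] {χ : G → ℂ} (hχ : IsClassFunction G χ) :
    indFun (⊤ : Subgroup G) (fun x : (⊤ : Subgroup G) => χ x) = χ := by
  funext g
  rw [indFun_apply]
  have h1 : ∀ x : G, extendByZero (⊤ : Subgroup G) (fun x : (⊤ : Subgroup G) => χ x)
      (x⁻¹ * g * x) = χ g := by
    intro x
    rw [extendByZero_of_mem _ _ (Subgroup.mem_top _)]
    have := hχ g x⁻¹
    rw [inv_inv] at this
    exact this
  rw [Finset.sum_congr rfl (fun x _ => h1 x), Finset.sum_const, Finset.card_univ, nsmul_eq_mul,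
    Subgroup.card_top, Nat.card_eq_fintype_card]
  have : (Fintype.card G : ℂ) ≠ 0 := by
    rw [Nat.cast_ne_zero]; exact Fintype.card_ne_zero
  field_simp

/-- Induction only depends on the subgroup and the values. -/
theorem indFun_congr {T : Type u} [Group T] [Fintype T] {A B : Subgroup T} (h : A = B)
    (f : A → ℂ) (g : B → ℂ) (hfg : ∀ x (ha : x ∈ A) (hb : x ∈ B), f ⟨x, ha⟩ = g ⟨x, hb⟩) :
    indFun A f = indFun B g := by
  subst h
  congr 1
  funext x
  exact hfg x.1 x.2 x.2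

/-- Solvability of the quotient passes to subgroups. -/
theorem solvable_sub {G : Type u} [Group G] (N : Subgroup G) [N.Normal] (T : Subgroup G)
    (hsolv : Group.IsSolvable (G ⧸ N)) : Group.IsSolvable (T ⧸ N.subgroupOf T) := by
  let f : (T ⧸ N.subgroupOf T) →* G ⧸ N :=
    QuotientGroup.map (N.subgroupOf T) N T.subtype (fun x hx => hx)
  have hf : Function.Injective f := by
    rw [injective_iff_map_eq_one]
    intro q
    induction q using QuotientGroup.induction_on with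
    | H x =>
      intro hx
      rw [QuotientGroup.eq_one_iff]
      have : f (x : T ⧸ N.subgroupOf T) = ((x : G) : G ⧸ N) := rfl
      rw [this, QuotientGroup.eq_one_iff] at hx
      exact hx
  haveI := hsolv
  exact Group.isSolvable_of_isSolvable_injective hf


/-- The hypothesis on chief factors. -/
def ChiefHyp {G : Type u} [Group G] (N : Subgroup G) : Prop :=
  ∀ (H K L : Subgroup G), N ≤ L → L < K → K ≤ H → (∀ h ∈ H, ∀ k ∈ K, h * k * h⁻¹ ∈ K) →
    (∀ h ∈ H, ∀ l ∈ L, h * l * h⁻¹ ∈ L) →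
    (∀ M : Subgroup G, L ≤ M → M ≤ K → (∀ h ∈ H, ∀ m ∈ M, h * m * h⁻¹ ∈ M) → M = L ∨ M = K) →
    ¬ IsSquare (L.relIndex K)

theorem chiefHyp_sub {G : Type u} [Group G] (N T : Subgroup G) (hNT : N ≤ T)
    (h : ChiefHyp N) : ChiefHyp (N.subgroupOf T) := by
  intro H K L hNL hLK hKH hKinv hLinv hmax
  have hinj : Function.Injective T.subtype := Subgroup.subtype_injective T
  have key := h (H.map T.subtype) (K.map T.subtype) (L.map T.subtype) ?_ ?_ ?_ ?_ ?_ ?_
  · rwa [Subgroup.relIndex_map_map_of_injective L K hinj] at key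
  · intro n hn
    exact ⟨⟨n, hNT hn⟩, hNL (Subgroup.mem_subgroupOf.2 hn), rfl⟩
  · exact (Subgroup.map_lt_map_iff_of_injective hinj).2 hLK
  · exact Subgroup.map_mono hKH
  · rintro _ ⟨h', hh', rfl⟩ _ ⟨k', hk', rfl⟩
    exact ⟨h' * k' * h'⁻¹, hKinv h' hh' k' hk', rfl⟩
  · rintro _ ⟨h', hh', rfl⟩ _ ⟨l', hl', rfl⟩
    exact ⟨h' * l' * h'⁻¹, hLinv h' hh' l' hl', rfl⟩
  · intro M hLM hMK hMinv
    have hMT : M ≤ T := by
      intro m hm
      obtain ⟨k, -, rfl⟩ := hMK hm
      exact k.2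
    have hM' := hmax (M.subgroupOf T) ?_ ?_ ?_
    · rcases hM' with hM' | hM'
      · left
        rw [← hM', Subgroup.map_subgroupOf_eq_of_le hMT]
      · right
        rw [← hM', Subgroup.map_subgroupOf_eq_of_le hMT]
    · intro l hl
      exact Subgroup.mem_subgroupOf.2 (hLM ⟨l, hl, rfl⟩)
    · intro m hm
      obtain ⟨k, hk, hkm⟩ := hMK (Subgroup.mem_subgroupOf.1 hm)
      have : k = m := Subtype.ext hkm
      rwa [← this]
    · intro h' hh' m hm
      exact Subgroup.mem_subgroupOf.2 (hMinv _ ⟨h', hh', rfl⟩ _ (Subgroup.mem_subgroupOf.1 hm))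


theorem mem_of_mem_map {G : Type u} [Group G] (T : Subgroup G) (H₁ : Subgroup T) (x : G)
    (hx : x ∈ H₁.map T.subtype) (hxT : x ∈ T) : (⟨x, hxT⟩ : T) ∈ H₁ := by
  obtain ⟨y, hy, hyx⟩ := hx
  have : y = ⟨x, hxT⟩ := Subtype.ext hyx
  rwa [← this]

/-- The isomorphism from the image of `H₁ ≤ T` in `G` back to `H₁`. -/
def backEquiv {G : Type u} [Group G] (T : Subgroup G) (H₁ : Subgroup T) :
    (H₁.map T.subtype) ≃* H₁ where
  toFun x := ⟨⟨x, by obtain ⟨y, -, hyx⟩ := x.2; rw [← hyx]; exact y.2⟩,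
    mem_of_mem_map T H₁ x x.2 _⟩
  invFun y := ⟨y, ⟨y, y.2, rfl⟩⟩
  left_inv x := rfl
  right_inv y := rfl
  map_mul' x y := rfl

theorem transport_concl {G : Type u} [Group G] [Fintype G] (N T : Subgroup G) [Fintype T]
    (hNT : N ≤ T)
    (H₁ : Subgroup T) (hNH₁ : N.subgroupOf T ≤ H₁) (η₁ : H₁ → ℂ) (hη₁ : IsIrrCharacter H₁ η₁)
    (hη₁N : IsIrrCharacter (N.subgroupOf T) (fun n : N.subgroupOf T => η₁ ⟨(n : T), hNH₁ n.2⟩)) :
    ∃ (H : Subgroup G) (hNH : N ≤ H) (η : H → ℂ), IsIrrCharacter H η ∧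
      indFun H η = indFun T (indFun H₁ η₁) ∧
      IsIrrCharacter N (fun n : N => η ⟨(n : G), hNH n.2⟩) := by
  classical
  have hHT : H₁.map T.subtype ≤ T := by
    rintro _ ⟨y, -, rfl⟩
    exact y.2
  have hNH : N ≤ H₁.map T.subtype := by
    intro n hn
    exact ⟨⟨n, hNT hn⟩, hNH₁ (Subgroup.mem_subgroupOf.2 hn), rfl⟩
  refine ⟨H₁.map T.subtype, hNH, fun x => η₁ (backEquiv T H₁ x), ?_, ?_, ?_⟩
  · exact isIrrCharacter_comp_equiv (backEquiv T H₁) hη₁
  · rw [← indFun_trans (H₁.map T.subtype) T hHT]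
    congr 1
    apply indFun_congr (Subgroup.comap_map_eq_self_of_injective (Subgroup.subtype_injective T) H₁)
    intro x ha hb
    rfl
  · have := isIrrCharacter_comp_equiv (Subgroup.subgroupOfEquivOfLe hNT).symm hη₁N
    exact this


theorem main (n : ℕ) : ∀ (G : Type u) [Group G] [Fintype G], Nat.card G = n →
    ∀ (N : Subgroup G) [N.Normal], Group.IsSolvable (G ⧸ N) → ChiefHyp N →
    ∀ χ : G → ℂ, IsIrrCharacter G χ →
    ∃ (H : Subgroup G) (hNH : N ≤ H) (ψ : H → ℂ), IsIrrCharacter H ψ ∧ indFun H ψ = χ ∧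
      IsIrrCharacter N (fun n : N => ψ ⟨(n : G), hNH n.2⟩) := by
  induction n using Nat.strong_induction_on with
  | _ n ih =>
  intro G _ _ hcard N hN hsolv hchief χ hχ
  classical
  have hχclass := isClassFunction_of_isIrrCharacter hχ
  by_cases hresN : IsIrrCharacter N (fun n : N => χ n)
  · refine ⟨⊤, le_top, fun x => χ x, ?_, indFun_top hχclass, hresN⟩
    exact isIrrCharacter_comp_equiv Subgroup.topEquiv hχ
  -- Step 2 : a minimal normal subgroup K ≥ N with irreducible restriction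
  let 𝒦 : Set (Subgroup G) := {K | K.Normal ∧ N ≤ K ∧ IsIrrCharacter K (fun k : K => χ k)}
  have h𝒦top : (⊤ : Subgroup G) ∈ 𝒦 :=
    ⟨inferInstance, le_top, isIrrCharacter_comp_equiv Subgroup.topEquiv hχ⟩
  obtain ⟨K, hK𝒦, hKmin⟩ := Set.exists_min_image 𝒦 (fun K => Nat.card K) (Set.toFinite _)
    ⟨⊤, h𝒦top⟩
  obtain ⟨hKn, hNK, hKirr⟩ := hK𝒦
  have hNneK : N ≠ K := by
    rintro rfl
    exact hresN hKirr
  have hNltK : N < K := lt_of_le_of_ne hNK hNneK
  -- Step 3 : a chief factor K / L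
  let ℒ : Set (Subgroup G) := {L | L.Normal ∧ N ≤ L ∧ L < K}
  obtain ⟨L, hLℒ, hLmax⟩ := Set.exists_max_image ℒ (fun L => Nat.card L) (Set.toFinite _)
    ⟨N, hN, le_rfl, hNltK⟩
  obtain ⟨hLn, hNL, hLK⟩ := hLℒ
  have hchief' : ∀ M : Subgroup G, M.Normal → L ≤ M → M ≤ K → M = L ∨ M = K := by
    intro M hMn hLM hMK
    by_cases hMK' : M = K
    · right; exact hMK'
    · left
      have hM : M ∈ ℒ := ⟨hMn, hNL.trans hLM, lt_of_le_of_ne hMK hMK'⟩
      have := hLmax M hM
      exact (Subgroup.eq_of_le_of_card_ge hLM this).symm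
  haveI := hKn
  haveI := hLn
  -- Step 4 : K / L is abelian
  have hab : ⁅K, K⁆ ≤ L := by
    have hMn : (⁅K, K⁆ ⊔ L).Normal := inferInstance
    rcases hchief' (⁅K, K⁆ ⊔ L) hMn le_sup_right
      (sup_le (Subgroup.commutator_le_right K K) hLK.le) with h | h
    · rw [← h]; exact le_sup_left
    · exfalso
      haveI : Group.IsSolvable (G ⧸ L) := by
        haveI := hsolv
        let f : G ⧸ N →* G ⧸ L := QuotientGroup.lift N (QuotientGroup.mk' L)
          (fun x hx => (QuotientGroup.eq_one_iff x).2 (hNL hx))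
        have hf : Function.Surjective f := by
          intro q
          induction q using QuotientGroup.induction_on with
          | H g => exact ⟨(g : G ⧸ N), rfl⟩
        exact Group.isSolvable_of_surjective hf
      have hKbar : K.map (QuotientGroup.mk' L) ≠ ⊥ := by
        intro h0
        rw [Subgroup.map_eq_bot_iff, QuotientGroup.ker_mk'] at h0
        exact (not_le_of_gt hLK) h0
      have hlt := Group.IsSolvable.commutator_lt_of_ne_bot hKbar
      rw [← Subgroup.map_commutator] at hlt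
      have h2 : (⁅K, K⁆).map (QuotientGroup.mk' L) = K.map (QuotientGroup.mk' L) := by
        conv_rhs => rw [← h, Subgroup.map_sup]
        have : L.map (QuotientGroup.mk' L) = ⊥ := by
          rw [Subgroup.map_eq_bot_iff, QuotientGroup.ker_mk']
        rw [this, sup_bot_eq]
      rw [h2] at hlt
      exact lt_irrefl _ hlt
  -- Step 5 : apply S0857
  have hinvK : ∀ (g : G) (k : K),
      (fun k : K => χ k) ⟨g * k * g⁻¹, hKn.conj_mem (k : G) k.2 g⟩ = (fun k : K => χ k) k :=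
    fun g k => hχclass k g
  rcases Cfsg.Agent.S0857.result K L hLK hchief' hab (fun k : K => χ k) hKirr hinvK with
    h1 | ⟨φ, e, hφ, he, hsq⟩ | ⟨F, hFirr, hFcard, hFsum⟩
  · exfalso
    have hL𝒦 : L ∈ 𝒦 := ⟨hLn, hNL, h1⟩
    have := hKmin L hL𝒦
    exact hLK.ne (Subgroup.eq_of_le_of_card_ge hLK.le this)
  · exfalso
    refine hchief ⊤ K L hNL hLK le_top (fun h _ k hk => hKn.conj_mem k hk h)
      (fun h _ l hl => hLn.conj_mem l hl h) ?_ ⟨e, by rw [← hsq, sq]⟩
    intro M hLM hMK hMinv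
    exact hchief' M ⟨fun m hm g => hMinv g (Subgroup.mem_top g) m hm⟩ hLM hMK
  -- Step 6 : the inertia group of a constituent is proper
  have hrel : 2 ≤ L.relIndex K := by
    have h1 : L.relIndex K ≠ 0 := (Subgroup.index_ne_zero_of_finite (H := L.subgroupOf K))
    have h2 : L.relIndex K ≠ 1 := by
      rw [Ne, Subgroup.relIndex_eq_one]; exact not_le_of_gt hLK
    omega
  rw [← hFcard] at hrel
  obtain ⟨φ₁, hφ₁F, φ₂, hφ₂F, hne⟩ := Finset.one_lt_card.1 hrel
  have hFsum' : res L χ = ∑ φ ∈ F, φ := hFsum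
  have hinF : ∀ φ ∈ F, classInner (res L χ) φ = 1 := by
    intro φ hφF
    rw [hFsum', classInner_sum_left, Finset.sum_eq_single φ]
    · exact classInner_self_of_isIrrCharacter (hFirr φ hφF)
    · intro ψ hψF hne
      exact classInner_of_isIrrCharacter_of_ne (hFirr ψ hψF) (hFirr φ hφF) hne
    · intro h; exact absurd hφF h
  have hφ₁ := hFirr φ₁ hφ₁F
  let T₁ : Subgroup G :=
    { carrier := {g | conjFun L hLn φ₁ g = φ₁}
      one_mem' := conjFun_one L hLn φ₁
      mul_mem' := by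
        intro a b ha hb
        show conjFun L hLn φ₁ (a * b) = φ₁
        rw [← conjFun_conjFun]
        have ha' : conjFun L hLn φ₁ a = φ₁ := ha
        have hb' : conjFun L hLn φ₁ b = φ₁ := hb
        rw [ha', hb']
      inv_mem' := by
        intro a ha
        show conjFun L hLn φ₁ a⁻¹ = φ₁
        have ha' : conjFun L hLn φ₁ a = φ₁ := ha
        have := conjFun_conjFun L hLn φ₁ a a⁻¹
        rw [ha', mul_inv_cancel, conjFun_one] at this
        exact this }
  have hT₁ : ∀ g : G, g ∈ T₁ ↔ conjFun L hLn φ₁ g = φ₁ := fun g => Iff.rfl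
  have hLT₁ : L ≤ T₁ := fun x hx =>
    conjFun_of_mem L hLn (isClassFunction_of_isIrrCharacter hφ₁) ⟨x, hx⟩
  have hcon : classInner (res L χ) φ₁ ≠ 0 := by
    rw [hinF φ₁ hφ₁F]; exact one_ne_zero
  have hT₁ne : T₁ ≠ ⊤ := by
    intro htop
    have hinv : ∀ g : G, conjFun L hLn φ₁ g = φ₁ := fun g =>
      (hT₁ g).1 (htop ▸ Subgroup.mem_top g)
    have h1 := res_eq_smul_of_invariant L hLn hχ hφ₁ hinv hcon
    have h2 := hinF φ₂ hφ₂F
    rw [h1, classInner_smul_left,
      classInner_of_isIrrCharacter_of_ne hφ₁ (hFirr φ₂ hφ₂F) hne, mul_zero] at h2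
    exact zero_ne_one h2
  -- Step 7 : Clifford correspondence
  haveI : Fintype T₁ := Fintype.ofFinite _
  obtain ⟨ξ, hξ, hξind, -⟩ := corr_surj L T₁ hLn hLT₁ hφ₁ hT₁ hχ hcon
  -- Step 8 : induction
  have hcardlt : Nat.card T₁ < n := by
    rw [← hcard]
    have h1 : Nat.card T₁ ≤ Nat.card G := Subgroup.card_le_card_group T₁
    have h2 : Nat.card T₁ ≠ Nat.card G := fun h => hT₁ne (Subgroup.eq_top_of_card_eq T₁ h)
    omega
  have hNT₁ : N ≤ T₁ := hNL.trans hLT₁
  obtain ⟨H₁, hNH₁, η₁, hη₁, hη₁ind, hη₁N⟩ := ih (Nat.card T₁) hcardlt T₁ rfl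
    (N.subgroupOf T₁) (solvable_sub N T₁ hsolv) (chiefHyp_sub N T₁ hNT₁ hchief) ξ hξ
  obtain ⟨H, hNH, η, hη, hηind, hηN⟩ := transport_concl N T₁ hNT₁ H₁ hNH₁ η₁ hη₁ hη₁N
  exact ⟨H, hNH, η, hη, by rw [hηind, hη₁ind, hξind], hηN⟩

/-- Let N be a normal subgroup of the finite group G with G / N solvable, and suppose that for every subgroup H containing N and all subgroups L < K between N and H that are normal in H with no subgroup normal in H strictly between them, the index of L in K is not a perfect square. Then every irreducible character χ of G is induced from an irreducible character ψ of some subgroup H containing N such that the restriction of ψ to N is irreducible. -/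
theorem result {G : Type*} [Group G] [Fintype G] (N : Subgroup G) [N.Normal] (hsolv : Group.IsSolvable (G ⧸ N)) (hchief : ∀ (H K L : Subgroup G), N ≤ L → L < K → K ≤ H → (∀ h ∈ H, ∀ k ∈ K, h * k * h⁻¹ ∈ K) → (∀ h ∈ H, ∀ l ∈ L, h * l * h⁻¹ ∈ L) → (∀ M : Subgroup G, L ≤ M → M ≤ K → (∀ h ∈ H, ∀ m ∈ M, h * m * h⁻¹ ∈ M) → M = L ∨ M = K) → ¬ IsSquare (L.relIndex K)) (χ : G → ℂ) (hχ : Cfsg.IsIrrCharacter G χ) : ∃ (H : Subgroup G) (hNH : N ≤ H) (ψ : H → ℂ), Cfsg.IsIrrCharacter H ψ ∧ Cfsg.indFun H ψ = χ ∧ Cfsg.IsIrrCharacter N (fun n : N => ψ ⟨(n : G), hNH n.2⟩) :=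
  main (Nat.card G) G rfl N hsolv hchief χ hχ

end Cfsg.Agent.S0858
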