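import Cfsg.Statements.S0869
import Mathlib

set_option autoImplicit false
open Cfsg

namespace Cfsg.Agent.S0869

/-- Let S be a nonempty finite type and R an additive subgroup of the integer-valued functions on S that is closed under pointwise multiplication. If the constant function 1 is not in R, then there exist a point x of S and a prime p such that p divides f x for every f in R. -/
theorem result {S : Type*} [Finite S] [Nonempty S] (R : AddSubgroup (S → ℤ)) (hmul : ∀ f ∈ R, ∀ g ∈ R, f * g ∈ R) (h1 : (1 : S → ℤ) ∉ R) : ∃ (x : S) (p : ℕ), p.Prime ∧ ∀ f ∈ R, (p : ℤ) ∣ f x := by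
  classical
  by_contra hcon
  push Not at hcon
  have key : ∀ x : S, ∃ f ∈ R, f x = 1 := by
    intro x
    let I : AddSubgroup ℤ := R.map (Pi.evalAddMonoidHom (fun _ => ℤ) x)
    obtain ⟨n, hn⟩ := Int.subgroup_cyclic I
    have hmem : ∀ f ∈ R, n ∣ f x := by
      intro f hf
      have : f x ∈ I := ⟨f, hf, rfl⟩
      rw [hn, ← AddSubgroup.zmultiples_eq_closure, Int.mem_zmultiples_iff] at this
      exact this
    have hnI : n ∈ I := by
      rw [hn]; exact AddSubgroup.subset_closure rfl
    have hunit : n.natAbs = 1 := by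
      by_contra hne
      obtain ⟨p, hp, hpn⟩ := Nat.exists_prime_and_dvd hne
      obtain ⟨f, hf, hpf⟩ := hcon x p hp
      apply hpf
      have h1 : (p : ℤ) ∣ n := Int.natCast_dvd.mpr hpn
      exact h1.trans (hmem f hf)
    obtain ⟨f, hf, hfx⟩ := hnI
    rcases Int.natAbs_eq n with h | h
    · refine ⟨f, hf, ?_⟩
      have : f x = n := hfx
      rw [this, h, hunit]; rfl
    · refine ⟨-f, R.neg_mem hf, ?_⟩
      have : f x = n := hfx
      simp only [Pi.neg_apply]
      rw [this, h, hunit]; simp
  choose F hFR hF1 using key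
  have hQ : ∀ T : Finset S, (1 - ∏ x ∈ T, (1 - F x)) ∈ R := by
    intro T
    induction T using Finset.induction_on with
    | empty => simp
    | insert a T ha ih =>
      rw [Finset.prod_insert ha]
      have e : (1 - (1 - F a) * ∏ x ∈ T, (1 - F x)) =
          F a + (1 - ∏ x ∈ T, (1 - F x)) - F a * (1 - ∏ x ∈ T, (1 - F x)) := by ring
      rw [e]
      exact R.sub_mem (R.add_mem (hFR a) ih) (hmul _ (hFR a) _ ih)
  have := Fintype.ofFinite S
  have h0 : (∏ x ∈ (Finset.univ : Finset S), (1 - F x)) = 0 := by
    funext y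
    rw [Finset.prod_apply]
    apply Finset.prod_eq_zero (Finset.mem_univ y)
    simp [hF1 y]
  have := hQ Finset.univ
  rw [h0, sub_zero] at this
  exact h1 this

end Cfsg.Agent.S0869
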