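import Cfsg.Statements.S0870
import Cfsg.Agent.Lib.Helper15_IndFun
import Mathlib

set_option autoImplicit false
open Cfsg

namespace Cfsg.Agent.S0870

open MulAction Cfsg.Agent.Lib.Helper15_IndFun

/-- fixed points on a product -/
theorem card_fixed_prod {G A B : Type*} [Group G] [MulAction G A] [MulAction G B] (g : G) :
    Nat.card {y : A × B // g • y = y} =
      Nat.card {a : A // g • a = a} * Nat.card {b : B // g • b = b} := by
  rw [← Nat.card_prod]
  apply Nat.card_congr
  exact
    { toFun := fun y => (⟨y.1.1, congrArg Prod.fst y.2⟩, ⟨y.1.2, congrArg Prod.snd y.2⟩)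
      invFun := fun ab => ⟨(ab.1.1, ab.2.1), Prod.ext ab.1.2 ab.2.2⟩
      left_inv := fun _ => rfl
      right_inv := fun _ => rfl }

/-- For subgroups H and K of a finite group G, the pointwise product of the functions induced from the constant function 1 on H and on K is a sum, over subgroups U of H with natural-number coefficients, of the functions induced from the constant function 1 on U. -/
theorem result {G : Type*} [Group G] [Fintype G] (H K : Subgroup G) : ∃ a : Subgroup G → ℕ, (∀ U, a U ≠ 0 → U ≤ H) ∧ Cfsg.indFun H (fun _ => 1) * Cfsg.indFun K (fun _ => 1) = ∑ U : Subgroup G, (a U : ℂ) • Cfsg.indFun U (fun _ => 1) := by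
  classical
  let X := (G ⧸ H) × (G ⧸ K)
  let Ω := orbitRel.Quotient G X
  let _ : Fintype Ω := Fintype.ofFinite Ω
  -- good representatives: first coordinate is the trivial coset
  let φ : Ω → X := fun ω => ((ω.out.1.out)⁻¹ : G) • ω.out
  have hφ : ∀ ω : Ω, (Quotient.mk'' (φ ω) : Ω) = ω := by
    intro ω
    have : (Quotient.mk'' (φ ω) : Ω) = Quotient.mk'' ω.out := by
      apply Quotient.sound'
      exact ⟨_, rfl⟩
    rw [this, Quotient.out_eq']
  have hφ1 : ∀ ω : Ω, (φ ω).1 = ((1 : G) : G ⧸ H) := by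
    intro ω
    show ((ω.out.1.out)⁻¹ : G) • ω.out.1 = _
    conv_lhs => rw [← QuotientGroup.out_eq' ω.out.1]
    rw [MulAction.Quotient.smul_mk, smul_eq_mul, QuotientGroup.out_eq', inv_mul_cancel]
  let S : Ω → Subgroup G := fun ω => stabilizer G (φ ω)
  have hS : ∀ ω, S ω ≤ H := by
    intro ω t ht
    have h1 : t • (φ ω).1 = (φ ω).1 := congrArg Prod.fst (mem_stabilizer_iff.mp ht)
    rw [hφ1] at h1
    have h2 : t ∈ stabilizer G (((1 : G) : G ⧸ H)) := mem_stabilizer_iff.mpr h1
    rwa [stabilizer_quotient] at h2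
  refine ⟨fun U => (Finset.univ.filter (fun ω : Ω => S ω = U)).card, ?_, ?_⟩
  · intro U hU
    obtain ⟨ω, hω⟩ := Finset.card_pos.mp (Nat.pos_of_ne_zero hU)
    rw [Finset.mem_filter] at hω
    rw [← hω.2]
    exact hS ω
  · funext g
    rw [Pi.mul_apply, indFun_one_eq_card_fixed, indFun_one_eq_card_fixed]
    rw [← Nat.cast_mul, ← card_fixed_prod (A := G ⧸ H) (B := G ⧸ K) g]
    rw [card_fixed_eq_sum_orbits g φ hφ]
    rw [Finset.sum_apply]
    simp only [Pi.smul_apply, smul_eq_mul]
    have : ∀ U : Subgroup G, ((Finset.univ.filter (fun ω : Ω => S ω = U)).card : ℂ) *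
        indFun U (fun _ => (1 : ℂ)) g =
        ∑ ω : Ω, if S ω = U then indFun (S ω) (fun _ => (1 : ℂ)) g else 0 := by
      intro U
      rw [← Finset.sum_filter, Finset.sum_congr rfl (fun ω hω => by rw [(Finset.mem_filter.mp hω).2]),
        Finset.sum_const, nsmul_eq_mul]
    simp_rw [this]
    rw [Finset.sum_comm]
    apply Finset.sum_congr rfl
    intro ω _
    rw [Finset.sum_ite_eq]
    simp only [Finset.mem_univ, if_true]
    rfl

end Cfsg.Agent.S0870
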