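import Cfsg.Statements.S0871
import Cfsg.Agent.Lib.Helper15_IndFun
import Mathlib

set_option autoImplicit false
open Cfsg

namespace Cfsg.Agent.S0871

open MulAction Cfsg.Agent.Lib.Helper15_IndFun

/-- If `x ^ (p ^ a)` acts trivially on the cosets of `H'`, the number of cosets fixed by `x` is
congruent to the index modulo `p`. -/
theorem card_fixed_modEq_index {N : Type*} [Group N] [Finite N] (p a : ℕ) [Fact p.Prime]
    (H' : Subgroup N) (x : N) (hx : ∀ n : N, n⁻¹ * x ^ (p ^ a) * n ∈ H') :
    Nat.card {c : N ⧸ H' // x • c = c} ≡ H'.index [MOD p] := by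
  have hp : p.Prime := Fact.out
  set σ : Equiv.Perm (N ⧸ H') := MulAction.toPermHom N (N ⧸ H') x with hσ
  have hσpow : σ ^ (p ^ a) = 1 := by
    rw [hσ, ← map_pow]
    ext c
    induction c using QuotientGroup.induction_on with
    | H n =>
      simp only [MulAction.toPermHom_apply, MulAction.toPerm_apply, Equiv.Perm.coe_one, id_eq]
      rw [MulAction.Quotient.smul_mk, eq_comm, QuotientGroup.eq, smul_eq_mul, ← mul_assoc]
      exact hx n
  have hZ : IsPGroup p (Subgroup.zpowers σ) := by
    obtain ⟨j, _, hj⟩ := (Nat.dvd_prime_pow hp).mp (orderOf_dvd_of_pow_eq_one hσpow)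
    apply IsPGroup.of_card (n := j)
    rw [Nat.card_zpowers, hj]
  have key := hZ.card_modEq_card_fixedPoints (N ⧸ H')
  have e : (fixedPoints (Subgroup.zpowers σ) (N ⧸ H')) ≃ {c : N ⧸ H' // x • c = c} := by
    apply Equiv.subtypeEquivRight
    intro c
    constructor
    · intro hc
      exact hc ⟨σ, Subgroup.mem_zpowers σ⟩
    · intro hc z
      have h1 : σ ∈ stabilizer (Equiv.Perm (N ⧸ H')) c := hc
      have h2 : Subgroup.zpowers σ ≤ stabilizer (Equiv.Perm (N ⧸ H')) c :=
        (Subgroup.zpowers_le).mpr h1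
      exact h2 z.2
  rw [Nat.card_congr e] at key
  exact key.symm

theorem indFun_one_eq_subgroupOf {G : Type*} [Group G] [Fintype G] (H N : Subgroup G) [Fintype N]
    (hHN : H ≤ N) (x : G) (hx : x ∈ N) (hT : ∀ g : G, g⁻¹ * x * g ∈ H → g ∈ N) :
    indFun H (fun _ => (1 : ℂ)) x = indFun (H.subgroupOf N) (fun _ => (1 : ℂ)) (⟨x, hx⟩ : N) := by
  rw [indFun_one_apply, indFun_one_apply]
  have h1 : Nat.card (H.subgroupOf N) = Nat.card H :=
    Nat.card_congr (Subgroup.subgroupOfEquivOfLe hHN).toEquiv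
  have h2 : Nat.card {g : G // g⁻¹ * x * g ∈ H} =
      Nat.card {n : N // n⁻¹ * (⟨x, hx⟩ : N) * n ∈ H.subgroupOf N} := by
    apply Nat.card_congr
    exact
      { toFun := fun g => ⟨⟨g.1, hT g.1 g.2⟩, by
          rw [Subgroup.mem_subgroupOf]; exact g.2⟩
        invFun := fun n => ⟨n.1.1, by
          have := n.2
          rw [Subgroup.mem_subgroupOf] at this
          exact this⟩
        left_inv := fun _ => rfl
        right_inv := fun _ => rfl }
  rw [h1, h2]


/-- an element of `H` of order prime to `p` lies in the normal subgroup `C` of `p`-power index -/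
theorem mem_of_coprime_order {G : Type*} [Group G] [Finite G] (p k : ℕ) (C H : Subgroup G)
    (hCH : C ≤ H) (hHN : H ≤ Subgroup.normalizer (C : Set G)) (hk : C.relIndex H = p ^ k)
    (y : G) (hy : y ∈ H) (hcop : Nat.Coprime (orderOf y) p) : y ∈ C := by
  have hnorm : (C.subgroupOf H).Normal := (Subgroup.normal_subgroupOf_iff_le_normalizer hCH).mpr hHN
  have h1 : y ^ C.relIndex H ∈ C := by
    have := Subgroup.pow_index_mem (C.subgroupOf H) (⟨y, hy⟩ : H)
    rw [Subgroup.mem_subgroupOf] at this
    exact this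
  rw [hk] at h1
  have hcop' : Nat.Coprime (p ^ k) (orderOf y) := (Nat.Coprime.pow_right k hcop).symm
  obtain ⟨m, hm⟩ := exists_pow_eq_self_of_coprime hcop'
  rw [← hm]
  exact C.pow_mem h1 m

/-- Let x be an element of the finite group G and p a prime. Then there is a subgroup H having a cyclic normal subgroup C of order prime to p and p-power index in H, such that the value at x of the function induced from the constant function 1 on H is a natural number not divisible by p. -/
theorem result {G : Type*} [Group G] [Fintype G] (x : G) (p : ℕ) (hp : p.Prime) : ∃ H : Subgroup G, (∃ C : Subgroup G, C ≤ H ∧ H ≤ Subgroup.normalizer (C : Set G) ∧ IsCyclic C ∧ Nat.Coprime (Nat.card C) p ∧ ∃ k : ℕ, C.relIndex H = p ^ k) ∧ ∃ n : ℕ, Cfsg.indFun H (fun _ => 1) x = (n : ℂ) ∧ ¬ p ∣ n := by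
  classical
  have : Fact p.Prime := ⟨hp⟩
  have hm0 : orderOf x ≠ 0 := (orderOf_pos x).ne'
  obtain ⟨a, m', hpm', hm⟩ := Nat.exists_eq_pow_mul_and_not_dvd hm0 p hp.ne_one
  set c₀ := x ^ (p ^ a) with hc₀
  set C : Subgroup G := Subgroup.zpowers c₀ with hC
  have hordc : orderOf c₀ = m' := by
    rw [hc₀, orderOf_pow_of_dvd (pow_ne_zero _ hp.ne_zero) ⟨m', hm⟩, hm,
      Nat.mul_div_cancel_left _ (pow_pos hp.pos a)]
  have hCcard : Nat.card C = m' := by rw [hC, Nat.card_zpowers, hordc]
  have hm'cop : Nat.Coprime m' p := ((Nat.Prime.coprime_iff_not_dvd hp).mpr hpm').symm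
  have hCcop : Nat.Coprime (Nat.card C) p := by rw [hCcard]; exact hm'cop
  set N : Subgroup G := Subgroup.normalizer (C : Set G) with hN
  have hCN : C ≤ N := Subgroup.le_normalizer
  -- criterion for membership in `N`
  have hNmem : ∀ g : G, g * c₀ * g⁻¹ ∈ C → g ∈ N := by
    intro g hg
    apply Subgroup.mem_normalizer_fintype
    intro n hn
    obtain ⟨k, rfl⟩ := Subgroup.mem_zpowers_iff.mp hn
    have : g * c₀ ^ k * g⁻¹ = (g * c₀ * g⁻¹) ^ k := by
      rw [conj_zpow]
    rw [this]
    exact C.zpow_mem hg k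
  have hxN : x ∈ N := by
    apply hNmem
    have : x * c₀ * x⁻¹ = c₀ := by
      rw [hc₀, ← pow_succ', pow_succ, mul_inv_cancel_right]
    rw [this]
    exact Subgroup.mem_zpowers c₀
  set C' : Subgroup N := C.subgroupOf N with hC'
  have hC'n : C'.Normal := Subgroup.normal_in_normalizer
  let Q : Sylow p (N ⧸ C') := default
  set f := QuotientGroup.mk' C' with hf
  have hfsurj : Function.Surjective f := QuotientGroup.mk'_surjective C'
  set H' : Subgroup N := (Q : Subgroup (N ⧸ C')).comap f with hH'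
  set H : Subgroup G := H'.map N.subtype with hH
  have hC'H' : C' ≤ H' := by
    have : f.ker = C' := QuotientGroup.ker_mk' C'
    rw [← this]
    exact MonoidHom.ker_le_comap f _
  have hidx : H'.index = (Q : Subgroup (N ⧸ C')).index := Subgroup.index_comap_of_surjective _ hfsurj
  have hpidx : ¬ p ∣ H'.index := by
    rw [hidx]; exact Q.not_dvd_index
  obtain ⟨k, hk⟩ := (IsPGroup.iff_card (p := p) (G := (Q : Subgroup (N ⧸ C')))).mp Q.2
  have hrel' : C'.relIndex H' = p ^ k := by
    have h1 : C' = (⊥ : Subgroup (N ⧸ C')).comap f := by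
      rw [MonoidHom.comap_bot]; exact (QuotientGroup.ker_mk' C').symm
    conv_lhs => rw [h1]
    rw [Subgroup.relIndex_comap, hH', Subgroup.map_comap_eq_self_of_surjective hfsurj,
      Subgroup.relIndex_bot_left, hk]
  have hCmap : C = C'.map N.subtype := (Subgroup.map_subgroupOf_eq_of_le hCN).symm
  have hrel : C.relIndex H = p ^ k := by
    rw [hCmap, hH, Subgroup.relIndex_map_map_of_injective _ _ N.subtype_injective, hrel']
  have hCH : C ≤ H := by
    rw [hCmap, hH]; exact Subgroup.map_mono hC'H'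
  have hHN : H ≤ N := Subgroup.map_subtype_le H'
  -- conjugators of `x` into `H` lie in `N`
  have hT : ∀ g : G, g⁻¹ * x * g ∈ H → g ∈ N := by
    intro g hg
    have hy : g⁻¹ * c₀ * g ∈ H := by
      have : g⁻¹ * c₀ * g = (g⁻¹ * x * g) ^ (p ^ a) := by
        have := conj_pow (a := g⁻¹) (b := x) (i := p ^ a)
        rw [inv_inv] at this
        rw [this]
      rw [this]; exact H.pow_mem hg _
    have hord : orderOf (g⁻¹ * c₀ * g) = m' := by
      have := orderOf_injective (MulAut.conj g⁻¹).toMonoidHom (MulAut.conj g⁻¹).injective c₀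
      simp only [MulEquiv.coe_toMonoidHom, MulAut.conj_apply, inv_inv] at this
      rw [this, hordc]
    have hyC : g⁻¹ * c₀ * g ∈ C :=
      mem_of_coprime_order p k C H hCH hHN hrel _ hy (by rw [hord]; exact hm'cop)
    have : g⁻¹ ∈ N := by
      apply hNmem
      rw [inv_inv]; exact hyC
    exact (Subgroup.inv_mem_iff N).mp this
  have hHsub : H.subgroupOf N = H' := by
    rw [hH]
    exact Subgroup.comap_map_eq_self_of_injective N.subtype_injective H'
  have key := indFun_one_eq_subgroupOf H N hHN x hxN hT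
  rw [hHsub, indFun_one_eq_card_fixed H' (⟨x, hxN⟩ : N)] at key
  have hmod := card_fixed_modEq_index p a H' (⟨x, hxN⟩ : N) (by
    intro n
    apply hC'H'
    have h1 : (⟨x, hxN⟩ : N) ^ (p ^ a) ∈ C' := by
      rw [hC', Subgroup.mem_subgroupOf]
      exact Subgroup.mem_zpowers c₀
    have := hC'n.conj_mem _ h1 n⁻¹
    rwa [inv_inv] at this)
  refine ⟨H, ⟨C, hCH, hHN, inferInstance, hCcop, k, hrel⟩, _, key, ?_⟩
  rw [hmod.dvd_iff dvd_rfl]
  exact hpidx

end Cfsg.Agent.S0871
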