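import Cfsg.Statements.S0872
import Cfsg.Agent.Lib.Helper15_IndFun
import Cfsg.Agent.S0869
import Cfsg.Agent.S0870
import Cfsg.Agent.S0871
import Mathlib

set_option autoImplicit false
open Cfsg

namespace Cfsg.Agent.S0872

open MulAction Cfsg.Agent.Lib.Helper15_IndFun

/-- `H` is quasi-elementary for `p` -/
def QE {G : Type*} [Group G] (p : ℕ) (H : Subgroup G) : Prop :=
  ∃ C : Subgroup G, C ≤ H ∧ H ≤ Subgroup.normalizer (C : Set G) ∧ IsCyclic C ∧
    Nat.Coprime (Nat.card C) p ∧ ∃ k : ℕ, C.relIndex H = p ^ k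

theorem QE_of_le {G : Type*} [Group G] [Finite G] (p : ℕ) (hp : p.Prime) (H U : Subgroup G)
    (hH : QE p H) (hUH : U ≤ H) : QE p U := by
  obtain ⟨C, hCH, hHN, hcyc, hcop, k, hk⟩ := hH
  refine ⟨C ⊓ U, inf_le_right, ?_, ?_, ?_, ?_⟩
  · intro u hu
    have huN : u ∈ Subgroup.normalizer (C : Set G) := hHN (hUH hu)
    rw [Subgroup.mem_normalizer_iff] at huN ⊢
    intro h
    rw [Subgroup.mem_inf, Subgroup.mem_inf, huN h]
    constructor
    · rintro ⟨h1, h2⟩
      exact ⟨h1, U.mul_mem (U.mul_mem hu h2) (U.inv_mem hu)⟩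
    · rintro ⟨h1, h2⟩
      refine ⟨h1, ?_⟩
      have : h = u⁻¹ * (u * h * u⁻¹) * u := by group
      rw [this]
      exact U.mul_mem (U.mul_mem (U.inv_mem hu) h2) hu
  · exact Subgroup.isCyclic_of_le (inf_le_left : C ⊓ U ≤ C)
  · exact Nat.Coprime.coprime_dvd_left (Subgroup.card_dvd_of_le inf_le_left) hcop
  · rw [Subgroup.inf_relIndex_right]
    have hnorm : (C.subgroupOf H).Normal := (Subgroup.normal_subgroupOf_iff_le_normalizer hCH).mpr hHN
    have h1 : (C.subgroupOf H).relIndex (U.subgroupOf H) ∣ (C.subgroupOf H).index :=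
      Subgroup.relIndex_dvd_index_of_normal _ _
    rw [Subgroup.relIndex_subgroupOf hUH] at h1
    have h2 : (C.subgroupOf H).index = p ^ k := hk
    rw [h2] at h1
    obtain ⟨j, _, hj⟩ := (Nat.dvd_prime_pow hp).mp h1
    exact ⟨j, hj⟩

/-- the integer-valued permutation character on the cosets of `H` -/
noncomputable def permChar {G : Type*} [Group G] (H : Subgroup G) : G → ℤ :=
  fun g => (Nat.card {c : G ⧸ H // g • c = c} : ℤ)

theorem permChar_cast {G : Type*} [Group G] [Fintype G] (H : Subgroup G) (g : G) :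
    ((permChar H g : ℤ) : ℂ) = indFun H (fun _ => (1 : ℂ)) g := by
  rw [indFun_one_eq_card_fixed]
  simp [permChar]

/-- integer combinations of permutation characters of quasi-elementary subgroups -/
noncomputable def R {G : Type*} [Group G] [Fintype G] (p : ℕ) : AddSubgroup (G → ℤ) where
  carrier := {f | ∃ a : Subgroup G → ℤ, (∀ H, a H ≠ 0 → QE p H) ∧ f = ∑ H, a H • permChar H}
  zero_mem' := ⟨0, by simp, by simp⟩
  add_mem' := by
    rintro f f' ⟨a, ha, rfl⟩ ⟨b, hb, rfl⟩
    refine ⟨a + b, ?_, ?_⟩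
    · intro H hH
      by_cases h : a H = 0
      · apply hb
        intro h'
        apply hH
        simp [h, h']
      · exact ha H h
    · simp [add_smul, Finset.sum_add_distrib]
  neg_mem' := by
    rintro f ⟨a, ha, rfl⟩
    refine ⟨-a, ?_, ?_⟩
    · intro H hH
      apply ha
      intro h
      apply hH
      simp [h]
    · simp [Finset.sum_neg_distrib]

theorem permChar_mem_R {G : Type*} [Group G] [Fintype G] (p : ℕ) (H : Subgroup G) (hH : QE p H) :
    permChar H ∈ R (G := G) p := by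
  classical
  refine ⟨Pi.single H 1, ?_, ?_⟩
  · intro K hK
    by_cases h : K = H
    · rw [h]; exact hH
    · exfalso; apply hK; simp [h]
  · rw [Finset.sum_eq_single H]
    · simp
    · intro K _ hK
      simp [hK]
    · intro h; exact absurd (Finset.mem_univ H) h

theorem permChar_mul_mem_R {G : Type*} [Group G] [Fintype G] (p : ℕ) (hp : p.Prime)
    (H K : Subgroup G) (hH : QE p H) : permChar H * permChar K ∈ R (G := G) p := by
  obtain ⟨a, ha, hmul⟩ := Cfsg.Agent.S0870.result H K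
  refine ⟨fun U => (a U : ℤ), ?_, ?_⟩
  · intro U hU
    apply QE_of_le p hp H U hH
    apply ha
    intro h
    apply hU
    simp [h]
  · funext g
    apply Int.cast_injective (α := ℂ)
    have := congrFun hmul g
    rw [Pi.mul_apply, Finset.sum_apply] at this
    simp only [Pi.smul_apply, smul_eq_mul] at this
    rw [Pi.mul_apply, Finset.sum_apply]
    push_cast
    simp only [Pi.smul_apply, smul_eq_mul, Int.cast_mul, Int.cast_natCast, permChar_cast]
    exact this

theorem R_mul_mem {G : Type*} [Group G] [Fintype G] (p : ℕ) (hp : p.Prime)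
    (f f' : G → ℤ) (hf : f ∈ R (G := G) p) (hf' : f' ∈ R (G := G) p) : f * f' ∈ R (G := G) p := by
  obtain ⟨a, ha, rfl⟩ := hf
  obtain ⟨b, hb, rfl⟩ := hf'
  rw [Finset.sum_mul_sum]
  apply AddSubgroup.sum_mem
  intro H _
  apply AddSubgroup.sum_mem
  intro K _
  by_cases h : a H = 0
  · rw [h, zero_smul, zero_mul]
    exact AddSubgroup.zero_mem _
  · have : a H • permChar H * b K • permChar K = (a H * b K) • (permChar H * permChar K) := by
      rw [smul_mul_smul_comm]
    rw [this]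
    exact AddSubgroup.zsmul_mem _ (permChar_mul_mem_R p hp H K (ha H h)) _

/-- `R + p • (all functions)` -/
noncomputable def R2 {G : Type*} [Group G] [Fintype G] (p : ℕ) : AddSubgroup (G → ℤ) where
  carrier := {f | ∃ r ∈ R (G := G) p, ∃ h : G → ℤ, f = r + (p : ℤ) • h}
  zero_mem' := ⟨0, AddSubgroup.zero_mem _, 0, by simp⟩
  add_mem' := by
    rintro f f' ⟨r, hr, h, rfl⟩ ⟨r', hr', h', rfl⟩
    refine ⟨r + r', AddSubgroup.add_mem _ hr hr', h + h', ?_⟩
    rw [smul_add]; abel
  neg_mem' := by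
    rintro f ⟨r, hr, h, rfl⟩
    refine ⟨-r, AddSubgroup.neg_mem _ hr, -h, ?_⟩
    rw [smul_neg]; abel

theorem R2_mul_mem {G : Type*} [Group G] [Fintype G] (p : ℕ) (hp : p.Prime)
    (f f' : G → ℤ) (hf : f ∈ R2 (G := G) p) (hf' : f' ∈ R2 (G := G) p) :
    f * f' ∈ R2 (G := G) p := by
  obtain ⟨r, hr, h, rfl⟩ := hf
  obtain ⟨r', hr', h', rfl⟩ := hf'
  refine ⟨r * r', R_mul_mem p hp r r' hr hr', r * h' + h * r' + (p : ℤ) • (h * h'), ?_⟩
  funext g
  simp only [Pi.mul_apply, Pi.add_apply, Pi.smul_apply, smul_eq_mul]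
  ring

theorem one_mem_R2 {G : Type*} [Group G] [Fintype G] (p : ℕ) (hp : p.Prime) :
    (1 : G → ℤ) ∈ R2 (G := G) p := by
  by_contra h1
  have : Nonempty G := ⟨1⟩
  obtain ⟨x, q, hq, hdiv⟩ := Cfsg.Agent.S0869.result (R2 (G := G) p)
    (fun f hf f' hf' => R2_mul_mem p hp f f' hf hf') h1
  -- `p • 1 ∈ R2`, hence `q = p`
  have hp1 : ((p : ℤ) • (1 : G → ℤ)) ∈ R2 (G := G) p := ⟨0, AddSubgroup.zero_mem _, 1, by simp⟩
  have hqp : q = p := by
    have := hdiv _ hp1
    simp only [Pi.smul_apply, Pi.one_apply, smul_eq_mul, mul_one] at this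
    exact (Nat.prime_dvd_prime_iff_eq hq hp).mp (Int.natCast_dvd_natCast.mp this)
  subst hqp
  obtain ⟨H, hQE, n, hn, hpn⟩ := Cfsg.Agent.S0871.result x q hp
  have hmem : permChar H ∈ R2 (G := G) q :=
    ⟨permChar H, permChar_mem_R q H hQE, 0, by simp⟩
  have h2 := hdiv _ hmem
  have h3 : permChar H x = (n : ℤ) := by
    apply Int.cast_injective (α := ℂ)
    rw [permChar_cast, hn]; simp
  rw [h3] at h2
  exact hpn (Int.natCast_dvd_natCast.mp h2)

/-- the polynomial trick: a function in a multiplicatively closed additive subgroup all of whose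
values are prime to `p` has a constant multiple prime to `p` in the subgroup -/
theorem exists_const_mem {G : Type*} [Fintype G] (p : ℕ) (hp : p.Prime) (A : AddSubgroup (G → ℤ))
    (hmul : ∀ f ∈ A, ∀ f' ∈ A, f * f' ∈ A) (r : G → ℤ) (hr : r ∈ A)
    (hrp : ∀ g, ¬ (p : ℤ) ∣ r g) : ∃ m : ℤ, ¬ (p : ℤ) ∣ m ∧ m • (1 : G → ℤ) ∈ A := by
  classical
  have key : ∀ T : Finset G, ∃ B ∈ A,
      ∏ g ∈ T, (r - (r g) • (1 : G → ℤ)) = B + (∏ g ∈ T, (-(r g))) • (1 : G → ℤ) := by
    intro T
    induction T using Finset.induction_on with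
    | empty => exact ⟨0, AddSubgroup.zero_mem _, by simp⟩
    | insert g₀ T hg₀ ih =>
      obtain ⟨B, hB, hprod⟩ := ih
      rw [Finset.prod_insert hg₀, Finset.prod_insert hg₀, hprod]
      refine ⟨r * B + (∏ g ∈ T, (-(r g))) • r - (r g₀) • B, ?_, ?_⟩
      · exact AddSubgroup.sub_mem _ (AddSubgroup.add_mem _ (hmul r hr B hB)
          (AddSubgroup.zsmul_mem _ hr _)) (AddSubgroup.zsmul_mem _ hB _)
      · funext g
        simp only [Pi.mul_apply, Pi.add_apply, Pi.sub_apply, Pi.smul_apply, Pi.one_apply,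
          smul_eq_mul]
        ring
  obtain ⟨B, hB, hprod⟩ := key Finset.univ
  have h0 : ∏ g ∈ (Finset.univ : Finset G), (r - (r g) • (1 : G → ℤ)) = 0 := by
    funext y
    rw [Finset.prod_apply]
    apply Finset.prod_eq_zero (Finset.mem_univ y)
    simp
  rw [h0] at hprod
  refine ⟨∏ g ∈ (Finset.univ : Finset G), (-(r g)), ?_, ?_⟩
  · intro hdvd
    have hpZ : Prime (p : ℤ) := Nat.prime_iff_prime_int.mp hp
    obtain ⟨g, _, hg⟩ := (Prime.dvd_finsetProd_iff hpZ _).mp hdvd
    exact hrp g ((dvd_neg).mp hg)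
  · have : (∏ g ∈ (Finset.univ : Finset G), (-(r g))) • (1 : G → ℤ) = -B := by
      rw [eq_neg_iff_add_eq_zero, add_comm]; exact hprod.symm
    rw [this]
    exact AddSubgroup.neg_mem _ hB

/-- For a finite group G and a prime p there are an integer m not divisible by p and a ℤ-linear combination of functions induced from the constant function 1 on subgroups H, each having a cyclic normal subgroup of order prime to p and p-power index in H, that equals the constant function m. -/
theorem result {G : Type*} [Group G] [Fintype G] (p : ℕ) (hp : p.Prime) : ∃ (m : ℤ) (a : Subgroup G → ℤ), ¬ (p : ℤ) ∣ m ∧ (∀ H, a H ≠ 0 → (∃ C : Subgroup G, C ≤ H ∧ H ≤ Subgroup.normalizer (C : Set G) ∧ IsCyclic C ∧ Nat.Coprime (Nat.card C) p ∧ ∃ k : ℕ, C.relIndex H = p ^ k)) ∧ (fun _ : G => (m : ℂ)) = ∑ H : Subgroup G, (a H : ℂ) • Cfsg.indFun H (fun _ => 1) := by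
  obtain ⟨r, hr, h, h1⟩ := one_mem_R2 (G := G) p hp
  have hrp : ∀ g, ¬ (p : ℤ) ∣ r g := by
    intro g hdvd
    have := congrFun h1 g
    simp only [Pi.one_apply, Pi.add_apply, Pi.smul_apply, smul_eq_mul] at this
    have h2 : (p : ℤ) ∣ 1 := by
      rw [this]; exact dvd_add hdvd (dvd_mul_right _ _)
    have hpZ : Prime (p : ℤ) := Nat.prime_iff_prime_int.mp hp
    exact hpZ.not_dvd_one h2
  obtain ⟨m, hm, hmem⟩ := exists_const_mem p hp (R (G := G) p)
    (fun f hf f' hf' => R_mul_mem p hp f f' hf hf') r hr hrp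
  obtain ⟨a, ha, hsum⟩ := hmem
  refine ⟨m, a, hm, ha, ?_⟩
  funext g
  have := congrFun hsum g
  rw [Finset.sum_apply] at this
  simp only [Pi.smul_apply, Pi.one_apply, smul_eq_mul, mul_one] at this
  rw [Finset.sum_apply]
  simp only [Pi.smul_apply, smul_eq_mul]
  rw [this]
  push_cast
  simp only [permChar_cast]

end Cfsg.Agent.S0872
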