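import Cfsg.Statements.S0875
import Cfsg.Agent.Lib.Helper15_AlgIntChar
import Cfsg.Agent.Lib.Helper15_HallTilde
import Cfsg.Agent.Lib.Helper80_CharBasic

set_option autoImplicit false
open Cfsg

namespace Cfsg.Agent.S0875

open scoped ComplexConjugate
open Cfsg.Agent.Lib.Helper15_PiPart Cfsg.Agent.Lib.Helper15_AlgIntChar
  Cfsg.Agent.Lib.Helper15_HallTilde Cfsg.Agent.Lib.Helper3_CharComplete
  Cfsg.Agent.Lib.Helper3_Elementary Cfsg.Agent.Lib.Helper3_CharOrtho

universe u

section parts

variable {G : Type u} [Group G] [Finite G] {m n : ℕ} (hmn : Nat.card G = m * n)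
  (hcop : Nat.Coprime m n)

include hmn in
theorem pow_eq_one_of_coprime_left {u : G} (hu : Nat.Coprime (orderOf u) n) : u ^ m = 1 := by
  have h1 : orderOf u ∣ m * n := hmn ▸ orderOf_dvd_natCard u
  have h2 : orderOf u ∣ m := hu.dvd_of_dvd_mul_right h1
  obtain ⟨c, hc⟩ := h2
  rw [hc, pow_mul, pow_orderOf_eq_one, one_pow]

include hmn in
theorem pow_eq_one_of_coprime_right {v : G} (hv : Nat.Coprime (orderOf v) m) : v ^ n = 1 := by
  have h1 : orderOf v ∣ m * n := hmn ▸ orderOf_dvd_natCard v
  have h2 : orderOf v ∣ n := hv.dvd_of_dvd_mul_left h1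
  obtain ⟨c, hc⟩ := h2
  rw [hc, pow_mul, pow_orderOf_eq_one, one_pow]

include hmn in
theorem pow_eq_of_decomp {x u v : G} (hx : x = u * v) (hc : Commute u v)
    (hu : Nat.Coprime (orderOf u) n) (hv : Nat.Coprime (orderOf v) m) :
    x ^ crtExp n m hcop.symm = v := by
  rw [hx, hc.mul_pow, pow_crtExp_of_pow_eq_one' n m hcop.symm u (pow_eq_one_of_coprime_left hmn hu),
    pow_crtExp_of_pow_eq_one n m hcop.symm v (pow_eq_one_of_coprime_right hmn hv), one_mul]

include hmn in
theorem exists_decomp (x : G) : ∃ u : G, x = u * x ^ crtExp n m hcop.symm ∧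
    Commute u (x ^ crtExp n m hcop.symm) ∧ Nat.Coprime (orderOf u) n ∧
    Nat.Coprime (orderOf (x ^ crtExp n m hcop.symm)) m := by
  have hxG : x ^ (m * n) = 1 := by rw [← hmn]; exact pow_card_eq_one'
  have hxG' : x ^ (n * m) = 1 := by rw [mul_comm]; exact hxG
  refine ⟨x ^ crtExp m n hcop, ?_, ?_, ?_, ?_⟩
  · rw [← pow_add]
    have h1 : crtExp m n hcop + crtExp n m hcop.symm ≡ 1 [MOD m * n] := by
      rw [← Nat.modEq_and_modEq_iff_modEq_mul hcop]
      constructor
      · have := (crtExp_modEq_one m n hcop).add (crtExp_modEq_zero n m hcop.symm)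
        simpa using this
      · have := (crtExp_modEq_zero m n hcop).add (crtExp_modEq_one n m hcop.symm)
        simpa using this
    have h2 : crtExp m n hcop + crtExp n m hcop.symm ≡ 1 [MOD orderOf x] :=
      h1.of_dvd (orderOf_dvd_of_pow_eq_one hxG)
    have := (pow_eq_pow_iff_modEq (x := x)).2 h2
    rw [pow_one] at this
    exact this.symm
  · exact (Commute.refl x).pow_pow _ _
  · have h1 : (x ^ crtExp m n hcop) ^ m = 1 := pow_crtExp_pow m n hcop x hxG
    exact Nat.Coprime.coprime_dvd_left (orderOf_dvd_of_pow_eq_one h1) hcop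
  · have h1 : (x ^ crtExp n m hcop.symm) ^ n = 1 := pow_crtExp_pow n m hcop.symm x hxG'
    exact Nat.Coprime.coprime_dvd_left (orderOf_dvd_of_pow_eq_one h1) hcop.symm

include hmn in
theorem decomp_iff (g x : G) :
    (∃ v : G, IsConj v g ∧ (∃ u : G, x = u * v ∧ Commute u v ∧ Nat.Coprime (orderOf u) n ∧
      Nat.Coprime (orderOf v) m)) ↔ IsConj (x ^ crtExp n m hcop.symm) g := by
  constructor
  · rintro ⟨v, hvg, u, hx, hc, hu, hv⟩
    rw [pow_eq_of_decomp hmn hcop hx hc hu hv]
    exact hvg
  · intro h
    obtain ⟨u, h1, h2, h3, h4⟩ := exists_decomp hmn hcop x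
    exact ⟨_, h, u, h1, h2, h3, h4⟩

end parts

section elem

variable {G : Type u} [Group G] [Finite G] {n m : ℕ} (hcard : Nat.card G = n * m)
  (hcop : Nat.Coprime n m)

include hcard in
/-- The `n`-part map is multiplicative on elementary subgroups. -/
theorem mul_pow_crtExp (E : Subgroup G) {p : ℕ} (hp : p.Prime) (hE : IsElementary p E)
    (a b : E) : (a * b) ^ crtExp n m hcop = a ^ crtExp n m hcop * b ^ crtExp n m hcop := by
  have hu : (∀ y : E, (∃ j, y ^ (p ^ j) = 1) → y ^ crtExp n m hcop = y) ∨
      (∀ y : E, (∃ j, y ^ (p ^ j) = 1) → y ^ crtExp n m hcop = 1) := by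
    by_cases hpn : p ∣ n
    · left
      rintro y ⟨j, hj⟩
      apply Subtype.ext
      rw [Subgroup.coe_pow]
      apply pow_crtExp_of_pow_eq_one
      have h1 : orderOf (y : G) ∣ p ^ j := by
        apply orderOf_dvd_of_pow_eq_one
        exact_mod_cast congrArg (fun x : E => (x : G)) hj
      have h2 : orderOf (y : G) ∣ n * m := hcard ▸ orderOf_dvd_natCard (y : G)
      have h3 : Nat.Coprime (orderOf (y : G)) m := by
        apply Nat.Coprime.coprime_dvd_left h1
        apply Nat.Coprime.pow_left
        rw [Nat.Prime.coprime_iff_not_dvd hp]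
        intro hpm
        have := Nat.dvd_gcd hpn hpm
        rw [hcop] at this
        exact hp.one_lt.ne' (Nat.dvd_one.1 this)
      have h4 : orderOf (y : G) ∣ n := h3.dvd_of_dvd_mul_right h2
      obtain ⟨c, hc⟩ := h4
      rw [hc, pow_mul, pow_orderOf_eq_one, one_pow]
    · right
      rintro y ⟨j, hj⟩
      apply Subtype.ext
      rw [Subgroup.coe_pow, Subgroup.coe_one]
      apply pow_crtExp_of_pow_eq_one'
      have h1 : orderOf (y : G) ∣ p ^ j := by
        apply orderOf_dvd_of_pow_eq_one
        exact_mod_cast congrArg (fun x : E => (x : G)) hj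
      have h2 : orderOf (y : G) ∣ n * m := hcard ▸ orderOf_dvd_natCard (y : G)
      have h3 : Nat.Coprime (orderOf (y : G)) n := by
        apply Nat.Coprime.coprime_dvd_left h1
        apply Nat.Coprime.pow_left
        rw [Nat.Prime.coprime_iff_not_dvd hp]
        exact hpn
      have h4 : orderOf (y : G) ∣ m := h3.dvd_of_dvd_mul_left h2
      obtain ⟨c, hc⟩ := h4
      rw [hc, pow_mul, pow_orderOf_eq_one, one_pow]
  exact mul_pow_of_isElementary hp hE _ hu a b

open scoped Classical in
/-- The function `ϑ`. -/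
noncomputable def thetaFun (n w : ℕ) (g : G) (x : G) : ℂ := if IsConj (x ^ w) g then (n : ℂ) else 0

omit [Finite G] in
theorem thetaFun_isClassFunction (n w : ℕ) (g : G) : IsClassFunction G (thetaFun n w g) := by
  intro x h
  have : IsConj ((h * x * h⁻¹) ^ w) g ↔ IsConj (x ^ w) g := by
    rw [conj_pow]
    constructor
    · intro hc
      refine IsConj.trans ?_ hc
      rw [isConj_iff]
      exact ⟨h, rfl⟩
    · intro hc
      refine IsConj.trans ?_ hc
      rw [isConj_comm, isConj_iff]
      exact ⟨h, rfl⟩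
  unfold thetaFun
  classical
  exact if_congr this rfl rfl

theorem isIntegral_irr' {B : Type u} [Group B] [Finite B] (β : IrrCharacter B) (b : B) :
    IsIntegral ℤ ((β : B → ℂ) b) := by
  obtain ⟨k, ρ, hirr, hρ⟩ := β.2
  rw [← hρ]
  exact Cfsg.Agent.Lib.Helper3_CharEigen.isIntegral_char ρ b

include hcard in
theorem thetaFun_res_isAIComb (g : G) (E : Subgroup G) [Fintype E] {p : ℕ} (hp : p.Prime)
    (hE : IsElementary p E) :
    IsAIComb E (fun e : E => thetaFun n (crtExp n m hcop) g (e : G)) := by
  classical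
  let f : E →* E :=
    { toFun := fun e => e ^ crtExp n m hcop
      map_one' := one_pow _
      map_mul' := mul_pow_crtExp hcard hcop E hp hE }
  let thetaB : f.range → ℂ := fun b => if IsConj ((b : E) : G) g then (n : ℂ) else 0
  have hfun : (fun e : E => thetaFun n (crtExp n m hcop) g (e : G)) =
      fun e => thetaB (f.rangeRestrict e) := by
    funext e
    rfl
  rw [hfun]
  apply isAIComb_comp_surjective f.rangeRestrict f.rangeRestrict_surjective
  -- the order of the range divides `n`
  have hBpow : ∀ x ∈ f.range.map E.subtype, x ^ n = 1 := by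
    rintro _ ⟨_, ⟨e, rfl⟩, rfl⟩
    show ((e ^ crtExp n m hcop : E) : G) ^ n = 1
    rw [Subgroup.coe_pow]
    apply pow_crtExp_pow
    rw [← hcard]
    exact pow_card_eq_one'
  have hBcard : Nat.card f.range ∣ n := by
    have h1 := card_dvd_of_forall_pow_eq_one hcard hcop (f.range.map E.subtype) hBpow
    rwa [Subgroup.card_map_of_injective E.subtype_injective] at h1
  obtain ⟨k, hk⟩ := hBcard
  refine ⟨?_, fun β => ?_⟩
  · intro b h
    have : IsConj (((h * b * h⁻¹ : f.range) : E) : G) g ↔ IsConj ((b : E) : G) g := by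
      have h1 : (((h * b * h⁻¹ : f.range) : E) : G) =
          ((h : E) : G) * ((b : E) : G) * ((h : E) : G)⁻¹ := by simp
      rw [h1]
      constructor
      · intro hc
        refine IsConj.trans ?_ hc
        rw [isConj_iff]
        exact ⟨_, rfl⟩
      · intro hc
        refine IsConj.trans ?_ hc
        rw [isConj_comm, isConj_iff]
        exact ⟨_, rfl⟩
    simp only [thetaB, this]
  · have h1 : classInner thetaB (β : f.range → ℂ) =
        ∑ b : f.range, (if IsConj ((b : E) : G) g then (k : ℂ) else 0) *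
          conj ((β : f.range → ℂ) b) := by
      unfold classInner
      rw [Finset.mul_sum]
      refine Finset.sum_congr rfl (fun b _ => ?_)
      have hB : (Nat.card f.range : ℂ) ≠ 0 := card_ne_zero_complex
      simp only [thetaB]
      split_ifs
      · rw [hk]
        push_cast
        field_simp
      · simp
    rw [h1]
    refine Subalgebra.sum_mem _ (fun b _ => ?_)
    refine Subalgebra.mul_mem _ ?_ ?_
    · split_ifs
      · exact Subalgebra.natCast_mem _ k
      · exact Subalgebra.zero_mem _
    · rw [← Cfsg.Agent.Lib.Helper80_CharBasic.irr_inv]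
      exact isIntegral_irr' β _

end elem

/-- Let G be a finite group of order m * n with m and n coprime, and g an element whose order is coprime to m. Every x in G factors uniquely as x = u * v with u, v commuting, the order of u coprime to n and the order of v coprime to m; let ϑ be the function on G equal to n at those x whose factor v is conjugate to g and equal to 0 elsewhere. Then ϑ is a linear combination of the irreducible characters of G with algebraic-integer coefficients. -/
theorem result {G : Type*} [Group G] [Fintype G] (m n : ℕ) (hmn : Nat.card G = m * n) (hcop : Nat.Coprime m n) (g : G) (hg : Nat.Coprime (orderOf g) m) (ϑ : G → ℂ) (hϑ1 : ∀ x : G, (∃ v : G, IsConj v g ∧ (∃ u : G, x = u * v ∧ Commute u v ∧ Nat.Coprime (orderOf u) n ∧ Nat.Coprime (orderOf v) m)) → ϑ x = n) (hϑ0 : ∀ x : G, (¬ ∃ v : G, IsConj v g ∧ (∃ u : G, x = u * v ∧ Commute u v ∧ Nat.Coprime (orderOf u) n ∧ Nat.Coprime (orderOf v) m)) → ϑ x = 0) : ∃ c : Cfsg.IrrCharacter G → ℂ, (∀ χ, c χ ∈ Cfsg.AlgInt) ∧ ϑ = ∑ᶠ χ : Cfsg.IrrCharacter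 G, c χ • (χ : G → ℂ) := by
  classical
  have hcard : Nat.card G = n * m := by rw [hmn, mul_comm]
  have hϑ : ϑ = thetaFun n (crtExp n m hcop.symm) g := by
    funext x
    by_cases hx : IsConj (x ^ crtExp n m hcop.symm) g
    · rw [hϑ1 x ((decomp_iff hmn hcop g x).2 hx), thetaFun, if_pos hx]
    · rw [hϑ0 x (fun h => hx ((decomp_iff hmn hcop g x).1 h)), thetaFun, if_neg hx]
  have h : IsAIComb G ϑ := by
    rw [hϑ]
    apply isAIComb_of_elementary _ (thetaFun_isClassFunction _ _ _)
    intro E _ p hp hE
    exact thetaFun_res_isAIComb hcard hcop.symm g E hp hE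
  exact ⟨fun χ => classInner ϑ χ, h.2, classFunction_eq_finsum ϑ h.1⟩

end Cfsg.Agent.S0875
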