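import Cfsg.Statements.S0896
import Cfsg.Agent.Lib.Helper15_OrbitMod
import Cfsg.Agent.Lib.Helper15_Brauer
import Cfsg.Agent.Lib.Helper57_FrobNorm

set_option autoImplicit false
open Cfsg

namespace Cfsg.Agent.S0896

open scoped ComplexConjugate
open Cfsg.Agent.Lib.Helper3_CharBridge Cfsg.Agent.Lib.Helper3_CharOrtho
  Cfsg.Agent.Lib.Helper3_CharComplete Cfsg.Agent.Lib.Helper75_CharArith
  Cfsg.Agent.Lib.Helper75_CharProd Cfsg.Agent.Lib.Helper15_BrauerSpan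
  Cfsg.Agent.Lib.Helper15_Brauer Cfsg.Agent.Lib.Helper15_OrbitMod

universe u

section action

variable {G : Type u} [Group G] (E N : Subgroup G) [hN : N.Normal]

/-- Conjugation by an element of `E` on `E ⊓ N`. -/
def cj (g : E) : ↥(E ⊓ N) ≃* ↥(E ⊓ N) where
  toFun a := ⟨(g : G) * a * (g : G)⁻¹,
    ⟨E.mul_mem (E.mul_mem g.2 a.2.1) (E.inv_mem g.2), hN.conj_mem a a.2.2 g⟩⟩
  invFun a := ⟨(g : G)⁻¹ * a * (g : G),
    ⟨E.mul_mem (E.mul_mem (E.inv_mem g.2) a.2.1) g.2, by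
      simpa using hN.conj_mem a a.2.2 (g : G)⁻¹⟩⟩
  left_inv a := by
    apply Subtype.ext
    simp only
    group
  right_inv a := by
    apply Subtype.ext
    simp only
    group
  map_mul' a b := by
    apply Subtype.ext
    simp only [Subgroup.coe_mul]
    group

@[simp] theorem cj_apply_coe (g : E) (a : ↥(E ⊓ N)) :
    ((cj E N g a : ↥(E ⊓ N)) : G) = (g : G) * a * (g : G)⁻¹ := rfl

@[simp] theorem cj_symm_apply_coe (g : E) (a : ↥(E ⊓ N)) :
    (((cj E N g).symm a : ↥(E ⊓ N)) : G) = (g : G)⁻¹ * a * (g : G) := rfl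

/-- The action of `E` on the irreducible characters of `E ⊓ N`. -/
@[instance_reducible]
noncomputable def irrAction : MulAction E (IrrCharacter ↥(E ⊓ N)) where
  smul g φ := ⟨fun a => (φ : ↥(E ⊓ N) → ℂ) ((cj E N g).symm a),
    Cfsg.Agent.Lib.Helper57_FrobNorm.isIrrCharacter_comp_surjective
      (cj E N g).symm.toMonoidHom (cj E N g).symm.surjective φ.2⟩
  one_smul φ := by
    apply Subtype.ext
    funext a
    show (φ : ↥(E ⊓ N) → ℂ) ((cj E N 1).symm a) = (φ : ↥(E ⊓ N) → ℂ) a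
    refine congrArg (φ : ↥(E ⊓ N) → ℂ) ?_
    apply Subtype.ext
    simp
  mul_smul g h φ := by
    apply Subtype.ext
    funext a
    show (φ : ↥(E ⊓ N) → ℂ) ((cj E N (g * h)).symm a) =
      (φ : ↥(E ⊓ N) → ℂ) ((cj E N h).symm ((cj E N g).symm a))
    refine congrArg (φ : ↥(E ⊓ N) → ℂ) ?_
    apply Subtype.ext
    simp only [cj_symm_apply_coe, Subgroup.coe_mul]
    group

theorem smul_apply (g : E) (φ : IrrCharacter ↥(E ⊓ N)) (a : ↥(E ⊓ N)) :
    letI := irrAction E N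
    ((g • φ : IrrCharacter ↥(E ⊓ N)) : ↥(E ⊓ N) → ℂ) a =
      (φ : ↥(E ⊓ N) → ℂ) ((cj E N g).symm a) := rfl

/-- Elements of `E ∩ N` act trivially. -/
theorem smul_eq_of_mem (g : E) (hg : (g : G) ∈ N) (φ : IrrCharacter ↥(E ⊓ N)) :
    letI := irrAction E N
    g • φ = φ := by
  letI := irrAction E N
  apply Subtype.ext
  funext a
  rw [smul_apply]
  have hcf := isClassFunction_of_isIrrCharacter φ.2
  have h := hcf a ⟨(g : G)⁻¹, ⟨E.inv_mem g.2, N.inv_mem hg⟩⟩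
  rw [← h]
  refine congrArg (φ : ↥(E ⊓ N) → ℂ) ?_
  apply Subtype.ext
  simp

/-- Orbit lengths are powers of `p`. -/
theorem index_stabilizer_pow [Finite G] {p : ℕ} (hp : p.Prime) (hind : ∃ k : ℕ, N.index = p ^ k)
    (φ : IrrCharacter ↥(E ⊓ N)) :
    letI := irrAction E N
    ∃ j, (MulAction.stabilizer E φ).index = p ^ j := by
  letI := irrAction E N
  obtain ⟨k, hk⟩ := hind
  have h1 : N.subgroupOf E ≤ MulAction.stabilizer E φ := by
    intro g hg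
    rw [MulAction.mem_stabilizer_iff]
    exact smul_eq_of_mem E N g (Subgroup.mem_subgroupOf.1 hg) φ
  have h2 : (MulAction.stabilizer E φ).index ∣ p ^ k := by
    rw [← hk]
    exact dvd_trans (Subgroup.index_dvd_of_le h1) (Subgroup.relIndex_dvd_index_of_normal N E)
  obtain ⟨j, -, hj⟩ := (Nat.dvd_prime_pow hp).1 h2
  exact ⟨j, hj⟩

end action

section functional

open Cfsg.Agent.Lib.Helper75_Induced

variable {G : Type u} [Group G] [Fintype G] (N : Subgroup G) [hN : N.Normal]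

/-- The functional `f ↦ [f_N ϑ, ϑ]`. -/
noncomputable def Phi (ϑ : N → ℂ) (f : G → ℂ) : ℂ :=
  open Classical in
  (Nat.card N : ℂ)⁻¹ * ∑ n : N, f n * (ϑ n * conj (ϑ n))

theorem Phi_zero (ϑ : N → ℂ) : Phi N ϑ 0 = 0 := by
  simp [Phi]

theorem Phi_add (ϑ : N → ℂ) (f g : G → ℂ) : Phi N ϑ (f + g) = Phi N ϑ f + Phi N ϑ g := by
  simp only [Phi, Pi.add_apply, add_mul, Finset.sum_add_distrib, mul_add]

theorem Phi_neg (ϑ : N → ℂ) (f : G → ℂ) : Phi N ϑ (-f) = -Phi N ϑ f := by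
  simp only [Phi, Pi.neg_apply, neg_mul, Finset.sum_neg_distrib, mul_neg]

theorem Phi_const (ϑ : N → ℂ) (hϑ : IsIrrCharacter N ϑ) (c : ℂ) :
    Phi N ϑ (fun _ => c) = c := by
  classical
  have h1 := classInner_self_of_isIrrCharacter hϑ
  unfold classInner at h1
  unfold Phi
  simp only
  rw [← Finset.mul_sum, mul_left_comm, h1, mul_one]

open scoped Classical in
/-- The key computation of `Phi` on induced functions. -/
theorem Phi_indFun (ϑ : N → ℂ)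
    (hinv : ∀ (g : G) (n : N), ϑ ⟨g * n * g⁻¹, hN.conj_mem (n : G) n.2 g⟩ = ϑ n)
    (E : Subgroup G) (ψ : E → ℂ) :
    Phi N ϑ (indFun E ψ) * (N.relIndex E : ℂ) =
      (N.index : ℂ) * classInner
        (fun a : ↥(E ⊓ N) => ψ ⟨a, (Subgroup.mem_inf.1 a.2).1⟩ * ϑ ⟨a, (Subgroup.mem_inf.1 a.2).2⟩) (fun a : ↥(E ⊓ N) => ϑ ⟨a, (Subgroup.mem_inf.1 a.2).2⟩) := by
  classical
  -- the inner sum does not depend on the conjugating element
  have hx : ∀ x : G, ∑ n : N, extendByZero E ψ (x⁻¹ * (n : G) * x) * (ϑ n * conj (ϑ n)) =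
      ∑ n : N, extendByZero E ψ (n : G) * (ϑ n * conj (ϑ n)) := by
    intro x
    apply Fintype.sum_equiv (MulAut.conjNormal (x⁻¹ : G) : N ≃* N).toEquiv
    intro n
    have h1 : (((MulAut.conjNormal (x⁻¹ : G) : N ≃* N) n : N) : G) = x⁻¹ * (n : G) * x := by
      simp
    have h2 : ϑ ((MulAut.conjNormal (x⁻¹ : G) : N ≃* N) n) = ϑ n := by
      rw [← hinv x⁻¹ n]
      congr 1
    simp only [MulEquiv.toEquiv_eq_coe, EquivLike.coe_coe]
    rw [h1, h2]
  -- reduction to the intersection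
  have hA : ∑ n : N, extendByZero E ψ (n : G) * (ϑ n * conj (ϑ n)) =
      ∑ a : ↥(E ⊓ N), ψ ⟨a, (Subgroup.mem_inf.1 a.2).1⟩ * (ϑ ⟨a, (Subgroup.mem_inf.1 a.2).2⟩ * conj (ϑ ⟨a, (Subgroup.mem_inf.1 a.2).2⟩)) := by
    symm
    apply Fintype.sum_of_injective (fun a : ↥(E ⊓ N) => (⟨a, (Subgroup.mem_inf.1 a.2).2⟩ : N))
    · intro a b hab
      apply Subtype.ext
      exact congrArg (fun n : N => (n : G)) hab
    · intro n hn
      have : (n : G) ∉ E := by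
        intro hE
        exact hn ⟨⟨n, ⟨hE, n.2⟩⟩, rfl⟩
      rw [extendByZero_of_not_mem E ψ this, zero_mul]
    · intro a
      rw [extendByZero_of_mem E ψ (Subgroup.mem_inf.1 a.2).1]
  have hsum : ∑ n : N, indFun E ψ n * (ϑ n * conj (ϑ n)) =
      (Nat.card E : ℂ)⁻¹ * ((Nat.card G : ℂ) *
        ∑ a : ↥(E ⊓ N), ψ ⟨a, (Subgroup.mem_inf.1 a.2).1⟩ * (ϑ ⟨a, (Subgroup.mem_inf.1 a.2).2⟩ * conj (ϑ ⟨a, (Subgroup.mem_inf.1 a.2).2⟩))) := by
    have h1 : ∀ n : N, indFun E ψ n * (ϑ n * conj (ϑ n)) = (Nat.card E : ℂ)⁻¹ *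
        ∑ x : G, extendByZero E ψ (x⁻¹ * (n : G) * x) * (ϑ n * conj (ϑ n)) := by
      intro n
      rw [indFun_apply, mul_assoc, Finset.sum_mul]
    rw [Finset.sum_congr rfl (fun n _ => h1 n), ← Finset.mul_sum, Finset.sum_comm,
      Finset.sum_congr rfl (fun x _ => hx x), hA, Finset.sum_const, Finset.card_univ,
      nsmul_eq_mul, ← Nat.card_eq_fintype_card (α := G)]
  have hcardG : (Nat.card G : ℂ) = (Nat.card N : ℂ) * (N.index : ℂ) := by
    exact_mod_cast (Subgroup.card_mul_index N).symm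
  have hcardE : (Nat.card E : ℂ) = (Nat.card ↥(E ⊓ N) : ℂ) * (N.relIndex E : ℂ) := by
    have h1 := Subgroup.relIndex_inf_mul_relIndex (⊥ : Subgroup G) N E
    rw [Subgroup.relIndex_bot_left, bot_inf_eq, Subgroup.relIndex_bot_left, inf_comm] at h1
    exact_mod_cast h1.symm
  have hN0 : (Nat.card N : ℂ) ≠ 0 := card_ne_zero_complex
  have hE0 : (Nat.card E : ℂ) ≠ 0 := card_ne_zero_complex
  have hA0 : (Nat.card ↥(E ⊓ N) : ℂ) ≠ 0 := card_ne_zero_complex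
  have hr0 : (N.relIndex E : ℂ) ≠ 0 := by
    intro h
    rw [h, mul_zero] at hcardE
    exact hE0 hcardE
  unfold Phi classInner
  rw [hsum, hcardG, hcardE]
  have : ∑ a : ↥(E ⊓ N), ψ ⟨a, (Subgroup.mem_inf.1 a.2).1⟩ * ϑ ⟨a, (Subgroup.mem_inf.1 a.2).2⟩ * conj (ϑ ⟨a, (Subgroup.mem_inf.1 a.2).2⟩) =
      ∑ a : ↥(E ⊓ N), ψ ⟨a, (Subgroup.mem_inf.1 a.2).1⟩ * (ϑ ⟨a, (Subgroup.mem_inf.1 a.2).2⟩ * conj (ϑ ⟨a, (Subgroup.mem_inf.1 a.2).2⟩)) := by
    refine Finset.sum_congr rfl (fun a _ => ?_)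
    ring
  rw [this]
  field_simp

/-- The functions with `Phi` divisible by `p`. -/
def S (ϑ : N → ℂ) (p : ℕ) : AddSubgroup (G → ℂ) where
  carrier := {f | ∃ z : ℤ, Phi N ϑ f = (p : ℂ) * z}
  zero_mem' := ⟨0, by simp [Phi_zero]⟩
  add_mem' := by
    rintro f g ⟨z, hz⟩ ⟨w, hw⟩
    exact ⟨z + w, by rw [Phi_add, hz, hw]; push_cast; ring⟩
  neg_mem' := by
    rintro f ⟨z, hz⟩
    exact ⟨-z, by rw [Phi_neg, hz]; push_cast; ring⟩

/-- Some generator has `Phi` not divisible by `p`. -/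
theorem exists_gen (p : ℕ) (hp : p.Prime) (ϑ : N → ℂ) (hϑ : IsIrrCharacter N ϑ) :
    ∃ (E : Subgroup G) (ψ : E → ℂ), IsElementary p E ∧ IsCharacter E ψ ∧
      ¬ ∃ z : ℤ, Phi N ϑ (indFun E ψ) = (p : ℂ) * z := by
  by_contra hcon
  push Not at hcon
  obtain ⟨m, hm, hmem⟩ := const_mem_BSpan (G := G) p hp
  have hle : BSpan p G ≤ S N ϑ p := by
    rw [BSpan, AddSubgroup.closure_le]
    rintro f ⟨E, ψ, hE, hψ, rfl⟩
    exact hcon E ψ hE hψ
  obtain ⟨z, hz⟩ := hle hmem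
  rw [Phi_const N ϑ hϑ] at hz
  apply hm
  refine ⟨z, ?_⟩
  exact_mod_cast hz

end functional

section final

theorem classInner_comp_equiv {A : Type u} [Group A] [Fintype A] (σ : A ≃* A) (f h : A → ℂ) :
    classInner (fun a => f (σ a)) (fun a => h (σ a)) = classInner f h := by
  unfold classInner
  congr 1
  exact Fintype.sum_equiv σ.toEquiv _ _ (fun a => rfl)

end final

/-- Let N be a normal subgroup of the finite group G with the index of N a power of the prime p, and ϑ an irreducible character of N invariant under conjugation by G. Then there are a p-elementary subgroup E of G with E ⊔ N = ⊤ and an irreducible character φ of the subgroup E ⊓ N, invariant under conjugation by E, such that the inner product of the restriction of ϑ to E ⊓ N with φ is an integer not divisible by p. -/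
theorem result {G : Type*} [Group G] [Fintype G] (p : ℕ) (hp : p.Prime) (N : Subgroup G) [hN : N.Normal] (hind : ∃ k : ℕ, N.index = p ^ k) (ϑ : N → ℂ) (hϑ : Cfsg.IsIrrCharacter N ϑ) (hinv : ∀ (g : G) (n : N), ϑ ⟨g * n * g⁻¹, hN.conj_mem (n : G) n.2 g⟩ = ϑ n) : ∃ (E : Subgroup G) (φ : ↥(E ⊓ N) → ℂ), Cfsg.IsElementary p E ∧ E ⊔ N = ⊤ ∧ Cfsg.IsIrrCharacter ↥(E ⊓ N) φ ∧ (∀ (g : G) (hg : g ∈ E) (x : ↥(E ⊓ N)), φ ⟨g * x * g⁻¹, ⟨(E.mul_mem (E.mul_mem hg x.2.1) (E.inv_mem hg)), hN.conj_mem (x : G) x.2.2 g⟩⟩ = φ x) ∧ ∃ m : ℕ, ¬ p ∣ m ∧ (Nat.card ↥(E ⊓ N) : ℂ)⁻¹ * ∑ᶠ x : ↥(E ⊓ N), ϑ ⟨(x : G), x.2.2⟩ * conj (φ x) = (m : ℂ) := by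
  classical
  obtain ⟨k, hk⟩ := hind
  obtain ⟨E, ψ, hE, hψ, hnot⟩ := exists_gen N p hp ϑ hϑ
  -- the two restricted characters
  let incE : ↥(E ⊓ N) →* E := Subgroup.inclusion inf_le_left
  let incN : ↥(E ⊓ N) →* N := Subgroup.inclusion inf_le_right
  set β : ↥(E ⊓ N) → ℂ := fun a => ϑ ⟨a, (Subgroup.mem_inf.1 a.2).2⟩ with hβdef
  set α : ↥(E ⊓ N) → ℂ := fun a => ψ ⟨a, (Subgroup.mem_inf.1 a.2).1⟩ * ϑ ⟨a, (Subgroup.mem_inf.1 a.2).2⟩
    with hαdef
  have hβ : IsCharacter ↥(E ⊓ N) β := isCharacter_comp incN (isCharacter_of_isIrrCharacter hϑ)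
  have hψE : IsCharacter ↥(E ⊓ N) (fun a => ψ ⟨a, (Subgroup.mem_inf.1 a.2).1⟩) :=
    isCharacter_comp incE hψ
  have hα : IsCharacter ↥(E ⊓ N) α := isCharacter_mul hψE hβ
  obtain ⟨μ, hμ⟩ := classInner_isCharacter_nat hα hβ
  have hPhi := Phi_indFun N ϑ hinv E ψ
  rw [hμ, hk] at hPhi
  -- the relative index is the full index
  have hrdvd : N.relIndex E ∣ p ^ k := hk ▸ Subgroup.relIndex_dvd_index_of_normal N E
  obtain ⟨i, hik, hi⟩ := (Nat.dvd_prime_pow hp).1 hrdvd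
  have hp0 : (p : ℂ) ≠ 0 := by exact_mod_cast hp.ne_zero
  have hPhi' : Phi N ϑ (indFun E ψ) = (p : ℂ) ^ (k - i) * μ := by
    rw [hi] at hPhi
    have h1 : (p : ℂ) ^ k = (p : ℂ) ^ (k - i) * (p : ℂ) ^ i := by
      rw [← pow_add, Nat.sub_add_cancel hik]
    push_cast at hPhi
    rw [h1] at hPhi
    have h2 : ((p : ℂ) ^ i) ≠ 0 := pow_ne_zero _ hp0
    field_simp at hPhi ⊢
    linear_combination hPhi
  have hki : k = i := by
    by_contra hne
    have hlt : 0 < k - i := by omega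
    apply hnot
    refine ⟨(p : ℤ) ^ (k - i - 1) * μ, ?_⟩
    rw [hPhi']
    have : (p : ℂ) ^ (k - i) = (p : ℂ) * (p : ℂ) ^ (k - i - 1) := by
      rw [← pow_succ', Nat.sub_add_cancel hlt]
    rw [this]
    push_cast
    ring
  have hμp : ¬ p ∣ μ := by
    rintro ⟨c, hc⟩
    apply hnot
    refine ⟨c, ?_⟩
    rw [hPhi', hki, Nat.sub_self, pow_zero, one_mul, hc]
    push_cast
    ring
  have hsup : E ⊔ N = ⊤ := by
    have h1 : N.relIndex (E ⊔ N) = N.index := by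
      rw [Subgroup.relIndex_sup_right, hi, ← hki, hk]
    have h2 := Subgroup.relIndex_mul_index (le_sup_right : N ≤ E ⊔ N)
    rw [h1] at h2
    have h3 : N.index ≠ 0 := by rw [hk]; exact pow_ne_zero _ hp.ne_zero
    have h4 : (E ⊔ N).index = 1 := by
      have : N.index * (E ⊔ N).index = N.index * 1 := by rw [h2, mul_one]
      exact Nat.eq_of_mul_eq_mul_left (Nat.pos_of_ne_zero h3) this
    exact Subgroup.index_eq_one.1 h4
  -- orbit counting on the irreducible characters of `E ⊓ N`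
  letI := irrAction E N
  have hαcf := isClassFunction_of_isCharacter hα
  have ha : ∀ χ : IrrCharacter ↥(E ⊓ N), ∃ n : ℕ, classInner α (χ : ↥(E ⊓ N) → ℂ) = n := fun χ =>
    classInner_isCharacter_nat hα (isCharacter_of_isIrrCharacter χ.2)
  have hb : ∀ χ : IrrCharacter ↥(E ⊓ N), ∃ n : ℕ, classInner (χ : ↥(E ⊓ N) → ℂ) β = n := fun χ =>
    classInner_isCharacter_nat (isCharacter_of_isIrrCharacter χ.2) hβ
  choose a ha using ha
  choose b hb using hb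
  have hβinv : ∀ (g : E) (x : ↥(E ⊓ N)), β ((cj E N g).symm x) = β x := by
    intro g x
    have := hinv (g : G)⁻¹ ⟨x, (Subgroup.mem_inf.1 x.2).2⟩
    show ϑ ⟨((cj E N g).symm x : ↥(E ⊓ N)), _⟩ = ϑ ⟨x, _⟩
    rw [← this]
    congr 1
    apply Subtype.ext
    simp
  have hψinv : ∀ (g : E) (x : ↥(E ⊓ N)),
      ψ ⟨((cj E N g).symm x : ↥(E ⊓ N)), (Subgroup.mem_inf.1 ((cj E N g).symm x).2).1⟩ =
        ψ ⟨x, (Subgroup.mem_inf.1 x.2).1⟩ := by
    intro g x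
    have := isClassFunction_of_isCharacter hψ ⟨x, (Subgroup.mem_inf.1 x.2).1⟩ g⁻¹
    rw [← this]
    congr 1
    apply Subtype.ext
    simp
  have hαinv : ∀ (g : E) (x : ↥(E ⊓ N)), α ((cj E N g).symm x) = α x := by
    intro g x
    simp only [hαdef]
    rw [hψinv g x]
    congr 1
    exact hβinv g x
  have hainv : ∀ (g : E) (χ : IrrCharacter ↥(E ⊓ N)), a (g • χ) = a χ := by
    intro g χ
    have h1 : classInner α ((g • χ : IrrCharacter ↥(E ⊓ N)) : ↥(E ⊓ N) → ℂ) =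
        classInner α (χ : ↥(E ⊓ N) → ℂ) := by
      rw [← classInner_comp_equiv (cj E N g).symm α (χ : ↥(E ⊓ N) → ℂ)]
      congr 1
      funext x
      exact (hαinv g x).symm
    rw [ha, ha] at h1
    exact_mod_cast h1
  have hbinv : ∀ (g : E) (χ : IrrCharacter ↥(E ⊓ N)), b (g • χ) = b χ := by
    intro g χ
    have h1 : classInner ((g • χ : IrrCharacter ↥(E ⊓ N)) : ↥(E ⊓ N) → ℂ) β =
        classInner (χ : ↥(E ⊓ N) → ℂ) β := by
      rw [← classInner_comp_equiv (cj E N g).symm (χ : ↥(E ⊓ N) → ℂ) β]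
      congr 1
      funext x
      exact (hβinv g x).symm
    rw [hb, hb] at h1
    exact_mod_cast h1
  have hsumF : ∑ χ : IrrCharacter ↥(E ⊓ N), a χ * b χ = μ := by
    have h1 := classInner_eq_sum_irr hαcf β
    rw [hμ] at h1
    have h2 : (μ : ℂ) = ((∑ χ : IrrCharacter ↥(E ⊓ N), a χ * b χ : ℕ) : ℂ) := by
      rw [h1]
      push_cast
      refine Finset.sum_congr rfl (fun χ _ => ?_)
      rw [ha, hb]
    exact_mod_cast h2.symm
  obtain ⟨χ, hfix, hχ⟩ := exists_fixed_of_not_dvd p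
    (fun χ => index_stabilizer_pow E N hp ⟨k, hk⟩ χ)
    (fun χ : IrrCharacter ↥(E ⊓ N) => a χ * b χ)
    (fun g χ => by rw [hainv, hbinv]) (by rw [hsumF]; exact hμp)
  refine ⟨E, (χ : ↥(E ⊓ N) → ℂ), hE, hsup, χ.2, ?_, b χ, ?_, ?_⟩
  · intro g hg x
    have h1 : (((⟨g, hg⟩ : E)⁻¹ • χ : IrrCharacter ↥(E ⊓ N)) : ↥(E ⊓ N) → ℂ) x =
        (χ : ↥(E ⊓ N) → ℂ) x := by rw [hfix]
    rw [smul_apply] at h1
    rw [← h1]
    refine congrArg (χ : ↥(E ⊓ N) → ℂ) ?_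
    apply Subtype.ext
    rw [cj_symm_apply_coe]
    simp
  · intro hdvd
    exact hχ (Dvd.dvd.mul_left hdvd _)
  · rw [finsum_eq_sum_of_fintype]
    have h1 : classInner β (χ : ↥(E ⊓ N) → ℂ) = (b χ : ℂ) := by
      rw [← classInner_conj_symm, hb, Complex.conj_natCast]
    rw [← h1]
    unfold classInner
    rfl

end Cfsg.Agent.S0896
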