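import Cfsg.Statements.S0897
import Cfsg.Agent.S0896
import Cfsg.Agent.S0875
import Cfsg.Agent.S0887
import Cfsg.Agent.Lib.Helper15_HallTilde
import Cfsg.Agent.Lib.Helper15_QuasiElem
import Cfsg.Agent.Lib.Helper15_Linear
import Cfsg.Agent.Lib.Helper39_CharTools
import Cfsg.Agent.Lib.Helper75_IndChar

set_option autoImplicit false
open Cfsg

namespace Cfsg.Agent.S0897

open scoped ComplexConjugate
open Cfsg.Agent.Lib.Helper3_CharBridge Cfsg.Agent.Lib.Helper3_CharOrtho
  Cfsg.Agent.Lib.Helper3_CharComplete Cfsg.Agent.Lib.Helper75_CharArith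
  Cfsg.Agent.Lib.Helper75_CharProd Cfsg.Agent.Lib.Helper75_Induced
  Cfsg.Agent.Lib.Helper75_IndChar Cfsg.Agent.Lib.Helper75_Clifford
  Cfsg.Agent.Lib.Helper15_PiPart Cfsg.Agent.Lib.Helper15_QuasiElem
  Cfsg.Agent.Lib.Helper15_Linear

universe u

section general

/-- An element of order prime to `p` lies in every normal subgroup of `p`-power index. -/
theorem mem_of_pow_eq_one_of_index {H : Type*} [Group H] (K : Subgroup H) [K.Normal] {p j m : ℕ}
    (hidx : K.index = p ^ j) (hcop : Nat.Coprime m p) (e : H) (he : e ^ m = 1) : e ∈ K := by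
  rw [← QuotientGroup.eq_one_iff]
  have h1 : ((e : H ⧸ K)) ^ m = 1 := by rw [← QuotientGroup.mk_pow, he, QuotientGroup.mk_one]
  have h2 : ((e : H ⧸ K)) ^ (p ^ j) = 1 := by
    rw [← hidx, Subgroup.index_eq_card]
    exact pow_card_eq_one'
  have h3 : orderOf (e : H ⧸ K) ∣ Nat.gcd m (p ^ j) :=
    Nat.dvd_gcd (orderOf_dvd_of_pow_eq_one h1) (orderOf_dvd_of_pow_eq_one h2)
  have h4 : Nat.gcd m (p ^ j) = 1 := Nat.Coprime.pow_right j hcop
  rw [h4, Nat.dvd_one, orderOf_eq_one_iff] at h3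
  exact h3

/-- `x = x_p * x_{p'}` via CRT exponents. -/
theorem pow_mul_pow_crtExp {H : Type*} [Group H] {n m : ℕ} (hcop : Nat.Coprime n m) (x : H)
    (hx : x ^ (n * m) = 1) : x ^ crtExp n m hcop * x ^ crtExp m n hcop.symm = x := by
  rw [← pow_add]
  have h1 : crtExp n m hcop + crtExp m n hcop.symm ≡ 1 [MOD n * m] := by
    rw [← Nat.modEq_and_modEq_iff_modEq_mul hcop]
    constructor
    · have := (crtExp_modEq_one n m hcop).add (crtExp_modEq_zero m n hcop.symm)
      simpa using this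
    · have := (crtExp_modEq_zero n m hcop).add (crtExp_modEq_one m n hcop.symm)
      simpa using this
  have h2 : crtExp n m hcop + crtExp m n hcop.symm ≡ 1 [MOD orderOf x] :=
    h1.of_dvd (orderOf_dvd_of_pow_eq_one hx)
  have := (pow_eq_pow_iff_modEq (x := x)).2 h2
  rw [pow_one] at this
  exact this

/-- Linear characters of subgroups of abelian groups extend. -/
theorem exists_linear_extension {K : Type u} [Group K] [Fintype K]
    (hK : ∀ a b : K, a * b = b * a) (H : Subgroup K) (lam₀ : H → ℂ) (h₀ : IsCharacter H lam₀)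
    (h₁ : lam₀ 1 = 1) :
    ∃ lam : K → ℂ, IsCharacter K lam ∧ lam 1 = 1 ∧ ∀ h : H, lam h = lam₀ h := by
  classical
  have hind : IsCharacter K (indFun H lam₀) := isCharacter_indFun H h₀
  have hne : indFun H lam₀ 1 ≠ 0 := by
    rw [indFun_apply]
    have : ∀ x : K, extendByZero H lam₀ (x⁻¹ * 1 * x) = 1 := by
      intro x
      have h1 : x⁻¹ * 1 * x = (1 : K) := by simp
      rw [h1, extendByZero_of_mem H lam₀ (Subgroup.one_mem H)]
      exact h₁
    rw [Finset.sum_congr rfl (fun x _ => this x), Finset.sum_const, Finset.card_univ,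
      nsmul_eq_mul, mul_one]
    apply mul_ne_zero
    · exact inv_ne_zero card_ne_zero_complex
    · exact_mod_cast Fintype.card_ne_zero
  obtain ⟨lam, hlam, hcon⟩ := exists_constituent hind hne
  have hlam1 : lam 1 = 1 := irr_one_eq_one_of_comm hK hlam
  refine ⟨lam, isCharacter_of_isIrrCharacter hlam, hlam1, ?_⟩
  rw [frobenius_reciprocity H lam₀ lam (isClassFunction_of_isIrrCharacter hlam)] at hcon
  have hirr₀ : IsIrrCharacter H lam₀ :=
    Cfsg.Agent.Lib.Helper39_CharTools.isIrrCharacter_of_isCharacter_of_one_eq_one h₀ h₁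
  have hres : IsCharacter H (fun h : H => lam h) :=
    isCharacter_restrict H (isCharacter_of_isIrrCharacter hlam)
  have hirr₁ : IsIrrCharacter H (fun h : H => lam h) :=
    Cfsg.Agent.Lib.Helper39_CharTools.isIrrCharacter_of_isCharacter_of_one_eq_one hres hlam1
  rw [classInner_irr hirr₀ hirr₁] at hcon
  by_cases heq : lam₀ = fun h : H => lam h
  · intro h
    exact (congrFun heq h).symm
  · rw [if_neg heq] at hcon
    exact absurd rfl hcon

open scoped Classical in
/-- Restriction to a normal subgroup of an induced function, paired with an invariant weight. -/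
theorem sum_indFun_weight {G : Type u} [Group G] [Fintype G] (N : Subgroup G) [hN : N.Normal]
    (W : N → ℂ) (hW : ∀ (g : G) (n : N), W ⟨g * n * g⁻¹, hN.conj_mem (n : G) n.2 g⟩ = W n)
    (E : Subgroup G) (ψ : E → ℂ) :
    ((Nat.card N : ℂ)⁻¹ * ∑ n : N, indFun E ψ n * W n) * (N.relIndex E : ℂ) =
      (N.index : ℂ) * ((Nat.card ↥(E ⊓ N) : ℂ)⁻¹ * ∑ a : ↥(E ⊓ N),
        ψ ⟨a, (Subgroup.mem_inf.1 a.2).1⟩ * W ⟨a, (Subgroup.mem_inf.1 a.2).2⟩) := by
  have hx : ∀ x : G, ∑ n : N, extendByZero E ψ (x⁻¹ * (n : G) * x) * W n =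
      ∑ n : N, extendByZero E ψ (n : G) * W n := by
    intro x
    apply Fintype.sum_equiv (MulAut.conjNormal (x⁻¹ : G) : N ≃* N).toEquiv
    intro n
    have h1 : (((MulAut.conjNormal (x⁻¹ : G) : N ≃* N) n : N) : G) = x⁻¹ * (n : G) * x := by
      simp
    have h2 : W ((MulAut.conjNormal (x⁻¹ : G) : N ≃* N) n) = W n := by
      rw [← hW x⁻¹ n]
      congr 1
    simp only [MulEquiv.toEquiv_eq_coe, EquivLike.coe_coe]
    rw [h1, h2]
  have hA : ∑ n : N, extendByZero E ψ (n : G) * W n =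
      ∑ a : ↥(E ⊓ N), ψ ⟨a, (Subgroup.mem_inf.1 a.2).1⟩ * W ⟨a, (Subgroup.mem_inf.1 a.2).2⟩ := by
    symm
    apply Fintype.sum_of_injective (fun a : ↥(E ⊓ N) => (⟨a, (Subgroup.mem_inf.1 a.2).2⟩ : N))
    · intro a b hab
      apply Subtype.ext
      exact congrArg (fun n : N => (n : G)) hab
    · intro n hn
      have : (n : G) ∉ E := by
        intro hE
        exact hn ⟨⟨n, ⟨hE, n.2⟩⟩, rfl⟩
      rw [extendByZero_of_not_mem E ψ this, zero_mul]
    · intro a
      rw [extendByZero_of_mem E ψ (Subgroup.mem_inf.1 a.2).1]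
  have hsum : ∑ n : N, indFun E ψ n * W n =
      (Nat.card E : ℂ)⁻¹ * ((Nat.card G : ℂ) *
        ∑ a : ↥(E ⊓ N), ψ ⟨a, (Subgroup.mem_inf.1 a.2).1⟩ * W ⟨a, (Subgroup.mem_inf.1 a.2).2⟩) := by
    have h1 : ∀ n : N, indFun E ψ n * W n = (Nat.card E : ℂ)⁻¹ *
        ∑ x : G, extendByZero E ψ (x⁻¹ * (n : G) * x) * W n := by
      intro n
      rw [indFun_apply, mul_assoc, Finset.sum_mul]
    rw [Finset.sum_congr rfl (fun n _ => h1 n), ← Finset.mul_sum, Finset.sum_comm,
      Finset.sum_congr rfl (fun x _ => hx x), hA, Finset.sum_const, Finset.card_univ,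
      nsmul_eq_mul, ← Nat.card_eq_fintype_card (α := G)]
  have hcardG : (Nat.card G : ℂ) = (Nat.card N : ℂ) * (N.index : ℂ) := by
    exact_mod_cast (Subgroup.card_mul_index N).symm
  have hcardE : (Nat.card E : ℂ) = (Nat.card ↥(E ⊓ N) : ℂ) * (N.relIndex E : ℂ) := by
    have h1 := Subgroup.relIndex_inf_mul_relIndex (⊥ : Subgroup G) N E
    rw [Subgroup.relIndex_bot_left, bot_inf_eq, Subgroup.relIndex_bot_left, inf_comm] at h1
    exact_mod_cast h1.symm
  have hN0 : (Nat.card N : ℂ) ≠ 0 := card_ne_zero_complex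
  have hE0 : (Nat.card E : ℂ) ≠ 0 := card_ne_zero_complex
  have hA0 : (Nat.card ↥(E ⊓ N) : ℂ) ≠ 0 := card_ne_zero_complex
  have hr0 : (N.relIndex E : ℂ) ≠ 0 := by
    intro h
    rw [h, mul_zero] at hcardE
    exact hE0 hcardE
  rw [hsum, hcardG, hcardE]
  field_simp

end general

section hyp

variable {G : Type u} [Group G] {p : ℕ} (N : Subgroup G) [hN : N.Normal]

theorem mem_smul_iff (P : Sylow p G) (g x : G) :
    x ∈ ((g • P : Sylow p G) : Subgroup G) ↔ g⁻¹ * x * g ∈ (P : Subgroup G) := by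
  rw [Sylow.coe_subgroup_smul, Subgroup.mem_pointwise_smul_iff_inv_smul_mem]
  simp [MulAut.smul_def]

/-- The hypotheses on the Sylow subgroup. -/
def Hyp (P : Sylow p G) : Prop :=
  (∀ x ∈ (P : Subgroup G) ⊓ N, ∀ y ∈ (P : Subgroup G), x * y = y * x) ∧
  (∀ lam : ↥((P : Subgroup G) ⊓ N) → ℂ, IsCharacter ↥((P : Subgroup G) ⊓ N) lam → lam 1 = 1 →
    ∃ μ : ↥(P : Subgroup G) → ℂ, IsCharacter ↥(P : Subgroup G) μ ∧ μ 1 = 1 ∧
      ∀ x : ↥((P : Subgroup G) ⊓ N), μ ⟨(x : G), (Subgroup.mem_inf.1 x.2).1⟩ = lam x)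

theorem Hyp.smul {P : Sylow p G} (h : Hyp N P) (g : G) : Hyp N (g • P) := by
  obtain ⟨hcent, hlin⟩ := h
  have hmemN : ∀ x : G, x ∈ N → g⁻¹ * x * g ∈ N := by
    intro x hx
    simpa using hN.conj_mem x hx g⁻¹
  have hmemN' : ∀ x : G, x ∈ N → g * x * g⁻¹ ∈ N := fun x hx => hN.conj_mem x hx g
  constructor
  · intro x hx y hy
    rw [Subgroup.mem_inf, mem_smul_iff] at hx
    rw [mem_smul_iff] at hy
    have h1 := hcent (g⁻¹ * x * g) (Subgroup.mem_inf.2 ⟨hx.1, hmemN x hx.2⟩) (g⁻¹ * y * g) hy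
    have h2 : g⁻¹ * (x * y) * g = g⁻¹ * (y * x) * g := by
      have e1 : g⁻¹ * (x * y) * g = (g⁻¹ * x * g) * (g⁻¹ * y * g) := by group
      have e2 : g⁻¹ * (y * x) * g = (g⁻¹ * y * g) * (g⁻¹ * x * g) := by group
      rw [e1, e2, h1]
    exact mul_left_cancel (mul_right_cancel h2)
  · intro lam hlam hlam1
    -- transport `lam` to `P ⊓ N`
    let ι : ↥((P : Subgroup G) ⊓ N) →* ↥(((g • P : Sylow p G) : Subgroup G) ⊓ N) :=
      { toFun := fun x => ⟨g * x * g⁻¹, by
          rw [Subgroup.mem_inf, mem_smul_iff]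
          refine ⟨?_, hmemN' x (Subgroup.mem_inf.1 x.2).2⟩
          have : g⁻¹ * (g * (x : G) * g⁻¹) * g = x := by group
          rw [this]
          exact (Subgroup.mem_inf.1 x.2).1⟩
        map_one' := by
          apply Subtype.ext
          simp
        map_mul' := by
          intro a b
          apply Subtype.ext
          simp only [Subgroup.coe_mul]
          group }
    obtain ⟨μ, hμ, hμ1, hμlam⟩ := hlin (fun x => lam (ι x)) (isCharacter_comp ι hlam)
      (by simp only [map_one]; exact hlam1)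
    let κ : ↥((g • P : Sylow p G) : Subgroup G) →* ↥(P : Subgroup G) :=
      { toFun := fun y => ⟨g⁻¹ * y * g, (mem_smul_iff P g y).1 y.2⟩
        map_one' := by
          apply Subtype.ext
          simp
        map_mul' := by
          intro a b
          apply Subtype.ext
          simp only [Subgroup.coe_mul]
          group }
    refine ⟨fun y => μ (κ y), isCharacter_comp κ hμ, by simp only [map_one]; exact hμ1, ?_⟩
    intro x
    have hx := (Subgroup.mem_inf.1 x.2)
    have hxP : g⁻¹ * (x : G) * g ∈ (P : Subgroup G) ⊓ N :=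
      Subgroup.mem_inf.2 ⟨(mem_smul_iff P g x).1 hx.1, hmemN x hx.2⟩
    have h1 := hμlam ⟨g⁻¹ * (x : G) * g, hxP⟩
    have h2 : ι ⟨g⁻¹ * (x : G) * g, hxP⟩ = x := by
      apply Subtype.ext
      show g * (g⁻¹ * (x : G) * g) * g⁻¹ = x
      group
    simp only at h1
    rw [h2] at h1
    rw [← h1]
    rfl

end hyp

section construct

variable {G : Type u} [Group G] [Fintype G] {p : ℕ} [hpf : Fact p.Prime] (N : Subgroup G)
  [hN : N.Normal]

/-- The `p'`-part of an element of a `p`-elementary group is central. -/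
theorem central_of_pow_eq_one {E : Type u} [Group E] (hE : IsElementary p E) {m : ℕ}
    (hm : Nat.Coprime m p) (a : E) (ha : a ^ m = 1) (e : E) : a * e = e * a := by
  obtain ⟨z, hz, -, j, hj⟩ := hE
  have hZc : ∀ x ∈ Subgroup.zpowers z, ∀ y : E, x * y = y * x := by
    intro x hx y
    obtain ⟨i, rfl⟩ := Subgroup.mem_zpowers_iff.1 hx
    have : Commute z y := (Subgroup.mem_center_iff.1 hz y).symm
    exact (this.zpow_left i).eq
  haveI : (Subgroup.zpowers z).Normal := by
    refine ⟨fun x hx g => ?_⟩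
    have : g * x * g⁻¹ = x := by rw [← hZc x hx g, mul_inv_cancel_right]
    rw [this]
    exact hx
  exact hZc a (mem_of_pow_eq_one_of_index _ hj hm a ha) e

theorem exists_extension_to_E (hind : ∃ k : ℕ, N.index = p ^ k) (P : Sylow p G) (hP : Hyp N P)
    (E : Subgroup G) (hE : IsElementary p E) {n m : ℕ} (hcard : Nat.card G = n * m)
    (hcop : Nat.Coprime n m) (hm : Nat.Coprime m p)
    (hEP : ∀ e : E, (e : G) ^ crtExp n m hcop ∈ (P : Subgroup G))
    (φ : ↥(E ⊓ N) → ℂ) (hφ : IsIrrCharacter ↥(E ⊓ N) φ) :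
    ∃ ξ : E → ℂ, IsCharacter E ξ ∧
      ∀ a : ↥(E ⊓ N), ξ ⟨a, (Subgroup.mem_inf.1 a.2).1⟩ = φ a := by
  classical
  have hp : p.Prime := hpf.out
  obtain ⟨k, hk⟩ := hind
  obtain ⟨hcent, hlin⟩ := hP
  have hcard' : Nat.card G = m * n := by rw [hcard, mul_comm]
  have hpowG : ∀ x : G, x ^ (n * m) = 1 := fun x => by rw [← hcard]; exact pow_card_eq_one'
  have hpowG' : ∀ x : G, x ^ (m * n) = 1 := fun x => by rw [← hcard']; exact pow_card_eq_one'
  set w := crtExp n m hcop with hw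
  set w' := crtExp m n hcop.symm with hw'
  have hw'm : ∀ x : G, (x ^ w') ^ m = 1 := fun x => pow_crtExp_pow m n hcop.symm x (hpowG' x)
  have hw'N : ∀ x : G, x ^ w' ∈ N := fun x =>
    mem_of_pow_eq_one_of_index N hk hm (x ^ w') (hw'm x)
  have hsplit : ∀ x : G, x ^ w * x ^ w' = x := fun x => pow_mul_pow_crtExp hcop x (hpowG x)
  -- `p'`-parts are central in `E`
  have hcentral : ∀ a e : E, (a : G) ^ w' * (e : G) = (e : G) * (a : G) ^ w' := by
    intro a e
    have h1 : (a ^ w') ^ m = 1 := by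
      apply Subtype.ext
      rw [Subgroup.coe_pow, Subgroup.coe_pow, Subgroup.coe_one]
      exact hw'm a
    have := central_of_pow_eq_one hE hm (a ^ w') h1 e
    exact_mod_cast congrArg (fun x : E => (x : G)) this
  -- `E ⊓ N` is abelian
  have hAcomm : ∀ a b : ↥(E ⊓ N), a * b = b * a := by
    intro a b
    apply Subtype.ext
    rw [Subgroup.coe_mul, Subgroup.coe_mul]
    have haE : (a : G) ∈ E := (Subgroup.mem_inf.1 a.2).1
    have hbE : (b : G) ∈ E := (Subgroup.mem_inf.1 b.2).1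
    have haN : (a : G) ∈ N := (Subgroup.mem_inf.1 a.2).2
    have h1 : (a : G) ^ w * (b : G) ^ w = (b : G) ^ w * (a : G) ^ w :=
      hcent _ (Subgroup.mem_inf.2 ⟨hEP ⟨a, haE⟩, N.pow_mem haN _⟩) _ (hEP ⟨b, hbE⟩)
    have h2 := hcentral ⟨a, haE⟩ ⟨(b : G) ^ w, E.pow_mem hbE _⟩
    have h3 := hcentral ⟨a, haE⟩ ⟨(b : G) ^ w', E.pow_mem hbE _⟩
    have h4 := hcentral ⟨b, hbE⟩ ⟨(a : G) ^ w, E.pow_mem haE _⟩
    simp only at h2 h3 h4
    calc (a : G) * b = ((a : G) ^ w * (a : G) ^ w') * ((b : G) ^ w * (b : G) ^ w') := by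
          rw [hsplit, hsplit]
      _ = (a : G) ^ w * ((a : G) ^ w' * (b : G) ^ w) * (b : G) ^ w' := by group
      _ = (a : G) ^ w * ((b : G) ^ w * (a : G) ^ w') * (b : G) ^ w' := by rw [h2]
      _ = ((a : G) ^ w * (b : G) ^ w) * ((a : G) ^ w' * (b : G) ^ w') := by group
      _ = ((b : G) ^ w * (a : G) ^ w) * ((b : G) ^ w' * (a : G) ^ w') := by rw [h1, h3]
      _ = (b : G) ^ w * ((a : G) ^ w * (b : G) ^ w') * (a : G) ^ w' := by group
      _ = (b : G) ^ w * ((b : G) ^ w' * (a : G) ^ w) * (a : G) ^ w' := by rw [← h4]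
      _ = ((b : G) ^ w * (b : G) ^ w') * ((a : G) ^ w * (a : G) ^ w') := by group
      _ = (b : G) * a := by rw [hsplit, hsplit]
  have hφ1 : φ 1 = 1 := irr_one_eq_one_of_comm hAcomm hφ
  have hφc : IsCharacter ↥(E ⊓ N) φ := isCharacter_of_isIrrCharacter hφ
  -- restrict `φ` to `(E ⊓ N) ⊓ P` and extend to `P ⊓ N`
  let H : Subgroup ↥((P : Subgroup G) ⊓ N) := (E ⊓ N).subgroupOf ((P : Subgroup G) ⊓ N)
  let incl : H →* ↥(E ⊓ N) :=
    { toFun := fun h => ⟨((h : ↥((P : Subgroup G) ⊓ N)) : G), Subgroup.mem_subgroupOf.1 h.2⟩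
      map_one' := rfl
      map_mul' := fun _ _ => rfl }
  have hKcomm : ∀ x y : ↥((P : Subgroup G) ⊓ N), x * y = y * x := by
    intro x y
    apply Subtype.ext
    rw [Subgroup.coe_mul, Subgroup.coe_mul]
    exact hcent x x.2 y (Subgroup.mem_inf.1 y.2).1
  obtain ⟨lam, hlam, hlam1, hlamH⟩ := exists_linear_extension hKcomm H (fun h => φ (incl h))
    (isCharacter_comp incl hφc) (by simp only [map_one]; exact hφ1)
  obtain ⟨μ, hμ, hμ1, hμlam⟩ := hlin lam hlam hlam1
  -- the two power homomorphisms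
  let hom₁ : E →* ↥(P : Subgroup G) :=
    { toFun := fun e => ⟨(e : G) ^ w, hEP e⟩
      map_one' := by
        apply Subtype.ext
        simp
      map_mul' := by
        intro a b
        apply Subtype.ext
        have := congrArg (fun x : E => (x : G))
          (Cfsg.Agent.S0875.mul_pow_crtExp hcard hcop E hp hE a b)
        simp only [Subgroup.coe_pow, Subgroup.coe_mul] at this
        show ((a * b : E) : G) ^ w = (a : G) ^ w * (b : G) ^ w
        rw [Subgroup.coe_mul]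
        exact this }
  let hom₂ : E →* ↥(E ⊓ N) :=
    { toFun := fun e => ⟨(e : G) ^ w', Subgroup.mem_inf.2 ⟨E.pow_mem e.2 _, hw'N e⟩⟩
      map_one' := by
        apply Subtype.ext
        simp
      map_mul' := by
        intro a b
        apply Subtype.ext
        have := congrArg (fun x : E => (x : G))
          (Cfsg.Agent.S0875.mul_pow_crtExp hcard' hcop.symm E hp hE a b)
        simp only [Subgroup.coe_pow, Subgroup.coe_mul] at this
        show ((a * b : E) : G) ^ w' = (a : G) ^ w' * (b : G) ^ w'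
        rw [Subgroup.coe_mul]
        exact this }
  refine ⟨fun e => μ (hom₁ e) * φ (hom₂ e),
    isCharacter_mul (isCharacter_comp hom₁ hμ) (isCharacter_comp hom₂ hφc), ?_⟩
  intro a
  have haE : (a : G) ∈ E := (Subgroup.mem_inf.1 a.2).1
  have haN : (a : G) ∈ N := (Subgroup.mem_inf.1 a.2).2
  have hawPN : (a : G) ^ w ∈ (P : Subgroup G) ⊓ N :=
    Subgroup.mem_inf.2 ⟨hEP ⟨a, haE⟩, N.pow_mem haN _⟩
  have hawEN : (a : G) ^ w ∈ E ⊓ N := Subgroup.mem_inf.2 ⟨E.pow_mem haE _, N.pow_mem haN _⟩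
  have h1 : μ (hom₁ ⟨a, haE⟩) = φ ⟨(a : G) ^ w, hawEN⟩ := by
    have e1 := hμlam ⟨(a : G) ^ w, hawPN⟩
    have e2 := hlamH ⟨⟨(a : G) ^ w, hawPN⟩, Subgroup.mem_subgroupOf.2 hawEN⟩
    simp only at e2
    rw [← e1] at e2
    exact e2
  show μ (hom₁ ⟨a, haE⟩) * φ (hom₂ ⟨a, haE⟩) = φ a
  rw [h1, ← linear_mul φ hφc hφ1]
  congr 1
  apply Subtype.ext
  exact hsplit a

end construct

/-- Let N be a normal subgroup of the finite group G with the index of N a power of the prime p, and P a Sylow p-subgroup of G such that P ⊓ N lies in the centre of P and every character of degree 1 of P ⊓ N is the restriction of a character of degree 1 of P. Then every irreducible character of N invariant under conjugation by G is the restriction of an irreducible character of G. -/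
theorem result {G : Type*} [Group G] [Fintype G] (p : ℕ) [Fact p.Prime] (N : Subgroup G) [hN : N.Normal] (hind : ∃ k : ℕ, N.index = p ^ k) (P : Sylow p G) (hcent : ∀ x ∈ (P : Subgroup G) ⊓ N, ∀ y ∈ (P : Subgroup G), x * y = y * x) (hlin : ∀ lam : ↥((P : Subgroup G) ⊓ N) → ℂ, Cfsg.IsCharacter ↥((P : Subgroup G) ⊓ N) lam → lam 1 = 1 → ∃ μ : ↥(P : Subgroup G) → ℂ, Cfsg.IsCharacter ↥(P : Subgroup G) μ ∧ μ 1 = 1 ∧ ∀ x : ↥((P : Subgroup G) ⊓ N), μ ⟨(x : G), x.2.1⟩ = lam x) (ϑ : N → ℂ) (hϑ : Cfsg.IsIrrCharacter N ϑ) (hinv : ∀ (g : G) (n : N), ϑ ⟨g * n * g⁻¹, hN.conj_mem (n : G) n.2 g⟩ = ϑ n) : ∃ χ : G → ℂ, Cfsg.IsIrrCharacter G χ ∧ ∀ n : N, χ n = ϑ n := by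
  classical
  have hp : p.Prime := Fact.out
  obtain ⟨E, φ, hE, hsup, hφ, -, m₀, hm₀, hinner⟩ :=
    Cfsg.Agent.S0896.result p hp N hind ϑ hϑ hinv
  obtain ⟨k, hk⟩ := hind
  -- the `p`-part and `p'`-part of the order
  have hG0 : Nat.card G ≠ 0 := Nat.card_pos.ne'
  set n : ℕ := p ^ (Nat.card G).factorization p with hn
  set m : ℕ := Nat.card G / p ^ (Nat.card G).factorization p with hm
  have hcard : Nat.card G = n * m := (Nat.ordProj_mul_ordCompl_eq_self (Nat.card G) p).symm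
  have hpm : Nat.Coprime p m := Nat.coprime_ordCompl hp hG0
  have hcop : Nat.Coprime n m := Nat.Coprime.pow_left _ hpm
  have hpowG : ∀ x : G, x ^ (n * m) = 1 := fun x => by rw [← hcard]; exact pow_card_eq_one'
  -- the `p`-parts of the elements of `E` form a `p`-subgroup
  let f : E →* G :=
    { toFun := fun e => (e : G) ^ crtExp n m hcop
      map_one' := by simp
      map_mul' := by
        intro a b
        have := congrArg (fun x : E => (x : G))
          (Cfsg.Agent.S0875.mul_pow_crtExp hcard hcop E hp hE a b)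
        simp only [Subgroup.coe_pow, Subgroup.coe_mul] at this
        rw [Subgroup.coe_mul]
        exact this }
  have hQ₀ : IsPGroup p f.range := by
    rintro ⟨x, e, rfl⟩
    refine ⟨(Nat.card G).factorization p, ?_⟩
    apply Subtype.ext
    rw [Subgroup.coe_pow, Subgroup.coe_one]
    exact pow_crtExp_pow n m hcop (e : G) (hpowG e)
  obtain ⟨Q, hQ⟩ := hQ₀.exists_le_sylow
  obtain ⟨g, hg⟩ := MulAction.exists_smul_eq G P Q
  have hypP : Hyp N P := ⟨hcent, hlin⟩
  have hypQ : Hyp N Q := hg ▸ hypP.smul N g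
  have hEP : ∀ e : E, (e : G) ^ crtExp n m hcop ∈ (Q : Subgroup G) := fun e => hQ ⟨e, rfl⟩
  obtain ⟨ξ, hξ, hξφ⟩ := exists_extension_to_E N ⟨k, hk⟩ Q hypQ E hE hcard hcop hpm.symm hEP φ hφ
  -- the induced character
  have hΘ : IsCharacter G (indFun E ξ) := isCharacter_indFun E hξ
  have hrel : N.relIndex E = N.index := by
    rw [← Subgroup.relIndex_sup_right, hsup, Subgroup.relIndex_top_right]
  have hidx0 : (N.index : ℂ) ≠ 0 := by
    rw [hk]
    exact_mod_cast pow_ne_zero k hp.ne_zero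
  have hinner' : classInner (fun a : ↥(E ⊓ N) => ϑ ⟨a, (Subgroup.mem_inf.1 a.2).2⟩) φ = m₀ := by
    rw [finsum_eq_sum_of_fintype] at hinner
    rw [← hinner]
    rfl
  have hkey : classInner (res N (indFun E ξ)) ϑ = m₀ := by
    have h1 := sum_indFun_weight N (fun n => conj (ϑ n))
      (fun g n => congrArg (starRingEnd ℂ) (hinv g n)) E ξ
    rw [hrel] at h1
    have h2 : ((Nat.card ↥(E ⊓ N) : ℂ)⁻¹ * ∑ a : ↥(E ⊓ N),
        ξ ⟨a, (Subgroup.mem_inf.1 a.2).1⟩ * conj (ϑ ⟨a, (Subgroup.mem_inf.1 a.2).2⟩)) =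
        classInner φ (fun a : ↥(E ⊓ N) => ϑ ⟨a, (Subgroup.mem_inf.1 a.2).2⟩) := by
      unfold classInner
      congr 1
      refine Finset.sum_congr rfl (fun a _ => ?_)
      rw [hξφ a]
    rw [h2, ← classInner_conj_symm, hinner', Complex.conj_natCast] at h1
    have h3 : classInner (res N (indFun E ξ)) ϑ * (N.index : ℂ) = (N.index : ℂ) * m₀ := h1
    field_simp at h3
    linear_combination h3
  -- pick an irreducible constituent
  obtain ⟨c, hc, hdecomp⟩ := exists_multiplicities hΘ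
  have he : ∀ χ : IrrCharacter G, ∃ e : ℕ, classInner (res N (χ : G → ℂ)) ϑ = e := fun χ =>
    classInner_isCharacter_nat (isCharacter_res N (isCharacter_of_isIrrCharacter χ.2))
      (isCharacter_of_isIrrCharacter hϑ)
  choose e he using he
  have hsum : ∑ χ : IrrCharacter G, c χ * e χ = m₀ := by
    have h1 : res N (indFun E ξ) = ∑ χ : IrrCharacter G, (c χ : ℂ) • res N (χ : G → ℂ) := by
      conv_lhs => rw [hdecomp]
      rw [res_sum]
      rfl
    have h2 : (m₀ : ℂ) = ((∑ χ : IrrCharacter G, c χ * e χ : ℕ) : ℂ) := by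
      rw [← hkey, h1, classInner_sum_left]
      push_cast
      refine Finset.sum_congr rfl (fun χ _ => ?_)
      rw [classInner_smul_left, he]
    exact_mod_cast h2.symm
  obtain ⟨χ, hχ⟩ : ∃ χ : IrrCharacter G, ¬ p ∣ e χ := by
    by_contra hcon
    push Not at hcon
    apply hm₀
    rw [← hsum]
    exact Finset.dvd_sum (fun χ _ => Dvd.dvd.mul_left (hcon χ) _)
  have he0 : e χ ≠ 0 := by
    intro h0
    rw [h0] at hχ
    exact hχ (dvd_zero p)
  have hne : classInner (res N (χ : G → ℂ)) ϑ ≠ 0 := by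
    rw [he]
    exact_mod_cast he0
  -- Clifford
  have hcl := clifford N hN χ.2 hϑ hne
  have hset : {ψ : N → ℂ | ∃ g : G, ψ = Cfsg.Agent.Lib.Helper75_Clifford.conjFun N hN ϑ g} =
      {ϑ} := by
    ext ψ
    simp only [Set.mem_ofPred_eq, Set.mem_singleton_iff]
    constructor
    · rintro ⟨g, rfl⟩
      funext x
      exact hinv g x
    · intro h
      refine ⟨1, ?_⟩
      rw [h, conjFun_one]
  rw [hset, finsum_mem_singleton, he] at hcl
  -- degrees
  obtain ⟨d, hdpos, hd⟩ := Cfsg.Agent.Lib.Helper3_CharColumn.irr_one_eq_natCast hϑ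
  have hχ1 : (χ : G → ℂ) 1 = ((e χ * d : ℕ) : ℂ) := by
    have := congrFun hcl 1
    simp only [res_apply, Pi.smul_apply, smul_eq_mul] at this
    rw [Subgroup.coe_one] at this
    rw [this, hd]
    push_cast
    ring
  have hdiv := (Cfsg.Agent.S0887.result N (χ : G → ℂ) χ.2 ϑ hϑ hne (e χ * d) d hχ1 hd).2
  rw [Nat.mul_div_cancel _ hdpos, hk] at hdiv
  obtain ⟨i, -, hi⟩ := (Nat.dvd_prime_pow hp).1 hdiv
  have he1 : e χ = 1 := by
    rcases Nat.eq_zero_or_pos i with h0 | hpos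
    · rw [hi, h0, pow_zero]
    · exfalso
      apply hχ
      rw [hi]
      exact dvd_pow_self p hpos.ne'
  refine ⟨(χ : G → ℂ), χ.2, fun x => ?_⟩
  have := congrFun hcl x
  rw [he1, res_apply] at this
  simpa using this

end Cfsg.Agent.S0897
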