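import Cfsg.Statements.S0890
import Cfsg.Agent.S0897
import Cfsg.Agent.S0858
import Cfsg.Agent.S0887
import Cfsg.Agent.Lib.Helper80_CharInd
import Cfsg.Agent.Lib.Helper1_MinNormal
import Cfsg.Agent.Lib.Helper15_OrbitMod

set_option autoImplicit false
open Cfsg

namespace Cfsg.Agent.S0890

open scoped ComplexConjugate
open Cfsg.Agent.Lib.Helper1_MinNormal
open Cfsg.Agent.Lib.Helper3_CharBridge Cfsg.Agent.Lib.Helper3_CharOrtho
  Cfsg.Agent.Lib.Helper3_CharComplete Cfsg.Agent.Lib.Helper75_CharArith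
  Cfsg.Agent.Lib.Helper75_Induced
  Cfsg.Agent.Lib.Helper75_IndChar Cfsg.Agent.Lib.Helper75_Clifford

universe u



theorem exists_chief {G : Type*} [Group G] [Finite G] (N : Subgroup G) [hNn : N.Normal]
    (hsolv : Group.IsSolvable (G ⧸ N)) (hN : N ≠ ⊤) :
    ∃ K : Subgroup G, K.Normal ∧ N < K ∧
      (∀ C : Subgroup G, C.Normal → N ≤ C → C ≤ K → C = N ∨ C = K) ∧
      (∀ x ∈ K, ∀ y ∈ K, x * y * x⁻¹ * y⁻¹ ∈ N) ∧
      ∃ p : ℕ, p.Prime ∧ ∀ x ∈ K, x ^ p ∈ N := by
  obtain ⟨K, -, hKmin⟩ :=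
    Finite.exists_le_minimal (p := fun K : Subgroup G => K.Normal ∧ N < K) (a := ⊤)
      ⟨inferInstance, lt_top_iff_ne_top.2 hN⟩
  obtain ⟨hKn, hNK⟩ := hKmin.prop
  have hdich : ∀ C : Subgroup G, C.Normal → N ≤ C → C ≤ K → C = N ∨ C = K := by
    intro C hC hNC hCK
    by_cases h : C = N
    · exact Or.inl h
    · right
      exact le_antisymm hCK (hKmin.le_of_le ⟨hC, lt_of_le_of_ne hNC (Ne.symm h)⟩ hCK)
  set π := QuotientGroup.mk' N with hπ
  have hπs : Function.Surjective π := QuotientGroup.mk'_surjective N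
  have hker : π.ker = N := QuotientGroup.ker_mk' N
  have hKbn : (K.map π).Normal := hKn.map π hπs
  have hKbne : K.map π ≠ ⊥ := by
    intro h
    rw [Subgroup.map_eq_bot_iff, hker] at h
    exact not_le_of_gt hNK h
  have hKbsolv : Group.IsSolvable (K.map π) := by
    haveI := hsolv
    exact Group.isSolvable_of_isSolvable_injective (f := (K.map π).subtype)
      (Subgroup.subtype_injective _)
  have hmin : ∀ M : Subgroup (G ⧸ N), M.Normal → M ≤ K.map π → M = ⊥ ∨ M = K.map π := by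
    intro M hM hMK
    have hCn : (M.comap π).Normal := hM.comap π
    have hNC : N ≤ M.comap π := by
      intro x hx
      rw [Subgroup.mem_comap]
      have : π x = 1 := by rw [← MonoidHom.mem_ker, hker]; exact hx
      rw [this]; exact M.one_mem
    have hCK : M.comap π ≤ K := by
      intro x hx
      rw [Subgroup.mem_comap] at hx
      obtain ⟨k, hk, hkx⟩ := hMK hx
      have h1 : k⁻¹ * x ∈ N := by
        rw [← hker, MonoidHom.mem_ker, map_mul, map_inv, hkx, inv_mul_cancel]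
      have : x = k * (k⁻¹ * x) := by group
      rw [this]
      exact K.mul_mem hk (hNK.le h1)
    rcases hdich _ hCn hNC hCK with h | h
    · left
      rw [← Subgroup.map_comap_eq_self_of_surjective hπs M, h, Subgroup.map_eq_bot_iff, hker]
    · right
      rw [← Subgroup.map_comap_eq_self_of_surjective hπs M, h]
  obtain ⟨hab, p, hp, hexp⟩ := elementary_abelian_of_minimal (K.map π) hKbsolv hKbne hmin
  refine ⟨K, hKn, hNK, hdich, ?_, p, hp, ?_⟩
  · intro x hx y hy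
    have hx' : π x ∈ K.map π := Subgroup.mem_map_of_mem π hx
    have hy' : π y ∈ K.map π := Subgroup.mem_map_of_mem π hy
    have hc := hab.is_comm.comm ⟨π x, hx'⟩ ⟨π y, hy'⟩
    have hc' : π x * π y = π y * π x := congrArg Subtype.val hc
    rw [← hker, MonoidHom.mem_ker, map_mul, map_mul, map_mul, map_inv, map_inv, hc']
    group
  · intro x hx
    have hx' : π x ∈ K.map π := Subgroup.mem_map_of_mem π hx
    have := hexp _ hx'
    rw [← hker, MonoidHom.mem_ker, map_pow]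
    exact this



section grp

variable {G : Type*} [Group G]

theorem exists_mul_of_sup_eq_top (K H : Subgroup G) (hK : K.Normal) (h : K ⊔ H = ⊤) (g : G) :
    ∃ k ∈ K, ∃ h ∈ H, g = k * h := by
  have hg : g ∈ ((K ⊔ H : Subgroup G) : Set G) := by rw [h]; trivial
  rw [Subgroup.normal_mul] at hg
  obtain ⟨k, hk, h', hh', rfl⟩ := Set.mem_mul.1 hg
  exact ⟨k, hk, h', hh', rfl⟩

theorem chief_props (N H K : Subgroup G) (hK : K.Normal) (hNH : N ≤ H)
    (hmax : IsCoatom H) (hcore : ∀ C : Subgroup G, C.Normal → C ≤ H → C ≤ N) (hNK : N < K)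
    (hcomm : ∀ x ∈ K, ∀ y ∈ K, x * y * x⁻¹ * y⁻¹ ∈ N) :
    K ⊔ H = ⊤ ∧ K ⊓ H = N := by
  have hnot : ¬ K ≤ H := fun h => not_le_of_gt hNK (hcore K hK h)
  have hsup : K ⊔ H = ⊤ := by
    apply hmax.2
    refine lt_of_le_of_ne le_sup_right ?_
    intro h
    apply hnot
    rw [h]
    exact le_sup_left
  refine ⟨hsup, ?_⟩
  have hNle : N ≤ K ⊓ H := le_inf hNK.le hNH
  have hnorm : (K ⊓ H).Normal := by
    constructor
    intro x hx g
    obtain ⟨k, hk, h, hh, rfl⟩ := exists_mul_of_sup_eq_top K H hK hsup g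
    have hy : h * x * h⁻¹ ∈ K ⊓ H :=
      ⟨hK.conj_mem x hx.1 h, H.mul_mem (H.mul_mem hh hx.2) (H.inv_mem hh)⟩
    have h1 : k * (h * x * h⁻¹) * k⁻¹ * (h * x * h⁻¹)⁻¹ ∈ N := by
      have := hcomm k hk (h * x * h⁻¹) hy.1
      exact this
    have h2 : k * h * x * (k * h)⁻¹ =
        (k * (h * x * h⁻¹) * k⁻¹ * (h * x * h⁻¹)⁻¹) * (h * x * h⁻¹) := by group
    rw [h2]
    exact (K ⊓ H).mul_mem (hNle h1) hy
  exact le_antisymm (hcore _ hnorm inf_le_right) hNle

theorem conj_mem_of_mem (N H K D : Subgroup G) (hK : K.Normal) (hsup : K ⊔ H = ⊤)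
    (hinf : K ⊓ H = N) (hND : N ≤ D) (hDH : D ≤ H)
    (hDn : ∀ h ∈ H, ∀ d ∈ D, h * d * h⁻¹ ∈ D) (d : G) (hd : d ∈ D) (x : G)
    (hx : x⁻¹ * d * x ∈ H) : x⁻¹ * d * x ∈ D := by
  obtain ⟨k, hk, h, hh, rfl⟩ := exists_mul_of_sup_eq_top K H hK hsup x
  have h1 : k⁻¹ * d * k ∈ H := by
    have : k⁻¹ * d * k = h * ((k * h)⁻¹ * d * (k * h)) * h⁻¹ := by group
    rw [this]
    exact H.mul_mem (H.mul_mem hh hx) (H.inv_mem hh)
  have h2 : d⁻¹ * (k⁻¹ * d * k) ∈ K ⊓ H := by
    refine ⟨?_, H.mul_mem (H.inv_mem (hDH hd)) h1⟩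
    have : d⁻¹ * (k⁻¹ * d * k) = (d⁻¹ * k⁻¹ * d⁻¹⁻¹) * k := by group
    rw [this]
    exact K.mul_mem (hK.conj_mem _ (K.inv_mem hk) _) hk
  rw [hinf] at h2
  have h3 : k⁻¹ * d * k ∈ D := by
    have : k⁻¹ * d * k = d * (d⁻¹ * (k⁻¹ * d * k)) := by group
    rw [this]
    exact D.mul_mem hd (hND h2)
  have h4 : (k * h)⁻¹ * d * (k * h) = h⁻¹ * (k⁻¹ * d * k) * h⁻¹⁻¹ := by group
  rw [h4]
  exact hDn _ (H.inv_mem hh) _ h3

theorem sup_props (N H K D : Subgroup G) (hK : K.Normal) (hsup : K ⊔ H = ⊤)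
    (hinf : K ⊓ H = N) (hND : N ≤ D) (hDH : D ≤ H)
    (hDn : ∀ h ∈ H, ∀ d ∈ D, h * d * h⁻¹ ∈ D) :
    (K ⊔ D).Normal ∧ (K ⊔ D) ⊔ H = ⊤ ∧ H ⊓ (K ⊔ D) ≤ D ∧ K ⊓ D = N := by
  have hmem : ∀ m, m ∈ K ⊔ D ↔ ∃ a ∈ K, ∃ b ∈ D, m = a * b := by
    intro m
    rw [← SetLike.mem_coe, Subgroup.normal_mul, Set.mem_mul]
    constructor
    · rintro ⟨a, ha, b, hb, rfl⟩; exact ⟨a, ha, b, hb, rfl⟩
    · rintro ⟨a, ha, b, hb, rfl⟩; exact ⟨a, ha, b, hb, rfl⟩
  refine ⟨?_, ?_, ?_, ?_⟩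
  · constructor
    intro m hm g
    obtain ⟨k, hk, h, hh, rfl⟩ := exists_mul_of_sup_eq_top K H hK hsup g
    obtain ⟨a, ha, b, hb, rfl⟩ := (hmem m).1 hm
    have h1 : h * (a * b) * h⁻¹ ∈ K ⊔ D := by
      rw [hmem]
      refine ⟨h * a * h⁻¹, hK.conj_mem a ha h, h * b * h⁻¹, hDn h hh b hb, by group⟩
    have hkM : k ∈ K ⊔ D := (le_sup_left : K ≤ K ⊔ D) hk
    have h2 : k * h * (a * b) * (k * h)⁻¹ = k * (h * (a * b) * h⁻¹) * k⁻¹ := by group
    rw [h2]
    exact (K ⊔ D).mul_mem ((K ⊔ D).mul_mem hkM h1) ((K ⊔ D).inv_mem hkM)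
  · rw [eq_top_iff, ← hsup]
    exact sup_le (le_sup_left.trans le_sup_left) le_sup_right
  · intro m hm
    obtain ⟨a, ha, b, hb, rfl⟩ := (hmem m).1 hm.2
    have h1 : a ∈ K ⊓ H := by
      refine ⟨ha, ?_⟩
      have : a = (a * b) * b⁻¹ := by group
      rw [this]
      exact H.mul_mem hm.1 (H.inv_mem (hDH hb))
    rw [hinf] at h1
    exact D.mul_mem (hND h1) hb
  · apply le_antisymm
    · rw [← hinf]
      exact inf_le_inf_left K hDH
    · rw [← hinf]
      exact le_inf inf_le_left (hinf ▸ hND)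

end grp


section grp

variable {G : Type*} [Group G]

theorem relIndex_pow (N K : Subgroup G) [hN : N.Normal] [Finite G] (p : ℕ) [Fact p.Prime]
    (hexp : ∀ x ∈ K, x ^ p ∈ N) : ∃ a : ℕ, N.relIndex K = p ^ a := by
  have hP : IsPGroup p (↥K ⧸ N.subgroupOf K) := by
    intro g
    induction g using QuotientGroup.induction_on with
    | H k =>
      refine ⟨1, ?_⟩
      rw [pow_one, ← QuotientGroup.mk_pow, QuotientGroup.eq_one_iff, Subgroup.mem_subgroupOf]
      exact hexp k k.2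
  obtain ⟨a, ha⟩ := IsPGroup.iff_card.1 hP
  refine ⟨a, ?_⟩
  rw [← ha]
  rfl

theorem index_eq_relIndex [Finite G] (N H K : Subgroup G) (hK : K.Normal) (hNK : N ≤ K)
    (hNH : N ≤ H) (hsup : K ⊔ H = ⊤) (hinf : K ⊓ H = N) : H.index = N.relIndex K := by
  have h1 : K.index = N.relIndex H := by
    rw [← Subgroup.relIndex_top_right, ← hsup, Subgroup.relIndex_sup_left,
      ← Subgroup.inf_relIndex_right, hinf]
  have h2 : N.relIndex K * K.index = N.index := Subgroup.relIndex_mul_index hNK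
  have h3 : N.relIndex H * H.index = N.index := Subgroup.relIndex_mul_index hNH
  have h4 : N.relIndex H ≠ 0 := by
    haveI : N.IsFiniteRelIndex H := Subgroup.isFiniteRelIndex_of_finiteIndex
    exact Subgroup.relIndex_ne_zero
  rw [h1, ← h3, mul_comm] at h2
  exact (Nat.eq_of_mul_eq_mul_left (Nat.pos_of_ne_zero h4) h2).symm

theorem relIndex_sup_eq (N K D : Subgroup G) [hK : K.Normal] (hinf : K ⊓ D = N) :
    K.relIndex (K ⊔ D) = N.relIndex D := by
  rw [Subgroup.relIndex_sup_left, ← Subgroup.inf_relIndex_right, hinf]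

end grp


section grp

variable {G : Type*} [Group G]


open scoped Classical in
/-- A `p`-group acting on a nontrivial `p`-group has a nontrivial fixed point (mod `N`). -/
theorem exists_fixed_mod [Finite G] (N K D : Subgroup G) [hN : N.Normal] (hK : K.Normal)
    (p : ℕ) (hp : p.Prime) (hNK : N < K) (a b : ℕ) (ha : N.relIndex K = p ^ a)
    (hb : N.relIndex D = p ^ b) :
    ∃ k ∈ K, k ∉ N ∧ ∀ d ∈ D, (QuotientGroup.mk' N d) * (QuotientGroup.mk' N k) =
      (QuotientGroup.mk' N k) * (QuotientGroup.mk' N d) := by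
  have : Fintype G := Fintype.ofFinite G
  have : Fintype (G ⧸ N) := Fintype.ofFinite _
  have : Fintype D := Fintype.ofFinite _
  set π := QuotientGroup.mk' N with hπ
  have hπs : Function.Surjective π := QuotientGroup.mk'_surjective N
  have hker : π.ker = N := QuotientGroup.ker_mk' N
  letI act : MulAction ↥D (G ⧸ N) :=
    MulAction.compHom (G ⧸ N) ((MulAut.conj : (G ⧸ N) →* MulAut (G ⧸ N)).comp (π.comp D.subtype))
  have hsmul : ∀ (d : D) (x : G ⧸ N), d • x = π d * x * (π d)⁻¹ := fun d x => rfl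
  have hKb : (K.map π).Normal := hK.map π hπs
  let F : G ⧸ N → ℕ := fun x => if x ∈ K.map π ∧ x ≠ 1 then 1 else 0
  have hF : ∀ (d : D) (x : G ⧸ N), F (d • x) = F x := by
    intro d x
    have h1 : d • x ∈ K.map π ↔ x ∈ K.map π := by
      rw [hsmul]
      constructor
      · intro h
        have := hKb.conj_mem _ h (π d)⁻¹
        have h2 : (π d)⁻¹ * (π d * x * (π d)⁻¹) * (π d)⁻¹⁻¹ = x := by group
        rwa [h2] at this
      · intro h
        exact hKb.conj_mem _ h (π d)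
    have h2 : d • x ≠ 1 ↔ x ≠ 1 := by
      rw [hsmul, not_iff_not]
      constructor
      · intro h
        have : x = (π d)⁻¹ * (π d * x * (π d)⁻¹) * (π d) := by group
        rw [this, h]; group
      · intro h
        rw [h]; group
    exact if_congr (and_congr h1 h2) rfl rfl
  have horb : ∀ x : G ⧸ N, ∃ j, (MulAction.stabilizer ↥D x).index = p ^ j := by
    intro x
    have hle : N.subgroupOf D ≤ MulAction.stabilizer ↥D x := by
      intro n hn
      rw [MulAction.mem_stabilizer_iff, hsmul]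
      have : π n = 1 := by
        rw [← MonoidHom.mem_ker, hker]; exact Subgroup.mem_subgroupOf.1 hn
      rw [this]; group
    have hdvd := Subgroup.index_dvd_of_le hle
    have : (N.subgroupOf D).index = p ^ b := hb
    rw [this] at hdvd
    obtain ⟨j, -, hj⟩ := (Nat.dvd_prime_pow hp).1 hdvd
    exact ⟨j, hj⟩
  have hcardK : Nat.card (K.map π) = p ^ a := by
    have hc : Subgroup.comap π ⊥ = N := hker
    rw [← ha, ← Subgroup.relIndex_bot_left, ← Subgroup.relIndex_comap, hc]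
  have hapos : 0 < a := by
    rcases Nat.eq_zero_or_pos a with h0 | h0
    · exfalso
      rw [h0, pow_zero, Subgroup.relIndex_eq_one] at ha
      exact not_le_of_gt hNK ha
    · exact h0
  have hsum : ∑ x : G ⧸ N, F x + 1 = p ^ a := by
    rw [← hcardK]
    have h1 : ∑ x : G ⧸ N, F x = ((Finset.univ.filter (fun x : G ⧸ N => x ∈ K.map π)).erase 1).card := by
      rw [Finset.card_eq_sum_ones, Finset.sum_ite]
      simp only [Finset.sum_const_zero, add_zero]
      apply Finset.sum_congr _ (fun _ _ => rfl)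
      ext x
      simp [and_comm]
    rw [h1, Finset.card_erase_of_mem
      (Finset.mem_filter.2 ⟨Finset.mem_univ _, Subgroup.one_mem _⟩)]
    have h2 : (Finset.univ.filter (fun x : G ⧸ N => x ∈ K.map π)).card = Nat.card (K.map π) := by
      rw [Nat.card_eq_fintype_card, Fintype.card_subtype]
    rw [h2]
    have : 0 < Nat.card (K.map π) := Nat.card_pos
    omega
  have hnd : ¬ p ∣ ∑ x : G ⧸ N, F x := by
    intro hd
    have h1 : p ∣ p ^ a := dvd_pow_self p hapos.ne'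
    rw [← hsum] at h1
    have h2 : p ∣ 1 := (Nat.dvd_add_right hd).1 h1
    exact hp.one_lt.ne' (Nat.dvd_one.1 h2)
  obtain ⟨x, hfix, hFx⟩ := Cfsg.Agent.Lib.Helper15_OrbitMod.exists_fixed_of_not_dvd p horb F hF hnd
  have hx : x ∈ K.map π ∧ x ≠ 1 := by
    by_contra h
    apply hFx
    show p ∣ (if _ then 1 else 0)
    rw [if_neg h]
    exact dvd_zero p
  obtain ⟨⟨k, hk, rfl⟩, hx1⟩ := hx
  refine ⟨k, hk, ?_, ?_⟩
  · intro hkN
    apply hx1
    rw [← MonoidHom.mem_ker, hker]; exact hkN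
  · intro d hd
    have := hfix ⟨d, hd⟩
    rw [hsmul] at this
    have h3 : π d * π k = (π d * π k * (π d)⁻¹) * π d := by group
    rw [h3]
    congr 1

end grp


section grp

variable {G : Type*} [Group G]



theorem false_of_same_prime [Finite G] (N H K D : Subgroup G) [hN : N.Normal] (hK : K.Normal)
    (p : ℕ) (hp : p.Prime) (hNK : N < K)
    (hdich : ∀ C : Subgroup G, C.Normal → N ≤ C → C ≤ K → C = N ∨ C = K)
    (hcomm : ∀ x ∈ K, ∀ y ∈ K, x * y * x⁻¹ * y⁻¹ ∈ N)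
    (hsup : K ⊔ H = ⊤) (hcore : ∀ C : Subgroup G, C.Normal → C ≤ H → C ≤ N)
    (hND : N < D) (hDH : D ≤ H) (hDn : ∀ h ∈ H, ∀ d ∈ D, h * d * h⁻¹ ∈ D)
    (a b : ℕ) (ha : N.relIndex K = p ^ a) (hb : N.relIndex D = p ^ b) : False := by
  obtain ⟨k₀, hk₀, hk₀N, hfix⟩ := exists_fixed_mod N K D hK p hp hNK a b ha hb
  set π := QuotientGroup.mk' N with hπ
  have hker : π.ker = N := QuotientGroup.ker_mk' N
  have hone : ∀ x, x ∈ N → π x = 1 := by
    intro x hx
    rw [← MonoidHom.mem_ker, hker]; exact hx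
  have hmemN : ∀ x, π x = 1 → x ∈ N := by
    intro x hx
    rw [← hker, MonoidHom.mem_ker]; exact hx
  let C : Subgroup G := K ⊓ (Subgroup.centralizer ((D.map π : Subgroup (G ⧸ N)) : Set (G ⧸ N))).comap π
  have hmemC : ∀ x, x ∈ C ↔ x ∈ K ∧ ∀ d ∈ D, π d * π x = π x * π d := by
    intro x
    rw [Subgroup.mem_inf, Subgroup.mem_comap, Subgroup.mem_centralizer_iff]
    constructor
    · rintro ⟨h1, h2⟩
      exact ⟨h1, fun d hd => h2 _ (Subgroup.mem_map_of_mem π hd)⟩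
    · rintro ⟨h1, h2⟩
      refine ⟨h1, ?_⟩
      rintro _ ⟨d, hd, rfl⟩
      exact h2 d hd
  have hNC : N ≤ C := by
    intro n hn
    rw [hmemC]
    refine ⟨hNK.le hn, fun d _ => ?_⟩
    rw [hone n hn, mul_one, one_mul]
  have hCK : C ≤ K := inf_le_left
  have hCn : C.Normal := by
    constructor
    intro x hx g
    rw [hmemC] at hx
    obtain ⟨k, hk, h, hh, rfl⟩ := exists_mul_of_sup_eq_top K H hK hsup g
    have hyK : h * x * h⁻¹ ∈ K := hK.conj_mem x hx.1 h
    have hy : ∀ d ∈ D, π d * π (h * x * h⁻¹) = π (h * x * h⁻¹) * π d := by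
      intro d hd
      have hd' : h⁻¹ * d * h⁻¹⁻¹ ∈ D := hDn _ (H.inv_mem hh) d hd
      have h1 := hx.2 _ hd'
      simp only [map_mul, map_inv, inv_inv] at h1 ⊢
      calc π d * (π h * π x * (π h)⁻¹)
          = π h * ((π h)⁻¹ * π d * π h * π x) * (π h)⁻¹ := by group
        _ = π h * (π x * ((π h)⁻¹ * π d * π h)) * (π h)⁻¹ := by rw [h1]
        _ = π h * π x * (π h)⁻¹ * π d := by group
    have hz : π (k * h * x * (k * h)⁻¹) = π (h * x * h⁻¹) := by
      have h1 := hone _ (hcomm k hk _ hyK)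
      have h2 : k * h * x * (k * h)⁻¹ = (k * (h * x * h⁻¹) * k⁻¹ * (h * x * h⁻¹)⁻¹) * (h * x * h⁻¹) := by
        group
      rw [h2, map_mul, h1, one_mul]
    rw [hmemC]
    refine ⟨hK.conj_mem x hx.1 _, ?_⟩
    intro d hd
    rw [hz]
    exact hy d hd
  have hCeq : C = K := by
    rcases hdich C hCn hNC hCK with h | h
    · exfalso
      apply hk₀N
      rw [← h, hmemC]
      exact ⟨hk₀, hfix⟩
    · exact h
  have hDnormal : D.Normal := by
    constructor
    intro d hd g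
    obtain ⟨k, hk, h, hh, rfl⟩ := exists_mul_of_sup_eq_top K H hK hsup g
    have hd1 : h * d * h⁻¹ ∈ D := hDn h hh d hd
    have hkC : k ∈ C := by rw [hCeq]; exact hk
    rw [hmemC] at hkC
    have h1 := hkC.2 _ hd1
    have h2 : k * (h * d * h⁻¹) * k⁻¹ * (h * d * h⁻¹)⁻¹ ∈ N := by
      apply hmemN
      rw [map_mul, map_mul, map_mul, map_inv, map_inv, ← h1]
      group
    have h3 : k * h * d * (k * h)⁻¹ =
        (k * (h * d * h⁻¹) * k⁻¹ * (h * d * h⁻¹)⁻¹) * (h * d * h⁻¹) := by group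
    rw [h3]
    exact D.mul_mem (hND.le h2) hd1
  exact not_le_of_gt hND (hcore D hDnormal hDH)

end grp



section grp

variable {G : Type*} [Group G]

theorem exists_D [Finite G] (N H : Subgroup G) [hN : N.Normal] (hNH : N ≤ H) (hne : N ≠ H)
    (hsolv : Group.IsSolvable (G ⧸ N)) :
    ∃ D : Subgroup G, N < D ∧ D ≤ H ∧ (∀ h ∈ H, ∀ d ∈ D, h * d * h⁻¹ ∈ D) ∧
      ∃ q : ℕ, q.Prime ∧ ∀ x ∈ D, x ^ q ∈ N := by
  have hsolv' : Group.IsSolvable (↥H ⧸ N.subgroupOf H) := Cfsg.Agent.S0858.solvable_sub N H hsolv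
  set π := QuotientGroup.mk' (N.subgroupOf H) with hπ
  have hker : π.ker = N.subgroupOf H := QuotientGroup.ker_mk' _
  have htop_solv : Group.IsSolvable (⊤ : Subgroup (↥H ⧸ N.subgroupOf H)) := by
    exact Group.isSolvable_of_isSolvable_injective
      (f := (⊤ : Subgroup (↥H ⧸ N.subgroupOf H)).subtype) (Subgroup.subtype_injective _)
  have htop_ne : (⊤ : Subgroup (↥H ⧸ N.subgroupOf H)) ≠ ⊥ := by
    intro h
    apply hne
    apply le_antisymm hNH
    intro x hx
    have h1 : π ⟨x, hx⟩ ∈ (⊤ : Subgroup (↥H ⧸ N.subgroupOf H)) := trivial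
    rw [h, Subgroup.mem_bot, ← MonoidHom.mem_ker, hker, Subgroup.mem_subgroupOf] at h1
    exact h1
  obtain ⟨M, hMn, -, hMne, -, q, hq, hexp⟩ :=
    exists_elementary_abelian_normal_le (⊤ : Subgroup (↥H ⧸ N.subgroupOf H)) htop_solv htop_ne
  have hD'n : (M.comap π).Normal := hMn.comap π
  refine ⟨(M.comap π).map H.subtype, ?_, ?_, ?_, q, hq, ?_⟩
  · refine lt_of_le_of_ne ?_ ?_
    · intro n hn
      refine ⟨⟨n, hNH hn⟩, ?_, rfl⟩
      rw [SetLike.mem_coe, Subgroup.mem_comap]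
      have : π ⟨n, hNH hn⟩ = 1 := by
        rw [← MonoidHom.mem_ker, hker, Subgroup.mem_subgroupOf]; exact hn
      rw [this]; exact M.one_mem
    · intro heq
      apply hMne
      rw [Subgroup.eq_bot_iff_forall]
      intro m hm
      obtain ⟨h, rfl⟩ := QuotientGroup.mk'_surjective (N.subgroupOf H) m
      have h1 : (h : G) ∈ (M.comap π).map H.subtype := ⟨h, hm, rfl⟩
      rw [← heq] at h1
      rw [← MonoidHom.mem_ker, hker, Subgroup.mem_subgroupOf]
      exact h1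
  · rintro _ ⟨d, -, rfl⟩
    exact d.2
  · rintro h hh _ ⟨d, hd, rfl⟩
    refine ⟨⟨h, hh⟩ * d * ⟨h, hh⟩⁻¹, ?_, rfl⟩
    exact hD'n.conj_mem d hd ⟨h, hh⟩
  · rintro _ ⟨d, hd, rfl⟩
    have h1 : (π d) ^ q = 1 := hexp _ hd
    rw [← map_pow, ← MonoidHom.mem_ker, hker, Subgroup.mem_subgroupOf] at h1
    exact h1

end grp




theorem char_one_nat {E : Type u} [Group E] {ψ : E → ℂ} (hψ : IsCharacter E ψ) :
    ∃ n : ℕ, ψ 1 = n := by
  obtain ⟨n, ρ, rfl⟩ := hψ
  exact ⟨n, by simp [Representation.char_one]⟩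

/-- A character whose restriction to a subgroup is irreducible is irreducible. -/
theorem irr_of_res_irr {E : Type u} [Group E] [Fintype E] (N : Subgroup E) {ψ : E → ℂ}
    (hψ : IsCharacter E ψ) (hN : IsIrrCharacter N (fun n : N => ψ n)) : IsIrrCharacter E ψ := by
  classical
  have hψ1 : ψ 1 ≠ 0 := irr_one_ne_zero (χ := fun n : N => ψ n) hN
  obtain ⟨ξ, hξ, hξψ⟩ := Cfsg.Agent.S0857.exists_constituent hψ hψ1
  have hξN : IsCharacter N (fun n : N => ξ n) := isCharacter_restrict N (isCharacter_of_isIrrCharacter hξ)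
  have hξ1 : (fun n : N => ξ n) 1 ≠ 0 := irr_one_ne_zero (χ := ξ) hξ
  obtain ⟨μ, hμ, hμξ⟩ := Cfsg.Agent.S0857.exists_constituent hξN hξ1
  -- Θ = μ^E
  have hΘ : IsCharacter E (indFun N μ) := isCharacter_indFun N (isCharacter_of_isIrrCharacter hμ)
  have hΘc : IsClassFunction E (indFun N μ) := isClassFunction_indFun N μ
  have h1 : classInner (indFun N μ) ψ = classInner μ (fun n : N => ψ n) :=
    frobenius_reciprocity N μ ψ (isClassFunction_of_isCharacter hψ)
  have h2 : classInner (indFun N μ) ξ = classInner μ (fun n : N => ξ n) :=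
    frobenius_reciprocity N μ ξ (isClassFunction_of_isIrrCharacter hξ)
  have h2' : classInner (indFun N μ) ξ ≠ 0 := by
    rw [h2, ← classInner_conj_symm]
    exact (map_ne_zero _).mpr hμξ
  have h3 := classInner_eq_sum_irr hΘc ψ
  choose a ha using fun ζ : IrrCharacter E =>
    classInner_isCharacter_nat hΘ (isCharacter_of_isIrrCharacter ζ.2)
  choose b hb using fun ζ : IrrCharacter E =>
    classInner_isCharacter_nat (isCharacter_of_isIrrCharacter ζ.2) hψ
  have h4 : classInner (indFun N μ) ψ ≠ 0 := by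
    rw [h3]
    have h5 : ∑ ζ : IrrCharacter E, classInner (indFun N μ) ζ * classInner (ζ : E → ℂ) ψ =
        ((∑ ζ : IrrCharacter E, a ζ * b ζ : ℕ) : ℂ) := by
      push_cast
      apply Finset.sum_congr rfl
      intro ζ _
      rw [ha ζ, hb ζ]
    rw [h5, Nat.cast_ne_zero]
    have haξ : a ⟨ξ, hξ⟩ ≠ 0 := by
      intro h0
      apply h2'
      have := ha ⟨ξ, hξ⟩
      rw [h0, Nat.cast_zero] at this
      exact this
    have hbξ : b ⟨ξ, hξ⟩ ≠ 0 := by
      intro h0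
      apply hξψ
      have := hb ⟨ξ, hξ⟩
      rw [h0, Nat.cast_zero] at this
      rw [← classInner_conj_symm, this, map_zero]
    have h6 : a ⟨ξ, hξ⟩ * b ⟨ξ, hξ⟩ ≤ ∑ ζ : IrrCharacter E, a ζ * b ζ :=
      Finset.single_le_sum (f := fun ζ => a ζ * b ζ) (fun _ _ => Nat.zero_le _)
        (Finset.mem_univ (⟨ξ, hξ⟩ : IrrCharacter E))
    have h7 : 0 < a ⟨ξ, hξ⟩ * b ⟨ξ, hξ⟩ :=
      Nat.mul_pos (Nat.pos_of_ne_zero haξ) (Nat.pos_of_ne_zero hbξ)
    omega
  have hμφ : μ = fun n : N => ψ n := by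
    by_contra hne
    apply h4
    rw [h1]
    exact classInner_of_isIrrCharacter_of_ne hμ hN hne
  rw [hμφ] at hμξ
  obtain ⟨f, hf⟩ := char_one_nat hψ
  obtain ⟨n, hn⟩ := char_one_nat (isCharacter_of_isIrrCharacter hξ)
  rcases le_or_gt f n with hle | hlt
  · have := Cfsg.Agent.Lib.Helper80_CharInd.eq_of_constituent_of_degree_le ψ hψ ⟨ξ, hξ⟩ hξψ f n hf hn hle
    rw [this]
    exact hξ
  · exfalso
    have hn' : (fun m : N => ξ m) 1 = n := hn
    have hf' : (fun m : N => ψ m) 1 = f := hf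
    have := Cfsg.Agent.Lib.Helper80_CharInd.eq_of_constituent_of_degree_le
      (fun m : N => ξ m) hξN ⟨_, hN⟩ hμξ n f hn' hf' hlt.le
    have h8 := congrFun this 1
    simp only at h8
    have h9 : ((1 : N) : E) = 1 := rfl
    rw [h9, hn, hf] at h8
    have : n = f := by exact_mod_cast h8
    omega

open scoped Classical





section pairing

variable {G : Type u} [Group G] [Fintype G]

theorem pairing (X : Subgroup G) [hX : X.Normal] (H : Subgroup G) (ϑ : H → ℂ)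
    (A : Subgroup G) (hAH : A ≤ H) (hAX : A ≤ X) (hle : H ⊓ X ≤ A) :
    classInner (fun n : X => indFun H ϑ n) (fun n : X => indFun H ϑ n) * (X.relIndex H : ℂ) =
      (X.index : ℂ) * ((Nat.card A : ℂ)⁻¹ * ∑ a : A, ϑ ⟨a, hAH a.2⟩ * conj (indFun H ϑ a)) := by
  obtain rfl : A = H ⊓ X := le_antisymm (le_inf hAH hAX) hle
  have hc : IsClassFunction G (indFun H ϑ) := isClassFunction_indFun H ϑ
  exact Cfsg.Agent.S0897.sum_indFun_weight X (fun n : X => conj (indFun H ϑ n))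
    (fun g n => by
      show conj (indFun H ϑ (g * n * g⁻¹)) = conj (indFun H ϑ n)
      rw [hc n g]) H ϑ

/-- When `X ⊔ H = ⊤`. -/
theorem pairing_top (X : Subgroup G) [hX : X.Normal] (H : Subgroup G) (ϑ : H → ℂ)
    (hsup : X ⊔ H = ⊤)
    (A : Subgroup G) (hAH : A ≤ H) (hAX : A ≤ X) (hle : H ⊓ X ≤ A) :
    classInner (fun n : X => indFun H ϑ n) (fun n : X => indFun H ϑ n) =
      (Nat.card A : ℂ)⁻¹ * ∑ a : A, ϑ ⟨a, hAH a.2⟩ * conj (indFun H ϑ a) := by
  have h1 := pairing X H ϑ A hAH hAX hle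
  have h2 : X.relIndex H = X.index := by
    rw [← Subgroup.relIndex_sup_left, hsup, Subgroup.relIndex_top_right]
  have h3 : (X.index : ℂ) ≠ 0 := by
    rw [Nat.cast_ne_zero]
    exact Subgroup.index_ne_zero_of_finite
  rw [h2, mul_comm] at h1
  exact mul_left_cancel₀ h3 h1

/-- For a normal subgroup inside `H`. -/
theorem pairing_le (N : Subgroup G) [hN : N.Normal] (H : Subgroup G) (ϑ : H → ℂ) (hNH : N ≤ H) :
    classInner (fun n : N => indFun H ϑ n) (fun n : N => indFun H ϑ n) =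
      (H.index : ℂ) * classInner (fun n : N => ϑ ⟨n, hNH n.2⟩) (fun n : N => indFun H ϑ n) := by
  have h1 := pairing N H ϑ N hNH le_rfl inf_le_right
  have h2 : N.relIndex H * H.index = N.index := Subgroup.relIndex_mul_index hNH
  have h3 : (N.relIndex H : ℂ) ≠ 0 := by
    rw [Nat.cast_ne_zero]
    haveI : N.IsFiniteRelIndex H := Subgroup.isFiniteRelIndex_of_finiteIndex
    exact Subgroup.relIndex_ne_zero
  rw [← h2] at h1
  push_cast at h1
  have h4 : classInner (fun n : N => ϑ ⟨n, hNH n.2⟩) (fun n : N => indFun H ϑ n) =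
      (Nat.card N : ℂ)⁻¹ * ∑ a : N, ϑ ⟨a, hNH a.2⟩ * conj (indFun H ϑ a) := rfl
  rw [h4]
  apply mul_left_cancel₀ h3
  rw [mul_comm, h1]
  ring

end pairing





section bound

variable {G : Type u} [Group G] [Fintype G]

theorem re_mul_conj_le (a b : ℂ) : (a * conj b).re ≤ (Complex.normSq a + Complex.normSq b) / 2 := by
  have h1 := Complex.normSq_sub a b
  have h2 := Complex.normSq_nonneg (a - b)
  linarith

theorem re_mul_conj_lt (a : ℂ) (ha : a ≠ 0) :
    (a * conj (0 : ℂ)).re < (Complex.normSq a + Complex.normSq 0) / 2 := by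
  have h1 : 0 < Complex.normSq a := Complex.normSq_pos.2 ha
  simp only [map_zero, mul_zero, Complex.zero_re, add_zero]
  linarith

theorem sum_normSq_of_irr {E : Type u} [Group E] [Fintype E] {θ : E → ℂ}
    (hθ : IsIrrCharacter E θ) : ∑ d : E, θ d * conj (θ d) = (Nat.card E : ℂ) := by
  have h1 := classInner_self_of_isIrrCharacter hθ
  unfold classInner at h1
  have h2 : (Nat.card E : ℂ) ≠ 0 := card_ne_zero_complex
  field_simp at h1
  exact h1

theorem bound (N H D : Subgroup G) (hND : N ≤ D) (hNneD : N ≠ D) (hDH : D ≤ H) (ϑ : H → ℂ)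
    (hφ : IsIrrCharacter N (fun n : N => ϑ ⟨n, (hND.trans hDH) n.2⟩))
    (hθ : IsIrrCharacter D (fun d : D => ϑ ⟨d, hDH d.2⟩))
    (hconj : ∀ d ∈ D, ∀ x : G, x⁻¹ * d * x ∈ H → x⁻¹ * d * x ∈ D)
    (hcore' : ∀ d : G, (∀ x : G, x⁻¹ * d * x ∈ H) → d ∈ N) :
    ((Nat.card D : ℂ)⁻¹ * ∑ d : D, ϑ ⟨d, hDH d.2⟩ * conj (indFun H ϑ d)).re < H.index := by
  set θ : D → ℂ := fun d : D => ϑ ⟨d, hDH d.2⟩ with hθdef
  set φ : N → ℂ := fun n : N => ϑ ⟨n, (hND.trans hDH) n.2⟩ with hφdef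
  set θ₀ : G → ℂ := extendByZero D θ with hθ₀
  have hkey : ∀ d ∈ D, ∀ x : G, extendByZero H ϑ (x⁻¹ * d * x) = θ₀ (x⁻¹ * d * x) := by
    intro d hd x
    by_cases hx : x⁻¹ * d * x ∈ H
    · have hx' := hconj d hd x hx
      rw [extendByZero_of_mem H ϑ hx, hθ₀, extendByZero_of_mem D θ hx']
    · have hx' : x⁻¹ * d * x ∉ D := fun h => hx (hDH h)
      rw [extendByZero_of_not_mem H ϑ hx, hθ₀, extendByZero_of_not_mem D θ hx']
  have hχd : ∀ d : D, indFun H ϑ d = (Nat.card H : ℂ)⁻¹ * ∑ x : G, θ₀ (x⁻¹ * (d : G) * x) := by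
    intro d
    rw [indFun_apply]
    congr 1
    apply Finset.sum_congr rfl
    intro x _
    exact hkey d d.2 x
  have hsum : ∑ d : D, θ d * conj (indFun H ϑ d) =
      (Nat.card H : ℂ)⁻¹ * ∑ x : G, ∑ g : G, θ₀ g * conj (θ₀ (x⁻¹ * g * x)) := by
    have h1 : ∀ d : D, θ d * conj (indFun H ϑ d) =
        (Nat.card H : ℂ)⁻¹ * ∑ x : G, θ d * conj (θ₀ (x⁻¹ * (d : G) * x)) := by
      intro d
      rw [hχd d, map_mul, map_inv₀, Complex.conj_natCast, map_sum, Finset.mul_sum, Finset.mul_sum,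
        Finset.mul_sum]
      apply Finset.sum_congr rfl
      intro x _
      ring
    rw [Finset.sum_congr rfl (fun d _ => h1 d), ← Finset.mul_sum, Finset.sum_comm]
    congr 1
    apply Finset.sum_congr rfl
    intro x _
    rw [← sum_extendByZero_mul D θ (fun g => conj (θ₀ (x⁻¹ * g * x)))]
  -- norms
  have hS : ∑ g : G, θ₀ g * conj (θ₀ g) = (Nat.card D : ℂ) := by
    rw [hθ₀, sum_extendByZero_mul D θ (fun g => conj (extendByZero D θ g))]
    rw [← sum_normSq_of_irr hθ]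
    apply Finset.sum_congr rfl
    intro d _
    rw [extendByZero_coe]
  have hSr : ∑ g : G, Complex.normSq (θ₀ g) = (Nat.card D : ℝ) := by
    have h1 : ((∑ g : G, Complex.normSq (θ₀ g) : ℝ) : ℂ) = (Nat.card D : ℂ) := by
      rw [← hS]
      push_cast
      apply Finset.sum_congr rfl
      intro g _
      rw [Complex.mul_conj]
    exact_mod_cast h1
  have hSx : ∀ x : G, ∑ g : G, Complex.normSq (θ₀ (x⁻¹ * g * x)) = (Nat.card D : ℝ) := by
    intro x
    rw [← hSr]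
    apply Fintype.sum_equiv (MulAut.conj x⁻¹).toEquiv
    intro g
    simp
  -- the witness
  have hwit : ∃ g₀ ∈ D, g₀ ∉ N ∧ θ₀ g₀ ≠ 0 := by
    by_contra hcon
    push Not at hcon
    have h1 : ∀ g : G, θ₀ g = extendByZero N φ g := by
      intro g
      by_cases hgN : g ∈ N
      · rw [extendByZero_of_mem N φ hgN, hθ₀, extendByZero_of_mem D θ (hND hgN)]
      · rw [extendByZero_of_not_mem N φ hgN]
        by_cases hgD : g ∈ D
        · exact hcon g hgD hgN
        · rw [hθ₀, extendByZero_of_not_mem D θ hgD]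
    have h2 : ∑ g : G, θ₀ g * conj (θ₀ g) = (Nat.card N : ℂ) := by
      rw [← sum_normSq_of_irr hφ]
      rw [Finset.sum_congr rfl (fun g _ => by rw [h1 g])]
      rw [sum_extendByZero_mul N φ (fun g => conj (extendByZero N φ g))]
      apply Finset.sum_congr rfl
      intro d _
      rw [extendByZero_coe]
    rw [hS] at h2
    have h3 : Nat.card D = Nat.card N := by exact_mod_cast h2
    exact hNneD (Subgroup.eq_of_le_of_card_ge hND h3.le)
  obtain ⟨g₀, hg₀D, hg₀N, hg₀⟩ := hwit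
  have hx₀ : ∃ x₀ : G, x₀⁻¹ * g₀ * x₀ ∉ H := by
    by_contra hcon
    push Not at hcon
    exact hg₀N (hcore' g₀ hcon)
  obtain ⟨x₀, hx₀⟩ := hx₀
  have hzero : θ₀ (x₀⁻¹ * g₀ * x₀) = 0 := by
    rw [hθ₀]
    exact extendByZero_of_not_mem D θ (fun h => hx₀ (hDH h))
  -- main inequality
  have hmain : (∑ x : G, ∑ g : G, θ₀ g * conj (θ₀ (x⁻¹ * g * x))).re <
      (Nat.card G : ℝ) * (Nat.card D : ℝ) := by
    rw [Complex.re_sum]
    have h1 : ∀ x : G, (∑ g : G, θ₀ g * conj (θ₀ (x⁻¹ * g * x))).re ≤ (Nat.card D : ℝ) := by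
      intro x
      rw [Complex.re_sum]
      calc ∑ g : G, (θ₀ g * conj (θ₀ (x⁻¹ * g * x))).re
          ≤ ∑ g : G, (Complex.normSq (θ₀ g) + Complex.normSq (θ₀ (x⁻¹ * g * x))) / 2 :=
            Finset.sum_le_sum (fun g _ => re_mul_conj_le _ _)
        _ = (Nat.card D : ℝ) := by
            rw [← Finset.sum_div, Finset.sum_add_distrib, hSr, hSx x]
            ring
    have h2 : (∑ g : G, θ₀ g * conj (θ₀ (x₀⁻¹ * g * x₀))).re < (Nat.card D : ℝ) := by
      rw [Complex.re_sum]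
      calc ∑ g : G, (θ₀ g * conj (θ₀ (x₀⁻¹ * g * x₀))).re
          < ∑ g : G, (Complex.normSq (θ₀ g) + Complex.normSq (θ₀ (x₀⁻¹ * g * x₀))) / 2 := by
            apply Finset.sum_lt_sum (fun g _ => re_mul_conj_le _ _)
            refine ⟨g₀, Finset.mem_univ _, ?_⟩
            rw [hzero]
            exact re_mul_conj_lt _ hg₀
        _ = (Nat.card D : ℝ) := by
            rw [← Finset.sum_div, Finset.sum_add_distrib, hSr, hSx x₀]
            ring
    calc ∑ x : G, (∑ g : G, θ₀ g * conj (θ₀ (x⁻¹ * g * x))).re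
        < ∑ _x : G, (Nat.card D : ℝ) :=
          Finset.sum_lt_sum (fun x _ => h1 x) ⟨x₀, Finset.mem_univ _, h2⟩
      _ = (Nat.card G : ℝ) * (Nat.card D : ℝ) := by
          rw [Finset.sum_const, Finset.card_univ, nsmul_eq_mul, ← Nat.card_eq_fintype_card (α := G)]
  rw [hsum]
  have hD0 : (0 : ℝ) < (Nat.card D : ℝ) := by exact_mod_cast Nat.card_pos
  have hH0 : (0 : ℝ) < (Nat.card H : ℝ) := by exact_mod_cast Nat.card_pos
  have hcast : (Nat.card D : ℂ)⁻¹ * ((Nat.card H : ℂ)⁻¹ *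
      ∑ x : G, ∑ g : G, θ₀ g * conj (θ₀ (x⁻¹ * g * x))) =
      (((Nat.card D : ℝ)⁻¹ * (Nat.card H : ℝ)⁻¹ : ℝ) : ℂ) *
      ∑ x : G, ∑ g : G, θ₀ g * conj (θ₀ (x⁻¹ * g * x)) := by
    push_cast
    ring
  rw [hcast, Complex.re_ofReal_mul]
  have hidx : (H.index : ℝ) = (Nat.card G : ℝ) / (Nat.card H : ℝ) := by
    rw [eq_div_iff hH0.ne']
    have := H.card_mul_index
    rw [mul_comm]
    exact_mod_cast this
  rw [hidx]
  have hpos : 0 < (Nat.card D : ℝ)⁻¹ * (Nat.card H : ℝ)⁻¹ := by positivity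
  calc (Nat.card D : ℝ)⁻¹ * (Nat.card H : ℝ)⁻¹ *
        (∑ x : G, ∑ g : G, θ₀ g * conj (θ₀ (x⁻¹ * g * x))).re
      < (Nat.card D : ℝ)⁻¹ * (Nat.card H : ℝ)⁻¹ * ((Nat.card G : ℝ) * (Nat.card D : ℝ)) :=
        mul_lt_mul_of_pos_left hmain hpos
    _ = (Nat.card G : ℝ) / (Nat.card H : ℝ) := by
        field_simp

end bound


section assemble

variable {G : Type u} [Group G] [Fintype G]

theorem norm_hom (X : Subgroup G) [hX : X.Normal] (H : Subgroup G) (ϑ : H → ℂ)
    (hsup : X ⊔ H = ⊤) (A : Subgroup G) (hAH : A ≤ H) (hAX : A ≤ X) (hle : H ⊓ X ≤ A)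
    (ξ : X → ℂ) (hξ : IsIrrCharacter X ξ) (m : ℕ)
    (h : (fun x : X => indFun H ϑ x) = (m : ℂ) • ξ) :
    (m : ℂ) * m = (Nat.card A : ℂ)⁻¹ * ∑ a : A, ϑ ⟨a, hAH a.2⟩ * conj (indFun H ϑ a) := by
  rw [← pairing_top X H ϑ hsup A hAH hAX hle, h, classInner_smul_left, classInner_smul_right,
    classInner_self_of_isIrrCharacter hξ, Complex.conj_natCast, mul_one]

theorem eN_eq (N H : Subgroup G) [hN : N.Normal] (hNH : N ≤ H) (ϑ : H → ℂ)
    (hφ : IsIrrCharacter N (fun n : N => ϑ ⟨n, hNH n.2⟩))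
    (hind : IsIrrCharacter G (indFun H ϑ)) (φN : N → ℂ) (eN : ℕ) (hφN : IsIrrCharacter N φN)
    (hχN : (fun n : N => indFun H ϑ n) = (eN : ℂ) • φN) :
    classInner (fun n : N => ϑ ⟨n, hNH n.2⟩) (fun n : N => indFun H ϑ n) = (H.index : ℂ) := by
  have h1 := pairing_le N H ϑ hNH
  have he0 : (eN : ℂ) ≠ 0 := by
    intro h0
    have h2 := congrFun hχN 1
    simp only [Pi.smul_apply, smul_eq_mul, h0, zero_mul] at h2
    exact irr_one_ne_zero hind h2
  rw [hχN, classInner_smul_left, classInner_smul_right, classInner_smul_right,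
    classInner_self_of_isIrrCharacter hφN, Complex.conj_natCast, mul_one] at h1
  rw [hχN, classInner_smul_right, Complex.conj_natCast]
  by_cases heq : (fun n : N => ϑ ⟨n, hNH n.2⟩) = φN
  · rw [heq, classInner_self_of_isIrrCharacter hφN, mul_one] at h1 ⊢
    have h3 : (eN : ℂ) * eN = (eN : ℂ) * (H.index : ℂ) := by rw [h1]; ring
    exact mul_left_cancel₀ he0 h3
  · exfalso
    rw [classInner_of_isIrrCharacter_of_ne hφ hφN heq, mul_zero, mul_zero] at h1
    exact he0 (mul_self_eq_zero.1 h1)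

theorem ne_of_inner (N H : Subgroup G) [hN : N.Normal] (hNH : N ≤ H) (hH : H ≠ ⊤) (ϑ : H → ℂ)
    (hind : IsIrrCharacter G (indFun H ϑ))
    (hinner : classInner (fun n : N => ϑ ⟨n, hNH n.2⟩) (fun n : N => indFun H ϑ n) =
      (H.index : ℂ)) : N ≠ H := by
  intro h
  subst h
  have h1 := frobenius_reciprocity N ϑ (indFun N ϑ) (isClassFunction_indFun N ϑ)
  rw [classInner_self_of_isIrrCharacter hind] at h1
  have h2 : (fun n : N => ϑ ⟨n, hNH n.2⟩) = ϑ := rfl
  rw [h2, ← h1] at hinner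
  have h3 : N.index = 1 := by exact_mod_cast hinner.symm
  exact hH (Subgroup.index_eq_one.1 h3)

theorem res_irr_of_le (N D H : Subgroup G) (hND : N ≤ D) (hDH : D ≤ H) (ϑ : H → ℂ)
    (hϑ : IsCharacter H ϑ)
    (hφ : IsIrrCharacter N (fun n : N => ϑ ⟨n, (hND.trans hDH) n.2⟩)) :
    IsIrrCharacter D (fun d : D => ϑ ⟨d, hDH d.2⟩) := by
  have h1 : IsCharacter D (fun d : D => ϑ ⟨d, hDH d.2⟩) :=
    isCharacter_comp (Subgroup.inclusion hDH) hϑ
  apply irr_of_res_irr (N.subgroupOf D) h1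
  exact isIrrCharacter_resSubgroupOf N D hND hφ

theorem arith (p q a b e f c d : ℕ) (hp : p.Prime) (hq : q.Prime) (hpq : p ≠ q)
    (he : e ^ 2 = p ^ a) (hfc : f * c = e * d) (hd : d ≠ 0) (hdc : d ∣ c)
    (hdiv : c / d ∣ q ^ b) : f = e := by
  obtain ⟨t, rfl⟩ := hdc
  rw [Nat.mul_div_cancel_left t (Nat.pos_of_ne_zero hd)] at hdiv
  have h1 : f * t = e := by
    have : d * (f * t) = d * e := by
      calc d * (f * t) = f * (d * t) := by ring
        _ = e * d := hfc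
        _ = d * e := by ring
    exact Nat.eq_of_mul_eq_mul_left (Nat.pos_of_ne_zero hd) this
  obtain ⟨i, -, hi⟩ := (Nat.dvd_prime_pow hq).1 hdiv
  have h2 : e ∣ p ^ a := by
    rw [← he]
    exact dvd_pow_self e (by norm_num)
  have h3 : t ∣ p ^ a := (Dvd.intro_left f h1).trans h2
  obtain ⟨l, -, hl⟩ := (Nat.dvd_prime_pow hp).1 h3
  have ht1 : t = 1 := by
    rcases Nat.eq_zero_or_pos i with h0 | h0
    · rw [hi, h0, pow_zero]
    · exfalso
      have h4 : q ∣ t := by rw [hi]; exact dvd_pow_self q h0.ne'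
      rw [hl] at h4
      have h5 := hq.dvd_of_dvd_pow h4
      exact hpq ((Nat.prime_dvd_prime_iff_eq hq hp).1 h5).symm
  rw [ht1, mul_one] at h1
  exact h1

theorem main (N H : Subgroup G) [hN : N.Normal] (hNH : N ≤ H) (hmax : IsCoatom H)
    (hcore : ∀ C : Subgroup G, C.Normal → C ≤ H → C ≤ N)
    (hcore' : ∀ d : G, (∀ x : G, x⁻¹ * d * x ∈ H) → d ∈ N)
    (hsolv : Group.IsSolvable (G ⧸ N)) (ϑ : H → ℂ) (hϑ : IsIrrCharacter H ϑ)
    (hϑN : IsIrrCharacter N (fun x : N => ϑ ⟨x, hNH x.2⟩))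
    (hind : IsIrrCharacter G (indFun H ϑ))
    (hhom : ∀ M : Subgroup G, M.Normal → N ≤ M → ∃ (φ : M → ℂ) (e : ℕ),
      IsIrrCharacter M φ ∧ (fun m : M => indFun H ϑ m) = (e : ℂ) • φ) : False := by
  have hNtop : N ≠ ⊤ := by
    intro h
    apply hmax.1
    rw [eq_top_iff, ← h]
    exact hNH
  obtain ⟨K, hKn, hNK, hdich, hcomm, p, hp, hKexp⟩ := exists_chief N hsolv hNtop
  obtain ⟨hsup, hinf⟩ := chief_props N H K hKn hNH hmax hcore hNK hcomm
  haveI := hKn
  -- homogeneity on N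
  obtain ⟨φN, eN, hφN, hχN⟩ := hhom N hN le_rfl
  have hinner := eN_eq N H hNH ϑ hϑN hind φN eN hφN hχN
  have hNneH : N ≠ H := ne_of_inner N H hNH hmax.1 ϑ hind hinner
  -- homogeneity on K
  obtain ⟨η, e, hη, hχK⟩ := hhom K hKn hNK.le
  have hinf' : H ⊓ K ≤ N := by rw [inf_comm, hinf]
  have he2 : e ^ 2 = H.index := by
    have h1 := norm_hom K H ϑ hsup N hNH hNK.le hinf' η hη e hχK
    have h2 : (Nat.card N : ℂ)⁻¹ * ∑ a : N, ϑ ⟨a, hNH a.2⟩ * conj (indFun H ϑ a) =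
        classInner (fun n : N => ϑ ⟨n, hNH n.2⟩) (fun n : N => indFun H ϑ n) := rfl
    rw [h2, hinner] at h1
    rw [pow_two]
    exact_mod_cast h1
  -- D
  obtain ⟨D, hND, hDH, hDn, q, hq, hDexp⟩ := exists_D N H hNH hNneH hsolv
  haveI : Fact p.Prime := ⟨hp⟩
  haveI : Fact q.Prime := ⟨hq⟩
  obtain ⟨a, ha⟩ := relIndex_pow N K p hKexp
  obtain ⟨b, hb⟩ := relIndex_pow N D q hDexp
  have hpq : p ≠ q := by
    intro h
    subst h
    exact false_of_same_prime N H K D hKn p hp hNK hdich hcomm hsup hcore hND hDH hDn a b ha hb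
  obtain ⟨hMn, hMsup, hMinf, hKD⟩ := sup_props N H K D hKn hsup hinf hND.le hDH hDn
  haveI := hMn
  obtain ⟨ψ, f, hψ, hχM⟩ := hhom (K ⊔ D) hMn (hNK.le.trans le_sup_left)
  have hf2 := norm_hom (K ⊔ D) H ϑ hMsup D hDH le_sup_right hMinf ψ hψ f hχM
  have hθ : IsIrrCharacter D (fun d : D => ϑ ⟨d, hDH d.2⟩) :=
    res_irr_of_le N D H hND.le hDH ϑ (isCharacter_of_isIrrCharacter hϑ) hϑN
  have hlt := bound N H D hND.le hND.ne hDH ϑ hϑN hθ
    (conj_mem_of_mem N H K D hKn hsup hinf hND.le hDH hDn) hcore'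
  rw [← hf2] at hlt
  have hlt' : (f : ℝ) * f < (H.index : ℝ) := by
    have : ((f : ℂ) * (f : ℂ)).re = (f : ℝ) * f := by
      rw [← Nat.cast_mul, Complex.natCast_re, Nat.cast_mul]
    rw [this] at hlt
    exact hlt
  -- degrees
  have hχ1 : indFun H ϑ 1 ≠ 0 := irr_one_ne_zero hind
  have hf0 : (f : ℂ) ≠ 0 := by
    intro h0
    have h2 := congrFun hχM 1
    simp only [Pi.smul_apply, smul_eq_mul, h0, zero_mul] at h2
    exact hχ1 h2
  have he0 : (e : ℂ) ≠ 0 := by
    intro h0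
    have h2 := congrFun hχK 1
    simp only [Pi.smul_apply, smul_eq_mul, h0, zero_mul] at h2
    exact hχ1 h2
  have hKM : K ≤ K ⊔ D := le_sup_left
  have hrel : ∀ k : K, (f : ℂ) * ψ ⟨k, hKM k.2⟩ = (e : ℂ) * η k := by
    intro k
    have h1 := congrFun hχM ⟨k, hKM k.2⟩
    have h2 := congrFun hχK k
    simp only [Pi.smul_apply, smul_eq_mul] at h1 h2
    rw [← h1, ← h2]
  have hη' : IsIrrCharacter (K.subgroupOf (K ⊔ D)) (resSubgroupOf K (K ⊔ D) η) :=
    isIrrCharacter_resSubgroupOf K (K ⊔ D) hKM hη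
  have hcon : classInner (fun n : K.subgroupOf (K ⊔ D) => ψ n) (resSubgroupOf K (K ⊔ D) η) ≠ 0 := by
    rw [← classInner_conj_symm, classInner_resSubgroupOf K (K ⊔ D) hKM η ψ]
    apply (map_ne_zero _).mpr
    have h1 : (fun n : K => ψ ⟨(n : G), hKM n.2⟩) = ((e : ℂ) / f) • η := by
      funext k
      simp only [Pi.smul_apply, smul_eq_mul]
      rw [div_mul_eq_mul_div, eq_div_iff hf0, mul_comm, hrel k]
    rw [h1, classInner_smul_right, classInner_self_of_isIrrCharacter hη, mul_one]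
    exact (map_ne_zero _).mpr (div_ne_zero he0 hf0)
  obtain ⟨c, hc⟩ := char_one_nat (isCharacter_of_isIrrCharacter hψ)
  obtain ⟨d, hd⟩ := char_one_nat (isCharacter_of_isIrrCharacter hη)
  have hd' : resSubgroupOf K (K ⊔ D) η 1 = d := hd
  have hres := Cfsg.Agent.S0887.result (K.subgroupOf (K ⊔ D)) ψ hψ (resSubgroupOf K (K ⊔ D) η) hη'
    hcon c d hc hd'
  have hidx : (K.subgroupOf (K ⊔ D)).index = q ^ b := by
    have : (K.subgroupOf (K ⊔ D)).index = K.relIndex (K ⊔ D) := rfl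
    rw [this, relIndex_sup_eq N K D hKD, hb]
  rw [hidx] at hres
  have hd0 : d ≠ 0 := by
    intro h0
    rw [h0, Nat.cast_zero] at hd
    exact irr_one_ne_zero hη hd
  have hfc : f * c = e * d := by
    have h1 := hrel 1
    have h2 : ψ ⟨((1 : K) : G), hKM (1 : K).2⟩ = ψ 1 := rfl
    rw [h2, hc, hd] at h1
    exact_mod_cast h1
  have hHidx : H.index = p ^ a := by
    rw [index_eq_relIndex N H K hKn hNK.le hNH hsup hinf, ha]
  have hfe : f = e := arith p q a b e f c d hp hq hpq (by rw [he2, hHidx]) hfc hd0 hres.1 hres.2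
  rw [hfe] at hlt'
  have : ((e ^ 2 : ℕ) : ℝ) = (H.index : ℝ) := by rw [he2]
  rw [← this] at hlt'
  push_cast at hlt'
  nlinarith

end assemble

/-- Let L ≤ H < G with L normal in G, H a maximal subgroup and G / L solvable. Let ϑ be an irreducible character of H whose restriction to L is irreducible and whose induction χ to G is irreducible. Then there is a normal subgroup M of G containing L such that the restriction of χ to M is not a natural-number multiple of a single irreducible character of M. -/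
theorem result {G : Type*} [Group G] [Fintype G] (L H : Subgroup G) [L.Normal] (hLH : L ≤ H) (hmax : IsCoatom H) (hsolv : Group.IsSolvable (G ⧸ L)) (ϑ : H → ℂ) (hϑ : Cfsg.IsIrrCharacter H ϑ) (hϑL : Cfsg.IsIrrCharacter L (fun x : L => ϑ ⟨(x : G), hLH x.2⟩)) (hind : Cfsg.IsIrrCharacter G (Cfsg.indFun H ϑ)) : ∃ M : Subgroup G, M.Normal ∧ L ≤ M ∧ ¬ ∃ (φ : M → ℂ) (e : ℕ), Cfsg.IsIrrCharacter M φ ∧ (fun m : M => Cfsg.indFun H ϑ m) = (e : ℂ) • φ := by
  by_contra hcon
  push Not at hcon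
  have hLN : L ≤ H.normalCore := Subgroup.normal_le_normalCore.2 hLH
  have hNH : H.normalCore ≤ H := Subgroup.normalCore_le H
  have hsolvN : Group.IsSolvable (G ⧸ H.normalCore) := by
    haveI := hsolv
    have hsurj : Function.Surjective
        (QuotientGroup.map L H.normalCore (MonoidHom.id G) (fun x hx => hLN hx)) := by
      intro y
      induction y using QuotientGroup.induction_on with
      | H g => exact ⟨(g : G ⧸ L), rfl⟩
    exact Group.isSolvable_of_surjective hsurj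
  have hϑN : IsIrrCharacter H.normalCore (fun x : H.normalCore => ϑ ⟨x, hNH x.2⟩) :=
    res_irr_of_le L H.normalCore H hLN hNH ϑ (isCharacter_of_isIrrCharacter hϑ) hϑL
  refine main H.normalCore H hNH hmax ?_ ?_ hsolvN ϑ hϑ hϑN hind ?_
  · intro C hC hCH
    haveI := hC
    exact Subgroup.normal_le_normalCore.2 hCH
  · intro d hd
    show ∀ b : G, b * d * b⁻¹ ∈ H
    intro x
    have := hd x⁻¹
    rwa [inv_inv] at this
  · intro M hM hNM
    exact hcon M hM (hLN.trans hNM)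

end Cfsg.Agent.S0890
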