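import Cfsg.Statements.S0859
import Cfsg.Agent.S0890
import Cfsg.Agent.Lib.Helper3_NilpMono
import Cfsg.Agent.Lib.Helper16_Char

set_option autoImplicit false
open Cfsg

namespace Cfsg.Agent.S0859

open scoped ComplexConjugate
open Cfsg.Agent.Lib.Helper1_MinNormal
open Cfsg.Agent.Lib.Helper3_CharBridge Cfsg.Agent.Lib.Helper3_CharOrtho
  Cfsg.Agent.Lib.Helper3_CharComplete Cfsg.Agent.Lib.Helper75_CharArith
  Cfsg.Agent.Lib.Helper75_Induced
  Cfsg.Agent.Lib.Helper75_IndChar Cfsg.Agent.Lib.Helper75_Clifford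
  Cfsg.Agent.Lib.Helper3_CharEigen Cfsg.Agent.Lib.Helper3_NilpMono

universe u

/-- `ψ` is not induced from an irreducible character of a proper subgroup. -/
def Prim {G : Type u} [Group G] [Fintype G] (ψ : G → ℂ) : Prop :=
  ¬ ∃ (U : Subgroup G) (μ : U → ℂ), U ≠ ⊤ ∧ IsIrrCharacter U μ ∧ indFun U μ = ψ

/-- the inertia subgroup -/
def inertia {G : Type u} [Group G] (A : Subgroup G) (hA : A.Normal) (θ : A → ℂ) : Subgroup G where
  carrier := {g | Cfsg.Agent.Lib.Helper75_Clifford.conjFun A hA θ g = θ}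
  one_mem' := conjFun_one A hA θ
  mul_mem' := by
    intro g h hg hh
    change Cfsg.Agent.Lib.Helper75_Clifford.conjFun A hA θ g = θ at hg
    change Cfsg.Agent.Lib.Helper75_Clifford.conjFun A hA θ h = θ at hh
    change Cfsg.Agent.Lib.Helper75_Clifford.conjFun A hA θ (g * h) = θ
    rw [← conjFun_conjFun, hg, hh]
  inv_mem' := by
    intro g hg
    change Cfsg.Agent.Lib.Helper75_Clifford.conjFun A hA θ g = θ at hg
    change Cfsg.Agent.Lib.Helper75_Clifford.conjFun A hA θ g⁻¹ = θ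
    conv_lhs => rw [← hg]
    rw [conjFun_conjFun, mul_inv_cancel, conjFun_one]

open scoped Classical in
/-- For a primitive character, the restriction to a normal subgroup is a multiple of an
invariant irreducible character. -/
theorem prim_homogeneous {G : Type u} [Group G] [Fintype G] {ψ : G → ℂ} (hψ : IsIrrCharacter G ψ)
    (hprim : Prim ψ) (A : Subgroup G) (hA : A.Normal) :
    ∃ (θ : A → ℂ) (c : ℂ), IsIrrCharacter A θ ∧ c ≠ 0 ∧ (fun a : A => ψ a) = c • θ := by
  have hψ1 : (fun a : A => ψ a) 1 ≠ 0 := irr_one_ne_zero hψ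
  obtain ⟨θ, hθ, hcon⟩ := Cfsg.Agent.S0857.exists_constituent
    (isCharacter_restrict A (isCharacter_of_isIrrCharacter hψ)) hψ1
  have hcon' : classInner (res A ψ) θ ≠ 0 := hcon
  set T := inertia A hA θ with hTdef
  have hT : ∀ g : G, g ∈ T ↔ Cfsg.Agent.Lib.Helper75_Clifford.conjFun A hA θ g = θ :=
    fun g => Iff.rfl
  have hAT : A ≤ T := by
    intro x hx
    rw [hT]
    exact conjFun_of_mem A hA (isClassFunction_of_isIrrCharacter hθ) ⟨x, hx⟩
  obtain ⟨ψ', hψ', hind, -⟩ := corr_surj A T hA hAT hθ hT hψ hcon'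
  have hTtop : T = ⊤ := by
    by_contra hne
    exact hprim ⟨T, ψ', hne, hψ', hind⟩
  have hall : ∀ g : G, Cfsg.Agent.Lib.Helper75_Clifford.conjFun A hA θ g = θ := by
    intro g
    rw [← hT, hTtop]
    exact Subgroup.mem_top g
  have hcl := clifford A hA hψ hθ hcon'
  have hset : {ψ'' : A → ℂ | ∃ g : G, ψ'' = Cfsg.Agent.Lib.Helper75_Clifford.conjFun A hA θ g} =
      {θ} := by
    ext ψ''
    simp only [Set.mem_ofPred_eq, Set.mem_singleton_iff]
    constructor
    · rintro ⟨g, rfl⟩; exact hall g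
    · intro h; exact ⟨1, by rw [h, conjFun_one]⟩
  rw [hset, finsum_mem_singleton] at hcl
  exact ⟨θ, _, hθ, hcon', hcl⟩

open scoped Classical in
/-- An irreducible character whose representation has commutative image is linear, with values
of norm one. -/
theorem linear_of_comm_image {A : Type u} [Group A] [Fintype A] {k : ℕ}
    (σ : Representation ℂ A (Fin k → ℂ)) [hσ : σ.IsIrreducible]
    (hcomm : ∀ a b : A, σ a * σ b = σ b * σ a) :
    k = 1 ∧ ∀ a : A, ‖σ.character a‖ = 1 := by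
  have hnorm : ∀ a : A, ‖σ.character a‖ = (k : ℝ) := by
    intro a
    have h1 : ∀ g : A, (σ a) ∘ₗ σ g = σ g ∘ₗ (σ a) := fun g => hcomm a g
    obtain ⟨c, hc⟩ := Cfsg.Agent.Lib.Helper16_Char.schur_scalar σ (σ a) h1
    have h2 := (norm_char_eq_iff σ a).2 ⟨c, by rw [hc]; rfl⟩
    rw [h2, Module.finrank_fin_fun]
  have hirr : IsIrrCharacter A σ.character := isIrrCharacter_of_rep σ
  have h1 := Cfsg.Agent.S0890.sum_normSq_of_irr hirr
  have h2 : ∑ d : A, σ.character d * conj (σ.character d) = ∑ _d : A, ((k : ℂ) ^ 2) := by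
    apply Finset.sum_congr rfl
    intro d _
    rw [Complex.mul_conj, Complex.normSq_eq_norm_sq, hnorm d]
    push_cast
    rfl
  rw [h2, Finset.sum_const, Finset.card_univ, nsmul_eq_mul, ← Nat.card_eq_fintype_card] at h1
  have h3 : (Nat.card A : ℂ) ≠ 0 := card_ne_zero_complex
  have h4 : ((k : ℂ)) ^ 2 = 1 := by
    have : (Nat.card A : ℂ) * (k : ℂ) ^ 2 = (Nat.card A : ℂ) * 1 := by rw [h1, mul_one]
    exact mul_left_cancel₀ h3 this
  have h5 : k ^ 2 = 1 := by exact_mod_cast h4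
  have hk : k = 1 := by
    rcases Nat.eq_zero_or_pos k with h0 | h0
    · rw [h0] at h5; simp at h5
    · nlinarith
  refine ⟨hk, fun a => ?_⟩
  rw [hnorm a, hk]
  simp

open scoped Classical in
theorem scalar_of_comm {G : Type u} [Group G] [Fintype G] {m : ℕ}
    (ρ : Representation ℂ G (Fin m → ℂ)) [hρ : ρ.IsIrreducible]
    (hprim : Prim ρ.character) (A : Subgroup G) (hA : A.Normal)
    (hcomm : ∀ a ∈ A, ∀ b ∈ A, ρ a * ρ b = ρ b * ρ a) (a : G) (ha : a ∈ A) :
    ∃ c : ℂ, ρ a = c • (LinearMap.id : (Fin m → ℂ) →ₗ[ℂ] (Fin m → ℂ)) := by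
  have hψ : IsIrrCharacter G ρ.character := isIrrCharacter_of_rep ρ
  obtain ⟨θ, c, hθ, hc0, hres⟩ := prim_homogeneous hψ hprim A hA
  obtain ⟨k, σ, hσ, rfl⟩ := hθ
  haveI := hσ
  have hval : ∀ x : A, ρ.character x = c * σ.character x := by
    intro x
    have := congrFun hres x
    simpa using this
  -- σ has commutative image
  have hσcomm : ∀ x y : A, σ x * σ y = σ y * σ x := by
    intro x y
    have h1 : ρ ((x * y * x⁻¹ * y⁻¹ : A) : G) = LinearMap.id := by
      have h2 : ((x * y * x⁻¹ * y⁻¹ : A) : G) = (x : G) * (y : G) * (x : G)⁻¹ * (y : G)⁻¹ := by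
        simp
      rw [h2, map_mul, map_mul, map_mul, hcomm x x.2 y y.2, mul_assoc (ρ (y : G)), ← map_mul,
        mul_inv_cancel, map_one, mul_one, ← map_mul, mul_inv_cancel, map_one]
      rfl
    have h3 : ρ.character ((x * y * x⁻¹ * y⁻¹ : A) : G) = ρ.character ((1 : A) : G) := by
      rw [(char_eq_finrank_iff ρ _).2 h1]
      have : ((1 : A) : G) = 1 := rfl
      rw [this, Representation.char_one]
    rw [hval, hval] at h3
    have h4 : σ.character (x * y * x⁻¹ * y⁻¹) = σ.character 1 := mul_left_cancel₀ hc0 h3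
    rw [Representation.char_one] at h4
    have h5 := (char_eq_finrank_iff σ _).1 h4
    rw [map_mul, map_mul, map_mul] at h5
    have h6 : σ x * σ y = (σ x * σ y * σ x⁻¹ * σ y⁻¹) * (σ y * σ x) := by
      rw [mul_assoc (σ x * σ y * σ x⁻¹), ← mul_assoc (σ y⁻¹), ← map_mul σ y⁻¹, inv_mul_cancel,
        map_one, one_mul, mul_assoc (σ x * σ y), ← map_mul σ x⁻¹, inv_mul_cancel, map_one, mul_one]
    rw [h6, h5]
    rfl
  obtain ⟨hk, hn1⟩ := linear_of_comm_image σ hσcomm
  -- c = m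
  have hc : c = (m : ℂ) := by
    have h1 := hval 1
    have h2 : ((1 : A) : G) = 1 := rfl
    rw [h2, Representation.char_one, Representation.char_one, Module.finrank_fin_fun,
      Module.finrank_fin_fun, hk] at h1
    rw [h1]; simp
  apply rho_eq_smul_id_of_norm_char_eq ρ a
  have h1 := hval ⟨a, ha⟩
  have h2 : ((⟨a, ha⟩ : A) : G) = a := rfl
  rw [h2] at h1
  rw [h1, norm_mul, hn1, mul_one, hc, Module.finrank_fin_fun]
  simp

/-- every subgroup of `N` of prime power order is abelian -/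
def AbSyl {G : Type u} [Group G] (N : Subgroup G) : Prop :=
  ∀ (r : ℕ), r.Prime → ∀ R : Subgroup G, R ≤ N → IsPGroup r R → ∀ a ∈ R, ∀ b ∈ R, a * b = b * a

theorem exists_section {G : Type u} [Group G] [Finite G] [hsolv : Group.IsSolvable G] (Z₀ N : Subgroup G) [hZ : Z₀.Normal]
    [hN : N.Normal] (hle : Z₀ ≤ N) (hne : Z₀ ≠ N) :
    ∃ L : Subgroup G, L.Normal ∧ Z₀ ≤ L ∧ L ≤ N ∧ L ≠ Z₀ ∧
      ∃ r : ℕ, r.Prime ∧ ∀ x ∈ L, x ^ r ∈ Z₀ := by
  set π := QuotientGroup.mk' Z₀ with hπ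
  have hπs : Function.Surjective π := QuotientGroup.mk'_surjective Z₀
  have hker : π.ker = Z₀ := QuotientGroup.ker_mk' Z₀
  have hNbn : (N.map π).Normal := hN.map π hπs
  have hNbne : N.map π ≠ ⊥ := by
    intro h
    rw [Subgroup.map_eq_bot_iff, hker] at h
    exact hne (le_antisymm hle h)
  have hQsolv : Group.IsSolvable (G ⧸ Z₀) := Group.isSolvable_of_surjective hπs
  have hNbsolv : Group.IsSolvable (N.map π) :=
    Group.isSolvable_of_isSolvable_injective (f := (N.map π).subtype)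
      (Subgroup.subtype_injective _)
  obtain ⟨M, hMn, hMN, hMne, -, r, hr, hexp⟩ :=
    exists_elementary_abelian_normal_le (N.map π) hNbsolv hNbne
  refine ⟨M.comap π, hMn.comap π, ?_, ?_, ?_, r, hr, ?_⟩
  · intro x hx
    rw [Subgroup.mem_comap]
    have : π x = 1 := by rw [← MonoidHom.mem_ker, hker]; exact hx
    rw [this]; exact M.one_mem
  · intro x hx
    rw [Subgroup.mem_comap] at hx
    obtain ⟨n, hn, hnx⟩ := hMN hx
    have h1 : n⁻¹ * x ∈ Z₀ := by
      rw [← hker, MonoidHom.mem_ker, map_mul, map_inv, hnx, inv_mul_cancel]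
    have : x = n * (n⁻¹ * x) := by group
    rw [this]
    exact N.mul_mem hn (hle h1)
  · intro h
    apply hMne
    rw [← Subgroup.map_comap_eq_self_of_surjective hπs M, h, Subgroup.map_eq_bot_iff, hker]
  · intro x hx
    rw [Subgroup.mem_comap] at hx
    have := hexp _ hx
    rw [← hker, MonoidHom.mem_ker, map_pow]
    exact this

theorem sylow_decomp {G : Type u} [Group G] [Finite G] (Z₀ L : Subgroup G) [hZ : Z₀.Normal] (r : ℕ)
    [hr : Fact r.Prime] (hexp : ∀ x ∈ L, x ^ r ∈ Z₀) :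
    ∃ R : Subgroup G, R ≤ L ∧ IsPGroup r R ∧ ∀ x ∈ L, ∃ a ∈ R, ∃ z ∈ Z₀, x = a * z := by
  let Q : Sylow r ↥L := default
  refine ⟨(Q : Subgroup L).map L.subtype, Subgroup.map_subtype_le _, Q.isPGroup'.map _, ?_⟩
  set R := (Q : Subgroup L).map L.subtype with hR
  obtain ⟨j, hj⟩ := Cfsg.Agent.S0890.relIndex_pow Z₀ L r hexp
  have h1 : R.relIndex L = (Q : Subgroup L).index := by
    show (R.subgroupOf L).index = _
    congr 1
    exact Subgroup.comap_map_eq_self_of_injective (Subgroup.subtype_injective L) _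
  have h2 : ¬ r ∣ R.relIndex L := by
    rw [h1]
    exact Q.not_dvd_index
  have h3 : (R ⊔ Z₀).relIndex L ∣ R.relIndex L := Subgroup.relIndex_dvd_of_le_left L le_sup_left
  have h4 : (R ⊔ Z₀).relIndex L ∣ r ^ j := by
    rw [← hj]
    exact Subgroup.relIndex_dvd_of_le_left L le_sup_right
  obtain ⟨i, -, hi⟩ := (Nat.dvd_prime_pow hr.out).1 h4
  have hi0 : i = 0 := by
    by_contra h0
    apply h2
    have : r ∣ (R ⊔ Z₀).relIndex L := by rw [hi]; exact dvd_pow_self r h0
    exact this.trans h3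
  rw [hi0, pow_zero, Subgroup.relIndex_eq_one] at hi
  intro x hx
  have hx' : x ∈ ((R ⊔ Z₀ : Subgroup G) : Set G) := hi hx
  rw [Subgroup.mul_normal] at hx'
  obtain ⟨a, ha, z, hz, rfl⟩ := Set.mem_mul.1 hx'
  exact ⟨a, ha, z, hz, rfl⟩

open scoped Classical in
theorem prim_linear {G : Type u} [Group G] [Fintype G] [Group.IsSolvable G] (N : Subgroup G)
    [hN : N.Normal] (hab : AbSyl N) {ψ : G → ℂ} (hψ : IsIrrCharacter G ψ)
    (hψN : IsIrrCharacter N (fun n : N => ψ n)) (hprim : Prim ψ) : ψ 1 = 1 := by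
  obtain ⟨m, ρ, hρ, rfl⟩ := hψ
  haveI := hρ
  have hd : Module.finrank ℂ (Fin m → ℂ) ≠ 0 :=
    Cfsg.Agent.Lib.Helper3_CharDegree.finrank_ne_zero_of_irr ρ
  haveI hnt : Nontrivial (Fin m → ℂ) :=
    Module.nontrivial_of_finrank_pos (R := ℂ) (Nat.pos_of_ne_zero hd)
  set Z := scalarSubgroup ρ with hZ
  have hNZ : N ≤ Z := by
    by_contra hnot
    have hne : Z ⊓ N ≠ N := by
      intro h
      apply hnot
      rw [← h]
      exact inf_le_left
    obtain ⟨L, hLn, hZL, hLN, hLne, r, hr, hexp⟩ := exists_section (Z ⊓ N) N inf_le_right hne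
    haveI : Fact r.Prime := ⟨hr⟩
    obtain ⟨R, hRL, hRp, hdec⟩ := sylow_decomp (Z ⊓ N) L r hexp
    have hRab := hab r hr R (hRL.trans hLN) hRp
    have hcommL : ∀ x ∈ L, ∀ y ∈ L, ρ x * ρ y = ρ y * ρ x := by
      intro x hx y hy
      obtain ⟨a, ha, z, hz, rfl⟩ := hdec x hx
      obtain ⟨b, hb, z', hz', rfl⟩ := hdec y hy
      obtain ⟨c, hc⟩ := (mem_scalarSubgroup ρ z).1 hz.1
      obtain ⟨c', hc'⟩ := (mem_scalarSubgroup ρ z').1 hz'.1
      have hab' : ρ a * ρ b = ρ b * ρ a := by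
        rw [← map_mul, ← map_mul, hRab a ha b hb]
      have e1 : ∀ (X : Module.End ℂ (Fin m → ℂ)) (d : ℂ),
          X * d • (LinearMap.id : (Fin m → ℂ) →ₗ[ℂ] (Fin m → ℂ)) = d • X := by
        intro X d
        ext v i
        simp
      rw [map_mul, map_mul, hc, hc', e1, e1, smul_mul_smul_comm, smul_mul_smul_comm, hab',
        mul_comm c c']
    have hLZ : L ≤ Z ⊓ N := by
      intro x hx
      refine ⟨?_, hLN hx⟩
      exact (mem_scalarSubgroup ρ x).2 (scalar_of_comm ρ hprim L hLn hcommL x hx)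
    exact hLne (le_antisymm hLZ hZL)
  -- all of `N` acts by scalars
  have hnorm : ∀ n : N, ‖ρ.character n‖ = (m : ℝ) := by
    intro n
    have h2 := (norm_char_eq_iff ρ (n : G)).2 ((mem_scalarSubgroup ρ n).1 (hNZ n.2))
    rw [h2, Module.finrank_fin_fun]
  have h1 := Cfsg.Agent.S0890.sum_normSq_of_irr hψN
  have h2 : ∑ d : N, ρ.character d * conj (ρ.character d) = ∑ _d : N, ((m : ℂ) ^ 2) := by
    apply Finset.sum_congr rfl
    intro d _
    rw [Complex.mul_conj, Complex.normSq_eq_norm_sq, hnorm d]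
    push_cast
    rfl
  rw [h2, Finset.sum_const, Finset.card_univ, nsmul_eq_mul, ← Nat.card_eq_fintype_card] at h1
  have h3 : (Nat.card N : ℂ) ≠ 0 := card_ne_zero_complex
  have h4 : ((m : ℂ)) ^ 2 = 1 := by
    have : (Nat.card N : ℂ) * (m : ℂ) ^ 2 = (Nat.card N : ℂ) * 1 := by rw [h1, mul_one]
    exact mul_left_cancel₀ h3 this
  have h5 : m ^ 2 = 1 := by exact_mod_cast h4
  have hm : m = 1 := by
    rcases Nat.eq_zero_or_pos m with h0 | h0
    · rw [h0] at h5; simp at h5
    · nlinarith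
  rw [Representation.char_one, Module.finrank_fin_fun, hm]
  simp

open scoped Classical in
theorem classInner_self_pos {E : Type u} [Group E] [Fintype E] {χ : E → ℂ} (hχ : IsCharacter E χ)
    (h1 : χ 1 ≠ 0) : ∃ k : ℕ, 0 < k ∧ classInner χ χ = k := by
  obtain ⟨k, hk⟩ := classInner_isCharacter_nat hχ hχ
  refine ⟨k, ?_, hk⟩
  obtain ⟨ν, hν, hcon⟩ := Cfsg.Agent.S0857.exists_constituent hχ h1
  obtain ⟨m, hm, hsum⟩ := exists_multiplicities hχ
  have h2 := classInner_self_eq_sum (isClassFunction_of_isCharacter hχ)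
  rw [hk] at h2
  have h3 : (k : ℂ) = ((∑ ξ : IrrCharacter E, m ξ * m ξ : ℕ) : ℂ) := by
    rw [h2]
    push_cast
    apply Finset.sum_congr rfl
    intro ξ _
    rw [hm ξ, Complex.conj_natCast]
  have h4 : k = ∑ ξ : IrrCharacter E, m ξ * m ξ := by exact_mod_cast h3
  have h5 : m ⟨ν, hν⟩ ≠ 0 := by
    intro h0
    apply hcon
    have := hm ⟨ν, hν⟩
    rw [h0, Nat.cast_zero] at this
    exact this
  have h6 : m ⟨ν, hν⟩ * m ⟨ν, hν⟩ ≤ ∑ ξ : IrrCharacter E, m ξ * m ξ :=
    Finset.single_le_sum (f := fun ξ => m ξ * m ξ) (fun _ _ => Nat.zero_le _)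
      (Finset.mem_univ (⟨ν, hν⟩ : IrrCharacter E))
  have h7 : 0 < m ⟨ν, hν⟩ * m ⟨ν, hν⟩ :=
    Nat.mul_pos (Nat.pos_of_ne_zero h5) (Nat.pos_of_ne_zero h5)
  omega

open scoped Classical in
/-- If `ψ = μ^G` and `ψ_N` is irreducible, then `μ` restricted to `U ⊓ N` is irreducible. -/
theorem descend {G : Type u} [Group G] [Fintype G] (N : Subgroup G) [hN : N.Normal]
    (U : Subgroup G) (μ : U → ℂ) (hμ : IsIrrCharacter U μ)
    (hψ : IsIrrCharacter G (indFun U μ))
    (hψN : IsIrrCharacter N (fun n : N => indFun U μ n)) :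
    IsIrrCharacter ↥(U ⊓ N) (fun a : ↥(U ⊓ N) => μ ⟨a, (inf_le_left : U ⊓ N ≤ U) a.2⟩) := by
  set ψ := indFun U μ with hψdef
  set A := U ⊓ N with hA
  have hAU : A ≤ U := inf_le_left
  have hAN : A ≤ N := inf_le_right
  set α : A → ℂ := fun a => μ ⟨a, hAU a.2⟩ with hα
  have hαc : IsCharacter A α :=
    isCharacter_comp (Subgroup.inclusion hAU) (isCharacter_of_isIrrCharacter hμ)
  have hψAc : IsCharacter A (fun a : A => ψ a) :=
    isCharacter_restrict A (isCharacter_of_isIrrCharacter hψ)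
  have hα1 : α 1 ≠ 0 := irr_one_ne_zero (χ := μ) hμ
  -- pairing
  have hp := Cfsg.Agent.S0890.pairing N U μ A hAU hAN le_rfl
  rw [classInner_self_of_isIrrCharacter hψN, one_mul] at hp
  have hp' : (N.relIndex U : ℂ) = (N.index : ℂ) * classInner α (fun a : A => ψ a) := hp
  obtain ⟨m, hm⟩ := classInner_isCharacter_nat hαc hψAc
  rw [hm] at hp'
  have hp'' : N.relIndex U = N.index * m := by exact_mod_cast hp'
  have hrel0 : N.relIndex U ≠ 0 := by
    haveI : N.IsFiniteRelIndex U := Subgroup.isFiniteRelIndex_of_finiteIndex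
    exact Subgroup.relIndex_ne_zero
  have hdvd : N.relIndex U ∣ N.index := Subgroup.relIndex_dvd_index_of_normal N U
  have hidx0 : N.index ≠ 0 := Subgroup.index_ne_zero_of_finite
  have hm1 : m ≤ 1 := by
    have h1 : N.relIndex U ≤ N.index := Nat.le_of_dvd (Nat.pos_of_ne_zero hidx0) hdvd
    rw [hp''] at h1
    by_contra hcon
    push Not at hcon
    have : N.index * 2 ≤ N.index * m := Nat.mul_le_mul_left _ hcon
    have : 0 < N.index := Nat.pos_of_ne_zero hidx0
    omega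
  -- lower bound
  obtain ⟨k, hkpos, hk⟩ := classInner_self_pos hαc hα1
  have hψUc : IsCharacter U (fun u : U => ψ u) :=
    isCharacter_restrict U (isCharacter_of_isIrrCharacter hψ)
  obtain ⟨mm, hmm, hsum⟩ := exists_multiplicities hψUc
  have hfr := frobenius_reciprocity U μ ψ (isClassFunction_of_isIrrCharacter hψ)
  rw [classInner_self_of_isIrrCharacter hψ] at hfr
  have hmμ : mm ⟨μ, hμ⟩ = 1 := by
    have h1 := hmm ⟨μ, hμ⟩
    have h2 : classInner (fun u : U => ψ u) μ = 1 := by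
      rw [← classInner_conj_symm, ← hfr, map_one]
    rw [h2] at h1
    exact_mod_cast h1.symm
  have hψA : (fun a : A => ψ a) =
      ∑ ξ : IrrCharacter U, (mm ξ : ℂ) • (fun a : A => (ξ : U → ℂ) ⟨a, hAU a.2⟩) := by
    funext a
    have := congrFun hsum ⟨a, hAU a.2⟩
    simp only [Finset.sum_apply, Pi.smul_apply, smul_eq_mul] at this ⊢
    exact this
  choose nn hnn using fun ξ : IrrCharacter U =>
    classInner_isCharacter_nat hαc
      (isCharacter_comp (Subgroup.inclusion hAU) (isCharacter_of_isIrrCharacter ξ.2))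
  have hnn' : ∀ ξ : IrrCharacter U,
      classInner α (fun a : A => (ξ : U → ℂ) ⟨a, hAU a.2⟩) = nn ξ := hnn
  have hmval : (m : ℂ) = ((∑ ξ : IrrCharacter U, mm ξ * nn ξ : ℕ) : ℂ) := by
    rw [← hm, hψA, classInner_sum_right]
    push_cast
    apply Finset.sum_congr rfl
    intro ξ _
    rw [classInner_smul_right, Complex.conj_natCast, hnn' ξ]
  have hmval' : m = ∑ ξ : IrrCharacter U, mm ξ * nn ξ := by exact_mod_cast hmval
  have hnμ : nn ⟨μ, hμ⟩ = k := by
    have h1 := hnn' ⟨μ, hμ⟩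
    have h2 : classInner α (fun a : A => μ ⟨a, hAU a.2⟩) = k := hk
    rw [h2] at h1
    exact_mod_cast h1.symm
  have hge : mm ⟨μ, hμ⟩ * nn ⟨μ, hμ⟩ ≤ ∑ ξ : IrrCharacter U, mm ξ * nn ξ :=
    Finset.single_le_sum (f := fun ξ => mm ξ * nn ξ) (fun _ _ => Nat.zero_le _)
      (Finset.mem_univ (⟨μ, hμ⟩ : IrrCharacter U))
  rw [hmμ, hnμ, one_mul, ← hmval'] at hge
  have hk1 : k = 1 := by omega
  apply isIrrCharacter_of_classInner_self hαc
  rw [hk, hk1]
  simp

/-- `AbSyl` passes to subgroups (as groups). -/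
theorem abSyl_subgroupOf {G : Type u} [Group G] (N U : Subgroup G) (hab : AbSyl N) :
    AbSyl (N.subgroupOf U) := by
  intro r hr R' hR'N hR'p a ha b hb
  have hRN : R'.map U.subtype ≤ N := by
    rintro _ ⟨y, hy, rfl⟩
    exact Subgroup.mem_subgroupOf.1 (hR'N hy)
  have h1 := hab r hr (R'.map U.subtype) hRN (hR'p.map U.subtype) (a : G) ⟨a, ha, rfl⟩ (b : G)
    ⟨b, hb, rfl⟩
  exact Subtype.ext h1

/-- The isomorphism `N.subgroupOf U ≃* U ⊓ N`. -/
def infEquiv {G : Type u} [Group G] (N U : Subgroup G) : N.subgroupOf U ≃* ↥(U ⊓ N) where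
  toFun x := ⟨((x : U) : G), ⟨(x : U).2, Subgroup.mem_subgroupOf.1 x.2⟩⟩
  invFun a := ⟨⟨a, (Subgroup.mem_inf.1 a.2).1⟩, Subgroup.mem_subgroupOf.2 (Subgroup.mem_inf.1 a.2).2⟩
  left_inv x := rfl
  right_inv a := rfl
  map_mul' x y := rfl

theorem key (n : ℕ) : ∀ (G : Type u) [Group G] [Fintype G] [Group.IsSolvable G],
    Fintype.card G = n → ∀ (N : Subgroup G) [N.Normal], AbSyl N → ∀ ψ : G → ℂ,
      IsIrrCharacter G ψ → IsIrrCharacter N (fun x : N => ψ x) →
      ∃ (U : Subgroup G) (lam : U → ℂ), IsCharacter U lam ∧ lam 1 = 1 ∧ indFun U lam = ψ := by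
  induction n using Nat.strong_induction_on with
  | _ n ih =>
  intro G _ _ _ hcard N _ hab ψ hψ hψN
  classical
  by_cases hprim : Prim ψ
  · have h1 := prim_linear N hab hψ hψN hprim
    refine ⟨⊤, fun x => ψ x, isCharacter_restrict ⊤ (isCharacter_of_isIrrCharacter hψ), h1, ?_⟩
    exact Cfsg.Agent.Lib.Helper3_NilpMono.indFun_top ψ (isClassFunction_of_isIrrCharacter hψ)
  · unfold Prim at hprim
    push Not at hprim
    obtain ⟨U, μ, hUne, hμ, hind⟩ := hprim
    subst hind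
    have hdesc := descend N U μ hμ hψ hψN
    have hN' : IsIrrCharacter (N.subgroupOf U) (fun x : N.subgroupOf U => μ x) :=
      isIrrCharacter_comp_equiv (infEquiv N U) hdesc
    have habN' : AbSyl (N.subgroupOf U) := abSyl_subgroupOf N U hab
    have hlt : Fintype.card U < n := by
      rw [← hcard]
      have h1 : Nat.card U ≤ Nat.card G := Subgroup.card_le_card_group U
      have h2 : Nat.card U ≠ Nat.card G := fun h => hUne (Subgroup.eq_top_of_card_eq U h)
      rw [Nat.card_eq_fintype_card, Nat.card_eq_fintype_card] at h1 h2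
      omega
    obtain ⟨U₁, lam₁, hlam₁, hlam₁1, hind₁⟩ :=
      ih (Fintype.card U) hlt U rfl (N.subgroupOf U) habN' μ hμ hN'
    refine ⟨U₁.map U.subtype,
      fun x => lam₁ ((U₁.equivMapOfInjective U.subtype U.subtype_injective).symm x), ?_, ?_, ?_⟩
    · exact isCharacter_comp
        (U₁.equivMapOfInjective U.subtype U.subtype_injective).symm.toMonoidHom hlam₁
    · show lam₁ ((U₁.equivMapOfInjective U.subtype U.subtype_injective).symm 1) = 1
      rw [map_one]
      exact hlam₁1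
    · rw [← hind₁, indFun_map_subtype]

/-- Let G be a finite solvable group and N a normal subgroup such that for every prime p every Sylow p-subgroup of N is abelian. Suppose every irreducible character of G is induced from an irreducible character of some subgroup containing N whose restriction to N is irreducible. Then every irreducible character of G is induced from a character of degree 1 of some subgroup. -/
theorem result {G : Type*} [Group G] [Fintype G] [Group.IsSolvable G] (N : Subgroup G) [N.Normal] (hab : ∀ (p : ℕ) [Fact p.Prime] (P : Sylow p N), ∀ a ∈ P, ∀ b ∈ P, a * b = b * a) (hrel : ∀ χ : G → ℂ, Cfsg.IsIrrCharacter G χ → ∃ (H : Subgroup G) (hNH : N ≤ H) (ψ : H → ℂ), Cfsg.IsIrrCharacter H ψ ∧ Cfsg.indFun H ψ = χ ∧ Cfsg.IsIrrCharacter N (fun n : N => ψ ⟨(n : G), hNH n.2⟩)) (χ : G → ℂ) (hχ : Cfsg.IsIrrCharacter G χ) : ∃ (U : Subgroup G) (lam : U → ℂ), Cfsg.IsCharacter U lam ∧ lam 1 = 1 ∧ Cfsg.indFun U lam = χ := by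
  classical
  have habS : AbSyl N := by
    intro r hr R hRN hRp a ha b hb
    haveI : Fact r.Prime := ⟨hr⟩
    have hp' : IsPGroup r (R.subgroupOf N) := hRp.comap_subtype
    obtain ⟨P, hP⟩ := hp'.exists_le_sylow
    have h1 := hab r P ⟨a, hRN ha⟩ (hP (Subgroup.mem_subgroupOf.2 ha)) ⟨b, hRN hb⟩
      (hP (Subgroup.mem_subgroupOf.2 hb))
    exact congrArg Subtype.val h1
  obtain ⟨H, hNH, ψ, hψ, hind, hψN⟩ := hrel χ hχ
  have hψN' : IsIrrCharacter (N.subgroupOf H) (fun x : N.subgroupOf H => ψ x) :=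
    isIrrCharacter_resSubgroupOf N H hNH hψN
  obtain ⟨U₁, lam₁, hlam₁, hlam₁1, hind₁⟩ :=
    key (Fintype.card H) H rfl (N.subgroupOf H) (abSyl_subgroupOf N H habS) ψ hψ hψN'
  refine ⟨U₁.map H.subtype,
    fun x => lam₁ ((U₁.equivMapOfInjective H.subtype H.subtype_injective).symm x), ?_, ?_, ?_⟩
  · exact isCharacter_comp
      (U₁.equivMapOfInjective H.subtype H.subtype_injective).symm.toMonoidHom hlam₁
  · show lam₁ ((U₁.equivMapOfInjective H.subtype H.subtype_injective).symm 1) = 1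
    rw [map_one]
    exact hlam₁1
  · rw [← hind, ← hind₁, indFun_map_subtype]

end Cfsg.Agent.S0859
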