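import Mathlib
import Cfsg.Statements.S0963
import Cfsg.Agent.Lib.Helper16_Char
import Cfsg.Agent.Lib.Helper16_Conj
import Cfsg.Agent.Lib.Helper16_Clifford

set_option autoImplicit false
open Cfsg

namespace Cfsg.Agent.S0963

open Cfsg.Agent.Lib.Helper16_Char Cfsg.Agent.Lib.Helper16_Conj Cfsg.Agent.Lib.Helper16_Clifford
open scoped ComplexConjugate

/-- the converse computation -/
theorem converse {G : Type*} [Group G] [Fintype G] [DecidableEq G] (N : Subgroup G) [hN : N.Normal]
    [Fintype N] {a b : ℕ} (ρ : Representation ℂ G (Fin a → ℂ)) (τ : Representation ℂ N (Fin b → ℂ))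
    [ρ.IsIrreducible] [τ.IsIrreducible]
    (h : ∀ n : N, Cfsg.centralChar ρ.character (n : G) =
      Cfsg.inducedCentralChar N τ.character (n : G)) :
    Cfsg.classInner (fun n : N => ρ.character (n : G)) τ.character ≠ 0 := by
  set χ := ρ.character with hχ
  set θ := τ.character with hθ
  have hχ1 : χ 1 = (a : ℂ) := by rw [hχ, Representation.char_one]; simp
  have hθ1 : θ 1 = (b : ℂ) := by rw [hθ, Representation.char_one]; simp
  have ha : (a : ℂ) ≠ 0 := by
    have := finrank_pos_of_irreducible ρ
    simp only [Module.finrank_fin_fun] at this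
    rw [Nat.cast_ne_zero]; exact this.ne'
  have hb : (b : ℂ) ≠ 0 := by
    have := finrank_pos_of_irreducible τ
    simp only [Module.finrank_fin_fun] at this
    rw [Nat.cast_ne_zero]; exact this.ne'
  -- class sizes
  set c : N → ℂ := fun n => ((Subgroup.centralizer ({(n : G)} : Set G)).index : ℂ) with hc
  have hc0 : ∀ n, c n ≠ 0 := by
    intro n
    simp only [hc]
    rw [Nat.cast_ne_zero]; exact Subgroup.index_ne_zero_of_finite
  have hcconj : ∀ n, conj (c n) = c n := by
    intro n; simp only [hc]; exact Complex.conj_natCast _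
  -- hypothesis in sum form
  have hΦ : ∀ m : N, (∑ k : N, if IsConj (m : G) (k : G) then θ k else 0) =
      (b : ℂ) * (c m * χ (m : G) / (a : ℂ)) := by
    intro m
    have := h m
    rw [inducedCentralChar_eq_sum] at this
    unfold Cfsg.centralChar at this
    rw [hχ1, hθ1] at this
    have h2 : (∑ k : N, if IsConj (m : G) (k : G) then θ k else 0) =
        (b : ℂ) * ((∑ k : N, if IsConj (m : G) (k : G) then θ k else 0) / (b : ℂ)) := by
      field_simp
    rw [h2, ← this]
  -- class function property of χ and c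
  have hχconj : ∀ m n : N, IsConj (m : G) (n : G) → χ (m : G) = χ (n : G) := by
    intro m n hmn
    obtain ⟨x, hx⟩ := isConj_iff.mp hmn
    rw [← hx, hχ, Representation.char_conj]
  have hcconj' : ∀ m n : N, IsConj (m : G) (n : G) → c m = c n := by
    intro m n hmn
    simp only [hc]
    obtain ⟨x, hx⟩ := isConj_iff.mp hmn
    congr 1
    have : Subgroup.centralizer ({(n : G)} : Set G) =
        (Subgroup.centralizer ({(m : G)} : Set G)).map (MulAut.conj x).toMonoidHom := by
      ext y
      simp only [Subgroup.mem_map, Subgroup.mem_centralizer_iff, Set.mem_singleton_iff, forall_eq,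
        MulEquiv.coe_toMonoidHom, MulAut.conj_apply]
      constructor
      · intro hy
        refine ⟨x⁻¹ * y * x, ?_, by group⟩
        rw [← hx] at hy
        have e1 : (m : G) * (x⁻¹ * y * x) = x⁻¹ * (x * m * x⁻¹ * y) * x := by group
        have e2 : x⁻¹ * y * x * (m : G) = x⁻¹ * (y * (x * m * x⁻¹)) * x := by group
        rw [e1, e2, hy]
      · rintro ⟨z, hz, rfl⟩
        rw [← hx]
        have e1 : x * (m : G) * x⁻¹ * (x * z * x⁻¹) = x * (m * z) * x⁻¹ := by group
        have e2 : x * z * x⁻¹ * (x * (m : G) * x⁻¹) = x * (z * m) * x⁻¹ := by group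
        rw [e1, e2, hz]
    rw [this]
    exact (Subgroup.index_map_equiv _ (MulAut.conj x)).symm
  -- number of N-elements G-conjugate to n
  have hcount : ∀ n : N, (∑ m : N, if IsConj (m : G) (n : G) then (1 : ℂ) else 0) = c n := by
    intro n
    have h1 := sum_subgroup_eq N (fun k : G => IsConj k (n : G)) (fun k hk => by
      obtain ⟨x, hx⟩ := isConj_iff.mp hk.symm
      rw [← hx]; exact hN.conj_mem _ n.2 x) (fun _ => (1 : ℂ))
    rw [← h1]
    simp only [hc]
    rw [← card_conj_eq_index, Finset.sum_boole]
    congr 2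
    ext k
    simp only [Finset.mem_filter, Finset.mem_univ, true_and]
    exact ⟨fun h => h.symm, fun h => h.symm⟩
  -- main identity
  have hmain : ∑ n : N, χ (n : G) * conj (θ n) =
      ∑ m : N, (χ (m : G) / c m) * conj (∑ k : N, if IsConj (m : G) (k : G) then θ k else 0) := by
    have hrhs : ∀ m : N, (χ (m : G) / c m) *
        conj (∑ k : N, if IsConj (m : G) (k : G) then θ k else 0) =
        ∑ k : N, if IsConj (m : G) (k : G) then (χ (k : G) / c k) * conj (θ k) else 0 := by
      intro m
      rw [map_sum, Finset.mul_sum]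
      refine Finset.sum_congr rfl (fun k _ => ?_)
      split_ifs with hmk
      · rw [hχconj m k hmk, hcconj' m k hmk]
      · simp
    rw [Finset.sum_congr rfl (fun m _ => hrhs m), Finset.sum_comm]
    refine Finset.sum_congr rfl (fun n _ => ?_)
    have : ∀ m : N, (if IsConj (m : G) (n : G) then (χ (n : G) / c n) * conj (θ n) else 0) =
        (if IsConj (m : G) (n : G) then (1 : ℂ) else 0) * ((χ (n : G) / c n) * conj (θ n)) := by
      intro m; split_ifs <;> simp
    rw [Finset.sum_congr rfl (fun m _ => this m), ← Finset.sum_mul, hcount n]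
    field_simp [hc0 n]
  have hmain2 : ∑ n : N, χ (n : G) * conj (θ n) =
      ((b : ℂ) / (a : ℂ)) * ∑ m : N, χ (m : G) * conj (χ (m : G)) := by
    rw [hmain, Finset.mul_sum]
    refine Finset.sum_congr rfl (fun m _ => ?_)
    rw [hΦ m]
    simp only [map_mul, map_div₀, Complex.conj_natCast, hcconj]
    field_simp [hc0 m]
  -- positivity
  have hpos : ∑ m : N, χ (m : G) * conj (χ (m : G)) ≠ 0 := by
    have hre : ∀ m : N, χ (m : G) * conj (χ (m : G)) = ((Complex.normSq (χ (m : G)) : ℝ) : ℂ) :=
      fun m => Complex.mul_conj _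
    rw [Finset.sum_congr rfl (fun m _ => hre m), ← Complex.ofReal_sum]
    rw [Complex.ofReal_ne_zero]
    apply ne_of_gt
    have h1 : Complex.normSq (χ ((1 : N) : G)) ≤ ∑ m : N, Complex.normSq (χ (m : G)) :=
      Finset.single_le_sum (f := fun m : N => Complex.normSq (χ (m : G)))
        (fun m _ => Complex.normSq_nonneg _) (Finset.mem_univ (1 : N))
    refine lt_of_lt_of_le ?_ h1
    rw [Complex.normSq_pos]
    show χ (1 : G) ≠ 0
    rw [hχ1]; exact ha
  unfold Cfsg.classInner
  rw [hmain2]
  have hNne : (Nat.card N : ℂ) ≠ 0 := by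
    rw [Nat.cast_ne_zero]; exact Nat.card_pos.ne'
  exact mul_ne_zero (inv_ne_zero hNne) (mul_ne_zero (div_ne_zero hb ha) hpos)

/-- Let N be a normal subgroup of the finite group G, χ an irreducible character of G and θ an irreducible character of N. Then θ occurs in the restriction of χ to N if and only if, for every n ∈ N, the central character of χ at n (class size in G times χ n over χ 1) equals the sum of θ m / θ 1 over the elements m of N conjugate in G to n. -/
theorem result {G : Type*} [Group G] [Fintype G] (N : Subgroup G) [N.Normal] [Fintype N] (χ : Cfsg.IrrCharacter G) (θ : Cfsg.IrrCharacter N) : Cfsg.classInner (fun n : N => (χ : G → ℂ) n) (θ : N → ℂ) ≠ 0 ↔ ∀ n : N, Cfsg.centralChar (χ : G → ℂ) (n : G) = Cfsg.inducedCentralChar N (θ : N → ℂ) (n : G) := by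
  classical
  obtain ⟨χ, a, ρ, hρ, rfl⟩ := χ
  obtain ⟨θ, b, τ, hτ, rfl⟩ := θ
  have : ρ.IsIrreducible := hρ
  have : τ.IsIrreducible := hτ
  constructor
  · intro h n
    exact centralChar_eq_of_classInner_ne_zero N ρ τ h n
  · intro h
    exact converse N ρ τ h

end Cfsg.Agent.S0963
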