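import Mathlib
import Cfsg.Statements.S0921
import Cfsg.Agent.Lib.Helper16_Char
import Cfsg.Agent.Lib.Helper16_Clifford
import Cfsg.Agent.Lib.Helper16_Orbit
import Cfsg.Agent.Lib.Helper1_Cores
import Cfsg.Agent.Lib.Helper3_CharComplete
import Cfsg.Agent.Lib.Helper78_CharFacts
import Cfsg.Agent.S0963

set_option autoImplicit false
open Cfsg

namespace Cfsg.Agent.S0921

open Cfsg.Agent.Lib.Helper16_Char Cfsg.Agent.Lib.Helper16_Clifford Cfsg.Agent.Lib.Helper16_Orbit
open Cfsg.Agent.Lib.Helper3_CharOrtho Cfsg.Agent.Lib.Helper3_CharComplete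
open Cfsg.Agent.Lib.Helper3_CharBridge Cfsg.Agent.Lib.Helper3_CharEigen
open Cfsg.Agent.Lib.Helper78_LocalRing Cfsg.Agent.Lib.Helper78_Osima
open scoped ComplexConjugate

universe u

section

variable {G : Type u} [Group G] (N : Subgroup G)

/-- restriction of an irreducible character to a subgroup is a class function there -/
theorem res_isClassFunction (ψ : Cfsg.IrrCharacter G) :
    Cfsg.IsClassFunction N (fun n : N => (ψ : G → ℂ) n) := by
  intro g h
  have := isClassFunction_of_isIrrCharacter ψ.2 (g : G) (h : G)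
  simpa using this

variable [Fintype N]

/-- an irreducible character has an irreducible constituent on any subgroup -/
theorem exists_constituent (ψ : Cfsg.IrrCharacter G) :
    ∃ θ : Cfsg.IrrCharacter N,
      Cfsg.classInner (fun n : N => (ψ : G → ℂ) n) (θ : N → ℂ) ≠ 0 := by
  by_contra hcon
  push Not at hcon
  have h0 := eq_zero_of_forall_classInner_irr_eq_zero (fun n : N => (ψ : G → ℂ) n)
    (res_isClassFunction N ψ) (fun θ hθ => hcon ⟨θ, hθ⟩)
  have h1 : (ψ : G → ℂ) 1 = 0 := by
    have := congrFun h0 (1 : N)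
    simpa using this
  obtain ⟨ψ, n, ρ, hρ, rfl⟩ := ψ
  have : ρ.IsIrreducible := hρ
  simp only at h1
  rw [Representation.char_one, Nat.cast_eq_zero] at h1
  exact (finrank_pos_of_irreducible ρ).ne' h1

variable [hN : N.Normal]

/-- inner product with a conjugate -/
theorem classInner_cj (ψ : Cfsg.IrrCharacter G) (x : G) (θ : N → ℂ) :
    Cfsg.classInner (fun n : N => (ψ : G → ℂ) n) (cj N x θ) =
      Cfsg.classInner (fun n : N => (ψ : G → ℂ) n) θ := by
  unfold Cfsg.classInner
  congr 1
  rw [← Equiv.sum_comp ((MulAut.conjNormal x : MulAut N).toEquiv)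
    (fun n : N => (ψ : G → ℂ) n * conj (cj N x θ n))]
  refine Finset.sum_congr rfl (fun n _ => ?_)
  simp only [MulEquiv.toEquiv_eq_coe, MulEquiv.coe_toEquiv, cj]
  congr 1
  · rw [MulAut.conjNormal_apply]
    exact isClassFunction_of_isIrrCharacter ψ.2 (n : G) x
  · congr 2
    simp

end

/-- the key one-directional statement for a normal subgroup of order prime to `p` -/
theorem key {G : Type u} [Group G] [Fintype G] (p : ℕ) (M : Ideal Cfsg.AlgInt)
    (hM : Cfsg.IsPModular p M) (N : Subgroup G) [hN : N.Normal] [Fintype N]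
    (hpN : ¬ p ∣ Nat.card N) (χ ψ : Cfsg.IrrCharacter G)
    (h : Cfsg.SameBlock M (χ : G → ℂ) (ψ : G → ℂ)) (θ : Cfsg.IrrCharacter N)
    (hχθ : Cfsg.classInner (fun n : N => (χ : G → ℂ) n) (θ : N → ℂ) ≠ 0) :
    Cfsg.classInner (fun n : N => (ψ : G → ℂ) n) (θ : N → ℂ) ≠ 0 := by
  classical
  have hMp : M.IsPrime := isPrime_of_isPModular hM
  obtain ⟨θ', hψθ'⟩ := exists_constituent N ψ
  -- the test function
  set Θ : N → ℂ := orbitSum N (θ' : N → ℂ) with hΘ
  set F : N → ℂ := fun n => (Nat.card N : ℂ)⁻¹ * conj (Θ n) with hF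
  have hFinv : ∀ x : G, cj N x F = F := by
    intro x
    funext n
    have := congrFun (cj_orbitSum N x (θ' : N → ℂ)) ((MulAut.conjNormal x⁻¹ : MulAut N) n)
    simp only [cj, hF]
    have h2 := congrFun (cj_orbitSum N x (θ' : N → ℂ)) n
    simp only [cj] at h2
    rw [hΘ, h2]
  have hFint : ∀ n : N, MemLocalRing M (F n) := by
    intro n
    simp only [hF]
    refine memLocalRing_mul hMp (memLocalRing_inv_natCast hM hpN) ?_
    have hint : IsIntegral ℤ (conj (Θ n)) := by
      have h1 : IsIntegral ℤ (Θ n) := by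
        rw [hΘ]
        unfold orbitSum
        rw [Finset.sum_apply]
        refine IsIntegral.sum _ (fun φ hφ => ?_)
        obtain ⟨m, τ, -, hτ⟩ := irr_of_mem_orbitFinset N θ'.2 hφ
        rw [← hτ]
        exact isIntegral_char τ n
      exact h1.map (Complex.conjAe.toAlgHom.restrictScalars ℤ)
    exact memLocalRing_algInt hMp ⟨_, hint⟩
  set f : G → ℂ := extZero N F with hf
  have hfcl : Cfsg.IsClassFunction G f := extZero_isClassFunction N F hFinv
  have hfR : ∀ g, MemLocalRing M (f g) := by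
    intro g
    by_cases hg : g ∈ N
    · have := extZero_mem N F ⟨g, hg⟩
      simp only at this
      rw [hf, this]; exact hFint _
    · rw [hf, extZero_not_mem N F hg]; exact memLocalRing_zero hMp
  have hkey := memLocalIdeal_omega_sub hMp (isClassFunction_of_isIrrCharacter χ.2)
    (isClassFunction_of_isIrrCharacter ψ.2) h hfcl hfR
  -- evaluate omega via S0963
  have hcc1 := (Cfsg.Agent.S0963.result N χ θ).mp hχθ
  have hcc2 := (Cfsg.Agent.S0963.result N ψ θ').mp hψθ'
  have hev : ∀ (η : Cfsg.IrrCharacter G) (ϑ : Cfsg.IrrCharacter N),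
      (∀ n : N, Cfsg.centralChar (η : G → ℂ) (n : G) =
        Cfsg.inducedCentralChar N (ϑ : N → ℂ) (n : G)) →
      omega (η : G → ℂ) f =
        (if (ϑ : N → ℂ) ∈ orbitFinset N (θ' : N → ℂ) then 1 else 0) / (ϑ : N → ℂ) 1 := by
    intro η ϑ hcc
    unfold omega
    rw [hf, sum_extZero_mul, sum_mul_char_eq N (η : G → ℂ) (ϑ : N → ℂ) hcc F hFinv]
    congr 1
    -- ∑ F n * ϑ n = classInner ϑ Θ
    have h1 : ∑ n : N, F n * (ϑ : N → ℂ) n = Cfsg.classInner (ϑ : N → ℂ) Θ := by
      unfold Cfsg.classInner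
      rw [Finset.mul_sum]
      refine Finset.sum_congr rfl (fun n _ => ?_)
      simp only [hF]; ring
    rw [h1, hΘ]
    unfold orbitSum
    rw [classInner_sum_right]
    rw [Finset.sum_congr rfl (fun φ hφ => classInner_irr ϑ.2 (irr_of_mem_orbitFinset N θ'.2 hφ))]
    rw [Finset.sum_ite_eq]
  rw [hev χ θ hcc1, hev ψ θ' hcc2, if_pos (self_mem_orbitFinset N _)] at hkey
  -- θ lies in the orbit of θ'
  have hmem : (θ : N → ℂ) ∈ orbitFinset N (θ' : N → ℂ) := by
    by_contra hnot
    rw [if_neg hnot, zero_div, zero_sub] at hkey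
    obtain ⟨m, τ, hτ, hτc⟩ := θ'.2
    have : τ.IsIrreducible := hτ
    have h1 : (θ' : N → ℂ) 1 = (m : ℂ) := by
      rw [← hτc, Representation.char_one]; simp
    have hm0 : (m : ℂ) ≠ 0 := by
      have := finrank_pos_of_irreducible τ
      simp only [Module.finrank_fin_fun] at this
      rw [Nat.cast_ne_zero]; exact this.ne'
    rw [h1] at hkey
    have h2 := memLocalIdeal_mul_left hMp (memLocalRing_natCast hMp m) (Cfsg.Agent.Lib.Helper78_LocalRing.memLocalIdeal_neg hkey)
    rw [neg_neg, mul_one_div, div_self hm0] at h2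
    exact not_memLocalIdeal_one hMp h2
  obtain ⟨x, hx⟩ := (mem_orbitFinset N).mp hmem
  rw [← hx, classInner_cj]
  exact hψθ'

/-- Let N = O_p'(G) be the largest normal subgroup of the finite group G of order prime to p, and fix a maximal ideal M of the algebraic integers containing p. If two irreducible characters χ, ψ of G lie in the same block relative to M, then an irreducible character of N occurs in the restriction of χ exactly when it occurs in the restriction of ψ. -/
theorem result {G : Type*} [Group G] [Finite G] (p : ℕ) [Fact p.Prime] (M : Ideal Cfsg.AlgInt) (hM : Cfsg.IsPModular p M) [Fintype G] (χ ψ : Cfsg.IrrCharacter G) (h : Cfsg.SameBlock M (χ : G → ℂ) (ψ : G → ℂ)) (θ : Cfsg.IrrCharacter (Cfsg.pPrimeCore p G)) [Fintype (Cfsg.pPrimeCore p G)] : Cfsg.classInner (fun n : Cfsg.pPrimeCore p G => (χ : G → ℂ) n) (θ : Cfsg.pPrimeCore p G → ℂ) ≠ 0 ↔ Cfsg.classInner (fun n : Cfsg.pPrimeCore p G => (ψ : G → ℂ) n) (θ : Cfsg.pPrimeCore p G → ℂ) ≠ 0 := by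
  have hp : p.Prime := Fact.out
  have hMp : M.IsPrime := isPrime_of_isPModular hM
  have hcop := Cfsg.Agent.Lib.Helper1_Cores.pPrimeCore_card_coprime (G := G) p
  have hpN : ¬ p ∣ Nat.card (Cfsg.pPrimeCore p G) := by
    intro hdvd
    have := Nat.Coprime.eq_one_of_dvd hcop.symm hdvd
    exact hp.one_lt.ne' this
  have : (Cfsg.pPrimeCore p G).Normal := Cfsg.Agent.Lib.Helper1_Cores.pPrimeCore_normal p
  constructor
  · exact key p M hM _ hpN χ ψ h θ
  · exact key p M hM _ hpN ψ χ (sameBlock_symm h) θ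

end Cfsg.Agent.S0921
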