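import Cfsg.Statements.S0938
import Cfsg.Agent.S0921
import Cfsg.Agent.Lib.Helper77_WeakOrth
import Cfsg.Agent.Lib.Helper80_CharBasic
import Cfsg.Agent.Lib.Helper16_Quot
import Mathlib

set_option autoImplicit false
open Cfsg

namespace Cfsg.Agent.S0938

open Cfsg.Agent.Lib.Helper16_Char Cfsg.Agent.Lib.Helper16_Quot
open Cfsg.Agent.Lib.Helper78_LocalRing Cfsg.Agent.Lib.Helper78_CentralChar
open scoped ComplexConjugate

universe u

section

variable {G : Type u} [Group G] [Finite G]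

theorem char_eq_one_iff {n : ℕ} (ρ : Representation ℂ G (Fin n → ℂ)) (g : G) :
    ρ.character g = ρ.character 1 ↔ ρ g = 1 := by
  rw [Representation.char_one]
  exact Cfsg.Agent.Lib.Helper3_CharEigen.char_eq_finrank_iff ρ g

/-- the kernel of an irreducible character -/
def charKer (ψ : Cfsg.IrrCharacter G) : Subgroup G where
  carrier := {g | (ψ : G → ℂ) g = (ψ : G → ℂ) 1}
  one_mem' := rfl
  mul_mem' := by
    intro a b ha hb
    obtain ⟨n, ρ, -, hρ⟩ := ψ.2
    simp only [Set.mem_ofPred_eq, ← hρ] at ha hb ⊢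
    rw [char_eq_one_iff] at ha hb ⊢
    rw [map_mul, ha, hb, mul_one]
  inv_mem' := by
    intro a ha
    obtain ⟨n, ρ, -, hρ⟩ := ψ.2
    simp only [Set.mem_ofPred_eq, ← hρ] at ha ⊢
    rw [char_eq_one_iff] at ha ⊢
    have h1 : ρ a⁻¹ = ρ a⁻¹ * ρ a := by rw [ha, mul_one]
    rw [h1, ← map_mul, inv_mul_cancel, map_one]

theorem mem_charKer (ψ : Cfsg.IrrCharacter G) (g : G) :
    g ∈ charKer ψ ↔ (ψ : G → ℂ) g = (ψ : G → ℂ) 1 := Iff.rfl

/-- the kernel of a set of irreducible characters -/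
def blockKerSubgroup (B : Set (Cfsg.IrrCharacter G)) : Subgroup G where
  carrier := Cfsg.blockKer B
  one_mem' := fun _ _ => rfl
  mul_mem' := fun ha hb ψ hψ => (charKer ψ).mul_mem (ha ψ hψ) (hb ψ hψ)
  inv_mem' := fun ha ψ hψ => (charKer ψ).inv_mem (ha ψ hψ)

theorem blockKerSubgroup_normal (B : Set (Cfsg.IrrCharacter G)) : (blockKerSubgroup B).Normal := by
  refine ⟨fun n hn g ψ hψ => ?_⟩
  rw [isIrrCharacter_isClassFunction ψ.2 n g]
  exact hn ψ hψ

end

/-- Let B be a block of the finite group G relative to a maximal ideal M of the algebraic integers containing the prime p, and let χ ∈ B. Then the kernel of B (the set of g with ψ g = ψ 1 for all ψ ∈ B) is a normal subgroup of order prime to p contained in the kernel of χ, and it contains every normal subgroup of order prime to p on which χ takes the value χ(1); that is, it is O_p' of the kernel of χ. -/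
theorem result {G : Type*} [Group G] [Finite G] (p : ℕ) [Fact p.Prime] (M : Ideal Cfsg.AlgInt) (hM : Cfsg.IsPModular p M) (B : Set (Cfsg.IrrCharacter G)) (hB : Cfsg.IsPBlock M B) (χ : Cfsg.IrrCharacter G) (hχ : χ ∈ B) : ∃ K : Subgroup G, K.Normal ∧ (K : Set G) = Cfsg.blockKer B ∧ ¬ p ∣ Nat.card K ∧ (∀ g ∈ K, (χ : G → ℂ) g = (χ : G → ℂ) 1) ∧ ∀ N : Subgroup G, N.Normal → ¬ p ∣ Nat.card N → (∀ g ∈ N, (χ : G → ℂ) g = (χ : G → ℂ) 1) → N ≤ K := by
  classical
  have hMp := isPrime_of_isPModular hM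
  have := Fintype.ofFinite G
  refine ⟨blockKerSubgroup B, blockKerSubgroup_normal B, rfl, ?_, fun g hg => hg χ hχ, ?_⟩
  · -- order prime to p
    intro hdvd
    obtain ⟨u, hu⟩ := exists_prime_orderOf_dvd_card' p hdvd
    have hu' : orderOf (u : G) = p := by rw [Subgroup.orderOf_coe]; exact hu
    have hwo := Cfsg.Agent.Lib.Helper77_WeakOrth.weak_orthogonality_block hM hB 1 (u : G)
      (by rw [orderOf_one]; exact (Fact.out : p.Prime).one_lt.ne' ∘ Nat.dvd_one.mp)
      (by rw [hu'])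
    have : Fintype (Cfsg.IrrCharacter G) := Fintype.ofFinite _
    have hdeg : ∀ ψ : Cfsg.IrrCharacter G, ∃ d : ℕ, 0 < d ∧ (ψ : G → ℂ) 1 = (d : ℂ) :=
      fun ψ => isIrrCharacter_one_eq_natCast ψ.2
    choose d hdpos hd using hdeg
    have hwo' : ∑ᶠ ψ ∈ {a : Cfsg.IrrCharacter G | a ∈ B},
        (ψ : G → ℂ) 1 * conj ((ψ : G → ℂ) (u : G)) = 0 := hwo
    rw [finsum_mem_eq_sum_ite] at hwo'
    clear hwo
    rename' hwo' => hwo
    have hterm : ∀ ψ : Cfsg.IrrCharacter G,
        (if ψ ∈ B then (ψ : G → ℂ) 1 * conj ((ψ : G → ℂ) (u : G)) else 0)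
          = (((if ψ ∈ B then (d ψ)^2 else 0 : ℕ)) : ℂ) := by
      intro ψ
      by_cases hψ : ψ ∈ B
      · rw [if_pos hψ, if_pos hψ, u.2 ψ hψ, hd ψ, Complex.conj_natCast]
        push_cast
        ring
      · rw [if_neg hψ, if_neg hψ, Nat.cast_zero]
    rw [Finset.sum_congr rfl (fun ψ _ => hterm ψ), ← Nat.cast_sum, Nat.cast_eq_zero,
      Finset.sum_eq_zero_iff] at hwo
    have := hwo χ (Finset.mem_univ _)
    rw [if_pos hχ] at this
    have := hdpos χ
    have h0 : d χ = 0 := by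
      rcases Nat.eq_zero_or_pos (d χ) with h | h
      · exact h
      · exfalso
        have : 0 < (d χ)^2 := Nat.pow_pos h
        omega
    omega
  · -- maximality
    intro N hN hpN hχN g hg ψ hψ
    have : Fintype N := Fintype.ofFinite _
    let θ₁ : Cfsg.IrrCharacter N :=
      ⟨fun _ => (1 : ℂ), Cfsg.Agent.Lib.Helper80_CharBasic.isIrrCharacter_one N⟩
    have hNne : (Nat.card N : ℂ) ≠ 0 := by
      rw [Nat.cast_ne_zero]; exact Nat.card_pos.ne'
    have hχ1 : (χ : G → ℂ) 1 ≠ 0 := isIrrCharacter_one_ne_zero χ.2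
    have hχθ : Cfsg.classInner (fun n : N => (χ : G → ℂ) n) (θ₁ : N → ℂ) ≠ 0 := by
      unfold Cfsg.classInner
      have : ∑ n : N, (fun n : N => (χ : G → ℂ) n) n * conj ((θ₁ : N → ℂ) n)
          = (Nat.card N : ℂ) * (χ : G → ℂ) 1 := by
        rw [Finset.sum_congr rfl (fun n _ => show (fun n : N => (χ : G → ℂ) n) n *
          conj ((θ₁ : N → ℂ) n) = (χ : G → ℂ) 1 by
            simp only [θ₁, map_one, mul_one]; exact hχN n n.2)]
        rw [Finset.sum_const, Finset.card_univ, nsmul_eq_mul, Nat.card_eq_fintype_card]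
      rw [this, ← mul_assoc, inv_mul_cancel₀ hNne, one_mul]
      exact hχ1
    have hsb : Cfsg.SameBlock M (χ : G → ℂ) (ψ : G → ℂ) := isPBlock_sameBlock hMp hB hχ hψ
    have hψθ := Cfsg.Agent.S0921.key p M hM N hpN χ ψ hsb θ₁ hχθ
    have hsum : ∑ n : N, (ψ : G → ℂ) n ≠ 0 := by
      intro h0
      apply hψθ
      unfold Cfsg.classInner
      have : ∑ n : N, (fun n : N => (ψ : G → ℂ) n) n * conj ((θ₁ : N → ℂ) n)
          = ∑ n : N, (ψ : G → ℂ) n := by
        refine Finset.sum_congr rfl (fun n _ => ?_)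
        simp only [θ₁, map_one, mul_one]
      rw [this, h0, mul_zero]
    obtain ⟨n, ρ, hirr, hρ⟩ := ψ.2
    have : ρ.IsIrreducible := hirr
    rw [← hρ] at hsum ⊢
    have htop : invSubrep ρ N = ⊤ := by
      rcases invSubrep_eq_bot_or_top ρ N with hbot | htop
      · exact absurd (sum_char_subgroup_of_bot ρ N hbot) hsum
      · exact htop
    have htriv := isTrivial_of_invSubrep_eq_top ρ N htop
    rw [char_eq_one_iff]
    have := htriv.out ⟨g, hg⟩
    exact this

end Cfsg.Agent.S0938
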