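import Cfsg.Statements.S0208
import Cfsg.Agent.Lib.Helper4_InvPairs
import Cfsg.Agent.Lib.Helper4_Dihedral

set_option autoImplicit false
open Cfsg

namespace Cfsg.Agent.S0208

open Cfsg.Agent.Lib.Helper4_InvPairs Cfsg.Agent.Lib.Helper4_Dihedral

/-- If x, y are involutions and xy has odd order, then some element of the subgroup generated by x and y conjugates x to y. -/
theorem result {G : Type*} [Group G] [Finite G] (x y : G) (hx : orderOf x = 2) (hy : orderOf y = 2) (hodd : Odd (orderOf (x * y))) : ∃ d ∈ Subgroup.closure ({x, y} : Set G), d * x * d⁻¹ = y := by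
  have hx2 := mul_self_of_orderOf_two hx
  have hy2 := mul_self_of_orderOf_two hy
  have hyeq : y = (x * y) ^ (-1 : ℤ) * x := by
    rw [zpow_neg, zpow_one]; exact y_eq hx2 hy2
  have key : ∃ d ∈ Subgroup.closure ({x, y} : Set G), d * x * d⁻¹ = (x * y) ^ (-1 : ℤ) * x := by
    rw [conj_x_eq_iff hx2 hy2]
    obtain ⟨m, hm⟩ := hodd
    refine ⟨m, ?_⟩
    rw [hm]
    push_cast
    rw [Int.modEq_iff_dvd]
    exact ⟨-1, by ring⟩
  obtain ⟨d, hd, hdx⟩ := key
  exact ⟨d, hd, hdx.trans hyeq.symm⟩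

end Cfsg.Agent.S0208
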