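import Cfsg.Statements.S0209
import Cfsg.Agent.Lib.Helper4_InvPairs
import Cfsg.Agent.Lib.Helper4_Dihedral

set_option autoImplicit false
open Cfsg

namespace Cfsg.Agent.S0209

open Cfsg.Agent.Lib.Helper4_InvPairs Cfsg.Agent.Lib.Helper4_Dihedral

/-- central involution of a dihedral group: general version -/
theorem central_involution {G : Type*} [Group G] [Finite G] (x y : G) (hx : orderOf x = 2) (hy : orderOf y = 2) (heven : Even (orderOf (x * y))) : orderOf ((x * y) ^ (orderOf (x * y) / 2)) = 2 ∧ Commute ((x * y) ^ (orderOf (x * y) / 2)) x ∧ Commute ((x * y) ^ (orderOf (x * y) / 2)) y := by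
  have hx2 := mul_self_of_orderOf_two hx
  have hy2 := mul_self_of_orderOf_two hy
  have hdvd : 2 ∣ orderOf (x * y) := even_iff_two_dvd.mp heven
  have hz : orderOf ((x * y) ^ (orderOf (x * y) / 2)) = 2 :=
    orderOf_pow_orderOf_div (orderOf_pos (x * y)).ne' hdvd
  set z := (x * y) ^ (orderOf (x * y) / 2) with hzdef
  have hzinv : z⁻¹ = z := inv_eq_self_of_orderOf_two hz
  refine ⟨hz, ?_, ?_⟩
  · -- x z x = z⁻¹ = z
    have h := conj_rot_zpow hx2 hy2 ((orderOf (x * y) / 2 : ℕ) : ℤ)
    rw [zpow_natCast, ← hzdef, hzinv] at h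
    -- x * z * x = z → z * x = x * z
    have : z * x = x * z := by
      calc z * x = x * (x * z * x) := by rw [← mul_assoc, ← mul_assoc, hx2, one_mul]
        _ = x * z := by rw [h]
    exact this
  · -- similarly with y: y (xy) y = y x = (xy)⁻¹
    have hyrot : y * (x * y) * y⁻¹ = (x * y)⁻¹ := by
      rw [mul_inv_rev, inv_eq_self_of_orderOf_two hy, inv_eq_self_of_orderOf_two hx]
      rw [mul_assoc, mul_assoc, hy2, mul_one]
    have h : y * z * y⁻¹ = z⁻¹ := by
      rw [hzdef, ← conj_pow, hyrot, inv_pow]
    rw [hzinv, inv_eq_self_of_orderOf_two hy] at h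
    have : z * y = y * z := by
      calc z * y = y * (y * z * y) := by rw [← mul_assoc, ← mul_assoc, hy2, one_mul]
        _ = y * z := by rw [h]
    exact this

/-- If x, y are involutions whose product has even order n, the element (xy)^(n/2) is an involution that commutes with x and with y. -/
theorem result {G : Type*} [Group G] [Finite G] (x y : G) (hx : orderOf x = 2) (hy : orderOf y = 2) (heven : Even (orderOf (x * y))) : orderOf ((x * y) ^ (orderOf (x * y) / 2)) = 2 ∧ Commute ((x * y) ^ (orderOf (x * y) / 2)) x ∧ Commute ((x * y) ^ (orderOf (x * y) / 2)) y :=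
  central_involution x y hx hy heven

end Cfsg.Agent.S0209
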