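import Mathlib
import Cfsg.Statements.S0943
import Cfsg.Agent.Lib.Helper16_Char

set_option autoImplicit false
open Cfsg

namespace Cfsg.Agent.S0943

open Cfsg.Agent.Lib.Helper16_Char

/-- Let χ be an irreducible character of the finite group G and u, v ∈ G. If χ (x * y) = χ (u * v) whenever x is conjugate to u and y is conjugate to v, then χ u * χ v = χ 1 * χ (u * v). (Multiply the class sums of u and v and apply the central character of χ.) -/
theorem result {G : Type*} [Group G] [Finite G] (χ : Cfsg.IrrCharacter G) (u v : G) (hc : ∀ x y : G, IsConj u x → IsConj v y → (χ : G → ℂ) (x * y) = (χ : G → ℂ) (u * v)) : (χ : G → ℂ) u * (χ : G → ℂ) v = (χ : G → ℂ) 1 * (χ : G → ℂ) (u * v) := by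
  classical
  have := Fintype.ofFinite G
  obtain ⟨χ, n, ρ, hirr, rfl⟩ := χ
  haveI : ρ.IsIrreducible := hirr
  simp only at hc ⊢
  have hu := classOp_eq_smul ρ u
  have hv := classOp_eq_smul ρ v
  have hprod : classOp ρ u * classOp ρ v =
      (Cfsg.centralChar ρ.character u * Cfsg.centralChar ρ.character v) •
        (1 : Module.End ℂ (Fin n → ℂ)) := by
    rw [hu, hv, smul_mul_smul_comm, mul_one]
  have htr1 : LinearMap.trace ℂ (Fin n → ℂ) (classOp ρ u * classOp ρ v) =
      Cfsg.centralChar ρ.character u * Cfsg.centralChar ρ.character v * (n : ℂ) := by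
    rw [hprod, map_smul, LinearMap.trace_one, smul_eq_mul]
    simp
  have htr2 : LinearMap.trace ℂ (Fin n → ℂ) (classOp ρ u * classOp ρ v) =
      ((Subgroup.centralizer ({u} : Set G)).index : ℂ) *
        ((Subgroup.centralizer ({v} : Set G)).index : ℂ) * ρ.character (u * v) := by
    unfold classOp
    rw [Finset.sum_mul_sum, map_sum]
    have hinner : ∀ x : G, LinearMap.trace ℂ (Fin n → ℂ)
        (∑ y : G, (if IsConj u x then ρ x else 0) * (if IsConj v y then ρ y else 0)) =
        if IsConj u x then ((Subgroup.centralizer ({v} : Set G)).index : ℂ) * ρ.character (u * v)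
          else 0 := by
      intro x
      rw [map_sum]
      split_ifs with hx
      · rw [← card_conj_eq_index, ← nsmul_eq_mul, ← Finset.sum_const, Finset.sum_filter]
        refine Finset.sum_congr rfl (fun y _ => ?_)
        split_ifs with hy
        · rw [← map_mul]
          exact hc x y hx hy
        · rw [mul_zero, map_zero]
      · simp
    rw [Finset.sum_congr rfl (fun x _ => hinner x)]
    rw [← Finset.sum_filter, Finset.sum_const, card_conj_eq_index, nsmul_eq_mul]
    ring
  rw [htr1] at htr2
  unfold Cfsg.centralChar at htr2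
  rw [Representation.char_one] at htr2 ⊢
  have hn : ((Module.finrank ℂ (Fin n → ℂ) : ℕ) : ℂ) ≠ 0 := by
    rw [Nat.cast_ne_zero]; exact (finrank_pos_of_irreducible ρ).ne'
  have hn' : (Module.finrank ℂ (Fin n → ℂ) : ℂ) = (n : ℂ) := by simp
  rw [hn'] at htr2 hn ⊢
  have hiu : ((Subgroup.centralizer ({u} : Set G)).index : ℂ) ≠ 0 := by
    rw [Nat.cast_ne_zero]; exact Subgroup.index_ne_zero_of_finite
  have hiv : ((Subgroup.centralizer ({v} : Set G)).index : ℂ) ≠ 0 := by
    rw [Nat.cast_ne_zero]; exact Subgroup.index_ne_zero_of_finite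
  field_simp at htr2
  linear_combination htr2

end Cfsg.Agent.S0943
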