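import Cfsg.Statements.S3937
import Cfsg.Agent.Lib.Helper71_Fitting

set_option autoImplicit false
open Cfsg

namespace Cfsg.Agent.S3937

open Cfsg.Agent.Lib.Helper71_Fitting

universe u

theorem nilpotent_of_le {G : Type*} [Group G] {H K : Subgroup G} (h : H ≤ K)
    (hK : Group.IsNilpotent ↥K) : Group.IsNilpotent ↥H := by
  have : Group.IsNilpotent ↥(H.subgroupOf K) := inferInstance
  exact (Group.isNilpotent_congr (Subgroup.subgroupOfEquivOfLe h)).mp this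

/-- normalizers grow in nilpotent subgroups -/
theorem exists_normalizing_not_mem {G : Type*} [Group G] (M K : Subgroup G)
    (hM : Group.IsNilpotent ↥M) (hKM : K < M) :
    ∃ x ∈ M, x ∈ Subgroup.normalizer (K : Set G) ∧ x ∉ K := by
  have hlt : K.subgroupOf M < ⊤ := by
    rw [lt_top_iff_ne_top, Ne, Subgroup.subgroupOf_eq_top]
    exact fun h => (not_le_of_gt hKM) h
  have h1 := Group.normalizerCondition_of_isNilpotent (G := ↥M) _ hlt
  obtain ⟨x, hx, hx'⟩ := SetLike.exists_of_lt h1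
  rw [← Subgroup.subgroupOf_normalizer_eq hKM.le] at hx
  exact ⟨x, x.2, hx, hx'⟩

/-- The normalizing lemma of the Alperin–Lyons argument. -/
theorem SL {G : Type*} [Group G] [Finite G] (Δ : Set G) (hΔ : ∀ y ∈ Δ, ∀ u : G, u * y * u⁻¹ ∈ Δ)
    (M : Subgroup G) (hM : Group.IsNilpotent ↥M) (Γ : Set G) (hΓΔ : Γ ⊆ Δ) (hΓM : Γ ⊆ M)
    (hcl : ∀ y ∈ Δ, y ∈ Subgroup.closure Γ → y ∈ Γ)
    (y₀ : G) (hy₀ : y₀ ∈ Δ) (hy₀M : y₀ ∈ M) (hy₀Γ : y₀ ∉ Γ) :
    ∃ y ∈ Δ, y ∈ M ∧ y ∉ Γ ∧ y ∈ Subgroup.normalizer (Subgroup.closure Γ : Set G) := by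
  set D := Subgroup.closure Γ with hD
  have hDM : D ≤ M := (Subgroup.closure_le M).mpr hΓM
  set 𝒮 : Set (Subgroup G) := {K | D ≤ K ∧ K ≤ M ∧ ∀ y ∈ Δ, y ∈ K → y ∈ Γ} with h𝒮
  have hD𝒮 : D ∈ 𝒮 := ⟨le_refl D, hDM, hcl⟩
  obtain ⟨K, hDK, hKmax⟩ := (Set.toFinite 𝒮).exists_le_maximal hD𝒮
  obtain ⟨hK1, hK2, hK3⟩ := hKmax.prop
  have hKM : K < M := by
    refine lt_of_le_of_ne hK2 ?_
    intro h
    exact hy₀Γ (hK3 y₀ hy₀ (h ▸ hy₀M))
  obtain ⟨x, hxM, hxN, hxK⟩ := exists_normalizing_not_mem M K hM hKM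
  set N' := K ⊔ Subgroup.zpowers x with hN'
  have hKN' : K ≤ N' := le_sup_left
  have hN'M : N' ≤ M := sup_le hK2 (Subgroup.zpowers_le.mpr hxM)
  have hN'norm : N' ≤ Subgroup.normalizer (K : Set G) :=
    sup_le Subgroup.le_normalizer (Subgroup.zpowers_le.mpr hxN)
  have hN'not : N' ∉ 𝒮 := by
    intro hmem
    have := hKmax.le_of_ge hmem hKN'
    exact hxK (this ((le_sup_right : Subgroup.zpowers x ≤ N') (Subgroup.mem_zpowers x)))
  have : ¬ ∀ y ∈ Δ, y ∈ N' → y ∈ Γ := fun h => hN'not ⟨le_trans hK1 hKN', hN'M, h⟩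
  push Not at this
  obtain ⟨y, hyΔ, hyN', hyΓ⟩ := this
  refine ⟨y, hyΔ, hN'M hyN', hyΓ, ?_⟩
  -- any w normalizing K maps D into D
  have hmap : ∀ w : G, w ∈ Subgroup.normalizer (K : Set G) → ∀ d ∈ D, w * d * w⁻¹ ∈ D := by
    intro w hw
    have hle : D ≤ D.comap (MulAut.conj w).toMonoidHom := by
      rw [hD, Subgroup.closure_le]
      intro c hc
      rw [SetLike.mem_coe, Subgroup.mem_comap]
      show w * c * w⁻¹ ∈ Subgroup.closure Γ
      apply Subgroup.subset_closure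
      apply hK3 _ (hΔ c (hΓΔ hc) w)
      have hcK : c ∈ K := hK1 (Subgroup.subset_closure hc)
      exact (Subgroup.mem_normalizer_iff.mp hw c).mp hcK
    intro d hd
    exact hle hd
  have hyK : y ∈ Subgroup.normalizer (K : Set G) := hN'norm hyN'
  have hyK' : y⁻¹ ∈ Subgroup.normalizer (K : Set G) := Subgroup.inv_mem _ hyK
  rw [Subgroup.mem_normalizer_iff]
  intro d
  constructor
  · exact hmap y hyK d
  · intro h
    have := hmap y⁻¹ hyK' _ h
    simpa [mul_assoc] using this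

/-- Nilpotent subgroups generated by their elements from `Δ`. -/
def IsGen {G : Type*} [Group G] (Δ : Set G) (K : Subgroup G) : Prop :=
  Group.IsNilpotent ↥K ∧ Subgroup.closure (Δ ∩ (K : Set G)) = K

section
variable {G : Type*} [Group G]

theorem gen_le (Δ : Set G) (H : Subgroup G) : Subgroup.closure (Δ ∩ (H : Set G)) ≤ H :=
  (Subgroup.closure_le H).mpr Set.inter_subset_right

theorem inter_gen (Δ : Set G) (H : Subgroup G) :
    Δ ∩ (Subgroup.closure (Δ ∩ (H : Set G)) : Set G) = Δ ∩ (H : Set G) := by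
  ext y
  constructor
  · rintro ⟨h1, h2⟩
    exact ⟨h1, gen_le Δ H h2⟩
  · rintro ⟨h1, h2⟩
    exact ⟨h1, Subgroup.subset_closure ⟨h1, h2⟩⟩

theorem isGen_gen (Δ : Set G) (H : Subgroup G)
    (hnil : Group.IsNilpotent ↥(Subgroup.closure (Δ ∩ (H : Set G)))) :
    IsGen Δ (Subgroup.closure (Δ ∩ (H : Set G))) :=
  ⟨hnil, by rw [inter_gen]⟩

/-- the Engel sequence -/
def eng (g : G) (n : ℕ) (x : G) : G := (fun c => c * g * c⁻¹ * g⁻¹)^[n] x

theorem eng_zero (g x : G) : eng g 0 x = x := rfl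

theorem eng_succ (g : G) (n : ℕ) (x : G) : eng g (n + 1) x = eng g n (x * g * x⁻¹ * g⁻¹) := by
  unfold eng; rw [Function.iterate_succ_apply]

theorem eng_succ' (g : G) (n : ℕ) (x : G) :
    eng g (n + 1) x = eng g n x * g * (eng g n x)⁻¹ * g⁻¹ := by
  unfold eng; rw [Function.iterate_succ_apply']

theorem eng_conj (g u : G) (n : ℕ) (x : G) :
    eng (u * g * u⁻¹) n (u * x * u⁻¹) = u * eng g n x * u⁻¹ := by
  induction n generalizing x with
  | zero => rfl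
  | succ n ih =>
    rw [eng_succ, eng_succ, ← ih]
    congr 1
    group

theorem eng_coe (H : Subgroup G) (g x : ↥H) (n : ℕ) :
    ((eng g n x : ↥H) : G) = eng (g : G) n (x : G) := by
  induction n generalizing x with
  | zero => rfl
  | succ n ih =>
    rw [eng_succ, eng_succ, ih]
    rfl

theorem foldl_eq_eng (g x : G) (n : ℕ) :
    (List.replicate n g).foldl (fun a b => a * b * a⁻¹ * b⁻¹) x = eng g n x := by
  induction n generalizing x with
  | zero => rfl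
  | succ n ih => rw [List.replicate_succ, List.foldl_cons, ih, eng_succ]

/-- conjugating a subgroup keeps `IsGen` -/
theorem isGen_map (Δ : Set G) (hΔ : ∀ y ∈ Δ, ∀ u : G, u * y * u⁻¹ ∈ Δ) (K : Subgroup G) (u : G)
    (hK : IsGen Δ K) : IsGen Δ (K.map (MulAut.conj u).toMonoidHom) := by
  refine ⟨?_, ?_⟩
  · have e : ↥K ≃* ↥(K.map (MulAut.conj u).toMonoidHom) :=
      K.equivMapOfInjective _ (MulAut.conj u).injective
    exact (Group.isNilpotent_congr e).mp hK.1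
  · apply le_antisymm (gen_le _ _)
    conv_lhs => rw [← hK.2]
    rw [MonoidHom.map_closure, Subgroup.closure_le]
    rintro _ ⟨y, ⟨hy1, hy2⟩, rfl⟩
    apply Subgroup.subset_closure
    refine ⟨?_, ?_⟩
    · show u * y * u⁻¹ ∈ Δ
      exact hΔ y hy1 u
    · exact Subgroup.mem_map_of_mem _ hy2

theorem map_conj_inv_map (K : Subgroup G) (u : G) :
    (K.map (MulAut.conj u).toMonoidHom).map (MulAut.conj u⁻¹).toMonoidHom = K := by
  rw [Subgroup.map_map]
  have : (MulAut.conj u⁻¹).toMonoidHom.comp (MulAut.conj u).toMonoidHom = MonoidHom.id G := by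
    ext x
    simp [MulAut.conj_apply, mul_assoc]
  rw [this, Subgroup.map_id]

theorem maximal_isGen_map (Δ : Set G) (hΔ : ∀ y ∈ Δ, ∀ u : G, u * y * u⁻¹ ∈ Δ) (M : Subgroup G) (u : G)
    (hM : Maximal (IsGen Δ) M) : Maximal (IsGen Δ) (M.map (MulAut.conj u).toMonoidHom) := by
  refine ⟨isGen_map Δ hΔ M u hM.prop, ?_⟩
  intro K hK hle
  have h1 : M ≤ K.map (MulAut.conj u⁻¹).toMonoidHom := by
    have := Subgroup.map_mono (f := (MulAut.conj u⁻¹).toMonoidHom) hle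
    rwa [map_conj_inv_map] at this
  have h2 := hM.le_of_ge (isGen_map Δ hΔ K u⁻¹ hK) h1
  have := Subgroup.map_mono (f := (MulAut.conj u).toMonoidHom) h2
  have h3 := map_conj_inv_map K u⁻¹
  rw [inv_inv] at h3
  rwa [h3] at this

end

theorem AL {G : Type*} [Group G] [Finite G] (g : G) (Δ : Set G)
    (hΔdef : Δ = {y | ∃ u : G, y = u * g * u⁻¹})
    (hIH : ∀ H : Subgroup G, H ≠ ⊤ → Group.IsNilpotent ↥(Subgroup.closure (Δ ∩ (H : Set G))))
    (hgF : g ∉ Cfsg.fittingSubgroup G) :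
    ∀ k : ℕ, ∀ M₁ M₂ : Subgroup G, Maximal (IsGen Δ) M₁ → Maximal (IsGen Δ) M₂ →
      Δ.ncard - (Δ ∩ (M₁ : Set G) ∩ (M₂ : Set G)).ncard = k →
      (Δ ∩ (M₁ : Set G) ∩ (M₂ : Set G)).Nonempty → M₁ = M₂ := by
  have hΔ : ∀ y ∈ Δ, ∀ u : G, u * y * u⁻¹ ∈ Δ := by
    intro y hy u
    rw [hΔdef] at hy ⊢
    obtain ⟨v, rfl⟩ := hy
    exact ⟨u * v, by group⟩
  intro k
  induction k using Nat.strong_induction_on with
  | _ k ih =>
    intro M₁ M₂ hM₁ hM₂ hk hne
    by_contra hneq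
    set Γ : Set G := Δ ∩ (M₁ : Set G) ∩ (M₂ : Set G) with hΓ
    set D := Subgroup.closure Γ with hD
    have hΓΔ : Γ ⊆ Δ := fun y hy => hy.1.1
    have hΓM₁ : Γ ⊆ (M₁ : Set G) := fun y hy => hy.1.2
    have hΓM₂ : Γ ⊆ (M₂ : Set G) := fun y hy => hy.2
    have hDM₁ : D ≤ M₁ := (Subgroup.closure_le M₁).mpr hΓM₁
    have hDM₂ : D ≤ M₂ := (Subgroup.closure_le M₂).mpr hΓM₂
    have hcl : ∀ y ∈ Δ, y ∈ D → y ∈ Γ := fun y hy hyD => ⟨⟨hy, hDM₁ hyD⟩, hDM₂ hyD⟩
    -- elements outside Γ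
    have hex₁ : ∃ y₀ ∈ Δ, y₀ ∈ M₁ ∧ y₀ ∉ Γ := by
      by_contra hcon
      push Not at hcon
      have hle : M₁ ≤ M₂ := by
        rw [← hM₁.prop.2, Subgroup.closure_le]
        rintro y ⟨hy1, hy2⟩
        exact hΓM₂ (hcon y hy1 hy2)
      exact hneq (le_antisymm hle (hM₁.le_of_ge hM₂.prop hle))
    have hex₂ : ∃ z₀ ∈ Δ, z₀ ∈ M₂ ∧ z₀ ∉ Γ := by
      by_contra hcon
      push Not at hcon
      have hle : M₂ ≤ M₁ := by
        rw [← hM₂.prop.2, Subgroup.closure_le]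
        rintro y ⟨hy1, hy2⟩
        exact hΓM₁ (hcon y hy1 hy2)
      exact hneq (le_antisymm (hM₂.le_of_ge hM₁.prop hle) hle)
    obtain ⟨y₀, hy₀Δ, hy₀M, hy₀Γ⟩ := hex₁
    obtain ⟨z₀, hz₀Δ, hz₀M, hz₀Γ⟩ := hex₂
    obtain ⟨y, hyΔ, hyM, hyΓ, hyN⟩ := SL Δ hΔ M₁ hM₁.prop.1 Γ hΓΔ hΓM₁ hcl y₀ hy₀Δ hy₀M hy₀Γ
    obtain ⟨z, hzΔ, hzM, hzΓ, hzN⟩ := SL Δ hΔ M₂ hM₂.prop.1 Γ hΓΔ hΓM₂ hcl z₀ hz₀Δ hz₀M hz₀Γ
    set H := D ⊔ Subgroup.zpowers y ⊔ Subgroup.zpowers z with hH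
    have hDH : D ≤ H := le_trans le_sup_left le_sup_left
    have hyH : y ∈ H := (le_trans le_sup_right le_sup_left : Subgroup.zpowers y ≤ H) (Subgroup.mem_zpowers y)
    have hzH : z ∈ H := (le_sup_right : Subgroup.zpowers z ≤ H) (Subgroup.mem_zpowers z)
    by_cases hHtop : H = ⊤
    · -- D is normal
      have hHN : H ≤ Subgroup.normalizer (D : Set G) :=
        sup_le (sup_le Subgroup.le_normalizer (Subgroup.zpowers_le.mpr hyN)) (Subgroup.zpowers_le.mpr hzN)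
      have hDn : D.Normal := by
        rw [← Subgroup.normalizer_eq_top_iff, eq_top_iff, ← hHtop]; exact hHN
      have hDnil : Group.IsNilpotent ↥D := nilpotent_of_le hDM₁ hM₁.prop.1
      have hDF : D ≤ Cfsg.fittingSubgroup G := le_sSup ⟨hDn, hDnil⟩
      obtain ⟨c, hc⟩ := hne
      have hcF : c ∈ Cfsg.fittingSubgroup G := hDF (Subgroup.subset_closure hc)
      have hcΔ := hΓΔ hc
      rw [hΔdef] at hcΔ
      obtain ⟨u, rfl⟩ := hcΔ
      have := (fittingSubgroup_normal (G := G)).conj_mem _ hcF u⁻¹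
      apply hgF
      simpa [mul_assoc] using this
    · -- a third maximal member
      have hK := isGen_gen Δ H (hIH H hHtop)
      obtain ⟨M₃, hKM₃, hM₃⟩ := (Set.toFinite {K | IsGen Δ K}).exists_le_maximal hK
      have hΓM₃ : Γ ⊆ (M₃ : Set G) := fun c hc =>
        hKM₃ (Subgroup.subset_closure ⟨hΓΔ hc, hDH (Subgroup.subset_closure hc)⟩)
      have hyM₃ : y ∈ M₃ := hKM₃ (Subgroup.subset_closure ⟨hyΔ, hyH⟩)
      have hzM₃ : z ∈ M₃ := hKM₃ (Subgroup.subset_closure ⟨hzΔ, hzH⟩)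
      have hΓfin : (Δ).Finite := Set.toFinite _
      have hΓle : Γ.ncard ≤ Δ.ncard := Set.ncard_le_ncard hΓΔ hΓfin
      -- pair (M₃, M₁)
      have h31 : M₃ = M₁ := by
        have hss : Γ ⊂ Δ ∩ (M₃ : Set G) ∩ (M₁ : Set G) := by
          refine ⟨fun c hc => ⟨⟨hΓΔ hc, hΓM₃ hc⟩, hΓM₁ hc⟩, fun hcon => hyΓ (hcon ⟨⟨hyΔ, hyM₃⟩, hyM⟩)⟩
        have hlt := Set.ncard_lt_ncard hss (Set.toFinite _)
        have hle : (Δ ∩ (M₃ : Set G) ∩ (M₁ : Set G)).ncard ≤ Δ.ncard :=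
          Set.ncard_le_ncard (fun c hc => hc.1.1) hΓfin
        refine ih _ (by omega) M₃ M₁ hM₃ hM₁ rfl ?_
        obtain ⟨c, hc⟩ := hne
        exact ⟨c, hss.1 hc⟩
      have h32 : M₃ = M₂ := by
        have hss : Γ ⊂ Δ ∩ (M₃ : Set G) ∩ (M₂ : Set G) := by
          refine ⟨fun c hc => ⟨⟨hΓΔ hc, hΓM₃ hc⟩, hΓM₂ hc⟩, fun hcon => hzΓ (hcon ⟨⟨hzΔ, hzM₃⟩, hzM⟩)⟩
        have hlt := Set.ncard_lt_ncard hss (Set.toFinite _)
        have hle : (Δ ∩ (M₃ : Set G) ∩ (M₂ : Set G)).ncard ≤ Δ.ncard :=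
          Set.ncard_le_ncard (fun c hc => hc.1.1) hΓfin
        refine ih _ (by omega) M₃ M₂ hM₃ hM₂ rfl ?_
        obtain ⟨c, hc⟩ := hne
        exact ⟨c, hss.1 hc⟩
      exact hneq (h31.symm.trans h32)

theorem engel_main {G : Type*} [Group G] [Finite G] (g : G) (hE : ∀ x : G, ∃ n, eng g n x = 1)
    (Δ : Set G) (hΔdef : Δ = {y | ∃ u : G, y = u * g * u⁻¹})
    (hIH : ∀ H : Subgroup G, H ≠ ⊤ → Group.IsNilpotent ↥(Subgroup.closure (Δ ∩ (H : Set G)))) :
    g ∈ Cfsg.fittingSubgroup G := by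
  by_contra hgF
  have hΔ : ∀ y ∈ Δ, ∀ u : G, u * y * u⁻¹ ∈ Δ := by
    intro y hy u
    rw [hΔdef] at hy ⊢
    obtain ⟨v, rfl⟩ := hy
    exact ⟨u * v, by group⟩
  have hgΔ : g ∈ Δ := by rw [hΔdef]; exact ⟨1, by group⟩
  -- zpowers g is IsGen
  have hZ : IsGen Δ (Subgroup.zpowers g) := by
    refine ⟨?_, le_antisymm (gen_le _ _) ?_⟩
    · let _ : CommGroup ↥(Subgroup.zpowers g) := IsCyclic.commGroup
      infer_instance
    · rw [Subgroup.zpowers_le]
      exact Subgroup.subset_closure ⟨hgΔ, Subgroup.mem_zpowers g⟩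
  obtain ⟨M, hZM, hM⟩ := (Set.toFinite {K | IsGen Δ K}).exists_le_maximal hZ
  have hgM : g ∈ M := hZM (Subgroup.mem_zpowers g)
  have huniq : ∀ M' : Subgroup G, Maximal (IsGen Δ) M' → g ∈ M' → M' = M := by
    intro M' hM' hgM'
    exact AL g Δ hΔdef hIH hgF _ M' M hM' hM rfl ⟨g, ⟨⟨hgΔ, hgM'⟩, hgM⟩⟩
  set N := Subgroup.normalizer (M : Set G) with hN
  have hMN : M ≤ N := Subgroup.le_normalizer
  have hP2 : ∀ u : G, u * g * u⁻¹ ∈ M → u ∈ N := by
    intro u hu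
    have h1 : g ∈ M.map (MulAut.conj u⁻¹).toMonoidHom := by
      refine ⟨u * g * u⁻¹, hu, ?_⟩
      simp [mul_assoc]
    have h2 := huniq _ (maximal_isGen_map Δ hΔ M u⁻¹ hM) h1
    have h3 : u⁻¹ ∈ N := by
      rw [hN, Subgroup.mem_normalizer_iff]
      intro h
      constructor
      · intro hh
        rw [← h2]
        exact ⟨h, hh, by simp⟩
      · intro hh
        rw [← h2] at hh
        obtain ⟨h', hh', he⟩ := hh
        have : h' = h := by
          have he' : u⁻¹ * h' * u⁻¹⁻¹ = u⁻¹ * h * u⁻¹⁻¹ := by simpa [MulAut.conj_apply] using he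
          have he'' : u⁻¹ * (h' * u⁻¹⁻¹) = u⁻¹ * (h * u⁻¹⁻¹) := by simpa [mul_assoc] using he'
          exact mul_right_cancel (mul_left_cancel he'')
        rw [← this]; exact hh'
    have := N.inv_mem h3
    rwa [inv_inv] at this
  have hNtop : N ≠ ⊤ := by
    intro htop
    have hMn : M.Normal := by
      rw [← Subgroup.normalizer_eq_top_iff]; exact htop
    exact hgF ((le_sSup ⟨hMn, hM.prop.1⟩ : M ≤ Cfsg.fittingSubgroup G) hgM)
  -- Δ ∩ N ⊆ M
  have hΔN : ∀ y ∈ Δ, y ∈ N → y ∈ M := by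
    intro y hy hyN
    have hK := isGen_gen Δ N (hIH N hNtop)
    have hle : M ≤ Subgroup.closure (Δ ∩ (N : Set G)) := by
      conv_lhs => rw [← hM.prop.2]
      apply Subgroup.closure_mono
      exact Set.inter_subset_inter_right _ hMN
    have := hM.le_of_ge hK hle
    exact this (Subgroup.subset_closure ⟨hy, hyN⟩)
  have hkey : ∀ k : ℕ, ∀ x : G, eng g k x ∈ N → x ∈ N := by
    intro k
    induction k with
    | zero => intro x hx; exact hx
    | succ k ih =>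
      intro x hx
      rw [eng_succ] at hx
      have h1 := ih _ hx
      have h2 : x * g * x⁻¹ ∈ N := by
        have := N.mul_mem h1 (hMN hgM)
        simpa [mul_assoc] using this
      exact hP2 x (hΔN _ (hΔ g hgΔ x) h2)
  apply hNtop
  rw [eq_top_iff]
  intro x _
  obtain ⟨n, hn⟩ := hE x
  exact hkey n x (by rw [hn]; exact N.one_mem)

theorem baer_engel_aux : ∀ n : ℕ, ∀ (G : Type u) [Group G] [Finite G], Nat.card G = n →
    ∀ g : G, (∀ x : G, ∃ m, eng g m x = 1) → g ∈ Cfsg.fittingSubgroup G := by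
  intro n
  induction n using Nat.strong_induction_on with
  | _ n ih =>
    intro G _ _ hcard g hE
    apply engel_main g hE _ rfl
    intro H hH
    have hlt : Nat.card ↥H < n := by
      rw [← hcard]
      by_contra hcon
      push Not at hcon
      exact hH (Subgroup.eq_top_of_le_card H hcon)
    -- the image of the Fitting subgroup of H
    set FH : Subgroup G := (Cfsg.fittingSubgroup ↥H).map H.subtype with hFH
    have hFHnil : Group.IsNilpotent ↥FH := by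
      have e : ↥(Cfsg.fittingSubgroup ↥H) ≃* ↥FH :=
        (Cfsg.fittingSubgroup ↥H).equivMapOfInjective _ H.subtype_injective
      exact (Group.isNilpotent_congr e).mp fittingSubgroup_isNilpotent
    apply nilpotent_of_le _ hFHnil
    rw [Subgroup.closure_le]
    rintro y ⟨⟨u, rfl⟩, hyH⟩
    have hEy : ∀ x' : ↥H, ∃ m, eng (⟨u * g * u⁻¹, hyH⟩ : ↥H) m x' = 1 := by
      intro x'
      obtain ⟨m, hm⟩ := hE (u⁻¹ * (x' : G) * u)
      refine ⟨m, ?_⟩
      apply Subtype.ext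
      rw [eng_coe]
      have h1 := eng_conj g u m (u⁻¹ * (x' : G) * u)
      rw [hm] at h1
      have h2 : u * (u⁻¹ * (x' : G) * u) * u⁻¹ = (x' : G) := by group
      rw [h2] at h1
      simpa using h1
    have := ih _ hlt ↥H rfl ⟨u * g * u⁻¹, hyH⟩ hEy
    exact ⟨⟨u * g * u⁻¹, hyH⟩, this, rfl⟩

theorem forward {G : Type*} [Group G] [Finite G] (g : G) (hg : g ∈ Cfsg.fittingSubgroup G) (x : G) :
    ∃ n, eng g n x = 1 := by
  set F := Cfsg.fittingSubgroup G with hF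
  have hFn : F.Normal := fittingSubgroup_normal
  have hFnil : Group.IsNilpotent ↥F := fittingSubgroup_isNilpotent
  obtain ⟨c, hc⟩ := (Subgroup.isNilpotent_iff_lowerCentralSeries F).mp hFnil
  have hmem : ∀ n : ℕ, eng g (n + 1) x ∈ F.lowerCentralSeries n := by
    intro n
    induction n with
    | zero =>
      rw [eng_succ, eng_zero]
      show x * g * x⁻¹ * g⁻¹ ∈ F
      exact F.mul_mem (hFn.conj_mem g hg x) (F.inv_mem hg)
    | succ n ih =>
      rw [eng_succ', Subgroup.lowerCentralSeries_succ]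
      exact Subgroup.commutator_mem_commutator ih hg
  refine ⟨c + 1, ?_⟩
  have := hmem c
  rwa [hc, Subgroup.mem_bot] at this

/-- Baer's characterization of the Fitting subgroup: in a finite group G, an element g lies in the Fitting subgroup if and only if g is a left Engel element, that is, for every x there is n with [x, g, g, …, g] = 1 (n entries g, [a, b] = aba⁻¹b⁻¹). -/
theorem result {G : Type*} [Group G] [Finite G] (g : G) :
    g ∈ Cfsg.fittingSubgroup G ↔ ∀ x : G, ∃ n : ℕ, (List.replicate n g).foldl (fun a b => a * b * a⁻¹ * b⁻¹) x = 1 := by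
  constructor
  · intro hg x
    obtain ⟨n, hn⟩ := forward g hg x
    exact ⟨n, by rw [foldl_eq_eng]; exact hn⟩
  · intro h
    apply baer_engel_aux _ G rfl g
    intro x
    obtain ⟨n, hn⟩ := h x
    exact ⟨n, by rw [← foldl_eq_eng]; exact hn⟩

end Cfsg.Agent.S3937
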