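import Cfsg.Statements.S0199
import Cfsg.Agent.Lib.Helper71_Fitting
import Cfsg.Agent.S3937

set_option autoImplicit false
open Cfsg

namespace Cfsg.Agent.S0199

open Cfsg.Agent.Lib.Helper71_Fitting
open Cfsg.Agent.S3937 (eng eng_zero eng_succ eng_succ' nilpotent_of_le baer_engel_aux)

/-- Baer–Suzuki Theorem: a p-subgroup X of a finite group such that X and any of its conjugates generate a p-group is contained in a normal p-subgroup. -/
theorem result {G : Type*} [Group G] [Finite G] {p : ℕ} [Fact p.Prime] (X : Subgroup G) (hX : IsPGroup p X) (h : ∀ g : G, IsPGroup p ↥(X ⊔ X.map (MulAut.conj g).toMonoidHom)) : ∃ N : Subgroup G, N.Normal ∧ IsPGroup p N ∧ X ≤ N := by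
  refine ⟨sylowCore p G, inferInstance, sylowCore_isPGroup p, ?_⟩
  intro x hx
  -- x is a left Engel element
  have hE : ∀ y : G, ∃ m, eng x m y = 1 := by
    intro y
    set K := X ⊔ X.map (MulAut.conj y).toMonoidHom with hK
    have hKnil : Group.IsNilpotent ↥K := (h y).isNilpotent
    have hxK : x ∈ K := (le_sup_left : X ≤ K) hx
    have hyxK : y * x * y⁻¹ ∈ K :=
      (le_sup_right : X.map (MulAut.conj y).toMonoidHom ≤ K) ⟨x, hx, by simp [MulAut.conj_apply]⟩
    obtain ⟨c, hc⟩ := (Subgroup.isNilpotent_iff_lowerCentralSeries K).mp hKnil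
    have hmem : ∀ n : ℕ, eng x (n + 1) y ∈ K.lowerCentralSeries n := by
      intro n
      induction n with
      | zero =>
        rw [eng_succ, eng_zero]
        exact K.mul_mem hyxK (K.inv_mem hxK)
      | succ n ih =>
        rw [eng_succ', Subgroup.lowerCentralSeries_succ]
        exact Subgroup.commutator_mem_commutator ih hxK
    refine ⟨c + 1, ?_⟩
    have := hmem c
    rwa [hc, Subgroup.mem_bot] at this
  have hxF : x ∈ Cfsg.fittingSubgroup G := baer_engel_aux _ G rfl x hE
  obtain ⟨k, hk⟩ := (IsPGroup.iff_orderOf.mp hX) ⟨x, hx⟩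
  rw [Subgroup.orderOf_mk] at hk
  rw [mem_sylowCore]
  intro P
  exact mem_sylow_of_mem_fitting hxF hk P

end Cfsg.Agent.S0199
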