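import Cfsg.Statements.S0592
import Mathlib

set_option autoImplicit false
open Cfsg

namespace Cfsg.Agent.S0592

open Polynomial

section basics

variable {K : Type*} [Field K] {p : ℕ} [Fact p.Prime] [CharP K p]
variable {W : Type*} [AddCommGroup W] [Module K W]

/-- pointwise quadratic condition -/
def Quad (A : Module.End K W) : Prop := ∀ w : W, A (A w - w) = A w - w

theorem Quad.sq {A : Module.End K W} (h : Quad A) (w : W) : A (A w) = (2 : K) • A w - w := by
  have := h w
  rw [map_sub] at this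
  rw [two_smul]
  have h2 : A (A w) = A w - w + A w := by rw [← this]; abel
  rw [h2]; abel

theorem Quad.mul_sub_one {A : Module.End K W} (h : Quad A) : (A - 1) * (A - 1) = 0 := by
  ext w
  simp only [Module.End.mul_apply, LinearMap.sub_apply, Module.End.one_apply, LinearMap.zero_apply]
  rw [h w]; abel

theorem one_add_pow_of_sq_zero (N : Module.End K W) (h : N * N = 0) (k : ℕ) :
    (1 + N) ^ k = 1 + k • N := by
  induction k with
  | zero => simp
  | succ k ih =>
    rw [pow_succ, ih, mul_add, mul_one, add_mul, one_mul, smul_mul_assoc, h, smul_zero, add_zero,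
      succ_nsmul]
    abel

theorem Quad.pow_p {A : Module.End K W} (h : Quad A) : A ^ p = 1 := by
  have h1 : A = 1 + (A - 1) := by abel
  rw [h1, one_add_pow_of_sq_zero _ h.mul_sub_one]
  have : (p : ℕ) • (A - 1) = 0 := by
    rw [← Nat.cast_smul_eq_nsmul K p (A - 1), CharP.cast_eq_zero K p, zero_smul]
  rw [this, add_zero]

end basics



theorem exists_eigenvector {K : Type*} [Field K] [Fintype K] {p : ℕ} [Fact p.Prime] [CharP K p]
    {W : Type*} [AddCommGroup W] [Module K W] [FiniteDimensional K W] [Nontrivial W]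
    (g : Module.End K W) (e : ℕ) (hg : g ^ (p ^ e * (Fintype.card K - 1)) = 1) :
    ∃ (μ : K) (w : W), w ≠ 0 ∧ g w = μ • w := by
  classical
  have hq : 1 < Fintype.card K := Fintype.one_lt_card
  set q := Fintype.card K with hqdef
  let f : K[X] := (X ^ (q - 1) - 1) ^ (p ^ e)
  have hf : f = X ^ (p ^ e * (q - 1)) - 1 := by
    show (X ^ (q - 1) - 1 : K[X]) ^ (p ^ e) = _
    rw [sub_pow_char_pow, one_pow, ← pow_mul, mul_comm]
  have haeval : aeval g f = 0 := by
    rw [hf]
    simp only [map_sub, map_pow, aeval_X, map_one]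
    rw [hg, sub_self]
  have hdvd : minpoly K g ∣ f := minpoly.dvd K g haeval
  have hXq : (X ^ q - X : K[X]) = X * (X ^ (q - 1) - 1) := by
    have : q = (q - 1) + 1 := by omega
    conv_lhs => rw [this]
    ring
  have hsplit0 : Splits (X ^ q - X : K[X]) := by
    rw [splits_iff_card_roots, FiniteField.roots_X_pow_card_sub_X,
      FiniteField.X_pow_card_sub_X_natDegree_eq K hq]
    simp [hqdef]
  have hne0 : (X ^ q - X : K[X]) ≠ 0 := FiniteField.X_pow_card_sub_X_ne_zero K hq
  have hsplit1 : Splits (X ^ (q - 1) - 1 : K[X]) :=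
    hsplit0.of_dvd hne0 ⟨X, by rw [hXq]; ring⟩
  have hsplitf : Splits f := hsplit1.pow _
  have hfne : f ≠ 0 := by
    apply pow_ne_zero
    intro h0
    apply hne0
    rw [hXq, h0, mul_zero]
  have hsplitm : Splits (minpoly K g) := hsplitf.of_dvd hfne hdvd
  have hint : IsIntegral K g := Algebra.IsIntegral.isIntegral g
  have hdeg : degree (minpoly K g) ≠ 0 := (minpoly.degree_pos hint).ne'
  obtain ⟨μ, hμ⟩ := hsplitm.exists_eval_eq_zero hdeg
  have hev : g.HasEigenvalue μ := Module.End.hasEigenvalue_of_isRoot hμ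
  obtain ⟨v, hv⟩ := hev.exists_hasEigenvector
  exact ⟨μ, v, hv.2, hv.apply_eq_smul⟩


section rep

variable {K : Type*} [Field K] {W : Type*} [AddCommGroup W] [Module K W]
variable {Γ : Type*} [Group Γ]

theorem rep_inv_apply (ρ : Γ →* Module.End K W) (γ : Γ) (w : W) : ρ γ⁻¹ (ρ γ w) = w := by
  have : ρ γ⁻¹ * ρ γ = 1 := by rw [← map_mul, inv_mul_cancel, map_one]
  have h2 : (ρ γ⁻¹ * ρ γ) w = (1 : Module.End K W) w := by rw [this]
  exact h2

theorem rep_apply_inv (ρ : Γ →* Module.End K W) (γ : Γ) (w : W) : ρ γ (ρ γ⁻¹ w) = w := by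
  have := rep_inv_apply ρ γ⁻¹ w
  rwa [inv_inv] at this

/-- the inverse of a quadratic element is `2 - A` -/
theorem Quad.inv_apply (ρ : Γ →* Module.End K W) (γ : Γ) (h : Quad (ρ γ)) (w : W) :
    ρ γ⁻¹ w = (2 : K) • w - ρ γ w := by
  have h1 : ρ γ ((2 : K) • w - ρ γ w) = w := by
    rw [map_sub, map_smul, h.sq]; abel
  have h2 := rep_inv_apply ρ γ ((2 : K) • w - ρ γ w)
  rw [h1] at h2
  exact h2

/-- invariance of a submodule under the whole group from the generators -/
theorem invariant_of_gen (ρ : Γ →* Module.End K W) (x y : Γ)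
    (hgen : Subgroup.closure {x, y} = ⊤) (hx : Quad (ρ x)) (hy : Quad (ρ y)) (U : Submodule K W)
    (hUx : ∀ u ∈ U, ρ x u ∈ U) (hUy : ∀ u ∈ U, ρ y u ∈ U) :
    ∀ γ : Γ, ∀ u ∈ U, ρ γ u ∈ U := by
  have key : ∀ γ : Γ, (∀ u ∈ U, ρ γ u ∈ U) ∧ (∀ u ∈ U, ρ γ⁻¹ u ∈ U) := by
    intro γ
    have hγ : γ ∈ Subgroup.closure {x, y} := by rw [hgen]; trivial
    induction hγ using Subgroup.closure_induction with
    | mem z hz =>
      rcases hz with hz | hz
      · rw [hz]
        refine ⟨hUx, fun u hu => ?_⟩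
        rw [hx.inv_apply ρ x]
        exact U.sub_mem (U.smul_mem _ hu) (hUx u hu)
      · have hz' : z = y := hz
        rw [hz']
        refine ⟨hUy, fun u hu => ?_⟩
        rw [hy.inv_apply ρ y]
        exact U.sub_mem (U.smul_mem _ hu) (hUy u hu)
    | one =>
      constructor
      · intro u hu; rw [map_one]; exact hu
      · intro u hu; rw [inv_one, map_one]; exact hu
    | mul a b _ _ iha ihb =>
      constructor
      · intro u hu
        rw [map_mul]
        exact iha.1 _ (ihb.1 u hu)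
      · intro u hu
        rw [mul_inv_rev, map_mul]
        exact ihb.2 _ (iha.2 u hu)
    | inv a _ iha =>
      refine ⟨iha.2, ?_⟩
      rw [inv_inv]; exact iha.1
  exact fun γ => (key γ).1

/-- the subrepresentation -/
def subRep (ρ : Γ →* Module.End K W) (U : Submodule K W) (hU : ∀ γ : Γ, ∀ u ∈ U, ρ γ u ∈ U) :
    Γ →* Module.End K U where
  toFun γ := (ρ γ).restrict (hU γ)
  map_one' := by
    ext u
    simp
  map_mul' γ δ := by
    ext u
    simp

@[simp] theorem subRep_apply (ρ : Γ →* Module.End K W) (U : Submodule K W)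
    (hU : ∀ γ : Γ, ∀ u ∈ U, ρ γ u ∈ U) (γ : Γ) (u : U) :
    ((subRep ρ U hU γ u : U) : W) = ρ γ (u : W) := rfl

/-- the quotient representation -/
def quotRep (ρ : Γ →* Module.End K W) (U : Submodule K W) (hU : ∀ γ : Γ, ∀ u ∈ U, ρ γ u ∈ U) :
    Γ →* Module.End K (W ⧸ U) where
  toFun γ := U.mapQ U (ρ γ) (fun u hu => hU γ u hu)
  map_one' := by
    apply Submodule.linearMap_qext
    ext w
    simp
  map_mul' γ δ := by
    apply Submodule.linearMap_qext
    ext w
    simp

@[simp] theorem quotRep_apply (ρ : Γ →* Module.End K W) (U : Submodule K W)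
    (hU : ∀ γ : Γ, ∀ u ∈ U, ρ γ u ∈ U) (γ : Γ) (w : W) :
    quotRep ρ U hU γ (Submodule.Quotient.mk w) = Submodule.Quotient.mk (ρ γ w) := rfl

theorem subRep_quad (ρ : Γ →* Module.End K W) (U : Submodule K W)
    (hU : ∀ γ : Γ, ∀ u ∈ U, ρ γ u ∈ U) (γ : Γ) (h : Quad (ρ γ)) : Quad (subRep ρ U hU γ) := by
  intro u
  apply Subtype.ext
  simp only [Submodule.coe_sub, subRep_apply]
  exact h u

theorem quotRep_quad (ρ : Γ →* Module.End K W) (U : Submodule K W)
    (hU : ∀ γ : Γ, ∀ u ∈ U, ρ γ u ∈ U) (γ : Γ) (h : Quad (ρ γ)) : Quad (quotRep ρ U hU γ) := by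
  intro v
  induction v using Submodule.Quotient.induction_on with
  | H w =>
    rw [quotRep_apply, ← Submodule.Quotient.mk_sub, quotRep_apply, h w]

theorem subRep_eq_one (ρ : Γ →* Module.End K W) (U : Submodule K W)
    (hU : ∀ γ : Γ, ∀ u ∈ U, ρ γ u ∈ U) (γ : Γ) (h : ρ γ = 1) : subRep ρ U hU γ = 1 := by
  ext u
  rw [subRep_apply, h]; rfl

theorem quotRep_eq_one (ρ : Γ →* Module.End K W) (U : Submodule K W)
    (hU : ∀ γ : Γ, ∀ u ∈ U, ρ γ u ∈ U) (γ : Γ) (h : ρ γ = 1) : quotRep ρ U hU γ = 1 := by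
  apply LinearMap.ext
  intro v
  induction v using Submodule.Quotient.induction_on with
  | H w => rw [quotRep_apply, h]; rfl

end rep



section main

variable {K : Type*} [Field K] {Γ : Type*} [Group Γ]

/-- the image of the representation is a `p`-group -/
def PG (p : ℕ) {W : Type*} [AddCommGroup W] [Module K W] (ρ : Γ →* Module.End K W) : Prop :=
  ∀ γ : Γ, ∃ k : ℕ, ρ (γ ^ p ^ k) = 1

theorem PG_of_sub_quot {p : ℕ} [Fact p.Prime] [CharP K p] {W : Type*} [AddCommGroup W] [Module K W]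
    (ρ : Γ →* Module.End K W) (U : Submodule K W) (hU : ∀ γ : Γ, ∀ u ∈ U, ρ γ u ∈ U)
    (h1 : PG p (subRep ρ U hU)) (h2 : PG p (quotRep ρ U hU)) : PG p ρ := by
  intro γ
  obtain ⟨k₁, hk₁⟩ := h1 γ
  obtain ⟨k₂, hk₂⟩ := h2 (γ ^ p ^ k₁)
  obtain ⟨ε, hε⟩ : ∃ ε : Γ, ε = (γ ^ p ^ k₁) ^ p ^ k₂ := ⟨_, rfl⟩
  rw [← hε] at hk₂
  have hεU : subRep ρ U hU ε = 1 := by rw [hε, map_pow, hk₁, one_pow]
  have hquad : Quad (ρ ε) := by
    intro w
    have h3 : ρ ε w - w ∈ U := by
      have h4 : quotRep ρ U hU ε (Submodule.Quotient.mk w) =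
          (1 : Module.End K (W ⧸ U)) (Submodule.Quotient.mk w) := by rw [hk₂]
      rw [quotRep_apply, Module.End.one_apply] at h4
      exact (Submodule.Quotient.eq U).1 h4
    have h5 : subRep ρ U hU ε ⟨_, h3⟩ = (1 : Module.End K U) ⟨_, h3⟩ := by rw [hεU]
    have h6 := congrArg Subtype.val h5
    rw [subRep_apply, Module.End.one_apply] at h6
    exact h6
  refine ⟨k₁ + k₂ + 1, ?_⟩
  have : γ ^ p ^ (k₁ + k₂ + 1) = ε ^ p := by
    rw [hε, ← pow_mul, ← pow_mul, pow_succ, pow_add, mul_assoc]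
  rw [this, map_pow, hquad.pow_p]

theorem span_invariant {W : Type*} [AddCommGroup W] [Module K W] (A B : Module.End K W)
    (hA : Quad A) (hB : Quad B) (μ : K) (hμ : μ ≠ 0) (w : W) (hw : A (B w) = μ • w) :
    (∀ u ∈ Submodule.span K {w, B w}, A u ∈ Submodule.span K {w, B w}) ∧
      (∀ u ∈ Submodule.span K {w, B w}, B u ∈ Submodule.span K {w, B w}) := by
  obtain ⟨U, hUdef⟩ : ∃ U : Submodule K W, U = Submodule.span K {w, B w} := ⟨_, rfl⟩
  rw [← hUdef]
  have hwU : w ∈ U := by rw [hUdef]; exact Submodule.subset_span (by simp)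
  have hBwU : B w ∈ U := by rw [hUdef]; exact Submodule.subset_span (by simp)
  have hAw : A w = (2 : K) • w - μ⁻¹ • B w := by
    have h1 := hA.sq (B w)
    rw [hw, map_smul] at h1
    calc A w = μ⁻¹ • (μ • A w) := by rw [smul_smul, inv_mul_cancel₀ hμ, one_smul]
      _ = μ⁻¹ • ((2 : K) • μ • w - B w) := by rw [h1]
      _ = (2 : K) • w - μ⁻¹ • B w := by
        rw [smul_sub, smul_smul, smul_smul]
        congr 2
        field_simp
  constructor
  · have : U ≤ U.comap A := by
      rw [hUdef, Submodule.span_le, ← hUdef]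
      intro z hz
      rcases hz with hz | hz
      · rw [hz]
        show A w ∈ U
        rw [hAw]
        exact U.sub_mem (U.smul_mem _ hwU) (U.smul_mem _ hBwU)
      · have hz' : z = B w := hz
        rw [hz']
        show A (B w) ∈ U
        rw [hw]
        exact U.smul_mem _ hwU
    exact fun u hu => this hu
  · have : U ≤ U.comap B := by
      rw [hUdef, Submodule.span_le, ← hUdef]
      intro z hz
      rcases hz with hz | hz
      · rw [hz]
        exact hBwU
      · have hz' : z = B w := hz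
        rw [hz']
        show B (B w) ∈ U
        rw [hB.sq]
        exact U.sub_mem (U.smul_mem _ hBwU) hwU
    exact fun u hu => this hu

theorem quad_eq_one_of_finrank_one {W : Type*} [AddCommGroup W] [Module K W]
    (h1 : Module.finrank K W = 1) (A : Module.End K W) (hA : Quad A) : A = 1 := by
  obtain ⟨v, hv0, hv⟩ := finrank_eq_one_iff'.1 h1
  obtain ⟨c, hc⟩ := hv (A v)
  have hAv : A v = c • v := hc.symm
  have h2 := hA v
  rw [hAv, map_sub, map_smul, hAv] at h2
  have h3 : ((c - 1) * (c - 1)) • v = 0 := by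
    have : ((c - 1) * (c - 1)) • v = (c • c • v - c • v) - (c • v - v) := by module
    rw [this, h2, sub_self]
  have h4 : (c - 1) * (c - 1) = 0 := by
    rcases smul_eq_zero.1 h3 with h | h
    · exact h
    · exact absurd h hv0
  have h5 : c = 1 := sub_eq_zero.1 (mul_self_eq_zero.1 h4)
  rw [h5, one_smul] at hc
  ext w
  obtain ⟨d, hd⟩ := hv w
  rw [← hd, map_smul, ← hc, Module.End.one_apply]

theorem rep_eq_one_of_gen {W : Type*} [AddCommGroup W] [Module K W] (ρ : Γ →* Module.End K W)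
    (x y : Γ) (hgen : Subgroup.closure {x, y} = ⊤) (hx : ρ x = 1) (hy : ρ y = 1) (γ : Γ) :
    ρ γ = 1 := by
  have hγ : γ ∈ Subgroup.closure {x, y} := by rw [hgen]; trivial
  have := MonoidHom.eqOn_closure (f := ρ) (g := 1) (s := {x, y}) (by
    intro z hz
    rcases hz with hz | hz
    · rw [hz]; exact hx
    · have hz' : z = y := hz
      rw [hz']; exact hy) hγ
  exact this

end main


section build

variable {K : Type*} [Field K] {p : ℕ} [Fact p.Prime] [CharP K p] {Γ : Type*} [Group Γ]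

theorem eq_one_of_pow_char (c : K) (hc : c ^ p = 1) : c = 1 := by
  have h : (c - 1) ^ p = 0 := by rw [sub_pow_char, hc, one_pow, sub_self]
  exact sub_eq_zero.1 ((pow_eq_zero_iff (Fact.out : p.Prime).ne_zero).1 h)

theorem exists_hom_of_finrank_two {W : Type*} [AddCommGroup W] [Module K W]
    [FiniteDimensional K W] (h2 : Module.finrank K W = 2) (ρ : Γ →* Module.End K W) (x y : Γ)
    (hgen : Subgroup.closure {x, y} = ⊤) (hx : Quad (ρ x)) (hy : Quad (ρ y))
    (hnp : ¬ PG p ρ) :
    ∃ φ : Γ →* Matrix.SpecialLinearGroup (Fin 2) K, ¬ IsPGroup p φ.range := by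
  classical
  let Bs : Module.Basis (Fin 2) K W := Module.finBasisOfFinrankEq K W h2
  let d : Γ →* K := (LinearMap.det : Module.End K W →* K).comp ρ
  have hdx : d x = 1 := by
    apply eq_one_of_pow_char (p := p)
    show (LinearMap.det (ρ x)) ^ p = 1
    rw [← map_pow, hx.pow_p, map_one]
  have hdy : d y = 1 := by
    apply eq_one_of_pow_char (p := p)
    show (LinearMap.det (ρ y)) ^ p = 1
    rw [← map_pow, hy.pow_p, map_one]
  have hd : ∀ γ : Γ, LinearMap.det (ρ γ) = 1 := by
    intro γ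
    have hγ : γ ∈ Subgroup.closure {x, y} := by rw [hgen]; trivial
    have := MonoidHom.eqOn_closure (f := d) (g := 1) (s := {x, y}) (by
      intro z hz
      rcases hz with hz | hz
      · rw [hz]; exact hdx
      · have hz' : z = y := hz
        rw [hz']; exact hdy) hγ
    exact this
  let φ : Γ →* Matrix.SpecialLinearGroup (Fin 2) K :=
    { toFun := fun γ => ⟨LinearMap.toMatrix Bs Bs (ρ γ), by
        rw [LinearMap.det_toMatrix]; exact hd γ⟩
      map_one' := by
        apply Subtype.ext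
        show LinearMap.toMatrix Bs Bs (ρ 1) = 1
        rw [map_one, LinearMap.toMatrix_one]
      map_mul' := fun γ δ => by
        apply Subtype.ext
        show LinearMap.toMatrix Bs Bs (ρ (γ * δ)) =
          LinearMap.toMatrix Bs Bs (ρ γ) * LinearMap.toMatrix Bs Bs (ρ δ)
        rw [map_mul, LinearMap.toMatrix_mul] }
  refine ⟨φ, fun hP => hnp ?_⟩
  intro γ
  obtain ⟨k, hk⟩ := hP ⟨φ γ, γ, rfl⟩
  refine ⟨k, ?_⟩
  have h1 : φ (γ ^ p ^ k) = 1 := by
    have h3 := congrArg Subtype.val hk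
    rw [map_pow]
    exact h3
  have h4 : LinearMap.toMatrix Bs Bs (ρ (γ ^ p ^ k)) = 1 := congrArg Subtype.val h1
  rw [← LinearMap.toMatrix_one Bs] at h4
  exact (LinearMap.toMatrix Bs Bs).injective h4

end build


universe u

theorem main {K : Type*} [Field K] [Fintype K] {p : ℕ} [Fact p.Prime] [CharP K p] {Γ : Type*}
    [Group Γ] (x y : Γ) (hgen : Subgroup.closure {x, y} = ⊤) :
    ∀ (n : ℕ) (W : Type u) [AddCommGroup W] [Module K W] [FiniteDimensional K W] [Nontrivial W]
      (ρ : Γ →* Module.End K W), Module.finrank K W = n → Quad (ρ x) → Quad (ρ y) →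
      (∃ e : ℕ, ρ ((x * y) ^ (p ^ e * (Fintype.card K - 1))) = 1) → ¬ PG p ρ →
      ∃ φ : Γ →* Matrix.SpecialLinearGroup (Fin 2) K, ¬ IsPGroup p φ.range := by
  intro n
  induction n using Nat.strong_induction_on with
  | _ n ih =>
  intro W _ _ _ _ ρ hn hx hy hM hnp
  classical
  obtain ⟨e, he⟩ := hM
  have hg : (ρ (x * y)) ^ (p ^ e * (Fintype.card K - 1)) = 1 := by rw [← map_pow]; exact he
  obtain ⟨μ, w, hw0, hw⟩ := exists_eigenvector (p := p) (ρ (x * y)) e hg
  have hw' : ρ x (ρ y w) = μ • w := by rw [← hw, map_mul]; rfl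
  have hμ : μ ≠ 0 := by
    intro h0
    rw [h0, zero_smul] at hw
    have := rep_inv_apply ρ (x * y) w
    rw [hw, map_zero] at this
    exact hw0 this.symm
  obtain ⟨hUx, hUy⟩ := span_invariant (ρ x) (ρ y) hx hy μ hμ w hw'
  obtain ⟨U, hUdef⟩ : ∃ U : Submodule K W, U = Submodule.span K {w, ρ y w} := ⟨_, rfl⟩
  rw [← hUdef] at hUx hUy
  have hU := invariant_of_gen ρ x y hgen hx hy U hUx hUy
  have hwU : w ∈ U := by rw [hUdef]; exact Submodule.subset_span (by simp)
  haveI hUnt : Nontrivial U := ⟨⟨⟨w, hwU⟩, 0, fun h => hw0 (congrArg Subtype.val h)⟩⟩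
  by_cases hUtop : U = ⊤
  · have hle : Module.finrank K W ≤ 2 := by
      have h1 : Module.finrank K U ≤ 2 := by
        rw [hUdef]
        have := finrank_span_finset_le_card (R := K) ({w, ρ y w} : Finset W)
        rw [Finset.coe_pair] at this
        exact this.trans Finset.card_le_two
      rw [hUtop] at h1
      rwa [finrank_top] at h1
    have hpos : 0 < Module.finrank K W := Module.finrank_pos
    rcases (by omega : Module.finrank K W = 1 ∨ Module.finrank K W = 2) with h1 | h2
    · exfalso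
      apply hnp
      have hx1 := quad_eq_one_of_finrank_one h1 (ρ x) hx
      have hy1 := quad_eq_one_of_finrank_one h1 (ρ y) hy
      intro γ
      exact ⟨0, rep_eq_one_of_gen ρ x y hgen hx1 hy1 _⟩
    · exact exists_hom_of_finrank_two h2 ρ x y hgen hx hy hnp
  · by_cases hPU : PG p (subRep ρ U hU)
    · have hPQ : ¬ PG p (quotRep ρ U hU) := fun h => hnp (PG_of_sub_quot ρ U hU hPU h)
      haveI : Nontrivial (W ⧸ U) := Submodule.Quotient.nontrivial_iff.2 hUtop
      have hlt : Module.finrank K (W ⧸ U) < n := by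
        have := U.finrank_quotient_add_finrank
        have hUpos : 0 < Module.finrank K U := Module.finrank_pos
        omega
      exact ih _ hlt (W ⧸ U) (quotRep ρ U hU) rfl (quotRep_quad ρ U hU x hx)
        (quotRep_quad ρ U hU y hy) ⟨e, quotRep_eq_one ρ U hU _ he⟩ hPQ
    · have hlt : Module.finrank K U < n := hn ▸ Submodule.finrank_lt hUtop
      exact ih _ hlt U (subRep ρ U hU) rfl (subRep_quad ρ U hU x hx) (subRep_quad ρ U hU y hy)
        ⟨e, subRep_eq_one ρ U hU _ he⟩ hPU

/-- Two quadratically acting generators of a linear group that is not a p-group, with the p'-part of the order of their product dividing q - 1, give a homomorphism onto a subgroup of SL(2, q) that is not a p-group. -/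
theorem result {K : Type*} [Field K] [Fintype K] {p : ℕ} [Fact p.Prime] [CharP K p] {W : Type*} [AddCommGroup W] [Module K W] [FiniteDimensional K W] [Finite W] [Nontrivial W] (H : Subgroup (W ≃ₗ[K] W)) (a b : W ≃ₗ[K] W) (hH : H = Subgroup.closure {a, b}) (ha : ∀ w : W, a (a w - w) = a w - w) (hb : ∀ w : W, b (b w - w) = b w - w) (hnp : ¬ IsPGroup p H) (hk : ∃ e k : ℕ, orderOf (a * b) = p ^ e * k ∧ k ∣ Fintype.card K - 1) : ∃ φ : H →* Matrix.SpecialLinearGroup (Fin 2) K, ¬ IsPGroup p φ.range := by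
  subst hH
  have haH : a ∈ Subgroup.closure {a, b} := Subgroup.subset_closure (by simp)
  have hbH : b ∈ Subgroup.closure {a, b} := Subgroup.subset_closure (by simp)
  let ρ : (Subgroup.closure {a, b} : Subgroup (W ≃ₗ[K] W)) →* Module.End K W :=
    { toFun := fun h => ((h : W ≃ₗ[K] W) : W →ₗ[K] W)
      map_one' := rfl
      map_mul' := fun _ _ => rfl }
  obtain ⟨x, hxdef⟩ : ∃ x : (Subgroup.closure {a, b} : Subgroup (W ≃ₗ[K] W)), x = ⟨a, haH⟩ :=
    ⟨_, rfl⟩
  obtain ⟨y, hydef⟩ : ∃ y : (Subgroup.closure {a, b} : Subgroup (W ≃ₗ[K] W)), y = ⟨b, hbH⟩ :=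
    ⟨_, rfl⟩
  have hgen : Subgroup.closure {x, y} = ⊤ := by
    have h1 := Subgroup.closure_closure_coe_preimage (k := ({a, b} : Set (W ≃ₗ[K] W)))
    have h2 : ((↑) ⁻¹' ({a, b} : Set (W ≃ₗ[K] W)) :
        Set (Subgroup.closure ({a, b} : Set (W ≃ₗ[K] W)))) = {x, y} := by
      ext z
      simp only [Set.mem_preimage, Set.mem_insert_iff, Set.mem_singleton_iff, hxdef, hydef,
        Subtype.ext_iff]
    rw [h2] at h1
    exact h1
  have hx : Quad (ρ x) := by rw [hxdef]; exact ha
  have hy : Quad (ρ y) := by rw [hydef]; exact hb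
  obtain ⟨e, k, hord, hkd⟩ := hk
  have hM : ∃ e : ℕ, ρ ((x * y) ^ (p ^ e * (Fintype.card K - 1))) = 1 := by
    refine ⟨e, ?_⟩
    have h1 : (a * b) ^ (p ^ e * (Fintype.card K - 1)) = 1 := by
      apply orderOf_dvd_iff_pow_eq_one.1
      rw [hord]; exact Nat.mul_dvd_mul_left _ hkd
    have h2 : (x * y) ^ (p ^ e * (Fintype.card K - 1)) = 1 := by
      apply Subtype.ext
      rw [hxdef, hydef]
      exact h1
    rw [h2, map_one]
  have hnp' : ¬ PG p ρ := by
    intro hP
    apply hnp
    intro h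
    obtain ⟨k, hk⟩ := hP h
    refine ⟨k, ?_⟩
    apply Subtype.ext
    apply LinearEquiv.toLinearMap_injective
    exact hk
  exact main x y hgen _ W ρ rfl hx hy hM hnp'

end Cfsg.Agent.S0592
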