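import Cfsg.Statements.S0606
import Mathlib
import Cfsg.Agent.Lib.Helper10_Thompson

set_option autoImplicit false
open Cfsg
open Cfsg.Agent.Lib.Helper10_Thompson
open scoped commutatorElement

namespace Cfsg.Agent.S0606

/-- Elementary abelian p-subgroups of maximal order are best offenders on any normal elementary abelian p-subgroup. -/
theorem result {G : Type*} [Group G] [Finite G] {p : ℕ} [Fact p.Prime] (V : Subgroup G) [V.Normal] (hV : Cfsg.IsElementaryAbelian p V) (A : Subgroup G) (hA : A ∈ Cfsg.maxElementaryAbelianSubgroups p G) : Cfsg.IsBestOffenderOn p V A := by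
  refine ⟨?_, ?_, ?_⟩
  · intro B hBA
    set W : Subgroup G := V ⊓ Subgroup.centralizer (B : Set G) with hW
    have hD : IsElementaryAbelian p (B ⊔ W) := by
      apply isElementaryAbelian_sup (ea_mono hBA hA.1) (ea_mono inf_le_left hV)
      intro b hb w hw
      exact (Subgroup.mem_centralizer_iff.mp hw.2) b hb
    have h1 : Nat.card (B ⊔ W : Subgroup G) ≤ Nat.card A := hA.2 _ hD
    have h2 : Nat.card (W ⊓ B : Subgroup G) ≤
        Nat.card (V ⊓ Subgroup.centralizer (A : Set G) : Subgroup G) := by
      apply Subgroup.card_le_of_le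
      intro x hx
      refine ⟨hx.1.1, ?_⟩
      change x ∈ Subgroup.centralizer (A : Set G)
      rw [Subgroup.mem_centralizer_iff]
      intro a ha
      exact ea_comm hA.1 ha (hBA hx.2)
    calc Nat.card B * Nat.card W
        ≤ Nat.card (B ⊔ W : Subgroup G) * Nat.card (W ⊓ B : Subgroup G) :=
          card_mul_card_le_card_sup_mul_card_inf B W
      _ ≤ Nat.card A * Nat.card (V ⊓ Subgroup.centralizer (A : Set G) : Subgroup G) :=
          Nat.mul_le_mul h1 h2
  · rw [Subgroup.commutator_le]
    intro a ha b hb
    have : ⁅a, b⁆ = 1 := commutatorElement_eq_one_iff_mul_comm.mpr (ea_comm hA.1 ha hb)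
    rw [this]
    exact Subgroup.one_mem _
  · intro a ha
    rw [hA.1.2 a ha]
    exact Subgroup.one_mem _

end Cfsg.Agent.S0606
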