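import Cfsg.Statements.S0058
import Cfsg.Agent.Lib.Helper48_Generation
import Mathlib.GroupTheory.FiniteAbelian.Basic

set_option autoImplicit false
open Cfsg

namespace Cfsg.Agent.S0058

open scoped IsMulCommutative

/-- A non-cyclic finite abelian group contains a copy of `Z_p × Z_p`: there are `a, b` of
exponent `p` with `b ≠ 1` and `a * b ^ k ≠ 1` for all `k`. -/
theorem exists_rank_two {A : Type*} [Group A] [IsMulCommutative A] [Finite A] (hA : ¬ IsCyclic A) :
    ∃ (p : ℕ) (_ : p.Prime) (a b : A), a ^ p = 1 ∧ b ^ p = 1 ∧ b ≠ 1 ∧ ∀ k : ℕ, a * b ^ k ≠ 1 := by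
  classical
  obtain ⟨ι, _, n, hn, ⟨e⟩⟩ := CommGroup.equiv_prod_multiplicative_zmod_of_finite A
  by_cases hcop : Pairwise (Function.onFun Nat.Coprime n)
  · exfalso
    apply hA
    have e2 : A ≃* Multiplicative (ZMod (∏ i, n i)) :=
      e.trans ((MulEquiv.piMultiplicative fun i => ZMod (n i)).symm.trans
        (AddEquiv.toMultiplicative (ZMod.prodEquivPi n hcop).symm.toAddEquiv))
    exact (MulEquiv.isCyclic e2).mpr inferInstance
  · rw [Pairwise] at hcop
    simp only [not_forall] at hcop
    obtain ⟨i, j, hij, hc⟩ := hcop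
    have hc' : ¬ Nat.Coprime (n i) (n j) := hc
    obtain ⟨p, hp, hpi, hpj⟩ := Nat.Prime.not_coprime_iff_dvd.mp hc'
    obtain ⟨mi, hmi⟩ := hpi
    obtain ⟨mj, hmj⟩ := hpj
    have hni := hn i
    have hnj := hn j
    have hmi0 : 0 < mi := by
      rcases Nat.eq_zero_or_pos mi with h | h
      · rw [h, mul_zero] at hmi; omega
      · exact h
    have hmj0 : 0 < mj := by
      rcases Nat.eq_zero_or_pos mj with h | h
      · rw [h, mul_zero] at hmj; omega
      · exact h
    have hmilt : mi < n i := by
      rw [hmi]; nlinarith [hp.one_lt]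
    have hmjlt : mj < n j := by
      rw [hmj]; nlinarith [hp.one_lt]
    -- the two elements
    set a' : (k : ι) → Multiplicative (ZMod (n k)) :=
      Pi.mulSingle i (Multiplicative.ofAdd (mi : ZMod (n i))) with ha'
    set b' : (k : ι) → Multiplicative (ZMod (n k)) :=
      Pi.mulSingle j (Multiplicative.ofAdd (mj : ZMod (n j))) with hb'
    have hmi_ne : (mi : ZMod (n i)) ≠ 0 := by
      intro h
      rw [ZMod.natCast_eq_zero_iff] at h
      exact absurd (Nat.le_of_dvd hmi0 h) (not_le.mpr hmilt)
    have hmj_ne : (mj : ZMod (n j)) ≠ 0 := by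
      intro h
      rw [ZMod.natCast_eq_zero_iff] at h
      exact absurd (Nat.le_of_dvd hmj0 h) (not_le.mpr hmjlt)
    have ha'p : a' ^ p = 1 := by
      rw [ha', ← Pi.mulSingle_pow]
      have : (Multiplicative.ofAdd (mi : ZMod (n i))) ^ p = 1 := by
        rw [← ofAdd_nsmul, nsmul_eq_mul, ← Nat.cast_mul, ← hmi, ZMod.natCast_self]
        rfl
      rw [this, Pi.mulSingle_one]
    have hb'p : b' ^ p = 1 := by
      rw [hb', ← Pi.mulSingle_pow]
      have : (Multiplicative.ofAdd (mj : ZMod (n j))) ^ p = 1 := by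
        rw [← ofAdd_nsmul, nsmul_eq_mul, ← Nat.cast_mul, ← hmj, ZMod.natCast_self]
        rfl
      rw [this, Pi.mulSingle_one]
    have hb'1 : b' ≠ 1 := by
      intro h
      have := congrFun h j
      rw [hb', Pi.mulSingle_eq_same] at this
      exact hmj_ne this
    have hab' : ∀ k : ℕ, a' * b' ^ k ≠ 1 := by
      intro k h
      have := congrFun h i
      rw [Pi.mul_apply, Pi.pow_apply, ha', hb', Pi.mulSingle_eq_same,
        Pi.mulSingle_eq_of_ne hij, one_pow, mul_one] at this
      exact hmi_ne this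
    refine ⟨p, hp, e.symm a', e.symm b', ?_, ?_, ?_, ?_⟩
    · rw [← map_pow, ha'p, map_one]
    · rw [← map_pow, hb'p, map_one]
    · intro h
      apply hb'1
      have := congrArg e h
      rwa [MulEquiv.apply_symm_apply, map_one] at this
    · intro k h
      apply hab' k
      have := congrArg e h
      rwa [map_mul, map_pow, MulEquiv.apply_symm_apply, MulEquiv.apply_symm_apply, map_one] at this

/-- Generation by centralisers: when a noncyclic abelian group A normalises K with coprime orders, K is generated by the fixed-point subgroups of the nonidentity elements of A. -/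
theorem result {G : Type*} [Group G] [Finite G] (A K : Subgroup G)
    [IsMulCommutative A] (hA : ¬ IsCyclic A) (hAK : A ≤ Subgroup.normalizer (K : Set G)) (hcop : (Nat.card A).Coprime (Nat.card K)) :
    (⨆ a ∈ {a : G | a ∈ A ∧ a ≠ 1}, K ⊓ Subgroup.centralizer {a}) = K := by
  apply le_antisymm
  · refine iSup_le fun a => iSup_le fun _ => inf_le_left
  · obtain ⟨p, hp, a, b, hap, hbp, hb1, hab⟩ := exists_rank_two (A := A) hA
    have : Fact p.Prime := ⟨hp⟩
    have hpA : p ∣ Nat.card A := by
      have h1 : orderOf b = p := orderOf_eq_prime hbp hb1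
      rw [← h1]
      exact orderOf_dvd_natCard b
    have hKcop : ¬ p ∣ Nat.card K := by
      intro h
      have h2 : p ∣ Nat.gcd (Nat.card A) (Nat.card K) := Nat.dvd_gcd hpA h
      rw [hcop] at h2
      exact hp.one_lt.ne' (Nat.dvd_one.mp h2)
    have hle : ∀ c : A, c ≠ 1 → K ⊓ Subgroup.centralizer ({(c : G)} : Set G) ≤
        ⨆ a ∈ {a : G | a ∈ A ∧ a ≠ 1}, K ⊓ Subgroup.centralizer {a} := by
      intro c hc
      have hmem : (c : G) ∈ {a : G | a ∈ A ∧ a ≠ 1} := by
        refine ⟨c.2, ?_⟩
        intro h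
        exact hc (Subtype.ext h)
      exact le_iSup₂_of_le (c : G) hmem le_rfl
    refine Cfsg.Agent.Lib.Helper48_Generation.le_of_centralizers_le (p := p) K hKcop
      (a : G) (b : G) (hAK a.2) (hAK b.2) ?_ ?_ ?_ _ (hle b hb1) ?_
    · exact_mod_cast congrArg Subtype.val hap
    · exact_mod_cast congrArg Subtype.val hbp
    · exact_mod_cast congrArg Subtype.val (mul_comm a b)
    · intro k
      have := hle (a * b ^ k) (hab k)
      simpa using this

end Cfsg.Agent.S0058
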