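import Cfsg.Statements.S0610
import Cfsg.Agent.Lib.Helper62_Offender

set_option autoImplicit false
open Cfsg

namespace Cfsg.Agent.S0610

open Cfsg.Agent.Lib.Helper62_Offender

/-- every best offender `A ≤ H` (trivial or not) satisfies `|A| |C_V(A)| = |V|` -/
theorem card_offender {G : Type*} [Group G] [Finite G] {p : ℕ} [Fact p.Prime] (V H : Subgroup G)
    (hV : Cfsg.IsElementaryAbelian p V) (hHV : H ≤ Subgroup.normalizer (V : Set G))
    (hf : H ⊓ Subgroup.centralizer (V : Set G) = ⊥)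
    (hS1 : Subgroup.centralizer (Cfsg.pPrimeCore p ↥H : Set ↥H) ≤ Cfsg.pPrimeCore p ↥H) :
    ∀ n : ℕ, ∀ A : Subgroup G, Nat.card A = n → A ≤ H → Cfsg.IsBestOffenderOn p V A →
      Nat.card A * Nat.card ↥(V ⊓ Subgroup.centralizer (A : Set G)) = Nat.card V := by
  intro n
  induction n using Nat.strong_induction_on with
  | _ n ih =>
  intro A hAn hAH hA
  by_cases hA1 : A = ⊥
  · subst hA1
    have : Subgroup.centralizer (((⊥ : Subgroup G) : Subgroup G) : Set G) = ⊤ := by
      rw [Subgroup.coe_bot, Subgroup.centralizer_eq_top_iff_subset]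
      simp
    rw [this, inf_top_eq, Subgroup.card_bot, one_mul]
  · obtain ⟨A₀, hA₀A, hA₀, hu, hy⟩ := key_lemma V H hV hHV hf hS1 A hAH hA hA1
    have hp := (Fact.out : p.Prime)
    have hpos : 0 < Nat.card A₀ := Nat.card_pos
    have hlt : Nat.card A₀ < n := by
      rw [← hAn, hu]
      calc Nat.card A₀ = 1 * Nat.card A₀ := (one_mul _).symm
        _ < p * Nat.card A₀ := Nat.mul_lt_mul_of_pos_right hp.one_lt hpos
    have h1 := ih _ hlt A₀ rfl (le_trans hA₀A hAH) hA₀
    rw [← h1, hu, hy]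
    ring

/-- In a faithful group generated by best offenders with a self-centralizing p'-core, every nontrivial best offender A has order exactly |V : C_V(A)|. -/
theorem result {G : Type*} [Group G] [Finite G] {p : ℕ} [Fact p.Prime] (V H : Subgroup G) (hV : Cfsg.IsElementaryAbelian p V) (hHV : H ≤ Subgroup.normalizer (V : Set G)) (hf : H ⊓ Subgroup.centralizer (V : Set G) = ⊥) (hS1 : Subgroup.centralizer (Cfsg.pPrimeCore p ↥H : Set ↥H) ≤ Cfsg.pPrimeCore p ↥H) (hS3 : H = ⨆ A : {A : Subgroup G // A ≤ H ∧ Cfsg.IsBestOffenderOn p V A}, (A : Subgroup G)) (hH1 : H ≠ ⊥) (A : Subgroup G) (hAH : A ≤ H) (hA : Cfsg.IsBestOffenderOn p V A) (hA1 : A ≠ ⊥) : Nat.card A * Nat.card ↥(V ⊓ Subgroup.centralizer (A : Set G)) = Nat.card V :=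
  card_offender V H hV hHV hf hS1 _ A rfl hAH hA

end Cfsg.Agent.S0610
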