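import Cfsg.Statements.S0339
import Cfsg.Agent.Lib.Helper6_Zassenhaus

set_option autoImplicit false
open Cfsg

namespace Cfsg.Agent.S0339

open Cfsg.Agent.Lib.Helper6_Zassenhaus

/-- A non-trivial normal subgroup of a Zassenhaus group is itself a Zassenhaus group on the same set. -/
theorem result {G Ω : Type*} [Group G] [MulAction G Ω] [Finite Ω]
    (hZ : Cfsg.IsZassenhausGroup G Ω) (N : Subgroup G) [N.Normal] (hN : N ≠ ⊥) :
    Cfsg.IsZassenhausGroup N Ω := by
  classical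
  have hz := zhyp_of_isZassenhausGroup hZ
  have hfin : Finite G := finite_of_finite hz
  have hfaith := hz.faithful
  obtain ⟨g₀, hg₀1, a₀, b₀, hab₀, hga₀, hgb₀⟩ := hz.fix
  have hne : Nonempty Ω := ⟨a₀⟩
  -- `N` is doubly transitive
  have hN2 : ∀ {a b c d : Ω}, a ≠ b → c ≠ d → ∃ n ∈ N, n • a = c ∧ n • b = d := by
    intro a b c d hab hcd
    obtain ⟨n₁, hn₁, hn₁a⟩ := normal_transitive hz N hN a c
    obtain ⟨K, hK, hKtr⟩ := exists_K hz c
    have hKN := K_le_normal hZ N hN c K hK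
    have hn₁b : n₁ • b ≠ c := by
      intro h
      apply hab
      have : n₁ • b = n₁ • a := by rw [h, hn₁a]
      exact (smul_left_cancel _ this).symm
    obtain ⟨k, hk, hkb⟩ := hKtr (n₁ • b) d hn₁b hcd.symm
    have hkc : k • c = c := by
      have : k ∈ (K : Set G) := hk
      rw [hK] at this
      exact this.1
    exact ⟨k * n₁, N.mul_mem (hKN hk) hn₁, by rw [mul_smul, hn₁a, hkc], by rw [mul_smul, hkb]⟩
  refine ⟨⟨?_⟩, ?_, ?_, ?_, ?_⟩
  · intro n₁ n₂ h
    apply Subtype.ext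
    apply FaithfulSMul.eq_of_smul_eq_smul (α := Ω)
    intro x
    exact h x
  · rw [MulAction.is_two_pretransitive_iff]
    intro a b c d hab hcd
    obtain ⟨n, hn, h1, h2⟩ := hN2 hab hcd
    exact ⟨⟨n, hn⟩, h1, h2⟩
  · intro g a b c hab hbc hac ha hb hc
    apply Subtype.ext
    exact hz.three (g : G) a b c hab hbc hac ha hb hc
  · obtain ⟨h, hhN, hh1, hha, hhb⟩ := exists_fix_normal hZ N hN a₀ b₀ hab₀
    exact ⟨⟨h, hhN⟩, fun e => hh1 (congrArg Subtype.val e), a₀, b₀, hab₀, hha, hhb⟩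
  · intro L hLn hLt
    by_contra hcon
    push Not at hcon
    have hreg : RegNormal N (L.map N.subtype) Ω := by
      refine ⟨Subgroup.map_subtype_le L, ?_, ?_, ?_⟩
      · intro n hn l hl
        obtain ⟨l₀, hl₀, rfl⟩ := Subgroup.mem_map.1 hl
        refine Subgroup.mem_map.2 ⟨⟨n, hn⟩ * l₀ * ⟨n, hn⟩⁻¹, hLn.conj_mem l₀ hl₀ ⟨n, hn⟩, ?_⟩
        simp
      · intro x y
        obtain ⟨l, hl⟩ := MulAction.exists_smul_eq L x y
        exact ⟨((l : N) : G), Subgroup.mem_map.2 ⟨(l : N), l.2, rfl⟩, hl⟩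
      · intro l hl c hc
        obtain ⟨l₀, hl₀, rfl⟩ := Subgroup.mem_map.1 hl
        have hmem : (⟨l₀, hl₀⟩ : L) ∈ MulAction.stabilizer L c := by
          rw [MulAction.mem_stabilizer_iff]
          exact hc
        rw [hcon c, Subgroup.mem_bot] at hmem
        have : l₀ = 1 := congrArg Subtype.val hmem
        rw [this]; rfl
    have hnorm : (L.map N.subtype).Normal := hreg.normal hN2
    obtain ⟨l, hl, hl1, c, hc⟩ := no_regular_normal hZ _ hnorm hreg.trans
    exact hl1 (hreg.semi l hl c hc)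

end Cfsg.Agent.S0339
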