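-- Statement S0015; proof by helper1.
import Cfsg.Statements.S0015
import Mathlib

set_option autoImplicit false
open Pointwise
open Cfsg

namespace Cfsg.Agent.S0015

open Subgroup

/-- In a nilpotent group a nontrivial normal subgroup meets the center nontrivially. -/
theorem exists_ne_one_mem_center {G : Type*} [Group G] [hG : Group.IsNilpotent G]
    (H : Subgroup G) [hH : H.Normal] (hne : H ≠ ⊥) :
    ∃ x ∈ H, x ≠ 1 ∧ x ∈ center G := by
  classical
  obtain ⟨c, hc⟩ := hG.nilpotent
  have hex : ∃ n, H ⊓ Subgroup.upperCentralSeries G n ≠ ⊥ := ⟨c, by rw [hc, inf_top_eq]; exact hne⟩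
  have hn0 : Nat.find hex ≠ 0 := by
    intro h0
    have := Nat.find_spec hex
    rw [h0, Subgroup.upperCentralSeries_zero, inf_bot_eq] at this
    exact this rfl
  obtain ⟨m, hm⟩ := Nat.exists_eq_succ_of_ne_zero hn0
  have hprev : H ⊓ Subgroup.upperCentralSeries G m = ⊥ := by
    by_contra h
    have := Nat.find_min' hex h
    omega
  have hcur := Nat.find_spec hex
  rw [hm] at hcur
  obtain ⟨x, hx1⟩ := (Subgroup.ne_bot_iff_exists_ne_one).mp hcur
  have hx1' : (x : G) ≠ 1 := fun h => hx1 (Subtype.ext h)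
  obtain ⟨hxH, hxZ⟩ := x.2
  refine ⟨x, hxH, hx1', ?_⟩
  rw [mem_center_iff]
  intro g
  have h1 : (x : G) * g * (x : G)⁻¹ * g⁻¹ ∈ Subgroup.upperCentralSeries G m :=
    (Subgroup.mem_upperCentralSeries_succ_iff).mp hxZ g
  have h2 : (x : G) * g * (x : G)⁻¹ * g⁻¹ ∈ H := by
    have : (x : G) * g * (x : G)⁻¹ * g⁻¹ = x * (g * (x : G)⁻¹ * g⁻¹) := by group
    rw [this]
    exact H.mul_mem hxH (hH.conj_mem _ (H.inv_mem hxH) g)
  have h3 : (x : G) * g * (x : G)⁻¹ * g⁻¹ ∈ H ⊓ Subgroup.upperCentralSeries G m := ⟨h2, h1⟩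
  rw [hprev, mem_bot] at h3
  calc g * x = ((x : G) * g * (x : G)⁻¹ * g⁻¹)⁻¹ * (x * g) := by group
    _ = x * g := by rw [h3, inv_one, one_mul]

/-- In a finite nilpotent group, an abelian normal subgroup that is maximal among abelian normal subgroups equals its own centralizer. -/
theorem result {G : Type*} [Group G] [Finite G] [Group.IsNilpotent G]
    (N : Subgroup G) [N.Normal] [IsMulCommutative N]
    (hmax : ∀ M : Subgroup G, M.Normal → IsMulCommutative M → N ≤ M → M = N) :
    Subgroup.centralizer (N : Set G) = N := by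
  have hNC : N ≤ centralizer (N : Set G) := by
    intro n hn
    rw [mem_centralizer_iff]
    intro m hm
    have := (IsMulCommutative.is_comm (M := N)).comm ⟨m, hm⟩ ⟨n, hn⟩
    exact congrArg Subtype.val this
  by_contra hne
  have hCn : (centralizer (N : Set G)).Normal := Subgroup.normal_centralizer
  -- the image of the centralizer in `G ⧸ N` is a nontrivial normal subgroup
  have hsurj : Function.Surjective (QuotientGroup.mk' N) := QuotientGroup.mk'_surjective N
  have hCbar_n : ((centralizer (N : Set G)).map (QuotientGroup.mk' N)).Normal :=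
    hCn.map _ hsurj
  have hCbar_ne : (centralizer (N : Set G)).map (QuotientGroup.mk' N) ≠ ⊥ := by
    intro h
    rw [Subgroup.map_eq_bot_iff, QuotientGroup.ker_mk'] at h
    exact hne (le_antisymm h hNC)
  obtain ⟨xbar, hxC, hx1, hxZ⟩ := exists_ne_one_mem_center _ hCbar_ne
  obtain ⟨x, hxC', rfl⟩ := hxC
  have hxN : x ∉ N := by
    intro h
    apply hx1
    exact (QuotientGroup.eq_one_iff x).mpr h
  -- `M` is the preimage of `⟨x̄⟩`
  obtain ⟨M, hMdef⟩ : ∃ M : Subgroup G, M = (zpowers (QuotientGroup.mk' N x)).comap (QuotientGroup.mk' N) :=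
    ⟨_, rfl⟩
  have hzn : (zpowers (QuotientGroup.mk' N x)).Normal := by
    constructor
    intro y hy g
    obtain ⟨i, rfl⟩ := mem_zpowers_iff.mp hy
    have hc : QuotientGroup.mk' N x ^ i ∈ center (G ⧸ N) := (center (G ⧸ N)).zpow_mem hxZ i
    have := (mem_center_iff.mp hc) g
    rw [this, mul_inv_cancel_right]
    exact mem_zpowers_iff.mpr ⟨i, rfl⟩
  have hMn : M.Normal := by rw [hMdef]; exact hzn.comap _
  have hNM : N ≤ M := by
    rw [hMdef]
    conv_lhs => rw [← QuotientGroup.ker_mk' N]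
    exact ker_le_comap _ _
  have hxM : x ∈ M := by rw [hMdef, mem_comap]; exact mem_zpowers _
  have hdecomp : ∀ a ∈ M, ∃ i : ℤ, ∃ n ∈ N, a = x ^ i * n := by
    intro a ha
    rw [hMdef, mem_comap] at ha
    obtain ⟨i, hi⟩ := mem_zpowers_iff.mp ha
    refine ⟨i, (x ^ i)⁻¹ * a, ?_, by group⟩
    rw [← QuotientGroup.eq_one_iff]
    have : (((x ^ i)⁻¹ * a : G) : G ⧸ N) = (QuotientGroup.mk' N x ^ i)⁻¹ * QuotientGroup.mk' N a := by
      simp
    rw [this, hi]; group
  have hxcomm : ∀ (i : ℤ) (n : G), n ∈ N → n * x ^ i = x ^ i * n := by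
    intro i n hn
    have h1 : x ^ i ∈ centralizer (N : Set G) := (centralizer (N : Set G)).zpow_mem hxC' i
    exact (mem_centralizer_iff.mp h1) n hn
  have hNcomm : ∀ n m : G, n ∈ N → m ∈ N → n * m = m * n := by
    intro n m hn hm
    have := (IsMulCommutative.is_comm (M := N)).comm ⟨n, hn⟩ ⟨m, hm⟩
    exact congrArg Subtype.val this
  have hMc : IsMulCommutative M := by
    refine ⟨⟨?_⟩⟩
    rintro ⟨a, ha⟩ ⟨b, hb⟩
    apply Subtype.ext
    change a * b = b * a
    obtain ⟨i, n, hn, rfl⟩ := hdecomp a ha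
    obtain ⟨j, m, hm, rfl⟩ := hdecomp b hb
    calc x ^ i * n * (x ^ j * m) = x ^ i * (n * x ^ j) * m := by group
      _ = x ^ i * (x ^ j * n) * m := by rw [hxcomm j n hn]
      _ = (x ^ i * x ^ j) * (n * m) := by group
      _ = (x ^ j * x ^ i) * (m * n) := by rw [hNcomm n m hn hm, ← zpow_add, ← zpow_add, add_comm]
      _ = x ^ j * (x ^ i * m) * n := by group
      _ = x ^ j * (m * x ^ i) * n := by rw [hxcomm i m hm]
      _ = x ^ j * m * (x ^ i * n) := by group
  have := hmax M hMn hMc hNM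
  rw [this] at hxM
  exact hxN hxM

end Cfsg.Agent.S0015
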