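import Cfsg.Statements.S0016
import Cfsg.Agent.Lib.Helper50_UniqueInv2
import Cfsg.Agent.Lib.Helper20_PGroupOdd

set_option autoImplicit false
open Cfsg

namespace Cfsg.Agent.S0016

/-- A finite p-group in which only one subgroup has order p is either cyclic or (with p = 2) isomorphic to a generalized quaternion group. -/
theorem result {G : Type*} [Group G] [Finite G] (p : ℕ) [Fact p.Prime]
    (hG : IsPGroup p G) (huniq : ∀ H K : Subgroup G, Nat.card H = p → Nat.card K = p → H = K) :
    IsCyclic G ∨ (p = 2 ∧ ∃ n : ℕ, Nonempty (G ≃* QuaternionGroup (2 ^ n))) := by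
  by_cases hp2 : p = 2
  · subst hp2
    have huniq' := Cfsg.Agent.Lib.Helper50_UniqueInv2.uniqueInvolution_of_subgroups huniq
    rcases Cfsg.Agent.Lib.Helper50_UniqueInv2.isCyclic_or_quaternion hG huniq' with
      h | ⟨k, _, hiso⟩
    · left; exact h
    · right; exact ⟨rfl, k, hiso⟩
  · left
    by_contra hnc
    have htop : ¬ IsCyclic (⊤ : Subgroup G) := fun h =>
      hnc (isCyclic_of_surjective (Subgroup.topEquiv : (⊤ : Subgroup G) ≃* G)
        Subgroup.topEquiv.surjective)
    obtain ⟨z, h, hg⟩ := Cfsg.Agent.Lib.Helper20_PGroupOdd.exists_good hp2 hG ⊤ htop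
    have h1 : Nat.card (Subgroup.zpowers z) = p := by rw [Nat.card_zpowers, hg.2.2.2.1]
    have h2 : Nat.card (Subgroup.zpowers h) = p := by rw [Nat.card_zpowers, hg.orderOf_h]
    have h3 := huniq _ _ h1 h2
    exact hg.2.2.2.2.2.1 (h3 ▸ Subgroup.mem_zpowers h)

end Cfsg.Agent.S0016
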