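import Cfsg.Statements.S2971
import Cfsg.Agent.S0016
import Cfsg.Agent.Lib.Helper50_CL2

set_option autoImplicit false
open Cfsg

namespace Cfsg.Agent.S2971

open Subgroup

variable {G : Type*} [Group G]

theorem pow_eq_one_of_mem_sup {B₁ B₂ : Subgroup G}
    (hc : IsMulCommutative (B₁ ⊔ B₂ : Subgroup G)) (n : ℕ)
    (h₁ : ∀ b ∈ B₁, b ^ n = 1) (h₂ : ∀ b ∈ B₂, b ^ n = 1) : ∀ w ∈ B₁ ⊔ B₂, w ^ n = 1 := by
  intro w hw
  rw [Subgroup.sup_eq_closure] at hw
  induction hw using Subgroup.closure_induction with
  | mem x hx =>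
    rcases hx with hx | hx
    · exact h₁ x hx
    · exact h₂ x hx
  | one => exact one_pow n
  | mul x y hx hy ihx ihy =>
    have hx' : x ∈ B₁ ⊔ B₂ := by rw [Subgroup.sup_eq_closure]; exact hx
    have hy' : y ∈ B₁ ⊔ B₂ := by rw [Subgroup.sup_eq_closure]; exact hy
    have hcomm : Commute x y := by
      have := hc.is_comm.comm ⟨x, hx'⟩ ⟨y, hy'⟩
      exact congrArg Subtype.val this
    rw [hcomm.mul_pow, ihx, ihy, one_mul]
  | inv x hx ih => rw [inv_pow, ih, inv_one]

/-- Piece A: rank one Sylow subgroups for odd primes are cyclic. -/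
theorem sylow_isCyclic [Finite G] {p : ℕ} [Fact p.Prime] (hp : p ≠ 2)
    (hrk : Cfsg.PRankLE p 1 G) (P : Sylow p G) : IsCyclic ↥(P : Subgroup G) := by
  have hp1 : 1 < p := (Fact.out : p.Prime).one_lt
  -- key: any subgroup of order p of P equals a fixed central one
  have huniq : ∀ X Y : Subgroup ↥(P : Subgroup G), Nat.card X = p → Nat.card Y = p → X = Y := by
    intro X Y hX hY
    have hnt : Nontrivial ↥(P : Subgroup G) := by
      rw [← Finite.one_lt_card_iff_nontrivial]
      calc 1 < p := hp1
        _ = Nat.card X := hX.symm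
        _ ≤ Nat.card ↥(P : Subgroup G) := Nat.card_le_card_of_injective _ X.subtype_injective
    have hcn : Nontrivial (Subgroup.center ↥(P : Subgroup G)) := P.isPGroup'.center_nontrivial
    have hpdvd : p ∣ Nat.card (Subgroup.center ↥(P : Subgroup G)) := by
      have hcp : IsPGroup p (Subgroup.center ↥(P : Subgroup G)) := P.isPGroup'.to_subgroup _
      rcases hcp.card_eq_or_dvd with h | h
      · exfalso
        have := Finite.one_lt_card_iff_nontrivial.mpr hcn
        omega
      · exact h
    obtain ⟨z', hz'⟩ := exists_prime_orderOf_dvd_card' (G := Subgroup.center ↥(P : Subgroup G)) p hpdvd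
    -- `z` in `G`
    set z : G := ((z' : ↥(P : Subgroup G)) : G) with hz
    have hzP : z ∈ (P : Subgroup G) := (z' : ↥(P : Subgroup G)).2
    have hzord : orderOf z = p := by
      rw [hz, Subgroup.orderOf_coe, Subgroup.orderOf_coe, hz']
    have hzcomm : ∀ w ∈ (P : Subgroup G), w * z = z * w := by
      intro w hw
      have := Subgroup.mem_center_iff.mp z'.2 ⟨w, hw⟩
      exact congrArg Subtype.val this
    have key : ∀ X : Subgroup ↥(P : Subgroup G), Nat.card X = p →
        X.map (P : Subgroup G).subtype = Subgroup.zpowers z := by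
      intro X hX
      set X' := X.map (P : Subgroup G).subtype with hX'
      have hX'card : Nat.card X' = p := by
        rw [hX', Subgroup.card_map_of_injective (Subgroup.subtype_injective _), hX]
      have hX'P : X' ≤ (P : Subgroup G) := Subgroup.map_subtype_le X
      have hZcard : Nat.card (Subgroup.zpowers z) = p := by rw [Nat.card_zpowers, hzord]
      by_contra hne
      -- the join
      have hXc : IsMulCommutative X' := by
        have : Fact (Nat.card X').Prime := ⟨hX'card ▸ Fact.out⟩
        have : IsCyclic X' := isCyclic_of_prime_card rfl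
        infer_instance
      have hZc : IsMulCommutative (Subgroup.zpowers z) := inferInstance
      have hcent : Subgroup.zpowers z ≤ Subgroup.centralizer (X' : Set G) := by
        rw [Subgroup.zpowers_le, Subgroup.mem_centralizer_iff]
        intro w hw
        exact hzcomm w (hX'P hw)
      have hAc : IsMulCommutative (Subgroup.zpowers z ⊔ X' : Subgroup G) :=
        Cfsg.Agent.Lib.Helper50_CL2.isMulCommutative_sup hZc hXc hcent
      have hAexp : ∀ w ∈ Subgroup.zpowers z ⊔ X', w ^ p = 1 := by
        apply pow_eq_one_of_mem_sup hAc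
        · intro b hb
          have : (⟨b, hb⟩ : Subgroup.zpowers z) ^ Nat.card (Subgroup.zpowers z) = 1 :=
            pow_card_eq_one'
          rw [hZcard] at this
          exact congrArg Subtype.val this
        · intro b hb
          have : (⟨b, hb⟩ : X') ^ Nat.card X' = 1 := pow_card_eq_one'
          rw [hX'card] at this
          exact congrArg Subtype.val this
      have hle := hrk _ hAc hAexp
      rw [pow_one] at hle
      have hlt : Subgroup.zpowers z < Subgroup.zpowers z ⊔ X' := by
        refine lt_of_le_of_ne le_sup_left ?_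
        intro heq
        have hX'le : X' ≤ Subgroup.zpowers z := by
          rw [heq]; exact le_sup_right
        exact hne (Subgroup.eq_of_le_of_card_ge hX'le (by rw [hZcard, hX'card]))
      have h2 := Cfsg.Agent.Lib.Helper50_UniqueInv.two_mul_card_le_of_lt hlt
      rw [hZcard] at h2
      omega
    apply Subgroup.map_injective (Subgroup.subtype_injective (P : Subgroup G))
    rw [key X hX, key Y hY]
  rcases Cfsg.Agent.S0016.result p P.isPGroup' huniq with h | h
  · exact h
  · exact absurd h.1 hp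


/-- Piece B: for a cyclic Sylow subgroup whose element `x` of order `p` is centralized by the
normalizer, the normalizer centralizes the whole Sylow subgroup. -/
theorem normalizer_le_centralizer [Finite G] {p : ℕ} [Fact p.Prime] (P : Sylow p G)
    (hcyc : IsCyclic ↥(P : Subgroup G)) (x : G) (hxP : x ∈ (P : Subgroup G)) (hx : orderOf x = p)
    (hfix : ∀ n ∈ Subgroup.normalizer ((P : Subgroup G) : Set G), n * x * n⁻¹ = x) :
    Subgroup.normalizer ((P : Subgroup G) : Set G) ≤
      Subgroup.centralizer ((P : Subgroup G) : Set G) := by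
  obtain ⟨a', ha'⟩ := IsCyclic.exists_generator (α := ↥(P : Subgroup G))
  set a : G := (a' : G) with ha
  have haP : a ∈ (P : Subgroup G) := a'.2
  have hgen : ∀ w ∈ (P : Subgroup G), ∃ s : ℤ, a ^ s = w := by
    intro w hw
    obtain ⟨s, hs⟩ := Subgroup.mem_zpowers_iff.mp (ha' ⟨w, hw⟩)
    refine ⟨s, ?_⟩
    have := congrArg Subtype.val hs
    simpa using this
  obtain ⟨m, hm⟩ := P.isPGroup'.exists_card_eq
  have horda : orderOf a = p ^ m := by
    rw [ha, Subgroup.orderOf_coe, orderOf_eq_card_of_forall_mem_zpowers ha', hm]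
  have hm1 : 1 ≤ m := by
    by_contra h0
    have h0' : m = 0 := by omega
    rw [h0', pow_zero] at hm
    have hbot : (P : Subgroup G) = ⊥ := Subgroup.card_eq_one.mp hm
    rw [hbot, Subgroup.mem_bot] at hxP
    rw [hxP, orderOf_one] at hx
    exact (Fact.out : p.Prime).one_lt.ne hx
  have hsuff : ∀ n : G, n * a = a * n →
      n ∈ Subgroup.centralizer ((P : Subgroup G) : Set G) := by
    intro n hn
    rw [Subgroup.mem_centralizer_iff]
    intro w hw
    obtain ⟨s, rfl⟩ := hgen w hw
    exact (Commute.zpow_left (show Commute a n from hn.symm) s).eq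
  intro n hn
  have hnaP : n * a * n⁻¹ ∈ (P : Subgroup G) := (Subgroup.mem_normalizer_iff.mp hn a).mp haP
  obtain ⟨r, hr⟩ := hgen _ hnaP
  obtain ⟨s, hs⟩ := hgen x hxP
  have hxr : x ^ r = x := by
    have h1 : n * x * n⁻¹ = x := hfix n hn
    calc x ^ r = (a ^ s) ^ r := by rw [hs]
      _ = (a ^ r) ^ s := by rw [← zpow_mul, ← zpow_mul, mul_comm]
      _ = (n * a * n⁻¹) ^ s := by rw [hr]
      _ = n * a ^ s * n⁻¹ := by rw [conj_zpow]
      _ = x := by rw [hs, h1]
  have hpr : (p : ℤ) ∣ r - 1 := by
    have h1 : x ^ (r - 1) = 1 := by rw [zpow_sub_one, hxr, mul_inv_cancel]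
    rw [← hx]
    exact orderOf_dvd_iff_zpow_eq_one.mpr h1
  have hpow : ∀ k : ℕ, n ^ k * a * (n ^ k)⁻¹ = a ^ (r ^ k) := by
    intro k
    induction k with
    | zero => simp
    | succ k ih =>
      calc n ^ (k + 1) * a * (n ^ (k + 1))⁻¹ = n * (n ^ k * a * (n ^ k)⁻¹) * n⁻¹ := by
            rw [pow_succ']; group
        _ = n * a ^ (r ^ k) * n⁻¹ := by rw [ih]
        _ = (n * a * n⁻¹) ^ (r ^ k) := by rw [conj_zpow]
        _ = (a ^ r) ^ (r ^ k) := by rw [hr]
        _ = a ^ (r ^ (k + 1)) := by rw [← zpow_mul, pow_succ']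
  have hq : n ^ (p ^ (m - 1)) * a = a * n ^ (p ^ (m - 1)) := by
    have h1 := hpow (p ^ (m - 1))
    have hdvd : ((p : ℤ) ^ (m - 1 + 1)) ∣ r ^ p ^ (m - 1) - 1 ^ p ^ (m - 1) :=
      dvd_sub_pow_of_dvd_sub hpr (m - 1)
    rw [one_pow, Nat.sub_add_cancel hm1] at hdvd
    have h2 : a ^ (r ^ p ^ (m - 1) - 1) = 1 := by
      apply orderOf_dvd_iff_zpow_eq_one.mp
      rw [horda]; exact_mod_cast hdvd
    have h3 : a ^ (r ^ p ^ (m - 1)) = a := by
      have e : r ^ p ^ (m - 1) = (r ^ p ^ (m - 1) - 1) + 1 := by ring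
      rw [e, zpow_add_one, h2, one_mul]
    rw [h3] at h1
    calc n ^ p ^ (m - 1) * a
        = (n ^ p ^ (m - 1) * a * (n ^ p ^ (m - 1))⁻¹) * n ^ p ^ (m - 1) := by group
      _ = a * n ^ p ^ (m - 1) := by rw [h1]
  -- coprime index
  set M := Subgroup.normalizer ((P : Subgroup G) : Set G) with hM
  set C := Subgroup.centralizer ((P : Subgroup G) : Set G) with hC
  have hnorm : (C.subgroupOf M).Normal := Subgroup.normal_subgroupOf_centralizer_normalizer _
  have hidxmem : n ^ (C.relIndex M) ∈ C := by
    have := Subgroup.pow_index_mem (C.subgroupOf M) ⟨n, hn⟩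
    rw [Subgroup.mem_subgroupOf] at this
    rw [Subgroup.relIndex]
    simpa using this
  have hPC : (P : Subgroup G) ≤ C := by
    intro w hw
    obtain ⟨s, rfl⟩ := hgen w hw
    apply hsuff
    exact (Commute.zpow_left (Commute.refl a) s).eq
  have hndvd : ¬ p ∣ C.relIndex M := by
    have h1 : C.relIndex M ∣ (P : Subgroup G).relIndex M := Subgroup.relIndex_dvd_of_le_left M hPC
    have h2 : (P : Subgroup G).relIndex M ∣ (P : Subgroup G).index :=
      Subgroup.relIndex_dvd_index_of_le Subgroup.le_normalizer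
    intro h
    exact P.not_dvd_index (dvd_trans h (dvd_trans h1 h2))
  have hcop : Nat.Coprime (p ^ (m - 1)) (C.relIndex M) :=
    Nat.Coprime.pow_left _ ((Nat.Prime.coprime_iff_not_dvd Fact.out).mpr hndvd)
  have hqC : n ^ (p ^ (m - 1)) ∈ C := hsuff _ hq
  have hb := Nat.gcd_eq_gcd_ab (p ^ (m - 1)) (C.relIndex M)
  rw [hcop.gcd_eq_one] at hb
  have hn_eq : n = (n ^ (p ^ (m - 1))) ^ (Nat.gcdA (p ^ (m - 1)) (C.relIndex M)) *
      (n ^ (C.relIndex M)) ^ (Nat.gcdB (p ^ (m - 1)) (C.relIndex M)) := by
    rw [← zpow_natCast, ← zpow_natCast, ← zpow_mul, ← zpow_mul, ← zpow_add, ← hb]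
    simp
  rw [hn_eq]
  exact C.mul_mem (C.zpow_mem hqC _) (C.zpow_mem hidxmem _)

/-- Let G be a finite group and p an odd prime such that G has p-rank at most 1 (no elementary abelian subgroup of order p²). If x ∈ G is an isolated element of order p, then x is central modulo the largest normal subgroup of G of order prime to p. -/
theorem result {G : Type*} [Group G] [Finite G] {p : ℕ} [Fact p.Prime] (hp : p ≠ 2) (hrk : Cfsg.PRankLE p 1 G) (x : G) (hx : orderOf x = p) (hiso : Cfsg.IsIsolated x) : Cfsg.InZStar p x := by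
  have hxp : IsPGroup p (Subgroup.zpowers x) := by
    apply IsPGroup.of_card (n := 1)
    rw [Nat.card_zpowers, hx, pow_one]
  obtain ⟨P, hP⟩ := hxp.exists_le_sylow
  have hxP : x ∈ (P : Subgroup G) := hP (Subgroup.mem_zpowers x)
  have hcyc := sylow_isCyclic hp hrk P
  have hPcomm : ∀ u ∈ (P : Subgroup G), ∀ v ∈ (P : Subgroup G), u * v = v * u := by
    intro u hu v hv
    have := (IsCyclic.isMulCommutative (α := ↥(P : Subgroup G))).is_comm.comm ⟨u, hu⟩ ⟨v, hv⟩
    exact congrArg Subtype.val this
  have hfix : ∀ n ∈ Subgroup.normalizer ((P : Subgroup G) : Set G), n * x * n⁻¹ = x := by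
    intro n hn
    apply hiso n
    exact hPcomm x hxP _ ((Subgroup.mem_normalizer_iff.mp hn x).mp hxP)
  have hNC := normalizer_le_centralizer P hcyc x hxP hx hfix
  have hcop := MonoidHom.not_dvd_card_ker_transferSylow P hNC
  have hKcop : (Nat.card (MonoidHom.transferSylow P hNC).ker).Coprime p := by
    rw [Nat.coprime_comm]
    exact (Nat.Prime.coprime_iff_not_dvd Fact.out).mpr hcop
  have hKle : (MonoidHom.transferSylow P hNC).ker ≤ Cfsg.pPrimeCore p G := by
    apply le_sSup
    exact ⟨inferInstance, hKcop⟩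
  intro g
  apply hKle
  rw [MonoidHom.mem_ker, map_mul, map_mul, map_mul, map_inv, map_inv]
  have hc : ∀ u v : ↥(P : Subgroup G), u * v = v * u := fun u v =>
    (IsCyclic.isMulCommutative (α := ↥(P : Subgroup G))).is_comm.comm u v
  rw [hc (MonoidHom.transferSylow P hNC g) (MonoidHom.transferSylow P hNC x)]
  group

end Cfsg.Agent.S2971
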