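import Cfsg.Statements.S0739
import Cfsg.Agent.Lib.Helper6_Zassenhaus
import Cfsg.Agent.Lib.Helper1_FPF
import Cfsg.Agent.S2971

set_option autoImplicit false
open Cfsg

namespace Cfsg.Agent.S0739

open MulAction

section Generic

variable {G : Type*} [Group G]

/-- An element of odd order whose square lies in a subgroup lies in that subgroup. -/
theorem mem_of_sq_mem (H : Subgroup G) (x : G) (hodd : Odd (orderOf x)) (hx : x * x ∈ H) :
    x ∈ H := by
  obtain ⟨k, hk⟩ := hodd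
  have h1 : x = (x * x) ^ (k + 1) := by
    rw [← pow_two, ← pow_mul]
    have : 2 * (k + 1) = orderOf x + 1 := by omega
    rw [this, pow_succ, pow_orderOf_eq_one, one_mul]
  rw [h1]
  exact H.pow_mem hx _

/-- (helper73, `S4403.commute_of_fix`, copied) an element normalizing a cyclic `p`-subgroup `P`,
fixing an element of order `p` of it, and having a power coprime to `p` that centralizes `P`,
centralizes `P`. -/
theorem commute_of_fix {K : Type*} [Group K] [Finite K] {p : ℕ} [Fact p.Prime] (P : Subgroup K)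
    (hP : IsPGroup p P) (hc : IsCyclic P) (z : K) (hzP : z ∈ P) (hz : orderOf z = p) (n : K)
    (hn : ∀ w ∈ P, n * w * n⁻¹ ∈ P) (hfix : n * z * n⁻¹ = z) (j : ℕ) (hj : j.Coprime p)
    (hnj : ∀ w ∈ P, n ^ j * w = w * n ^ j) : ∀ w ∈ P, n * w = w * n := by
  obtain ⟨a', ha'⟩ := IsCyclic.exists_generator (α := ↥P)
  set a : K := (a' : K) with ha
  have haP : a ∈ P := a'.2
  have hgen : ∀ w ∈ P, ∃ s : ℤ, a ^ s = w := by
    intro w hw
    obtain ⟨s, hs⟩ := Subgroup.mem_zpowers_iff.mp (ha' ⟨w, hw⟩)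
    refine ⟨s, ?_⟩
    have := congrArg Subtype.val hs
    simpa using this
  obtain ⟨m, hm⟩ := hP.exists_card_eq
  have horda : orderOf a = p ^ m := by
    rw [ha, Subgroup.orderOf_coe, orderOf_eq_card_of_forall_mem_zpowers ha', hm]
  have hm1 : 1 ≤ m := by
    by_contra h0
    have h0' : m = 0 := by omega
    rw [h0', pow_zero] at hm
    have hbot : P = ⊥ := Subgroup.card_eq_one.mp hm
    rw [hbot, Subgroup.mem_bot] at hzP
    rw [hzP, orderOf_one] at hz
    exact (Fact.out : p.Prime).one_lt.ne hz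
  have hsuff : ∀ n' : K, n' * a = a * n' → ∀ w ∈ P, n' * w = w * n' := by
    intro n' hn' w hw
    obtain ⟨s, rfl⟩ := hgen w hw
    exact ((Commute.zpow_left (show Commute a n' from hn'.symm) s).eq).symm
  obtain ⟨r, hr⟩ := hgen _ (hn a haP)
  obtain ⟨s, hs⟩ := hgen z hzP
  have hzr : z ^ r = z := by
    calc z ^ r = (a ^ s) ^ r := by rw [hs]
      _ = (a ^ r) ^ s := by rw [← zpow_mul, ← zpow_mul, mul_comm]
      _ = (n * a * n⁻¹) ^ s := by rw [hr]
      _ = n * a ^ s * n⁻¹ := by rw [conj_zpow]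
      _ = z := by rw [hs, hfix]
  have hpr : (p : ℤ) ∣ r - 1 := by
    have h1 : z ^ (r - 1) = 1 := by rw [zpow_sub_one, hzr, mul_inv_cancel]
    rw [← hz]
    exact orderOf_dvd_iff_zpow_eq_one.mpr h1
  have hpow : ∀ k : ℕ, n ^ k * a * (n ^ k)⁻¹ = a ^ (r ^ k) := by
    intro k
    induction k with
    | zero => simp
    | succ k ih =>
      calc n ^ (k + 1) * a * (n ^ (k + 1))⁻¹ = n * (n ^ k * a * (n ^ k)⁻¹) * n⁻¹ := by
            rw [pow_succ']; group
        _ = n * a ^ (r ^ k) * n⁻¹ := by rw [ih]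
        _ = (n * a * n⁻¹) ^ (r ^ k) := by rw [conj_zpow]
        _ = (a ^ r) ^ (r ^ k) := by rw [hr]
        _ = a ^ (r ^ (k + 1)) := by rw [← zpow_mul, pow_succ']
  have hq : n ^ (p ^ (m - 1)) * a = a * n ^ (p ^ (m - 1)) := by
    have h1 := hpow (p ^ (m - 1))
    have hdvd : ((p : ℤ) ^ (m - 1 + 1)) ∣ r ^ p ^ (m - 1) - 1 ^ p ^ (m - 1) :=
      dvd_sub_pow_of_dvd_sub hpr (m - 1)
    rw [one_pow, Nat.sub_add_cancel hm1] at hdvd
    have h2 : a ^ (r ^ p ^ (m - 1) - 1) = 1 := by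
      apply orderOf_dvd_iff_zpow_eq_one.mp
      rw [horda]; exact_mod_cast hdvd
    have h3 : a ^ (r ^ p ^ (m - 1)) = a := by
      have e : r ^ p ^ (m - 1) = (r ^ p ^ (m - 1) - 1) + 1 := by ring
      rw [e, zpow_add_one, h2, one_mul]
    rw [h3] at h1
    calc n ^ p ^ (m - 1) * a
        = (n ^ p ^ (m - 1) * a * (n ^ p ^ (m - 1))⁻¹) * n ^ p ^ (m - 1) := by group
      _ = a * n ^ p ^ (m - 1) := by rw [h1]
  have hcop : Nat.Coprime (p ^ (m - 1)) j := (Nat.Coprime.pow_left _ hj.symm)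
  have hb := Nat.gcd_eq_gcd_ab (p ^ (m - 1)) j
  rw [hcop.gcd_eq_one] at hb
  have hn_eq : n = (n ^ (p ^ (m - 1))) ^ (Nat.gcdA (p ^ (m - 1)) j) *
      (n ^ j) ^ (Nat.gcdB (p ^ (m - 1)) j) := by
    rw [← zpow_natCast, ← zpow_natCast, ← zpow_mul, ← zpow_mul, ← zpow_add, ← hb]
    simp
  have hca : n * a = a * n := by
    have c1 : Commute (n ^ (p ^ (m - 1))) a := hq
    have c2 : Commute (n ^ j) a := hnj a haP
    have : Commute ((n ^ (p ^ (m - 1))) ^ (Nat.gcdA (p ^ (m - 1)) j) *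
      (n ^ j) ^ (Nat.gcdB (p ^ (m - 1)) j)) a :=
      (c1.zpow_left _).mul_left (c2.zpow_left _)
    rw [← hn_eq] at this
    exact this.eq
  exact hsuff n hca

theorem conj_conj (t x : G) (htt : t * t = 1) : t * (t * x * t⁻¹) * t⁻¹ = x := by
  have : t * (t * x * t⁻¹) * t⁻¹ = (t * t) * x * (t * t)⁻¹ := by group
  rw [this, htt]; simp

/-- `y⁻¹ (t y t⁻¹)` is inverted by the involution `t`. -/
theorem conj_comm_inv (t y : G) (htt : t * t = 1) :
    t * (y⁻¹ * (t * y * t⁻¹)) * t⁻¹ = (y⁻¹ * (t * y * t⁻¹))⁻¹ := by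
  have h1 : t * (y⁻¹ * (t * y * t⁻¹)) * t⁻¹ = (t * y * t⁻¹)⁻¹ * (t * (t * y * t⁻¹) * t⁻¹) := by
    group
  rw [h1, conj_conj t y htt]; group

/-- An involution normalizing a finite subgroup `H` and centralizing no non-identity element of
it inverts `H`. -/
theorem inverts_of_fpf [Finite G] (H : Subgroup G) (t : G) (htt : t * t = 1)
    (hnorm : ∀ h ∈ H, t * h * t⁻¹ ∈ H) (hfpf : ∀ h ∈ H, t * h = h * t → h = 1) :
    ∀ h ∈ H, t * h * t⁻¹ = h⁻¹ := by
  let φ : H → H := fun h => ⟨(h : G)⁻¹ * (t * h * t⁻¹), H.mul_mem (H.inv_mem h.2) (hnorm h h.2)⟩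
  have hinj : Function.Injective φ := by
    intro h h' hh
    have e : (h : G)⁻¹ * (t * h * t⁻¹) = (h' : G)⁻¹ * (t * h' * t⁻¹) := congrArg Subtype.val hh
    have e2 : (h' : G) * (h : G)⁻¹ = (t * h' * t⁻¹) * (t * h * t⁻¹)⁻¹ := by
      rw [eq_mul_inv_iff_mul_eq, mul_assoc, e]; group
    have e3 : (t * (h' : G) * t⁻¹) * (t * (h : G) * t⁻¹)⁻¹ = t * ((h' : G) * (h : G)⁻¹) * t⁻¹ := by
      group
    have hcomm : t * ((h' : G) * (h : G)⁻¹) = ((h' : G) * (h : G)⁻¹) * t := by
      rw [← mul_inv_eq_iff_eq_mul, ← e3, ← e2]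
    have := hfpf _ (H.mul_mem h'.2 (H.inv_mem h.2)) hcomm
    have h2 : (h' : G) = h := mul_inv_eq_one.1 this
    exact Subtype.ext h2.symm
  have hsurj : Function.Surjective φ := Finite.surjective_of_injective hinj
  intro g hg
  obtain ⟨h, hh⟩ := hsurj ⟨g, hg⟩
  have e : g = (h : G)⁻¹ * (t * h * t⁻¹) := (congrArg Subtype.val hh).symm
  rw [e]
  exact conj_comm_inv t h htt

/-- Coprime lifting for an involution: if `c = y⁻¹ (t y t⁻¹)` has odd order, then some
`w = y e`, with `e` a power of `c`, is centralized by `t`. -/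
theorem exists_fixed_lift (t y : G) (htt : t * t = 1) (hodd : Odd (orderOf (y⁻¹ * (t * y * t⁻¹)))) :
    ∃ k : ℕ, t * (y * (y⁻¹ * (t * y * t⁻¹)) ^ k) = (y * (y⁻¹ * (t * y * t⁻¹)) ^ k) * t := by
  set c := y⁻¹ * (t * y * t⁻¹) with hc
  obtain ⟨k, hk⟩ := hodd
  refine ⟨k + 1, ?_⟩
  have hc2 : (c ^ (k + 1)) * (c ^ (k + 1)) = c := by
    rw [← pow_add]
    have : k + 1 + (k + 1) = orderOf c + 1 := by omega
    rw [this, pow_succ, pow_orderOf_eq_one, one_mul]
  have htc : t * c * t⁻¹ = c⁻¹ := conj_comm_inv t y htt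
  have hte : t * c ^ (k + 1) * t⁻¹ = (c ^ (k + 1))⁻¹ := by
    rw [← conj_pow, htc, inv_pow]
  have hty : t * y * t⁻¹ = y * c := by rw [hc]; group
  have : t * (y * c ^ (k + 1)) * t⁻¹ = y * c ^ (k + 1) := by
    calc t * (y * c ^ (k + 1)) * t⁻¹ = (t * y * t⁻¹) * (t * c ^ (k + 1) * t⁻¹) := by group
      _ = y * c * (c ^ (k + 1))⁻¹ := by rw [hty, hte]
      _ = y * (c ^ (k + 1) * c ^ (k + 1)) * (c ^ (k + 1))⁻¹ := by rw [hc2]
      _ = y * c ^ (k + 1) := by group
  calc t * (y * c ^ (k + 1)) = (t * (y * c ^ (k + 1)) * t⁻¹) * t := by group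
    _ = y * c ^ (k + 1) * t := by rw [this]

end Generic

section Burnside

variable {G : Type*} [Group G] [Finite G]

/-- Burnside's transfer theorem, contrapositive: without a normal `q`-complement, the normalizer
of a Sylow `q`-subgroup is not contained in its centralizer. -/
theorem exists_normalizer_not_comm {q : ℕ} [Fact q.Prime] (Q : Sylow q G)
    (hnil : ¬ ∃ N : Subgroup G, N.Normal ∧ N.index = q ^ (Nat.card G).factorization q) :
    ∃ g ∈ Subgroup.normalizer ((Q : Subgroup G) : Set G), ∃ x ∈ (Q : Subgroup G), g * x ≠ x * g := by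
  by_contra hcon
  push Not at hcon
  apply hnil
  have hP : Subgroup.normalizer ((Q : Subgroup G) : Set G) ≤ Subgroup.centralizer (Q : Set G) := by
    intro g hg
    rw [Subgroup.mem_centralizer_iff]
    intro x hx
    exact (hcon g hg x hx).symm
  have hc := MonoidHom.ker_transferSylow_isComplement' Q hP
  refine ⟨(MonoidHom.transferSylow Q hP).ker, inferInstance, ?_⟩
  rw [hc.symm.index_eq_card, Sylow.card_eq_multiplicity]

end Burnside

section FPF

variable {G : Type*} [Group G] [Finite G]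

/-- A `q`-group (`q` odd) acting fixed-point-freely by conjugation on a non-trivial subgroup is
cyclic. -/
theorem isCyclic_of_fpf_pgroup (Q V : Subgroup G) {q : ℕ} [Fact q.Prime] (hq2 : q ≠ 2)
    (hQ : IsPGroup q Q) (hV : V ≠ ⊥) (hQV : Q ≤ Subgroup.normalizer (V : Set G))
    (hfpf : ∀ a ∈ Q, a ≠ 1 → V ⊓ Subgroup.centralizer {a} = ⊥) : IsCyclic Q := by
  have hrk : Cfsg.PRankLE q 1 ↥Q := by
    intro A hAc hAe
    set A' : Subgroup G := A.map Q.subtype with hA'
    have hA'Q : A' ≤ Q := by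
      intro x hx
      obtain ⟨y, _, rfl⟩ := Subgroup.mem_map.1 hx
      exact y.2
    have hcomm : IsMulCommutative A' := by
      refine ⟨⟨?_⟩⟩
      rintro ⟨x, hx⟩ ⟨y, hy⟩
      obtain ⟨x', hx', rfl⟩ := Subgroup.mem_map.1 hx
      obtain ⟨y', hy', rfl⟩ := Subgroup.mem_map.1 hy
      apply Subtype.ext
      have := hAc.is_comm.comm ⟨x', hx'⟩ ⟨y', hy'⟩
      have h2 : x' * y' = y' * x' := congrArg Subtype.val this
      change Q.subtype x' * Q.subtype y' = Q.subtype y' * Q.subtype x'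
      rw [← map_mul, ← map_mul, h2]
    have hcyc : IsCyclic A' :=
      Cfsg.Agent.Lib.Helper1_FPF.isCyclic_of_fpf_of_comm A' V hV (hA'Q.trans hQV)
        (fun a ha ha1 => hfpf a (hA'Q ha) ha1)
    have hcard : Nat.card A' = Nat.card A :=
      Subgroup.card_map_of_injective Q.subtype_injective
    rw [pow_one, ← hcard, ← IsCyclic.exponent_eq_card]
    apply Nat.le_of_dvd (Fact.out : q.Prime).pos
    apply Monoid.exponent_dvd_of_forall_pow_eq_one
    rintro ⟨x, hx⟩
    obtain ⟨x', hx', rfl⟩ := Subgroup.mem_map.1 hx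
    apply Subtype.ext
    have := hAe x' hx'
    change (Q.subtype x') ^ q = 1
    rw [← map_pow, this, map_one]
  have hQ' : IsPGroup q (⊤ : Subgroup ↥Q) := by
    intro x
    obtain ⟨k, hk⟩ := hQ (x : ↥Q)
    exact ⟨k, Subtype.ext hk⟩
  have hidx : ¬ q ∣ (⊤ : Subgroup ↥Q).index := by
    rw [Subgroup.index_top]
    exact (Fact.out : q.Prime).not_dvd_one
  have hc := Cfsg.Agent.S2971.sylow_isCyclic hq2 hrk (hQ'.toSylow hidx)
  rw [IsPGroup.toSylow_coe] at hc
  exact isCyclic_of_surjective Subgroup.topEquiv (Subgroup.topEquiv.surjective)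

end FPF

section Zass

variable {G Ω : Type*} [Group G] [MulAction G Ω]
  (h3 : ∀ g : G, ∀ a b c : Ω, a ≠ b → b ≠ c → a ≠ c → g • a = a → g • b = b → g • c = c → g = 1)
  {a b : Ω} (hab : a ≠ b)
include h3 hab

theorem fix_cases {h : G} (h1 : h ≠ 1) (ha : h • a = a) (hb : h • b = b) {c : Ω}
    (hc : h • c = c) : c = a ∨ c = b := by
  by_contra hcon
  push Not at hcon
  exact h1 (h3 h a b c hab (Ne.symm hcon.2) (Ne.symm hcon.1) ha hb hc)

/-- An element conjugating a non-identity element of `G_{ab}` into `G_{ab}` fixes or swaps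
`a` and `b`. -/
theorem cases_of_conj {h g : G} (h1 : h ≠ 1) (ha : h • a = a) (hb : h • b = b)
    (ha' : (g * h * g⁻¹) • a = a) (hb' : (g * h * g⁻¹) • b = b) :
    (g • a = a ∧ g • b = b) ∨ (g • a = b ∧ g • b = a) := by
  have h1' : g * h * g⁻¹ ≠ 1 := by
    intro hh
    apply h1
    have : h = g⁻¹ * (g * h * g⁻¹) * g := by group
    rw [this, hh]; group
  have hga : (g * h * g⁻¹) • (g • a) = g • a := by
    rw [← mul_smul, inv_mul_cancel_right, mul_smul, ha]
  have hgb : (g * h * g⁻¹) • (g • b) = g • b := by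
    rw [← mul_smul, inv_mul_cancel_right, mul_smul, hb]
  have hne : g • a ≠ g • b := fun hh => hab (MulAction.injective g hh)
  rcases fix_cases h3 hab h1' ha' hb' hga with e1 | e1 <;>
    rcases fix_cases h3 hab h1' ha' hb' hgb with e2 | e2
  · exact absurd (e1.trans e2.symm) hne
  · exact Or.inl ⟨e1, e2⟩
  · exact Or.inr ⟨e1, e2⟩
  · exact absurd (e1.trans e2.symm) hne

omit h3 hab in
theorem sq_fix {g : G} (hg : (g • a = a ∧ g • b = b) ∨ (g • a = b ∧ g • b = a)) :
    (g * g) • a = a ∧ (g * g) • b = b := by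
  rcases hg with ⟨e1, e2⟩ | ⟨e1, e2⟩
  · exact ⟨by rw [mul_smul, e1, e1], by rw [mul_smul, e2, e2]⟩
  · exact ⟨by rw [mul_smul, e1, e2], by rw [mul_smul, e2, e1]⟩

omit h3 hab in
theorem fix_of_odd {g : G} (hodd : Odd (orderOf g))
    (hg : (g • a = a ∧ g • b = b) ∨ (g • a = b ∧ g • b = a)) : g • a = a ∧ g • b = b := by
  have hmem : g * g ∈ stabilizer G a ⊓ stabilizer G b := by
    rw [Subgroup.mem_inf, mem_stabilizer_iff, mem_stabilizer_iff]
    exact sq_fix hg
  have := mem_of_sq_mem _ g hodd hmem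
  rw [Subgroup.mem_inf, mem_stabilizer_iff, mem_stabilizer_iff] at this
  exact this

/-- an element commuting with a non-identity element of `G_{ab}` fixes or swaps `a`, `b` -/
theorem cases_of_comm {h g : G} (h1 : h ≠ 1) (ha : h • a = a) (hb : h • b = b)
    (hc : g * h = h * g) : (g • a = a ∧ g • b = b) ∨ (g • a = b ∧ g • b = a) := by
  have e : g * h * g⁻¹ = h := by rw [hc]; group
  exact cases_of_conj h3 hab h1 ha hb (by rw [e]; exact ha) (by rw [e]; exact hb)

/-- A `q`-subgroup (`q` odd) meeting `G_{ab}` non-trivially lies in `G_{ab}`. -/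
theorem pgroup_le [Finite G] (Q : Subgroup G) {q : ℕ} [Fact q.Prime] (hq2 : q ≠ 2)
    (hQ : IsPGroup q Q) {u : G} (huQ : u ∈ Q) (hu1 : u ≠ 1) (hua : u • a = a) (hub : u • b = b) :
    ∀ x ∈ Q, x • a = a ∧ x • b = b := by
  have hoddQ : ∀ x ∈ Q, Odd (orderOf x) := by
    intro x hx
    obtain ⟨k, hk⟩ := hQ ⟨x, hx⟩
    have hk' : x ^ q ^ k = 1 := congrArg Subtype.val hk
    have hdvd := orderOf_dvd_of_pow_eq_one hk'
    have hqodd : Odd q := (Fact.out : q.Prime).odd_of_ne_two hq2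
    exact Odd.of_dvd_nat (hqodd.pow) hdvd
  have hnt : Nontrivial ↥Q := ⟨⟨⟨u, huQ⟩, 1, fun h => hu1 (congrArg Subtype.val h)⟩⟩
  have hcnt := hQ.center_nontrivial
  obtain ⟨z, hz⟩ := exists_ne (1 : Subgroup.center ↥Q)
  have hzc : ∀ x ∈ Q, ((z : ↥Q) : G) * x = x * ((z : ↥Q) : G) := by
    intro x hx
    have := (Subgroup.mem_center_iff.1 z.2) ⟨x, hx⟩
    exact (congrArg Subtype.val this).symm
  have hz1 : ((z : ↥Q) : G) ≠ 1 := by
    intro h
    apply hz
    apply Subtype.ext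
    apply Subtype.ext
    simpa using h
  have hzfix := fix_of_odd (hoddQ _ (z : ↥Q).2)
    (cases_of_comm h3 hab hu1 hua hub (hzc u huQ))
  intro x hx
  exact fix_of_odd (hoddQ x hx) (cases_of_comm h3 hab hz1 hzfix.1 hzfix.2 (hzc x hx).symm)

end Zass

section Aux

variable {G : Type*} [Group G] [Finite G]

/-- In a cyclic subgroup, every element killed by `q` is a power of an element of order `q`. -/
theorem mem_zpowers_of_cyclic (Q : Subgroup G) (hQc : IsCyclic Q) {u v : G} (hu : u ∈ Q)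
    (hv : v ∈ Q) {q : ℕ} (hq : q.Prime) (huo : orderOf u = q) (hvq : v ^ q = 1) :
    v ∈ Subgroup.zpowers u := by
  classical
  have _ : Fintype Q := Fintype.ofFinite Q
  set u' : Q := ⟨u, hu⟩ with hu'
  set S : Finset Q := Finset.univ.filter (fun x : Q => x ^ q = 1) with hS
  set T : Finset Q := Finset.univ.filter (fun x : Q => x ∈ Subgroup.zpowers u') with hT
  have hScard : S.card ≤ q := IsCyclic.card_pow_eq_one_le hq.pos
  have hTcard : T.card = q := by
    have : T.card = Nat.card (Subgroup.zpowers u') := by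
      rw [Nat.card_eq_fintype_card, Fintype.card_subtype]
    rw [this, Nat.card_zpowers, hu', Subgroup.orderOf_mk, huo]
  have hTS : T ⊆ S := by
    intro x hx
    rw [hT, Finset.mem_filter] at hx
    rw [hS, Finset.mem_filter]
    refine ⟨Finset.mem_univ _, ?_⟩
    obtain ⟨k, rfl⟩ := Subgroup.mem_zpowers_iff.1 hx.2
    have hu'q : u' ^ q = 1 := by
      apply Subtype.ext
      change u ^ q = 1
      rw [← huo, pow_orderOf_eq_one]
    rw [← zpow_natCast, ← zpow_mul, mul_comm, zpow_mul, zpow_natCast, hu'q, one_zpow]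
  have hTS' : T = S := Finset.eq_of_subset_of_card_le hTS (by rw [hTcard]; exact hScard)
  have hvS : (⟨v, hv⟩ : Q) ∈ S := by
    rw [hS, Finset.mem_filter]
    exact ⟨Finset.mem_univ _, Subtype.ext hvq⟩
  rw [← hTS', hT, Finset.mem_filter] at hvS
  obtain ⟨k, hk⟩ := Subgroup.mem_zpowers_iff.1 hvS.2
  rw [Subgroup.mem_zpowers_iff]
  refine ⟨k, ?_⟩
  have := congrArg Subtype.val hk
  simpa [hu'] using this

/-- An element normalizing a Sylow `q`-subgroup has a power, with exponent prime to `q`, inside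
the Sylow subgroup. -/
theorem exists_coprime_pow_mem {q : ℕ} [Fact q.Prime] (Q : Sylow q G) {g : G}
    (hg : g ∈ Subgroup.normalizer ((Q : Subgroup G) : Set G)) :
    ∃ j : ℕ, j.Coprime q ∧ g ^ j ∈ (Q : Subgroup G) := by
  have hq : q.Prime := Fact.out
  have ho : orderOf g ≠ 0 := (orderOf_pos g).ne'
  refine ⟨ordCompl[q] (orderOf g), (Nat.coprime_ordCompl hq ho).symm, ?_⟩
  set j := ordCompl[q] (orderOf g) with hj
  have hpow : (g ^ j) ^ (ordProj[q] (orderOf g)) = 1 := by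
    rw [← pow_mul, hj, mul_comm, Nat.ordProj_mul_ordCompl_eq_self, pow_orderOf_eq_one]
  have hdvd := orderOf_dvd_of_pow_eq_one hpow
  obtain ⟨i, _, hi⟩ := (Nat.dvd_prime_pow hq).1 hdvd
  have hP : IsPGroup q (Subgroup.zpowers (g ^ j)) :=
    IsPGroup.of_card (n := i) (by rw [Nat.card_zpowers, hi])
  have h1 := hP.inf_normalizer_sylow Q
  have hmem : g ^ j ∈ Subgroup.zpowers (g ^ j) ⊓ Subgroup.normalizer ((Q : Subgroup G) : Set G) :=
    ⟨Subgroup.mem_zpowers _, Subgroup.pow_mem _ hg j⟩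
  have h2 : g ^ j ∈ Subgroup.zpowers (g ^ j) ⊓ (Q : Subgroup G) := by
    rw [← h1]; exact hmem
  exact h2.2

omit [Finite G] in
theorem conj_pow_formula {y u : G} {k : ℕ} (h : y * u * y⁻¹ = u ^ k) (j : ℕ) :
    y ^ j * u * (y ^ j)⁻¹ = u ^ (k ^ j) := by
  induction j with
  | zero => simp
  | succ j ih =>
    calc y ^ (j + 1) * u * (y ^ (j + 1))⁻¹ = y * (y ^ j * u * (y ^ j)⁻¹) * y⁻¹ := by
          rw [pow_succ']; group
      _ = y * u ^ (k ^ j) * y⁻¹ := by rw [ih]
      _ = (y * u * y⁻¹) ^ (k ^ j) := by rw [conj_pow]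
      _ = u ^ (k ^ (j + 1)) := by rw [h, ← pow_mul, pow_succ']

end Aux

section Descent

variable {G Ω : Type*} [Group G] [Finite G] [MulAction G Ω]
  (h3 : ∀ g : G, ∀ a b c : Ω, a ≠ b → b ≠ c → a ≠ c → g • a = a → g • b = b → g • c = c → g = 1)
  {a b : Ω} (hab : a ≠ b)
  (hodd : ∀ x : G, x • a = a → x • b = b → Odd (orderOf x))
  (hcyc : ∀ (q : ℕ) [Fact q.Prime], q ≠ 2 → ∀ Q : Subgroup G, IsPGroup q Q →
      (∀ x ∈ Q, x • a = a ∧ x • b = b) → IsCyclic Q)
  (hnil : ∀ q : ℕ, q.Prime → (∃ u : G, u • a = a ∧ u • b = b ∧ orderOf u = q) →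
      ¬ ∃ N : Subgroup G, N.Normal ∧ N.index = q ^ (Nat.card G).factorization q)

include h3 hab hodd hcyc hnil in
/-- Step A: an element of `G_{ab}` normalizing `⟨u⟩` and moving `u`. -/
theorem exists_mover {q : ℕ} (hq : q.Prime) {u t : G} (hua : u • a = a) (hub : u • b = b)
    (huo : orderOf u = q) (hta : t • a = b) (htb : t • b = a) (htu : t * u = u * t) :
    ∃ y : G, ∃ k : ℕ, y • a = a ∧ y • b = b ∧ y * u * y⁻¹ = u ^ k ∧ u ^ k ≠ u := by
  have : Fact q.Prime := ⟨hq⟩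
  have hu1 : u ≠ 1 := by
    intro h; rw [h, orderOf_one] at huo; exact hq.one_lt.ne huo
  have hq2 : q ≠ 2 := by
    intro h2
    have := hodd u hua hub
    rw [huo, h2] at this
    exact absurd this (by decide)
  have hU : IsPGroup q (Subgroup.zpowers u) :=
    IsPGroup.of_card (n := 1) (by rw [Nat.card_zpowers, huo, pow_one])
  obtain ⟨Q, hUQ⟩ := hU.exists_le_sylow
  have huQ : u ∈ (Q : Subgroup G) := hUQ (Subgroup.mem_zpowers u)
  have hQH := pgroup_le h3 hab (Q : Subgroup G) hq2 Q.isPGroup' huQ hu1 hua hub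
  have hQc : IsCyclic (Q : Subgroup G) := hcyc q hq2 Q Q.isPGroup' hQH
  obtain ⟨g, hgN, x, hxQ, hgx⟩ := exists_normalizer_not_comm Q (hnil q hq ⟨u, hua, hub, huo⟩)
  have hgconj : ∀ w ∈ (Q : Subgroup G), g * w * g⁻¹ ∈ (Q : Subgroup G) :=
    fun w hw => (Subgroup.mem_normalizer_iff.1 hgN w).1 hw
  have hgu : g * u * g⁻¹ ≠ u := by
    intro hfix
    obtain ⟨j, hjq, hjQ⟩ := exists_coprime_pow_mem Q hgN
    have hQcomm : ∀ w ∈ (Q : Subgroup G), g ^ j * w = w * g ^ j := by
      intro w hw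
      have hc := (IsCyclic.isMulCommutative (α := ↥(Q : Subgroup G))).is_comm.comm
        ⟨g ^ j, hjQ⟩ ⟨w, hw⟩
      exact congrArg Subtype.val hc
    exact hgx (commute_of_fix (Q : Subgroup G) Q.isPGroup' hQc u huQ huo g hgconj hfix j hjq
      hQcomm x hxQ)
  have hguQ : g * u * g⁻¹ ∈ (Q : Subgroup G) := hgconj u huQ
  have hgu_fix := hQH _ hguQ
  have hcases := cases_of_conj h3 hab hu1 hua hub hgu_fix.1 hgu_fix.2
  have hpowq : (g * u * g⁻¹) ^ q = 1 := by
    rw [conj_pow, ← huo, pow_orderOf_eq_one]; group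
  have hmemz := mem_zpowers_of_cyclic (Q : Subgroup G) hQc huQ hguQ hq huo hpowq
  obtain ⟨k, hk⟩ : ∃ k : ℕ, u ^ k = g * u * g⁻¹ := by
    have hfin : IsOfFinOrder u := isOfFinOrder_of_finite u
    rw [← hfin.mem_powers_iff_mem_zpowers] at hmemz
    exact (Submonoid.mem_powers_iff _ _).1 hmemz
  rcases hcases with hfix | hswap
  · exact ⟨g, k, hfix.1, hfix.2, hk.symm, by rw [hk]; exact hgu⟩
  · refine ⟨g * t, k, ?_, ?_, ?_, by rw [hk]; exact hgu⟩
    · rw [mul_smul, hta, hswap.2]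
    · rw [mul_smul, htb, hswap.1]
    · have h1 : t * u * t⁻¹ = u := by rw [htu]; group
      calc g * t * u * (g * t)⁻¹ = g * (t * u * t⁻¹) * g⁻¹ := by group
        _ = u ^ k := by rw [h1, hk]

omit [Finite G] in
include hodd in
/-- Step B: a mover centralized by `t`. -/
theorem exists_fixed_mover {u t y : G} {k : ℕ} (hta : t • a = b) (htb : t • b = a)
    (htt : t * t = 1) (htu : t * u = u * t) (hya : y • a = a) (hyb : y • b = b)
    (hyu : y * u * y⁻¹ = u ^ k) :
    ∃ w : G, w • a = a ∧ w • b = b ∧ t * w = w * t ∧ w * u * w⁻¹ = u ^ k := by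
  have htia : t⁻¹ • a = b := by rw [inv_smul_eq_iff, htb]
  have htib : t⁻¹ • b = a := by rw [inv_smul_eq_iff, hta]
  set c := y⁻¹ * (t * y * t⁻¹) with hc
  have hca : c • a = a := by
    rw [hc, mul_smul, mul_smul, mul_smul, htia, hyb, htb, inv_smul_eq_iff, hya]
  have hcb : c • b = b := by
    rw [hc, mul_smul, mul_smul, mul_smul, htib, hya, hta, inv_smul_eq_iff, hyb]
  have hcodd := hodd c hca hcb
  have htut : t⁻¹ * u * t = u := by rw [mul_assoc, ← htu]; group
  have htyu : (t * y * t⁻¹) * u * (t * y * t⁻¹)⁻¹ = u ^ k := by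
    calc (t * y * t⁻¹) * u * (t * y * t⁻¹)⁻¹ = t * (y * (t⁻¹ * u * t) * y⁻¹) * t⁻¹ := by group
      _ = t * u ^ k * t⁻¹ := by rw [htut, hyu]
      _ = (t * u * t⁻¹) ^ k := by rw [conj_pow]
      _ = u ^ k := by
        have : t * u * t⁻¹ = u := by rw [htu]; group
        rw [this]
  have hcu : c * u * c⁻¹ = u := by
    calc c * u * c⁻¹ = y⁻¹ * ((t * y * t⁻¹) * u * (t * y * t⁻¹)⁻¹) * y := by rw [hc]; group
      _ = y⁻¹ * (y * u * y⁻¹) * y := by rw [htyu, hyu]
      _ = u := by group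
  have hcomm : Commute c u := by
    have : c * u = u * c := by
      calc c * u = (c * u * c⁻¹) * c := by group
        _ = u * c := by rw [hcu]
    exact this
  obtain ⟨m, hm⟩ := exists_fixed_lift t y htt hcodd
  refine ⟨y * c ^ m, ?_, ?_, hm, ?_⟩
  · have : c ^ m ∈ stabilizer G a := Subgroup.pow_mem _ (mem_stabilizer_iff.2 hca) m
    rw [mul_smul, mem_stabilizer_iff.1 this, hya]
  · have : c ^ m ∈ stabilizer G b := Subgroup.pow_mem _ (mem_stabilizer_iff.2 hcb) m
    rw [mul_smul, mem_stabilizer_iff.1 this, hyb]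
  · have h1 : c ^ m * u * (c ^ m)⁻¹ = u := by
      have := (hcomm.pow_left m).eq
      rw [this]; group
    calc y * c ^ m * u * (y * c ^ m)⁻¹ = y * (c ^ m * u * (c ^ m)⁻¹) * y⁻¹ := by group
      _ = u ^ k := by rw [h1, hyu]

/-- Step C: a smaller prime. -/
theorem exists_smaller {q : ℕ} (hq : q.Prime) {u w t : G} {k : ℕ} (huo : orderOf u = q)
    (hwa : w • a = a) (hwb : w • b = b) (htw : t * w = w * t) (hwu : w * u * w⁻¹ = u ^ k)
    (hne : u ^ k ≠ u) :
    ∃ p : ℕ, p.Prime ∧ p < q ∧ ∃ v : G, v • a = a ∧ v • b = b ∧ orderOf v = p ∧ t * v = v * t := by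
  have hu1 : u ≠ 1 := by
    intro h; rw [h, orderOf_one] at huo; exact hq.one_lt.ne huo
  have hqk : ¬ q ∣ k := by
    intro hdvd
    rw [← huo, orderOf_dvd_iff_pow_eq_one] at hdvd
    rw [hdvd] at hwu
    apply hu1
    have : u = w⁻¹ * (w * u * w⁻¹) * w := by group
    rw [this, hwu]; group
  have hcop : ¬ (q - 1).Coprime (orderOf w) := by
    intro h
    obtain ⟨m, hm⟩ := exists_pow_eq_self_of_coprime h
    have hmod : k ^ (q - 1) ≡ 1 [MOD orderOf u] := by
      rw [huo, ← Nat.totient_prime hq]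
      exact Nat.ModEq.pow_totient ((Nat.Prime.coprime_iff_not_dvd hq).2 hqk).symm
    have h1 : w ^ (q - 1) * u * (w ^ (q - 1))⁻¹ = u := by
      rw [conj_pow_formula hwu, pow_eq_pow_iff_modEq.2 hmod, pow_one]
    have hc1 : Commute (w ^ (q - 1)) u := by
      have : w ^ (q - 1) * u = u * w ^ (q - 1) := by
        calc w ^ (q - 1) * u = (w ^ (q - 1) * u * (w ^ (q - 1))⁻¹) * w ^ (q - 1) := by group
          _ = u * w ^ (q - 1) := by rw [h1]
      exact this
    have hc2 : Commute w u := by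
      have := hc1.pow_left m
      rwa [hm] at this
    apply hne
    rw [← hwu, hc2.eq]; group
  obtain ⟨p, hp, hpq1, hpr⟩ := Nat.Prime.not_coprime_iff_dvd.1 hcop
  have hq1 : 0 < q - 1 := by have := hq.two_le; omega
  have hpq : p < q := by
    have := Nat.le_of_dvd hq1 hpq1
    omega
  refine ⟨p, hp, hpq, w ^ (orderOf w / p), ?_, ?_, ?_, ?_⟩
  · have : w ^ (orderOf w / p) ∈ stabilizer G a :=
      Subgroup.pow_mem _ (mem_stabilizer_iff.2 hwa) _
    exact mem_stabilizer_iff.1 this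
  · have : w ^ (orderOf w / p) ∈ stabilizer G b :=
      Subgroup.pow_mem _ (mem_stabilizer_iff.2 hwb) _
    exact mem_stabilizer_iff.1 this
  · exact orderOf_pow_orderOf_div (orderOf_pos w).ne' hpr
  · exact ((show Commute t w from htw).pow_right _).eq

/-- A prime `q` is bad if some element of order `q` of `G_{ab}` commutes with an involution
swapping `a` and `b`. -/
def Bad (G : Type*) {Ω : Type*} [Group G] [MulAction G Ω] (a b : Ω) (q : ℕ) : Prop :=
  q.Prime ∧ ∃ u t : G, u • a = a ∧ u • b = b ∧ orderOf u = q ∧ t • a = b ∧ t • b = a ∧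
    t * t = 1 ∧ t * u = u * t

include h3 hab hodd hcyc hnil in
theorem no_bad (q : ℕ) : ¬ Bad G a b q := by
  induction q using Nat.strong_induction_on with
  | _ q ih =>
    rintro ⟨hq, u, t, hua, hub, huo, hta, htb, htt, htu⟩
    obtain ⟨y, k, hya, hyb, hyu, hne⟩ :=
      exists_mover h3 hab hodd hcyc hnil hq hua hub huo hta htb htu
    obtain ⟨w, hwa, hwb, htw, hwu⟩ := exists_fixed_mover hodd hta htb htt htu hya hyb hyu
    obtain ⟨p, hp, hpq, v, hva, hvb, hvo, htv⟩ := exists_smaller hq huo hwa hwb htw hwu hne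
    exact ih p hpq ⟨hp, v, t, hva, hvb, hvo, hta, htb, htt, htv⟩

end Descent

section Final

open Cfsg.Agent.Lib.Helper6_Zassenhaus

variable {G Ω : Type*} [Group G] [MulAction G Ω]

/-- From an element swapping `a` and `b` (whose square has odd order) to an involution swapping
them. -/
theorem exists_involution_of_swap {a b : Ω} {s : G} (hsa : s • a = b) (hsb : s • b = a)
    (hodd : Odd (orderOf (s * s))) :
    ∃ m : ℕ, (s ^ m) • a = b ∧ (s ^ m) • b = a ∧ s ^ m * s ^ m = 1 := by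
  obtain ⟨r, hr⟩ := hodd
  refine ⟨2 * r + 1, ?_, ?_, ?_⟩
  · have h1 : (s * s) ^ r ∈ stabilizer G b :=
      Subgroup.pow_mem _ (mem_stabilizer_iff.2 (by rw [mul_smul, hsb, hsa])) r
    have e : s ^ (2 * r + 1) = (s * s) ^ r * s := by rw [pow_succ, pow_mul, pow_two]
    rw [e, mul_smul, hsa, mem_stabilizer_iff.1 h1]
  · have h1 : (s * s) ^ r ∈ stabilizer G a :=
      Subgroup.pow_mem _ (mem_stabilizer_iff.2 (by rw [mul_smul, hsa, hsb])) r
    have e : s ^ (2 * r + 1) = (s * s) ^ r * s := by rw [pow_succ, pow_mul, pow_two]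
    rw [e, mul_smul, hsb, mem_stabilizer_iff.1 h1]
  · rw [← pow_add]
    have e : 2 * r + 1 + (2 * r + 1) = 2 * (2 * r + 1) := by ring
    rw [e, pow_mul, pow_two, ← hr, pow_orderOf_eq_one]

/-- The Frobenius kernel `K` of `G_a` is normalized by `G_{ab}`, which acts on it without fixed
points. -/
theorem kernel_facts [Finite Ω] (zh : ZHyp G Ω) {a b : Ω} (hab : a ≠ b) :
    ∃ K : Subgroup G, K ≠ ⊥ ∧
      (stabilizer G a ⊓ stabilizer G b ≤ Subgroup.normalizer (K : Set G)) ∧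
      (∀ h ∈ stabilizer G a ⊓ stabilizer G b, h ≠ 1 → K ⊓ Subgroup.centralizer {h} = ⊥) := by
  obtain ⟨K, hK, hKtr⟩ := exists_K zh a
  have memK : ∀ x, x ∈ K ↔ x • a = a ∧ (x = 1 ∨ ∀ c, c ≠ a → x • c ≠ c) := by
    intro x
    rw [← SetLike.mem_coe, hK]; rfl
  have hba : b ≠ a := Ne.symm hab
  obtain ⟨c, hca, hcb⟩ := exists_third zh a b hab
  have hmove : ∀ k ∈ K, k ≠ 1 → k • b ≠ b := by
    intro k hk hk1
    rcases ((memK k).1 hk).2 with h | h
    · exact absurd h hk1
    · exact h b hba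
  have hconj : ∀ h : G, h • a = a → ∀ k ∈ K, h * k * h⁻¹ ∈ K := by
    intro h hha k hk
    have hhia : h⁻¹ • a = a := by rw [inv_smul_eq_iff, hha]
    obtain ⟨hka, hk2⟩ := (memK k).1 hk
    rw [memK]
    refine ⟨by rw [mul_smul, mul_smul, hhia, hka, hha], ?_⟩
    rcases hk2 with h1 | h2
    · left; rw [h1]; group
    · right
      intro c' hc' hfix
      have hne : h⁻¹ • c' ≠ a := by
        intro h'
        apply hc'
        rw [inv_smul_eq_iff, hha] at h'
        exact h'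
      apply h2 _ hne
      rw [mul_smul, mul_smul] at hfix
      rw [eq_inv_smul_iff]
      exact hfix
  refine ⟨K, ?_, ?_, ?_⟩
  · intro hbot
    obtain ⟨k, hk, hkb⟩ := hKtr b c hba hca
    rw [hbot, Subgroup.mem_bot] at hk
    rw [hk, one_smul] at hkb
    exact hcb hkb.symm
  · intro h hh
    rw [Subgroup.mem_inf, mem_stabilizer_iff, mem_stabilizer_iff] at hh
    rw [Subgroup.mem_normalizer_iff]
    intro k
    constructor
    · exact hconj h hh.1 k
    · intro hk
      have hhia : h⁻¹ • a = a := by rw [inv_smul_eq_iff, hh.1]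
      have := hconj h⁻¹ hhia _ hk
      have e : h⁻¹ * (h * k * h⁻¹) * h⁻¹⁻¹ = k := by group
      rwa [e] at this
  · intro h hh h1
    rw [Subgroup.mem_inf, mem_stabilizer_iff, mem_stabilizer_iff] at hh
    rw [eq_bot_iff]
    intro k hk
    rw [Subgroup.mem_bot]
    by_contra hk1
    obtain ⟨hkK, hkc⟩ := Subgroup.mem_inf.1 hk
    rw [Subgroup.mem_centralizer_singleton_iff] at hkc
    have hkb := hmove k hkK hk1
    have hka : k • b ≠ a := by
      intro h'
      have : k • b = k • a := by rw [h', ((memK k).1 hkK).1]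
      exact hba (MulAction.injective k this)
    have hfix : h • (k • b) = k • b := by
      rw [← mul_smul, ← hkc, mul_smul, hh.2]
    exact h1 (zh.three h a b (k • b) hab (Ne.symm hkb) (Ne.symm hka) hh.1 hh.2 hfix)

theorem main [Finite G] [Finite Ω] (zh : ZHyp G Ω) {a b : Ω} (hab : a ≠ b)
    (hoddH : Odd (Nat.card ↥(stabilizer G a ⊓ stabilizer G b)))
    (hnil : ∀ q : ℕ, q.Prime → q ∣ Nat.card ↥(stabilizer G a ⊓ stabilizer G b) →
      ¬ ∃ N : Subgroup G, N.Normal ∧ N.index = q ^ (Nat.card G).factorization q) :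
    IsCyclic ↥(stabilizer G a ⊓ stabilizer G b) ∧
      Subgroup.centralizer ((stabilizer G a ⊓ stabilizer G b : Subgroup G) : Set G)
        = stabilizer G a ⊓ stabilizer G b ∧
      ∀ s : G, s • a = b → s • b = a → ∀ h ∈ stabilizer G a ⊓ stabilizer G b,
        s * h * s⁻¹ = h⁻¹ := by
  set H : Subgroup G := stabilizer G a ⊓ stabilizer G b with hH
  have hmemH : ∀ x : G, x ∈ H ↔ x • a = a ∧ x • b = b := by
    intro x; rw [hH, Subgroup.mem_inf, mem_stabilizer_iff, mem_stabilizer_iff]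
  have h3 := zh.three
  obtain ⟨K, hKne, hHK, hfpfK⟩ := kernel_facts zh hab
  -- odd orders
  have hodd : ∀ x : G, x • a = a → x • b = b → Odd (orderOf x) := by
    intro x hxa hxb
    have hx : x ∈ H := (hmemH x).2 ⟨hxa, hxb⟩
    have : orderOf x ∣ Nat.card H := by
      have := orderOf_dvd_natCard (⟨x, hx⟩ : H)
      rwa [Subgroup.orderOf_mk] at this
    exact Odd.of_dvd_nat hoddH this
  have hcyc : ∀ (q : ℕ) [Fact q.Prime], q ≠ 2 → ∀ Q : Subgroup G, IsPGroup q Q →
      (∀ x ∈ Q, x • a = a ∧ x • b = b) → IsCyclic Q := by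
    intro q _ hq2 Q hQ hQH
    have hQle : Q ≤ H := fun x hx => (hmemH x).2 (hQH x hx)
    exact isCyclic_of_fpf_pgroup Q K hq2 hQ hKne (hQle.trans hHK)
      (fun x hx hx1 => hfpfK x (hQle hx) hx1)
  have hnil' : ∀ q : ℕ, q.Prime → (∃ u : G, u • a = a ∧ u • b = b ∧ orderOf u = q) →
      ¬ ∃ N : Subgroup G, N.Normal ∧ N.index = q ^ (Nat.card G).factorization q := by
    rintro q hq ⟨u, hua, hub, huo⟩
    apply hnil q hq
    have hu : u ∈ H := (hmemH u).2 ⟨hua, hub⟩
    have := orderOf_dvd_natCard (⟨u, hu⟩ : H)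
    rwa [Subgroup.orderOf_mk, huo] at this
  have hnobad := no_bad h3 hab hodd hcyc hnil'
  -- involutions swapping a and b centralize nothing in H
  have hfpf : ∀ t : G, t • a = b → t • b = a → t * t = 1 → ∀ h ∈ H, t * h = h * t → h = 1 := by
    intro t hta htb htt h hh hth
    by_contra h1
    have ho1 : orderOf h ≠ 1 := fun e => h1 (orderOf_eq_one_iff.1 e)
    set q := (orderOf h).minFac with hq
    have hqp : q.Prime := Nat.minFac_prime ho1
    have hqd : q ∣ orderOf h := Nat.minFac_dvd _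
    obtain ⟨hha, hhb⟩ := (hmemH h).1 hh
    apply hnobad q
    refine ⟨hqp, h ^ (orderOf h / q), t, ?_, ?_,
      orderOf_pow_orderOf_div (orderOf_pos h).ne' hqd, hta, htb, htt, ?_⟩
    · exact mem_stabilizer_iff.1 (Subgroup.pow_mem _ (mem_stabilizer_iff.2 hha) _)
    · exact mem_stabilizer_iff.1 (Subgroup.pow_mem _ (mem_stabilizer_iff.2 hhb) _)
    · exact ((show Commute t h from hth).pow_right _).eq
  have hnormt : ∀ t : G, t • a = b → t • b = a → ∀ h ∈ H, t * h * t⁻¹ ∈ H := by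
    intro t hta htb h hh
    obtain ⟨hha, hhb⟩ := (hmemH h).1 hh
    have htia : t⁻¹ • a = b := by rw [inv_smul_eq_iff, htb]
    have htib : t⁻¹ • b = a := by rw [inv_smul_eq_iff, hta]
    rw [hmemH]
    exact ⟨by rw [mul_smul, mul_smul, htia, hhb, htb], by rw [mul_smul, mul_smul, htib, hha, hta]⟩
  have hinv : ∀ t : G, t • a = b → t • b = a → t * t = 1 → ∀ h ∈ H, t * h * t⁻¹ = h⁻¹ :=
    fun t hta htb htt => inverts_of_fpf H t htt (hnormt t hta htb) (hfpf t hta htb htt)
  -- an involution swapping a and b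
  obtain ⟨s₀, hs₀a, hs₀b⟩ := zh.two hab (Ne.symm hab)
  obtain ⟨m₀, hta, htb, htt⟩ := exists_involution_of_swap hs₀a hs₀b
    (hodd (s₀ * s₀) (by rw [mul_smul, hs₀a, hs₀b]) (by rw [mul_smul, hs₀b, hs₀a]))
  set t := s₀ ^ m₀ with ht
  have hinvt := hinv t hta htb htt
  -- H is commutative
  have hcomm : ∀ x ∈ H, ∀ y ∈ H, x * y = y * x := by
    intro x hx y hy
    have e1 := hinvt (x * y) (H.mul_mem hx hy)
    have e2 : t * (x * y) * t⁻¹ = (t * x * t⁻¹) * (t * y * t⁻¹) := by group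
    rw [e2, hinvt x hx, hinvt y hy, mul_inv_rev] at e1
    have := congrArg Inv.inv e1
    have h2 : y * x = x * y := by simpa using this
    exact h2.symm
  have hHcomm : IsMulCommutative H := ⟨⟨fun x y => Subtype.ext (hcomm x x.2 y y.2)⟩⟩
  have hHcyc : IsCyclic H :=
    Cfsg.Agent.Lib.Helper1_FPF.isCyclic_of_fpf_of_comm H K hKne hHK hfpfK
  refine ⟨hHcyc, ?_, ?_⟩
  · apply le_antisymm
    · intro g hg
      rw [Subgroup.mem_centralizer_iff] at hg
      obtain ⟨h₀, h₀1, h₀a, h₀b⟩ := exists_fix zh a b hab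
      have h₀H : h₀ ∈ H := (hmemH h₀).2 ⟨h₀a, h₀b⟩
      rcases cases_of_comm h3 hab h₀1 h₀a h₀b (hg h₀ h₀H).symm with hfix | hswap
      · exact (hmemH g).2 hfix
      · exfalso
        obtain ⟨m, hma, hmb, hmm⟩ := exists_involution_of_swap hswap.1 hswap.2
          (hodd (g * g) (by rw [mul_smul, hswap.1, hswap.2]) (by rw [mul_smul, hswap.2, hswap.1]))
        have e1 := hinv (g ^ m) hma hmb hmm h₀ h₀H
        have hc : Commute (g ^ m) h₀ := (show Commute g h₀ from (hg h₀ h₀H).symm).pow_left m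
        have e2 : g ^ m * h₀ * (g ^ m)⁻¹ = h₀ := by rw [hc.eq]; group
        rw [e2] at e1
        have hsq : h₀ * h₀ = 1 := by
          nth_rewrite 1 [e1]
          group
        have hdvd : orderOf h₀ ∣ 2 := orderOf_dvd_of_pow_eq_one (by rw [pow_two, hsq])
        have ho := hodd h₀ h₀a h₀b
        have : orderOf h₀ = 1 := by
          rcases (Nat.dvd_prime Nat.prime_two).1 hdvd with h | h
          · exact h
          · rw [h] at ho; exact absurd ho (by decide)
        exact h₀1 (orderOf_eq_one_iff.1 this)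
    · intro g hg
      rw [Subgroup.mem_centralizer_iff]
      intro h hh
      exact hcomm h hh g hg
  · intro s hsa hsb h hh
    have htia : t⁻¹ • a = b := by rw [inv_smul_eq_iff, htb]
    have htib : t⁻¹ • b = a := by rw [inv_smul_eq_iff, hta]
    have hh₀ : t⁻¹ * s ∈ H := by
      rw [hmemH]
      exact ⟨by rw [mul_smul, hsa, htib], by rw [mul_smul, hsb, htia]⟩
    have e : s * h * s⁻¹ = t * ((t⁻¹ * s) * h * (t⁻¹ * s)⁻¹) * t⁻¹ := by group
    have e2 : (t⁻¹ * s) * h * (t⁻¹ * s)⁻¹ = h := by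
      rw [hcomm _ hh₀ h hh]; group
    rw [e, e2, hinvt h hh]

end Final

/-- In a finite Zassenhaus group whose two-point stabiliser `H = G_{a,b}` has odd order `d`, and which has no normal `q`-complement for any prime `q ∣ d`, `H` is cyclic, `C_G(H) = H`, and every element swapping `a` and `b` inverts each element of `H`. -/
theorem result {G Ω : Type*} [Group G] [Finite G] [MulAction G Ω] [Fintype Ω] (hZ : Cfsg.IsZassenhausGroup G Ω) {a b : Ω} (hab : a ≠ b) (hodd : Odd (Nat.card ↥(MulAction.stabilizer G a ⊓ MulAction.stabilizer G b))) (hnil : ∀ q : ℕ, q.Prime → q ∣ Nat.card ↥(MulAction.stabilizer G a ⊓ MulAction.stabilizer G b) → ¬ ∃ N : Subgroup G, N.Normal ∧ N.index = q ^ (Nat.card G).factorization q) : IsCyclic ↥(MulAction.stabilizer G a ⊓ MulAction.stabilizer G b) ∧ Subgroup.centralizer ((MulAction.stabilizer G a ⊓ MulAction.stabilizer G b : Subgroup G) : Set G) = MulAction.stabilizer G a ⊓ MulAction.stabilizer G b ∧ ∀ s : G, s • a =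 b → s • b = a → ∀ h ∈ MulAction.stabilizer G a ⊓ MulAction.stabilizer G b, s * h * s⁻¹ = h⁻¹ :=
  main (Cfsg.Agent.Lib.Helper6_Zassenhaus.zhyp_of_isZassenhausGroup hZ) hab hodd hnil

end Cfsg.Agent.S0739
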