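-- Statement S4566: a character lying over a faithful central character vanishes at g
-- whenever some commutator [x,g] is a nontrivial element of the central subgroup.
import Cfsg.Statements.S4566
import Mathlib.RepresentationTheory.Irreducible
import Mathlib.RepresentationTheory.Intertwining
import Mathlib.Analysis.Complex.Polynomial.Basic

set_option autoImplicit false
open Cfsg

namespace Cfsg.Agent.S4566

open scoped ComplexConjugate

/-- Schur: a central element acts by a scalar in an irreducible complex representation, hence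
multiplies the character by that scalar. -/
theorem char_mul_central {H : Type*} [Group H] {n : ℕ} (ρ : Representation ℂ H (Fin n → ℂ))
    (hρ : ρ.IsIrreducible) (z : H) (hz : z ∈ Submonoid.center H) :
    ∃ c : ℂ, ∀ a : H, ρ.character (a * z) = c * ρ.character a := by
  have := hρ
  obtain ⟨c, hc⟩ :=
    (Representation.IsIrreducible.algebraMap_intertwiningMap_bijective_of_isAlgClosed
      (ρ := ρ)).2 (Representation.IntertwiningMap.centralMul ρ z hz)
  refine ⟨c, fun a => ?_⟩
  have hz' : ρ z = c • (LinearMap.id : (Fin n → ℂ) →ₗ[ℂ] (Fin n → ℂ)) := by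
    have := congrArg Representation.IntertwiningMap.toLinearMap hc
    rw [Representation.IntertwiningMap.algebraMap_apply] at this
    exact this.symm
  unfold Representation.character
  rw [map_mul, hz', Module.End.mul_eq_comp, LinearMap.comp_smul, LinearMap.comp_id, map_smul,
    smul_eq_mul]

/-- Let N be a central subgroup of the finite group G, ψ a faithful irreducible (hence degree-one) character of N, and χ an irreducible character of G whose restriction to N contains ψ. If g ∈ G and some x ∈ G has commutator x⁻¹ g⁻¹ x g in N but different from 1, then χ g = 0. -/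
theorem result {G : Type*} [Group G] [Fintype G] (N : Subgroup G) [Fintype N] (hN : N ≤ Subgroup.center G) (ψ : Cfsg.IrrCharacter ↥N) (hfaith : ∀ n : ↥N, (ψ : ↥N → ℂ) n = (ψ : ↥N → ℂ) 1 → n = 1) (χ : Cfsg.IrrCharacter G) (hover : Cfsg.classInner (fun n : ↥N => (χ : G → ℂ) n) (ψ : ↥N → ℂ) ≠ 0) (g x : G) (hcomm : x⁻¹ * g⁻¹ * x * g ∈ N) (hne : x⁻¹ * g⁻¹ * x * g ≠ 1) : (χ : G → ℂ) g = 0 := by
  obtain ⟨χf, n, ρ, hρ, hχ⟩ := χ
  obtain ⟨ψf, m, σ, hσ, hψ⟩ := ψ
  subst hχ; subst hψ
  simp only at hfaith hover ⊢
  set z : G := x⁻¹ * g⁻¹ * x * g with hz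
  have hzc : z ∈ Subgroup.center G := hN hcomm
  have hzc' : z ∈ Submonoid.center G := by
    rw [Submonoid.mem_center_iff]; exact Subgroup.mem_center_iff.mp hzc
  have hzN : (⟨z, hcomm⟩ : N) ∈ Submonoid.center N := by
    rw [Submonoid.mem_center_iff]
    intro b
    apply Subtype.ext
    simpa using Subgroup.mem_center_iff.mp hzc (b : G)
  obtain ⟨c, hc⟩ := char_mul_central ρ hρ z hzc'
  obtain ⟨c', hc'⟩ := char_mul_central σ hσ ⟨z, hcomm⟩ hzN
  -- x g x⁻¹ = g z
  have hconj : x * g * x⁻¹ = g * z := by
    have h2 : x * z = z * x := Subgroup.mem_center_iff.mp hzc x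
    calc x * g * x⁻¹ = g * (x * z) * x⁻¹ := by rw [hz]; group
      _ = g * (z * x) * x⁻¹ := by rw [h2]
      _ = g * z := by group
  have h1 : ρ.character g = c * ρ.character g := by
    rw [← hc g, ← hconj, Representation.char_conj]
  by_contra hg0
  have hc1 : c = 1 := by
    have : (1 - c) * ρ.character g = 0 := by rw [sub_mul, one_mul, ← h1, sub_self]
    rcases mul_eq_zero.mp this with h | h
    · exact (sub_eq_zero.mp h).symm
    · exact absurd h hg0
  -- the inner product sum
  set S : ℂ := ∑ a : N, ρ.character (a : G) * conj (σ.character a) with hS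
  have hS0 : S ≠ 0 := by
    intro h
    apply hover
    unfold Cfsg.classInner
    rw [← hS, h, mul_zero]
  have hS' : S = conj c' * S := by
    have : S = ∑ a : N, ρ.character ((a * ⟨z, hcomm⟩ : N) : G) * conj (σ.character (a * ⟨z, hcomm⟩)) := by
      rw [hS]
      exact (Fintype.sum_equiv (Equiv.mulRight (⟨z, hcomm⟩ : N))
        (fun a : N => ρ.character ((a * ⟨z, hcomm⟩ : N) : G) * conj (σ.character (a * ⟨z, hcomm⟩)))
        (fun a : N => ρ.character (a : G) * conj (σ.character a)) (fun a => rfl)).symm
    refine this.trans ?_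
    rw [hS, Finset.mul_sum]
    apply Finset.sum_congr rfl
    intro a _
    rw [hc' a, Subgroup.coe_mul, hc (a : G), hc1, one_mul, map_mul]
    ring
  have hc'1 : c' = 1 := by
    have : (1 - conj c') * S = 0 := by rw [sub_mul, one_mul, ← hS', sub_self]
    rcases mul_eq_zero.mp this with h | h
    · have h2 : conj c' = 1 := (sub_eq_zero.mp h).symm
      have := congrArg conj h2
      simpa using this
    · exact absurd h hS0
  have hz1 : (⟨z, hcomm⟩ : N) = 1 := by
    apply hfaith
    have := hc' 1
    rw [one_mul, hc'1, one_mul] at this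
    exact this
  apply hne
  have := congrArg Subtype.val hz1
  simpa using this

end Cfsg.Agent.S4566
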