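import Cfsg.Statements.S4836
import Cfsg.Agent.Lib.Helper80_CharBasic

set_option autoImplicit false
open Cfsg

namespace Cfsg.Agent.S4836

open scoped ComplexConjugate
open Cfsg.Agent.Lib.Helper80_CharBasic

/-- From the two-class hypothesis: a non-identity element `g₀` where `φ` is nonzero, such that
every element where `φ` is nonzero is `1` or conjugate to `g₀`. -/
theorem two_class_data {G : Type*} [Group G] [Finite G] (φ : Cfsg.IrrCharacter G)
    (hφ : Nat.card {C : ConjClasses G // ∃ g ∈ C.carrier, (φ : G → ℂ) g ≠ 0} = 2) :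
    ∃ g₀ : G, g₀ ≠ 1 ∧ (φ : G → ℂ) g₀ ≠ 0 ∧
      ∀ x : G, (φ : G → ℂ) x ≠ 0 → x = 1 ∨ IsConj g₀ x := by
  obtain ⟨n, hn, h1⟩ := irr_apply_one φ
  have h1ne : (φ : G → ℂ) 1 ≠ 0 := by rw [h1]; exact_mod_cast hn.ne'
  let c1 : {C : ConjClasses G // ∃ g ∈ C.carrier, (φ : G → ℂ) g ≠ 0} :=
    ⟨ConjClasses.mk 1, 1, ConjClasses.mem_carrier_mk, h1ne⟩
  obtain ⟨y, hy, hyuniq⟩ := (Nat.card_eq_two_iff' c1).mp hφ
  obtain ⟨C, g₀, hg₀C, hg₀⟩ := y
  have hCeq : ConjClasses.mk g₀ = C := ConjClasses.mem_carrier_iff_mk_eq.mp hg₀C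
  refine ⟨g₀, ?_, hg₀, ?_⟩
  · rintro rfl
    apply hy
    apply Subtype.ext
    exact hCeq.symm
  · intro x hx
    by_cases hx1 : x = 1
    · left; exact hx1
    · right
      let cx : {C : ConjClasses G // ∃ g ∈ C.carrier, (φ : G → ℂ) g ≠ 0} :=
        ⟨ConjClasses.mk x, x, ConjClasses.mem_carrier_mk, hx⟩
      have hcx : cx ≠ c1 := by
        intro h
        have h2 : ConjClasses.mk x = ConjClasses.mk 1 := congrArg Subtype.val h
        exact hx1 (isConj_one_left.mp (ConjClasses.mk_eq_mk_iff_isConj.mp h2))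
      have h3 := hyuniq cx hcx
      have h4 : ConjClasses.mk x = C := congrArg Subtype.val h3
      rw [← hCeq] at h4
      exact (ConjClasses.mk_eq_mk_iff_isConj.mp h4).symm

theorem isConj_inv_inv {G : Type*} [Group G] {a b : G} (h : IsConj a b) : IsConj a⁻¹ b⁻¹ := by
  obtain ⟨c, hc⟩ := isConj_iff.mp h
  refine isConj_iff.mpr ⟨c, ?_⟩
  rw [← hc]
  group

/-- The inner-product sum against a character supported on `{1} ∪ cl(g₀)`. -/
theorem sum_two_class {G : Type*} [Group G] [Fintype G] [DecidableEq G]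
    [DecidablePred (fun x : G => IsConj (1 : G) x)]
    (φ ψ : Cfsg.IrrCharacter G) (g₀ : G) [DecidablePred (fun x : G => IsConj g₀ x)]
    (hg₀ : g₀ ≠ 1)
    (hsupp : ∀ x : G, (φ : G → ℂ) x ≠ 0 → x = 1 ∨ IsConj g₀ x) :
    ∑ g : G, (φ : G → ℂ) g * (ψ : G → ℂ) g⁻¹ =
      (φ : G → ℂ) 1 * (ψ : G → ℂ) 1 +
        ((Finset.univ.filter (fun x : G => IsConj g₀ x)).card : ℂ) *
          ((φ : G → ℂ) g₀ * (ψ : G → ℂ) g₀⁻¹) := by
  have key : ∀ g : G, (φ : G → ℂ) g * (ψ : G → ℂ) g⁻¹ =
      (if g = 1 then (φ : G → ℂ) 1 * (ψ : G → ℂ) 1 else 0) +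
        (if IsConj g₀ g then (φ : G → ℂ) g₀ * (ψ : G → ℂ) g₀⁻¹ else 0) := by
    intro g
    by_cases h1 : g = 1
    · subst h1
      have hnc : ¬ IsConj g₀ 1 := fun h => hg₀ (isConj_one_left.mp h)
      rw [if_pos rfl, if_neg hnc, add_zero, inv_one]
    · by_cases hc : IsConj g₀ g
      · rw [if_neg h1, if_pos hc, zero_add, irr_isConj φ hc, irr_isConj ψ (isConj_inv_inv hc)]
      · have h0 : (φ : G → ℂ) g = 0 := by
          by_contra h
          rcases hsupp g h with h | h
          · exact h1 h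
          · exact hc h
        rw [if_neg h1, if_neg hc, h0, zero_mul, add_zero]
  rw [Finset.sum_congr rfl (fun g _ => key g)]
  rw [Finset.sum_add_distrib, Finset.sum_ite_eq' Finset.univ (1 : G), if_pos (Finset.mem_univ _),
    ← Finset.sum_filter, Finset.sum_const, nsmul_eq_mul]


theorem card_class_dvd {G : Type*} [Group G] [Fintype G] [DecidableEq G] (g₀ : G)
    [DecidablePred (fun x : G => IsConj g₀ x)] :
    (Finset.univ.filter (fun x : G => IsConj g₀ x)).card ∣ Fintype.card G := by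
  classical
  have h := MulAction.card_orbit_mul_card_stabilizer_eq_card_group (ConjAct G) g₀
  have h2 : Fintype.card (MulAction.orbit (ConjAct G) g₀) =
      (Finset.univ.filter (fun x : G => IsConj g₀ x)).card := by
    rw [← Fintype.card_subtype]
    apply Fintype.card_congr
    refine Equiv.subtypeEquivRight ?_
    intro x
    rw [ConjAct.mem_orbit_conjAct]
    exact ⟨IsConj.symm, IsConj.symm⟩
  rw [h2] at h
  have h3 : Fintype.card (ConjAct G) = Fintype.card G := rfl
  rw [h3] at h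
  exact Dvd.intro _ h

/-- With more than two elements, a two-class irreducible character is not principal. -/
theorem ne_one_of_two_class {G : Type*} [Group G] [Fintype G] (hG : 2 < Nat.card G)
    (φ : Cfsg.IrrCharacter G) (g₀ : G) (hg₀ : g₀ ≠ 1)
    (hsupp : ∀ x : G, (φ : G → ℂ) x ≠ 0 → x = 1 ∨ IsConj g₀ x) :
    φ ≠ oneIrr G := by
  classical
  intro h
  have hall : ∀ x : G, x = 1 ∨ IsConj g₀ x := by
    intro x
    apply hsupp
    rw [h]
    simp [oneIrr]
  have hcard : Fintype.card G = 1 + (Finset.univ.filter (fun x : G => IsConj g₀ x)).card := by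
    have hunion : (Finset.univ : Finset G) =
        insert 1 (Finset.univ.filter (fun x : G => IsConj g₀ x)) := by
      ext x
      simp only [Finset.mem_univ, Finset.mem_insert, Finset.mem_filter, true_and, true_iff]
      exact hall x
    have hnot : (1 : G) ∉ Finset.univ.filter (fun x : G => IsConj g₀ x) := by
      simp only [Finset.mem_filter, Finset.mem_univ, true_and]
      exact fun h => hg₀ (isConj_one_left.mp h)
    calc Fintype.card G = (Finset.univ : Finset G).card := Finset.card_univ.symm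
      _ = (insert 1 (Finset.univ.filter (fun x : G => IsConj g₀ x))).card := congrArg _ hunion
      _ = 1 + (Finset.univ.filter (fun x : G => IsConj g₀ x)).card := by
          rw [Finset.card_insert_of_notMem hnot, add_comm]
  have hdvd := card_class_dvd g₀
  rw [Nat.card_eq_fintype_card] at hG
  set k := (Finset.univ.filter (fun x : G => IsConj g₀ x)).card with hk
  rw [hcard] at hdvd hG
  have : k ∣ 1 := (Nat.dvd_add_left (dvd_refl k)).mp hdvd
  have : k = 1 := Nat.dvd_one.mp this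
  omega

theorem result {G : Type*} [Group G] [Finite G] (hG : 2 < Nat.card G) (χ : Cfsg.IrrCharacter G) (hχ : Nat.card {C : ConjClasses G // ∃ g ∈ C.carrier, (χ : G → ℂ) g ≠ 0} = 2) :
    (∀ g : G, (χ : G → ℂ) g = (χ : G → ℂ) 1 → g = 1) ∧
      (∀ ψ : Cfsg.IrrCharacter G, (∀ g : G, (ψ : G → ℂ) g = (ψ : G → ℂ) 1 → g = 1) → ψ = χ) ∧
      (∀ ψ : Cfsg.IrrCharacter G, Nat.card {C : ConjClasses G // ∃ g ∈ C.carrier, (ψ : G → ℂ) g ≠ 0} = 2 → ψ = χ) := by
  classical
  have := Fintype.ofFinite G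
  -- general facts for a two-class character φ
  have main : ∀ φ : Cfsg.IrrCharacter G,
      Nat.card {C : ConjClasses G // ∃ g ∈ C.carrier, (φ : G → ℂ) g ≠ 0} = 2 →
      (∀ g : G, (φ : G → ℂ) g = (φ : G → ℂ) 1 → g = 1) ∧
      (∀ ψ : Cfsg.IrrCharacter G, (∀ g : G, (ψ : G → ℂ) g = (ψ : G → ℂ) 1 → g = 1) → ψ = φ) := by
    intro φ hφ
    obtain ⟨g₀, hg₀, hφg₀, hsupp⟩ := two_class_data φ hφ
    obtain ⟨n, hn, h1⟩ := irr_apply_one φ
    have hnC : (n : ℂ) ≠ 0 := by exact_mod_cast hn.ne'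
    have hne1 := ne_one_of_two_class hG φ g₀ hg₀ hsupp
    set k : ℕ := (Finset.univ.filter (fun x : G => IsConj g₀ x)).card with hk
    -- orthogonality to the principal character
    have horth1 : (n : ℂ) + (k : ℂ) * (φ : G → ℂ) g₀ = 0 := by
      have h := irr_orthogonal φ (oneIrr G) hne1
      rw [sum_two_class φ (oneIrr G) g₀ hg₀ hsupp, h1] at h
      have e1 : ∀ x : G, ((oneIrr G : Cfsg.IrrCharacter G) : G → ℂ) x = 1 := fun _ => rfl
      rw [e1, e1, mul_one, mul_one] at h
      exact h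
    constructor
    · intro x hx
      by_contra hx1
      have hxne : (φ : G → ℂ) x ≠ 0 := by rw [hx, h1]; exact hnC
      rcases hsupp x hxne with h | h
      · exact hx1 h
      · have hval : (φ : G → ℂ) g₀ = n := by rw [irr_isConj φ h, hx, h1]
        rw [hval] at horth1
        have : ((n + k * n : ℕ) : ℂ) = 0 := by push_cast; exact horth1
        have hnat : n + k * n = 0 := by exact_mod_cast this
        omega
    · intro ψ hψ
      by_contra hne
      have hne' : φ ≠ ψ := fun h => hne h.symm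
      obtain ⟨m, hm, hψ1⟩ := irr_apply_one ψ
      have h := irr_orthogonal φ ψ hne'
      rw [sum_two_class φ ψ g₀ hg₀ hsupp, h1, hψ1] at h
      -- n * m + k * (φ g₀ * ψ g₀⁻¹) = 0 and n + k * φ g₀ = 0
      have hkφ : (k : ℂ) * (φ : G → ℂ) g₀ = -n := by linear_combination horth1
      have h2 : (n : ℂ) * ((m : ℂ) - (ψ : G → ℂ) g₀⁻¹) = 0 := by
        linear_combination h - (ψ : G → ℂ) g₀⁻¹ * hkφ
      have h3 : (ψ : G → ℂ) g₀⁻¹ = m := by
        rcases mul_eq_zero.mp h2 with h4 | h4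
        · exact absurd h4 hnC
        · exact (sub_eq_zero.mp h4).symm
      have h4 : g₀⁻¹ = 1 := hψ g₀⁻¹ (by rw [h3, hψ1])
      exact hg₀ (inv_eq_one.mp h4)
  obtain ⟨hfaith, huniq⟩ := main χ hχ
  refine ⟨hfaith, huniq, ?_⟩
  intro ψ hψ
  exact huniq ψ (main ψ hψ).1

end Cfsg.Agent.S4836
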