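import Cfsg.Statements.S4835
import Cfsg.Agent.Lib.Helper80_CharComplete
import Cfsg.Agent.Lib.Helper3_CharEigen
import Cfsg.Agent.Lib.Helper16_Quot
import Cfsg.Agent.S4836

set_option autoImplicit false
set_option linter.style.haveILetI false
open Cfsg

namespace Cfsg.Agent.S4835

open scoped ComplexConjugate
open Cfsg.Agent.Lib.Helper80_CharBasic Cfsg.Agent.Lib.Helper80_CharComplete

/-- The kernel of an irreducible character, as a subgroup. -/
def irrKer {G : Type*} [Group G] [Finite G] (ψ : Cfsg.IrrCharacter G) : Subgroup G where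
  carrier := {x | (ψ : G → ℂ) x = (ψ : G → ℂ) 1}
  one_mem' := rfl
  mul_mem' := by
    intro a b ha hb
    obtain ⟨m, σ, hσ, hσψ⟩ := ψ.2
    simp only [Set.mem_ofPred_eq] at ha hb ⊢
    rw [← hσψ, Representation.char_one] at ha hb ⊢
    have ha' := (Cfsg.Agent.Lib.Helper3_CharEigen.char_eq_finrank_iff σ a).mp ha
    have hb' := (Cfsg.Agent.Lib.Helper3_CharEigen.char_eq_finrank_iff σ b).mp hb
    apply (Cfsg.Agent.Lib.Helper3_CharEigen.char_eq_finrank_iff σ (a * b)).mpr
    rw [map_mul, ha', hb']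
    rfl
  inv_mem' := by
    intro a ha
    obtain ⟨m, σ, hσ, hσψ⟩ := ψ.2
    simp only [Set.mem_ofPred_eq] at ha ⊢
    rw [← hσψ, Representation.char_one] at ha ⊢
    have ha' := (Cfsg.Agent.Lib.Helper3_CharEigen.char_eq_finrank_iff σ a).mp ha
    apply (Cfsg.Agent.Lib.Helper3_CharEigen.char_eq_finrank_iff σ a⁻¹).mpr
    have h1 : σ a⁻¹ * σ a = 1 := by rw [← map_mul, inv_mul_cancel, map_one]
    rw [ha'] at h1
    have : σ a⁻¹ * LinearMap.id = σ a⁻¹ := mul_one _
    rw [this] at h1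
    exact h1

theorem mem_irrKer {G : Type*} [Group G] [Finite G] (ψ : Cfsg.IrrCharacter G) (x : G) :
    x ∈ irrKer ψ ↔ (ψ : G → ℂ) x = (ψ : G → ℂ) 1 := Iff.rfl

instance irrKer_normal {G : Type*} [Group G] [Finite G] (ψ : Cfsg.IrrCharacter G) :
    (irrKer ψ).Normal where
  conj_mem := by
    intro x hx g
    rw [mem_irrKer] at hx ⊢
    rw [irr_conj, hx]


/-- For a two-class character `φ` (support `{1} ∪ cl(g₀)`), every other irreducible character has
`g₀` in its kernel. -/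
theorem two_class_ker {G : Type*} [Group G] [Fintype G] (hG : 2 < Nat.card G)
    (φ : Cfsg.IrrCharacter G) (g₀ : G) (hg₀ : g₀ ≠ 1)
    (hsupp : ∀ x : G, (φ : G → ℂ) x ≠ 0 → x = 1 ∨ IsConj g₀ x)
    (ψ : Cfsg.IrrCharacter G) (hne : ψ ≠ φ) : (ψ : G → ℂ) g₀ = (ψ : G → ℂ) 1 := by
  classical
  obtain ⟨n, hn, h1⟩ := irr_apply_one φ
  have hnC : (n : ℂ) ≠ 0 := by exact_mod_cast hn.ne'
  have hne1 := Cfsg.Agent.S4836.ne_one_of_two_class hG φ g₀ hg₀ hsupp
  set k : ℕ := (Finset.univ.filter (fun x : G => IsConj g₀ x)).card with hk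
  have horth1 : (n : ℂ) + (k : ℂ) * (φ : G → ℂ) g₀ = 0 := by
    have h := irr_orthogonal φ (oneIrr G) hne1
    rw [Cfsg.Agent.S4836.sum_two_class φ (oneIrr G) g₀ hg₀ hsupp, h1] at h
    have e1 : ∀ x : G, ((oneIrr G : Cfsg.IrrCharacter G) : G → ℂ) x = 1 := fun _ => rfl
    rw [e1, e1, mul_one, mul_one] at h
    exact h
  have hne' : φ ≠ ψ := fun h => hne h.symm
  obtain ⟨m, hm, hψ1⟩ := irr_apply_one ψ
  have h := irr_orthogonal φ ψ hne'
  rw [Cfsg.Agent.S4836.sum_two_class φ ψ g₀ hg₀ hsupp, h1, hψ1] at h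
  have hkφ : (k : ℂ) * (φ : G → ℂ) g₀ = -n := by linear_combination horth1
  have h2 : (n : ℂ) * ((m : ℂ) - (ψ : G → ℂ) g₀⁻¹) = 0 := by
    linear_combination h - (ψ : G → ℂ) g₀⁻¹ * hkφ
  have h3 : (ψ : G → ℂ) g₀⁻¹ = m := by
    rcases mul_eq_zero.mp h2 with h4 | h4
    · exact absurd h4 hnC
    · exact (sub_eq_zero.mp h4).symm
  rw [irr_inv] at h3
  have h5 := congrArg (starRingEnd ℂ) h3
  rw [Complex.conj_conj, Complex.conj_natCast] at h5
  rw [h5, hψ1]

/-- If all irreducible characters other than `χ` have `x ≠ 1` in their kernel, then `χ x ≠ 0`. -/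
theorem ne_zero_of_mem_kers {G : Type*} [Group G] [Fintype G] (χ : Cfsg.IrrCharacter G)
    (hχ1 : χ ≠ oneIrr G) (x : G) (hx : x ≠ 1)
    (hall : ∀ ψ : Cfsg.IrrCharacter G, ψ ≠ χ → (ψ : G → ℂ) x = (ψ : G → ℂ) 1) :
    (χ : G → ℂ) x ≠ 0 := by
  classical
  haveI := Fintype.ofFinite (Cfsg.IrrCharacter G)
  intro h0
  have hnc : ¬ IsConj x 1 := fun h => hx (isConj_one_left.mp h)
  have h2 := second_orthogonality_sum (G := G) x 1
  rw [if_neg hnc] at h2
  choose d hdpos hd using fun ψ : Cfsg.IrrCharacter G => irr_apply_one ψ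
  have hterm : ∀ ψ : Cfsg.IrrCharacter G,
      (ψ : G → ℂ) x * conj ((ψ : G → ℂ) 1) = if ψ = χ then 0 else ((d ψ ^ 2 : ℕ) : ℂ) := by
    intro ψ
    split_ifs with hψ
    · rw [hψ, h0, zero_mul]
    · rw [hall ψ hψ, hd ψ, Complex.conj_natCast]
      push_cast
      ring
  rw [Finset.sum_congr rfl (fun ψ _ => hterm ψ)] at h2
  rw [Finset.sum_ite, Finset.sum_const_zero, zero_add, ← Nat.cast_sum] at h2
  have h3 : ∑ ψ ∈ Finset.univ.filter (fun ψ : Cfsg.IrrCharacter G => ¬ ψ = χ), d ψ ^ 2 = 0 := by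
    exact_mod_cast h2
  have hmem : oneIrr G ∈ Finset.univ.filter (fun ψ : Cfsg.IrrCharacter G => ¬ ψ = χ) := by
    simp only [Finset.mem_filter, Finset.mem_univ, true_and]
    exact fun h => hχ1 h.symm
  have h4 := (Finset.sum_eq_zero_iff.mp h3) (oneIrr G) hmem
  have h5 : d (oneIrr G) = 0 := by
    exact pow_eq_zero_iff (n := 2) (by norm_num) |>.mp h4
  have := hdpos (oneIrr G)
  omega

theorem result {G : Type*} [Group G] [Finite G] (hG : 2 < Nat.card G) (χ : Cfsg.IrrCharacter G) (hχ : Nat.card {C : ConjClasses G // ∃ g ∈ C.carrier, (χ : G → ℂ) g ≠ 0} = 2) :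
    ∃ N : Subgroup G, N.Normal ∧ N ≠ ⊥ ∧ (∀ K : Subgroup G, K.Normal → K ≠ ⊥ → N ≤ K) ∧
      (∃ p : ℕ, p.Prime ∧ Cfsg.IsElementaryAbelian p N) ∧
      (∀ g : G, (χ : G → ℂ) g ≠ 0 ↔ g ∈ N) ∧
      (∀ x ∈ N, ∀ y ∈ N, x ≠ 1 → y ≠ 1 → ∃ g : G, g * x * g⁻¹ = y) := by
  classical
  haveI := Fintype.ofFinite G
  obtain ⟨g₀, hg₀, hχg₀, hsupp⟩ := Cfsg.Agent.S4836.two_class_data χ hχ
  obtain ⟨n, hn, h1⟩ := irr_apply_one χ
  have hnC : (n : ℂ) ≠ 0 := by exact_mod_cast hn.ne'
  have hne1 := Cfsg.Agent.S4836.ne_one_of_two_class hG χ g₀ hg₀ hsupp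
  have hker := two_class_ker hG χ g₀ hg₀ hsupp
  -- the subgroup
  let N : Subgroup G := ⨅ ψ : {ψ : Cfsg.IrrCharacter G // ψ ≠ χ}, irrKer ψ.1
  have hNmem : ∀ x : G, x ∈ N ↔ ∀ ψ : Cfsg.IrrCharacter G, ψ ≠ χ →
      (ψ : G → ℂ) x = (ψ : G → ℂ) 1 := by
    intro x
    simp only [N, Subgroup.mem_iInf, Subtype.forall, mem_irrKer]
  have hNnormal : N.Normal := by
    constructor
    intro x hx g
    rw [hNmem] at hx ⊢
    intro ψ hψ
    rw [irr_conj, hx ψ hψ]
  have hNχ : ∀ x : G, (χ : G → ℂ) x ≠ 0 ↔ x ∈ N := by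
    intro x
    constructor
    · intro hx
      rw [hNmem]
      intro ψ hψ
      rcases hsupp x hx with h | h
      · rw [h]
      · rw [← irr_isConj ψ h, hker ψ hψ]
    · intro hx
      by_cases hx1 : x = 1
      · rw [hx1, h1]; exact hnC
      · exact ne_zero_of_mem_kers χ hne1 x hx1 ((hNmem x).mp hx)
  have hg₀N : g₀ ∈ N := (hNχ g₀).mp hχg₀
  have hconj : ∀ x ∈ N, x ≠ 1 → IsConj g₀ x := by
    intro x hx hx1
    rcases hsupp x ((hNχ x).mpr hx) with h | h
    · exact absurd h hx1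
    · exact h
  have hNbot : N ≠ ⊥ := by
    intro h
    rw [h, Subgroup.mem_bot] at hg₀N
    exact hg₀ hg₀N
  refine ⟨N, hNnormal, hNbot, ?_, ?_, hNχ, ?_⟩
  · -- unique minimal normal subgroup
    intro K hKn hK
    by_contra hNK
    -- K contains no non-identity element of N
    have hdisj : ∀ x ∈ K, x ≠ 1 → x ∉ N := by
      intro x hxK hx1 hxN
      apply hNK
      intro y hyN
      by_cases hy1 : y = 1
      · rw [hy1]; exact K.one_mem
      · have hc1 := hconj x hxN hx1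
        have hc2 := hconj y hyN hy1
        obtain ⟨c, hc⟩ := isConj_iff.mp (hc1.symm.trans hc2)
        rw [← hc]
        exact hKn.conj_mem x hxK c
    obtain ⟨m, σ, hσ, hσχ⟩ := χ.2
    haveI := hσ
    haveI : K.Normal := hKn
    haveI : Fintype K := Fintype.ofFinite K
    rcases Cfsg.Agent.Lib.Helper16_Quot.invSubrep_eq_bot_or_top σ K with hb | ht
    · have hsum := Cfsg.Agent.Lib.Helper16_Quot.sum_char_subgroup_of_bot σ K hb
      rw [hσχ] at hsum
      have hsum2 : ∑ x : K, (χ : G → ℂ) (x : G) = (χ : G → ℂ) 1 := by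
        rw [Finset.sum_eq_single (1 : K)]
        · rfl
        · intro b _ hb1
          by_contra hne
          have hbN := (hNχ (b : G)).mp hne
          have hb1' : (b : G) ≠ 1 := fun h => hb1 (Subtype.ext h)
          exact hdisj (b : G) b.2 hb1' hbN
        · intro h; exact absurd (Finset.mem_univ _) h
      rw [hsum2, h1] at hsum
      exact hnC hsum
    · have htriv := Cfsg.Agent.Lib.Helper16_Quot.isTrivial_of_invSubrep_eq_top σ K ht
      apply hK
      rw [Subgroup.eq_bot_iff_forall]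
      intro x hxK
      by_contra hx1
      have hσx : σ x = LinearMap.id := by
        have := htriv.out ⟨x, hxK⟩
        exact this
      have hχx : (χ : G → ℂ) x = (χ : G → ℂ) 1 := by
        rw [← hσχ, Representation.char_one]
        exact (Cfsg.Agent.Lib.Helper3_CharEigen.char_eq_finrank_iff σ x).mpr hσx
      have hxN : x ∈ N := (hNχ x).mp (by rw [hχx, h1]; exact hnC)
      exact hdisj x hxK hx1 hxN
  · -- elementary abelian
    haveI : Nontrivial N := by
      refine ⟨⟨⟨g₀, hg₀N⟩, 1, ?_⟩⟩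
      intro h
      exact hg₀ (congrArg Subtype.val h)
    have hcardN : 1 < Nat.card N := Finite.one_lt_card
    obtain ⟨p, hp, hpd⟩ := Nat.exists_prime_and_dvd (Nat.ne_of_gt hcardN)
    haveI : Fact p.Prime := ⟨hp⟩
    obtain ⟨⟨x, hxN⟩, hxord⟩ := exists_prime_orderOf_dvd_card' (G := N) p hpd
    have hxord' : orderOf x = p := by
      rw [← hxord]
      exact (Subgroup.orderOf_mk x hxN).symm
    have hx1 : x ≠ 1 := by
      intro h
      rw [h, orderOf_one] at hxord'
      exact hp.one_lt.ne hxord'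
    have hpow : ∀ a ∈ N, a ^ p = 1 := by
      intro a ha
      by_cases ha1 : a = 1
      · rw [ha1, one_pow]
      · have hc := (hconj x hxN hx1).symm.trans (hconj a ha ha1)
        obtain ⟨c, hc⟩ := isConj_iff.mp hc
        rw [← hc, conj_pow, ← hxord', pow_orderOf_eq_one]
        group
    have hNp : IsPGroup p N := by
      intro a
      refine ⟨1, ?_⟩
      rw [pow_one]
      apply Subtype.ext
      rw [Subgroup.coe_pow]
      exact hpow a a.2
    have hcenter : Nontrivial (Subgroup.center N) := hNp.center_nontrivial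
    obtain ⟨⟨z, hz⟩, hz1⟩ := exists_ne (1 : Subgroup.center N)
    have hz1' : (z : G) ≠ 1 := by
      intro h
      apply hz1
      apply Subtype.ext
      apply Subtype.ext
      exact h
    refine ⟨p, hp, ⟨⟨?_⟩⟩, hpow⟩
    -- commutativity
    intro a b
    by_cases ha1 : (a : G) = 1
    · have : a = 1 := Subtype.ext ha1
      rw [this, one_mul, mul_one]
    · obtain ⟨c, hc⟩ := isConj_iff.mp ((hconj (z : G) z.2 hz1').symm.trans (hconj (a : G) a.2 ha1))
      -- a = c z c⁻¹, and c⁻¹ b c ∈ N commutes with z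
      have hb' : c⁻¹ * (b : G) * c ∈ N := by
        have := hNnormal.conj_mem (b : G) b.2 c⁻¹
        simpa using this
      have hcomm := Subgroup.mem_center_iff.mp hz ⟨c⁻¹ * (b : G) * c, hb'⟩
      have hcomm' : (c⁻¹ * (b : G) * c) * (z : G) = (z : G) * (c⁻¹ * (b : G) * c) :=
        congrArg Subtype.val hcomm
      apply Subtype.ext
      rw [Subgroup.coe_mul, Subgroup.coe_mul, ← hc]
      have : c * (z : G) * c⁻¹ * (b : G) = c * ((z : G) * (c⁻¹ * (b : G) * c)) * c⁻¹ := by group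
      rw [this, ← hcomm']
      group
  · -- any two non-identity elements of N are conjugate
    intro x hx y hy hx1 hy1
    exact isConj_iff.mp ((hconj x hx hx1).symm.trans (hconj y hy hy1))

end Cfsg.Agent.S4835
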