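import Cfsg.Statements.S4808
import Cfsg.Agent.Lib.Helper80_Codegree

set_option autoImplicit false
set_option linter.style.haveILetI false
open Cfsg

namespace Cfsg.Agent.S4808

open scoped ComplexConjugate
open Cfsg.Agent.Lib.Helper80_CharBasic Cfsg.Agent.Lib.Helper80_CharComplete
open Cfsg.Agent.Lib.Helper80_Codegree
open Cfsg.Agent.S4835 (irrKer mem_irrKer)

/-- Sum of an irreducible character over a normal subgroup. -/
theorem sum_over_normal {G : Type*} [Group G] [Finite G] (χ : Cfsg.IrrCharacter G)
    (N : Subgroup G) [N.Normal] [Fintype N] [Decidable (N ≤ irrKer χ)] :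
    ∑ n : N, (χ : G → ℂ) (n : G) =
      if N ≤ irrKer χ then (Nat.card N : ℂ) * (χ : G → ℂ) 1 else 0 := by
  split_ifs with h
  · have h1 : ∀ n : N, (χ : G → ℂ) (n : G) = (χ : G → ℂ) 1 :=
      fun n => (mem_irrKer χ _).mp (h n.2)
    simp only [h1, Finset.sum_const, Finset.card_univ, nsmul_eq_mul, Nat.card_eq_fintype_card]
  · obtain ⟨m, σ, hσ, hσχ⟩ := χ.2
    haveI := hσ
    rcases Cfsg.Agent.Lib.Helper16_Quot.invSubrep_eq_bot_or_top σ N with hb | ht
    · have := Cfsg.Agent.Lib.Helper16_Quot.sum_char_subgroup_of_bot σ N hb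
      rw [← hσχ]
      exact this
    · exfalso
      apply h
      have htriv := Cfsg.Agent.Lib.Helper16_Quot.isTrivial_of_invSubrep_eq_top σ N ht
      intro n hn
      rw [mem_irrKer, ← hσχ, Representation.char_one]
      apply (Cfsg.Agent.Lib.Helper3_CharEigen.char_eq_finrank_iff σ n).mpr
      have := htriv.out ⟨n, hn⟩
      exact this

/-- The sum of the squares of the degrees of the irreducible characters whose kernel contains
the normal subgroup `N` is the index of `N`. -/
theorem sum_sq_over_normal {G : Type*} [Group G] [Finite G] (N : Subgroup G) [N.Normal]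
    [Fintype (Cfsg.IrrCharacter G)] [DecidablePred (fun χ : Cfsg.IrrCharacter G => N ≤ irrKer χ)] :
    ∑ χ ∈ Finset.univ.filter (fun χ : Cfsg.IrrCharacter G => N ≤ irrKer χ),
      (Cfsg.charDegree (χ : G → ℂ)) ^ 2 = N.index := by
  classical
  haveI : Fintype G := Fintype.ofFinite G
  have hNpos : 0 < Nat.card N := Nat.card_pos
  have key : ∑ n : N, ∑ χ : Cfsg.IrrCharacter G,
      (χ : G → ℂ) (n : G) * conj ((χ : G → ℂ) 1) = (Nat.card G : ℂ) := by
    have h1 : ∀ n : N, ∑ χ : Cfsg.IrrCharacter G,
        (χ : G → ℂ) (n : G) * conj ((χ : G → ℂ) 1) =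
          if n = 1 then (Nat.card G : ℂ) else 0 := by
      intro n
      rw [second_orthogonality_sum (n : G) 1]
      by_cases hn : n = 1
      · subst hn
        have hc : IsConj ((1 : N) : G) 1 := by
          rw [Subgroup.coe_one]
        rw [if_pos hc, if_pos rfl]
        have : Subgroup.centralizer ({((1 : N) : G)} : Set G) = ⊤ := by
          ext x
          simp [Subgroup.mem_centralizer_iff]
        rw [this, Subgroup.card_top]
      · rw [if_neg hn, if_neg]
        intro hc
        apply hn
        have := isConj_one_left.mp hc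
        exact Subtype.ext this
    rw [Finset.sum_congr rfl (fun n _ => h1 n)]
    simp
  rw [Finset.sum_comm] at key
  have h2 : ∀ χ : Cfsg.IrrCharacter G, ∑ n : N, (χ : G → ℂ) (n : G) * conj ((χ : G → ℂ) 1) =
      if N ≤ irrKer χ then (Nat.card N : ℂ) * ((Cfsg.charDegree (χ : G → ℂ) : ℕ) : ℂ) ^ 2
        else 0 := by
    intro χ
    rw [← Finset.sum_mul, sum_over_normal χ N, apply_one_eq_charDegree]
    split_ifs
    · rw [Complex.conj_natCast]; ring
    · rw [zero_mul]
  rw [Finset.sum_congr rfl (fun χ _ => h2 χ), ← Finset.sum_filter, ← Finset.mul_sum] at key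
  have key' : Nat.card N * ∑ χ ∈ Finset.univ.filter (fun χ : Cfsg.IrrCharacter G => N ≤ irrKer χ),
      (Cfsg.charDegree (χ : G → ℂ)) ^ 2 = Nat.card N * N.index := by
    rw [N.card_mul_index]
    exact_mod_cast key
  exact Nat.eq_of_mul_eq_mul_left hNpos key'

/-- The codegree of an irreducible complex character χ of a finite group G is [G : ker χ] / χ(1), where ker χ is the set of elements at which χ takes the value χ(1). A prime divides the order of G if and only if it divides the codegree of some irreducible complex character of G. -/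
theorem result {G : Type*} [Group G] [Finite G] (p : ℕ) (hp : p.Prime) : p ∣ Nat.card G ↔ ∃ χ : Cfsg.IrrCharacter G, p ∣ (Nat.card G / (Nat.card {g : G // (χ : G → ℂ) g = (χ : G → ℂ) 1} * Cfsg.charDegree (χ : G → ℂ))) := by
  constructor
  · intro hpG
    by_contra hcon
    rw [not_exists] at hcon
    have hcod : ∀ χ : Cfsg.IrrCharacter G, ¬ p ∣ cod χ := hcon
    classical
    haveI : Fintype (Cfsg.IrrCharacter G) := Fintype.ofFinite _
    obtain ⟨N, ⟨hNn, hNp⟩, hNmax⟩ := Set.exists_max_image
      {N : Subgroup G | N.Normal ∧ p ∣ N.index} (fun N => Nat.card N) (Set.toFinite _)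
      ⟨⊥, Subgroup.normal_bot, by simpa using hpG⟩
    haveI := hNn
    have hNtop : N ≠ ⊤ := by
      rintro rfl
      rw [Subgroup.index_top] at hNp
      exact hp.one_lt.ne' (Nat.dvd_one.mp hNp)
    obtain ⟨N₀, ⟨hN₀n, hN₀lt⟩, hN₀min⟩ := Set.exists_min_image
      {M : Subgroup G | M.Normal ∧ N < M} (fun M => Nat.card M) (Set.toFinite _)
      ⟨⊤, inferInstance, lt_top_iff_ne_top.mpr hNtop⟩
    haveI := hN₀n
    have hN₀p : ¬ p ∣ N₀.index := by
      intro h
      have := hNmax N₀ ⟨hN₀n, h⟩
      exact hN₀lt.ne (Subgroup.eq_of_le_of_card_ge hN₀lt.le this)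
    have hdeg : ∀ χ : Cfsg.IrrCharacter G, N ≤ irrKer χ → ¬ N₀ ≤ irrKer χ →
        p ∣ Cfsg.charDegree (χ : G → ℂ) := by
      intro χ h1 h2
      have hK : irrKer χ = N := by
        by_contra hne
        have hKp : ¬ p ∣ (irrKer χ).index := by
          intro h
          have := hNmax (irrKer χ) ⟨inferInstance, h⟩
          exact hne (Subgroup.eq_of_le_of_card_ge h1 this).symm
        have hinf : irrKer χ ⊓ N₀ = N := by
          by_contra hne2
          have hlt2 : N < irrKer χ ⊓ N₀ := lt_of_le_of_ne (le_inf h1 hN₀lt.le) (Ne.symm hne2)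
          have := hN₀min (irrKer χ ⊓ N₀) ⟨inferInstance, hlt2⟩
          have heq : irrKer χ ⊓ N₀ = N₀ := Subgroup.eq_of_le_of_card_ge inf_le_right this
          exact h2 (heq ▸ inf_le_left)
        have e1 : N.relIndex (irrKer χ) * (irrKer χ).index = N.index :=
          Subgroup.relIndex_mul_index h1
        have e2 : N.relIndex (irrKer χ) = N₀.relIndex (irrKer χ) := by
          rw [← hinf, inf_comm]; exact Subgroup.inf_relIndex_right _ _
        have e3 : N₀.relIndex (irrKer χ) ∣ N₀.index :=
          Subgroup.relIndex_dvd_index_of_normal N₀ (irrKer χ)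
        rw [← e1, e2] at hNp
        rcases (Nat.Prime.dvd_mul hp).mp hNp with h | h
        · exact hN₀p (h.trans e3)
        · exact hKp h
      have h3 := cod_mul_charDegree χ
      rw [hK] at h3
      rw [← h3] at hNp
      rcases (Nat.Prime.dvd_mul hp).mp hNp with h | h
      · exact absurd h (hcod χ)
      · exact h
    have hsumN := sum_sq_over_normal N
    have hsumN₀ := sum_sq_over_normal N₀
    have hsub : Finset.univ.filter (fun χ : Cfsg.IrrCharacter G => N₀ ≤ irrKer χ) ⊆
        Finset.univ.filter (fun χ : Cfsg.IrrCharacter G => N ≤ irrKer χ) := by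
      intro χ hχ
      simp only [Finset.mem_filter, Finset.mem_univ, true_and] at hχ ⊢
      exact hN₀lt.le.trans hχ
    rw [← Finset.sum_sdiff hsub, hsumN₀] at hsumN
    have hdvd : p ∣ ∑ χ ∈ Finset.univ.filter (fun χ : Cfsg.IrrCharacter G => N ≤ irrKer χ) \
        Finset.univ.filter (fun χ : Cfsg.IrrCharacter G => N₀ ≤ irrKer χ),
        (Cfsg.charDegree (χ : G → ℂ)) ^ 2 := by
      apply Finset.dvd_sum
      intro χ hχ
      simp only [Finset.mem_sdiff, Finset.mem_filter, Finset.mem_univ, true_and] at hχ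
      exact dvd_pow (hdeg χ hχ.1 hχ.2) two_ne_zero
    apply hN₀p
    rw [← hsumN] at hNp
    exact (Nat.dvd_add_right hdvd).mp hNp
  · rintro ⟨χ, h⟩
    exact h.trans (cod_dvd_card χ)

end Cfsg.Agent.S4808
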