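import Cfsg.Statements.S4567
import Cfsg.Agent.Lib.Helper3_CharColumn
import Cfsg.Agent.Lib.Helper3_CharCenter
import Cfsg.Agent.Lib.Helper75_LinChar

set_option autoImplicit false
open Cfsg
open scoped ComplexConjugate

namespace Cfsg.Agent.S4567

open Cfsg.Agent.Lib

section chars
variable {G : Type*} [Group G] [Fintype G]

theorem irr_mul_central {χ : G → ℂ} (hχ : IsIrrCharacter G χ) {z : G}
    (hz : z ∈ Subgroup.center G) (g : G) : χ (g * z) * χ 1 = χ z * χ g := by
  obtain ⟨n, ρ, hρ, rfl⟩ := hχ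
  have := hρ
  obtain ⟨c, hc⟩ := Helper3_CharCenter.exists_scalar_of_mem_center ρ hz
  have key : ∀ g, ρ.character (g * z) = c * ρ.character g := by
    intro g
    simp only [Representation.character, map_mul, hc]
    rw [show (LinearMap.id : (Fin n → ℂ) →ₗ[ℂ] (Fin n → ℂ)) = 1 from rfl, mul_smul_comm, mul_one,
      map_smul, smul_eq_mul]
  have h1 := key 1
  rw [one_mul] at h1
  rw [key g, h1]; ring

theorem irr_one_eq_one_of_comm (hA : ∀ a b : G, a * b = b * a) {ψ : G → ℂ}
    (hψ : IsIrrCharacter G ψ) : ψ 1 = 1 := by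
  obtain ⟨n, ρ, hρ, rfl⟩ := hψ
  have := hρ
  have h1 := Helper3_CharCenter.finrank_dvd_index_center ρ
  have h2 : Subgroup.center G = ⊤ := by
    ext x
    simp only [Subgroup.mem_center_iff, Subgroup.mem_top, iff_true]
    intro g
    exact hA g x
  rw [h2, Subgroup.index_top, Nat.dvd_one] at h1
  rw [Representation.char_one, h1]; simp

end chars

/-- `g` is special for `N`. -/
def Special {G : Type*} [Group G] (N : Subgroup G) (g : G) : Prop :=
  ∀ x : G, x⁻¹ * g⁻¹ * x * g ∈ N → x * g = g * x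

section counting
variable {G : Type*} [Group G] {N : Subgroup G}

theorem special_conj [N.Normal] {g : G} (hg : Special N g) (y : G) : Special N (y * g * y⁻¹) := by
  intro x hx
  have h1 : (y⁻¹ * x * y)⁻¹ * g⁻¹ * (y⁻¹ * x * y) * g ∈ N := by
    have := (inferInstance : N.Normal).conj_mem _ hx y⁻¹
    convert this using 1
    group
  have h2 := hg _ h1
  have h3 : x * (y * g * y⁻¹) = y * (y⁻¹ * x * y * g) * y⁻¹ := by group
  rw [h3, h2]
  group

theorem special_mul (hN : N ≤ Subgroup.center G) {g : G} (hg : Special N g) {n : G} (hn : n ∈ N) :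
    Special N (g * n) := by
  have hc : ∀ y : G, y * n = n * y := Subgroup.mem_center_iff.mp (hN hn)
  intro x hx
  have h1 : n⁻¹ * x * n = x := by rw [mul_assoc, hc x, inv_mul_cancel_left]
  have h2 : x⁻¹ * (g * n)⁻¹ * x * (g * n) = x⁻¹ * g⁻¹ * (n⁻¹ * x * n) * g := by
    rw [hc g]
    group
  rw [h2, h1] at hx
  have h3 := hg x hx
  rw [← mul_assoc, h3, mul_assoc g x n, hc x, mul_assoc]

theorem special_iff [N.Normal] (hN : N ≤ Subgroup.center G) (g : G) :
    (∃ g' : G, ConjClasses.mk (g' : G ⧸ N) = ConjClasses.mk (g : G ⧸ N) ∧ Special N g') ↔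
      Special N g := by
  constructor
  · rintro ⟨g', h, hg'⟩
    rw [ConjClasses.mk_eq_mk_iff_isConj, isConj_iff] at h
    obtain ⟨c, hc⟩ := h
    obtain ⟨y, rfl⟩ := QuotientGroup.mk_surjective c
    rw [← QuotientGroup.mk_inv, ← QuotientGroup.mk_mul, ← QuotientGroup.mk_mul,
      QuotientGroup.eq] at hc
    have := special_mul hN (special_conj hg' y) hc
    rwa [mul_inv_cancel_left] at this
  · intro hg
    exact ⟨g, rfl, hg⟩

theorem card_centralizer_special [N.Normal] {g : G} (hg : Special N g) :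
    Nat.card (Subgroup.centralizer ({g} : Set G)) =
      Nat.card N * Nat.card (Subgroup.centralizer ({(g : G ⧸ N)} : Set (G ⧸ N))) := by
  refine Eq.trans ?_ (QuotientGroup.card_preimage_mk N
    ((Subgroup.centralizer ({(g : G ⧸ N)} : Set (G ⧸ N)) : Subgroup (G ⧸ N)) : Set (G ⧸ N)))
  apply Nat.card_congr
  apply Equiv.setCongr
  ext x
  simp only [SetLike.mem_coe, Set.mem_preimage, Subgroup.mem_centralizer_singleton_iff]
  constructor
  · intro h
    rw [← QuotientGroup.mk_mul, ← QuotientGroup.mk_mul, h]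
  · intro h
    rw [← QuotientGroup.mk_mul, ← QuotientGroup.mk_mul, eq_comm, QuotientGroup.eq] at h
    apply hg x
    convert h using 1
    group

open scoped Classical in
theorem sum_quot [Fintype G] [Fintype (G ⧸ N)] (F : G ⧸ N → ℕ) :
    ∑ g : G, F (g : G ⧸ N) = Nat.card N * ∑ q : G ⧸ N, F q := by
  rw [← Finset.sum_fiberwise' Finset.univ (fun g : G => (g : G ⧸ N)) F, Finset.mul_sum]
  refine Finset.sum_congr rfl (fun q _ => ?_)
  rw [Finset.sum_const, smul_eq_mul]
  congr 1
  have h1 := QuotientGroup.card_preimage_mk N ({q} : Set (G ⧸ N))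
  have h0 : Nat.card ({q} : Set (G ⧸ N)) = 1 := by
    simp
  rw [h0, mul_one] at h1
  have h2 : Nat.card {i : G // (i : G ⧸ N) = q} =
      Nat.card (QuotientGroup.mk ⁻¹' ({q} : Set (G ⧸ N))) := rfl
  rw [← h1, ← h2, Nat.card_eq_fintype_card, Fintype.card_subtype]

open scoped Classical in
theorem sum_classes {Q : Type*} [Group Q] [Fintype Q] (P : ConjClasses Q → Prop) :
    ∑ q : Q, (if P (ConjClasses.mk q) then Nat.card (Subgroup.centralizer ({q} : Set Q)) else 0) =
      Nat.card Q * Nat.card {C : ConjClasses Q // P C} := by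
  rw [← Finset.sum_fiberwise Finset.univ (fun q : Q => ConjClasses.mk q)]
  have h1 : ∀ C : ConjClasses Q, (∑ q ∈ Finset.univ with ConjClasses.mk q = C,
      (if P (ConjClasses.mk q) then Nat.card (Subgroup.centralizer ({q} : Set Q)) else 0)) =
      Nat.card Q * (if P C then 1 else 0) := by
    intro C
    obtain ⟨h, rfl⟩ := ConjClasses.mk_surjective C
    have h2 : (Finset.univ.filter (fun q : Q => ConjClasses.mk q = ConjClasses.mk h)) =
        Helper3_CharColumn.conjFinset h := by
      ext q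
      simp only [Finset.mem_filter, Finset.mem_univ, true_and, Helper3_CharColumn.mem_conjFinset,
        ConjClasses.mk_eq_mk_iff_isConj]
    rw [h2]
    have h3 : ∀ q ∈ Helper3_CharColumn.conjFinset h,
        (if P (ConjClasses.mk q) then Nat.card (Subgroup.centralizer ({q} : Set Q)) else 0) =
        (if P (ConjClasses.mk h) then Nat.card (Subgroup.centralizer ({h} : Set Q)) else 0) := by
      intro q hq
      rw [Helper3_CharColumn.mem_conjFinset] at hq
      rw [ConjClasses.mk_eq_mk_iff_isConj.mpr hq, Helper3_CharColumn.card_centralizer_eq_of_isConj hq]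
    rw [Finset.sum_congr rfl h3, Finset.sum_const, smul_eq_mul]
    split_ifs
    · rw [Helper3_CharColumn.card_conjFinset_mul_card_centralizer, mul_one]
    · simp
  rw [Finset.sum_congr rfl (fun C _ => h1 C), ← Finset.mul_sum, Finset.sum_boole,
    Nat.card_eq_fintype_card (α := {C : ConjClasses Q // P C}), Fintype.card_subtype]
  simp

end counting

section main
variable {G : Type*} [Group G] [Fintype G] (N : Subgroup G) [Fintype N]

/-- the coefficient `[χ_N, ψ] / χ(1)` -/
noncomputable def aCoef (ψ : N → ℂ) (χ : G → ℂ) : ℂ :=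
  Cfsg.classInner (fun n : N => χ n) ψ / χ 1

variable {N}
variable (hN : N ≤ Subgroup.center G) {ψ : N → ℂ} (hψ : IsIrrCharacter N ψ)

include hN in
theorem comm_N (a b : N) : a * b = b * a := by
  apply Subtype.ext
  have := hN b.2
  rw [Subgroup.mem_center_iff] at this
  exact this a

include hN hψ in
theorem psi_one : ψ 1 = 1 := irr_one_eq_one_of_comm (comm_N hN) hψ

include hN hψ in
theorem psi_lin : Helper75_LinChar.IsLin N ψ :=
  ⟨Helper3_CharBridge.isCharacter_of_isIrrCharacter hψ, psi_one hN hψ⟩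

theorem chi_one_ne_zero {χ : G → ℂ} (hχ : IsIrrCharacter G χ) : χ 1 ≠ 0 := by
  obtain ⟨n, hn, h⟩ := Helper3_CharColumn.irr_one_eq_natCast hχ
  rw [h]
  exact_mod_cast hn.ne'

include hN in
/-- projection formula -/
theorem proj_formula {χ : G → ℂ} (hχ : IsIrrCharacter G χ) (g : G) :
    (Nat.card N : ℂ)⁻¹ * ∑ n : N, conj (ψ n) * χ (g * n) = aCoef N ψ χ * χ g := by
  have h1 := chi_one_ne_zero hχ
  have h2 : ∀ n : N, χ (g * n) = χ n * χ g / χ 1 := by
    intro n
    rw [eq_div_iff h1]
    exact irr_mul_central hχ (hN n.2) g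
  simp_rw [h2]
  unfold aCoef Cfsg.classInner
  rw [div_mul_eq_mul_div, mul_assoc, Finset.sum_mul, mul_div_assoc, Finset.sum_div]
  congr 1
  refine Finset.sum_congr rfl (fun n _ => ?_)
  ring

include hN hψ in
/-- the coefficient is `0` or `1` -/
theorem aCoef_zero_or_one {χ : G → ℂ} (hχ : IsIrrCharacter G χ) :
    aCoef N ψ χ = 0 ∨ aCoef N ψ χ = 1 := by
  classical
  have h1 := chi_one_ne_zero hχ
  have hlin := psi_lin hN hψ
  let μ : N →* ℂ :=
    { toFun := fun n => χ n / χ 1 * conj (ψ n)
      map_one' := by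
        simp only [OneMemClass.coe_one, div_self h1, one_mul, hlin.2, map_one]
      map_mul' := by
        intro a b
        have h3 := irr_mul_central hχ (hN b.2) (a : G)
        have h4 : χ ((a * b : N) : G) = χ b * χ a / χ 1 := by
          rw [eq_div_iff h1]
          exact h3
        rw [h4, hlin.map_mul, map_mul]
        field_simp }
  have h5 : aCoef N ψ χ = (Nat.card N : ℂ)⁻¹ * ∑ n : N, μ n := by
    unfold aCoef Cfsg.classInner
    rw [mul_div_assoc, Finset.sum_div]
    congr 1
    refine Finset.sum_congr rfl (fun n _ => ?_)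
    show _ = χ n / χ 1 * conj (ψ n)
    ring
  rw [h5, sum_hom_units μ]
  split_ifs with h
  · right
    rw [Nat.card_eq_fintype_card]
    have : (Fintype.card N : ℂ) ≠ 0 := by
      exact_mod_cast Fintype.card_ne_zero
    simp
  · left
    simp

theorem classInner_eq_aCoef {χ : G → ℂ} (hχ : IsIrrCharacter G χ) :
    Cfsg.classInner (fun n : N => χ n) ψ = aCoef N ψ χ * χ 1 := by
  unfold aCoef
  rw [div_mul_cancel₀ _ (chi_one_ne_zero hχ)]

include hN in
open scoped Classical in
/-- the main identity for fixed `g` -/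
theorem sum_aCoef (g : G) :
    ∑ χ : Cfsg.IrrCharacter G, aCoef N ψ (χ : G → ℂ) * ((χ : G → ℂ) g * conj ((χ : G → ℂ) g)) =
      (Nat.card N : ℂ)⁻¹ * ∑ n : N, conj (ψ n) *
        (if IsConj (g * n) g then (Nat.card (Subgroup.centralizer ({g * (n : G)} : Set G)) : ℂ) else 0) := by
  have h1 : ∀ χ : Cfsg.IrrCharacter G,
      aCoef N ψ (χ : G → ℂ) * ((χ : G → ℂ) g * conj ((χ : G → ℂ) g)) =
      (Nat.card N : ℂ)⁻¹ * ∑ n : N, conj (ψ n) * ((χ : G → ℂ) (g * n) * conj ((χ : G → ℂ) g)) := by
    intro χ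
    rw [← mul_assoc, ← proj_formula hN χ.2 g, mul_assoc, Finset.sum_mul]
    congr 1
    refine Finset.sum_congr rfl (fun n _ => ?_)
    ring
  simp_rw [h1]
  rw [← Finset.mul_sum, Finset.sum_comm]
  congr 1
  refine Finset.sum_congr rfl (fun n _ => ?_)
  rw [← Finset.mul_sum, Helper3_CharColumn.column_orthogonality]

include hN in
theorem eq_one_of_isConj {g : G} (hg : Special N g) (n : N) (h : IsConj (g * n) g) : n = 1 := by
  rw [isConj_iff] at h
  obtain ⟨c, hc⟩ := h
  have hcen : ∀ y : G, y * n = n * y := Subgroup.mem_center_iff.mp (hN n.2)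
  have h1 : c * g * c⁻¹ * n = g := by
    have : c * g * c⁻¹ * n = c * (g * n) * c⁻¹ := by
      rw [mul_assoc (c * g), hcen c⁻¹]
      group
    rw [this, hc]
  have h2 : (n : G) = (c⁻¹)⁻¹ * g⁻¹ * c⁻¹ * g := by
    have : (n : G) = (c * g * c⁻¹)⁻¹ * g := by
      rw [eq_inv_mul_iff_mul_eq]
      exact h1
    rw [this]
    group
  have h3 := hg c⁻¹ (by rw [← h2]; exact n.2)
  apply Subtype.ext
  rw [h2, Subgroup.coe_one, mul_assoc, h3]
  group

include hN hψ in
theorem exists_of_not_special (hfaith : ∀ n : N, ψ n = ψ 1 → n = 1) {g : G}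
    (hg : ¬ Special N g) : ∃ m : N, ψ m ≠ 1 ∧ ∃ x : G, x⁻¹ * g * x = g * m := by
  unfold Special at hg
  push Not at hg
  obtain ⟨x, hxN, hx⟩ := hg
  refine ⟨(⟨x⁻¹ * g⁻¹ * x * g, hxN⟩ : N)⁻¹, ?_, x, ?_⟩
  · intro h
    have h1 := hfaith _ (h.trans (psi_one hN hψ).symm)
    rw [inv_eq_one] at h1
    have h2 : x⁻¹ * g⁻¹ * x * g = 1 := congrArg Subtype.val h1
    apply hx
    have : x * g = g * x * (x⁻¹ * g⁻¹ * x * g) := by group
    rw [this, h2, mul_one]
  · rw [Subgroup.coe_inv]
    show x⁻¹ * g * x = g * (x⁻¹ * g⁻¹ * x * g)⁻¹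
    group

include hN hψ in
open scoped Classical in
theorem inner_sum_special {g : G} (hg : Special N g) :
    ∑ n : N, conj (ψ n) * (if IsConj (g * n) g then (1 : ℂ) else 0) = 1 := by
  rw [Finset.sum_eq_single (1 : N)]
  · rw [psi_one hN hψ, Subgroup.coe_one, mul_one, if_pos (IsConj.refl g)]
    simp
  · intro n _ hn
    rw [if_neg (fun h => hn (eq_one_of_isConj hN hg n h)), mul_zero]
  · intro h
    exact absurd (Finset.mem_univ _) h

include hN hψ in
open scoped Classical in
theorem inner_sum_not_special (hfaith : ∀ n : N, ψ n = ψ 1 → n = 1) {g : G}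
    (hg : ¬ Special N g) :
    ∑ n : N, conj (ψ n) * (if IsConj (g * n) g then (1 : ℂ) else 0) = 0 := by
  obtain ⟨m, hm, x, hx⟩ := exists_of_not_special hN hψ hfaith hg
  have hlin := psi_lin hN hψ
  set T := ∑ n : N, conj (ψ n) * (if IsConj (g * n) g then (1 : ℂ) else 0) with hT
  have h1 : T = conj (ψ m) * T := by
    rw [hT, Finset.mul_sum, ← Equiv.sum_comp (Equiv.mulLeft m)]
    refine Finset.sum_congr rfl (fun n _ => ?_)
    have hcen : ∀ y : G, y * n = n * y := Subgroup.mem_center_iff.mp (hN n.2)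
    have h2 : g * ((m * n : N) : G) = x⁻¹ * (g * n) * x := by
      rw [Subgroup.coe_mul, ← mul_assoc, ← hx, mul_assoc _ x, hcen x]
      group
    have h3 : IsConj (g * ((m * n : N) : G)) g ↔ IsConj (g * n) g := by
      rw [h2]
      have h4 : IsConj (g * n) (x⁻¹ * (g * n) * x) := by
        rw [isConj_iff]
        exact ⟨x⁻¹, by simp⟩
      exact ⟨fun h => h4.trans h, fun h => h4.symm.trans h⟩
    simp only [Equiv.coe_mulLeft]
    rw [hlin.map_mul, map_mul, mul_assoc]
    congr 2
    exact if_congr h3 rfl rfl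
  have h5 : conj (ψ m) ≠ 1 := by
    intro h
    apply hm
    have := congrArg (starRingEnd ℂ) h
    simpa using this
  have h6 : (1 - conj (ψ m)) * T = 0 := by
    rw [sub_mul, one_mul, ← h1, sub_self]
  rcases mul_eq_zero.mp h6 with h | h
  · exact absurd (sub_eq_zero.mp h).symm h5
  · exact h

end main


/-- Let N be a central subgroup of the finite group G and ψ a faithful irreducible (hence degree-one) character of N. Call a coset g N special when every x ∈ G whose commutator x⁻¹ g⁻¹ x g lies in N actually commutes with g (this depends only on the coset). Then the number of irreducible characters of G whose restriction to N contains ψ equals the number of conjugacy classes of G/N consisting of special cosets. -/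
theorem result {G : Type*} [Group G] [Fintype G] (N : Subgroup G) [N.Normal] [Fintype N] (hN : N ≤ Subgroup.center G) (ψ : Cfsg.IrrCharacter ↥N) (hfaith : ∀ n : ↥N, (ψ : ↥N → ℂ) n = (ψ : ↥N → ℂ) 1 → n = 1) : Nat.card {χ : Cfsg.IrrCharacter G // Cfsg.classInner (fun n : ↥N => (χ : G → ℂ) n) (ψ : ↥N → ℂ) ≠ 0} = Nat.card {C : ConjClasses (G ⧸ N) // ∃ g : G, ConjClasses.mk (g : G ⧸ N) = C ∧ ∀ x : G, x⁻¹ * g⁻¹ * x * g ∈ N → x * g = g * x} := by
  classical
  haveI : Fintype (G ⧸ N) := Fintype.ofFinite _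
  obtain ⟨ψ, hψ⟩ := ψ
  simp only at hfaith ⊢
  have hGne : (Nat.card G : ℂ) ≠ 0 := by
    exact_mod_cast (Nat.card_pos (α := G)).ne'
  have hNne : (Nat.card N : ℂ) ≠ 0 := by
    exact_mod_cast (Nat.card_pos (α := N)).ne'
  -- the coefficient as an indicator
  have ha : ∀ χ : Cfsg.IrrCharacter G, aCoef N ψ (χ : G → ℂ) =
      if Cfsg.classInner (fun n : ↥N => (χ : G → ℂ) n) ψ ≠ 0 then 1 else 0 := by
    intro χ
    have h1 := classInner_eq_aCoef (N := N) (ψ := ψ) χ.2
    rcases aCoef_zero_or_one hN hψ χ.2 with h | h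
    · rw [h, zero_mul] at h1
      rw [if_neg (not_not.mpr h1), h]
    · rw [h, one_mul] at h1
      rw [if_pos (by rw [h1]; exact chi_one_ne_zero χ.2), h]
  -- left count
  have hL : ∑ g : G, ∑ χ : Cfsg.IrrCharacter G,
      aCoef N ψ (χ : G → ℂ) * ((χ : G → ℂ) g * conj ((χ : G → ℂ) g)) =
      (Nat.card G : ℂ) * (Nat.card {χ : Cfsg.IrrCharacter G //
        Cfsg.classInner (fun n : ↥N => (χ : G → ℂ) n) ψ ≠ 0} : ℂ) := by
    rw [Finset.sum_comm]
    have h2 : ∀ χ : Cfsg.IrrCharacter G, ∑ g : G, (χ : G → ℂ) g * conj ((χ : G → ℂ) g) =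
        (Nat.card G : ℂ) := by
      intro χ
      have h3 := Helper3_CharOrtho.classInner_self_of_isIrrCharacter χ.2
      rw [Cfsg.classInner] at h3
      field_simp at h3
      exact h3
    simp_rw [← Finset.mul_sum, h2, ← Finset.sum_mul, ha]
    rw [Finset.sum_boole, mul_comm, Nat.card_eq_fintype_card
      (α := {χ : Cfsg.IrrCharacter G // Cfsg.classInner (fun n : ↥N => (χ : G → ℂ) n) ψ ≠ 0}),
      Fintype.card_subtype]
  -- right count
  have hR : ∑ g : G, ∑ χ : Cfsg.IrrCharacter G,
      aCoef N ψ (χ : G → ℂ) * ((χ : G → ℂ) g * conj ((χ : G → ℂ) g)) =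
      (Nat.card G : ℂ) * (Nat.card {C : ConjClasses (G ⧸ N) // ∃ g : G,
        ConjClasses.mk (g : G ⧸ N) = C ∧ Special N g} : ℂ) := by
    have h1 : ∀ g : G, ∑ χ : Cfsg.IrrCharacter G,
        aCoef N ψ (χ : G → ℂ) * ((χ : G → ℂ) g * conj ((χ : G → ℂ) g)) =
        (Nat.card N : ℂ)⁻¹ * ((if Special N g then
          Nat.card (Subgroup.centralizer ({g} : Set G)) else 0 : ℕ) : ℂ) := by
      intro g
      rw [sum_aCoef hN g]
      congr 1
      have h2 : ∀ n : N, conj (ψ n) * (if IsConj (g * n) g then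
          (Nat.card (Subgroup.centralizer ({g * (n : G)} : Set G)) : ℂ) else 0) =
          (Nat.card (Subgroup.centralizer ({g} : Set G)) : ℂ) *
            (conj (ψ n) * (if IsConj (g * n) g then (1 : ℂ) else 0)) := by
        intro n
        split_ifs with h
        · rw [Helper3_CharColumn.card_centralizer_eq_of_isConj h]
          ring
        · ring
      simp_rw [h2]
      rw [← Finset.mul_sum]
      by_cases hg : Special N g
      · rw [inner_sum_special hN hψ hg, if_pos hg, mul_one]
      · rw [inner_sum_not_special hN hψ hfaith hg, if_neg hg, mul_zero, Nat.cast_zero]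
    simp_rw [h1]
    rw [← Finset.mul_sum, ← Nat.cast_sum]
    have h3 : ∀ g : G, (if Special N g then Nat.card (Subgroup.centralizer ({g} : Set G)) else 0) =
        Nat.card N * (fun q : G ⧸ N => if (∃ g' : G, ConjClasses.mk (g' : G ⧸ N) =
          ConjClasses.mk q ∧ Special N g') then
          Nat.card (Subgroup.centralizer ({q} : Set (G ⧸ N))) else 0) (g : G ⧸ N) := by
      intro g
      simp only
      rw [if_congr (special_iff hN g) rfl rfl]
      split_ifs with hg
      · exact card_centralizer_special hg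
      · rw [mul_zero]
    simp_rw [h3]
    rw [← Finset.mul_sum, sum_quot (N := N) (fun q : G ⧸ N => if (∃ g' : G,
      ConjClasses.mk (g' : G ⧸ N) = ConjClasses.mk q ∧ Special N g') then
      Nat.card (Subgroup.centralizer ({q} : Set (G ⧸ N))) else 0)]
    have e' : (∑ q : G ⧸ N, if (∃ g' : G,
        ConjClasses.mk (g' : G ⧸ N) = ConjClasses.mk q ∧ Special N g') then
        Nat.card (Subgroup.centralizer ({q} : Set (G ⧸ N))) else 0) =
        Nat.card (G ⧸ N) * Nat.card {C : ConjClasses (G ⧸ N) // ∃ g' : G,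
          ConjClasses.mk (g' : G ⧸ N) = C ∧ Special N g'} := by
      convert sum_classes (Q := G ⧸ N)
        (fun C : ConjClasses (G ⧸ N) => ∃ g' : G, ConjClasses.mk (g' : G ⧸ N) = C ∧ Special N g')
    rw [e']
    have h4 : Nat.card G = Nat.card N * Nat.card (G ⧸ N) := by
      rw [mul_comm]
      exact Subgroup.card_eq_card_quotient_mul_card_subgroup N
    rw [h4]
    push_cast
    field_simp
  rw [hL] at hR
  have := mul_left_cancel₀ hGne hR
  exact_mod_cast this

end Cfsg.Agent.S4567
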