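import Mathlib
import Cfsg.Agent.Lib.Helper5_PSLCard
import Cfsg.Statements.S0250

set_option autoImplicit false
open Cfsg

namespace Cfsg.Agent.S0250

/-- SL_2(2) is isomorphic to S_3. -/
theorem result {F : Type*} [Field F] [Fintype F] (hF : Fintype.card F = 2) : Nonempty (Matrix.SpecialLinearGroup (Fin 2) F ≃* Equiv.Perm (Fin 3)) := by
  obtain ⟨f, hf⟩ := Cfsg.Agent.Lib.Helper5_PSLCard.exists_SL2_perm_ker (F := F) hF
  have hc := Cfsg.Agent.Lib.Helper5_PSLCard.card_center_SL (F := F) 2 (by norm_num)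
  rw [hF] at hc
  have hbot : Subgroup.center (Matrix.SpecialLinearGroup (Fin 2) F) = ⊥ :=
    Subgroup.card_eq_one.mp (by rw [hc]; rfl)
  have hinj : Function.Injective f := by
    rw [← MonoidHom.ker_eq_bot_iff, hf, hbot]
  have hcard := Cfsg.Agent.Lib.Helper5_PSLCard.card_SL_two (F := F)
  rw [hF] at hcard
  exact Cfsg.Agent.Lib.Helper5_PSLCard.mulEquiv_perm_of_injective f hinj (by rw [hcard]; rfl)

end Cfsg.Agent.S0250
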