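import Cfsg.Statements.S0552
import Mathlib
import Cfsg.Agent.Lib.Helper21_Fitting
import Cfsg.Agent.Lib.Helper1_Cores

set_option autoImplicit false
open Cfsg

namespace Cfsg.Agent.S0552

/-- In a finite solvable group the Fitting subgroup contains its centralizer. -/
theorem centralizer_fitting_le {G : Type*} [Group G] [Finite G] [Group.IsSolvable G] :
    Subgroup.centralizer (fittingSubgroup G : Set G) ≤ fittingSubgroup G := by
  have h := Cfsg.Agent.Lib.Helper21_Fitting.le_center_fittingSubgroup
    (Subgroup.centralizer (fittingSubgroup G : Set G)) le_rfl Subgroup.le_normalizer inferInstance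
  exact h.trans (Subgroup.map_subtype_le _)

/-- Let σ be an automorphism of a finite solvable group G fixing every element of the Fitting subgroup. If σ is not the identity then the order of σ and the order of G have a common prime factor. -/
theorem result {G : Type*} [Group G] [Finite G] [Group.IsSolvable G] (σ : G ≃* G) (hσ : ∀ x ∈ Cfsg.fittingSubgroup G, σ x = x) (hne : σ ≠ MulEquiv.refl G) : ¬ (orderOf σ).Coprime (Nat.card G) := by
  intro hcop
  apply hne
  have hFn : (fittingSubgroup G).Normal := Cfsg.Agent.Lib.Helper1_Cores.fittingSubgroup_normal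
  ext g
  set z := g⁻¹ * σ g with hz
  have hzC : z ∈ Subgroup.centralizer (fittingSubgroup G : Set G) := by
    rw [Subgroup.mem_centralizer_iff]
    intro f hf
    have h1 : g * f * g⁻¹ ∈ fittingSubgroup G := hFn.conj_mem f hf g
    have h2 := hσ _ h1
    rw [map_mul, map_mul, map_inv, hσ f hf] at h2
    -- σ g * f * (σ g)⁻¹ = g * f * g⁻¹
    rw [hz]
    calc f * (g⁻¹ * σ g) = g⁻¹ * (g * f * g⁻¹) * σ g := by group
      _ = g⁻¹ * (σ g * f * (σ g)⁻¹) * σ g := by rw [h2]
      _ = g⁻¹ * σ g * f := by group
  have hzF : z ∈ fittingSubgroup G := centralizer_fitting_le hzC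
  have hσz : σ z = z := hσ z hzF
  have hσg : σ g = g * z := by rw [hz]; group
  have hpow : ∀ n : ℕ, (σ ^ n) g = g * z ^ n := by
    intro n
    induction n with
    | zero => simp
    | succ n ih =>
      rw [pow_succ', MulAut.mul_apply, ih, map_mul, map_pow, hσz, hσg, mul_assoc, ← pow_succ']
  have h1 := hpow (orderOf σ)
  rw [pow_orderOf_eq_one, MulAut.one_apply] at h1
  have hz1 : z ^ orderOf σ = 1 := by
    have : g * 1 = g * z ^ orderOf σ := by rw [mul_one]; exact h1
    exact (mul_left_cancel this).symm
  have hz2 : z ^ Nat.card G = 1 := pow_card_eq_one'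
  have hd1 : orderOf z ∣ orderOf σ := orderOf_dvd_of_pow_eq_one hz1
  have hd2 : orderOf z ∣ Nat.card G := orderOf_dvd_of_pow_eq_one hz2
  have hd : orderOf z ∣ 1 := by
    have := Nat.dvd_gcd hd1 hd2
    rwa [hcop] at this
  have hz0 : z = 1 := orderOf_eq_one_iff.mp (Nat.dvd_one.mp hd)
  rw [hσg, hz0, mul_one]
  rfl

end Cfsg.Agent.S0552
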