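import Cfsg.Statements.S0655

set_option autoImplicit false
open Cfsg

namespace Cfsg.Agent.S0655

/-- The subgroup generated by an elementary abelian subgroup and a commuting element of order
dividing `p` is again elementary abelian. -/
theorem isElementaryAbelian_closure_insert {S : Type*} [Group S] {p : ℕ} (A : Subgroup S)
    (hA : Cfsg.IsElementaryAbelian p A) (x : S)
    (hx : x ∈ Subgroup.centralizer (A : Set S)) (hxp : x ^ p = 1) :
    Cfsg.IsElementaryAbelian p (Subgroup.closure ((A : Set S) ∪ {x})) := by
  obtain ⟨hAc, hAp⟩ := hA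
  have hcomm : ∀ y ∈ (A : Set S) ∪ {x}, ∀ z ∈ (A : Set S) ∪ {x}, y * z = z * y := by
    intro y hy z hz
    rcases hy with hy | hy <;> rcases hz with hz | hz
    · exact congrArg Subtype.val (mul_comm' (⟨y, hy⟩ : A) ⟨z, hz⟩)
    · rw [Set.mem_singleton_iff] at hz; subst hz
      exact hx y hy
    · rw [Set.mem_singleton_iff] at hy; subst hy
      exact (hx z hz).symm
    · rw [Set.mem_singleton_iff] at hy hz; subst hy; subst hz; rfl
  have hB : IsMulCommutative (Subgroup.closure ((A : Set S) ∪ {x})) :=
    Subgroup.isMulCommutative_closure hcomm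
  refine ⟨hB, ?_⟩
  intro a ha
  induction ha using Subgroup.closure_induction with
  | mem y hy =>
    rcases hy with hy | hy
    · exact hAp y hy
    · rw [Set.mem_singleton_iff] at hy; subst hy; exact hxp
  | one => exact one_pow p
  | mul y z hy hz ihy ihz =>
    have hc : Commute y z := congrArg Subtype.val
      (mul_comm' (⟨y, hy⟩ : Subgroup.closure ((A : Set S) ∪ {x})) ⟨z, hz⟩)
    rw [hc.mul_pow, ihy, ihz, one_mul]
  | inv y hy ih => rw [inv_pow, ih, inv_one]

/-- An element of order dividing `p` commuting with every element of an elementary abelian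
subgroup of largest order lies in it. -/
theorem mem_of_centralizes {S : Type*} [Group S] [Finite S] {p : ℕ} (A : Subgroup S)
    (hA : A ∈ Cfsg.maxElementaryAbelianSubgroups p S) (x : S)
    (hx : x ∈ Subgroup.centralizer (A : Set S)) (hxp : x ^ p = 1) : x ∈ A := by
  obtain ⟨hAe, hAmax⟩ := hA
  have hB := isElementaryAbelian_closure_insert A hAe x hx hxp
  have hle : A ≤ Subgroup.closure ((A : Set S) ∪ {x}) := fun y hy =>
    Subgroup.subset_closure (Or.inl hy)
  have := Subgroup.eq_of_le_of_card_ge hle (hAmax _ hB)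
  rw [this]
  exact Subgroup.subset_closure (Or.inr rfl)

theorem bot_isElementaryAbelian {S : Type*} [Group S] (p : ℕ) :
    Cfsg.IsElementaryAbelian p (⊥ : Subgroup S) := by
  refine ⟨?_, ?_⟩
  · rw [← Subgroup.le_centralizer_iff_isMulCommutative]
    exact bot_le
  · intro a ha
    rw [Subgroup.mem_bot] at ha
    rw [ha, one_pow]

theorem nonempty_max {S : Type*} [Group S] [Finite S] (p : ℕ) :
    (Cfsg.maxElementaryAbelianSubgroups p S).Nonempty := by
  have : Nonempty {A : Subgroup S // Cfsg.IsElementaryAbelian p A} :=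
    ⟨⟨⊥, bot_isElementaryAbelian p⟩⟩
  obtain ⟨A, hA⟩ := Finite.exists_max
    (fun A : {A : Subgroup S // Cfsg.IsElementaryAbelian p A} => Nat.card (A : Subgroup S))
  exact ⟨A.1, A.2, fun B hB => hA ⟨B, hB⟩⟩

/-- In a p-group the intersection of all elementary abelian subgroups of largest order is the subgroup generated by the elements of order dividing p in the centre (equivalently the centralizer) of the elementary-version Thompson subgroup. -/
theorem result {S : Type*} [Group S] [Finite S] {p : ℕ} [Fact p.Prime] (hS : IsPGroup p S) : sInf (Cfsg.maxElementaryAbelianSubgroups p S) = Cfsg.omegaCenterThompson p S ∧ Cfsg.omegaCenterThompson p S = Cfsg.omegaOne p (Subgroup.centralizer (Cfsg.thompsonSubgroup p S : Set S)) := by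
  have h1 : sInf (Cfsg.maxElementaryAbelianSubgroups p S) ≤ Cfsg.omegaCenterThompson p S := by
    intro x hx
    rw [Subgroup.mem_sInf] at hx
    apply Subgroup.subset_closure
    obtain ⟨A₀, hA₀⟩ := nonempty_max (S := S) p
    refine ⟨⟨?_, ?_⟩, ?_⟩
    · exact (le_sSup hA₀ : A₀ ≤ Cfsg.thompsonSubgroup p S) (hx A₀ hA₀)
    · have : Cfsg.thompsonSubgroup p S ≤ Subgroup.centralizer ({x} : Set S) := by
        unfold Cfsg.thompsonSubgroup
        rw [sSup_le_iff]
        intro A hA y hy
        rw [Subgroup.mem_centralizer_iff]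
        intro z hz
        rw [Set.mem_singleton_iff] at hz; subst hz
        have := hA.1.1
        exact congrArg Subtype.val (mul_comm' (⟨z, hx A hA⟩ : A) ⟨y, hy⟩)
      show x ∈ Subgroup.centralizer ((Cfsg.thompsonSubgroup p S : Subgroup S) : Set S)
      rw [Subgroup.mem_centralizer_iff]
      intro y hy
      exact (this hy x rfl).symm
    · exact hA₀.1.2 x (hx A₀ hA₀)
  have h2 : Cfsg.omegaCenterThompson p S ≤
      Cfsg.omegaOne p (Subgroup.centralizer (Cfsg.thompsonSubgroup p S : Set S)) := by
    apply Subgroup.closure_mono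
    rintro x ⟨hx, hxp⟩
    exact ⟨hx.2, hxp⟩
  have h3 : Cfsg.omegaOne p (Subgroup.centralizer (Cfsg.thompsonSubgroup p S : Set S)) ≤
      sInf (Cfsg.maxElementaryAbelianSubgroups p S) := by
    unfold Cfsg.omegaOne
    rw [Subgroup.closure_le]
    rintro x ⟨hx, hxp⟩
    rw [SetLike.mem_coe, Subgroup.mem_sInf]
    intro A hA
    apply mem_of_centralizes A hA x _ hxp
    have hle : (A : Set S) ⊆ ((Cfsg.thompsonSubgroup p S : Subgroup S) : Set S) := by
      intro y hy
      exact (le_sSup hA : A ≤ Cfsg.thompsonSubgroup p S) hy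
    exact Subgroup.centralizer_le hle hx
  exact ⟨le_antisymm h1 (h2.trans h3), le_antisymm h2 (h3.trans h1)⟩

end Cfsg.Agent.S0655
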