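import Cfsg.Statements.S0622
import Cfsg.Agent.S0655

set_option autoImplicit false
universe u
open Cfsg

namespace Cfsg.Agent.S0622

section transport

variable {S S' : Type u} [Group S] [Group S']

theorem isElementaryAbelian_map (f : S →* S') {p : ℕ} {A : Subgroup S}
    (hA : Cfsg.IsElementaryAbelian p A) : Cfsg.IsElementaryAbelian p (A.map f) := by
  obtain ⟨hc, hp⟩ := hA
  refine ⟨Subgroup.map_isMulCommutative A f, ?_⟩
  rintro _ ⟨a, ha, rfl⟩
  rw [← map_pow, hp a ha, map_one]

theorem card_map_equiv (e : S ≃* S') (A : Subgroup S) :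
    Nat.card (A.map e.toMonoidHom) = Nat.card A :=
  Nat.card_congr (A.equivMapOfInjective e.toMonoidHom e.injective).symm.toEquiv

theorem map_symm_map (e : S ≃* S') (A : Subgroup S') :
    (A.map e.symm.toMonoidHom).map e.toMonoidHom = A := by
  rw [Subgroup.map_map]
  have : e.toMonoidHom.comp e.symm.toMonoidHom = MonoidHom.id S' := by
    ext x; simp
  rw [this, Subgroup.map_id]

/-- A construction on groups that is monotone under isomorphisms is preserved by them. -/
theorem map_eq_of_forall_le (F : ∀ (X : Type u) [Group X], Subgroup X)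
    (h : ∀ (X Y : Type u) [Group X] [Group Y] (e : X ≃* Y), (F X).map e.toMonoidHom ≤ F Y)
    (e : S ≃* S') : (F S).map e.toMonoidHom = F S' := by
  apply le_antisymm (h S S' e)
  have h1 := h S' S e.symm
  have h2 := Subgroup.map_mono (f := e.toMonoidHom) h1
  rwa [map_symm_map] at h2

theorem mem_maxEA_map (e : S ≃* S') {p : ℕ} {A : Subgroup S}
    (hA : A ∈ Cfsg.maxElementaryAbelianSubgroups p S) :
    A.map e.toMonoidHom ∈ Cfsg.maxElementaryAbelianSubgroups p S' := by
  obtain ⟨hAe, hAmax⟩ := hA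
  refine ⟨isElementaryAbelian_map _ hAe, ?_⟩
  intro B hB
  have h1 := hAmax _ (isElementaryAbelian_map e.symm.toMonoidHom hB)
  rwa [card_map_equiv, ← card_map_equiv e A] at h1

theorem thompson_map (e : S ≃* S') (p : ℕ) :
    (Cfsg.thompsonSubgroup p S).map e.toMonoidHom = Cfsg.thompsonSubgroup p S' := by
  refine map_eq_of_forall_le (fun X _ => Cfsg.thompsonSubgroup p X) ?_ e
  intro X Y _ _ e
  rw [Subgroup.map_le_iff_le_comap]
  unfold Cfsg.thompsonSubgroup
  rw [sSup_le_iff]
  intro A hA
  rw [← Subgroup.map_le_iff_le_comap]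
  exact le_sSup (mem_maxEA_map e hA)

theorem omegaOne_map_le (f : S →* S') (p : ℕ) (K : Subgroup S) :
    (Cfsg.omegaOne p K).map f ≤ Cfsg.omegaOne p (K.map f) := by
  unfold Cfsg.omegaOne
  rw [MonoidHom.map_closure]
  apply Subgroup.closure_mono
  rintro _ ⟨x, ⟨hx, hxp⟩, rfl⟩
  exact ⟨Subgroup.mem_map_of_mem f hx, by rw [← map_pow, hxp, map_one]⟩

theorem omegaOne_map_of_injective (f : S →* S') (hf : Function.Injective f) (p : ℕ)
    (K : Subgroup S) :
    (Cfsg.omegaOne p K).map f = Cfsg.omegaOne p (K.map f) := by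
  apply le_antisymm (omegaOne_map_le f p K)
  unfold Cfsg.omegaOne
  rw [MonoidHom.map_closure]
  apply Subgroup.closure_mono
  rintro _ ⟨⟨x, hx, rfl⟩, hxp⟩
  refine ⟨x, ⟨hx, ?_⟩, rfl⟩
  apply hf
  rw [map_pow, hxp, map_one]

theorem omegaOne_mono (p : ℕ) {K L : Subgroup S} (h : K ≤ L) :
    Cfsg.omegaOne p K ≤ Cfsg.omegaOne p L := by
  apply Subgroup.closure_mono
  rintro x ⟨hx, hxp⟩
  exact ⟨h hx, hxp⟩

/-- The image of the centre of a subgroup under an injective homomorphism. -/
theorem map_inf_centralizer_of_injective (f : S →* S') (hf : Function.Injective f)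
    (J : Subgroup S) :
    (J ⊓ Subgroup.centralizer (J : Set S)).map f =
      J.map f ⊓ Subgroup.centralizer ((J.map f : Subgroup S') : Set S') := by
  ext y
  simp only [Subgroup.mem_map, Subgroup.mem_inf, Subgroup.mem_centralizer_iff, SetLike.mem_coe]
  constructor
  · rintro ⟨x, ⟨hxJ, hxC⟩, rfl⟩
    refine ⟨⟨x, hxJ, rfl⟩, ?_⟩
    rintro _ ⟨z, hz, rfl⟩
    rw [← map_mul, ← map_mul, hxC z hz]
  · rintro ⟨⟨x, hxJ, rfl⟩, hyC⟩
    refine ⟨x, ⟨hxJ, ?_⟩, rfl⟩
    intro z hz
    apply hf
    rw [map_mul, map_mul]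
    exact hyC (f z) ⟨z, hz, rfl⟩

theorem omegaCenterThompson_map_of_injective (f : S →* S') (hf : Function.Injective f) (p : ℕ) :
    (Cfsg.omegaCenterThompson p S).map f =
      Cfsg.omegaOne p ((Cfsg.thompsonSubgroup p S).map f ⊓
        Subgroup.centralizer (((Cfsg.thompsonSubgroup p S).map f : Subgroup S') : Set S')) := by
  unfold Cfsg.omegaCenterThompson
  rw [omegaOne_map_of_injective f hf, map_inf_centralizer_of_injective f hf]

theorem omegaCenterThompson_map (e : S ≃* S') (p : ℕ) :
    (Cfsg.omegaCenterThompson p S).map e.toMonoidHom = Cfsg.omegaCenterThompson p S' := by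
  rw [omegaCenterThompson_map_of_injective e.toMonoidHom e.injective, thompson_map]
  rfl

theorem center_map (e : S ≃* S') :
    (Subgroup.center S).map e.toMonoidHom = Subgroup.center S' := by
  refine map_eq_of_forall_le (fun X _ => Subgroup.center X) ?_ e
  intro X Y _ _ e
  rintro _ ⟨x, hx, rfl⟩
  rw [SetLike.mem_coe, Subgroup.mem_center_iff] at hx
  rw [Subgroup.mem_center_iff]
  intro g
  obtain ⟨g', rfl⟩ := e.surjective g
  show e g' * e x = e x * e g'
  rw [← map_mul, ← map_mul, hx g']

theorem isStableEmbedding_comp (e : S ≃* S') {p : ℕ} {H : Type u} [Group H] (τ : S' →* H)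
    (hτ : Cfsg.IsStableEmbedding p τ) :
    Cfsg.IsStableEmbedding p (τ.comp e.toMonoidHom) := by
  obtain ⟨hinj, hfin, ⟨P, hP⟩, hcent, hJ, hst⟩ := hτ
  refine ⟨hinj.comp e.injective, hfin, ⟨P, ?_⟩, hcent, ?_, ?_⟩
  · rw [hP]
    ext y
    constructor
    · rintro ⟨x, rfl⟩
      exact ⟨e.symm x, by simp⟩
    · rintro ⟨x, rfl⟩
      exact ⟨e x, rfl⟩
  · rw [← Subgroup.map_map, thompson_map]
    exact hJ
  · intro V _ hV
    apply hst V
    rwa [← Subgroup.map_map, omegaCenterThompson_map] at hV

end transport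

/-- The family of subgroups whose intersection is the stable normal closure. -/
def Fam (p : ℕ) (S : Type u) [Group S] : Set (Subgroup S) :=
  {W : Subgroup S | Cfsg.omegaOne p (Subgroup.center S) ≤ W ∧
    ∀ (H : Type u) [Group H] (τ : S →* H), Cfsg.IsStableEmbedding p τ → (W.map τ).Normal}

theorem stableNormalClosure_eq (p : ℕ) (S : Type u) [Group S] :
    Cfsg.stableNormalClosure p S = sInf (Fam p S) := rfl

theorem fam_map {S S' : Type u} [Group S] [Group S'] (e : S ≃* S') {p : ℕ} {W : Subgroup S}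
    (hW : W ∈ Fam p S) : W.map e.toMonoidHom ∈ Fam p S' := by
  obtain ⟨h1, h2⟩ := hW
  refine ⟨?_, ?_⟩
  · rw [← center_map e, ← omegaOne_map_of_injective e.toMonoidHom e.injective]
    exact Subgroup.map_mono h1
  · intro H _ τ hτ
    rw [Subgroup.map_map]
    exact h2 H _ (isStableEmbedding_comp e τ hτ)

theorem stableNormalClosure_map {S S' : Type u} [Group S] [Group S'] (e : S ≃* S') (p : ℕ) :
    (Cfsg.stableNormalClosure p S).map e.toMonoidHom = Cfsg.stableNormalClosure p S' := by
  refine map_eq_of_forall_le (fun X _ => Cfsg.stableNormalClosure p X) ?_ e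
  intro X Y _ _ e
  show (sInf (Fam p X)).map e.toMonoidHom ≤ sInf (Fam p Y)
  apply le_sInf
  intro W' hW'
  have h1 : sInf (Fam p X) ≤ W'.map e.symm.toMonoidHom := sInf_le (fam_map e.symm hW')
  have h2 := Subgroup.map_mono (f := e.toMonoidHom) h1
  rwa [map_symm_map] at h2

/-- The closure of a conjugation-invariant set is a normal subgroup. -/
theorem closure_normal_of_conj_mem {G : Type*} [Group G] (s : Set G)
    (h : ∀ x ∈ s, ∀ g : G, g * x * g⁻¹ ∈ s) : (Subgroup.closure s).Normal := by
  constructor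
  intro n hn g
  induction hn using Subgroup.closure_induction with
  | mem x hx => exact Subgroup.subset_closure (h x hx g)
  | one => simp
  | mul x y _ _ ihx ihy =>
    have : g * (x * y) * g⁻¹ = (g * x * g⁻¹) * (g * y * g⁻¹) := by group
    rw [this]; exact Subgroup.mul_mem _ ihx ihy
  | inv x _ ih =>
    have : g * x⁻¹ * g⁻¹ = (g * x * g⁻¹)⁻¹ := by group
    rw [this]; exact Subgroup.inv_mem _ ih

theorem omegaOne_normal {G : Type*} [Group G] (p : ℕ) (K : Subgroup G) [hK : K.Normal] :
    (Cfsg.omegaOne p K).Normal := by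
  apply closure_normal_of_conj_mem
  rintro x ⟨hx, hxp⟩ g
  refine ⟨hK.conj_mem x hx g, ?_⟩
  rw [conj_pow, hxp]; simp

theorem omegaCenterThompson_mem_fam {S : Type u} [Group S] [Finite S] (p : ℕ) :
    Cfsg.omegaCenterThompson p S ∈ Fam p S := by
  refine ⟨?_, ?_⟩
  · apply Subgroup.closure_mono
    rintro x ⟨hx, hxp⟩
    refine ⟨⟨?_, ?_⟩, hxp⟩
    · obtain ⟨A, hA⟩ := Cfsg.Agent.S0655.nonempty_max (S := S) p
      have hxA : x ∈ A := by
        apply Cfsg.Agent.S0655.mem_of_centralizes A hA x _ hxp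
        exact Subgroup.center_le_centralizer _ hx
      exact (le_sSup hA : A ≤ Cfsg.thompsonSubgroup p S) hxA
    · exact Subgroup.center_le_centralizer _ hx
  · intro H _ τ hτ
    obtain ⟨hinj, -, -, -, hJ, -⟩ := hτ
    rw [omegaCenterThompson_map_of_injective τ hinj]
    have := hJ
    have : (Subgroup.centralizer (((Cfsg.thompsonSubgroup p S).map τ : Subgroup H) : Set H)).Normal :=
      Subgroup.normal_centralizer
    have : ((Cfsg.thompsonSubgroup p S).map τ ⊓
        Subgroup.centralizer (((Cfsg.thompsonSubgroup p S).map τ : Subgroup H) : Set H)).Normal :=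
      Subgroup.normal_inf_normal _ _
    exact omegaOne_normal p _

/-- Basic properties of the stable normal closure W(S) of Ω₁(Z(S)) in a finite p-group: characteristic, squeezed between Ω₁(Z(S)) and Ω₁(Z(J(S))), nontrivial for S ≠ 1, and transported by group isomorphisms. -/
theorem result {S : Type u} [Group S] [Finite S] {p : ℕ} [Fact p.Prime] (hS : IsPGroup p S) : (Cfsg.stableNormalClosure p S).Characteristic ∧ Cfsg.omegaOne p (Subgroup.center S) ≤ Cfsg.stableNormalClosure p S ∧ Cfsg.stableNormalClosure p S ≤ Cfsg.omegaCenterThompson p S ∧ (Nontrivial S → Cfsg.stableNormalClosure p S ≠ ⊥) ∧ ∀ (S' : Type u) [Group S'] (η : S ≃* S'), (Cfsg.stableNormalClosure p S).map η.toMonoidHom = Cfsg.stableNormalClosure p S' := by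
  have hle : Cfsg.omegaOne p (Subgroup.center S) ≤ Cfsg.stableNormalClosure p S := by
    rw [stableNormalClosure_eq]
    apply le_sInf
    intro W hW
    exact hW.1
  refine ⟨?_, hle, ?_, ?_, ?_⟩
  · rw [Subgroup.characteristic_iff_map_eq]
    intro ϕ
    exact stableNormalClosure_map ϕ p
  · rw [stableNormalClosure_eq]
    exact sInf_le (omegaCenterThompson_mem_fam p)
  · intro hnt hbot
    have := hnt
    have : Nontrivial (Subgroup.center S) := hS.center_nontrivial
    have hZ : IsPGroup p (Subgroup.center S) := hS.to_subgroup _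
    have hdvd : p ∣ Nat.card (Subgroup.center S) := by
      rcases hZ.card_eq_or_dvd with h | h
      · have := Finite.one_lt_card (α := Subgroup.center S)
        omega
      · exact h
    obtain ⟨z, hz⟩ := exists_prime_orderOf_dvd_card' p hdvd
    have hz1 : (z : S) ∈ Cfsg.omegaOne p (Subgroup.center S) := by
      apply Subgroup.subset_closure
      refine ⟨z.2, ?_⟩
      have : z ^ p = 1 := by rw [← hz]; exact pow_orderOf_eq_one z
      have := congrArg Subtype.val this
      simpa using this
    have hz2 := hle hz1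
    rw [hbot, Subgroup.mem_bot] at hz2
    have hz3 : z = 1 := Subtype.ext hz2
    rw [hz3, orderOf_one] at hz
    exact (Fact.out : p.Prime).one_lt.ne hz
  · intro S' _ η
    exact stableNormalClosure_map η p

end Cfsg.Agent.S0622
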