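import Cfsg.Statements.S0608
import Cfsg.Agent.Lib.Helper10_Thompson
import Cfsg.Agent.S0622

set_option autoImplicit false
open Cfsg
open Cfsg.Agent.Lib.Helper10_Thompson

namespace Cfsg.Agent.S0608

universe u

section general

variable {G : Type u} [Group G]

theorem card_mul_relIndex' {H K : Subgroup G} (h : H ≤ K) :
    Nat.card H * H.relIndex K = Nat.card K := by
  have := Subgroup.relIndex_mul_relIndex ⊥ H K bot_le h
  rwa [Subgroup.relIndex_bot_left, Subgroup.relIndex_bot_left] at this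

theorem relIndex_inf_of_normal [Finite G] (H K : Subgroup G) [K.Normal] :
    (H ⊓ K).relIndex K = H.relIndex (H ⊔ K) := by
  have h1 : Nat.card (H ⊓ K : Subgroup G) * (H ⊓ K).relIndex K = Nat.card K :=
    card_mul_relIndex' inf_le_right
  have h2 : Nat.card (H ⊓ K : Subgroup G) * (H ⊓ K).relIndex H = Nat.card H :=
    card_mul_relIndex' inf_le_left
  have h3 : Nat.card H * H.relIndex (H ⊔ K) = Nat.card (H ⊔ K : Subgroup G) :=
    card_mul_relIndex' le_sup_left
  have h4 : Nat.card K * K.relIndex (H ⊔ K) = Nat.card (H ⊔ K : Subgroup G) :=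
    card_mul_relIndex' le_sup_right
  rw [Subgroup.relIndex_sup_right] at h4
  rw [Subgroup.inf_relIndex_left] at h2
  have hpos : 0 < Nat.card (H ⊓ K : Subgroup G) := Nat.card_pos
  have hpos2 : 0 < K.relIndex H := by
    unfold Subgroup.relIndex
    exact Nat.pos_of_ne_zero (Subgroup.index_ne_zero_of_finite)
  have : Nat.card (H ⊓ K : Subgroup G) * K.relIndex H * (H ⊓ K).relIndex K =
      Nat.card (H ⊓ K : Subgroup G) * K.relIndex H * H.relIndex (H ⊔ K) := by
    calc _ = (Nat.card (H ⊓ K : Subgroup G) * (H ⊓ K).relIndex K) * K.relIndex H := by ring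
      _ = Nat.card K * K.relIndex H := by rw [h1]
      _ = Nat.card H * H.relIndex (H ⊔ K) := by rw [h4, h3]
      _ = _ := by rw [← h2]
  exact Nat.eq_of_mul_eq_mul_left (Nat.mul_pos hpos hpos2) this

theorem not_dvd_relIndex_inf_normal [Finite G] {p : ℕ} [Fact p.Prime]
    (S : Sylow p G) (C : Subgroup G) [C.Normal] : ¬ p ∣ ((S : Subgroup G) ⊓ C).relIndex C := by
  rw [relIndex_inf_of_normal]
  intro h
  exact S.not_dvd_index (h.trans (Subgroup.relIndex_dvd_index_of_le le_sup_left))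

/-- Frattini argument for the intersection of a Sylow subgroup with a normal subgroup: every
element is a product of an element of the normal subgroup and an element normalizing the
intersection. -/
theorem frattini_inf [Finite G] {p : ℕ} [Fact p.Prime] (S : Sylow p G) (C : Subgroup G)
    [C.Normal] (g : G) :
    ∃ c ∈ C, ∃ n ∈ Subgroup.normalizer ((((S : Subgroup G) ⊓ C : Subgroup G)) : Set G),
      g = c * n := by
  have hpg : IsPGroup p (((S : Subgroup G) ⊓ C).subgroupOf C) :=
    (S.isPGroup'.to_le inf_le_left).comap_subtype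
  have hidx : ¬ p ∣ (((S : Subgroup G) ⊓ C).subgroupOf C).index :=
    not_dvd_relIndex_inf_normal S C
  let P : Sylow p C := hpg.toSylow hidx
  have hP : (P : Subgroup C) = ((S : Subgroup G) ⊓ C).subgroupOf C := IsPGroup.toSylow_coe _ _
  have hF := Sylow.normalizer_sup_eq_top P
  have hmap : (P : Subgroup C).map C.subtype = (S : Subgroup G) ⊓ C := by
    rw [hP, Subgroup.subgroupOf_map_subtype, inf_assoc, inf_idem]
  rw [hmap, sup_comm] at hF
  have hg : g ∈ ((C ⊔ Subgroup.normalizer ((((S : Subgroup G) ⊓ C : Subgroup G)) : Set G) :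
      Subgroup G) : Set G) := by
    rw [hF]; exact Subgroup.mem_top g
  rw [Subgroup.normal_mul, Set.mem_mul] at hg
  obtain ⟨c, hc, n, hn, hcn⟩ := hg
  exact ⟨c, hc, n, hn, hcn.symm⟩

end general

section thompson

variable {G : Type u} [Group G] {p : ℕ}

/-- The subgroup generated by the largest elementary abelian subgroups of `G` contained in `P`. -/
def Jm (p : ℕ) (P : Subgroup G) : Subgroup G :=
  sSup {B : Subgroup G | B ≤ P ∧ B ∈ Cfsg.maxElementaryAbelianSubgroups p G}

theorem Jm_map (φ : G ≃* G) (P : Subgroup G) :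
    (Jm p P).map φ.toMonoidHom = Jm p (P.map φ.toMonoidHom) := by
  have key : ∀ (ψ : G ≃* G) (Q : Subgroup G),
      (Jm p Q).map ψ.toMonoidHom ≤ Jm p (Q.map ψ.toMonoidHom) := by
    intro ψ Q
    rw [Subgroup.map_le_iff_le_comap]
    apply sSup_le
    rintro B ⟨hBQ, hB⟩
    rw [← Subgroup.map_le_iff_le_comap]
    exact le_sSup ⟨Subgroup.map_mono hBQ, map_mem_max ψ hB⟩
  apply le_antisymm (key φ P)
  have h1 := key φ.symm (P.map φ.toMonoidHom)
  have h2 : (P.map φ.toMonoidHom).map φ.symm.toMonoidHom = P := by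
    rw [Subgroup.map_map]
    have : φ.symm.toMonoidHom.comp φ.toMonoidHom = MonoidHom.id G := by ext x; simp
    rw [this, Subgroup.map_id]
  rw [h2] at h1
  have h3 := Subgroup.map_mono (f := φ.toMonoidHom) h1
  rwa [Cfsg.Agent.S0622.map_symm_map] at h3

theorem Jm_le (P : Subgroup G) : Jm p P ≤ P := by
  apply sSup_le
  rintro B ⟨hBP, -⟩
  exact hBP

theorem Jm_le_thompson (P : Subgroup G) : Jm p P ≤ Cfsg.thompsonSubgroup p G := by
  apply sSup_le
  rintro B ⟨-, hB⟩
  exact le_sSup hB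

theorem Jm_eq_of_le {P Q : Subgroup G} (hPQ : P ≤ Q) (h : Jm p Q ≤ P) : Jm p P = Jm p Q := by
  apply le_antisymm
  · apply sSup_le
    rintro B ⟨hBP, hB⟩
    exact le_sSup ⟨hBP.trans hPQ, hB⟩
  · apply sSup_le
    rintro B ⟨hBQ, hB⟩
    have : B ≤ Jm p Q := le_sSup ⟨hBQ, hB⟩
    exact le_sSup ⟨this.trans h, hB⟩

theorem thompsonSubgroupOf_eq_Jm {U A : Subgroup G}
    (hA : A ∈ Cfsg.maxElementaryAbelianSubgroups p G) (hAU : A ≤ U) :
    Cfsg.thompsonSubgroupOf p U = Jm p U := by
  apply le_antisymm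
  · unfold Cfsg.thompsonSubgroupOf
    rw [Subgroup.map_le_iff_le_comap]
    apply sSup_le
    intro B hB
    rw [← Subgroup.map_le_iff_le_comap]
    refine le_sSup ⟨?_, map_subtype_mem_max hA hAU hB⟩
    rintro _ ⟨x, -, rfl⟩
    exact x.2
  · apply sSup_le
    rintro B ⟨hBU, hB⟩
    exact le_thompsonSubgroupOf hB hBU

theorem coe_smul_sylow (g : G) (S : Sylow p G) :
    ((g • S : Sylow p G) : Subgroup G) = (S : Subgroup G).map (MulAut.conj g).toMonoidHom := by
  rw [Sylow.coe_subgroup_smul, Subgroup.pointwise_smul_def]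
  rfl

theorem exists_max_le_sylow [Finite G] [Fact p.Prime] (S : Sylow p G) :
    ∃ A : Subgroup G, A ∈ Cfsg.maxElementaryAbelianSubgroups p G ∧ A ≤ S := by
  obtain ⟨A₀, hA₀⟩ := exists_mem_max (G := G) (p := p)
  obtain ⟨T, hT⟩ := (ea_isPGroup hA₀.1).exists_le_sylow
  obtain ⟨g, hg⟩ := MulAction.exists_smul_eq G T S
  refine ⟨A₀.map (MulAut.conj g).toMonoidHom, map_mem_max (MulAut.conj g) hA₀, ?_⟩
  rw [← hg, coe_smul_sylow]
  exact Subgroup.map_mono hT

theorem thompsonSubgroupOf_sylow_eq_Jm [Finite G] [Fact p.Prime] (S : Sylow p G) :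
    Cfsg.thompsonSubgroupOf p (S : Subgroup G) = Jm p (S : Subgroup G) := by
  obtain ⟨A, hA, hAS⟩ := exists_max_le_sylow S
  exact thompsonSubgroupOf_eq_Jm hA hAS

end thompson

section main

variable {G : Type u} [Group G] {p : ℕ}

/-- `Ω₁(Z(S))` as a subgroup of `G`. -/
abbrev ZZ (p : ℕ) (S : Subgroup G) : Subgroup G :=
  Cfsg.omegaOne p (S ⊓ Subgroup.centralizer (S : Set G))

theorem ZZ_le_centralizer (S : Subgroup G) : ZZ p S ≤ Subgroup.centralizer (S : Set G) := by
  unfold ZZ Cfsg.omegaOne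
  rw [Subgroup.closure_le]
  rintro x ⟨hx, -⟩
  exact hx.2

theorem ZZ_map (φ : G ≃* G) (S : Subgroup G) :
    (ZZ p S).map φ.toMonoidHom = ZZ p (S.map φ.toMonoidHom) := by
  unfold ZZ
  rw [Cfsg.Agent.S0622.omegaOne_map_of_injective φ.toMonoidHom φ.injective,
    Cfsg.Agent.S0622.map_inf_centralizer_of_injective φ.toMonoidHom φ.injective]

end main

/-- With trivial p'-core, Thompson factorizability is equivalent to J(G) centralizing the subgroup generated by all Ω₁(Z(S)), S Sylow. -/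
theorem result {G : Type*} [Group G] [Finite G] {p : ℕ} [Fact p.Prime] (hO : Cfsg.pPrimeCore p G = ⊥) : Cfsg.IsThompsonFactorizable p G ↔ Cfsg.thompsonSubgroup p G ≤ Subgroup.centralizer ((⨆ S : Sylow p G, Cfsg.omegaOne p (((S : Subgroup G)) ⊓ Subgroup.centralizer ((S : Subgroup G) : Set G)) : Subgroup G) : Set G) := by
  constructor
  · intro hfac
    rw [Subgroup.le_centralizer_iff, iSup_le_iff]
    intro T'
    rw [← Subgroup.le_centralizer_iff]
    unfold Cfsg.thompsonSubgroup
    apply sSup_le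
    intro A hA
    obtain ⟨T, hAT⟩ := (ea_isPGroup hA.1).exists_le_sylow
    have hAJ : A ≤ Cfsg.thompsonSubgroupOf p (T : Subgroup G) := le_thompsonSubgroupOf hA hAT
    refine hAJ.trans ?_
    obtain ⟨g, hg⟩ := MulAction.exists_smul_eq G T T'
    obtain ⟨x, hx, c, hc, n, hn, hgxcn⟩ := hfac T g⁻¹
    rw [hO, Subgroup.mem_bot] at hx
    subst hx
    rw [one_mul] at hgxcn
    have hZ : ZZ p (T' : Subgroup G) = (ZZ p (T : Subgroup G)).map (MulAut.conj g).toMonoidHom := by
      rw [ZZ_map, ← coe_smul_sylow, hg]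
    show Cfsg.thompsonSubgroupOf p (T : Subgroup G) ≤
      Subgroup.centralizer ((ZZ p (T' : Subgroup G) : Subgroup G) : Set G)
    rw [hZ]
    intro a ha
    rw [Subgroup.mem_centralizer_iff]
    rintro _ ⟨z, hz, rfl⟩
    -- a' = n a n⁻¹ lies in J(T)
    have ha' : n * a * n⁻¹ ∈ Cfsg.thompsonSubgroupOf p (T : Subgroup G) :=
      (Subgroup.mem_normalizer_iff.mp hn a).mp ha
    have haT : n * a * n⁻¹ ∈ (T : Subgroup G) := by
      obtain ⟨y, -, hy⟩ := ha'
      rw [← hy]; exact y.2
    have h1 : (n * a * n⁻¹) * z = z * (n * a * n⁻¹) := (ZZ_le_centralizer _ hz) _ haT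
    have h2 : z * c = c * z := hc z hz
    have hg' : g = n⁻¹ * c⁻¹ := by
      rw [← inv_inv g, hgxcn]; group
    show (MulAut.conj g) z * a = a * (MulAut.conj g) z
    rw [MulAut.conj_apply, hg']
    have h3 : a = n⁻¹ * (n * a * n⁻¹) * n := by group
    have h2' : c⁻¹ * z = z * c⁻¹ := by
      calc c⁻¹ * z = c⁻¹ * (z * c) * c⁻¹ := by group
        _ = c⁻¹ * (c * z) * c⁻¹ := by rw [h2]
        _ = z * c⁻¹ := by group
    rw [h3]
    generalize n * a * n⁻¹ = b at h1
    calc n⁻¹ * c⁻¹ * z * (n⁻¹ * c⁻¹)⁻¹ * (n⁻¹ * b * n)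
        = n⁻¹ * (c⁻¹ * z) * c * b * n := by group
      _ = n⁻¹ * (z * c⁻¹) * c * b * n := by rw [h2']
      _ = n⁻¹ * (z * b) * n := by group
      _ = n⁻¹ * (b * z) * n := by rw [h1]
      _ = n⁻¹ * b * (z * c⁻¹) * c * n := by group
      _ = n⁻¹ * b * (c⁻¹ * z) * c * n := by rw [h2']
      _ = n⁻¹ * b * n * (n⁻¹ * c⁻¹ * z * (n⁻¹ * c⁻¹)⁻¹) := by group
  · intro hJ S g
    set V : Subgroup G := ⨆ S : Sylow p G, Cfsg.omegaOne p (((S : Subgroup G)) ⊓
      Subgroup.centralizer ((S : Subgroup G) : Set G)) with hV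
    have hVn : V.Normal := by
      constructor
      intro v hv g
      have hle : V.map (MulAut.conj g).toMonoidHom ≤ V := by
        rw [hV, Subgroup.map_iSup]
        apply iSup_le
        intro T
        have := ZZ_map (p := p) (MulAut.conj g) (T : Subgroup G)
        unfold ZZ at this
        rw [this, ← coe_smul_sylow]
        exact le_iSup (fun S : Sylow p G => Cfsg.omegaOne p (((S : Subgroup G)) ⊓
          Subgroup.centralizer ((S : Subgroup G) : Set G))) (g • T)
      exact hle ⟨v, hv, rfl⟩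
    have : (Subgroup.centralizer (V : Set G)).Normal := Subgroup.normal_centralizer
    obtain ⟨c, hc, n, hn, hgcn⟩ := frattini_inf S (Subgroup.centralizer (V : Set G)) g
    refine ⟨1, Subgroup.one_mem _, c, ?_, n, ?_, by rw [one_mul, hgcn]⟩
    · have hle : Cfsg.omegaOne p (((S : Subgroup G)) ⊓
          Subgroup.centralizer ((S : Subgroup G) : Set G)) ≤ V :=
        le_iSup (fun S : Sylow p G => Cfsg.omegaOne p (((S : Subgroup G)) ⊓
          Subgroup.centralizer ((S : Subgroup G) : Set G))) S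
      exact Subgroup.centralizer_le (fun x hx => hle hx) hc
    · rw [thompsonSubgroupOf_sylow_eq_Jm]
      have h1 : Jm p ((S : Subgroup G) ⊓ Subgroup.centralizer (V : Set G)) = Jm p (S : Subgroup G) := by
        apply Jm_eq_of_le inf_le_left
        exact le_inf (Jm_le _) ((Jm_le_thompson _).trans hJ)
      rw [← h1, Subgroup.mem_normalizer_iff_map_conj_eq]
      have h2 : ((S : Subgroup G) ⊓ Subgroup.centralizer (V : Set G)).map (MulAut.conj n).toMonoidHom
          = (S : Subgroup G) ⊓ Subgroup.centralizer (V : Set G) :=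
        Subgroup.mem_normalizer_iff_map_conj_eq.mp hn
      have h3 := Jm_map (p := p) (MulAut.conj n) ((S : Subgroup G) ⊓ Subgroup.centralizer (V : Set G))
      rw [h2] at h3
      exact h3

end Cfsg.Agent.S0608
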