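import Cfsg.Statements.S1241
import Mathlib.GroupTheory.Transfer
import Mathlib.GroupTheory.Abelianization.Defs

set_option autoImplicit false
open Cfsg

namespace Cfsg.Agent.S1241

/-- The quotient `H ⧸ K` is commutative as soon as `K` contains all commutators of `H`. -/
@[reducible] def quotCommGroup {G : Type*} [Group G] (H K : Subgroup G)
    (hKn : (K.subgroupOf H).Normal)
    (hab : ∀ x ∈ H, ∀ y ∈ H, x * y * x⁻¹ * y⁻¹ ∈ K) : CommGroup (↥H ⧸ K.subgroupOf H) :=
  { (inferInstance : Group (↥H ⧸ K.subgroupOf H)) with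
    mul_comm := by
      intro a b
      induction a using QuotientGroup.induction_on with
      | H x =>
        induction b using QuotientGroup.induction_on with
        | H y =>
          rw [← QuotientGroup.mk_mul, ← QuotientGroup.mk_mul, QuotientGroup.eq,
            Subgroup.mem_subgroupOf]
          have := hab _ (H.inv_mem y.2) _ (H.inv_mem x.2)
          simpa [mul_assoc] using this }

open MulAction Subgroup in
/-- Transfer computation: under the control hypothesis, the transfer of `g` into `H ⧸ K` is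
`(g K) ^ [G : H]`. -/
theorem transfer_eq_pow {G : Type*} [Group G] [Finite G] (H : Subgroup G)
    {A : Type*} [CommGroup A] (ϕ : H →* A) (g : G) (hgH : g ∈ H)
    (hctrl : ∀ (m : ℕ) (a : G) (hmem : a * g ^ m * a⁻¹ ∈ H),
      ϕ ⟨a * g ^ m * a⁻¹, hmem⟩ = ϕ ⟨g, hgH⟩ ^ m) :
    MonoidHom.transfer ϕ g = ϕ ⟨g, hgH⟩ ^ H.index := by
  classical
  have : Fintype (Quotient (orbitRel (zpowers g) (G ⧸ H))) := Fintype.ofFinite _
  rw [MonoidHom.transfer_eq_prod_quotient_orbitRel_zpowers_quot]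
  have hfac : ∀ q : Quotient (orbitRel (zpowers g) (G ⧸ H)),
      ϕ ⟨q.out.out⁻¹ * g ^ Function.minimalPeriod (g • ·) q.out * q.out.out,
            QuotientGroup.out_conj_pow_minimalPeriod_mem H g q.out⟩ =
        ϕ ⟨g, hgH⟩ ^ Function.minimalPeriod (g • ·) q.out := by
    intro q
    have hmem := QuotientGroup.out_conj_pow_minimalPeriod_mem H g q.out
    have hmem' : q.out.out⁻¹ * g ^ Function.minimalPeriod (g • ·) q.out * (q.out.out⁻¹)⁻¹ ∈ H := by
      rwa [inv_inv]
    have := hctrl (Function.minimalPeriod (g • ·) q.out) (q.out.out⁻¹) hmem'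
    rw [← this]
    congr 2
    rw [inv_inv]
  simp_rw [hfac]
  rw [Finset.prod_pow_eq_pow_sum, ← Subgroup.index_eq_sum_minimalPeriod H g]

/-- Let G be a finite group, p a prime, H a subgroup of index prime to p, K a subgroup of H normal in H with H/K commutative, and g ∈ H ∖ K an element of p-power order such that for all integers m and all a ∈ G with a g^m a⁻¹ ∈ H one has a g^m a⁻¹ ∈ g^m K. Then g ∉ G'. -/
theorem result {G : Type*} [Group G] [Finite G] {p : ℕ} [Fact p.Prime] (H K : Subgroup G) (hHK : K ≤ H) (hKn : (K.subgroupOf H).Normal) (hab : ∀ x ∈ H, ∀ y ∈ H, x * y * x⁻¹ * y⁻¹ ∈ K) (hidx : Nat.Coprime p H.index) (g : G) (hgH : g ∈ H) (hgK : g ∉ K) (hgp : ∃ k : ℕ, orderOf g = p ^ k) (hctrl : ∀ (m : ℤ) (a : G), a * g ^ m * a⁻¹ ∈ H → (a * g ^ m * a⁻¹) * (g ^ m)⁻¹ ∈ K) : g ∉ commutator G := by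
  classical
  have hp : p.Prime := Fact.out
  let _ : CommGroup (↥H ⧸ K.subgroupOf H) := quotCommGroup H K hKn hab
  intro hcomm
  have hker : MonoidHom.transfer (QuotientGroup.mk' (K.subgroupOf H)) g = 1 :=
    MonoidHom.mem_ker.1 (Abelianization.commutator_subset_ker _ hcomm)
  have hctrl' : ∀ (m : ℕ) (a : G) (hmem : a * g ^ m * a⁻¹ ∈ H),
      (QuotientGroup.mk' (K.subgroupOf H)) ⟨a * g ^ m * a⁻¹, hmem⟩ =
        (QuotientGroup.mk' (K.subgroupOf H)) ⟨g, hgH⟩ ^ m := by
    intro m a hmem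
    rw [← map_pow, QuotientGroup.mk'_apply, QuotientGroup.mk'_apply, eq_comm, QuotientGroup.eq,
      Subgroup.mem_subgroupOf]
    have h1 := hctrl (m : ℤ) a (by simpa using hmem)
    have h2 : (a * g ^ (m : ℤ) * a⁻¹) * (g ^ (m : ℤ))⁻¹ ∈ H :=
      hHK h1
    have h3 : g ^ m ∈ H := H.pow_mem hgH m
    -- `K` is normal in `H`: conjugate by `g ^ m`
    have h4 := hKn.conj_mem ⟨_, h2⟩ (Subgroup.mem_subgroupOf.2 h1) ⟨(g ^ m)⁻¹, H.inv_mem h3⟩
    rw [Subgroup.mem_subgroupOf] at h4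
    simpa [mul_assoc] using h4
  rw [transfer_eq_pow H (QuotientGroup.mk' (K.subgroupOf H)) g hgH hctrl'] at hker
  obtain ⟨k, hk⟩ := hgp
  have hgk : (QuotientGroup.mk' (K.subgroupOf H)) ⟨g, hgH⟩ ^ (p ^ k) = 1 := by
    rw [← map_pow]
    have : (⟨g, hgH⟩ : H) ^ (p ^ k) = 1 := by
      apply Subtype.ext
      rw [Subgroup.coe_pow, Subgroup.coe_one]
      change g ^ (p ^ k) = 1
      rw [← hk, pow_orderOf_eq_one]
    rw [this, map_one]
  have hgcd := pow_gcd_eq_one.2 ⟨hker, hgk⟩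
  have hcop : Nat.gcd H.index (p ^ k) = 1 := (Nat.Coprime.pow_left k hidx).symm
  rw [hcop, pow_one, QuotientGroup.mk'_apply, QuotientGroup.eq_one_iff,
    Subgroup.mem_subgroupOf] at hgcd
  exact hgK hgcd

end Cfsg.Agent.S1241
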