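import Cfsg.Statements.S0092
import Cfsg.Agent.S1241
import Cfsg.Agent.Lib.Helper2_PResidual
import Cfsg.Agent.Lib.Helper1_SZ
import Mathlib.GroupTheory.SchurZassenhaus
import Mathlib.GroupTheory.Transfer

set_option autoImplicit false
open Cfsg

namespace Cfsg.Agent.S0092

open Cfsg.Agent.Lib.Helper2_PResidual
open scoped Pointwise

/-- `O^p(O^p(G)) = O^p(G)`. -/
theorem pResidual_pResidual_eq_top {G : Type*} [Group G] (p : ℕ) :
    pResidual p ↥(pResidual p G) = ⊤ := by
  unfold pResidual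
  have h := Subgroup.closure_closure_coe_preimage (k := {g : G | Nat.Coprime (orderOf g) p})
  convert h using 2
  ext y
  simp only [Set.mem_ofPred_eq, Set.mem_preimage]
  rw [Subgroup.orderOf_coe]

/-- In a group with `O^p(X) = X` and an abelian Sylow `p`-subgroup `P`, no nontrivial element of
`P` is central in `N_X(P)`. -/
theorem eq_one_of_central_normalizer {X : Type*} [Group X] [Finite X] {p : ℕ} [Fact p.Prime]
    (hX : pResidual p X = ⊤) (P : Sylow p X) [hP : IsMulCommutative P] (u : X) (hu : u ∈ P)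
    (hc : ∀ n ∈ Subgroup.normalizer ((P : Subgroup X) : Set X), n * u = u * n) : u = 1 := by
  classical
  let _ : CommGroup (P : Subgroup X) := { (inferInstance : Group (P : Subgroup X)) with
    mul_comm := fun a b => hP.is_comm.comm a b }
  set V : X →* (P : Subgroup X) := MonoidHom.transfer (MonoidHom.id (P : Subgroup X)) with hV
  have hpow : ∀ (m : ℕ), ∀ n ∈ Subgroup.normalizer ((P : Subgroup X) : Set X),
      n⁻¹ * u ^ m * n = u ^ m := by
    intro m n hn
    have h1 : n * u ^ m = u ^ m * n := by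
      have := hc n hn
      exact (Commute.pow_right (show Commute n u from this) m).eq
    rw [mul_assoc, ← h1, inv_mul_cancel_left]
  have hVu : V u = ⟨u, hu⟩ ^ (P : Subgroup X).index := by
    rw [hV]
    have := Cfsg.Agent.S1241.transfer_eq_pow (P : Subgroup X) (MonoidHom.id (P : Subgroup X)) u hu
      (by
        intro m a hmem
        have hum : u ^ m ∈ (P : Subgroup X) := Subgroup.pow_mem _ hu m
        have hmem' : (a⁻¹)⁻¹ * u ^ m * a⁻¹ ∈ (P : Subgroup X) := by rwa [inv_inv]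
        obtain ⟨n, hn, hn'⟩ := P.conj_eq_normalizer_conj_of_mem (u ^ m) a⁻¹ hum hmem'
        rw [inv_inv, hpow m n hn] at hn'
        apply Subtype.ext
        simp only [MonoidHom.id_apply, Subgroup.coe_pow]
        exact hn')
    simpa using this
  have hker : V.ker = ⊤ := by
    rw [eq_top_iff, ← hX]
    unfold pResidual
    rw [Subgroup.closure_le]
    intro g hg
    simp only [Set.mem_ofPred_eq] at hg
    rw [SetLike.mem_coe, MonoidHom.mem_ker]
    obtain ⟨k, hk⟩ := (P.isPGroup' ) (V g)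
    have h1 : orderOf (V g) ∣ p ^ k := orderOf_dvd_of_pow_eq_one hk
    have h2 : orderOf (V g) ∣ orderOf g := orderOf_map_dvd V g
    have h3 : (orderOf g).Coprime (p ^ k) := Nat.Coprime.pow_right k hg
    have h4 : orderOf (V g) = 1 := Nat.eq_one_of_dvd_coprimes h3 h2 h1
    exact orderOf_eq_one_iff.mp h4
  have hVu1 : V u = 1 := by
    have : u ∈ V.ker := by rw [hker]; trivial
    exact MonoidHom.mem_ker.mp this
  rw [hVu] at hVu1
  have h5 : u ^ (P : Subgroup X).index = 1 := by
    have := congrArg (fun x : (P : Subgroup X) => (x : X)) hVu1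
    simpa using this
  obtain ⟨k, hk⟩ := (P.isPGroup') ⟨u, hu⟩
  have h6 : u ^ p ^ k = 1 := by
    have := congrArg (fun x : (P : Subgroup X) => (x : X)) hk
    simpa using this
  have hcop : (p ^ k).Coprime (P : Subgroup X).index :=
    Nat.Coprime.pow_left k ((Nat.Prime.coprime_iff_not_dvd Fact.out).mpr P.not_dvd_index)
  have h7 : orderOf u ∣ 1 := by
    rw [← Nat.Coprime.gcd_eq_one hcop]
    exact Nat.dvd_gcd (orderOf_dvd_of_pow_eq_one h6) (orderOf_dvd_of_pow_eq_one h5)
  exact orderOf_eq_one_iff.mp (Nat.dvd_one.mp h7)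

/-- Frattini argument for complements of an abelian normal Hall subgroup `Q` of `M`, relative to a
subgroup `N` normalizing both. -/
theorem exists_complement_normalizer {G : Type*} [Group G] [Finite G] (Q M N : Subgroup G)
    (hQM : Q ≤ M) (hMN : M ≤ N) (hNQ : N ≤ Subgroup.normalizer (Q : Set G))
    (hNM : N ≤ Subgroup.normalizer (M : Set G))
    (hQc : ∀ a ∈ Q, ∀ b ∈ Q, a * b = b * a)
    (hcop : (Nat.card Q).Coprime (Q.relIndex M)) :
    ∃ L : Subgroup G, L ≤ M ∧ Q ⊓ L = ⊥ ∧ Q ⊔ L = M ∧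
      ∀ n ∈ N, ∃ a ∈ Q, a⁻¹ * n ∈ Subgroup.normalizer (L : Set G) := by
  classical
  have hAn : (Q.subgroupOf M).Normal :=
    (Subgroup.normal_subgroupOf_iff_le_normalizer hQM).mpr (hMN.trans hNQ)
  have hAc : IsMulCommutative (Q.subgroupOf M) := by
    refine ⟨⟨fun a b => ?_⟩⟩
    apply Subtype.ext
    apply Subtype.ext
    have := hQc (a : M) a.2 (b : M) b.2
    simpa using this
  have hcardA : Nat.card (Q.subgroupOf M) = Nat.card Q :=
    Nat.card_congr (Subgroup.subgroupOfEquivOfLe hQM).toEquiv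
  have hcop' : (Nat.card (Q.subgroupOf M)).Coprime (Q.subgroupOf M).index := by
    rw [hcardA]; exact hcop
  obtain ⟨L₀, hL₀⟩ := Subgroup.exists_right_complement'_of_coprime hcop'
  have hL₀card : Nat.card L₀ = (Q.subgroupOf M).index :=
    Cfsg.Agent.Lib.Helper1_SZ.card_eq_index_of_isComplement' _ _ hL₀
  refine ⟨L₀.map M.subtype, Subgroup.map_subtype_le L₀, ?_, ?_, ?_⟩
  · rw [eq_bot_iff]
    rintro x ⟨hxQ, ⟨x₀, hx₀, rfl⟩⟩
    have h1 : x₀ ∈ Q.subgroupOf M ⊓ L₀ := ⟨hxQ, hx₀⟩
    rw [hL₀.disjoint.eq_bot] at h1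
    rw [Subgroup.mem_bot] at h1 ⊢
    rw [h1]; rfl
  · apply le_antisymm
    · exact sup_le hQM (Subgroup.map_subtype_le L₀)
    · intro m hm
      obtain ⟨⟨a, l⟩, hal⟩ := (hL₀.existsUnique ⟨m, hm⟩).exists
      simp only at hal
      have h1 : m = (a : M) * (l : M) := by
        have := congrArg (fun x : M => (x : G)) hal
        simpa using this.symm
      rw [h1]
      exact Subgroup.mul_mem _ (Subgroup.mem_sup_left a.2)
        (Subgroup.mem_sup_right ⟨l, l.2, rfl⟩)
  · intro n hn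
    -- the conjugate of `L` by `n`, inside `M`
    have hnM : ∀ x ∈ M, n * x * n⁻¹ ∈ M := fun x hx => ((hNM hn) x).mp hx
    let c : M →* M :=
      { toFun := fun x => ⟨n * x * n⁻¹, hnM x x.2⟩
        map_one' := by apply Subtype.ext; simp
        map_mul' := fun x y => by apply Subtype.ext; simp [mul_assoc] }
    have hcinj : Function.Injective c := by
      intro x y hxy
      have := congrArg (fun x : M => (x : G)) hxy
      simp only [c, MonoidHom.coe_mk, OneHom.coe_mk] at this
      apply Subtype.ext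
      exact mul_left_cancel (mul_right_cancel this)
    have hL₁card : Nat.card (L₀.map c) = (Q.subgroupOf M).index := by
      rw [← hL₀card]
      exact Nat.card_congr (L₀.equivMapOfInjective c hcinj).toEquiv.symm
    obtain ⟨a, ha, hconj⟩ := Cfsg.Agent.Lib.Helper1_SZ.sz_abelian_conj (Q.subgroupOf M) hcop' L₀
      (L₀.map c) hL₀card hL₁card
    refine ⟨(a : G), ha, ?_⟩
    -- `a⁻¹ n` maps `L` into `L`
    have hsub : (L₀.map M.subtype).map (MulAut.conj ((a : G)⁻¹ * n)).toMonoidHom ≤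
        L₀.map M.subtype := by
      rintro _ ⟨_, ⟨x₀, hx₀, rfl⟩, rfl⟩
      have h1 : c x₀ ∈ L₀.map c := ⟨x₀, hx₀, rfl⟩
      rw [← hconj] at h1
      obtain ⟨y₀, hy₀, hy⟩ := h1
      refine ⟨y₀, hy₀, ?_⟩
      have h2 := congrArg (fun x : M => (x : G)) hy
      simp only [c, MonoidHom.coe_mk, OneHom.coe_mk, MulDistribMulAction.toMonoidEnd_apply,
        MulDistribMulAction.toMonoidHom_apply, MulAut.smul_def, MulAut.conj_apply,
        Subgroup.coe_mul, Subgroup.coe_inv] at h2
      simp only [Subgroup.coe_subtype, MulEquiv.coe_toMonoidHom, MulAut.conj_apply, mul_inv_rev,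
        inv_inv]
      calc (y₀ : G) = (a : G)⁻¹ * ((a : G) * y₀ * (a : G)⁻¹) * (a : G) := by group
        _ = (a : G)⁻¹ * (n * x₀ * n⁻¹) * (a : G) := by rw [h2]
        _ = _ := by group
    have heq : (L₀.map M.subtype).map (MulAut.conj ((a : G)⁻¹ * n)).toMonoidHom =
        L₀.map M.subtype := by
      apply Subgroup.eq_of_le_of_card_ge hsub
      apply le_of_eq
      exact Nat.card_congr ((L₀.map M.subtype).equivMapOfInjective _
        (MulAut.conj ((a : G)⁻¹ * n)).injective).toEquiv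
    exact Subgroup.mem_normalizer_iff_map_conj_eq.mpr heq

/-- Elements of `M` of order prime to `[M : Q]` lie in the normal subgroup `Q` of `M`. -/
theorem mem_of_coprime_relIndex {G : Type*} [Group G] [Finite G] (Q M : Subgroup G)
    (hQM : Q ≤ M) (hMQ : M ≤ Subgroup.normalizer (Q : Set G)) (x : G) (hx : x ∈ M)
    (hcop : (orderOf x).Coprime (Q.relIndex M)) : x ∈ Q := by
  have hAn : (Q.subgroupOf M).Normal :=
    (Subgroup.normal_subgroupOf_iff_le_normalizer hQM).mpr hMQ
  set x' : M := ⟨x, hx⟩ with hx'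
  have h1 : orderOf (QuotientGroup.mk' (Q.subgroupOf M) x') ∣ orderOf x := by
    have := orderOf_map_dvd (QuotientGroup.mk' (Q.subgroupOf M)) x'
    rwa [hx', Subgroup.orderOf_mk] at this
  have h2 : orderOf (QuotientGroup.mk' (Q.subgroupOf M) x') ∣ Q.relIndex M := by
    have : Q.relIndex M = Nat.card (M ⧸ Q.subgroupOf M) := by
      rw [Subgroup.relIndex, Subgroup.index_eq_card]
    rw [this]
    exact orderOf_dvd_natCard _
  have h3 : orderOf (QuotientGroup.mk' (Q.subgroupOf M) x') = 1 :=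
    Nat.eq_one_of_dvd_coprimes hcop h1 h2
  have h4 := orderOf_eq_one_iff.mp h3
  rw [QuotientGroup.mk'_apply, QuotientGroup.eq_one_iff] at h4
  exact h4

/-- If the Sylow p-subgroups of O^p(G) are abelian then G splits over O^p(G). -/
theorem result {G : Type*} [Group G] [Finite G] {p : ℕ} [Fact p.Prime] (h : ∀ Q : Sylow p (Cfsg.pResidual p G), IsMulCommutative Q) : ∃ K : Subgroup G, K.IsComplement' (Cfsg.pResidual p G) := by
  classical
  have hp : p.Prime := Fact.out
  set K := pResidual p G with hK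
  have hKn : K.Normal := pResidual_normal
  obtain ⟨Q₀⟩ : Nonempty (Sylow p K) := inferInstance
  have hQ₀c := h Q₀
  set Q : Subgroup G := (Q₀ : Subgroup K).map K.subtype with hQ
  have hQK : Q ≤ K := Subgroup.map_subtype_le _
  set N : Subgroup G := Subgroup.normalizer (Q : Set G) with hN
  set M : Subgroup G := N ⊓ K with hM
  have hQN : Q ≤ N := Subgroup.le_normalizer
  have hQM : Q ≤ M := le_inf hQN hQK
  have hMN : M ≤ N := inf_le_left
  have hNM : N ≤ Subgroup.normalizer (M : Set G) := by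
    intro n hn
    rw [Subgroup.mem_normalizer_iff]
    intro x
    constructor
    · rintro ⟨hx1, hx2⟩
      exact ⟨N.mul_mem (N.mul_mem hn hx1) (N.inv_mem hn), hKn.conj_mem x hx2 n⟩
    · rintro ⟨hx1, hx2⟩
      refine ⟨?_, ?_⟩
      · have := N.mul_mem (N.mul_mem (N.inv_mem hn) hx1) hn
        simpa [mul_assoc] using this
      · have := hKn.conj_mem _ hx2 n⁻¹
        simpa [mul_assoc] using this
  have hQc : ∀ a ∈ Q, ∀ b ∈ Q, a * b = b * a := by
    rintro _ ⟨a, ha, rfl⟩ _ ⟨b, hb, rfl⟩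
    have h1 := hQ₀c.is_comm.comm ⟨a, ha⟩ ⟨b, hb⟩
    have h2 := congrArg (fun x : (Q₀ : Subgroup K) => ((x : K) : G)) h1
    simpa using h2
  have hcardQ : Nat.card Q = Nat.card (Q₀ : Subgroup K) :=
    Nat.card_congr
      ((Q₀ : Subgroup K).equivMapOfInjective K.subtype K.subtype_injective).toEquiv.symm
  have hrelK : Q.relIndex K = (Q₀ : Subgroup K).index := by
    rw [Subgroup.relIndex, hQ, Subgroup.subgroupOf,
      Subgroup.comap_map_eq_self_of_injective K.subtype_injective]
  have hnd : ¬ p ∣ Q.relIndex M := by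
    intro hdvd
    have h1 : Q.relIndex M * M.relIndex K = Q.relIndex K :=
      Subgroup.relIndex_mul_relIndex Q M K hQM inf_le_right
    have h2 : p ∣ (Q₀ : Subgroup K).index := by
      rw [← hrelK, ← h1]; exact Dvd.dvd.mul_right hdvd _
    exact Q₀.not_dvd_index h2
  have hcopp : Nat.Coprime p (Q.relIndex M) := (Nat.Prime.coprime_iff_not_dvd hp).mpr hnd
  have hcop : (Nat.card Q).Coprime (Q.relIndex M) := by
    obtain ⟨k, hk⟩ := IsPGroup.iff_card.mp Q₀.isPGroup'
    rw [hcardQ, hk]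
    exact Nat.Coprime.pow_left k hcopp
  obtain ⟨L, hLM, hQL, hQLM, hfrat⟩ :=
    exists_complement_normalizer Q M N hQM hMN le_rfl hNM hQc hcop
  set R : Subgroup G := N ⊓ Subgroup.normalizer (L : Set G) with hR
  -- Claim A: `R ∩ Q = 1`
  have hRQ : ∀ u ∈ R, u ∈ Q → u = 1 := by
    rintro _ huR ⟨u₀, hu₀, rfl⟩
    have h1 : u₀ = 1 := by
      refine eq_one_of_central_normalizer (pResidual_pResidual_eq_top p) Q₀ u₀ hu₀ ?_
      intro n hn
      have hnN : (n : G) ∈ N := by
        rw [hN, Subgroup.mem_normalizer_iff]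
        rw [Subgroup.mem_normalizer_iff] at hn
        intro x
        constructor
        · rintro ⟨x₀, hx₀, rfl⟩
          exact ⟨n * x₀ * n⁻¹, (hn x₀).mp hx₀, by simp⟩
        · rintro ⟨y₀, hy₀, hy⟩
          have hxK : x ∈ K := by
            have h2 : x = (n : G)⁻¹ * ((n : G) * x * (n : G)⁻¹) * (n : G) := by group
            rw [h2, ← hy]
            exact K.mul_mem (K.mul_mem (K.inv_mem n.2) y₀.2) n.2
          refine ⟨⟨x, hxK⟩, ?_, rfl⟩
          apply (hn ⟨x, hxK⟩).mpr
          have : n * ⟨x, hxK⟩ * n⁻¹ = y₀ := by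
            apply Subtype.ext
            simpa using hy.symm
          rw [this]; exact hy₀
      have hnM : (n : G) ∈ Q ⊔ L := by rw [hQLM]; exact ⟨hnN, n.2⟩
      have hcent : Q ⊔ L ≤ Subgroup.centralizer {((u₀ : K) : G)} := by
        apply sup_le
        · intro q hq
          rw [Subgroup.mem_centralizer_singleton_iff]
          exact hQc _ hq _ ⟨u₀, hu₀, rfl⟩
        · intro l hl
          rw [Subgroup.mem_centralizer_singleton_iff]
          have hlN : l ∈ N := hMN (hLM hl)
          have huQ : ((u₀ : K) : G) ∈ Q := ⟨u₀, hu₀, rfl⟩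
          have hc1 : ((u₀ : K) : G) * l * ((u₀ : K) : G)⁻¹ * l⁻¹ ∈ L :=
            L.mul_mem ((huR.2 l).mp hl) (L.inv_mem hl)
          have hc2 : ((u₀ : K) : G) * l * ((u₀ : K) : G)⁻¹ * l⁻¹ ∈ Q := by
            have h3 : l * ((u₀ : K) : G)⁻¹ * l⁻¹ ∈ Q := (hlN _).mp (Q.inv_mem huQ)
            have h4 := Q.mul_mem huQ h3
            have h5 : ((u₀ : K) : G) * l * ((u₀ : K) : G)⁻¹ * l⁻¹ =
                ((u₀ : K) : G) * (l * ((u₀ : K) : G)⁻¹ * l⁻¹) := by group
            rw [h5]; exact h4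
          have hc3 : ((u₀ : K) : G) * l * ((u₀ : K) : G)⁻¹ * l⁻¹ ∈ Q ⊓ L := ⟨hc2, hc1⟩
          rw [hQL, Subgroup.mem_bot] at hc3
          have h6 : ((u₀ : K) : G) * l = l * ((u₀ : K) : G) := by
            have h7 : ((u₀ : K) : G) * l = (((u₀ : K) : G) * l * ((u₀ : K) : G)⁻¹ * l⁻¹) *
                (l * ((u₀ : K) : G)) := by group
            rw [h7, hc3, one_mul]
          exact h6.symm
      have h8 := hcent hnM
      rw [Subgroup.mem_centralizer_singleton_iff] at h8
      apply Subtype.ext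
      simpa using h8
    rw [h1]; rfl
  -- Claim B: `R` covers `G / K`
  have hfr : N ⊔ K = ⊤ := Sylow.normalizer_sup_eq_top Q₀
  have hcover : ∀ g : G, ∃ r ∈ R, r⁻¹ * g ∈ K := by
    intro g
    have hg : g ∈ N ⊔ K := by rw [hfr]; trivial
    obtain ⟨n, hn, k, hk, rfl⟩ := Subgroup.mem_sup_of_normal_right.mp hg
    obtain ⟨a, ha, har⟩ := hfrat n hn
    refine ⟨a⁻¹ * n, ⟨N.mul_mem (N.inv_mem (hQN ha)) hn, har⟩, ?_⟩
    have h1 : (a⁻¹ * n)⁻¹ * (n * k) = n⁻¹ * a * n * k := by group
    rw [h1]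
    have h2 : n⁻¹ * a * n ∈ K := by
      have := hKn.conj_mem a (hQK ha) n⁻¹
      simpa using this
    exact K.mul_mem h2 hk
  obtain ⟨C₀⟩ : Nonempty (Sylow p R) := inferInstance
  refine ⟨(C₀ : Subgroup R).map R.subtype, ?_⟩
  apply Subgroup.isComplement'_of_disjoint_and_mul_eq_univ
  · rw [Subgroup.disjoint_def]
    rintro _ ⟨x₀, hx₀, rfl⟩ hxK
    have hxR : ((x₀ : R) : G) ∈ R := x₀.2
    have hxM : ((x₀ : R) : G) ∈ M := ⟨hxR.1, hxK⟩
    have hxQ : ((x₀ : R) : G) ∈ Q := by
      apply mem_of_coprime_relIndex Q M hQM hMN _ hxM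
      obtain ⟨j, hj⟩ := (C₀.isPGroup') ⟨x₀, hx₀⟩
      have h1 : ((x₀ : R) : G) ^ p ^ j = 1 := by
        have := congrArg (fun x : (C₀ : Subgroup R) => ((x : R) : G)) hj
        simpa using this
      have h2 : orderOf ((x₀ : R) : G) ∣ p ^ j := orderOf_dvd_of_pow_eq_one h1
      exact Nat.Coprime.coprime_dvd_left h2 (Nat.Coprime.pow_left j hcopp)
    exact hRQ _ hxR hxQ
  · -- `C K = G`
    set f : R →* G ⧸ K := (QuotientGroup.mk' K).comp R.subtype with hf
    have hfsurj : Function.Surjective f := by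
      intro y
      obtain ⟨g, rfl⟩ := QuotientGroup.mk_surjective y
      obtain ⟨r, hr, hrg⟩ := hcover g
      refine ⟨⟨r, hr⟩, ?_⟩
      simp only [hf, MonoidHom.coe_comp, Function.comp_apply, Subgroup.coe_subtype,
        QuotientGroup.mk'_apply]
      exact QuotientGroup.eq.mpr hrg
    have hidx1 : ((C₀ : Subgroup R).map f).index ∣ (C₀ : Subgroup R).index :=
      Subgroup.index_map_dvd _ hfsurj
    have hidx2 : ((C₀ : Subgroup R).map f).index ∣ Nat.card (G ⧸ K) := Subgroup.index_dvd_card _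
    obtain ⟨k, hk⟩ := IsPGroup.iff_card.mp (isPGroup_quotient_pResidual (G := G) (p := p))
    rw [hk] at hidx2
    obtain ⟨i, -, hi⟩ := (Nat.dvd_prime_pow hp).mp hidx2
    have hi0 : i = 0 := by
      by_contra hne
      have h1 : p ∣ ((C₀ : Subgroup R).map f).index := by
        rw [hi]; exact dvd_pow_self p hne
      exact C₀.not_dvd_index (h1.trans hidx1)
    rw [hi0, pow_zero, Subgroup.index_eq_one] at hi
    rw [Set.eq_univ_iff_forall]
    intro g
    have hg : (QuotientGroup.mk g : G ⧸ K) ∈ (C₀ : Subgroup R).map f := by rw [hi]; trivial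
    obtain ⟨c, hc, hcg⟩ := hg
    simp only [hf, MonoidHom.coe_comp, Function.comp_apply, Subgroup.coe_subtype,
      QuotientGroup.mk'_apply] at hcg
    have h1 : ((c : R) : G)⁻¹ * g ∈ K := QuotientGroup.eq.mp hcg
    rw [Set.mem_mul]
    exact ⟨(c : G), ⟨c, hc, rfl⟩, ((c : R) : G)⁻¹ * g, h1, by group⟩

end Cfsg.Agent.S0092
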