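import Mathlib
import Cfsg.Statements.S0521
import Cfsg.Agent.Lib.Helper1_Frattini
import Cfsg.Agent.Lib.Helper30_Subnormal
import Cfsg.Agent.Lib.Helper55_Fitting
import Cfsg.Agent.Lib.Helper63_PGroup
import Cfsg.Agent.Lib.Helper24_CoprimeAction
import Cfsg.Agent.Lib.Helper52_PStabUse

set_option autoImplicit false
set_option linter.unusedSectionVars false
set_option linter.style.haveILetI false
universe u

namespace Cfsg.Agent.S0521

open Cfsg Cfsg.Agent.Lib.Helper52_PStabUse
open scoped commutatorElement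

section burnside

variable {Y : Type u} [Group Y] [Finite Y]

/-- the Frattini subgroup of `R`, as a subgroup of the ambient group -/
noncomputable def phi (R : Subgroup Y) : Subgroup Y := (frattini R).map R.subtype

theorem phi_le (R : Subgroup Y) : phi R ≤ R := Subgroup.map_subtype_le _

theorem phi_normal (R : Subgroup Y) [hR : R.Normal] : (phi R).Normal := by
  have h1 := Cfsg.Agent.Lib.Helper24_CoprimeAction.normalizer_le_normalizer_map_of_characteristic R
    (frattini R)
  have h2 : Subgroup.normalizer (R : Set Y) = ⊤ := Subgroup.normalizer_eq_top_iff.2 hR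
  rw [h2, top_le_iff] at h1
  exact Subgroup.normalizer_eq_top_iff.1 h1

/-- **Burnside**: a subgroup of order coprime to `|R|` acting trivially on `R/Φ(R)` centralizes `R`. -/
theorem le_centralizer_of_commutator_le_phi (p : ℕ) [Fact p.Prime] (R : Subgroup Y) [hR : R.Normal]
    (hRp : IsPGroup p R) (Q : Subgroup Y) (hcop : (Nat.card Q).Coprime (Nat.card R))
    (hQ : ⁅R, Q⁆ ≤ phi R) : Q ≤ Subgroup.centralizer (R : Set Y) := by
  have hQR : Q ≤ Subgroup.normalizer (R : Set Y) := by
    rw [Subgroup.normalizer_eq_top_iff.2 hR]; exact le_top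
  have hsolvR : Group.IsSolvable R := by
    have := hRp.isNilpotent
    infer_instance
  -- `R ≤ Φ ⊔ C_R(Q)`
  have h1 : ∀ x ∈ R, ∃ d ∈ phi R, ∃ c ∈ R ⊓ Subgroup.centralizer (Q : Set Y), x = d * c := by
    intro x hx
    obtain ⟨d, hd, c, hc, hxdc⟩ :=
      Cfsg.Agent.Lib.Helper24_CoprimeAction.coprime_decomp Q R hQR hcop (Or.inr hsolvR) hx
    exact ⟨d, hQ hd, c, hc, hxdc⟩
  set K' : Subgroup R := (R ⊓ Subgroup.centralizer (Q : Set Y)).subgroupOf R with hK'
  have h2 : K' ⊔ frattini R = ⊤ := by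
    rw [eq_top_iff]
    intro x _
    obtain ⟨d, hd, c, hc, hxdc⟩ := h1 x x.2
    obtain ⟨d', hd', hdd'⟩ := hd
    have hcR : c ∈ R := hc.1
    have e : x = d' * ⟨c, hcR⟩ := by
      apply Subtype.ext
      rw [Subgroup.coe_mul, hxdc, ← hdd']
      rfl
    rw [e]
    apply Subgroup.mul_mem _ (Subgroup.mem_sup_right hd') (Subgroup.mem_sup_left _)
    rw [hK', Subgroup.mem_subgroupOf]
    exact hc
  have h3 : K' = ⊤ := frattini_nongenerating h2
  intro q hq
  rw [Subgroup.mem_centralizer_iff]
  intro x hx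
  have h4 : (⟨x, hx⟩ : R) ∈ K' := by rw [h3]; exact Subgroup.mem_top _
  rw [hK', Subgroup.mem_subgroupOf] at h4
  exact (Subgroup.mem_centralizer_iff.1 h4.2 q hq).symm

end burnside

section pgroup

variable {Y : Type u} [Group Y] [Finite Y]

/-- a subgroup acting trivially on `R/Φ(R)` is a `p`-group, if `C(R) ≤ R` -/
theorem isPGroup_of_commutator_le_phi (p : ℕ) [hp : Fact p.Prime] (R : Subgroup Y) [hR : R.Normal]
    (hRp : IsPGroup p R) (hc : Subgroup.centralizer (R : Set Y) ≤ R) (D : Subgroup Y)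
    (hD : ⁅R, D⁆ ≤ phi R) : IsPGroup p D := by
  by_cases hall : ∀ r : ℕ, r.Prime → r ∣ Nat.card D → r = p
  · have hne : Nat.card D ≠ 0 := Nat.card_pos.ne'
    have := Nat.eq_prime_pow_of_unique_prime_dvd hne (fun {d} hd hdd => hall d hd hdd)
    exact IsPGroup.of_card this
  · exfalso
    push Not at hall
    obtain ⟨r, hr, hrd, hrp⟩ := hall
    haveI : Fact r.Prime := ⟨hr⟩
    obtain Q' : Sylow r D := default
    have hQ'ne : (Q' : Subgroup D) ≠ ⊥ := Sylow.ne_bot_of_dvd_card Q' hrd
    set Q : Subgroup Y := (Q' : Subgroup D).map D.subtype with hQ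
    have hQD : Q ≤ D := Subgroup.map_subtype_le _
    have hQr : IsPGroup r Q := Q'.2.map D.subtype
    obtain ⟨j, hj⟩ := hQr.exists_card_eq
    obtain ⟨i, hi⟩ := hRp.exists_card_eq
    have hcop : (Nat.card Q).Coprime (Nat.card R) := by
      rw [hj, hi]
      exact Nat.Coprime.pow j i ((Nat.coprime_primes hr hp.out).2 hrp)
    have h1 : ⁅R, Q⁆ ≤ phi R := (Subgroup.commutator_mono le_rfl hQD).trans hD
    have h2 : Q ≤ R := (le_centralizer_of_commutator_le_phi p R hRp Q hcop h1).trans hc
    have h3 : Nat.card Q ∣ Nat.card R := Subgroup.card_dvd_of_le h2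
    have h4 : Nat.card Q = 1 := Nat.eq_one_of_dvd_coprimes hcop dvd_rfl h3
    have h5 : Q = ⊥ := Subgroup.card_eq_one.1 h4
    apply hQ'ne
    rw [hQ, Subgroup.map_eq_bot_iff_of_injective _ (Subgroup.subtype_injective D)] at h5
    exact h5

end pgroup



section quad

theorem quadratic_aux (p : ℕ) [hp : Fact p.Prime] {Z : Type u} [Group Z] [Finite Z]
    (V A : Subgroup Z) [hVn : V.Normal] (hA : IsPGroup p A) (hVA : V ≤ A)
    (hexp : ∀ v ∈ V, v ^ p = 1) (hcyc : IsCyclic (⁅A, A⁆ : Subgroup Z)) :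
    ⁅⁅V, A⁆, A⁆ = ⊥ := by
  set C : Subgroup Z := ⁅V, A⁆ with hC
  have hCV : C ≤ V := Subgroup.commutator_le_left V A
  have hCAA : C ≤ ⁅A, A⁆ := Subgroup.commutator_mono hVA le_rfl
  have hCA : C ≤ A := hCV.trans hVA
  -- `C` is cyclic
  have hCcyc : IsCyclic C := by
    have h1 : IsCyclic (C.subgroupOf (⁅A, A⁆ : Subgroup Z)) := Subgroup.isCyclic _
    exact isCyclic_of_surjective (Subgroup.subgroupOfEquivOfLe hCAA).toMonoidHom
      (Subgroup.subgroupOfEquivOfLe hCAA).surjective
  -- `|C|` divides `p`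
  have hcard : Nat.card C ∣ p := by
    obtain ⟨g, hg⟩ := hCcyc.exists_generator
    rw [← orderOf_eq_card_of_forall_mem_zpowers hg]
    apply orderOf_dvd_of_pow_eq_one
    apply Subtype.ext
    simp only [Subgroup.coe_pow, Subgroup.coe_one]
    exact hexp _ (hCV g.2)
  -- `A` normalizes `C`
  have hAC : A ≤ Subgroup.normalizer (C : Set Z) := fun a ha =>
    Cfsg.Agent.Lib.Helper24_CoprimeAction.mem_normalizer_commutator V A
      (by rw [Subgroup.normalizer_eq_top_iff.2 hVn]; exact Subgroup.mem_top a) (Subgroup.le_normalizer ha)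
  rcases (Nat.dvd_prime hp.out).1 hcard with h1 | h1
  · have : C = ⊥ := Subgroup.card_eq_one.1 h1
    rw [this]
    exact Subgroup.commutator_bot_left A
  · have hn : (C.subgroupOf A).Normal := Subgroup.normal_subgroupOf_of_le_normalizer hAC
    have hcard' : Nat.card (C.subgroupOf A) = p := by
      rw [← h1]
      exact Nat.card_congr (Subgroup.subgroupOfEquivOfLe hCA).toEquiv
    have hcen := Cfsg.Agent.Lib.Helper63_PGroup.IsPGroup.le_center_of_normal_of_card_eq hA
      (C.subgroupOf A) hcard'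
    rw [Subgroup.commutator_eq_bot_iff_le_centralizer]
    intro c hc
    rw [Subgroup.mem_centralizer_iff]
    intro a ha
    have h2 : (⟨c, hCA hc⟩ : A) ∈ C.subgroupOf A := by
      rw [Subgroup.mem_subgroupOf]; exact hc
    have h3 := Subgroup.mem_center_iff.1 (hcen h2) ⟨a, ha⟩
    exact congrArg Subtype.val h3

end quad

section main

open Cfsg.Agent.Lib.Helper1_Cores

theorem le_pCore_of_cyclic_commutator (p : ℕ) [hp : Fact p.Prime] (hst : PStab.{u} p) (hp2 : p ≠ 2)
    {Y : Type u} [Group Y] [Finite Y] [Group.IsSolvable Y] (hodd : Odd (Nat.card Y))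
    (hO : Cfsg.pPrimeCore p Y = ⊥) (T : Subgroup Y) (hT : IsPGroup p T)
    (hRT : Cfsg.pCore p Y ≤ T) (hcyc : IsCyclic (⁅T, T⁆ : Subgroup Y)) :
    T ≤ Cfsg.pCore p Y := by
  set R : Subgroup Y := Cfsg.pCore p Y with hR
  have hRn : R.Normal := pCore_normal (G := Y) p
  have hRp : IsPGroup p R := pCore_isPGroup p
  have hc : Subgroup.centralizer (R : Set Y) ≤ R :=
    Cfsg.Agent.Lib.Helper55_Fitting.centralizer_pCore_le p hO
  have hΦn : (phi R).Normal := phi_normal R
  let Z := Y ⧸ phi R
  let π : Y →* Z := QuotientGroup.mk' (phi R)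
  have hπs : Function.Surjective π := QuotientGroup.mk'_surjective _
  have hker : ∀ y : Y, π y = 1 ↔ y ∈ phi R := fun y => QuotientGroup.eq_one_iff y
  have hZodd : Odd (Nat.card Z) := by
    have hdvd : Nat.card Z ∣ Nat.card Y := Subgroup.card_quotient_dvd_card _
    exact Odd.of_dvd_nat hodd hdvd
  set V : Subgroup Z := R.map π with hV
  set A : Subgroup Z := T.map π with hA
  have hVn : V.Normal := hRn.map π hπs
  have hVp : IsPGroup p V := hRp.map π
  have hAp : IsPGroup p A := hT.map π
  have hVA : V ≤ A := Subgroup.map_mono hRT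
  have hexp : ∀ v ∈ V, v ^ p = 1 := by
    rintro _ ⟨r, hr, rfl⟩
    rw [← map_pow, hker]
    have h1 := Cfsg.Agent.Lib.Helper1_Frattini.pow_mem_frattini_of_isPGroup hRp (⟨r, hr⟩ : R)
    exact ⟨_, h1, by simp⟩
  have hAAcyc : IsCyclic (⁅A, A⁆ : Subgroup Z) := by
    have e : (⁅A, A⁆ : Subgroup Z) = (⁅T, T⁆ : Subgroup Y).map π := (Subgroup.map_commutator T T π).symm
    rw [e]
    exact isCyclic_of_surjective (π.subgroupMap ⁅T, T⁆) (MonoidHom.subgroupMap_surjective _ _)
  have hquad := quadratic_aux p V A hAp hVA hexp hAAcyc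
  -- the centralizer of `V` is a `p`-group
  have hCVp : IsPGroup p (Subgroup.centralizer (V : Set Z)) := by
    set D : Subgroup Y := (Subgroup.centralizer (V : Set Z)).comap π with hD
    have hDR : ⁅R, D⁆ ≤ phi R := by
      rw [Subgroup.commutator_le]
      intro r hr d hd
      rw [← hker, map_commutatorElement]
      have hd' : π d ∈ Subgroup.centralizer (V : Set Z) := hd
      have h1 := Subgroup.mem_centralizer_iff.1 hd' (π r) ⟨r, hr, rfl⟩
      rw [commutatorElement_eq_one_iff_mul_comm]
      exact h1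
    have hDp := isPGroup_of_commutator_le_phi p R hRp hc D hDR
    have : Subgroup.centralizer (V : Set Z) = D.map π := by
      rw [hD, Subgroup.map_comap_eq_self_of_surjective hπs]
    rw [this]
    exact hDp.map π
  have hAcore : A ≤ Cfsg.pCore p Z := le_pCore_of_pstab p hst hp2 hZodd V A hVp hAp hquad hCVp
  -- pull back to `Y`
  set L₁ : Subgroup Y := (Cfsg.pCore p Z).comap π with hL₁
  have hL₁n : L₁.Normal := (pCore_normal (G := Z) p).comap π
  have hΦp : IsPGroup p (phi R) := hRp.to_le (phi_le R)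
  have hL₁p : IsPGroup p L₁ := by
    apply isPGroup_of_pow_mem p L₁ _ hΦp
    intro x hx
    obtain ⟨a, ha⟩ := (pCore_isPGroup (G := Z) p) ⟨π x, hx⟩
    refine ⟨a, ?_⟩
    rw [← hker, map_pow]
    have := congrArg Subtype.val ha
    simpa using this
  have hTL₁ : T ≤ L₁ := fun t ht => hAcore ⟨t, ht, rfl⟩
  exact hTL₁.trans (le_pCore hL₁n hL₁p)

end main

section final

open Cfsg.Agent.Lib.Helper1_Cores

theorem result_of_pstab {X : Type u} [Group X] [Finite X] [Group.IsSolvable X]
    (hX : Odd (Nat.card X)) (p : ℕ) [hp : Fact p.Prime] (hst : PStab.{u} p) (S : Sylow p X)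
    (hS : IsCyclic (commutator (S : Subgroup X))) :
    (Cfsg.pPrimeCore p X ⊔ (S : Subgroup X)).Normal := by
  by_cases hp2 : p = 2
  · have htop : Cfsg.pPrimeCore p X = ⊤ := by
      rw [eq_top_iff]
      apply le_pPrimeCore inferInstance
      rw [hp2, Nat.card_congr (Subgroup.topEquiv (G := X)).toEquiv]
      exact (Nat.coprime_two_right.2 hX)
    rw [htop, top_sup_eq]
    infer_instance
  · have hOn : (Cfsg.pPrimeCore p X).Normal := pPrimeCore_normal (G := X) p
    let Y := X ⧸ Cfsg.pPrimeCore p X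
    let f : X →* Y := QuotientGroup.mk' (Cfsg.pPrimeCore p X)
    have hfs : Function.Surjective f := QuotientGroup.mk'_surjective _
    have hO : Cfsg.pPrimeCore p Y = ⊥ :=
      Cfsg.Agent.Lib.Helper30_Subnormal.pPrimeCore_quotient_eq_bot p
    have hYodd : Odd (Nat.card Y) :=
      Odd.of_dvd_nat hX (Subgroup.card_quotient_dvd_card _)
    set T : Subgroup Y := (S : Subgroup X).map f with hT
    have hTp : IsPGroup p T := S.2.map f
    have hRT : Cfsg.pCore p Y ≤ T := by
      have := pCore_le_sylow p (S.mapSurjective hfs)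
      rwa [Sylow.coe_mapSurjective] at this
    have hcyc : IsCyclic (⁅T, T⁆ : Subgroup Y) := by
      have e : (⁅T, T⁆ : Subgroup Y) =
          ((commutator (S : Subgroup X)).map (S : Subgroup X).subtype).map f := by
        rw [Subgroup.map_subtype_commutator, Subgroup.map_commutator]
      rw [e, Subgroup.map_map]
      exact isCyclic_of_surjective
        ((f.comp (S : Subgroup X).subtype).subgroupMap (commutator (S : Subgroup X)))
        (MonoidHom.subgroupMap_surjective _ _)
    have hle := le_pCore_of_cyclic_commutator p hst hp2 hYodd hO T hTp hRT hcyc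
    have hTeq : T = Cfsg.pCore p Y := le_antisymm hle hRT
    have hTn : T.Normal := by rw [hTeq]; exact pCore_normal (G := Y) p
    have e : Cfsg.pPrimeCore p X ⊔ (S : Subgroup X) = T.comap f := by
      rw [hT, Subgroup.comap_map_eq, QuotientGroup.ker_mk', sup_comm]
    rw [e]
    exact hTn.comap f

end final

/-- Let X be a finite solvable group of odd order, p a prime and S a Sylow p-subgroup of X whose commutator subgroup is
cyclic. Then the product of the largest normal subgroup of X of order prime to p with S is a normal subgroup of X. -/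
theorem result {X : Type*} [Group X] [Finite X] [Group.IsSolvable X]
    (hX : Odd (Nat.card X)) (p : ℕ) [Fact p.Prime] (S : Sylow p X) (hS : IsCyclic (commutator (S : Subgroup X))) :
    (Cfsg.pPrimeCore p X ⊔ (S : Subgroup X)).Normal :=
  result_of_pstab hX p (pstab_holds p) S hS

end Cfsg.Agent.S0521
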