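import Cfsg.Statements.S5306

set_option autoImplicit false
open Cfsg

namespace Cfsg.Agent.S5306

variable {X : Type*} [Group X]

/-- elementwise form of elementary abelian -/
def EA (p : ℕ) (B : Subgroup X) : Prop :=
  (∀ a ∈ B, ∀ b ∈ B, a * b = b * a) ∧ ∀ a ∈ B, a ^ p = 1

theorem isEA_iff {Y : Type*} [Group Y] (p : ℕ) (B : Subgroup Y) : Cfsg.IsElementaryAbelian p B ↔ EA p B := by
  unfold Cfsg.IsElementaryAbelian EA
  constructor
  · rintro ⟨h1, h2⟩
    refine ⟨fun a ha b hb => ?_, h2⟩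
    have := h1.is_comm.comm ⟨a, ha⟩ ⟨b, hb⟩
    exact congrArg Subtype.val this
  · rintro ⟨h1, h2⟩
    refine ⟨⟨⟨fun a b => ?_⟩⟩, h2⟩
    exact Subtype.ext (h1 a a.2 b b.2)

/-- The family of elementary abelian subgroups of `Q` of largest order. -/
def maxEA (p : ℕ) (Q : Subgroup X) : Set (Subgroup X) :=
  {B | B ≤ Q ∧ EA p B ∧ ∀ C : Subgroup X, C ≤ Q → EA p C → Nat.card C ≤ Nat.card B}

/-- Thompson subgroup, described inside the ambient group. -/
def JJ (p : ℕ) (Q : Subgroup X) : Subgroup X := sSup (maxEA p Q)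

theorem EA_map_subtype (p : ℕ) (Q : Subgroup X) (A : Subgroup Q) :
    EA p (A.map Q.subtype) ↔ EA p A := by
  unfold EA
  constructor
  · rintro ⟨h1, h2⟩
    refine ⟨fun a ha b hb => ?_, fun a ha => ?_⟩
    · apply Subtype.ext
      exact h1 a ⟨a, ha, rfl⟩ b ⟨b, hb, rfl⟩
    · apply Subtype.ext
      have := h2 a ⟨a, ha, rfl⟩
      simpa using this
  · rintro ⟨h1, h2⟩
    refine ⟨?_, ?_⟩
    · rintro _ ⟨a, ha, rfl⟩ _ ⟨b, hb, rfl⟩
      exact congrArg Subtype.val (h1 a ha b hb)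
    · rintro _ ⟨a, ha, rfl⟩
      have := congrArg Subtype.val (h2 a ha)
      simpa using this

theorem card_map_subtype (Q : Subgroup X) (A : Subgroup Q) :
    Nat.card (A.map Q.subtype) = Nat.card A :=
  (Nat.card_congr (A.equivMapOfInjective Q.subtype Q.subtype_injective).toEquiv).symm

theorem thompson_eq_JJ (p : ℕ) (Q : Subgroup X) : Cfsg.thompsonSubgroupOf p Q = JJ p Q := by
  unfold Cfsg.thompsonSubgroupOf Cfsg.thompsonSubgroup JJ
  rw [(Subgroup.gc_map_comap Q.subtype).l_sSup]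
  apply le_antisymm
  · refine iSup₂_le fun A hA => ?_
    apply le_sSup
    obtain ⟨hA1, hA2⟩ := hA
    refine ⟨?_, ?_, ?_⟩
    · exact Subgroup.map_subtype_le A
    · exact (EA_map_subtype p Q A).2 ((isEA_iff p A).1 hA1)
    · intro C hC hCE
      have hC' : C = (C.subgroupOf Q).map Q.subtype := by
        rw [Subgroup.map_subgroupOf_eq_of_le hC]
      rw [hC', card_map_subtype, card_map_subtype]
      apply hA2
      rw [isEA_iff, ← EA_map_subtype, ← hC']
      exact hCE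
  · refine sSup_le fun B hB => ?_
    obtain ⟨hB1, hB2, hB3⟩ := hB
    have hB' : B = (B.subgroupOf Q).map Q.subtype := by
      rw [Subgroup.map_subgroupOf_eq_of_le hB1]
    rw [hB']
    refine le_iSup₂_of_le (B.subgroupOf Q) ?_ le_rfl
    refine ⟨?_, ?_⟩
    · rw [isEA_iff, ← EA_map_subtype, ← hB']
      exact hB2
    · intro A hA
      rw [← card_map_subtype Q A, ← card_map_subtype Q (B.subgroupOf Q), ← hB']
      apply hB3
      · exact Subgroup.map_subtype_le A
      · exact (EA_map_subtype p Q A).2 ((isEA_iff p A).1 hA)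


theorem EA_map_equiv (p : ℕ) (e : X ≃* X) (B : Subgroup X) :
    EA p (B.map e.toMonoidHom) ↔ EA p B := by
  unfold EA
  constructor
  · rintro ⟨h1, h2⟩
    refine ⟨fun a ha b hb => ?_, fun a ha => ?_⟩
    · apply e.injective
      have := h1 (e a) ⟨a, ha, rfl⟩ (e b) ⟨b, hb, rfl⟩
      simpa using this
    · apply e.injective
      have := h2 (e a) ⟨a, ha, rfl⟩
      simpa using this
  · rintro ⟨h1, h2⟩
    refine ⟨?_, ?_⟩
    · rintro _ ⟨a, ha, rfl⟩ _ ⟨b, hb, rfl⟩
      have := congrArg e (h1 a ha b hb)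
      simpa using this
    · rintro _ ⟨a, ha, rfl⟩
      have := congrArg e (h2 a ha)
      simpa using this

theorem card_map_equiv (e : X ≃* X) (B : Subgroup X) :
    Nat.card (B.map e.toMonoidHom) = Nat.card B :=
  (Nat.card_congr (B.equivMapOfInjective e.toMonoidHom e.injective).toEquiv).symm

theorem map_symm_map (e : X ≃* X) (B : Subgroup X) :
    (B.map e.symm.toMonoidHom).map e.toMonoidHom = B := by
  ext x
  constructor
  · rintro ⟨_, ⟨b, hb, rfl⟩, rfl⟩
    simpa using hb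
  · intro hx
    exact ⟨e.symm x, ⟨x, hx, rfl⟩, by simp⟩

theorem map_map_symm (e : X ≃* X) (B : Subgroup X) :
    (B.map e.toMonoidHom).map e.symm.toMonoidHom = B := by
  have := map_symm_map e.symm B
  simpa using this

theorem maxEA_map (p : ℕ) (e : X ≃* X) (Q B : Subgroup X) (hB : B ∈ maxEA p Q) :
    B.map e.toMonoidHom ∈ maxEA p (Q.map e.toMonoidHom) := by
  obtain ⟨h1, h2, h3⟩ := hB
  refine ⟨Subgroup.map_mono h1, (EA_map_equiv p e B).2 h2, ?_⟩
  intro C hC hCE
  rw [card_map_equiv, ← card_map_equiv e.symm C]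
  apply h3
  · have := Subgroup.map_mono (f := e.symm.toMonoidHom) hC
    rwa [map_map_symm] at this
  · exact (EA_map_equiv p e.symm C).2 hCE

theorem JJ_map (p : ℕ) (e : X ≃* X) (Q : Subgroup X) :
    JJ p (Q.map e.toMonoidHom) = (JJ p Q).map e.toMonoidHom := by
  unfold JJ
  rw [(Subgroup.gc_map_comap e.toMonoidHom).l_sSup]
  apply le_antisymm
  · refine sSup_le fun B hB => ?_
    have h := maxEA_map p e.symm _ B hB
    rw [map_map_symm] at h
    rw [← map_symm_map e B]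
    exact le_iSup₂_of_le _ h le_rfl
  · refine iSup₂_le fun B hB => ?_
    exact le_sSup (maxEA_map p e Q B hB)

theorem JJ_le (p : ℕ) (Q : Subgroup X) : JJ p Q ≤ Q :=
  sSup_le fun _ hB => hB.1

theorem exists_maxEA [Finite X] (p : ℕ) (Q : Subgroup X) : ∃ B, B ∈ maxEA p Q := by
  have hne : Nonempty {B : Subgroup X // B ≤ Q ∧ EA p B} :=
    ⟨⟨⊥, bot_le, by
      refine ⟨?_, ?_⟩
      · intro a ha b hb
        rw [Subgroup.mem_bot] at ha hb
        rw [ha, hb]
      · intro a ha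
        rw [Subgroup.mem_bot] at ha
        rw [ha, one_pow]⟩⟩
  obtain ⟨B₀, hB₀⟩ := Finite.exists_max (fun B : {B : Subgroup X // B ≤ Q ∧ EA p B} => Nat.card B.1)
  exact ⟨B₀.1, B₀.2.1, B₀.2.2, fun C hC hCE => hB₀ ⟨C, hC, hCE⟩⟩

/-- Key lemma: a subgroup between `J(P₁)` and a conjugate of `P₁` has the same Thompson subgroup. -/
theorem JJ_eq_of_le [Finite X] (p : ℕ) (P₁ Q : Subgroup X) (e : X ≃* X) (h1 : JJ p P₁ ≤ Q)
    (h2 : Q ≤ P₁.map e.toMonoidHom) : JJ p Q = JJ p P₁ := by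
  obtain ⟨B₀, hB₀⟩ := exists_maxEA p P₁
  have hsub1 : maxEA p P₁ ⊆ maxEA p Q := by
    intro B hB
    refine ⟨le_trans (le_sSup hB) h1, hB.2.1, ?_⟩
    intro C hC hCE
    rw [← card_map_equiv e.symm C]
    apply hB.2.2
    · have := Subgroup.map_mono (f := e.symm.toMonoidHom) (le_trans hC h2)
      rwa [map_map_symm] at this
    · exact (EA_map_equiv p e.symm C).2 hCE
  have hsub2 : maxEA p Q ⊆ maxEA p (P₁.map e.toMonoidHom) := by
    intro B hB
    refine ⟨le_trans hB.1 h2, hB.2.1, ?_⟩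
    intro C hC hCE
    have hB₀Q := hsub1 hB₀
    refine le_trans ?_ (hB.2.2 B₀ hB₀Q.1 hB₀Q.2.1)
    rw [← card_map_equiv e.symm C]
    apply hB₀.2.2
    · have := Subgroup.map_mono (f := e.symm.toMonoidHom) hC
      rwa [map_map_symm] at this
    · exact (EA_map_equiv p e.symm C).2 hCE
  have hle1 : JJ p P₁ ≤ JJ p Q := sSup_le_sSup hsub1
  have hle2 : JJ p Q ≤ JJ p (P₁.map e.toMonoidHom) := sSup_le_sSup hsub2
  symm
  apply Subgroup.eq_of_le_of_card_ge hle1
  calc Nat.card (JJ p Q) ≤ Nat.card (JJ p (P₁.map e.toMonoidHom)) := Subgroup.card_le_of_le hle2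
    _ = Nat.card (JJ p P₁) := by rw [JJ_map, card_map_equiv]


theorem conj_map_mem_iff (n : X) (J : Subgroup X) (z : X) :
    z ∈ J.map (MulAut.conj n).toMonoidHom ↔ n⁻¹ * z * n ∈ J := by
  constructor
  · rintro ⟨j, hj, rfl⟩
    simpa [mul_assoc] using hj
  · intro h
    refine ⟨n⁻¹ * z * n, h, ?_⟩
    simp [mul_assoc]

theorem sylow_smul_eq_map {p : ℕ} (h : X) (P : Sylow p X) :
    ((h • P : Sylow p X) : Subgroup X) = (P : Subgroup X).map (MulAut.conj h).toMonoidHom := by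
  rw [Sylow.coe_subgroup_smul, Subgroup.pointwise_smul_def]
  rfl

/-- Let P be a Sylow p-subgroup of the finite group X and J = J(P) its Thompson subgroup (generated by the elementary abelian subgroups of P of largest order). If x and y lie in the centre of J and y = g x g⁻¹ for some g in X, then y = n x n⁻¹ for some n in the normalizer N_X(J). -/
theorem result {X : Type*} [Group X] [Finite X] (p : ℕ) [Fact p.Prime] (P : Sylow p X) (J : Subgroup X) (hJ : J = Cfsg.thompsonSubgroupOf p (P : Subgroup X))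
    (x y : X) (hx : x ∈ J ∧ ∀ j ∈ J, Commute j x) (hy : y ∈ J ∧ ∀ j ∈ J, Commute j y) (g : X) (hg : g * x * g⁻¹ = y) :
    ∃ n ∈ Subgroup.normalizer (J : Set X), n * x * n⁻¹ = y := by
  rw [thompson_eq_JJ] at hJ
  set C : Subgroup X := Subgroup.centralizer ({y} : Set X) with hC
  have hmemC : ∀ z : X, z ∈ C ↔ y * z = z * y := by
    intro z
    rw [hC, Subgroup.mem_centralizer_iff]
    simp
  have hJC : J ≤ C := fun j hj => (hmemC j).2 ((hy.2 j hj).eq.symm)
  have hJgC : J.map (MulAut.conj g).toMonoidHom ≤ C := by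
    rintro _ ⟨j, hj, rfl⟩
    rw [hmemC]
    have h1 : j * x = x * j := (hx.2 j hj).eq
    show y * (g * j * g⁻¹) = g * j * g⁻¹ * y
    rw [← hg]
    calc g * x * g⁻¹ * (g * j * g⁻¹) = g * (x * j) * g⁻¹ := by group
      _ = g * (j * x) * g⁻¹ := by rw [h1]
      _ = g * j * g⁻¹ * (g * x * g⁻¹) := by group
  have hJP : J ≤ (P : Subgroup X) := hJ ▸ JJ_le p _
  have hJp : IsPGroup p J := P.isPGroup'.to_le hJP
  have hJgp : IsPGroup p (J.map (MulAut.conj g).toMonoidHom) := hJp.map _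
  have hJ1 : IsPGroup p (J.subgroupOf C) := hJp.comap_subtype
  have hJ2 : IsPGroup p ((J.map (MulAut.conj g).toMonoidHom).subgroupOf C) := hJgp.comap_subtype
  obtain ⟨Q₁, hQ₁⟩ := hJ1.exists_le_sylow
  obtain ⟨Q₂, hQ₂⟩ := hJ2.exists_le_sylow
  obtain ⟨c, hc⟩ := MulAction.exists_smul_eq C Q₂ Q₁
  set n : X := (c : X) * g with hn
  set Q : Subgroup X := (Q₁ : Subgroup C).map C.subtype with hQ
  have hJQ : J ≤ Q := by
    intro j hj
    exact ⟨⟨j, hJC hj⟩, hQ₁ (Subgroup.mem_subgroupOf.2 hj), rfl⟩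
  have hJnQ : J.map (MulAut.conj n).toMonoidHom ≤ Q := by
    rintro _ ⟨j, hj, rfl⟩
    have hgj : g * j * g⁻¹ ∈ J.map (MulAut.conj g).toMonoidHom := ⟨j, hj, rfl⟩
    have h2 : (⟨g * j * g⁻¹, hJgC hgj⟩ : C) ∈ (Q₂ : Subgroup C) :=
      hQ₂ (Subgroup.mem_subgroupOf.2 hgj)
    have h3 : c * (⟨g * j * g⁻¹, hJgC hgj⟩ : C) * c⁻¹ ∈ ((c • Q₂ : Sylow p C) : Subgroup C) := by
      rw [sylow_smul_eq_map]
      exact ⟨_, h2, rfl⟩
    rw [hc] at h3
    refine ⟨_, h3, ?_⟩
    show (c : X) * (g * j * g⁻¹) * (c : X)⁻¹ = n * j * n⁻¹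
    rw [hn]
    group
  have hQp : IsPGroup p Q := Q₁.isPGroup'.map _
  obtain ⟨P', hP'⟩ := hQp.exists_le_sylow
  obtain ⟨h, hh⟩ := MulAction.exists_smul_eq X P P'
  have hP'eq : (P' : Subgroup X) = (P : Subgroup X).map (MulAut.conj h).toMonoidHom := by
    rw [← hh, sylow_smul_eq_map]
  have e1 : JJ p Q = J := by
    rw [hJ]
    apply JJ_eq_of_le p (P : Subgroup X) Q (MulAut.conj h)
    · rw [← hJ]; exact hJQ
    · rw [← hP'eq]; exact hP'
  have e2 : JJ p Q = J.map (MulAut.conj n).toMonoidHom := by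
    have h5 : J.map (MulAut.conj n).toMonoidHom
        = JJ p ((P : Subgroup X).map (MulAut.conj n).toMonoidHom) := by
      rw [hJ]
      exact (JJ_map p (MulAut.conj n) _).symm
    rw [h5]
    apply JJ_eq_of_le p _ Q (MulAut.conj (h * n⁻¹))
    · rw [← h5]; exact hJnQ
    · refine le_trans hP' ?_
      rw [hP'eq]
      intro z hz
      rw [conj_map_mem_iff] at hz ⊢
      rw [conj_map_mem_iff]
      convert hz using 1
      group
  have e3 : J.map (MulAut.conj n).toMonoidHom = J := e2.symm.trans e1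
  refine ⟨n, ?_, ?_⟩
  · rw [Subgroup.mem_normalizer_iff]
    intro z
    constructor
    · intro hz
      rw [← e3]
      exact ⟨z, hz, rfl⟩
    · intro hz
      rw [← e3] at hz
      obtain ⟨j, hj, hjz⟩ := hz
      have : j = z := by
        have h7 : n * j * n⁻¹ = n * z * n⁻¹ := hjz
        exact mul_left_cancel (mul_right_cancel h7)
      rwa [← this]
  · rw [hn]
    have hcC : y * (c : X) = (c : X) * y := (hmemC c).1 c.2
    calc (c : X) * g * x * ((c : X) * g)⁻¹ = (c : X) * (g * x * g⁻¹) * (c : X)⁻¹ := by group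
      _ = (c : X) * y * (c : X)⁻¹ := by rw [hg]
      _ = y * (c : X) * (c : X)⁻¹ := by rw [hcC]
      _ = y := by group

end Cfsg.Agent.S5306
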