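import Cfsg.Statements.S2941

set_option autoImplicit false
open Cfsg

namespace Cfsg.Agent.S2941

/-- If `J` is a 2-group normalizing `K`, then every element of odd order of `K ⊔ J` lies in `K`. -/
theorem odd_mem_of_sup {G : Type*} [Group G] (K J : Subgroup G) (hJ : IsPGroup 2 ↥J)
    (hJK : J ≤ Subgroup.normalizer (K : Set G)) (x : G) (hx : x ∈ K ⊔ J) (hodd : Odd (orderOf x)) :
    x ∈ K := by
  classical
  set N : Subgroup G := Subgroup.normalizer (K : Set G) with hN
  have hKN : K ≤ N := Subgroup.le_normalizer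
  have hHN : K ⊔ J ≤ N := sup_le hKN hJK
  have : (K.subgroupOf N).Normal := Subgroup.normal_in_normalizer
  let φ := QuotientGroup.mk' (K.subgroupOf N)
  have hxN : x ∈ N := hHN hx
  -- the image of (K ⊔ J) in N / K is a 2-group
  have hmap : ((K ⊔ J).subgroupOf N).map φ = (J.subgroupOf N).map φ := by
    rw [Subgroup.subgroupOf_sup hKN hJK, Subgroup.map_sup, QuotientGroup.map_mk'_self, bot_sup_eq]
  have hJ2 : IsPGroup 2 ↥((J.subgroupOf N).map φ) := by
    have h1 : IsPGroup 2 ↥(J.subgroupOf N) := hJ.comap_subtype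
    exact h1.map φ
  have hφx : φ ⟨x, hxN⟩ ∈ (J.subgroupOf N).map φ := by
    rw [← hmap]
    exact ⟨⟨x, hxN⟩, by simpa [Subgroup.mem_subgroupOf] using hx, rfl⟩
  obtain ⟨k, hk⟩ := hJ2 ⟨φ ⟨x, hxN⟩, hφx⟩
  have hk' : (φ ⟨x, hxN⟩) ^ 2 ^ k = 1 := by
    have := congrArg Subtype.val hk
    simpa using this
  have hdvd1 : orderOf (φ ⟨x, hxN⟩) ∣ 2 ^ k := orderOf_dvd_of_pow_eq_one hk'
  have hdvd2 : orderOf (φ ⟨x, hxN⟩) ∣ orderOf x := by
    have h := orderOf_map_dvd φ (⟨x, hxN⟩ : N)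
    have h2 : orderOf (⟨x, hxN⟩ : N) = orderOf x := by
      simpa using (Subgroup.orderOf_coe (⟨x, hxN⟩ : N)).symm
    rwa [h2] at h
  have hone : orderOf (φ ⟨x, hxN⟩) = 1 := by
    have hcop : Nat.Coprime (orderOf x) (2 ^ k) := by
      apply Nat.Coprime.pow_right
      exact Nat.coprime_two_right.mpr hodd
    exact Nat.eq_one_of_dvd_coprimes hcop hdvd2 hdvd1
  have h1 : φ ⟨x, hxN⟩ = 1 := orderOf_eq_one_iff.mp hone
  have : (⟨x, hxN⟩ : N) ∈ K.subgroupOf N := (QuotientGroup.eq_one_iff _).mp h1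
  simpa [Subgroup.mem_subgroupOf] using this

/-- Let G be a finite group of characteristic 2 type in which every 2-local subgroup is solvable and the centralizer of Ω₁(Z(S)) lies in N_G(S) for every Sylow 2-subgroup S, and let T be a nontrivial 2-subgroup and K a J(T)-component (J the Thompson subgroup generated by the elementary abelian 2-subgroups of largest order). If a subgroup Q is normalized by ⟨K, J(T)⟩ and normalizes J(T), then Q normalizes K. -/
theorem result {G : Type*} [Group G] [Finite G] (hL : Cfsg.IsCharacteristicTwoType G) (hN : ∀ N : Subgroup G, Cfsg.IsTwoLocal N → Group.IsSolvable ↥N)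
    (hZ : ∀ S : Sylow 2 G, Subgroup.centralizer (Cfsg.omegaCenterOf (S : Subgroup G) : Set G) ≤ Subgroup.normalizer ((S : Subgroup G) : Set G)) (T : Subgroup G) (hT : IsPGroup 2 ↥T) (hT1 : T ≠ ⊥) (K : Subgroup G) (hK : Cfsg.IsJComponent T K)
    (Q : Subgroup G) (hQ1 : K ⊔ Cfsg.thompsonSubgroupOf 2 T ≤ Subgroup.normalizer (Q : Set G)) (hQ2 : Q ≤ Subgroup.normalizer (Cfsg.thompsonSubgroupOf 2 T : Set G)) :
    Q ≤ Subgroup.normalizer (K : Set G) := by
  classical
  set J : Subgroup G := Cfsg.thompsonSubgroupOf 2 T with hJdef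
  obtain ⟨hgen, hKJ, -, -, -, -⟩ := hK
  -- J is a 2-group
  have hJ2 : IsPGroup 2 ↥J := by
    have h1 : IsPGroup 2 ↥(Cfsg.thompsonSubgroup 2 ↥T) := hT.to_subgroup _
    exact h1.map T.subtype
  -- J normalizes K
  have hJK : J ≤ Subgroup.normalizer (K : Set G) := by
    have := Subgroup.normalizer_commutator_ge_right (H₁ := K) (H₂ := J)
    rwa [hKJ] at this
  have hKQ : K ≤ Subgroup.normalizer (Q : Set G) := le_trans le_sup_left hQ1
  have hJQ : J ≤ Subgroup.normalizer (Q : Set G) := le_trans le_sup_right hQ1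
  -- the subgroup of elements of H all of whose Q-conjugates lie in H
  let A : Subgroup G :=
    { carrier := {h | h ∈ K ⊔ J ∧ ∀ q ∈ Q, q * h * q⁻¹ ∈ K ⊔ J}
      mul_mem' := by
        rintro a b ⟨ha, ha'⟩ ⟨hb, hb'⟩
        refine ⟨mul_mem ha hb, fun q hq => ?_⟩
        have : q * (a * b) * q⁻¹ = (q * a * q⁻¹) * (q * b * q⁻¹) := by group
        rw [this]
        exact mul_mem (ha' q hq) (hb' q hq)
      one_mem' := ⟨one_mem _, fun q _ => by simp⟩
      inv_mem' := by
        rintro a ⟨ha, ha'⟩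
        refine ⟨inv_mem ha, fun q hq => ?_⟩
        have : q * a⁻¹ * q⁻¹ = (q * a * q⁻¹)⁻¹ := by group
        rw [this]
        exact inv_mem (ha' q hq) }
  have hA_mem : ∀ h, h ∈ A ↔ (h ∈ K ⊔ J ∧ ∀ q ∈ Q, q * h * q⁻¹ ∈ K ⊔ J) := fun h => Iff.rfl
  have hJA : J ≤ A := by
    intro j hj
    refine ⟨(le_sup_right : J ≤ K ⊔ J) hj, fun q hq => ?_⟩
    have := (Subgroup.mem_normalizer_iff.mp (hQ2 hq) j).mp hj
    exact (le_sup_right : J ≤ K ⊔ J) this
  have hKA : K ≤ Subgroup.normalizer (A : Set G) := by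
    intro k hk
    have key : ∀ k ∈ K, ∀ a ∈ A, k * a * k⁻¹ ∈ A := by
      intro k hk a ha
      obtain ⟨ha1, ha2⟩ := ha
      have hkH : k ∈ K ⊔ J := (le_sup_left : K ≤ K ⊔ J) hk
      refine ⟨mul_mem (mul_mem hkH ha1) (inv_mem hkH), fun q hq => ?_⟩
      have hq' : k⁻¹ * q * k ∈ Q := (Subgroup.mem_normalizer_iff''.mp (hKQ hk) q).mp hq
      have := ha2 _ hq'
      have e : q * (k * a * k⁻¹) * q⁻¹ = k * ((k⁻¹ * q * k) * a * (k⁻¹ * q * k)⁻¹) * k⁻¹ := by group
      rw [e]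
      exact mul_mem (mul_mem hkH this) (inv_mem hkH)
    rw [Subgroup.mem_normalizer_iff]
    intro a
    constructor
    · exact key k hk a
    · intro h
      have := key k⁻¹ (inv_mem hk) _ h
      have e : k⁻¹ * (k * a * k⁻¹) * k⁻¹⁻¹ = a := by group
      rwa [e] at this
  have hKleA : K ≤ A := by
    have h1 : ⁅K, A⁆ ≤ A := Subgroup.le_normalizer_iff_commutator_le_right.mp hKA
    calc K = ⁅K, J⁆ := hKJ.symm
      _ ≤ ⁅K, A⁆ := Subgroup.commutator_mono le_rfl hJA
      _ ≤ A := h1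
  have hHA : K ⊔ J ≤ A := sup_le hKleA hJA
  -- hence Q-conjugates of elements of K lie in K
  have hconj : ∀ q ∈ Q, ∀ k ∈ K, q * k * q⁻¹ ∈ K := by
    intro q hq k hk
    have hsub : Subgroup.closure {g : G | g ∈ K ∧ Odd (orderOf g)} ≤
        K.comap (MulAut.conj q).toMonoidHom := by
      rw [Subgroup.closure_le]
      rintro g ⟨hgK, hgodd⟩
      show (MulAut.conj q) g ∈ K
      rw [MulAut.conj_apply]
      have h1 : q * g * q⁻¹ ∈ K ⊔ J := (hHA ((le_sup_left : K ≤ K ⊔ J) hgK)).2 q hq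
      have h2 : orderOf (q * g * q⁻¹) = orderOf g := by
        have := orderOf_injective (MulAut.conj q).toMonoidHom (MulAut.conj q).injective g
        simpa [MulAut.conj_apply] using this
      exact odd_mem_of_sup K J hJ2 hJK _ h1 (h2 ▸ hgodd)
    rw [hgen] at hsub
    have := hsub hk
    simpa [MulAut.conj_apply] using this
  intro q hq
  rw [Subgroup.mem_normalizer_iff]
  intro k
  constructor
  · exact hconj q hq k
  · intro h
    have := hconj q⁻¹ (inv_mem hq) _ h
    have e : q⁻¹ * (q * k * q⁻¹) * q⁻¹⁻¹ = k := by group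
    rwa [e] at this

end Cfsg.Agent.S2941
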