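import Cfsg.Statements.S2803
import Cfsg.Agent.Lib.Helper47_TL

set_option autoImplicit false
open Cfsg
open Cfsg.Agent.Lib.Helper47_PLocal Cfsg.Agent.Lib.Helper47_PReduced Cfsg.Agent.Lib.Helper47_SubAPI
  Cfsg.Agent.Lib.Helper47_YL Cfsg.Agent.Lib.Helper47_TL

namespace Cfsg.Agent.S2803

/-- Let L be a finite group and p a prime with C_L(O_p(L)) ≤ O_p(L), T a Sylow p-subgroup, and Y the largest p-reduced normal subgroup of L. Put T_L = C_T(Y) and L_T = N_L(T_L). Then L = L_T · C_L(Y) (elementwise), T_L = O_p(L_T), and Y = Ω₁(Z(T_L)). -/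
theorem result {L : Type*} [Group L] [Finite L] {p : ℕ} [Fact p.Prime] (hchar : Subgroup.centralizer (Cfsg.pCore p L : Set L) ≤ Cfsg.pCore p L) (T : Sylow p L) (Y : Subgroup L) (hY : (Cfsg.IsPReducedNormal p Y ∧ ∀ V : Subgroup L, Cfsg.IsPReducedNormal p V → V ≤ Y)) (TL : Subgroup L) (hTL : TL = (T : Subgroup L) ⊓ Subgroup.centralizer (Y : Set L)) : (∀ g : L, ∃ a ∈ Subgroup.normalizer (TL : Set L), ∃ c ∈ Subgroup.centralizer (Y : Set L), g = a * c) ∧ (Cfsg.pCore p ↥(Subgroup.normalizer (TL : Set L))).map (Subgroup.normalizer (TL : Set L)).subtype = TL ∧ Y = Cfsg.omegaOne p (TL ⊓ Subgroup.centralizer (TL : Set L)) := by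
  obtain ⟨hYred, hYmax⟩ := hY
  have hYred' := (isPReducedNormal_iff Y).mp hYred
  obtain ⟨hYn, hYel, hYD⟩ := hYred'
  set C : Subgroup L := Subgroup.centralizer (Y : Set L) with hC
  have hCn : C.Normal := Subgroup.normal_centralizer
  subst hTL
  set TL : Subgroup L := (T : Subgroup L) ⊓ C with hTLdef
  set N : Subgroup L := Subgroup.normalizer (TL : Set L) with hN
  have hTnC : (T : Subgroup L) ≤ Subgroup.normalizer (C : Set L) := by
    rw [Subgroup.normalizer_eq_top_iff.mpr hCn]; exact le_top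
  have hTLp : IsPGroup p TL := T.isPGroup'.to_le inf_le_left
  have hTLN : TL ≤ N := Subgroup.le_normalizer
  have hTN : (T : Subgroup L) ≤ N :=
    (le_inf Subgroup.le_normalizer hTnC).trans (normalizer_inf_le_normalizer_inf _ _)
  -- Frattini
  have hfr : ∀ g : L, ∃ a ∈ N, ∃ c ∈ C, g = a * c := by
    intro g
    obtain ⟨c, hc, n, hn, hg⟩ := Cfsg.Agent.Lib.Helper32_Sylow.frattini_inf T C g⁻¹
    refine ⟨n⁻¹, Subgroup.inv_mem _ hn, c⁻¹, Subgroup.inv_mem _ hc, ?_⟩
    rw [← mul_inv_rev, ← hg, inv_inv]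
  -- Y ≤ TL, Y ≤ Ω₁Z(TL)
  have hYpc : Y ≤ Cfsg.pCore p L := IsPReducedNormal.le_pCore hYred
  have hYT : Y ≤ (T : Subgroup L) := hYpc.trans (pCore_le_sylow T)
  have hYC : Y ≤ C := by
    intro y hy
    rw [hC, Subgroup.mem_centralizer_iff]
    intro z hz
    have := hYel.1
    exact congrArg Subtype.val (mul_comm' (⟨z, hz⟩ : Y) ⟨y, hy⟩)
  have hYTL : Y ≤ TL := le_inf hYT hYC
  have hTLcY : TL ≤ Subgroup.centralizer (Y : Set L) := inf_le_right
  have hYcTL : Y ≤ Subgroup.centralizer (TL : Set L) := by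
    intro y hy
    rw [Subgroup.mem_centralizer_iff]
    intro t ht
    exact ((Subgroup.mem_centralizer_iff.mp (hTLcY ht)) y hy).symm
  set X : Subgroup L := Cfsg.omegaOne p (TL ⊓ Subgroup.centralizer (TL : Set L)) with hX
  have hYX : Y ≤ X := by
    intro y hy
    exact Subgroup.subset_closure ⟨⟨hYTL hy, hYcTL hy⟩, hYel.2 y hy⟩
  have hXTL : X ≤ TL := (omegaOne_le p _).trans inf_le_left
  have hXc : X ≤ Subgroup.centralizer (TL : Set L) := omegaOne_center_le_centralizer TL
  have hTLcX : TL ≤ Subgroup.centralizer (X : Set L) := by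
    intro t ht
    rw [Subgroup.mem_centralizer_iff]
    intro x hx
    exact ((Subgroup.mem_centralizer_iff.mp (hXc hx)) t ht).symm
  have hCXC : Subgroup.centralizer (X : Set L) ≤ C := Subgroup.centralizer_le hYX
  -- a normal-in-`N` subgroup `D` whose image mod `C` is a `p`-group lies in `C`
  have hkey : ∀ D : Subgroup L, N ≤ Subgroup.normalizer (D : Set L) →
      (∀ d ∈ D, ∃ k : ℕ, d ^ (p ^ k) ∈ C) → D ≤ C := by
    intro D hND hDp
    have hE : (D ⊔ C).Normal := by
      rw [← Subgroup.normalizer_eq_top_iff, eq_top_iff]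
      intro g _
      obtain ⟨a, ha, c, hc, rfl⟩ := hfr g
      refine Subgroup.mul_mem _ ?_ ?_
      · apply Subgroup.normalizer_inf_normalizer_le_normalizer_sup
        refine ⟨hND ha, ?_⟩
        rw [Subgroup.normalizer_eq_top_iff.mpr hCn]; exact Subgroup.mem_top _
      · exact Subgroup.le_normalizer (Subgroup.mem_sup_right hc)
    have := hYD (D ⊔ C) hE (by
      intro e he
      obtain ⟨d, hd, c, hc, rfl⟩ := Subgroup.mem_sup_of_normal_right.mp he
      obtain ⟨k, hk⟩ := hDp d hd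
      refine ⟨k, pow_mem_of_pow_mem ?_ hc hk⟩
      rw [Subgroup.normalizer_eq_top_iff.mpr hCn]; exact Subgroup.mem_top _)
    exact le_sup_left.trans this
  refine ⟨hfr, ?_, ?_⟩
  · -- O_p(N) = TL
    apply le_antisymm
    · have hQC : Cfsg.pCoreOf p N ≤ C := by
        apply hkey _ (le_normalizer_pCoreOf N)
        intro d hd
        obtain ⟨k, hk⟩ := (isPGroup_pCoreOf (p := p) N) ⟨d, hd⟩
        refine ⟨k, ?_⟩
        have hk' : d ^ (p ^ k) = 1 := by simpa using congrArg Subtype.val hk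
        rw [hk']; exact Subgroup.one_mem _
      have hTLQ : TL ≤ Cfsg.pCoreOf p N :=
        Cfsg.Agent.Lib.Helper47_SubAPI.le_pCoreOf hTLN le_rfl hTLp
      exact le_sylow_inf_of_isPGroup T C hTnC (isPGroup_pCoreOf N) hQC hTLQ
    · exact Cfsg.Agent.Lib.Helper47_SubAPI.le_pCoreOf hTLN le_rfl hTLp
  · -- Y = Ω₁Z(TL)
    apply le_antisymm hYX
    have hXred : PRedIn p N X := by
      refine ⟨hXTL.trans hTLN, normalizer_le_normalizer_omegaOne_center TL,
        isElementaryAbelian_omegaOne_center TL, ?_⟩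
      intro D hDN hND hDp
      have hDC : D ≤ C := hkey D hND (fun d hd => by
        obtain ⟨k, hk⟩ := hDp d hd
        exact ⟨k, hCXC hk⟩)
      intro d hd
      obtain ⟨k, hk⟩ := hDp d hd
      obtain ⟨j, m, hm, hjm⟩ := Nat.exists_eq_pow_mul_and_not_dvd
        (orderOf_pos d).ne' p (Fact.out : p.Prime).ne_one
      have hu : (d ^ m) ^ (p ^ j) = 1 := by
        rw [← pow_mul, mul_comm, ← hjm, pow_orderOf_eq_one]
      have hdm : d ^ m ∈ TL :=
        mem_sylow_inf_of_mem_normalizer T C hTnC (Subgroup.pow_mem _ (hDC hd) _)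
          (Subgroup.pow_mem _ (hDN hd) _) hu
      have hcop : m.Coprime (p ^ k) :=
        Nat.Coprime.pow_right _ ((Nat.Prime.coprime_iff_not_dvd Fact.out).mpr hm).symm
      exact Cfsg.Agent.Lib.Helper47_PClosed.mem_of_pow_mem_of_pow_mem_of_coprime hcop
        (hTLcX hdm) hk
    have h1 := isPReducedNormal_normalClosure_of_pRedIn hchar T hTN hXred
    exact Subgroup.le_normalClosure.trans (hYmax _ h1)

end Cfsg.Agent.S2803
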