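import Cfsg.Statements.S0750

set_option autoImplicit false
open Cfsg

namespace Cfsg.Agent.S0750

open Module

section geometry
variable {F V : Type*} [Field F] [AddCommGroup V] [Module F V] [FiniteDimensional F V]
variable (Q : QuadraticForm F V)

local notation "B" => QuadraticMap.polarBilin Q

omit [FiniteDimensional F V] in
theorem Q_add (v w : V) : Q (v + w) = Q v + Q w + B v w := by
  rw [QuadraticMap.polarBilin_apply_apply]
  exact QuadraticMap.map_add Q v w

omit [FiniteDimensional F V] in
theorem Q_smul (a : F) (v : V) : Q (a • v) = a * a * Q v := by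
  rw [QuadraticMap.map_smul, smul_eq_mul]

omit [FiniteDimensional F V] in
theorem B_comm (v w : V) : B v w = B w v := by
  rw [QuadraticMap.polarBilin_apply_apply, QuadraticMap.polarBilin_apply_apply]
  exact QuadraticMap.polar_comm Q v w

omit [FiniteDimensional F V] in
theorem B_self (v : V) : B v v = 2 * Q v := by
  rw [QuadraticMap.polarBilin_apply_apply, QuadraticMap.polar_self]
  simp

omit [FiniteDimensional F V] in
theorem Q_add3 (v u w : V) (a b : F) :
    Q (v + a • u + b • w) =
      Q v + a * a * Q u + b * b * Q w + a * B v u + b * B v w + a * b * B u w := by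
  rw [Q_add, Q_add, Q_smul, Q_smul]
  simp only [map_add, map_smul, LinearMap.add_apply, LinearMap.smul_apply, smul_eq_mul]
  ring

/-- a `Q`-preserving linear map is bijective -/
theorem equiv_of_isometry (hQ : (QuadraticMap.polarBilin Q).Nondegenerate) (τ : V →ₗ[F] V)
    (hτ : ∀ v, Q (τ v) = Q v) : ∃ g : V ≃ₗ[F] V, ∀ v, g v = τ v := by
  have hB : ∀ v w, B (τ v) (τ w) = B v w := by
    intro v w
    have h1 := Q_add Q (τ v) (τ w)
    have h2 := Q_add Q v w
    rw [← map_add, hτ, hτ, hτ] at h1
    rw [h2] at h1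
    linear_combination -h1
  have hinj : Function.Injective τ := by
    rw [← LinearMap.ker_eq_bot, LinearMap.ker_eq_bot']
    intro v hv
    apply hQ.1
    intro w
    rw [← hB v w, hv, map_zero, LinearMap.zero_apply]
  exact ⟨LinearEquiv.ofInjectiveEndo τ hinj, fun v => by
    simp only [LinearEquiv.coe_ofInjectiveEndo]⟩

/-- representing functionals: a vector orthogonal to `K` pairing to `1` with `x ∉ K` -/
theorem exists_dual_vec (hQ : (QuadraticMap.polarBilin Q).Nondegenerate) (K : Submodule F V)
    (x : V) (hx : x ∉ K) : ∃ z : V, (∀ k ∈ K, B k z = 0) ∧ B x z = 1 := by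
  obtain ⟨f, hfx, hfK⟩ := Submodule.exists_le_ker_of_notMem hx
  have hB' : LinearMap.BilinForm.Nondegenerate (QuadraticMap.polarBilin Q) := hQ
  set z₀ := (LinearMap.BilinForm.toDual (QuadraticMap.polarBilin Q) hB').symm f with hz₀
  have hz₀f : ∀ v, B z₀ v = f v := fun v => LinearMap.BilinForm.apply_toDual_symm_apply f v
  refine ⟨(f x)⁻¹ • z₀, ?_, ?_⟩
  · intro k hk
    rw [B_comm, map_smul, LinearMap.smul_apply, hz₀f, LinearMap.mem_ker.mp (hfK hk), smul_zero]
  · rw [B_comm, map_smul, LinearMap.smul_apply, hz₀f, smul_eq_mul, inv_mul_cancel₀ hfx]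

/-- Step: an isometry fixing `H` pointwise and moving `x` to `y`. -/
theorem exists_fix_move (hQ : (QuadraticMap.polarBilin Q).Nondegenerate)
    (H : Submodule F V) (x y : V) (hx : x ∉ H) (hy : y ∉ H)
    (hQxy : Q x = Q y) (hxy : ∀ h ∈ H, B h y = B h x) :
    ∃ g : V ≃ₗ[F] V, (∀ v : V, Q (g v) = Q v) ∧ (∀ h ∈ H, g h = h) ∧ g x = y := by
  have e1s : ∀ (a : F) (w : V), a • w + w = (a + 1) • w := fun a w => by rw [add_smul, one_smul]
  obtain ⟨u, hu⟩ : ∃ u, u = y - x := ⟨_, rfl⟩
  have hyu : y = x + u := by rw [hu]; abel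
  have huH : ∀ h ∈ H, B h u = 0 := by
    intro h hh
    rw [hu, map_sub, hxy h hh, sub_self]
  have hQu : Q u = -B x u := by
    have h1 := Q_add Q x u
    rw [← hyu, ← hQxy] at h1
    linear_combination -h1
  by_cases h0 : B x u ≠ 0
  · -- reflection
    have hQu0 : Q u ≠ 0 := by rw [hQu]; exact neg_ne_zero.mpr h0
    let τ : V →ₗ[F] V := LinearMap.id - (Q u)⁻¹ • ((QuadraticMap.polarBilin Q).flip u).smulRight u
    have hτ : ∀ v, τ v = v + (-((Q u)⁻¹ * B v u)) • u := by
      intro v
      simp only [τ, LinearMap.sub_apply, LinearMap.id_apply, LinearMap.smul_apply,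
        LinearMap.smulRight_apply, LinearMap.flip_apply, smul_smul, neg_smul]
      rw [sub_eq_add_neg]
    have hiso : ∀ v, Q (τ v) = Q v := by
      intro v
      rw [hτ, Q_add, Q_smul, map_smul, smul_eq_mul]
      field_simp
      ring
    obtain ⟨g, hg⟩ := equiv_of_isometry Q hQ τ hiso
    refine ⟨g, fun v => by rw [hg, hiso], ?_, ?_⟩
    · intro h hh
      rw [hg, hτ, huH h hh, mul_zero, neg_zero, zero_smul, add_zero]
    · rw [hg, hτ, hyu, hQu]
      congr 1
      have : -((-B x u)⁻¹ * B x u) = 1 := by field_simp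
      rw [this, one_smul]
  · push Not at h0
    have hQu0 : Q u = 0 := by rw [hQu, h0, neg_zero]
    by_cases hu0 : u = 0
    · refine ⟨LinearEquiv.refl F V, fun v => rfl, fun h _ => rfl, ?_⟩
      rw [hyu, hu0, add_zero]; rfl
    by_cases hxK : x ∈ H ⊔ Submodule.span F {u}
    · -- hyperbolic scaling
      obtain ⟨h₁, hh₁, l, hl, hx1⟩ := Submodule.mem_sup.mp hxK
      obtain ⟨c, rfl⟩ := Submodule.mem_span_singleton.mp hl
      have hc0 : c ≠ 0 := by
        rintro rfl
        apply hx
        rw [← hx1, zero_smul, add_zero]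
        exact hh₁
      have hc1 : c + 1 ≠ 0 := by
        intro hc
        apply hy
        rw [hyu, ← hx1, add_assoc, e1s, hc, zero_smul, add_zero]
        exact hh₁
      have huH' : u ∉ H := by
        intro huH'
        apply hx
        rw [← hx1]
        exact H.add_mem hh₁ (H.smul_mem c huH')
      obtain ⟨z, hzH, hz1⟩ := exists_dual_vec Q hQ H u huH'
      obtain ⟨u', hu'⟩ : ∃ u', u' = z + (-(Q z)) • u := ⟨_, rfl⟩
      have hBuu : B u u = 0 := by rw [B_self, hQu0, mul_zero]
      have hBuu' : B u u' = 1 := by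
        rw [hu', map_add, map_smul, hBuu, smul_zero, add_zero, hz1]
      have hQu' : Q u' = 0 := by
        rw [hu', Q_add, Q_smul, hQu0, map_smul, B_comm Q z u, hz1]
        simp
      have hHu' : ∀ h ∈ H, B h u' = 0 := by
        intro h hh
        rw [hu', map_add, map_smul, hzH h hh, huH h hh, smul_zero, add_zero]
      obtain ⟨lam, hlam⟩ : ∃ lam : F, lam = (c + 1) / c := ⟨_, rfl⟩
      have hlam0 : lam ≠ 0 := by rw [hlam]; exact div_ne_zero hc1 hc0
      let τ : V →ₗ[F] V := LinearMap.id +
        (lam - 1) • ((QuadraticMap.polarBilin Q).flip u').smulRight u +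
        (lam⁻¹ - 1) • ((QuadraticMap.polarBilin Q).flip u).smulRight u'
      have hτ : ∀ v, τ v = v + ((lam - 1) * B v u') • u + ((lam⁻¹ - 1) * B v u) • u' := by
        intro v
        simp only [τ, LinearMap.add_apply, LinearMap.id_apply, LinearMap.smul_apply,
          LinearMap.smulRight_apply, LinearMap.flip_apply, smul_smul]
      have hiso : ∀ v, Q (τ v) = Q v := by
        intro v
        rw [hτ, Q_add3, hQu0, hQu', hBuu']
        field_simp
        ring
      obtain ⟨g, hg⟩ := equiv_of_isometry Q hQ τ hiso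
      refine ⟨g, fun v => by rw [hg, hiso], ?_, ?_⟩
      · intro h hh
        rw [hg, hτ, huH h hh, hHu' h hh, mul_zero, mul_zero, zero_smul, zero_smul, add_zero,
          add_zero]
      · have hτu : τ u = lam • u := by
          rw [hτ, hBuu, hBuu', mul_zero, zero_smul, add_zero, mul_one, add_comm, e1s]
          congr 1
          ring
        have hτh : τ h₁ = h₁ := by
          rw [hτ, huH h₁ hh₁, hHu' h₁ hh₁, mul_zero, mul_zero, zero_smul, zero_smul, add_zero,
            add_zero]
        rw [hg, hyu, ← hx1, map_add, map_smul, hτh, hτu, smul_smul, add_assoc, e1s]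
        congr 2
        rw [hlam]
        field_simp
    · -- Eichler transformation
      obtain ⟨z, hzK, hz1⟩ := exists_dual_vec Q hQ _ x hxK
      have hzH : ∀ h ∈ H, B h z = 0 := fun h hh => hzK h (Submodule.mem_sup_left hh)
      have hzu : B u z = 0 :=
        hzK u (Submodule.mem_sup_right (Submodule.mem_span_singleton_self u))
      let τ : V →ₗ[F] V := LinearMap.id +
        (((QuadraticMap.polarBilin Q).flip z).smulRight u
          - (Q z) • ((QuadraticMap.polarBilin Q).flip u).smulRight u) +
        (-1 : F) • ((QuadraticMap.polarBilin Q).flip u).smulRight z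
      have hτ : ∀ v, τ v = v + (B v z - Q z * B v u) • u + (-B v u) • z := by
        intro v
        simp only [τ, LinearMap.add_apply, LinearMap.id_apply, LinearMap.smul_apply,
          LinearMap.smulRight_apply, LinearMap.flip_apply, smul_smul, LinearMap.sub_apply,
          sub_smul, neg_smul, one_smul, LinearMap.neg_apply]
      have hiso : ∀ v, Q (τ v) = Q v := by
        intro v
        rw [hτ, Q_add3, hQu0, hzu]
        ring
      obtain ⟨g, hg⟩ := equiv_of_isometry Q hQ τ hiso
      refine ⟨g, fun v => by rw [hg, hiso], ?_, ?_⟩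
      · intro h hh
        rw [hg, hτ, huH h hh, hzH h hh, mul_zero, sub_zero, neg_zero, zero_smul, zero_smul,
          add_zero, add_zero]
      · rw [hg, hτ, h0, hz1, mul_zero, sub_zero, neg_zero, zero_smul, one_smul, add_zero, hyu]


theorem witt_quad (hQ : (QuadraticMap.polarBilin Q).Nondegenerate) (n : ℕ) :
    ∀ (X : Submodule F V), finrank F X = n → ∀ ψ : X →ₗ[F] V, Function.Injective ψ →
    (∀ x : X, Q (ψ x) = Q (x : V)) →
    ∃ g : V ≃ₗ[F] V, (∀ v : V, Q (g v) = Q v) ∧ ∀ x : X, g (x : V) = ψ x := by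
  induction n with
  | zero =>
    intro X hX ψ _ _
    refine ⟨LinearEquiv.refl F V, fun v => rfl, ?_⟩
    intro x
    have hX0 : X = ⊥ := Submodule.finrank_eq_zero.mp hX
    have hx0 : x = 0 := by
      apply Subtype.ext
      have : (x : V) ∈ (⊥ : Submodule F V) := hX0 ▸ x.2
      simpa using this
    rw [hx0]; simp
  | succ n ih =>
    intro X hX ψ hψinj hψ
    have hXnt : Nontrivial X := Module.nontrivial_of_finrank_pos (R := F) (by omega)
    obtain ⟨x₀, hx₀⟩ := exists_ne (0 : X)
    obtain ⟨H', hH'⟩ := Submodule.exists_isCompl (Submodule.span F {x₀})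
    have hH'n : finrank F H' = n := by
      have h1 := Submodule.finrank_add_eq_of_isCompl hH'
      rw [finrank_span_singleton hx₀, hX] at h1
      omega
    set H : Submodule F V := H'.map X.subtype with hH
    have hHX : H ≤ X := Submodule.map_subtype_le X H'
    have hHn : finrank F H = n := by
      rw [hH, Submodule.finrank_map_subtype_eq]; exact hH'n
    have hmemH : ∀ z : X, (z : V) ∈ H ↔ z ∈ H' := by
      intro z
      rw [hH, Submodule.mem_map]
      constructor
      · rintro ⟨w, hw, hwz⟩
        have : w = z := Subtype.ext hwz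
        rwa [← this]
      · intro hz; exact ⟨z, hz, rfl⟩
    have hx₀H' : x₀ ∉ H' := by
      intro h
      have : x₀ ∈ Submodule.span F {x₀} ⊓ H' := ⟨Submodule.mem_span_singleton_self x₀, h⟩
      rw [hH'.inf_eq_bot] at this
      exact hx₀ ((Submodule.mem_bot F).mp this)
    obtain ⟨g₀, hg₀iso, hg₀⟩ := ih H hHn (ψ.comp (Submodule.inclusion hHX))
      (hψinj.comp (Submodule.inclusion_injective hHX))
      (fun h => hψ _)
    have hg₀' : ∀ z : X, z ∈ H' → g₀ (z : V) = ψ z := by
      intro z hz
      have := hg₀ ⟨(z : V), (hmemH z).mpr hz⟩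
      have e : (Submodule.inclusion hHX) ⟨(z : V), (hmemH z).mpr hz⟩ = z := Subtype.ext rfl
      rw [LinearMap.comp_apply, e] at this
      exact this
    set y : V := g₀.symm (ψ x₀) with hy
    have hg₀y : g₀ y = ψ x₀ := by rw [hy]; simp
    have hxH : (x₀ : V) ∉ H := fun h => hx₀H' ((hmemH x₀).mp h)
    have hyH : y ∉ H := by
      intro h
      obtain ⟨w, hw, hwy⟩ := h
      have h1 : g₀ (w : V) = ψ w := hg₀' w hw
      have hwy' : (w : V) = y := hwy
      rw [hwy', hg₀y] at h1
      have : x₀ = w := hψinj h1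
      exact hx₀H' (this ▸ hw)
    have hQxy : Q (x₀ : V) = Q y := by
      rw [← hg₀iso y, hg₀y, hψ]
    have hxy : ∀ h ∈ H, B h y = B h (x₀ : V) := by
      rintro _ ⟨w, hw, rfl⟩
      have h1 : Q ((w : V) + y) = Q ((w : V) + (x₀ : V)) := by
        rw [← hg₀iso ((w : V) + y), map_add, hg₀' w hw, hg₀y, ← map_add, hψ]
        rfl
      rw [Q_add, Q_add, ← hQxy] at h1
      exact add_left_cancel h1
    obtain ⟨g₁, hg₁iso, hg₁H, hg₁x⟩ := exists_fix_move Q hQ H (x₀ : V) y hxH hyH hQxy hxy
    refine ⟨g₁.trans g₀, ?_, ?_⟩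
    · intro v
      simp only [LinearEquiv.trans_apply]
      rw [hg₀iso, hg₁iso]
    · intro z
      have hz : z ∈ Submodule.span F {x₀} ⊔ H' := by rw [hH'.sup_eq_top]; trivial
      obtain ⟨l, hl, h', hh', rfl⟩ := Submodule.mem_sup.mp hz
      obtain ⟨c, rfl⟩ := Submodule.mem_span_singleton.mp hl
      simp only [LinearEquiv.trans_apply, Submodule.coe_add, Submodule.coe_smul, map_add,
        map_smul]
      rw [hg₁x, hg₁H _ ((hmemH h').mpr hh'), hg₀y, hg₀' h' hh']

end geometry

/-- Witt's Lemma for quadratic forms over a finite field, in any characteristic: if Q is a quadratic form on a finite-dimensional space V whose polar bilinear form is non-degenerate, then every linear equivalence between subspaces X, Y of V that preserves Q extends to a Q-preserving linear automorphism of V. (In odd characteristic this is the symmetric-bilinear case; in characteristic two it is the statement for non-degenerate quadratic forms.) -/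
theorem result {F V : Type*} [Field F] [Finite F] [AddCommGroup V] [Module F V] [FiniteDimensional F V] (Q : QuadraticForm F V) (hQ : (QuadraticMap.polarBilin Q).Nondegenerate) (X Y : Submodule F V) (φ : X ≃ₗ[F] Y) (hφ : ∀ x : X, Q (φ x : V) = Q (x : V)) : ∃ g : V ≃ₗ[F] V, (∀ v : V, Q (g v) = Q v) ∧ ∀ x : X, g (x : V) = (φ x : V) := by
  obtain ⟨g, hg1, hg2⟩ := witt_quad Q hQ _ X rfl (Y.subtype.comp (φ : X →ₗ[F] Y))
    (Y.subtype_injective.comp φ.injective) (fun x => hφ x)
  exact ⟨g, hg1, fun x => hg2 x⟩

end Cfsg.Agent.S0750
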