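import Cfsg.Statements.S2618
import Cfsg.Agent.Lib.Helper44_QuadClass
import Cfsg.Agent.Lib.Helper44_StdForms

set_option autoImplicit false
open Cfsg

namespace Cfsg.Agent.S2618

/-- Standard (parabolic) basis of a non-degenerate quadratic space of odd dimension 2m + 1 over a finite field (the non-degeneracy of the polar form forces the characteristic to be odd): there is a basis e_i, f_i (i < m), x with Q(e_i) = Q(f_i) = 0, B(e_i, f_j) = δ_ij (B the polar form), the e's pairwise orthogonal and the f's pairwise orthogonal, x orthogonal to all of them and Q(x) ≠ 0. -/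
theorem result {F V : Type*} [Field F] [Finite F] [AddCommGroup V] [Module F V] [FiniteDimensional F V] {m : ℕ} (hV : Module.finrank F V = 2 * m + 1) (Q : QuadraticForm F V) (hQ : (QuadraticMap.polarBilin Q).Nondegenerate) : ∃ b : Module.Basis (Unit ⊕ (Fin m ⊕ Fin m)) F V, Q (b (Sum.inl ())) ≠ 0 ∧ (∀ i, QuadraticMap.polar ⇑Q (b (Sum.inl ())) (b (Sum.inr (Sum.inl i))) = 0 ∧ QuadraticMap.polar ⇑Q (b (Sum.inl ())) (b (Sum.inr (Sum.inr i))) = 0) ∧ (∀ i, Q (b (Sum.inr (Sum.inl i))) = 0 ∧ Q (b (Sum.inr (Sum.inr i))) = 0) ∧ (∀ i j, QuadraticMap.polar ⇑Q (b (Sum.inr (Sum.inl i))) (b (Sum.inr (Sum.inr j))) = if i = j then 1 else 0) ∧ (∀ i j, QuadraticMap.polar ⇑Q (b (Sum.inr (Sum.inl i))) (b (Sum.inr (Sum.inl j))) = 0 ∧ QuadraticMap.polar ⇑Q (b (Sum.inr (Sum.inr i))) (b (Sum.inr (Sum.inr j))) = 0) := by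
  classical
  obtain ⟨x, e, f, h2, hx, hsys, hxe, hxf⟩ :=
    Cfsg.Agent.Lib.Helper44_QuadClass.odd_standard m V Q hV hQ
  set b₀ : Unit ⊕ (Fin m ⊕ Fin m) → V := Sum.elim (fun _ => x) (Sum.elim e f) with hb₀
  have hgram : (Matrix.of fun k l => QuadraticMap.polarBilin Q (b₀ k) (b₀ l))
      = Matrix.fromBlocks (Matrix.of (fun _ _ : Unit => 2 * Q x)) 0 0
          (Matrix.fromBlocks (0 : Matrix (Fin m) (Fin m) F) 1 1 0) := by
    ext k l
    rcases k with k | k | k <;> rcases l with l | l | l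
    · simp [hb₀]
    · simp [hb₀, hxe]
    · simp [hb₀, hxf]
    · simp [hb₀, QuadraticMap.polar_comm (⇑Q) (e k) x, hxe]
    · simp [hb₀, hsys.ee]
    · simp [hb₀, hsys.ef, Matrix.one_apply]
    · simp [hb₀, QuadraticMap.polar_comm (⇑Q) (f k) x, hxf]
    · simp [hb₀, QuadraticMap.polar_comm (⇑Q) (f k) (e l), hsys.ef, Matrix.one_apply, eq_comm]
    · simp [hb₀, hsys.ff]
  have hdet : (Matrix.of fun k l => QuadraticMap.polarBilin Q (b₀ k) (b₀ l)).det ≠ 0 := by
    rw [hgram, Matrix.det_fromBlocks_zero₂₁, Cfsg.Agent.Lib.Helper44_StdForms.det_antidiag,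
      Matrix.det_unique]
    simp only [Matrix.of_apply]
    exact mul_ne_zero (mul_ne_zero h2 hx) (pow_ne_zero _ (by simp))
  obtain ⟨b, hb⟩ := Cfsg.Agent.Lib.Helper44_QuadClass.exists_basis_of_gram
    (QuadraticMap.polarBilin Q) b₀ hdet (by simp [hV]; ring)
  refine ⟨b, ?_, ?_, ?_, ?_, ?_⟩
  · rw [hb]; simpa [hb₀] using hx
  · intro i
    rw [hb]
    exact ⟨by simpa [hb₀] using hxe i, by simpa [hb₀] using hxf i⟩
  · intro i
    rw [hb]
    exact ⟨by simpa [hb₀] using hsys.qe i, by simpa [hb₀] using hsys.qf i⟩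
  · intro i j
    rw [hb]
    simpa [hb₀] using hsys.ef i j
  · intro i j
    rw [hb]
    exact ⟨by simpa [hb₀] using hsys.ee i j, by simpa [hb₀] using hsys.ff i j⟩

end Cfsg.Agent.S2618
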