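import Cfsg.Statements.S2616
import Cfsg.Agent.Lib.Helper44_QuadClass
import Cfsg.Agent.Lib.Helper44_StdForms

set_option autoImplicit false
open Cfsg

namespace Cfsg.Agent.S2616

/-- Standard bases of a non-degenerate quadratic space of even dimension 2m over a finite field: either there is a hyperbolic basis e_i, f_i (Q(e_i) = Q(f_i) = 0, B(e_i, f_j) = δ_ij, the e's pairwise orthogonal and the f's pairwise orthogonal, B the polar form), or there is an elliptic basis: hyperbolic pairs e_i, f_i for i < m − 1 together with x, y orthogonal to them with Q(x) = 1, B(x, y) = 1, Q(y) = ζ where t² + t + ζ has no root in the field. -/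
theorem result {F V : Type*} [Field F] [Finite F] [AddCommGroup V] [Module F V] [FiniteDimensional F V] {m : ℕ} (hm : 1 ≤ m) (hV : Module.finrank F V = 2 * m) (Q : QuadraticForm F V) (hQ : (QuadraticMap.polarBilin Q).Nondegenerate) : (∃ b : Module.Basis (Fin m ⊕ Fin m) F V, (∀ i, Q (b (Sum.inl i)) = 0 ∧ Q (b (Sum.inr i)) = 0) ∧ (∀ i j, QuadraticMap.polar ⇑Q (b (Sum.inl i)) (b (Sum.inr j)) = if i = j then 1 else 0) ∧ (∀ i j, QuadraticMap.polar ⇑Q (b (Sum.inl i)) (b (Sum.inl j)) = 0 ∧ QuadraticMap.polar ⇑Q (b (Sum.inr i)) (b (Sum.inr j)) = 0)) ∨ (∃ (b : Module.Basis ((Fin (m - 1) ⊕ Fin (m - 1)) ⊕ Fin 2) F V) (ζ : F), (∀ t : F, t ^ 2 + t + ζ ≠ 0) ∧ (∀ i, Q (b (Sum.inl (Sum.inl i))) = 0 ∧ Q (b (Sum.inl (Sum.inr i))) = 0) ∧ (∀ i j, QuadraticMap.polar ⇑Q (b (Sum.inl (Sum.inl i))) (b (Sum.inl (Sum.inr j))) = if i = j then 1 else 0) ∧ (∀ i j, QuadraticMap.polar ⇑Q (b (Sum.inl (Sum.inl i))) (b (Sum.inl (Sum.inl j))) = 0 ∧ QuadraticMap.polar ⇑Q (b (Sum.inl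 (Sum.inr i))) (b (Sum.inl (Sum.inr j))) = 0) ∧ (∀ i (k : Fin 2), QuadraticMap.polar ⇑Q (b (Sum.inl (Sum.inl i))) (b (Sum.inr k)) = 0 ∧ QuadraticMap.polar ⇑Q (b (Sum.inl (Sum.inr i))) (b (Sum.inr k)) = 0) ∧ Q (b (Sum.inr 0)) = 1 ∧ QuadraticMap.polar ⇑Q (b (Sum.inr 0)) (b (Sum.inr 1)) = 1 ∧ Q (b (Sum.inr 1)) = ζ) := by
  classical
  obtain ⟨m', rfl⟩ : ∃ m', m = m' + 1 := ⟨m - 1, by omega⟩
  rw [Nat.add_sub_cancel]
  rcases Cfsg.Agent.Lib.Helper44_QuadClass.even_standard m' V Q hV hQ with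
    ⟨e, f, hsys⟩ | ⟨e, f, x, y, ζ, hsys, hirr, hxe, hxf, hye, hyf, hx, hxy, hy⟩
  · left
    set b₀ : Fin (m' + 1) ⊕ Fin (m' + 1) → V := Sum.elim e f with hb₀
    have hgram : (Matrix.of fun k l => QuadraticMap.polarBilin Q (b₀ k) (b₀ l))
        = Matrix.fromBlocks (0 : Matrix (Fin (m' + 1)) (Fin (m' + 1)) F) 1 1 0 := by
      ext k l
      rcases k with k | k <;> rcases l with l | l
      · simp [hb₀, hsys.ee]
      · simp [hb₀, hsys.ef, Matrix.one_apply]
      · simp [hb₀, QuadraticMap.polar_comm (⇑Q) (f k) (e l), hsys.ef, Matrix.one_apply, eq_comm]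
      · simp [hb₀, hsys.ff]
    have hdet : (Matrix.of fun k l => QuadraticMap.polarBilin Q (b₀ k) (b₀ l)).det ≠ 0 := by
      rw [hgram, Cfsg.Agent.Lib.Helper44_StdForms.det_antidiag]
      exact pow_ne_zero _ (by simp)
    obtain ⟨b, hb⟩ := Cfsg.Agent.Lib.Helper44_QuadClass.exists_basis_of_gram
      (QuadraticMap.polarBilin Q) b₀ hdet (by simp [hV]; ring)
    refine ⟨b, ?_, ?_, ?_⟩
    · intro i
      rw [hb]
      exact ⟨by simpa [hb₀] using hsys.qe i, by simpa [hb₀] using hsys.qf i⟩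
    · intro i j
      rw [hb]
      simpa [hb₀] using hsys.ef i j
    · intro i j
      rw [hb]
      exact ⟨by simpa [hb₀] using hsys.ee i j, by simpa [hb₀] using hsys.ff i j⟩
  · right
    set b₀ : (Fin m' ⊕ Fin m') ⊕ Fin 2 → V := Sum.elim (Sum.elim e f) ![x, y] with hb₀
    have hyx : QuadraticMap.polar (⇑Q) y x = 1 := by rw [QuadraticMap.polar_comm, hxy]
    have hgram : (Matrix.of fun k l => QuadraticMap.polarBilin Q (b₀ k) (b₀ l))
        = Matrix.fromBlocks (Matrix.fromBlocks (0 : Matrix (Fin m') (Fin m') F) 1 1 0) 0 0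
            (Matrix.of ![![2, 1], ![1, 2 * ζ]]) := by
      ext k l
      rcases k with (k | k) | k <;> rcases l with (l | l) | l
      · simp [hb₀, hsys.ee]
      · simp [hb₀, hsys.ef, Matrix.one_apply]
      · fin_cases l
        · simp [hb₀, QuadraticMap.polar_comm (⇑Q) (e k) x, hxe]
        · simp [hb₀, QuadraticMap.polar_comm (⇑Q) (e k) y, hye]
      · simp [hb₀, QuadraticMap.polar_comm (⇑Q) (f k) (e l), hsys.ef, Matrix.one_apply, eq_comm]
      · simp [hb₀, hsys.ff]
      · fin_cases l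
        · simp [hb₀, QuadraticMap.polar_comm (⇑Q) (f k) x, hxf]
        · simp [hb₀, QuadraticMap.polar_comm (⇑Q) (f k) y, hyf]
      · fin_cases k
        · simp [hb₀, hxe]
        · simp [hb₀, hye]
      · fin_cases k
        · simp [hb₀, hxf]
        · simp [hb₀, hyf]
      · fin_cases k <;> fin_cases l
        · simp [hb₀, hx]
        · simp [hb₀, hxy]
        · simp [hb₀, hyx]
        · simp [hb₀, hy]
    have h4 : 4 * ζ - 1 ≠ 0 := by
      intro h0
      by_cases h2 : (2 : F) = 0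
      · have : (4 : F) = 0 := by
          have : (4 : F) = 2 * 2 := by norm_num
          rw [this, h2, mul_zero]
        rw [this, zero_mul, zero_sub] at h0
        simp at h0
      · apply hirr (-(1 / 2))
        field_simp
        linear_combination h0
    have hdet : (Matrix.of fun k l => QuadraticMap.polarBilin Q (b₀ k) (b₀ l)).det ≠ 0 := by
      rw [hgram, Matrix.det_fromBlocks_zero₂₁, Cfsg.Agent.Lib.Helper44_StdForms.det_antidiag,
        Matrix.det_fin_two_of]
      refine mul_ne_zero (pow_ne_zero _ (by simp)) ?_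
      intro h0
      apply h4
      linear_combination h0
    obtain ⟨b, hb⟩ := Cfsg.Agent.Lib.Helper44_QuadClass.exists_basis_of_gram
      (QuadraticMap.polarBilin Q) b₀ hdet (by simp [hV]; ring)
    refine ⟨b, ζ, hirr, ?_, ?_, ?_, ?_, ?_, ?_, ?_⟩
    · intro i
      rw [hb]
      exact ⟨by simpa [hb₀] using hsys.qe i, by simpa [hb₀] using hsys.qf i⟩
    · intro i j
      rw [hb]
      simpa [hb₀] using hsys.ef i j
    · intro i j
      rw [hb]
      exact ⟨by simpa [hb₀] using hsys.ee i j, by simpa [hb₀] using hsys.ff i j⟩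
    · intro i k
      rw [hb]
      fin_cases k
      · exact ⟨by simpa [hb₀, QuadraticMap.polar_comm (⇑Q) (e i) x] using hxe i,
          by simpa [hb₀, QuadraticMap.polar_comm (⇑Q) (f i) x] using hxf i⟩
      · exact ⟨by simpa [hb₀, QuadraticMap.polar_comm (⇑Q) (e i) y] using hye i,
          by simpa [hb₀, QuadraticMap.polar_comm (⇑Q) (f i) y] using hyf i⟩
    · rw [hb]; simpa [hb₀] using hx
    · rw [hb]; simpa [hb₀] using hxy
    · rw [hb]; simpa [hb₀] using hy

end Cfsg.Agent.S2616
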