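import Cfsg.Statements.S5013

set_option autoImplicit false
open Cfsg

namespace Cfsg.Agent.S5013

variable {G : Type*} [Group G]

theorem mem_conjBy_iff (A : Subgroup G) (g x : G) : x ∈ Cfsg.conjBy A g ↔ g⁻¹ * x * g ∈ A := by
  unfold Cfsg.conjBy
  rw [Subgroup.mem_map]
  constructor
  · rintro ⟨y, hy, rfl⟩
    simpa [MulAut.conj_apply, mul_assoc] using hy
  · intro h
    exact ⟨g⁻¹ * x * g, h, by simp [MulAut.conj_apply, mul_assoc]⟩

theorem conjBy_self_mem {A : Subgroup G} {g : G} (hg : g ∈ A) : Cfsg.conjBy A g = A := by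
  ext x
  rw [mem_conjBy_iff]
  constructor
  · intro h
    have := A.mul_mem (A.mul_mem hg h) (A.inv_mem hg)
    simpa [mul_assoc] using this
  · intro h
    exact A.mul_mem (A.mul_mem (A.inv_mem hg) h) hg

theorem conjBy_mul (A : Subgroup G) (g h : G) : Cfsg.conjBy (Cfsg.conjBy A h) g = Cfsg.conjBy A (g * h) := by
  ext x
  simp only [mem_conjBy_iff]
  simp [mul_assoc]

theorem conjBy_one (A : Subgroup G) : Cfsg.conjBy A 1 = A := by
  ext x
  simp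

theorem conjBy_of_mem_normalizer {B : Subgroup G} {g : G} (hg : g ∈ Subgroup.normalizer (B : Set G)) :
    Cfsg.conjBy B g = B := by
  ext x
  rw [mem_conjBy_iff]
  have h2 : g⁻¹ ∈ Subgroup.normalizer (B : Set G) := inv_mem hg
  rw [Subgroup.mem_normalizer_iff] at h2
  have := h2 x
  simp only [inv_inv] at this
  exact (this).symm

theorem mem_normalizer_of_conjBy_eq {B : Subgroup G} {g : G} (h : Cfsg.conjBy B g = B) :
    g ∈ Subgroup.normalizer (B : Set G) := by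
  have h3 : g⁻¹ ∈ Subgroup.normalizer (B : Set G) := by
    rw [Subgroup.mem_normalizer_iff]
    intro x
    have : x ∈ Cfsg.conjBy B g ↔ x ∈ B := by rw [h]
    rw [mem_conjBy_iff] at this
    simp only [inv_inv]
    exact this.symm
  simpa using inv_mem h3

/-- No non-identity element of `A` normalizes `B`. -/
theorem inf_normalizer_eq_bot {A B : Subgroup G} (hne : A ≠ B) (hc : Cfsg.RankOneCondition A B) :
    A ⊓ Subgroup.normalizer (B : Set G) = ⊥ := by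
  rw [eq_bot_iff]
  rintro a ⟨haA, haN⟩
  rw [Subgroup.mem_bot]
  by_contra ha1
  obtain ⟨b, hbB, hb1, hconj⟩ := hc a haA ha1
  apply hne
  have h1 : Cfsg.conjBy B a⁻¹ = B := conjBy_of_mem_normalizer (inv_mem haN)
  rw [h1] at hconj
  -- conjBy A b⁻¹ = B, so A = conjBy B b = B
  have h2 : Cfsg.conjBy (Cfsg.conjBy A b⁻¹) b = Cfsg.conjBy B b := by rw [hconj]
  rw [conjBy_mul, mul_inv_cancel, conjBy_one, conjBy_self_mem hbB] at h2
  exact h2

theorem result {G : Type*} [Group G] {A B : Subgroup G} (h : Cfsg.IsRankOnePair A B) :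
    (∀ a ∈ A, a ≠ 1 → ∃! b : G, b ∈ B ∧ b ≠ 1 ∧ Cfsg.conjBy A b⁻¹ = Cfsg.conjBy B a⁻¹) ∧
    (∀ b ∈ B, b ≠ 1 → ∃! a : G, a ∈ A ∧ a ≠ 1 ∧ Cfsg.conjBy A b⁻¹ = Cfsg.conjBy B a⁻¹) ∧
    A ⊓ Subgroup.normalizer (B : Set G) = ⊥ ∧ B ⊓ Subgroup.normalizer (A : Set G) = ⊥ := by
  have hAB : A ⊓ Subgroup.normalizer (B : Set G) = ⊥ := inf_normalizer_eq_bot h.ne h.cond_left
  have hBA : B ⊓ Subgroup.normalizer (A : Set G) = ⊥ := inf_normalizer_eq_bot h.ne.symm h.cond_right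
  refine ⟨?_, ?_, hAB, hBA⟩
  · intro a haA ha1
    obtain ⟨b, hbB, hb1, hconj⟩ := h.cond_left a haA ha1
    refine ⟨b, ⟨hbB, hb1, hconj⟩, ?_⟩
    rintro b' ⟨hb'B, hb'1, hconj'⟩
    -- conjBy A b'⁻¹ = conjBy A b⁻¹, so b' * b⁻¹ normalizes A
    have h1 : Cfsg.conjBy A b'⁻¹ = Cfsg.conjBy A b⁻¹ := by rw [hconj, hconj']
    have h2 : Cfsg.conjBy (Cfsg.conjBy A b'⁻¹) b = Cfsg.conjBy (Cfsg.conjBy A b⁻¹) b := by rw [h1]
    rw [conjBy_mul, conjBy_mul, mul_inv_cancel, conjBy_one] at h2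
    have h3 : b * b'⁻¹ ∈ B ⊓ Subgroup.normalizer (A : Set G) :=
      ⟨B.mul_mem hbB (B.inv_mem hb'B), mem_normalizer_of_conjBy_eq h2⟩
    rw [hBA, Subgroup.mem_bot] at h3
    have : b = b' := by
      have := mul_inv_eq_one.mp h3
      exact this
    exact this.symm
  · intro b hbB hb1
    obtain ⟨a, haA, ha1, hconj⟩ := h.cond_right b hbB hb1
    refine ⟨a, ⟨haA, ha1, hconj.symm⟩, ?_⟩
    rintro a' ⟨ha'A, ha'1, hconj'⟩
    have h1 : Cfsg.conjBy B a'⁻¹ = Cfsg.conjBy B a⁻¹ := by rw [hconj, hconj']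
    have h2 : Cfsg.conjBy (Cfsg.conjBy B a'⁻¹) a = Cfsg.conjBy (Cfsg.conjBy B a⁻¹) a := by rw [h1]
    rw [conjBy_mul, conjBy_mul, mul_inv_cancel, conjBy_one] at h2
    have h3 : a * a'⁻¹ ∈ A ⊓ Subgroup.normalizer (B : Set G) :=
      ⟨A.mul_mem haA (A.inv_mem ha'A), mem_normalizer_of_conjBy_eq h2⟩
    rw [hAB, Subgroup.mem_bot] at h3
    exact (mul_inv_eq_one.mp h3).symm

end Cfsg.Agent.S5013
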