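import Cfsg.Statements.S5016
import Cfsg.Agent.S5013
import Cfsg.Agent.Lib.Helper83_RankOne

set_option autoImplicit false
open Cfsg Matrix

namespace Cfsg.Agent.S5016

open Cfsg.Agent.Lib.Helper83_RankOne

variable {k : Type*} [Field k]

/-- The lower unitriangular matrix with entry `t`. -/
def lowerElt (t : k) : Matrix.SpecialLinearGroup (Fin 2) k :=
  ⟨!![1, 0; t, 1], by simp [Matrix.det_fin_two_of]⟩

/-- The upper unitriangular matrix with entry `s`. -/
def upperElt (s : k) : Matrix.SpecialLinearGroup (Fin 2) k :=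
  ⟨!![1, s; 0, 1], by simp [Matrix.det_fin_two_of]⟩

theorem lowerElt_coe (t : k) : (lowerElt t : Matrix (Fin 2) (Fin 2) k) = !![1, 0; t, 1] := rfl

theorem upperElt_coe (t : k) : (upperElt t : Matrix (Fin 2) (Fin 2) k) = !![1, t; 0, 1] := rfl

theorem lowerElt_mul (s t : k) : lowerElt s * lowerElt t = lowerElt (s + t) := by
  apply Subtype.ext
  rw [Matrix.SpecialLinearGroup.coe_mul, lowerElt_coe, lowerElt_coe, lowerElt_coe, Matrix.mul_fin_two]
  simp [add_comm]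

theorem upperElt_mul (s t : k) : upperElt s * upperElt t = upperElt (s + t) := by
  apply Subtype.ext
  rw [Matrix.SpecialLinearGroup.coe_mul, upperElt_coe, upperElt_coe, upperElt_coe, Matrix.mul_fin_two]
  simp [add_comm]

theorem lowerElt_zero : lowerElt (0 : k) = 1 := by
  apply Subtype.ext
  rw [lowerElt_coe, Matrix.SpecialLinearGroup.coe_one]
  exact Matrix.one_fin_two.symm

theorem upperElt_zero : upperElt (0 : k) = 1 := by
  apply Subtype.ext
  rw [upperElt_coe, Matrix.SpecialLinearGroup.coe_one]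
  exact Matrix.one_fin_two.symm

theorem lowerElt_inv (t : k) : (lowerElt t)⁻¹ = lowerElt (-t) := by
  rw [inv_eq_iff_mul_eq_one, lowerElt_mul, add_neg_cancel, lowerElt_zero]

theorem upperElt_inv (t : k) : (upperElt t)⁻¹ = upperElt (-t) := by
  rw [inv_eq_iff_mul_eq_one, upperElt_mul, add_neg_cancel, upperElt_zero]

theorem lowerElt_eq_one_iff {t : k} : lowerElt t = 1 ↔ t = 0 := by
  constructor
  · intro h
    have := congrArg (fun g : Matrix.SpecialLinearGroup (Fin 2) k => (g : Matrix (Fin 2) (Fin 2) k) 1 0) h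
    simpa [lowerElt_coe] using this
  · rintro rfl; exact lowerElt_zero

theorem upperElt_eq_one_iff {t : k} : upperElt t = 1 ↔ t = 0 := by
  constructor
  · intro h
    have := congrArg (fun g : Matrix.SpecialLinearGroup (Fin 2) k => (g : Matrix (Fin 2) (Fin 2) k) 0 1) h
    simpa [upperElt_coe] using this
  · rintro rfl; exact upperElt_zero

theorem mem_lower_iff {g : Matrix.SpecialLinearGroup (Fin 2) k} :
    g ∈ Cfsg.lowerUnipotentSL2 k ↔ ∃ t : k, g = lowerElt t := by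
  constructor
  · intro hg
    unfold Cfsg.lowerUnipotentSL2 at hg
    induction hg using Subgroup.closure_induction with
    | mem x hx =>
      obtain ⟨h1, h2, h3⟩ := hx
      refine ⟨(x : Matrix (Fin 2) (Fin 2) k) 1 0, ?_⟩
      apply Matrix.SpecialLinearGroup.ext
      intro i j
      fin_cases i <;> fin_cases j <;> simp [lowerElt_coe, h1, h2, h3]
    | one => exact ⟨0, lowerElt_zero.symm⟩
    | mul x y _ _ hx hy =>
      obtain ⟨s, rfl⟩ := hx
      obtain ⟨t, rfl⟩ := hy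
      exact ⟨s + t, lowerElt_mul s t⟩
    | inv x _ hx =>
      obtain ⟨s, rfl⟩ := hx
      exact ⟨-s, lowerElt_inv s⟩
  · rintro ⟨t, rfl⟩
    apply Subgroup.subset_closure
    simp [lowerElt_coe]

theorem mem_upper_iff {g : Matrix.SpecialLinearGroup (Fin 2) k} :
    g ∈ Cfsg.upperUnipotentSL2 k ↔ ∃ t : k, g = upperElt t := by
  constructor
  · intro hg
    unfold Cfsg.upperUnipotentSL2 at hg
    induction hg using Subgroup.closure_induction with
    | mem x hx =>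
      obtain ⟨h1, h2, h3⟩ := hx
      refine ⟨(x : Matrix (Fin 2) (Fin 2) k) 0 1, ?_⟩
      apply Matrix.SpecialLinearGroup.ext
      intro i j
      fin_cases i <;> fin_cases j <;> simp [upperElt_coe, h1, h2, h3]
    | one => exact ⟨0, upperElt_zero.symm⟩
    | mul x y _ _ hx hy =>
      obtain ⟨s, rfl⟩ := hx
      obtain ⟨t, rfl⟩ := hy
      exact ⟨s + t, upperElt_mul s t⟩
    | inv x _ hx =>
      obtain ⟨s, rfl⟩ := hx
      exact ⟨-s, upperElt_inv s⟩
  · rintro ⟨t, rfl⟩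
    apply Subgroup.subset_closure
    simp [upperElt_coe]

theorem lowerElt_mem (t : k) : lowerElt t ∈ Cfsg.lowerUnipotentSL2 k := mem_lower_iff.mpr ⟨t, rfl⟩

theorem upperElt_mem (t : k) : upperElt t ∈ Cfsg.upperUnipotentSL2 k := mem_upper_iff.mpr ⟨t, rfl⟩

theorem lower_comm : IsMulCommutative (Cfsg.lowerUnipotentSL2 k) := by
  rw [isMulCommutative_iff]
  rintro ⟨x, hx⟩ ⟨y, hy⟩
  obtain ⟨s, rfl⟩ := mem_lower_iff.mp hx
  obtain ⟨t, rfl⟩ := mem_lower_iff.mp hy
  apply Subtype.ext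
  simp only [Subgroup.coe_mul]
  rw [lowerElt_mul, lowerElt_mul, add_comm]

theorem upper_comm : IsMulCommutative (Cfsg.upperUnipotentSL2 k) := by
  rw [isMulCommutative_iff]
  rintro ⟨x, hx⟩ ⟨y, hy⟩
  obtain ⟨s, rfl⟩ := mem_upper_iff.mp hx
  obtain ⟨t, rfl⟩ := mem_upper_iff.mp hy
  apply Subtype.ext
  simp only [Subgroup.coe_mul]
  rw [upperElt_mul, upperElt_mul, add_comm]

theorem nilpotent_of_comm {H : Type*} [Group H] (h : IsMulCommutative H) : Group.IsNilpotent H :=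
  ⟨⟨1, Subgroup.upperCentralSeries_one_eq_top_iff.mpr h⟩⟩

theorem lower_ne_upper : Cfsg.lowerUnipotentSL2 k ≠ Cfsg.upperUnipotentSL2 k := by
  intro h
  have h1 : lowerElt (1 : k) ∈ Cfsg.upperUnipotentSL2 k := by rw [← h]; exact lowerElt_mem 1
  obtain ⟨t, ht⟩ := mem_upper_iff.mp h1
  have := congrArg (fun g : Matrix.SpecialLinearGroup (Fin 2) k => (g : Matrix (Fin 2) (Fin 2) k) 1 0) ht
  simp [lowerElt_coe, upperElt_coe] at this

theorem sup_eq_top : Cfsg.lowerUnipotentSL2 k ⊔ Cfsg.upperUnipotentSL2 k = ⊤ := by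
  rw [eq_top_iff]
  intro g _
  refine Matrix.SL2.transvection_induction (fun g => g ∈ Cfsg.lowerUnipotentSL2 k ⊔ Cfsg.upperUnipotentSL2 k)
    ?_ (fun A B hA hB => mul_mem hA hB) g
  intro i j hij c
  fin_cases i <;> fin_cases j
  · exact absurd rfl hij
  · apply Subgroup.mem_sup_right
    rw [mem_upper_iff]
    refine ⟨c, ?_⟩
    apply Matrix.SpecialLinearGroup.ext
    intro i j
    fin_cases i <;> fin_cases j <;>
      simp [upperElt_coe, Matrix.SpecialLinearGroup.transvection_coe]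
  · apply Subgroup.mem_sup_left
    rw [mem_lower_iff]
    refine ⟨c, ?_⟩
    apply Matrix.SpecialLinearGroup.ext
    intro i j
    fin_cases i <;> fin_cases j <;>
      simp [lowerElt_coe, Matrix.SpecialLinearGroup.transvection_coe]
  · exact absurd rfl hij

/-- The key matrix identity. -/
theorem key_identity {t₀ : k} (ht₀ : t₀ ≠ 0) (t : k) :
    lowerElt t₀ * (upperElt t₀⁻¹)⁻¹ * lowerElt t * upperElt t₀⁻¹ * (lowerElt t₀)⁻¹ =
      upperElt (-t / t₀ ^ 2) := by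
  rw [upperElt_inv, lowerElt_inv]
  apply Subtype.ext
  simp only [Matrix.SpecialLinearGroup.coe_mul, lowerElt_coe, upperElt_coe, Matrix.mul_fin_two]
  ext i j
  fin_cases i <;> fin_cases j <;> simp <;> field_simp <;> ring

/-- The partner of `lowerElt t₀` is `upperElt t₀⁻¹`. -/
theorem conj_eq {t₀ : k} (ht₀ : t₀ ≠ 0) :
    Cfsg.conjBy (Cfsg.lowerUnipotentSL2 k) (upperElt t₀⁻¹)⁻¹ =
      Cfsg.conjBy (Cfsg.upperUnipotentSL2 k) (lowerElt t₀)⁻¹ := by
  ext x
  rw [mem_conjBy_iff, mem_conjBy_iff, inv_inv, inv_inv, mem_lower_iff, mem_upper_iff]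
  constructor
  · rintro ⟨t, ht⟩
    refine ⟨-t / t₀ ^ 2, ?_⟩
    rw [← key_identity ht₀ t, ← ht]
    group
  · rintro ⟨s, hs⟩
    refine ⟨-s * t₀ ^ 2, ?_⟩
    have h1 := key_identity ht₀ (-s * t₀ ^ 2)
    have e : -(-s * t₀ ^ 2) / t₀ ^ 2 = s := by field_simp
    rw [e, ← hs] at h1
    have h2 : lowerElt (-s * t₀ ^ 2) =
        upperElt t₀⁻¹ * (lowerElt t₀)⁻¹ * (lowerElt t₀ * (upperElt t₀⁻¹)⁻¹ * lowerElt (-s * t₀ ^ 2) *
          upperElt t₀⁻¹ * (lowerElt t₀)⁻¹) * lowerElt t₀ * (upperElt t₀⁻¹)⁻¹ := by group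
    rw [h2, h1]
    group

theorem special_identity {t₀ : k} (ht₀ : t₀ ≠ 0) :
    (upperElt t₀⁻¹)⁻¹ * lowerElt t₀ * upperElt t₀⁻¹ =
      (lowerElt t₀)⁻¹ * (upperElt t₀⁻¹)⁻¹ * lowerElt t₀ := by
  rw [upperElt_inv, lowerElt_inv]
  apply Subtype.ext
  simp only [Matrix.SpecialLinearGroup.coe_mul, lowerElt_coe, upperElt_coe, Matrix.mul_fin_two]
  have h1 : t₀⁻¹ * t₀ = 1 := inv_mul_cancel₀ ht₀
  have h2 : t₀ * t₀⁻¹ = 1 := mul_inv_cancel₀ ht₀
  ext i j
  fin_cases i <;> fin_cases j <;> simp [h1, h2] <;> ring_nf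

theorem pair : Cfsg.IsRankOnePair (Cfsg.lowerUnipotentSL2 k) (Cfsg.upperUnipotentSL2 k) where
  ne := lower_ne_upper
  nilpotent_left := nilpotent_of_comm lower_comm
  nilpotent_right := nilpotent_of_comm upper_comm
  cond_left := by
    intro a ha ha1
    obtain ⟨t₀, rfl⟩ := mem_lower_iff.mp ha
    have ht₀ : t₀ ≠ 0 := fun h => ha1 (lowerElt_eq_one_iff.mpr h)
    refine ⟨upperElt t₀⁻¹, upperElt_mem _, ?_, conj_eq ht₀⟩
    rw [Ne, upperElt_eq_one_iff]
    exact inv_ne_zero ht₀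
  cond_right := by
    intro b hb hb1
    obtain ⟨s₀, rfl⟩ := mem_upper_iff.mp hb
    have hs₀ : s₀ ≠ 0 := fun h => hb1 (upperElt_eq_one_iff.mpr h)
    refine ⟨lowerElt s₀⁻¹, lowerElt_mem _, ?_, ?_⟩
    · rw [Ne, lowerElt_eq_one_iff]
      exact inv_ne_zero hs₀
    · have := conj_eq (inv_ne_zero hs₀)
      rw [inv_inv] at this
      exact this.symm

theorem result (k : Type*) [Field k] :
    Cfsg.IsRankOneGroup (Matrix.SpecialLinearGroup (Fin 2) k) (Cfsg.lowerUnipotentSL2 k) (Cfsg.upperUnipotentSL2 k) ∧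
    Cfsg.IsSpecialRankOnePair (Cfsg.lowerUnipotentSL2 k) (Cfsg.upperUnipotentSL2 k) ∧
    Cfsg.HasAbelianUnipotents (Cfsg.lowerUnipotentSL2 k) (Cfsg.upperUnipotentSL2 k) := by
  refine ⟨⟨sup_eq_top, pair⟩, ⟨pair, ?_⟩, ⟨lower_comm, upper_comm⟩⟩
  intro a ha ha1 b hb hb1 hconj
  obtain ⟨t₀, rfl⟩ := mem_lower_iff.mp ha
  have ht₀ : t₀ ≠ 0 := fun h => ha1 (lowerElt_eq_one_iff.mpr h)
  -- by uniqueness of the partner, b = upperElt t₀⁻¹
  obtain ⟨b₀, _, huniq⟩ := (Cfsg.Agent.S5013.result (pair (k := k))).1 _ ha ha1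
  have h1 := huniq b ⟨hb, hb1, hconj⟩
  have h2 := huniq (upperElt t₀⁻¹) ⟨upperElt_mem _, by
    rw [Ne, upperElt_eq_one_iff]; exact inv_ne_zero ht₀, conj_eq ht₀⟩
  rw [h1, ← h2]
  exact special_identity ht₀

end Cfsg.Agent.S5016
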