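import Cfsg.Statements.S0765
import Cfsg.Agent.Lib.Helper13_SympGen

set_option autoImplicit false
open Cfsg

namespace Cfsg.Agent.S0765

open Matrix Cfsg.Agent.Lib.Helper13_Symp Cfsg.Agent.Lib.Helper13_SympTrans
  Cfsg.Agent.Lib.Helper13_SympGen

variable {F : Type*} [Field F] {m : ℕ}

theorem sympForm_single_inr (x : Fin m ⊕ Fin m → F) (j : Fin m) :
    Cfsg.sympForm m F x (Pi.single (Sum.inr j) 1) = - x (Sum.inl j) := by
  rw [sympForm_eq]
  rw [Finset.sum_eq_single j]
  · simp
  · intro b _ hb
    simp [hb]
  · intro h; exact absurd (Finset.mem_univ j) h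

theorem sympForm_single_inl (x : Fin m ⊕ Fin m → F) (j : Fin m) :
    Cfsg.sympForm m F x (Pi.single (Sum.inl j) 1) = x (Sum.inr j) := by
  rw [sympForm_eq]
  rw [Finset.sum_eq_single j]
  · simp
  · intro b _ hb
    simp [hb]
  · intro h; exact absurd (Finset.mem_univ j) h

/-- vectors supported on the first `k` hyperbolic pairs -/
def Wk (F : Type*) [Field F] (m k : ℕ) : Submodule F (Fin m ⊕ Fin m → F) where
  carrier := {x | ∀ i : Fin m, k ≤ i.val → x (Sum.inl i) = 0 ∧ x (Sum.inr i) = 0}
  add_mem' := by
    intro a b ha hb i hi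
    simp [ha i hi, hb i hi]
  zero_mem' := by
    intro i _
    simp
  smul_mem' := by
    intro c x hx i hi
    simp [hx i hi]

theorem mem_Wk {k : ℕ} {x : Fin m ⊕ Fin m → F} :
    x ∈ Wk F m k ↔ ∀ i : Fin m, k ≤ i.val → x (Sum.inl i) = 0 ∧ x (Sum.inr i) = 0 := Iff.rfl

theorem Wk_nondeg (k : ℕ) : ∀ u ∈ Wk F m k, u ≠ 0 → ∃ w ∈ Wk F m k, Cfsg.sympForm m F u w ≠ 0 := by
  intro u hu hu0
  obtain ⟨j, hj⟩ : ∃ j, u j ≠ 0 := by
    by_contra hcon
    push Not at hcon
    exact hu0 (funext hcon)
  rcases j with i | i
  · have hik : i.val < k := by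
      by_contra hcon
      exact hj (hu i (not_lt.mp hcon)).1
    refine ⟨Pi.single (Sum.inr i) 1, ?_, ?_⟩
    · intro i' hi'
      have : i' ≠ i := by
        rintro rfl
        omega
      simp [this]
    · rw [sympForm_single_inr]
      exact neg_ne_zero.mpr hj
  · have hik : i.val < k := by
      by_contra hcon
      exact hj (hu i (not_lt.mp hcon)).2
    refine ⟨Pi.single (Sum.inl i) 1, ?_, ?_⟩
    · intro i' hi'
      have : i' ≠ i := by
        rintro rfl
        omega
      simp [this]
    · rw [sympForm_single_inl]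
      exact hj

theorem main_induction (k : ℕ) : ∀ A : Matrix.symplecticGroup (Fin m) F,
    (∀ i : Fin m, k ≤ i.val →
      (A : Matrix (Fin m ⊕ Fin m) (Fin m ⊕ Fin m) F) *ᵥ Pi.single (Sum.inl i) 1
        = Pi.single (Sum.inl i) 1 ∧
      (A : Matrix (Fin m ⊕ Fin m) (Fin m ⊕ Fin m) F) *ᵥ Pi.single (Sum.inr i) 1
        = Pi.single (Sum.inr i) 1) → A ∈ transvSubgroup F m := by
  induction k with
  | zero =>
    intro A hA
    have : A = 1 := by
      apply Subtype.ext
      ext i j
      rcases j with j | j
      · have := congrFun (hA j (Nat.zero_le _)).1 i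
        rw [Matrix.mulVec_single_one] at this
        simpa [Matrix.one_apply, Pi.single_apply, eq_comm] using this
      · have := congrFun (hA j (Nat.zero_le _)).2 i
        rw [Matrix.mulVec_single_one] at this
        simpa [Matrix.one_apply, Pi.single_apply, eq_comm] using this
    rw [this]
    exact Subgroup.one_mem _
  | succ k ih =>
    intro A hA
    by_cases hkm : k < m
    · set i₀ : Fin m := ⟨k, hkm⟩ with hi₀
      set u : Fin m ⊕ Fin m → F := Pi.single (Sum.inr i₀) 1 with hu
      set v : Fin m ⊕ Fin m → F := Pi.single (Sum.inl i₀) 1 with hv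
      have huv : Cfsg.sympForm m F u v = 1 := by
        rw [hv, sympForm_single_inl, hu]; simp
      have huW : u ∈ Wk F m (k + 1) := by
        intro i hi
        have : i ≠ i₀ := by
          rintro rfl
          simp [hi₀] at hi
        simp [hu, this]
      have hvW : v ∈ Wk F m (k + 1) := by
        intro i hi
        have : i ≠ i₀ := by
          rintro rfl
          simp [hi₀] at hi
        simp [hv, this]
      -- `A` preserves `Wk (k+1)`
      have hApres : ∀ x ∈ Wk F m (k + 1),
          (A : Matrix (Fin m ⊕ Fin m) (Fin m ⊕ Fin m) F) *ᵥ x ∈ Wk F m (k + 1) := by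
        intro x hx i hi
        constructor
        · have h1 := sympForm_single_inr
            ((A : Matrix (Fin m ⊕ Fin m) (Fin m ⊕ Fin m) F) *ᵥ x) i
          rw [← (hA i hi).2, sympForm_mulVec_mulVec_of_mem m A.2, sympForm_single_inr,
            (hx i hi).1] at h1
          have h2 := h1.symm
          rw [neg_zero, neg_eq_zero] at h2
          exact h2
        · have h1 := sympForm_single_inl
            ((A : Matrix (Fin m ⊕ Fin m) (Fin m ⊕ Fin m) F) *ᵥ x) i
          rw [← (hA i hi).1, sympForm_mulVec_mulVec_of_mem m A.2, sympForm_single_inl,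
            (hx i hi).2] at h1
          exact h1.symm
      have huv' : Cfsg.sympForm m F ((A : Matrix (Fin m ⊕ Fin m) (Fin m ⊕ Fin m) F) *ᵥ u)
          ((A : Matrix (Fin m ⊕ Fin m) (Fin m ⊕ Fin m) F) *ᵥ v) = 1 := by
        rw [sympForm_mulVec_mulVec_of_mem m A.2, huv]
      obtain ⟨T, hT, hTu, hTv⟩ := exists_map_pair (Wk F m (k + 1)) (Wk_nondeg (k + 1))
        huW hvW (hApres u huW) (hApres v hvW)
        (fun B hB x hx => (transvSubgroupOn_preserves _ hB x hx).1) huv huv'
      -- `T⁻¹ * A` fixes pairs with index ≥ k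
      have hTfix : ∀ x, (∀ w ∈ Wk F m (k + 1), Cfsg.sympForm m F x w = 0) →
          (T : Matrix (Fin m ⊕ Fin m) (Fin m ⊕ Fin m) F) *ᵥ x = x :=
        fun x hx => transvSubgroupOn_fixes _ hT x hx
      have hTinv : ∀ x y, (T : Matrix (Fin m ⊕ Fin m) (Fin m ⊕ Fin m) F) *ᵥ x = y →
          ((T⁻¹ : Matrix.symplecticGroup (Fin m) F) :
            Matrix (Fin m ⊕ Fin m) (Fin m ⊕ Fin m) F) *ᵥ y = x := by
        intro x y hxy
        rw [← hxy, Matrix.mulVec_mulVec, ← Submonoid.coe_mul, inv_mul_cancel]
        simp
      have hmem : T⁻¹ * A ∈ transvSubgroup F m := by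
        apply ih
        intro i hi
        rcases Nat.lt_or_ge k i.val with hlt | hge
        · have hi' : k + 1 ≤ i.val := hlt
          constructor
          · rw [Submonoid.coe_mul, ← Matrix.mulVec_mulVec, (hA i hi').1]
            apply hTinv
            apply hTfix
            intro w hw
            rw [sympForm_swap, sympForm_single_inl, (hw i hi').2, neg_zero]
          · rw [Submonoid.coe_mul, ← Matrix.mulVec_mulVec, (hA i hi').2]
            apply hTinv
            apply hTfix
            intro w hw
            rw [sympForm_swap, sympForm_single_inr, (hw i hi').1, neg_zero, neg_zero]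
        · have hik : i = i₀ := by
            apply Fin.ext
            simp [hi₀]; omega
          subst hik
          constructor
          · rw [Submonoid.coe_mul, ← Matrix.mulVec_mulVec]
            exact hTinv _ _ hTv
          · rw [Submonoid.coe_mul, ← Matrix.mulVec_mulVec]
            exact hTinv _ _ hTu
      have : A = T * (T⁻¹ * A) := by group
      rw [this]
      exact Subgroup.mul_mem _ (transvSubgroupOn_le _ hT) hmem
    · apply ih
      intro i hi
      exact absurd i.isLt (by omega)

/-- Generation of the symplectic group by symplectic transvections: the subgroup of Sp_2m(F) generated by all matrices of maps x ↦ x + c f(x, w) w is the whole group. -/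
theorem result {F : Type*} [Field F] (m : ℕ) : Subgroup.closure {A : Matrix.symplecticGroup (Fin m) F | ∃ (w : Fin m ⊕ Fin m → F) (c : F), (A : Matrix (Fin m ⊕ Fin m) (Fin m ⊕ Fin m) F) = Cfsg.sympTransvection m w c} = ⊤ := by
  rw [eq_top_iff]
  intro A _
  exact main_induction m A (fun i hi => absurd i.isLt (by omega))

end Cfsg.Agent.S0765
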