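import Cfsg.Statements.S5060
import Cfsg.Agent.Lib.Helper83_SL2GenBasic
import Cfsg.Agent.Lib.Helper83_SL2GenFin
import Cfsg.Agent.Lib.Helper83_SL2GenInf

set_option autoImplicit false
open Cfsg

namespace Cfsg.Agent.S5060

open Matrix Cfsg.Agent.Lib.Helper50_SL2Mat Cfsg.Agent.Lib.Helper83_SL2GenBasic
open scoped MatrixGroups

/-- the generating set of the statement is `gens` -/
theorem gens_eq {k K : Type*} [Field k] [Field K] [Algebra k K] (α : K) :
    ({g : Matrix.SpecialLinearGroup (Fin 2) K | ∃ c : k, (g : Matrix (Fin 2) (Fin 2) K) = !![1, algebraMap k K c; 0, 1]} ∪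
        {g : Matrix.SpecialLinearGroup (Fin 2) K | ∃ c : k, (g : Matrix (Fin 2) (Fin 2) K) = !![1, 0; algebraMap k K c * α, 1]}) =
      gens k α := by
  ext g
  constructor
  · rintro (⟨c, hc⟩ | ⟨c, hc⟩)
    · exact Or.inl ⟨c, Subtype.ext hc⟩
    · exact Or.inr ⟨c, Subtype.ext hc⟩
  · rintro (⟨c, rfl⟩ | ⟨c, rfl⟩)
    · exact Or.inl ⟨c, rfl⟩
    · exact Or.inr ⟨c, rfl⟩

/-- two is nonzero in characteristic not two -/
theorem two_ne_zero_of_ringChar {k : Type*} [Field k] (hk2 : ringChar k ≠ 2) : (2 : k) ≠ 0 := by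
  intro h
  have : CharP k (ringChar k) := ringChar.charP k
  have h2 : ((2 : ℕ) : k) = 0 := by exact_mod_cast h
  have hdvd : ringChar k ∣ 2 := (CharP.cast_eq_zero_iff k (ringChar k) 2).1 h2
  rcases (Nat.dvd_prime Nat.prime_two).1 hdvd with h1 | h1
  · exact CharP.ringChar_ne_one h1
  · exact hk2 h1

theorem map_tU {A B : Type*} [Field A] [Field B] (f : A →+* B) (x : A) :
    Matrix.SpecialLinearGroup.map f (tU x) = tU (f x) := by
  apply ext4
  · show f ((tU x) 0 0) = (tU (f x)) 0 0
    rw [tU00, tU00, map_one]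
  · show f ((tU x) 0 1) = (tU (f x)) 0 1
    rw [tU01, tU01]
  · show f ((tU x) 1 0) = (tU (f x)) 1 0
    rw [tU10, tU10, map_zero]
  · show f ((tU x) 1 1) = (tU (f x)) 1 1
    rw [tU11, tU11, map_one]

theorem map_tL {A B : Type*} [Field A] [Field B] (f : A →+* B) (x : A) :
    Matrix.SpecialLinearGroup.map f (tL x) = tL (f x) := by
  apply ext4
  · show f ((tL x) 0 0) = (tL (f x)) 0 0
    rw [tL00, tL00, map_one]
  · show f ((tL x) 0 1) = (tL (f x)) 0 1
    rw [tL01, tL01, map_zero]
  · show f ((tL x) 1 0) = (tL (f x)) 1 0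
    rw [tL10, tL10]
  · show f ((tL x) 1 1) = (tL (f x)) 1 1
    rw [tL11, tL11, map_one]

/-- transfer of the finite case along the inclusion `k(α) ⊆ K` -/
theorem tL_one_mem_finite {k K : Type*} [Field k] [Field K] [Algebra k K] [Finite k]
    (hk2 : ringChar k ≠ 2) (hk3 : Nat.card k ≠ 3)
    (α : K) (hα : IsAlgebraic k α) (hα0 : α ≠ 0) : tL (1 : K) ∈ GG k α := by
  have hfd : FiniteDimensional k (IntermediateField.adjoin k ({α} : Set K)) :=
    IntermediateField.adjoin.finiteDimensional hα.isIntegral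
  have hfin : Finite (IntermediateField.adjoin k ({α} : Set K)) := Module.finite_of_finite k
  obtain ⟨α', hα'⟩ : ∃ α' : IntermediateField.adjoin k ({α} : Set K), (α' : K) = α :=
    ⟨⟨α, IntermediateField.mem_adjoin_simple_self k α⟩, rfl⟩
  have hα'0 : α' ≠ 0 := by
    intro h
    apply hα0
    rw [← hα', h]
    rfl
  have h1 : tL (1 : IntermediateField.adjoin k ({α} : Set K)) ∈ GG k α' :=
    Cfsg.Agent.Lib.Helper83_SL2GenFin.tL_one_mem_of_finite hk2 hk3 hα'0
  have hle : GG k α' ≤ (GG k α).comap (Matrix.SpecialLinearGroup.map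
      (algebraMap (IntermediateField.adjoin k ({α} : Set K)) K)) := by
    rw [GG, Subgroup.closure_le]
    rintro x (⟨c, rfl⟩ | ⟨c, rfl⟩)
    · show Matrix.SpecialLinearGroup.map (algebraMap (IntermediateField.adjoin k ({α} : Set K)) K)
        (tU (algebraMap k _ c)) ∈ GG k α
      rw [map_tU]
      exact tU_mem c
    · show Matrix.SpecialLinearGroup.map (algebraMap (IntermediateField.adjoin k ({α} : Set K)) K)
        (tL (algebraMap k _ c * α')) ∈ GG k α
      rw [map_tL, map_mul]
      have : algebraMap (IntermediateField.adjoin k ({α} : Set K)) K α' = α := hα'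
      rw [this]
      exact tL_mem c
  have h2 := hle h1
  rw [Subgroup.mem_comap, map_tL, map_one] at h2
  exact h2

/-- Let k ⊆ K be fields with the characteristic of k not 2 and k not of order 3, and let α ∈ K be a non-zero element algebraic over k. Then the subgroup of SL₂(K) generated by the upper unitriangular matrices with entry c and the lower unitriangular matrices with entry cα, c ranging over k, is exactly the group of matrices of SL₂(K) with all entries in k(α). -/
theorem result {k K : Type*} [Field k] [Field K] [Algebra k K] (hk2 : ringChar k ≠ 2) (hk3 : Nat.card k ≠ 3)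
    (α : K) (hα : IsAlgebraic k α) (hα0 : α ≠ 0) :
    (Subgroup.closure ({g : Matrix.SpecialLinearGroup (Fin 2) K | ∃ c : k, (g : Matrix (Fin 2) (Fin 2) K) = !![1, algebraMap k K c; 0, 1]} ∪
        {g : Matrix.SpecialLinearGroup (Fin 2) K | ∃ c : k, (g : Matrix (Fin 2) (Fin 2) K) = !![1, 0; algebraMap k K c * α, 1]}) :
      Set (Matrix.SpecialLinearGroup (Fin 2) K)) =
    {g : Matrix.SpecialLinearGroup (Fin 2) K | ∀ i j : Fin 2, (g : Matrix (Fin 2) (Fin 2) K) i j ∈ IntermediateField.adjoin k ({α} : Set K)} := by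
  rw [gens_eq]
  have hL : tL (1 : K) ∈ GG k α := by
    rcases finite_or_infinite k with hfin | hinf
    · exact tL_one_mem_finite hk2 hk3 α hα hα0
    · exact Cfsg.Agent.Lib.Helper83_SL2GenInf.tL_one_mem_of_infinite
        (two_ne_zero_of_ringChar hk2) hα0 hα
  ext g
  constructor
  · intro hg
    exact GG_le_entrySub (k := k) (α := α) hg
  · intro hg
    exact mem_of_entries hα0 hL hα hg

end Cfsg.Agent.S5060
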