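import Cfsg.Statements.S0992
import Cfsg.Agent.Lib.Helper17_Sylow

set_option autoImplicit false
open Cfsg

namespace Cfsg.Agent.S0992

open Cfsg.Agent.Lib.Helper17_Sylow Subgroup

theorem isKleinFour_of_card_four_of_not_isCyclic {H : Type*} [Group H] (h4 : Nat.card H = 4)
    (hnc : ¬ IsCyclic H) : IsKleinFour H := by
  have hfin : Finite H := Nat.finite_of_card_ne_zero (by rw [h4]; norm_num)
  refine ⟨h4, ?_⟩
  have hpow : ∀ g : H, g ^ 2 = 1 := by
    intro g
    have h1 : orderOf g ∣ 4 := h4 ▸ orderOf_dvd_natCard g
    have h2 : orderOf g ≠ 4 := fun h => hnc (isCyclic_of_orderOf_eq_card g (h.trans h4.symm))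
    have h3 : orderOf g ∣ 2 := by
      have hle := Nat.le_of_dvd (by norm_num) h1
      have hpos := orderOf_pos g
      interval_cases h : orderOf g
      · exact one_dvd _
      · exact dvd_refl _
      · norm_num at h1
      · exact absurd rfl h2
    exact orderOf_dvd_iff_pow_eq_one.mp h3
  have h1 : Monoid.exponent H ∣ 2 := Monoid.exponent_dvd_of_forall_pow_eq_one hpow
  rcases (Nat.dvd_prime Nat.prime_two).mp h1 with h | h
  · exfalso
    rw [Monoid.exp_eq_one_iff] at h
    have : Nat.card H ≤ 1 := Finite.card_le_one_iff_subsingleton.mpr h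
    omega
  · exact h

/-- A finite nontrivial simple `p`-group is commutative. -/
theorem isMulCommutative_of_isPGroup {G : Type*} [Group G] [Finite G] [IsSimpleGroup G] {p : ℕ}
    [Fact p.Prime] (h : IsPGroup p G) : IsMulCommutative G := by
  have hnt : Nontrivial G := IsSimpleGroup.toNontrivial
  have hc : Nontrivial (center G) := h.center_nontrivial
  have hne : center G ≠ ⊥ := by
    intro hb
    obtain ⟨x, hx⟩ := exists_ne (1 : center G)
    apply hx
    apply Subtype.ext
    have h1 : (x : G) ∈ (⊥ : Subgroup G) := hb ▸ x.2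
    exact Subgroup.mem_bot.mp h1
  have htop : center G = ⊤ := ((inferInstance : (center G).Normal).eq_bot_or_eq_top).resolve_left hne
  refine ⟨⟨fun a b => ?_⟩⟩
  have ha : a ∈ center G := htop ▸ Subgroup.mem_top a
  exact ((Subgroup.mem_center_iff.mp ha) b).symm

/-- Let G be a non-abelian finite simple group of even order not divisible by 8, and T a Sylow 2-subgroup. Then T is a Klein four-group and the centralizer of T has index 3 in the normalizer of T. -/
theorem result {G : Type*} [Group G] [Finite G] [IsSimpleGroup G] (hG : ¬ IsMulCommutative G) (h2 : Even (Nat.card G)) (h8 : ¬ 8 ∣ Nat.card G) (T : Sylow 2 G) : IsKleinFour ↥(T : Subgroup G) ∧ (Subgroup.centralizer ((T : Subgroup G) : Set G)).relIndex (Subgroup.normalizer ((T : Subgroup G) : Set G)) = 3 := by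
  have h2dvd : 2 ∣ Nat.card G := even_iff_two_dvd.mp h2
  have hTbot : (T : Subgroup G) ≠ ⊥ := T.ne_bot_of_dvd_card h2dvd
  have hTtop : (T : Subgroup G) ≠ ⊤ := by
    intro htop
    apply hG
    apply isMulCommutative_of_isPGroup (p := 2)
    have := T.2
    rw [htop] at this
    exact IsPGroup.of_equiv this Subgroup.topEquiv
  -- T is not cyclic
  have hminFac : (Nat.card G).minFac = 2 := (Nat.minFac_eq_two_iff _).mpr h2dvd
  have hnc : ¬ IsCyclic (T : Subgroup G) := by
    intro hc
    have hNC := IsCyclic.normalizer_le_centralizer hminFac hc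
    rcases sylow_eq_bot_or_top_of_normalizer_le_centralizer T hNC with h | h
    · exact hTbot h
    · exact hTtop h
  -- |T| = 4
  obtain ⟨k, hk⟩ := IsPGroup.iff_card.mp T.2
  have hkdvd : 2 ^ k ∣ Nat.card G := hk ▸ Subgroup.card_subgroup_dvd_card _
  have hk2 : k ≤ 2 := by
    by_contra hlt
    push Not at hlt
    apply h8
    exact (pow_dvd_pow 2 hlt : 2 ^ 3 ∣ 2 ^ k).trans hkdvd
  have hk4 : Nat.card (T : Subgroup G) = 4 := by
    interval_cases k
    · exfalso
      apply hTbot
      exact Subgroup.card_eq_one.mp (by rw [hk]; norm_num)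
    · exfalso
      apply hnc
      have : Fact (Nat.Prime 2) := ⟨Nat.prime_two⟩
      exact isCyclic_of_prime_card (p := 2) (by rw [hk]; norm_num)
    · rw [hk]; norm_num
  have hK : IsKleinFour (T : Subgroup G) := isKleinFour_of_card_four_of_not_isCyclic hk4 hnc
  refine ⟨hK, ?_⟩
  -- the index of C(T) in N(T)
  have hfinT : Finite (T : Subgroup G) := inferInstance
  have hd1 := relIndex_centralizer_normalizer_dvd (T : Subgroup G)
  have hd2 : Nat.card (MulAut (T : Subgroup G)) ∣ 24 := by
    have := Subgroup.card_dvd_of_injective (MulAut.toPerm (T : Subgroup G))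
      (fun a b hab => MulEquiv.toEquiv_injective hab)
    rw [Nat.card_perm, hk4] at this
    exact this
  have hd3 := hd1.trans hd2
  -- oddness
  have hTC : (T : Subgroup G) ≤ centralizer ((T : Subgroup G) : Set G) := by
    intro x hx
    rw [Subgroup.mem_centralizer_iff]
    intro y hy
    have := (IsKleinFour.isMulCommutative (G := (T : Subgroup G))).is_comm.comm ⟨y, hy⟩ ⟨x, hx⟩
    exact congrArg Subtype.val this
  have hCN : centralizer ((T : Subgroup G) : Set G) ≤ normalizer ((T : Subgroup G) : Set G) :=
    Subgroup.centralizer_le_normalizer _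
  have hodd : ¬ 2 ∣ (centralizer ((T : Subgroup G) : Set G)).relIndex
      (normalizer ((T : Subgroup G) : Set G)) := by
    intro hdvd
    have h1 := Subgroup.relIndex_mul_relIndex _ _ _ hTC hCN
    have h3 := Subgroup.relIndex_mul_index (hTC.trans hCN)
    have h4 : 2 ∣ (T : Subgroup G).index := by
      rw [← h3, ← h1]
      exact (hdvd.mul_left _).mul_right _
    exact T.not_dvd_index h4
  set r := (centralizer ((T : Subgroup G) : Set G)).relIndex (normalizer ((T : Subgroup G) : Set G))
    with hr
  have hr13 : r = 1 ∨ r = 3 := by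
    have hle := Nat.le_of_dvd (by norm_num) hd3
    have hpos : 0 < r := Nat.pos_of_dvd_of_pos hd3 (by norm_num)
    interval_cases r <;> first | (left; rfl) | (right; rfl) | (exfalso; revert hd3; decide) | (exfalso; apply hodd; decide)
  rcases hr13 with h | h
  · exfalso
    have hNC : normalizer ((T : Subgroup G) : Set G) ≤ centralizer ((T : Subgroup G) : Set G) :=
      Subgroup.relIndex_eq_one.mp h
    rcases sylow_eq_bot_or_top_of_normalizer_le_centralizer T hNC with h | h
    · exact hTbot h
    · exact hTtop h
  · exact h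

end Cfsg.Agent.S0992
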