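import Cfsg.Statements.S0752

set_option autoImplicit false
open Cfsg

namespace Cfsg.Agent.S0752

universe u

open Module


section
variable {F : Type*} [Field F]

/-- reindexing equivalence used to prepend a hyperbolic pair -/
def idxEquiv (ι κ : Type) :
    (Unit ⊕ Unit) ⊕ ((ι ⊕ ι) ⊕ κ) ≃ ((Unit ⊕ ι) ⊕ (Unit ⊕ ι)) ⊕ κ where
  toFun
    | Sum.inl (Sum.inl u) => Sum.inl (Sum.inl (Sum.inl u))
    | Sum.inl (Sum.inr u) => Sum.inl (Sum.inr (Sum.inl u))
    | Sum.inr (Sum.inl (Sum.inl i)) => Sum.inl (Sum.inl (Sum.inr i))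
    | Sum.inr (Sum.inl (Sum.inr i)) => Sum.inl (Sum.inr (Sum.inr i))
    | Sum.inr (Sum.inr j) => Sum.inr j
  invFun
    | Sum.inl (Sum.inl (Sum.inl u)) => Sum.inl (Sum.inl u)
    | Sum.inl (Sum.inl (Sum.inr i)) => Sum.inr (Sum.inl (Sum.inl i))
    | Sum.inl (Sum.inr (Sum.inl u)) => Sum.inl (Sum.inr u)
    | Sum.inl (Sum.inr (Sum.inr i)) => Sum.inr (Sum.inl (Sum.inr i))
    | Sum.inr j => Sum.inr (Sum.inr j)
  left_inv := by
    rintro ((u | u) | ((i | i) | j)) <;> rfl
  right_inv := by
    rintro (((u | i) | (u | i)) | j) <;> rfl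

/-- The hyperbolic splitting `V ≃ (F × F) × K`. -/
theorem exists_split {V : Type u} [AddCommGroup V] [Module F V]
    (B : LinearMap.BilinForm F V) (hA : B.IsAlt) (v w : V) (hvw : B v w = 1) :
    ∃ (K : Submodule F V) (Ψ : ((F × F) × K) ≃ₗ[F] V),
      (∀ x, x ∈ K ↔ B v x = 0 ∧ B w x = 0) ∧
      (∀ (a b : F) (y : K), Ψ ((a, b), y) = a • v + b • w + (y : V)) := by
  have hwv : B w v = -1 := by rw [← LinearMap.IsAlt.neg hA v w, hvw]
  let φ : V →ₗ[F] F × F := LinearMap.prod (B v) (B w)
  have hφ : ∀ x, φ x = (B v x, B w x) := fun x => rfl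
  let K : Submodule F V := LinearMap.ker φ
  have hK : ∀ x, x ∈ K ↔ B v x = 0 ∧ B w x = 0 := by
    intro x
    show φ x = 0 ↔ _
    rw [hφ, Prod.mk_eq_zero]
  let ψ : ((F × F) × K) →ₗ[F] V :=
    LinearMap.coprod (LinearMap.coprod (LinearMap.toSpanSingleton F V v)
      (LinearMap.toSpanSingleton F V w)) K.subtype
  have hψ : ∀ (a b : F) (y : K), ψ ((a, b), y) = a • v + b • w + (y : V) := by
    intro a b y
    simp [ψ, LinearMap.coprod_apply, LinearMap.toSpanSingleton_apply]
  have hinj : Function.Injective ψ := by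
    rw [injective_iff_map_eq_zero]
    rintro ⟨⟨a, b⟩, y⟩ h
    rw [hψ] at h
    have hy := (hK y).mp y.2
    have h1 : B v (a • v + b • w + (y : V)) = b := by
      simp [map_add, map_smul, hA.self_eq_zero, hvw, hy.1]
    have h2 : B w (a • v + b • w + (y : V)) = -a := by
      simp [map_add, map_smul, hA.self_eq_zero, hwv, hy.2]
    rw [h, map_zero] at h1 h2
    have ha : a = 0 := by linear_combination h2
    have hb : b = 0 := h1.symm
    subst ha hb
    simp only [zero_smul, zero_add] at h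
    have : y = 0 := Subtype.ext h
    subst this
    rfl
  have hsurj : Function.Surjective ψ := by
    intro x
    have hy : x - (-(B w x)) • v - (B v x) • w ∈ K := by
      rw [hK]
      constructor
      · simp [map_sub, map_smul, hA.self_eq_zero, hvw]
      · simp [map_sub, map_smul, hA.self_eq_zero, hwv]
    refine ⟨((-(B w x), B v x), ⟨_, hy⟩), ?_⟩
    rw [hψ]
    simp only
    abel
  exact ⟨K, LinearEquiv.ofBijective ψ ⟨hinj, hsurj⟩, hK, hψ⟩

end

section
variable {F : Type*} [Field F]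

theorem exists_basis_aux (n : ℕ) :
    ∀ {V : Type u} [AddCommGroup V] [Module F V] [FiniteDimensional F V]
      (B : LinearMap.BilinForm F V), B.IsAlt → Module.finrank F V = n →
      ∃ (ι κ : Type) (_ : Fintype ι) (_ : Fintype κ) (_ : DecidableEq ι)
        (b : Module.Basis ((ι ⊕ ι) ⊕ κ) F V),
        (∀ i j : ι, B (b (Sum.inl (Sum.inl i))) (b (Sum.inl (Sum.inr j))) = if i = j then 1 else 0) ∧
        (∀ i j : ι, B (b (Sum.inl (Sum.inl i))) (b (Sum.inl (Sum.inl j))) = 0) ∧
        (∀ i j : ι, B (b (Sum.inl (Sum.inr i))) (b (Sum.inl (Sum.inr j))) = 0) ∧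
        (∀ (j : κ) (x : V), B (b (Sum.inr j)) x = 0) := by
  induction n using Nat.strong_induction_on with
  | _ n ih =>
    intro V _ _ _ B hA hn
    by_cases hB : ∀ x y, B x y = 0
    · -- the zero form
      refine ⟨Empty, Fin n, inferInstance, inferInstance, inferInstance,
        ((Module.finBasis F V).reindex (finCongr hn)).reindex
          (Equiv.emptySum (Empty ⊕ Empty) (Fin n)).symm, ?_, ?_, ?_, ?_⟩
      · intro i; exact i.elim
      · intro i; exact i.elim
      · intro i; exact i.elim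
      · intro j x; exact hB _ _
    · push Not at hB
      obtain ⟨v₀, w, hvw⟩ := hB
      -- normalise
      set v := (B v₀ w)⁻¹ • v₀ with hv
      have hvw1 : B v w = 1 := by
        rw [hv, map_smul, LinearMap.smul_apply, smul_eq_mul, inv_mul_cancel₀ hvw]
      have hwv : B w v = -1 := by rw [← LinearMap.IsAlt.neg hA v w, hvw1]
      obtain ⟨K, Ψ, hK, hΨ⟩ := exists_split B hA v w hvw1
      -- dimension of K
      have hfr : Module.finrank F K + 2 = n := by
        have h1 := LinearEquiv.finrank_eq Ψ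
        rw [Module.finrank_prod, Module.finrank_prod, Module.finrank_self] at h1
        omega
      let B' : LinearMap.BilinForm F K := B.domRestrict₁₂ K K
      have hB' : ∀ x y : K, B' x y = B x y := fun x y => rfl
      have hA' : B'.IsAlt := fun x => hA.self_eq_zero (x : V)
      obtain ⟨ι, κ, _, _, _, bK, h1, h2, h3, h4⟩ :=
        ih (Module.finrank F K) (by omega) B' hA' rfl
      let b₀ : Module.Basis ((Unit ⊕ Unit) ⊕ ((ι ⊕ ι) ⊕ κ)) F ((F × F) × K) :=
        ((Module.Basis.singleton Unit F).prod (Module.Basis.singleton Unit F)).prod bK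
      let b : Module.Basis (((Unit ⊕ ι) ⊕ (Unit ⊕ ι)) ⊕ κ) F V :=
        (b₀.map Ψ).reindex (idxEquiv ι κ)
      have hb1 : b (Sum.inl (Sum.inl (Sum.inl ()))) = v := by
        have : b (Sum.inl (Sum.inl (Sum.inl ()))) = Ψ (((1 : F), (0 : F)), (0 : K)) := by
          simp [b, b₀, idxEquiv, Module.Basis.prod_apply]
        rw [this, hΨ]; simp
      have hb2 : b (Sum.inl (Sum.inr (Sum.inl ()))) = w := by
        have : b (Sum.inl (Sum.inr (Sum.inl ()))) = Ψ (((0 : F), (1 : F)), (0 : K)) := by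
          simp [b, b₀, idxEquiv, Module.Basis.prod_apply]
        rw [this, hΨ]; simp
      have hb3 : ∀ i, b (Sum.inl (Sum.inl (Sum.inr i))) = bK (Sum.inl (Sum.inl i)) := by
        intro i
        have : b (Sum.inl (Sum.inl (Sum.inr i))) =
            Ψ (((0 : F), (0 : F)), bK (Sum.inl (Sum.inl i))) := by
          simp [b, b₀, idxEquiv, Module.Basis.prod_apply]
          rfl
        rw [this, hΨ]; simp
      have hb4 : ∀ i, b (Sum.inl (Sum.inr (Sum.inr i))) = bK (Sum.inl (Sum.inr i)) := by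
        intro i
        have : b (Sum.inl (Sum.inr (Sum.inr i))) =
            Ψ (((0 : F), (0 : F)), bK (Sum.inl (Sum.inr i))) := by
          simp [b, b₀, idxEquiv, Module.Basis.prod_apply]
          rfl
        rw [this, hΨ]; simp
      have hb5 : ∀ j, b (Sum.inr j) = bK (Sum.inr j) := by
        intro j
        have : b (Sum.inr j) = Ψ (((0 : F), (0 : F)), bK (Sum.inr j)) := by
          simp [b, b₀, idxEquiv, Module.Basis.prod_apply]
          rfl
        rw [this, hΨ]; simp
      have hKv : ∀ y : K, B v y = 0 := fun y => ((hK y).mp y.2).1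
      have hKw : ∀ y : K, B w y = 0 := fun y => ((hK y).mp y.2).2
      have hKv' : ∀ y : K, B y v = 0 := fun y => by
        rw [← LinearMap.IsAlt.neg hA v y, hKv, neg_zero]
      have hKw' : ∀ y : K, B y w = 0 := fun y => by
        rw [← LinearMap.IsAlt.neg hA w y, hKw, neg_zero]
      refine ⟨Unit ⊕ ι, κ, inferInstance, inferInstance, inferInstance, b, ?_, ?_, ?_, ?_⟩
      · rintro (⟨⟩ | i) (⟨⟩ | j)
        · rw [hb1, hb2, hvw1]; simp
        · rw [hb1, hb4, hKv]; simp
        · rw [hb3, hb2, hKw']; simp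
        · rw [hb3, hb4, ← hB', h1]
          simp
      · rintro (⟨⟩ | i) (⟨⟩ | j)
        · rw [hb1, hA.self_eq_zero]
        · rw [hb1, hb3, hKv]
        · rw [hb3, hb1, hKv']
        · rw [hb3, hb3, ← hB', h2]
      · rintro (⟨⟩ | i) (⟨⟩ | j)
        · rw [hb2, hA.self_eq_zero]
        · rw [hb2, hb4, hKw]
        · rw [hb4, hb2, hKw']
        · rw [hb4, hb4, ← hB', h3]
      · intro j x
        rw [hb5]
        obtain ⟨⟨⟨a, c⟩, y⟩, rfl⟩ := Ψ.surjective x
        rw [hΨ]
        simp only [map_add, map_smul, hKv', hKw', smul_zero, zero_add]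
        rw [← hB', h4]

end

/-- Classification of alternating forms: for an alternating bilinear form B on a finite-dimensional space over any field there is a basis indexed by (Fin m ⊕ Fin m) ⊕ Fin k such that B (e_i, f_j) = δ_ij, the e's are pairwise orthogonal, the f's are pairwise orthogonal, and the last k basis vectors are orthogonal to everything (they span the radical). -/
theorem result {F V : Type*} [Field F] [AddCommGroup V] [Module F V] [FiniteDimensional F V] (B : LinearMap.BilinForm F V) (hA : B.IsAlt) : ∃ (m k : ℕ) (b : Module.Basis ((Fin m ⊕ Fin m) ⊕ Fin k) F V), (∀ i j : Fin m, B (b (Sum.inl (Sum.inl i))) (b (Sum.inl (Sum.inr j))) = if i = j then 1 else 0) ∧ (∀ i j : Fin m, B (b (Sum.inl (Sum.inl i))) (b (Sum.inl (Sum.inl j))) = 0) ∧ (∀ i j : Fin m, B (b (Sum.inl (Sum.inr i))) (b (Sum.inl (Sum.inr j))) = 0) ∧ (∀ (j : Fin k) (v : V), B (b (Sum.inr j)) v = 0) := by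
  obtain ⟨ι, κ, _, _, _, b, h1, h2, h3, h4⟩ := exists_basis_aux (Module.finrank F V) B hA rfl
  let eι : ι ≃ Fin (Fintype.card ι) := Fintype.equivFin ι
  let eκ : κ ≃ Fin (Fintype.card κ) := Fintype.equivFin κ
  let E : (ι ⊕ ι) ⊕ κ ≃ (Fin (Fintype.card ι) ⊕ Fin (Fintype.card ι)) ⊕ Fin (Fintype.card κ) :=
    Equiv.sumCongr (Equiv.sumCongr eι eι) eκ
  refine ⟨Fintype.card ι, Fintype.card κ, b.reindex E, ?_, ?_, ?_, ?_⟩
  · intro i j
    have e1 : (b.reindex E) (Sum.inl (Sum.inl i)) = b (Sum.inl (Sum.inl (eι.symm i))) := by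
      simp [E, Module.Basis.reindex_apply]
    have e2 : (b.reindex E) (Sum.inl (Sum.inr j)) = b (Sum.inl (Sum.inr (eι.symm j))) := by
      simp [E, Module.Basis.reindex_apply]
    rw [e1, e2, h1]
    simp
  · intro i j
    have e1 : (b.reindex E) (Sum.inl (Sum.inl i)) = b (Sum.inl (Sum.inl (eι.symm i))) := by
      simp [E, Module.Basis.reindex_apply]
    have e2 : (b.reindex E) (Sum.inl (Sum.inl j)) = b (Sum.inl (Sum.inl (eι.symm j))) := by
      simp [E, Module.Basis.reindex_apply]
    rw [e1, e2, h2]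
  · intro i j
    have e1 : (b.reindex E) (Sum.inl (Sum.inr i)) = b (Sum.inl (Sum.inr (eι.symm i))) := by
      simp [E, Module.Basis.reindex_apply]
    have e2 : (b.reindex E) (Sum.inl (Sum.inr j)) = b (Sum.inl (Sum.inr (eι.symm j))) := by
      simp [E, Module.Basis.reindex_apply]
    rw [e1, e2, h3]
  · intro j v
    have e1 : (b.reindex E) (Sum.inr j) = b (Sum.inr (eκ.symm j)) := by
      simp [E, Module.Basis.reindex_apply]
    rw [e1, h4]

end Cfsg.Agent.S0752
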