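import Cfsg.Statements.S0882
import Cfsg.Agent.S0739

set_option autoImplicit false
open Cfsg

namespace Cfsg.Agent.S0882

open MulAction Cfsg.Agent.Lib.Helper6_Zassenhaus

section

variable {G Ω : Type*} [Group G] [Finite G] [MulAction G Ω]

/-- In a simple Zassenhaus group there is no normal `q`-complement for `q` dividing the odd
order of a two-point stabilizer. -/
theorem hnil_of_simple [IsSimpleGroup G] (zh : ZHyp G Ω) {a b : Ω} (hab : a ≠ b)
    (hodd : Odd (Nat.card ↥(stabilizer G a ⊓ stabilizer G b))) :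
    ∀ q : ℕ, q.Prime → q ∣ Nat.card ↥(stabilizer G a ⊓ stabilizer G b) →
      ¬ ∃ N : Subgroup G, N.Normal ∧ N.index = q ^ (Nat.card G).factorization q := by
  rintro q hq hqe ⟨N, hN, hidx⟩
  have hqG : q ∣ Nat.card G := hqe.trans (Subgroup.card_subgroup_dvd_card _)
  rcases hN.eq_bot_or_eq_top with h | h
  · rw [h, Subgroup.index_bot] at hidx
    obtain ⟨s, hsa, hsb⟩ := zh.two hab (Ne.symm hab)
    have hseven : ¬ Odd (orderOf s) := by
      intro ho
      have := Cfsg.Agent.S0739.fix_of_odd ho (Or.inr ⟨hsa, hsb⟩)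
      rw [hsa] at this
      exact hab this.1.symm
    rw [Nat.not_odd_iff_even, even_iff_two_dvd] at hseven
    have h2 : 2 ∣ q ^ (Nat.card G).factorization q := by
      rw [← hidx]; exact hseven.trans (orderOf_dvd_natCard s)
    have h2q : 2 = q := (Nat.prime_dvd_prime_iff_eq Nat.prime_two hq).1
      (Nat.Prime.dvd_of_dvd_pow Nat.prime_two h2)
    rw [← h2q] at hqe
    exact (Nat.not_even_iff_odd.2 hodd) (even_iff_two_dvd.2 hqe)
  · rw [h, Subgroup.index_top] at hidx
    have hpos : 0 < (Nat.card G).factorization q :=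
      hq.factorization_pos_of_dvd Nat.card_pos.ne' hqG
    have : 1 < q ^ (Nat.card G).factorization q := Nat.one_lt_pow hpos.ne' hq.one_lt
    omega

variable (zh : ZHyp G Ω) {a b : Ω} (hab : a ≠ b)
  (hinv : ∀ s : G, s • a = b → s • b = a → ∀ h ∈ stabilizer G a ⊓ stabilizer G b,
    s * h * s⁻¹ = h⁻¹)
  (hodd : Odd (Nat.card ↥(stabilizer G a ⊓ stabilizer G b)))

omit [Finite G] in
theorem memE (x : G) : x ∈ stabilizer G a ⊓ stabilizer G b ↔ x • a = a ∧ x • b = b := by
  rw [Subgroup.mem_inf, mem_stabilizer_iff, mem_stabilizer_iff]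

omit [Finite G] in
include hodd in
theorem odd_order {x : G} (hxa : x • a = a) (hxb : x • b = b) : Odd (orderOf x) := by
  have hx : x ∈ stabilizer G a ⊓ stabilizer G b := (memE x).2 ⟨hxa, hxb⟩
  have : orderOf x ∣ Nat.card ↥(stabilizer G a ⊓ stabilizer G b) := by
    have := orderOf_dvd_natCard (⟨x, hx⟩ : ↥(stabilizer G a ⊓ stabilizer G b))
    rwa [Subgroup.orderOf_mk] at this
  exact Odd.of_dvd_nat hodd this

include hinv hodd in
/-- every element swapping `a` and `b` is an involution -/
theorem swap_sq {t : G} (hta : t • a = b) (htb : t • b = a) : t * t = 1 := by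
  have hfix : (t * t) • a = a ∧ (t * t) • b = b :=
    ⟨by rw [mul_smul, hta, htb], by rw [mul_smul, htb, hta]⟩
  have h1 := hinv t hta htb (t * t) ((memE _).2 hfix)
  have h2 : t * (t * t) * t⁻¹ = t * t := by group
  rw [h2] at h1
  have hsq : (t * t) ^ 2 = 1 := by
    rw [pow_two]
    nth_rewrite 1 [h1]
    group
  have hdvd : orderOf (t * t) ∣ 2 := orderOf_dvd_of_pow_eq_one hsq
  have ho := odd_order hodd hfix.1 hfix.2
  have : orderOf (t * t) = 1 := by
    rcases (Nat.dvd_prime Nat.prime_two).1 hdvd with h | h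
    · exact h
    · rw [h] at ho; exact absurd ho (by decide)
  exact orderOf_eq_one_iff.1 this

include hab in
omit [Finite G] in
theorem swap_ne_one {t : G} (hta : t • a = b) : t ≠ 1 := by
  intro h; rw [h, one_smul] at hta; exact hab hta

include hab hinv hodd in
theorem swap_orderOf {t : G} (hta : t • a = b) (htb : t • b = a) : orderOf t = 2 := by
  have h1 := swap_sq hinv hodd hta htb
  exact orderOf_eq_prime (by rw [pow_two]; exact h1) (swap_ne_one hab hta)

include hinv hodd in
/-- any two elements swapping `a` and `b` are conjugate -/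
theorem swap_conj {t t' : G} (hta : t • a = b) (htb : t • b = a) (hta' : t' • a = b)
    (htb' : t' • b = a) : ∃ y : G, y * t * y⁻¹ = t' := by
  have htia : t⁻¹ • a = b := by rw [inv_smul_eq_iff, htb]
  have htib : t⁻¹ • b = a := by rw [inv_smul_eq_iff, hta]
  set x := t' * t⁻¹ with hx
  have hxa : x • a = a := by rw [hx, mul_smul, htia, htb']
  have hxb : x • b = b := by rw [hx, mul_smul, htib, hta']
  obtain ⟨k, hk⟩ := odd_order hodd hxa hxb
  set y := x ^ (k + 1) with hy
  have hyy : y * y = x := by
    rw [hy, ← pow_add]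
    have : k + 1 + (k + 1) = orderOf x + 1 := by omega
    rw [this, pow_succ, pow_orderOf_eq_one, one_mul]
  have hyE : y ∈ stabilizer G a ⊓ stabilizer G b :=
    Subgroup.pow_mem _ ((memE x).2 ⟨hxa, hxb⟩) _
  have h1 := hinv t hta htb y⁻¹ (Subgroup.inv_mem _ hyE)
  rw [inv_inv] at h1
  refine ⟨y, ?_⟩
  calc y * t * y⁻¹ = y * (t * y⁻¹ * t⁻¹) * t := by group
    _ = y * y * t := by rw [h1, mul_assoc]
    _ = t' := by rw [hyy, hx]; group

include zh hab in
omit [Finite G] in
/-- the number of elements swapping `a` and `b` is the order of the two-point stabilizer -/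
theorem card_swap :
    Nat.card {t : G // t • a = b ∧ t • b = a} = Nat.card ↥(stabilizer G a ⊓ stabilizer G b) := by
  obtain ⟨s, hsa, hsb⟩ := zh.two hab (Ne.symm hab)
  have hsia : s⁻¹ • a = b := by rw [inv_smul_eq_iff, hsb]
  have hsib : s⁻¹ • b = a := by rw [inv_smul_eq_iff, hsa]
  symm
  refine Nat.card_congr
    { toFun := fun h => ⟨s * h, ?_⟩
      invFun := fun t => ⟨s⁻¹ * t, ?_⟩
      left_inv := fun h => by apply Subtype.ext; simp
      right_inv := fun t => by apply Subtype.ext; simp }
  · obtain ⟨h1, h2⟩ := (memE (h : G)).1 h.2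
    exact ⟨by rw [mul_smul, h1, hsa], by rw [mul_smul, h2, hsb]⟩
  · rw [memE]
    exact ⟨by rw [mul_smul, t.2.1, hsib], by rw [mul_smul, t.2.2, hsia]⟩

include zh hab in
omit [Finite G] in
/-- transport to an arbitrary pair -/
theorem card_swap' {c d : Ω} (hcd : c ≠ d) :
    Nat.card {t : G // t • c = d ∧ t • d = c} = Nat.card ↥(stabilizer G a ⊓ stabilizer G b) := by
  obtain ⟨g, hga, hgb⟩ := zh.two hab hcd
  have hgic : g⁻¹ • c = a := by rw [inv_smul_eq_iff, hga]
  have hgid : g⁻¹ • d = b := by rw [inv_smul_eq_iff, hgb]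
  rw [← card_swap zh hab]
  refine Nat.card_congr
    { toFun := fun t => ⟨g⁻¹ * t * g, ?_⟩
      invFun := fun t => ⟨g * t * g⁻¹, ?_⟩
      left_inv := fun t => by apply Subtype.ext; simp [mul_assoc]
      right_inv := fun t => by apply Subtype.ext; simp [mul_assoc] }
  · exact ⟨by rw [mul_smul, mul_smul, hga, t.2.1, hgid], by rw [mul_smul, mul_smul, hgb, t.2.2, hgic]⟩
  · exact ⟨by rw [mul_smul, mul_smul, hgic, t.2.1, hgb], by rw [mul_smul, mul_smul, hgid, t.2.2, hga]⟩

include zh hab hinv hodd in
/-- elements swapping any pair are involutions -/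
theorem swap_orderOf' {c d : Ω} (hcd : c ≠ d) {t : G} (htc : t • c = d) (htd : t • d = c) :
    orderOf t = 2 := by
  obtain ⟨g, hga, hgb⟩ := zh.two hab hcd
  have hgic : g⁻¹ • c = a := by rw [inv_smul_eq_iff, hga]
  have hgid : g⁻¹ • d = b := by rw [inv_smul_eq_iff, hgb]
  have h1 : (g⁻¹ * t * g) • a = b := by rw [mul_smul, mul_smul, hga, htc, hgid]
  have h2 : (g⁻¹ * t * g) • b = a := by rw [mul_smul, mul_smul, hgb, htd, hgic]
  have := swap_orderOf hab hinv hodd h1 h2
  have e : g⁻¹ * t * g = MulAut.conj g⁻¹ t := by simp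
  rwa [e, MulEquiv.orderOf_eq] at this

include zh hab hodd in
omit [Finite G] in
/-- an involution fixes at most one point -/
theorem fix_unique {x : G} (hx : orderOf x = 2) {c d : Ω} (hc : x • c = c) (hd : x • d = d) :
    c = d := by
  by_contra hcd
  obtain ⟨g, hga, hgb⟩ := zh.two hab hcd
  have hgic : g⁻¹ • c = a := by rw [inv_smul_eq_iff, hga]
  have hgid : g⁻¹ • d = b := by rw [inv_smul_eq_iff, hgb]
  have h1 : (g⁻¹ * x * g) • a = a := by rw [mul_smul, mul_smul, hga, hc, hgic]
  have h2 : (g⁻¹ * x * g) • b = b := by rw [mul_smul, mul_smul, hgb, hd, hgid]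
  have ho := odd_order hodd h1 h2
  have e : g⁻¹ * x * g = MulAut.conj g⁻¹ x := by simp
  rw [e, MulEquiv.orderOf_eq, hx] at ho
  exact absurd ho (by decide)

include zh hab hinv hodd in
/-- the number of involutions -/
theorem count [Fintype Ω] (h e : ℕ) (hh : Fintype.card Ω = h + 1)
    (he : Nat.card ↥(stabilizer G a ⊓ stabilizer G b) = e) :
    Nat.card {x : G // orderOf x = 2} = (if Even h then e * (h + 1) else e * h) := by
  classical
  have _ : Fintype G := Fintype.ofFinite G
  set I : Finset G := Finset.univ.filter (fun x => orderOf x = 2) with hI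
  have hIcard : Nat.card {x : G // orderOf x = 2} = I.card := by
    rw [Nat.card_eq_fintype_card, Fintype.card_subtype]
  have hmemI : ∀ x, x ∈ I ↔ orderOf x = 2 := by
    intro x; rw [hI, Finset.mem_filter]; simp
  set r : G → Ω → Prop := fun x c => x • c ≠ c with hr
  have hdc := Finset.sum_card_bipartiteAbove_eq_sum_card_bipartiteBelow
    (s := I) (t := (Finset.univ : Finset Ω)) (r := r)
  -- right-hand side
  have hR : ∀ c ∈ (Finset.univ : Finset Ω), (I.bipartiteBelow r c).card = h * e := by
    intro c _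
    have hmaps : ∀ x ∈ I.bipartiteBelow r c, (fun x : G => x • c) x ∈ Finset.univ.erase c := by
      intro x hx
      rw [Finset.mem_bipartiteBelow] at hx
      exact Finset.mem_erase.2 ⟨hx.2, Finset.mem_univ _⟩
    rw [Finset.card_eq_sum_card_fiberwise hmaps]
    have hfib : ∀ d ∈ Finset.univ.erase c,
        ((I.bipartiteBelow r c).filter (fun x => x • c = d)).card = e := by
      intro d hd
      have hdc' : d ≠ c := (Finset.mem_erase.1 hd).1
      have heq : (I.bipartiteBelow r c).filter (fun x => x • c = d)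
          = Finset.univ.filter (fun t : G => t • c = d ∧ t • d = c) := by
        ext x
        simp only [Finset.mem_filter, Finset.mem_bipartiteBelow, Finset.mem_univ, true_and]
        constructor
        · rintro ⟨⟨hxI, _⟩, hxc⟩
          refine ⟨hxc, ?_⟩
          have hxx : x * x = 1 := by
            have := pow_orderOf_eq_one x
            rwa [(hmemI x).1 hxI, pow_two] at this
          rw [← hxc, ← mul_smul, hxx, one_smul]
        · rintro ⟨hxc, hxd⟩
          refine ⟨⟨(hmemI x).2 (swap_orderOf' zh hab hinv hodd (Ne.symm hdc') hxc hxd), ?_⟩, hxc⟩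
          change x • c ≠ c
          rw [hxc]; exact hdc'
      rw [heq, ← Fintype.card_subtype, ← Nat.card_eq_fintype_card,
        card_swap' zh hab (Ne.symm hdc'), he]
    rw [Finset.sum_congr rfl hfib, Finset.sum_const, Finset.card_erase_of_mem (Finset.mem_univ _),
      Finset.card_univ, hh, smul_eq_mul]
    simp
  -- left-hand side
  set m : ℕ := if Even h then h else h + 1 with hm
  have hL : ∀ x ∈ I, ((Finset.univ : Finset Ω).bipartiteAbove r x).card = m := by
    intro x hx
    have hxo := (hmemI x).1 hx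
    have hxx : x * x = 1 := by
      have := pow_orderOf_eq_one x
      rwa [hxo, pow_two] at this
    set σ : Equiv.Perm Ω := MulAction.toPerm x with hσ
    have hσ2 : σ ^ 2 = 1 := by
      ext c
      rw [pow_two, Equiv.Perm.mul_apply, hσ, MulAction.toPerm_apply, MulAction.toPerm_apply,
        ← mul_smul, hxx, one_smul, Equiv.Perm.one_apply]
    have hsupp : (Finset.univ : Finset Ω).bipartiteAbove r x = σ.support := by
      ext c
      simp only [Finset.mem_bipartiteAbove, Finset.mem_univ, true_and, Equiv.Perm.mem_support, hσ,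
        MulAction.toPerm_apply, hr]
    have h2 := Equiv.Perm.two_dvd_card_support hσ2
    have hfixle : ((Finset.univ : Finset Ω).filter (fun c => ¬ (x • c ≠ c))).card ≤ 1 := by
      rw [Finset.card_le_one]
      intro c hc d hd
      simp only [Finset.mem_filter, Finset.mem_univ, true_and, not_not] at hc hd
      exact fix_unique zh hab hodd hxo hc hd
    have hsum := Finset.card_filter_add_card_filter_not (s := (Finset.univ : Finset Ω))
      (fun c => x • c ≠ c)
    have hsupp' : σ.support = (Finset.univ : Finset Ω).filter (fun c => x • c ≠ c) := by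
      rw [← hsupp]; ext c; simp [Finset.mem_bipartiteAbove, hr]
    rw [hsupp]
    rw [hsupp'] at h2 ⊢
    rw [Finset.card_univ, hh] at hsum
    obtain ⟨j, hj⟩ := h2
    rw [hm]
    split_ifs with hev
    · obtain ⟨k, hk⟩ := hev
      omega
    · rw [Nat.not_even_iff_odd] at hev
      obtain ⟨k, hk⟩ := hev
      omega
  rw [Finset.sum_congr rfl hL, Finset.sum_congr rfl hR, Finset.sum_const, Finset.sum_const,
    Finset.card_univ, hh, smul_eq_mul, smul_eq_mul] at hdc
  rw [hIcard]
  have hh2 : 2 ≤ h := by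
    obtain ⟨c, hca, hcb⟩ := exists_third zh a b hab
    have : 2 < Fintype.card Ω := by
      rw [Fintype.two_lt_card_iff]
      exact ⟨a, b, c, hab, Ne.symm hca, Ne.symm hcb⟩
    omega
  rw [hm] at hdc
  split_ifs at hdc ⊢ with hev
  · have : I.card * h = (e * (h + 1)) * h := by rw [hdc]; ring
    exact Nat.eq_of_mul_eq_mul_right (by omega) this
  · have : I.card * (h + 1) = (e * h) * (h + 1) := by rw [hdc]; ring
    exact Nat.eq_of_mul_eq_mul_right (by omega) this

end

/-- Let G be a finite simple Zassenhaus group on Ω with n = h + 1 points whose two-point stabilizer E has odd order e with 2e < h - 1. Then any two involutions of G are conjugate, and the number of involutions is e * (h + 1) if h is even and e * h if h is odd. -/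
theorem result {G Ω : Type*} [Group G] [Finite G] [MulAction G Ω] [Fintype Ω] (hZ : Cfsg.IsZassenhausGroup G Ω) {a b : Ω} (hab : a ≠ b) [IsSimpleGroup G] (h e : ℕ) (hh : Fintype.card Ω = h + 1) (he : Nat.card ↥(MulAction.stabilizer G a ⊓ MulAction.stabilizer G b : Subgroup G) = e) (hodd : Odd e) (hlt : 2 * e < h - 1) : (∀ x y : G, orderOf x = 2 → orderOf y = 2 → IsConj x y) ∧ Nat.card {x : G // orderOf x = 2} = (if Even h then e * (h + 1) else e * h) := by
  have zh := zhyp_of_isZassenhausGroup hZ
  have hoddE : Odd (Nat.card ↥(stabilizer G a ⊓ stabilizer G b)) := by rw [he]; exact hodd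
  have hnil := hnil_of_simple zh hab hoddE
  obtain ⟨_, _, hinv⟩ := Cfsg.Agent.S0739.main zh hab hoddE hnil
  refine ⟨?_, count zh hab hinv hoddE h e hh he⟩
  -- conjugacy of involutions
  have hfaith := zh.faithful
  have key : ∀ x : G, orderOf x = 2 → ∃ g : G, (g * x * g⁻¹) • a = b ∧ (g * x * g⁻¹) • b = a := by
    intro x hx
    have hx1 : x ≠ 1 := by
      intro h1; rw [h1, orderOf_one] at hx; omega
    have hxx : x * x = 1 := by
      have := pow_orderOf_eq_one x
      rwa [hx, pow_two] at this
    obtain ⟨c, hc⟩ : ∃ c : Ω, x • c ≠ c := by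
      by_contra hcon
      push Not at hcon
      apply hx1
      apply FaithfulSMul.eq_of_smul_eq_smul (α := Ω)
      intro c
      rw [hcon c, one_smul]
    obtain ⟨g, hg1, hg2⟩ := zh.two (Ne.symm hc) hab
    have hgia : g⁻¹ • a = c := by rw [inv_smul_eq_iff, hg1]
    have hgib : g⁻¹ • b = x • c := by rw [inv_smul_eq_iff, hg2]
    refine ⟨g, ?_, ?_⟩
    · rw [mul_smul, mul_smul, hgia, hg2]
    · rw [mul_smul, mul_smul, hgib, ← mul_smul x x, hxx, one_smul, hg1]
  intro x y hx hy
  obtain ⟨g, hg1, hg2⟩ := key x hx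
  obtain ⟨g', hg1', hg2'⟩ := key y hy
  obtain ⟨z, hz⟩ := swap_conj hinv hoddE hg1 hg2 hg1' hg2'
  rw [isConj_iff]
  refine ⟨g'⁻¹ * z * g, ?_⟩
  have : g'⁻¹ * z * g * x * (g'⁻¹ * z * g)⁻¹ = g'⁻¹ * (z * (g * x * g⁻¹) * z⁻¹) * g' := by group
  rw [this, hz]; group

end Cfsg.Agent.S0882
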