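import Cfsg.Statements.S0544
import Mathlib

set_option autoImplicit false
open Cfsg

namespace Cfsg.Agent.S0544

/-- A finite group with a normal `p`-complement for every prime `p` is nilpotent. -/
theorem isNilpotent_of_normal_complements {D : Type*} [Group D] [Finite D]
    (h : ∀ p : ℕ, p.Prime → ∃ N : Subgroup D, N.Normal ∧ (Nat.card N).Coprime p ∧
      ∃ k : ℕ, N.index = p ^ k) : Group.IsNilpotent D := by
  classical
  choose N hNn hNc hNi using h
  have key : ∀ (q : ℕ) (hq : Fact q.Prime) (Q : Sylow q D), (Q : Subgroup D).Normal := by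
    intro q hq Q
    -- `T` : the intersection of the chosen normal `p`-complements for primes `p ≠ q`
    let T : Subgroup D := ⨅ p : {p : ℕ // p.Prime ∧ p ≠ q}, N p.1 p.2.1
    have hTn : T.Normal := Subgroup.normal_iInf_normal (fun p => hNn p.1 p.2.1)
    have hQT : (Q : Subgroup D) ≤ T := by
      apply le_iInf
      rintro ⟨p, hp, hpq⟩
      have : Fact p.Prime := ⟨hp⟩
      have : (N p hp).Normal := hNn p hp
      obtain ⟨k, hk⟩ := hNi p hp
      have hquot : IsPGroup p (D ⧸ N p hp) := by
        apply IsPGroup.of_card (n := k)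
        rw [← Subgroup.index_eq_card, hk]
      have h1 : IsPGroup p ((Q : Subgroup D).map (QuotientGroup.mk' (N p hp))) :=
        hquot.to_subgroup _
      have h2 : IsPGroup q ((Q : Subgroup D).map (QuotientGroup.mk' (N p hp))) :=
        Q.isPGroup'.map _
      have h3 := IsPGroup.disjoint_of_ne p q hpq _ _ h1 h2
      rw [disjoint_self] at h3
      have h4 := (Subgroup.map_eq_bot_iff _).1 h3
      rwa [QuotientGroup.ker_mk'] at h4
    have hTq : IsPGroup q T := by
      have hT0 : Nat.card T ≠ 0 := Nat.card_pos.ne'
      have hpow : Nat.card T = q ^ (Nat.card T).primeFactorsList.length := by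
        apply Nat.eq_prime_pow_of_unique_prime_dvd hT0
        intro p hp hpT
        by_contra hpq
        have hle : T ≤ N p hp := iInf_le (fun p : {p : ℕ // p.Prime ∧ p ≠ q} => N p.1 p.2.1)
          ⟨p, hp, hpq⟩
        have hdvd : Nat.card T ∣ Nat.card (N p hp) := Subgroup.card_dvd_of_le hle
        have hcop := hNc p hp
        have : p ∣ 1 := by
          rw [← Nat.Coprime.gcd_eq_one hcop]
          exact Nat.dvd_gcd (hpT.trans hdvd) dvd_rfl
        exact hp.one_lt.ne' (Nat.dvd_one.1 this)
      exact IsPGroup.of_card hpow
    have hEq : T = (Q : Subgroup D) := Q.is_maximal' hTq hQT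
    rw [← hEq]
    exact hTn
  exact (Group.isNilpotent_of_finite_tfae (G := D)).out 3 0 |>.1 key

/-- In a finite solvable group the intersection of the normalizers of the members of a Hall complement system is a nilpotent subgroup. -/
theorem result {G : Type*} [Group G] [Finite G] [Group.IsSolvable G] (K : Nat.Primes → Subgroup G) (hK : Cfsg.IsComplementSystem K) : Group.IsNilpotent (Cfsg.systemNormalizer K) := by
  apply isNilpotent_of_normal_complements
  intro p hp
  set D := Cfsg.systemNormalizer K with hD
  let pp : Nat.Primes := ⟨p, hp⟩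
  have hDle : D ≤ Subgroup.normalizer (K pp : Set G) := iInf_le _ pp
  have hidx : (K pp).index = p ^ (Nat.card G).factorization p := hK pp
  refine ⟨(K pp).subgroupOf D, Subgroup.normal_subgroupOf_of_le_normalizer hDle, ?_, ?_⟩
  · -- the order of `K pp` is prime to `p`
    have hcardK : (Nat.card (K pp)).Coprime p := by
      have h1 : Nat.card (K pp) * (K pp).index = Nat.card G := Subgroup.card_mul_index _
      rw [hidx] at h1
      have h2 : Nat.card (K pp) = Nat.card G / p ^ (Nat.card G).factorization p := by
        exact (Nat.div_eq_of_eq_mul_left (pow_pos hp.pos _) h1.symm).symm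
      rw [h2]
      exact (Nat.coprime_ordCompl hp Nat.card_pos.ne').symm
    have hdvd : Nat.card ((K pp).subgroupOf D) ∣ Nat.card (K pp) :=
      Subgroup.card_comap_dvd_of_injective (K pp) D.subtype D.subtype_injective
    exact Nat.Coprime.coprime_dvd_left hdvd hcardK
  · -- the index is a power of `p`
    have h1 : ((K pp).subgroupOf D).index = (K pp).relIndex D := rfl
    have h2 : (K pp).relIndex D ∣ (K pp).index := by
      set Nn := Subgroup.normalizer (K pp : Set G) with hNn
      have hKN : K pp ≤ Nn := Subgroup.le_normalizer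
      have hn : ((K pp).subgroupOf Nn).Normal := Subgroup.normal_in_normalizer
      have h3 : ((K pp).subgroupOf Nn).relIndex (D.subgroupOf Nn) ∣ ((K pp).subgroupOf Nn).index :=
        Subgroup.relIndex_dvd_index_of_normal (H := (K pp).subgroupOf Nn) (K := D.subgroupOf Nn)
      rw [Subgroup.relIndex_subgroupOf hDle] at h3
      exact h3.trans (Subgroup.relIndex_dvd_index_of_le hKN)
    rw [hidx] at h2
    obtain ⟨k, _, hk⟩ := (Nat.dvd_prime_pow hp).1 h2
    exact ⟨k, by rw [h1, hk]⟩

end Cfsg.Agent.S0544
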