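-- Statement S0536: structure of minimal non-nilpotent (Schmidt) groups.
import Cfsg.Statements.S0536
import Cfsg.Agent.Lib.Helper35_FrobeniusNPC
-- (lead, merge fix) the next three imports are not used here; S0537 (helper9) relies on getting them transitively.
import Cfsg.Agent.S0071
import Cfsg.Agent.S0544
import Cfsg.Agent.Lib.Helper9_CLT2

set_option autoImplicit false
open Cfsg

namespace Cfsg.Agent.S0536

section aux

open Cfsg.Agent.Lib.Helper35_FrobeniusNPC Subgroup

variable {G : Type*} [Group G] [Finite G]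

/-- if `G` has a normal `p`-complement for every prime `p` then `G` is nilpotent -/
theorem isNilpotent_of_forall_hasNPC (h : ∀ p : ℕ, p.Prime → HasNPC p G) :
    Group.IsNilpotent G := by
  classical
  choose K hKn hKc hKi using
    fun p : (Nat.card G).primeFactors => h p (Nat.prime_of_mem_primeFactors p.2)
  have hn : ∀ p : (Nat.card G).primeFactors, (K p).Normal := hKn
  let f : G →* (∀ p : (Nat.card G).primeFactors, G ⧸ K p) :=
    MonoidHom.pi (fun p => QuotientGroup.mk' (K p))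
  have hnil : ∀ p : (Nat.card G).primeFactors, Group.IsNilpotent (G ⧸ K p) := by
    intro p
    have : Fact (p : ℕ).Prime := ⟨Nat.prime_of_mem_primeFactors p.2⟩
    obtain ⟨n, hn⟩ := hKi p
    have hpg : IsPGroup (p : ℕ) (G ⧸ K p) :=
      IsPGroup.of_card (n := n) (by rw [← Subgroup.index_eq_card, hn])
    exact hpg.isNilpotent
  apply Subgroup.isNilpotent_of_ker_le_center f
  intro x hx
  have hx1 : x = 1 := by
    rw [← orderOf_eq_one_iff]
    by_contra hne
    obtain ⟨q, hq, hqd⟩ := Nat.exists_prime_and_dvd hne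
    have hqG : q ∈ (Nat.card G).primeFactors := by
      rw [Nat.mem_primeFactors]
      exact ⟨hq, hqd.trans (orderOf_dvd_natCard x), Nat.card_pos.ne'⟩
    have hxK : x ∈ K ⟨q, hqG⟩ := by
      have := congrFun (MonoidHom.mem_ker.mp hx) ⟨q, hqG⟩
      rw [← QuotientGroup.eq_one_iff]
      exact this
    have hd : orderOf x ∣ Nat.card (K ⟨q, hqG⟩) := by
      have := orderOf_dvd_natCard (⟨x, hxK⟩ : K ⟨q, hqG⟩)
      rwa [Subgroup.orderOf_mk] at this
    have hcop := hKc ⟨q, hqG⟩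
    have : q ∣ Nat.gcd (Nat.card (K ⟨q, hqG⟩)) q := Nat.dvd_gcd (hqd.trans hd) dvd_rfl
    rw [hcop] at this
    exact hq.one_lt.ne' (Nat.dvd_one.mp this)
  rw [hx1]; exact one_mem _

omit [Finite G] in
theorem one_mem_centralizer (Q : Subgroup G) : (1 : G) ∈ centralizer (Q : Set G) := one_mem _

/-- a `p'`-element of `N(Q)` not centralizing `Q` can be chosen of prime power order -/
theorem exists_prime_pow_order (p : ℕ) (Q : Subgroup G) :
    ∀ (n : ℕ) (g : G), orderOf g = n → g ∈ normalizer (Q : Set G) → (orderOf g).Coprime p →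
      g ∉ centralizer (Q : Set G) →
      ∃ (r k : ℕ) (h : G), r.Prime ∧ orderOf h = r ^ k ∧ h ∈ normalizer (Q : Set G) ∧
        (orderOf h).Coprime p ∧ h ∉ centralizer (Q : Set G) := by
  intro n
  induction n using Nat.strong_induction_on with
  | _ n ih =>
  intro g hgn hgN hgp hgC
  have hn0 : n ≠ 0 := by rw [← hgn]; exact (orderOf_pos g).ne'
  have hn1 : n ≠ 1 := by
    intro h1
    rw [h1, orderOf_eq_one_iff] at hgn
    exact hgC (hgn ▸ one_mem _)
  have hr : (n.minFac).Prime := Nat.minFac_prime hn1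
  obtain ⟨k, m, hm, hkm⟩ := Nat.exists_eq_pow_mul_and_not_dvd hn0 n.minFac hr.ne_one
  set r := n.minFac with hrdef
  by_cases hm1 : m = 1
  · exact ⟨r, k, g, hr, by rw [hgn, hkm, hm1, mul_one], hgN, hgp, hgC⟩
  have hm0 : m ≠ 0 := by
    intro h0; rw [h0, mul_zero] at hkm; exact hn0 hkm
  have hk0 : k ≠ 0 := by
    intro h0
    rw [h0, pow_zero, one_mul] at hkm
    exact hm (hkm ▸ Nat.minFac_dvd n)
  have hrk1 : 1 < r ^ k := Nat.one_lt_pow hk0 hr.one_lt
  have hcop : Nat.Coprime (r ^ k) m :=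
    Nat.Coprime.pow_left k ((Nat.Prime.coprime_iff_not_dvd hr).mpr hm)
  -- the two components
  have hoa : orderOf (g ^ r ^ k) = m := by
    rw [orderOf_pow' g (pow_ne_zero k hr.ne_zero), hgn, hkm,
      Nat.gcd_eq_right (dvd_mul_right _ _), Nat.mul_div_cancel_left _ (by positivity)]
  have hob : orderOf (g ^ m) = r ^ k := by
    rw [orderOf_pow' g hm0, hgn, hkm, Nat.gcd_eq_right (dvd_mul_left _ _),
      Nat.mul_div_cancel _ (Nat.pos_of_ne_zero hm0)]
  have hcopa : (orderOf (g ^ r ^ k)).Coprime p := by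
    rw [hoa]
    exact Nat.Coprime.coprime_dvd_left (hkm ▸ dvd_mul_left m (r ^ k)) (hgn ▸ hgp)
  have hcopb : (orderOf (g ^ m)).Coprime p := by
    rw [hob]
    exact Nat.Coprime.coprime_dvd_left (hkm ▸ dvd_mul_right (r ^ k) m) (hgn ▸ hgp)
  by_cases haC : g ^ r ^ k ∈ centralizer (Q : Set G)
  · by_cases hbC : g ^ m ∈ centralizer (Q : Set G)
    · exfalso
      apply hgC
      have hbez := Int.gcd_eq_gcd_ab (r ^ k : ℕ) m
      have hg1 : Int.gcd ((r ^ k : ℕ) : ℤ) (m : ℤ) = 1 := by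
        rw [Int.gcd_natCast_natCast]; exact hcop
      rw [hg1] at hbez
      have : g = (g ^ r ^ k) ^ (Int.gcdA (r ^ k : ℕ) m) * (g ^ m) ^ (Int.gcdB (r ^ k : ℕ) m) := by
        rw [← zpow_natCast, ← zpow_natCast g m, ← zpow_mul, ← zpow_mul, ← zpow_add]
        conv_lhs => rw [← zpow_one g]
        exact congrArg (fun z : ℤ => g ^ z) (by exact_mod_cast hbez)
      rw [this]
      exact mul_mem (zpow_mem haC _) (zpow_mem hbC _)
    · exact ⟨r, k, g ^ m, hr, hob, pow_mem hgN _, hcopb, hbC⟩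
  · have hlt : m < n := by
      rw [hkm]
      exact lt_mul_of_one_lt_left (Nat.pos_of_ne_zero hm0) hrk1
    exact ih m hlt (g ^ r ^ k) hoa (pow_mem hgN _) hcopa haC

end aux

section aux2
-- (lead, merge fix) lemma from helper9's version of this file, kept so that S0537 (helper9) still builds.
theorem orderOf_eq_prime_pow_of_mem {G : Type*} [Group G] {r : ℕ} [Fact r.Prime] {Q : Subgroup G} (hQ : IsPGroup r Q)
    {x : G} (hx : x ∈ Q) : ∃ i : ℕ, orderOf x = r ^ i := by
  obtain ⟨k, hk⟩ := hQ ⟨x, hx⟩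
  have h1 : x ^ r ^ k = 1 := by
    have := congrArg Subtype.val hk
    simpa using this
  have h2 : orderOf x ∣ r ^ k := orderOf_dvd_of_pow_eq_one h1
  obtain ⟨i, _, hi⟩ := (Nat.dvd_prime_pow (Fact.out : r.Prime)).1 h2
  exact ⟨i, hi⟩
end aux2

open Cfsg.Agent.Lib.Helper35_FrobeniusNPC Subgroup in
open scoped Pointwise in


/-- Structure of minimal non-nilpotent groups: if a finite group is not nilpotent but all its proper subgroups are, then there are distinct primes p and q, a cyclic Sylow p-subgroup P and a normal Sylow q-subgroup Q with G generated by P and Q. -/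
theorem result {G : Type*} [Group G] [Finite G] (hG : Cfsg.IsMinimalNonNilpotent G) : ∃ p q : ℕ, p.Prime ∧ q.Prime ∧ p ≠ q ∧ ∃ (P : Sylow p G) (Q : Sylow q G), IsCyclic P ∧ (Q : Subgroup G).Normal ∧ (P : Subgroup G) ⊔ Q = ⊤ := by
  classical
  obtain ⟨hnn, hprop⟩ := hG
  -- a prime `q` without normal `q`-complement
  have h1 : ∃ q : ℕ, q.Prime ∧ ¬ HasNPC q G := by
    by_contra hcon
    push Not at hcon
    exact hnn (isNilpotent_of_forall_hasNPC hcon)
  obtain ⟨q, hq, hnpc⟩ := h1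
  have : Fact q.Prime := ⟨hq⟩
  have h2 : ¬ FrobHyp q G := fun hF => hnpc (hasNPC_of_frobHyp hF)
  unfold FrobHyp at h2
  push Not at h2
  obtain ⟨Q, hQ, g, hgN, hgc, hgC⟩ := h2
  obtain ⟨r, k, h, hr, hoh, hhN, hhc, hhC⟩ :=
    exists_prime_pow_order q Q _ g rfl hgN hgc hgC
  have : Fact r.Prime := ⟨hr⟩
  have hk0 : k ≠ 0 := by
    intro h0
    rw [h0, pow_zero, orderOf_eq_one_iff] at hoh
    exact hhC (hoh ▸ one_mem _)
  have hrq : r ≠ q := by
    intro hEq
    rw [hoh, hEq] at hhc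
    have : q ∣ Nat.gcd (q ^ k) q := Nat.dvd_gcd (dvd_pow_self q hk0) dvd_rfl
    rw [hhc] at this
    exact hq.one_lt.ne' (Nat.dvd_one.mp this)
  -- the cyclic `r`-subgroup
  set Z : Subgroup G := Subgroup.zpowers h with hZ
  have hZcard : Nat.card Z = r ^ k := by rw [hZ, Nat.card_zpowers, hoh]
  have hZp : IsPGroup r Z := IsPGroup.of_card hZcard
  have hhZ : h ∈ Z := Subgroup.mem_zpowers h
  -- `Q ⊔ Z = ⊤`
  have htop : Q ⊔ Z = ⊤ := by
    by_contra hne
    have hnil : Group.IsNilpotent ↥(Q ⊔ Z) := hprop _ hne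
    have hQ' : IsPGroup q (Q.subgroupOf (Q ⊔ Z)) :=
      hQ.comap_of_injective _ (Subgroup.subtype_injective _) |>.to_le le_rfl
    have hZ' : IsPGroup r (Z.subgroupOf (Q ⊔ Z)) :=
      hZp.comap_of_injective _ (Subgroup.subtype_injective _) |>.to_le le_rfl
    obtain ⟨SQ, hSQ⟩ := hQ'.exists_le_sylow
    obtain ⟨SZ, hSZ⟩ := hZ'.exists_le_sylow
    have hdis : Disjoint (SQ : Subgroup ↥(Q ⊔ Z)) (SZ : Subgroup ↥(Q ⊔ Z)) :=
      IsPGroup.disjoint_of_ne q r hrq.symm _ _ SQ.2 SZ.2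
    apply hhC
    rw [Subgroup.mem_centralizer_iff]
    intro x hx
    have hxm : (⟨x, (le_sup_left : Q ≤ Q ⊔ Z) hx⟩ : ↥(Q ⊔ Z)) ∈ (SQ : Subgroup ↥(Q ⊔ Z)) :=
      hSQ (by rw [Subgroup.mem_subgroupOf]; exact hx)
    have hhm : (⟨h, (le_sup_right : Z ≤ Q ⊔ Z) hhZ⟩ : ↥(Q ⊔ Z)) ∈ (SZ : Subgroup ↥(Q ⊔ Z)) :=
      hSZ (by rw [Subgroup.mem_subgroupOf]; exact hhZ)
    have hcomm := Subgroup.commute_of_normal_of_disjoint _ _ inferInstance inferInstance hdis
      _ _ hxm hhm
    have := congrArg Subtype.val hcomm.eq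
    simpa using this
  -- `Q` is normal
  have hQn : Q.Normal := by
    rw [← Subgroup.normalizer_eq_top_iff, eq_top_iff, ← htop, sup_le_iff]
    refine ⟨Subgroup.le_normalizer, ?_⟩
    rw [hZ, Subgroup.zpowers_le]
    exact hhN
  have hdisj : Disjoint Q Z := IsPGroup.disjoint_of_ne q r hrq.symm _ _ hQ hZp
  have hmul : (Q : Set G) * (Z : Set G) = Set.univ := by
    rw [← Subgroup.normal_mul, htop, Subgroup.coe_top]
  have hcompl : IsComplement' Q Z := isComplement'_of_disjoint_and_mul_eq_univ hdisj hmul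
  have hZidx : Z.index = Nat.card Q := hcompl.index_eq_card
  have hQidx : Q.index = Nat.card Z := hcompl.symm.index_eq_card
  obtain ⟨n, hn⟩ := (IsPGroup.iff_card (p := q)).mp hQ
  have hQs : ¬ q ∣ Q.index := by
    rw [hQidx, hZcard]
    intro hd
    exact hrq ((Nat.prime_dvd_prime_iff_eq hq hr).mp (hq.dvd_of_dvd_pow hd)).symm
  have hZs : ¬ r ∣ Z.index := by
    rw [hZidx, hn]
    intro hd
    exact hrq ((Nat.prime_dvd_prime_iff_eq hr hq).mp (hr.dvd_of_dvd_pow hd))
  refine ⟨r, q, hr, hq, hrq, hZp.toSylow hZs, hQ.toSylow hQs, ?_, ?_, ?_⟩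
  · change IsCyclic ↥(Subgroup.zpowers h)
    infer_instance
  · rw [IsPGroup.toSylow_coe]; exact hQn
  · rw [IsPGroup.toSylow_coe, IsPGroup.toSylow_coe, sup_comm]; exact htop

end Cfsg.Agent.S0536
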