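import Cfsg.Statements.S0121

set_option autoImplicit false
open Cfsg

namespace Cfsg.Agent.S0121

/-- A p'-automorphism of a p-group acting trivially on a critical subgroup is trivial. -/
theorem result {G : Type*} [Group G] [Finite G] {p : ℕ} [Fact p.Prime] (hG : IsPGroup p G) (H : Subgroup G) (hH : H.Characteristic) (h1 : (frattini H).map H.subtype ≤ Subgroup.centralizer (H : Set G)) (h2 : ⁅H, (⊤ : Subgroup G)⁆ ≤ H ⊓ Subgroup.centralizer (H : Set G)) (h3 : Subgroup.centralizer (H : Set G) ≤ H) (a : MulAut G) (ha : Nat.Coprime (orderOf a) p) (h : ∀ x ∈ H, a x = x) : a = 1 := by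
  have hp : p.Prime := Fact.out
  have hHn : H.Normal := inferInstance
  ext x
  show a x = x
  set y := x⁻¹ * a x with hy
  -- `y` centralizes `H`
  have hyC : y ∈ Subgroup.centralizer (H : Set G) := by
    rw [Subgroup.mem_centralizer_iff]
    intro k hk
    have hk : k ∈ H := hk
    have hconj : x * k * x⁻¹ ∈ H := hHn.conj_mem k hk x
    have e1 : a (x * k * x⁻¹) = x * k * x⁻¹ := h _ hconj
    rw [map_mul, map_mul, map_inv, h k hk] at e1
    -- a x * k * (a x)⁻¹ = x * k * x⁻¹
    have e2 : x⁻¹ * (a x * k * (a x)⁻¹) * x = k := by rw [e1]; group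
    have e3 : y * k * y⁻¹ = k := by
      have e4 : y * k * y⁻¹ = x⁻¹ * (a x * k * (a x)⁻¹) * x := by rw [hy]; group
      rw [e4, e2]
    calc k * y = (y * k * y⁻¹) * y := by rw [e3]
      _ = y * k := by group
  have hyH : y ∈ H := h3 hyC
  have hay : a y = y := h y hyH
  have hax : a x = x * y := by rw [hy]; group
  -- iterate
  have hiter : ∀ n : ℕ, (a ^ n) x = x * y ^ n := by
    intro n
    induction n with
    | zero => simp
    | succ n ih =>
      rw [pow_succ', MulAut.mul_apply, ih, map_mul, map_pow, hay, hax, pow_succ', mul_assoc]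
  have hn := hiter (orderOf a)
  rw [pow_orderOf_eq_one, MulAut.one_apply] at hn
  have hyn : y ^ orderOf a = 1 := by
    have := mul_left_cancel (a := x) (b := 1) (c := y ^ orderOf a) (by rw [mul_one]; exact hn)
    exact this.symm
  obtain ⟨k, hk⟩ := hG y
  have hy1 : y = 1 := by
    have hd1 : orderOf y ∣ orderOf a := orderOf_dvd_of_pow_eq_one hyn
    have hd2 : orderOf y ∣ p ^ k := orderOf_dvd_of_pow_eq_one hk
    have hc : Nat.Coprime (orderOf a) (p ^ k) := Nat.Coprime.pow_right k ha
    have := Nat.dvd_gcd hd1 hd2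
    rw [hc] at this
    exact orderOf_eq_one_iff.mp (Nat.dvd_one.mp this)
  rw [hax, hy1, mul_one]

end Cfsg.Agent.S0121
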