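import Cfsg.Statements.S4207

set_option autoImplicit false
open Cfsg

namespace Cfsg.Agent.S4207

/-- A group of order `p^r` can be generated by `r` elements. -/
theorem exists_generators {Q : Type*} [Group Q] [Finite Q] {p r : ℕ} [Fact p.Prime]
    (hQ : Nat.card Q = p ^ r) :
    ∃ y : Fin r → Q, Subgroup.closure (Set.range y) = ⊤ := by
  have hp : p.Prime := Fact.out
  have hpow : ∀ K : Subgroup Q, ∃ j, Nat.card K = p ^ j := by
    intro K
    have h1 : Nat.card K ∣ p ^ r := hQ ▸ K.card_subgroup_dvd_card
    obtain ⟨j, _, hj⟩ := (Nat.dvd_prime_pow hp).mp h1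
    exact ⟨j, hj⟩
  have key : ∀ k ≤ r, ∃ y : Fin k → Q, p ^ k ∣ Nat.card (Subgroup.closure (Set.range y)) := by
    intro k
    induction k with
    | zero => intro _; exact ⟨Fin.elim0, by simp⟩
    | succ k ih =>
      intro hk
      obtain ⟨y, hy⟩ := ih (by omega)
      set K := Subgroup.closure (Set.range y) with hK
      have hmono : ∀ g : Q, K ≤ Subgroup.closure (Set.range (Fin.snoc y g : Fin (k + 1) → Q)) := by
        intro g
        rw [hK]
        apply Subgroup.closure_mono
        rintro _ ⟨i, rfl⟩
        exact ⟨i.castSucc, by simp⟩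
      by_cases hKtop : K = ⊤
      · refine ⟨Fin.snoc y 1, ?_⟩
        have : Subgroup.closure (Set.range (Fin.snoc y 1 : Fin (k + 1) → Q)) = ⊤ := by
          rw [eq_top_iff, ← hKtop]
          exact hmono 1
        rw [this, Subgroup.card_top, hQ]
        exact pow_dvd_pow p hk
      · obtain ⟨g, hg⟩ : ∃ g, g ∉ K := by
          by_contra h
          push Not at h
          exact hKtop (eq_top_iff.mpr fun x _ => h x)
        refine ⟨Fin.snoc y g, ?_⟩
        set K' := Subgroup.closure (Set.range (Fin.snoc y g : Fin (k + 1) → Q)) with hK'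
        have hle : K ≤ K' := hmono g
        have hgK' : g ∈ K' := Subgroup.subset_closure ⟨Fin.last k, by simp⟩
        obtain ⟨j, hj⟩ := hpow K
        obtain ⟨j', hj'⟩ := hpow K'
        have hcardlt : Nat.card K < Nat.card K' := by
          by_contra hnot
          push Not at hnot
          have := Subgroup.eq_of_le_of_card_ge hle hnot
          exact hg (this ▸ hgK')
        rw [hj, hj'] at hcardlt
        have hjj' : j < j' := (Nat.pow_lt_pow_iff_right hp.one_lt).mp hcardlt
        have hkj : k ≤ j := (Nat.pow_dvd_pow_iff_le_right hp.one_lt).mp (hj ▸ hy)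
        rw [hj']
        exact pow_dvd_pow p (by omega)
  obtain ⟨y, hy⟩ := key r le_rfl
  refine ⟨y, ?_⟩
  apply Subgroup.eq_top_of_card_eq
  apply Nat.dvd_antisymm (Subgroup.card_subgroup_dvd_card _)
  rw [hQ]; exact hy

/-- Let `P` be a group of order `p^n` whose Frattini subgroup has index `p^r`. Then any group of automorphisms of `P` each of which induces the identity on the Frattini quotient has order dividing `p^(r(n-r))`; in particular it is a `p`-group. -/
theorem result {P : Type*} [Group P] [Finite P] {p n r : ℕ} [Fact p.Prime] (hP : Nat.card P = p ^ n) (hr : (frattini P).index = p ^ r) (A : Subgroup (MulAut P)) (hA : ∀ α ∈ A, ∀ x : P, α x * x⁻¹ ∈ frattini P) : Nat.card A ∣ p ^ (r * (n - r)) := by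
  classical
  have hp : p.Prime := Fact.out
  set Φ := frattini P with hΦ
  have hcard : Nat.card Φ * p ^ r = p ^ n := by rw [← hr, Subgroup.card_mul_index, hP]
  have hrn : r ≤ n := by
    have : p ^ r ∣ p ^ n := Dvd.intro_left _ hcard
    exact (Nat.pow_dvd_pow_iff_le_right hp.one_lt).mp this
  have hΦcard : Nat.card Φ = p ^ (n - r) := by
    have : p ^ n = p ^ (n - r) * p ^ r := by rw [← pow_add]; congr 1; omega
    rw [this] at hcard
    exact Nat.eq_of_mul_eq_mul_right (pow_pos hp.pos r) hcard
  have hQ : Nat.card (P ⧸ Φ) = p ^ r := by rw [← Subgroup.index_eq_card]; exact hr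
  obtain ⟨y, hy⟩ := exists_generators hQ
  choose x hx using fun i => QuotientGroup.mk_surjective (y i)
  -- any tuple congruent to `x` mod Φ generates `P`
  have hgen : ∀ f : Fin r → P, (∀ i, f i * (x i)⁻¹ ∈ Φ) →
      Subgroup.closure (Set.range f) = ⊤ := by
    intro f hf
    apply frattini_nongenerating
    rw [eq_top_iff]
    have hmap : (Subgroup.closure (Set.range f)).map (QuotientGroup.mk' Φ) = ⊤ := by
      rw [MonoidHom.map_closure, ← hy]
      congr 1
      ext q
      constructor
      · rintro ⟨_, ⟨i, rfl⟩, rfl⟩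
        refine ⟨i, ?_⟩
        rw [← hx i]
        symm
        apply QuotientGroup.eq.mpr
        have := Φ.inv_mem (hf i)
        have h2 : (f i)⁻¹ * x i = (x i)⁻¹ * ((f i * (x i)⁻¹)⁻¹) * x i := by group
        have hn : Φ.Normal := inferInstance
        rw [h2]
        have := hn.conj_mem _ this (x i)⁻¹
        simpa using this
      · rintro ⟨i, rfl⟩
        refine ⟨f i, ⟨i, rfl⟩, ?_⟩
        rw [← hx i]
        apply QuotientGroup.eq.mpr
        have := hf i
        have h2 : (f i)⁻¹ * x i = (x i)⁻¹ * ((f i * (x i)⁻¹)⁻¹) * x i := by group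
        have hn : Φ.Normal := inferInstance
        rw [h2]
        have := hn.conj_mem _ (Φ.inv_mem this) (x i)⁻¹
        simpa using this
    intro g _
    have hg : (QuotientGroup.mk' Φ g) ∈ (Subgroup.closure (Set.range f)).map (QuotientGroup.mk' Φ) := by
      rw [hmap]; trivial
    obtain ⟨k, hk, hkg⟩ := hg
    have h1 : k⁻¹ * g ∈ Φ := QuotientGroup.eq.mp hkg
    have h2 : g = k * (k⁻¹ * g) := by group
    rw [h2]
    exact Subgroup.mul_mem_sup hk h1
  -- the set acted on
  let T := {f : Fin r → P // ∀ i, f i * (x i)⁻¹ ∈ Φ}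
  let _ : MulAction A T :=
    { smul := fun α f => ⟨fun i => (α : MulAut P) (f.1 i), fun i => by
        have h1 := hA α α.2 (f.1 i)
        have h2 := f.2 i
        have : (α : MulAut P) (f.1 i) * (x i)⁻¹ =
            ((α : MulAut P) (f.1 i) * (f.1 i)⁻¹) * (f.1 i * (x i)⁻¹) := by group
        rw [this]
        exact Φ.mul_mem h1 h2⟩
      one_smul := fun f => Subtype.ext (funext fun i => rfl)
      mul_smul := fun α β f => Subtype.ext (funext fun i => rfl) }
  have hfree : ∀ f : T, MulAction.stabilizer A f = ⊥ := by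
    intro f
    rw [eq_bot_iff]
    intro α hα
    rw [MulAction.mem_stabilizer_iff] at hα
    have h1 : ∀ i, (α : MulAut P) (f.1 i) = f.1 i := fun i => congrFun (congrArg Subtype.val hα) i
    have h2 : Set.EqOn ((α : MulAut P).toMonoidHom) (MonoidHom.id P) (Subgroup.closure (Set.range f.1)) := by
      apply MonoidHom.eqOn_closure
      rintro _ ⟨i, rfl⟩
      exact h1 i
    rw [hgen f.1 f.2] at h2
    rw [Subgroup.mem_bot]
    apply Subtype.ext
    apply MulEquiv.ext
    intro g
    exact h2 (Subgroup.mem_top g)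
  have e1 : T ≃ (Fin r → Φ) :=
    { toFun := fun f i => ⟨f.1 i * (x i)⁻¹, f.2 i⟩
      invFun := fun u => ⟨fun i => (u i : P) * x i, fun i => by simp⟩
      left_inv := fun f => Subtype.ext (funext fun i => by simp)
      right_inv := fun u => funext fun i => Subtype.ext (by simp) }
  have hT : Nat.card T = p ^ (r * (n - r)) := by
    rw [Nat.card_congr e1, Nat.card_fun, hΦcard, Nat.card_eq_fintype_card, Fintype.card_fin,
      ← pow_mul, mul_comm]
  have e2 := MulAction.selfEquivOrbitsQuotientProd hfree
  rw [← hT, Nat.card_congr e2, Nat.card_prod]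
  exact Dvd.intro_left _ rfl

end Cfsg.Agent.S4207
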