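-- Statement S4218 (Hall–Higman 1.2.5): in a p-solvable group, G/O_{p',p}(G) acts faithfully on the
-- Frattini quotient of O_{p',p}(G)/O_{p'}(G).
import Cfsg.Statements.S4218
import Cfsg.Agent.S4207
import Cfsg.Agent.Lib.Helper76_PSolvable
import Cfsg.Agent.Lib.Helper1_Frattini

set_option autoImplicit false
open Cfsg

namespace Cfsg.Agent.S4218

open Cfsg.Agent.Lib.Helper76_PSolvable Cfsg.Agent.Lib.Helper1_Frattini
open scoped commutatorElement

section abstract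

variable {G : Type*} [Group G] (N₀ P₁ : Subgroup G) [N₀.Normal] [P₁.Normal]

theorem map_conjNormal_subgroupOf (h : G) :
    (N₀.subgroupOf P₁).map ((MulAut.conjNormal h : MulAut P₁) : P₁ →* P₁) = N₀.subgroupOf P₁ := by
  rw [Subgroup.map_equiv_eq_comap_symm]
  ext x
  rw [Subgroup.mem_comap, Subgroup.mem_subgroupOf, Subgroup.mem_subgroupOf]
  have h1 : (((MulEquiv.symm (MulAut.conjNormal h : MulAut P₁)) x : P₁) : G) = h⁻¹ * x * h :=
    MulAut.conjNormal_symm_apply h x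
  show (((MulEquiv.symm (MulAut.conjNormal h : MulAut P₁)) x : P₁) : G) ∈ N₀ ↔ _
  rw [h1]
  constructor
  · intro hx
    have := (inferInstance : N₀.Normal).conj_mem _ hx h
    simpa [mul_assoc] using this
  · intro hx
    have := (inferInstance : N₀.Normal).conj_mem _ hx h⁻¹
    simpa [mul_assoc] using this

/-- The automorphism of `P₁ / N₀` induced by conjugation with `h`. -/
noncomputable def thetaFun (h : G) : MulAut (P₁ ⧸ N₀.subgroupOf P₁) :=
  QuotientGroup.congr (N₀.subgroupOf P₁) (N₀.subgroupOf P₁) (MulAut.conjNormal h : MulAut P₁)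
    (map_conjNormal_subgroupOf N₀ P₁ h)

theorem thetaFun_mk (h : G) (x : P₁) :
    thetaFun N₀ P₁ h (QuotientGroup.mk' (N₀.subgroupOf P₁) x) =
      QuotientGroup.mk' (N₀.subgroupOf P₁) ((MulAut.conjNormal h : MulAut P₁) x) :=
  QuotientGroup.congr_mk' _ _ _ _ x

/-- The conjugation action of `G` on `P₁ / N₀` as a homomorphism. -/
noncomputable def theta : G →* MulAut (P₁ ⧸ N₀.subgroupOf P₁) where
  toFun := thetaFun N₀ P₁
  map_one' := by
    ext y
    obtain ⟨x, rfl⟩ := QuotientGroup.mk'_surjective (N₀.subgroupOf P₁) y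
    rw [thetaFun_mk, map_one, MulAut.one_apply, MulAut.one_apply]
  map_mul' := by
    intro a b
    ext y
    obtain ⟨x, rfl⟩ := QuotientGroup.mk'_surjective (N₀.subgroupOf P₁) y
    rw [thetaFun_mk, map_mul, MulAut.mul_apply, MulAut.mul_apply, thetaFun_mk, thetaFun_mk]

theorem theta_mk (h : G) (x : P₁) :
    theta N₀ P₁ h (QuotientGroup.mk' (N₀.subgroupOf P₁) x) =
      QuotientGroup.mk' (N₀.subgroupOf P₁) ((MulAut.conjNormal h : MulAut P₁) x) :=
  thetaFun_mk N₀ P₁ h x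

end abstract

section aut

variable {Q : Type*} [Group Q]

/-- The automorphisms acting trivially modulo the Frattini subgroup. -/
def frattiniTrivial (Q : Type*) [Group Q] : Subgroup (MulAut Q) where
  carrier := {α | ∀ y : Q, α y * y⁻¹ ∈ frattini Q}
  one_mem' := by
    intro y
    rw [MulAut.one_apply, mul_inv_cancel]
    exact one_mem _
  mul_mem' := by
    intro α β hα hβ y
    have h1 := hα (β y)
    have h2 := hβ y
    have : (α * β) y * y⁻¹ = (α (β y) * (β y)⁻¹) * (β y * y⁻¹) := by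
      rw [MulAut.mul_apply]; group
    rw [this]
    exact mul_mem h1 h2
  inv_mem' := by
    intro α hα y
    have h1 := hα (α⁻¹ y)
    rw [MulAut.apply_inv_self] at h1
    have h2 := inv_mem h1
    have : (y * (α⁻¹ y)⁻¹)⁻¹ = α⁻¹ y * y⁻¹ := by group
    rwa [this] at h2

theorem mem_frattiniTrivial {α : MulAut Q} :
    α ∈ frattiniTrivial Q ↔ ∀ y : Q, α y * y⁻¹ ∈ frattini Q := Iff.rfl

instance frattiniTrivial_normal : (frattiniTrivial Q).Normal := by
  constructor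
  intro α hα β y
  have hchar : (frattini Q).map β.toMonoidHom = frattini Q :=
    Subgroup.characteristic_iff_map_eq.mp frattini_characteristic β
  have h1 := hα (β⁻¹ y)
  have h2 : β (α (β⁻¹ y) * (β⁻¹ y)⁻¹) ∈ frattini Q := by
    rw [← hchar]
    exact ⟨_, h1, rfl⟩
  have : (β * α * β⁻¹) y * y⁻¹ = β (α (β⁻¹ y) * (β⁻¹ y)⁻¹) := by
    rw [MulAut.mul_apply, MulAut.mul_apply, map_mul, map_inv, MulAut.apply_inv_self]
  rw [this]
  exact h2

theorem frattiniTrivial_isPGroup [Finite Q] (p : ℕ) [Fact p.Prime] (hQ : IsPGroup p Q) :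
    IsPGroup p (frattiniTrivial Q) := by
  obtain ⟨n, hn⟩ := IsPGroup.iff_card.mp hQ
  have hdvd : (frattini Q).index ∣ p ^ n := by
    rw [← hn]; exact Subgroup.index_dvd_card _
  obtain ⟨r, _, hr⟩ := (Nat.dvd_prime_pow (Fact.out : p.Prime)).mp hdvd
  have h := Cfsg.Agent.S4207.result hn hr (frattiniTrivial Q) (fun α hα x => hα x)
  obtain ⟨k, _, hk⟩ := (Nat.dvd_prime_pow (Fact.out : p.Prime)).mp h
  exact IsPGroup.of_card hk

end aut

section main

variable {G : Type*} [Group G] (p : ℕ) [Fact p.Prime] (N₀ P₁ : Subgroup G)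
  [N₀.Normal] [P₁.Normal]

omit [P₁.Normal] in
/-- membership in the preimage of the Frattini subgroup -/
theorem mem_F_iff (z : G) (hz : z ∈ P₁) :
    z ∈ ((frattini (P₁ ⧸ N₀.subgroupOf P₁)).comap
      (QuotientGroup.mk' (N₀.subgroupOf P₁))).map P₁.subtype ↔
    QuotientGroup.mk' (N₀.subgroupOf P₁) ⟨z, hz⟩ ∈ frattini (P₁ ⧸ N₀.subgroupOf P₁) := by
  constructor
  · rintro ⟨y, hy, hyz⟩
    have : y = ⟨z, hz⟩ := Subtype.ext hyz
    rw [← this]
    exact hy
  · intro h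
    exact ⟨⟨z, hz⟩, h, rfl⟩

theorem comm_mem (g x : G) (hx : x ∈ P₁) : g * x * g⁻¹ * x⁻¹ ∈ P₁ :=
  P₁.mul_mem ((inferInstance : P₁.Normal).conj_mem x hx g) (P₁.inv_mem hx)

theorem theta_mem_iff (g : G) :
    theta N₀ P₁ g ∈ frattiniTrivial (P₁ ⧸ N₀.subgroupOf P₁) ↔
    ∀ x ∈ P₁, g * x * g⁻¹ * x⁻¹ ∈ ((frattini (P₁ ⧸ N₀.subgroupOf P₁)).comap
      (QuotientGroup.mk' (N₀.subgroupOf P₁))).map P₁.subtype := by
  have key : ∀ (x : G) (hx : x ∈ P₁),
      theta N₀ P₁ g (QuotientGroup.mk' (N₀.subgroupOf P₁) ⟨x, hx⟩) *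
        (QuotientGroup.mk' (N₀.subgroupOf P₁) ⟨x, hx⟩)⁻¹ =
      QuotientGroup.mk' (N₀.subgroupOf P₁) ⟨g * x * g⁻¹ * x⁻¹, comm_mem P₁ g x hx⟩ := by
    intro x hx
    rw [theta_mk, ← map_inv, ← map_mul]
    congr 1
  constructor
  · intro h x hx
    rw [mem_F_iff N₀ P₁ _ (comm_mem P₁ g x hx), ← key x hx]
    exact h _
  · intro h y
    obtain ⟨⟨x, hx⟩, rfl⟩ := QuotientGroup.mk'_surjective (N₀.subgroupOf P₁) y
    rw [key x hx, ← mem_F_iff N₀ P₁ _ (comm_mem P₁ g x hx)]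
    exact h x hx

theorem theta_eq_one_iff (g : G) :
    theta N₀ P₁ g = 1 ↔ ∀ x ∈ P₁, g * x * g⁻¹ * x⁻¹ ∈ N₀ := by
  have key : ∀ (x : G) (hx : x ∈ P₁),
      theta N₀ P₁ g (QuotientGroup.mk' (N₀.subgroupOf P₁) ⟨x, hx⟩) =
        QuotientGroup.mk' (N₀.subgroupOf P₁) ⟨x, hx⟩ ↔ g * x * g⁻¹ * x⁻¹ ∈ N₀ := by
    intro x hx
    rw [theta_mk, ← mul_inv_eq_one, ← map_inv, ← map_mul, QuotientGroup.mk'_apply,
      QuotientGroup.eq_one_iff, Subgroup.mem_subgroupOf]
    rfl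
  constructor
  · intro h x hx
    rw [← key x hx, h, MulAut.one_apply]
  · intro h
    ext y
    obtain ⟨⟨x, hx⟩, rfl⟩ := QuotientGroup.mk'_surjective (N₀.subgroupOf P₁) y
    rw [MulAut.one_apply]
    exact (key x hx).mpr (h x hx)

/-- Abstract form of the theorem. -/
theorem abstract_main [Finite G] (hQ : IsPGroup p (P₁ ⧸ N₀.subgroupOf P₁))
    (hHH : ∀ g : G, (∀ x ∈ P₁, g * x * g⁻¹ * x⁻¹ ∈ N₀) → g ∈ P₁)
    (hmax : ∀ C : Subgroup G, C.Normal → (∀ g ∈ C, ∃ k : ℕ, g ^ p ^ k ∈ P₁) → C ≤ P₁) (g : G) :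
    (∀ x ∈ P₁, g * x * g⁻¹ * x⁻¹ ∈ ((frattini (P₁ ⧸ N₀.subgroupOf P₁)).comap
      (QuotientGroup.mk' (N₀.subgroupOf P₁))).map P₁.subtype) ↔ g ∈ P₁ := by
  rw [← theta_mem_iff]
  constructor
  · intro hg
    have hCn : ((frattiniTrivial (P₁ ⧸ N₀.subgroupOf P₁)).comap (theta N₀ P₁)).Normal :=
      Subgroup.Normal.comap inferInstance _
    apply hmax _ hCn _ hg
    intro c hc
    have hp := frattiniTrivial_isPGroup p hQ
    obtain ⟨k, hk⟩ := hp ⟨theta N₀ P₁ c, hc⟩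
    refine ⟨k, hHH _ ?_⟩
    rw [← theta_eq_one_iff, map_pow]
    exact congrArg Subtype.val hk
  · intro hg y
    obtain ⟨⟨x, hx⟩, rfl⟩ := QuotientGroup.mk'_surjective (N₀.subgroupOf P₁) y
    have h1 : theta N₀ P₁ g (QuotientGroup.mk' (N₀.subgroupOf P₁) ⟨x, hx⟩) *
        (QuotientGroup.mk' (N₀.subgroupOf P₁) ⟨x, hx⟩)⁻¹ =
        ⁅QuotientGroup.mk' (N₀.subgroupOf P₁) ⟨g, hg⟩,
          QuotientGroup.mk' (N₀.subgroupOf P₁) ⟨x, hx⟩⁆ := by
      rw [theta_mk, commutatorElement_def, ← map_mul, ← map_inv, ← map_mul, ← map_inv, ← map_mul]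
      congr 1
    rw [h1]
    apply commutator_le_frattini_of_isPGroup hQ
    exact Subgroup.commutator_mem_commutator (Subgroup.mem_top _) (Subgroup.mem_top _)

end main

/-- Let `G` be a finite `p`-solvable group, `N₀ = O_{p'}(G)`, `P₁ = O_{p',p}(G)`, and let `F ≤ P₁` be the preimage of the Frattini subgroup of `P₁/N₀`. Then an element `g` of `G` induces the identity on `P₁/F` by conjugation (that is, `g x g⁻¹ x⁻¹ ∈ F` for all `x ∈ P₁`) if and only if `g ∈ P₁`: the group `G/P₁` acts faithfully on `P₁/F`. -/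
theorem result {G : Type*} [Group G] [Finite G] {p : ℕ} [Fact p.Prime] (hG : Cfsg.IsPSolvable p G) (g : G) : (∀ x ∈ Cfsg.pPrimePCore p G, g * x * g⁻¹ * x⁻¹ ∈ ((frattini (↥(Cfsg.pPrimePCore p G) ⧸ (Cfsg.pPrimeCore p G).subgroupOf (Cfsg.pPrimePCore p G))).comap (QuotientGroup.mk' ((Cfsg.pPrimeCore p G).subgroupOf (Cfsg.pPrimePCore p G)))).map (Cfsg.pPrimePCore p G).subtype) ↔ g ∈ Cfsg.pPrimePCore p G := by
  have hP₁n : (pPrimePCore p G).Normal :=
    Subgroup.Normal.comap (Cfsg.pCore_normal p (G ⧸ pPrimeCore p G)) _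
  have hRp : IsPGroup p (pCore p (G ⧸ pPrimeCore p G)) := pCore_isPGroup p
  have hmemP₁ : ∀ x : G, x ∈ pPrimePCore p G ↔
      QuotientGroup.mk' (pPrimeCore p G) x ∈ pCore p (G ⧸ pPrimeCore p G) := fun x => Iff.rfl
  apply abstract_main p (pPrimeCore p G) (pPrimePCore p G)
  · -- the quotient is a p-group
    intro y
    obtain ⟨⟨x, hx⟩, rfl⟩ := QuotientGroup.mk'_surjective
      ((pPrimeCore p G).subgroupOf (pPrimePCore p G)) y
    obtain ⟨k, hk⟩ := hRp ⟨_, (hmemP₁ x).mp hx⟩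
    refine ⟨k, ?_⟩
    rw [← map_pow, QuotientGroup.mk'_apply, QuotientGroup.eq_one_iff, Subgroup.mem_subgroupOf]
    have h1 : (QuotientGroup.mk' (pPrimeCore p G) x) ^ p ^ k = 1 := congrArg Subtype.val hk
    rw [← map_pow, QuotientGroup.mk'_apply, QuotientGroup.eq_one_iff] at h1
    exact h1
  · -- Hall–Higman
    intro c hc
    rw [hmemP₁]
    have hsolq : IsPSolvable p (G ⧸ pPrimeCore p G) := isPSolvable_quotient p _ hG
    have hcoreq : pPrimeCore p (G ⧸ pPrimeCore p G) = ⊥ := pPrimeCore_quotient_pPrimeCore p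
    apply centralizer_pCore_le p hsolq hcoreq
    rw [Subgroup.mem_centralizer_iff]
    intro r hr
    obtain ⟨x, rfl⟩ := QuotientGroup.mk'_surjective (pPrimeCore p G) r
    have h1 := hc x ((hmemP₁ x).mpr hr)
    rw [← QuotientGroup.eq_one_iff, QuotientGroup.mk_mul, QuotientGroup.mk_mul,
      QuotientGroup.mk_mul, QuotientGroup.mk_inv, QuotientGroup.mk_inv] at h1
    have h2 : ((c : G ⧸ pPrimeCore p G)) * (x : G ⧸ pPrimeCore p G) =
        (x : G ⧸ pPrimeCore p G) * (c : G ⧸ pPrimeCore p G) := by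
      have := mul_inv_eq_one.mp h1
      exact mul_inv_eq_iff_eq_mul.mp this
    exact h2.symm
  · -- maximality of O_p
    intro C hCn hC c hc
    rw [hmemP₁]
    have hCbar : (C.map (QuotientGroup.mk' (pPrimeCore p G))).Normal :=
      hCn.map _ (QuotientGroup.mk'_surjective _)
    have hCp : IsPGroup p (C.map (QuotientGroup.mk' (pPrimeCore p G))) := by
      rintro ⟨_, ⟨c', hc', rfl⟩⟩
      obtain ⟨k, hk⟩ := hC c' hc'
      obtain ⟨m, hm⟩ := hRp ⟨_, (hmemP₁ _).mp hk⟩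
      refine ⟨k + m, Subtype.ext ?_⟩
      have h1 : (QuotientGroup.mk' (pPrimeCore p G) (c' ^ p ^ k)) ^ p ^ m = 1 :=
        congrArg Subtype.val hm
      rw [map_pow, ← pow_mul, ← pow_add] at h1
      exact h1
    exact le_pCore p _ hCp ⟨c, hc, rfl⟩

end Cfsg.Agent.S4218
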