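import Cfsg.Statements.S5185
import Cfsg.Agent.Lib.Helper48_SPE
import Mathlib

set_option autoImplicit false
universe u
open Cfsg

namespace Cfsg.Agent.S5185

open Matrix

variable {p : ℕ} [Fact p.Prime]

/-- upper unitriangular -/
def upp (t : ZMod p) : Matrix.SpecialLinearGroup (Fin 2) (ZMod p) :=
  ⟨!![1, t; 0, 1], by simp [Matrix.det_fin_two]⟩

/-- lower unitriangular -/
def low (t : ZMod p) : Matrix.SpecialLinearGroup (Fin 2) (ZMod p) :=
  ⟨!![1, 0; t, 1], by simp [Matrix.det_fin_two]⟩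

@[simp] theorem coe_upp (t : ZMod p) : (upp t : Matrix (Fin 2) (Fin 2) (ZMod p)) = !![1, t; 0, 1] := rfl
@[simp] theorem coe_low (t : ZMod p) : (low t : Matrix (Fin 2) (Fin 2) (ZMod p)) = !![1, 0; t, 1] := rfl

theorem upp_add (s t : ZMod p) : upp (s + t) = upp s * upp t := by
  apply Matrix.SpecialLinearGroup.ext
  intro i j
  rw [Matrix.SpecialLinearGroup.coe_mul]
  fin_cases i <;> fin_cases j <;> simp [Matrix.mul_apply, Fin.sum_univ_two, add_comm]

theorem low_add (s t : ZMod p) : low (s + t) = low s * low t := by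
  apply Matrix.SpecialLinearGroup.ext
  intro i j
  rw [Matrix.SpecialLinearGroup.coe_mul]
  fin_cases i <;> fin_cases j <;> simp [Matrix.mul_apply, Fin.sum_univ_two, add_comm]

theorem upp_zero : upp (0 : ZMod p) = 1 := by
  apply Matrix.SpecialLinearGroup.ext
  intro i j
  rw [Matrix.SpecialLinearGroup.coe_one]
  fin_cases i <;> fin_cases j <;> simp

theorem low_zero : low (0 : ZMod p) = 1 := by
  apply Matrix.SpecialLinearGroup.ext
  intro i j
  rw [Matrix.SpecialLinearGroup.coe_one]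
  fin_cases i <;> fin_cases j <;> simp

theorem upp_natCast (n : ℕ) : upp ((n : ℕ) : ZMod p) = upp 1 ^ n := by
  induction n with
  | zero => simp [upp_zero]
  | succ n ih => rw [Nat.cast_succ, upp_add, ih, pow_succ]

theorem low_natCast (n : ℕ) : low ((n : ℕ) : ZMod p) = low 1 ^ n := by
  induction n with
  | zero => simp [low_zero]
  | succ n ih => rw [Nat.cast_succ, low_add, ih, pow_succ]

theorem upp_eq_pow (t : ZMod p) : upp t = upp 1 ^ t.val := by
  rw [← upp_natCast, ZMod.natCast_zmod_val]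

theorem low_eq_pow (t : ZMod p) : low t = low 1 ^ t.val := by
  rw [← low_natCast, ZMod.natCast_zmod_val]

theorem upp_one_mem : upp (1 : ZMod p) ∈
    Subgroup.closure ({upp 1, low 1} : Set (Matrix.SpecialLinearGroup (Fin 2) (ZMod p))) :=
  Subgroup.subset_closure (Set.mem_insert _ _)

theorem low_one_mem : low (1 : ZMod p) ∈
    Subgroup.closure ({upp 1, low 1} : Set (Matrix.SpecialLinearGroup (Fin 2) (ZMod p))) :=
  Subgroup.subset_closure (Set.mem_insert_of_mem _ (Set.mem_singleton _))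

theorem upp_mem (t : ZMod p) : upp t ∈
    Subgroup.closure ({upp 1, low 1} : Set (Matrix.SpecialLinearGroup (Fin 2) (ZMod p))) := by
  have h := Subgroup.pow_mem (Subgroup.closure ({upp 1, low 1} : Set (Matrix.SpecialLinearGroup (Fin 2) (ZMod p))))
    upp_one_mem t.val
  rw [← upp_eq_pow] at h
  exact h

theorem low_mem (t : ZMod p) : low t ∈
    Subgroup.closure ({upp 1, low 1} : Set (Matrix.SpecialLinearGroup (Fin 2) (ZMod p))) := by
  have h := Subgroup.pow_mem (Subgroup.closure ({upp 1, low 1} : Set (Matrix.SpecialLinearGroup (Fin 2) (ZMod p))))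
    low_one_mem t.val
  rw [← low_eq_pow] at h
  exact h

theorem mem_closure_of_ne (M : Matrix.SpecialLinearGroup (Fin 2) (ZMod p)) (hc : M 1 0 ≠ 0) :
    M ∈ Subgroup.closure ({upp 1, low 1} : Set (Matrix.SpecialLinearGroup (Fin 2) (ZMod p))) := by
  have hdet : M 0 0 * M 1 1 - M 0 1 * M 1 0 = 1 := by
    have := M.2
    rw [Matrix.det_fin_two] at this
    exact this
  have hM : M = upp ((M 0 0 - 1) / M 1 0) * low (M 1 0) * upp ((M 1 1 - 1) / M 1 0) := by
    apply Matrix.SpecialLinearGroup.ext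
    intro i j
    rw [Matrix.SpecialLinearGroup.coe_mul, Matrix.SpecialLinearGroup.coe_mul]
    fin_cases i <;> fin_cases j
    · simp [Matrix.mul_apply, Fin.sum_univ_two]
      field_simp
      ring
    · simp [Matrix.mul_apply, Fin.sum_univ_two]
      field_simp
      linear_combination (-1 : ZMod p) * hdet
    · simp [Matrix.mul_apply, Fin.sum_univ_two]
    · simp [Matrix.mul_apply, Fin.sum_univ_two]
      field_simp
      ring
  rw [hM]
  exact Subgroup.mul_mem _ (Subgroup.mul_mem _ (upp_mem _) (low_mem _)) (upp_mem _)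

theorem mem_closure (M : Matrix.SpecialLinearGroup (Fin 2) (ZMod p)) :
    M ∈ Subgroup.closure ({upp 1, low 1} : Set (Matrix.SpecialLinearGroup (Fin 2) (ZMod p))) := by
  by_cases hc : M 1 0 = 0
  · have h1 : (low (1 : ZMod p) * M : Matrix.SpecialLinearGroup (Fin 2) (ZMod p)) 1 0 ≠ 0 := by
      have hdet := M.2
      rw [Matrix.det_fin_two, hc] at hdet
      rw [Matrix.SpecialLinearGroup.coe_mul]
      simp [Matrix.mul_apply, Fin.sum_univ_two, hc]
      intro h0
      rw [h0] at hdet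
      simp at hdet
    have h2 := mem_closure_of_ne (low 1 * M) h1
    have h3 : M = (low 1)⁻¹ * (low 1 * M) := by group
    rw [h3]
    exact Subgroup.mul_mem _ (Subgroup.inv_mem _ low_one_mem) h2
  · exact mem_closure_of_ne M hc


variable {p : ℕ} [Fact p.Prime] {V : Type*} [CommGroup V]

/-- the coordinate homomorphism attached to two elements of order dividing `p` -/
noncomputable def coordHom (e1 e2 : V) (h1 : e1 ^ p = 1) (h2 : e2 ^ p = 1) :
    Multiplicative (Fin 2 → ZMod p) →* V where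
  toFun v := e1 ^ (Multiplicative.toAdd v 0).val * e2 ^ (Multiplicative.toAdd v 1).val
  map_one' := by simp
  map_mul' v w := by
    simp only [toAdd_mul, Pi.add_apply]
    rw [ZMod.val_add, ZMod.val_add, ← pow_eq_pow_mod _ h1, ← pow_eq_pow_mod _ h2, pow_add, pow_add]
    exact mul_mul_mul_comm _ _ _ _

theorem coordHom_apply (e1 e2 : V) (h1 : e1 ^ p = 1) (h2 : e2 ^ p = 1) (v : Multiplicative (Fin 2 → ZMod p)) :
    coordHom e1 e2 h1 h2 v = e1 ^ (Multiplicative.toAdd v 0).val * e2 ^ (Multiplicative.toAdd v 1).val := rfl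

theorem coordHom_natCast (e1 e2 : V) (h1 : e1 ^ p = 1) (h2 : e2 ^ p = 1) (a b : ℕ) :
    coordHom e1 e2 h1 h2 (Multiplicative.ofAdd ![(a : ZMod p), (b : ZMod p)]) = e1 ^ a * e2 ^ b := by
  rw [coordHom_apply]
  simp only [toAdd_ofAdd, Matrix.cons_val_zero, Matrix.cons_val_one, ZMod.val_natCast]
  rw [← pow_eq_pow_mod _ h1, ← pow_eq_pow_mod _ h2]

theorem pow_eq_of_natCast_eq {x : V} (hx : x ^ p = 1) {a b : ℕ} (hab : (a : ZMod p) = b) : x ^ a = x ^ b := by
  rw [pow_eq_pow_mod a hx, pow_eq_pow_mod b hx, (ZMod.natCast_eq_natCast_iff' a b p).1 hab]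

theorem coordHom_injective (e1 e2 : V) (h1 : e1 ^ p = 1) (h2 : e2 ^ p = 1) (hne : e1 ≠ 1)
    (hnot : e2 ∉ Subgroup.zpowers e1) : Function.Injective (coordHom e1 e2 h1 h2) := by
  rw [injective_iff_map_eq_one]
  intro v hv
  rw [coordHom_apply] at hv
  set a := Multiplicative.toAdd v 0 with ha
  set b := Multiplicative.toAdd v 1 with hb
  have hb0 : b = 0 := by
    by_contra hb0
    apply hnot
    have h3 : e2 ^ b.val = (e1 ^ a.val)⁻¹ := by
      rw [eq_inv_iff_mul_eq_one, mul_comm]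
      exact hv
    have h4 : ((b.val * (b⁻¹).val : ℕ) : ZMod p) = ((1 : ℕ) : ZMod p) := by
      push_cast
      rw [ZMod.natCast_zmod_val, ZMod.natCast_zmod_val]
      exact mul_inv_cancel₀ hb0
    have h5 : e2 = (e2 ^ b.val) ^ (b⁻¹).val := by
      rw [← pow_mul, pow_eq_of_natCast_eq h2 h4, pow_one]
    rw [h5, h3]
    exact Subgroup.pow_mem _ (Subgroup.inv_mem _ (Subgroup.pow_mem _ (Subgroup.mem_zpowers e1) _)) _
  have ha0 : a = 0 := by
    rw [hb0, ZMod.val_zero, pow_zero, mul_one] at hv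
    have h3 : orderOf e1 = p := by
      have h4 : orderOf e1 ∣ p := orderOf_dvd_of_pow_eq_one h1
      rcases (Nat.dvd_prime (Fact.out : p.Prime)).1 h4 with h | h
      · exact absurd (orderOf_eq_one_iff.1 h) hne
      · exact h
    have h4 : p ∣ a.val := by
      have h6 := orderOf_dvd_of_pow_eq_one hv
      rwa [h3] at h6
    have h5 : a.val = 0 := Nat.eq_zero_of_dvd_of_lt h4 (ZMod.val_lt a)
    exact (ZMod.val_eq_zero a).1 h5
  have : Multiplicative.toAdd v = 0 := by
    funext i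
    fin_cases i
    · exact ha0
    · exact hb0
  exact this

theorem coordHom_bijective (hcard : Nat.card V = p ^ 2) (e1 e2 : V) (h1 : e1 ^ p = 1) (h2 : e2 ^ p = 1)
    (hne : e1 ≠ 1) (hnot : e2 ∉ Subgroup.zpowers e1) : Function.Bijective (coordHom e1 e2 h1 h2) := by
  have : Finite V := Nat.finite_of_card_ne_zero (by rw [hcard]; exact pow_ne_zero _ (Fact.out : p.Prime).ne_zero)
  refine Function.Injective.bijective_of_nat_card_le (coordHom_injective e1 e2 h1 h2 hne hnot) ?_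
  rw [hcard]
  have : Nat.card (Multiplicative (Fin 2 → ZMod p)) = p ^ 2 := by
    rw [Nat.card_congr (Multiplicative.toAdd : Multiplicative (Fin 2 → ZMod p) ≃ (Fin 2 → ZMod p))]
    rw [Nat.card_eq_fintype_card, Fintype.card_fun, ZMod.card, Fintype.card_fin]
  rw [this]

/-- the coordinate isomorphism -/
noncomputable def coordEquiv (hcard : Nat.card V = p ^ 2) (e1 e2 : V) (h1 : e1 ^ p = 1) (h2 : e2 ^ p = 1)
    (hne : e1 ≠ 1) (hnot : e2 ∉ Subgroup.zpowers e1) : Multiplicative (Fin 2 → ZMod p) ≃* V :=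
  MulEquiv.ofBijective (coordHom e1 e2 h1 h2) (coordHom_bijective hcard e1 e2 h1 h2 hne hnot)

theorem exists_coord (hcard : Nat.card V = p ^ 2) (e1 e2 : V) (h1 : e1 ^ p = 1) (h2 : e2 ^ p = 1)
    (hne : e1 ≠ 1) (hnot : e2 ∉ Subgroup.zpowers e1) (x : V) : ∃ a b : ℕ, x = e1 ^ a * e2 ^ b := by
  obtain ⟨v, hv⟩ := (coordHom_bijective hcard e1 e2 h1 h2 hne hnot).2 x
  exact ⟨_, _, hv.symm⟩

theorem coord_unique (e1 e2 : V) (h1 : e1 ^ p = 1) (h2 : e2 ^ p = 1)
    (hne : e1 ≠ 1) (hnot : e2 ∉ Subgroup.zpowers e1) {a b a' b' : ℕ} (h : e1 ^ a * e2 ^ b = e1 ^ a' * e2 ^ b') :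
    (a : ZMod p) = a' ∧ (b : ZMod p) = b' := by
  rw [← coordHom_natCast e1 e2 h1 h2, ← coordHom_natCast e1 e2 h1 h2] at h
  have h3 := coordHom_injective e1 e2 h1 h2 hne hnot h
  have h4 : (![(a : ZMod p), (b : ZMod p)] : Fin 2 → ZMod p) = ![(a' : ZMod p), (b' : ZMod p)] := h3
  exact ⟨congrFun h4 0, congrFun h4 1⟩

/-- automorphisms agreeing on the two generators agree -/
theorem aut_ext (hcard : Nat.card V = p ^ 2) (e1 e2 : V) (h1 : e1 ^ p = 1) (h2 : e2 ^ p = 1)
    (hne : e1 ≠ 1) (hnot : e2 ∉ Subgroup.zpowers e1) {α β : MulAut V} (he1 : α e1 = β e1) (he2 : α e2 = β e2) :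
    α = β := by
  ext x
  obtain ⟨a, b, rfl⟩ := exists_coord hcard e1 e2 h1 h2 hne hnot x
  rw [map_mul, map_mul, map_pow, map_pow, map_pow, map_pow, he1, he2]

/-- the representation of `SL₂(p)` attached to coordinates -/
noncomputable def rho (c : Multiplicative (Fin 2 → ZMod p) ≃* V) :
    Matrix.SpecialLinearGroup (Fin 2) (ZMod p) →* MulAut V where
  toFun M := (c.symm.trans (AddEquiv.toMultiplicative (Matrix.SpecialLinearGroup.toLin' M).toAddEquiv)).trans c
  map_one' := by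
    ext x
    simp
  map_mul' M N := by
    ext x
    simp [Matrix.SpecialLinearGroup.toLin'_apply]

theorem rho_apply (c : Multiplicative (Fin 2 → ZMod p) ≃* V) (M : Matrix.SpecialLinearGroup (Fin 2) (ZMod p))
    (x : V) : rho c M x = c (Multiplicative.ofAdd ((M : Matrix (Fin 2) (Fin 2) (ZMod p)) *ᵥ
      Multiplicative.toAdd (c.symm x))) := rfl

theorem rho_injective (c : Multiplicative (Fin 2 → ZMod p) ≃* V) : Function.Injective (rho c) := by
  rw [injective_iff_map_eq_one]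
  intro M hM
  apply Matrix.SpecialLinearGroup.toLin'_injective
  ext1 v
  have h1 : rho c M (c (Multiplicative.ofAdd v)) = c (Multiplicative.ofAdd v) := by rw [hM]; rfl
  rw [rho_apply, c.symm_apply_apply, toAdd_ofAdd] at h1
  have h2 := Multiplicative.ofAdd.injective (c.injective h1)
  rw [Matrix.SpecialLinearGroup.toLin'_apply, Matrix.toLin'_apply, h2]
  simp


/-! ### images of the generators -/

theorem coordEquiv_apply (hcard : Nat.card V = p ^ 2) (e1 e2 : V) (h1 : e1 ^ p = 1) (h2 : e2 ^ p = 1)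
    (hne : e1 ≠ 1) (hnot : e2 ∉ Subgroup.zpowers e1) (v : Multiplicative (Fin 2 → ZMod p)) :
    coordEquiv hcard e1 e2 h1 h2 hne hnot v =
      e1 ^ (Multiplicative.toAdd v 0).val * e2 ^ (Multiplicative.toAdd v 1).val := rfl

theorem coordEquiv_symm_e1 (hcard : Nat.card V = p ^ 2) (e1 e2 : V) (h1 : e1 ^ p = 1) (h2 : e2 ^ p = 1)
    (hne : e1 ≠ 1) (hnot : e2 ∉ Subgroup.zpowers e1) :
    (coordEquiv hcard e1 e2 h1 h2 hne hnot).symm e1 = Multiplicative.ofAdd ![1, 0] := by
  rw [MulEquiv.symm_apply_eq, coordEquiv_apply]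
  simp [ZMod.val_one]

theorem coordEquiv_symm_e2 (hcard : Nat.card V = p ^ 2) (e1 e2 : V) (h1 : e1 ^ p = 1) (h2 : e2 ^ p = 1)
    (hne : e1 ≠ 1) (hnot : e2 ∉ Subgroup.zpowers e1) :
    (coordEquiv hcard e1 e2 h1 h2 hne hnot).symm e2 = Multiplicative.ofAdd ![0, 1] := by
  rw [MulEquiv.symm_apply_eq, coordEquiv_apply]
  simp [ZMod.val_one]

theorem rho_e1 (hcard : Nat.card V = p ^ 2) (e1 e2 : V) (h1 : e1 ^ p = 1) (h2 : e2 ^ p = 1)
    (hne : e1 ≠ 1) (hnot : e2 ∉ Subgroup.zpowers e1) (M : Matrix.SpecialLinearGroup (Fin 2) (ZMod p)) :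
    rho (coordEquiv hcard e1 e2 h1 h2 hne hnot) M e1 = e1 ^ (M 0 0).val * e2 ^ (M 1 0).val := by
  rw [rho_apply, coordEquiv_symm_e1, coordEquiv_apply]
  simp

theorem rho_e2 (hcard : Nat.card V = p ^ 2) (e1 e2 : V) (h1 : e1 ^ p = 1) (h2 : e2 ^ p = 1)
    (hne : e1 ≠ 1) (hnot : e2 ∉ Subgroup.zpowers e1) (M : Matrix.SpecialLinearGroup (Fin 2) (ZMod p)) :
    rho (coordEquiv hcard e1 e2 h1 h2 hne hnot) M e2 = e1 ^ (M 0 1).val * e2 ^ (M 1 1).val := by
  rw [rho_apply, coordEquiv_symm_e2, coordEquiv_apply]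
  simp

/-! ### the unipotent lemma -/

theorem fix_zpowers {β : MulAut V} {e : V} (hβ : β e = e) {t : V} (ht : t ∈ Subgroup.zpowers e) : β t = t := by
  obtain ⟨k, rfl⟩ := Subgroup.mem_zpowers_iff.1 ht
  rw [map_zpow, hβ]

theorem pow_apply_of_fix {β : MulAut V} {t h : V} (hβt : β t = t) (hβh : β h = t * h) (n : ℕ) :
    (β ^ n) h = t ^ n * h := by
  induction n with
  | zero => simp
  | succ n ih =>
    rw [pow_succ', MulAut.mul_apply, ih, map_mul, map_pow, hβt, hβh, pow_succ, mul_assoc]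

theorem exists_pow_of_fix (hcard : Nat.card V = p ^ 2) (e h : V) (h1 : e ^ p = 1) (h2 : h ^ p = 1)
    (hne : e ≠ 1) (hnot : h ∉ Subgroup.zpowers e) (β : MulAut V) (hβe : β e = e) {k : ℕ}
    (hβ : β ^ (p ^ k) = 1) : ∃ a : ℕ, β h = e ^ a * h := by
  obtain ⟨a, d, had⟩ := exists_coord hcard e h h1 h2 hne hnot (β h)
  have key : ∀ n : ℕ, ∃ an : ℕ, (β ^ n) h = e ^ an * h ^ (d ^ n) := by
    intro n
    induction n with
    | zero => exact ⟨0, by simp⟩
    | succ n ih =>
      obtain ⟨an, han⟩ := ih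
      refine ⟨an + a * d ^ n, ?_⟩
      rw [pow_succ', MulAut.mul_apply, han, map_mul, map_pow, map_pow, hβe, had, mul_pow, ← pow_mul, ← pow_mul,
        pow_add, pow_succ' d n, mul_assoc]
  obtain ⟨a', ha'⟩ := key (p ^ k)
  rw [hβ, MulAut.one_apply] at ha'
  have h3 : e ^ 0 * h ^ 1 = e ^ a' * h ^ (d ^ (p ^ k)) := by simpa using ha'
  have h4 := (coord_unique e h h1 h2 hne hnot h3).2
  have h5 : (d : ZMod p) = 1 := by
    have h6 : ((d : ZMod p)) ^ (p ^ k) = 1 := by
      have := h4.symm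
      push_cast at this
      exact this
    rwa [ZMod.pow_card_pow] at h6
  refine ⟨a, ?_⟩
  rw [had]
  congr 1
  have h7 : ((d : ℕ) : ZMod p) = ((1 : ℕ) : ZMod p) := by rw [h5]; simp
  rw [pow_eq_of_natCast_eq h2 h7, pow_one]

/-- the unipotent automorphisms attached to the flag `1 < ⟨e⟩ < V` -/
def stabB (e h : V) : Subgroup (MulAut V) where
  carrier := {β | β e = e ∧ β h * h⁻¹ ∈ Subgroup.zpowers e}
  one_mem' := ⟨rfl, by simp⟩
  mul_mem' := by
    rintro β γ ⟨hβ, hβh⟩ ⟨hγ, hγh⟩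
    refine ⟨by rw [MulAut.mul_apply, hγ, hβ], ?_⟩
    have h1 : γ h = (γ h * h⁻¹) * h := by simp
    have h2 : (β * γ) h * h⁻¹ = (γ h * h⁻¹) * (β h * h⁻¹) := by
      rw [MulAut.mul_apply, h1, map_mul, fix_zpowers hβ hγh]
      simp [mul_assoc]
    rw [h2]
    exact Subgroup.mul_mem _ hγh hβh
  inv_mem' := by
    rintro β ⟨hβ, hβh⟩
    have hβi : β⁻¹ e = e := by
      calc β⁻¹ e = β⁻¹ (β e) := by rw [hβ]
        _ = e := MulAut.inv_apply_self _ _ _
    refine ⟨hβi, ?_⟩
    have h1 : β h = (β h * h⁻¹) * h := by simp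
    have h2 : h = (β h * h⁻¹) * β⁻¹ h := by
      calc h = β⁻¹ (β h) := (MulAut.inv_apply_self _ _ _).symm
        _ = β⁻¹ ((β h * h⁻¹) * h) := by rw [← h1]
        _ = (β h * h⁻¹) * β⁻¹ h := by rw [map_mul, fix_zpowers hβi hβh]
    have h3 : β⁻¹ h * h⁻¹ = (β h * h⁻¹)⁻¹ := by
      rw [eq_inv_iff_mul_eq_one]
      calc β⁻¹ h * h⁻¹ * (β h * h⁻¹) = ((β h * h⁻¹) * β⁻¹ h) * h⁻¹ := by
            rw [mul_comm (β⁻¹ h * h⁻¹), ← mul_assoc]
        _ = h * h⁻¹ := by rw [← h2]
        _ = 1 := mul_inv_cancel h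
    rw [h3]
    exact Subgroup.inv_mem _ hβh

theorem mem_stabB {e h : V} {β : MulAut V} : β ∈ stabB e h ↔ β e = e ∧ β h * h⁻¹ ∈ Subgroup.zpowers e :=
  Iff.rfl

theorem pow_eq_one_of_mem_stabB (hcard : Nat.card V = p ^ 2) (hexp : ∀ x : V, x ^ p = 1) (e h : V)
    (hne : e ≠ 1) (hnot : h ∉ Subgroup.zpowers e) {β : MulAut V} (hβ : β ∈ stabB e h) : β ^ p = 1 := by
  obtain ⟨hβe, hβh⟩ := hβ
  apply aut_ext hcard e h (hexp e) (hexp h) hne hnot
  · rw [MulAut.one_apply]
    have : ∀ n : ℕ, (β ^ n) e = e := by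
      intro n
      induction n with
      | zero => simp
      | succ n ih => rw [pow_succ', MulAut.mul_apply, ih, hβe]
    exact this p
  · rw [MulAut.one_apply]
    have h1 : β h = (β h * h⁻¹) * h := by simp
    rw [pow_apply_of_fix (fix_zpowers hβe hβh) h1, hexp, one_mul]

theorem isPGroup_stabB (hcard : Nat.card V = p ^ 2) (hexp : ∀ x : V, x ^ p = 1) (e h : V)
    (hne : e ≠ 1) (hnot : h ∉ Subgroup.zpowers e) : IsPGroup p (stabB e h) := by
  intro β
  refine ⟨1, ?_⟩
  apply Subtype.ext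
  rw [pow_one, Subgroup.coe_pow, pow_eq_one_of_mem_stabB hcard hexp e h hne hnot β.2]
  rfl

theorem exists_fixed (hcard : Nat.card V = p ^ 2) (Q : Subgroup (MulAut V)) (hQ : IsPGroup p Q) :
    ∃ e : V, e ≠ 1 ∧ ∀ β ∈ Q, β e = e := by
  have : Finite V := Nat.finite_of_card_ne_zero (by rw [hcard]; exact pow_ne_zero _ (Fact.out : p.Prime).ne_zero)
  have h1 : (1 : V) ∈ MulAction.fixedPoints Q V := by
    intro β
    exact map_one (β : MulAut V)
  obtain ⟨b, hb, hne⟩ := hQ.exists_fixed_point_of_prime_dvd_card_of_fixed_point (α := V)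
    (by rw [hcard]; exact dvd_pow_self p two_ne_zero) h1
  exact ⟨b, fun h => hne h.symm, fun β hβ => hb ⟨β, hβ⟩⟩


/-! ### the main lemma -/

theorem orderOf_eq_of_pow (x : V) (hx : x ^ p = 1) (hne : x ≠ 1) : orderOf x = p := by
  have h4 : orderOf x ∣ p := orderOf_dvd_of_pow_eq_one hx
  rcases (Nat.dvd_prime (Fact.out : p.Prime)).1 h4 with h | h
  · exact absurd (orderOf_eq_one_iff.1 h) hne
  · exact h

theorem zpowers_eq_of_mem [Finite V] {x y : V} (hx : x ^ p = 1) (hy : y ^ p = 1) (hx1 : x ≠ 1) (hy1 : y ≠ 1)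
    (h : y ∈ Subgroup.zpowers x) : Subgroup.zpowers y = Subgroup.zpowers x := by
  apply Subgroup.eq_of_le_of_card_ge (Subgroup.zpowers_le.2 h)
  rw [Nat.card_zpowers, Nat.card_zpowers, orderOf_eq_of_pow x hx hx1, orderOf_eq_of_pow y hy hy1]

theorem mem_zpowers_symm [Finite V] {x y : V} (hx : x ^ p = 1) (hy : y ^ p = 1) (hx1 : x ≠ 1) (hy1 : y ≠ 1)
    (h : y ∈ Subgroup.zpowers x) : x ∈ Subgroup.zpowers y := by
  rw [zpowers_eq_of_mem hx hy hx1 hy1 h]
  exact Subgroup.mem_zpowers x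

theorem exists_not_mem_zpowers (hcard : Nat.card V = p ^ 2) (e : V) (he : e ^ p = 1) (hne : e ≠ 1) :
    ∃ h : V, h ∉ Subgroup.zpowers e := by
  by_contra hall
  simp only [not_exists, not_not] at hall
  have h1 : Subgroup.zpowers e = ⊤ := (Subgroup.eq_top_iff' _).2 hall
  have h2 : Nat.card (Subgroup.zpowers e) = p := by
    rw [Nat.card_zpowers, orderOf_eq_of_pow e he hne]
  rw [h1, Subgroup.card_top, hcard] at h2
  have hp := (Fact.out : p.Prime).one_lt
  nlinarith

/-- A unipotent element of order prime to nothing: some power has the standard transvection form. -/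
theorem exists_pow_transvection (hcard : Nat.card V = p ^ 2) (hexp : ∀ x : V, x ^ p = 1) (e h : V)
    (hne : e ≠ 1) (hnot : h ∉ Subgroup.zpowers e) (β : MulAut V) (hβ1 : β ≠ 1) (hβe : β e = e) {k : ℕ}
    (hβ : β ^ (p ^ k) = 1) : ∃ m : ℕ, (β ^ m) e = e ∧ (β ^ m) h = e * h := by
  obtain ⟨a, ha⟩ := exists_pow_of_fix hcard e h (hexp e) (hexp h) hne hnot β hβe hβ
  have ha0 : (a : ZMod p) ≠ 0 := by
    intro h0
    apply hβ1
    apply aut_ext hcard e h (hexp e) (hexp h) hne hnot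
    · rw [hβe, MulAut.one_apply]
    · have h1 : ((a : ℕ) : ZMod p) = ((0 : ℕ) : ZMod p) := by rw [h0]; simp
      rw [ha, pow_eq_of_natCast_eq (hexp e) h1, pow_zero, one_mul, MulAut.one_apply]
  refine ⟨((a : ZMod p)⁻¹).val, ?_, ?_⟩
  · have : ∀ n : ℕ, (β ^ n) e = e := by
      intro n
      induction n with
      | zero => simp
      | succ n ih => rw [pow_succ', MulAut.mul_apply, ih, hβe]
    exact this _
  · have hβt : β (e ^ a) = e ^ a := by rw [map_pow, hβe]
    rw [pow_apply_of_fix hβt ha, ← pow_mul]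
    congr 1
    have h1 : ((a * ((a : ZMod p)⁻¹).val : ℕ) : ZMod p) = ((1 : ℕ) : ZMod p) := by
      push_cast
      rw [ZMod.natCast_zmod_val]
      exact mul_inv_cancel₀ ha0
    rw [pow_eq_of_natCast_eq (hexp e) h1, pow_one]

theorem exists_sl2 (hcard : Nat.card V = p ^ 2) (hexp : ∀ x : V, x ^ p = 1) (A : Subgroup (MulAut V))
    (Q1 Q2 : Sylow p A) (hne : Q1 ≠ Q2) (hQ1 : (Q1 : Subgroup A) ≠ ⊥) (hQ2 : (Q2 : Subgroup A) ≠ ⊥) :
    ∃ K : Subgroup A, Nonempty (K ≃* Matrix.SpecialLinearGroup (Fin 2) (ZMod p)) := by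
  have hfin : Finite V :=
    Nat.finite_of_card_ne_zero (by rw [hcard]; exact pow_ne_zero _ (Fact.out : p.Prime).ne_zero)
  -- fixed points
  have hfixed : ∀ Q : Sylow p A, ∃ e : V, e ≠ 1 ∧ ∀ β : A, β ∈ (Q : Subgroup A) → (β : MulAut V) e = e := by
    intro Q
    obtain ⟨e, he, hf⟩ := exists_fixed hcard ((Q : Subgroup A).map A.subtype) (Q.2.map _)
    exact ⟨e, he, fun β hβ => hf _ ⟨β, hβ, rfl⟩⟩
  have hpow : ∀ (Q : Sylow p A) (β : A), β ∈ (Q : Subgroup A) → ∃ k : ℕ, (β : MulAut V) ^ (p ^ k) = 1 := by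
    intro Q β hβ
    obtain ⟨k, hk⟩ := Q.2 ⟨β, hβ⟩
    refine ⟨k, ?_⟩
    have h1 : (β : A) ^ (p ^ k) = 1 := by
      have := congrArg (fun x : (Q : Subgroup A) => (x : A)) hk
      simpa using this
    have h2 := congrArg (fun x : A => (x : MulAut V)) h1
    simpa using h2
  have hkey : ∀ (Q : Sylow p A) (e h : V), e ≠ 1 → h ∉ Subgroup.zpowers e →
      (∀ β : A, β ∈ (Q : Subgroup A) → (β : MulAut V) e = e) →
      (Q : Subgroup A) = (stabB e h).subgroupOf A := by
    intro Q e h hne hnot hf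
    have hle : (Q : Subgroup A) ≤ (stabB e h).subgroupOf A := by
      intro β hβ
      rw [Subgroup.mem_subgroupOf, mem_stabB]
      obtain ⟨k, hk⟩ := hpow Q β hβ
      obtain ⟨a, ha⟩ := exists_pow_of_fix hcard e h (hexp e) (hexp h) hne hnot β (hf β hβ) hk
      refine ⟨hf β hβ, ?_⟩
      rw [ha, mul_inv_cancel_right]
      exact Subgroup.pow_mem _ (Subgroup.mem_zpowers e) a
    have hP : IsPGroup p ((stabB e h).subgroupOf A) :=
      (isPGroup_stabB hcard hexp e h hne hnot).comap_of_injective _ Subtype.coe_injective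
    exact (Q.is_maximal' hP hle).symm
  obtain ⟨e1, he1, hf1⟩ := hfixed Q1
  obtain ⟨e2, he2, hf2⟩ := hfixed Q2
  have hnot : e2 ∉ Subgroup.zpowers e1 := by
    intro hmem
    obtain ⟨h, hh⟩ := exists_not_mem_zpowers hcard e1 (hexp e1) he1
    have h1 : e1 ∈ Subgroup.zpowers e2 := mem_zpowers_symm (hexp e1) (hexp e2) he1 he2 hmem
    have hf2' : ∀ β : A, β ∈ (Q2 : Subgroup A) → (β : MulAut V) e1 = e1 :=
      fun β hβ => fix_zpowers (hf2 β hβ) h1
    apply hne
    apply Sylow.ext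
    rw [hkey Q1 e1 h he1 hh hf1, hkey Q2 e1 h he1 hh hf2']
  have hnot' : e1 ∉ Subgroup.zpowers e2 := fun hmem =>
    hnot (mem_zpowers_symm (hexp e2) (hexp e1) he2 he1 hmem)
  -- the two unipotent elements
  obtain ⟨u1, hu1⟩ := (Subgroup.ne_bot_iff_exists_ne_one).1 hQ1
  obtain ⟨u2, hu2⟩ := (Subgroup.ne_bot_iff_exists_ne_one).1 hQ2
  have hu1' : ((u1 : A) : MulAut V) ≠ 1 := by
    intro h
    apply hu1
    apply Subtype.ext
    apply Subtype.ext
    exact h
  have hu2' : ((u2 : A) : MulAut V) ≠ 1 := by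
    intro h
    apply hu2
    apply Subtype.ext
    apply Subtype.ext
    exact h
  obtain ⟨k1, hk1⟩ := hpow Q1 u1 u1.2
  obtain ⟨k2, hk2⟩ := hpow Q2 u2 u2.2
  obtain ⟨m1, hm1e, hm1h⟩ := exists_pow_transvection hcard hexp e1 e2 he1 hnot _ hu1' (hf1 u1 u1.2) hk1
  obtain ⟨m2, hm2e, hm2h⟩ := exists_pow_transvection hcard hexp e2 e1 he2 hnot' _ hu2' (hf2 u2 u2.2) hk2
  set c := coordEquiv hcard e1 e2 (hexp e1) (hexp e2) he1 hnot with hc
  have hupp : rho c (upp 1) = ((u1 : A) : MulAut V) ^ m1 := by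
    apply aut_ext hcard e1 e2 (hexp e1) (hexp e2) he1 hnot
    · rw [hm1e, hc, rho_e1]
      simp [ZMod.val_one]
    · rw [hm1h, hc, rho_e2]
      simp [ZMod.val_one]
  have hlow : rho c (low 1) = ((u2 : A) : MulAut V) ^ m2 := by
    apply aut_ext hcard e1 e2 (hexp e1) (hexp e2) he1 hnot
    · rw [hm2h, hc, rho_e1]
      simp [ZMod.val_one, mul_comm]
    · rw [hm2e, hc, rho_e2]
      simp [ZMod.val_one]
  have hrange : ∀ M : Matrix.SpecialLinearGroup (Fin 2) (ZMod p), rho c M ∈ A := by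
    intro M
    have h1 : Subgroup.closure ({upp 1, low 1} : Set (Matrix.SpecialLinearGroup (Fin 2) (ZMod p))) ≤
        A.comap (rho c) := by
      rw [Subgroup.closure_le]
      intro x hx
      rcases hx with rfl | hx
      · show rho c (upp 1) ∈ A
        rw [hupp]
        exact A.pow_mem (u1 : A).2 _
      · rw [Set.mem_singleton_iff] at hx
        subst hx
        show rho c (low 1) ∈ A
        rw [hlow]
        exact A.pow_mem (u2 : A).2 _
    exact h1 (mem_closure M)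
  let ψ : Matrix.SpecialLinearGroup (Fin 2) (ZMod p) →* A := (rho c).codRestrict A hrange
  have hψ : Function.Injective ψ := by
    intro M N hMN
    apply rho_injective c
    exact congrArg Subtype.val hMN
  exact ⟨ψ.range, ⟨(MonoidHom.ofInjective hψ).symm⟩⟩


/-! ### the statement -/

/-- Let F be a saturated fusion system over a finite p-group S and H an essential subgroup of order p². Then H is elementary abelian (isomorphic to C_p × C_p) and its F-automorphism group contains a subgroup isomorphic to SL(2,p). -/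
theorem result {Ω : Type u} [Group Ω] {S : Subgroup Ω} [Finite S] (p : ℕ) [Fact p.Prime] (hS : IsPGroup p S)
    (F : Cfsg.FusionSystem S) (hF : F.IsSaturated p) (H : Subgroup Ω) (hH : F.IsEssential p H) (hcard : Nat.card H = p ^ 2) :
    Cfsg.IsElementaryAbelian p H ∧
      ∃ K : Subgroup ↥(F.autGroup H), Nonempty (↥K ≃* Matrix.SpecialLinearGroup (Fin 2) (ZMod p)) := by
  have hp := (Fact.out : p.Prime)
  have hmc : IsMulCommutative H := IsPGroup.isMulCommutative_of_card_eq_prime_sq (p := p) hcard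
  have hcomm : ∀ a b : H, a * b = b * a := fun a b => hmc.is_comm.comm a b
  have hfin : Finite H := Nat.finite_of_card_ne_zero (by rw [hcard]; exact pow_ne_zero _ hp.ne_zero)
  -- the inner automorphisms are trivial
  have hInn : (Inn H).subgroupOf (F.autGroup H) = ⊥ := by
    rw [Subgroup.eq_bot_iff_forall]
    intro x hx
    rw [Subgroup.mem_subgroupOf] at hx
    obtain ⟨g, hg⟩ := hx
    apply Subtype.ext
    rw [← hg]
    ext y
    simp only [MulAut.conj_apply, Subgroup.coe_one, MulAut.one_apply]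
    rw [hcomm g y, mul_inv_cancel_right]
  obtain ⟨hN, E, hE⟩ := hH.2.2
  have := hN
  obtain ⟨hdvd, hEtop, ⟨P, hPE⟩, hnorm⟩ := Cfsg.Agent.Lib.Helper48_SPE.spe_of_isStronglyPEmbedded hE
  have hPne : (P : Subgroup (↥(F.autGroup H) ⧸ (Inn H).subgroupOf (F.autGroup H))) ≠ ⊥ :=
    P.ne_bot_of_dvd_card hdvd
  have hPnn : ¬ (P : Subgroup (↥(F.autGroup H) ⧸ (Inn H).subgroupOf (F.autGroup H))).Normal := by
    intro hn
    apply hEtop
    have h1 := hnorm P P.2 hPne hPE
    rw [Subgroup.normalizer_eq_top] at h1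
    exact top_le_iff.1 h1
  -- pull back to `Aut_F(H)`
  have hker : IsPGroup p (QuotientGroup.mk' ((Inn H).subgroupOf (F.autGroup H))).ker := by
    rw [QuotientGroup.ker_mk', hInn]
    exact IsPGroup.of_bot
  have hsurj : Function.Surjective (QuotientGroup.mk' ((Inn H).subgroupOf (F.autGroup H))) :=
    QuotientGroup.mk'_surjective _
  have hrange : (P : Subgroup (↥(F.autGroup H) ⧸ (Inn H).subgroupOf (F.autGroup H))) ≤
      (QuotientGroup.mk' ((Inn H).subgroupOf (F.autGroup H))).range := by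
    rw [MonoidHom.range_eq_top.2 hsurj]
    exact le_top
  have hQnn : ¬ ((P.comapOfKerIsPGroup _ hker hrange : Sylow p (F.autGroup H)) :
      Subgroup (F.autGroup H)).Normal := by
    intro hn
    apply hPnn
    have h1 := Sylow.coe_comapOfKerIsPGroup P _ hker hrange
    have h2 : (P : Subgroup (↥(F.autGroup H) ⧸ (Inn H).subgroupOf (F.autGroup H))) =
        ((P.comapOfKerIsPGroup _ hker hrange : Sylow p (F.autGroup H)) : Subgroup (F.autGroup H)).map
          (QuotientGroup.mk' ((Inn H).subgroupOf (F.autGroup H))) := by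
      rw [h1, Subgroup.map_comap_eq_self_of_surjective hsurj]
    rw [h2]
    exact hn.map _ hsurj
  set Q : Sylow p (F.autGroup H) := P.comapOfKerIsPGroup _ hker hrange with hQ
  obtain ⟨Q2, hQ2⟩ : ∃ Q2 : Sylow p (F.autGroup H), Q2 ≠ Q := by
    by_contra hall
    simp only [not_exists, not_not] at hall
    have : Subsingleton (Sylow p (F.autGroup H)) := ⟨fun a b => (hall a).trans (hall b).symm⟩
    exact hQnn (Sylow.normal_of_subsingleton Q)
  have hdvdA : p ∣ Nat.card (F.autGroup H) := by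
    rw [Subgroup.card_eq_card_quotient_mul_card_subgroup ((Inn H).subgroupOf (F.autGroup H))]
    exact dvd_mul_of_dvd_left hdvd _
  -- exponent `p`
  have hexp : ∀ x : H, x ^ p = 1 := by
    by_contra hne
    simp only [not_forall] at hne
    obtain ⟨a, ha⟩ := hne
    have h1 : orderOf a ∣ p ^ 2 := by
      rw [← hcard]
      exact orderOf_dvd_natCard a
    obtain ⟨k, hk2, hk⟩ := (Nat.dvd_prime_pow hp).1 h1
    have hk' : k = 2 := by
      by_contra hk'
      have hk1 : k ≤ 1 := by omega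
      apply ha
      have : orderOf a ∣ p := by
        rw [hk]
        exact (pow_dvd_pow p hk1).trans (by rw [pow_one])
      exact orderOf_dvd_iff_pow_eq_one.1 this
    have hcyc : IsCyclic H := isCyclic_of_orderOf_eq_card a (by rw [hk, hk', hcard])
    apply hQnn
    refine ⟨fun n hn g => ?_⟩
    have h2 : g * n * g⁻¹ = n := by
      apply Subtype.ext
      apply (IsCyclic.mulAutMulEquiv H).injective
      simp only [Subgroup.coe_mul, Subgroup.coe_inv, map_mul, map_inv]
      rw [mul_comm, inv_mul_cancel_left]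
    rw [h2]
    exact hn
  refine ⟨⟨⟨⟨fun a b => hcomm a b⟩⟩, fun a ha => ?_⟩, ?_⟩
  · have := congrArg Subtype.val (hexp ⟨a, ha⟩)
    simpa using this
  · letI : CommGroup H := { (inferInstance : Group H) with mul_comm := hcomm }
    exact exists_sl2 (V := H) hcard hexp (F.autGroup H) Q Q2 (Ne.symm hQ2) (Q.ne_bot_of_dvd_card hdvdA)
      (Q2.ne_bot_of_dvd_card hdvdA)

end Cfsg.Agent.S5185
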