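import Cfsg.Statements.S0093
import Cfsg.Agent.Lib.Helper1_Frattini
import Cfsg.Agent.Lib.Helper32_PGroup

set_option autoImplicit false
open Cfsg

namespace Cfsg.Agent.S0093

open Subgroup
open scoped commutatorElement

/-- `Ω₁(Z(Q))`: the central elements of order dividing `p`. -/
def omegaCenter (p : ℕ) (Q : Type*) [Group Q] : Subgroup Q where
  carrier := {y | y ∈ center Q ∧ y ^ p = 1}
  one_mem' := ⟨one_mem _, one_pow _⟩
  mul_mem' := by
    rintro a b ⟨ha, ha'⟩ ⟨hb, hb'⟩
    refine ⟨mul_mem ha hb, ?_⟩
    have hc : Commute a b := (mem_center_iff.mp ha b).symm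
    rw [hc.mul_pow, ha', hb', one_mul]
  inv_mem' := by
    rintro a ⟨ha, ha'⟩
    exact ⟨inv_mem ha, by rw [inv_pow, ha', inv_one]⟩

theorem mem_omegaCenter {p : ℕ} {Q : Type*} [Group Q] {y : Q} :
    y ∈ omegaCenter p Q ↔ y ∈ center Q ∧ y ^ p = 1 := Iff.rfl

instance omegaCenter_characteristic (p : ℕ) (Q : Type*) [Group Q] :
    (omegaCenter p Q).Characteristic := by
  rw [characteristic_iff_le_comap]
  intro φ y hy
  rw [mem_comap, mem_omegaCenter]
  rw [mem_omegaCenter] at hy
  refine ⟨?_, ?_⟩
  · have h := (characteristic_iff_le_comap.mp (centerCharacteristic (G := Q))) φ hy.1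
    exact h
  · show φ y ^ p = 1
    rw [← map_pow, hy.2, map_one]

/-- Every finite p-group has a critical subgroup: a characteristic subgroup H whose Frattini subgroup and whose commutator with the whole group lie in the centre of H, and whose centralizer is contained in H. -/
theorem result {P : Type*} [Group P] [Finite P] {p : ℕ} [Fact p.Prime] (hP : IsPGroup p P) : ∃ H : Subgroup P, H.Characteristic ∧ (frattini H).map H.subtype ≤ Subgroup.centralizer (H : Set P) ∧ ⁅H, (⊤ : Subgroup P)⁆ ≤ H ⊓ Subgroup.centralizer (H : Set P) ∧ Subgroup.centralizer (H : Set P) ≤ H := by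
  classical
  have hpp : p.Prime := Fact.out
  -- a maximal characteristic abelian subgroup
  let S := {M : Subgroup P // M.Characteristic ∧ ∀ a ∈ M, ∀ b ∈ M, a * b = b * a}
  have hSne : Nonempty S := ⟨⟨⊥, botCharacteristic, by
    intro a ha b hb
    rw [mem_bot] at ha hb
    rw [ha, hb]⟩⟩
  obtain ⟨⟨M, hMchar, hMcomm⟩, hMmax⟩ := Finite.exists_max (fun M : S => Nat.card M.1)
  have hmax : ∀ N : Subgroup P, N.Characteristic → (∀ a ∈ N, ∀ b ∈ N, a * b = b * a) → M ≤ N →
      N = M := by
    intro N hN1 hN2 hMN
    have h := hMmax ⟨N, hN1, hN2⟩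
    exact (eq_of_le_of_card_ge hMN h).symm
  have hMnormal : M.Normal := normal_of_characteristic M
  set C : Subgroup P := centralizer (M : Set P) with hCdef
  have hCchar : C.Characteristic := characteristic_centralizer
  have hMC : M ≤ C := by
    intro m hm
    rw [hCdef, mem_centralizer_iff]
    intro a ha
    exact hMcomm a ha m hm
  set π := QuotientGroup.mk' M with hπ
  have hπsurj : Function.Surjective π := QuotientGroup.mk'_surjective M
  have hkerπ : π.ker = M := QuotientGroup.ker_mk' M
  have hKchar : ((omegaCenter p (P ⧸ M)).comap π).Characteristic :=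
    Subgroup.Characteristic.comap_quotient_mk (omegaCenter_characteristic p (P ⧸ M))
  set H : Subgroup P := C ⊓ (omegaCenter p (P ⧸ M)).comap π with hHdef
  have hHchar : H.Characteristic := characteristic_inf
  have hHmem : ∀ x, x ∈ H ↔ x ∈ C ∧ π x ∈ center (P ⧸ M) ∧ π x ^ p = 1 := by
    intro x
    rw [hHdef, mem_inf, mem_comap, mem_omegaCenter]
  have hMH : M ≤ H := by
    intro m hm
    rw [hHmem]
    have h1 : π m = 1 := by
      rw [← MonoidHom.mem_ker, hkerπ]; exact hm
    refine ⟨hMC hm, ?_, ?_⟩
    · rw [h1]; exact one_mem _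
    · rw [h1, one_pow]
  have hHC : H ≤ C := inf_le_left
  -- `M ≤ C_P(H)`
  have hMcH : M ≤ centralizer (H : Set P) := by
    intro m hm
    rw [mem_centralizer_iff]
    intro h hh
    have := hHC hh
    rw [hCdef, mem_centralizer_iff] at this
    exact (this m hm).symm
  -- the centre of `H` is `M`
  have hZH : H ⊓ centralizer (H : Set P) = M := by
    have hchar2 : (centralizer (H : Set P)).Characteristic := characteristic_centralizer
    apply hmax
    · exact characteristic_inf
    · intro a ha b hb
      have h1 := (mem_inf.mp ha).1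
      have h2 := (mem_inf.mp hb).2
      rw [mem_centralizer_iff] at h2
      exact h2 a h1
    · exact le_inf hMH hMcH
  -- commutators `⁅h, g⁆` lie in `M`
  have hcommM : ∀ h ∈ H, ∀ g : P, ⁅h, g⁆ ∈ M := by
    intro h hh g
    have h1 := ((hHmem h).mp hh).2.1
    rw [← hkerπ, MonoidHom.mem_ker, map_commutatorElement]
    rw [commutatorElement_eq_one_iff_commute]
    exact (mem_center_iff.mp h1 (π g)).symm
  have hpowM : ∀ h ∈ H, h ^ p ∈ M := by
    intro h hh
    have h1 := ((hHmem h).mp hh).2.2
    rw [← hkerπ, MonoidHom.mem_ker, map_pow]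
    exact h1
  refine ⟨H, hHchar, ?_, ?_, ?_⟩
  · -- the Frattini subgroup
    have hfr : frattini H ≤ M.subgroupOf H := by
      apply Cfsg.Agent.Lib.Helper1_Frattini.frattini_le_of_elementary_quotient (p := p)
      · rw [_root_.commutator_def, Subgroup.commutator_le]
        intro x _ y _
        rw [mem_subgroupOf]
        exact hcommM x x.2 y
      · intro x
        rw [mem_subgroupOf]
        exact hpowM x x.2
    rintro - ⟨y, hy, rfl⟩
    exact hMcH (mem_subgroupOf.mp (hfr hy))
  · rw [Subgroup.commutator_le]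
    intro h hh g _
    rw [hZH]
    exact hcommM h hh g
  · -- `C_P(H) ≤ H`
    set Q' : Subgroup P := centralizer (H : Set P) with hQ'
    have hQ'char : Q'.Characteristic := characteristic_centralizer
    have hQ'normal : Q'.Normal := normal_of_characteristic Q'
    have hQ'C : Q' ≤ C := centralizer_le hMH
    have hNnormal : (Q'.map π).Normal := hQ'normal.map π hπsurj
    have hPG : IsPGroup p (P ⧸ M) := hP.to_quotient M
    have hbot : Q'.map π = ⊥ := by
      by_contra hne
      obtain ⟨z, hzN, hzc, hz1⟩ :=
        Cfsg.Agent.Lib.Helper32_PGroup.exists_mem_center_of_normal hPG (Q'.map π) hne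
      -- an element of order `p`
      obtain ⟨k, hk⟩ := hPG.exists_orderOf_eq_pow z
      have hk0 : k ≠ 0 := by
        rintro rfl
        rw [pow_zero, orderOf_eq_one_iff] at hk
        exact hz1 hk
      obtain ⟨j, rfl⟩ := Nat.exists_eq_succ_of_ne_zero hk0
      set y := z ^ (p ^ j) with hy
      have hyp : y ^ p = 1 := by
        rw [hy, ← pow_mul, ← pow_succ, ← hk]
        exact pow_orderOf_eq_one z
      have hy1 : y ≠ 1 := by
        intro h1
        rw [hy] at h1
        have hdvd := orderOf_dvd_of_pow_eq_one h1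
        rw [hk] at hdvd
        have := (Nat.pow_dvd_pow_iff_le_right hpp.one_lt).mp hdvd
        omega
      have hyN : y ∈ Q'.map π := pow_mem hzN _
      have hyc : y ∈ center (P ⧸ M) := pow_mem hzc _
      obtain ⟨x, hxQ', hxy⟩ := hyN
      have hxH : x ∈ H := by
        rw [hHmem, hxy]
        exact ⟨hQ'C hxQ', hyc, hyp⟩
      have hxM : x ∈ M := by
        rw [← hZH]
        exact mem_inf.mpr ⟨hxH, hxQ'⟩
      apply hy1
      rw [← hxy, ← MonoidHom.mem_ker, hkerπ]
      exact hxM
    intro x hx
    have h1 : π x = 1 := by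
      have : π x ∈ Q'.map π := mem_map_of_mem π hx
      rw [hbot, mem_bot] at this
      exact this
    rw [← MonoidHom.mem_ker, hkerπ] at h1
    exact hMH h1

end Cfsg.Agent.S0093
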