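import Cfsg.Statements.S0640
import Cfsg.Agent.S0093
import Cfsg.Agent.S0121
import Cfsg.Agent.Lib.Helper20_AutOmega
import Cfsg.Agent.Lib.Helper20_RankTwoOmega
-- import your own Cfsg.Agent.* helpers here

set_option autoImplicit false
open Cfsg

namespace Cfsg.Agent.S0640

open Cfsg.Agent.Lib.Helper20_PGroupOdd Cfsg.Agent.Lib.Helper20_AutOmega
  Cfsg.Agent.Lib.Helper20_RankTwoOmega Cfsg.Agent.Lib.Helper20_ClassThree

open scoped commutatorElement

/-- arithmetic: a prime `q ≠ p` dividing `p ^ i - p ^ j` with `j < i ≤ j + 2` divides `p² - 1` -/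
theorem dvd_sq_sub_one {p q : ℕ} (hp : p.Prime) (hq : q.Prime) (hqp : q ≠ p) {i j : ℕ}
    (hji : j < i) (hij : i ≤ j + 2) (h : q ∣ p ^ i - p ^ j) : q ∣ p ^ 2 - 1 := by
  obtain ⟨d, rfl⟩ : ∃ d, i = j + d := ⟨i - j, by omega⟩
  have h1 : p ^ (j + d) - p ^ j = p ^ j * (p ^ d - 1) := by
    rw [pow_add, Nat.mul_sub, mul_one]
  rw [h1] at h
  have hcop : Nat.Coprime q (p ^ j) :=
    Nat.Coprime.pow_right j ((Nat.coprime_primes hq hp).mpr hqp)
  have h2 : q ∣ p ^ d - 1 := hcop.dvd_of_dvd_mul_left h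
  have hd : d = 1 ∨ d = 2 := by omega
  rcases hd with rfl | rfl
  · have h3 : p ^ 1 - 1 ∣ p ^ 2 - 1 := by
      refine ⟨p + 1, ?_⟩
      have : 1 ≤ p := hp.pos
      zify [this, Nat.one_le_pow 2 p hp.pos, Nat.one_le_pow 1 p hp.pos]
      ring
    exact h2.trans h3
  · exact h2

theorem lt_of_dvd_sq_sub_one {p q : ℕ} (hp : p.Prime) (hp2 : p ≠ 2) (hq : q.Prime) (hqp : q ≠ p)
    (h : q ∣ p ^ 2 - 1) : q < p := by
  have h1 : p ^ 2 - 1 = (p - 1) * (p + 1) := by
    have : 1 ≤ p := hp.pos
    zify [this, Nat.one_le_pow 2 p hp.pos]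
    ring
  rw [h1] at h
  have hp3 : 3 ≤ p := by
    have := hp.two_le
    omega
  rcases (Nat.Prime.dvd_mul hq).mp h with h2 | h2
  · have := Nat.le_of_dvd (by omega) h2
    omega
  · have hle := Nat.le_of_dvd (by omega) h2
    have hne : q ≠ p + 1 := by
      intro h3
      rcases hp.eq_two_or_odd' with h4 | h4
      · exact hp2 h4
      · have heven : Even (p + 1) := h4.add_one
        rw [← h3] at heven
        have := (Nat.Prime.even_iff hq).mp heven
        omega
    omega

/-- For odd p, a prime q ≠ p dividing the order of the automorphism group of a p-group of rank at most 2 divides p² - 1 and is less than p. -/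
theorem result {R : Type*} [Group R] [Finite R] {p : ℕ} [Fact p.Prime] (hp : p ≠ 2) (hR : IsPGroup p R) (hrk : Cfsg.PRankLE p 2 R) (q : ℕ) (hq : q.Prime) (hqp : q ≠ p) (hdvd : q ∣ Nat.card (MulAut R)) : q ∣ p ^ 2 - 1 ∧ q < p := by
  have hpP : p.Prime := Fact.out
  have : Fact q.Prime := ⟨hq⟩
  suffices hmain : q ∣ p ^ 2 - 1 from ⟨hmain, lt_of_dvd_sq_sub_one hpP hp hq hqp hmain⟩
  have hqcop : Nat.Coprime q p := (Nat.coprime_primes hq hpP).mpr hqp
  have hrk' : ∀ E : Subgroup R, (∀ a ∈ E, ∀ b ∈ E, a * b = b * a) → (∀ a ∈ E, a ^ p = 1) →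
      Nat.card E ≤ p ^ 2 := fun E hEc hEe =>
    hrk E ⟨⟨fun a b => Subtype.ext (hEc a.1 a.2 b.1 b.2)⟩⟩ hEe
  -- an automorphism of order `q`
  obtain ⟨a, ha⟩ := exists_prime_orderOf_dvd_card' q hdvd
  have haq : a ^ q = 1 := by rw [← ha]; exact pow_orderOf_eq_one a
  have ha1 : a ≠ 1 := by
    intro h
    rw [h, orderOf_one] at ha
    exact hq.one_lt.ne ha
  -- a critical subgroup
  obtain ⟨H, hHchar, h1, h2, h3⟩ := Cfsg.Agent.S0093.result hR
  have hHn : H.Normal := inferInstance
  have hHmap : H.map a.toMonoidHom = H := Subgroup.characteristic_iff_map_eq.mp hHchar a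
  have hcentH : ∀ z : ↥H, (z : R) ∈ Subgroup.centralizer (H : Set R) → z ∈ Subgroup.center ↥H := by
    intro z hz
    rw [Subgroup.mem_center_iff]
    intro g
    apply Subtype.ext
    exact (Subgroup.mem_centralizer_iff.mp hz) (g : R) g.2
  have hHcomm : ∀ x y : ↥H, x * y * x⁻¹ * y⁻¹ ∈ Subgroup.center ↥H := by
    intro x y
    apply hcentH
    have h4 : ⁅(x : R), (y : R)⁆ ∈ ⁅H, (⊤ : Subgroup R)⁆ :=
      Subgroup.commutator_mem_commutator x.2 (Subgroup.mem_top _)
    have h5 := (h2 h4).2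
    rw [commutatorElement_def] at h5
    simpa using h5
  have hHpow : ∀ x : ↥H, x ^ p ∈ Subgroup.center ↥H := by
    intro x
    apply hcentH
    apply h1
    exact Subgroup.mem_map_of_mem _
      (Cfsg.Agent.Lib.Helper1_Frattini.pow_mem_frattini_of_isPGroup (hR.to_subgroup H) x)
  -- some element of order `p` of `H` is moved by `a`
  obtain ⟨x₀, hx₀H, hx₀p, hx₀a⟩ : ∃ x ∈ H, x ^ p = 1 ∧ a x ≠ x := by
    by_contra hall
    push Not at hall
    apply ha1
    apply Cfsg.Agent.S0121.result hR H hHchar h1 h2 h3 a (by rw [ha]; exact hqcop)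
    have haH : restrictAut a H hHmap = 1 := by
      apply omega_faithful hp (hR.to_subgroup H) hHcomm hHpow
      · exact Nat.Coprime.coprime_dvd_left (orderOf_restrictAut_dvd a H hHmap)
          (by rw [ha]; exact hqcop)
      · intro x hx
        apply Subtype.ext
        rw [restrictAut_apply]
        apply hall x.1 x.2
        have := congrArg Subtype.val hx
        simpa using this
    intro x hx
    have h4 : restrictAut a H hHmap ⟨x, hx⟩ = ⟨x, hx⟩ := by rw [haH]; rfl
    have h5 := congrArg Subtype.val h4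
    rwa [restrictAut_apply] at h5
  -- `N = Ω₁(H)`
  set N : Subgroup R := Subgroup.closure {x : R | x ∈ H ∧ x ^ p = 1} with hNdef
  have hNH : ∀ g ∈ N, g ∈ H ∧ g ^ p = 1 := by
    intro g hg
    induction hg using Subgroup.closure_induction with
    | mem x hx => exact hx
    | one => exact ⟨H.one_mem, one_pow p⟩
    | mul x y _ _ hx hy =>
      refine ⟨H.mul_mem hx.1 hy.1, ?_⟩
      have h4 := mul_pow_of_central hpP hp hHcomm hHpow ⟨x, hx.1⟩ ⟨y, hy.1⟩
      have h5 := congrArg Subtype.val h4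
      simp only [Subgroup.coe_mul, Subgroup.coe_pow] at h5
      rw [h5, hx.2, hy.2, one_mul]
    | inv x _ hx => exact ⟨H.inv_mem hx.1, by rw [inv_pow, hx.2, inv_one]⟩
  have hNn : N.Normal := by
    constructor
    intro n hn g
    induction hn using Subgroup.closure_induction with
    | mem x hx =>
      apply Subgroup.subset_closure
      refine ⟨hHn.conj_mem x hx.1 g, ?_⟩
      rw [conj_pow, hx.2, mul_one, mul_inv_cancel]
    | one => simp [N.one_mem]
    | mul x y _ _ hx hy =>
      have : g * (x * y) * g⁻¹ = (g * x * g⁻¹) * (g * y * g⁻¹) := by group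
      rw [this]
      exact N.mul_mem hx hy
    | inv x _ hx =>
      have : g * x⁻¹ * g⁻¹ = (g * x * g⁻¹)⁻¹ := by group
      rw [this]
      exact N.inv_mem hx
  have hNexp : ∀ g ∈ N, g ^ p = 1 := fun g hg => (hNH g hg).2
  have hNcard : Nat.card N ≤ p ^ 3 := card_le_of_exp hp hR hrk' N hNexp
  have hamem : ∀ b : MulAut R, H.map b.toMonoidHom = H → ∀ g ∈ N, b g ∈ N := by
    intro b hb g hg
    induction hg using Subgroup.closure_induction with
    | mem x hx =>
      apply Subgroup.subset_closure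
      refine ⟨?_, ?_⟩
      · rw [← hb]
        exact Subgroup.mem_map_of_mem _ hx.1
      · rw [← map_pow, hx.2, map_one]
    | one => rw [map_one]; exact N.one_mem
    | mul x y _ _ hx hy => rw [map_mul]; exact N.mul_mem hx hy
    | inv x _ hx => rw [map_inv]; exact N.inv_mem hx
  have hNmap : N.map a.toMonoidHom = N := by
    apply le_antisymm
    · rintro _ ⟨g, hg, rfl⟩
      exact hamem a hHmap g hg
    · intro g hg
      refine ⟨a⁻¹ g, ?_, MulAut.apply_inv_self R a g⟩
      exact hamem a⁻¹ (Subgroup.characteristic_iff_map_eq.mp hHchar a⁻¹) g hg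
  set aN := restrictAut a N hNmap with haN
  have hx₀N : x₀ ∈ N := Subgroup.subset_closure ⟨hx₀H, hx₀p⟩
  have haN1 : aN ≠ 1 := by
    intro h
    apply hx₀a
    have h4 : aN ⟨x₀, hx₀N⟩ = ⟨x₀, hx₀N⟩ := by rw [h]; rfl
    have h5 := congrArg Subtype.val h4
    rwa [haN, restrictAut_apply] at h5
  have haNq : orderOf aN = q := by
    have h4 : orderOf aN ∣ q := orderOf_dvd_of_pow_eq_one (restrictAut_pow_eq_one a N hNmap haq)
    rcases (Nat.dvd_prime hq).mp h4 with h5 | h5
    · exact absurd (orderOf_eq_one_iff.mp h5) haN1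
    · exact h5
  have hcong := card_modEq_card_fixSub aN haNq
  have hNp : IsPGroup p N := hR.to_subgroup N
  obtain ⟨i, hi⟩ := IsPGroup.iff_card.mp hNp
  obtain ⟨j, hj⟩ := IsPGroup.iff_card.mp (hNp.to_subgroup (fixSub aN))
  have hi3 : i ≤ 3 := by
    rw [hi] at hNcard
    exact (Nat.pow_le_pow_iff_right hpP.one_lt).mp hNcard
  have hji : j < i := by
    have hlt : Nat.card (fixSub aN) < Nat.card N := by
      rcases (Subgroup.card_le_card_group (fixSub aN)).lt_or_eq with h | h
      · exact h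
      · exact absurd ((fixSub_eq_top_iff aN).mp (Subgroup.eq_top_of_card_eq _ h)) haN1
    rw [hi, hj] at hlt
    exact (Nat.pow_lt_pow_iff_right hpP.one_lt).mp hlt
  have hqdvd : q ∣ p ^ i - p ^ j := by
    rw [hi, hj] at hcong
    exact (Nat.modEq_iff_dvd' (Nat.pow_le_pow_right hpP.pos hji.le)).mp hcong.symm
  by_cases hcase : i ≤ j + 2
  · exact dvd_sq_sub_one hpP hq hqp hji hcase hqdvd
  -- remaining case: `i = 3`, `j = 0`; use the centre of `N`
  have hi3' : i = 3 := by omega
  have hj0 : j = 0 := by omega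
  have hfix_bot : ∀ x : ↥N, aN x = x → x = 1 := by
    intro x hx
    have h4 : Nat.card (fixSub aN) = 1 := by rw [hj, hj0, pow_zero]
    have h5 : fixSub aN = ⊥ := Subgroup.card_eq_one.mp h4
    have h6 : x ∈ fixSub aN := hx
    rw [h5] at h6
    exact Subgroup.mem_bot.mp h6
  set Z : Subgroup ↥N := Subgroup.center ↥N with hZ
  have hZmap : Z.map aN.toMonoidHom = Z := Subgroup.characteristic_iff_map_eq.mp inferInstance aN
  set aZ := restrictAut aN Z hZmap with haZ
  have hNnt : Nontrivial ↥N := ⟨⟨⟨x₀, hx₀N⟩, 1, fun h => by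
    have := congrArg Subtype.val h
    apply hx₀a
    simp only [Subgroup.coe_one] at this
    rw [this, map_one]⟩⟩
  have hZnt : Nontrivial ↥Z := hNp.center_nontrivial
  have haZfix : fixSub aZ = ⊥ := by
    rw [Subgroup.eq_bot_iff_forall]
    intro z hz
    have hz' : aZ z = z := hz
    have h4 := congrArg Subtype.val hz'
    rw [haZ, restrictAut_apply] at h4
    apply Subtype.ext
    exact hfix_bot _ h4
  have haZ1 : aZ ≠ 1 := by
    intro h
    have h4 : fixSub aZ = ⊤ := (fixSub_eq_top_iff aZ).mpr h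
    rw [haZfix] at h4
    exact bot_ne_top h4
  have haZq : orderOf aZ = q := by
    have h4 : orderOf aZ ∣ q :=
      orderOf_dvd_of_pow_eq_one (restrictAut_pow_eq_one aN Z hZmap
        (restrictAut_pow_eq_one a N hNmap haq))
    rcases (Nat.dvd_prime hq).mp h4 with h5 | h5
    · exact absurd (orderOf_eq_one_iff.mp h5) haZ1
    · exact h5
  have hcongZ := card_modEq_card_fixSub aZ haZq
  rw [haZfix, Subgroup.card_bot] at hcongZ
  obtain ⟨e, he⟩ := IsPGroup.iff_card.mp (hNp.to_subgroup Z)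
  have he2 : e ≤ 2 := by
    by_contra hgt
    push Not at hgt
    -- then `N` is abelian of order at least `p³`
    have hle : Nat.card Z ≤ Nat.card N := Subgroup.card_le_card_group Z
    rw [he, hi, hi3'] at hle
    have he3 : e = 3 := by
      have := (Nat.pow_le_pow_iff_right hpP.one_lt).mp hle
      omega
    have hZtop : Z = ⊤ := Subgroup.eq_top_of_card_eq Z (by rw [he, hi, he3, hi3'])
    have hNcomm : ∀ x ∈ N, ∀ y ∈ N, x * y = y * x := by
      intro x hx y hy
      have hxZ : (⟨x, hx⟩ : ↥N) ∈ Z := by rw [hZtop]; exact Subgroup.mem_top _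
      have := Subgroup.mem_center_iff.mp hxZ ⟨y, hy⟩
      exact (congrArg Subtype.val this).symm
    have := hrk' N hNcomm hNexp
    rw [hi, hi3'] at this
    have : p ^ 2 < p ^ 3 := Nat.pow_lt_pow_right hpP.one_lt (by norm_num)
    omega
  have he0 : 0 < e := by
    by_contra h0
    have h4 : e = 0 := by omega
    rw [h4, pow_zero] at he
    have : 1 < Nat.card ↥Z := Finite.one_lt_card
    omega
  have hqdvdZ : q ∣ p ^ e - p ^ 0 := by
    rw [he] at hcongZ
    rw [pow_zero]
    exact (Nat.modEq_iff_dvd' (Nat.one_le_pow e p hpP.pos)).mp hcongZ.symm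
  exact dvd_sq_sub_one hpP hq hqp he0 (by omega) hqdvdZ

end Cfsg.Agent.S0640
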