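import Cfsg.Statements.S1451
import Cfsg.Agent.Lib.Helper2_PRank
import Cfsg.Agent.Lib.Helper2_RankTwoAut
import Cfsg.Agent.Lib.Helper2_NilpCrit
import Cfsg.Agent.Lib.Helper1_Cores
import Cfsg.Agent.Lib.Helper1_Hall
import Cfsg.Agent.Lib.Helper24_CoprimeHall
import Cfsg.Agent.Lib.Helper46_Char
import Cfsg.Agent.Lib.Helper55_Fitting
import Cfsg.Agent.S0640
-- import your own Cfsg.Agent.* helpers here

set_option autoImplicit false
open Cfsg

namespace Cfsg.Agent.S1451

open Cfsg.Agent.Lib.Helper2_PRank Cfsg.Agent.Lib.Helper2_RankTwoAut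
  Cfsg.Agent.Lib.Helper2_NilpCrit Cfsg.Agent.Lib.Helper1_Cores

open scoped commutatorElement

section key

variable {G : Type*} [Group G] [Finite G]

/-- The action of an odd order group on `O_q(G)` when `F(G)` has rank at most `2`. -/
theorem action_on_pCore (hodd : Odd (Nat.card G))
    (hF : Cfsg.RankLE 2 ↥(Cfsg.fittingSubgroup G)) (q : ℕ) (hq : q.Prime) :
    (∀ x ∈ commutator G, ∃ k : ℕ, x ^ q ^ k ∈ Subgroup.centralizer (pCore q G : Set G)) ∧
      ∀ x : G, (∀ r : ℕ, r.Prime → r ∣ orderOf x → q < r) →
        x ∈ Subgroup.centralizer (pCore q G : Set G) := by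
  have : Fact q.Prime := ⟨hq⟩
  set R := pCore q G with hR
  have hRp : IsPGroup q ↥R := pCore_isPGroup q
  by_cases hq2 : q = 2
  · -- `O_2(G) = 1`
    have hbot : R = ⊥ := by
      obtain ⟨n, hn⟩ := IsPGroup.iff_card.mp hRp
      have h1 : Nat.card ↥R ∣ Nat.card G := Subgroup.card_subgroup_dvd_card R
      rcases Nat.eq_zero_or_pos n with h0 | hpos
      · rw [h0, pow_zero] at hn
        exact Subgroup.card_eq_one.mp hn
      · exfalso
        have h2 : 2 ∣ Nat.card G := by
          rw [hn, hq2] at h1
          exact (dvd_pow_self 2 hpos.ne').trans h1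
        exact (Nat.not_even_iff_odd.mpr hodd) (even_iff_two_dvd.mpr h2)
    have htop : Subgroup.centralizer (R : Set G) = ⊤ := by
      rw [hbot]
      simp
    rw [htop]
    exact ⟨fun x _ => ⟨0, Subgroup.mem_top _⟩, fun x _ => Subgroup.mem_top _⟩
  · have hRF : R ≤ Cfsg.fittingSubgroup G := pCore_le_fittingSubgroup q
    have hrk : Cfsg.PRankLE q 2 ↥R :=
      pRankLE_of_injective' q 2 (Subgroup.inclusion hRF) (Subgroup.inclusion_injective hRF)
        (hF q hq)
    let φ : G →* MulAut ↥R := MulAut.conjNormal
    have hker : φ.ker = Subgroup.centralizer (R : Set G) :=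
      Cfsg.Agent.Lib.Helper55_Fitting.conjNormal_ker R
    set 𝔄 : Subgroup (MulAut ↥R) := φ.range with h𝔄
    have h𝔄card : Nat.card ↥𝔄 ∣ Nat.card G := Subgroup.card_range_dvd φ
    have h𝔄odd : Odd (Nat.card ↥𝔄) := by
      rcases Nat.even_or_odd (Nat.card ↥𝔄) with he | ho
      · exfalso
        have : 2 ∣ Nat.card G := (even_iff_two_dvd.mp he).trans h𝔄card
        exact (Nat.not_even_iff_odd.mpr hodd) (even_iff_two_dvd.mpr this)
      · exact ho
    have hcomm : IsPGroup q ↥⁅𝔄, 𝔄⁆ := isPGroup_commutator_of_odd hq2 hRp hrk 𝔄 h𝔄odd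
    have hmapcomm : (commutator G).map φ = ⁅𝔄, 𝔄⁆ := by
      rw [commutator_def, Subgroup.map_commutator, ← MonoidHom.range_eq_map]
    constructor
    · intro x hx
      have h1 : φ x ∈ ⁅𝔄, 𝔄⁆ := by
        rw [← hmapcomm]
        exact Subgroup.mem_map_of_mem φ hx
      obtain ⟨k, hk⟩ := hcomm ⟨φ x, h1⟩
      have hk' : (φ x) ^ q ^ k = 1 := by
        have := congrArg Subtype.val hk
        simpa using this
      refine ⟨k, ?_⟩
      rw [← hker, MonoidHom.mem_ker, map_pow]
      exact hk'
    · intro x hx
      rw [← hker, MonoidHom.mem_ker]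
      by_contra hne
      have h1 : orderOf (φ x) ≠ 1 := fun h => hne (orderOf_eq_one_iff.mp h)
      obtain ⟨r, hr, hrd⟩ := Nat.exists_prime_and_dvd h1
      have h2 : r ∣ orderOf x := hrd.trans (orderOf_map_dvd φ x)
      have h3 : q < r := hx r hr h2
      have h4 : r ∣ Nat.card (MulAut ↥R) := hrd.trans (orderOf_dvd_natCard _)
      have h5 := (Cfsg.Agent.S0640.result hq2 hRp hrk r hr (by omega) h4).2
      omega

end key

/-- Let G be a solvable group of odd order such that G, or its Fitting subgroup, has no elementary abelian subgroup of order q ^ 3 for any prime q. Then G' is nilpotent; for every Sylow subgroup S of G, every characteristic subgroup T of S with T ≤ [S, S] is normal in G; and for every prime p, G has a characteristic subgroup that is a Hall subgroup for the set of primes greater than p. -/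
theorem result {G : Type*} [Group G] [Finite G] [Group.IsSolvable G] (hodd : Odd (Nat.card G)) (hr : Cfsg.RankLE 2 G ∨ Cfsg.RankLE 2 (Cfsg.fittingSubgroup G)) :
    Group.IsNilpotent ↥(commutator G) ∧
      (∀ (q : ℕ) [Fact q.Prime] (S : Sylow q G) (T : Subgroup ↥(S : Subgroup G)), T.Characteristic → T.map (S : Subgroup G).subtype ≤ ⁅(S : Subgroup G), (S : Subgroup G)⁆ →
        (T.map (S : Subgroup G).subtype).Normal) ∧
      ∀ p : ℕ, ∃ N : Subgroup G, N.Characteristic ∧ Cfsg.IsPiHall {q | q.Prime ∧ p < q} N := by
  have hF : Cfsg.RankLE 2 ↥(Cfsg.fittingSubgroup G) := by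
    rcases hr with h | h
    · intro q hq
      exact pRankLE_subgroup' (h q hq) _
    · exact h
  have hcF : Subgroup.centralizer (Cfsg.fittingSubgroup G : Set G) ≤ Cfsg.fittingSubgroup G :=
    Cfsg.Agent.Lib.Helper55_Fitting.centralizer_fittingSubgroup_le
  have hact := action_on_pCore hodd hF
  set D := commutator G with hD
  have hDn : D.Normal := by rw [hD]; infer_instance
  -- (a)
  have hnil : Group.IsNilpotent ↥D :=
    isNilpotent_of_acts_as_pGroups D (fun q hq => (hact q hq).1) hcF
  refine ⟨hnil, ?_, ?_⟩
  · -- (b)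
    intro q _ S T hT hTS
    have hqP : q.Prime := Fact.out
    set W := T.map (S : Subgroup G).subtype with hW
    have hWS : W ≤ (S : Subgroup G) := Subgroup.map_subtype_le _
    have hNS : Subgroup.normalizer ((S : Subgroup G) : Set G) ≤ Subgroup.normalizer (W : Set G) :=
      Cfsg.Agent.Lib.Helper46_Char.normalizer_le_normalizer_of_char (S : Subgroup G) T
    have hSN : (S : Subgroup G) ≤ Subgroup.normalizer (W : Set G) :=
      Subgroup.le_normalizer.trans hNS
    have hWD : W ≤ D := by
      refine hTS.trans ?_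
      rw [hD, commutator_def]
      exact Subgroup.commutator_mono le_top le_top
    have hWp : IsPGroup q ↥W := S.isPGroup'.to_le hWS
    have hWO : W ≤ pCore q G := le_pCore_of_le_nilpotent D hnil q W hWD hWp
    have hDN : D ≤ Subgroup.normalizer (W : Set G) := by
      apply le_of_forall_sylow_le
      intro r _ P
      have hrP : r.Prime := Fact.out
      obtain ⟨hPn, hPle⟩ := map_sylow_le_pCore D hnil r P
      by_cases hrq : r = q
      · subst hrq
        exact (hPle.trans (pCore_le_sylow r S)).trans hSN
      · -- `P` centralizes `O_q(G)`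
        have h1 : (P : Subgroup ↥D).map D.subtype ≤ Subgroup.centralizer (pCore q G : Set G) := by
          rintro _ ⟨x, hx, rfl⟩
          obtain ⟨j, hj⟩ := P.isPGroup' ⟨x, hx⟩
          have hj' : (x : G) ^ r ^ j = 1 := by
            have := congrArg (fun z : ↥(P : Subgroup ↥D) => ((z : ↥D) : G)) hj
            simpa using this
          obtain ⟨k, hk⟩ := (hact q hqP).1 x x.2
          have hcop : (q ^ k).Coprime (r ^ j) :=
            Nat.Coprime.pow _ _ ((Nat.coprime_primes hqP hrP).mpr (Ne.symm hrq))
          refine mem_of_pow_mem_of_coprime _ hcop hk ?_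
          rw [Subgroup.coe_subtype, hj']
          exact one_mem _
        have h2 : Subgroup.centralizer (pCore q G : Set G) ≤ Subgroup.centralizer (W : Set G) :=
          Subgroup.centralizer_le hWO
        exact (h1.trans h2).trans (Subgroup.centralizer_le_normalizer _)
    -- Frattini
    have hSDn : ((S : Subgroup G) ⊔ D).Normal := by
      apply Subgroup.Normal.of_commutator_le
      rw [← hD]
      exact le_sup_right
    have hfr : Subgroup.normalizer ((S : Subgroup G) : Set G) ⊔ ((S : Subgroup G) ⊔ D) = ⊤ :=
      Sylow.normalizer_sup_eq_top' S le_sup_left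
    have htop : Subgroup.normalizer (W : Set G) = ⊤ := by
      rw [eq_top_iff, ← hfr]
      exact sup_le hNS (sup_le hSN hDN)
    exact Subgroup.normalizer_eq_top_iff.mp htop
  · -- (c)
    intro p
    set π : Set ℕ := {q | q.Prime ∧ p < q} with hπ
    obtain ⟨m, n, hmn, hm, hn⟩ :=
      Cfsg.Agent.Lib.Helper24_CoprimeHall.pi_split (Nat.card G) Nat.card_pos π
    have hcop : m.Coprime n := Nat.coprime_of_dvd fun r hr hrm => hn r hr (hm r hr hrm)
    obtain ⟨H, hH⟩ := Cfsg.Agent.Lib.Helper1_Hall.hall_exists (G := G) m n hmn hcop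
    have hm0 : 0 < m := Nat.pos_of_ne_zero (by
      rintro rfl
      rw [zero_mul] at hmn
      exact Nat.card_pos.ne' hmn)
    have hidx : H.index = n := by
      have h1 := Subgroup.card_mul_index H
      rw [hH, hmn] at h1
      exact Nat.eq_of_mul_eq_mul_left hm0 h1
    have hcopH : (Nat.card ↥H).Coprime H.index := by rw [hH, hidx]; exact hcop
    -- `H` centralizes `O_q(G)` for `q ≤ p`
    have hHcent : ∀ q : ℕ, q.Prime → q ≤ p → H ≤ Subgroup.centralizer (pCore q G : Set G) := by
      intro q hq hqp x hx
      apply (hact q hq).2 x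
      intro r hr hrx
      have h1 : r ∣ m := by
        rw [← hH]
        have : orderOf (⟨x, hx⟩ : ↥H) = orderOf x := Subgroup.orderOf_mk x hx
        rw [← this] at hrx
        exact hrx.trans (orderOf_dvd_natCard _)
      have h2 := hm r hr h1
      exact lt_of_le_of_lt hqp h2.2
    -- the derived subgroup normalizes `H`
    have hDN : D ≤ Subgroup.normalizer (H : Set G) := by
      apply le_of_forall_sylow_le
      intro r _ P
      have hrP : r.Prime := Fact.out
      obtain ⟨hPn, hPle⟩ := map_sylow_le_pCore D hnil r P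
      by_cases hrp : r ≤ p
      · have h1 : pCore r G ≤ Subgroup.centralizer (H : Set G) :=
          Subgroup.le_centralizer_iff.mp (hHcent r hrP hrp)
        exact (hPle.trans h1).trans (Subgroup.centralizer_le_normalizer _)
      · have hrπ : r ∈ π := ⟨hrP, not_le.mp hrp⟩
        have h1 : (Nat.card ↥((P : Subgroup ↥D).map D.subtype)).Coprime H.index := by
          obtain ⟨j, hj⟩ := IsPGroup.iff_card.mp (P.isPGroup'.map D.subtype)
          rw [hj, hidx]
          apply Nat.Coprime.pow_left
          exact (Nat.Prime.coprime_iff_not_dvd hrP).mpr (hn r hrP hrπ)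
        have := hPn
        exact (le_of_normal_of_coprime_index H _ h1).trans Subgroup.le_normalizer
    have hNn : (Subgroup.normalizer (H : Set G)).Normal := by
      apply Subgroup.Normal.of_commutator_le
      rw [← hD]
      exact hDN
    have hHn : H.Normal := by
      refine ⟨fun x hx g => ?_⟩
      set K : Subgroup G := H.map (MulAut.conj g).toMonoidHom with hK
      have hKcard : Nat.card ↥K = Nat.card ↥H :=
        Subgroup.card_map_of_injective (MulAut.conj g).injective
      have hKN : K ≤ Subgroup.normalizer (H : Set G) := by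
        rintro _ ⟨y, hy, rfl⟩
        exact hNn.conj_mem y (Subgroup.le_normalizer hy) g
      have hKH : K ≤ H := le_of_le_normalizer_of_coprime_index H K hKN (by rw [hKcard]; exact hcopH)
      exact hKH ⟨x, hx, rfl⟩
    have hHchar : H.Characteristic := by
      rw [Subgroup.characteristic_iff_map_le]
      intro ϕ
      have hKcard : Nat.card ↥(H.map ϕ.toMonoidHom) = Nat.card ↥H :=
        Subgroup.card_map_of_injective ϕ.injective
      apply le_of_le_normalizer_of_coprime_index H _ _ (by rw [hKcard]; exact hcopH)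
      rw [Subgroup.normalizer_eq_top_iff.mpr hHn]
      exact le_top
    refine ⟨H, hHchar, ?_, ?_⟩
    · intro r hr hrH
      rw [hH] at hrH
      exact hm r hr hrH
    · intro r hr hrπ
      rw [hidx]
      exact hn r hr hrπ

end Cfsg.Agent.S1451
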