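import Cfsg.Statements.S1453
import Cfsg.Agent.Lib.Helper20_RankThreeSCN
import Cfsg.Agent.Lib.Helper20_ClassThree
import Cfsg.Agent.Lib.Helper20_Suzuki
-- import your own Cfsg.Agent.* helpers here

set_option autoImplicit false
open Cfsg

namespace Cfsg.Agent.S1453

open Cfsg.Agent.Lib.Helper20_PGroupOdd Cfsg.Agent.Lib.Helper20_PGroupRank3
  Cfsg.Agent.Lib.Helper20_OmegaOne Cfsg.Agent.Lib.Helper20_RankThreeSCN
  Cfsg.Agent.Lib.Helper20_ClassThree Cfsg.Agent.Lib.Helper20_Suzuki

/-- The join of two commuting abelian subgroups of exponent `p` is abelian of exponent `p`. -/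
theorem ea_sup {G : Type*} [Group G] {p : ℕ} (N M : Subgroup G)
    (hNc : ∀ x ∈ N, ∀ y ∈ N, x * y = y * x) (hMc : ∀ x ∈ M, ∀ y ∈ M, x * y = y * x)
    (hNM : ∀ x ∈ N, ∀ y ∈ M, x * y = y * x) (hNe : ∀ x ∈ N, x ^ p = 1)
    (hMe : ∀ x ∈ M, x ^ p = 1) :
    (∀ x ∈ N ⊔ M, ∀ y ∈ N ⊔ M, x * y = y * x) ∧ (∀ x ∈ N ⊔ M, x ^ p = 1) := by
  have h1 : N ⊔ M ≤ Subgroup.centralizer (N : Set G) := by
    apply sup_le
    · intro x hx
      rw [Subgroup.mem_centralizer_iff]
      intro y hy
      exact hNc y hy x hx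
    · intro x hx
      rw [Subgroup.mem_centralizer_iff]
      intro y hy
      exact hNM y hy x hx
  have h2 : N ⊔ M ≤ Subgroup.centralizer (M : Set G) := by
    apply sup_le
    · intro x hx
      rw [Subgroup.mem_centralizer_iff]
      intro y hy
      exact (hNM x hx y hy).symm
    · intro x hx
      rw [Subgroup.mem_centralizer_iff]
      intro y hy
      exact hMc y hy x hx
  have h3 : N ⊔ M ≤ Subgroup.centralizer ((N ⊔ M : Subgroup G) : Set G) :=
    sup_le (Subgroup.le_centralizer_iff.mp h1) (Subgroup.le_centralizer_iff.mp h2)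
  have hcomm : ∀ x ∈ N ⊔ M, ∀ y ∈ N ⊔ M, x * y = y * x := by
    intro x hx y hy
    exact ((Subgroup.mem_centralizer_iff.mp (h3 hx)) y hy).symm
  refine ⟨hcomm, ?_⟩
  let T : Subgroup G :=
    { carrier := {x | x ∈ N ⊔ M ∧ x ^ p = 1}
      mul_mem' := by
        rintro a b ⟨ha, hap⟩ ⟨hb, hbp⟩
        refine ⟨Subgroup.mul_mem _ ha hb, ?_⟩
        have hc : Commute a b := hcomm a ha b hb
        rw [hc.mul_pow, hap, hbp, one_mul]
      one_mem' := ⟨Subgroup.one_mem _, one_pow p⟩
      inv_mem' := by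
        rintro a ⟨ha, hap⟩
        exact ⟨Subgroup.inv_mem _ ha, by rw [inv_pow, hap, inv_one]⟩ }
  have hT : N ⊔ M ≤ T := by
    apply sup_le
    · intro x hx
      exact ⟨Subgroup.mem_sup_left hx, hNe x hx⟩
    · intro x hx
      exact ⟨Subgroup.mem_sup_right hx, hMe x hx⟩
  intro x hx
  exact (hT hx).2

theorem zpowers_comm {G : Type*} [Group G] (w : G) :
    ∀ x ∈ Subgroup.zpowers w, ∀ y ∈ Subgroup.zpowers w, x * y = y * x := by
  intro x hx y hy
  obtain ⟨i, rfl⟩ := Subgroup.mem_zpowers_iff.mp hx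
  obtain ⟨j, rfl⟩ := Subgroup.mem_zpowers_iff.mp hy
  rw [← zpow_add, ← zpow_add, add_comm]

theorem zpowers_exp {G : Type*} [Group G] {p : ℕ} {w : G} (hw : w ^ p = 1) :
    ∀ x ∈ Subgroup.zpowers w, x ^ p = 1 := by
  intro x hx
  obtain ⟨i, rfl⟩ := Subgroup.mem_zpowers_iff.mp hx
  rw [← zpow_natCast, ← zpow_mul, mul_comm, zpow_mul, zpow_natCast, hw, one_zpow]

/-- Let p be an odd prime and R a finite p-group with an elementary abelian subgroup of order p ^ 3 and an elementary abelian subgroup E of order p ^ 2 contained in no larger elementary abelian subgroup. Let Z₂ be the second centre of R, W the subgroup generated by the elements of Z₂ of order dividing p, and T = C_R(W). Then E is not contained in T; the elements of order dividing p of the centre of R generate a group of order p; W is elementary abelian of order p ^ 2; and T is characteristic in R of index p. -/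
theorem result {R : Type*} [Group R] [Finite R] (p : ℕ) [Fact p.Prime] (hp : p ≠ 2) (hR : IsPGroup p R) (hr : ¬ Cfsg.PRankLE p 2 R)
    (E : Subgroup R) (hE : Cfsg.IsElementaryAbelian p E) (hE2 : Nat.card E = p ^ 2)
    (hEmax : ∀ B : Subgroup R, Cfsg.IsElementaryAbelian p B → E ≤ B → B = E) :
    ¬ E ≤ Subgroup.centralizer ((Subgroup.closure {x : R | x ∈ Subgroup.upperCentralSeries R 2 ∧ x ^ p = 1} : Subgroup R) : Set R) ∧
      Nat.card ↥(Subgroup.closure {x : R | x ∈ Subgroup.center R ∧ x ^ p = 1}) = p ∧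
      (Cfsg.IsElementaryAbelian p (Subgroup.closure {x : R | x ∈ Subgroup.upperCentralSeries R 2 ∧ x ^ p = 1}) ∧
        Nat.card ↥(Subgroup.closure {x : R | x ∈ Subgroup.upperCentralSeries R 2 ∧ x ^ p = 1}) = p ^ 2) ∧
      (Subgroup.centralizer ((Subgroup.closure {x : R | x ∈ Subgroup.upperCentralSeries R 2 ∧ x ^ p = 1} : Subgroup R) : Set R)).Characteristic ∧
      (Subgroup.centralizer ((Subgroup.closure {x : R | x ∈ Subgroup.upperCentralSeries R 2 ∧ x ^ p = 1} : Subgroup R) : Set R)).index = p := by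
  have hpP : p.Prime := Fact.out
  have hnil : Group.IsNilpotent R := hR.isNilpotent
  have hp12 : p < p ^ 2 := by
    have h4 : p ^ 1 < p ^ 2 := Nat.pow_lt_pow_right hpP.one_lt (by norm_num)
    rwa [pow_one] at h4
  have hp23 : p ^ 2 < p ^ 3 := Nat.pow_lt_pow_right hpP.one_lt (by norm_num)
  set W : Subgroup R :=
    Subgroup.closure {x : R | x ∈ Subgroup.upperCentralSeries R 2 ∧ x ^ p = 1} with hW
  set Zc : Subgroup R := Subgroup.closure {x : R | x ∈ Subgroup.center R ∧ x ^ p = 1} with hZc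
  have mkEA : ∀ A : Subgroup R, (∀ x ∈ A, ∀ y ∈ A, x * y = y * x) → (∀ a ∈ A, a ^ p = 1) →
      Cfsg.IsElementaryAbelian p A := fun A hc he =>
    ⟨⟨⟨fun a b => Subtype.ext (hc a.1 a.2 b.1 b.2)⟩⟩, he⟩
  -- an elementary abelian subgroup of order at least `p³`
  unfold Cfsg.PRankLE at hr
  push Not at hr
  obtain ⟨F, hFc, hFe, hFcard⟩ := hr
  have hFcomm : ∀ x ∈ F, ∀ y ∈ F, x * y = y * x := by
    intro x hx y hy
    have := hFc.is_comm.comm ⟨x, hx⟩ ⟨y, hy⟩
    exact congrArg Subtype.val this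
  have hF3 : p ^ 3 ≤ Nat.card F := by
    obtain ⟨j, hj⟩ := IsPGroup.iff_card.mp (hR.to_subgroup F)
    rw [hj] at hFcard ⊢
    have : 2 < j := (Nat.pow_lt_pow_iff_right hpP.one_lt).mp hFcard
    exact Nat.pow_le_pow_right hpP.pos this
  have hEexp : ∀ a ∈ E, a ^ p = 1 := hE.2
  have hEcomm : ∀ x ∈ E, ∀ y ∈ E, x * y = y * x := by
    intro x hx y hy
    have := hE.1.is_comm.comm ⟨x, hx⟩ ⟨y, hy⟩
    exact congrArg Subtype.val this
  -- `E` is not normal
  have hEnn : ¬ E.Normal := by
    intro hEn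
    obtain ⟨E₁, hEE₁, _, hE₁c, hE₁e, hE₁card⟩ :=
      exists_rank_three_of_normal_rank_two hp hR F hFcomm hFe hF3 E hEcomm hEexp hE2
    have := hEmax E₁ (mkEA E₁ hE₁c hE₁e) hEE₁
    rw [this, hE2] at hE₁card
    omega
  -- elements of order `p` centralizing `E` lie in `E`
  have hCE : ∀ w : R, w ^ p = 1 → (∀ x ∈ E, x * w = w * x) → w ∈ E := by
    intro w hwp hwc
    obtain ⟨h1, h2⟩ := ea_sup E (Subgroup.zpowers w) hEcomm (zpowers_comm w)
      (by
        intro x hx y hy
        obtain ⟨i, rfl⟩ := Subgroup.mem_zpowers_iff.mp hy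
        exact (Commute.zpow_right (hwc x hx) i).eq)
      hEexp (zpowers_exp hwp)
    have := hEmax _ (mkEA _ h1 h2) le_sup_left
    rw [← this]
    exact Subgroup.mem_sup_right (Subgroup.mem_zpowers w)
  -- a good pair for `R`
  have hS : ¬ IsCyclic (⊤ : Subgroup R) := by
    intro hc
    have hFcyc : IsCyclic F := Subgroup.isCyclic_of_le (le_top : F ≤ ⊤)
    have h1 : Nat.card F ≤ p := by
      apply card_le_of_isCyclic_of_exp hpP
      intro g
      apply Subtype.ext
      simpa using hFe g.1 g.2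
    omega
  obtain ⟨z, h, hg⟩ := exists_good hp hR ⊤ hS
  have hzc : z ∈ Subgroup.center R := hg.2.2.1
  have hzo : orderOf z = p := hg.2.2.2.1
  have hzp : z ^ p = 1 := hg.z_pow
  have hhp : h ^ p = 1 := hg.2.2.2.2.1
  have hcomm : ∀ g : R, g * h * g⁻¹ * h⁻¹ ∈ Subgroup.zpowers z := hg.2.2.2.2.2.2
  have hVn : hg.B.Normal := hg.B_normal
  -- `Zc = Ω₁(Z(R))`
  have hZc_mem : ∀ x ∈ Zc, x ∈ Subgroup.center R ∧ x ^ p = 1 := by
    intro x hx
    induction hx using Subgroup.closure_induction with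
    | mem a ha => exact ha
    | one => exact ⟨Subgroup.one_mem _, one_pow p⟩
    | mul a b _ _ ha hb =>
      refine ⟨Subgroup.mul_mem _ ha.1 hb.1, ?_⟩
      have hc : Commute a b := (Subgroup.mem_center_iff.mp ha.1 b).symm
      rw [hc.mul_pow, ha.2, hb.2, one_mul]
    | inv a _ ha => exact ⟨Subgroup.inv_mem _ ha.1, by rw [inv_pow, ha.2, inv_one]⟩
  have hZc_center : Zc ≤ Subgroup.center R := fun x hx => (hZc_mem x hx).1
  have hZc_sub : ∀ x : R, x ∈ Subgroup.center R → x ^ p = 1 → x ∈ Zc :=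
    fun x hx hxp => Subgroup.subset_closure ⟨hx, hxp⟩
  have hzZc : z ∈ Zc := hZc_sub z hzc hzp
  have hZcE : Zc ≤ E := by
    intro x hx
    apply hCE x (hZc_mem x hx).2
    intro y _
    exact Subgroup.mem_center_iff.mp (hZc_mem x hx).1 y
  have hZc_card : Nat.card Zc = p := by
    have h1 : Nat.card Zc ∣ p ^ 2 := hE2 ▸ Subgroup.card_dvd_of_le hZcE
    obtain ⟨j, hj2, hj⟩ := (Nat.dvd_prime_pow hpP).mp h1
    have h2 : Nat.card (Subgroup.zpowers z) ∣ Nat.card Zc :=
      Subgroup.card_dvd_of_le (Subgroup.zpowers_le.mpr hzZc)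
    rw [Nat.card_zpowers, hzo, hj] at h2
    have hj0 : j ≠ 0 := by
      intro h0
      rw [h0, pow_zero] at h2
      have := Nat.le_of_dvd one_pos h2
      have := hpP.one_lt
      omega
    have hj2' : j ≠ 2 := by
      intro h2'
      have hZE : Zc = E := Subgroup.eq_of_le_of_card_ge hZcE (by rw [hE2, hj, h2'])
      -- then `E` is central, hence normal
      apply hEnn
      constructor
      intro n hn g
      have hnc : n ∈ Subgroup.center R := hZc_center (hZE ▸ hn)
      rw [Subgroup.mem_center_iff.mp hnc g, mul_inv_cancel_right]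
      exact hn
    have hj1 : j = 1 := by omega
    rw [hj, hj1, pow_one]
  -- `W = Ω₁(Z₂(R))`
  have hZ2 : ∀ x : R, x ∈ Subgroup.upperCentralSeries R 2 ↔
      ∀ y : R, x * y * x⁻¹ * y⁻¹ ∈ Subgroup.center R := by
    intro x
    rw [show (2 : ℕ) = 1 + 1 from rfl, Subgroup.mem_upperCentralSeries_succ_iff,
      Subgroup.upperCentralSeries_one]
    simp only [commutatorElement_def]
  have hcenter_Z2 : Subgroup.center R ≤ Subgroup.upperCentralSeries R 2 := by
    intro x hx
    rw [hZ2]
    intro y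
    rw [← Subgroup.mem_center_iff.mp hx y, mul_inv_cancel_right, mul_inv_cancel]
    exact Subgroup.one_mem _
  -- commutators of elements of `Z₂` of order `p` lie in `Zc`
  have hcommZc : ∀ x : R, x ∈ Subgroup.upperCentralSeries R 2 → x ^ p = 1 →
      ∀ g : R, x * g * x⁻¹ * g⁻¹ ∈ Zc := by
    intro x hx hxp g
    have h1 := (hZ2 x).mp hx g
    apply hZc_sub _ h1
    have h2 : x * g = (x * g * x⁻¹ * g⁻¹) * g * x := by group
    exact pow_eq_one_of_pow_left h2 (Subgroup.mem_center_iff.mp h1 x).symm hxp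
  have hW_mem : ∀ w ∈ W, w ∈ Subgroup.upperCentralSeries R 2 ∧ w ^ p = 1 := by
    intro w hw
    induction hw using Subgroup.closure_induction with
    | mem a ha => exact ha
    | one => exact ⟨Subgroup.one_mem _, one_pow p⟩
    | mul a b _ _ ha hb =>
      refine ⟨Subgroup.mul_mem _ ha.1 hb.1, ?_⟩
      have hc := hcommZc b hb.1 hb.2 a
      have hcc := hZc_center hc
      have hcp := (hZc_mem _ hc).2
      have h2 : b * a = (b * a * b⁻¹ * a⁻¹) * a * b := by group
      rw [mul_pow_prime_of_comm hpP hp h2 (Subgroup.mem_center_iff.mp hcc a).symm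
        (Subgroup.mem_center_iff.mp hcc b).symm hcp, ha.2, hb.2, one_mul]
    | inv a _ ha => exact ⟨Subgroup.inv_mem _ ha.1, by rw [inv_pow, ha.2, inv_one]⟩
  have hW_sub : ∀ x : R, x ∈ Subgroup.upperCentralSeries R 2 → x ^ p = 1 → x ∈ W :=
    fun x hx hxp => Subgroup.subset_closure ⟨hx, hxp⟩
  have hWcomm : ∀ w ∈ W, ∀ g : R, w * g * w⁻¹ * g⁻¹ ∈ Zc :=
    fun w hw g => hcommZc w (hW_mem w hw).1 (hW_mem w hw).2 g
  have hZcW : Zc ≤ W := fun x hx =>
    hW_sub x (hcenter_Z2 (hZc_mem x hx).1) (hZc_mem x hx).2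
  -- `W` is characteristic
  have hWchar : W.Characteristic := by
    rw [Subgroup.characteristic_iff_map_le]
    intro φ
    rw [hW, MonoidHom.map_closure, Subgroup.closure_le]
    rintro _ ⟨x, ⟨hx, hxp⟩, rfl⟩
    apply Subgroup.subset_closure
    refine ⟨?_, ?_⟩
    · have hfix := (inferInstance : (Subgroup.upperCentralSeries R 2).Characteristic).fixed φ.symm
      have : φ.toMonoidHom x ∈ (Subgroup.upperCentralSeries R 2).comap φ.symm.toMonoidHom := by
        rw [Subgroup.mem_comap]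
        simpa using hx
      rw [hfix] at this
      exact this
    · show (φ x) ^ p = 1
      rw [← map_pow, hxp, map_one]
  have hWn : W.Normal := inferInstance
  -- `V ≤ W`
  have hVW : hg.B ≤ W := by
    apply sup_le
    · rw [Subgroup.zpowers_le]
      exact hZcW hzZc
    · rw [Subgroup.zpowers_le]
      apply hW_sub h _ hhp
      rw [hZ2]
      intro y
      have h1 : h * y * h⁻¹ * y⁻¹ = (y * h * y⁻¹ * h⁻¹)⁻¹ := by group
      rw [h1]
      exact Subgroup.inv_mem _ ((Subgroup.zpowers_le.mpr hzc) (hcomm y))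
  -- if `E ≤ W` then `E` is normal
  have hEW : ¬ E ≤ W := by
    intro hle
    apply hEnn
    constructor
    intro n hn g
    have h1 : g * n * g⁻¹ = (n * g * n⁻¹ * g⁻¹)⁻¹ * n := by group
    rw [h1]
    exact E.mul_mem (E.inv_mem (hZcE (hWcomm n (hle hn) g))) hn
  -- `E = Zc ⊔ ⟨e⟩`
  have hZcne : Zc ≠ E := by
    intro h'
    rw [h', hE2] at hZc_card
    omega
  obtain ⟨e, heE, heZ⟩ := SetLike.exists_of_lt (lt_of_le_of_ne hZcE hZcne)
  have hEsup : Zc ⊔ Subgroup.zpowers e = E := by
    have hle : Zc ⊔ Subgroup.zpowers e ≤ E := sup_le hZcE (Subgroup.zpowers_le.mpr heE)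
    apply Subgroup.eq_of_le_of_card_ge hle
    have h1 : Nat.card ↥(Zc ⊔ Subgroup.zpowers e) ∣ p ^ 2 := hE2 ▸ Subgroup.card_dvd_of_le hle
    obtain ⟨j, hj2, hj⟩ := (Nat.dvd_prime_pow hpP).mp h1
    have h2 : Nat.card Zc ∣ Nat.card ↥(Zc ⊔ Subgroup.zpowers e) :=
      Subgroup.card_dvd_of_le le_sup_left
    rw [hZc_card, hj] at h2
    have hj0 : j ≠ 0 := by
      intro h0
      rw [h0, pow_zero] at h2
      have := Nat.le_of_dvd one_pos h2
      have := hpP.one_lt
      omega
    have hj1 : j ≠ 1 := by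
      intro h1'
      apply heZ
      have h3 : Zc = Zc ⊔ Subgroup.zpowers e := by
        apply Subgroup.eq_of_le_of_card_ge le_sup_left
        rw [hZc_card, hj, h1', pow_one]
      rw [h3]
      exact Subgroup.mem_sup_right (Subgroup.mem_zpowers e)
    have hj2' : j = 2 := by omega
    rw [hE2, hj, hj2']
  -- elements commuting with `e` commute with `E`
  have hcomm_e : ∀ w : R, w * e = e * w → ∀ x ∈ E, x * w = w * x := by
    intro w hwe x hx
    have h1 : E ≤ Subgroup.centralizer ({w} : Set R) := by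
      rw [← hEsup]
      apply sup_le
      · exact hZc_center.trans (Subgroup.center_le_centralizer _)
      · rw [Subgroup.zpowers_le, Subgroup.mem_centralizer_iff]
        intro y hy
        rw [Set.mem_singleton_iff] at hy
        rw [hy]; exact hwe
    exact ((Subgroup.mem_centralizer_iff.mp (h1 hx)) w rfl).symm
  -- `E ⊓ W ≤ Zc`
  have hEWZ : ∀ w ∈ E, w ∈ W → w ∈ Zc := by
    intro w hwE hwW
    by_contra hwZ
    apply hEW
    have hle : Zc ⊔ Subgroup.zpowers w ≤ E := sup_le hZcE (Subgroup.zpowers_le.mpr hwE)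
    have heq : Zc ⊔ Subgroup.zpowers w = E := by
      apply Subgroup.eq_of_le_of_card_ge hle
      have h1 : Nat.card ↥(Zc ⊔ Subgroup.zpowers w) ∣ p ^ 2 := hE2 ▸ Subgroup.card_dvd_of_le hle
      obtain ⟨j, hj2, hj⟩ := (Nat.dvd_prime_pow hpP).mp h1
      have h2 : Nat.card Zc ∣ Nat.card ↥(Zc ⊔ Subgroup.zpowers w) :=
        Subgroup.card_dvd_of_le le_sup_left
      rw [hZc_card, hj] at h2
      have hj0 : j ≠ 0 := by
        intro h0
        rw [h0, pow_zero] at h2
        have := Nat.le_of_dvd one_pos h2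
        have := hpP.one_lt
        omega
      have hj1 : j ≠ 1 := by
        intro h1'
        apply hwZ
        have h3 : Zc = Zc ⊔ Subgroup.zpowers w := by
          apply Subgroup.eq_of_le_of_card_ge le_sup_left
          rw [hZc_card, hj, h1', pow_one]
        rw [h3]
        exact Subgroup.mem_sup_right (Subgroup.mem_zpowers w)
      have hj2' : j = 2 := by omega
      rw [hE2, hj, hj2']
    rw [← heq]
    exact sup_le hZcW (Subgroup.zpowers_le.mpr hwW)
  -- the commutator homomorphism `W → Zc`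
  set φ := commHomSub W Zc hZc_center e (fun w hw => hWcomm w hw e) with hφ
  have hker : φ.ker.map W.subtype ≤ Zc := by
    rintro _ ⟨w, hw', rfl⟩
    have hw : w ∈ φ.ker := hw'
    have hwe : (w : R) * e = e * (w : R) := (mem_commHomSub_ker W Zc hZc_center e _ w).mp hw
    have hwE : (w : R) ∈ E := hCE _ (hW_mem _ w.2).2 (hcomm_e _ hwe)
    exact hEWZ _ hwE w.2
  have hWle : Nat.card W ≤ p * p := by
    have h1 := Subgroup.card_mul_index φ.ker
    rw [Subgroup.index_ker] at h1
    rw [← h1]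
    apply Nat.mul_le_mul
    · rw [← Subgroup.card_subtype W φ.ker, ← hZc_card]
      exact Subgroup.card_le_of_le hker
    · have h2 := Subgroup.card_le_card_group φ.range
      rwa [hZc_card] at h2
  have hWV : hg.B = W := by
    apply Subgroup.eq_of_le_of_card_ge hVW
    rw [hg.card_B, sq]
    exact hWle
  have hWcard : Nat.card W = p ^ 2 := by rw [← hWV, hg.card_B]
  have hWc : ∀ x ∈ W, ∀ y ∈ W, x * y = y * x := by
    rw [← hWV]; exact hg.B_comm
  -- (1)
  have h1 : ¬ E ≤ Subgroup.centralizer (W : Set R) := by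
    intro hle
    apply hEW
    have hWE : W ≤ E := by
      intro w hw
      apply hCE w (hW_mem w hw).2
      intro x hx
      exact ((Subgroup.mem_centralizer_iff.mp (hle hx)) w hw).symm
    have : W = E := Subgroup.eq_of_le_of_card_ge hWE (by rw [hWcard, hE2])
    rw [this]
  -- the centralizer of `W` is the centralizer of `h`
  set ψ := commHom hzc hcomm with hψ
  have hCmem : ∀ g : R, g ∈ ψ.ker ↔ g * h = h * g := mem_commHom_ker hzc hcomm
  have hcent : Subgroup.centralizer (W : Set R) = ψ.ker := by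
    ext g
    rw [Subgroup.mem_centralizer_iff, hCmem]
    constructor
    · intro hgW
      exact (hgW h (hVW hg.h_mem_B)).symm
    · intro hgh w hw
      rw [← hWV] at hw
      exact good_comm_ker hg w hw g hgh
  have h5 : (Subgroup.centralizer (W : Set R)).index = p := by
    rw [hcent]
    have hle : ψ.ker.index ≤ p := by
      rw [Subgroup.index_ker]
      have h2 := Subgroup.card_le_card_group ψ.range
      rwa [Nat.card_zpowers, hzo] at h2
    obtain ⟨n, hn⟩ := IsPGroup.iff_card.mp hR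
    have hdvd : ψ.ker.index ∣ p ^ n := hn ▸ Subgroup.index_dvd_card ψ.ker
    obtain ⟨i, _, hi⟩ := (Nat.dvd_prime_pow hpP).mp hdvd
    have hi0 : i ≠ 0 := by
      intro h0
      rw [h0, pow_zero] at hi
      have htop : ψ.ker = ⊤ := Subgroup.index_eq_one.mp hi
      apply h1
      rw [hcent, htop]
      exact le_top
    have hi1 : i ≤ 1 := by
      by_contra hi2
      push Not at hi2
      have : p ^ 2 ≤ p ^ i := Nat.pow_le_pow_right hpP.pos hi2
      rw [hi] at hle
      omega
    have : i = 1 := by omega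
    rw [hi, this, pow_one]
  refine ⟨h1, hZc_card, ⟨mkEA W hWc (fun w hw => (hW_mem w hw).2), hWcard⟩, inferInstance, h5⟩

end Cfsg.Agent.S1453
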