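import Cfsg.Statements.S0634
import Cfsg.Agent.Lib.Helper76_PSolvable
import Cfsg.Agent.Lib.Helper32_Cores
-- import your own Cfsg.Agent.* helpers here

set_option autoImplicit false
open Cfsg

namespace Cfsg.Agent.S0634

section series

variable {G : Type*} [Group G] (p : ℕ)

theorem upperPSeries_succ_of_even (n : ℕ) (hn : Even n) :
    (upperPSeries p G (n + 1)).1 =
      (pPrimeCore p (G ⧸ (upperPSeries p G n).1)).comap (QuotientGroup.mk' _) := by
  rw [upperPSeries]
  simp only [hn, if_true]

theorem upperPSeries_succ_of_not_even (n : ℕ) (hn : ¬ Even n) :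
    (upperPSeries p G (n + 1)).1 =
      (pCore p (G ⧸ (upperPSeries p G n).1)).comap (QuotientGroup.mk' _) := by
  rw [upperPSeries]
  simp only [hn, if_false]

end series

section transportCore

/-- triviality of `O_{p'}` transports along isomorphisms -/
theorem pPrimeCore_eq_bot_of_equiv {X Y : Type*} [Group X] [Group Y] [Finite Y] (p : ℕ) (e : X ≃* Y)
    (h : pPrimeCore p X = ⊥) : pPrimeCore p Y = ⊥ := by
  have h1 : (pPrimeCore p Y).map e.symm.toMonoidHom ≤ pPrimeCore p X := by
    apply Cfsg.Agent.Lib.Helper32_Cores.le_pPrimeCore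
    · exact Subgroup.Normal.map inferInstance _ e.symm.surjective
    · rw [Subgroup.card_map_of_injective e.symm.injective]
      exact Cfsg.Agent.Lib.Helper32_Cores.card_pPrimeCore_coprime p
  rw [h, le_bot_iff] at h1
  exact (Subgroup.map_eq_bot_iff_of_injective _ e.symm.injective).mp h1

/-- if `M` is the preimage of `O_{p'}(G/N)` then `O_{p'}(G/M) = 1` -/
theorem pPrimeCore_quotient_comap_eq_bot {G : Type*} [Group G] [Finite G] (p : ℕ)
    (N : Subgroup G) [N.Normal] (M : Subgroup G) [M.Normal]
    (hM : M = (pPrimeCore p (G ⧸ N)).comap (QuotientGroup.mk' N)) :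
    pPrimeCore p (G ⧸ M) = ⊥ := by
  have hNM : N ≤ M := by
    rw [hM]
    have : (QuotientGroup.mk' N).ker ≤ (pPrimeCore p (G ⧸ N)).comap (QuotientGroup.mk' N) :=
      Subgroup.ker_le_comap _ _
    rwa [QuotientGroup.ker_mk'] at this
  have hmap : M.map (QuotientGroup.mk' N) = pPrimeCore p (G ⧸ N) := by
    rw [hM]
    exact Subgroup.map_comap_eq_self_of_surjective (QuotientGroup.mk'_surjective N) _
  have e₁ := QuotientGroup.quotientQuotientEquivQuotient N M hNM
  have e₂ := QuotientGroup.quotientMulEquivOfEq hmap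
  exact pPrimeCore_eq_bot_of_equiv p (e₂.symm.trans e₁)
    (Cfsg.Agent.Lib.Helper32_Cores.pPrimeCore_quotient_eq_bot (G := G ⧸ N) p)

end transportCore

/-- In a p-soluble group each p-factor of the upper p-series contains its own centralizer in the corresponding quotient. -/
theorem result {G : Type*} [Group G] [Finite G] {p : ℕ} [Fact p.Prime] (hsol : Cfsg.IsPSolvable p G) (k : ℕ) : Subgroup.centralizer ((((Cfsg.upperPSeries p G (2 * k + 2)).1.map (QuotientGroup.mk' (Cfsg.upperPSeries p G (2 * k + 1)).1)) : Subgroup (G ⧸ (Cfsg.upperPSeries p G (2 * k + 1)).1)) : Set (G ⧸ (Cfsg.upperPSeries p G (2 * k + 1)).1)) ≤ (Cfsg.upperPSeries p G (2 * k + 2)).1.map (QuotientGroup.mk' (Cfsg.upperPSeries p G (2 * k + 1)).1) := by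
  have h1 := upperPSeries_succ_of_even (G := G) p (2 * k) (even_two_mul k)
  have h2 : (upperPSeries p G (2 * k + 2)).1 =
      (pCore p (G ⧸ (upperPSeries p G (2 * k + 1)).1)).comap (QuotientGroup.mk' _) :=
    upperPSeries_succ_of_not_even (G := G) p (2 * k + 1) (by
      rw [Nat.not_even_iff_odd]; exact odd_two_mul_add_one k)
  have hcore : pPrimeCore p (G ⧸ (upperPSeries p G (2 * k + 1)).1) = ⊥ :=
    pPrimeCore_quotient_comap_eq_bot p (upperPSeries p G (2 * k)).1 _ h1
  have hmap : (upperPSeries p G (2 * k + 2)).1.map (QuotientGroup.mk' (upperPSeries p G (2 * k + 1)).1)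
      = pCore p (G ⧸ (upperPSeries p G (2 * k + 1)).1) := by
    rw [h2]
    exact Subgroup.map_comap_eq_self_of_surjective (QuotientGroup.mk'_surjective _) _
  rw [hmap]
  exact Cfsg.Agent.Lib.Helper76_PSolvable.centralizer_pCore_le p
    (Cfsg.Agent.Lib.Helper76_PSolvable.isPSolvable_quotient p _ hsol) hcore

end Cfsg.Agent.S0634
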