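import Cfsg.Statements.S0630
import Cfsg.Agent.Lib.Helper23_PConstrained
import Cfsg.Agent.Lib.Helper32_Cores
-- import your own Cfsg.Agent.* helpers here

set_option autoImplicit false
open Cfsg

namespace Cfsg.Agent.S0630

/-- the image of `O_p` under an isomorphism lies in `O_p` -/
theorem pCore_map_equiv_le {X Y : Type*} [Group X] [Group Y] (p : ℕ) [Fact p.Prime] (e : X ≃* Y) :
    (pCore p X).map e.toMonoidHom ≤ pCore p Y := by
  apply Cfsg.Agent.Lib.Helper1_Cores.le_pCore
  · exact Subgroup.Normal.map (Cfsg.Agent.Lib.Helper1_Cores.pCore_normal p) _ e.surjective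
  · exact (Cfsg.Agent.Lib.Helper1_Cores.pCore_isPGroup p).map _

/-- self-centralizing `O_p` transports along isomorphisms (one direction) -/
theorem selfCentralizing_of_equiv {X Y : Type*} [Group X] [Group Y] (p : ℕ) [Fact p.Prime]
    (e : X ≃* Y)
    (h : Subgroup.centralizer (pCore p X : Set X) ≤ pCore p X) :
    Subgroup.centralizer (pCore p Y : Set Y) ≤ pCore p Y := by
  intro y hy
  have hx : e.symm y ∈ Subgroup.centralizer (pCore p X : Set X) := by
    rw [Subgroup.mem_centralizer_iff]
    intro z hz
    have hz' : e z ∈ pCore p Y := pCore_map_equiv_le p e (Subgroup.mem_map_of_mem _ hz)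
    have hc := Subgroup.mem_centralizer_iff.mp hy _ hz'
    apply e.injective
    rw [map_mul, map_mul, e.apply_symm_apply]
    exact hc
  have h1 := h hx
  have h2 : e (e.symm y) ∈ pCore p Y := pCore_map_equiv_le p e (Subgroup.mem_map_of_mem _ h1)
  rwa [e.apply_symm_apply] at h2

theorem selfCentralizing_equiv_iff {X Y : Type*} [Group X] [Group Y] (p : ℕ) [Fact p.Prime]
    (e : X ≃* Y) :
    Subgroup.centralizer (pCore p X : Set X) ≤ pCore p X ↔
      Subgroup.centralizer (pCore p Y : Set Y) ≤ pCore p Y :=
  ⟨selfCentralizing_of_equiv p e, selfCentralizing_of_equiv p e.symm⟩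

/-- p-constraint passes to and from the quotient by the largest normal subgroup of order prime to p. -/
theorem result {G : Type*} [Group G] [Finite G] {p : ℕ} [Fact p.Prime] : Cfsg.IsPConstrained p G ↔ Cfsg.IsPConstrained p (G ⧸ Cfsg.pPrimeCore p G) := by
  rw [Cfsg.Agent.Lib.Helper23_PConstrained.isPConstrained_iff_centralizer_pCore_le,
    Cfsg.Agent.Lib.Helper23_PConstrained.isPConstrained_iff_centralizer_pCore_le]
  have hbot := Cfsg.Agent.Lib.Helper32_Cores.pPrimeCore_quotient_eq_bot (G := G) p
  exact selfCentralizing_equiv_iff p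
    ((QuotientGroup.quotientBot.symm).trans (QuotientGroup.quotientMulEquivOfEq hbot.symm))

end Cfsg.Agent.S0630
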