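import Cfsg.Statements.S0635
import Cfsg.Agent.S0634
import Cfsg.Agent.S0630
import Cfsg.Agent.Lib.Helper76_PSolvable
import Cfsg.Agent.Lib.Helper32_Cores
import Cfsg.Agent.Lib.Helper1_Cores
-- import your own Cfsg.Agent.* helpers here

set_option autoImplicit false
open Cfsg

namespace Cfsg.Agent.S0635

universe u

section transport

variable {X Y : Type u} [Group X] [Group Y]

theorem pPrimeCore_map_equiv_le [Finite X] (p : ℕ) (e : X ≃* Y) :
    (pPrimeCore p X).map e.toMonoidHom ≤ pPrimeCore p Y := by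
  apply Cfsg.Agent.Lib.Helper32_Cores.le_pPrimeCore
  · exact Subgroup.Normal.map inferInstance _ e.surjective
  · rw [Subgroup.card_map_of_injective e.injective]
    exact Cfsg.Agent.Lib.Helper32_Cores.card_pPrimeCore_coprime p

/-- membership transport for a construction monotone under isomorphisms -/
theorem mem_iff_of_equiv (FX : Subgroup X) (FY : Subgroup Y) (e : X ≃* Y)
    (h1 : FX.map e.toMonoidHom ≤ FY) (h2 : FY.map e.symm.toMonoidHom ≤ FX) (x : X) :
    e x ∈ FY ↔ x ∈ FX := by
  constructor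
  · intro h
    have := h2 (Subgroup.mem_map_of_mem _ h)
    simpa using this
  · intro h
    exact h1 (Subgroup.mem_map_of_mem _ h)

theorem mem_pPrimeCore_equiv_iff [Finite X] [Finite Y] (p : ℕ) (e : X ≃* Y) (x : X) :
    e x ∈ pPrimeCore p Y ↔ x ∈ pPrimeCore p X :=
  mem_iff_of_equiv _ _ e (pPrimeCore_map_equiv_le p e) (pPrimeCore_map_equiv_le p e.symm) x

theorem mem_pCore_equiv_iff (p : ℕ) [Fact p.Prime] (e : X ≃* Y) (x : X) :
    e x ∈ pCore p Y ↔ x ∈ pCore p X :=
  mem_iff_of_equiv _ _ e (Cfsg.Agent.S0630.pCore_map_equiv_le p e)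
    (Cfsg.Agent.S0630.pCore_map_equiv_le p e.symm) x

end transport

section shift

variable {G : Type u} [Group G]

/-- third isomorphism theorem, in the form used for shifting the upper `p`-series -/
theorem comap_comap_eq (N M : Subgroup G) [N.Normal] [M.Normal]
    (Mbar : Subgroup (G ⧸ N)) [Mbar.Normal] (hM : M = Mbar.comap (QuotientGroup.mk' N))
    (FM : Subgroup (G ⧸ M)) (FQ : Subgroup ((G ⧸ N) ⧸ Mbar))
    (hF : ∀ e : ((G ⧸ N) ⧸ Mbar) ≃* (G ⧸ M), ∀ q, e q ∈ FM ↔ q ∈ FQ) :
    FM.comap (QuotientGroup.mk' M) =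
      (FQ.comap (QuotientGroup.mk' Mbar)).comap (QuotientGroup.mk' N) := by
  have hNM : N ≤ M := by
    rw [hM]
    have : (QuotientGroup.mk' N).ker ≤ Mbar.comap (QuotientGroup.mk' N) :=
      Subgroup.ker_le_comap _ _
    rwa [QuotientGroup.ker_mk'] at this
  have hmap : M.map (QuotientGroup.mk' N) = Mbar := by
    rw [hM]
    exact Subgroup.map_comap_eq_self_of_surjective (QuotientGroup.mk'_surjective N) _
  let e : ((G ⧸ N) ⧸ Mbar) ≃* (G ⧸ M) :=
    (QuotientGroup.quotientMulEquivOfEq hmap).symm.trans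
      (QuotientGroup.quotientQuotientEquivQuotient N M hNM)
  have he : ∀ g : G, e (QuotientGroup.mk' Mbar (QuotientGroup.mk' N g)) = QuotientGroup.mk' M g := by
    intro g
    rfl
  ext g
  simp only [Subgroup.mem_comap]
  rw [← he g, hF e]

theorem upperPSeries_zero (p : ℕ) : (upperPSeries p G 0).1 = ⊥ := by
  rw [upperPSeries]

theorem upperPSeries_le_succ (p : ℕ) (n : ℕ) :
    (upperPSeries p G n).1 ≤ (upperPSeries p G (n + 1)).1 := by
  intro x hx
  have h1 : QuotientGroup.mk' (upperPSeries p G n).1 x = 1 := by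
    rw [QuotientGroup.mk'_apply, QuotientGroup.eq_one_iff]; exact hx
  by_cases hn : Even n
  · rw [Cfsg.Agent.S0634.upperPSeries_succ_of_even p n hn, Subgroup.mem_comap, h1]
    exact Subgroup.one_mem _
  · rw [Cfsg.Agent.S0634.upperPSeries_succ_of_not_even p n hn, Subgroup.mem_comap, h1]
    exact Subgroup.one_mem _

theorem upperPSeries_eq_top_of_le (p : ℕ) {m n : ℕ} (hmn : m ≤ n)
    (h : (upperPSeries p G m).1 = ⊤) : (upperPSeries p G n).1 = ⊤ := by
  induction n, hmn using Nat.le_induction with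
  | base => exact h
  | succ n _ ih => exact top_le_iff.mp (ih ▸ upperPSeries_le_succ p n)

theorem upperPSeries_shift [Finite G] (p : ℕ) [Fact p.Prime] (n : ℕ) :
    (upperPSeries p G (n + 2)).1 =
      ((upperPSeries p (G ⧸ (upperPSeries p G 2).1) n).1).comap
        (QuotientGroup.mk' (upperPSeries p G 2).1) := by
  induction n with
  | zero =>
    rw [upperPSeries_zero, MonoidHom.comap_bot, QuotientGroup.ker_mk']
  | succ n ih =>
    show (upperPSeries p G (n + 2 + 1)).1 = _
    by_cases hn : Even n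
    · have hn2 : Even (n + 2) := by
        rw [Nat.even_add]; simp [hn]
      rw [Cfsg.Agent.S0634.upperPSeries_succ_of_even p (n + 2) hn2,
        Cfsg.Agent.S0634.upperPSeries_succ_of_even p n hn]
      exact comap_comap_eq _ _ _ ih _ _ (fun e q => mem_pPrimeCore_equiv_iff p e q)
    · have hn2 : ¬ Even (n + 2) := by
        rw [Nat.even_add]; simp [hn]
      rw [Cfsg.Agent.S0634.upperPSeries_succ_of_not_even p (n + 2) hn2,
        Cfsg.Agent.S0634.upperPSeries_succ_of_not_even p n hn]
      exact comap_comap_eq _ _ _ ih _ _ (fun e q => mem_pCore_equiv_iff p e q)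

theorem upperPSeries_one [Finite G] (p : ℕ) : (upperPSeries p G 1).1 = pPrimeCore p G := by
  rw [Cfsg.Agent.S0634.upperPSeries_succ_of_even p 0 Even.zero]
  have h0 : (upperPSeries p G 0).1 = ⊥ := upperPSeries_zero p
  let e : (G ⧸ (upperPSeries p G 0).1) ≃* G :=
    (QuotientGroup.quotientMulEquivOfEq h0).trans QuotientGroup.quotientBot
  have he : ∀ g : G, e (QuotientGroup.mk' _ g) = g := fun g => rfl
  ext g
  rw [Subgroup.mem_comap, ← mem_pPrimeCore_equiv_iff p e, he]

theorem comap_pCore_congr (p : ℕ) {A B : Subgroup G} [A.Normal] [B.Normal] (h : A = B) :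
    (pCore p (G ⧸ A)).comap (QuotientGroup.mk' A) = (pCore p (G ⧸ B)).comap (QuotientGroup.mk' B) := by
  subst h
  rfl

theorem upperPSeries_two [Finite G] (p : ℕ) : (upperPSeries p G 2).1 = pPrimePCore p G := by
  rw [Cfsg.Agent.S0634.upperPSeries_succ_of_not_even p 1 (by decide)]
  exact comap_pCore_congr p (upperPSeries_one p)

end shift

section main

variable {G : Type u} [Group G]

/-- In a `p`-solvable group the centre of a Sylow `p`-subgroup lies in `O_{p',p}(G)`. -/
theorem center_sylow_le [Finite G] (p : ℕ) [Fact p.Prime] (hsol : IsPSolvable p G) (S : Sylow p G)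
    (z : ↥(S : Subgroup G)) (hz : z ∈ Subgroup.center ↥(S : Subgroup G)) :
    (z : G) ∈ pPrimePCore p G := by
  have hHH := Cfsg.Agent.Lib.Helper76_PSolvable.centralizer_pCore_le p
    (Cfsg.Agent.Lib.Helper76_PSolvable.isPSolvable_quotient p (pPrimeCore p G) hsol)
    (Cfsg.Agent.Lib.Helper32_Cores.pPrimeCore_quotient_eq_bot (G := G) p)
  have hsurj := QuotientGroup.mk'_surjective (pPrimeCore p G)
  have hle : pCore p (G ⧸ pPrimeCore p G) ≤ (S : Subgroup G).map (QuotientGroup.mk' (pPrimeCore p G)) :=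
    Cfsg.Agent.Lib.Helper1_Cores.pCore_le_sylow p (S.mapSurjective hsurj)
  unfold pPrimePCore
  rw [Subgroup.mem_comap]
  apply hHH
  rw [Subgroup.mem_centralizer_iff]
  intro r hr
  obtain ⟨s, hs, rfl⟩ := hle hr
  have h1 := Subgroup.mem_center_iff.mp hz ⟨s, hs⟩
  have h2 : s * (z : G) = (z : G) * s := congrArg Subtype.val h1
  rw [← map_mul, ← map_mul, h2]

theorem nilpotencyClass_map_le [Finite G] (p : ℕ) [Fact p.Prime] (hsol : IsPSolvable p G)
    (S : Sylow p G) (c : ℕ) (hc : Group.nilpotencyClass ↥(S : Subgroup G) ≤ c + 1) :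
    Group.nilpotencyClass
      ↥((S : Subgroup G).map (QuotientGroup.mk' (upperPSeries p G 2).1)) ≤ c := by
  have : Group.IsNilpotent ↥(S : Subgroup G) := S.isPGroup'.isNilpotent
  set f := (QuotientGroup.mk' (upperPSeries p G 2).1).subgroupMap (S : Subgroup G) with hf
  have hfs : Function.Surjective f :=
    (QuotientGroup.mk' (upperPSeries p G 2).1).subgroupMap_surjective (S : Subgroup G)
  have hker : Subgroup.center ↥(S : Subgroup G) ≤ f.ker := by
    intro z hz
    rw [MonoidHom.mem_ker]
    apply Subtype.ext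
    have h1 := center_sylow_le p hsol S z hz
    rw [← upperPSeries_two] at h1
    show QuotientGroup.mk' (upperPSeries p G 2).1 (z : G) = 1
    rw [QuotientGroup.mk'_apply, QuotientGroup.eq_one_iff]
    exact h1
  let g := QuotientGroup.lift (Subgroup.center ↥(S : Subgroup G)) f hker
  have hgs : Function.Surjective g := by
    intro y
    obtain ⟨x, rfl⟩ := hfs y
    exact ⟨QuotientGroup.mk x, rfl⟩
  have : Group.IsNilpotent (↥(S : Subgroup G) ⧸ Subgroup.center ↥(S : Subgroup G)) :=
    inferInstance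
  have h1 := Group.nilpotencyClass_le_of_surjective g hgs
  rw [Group.nilpotencyClass_quotient_center] at h1
  omega

theorem pLength_main (p : ℕ) [Fact p.Prime] : ∀ (c : ℕ) (G : Type u) [Group G] [Finite G],
    IsPSolvable p G → ∀ S : Sylow p G, Group.nilpotencyClass ↥(S : Subgroup G) ≤ c →
      (upperPSeries p G (2 * c + 1)).1 = ⊤ := by
  intro c
  induction c with
  | zero =>
    intro G _ _ hsol S hS
    have : Group.IsNilpotent ↥(S : Subgroup G) := S.isPGroup'.isNilpotent
    have h0 : Group.nilpotencyClass ↥(S : Subgroup G) = 0 := Nat.le_zero.mp hS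
    rw [Group.nilpotencyClass_zero_iff_subsingleton] at h0
    have hSbot : (S : Subgroup G) = ⊥ := by
      rw [eq_bot_iff]
      intro x hx
      have : (⟨x, hx⟩ : ↥(S : Subgroup G)) = 1 := Subsingleton.elim _ _
      rw [Subgroup.mem_bot]
      exact congrArg Subtype.val this
    have hnd : ¬ p ∣ Nat.card G := by
      have := S.not_dvd_index
      rwa [hSbot, Subgroup.index_bot] at this
    have hp : p.Prime := Fact.out
    have htop : (⊤ : Subgroup G) ≤ pPrimeCore p G := by
      apply Cfsg.Agent.Lib.Helper32_Cores.le_pPrimeCore inferInstance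
      rw [Subgroup.card_top]
      exact ((Nat.Prime.coprime_iff_not_dvd hp).mpr hnd).symm
    show (upperPSeries p G 1).1 = ⊤
    rw [upperPSeries_one]
    exact top_le_iff.mp htop
  | succ c ih =>
    intro G _ _ hsol S hS
    have hsurj := QuotientGroup.mk'_surjective (upperPSeries p G 2).1
    have hT := nilpotencyClass_map_le p hsol S c hS
    have h1 := ih (G ⧸ (upperPSeries p G 2).1)
      (Cfsg.Agent.Lib.Helper76_PSolvable.isPSolvable_quotient p _ hsol)
      (S.mapSurjective hsurj) hT
    have h2 := upperPSeries_shift (G := G) p (2 * c + 1)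
    rw [h1, Subgroup.comap_top] at h2
    have : 2 * (c + 1) + 1 = 2 * c + 1 + 2 := by ring
    rw [this]
    exact h2

end main

/-- The p-length of a p-soluble group is at most the nilpotency class of its Sylow p-subgroups. -/
theorem result {G : Type*} [Group G] [Finite G] {p : ℕ} [Fact p.Prime] (hsol : Cfsg.IsPSolvable p G) (S : Sylow p G) : Cfsg.PLengthLE p (Group.nilpotencyClass ↥(S : Subgroup G)) G := by
  unfold PLengthLE
  exact pLength_main p _ G hsol S le_rfl

end Cfsg.Agent.S0635
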