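import Cfsg.Statements.S3294
import Cfsg.Agent.Lib.Helper55_Fitting

set_option autoImplicit false
open Cfsg

namespace Cfsg.Agent.S3294

open Cfsg.Agent.Lib Subgroup

/-! ### Facts about generalized quaternion groups, seen through an injective homomorphism -/

section quat

variable {Q : Type*} [Group Q] {m : ℕ} [NeZero m]
open QuaternionGroup

theorem quat_mem_zpowers_or (F : QuaternionGroup m →* Q) (q : QuaternionGroup m) :
    F q ∈ zpowers (F (a 1)) ∨ ∃ i, q = xa i := by
  cases q with
  | a i =>
    left
    refine ⟨(i.val : ℤ), ?_⟩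
    show F (a 1) ^ (i.val : ℤ) = F (a i)
    rw [zpow_natCast, ← map_pow, a_one_pow, ZMod.natCast_zmod_val]
  | xa i => right; exact ⟨i, rfl⟩

theorem quat_order (F : QuaternionGroup m →* Q) (hF : Function.Injective F) :
    orderOf (F (a 1)) = 2 * m := by
  rw [orderOf_injective F hF, orderOf_a_one]

theorem quat_xa_order (F : QuaternionGroup m →* Q) (hF : Function.Injective F)
    (i : ZMod (2 * m)) : orderOf (F (xa i)) = 4 := by
  rw [orderOf_injective F hF, orderOf_xa]

theorem quat_xa_conj (F : QuaternionGroup m →* Q) (i : ZMod (2 * m)) :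
    F (xa i) * F (a 1) * (F (xa i))⁻¹ = (F (a 1))⁻¹ := by
  have h : (a 1 : QuaternionGroup m) * (xa i * a 1) = xa i := by
    rw [xa_mul_a, a_mul_xa]; simp
  have h' : F (a 1) * (F (xa i) * F (a 1)) = F (xa i) := by
    rw [← map_mul, ← map_mul, h]
  calc F (xa i) * F (a 1) * (F (xa i))⁻¹
      = (F (a 1))⁻¹ * (F (a 1) * (F (xa i) * F (a 1))) * (F (xa i))⁻¹ := by group
    _ = (F (a 1))⁻¹ := by rw [h']; group

theorem quat_xa_mul_inv (F : QuaternionGroup m →* Q) (i j : ZMod (2 * m)) :
    F (xa j) * (F (xa i))⁻¹ ∈ zpowers (F (a 1)) := by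
  have hinv : (xa i : QuaternionGroup m)⁻¹ = xa ((m : ZMod (2 * m)) + i) := by
    rw [inv_eq_iff_mul_eq_one, xa_mul_xa, ← a_zero]
    congr 1
    have : ((2 * m : ℕ) : ZMod (2 * m)) = 0 := ZMod.natCast_self _
    push_cast at this
    linear_combination this
  rw [← map_inv, ← map_mul, hinv, xa_mul_xa]
  rcases quat_mem_zpowers_or F (a ((m : ZMod (2 * m)) + ((m : ZMod (2 * m)) + i) - j)) with h | ⟨k, hk⟩
  · exact h
  · cases hk

end quat

/-! ### Automorphisms of cyclic 2-groups -/

/-- The index of the centralizer of a normal cyclic `2`-subgroup is a power of `2`. -/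
theorem index_centralizer_cyclic_dvd {Q : Type*} [Group Q] [Finite Q] (K : Subgroup Q) [K.Normal]
    [IsCyclic K] (hK : IsPGroup 2 K) : ∃ j, (centralizer (K : Set Q)).index ∣ 2 ^ j := by
  classical
  have : Fact (Nat.Prime 2) := ⟨Nat.prime_two⟩
  obtain ⟨k, hk⟩ := IsPGroup.iff_card.mp hK
  refine ⟨k, ?_⟩
  set φ : Q →* MulAut K := MulAut.conjNormal with hφ
  have hker : φ.ker = centralizer (K : Set Q) := Helper55_Fitting.conjNormal_ker K
  rw [← hker, Subgroup.index_ker]
  have hd : Nat.card φ.range ∣ Nat.card (MulAut K) := Subgroup.card_subgroup_dvd_card _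
  rw [IsCyclic.card_mulAut, hk] at hd
  rcases Nat.eq_zero_or_pos k with h0 | h0
  · rw [h0, pow_zero, Nat.totient_one] at hd
    rw [Nat.dvd_one.mp hd]; exact one_dvd _
  · rw [Nat.totient_prime_pow Nat.prime_two h0] at hd
    simp only [Nat.add_one_sub_one, mul_one] at hd
    exact hd.trans (pow_dvd_pow 2 (Nat.sub_le k 1))

/-! ### Normal complements -/

theorem hasNormalPComplement_of_quotient_isPGroup {G : Type*} [Group G] [Finite G] (p : ℕ)
    [hp : Fact p.Prime] (N : Subgroup G) [N.Normal] (hN : (Nat.card N).Coprime p)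
    (hQ : IsPGroup p (G ⧸ N)) : Cfsg.HasNormalPComplement p G := by
  classical
  let P : Sylow p G := default
  refine ⟨P, N, inferInstance, ?_⟩
  obtain ⟨j, hj⟩ := IsPGroup.iff_card.mp hQ
  have h1 : Nat.card G = Nat.card (G ⧸ N) * Nat.card N := N.card_eq_card_quotient_mul_card_subgroup
  have hNpos : Nat.card N ≠ 0 := Nat.card_pos.ne'
  have hfac : (Nat.card G).factorization p = j := by
    rw [h1, hj, Nat.factorization_mul (pow_ne_zero _ hp.out.ne_zero) hNpos]
    simp only [Finsupp.coe_add, Pi.add_apply]
    rw [Nat.Prime.factorization_pow hp.out, Nat.factorization_eq_zero_of_not_dvd]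
    · simp
    · intro hdvd
      have := Nat.Coprime.eq_one_of_dvd hN.symm hdvd
      exact hp.out.one_lt.ne' this
  have hP : Nat.card (P : Subgroup G) = p ^ j := by rw [Sylow.card_eq_multiplicity, hfac]
  apply Subgroup.isComplement'_of_coprime
  · rw [hP, h1, hj, mul_comm]
  · rw [hP]
    exact Nat.Coprime.pow_right _ hN


/-! ### The main argument -/

/-- In a finite group `Q`, let `R` be a normal `2`-subgroup containing its centralizer and lying in a
subgroup `P` which looks like a generalized quaternion group of order at least `32` with respect to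
the element `α`. Then `Q` is a `2`-group. -/
theorem isPGroup_two_of_quatLike {Q : Type*} [Group Q] [Finite Q] (P R : Subgroup Q) [R.Normal]
    (hR2 : IsPGroup 2 R) (hRP : R ≤ P) (hcent : centralizer (R : Set Q) ≤ R)
    (α : Q) (hαP : α ∈ P) (k : ℕ) (hk : 3 ≤ k) (hα : orderOf α = 2 ^ (k + 1))
    (h2 : ∀ x ∈ P, x ∉ zpowers α → orderOf x = 4 ∧ x * α * x⁻¹ = α⁻¹)
    (h3 : ∀ x ∈ P, ∀ y ∈ P, x ∉ zpowers α → y ∉ zpowers α → y * x⁻¹ ∈ zpowers α) :
    IsPGroup 2 Q := by
  classical
  have : Fact (Nat.Prime 2) := ⟨Nat.prime_two⟩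
  by_cases hRA : R ≤ zpowers α
  · -- `R` is cyclic
    have hcyc : IsCyclic R := by
      have : IsCyclic (R.subgroupOf (zpowers α)) := inferInstance
      exact isCyclic_of_surjective _ (Subgroup.subgroupOfEquivOfLe hRA).surjective
    exact Helper55_Fitting.isPGroup_two_of_cyclic_normal R hR2 hcent
  · -- some element of `R` lies outside `⟨α⟩`
    obtain ⟨x, hxR, hxA⟩ := SetLike.not_le_iff_exists.mp hRA
    obtain ⟨hx4, hxα⟩ := h2 x (hRP hxR) hxA
    have hnR : R.Normal := inferInstance
    -- `α ^ 2 ∈ R`
    have hα2R : α ^ 2 ∈ R := by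
      have h1 : α * x * α⁻¹ ∈ R := hnR.conj_mem x hxR α
      have h2' : α * x * α⁻¹ * x⁻¹ ∈ R := R.mul_mem h1 (R.inv_mem hxR)
      have h3' : α * x * α⁻¹ * x⁻¹ = α ^ 2 := by
        have : x * α⁻¹ * x⁻¹ = α := by
          have := congrArg (·⁻¹) hxα
          simp only [mul_inv_rev, inv_inv] at this
          rw [← mul_assoc] at this
          exact this
        calc α * x * α⁻¹ * x⁻¹ = α * (x * α⁻¹ * x⁻¹) := by group
          _ = α ^ 2 := by rw [this, sq]
      rwa [h3'] at h2'
    have hα2ord : orderOf (α ^ 2) = 2 ^ k := by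
      rw [orderOf_pow_of_dvd (by norm_num) (by rw [hα, pow_succ]; exact dvd_mul_left 2 _), hα,
        pow_succ, Nat.mul_div_cancel _ (by norm_num : 0 < 2)]
    have h8 : 8 ≤ 2 ^ k := by
      calc 8 = 2 ^ 3 := by norm_num
        _ ≤ 2 ^ k := Nat.pow_le_pow_right (by norm_num) hk
    -- the characteristic cyclic subgroup
    set S : Set Q := {r | r ∈ R ∧ 8 ≤ orderOf r} with hS
    have hSconj : ∀ g r, r ∈ S → g * r * g⁻¹ ∈ S := by
      intro g r hr
      refine ⟨hnR.conj_mem r hr.1 g, ?_⟩
      have : orderOf (g * r * g⁻¹) = orderOf r := by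
        have := orderOf_injective (MulAut.conj g).toMonoidHom (MulAut.conj g).injective r
        simpa [MulAut.conj_apply] using this
      rw [this]; exact hr.2
    have hSA : S ⊆ zpowers α := by
      intro r hr
      by_contra hrA
      have := (h2 r (hRP hr.1) hrA).1
      have h8' := hr.2
      rw [this] at h8'
      omega
    set K : Subgroup Q := closure S with hK
    have hKn : K.Normal := by
      refine ⟨fun y hy g => ?_⟩
      have hle : K.map (MulAut.conj g).toMonoidHom ≤ K := by
        rw [hK, MonoidHom.map_closure, closure_le]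
        rintro _ ⟨y, hy, rfl⟩
        exact subset_closure (by simpa [MulAut.conj_apply] using hSconj g y hy)
      exact hle ⟨y, hy, by simp [MulAut.conj_apply]⟩
    have hKA : K ≤ zpowers α := (closure_le _).mpr hSA
    have hKR : K ≤ R := (closure_le _).mpr (fun r hr => hr.1)
    have hKcyc : IsCyclic K := by
      have : IsCyclic (K.subgroupOf (zpowers α)) := inferInstance
      exact isCyclic_of_surjective _ (Subgroup.subgroupOfEquivOfLe hKA).surjective
    have hK2 : IsPGroup 2 K := hR2.to_le hKR
    have hα2K : α ^ 2 ∈ K := subset_closure ⟨hα2R, by rw [hα2ord]; exact h8⟩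
    -- `R ∩ ⟨α⟩ ≤ K`
    have hRAK : ∀ r ∈ R, r ∈ zpowers α → r ∈ K := by
      intro r hrR hrA
      obtain ⟨i, hi⟩ := mem_zpowers_iff.mp hrA
      rcases Int.even_or_odd' i with ⟨j, rfl | rfl⟩
      · rw [← hi, zpow_mul, zpow_two, ← sq]
        exact K.zpow_mem hα2K j
      · -- then `α ∈ R`, hence `α ∈ K`
        have hαR : α ∈ R := by
          have h1 : (α ^ 2) ^ j ∈ R := R.zpow_mem hα2R j
          have h2' : ((α ^ 2) ^ j)⁻¹ * r ∈ R := R.mul_mem (R.inv_mem h1) hrR
          have : ((α ^ 2) ^ j)⁻¹ * r = α := by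
            rw [← hi, zpow_add, zpow_mul, zpow_two, ← sq, zpow_one]
            group
          rwa [this] at h2'
        have hαK : α ∈ K := subset_closure ⟨hαR, by
          rw [hα, pow_succ]
          omega⟩
        rw [← hi]
        exact K.zpow_mem hαK _
    -- odd order elements of the centralizer of `K` are trivial
    have hodd : ∀ g ∈ centralizer (K : Set Q), Odd (orderOf g) → g = 1 := by
      intro g hg hgo
      have hgK : ∀ w ∈ K, g * w = w * g := fun w hw => ((mem_centralizer_iff.mp hg) w hw).symm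
      have hgR : g ∈ centralizer (R : Set Q) := by
        rw [mem_centralizer_iff]
        intro r hrR
        by_cases hrA : r ∈ zpowers α
        · exact (hgK r (hRAK r hrR hrA)).symm
        · -- r outside ⟨α⟩
          set r' := g * r * g⁻¹ with hr'
          have hr'R : r' ∈ R := hnR.conj_mem r hrR g
          have hr'A : r' ∉ zpowers α := by
            intro h
            have h1 : r' ∈ K := hRAK r' hr'R h
            have h2' : g⁻¹ * r' * (g⁻¹)⁻¹ ∈ K := hKn.conj_mem r' h1 g⁻¹
            have : g⁻¹ * r' * (g⁻¹)⁻¹ = r := by rw [hr']; group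
            rw [this] at h2'
            exact hrA (hKA h2')
          set w := r' * r⁻¹ with hw
          have hwA : w ∈ zpowers α := h3 r (hRP hrR) r' (hRP hr'R) hrA hr'A
          have hwR : w ∈ R := R.mul_mem hr'R (R.inv_mem hrR)
          have hwK : w ∈ K := hRAK w hwR hwA
          have hgw : g * w = w * g := hgK w hwK
          -- iterate
          have hiter : ∀ j : ℕ, g ^ j * r * (g ^ j)⁻¹ = w ^ j * r := by
            intro j
            induction j with
            | zero => simp
            | succ j ih =>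
              have hgwj : g * w ^ j = w ^ j * g := by
                have : Commute g w := hgw
                exact (this.pow_right j).eq
              calc g ^ (j + 1) * r * (g ^ (j + 1))⁻¹
                  = g * (g ^ j * r * (g ^ j)⁻¹) * g⁻¹ := by rw [pow_succ']; group
                _ = g * (w ^ j * r) * g⁻¹ := by rw [ih]
                _ = (g * w ^ j) * (r * g⁻¹) := by group
                _ = (w ^ j * g) * (r * g⁻¹) := by rw [hgwj]
                _ = w ^ j * (g * r * g⁻¹) := by group
                _ = w ^ j * (w * r) := by rw [← hr', hw]; group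
                _ = w ^ (j + 1) * r := by rw [pow_succ]; group
          have hwj := hiter (orderOf g)
          rw [pow_orderOf_eq_one, one_mul, inv_one, mul_one] at hwj
          have hwpow : w ^ orderOf g = 1 := by
            have := congrArg (· * r⁻¹) hwj
            simpa using this.symm
          -- order of w is a power of two dividing an odd number
          have hwdvd : orderOf w ∣ orderOf g := orderOf_dvd_of_pow_eq_one hwpow
          obtain ⟨e, he⟩ := hR2 ⟨w, hwR⟩
          have hw2 : w ^ 2 ^ e = 1 := by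
            have := congrArg Subtype.val he
            simpa using this
          have hwdvd2 : orderOf w ∣ 2 ^ e := orderOf_dvd_of_pow_eq_one hw2
          have hw1 : orderOf w = 1 := by
            have hcop : Nat.Coprime (orderOf g) (2 ^ e) :=
              Nat.Coprime.pow_right e (Nat.Coprime.symm (Nat.coprime_two_left.mpr hgo))
            exact Nat.eq_one_of_dvd_coprimes hcop hwdvd hwdvd2
          have hw1' : w = 1 := orderOf_eq_one_iff.mp hw1
          have : r' = r := by
            have := hw
            rw [hw1'] at this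
            exact (mul_inv_eq_one.mp this.symm)
          rw [hr'] at this
          calc r * g = (g * r * g⁻¹) * g := by rw [this]
            _ = g * r := by group
      have hgRR : g ∈ R := hcent hgR
      obtain ⟨e, he⟩ := hR2 ⟨g, hgRR⟩
      have hg2 : g ^ 2 ^ e = 1 := by
        have := congrArg Subtype.val he
        simpa using this
      have hd : orderOf g ∣ 2 ^ e := orderOf_dvd_of_pow_eq_one hg2
      have hcop : Nat.Coprime (orderOf g) (2 ^ e) :=
        Nat.Coprime.pow_right e (Nat.Coprime.symm (Nat.coprime_two_left.mpr hgo))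
      have : orderOf g = 1 := Nat.eq_one_of_dvd_coprimes hcop dvd_rfl hd
      exact orderOf_eq_one_iff.mp this
    -- the centralizer of `K` is a 2-group
    have hC2 : IsPGroup 2 (centralizer (K : Set Q)) := by
      intro h
      obtain ⟨e, k', hk'odd, hk'⟩ := Nat.exists_eq_two_pow_mul_odd (orderOf_pos (h : Q)).ne'
      refine ⟨e, ?_⟩
      have hmem : (h : Q) ^ 2 ^ e ∈ centralizer (K : Set Q) := (centralizer (K : Set Q)).pow_mem h.2 _
      have hpow : ((h : Q) ^ 2 ^ e) ^ k' = 1 := by
        rw [← pow_mul, ← hk', pow_orderOf_eq_one]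
      have hoddord : Odd (orderOf ((h : Q) ^ 2 ^ e)) := by
        have hd : orderOf ((h : Q) ^ 2 ^ e) ∣ k' := orderOf_dvd_of_pow_eq_one hpow
        exact Odd.of_dvd_nat hk'odd hd
      have := hodd _ hmem hoddord
      exact Subtype.ext (by simpa using this)
    -- conclude by orders
    obtain ⟨j, hj⟩ := index_centralizer_cyclic_dvd K hK2
    obtain ⟨i, hi⟩ := IsPGroup.iff_card.mp hC2
    have hcard : Nat.card Q ∣ 2 ^ (i + j) := by
      rw [← (centralizer (K : Set Q)).card_mul_index, hi, pow_add]
      exact Nat.mul_dvd_mul_left _ hj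
    obtain ⟨l, _, hl⟩ := (Nat.dvd_prime_pow Nat.prime_two).mp hcard
    exact IsPGroup.of_card hl


theorem result {G : Type*} [Group G] [Finite G] (hsol : Group.IsSolvable G) (T : Sylow 2 G) (n : ℕ) (hn : 3 ≤ n) (hT : Nonempty ((T : Subgroup G) ≃* QuaternionGroup (2 ^ n))) : Cfsg.HasNormalPComplement 2 G := by
  classical
  have : Fact (Nat.Prime 2) := ⟨Nat.prime_two⟩
  obtain ⟨e⟩ := hT
  set N := Cfsg.pPrimeCore 2 G with hN
  have hNcop : (Nat.card N).Coprime 2 := Helper1_Cores.pPrimeCore_card_coprime 2
  have hsolQ : Group.IsSolvable (G ⧸ N) := inferInstance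
  have hO : Cfsg.pPrimeCore 2 (G ⧸ N) = ⊥ := Helper55_Fitting.pPrimeCore_quotient_pPrimeCore 2
  have hcent := Helper55_Fitting.centralizer_pCore_le (G := G ⧸ N) 2 hO
  have hπ : Function.Surjective (QuotientGroup.mk' N) := QuotientGroup.mk'_surjective N
  -- the embedding of the quaternion group into the quotient
  let F : QuaternionGroup (2 ^ n) →* G ⧸ N :=
    (QuotientGroup.mk' N).comp ((T : Subgroup G).subtype.comp e.symm.toMonoidHom)
  have hFapp : ∀ q, F q = ((e.symm q : (T : Subgroup G)) : G) := fun q => rfl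
  have hFinj : Function.Injective F := by
    rw [injective_iff_map_eq_one]
    intro q hq
    rw [hFapp, QuotientGroup.eq_one_iff] at hq
    set t := e.symm q with ht
    have h1 : orderOf (t : G) ∣ Nat.card N := by
      have := orderOf_dvd_natCard (⟨(t : G), hq⟩ : N)
      rwa [Subgroup.orderOf_mk] at this
    obtain ⟨k, hk⟩ := T.2 t
    have h2 : orderOf (t : G) ∣ 2 ^ k := by
      apply orderOf_dvd_of_pow_eq_one
      have := congrArg Subtype.val hk
      simpa using this
    have h3 : orderOf (t : G) = 1 :=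
      Nat.eq_one_of_dvd_coprimes (Nat.Coprime.pow_right k hNcop) h1 h2
    have h4 : (t : G) = 1 := orderOf_eq_one_iff.mp h3
    have h5 : t = 1 := Subtype.ext h4
    have : q = e t := by rw [ht, MulEquiv.apply_symm_apply]
    rw [this, h5, map_one]
  -- `O_2` of the quotient lies in the image of `T`
  have hRP : Cfsg.pCore 2 (G ⧸ N) ≤ F.range := by
    have h1 := Helper1_Cores.pCore_le_sylow 2 (T.mapSurjective hπ)
    intro r hr
    have h2 := h1 hr
    rw [Sylow.coe_mapSurjective] at h2
    obtain ⟨t, htT, rfl⟩ := h2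
    refine ⟨e ⟨t, htT⟩, ?_⟩
    rw [hFapp, MulEquiv.symm_apply_apply]
    rfl
  have hR2 : IsPGroup 2 (Cfsg.pCore 2 (G ⧸ N)) := Helper1_Cores.pCore_isPGroup 2
  have hQ2 : IsPGroup 2 (G ⧸ N) := by
    refine isPGroup_two_of_quatLike F.range (Cfsg.pCore 2 (G ⧸ N)) hR2 hRP hcent
      (F (QuaternionGroup.a 1)) ⟨_, rfl⟩ n hn ?_ ?_ ?_
    · rw [quat_order F hFinj, pow_succ, mul_comm]
    · rintro x ⟨q, rfl⟩ hx
      rcases quat_mem_zpowers_or F q with h | ⟨i, rfl⟩
      · exact absurd h hx
      · exact ⟨quat_xa_order F hFinj i, quat_xa_conj F i⟩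
    · rintro x ⟨q, rfl⟩ y ⟨q', rfl⟩ hx hy
      rcases quat_mem_zpowers_or F q with h | ⟨i, rfl⟩
      · exact absurd h hx
      · rcases quat_mem_zpowers_or F q' with h' | ⟨j, rfl⟩
        · exact absurd h' hy
        · exact quat_xa_mul_inv F i j
  exact hasNormalPComplement_of_quotient_isPGroup 2 N hNcop hQ2

end Cfsg.Agent.S3294
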