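import Mathlib
import Cfsg.Statements.S4227
import Cfsg.Agent.S0635
import Cfsg.Agent.Lib.Helper55_Fitting
import Cfsg.Agent.Lib.Helper3_CharBurnside
import Cfsg.Agent.Lib.Helper1_Frattini
import Cfsg.Agent.Lib.Helper1_Cores
import Cfsg.Agent.Lib.Helper32_Cores

set_option autoImplicit false
open Cfsg

namespace Cfsg.Agent.S4227

universe u

section basic

variable {G : Type u} [Group G]

theorem exp6_quotient (h : ∀ x : G, x ^ 6 = 1) (N : Subgroup G) [N.Normal] :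
    ∀ x : G ⧸ N, x ^ 6 = 1 := by
  intro x
  obtain ⟨g, rfl⟩ := QuotientGroup.mk_surjective x
  rw [← QuotientGroup.mk_pow, h g]
  rfl

theorem prime_dvd_card [Finite G] (h : ∀ x : G, x ^ 6 = 1) (r : ℕ) (hr : r.Prime)
    (hd : r ∣ Nat.card G) : r = 2 ∨ r = 3 := by
  have : Fact r.Prime := ⟨hr⟩
  obtain ⟨g, hg⟩ := exists_prime_orderOf_dvd_card' r hd
  have h1 : orderOf g ∣ 6 := orderOf_dvd_of_pow_eq_one (h g)
  rw [hg] at h1
  have h2 : r ≤ 6 := Nat.le_of_dvd (by norm_num) h1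
  have h3 : 2 ≤ r := hr.two_le
  interval_cases r
  · left; rfl
  · right; rfl
  · exact absurd h1 (by norm_num)
  · exact absurd h1 (by norm_num)
  · exact absurd hr (by norm_num)

theorem isSolvable_of_exp6 [Finite G] (h : ∀ x : G, x ^ 6 = 1) : Group.IsSolvable G :=
  Cfsg.Agent.Lib.Helper3_CharBurnside.isSolvable_of_two_primes 2 3 Nat.prime_two Nat.prime_three
    _ G rfl (prime_dvd_card h)

/-- `2`-elements are involutions -/
theorem sq_eq_one_of_two_pow (h : ∀ x : G, x ^ 6 = 1) (x : G) (k : ℕ) (hx : x ^ 2 ^ k = 1) :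
    x ^ 2 = 1 := by
  have h1 : orderOf x ∣ 6 := orderOf_dvd_of_pow_eq_one (h x)
  have h2 : orderOf x ∣ 2 ^ k := orderOf_dvd_of_pow_eq_one hx
  have h3 : orderOf x ∣ Nat.gcd 6 (2 ^ k) := Nat.dvd_gcd h1 h2
  have h4 : Nat.gcd 6 (2 ^ k) ∣ 2 := by
    have : Nat.Coprime 3 (2 ^ k) := Nat.Coprime.pow_right k (by norm_num)
    have h5 : Nat.gcd (3 * 2) (2 ^ k) ∣ 2 := by
      rw [Nat.Coprime.gcd_mul_left_cancel _ this]
      exact Nat.gcd_dvd_left _ _
    simpa using h5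
  exact orderOf_dvd_iff_pow_eq_one.mp (h3.trans h4)

/-- `3`-elements have order dividing `3` -/
theorem cube_eq_one_of_three_pow (h : ∀ x : G, x ^ 6 = 1) (x : G) (k : ℕ) (hx : x ^ 3 ^ k = 1) :
    x ^ 3 = 1 := by
  have h1 : orderOf x ∣ 6 := orderOf_dvd_of_pow_eq_one (h x)
  have h2 : orderOf x ∣ 3 ^ k := orderOf_dvd_of_pow_eq_one hx
  have h3 : orderOf x ∣ Nat.gcd 6 (3 ^ k) := Nat.dvd_gcd h1 h2
  have h4 : Nat.gcd 6 (3 ^ k) ∣ 3 := by
    have : Nat.Coprime 2 (3 ^ k) := Nat.Coprime.pow_right k (by norm_num)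
    have h5 : Nat.gcd (2 * 3) (3 ^ k) ∣ 3 := by
      rw [Nat.Coprime.gcd_mul_left_cancel _ this]
      exact Nat.gcd_dvd_left _ _
    simpa using h5
  exact orderOf_dvd_iff_pow_eq_one.mp (h3.trans h4)

/-- the order of a finite group of exponent `6` not divisible by `2` is a power of `3` etc. -/
theorem isPGroup_of_not_dvd [Finite G] (h : ∀ x : G, x ^ 6 = 1) (p q : ℕ) [Fact p.Prime]
    (hpq : (p = 2 ∧ q = 3) ∨ (p = 3 ∧ q = 2)) (H : Subgroup G)
    (hH : (Nat.card H).Coprime q) : IsPGroup p H := by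
  have hp : p.Prime := Fact.out
  have hpos : Nat.card H ≠ 0 := Nat.card_pos.ne'
  refine IsPGroup.of_card (n := (Nat.card H).primeFactorsList.length)
    (Nat.eq_prime_pow_of_unique_prime_dvd hpos ?_)
  intro r hr hd
  have h1 : r ∣ Nat.card G := hd.trans (Subgroup.card_subgroup_dvd_card H)
  have h2 := prime_dvd_card h r hr h1
  have h3 : ¬ q ∣ Nat.card H := by
    intro hq
    have := Nat.Coprime.eq_one_of_dvd hH.symm hq
    rcases hpq with ⟨_, rfl⟩ | ⟨_, rfl⟩ <;> omega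
  rcases hpq with ⟨rfl, rfl⟩ | ⟨rfl, rfl⟩
  · rcases h2 with rfl | rfl
    · rfl
    · exact absurd hd h3
  · rcases h2 with rfl | rfl
    · exact absurd hd h3
    · rfl

end basic


section plength

variable {G : Type u} [Group G]

/-- `p`-length at most one from the index of `O_p(G / O_{p'}(G))`. -/
theorem pLengthLE_one_of_not_dvd [Finite G] (p : ℕ) [Fact p.Prime]
    (h : ¬ p ∣ (pCore p (G ⧸ pPrimeCore p G)).index) : PLengthLE p 1 G := by
  have hp : p.Prime := Fact.out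
  unfold PLengthLE
  have h2 := Cfsg.Agent.S0635.upperPSeries_shift (G := G) p 1
  have hU2 : (upperPSeries p G 2).1 = pPrimePCore p G := Cfsg.Agent.S0635.upperPSeries_two p
  -- the quotient by `U₂` has order prime to `p`
  have hidx : (upperPSeries p G 2).1.index = (pCore p (G ⧸ pPrimeCore p G)).index := by
    rw [hU2]
    unfold pPrimePCore
    exact Subgroup.index_comap_of_surjective _ (QuotientGroup.mk'_surjective _)
  have hcard : ¬ p ∣ Nat.card (G ⧸ (upperPSeries p G 2).1) := by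
    rw [← Subgroup.index_eq_card, hidx]
    exact h
  have htop : (upperPSeries p (G ⧸ (upperPSeries p G 2).1) 1).1 = ⊤ := by
    rw [Cfsg.Agent.S0635.upperPSeries_one]
    apply top_le_iff.mp
    apply Cfsg.Agent.Lib.Helper32_Cores.le_pPrimeCore inferInstance
    rw [Subgroup.card_top]
    exact ((Nat.Prime.coprime_iff_not_dvd hp).mpr hcard).symm
  show (upperPSeries p G (1 + 2)).1 = ⊤
  rw [h2, htop, Subgroup.comap_top]

end plength

section fitting

variable {X : Type u} [Group X]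

/-- In a finite solvable group with `O_{p'} = 1` the `p`-core contains its centralizer. -/
theorem centralizer_pCore_le [Finite X] [Group.IsSolvable X] (p : ℕ) [Fact p.Prime]
    (hcore : pPrimeCore p X = ⊥) :
    Subgroup.centralizer (pCore p X : Set X) ≤ pCore p X := by
  have hF : fittingSubgroup X = pCore p X := by
    rw [Cfsg.Agent.Lib.Helper1_Cores.fittingSubgroup_eq_iSup_pCore]
    apply le_antisymm
    · apply iSup_le
      intro q
      by_cases hq : (q : ℕ) = p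
      · rw [hq]
      · have : Fact (q : ℕ).Prime := ⟨q.2⟩
        have h1 : pCore (q : ℕ) X ≤ pPrimeCore p X := by
          apply Cfsg.Agent.Lib.Helper1_Cores.le_pPrimeCore inferInstance
          have hqg : IsPGroup (q : ℕ) (pCore (q : ℕ) X) :=
            Cfsg.Agent.Lib.Helper1_Cores.pCore_isPGroup (q : ℕ)
          obtain ⟨n, hn⟩ := hqg.exists_card_eq
          rw [hn]
          apply Nat.Coprime.pow_left
          exact (Nat.coprime_primes q.2 Fact.out).mpr hq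
        rw [hcore] at h1
        exact h1.trans bot_le
    · have hp : p.Prime := Fact.out
      exact le_iSup (fun q : Nat.Primes => pCore (q : ℕ) X) ⟨p, hp⟩
  have := Cfsg.Agent.Lib.Helper55_Fitting.centralizer_fittingSubgroup_le (G := X)
  rwa [hF] at this

/-- `O_p(X / O_p(X)) = 1`. -/
theorem pCore_quotient_pCore [Finite X] (p : ℕ) [Fact p.Prime] :
    pCore p (X ⧸ pCore p X) = ⊥ := by
  set V := pCore p X with hV
  set K := (pCore p (X ⧸ V)).comap (QuotientGroup.mk' V) with hK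
  have hKn : K.Normal := Subgroup.Normal.comap inferInstance _
  have hKp : IsPGroup p K := by
    have h1 : IsPGroup p (pCore p (X ⧸ V)) := Cfsg.Agent.Lib.Helper1_Cores.pCore_isPGroup p
    have h2 : IsPGroup p V := Cfsg.Agent.Lib.Helper1_Cores.pCore_isPGroup p
    -- extension of a `p`-group by a `p`-group
    intro ⟨g, hg⟩
    have hg' : QuotientGroup.mk' V g ∈ pCore p (X ⧸ V) := hg
    obtain ⟨k, hk⟩ := h1 ⟨_, hg'⟩
    have hk' : (QuotientGroup.mk' V g) ^ p ^ k = 1 := by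
      have := congrArg Subtype.val hk
      simpa using this
    rw [← map_pow, QuotientGroup.mk'_apply, QuotientGroup.eq_one_iff] at hk'
    obtain ⟨l, hl⟩ := h2 ⟨_, hk'⟩
    have hl' : (g ^ p ^ k) ^ p ^ l = 1 := by
      have := congrArg Subtype.val hl
      simpa using this
    refine ⟨k + l, ?_⟩
    apply Subtype.ext
    simp only [Subgroup.coe_pow, Subgroup.coe_one]
    rw [pow_add, pow_mul]
    exact hl'
  have hKV : K ≤ V := Cfsg.Agent.Lib.Helper1_Cores.le_pCore hKn hKp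
  rw [eq_bot_iff]
  intro z hz
  obtain ⟨g, rfl⟩ := QuotientGroup.mk_surjective z
  have hg : g ∈ K := hz
  rw [Subgroup.mem_bot]
  exact (QuotientGroup.eq_one_iff g).mpr (hKV hg)

end fitting


section two

variable {X : Type u} [Group X]

theorem two_not_dvd_index [Finite X] (h6 : ∀ x : X, x ^ 6 = 1) (hcore : pPrimeCore 2 X = ⊥) :
    ¬ 2 ∣ (pCore 2 X).index := by
  have : Fact (Nat.Prime 2) := ⟨Nat.prime_two⟩
  have : Group.IsSolvable X := isSolvable_of_exp6 h6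
  have hC := centralizer_pCore_le (X := X) 2 hcore
  obtain ⟨S⟩ : Nonempty (Sylow 2 X) := inferInstance
  have hle : pCore 2 X ≤ S := Cfsg.Agent.Lib.Helper1_Cores.pCore_le_sylow 2 S
  have hS2 : ∀ s ∈ (S : Subgroup X), s ^ 2 = 1 := by
    intro s hs
    obtain ⟨k, hk⟩ := S.isPGroup' ⟨s, hs⟩
    have hk' : s ^ 2 ^ k = 1 := by
      have := congrArg Subtype.val hk
      simpa using this
    exact sq_eq_one_of_two_pow h6 s k hk'
  have hcomm : ∀ s ∈ (S : Subgroup X), ∀ t ∈ (S : Subgroup X), s * t = t * s := by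
    intro s hs t ht
    have h1 := hS2 s hs
    have h2 := hS2 t ht
    have h3 := hS2 (s * t) (Subgroup.mul_mem _ hs ht)
    have e1 : s⁻¹ = s := by rw [inv_eq_iff_mul_eq_one, ← sq, h1]
    have e2 : t⁻¹ = t := by rw [inv_eq_iff_mul_eq_one, ← sq, h2]
    have e3 : (s * t)⁻¹ = s * t := by rw [inv_eq_iff_mul_eq_one, ← sq, h3]
    rw [mul_inv_rev, e1, e2] at e3
    exact e3.symm
  have hSle : (S : Subgroup X) ≤ pCore 2 X := by
    intro s hs
    apply hC
    rw [Subgroup.mem_centralizer_iff]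
    intro t ht
    exact hcomm t (hle ht) s hs
  have : pCore 2 X = S := le_antisymm hle hSle
  rw [this]
  exact S.not_dvd_index

end two


section core

variable {Z : Type u} [Group Z]

/-- conjugation -/
def kap (g v : Z) : Z := g * v * g⁻¹

theorem kap_mul (g u v : Z) : kap g (u * v) = kap g u * kap g v := by unfold kap; group

theorem kap_inv (g v : Z) : kap g v⁻¹ = (kap g v)⁻¹ := by unfold kap; group

theorem kap_one (g : Z) : kap g 1 = 1 := by unfold kap; group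

theorem kap_mem (V : Subgroup Z) [hV : V.Normal] (g : Z) {v : Z} (hv : v ∈ V) : kap g v ∈ V :=
  hV.conj_mem v hv g

theorem kap_kap (g h v : Z) : kap g (kap h v) = kap (g * h) v := by unfold kap; group

theorem eq_one_of_sq_of_cube {u : Z} (h2 : u ^ 2 = 1) (h3 : u ^ 3 = 1) : u = 1 := by
  have : u ^ 3 = u ^ 2 * u := pow_succ u 2
  rw [h3, h2, one_mul] at this
  exact this.symm

theorem eq_one_of_inverted (V : Subgroup Z) [V.Normal]
    (hVc : ∀ u ∈ V, ∀ v ∈ V, u * v = v * u) (hV3 : ∀ v ∈ V, v ^ 3 = 1)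
    (h6 : ∀ g : Z, g ^ 6 = 1) (y : Z) (hy : y ^ 3 = 1) (u : Z) (hu : u ∈ V) (g : Z)
    (h0 : kap g u = u) (h1 : kap g (kap y u) = (kap y u)⁻¹)
    (h2 : kap g (kap y (kap y u)) = (kap y (kap y u))⁻¹) : u = 1 := by
  set u1 := kap y u with hu1
  set u2 := kap y u1 with hu2
  have hu1V : u1 ∈ V := kap_mem V y hu
  have hu2V : u2 ∈ V := kap_mem V y hu1V
  have hN : (y * u) ^ 3 = u1 * u2 * u := by
    have e : (y * u) ^ 3 = (y * u * y⁻¹) * (y * (y * u * y⁻¹) * y⁻¹) * y ^ 3 * u := by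
      rw [pow_succ, pow_succ, pow_one, pow_succ, pow_succ, pow_one]
      group
    rw [e, hy, mul_one]
    rfl
  have hNV : u1 * u2 * u ∈ V := V.mul_mem (V.mul_mem hu1V hu2V) hu
  have hN1 : u1 * u2 * u = 1 := by
    apply eq_one_of_sq_of_cube _ (hV3 _ hNV)
    rw [← hN, ← pow_mul]
    exact h6 _
  have hgN : kap g (u1 * u2 * u) = u1⁻¹ * u2⁻¹ * u := by
    rw [kap_mul, kap_mul, h0, h1, h2]
  rw [hN1, kap_one] at hgN
  -- `u = (u1 u2)⁻¹` and `u = u1 u2`
  have e1 : u = (u1 * u2)⁻¹ := by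
    rw [eq_inv_iff_mul_eq_one, hVc u hu _ (V.mul_mem hu1V hu2V)]
    exact hN1
  have e2 : u = u1 * u2 := by
    have : u1⁻¹ * u2⁻¹ * u = 1 := hgN.symm
    have h3 : u = (u1⁻¹ * u2⁻¹)⁻¹ := by
      rw [eq_inv_iff_mul_eq_one, hVc u hu _ (V.mul_mem (V.inv_mem hu1V) (V.inv_mem hu2V))]
      exact this
    rw [h3, mul_inv_rev, inv_inv, inv_inv]
    exact hVc _ hu2V _ hu1V
  have e3 : u = u⁻¹ := by
    conv_lhs => rw [e1, ← e2]
  have e4 : u ^ 2 = 1 := by
    rw [sq]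
    nth_rewrite 1 [e3]
    exact inv_mul_cancel u
  exact eq_one_of_sq_of_cube e4 (hV3 u hu)

theorem core (V : Subgroup Z) [V.Normal]
    (hVc : ∀ u ∈ V, ∀ v ∈ V, u * v = v * u) (hV3 : ∀ v ∈ V, v ^ 3 = 1)
    (h6 : ∀ g : Z, g ^ 6 = 1)
    (b c y : Z) (hy : y ^ 3 = 1)
    (hb2 : ∀ v ∈ V, kap b (kap b v) = v)
    (hc2 : ∀ v ∈ V, kap c (kap c v) = v)
    (hbc : ∀ v ∈ V, kap b (kap c v) = kap c (kap b v))
    (R1 : ∀ v ∈ V, kap b (kap y v) = kap y (kap c v))
    (R2 : ∀ v ∈ V, kap c (kap y v) = kap y (kap b (kap c v))) :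
    ∀ v ∈ V, kap b v = v := by
  by_contra hcon
  push Not at hcon
  obtain ⟨v0, hv0, hne⟩ := hcon
  set u' := v0⁻¹ * kap b v0 with hu'
  have hu'V : u' ∈ V := V.mul_mem (V.inv_mem hv0) (kap_mem V b hv0)
  have hu'ne : u' ≠ 1 := by
    intro h
    apply hne
    rw [hu', inv_mul_eq_one] at h
    exact h.symm
  have hbu' : kap b u' = u'⁻¹ := by
    rw [hu', kap_mul, kap_inv, hb2 v0 hv0, mul_inv_rev, inv_inv]
  clear_value u'
  set w := kap c u' with hw
  have hwV : w ∈ V := kap_mem V c hu'V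
  have hbw : kap b w = w⁻¹ := by
    rw [hw, hbc u' hu'V, hbu', kap_inv]
  have hcw : kap c w = u' := hc2 u' hu'V
  clear_value w
  -- the two candidate eigenvectors
  have hup : u' * w = 1 := by
    have hupV : u' * w ∈ V := V.mul_mem hu'V hwV
    have hc_up : kap c (u' * w) = u' * w := by
      rw [kap_mul, hcw, ← hw]
      exact hVc _ hwV _ hu'V
    have hb_up : kap b (u' * w) = (u' * w)⁻¹ := by
      rw [kap_mul, hbu', hbw, mul_inv_rev]
      exact hVc _ (V.inv_mem hu'V) _ (V.inv_mem hwV)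
    have hby : kap b (kap y (u' * w)) = kap y (u' * w) := by
      rw [R1 _ hupV, hc_up]
    apply eq_one_of_inverted V hVc hV3 h6 y hy (u' * w) hupV c hc_up
    · rw [R2 _ hupV, hc_up, hb_up, kap_inv]
    · rw [R2 _ (kap_mem V y hupV), R2 _ hupV, hc_up, hb_up, kap_inv, kap_inv, hby, kap_inv]
  have hum : u' * w⁻¹ = 1 := by
    have humV : u' * w⁻¹ ∈ V := V.mul_mem hu'V (V.inv_mem hwV)
    have hc_um : kap c (u' * w⁻¹) = (u' * w⁻¹)⁻¹ := by
      rw [kap_mul, kap_inv, hcw, ← hw, mul_inv_rev, inv_inv]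
    have hb_um : kap b (u' * w⁻¹) = (u' * w⁻¹)⁻¹ := by
      rw [kap_mul, kap_inv, hbu', hbw, mul_inv_rev, inv_inv]
      exact hVc _ (V.inv_mem hu'V) _ hwV
    have hbc_um : kap b (kap c (u' * w⁻¹)) = u' * w⁻¹ := by
      rw [hc_um, kap_inv, hb_um, inv_inv]
    have hcy : kap c (kap y (u' * w⁻¹)) = kap y (u' * w⁻¹) := by
      rw [R2 _ humV, hbc_um]
    have h1 : kap b (kap c (kap y (u' * w⁻¹))) = (kap y (u' * w⁻¹))⁻¹ := by
      rw [hcy, R1 _ humV, hc_um, kap_inv]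
    apply eq_one_of_inverted V hVc hV3 h6 y hy (u' * w⁻¹) humV (b * c)
    · rw [← kap_kap, hbc_um]
    · rw [← kap_kap, h1]
    · rw [← kap_kap, R2 _ (kap_mem V y humV), h1, kap_inv, kap_inv, R1 _ (kap_mem V y humV), hcy]
  -- conclusion
  have e1 : w = u'⁻¹ := (eq_inv_of_mul_eq_one_right hup)
  have e2 : w⁻¹ = u'⁻¹ := (eq_inv_of_mul_eq_one_right hum)
  have e3 : u' ^ 2 = 1 := by
    rw [sq]
    have : u' = w := by rw [← inv_inj, e2]
    nth_rewrite 2 [this]
    exact hup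
  exact hu'ne (eq_one_of_sq_of_cube e3 (hV3 u' hu'V))

end core


section burn

variable {X : Type u} [Group X]

theorem centralizes_of_comm_mem_frattini [Finite X] (V : Subgroup X)
    (hV3 : ∀ v ∈ V, v ^ 3 = 1) (b : X) (hb : b ^ 2 = 1)
    (h : ∀ v ∈ V, v⁻¹ * (b * v * b⁻¹) ∈ (frattini V).map V.subtype) :
    ∀ v ∈ V, b * v * b⁻¹ = v := by
  have hbinv : b⁻¹ = b := by rw [inv_eq_iff_mul_eq_one, ← sq, hb]
  set K : Subgroup V := (Subgroup.centralizer ({b} : Set X)).subgroupOf V with hK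
  have hsup : K ⊔ frattini V = ⊤ := by
    rw [eq_top_iff]
    rintro ⟨v, hv⟩ -
    obtain ⟨⟨w, hwV⟩, hwF, hw⟩ := h v hv
    have hw' : w = v⁻¹ * (b * v * b⁻¹) := hw
    have hw3 : w ^ 3 = 1 := hV3 w hwV
    have hwinv : w⁻¹ = w ^ 2 := by
      rw [inv_eq_iff_mul_eq_one, ← pow_succ']
      exact hw3
    -- `b w b⁻¹ = w⁻¹`
    have hbw : b * w * b⁻¹ = w⁻¹ := by
      rw [hw']
      have : b * (v⁻¹ * (b * v * b⁻¹)) * b⁻¹ = (b * v * b⁻¹)⁻¹ * (b ^ 2 * v * (b ^ 2)⁻¹) := by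
        group
      rw [this, hb]
      group
    have hbv : b * v * b⁻¹ = v * w := by rw [hw']; group
    have hcV : v * w⁻¹ ∈ V := V.mul_mem hv (V.inv_mem hwV)
    have hc : (⟨v * w⁻¹, hcV⟩ : V) ∈ K := by
      rw [hK, Subgroup.mem_subgroupOf, Subgroup.mem_centralizer_iff]
      intro t ht
      rw [Set.mem_singleton_iff] at ht
      subst ht
      show t * (v * w⁻¹) = v * w⁻¹ * t
      have e : t * (v * w⁻¹) * t⁻¹ = (t * v * t⁻¹) * (t * w * t⁻¹)⁻¹ := by group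
      have e2 : t * (v * w⁻¹) * t⁻¹ = v * w⁻¹ := by
        rw [e, hbv, hbw, inv_inv, mul_assoc, ← sq, ← hwinv]
      calc t * (v * w⁻¹) = t * (v * w⁻¹) * t⁻¹ * t := by group
        _ = v * w⁻¹ * t := by rw [e2]
    have hdecomp : (⟨v, hv⟩ : V) = ⟨v * w⁻¹, hcV⟩ * ⟨w, hwV⟩ := by
      apply Subtype.ext
      show v = v * w⁻¹ * w
      group
    rw [hdecomp]
    exact Subgroup.mul_mem_sup hc hwF
  have hKtop : K = ⊤ := frattini_nongenerating hsup
  intro v hv
  have : (⟨v, hv⟩ : V) ∈ K := by rw [hKtop]; trivial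
  rw [hK, Subgroup.mem_subgroupOf, Subgroup.mem_centralizer_iff] at this
  have h1 : b * v = v * b := this b rfl
  rw [h1]
  group

end burn


section three

open scoped commutatorElement

theorem kap_eq_of_mul_inv_mem {Z : Type u} [Group Z] (V : Subgroup Z) [V.Normal]
    (hVc : ∀ u ∈ V, ∀ v ∈ V, u * v = v * u) {g h : Z} (hgh : g * h⁻¹ ∈ V) {v : Z} (hv : v ∈ V) :
    kap g v = kap h v := by
  have h1 : kap g v = kap (g * h⁻¹) (kap h v) := by
    rw [kap_kap, inv_mul_cancel_right]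
  rw [h1]
  have h2 : kap h v ∈ V := kap_mem V h hv
  unfold kap at h2 ⊢
  rw [hVc _ hgh _ h2]
  group

theorem comm_of_sq {Y : Type u} [Group Y] (Q : Subgroup Y) (hQ2 : ∀ q ∈ Q, q ^ 2 = 1) :
    ∀ s ∈ Q, ∀ t ∈ Q, s * t = t * s := by
  intro s hs t ht
  have h1 := hQ2 s hs
  have h2 := hQ2 t ht
  have h3 := hQ2 (s * t) (Subgroup.mul_mem _ hs ht)
  have e1 : s⁻¹ = s := by rw [inv_eq_iff_mul_eq_one, ← sq, h1]
  have e2 : t⁻¹ = t := by rw [inv_eq_iff_mul_eq_one, ← sq, h2]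
  have e3 : (s * t)⁻¹ = s * t := by rw [inv_eq_iff_mul_eq_one, ← sq, h3]
  rw [mul_inv_rev, e1, e2] at e3
  exact e3.symm

theorem klein_relations {Y : Type u} [Group Y] (Q : Subgroup Y) [hQn : Q.Normal]
    (hQ2 : ∀ q ∈ Q, q ^ 2 = 1) (y q : Y) (hy : y ^ 3 = 1) (hq : q ∈ Q) (hne : q * y ≠ y * q) :
    ∃ b ∈ Q, b ≠ 1 ∧ b * (y⁻¹ * b * y) = (y⁻¹ * b * y) * b ∧
      y⁻¹ * (y⁻¹ * b * y) * y = b * (y⁻¹ * b * y) := by
  have hcomm := comm_of_sq Q hQ2
  have hconj : ∀ t ∈ Q, y⁻¹ * t * y ∈ Q := by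
    intro t ht
    have := hQn.conj_mem t ht y⁻¹
    rwa [inv_inv] at this
  set q1 := y⁻¹ * q * y with hq1
  set q2 := y⁻¹ * q1 * y with hq2
  have hq1Q : q1 ∈ Q := hconj q hq
  have hq2Q : q2 ∈ Q := hconj q1 hq1Q
  have hq3 : y⁻¹ * q2 * y = q := by
    have e : y⁻¹ * q2 * y = (y ^ 3)⁻¹ * q * y ^ 3 := by
      rw [hq2, hq1, pow_succ, pow_succ, pow_one]
      group
    rw [e, hy, inv_one, one_mul, mul_one]
  have hc : y⁻¹ * (q * q1) * y = q1 * q2 := by
    rw [hq2, hq1]; group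
  have hc' : y⁻¹ * (q1 * q2) * y = q2 * q := by
    have : y⁻¹ * (q1 * q2) * y = (y⁻¹ * q1 * y) * (y⁻¹ * q2 * y) := by group
    rw [this, hq3]
  have hq1sq : q1 * q1 = 1 := by rw [← sq]; exact hQ2 q1 hq1Q
  refine ⟨q * q1, Q.mul_mem hq hq1Q, ?_, ?_, ?_⟩
  · intro h1
    apply hne
    have h2 : q1 = q⁻¹ := (eq_inv_of_mul_eq_one_right h1)
    have h3 : q⁻¹ = q := by rw [inv_eq_iff_mul_eq_one, ← sq, hQ2 q hq]
    rw [h3, hq1] at h2
    calc q * y = y * (y⁻¹ * q * y) := by group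
      _ = y * q := by rw [h2]
  · rw [hc]
    exact hcomm _ (Q.mul_mem hq hq1Q) _ (Q.mul_mem hq1Q hq2Q)
  · rw [hc, hc']
    calc q2 * q = q * q2 := hcomm _ hq2Q _ hq
      _ = q * (q1 * q1) * q2 := by rw [hq1sq, mul_one]
      _ = q * q1 * (q1 * q2) := by group


theorem three_aux {X : Type u} [Group X] [Finite X] (h6 : ∀ x : X, x ^ 6 = 1)
    (V : Subgroup X) [hVn : V.Normal] (hVp : IsPGroup 3 V)
    (hCV : Subgroup.centralizer (V : Set X) ≤ V) (hO3Y : pCore 3 (X ⧸ V) = ⊥) :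
    ¬ 3 ∣ V.index := by
  intro h3
  have : Fact (Nat.Prime 2) := ⟨Nat.prime_two⟩
  have : Fact (Nat.Prime 3) := ⟨Nat.prime_three⟩
  have hV3 : ∀ v ∈ V, v ^ 3 = 1 := by
    intro v hv
    obtain ⟨k, hk⟩ := hVp ⟨v, hv⟩
    have hk' : v ^ 3 ^ k = 1 := by simpa using congrArg Subtype.val hk
    exact cube_eq_one_of_three_pow h6 v k hk'
  -- the quotient
  have hY6 : ∀ y : X ⧸ V, y ^ 6 = 1 := exp6_quotient h6 V
  have hsolY : Group.IsSolvable (X ⧸ V) := isSolvable_of_exp6 hY6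
  have hO2'Y : pPrimeCore 2 (X ⧸ V) = ⊥ := by
    have h1 : IsPGroup 3 (pPrimeCore 2 (X ⧸ V)) :=
      isPGroup_of_not_dvd hY6 3 2 (Or.inr ⟨rfl, rfl⟩) _
        (Cfsg.Agent.Lib.Helper1_Cores.pPrimeCore_card_coprime 2)
    have h2 : pPrimeCore 2 (X ⧸ V) ≤ pCore 3 (X ⧸ V) :=
      Cfsg.Agent.Lib.Helper1_Cores.le_pCore inferInstance h1
    rw [hO3Y] at h2
    exact le_bot_iff.mp h2
  have hCQ : Subgroup.centralizer (pCore 2 (X ⧸ V) : Set (X ⧸ V)) ≤ pCore 2 (X ⧸ V) :=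
    centralizer_pCore_le 2 hO2'Y
  have hQp : IsPGroup 2 (pCore 2 (X ⧸ V)) := Cfsg.Agent.Lib.Helper1_Cores.pCore_isPGroup 2
  have hQn : (pCore 2 (X ⧸ V)).Normal := Cfsg.Agent.Lib.Helper1_Cores.pCore_normal 2
  have hQ2 : ∀ q ∈ pCore 2 (X ⧸ V), q ^ 2 = 1 := by
    intro q hq
    obtain ⟨k, hk⟩ := hQp ⟨q, hq⟩
    have hk' : q ^ 2 ^ k = 1 := by simpa using congrArg Subtype.val hk
    exact sq_eq_one_of_two_pow hY6 q k hk'
  have hQcomm := comm_of_sq _ hQ2
  -- `3` divides the index of `Q`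
  have h3Q : 3 ∣ (pCore 2 (X ⧸ V)).index := by
    have h1 : Nat.card (X ⧸ V) = V.index := (Subgroup.index_eq_card V).symm
    have h2 : (pCore 2 (X ⧸ V)).index * Nat.card (pCore 2 (X ⧸ V)) = Nat.card (X ⧸ V) :=
      Subgroup.index_mul_card _
    obtain ⟨k, hk⟩ := hQp.exists_card_eq
    have h4 : 3 ∣ (pCore 2 (X ⧸ V)).index * 2 ^ k := by rw [← hk, h2, h1]; exact h3
    exact Nat.Coprime.dvd_of_dvd_mul_right (Nat.Coprime.pow_right k (by norm_num)) h4
  -- an element of order `3` of `Y/Q`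
  obtain ⟨z, hz⟩ := exists_prime_orderOf_dvd_card' (G := (X ⧸ V) ⧸ pCore 2 (X ⧸ V)) 3
    (by rwa [← Subgroup.index_eq_card])
  obtain ⟨y0', rfl⟩ := QuotientGroup.mk_surjective z
  obtain ⟨y0, rfl⟩ := QuotientGroup.mk_surjective y0'
  set y := y0 ^ 4 with hy
  have hy3 : y ^ 3 = 1 := by
    rw [hy, ← pow_mul]
    have := h6 (y0 ^ 2)
    rw [← pow_mul] at this
    exact this
  have hyQ : (QuotientGroup.mk y : X ⧸ V) ∉ pCore 2 (X ⧸ V) := by
    intro hmem
    have h1 : ((QuotientGroup.mk y : X ⧸ V) : (X ⧸ V) ⧸ pCore 2 (X ⧸ V)) = 1 :=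
      (QuotientGroup.eq_one_iff _).mpr hmem
    have h2 : ((QuotientGroup.mk y : X ⧸ V) : (X ⧸ V) ⧸ pCore 2 (X ⧸ V)) =
        ((QuotientGroup.mk y0 : X ⧸ V) : (X ⧸ V) ⧸ pCore 2 (X ⧸ V)) ^ 4 := by
      rw [hy]; rfl
    have h5 : ((QuotientGroup.mk y0 : X ⧸ V) : (X ⧸ V) ⧸ pCore 2 (X ⧸ V)) ^ 3 = 1 := by
      rw [← hz]; exact pow_orderOf_eq_one _
    rw [h2, pow_succ, h5, one_mul] at h1
    rw [h1, orderOf_one] at hz
    omega
  clear_value y
  have hyC : (QuotientGroup.mk y : X ⧸ V) ∉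
      Subgroup.centralizer (pCore 2 (X ⧸ V) : Set (X ⧸ V)) := fun h => hyQ (hCQ h)
  rw [Subgroup.mem_centralizer_iff] at hyC
  push Not at hyC
  obtain ⟨q, hqQ, hq⟩ := hyC
  have hy3' : (QuotientGroup.mk y : X ⧸ V) ^ 3 = 1 := by
    rw [← QuotientGroup.mk_pow, hy3]; rfl
  obtain ⟨bb, hbbQ, hbb1, hbbc, hbbr⟩ :=
    klein_relations (pCore 2 (X ⧸ V)) hQ2 (QuotientGroup.mk y : X ⧸ V) q hy3' hqQ hq
  -- lifts
  obtain ⟨b0, hb0⟩ := QuotientGroup.mk_surjective bb
  set b := b0 ^ 3 with hb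
  have hb2 : b ^ 2 = 1 := by
    rw [hb, ← pow_mul]; exact h6 b0
  have hπb : (QuotientGroup.mk b : X ⧸ V) = bb := by
    rw [hb, QuotientGroup.mk_pow, hb0, pow_succ, hQ2 bb hbbQ, one_mul]
  clear_value b
  set c := y⁻¹ * b * y with hc
  have hc2 : c ^ 2 = 1 := by
    rw [hc, sq]
    have : y⁻¹ * b * y * (y⁻¹ * b * y) = y⁻¹ * b ^ 2 * y := by rw [sq]; group
    rw [this, hb2]; group
  have hπc : (QuotientGroup.mk c : X ⧸ V) =
      (QuotientGroup.mk y : X ⧸ V)⁻¹ * bb * (QuotientGroup.mk y : X ⧸ V) := by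
    rw [hc, ← hπb]; rfl
  clear_value c
  -- `b` acts nontrivially on `V` modulo the Frattini subgroup
  have hbV : b ∉ V := by
    intro h
    apply hbb1
    rw [← hπb]
    exact (QuotientGroup.eq_one_iff b).mpr h
  have hbF : ¬ ∀ v ∈ V, v⁻¹ * (b * v * b⁻¹) ∈ (frattini V).map V.subtype := by
    intro h
    apply hbV
    apply hCV
    rw [Subgroup.mem_centralizer_iff]
    intro v hv
    have := centralizes_of_comm_mem_frattini V hV3 b hb2 h v hv
    calc v * b = b * v * b⁻¹ * b := by rw [this]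
      _ = b * v := by group
  push Not at hbF
  obtain ⟨v1, hv1, hv1F⟩ := hbF
  -- pass to `X / Φ(V)`
  have hFn : ((frattini V).map V.subtype).Normal := inferInstance
  have hZ6 : ∀ g : X ⧸ (frattini V).map V.subtype, g ^ 6 = 1 := exp6_quotient h6 _
  have hρs := QuotientGroup.mk'_surjective ((frattini V).map V.subtype)
  have hVhn : (V.map (QuotientGroup.mk' ((frattini V).map V.subtype))).Normal :=
    hVn.map _ hρs
  have hVhc : ∀ u ∈ V.map (QuotientGroup.mk' ((frattini V).map V.subtype)),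
      ∀ v ∈ V.map (QuotientGroup.mk' ((frattini V).map V.subtype)), u * v = v * u := by
    rintro _ ⟨u, hu, rfl⟩ _ ⟨v, hv, rfl⟩
    rw [← map_mul, ← map_mul]
    have h1 : (⁅(⟨u, hu⟩ : V), ⟨v, hv⟩⁆ : V) ∈ frattini V :=
      Cfsg.Agent.Lib.Helper1_Frattini.commutator_le_frattini_of_isPGroup hVp
        (Subgroup.commutator_mem_commutator (Subgroup.mem_top _) (Subgroup.mem_top _))
    have h2 : u * v * u⁻¹ * v⁻¹ ∈ (frattini V).map V.subtype :=
      ⟨_, h1, rfl⟩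
    have h3 : u * v = (u * v * u⁻¹ * v⁻¹) * (v * u) := by group
    rw [h3, map_mul]
    have : QuotientGroup.mk' ((frattini V).map V.subtype) (u * v * u⁻¹ * v⁻¹) = 1 :=
      (QuotientGroup.eq_one_iff _).mpr h2
    rw [this, one_mul]
  have hVh3 : ∀ v ∈ V.map (QuotientGroup.mk' ((frattini V).map V.subtype)), v ^ 3 = 1 := by
    rintro _ ⟨v, hv, rfl⟩
    rw [← map_pow, hV3 v hv, map_one]
  -- membership in `V` through the quotient
  have hmemV : ∀ g : X, (QuotientGroup.mk g : X ⧸ V) = 1 → g ∈ V := fun g hg =>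
    (QuotientGroup.eq_one_iff g).mp hg
  have key := core (V.map (QuotientGroup.mk' ((frattini V).map V.subtype))) hVhc hVh3 hZ6
    (QuotientGroup.mk' _ b) (QuotientGroup.mk' _ c) (QuotientGroup.mk' _ y)
    (by rw [← map_pow, hy3, map_one])
    (by
      intro v _
      rw [kap_kap, ← map_mul, ← sq, hb2, map_one]
      unfold kap; group)
    (by
      intro v _
      rw [kap_kap, ← map_mul, ← sq, hc2, map_one]
      unfold kap; group)
    (by
      intro v hv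
      rw [kap_kap, kap_kap]
      apply kap_eq_of_mul_inv_mem _ hVhc _ hv
      rw [← map_mul, ← map_mul, ← map_inv, ← map_mul]
      apply Subgroup.mem_map_of_mem
      apply hmemV
      rw [QuotientGroup.mk_mul, QuotientGroup.mk_inv, QuotientGroup.mk_mul, QuotientGroup.mk_mul,
        hπb, hπc, hbbc]
      group)
    (by
      intro v _
      rw [kap_kap, kap_kap, ← map_mul, ← map_mul]
      have : b * y = y * c := by rw [hc]; group
      rw [this])
    (by
      intro v hv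
      rw [kap_kap, kap_kap, kap_kap]
      apply kap_eq_of_mul_inv_mem _ hVhc _ hv
      rw [← map_mul, ← map_mul, ← map_mul, ← map_inv, ← map_mul]
      apply Subgroup.mem_map_of_mem
      apply hmemV
      rw [QuotientGroup.mk_mul, QuotientGroup.mk_inv, QuotientGroup.mk_mul, QuotientGroup.mk_mul,
        QuotientGroup.mk_mul, hπb, hπc]
      have e : (QuotientGroup.mk y : X ⧸ V)⁻¹ * bb * (QuotientGroup.mk y : X ⧸ V) *
          (QuotientGroup.mk y : X ⧸ V) = (QuotientGroup.mk y : X ⧸ V) *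
          ((QuotientGroup.mk y : X ⧸ V)⁻¹ * ((QuotientGroup.mk y : X ⧸ V)⁻¹ * bb *
            (QuotientGroup.mk y : X ⧸ V)) * (QuotientGroup.mk y : X ⧸ V)) := by group
      rw [e, hbbr]
      group)
  apply hv1F
  have h1 := key _ (Subgroup.mem_map_of_mem (QuotientGroup.mk' ((frattini V).map V.subtype)) hv1)
  unfold kap at h1
  rw [← map_inv, ← map_mul, ← map_mul] at h1
  have h2 : QuotientGroup.mk' ((frattini V).map V.subtype) (v1⁻¹ * (b * v1 * b⁻¹)) = 1 := by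
    rw [map_mul, h1, ← map_mul, inv_mul_cancel, map_one]
  exact (QuotientGroup.eq_one_iff _).mp h2

theorem three_not_dvd_index {X : Type u} [Group X] [Finite X] (h6 : ∀ x : X, x ^ 6 = 1)
    (hcore : pPrimeCore 3 X = ⊥) : ¬ 3 ∣ (pCore 3 X).index := by
  have : Fact (Nat.Prime 3) := ⟨Nat.prime_three⟩
  have : Group.IsSolvable X := isSolvable_of_exp6 h6
  exact three_aux h6 (pCore 3 X) (Cfsg.Agent.Lib.Helper1_Cores.pCore_isPGroup 3)
    (centralizer_pCore_le 3 hcore) (pCore_quotient_pCore 3)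

end three

/-- A finite group in which every element has order dividing `6` has `2`-length at most `1` and `3`-length at most `1`. -/
theorem result {G : Type*} [Group G] [Finite G] (h : ∀ x : G, x ^ 6 = 1) : Cfsg.PLengthLE 2 1 G ∧ Cfsg.PLengthLE 3 1 G := by
  have : Fact (Nat.Prime 2) := ⟨Nat.prime_two⟩
  have : Fact (Nat.Prime 3) := ⟨Nat.prime_three⟩
  constructor
  · apply pLengthLE_one_of_not_dvd
    exact two_not_dvd_index (exp6_quotient h _)
      (Cfsg.Agent.Lib.Helper32_Cores.pPrimeCore_quotient_eq_bot 2)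
  · apply pLengthLE_one_of_not_dvd
    exact three_not_dvd_index (exp6_quotient h _)
      (Cfsg.Agent.Lib.Helper32_Cores.pPrimeCore_quotient_eq_bot 3)

end Cfsg.Agent.S4227
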