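-- Statement S0072: Frobenius' criterion, local form.
import Cfsg.Statements.S0072
import Cfsg.Agent.Lib.Helper35_FrobeniusNPC

set_option autoImplicit false
open Cfsg

namespace Cfsg.Agent.S0072

open Cfsg.Agent.Lib.Helper35_FrobeniusNPC in
theorem hasNPC_iff {G : Type*} [Group G] [Finite G] (p : ℕ) [Fact p.Prime] :
    Cfsg.HasNormalPComplement p G ↔ HasNPC p G := by
  constructor
  · rintro ⟨P, N, hN, hc⟩
    exact hasNPC_of_isComplement' hN P hc
  · rintro ⟨K, hKn, hKc, n, hKi⟩
    obtain ⟨P⟩ : Nonempty (Sylow p G) := inferInstance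
    exact ⟨P, K, hKn, isComplement'_of_npc hKc hKi P⟩

open Cfsg.Agent.Lib.Helper35_FrobeniusNPC in
/-- A finite group has a normal p-complement if and only if every p-local subgroup (normalizer of a nontrivial p-subgroup) has one. -/
theorem result {G : Type*} [Group G] [Finite G] (p : ℕ) [Fact p.Prime] : Cfsg.HasNormalPComplement p G ↔ ∀ Q : Subgroup G, IsPGroup p Q → Q ≠ ⊥ → Cfsg.HasNormalPComplement p (Subgroup.normalizer (Q : Set G)) := by
  constructor
  · intro h Q _ _
    rw [hasNPC_iff] at h ⊢
    exact hasNPC_subgroup h _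
  · intro h
    rw [hasNPC_iff]
    apply hasNPC_of_frobHyp
    intro Q hQ g hg hgo
    by_cases hQb : Q = ⊥
    · rw [hQb, Subgroup.coe_bot, Subgroup.centralizer_eq_top_iff_subset.mpr]
      · trivial
      · intro x hx
        rw [Set.mem_singleton_iff] at hx
        rw [hx]
        exact one_mem _
    · have hN := (hasNPC_iff p).mp (h Q hQ hQb)
      have hF := frobHyp_of_hasNPC hN
      have hQ' : IsPGroup p (Q.subgroupOf (Subgroup.normalizer (Q : Set G))) :=
        hQ.comap_of_injective _ (Subgroup.subtype_injective _)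
      have hnorm : (Q.subgroupOf (Subgroup.normalizer (Q : Set G))).Normal :=
        Subgroup.normal_in_normalizer
      have hg' : (⟨g, hg⟩ : Subgroup.normalizer (Q : Set G)) ∈
          Subgroup.normalizer ((Q.subgroupOf (Subgroup.normalizer (Q : Set G)) : Subgroup _) : Set _) := by
        rw [Subgroup.normalizer_eq_top_iff.mpr hnorm]; trivial
      have hgo' : (orderOf (⟨g, hg⟩ : Subgroup.normalizer (Q : Set G))).Coprime p := by
        rw [← Subgroup.orderOf_coe]; exact hgo
      have hc := hF _ hQ' _ hg' hgo'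
      rw [Subgroup.mem_centralizer_iff] at hc ⊢
      intro x hx
      have := hc ⟨x, Subgroup.le_normalizer hx⟩ (Subgroup.mem_subgroupOf.mpr hx)
      exact congrArg Subtype.val this

end Cfsg.Agent.S0072
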