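import Cfsg.Statements.S5299

set_option autoImplicit false
universe u
open Cfsg

namespace Cfsg.Agent.S5299

theorem involves_iff {A : Type*} [Group A] {G : Type*} [Group G] :
    Cfsg.Involves A G ↔ ∃ (K : Subgroup G) (f : K →* A), Function.Surjective f := by
  constructor
  · rintro ⟨K, R, hn, ⟨e⟩⟩
    exact ⟨K, e.toMonoidHom.comp (QuotientGroup.mk' (R.subgroupOf K)),
      e.surjective.comp (QuotientGroup.mk'_surjective _)⟩
  · rintro ⟨K, f, hf⟩
    have hR : (f.ker.map K.subtype).subgroupOf K = f.ker := by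
      ext x
      rw [Subgroup.mem_subgroupOf]
      constructor
      · rintro ⟨y, hy, hyx⟩
        have : y = x := Subtype.ext hyx
        rwa [← this]
      · intro hx
        exact ⟨x, hx, rfl⟩
    have hn : ((f.ker.map K.subtype).subgroupOf K).Normal := by rw [hR]; infer_instance
    exact ⟨K, f.ker.map K.subtype, hn,
      ⟨(QuotientGroup.quotientMulEquivOfEq hR).trans (QuotientGroup.quotientKerEquivOfSurjective f hf)⟩⟩

theorem involves_of_injective {A : Type*} [Group A] {G₁ G₂ : Type*} [Group G₁] [Group G₂]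
    (f : G₁ →* G₂) (hf : Function.Injective f) (h : Cfsg.Involves A G₁) : Cfsg.Involves A G₂ := by
  rw [involves_iff] at h ⊢
  obtain ⟨K, φ, hφ⟩ := h
  refine ⟨K.map f, φ.comp (K.equivMapOfInjective f hf).symm.toMonoidHom, ?_⟩
  exact hφ.comp (K.equivMapOfInjective f hf).symm.surjective

theorem involves_subgroup {H : Type*} [Group H] {L : Type*} [Group L] (Q : Subgroup H)
    (h : Cfsg.Involves H L) : Cfsg.Involves Q L := by
  rw [involves_iff] at h
  obtain ⟨K, φ, hφ⟩ := h
  have h1 : Cfsg.Involves Q K := by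
    rw [involves_iff]
    exact ⟨Q.comap φ, φ.subgroupComap Q, φ.subgroupComap_surjective_of_surjective Q hφ⟩
  exact involves_of_injective K.subtype K.subtype_injective h1

theorem involves_sylow {Q : Type*} [Group Q] {L : Type*} [Group L] [Finite L] (p : ℕ) [Fact p.Prime]
    (hQ : IsPGroup p Q) (T : Sylow p L) (h : Cfsg.Involves Q L) : Cfsg.Involves Q (T : Subgroup L) := by
  rw [involves_iff] at h
  obtain ⟨K, φ, hφ⟩ := h
  obtain ⟨T₀⟩ : Nonempty (Sylow p K) := Sylow.nonempty
  have htop : (T₀ : Subgroup K).map φ = ⊤ := by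
    have h1 : ((T₀.mapSurjective hφ : Sylow p Q) : Subgroup Q) = (T₀ : Subgroup K).map φ := rfl
    rw [← h1]
    have hpt : IsPGroup p (⊤ : Subgroup Q) := fun x => by
      obtain ⟨k, hk⟩ := hQ (x : Q)
      exact ⟨k, Subtype.ext (by simpa using hk)⟩
    exact ((T₀.mapSurjective hφ).is_maximal' hpt le_top).symm
  -- `Q` is involved in `T₀`
  have h2 : Cfsg.Involves Q (T₀ : Subgroup K) := by
    rw [involves_iff]
    refine ⟨⊤, (φ.comp (T₀ : Subgroup K).subtype).comp (⊤ : Subgroup (T₀ : Subgroup K)).subtype, ?_⟩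
    intro q
    have hq : q ∈ (T₀ : Subgroup K).map φ := by rw [htop]; trivial
    obtain ⟨x, hx, rfl⟩ := hq
    exact ⟨⟨⟨x, hx⟩, trivial⟩, rfl⟩
  -- `T₀` embeds in a Sylow subgroup of `L`
  have hp : IsPGroup p ((T₀ : Subgroup K).map K.subtype) := T₀.isPGroup'.map _
  obtain ⟨T', hT'⟩ := hp.exists_le_sylow
  obtain ⟨l, hl⟩ := MulAction.exists_smul_eq L T T'
  have h3 : Cfsg.Involves Q (T' : Subgroup L) := by
    let j : (T₀ : Subgroup K) →* (T' : Subgroup L) :=
      { toFun := fun x => ⟨((x : K) : L), hT' ⟨x, x.2, rfl⟩⟩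
        map_one' := rfl
        map_mul' := fun _ _ => rfl }
    refine involves_of_injective j ?_ h2
    intro a b hab
    have : ((a : K) : L) = ((b : K) : L) := congrArg (fun z : (T' : Subgroup L) => (z : L)) hab
    exact Subtype.ext (Subtype.ext this)
  have e : (T : Subgroup L) ≃* (T' : Subgroup L) := by
    rw [← hl]
    exact T.equivSMul l
  exact involves_of_injective e.symm.toMonoidHom e.symm.injective h3

/-- Let F be a saturated fusion system over a finite p-group S, H a finite group and Q a p-subgroup of H. If Q is not involved in S (no section of S is isomorphic to Q), then F is H-free: H is involved in no model of the normalizer system of a fully normalized centric subgroup. -/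
theorem result {Ω : Type u} [Group Ω] {S : Subgroup Ω} [Finite S] (p : ℕ) [Fact p.Prime] (hS : IsPGroup p S)
    (F : Cfsg.FusionSystem S) (hF : F.IsSaturated p) (H : Type*) [Group H] [Finite H] (Q : Subgroup H) (hQ : IsPGroup p Q)
    (hfree : ¬ Cfsg.Involves (↥Q) (↥S)) : F.IsSectionFree p H := by
  intro Q' _ _ N _ L _ ι hmodel hinv
  obtain ⟨hfin, hreal, ⟨T, hT⟩, -⟩ := hmodel
  apply hfree
  have h1 : Cfsg.Involves Q L := involves_subgroup Q hinv
  have h2 : Cfsg.Involves Q (T : Subgroup L) := involves_sylow p hQ T h1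
  rw [hT] at h2
  have e : ↥(Cfsg.FusionSystem.normalizerIn S Q') ≃* ι.range := MonoidHom.ofInjective hreal.1
  have h3 : Cfsg.Involves Q ↥(Cfsg.FusionSystem.normalizerIn S Q') :=
    involves_of_injective e.symm.toMonoidHom e.symm.injective h2
  have hle : Cfsg.FusionSystem.normalizerIn S Q' ≤ S := inf_le_left
  exact involves_of_injective (Subgroup.inclusion hle) (Subgroup.inclusion_injective hle) h3

end Cfsg.Agent.S5299
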