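import Cfsg.Statements.S1450
import Cfsg.Agent.Lib.Helper2_PRank
import Cfsg.Agent.Lib.Helper2_RankTwoAut
import Cfsg.Agent.Lib.Helper76_PSolvable
import Cfsg.Agent.Lib.Helper1_Cores
import Cfsg.Agent.S4227
import Cfsg.Agent.S3294
import Cfsg.Agent.S0640
-- import your own Cfsg.Agent.* helpers here

set_option autoImplicit false
open Cfsg

namespace Cfsg.Agent.S1450

open Cfsg.Agent.Lib.Helper2_PRank Cfsg.Agent.Lib.Helper2_RankTwoAut

open scoped commutatorElement

section core

variable {X : Type*} [Group X] [Finite X] [Group.IsSolvable X] {p : ℕ} [Fact p.Prime]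

/-- The structure of `X = G / O_{p'}(G)`. -/
theorem quotient_structure (hodd : Odd (Nat.card X)) (hp : p ≠ 2)
    (hcore : pPrimeCore p X = ⊥) (hr : Cfsg.PRankLE p 2 X) :
    IsPGroup p ↥(commutator X) ∧ commutator X ≤ pCore p X ∧ ((pCore p X).index).Coprime p ∧
      ∀ q : ℕ, q.Prime → q ∣ Nat.card X → q ≠ p → q < p := by
  have hpP : p.Prime := Fact.out
  set Q := pCore p X with hQ
  have hQn : Q.Normal := Cfsg.Agent.Lib.Helper1_Cores.pCore_normal p
  have hQp : IsPGroup p ↥Q := Cfsg.Agent.Lib.Helper1_Cores.pCore_isPGroup p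
  have hCQ : Subgroup.centralizer (Q : Set X) ≤ Q := Cfsg.Agent.S4227.centralizer_pCore_le p hcore
  have hrkQ : Cfsg.PRankLE p 2 ↥Q := pRankLE_subgroup' hr Q
  let φ : X →* MulAut ↥Q := MulAut.conjNormal
  have hker : φ.ker ≤ Q := by
    intro g hg
    apply hCQ
    rw [Subgroup.mem_centralizer_iff]
    intro h hh
    have h1 : φ g = 1 := hg
    have h2 : ((φ g) ⟨h, hh⟩ : X) = g * h * g⁻¹ := MulAut.conjNormal_apply g ⟨h, hh⟩
    rw [h1] at h2
    have h3 : h = g * h * g⁻¹ := h2
    calc h * g = g * h * g⁻¹ * g := by rw [← h3]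
      _ = g * h := by group
  have hkerp : IsPGroup p ↥φ.ker := by
    have := hQp.to_le hker
    exact this
  set 𝔄 : Subgroup (MulAut ↥Q) := φ.range with h𝔄
  have h𝔄card : Nat.card ↥𝔄 ∣ Nat.card X := Subgroup.card_range_dvd φ
  have h𝔄odd : Odd (Nat.card ↥𝔄) := by
    rcases Nat.even_or_odd (Nat.card ↥𝔄) with he | ho
    · exfalso
      have : 2 ∣ Nat.card X := (even_iff_two_dvd.mp he).trans h𝔄card
      exact (Nat.not_even_iff_odd.mpr hodd) (even_iff_two_dvd.mpr this)
    · exact ho
  have hcomm : IsPGroup p ↥⁅𝔄, 𝔄⁆ := isPGroup_commutator_of_odd hp hQp hrkQ 𝔄 h𝔄odd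
  -- the derived subgroup is a `p`-group
  have hmapcomm : (commutator X).map φ = ⁅𝔄, 𝔄⁆ := by
    rw [commutator_def, Subgroup.map_commutator, ← MonoidHom.range_eq_map]
  have hD : IsPGroup p ↥(commutator X) := by
    intro ⟨x, hx⟩
    have h1 : φ x ∈ ⁅𝔄, 𝔄⁆ := by
      rw [← hmapcomm]
      exact Subgroup.mem_map_of_mem φ hx
    obtain ⟨k, hk⟩ := hcomm ⟨φ x, h1⟩
    have hk' : (φ x) ^ p ^ k = 1 := by
      have := congrArg Subtype.val hk
      simpa using this
    rw [← map_pow] at hk'
    have h2 : x ^ p ^ k ∈ φ.ker := hk'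
    obtain ⟨l, hl⟩ := hkerp ⟨_, h2⟩
    have hl' : (x ^ p ^ k) ^ p ^ l = 1 := by
      have := congrArg Subtype.val hl
      simpa using this
    refine ⟨k + l, ?_⟩
    apply Subtype.ext
    simp only [Subgroup.coe_pow, Subgroup.coe_one]
    rw [pow_add, pow_mul]
    exact hl'
  have hDQ : commutator X ≤ Q :=
    Cfsg.Agent.Lib.Helper1_Cores.le_pCore inferInstance hD
  -- the quotient `X / Q` is abelian with trivial `p`-core
  have hquotcomm : ∀ a b : X ⧸ Q, a * b = b * a := by
    intro a b
    induction a using QuotientGroup.induction_on with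
    | H a =>
      induction b using QuotientGroup.induction_on with
      | H b =>
        have h1 : ⁅a, b⁆ ∈ Q := hDQ (by
          rw [commutator_def]
          exact Subgroup.commutator_mem_commutator (Subgroup.mem_top a) (Subgroup.mem_top b))
        have h2 : ((⁅a, b⁆ : X) : X ⧸ Q) = 1 := (QuotientGroup.eq_one_iff _).mpr h1
        rw [commutatorElement_def] at h2
        have h3 : (a : X ⧸ Q) * (b : X ⧸ Q) * (a : X ⧸ Q)⁻¹ * (b : X ⧸ Q)⁻¹ = 1 := by
          simpa using h2
        calc (a : X ⧸ Q) * (b : X ⧸ Q)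
            = ((a : X ⧸ Q) * (b : X ⧸ Q) * (a : X ⧸ Q)⁻¹ * (b : X ⧸ Q)⁻¹) * ((b : X ⧸ Q) * (a : X ⧸ Q)) := by
              group
          _ = (b : X ⧸ Q) * (a : X ⧸ Q) := by rw [h3, one_mul]
  have hquotcore : pCore p (X ⧸ Q) = ⊥ := Cfsg.Agent.S4227.pCore_quotient_pCore p
  have hidx : (Q.index).Coprime p := by
    rw [Nat.coprime_comm, Nat.Prime.coprime_iff_not_dvd hpP]
    intro hdvd
    rw [Subgroup.index_eq_card] at hdvd
    obtain ⟨z, hz⟩ := exists_prime_orderOf_dvd_card' p hdvd
    have hzn : (Subgroup.zpowers z).Normal := by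
      refine ⟨fun n hn g => ?_⟩
      rw [hquotcomm g n, mul_assoc, mul_inv_cancel, mul_one]
      exact hn
    have hzp : IsPGroup p ↥(Subgroup.zpowers z) := by
      apply IsPGroup.of_card (n := 1)
      rw [Nat.card_zpowers, hz, pow_one]
    have hle : Subgroup.zpowers z ≤ pCore p (X ⧸ Q) :=
      Cfsg.Agent.Lib.Helper1_Cores.le_pCore hzn hzp
    rw [hquotcore] at hle
    have hz1 : z = 1 := by
      have := hle (Subgroup.mem_zpowers z)
      exact (Subgroup.mem_bot).mp this
    rw [hz1, orderOf_one] at hz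
    exact hpP.one_lt.ne hz
  refine ⟨hD, hDQ, hidx, ?_⟩
  intro q hq hqX hqp
  have : Fact q.Prime := ⟨hq⟩
  have hcardX : Nat.card X = Nat.card ↥φ.ker * Nat.card ↥𝔄 := by
    have h1 := Subgroup.card_eq_card_quotient_mul_card_subgroup φ.ker
    have h2 : Nat.card (X ⧸ φ.ker) = Nat.card ↥φ.range :=
      Nat.card_congr (QuotientGroup.quotientKerEquivRange φ).toEquiv
    rw [h1, h2, mul_comm]
  obtain ⟨j, hj⟩ := IsPGroup.iff_card.mp hkerp
  have hq𝔄 : q ∣ Nat.card ↥𝔄 := by
    rw [hcardX, hj] at hqX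
    rcases (Nat.Prime.dvd_mul hq).mp hqX with h | h
    · exfalso
      have := hq.dvd_of_dvd_pow h
      exact hqp ((Nat.prime_dvd_prime_iff_eq hq hpP).mp this)
    · exact h
  have hqAut : q ∣ Nat.card (MulAut ↥Q) := hq𝔄.trans (Subgroup.card_subgroup_dvd_card 𝔄)
  exact (Cfsg.Agent.S0640.result hp hQp hrkQ q hq hqp hqAut).2

end core

/-- Let G be a solvable group of odd order, p a prime dividing its order with G having no elementary abelian subgroup of order p ^ 3. Then every prime dividing the index of O_{p'}(G) is at most p; if p = 3 or p is the smallest prime divisor of #G then G has a normal p-complement; the derived subgroup G' has a normal p-complement; every subgroup of G' of order coprime to p lies in O_{p'}(G'); and G/O_{p',p}(G) is abelian of order coprime to p. -/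
theorem result {G : Type*} [Group G] [Finite G] [Group.IsSolvable G] (hodd : Odd (Nat.card G)) (p : ℕ) [Fact p.Prime] (hpG : p ∣ Nat.card G) (hr : Cfsg.PRankLE p 2 G) :
    (∀ q : ℕ, q.Prime → q ∣ (Cfsg.pPrimeCore p G).index → q ≤ p) ∧
      ((p = 3 ∨ ∀ q : ℕ, q.Prime → q ∣ Nat.card G → p ≤ q) → Cfsg.HasNormalPComplement p G) ∧
      Cfsg.HasNormalPComplement p ↥(commutator G) ∧
      (∀ L : Subgroup ↥(commutator G), (Nat.card L).Coprime p → L ≤ Cfsg.pPrimeCore p ↥(commutator G)) ∧
      commutator G ≤ Cfsg.pPrimePCore p G ∧ ((Cfsg.pPrimePCore p G).index).Coprime p := by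
  have hpP : p.Prime := Fact.out
  have hp2 : p ≠ 2 := by
    rintro rfl
    exact (Nat.not_even_iff_odd.mpr hodd) (even_iff_two_dvd.mpr hpG)
  set K := pPrimeCore p G with hK
  have hKn : K.Normal := Cfsg.Agent.Lib.Helper1_Cores.pPrimeCore_normal p
  have hKcop : (Nat.card ↥K).Coprime p := Cfsg.Agent.Lib.Helper1_Cores.pPrimeCore_card_coprime p
  have hcore : pPrimeCore p (G ⧸ K) = ⊥ :=
    Cfsg.Agent.Lib.Helper76_PSolvable.pPrimeCore_quotient_pPrimeCore p
  have hcardG : Nat.card G = Nat.card (G ⧸ K) * Nat.card ↥K :=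
    K.card_eq_card_quotient_mul_card_subgroup
  have hodd' : Odd (Nat.card (G ⧸ K)) := by
    rw [hcardG] at hodd
    exact (Nat.odd_mul.mp hodd).1
  have hr' : Cfsg.PRankLE p 2 (G ⧸ K) := pRankLE_quotient_of_coprime K hKcop hr
  obtain ⟨hDp, hDQ, hidx, hprimes⟩ := quotient_structure hodd' hp2 hcore hr'
  set π := QuotientGroup.mk' K with hπ
  have hπs : Function.Surjective π := QuotientGroup.mk'_surjective K
  have hmapD : (commutator G).map π = commutator (G ⧸ K) := by
    rw [commutator_def, Subgroup.map_commutator, commutator_def, ← MonoidHom.range_eq_map,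
      MonoidHom.range_eq_top.mpr hπs]
  -- (1)
  have h1 : ∀ q : ℕ, q.Prime → q ∣ K.index → q ≤ p := by
    intro q hq hqK
    by_cases hqp : q = p
    · exact hqp.le
    · rw [Subgroup.index_eq_card] at hqK
      exact (hprimes q hq hqK hqp).le
  -- (2)
  have h2 : (p = 3 ∨ ∀ q : ℕ, q.Prime → q ∣ Nat.card G → p ≤ q) →
      Cfsg.HasNormalPComplement p G := by
    intro hcase
    apply Cfsg.Agent.S3294.hasNormalPComplement_of_quotient_isPGroup p K hKcop
    have hall : ∀ q : ℕ, q.Prime → q ∣ Nat.card (G ⧸ K) → q = p := by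
      intro q hq hqK
      by_contra hqp
      have hlt := hprimes q hq hqK hqp
      have hqG : q ∣ Nat.card G := by rw [hcardG]; exact Dvd.dvd.mul_right hqK _
      rcases hcase with h3 | hmin
      · have hq2 : q = 2 := by
          have := hq.two_le
          omega
        rw [hq2] at hqG
        exact (Nat.not_even_iff_odd.mpr hodd) (even_iff_two_dvd.mpr hqG)
      · have := hmin q hq hqG
        omega
    have hne : Nat.card (G ⧸ K) ≠ 0 := Nat.card_pos.ne'
    by_cases hone : Nat.card (G ⧸ K) = 1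
    · apply IsPGroup.of_card (n := 0)
      rw [hone, pow_zero]
    · have hpd : p ∣ Nat.card (G ⧸ K) := by
        obtain ⟨q, hq, hqd⟩ := Nat.exists_prime_and_dvd hone
        rw [← hall q hq hqd]
        exact hqd
      obtain ⟨k, hk⟩ : ∃ k, Nat.card (G ⧸ K) = p ^ k := by
        exact ⟨_, Nat.eq_prime_pow_of_unique_prime_dvd hne (fun {q} hq hqd => hall q hq hqd)⟩
      exact IsPGroup.of_card hk
  -- the derived subgroup
  set D := commutator G with hDdef
  set N : Subgroup ↥D := K.subgroupOf D with hN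
  have hNn : N.Normal := Subgroup.Normal.subgroupOf hKn D
  have hNcop : (Nat.card ↥N).Coprime p := by
    have h : Nat.card ↥N ∣ Nat.card ↥K := by
      let f : ↥N →* ↥K := MonoidHom.codRestrict (D.subtype.comp N.subtype) K (fun x => x.2)
      have hf : Function.Injective f := by
        intro a b hab
        have h7 : ((a : ↥D) : G) = ((b : ↥D) : G) := congrArg (fun z : ↥K => (z : G)) hab
        exact Subtype.ext (Subtype.ext h7)
      exact Subgroup.card_dvd_of_injective f hf
    exact Nat.Coprime.coprime_dvd_left h hKcop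
  have himg : ∀ x : ↥D, π x.1 ∈ commutator (G ⧸ K) := by
    intro x
    rw [← hmapD]
    exact Subgroup.mem_map_of_mem π x.2
  have h3 : Cfsg.HasNormalPComplement p ↥D := by
    apply Cfsg.Agent.S3294.hasNormalPComplement_of_quotient_isPGroup p N hNcop
    intro z
    induction z using QuotientGroup.induction_on with
    | H x =>
      obtain ⟨k, hk⟩ := hDp ⟨π x.1, himg x⟩
      have hk' : (π x.1) ^ p ^ k = 1 := by
        have := congrArg Subtype.val hk
        simpa using this
      rw [← map_pow, hπ, QuotientGroup.mk'_apply, QuotientGroup.eq_one_iff] at hk'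
      refine ⟨k, ?_⟩
      rw [← QuotientGroup.mk_pow, QuotientGroup.eq_one_iff]
      show ((x ^ p ^ k : ↥D) : G) ∈ K
      rw [Subgroup.coe_pow]
      exact hk'
  have h4 : ∀ L : Subgroup ↥D, (Nat.card L).Coprime p → L ≤ Cfsg.pPrimeCore p ↥D := by
    intro L hL
    have hLN : L ≤ N := by
      intro x hx
      obtain ⟨k, hk⟩ := hDp ⟨π x.1, himg x⟩
      have hk' : (π x.1) ^ p ^ k = 1 := by
        have := congrArg Subtype.val hk
        simpa using this
      have ho1 : orderOf (π x.1) ∣ p ^ k := orderOf_dvd_of_pow_eq_one hk'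
      have ho2 : orderOf (π x.1) ∣ Nat.card ↥L := by
        have h5 : orderOf (π x.1) ∣ orderOf (x : G) := orderOf_map_dvd π _
        have h6 : orderOf (x : G) = orderOf (⟨x, hx⟩ : ↥L) := by
          rw [← Subgroup.orderOf_coe, ← Subgroup.orderOf_coe]
        rw [h6] at h5
        exact h5.trans (orderOf_dvd_natCard _)
      have ho3 : orderOf (π x.1) = 1 :=
        Nat.eq_one_of_dvd_coprimes (Nat.Coprime.pow_right k hL) ho2 ho1
      have hx1 : π x.1 = 1 := orderOf_eq_one_iff.mp ho3
      rw [hπ, QuotientGroup.mk'_apply, QuotientGroup.eq_one_iff] at hx1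
      exact hx1
    exact hLN.trans (Cfsg.Agent.Lib.Helper1_Cores.le_pPrimeCore hNn hNcop)
  -- (5), (6)
  have h5 : D ≤ Cfsg.pPrimePCore p G := by
    intro x hx
    show π x ∈ pCore p (G ⧸ K)
    apply hDQ
    rw [← hmapD]
    exact Subgroup.mem_map_of_mem π hx
  have h6 : ((Cfsg.pPrimePCore p G).index).Coprime p := by
    have : (Cfsg.pPrimePCore p G).index = (pCore p (G ⧸ K)).index :=
      Subgroup.index_comap_of_surjective _ hπs
    rw [this]
    exact hidx
  exact ⟨h1, h2, h3, h4, h5, h6⟩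

end Cfsg.Agent.S1450
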