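import Cfsg.Statements.S0647

set_option autoImplicit false
open Cfsg

namespace Cfsg.Agent.S0647

/-- An element commuting with every element of a maximal abelian subgroup lies in it. -/
theorem mem_of_centralizes {S : Type*} [Group S] (A : Subgroup S) (hA : IsMulCommutative A)
    (hmax : ∀ B : Subgroup S, IsMulCommutative B → A ≤ B → B = A) (x : S)
    (hx : x ∈ Subgroup.centralizer (A : Set S)) : x ∈ A := by
  have hcomm : ∀ y ∈ (A : Set S) ∪ {x}, ∀ z ∈ (A : Set S) ∪ {x}, y * z = z * y := by
    intro y hy z hz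
    rcases hy with hy | hy <;> rcases hz with hz | hz
    · exact congrArg Subtype.val (mul_comm' (⟨y, hy⟩ : A) ⟨z, hz⟩)
    · rw [Set.mem_singleton_iff] at hz; subst hz
      exact hx y hy
    · rw [Set.mem_singleton_iff] at hy; subst hy
      exact (hx z hz).symm
    · rw [Set.mem_singleton_iff] at hy hz; subst hy; subst hz; rfl
  have hB : IsMulCommutative (Subgroup.closure ((A : Set S) ∪ {x})) :=
    Subgroup.isMulCommutative_closure hcomm
  have hle : A ≤ Subgroup.closure ((A : Set S) ∪ {x}) := fun y hy =>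
    Subgroup.subset_closure (Or.inl hy)
  have := hmax _ hB hle
  rw [← this]
  exact Subgroup.subset_closure (Or.inr rfl)

/-- For a nonempty family of maximal abelian subgroups of a finite group, the intersection of the family is the centre of the subgroup it generates, which is also the full centralizer of that subgroup. -/
theorem result {S : Type*} [Group S] [Finite S] (𝒜 : Set (Subgroup S)) (hne : 𝒜.Nonempty) (hab : ∀ A ∈ 𝒜, IsMulCommutative A) (hmax : ∀ A ∈ 𝒜, ∀ B : Subgroup S, IsMulCommutative B → A ≤ B → B = A) : sInf 𝒜 = sSup 𝒜 ⊓ Subgroup.centralizer ((sSup 𝒜 : Subgroup S) : Set S) ∧ sInf 𝒜 = Subgroup.centralizer ((sSup 𝒜 : Subgroup S) : Set S) := by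
  have h1 : Subgroup.centralizer ((sSup 𝒜 : Subgroup S) : Set S) ≤ sInf 𝒜 := by
    intro x hx
    rw [Subgroup.mem_sInf]
    intro A hA
    apply mem_of_centralizes A (hab A hA) (hmax A hA) x
    have hle : (A : Set S) ⊆ ((sSup 𝒜 : Subgroup S) : Set S) := by
      intro y hy
      exact (le_sSup hA : A ≤ sSup 𝒜) hy
    exact Subgroup.centralizer_le hle hx
  have h2 : sInf 𝒜 ≤ Subgroup.centralizer ((sSup 𝒜 : Subgroup S) : Set S) := by
    rw [Subgroup.le_centralizer_iff, sSup_le_iff]
    intro A hA
    have : IsMulCommutative A := hab A hA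
    calc A ≤ Subgroup.centralizer (A : Set S) := Subgroup.le_centralizer A
      _ ≤ Subgroup.centralizer ((sInf 𝒜 : Subgroup S) : Set S) := by
        apply Subgroup.centralizer_le
        intro y hy
        exact (sInf_le hA : sInf 𝒜 ≤ A) hy
  have h3 : sInf 𝒜 ≤ sSup 𝒜 := by
    obtain ⟨A, hA⟩ := hne
    exact (sInf_le hA).trans (le_sSup hA)
  have h4 : sInf 𝒜 = Subgroup.centralizer ((sSup 𝒜 : Subgroup S) : Set S) := le_antisymm h2 h1
  refine ⟨?_, h4⟩
  apply le_antisymm
  · exact le_inf h3 h2
  · exact inf_le_right.trans h1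

end Cfsg.Agent.S0647
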