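import Cfsg.Statements.S0649

set_option autoImplicit false
open Cfsg
open scoped commutatorElement

namespace Cfsg.Agent.S0649

/-- In a nilpotent group, a normal subgroup `B` not contained in a subgroup `N` contains an element
normalizing `N` but outside `N`. -/
theorem exists_mem_normalizer_not_mem {S : Type*} [Group S] [Group.IsNilpotent S]
    (B : Subgroup S) [B.Normal] (N : Subgroup S) (hnot : ¬ B ≤ N) :
    ∃ b ∈ B, b ∈ Subgroup.normalizer (N : Set S) ∧ b ∉ N := by
  classical
  have hex : ∃ i, ¬ (B ⊓ Subgroup.upperCentralSeries S i ≤ N) := by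
    refine ⟨Group.nilpotencyClass S, ?_⟩
    rw [Subgroup.upperCentralSeries_nilpotencyClass, inf_top_eq]
    exact hnot
  have hmin : ∀ {m : ℕ}, m < Nat.find hex → ¬ ¬ (B ⊓ Subgroup.upperCentralSeries S m ≤ N) :=
    fun {m} hm => Nat.find_min hex hm
  have hspec := Nat.find_spec hex
  set k := Nat.find hex with hk
  have hk0 : k ≠ 0 := by
    intro h0
    apply hspec
    rw [h0, Subgroup.upperCentralSeries_zero, inf_bot_eq]
    exact bot_le
  obtain ⟨i, hi⟩ := Nat.exists_eq_succ_of_ne_zero hk0
  have hprev : B ⊓ Subgroup.upperCentralSeries S i ≤ N := by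
    by_contra hc
    exact hmin (by rw [hi]; exact Nat.lt_succ_self i) hc
  rw [hi] at hspec
  rw [SetLike.not_le_iff_exists] at hspec
  obtain ⟨b, hb, hbN⟩ := hspec
  obtain ⟨hbB, hbZ⟩ := hb
  refine ⟨b, hbB, ?_, hbN⟩
  -- key: for any c in B ∩ Z_{i+1} and n ∈ N, c n c⁻¹ ∈ N
  have key : ∀ c : S, c ∈ B → c ∈ Subgroup.upperCentralSeries S (i + 1) → ∀ n ∈ N, c * n * c⁻¹ ∈ N := by
    intro c hcB hcZ n hn
    have h1 : ⁅c, n⁆ ∈ Subgroup.upperCentralSeries S i := (Subgroup.mem_upperCentralSeries_succ_iff.mp hcZ) n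
    have h2 : ⁅c, n⁆ ∈ B := by
      rw [commutatorElement_def]
      have : n * c⁻¹ * n⁻¹ ∈ B := Subgroup.Normal.conj_mem inferInstance _ (B.inv_mem hcB) n
      have := B.mul_mem hcB this
      convert this using 1
      group
    have h3 : ⁅c, n⁆ ∈ N := hprev ⟨h2, h1⟩
    have h4 : c * n * c⁻¹ = ⁅c, n⁆ * n := by
      rw [commutatorElement_def]; group
    rw [h4]
    exact N.mul_mem h3 hn
  rw [Subgroup.mem_normalizer_iff]
  intro n
  constructor
  · exact key b hbB hbZ n
  · intro h
    have := key b⁻¹ (B.inv_mem hbB) ((Subgroup.upperCentralSeries S (i + 1)).inv_mem hbZ) _ h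
    convert this using 1
    group

/-- In the Glauberman replacement situation, if B does not normalize A then some element of B normalizes N_S(A) without normalizing A. -/
theorem result {S : Type*} [Group S] [Finite S] {p : ℕ} [Fact p.Prime] (hS : IsPGroup p S) (B : Subgroup S) [B.Normal] (hB2 : p = 2 → IsMulCommutative B) (A : Subgroup S) (hA : IsMulCommutative A) (hBA : ⁅B, B⁆ ≤ A) (hnot : ¬ B ≤ Subgroup.normalizer (A : Set S)) : ∃ b ∈ B, b ∈ Subgroup.normalizer ((Subgroup.normalizer (A : Set S)) : Set S) ∧ b ∉ Subgroup.normalizer (A : Set S) := by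
  have : Group.IsNilpotent S := hS.isNilpotent
  exact exists_mem_normalizer_not_mem B (Subgroup.normalizer (A : Set S)) hnot

end Cfsg.Agent.S0649
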