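import Cfsg.Statements.S0648

set_option autoImplicit false
open Cfsg
open scoped commutatorElement

namespace Cfsg.Agent.S0648

section pure

variable {G : Type*} [Group G]

theorem stepB (x y α γ : G) (h : x * α * y = y * γ * x) (hαx : Commute α x) (hαy : Commute α y)
    (hγx : Commute γ x) (hγy : Commute γ y) : x * y * x⁻¹ * y⁻¹ = γ * α⁻¹ := by
  have h1 : x * y * α = y * x * γ := by
    calc x * y * α = x * (y * α) := by group
      _ = x * (α * y) := by rw [hαy.eq]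
      _ = x * α * y := by group
      _ = y * γ * x := h
      _ = y * (γ * x) := by group
      _ = y * (x * γ) := by rw [hγx.eq]
      _ = y * x * γ := by group
  have h2 : x * y = y * x * γ * α⁻¹ := eq_mul_inv_of_mul_eq h1
  have hδx : Commute (γ * α⁻¹) x := hγx.mul_left hαx.inv_left
  have hδy : Commute (γ * α⁻¹) y := hγy.mul_left hαy.inv_left
  calc x * y * x⁻¹ * y⁻¹ = y * x * γ * α⁻¹ * x⁻¹ * y⁻¹ := by rw [h2]
    _ = y * (x * (γ * α⁻¹)) * x⁻¹ * y⁻¹ := by group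
    _ = y * ((γ * α⁻¹) * x) * x⁻¹ * y⁻¹ := by rw [hδx.eq]
    _ = (y * (γ * α⁻¹)) * y⁻¹ := by group
    _ = ((γ * α⁻¹) * y) * y⁻¹ := by rw [hδy.eq]
    _ = γ * α⁻¹ := by group

theorem stepC (b c x y γ w₁ P κ : G) (hy : c * b * c⁻¹ = b * y) (hγ : c * x * c⁻¹ = γ * x)
    (hw : w₁ = b⁻¹ * x * b * x⁻¹) (hP : P = b⁻¹ * γ * b * γ⁻¹) (hκ : κ = x * y * x⁻¹ * y⁻¹)
    (hcw : Commute c w₁) (hyP : Commute y P) (hyγ : Commute y γ) (hyw : Commute y w₁)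
    (hκy : Commute κ y) (hκγ : Commute κ γ) (hγw : Commute γ w₁) (hPw : Commute P w₁) :
    P * κ = 1 := by
  have hk : y⁻¹ * x * y * x⁻¹ = κ := by
    calc y⁻¹ * x * y * x⁻¹ = y⁻¹ * (κ * y) := by rw [hκ]; group
      _ = y⁻¹ * (y * κ) := by rw [hκy.eq]
      _ = κ := by group
  have hc1 : Commute y⁻¹ (P * γ * w₁) := ((hyP.mul_right hyγ).mul_right hyw).inv_left
  have e1 : w₁ = c * w₁ * c⁻¹ := by rw [hcw.eq]; group
  have e2 : c * w₁ * c⁻¹ = (c * b * c⁻¹)⁻¹ * (c * x * c⁻¹) * (c * b * c⁻¹) * (c * x * c⁻¹)⁻¹ := by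
    rw [hw]; group
  have e3 : (b * y)⁻¹ * (γ * x) * (b * y) * (γ * x)⁻¹ =
      y⁻¹ * (P * γ * w₁) * (x * y * x⁻¹ * γ⁻¹) := by
    rw [hP, hw]; group
  have e4 : w₁ = w₁ * (P * κ) := by
    calc w₁ = c * w₁ * c⁻¹ := e1
      _ = (b * y)⁻¹ * (γ * x) * (b * y) * (γ * x)⁻¹ := by rw [e2, hy, hγ]
      _ = y⁻¹ * (P * γ * w₁) * (x * y * x⁻¹ * γ⁻¹) := e3
      _ = (P * γ * w₁) * y⁻¹ * (x * y * x⁻¹ * γ⁻¹) := by rw [hc1.eq]
      _ = P * γ * w₁ * (y⁻¹ * x * y * x⁻¹) * γ⁻¹ := by group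
      _ = P * γ * w₁ * κ * γ⁻¹ := by rw [hk]
      _ = P * (γ * w₁) * (κ * γ⁻¹) := by group
      _ = P * (w₁ * γ) * (γ⁻¹ * κ) := by rw [hγw.eq, (hκγ.inv_right).eq]
      _ = (P * w₁) * κ := by group
      _ = (w₁ * P) * κ := by rw [hPw.eq]
      _ = w₁ * (P * κ) := by group
  exact (mul_eq_left.mp e4.symm)

theorem stepE (b α γ κ Pα Pγ : G) (hγ : γ = κ * α) (hPγ : Pγ = b⁻¹ * γ * b * γ⁻¹)
    (hPα : Pα = b⁻¹ * α * b * α⁻¹) (h1 : Pγ * κ = 1) (h2 : Pα * κ⁻¹ = 1) (hκb : Commute κ b) :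
    κ ^ 2 = 1 := by
  have hPα' : Pα = κ := by
    have := mul_eq_one_iff_eq_inv.mp h2
    rwa [inv_inv] at this
  have hκb' : Commute b⁻¹ κ := hκb.symm.inv_left
  have : Pγ = κ := by
    calc Pγ = b⁻¹ * (κ * α) * b * (κ * α)⁻¹ := by rw [hPγ, hγ]
      _ = (b⁻¹ * κ) * α * b * α⁻¹ * κ⁻¹ := by group
      _ = (κ * b⁻¹) * α * b * α⁻¹ * κ⁻¹ := by rw [hκb'.eq]
      _ = κ * (b⁻¹ * α * b * α⁻¹) * κ⁻¹ := by group
      _ = κ * κ * κ⁻¹ := by rw [← hPα, hPα']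
      _ = κ := by group
  rw [this] at h1
  rw [pow_two]; exact h1

/-- If `c` fixes `u` and `⁅u, b⁻¹⁆`, and `f = b⁻¹ (c b c⁻¹)` commutes with `⁅u, b⁻¹⁆`, then `u` and
`f` commute. -/
theorem stepD (u b c f w : G) (hw : w = u * b⁻¹ * u⁻¹ * b) (hcb : c * b * c⁻¹ = b * f)
    (hcu : Commute c u) (hcw : Commute c w) (hfw : Commute f w) : Commute u f := by
  have e1 : w = c * w * c⁻¹ := by rw [hcw.eq]; group
  have e2 : c * w * c⁻¹ = (c * u * c⁻¹) * (c * b * c⁻¹)⁻¹ * (c * u * c⁻¹)⁻¹ * (c * b * c⁻¹) := by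
    rw [hw]; group
  have e3 : c * u * c⁻¹ = u := by rw [hcu.eq]; group
  have e4 : w = u * f⁻¹ * (b⁻¹ * u⁻¹ * b * f) := by
    calc w = c * w * c⁻¹ := e1
      _ = u * (b * f)⁻¹ * u⁻¹ * (b * f) := by rw [e2, e3, hcb]
      _ = u * f⁻¹ * (b⁻¹ * u⁻¹ * b * f) := by group
  have e5 : w = f⁻¹ * u * (b⁻¹ * u⁻¹ * b * f) := by
    calc w = f⁻¹ * (f * w) := by group
      _ = f⁻¹ * (w * f) := by rw [hfw.eq]
      _ = f⁻¹ * u * (b⁻¹ * u⁻¹ * b * f) := by rw [hw]; group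
  have e6 : u * f⁻¹ = f⁻¹ * u := mul_right_cancel (e4.symm.trans e5)
  have : Commute u f⁻¹ := e6
  exact Commute.inv_right_iff.mp this

end pure

section subgroups

variable {G : Type*} [Group G]

theorem inv_mul_mul_inv_mem {H K : Subgroup G} {u v : G} (hu : u ∈ H) (hv : v ∈ K) :
    u⁻¹ * v * u * v⁻¹ ∈ ⁅H, K⁆ := by
  have := Subgroup.commutator_mem_commutator (H.inv_mem hu) hv
  rwa [commutatorElement_def, inv_inv] at this

theorem mul_mul_inv_inv_mem {H K : Subgroup G} {u v : G} (hu : u ∈ H) (hv : v ∈ K) :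
    u * v * u⁻¹ * v⁻¹ ∈ ⁅H, K⁆ :=
  Subgroup.commutator_mem_commutator hu hv

theorem commutator_self_le (B : Subgroup G) : ⁅B, B⁆ ≤ B := by
  rw [Subgroup.commutator_le]
  intro x hx y hy
  rw [commutatorElement_def]
  exact B.mul_mem (B.mul_mem (B.mul_mem hx hy) (B.inv_mem hx)) (B.inv_mem hy)

theorem commutator_le_of_normalizes (A B : Subgroup G)
    (hAB : A ≤ Subgroup.normalizer (B : Set G)) : ⁅B, A⁆ ≤ B := by
  rw [Subgroup.commutator_le]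
  intro b hb a ha
  have h1 : a * b⁻¹ * a⁻¹ ∈ B := (Subgroup.mem_normalizer_iff.mp (hAB ha) _).mp (B.inv_mem hb)
  have h2 : ⁅b, a⁆ = b * (a * b⁻¹ * a⁻¹) := by rw [commutatorElement_def]; group
  rw [h2]; exact B.mul_mem hb h1

/-- `⁅B, A⁆` centralizes `⁅B, B⁆` when `A` centralizes `⁅B, B⁆`. -/
theorem comm_X_B' (A B : Subgroup G) (hc : ⁅⁅B, B⁆, A⁆ = ⊥) : ⁅⁅B, A⁆, ⁅B, B⁆⁆ = ⊥ := by
  apply Subgroup.commutator_commutator_eq_bot_of_rotate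
  · rw [Subgroup.commutator_comm A, hc, Subgroup.commutator_bot_left]
  · have h1 : ⁅⁅B, B⁆, B⁆ ≤ ⁅B, B⁆ := Subgroup.commutator_mono (commutator_self_le B) le_rfl
    have h2 : ⁅⁅⁅B, B⁆, B⁆, A⁆ ≤ ⁅⁅B, B⁆, A⁆ := Subgroup.commutator_mono h1 le_rfl
    rw [hc] at h2
    exact le_bot_iff.mp h2

theorem commute_of_comm_eq_bot {H K : Subgroup G} (h : ⁅H, K⁆ = ⊥) {x y : G} (hx : x ∈ H)
    (hy : y ∈ K) : Commute x y := by
  rw [Subgroup.commutator_eq_bot_iff_le_centralizer] at h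
  exact (h hx y hy).symm

/-- `B` normalizes `⁅B, A⁆`. -/
theorem conj_mem_commutator (A B : Subgroup G) {b x : G} (hb : b ∈ B) (hx : x ∈ ⁅B, A⁆) :
    b * x * b⁻¹ ∈ ⁅B, A⁆ := by
  rw [Subgroup.commutator_def] at hx
  induction hx using Subgroup.closure_induction with
  | mem x hx =>
    obtain ⟨b₁, hb₁, a, ha, rfl⟩ := hx
    have h1 : b * ⁅b₁, a⁆ * b⁻¹ = ⁅b * b₁, a⁆ * ⁅b, a⁆⁻¹ := by
      simp only [commutatorElement_def]; group
    rw [h1]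
    exact Subgroup.mul_mem _ (Subgroup.commutator_mem_commutator (B.mul_mem hb hb₁) ha)
      (Subgroup.inv_mem _ (Subgroup.commutator_mem_commutator hb ha))
  | one => simp
  | mul x y _ _ ihx ihy =>
    have : b * (x * y) * b⁻¹ = (b * x * b⁻¹) * (b * y * b⁻¹) := by group
    rw [this]; exact Subgroup.mul_mem _ ihx ihy
  | inv x _ ih =>
    have : b * x⁻¹ * b⁻¹ = (b * x * b⁻¹)⁻¹ := by group
    rw [this]; exact Subgroup.inv_mem _ ih

end subgroups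

section part2

variable {G : Type*} [Group G]

/-- The generator `b⁻¹ a b a⁻¹`. -/
def ff (b a : G) : G := b⁻¹ * a * b * a⁻¹

/-- The subgroup generated by the `b⁻¹ a b a⁻¹`, `a ∈ A`. -/
def TT (A : Subgroup G) (b : G) : Subgroup G :=
  Subgroup.closure {g : G | ∃ a ∈ A, g = b⁻¹ * a * b * a⁻¹}

theorem ff_mem_TT {A : Subgroup G} {b a : G} (ha : a ∈ A) : ff b a ∈ TT A b :=
  Subgroup.subset_closure ⟨a, ha, rfl⟩

theorem TT_le_X {A B : Subgroup G} {b : G} (hb : b ∈ B) : TT A b ≤ ⁅B, A⁆ := by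
  unfold TT
  rw [Subgroup.closure_le]
  rintro _ ⟨a, ha, rfl⟩
  exact inv_mul_mul_inv_mem hb ha

theorem ff_mul (b a c : G) : ff b (a * c) = ff b a * (a * ff b c * a⁻¹) := by
  unfold ff; group

theorem conj_mem_TT {A : Subgroup G} {b a t : G} (ha : a ∈ A) (ht : t ∈ TT A b) :
    a * t * a⁻¹ ∈ TT A b := by
  unfold TT at ht
  induction ht using Subgroup.closure_induction with
  | mem t ht =>
    obtain ⟨c, hc, rfl⟩ := ht
    have h1 : a * (b⁻¹ * c * b * c⁻¹) * a⁻¹ = (ff b a)⁻¹ * ff b (a * c) := by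
      unfold ff; group
    rw [h1]
    exact Subgroup.mul_mem _ (Subgroup.inv_mem _ (ff_mem_TT ha)) (ff_mem_TT (A.mul_mem ha hc))
  | one => simp
  | mul x y _ _ ihx ihy =>
    have : a * (x * y) * a⁻¹ = (a * x * a⁻¹) * (a * y * a⁻¹) := by group
    rw [this]; exact Subgroup.mul_mem _ ihx ihy
  | inv x _ ih =>
    have : a * x⁻¹ * a⁻¹ = (a * x * a⁻¹)⁻¹ := by group
    rw [this]; exact Subgroup.inv_mem _ ih

theorem D_le_TT (A : Subgroup G) (b : G) : ⁅TT A b, A⁆ ≤ TT A b := by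
  rw [Subgroup.commutator_le]
  intro t ht a ha
  have h1 : a * t⁻¹ * a⁻¹ ∈ TT A b := conj_mem_TT ha (Subgroup.inv_mem _ ht)
  have h2 : ⁅t, a⁆ = t * (a * t⁻¹ * a⁻¹) := by rw [commutatorElement_def]; group
  rw [h2]; exact Subgroup.mul_mem _ ht h1

theorem alpha_mem_D {A : Subgroup G} {b a t : G} (ha : a ∈ A) (ht : t ∈ TT A b) :
    a * t * a⁻¹ * t⁻¹ ∈ ⁅TT A b, A⁆ := by
  have h1 : a * t * a⁻¹ * t⁻¹ = ⁅t, a⁆⁻¹ := by rw [commutatorElement_def]; group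
  rw [h1]
  exact Subgroup.inv_mem _ (Subgroup.commutator_mem_commutator ht ha)

/-- The main computation: commutators of generators of `TT A b` square to one. -/
theorem kappa_sq (A B : Subgroup G) (hAB : A ≤ Subgroup.normalizer (B : Set G))
    (hc : ⁅⁅B, B⁆, A⁆ = ⊥) (hA : IsMulCommutative A) (b : G) (hb : b ∈ B)
    (hq : ⁅⁅TT A b, A⁆, A⁆ = ⊥) (a c : G) (ha : a ∈ A) (hcA : c ∈ A) :
    (ff b a * ff b c * (ff b a)⁻¹ * (ff b c)⁻¹) ^ 2 = 1 := by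
  have hXB : ⁅B, A⁆ ≤ B := commutator_le_of_normalizes A B hAB
  have hTX : TT A b ≤ ⁅B, A⁆ := TT_le_X hb
  have hDT : ⁅TT A b, A⁆ ≤ TT A b := D_le_TT A b
  have hXB' := comm_X_B' A B hc
  -- commutation helpers
  have cXB' : ∀ {x w : G}, x ∈ ⁅B, A⁆ → w ∈ ⁅B, B⁆ → Commute x w :=
    fun hx hw => commute_of_comm_eq_bot hXB' hx hw
  have cAB' : ∀ {a' w : G}, a' ∈ A → w ∈ ⁅B, B⁆ → Commute a' w :=
    fun ha' hw => (commute_of_comm_eq_bot hc hw ha').symm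
  have cDA : ∀ {u a' : G}, u ∈ ⁅TT A b, A⁆ → a' ∈ A → Commute u a' :=
    fun hu ha' => commute_of_comm_eq_bot hq hu ha'
  -- D centralizes T
  have cDf : ∀ {u c' : G}, u ∈ ⁅TT A b, A⁆ → c' ∈ A → Commute u (ff b c') := by
    intro u c' hu hc'
    have huB : u ∈ B := hXB (hTX (hDT hu))
    have hwB' : u * b⁻¹ * u⁻¹ * b ∈ ⁅B, B⁆ := by
      have := mul_mul_inv_inv_mem huB (B.inv_mem hb)
      rwa [inv_inv] at this
    exact stepD u b c' (ff b c') _ rfl (by unfold ff; group) (cDA hu hc').symm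
      (cAB' hc' hwB') (cXB' (hTX (ff_mem_TT hc')) hwB')
  have cDT : ∀ {u t : G}, u ∈ ⁅TT A b, A⁆ → t ∈ TT A b → Commute u t := by
    intro u t hu ht
    have hle : TT A b ≤ Subgroup.centralizer ({u} : Set G) := by
      unfold TT
      rw [Subgroup.closure_le]
      rintro _ ⟨c', hc', rfl⟩
      rw [SetLike.mem_coe, Subgroup.mem_centralizer_iff]
      intro h hh
      rw [Set.mem_singleton_iff] at hh; subst hh
      exact (cDf hu hc').eq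
    exact ((Subgroup.mem_centralizer_iff.mp (hle ht)) u rfl)
  -- T' commutes with b
  have hT'b : ⁅⁅TT A b, TT A b⁆, Subgroup.zpowers b⁆ = ⊥ := by
    have hTB : TT A b ≤ B := hTX.trans hXB
    have hZB : Subgroup.zpowers b ≤ B := by rw [Subgroup.zpowers_le]; exact hb
    apply Subgroup.commutator_commutator_eq_bot_of_rotate
    · have h1 : ⁅⁅TT A b, Subgroup.zpowers b⁆, TT A b⁆ ≤ ⁅⁅B, B⁆, ⁅B, A⁆⁆ :=
        Subgroup.commutator_mono (Subgroup.commutator_mono hTB hZB) hTX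
      rw [Subgroup.commutator_comm ⁅B, B⁆ ⁅B, A⁆, hXB'] at h1
      exact le_bot_iff.mp h1
    · have h1 : ⁅⁅Subgroup.zpowers b, TT A b⁆, TT A b⁆ ≤ ⁅⁅B, B⁆, ⁅B, A⁆⁆ :=
        Subgroup.commutator_mono (Subgroup.commutator_mono hZB hTB) hTX
      rw [Subgroup.commutator_comm ⁅B, B⁆ ⁅B, A⁆, hXB'] at h1
      exact le_bot_iff.mp h1
  -- the elements
  set x := ff b a with hx
  set y := ff b c with hy
  have hxT : x ∈ TT A b := ff_mem_TT ha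
  have hyT : y ∈ TT A b := ff_mem_TT hcA
  have hxX : x ∈ ⁅B, A⁆ := hTX hxT
  have hyX : y ∈ ⁅B, A⁆ := hTX hyT
  have hxB : x ∈ B := hXB hxX
  have hyB : y ∈ B := hXB hyX
  obtain ⟨α, hα⟩ : ∃ α, α = a * y * a⁻¹ * y⁻¹ := ⟨_, rfl⟩
  obtain ⟨γ, hγ⟩ : ∃ γ, γ = c * x * c⁻¹ * x⁻¹ := ⟨_, rfl⟩
  obtain ⟨κ, hκ⟩ : ∃ κ, κ = x * y * x⁻¹ * y⁻¹ := ⟨_, rfl⟩
  have hαD : α ∈ ⁅TT A b, A⁆ := by rw [hα]; exact alpha_mem_D ha hyT
  have hγD : γ ∈ ⁅TT A b, A⁆ := by rw [hγ]; exact alpha_mem_D hcA hxT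
  have hαX : α ∈ ⁅B, A⁆ := hTX (hDT hαD)
  have hγX : γ ∈ ⁅B, A⁆ := hTX (hDT hγD)
  have hκT' : κ ∈ ⁅TT A b, TT A b⁆ := by rw [hκ]; exact mul_mul_inv_inv_mem hxT hyT
  have hκB' : κ ∈ ⁅B, B⁆ := Subgroup.commutator_mono (hTX.trans hXB) (hTX.trans hXB) hκT'
  -- step A
  have hac : a * c = c * a :=
    congrArg Subtype.val (mul_comm' (⟨a, ha⟩ : A) ⟨c, hcA⟩)
  have hA1 : x * α * y = y * γ * x := by
    have e1 : ff b (a * c) = x * α * y := by rw [hα, hx, hy]; unfold ff; group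
    have e2 : ff b (c * a) = y * γ * x := by rw [hγ, hx, hy]; unfold ff; group
    rw [← e1, ← e2, hac]
  -- step B
  have hB1 : κ = γ * α⁻¹ := by
    rw [hκ]
    exact stepB x y α γ hA1 (cDT hαD hxT) (cDT hαD hyT) (cDT hγD hxT) (cDT hγD hyT)
  have hγκ : γ = κ * α := by rw [hB1]; group
  -- step C (twice)
  obtain ⟨w₁, hw₁⟩ : ∃ w₁, w₁ = b⁻¹ * x * b * x⁻¹ := ⟨_, rfl⟩
  obtain ⟨w₂, hw₂⟩ : ∃ w₂, w₂ = b⁻¹ * y * b * y⁻¹ := ⟨_, rfl⟩
  obtain ⟨Pγ, hPγ⟩ : ∃ Pγ, Pγ = b⁻¹ * γ * b * γ⁻¹ := ⟨_, rfl⟩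
  obtain ⟨Pα, hPα⟩ : ∃ Pα, Pα = b⁻¹ * α * b * α⁻¹ := ⟨_, rfl⟩
  have hw₁B' : w₁ ∈ ⁅B, B⁆ := by rw [hw₁]; exact inv_mul_mul_inv_mem hb hxB
  have hw₂B' : w₂ ∈ ⁅B, B⁆ := by rw [hw₂]; exact inv_mul_mul_inv_mem hb hyB
  have hPγB' : Pγ ∈ ⁅B, B⁆ := by rw [hPγ]; exact inv_mul_mul_inv_mem hb (hXB hγX)
  have hPαB' : Pα ∈ ⁅B, B⁆ := by rw [hPα]; exact inv_mul_mul_inv_mem hb (hXB hαX)
  have hPγX : Pγ ∈ ⁅B, A⁆ := by
    rw [hPγ]
    have h1 : b⁻¹ * γ * b⁻¹⁻¹ ∈ ⁅B, A⁆ := conj_mem_commutator A B (B.inv_mem hb) hγX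
    rw [inv_inv] at h1
    exact Subgroup.mul_mem _ h1 (Subgroup.inv_mem _ hγX)
  have hPαX : Pα ∈ ⁅B, A⁆ := by
    rw [hPα]
    have h1 : b⁻¹ * α * b⁻¹⁻¹ ∈ ⁅B, A⁆ := conj_mem_commutator A B (B.inv_mem hb) hαX
    rw [inv_inv] at h1
    exact Subgroup.mul_mem _ h1 (Subgroup.inv_mem _ hαX)
  have hC1 : Pγ * κ = 1 := by
    refine stepC b c x y γ w₁ Pγ κ (by rw [hy]; unfold ff; group) (by rw [hγ]; group)
      hw₁ hPγ hκ (cAB' hcA hw₁B') (cXB' hyX hPγB') (cDT hγD hyT).symm (cXB' hyX hw₁B')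
      (cXB' hyX hκB').symm (cXB' hγX hκB').symm (cXB' hγX hw₁B') (cXB' hPγX hw₁B')
  have hκinv : κ⁻¹ = y * x * y⁻¹ * x⁻¹ := by rw [hκ]; group
  have hκinvB' : κ⁻¹ ∈ ⁅B, B⁆ := Subgroup.inv_mem _ hκB'
  have hC2 : Pα * κ⁻¹ = 1 := by
    refine stepC b a y x α w₂ Pα κ⁻¹ (by rw [hx]; unfold ff; group) (by rw [hα]; group)
      hw₂ hPα hκinv (cAB' ha hw₂B') (cXB' hxX hPαB') (cDT hαD hxT).symm (cXB' hxX hw₂B')
      (cXB' hxX hκinvB').symm (cXB' hαX hκinvB').symm (cXB' hαX hw₂B') (cXB' hPαX hw₂B')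
  -- step E
  have hκb : Commute κ b :=
    commute_of_comm_eq_bot hT'b hκT' (Subgroup.mem_zpowers b)
  have := stepE b α γ κ Pα Pγ hγκ hPγ hPα hC1 hC2 hκb
  rw [← hκ]; exact this

end part2

/-- If A acts on B centralizing [B, B], then [B, A] has derived subgroup central in B, and for abelian A and b ∈ B with [[b, A], A, A] = 1 the derived subgroup of the subgroup [b, A] generated by the commutators of b with A has exponent dividing 2. -/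
theorem result {G : Type*} [Group G] [Finite G] (A B : Subgroup G) (hAB : A ≤ Subgroup.normalizer (B : Set G)) (hc : ⁅⁅B, B⁆, A⁆ = ⊥) : ⁅⁅B, A⁆, ⁅B, A⁆⁆ ≤ B ⊓ Subgroup.centralizer (B : Set G) ∧ (IsMulCommutative A → ∀ b ∈ B, ⁅⁅(Subgroup.closure {g : G | ∃ a ∈ A, g = b⁻¹ * a * b * a⁻¹}), A⁆, A⁆ = ⊥ → ∀ w ∈ ⁅(Subgroup.closure {g : G | ∃ a ∈ A, g = b⁻¹ * a * b * a⁻¹}), (Subgroup.closure {g : G | ∃ a ∈ A, g = b⁻¹ * a * b * a⁻¹})⁆, w ^ 2 = 1) := by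
  have hXB : ⁅B, A⁆ ≤ B := commutator_le_of_normalizes A B hAB
  have hXB' := comm_X_B' A B hc
  refine ⟨?_, ?_⟩
  · apply le_inf
    · exact (commutator_self_le _).trans hXB
    · rw [← Subgroup.commutator_eq_bot_iff_le_centralizer]
      apply Subgroup.commutator_commutator_eq_bot_of_rotate
      · have h1 : ⁅⁅⁅B, A⁆, B⁆, ⁅B, A⁆⁆ ≤ ⁅⁅B, B⁆, ⁅B, A⁆⁆ :=
          Subgroup.commutator_mono (Subgroup.commutator_mono hXB le_rfl) le_rfl
        rw [Subgroup.commutator_comm ⁅B, B⁆, hXB'] at h1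
        exact le_bot_iff.mp h1
      · have h1 : ⁅⁅B, ⁅B, A⁆⁆, ⁅B, A⁆⁆ ≤ ⁅⁅B, B⁆, ⁅B, A⁆⁆ :=
          Subgroup.commutator_mono (Subgroup.commutator_mono le_rfl hXB) le_rfl
        rw [Subgroup.commutator_comm ⁅B, B⁆, hXB'] at h1
        exact le_bot_iff.mp h1
  · intro hA b hb hq w hw
    change ⁅⁅TT A b, A⁆, A⁆ = ⊥ at hq
    change w ∈ ⁅TT A b, TT A b⁆ at hw
    have hTX : TT A b ≤ ⁅B, A⁆ := TT_le_X hb
    have hTB : TT A b ≤ B := hTX.trans hXB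
    have cXB' : ∀ {x w : G}, x ∈ ⁅B, A⁆ → w ∈ ⁅B, B⁆ → Commute x w :=
      fun hx hw => commute_of_comm_eq_bot hXB' hx hw
    have hT'B' : ⁅TT A b, TT A b⁆ ≤ ⁅B, B⁆ := Subgroup.commutator_mono hTB hTB
    have hT'T : ⁅TT A b, TT A b⁆ ≤ TT A b := commutator_self_le _
    -- squares of commutators of elements of T
    have hsq : ∀ t ∈ TT A b, ∀ s ∈ TT A b, ⁅t, s⁆ ^ 2 = 1 := by
      intro t ht s hs
      unfold TT at ht hs
      induction ht, hs using Subgroup.closure_induction₂ with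
      | mem t s ht hs =>
        obtain ⟨a, ha, rfl⟩ := ht
        obtain ⟨c, hcA, rfl⟩ := hs
        exact kappa_sq A B hAB hc hA b hb hq a c ha hcA
      | one_left s hs => simp
      | one_right t ht => simp
      | mul_left t t' s ht ht' hs h1 h2 =>
        have hcm : Commute t ⁅t', s⁆ :=
          cXB' (hTX ht) (hT'B' (Subgroup.commutator_mem_commutator ht' hs))
        have e1 : ⁅t * t', s⁆ = ⁅t', s⁆ * ⁅t, s⁆ := by
          calc ⁅t * t', s⁆ = (t * ⁅t', s⁆) * t⁻¹ * ⁅t, s⁆ := by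
                simp only [commutatorElement_def]; group
            _ = (⁅t', s⁆ * t) * t⁻¹ * ⁅t, s⁆ := by rw [hcm.eq]
            _ = ⁅t', s⁆ * ⁅t, s⁆ := by group
        have hcm2 : Commute ⁅t', s⁆ ⁅t, s⁆ :=
          cXB' (hTX (hT'T (Subgroup.commutator_mem_commutator ht' hs)))
            (hT'B' (Subgroup.commutator_mem_commutator ht hs))
        rw [e1, hcm2.mul_pow, h1, h2, one_mul]
      | mul_right s s' t hs hs' ht h1 h2 =>
        have hcm : Commute s ⁅t, s'⁆ :=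
          cXB' (hTX hs) (hT'B' (Subgroup.commutator_mem_commutator ht hs'))
        have e1 : ⁅t, s * s'⁆ = ⁅t, s⁆ * ⁅t, s'⁆ := by
          calc ⁅t, s * s'⁆ = ⁅t, s⁆ * ((s * ⁅t, s'⁆) * s⁻¹) := by
                simp only [commutatorElement_def]; group
            _ = ⁅t, s⁆ * ((⁅t, s'⁆ * s) * s⁻¹) := by rw [hcm.eq]
            _ = ⁅t, s⁆ * ⁅t, s'⁆ := by group
        have hcm2 : Commute ⁅t, s⁆ ⁅t, s'⁆ :=
          cXB' (hTX (hT'T (Subgroup.commutator_mem_commutator ht hs)))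
            (hT'B' (Subgroup.commutator_mem_commutator ht hs'))
        rw [e1, hcm2.mul_pow, h1, h2, one_mul]
      | inv_left t s ht hs h =>
        have hcm : Commute t ⁅t, s⁆ :=
          cXB' (hTX ht) (hT'B' (Subgroup.commutator_mem_commutator ht hs))
        have e1 : ⁅t⁻¹, s⁆ = ⁅t, s⁆⁻¹ := by
          calc ⁅t⁻¹, s⁆ = t⁻¹ * (⁅t, s⁆⁻¹ * t) := by
                simp only [commutatorElement_def]; group
            _ = t⁻¹ * (t * ⁅t, s⁆⁻¹) := by rw [(hcm.inv_right).eq]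
            _ = ⁅t, s⁆⁻¹ := by group
        rw [e1, inv_pow, h, inv_one]
      | inv_right t s ht hs h =>
        have hcm : Commute s ⁅t, s⁆ :=
          cXB' (hTX hs) (hT'B' (Subgroup.commutator_mem_commutator ht hs))
        have e1 : ⁅t, s⁻¹⁆ = ⁅t, s⁆⁻¹ := by
          calc ⁅t, s⁻¹⁆ = s⁻¹ * (⁅t, s⁆⁻¹ * s) := by
                simp only [commutatorElement_def]; group
            _ = s⁻¹ * (s * ⁅t, s⁆⁻¹) := by rw [(hcm.inv_right).eq]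
            _ = ⁅t, s⁆⁻¹ := by group
        rw [e1, inv_pow, h, inv_one]
    -- extend to the whole derived subgroup
    have hw' := hw
    rw [Subgroup.commutator_def] at hw'
    induction hw' using Subgroup.closure_induction with
    | mem w hw'' =>
      obtain ⟨t, ht, s, hs, rfl⟩ := hw''
      exact hsq t ht s hs
    | one => simp
    | mul u v hu hv ihu ihv =>
      have hu' : u ∈ ⁅TT A b, TT A b⁆ := by rw [Subgroup.commutator_def]; exact hu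
      have hv' : v ∈ ⁅TT A b, TT A b⁆ := by rw [Subgroup.commutator_def]; exact hv
      have hcm : Commute u v := cXB' (hTX (hT'T hu')) (hT'B' hv')
      rw [hcm.mul_pow, ihu hu', ihv hv', one_mul]
    | inv u hu ih =>
      have hu' : u ∈ ⁅TT A b, TT A b⁆ := by rw [Subgroup.commutator_def]; exact hu
      rw [inv_pow, ih hu', inv_one]

end Cfsg.Agent.S0648
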