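import Cfsg.Statements.S0650
import Cfsg.Agent.S0648

set_option autoImplicit false
open Cfsg
open scoped commutatorElement

namespace Cfsg.Agent.S0650

section basics

variable {S : Type*} [Group S]

/-- The conjugate `b⁻¹ A b`. -/
abbrev Ab (A : Subgroup S) (b : S) : Subgroup S := A.map (MulAut.conj (b⁻¹)).toMonoidHom

/-- The generator `a b⁻¹ a⁻¹ b`. -/
def uu (b a : S) : S := a * b⁻¹ * a⁻¹ * b

/-- The subgroup generated by the `a b⁻¹ a⁻¹ b`, `a ∈ A`. -/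
abbrev Tb (A : Subgroup S) (b : S) : Subgroup S :=
  Subgroup.closure {g : S | ∃ a ∈ A, g = a * b⁻¹ * a⁻¹ * b}

/-- The replacement subgroup. -/
abbrev Astar (A : Subgroup S) (b : S) : Subgroup S := (A ⊓ Ab A b) ⊔ Tb A b

theorem mem_Ab {A : Subgroup S} {b x : S} : x ∈ Ab A b ↔ b * x * b⁻¹ ∈ A := by
  constructor
  · rintro ⟨a, ha, rfl⟩
    have : b * ((MulAut.conj b⁻¹).toMonoidHom a) * b⁻¹ = a := by
      simp [MulAut.conj_apply, mul_assoc]
    rw [this]; exact ha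
  · intro h
    refine ⟨b * x * b⁻¹, h, ?_⟩
    simp [MulAut.conj_apply, mul_assoc]

theorem conj_mem_Ab {A : Subgroup S} {b a : S} (ha : a ∈ A) : b⁻¹ * a * b ∈ Ab A b := by
  rw [mem_Ab]
  have : b * (b⁻¹ * a * b) * b⁻¹ = a := by group
  rw [this]; exact ha

theorem uu_mem_Tb {A : Subgroup S} {b a : S} (ha : a ∈ A) : uu b a ∈ Tb A b :=
  Subgroup.subset_closure ⟨a, ha, rfl⟩

theorem uu_eq (b a : S) : uu b a = a * (b⁻¹ * a⁻¹ * b) := by unfold uu; group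

theorem uu_mul (b a c : S) : uu b (a * c) = (a * uu b c * a⁻¹) * uu b a := by
  unfold uu; group

end basics

section setup

variable {S : Type*} [Group S] {A B : Subgroup S} {b : S}

/-- The standing hypotheses on `A`, `B`, `b`. -/
structure Hyp (A B : Subgroup S) (b : S) : Prop where
  hBn : B.Normal
  hA : IsMulCommutative A
  hBA : ⁅B, B⁆ ≤ A
  hb : b ∈ B
  hbN : b ∈ Subgroup.normalizer ((Subgroup.normalizer (A : Set S)) : Set S)
  hbA : b ∉ Subgroup.normalizer (A : Set S)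

namespace Hyp

variable (h : Hyp A B b)
include h

theorem comm_A {x y : S} (hx : x ∈ A) (hy : y ∈ A) : Commute x y :=
  congrArg Subtype.val (@mul_comm' A _ h.hA ⟨x, hx⟩ ⟨y, hy⟩)

theorem conj_mem_A {n a : S} (hn : n ∈ Subgroup.normalizer (A : Set S)) (ha : a ∈ A) :
    n * a * n⁻¹ ∈ A :=
  (Subgroup.mem_normalizer_iff.mp hn a).mp ha

theorem conj_mem_A' {n a : S} (hn : n ∈ Subgroup.normalizer (A : Set S)) (ha : a ∈ A) :
    n⁻¹ * a * n ∈ A := by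
  have := h.conj_mem_A (Subgroup.inv_mem _ hn) ha
  rwa [inv_inv] at this

theorem bconj_mem_N {n : S} (hn : n ∈ Subgroup.normalizer (A : Set S)) :
    b * n * b⁻¹ ∈ Subgroup.normalizer (A : Set S) :=
  (Subgroup.mem_normalizer_iff.mp h.hbN n).mp hn

theorem bconj_mem_N' {n : S} (hn : n ∈ Subgroup.normalizer (A : Set S)) :
    b⁻¹ * n * b ∈ Subgroup.normalizer (A : Set S) := by
  have := (Subgroup.mem_normalizer_iff.mp (Subgroup.inv_mem _ h.hbN) n).mp hn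
  rwa [inv_inv] at this

theorem A_le_N : A ≤ Subgroup.normalizer (A : Set S) := Subgroup.le_normalizer

theorem Ab_le_N : Ab A b ≤ Subgroup.normalizer (A : Set S) := by
  intro x hx
  rw [mem_Ab] at hx
  have := h.bconj_mem_N' (h.A_le_N hx)
  have e : b⁻¹ * (b * x * b⁻¹) * b = x := by group
  rwa [e] at this

theorem conj_mem_Ab_of_mem_N {n x : S} (hn : n ∈ Subgroup.normalizer (A : Set S))
    (hx : x ∈ Ab A b) : n * x * n⁻¹ ∈ Ab A b := by
  rw [mem_Ab] at hx ⊢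
  have h1 := h.conj_mem_A (h.bconj_mem_N hn) hx
  have e : b * n * b⁻¹ * (b * x * b⁻¹) * (b * n * b⁻¹)⁻¹ = b * (n * x * n⁻¹) * b⁻¹ := by group
  rwa [e] at h1

theorem comm_Ab {x y : S} (hx : x ∈ Ab A b) (hy : y ∈ Ab A b) : Commute x y := by
  rw [mem_Ab] at hx hy
  have := h.comm_A hx hy
  have e1 : b * x * b⁻¹ * (b * y * b⁻¹) = b * (x * y) * b⁻¹ := by group
  have e2 : b * y * b⁻¹ * (b * x * b⁻¹) = b * (y * x) * b⁻¹ := by group
  have e3 : b * (x * y) * b⁻¹ = b * (y * x) * b⁻¹ := by rw [← e1, ← e2]; exact this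
  exact mul_left_cancel (mul_right_cancel e3)

theorem conj_mem_Z {n z : S} (hn : n ∈ Subgroup.normalizer (A : Set S))
    (hz : z ∈ A ⊓ Ab A b) : n * z * n⁻¹ ∈ A ⊓ Ab A b :=
  ⟨h.conj_mem_A hn hz.1, h.conj_mem_Ab_of_mem_N hn hz.2⟩

theorem comm_mem_Z {a x : S} (ha : a ∈ A) (hx : x ∈ Ab A b) :
    a * x * a⁻¹ * x⁻¹ ∈ A ⊓ Ab A b := by
  constructor
  · have h1 : x * a⁻¹ * x⁻¹ ∈ A := h.conj_mem_A (h.Ab_le_N hx) (A.inv_mem ha)
    have e : a * x * a⁻¹ * x⁻¹ = a * (x * a⁻¹ * x⁻¹) := by group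
    rw [e]; exact A.mul_mem ha h1
  · have h1 : a * x * a⁻¹ ∈ Ab A b := h.conj_mem_Ab_of_mem_N (h.A_le_N ha) hx
    exact Subgroup.mul_mem _ h1 (Subgroup.inv_mem _ hx)

/-- The subgroup of elements of `N_S(A)` whose commutators with `A` lie in `A ∩ A^b`. -/
def KK (_h : Hyp A B b) : Subgroup S where
  carrier := {x | x ∈ Subgroup.normalizer (A : Set S) ∧ ∀ a ∈ A, a * x * a⁻¹ * x⁻¹ ∈ A ⊓ Ab A b}
  one_mem' := ⟨Subgroup.one_mem _, fun a _ => by simp⟩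
  mul_mem' := by
    rintro x y ⟨hxN, hx⟩ ⟨hyN, hy⟩
    refine ⟨Subgroup.mul_mem _ hxN hyN, fun a ha => ?_⟩
    have e : a * (x * y) * a⁻¹ * (x * y)⁻¹ =
        (a * x * a⁻¹ * x⁻¹) * (x * (a * y * a⁻¹ * y⁻¹) * x⁻¹) := by group
    rw [e]
    exact Subgroup.mul_mem _ (hx a ha) (_h.conj_mem_Z hxN (hy a ha))
  inv_mem' := by
    rintro x ⟨hxN, hx⟩
    refine ⟨Subgroup.inv_mem _ hxN, fun a ha => ?_⟩
    have e : a * x⁻¹ * a⁻¹ * x⁻¹⁻¹ = x⁻¹ * (a * x * a⁻¹ * x⁻¹)⁻¹ * x⁻¹⁻¹ := by group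
    rw [e]
    exact _h.conj_mem_Z (Subgroup.inv_mem _ hxN) (Subgroup.inv_mem _ (hx a ha))

theorem A_le_KK : A ≤ KK h := by
  intro x hx
  refine ⟨h.A_le_N hx, fun a ha => ?_⟩
  have : a * x * a⁻¹ * x⁻¹ = 1 := by
    rw [(h.comm_A ha hx).eq]; group
  rw [this]; exact Subgroup.one_mem _

theorem Ab_le_KK : Ab A b ≤ KK h :=
  fun _ hx => ⟨h.Ab_le_N hx, fun _ ha => h.comm_mem_Z ha hx⟩

theorem Tb_le_KK : Tb A b ≤ KK h := by
  rw [Subgroup.closure_le]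
  rintro _ ⟨a, ha, rfl⟩
  have e : a * b⁻¹ * a⁻¹ * b = a * (b⁻¹ * a⁻¹ * b) := by group
  rw [e]
  exact Subgroup.mul_mem _ (h.A_le_KK ha) (h.Ab_le_KK (conj_mem_Ab (A.inv_mem ha)))

theorem Tb_le_N : Tb A b ≤ Subgroup.normalizer (A : Set S) := fun _ hx => (h.Tb_le_KK hx).1

theorem comm_Tb_mem_Z {a t : S} (ha : a ∈ A) (ht : t ∈ Tb A b) :
    a * t * a⁻¹ * t⁻¹ ∈ A ⊓ Ab A b := (h.Tb_le_KK ht).2 a ha

/-- `A ∩ A^b` commutes elementwise with `KK`-elements?  No: with `A` and `A^b`. -/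
theorem comm_Z_A {z a : S} (hz : z ∈ A ⊓ Ab A b) (ha : a ∈ A) : Commute z a := h.comm_A hz.1 ha

theorem comm_Z_Ab {z x : S} (hz : z ∈ A ⊓ Ab A b) (hx : x ∈ Ab A b) : Commute z x :=
  h.comm_Ab hz.2 hx

theorem comm_Z_Tb {z t : S} (hz : z ∈ A ⊓ Ab A b) (ht : t ∈ Tb A b) : Commute z t := by
  have hle : Tb A b ≤ Subgroup.centralizer ({z} : Set S) := by
    rw [Subgroup.closure_le]
    rintro _ ⟨a, ha, rfl⟩
    rw [SetLike.mem_coe, Subgroup.mem_centralizer_iff]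
    intro y hy
    rw [Set.mem_singleton_iff] at hy; subst hy
    have e : a * b⁻¹ * a⁻¹ * b = a * (b⁻¹ * a⁻¹ * b) := by group
    rw [e]
    exact ((h.comm_Z_A hz ha).mul_right (h.comm_Z_Ab hz (conj_mem_Ab (A.inv_mem ha)))).eq
  exact (Subgroup.mem_centralizer_iff.mp (hle ht)) z rfl

theorem Tb_le_B : Tb A b ≤ B := by
  rw [Subgroup.closure_le]
  rintro _ ⟨a, _, rfl⟩
  have h1 : a * b⁻¹ * a⁻¹ ∈ B := h.hBn.conj_mem _ (B.inv_mem h.hb) a
  exact B.mul_mem h1 h.hb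

/-- The generating set of `Tb` in the form used by statement S0648. -/
theorem Tb_eq_closure_inv :
    Tb A b = Subgroup.closure {g : S | ∃ a ∈ A, g = b⁻¹ * a * b * a⁻¹} := by
  apply le_antisymm
  · rw [Subgroup.closure_le]
    rintro _ ⟨a, ha, rfl⟩
    have e : a * b⁻¹ * a⁻¹ * b = (b⁻¹ * a * b * a⁻¹)⁻¹ := by group
    rw [e]
    exact Subgroup.inv_mem _ (Subgroup.subset_closure ⟨a, ha, rfl⟩)
  · rw [Subgroup.closure_le]
    rintro _ ⟨a, ha, rfl⟩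
    have e : b⁻¹ * a * b * a⁻¹ = (a * b⁻¹ * a⁻¹ * b)⁻¹ := by group
    rw [e]
    exact Subgroup.inv_mem _ (Subgroup.subset_closure ⟨a, ha, rfl⟩)

theorem comm_Tb_A_le_Z : ⁅Tb A b, A⁆ ≤ A ⊓ Ab A b := by
  rw [Subgroup.commutator_le]
  intro t ht a ha
  have h1 := h.comm_Tb_mem_Z ha ht
  have e : ⁅t, a⁆ = (a * t * a⁻¹ * t⁻¹)⁻¹ := by rw [commutatorElement_def]; group
  rw [e]; exact Subgroup.inv_mem _ h1

theorem comm_Z_A_eq_bot : ⁅A ⊓ Ab A b, A⁆ = ⊥ := by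
  rw [Subgroup.commutator_eq_bot_iff_le_centralizer]
  intro z hz
  rw [Subgroup.mem_centralizer_iff]
  intro a ha
  exact (h.comm_Z_A hz ha).eq.symm

/-- `Tb` is abelian. -/
theorem comm_Tb [Finite S] {p : ℕ} [hp : Fact p.Prime] (hS : IsPGroup p S)
    (hB2 : p = 2 → IsMulCommutative B) {x y : S} (hx : x ∈ Tb A b) (hy : y ∈ Tb A b) :
    Commute x y := by
  by_cases hp2 : p = 2
  · have := hB2 hp2
    exact congrArg Subtype.val (mul_comm' (⟨x, h.Tb_le_B hx⟩ : B) ⟨y, h.Tb_le_B hy⟩)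
  · have hAB : A ≤ Subgroup.normalizer (B : Set S) := by
      have := h.hBn
      rw [Subgroup.normalizer_eq_top]; exact le_top
    have hc : ⁅⁅B, B⁆, A⁆ = ⊥ := by
      have h1 : ⁅⁅B, B⁆, A⁆ ≤ ⁅A, A⁆ := Subgroup.commutator_mono h.hBA le_rfl
      have h2 : ⁅A, A⁆ = ⊥ := by
        rw [Subgroup.commutator_eq_bot_iff_le_centralizer]
        have := h.hA
        exact Subgroup.le_centralizer A
      rw [h2] at h1
      exact le_bot_iff.mp h1
    have hq : ⁅⁅Tb A b, A⁆, A⁆ = ⊥ := by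
      have h1 : ⁅⁅Tb A b, A⁆, A⁆ ≤ ⁅A ⊓ Ab A b, A⁆ :=
        Subgroup.commutator_mono h.comm_Tb_A_le_Z le_rfl
      rw [h.comm_Z_A_eq_bot] at h1
      exact le_bot_iff.mp h1
    have key := (Cfsg.Agent.S0648.result A B hAB hc).2 h.hA b h.hb
    rw [← h.Tb_eq_closure_inv] at key
    have hw := key hq ⁅x, y⁆ (Subgroup.commutator_mem_commutator hx hy)
    have h1 : orderOf ⁅x, y⁆ ∣ 2 := orderOf_dvd_of_pow_eq_one hw
    obtain ⟨k, hk⟩ := hS.exists_orderOf_dvd_pow ⁅x, y⁆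
    have hcop : Nat.Coprime 2 (p ^ k) :=
      Nat.Coprime.pow_right k ((Nat.coprime_primes Nat.prime_two hp.out).mpr (Ne.symm hp2))
    have h2 : orderOf ⁅x, y⁆ ∣ Nat.gcd 2 (p ^ k) := Nat.dvd_gcd h1 hk
    rw [hcop.gcd_eq_one, Nat.dvd_one, orderOf_eq_one_iff, commutatorElement_eq_one_iff_commute] at h2
    exact h2

theorem Astar_eq_closure :
    Astar A b = Subgroup.closure (((A ⊓ Ab A b : Subgroup S) : Set S) ∪ (Tb A b : Set S)) := by
  rw [Subgroup.closure_union, Subgroup.closure_eq, Subgroup.closure_eq]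

theorem isMulCommutative_Astar [Finite S] {p : ℕ} [Fact p.Prime] (hS : IsPGroup p S)
    (hB2 : p = 2 → IsMulCommutative B) : IsMulCommutative (Astar A b) := by
  rw [h.Astar_eq_closure]
  apply Subgroup.isMulCommutative_closure
  rintro x (hx | hx) y (hy | hy)
  · exact (h.comm_A hx.1 hy.1).eq
  · exact (h.comm_Z_Tb hx hy).eq
  · exact (h.comm_Z_Tb hy hx).eq.symm
  · exact (h.comm_Tb hS hB2 hx hy).eq

theorem comm_Astar [Finite S] {p : ℕ} [Fact p.Prime] (hS : IsPGroup p S)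
    (hB2 : p = 2 → IsMulCommutative B) {x y : S} (hx : x ∈ Astar A b) (hy : y ∈ Astar A b) :
    Commute x y := by
  have := h.isMulCommutative_Astar hS hB2
  exact congrArg Subtype.val (mul_comm' (⟨x, hx⟩ : Astar A b) ⟨y, hy⟩)

theorem Z_le_Astar : A ⊓ Ab A b ≤ Astar A b := le_sup_left

theorem Tb_le_Astar : Tb A b ≤ Astar A b := le_sup_right

theorem B'_le_Z : ⁅B, B⁆ ≤ A ⊓ Ab A b := by
  intro x hx
  refine Subgroup.mem_inf.mpr ⟨h.hBA hx, ?_⟩
  rw [mem_Ab]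
  have := h.hBn
  have hn : (⁅B, B⁆ : Subgroup S).Normal := Subgroup.commutator_normal B B
  exact h.hBA (hn.conj_mem x hx b)

theorem inf_B_le_Z : A ⊓ B ≤ A ⊓ Ab A b := by
  intro x hx
  obtain ⟨hxA, hxB⟩ := Subgroup.mem_inf.mp hx
  refine Subgroup.mem_inf.mpr ⟨hxA, ?_⟩
  rw [mem_Ab]
  have h1 : b * x * b⁻¹ * x⁻¹ ∈ ⁅B, B⁆ := Subgroup.commutator_mem_commutator h.hb hxB
  have e : b * x * b⁻¹ = (b * x * b⁻¹ * x⁻¹) * x := by group
  rw [e]
  exact A.mul_mem (h.hBA h1) hxA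

theorem Ab_inf_B_le_Z : Ab A b ⊓ B ≤ A ⊓ Ab A b := by
  intro y hy
  obtain ⟨hyAb, hyB⟩ := Subgroup.mem_inf.mp hy
  refine Subgroup.mem_inf.mpr ⟨?_, hyAb⟩
  have hyAb' := hyAb
  rw [mem_Ab] at hyAb'
  have hB0 : b * y * b⁻¹ ∈ B := h.hBn.conj_mem y hyB b
  have h1 : (b * y * b⁻¹)⁻¹ * b⁻¹ * (b * y * b⁻¹)⁻¹⁻¹ * b⁻¹⁻¹ ∈ ⁅B, B⁆ :=
    Subgroup.commutator_mem_commutator (B.inv_mem hB0) (B.inv_mem h.hb)
  have e : y = (b * y * b⁻¹) * ((b * y * b⁻¹)⁻¹ * b⁻¹ * (b * y * b⁻¹)⁻¹⁻¹ * b⁻¹⁻¹) := by group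
  rw [e]
  exact A.mul_mem hyAb' (h.hBA h1)

theorem Astar_le_N : Astar A b ≤ Subgroup.normalizer (A : Set S) :=
  sup_le (inf_le_left.trans h.A_le_N) h.Tb_le_N

theorem b_not_mem_Astar : b ∉ Astar A b := fun hb => h.hbA (h.Astar_le_N hb)

theorem exists_conj_not_mem [Finite S] : ∃ a ∈ A, b⁻¹ * a * b ∉ A := by
  by_contra hcon0
  have hcon : ∀ a ∈ A, b⁻¹ * a * b ∈ A := by
    intro a ha
    by_contra hna
    exact hcon0 ⟨a, ha, hna⟩
  have h1 : b⁻¹ ∈ Subgroup.normalizer (A : Set S) := by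
    apply Subgroup.mem_normalizer_fintype
    intro n hn
    have := hcon n hn
    rwa [inv_inv]
  exact h.hbA (by simpa using Subgroup.inv_mem _ h1)

theorem inf_B_lt [Finite S] : A ⊓ B < Astar A b ⊓ B := by
  rw [SetLike.lt_iff_le_and_exists]
  refine ⟨?_, ?_⟩
  · exact fun x hx => Subgroup.mem_inf.mpr ⟨h.Z_le_Astar (h.inf_B_le_Z hx), (Subgroup.mem_inf.mp hx).2⟩
  · obtain ⟨a, ha, hab⟩ := h.exists_conj_not_mem
    refine ⟨uu b a⁻¹, ⟨h.Tb_le_Astar (uu_mem_Tb (A.inv_mem ha)),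
      h.Tb_le_B (uu_mem_Tb (A.inv_mem ha))⟩, ?_⟩
    rintro ⟨hA', -⟩
    apply hab
    have e : b⁻¹ * a * b = a * uu b a⁻¹ := by unfold uu; group
    rw [e]
    exact A.mul_mem ha hA'

theorem Astar_inf_B_lt : Astar A b ⊓ B < B := by
  rw [SetLike.lt_iff_le_and_exists]
  exact ⟨inf_le_right, b, h.hb, fun hb => h.b_not_mem_Astar hb.1⟩

/-- Criterion for normalizing `A*`. -/
theorem mem_normalizer_Astar_of [Finite S] {g : S}
    (hZ : ∀ z ∈ A ⊓ Ab A b, g * z * g⁻¹ ∈ Astar A b)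
    (hT : ∀ a ∈ A, g * uu b a * g⁻¹ ∈ Astar A b) :
    g ∈ Subgroup.normalizer ((Astar A b : Subgroup S) : Set S) := by
  apply Subgroup.mem_normalizer_fintype
  have hle : Astar A b ≤ (Astar A b).comap (MulAut.conj g).toMonoidHom := by
    apply sup_le
    · intro z hz
      rw [Subgroup.mem_comap]
      exact hZ z hz
    · rw [Subgroup.closure_le]
      rintro _ ⟨a, ha, rfl⟩
      rw [SetLike.mem_coe, Subgroup.mem_comap]
      exact hT a ha
  intro n hn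
  exact hle hn

theorem A_le_normalizer_Astar [Finite S] :
    A ≤ Subgroup.normalizer ((Astar A b : Subgroup S) : Set S) := by
  intro a ha
  apply h.mem_normalizer_Astar_of
  · intro z hz
    exact h.Z_le_Astar (h.conj_mem_Z (h.A_le_N ha) hz)
  · intro c hc
    have e : a * uu b c * a⁻¹ = (a * uu b c * a⁻¹ * (uu b c)⁻¹) * uu b c := by group
    rw [e]
    exact Subgroup.mul_mem _ (h.Z_le_Astar (h.comm_Tb_mem_Z ha (uu_mem_Tb hc)))
      (h.Tb_le_Astar (uu_mem_Tb hc))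

theorem b_mem_normalizer_Astar [Finite S] :
    b ∈ Subgroup.normalizer ((Astar A b : Subgroup S) : Set S) := by
  have h1 : b⁻¹ ∈ Subgroup.normalizer ((Astar A b : Subgroup S) : Set S) := by
    apply h.mem_normalizer_Astar_of
    · intro z hz
      have e : b⁻¹ * z * b⁻¹⁻¹ = z * uu b z⁻¹ := by unfold uu; group
      rw [e]
      exact Subgroup.mul_mem _ (h.Z_le_Astar hz) (h.Tb_le_Astar (uu_mem_Tb (A.inv_mem hz.1)))
    · intro a ha
      have hu : uu b a ∈ B := h.Tb_le_B (uu_mem_Tb ha)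
      have h2 : b⁻¹ * uu b a * b⁻¹⁻¹ * (uu b a)⁻¹ ∈ ⁅B, B⁆ :=
        Subgroup.commutator_mem_commutator (B.inv_mem h.hb) hu
      have e : b⁻¹ * uu b a * b⁻¹⁻¹ = (b⁻¹ * uu b a * b⁻¹⁻¹ * (uu b a)⁻¹) * uu b a := by group
      rw [e]
      exact Subgroup.mul_mem _ (h.Z_le_Astar (h.B'_le_Z h2)) (h.Tb_le_Astar (uu_mem_Tb ha))
  simpa using Subgroup.inv_mem _ h1

theorem N_le_normalizer_Astar [Finite S] :
    Subgroup.normalizer (A : Set S) ≤ Subgroup.normalizer ((Astar A b : Subgroup S) : Set S) := by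
  intro n hn
  apply h.mem_normalizer_Astar_of
  · intro z hz
    exact h.Z_le_Astar (h.conj_mem_Z hn hz)
  · intro a ha
    -- n u_a n⁻¹ = u_{a'} * e
    obtain ⟨a', ha'⟩ : ∃ a', a' = n * a * n⁻¹ := ⟨_, rfl⟩
    obtain ⟨β, hβ⟩ : ∃ β, β = b⁻¹ * n * b * n⁻¹ := ⟨_, rfl⟩
    obtain ⟨x, hx⟩ : ∃ x, x = b⁻¹ * a'⁻¹ * b := ⟨_, rfl⟩
    have ha'A : a' ∈ A := by rw [ha']; exact h.conj_mem_A hn ha
    have hβN : β ∈ Subgroup.normalizer (A : Set S) := by
      rw [hβ]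
      exact Subgroup.mul_mem _ (h.bconj_mem_N' hn) (Subgroup.inv_mem _ hn)
    have hβB : β ∈ B := by
      rw [hβ]
      have h1 : n * b * n⁻¹ ∈ B := h.hBn.conj_mem b h.hb n
      have e : b⁻¹ * n * b * n⁻¹ = b⁻¹ * (n * b * n⁻¹) := by group
      rw [e]; exact B.mul_mem (B.inv_mem h.hb) h1
    have hxAb : x ∈ Ab A b := by rw [hx]; exact conj_mem_Ab (A.inv_mem ha'A)
    have e : n * uu b a * n⁻¹ = uu b a' * (x⁻¹ * β⁻¹ * x * β) := by
      rw [hx, hβ, ha']; unfold uu; group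
    rw [e]
    apply Subgroup.mul_mem _ (h.Tb_le_Astar (uu_mem_Tb ha'A))
    apply h.Z_le_Astar
    apply h.Ab_inf_B_le_Z
    constructor
    · have h1 : β⁻¹ * x * β⁻¹⁻¹ ∈ Ab A b :=
        h.conj_mem_Ab_of_mem_N (Subgroup.inv_mem _ hβN) hxAb
      rw [inv_inv] at h1
      have e2 : x⁻¹ * β⁻¹ * x * β = x⁻¹ * (β⁻¹ * x * β) := by group
      rw [e2]
      exact Subgroup.mul_mem _ (Subgroup.inv_mem _ hxAb) h1
    · have h1 : x⁻¹ * β⁻¹ * x⁻¹⁻¹ ∈ B := h.hBn.conj_mem _ (B.inv_mem hβB) x⁻¹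
      rw [inv_inv] at h1
      exact B.mul_mem h1 hβB

theorem N_lt_normalizer_Astar [Finite S] :
    Subgroup.normalizer (A : Set S) < Subgroup.normalizer ((Astar A b : Subgroup S) : Set S) := by
  rw [SetLike.lt_iff_le_and_exists]
  exact ⟨h.N_le_normalizer_Astar, b, h.b_mem_normalizer_Astar, h.hbA⟩

/-- `b⁻¹ z b ∈ A` for `z ∈ A ∩ A^b`. -/
theorem conj_Z_mem_A {z : S} (hz : z ∈ A ⊓ Ab A b) : b⁻¹ * z * b ∈ A := by
  obtain ⟨hzA, hzAb⟩ := Subgroup.mem_inf.mp hz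
  rw [mem_Ab] at hzAb
  obtain ⟨a₁, ha₁⟩ : ∃ a₁, a₁ = b * z * b⁻¹ := ⟨_, rfl⟩
  rw [← ha₁] at hzAb
  obtain ⟨u, hu⟩ : ∃ u, u = uu b a₁⁻¹ := ⟨_, rfl⟩
  have huA : u ∈ A := by
    have e : u = a₁⁻¹ * z := by rw [hu, ha₁]; unfold uu; group
    rw [e]; exact A.mul_mem (A.inv_mem hzAb) hzA
  have huB : u ∈ B := by rw [hu]; exact h.Tb_le_B (uu_mem_Tb (A.inv_mem hzAb))
  have h2 : b⁻¹ * u * b⁻¹⁻¹ * u⁻¹ ∈ ⁅B, B⁆ :=
    Subgroup.commutator_mem_commutator (B.inv_mem h.hb) huB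
  have e : b⁻¹ * z * b = z * ((b⁻¹ * u * b⁻¹⁻¹ * u⁻¹) * u) := by
    rw [hu, ha₁]; unfold uu; group
  rw [e]
  exact A.mul_mem hzA (A.mul_mem (h.hBA h2) huA)

theorem uu_mem_Z_iff {a : S} (ha : a ∈ A) : uu b a ∈ A ⊓ Ab A b ↔ a ∈ A ⊓ Ab A b := by
  constructor
  · intro hu
    refine Subgroup.mem_inf.mpr ⟨ha, ?_⟩
    have h1 : b⁻¹ * a⁻¹ * b ∈ Ab A b := conj_mem_Ab (A.inv_mem ha)
    have e : a = uu b a * (b⁻¹ * a⁻¹ * b)⁻¹ := by unfold uu; group
    rw [e]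
    exact Subgroup.mul_mem _ (Subgroup.mem_inf.mp hu).2 (Subgroup.inv_mem _ h1)
  · intro hz
    have h1 : b⁻¹ * a⁻¹ * b ∈ A ⊓ Ab A b :=
      Subgroup.mem_inf.mpr ⟨h.conj_Z_mem_A (Subgroup.inv_mem _ hz), conj_mem_Ab (A.inv_mem ha)⟩
    rw [uu_eq]
    exact Subgroup.mul_mem _ hz h1

section card

variable [Finite S] {p : ℕ} [Fact p.Prime] (hS : IsPGroup p S) (hB2 : p = 2 → IsMulCommutative B)
include hS hB2

theorem normal_Z_subgroupOf_Astar : ((A ⊓ Ab A b).subgroupOf (Astar A b)).Normal := by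
  constructor
  intro n hn g
  have hc : Commute (g : S) (n : S) := h.comm_Astar hS hB2 g.2 n.2
  have e : g * n * g⁻¹ = n := by
    apply Subtype.ext
    show (g : S) * (n : S) * (g : S)⁻¹ = n
    rw [hc.eq]; group
  rw [e]; exact hn

theorem uu_mem_Astar {a : S} (ha : a ∈ A) : uu b a ∈ Astar A b := h.Tb_le_Astar (uu_mem_Tb ha)

theorem card_Astar : Nat.card (Astar A b) = Nat.card A := by
  have := h.normal_Z_subgroupOf_Astar hS hB2
  let Q := ↥(Astar A b) ⧸ ((A ⊓ Ab A b).subgroupOf (Astar A b))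
  let ψ : A →* Q := MonoidHom.mk'
    (fun a => (QuotientGroup.mk (⟨uu b a, h.uu_mem_Astar hS hB2 a.2⟩ : Astar A b) : Q))
    (by
      intro a c
      rw [← QuotientGroup.mk_mul, QuotientGroup.eq, Subgroup.mem_subgroupOf]
      show (uu b ((a : S) * (c : S)))⁻¹ * (uu b a * uu b c) ∈ A ⊓ Ab A b
      have hz := h.comm_Tb_mem_Z a.2 (uu_mem_Tb c.2)
      have hcm : Commute (uu b (a : S)) (uu b (c : S)) :=
        h.comm_Tb hS hB2 (uu_mem_Tb a.2) (uu_mem_Tb c.2)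
      have e : (uu b ((a : S) * (c : S)))⁻¹ * (uu b a * uu b c) =
          (uu b a)⁻¹ * (uu b c)⁻¹ * ((a : S) * uu b c * (a : S)⁻¹ * (uu b c)⁻¹)⁻¹ *
            (uu b a * uu b c) := by
        rw [uu_mul]; group
      rw [e]
      have hcm2 : Commute ((a : S) * uu b c * (a : S)⁻¹ * (uu b c)⁻¹)⁻¹ (uu b a * uu b c) :=
        ((h.comm_Z_Tb hz (uu_mem_Tb a.2)).mul_right (h.comm_Z_Tb hz (uu_mem_Tb c.2))).inv_left
      have e2 : (uu b a)⁻¹ * (uu b c)⁻¹ * ((a : S) * uu b c * (a : S)⁻¹ * (uu b c)⁻¹)⁻¹ *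
            (uu b a * uu b c) =
          ((uu b a)⁻¹ * (uu b c)⁻¹ * (uu b a * uu b c)) *
            ((a : S) * uu b c * (a : S)⁻¹ * (uu b c)⁻¹)⁻¹ := by
        rw [mul_assoc, hcm2.eq, ← mul_assoc]
      rw [e2]
      have e3 : (uu b (a : S))⁻¹ * (uu b (c : S))⁻¹ * (uu b a * uu b c) = 1 := by
        rw [hcm.eq]; group
      rw [e3, one_mul]
      exact Subgroup.inv_mem _ hz)
  have hψ : ∀ a : A, ψ a =
      (QuotientGroup.mk (⟨uu b a, h.uu_mem_Astar hS hB2 a.2⟩ : Astar A b) : Q) := fun _ => rfl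
  -- kernel
  have hker : ψ.ker = (A ⊓ Ab A b).subgroupOf A := by
    ext a
    rw [MonoidHom.mem_ker, hψ, QuotientGroup.eq_one_iff, Subgroup.mem_subgroupOf,
      Subgroup.mem_subgroupOf]
    exact h.uu_mem_Z_iff a.2
  -- surjectivity
  have hsurj : ψ.range = ⊤ := by
    rw [eq_top_iff]
    intro q _
    obtain ⟨y, rfl⟩ := QuotientGroup.mk_surjective q
    have hle : Astar A b ≤ ((ψ.range.comap (QuotientGroup.mk' _)).map (Astar A b).subtype) := by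
      apply sup_le
      · intro z hz
        have hz' : z ∈ Astar A b := h.Z_le_Astar hz
        refine ⟨⟨z, hz'⟩, ?_, rfl⟩
        rw [SetLike.mem_coe, Subgroup.mem_comap]
        have : (QuotientGroup.mk' ((A ⊓ Ab A b).subgroupOf (Astar A b))) ⟨z, hz'⟩ = 1 := by
          rw [QuotientGroup.mk'_apply, QuotientGroup.eq_one_iff, Subgroup.mem_subgroupOf]
          exact hz
        rw [this]; exact Subgroup.one_mem _
      · rw [Subgroup.closure_le]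
        rintro _ ⟨a, ha, rfl⟩
        refine ⟨⟨uu b a, h.uu_mem_Astar hS hB2 ha⟩, ?_, rfl⟩
        rw [SetLike.mem_coe, Subgroup.mem_comap]
        exact ⟨⟨a, ha⟩, rfl⟩
    obtain ⟨y', hy', hyy'⟩ := hle y.2
    have : y' = y := Subtype.ext hyy'
    rw [← this]
    exact hy'
  have h1 : Nat.card A = Nat.card ψ.ker * Nat.card ψ.range := by
    rw [← Subgroup.index_ker, Subgroup.card_mul_index]
  have h2 : Nat.card ψ.ker = Nat.card (A ⊓ Ab A b : Subgroup S) := by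
    rw [hker]
    exact Nat.card_congr (Subgroup.subgroupOfEquivOfLe inf_le_left).toEquiv
  have h3 : Nat.card ψ.range = ((A ⊓ Ab A b).subgroupOf (Astar A b)).index := by
    rw [hsurj, Subgroup.card_top]
    rfl
  have h4 : Nat.card ((A ⊓ Ab A b).subgroupOf (Astar A b)) =
      Nat.card (A ⊓ Ab A b : Subgroup S) :=
    Nat.card_congr (Subgroup.subgroupOfEquivOfLe h.Z_le_Astar).toEquiv
  rw [h1, h2, h3, ← h4, Subgroup.card_mul_index]

end card

end Hyp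

end setup

section power

variable {S : Type*} [Group S]

theorem pow_mul_comm_central {x y c : S} (hc : y * x = x * y * c) (hcy : Commute c y) (n : ℕ) :
    y ^ n * x = x * y ^ n * c ^ n := by
  induction n with
  | zero => simp
  | succ n ih =>
    calc y ^ (n + 1) * x = y * (y ^ n * x) := by rw [pow_succ']; group
      _ = y * (x * y ^ n * c ^ n) := by rw [ih]
      _ = (y * x) * y ^ n * c ^ n := by group
      _ = (x * y * c) * y ^ n * c ^ n := by rw [hc]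
      _ = x * y * (c * y ^ n) * c ^ n := by group
      _ = x * y * (y ^ n * c) * c ^ n := by rw [(hcy.pow_right n).eq]
      _ = x * y ^ (n + 1) * c ^ (n + 1) := by rw [pow_succ', pow_succ' c]; group

theorem mul_pow_of_central {x y c : S} (hc : y * x = x * y * c) (hcx : Commute c x)
    (hcy : Commute c y) (n : ℕ) :
    (x * y) ^ n = x ^ n * y ^ n * c ^ (∑ i ∈ Finset.range n, i) := by
  induction n with
  | zero => simp
  | succ n ih =>
    have hk : Commute (c ^ (∑ i ∈ Finset.range n, i)) (x * y) :=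
      (hcx.mul_right hcy).pow_left _
    calc (x * y) ^ (n + 1) = (x * y) ^ n * (x * y) := pow_succ _ _
      _ = x ^ n * y ^ n * c ^ (∑ i ∈ Finset.range n, i) * (x * y) := by rw [ih]
      _ = x ^ n * y ^ n * ((x * y) * c ^ (∑ i ∈ Finset.range n, i)) := by
          rw [mul_assoc, hk.eq]
      _ = x ^ n * (y ^ n * x) * y * c ^ (∑ i ∈ Finset.range n, i) := by group
      _ = x ^ n * (x * y ^ n * c ^ n) * y * c ^ (∑ i ∈ Finset.range n, i) := by
          rw [pow_mul_comm_central hc hcy]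
      _ = x ^ n * x * y ^ n * (c ^ n * y) * c ^ (∑ i ∈ Finset.range n, i) := by group
      _ = x ^ n * x * y ^ n * (y * c ^ n) * c ^ (∑ i ∈ Finset.range n, i) := by
          rw [(hcy.pow_left n).eq]
      _ = x ^ (n + 1) * y ^ (n + 1) * (c ^ n * c ^ (∑ i ∈ Finset.range n, i)) := by
          rw [pow_succ, pow_succ]; group
      _ = x ^ (n + 1) * y ^ (n + 1) * c ^ (∑ i ∈ Finset.range (n + 1), i) := by
          have hs : ∑ i ∈ Finset.range (n + 1), i = n + ∑ i ∈ Finset.range n, i := by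
            rw [Finset.sum_range_succ, add_comm]
          rw [← pow_add, hs]

theorem dvd_sum_range_of_odd {e : ℕ} (he : Nat.Coprime e 2) : e ∣ ∑ i ∈ Finset.range e, i := by
  have h1 := Finset.sum_range_id_mul_two e
  have h2 : e ∣ (∑ i ∈ Finset.range e, i) * 2 := by rw [h1]; exact dvd_mul_right _ _
  exact he.dvd_of_dvd_mul_right h2

end power

section exponent

variable {S : Type*} [Group S] {A B : Subgroup S} {b : S}

namespace Hyp

variable (h : Hyp A B b)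
include h

theorem pow_exponent_eq_one {a : S} (ha : a ∈ A) : a ^ Monoid.exponent A = 1 := by
  have := Monoid.pow_exponent_eq_one (⟨a, ha⟩ : A)
  have := congrArg Subtype.val this
  simpa using this

theorem uu_pow_exponent [Finite S] {p : ℕ} [hp : Fact p.Prime] (hS : IsPGroup p S) (hp2 : p ≠ 2)
    {a : S} (ha : a ∈ A) : (uu b a) ^ Monoid.exponent A = 1 := by
  obtain ⟨x, hx⟩ : ∃ x, x = b⁻¹ * a⁻¹ * b := ⟨_, rfl⟩
  obtain ⟨c, hc⟩ : ∃ c, c = x⁻¹ * a⁻¹ * x * a := ⟨_, rfl⟩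
  have hxAb : x ∈ Ab A b := by rw [hx]; exact conj_mem_Ab (A.inv_mem ha)
  have hcZ : c ∈ A ⊓ Ab A b := by
    have h1 := h.comm_mem_Z (A.inv_mem ha) (Subgroup.inv_mem _ hxAb)
    have e : c = (a⁻¹ * x⁻¹ * a⁻¹⁻¹ * x⁻¹⁻¹)⁻¹ := by rw [hc]; group
    rw [e]
    exact Subgroup.inv_mem _ h1
  have hrel : x * a = a * x * c := by rw [hc]; group
  have hca : Commute c a := h.comm_Z_A hcZ ha
  have hcx : Commute c x := h.comm_Z_Ab hcZ hxAb
  have e1 : uu b a = a * x := by rw [hx]; unfold uu; group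
  have hodd : Nat.Coprime (Monoid.exponent A) 2 := by
    have h1 : Monoid.exponent A ∣ Nat.card A := Group.exponent_dvd_nat_card
    obtain ⟨k, hk⟩ := (hS.to_subgroup A).exists_card_eq
    rw [hk] at h1
    have h2 : Nat.Coprime (p ^ k) 2 :=
      Nat.Coprime.pow_left k ((Nat.coprime_primes hp.out Nat.prime_two).mpr hp2)
    exact Nat.Coprime.coprime_dvd_left h1 h2
  have hxe : x ^ Monoid.exponent A = 1 := by
    have e : x ^ Monoid.exponent A = b⁻¹ * (a⁻¹) ^ Monoid.exponent A * b := by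
      rw [hx]
      have := conj_pow (a := b⁻¹) (b := a⁻¹) (i := Monoid.exponent A)
      rw [inv_inv] at this
      exact this
    rw [e, h.pow_exponent_eq_one (A.inv_mem ha)]; group
  rw [e1, mul_pow_of_central hrel hca hcx, h.pow_exponent_eq_one ha, hxe, one_mul, one_mul]
  obtain ⟨m, hm⟩ := dvd_sum_range_of_odd hodd
  rw [hm, pow_mul, h.pow_exponent_eq_one hcZ.1, one_pow]

theorem exponent_Astar_dvd [Finite S] {p : ℕ} [hp : Fact p.Prime] (hS : IsPGroup p S)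
    (hB2 : p = 2 → IsMulCommutative B) (hp2 : p ≠ 2) :
    Monoid.exponent (Astar A b) ∣ Monoid.exponent A := by
  let E : Subgroup S :=
    { carrier := {y | y ∈ Astar A b ∧ y ^ Monoid.exponent A = 1}
      one_mem' := ⟨Subgroup.one_mem _, one_pow _⟩
      mul_mem' := by
        rintro x y ⟨hx, hxe⟩ ⟨hy, hye⟩
        refine ⟨Subgroup.mul_mem _ hx hy, ?_⟩
        rw [(h.comm_Astar hS hB2 hx hy).mul_pow, hxe, hye, one_mul]
      inv_mem' := by
        rintro x ⟨hx, hxe⟩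
        exact ⟨Subgroup.inv_mem _ hx, by rw [inv_pow, hxe, inv_one]⟩ }
  have hle : Astar A b ≤ E := by
    apply sup_le
    · intro z hz
      exact ⟨h.Z_le_Astar hz, h.pow_exponent_eq_one hz.1⟩
    · rw [Subgroup.closure_le]
      rintro _ ⟨a, ha, rfl⟩
      exact ⟨h.Tb_le_Astar (uu_mem_Tb ha), h.uu_pow_exponent hS hp2 ha⟩
  apply Monoid.exponent_dvd_of_forall_pow_eq_one
  intro g
  apply Subtype.ext
  have := (hle g.2).2
  simpa using this

end Hyp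

end exponent

/-- The Glauberman replacement Theorem: from an abelian A ⊇ [B, B] not normalized by the normal subgroup B and a suitable b ∈ B one gets the abelian subgroup A* = (A ∩ b⁻¹Ab)[A, b] of the same order, containing [B, B], meeting B strictly more than A does but not containing B, mutually normalizing with A, with strictly larger normalizer containing b, and (p odd) of no larger exponent. -/
theorem result {S : Type*} [Group S] [Finite S] {p : ℕ} [Fact p.Prime] (hS : IsPGroup p S) (B : Subgroup S) [B.Normal] (hB2 : p = 2 → IsMulCommutative B) (A : Subgroup S) (hA : IsMulCommutative A) (hBA : ⁅B, B⁆ ≤ A) (hnot : ¬ B ≤ Subgroup.normalizer (A : Set S)) (b : S) (hb : b ∈ B) (hbN : b ∈ Subgroup.normalizer ((Subgroup.normalizer (A : Set S)) : Set S)) (hbA : b ∉ Subgroup.normalizer (A : Set S)) : Nat.card ↥((A ⊓ A.map (MulAut.conj (b⁻¹)).toMonoidHom) ⊔ Subgroup.closure {g : S | ∃ a ∈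 A, g = a * b⁻¹ * a⁻¹ * b}) = Nat.card A ∧ IsMulCommutative ↥((A ⊓ A.map (MulAut.conj (b⁻¹)).toMonoidHom) ⊔ Subgroup.closure {g : S | ∃ a ∈ A, g = a * b⁻¹ * a⁻¹ * b}) ∧ ⁅B, B⁆ ≤ ((A ⊓ A.map (MulAut.conj (b⁻¹)).toMonoidHom) ⊔ Subgroup.closure {g : S | ∃ a ∈ A, g = a * b⁻¹ * a⁻¹ * b}) ∧ A ⊓ B < ((A ⊓ A.map (MulAut.conj (b⁻¹)).toMonoidHom) ⊔ Subgroup.closure {g : S | ∃ a ∈ A, g = a * b⁻¹ * a⁻¹ * b}) ⊓ B ∧ ((A ⊓ A.map (MulAut.conj (b⁻¹)).toMonoidHom) ⊔ Subgroup.closure {g : S | ∃ a ∈ A, g = a * b⁻¹ * a⁻¹ * b}) ⊓ B < B ∧ A ≤ Subgroup.normalizer (((A ⊓ A.map (MulAut.conj (b⁻¹)).toMonoidHom) ⊔ Subgroup.closure {g : S | ∃ a ∈ A, g = a * b⁻¹ * a⁻¹ * b} : Subgroup S) : Set S) ∧ ((A ⊓ A.map (MulAut.conj (b⁻¹)).toMonoidHom) ⊔ Subgroup.closure {g : S | ∃ a ∈ A, g = a * b⁻¹ * a⁻¹ * b}) ≤ Subgroup.normalizer (A : Set S) ∧ b ∈ Subgroup.normalizer (((A ⊓ A.map (MulAut.conj (b⁻¹)).toMonoidHom) ⊔ Subgroup.closure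 {g : S | ∃ a ∈ A, g = a * b⁻¹ * a⁻¹ * b} : Subgroup S) : Set S) ∧ Subgroup.normalizer (A : Set S) < Subgroup.normalizer (((A ⊓ A.map (MulAut.conj (b⁻¹)).toMonoidHom) ⊔ Subgroup.closure {g : S | ∃ a ∈ A, g = a * b⁻¹ * a⁻¹ * b} : Subgroup S) : Set S) ∧ (p ≠ 2 → Monoid.exponent ↥((A ⊓ A.map (MulAut.conj (b⁻¹)).toMonoidHom) ⊔ Subgroup.closure {g : S | ∃ a ∈ A, g = a * b⁻¹ * a⁻¹ * b}) ∣ Monoid.exponent A) := by
  have h : Hyp A B b := ⟨inferInstance, hA, hBA, hb, hbN, hbA⟩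
  exact ⟨h.card_Astar hS hB2, h.isMulCommutative_Astar hS hB2,
    h.B'_le_Z.trans h.Z_le_Astar, h.inf_B_lt, h.Astar_inf_B_lt, h.A_le_normalizer_Astar,
    h.Astar_le_N, h.b_mem_normalizer_Astar, h.N_lt_normalizer_Astar,
    fun hp2 => h.exponent_Astar_dvd hS hB2 hp2⟩

end Cfsg.Agent.S0650
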