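import Cfsg.Statements.S0651
import Cfsg.Agent.S0649
import Cfsg.Agent.S0650

set_option autoImplicit false
open Cfsg

namespace Cfsg.Agent.S0651

open Cfsg.Agent.S0650

/-- General replacement property: a family of abelian subgroups closed under Glauberman
replacement (with respect to the normal subgroup `B`) contains a member normalized by `B`, as
soon as it has a member containing `[B, B]` but not `B`. -/
theorem replacement_property {S : Type*} [Group S] [Finite S] {p : ℕ} [Fact p.Prime]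
    (hS : IsPGroup p S) (B : Subgroup S) [B.Normal] (hB2 : p = 2 → IsMulCommutative B)
    (𝒜 : Set (Subgroup S)) (hab : ∀ A ∈ 𝒜, IsMulCommutative A)
    (hrep : ∀ A ∈ 𝒜, ∀ b : S, Hyp A B b → Astar A b ∈ 𝒜)
    (hex : ∃ U ∈ 𝒜, ⁅B, B⁆ ≤ U ∧ ¬ B ≤ U) :
    ∃ A ∈ 𝒜, ⁅B, B⁆ ≤ A ∧ ¬ B ≤ A ∧ B ≤ Subgroup.normalizer (A : Set S) := by
  obtain ⟨U, hU, hU1, hU2⟩ := hex
  have hne : Nonempty {A : Subgroup S // A ∈ 𝒜 ∧ ⁅B, B⁆ ≤ A ∧ ¬ B ≤ A} := ⟨⟨U, hU, hU1, hU2⟩⟩
  obtain ⟨⟨A, hA, hA1, hA2⟩, hmax⟩ := Finite.exists_max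
    (fun A : {A : Subgroup S // A ∈ 𝒜 ∧ ⁅B, B⁆ ≤ A ∧ ¬ B ≤ A} =>
      Nat.card ((A : Subgroup S) ⊓ B : Subgroup S))
  refine ⟨A, hA, hA1, hA2, ?_⟩
  by_contra hnot
  obtain ⟨b, hb, hbN, hbA⟩ := Cfsg.Agent.S0649.result hS B hB2 A (hab A hA) hA1 hnot
  have h : Hyp A B b := ⟨inferInstance, hab A hA, hA1, hb, hbN, hbA⟩
  have hstar : Astar A b ∈ 𝒜 := hrep A hA b h
  have h1 : ⁅B, B⁆ ≤ Astar A b := h.B'_le_Z.trans h.Z_le_Astar
  have h2 : ¬ B ≤ Astar A b := fun hle => h.b_not_mem_Astar (hle hb)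
  have h3 := hmax ⟨Astar A b, hstar, h1, h2⟩
  have h4 : A ⊓ B < Astar A b ⊓ B := h.inf_B_lt
  have h5 : A ⊓ B = Astar A b ⊓ B := Subgroup.eq_of_le_of_card_ge h4.le h3
  exact h4.ne h5

theorem mem_image_iff {S : Type*} [Group S] (D : Subgroup S) (U : Subgroup S) :
    U ∈ (Set.image (fun A : Subgroup ↥D => A.map D.subtype) (Cfsg.maxAbelianSubgroups ↥D)) ↔
      U ≤ D ∧ IsMulCommutative U ∧
        ∀ V : Subgroup S, V ≤ D → IsMulCommutative V → Nat.card V ≤ Nat.card U := by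
  constructor
  · rintro ⟨A', ⟨hA'c, hA'max⟩, rfl⟩
    refine ⟨Subgroup.map_subtype_le A', Subgroup.map_isMulCommutative A' D.subtype, ?_⟩
    intro V hVD hVc
    have h1 : Nat.card (A'.map D.subtype) = Nat.card A' :=
      Subgroup.card_map_of_injective D.subtype_injective
    have h2 : Nat.card (V.subgroupOf D) = Nat.card V :=
      Nat.card_congr (Subgroup.subgroupOfEquivOfLe hVD).toEquiv
    rw [h1, ← h2]
    exact hA'max _ (Subgroup.subgroupOf_isMulCommutative D V)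
  · rintro ⟨hUD, hUc, hUmax⟩
    refine ⟨U.subgroupOf D, ⟨Subgroup.subgroupOf_isMulCommutative D U, ?_⟩, ?_⟩
    · intro B' hB'
      have h1 : Nat.card (B'.map D.subtype) = Nat.card B' :=
        Subgroup.card_map_of_injective D.subtype_injective
      have h2 : Nat.card (U.subgroupOf D) = Nat.card U :=
        Nat.card_congr (Subgroup.subgroupOfEquivOfLe hUD).toEquiv
      rw [h2, ← h1]
      exact hUmax _ (Subgroup.map_subtype_le B') (Subgroup.map_isMulCommutative B' D.subtype)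
    · show (U.subgroupOf D).map D.subtype = U
      rw [Subgroup.subgroupOf_map_subtype, inf_of_le_left hUD]

theorem Astar_le_of_normal {S : Type*} [Group S] (D : Subgroup S) [hD : D.Normal]
    {A : Subgroup S} (hAD : A ≤ D) (b : S) : Astar A b ≤ D := by
  apply sup_le (inf_le_left.trans hAD)
  rw [Subgroup.closure_le]
  rintro _ ⟨a, ha, rfl⟩
  have h1 : b⁻¹ * a⁻¹ * b⁻¹⁻¹ ∈ D := hD.conj_mem _ (D.inv_mem (hAD ha)) b⁻¹
  rw [inv_inv] at h1
  have e : a * b⁻¹ * a⁻¹ * b = a * (b⁻¹ * a⁻¹ * b) := by group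
  rw [e]
  exact D.mul_mem (hAD ha) h1

/-- For odd p and D normal in the p-group S, the abelian subgroups of D of largest order satisfy the replacement property: a class-2 normal subgroup B of S with a member containing [B, B] but not B normalizes some such member. -/
theorem result {S : Type*} [Group S] [Finite S] {p : ℕ} [Fact p.Prime] (hS : IsPGroup p S) (hp : p ≠ 2) (D : Subgroup S) [D.Normal] : ∀ (B : Subgroup S) [B.Normal], ⁅⁅B, B⁆, B⁆ = ⊥ → (∃ U ∈ (Set.image (fun A : Subgroup ↥D => A.map D.subtype) (Cfsg.maxAbelianSubgroups ↥D)), ⁅B, B⁆ ≤ U ∧ ¬ B ≤ U) → ∃ A ∈ (Set.image (fun A : Subgroup ↥D => A.map D.subtype) (Cfsg.maxAbelianSubgroups ↥D)), ⁅B, B⁆ ≤ A ∧ ¬ B ≤ A ∧ B ≤ Subgroup.normalizer (A : Set S) := by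
  intro B _ _ hex
  have hB2 : p = 2 → IsMulCommutative B := fun h => absurd h hp
  apply replacement_property hS B hB2 _ _ _ hex
  · intro A hA
    exact ((mem_image_iff D A).mp hA).2.1
  · intro A hA b h
    obtain ⟨hAD, hAc, hAmax⟩ := (mem_image_iff D A).mp hA
    rw [mem_image_iff]
    refine ⟨Astar_le_of_normal D hAD b, h.isMulCommutative_Astar hS hB2, ?_⟩
    intro V hVD hVc
    rw [h.card_Astar hS hB2]
    exact hAmax V hVD hVc

end Cfsg.Agent.S0651
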