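import Cfsg.Statements.S0653
import Cfsg.Agent.Lib.Helper11_ZJ
import Cfsg.Agent.S0651
import Cfsg.Agent.S0647
import Cfsg.Agent.S0622
-- import your own Cfsg.Agent.* helpers here

set_option autoImplicit false
open Cfsg
open Cfsg.Agent.Lib.Helper11_ZJ

namespace Cfsg.Agent.S0653

universe u

variable {G : Type u} [Group G]

/-- the property "abelian" -/
def PrAb (A : Subgroup G) : Prop := IsMulCommutative A

theorem maxFam_eq (T : Subgroup G) :
    maxFam PrAb T =
      Set.image (fun A : Subgroup ↥T => A.map T.subtype) (Cfsg.maxAbelianSubgroups ↥T) := by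
  ext U
  rw [Cfsg.Agent.S0651.mem_image_iff]
  rfl

theorem family_top_eq (X : Type u) [Group X] :
    Set.image (fun A : Subgroup ↥(⊤ : Subgroup X) => A.map (⊤ : Subgroup X).subtype)
      (Cfsg.maxAbelianSubgroups ↥(⊤ : Subgroup X)) = Cfsg.maxAbelianSubgroups X := by
  ext U
  rw [Cfsg.Agent.S0651.mem_image_iff]
  constructor
  · rintro ⟨_, h1, h2⟩
    exact ⟨h1, fun V hV => h2 V le_top hV⟩
  · rintro ⟨h1, h2⟩
    exact ⟨le_top, h1, fun V _ hV => h2 V hV⟩

theorem nonempty_maxAb (X : Type u) [Group X] [Finite X] : (Cfsg.maxAbelianSubgroups X).Nonempty := by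
  have hne : Nonempty {A : Subgroup X // IsMulCommutative A} := ⟨⟨⊥, inferInstance⟩⟩
  obtain ⟨⟨A, hA⟩, hmax⟩ := Finite.exists_max
    (fun A : {A : Subgroup X // IsMulCommutative A} => Nat.card (A : Subgroup X))
  exact ⟨A, hA, fun B hB => hmax ⟨B, hB⟩⟩

theorem admissible [Finite G] {p : ℕ} [Fact p.Prime] (hp : p ≠ 2) :
    Admissible p (PrAb (G := G)) where
  bot := (inferInstance : IsMulCommutative (⊥ : Subgroup G))
  comm := fun A hA x hx y hy => by
    have hA' : IsMulCommutative A := hA
    have := mul_comm' (⟨x, hx⟩ : A) ⟨y, hy⟩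
    exact congrArg Subtype.val this
  map := fun φ A hA => by
    have hA' : IsMulCommutative A := hA
    exact Subgroup.map_isMulCommutative A φ.toMonoidHom
  replace := by
    intro S B hBS hSB hcl hex
    rw [maxFam_eq] at hex ⊢
    apply replace_transport (S : Subgroup G) (Cfsg.maxAbelianSubgroups ↥(S : Subgroup G)) ?_
      B hBS hSB hcl hex
    intro B' _ hcl' hex'
    have h := Cfsg.Agent.S0651.result (S := ↥(S : Subgroup G)) S.isPGroup' hp ⊤ B' hcl'
      (by rw [family_top_eq]; exact hex')
    rw [family_top_eq] at h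
    exact h

theorem centerThompsonAOf_eq [Finite G] (T : Subgroup G) :
    Cfsg.centerThompsonAOf T = W PrAb T := by
  have hne := nonempty_maxAb ↥T
  unfold Cfsg.centerThompsonAOf Cfsg.thompsonSubgroupAOf W
  rw [maxFam_eq, ← map_sInf_of_injective T.subtype T.subtype_injective _ hne,
    ← Cfsg.Agent.S0622.map_inf_centralizer_of_injective T.subtype T.subtype_injective]
  congr 1
  unfold Cfsg.thompsonSubgroupA
  refine ((Cfsg.Agent.S0647.result (Cfsg.maxAbelianSubgroups ↥T) hne (fun A hA => hA.1) ?_).1).symm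
  intro A hA B hB hAB
  exact (Subgroup.eq_of_le_of_card_ge hAB (hA.2 B hB)).symm

/-- Glauberman's ZJ-Theorem: for odd p, if the largest normal p-subgroup of G contains its centralizer and G acts p-stably on every normal p-subgroup, then the centre of the abelian-version Thompson subgroup of a Sylow p-subgroup is a characteristic subgroup of G. -/
theorem result {G : Type*} [Group G] [Finite G] {p : ℕ} [Fact p.Prime] (hp : p ≠ 2) (hc : Subgroup.centralizer (Cfsg.pCore p G : Set G) ≤ Cfsg.pCore p G) (hst : ∀ (P : Subgroup G) [P.Normal], IsPGroup p P → Cfsg.IsPStableOn p P) (S : Sylow p G) : (Cfsg.centerThompsonAOf ((S : Subgroup G))).Characteristic := by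
  rw [centerThompsonAOf_eq]
  apply W_characteristic (admissible hp) S hc
  intro B hBn hBp
  exact stableOn_of_isPStableOn _ B (hst B hBp)

end Cfsg.Agent.S0653
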