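import Cfsg.Statements.S2005
import Cfsg.Agent.Lib.Helper34_NPC

set_option autoImplicit false
universe u
open Cfsg

namespace Cfsg.Agent.S2005

open Cfsg.Agent.Lib.Helper34_NPC Cfsg.Agent.Lib.Helper35_FrobeniusNPC
  Cfsg.Agent.Lib.Helper33_Conj Cfsg.Agent.Lib.Helper33_Alperin

variable {p : ℕ} [Fact p.Prime] {W : ∀ (Q : Type u) [Group Q], Subgroup Q}

/-- the hypothesis on `N_G(W(S))` does not depend on the Sylow subgroup -/
theorem hN_all (hW : Cfsg.IsCharPFunctor.{u} p W) {G : Type u} [Group G] [Finite G]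
    (S : Sylow p G)
    (hN : HasNPC p ↥(Subgroup.normalizer
      ((Cfsg.inducedFunctor W (S : Subgroup G) : Subgroup G) : Set G)))
    (S' : Sylow p G) :
    HasNPC p ↥(Subgroup.normalizer
      ((Cfsg.inducedFunctor W (S' : Subgroup G) : Subgroup G) : Set G)) := by
  obtain ⟨g, hg⟩ := sylow_cj_eq S S'
  have h1 : Cfsg.inducedFunctor W (S' : Subgroup G) =
      cj g (Cfsg.inducedFunctor W (S : Subgroup G)) := by
    rw [hg]
    exact inducedFunctor_conj hW _ S.2 g
  have h2 : Subgroup.normalizer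
      ((Cfsg.inducedFunctor W (S' : Subgroup G) : Subgroup G) : Set G) =
      (Subgroup.normalizer
        ((Cfsg.inducedFunctor W (S : Subgroup G) : Subgroup G) : Set G)).map
        (MulAut.conj g).toMonoidHom := by
    rw [h1, ← cj_normalizer]
  exact hasNPC_of_eq h2.symm (hasNPC_map _ _ hN)

/-- the measure used to choose the `p`-subgroup `H` -/
noncomputable def mu (p : ℕ) {G : Type u} [Group G] (Q : Subgroup G) : ℕ :=
  vp p (Subgroup.normalizer (Q : Set G)) * (Nat.card G + 1) + Nat.card Q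

theorem mu_lt_of_vp_lt {G : Type u} [Group G] [Finite G] {Q Q' : Subgroup G}
    (h : vp p (Subgroup.normalizer (Q : Set G)) < vp p (Subgroup.normalizer (Q' : Set G))) :
    mu p Q < mu p Q' := by
  unfold mu
  have h1 : Nat.card Q ≤ Nat.card G := Subgroup.card_le_card_group Q
  have h2 : (vp p (Subgroup.normalizer (Q : Set G)) + 1) * (Nat.card G + 1) ≤
      vp p (Subgroup.normalizer (Q' : Set G)) * (Nat.card G + 1) :=
    Nat.mul_le_mul_right _ h
  nlinarith

theorem mu_lt_of_card_lt {G : Type u} [Group G] [Finite G] {Q Q' : Subgroup G}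
    (h : vp p (Subgroup.normalizer (Q : Set G)) ≤ vp p (Subgroup.normalizer (Q' : Set G)))
    (hc : Nat.card Q < Nat.card Q') : mu p Q < mu p Q' := by
  unfold mu
  have h2 : vp p (Subgroup.normalizer (Q : Set G)) * (Nat.card G + 1) ≤
      vp p (Subgroup.normalizer (Q' : Set G)) * (Nat.card G + 1) :=
    Nat.mul_le_mul_right _ h
  omega

/-- Step: the normalizer of a maximal bad subgroup is the whole group. -/
theorem normalizer_eq_top (hW : Cfsg.IsCharPFunctor.{u} p W) {G : Type u} [Group G] [Finite G]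
    (IH : ∀ (Y : Type u) [Group Y] [Finite Y], Nat.card Y < Nat.card G → ∀ S : Sylow p Y,
      HasNPC p ↥(Subgroup.normalizer
        ((Cfsg.inducedFunctor W (S : Subgroup Y) : Subgroup Y) : Set Y)) →
      SecHyp p W Y → HasNPC p Y)
    (hNall : ∀ S : Sylow p G, HasNPC p ↥(Subgroup.normalizer
      ((Cfsg.inducedFunctor W (S : Subgroup G) : Subgroup G) : Set G)))
    (hsec : SecHyp p W G)
    (H : Subgroup G) (hHp : IsPGroup p H) (hHne : H ≠ ⊥)
    (hHbad : ¬ HasNPC p ↥(Subgroup.normalizer (H : Set G)))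
    (hmax : ∀ Q : Subgroup G, IsPGroup p Q → Q ≠ ⊥ →
      ¬ HasNPC p ↥(Subgroup.normalizer (Q : Set G)) → mu p Q ≤ mu p H) :
    Subgroup.normalizer (H : Set G) = ⊤ := by
  by_contra hNtop
  set N := Subgroup.normalizer (H : Set G) with hN
  have hcardN : Nat.card N < Nat.card G := by
    rw [← Subgroup.card_top (G := G)]
    exact card_lt_of_lt (lt_top_iff_ne_top.mpr hNtop)
  apply hHbad
  obtain ⟨TN⟩ : Nonempty (Sylow p N) := inferInstance
  apply IH N hcardN TN _ (hsec.of_subgroup N)
  apply hasNPC_normalizer_of_map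
  -- the image of `W(TN)` in `G`
  set T : Subgroup G := (TN : Subgroup N).map N.subtype with hT
  have hTp : IsPGroup p T := TN.2.map _
  have hfun : (Cfsg.inducedFunctor W (TN : Subgroup N)).map N.subtype = Cfsg.inducedFunctor W T :=
    (inducedFunctor_map hW N.subtype (TN : Subgroup N) TN.2
      (fun x _ hx => by simpa using hx)).symm
  rw [hfun]
  have hTcard : Nat.card T = p ^ vp p N := card_sylow_subgroup N TN
  have hTN : T ≤ N := Subgroup.map_subtype_le _
  obtain ⟨S', hS'⟩ := hTp.exists_le_sylow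
  rcases eq_or_lt_of_le hS' with hTS | hTS
  · rw [hTS]; exact hNall S'
  · -- `T < S'`
    by_contra hbad
    have hTne : T ≠ ⊥ := by
      intro h
      have hHN : H ≤ N := Subgroup.le_normalizer
      have h1 := card_le_of_isPGroup_le hHp hHN
      rw [← hTcard, h, Subgroup.card_bot] at h1
      have h2 : Nat.card H = 1 := le_antisymm h1 Nat.card_pos
      exact hHne (Subgroup.card_eq_one.mp h2)
    have hWp : IsPGroup p (Cfsg.inducedFunctor W T) := hTp.to_le (inducedFunctor_le W T)
    have hWne : Cfsg.inducedFunctor W T ≠ ⊥ := inducedFunctor_ne_bot hW hTp hTne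
    have hle := hmax _ hWp hWne hbad
    have h1 := lt_inf_normalizer S'.2 hTS
    have h2 : (S' : Subgroup G) ⊓ Subgroup.normalizer (T : Set G) ≤
        Subgroup.normalizer ((Cfsg.inducedFunctor W T : Subgroup G) : Set G) :=
      inf_le_right.trans (normalizer_le_normalizer_inducedFunctor hW T hTp)
    have h3 := card_le_of_isPGroup_le (S'.2.to_le inf_le_left) h2
    have h4 := card_lt_of_lt h1
    rw [hTcard] at h4
    have h5 : vp p N < vp p (Subgroup.normalizer
        ((Cfsg.inducedFunctor W T : Subgroup G) : Set G)) :=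
      (Nat.pow_lt_pow_iff_right (Fact.out : p.Prime).one_lt).mp (lt_of_lt_of_le h4 h3)
    have h6 := mu_lt_of_vp_lt (Q := H) (Q' := Cfsg.inducedFunctor W T) h5
    omega


/-- Step: the quotient by `O_p(G)` has a normal `p`-complement. -/
theorem quotient_hasNPC (hW : Cfsg.IsCharPFunctor.{u} p W) {G : Type u} [Group G] [Finite G]
    (IH : ∀ (Y : Type u) [Group Y] [Finite Y], Nat.card Y < Nat.card G → ∀ S : Sylow p Y,
      HasNPC p ↥(Subgroup.normalizer
        ((Cfsg.inducedFunctor W (S : Subgroup Y) : Subgroup Y) : Set Y)) →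
      SecHyp p W Y → HasNPC p Y)
    (hsec : SecHyp p W G) (S : Sylow p G)
    (hRne : Cfsg.pCore p G ≠ ⊥)
    (hmax : ∀ Q : Subgroup G, IsPGroup p Q → Q ≠ ⊥ →
      ¬ HasNPC p ↥(Subgroup.normalizer (Q : Set G)) → mu p Q ≤ mu p (Cfsg.pCore p G)) :
    HasNPC p (G ⧸ Cfsg.pCore p G) := by
  set R := Cfsg.pCore p G with hR
  have hRp : IsPGroup p R := Cfsg.Agent.Lib.Helper76_PSolvable.pCore_isPGroup p
  have hRS : R ≤ (S : Subgroup G) := hRp.le_sylow_of_normal S
  have hπ : Function.Surjective (QuotientGroup.mk' R) := QuotientGroup.mk'_surjective R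
  by_cases hdiv : p ∣ Nat.card (G ⧸ R)
  swap
  · exact hasNPC_of_coprime (((Fact.out : p.Prime).coprime_iff_not_dvd).mpr hdiv).symm
  have hcard : Nat.card (G ⧸ R) < Nat.card G := by
    have h1 := Cfsg.Agent.Lib.Helper1_Transport.card_quotient_mul_card R
    have h2 : 1 < Nat.card R := by
      rcases Nat.lt_or_ge 1 (Nat.card R) with h | h
      · exact h
      · exfalso
        apply hRne
        apply Subgroup.card_eq_one.mp
        have : 0 < Nat.card R := Nat.card_pos
        omega
    have h3 : 0 < Nat.card (G ⧸ R) := Nat.card_pos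
    nlinarith
  let Sbar : Sylow p (G ⧸ R) := S.mapSurjective hπ
  have hSbar : (Sbar : Subgroup (G ⧸ R)) = (S : Subgroup G).map (QuotientGroup.mk' R) := rfl
  have hSbarne : (Sbar : Subgroup (G ⧸ R)) ≠ ⊥ := Sbar.ne_bot_of_dvd_card hdiv
  apply IH (G ⧸ R) hcard Sbar _ (hsec.of_surjective _ hπ)
  set Kbar := Cfsg.inducedFunctor W (Sbar : Subgroup (G ⧸ R)) with hKbar
  have hKbarne : Kbar ≠ ⊥ := inducedFunctor_ne_bot hW Sbar.2 hSbarne
  have hKbarle : Kbar ≤ (Sbar : Subgroup (G ⧸ R)) := inducedFunctor_le W _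
  set K := Kbar.comap (QuotientGroup.mk' R) with hK
  have hRK : R ≤ K := by
    conv_lhs => rw [← QuotientGroup.ker_mk' R]
    exact Subgroup.ker_le_comap _ _
  have hKS : K ≤ (S : Subgroup G) := by
    have h1 : K ≤ ((S : Subgroup G).map (QuotientGroup.mk' R)).comap (QuotientGroup.mk' R) :=
      Subgroup.comap_mono hKbarle
    rw [Subgroup.comap_map_eq, QuotientGroup.ker_mk', sup_eq_left.mpr hRS] at h1
    exact h1
  have hKp : IsPGroup p K := S.2.to_le hKS
  have hKmap : K.map (QuotientGroup.mk' R) = Kbar :=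
    Subgroup.map_comap_eq_self_of_surjective hπ _
  have hRltK : R < K := by
    refine lt_of_le_of_ne hRK ?_
    intro h
    apply hKbarne
    rw [← hKmap, ← h, Subgroup.map_eq_bot_iff, QuotientGroup.ker_mk']
  have hKne : K ≠ ⊥ := by
    intro h
    rw [h] at hRltK
    exact not_lt_bot hRltK
  have hNK : Subgroup.normalizer (K : Set G) =
      (Subgroup.normalizer (Kbar : Set (G ⧸ R))).comap (QuotientGroup.mk' R) :=
    (Subgroup.comap_normalizer_eq_of_surjective _ hπ).symm
  have hSNK : (S : Subgroup G) ≤ Subgroup.normalizer (K : Set G) := by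
    intro s hs
    rw [hNK, Subgroup.mem_comap]
    apply normalizer_le_normalizer_inducedFunctor hW _ Sbar.2
    apply Subgroup.le_normalizer
    rw [hSbar]
    exact ⟨s, hs, rfl⟩
  have hgood : HasNPC p ↥(Subgroup.normalizer (K : Set G)) := by
    by_contra hbad
    have hle := hmax K hKp hKne hbad
    have hv : vp p (Subgroup.normalizer (R : Set G)) ≤ vp p (Subgroup.normalizer (K : Set G)) := by
      have h1 : Subgroup.normalizer (R : Set G) = ⊤ := Subgroup.normalizer_eq_top_iff.mpr inferInstance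
      rw [h1]
      have h2 : vp p (⊤ : Subgroup G) ≤ vp p (Subgroup.normalizer (K : Set G)) := by
        have h3 := card_le_of_isPGroup_le S.2 hSNK
        have h4 : Nat.card (S : Subgroup G) = p ^ vp p (⊤ : Subgroup G) := by
          rw [S.card_eq_multiplicity]
          unfold vp
          rw [Subgroup.card_top]
        rw [h4] at h3
        exact (Nat.pow_le_pow_iff_right (Fact.out : p.Prime).one_lt).mp h3
      exact h2
    have := mu_lt_of_card_lt hv (card_lt_of_lt hRltK)
    omega
  have hmapN : (Subgroup.normalizer (K : Set G)).map (QuotientGroup.mk' R) =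
      Subgroup.normalizer (Kbar : Set (G ⧸ R)) := by
    rw [hNK]
    exact Subgroup.map_comap_eq_self_of_surjective hπ _
  exact hasNPC_of_eq hmapN (hasNPC_map _ _ hgood)


/-- Step: a minimal counterexample has no nontrivial normal `p'`-subgroup. -/
theorem normal_pprime_eq_bot (hW : Cfsg.IsCharPFunctor.{u} p W) {G : Type u} [Group G] [Finite G]
    (IH : ∀ (Y : Type u) [Group Y] [Finite Y], Nat.card Y < Nat.card G → ∀ S : Sylow p Y,
      HasNPC p ↥(Subgroup.normalizer
        ((Cfsg.inducedFunctor W (S : Subgroup Y) : Subgroup Y) : Set Y)) →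
      SecHyp p W Y → HasNPC p Y)
    (hsec : SecHyp p W G) (S : Sylow p G)
    (hN : HasNPC p ↥(Subgroup.normalizer
      ((Cfsg.inducedFunctor W (S : Subgroup G) : Subgroup G) : Set G)))
    (hnot : ¬ HasNPC p G) (L : Subgroup G) [L.Normal] (hL : (Nat.card L).Coprime p) :
    L = ⊥ := by
  by_contra hLne
  apply hnot
  apply hasNPC_of_quotient L hL
  have hπ : Function.Surjective (QuotientGroup.mk' L) := QuotientGroup.mk'_surjective L
  have hcard : Nat.card (G ⧸ L) < Nat.card G := by
    have h1 := Cfsg.Agent.Lib.Helper1_Transport.card_quotient_mul_card L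
    have h2 : 1 < Nat.card L := by
      rcases Nat.lt_or_ge 1 (Nat.card L) with h | h
      · exact h
      · exfalso
        apply hLne
        apply Subgroup.card_eq_one.mp
        have : 0 < Nat.card L := Nat.card_pos
        omega
    have h3 : 0 < Nat.card (G ⧸ L) := Nat.card_pos
    nlinarith
  let Sbar : Sylow p (G ⧸ L) := S.mapSurjective hπ
  have hSbar : (Sbar : Subgroup (G ⧸ L)) = (S : Subgroup G).map (QuotientGroup.mk' L) := rfl
  apply IH (G ⧸ L) hcard Sbar _ (hsec.of_surjective _ hπ)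
  have hdisj : (S : Subgroup G) ⊓ L = ⊥ := by
    obtain ⟨k, hk⟩ := S.2.exists_card_eq
    have hc : (Nat.card (S : Subgroup G)).Coprime (Nat.card L) := by
      rw [hk]
      exact Nat.Coprime.pow_left k hL.symm
    exact (Subgroup.disjoint_of_coprime_natCard hc).eq_bot
  have hfun : Cfsg.inducedFunctor W (Sbar : Subgroup (G ⧸ L)) =
      (Cfsg.inducedFunctor W (S : Subgroup G)).map (QuotientGroup.mk' L) := by
    rw [hSbar]
    apply inducedFunctor_map hW _ _ S.2
    intro x hx hx1
    have hxL : x ∈ L := (QuotientGroup.eq_one_iff x).mp hx1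
    have : x ∈ (S : Subgroup G) ⊓ L := ⟨hx, hxL⟩
    rw [hdisj] at this
    exact Subgroup.mem_bot.mp this
  rw [hfun]
  have hWp : IsPGroup p (Cfsg.inducedFunctor W (S : Subgroup G)) :=
    S.2.to_le (inducedFunctor_le W _)
  have hmapN := map_normalizer_eq_of_coprime L hL _ hWp
  exact hasNPC_of_eq hmapN (hasNPC_map _ _ hN)


theorem isPSolvable_of_series {G : Type*} [Group G] (R K : Subgroup G) [hR : R.Normal]
    [hK : K.Normal] (hRK : R ≤ K) (h0 : ∃ m : ℕ, Nat.card R = p ^ m)
    (h1 : (R.relIndex K).Coprime p) (h2 : ∃ m : ℕ, K.index = p ^ m) : Cfsg.IsPSolvable p G := by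
  refine ⟨3, ![⊥, R, K, ⊤], rfl, rfl, ?_, ?_, ?_⟩
  · rw [Fin.monotone_iff_le_succ]
    intro i
    fin_cases i
    · exact bot_le
    · exact hRK
    · exact le_top
  · intro i
    fin_cases i
    · exact Subgroup.normal_bot
    · exact hR
    · exact hK
    · exact Subgroup.normal_top
  · intro i
    fin_cases i
    · left
      obtain ⟨m, hm⟩ := h0
      exact ⟨m, by simpa [Subgroup.relIndex_bot_left] using hm⟩
    · right
      exact h1
    · left
      obtain ⟨m, hm⟩ := h2
      exact ⟨m, by simpa [Subgroup.relIndex_top_right] using hm⟩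

/-- Step: `C_G(O_p(G)) ≤ O_p(G)`. -/
theorem centralizer_pCore_le' {G : Type u} [Group G] [Finite G]
    (hq : HasNPC p (G ⧸ Cfsg.pCore p G))
    (hL : ∀ L : Subgroup G, L.Normal → (Nat.card L).Coprime p → L = ⊥) :
    Subgroup.centralizer ((Cfsg.pCore p G : Subgroup G) : Set G) ≤ Cfsg.pCore p G := by
  set R := Cfsg.pCore p G with hR
  obtain ⟨Kbar, hKn, hKc, n, hKi⟩ := hq
  have hπ : Function.Surjective (QuotientGroup.mk' R) := QuotientGroup.mk'_surjective R
  set K := Kbar.comap (QuotientGroup.mk' R) with hK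
  have hKnormal : K.Normal := hKn.comap _
  have hRK : R ≤ K := by
    conv_lhs => rw [← QuotientGroup.ker_mk' R]
    exact Subgroup.ker_le_comap _ _
  have hRp : IsPGroup p R := Cfsg.Agent.Lib.Helper76_PSolvable.pCore_isPGroup p
  have hsol : Cfsg.IsPSolvable p G := by
    apply isPSolvable_of_series R K hRK hRp.exists_card_eq
    · have h1 := Cfsg.Agent.Lib.Helper32_Sylow.card_mul_relIndex' hRK
      have h2 := Cfsg.Agent.Lib.Helper1_Transport.card_comap_mk' R Kbar
      rw [← hK] at h2
      rw [h2, mul_comm] at h1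
      have h3 : R.relIndex K = Nat.card Kbar :=
        Nat.eq_of_mul_eq_mul_right Nat.card_pos h1
      rw [h3]; exact hKc
    · refine ⟨n, ?_⟩
      rw [hK, Subgroup.index_comap_of_surjective _ hπ]
      exact hKi
  have hcore : Cfsg.pPrimeCore p G = ⊥ :=
    hL _ (Cfsg.Agent.Lib.Helper76_PSolvable.pPrimeCore_normal p)
      (Cfsg.Agent.Lib.Helper76_PSolvable.pPrimeCore_card_coprime p)
  exact Cfsg.Agent.Lib.Helper76_PSolvable.centralizer_pCore_le p hsol hcore


/-- Step: the Sylow subgroup is a maximal subgroup. -/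
theorem sylow_isCoatom (hW : Cfsg.IsCharPFunctor.{u} p W) {G : Type u} [Group G] [Finite G]
    (IH : ∀ (Y : Type u) [Group Y] [Finite Y], Nat.card Y < Nat.card G → ∀ S : Sylow p Y,
      HasNPC p ↥(Subgroup.normalizer
        ((Cfsg.inducedFunctor W (S : Subgroup Y) : Subgroup Y) : Set Y)) →
      SecHyp p W Y → HasNPC p Y)
    (hsec : SecHyp p W G) (S : Sylow p G)
    (hN : HasNPC p ↥(Subgroup.normalizer
      ((Cfsg.inducedFunctor W (S : Subgroup G) : Subgroup G) : Set G)))
    (hnot : ¬ HasNPC p G)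
    (hcen : Subgroup.centralizer ((Cfsg.pCore p G : Subgroup G) : Set G) ≤ Cfsg.pCore p G) :
    IsCoatom (S : Subgroup G) := by
  set R := Cfsg.pCore p G with hR
  have hRp : IsPGroup p R := Cfsg.Agent.Lib.Helper76_PSolvable.pCore_isPGroup p
  have hRS : R ≤ (S : Subgroup G) := hRp.le_sylow_of_normal S
  have hStop : (S : Subgroup G) ≠ ⊤ := by
    intro h
    apply hnot
    apply hasNPC_of_isPGroup
    have h1 : IsPGroup p (⊤ : Subgroup G) := h ▸ S.2
    exact h1.of_equiv Subgroup.topEquiv
  obtain ⟨M, hM, hMmin⟩ := Set.exists_min_image {M : Subgroup G | (S : Subgroup G) < M}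
    (fun M => Nat.card M) (Set.toFinite _) ⟨⊤, lt_top_iff_ne_top.mpr hStop⟩
  have hSM : (S : Subgroup G) ≤ M := (show (S : Subgroup G) < M from hM).le
  have hMtop : M = ⊤ := by
    by_contra hMne
    have hcardM : Nat.card M < Nat.card G := by
      rw [← Subgroup.card_top (G := G)]
      exact card_lt_of_lt (lt_top_iff_ne_top.mpr hMne)
    let SM : Sylow p M := S.subtype hSM
    have hSMmap : (SM : Subgroup M).map M.subtype = (S : Subgroup G) := by
      rw [Sylow.coe_subtype, Subgroup.subgroupOf_map_subtype, inf_eq_left.mpr hSM]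
    have hM_npc : HasNPC p M := by
      apply IH M hcardM SM _ (hsec.of_subgroup M)
      apply hasNPC_normalizer_of_map
      have hfun := inducedFunctor_map hW M.subtype (SM : Subgroup M) SM.2
        (fun x _ hx => by simpa using hx)
      rw [← hfun, hSMmap]
      exact hN
    obtain ⟨KM, hKMn, hKMc, n, hKMi⟩ := hM_npc
    have hdisj : KM.map M.subtype ⊓ R = ⊥ := by
      obtain ⟨k, hk⟩ := hRp.exists_card_eq
      have hc : (Nat.card (KM.map M.subtype : Subgroup G)).Coprime (Nat.card R) := by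
        rw [hk, Subgroup.card_map_of_injective M.subtype_injective]
        exact Nat.Coprime.pow_right k hKMc
      exact (Subgroup.disjoint_of_coprime_natCard hc).eq_bot
    have hKMcen : KM.map M.subtype ≤ Subgroup.centralizer (R : Set G) := by
      rintro _ ⟨k, hk, rfl⟩
      rw [Subgroup.mem_centralizer_iff]
      intro r hr
      have hrM : r ∈ M := hSM (hRS hr)
      have h1 : (⟨r, hrM⟩ : M) * k⁻¹ * (⟨r, hrM⟩ : M)⁻¹ ∈ KM :=
        hKMn.conj_mem _ (KM.inv_mem hk) _
      have h2 : k * ((⟨r, hrM⟩ : M) * k⁻¹ * (⟨r, hrM⟩ : M)⁻¹) ∈ KM := KM.mul_mem hk h1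
      have h3 : (k : G) * (r * (k : G)⁻¹ * r⁻¹) ∈ KM.map M.subtype :=
        ⟨_, h2, by simp⟩
      have h4 : (k : G) * (r * (k : G)⁻¹ * r⁻¹) ∈ R := by
        have h5 : (k : G) * r * (k : G)⁻¹ ∈ R := (Cfsg.pCore_normal p G).conj_mem r hr _
        have h6 := R.mul_mem h5 (R.inv_mem hr)
        have e : (k : G) * r * (k : G)⁻¹ * r⁻¹ = (k : G) * (r * (k : G)⁻¹ * r⁻¹) := by group
        rwa [e] at h6
      have h7 : (k : G) * (r * (k : G)⁻¹ * r⁻¹) ∈ KM.map M.subtype ⊓ R := ⟨h3, h4⟩
      rw [hdisj, Subgroup.mem_bot] at h7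
      show r * M.subtype k = M.subtype k * r
      have e : r * (k : G) = ((k : G) * (r * (k : G)⁻¹ * r⁻¹))⁻¹ * ((k : G) * r) := by group
      rw [Subgroup.coe_subtype, e, h7]
      group
    have hKMbot : KM = ⊥ := by
      have h1 : KM.map M.subtype ≤ KM.map M.subtype ⊓ R := le_inf le_rfl (hKMcen.trans hcen)
      rw [hdisj] at h1
      exact (Subgroup.map_eq_bot_iff_of_injective _ M.subtype_injective).mp (le_bot_iff.mp h1)
    have hMp : IsPGroup p M := by
      rw [hKMbot, Subgroup.index_bot] at hKMi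
      exact IsPGroup.of_card hKMi
    have hSeq : (S : Subgroup G) = M := (S.is_maximal' hMp hSM).symm
    exact (show (S : Subgroup G) < M from hM).ne hSeq
  refine ⟨hStop, ?_⟩
  intro b hb
  have h1 := hMmin b hb
  rw [hMtop] at h1
  simp only [Subgroup.card_top] at h1
  exact Subgroup.eq_top_of_le_card b h1


/-- The main induction. -/
theorem main (hW : Cfsg.IsCharPFunctor.{u} p W) : ∀ n : ℕ, ∀ (G : Type u) [Group G] [Finite G],
    Nat.card G = n → ∀ S : Sylow p G,
      HasNPC p ↥(Subgroup.normalizer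
        ((Cfsg.inducedFunctor W (S : Subgroup G) : Subgroup G) : Set G)) →
      SecHyp p W G → HasNPC p G := by
  intro n
  induction n using Nat.strong_induction_on with
  | _ n ih =>
  intro G _ _ hcard S hN hsec
  by_contra hnot
  have IH : ∀ (Y : Type u) [Group Y] [Finite Y], Nat.card Y < Nat.card G → ∀ S : Sylow p Y,
      HasNPC p ↥(Subgroup.normalizer
        ((Cfsg.inducedFunctor W (S : Subgroup Y) : Subgroup Y) : Set Y)) →
      SecHyp p W Y → HasNPC p Y := by
    intro Y _ _ hY SY hNY hsecY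
    exact ih (Nat.card Y) (hcard ▸ hY) Y rfl SY hNY hsecY
  have hNall := hN_all hW S hN
  -- the set of bad subgroups
  have hbad : ∃ Q : Subgroup G, IsPGroup p Q ∧ Q ≠ ⊥ ∧
      ¬ HasNPC p ↥(Subgroup.normalizer (Q : Set G)) := by
    by_contra hcon
    push Not at hcon
    apply hnot
    rw [← Cfsg.Agent.S0072.hasNPC_iff, Cfsg.Agent.S0072.result]
    intro Q hQ hQne
    rw [Cfsg.Agent.S0072.hasNPC_iff]
    exact hcon Q hQ hQne
  obtain ⟨H, hH, hHmax⟩ := Set.exists_max_image
    {Q : Subgroup G | IsPGroup p Q ∧ Q ≠ ⊥ ∧ ¬ HasNPC p ↥(Subgroup.normalizer (Q : Set G))}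
    (fun Q => mu p Q) (Set.toFinite _) hbad
  obtain ⟨hHp, hHne, hHbad⟩ := hH
  have hmax : ∀ Q : Subgroup G, IsPGroup p Q → Q ≠ ⊥ →
      ¬ HasNPC p ↥(Subgroup.normalizer (Q : Set G)) → mu p Q ≤ mu p H :=
    fun Q h1 h2 h3 => hHmax Q ⟨h1, h2, h3⟩
  have hNtop := normalizer_eq_top hW IH hNall hsec H hHp hHne hHbad hmax
  have hHn : H.Normal := Subgroup.normalizer_eq_top_iff.mp hNtop
  -- replace `H` by `O_p(G)`
  set R := Cfsg.pCore p G with hR
  have hRp : IsPGroup p R := Cfsg.Agent.Lib.Helper76_PSolvable.pCore_isPGroup p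
  have hHR : H ≤ R := Cfsg.Agent.Lib.Helper76_PSolvable.le_pCore p H hHp
  have hRne : R ≠ ⊥ := by
    intro h
    rw [h] at hHR
    exact hHne (le_bot_iff.mp hHR)
  have hNR : Subgroup.normalizer (R : Set G) = ⊤ :=
    Subgroup.normalizer_eq_top_iff.mpr inferInstance
  have hmaxR : ∀ Q : Subgroup G, IsPGroup p Q → Q ≠ ⊥ →
      ¬ HasNPC p ↥(Subgroup.normalizer (Q : Set G)) → mu p Q ≤ mu p R := by
    intro Q h1 h2 h3
    have h4 := hmax Q h1 h2 h3
    have h5 : mu p H ≤ mu p R := by
      unfold mu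
      rw [hNtop, hNR]
      have := Subgroup.card_le_of_le hHR
      omega
    exact h4.trans h5
  have hq := quotient_hasNPC hW IH hsec S hRne hmaxR
  have hL : ∀ L : Subgroup G, L.Normal → (Nat.card L).Coprime p → L = ⊥ :=
    fun L hLn hLc => @normal_pprime_eq_bot p _ W hW G _ _ IH hsec S hN hnot L hLn hLc
  have hcen := centralizer_pCore_le' hq hL
  have hco := sylow_isCoatom hW IH hsec S hN hnot hcen
  have hloc := hsec G (involves_self G)
  have hq' : Cfsg.HasNormalPComplement p (G ⧸ Cfsg.pCore p G) :=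
    (Cfsg.Agent.S0072.hasNPC_iff p).mpr hq
  have hnormal := hloc hcen hq' S hco
  apply hnot
  have htop : Subgroup.normalizer
      ((Cfsg.inducedFunctor W (S : Subgroup G) : Subgroup G) : Set G) = ⊤ :=
    Subgroup.normalizer_eq_top_iff.mpr hnormal
  exact hasNPC_top_iff.mp (hasNPC_of_eq htop hN)

/-- Thompson's normal p-complement criterion in functor form. Let p be a prime, G a finite group with Sylow p-subgroup S, and W an isomorphism-invariant p-group functor (W assigns to every group Q a subgroup W(Q), nontrivial whenever Q is a nontrivial finite p-group, and every isomorphism from a finite p-group Q onto a group R carries W(Q) onto W(R)). Suppose N_G(W(S)) has a normal p-complement, and that W(S*) is normal in G* whenever G* = K/R is a section of G with C_{G*}(O_p(G*)) ≤ O_p(G*) such that G*/O_p(G*) has a normal p-complement, and S* is a Sylow p-subgroup of G* that is a maximal subgroup of G*. Then G has a normal p-complement. -/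
theorem result {G : Type u} [Group G] [Finite G] {p : ℕ} [Fact p.Prime] (W : ∀ (Q : Type u) [Group Q], Subgroup Q) (hW : Cfsg.IsCharPFunctor.{u} p W) (S : Sylow p G) (hN : Cfsg.HasNormalPComplement p ↥(Subgroup.normalizer ((Cfsg.inducedFunctor (G := G) W (S : Subgroup G) : Subgroup G) : Set G))) (hloc : ∀ (K R : Subgroup G) [hR : (R.subgroupOf K).Normal], Subgroup.centralizer ((Cfsg.pCore p (↥K ⧸ R.subgroupOf K) : Subgroup (↥K ⧸ R.subgroupOf K)) : Set (↥K ⧸ R.subgroupOf K)) ≤ Cfsg.pCore p (↥K ⧸ R.subgroupOf K) → Cfsg.HasNormalPComplement p ((↥K ⧸ R.subgroupOf K) ⧸ Cfsg.pCore p (↥K ⧸ R.subgroupOf K)) → ∀ T : Sylow p (↥K ⧸ R.subgroupOf K), IsCoatom (T : Subgroup (↥K ⧸ R.subgroupOf K)) → (Cfsg.inducedFunctor (G := (↥K ⧸ R.subgroupOf K)) W ((T : Subgroup (↥K ⧸ R.subgroupOf K)))).Normal) : Cfsg.HasNormalPComplement p G := by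
  rw [Cfsg.Agent.S0072.hasNPC_iff] at hN ⊢
  refine main hW _ G rfl S hN ?_
  intro X _ hX
  obtain ⟨K, R, hn, ⟨e⟩⟩ := hX
  have : Finite (↥K ⧸ R.subgroupOf K) := inferInstance
  exact Loc.of_equiv hW e (hloc K R)


end Cfsg.Agent.S2005
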