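import Cfsg.Statements.S0659
import Cfsg.Agent.S2005
import Cfsg.Agent.S0653
import Cfsg.Agent.Lib.Helper11_ZJ
import Cfsg.Agent.Lib.Helper1_ZJFunctor
import Cfsg.Agent.Lib.Helper1_PStable3
import Cfsg.Agent.Lib.Helper1_PStable4

set_option autoImplicit false
open Cfsg

namespace Cfsg.Agent.S0659

/-- Glauberman's normal p-complement Theorem with the abelian-version Thompson subgroup: for odd p, G has a normal p-complement whenever the normalizer of Z(J(P)) does. -/
theorem result {G : Type*} [Group G] [Finite G] {p : ℕ} [Fact p.Prime] (hp : p ≠ 2) (P : Sylow p G) (hN : Cfsg.HasNormalPComplement p ↥(Subgroup.normalizer (Cfsg.centerThompsonAOf ((P : Subgroup G)) : Set G))) : Cfsg.HasNormalPComplement p G := by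
  open Cfsg.Agent.Lib.Helper1_ZJFunctor in
  apply Cfsg.Agent.S2005.result WZJ (isCharPFunctor_WZJ p) P
  · rw [inducedFunctor_WZJ]
    exact hN
  · intro K R hR hc hnpc T hT
    rw [inducedFunctor_WZJ, Cfsg.Agent.S0653.centerThompsonAOf_eq]
    apply Cfsg.Agent.Lib.Helper11_ZJ.W_normal (Cfsg.Agent.S0653.admissible hp) T hc
    intro B hBn hBp
    obtain ⟨K', H', hyp⟩ := Cfsg.Agent.Lib.Helper1_PStable4.exists_hyp_of_local hnpc T hT
    exact Cfsg.Agent.Lib.Helper1_PStable3.stableOn_of_hyp hp hyp _ B T.isPGroup' hBp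

end Cfsg.Agent.S0659
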