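import Mathlib
import Cfsg.Statements.S1337
import Cfsg.Agent.Lib.Helper20_PGroupOdd
import Cfsg.Agent.Lib.Helper4_NormalFour

set_option autoImplicit false
open Cfsg

namespace Cfsg.Agent.S1337

open Cfsg.Agent.Lib.Helper20_PGroupOdd Cfsg.Agent.Lib.Helper4_NormalFour

section General

variable {P : Type*} [Group P]

/-- The join of two elementwise commuting abelian subgroups is abelian. -/
theorem sup_comm (Y Y' : Subgroup P) (hY : ∀ a ∈ Y, ∀ b ∈ Y, a * b = b * a)
    (hY' : ∀ a ∈ Y', ∀ b ∈ Y', a * b = b * a) (hYY' : ∀ a ∈ Y, ∀ b ∈ Y', a * b = b * a) :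
    ∀ a ∈ Y ⊔ Y', ∀ b ∈ Y ⊔ Y', a * b = b * a := by
  have h1 : Y ⊔ Y' ≤ Subgroup.centralizer ((Y : Set P) ∪ Y') := by
    apply sup_le
    · intro y hy
      rw [Subgroup.mem_centralizer_iff]
      rintro x (hx | hx)
      · exact hY x hx y hy
      · exact (hYY' y hy x hx).symm
    · intro y hy
      rw [Subgroup.mem_centralizer_iff]
      rintro x (hx | hx)
      · exact hYY' x hx y hy
      · exact hY' x hx y hy
  have h2 : Y ⊔ Y' ≤ Subgroup.centralizer ((Y ⊔ Y' : Subgroup P) : Set P) := by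
    apply sup_le
    · intro y hy
      rw [Subgroup.mem_centralizer_iff]
      intro x hx
      have := Subgroup.mem_centralizer_iff.mp (h1 hx) y (Or.inl hy)
      exact this.symm
    · intro y hy
      rw [Subgroup.mem_centralizer_iff]
      intro x hx
      have := Subgroup.mem_centralizer_iff.mp (h1 hx) y (Or.inr hy)
      exact this.symm
  intro a ha b hb
  exact Subgroup.mem_centralizer_iff.mp (h2 hb) a ha

/-- The join of two elementwise commuting elementary abelian subgroups is elementary abelian. -/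
theorem sup_elemAb (p : ℕ) (Y Y' : Subgroup P) (hY : Cfsg.IsElementaryAbelian p Y)
    (hY' : Cfsg.IsElementaryAbelian p Y') (hYY' : ∀ a ∈ Y, ∀ b ∈ Y', a * b = b * a) :
    Cfsg.IsElementaryAbelian p (Y ⊔ Y') := by
  have c1 : ∀ a ∈ Y, ∀ b ∈ Y, a * b = b * a := fun a ha b hb =>
    congrArg Subtype.val (hY.1.is_comm.comm (⟨a, ha⟩ : Y) ⟨b, hb⟩)
  have c2 : ∀ a ∈ Y', ∀ b ∈ Y', a * b = b * a := fun a ha b hb =>
    congrArg Subtype.val (hY'.1.is_comm.comm (⟨a, ha⟩ : Y') ⟨b, hb⟩)
  have hc := sup_comm Y Y' c1 c2 hYY'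
  refine ⟨⟨⟨fun x y => Subtype.ext (hc x x.2 y y.2)⟩⟩, ?_⟩
  intro a ha
  have hle : Y ⊔ Y' ≤ Subgroup.closure ((Y : Set P) ∪ Y') := by
    apply sup_le
    · exact fun y hy => Subgroup.subset_closure (Or.inl hy)
    · exact fun y hy => Subgroup.subset_closure (Or.inr hy)
  have hge : Subgroup.closure ((Y : Set P) ∪ Y') ≤ Y ⊔ Y' := by
    rw [Subgroup.closure_le]
    rintro x (hx | hx)
    · exact Subgroup.mem_sup_left hx
    · exact Subgroup.mem_sup_right hx
  have ha' := hle ha
  induction ha' using Subgroup.closure_induction with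
  | mem x hx =>
    rcases hx with hx | hx
    · exact hY.2 x hx
    · exact hY'.2 x hx
  | one => exact one_pow p
  | mul x y hx hy ihx ihy =>
    have hcomm : Commute x y := hc x (hge hx) y (hge hy)
    rw [hcomm.mul_pow, ihx (hge hx), ihy (hge hy), one_mul]
  | inv x hx ihx => rw [inv_pow, ihx (hge hx), inv_one]

/-- Two distinct subgroups of order at least `p²` of a finite `p`-group generate a subgroup of
order greater than `p²`. -/
theorem card_sup_gt [Finite P] {p : ℕ} [hp : Fact p.Prime] (hP : IsPGroup p P)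
    (Y Y' : Subgroup P) (hne : Y ≠ Y') (hY : p ^ 2 ≤ Nat.card Y) (hY' : p ^ 2 ≤ Nat.card Y') :
    p ^ 2 < Nat.card ↥(Y ⊔ Y') := by
  have key : ∀ W : Subgroup P, W ≤ Y ⊔ Y' → W ≠ Y ⊔ Y' → p ^ 2 ≤ Nat.card W →
      p ^ 2 < Nat.card ↥(Y ⊔ Y') := by
    intro W hW hWne hWc
    have hlt : Nat.card W < Nat.card ↥(Y ⊔ Y') := by
      by_contra hcon
      push Not at hcon
      exact hWne (Subgroup.eq_of_le_of_card_ge hW hcon)
    omega
  by_cases h1 : Y = Y ⊔ Y'
  · have h2 : Y' ≠ Y ⊔ Y' := by
      intro h2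
      exact hne (h1.trans h2.symm)
    exact key Y' le_sup_right h2 hY'
  · exact key Y le_sup_left h1 hY

end General

section Main

variable {P : Type*} [Group P] [Finite P] {p : ℕ} [hp : Fact p.Prime]

/-- A finite `p`-group of rank greater than `2` has a good pair. -/
theorem exists_good_of_rank (hP : IsPGroup p P) (hrk : ¬ Cfsg.PRankLE p 2 P) :
    ∃ z h : P, Good p (⊤ : Subgroup P) z h := by
  unfold Cfsg.PRankLE at hrk
  push Not at hrk
  obtain ⟨A, hAc, hAe, hAcard⟩ := hrk
  by_cases hp2 : p = 2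
  · subst hp2
    -- a subgroup of order `8` of `A`
    have hApg : IsPGroup 2 A := hP.to_subgroup A
    obtain ⟨k, hk⟩ := IsPGroup.iff_card.mp hApg
    have hk3 : 3 ≤ k := by
      by_contra hlt
      have : k ≤ 2 := by omega
      have := Nat.pow_le_pow_right (by norm_num : 0 < 2) this
      omega
    have hdvd : 2 ^ 3 ∣ Nat.card A := by rw [hk]; exact pow_dvd_pow 2 hk3
    obtain ⟨K, hK⟩ := Sylow.exists_subgroup_card_pow_prime 2 hdvd
    have hE : Nat.card (K.map A.subtype) = 8 := by
      rw [Subgroup.card_map_of_injective A.subtype_injective, hK]; norm_num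
    have hE2 : ∀ e ∈ K.map A.subtype, e ^ 2 = 1 := by
      rintro e ⟨x, _, rfl⟩
      exact hAe x.1 x.2
    obtain ⟨z, t, hzc, hz1, hz2, ht2, ht1, htz, hconj⟩ := hasNormalFour_of_E8 hP _ hE hE2
    refine ⟨z, t, Subgroup.mem_top _, Subgroup.mem_top _, hzc, orderOf_eq_prime hz2 hz1, ht2, ?_, ?_⟩
    · intro hmem
      rcases (mem_zpowers_of_sq_eq_one hz2).mp hmem with h1 | h1
      · exact ht1 h1
      · exact htz h1
    · intro g
      rcases hconj g with h1 | h1
      · rw [h1, mul_inv_cancel]; exact Subgroup.one_mem _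
      · rw [h1, mul_inv_cancel_right]; exact Subgroup.mem_zpowers z
  · have : (⊤ : Subgroup P).Normal := inferInstance
    apply exists_good hp2 hP ⊤
    intro hcyc
    have hPcyc : IsCyclic P :=
      isCyclic_of_surjective (Subgroup.topEquiv : (⊤ : Subgroup P) ≃* P).toMonoidHom
        (Subgroup.topEquiv : (⊤ : Subgroup P) ≃* P).surjective
    have hAcyc : IsCyclic A := Subgroup.isCyclic A
    obtain ⟨g, hg⟩ := hAcyc.exists_generator
    have hord : orderOf g = Nat.card A := orderOf_eq_card_of_forall_mem_zpowers hg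
    have hgp : g ^ p = 1 := Subtype.ext (by simpa using hAe g g.2)
    have h1 := Nat.le_of_dvd hp.out.pos (orderOf_dvd_of_pow_eq_one hgp)
    have h2 : p ≤ p ^ 2 := by
      calc p = p ^ 1 := (pow_one p).symm
        _ ≤ p ^ 2 := Nat.pow_le_pow_right hp.out.pos (by norm_num)
    omega

/-- The centralizer of `h` meets every subgroup in a subgroup of index dividing `p`. -/
theorem card_inf_centralizer {z h : P} (hg : Good p (⊤ : Subgroup P) z h) (A : Subgroup P) :
    ∃ r : ℕ, r ∣ p ∧
      Nat.card ↥(Subgroup.centralizer ({h} : Set P) ⊓ A) * r = Nat.card A := by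
  have hzc := hg.2.2.1
  have hmem := hg.2.2.2.2.2.2
  let θ : P →* P := MonoidHom.mk' (fun g => g * h * g⁻¹ * h⁻¹) (by
    intro a b
    have hb : b * h * b⁻¹ * h⁻¹ ∈ Subgroup.center P := (Subgroup.zpowers_le.mpr hzc) (hmem b)
    have hbc := Subgroup.mem_center_iff.mp hb
    calc a * b * h * (a * b)⁻¹ * h⁻¹ = a * ((b * h * b⁻¹ * h⁻¹) * h) * a⁻¹ * h⁻¹ := by group
      _ = (b * h * b⁻¹ * h⁻¹) * (a * h * a⁻¹ * h⁻¹) := by
        rw [← mul_assoc a, hbc a]; simp only [mul_assoc]
      _ = (a * h * a⁻¹ * h⁻¹) * (b * h * b⁻¹ * h⁻¹) := (hbc _).symm)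
  have hker : θ.ker = Subgroup.centralizer ({h} : Set P) := by
    ext g
    rw [MonoidHom.mem_ker, Subgroup.mem_centralizer_singleton_iff]
    show g * h * g⁻¹ * h⁻¹ = 1 ↔ _
    rw [mul_inv_eq_one, mul_inv_eq_iff_eq_mul]
  have hrange : θ.range ≤ Subgroup.zpowers z := by
    rintro x ⟨g, rfl⟩
    exact hmem g
  have hidx : θ.ker.index ∣ p := by
    rw [Subgroup.index_ker]
    have := Subgroup.card_dvd_of_le hrange
    rwa [Nat.card_zpowers, hg.2.2.2.1] at this
  have hN : θ.ker.Normal := inferInstance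
  refine ⟨θ.ker.relIndex A, dvd_trans (Subgroup.relIndex_dvd_index_of_normal _ _) hidx, ?_⟩
  rw [← hker]
  have h1 := Subgroup.relIndex_mul_relIndex (⊥ : Subgroup P) (θ.ker ⊓ A) A bot_le inf_le_right
  rw [Subgroup.relIndex_bot_left, Subgroup.relIndex_bot_left, Subgroup.inf_relIndex_right] at h1
  exact h1

/-- Elements of `C(h)` commute with the elements of `B`. -/
theorem comm_B {z h : P} (hg : Good p (⊤ : Subgroup P) z h) {a b : P}
    (ha : a ∈ Subgroup.centralizer ({h} : Set P)) (hb : b ∈ hg.B) : a * b = b * a := by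
  obtain ⟨x, hx, y, hy, rfl⟩ := hg.mem_B_iff.mp hb
  have hxc : x ∈ Subgroup.center P := (Subgroup.zpowers_le.mpr hg.2.2.1) hx
  have h1 := Subgroup.mem_center_iff.mp hxc a
  obtain ⟨j, rfl⟩ := Subgroup.mem_zpowers_iff.mp hy
  have h2 : Commute a h := Subgroup.mem_centralizer_singleton_iff.mp ha
  have h3 : a * h ^ j = h ^ j * a := (h2.zpow_right j).eq
  rw [← mul_assoc, h1, mul_assoc, h3, mul_assoc]

end Main

/-- Let P be a finite p-group of p-rank greater than 2. Then P has a normal elementary abelian subgroup U of order p², and for every elementary abelian X ≤ P with |X| ≥ p²: X is joined to U by a chain of pairwise commuting elementary abelian subgroups of order ≥ p² if and only if C_P(X) has p-rank greater than 2. -/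
theorem result {P : Type*} [Group P] [Finite P] (p : ℕ) [Fact p.Prime] (hP : IsPGroup p P) (hrk : ¬ Cfsg.PRankLE p 2 P) : ∃ U : Subgroup P, U.Normal ∧ Cfsg.IsElementaryAbelian p U ∧ Nat.card ↥U = p ^ 2 ∧ ∀ X : Subgroup P, Cfsg.IsElementaryAbelian p X → p ^ 2 ≤ Nat.card ↥X → (Relation.ReflTransGen (fun A B : Subgroup P => Cfsg.IsElementaryAbelian p A ∧ p ^ 2 ≤ Nat.card ↥A ∧ Cfsg.IsElementaryAbelian p B ∧ p ^ 2 ≤ Nat.card ↥B ∧ ∀ a ∈ A, ∀ b ∈ B, a * b = b * a) X U ↔ ¬ Cfsg.PRankLE p 2 ↥(Subgroup.centralizer (X : Set P))) := by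
  classical
  have hpp : p.Prime := Fact.out
  obtain ⟨z, h, hg⟩ := exists_good_of_rank hP hrk
  have hUea : Cfsg.IsElementaryAbelian p hg.B :=
    ⟨⟨⟨fun x y => Subtype.ext (hg.B_comm x x.2 y y.2)⟩⟩, hg.B_exp⟩
  -- criterion for rank of the centralizer
  have crit : ∀ X T : Subgroup P, Cfsg.IsElementaryAbelian p T → p ^ 2 < Nat.card T →
      T ≤ Subgroup.centralizer (X : Set P) →
      ¬ Cfsg.PRankLE p 2 ↥(Subgroup.centralizer (X : Set P)) := by
    intro X T hT hTc hTX hle
    have hcT : ∀ x y : ↥(T.subgroupOf (Subgroup.centralizer (X : Set P))), x * y = y * x := by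
      intro x y
      have h0 := hT.1.is_comm.comm (⟨x.1.1, x.2⟩ : T) ⟨y.1.1, y.2⟩
      have h2 : x.1.1 * y.1.1 = y.1.1 * x.1.1 := congrArg Subtype.val h0
      exact Subtype.ext (Subtype.ext h2)
    have h1 := hle (T.subgroupOf (Subgroup.centralizer (X : Set P))) ⟨⟨hcT⟩⟩
      (fun a ha => Subtype.ext (by simpa using hT.2 a.1 ha))
    rw [Nat.card_congr (Subgroup.subgroupOfEquivOfLe hTX).toEquiv] at h1
    omega
  -- the centralizer of `U` has rank greater than two
  have hU3 : ¬ Cfsg.PRankLE p 2 ↥(Subgroup.centralizer ((hg.B : Subgroup P) : Set P)) := by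
    have hrk' := hrk
    unfold Cfsg.PRankLE at hrk'
    push Not at hrk'
    obtain ⟨A, hAc, hAe, hAcard⟩ := hrk'
    have hAea : Cfsg.IsElementaryAbelian p A := ⟨hAc, hAe⟩
    obtain ⟨r, hr, hcard⟩ := card_inf_centralizer hg A
    set A₁ := Subgroup.centralizer ({h} : Set P) ⊓ A with hA₁
    have hA₁ea : Cfsg.IsElementaryAbelian p A₁ := by
      refine ⟨⟨⟨fun x y => ?_⟩⟩, fun a ha => hAe a ha.2⟩
      have h0 := hAc.is_comm.comm (⟨x.1, x.2.2⟩ : A) ⟨y.1, y.2.2⟩
      have h2 : x.1 * y.1 = y.1 * x.1 := congrArg Subtype.val h0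
      exact Subtype.ext h2
    have hA₁card : p ^ 2 ≤ Nat.card A₁ := by
      obtain ⟨k, hk⟩ := IsPGroup.iff_card.mp (hP.to_subgroup A₁)
      have hp1 : p < Nat.card A₁ := by
        rcases (Nat.dvd_prime hpp).mp hr with h1 | h1
        · rw [h1, mul_one] at hcard
          have : p < p ^ 2 := by
            calc p = p ^ 1 := (pow_one p).symm
              _ < p ^ 2 := Nat.pow_lt_pow_right hpp.one_lt (by norm_num)
          omega
        · rw [h1] at hcard
          by_contra hcon
          push Not at hcon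
          have : Nat.card ↥A₁ * p ≤ p * p := Nat.mul_le_mul_right p hcon
          have h4 : p ^ 2 = p * p := pow_two p
          omega
      rw [hk] at hp1 ⊢
      have : 1 < k := by
        by_contra hcon
        push Not at hcon
        have := Nat.pow_le_pow_right hpp.pos hcon
        rw [pow_one] at this
        omega
      exact Nat.pow_le_pow_right hpp.pos this
    have hcomm : ∀ a ∈ A₁, ∀ b ∈ hg.B, a * b = b * a := fun a ha b hb => comm_B hg ha.1 hb
    by_cases hEq : A₁ = hg.B
    · -- `U ≤ A`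
      apply crit _ A hAea hAcard
      intro a ha
      rw [Subgroup.mem_centralizer_iff]
      intro u hu
      have huA : u ∈ A := by
        have : u ∈ A₁ := by rw [hEq]; exact hu
        exact this.2
      exact congrArg Subtype.val (hAc.is_comm.comm (⟨u, huA⟩ : A) ⟨a, ha⟩)
    · apply crit _ (A₁ ⊔ hg.B) (sup_elemAb p A₁ hg.B hA₁ea hUea hcomm)
        (card_sup_gt hP A₁ hg.B hEq hA₁card (by rw [hg.card_B]))
      apply sup_le
      · intro a ha
        rw [Subgroup.mem_centralizer_iff]
        intro u hu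
        exact (hcomm a ha u hu).symm
      · intro a ha
        rw [Subgroup.mem_centralizer_iff]
        intro u hu
        exact hg.B_comm u hu a ha
  refine ⟨hg.B, hg.B_normal, hUea, hg.card_B, ?_⟩
  intro X hXea hXcard
  constructor
  · intro hchain
    induction hchain using Relation.ReflTransGen.head_induction_on with
    | refl => exact hU3
    | @head Y Y' hr _ ih =>
      obtain ⟨hYea, hYc, hY'ea, hY'c, hYY'⟩ := hr
      by_cases hEq : Y = Y'
      · rw [hEq]; exact ih hY'ea hY'c
      · apply crit Y (Y ⊔ Y') (sup_elemAb p Y Y' hYea hY'ea hYY')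
          (card_sup_gt hP Y Y' hEq hYc hY'c)
        have hc := (sup_elemAb p Y Y' hYea hY'ea hYY').1
        intro t ht
        rw [Subgroup.mem_centralizer_iff]
        intro y hy
        exact congrArg Subtype.val
          (hc.is_comm.comm (⟨y, Subgroup.mem_sup_left hy⟩ : ↥(Y ⊔ Y')) ⟨t, ht⟩)
  · intro hX3
    unfold Cfsg.PRankLE at hX3
    push Not at hX3
    obtain ⟨T', hT'c, hT'e, hT'card⟩ := hX3
    set T := T'.map (Subgroup.centralizer (X : Set P)).subtype with hT
    have hTcard : Nat.card T = Nat.card T' :=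
      Subgroup.card_map_of_injective (Subgroup.centralizer (X : Set P)).subtype_injective
    have hTea : Cfsg.IsElementaryAbelian p T := by
      refine ⟨⟨⟨fun x y => Subtype.ext ?_⟩⟩, ?_⟩
      · obtain ⟨x', hx', hx⟩ := x.2
        obtain ⟨y', hy', hy⟩ := y.2
        have := congrArg Subtype.val (hT'c.is_comm.comm (⟨x', hx'⟩ : T') ⟨y', hy'⟩)
        have h2 := congrArg (Subgroup.centralizer (X : Set P)).subtype this
        simp only [Subgroup.coe_mul, map_mul] at h2
        rw [hx, hy] at h2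
        exact h2
      · rintro a ⟨a', ha', rfl⟩
        have := hT'e a' ha'
        have h2 := congrArg (Subgroup.centralizer (X : Set P)).subtype this
        simpa using h2
    have hTX : ∀ a ∈ X, ∀ b ∈ T, a * b = b * a := by
      rintro a ha b ⟨b', _, rfl⟩
      exact Subgroup.mem_centralizer_iff.mp b'.2 a ha
    obtain ⟨r, hr, hcard⟩ := card_inf_centralizer hg T
    set T₁ := Subgroup.centralizer ({h} : Set P) ⊓ T with hT₁
    have hT₁ea : Cfsg.IsElementaryAbelian p T₁ := by
      refine ⟨⟨⟨fun x y => ?_⟩⟩, fun a ha => hTea.2 a ha.2⟩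
      have h0 := hTea.1.is_comm.comm (⟨x.1, x.2.2⟩ : T) ⟨y.1, y.2.2⟩
      have h2 : x.1 * y.1 = y.1 * x.1 := congrArg Subtype.val h0
      exact Subtype.ext h2
    have hT₁card : p ^ 2 ≤ Nat.card T₁ := by
      obtain ⟨k, hk⟩ := IsPGroup.iff_card.mp (hP.to_subgroup T₁)
      have hp1 : p < Nat.card T₁ := by
        rcases (Nat.dvd_prime hpp).mp hr with h1 | h1
        · rw [h1, mul_one] at hcard
          have : p < p ^ 2 := by
            calc p = p ^ 1 := (pow_one p).symm
              _ < p ^ 2 := Nat.pow_lt_pow_right hpp.one_lt (by norm_num)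
          omega
        · rw [h1] at hcard
          by_contra hcon
          push Not at hcon
          have : Nat.card ↥T₁ * p ≤ p * p := Nat.mul_le_mul_right p hcon
          have h4 : p ^ 2 = p * p := pow_two p
          omega
      rw [hk] at hp1 ⊢
      have : 1 < k := by
        by_contra hcon
        push Not at hcon
        have := Nat.pow_le_pow_right hpp.pos hcon
        rw [pow_one] at this
        omega
      exact Nat.pow_le_pow_right hpp.pos this
    have hTc2 : p ^ 2 ≤ Nat.card T := by omega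
    refine Relation.ReflTransGen.head ⟨hXea, hXcard, hTea, hTc2, hTX⟩ ?_
    refine Relation.ReflTransGen.head (b := T₁) ⟨hTea, hTc2, hT₁ea, hT₁card, ?_⟩ ?_
    · intro a ha b hb
      exact congrArg Subtype.val (hTea.1.is_comm.comm (⟨a, ha⟩ : T) ⟨b, hb.2⟩)
    · refine Relation.ReflTransGen.single ⟨hT₁ea, hT₁card, hUea, by rw [hg.card_B], ?_⟩
      intro a ha b hb
      exact comm_B hg ha.1 hb

end Cfsg.Agent.S1337
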