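import Cfsg.Statements.S1398
import Cfsg.Agent.Lib.Helper22_Uniq5

set_option autoImplicit false
open Cfsg

namespace Cfsg.Agent.S1398

open Subgroup Cfsg.Agent.Lib.Helper22_Uniq Cfsg.Agent.Lib.Helper22_BGTrans
  Cfsg.Agent.Lib.Helper84_RelSylow Cfsg.Agent.Lib.Helper22_Radical

/-- Bender--Glauberman Theorem 9.1 under hypothesis (b), in the form: every maximal subgroup containing `B` is `M`. -/
theorem main {G : Type*} [Group G] [Finite G] (hG : Cfsg.IsMinSimpleOddOrder G)
    (M : Subgroup G) (hM : IsCoatom M) (p : ℕ) [Fact p.Prime] (B : Subgroup G) (hBM : B ≤ M)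
    (hBe : Cfsg.IsElementaryAbelian p B) (hBnc : ¬ IsCyclic B)
    (h2 : ∀ Y : Subgroup G, B ≤ normalizer (Y : Set G) → ¬ p ∣ Nat.card Y → Y ≤ M) :
    ∀ H : Subgroup G, IsCoatom H → B ≤ H → H = M := by
  have hpp : p.Prime := Fact.out
  have hBp : IsPGroup p ↥B := isPGroup_of_isElementaryAbelian hBe
  have hB1 : B ≠ ⊥ := by
    rintro rfl
    exact hBnc inferInstance
  have hp2 : p ≠ 2 := two_ne_of_dvd_card hG (dvd_card_of_ne_bot hBp hB1)
  by_contra hcon
  push Not at hcon
  -- the set of counterexamples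
  set 𝒮 : Set (Subgroup G) := {H | IsCoatom H ∧ B ≤ H ∧ H ≠ M} with h𝒮
  have hfin : 𝒮.Finite := Set.toFinite _
  have hne : 𝒮.Nonempty := by
    obtain ⟨H, h1, h2, h3⟩ := hcon
    exact ⟨H, h1, h2, h3⟩
  obtain ⟨H, ⟨hH, hBH, hHM⟩, hmax⟩ := Set.exists_max_image 𝒮
    (fun H => (Nat.card ↥(H ⊓ M)).factorization p) hfin hne
  obtain ⟨R, hBR, hR⟩ := exists_isSylowIn_ge (p := p) (le_inf hBH hBM) hBp
  have hRM : R ≤ M := hR.le.trans inf_le_right
  have hRH : R ≤ H := hR.le.trans inf_le_left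
  obtain ⟨P, hRP, hP⟩ := exists_isSylowIn_ge (p := p) hRM hR.isPGroup
  have hR1 : R ≠ ⊥ := fun h => hB1 (le_bot_iff.mp (h ▸ hBR))
  have hP1 : P ≠ ⊥ := fun h => hR1 (le_bot_iff.mp (h ▸ hRP))
  have hMs : Group.IsSolvable ↥M := hG.2.2.2 M hM.1
  have hHs : Group.IsSolvable ↥H := hG.2.2.2 H hH.1
  have hK : ∀ Y : Subgroup G, P ≤ normalizer (Y : Set G) → ¬ p ∣ Nat.card Y → Y ≤ opp p M := by
    intro Y hPY hY
    have hYM : Y ≤ M := h2 Y ((hBR.trans hRP).trans hPY) hY
    exact le_opp_of_sylow_invariant hp2 hMs hP hYM hY hPY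
  by_cases hPR : P ≤ R
  · -- `R = P`
    have hPH : P ≤ H := hPR.trans hRH
    have := le_of_sylow_le hG hM hP hP1 hK hH.1 hPH
    exact hHM (eq_of_isCoatom_of_le hH hM.1 this)
  · -- `R < P`
    have hchar : ∀ C : Subgroup G, C ≠ ⊥ → C ≤ R → normalizer (R : Set G) ≤ normalizer (C : Set G) →
        normalizer (C : Set G) ≤ M := by
      intro C hC1 hCR hRC
      have hCtop : C ≠ ⊤ := by
        rintro rfl
        exact hM.1 (top_le_iff.mp (hCR.trans hRM))
      obtain ⟨L, hL, hCL⟩ := exists_isCoatom_ge (normalizer_ne_top hG hC1 hCtop)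
      by_contra hnot
      have hLM : L ≠ M := by
        rintro rfl
        exact hnot hCL
      have hBL : B ≤ L := ((hBR.trans le_normalizer).trans hRC).trans hCL
      have hle := hmax L ⟨hL, hBL, hLM⟩
      have hQle : normalizer (R : Set G) ⊓ P ≤ L ⊓ M := inf_le_inf (hRC.trans hCL) hP.le
      have hQp : IsPGroup p ↥(normalizer (R : Set G) ⊓ P) := hP.isPGroup.to_le inf_le_right
      have h1 := card_le_of_isPGroup hQle hQp
      have h3 : Nat.card ↥R < Nat.card ↥(normalizer (R : Set G) ⊓ P) :=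
        card_lt_card_of_lt (le_inf le_normalizer hRP) (normalizer_growth hpp hP.isPGroup hRP hPR)
      rw [card_eq_of_isSylowIn hR] at h3
      have h4 : p ^ (Nat.card ↥(L ⊓ M)).factorization p ≤ p ^ (Nat.card ↥(H ⊓ M)).factorization p :=
        Nat.pow_le_pow_right hpp.pos hle
      omega
    have hNR : normalizer (R : Set G) ≤ M := hchar R hR1 le_rfl le_rfl
    have hRsyl : IsSylowIn p R H := by
      obtain ⟨S', hRS', hS'⟩ := exists_isSylowIn_ge (p := p) hRH hR.isPGroup
      have hle : S' ≤ R := by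
        by_contra hnot
        apply normalizer_growth hpp hS'.isPGroup hRS' hnot
        have h1 : normalizer (R : Set G) ⊓ S' ≤ H ⊓ M := by
          rw [inf_comm H M]
          exact inf_le_inf hNR hS'.le
        have h2' : IsPGroup p ↥(normalizer (R : Set G) ⊓ S') := hS'.isPGroup.to_le inf_le_right
        exact (hR.eq_of_le (le_inf le_normalizer hRS') h1 h2').le
      have : S' = R := le_antisymm hle hRS'
      rwa [this] at hS'
    have h1 := puig_rel hp2 hHs (odd_card_subgroup hG H) hRsyl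
    have h3 : opp p H ≤ M := h2 _ (hBH.trans (le_normalizer_opp p H)) (not_dvd_card_opp p H)
    have h4 : normalizer ((zl R : Subgroup G) : Set G) ≤ M :=
      hchar (zl R) (zl_ne_bot hR.isPGroup hR1) (zl_le R) (normalizer_le_normalizer_zl R)
    have h5 : H ≤ M := h1.trans (sup_le h3 (inf_le_right.trans h4))
    exact hHM (eq_of_isCoatom_of_le hH hM.1 h5)

/-- Let G be a minimal simple group of odd order, M a maximal subgroup, p a prime, and B a noncyclic elementary abelian p-subgroup of M. If C_G(b) ≤ M for every non-identity b ∈ B, or if every subgroup of G of order coprime to p normalized by B is contained in M, then M is the only maximal subgroup of G containing B. -/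
theorem result {G : Type*} [Group G] [Finite G] (hG : Cfsg.IsMinSimpleOddOrder G)
    (M : Subgroup G) (hM : IsCoatom M) (p : ℕ) [Fact p.Prime] (B : Subgroup G) (hBM : B ≤ M)
    (hBe : Cfsg.IsElementaryAbelian p B) (hBnc : ¬ IsCyclic B)
    (h : (∀ b ∈ B, b ≠ 1 → Subgroup.centralizer ({b} : Set G) ≤ M) ∨
      ∀ Y ∈ Cfsg.invSubgroups ⊤ B (Cfsg.primesNotDvd p), Y ≤ M) :
    Cfsg.InUniqueMaximal B := by
  have hpp : p.Prime := Fact.out
  have h2 : ∀ Y : Subgroup G, B ≤ normalizer (Y : Set G) → ¬ p ∣ Nat.card Y → Y ≤ M := by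
    rcases h with h | h
    · intro Y hBY hY
      exact le_of_centralizers_le p hBe hBnc hY hBY h
    · intro Y hBY hY
      apply h Y
      refine ⟨le_top, ?_, hBY⟩
      intro q hq hqd
      refine ⟨hq, fun hqp => hY ?_⟩
      rwa [(Nat.prime_dvd_prime_iff_eq hq hpp).mp hqp] at hqd
  exact ⟨M, ⟨hM, hBM⟩, fun H hH => main hG M hM p B hBM hBe hBnc h2 H hH.1 hH.2⟩

end Cfsg.Agent.S1398
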