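import Cfsg.Statements.S1399
import Cfsg.Agent.S1398

set_option autoImplicit false
open Cfsg

namespace Cfsg.Agent.S1399

open Subgroup Cfsg.Agent.Lib.Helper22_Uniq Cfsg.Agent.Lib.Helper22_BGTrans
  Cfsg.Agent.Lib.Helper22_BGTransRank

/-- a minimal simple group has no unique maximal subgroup: the trivial subgroup is not a uniqueness subgroup -/
theorem ne_bot_of_inUniqueMaximal {G : Type*} [Group G] [Finite G] (hG : Cfsg.IsMinSimpleOddOrder G)
    {L : Subgroup G} (hL : Cfsg.InUniqueMaximal L) : L ≠ ⊥ := by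
  rintro rfl
  obtain ⟨M, ⟨hM, -⟩, hMuniq⟩ := hL
  obtain ⟨g, hg⟩ : ∃ g, g ∉ M := by
    by_contra h
    push Not at h
    exact hM.1 (eq_top_iff.mpr fun x _ => h x)
  have hz : zpowers g ≠ ⊤ := by
    intro h
    apply hG.2.2.1
    have hc : IsCyclic G := ⟨⟨g, fun x => by
      have : x ∈ zpowers g := h ▸ mem_top x
      exact this⟩⟩
    refine ⟨⟨fun a b => ?_⟩⟩
    obtain ⟨g', hg'⟩ := hc.exists_generator
    obtain ⟨m, rfl⟩ := hg' a
    obtain ⟨n, rfl⟩ := hg' b
    exact (Commute.zpow_zpow_self g' m n).eq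
  obtain ⟨L', hL', hgL'⟩ := exists_isCoatom_ge hz
  have := hMuniq L' ⟨hL', bot_le⟩
  exact hg (this ▸ hgL' (mem_zpowers g))

/-- Let G be a minimal simple group of odd order, L a subgroup contained in exactly one maximal subgroup of G, and K a subgroup of C_G(L) having, for some prime p, an elementary abelian subgroup of order p ^ 2. Then K is contained in exactly one maximal subgroup of G. -/
theorem result {G : Type*} [Group G] [Finite G] (hG : Cfsg.IsMinSimpleOddOrder G)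
    (L K : Subgroup G) (hL : Cfsg.InUniqueMaximal L) (hK : K ≤ Subgroup.centralizer (L : Set G)) (hKr : ¬ Cfsg.RankLE 1 K) :
    Cfsg.InUniqueMaximal K := by
  have hLbot : L ≠ ⊥ := ne_bot_of_inUniqueMaximal hG hL
  obtain ⟨M, ⟨hM, hLM⟩, hMuniq⟩ := hL
  obtain ⟨p, hp, E, hEK, hEc, hEe, hEcard⟩ := exists_elemAb_of_not_rankLE hKr
  have : Fact p.Prime := ⟨hp⟩
  have hLtop : L ≠ ⊤ := by
    rintro rfl
    exact hM.1 (top_le_iff.mp hLM)
  have hNL : normalizer (L : Set G) ≤ M := by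
    obtain ⟨L', hL', hNL'⟩ := exists_isCoatom_ge (normalizer_ne_top hG hLbot hLtop)
    have := hMuniq L' ⟨hL', le_normalizer.trans hNL'⟩
    exact this ▸ hNL'
  have hKM : K ≤ M := hK.trans ((centralizer_le_normalizer _).trans hNL)
  have hcent : ∀ b ∈ E, b ≠ 1 → centralizer ({b} : Set G) ≤ M := by
    intro b hb hb1
    obtain ⟨L', hL', hCL'⟩ := exists_isCoatom_ge (centralizer_singleton_ne_top hG hb1)
    have hLC : L ≤ centralizer ({b} : Set G) := le_centralizer_singleton (hK (hEK hb))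
    have := hMuniq L' ⟨hL', hLC.trans hCL'⟩
    exact this ▸ hCL'
  have hBe : Cfsg.IsElementaryAbelian p E := by
    refine ⟨⟨⟨fun a b => ?_⟩⟩, hEe⟩
    apply Subtype.ext
    exact hEc a.1 a.2 b.1 b.2
  have hBnc : ¬ IsCyclic E := by
    intro hc
    have h1 : Nat.card ↥E ≤ p := card_le_of_isCyclic hc (fun x => by
      apply Subtype.ext
      rw [Subgroup.coe_pow]
      exact hEe x.1 x.2)
    rw [pow_one] at hEcard
    omega
  obtain ⟨M', ⟨-, -⟩, hM'uniq⟩ :=
    Cfsg.Agent.S1398.result hG M hM p E (hEK.trans hKM) hBe hBnc (Or.inl hcent)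
  have hMM' : M = M' := hM'uniq M ⟨hM, hEK.trans hKM⟩
  refine ⟨M, ⟨hM, hKM⟩, fun H hH => ?_⟩
  have h1 := hM'uniq H ⟨hH.1, hEK.trans hH.2⟩
  rw [h1, hMM']

end Cfsg.Agent.S1399
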