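import Cfsg.Statements.S0025
import Cfsg.Agent.Lib.Helper24_CoprimeAction

set_option autoImplicit false
open Cfsg
open Cfsg.Agent.Lib.Helper24_CoprimeAction

namespace Cfsg.Agent.S0025

/-- Under coprime action (A normalising K, coprime orders, A or K solvable), an A-invariant p-subgroup of K is contained in an A-invariant Sylow p-subgroup of K. -/
theorem result {G : Type*} [Group G] [Finite G] (A K : Subgroup G) (hAK : A ≤ Subgroup.normalizer (K : Set G))
    (hcop : (Nat.card A).Coprime (Nat.card K)) (hsolv : Group.IsSolvable A ∨ Group.IsSolvable K)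
    (p : ℕ) [Fact p.Prime] (U : Subgroup G) (hUK : U ≤ K) (hU : IsPGroup p U) (hUA : A ≤ Subgroup.normalizer (U : Set G)) :
    ∃ P : Sylow p K, U ≤ (P : Subgroup K).map K.subtype ∧ A ≤ Subgroup.normalizer ((P : Subgroup K).map K.subtype : Set G) := by
  classical
  have hp : p.Prime := Fact.out
  set 𝒮 : Set (Subgroup G) :=
    {S | U ≤ S ∧ S ≤ K ∧ IsPGroup p S ∧ A ≤ Subgroup.normalizer (S : Set G)} with h𝒮
  have hfin : 𝒮.Finite := Set.toFinite _
  obtain ⟨S, hUS', hmax⟩ := hfin.exists_le_maximal (a := U) ⟨le_rfl, hUK, hU, hUA⟩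
  obtain ⟨⟨hUS, hSK, hSp, hSA⟩, hSmax⟩ := hmax
  -- `N := N_K(S)`
  set N : Subgroup G := K ⊓ Subgroup.normalizer (S : Set G) with hN
  have hAN : A ≤ Subgroup.normalizer (N : Set G) :=
    (le_inf hAK (hSA.trans Subgroup.le_normalizer)).trans
      Subgroup.inf_normalizer_le_normalizer_inf
  have hNK : N ≤ K := inf_le_left
  have hcopN : (Nat.card A).Coprime (Nat.card N) :=
    Nat.Coprime.coprime_dvd_right (Subgroup.card_dvd_of_le hNK) hcop
  have hsolvN : Group.IsSolvable A ∨ Group.IsSolvable N := hsolv.imp id (isSolvable_of_le hNK)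
  obtain ⟨R₀, hR₀⟩ := exists_invariant_sylow A N hAN hcopN hsolvN p
  have hSN : S ≤ N := le_inf hSK Subgroup.le_normalizer
  have hnorm : (S.subgroupOf N).Normal :=
    (Subgroup.normal_subgroupOf_iff_le_normalizer hSN).mpr inf_le_right
  have hSpN : IsPGroup p (S.subgroupOf N) := hSp.comap_subtype
  have hSR₀ : S.subgroupOf N ≤ R₀ := hSpN.le_sylow_of_normal R₀
  have hSR : S ≤ sylowImage R₀ := by
    intro s hs
    exact ⟨⟨s, hSN hs⟩, hSR₀ (Subgroup.mem_subgroupOf.mpr hs), rfl⟩
  have hRN : sylowImage R₀ ≤ N := by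
    rintro _ ⟨x, _, rfl⟩
    exact x.2
  have hRp : IsPGroup p (sylowImage R₀) := R₀.isPGroup'.map _
  have hRmem : sylowImage R₀ ∈ 𝒮 := ⟨hUS.trans hSR, hRN.trans hNK, hRp, hR₀⟩
  have hRS : sylowImage R₀ ≤ S := hSmax hRmem hSR
  have hSeq : S = sylowImage R₀ := le_antisymm hSR hRS
  -- cardinalities
  set n := (Nat.card N).factorization p with hn
  have hcardR₀ : Nat.card R₀ = p ^ n := R₀.card_eq_multiplicity
  have hcardS : Nat.card S = p ^ n := by
    rw [hSeq, ← hcardR₀]
    exact Nat.card_congr (Subgroup.equivMapOfInjective _ _ N.subtype_injective).symm.toEquiv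
  have hcardSK : Nat.card (S.subgroupOf K) = p ^ n := by
    rw [card_subgroupOf_of_le hSK, hcardS]
  -- `p^(n+1) ∤ |K|`
  have hnd : ¬ p ^ (n + 1) ∣ Nat.card K := by
    intro hdvd
    have h1 := Sylow.prime_pow_dvd_card_normalizer (G := K) hdvd hcardSK
    rw [← Subgroup.subgroupOf_normalizer_eq hSK] at h1
    have h2 : Nat.card ((Subgroup.normalizer (S : Set G)).subgroupOf K) = Nat.card N := by
      rw [hN, inf_comm, ← card_subgroupOf_of_le (inf_le_right : Subgroup.normalizer (S : Set G) ⊓ K ≤ K),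
        Subgroup.inf_subgroupOf_right]
    rw [h2] at h1
    exact Nat.pow_succ_factorization_not_dvd Nat.card_pos.ne' hp h1
  have hfac : (Nat.card K).factorization p = n := by
    apply le_antisymm
    · by_contra hlt
      rw [not_le] at hlt
      exact hnd ((pow_dvd_pow p hlt).trans (Nat.ordProj_dvd _ p))
    · have : p ^ n ∣ Nat.card K := by
        rw [← hcardS]; exact Subgroup.card_dvd_of_le hSK
      exact (hp.pow_dvd_iff_le_factorization Nat.card_pos.ne').mp this
  refine ⟨Sylow.ofCard (S.subgroupOf K) (by rw [hcardSK, hfac]), ?_, ?_⟩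
  · rw [Sylow.coe_ofCard, Subgroup.subgroupOf_map_subtype, inf_eq_left.mpr hSK]
    exact hUS
  · rw [Sylow.coe_ofCard, Subgroup.subgroupOf_map_subtype, inf_eq_left.mpr hSK]
    exact hSA

end Cfsg.Agent.S0025
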