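import Cfsg.Statements.S1467

set_option autoImplicit false
open Cfsg

namespace Cfsg.Agent.S1467

variable {G : Type*} [Group G]

theorem puigStep_anti {X Y : Subgroup G} (h : X ≤ Y) : Cfsg.puigStep Y ≤ Cfsg.puigStep X := by
  unfold Cfsg.puigStep
  apply sSup_le_sSup
  intro A hA
  exact ⟨hA.1, h.trans hA.2⟩

theorem seq_zero : Cfsg.puigSeq G 0 = ⊥ := rfl

theorem seq_succ (n : ℕ) : Cfsg.puigSeq G (n + 1) = Cfsg.puigStep (Cfsg.puigSeq G n) := rfl

theorem seq_one : Cfsg.puigSeq G 1 = ⊤ := by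
  rw [seq_succ, seq_zero]
  rw [eq_top_iff]
  intro g _
  unfold Cfsg.puigStep
  have hmem : Subgroup.zpowers g ∈ {A : Subgroup G | IsMulCommutative A ∧ (⊥ : Subgroup G) ≤ Subgroup.normalizer (A : Set G)} := by
    refine ⟨?_, bot_le⟩
    infer_instance
  exact (le_sSup hmem) (Subgroup.mem_zpowers g)

/-- Key comparison: even terms are below all later terms, odd terms are above all later terms. -/
theorem key (n : ℕ) : (∀ j, 2 * n ≤ j → Cfsg.puigSeq G (2 * n) ≤ Cfsg.puigSeq G j) ∧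
    (∀ j, 2 * n + 1 ≤ j → Cfsg.puigSeq G j ≤ Cfsg.puigSeq G (2 * n + 1)) := by
  induction n with
  | zero =>
    have h0 : ∀ j, 2 * 0 ≤ j → Cfsg.puigSeq G (2 * 0) ≤ Cfsg.puigSeq G j := by
      intro j _
      simp [seq_zero]
    refine ⟨h0, ?_⟩
    intro j _
    have : Cfsg.puigSeq G (2 * 0 + 1) = ⊤ := seq_one
    rw [this]
    exact le_top
  | succ n ih =>
    obtain ⟨_, ih2⟩ := ih
    have h1 : ∀ j, 2 * (n + 1) ≤ j → Cfsg.puigSeq G (2 * (n + 1)) ≤ Cfsg.puigSeq G j := by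
      intro j hj
      obtain ⟨i, rfl⟩ : ∃ i, j = i + 1 := ⟨j - 1, by omega⟩
      have e : 2 * (n + 1) = (2 * n + 1) + 1 := by ring
      rw [e, seq_succ, seq_succ]
      apply puigStep_anti
      apply ih2
      omega
    refine ⟨h1, ?_⟩
    intro j hj
    obtain ⟨i, rfl⟩ : ∃ i, j = i + 1 := ⟨j - 1, by omega⟩
    rw [seq_succ, seq_succ]
    apply puigStep_anti
    apply h1
    omega

theorem even_mono : Monotone (fun n => Cfsg.puigSeq G (2 * n)) := by
  apply monotone_nat_of_le_succ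
  intro n
  exact (key n).1 _ (by omega)

theorem odd_anti : Antitone (fun n => Cfsg.puigSeq G (2 * n + 1)) := by
  apply antitone_nat_of_succ_le
  intro n
  exact (key n).2 _ (by omega)

theorem even_le_odd (n m : ℕ) : Cfsg.puigSeq G (2 * n) ≤ Cfsg.puigSeq G (2 * m + 1) := by
  rcases le_or_gt (2 * n) (2 * m + 1) with h | h
  · exact (key n).1 _ h
  · exact (key m).2 _ (by omega)

theorem result {G : Type*} [Group G] [Finite G] :
    Cfsg.puigSeq G 0 = ⊥ ∧ Cfsg.puigSeq G 1 = ⊤ ∧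
      (∀ n m : ℕ, Cfsg.puigSeq G (2 * n) ≤ Cfsg.puigSeq G (2 * n + 2) ∧ Cfsg.puigSeq G (2 * n) ≤ Cfsg.puigSeq G (2 * m + 1) ∧
        Cfsg.puigSeq G (2 * m + 3) ≤ Cfsg.puigSeq G (2 * m + 1)) ∧
      (∃ k : ℕ, ∀ n : ℕ, k ≤ n → Cfsg.puigSeq G (2 * n) = Cfsg.puigLower G ∧ Cfsg.puigSeq G (2 * n + 1) = Cfsg.puigSubgroup G) ∧
      Cfsg.puigLower G ≤ Cfsg.puigSubgroup G ∧
      Cfsg.puigStep (Cfsg.puigLower G) = Cfsg.puigSubgroup G ∧ Cfsg.puigStep (Cfsg.puigSubgroup G) = Cfsg.puigLower G := by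
  have hstab : ∃ k : ℕ, ∀ n : ℕ, k ≤ n → Cfsg.puigSeq G (2 * n) = Cfsg.puigLower G ∧ Cfsg.puigSeq G (2 * n + 1) = Cfsg.puigSubgroup G := by
    -- the increasing chain of even terms stabilizes
    obtain ⟨k, hk⟩ := (WellFoundedGT.monotone_chain_condition (α := Subgroup G))
      ⟨fun n => Cfsg.puigSeq G (2 * n), even_mono⟩
    have hk' : ∀ n, k ≤ n → Cfsg.puigSeq G (2 * k) = Cfsg.puigSeq G (2 * n) := hk
    have hlow : Cfsg.puigLower G = Cfsg.puigSeq G (2 * k) := by
      unfold Cfsg.puigLower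
      apply le_antisymm
      · apply iSup_le
        intro n
        rcases le_total n k with h | h
        · exact even_mono h
        · exact (hk' n h).ge
      · exact le_iSup (fun n => Cfsg.puigSeq G (2 * n)) k
    have hodd : ∀ n, k ≤ n → Cfsg.puigSeq G (2 * n + 1) = Cfsg.puigSeq G (2 * k + 1) := by
      intro n hn
      rw [seq_succ, seq_succ, hk' n hn]
    have hup : Cfsg.puigSubgroup G = Cfsg.puigSeq G (2 * k + 1) := by
      unfold Cfsg.puigSubgroup
      apply le_antisymm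
      · exact iInf_le (fun n => Cfsg.puigSeq G (2 * n + 1)) k
      · apply le_iInf
        intro n
        rcases le_total n k with h | h
        · exact odd_anti h
        · exact (hodd n h).ge
    refine ⟨k, fun n hn => ⟨?_, ?_⟩⟩
    · rw [hlow, hk' n hn]
    · rw [hup, hodd n hn]
  refine ⟨seq_zero, seq_one, ?_, hstab, ?_, ?_, ?_⟩
  · intro n m
    refine ⟨?_, even_le_odd n m, ?_⟩
    · exact (key n).1 _ (by omega)
    · exact (key m).2 _ (by omega)
  · unfold Cfsg.puigLower Cfsg.puigSubgroup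
    apply iSup_le
    intro n
    apply le_iInf
    intro m
    exact even_le_odd n m
  · obtain ⟨k, hk⟩ := hstab
    rw [← (hk k le_rfl).1, ← (hk k le_rfl).2]
    rfl
  · obtain ⟨k, hk⟩ := hstab
    rw [← (hk k le_rfl).2, ← (hk (k + 1) (by omega)).1]
    rfl

end Cfsg.Agent.S1467
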