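import Cfsg.Statements.S1466

set_option autoImplicit false
open Cfsg

namespace Cfsg.Agent.S1466

open MulAction

/-- A nontrivial normal subgroup of a finite `p`-group contains a nontrivial central element. -/
theorem exists_mem_center_of_normal {G : Type*} [Group G] [Finite G] {p : ℕ} [Fact p.Prime]
    (hG : IsPGroup p G) (N : Subgroup G) [N.Normal] (hN : N ≠ ⊥) :
    ∃ z ∈ N, z ∈ Subgroup.center G ∧ z ≠ 1 := by
  have hGc : IsPGroup p (ConjAct G) := hG.of_equiv ConjAct.toConjAct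
  have hNp : IsPGroup p N := hG.to_subgroup N
  have hdvd : p ∣ Nat.card N := by
    have : Nontrivial N := (Subgroup.nontrivial_iff_ne_bot N).mpr hN
    obtain ⟨n, hn0, hn⟩ := hNp.nontrivial_iff_card.mp this
    exact hn.symm ▸ dvd_pow_self _ (ne_of_gt hn0)
  have h1 : (1 : N) ∈ fixedPoints (ConjAct G) N := by
    intro g
    exact smul_one g
  obtain ⟨b, hb, hb1⟩ := hGc.exists_fixed_point_of_prime_dvd_card_of_fixed_point N hdvd h1
  refine ⟨b.1, b.2, ?_, ?_⟩
  · rw [Subgroup.mem_center_iff]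
    intro g
    have := hb (ConjAct.toConjAct g)
    have h2 := congrArg Subtype.val this
    rw [ConjAct.Subgroup.val_conj_smul, ConjAct.smul_def] at h2
    simp only [ConjAct.ofConjAct_toConjAct] at h2
    calc g * b.1 = g * b.1 * g⁻¹ * g := by group
      _ = b.1 * g := by rw [h2]
  · intro h
    exact hb1 (Subtype.ext h.symm)

/-- In a finite `p`-group there is a normal abelian subgroup containing its own centralizer. -/
theorem exists_selfcentralizing {R : Type*} [Group R] [Finite R] (p : ℕ) [Fact p.Prime]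
    (hR : IsPGroup p R) :
    ∃ A : Subgroup R, A.Normal ∧ IsMulCommutative A ∧ Subgroup.centralizer (A : Set R) ≤ A := by
  classical
  let S : Set (Subgroup R) := {A | A.Normal ∧ IsMulCommutative A}
  have hSfin : S.Finite := Set.toFinite S
  have hSne : S.Nonempty := ⟨⊥, inferInstance, inferInstance⟩
  obtain ⟨A, hAmax⟩ := hSfin.exists_maximal hSne
  obtain ⟨⟨hAn, hAc⟩, hmax⟩ := hAmax
  refine ⟨A, hAn, hAc, ?_⟩
  by_contra hnot
  have := hAn
  have := hAc
  -- the centralizer C is normal and not inside A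
  let C : Subgroup R := Subgroup.centralizer (A : Set R)
  let π := QuotientGroup.mk' A
  have hRq : IsPGroup p (R ⧸ A) := hR.to_quotient A
  let N : Subgroup (R ⧸ A) := C.map π
  have hNn : N.Normal := Subgroup.Normal.map inferInstance π (QuotientGroup.mk'_surjective A)
  have hNne : N ≠ ⊥ := by
    intro hN
    apply hnot
    intro c hc
    have : π c ∈ N := Subgroup.mem_map_of_mem π hc
    rw [hN, Subgroup.mem_bot] at this
    exact (QuotientGroup.eq_one_iff c).mp this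
  obtain ⟨z, hzN, hzc, hz1⟩ := exists_mem_center_of_normal hRq N hNne
  obtain ⟨x, hxC, rfl⟩ := hzN
  have hxA : x ∉ A := fun h => hz1 ((QuotientGroup.eq_one_iff x).mpr h)
  -- B = preimage of ⟨π x⟩
  have hZn : (Subgroup.zpowers (π x)).Normal := by
    constructor
    intro n hn g
    have hnc : n ∈ Subgroup.center (R ⧸ A) := (Subgroup.zpowers_le.mpr hzc) hn
    have h1 := Subgroup.mem_center_iff.mp hnc g
    rw [h1, mul_inv_cancel_right]
    exact hn
  let B : Subgroup R := (Subgroup.zpowers (π x)).comap π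
  have hBn : B.Normal := Subgroup.Normal.comap hZn π
  have hxcomm : ∀ (k : ℤ), ∀ a ∈ A, a * x ^ k = x ^ k * a := by
    intro k a ha
    have hxk : x ^ k ∈ C := C.zpow_mem hxC k
    exact (Subgroup.mem_centralizer_iff.mp hxk) a ha
  have hBform : ∀ b ∈ B, ∃ k : ℤ, ∃ a ∈ A, b = x ^ k * a := by
    intro b hb
    obtain ⟨k, hk⟩ := Subgroup.mem_zpowers_iff.mp (Subgroup.mem_comap.mp hb)
    refine ⟨k, (x ^ k)⁻¹ * b, ?_, by group⟩
    rw [← QuotientGroup.eq]
    show π (x ^ k) = π b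
    rw [map_zpow, hk]
  have hBc : IsMulCommutative B := by
    refine ⟨⟨?_⟩⟩
    rintro ⟨b₁, hb₁⟩ ⟨b₂, hb₂⟩
    apply Subtype.ext
    obtain ⟨k₁, a₁, ha₁, rfl⟩ := hBform b₁ hb₁
    obtain ⟨k₂, a₂, ha₂, rfl⟩ := hBform b₂ hb₂
    show x ^ k₁ * a₁ * (x ^ k₂ * a₂) = x ^ k₂ * a₂ * (x ^ k₁ * a₁)
    have e1 : a₁ * x ^ k₂ = x ^ k₂ * a₁ := hxcomm k₂ a₁ ha₁
    have e2 : a₂ * x ^ k₁ = x ^ k₁ * a₂ := hxcomm k₁ a₂ ha₂
    have e3 : a₁ * a₂ = a₂ * a₁ := by
      have := mul_comm' (⟨a₁, ha₁⟩ : A) ⟨a₂, ha₂⟩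
      exact congrArg Subtype.val this
    have e4 : x ^ k₁ * x ^ k₂ = x ^ k₂ * x ^ k₁ := by
      rw [← zpow_add, ← zpow_add, add_comm]
    calc x ^ k₁ * a₁ * (x ^ k₂ * a₂) = x ^ k₁ * (a₁ * x ^ k₂) * a₂ := by group
      _ = x ^ k₁ * (x ^ k₂ * a₁) * a₂ := by rw [e1]
      _ = (x ^ k₁ * x ^ k₂) * (a₁ * a₂) := by group
      _ = (x ^ k₂ * x ^ k₁) * (a₂ * a₁) := by rw [e4, e3]
      _ = x ^ k₂ * (x ^ k₁ * a₂) * a₁ := by group
      _ = x ^ k₂ * (a₂ * x ^ k₁) * a₁ := by rw [e2]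
      _ = x ^ k₂ * a₂ * (x ^ k₁ * a₁) := by group
  have hAB : A ≤ B := by
    intro a ha
    show π a ∈ Subgroup.zpowers (π x)
    have : π a = 1 := (QuotientGroup.eq_one_iff a).mpr ha
    rw [this]
    exact Subgroup.one_mem _
  have hBS : B ∈ S := ⟨hBn, hBc⟩
  have hBA : B ≤ A := hmax hBS hAB
  have hxB : x ∈ B := by
    show π x ∈ Subgroup.zpowers (π x)
    exact Subgroup.mem_zpowers _
  exact hxA (hBA hxB)

theorem seq_succ {G : Type*} [Group G] (n : ℕ) :
    Cfsg.puigSeq G (n + 1) = Cfsg.puigStep (Cfsg.puigSeq G n) := rfl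

theorem le_puigStep {G : Type*} [Group G] (A X : Subgroup G) [hA : A.Normal] [hc : IsMulCommutative A] :
    A ≤ Cfsg.puigStep X := by
  unfold Cfsg.puigStep
  apply le_sSup
  refine ⟨hc, ?_⟩
  rw [Subgroup.normalizer_eq_top_iff.mpr hA]
  exact le_top

theorem result {R : Type*} [Group R] [Finite R] (p : ℕ) [Fact p.Prime] (hR : IsPGroup p R) [Nontrivial R] :
    (∀ i : ℕ, 0 < i → Subgroup.center R ≤ Subgroup.centralizer ((Cfsg.puigSeq R i : Subgroup R) : Set R) ∧
        Subgroup.centralizer ((Cfsg.puigSeq R i : Subgroup R) : Set R) ≤ Cfsg.puigSeq R i) ∧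
      (Subgroup.center R ≤ Subgroup.centralizer ((Cfsg.puigLower R : Subgroup R) : Set R) ∧ Subgroup.centralizer ((Cfsg.puigLower R : Subgroup R) : Set R) ≤ Cfsg.puigLower R) ∧
      (Subgroup.center R ≤ Subgroup.centralizer ((Cfsg.puigSubgroup R : Subgroup R) : Set R) ∧ Subgroup.centralizer ((Cfsg.puigSubgroup R : Subgroup R) : Set R) ≤ Cfsg.puigSubgroup R) ∧
      Cfsg.puigSubgroup R ≠ ⊥ ∧ Cfsg.puigLower R ≠ ⊥ := by
  obtain ⟨A, hAn, hAc, hCA⟩ := exists_selfcentralizing p hR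
  have := hAn
  have := hAc
  have hAne : A ≠ ⊥ := by
    intro hA
    rw [hA] at hCA
    have htop : (⊤ : Subgroup R) ≤ ⊥ := by
      refine le_trans ?_ hCA
      intro g _
      rw [Subgroup.mem_centralizer_iff]
      intro h hh
      have : h = 1 := by simpa using hh
      rw [this]; simp
    obtain ⟨x, hx⟩ := exists_ne (1 : R)
    exact hx (by simpa using htop (Subgroup.mem_top x))
  have hseq : ∀ i : ℕ, 0 < i → A ≤ Cfsg.puigSeq R i := by
    intro i hi
    obtain ⟨j, rfl⟩ : ∃ j, i = j + 1 := ⟨i - 1, by omega⟩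
    rw [seq_succ]
    exact le_puigStep A _
  have hgen : ∀ L : Subgroup R, A ≤ L → Subgroup.center R ≤ Subgroup.centralizer (L : Set R) ∧
      Subgroup.centralizer (L : Set R) ≤ L := by
    intro L hAL
    refine ⟨Subgroup.center_le_centralizer _, ?_⟩
    exact le_trans (le_trans (Subgroup.centralizer_le (by exact_mod_cast hAL)) hCA) hAL
  have hlow : A ≤ Cfsg.puigLower R := by
    unfold Cfsg.puigLower
    exact le_trans (hseq (2 * 1) (by norm_num)) (le_iSup (fun n => Cfsg.puigSeq R (2 * n)) 1)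
  have hup : A ≤ Cfsg.puigSubgroup R := by
    unfold Cfsg.puigSubgroup
    apply le_iInf
    intro n
    exact hseq _ (by omega)
  refine ⟨fun i hi => hgen _ (hseq i hi), hgen _ hlow, hgen _ hup, ?_, ?_⟩
  · intro h
    rw [h] at hup
    exact hAne (le_bot_iff.mp hup)
  · intro h
    rw [h] at hlow
    exact hAne (le_bot_iff.mp hlow)

end Cfsg.Agent.S1466
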