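import Cfsg.Statements.S4387

set_option autoImplicit false
open Cfsg

namespace Cfsg.Agent.S4387

open scoped Pointwise

/-- A finite group is not the union of the conjugates of a proper subgroup. -/
theorem exists_not_mem_conj {G : Type*} [Group G] [Finite G] (H : Subgroup G) (hH : H ≠ ⊤) :
    ∃ g : G, ∀ x : G, g ∉ MulAut.conj x • H := by
  classical
  by_contra hcon
  push Not at hcon
  -- the surjection
  let f : (G ⧸ H) × {h : H // h ≠ 1} ⊕ Unit → G := fun t =>
    match t with
    | Sum.inl (q, h) => q.out * (h.1 : G) * (q.out)⁻¹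
    | Sum.inr _ => 1
  have hf : Function.Surjective f := by
    intro g
    by_cases hg : g = 1
    · exact ⟨Sum.inr (), hg.symm⟩
    · obtain ⟨x, hx⟩ := hcon g
      rw [Subgroup.mem_pointwise_smul_iff_inv_smul_mem] at hx
      -- x⁻¹ g x ∈ H
      have hx' : x⁻¹ * g * x ∈ H := by simpa [MulAut.smul_def, MulAut.conj_apply] using hx
      set q : G ⧸ H := (x : G ⧸ H) with hq
      have hr : (q.out)⁻¹ * x ∈ H := by
        have : ((q.out : G) : G ⧸ H) = (x : G ⧸ H) := q.out_eq'
        exact QuotientGroup.eq.1 this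
      set k := (q.out)⁻¹ * x with hk
      have hkh : k * (x⁻¹ * g * x) * k⁻¹ ∈ H := H.mul_mem (H.mul_mem hr hx') (H.inv_mem hr)
      have hne : (⟨k * (x⁻¹ * g * x) * k⁻¹, hkh⟩ : H) ≠ 1 := by
        intro h1
        have h2 : k * (x⁻¹ * g * x) * k⁻¹ = 1 := congrArg Subtype.val h1
        have h3 : x⁻¹ * g * x = 1 := by
          have := congrArg (fun t => k⁻¹ * t * k) h2
          simpa [mul_assoc] using this
        have h4 : g = 1 := by
          have := congrArg (fun t => x * t * x⁻¹) h3
          simpa [mul_assoc] using this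
        exact hg h4
      refine ⟨Sum.inl (q, ⟨⟨k * (x⁻¹ * g * x) * k⁻¹, hkh⟩, hne⟩), ?_⟩
      change q.out * (k * (x⁻¹ * g * x) * k⁻¹) * (q.out)⁻¹ = g
      rw [hk]
      group
  have hcard := Nat.card_le_card_of_surjective f hf
  have h1 : Nat.card ((G ⧸ H) × {h : H // h ≠ 1} ⊕ Unit) = H.index * (Nat.card H - 1) + 1 := by
    have hU : Nat.card Unit = 1 := by simp
    rw [Nat.card_sum, Nat.card_prod, hU]
    congr 2
    have : Nat.card {h : H // h ≠ 1} + 1 = Nat.card H := by
      have e : {h : H // h ≠ 1} ⊕ Unit ≃ H :=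
        { toFun := fun t => match t with
            | Sum.inl h => h.1
            | Sum.inr _ => 1
          invFun := fun h => if hh : h = 1 then Sum.inr () else Sum.inl ⟨h, hh⟩
          left_inv := by
            intro t
            match t with
            | Sum.inl h => simp [h.2]
            | Sum.inr _ => simp
          right_inv := by
            intro h
            by_cases hh : h = 1
            · simp [hh]
            · simp [hh] }
      rw [← Nat.card_congr e, Nat.card_sum, hU]
    omega
  have h2 : Nat.card G = H.index * Nat.card H := by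
    rw [mul_comm]; exact (Subgroup.card_mul_index H).symm
  have hidx : 2 ≤ H.index := by
    have h0 : H.index ≠ 0 := Subgroup.index_ne_zero_of_finite
    have h1' : H.index ≠ 1 := fun h => hH (Subgroup.index_eq_one.1 h)
    omega
  have hHpos : 1 ≤ Nat.card H := Nat.card_pos
  rw [h1, h2] at hcard
  have : H.index * Nat.card H = H.index * (Nat.card H - 1) + H.index := by
    have : Nat.card H = (Nat.card H - 1) + 1 := by omega
    nth_rewrite 1 [this]
    ring
  omega

/-- In a cyclic group generated by `g`, `zpowers (g ^ p)` has index `p` for `p ∣ orderOf g`. -/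
lemma coatom_of_prime_dvd {G : Type*} [Group G] [Finite G] (g : G) (hg : Subgroup.zpowers g = ⊤)
    (p : ℕ) (hp : p.Prime) (hpn : p ∣ Nat.card G) :
    IsCoatom (Subgroup.zpowers (g ^ p)) ∧ Nat.card (Subgroup.zpowers (g ^ p)) * p = Nat.card G := by
  have hord : orderOf g = Nat.card G := by
    rw [← Nat.card_zpowers, hg, Subgroup.card_top]
  have hcard : Nat.card (Subgroup.zpowers (g ^ p)) * p = Nat.card G := by
    rw [Nat.card_zpowers, orderOf_pow, hord, Nat.gcd_eq_right hpn]
    exact Nat.div_mul_cancel hpn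
  refine ⟨?_, hcard⟩
  have hGpos : 0 < Nat.card G := Nat.card_pos
  have hidx : (Subgroup.zpowers (g ^ p)).index = p := by
    have h1 := Subgroup.card_mul_index (Subgroup.zpowers (g ^ p))
    have hpos : 0 < Nat.card (Subgroup.zpowers (g ^ p)) := Nat.card_pos
    rw [← hcard] at h1
    exact Nat.eq_of_mul_eq_mul_left hpos h1
  constructor
  · intro htop
    rw [htop, Subgroup.index_top] at hidx
    exact hp.one_lt.ne hidx
  · intro K hK
    have h1 := Subgroup.relIndex_mul_index hK.le
    rw [hidx] at h1
    have hKdvd : K.index ∣ p := Dvd.intro_left _ h1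
    rcases (Nat.dvd_prime hp).1 hKdvd with h | h
    · exact Subgroup.index_eq_one.1 h
    · exfalso
      rw [h] at h1
      have hrel : (Subgroup.zpowers (g ^ p)).relIndex K = 1 := by
        have hp0 : 0 < p := hp.pos
        exact Nat.eq_of_mul_eq_mul_right hp0 (by rw [h1, one_mul])
      have := Subgroup.relIndex_eq_one.1 hrel
      exact (not_le_of_gt hK) this

/-- Let G be a non-trivial finite group in which any two maximal subgroups are conjugate. Then G is cyclic of prime-power order. -/
theorem result {G : Type*} [Group G] [Finite G] [Nontrivial G]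
    (h : ∀ M N : Subgroup G, IsCoatom M → IsCoatom N → ∃ g : G, N = MulAut.conj g • M) :
    IsCyclic G ∧ IsPrimePow (Nat.card G) := by
  -- a coatom exists
  obtain ⟨M, hM⟩ : ∃ M : Subgroup G, IsCoatom M := by
    rcases eq_top_or_exists_le_coatom (⊥ : Subgroup G) with h0 | ⟨M, hM, _⟩
    · exact absurd h0 bot_ne_top
    · exact ⟨M, hM⟩
  obtain ⟨g, hg⟩ := exists_not_mem_conj M hM.1
  have hgtop : Subgroup.zpowers g = ⊤ := by
    rcases eq_top_or_exists_le_coatom (Subgroup.zpowers g) with h0 | ⟨N, hN, hle⟩
    · exact h0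
    · exfalso
      obtain ⟨x, hx⟩ := h M N hM hN
      apply hg x
      rw [← hx]
      exact hle (Subgroup.mem_zpowers g)
  have hcyc : IsCyclic G := ⟨⟨g, fun x => by
    have : x ∈ Subgroup.zpowers g := by rw [hgtop]; trivial
    exact this⟩⟩
  refine ⟨hcyc, ?_⟩
  -- commutativity: conjugation is trivial
  have hcomm : ∀ a b : G, a * b = b * a := by
    intro a b
    have ha : a ∈ Subgroup.zpowers g := by rw [hgtop]; trivial
    have hb : b ∈ Subgroup.zpowers g := by rw [hgtop]; trivial
    obtain ⟨i, rfl⟩ := ha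
    obtain ⟨j, rfl⟩ := hb
    exact (Commute.zpow_zpow_self g i j).eq
  have hconj : ∀ (x : G) (K : Subgroup G), MulAut.conj x • K = K := by
    intro x K
    ext y
    rw [Subgroup.mem_pointwise_smul_iff_inv_smul_mem]
    have : (MulAut.conj x)⁻¹ • y = y := by
      simp only [MulAut.smul_def, ← map_inv, MulAut.conj_apply, inv_inv]
      rw [hcomm x⁻¹ y, mul_assoc, inv_mul_cancel, mul_one]
    rw [this]
  have huniq : ∀ N : Subgroup G, IsCoatom N → N = M := by
    intro N hN
    obtain ⟨x, hx⟩ := h M N hM hN
    rw [hx, hconj]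
  rw [isPrimePow_iff_unique_prime_dvd]
  have hG1 : Nat.card G ≠ 1 := by
    intro h1
    have := (Nat.card_eq_one_iff_unique.1 h1).1
    exact not_subsingleton G this
  obtain ⟨p, hp, hpn⟩ := Nat.exists_prime_and_dvd hG1
  refine ⟨p, ⟨hp, hpn⟩, ?_⟩
  rintro q ⟨hq, hqn⟩
  obtain ⟨hcp, hcardp⟩ := coatom_of_prime_dvd g hgtop p hp hpn
  obtain ⟨hcq, hcardq⟩ := coatom_of_prime_dvd g hgtop q hq hqn
  have e1 := huniq _ hcp
  have e2 := huniq _ hcq
  rw [e1] at hcardp
  rw [e2] at hcardq
  have hMpos : 0 < Nat.card M := Nat.card_pos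
  have : Nat.card M * q = Nat.card M * p := by rw [hcardp, hcardq]
  exact Nat.eq_of_mul_eq_mul_left hMpos this

end Cfsg.Agent.S4387
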