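-- Statement S0055; proof by helper1.
import Cfsg.Statements.S0055
import Mathlib
import Cfsg.Agent.Lib.Helper1_Coprime

set_option autoImplicit false
set_option linter.style.haveILetI false
open Pointwise
open Cfsg

namespace Cfsg.Agent.S0055

open Subgroup Cfsg.Agent.Lib.Helper1_Coprime
open scoped IsMulCommutative commutatorElement

universe u

section

variable {G : Type u} [Group G] [Finite G] (A V : Subgroup G) [IsMulCommutative V]
  (hAV : A ≤ normalizer (V : Set G))

/-- The averaging ("norm") endomorphism `v ↦ ∏ a ∈ A, a v a⁻¹` of the abelian group `V`. -/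
noncomputable def theta : V →* V :=
  letI := conjAction A V hAV
  letI := Fintype.ofFinite A
  ∏ a : A, MulDistribMulAction.toMonoidHom V a

theorem theta_apply (v : V) :
    letI := conjAction A V hAV
    letI := Fintype.ofFinite A
    theta A V hAV v = ∏ a : A, a • v := by
  letI := conjAction A V hAV
  letI := Fintype.ofFinite A
  rw [theta, MonoidHom.finsetProd_apply]
  rfl

theorem smul_theta (b : A) (v : V) :
    letI := conjAction A V hAV
    b • theta A V hAV v = theta A V hAV v := by
  letI := conjAction A V hAV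
  letI := Fintype.ofFinite A
  rw [theta_apply, Finset.smul_prod']
  simp_rw [smul_smul]
  exact Fintype.prod_equiv (Equiv.mulLeft b) _ _ (fun a => rfl)

theorem theta_smul (b : A) (v : V) :
    letI := conjAction A V hAV
    theta A V hAV (b • v) = theta A V hAV v := by
  letI := conjAction A V hAV
  letI := Fintype.ofFinite A
  rw [theta_apply, theta_apply]
  simp_rw [smul_smul]
  exact Fintype.prod_equiv (Equiv.mulRight b) _ _ (fun a => rfl)

theorem theta_of_fixed (v : V)
    (hv : letI := conjAction A V hAV; ∀ a : A, a • v = v) :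
    theta A V hAV v = v ^ Nat.card A := by
  letI := conjAction A V hAV
  letI := Fintype.ofFinite A
  rw [theta_apply]
  simp_rw [hv]
  rw [Finset.prod_const, Finset.card_univ, Nat.card_eq_fintype_card]

/-- `θ` kills `[V, A]`. -/
theorem commutator_le_map_ker :
    ⁅V, A⁆ ≤ (theta A V hAV).ker.map V.subtype := by
  letI := conjAction A V hAV
  rw [commutator_le]
  intro v hv a ha
  refine ⟨⟨v, hv⟩ * (((⟨a, ha⟩ : A) • (⟨v, hv⟩ : V)))⁻¹, ?_, ?_⟩
  · change theta A V hAV _ = 1
    rw [map_mul, map_inv, theta_smul, mul_inv_cancel]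
  · change v * (a * v * a⁻¹)⁻¹ = ⁅v, a⁆
    rw [commutatorElement_def]; group

/-- `w ^ |A| = θ(w) * ∏ a, [w, a]`. -/
theorem pow_card_eq (w : V) :
    ((w : G) ^ Nat.card A) * ((theta A V hAV w : V) : G)⁻¹ ∈ ⁅V, A⁆ := by
  letI := conjAction A V hAV
  letI := Fintype.ofFinite A
  have h1 : w ^ Nat.card A * (theta A V hAV w)⁻¹ = ∏ a : A, (w * (a • w)⁻¹) := by
    rw [theta_apply, Finset.prod_mul_distrib, Finset.prod_const, Finset.card_univ,
      Nat.card_eq_fintype_card, Finset.prod_inv_distrib]
  have h2 : (w ^ Nat.card A * (theta A V hAV w)⁻¹ : V) ∈ (⁅V, A⁆ : Subgroup G).subgroupOf V := by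
    rw [h1]
    apply Subgroup.prod_mem
    intro a _
    rw [mem_subgroupOf]
    have : ((w * (a • w)⁻¹ : V) : G) = ⁅(w : G), (a : G)⁆ := by
      change (w : G) * ((a : G) * w * (a : G)⁻¹)⁻¹ = _
      rw [commutatorElement_def]; group
    rw [this]
    exact commutator_mem_commutator w.2 a.2
  rw [mem_subgroupOf] at h2
  simpa using h2

end

/-- If A normalises an abelian subgroup V of coprime order, then V is the internal direct product of its A-fixed points and its commutator with A: the two meet trivially and generate V. -/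
theorem result {G : Type*} [Group G] [Finite G] (A V : Subgroup G) [IsMulCommutative V]
    (hAV : A ≤ Subgroup.normalizer (V : Set G)) (hcop : (Nat.card A).Coprime (Nat.card V)) :
    (V ⊓ Subgroup.centralizer (A : Set G)) ⊓ ⁅V, A⁆ = ⊥ ∧ (V ⊓ Subgroup.centralizer (A : Set G)) ⊔ ⁅V, A⁆ = V := by
  letI := conjAction A V hAV
  have hfixed : ∀ x : G, ∀ hx : x ∈ V, x ∈ centralizer (A : Set G) →
      ∀ a : A, a • (⟨x, hx⟩ : V) = ⟨x, hx⟩ := by
    intro x hx hxc a
    apply Subtype.ext
    change (a : G) * x * (a : G)⁻¹ = x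
    have := (mem_centralizer_iff.mp hxc) a a.2
    rw [this]; group
  constructor
  · rw [eq_bot_iff]
    rintro x ⟨⟨hxV, hxC⟩, hxcomm⟩
    rw [mem_bot]
    obtain ⟨y, hy, hyx⟩ := commutator_le_map_ker A V hAV hxcomm
    have hyx' : y = ⟨x, hxV⟩ := Subtype.ext hyx
    subst hyx'
    have h1 : theta A V hAV ⟨x, hxV⟩ = 1 := hy
    rw [theta_of_fixed A V hAV ⟨x, hxV⟩ (hfixed x hxV hxC)] at h1
    have h2 : (⟨x, hxV⟩ : V) ^ Nat.card V = 1 := pow_card_eq_one'
    have h3 : (⟨x, hxV⟩ : V) ^ Nat.gcd (Nat.card A) (Nat.card V) = 1 := pow_gcd_eq_one.mpr ⟨h1, h2⟩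
    rw [hcop.gcd_eq_one, pow_one] at h3
    exact congrArg Subtype.val h3
  · apply le_antisymm
    · apply sup_le inf_le_left
      exact (le_normalizer_iff_commutator_le_left).mp hAV
    · intro v hv
      -- `v = w ^ |A|`
      obtain ⟨w, hw⟩ := (Nat.Coprime.pow_left_bijective (G := V) hcop.symm).2 ⟨v, hv⟩
      have hw' : (w : G) ^ Nat.card A = v := by
        have := congrArg Subtype.val hw
        simpa using this
      have h1 := pow_card_eq A V hAV w
      have h2 : ((theta A V hAV w : V) : G) ∈ V ⊓ centralizer (A : Set G) := by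
        refine ⟨(theta A V hAV w).2, ?_⟩
        change ((theta A V hAV w : V) : G) ∈ centralizer (A : Set G)
        rw [mem_centralizer_iff]
        intro a ha
        have := congrArg Subtype.val (smul_theta A V hAV ⟨a, ha⟩ w)
        change a * ((theta A V hAV w : V) : G) * a⁻¹ = _ at this
        calc a * ((theta A V hAV w : V) : G) = (a * ((theta A V hAV w : V) : G) * a⁻¹) * a := by group
          _ = ((theta A V hAV w : V) : G) * a := by rw [this]
      have h3 : v = ((theta A V hAV w : V) : G) * (((theta A V hAV w : V) : G)⁻¹ * v) := by group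
      rw [h3]
      refine mul_mem_sup h2 ?_
      -- in the abelian group `V` the two factors commute
      have h4 : ((theta A V hAV w : V) : G)⁻¹ * v = v * ((theta A V hAV w : V) : G)⁻¹ := by
        have := mul_comm (theta A V hAV w)⁻¹ (⟨v, hv⟩ : V)
        exact congrArg Subtype.val this
      rw [h4, ← hw']
      exact h1

end Cfsg.Agent.S0055
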