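import Cfsg.Statements.S3389
-- import your own Cfsg.Agent.* helpers here
import Cfsg.Agent.Lib.Helper95_Burnside
-- import your own Cfsg.Agent.* helpers here

set_option autoImplicit false
open Cfsg

namespace Cfsg.Agent.S3389

open MulAction

/-- A free action of a finite group on a finite set: the group order divides the number of points. -/
theorem card_dvd_of_free {Z X : Type*} [Group Z] [Finite Z] [MulAction Z X] [Finite X]
    (hfree : ∀ (x : X) (z : Z), z • x = x → z = 1) : Nat.card Z ∣ Nat.card X := by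
  classical
  have e := selfEquivSigmaOrbits Z X
  have : Fintype (orbitRel.Quotient Z X) := Fintype.ofFinite _
  rw [Nat.card_congr e, Nat.card_sigma]
  apply Finset.dvd_sum
  intro ω _
  have h2 : Nat.card (orbit Z ω.out) = (stabilizer Z ω.out).index := by
    rw [index_stabilizer, Nat.card_coe_set_eq]
  have h3 : stabilizer Z ω.out = ⊥ := by
    rw [Subgroup.eq_bot_iff_forall]
    intro z hz
    exact hfree _ z hz
  rw [h2, h3, Subgroup.index_bot]

/-- The centre acts on the fixed points of any element. -/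
def fixSub {G Ω : Type*} [Group G] [MulAction G Ω] (g : G) : SubMulAction (Subgroup.center G) Ω where
  carrier := fixedBy Ω g
  smul_mem' := by
    intro z ω hω
    show g • ((z : G) • ω) = (z : G) • ω
    have hω' : g • ω = ω := hω
    rw [smul_smul, Subgroup.mem_center_iff.mp z.2 g, ← smul_smul, hω']

theorem part1 {G Ω : Type*} [Group G] [Finite G] [Finite Ω] [MulAction G Ω] [FaithfulSMul G Ω]
    (htr : IsPretransitive G Ω) (g : G) :
    Nat.card (Subgroup.center G) ∣ Nat.card (fixedBy Ω g) := by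
  have hfree : ∀ (x : fixSub (Ω := Ω) g) (z : Subgroup.center G), z • x = x → z = 1 := by
    intro x z hz
    have hz' : (z : G) • (x : Ω) = (x : Ω) := congrArg Subtype.val hz
    apply Subtype.ext
    apply FaithfulSMul.eq_of_smul_eq_smul (α := Ω)
    intro ω
    obtain ⟨h, rfl⟩ := htr.exists_smul_eq (x : Ω) ω
    show (z : G) • h • (x : Ω) = (1 : G) • h • (x : Ω)
    rw [one_smul, smul_smul, ← Subgroup.mem_center_iff.mp z.2 h, ← smul_smul, hz']
  have := card_dvd_of_free hfree
  exact this

theorem part3 {G Ω : Type*} [Group G] [Finite G] [Finite Ω] [MulAction G Ω]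
    (htr : IsPretransitive G Ω) (k : ℕ)
    (hfix : ∀ g : G, g ≠ 1 → Nat.card (fixedBy Ω g) ≤ k)
    (p : ℕ) (hp : p.Prime) (hkp : k < p) (α : Ω)
    (h1 : p ∣ Nat.card (stabilizer G α)) (h2 : p ∣ (stabilizer G α).index) : False := by
  have : Fact p.Prime := ⟨hp⟩
  obtain ⟨h, hh⟩ := exists_prime_orderOf_dvd_card' p h1
  set g : G := (h : G) with hg
  have hgo : orderOf g = p := by rw [hg, Subgroup.orderOf_coe, hh]
  have hg1 : g ≠ 1 := by
    intro h1
    rw [h1, orderOf_one] at hgo
    exact hp.one_lt.ne hgo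
  have hgα : g • α = α := h.2
  -- the cyclic group generated by g is a p-group
  have hP : IsPGroup p (Subgroup.zpowers g) := by
    apply IsPGroup.of_card (n := 1)
    rw [Nat.card_zpowers, hgo, pow_one]
  have hmod := hP.card_modEq_card_fixedPoints Ω
  have hfp : fixedPoints (Subgroup.zpowers g) Ω = fixedBy Ω g := by
    ext ω
    simp only [mem_fixedPoints, mem_fixedBy]
    constructor
    · intro h
      exact h ⟨g, Subgroup.mem_zpowers g⟩
    · rintro h ⟨x, n, rfl⟩
      exact fixedBy_subset_fixedBy_zpow Ω g n h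
  rw [hfp, ← index_stabilizer_of_transitive G α] at hmod
  have hdvd : p ∣ Nat.card (fixedBy Ω g) := by
    rw [← Nat.modEq_zero_iff_dvd]
    exact hmod.symm.trans (Nat.modEq_zero_iff_dvd.mpr h2)
  have hpos : 0 < Nat.card (fixedBy Ω g) := by
    have : Nonempty (fixedBy Ω g) := ⟨⟨α, hgα⟩⟩
    exact Nat.card_pos
  have hle := Nat.le_of_dvd hpos hdvd
  have := hfix g hg1
  omega

open Cfsg.Agent.Lib.Helper95_Burnside in
/-- Frobenius-type counting: a group fixing `α` in which non-identity elements fix at most two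
points has at most one orbit (besides `{α}`) with non-trivial point stabilizers. -/
theorem same_orbit {A Ω : Type*} [Group A] [Finite A] [MulAction A Ω] [Finite Ω]
    (hfix : ∀ a : A, a ≠ 1 → Nat.card (fixedBy Ω a) ≤ 2)
    (α : Ω) (hα : ∀ a : A, a • α = α)
    (β γ : Ω) (hβ : β ≠ α) (hγ : γ ≠ α)
    (hsβ : stabilizer A β ≠ ⊥) (hsγ : stabilizer A γ ≠ ⊥) : γ ∈ orbit A β := by
  classical
  by_contra hne
  have : Fintype A := Fintype.ofFinite A
  have : Nonempty (orbit A β) := ⟨⟨β, mem_orbit_self β⟩⟩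
  have : Nonempty (orbit A γ) := ⟨⟨γ, mem_orbit_self γ⟩⟩
  have hBβ := sum_natCard_fixedBy_of_transitive (G := A) (X := orbit A β)
  have hBγ := sum_natCard_fixedBy_of_transitive (G := A) (X := orbit A γ)
  -- orbit sizes
  have horb : ∀ δ : Ω, stabilizer A δ ≠ ⊥ → 2 * Nat.card (orbit A δ) ≤ Nat.card A := by
    intro δ hδ
    have h1 := Subgroup.index_mul_card (stabilizer A δ)
    rw [index_stabilizer, ← Nat.card_coe_set_eq] at h1
    have h2 : 1 < Nat.card (stabilizer A δ) := (Subgroup.one_lt_card_iff_ne_bot _).mpr hδ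
    calc 2 * Nat.card (orbit A δ) = Nat.card (orbit A δ) * 2 := by ring
      _ ≤ Nat.card (orbit A δ) * Nat.card (stabilizer A δ) := Nat.mul_le_mul_left _ h2
      _ = Nat.card A := h1
  have hOβ := horb β hsβ
  have hOγ := horb γ hsγ
  -- α is in neither orbit, and the orbits are disjoint
  have hαβ : α ∉ orbit A β := by
    rintro ⟨a, ha⟩
    apply hβ
    have : β = a⁻¹ • α := by rw [← ha]; simp
    rw [this, hα]
  have hαγ : α ∉ orbit A γ := by
    rintro ⟨a, ha⟩
    apply hγ
    have : γ = a⁻¹ • α := by rw [← ha]; simp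
    rw [this, hα]
  have hdisj : Disjoint (orbit A β) (orbit A γ) := by
    rw [Set.disjoint_left]
    intro δ h1 h2
    apply hne
    rw [← orbit_eq_iff] at h1 h2 ⊢
    rw [← h1, h2]
  -- key inequality
  have hkey : ∀ a : A, a ≠ 1 →
      Nat.card (fixedBy (orbit A β) a) + Nat.card (fixedBy (orbit A γ) a) ≤ 1 := by
    intro a ha
    set Sβ : Set Ω := Subtype.val '' (fixedBy (orbit A β) a) with hSβ
    set Sγ : Set Ω := Subtype.val '' (fixedBy (orbit A γ) a) with hSγ
    have hcβ : Sβ.ncard = Nat.card (fixedBy (orbit A β) a) := by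
      rw [hSβ, Set.ncard_image_of_injective _ Subtype.val_injective, Nat.card_coe_set_eq]
    have hcγ : Sγ.ncard = Nat.card (fixedBy (orbit A γ) a) := by
      rw [hSγ, Set.ncard_image_of_injective _ Subtype.val_injective, Nat.card_coe_set_eq]
    have hsubβ : Sβ ⊆ fixedBy Ω a := by
      rintro _ ⟨x, hx, rfl⟩
      exact congrArg Subtype.val hx
    have hsubγ : Sγ ⊆ fixedBy Ω a := by
      rintro _ ⟨x, hx, rfl⟩
      exact congrArg Subtype.val hx
    have hSβO : Sβ ⊆ orbit A β := by
      rintro _ ⟨x, _, rfl⟩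
      exact x.2
    have hSγO : Sγ ⊆ orbit A γ := by
      rintro _ ⟨x, _, rfl⟩
      exact x.2
    have hd1 : Disjoint Sβ Sγ := Set.disjoint_of_subset hSβO hSγO hdisj
    have hd2 : Disjoint (Sβ ∪ Sγ) {α} := by
      rw [Set.disjoint_singleton_right]
      rintro (h | h)
      · exact hαβ (hSβO h)
      · exact hαγ (hSγO h)
    have hsub : (Sβ ∪ Sγ) ∪ {α} ⊆ fixedBy Ω a := by
      intro δ hδ
      rcases hδ with (h | h) | h
      · exact hsubβ h
      · exact hsubγ h
      · rw [Set.mem_singleton_iff] at h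
        rw [h]
        exact hα a
    have hcard := Set.ncard_le_ncard hsub (Set.toFinite _)
    rw [Set.ncard_union_eq hd2 (Set.toFinite _) (Set.toFinite _),
      Set.ncard_union_eq hd1 (Set.toFinite _) (Set.toFinite _), Set.ncard_singleton, hcβ, hcγ,
      ← Nat.card_coe_set_eq] at hcard
    have := hfix a ha
    omega
  -- the identity terms
  have h1 : ∀ δ : Ω, Nat.card (fixedBy (orbit A δ) (1 : A)) = Nat.card (orbit A δ) := by
    intro δ
    rw [fixedBy_one_eq_univ, Nat.card_coe_set_eq, Set.ncard_univ]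
  -- split the sums
  have hsplit : ∀ F : A → ℕ, ∑ a : A, F a = F 1 + ∑ a ∈ (Finset.univ.erase (1 : A)), F a := by
    intro F
    rw [Finset.add_sum_erase _ _ (Finset.mem_univ _)]
  rw [hsplit, h1] at hBβ hBγ
  have hle : ∑ a ∈ (Finset.univ.erase (1 : A)),
      (Nat.card (fixedBy (orbit A β) a) + Nat.card (fixedBy (orbit A γ) a)) ≤
      ∑ _a ∈ (Finset.univ.erase (1 : A)), 1 := by
    apply Finset.sum_le_sum
    intro a ha
    exact hkey a (Finset.ne_of_mem_erase ha)
  rw [Finset.sum_add_distrib, Finset.sum_const, Finset.card_erase_of_mem (Finset.mem_univ _),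
    Finset.card_univ, smul_eq_mul, mul_one, ← Nat.card_eq_fintype_card] at hle
  have hApos : 0 < Nat.card A := Nat.card_pos
  omega

theorem part2 {G Ω : Type*} [Group G] [Finite G] [Finite Ω] [MulAction G Ω]
    (htr : IsPretransitive G Ω)
    (hfix : ∀ g : G, g ≠ 1 → Nat.card (fixedBy Ω g) ≤ 2)
    (hex : ∃ g : G, g ≠ 1 ∧ Nat.card (fixedBy Ω g) = 2) : 2 ∣ Nat.card G := by
  obtain ⟨g₀, hg₀, hcard⟩ := hex
  obtain ⟨x, y, hxy, -⟩ := Nat.card_eq_two_iff.mp hcard
  obtain ⟨α, hgα⟩ := x
  obtain ⟨β, hgβ⟩ := y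
  have hαβ : α ≠ β := fun h => hxy (Subtype.ext h)
  replace hgα : g₀ • α = α := hgα
  replace hgβ : g₀ • β = β := hgβ
  obtain ⟨h, hh⟩ := htr.exists_smul_eq α β
  have hh' : h⁻¹ • β = α := by rw [← hh]; simp
  -- the stabilizer of β acting on Ω
  have hfixB : ∀ b : stabilizer G β, b ≠ 1 → Nat.card (fixedBy Ω b) ≤ 2 := by
    intro b hb
    have hb' : (b : G) ≠ 1 := fun h => hb (Subtype.ext h)
    have := hfix (b : G) hb'
    exact this
  have hBβ : ∀ b : stabilizer G β, b • β = β := fun b => b.2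
  have hγ1 : h • β ≠ β := by
    intro h1
    apply hαβ
    have : h⁻¹ • β = β := by
      rw [inv_smul_eq_iff]; exact h1.symm
    rw [← hh', this]
  have hsα : stabilizer (stabilizer G β) α ≠ ⊥ := by
    intro hbot
    have hmem : (⟨g₀, hgβ⟩ : stabilizer G β) ∈ stabilizer (stabilizer G β) α := hgα
    rw [hbot, Subgroup.mem_bot] at hmem
    exact hg₀ (congrArg Subtype.val hmem)
  have hconjβ : (h * g₀ * h⁻¹) • β = β := by
    rw [mul_smul, mul_smul, hh', hgα, hh]
  have hsγ : stabilizer (stabilizer G β) (h • β) ≠ ⊥ := by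
    intro hbot
    have hmem : (⟨h * g₀ * h⁻¹, hconjβ⟩ : stabilizer G β) ∈ stabilizer (stabilizer G β) (h • β) := by
      show (h * g₀ * h⁻¹) • (h • β) = h • β
      rw [mul_smul, mul_smul, inv_smul_smul, hgβ]
    rw [hbot, Subgroup.mem_bot] at hmem
    have h1 : h * g₀ * h⁻¹ = 1 := congrArg Subtype.val hmem
    apply hg₀
    calc g₀ = h⁻¹ * (h * g₀ * h⁻¹) * h := by group
      _ = 1 := by rw [h1]; group
  obtain ⟨b, hb⟩ := same_orbit hfixB β hBβ (h • β) α hγ1 hαβ hsγ hsα
  replace hb : (b : G) • (h • β) = α := hb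
  -- the element c = b * h swaps α and β
  set c : G := (b : G) * h with hc
  have hcα : c • α = β := by
    rw [hc, mul_smul, hh]; exact b.2
  have hcβ : c • β = α := by
    rw [hc, mul_smul, hb]
  have hc2 : ∀ m : ℕ, (c * c) ^ m • β = β := by
    intro m
    induction m with
    | zero => simp
    | succ m ih => rw [pow_succ, mul_smul, mul_smul, hcβ, hcα, ih]
  have hdvd : 2 ∣ orderOf c := by
    obtain ⟨m, hm | hm⟩ := Nat.even_or_odd' (orderOf c)
    · exact ⟨m, hm⟩
    · exfalso
      have h1 : c ^ (2 * m + 1) = 1 := by rw [← hm]; exact pow_orderOf_eq_one c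
      have h2 : c ^ (2 * m + 1) • α = β := by
        rw [pow_succ, mul_smul, hcα, pow_mul, pow_two, hc2 m]
      rw [h1, one_smul] at h2
      exact hαβ h2
  exact hdvd.trans (orderOf_dvd_natCard c)

/-- Let G be a finite group acting faithfully and transitively on a finite set Ω with fixity k ≥ 1: every non-identity element fixes at most k points and some non-identity element fixes exactly k points. Then |Z(G)| divides k; if k = 2 then |G| is even; and for every prime p > k dividing |G| and every point α, either p does not divide |G_α| or G_α contains a Sylow p-subgroup of G. -/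
theorem result {G : Type*} [Group G] [Finite G] {Ω : Type*} [Fintype Ω] [MulAction G Ω] [FaithfulSMul G Ω]
    (htr : MulAction.IsPretransitive G Ω) (k : ℕ) (hk : 1 ≤ k)
    (hfix : ∀ g : G, g ≠ 1 → Nat.card (MulAction.fixedBy Ω g) ≤ k) (hex : ∃ g : G, g ≠ 1 ∧ Nat.card (MulAction.fixedBy Ω g) = k) :
    Nat.card (Subgroup.center G) ∣ k ∧ (k = 2 → 2 ∣ Nat.card G) ∧
      ∀ (p : ℕ), p.Prime → k < p → p ∣ Nat.card G → ∀ α : Ω,
        ¬ p ∣ Nat.card (MulAction.stabilizer G α) ∨ ¬ p ∣ (MulAction.stabilizer G α).index := by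
  refine ⟨?_, ?_, ?_⟩
  · obtain ⟨g, -, hg⟩ := hex
    rw [← hg]
    exact part1 htr g
  · intro hk2
    subst hk2
    exact part2 htr hfix hex
  · intro p hp hkp _ α
    by_contra hcon
    push Not at hcon
    exact part3 htr k hfix p hp hkp α hcon.1 hcon.2

end Cfsg.Agent.S3389
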