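import Cfsg.Statements.S4108

set_option autoImplicit false
open Cfsg
open scoped Pointwise

namespace Cfsg.Agent.S4108

theorem mem_conj_smul {M : Type*} [Group M] (H : Subgroup M) (g x : M) :
    x ∈ MulAut.conj g • H ↔ g⁻¹ * x * g ∈ H := by
  rw [Subgroup.mem_pointwise_smul_iff_inv_smul_mem]
  simp [MulAut.smul_def]

/-- A split extension `N ⋊ H` in which every non-identity element of `H` acts on `N` without
non-identity fixed points is a Frobenius group with complement `H` and kernel `N`. -/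
theorem frobenius_of_fpf {M : Type*} [Group M] [Finite M] (N H : Subgroup M) [N.Normal]
    (hsup : N ⊔ H = ⊤) (hinf : N ⊓ H = ⊥) (hN : N ≠ ⊥) (hH : H ≠ ⊥)
    (hfpf : ∀ h ∈ H, h ≠ 1 → ∀ n ∈ N, h * n = n * h → n = 1) :
    Cfsg.IsFrobeniusComplement H ∧ Cfsg.frobeniusKernel H = (N : Set M) := by
  have hdecomp : ∀ g : M, ∃ n ∈ N, ∃ h ∈ H, n * h = g := by
    intro g
    have hg : g ∈ ((N ⊔ H : Subgroup M) : Set M) := by rw [hsup]; exact Set.mem_univ g
    rw [Subgroup.normal_mul] at hg
    exact Set.mem_mul.mp hg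
  have hNH : ∀ x : M, x ∈ N → x ∈ H → x = 1 := by
    intro x hxN hxH
    have : x ∈ N ⊓ H := ⟨hxN, hxH⟩
    rw [hinf] at this
    exact Subgroup.mem_bot.mp this
  refine ⟨⟨hH, ?_, ?_⟩, ?_⟩
  · intro htop
    apply hN
    rw [htop, inf_top_eq] at hinf
    exact hinf
  · intro g hg
    rw [Subgroup.eq_bot_iff_forall]
    rintro x ⟨hx1, hx2⟩
    replace hx1 : x ∈ H := hx1
    replace hx2 : x ∈ MulAut.conj g • H := hx2
    rw [mem_conj_smul] at hx2
    by_contra hx
    obtain ⟨n, hn, h₀, hh₀, rfl⟩ := hdecomp g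
    -- y' = h₀ (g⁻¹ x g) h₀⁻¹ = n⁻¹ x n
    have hy' : n⁻¹ * x * n ∈ H := by
      have := H.mul_mem (H.mul_mem hh₀ hx2) (H.inv_mem hh₀)
      convert this using 1
      group
    have hcomm : n⁻¹ * x * n * x⁻¹ ∈ N := by
      have h1 : x * n * x⁻¹ ∈ N := ‹N.Normal›.conj_mem n hn x
      have := N.mul_mem (N.inv_mem hn) h1
      convert this using 1
      group
    have heq1 : n⁻¹ * x * n * x⁻¹ = 1 := hNH _ hcomm (H.mul_mem hy' (H.inv_mem hx1))
    have hxn : x * n = n * x := by
      have h2 : n⁻¹ * x * n = x := by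
        rw [mul_inv_eq_one] at heq1
        exact heq1
      calc x * n = n * (n⁻¹ * x * n) := by group
        _ = n * x := by rw [h2]
    have hn1 : n = 1 := hfpf x hx1 hx n hn hxn
    apply hg
    rw [hn1, one_mul]
    exact hh₀
  · ext x
    simp only [Cfsg.frobeniusKernel, Set.mem_ofPred_eq, SetLike.mem_coe]
    constructor
    · rintro (rfl | hx)
      · exact N.one_mem
      · by_contra hxN
        obtain ⟨n, hn, h, hh, rfl⟩ := hdecomp x
        have hh1 : h ≠ 1 := by
          rintro rfl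
          apply hxN
          simpa using hn
        -- the map m ↦ m h m⁻¹ h⁻¹ on N is injective, hence surjective
        let φ : N → N := fun m => ⟨(m : M) * h * (m : M)⁻¹ * h⁻¹, by
          have h1 : h * (m : M)⁻¹ * h⁻¹ ∈ N := ‹N.Normal›.conj_mem _ (N.inv_mem m.2) h
          have := N.mul_mem m.2 h1
          convert this using 1
          group⟩
        have hφinj : Function.Injective φ := by
          intro m m' hmm
          have h1 : (m : M) * h * (m : M)⁻¹ * h⁻¹ = (m' : M) * h * (m' : M)⁻¹ * h⁻¹ :=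
            congrArg Subtype.val hmm
          have h2 : (m : M) * h * (m : M)⁻¹ = (m' : M) * h * (m' : M)⁻¹ := mul_right_cancel h1
          have h3 : h * ((m' : M)⁻¹ * (m : M)) = ((m' : M)⁻¹ * (m : M)) * h := by
            calc h * ((m' : M)⁻¹ * (m : M))
                = (m' : M)⁻¹ * ((m' : M) * h * (m' : M)⁻¹) * (m : M) := by group
              _ = (m' : M)⁻¹ * ((m : M) * h * (m : M)⁻¹) * (m : M) := by rw [h2]
              _ = ((m' : M)⁻¹ * (m : M)) * h := by group
          have h4 := hfpf h hh hh1 _ (N.mul_mem (N.inv_mem m'.2) m.2) h3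
          apply Subtype.ext
          have : (m : M) = (m' : M) := by
            calc (m : M) = (m' : M) * ((m' : M)⁻¹ * (m : M)) := by group
              _ = (m' : M) := by rw [h4, mul_one]
          exact this
        have hφsurj : Function.Surjective φ := Finite.injective_iff_surjective.mp hφinj
        obtain ⟨m, hm⟩ := hφsurj ⟨n, hn⟩
        have hm' : (m : M) * h * (m : M)⁻¹ * h⁻¹ = n := congrArg Subtype.val hm
        apply hx (m : M)
        rw [mem_conj_smul]
        have : (m : M)⁻¹ * (n * h) * (m : M) = h := by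
          rw [← hm']
          group
        rw [this]
        exact hh
    · intro hxN
      by_cases hx1 : x = 1
      · exact Or.inl hx1
      · right
        intro g hg
        rw [mem_conj_smul] at hg
        apply hx1
        have h1 : g⁻¹ * x * g ∈ N := by
          have := ‹N.Normal›.conj_mem x hxN g⁻¹
          simpa using this
        have h2 := hNH _ h1 hg
        calc x = g * (g⁻¹ * x * g) * g⁻¹ := by group
          _ = 1 := by rw [h2]; group

theorem result {G : Type*} [Group G] [Finite G] (N : Subgroup G) [N.Normal] (hN1 : N ≠ ⊥) (hN2 : N ≠ ⊤)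
    (heq : ∀ x : G, x ∉ N → ∀ n ∈ N, orderOf (x * n) = orderOf x)
    (p : ℕ) [Fact p.Prime] (hNp : IsPGroup p N) :
    ∀ H : Subgroup G, H ≠ ⊥ → (Nat.card H).Coprime p →
      Cfsg.IsFrobeniusComplement (H.subgroupOf (N ⊔ H)) ∧ Cfsg.frobeniusKernel (H.subgroupOf (N ⊔ H)) = (N.subgroupOf (N ⊔ H) : Set ↥(N ⊔ H)) := by
  intro H hH hcop
  -- orders of elements of N are powers of p, those of H are prime to p
  have hordN : ∀ n ∈ N, ∃ k : ℕ, orderOf n = p ^ k := by
    intro n hn
    obtain ⟨k, hk⟩ := (IsPGroup.iff_orderOf.mp hNp) ⟨n, hn⟩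
    exact ⟨k, by rw [← hk, Subgroup.orderOf_mk]⟩
  have hordH : ∀ h ∈ H, (orderOf h).Coprime p := by
    intro h hh
    have : orderOf h ∣ Nat.card H := by
      have := orderOf_dvd_natCard (⟨h, hh⟩ : H)
      rwa [Subgroup.orderOf_mk] at this
    exact Nat.Coprime.coprime_dvd_left this hcop
  have hNH : ∀ x : G, x ∈ N → x ∈ H → x = 1 := by
    intro x hxN hxH
    obtain ⟨k, hk⟩ := hordN x hxN
    have h1 := hordH x hxH
    rw [hk] at h1
    rw [← orderOf_eq_one_iff, hk]
    rcases Nat.eq_zero_or_pos k with rfl | hkpos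
    · simp
    · exfalso
      have hp : p.Prime := Fact.out
      have : p ∣ Nat.gcd (p ^ k) p := Nat.dvd_gcd (dvd_pow_self p hkpos.ne') dvd_rfl
      rw [Nat.Coprime] at h1
      rw [h1] at this
      exact hp.one_lt.ne' (Nat.dvd_one.mp this)
  have hfpf : ∀ h ∈ H, h ≠ 1 → ∀ n ∈ N, h * n = n * h → n = 1 := by
    intro h hh hh1 n hn hcomm
    have hhN : h ∉ N := fun hhN => hh1 (hNH h hhN hh)
    have h1 := heq h hhN n hn
    obtain ⟨k, hk⟩ := hordN n hn
    have hcop' : (orderOf h).Coprime (orderOf n) := by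
      rw [hk]
      exact Nat.Coprime.pow_right k (hordH h hh)
    have h2 := (show Commute h n from hcomm).orderOf_mul_eq_mul_orderOf_of_coprime hcop'
    rw [h1] at h2
    have hpos : 0 < orderOf h := orderOf_pos h
    have : orderOf n = 1 := by
      have h3 : orderOf h * 1 = orderOf h * orderOf n := by rw [mul_one]; exact h2
      exact (Nat.eq_of_mul_eq_mul_left hpos h3).symm
    exact orderOf_eq_one_iff.mp this
  -- transfer to the subgroup N ⊔ H
  have : (N.subgroupOf (N ⊔ H)).Normal := Subgroup.normal_subgroupOf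
  apply frobenius_of_fpf (N.subgroupOf (N ⊔ H)) (H.subgroupOf (N ⊔ H))
  · rw [← Subgroup.subgroupOf_sup le_sup_left le_sup_right]
    exact Subgroup.subgroupOf_self _
  · rw [Subgroup.eq_bot_iff_forall]
    rintro ⟨x, hxM⟩ ⟨hx1, hx2⟩
    exact Subtype.ext (hNH x hx1 hx2)
  · rw [Ne, Subgroup.subgroupOf_eq_bot, disjoint_iff, inf_of_le_left le_sup_left]
    exact hN1
  · rw [Ne, Subgroup.subgroupOf_eq_bot, disjoint_iff, inf_of_le_left le_sup_right]
    exact hH
  · rintro ⟨h, hhM⟩ hh hh1 ⟨n, hnM⟩ hn hcomm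
    rw [Subgroup.mem_subgroupOf] at hh hn
    have h1 : h ≠ 1 := fun h1 => hh1 (Subtype.ext h1)
    have := hfpf h hh h1 n hn (congrArg Subtype.val hcomm)
    exact Subtype.ext this

end Cfsg.Agent.S4108
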