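import Cfsg.Statements.S4116

set_option autoImplicit false
open Cfsg

namespace Cfsg.Agent.S4116

open MulAction

/-- A nontrivial finite group acting on a finite set so that each non-identity element has exactly
one fixed point has a global fixed point. -/
theorem exists_global_fixed_point {K β : Type*} [Group K] [Finite K] [Nontrivial K]
    [MulAction K β] [Finite β] (h : ∀ k : K, k ≠ 1 → ∃! b : β, k • b = b) :
    ∃ b : β, ∀ k : K, k • b = b := by
  classical
  haveI := Fintype.ofFinite K
  haveI := Fintype.ofFinite β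
  haveI : Fintype (Quotient (orbitRel K β)) := Fintype.ofFinite _
  by_contra hno
  push Not at hno
  set n := Fintype.card K with hn
  have hn2 : 2 ≤ n := Fintype.one_lt_card
  -- Burnside
  have hB := sum_card_fixedBy_eq_card_orbits_mul_card_group K β
  have hfix1 : ∀ g : K, g ≠ 1 → Fintype.card (fixedBy β g) = 1 := by
    intro g hg
    rw [Fintype.card_eq_one_iff]
    obtain ⟨b, hb, hb'⟩ := h g hg
    exact ⟨⟨b, hb⟩, fun y => Subtype.ext (hb' y y.2)⟩
  have hfix0 : Fintype.card (fixedBy β (1 : K)) = Fintype.card β := by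
    apply Fintype.card_congr
    exact (Equiv.subtypeUnivEquiv (fun b => by simp))
  have hsum : ∑ g : K, Fintype.card (fixedBy β g) = Fintype.card β + (n - 1) := by
    rw [← Finset.add_sum_erase _ _ (Finset.mem_univ (1 : K)), hfix0]
    congr 1
    rw [Finset.sum_congr rfl (fun g hg => hfix1 g (Finset.ne_of_mem_erase hg))]
    simp [Finset.card_erase_of_mem, hn]
  rw [hsum] at hB
  clear hsum hfix0 hfix1
  -- class formula
  have hC := card_eq_sum_card_group_div_card_stabilizer K β
  set c : Quotient (orbitRel K β) → ℕ :=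
    fun ω => n / Fintype.card (stabilizer K (Quotient.out ω : β)) with hc
  have hcdvd : ∀ ω : Quotient (orbitRel K β), Fintype.card (stabilizer K (Quotient.out ω)) ∣ n := by
    intro ω
    have := Subgroup.card_subgroup_dvd_card (stabilizer K (Quotient.out ω))
    simpa [Nat.card_eq_fintype_card] using this
  have hc2 : ∀ ω : Quotient (orbitRel K β), 2 ≤ c ω := by
    intro ω
    obtain ⟨k, hk⟩ := hno (Quotient.out ω)
    have hlt : Fintype.card (stabilizer K (Quotient.out ω)) < n := by
      apply Fintype.card_lt_of_injective_of_notMem (Subtype.val) Subtype.val_injective (b := k)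
      rintro ⟨⟨k', hk'⟩, rfl⟩
      exact hk hk'
    obtain ⟨m, hm⟩ := hcdvd ω
    have hpos : 0 < Fintype.card (stabilizer K (Quotient.out ω)) := Fintype.card_pos
    simp only [hc]
    rw [hm, Nat.mul_div_cancel_left _ hpos]
    by_contra hm2
    have : m ≤ 1 := by omega
    nlinarith
  have hcn : ∀ ω : Quotient (orbitRel K β), c ω = n ∨ 2 * c ω ≤ n := by
    intro ω
    obtain ⟨m, hm⟩ := hcdvd ω
    have hpos : 0 < Fintype.card (stabilizer K (Quotient.out ω)) := Fintype.card_pos
    have hcm : c ω = m := by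
      simp only [hc]
      rw [hm, Nat.mul_div_cancel_left _ hpos]
    rw [hcm]
    rcases Nat.lt_or_ge (Fintype.card (stabilizer K (Quotient.out ω))) 2 with h1 | h2
    · left
      have : Fintype.card (stabilizer K (Quotient.out ω)) = 1 := by omega
      rw [hm, this, one_mul]
    · right
      nlinarith
  have hC' : Fintype.card β = ∑ ω, c ω := hC
  set B := Finset.univ.filter (fun ω => c ω ≠ n) with hBdef
  have hsplit : ∑ ω, c ω = ∑ ω ∈ B, c ω + (Fintype.card (Quotient (orbitRel K β)) - B.card) * n := by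
    rw [← Finset.sum_filter_add_sum_filter_not Finset.univ (fun ω => c ω ≠ n)]
    congr 1
    rw [Finset.sum_congr rfl (fun ω hω => by
      have := (Finset.mem_filter.mp hω).2
      push Not at this
      exact this)]
    rw [Finset.sum_const, smul_eq_mul]
    congr 1
    have := Finset.card_filter_add_card_filter_not (s := (Finset.univ : Finset (Quotient (orbitRel K β)))) (fun ω => c ω ≠ n)
    rw [Finset.card_univ] at this
    change B.card + _ = _ at this
    omega
  have hBle : B.card ≤ Fintype.card (Quotient (orbitRel K β)) := by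
    rw [← Finset.card_univ]
    exact Finset.card_le_card (Finset.filter_subset _ _)
  have hσ2 : 2 * ∑ ω ∈ B, c ω ≤ B.card * n := by
    rw [Finset.mul_sum]
    calc ∑ ω ∈ B, 2 * c ω ≤ ∑ ω ∈ B, n := by
          apply Finset.sum_le_sum
          intro ω hω
          rcases hcn ω with h1 | h1
          · exact absurd h1 (Finset.mem_filter.mp hω).2
          · exact h1
      _ = B.card * n := by rw [Finset.sum_const, smul_eq_mul]
  have hσ1 : 2 * B.card ≤ ∑ ω ∈ B, c ω := by
    calc 2 * B.card = ∑ ω ∈ B, 2 := by rw [Finset.sum_const, smul_eq_mul, mul_comm]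
      _ ≤ ∑ ω ∈ B, c ω := Finset.sum_le_sum (fun ω _ => hc2 ω)
  rw [hC', hsplit] at hB
  set σ := ∑ ω ∈ B, c ω
  set b := B.card
  set t := Fintype.card (Quotient (orbitRel K β))
  have hB' : σ + n = b * n + 1 := by
    have h1 : (t - b) * n + b * n = t * n := by
      rw [← add_mul]
      congr 1
      omega
    rw [← hn, ← h1] at hB
    omega
  rcases Nat.lt_or_ge b 2 with hb | hb
  · interval_cases b
    · omega
    · omega
  · nlinarith

section main

variable {G : Type*} [Group G] [Finite G] (H : Subgroup G)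

/-- An element of the normalizer of a Hall subgroup `H` whose order is coprime to the index of `H`
lies in `H`. -/
theorem mem_of_mem_normalizer (k : G) (hk : k ∈ Subgroup.normalizer (H : Set G))
    (hcop : (orderOf k).Coprime H.index) : k ∈ H := by
  have h1 : (⟨k, hk⟩ : Subgroup.normalizer (H : Set G)) ^
      (H.subgroupOf (Subgroup.normalizer (H : Set G))).index ∈
      H.subgroupOf (Subgroup.normalizer (H : Set G)) := Subgroup.pow_index_mem _ _
  rw [Subgroup.mem_subgroupOf] at h1
  change k ^ H.relIndex (Subgroup.normalizer (H : Set G)) ∈ H at h1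
  set r := H.relIndex (Subgroup.normalizer (H : Set G)) with hr
  have hrdvd : r ∣ H.index := Subgroup.relIndex_dvd_index_of_le Subgroup.le_normalizer
  have hcop' : (orderOf k).Coprime r := Nat.Coprime.coprime_dvd_right hrdvd hcop
  have hbez := Nat.gcd_eq_gcd_ab (orderOf k) r
  rw [hcop'] at hbez
  have : k = (k ^ r) ^ (Nat.gcdB (orderOf k) r) := by
    calc k = k ^ (1 : ℤ) := (zpow_one k).symm
      _ = k ^ ((orderOf k : ℤ) * Nat.gcdA (orderOf k) r + (r : ℤ) * Nat.gcdB (orderOf k) r) := by
          rw [← hbez]; norm_num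
      _ = (k ^ r) ^ (Nat.gcdB (orderOf k) r) := by
          rw [zpow_add, zpow_mul, zpow_mul, zpow_natCast, zpow_natCast, pow_orderOf_eq_one,
            one_zpow, one_mul]
  rw [this]
  exact H.zpow_mem h1 _

theorem mem_normalizer_of_ti (hTI : Cfsg.IsTISubset (H : Set G)) (g x : G) (hx : x ∈ H)
    (hx1 : x ≠ 1) (hgx : g * x * g⁻¹ ∈ H) : g ∈ Subgroup.normalizer (H : Set G) := by
  by_contra hg
  exact hx1 (hTI g hg x hx hgx)

theorem orderOf_conj' (a k : G) : orderOf (a⁻¹ * k * a) = orderOf k := by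
  have := MulEquiv.orderOf_eq (MulAut.conj a⁻¹) k
  simpa [MulAut.conj_apply] using this

/-- Every non-identity element whose order involves only primes dividing `|H|` is conjugate into
the normalizer of `H`. -/
theorem exists_conj_mem (hHall : (Nat.card H).Coprime H.index)
    (hTI : Cfsg.IsTISubset (H : Set G)) (k : G) (hk1 : k ≠ 1)
    (hk : ∀ q : ℕ, q.Prime → q ∣ orderOf k → q ∣ Nat.card H) :
    ∃ a : G, a⁻¹ * k * a ∈ Subgroup.normalizer (H : Set G) := by
  have hord1 : orderOf k ≠ 1 := fun h => hk1 (orderOf_eq_one_iff.mp h)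
  have hord0 : orderOf k ≠ 0 := (orderOf_pos k).ne'
  set q := (orderOf k).minFac with hq
  have hqp : q.Prime := Nat.minFac_prime hord1
  have hqd : q ∣ orderOf k := Nat.minFac_dvd _
  haveI : Fact q.Prime := ⟨hqp⟩
  set k' := k ^ (orderOf k / q) with hk'
  have hk'ord : orderOf k' = q := orderOf_pow_orderOf_div hord0 hqd
  have hk'1 : k' ≠ 1 := by
    intro h
    rw [h, orderOf_one] at hk'ord
    exact hqp.one_lt.ne hk'ord
  have hpg : IsPGroup q (Subgroup.zpowers k') := by
    apply IsPGroup.of_card (n := 1)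
    rw [Nat.card_zpowers, hk'ord, pow_one]
  have hnd : ¬ q ∣ Nat.card (G ⧸ H) := by
    intro hdvd
    have h1 : q ∣ Nat.card H := hk q hqp hqd
    have h2 : q ∣ H.index := hdvd
    have := Nat.dvd_gcd h1 h2
    rw [hHall] at this
    exact hqp.one_lt.ne' (Nat.dvd_one.mp this)
  obtain ⟨ω, hω⟩ := hpg.nonempty_fixed_point_of_prime_not_dvd_card (G ⧸ H) hnd
  obtain ⟨a, rfl⟩ := QuotientGroup.mk_surjective ω
  refine ⟨a, ?_⟩
  have hfix : (⟨k', Subgroup.mem_zpowers k'⟩ : Subgroup.zpowers k') • (a : G ⧸ H) = a :=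
    hω ⟨k', Subgroup.mem_zpowers k'⟩
  have hfix' : ((k' * a : G) : G ⧸ H) = (a : G ⧸ H) := hfix
  rw [QuotientGroup.eq] at hfix'
  have hx : a⁻¹ * k' * a ∈ H := by
    have := H.inv_mem hfix'
    convert this using 1
    group
  have hx1 : a⁻¹ * k' * a ≠ 1 := by
    intro h
    apply hk'1
    calc k' = a * (a⁻¹ * k' * a) * a⁻¹ := by group
      _ = 1 := by rw [h]; group
  apply mem_normalizer_of_ti H hTI _ _ hx hx1
  have hcomm : k * k' = k' * k := by
    rw [hk']
    exact (Commute.pow_right (Commute.refl k) _).eq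
  have : a⁻¹ * k * a * (a⁻¹ * k' * a) * (a⁻¹ * k * a)⁻¹ = a⁻¹ * k' * a := by
    calc a⁻¹ * k * a * (a⁻¹ * k' * a) * (a⁻¹ * k * a)⁻¹
        = a⁻¹ * (k * k') * k⁻¹ * a := by group
      _ = a⁻¹ * (k' * k) * k⁻¹ * a := by rw [hcomm]
      _ = a⁻¹ * k' * a := by group
  rw [this]
  exact hx

end main

theorem result {G : Type*} [Group G] [Finite G] (H : Subgroup G)
    (hHall : (Nat.card H).Coprime H.index) (hTI : Cfsg.IsTISubset (H : Set G))
    (K : Subgroup G) (hK : ∀ q : ℕ, q.Prime → q ∣ Nat.card K → q ∣ Nat.card H) :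
    ∃ g : G, K ≤ H.map (MulAut.conj g).toMonoidHom := by
  by_cases hKbot : K = ⊥
  · exact ⟨1, hKbot ▸ bot_le⟩
  haveI : Nontrivial K := (Subgroup.nontrivial_iff_ne_bot K).mpr hKbot
  set N := Subgroup.normalizer (H : Set G) with hN
  -- orders of elements of K
  have hKord : ∀ k ∈ K, ∀ q : ℕ, q.Prime → q ∣ orderOf k → q ∣ Nat.card H := by
    intro k hk q hq hqd
    apply hK q hq
    exact hqd.trans (Subgroup.orderOf_dvd_natCard K hk)
  have hKcop : ∀ k ∈ K, ∀ a : G, (orderOf (a⁻¹ * k * a)).Coprime H.index := by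
    intro k hk a
    rw [orderOf_conj']
    apply Nat.Coprime.symm
    apply Nat.Coprime.symm
    apply Nat.coprime_of_dvd
    intro q hq hq1 hq2
    have h1 := hKord k hk q hq hq1
    have := Nat.dvd_gcd h1 hq2
    rw [hHall] at this
    exact hq.one_lt.ne' (Nat.dvd_one.mp this)
  -- the fixed-point property
  have hfp : ∀ k : K, k ≠ 1 → ∃! ω : G ⧸ N, k • ω = ω := by
    intro k hk1
    have hk1' : (k : G) ≠ 1 := fun h => hk1 (Subtype.ext h)
    obtain ⟨a, ha⟩ := exists_conj_mem H hHall hTI (k : G) hk1' (hKord k k.2)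
    have key : ∀ b : G, k • (b : G ⧸ N) = b ↔ b⁻¹ * (k : G) * b ∈ N := by
      intro b
      have : k • (b : G ⧸ N) = (((k : G) * b : G) : G ⧸ N) := rfl
      rw [this, QuotientGroup.eq]
      constructor
      · intro h
        have := N.inv_mem h
        convert this using 1
        group
      · intro h
        have := N.inv_mem h
        convert this using 1
        group
    refine ⟨(a : G ⧸ N), (key a).mpr ha, ?_⟩
    intro ω hω
    obtain ⟨b, rfl⟩ := QuotientGroup.mk_surjective ω
    rw [key] at hω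
    have hx : b⁻¹ * (k : G) * b ∈ H := mem_of_mem_normalizer H _ hω (hKcop k k.2 b)
    have hy : a⁻¹ * (k : G) * a ∈ H := mem_of_mem_normalizer H _ ha (hKcop k k.2 a)
    have hx1 : b⁻¹ * (k : G) * b ≠ 1 := by
      intro h
      apply hk1'
      calc (k : G) = b * (b⁻¹ * (k : G) * b) * b⁻¹ := by group
        _ = 1 := by rw [h]; group
    have hc : a⁻¹ * b ∈ N := by
      apply mem_normalizer_of_ti H hTI _ _ hx hx1
      have : a⁻¹ * b * (b⁻¹ * (k : G) * b) * (a⁻¹ * b)⁻¹ = a⁻¹ * (k : G) * a := by group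
      rw [this]
      exact hy
    exact (QuotientGroup.eq.mpr hc).symm
  obtain ⟨ω, hω⟩ := exists_global_fixed_point hfp
  obtain ⟨a, rfl⟩ := QuotientGroup.mk_surjective ω
  refine ⟨a, ?_⟩
  intro k hk
  have h1 : (⟨k, hk⟩ : K) • (a : G ⧸ N) = a := hω ⟨k, hk⟩
  have h2 : ((k * a : G) : G ⧸ N) = (a : G ⧸ N) := h1
  rw [QuotientGroup.eq] at h2
  have h3 : a⁻¹ * k * a ∈ N := by
    have := N.inv_mem h2
    convert this using 1
    group
  have h4 : a⁻¹ * k * a ∈ H := mem_of_mem_normalizer H _ h3 (hKcop k hk a)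
  rw [Subgroup.mem_map]
  refine ⟨a⁻¹ * k * a, h4, ?_⟩
  simp [MulAut.conj_apply]
  group

end Cfsg.Agent.S4116
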