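import Mathlib
import Cfsg.Statements.S4115
import Cfsg.Agent.Lib.Helper52_Wielandt
import Cfsg.Agent.S4116
import Cfsg.Agent.S4108
import Cfsg.Agent.S0055
import Cfsg.Agent.S3389
import Cfsg.Agent.Lib.Helper24_CoprimeAction

set_option autoImplicit false
set_option linter.unusedSectionVars false
set_option linter.style.haveILetI false
universe u

namespace Cfsg.Agent.S4115

open Cfsg Cfsg.Agent.Lib.Helper52_Wielandt
open scoped commutatorElement

theorem isComplement'_of_normal {G : Type*} [Group G] (M H : Subgroup G) [M.Normal]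
    (h1 : M ⊓ H = ⊥) (h2 : M ⊔ H = ⊤) : M.IsComplement' H := by
  apply Subgroup.isComplement'_of_disjoint_and_mul_eq_univ (disjoint_iff.2 h1)
  rw [← Subgroup.normal_mul, h2]; rfl

section

variable {G : Type u} [Group G] [Finite G] (H : Subgroup G)

local notation "NH" => Subgroup.normalizer (H : Set G)

theorem complement_aux (M : Subgroup G) [M.Normal] (hM : M.IsComplement' H) :
    (M.subgroupOf NH).IsComplement' (H.subgroupOf NH) := by
  apply Subgroup.isComplement'_of_disjoint_and_mul_eq_univ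
  · rw [disjoint_iff, eq_bot_iff]
    intro x hx
    obtain ⟨hx1, hx2⟩ := Subgroup.mem_inf.1 hx
    rw [Subgroup.mem_subgroupOf] at hx1 hx2
    have : (x : G) ∈ M ⊓ H := ⟨hx1, hx2⟩
    rw [hM.disjoint.eq_bot, Subgroup.mem_bot] at this
    rw [Subgroup.mem_bot]
    exact Subtype.ext this
  · rw [Set.eq_univ_iff_forall]
    intro n
    have hn : (n : G) ∈ ((M ⊔ H : Subgroup G) : Set G) := by
      rw [hM.sup_eq_top]; exact Set.mem_univ _
    rw [Subgroup.normal_mul] at hn
    obtain ⟨m, hm, h, hh, hmh⟩ := Set.mem_mul.1 hn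
    have hhN : h ∈ NH := Subgroup.le_normalizer hh
    have hmN : m ∈ NH := by
      have : m = (n : G) * h⁻¹ := by rw [← hmh]; group
      rw [this]
      exact Subgroup.mul_mem _ n.2 (Subgroup.inv_mem _ hhN)
    refine Set.mem_mul.2 ⟨⟨m, hmN⟩, ?_, ⟨h, hhN⟩, ?_, ?_⟩
    · rw [SetLike.mem_coe, Subgroup.mem_subgroupOf]; exact hm
    · rw [SetLike.mem_coe, Subgroup.mem_subgroupOf]; exact hh
    · exact Subtype.ext hmh

/-- (⇐) a normal complement in `G` restricts to one in the normalizer. -/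
theorem complement_in_normalizer (M : Subgroup G) [M.Normal] (hM : M.IsComplement' H) :
    ∃ K : Subgroup NH, K.Normal ∧ K.IsComplement' (H.subgroupOf NH) :=
  ⟨M.subgroupOf NH, inferInstance, complement_aux H M hM⟩

/-- the Wielandt hypothesis for `(N_G(H), K)` -/
theorem whyp_of_complement (hTI : Cfsg.IsTISubset (H : Set G))
    (hHall : (Nat.card H).Coprime (H.subgroupOf NH).index)
    (K : Subgroup NH) [K.Normal] (hK : K.IsComplement' (H.subgroupOf NH)) :
    WHyp NH (K.map (Subgroup.subtype NH)) := by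
  have hHNn : (H.subgroupOf NH).Normal := Subgroup.normal_in_normalizer
  have hcardK : Nat.card K = (H.subgroupOf NH).index := hK.index_eq_card.symm
  have hcardH : Nat.card (H.subgroupOf NH) = Nat.card H :=
    Nat.card_congr (Subgroup.subgroupOfEquivOfLe Subgroup.le_normalizer).toEquiv
  have hidxK : K.index = Nat.card H := by
    rw [← hcardH]; exact hK.symm.index_eq_card
  set c := Nat.card K with hc
  -- every `c`-th power lies in `H`
  have hA : ∀ y : NH, y ^ c ∈ H.subgroupOf NH := by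
    intro y
    have h1 : ((y : NH ⧸ H.subgroupOf NH)) ^ c = 1 := by
      have : Nat.card (NH ⧸ H.subgroupOf NH) = c := by
        rw [hcardK]; rfl
      rw [← this]
      exact pow_card_eq_one'
    rw [← QuotientGroup.mk_pow, QuotientGroup.eq_one_iff] at h1
    exact h1
  -- elements of order dividing `c` lie in `K`
  have hB : ∀ y : NH, y ^ c = 1 → y ∈ K := by
    intro y hy
    have h1 : ((y : NH ⧸ K)) ^ c = 1 := by
      rw [← QuotientGroup.mk_pow, hy]; rfl
    have h2 : ((y : NH ⧸ K)) ^ (Nat.card H) = 1 := by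
      have : Nat.card (NH ⧸ K) = Nat.card H := by
        rw [← hidxK]; rfl
      rw [← this]
      exact pow_card_eq_one'
    have h3 : orderOf (y : NH ⧸ K) ∣ c := orderOf_dvd_of_pow_eq_one h1
    have h4 : orderOf (y : NH ⧸ K) ∣ Nat.card H := orderOf_dvd_of_pow_eq_one h2
    have hcop : (Nat.card H).Coprime c := by rw [hcardK]; exact hHall
    have h5 : orderOf (y : NH ⧸ K) = 1 := Nat.eq_one_of_dvd_coprimes hcop h4 h3
    rw [orderOf_eq_one_iff, QuotientGroup.eq_one_iff] at h5
    exact h5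
  refine ⟨Subgroup.map_subtype_le K, ?_, ?_⟩
  · intro n hn k hk
    obtain ⟨k', hk', rfl⟩ := hk
    refine ⟨(⟨n, hn⟩ : NH) * k' * (⟨n, hn⟩ : NH)⁻¹, ?_, ?_⟩
    · exact (inferInstance : K.Normal).conj_mem k' hk' ⟨n, hn⟩
    · simp
  · intro x hx n hn hxn
    have h1 : n ^ c ∈ H := by
      have := hA ⟨n, hn⟩
      rw [Subgroup.mem_subgroupOf] at this
      simpa using this
    have h2 : x⁻¹ * n ^ c * x ∈ H := by
      have := hA ⟨x⁻¹ * n * x, hxn⟩
      rw [Subgroup.mem_subgroupOf] at this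
      have e : x⁻¹ * n ^ c * x = (x⁻¹ * n * x) ^ c := by
        rw [show x⁻¹ * n * x = x⁻¹ * n * x⁻¹⁻¹ by group, conj_pow]; group
      rw [e]
      simpa using this
    have hx' : x⁻¹ ∉ NH := fun h' => hx (by simpa using Subgroup.inv_mem _ h')
    have h3 : n ^ c = 1 := by
      apply hTI x⁻¹ hx' _ h1
      simpa using h2
    have h4 : (⟨n, hn⟩ : NH) ∈ K := by
      apply hB
      apply Subtype.ext
      simpa using h3
    exact ⟨⟨n, hn⟩, h4, rfl⟩

/-- (⇒) a normal complement in the normalizer extends to one in `G`. -/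
theorem complement_in_group (hTI : Cfsg.IsTISubset (H : Set G))
    (hHall : (Nat.card H).Coprime (H.subgroupOf NH).index)
    (K : Subgroup NH) [K.Normal] (hK : K.IsComplement' (H.subgroupOf NH)) :
    ∃ M : Subgroup G, M.Normal ∧ M.IsComplement' H := by
  obtain ⟨M, hMn, hMN, hMsup⟩ := exists_wielandt_kernel (whyp_of_complement H hTI hHall K hK)
  refine ⟨M, hMn, ?_⟩
  apply isComplement'_of_normal
  · rw [eq_bot_iff]
    intro x hx
    obtain ⟨hx1, hx2⟩ := Subgroup.mem_inf.1 hx
    have hxN : x ∈ NH := Subgroup.le_normalizer hx2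
    have : x ∈ M ⊓ NH := ⟨hx1, hxN⟩
    rw [hMN] at this
    obtain ⟨k, hk, hkx⟩ := this
    have hkH : k ∈ H.subgroupOf NH := by
      rw [Subgroup.mem_subgroupOf]
      rw [← hkx] at hx2
      exact hx2
    have : k ∈ K ⊓ H.subgroupOf NH := ⟨hk, hkH⟩
    rw [hK.disjoint.eq_bot, Subgroup.mem_bot] at this
    rw [Subgroup.mem_bot, ← hkx, this]
    rfl
  · rw [eq_top_iff]
    intro g _
    have hg : g ∈ ((M ⊔ NH : Subgroup G) : Set G) := by rw [hMsup]; exact Set.mem_univ _
    rw [Subgroup.normal_mul] at hg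
    obtain ⟨m, hm, n, hn, rfl⟩ := Set.mem_mul.1 hg
    have hn' : (⟨n, hn⟩ : NH) ∈ ((K ⊔ H.subgroupOf NH : Subgroup NH) : Set NH) := by
      rw [hK.sup_eq_top]; exact Set.mem_univ _
    rw [Subgroup.normal_mul] at hn'
    obtain ⟨k, hk, h, hh, hkh⟩ := Set.mem_mul.1 hn'
    have hkM : (k : G) ∈ M := by
      have : (k : G) ∈ K.map (Subgroup.subtype NH) := ⟨k, hk, rfl⟩
      rw [← hMN] at this
      exact this.1
    have hhH : (h : G) ∈ H := by
      rw [SetLike.mem_coe, Subgroup.mem_subgroupOf] at hh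
      exact hh
    have e : n = (k : G) * (h : G) := by
      have := congrArg Subtype.val hkh
      simpa using this.symm
    rw [e, ← mul_assoc]
    exact Subgroup.mul_mem _ (Subgroup.mem_sup_left (Subgroup.mul_mem _ hm hkM))
      (Subgroup.mem_sup_right hhH)

/-- centralizers in `M` of nonidentity elements of `H` are `M ∩ N_G(H)` -/
theorem commute_iff_mem_normalizer (M : Subgroup G) [hMn : M.Normal]
    (hTI : Cfsg.IsTISubset (H : Set G)) (hMH : M ⊓ H = ⊥) {h m : G} (hh : h ∈ H) (h1 : h ≠ 1)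
    (hm : m ∈ M) : h * m = m * h ↔ m ∈ NH := by
  constructor
  · intro hc
    by_contra hm'
    apply h1
    apply hTI m hm' h hh
    have : m * h * m⁻¹ = h := by rw [← hc]; group
    rw [this]; exact hh
  · intro hmN
    have h2 : m * h * m⁻¹ ∈ H := (Subgroup.mem_normalizer_iff.1 hmN h).1 hh
    have h3 : m * h * m⁻¹ * h⁻¹ ∈ H := H.mul_mem h2 (H.inv_mem hh)
    have h4 : m * h * m⁻¹ * h⁻¹ ∈ M := by
      have : m * h * m⁻¹ * h⁻¹ = m * (h * m⁻¹ * h⁻¹) := by group
      rw [this]
      exact M.mul_mem hm (hMn.conj_mem _ (M.inv_mem hm) h)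
    have h5 : m * h * m⁻¹ * h⁻¹ ∈ M ⊓ H := ⟨h4, h3⟩
    rw [hMH, Subgroup.mem_bot] at h5
    have : m * h = h * m := by
      calc m * h = (m * h * m⁻¹ * h⁻¹) * (h * m) := by group
        _ = h * m := by rw [h5, one_mul]
    exact this.symm

/-- conjugation action of `H` on the elements of `M` outside `N_G(H)` -/
@[reducible] def conjAct (M : Subgroup G) [hMn : M.Normal] :
    MulAction H {m : M // (m : G) ∉ NH} where
  smul h x := ⟨⟨(h : G) * x.1 * (h : G)⁻¹, hMn.conj_mem _ x.1.2 h⟩, fun hx => x.2 (by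
    have hh : (h : G) ∈ NH := Subgroup.le_normalizer h.2
    have : ((x.1 : M) : G) = (h : G)⁻¹ * ((h : G) * x.1 * (h : G)⁻¹) * (h : G) := by group
    rw [this]
    exact Subgroup.mul_mem _ (Subgroup.mul_mem _ (Subgroup.inv_mem _ hh) hx) hh)⟩
  one_smul x := by
    apply Subtype.ext; apply Subtype.ext
    show ((1 : H) : G) * x.1 * ((1 : H) : G)⁻¹ = x.1
    simp
  mul_smul a b x := by
    apply Subtype.ext; apply Subtype.ext
    show ((a * b : H) : G) * x.1 * ((a * b : H) : G)⁻¹ = (a : G) * ((b : G) * x.1 * (b : G)⁻¹) * (a : G)⁻¹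
    simp [mul_assoc]

theorem coprime_card (M : Subgroup G) [hMn : M.Normal]
    (hTI : Cfsg.IsTISubset (H : Set G)) (hM : M.IsComplement' H)
    (hHall : (Nat.card H).Coprime (H.subgroupOf NH).index) :
    (Nat.card H).Coprime (Nat.card M) := by
  classical
  have hMH : M ⊓ H = ⊥ := hM.disjoint.eq_bot
  letI := conjAct H M
  have hfree : ∀ (x : {m : M // (m : G) ∉ NH}) (h : H), h • x = x → h = 1 := by
    intro x h hx
    by_contra h1
    apply x.2
    have h1' : (h : G) ≠ 1 := fun e => h1 (Subtype.ext e)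
    rw [← commute_iff_mem_normalizer H M hTI hMH h.2 h1' x.1.2]
    have := congrArg (fun y : {m : M // (m : G) ∉ NH} => ((y.1 : M) : G)) hx
    have h2 : (h : G) * x.1 * (h : G)⁻¹ = x.1 := this
    calc (h : G) * x.1 = ((h : G) * x.1 * (h : G)⁻¹) * h := by group
      _ = x.1 * h := by rw [h2]
  have hdvd : Nat.card H ∣ Nat.card {m : M // (m : G) ∉ NH} :=
    Cfsg.Agent.S3389.card_dvd_of_free hfree
  have hsum : Nat.card {m : M // (m : G) ∈ NH} + Nat.card {m : M // (m : G) ∉ NH} = Nat.card M := by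
    rw [← Nat.card_sum]
    exact Nat.card_congr (Equiv.sumCompl (fun m : M => (m : G) ∈ NH))
  have hK : Nat.card {m : M // (m : G) ∈ NH} = (H.subgroupOf NH).index := by
    have hc := Cfsg.Agent.S4115.complement_aux H M hM
    rw [hc.index_eq_card]
    apply Nat.card_congr
    exact
      { toFun := fun x => ⟨⟨x.1.1, x.2⟩, by rw [Subgroup.mem_subgroupOf]; exact x.1.2⟩
        invFun := fun y => ⟨⟨y.1.1, by have := y.2; rwa [Subgroup.mem_subgroupOf] at this⟩, y.1.2⟩
        left_inv := fun x => rfl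
        right_inv := fun y => rfl }
  set d := Nat.gcd (Nat.card H) (Nat.card M) with hd
  have hd1 : d ∣ Nat.card H := Nat.gcd_dvd_left _ _
  have hd2 : d ∣ Nat.card M := Nat.gcd_dvd_right _ _
  have hd3 : d ∣ Nat.card {m : M // (m : G) ∉ NH} := hd1.trans hdvd
  have hd4 : d ∣ (H.subgroupOf NH).index := by
    rw [← hK]
    rw [← hsum] at hd2
    exact (Nat.dvd_add_left hd3).1 hd2
  exact Nat.eq_one_of_dvd_coprimes hHall hd1 hd4

/-- a Sylow `q`-subgroup of `G` lies in the normal subgroup `M` when `q ∤ |G : M|` -/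
theorem sylow_le_normal (M : Subgroup G) [hMn : M.Normal] (q : ℕ) [Fact q.Prime]
    (hq : ¬ q ∣ M.index) (S : Sylow q G) : (S : Subgroup G) ≤ M := by
  intro s hs
  obtain ⟨k, hk⟩ := S.2 ⟨s, hs⟩
  have hk' : s ^ q ^ k = 1 := by
    have := congrArg Subtype.val hk
    simpa using this
  have h1 : orderOf (s : G ⧸ M) ∣ q ^ k := by
    apply orderOf_dvd_of_pow_eq_one
    rw [← QuotientGroup.mk_pow, hk']; rfl
  have h2 : orderOf (s : G ⧸ M) ∣ M.index := by
    have : M.index = Nat.card (G ⧸ M) := rfl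
    rw [this]
    exact orderOf_dvd_natCard _
  have hcop : (q ^ k).Coprime M.index :=
    Nat.Coprime.pow_left k ((Nat.Prime.coprime_iff_not_dvd Fact.out).2 hq)
  have h3 : orderOf (s : G ⧸ M) = 1 := Nat.eq_one_of_dvd_coprimes hcop h1 h2
  rw [orderOf_eq_one_iff, QuotientGroup.eq_one_iff] at h3
  exact h3

theorem exists_invariant_sylow (M : Subgroup G) [hMn : M.Normal]
    (hTI : Cfsg.IsTISubset (H : Set G)) (hM : M.IsComplement' H)
    (hcop : (Nat.card H).Coprime (Nat.card M)) (q : ℕ) [Fact q.Prime] (hq : q ∣ Nat.card M) :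
    ∃ S : Sylow q G, (S : Subgroup G) ≤ M ∧
      H ≤ Subgroup.normalizer ((S : Subgroup G) : Set G) := by
  have hidxH : H.index = Nat.card M := hM.index_eq_card
  have hidxM : M.index = Nat.card H := hM.symm.index_eq_card
  have hHallG : (Nat.card H).Coprime H.index := by rw [hidxH]; exact hcop
  have hqH : ¬ q ∣ Nat.card H := by
    intro h
    have := Nat.eq_one_of_dvd_coprimes hcop h hq
    exact (Fact.out : q.Prime).one_lt.ne' this
  obtain S₀ : Sylow q G := default
  have hS₀M : (S₀ : Subgroup G) ≤ M := sylow_le_normal M q (by rw [hidxM]; exact hqH) S₀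
  set L : Subgroup G := Subgroup.normalizer ((S₀ : Subgroup G) : Set G) with hL
  have hLM : L ⊔ M = ⊤ := Sylow.normalizer_sup_eq_top' S₀ hS₀M
  -- Schur–Zassenhaus in `L`
  have hML_idx : (M.subgroupOf L).index = Nat.card H := by
    show M.relIndex L = _
    rw [← Subgroup.relIndex_sup_right, hLM, Subgroup.relIndex_top_right, hidxM]
  have hML_card : Nat.card (M.subgroupOf L) ∣ Nat.card M :=
    Subgroup.card_dvd_of_injective (Subgroup.subtype L |>.comp (Subgroup.subtype _) |>.codRestrict M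
      (fun x => by
        have := x.2
        rw [Subgroup.mem_subgroupOf] at this
        exact this)) (by
      intro x y hxy
      apply Subtype.ext; apply Subtype.ext
      have := congrArg Subtype.val hxy
      exact this)
  have hcopL : (Nat.card (M.subgroupOf L)).Coprime (M.subgroupOf L).index := by
    rw [hML_idx]
    exact (Nat.Coprime.coprime_dvd_right hML_card hcop).symm
  obtain ⟨H₁', hH₁'⟩ := Subgroup.exists_right_complement'_of_coprime hcopL
  have hH₁'card : Nat.card H₁' = Nat.card H := by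
    rw [← hML_idx]; exact hH₁'.symm.index_eq_card.symm
  set H₁ : Subgroup G := H₁'.map L.subtype with hH₁
  have hH₁card : Nat.card H₁ = Nat.card H := by
    rw [← hH₁'card]
    exact Subgroup.card_map_of_injective (Subgroup.subtype_injective L)
  have hH₁L : H₁ ≤ L := Subgroup.map_subtype_le H₁'
  obtain ⟨g, hg⟩ := Cfsg.Agent.S4116.result H hHallG hTI H₁ (fun r _ hr => by
    rw [hH₁card] at hr; exact hr)
  have hcardconj : Nat.card (H.map (MulAut.conj g).toMonoidHom) = Nat.card H :=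
    Subgroup.card_map_of_injective (MulAut.conj g).injective
  have hH₁eq : H₁ = H.map (MulAut.conj g).toMonoidHom :=
    Subgroup.eq_of_le_of_card_ge hg (by rw [hcardconj, hH₁card])
  refine ⟨g⁻¹ • S₀, ?_, ?_⟩
  · rw [Sylow.coe_subgroup_smul]
    intro x hx
    rw [Subgroup.mem_pointwise_smul_iff_inv_smul_mem] at hx
    have h1 : (MulAut.conj g⁻¹)⁻¹ • x ∈ M := hS₀M hx
    rw [MulAut.smul_def, ← map_inv, inv_inv, MulAut.conj_apply] at h1
    have : x = g⁻¹ * (g * x * g⁻¹) * g⁻¹⁻¹ := by group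
    rw [this]
    exact hMn.conj_mem _ h1 g⁻¹
  · intro h hh
    have h1 : g * h * g⁻¹ ∈ L := by
      apply hH₁L
      rw [hH₁eq]
      exact ⟨h, hh, by simp [MulAut.conj_apply]⟩
    rw [hL, Subgroup.mem_normalizer_iff] at h1
    rw [Subgroup.mem_normalizer_iff, Sylow.coe_subgroup_smul]
    intro x
    rw [Subgroup.mem_pointwise_smul_iff_inv_smul_mem, Subgroup.mem_pointwise_smul_iff_inv_smul_mem,
      MulAut.smul_def, MulAut.smul_def, ← map_inv, inv_inv, MulAut.conj_apply, MulAut.conj_apply]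
    rw [h1 (g * x * g⁻¹)]
    have : g * h * g⁻¹ * (g * x * g⁻¹) * (g * h * g⁻¹)⁻¹ = g * (h * x * h⁻¹) * g⁻¹ := by group
    rw [this]

/-- if `h` centralizes `d = ⁅h, s⁆`-like element of coprime order then `h` and `s` commute -/
theorem commute_of_commutator_mem (H D : Subgroup G) (q : ℕ) [Fact q.Prime] (hD : IsPGroup q D)
    (hq : (Nat.card H).Coprime q) (hcent : ∀ d ∈ D, ∀ h ∈ H, h * d = d * h) {h s : G}
    (hh : h ∈ H) (hd : h * s * h⁻¹ * s⁻¹ ∈ D) : h * s = s * h := by
  set d := h * s * h⁻¹ * s⁻¹ with hd_def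
  have hcomm : Commute h d := hcent d hd h hh
  have hs : h * s * h⁻¹ = d * s := by rw [hd_def]; group
  have key : ∀ i : ℕ, h ^ i * s * (h ^ i)⁻¹ = d ^ i * s := by
    intro i
    induction i with
    | zero => simp
    | succ i ih =>
      have hci : Commute h (d ^ i) := hcomm.pow_right i
      calc h ^ (i + 1) * s * (h ^ (i + 1))⁻¹ = h * (h ^ i * s * (h ^ i)⁻¹) * h⁻¹ := by
            rw [pow_succ']; group
        _ = h * (d ^ i * s) * h⁻¹ := by rw [ih]
        _ = (h * d ^ i) * h⁻¹ * (h * s * h⁻¹) := by group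
        _ = (d ^ i * h) * h⁻¹ * (d * s) := by rw [hci.eq, hs]
        _ = d ^ (i + 1) * s := by rw [pow_succ]; group
  have h1 := key (orderOf h)
  rw [pow_orderOf_eq_one] at h1
  have h2 : d ^ orderOf h = 1 := by
    have : s = d ^ orderOf h * s := by simpa using h1
    calc d ^ orderOf h = (d ^ orderOf h * s) * s⁻¹ := by group
      _ = 1 := by rw [← this]; group
  obtain ⟨k, hk⟩ := hD ⟨d, hd⟩
  have hk' : d ^ q ^ k = 1 := by
    have := congrArg Subtype.val hk
    simpa using this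
  have h3 : orderOf d ∣ orderOf h := orderOf_dvd_of_pow_eq_one h2
  have h4 : orderOf d ∣ q ^ k := orderOf_dvd_of_pow_eq_one hk'
  have h5 : orderOf h ∣ Nat.card H := by
    have := orderOf_dvd_natCard (⟨h, hh⟩ : H)
    rwa [Subgroup.orderOf_mk] at this
  have hcop : (Nat.card H).Coprime (q ^ k) := Nat.Coprime.pow_right k hq
  have h6 : orderOf d = 1 := Nat.eq_one_of_dvd_coprimes hcop (h3.trans h5) h4
  rw [orderOf_eq_one_iff] at h6
  have : h * s * h⁻¹ * s⁻¹ = 1 := h6
  calc h * s = (h * s * h⁻¹ * s⁻¹) * (s * h) := by group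
    _ = s * h := by rw [this, one_mul]

/-- terminal case: `H` centralizes `⁅S, S⁆` -/
theorem frob_of_abelian_quotient (H : Subgroup G) (hH : H ≠ ⊥) (q : ℕ) [Fact q.Prime]
    (hq : (Nat.card H).Coprime q) (S : Subgroup G) (hS : IsPGroup q S)
    (hHS : H ≤ Subgroup.normalizer (S : Set G))
    (hsame : ∀ h ∈ H, h ≠ 1 → ∀ s ∈ S, h * s = s * h → ∀ h' ∈ H, h' * s = s * h')
    (hnc : ∃ s ∈ S, ∃ h ∈ H, h * s ≠ s * h)
    (hcent : ∀ d ∈ ⁅S, S⁆, ∀ h ∈ H, h * d = d * h) :
    ∃ (F : Type u) (_ : Group F) (_ : Finite F) (C : Subgroup F),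
      Cfsg.IsFrobeniusComplement C ∧ Nonempty (H ≃* C) := by
  set D : Subgroup G := ⁅S, S⁆ with hD
  have hDS : D ≤ S := by
    rw [hD, Subgroup.commutator_le]
    intro a ha b hb
    rw [commutatorElement_def]
    exact S.mul_mem (S.mul_mem (S.mul_mem ha hb) (S.inv_mem ha)) (S.inv_mem hb)
  have hDq : IsPGroup q D := hS.to_le hDS
  set L : Subgroup G := Subgroup.normalizer (D : Set G) with hL
  have hnormD : Subgroup.normalizer (S : Set G) ≤ L := fun g hg =>
    Cfsg.Agent.Lib.Helper24_CoprimeAction.mem_normalizer_commutator S S hg hg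
  have hSL : S ≤ L := Subgroup.le_normalizer.trans hnormD
  have hHL : H ≤ L := hHS.trans hnormD
  have hDn : (D.subgroupOf L).Normal := Subgroup.normal_in_normalizer
  let Q := L ⧸ D.subgroupOf L
  let π : L →* Q := QuotientGroup.mk' (D.subgroupOf L)
  have hπ : ∀ x y : L, π x = π y ↔ ((x : G)⁻¹ * y) ∈ D := by
    intro x y
    show (QuotientGroup.mk x : Q) = QuotientGroup.mk y ↔ _
    rw [QuotientGroup.eq, Subgroup.mem_subgroupOf]
    simp
  let ιS : S →* Q := π.comp (Subgroup.inclusion hSL)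
  let κH : H →* Q := π.comp (Subgroup.inclusion hHL)
  -- coprimality
  obtain ⟨k, hk⟩ := hS.exists_card_eq
  have hcopHS : (Nat.card H).Coprime (Nat.card S) := by rw [hk]; exact Nat.Coprime.pow_right k hq
  have hHSbot : H ⊓ S = ⊥ := (Subgroup.disjoint_of_coprime_natCard hcopHS).eq_bot
  -- the trick
  have htrick : ∀ (h : H) (s : S), κH h * ιS s = ιS s * κH h → (h : G) * s = s * h := by
    intro h s hc
    apply commute_of_commutator_mem H D q hDq hq hcent h.2
    have h1 : π (Subgroup.inclusion hSL s * Subgroup.inclusion hHL h) =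
        π (Subgroup.inclusion hHL h * Subgroup.inclusion hSL s) := by
      rw [map_mul, map_mul]; exact hc.symm
    rw [hπ] at h1
    have h2 : ((s : G) * h)⁻¹ * ((h : G) * s) ∈ D := by simpa using h1
    -- conjugate by `s * h` (which normalizes `D`)
    have hsh : (s : G) * h ∈ L := L.mul_mem (hSL s.2) (hHL h.2)
    have h3 := (Subgroup.mem_normalizer_iff.1 hsh _).1 h2
    have e : (s : G) * h * (((s : G) * h)⁻¹ * ((h : G) * s)) * ((s : G) * h)⁻¹ =
        (h : G) * s * (h : G)⁻¹ * (s : G)⁻¹ := by group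
    rw [e] at h3
    exact h3
  -- injectivity of `κH`
  have hκinj : Function.Injective κH := by
    rw [injective_iff_map_eq_one]
    intro h hh1
    have h1 : π (Subgroup.inclusion hHL h) = π 1 := by rw [map_one]; exact hh1
    rw [hπ] at h1
    have h2 : (h : G) ∈ D := by
      have : ((h : G)⁻¹) ∈ D := by simpa using h1
      simpa using D.inv_mem this
    have h3 : (h : G) ∈ H ⊓ S := ⟨h.2, hDS h2⟩
    rw [hHSbot, Subgroup.mem_bot] at h3
    exact Subtype.ext h3
  set V : Subgroup Q := ιS.range with hV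
  set A : Subgroup Q := κH.range with hA
  have hVcomm : IsMulCommutative V := by
    refine ⟨⟨fun a b => ?_⟩⟩
    obtain ⟨s₁, hs₁⟩ := a.2
    obtain ⟨s₂, hs₂⟩ := b.2
    apply Subtype.ext
    show (a : Q) * b = b * a
    rw [← hs₁, ← hs₂, ← map_mul, ← map_mul]
    show π (Subgroup.inclusion hSL (s₁ * s₂)) = π (Subgroup.inclusion hSL (s₂ * s₁))
    rw [hπ]
    have : ((Subgroup.inclusion hSL (s₁ * s₂) : L) : G)⁻¹ * (Subgroup.inclusion hSL (s₂ * s₁) : L) =
        ⁅(s₂ : G)⁻¹, (s₁ : G)⁻¹⁆ := by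
      rw [commutatorElement_def]
      simp [mul_assoc]
    rw [this]
    exact Subgroup.commutator_mem_commutator (S.inv_mem s₂.2) (S.inv_mem s₁.2)
  have hconj : ∀ a ∈ A, ∀ v ∈ V, a * v * a⁻¹ ∈ V := by
    rintro _ ⟨h, rfl⟩ _ ⟨s, rfl⟩
    have hmem : (h : G) * s * (h : G)⁻¹ ∈ S := (Subgroup.mem_normalizer_iff.1 (hHS h.2) s).1 s.2
    refine ⟨⟨_, hmem⟩, ?_⟩
    show π _ = π _ * π _ * (π _)⁻¹
    rw [← map_mul, ← map_inv, ← map_mul]
    congr 1
  have hAV : A ≤ Subgroup.normalizer (V : Set Q) := by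
    intro a ha
    rw [Subgroup.mem_normalizer_iff]
    intro x
    constructor
    · exact hconj a ha x
    · intro hx
      have := hconj a⁻¹ (A.inv_mem ha) _ hx
      simpa [mul_assoc] using this
  have hcardA : Nat.card A = Nat.card H :=
    (Nat.card_congr (MonoidHom.ofInjective hκinj).toEquiv).symm
  have hcopAV : (Nat.card A).Coprime (Nat.card V) := by
    rw [hcardA]
    exact Nat.Coprime.coprime_dvd_right (Subgroup.card_range_dvd ιS) hcopHS
  obtain ⟨hdec1, hdec2⟩ := Cfsg.Agent.S0055.result A V hAV hcopAV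
  set A₁ : Subgroup Q := ⁅V, A⁆ with hA₁
  have hA₁V : A₁ ≤ V := Cfsg.Agent.Lib.Helper24_CoprimeAction.commutator_le_of_le_normalizer V A hAV
  -- fixed-point-freeness
  have hfpf : ∀ a ∈ A, a ≠ 1 → ∀ v ∈ A₁, a * v = v * a → v = 1 := by
    rintro _ ⟨h, rfl⟩ ha1 v hv hc
    obtain ⟨s, rfl⟩ := hA₁V hv
    have hh1 : (h : G) ≠ 1 := by
      intro e
      apply ha1
      have : h = 1 := Subtype.ext e
      rw [this, map_one]
    have h1 := htrick h s hc
    have h2 := hsame h h.2 hh1 s s.2 h1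
    have h3 : ιS s ∈ V ⊓ Subgroup.centralizer (A : Set Q) := by
      refine Subgroup.mem_inf.2 ⟨⟨s, rfl⟩, ?_⟩
      rw [Subgroup.mem_centralizer_iff]
      rintro _ ⟨h', rfl⟩
      have := h2 h' h'.2
      show π _ * π _ = π _ * π _
      rw [← map_mul, ← map_mul]
      congr 1
      exact Subtype.ext this
    have h4 : ιS s ∈ (V ⊓ Subgroup.centralizer (A : Set Q)) ⊓ A₁ := ⟨h3, hv⟩
    rw [hdec1, Subgroup.mem_bot] at h4
    exact h4
  have hA₁ne : A₁ ≠ ⊥ := by
    intro hbot
    rw [hbot, sup_bot_eq] at hdec2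
    obtain ⟨s, hs, h, hh, hne⟩ := hnc
    apply hne
    apply htrick ⟨h, hh⟩ ⟨s, hs⟩
    have h1 : ιS ⟨s, hs⟩ ∈ V ⊓ Subgroup.centralizer (A : Set Q) := by
      rw [hdec2]; exact ⟨⟨s, hs⟩, rfl⟩
    exact Subgroup.mem_centralizer_iff.1 h1.2 _ ⟨⟨h, hh⟩, rfl⟩
  have hAne : A ≠ ⊥ := by
    intro hbot
    apply hH
    rw [eq_bot_iff]
    intro h hh
    have : κH ⟨h, hh⟩ ∈ A := ⟨⟨h, hh⟩, rfl⟩
    rw [hbot, Subgroup.mem_bot] at this
    have h1 : (⟨h, hh⟩ : H) = 1 := hκinj (by rw [this, map_one])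
    rw [Subgroup.mem_bot]
    exact congrArg Subtype.val h1
  have hA₁A : A₁ ⊓ A = ⊥ := by
    rw [eq_bot_iff]
    intro x hx
    rw [Subgroup.mem_bot]
    by_contra hx1
    exact hx1 (hfpf x hx.2 hx1 x hx.1 rfl)
  -- the Frobenius group
  obtain ⟨T, hT⟩ : ∃ T : Subgroup Q, T = A₁ ⊔ A := ⟨_, rfl⟩
  have hA₁T : A₁ ≤ T := hT ▸ le_sup_left
  have hAT : A ≤ T := hT ▸ le_sup_right
  have hTnorm : T ≤ Subgroup.normalizer (A₁ : Set Q) := by
    rw [hT]
    apply sup_le Subgroup.le_normalizer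
    intro a ha
    exact Cfsg.Agent.Lib.Helper24_CoprimeAction.mem_normalizer_commutator V A (hAV ha)
      (Subgroup.le_normalizer ha)
  have hN'n : (A₁.subgroupOf T).Normal := Subgroup.normal_subgroupOf_of_le_normalizer hTnorm
  have hsup : A₁.subgroupOf T ⊔ A.subgroupOf T = ⊤ := by
    rw [← Subgroup.subgroupOf_sup hA₁T hAT, ← hT, Subgroup.subgroupOf_self]
  have hinf : A₁.subgroupOf T ⊓ A.subgroupOf T = ⊥ := by
    rw [eq_bot_iff]
    intro x hx
    obtain ⟨hx1, hx2⟩ := Subgroup.mem_inf.1 hx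
    rw [Subgroup.mem_subgroupOf] at hx1 hx2
    have : (x : Q) ∈ A₁ ⊓ A := ⟨hx1, hx2⟩
    rw [hA₁A, Subgroup.mem_bot] at this
    rw [Subgroup.mem_bot]
    exact Subtype.ext this
  have hN'ne : A₁.subgroupOf T ≠ ⊥ := by
    intro hbot
    rw [Subgroup.subgroupOf_eq_bot, disjoint_iff, inf_of_le_left hA₁T] at hbot
    exact hA₁ne hbot
  have hH'ne : A.subgroupOf T ≠ ⊥ := by
    intro hbot
    rw [Subgroup.subgroupOf_eq_bot, disjoint_iff, inf_of_le_left hAT] at hbot
    exact hAne hbot
  have hfpf' : ∀ h ∈ A.subgroupOf T, h ≠ 1 → ∀ n ∈ A₁.subgroupOf T, h * n = n * h → n = 1 := by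
    intro h hh h1 n hn hc
    rw [Subgroup.mem_subgroupOf] at hh hn
    have h1' : (h : Q) ≠ 1 := fun e => h1 (Subtype.ext e)
    have := hfpf h hh h1' n hn (by
      have := congrArg Subtype.val hc
      simpa using this)
    exact Subtype.ext this
  have hfin : Finite Q := inferInstance
  obtain ⟨hfrob, -⟩ := Cfsg.Agent.S4108.frobenius_of_fpf (A₁.subgroupOf T) (A.subgroupOf T)
    hsup hinf hN'ne hH'ne hfpf'
  refine ⟨T, inferInstance, inferInstance, A.subgroupOf T, hfrob, ⟨?_⟩⟩
  exact (MonoidHom.ofInjective hκinj).trans (Subgroup.subgroupOfEquivOfLe hAT).symm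

theorem commutator_ne_self (S : Subgroup G) (q : ℕ) [Fact q.Prime] (hS : IsPGroup q S)
    (hne : S ≠ ⊥) : (⁅S, S⁆ : Subgroup G) ≠ S := by
  intro heq
  have hnil : Group.IsNilpotent S := hS.isNilpotent
  have hnt : Nontrivial S := (Subgroup.nontrivial_iff_ne_bot S).2 hne
  have hlt := Group.IsSolvable.commutator_lt_top_of_nontrivial (G := S)
  have h1 : (_root_.commutator S).map S.subtype = (⊤ : Subgroup S).map S.subtype := by
    rw [Subgroup.map_subtype_commutator, heq, ← MonoidHom.range_eq_map, Subgroup.range_subtype]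
  have h2 := Subgroup.map_injective S.subtype_injective h1
  exact hlt.ne h2

theorem exists_frob_of_qgroup (H : Subgroup G) (hH : H ≠ ⊥) (q : ℕ) [Fact q.Prime]
    (hq : (Nat.card H).Coprime q) :
    ∀ n : ℕ, ∀ S : Subgroup G, Nat.card S ≤ n → IsPGroup q S →
      H ≤ Subgroup.normalizer (S : Set G) →
      (∀ h ∈ H, h ≠ 1 → ∀ s ∈ S, h * s = s * h → ∀ h' ∈ H, h' * s = s * h') →
      (∃ s ∈ S, ∃ h ∈ H, h * s ≠ s * h) →
      ∃ (F : Type u) (_ : Group F) (_ : Finite F) (C : Subgroup F),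
        Cfsg.IsFrobeniusComplement C ∧ Nonempty (H ≃* C) := by
  intro n
  induction n with
  | zero =>
    intro S hS
    have := Nat.card_pos (α := S)
    omega
  | succ n ih =>
    intro S hSn hSq hHS hsame hnc
    by_cases hcase : ∃ d ∈ ⁅S, S⁆, ∃ h ∈ H, h * d ≠ d * h
    · have hDS : (⁅S, S⁆ : Subgroup G) ≤ S := by
        rw [Subgroup.commutator_le]
        intro a ha b hb
        rw [commutatorElement_def]
        exact S.mul_mem (S.mul_mem (S.mul_mem ha hb) (S.inv_mem ha)) (S.inv_mem hb)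
      have hSne : S ≠ ⊥ := by
        rintro rfl
        obtain ⟨s, hs, h, hh, hne⟩ := hnc
        rw [Subgroup.mem_bot] at hs
        apply hne
        rw [hs, mul_one, one_mul]
      have hDne := commutator_ne_self S q hSq hSne
      have hlt : Nat.card (⁅S, S⁆ : Subgroup G) < Nat.card S := by
        apply lt_of_le_of_ne (Subgroup.card_le_of_le hDS)
        intro heq
        exact hDne (Subgroup.eq_of_le_of_card_ge hDS heq.ge)
      have hHD : H ≤ Subgroup.normalizer ((⁅S, S⁆ : Subgroup G) : Set G) := fun h hh =>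
        Cfsg.Agent.Lib.Helper24_CoprimeAction.mem_normalizer_commutator S S (hHS hh) (hHS hh)
      exact ih ⁅S, S⁆ (by omega) (hSq.to_le hDS) hHD
        (fun h hh h1 s hs => hsame h hh h1 s (hDS hs)) hcase
    · push Not at hcase
      exact frob_of_abelian_quotient H hH q hq S hSq hHS hsame hnc hcase

/-- second part of the statement, given a normal complement `M` in `G` -/
theorem frobenius_complement_of_complement (M : Subgroup G) [hMn : M.Normal]
    (hTI : Cfsg.IsTISubset (H : Set G)) (hM : M.IsComplement' H)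
    (hHall : (Nat.card H).Coprime (H.subgroupOf NH).index) (hnn : ¬ H.Normal) :
    ∃ (F : Type u) (_ : Group F) (_ : Finite F) (C : Subgroup F),
      Cfsg.IsFrobeniusComplement C ∧ Nonempty (H ≃* C) := by
  have hMH : M ⊓ H = ⊥ := hM.disjoint.eq_bot
  have hcop := coprime_card H M hTI hM hHall
  have hHne : H ≠ ⊥ := by
    rintro rfl
    exact hnn inferInstance
  -- `M ≰ N_G(H)`
  have hMN : ¬ M ≤ NH := by
    intro hle
    apply hnn
    have htop : NH = ⊤ := by
      rw [eq_top_iff, ← hM.sup_eq_top]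
      exact sup_le hle Subgroup.le_normalizer
    exact Subgroup.normalizer_eq_top_iff.1 htop
  -- a prime dividing `|M : M ∩ N|`
  have hrel : (NH).relIndex M ≠ 1 := by
    rw [Ne, Subgroup.relIndex_eq_one]; exact hMN
  obtain ⟨q, hqp, hqd⟩ := Nat.exists_prime_and_dvd hrel
  haveI : Fact q.Prime := ⟨hqp⟩
  have hqM : q ∣ Nat.card M := hqd.trans (Subgroup.relIndex_dvd_card _ _)
  obtain ⟨S, hSM, hHS⟩ := exists_invariant_sylow H M hTI hM hcop q hqM
  have hqH : (Nat.card H).Coprime q := Nat.Coprime.coprime_dvd_right hqM hcop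
  -- `S ≰ N_G(H)`
  have hSN : ¬ (S : Subgroup G) ≤ NH := by
    intro hle
    have h1 : (S : Subgroup G) ≤ M ⊓ NH := le_inf hSM hle
    have h2 : (M ⊓ NH).index ∣ (S : Subgroup G).index := Subgroup.index_dvd_of_le h1
    have h3 : (NH).relIndex M ∣ (M ⊓ NH).index := by
      rw [← Subgroup.inf_relIndex_right, inf_comm]
      exact Subgroup.relIndex_dvd_index_of_le inf_le_left
    exact S.not_dvd_index (hqd.trans (h3.trans h2))
  obtain ⟨s, hsS, hsN⟩ := SetLike.not_le_iff_exists.1 hSN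
  obtain ⟨h₀, hh₀1⟩ := (Subgroup.ne_bot_iff_exists_ne_one).1 hHne
  have hh₀' : (h₀ : G) ≠ 1 := fun e => hh₀1 (Subtype.ext e)
  apply exists_frob_of_qgroup H hHne q hqH (Nat.card (S : Subgroup G)) S le_rfl S.2 hHS
  · intro h hh h1 s hs hc h' hh'
    have hsN := (commute_iff_mem_normalizer H M hTI hMH hh h1 (hSM hs)).1 hc
    by_cases h'1 : h' = 1
    · rw [h'1, one_mul, mul_one]
    · exact (commute_iff_mem_normalizer H M hTI hMH hh' h'1 (hSM hs)).2 hsN
  · refine ⟨s, hsS, h₀, h₀.2, ?_⟩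
    intro hc
    exact hsN ((commute_iff_mem_normalizer H M hTI hMH h₀.2 hh₀' (hSM hsS)).1 hc)

end

/-- Let G be a finite group and H a subgroup that meets each of its conjugates by elements outside N_G(H) trivially and whose order is coprime to its index in N_G(H). Then H has a normal complement in N_G(H) if and only if H has a normal complement in G. Moreover, if H is not normal in G and has a normal complement in N_G(H), then H is isomorphic to a Frobenius complement of some finite Frobenius group. -/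
theorem result {G : Type u} [Group G] [Finite G] (H : Subgroup G)
    (hTI : Cfsg.IsTISubset (H : Set G)) (hHall : (Nat.card H).Coprime (H.subgroupOf (Subgroup.normalizer (H : Set G))).index) :
    ((∃ K : Subgroup (Subgroup.normalizer (H : Set G)), K.Normal ∧ K.IsComplement' (H.subgroupOf (Subgroup.normalizer (H : Set G)))) ↔
      (∃ N : Subgroup G, N.Normal ∧ N.IsComplement' H)) ∧
    (¬ H.Normal → (∃ K : Subgroup (Subgroup.normalizer (H : Set G)), K.Normal ∧ K.IsComplement' (H.subgroupOf (Subgroup.normalizer (H : Set G)))) →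
      ∃ (F : Type u) (_ : Group F) (_ : Finite F) (C : Subgroup F), Cfsg.IsFrobeniusComplement C ∧ Nonempty (H ≃* C)) := by
  refine ⟨⟨?_, ?_⟩, ?_⟩
  · rintro ⟨K, hKn, hK⟩
    exact complement_in_group H hTI hHall K hK
  · rintro ⟨M, hMn, hM⟩
    exact complement_in_normalizer H M hM
  · rintro hnn ⟨K, hKn, hK⟩
    obtain ⟨M, hMn, hM⟩ := complement_in_group H hTI hHall K hK
    exact frobenius_complement_of_complement H M hTI hM hHall hnn


end Cfsg.Agent.S4115
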