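import Mathlib
import Cfsg.Statements.S1465
import Cfsg.Agent.Lib.Helper52_PStabUse
import Cfsg.Agent.Lib.Helper55_Fitting
import Cfsg.Agent.S4115

set_option autoImplicit false
set_option linter.unusedSectionVars false
open Cfsg
universe u

namespace Cfsg.Agent.S1465

open Cfsg.Agent.Lib.Helper1_Cores Cfsg.Agent.Lib.Helper52_PStabUse

/-- image in `Z ⧸ C_Z(V)` of a quadratically acting `p`-subgroup lies in `O_p`. -/
theorem map_le_pCore_of_pstab (p : ℕ) [hp : Fact p.Prime] (hst : PStab.{u} p) (hp2 : p ≠ 2)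
    {Z : Type u} [Group Z] [Finite Z] [Group.IsSolvable Z] (hodd : Odd (Nat.card Z))
    (V A : Subgroup Z) [hVn : V.Normal] (hVp : IsPGroup p V) (hAp : IsPGroup p A)
    (hquad : ⁅⁅V, A⁆, A⁆ = ⊥) :
    A.map (QuotientGroup.mk' (Subgroup.centralizer (V : Set Z))) ≤
      Cfsg.pCore p (Z ⧸ Subgroup.centralizer (V : Set Z)) := by
  have hNtop : Subgroup.normalizer (V : Set Z) = ⊤ := Subgroup.normalizer_eq_top_iff.2 hVn
  have hcon := hst Z hodd hp2 V A hVp inferInstance hAp (by rw [hNtop]; exact le_top) hquad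
  set N : Subgroup Z := Subgroup.normalizer (V : Set Z) with hN
  set Cn : Subgroup N := (Subgroup.centralizer (V : Set Z)).subgroupOf N with hCn
  set E := Cfsg.pCore p (N ⧸ Cn) with hE
  have hEn : E.Normal := pCore_normal (G := N ⧸ Cn) p
  have hEp : IsPGroup p E := pCore_isPGroup p
  set L : Subgroup Z := (E.comap (QuotientGroup.mk' Cn)).map N.subtype with hL
  have hmemN : ∀ z : Z, z ∈ N := fun z => by rw [hNtop]; exact Subgroup.mem_top z
  have hAL : A ≤ L := by
    intro a ha
    refine ⟨⟨a, hmemN a⟩, ?_, rfl⟩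
    apply hcon
    exact ⟨⟨a, hmemN a⟩, by rw [SetLike.mem_coe, Subgroup.mem_subgroupOf]; exact ha, rfl⟩
  have hLn : L.Normal := by
    constructor
    rintro _ ⟨l', hl', rfl⟩ g
    refine ⟨⟨g, hmemN g⟩ * l' * ⟨g, hmemN g⟩⁻¹, ?_, by simp⟩
    exact (inferInstance : (E.comap (QuotientGroup.mk' Cn)).Normal).conj_mem l' hl' _
  set π := QuotientGroup.mk' (Subgroup.centralizer (V : Set Z)) with hπ
  have hπs : Function.Surjective π := QuotientGroup.mk'_surjective _
  have hLπn : (L.map π).Normal := Subgroup.Normal.map hLn π hπs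
  have hLπp : IsPGroup p (L.map π) := by
    rintro ⟨_, l, ⟨l', hl', rfl⟩, rfl⟩
    obtain ⟨a, ha⟩ := hEp ⟨_, hl'⟩
    refine ⟨a, ?_⟩
    have h1 : (QuotientGroup.mk' Cn l') ^ p ^ a = 1 := by
      have := congrArg Subtype.val ha
      simpa using this
    rw [← map_pow, QuotientGroup.mk'_apply, QuotientGroup.eq_one_iff, hCn,
      Subgroup.mem_subgroupOf] at h1
    apply Subtype.ext
    simp only [Subgroup.coe_pow, Subgroup.coe_one]
    rw [← map_pow, hπ, QuotientGroup.mk'_apply, QuotientGroup.eq_one_iff]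
    simpa using h1
  exact (Subgroup.map_mono hAL).trans (le_pCore hLπn hLπp)

/-- If `O_{p'}(G) = 1`, `P` is a normal `p`-subgroup and `O_p(G) ∩ C_G(P) ≤ P`, then `C_G(P)` is a
`p`-group. -/
theorem isPGroup_centralizer_of_inf_le {G : Type*} [Group G] [Finite G] [Group.IsSolvable G]
    (p : ℕ) [hp : Fact p.Prime] (P : Subgroup G) [hPn : P.Normal] (hP : IsPGroup p P)
    (h1 : Cfsg.pPrimeCore p G = ⊥)
    (h2 : Cfsg.pCore p G ⊓ Subgroup.centralizer (P : Set G) ≤ P) :
    IsPGroup p (Subgroup.centralizer (P : Set G)) := by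
  set Q := Cfsg.pCore p G with hQ
  have hQn : Q.Normal := pCore_normal (G := G) p
  have hQp : IsPGroup p Q := pCore_isPGroup p
  have hCQ : Subgroup.centralizer (Q : Set G) ≤ Q :=
    Cfsg.Agent.Lib.Helper55_Fitting.centralizer_pCore_le p h1
  set K := Subgroup.centralizer (P : Set G) with hK
  have hKn : K.Normal := inferInstance
  -- every `p'`-element of `K` is trivial
  have key : ∀ x ∈ K, (orderOf x).Coprime p → x = 1 := by
    intro x hx hcop
    have hxQ : x ∈ Subgroup.centralizer (Q : Set G) := by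
      rw [Subgroup.mem_centralizer_iff]
      intro q hq
      have hcard : (Nat.card (Subgroup.zpowers x)).Coprime p := by
        rw [Nat.card_zpowers]; exact hcop
      have hcent : ∀ d ∈ P, ∀ h ∈ Subgroup.zpowers x, h * d = d * h := by
        intro d hd h hh
        have hhK : h ∈ K := (Subgroup.zpowers_le.2 hx) hh
        exact ((Subgroup.mem_centralizer_iff.1 hhK) d hd).symm
      have hmem : x * q * x⁻¹ * q⁻¹ ∈ P := by
        apply h2
        refine ⟨?_, ?_⟩
        · exact Q.mul_mem (hQn.conj_mem q hq x) (Q.inv_mem hq)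
        · have : x * q * x⁻¹ * q⁻¹ = x * (q * x⁻¹ * q⁻¹) := by group
          rw [this]
          exact K.mul_mem hx (hKn.conj_mem _ (K.inv_mem hx) q)
      have := Cfsg.Agent.S4115.commute_of_commutator_mem (Subgroup.zpowers x) P p hP hcard hcent
        (Subgroup.mem_zpowers x) hmem
      exact this.symm
    have hxQ' : x ∈ Q := hCQ hxQ
    obtain ⟨k, hk⟩ := hQp ⟨x, hxQ'⟩
    have hk' : x ^ p ^ k = 1 := by
      have := congrArg Subtype.val hk
      simpa using this
    have h3 : orderOf x ∣ p ^ k := orderOf_dvd_of_pow_eq_one hk'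
    have h4 : orderOf x = 1 := Nat.Coprime.eq_one_of_dvd (Nat.Coprime.pow_right k hcop) h3
    exact orderOf_eq_one_iff.1 h4
  intro k
  obtain ⟨a, m, hm, hnm⟩ := Nat.exists_eq_pow_mul_and_not_dvd (orderOf_pos (k : G)).ne' p
    hp.out.ne_one
  refine ⟨a, ?_⟩
  apply Subtype.ext
  simp only [Subgroup.coe_pow, Subgroup.coe_one]
  apply key _ (K.pow_mem k.2 _)
  have hdvd : orderOf ((k : G) ^ p ^ a) ∣ m := by
    apply orderOf_dvd_of_pow_eq_one
    rw [← pow_mul, ← hnm]
    exact pow_orderOf_eq_one _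
  exact Nat.Coprime.coprime_dvd_left hdvd ((Nat.Prime.coprime_iff_not_dvd hp.out).2 hm).symm

theorem result_of_pstab {G : Type u} [Group G] [Finite G] [Group.IsSolvable G]
    (hodd : Odd (Nat.card G)) (p : ℕ) [Fact p.Prime] (hst : PStab.{u} p) (hp : p ≠ 2)
    (P : Subgroup G) [P.Normal] (hP : IsPGroup p P)
    (S : Set (Subgroup G)) (hS : ∀ B ∈ S, IsMulCommutative B ∧ IsPGroup p B ∧
      P ≤ Subgroup.normalizer (B : Set G)) :
    (sSup S).map (QuotientGroup.mk' (Subgroup.centralizer (P : Set G))) ≤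
        Cfsg.pCore p (G ⧸ Subgroup.centralizer (P : Set G)) ∧
      (Cfsg.pPrimeCore p G = ⊥ → Cfsg.pCore p G ⊓ Subgroup.centralizer (P : Set G) ≤ P →
        sSup S ≤ Cfsg.pCore p G) := by
  have part1 : (sSup S).map (QuotientGroup.mk' (Subgroup.centralizer (P : Set G))) ≤
        Cfsg.pCore p (G ⧸ Subgroup.centralizer (P : Set G)) := by
    rw [Subgroup.map_le_iff_le_comap]
    apply sSup_le
    intro B hB
    rw [← Subgroup.map_le_iff_le_comap]
    obtain ⟨hBc, hBp, hPB⟩ := hS B hB
    apply map_le_pCore_of_pstab p hst hp hodd P B hP hBp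
    have h1 : ⁅P, B⁆ ≤ B := by
      rw [Subgroup.commutator_le]
      intro x hx b hb
      have := (Subgroup.mem_normalizer_iff.1 (hPB hx) b).1 hb
      exact B.mul_mem this (B.inv_mem hb)
    rw [eq_bot_iff]
    calc ⁅⁅P, B⁆, B⁆ ≤ ⁅B, B⁆ := Subgroup.commutator_mono h1 le_rfl
      _ = ⊥ := by
        rw [Subgroup.commutator_eq_bot_iff_le_centralizer]
        intro b hb
        rw [Subgroup.mem_centralizer_iff]
        intro c hc
        have := hBc.is_comm.comm ⟨c, hc⟩ ⟨b, hb⟩
        exact congrArg Subtype.val this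
  refine ⟨part1, ?_⟩
  intro h1 h2
  set K := Subgroup.centralizer (P : Set G) with hK
  have hKp : IsPGroup p K := isPGroup_centralizer_of_inf_le p P hP h1 h2
  set E := Cfsg.pCore p (G ⧸ K) with hE
  have hEn : E.Normal := pCore_normal (G := G ⧸ K) p
  have hEp : IsPGroup p E := pCore_isPGroup p
  set L := E.comap (QuotientGroup.mk' K) with hL
  have hLn : L.Normal := inferInstance
  have hLp : IsPGroup p L := by
    apply isPGroup_of_pow_mem p L K hKp
    intro l hl
    obtain ⟨a, ha⟩ := hEp ⟨_, hl⟩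
    refine ⟨a, ?_⟩
    have h3 : (QuotientGroup.mk' K l) ^ p ^ a = 1 := by
      have := congrArg Subtype.val ha
      simpa using this
    rw [← map_pow, QuotientGroup.mk'_apply, QuotientGroup.eq_one_iff] at h3
    exact h3
  have : sSup S ≤ L := by
    rw [hL, ← Subgroup.map_le_iff_le_comap]
    exact part1
  exact this.trans (le_pCore hLn hLp)

/-- Let p be an odd prime, G a solvable group of odd order, P a normal p-subgroup of G, and X the subgroup generated by a family of abelian p-subgroups of G each normalized by P. Then the image of X in G/C_G(P) lies in O_p(G/C_G(P)); and if O_{p'}(G) = 1 and O_p(G) ∩ C_G(P) ≤ P then X ≤ O_p(G). -/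
theorem result {G : Type*} [Group G] [Finite G] [Group.IsSolvable G] (hodd : Odd (Nat.card G)) (p : ℕ) [Fact p.Prime] (hp : p ≠ 2) (P : Subgroup G) [P.Normal] (hP : IsPGroup p P)
    (S : Set (Subgroup G)) (hS : ∀ B ∈ S, IsMulCommutative B ∧ IsPGroup p B ∧ P ≤ Subgroup.normalizer (B : Set G)) :
    (sSup S).map (QuotientGroup.mk' (Subgroup.centralizer (P : Set G))) ≤ Cfsg.pCore p (G ⧸ Subgroup.centralizer (P : Set G)) ∧
      (Cfsg.pPrimeCore p G = ⊥ → Cfsg.pCore p G ⊓ Subgroup.centralizer (P : Set G) ≤ P → sSup S ≤ Cfsg.pCore p G) :=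
  result_of_pstab hodd p (pstab_holds p) hp P hP S hS

end Cfsg.Agent.S1465
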