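import Cfsg.Statements.S1468
import Cfsg.Agent.S1465
import Cfsg.Agent.Lib.Helper49_Puig
import Cfsg.Agent.Lib.Helper49_CharP

set_option autoImplicit false
open Cfsg

namespace Cfsg.Agent.S1468

open Cfsg.Agent.Lib.Helper49_Puig

/-- the key induction comparing the Puig series of `S` and of `T = O_p(G)` -/
theorem series_compare {G : Type*} [Group G] [Finite G] [Group.IsSolvable G]
    (hodd : Odd (Nat.card G)) (p : ℕ) [Fact p.Prime] (hp : p ≠ 2)
    (hO : Cfsg.pPrimeCore p G = ⊥) (S : Sylow p G) (n : ℕ) :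
    rseq (S : Subgroup G) (2 * n) ≤ rseq (Cfsg.pCore p G) (2 * n) ∧
      rseq (Cfsg.pCore p G) (2 * n + 1) ≤ rseq (S : Subgroup G) (2 * n + 1) := by
  have hTn : (Cfsg.pCore p G).Normal := Cfsg.Agent.Lib.Helper49_CharP.pCoreNormal p G
  have hT : IsPGroup p (Cfsg.pCore p G) := Cfsg.Agent.Lib.Helper49_CharP.pCore_isPGroup p G
  have hTS : Cfsg.pCore p G ≤ (S : Subgroup G) := Cfsg.Agent.Lib.Helper49_CharP.pCore_le_sylow S
  have hS : IsPGroup p (S : Subgroup G) := S.isPGroup'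
  induction n with
  | zero =>
    refine ⟨bot_le, ?_⟩
    show rseq (Cfsg.pCore p G) 1 ≤ rseq (S : Subgroup G) 1
    rw [rseq_one, rseq_one]
    exact hTS
  | succ n ih =>
    have e1 : 2 * (n + 1) = (2 * n + 1) + 1 := by ring
    have hA : rseq (S : Subgroup G) (2 * n + 1 + 1) ≤ rseq (Cfsg.pCore p G) (2 * n + 1 + 1) := by
      rw [rseq_succ, rseq_succ]
      refine (rstep_anti (S : Subgroup G) ih.2).trans ?_
      apply rstep_le_of_gens
      intro A hAS hAc hPA
      refine ⟨?_, hPA⟩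
      have hPn : (rseq (Cfsg.pCore p G) (2 * n + 1)).Normal := rseq_normal _ _
      have hPle : rseq (Cfsg.pCore p G) (2 * n + 1) ≤ Cfsg.pCore p G := rseq_le _ _
      have hPp : IsPGroup p (rseq (Cfsg.pCore p G) (2 * n + 1)) := hT.to_le hPle
      have hAp : IsPGroup p A := hS.to_le hAS
      have h := (Cfsg.Agent.S1465.result hodd p hp (rseq (Cfsg.pCore p G) (2 * n + 1)) hPp
        {A} (by
          intro B hB
          rw [Set.mem_singleton_iff] at hB
          subst hB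
          exact ⟨hAc, hAp, hPA⟩)).2 hO
      rw [sSup_singleton] at h
      apply h
      by_cases hT1 : Cfsg.pCore p G = ⊥
      · rw [hT1]
        exact inf_le_left.trans bot_le
      · exact inf_centralizer_rseq_le hT hT1 (2 * n + 1) (by omega)
    rw [e1]
    refine ⟨hA, ?_⟩
    rw [rseq_succ (Cfsg.pCore p G), rseq_succ (S : Subgroup G)]
    exact (rstep_anti _ hA).trans (rstep_mono hTS _)

/-- Let p be an odd prime, G a solvable group of odd order with O_{p'}(G) = 1, S a Sylow p-subgroup and T = O_p(G). Then, viewing the Puig subgroups of S and of T inside G, L_*(S) ≤ L_*(T) ≤ L(T) ≤ L(S). -/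
theorem result {G : Type*} [Group G] [Finite G] [Group.IsSolvable G] (hodd : Odd (Nat.card G)) (p : ℕ) [Fact p.Prime] (hp : p ≠ 2) (hO : Cfsg.pPrimeCore p G = ⊥) (S : Sylow p G) :
    (Cfsg.puigLower ↥(S : Subgroup G)).map (S : Subgroup G).subtype ≤ (Cfsg.puigLower ↥(Cfsg.pCore p G)).map (Cfsg.pCore p G).subtype ∧
      (Cfsg.puigLower ↥(Cfsg.pCore p G)).map (Cfsg.pCore p G).subtype ≤ (Cfsg.puigSubgroup ↥(Cfsg.pCore p G)).map (Cfsg.pCore p G).subtype ∧
      (Cfsg.puigSubgroup ↥(Cfsg.pCore p G)).map (Cfsg.pCore p G).subtype ≤ (Cfsg.puigSubgroup ↥(S : Subgroup G)).map (S : Subgroup G).subtype := by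
  obtain ⟨k₁, h₁⟩ := exists_stable (S : Subgroup G)
  obtain ⟨k₂, h₂⟩ := exists_stable (Cfsg.pCore p G)
  have hc := series_compare hodd p hp hO S (max k₁ k₂)
  rw [(h₁ _ (le_max_left _ _)).1, (h₁ _ (le_max_left _ _)).2, (h₂ _ (le_max_right _ _)).1,
    (h₂ _ (le_max_right _ _)).2] at hc
  exact ⟨hc.1, lo_le_up _, hc.2⟩

end Cfsg.Agent.S1468
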