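import Cfsg.Statements.S1469
import Cfsg.Agent.S1465
import Cfsg.Agent.S1468
import Cfsg.Agent.Lib.Helper49_Puig
import Cfsg.Agent.Lib.Helper49_Puig2
import Cfsg.Agent.Lib.Helper49_CharP
import Cfsg.Agent.Lib.Helper11_ZJ
import Cfsg.Agent.Lib.Helper25_OddStable
import Cfsg.Agent.Lib.Helper30_Subnormal
import Cfsg.Agent.Lib.Helper1_Cores
import Cfsg.Prelude.Def_CaseTheorems

set_option autoImplicit false
open Cfsg

namespace Cfsg.Agent.S1469

open Cfsg.Agent.Lib.Helper49_Puig

/-- the centre of `L(S)` is normal when `O_{p'}(G) = 1` -/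
theorem center_normal_of_core_bot {G : Type*} [Group G] [Finite G] [Group.IsSolvable G]
    (hodd : Odd (Nat.card G)) (p : ℕ) [Fact p.Prime] (hp : p ≠ 2)
    (hO : Cfsg.pPrimeCore p G = ⊥) (S : Sylow p G) :
    (up (S : Subgroup G) ⊓
      Subgroup.centralizer ((up (S : Subgroup G) : Subgroup G) : Set G)).Normal := by
  have hTn : (Cfsg.pCore p G).Normal := Cfsg.Agent.Lib.Helper49_CharP.pCoreNormal p G
  have hT : IsPGroup p (Cfsg.pCore p G) := Cfsg.Agent.Lib.Helper49_CharP.pCore_isPGroup p G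
  have hTS : Cfsg.pCore p G ≤ (S : Subgroup G) := Cfsg.Agent.Lib.Helper49_CharP.pCore_le_sylow S
  have hS : IsPGroup p (S : Subgroup G) := S.isPGroup'
  have h68 := Cfsg.Agent.S1468.result hodd p hp hO S
  have h1 : lo (S : Subgroup G) ≤ lo (Cfsg.pCore p G) := h68.1
  have h2 : lo (Cfsg.pCore p G) ≤ up (Cfsg.pCore p G) := h68.2.1
  have h3 : up (Cfsg.pCore p G) ≤ up (S : Subgroup G) := h68.2.2
  -- the centre `Z`
  have hZS : up (S : Subgroup G) ⊓ Subgroup.centralizer ((up (S : Subgroup G) : Subgroup G) : Set G)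
      ≤ (S : Subgroup G) := inf_le_left.trans (up_le _)
  have hZc : IsMulCommutative ↥(up (S : Subgroup G) ⊓
      Subgroup.centralizer ((up (S : Subgroup G) : Subgroup G) : Set G)) := by
    refine ⟨⟨fun a b => Subtype.ext ?_⟩⟩
    have hb := (Subgroup.mem_inf.mp b.2).2
    have ha := (Subgroup.mem_inf.mp a.2).1
    exact Subgroup.mem_centralizer_iff.mp hb a ha
  have hNZ : Subgroup.normalizer (((S : Subgroup G) : Subgroup G) : Set G) ≤
      Subgroup.normalizer ((up (S : Subgroup G) ⊓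
        Subgroup.centralizer ((up (S : Subgroup G) : Subgroup G) : Set G) : Subgroup G) : Set G) :=
    (normalizer_le_normalizer_up _).trans (normalizer_le_normalizer_inf_centralizer _)
  have hZT : up (S : Subgroup G) ⊓
      Subgroup.centralizer ((up (S : Subgroup G) : Subgroup G) : Set G) ≤ Cfsg.pCore p G := by
    have h := (Cfsg.Agent.S1465.result hodd p hp (Cfsg.pCore p G) hT
      {up (S : Subgroup G) ⊓ Subgroup.centralizer ((up (S : Subgroup G) : Subgroup G) : Set G)}
      (by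
        intro B hB
        rw [Set.mem_singleton_iff] at hB
        subst hB
        exact ⟨hZc, hS.to_le hZS, hTS.trans (Subgroup.le_normalizer.trans hNZ)⟩)).2 hO inf_le_left
    rwa [sSup_singleton] at h
  by_cases hT1 : Cfsg.pCore p G = ⊥
  · have hZ0 : up (S : Subgroup G) ⊓
        Subgroup.centralizer ((up (S : Subgroup G) : Subgroup G) : Set G) = ⊥ := by
      rw [eq_bot_iff, ← hT1]
      exact hZT
    rw [hZ0]
    infer_instance
  have hS1 : (S : Subgroup G) ≠ ⊥ := by
    intro h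
    apply hT1
    rw [eq_bot_iff, ← h]
    exact hTS
  -- `Z ≤ Z₁ ≤ L_*(S)`
  have hZZ₁ : up (S : Subgroup G) ⊓
      Subgroup.centralizer ((up (S : Subgroup G) : Subgroup G) : Set G) ≤
      up (Cfsg.pCore p G) ⊓ Subgroup.centralizer ((up (Cfsg.pCore p G) : Subgroup G) : Set G) := by
    have hc : up (S : Subgroup G) ⊓
        Subgroup.centralizer ((up (S : Subgroup G) : Subgroup G) : Set G) ≤
        Subgroup.centralizer ((up (Cfsg.pCore p G) : Subgroup G) : Set G) :=
      inf_le_right.trans (Subgroup.centralizer_le h3)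
    exact le_inf ((le_inf hZT hc).trans (inf_centralizer_up_le hT hT1)) hc
  have hZ₁lo : up (Cfsg.pCore p G) ⊓
      Subgroup.centralizer ((up (Cfsg.pCore p G) : Subgroup G) : Set G) ≤ lo (S : Subgroup G) := by
    have hc : up (Cfsg.pCore p G) ⊓
        Subgroup.centralizer ((up (Cfsg.pCore p G) : Subgroup G) : Set G) ≤
        Subgroup.centralizer ((lo (S : Subgroup G) : Subgroup G) : Set G) :=
      inf_le_right.trans (Subgroup.centralizer_le (h1.trans h2))
    have hs : up (Cfsg.pCore p G) ⊓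
        Subgroup.centralizer ((up (Cfsg.pCore p G) : Subgroup G) : Set G) ≤ (S : Subgroup G) :=
      (inf_le_left.trans (up_le _)).trans hTS
    exact (le_inf hs hc).trans (inf_centralizer_lo_le hS hS1)
  have hupTn : (up (Cfsg.pCore p G)).Normal := up_normal _
  have hZ₁n : (up (Cfsg.pCore p G) ⊓
      Subgroup.centralizer ((up (Cfsg.pCore p G) : Subgroup G) : Set G)).Normal := inferInstance
  have hZ₁p : IsPGroup p ↥(up (Cfsg.pCore p G) ⊓
      Subgroup.centralizer ((up (Cfsg.pCore p G) : Subgroup G) : Set G)) :=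
    hT.to_le (inf_le_left.trans (up_le _))
  -- stability
  obtain ⟨L, hLn, hCL, hidx, hquad⟩ :=
    Cfsg.Agent.Lib.Helper11_ZJ.stableOn_of_isPStableOn (S : Subgroup G)
      (up (Cfsg.pCore p G) ⊓ Subgroup.centralizer ((up (Cfsg.pCore p G) : Subgroup G) : Set G))
      (Cfsg.Agent.Lib.Helper25_OddStable.isPStableOn hodd _ hZ₁p)
  have hupL : up (S : Subgroup G) ≤ L := by
    rw [← rstep_lo (S : Subgroup G)]
    apply sSup_le
    rintro A ⟨hAS, hAc, hN⟩ a ha
    apply hquad a (hAS ha)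
    exact Cfsg.Agent.Lib.Helper11_ZJ.quadratic_of_normalizes
      (fun x hx y hy => congrArg Subtype.val (hAc.is_comm.comm ⟨x, hx⟩ ⟨y, hy⟩))
      (hZ₁lo.trans hN) ha
  have hupS₁ : up (S : Subgroup G) ≤ (S : Subgroup G) ⊓ L := le_inf (up_le _) hupL
  have hup_eq : up ((S : Subgroup G) ⊓ L) = up (S : Subgroup G) := up_eq_of_le inf_le_left hupS₁
  refine ⟨fun x hx g => ?_⟩
  obtain ⟨c, hc, n, hn, rfl⟩ := Cfsg.Agent.Lib.Helper11_ZJ.exists_mul_normalizer S
    (Subgroup.centralizer ((up (Cfsg.pCore p G) ⊓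
      Subgroup.centralizer ((up (Cfsg.pCore p G) : Subgroup G) : Set G) : Subgroup G) : Set G))
    L hCL hidx g
  have hnZ : n ∈ Subgroup.normalizer ((up (S : Subgroup G) ⊓
      Subgroup.centralizer ((up (S : Subgroup G) : Subgroup G) : Set G) : Subgroup G) : Set G) := by
    have h4 := normalizer_le_normalizer_up ((S : Subgroup G) ⊓ L) hn
    rw [hup_eq] at h4
    exact normalizer_le_normalizer_inf_centralizer _ h4
  have h4 := (Subgroup.mem_normalizer_iff.mp hnZ x).mp hx
  have h5 : c * (n * x * n⁻¹) * c⁻¹ = n * x * n⁻¹ := by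
    have h6 := Subgroup.mem_centralizer_iff.mp hc (n * x * n⁻¹) (hZZ₁ h4)
    rw [← h6]
    group
  have h7 : c * n * x * (c * n)⁻¹ = c * (n * x * n⁻¹) * c⁻¹ := by group
  rw [h7, h5]
  exact h4

/-- a Frattini argument: if `K` is normal, `S ∩ K = 1` and the image of `Z ≤ S` in `G / K` is normal,
then `G = K N_G(Z)` -/
theorem frattini_aux {G : Type*} [Group G] [Finite G] {p : ℕ} [Fact p.Prime] (S : Sylow p G)
    (K : Subgroup G) [K.Normal] (Z : Subgroup G) (hZS : Z ≤ (S : Subgroup G))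
    (hinj : ∀ x ∈ (S : Subgroup G), QuotientGroup.mk' K x = 1 → x = 1)
    (hZn : (Z.map (QuotientGroup.mk' K)).Normal) :
    K ⊔ Subgroup.normalizer (Z : Set G) = ⊤ := by
  rw [eq_top_iff]
  intro g _
  have hMn : ((Z.map (QuotientGroup.mk' K)).comap (QuotientGroup.mk' K)).Normal := hZn.comap _
  obtain ⟨m, hm, n, hn, rfl⟩ := Cfsg.Agent.S0608.frattini_inf S
    ((Z.map (QuotientGroup.mk' K)).comap (QuotientGroup.mk' K)) g
  have hSM : (S : Subgroup G) ⊓ (Z.map (QuotientGroup.mk' K)).comap (QuotientGroup.mk' K) = Z := by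
    apply le_antisymm
    · intro x hx
      obtain ⟨hxS, hxM⟩ := Subgroup.mem_inf.mp hx
      obtain ⟨z, hz, hzx⟩ := Subgroup.mem_comap.mp hxM
      have hzS : z ∈ (S : Subgroup G) := hZS hz
      have h1 : z⁻¹ * x = 1 := by
        apply hinj _ (Subgroup.mul_mem _ (Subgroup.inv_mem _ hzS) hxS)
        rw [map_mul, map_inv, hzx, inv_mul_cancel]
      have h2 : x = z := by
        rw [← mul_one z, ← h1]
        group
      rw [h2]
      exact hz
    · refine le_inf hZS ?_
      intro z hz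
      exact Subgroup.mem_comap.mpr ⟨z, hz, rfl⟩
  rw [hSM] at hn
  obtain ⟨z, hz, hzm⟩ := Subgroup.mem_comap.mp hm
  have hk : z⁻¹ * m ∈ K := by
    apply (QuotientGroup.eq_one_iff _).mp
    show QuotientGroup.mk' K (z⁻¹ * m) = 1
    rw [map_mul, map_inv, hzm, inv_mul_cancel]
  have h8 : m * n = z * (z⁻¹ * m) * n := by group
  rw [h8]
  refine Subgroup.mul_mem _ (Subgroup.mul_mem _ ?_ ?_) ?_
  · exact (le_sup_right : _ ≤ K ⊔ _) (Subgroup.le_normalizer hz)
  · exact (le_sup_left : K ≤ _ ⊔ _) hk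
  · exact (le_sup_right : _ ≤ K ⊔ _) hn

/-- `G = O_{p'}(G) N_G(Z(L(S)))` -/
theorem sup_normalizer_eq_top {G : Type*} [Group G] [Finite G] [Group.IsSolvable G]
    (hodd : Odd (Nat.card G)) (p : ℕ) [Fact p.Prime] (hp : p ≠ 2) (S : Sylow p G) :
    Cfsg.pPrimeCore p G ⊔ Subgroup.normalizer ((up (S : Subgroup G) ⊓
      Subgroup.centralizer ((up (S : Subgroup G) : Subgroup G) : Set G) : Subgroup G) : Set G) = ⊤ := by
  have hS : IsPGroup p (S : Subgroup G) := S.isPGroup'
  have hKcop : (Nat.card (Cfsg.pPrimeCore p G)).Coprime p :=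
    Cfsg.Agent.Lib.Helper1_Cores.pPrimeCore_card_coprime p
  have hinj : ∀ x ∈ (S : Subgroup G), QuotientGroup.mk' (Cfsg.pPrimeCore p G) x = 1 → x = 1 := by
    intro x hxS hx
    have hxK : x ∈ Cfsg.pPrimeCore p G := (QuotientGroup.eq_one_iff x).mp hx
    apply Cfsg.Agent.Lib.Helper49_CharP.eq_one_of_coprime_of_mem hS hxS
    have h1 : orderOf x ∣ Nat.card (Cfsg.pPrimeCore p G) := by
      have h2 : orderOf (⟨x, hxK⟩ : ↥(Cfsg.pPrimeCore p G)) ∣ Nat.card (Cfsg.pPrimeCore p G) :=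
        orderOf_dvd_natCard _
      rwa [Subgroup.orderOf_mk] at h2
    exact Nat.Coprime.coprime_dvd_left h1 hKcop
  have hoddQ : Odd (Nat.card (G ⧸ Cfsg.pPrimeCore p G)) :=
    Odd.of_dvd_nat hodd (Subgroup.card_quotient_dvd_card _)
  have hOQ : Cfsg.pPrimeCore p (G ⧸ Cfsg.pPrimeCore p G) = ⊥ :=
    Cfsg.Agent.Lib.Helper30_Subnormal.pPrimeCore_quotient_eq_bot p
  have hZn := center_normal_of_core_bot hoddQ p hp hOQ
    (S.mapSurjective (QuotientGroup.mk'_surjective (Cfsg.pPrimeCore p G)))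
  have hcoe : ((S.mapSurjective (QuotientGroup.mk'_surjective (Cfsg.pPrimeCore p G)) :
      Sylow p (G ⧸ Cfsg.pPrimeCore p G)) : Subgroup (G ⧸ Cfsg.pPrimeCore p G)) =
      (S : Subgroup G).map (QuotientGroup.mk' (Cfsg.pPrimeCore p G)) := rfl
  rw [hcoe, ← map_up_of_injOn _ _ hinj,
    ← map_inf_centralizer_of_injOn _ (S : Subgroup G) _ (up_le _) hinj] at hZn
  exact frattini_aux S _ _ (inf_le_left.trans (up_le _)) hinj hZn

/-- Let p be an odd prime, G a solvable group of odd order and S a Sylow p-subgroup, and let Z be the centre of the Puig subgroup L(S), viewed inside G. Then G is generated by O_{p'}(G) and N_G(Z); and if O_{p'}(G) = 1 then Z is normal in G. -/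
theorem result {G : Type*} [Group G] [Finite G] [Group.IsSolvable G] (hodd : Odd (Nat.card G)) (p : ℕ) [Fact p.Prime] (hp : p ≠ 2) (S : Sylow p G) :
    Cfsg.pPrimeCore p G ⊔ Subgroup.normalizer ((((Subgroup.center ↥(Cfsg.puigSubgroup ↥(S : Subgroup G))).map (Cfsg.puigSubgroup ↥(S : Subgroup G)).subtype).map (S : Subgroup G).subtype : Subgroup G) : Set G) = ⊤ ∧
      (Cfsg.pPrimeCore p G = ⊥ → (((Subgroup.center ↥(Cfsg.puigSubgroup ↥(S : Subgroup G))).map (Cfsg.puigSubgroup ↥(S : Subgroup G)).subtype).map (S : Subgroup G).subtype).Normal) := by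
  rw [map_center_puig]
  exact ⟨sup_normalizer_eq_top hodd p hp S, fun hO => center_normal_of_core_bot hodd p hp hO S⟩

end Cfsg.Agent.S1469
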