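import Cfsg.Statements.S1396
import Cfsg.Agent.Lib.Helper22_InvariantCore
import Cfsg.Agent.Lib.Helper22_BGTrans

set_option autoImplicit false
open Cfsg

namespace Cfsg.Agent.S1396

open Subgroup Cfsg.Agent.Lib.Helper22_InvariantCore Cfsg.Agent.Lib.Helper22_BGTrans
  Cfsg.Agent.Lib.Helper32_Cores

/-- Let G be a minimal simple group of odd order, p a prime dividing the order of G and A an abelian p-subgroup. Suppose either (1) A consists exactly of the elements x of C_G(A) with x^p = 1, and every proper subgroup of G has p-length at most one, or (2) A is normal and self-centralizing in some Sylow p-subgroup of G and has rank at least 2. Then A satisfies the transitivity hypothesis. -/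
theorem result {G : Type*} [Group G] [Finite G] (hG : Cfsg.IsMinSimpleOddOrder G)
    (p : ℕ) [Fact p.Prime] (hp : p ∣ Nat.card G) (A : Subgroup G) (hAp : IsPGroup p A) (hAc : IsMulCommutative A)
    (h : (∀ x ∈ Subgroup.centralizer (A : Set G), x ^ p = 1 ↔ x ∈ A) ∧ (∀ H : Subgroup G, H ≠ ⊤ → Cfsg.PLengthLE p 1 H) ∨
      ∃ P : Sylow p G, Cfsg.IsSCN (P : Subgroup G) A ∧ ¬ Cfsg.PRankLE p 1 A) :
    Cfsg.TransitivityHypothesis A := by
  have hpp : p.Prime := Fact.out
  have hp2 : p ≠ 2 := by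
    rintro rfl
    exact (Nat.not_even_iff_odd.mpr hG.1) (even_iff_two_dvd.mpr hp)
  have hΩ : ∀ x ∈ centralizer (A : Set G), orderOf x = p → x ∈ A := by
    rcases h with ⟨h1, -⟩ | ⟨P, hscn, -⟩
    · intro x hx hxo
      exact (h1 x hx).mp (by rw [← hxo]; exact pow_orderOf_eq_one x)
    · exact mem_of_mem_centralizer_of_scn p P hscn.1 hscn.2.1 hscn.2.2
  have hAbot : A ≠ ⊥ := by
    rintro rfl
    rcases h with ⟨h1, -⟩ | ⟨P, -, hr⟩
    · obtain ⟨x, hx⟩ := exists_prime_orderOf_dvd_card' p hp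
      have hxC : x ∈ centralizer (((⊥ : Subgroup G) : Subgroup G) : Set G) := by
        rw [mem_centralizer_iff]
        intro b hb
        rw [SetLike.mem_coe, mem_bot] at hb
        rw [hb, one_mul, mul_one]
      have := (h1 x hxC).mp (by rw [← hx]; exact pow_orderOf_eq_one x)
      rw [mem_bot] at this
      rw [this, orderOf_one] at hx
      exact hpp.one_lt.ne hx
    · apply hr
      intro E _ _
      have : Nat.card E = 1 := by
        have hsub : Subsingleton ↥(⊥ : Subgroup G) := inferInstance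
        have : Subsingleton E := ⟨fun a b => Subtype.ext (Subsingleton.elim _ _)⟩
        exact Nat.card_eq_one_iff_unique.mpr ⟨this, ⟨1⟩⟩
      rw [this]
      exact Nat.one_le_pow _ _ hpp.pos
  have hAtop : A ≠ ⊤ := by
    rintro rfl
    apply hG.2.2.1
    refine ⟨⟨fun a b => ?_⟩⟩
    have := hAc.is_comm.comm (⟨a, mem_top a⟩ : (⊤ : Subgroup G)) ⟨b, mem_top b⟩
    exact congrArg Subtype.val this
  obtain ⟨k, hk⟩ := hAp.exists_card_eq
  have hk0 : k ≠ 0 := by
    rintro rfl
    rw [pow_zero] at hk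
    exact hAbot ((Subgroup.card_eq_one).mp hk)
  have hpA : p ∣ Nat.card A := by rw [hk]; exact dvd_pow_self p hk0
  have hπ : ∀ q : ℕ, q.Prime → q ≠ p → q ∈ primesNotDvd (Nat.card A) := by
    intro q hq hqp
    refine ⟨hq, ?_⟩
    rw [hk]
    intro hd
    exact hqp ((Nat.prime_dvd_prime_iff_eq hq hpp).mp (hq.dvd_of_dvd_pow hd))
  refine ⟨hAbot, hAtop, ?_⟩
  intro X hX hAX
  set π' := primesNotDvd (Nat.card A) with hπ'
  apply le_antisymm
  · apply sSup_le
    rintro Y ⟨hYX, hYπ, hAY⟩
    have hY : ¬ p ∣ Nat.card Y := fun hd => (hYπ p hpp hd).2 hpA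
    have h1 := le_map_pPrimeCore_of_invariant p hp2 (hG.2.2.2 X hX) hAX hAp hΩ hYX hY hAY
    refine h1.trans (Subgroup.map_mono ?_)
    apply le_piCore (Cfsg.Agent.Lib.Helper1_Cores.pPrimeCore_normal p)
    intro q hq hqd
    apply hπ q hq
    rintro rfl
    have hc : (Nat.card (pPrimeCore q ↥X)).Coprime q := card_pPrimeCore_coprime q
    exact hq.one_lt.ne' (Nat.eq_one_of_dvd_coprimes hc hqd dvd_rfl)
  · apply le_sSup
    exact ⟨piCoreOf_le π' X, piCoreOf_primes π' X, hAX.trans (le_normalizer_piCoreOf π' X)⟩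

end Cfsg.Agent.S1396
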