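import Mathlib
import Cfsg.Statements.S1457
import Cfsg.Agent.Lib.Helper52_PStabUse
import Cfsg.Agent.Lib.Helper30_Subnormal
import Cfsg.Agent.Lib.Helper55_Fitting

set_option autoImplicit false
set_option linter.unusedSectionVars false
universe u
open Cfsg

namespace Cfsg.Agent.S1457

open Cfsg.Agent.Lib.Helper1_Cores Cfsg.Agent.Lib.Helper52_PStabUse

theorem result_of_pstab {G : Type u} [Group G] [Finite G] [Group.IsSolvable G]
    (hodd : Odd (Nat.card G)) (p : ℕ) [hp : Fact p.Prime] (hst : PStab.{u} p) (S : Sylow p G)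
    (A : Subgroup G) (hA : A ≤ (S : Subgroup G)) (hAc : IsMulCommutative A)
    (hAn : (S : Subgroup G) ≤ Subgroup.normalizer (A : Set G)) :
    A ≤ Cfsg.pPrimePCore p G := by
  by_cases hp2 : p = 2
  · -- the Sylow 2-subgroup of a group of odd order is trivial
    have hS1 : Nat.card (S : Subgroup G) = 1 := by
      obtain ⟨k, hk⟩ := S.2.exists_card_eq
      have hdvd : Nat.card (S : Subgroup G) ∣ Nat.card G := Subgroup.card_subgroup_dvd_card _
      have hoddS : Odd (Nat.card (S : Subgroup G)) := Odd.of_dvd_nat hodd hdvd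
      rw [hk, hp2] at hoddS
      rcases Nat.eq_zero_or_pos k with h0 | h0
      · rw [hk, h0, pow_zero]
      · exfalso
        have : Even (2 ^ k) := (Nat.even_pow.2 ⟨even_two, h0.ne'⟩)
        exact (Nat.not_even_iff_odd.2 hoddS) this
    have hSbot : (S : Subgroup G) = ⊥ := Subgroup.card_eq_one.1 hS1
    rw [hSbot, le_bot_iff] at hA
    rw [hA]
    exact bot_le
  · have hOn : (Cfsg.pPrimeCore p G).Normal := pPrimeCore_normal (G := G) p
    let Y := G ⧸ Cfsg.pPrimeCore p G
    let f : G →* Y := QuotientGroup.mk' (Cfsg.pPrimeCore p G)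
    have hfs : Function.Surjective f := QuotientGroup.mk'_surjective _
    have hO : Cfsg.pPrimeCore p Y = ⊥ :=
      Cfsg.Agent.Lib.Helper30_Subnormal.pPrimeCore_quotient_eq_bot p
    have hYodd : Odd (Nat.card Y) :=
      Odd.of_dvd_nat hodd (Subgroup.card_quotient_dvd_card _)
    set R : Subgroup Y := Cfsg.pCore p Y with hR
    have hRn : R.Normal := pCore_normal (G := Y) p
    have hRp : IsPGroup p R := pCore_isPGroup p
    have hc : Subgroup.centralizer (R : Set Y) ≤ R :=
      Cfsg.Agent.Lib.Helper55_Fitting.centralizer_pCore_le p hO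
    set T : Subgroup Y := (S : Subgroup G).map f with hT
    set B : Subgroup Y := A.map f with hB
    have hBp : IsPGroup p B := (S.2.to_le hA).map f
    have hRT : R ≤ T := by
      have := pCore_le_sylow p (S.mapSurjective hfs)
      rwa [Sylow.coe_mapSurjective] at this
    have hTB : T ≤ Subgroup.normalizer (B : Set Y) := by
      rintro _ ⟨s, hs, rfl⟩
      rw [Subgroup.mem_normalizer_iff]
      intro y
      have hs' := Subgroup.mem_normalizer_iff.1 (hAn hs)
      constructor
      · rintro ⟨a, ha, rfl⟩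
        exact ⟨s * a * s⁻¹, (hs' a).1 ha, by simp⟩
      · rintro ⟨a, ha, hay⟩
        refine ⟨s⁻¹ * a * s, ?_, ?_⟩
        · have := (hs' (s⁻¹ * a * s)).2 (by simpa [mul_assoc] using ha)
          exact this
        · rw [map_mul, map_mul, hay, map_inv]; group
    have hBcomm : ⁅B, B⁆ = ⊥ := by
      rw [Subgroup.commutator_eq_bot_iff_le_centralizer]
      rintro _ ⟨a, ha, rfl⟩
      rw [Subgroup.mem_centralizer_iff]
      rintro _ ⟨b, hb, rfl⟩
      rw [← map_mul, ← map_mul]
      congr 1
      have := hAc.is_comm.comm (⟨b, hb⟩ : A) ⟨a, ha⟩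
      exact congrArg Subtype.val this
    have hquad : ⁅⁅R, B⁆, B⁆ = ⊥ := by
      have h1 : ⁅R, B⁆ ≤ B := by
        rw [Subgroup.commutator_le]
        intro r hr b hb
        have hr' := Subgroup.mem_normalizer_iff.1 (hTB (hRT hr)) b⁻¹
        have h2 : r * b * r⁻¹ ∈ B := by
          have := (Subgroup.mem_normalizer_iff.1 (hTB (hRT hr)) b).1 hb
          exact this
        rw [commutatorElement_def]
        exact B.mul_mem h2 (B.inv_mem hb)
      rw [eq_bot_iff, ← hBcomm]
      exact Subgroup.commutator_mono h1 le_rfl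
    have hCRp : IsPGroup p (Subgroup.centralizer (R : Set Y)) := hRp.to_le hc
    have hBR : B ≤ R := le_pCore_of_pstab p hst hp2 hYodd R B hRp hBp hquad hCRp
    intro a ha
    show f a ∈ Cfsg.pCore p Y
    exact hBR ⟨a, ha, rfl⟩

/-- Let G be a solvable group of odd order, p a prime, S a Sylow p-subgroup of G and A an abelian subgroup of S normal in S. Then A ≤ O_{p',p}(G). -/
theorem result {G : Type*} [Group G] [Finite G] [Group.IsSolvable G] (hodd : Odd (Nat.card G)) (p : ℕ) [Fact p.Prime] (S : Sylow p G) (A : Subgroup G) (hA : A ≤ (S : Subgroup G)) (hAc : IsMulCommutative A)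
    (hAn : (S : Subgroup G) ≤ Subgroup.normalizer (A : Set G)) :
    A ≤ Cfsg.pPrimePCore p G :=
  result_of_pstab hodd p (pstab_holds p) S A hA hAc hAn

end Cfsg.Agent.S1457
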