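import Cfsg.Statements.S1401
import Cfsg.Agent.S1397
import Cfsg.Agent.Lib.Helper22_Uniq6

set_option autoImplicit false
open Cfsg

namespace Cfsg.Agent.S1401

open Subgroup Cfsg.Agent.Lib.Helper22_Uniq Cfsg.Agent.Lib.Helper22_BGTrans

/-- an abelian `p`-subgroup of rank at least three which is a uniqueness subgroup makes every abelian `p`-subgroup
of rank at least three a uniqueness subgroup -/
theorem of_exists {G : Type*} [Group G] [Finite G] (hG : Cfsg.IsMinSimpleOddOrder G) (p : ℕ) [Fact p.Prime]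
    (A' : Subgroup G) (hA'p : IsPGroup p A') (hA'c : IsMulCommutative A') (hA'3 : ¬ Cfsg.PRankLE p 2 ↥A')
    (hA'U : Cfsg.InUniqueMaximal A')
    (A : Subgroup G) (hAp : IsPGroup p A) (hAc : IsMulCommutative A) (hA3 : ¬ Cfsg.PRankLE p 2 ↥A) :
    Cfsg.InUniqueMaximal A := by
  have hpp : p.Prime := Fact.out
  obtain ⟨E, hEA, hEc, hEe, hE3⟩ := exists_elemAb_of_not_pRankLE hA3
  have hAcent : A ≤ centralizer (A : Set G) := by
    intro a ha
    rw [Subgroup.mem_centralizer_iff]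
    intro b hb
    have := isMulCommutative_iff.mp hAc ⟨b, hb⟩ ⟨a, ha⟩
    exact congrArg Subtype.val this
  apply inUniqueMaximal_of_rank_three hG p A' A hA'p hA'c hA'3 hA'U hAp
  · intro hc
    apply hA3
    intro E' _ hE'e
    have hcE : IsCyclic ↥E' := inferInstance
    have h1 : Nat.card ↥E' ≤ p := card_le_of_isCyclic hcE (fun x => by
      apply Subtype.ext
      rw [Subgroup.coe_pow]
      exact hE'e x.1 x.2)
    have h2 : p ≤ p ^ 2 := by nlinarith [hpp.one_lt]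
    omega
  · exact not_pRankLE_of_elemAb (hEA.trans hAcent) hEc hEe hE3

/-- Let G be a minimal simple group of odd order, p a prime, and M a maximal subgroup whose Fitting subgroup contains an elementary abelian subgroup of order p ^ 3. Then every abelian p-subgroup of G containing an elementary abelian subgroup of order p ^ 3 lies in exactly one maximal subgroup of G. -/
theorem result {G : Type*} [Group G] [Finite G] (hG : Cfsg.IsMinSimpleOddOrder G)
    (M : Subgroup G) (hM : IsCoatom M) (p : ℕ) [Fact p.Prime] (hF : ¬ Cfsg.PRankLE p 2 ↥(Cfsg.fittingOf M))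
    (A : Subgroup G) (hAp : IsPGroup p A) (hAc : IsMulCommutative A) (hA3 : ¬ Cfsg.PRankLE p 2 ↥A) :
    Cfsg.InUniqueMaximal A := by
  have hpp : p.Prime := Fact.out
  have hpp2 : p < p ^ 2 := by nlinarith [hpp.one_lt]
  obtain ⟨E, hEF, hEc, hEe, hE3⟩ := exists_elemAb_of_not_pRankLE hF
  have hEea : Cfsg.IsElementaryAbelian p E :=
    ⟨⟨⟨fun a b => Subtype.ext (hEc a.1 a.2 b.1 b.2)⟩⟩, hEe⟩
  have hEp : IsPGroup p ↥E := isPGroup_of_isElementaryAbelian hEea
  have hE1 : E ≠ ⊥ := by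
    rintro rfl
    rw [Subgroup.card_bot] at hE3
    have := Nat.one_le_pow 2 p hpp.pos
    omega
  have hp2 : p ≠ 2 := two_ne_of_dvd_card hG (dvd_card_of_ne_bot hEp hE1)
  -- a maximal elementary abelian subgroup of `F(M)` containing `E`
  have hfin : {B : Subgroup G | B ≤ Cfsg.fittingOf M ∧ Cfsg.IsElementaryAbelian p B ∧ E ≤ B}.Finite :=
    Set.toFinite _
  obtain ⟨A₀, hEA₀, hA₀⟩ := hfin.exists_le_maximal (a := E) ⟨hEF, hEea, le_rfl⟩
  obtain ⟨⟨hA₀F, hA₀e, -⟩, hA₀m⟩ := hA₀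
  have hA₀max : ∀ B : Subgroup G, B ≤ Cfsg.fittingOf M → Cfsg.IsElementaryAbelian p B → A₀ ≤ B → B = A₀ := by
    intro B hBF hBe hAB
    exact le_antisymm (hA₀m ⟨hBF, hBe, hEA₀.trans hAB⟩ hAB) hAB
  have hA₀p : IsPGroup p ↥A₀ := isPGroup_of_isElementaryAbelian hA₀e
  have hA₀card : p ^ 2 < Nat.card ↥A₀ := lt_of_lt_of_le hE3 (Subgroup.card_le_of_le hEA₀)
  have hA₀3 : p ^ 3 ≤ Nat.card ↥A₀ := by
    obtain ⟨k, hk⟩ := IsPGroup.iff_card.mp hA₀p
    rw [hk] at hA₀card ⊢
    have hk3 : 3 ≤ k := by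
      by_contra hlt
      have : k ≤ 2 := by omega
      have := Nat.pow_le_pow_right hpp.pos this
      omega
    exact Nat.pow_le_pow_right hpp.pos hk3
  have hA₀c : ∀ a ∈ A₀, ∀ b ∈ A₀, a * b = b * a := by
    intro a ha b hb
    have := isMulCommutative_iff.mp hA₀e.1 ⟨a, ha⟩ ⟨b, hb⟩
    exact congrArg Subtype.val this
  have h97 := Cfsg.Agent.S1397.result hG M hM p A₀ hA₀F hA₀e hA₀3 hA₀max
  by_cases hFp : IsPGroup p ↥(Cfsg.fittingOf M)
  · -- `F(M)` is a `p`-group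
    have hEM : E ≤ M := hEF.trans (Subgroup.map_subtype_le _)
    have hE'p : IsPGroup p ↥(E.subgroupOf M) := hEp.comap_subtype
    obtain ⟨P, hP⟩ := hE'p.exists_le_sylow
    have hEP : E ≤ (P : Subgroup ↥M).map M.subtype := by
      intro x hx
      exact ⟨⟨x, hEM hx⟩, hP (by rw [mem_subgroupOf]; exact hx), rfl⟩
    have hP'p : IsPGroup p ↥((P : Subgroup ↥M).map M.subtype) := P.isPGroup'.map _
    have hr : ¬ Cfsg.PRankLE p 2 ↥((P : Subgroup ↥M).map M.subtype) :=
      not_pRankLE_of_elemAb hEP hEc hEe hE3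
    obtain ⟨A₁, hA₁, hA₁3⟩ := exists_scn3 hp2 hP'p hr
    have hA₁U := ((h97.2 hFp P).2 A₁ hA₁ hA₁3).2
    exact of_exists hG p A₁ (hP'p.to_le hA₁.1) (isMulCommutative_of_isSCN hA₁) hA₁3 hA₁U A hAp hAc hA3
  · -- `F(M)` is not a `p`-group
    have hLU := h97.1 hFp
    have hA₀U : Cfsg.InUniqueMaximal A₀ := by
      apply Cfsg.Agent.S1399.result hG _ A₀ hLU
      · intro a ha
        rw [Subgroup.mem_centralizer_iff]
        intro x hx
        exact (Subgroup.mem_centralizer_iff.mp (Subgroup.mem_inf.mp hx).2 a ha).symm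
      · apply not_rankLE_of_elemAb hpp (E := A₀) le_rfl hA₀c hA₀e.2
        rw [pow_one]; omega
    exact of_exists hG p A₀ hA₀p hA₀e.1 (not_pRankLE_of_elemAb le_rfl hA₀c hA₀e.2 hA₀card) hA₀U
      A hAp hAc hA3

end Cfsg.Agent.S1401
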