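import Cfsg.Statements.S1282
import Cfsg.Agent.Lib.Helper22_Hyperplane

set_option autoImplicit false
open Cfsg

namespace Cfsg.Agent.S1282

/-- Normalizers grow in `q`-groups. -/
theorem normalizer_inf_not_le {G : Type*} [Group G] [Finite G] {q : ℕ} [Fact q.Prime]
    {Q D : Subgroup G} (hQ : IsPGroup q ↥Q) (hDQ : D ≤ Q) (hne : D ≠ Q) :
    ¬ (Subgroup.normalizer (D : Set G) ⊓ Q ≤ D) := by
  intro hle
  have hnil : Group.IsNilpotent ↥Q := hQ.isNilpotent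
  have hlt : D.subgroupOf Q < ⊤ := by
    rw [lt_top_iff_ne_top, Ne, Subgroup.subgroupOf_eq_top]
    intro h
    exact hne (le_antisymm hDQ h)
  have hlt2 := Group.normalizerCondition_of_isNilpotent (D.subgroupOf Q) hlt
  obtain ⟨x, hxN, hxD⟩ := SetLike.exists_of_lt hlt2
  apply hxD
  rw [Subgroup.mem_subgroupOf]
  apply hle
  refine Subgroup.mem_inf.mpr ⟨?_, x.2⟩
  rw [Subgroup.mem_normalizer_iff] at hxN ⊢
  intro h
  constructor
  · intro hh
    have := (hxN ⟨h, hDQ hh⟩).mp (by rw [Subgroup.mem_subgroupOf]; exact hh)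
    rw [Subgroup.mem_subgroupOf] at this
    exact this
  · intro hh
    have hhQ : h ∈ Q := by
      have h1 : (x : G)⁻¹ * ((x : G) * h * (x : G)⁻¹) * (x : G) ∈ Q :=
        mul_mem (mul_mem (inv_mem x.2) (hDQ hh)) x.2
      have h2 : (x : G)⁻¹ * ((x : G) * h * (x : G)⁻¹) * (x : G) = h := by group
      rwa [h2] at h1
    have := (hxN ⟨h, hhQ⟩).mpr (by rw [Subgroup.mem_subgroupOf]; exact hh)
    rw [Subgroup.mem_subgroupOf] at this
    exact this

/-- `A`-invariance of `N_Q(D)` -/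
theorem le_normalizer_normalizer_inf {G : Type*} [Group G] {A D Q : Subgroup G}
    (hAD : A ≤ Subgroup.normalizer (D : Set G)) (hAQ : A ≤ Subgroup.normalizer (Q : Set G)) :
    A ≤ Subgroup.normalizer ((Subgroup.normalizer (D : Set G) ⊓ Q : Subgroup G) : Set G) := by
  intro a ha
  rw [Subgroup.mem_normalizer_iff]
  intro x
  rw [Subgroup.mem_inf, Subgroup.mem_inf]
  have h1 : x ∈ Subgroup.normalizer (D : Set G) ↔ a * x * a⁻¹ ∈ Subgroup.normalizer (D : Set G) := by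
    constructor
    · intro hx
      exact mul_mem (mul_mem (hAD ha) hx) (inv_mem (hAD ha))
    · intro hx
      have := mul_mem (mul_mem (inv_mem (hAD ha)) hx) (hAD ha)
      have e : a⁻¹ * (a * x * a⁻¹) * a = x := by group
      rwa [e] at this
  rw [← h1, ← Subgroup.mem_normalizer_iff.mp (hAQ ha) x]

/-- Some hyperplane of `A` has fixed points in `N_Q(D)` outside `D`. -/
theorem exists_hyperplane {G : Type*} [Group G] [Finite G] (p : ℕ) [Fact p.Prime]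
    (A : Subgroup G) (hA : Cfsg.IsElementaryAbelian p A) (q : ℕ) [Fact q.Prime] (hqp : q ≠ p)
    {Q D : Subgroup G} (hQ : IsPGroup q ↥Q) (hDQ : D ≤ Q) (hne : D ≠ Q)
    (hAD : A ≤ Subgroup.normalizer (D : Set G)) (hAQ : A ≤ Subgroup.normalizer (Q : Set G)) :
    ∃ B : Subgroup G, B ≤ A ∧ B.relIndex A ≤ p ∧
      ¬ (Subgroup.normalizer (D : Set G) ⊓ Q ⊓ Subgroup.centralizer (B : Set G) ≤ D) := by
  by_contra hcon
  push Not at hcon
  apply normalizer_inf_not_le hQ hDQ hne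
  have hXp : ¬ p ∣ Nat.card ↥(Subgroup.normalizer (D : Set G) ⊓ Q : Subgroup G) := by
    intro hdvd
    have h1 : p ∣ Nat.card ↥Q := hdvd.trans (Subgroup.card_dvd_of_le inf_le_right)
    obtain ⟨n, hn⟩ := IsPGroup.iff_card.mp hQ
    rw [hn] at h1
    have := (Nat.prime_dvd_prime_iff_eq Fact.out Fact.out).mp
      ((Fact.out : p.Prime).dvd_of_dvd_pow h1)
    exact hqp this.symm
  have hcomm : ∀ a ∈ A, ∀ b ∈ A, a * b = b * a := by
    intro a ha b hb
    have := hA.1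
    have h := mul_comm' (⟨a, ha⟩ : A) ⟨b, hb⟩
    exact congrArg Subtype.val h
  refine (Cfsg.Agent.Lib.Helper22_Hyperplane.le_iSup_centralizer_hyperplanes p A _ hcomm hA.2 hXp
    (le_normalizer_normalizer_inf hAD hAQ)).trans ?_
  apply iSup_le
  rintro ⟨B, hBA, hBp⟩
  exact hcon B hBA hBp

/-- Let A be an elementary abelian p-subgroup of rank at least 3 of the finite group G, q ≠ p a prime, and Q₁, Q₂ q-subgroups normalized by A with D = Q₁ ∩ Q₂ different from both. Then there is a non-identity a ∈ A such that, for i = 1 and i = 2, N_{Q_i}(D) ∩ C_G(a) is not contained in D. -/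
theorem result {G : Type*} [Group G] [Finite G] (p : ℕ) [Fact p.Prime] (A : Subgroup G) (hA : Cfsg.IsElementaryAbelian p A) (hA3 : p ^ 3 ≤ Nat.card ↥A) (q : ℕ) [Fact q.Prime] (hqp : q ≠ p) (Q₁ Q₂ : Subgroup G) (h₁ : IsPGroup q ↥Q₁) (h₂ : IsPGroup q ↥Q₂) (hA₁ : A ≤ Subgroup.normalizer (Q₁ : Set G)) (hA₂ : A ≤ Subgroup.normalizer (Q₂ : Set G)) (hD₁ : Q₁ ⊓ Q₂ ≠ Q₁) (hD₂ : Q₁ ⊓ Q₂ ≠ Q₂) : ∃ a ∈ A, a ≠ 1 ∧ ¬ (Subgroup.normalizer ((Q₁ ⊓ Q₂ : Subgroup G) : Set G) ⊓ Q₁ ⊓ Subgroup.centralizer {a} ≤ Q₁ ⊓ Q₂) ∧ ¬ (Subgroup.normalizer ((Q₁ ⊓ Q₂ : Subgroup G) : Set G) ⊓ Q₂ ⊓ Subgroup.centralizer {a} ≤ Q₁ ⊓ Q₂) := by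
  have hpp : p.Prime := Fact.out
  have hAD : A ≤ Subgroup.normalizer ((Q₁ ⊓ Q₂ : Subgroup G) : Set G) := by
    intro a ha
    rw [Subgroup.mem_normalizer_iff]
    intro x
    rw [Subgroup.mem_inf, Subgroup.mem_inf,
      ← Subgroup.mem_normalizer_iff.mp (hA₁ ha) x, ← Subgroup.mem_normalizer_iff.mp (hA₂ ha) x]
  obtain ⟨B₁, hB₁A, hB₁p, hB₁⟩ := exists_hyperplane p A hA q hqp h₁ inf_le_left hD₁ hAD hA₁
  obtain ⟨B₂, hB₂A, hB₂p, hB₂⟩ := exists_hyperplane p A hA q hqp h₂ inf_le_right hD₂ hAD hA₂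
  -- the two hyperplanes meet nontrivially
  have hne : B₁ ⊓ B₂ ≠ ⊥ := by
    intro hbot
    have h1 : (B₁ ⊓ B₂).relIndex A ≤ B₁.relIndex A * B₂.relIndex A := Subgroup.relIndex_inf_le
    have h2 : (B₁ ⊓ B₂).relIndex A = Nat.card ↥A := by
      rw [hbot, Subgroup.relIndex_bot_left]
    have h3 : B₁.relIndex A * B₂.relIndex A ≤ p * p := Nat.mul_le_mul hB₁p hB₂p
    have h4 : p ^ 3 ≤ p * p := by
      calc p ^ 3 ≤ Nat.card ↥A := hA3
        _ = (B₁ ⊓ B₂).relIndex A := h2.symm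
        _ ≤ _ := h1
        _ ≤ p * p := h3
    have h5 : p * p * 2 ≤ p ^ 3 := by
      have : p ^ 3 = p * p * p := by ring
      rw [this]
      exact Nat.mul_le_mul_left _ hpp.two_le
    have h6 : 0 < p * p := Nat.mul_pos hpp.pos hpp.pos
    omega
  obtain ⟨⟨a, haB'⟩, ha1⟩ := (Subgroup.ne_bot_iff_exists_ne_one).mp hne
  have ha1' : a ≠ 1 := by
    intro h
    apply ha1
    exact Subtype.ext h
  have haB₁ : a ∈ B₁ := (Subgroup.mem_inf.mp haB').1
  have haB₂ : a ∈ B₂ := (Subgroup.mem_inf.mp haB').2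
  refine ⟨a, hB₁A haB₁, ha1', ?_, ?_⟩
  · intro hle
    apply hB₁
    refine le_trans (inf_le_inf_left _ (Subgroup.centralizer_le ?_)) hle
    intro x hx
    rw [Set.mem_singleton_iff] at hx
    rw [hx]; exact haB₁
  · intro hle
    apply hB₂
    refine le_trans (inf_le_inf_left _ (Subgroup.centralizer_le ?_)) hle
    intro x hx
    rw [Set.mem_singleton_iff] at hx
    rw [hx]; exact haB₂

end Cfsg.Agent.S1282
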