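import Cfsg.Statements.S1452
import Cfsg.Agent.Lib.Helper20_PGroupRank3
import Cfsg.Agent.Lib.Helper20_OmegaOne
-- import your own Cfsg.Agent.* helpers here

set_option autoImplicit false
open Cfsg

namespace Cfsg.Agent.S1452

open Cfsg.Agent.Lib.Helper20_PGroupOdd Cfsg.Agent.Lib.Helper20_PGroupRank3
  Cfsg.Agent.Lib.Helper20_OmegaOne

/-- Let p be an odd prime and R a finite p-group containing an elementary abelian subgroup of order p ^ 3. If E is a normal elementary abelian subgroup of R of order p ^ 2, then E ≤ A for some normal subgroup A of R with C_R(A) = A that contains an elementary abelian subgroup of order p ^ 3. -/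
theorem result {R : Type*} [Group R] [Finite R] (p : ℕ) [Fact p.Prime] (hp : p ≠ 2) (hR : IsPGroup p R) (hr : ¬ Cfsg.PRankLE p 2 R)
    (E : Subgroup R) [E.Normal] (hE : Cfsg.IsElementaryAbelian p E) (hE2 : Nat.card E = p ^ 2) :
    ∃ A : Subgroup R, E ≤ A ∧ A.Normal ∧ Subgroup.centralizer (A : Set R) = A ∧ ¬ Cfsg.PRankLE p 2 A := by
  have hpP : p.Prime := Fact.out
  have hnil : Group.IsNilpotent R := hR.isNilpotent
  -- an elementary abelian subgroup of order at least `p³`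
  unfold Cfsg.PRankLE at hr
  push Not at hr
  obtain ⟨F, hFc, hFe, hFcard⟩ := hr
  have hFcomm : ∀ x ∈ F, ∀ y ∈ F, x * y = y * x := by
    intro x hx y hy
    have := hFc.is_comm.comm ⟨x, hx⟩ ⟨y, hy⟩
    exact congrArg Subtype.val this
  have hF3 : p ^ 3 ≤ Nat.card F := by
    obtain ⟨j, hj⟩ := IsPGroup.iff_card.mp (hR.to_subgroup F)
    rw [hj] at hFcard ⊢
    have : 2 < j := (Nat.pow_lt_pow_iff_right hpP.one_lt).mp hFcard
    exact Nat.pow_le_pow_right hpP.pos this
  obtain ⟨B, hBn, hBc, hBe, hBcard⟩ := exists_normal_rank_three hp hR F hFcomm hFe hF3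
  -- a good pair generating `E`
  have hEexp : ∀ a ∈ E, a ^ p = 1 := hE.2
  have hEcomm : ∀ x ∈ E, ∀ y ∈ E, x * y = y * x := by
    intro x hx y hy
    have := hE.1.is_comm.comm ⟨x, hx⟩ ⟨y, hy⟩
    exact congrArg Subtype.val this
  have hp12 : p < p ^ 2 := by
    have h4 : p ^ 1 < p ^ 2 := Nat.pow_lt_pow_right hpP.one_lt (by norm_num)
    rwa [pow_one] at h4
  have hp23 : p ^ 2 < p ^ 3 := Nat.pow_lt_pow_right hpP.one_lt (by norm_num)
  have hEnc : ¬ IsCyclic E := by
    intro hc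
    have h1 : Nat.card E ≤ p := by
      apply card_le_of_isCyclic_of_exp hpP
      intro g
      apply Subtype.ext
      simpa using hEexp g.1 g.2
    rw [hE2] at h1
    omega
  obtain ⟨z, h, hg⟩ := exists_good hp hR E hEnc
  have hBE : hg.B = E := Subgroup.eq_of_le_of_card_ge hg.B_le (by rw [hE2, hg.card_B])
  have hzc : z ∈ Subgroup.center R := hg.2.2.1
  have hcomm : ∀ g : R, g * h * g⁻¹ * h⁻¹ ∈ Subgroup.zpowers z := hg.2.2.2.2.2.2
  set ψ := commHom hzc hcomm with hψ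
  have hCmem : ∀ g : R, g ∈ ψ.ker ↔ g * h = h * g := mem_commHom_ker hzc hcomm
  have hhE : h ∈ E := hg.2.1
  have hEC : ∀ r ∈ E, ∀ m ∈ ψ.ker, r * m = m * r := by
    intro r hr m hm
    rw [← hBE] at hr
    obtain ⟨u, hu, v, hv, rfl⟩ := hg.mem_B_iff.mp hr
    obtain ⟨j, rfl⟩ := Subgroup.mem_zpowers_iff.mp hv
    have huc : u ∈ Subgroup.center R := (Subgroup.zpowers_le.mpr hzc) hu
    have h1 : m * h ^ j = h ^ j * m := (Commute.zpow_right ((hCmem m).mp hm) j).eq
    calc u * h ^ j * m = u * (h ^ j * m) := mul_assoc _ _ _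
      _ = u * (m * h ^ j) := by rw [h1]
      _ = (u * m) * h ^ j := (mul_assoc _ _ _).symm
      _ = (m * u) * h ^ j := by rw [(Subgroup.mem_center_iff.mp huc m)]
      _ = m * (u * h ^ j) := mul_assoc _ _ _
  have hcard1 : Nat.card B ≤ Nat.card ↥(B ⊓ ψ.ker) * p := by
    have h1 := Subgroup.relIndex_mul_relIndex (⊥ : Subgroup R) (B ⊓ ψ.ker) B bot_le inf_le_left
    rw [Subgroup.relIndex_bot_left, Subgroup.relIndex_bot_left, Subgroup.inf_relIndex_left,
      Subgroup.relIndex_ker] at h1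
    rw [← h1]
    apply Nat.mul_le_mul_left
    have h2 : Nat.card ↥(B.map ψ) ≤ Nat.card ↥(Subgroup.zpowers z) :=
      Subgroup.card_le_card_group (B.map ψ)
    rwa [Nat.card_zpowers, hg.2.2.2.1] at h2
  have hBC2 : p ^ 2 ≤ Nat.card ↥(B ⊓ ψ.ker) := by
    rw [hBcard] at hcard1
    have h2 : p ^ 3 = p ^ 2 * p := by ring
    rw [h2] at hcard1
    exact Nat.le_of_mul_le_mul_right hcard1 hpP.pos
  -- the normal elementary abelian subgroup `E₁ = E (B ∩ C)`
  set E₁ : Subgroup R := E ⊔ (B ⊓ ψ.ker) with hE₁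
  have hE₁n : E₁.Normal := inferInstance
  have hE₁mem : ∀ x ∈ E₁, ∃ r ∈ E, ∃ e ∈ B ⊓ ψ.ker, r * e = x :=
    fun x hx => Subgroup.mem_sup_of_normal_left.mp hx
  have hre : ∀ r ∈ E, ∀ e ∈ B ⊓ ψ.ker, Commute r e := fun r hr e he => hEC r hr e he.2
  have hE₁c : ∀ x ∈ E₁, ∀ y ∈ E₁, x * y = y * x := by
    intro x hx y hy
    obtain ⟨r, hr, e, he, rfl⟩ := hE₁mem x hx
    obtain ⟨r', hr', e', he', rfl⟩ := hE₁mem y hy
    have c1 : Commute r r' := hEcomm r hr r' hr'
    have c2 : Commute e e' := hBc e he.1 e' he'.1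
    have c3 : Commute r e' := hre r hr e' he'
    have c4 : Commute e r' := (hre r' hr' e he).symm
    exact ((c1.mul_right c3).mul_left (c4.mul_right c2)).eq
  have hE₁e : ∀ x ∈ E₁, x ^ p = 1 := by
    intro x hx
    obtain ⟨r, hr, e, he, rfl⟩ := hE₁mem x hx
    rw [(hre r hr e he).mul_pow, hEexp r hr, hBe e he.1, one_mul]
  have hE₁card : p ^ 3 ≤ Nat.card E₁ := by
    by_contra hlt
    push Not at hlt
    obtain ⟨k, hk⟩ := IsPGroup.iff_card.mp (hR.to_subgroup E₁)
    have hk2 : k ≤ 2 := by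
      by_contra hk3
      push Not at hk3
      have : p ^ 3 ≤ p ^ k := Nat.pow_le_pow_right hpP.pos hk3
      omega
    have hle : Nat.card E₁ ≤ p ^ 2 := by
      rw [hk]; exact Nat.pow_le_pow_right hpP.pos hk2
    have hEq : E = E₁ := Subgroup.eq_of_le_of_card_ge le_sup_left (by rw [hE2]; exact hle)
    have h1 : B ⊓ ψ.ker ≤ E := by rw [hEq]; exact le_sup_right
    have h2 : B ⊓ ψ.ker = E := Subgroup.eq_of_le_of_card_ge h1 (by rw [hE2]; exact hBC2)
    have hhB : h ∈ B := by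
      have : h ∈ B ⊓ ψ.ker := by rw [h2]; exact hhE
      exact this.1
    have hBker : B ≤ ψ.ker := by
      intro b hb
      rw [hCmem]
      exact hBc b hb h hhB
    have h3 : B ⊓ ψ.ker = B := inf_eq_left.mpr hBker
    rw [h3] at h2
    rw [h2, hE2] at hBcard
    omega
  -- a maximal normal abelian subgroup containing `E₁`
  let 𝒮 := {A : Subgroup R // E₁ ≤ A ∧ A.Normal ∧ ∀ x ∈ A, ∀ y ∈ A, x * y = y * x}
  have hne : Nonempty 𝒮 := ⟨⟨E₁, le_rfl, hE₁n, hE₁c⟩⟩
  obtain ⟨⟨A, hE₁A, hAn, hAc⟩, hAmax⟩ := Finite.exists_max (fun A : 𝒮 => Nat.card A.1)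
  have hAcomm : IsMulCommutative A := ⟨⟨fun a b => Subtype.ext (hAc a.1 a.2 b.1 b.2)⟩⟩
  have hcent : Subgroup.centralizer (A : Set R) = A := by
    have hle : A ≤ Subgroup.centralizer (A : Set R) := by
      intro a ha
      rw [Subgroup.mem_centralizer_iff]
      intro b hb
      exact hAc b hb a ha
    by_contra hne'
    have hnot : ¬ Subgroup.centralizer (A : Set R) ≤ A := fun h' => hne' (le_antisymm h' hle)
    obtain ⟨w, hwC, hwA, hw⟩ := exists_central_mod hR A (Subgroup.centralizer (A : Set R)) hnot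
    have hwc : ∀ x ∈ A, x * w = w * x := fun x hx => (Subgroup.mem_centralizer_iff.mp hwC) x hx
    have hA'n : (A ⊔ Subgroup.zpowers w).Normal := normal_sup_zpowers A hw
    have hA'c := (sup_zpowers_comm_exp (p := 0) A hAc (fun x _ => pow_zero x) (pow_zero w) hwc).1
    have h1 := hAmax ⟨A ⊔ Subgroup.zpowers w, hE₁A.trans le_sup_left, hA'n, hA'c⟩
    have h2 : A = A ⊔ Subgroup.zpowers w := Subgroup.eq_of_le_of_card_ge le_sup_left h1
    apply hwA
    rw [h2]
    exact Subgroup.mem_sup_right (Subgroup.mem_zpowers w)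
  refine ⟨A, le_sup_left.trans hE₁A, hAn, hcent, ?_⟩
  intro hrk
  have h1 := hrk (E₁.subgroupOf A)
    ⟨⟨fun a b => Subtype.ext (Subtype.ext (hE₁c a.1.1 (Subgroup.mem_subgroupOf.mp a.2) b.1.1
      (Subgroup.mem_subgroupOf.mp b.2)))⟩⟩
    (fun a ha => Subtype.ext (by simpa using hE₁e a.1 (Subgroup.mem_subgroupOf.mp ha)))
  rw [Nat.card_congr (Subgroup.subgroupOfEquivOfLe hE₁A).toEquiv] at h1
  omega

end Cfsg.Agent.S1452
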