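import Cfsg.Statements.S1402
import Cfsg.Agent.Lib.Helper22_U1402d
import Cfsg.Agent.Lib.Helper22_U1402e
import Cfsg.Agent.Lib.Helper23_BG95
import Cfsg.Agent.Lib.Helper23_BG95I
import Cfsg.Agent.Lib.Helper29_U1402L2
import Cfsg.Agent.Lib.Helper34_U1402
import Cfsg.Agent.Lib.Helper49_U1402L3

set_option autoImplicit false
open Cfsg

namespace Cfsg.Agent.S1402

open Subgroup Cfsg.Agent.Lib.Helper22_U1402

/-- Let G be a minimal simple group of odd order, p a prime, P a Sylow p-subgroup of G and A a normal subgroup of P with C_P(A) = A containing an elementary abelian subgroup of order p ^ 3. Then A lies in exactly one maximal subgroup of G. -/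
theorem result {G : Type*} [Group G] [Finite G] (hG : Cfsg.IsMinSimpleOddOrder G)
    (p : ℕ) [Fact p.Prime] (P : Sylow p G) (A : Subgroup G) (hA : Cfsg.IsSCN (P : Subgroup G) A) (hA3 : ¬ Cfsg.PRankLE p 2 ↥A) :
    Cfsg.InUniqueMaximal A := by
  have hpp : p.Prime := Fact.out
  have hAc : IsMulCommutative ↥A := Cfsg.Agent.Lib.Helper22_Uniq.isMulCommutative_of_isSCN hA
  have hAp : IsPGroup p ↥A := P.isPGroup'.to_le hA.1
  have hA1 : A ≠ ⊥ := Cfsg.Agent.Lib.Helper22_Uniq.ne_bot_of_not_pRankLE hpp hA3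
  obtain ⟨B, hBA, hBe, hB3⟩ := exists_elemAb_card_cube hA3
  obtain ⟨z, hzA, hzD, hz1, -⟩ := Cfsg.Agent.Lib.Helper23_BG95.exists_scn_focal hG P A hA hA1
  have hpG : p ∣ Nat.card G := Cfsg.Agent.Lib.Helper22_Uniq.dvd_card_of_ne_bot hAp hA1
  have hTH : Cfsg.TransitivityHypothesis A :=
    Cfsg.Agent.S1396.result hG p hpG A hAp hAc
      (Or.inr ⟨P, hA, fun h => hA3 (Cfsg.Agent.Lib.Helper22_Uniq.pRankLE_mono hpp (by norm_num) h)⟩)
  refine assembly hG p P A hA hA3 B hBA hBe hB3 ?_ ?_ ?_ ?_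
  · intro hAU H s _ hH hAH hsp hF
    exact lemma_alpha hG p A hAp hAc B hBA hBe hB3 hAU H hH hAH s hsp hF
  · intro hAU hNA hInv H H' s s' hH hAH hs hsp hF hH' hAH' hs' hsp' hF'
    refine Cfsg.Agent.Lib.Helper29_U1402L2.alpha_unique hG p A hAp hAc B hBA hBe hB3 hAU z hzA hz1 hzD hNA hInv
      ?_ ?_ H H' s s' hH hAH hs hsp hF hH' hAH' hs' hsp' hF'
    · intro H s hH hAH hs hsp hF
      have : Fact s.Prime := ⟨hs⟩
      exact lemma_alpha hG p A hAp hAc B hBA hBe hB3 hAU H hH hAH s hsp hF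
    · intro M hM hr q _ X B' hXM hBM hXq hBX hcomm
      exact Cfsg.Agent.Lib.Helper34_U1402.Bt1 hG M hM hr q X B' hXM hBM hXq hBX hcomm
  · intro hAU H s hH hAH hs hsp hF huniq q hq hqp hqs Q hQ hAQ
    have : Fact s.Prime := ⟨hs⟩
    exact Cfsg.Agent.Lib.Helper49_U1402L3.L3 hG p A hAp hAc B hBA hBe hB3 hAU H s hH hAH hs hsp hF
      (lemma_alpha hG p A hAp hAc B hBA hBe hB3 hAU H hH hAH s hsp hF) huniq q hq hqp hqs Q hQ hAQ
  · intro hbeta
    exact Cfsg.Agent.Lib.Helper23_BG95I.caseI hG p A hAp hAc hA3 hTH z hzA hz1 hzD hbeta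

end Cfsg.Agent.S1402
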