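import Cfsg.Statements.S1403
import Cfsg.Agent.S1399
import Cfsg.Agent.S1400
import Cfsg.Agent.S1402
import Cfsg.Agent.Lib.Helper22_Uniq6
import Cfsg.Agent.Lib.Helper49_FitUniq

set_option autoImplicit false
open Cfsg

namespace Cfsg.Agent.S1403

open Subgroup Cfsg.Agent.Lib.Helper22_Uniq Cfsg.Agent.Lib.Helper22_BGTrans

/-- a proper overgroup of a uniqueness subgroup is a uniqueness subgroup -/
theorem inUniqueMaximal_of_le {G : Type*} [Group G] [Finite G] {E K : Subgroup G} (hEK : E ≤ K)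
    (hK : K ≠ ⊤) (hE : Cfsg.InUniqueMaximal E) : Cfsg.InUniqueMaximal K := by
  obtain ⟨M, hM, hKM⟩ := (eq_top_or_exists_le_coatom K).resolve_left hK
  obtain ⟨M₀, -, huniq⟩ := hE
  refine ⟨M, ⟨hM, hKM⟩, ?_⟩
  rintro M' ⟨hM', hKM'⟩
  rw [huniq M' ⟨hM', hEK.trans hKM'⟩, huniq M ⟨hM, hEK.trans hKM⟩]

/-- the case of rank at least three, given the uniqueness of the members of `SCN_3` -/
theorem rank_three {G : Type*} [Group G] [Finite G] (hG : Cfsg.IsMinSimpleOddOrder G)
    (h1402 : ∀ (p : ℕ) [Fact p.Prime] (P : Sylow p G) (A : Subgroup G), Cfsg.IsSCN (P : Subgroup G) A →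
      ¬ Cfsg.PRankLE p 2 ↥A → Cfsg.InUniqueMaximal A)
    (K : Subgroup G) (hK : K ≠ ⊤) (hK3 : ¬ Cfsg.RankLE 2 K) : Cfsg.InUniqueMaximal K := by
  unfold Cfsg.RankLE at hK3
  push Not at hK3
  obtain ⟨p, hpp, hp3⟩ := hK3
  have : Fact p.Prime := ⟨hpp⟩
  have hpp2 : p < p ^ 2 := by nlinarith [hpp.one_lt]
  have hpp3 : p ^ 2 < p ^ 3 := by
    have : p ^ 3 = p ^ 2 * p := by ring
    nlinarith [hpp.one_lt, Nat.one_le_pow 2 p hpp.pos]
  obtain ⟨E, hEK, hEc, hEe, hE3⟩ := exists_elemAb_of_not_pRankLE hp3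
  have hEea : Cfsg.IsElementaryAbelian p E :=
    ⟨⟨⟨fun a b => Subtype.ext (hEc a.1 a.2 b.1 b.2)⟩⟩, hEe⟩
  have hEp : IsPGroup p ↥E := isPGroup_of_isElementaryAbelian hEea
  have hE1 : E ≠ ⊥ := by
    rintro rfl
    rw [Subgroup.card_bot] at hE3
    have := Nat.one_le_pow 2 p hpp.pos
    omega
  have hp2 : p ≠ 2 := two_ne_of_dvd_card hG (dvd_card_of_ne_bot hEp hE1)
  obtain ⟨P, hEP⟩ := hEp.exists_le_sylow
  have hP3 : ¬ Cfsg.PRankLE p 2 ↥(P : Subgroup G) := not_pRankLE_of_elemAb hEP hEc hEe hE3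
  obtain ⟨A, hA, hA3⟩ := exists_scn3 hp2 P.isPGroup' hP3
  have hAU : Cfsg.InUniqueMaximal A := h1402 p P A hA hA3
  have hAp : IsPGroup p ↥A := P.isPGroup'.to_le hA.1
  have hAc : IsMulCommutative ↥A := isMulCommutative_of_isSCN hA
  have hEcent : E ≤ centralizer (E : Set G) := by
    intro a ha
    rw [Subgroup.mem_centralizer_iff]
    intro b hb
    exact hEc b hb a ha
  have hEnc : ¬ IsCyclic ↥E := by
    intro hc
    have h1 : Nat.card ↥E ≤ p := card_le_of_isCyclic hc (fun x => by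
      apply Subtype.ext
      rw [Subgroup.coe_pow]
      exact hEe x.1 x.2)
    omega
  have hEU : Cfsg.InUniqueMaximal E :=
    Cfsg.Agent.S1400.result hG p A E hAp hAc hA3 hAU hEp hEnc
      (not_pRankLE_of_elemAb hEcent hEc hEe hE3)
  exact inUniqueMaximal_of_le hEK hK hEU

theorem core {G : Type*} [Group G] [Finite G] (hG : Cfsg.IsMinSimpleOddOrder G)
    (h1402 : ∀ (p : ℕ) [Fact p.Prime] (P : Sylow p G) (A : Subgroup G), Cfsg.IsSCN (P : Subgroup G) A →
      ¬ Cfsg.PRankLE p 2 ↥A → Cfsg.InUniqueMaximal A)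
    (K : Subgroup G) (hK : K ≠ ⊤) (hK2 : ¬ Cfsg.RankLE 1 K)
    (hK3 : ¬ Cfsg.RankLE 2 K ∨ ¬ Cfsg.RankLE 2 (Subgroup.centralizer (K : Set G))) :
    Cfsg.InUniqueMaximal K := by
  rcases hK3 with hK3 | hC3
  · exact rank_three hG h1402 K hK hK3
  · have hK1 : K ≠ ⊥ := by
      rintro rfl
      apply hK2
      intro p hp B _ _
      have : Nat.card ↥B = 1 := by
        have : Subsingleton ↥(⊥ : Subgroup G) := inferInstance
        have : Subsingleton ↥B := ⟨fun a b => Subtype.ext (Subsingleton.elim _ _)⟩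
        exact Nat.card_unique
      rw [this]
      exact Nat.one_le_pow _ _ hp.pos
    have hCtop : centralizer (K : Set G) ≠ ⊤ := by
      intro htop
      apply hK1
      have hZ : center G = ⊥ := Cfsg.Agent.Lib.Helper22_BGTransUp.center_eq_bot hG
      rw [eq_bot_iff, ← hZ]
      intro k hk
      rw [Subgroup.mem_center_iff]
      intro g
      have hg : g ∈ centralizer (K : Set G) := htop ▸ Subgroup.mem_top g
      exact (Subgroup.mem_centralizer_iff.mp hg k hk).symm
    have hCU : Cfsg.InUniqueMaximal (centralizer (K : Set G)) :=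
      rank_three hG h1402 _ hCtop hC3
    refine Cfsg.Agent.S1399.result hG (centralizer (K : Set G)) K hCU ?_ hK2
    intro k hk
    rw [Subgroup.mem_centralizer_iff]
    intro c hc
    exact (Subgroup.mem_centralizer_iff.mp hc k hk).symm

/-- Let G be a minimal simple group of odd order and K a proper subgroup having an elementary abelian subgroup of order p ^ 2 for some prime p. If K, or its centralizer C_G(K), has an elementary abelian subgroup of order q ^ 3 for some prime q, then K lies in exactly one maximal subgroup of G. -/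
theorem result {G : Type*} [Group G] [Finite G] (hG : Cfsg.IsMinSimpleOddOrder G)
    (K : Subgroup G) (hK : K ≠ ⊤) (hK2 : ¬ Cfsg.RankLE 1 K)
    (hK3 : ¬ Cfsg.RankLE 2 K ∨ ¬ Cfsg.RankLE 2 (Subgroup.centralizer (K : Set G))) :
    Cfsg.InUniqueMaximal K := by
  exact core hG (fun p _ P A hA hA3 => Cfsg.Agent.S1402.result hG p P A hA hA3) K hK hK2 hK3

end Cfsg.Agent.S1403
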