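import Mathlib
import Cfsg.Statements.S0070

set_option autoImplicit false
open Cfsg

namespace Cfsg.Agent.S0070

/-- Gaschütz: a normal subgroup `N ≥ Φ(G)` of a finite group with `N / Φ(G)` nilpotent is nilpotent. -/
theorem gaschutz {G : Type*} [Group G] [Finite G] (N : Subgroup G) [hN : N.Normal]
    (hΦN : frattini G ≤ N)
    (hnil : Group.IsNilpotent (N.map (QuotientGroup.mk' (frattini G)))) : Group.IsNilpotent N := by
  have q := (Group.isNilpotent_of_finite_tfae (G := N)).out 0 3
  rw [q]; clear q
  intro p hp P
  set Φ := frattini G with hΦ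
  set PG := (P : Subgroup N).map N.subtype with hPG
  have hPGN : PG ≤ N := by
    rintro _ ⟨x, _, rfl⟩
    exact x.2
  -- the image of P in N/Φ is a normal Sylow subgroup, hence characteristic
  let f : N →* N.map (QuotientGroup.mk' Φ) := (QuotientGroup.mk' Φ).subgroupMap N
  have hf : Function.Surjective f := (QuotientGroup.mk' Φ).subgroupMap_surjective N
  have hNbar : (N.map (QuotientGroup.mk' Φ)).Normal := hN.map _ (QuotientGroup.mk'_surjective Φ)
  have hPbar_normal : ((P.mapSurjective hf : Sylow p _) : Subgroup (N.map (QuotientGroup.mk' Φ))).Normal :=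
    inferInstance
  have hPbar_char : ((P.mapSurjective hf : Sylow p _) : Subgroup (N.map (QuotientGroup.mk' Φ))).Characteristic :=
    Sylow.characteristic_of_normal _ hPbar_normal
  have hnormal_bar : (((P.mapSurjective hf : Sylow p _) : Subgroup (N.map (QuotientGroup.mk' Φ))).map
      (N.map (QuotientGroup.mk' Φ)).subtype).Normal := inferInstance
  have himage : ((P.mapSurjective hf : Sylow p _) : Subgroup (N.map (QuotientGroup.mk' Φ))).map
      (N.map (QuotientGroup.mk' Φ)).subtype = PG.map (QuotientGroup.mk' Φ) := by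
    rw [Sylow.coe_mapSurjective, hPG, Subgroup.map_map, Subgroup.map_map]
    rfl
  rw [himage] at hnormal_bar
  -- M = PG ⊔ Φ is normal in G
  have hMn : (PG ⊔ Φ).Normal := by
    have h1 : ((PG.map (QuotientGroup.mk' Φ)).comap (QuotientGroup.mk' Φ)).Normal := hnormal_bar.comap _
    rw [Subgroup.comap_map_eq, QuotientGroup.ker_mk'] at h1
    exact h1
  set M := PG ⊔ Φ with hM
  have hPGM : PG ≤ M := le_sup_left
  have hMN : M ≤ N := sup_le hPGN hΦN
  -- PG is a Sylow p-subgroup of M
  have hPGp : IsPGroup p PG := P.isPGroup'.map N.subtype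
  have h1 : IsPGroup p (PG.subgroupOf M) := hPGp.comap_subtype
  have h2 : ¬ p ∣ (PG.subgroupOf M).index := by
    intro hdvd
    have h3 : PG.relIndex M * M.relIndex N = PG.relIndex N := Subgroup.relIndex_mul_relIndex PG M N hPGM hMN
    have h4 : PG.relIndex N = (P : Subgroup N).index := by
      have h9 : (Subgroup.map N.subtype (P : Subgroup N)).subgroupOf N = (P : Subgroup N) :=
        Subgroup.comap_map_eq_self_of_injective N.subtype_injective _
      rw [Subgroup.relIndex, hPG, h9]
    have h5 : p ∣ (P : Subgroup N).index := by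
      rw [← h4, ← h3]
      exact Dvd.dvd.mul_right hdvd _
    exact P.not_dvd_index h5
  let P' : Sylow p M := h1.toSylow h2
  have hP' : (P' : Subgroup M).map M.subtype = PG := by
    rw [IsPGroup.toSylow_coe, Subgroup.map_subgroupOf_eq_of_le hPGM]
  -- Frattini argument
  have hfr := Sylow.normalizer_sup_eq_top P'
  rw [hP'] at hfr
  have hle : PG ≤ Subgroup.normalizer (PG : Set G) := Subgroup.le_normalizer
  have h6 : Subgroup.normalizer (PG : Set G) ⊔ Φ = ⊤ := by
    rw [hM, ← sup_assoc, sup_eq_left.mpr hle] at hfr
    exact hfr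
  have h7 : Subgroup.normalizer (PG : Set G) = ⊤ := frattini_nongenerating h6
  have h8 : PG.Normal := Subgroup.normalizer_eq_top_iff.mp h7
  exact h8.of_map_subtype

theorem result {G : Type*} [Group G] [Finite G] :
    Cfsg.fittingSubgroup (G ⧸ frattini G) = (Cfsg.fittingSubgroup G).map (QuotientGroup.mk' (frattini G)) := by
  apply le_antisymm
  · unfold Cfsg.fittingSubgroup
    apply sSup_le
    rintro Nbar ⟨hNn, hNnil⟩
    have hsurj := QuotientGroup.mk'_surjective (frattini G)
    have hmap : (Nbar.comap (QuotientGroup.mk' (frattini G))).map (QuotientGroup.mk' (frattini G)) = Nbar :=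
      Subgroup.map_comap_eq_self_of_surjective hsurj Nbar
    have hNnormal : (Nbar.comap (QuotientGroup.mk' (frattini G))).Normal := hNn.comap _
    have hΦ : frattini G ≤ Nbar.comap (QuotientGroup.mk' (frattini G)) := by
      intro x hx
      rw [Subgroup.mem_comap]
      have : QuotientGroup.mk' (frattini G) x = 1 := (QuotientGroup.eq_one_iff x).mpr hx
      rw [this]
      exact Subgroup.one_mem _
    have hnil : Group.IsNilpotent (Nbar.comap (QuotientGroup.mk' (frattini G))) := by
      apply gaschutz _ hΦ
      rw [hmap]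
      exact hNnil
    rw [← hmap]
    apply Subgroup.map_mono
    exact le_sSup ⟨hNnormal, hnil⟩
  · rw [Subgroup.map_le_iff_le_comap]
    unfold Cfsg.fittingSubgroup
    apply sSup_le
    rintro N ⟨hNn, hNnil⟩
    rw [← Subgroup.map_le_iff_le_comap]
    apply le_sSup
    refine ⟨hNn.map _ (QuotientGroup.mk'_surjective _), ?_⟩
    exact Group.nilpotent_of_surjective ((QuotientGroup.mk' (frattini G)).subgroupMap N)
      ((QuotientGroup.mk' (frattini G)).subgroupMap_surjective N)

end Cfsg.Agent.S0070
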