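import Cfsg.Statements.S3736
import Cfsg.Agent.Lib.Helper24_CoprimeAction
import Cfsg.Agent.Lib.Helper24_Coprime
import Cfsg.Agent.Lib.Helper2_Coprime
import Cfsg.Agent.Lib.Helper1_Frattini

set_option autoImplicit false
set_option linter.style.haveILetI false
set_option linter.unusedSectionVars false
open Cfsg

namespace Cfsg.Agent.S3736

open Cfsg.Agent.Lib.Helper24_CoprimeAction Cfsg.Agent.Lib.Helper24_Coprime
  Cfsg.Agent.Lib.Helper1_Frattini
open scoped commutatorElement

variable {X : Type*} [Group X] [Finite X]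

/-- **L1**: for a coprime action, `[K, A, A] = 1` forces `[K, A] = 1` -/
theorem comm_eq_bot_of_comm_comm_eq_bot (A K : Subgroup X)
    (hAK : A ≤ Subgroup.normalizer (K : Set X)) (hcop : (Nat.card A).Coprime (Nat.card K))
    (hsolv : Group.IsSolvable A ∨ Group.IsSolvable K) (h : ⁅⁅K, A⁆, A⁆ = ⊥) : ⁅K, A⁆ = ⊥ := by
  rw [Subgroup.commutator_eq_bot_iff_le_centralizer]
  intro k hk
  obtain ⟨d, hd, c, hc, rfl⟩ := coprime_decomp A K hAK hcop hsolv hk
  have hdc : d ∈ Subgroup.centralizer (A : Set X) :=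
    (Subgroup.commutator_eq_bot_iff_le_centralizer.mp h) hd
  exact Subgroup.mul_mem _ hdc hc.2

/-- **L3**: if `[P, A] = P` (coprime action) then `C_P(A) ≤ P'` -/
theorem centralizer_le_commutator (P A : Subgroup X) (hAP : A ≤ Subgroup.normalizer (P : Set X))
    (hcop : (Nat.card A).Coprime (Nat.card P)) (hPA : P ≤ ⁅P, A⁆) :
    P ⊓ Subgroup.centralizer (A : Set X) ≤ ⁅P, P⁆ := by
  classical
  haveI : Fintype ↥A := Fintype.ofFinite _
  let cj : ↥A →* MulAut ↥P := Cfsg.Agent.Lib.Helper2_Coprime.conjAut P A hAP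
  let T : ↥P →* Abelianization ↥P :=
    ∏ a : ↥A, (Abelianization.of.comp (cj a).toMonoidHom)
  have hT : ∀ x : ↥P, T x = ∏ a : ↥A, Abelianization.of (cj a x) := by
    intro x
    simp only [T, MonoidHom.finsetProd_apply]
    rfl
  -- invariance
  have hTinv : ∀ (b : ↥A) (x : ↥P), T (cj b x) = T x := by
    intro b x
    rw [hT, hT]
    refine Fintype.prod_equiv (Equiv.mulRight b) _ _ (fun a => ?_)
    simp only [Equiv.coe_mulRight, map_mul, MulAut.mul_apply]
  -- `T` is trivial
  have hker : ∀ x : ↥P, T x = 1 := by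
    have hK : ⁅P, A⁆ ≤ T.ker.map P.subtype := by
      rw [Subgroup.commutator_le]
      intro g hg a ha
      refine ⟨⟨g, hg⟩ * cj ⟨a, ha⟩ ⟨g, hg⟩⁻¹, ?_, ?_⟩
      · rw [SetLike.mem_coe, MonoidHom.mem_ker, map_mul, hTinv, map_inv, mul_inv_cancel]
      · rw [commutatorElement_def]
        simp only [Subgroup.subtype_apply, Subgroup.coe_mul]
        change g * (a * (g⁻¹ : X) * (a : X)⁻¹) = g * a * g⁻¹ * a⁻¹
        group
    intro x
    obtain ⟨y, hy, hyx⟩ := hK (hPA x.2)
    have : y = x := Subtype.ext hyx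
    rw [← this]
    exact hy
  intro c hc
  have hcfix : ∀ a : ↥A, cj a ⟨c, hc.1⟩ = ⟨c, hc.1⟩ := by
    intro a
    apply Subtype.ext
    change (a : X) * c * (a : X)⁻¹ = c
    have := (Subgroup.mem_centralizer_iff.mp hc.2) a a.2
    rw [this]
    group
  have h1 := hker ⟨c, hc.1⟩
  rw [hT] at h1
  simp only [hcfix, Finset.prod_const, Finset.card_univ] at h1
  rw [← map_pow, ← MonoidHom.mem_ker, Abelianization.ker_of] at h1
  -- so `c ^ |A| ∈ P'`
  have h2 : c ^ Fintype.card ↥A ∈ ⁅P, P⁆ := by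
    have h3 : (commutator ↥P).map P.subtype = ⁅P, P⁆ := by
      rw [commutator_def, Subgroup.map_commutator, ← MonoidHom.range_eq_map, Subgroup.range_subtype]
    rw [← h3]
    exact ⟨_, h1, rfl⟩
  have hco : (Fintype.card ↥A).Coprime (orderOf c) := by
    have hdvd : orderOf c ∣ Nat.card P := by
      have := orderOf_dvd_natCard (⟨c, hc.1⟩ : ↥P)
      rwa [Subgroup.orderOf_mk] at this
    rw [← Nat.card_eq_fintype_card]
    exact Nat.Coprime.coprime_dvd_right hdvd hcop
  obtain ⟨m, hm⟩ := exists_pow_eq_self_of_coprime hco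
  rw [← hm]
  exact Subgroup.pow_mem _ h2 m

/-- `C_P(A) ≤ N` whenever `P' ≤ N` and `[P, A] = P` -/
theorem centralizer_le_of_commutator_le (P A N : Subgroup X)
    (hAP : A ≤ Subgroup.normalizer (P : Set X))
    (hcop : (Nat.card A).Coprime (Nat.card P)) (hPA : P ≤ ⁅P, A⁆) (hN : ⁅P, P⁆ ≤ N) :
    P ⊓ Subgroup.centralizer (A : Set X) ≤ N :=
  (centralizer_le_commutator P A hAP hcop hPA).trans hN

section main

variable {p : ℕ} [Fact p.Prime] (B A P : Subgroup X) (hP : IsPGroup p P)
  (hBP : B ≤ Subgroup.normalizer (P : Set X)) (hAB : A ≤ B)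
  (hAn : B ≤ Subgroup.normalizer (A : Set X)) (hAp : (Nat.card A).Coprime p)
  (hnt : ⁅P, A⁆ ≠ ⊥)
  (hmin : ∀ U : Subgroup X, U < P → B ≤ Subgroup.normalizer (U : Set X) → ⁅U, A⁆ = ⊥)

include hP hAp in
theorem hcop_aux : (Nat.card A).Coprime (Nat.card P) := by
  obtain ⟨n, hn⟩ := IsPGroup.iff_card.mp hP
  rw [hn]
  exact Nat.Coprime.pow_right n hAp

include hP hBP hAB hAn hAp hnt hmin in
/-- (a) `[P, A] = P` -/
theorem comm_eq : ⁅P, A⁆ = P := by
  have hAP : A ≤ Subgroup.normalizer (P : Set X) := hAB.trans hBP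
  have hle : ⁅P, A⁆ ≤ P := commutator_le_of_le_normalizer P A hAP
  by_contra hne
  have hlt : ⁅P, A⁆ < P := lt_of_le_of_ne hle hne
  have hBD : B ≤ Subgroup.normalizer ((⁅P, A⁆ : Subgroup X) : Set X) :=
    fun b hb => mem_normalizer_commutator P A (hBP hb) (hAn hb)
  have h1 := hmin _ hlt hBD
  haveI : Group.IsNilpotent ↥P := hP.isNilpotent
  exact hnt (comm_eq_bot_of_comm_comm_eq_bot A P hAP (hcop_aux A P hP hAp) (Or.inr inferInstance) h1)

include hP hBP hAB hAn hAp hnt hmin in
/-- **L2**: proper `B`-invariant normal subgroups of `P` are central -/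
theorem central_of_proper (U : Subgroup X) (hUP : U < P)
    (hBU : B ≤ Subgroup.normalizer (U : Set X)) (hPU : P ≤ Subgroup.normalizer (U : Set X)) :
    ⁅P, U⁆ = ⊥ := by
  have hPA := comm_eq B A P hP hBP hAB hAn hAp hnt hmin
  have h1 : ⁅U, A⁆ = ⊥ := hmin U hUP hBU
  have hWU : ⁅P, U⁆ ≤ U := by
    rw [Subgroup.commutator_comm]
    exact commutator_le_of_le_normalizer U P hPU
  have hWlt : ⁅P, U⁆ < P := lt_of_le_of_lt hWU hUP
  have hBW : B ≤ Subgroup.normalizer ((⁅P, U⁆ : Subgroup X) : Set X) :=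
    fun b hb => mem_normalizer_commutator P U (hBP hb) (hBU hb)
  have h2 : ⁅⁅P, U⁆, A⁆ = ⊥ := hmin _ hWlt hBW
  have h3 : ⁅⁅U, A⁆, P⁆ = ⊥ := by
    rw [h1]
    exact Subgroup.commutator_bot_left P
  have h4 : ⁅⁅A, P⁆, U⁆ = ⊥ := Subgroup.commutator_commutator_eq_bot_of_rotate h2 h3
  rwa [Subgroup.commutator_comm A P, hPA] at h4

end main

/-- the subgroup of elements of `P` of order dividing `p`, when these are closed under products -/
def omegaSub (p : ℕ) (P : Subgroup X)
    (h : ∀ u ∈ P, ∀ v ∈ P, u ^ p = 1 → v ^ p = 1 → (u * v) ^ p = 1) : Subgroup X where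
  carrier := {x | x ∈ P ∧ x ^ p = 1}
  one_mem' := ⟨P.one_mem, one_pow p⟩
  mul_mem' := by
    rintro a b ⟨ha, ha'⟩ ⟨hb, hb'⟩
    exact ⟨P.mul_mem ha hb, h a ha b hb ha' hb'⟩
  inv_mem' := by
    rintro a ⟨ha, ha'⟩
    exact ⟨P.inv_mem ha, by rw [inv_pow, ha', inv_one]⟩

theorem mem_omegaSub {p : ℕ} {P : Subgroup X}
    {h : ∀ u ∈ P, ∀ v ∈ P, u ^ p = 1 → v ^ p = 1 → (u * v) ^ p = 1} {x : X} :
    x ∈ omegaSub p P h ↔ x ∈ P ∧ x ^ p = 1 := Iff.rfl

theorem le_normalizer_omegaSub {p : ℕ} {P B : Subgroup X}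
    (h : ∀ u ∈ P, ∀ v ∈ P, u ^ p = 1 → v ^ p = 1 → (u * v) ^ p = 1)
    (hBP : B ≤ Subgroup.normalizer (P : Set X)) :
    B ≤ Subgroup.normalizer ((omegaSub p P h : Subgroup X) : Set X) := by
  intro b hb
  rw [Subgroup.mem_normalizer_iff]
  intro x
  rw [mem_omegaSub, mem_omegaSub, ← Subgroup.mem_normalizer_iff.mp (hBP hb) x]
  have : (b * x * b⁻¹) ^ p = b * x ^ p * b⁻¹ := by
    rw [conj_pow]
  rw [this]
  constructor
  · rintro ⟨h1, h2⟩
    exact ⟨h1, by rw [h2]; group⟩
  · rintro ⟨h1, h2⟩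
    refine ⟨h1, ?_⟩
    have : x ^ p = b⁻¹ * (b * x ^ p * b⁻¹) * b := by group
    rw [this, h2]
    group

/-- The Hall–Higman reduction for a minimal non-trivial action. Let B, A and P be subgroups of a finite group with P a p-group, B normalizing P, and A a normal subgroup of B of order prime to p. Suppose A does not centralize P but centralizes every proper B-invariant subgroup of P. Then [P, A] = P; P is elementary abelian or special; B acts irreducibly on P/Φ(P), that is, the only B-invariant subgroups of P containing Φ(P) are Φ(P) and P; and if p is odd then every element of P has order dividing p. -/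
theorem result {X : Type*} [Group X] [Finite X] {p : ℕ} [Fact p.Prime] (B A P : Subgroup X) (hP : IsPGroup p P) (hBP : B ≤ Subgroup.normalizer (P : Set X)) (hAB : A ≤ B) (hAn : B ≤ Subgroup.normalizer (A : Set X)) (hAp : (Nat.card A).Coprime p) (hnt : ⁅P, A⁆ ≠ ⊥) (hmin : ∀ U : Subgroup X, U < P → B ≤ Subgroup.normalizer (U : Set X) → ⁅U, A⁆ = ⊥) : ⁅P, A⁆ = P ∧ (Cfsg.IsElementaryAbelian p P ∨ Cfsg.IsSpecial p ↥P) ∧ (∀ U : Subgroup X, (frattini ↥P).map P.subtype ≤ U → U ≤ P → B ≤ Subgroup.normalizer (U : Set X) → U = (frattini ↥P).map P.subtype ∨ U = P) ∧ (p ≠ 2 → ∀ x ∈ P, x ^ p = 1) := by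
  have hAP : A ≤ Subgroup.normalizer (P : Set X) := hAB.trans hBP
  have hPA : ⁅P, A⁆ = P := comm_eq B A P hP hBP hAB hAn hAp hnt hmin
  have hcop := hcop_aux A P hP hAp
  have hPne : P ≠ ⊥ := by
    rintro rfl
    exact hnt (Subgroup.commutator_bot_left A)
  haveI : Nontrivial ↥P := (Subgroup.nontrivial_iff_ne_bot P).mpr hPne
  have hC : ∀ N : Subgroup X, ⁅P, P⁆ ≤ N → P ⊓ Subgroup.centralizer (A : Set X) ≤ N :=
    fun N hN => centralizer_le_of_commutator_le P A N hAP hcop hPA.ge hN
  -- proper `B`-invariant subgroups lie in `C_P(A)`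
  have hprop : ∀ U : Subgroup X, U ≤ P → U ≠ P → B ≤ Subgroup.normalizer (U : Set X) →
      U ≤ P ⊓ Subgroup.centralizer (A : Set X) := by
    intro U hUP hne hBU
    have h1 := hmin U (lt_of_le_of_ne hUP hne) hBU
    rw [Subgroup.commutator_eq_bot_iff_le_centralizer] at h1
    exact le_inf hUP h1
  -- the Frattini and commutator subgroups inside `X`
  have hP'eq : (commutator ↥P).map P.subtype = ⁅P, P⁆ := by
    rw [commutator_def, Subgroup.map_commutator, ← MonoidHom.range_eq_map, Subgroup.range_subtype]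
  have hP'Φ : ⁅P, P⁆ ≤ (frattini ↥P).map P.subtype := by
    rw [← hP'eq]
    exact Subgroup.map_mono (commutator_le_frattini_of_isPGroup hP)
  have hΦP : (frattini ↥P).map P.subtype ≤ P := Subgroup.map_subtype_le _
  have hΦne : (frattini ↥P).map P.subtype ≠ P := by
    intro h
    rcases eq_top_or_exists_le_coatom (⊥ : Subgroup ↥P) with h0 | ⟨M, hM, -⟩
    · exact bot_ne_top h0
    · have h1 : frattini ↥P ≤ M := frattini_le_coatom hM
      have h2 : frattini ↥P = ⊤ := by
        apply Subgroup.map_injective P.subtype_injective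
        rw [h, ← MonoidHom.range_eq_map, Subgroup.range_subtype]
      rw [h2, top_le_iff] at h1
      exact hM.1 h1
  have hBΦ : B ≤ Subgroup.normalizer (((frattini ↥P).map P.subtype : Subgroup X) : Set X) :=
    hBP.trans (normalizer_le_normalizer_map_of_characteristic P (frattini ↥P))
  have hPΦ : P ≤ Subgroup.normalizer (((frattini ↥P).map P.subtype : Subgroup X) : Set X) :=
    Subgroup.le_normalizer.trans (normalizer_le_normalizer_map_of_characteristic P (frattini ↥P))
  -- class at most two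
  have hP'P : ⁅P, P⁆ ≤ P := Subgroup.commutator_le_self P |> fun h => h
  have hP'ne : ⁅P, P⁆ ≠ P := fun h => hΦne (le_antisymm hΦP ((le_of_eq h.symm).trans hP'Φ))
  have hBP' : B ≤ Subgroup.normalizer ((⁅P, P⁆ : Subgroup X) : Set X) :=
    fun b hb => mem_normalizer_commutator P P (hBP hb) (hBP hb)
  have hPP' : P ≤ Subgroup.normalizer ((⁅P, P⁆ : Subgroup X) : Set X) :=
    fun x hx => mem_normalizer_commutator P P (Subgroup.le_normalizer hx) (Subgroup.le_normalizer hx)
  have hcl : ⁅P, ⁅P, P⁆⁆ = ⊥ :=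
    central_of_proper B A P hP hBP hAB hAn hAp hnt hmin _ (lt_of_le_of_ne hP'P hP'ne) hBP' hPP'
  have hcl' : ∀ c ∈ ⁅P, P⁆, ∀ x ∈ P, c * x = x * c := by
    intro c hc x hx
    rw [Subgroup.commutator_eq_bot_iff_le_centralizer] at hcl
    exact ((Subgroup.mem_centralizer_iff.mp (hcl hx)) c hc)
  -- an element of order `p`
  have hexp : ∃ x ∈ P, x ^ p = 1 ∧ x ≠ 1 := by
    obtain ⟨n, hn0, hn⟩ := hP.nontrivial_iff_card.mp inferInstance
    have hdvd : p ∣ Nat.card ↥P := by rw [hn]; exact dvd_pow_self p hn0.ne'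
    obtain ⟨x, hx⟩ := exists_prime_orderOf_dvd_card' p hdvd
    refine ⟨x, x.2, ?_, ?_⟩
    · have := pow_orderOf_eq_one x
      rw [hx] at this
      exact_mod_cast congrArg Subtype.val this
    · intro h1
      have : x = 1 := Subtype.ext h1
      rw [this, orderOf_one] at hx
      exact (Fact.out : p.Prime).one_lt.ne hx
  refine ⟨hPA, ?_, ?_, ?_⟩
  · -- elementary abelian or special
    by_cases hab : ⁅P, P⁆ = ⊥
    · left
      have hcomm : ∀ x ∈ P, ∀ y ∈ P, x * y = y * x := by
        intro x hx y hy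
        rw [Subgroup.commutator_eq_bot_iff_le_centralizer] at hab
        exact ((Subgroup.mem_centralizer_iff.mp (hab hx)) y hy).symm
      refine ⟨⟨⟨fun x y => Subtype.ext (hcomm x x.2 y y.2)⟩⟩, ?_⟩
      have hmp : ∀ u ∈ P, ∀ v ∈ P, u ^ p = 1 → v ^ p = 1 → (u * v) ^ p = 1 := by
        intro u hu v hv h1 h2
        have : Commute u v := hcomm u hu v hv
        rw [this.mul_pow, h1, h2, one_mul]
      by_contra hnot
      have hΩne : omegaSub p P hmp ≠ P := by
        intro h
        apply hnot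
        intro a ha
        have : a ∈ omegaSub p P hmp := by rw [h]; exact ha
        exact this.2
      have h1 := hprop (omegaSub p P hmp) (fun x hx => hx.1) hΩne (le_normalizer_omegaSub hmp hBP)
      have h2 := h1.trans (hC ⊥ (by rw [hab]))
      obtain ⟨x, hx, hxp, hx1⟩ := hexp
      have : x ∈ (⊥ : Subgroup X) := h2 ⟨hx, hxp⟩
      exact hx1 (Subgroup.mem_bot.mp this)
    · right
      have hZP : (Subgroup.center ↥P).map P.subtype ≤ P := Subgroup.map_subtype_le _
      have hZne : (Subgroup.center ↥P).map P.subtype ≠ P := by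
        intro h
        apply hab
        have h2 : Subgroup.center ↥P = ⊤ := by
          apply Subgroup.map_injective P.subtype_injective
          rw [h, ← MonoidHom.range_eq_map, Subgroup.range_subtype]
        rw [Subgroup.commutator_eq_bot_iff_le_centralizer]
        intro x hx
        rw [Subgroup.mem_centralizer_iff]
        intro y hy
        have h3 : (⟨x, hx⟩ : ↥P) ∈ Subgroup.center ↥P := by rw [h2]; trivial
        have := (Subgroup.mem_center_iff.mp h3) ⟨y, hy⟩
        exact congrArg Subtype.val this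
      have hBZ : B ≤ Subgroup.normalizer (((Subgroup.center ↥P).map P.subtype : Subgroup X) : Set X) :=
        hBP.trans (normalizer_le_normalizer_map_of_characteristic P (Subgroup.center ↥P))
      have hZP' : (Subgroup.center ↥P).map P.subtype ≤ ⁅P, P⁆ :=
        (hprop _ hZP hZne hBZ).trans (hC _ le_rfl)
      have hΦZ : (frattini ↥P).map P.subtype ≤ (Subgroup.center ↥P).map P.subtype := by
        have h1 := central_of_proper B A P hP hBP hAB hAn hAp hnt hmin _
          (lt_of_le_of_ne hΦP hΦne) hBΦ hPΦ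
        rw [Subgroup.commutator_eq_bot_iff_le_centralizer] at h1
        rintro _ ⟨x, hx, rfl⟩
        refine ⟨x, ?_, rfl⟩
        rw [SetLike.mem_coe, Subgroup.mem_center_iff]
        intro y
        have h2 : (P.subtype x) ∈ (frattini ↥P).map P.subtype := Subgroup.mem_map_of_mem _ hx
        have := (Subgroup.mem_centralizer_iff.mp (h1 y.2)) _ h2
        exact Subtype.ext this.symm
      refine ⟨hP, ?_, ?_⟩
      · apply Subgroup.map_injective P.subtype_injective
        exact le_antisymm hΦZ (hZP'.trans hP'Φ)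
      · apply Subgroup.map_injective P.subtype_injective
        rw [hP'eq]
        exact le_antisymm (hP'Φ.trans hΦZ) hZP'
  · -- irreducibility
    intro U hΦU hUP hBU
    by_cases hU : U = P
    · exact Or.inr hU
    · left
      exact le_antisymm ((hprop U hUP hU hBU).trans (hC _ hP'Φ)) hΦU
  · -- exponent `p` for odd `p`
    intro hp2
    have hmp : ∀ u ∈ P, ∀ v ∈ P, u ^ p = 1 → v ^ p = 1 → (u * v) ^ p = 1 := by
      intro u hu v hv h1 h2
      have hc : v * u * v⁻¹ * u⁻¹ ∈ ⁅P, P⁆ := by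
        have := Subgroup.commutator_mem_commutator hv hu
        rwa [commutatorElement_def] at this
      have e := mul_pow_prime_of_central p (Fact.out : p.Prime) hp2 u v
        (hcl' _ hc u hu) (hcl' _ hc v hv) (by rw [h2, one_mul, mul_one])
      rw [e, h1, h2, one_mul]
    by_contra hnot
    have hΩne : omegaSub p P hmp ≠ P := by
      intro h
      apply hnot
      intro a ha
      have : a ∈ omegaSub p P hmp := by rw [h]; exact ha
      exact this.2
    have h1 := hprop (omegaSub p P hmp) (fun x hx => hx.1) hΩne (le_normalizer_omegaSub hmp hBP)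
    apply hnt
    rw [Subgroup.commutator_eq_bot_iff_le_centralizer]
    intro x hx
    rw [Subgroup.mem_centralizer_iff]
    intro a ha
    have hao : (orderOf a).Coprime p :=
      Nat.Coprime.coprime_dvd_left (Subgroup.orderOf_dvd_natCard A ha) hAp
    exact centralizes_pgroup_of_centralizes_omega p hp2 a hao P hP
      (fun y hy => (Subgroup.mem_normalizer_iff.mp (hAP ha) y).mp hy)
      (fun y hy hyp => ((Subgroup.mem_centralizer_iff.mp (h1 ⟨hy, hyp⟩).2) a ha)) x hx

end Cfsg.Agent.S3736
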