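import Cfsg.Statements.S3765
import Cfsg.Agent.S3736
import Cfsg.Agent.Lib.Helper71_ESFpf
import Cfsg.Agent.Lib.Helper71_AbFpf
import Cfsg.Agent.Lib.Helper24_CoprimeAction

set_option autoImplicit false
open Cfsg
open scoped commutatorElement

namespace Cfsg.Agent.S3765

open Cfsg.Agent.Lib.Helper71_ESFpf Cfsg.Agent.Lib.Helper71_AbFpf

/-- abelian case -/
theorem abelian_case {G : Type*} [Group G] [Finite G] {p q r : ℕ} (hp : p.Prime) (hq : q.Prime)
    (hr : r.Prime) (hpq : p ≠ q) (x : G) (hxr : x ^ r = 1) (Q₁ V : Subgroup G)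
    (hQ₁ : IsPGroup q Q₁) (hQ₁c : IsMulCommutative Q₁)
    (hxQ₁ : x ∈ Subgroup.normalizer (Q₁ : Set G))
    (hV : Cfsg.IsElementaryAbelian p V) (hxV : x ∈ Subgroup.normalizer (V : Set G))
    (hQ₁V : Q₁ ≤ Subgroup.normalizer (V : Set G))
    (hfaith : Q₁ ⊓ Subgroup.centralizer (V : Set G) = ⊥) (hne : Q₁ ≠ ⊥)
    (hfpf : ∀ g ∈ Q₁, x * g = g * x → g = 1) :
    ∃ v ∈ V, v ≠ 1 ∧ x * v = v * x := by
  classical
  have := Fact.mk hp
  have := Fact.mk hq
  let _ : CommGroup V :=
    { (inferInstance : Group V) with mul_comm := fun a b => hV.1.is_comm.comm a b }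
  let _ : CommGroup Q₁ :=
    { (inferInstance : Group Q₁) with mul_comm := fun a b => hQ₁c.is_comm.comm a b }
  have hVp : ∀ v : V, v ^ p = 1 := fun v => Subtype.ext (by simpa using hV.2 v v.2)
  let φV := V.normalizerMonoidHom
  let ψ : Q₁ →* MulAut V := φV.comp (Subgroup.inclusion hQ₁V)
  let xV : Subgroup.normalizer (V : Set G) := ⟨x, hxV⟩
  let τ : MulAut V := φV xV
  let σ : MulAut Q₁ := Q₁.normalizerMonoidHom ⟨x, hxQ₁⟩
  have hσapp : ∀ g : Q₁, ((σ g : Q₁) : G) = x * g * x⁻¹ := fun g => rfl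
  have hτapp : ∀ v : V, ((τ v : V) : G) = x * v * x⁻¹ := fun v => rfl
  have hψapp : ∀ (g : Q₁) (v : V), ((ψ g v : V) : G) = g * v * (g : G)⁻¹ := fun g v => rfl
  have hτr : τ ^ r = 1 := by
    show φV xV ^ r = 1
    rw [← map_pow]
    have : xV ^ r = 1 := Subtype.ext (by simpa using hxr)
    rw [this, map_one]
  have hσr : σ ^ r = 1 := by
    show Q₁.normalizerMonoidHom ⟨x, hxQ₁⟩ ^ r = 1
    rw [← map_pow]
    have : (⟨x, hxQ₁⟩ : Subgroup.normalizer (Q₁ : Set G)) ^ r = 1 :=
      Subtype.ext (by simpa using hxr)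
    rw [this, map_one]
  have hτψ : ∀ g, τ * ψ g = ψ (σ g) * τ := by
    intro g
    ext v
    simp only [MulAut.mul_apply, hτapp, hψapp, hσapp]
    group
  have hσfix : ∀ g : Q₁, σ g = g → g = 1 := by
    intro g hg
    apply Subtype.ext
    apply hfpf g g.2
    have := congrArg Subtype.val hg
    rw [hσapp] at this
    calc x * g = x * g * x⁻¹ * x := by group
      _ = g * x := by rw [this]
  have hact : ∃ g, ψ g ≠ 1 := by
    have hnt : Nontrivial Q₁ := (Subgroup.nontrivial_iff_ne_bot Q₁).2 hne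
    obtain ⟨z, hz⟩ := exists_ne (1 : Q₁)
    refine ⟨z, ?_⟩
    intro h
    apply hz
    have h1 : (z : G) ∈ Q₁ ⊓ Subgroup.centralizer (V : Set G) := by
      refine Subgroup.mem_inf.2 ⟨z.2, ?_⟩
      rw [Subgroup.mem_centralizer_iff]
      intro v hv
      have h2 := congrArg (fun f : MulAut V => ((f ⟨v, hv⟩ : V) : G)) h
      simp only [hψapp, MulAut.one_apply] at h2
      calc v * (z : G) = (z : G) * v * (z : G)⁻¹ * (z : G) := by rw [h2]
        _ = (z : G) * v := by group
    rw [hfaith, Subgroup.mem_bot] at h1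
    exact Subtype.ext h1
  have hpQ : ¬ p ∣ Nat.card Q₁ := by
    obtain ⟨k, hk⟩ := (IsPGroup.iff_card.1 hQ₁)
    rw [hk]
    intro h
    exact hpq ((Nat.prime_dvd_prime_iff_eq hp hq).1 (hp.dvd_of_dvd_pow h))
  obtain ⟨v, hv1, hv⟩ := exists_fixed_of_abelian_action hr hpQ hVp ψ τ σ hτr hσr hτψ hσfix hact
  refine ⟨v, v.2, ?_, ?_⟩
  · intro h
    apply hv1
    exact Subtype.ext h
  · have := congrArg Subtype.val hv
    rw [hτapp] at this
    calc x * v = x * v * x⁻¹ * x := by group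
      _ = v * x := by rw [this]

/-- special case -/
theorem special_case {G : Type*} [Group G] [Finite G] {p q r : ℕ} (hp : p.Prime) (hq : q.Prime)
    (hr : r.Prime) (hpq : p ≠ q) (hpr : p ≠ r) (hqr : q ≠ r) (x : G) (hxr : x ^ r = 1)
    (Q₁ V : Subgroup G) (hQ₁ : Cfsg.IsSpecial q ↥Q₁)
    (hxQ₁ : x ∈ Subgroup.normalizer (Q₁ : Set G))
    (hV : Cfsg.IsElementaryAbelian p V) (hxV : x ∈ Subgroup.normalizer (V : Set G))
    (hQ₁V : Q₁ ≤ Subgroup.normalizer (V : Set G))
    (hfaith : Q₁ ⊓ Subgroup.centralizer (V : Set G) = ⊥)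
    (hnab : ∃ g : Q₁, g ∉ Subgroup.center Q₁)
    (hcent : ∀ z ∈ Subgroup.center Q₁, x * (z : G) = z * x)
    (hfixQ : ∀ g : Q₁, x * (g : G) = g * x → g ∈ Subgroup.center Q₁)
    (hirr : ∀ U : Subgroup G, (Subgroup.center Q₁).map Q₁.subtype ≤ U → U ≤ Q₁ →
      x ∈ Subgroup.normalizer (U : Set G) → U = (Subgroup.center Q₁).map Q₁.subtype ∨ U = Q₁)
    (hCV : ∀ v ∈ V, x * v = v * x → v = 1) :
    (Subgroup.center Q₁).index = (r - 1) ^ 2 := by
  classical
  have := Fact.mk hp
  have := Fact.mk hq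
  let _ : CommGroup V :=
    { (inferInstance : Group V) with mul_comm := fun a b => hV.1.is_comm.comm a b }
  have hVp : ∀ v : V, v ^ p = 1 := fun v => Subtype.ext (by simpa using hV.2 v v.2)
  let φV := V.normalizerMonoidHom
  let ψ : Q₁ →* MulAut V := φV.comp (Subgroup.inclusion hQ₁V)
  let xV : Subgroup.normalizer (V : Set G) := ⟨x, hxV⟩
  let τ : MulAut V := φV xV
  let σ : MulAut Q₁ := Q₁.normalizerMonoidHom ⟨x, hxQ₁⟩
  have hσapp : ∀ g : Q₁, ((σ g : Q₁) : G) = x * g * x⁻¹ := fun g => rfl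
  have hτapp : ∀ v : V, ((τ v : V) : G) = x * v * x⁻¹ := fun v => rfl
  have hψapp : ∀ (g : Q₁) (v : V), ((ψ g v : V) : G) = g * v * (g : G)⁻¹ := fun g v => rfl
  have hτr : τ ^ r = 1 := by
    show φV xV ^ r = 1
    rw [← map_pow]
    have : xV ^ r = 1 := Subtype.ext (by simpa using hxr)
    rw [this, map_one]
  have hσr : σ ^ r = 1 := by
    show Q₁.normalizerMonoidHom ⟨x, hxQ₁⟩ ^ r = 1
    rw [← map_pow]
    have : (⟨x, hxQ₁⟩ : Subgroup.normalizer (Q₁ : Set G)) ^ r = 1 :=
      Subtype.ext (by simpa using hxr)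
    rw [this, map_one]
  have hτψ : ∀ g, τ * ψ g = ψ (σ g) * τ := by
    intro g
    ext v
    simp only [MulAut.mul_apply, hτapp, hψapp, hσapp]
    group
  let Z : Subgroup Q₁ := Subgroup.center Q₁
  have hcommZ : ∀ g h : Q₁, ⁅g, h⁆ ∈ Z := by
    intro g h
    have : ⁅g, h⁆ ∈ commutator Q₁ := by
      rw [commutator_def]
      exact Subgroup.commutator_mem_commutator (Subgroup.mem_top g) (Subgroup.mem_top h)
    rw [hQ₁.2.2] at this
    exact this
  have hσZ : ∀ z ∈ Z, σ z = z := by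
    intro z hz
    apply Subtype.ext
    rw [hσapp, hcent z hz]
    group
  have hσfix : ∀ g : Q₁, σ g = g → g ∈ Z := by
    intro g hg
    apply hfixQ
    have := congrArg Subtype.val hg
    rw [hσapp] at this
    calc x * g = x * g * x⁻¹ * x := by group
      _ = g * x := by rw [this]
  have hQp : IsPGroup q Q₁ := hQ₁.1
  have hsemi : ∀ g, σ g * g⁻¹ ∈ Z → g ∈ Z := by
    intro g hg
    apply hσfix
    set c := σ g * g⁻¹ with hc
    have hσg : σ g = c * g := by rw [hc]; group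
    have hpow : ∀ k : ℕ, (σ ^ k) g = c ^ k * g := by
      intro k
      induction k with
      | zero => simp
      | succ k ih =>
        rw [pow_succ', MulAut.mul_apply, ih, map_mul, map_pow, hσZ c hg, hσg, pow_succ]
        group
    have h1 := hpow r
    rw [hσr, MulAut.one_apply] at h1
    have hcr : c ^ r = 1 := by
      have : c ^ r * g = 1 * g := by rw [← h1, one_mul]
      exact mul_right_cancel this
    obtain ⟨k, hk⟩ := hQp c
    have hc1 : c = 1 := by
      have hcop : Nat.Coprime (q ^ k) r := by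
        apply Nat.Coprime.pow_left
        exact (Nat.coprime_primes hq hr).2 hqr
      have h2 : orderOf c ∣ q ^ k := orderOf_dvd_of_pow_eq_one hk
      have h3 : orderOf c ∣ r := orderOf_dvd_of_pow_eq_one hcr
      have : orderOf c ∣ Nat.gcd (q ^ k) r := Nat.dvd_gcd h2 h3
      rw [hcop] at this
      exact orderOf_eq_one_iff.1 (Nat.dvd_one.1 this)
    rw [hσg, hc1, one_mul]
  have hD : ∀ D : Subgroup Q₁, D ≤ Z → D ≠ Z → ∀ g, (∀ h, ⁅g, h⁆ ∈ D) → g ∈ Z := by
    intro D hDZ hDne g hg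
    have hcen : ∀ (c : Q₁), c ∈ D → ∀ a : Q₁, a * c * a⁻¹ = c := by
      intro c hc a
      have := Subgroup.mem_center_iff.1 (hDZ hc) a
      rw [this]; group
    let R : Subgroup Q₁ :=
      { carrier := {g | ∀ h, ⁅g, h⁆ ∈ D}
        one_mem' := by
          intro h
          simp only [commutatorElement_one_left]
          exact D.one_mem
        mul_mem' := by
          intro a b ha hb h
          have e : ⁅a * b, h⁆ = a * ⁅b, h⁆ * a⁻¹ * ⁅a, h⁆ := by
            simp only [commutatorElement_def]; group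
          rw [e, hcen _ (hb h)]
          exact D.mul_mem (hb h) (ha h)
        inv_mem' := by
          intro a ha h
          have e : ⁅a⁻¹, h⁆ = a⁻¹ * ⁅a, h⁆⁻¹ * a⁻¹⁻¹ := by
            simp only [commutatorElement_def]; group
          rw [e, hcen _ (D.inv_mem (ha h))]
          exact D.inv_mem (ha h) }
    have hRmem : ∀ g : Q₁, g ∈ R ↔ ∀ h, ⁅g, h⁆ ∈ D := fun g => Iff.rfl
    have hσR : ∀ g ∈ R, σ g ∈ R := by
      intro g hg
      rw [hRmem] at hg ⊢
      intro h
      have e : ⁅σ g, h⁆ = σ ⁅g, σ.symm h⁆ := by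
        rw [map_commutatorElement, MulEquiv.apply_symm_apply]
      rw [e, hσZ _ (hDZ (hg _))]
      exact hg _
    let U : Subgroup G := R.map Q₁.subtype
    have hZU : (Subgroup.center Q₁).map Q₁.subtype ≤ U := by
      apply Subgroup.map_mono
      intro z hz
      rw [hRmem]
      intro h
      have : ⁅z, h⁆ = 1 := by
        rw [commutatorElement_eq_one_iff_mul_comm]
        exact (Subgroup.mem_center_iff.1 hz h).symm
      rw [this]
      exact D.one_mem
    have hUQ : U ≤ Q₁ := Subgroup.map_subtype_le R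
    have hxU : x ∈ Subgroup.normalizer (U : Set G) := by
      apply Subgroup.mem_normalizer_fintype
      rintro _ ⟨g, hg, rfl⟩
      exact ⟨σ g, hσR g hg, rfl⟩
    rcases hirr U hZU hUQ hxU with h | h
    · have : (g : G) ∈ U := ⟨g, hg, rfl⟩
      rw [h] at this
      obtain ⟨g', hg', hgg'⟩ := this
      have : g' = g := Subtype.ext hgg'
      rw [← this]; exact hg'
    · exfalso
      apply hDne
      apply le_antisymm hDZ
      have hRtop : ∀ g : Q₁, g ∈ R := by
        intro g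
        have : (g : G) ∈ U := by rw [h]; exact g.2
        obtain ⟨g', hg', hgg'⟩ := this
        have : g' = g := Subtype.ext hgg'
        rw [← this]; exact hg'
      show Subgroup.center Q₁ ≤ D
      rw [← hQ₁.2.2, commutator_def, Subgroup.commutator_le]
      intro a _ b _
      exact hRtop a b
  have hne : ∃ g, g ∉ Z := hnab
  have hZne : Z ≠ ⊥ := by
    intro hZ
    obtain ⟨g, hg⟩ := hnab
    apply hg
    rw [Subgroup.mem_center_iff]
    intro h
    have := hcommZ g h
    rw [hZ, Subgroup.mem_bot, commutatorElement_eq_one_iff_mul_comm] at this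
    exact this.symm
  have hZact : ∃ z ∈ Z, ψ z ≠ 1 := by
    have hnt : Nontrivial Z := (Subgroup.nontrivial_iff_ne_bot Z).2 hZne
    obtain ⟨z, hz⟩ := exists_ne (1 : Z)
    refine ⟨z, z.2, ?_⟩
    intro h
    apply hz
    have h1 : ((z : Q₁) : G) ∈ Q₁ ⊓ Subgroup.centralizer (V : Set G) := by
      refine Subgroup.mem_inf.2 ⟨(z : Q₁).2, ?_⟩
      rw [Subgroup.mem_centralizer_iff]
      intro v hv
      have h2 := congrArg (fun f : MulAut V => ((f ⟨v, hv⟩ : V) : G)) h
      simp only [hψapp, MulAut.one_apply] at h2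
      calc v * ((z : Q₁) : G) = ((z : Q₁) : G) * v * ((z : Q₁) : G)⁻¹ * ((z : Q₁) : G) := by rw [h2]
        _ = ((z : Q₁) : G) * v := by group
    rw [hfaith, Subgroup.mem_bot] at h1
    exact Subtype.ext (Subtype.ext h1)
  have hfix : ∀ v, τ v = v → v = 1 := by
    intro v hv
    apply Subtype.ext
    apply hCV v v.2
    have := congrArg Subtype.val hv
    rw [hτapp] at this
    calc x * v = x * v * x⁻¹ * x := by group
      _ = v * x := by rw [this]
  have hpQ : ¬ p ∣ Nat.card Q₁ := by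
    obtain ⟨k, hk⟩ := (IsPGroup.iff_card.1 hQp)
    rw [hk]
    intro h
    exact hpq ((Nat.prime_dvd_prime_iff_eq hp hq).1 (hp.dvd_of_dvd_pow h))
  exact index_eq_of_fpf_action hr hpr hpQ hVp ψ τ σ hτr hτψ Z le_rfl hcommZ hσZ hsemi
    hD hZact hne hfix

/-- Let p, q, r be distinct primes and let X, Q, V be subgroups of a finite group with X of order r normalizing the q-group Q and acting faithfully on it (X ∩ C(Q) = 1), and V a nontrivial elementary abelian p-group normalized by X and Q on which XQ acts faithfully. If q = 2 and r has the form 2^n + 1, assume in addition that Q is abelian. Then C_V(X) ≠ 1. -/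
theorem result {G : Type*} [Group G] [Finite G] {p q r : ℕ} (hp : p.Prime) (hq : q.Prime) (hr : r.Prime) (hpq : p ≠ q) (hpr : p ≠ r) (hqr : q ≠ r) (X Q V : Subgroup G) (hX : Nat.card X = r) (hQ : IsPGroup q Q) (hXQ : X ≤ Subgroup.normalizer (Q : Set G)) (hXfaith : X ⊓ Subgroup.centralizer (Q : Set G) = ⊥) (hV : Cfsg.IsElementaryAbelian p V) (hV1 : V ≠ ⊥) (hXV : X ≤ Subgroup.normalizer (V : Set G)) (hQV : Q ≤ Subgroup.normalizer (V : Set G)) (hfaith : (X ⊔ Q) ⊓ Subgroup.centralizer (V : Set G) = ⊥) (hexc : q = 2 → (∃ n : ℕ, r = 2 ^ n + 1) → IsMulCommutative Q) : V ⊓ Subgroup.centralizer (X : Set G) ≠ ⊥ := by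
  classical
  intro hCV
  have := Fact.mk hp
  have := Fact.mk hq
  have := Fact.mk hr
  -- a generator of `X`
  have hXcyc : IsCyclic X := isCyclic_of_prime_card hX
  obtain ⟨⟨x, hxX⟩, hxgen⟩ := hXcyc.exists_generator
  have hXz : ∀ y ∈ X, y ∈ Subgroup.zpowers x := by
    intro y hy
    obtain ⟨k, hk⟩ := Subgroup.mem_zpowers_iff.1 (hxgen ⟨y, hy⟩)
    exact Subgroup.mem_zpowers_iff.2 ⟨k, by simpa using congrArg Subtype.val hk⟩
  have hXle : ∀ H : Subgroup G, x ∈ H → X ≤ H := by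
    intro H hx y hy
    obtain ⟨k, rfl⟩ := Subgroup.mem_zpowers_iff.1 (hXz y hy)
    exact H.zpow_mem hx k
  have hxr : x ^ r = 1 := by
    have h1 : (⟨x, hxX⟩ : X) ^ Nat.card X = 1 := pow_card_eq_one'
    rw [hX] at h1
    simpa using congrArg Subtype.val h1
  -- commuting with `x` means centralising `X`
  have hcentX : ∀ g : G, x * g = g * x → g ∈ Subgroup.centralizer (X : Set G) := by
    intro g hg
    rw [Subgroup.mem_centralizer_iff]
    intro y hy
    obtain ⟨k, rfl⟩ := Subgroup.mem_zpowers_iff.1 (hXz y hy)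
    exact ((Commute.zpow_left (show Commute x g from hg) k).eq)
  have hCV' : ∀ v ∈ V, x * v = v * x → v = 1 := by
    intro v hv hxv
    have : v ∈ V ⊓ Subgroup.centralizer (X : Set G) := Subgroup.mem_inf.2 ⟨hv, hcentX v hxv⟩
    rw [hCV, Subgroup.mem_bot] at this
    exact this
  -- `[Q, X] ≠ 1`
  have hQX : ⁅Q, X⁆ ≠ ⊥ := by
    intro h
    rw [Subgroup.commutator_comm, Subgroup.commutator_eq_bot_iff_le_centralizer] at h
    have h1 : x ∈ X ⊓ Subgroup.centralizer (Q : Set G) := Subgroup.mem_inf.2 ⟨hxX, h hxX⟩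
    rw [hXfaith, Subgroup.mem_bot] at h1
    have h2 : X = ⊥ := by
      rw [eq_bot_iff]
      apply hXle
      rw [h1]; exact Subgroup.one_mem _
    rw [h2] at hX
    rw [Subgroup.card_bot] at hX
    exact hr.one_lt.ne hX
  -- minimal `Q₁`
  obtain ⟨Q₁, ⟨hQ₁Q, hXQ₁, hQ₁X⟩, hQ₁min⟩ := wellFounded_lt.has_min
    {U : Subgroup G | U ≤ Q ∧ X ≤ Subgroup.normalizer (U : Set G) ∧ ⁅U, X⁆ ≠ ⊥}
    ⟨Q, le_rfl, hXQ, hQX⟩
  have hmin : ∀ U : Subgroup G, U < Q₁ → X ≤ Subgroup.normalizer (U : Set G) → ⁅U, X⁆ = ⊥ := by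
    intro U hU hXU
    by_contra hne
    exact hQ₁min U ⟨hU.le.trans hQ₁Q, hXU, hne⟩ hU
  have hQ₁p : IsPGroup q Q₁ := hQ.to_le hQ₁Q
  have hcopXq : (Nat.card X).Coprime q := by
    rw [hX]; exact (Nat.coprime_primes hr hq).2 hqr.symm
  obtain ⟨hcomm, hor, hirr, -⟩ := Cfsg.Agent.S3736.result X X Q₁ hQ₁p hXQ₁ le_rfl
    Subgroup.le_normalizer hcopXq hQ₁X hmin
  have hcop : (Nat.card X).Coprime (Nat.card Q₁) := by
    obtain ⟨n, hn⟩ := IsPGroup.iff_card.mp hQ₁p
    rw [hn]
    exact Nat.Coprime.pow_right n hcopXq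
  have hcle : Q₁ ⊓ Subgroup.centralizer (X : Set G) ≤ ⁅Q₁, Q₁⁆ :=
    Cfsg.Agent.S3736.centralizer_le_commutator Q₁ X hXQ₁ hcop hcomm.ge
  have hQ₁ne : Q₁ ≠ ⊥ := by
    intro h
    apply hQ₁X
    rw [h, eq_bot_iff, Subgroup.commutator_le]
    intro a ha b _
    rw [Subgroup.mem_bot] at ha
    rw [ha, commutatorElement_one_left]
    exact Subgroup.one_mem _
  have hxQ₁ : x ∈ Subgroup.normalizer (Q₁ : Set G) := hXQ₁ hxX
  have hxV : x ∈ Subgroup.normalizer (V : Set G) := hXV hxX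
  have hQ₁V : Q₁ ≤ Subgroup.normalizer (V : Set G) := hQ₁Q.trans hQV
  have hfaith₁ : Q₁ ⊓ Subgroup.centralizer (V : Set G) = ⊥ := by
    rw [eq_bot_iff, ← hfaith]
    exact inf_le_inf_right _ (hQ₁Q.trans le_sup_right)
  rcases hor with hab | hsp
  · -- abelian case
    have hfpf : ∀ g ∈ Q₁, x * g = g * x → g = 1 := by
      intro g hg hxg
      have h1 : g ∈ ⁅Q₁, Q₁⁆ := hcle (Subgroup.mem_inf.2 ⟨hg, hcentX g hxg⟩)
      have h2 : ⁅Q₁, Q₁⁆ = ⊥ := by
        rw [eq_bot_iff, Subgroup.commutator_le]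
        intro a ha b hb
        rw [Subgroup.mem_bot, commutatorElement_eq_one_iff_mul_comm]
        have := hab.1.is_comm.comm ⟨a, ha⟩ ⟨b, hb⟩
        exact congrArg Subtype.val this
      rw [h2, Subgroup.mem_bot] at h1
      exact h1
    obtain ⟨v, hvV, hv1, hxv⟩ := abelian_case hp hq hr hpq x hxr Q₁ V hQ₁p hab.1 hxQ₁ hV hxV hQ₁V
      hfaith₁ hQ₁ne hfpf
    exact hv1 (hCV' v hvV hxv)
  · -- special case
    have hmapcomm : (commutator ↥Q₁).map Q₁.subtype = ⁅Q₁, Q₁⁆ := by
      rw [commutator_def, Subgroup.map_commutator, ← MonoidHom.range_eq_map, Subgroup.range_subtype]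
    have hnab : ∃ g : Q₁, g ∉ Subgroup.center Q₁ := by
      by_contra hcon
      push Not at hcon
      -- then `Q₁` is abelian, so `commutator = ⊥ = center = ⊤`
      have h1 : commutator ↥Q₁ = ⊥ := by
        rw [eq_bot_iff, commutator_def, Subgroup.commutator_le]
        intro a _ b _
        rw [Subgroup.mem_bot, commutatorElement_eq_one_iff_mul_comm]
        exact (Subgroup.mem_center_iff.1 (hcon a) b).symm
      have h2 : Subgroup.center ↥Q₁ = ⊥ := by rw [← hsp.2.2, h1]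
      apply hQ₁ne
      rw [eq_bot_iff]
      intro g hg
      have := hcon ⟨g, hg⟩
      rw [h2, Subgroup.mem_bot] at this
      rw [Subgroup.mem_bot]
      exact congrArg Subtype.val this
    have hZlt : (Subgroup.center ↥Q₁).map Q₁.subtype < Q₁ := by
      refine lt_of_le_of_ne (Subgroup.map_subtype_le _) ?_
      intro h
      obtain ⟨g, hg⟩ := hnab
      apply hg
      have : (g : G) ∈ (Subgroup.center ↥Q₁).map Q₁.subtype := by rw [h]; exact g.2
      obtain ⟨g', hg', hgg'⟩ := this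
      have : g' = g := Subtype.ext hgg'
      rw [← this]; exact hg'
    have hXZ : X ≤ Subgroup.normalizer (((Subgroup.center ↥Q₁).map Q₁.subtype : Subgroup G) : Set G) :=
      hXQ₁.trans
        (Cfsg.Agent.Lib.Helper24_CoprimeAction.normalizer_le_normalizer_map_of_characteristic Q₁
          (Subgroup.center ↥Q₁))
    have hZX := hmin _ hZlt hXZ
    rw [Subgroup.commutator_eq_bot_iff_le_centralizer] at hZX
    have hcent : ∀ z ∈ Subgroup.center Q₁, x * (z : G) = z * x := by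
      intro z hz
      have h1 : (z : G) ∈ Subgroup.centralizer (X : Set G) := hZX ⟨z, hz, rfl⟩
      rw [Subgroup.mem_centralizer_iff] at h1
      exact h1 x hxX
    have hfixQ : ∀ g : Q₁, x * (g : G) = g * x → g ∈ Subgroup.center Q₁ := by
      intro g hxg
      have h1 : (g : G) ∈ ⁅Q₁, Q₁⁆ := hcle (Subgroup.mem_inf.2 ⟨g.2, hcentX g hxg⟩)
      rw [← hmapcomm, hsp.2.2] at h1
      obtain ⟨g', hg', hgg'⟩ := h1
      have : g' = g := Subtype.ext hgg'
      rw [← this]; exact hg'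
    have hirr' : ∀ U : Subgroup G, (Subgroup.center Q₁).map Q₁.subtype ≤ U → U ≤ Q₁ →
        x ∈ Subgroup.normalizer (U : Set G) →
        U = (Subgroup.center Q₁).map Q₁.subtype ∨ U = Q₁ := by
      intro U h1 h2 h3
      have := hirr U (by rw [hsp.2.1]; exact h1) h2 (hXle _ h3)
      rw [hsp.2.1] at this
      exact this
    have hidx := special_case hp hq hr hpq hpr hqr x hxr Q₁ V hsp hxQ₁ hV hxV hQ₁V hfaith₁ hnab
      hcent hfixQ hirr' hCV'
    -- arithmetic
    obtain ⟨n, hn⟩ := IsPGroup.iff_card.mp hQ₁p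
    have hdvd : (Subgroup.center ↥Q₁).index ∣ q ^ n := by
      rw [← hn]; exact Subgroup.index_dvd_card _
    rw [hidx] at hdvd
    have hdvd' : r - 1 ∣ q ^ n := (dvd_pow_self (r - 1) (by norm_num : 2 ≠ 0)).trans hdvd
    obtain ⟨m, -, hm⟩ := (Nat.dvd_prime_pow hq).1 hdvd'
    have hr2 : 2 ≤ r := hr.two_le
    have hrq : r = q ^ m + 1 := by omega
    have hm0 : m ≠ 0 := by
      intro hm0
      rw [hm0, pow_zero] at hm
      rw [hm, one_pow, Subgroup.index_eq_one] at hidx
      obtain ⟨g, hg⟩ := hnab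
      apply hg
      rw [hidx]; exact Subgroup.mem_top g
    have hq2 : q = 2 := by
      by_contra hq2
      have hqodd : Odd q := hq.odd_of_ne_two hq2
      have : Even r := by
        rw [hrq]
        exact Odd.add_one (hqodd.pow)
      have hr2' : r = 2 := (Nat.Prime.even_iff hr).1 this
      have h1 : q ^ m = 1 := by omega
      have hq1 : 1 < q := hq.one_lt
      have : 1 < q ^ m := Nat.one_lt_pow hm0 hq1
      omega
    have hQc : IsMulCommutative Q := hexc hq2 ⟨m, by rw [hrq, hq2]⟩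
    obtain ⟨g, hg⟩ := hnab
    apply hg
    rw [Subgroup.mem_center_iff]
    intro h
    have := hQc.is_comm.comm ⟨(h : G), hQ₁Q h.2⟩ ⟨(g : G), hQ₁Q g.2⟩
    apply Subtype.ext
    have h2 := congrArg (fun t : Q => (t : G)) this
    simpa using h2

end Cfsg.Agent.S3765
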