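import Cfsg.Statements.S3769
import Cfsg.Agent.Lib.Helper71_Holomorph
import Cfsg.Agent.Lib.Helper24_CoprimeAction

set_option autoImplicit false
open Cfsg
open scoped commutatorElement

namespace Cfsg.Agent.S3769

open Cfsg.Agent.Lib.Helper24_CoprimeAction Cfsg.Agent.Lib.Helper71_Holomorph

/-- a subgroup containing a Sylow `q`-subgroup of `K` for every prime `q` contains `K` -/
theorem le_of_sylow_le {X : Type*} [Group X] [Finite X] (K T : Subgroup X)
    (h : ∀ q : ℕ, q.Prime → ∃ P : Sylow q K, (P : Subgroup K).map K.subtype ≤ T) : K ≤ T := by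
  classical
  have hdvd : Nat.card K ∣ Nat.card (T.subgroupOf K) := by
    rw [← Nat.factorization_prime_le_iff_dvd Nat.card_pos.ne' Nat.card_pos.ne']
    intro q hq
    have := Fact.mk hq
    obtain ⟨P, hP⟩ := h q hq
    have h1 : (P : Subgroup K) ≤ T.subgroupOf K := by
      intro k hk
      rw [Subgroup.mem_subgroupOf]
      exact hP ⟨k, hk, rfl⟩
    have h2 : Nat.card (P : Subgroup K) ∣ Nat.card (T.subgroupOf K) := Subgroup.card_dvd_of_le h1
    rw [Sylow.card_eq_multiplicity] at h2
    exact (hq.pow_dvd_iff_le_factorization Nat.card_pos.ne').1 h2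
  have htop : T.subgroupOf K = ⊤ := by
    apply Subgroup.eq_top_of_card_eq
    exact Nat.dvd_antisymm (Subgroup.card_subgroup_dvd_card _) hdvd
  exact Subgroup.subgroupOf_eq_top.1 htop

/-- Let G and V be subgroups of a finite group with G solvable of odd order normalizing V, V an elementary abelian ℓ-group for a prime ℓ not dividing the order of G, and suppose G has a normal Hall subgroup K with a complement R of prime order. If C_V(R) = 1, then [R, K] centralizes V. -/
theorem result {X : Type*} [Group X] [Finite X] (G : Subgroup X) (hsolv : Group.IsSolvable G) (hodd : Odd (Nat.card G)) (V : Subgroup X) {ℓ : ℕ} (hℓ : ℓ.Prime) (hV : Cfsg.IsElementaryAbelian ℓ V) (hℓG : ¬ ℓ ∣ Nat.card G) (hGV : G ≤ Subgroup.normalizer (V : Set X)) (K R : Subgroup X) (hKG : K ≤ G) (hKn : G ≤ Subgroup.normalizer (K : Set X)) (hHall : (Nat.card K).Coprime (K.relIndex G)) (hRG : R ≤ G) (hR : (Nat.card R).Prime) (hKR : K ⊓ R = ⊥) (hKRG : K ⊔ R = G) (hCV : V ⊓ Subgroup.centralizer (R : Set X) = ⊥) : ⁅R, K⁆ ≤ Subgroup.centralizer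 (V : Set X) := by
  classical
  have := Fact.mk hℓ
  have := Fact.mk hR
  -- a generator of `R`
  have hRcyc : IsCyclic R := isCyclic_of_prime_card rfl
  obtain ⟨⟨y, hyR⟩, hygen⟩ := hRcyc.exists_generator
  have hRz : ∀ z ∈ R, z ∈ Subgroup.zpowers y := by
    intro z hz
    obtain ⟨k, hk⟩ := Subgroup.mem_zpowers_iff.1 (hygen ⟨z, hz⟩)
    exact Subgroup.mem_zpowers_iff.2 ⟨k, by simpa using congrArg Subtype.val hk⟩
  have hyr : y ^ Nat.card R = 1 := by
    have h1 : (⟨y, hyR⟩ : R) ^ Nat.card R = 1 := pow_card_eq_one'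
    have h2 := congrArg Subtype.val h1
    rw [Subgroup.coe_pow, Subgroup.coe_one] at h2
    exact h2
  have hcentR : ∀ g : X, y * g = g * y → g ∈ Subgroup.centralizer (R : Set X) := by
    intro g hg
    rw [Subgroup.mem_centralizer_iff]
    intro z hz
    obtain ⟨k, rfl⟩ := Subgroup.mem_zpowers_iff.1 (hRz z hz)
    exact ((Commute.zpow_left (show Commute y g from hg) k).eq)
  -- coprimality
  have hrdvd : Nat.card R ∣ K.relIndex G := by
    have hKnorm : (K.subgroupOf G).Normal :=
      (Subgroup.normal_subgroupOf_iff_le_normalizer hKG).2 hKn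
    have h1 : (K.subgroupOf G).relIndex (R.subgroupOf G) ∣ (K.subgroupOf G).index :=
      Subgroup.relIndex_dvd_index_of_normal _ _
    have h2 : (K.subgroupOf G).relIndex (R.subgroupOf G) = Nat.card R := by
      rw [← Subgroup.inf_relIndex_right]
      have h3 : K.subgroupOf G ⊓ R.subgroupOf G = ⊥ := by
        rw [eq_bot_iff]
        rintro g ⟨hg1, hg2⟩
        have : (g : X) ∈ K ⊓ R := ⟨hg1, hg2⟩
        rw [hKR, Subgroup.mem_bot] at this
        rw [Subgroup.mem_bot]
        exact Subtype.ext this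
      rw [h3, Subgroup.relIndex_bot_left]
      exact Nat.card_congr (Subgroup.subgroupOfEquivOfLe hRG).toEquiv
    rw [h2] at h1
    exact h1
  have hcop : (Nat.card R).Coprime (Nat.card K) :=
    (Nat.Coprime.coprime_dvd_right hrdvd hHall).symm
  have hrG : Nat.card R ∣ Nat.card G := Subgroup.card_dvd_of_le hRG
  have hℓr : ℓ ≠ Nat.card R := by
    intro h
    exact hℓG (h ▸ hrG)
  -- the action on `V`
  let _ : CommGroup V :=
    { (inferInstance : Group V) with mul_comm := fun a b => hV.1.is_comm.comm a b }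
  have hVp : ∀ v : V, v ^ ℓ = 1 := fun v => Subtype.ext (by simpa using hV.2 v v.2)
  let φV := V.normalizerMonoidHom
  have hKV : K ≤ Subgroup.normalizer (V : Set X) := hKG.trans hGV
  have hRV : R ≤ Subgroup.normalizer (V : Set X) := hRG.trans hGV
  have hRK : R ≤ Subgroup.normalizer (K : Set X) := hRG.trans hKn
  let yV : Subgroup.normalizer (V : Set X) := ⟨y, hRV hyR⟩
  let τ : MulAut V := φV yV
  have hτapp : ∀ v : V, ((τ v : V) : X) = y * v * y⁻¹ := fun v => rfl
  have hφapp : ∀ (g : Subgroup.normalizer (V : Set X)) (v : V),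
      ((φV g v : V) : X) = g * v * (g : X)⁻¹ := fun g v => rfl
  have hτr : τ ^ Nat.card R = 1 := by
    show φV yV ^ Nat.card R = 1
    rw [← map_pow]
    have : yV ^ Nat.card R = 1 := Subtype.ext (by simpa using hyr)
    rw [this, map_one]
  have hfix : ∀ v, τ v = v → v = 1 := by
    intro v hv
    have h1 : (v : X) ∈ V ⊓ Subgroup.centralizer (R : Set X) := by
      refine Subgroup.mem_inf.2 ⟨v.2, hcentR v ?_⟩
      have := congrArg Subtype.val hv
      rw [hτapp] at this
      calc y * v = y * v * y⁻¹ * y := by group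
        _ = v * y := by rw [this]
    rw [hCV, Subgroup.mem_bot] at h1
    exact Subtype.ext h1
  -- the subgroup of elements whose action commutes with `τ`
  let T₀ : Subgroup (Subgroup.normalizer (V : Set X)) :=
    (Subgroup.centralizer ({τ} : Set (MulAut V))).comap φV
  let T : Subgroup X := T₀.map (Subgroup.subtype _)
  have hT₀mem : ∀ g : Subgroup.normalizer (V : Set X), g ∈ T₀ ↔ τ * φV g = φV g * τ := by
    intro g
    show φV g ∈ Subgroup.centralizer ({τ} : Set (MulAut V)) ↔ _
    rw [Subgroup.mem_centralizer_iff]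
    constructor
    · intro h; exact h τ rfl
    · intro h a ha
      rw [Set.mem_singleton_iff] at ha
      rw [ha]; exact h
  have hsyl : ∀ q : ℕ, q.Prime → ∃ P : Sylow q K, (P : Subgroup K).map K.subtype ≤ T := by
    intro q hq
    have := Fact.mk hq
    have hRsolv : Group.IsSolvable R := by
      apply Group.isSolvable_of_comm
      intro a b
      obtain ⟨m, rfl⟩ := Subgroup.mem_zpowers_iff.1 (hygen a)
      obtain ⟨n, rfl⟩ := Subgroup.mem_zpowers_iff.1 (hygen b)
      rw [← zpow_add, ← zpow_add, add_comm]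
    obtain ⟨P, hP⟩ := exists_invariant_sylow R K hRK hcop (Or.inl hRsolv) q
    refine ⟨P, ?_⟩
    by_cases hqK : q ∣ Nat.card K
    · have hqG : q ∣ Nat.card G := hqK.trans (Subgroup.card_dvd_of_le hKG)
      have hq2 : q ≠ 2 := by
        rintro rfl
        exact (Nat.not_even_iff_odd.2 hodd) (even_iff_two_dvd.2 hqG)
      have hℓq : ℓ ≠ q := by
        rintro rfl
        exact hℓG hqG
      have hqr : q ≠ Nat.card R := by
        intro h
        have h1 : q ∣ Nat.gcd (Nat.card R) (Nat.card K) := Nat.dvd_gcd (h ▸ dvd_rfl) hqK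
        rw [hcop] at h1
        exact hq.one_lt.ne' (Nat.dvd_one.1 h1)
      have hS : IsPGroup q (sylowImage P) := P.isPGroup'.map _
      let Q : Subgroup (MulAut V) :=
        ((sylowImage P).subgroupOf (Subgroup.normalizer (V : Set X))).map φV
      have hQ : IsPGroup q Q := (IsPGroup.comap_subtype hS).map φV
      have hτQ : τ ∈ Subgroup.normalizer (Q : Set (MulAut V)) := by
        apply Subgroup.mem_normalizer_fintype
        rintro _ ⟨s, hs, rfl⟩
        refine ⟨yV * s * yV⁻¹, ?_, ?_⟩
        · rw [SetLike.mem_coe, Subgroup.mem_subgroupOf] at hs ⊢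
          have h1 := (Subgroup.mem_normalizer_iff.1 (hP hyR) (s : X)).1 hs
          exact h1
        · rw [map_mul, map_mul, map_inv]
      have hcomm := commute_of_fpf hℓ hq hR hℓq hℓr hqr hVp τ hτr Q hQ hτQ
        (fun h => absurd h hq2) hfix
      intro s hs
      have hsK : s ∈ K := by
        obtain ⟨k, _, rfl⟩ := hs
        exact k.2
      have hsN : s ∈ Subgroup.normalizer (V : Set X) := hKV hsK
      refine ⟨⟨s, hsN⟩, ?_, rfl⟩
      rw [SetLike.mem_coe, hT₀mem]
      exact hcomm _ ⟨⟨s, hsN⟩, hs, rfl⟩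
    · have hcard : Nat.card (P : Subgroup K) = 1 := by
        rw [Sylow.card_eq_multiplicity, Nat.factorization_eq_zero_of_not_dvd hqK, pow_zero]
      have hbot : (P : Subgroup K) = ⊥ := Subgroup.card_eq_one.1 hcard
      rw [hbot, Subgroup.map_bot]
      exact bot_le
  have hKT : K ≤ T := le_of_sylow_le K T hsyl
  -- conclusion
  rw [Subgroup.commutator_le]
  intro z hz k hk
  obtain ⟨n, rfl⟩ := Subgroup.mem_zpowers_iff.1 (hRz z hz)
  obtain ⟨k', hk'T, rfl⟩ := hKT hk
  rw [SetLike.mem_coe, hT₀mem] at hk'T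
  have hc : φV ⁅yV ^ n, k'⁆ = 1 := by
    rw [map_commutatorElement, commutatorElement_eq_one_iff_commute, map_zpow]
    exact Commute.zpow_left hk'T n
  rw [Subgroup.mem_centralizer_iff]
  intro v hv
  have h2 := congrArg (fun f : MulAut V => ((f ⟨v, hv⟩ : V) : X)) hc
  simp only [hφapp, MulAut.one_apply] at h2
  have h3 : ((⁅yV ^ n, k'⁆ : Subgroup.normalizer (V : Set X)) : X)
      = ⁅y ^ n, (Subgroup.subtype _ k')⁆ := by
    simp [commutatorElement_def, yV]
  rw [h3] at h2
  calc v * ⁅y ^ n, (Subgroup.subtype _ k')⁆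
      = ⁅y ^ n, (Subgroup.subtype _ k')⁆ * v * ⁅y ^ n, (Subgroup.subtype _ k')⁆⁻¹
          * ⁅y ^ n, (Subgroup.subtype _ k')⁆ := by rw [h2]
    _ = ⁅y ^ n, (Subgroup.subtype _ k')⁆ * v := by group

end Cfsg.Agent.S3769
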