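import Cfsg.Statements.S0638
import Cfsg.Agent.Lib.Helper20_OmegaOne

set_option autoImplicit false
open Cfsg

namespace Cfsg.Agent.S0638

open Cfsg.Agent.Lib.Helper20_PGroupOdd Cfsg.Agent.Lib.Helper20_OmegaOne

/-- For odd p, in a non-cyclic metacyclic p-group the elements of order dividing p generate an elementary abelian subgroup of order p². -/
theorem result {R : Type*} [Group R] [Finite R] {p : ℕ} [Fact p.Prime] (hp : p ≠ 2) (hR : IsPGroup p R) (hm : Cfsg.IsMetacyclic R) (hnc : ¬ IsCyclic R) : Cfsg.IsElementaryAbelian p (Cfsg.omegaOne p (⊤ : Subgroup R)) ∧ Nat.card ↥(Cfsg.omegaOne p (⊤ : Subgroup R)) = p ^ 2 := by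
  have hpP : p.Prime := Fact.out
  have hS : ¬ IsCyclic (⊤ : Subgroup R) := by
    intro hc
    apply hnc
    exact isCyclic_of_surjective (Subgroup.topEquiv : (⊤ : Subgroup R) ≃* R).toMonoidHom
      (Subgroup.topEquiv : (⊤ : Subgroup R) ≃* R).surjective
  obtain ⟨z, h, hg⟩ := exists_good hp hR ⊤ hS
  obtain ⟨N, hNn, hNc, hQc⟩ := hm
  -- subgroups of exponent p have order at most p²
  have hbound : ∀ E : Subgroup R, (∀ y ∈ E, y ^ p = 1) → Nat.card E ≤ p ^ 2 := by
    intro E hE
    have h1 : Nat.card ↥(E ⊓ N) ≤ p := by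
      have hcyc : IsCyclic ↥(E ⊓ N) := Subgroup.isCyclic_of_le (inf_le_right : E ⊓ N ≤ N)
      apply card_le_of_isCyclic_of_exp hpP
      intro g
      apply Subtype.ext
      have := hE g.1 g.2.1
      simpa using this
    have h2 : (E ⊓ N).relIndex E ≤ p := by
      rw [Subgroup.inf_relIndex_left]
      have h3 := Subgroup.relIndex_ker (QuotientGroup.mk' N) (K := E)
      rw [QuotientGroup.ker_mk'] at h3
      rw [h3]
      apply card_le_of_isCyclic_of_exp hpP
      intro g
      obtain ⟨y, hy, hyg⟩ := Subgroup.mem_map.mp g.2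
      apply Subtype.ext
      show (g : R ⧸ N) ^ p = 1
      rw [← hyg, ← map_pow, hE y hy, map_one]
    have h4 := Subgroup.relIndex_mul_relIndex (⊥ : Subgroup R) (E ⊓ N) E bot_le inf_le_left
    rw [Subgroup.relIndex_bot_left, Subgroup.relIndex_bot_left] at h4
    rw [← h4, sq]
    exact Nat.mul_le_mul h1 h2
  have hW : Cfsg.omegaOne p (⊤ : Subgroup R) = hg.B := by
    have h1 : Cfsg.omegaOne p (⊤ : Subgroup R) = Subgroup.closure {x : R | x ^ p = 1} := by
      unfold Cfsg.omegaOne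
      congr 1
      ext x
      simp
    rw [h1]
    exact closure_eq_B hp hg hbound
  rw [hW]
  refine ⟨⟨⟨⟨?_⟩⟩, hg.B_exp⟩, hg.card_B⟩
  intro a b
  exact Subtype.ext (hg.B_comm a.1 a.2 b.1 b.2)

end Cfsg.Agent.S0638
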