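import Cfsg.Statements.S3866
import Mathlib

set_option autoImplicit false
open Cfsg
open scoped commutatorElement

namespace Cfsg.Agent.S3866

theorem result {G : Type*} [Group G] [Finite G] (A : Subgroup G) [A.Normal] (hA : IsMulCommutative A) (x : G) (hgen : A ⊔ Subgroup.zpowers x = ⊤) : (∀ a ∈ A, x * a * x⁻¹ * a⁻¹ ∈ commutator G) ∧ (∀ c ∈ commutator G, ∃ a ∈ A, x * a * x⁻¹ * a⁻¹ = c) ∧ (∀ a ∈ A, ∀ b ∈ A, x * (a * b) * x⁻¹ * (a * b)⁻¹ = (x * a * x⁻¹ * a⁻¹) * (x * b * x⁻¹ * b⁻¹)) ∧ Nat.card (commutator G) * Nat.card ↥(A ⊓ Subgroup.centralizer ({x} : Set G)) = Nat.card A := by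
  classical
  have hAc : ∀ a ∈ A, ∀ b ∈ A, a * b = b * a := by
    intro a ha b hb
    have := mul_comm' (⟨a, ha⟩ : A) ⟨b, hb⟩
    exact congrArg Subtype.val this
  have hxA : ∀ a ∈ A, x * a * x⁻¹ ∈ A := fun a ha => Subgroup.Normal.conj_mem inferInstance a ha x
  have hψA : ∀ a ∈ A, x * a * x⁻¹ * a⁻¹ ∈ A := fun a ha => A.mul_mem (hxA a ha) (A.inv_mem ha)
  have hmul : ∀ a ∈ A, ∀ b ∈ A, x * (a * b) * x⁻¹ * (a * b)⁻¹ =
      (x * a * x⁻¹ * a⁻¹) * (x * b * x⁻¹ * b⁻¹) := by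
    intro a ha b hb
    have h1 : x * (a * b) * x⁻¹ * (a * b)⁻¹ = (x * a * x⁻¹) * ((x * b * x⁻¹ * b⁻¹) * a⁻¹) := by
      group
    have h2 : (x * b * x⁻¹ * b⁻¹) * a⁻¹ = a⁻¹ * (x * b * x⁻¹ * b⁻¹) :=
      hAc _ (hψA b hb) _ (A.inv_mem ha)
    rw [h1, h2]; group
  let ψ : A →* G :=
    { toFun := fun a => x * a * x⁻¹ * (a : G)⁻¹
      map_one' := by simp
      map_mul' := fun a b => hmul a a.2 b b.2 }
  have hψ : ∀ a : A, ψ a = x * a * x⁻¹ * (a : G)⁻¹ := fun a => rfl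
  have hKA : ψ.range ≤ A := by
    rintro _ ⟨a, rfl⟩
    exact hψA a a.2
  -- conjugation by elements commuting with x
  have hconj : ∀ c : G, Commute c x → ∀ b : G, c * (x * b * x⁻¹ * b⁻¹) * c⁻¹ =
      x * (c * b * c⁻¹) * x⁻¹ * (c * b * c⁻¹)⁻¹ := by
    intro c hc b
    have : c * x = x * c := hc.eq
    calc c * (x * b * x⁻¹ * b⁻¹) * c⁻¹ = (c * x) * b * x⁻¹ * b⁻¹ * c⁻¹ := by group
      _ = (x * c) * b * x⁻¹ * b⁻¹ * c⁻¹ := by rw [this]
      _ = x * (c * b * c⁻¹) * (c * x⁻¹) * b⁻¹ * c⁻¹ := by group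
      _ = x * (c * b * c⁻¹) * (x⁻¹ * c) * b⁻¹ * c⁻¹ := by
          rw [(hc.inv_right).eq]
      _ = x * (c * b * c⁻¹) * x⁻¹ * (c * b * c⁻¹)⁻¹ := by group
  have hnormal : ψ.range.Normal := by
    constructor
    rintro _ ⟨b, rfl⟩ g
    have hg : g ∈ ((A ⊔ Subgroup.zpowers x : Subgroup G) : Set G) := by
      rw [hgen]; trivial
    rw [Subgroup.normal_mul] at hg
    obtain ⟨a, ha, c, hc, rfl⟩ := hg
    have hcx : Commute c x := by
      obtain ⟨k, rfl⟩ := Subgroup.mem_zpowers_iff.mp hc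
      exact (Commute.refl x).zpow_left k
    have hcb : c * b * c⁻¹ ∈ A := Subgroup.Normal.conj_mem inferInstance (b : G) b.2 c
    have h1 : a * c * ψ b * (a * c)⁻¹ = a * (c * ψ b * c⁻¹) * a⁻¹ := by group
    rw [h1, hψ, hconj c hcx]
    have h2 : x * (c * b * c⁻¹) * x⁻¹ * (c * b * c⁻¹)⁻¹ ∈ A := hψA _ hcb
    have h3 : a * (x * (c * b * c⁻¹) * x⁻¹ * (c * b * c⁻¹)⁻¹) * a⁻¹ =
        x * (c * b * c⁻¹) * x⁻¹ * (c * b * c⁻¹)⁻¹ := by
      rw [hAc a ha _ h2]; group
    rw [h3]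
    exact ⟨⟨c * b * c⁻¹, hcb⟩, rfl⟩
  have hcomm_le : commutator G ≤ ψ.range := by
    rw [← Subgroup.Normal.quotient_commutative_iff_commutator_le]
    -- generators of the quotient commute pairwise
    let S : Set (G ⧸ ψ.range) := (QuotientGroup.mk' ψ.range) '' ((A : Set G) ∪ {x})
    have hS : Subgroup.closure S = ⊤ := by
      have h1 : Subgroup.closure ((A : Set G) ∪ {x}) = ⊤ := by
        rw [Subgroup.closure_union, Subgroup.closure_eq, ← Subgroup.zpowers_eq_closure, hgen]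
      have h2 : (Subgroup.closure ((A : Set G) ∪ {x})).map (QuotientGroup.mk' ψ.range) =
          Subgroup.closure S := MonoidHom.map_closure _ _
      rw [← h2, h1, ← MonoidHom.range_eq_map, MonoidHom.range_eq_top]
      exact QuotientGroup.mk'_surjective _
    have hxa : ∀ a ∈ A, (QuotientGroup.mk' ψ.range x) * (QuotientGroup.mk' ψ.range a) =
        (QuotientGroup.mk' ψ.range a) * (QuotientGroup.mk' ψ.range x) := by
      intro a ha
      have : ⁅QuotientGroup.mk' ψ.range x, QuotientGroup.mk' ψ.range a⁆ = 1 := by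
        rw [← map_commutatorElement, QuotientGroup.mk'_apply, QuotientGroup.eq_one_iff,
          commutatorElement_def]
        exact ⟨⟨a, ha⟩, rfl⟩
      exact commutatorElement_eq_one_iff_mul_comm.mp this
    have hScomm : ∀ p ∈ S, ∀ q ∈ S, p * q = q * p := by
      rintro _ ⟨g, hg, rfl⟩ _ ⟨h, hh, rfl⟩
      rcases hg with hg | hg <;> rcases hh with hh | hh
      · rw [← map_mul, ← map_mul, hAc g hg h hh]
      · rw [Set.mem_singleton_iff] at hh; subst hh
        exact (hxa g hg).symm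
      · rw [Set.mem_singleton_iff] at hg; subst hg
        exact hxa h hh
      · rw [Set.mem_singleton_iff] at hg hh; subst hg; subst hh; rfl
    have hcl : IsMulCommutative (Subgroup.closure S) := Subgroup.isMulCommutative_closure hScomm
    refine ⟨⟨fun q₁ q₂ => ?_⟩⟩
    have h1 : q₁ ∈ Subgroup.closure S := by rw [hS]; trivial
    have h2 : q₂ ∈ Subgroup.closure S := by rw [hS]; trivial
    have := mul_comm' (⟨q₁, h1⟩ : Subgroup.closure S) ⟨q₂, h2⟩
    exact congrArg Subtype.val this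
  have hle_comm : ψ.range ≤ commutator G := by
    rintro _ ⟨a, rfl⟩
    rw [hψ, ← commutatorElement_def, commutator_def]
    exact Subgroup.commutator_mem_commutator (Subgroup.mem_top x) (Subgroup.mem_top _)
  have heq : commutator G = ψ.range := le_antisymm hcomm_le hle_comm
  refine ⟨?_, ?_, hmul, ?_⟩
  · intro a ha
    exact hle_comm ⟨⟨a, ha⟩, rfl⟩
  · intro c hc
    obtain ⟨a, rfl⟩ := hcomm_le hc
    exact ⟨a, a.2, rfl⟩
  · have hker : ψ.ker = (A ⊓ Subgroup.centralizer ({x} : Set G)).subgroupOf A := by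
      ext a
      rw [MonoidHom.mem_ker, Subgroup.mem_subgroupOf, Subgroup.mem_inf,
        Subgroup.mem_centralizer_singleton_iff, hψ]
      constructor
      · intro h
        refine ⟨a.2, ?_⟩
        have : x * a * x⁻¹ = a := by
          calc x * a * x⁻¹ = x * a * x⁻¹ * (a : G)⁻¹ * a := by group
            _ = a := by rw [h, one_mul]
        calc (a : G) * x = x * a * x⁻¹ * x := by rw [this]
          _ = x * a := by group
      · rintro ⟨_, h⟩
        calc x * a * x⁻¹ * (a : G)⁻¹ = (x * a) * x⁻¹ * (a : G)⁻¹ := by group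
          _ = (a * x) * x⁻¹ * (a : G)⁻¹ := by rw [h]
          _ = 1 := by group
    have h1 : Nat.card ψ.ker * ψ.ker.index = Nat.card A := Subgroup.card_mul_index _
    rw [Subgroup.index_ker, hker] at h1
    have h2 : Nat.card ↥((A ⊓ Subgroup.centralizer ({x} : Set G)).subgroupOf A) =
        Nat.card ↥(A ⊓ Subgroup.centralizer ({x} : Set G)) :=
      Nat.card_congr (Subgroup.subgroupOfEquivOfLe inf_le_left).toEquiv
    rw [h2] at h1
    rw [heq, mul_comm]
    exact h1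

end Cfsg.Agent.S3866
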