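import Cfsg.Statements.S3879
import Cfsg.Agent.S3866
import Mathlib

set_option autoImplicit false
open Cfsg

namespace Cfsg.Agent.S3879

/-- Number theory: if `1 + w` has `p`-power order `p^j` modulo `p^m` (`p` odd), then
`p^j = p^m / gcd(p^m, w)`. -/
theorem nt (p : ℕ) [hpF : Fact p.Prime] (hp2 : p ≠ 2) (m w j : ℕ)
    (ht : orderOf (1 + (w : ZMod (p ^ m))) = p ^ j) : p ^ j = p ^ m / Nat.gcd (p ^ m) w := by
  have hp := hpF.out
  have hppos : 0 < p ^ m := pow_pos hp.pos m
  by_cases hw : p ^ m ∣ w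
  · have h0 : (w : ZMod (p ^ m)) = 0 := (ZMod.natCast_eq_zero_iff w (p ^ m)).mpr hw
    rw [h0, add_zero, orderOf_one] at ht
    rw [Nat.gcd_eq_left hw, Nat.div_self hppos, ← ht]
  · have hw0 : w ≠ 0 := by
      rintro rfl
      exact hw (dvd_zero _)
    obtain ⟨s, u, hu, rfl⟩ := Nat.exists_eq_pow_mul_and_not_dvd hw0 p hp.ne_one
    have hsm : s < m := by
      by_contra hcon
      push Not at hcon
      exact hw (dvd_mul_of_dvd_left (pow_dvd_pow p hcon) u)
    have hs0 : s ≠ 0 := by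
      rintro rfl
      rw [pow_zero, one_mul] at ht
      have h1 : (1 + (u : ZMod (p ^ m))) ^ (p ^ j) = 1 := by
        rw [← ht]; exact pow_orderOf_eq_one _
      have hdvd : p ∣ p ^ m := dvd_pow_self p (by omega)
      have h2 := congrArg (ZMod.castHom hdvd (ZMod p)) h1
      rw [map_pow, map_add, map_one, map_natCast, ZMod.pow_card_pow] at h2
      have h3 : (u : ZMod p) = 0 := by
        have := h2
        rwa [add_eq_left] at this
      exact hu ((ZMod.natCast_eq_zero_iff u p).mp h3)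
    obtain ⟨n', rfl⟩ : ∃ n', m = n' + s := ⟨m - s, by omega⟩
    have hps : s + 2 ≤ p * s := by
      have : 3 ≤ p := by
        have := hp.two_le
        omega
      have hs1 : 1 ≤ s := Nat.one_le_iff_ne_zero.mpr hs0
      calc s + 2 ≤ 3 * s := by omega
        _ ≤ p * s := Nat.mul_le_mul_right s this
    have hu' : ¬ ((p : ℤ) ∣ (u : ℤ)) := by
      rwa [Int.natCast_dvd_natCast]
    have key := ZMod.orderOf_one_add_mul_prime_pow hp s hs0 hps (u : ℤ) hu' n'
    have hcast : (1 + ((p ^ s * u : ℕ) : ZMod (p ^ (n' + s)))) =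
        (1 + (p : ZMod (p ^ (n' + s))) ^ s * ((u : ℤ) : ZMod (p ^ (n' + s)))) := by
      push_cast
      rfl
    rw [hcast, key] at ht
    have hg : Nat.gcd (p ^ (n' + s)) (p ^ s * u) = p ^ s := by
      rw [pow_add, mul_comm (p ^ n') (p ^ s), Nat.gcd_mul_left]
      have : Nat.Coprime (p ^ n') u :=
        Nat.Coprime.pow_left n' ((Nat.Prime.coprime_iff_not_dvd hp).mpr hu)
      rw [this, mul_one]
    rw [hg, ← ht, pow_add, Nat.mul_div_cancel _ (pow_pos hp.pos s)]

/-- Let p be an odd prime and G a finite metacyclic p-group (G has a cyclic normal subgroup with cyclic quotient). Then the index of the center of G is the square of the order of the derived subgroup: |G : Z(G)| = |G'|². -/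
theorem result {G : Type*} [Group G] [Finite G] {p : ℕ} [Fact p.Prime] (hp : p ≠ 2) (hG : IsPGroup p G) (hmc : Cfsg.IsMetacyclic G) : (Subgroup.center G).index = Nat.card ↥(commutator G) ^ 2 := by
  classical
  have hpp : p.Prime := Fact.out
  obtain ⟨A, hAn, hAc, hQc⟩ := hmc
  obtain ⟨⟨a, haA⟩, ha⟩ := hAc.exists_generator
  -- every element of A is a natural power of a
  have hApow : ∀ x ∈ A, ∃ i : ℕ, a ^ i = x := by
    intro x hx
    have h1 := ha ⟨x, hx⟩
    rw [← mem_powers_iff_mem_zpowers, Submonoid.mem_powers_iff] at h1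
    obtain ⟨i, hi⟩ := h1
    exact ⟨i, by simpa using congrArg Subtype.val hi⟩
  obtain ⟨q, hq⟩ := hQc.exists_generator
  obtain ⟨b, rfl⟩ := QuotientGroup.mk_surjective q
  have hgen : A ⊔ Subgroup.zpowers b = ⊤ := by
    rw [eq_top_iff]
    intro g _
    obtain ⟨k, hk⟩ := Subgroup.mem_zpowers_iff.mp (hq (g : G ⧸ A))
    have h1 : (b ^ k)⁻¹ * g ∈ A := by
      rw [← QuotientGroup.eq]
      simpa using hk
    have h2 : g = b ^ k * ((b ^ k)⁻¹ * g) := by group
    rw [h2]
    exact Subgroup.mul_mem _ (Subgroup.mem_sup_right (Subgroup.zpow_mem_zpowers b k))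
      (Subgroup.mem_sup_left h1)
  have hAcomm : IsMulCommutative A := inferInstance
  have hAc' : ∀ x ∈ A, ∀ y ∈ A, x * y = y * x := by
    intro x hx y hy
    exact congrArg Subtype.val (mul_comm' (⟨x, hx⟩ : A) ⟨y, hy⟩)
  obtain ⟨h1, h2, h3, -⟩ := Cfsg.Agent.S3866.result A hAcomm b hgen
  -- the exponent w
  have hψa : b * a * b⁻¹ * a⁻¹ ∈ A := A.mul_mem (hAn.conj_mem a haA b) (A.inv_mem haA)
  obtain ⟨w, hw⟩ := hApow _ hψa
  have hba : b * a * b⁻¹ = a ^ (1 + w) := by
    rw [add_comm 1 w, pow_succ, hw]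
    group
  -- conjugation by powers of b
  have hconj : ∀ k : ℕ, b ^ k * a * (b ^ k)⁻¹ = a ^ ((1 + w) ^ k) := by
    intro k
    induction k with
    | zero => simp
    | succ k ih =>
      have e1 : b ^ (k + 1) * a * (b ^ (k + 1))⁻¹ = b * (b ^ k * a * (b ^ k)⁻¹) * b⁻¹ := by
        rw [pow_succ']; group
      rw [e1, ih, ← conj_pow, hba, ← pow_mul, pow_succ']
  -- ψ on powers of a
  have hψpow : ∀ i : ℕ, b * a ^ i * b⁻¹ * (a ^ i)⁻¹ = (a ^ w) ^ i := by
    intro i
    induction i with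
    | zero => simp
    | succ i ih =>
      rw [pow_succ a i, h3 _ (A.pow_mem haA i) _ haA, ih, ← hw, pow_succ]
  -- the derived subgroup
  have hcomm : commutator G = Subgroup.zpowers (a ^ w) := by
    apply le_antisymm
    · intro c hc
      obtain ⟨x, hx, rfl⟩ := h2 c hc
      obtain ⟨i, rfl⟩ := hApow x hx
      rw [hψpow i]
      exact Subgroup.pow_mem _ (Subgroup.mem_zpowers _) i
    · rw [Subgroup.zpowers_le, hw]
      exact h1 a haA
  have hcardcomm : Nat.card (commutator G) = orderOf a / (orderOf a).gcd w := by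
    rw [hcomm, Nat.card_zpowers, orderOf_pow]
  -- the centralizer of A
  set C : Subgroup G := Subgroup.centralizer (A : Set G) with hC
  have hCn : C.Normal := inferInstance
  have hAC : A ≤ C := by
    intro x hx
    rw [hC, Subgroup.mem_centralizer_iff]
    intro y hy
    exact hAc' y hy x hx
  have hmemC : ∀ g : G, g ∈ C ↔ g * a = a * g := by
    intro g
    constructor
    · intro hg
      rw [hC, Subgroup.mem_centralizer_iff] at hg
      exact (hg a haA).symm
    · intro hg
      rw [hC, Subgroup.mem_centralizer_iff]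
      intro y hy
      obtain ⟨i, rfl⟩ := hApow y hy
      exact ((Commute.pow_right (show Commute g a from hg) i).eq).symm
  have hCcomm : IsMulCommutative C := by
    refine ⟨⟨?_⟩⟩
    rintro ⟨x, hx⟩ ⟨y, hy⟩
    apply Subtype.ext
    show x * y = y * x
    have hxT : x ∈ ((A ⊔ Subgroup.zpowers b : Subgroup G) : Set G) := by
      rw [hgen]; trivial
    have hyT : y ∈ ((A ⊔ Subgroup.zpowers b : Subgroup G) : Set G) := by
      rw [hgen]; trivial
    rw [Subgroup.normal_mul] at hxT hyT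
    obtain ⟨a₁, ha₁, c₁, hc₁, rfl⟩ := hxT
    obtain ⟨a₂, ha₂, c₂, hc₂, rfl⟩ := hyT
    simp only at hx hy
    have hc₁C : c₁ ∈ C := by
      have : c₁ = a₁⁻¹ * (a₁ * c₁) := by group
      rw [this]
      exact C.mul_mem (C.inv_mem (hAC ha₁)) hx
    have hc₂C : c₂ ∈ C := by
      have : c₂ = a₂⁻¹ * (a₂ * c₂) := by group
      rw [this]
      exact C.mul_mem (C.inv_mem (hAC ha₂)) hy
    have e1 : c₁ * a₂ = a₂ * c₁ := by
      rw [hC, Subgroup.mem_centralizer_iff] at hc₁C
      exact (hc₁C a₂ ha₂).symm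
    have e2 : c₂ * a₁ = a₁ * c₂ := by
      rw [hC, Subgroup.mem_centralizer_iff] at hc₂C
      exact (hc₂C a₁ ha₁).symm
    have e3 : c₁ * c₂ = c₂ * c₁ := by
      obtain ⟨k, rfl⟩ := Subgroup.mem_zpowers_iff.mp hc₁
      obtain ⟨l, rfl⟩ := Subgroup.mem_zpowers_iff.mp hc₂
      rw [← zpow_add, ← zpow_add, add_comm]
    have e4 : a₁ * a₂ = a₂ * a₁ := hAc' a₁ ha₁ a₂ ha₂
    calc a₁ * c₁ * (a₂ * c₂) = a₁ * (c₁ * a₂) * c₂ := by group
      _ = a₁ * (a₂ * c₁) * c₂ := by rw [e1]
      _ = (a₁ * a₂) * (c₁ * c₂) := by group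
      _ = (a₂ * a₁) * (c₂ * c₁) := by rw [e3, e4]
      _ = a₂ * (a₁ * c₂) * c₁ := by group
      _ = a₂ * (c₂ * a₁) * c₁ := by rw [e2]
      _ = a₂ * c₂ * (a₁ * c₁) := by group
  have hgenC : C ⊔ Subgroup.zpowers b = ⊤ := by
    rw [eq_top_iff, ← hgen]
    exact sup_le_sup_right hAC _
  obtain ⟨-, -, -, h4C⟩ := Cfsg.Agent.S3866.result C hCcomm b hgenC
  have hZ : C ⊓ Subgroup.centralizer ({b} : Set G) = Subgroup.center G := by
    apply le_antisymm
    · intro z hz
      rw [Subgroup.mem_inf, Subgroup.mem_centralizer_singleton_iff] at hz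
      obtain ⟨hzC, hzb⟩ := hz
      rw [Subgroup.mem_center_iff]
      have hle : A ⊔ Subgroup.zpowers b ≤ Subgroup.centralizer ({z} : Set G) := by
        apply sup_le
        · intro x hx
          rw [Subgroup.mem_centralizer_singleton_iff]
          rw [hC, Subgroup.mem_centralizer_iff] at hzC
          exact hzC x hx
        · rw [Subgroup.zpowers_le, Subgroup.mem_centralizer_singleton_iff]
          exact hzb.symm
      intro g
      have hg : g ∈ Subgroup.centralizer ({z} : Set G) := hle (by rw [hgen]; trivial)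
      rw [Subgroup.mem_centralizer_singleton_iff] at hg
      exact hg
    · exact le_inf (Subgroup.center_le_centralizer _) (Subgroup.center_le_centralizer _)
  rw [hZ] at h4C
  -- index of C
  have hgenQ : ∀ y : G ⧸ C, y ∈ Subgroup.zpowers ((b : G) : G ⧸ C) := by
    intro y
    obtain ⟨g, rfl⟩ := QuotientGroup.mk_surjective y
    have hgT : g ∈ ((A ⊔ Subgroup.zpowers b : Subgroup G) : Set G) := by
      rw [hgen]; trivial
    rw [Subgroup.normal_mul] at hgT
    obtain ⟨a₁, ha₁, c₁, hc₁, rfl⟩ := hgT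
    obtain ⟨k, rfl⟩ := Subgroup.mem_zpowers_iff.mp hc₁
    rw [Subgroup.mem_zpowers_iff]
    refine ⟨k, ?_⟩
    rw [QuotientGroup.mk_mul, (QuotientGroup.eq_one_iff a₁).mpr (hAC ha₁), one_mul,
      QuotientGroup.mk_zpow]
  have hidx : C.index = orderOf ((b : G) : G ⧸ C) := by
    rw [Subgroup.index_eq_card, orderOf_eq_card_of_forall_mem_zpowers hgenQ]
  -- orderOf a is a power of p
  obtain ⟨m, hm⟩ : ∃ m, orderOf a = p ^ m := by
    obtain ⟨k, hk⟩ := hG a
    obtain ⟨m, -, hm⟩ := (Nat.dvd_prime_pow hpp).mp (orderOf_dvd_of_pow_eq_one hk)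
    exact ⟨m, hm⟩
  -- the order of bC equals the order of 1 + w mod p^m
  have hord : orderOf ((b : G) : G ⧸ C) = orderOf (1 + (w : ZMod (p ^ m))) := by
    rw [orderOf_eq_orderOf_iff]
    intro k
    rw [← QuotientGroup.mk_pow, QuotientGroup.eq_one_iff, hmemC]
    have e1 : b ^ k * a = a * b ^ k ↔ b ^ k * a * (b ^ k)⁻¹ = a := by
      constructor
      · intro h; rw [h]; group
      · intro h
        calc b ^ k * a = (b ^ k * a * (b ^ k)⁻¹) * b ^ k := by group
          _ = a * b ^ k := by rw [h]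
    rw [e1, hconj k]
    have e2 : a ^ ((1 + w) ^ k) = a ↔ a ^ ((1 + w) ^ k) = a ^ 1 := by rw [pow_one]
    rw [e2, pow_eq_pow_iff_modEq, hm, ← ZMod.natCast_eq_natCast_iff]
    push_cast
    rfl
  obtain ⟨j, hj⟩ : ∃ j, orderOf ((b : G) : G ⧸ C) = p ^ j := by
    obtain ⟨k, hk⟩ := (hG.to_quotient C) ((b : G) : G ⧸ C)
    obtain ⟨j, -, hj⟩ := (Nat.dvd_prime_pow hpp).mp (orderOf_dvd_of_pow_eq_one hk)
    exact ⟨j, hj⟩
  have hfinal : C.index = Nat.card (commutator G) := by
    rw [hidx, hj, hcardcomm, hm]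
    exact nt p hp m w j (hord ▸ hj)
  -- index computation
  have hZpos : 0 < Nat.card (Subgroup.center G) := Nat.card_pos
  have e1 := Subgroup.card_mul_index (Subgroup.center G)
  have e2 := Subgroup.card_mul_index C
  rw [← h4C, ← e1] at e2
  have e3 : Nat.card (Subgroup.center G) * (Nat.card (commutator G) * C.index) =
      Nat.card (Subgroup.center G) * (Subgroup.center G).index := by
    rw [← e2]; ring
  have e4 := Nat.eq_of_mul_eq_mul_left hZpos e3
  rw [← e4, hfinal, sq]

end Cfsg.Agent.S3879
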