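import Cfsg.Statements.S1448
import Cfsg.Agent.Lib.Helper2_Blackburn
import Cfsg.Agent.Lib.Helper2_Coprime
-- import your own Cfsg.Agent.* helpers here

set_option autoImplicit false
open Cfsg

namespace Cfsg.Agent.S1448

open scoped commutatorElement

/-- Let G be a finite group, p an odd prime, R a nontrivial p-subgroup with no elementary abelian subgroup of order p ^ 3, and A a subgroup of odd order coprime to p normalizing R with [R, A] = R. Then 3 < p, and either R is abelian or R is generated by two elementwise-commuting subgroups R₁, R₂ with R₁ non-abelian of order p ^ 3 and exponent p, R₂ cyclic, and the elements of R₂ of order dividing p generating exactly [R₁, R₁]. -/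
theorem result {G : Type*} [Group G] [Finite G] (p : ℕ) [Fact p.Prime] (hp : p ≠ 2) (R A : Subgroup G) (hR : IsPGroup p R) (hR1 : R ≠ ⊥) (hr : Cfsg.PRankLE p 2 R)
    (hA : (A ≤ Subgroup.normalizer (R : Set G))) (hcop : (Nat.card A).Coprime p) (hAodd : Odd (Nat.card A)) (hRA : ⁅R, A⁆ = R) :
    3 < p ∧ (IsMulCommutative R ∨ ∃ R₁ R₂ : Subgroup G, R₁ ⊔ R₂ = R ∧ (∀ a ∈ R₁, ∀ b ∈ R₂, a * b = b * a) ∧
        ¬ IsMulCommutative R₁ ∧ Nat.card R₁ = p ^ 3 ∧ Monoid.exponent R₁ = p ∧ IsCyclic R₂ ∧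
        Subgroup.closure {x : G | x ∈ R₂ ∧ x ^ p = 1} = ⁅R₁, R₁⁆) := by
  have hpP : p.Prime := Fact.out
  have hnt : Nontrivial ↥R := (Subgroup.nontrivial_iff_ne_bot R).mpr hR1
  let ρ : ↥A →* MulAut ↥R := Cfsg.Agent.Lib.Helper2_Coprime.conjAut R A hA
  have hfix : Subgroup.closure {x : ↥R | ∃ (γ : ↥A) (g : ↥R), x = ρ γ g * g⁻¹} = ⊤ := by
    rw [eq_top_iff]
    have hle : ⁅R, A⁆ ≤
        (Subgroup.closure {x : ↥R | ∃ (γ : ↥A) (g : ↥R), x = ρ γ g * g⁻¹}).map R.subtype := by
      rw [Subgroup.commutator_le]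
      intro g hg a ha
      have h1 : ⁅g, a⁆ = (⁅a, g⁆)⁻¹ := (commutatorElement_inv a g).symm
      rw [h1]
      apply Subgroup.inv_mem
      refine ⟨ρ ⟨a, ha⟩ ⟨g, hg⟩ * (⟨g, hg⟩ : ↥R)⁻¹, Subgroup.subset_closure ⟨⟨a, ha⟩, ⟨g, hg⟩, rfl⟩, ?_⟩
      rw [commutatorElement_def]
      rfl
    rw [hRA] at hle
    intro x _
    obtain ⟨y, hy, hyx⟩ := hle x.2
    have : y = x := Subtype.ext hyx
    rw [← this]
    exact hy
  obtain ⟨h3, hstr⟩ :=
    Cfsg.Agent.Lib.Helper2_Blackburn.structure_of_action hp hR hr hAodd hcop ρ hfix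
  refine ⟨h3, ?_⟩
  rcases hstr with hcomm | ⟨E, C, hsup, hcomm, ⟨u, hu, v, hv, huv⟩, hcard, hexp, hcyc, hcl⟩
  · left
    exact ⟨⟨hcomm⟩⟩
  · right
    refine ⟨E.map R.subtype, C.map R.subtype, ?_, ?_, ?_, ?_, ?_, ?_, ?_⟩
    · rw [← Subgroup.map_sup, hsup, ← MonoidHom.range_eq_map, Subgroup.range_subtype]
    · rintro _ ⟨a, ha, rfl⟩ _ ⟨c, hc, rfl⟩
      exact congrArg Subtype.val (hcomm a ha c hc)
    · intro hc
      apply huv
      have h1 := hc.is_comm.comm ⟨(u : G), ⟨u, hu, rfl⟩⟩ ⟨(v : G), ⟨v, hv, rfl⟩⟩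
      have h2 : (u : G) * (v : G) = (v : G) * (u : G) := congrArg Subtype.val h1
      rw [commutatorElement_eq_one_iff_mul_comm]
      exact Subtype.ext h2
    · rw [Subgroup.card_map_of_injective R.subtype_injective, hcard]
    · rw [← Monoid.exponent_eq_of_mulEquiv
        (Subgroup.equivMapOfInjective E R.subtype R.subtype_injective)]
      have h1 : Monoid.exponent ↥E ∣ p := by
        rw [Monoid.exponent_dvd_iff_forall_pow_eq_one]
        intro g
        apply Subtype.ext
        have := hexp g.1 g.2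
        simpa using this
      rcases (Nat.dvd_prime hpP).mp h1 with h2 | h2
      · exfalso
        rw [Monoid.exp_eq_one_iff] at h2
        apply huv
        have h3 : (⟨u, hu⟩ : ↥E) = ⟨v, hv⟩ := Subsingleton.elim _ _
        have h4 : u = v := congrArg Subtype.val h3
        rw [h4, commutatorElement_self]
      · exact h2
    · exact isCyclic_of_surjective
        (Subgroup.equivMapOfInjective C R.subtype R.subtype_injective).toMonoidHom
        (Subgroup.equivMapOfInjective C R.subtype R.subtype_injective).surjective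
    · have h1 : {x : G | x ∈ C.map R.subtype ∧ x ^ p = 1} =
          R.subtype '' {x : ↥R | x ∈ C ∧ x ^ p = 1} := by
        ext x
        constructor
        · rintro ⟨⟨c, hc, rfl⟩, hx⟩
          refine ⟨c, ⟨hc, ?_⟩, rfl⟩
          apply Subtype.ext
          simpa using hx
        · rintro ⟨c, ⟨hc, hcp⟩, rfl⟩
          refine ⟨⟨c, hc, rfl⟩, ?_⟩
          have := congrArg Subtype.val hcp
          simpa using this
      rw [h1, ← MonoidHom.map_closure, hcl, Subgroup.map_commutator]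

end Cfsg.Agent.S1448
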