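import Cfsg.Statements.S0029
import Cfsg.Agent.Lib.Helper24_CoprimeAction

set_option autoImplicit false
open Cfsg
open Cfsg.Agent.Lib.Helper24_CoprimeAction

namespace Cfsg.Agent.S0029

/-- An action that is trivial on the Frattini quotient and coprime on the Frattini subgroup is trivial: if A normalises K, the orders of A and of the Frattini subgroup of K are coprime, and every commutator of an element of A with an element of K lies in the Frattini subgroup of K, then A centralises K. -/
theorem result {G : Type*} [Group G] [Finite G] (A K : Subgroup G)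
    (hAK : A ≤ Subgroup.normalizer (K : Set G))
    (hcop : (Nat.card A).Coprime (Nat.card (frattini K)))
    (htriv : ∀ a ∈ A, ∀ k ∈ K, a * k * a⁻¹ * k⁻¹ ∈ (frattini K).map K.subtype) :
    A ≤ Subgroup.centralizer (K : Set G) := by
  set F : Subgroup G := (frattini K).map K.subtype with hF
  have hNF : Subgroup.normalizer (K : Set G) ≤ Subgroup.normalizer (F : Set G) :=
    normalizer_le_normalizer_map_of_characteristic K (frattini K)
  have hAF : A ≤ Subgroup.normalizer (F : Set G) := hAK.trans hNF
  have hKF : K ≤ Subgroup.normalizer (F : Set G) := Subgroup.le_normalizer.trans hNF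
  have hFK : F ≤ K := Subgroup.map_subtype_le _
  have hcardF : Nat.card F = Nat.card (frattini K) :=
    Subgroup.card_map_of_injective K.subtype_injective
  have hcopF : (Nat.card A).Coprime (Nat.card F) := by rw [hcardF]; exact hcop
  have hsolvF : Group.IsSolvable F := by
    have hnil : Group.IsNilpotent (frattini K) := frattini_nilpotent
    have e : frattini K ≃* F := (frattini K).equivMapOfInjective K.subtype K.subtype_injective
    exact Group.isSolvable_of_isSolvable_injective (f := e.symm.toMonoidHom) e.symm.injective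
  -- every element of K is (fixed point) * (element of F)
  have hdec : ∀ k ∈ K, ∃ d ∈ F, k * d ∈ K ⊓ Subgroup.centralizer (A : Set G) := by
    intro k hk
    have hfix : ∀ a ∈ A, k⁻¹ * (a * k * a⁻¹) ∈ F := by
      intro a ha
      have h1 := (Subgroup.mem_normalizer_iff.mp (hKF (K.inv_mem hk)) _).mp (htriv a ha k hk)
      have h2 : k⁻¹ * (a * k * a⁻¹ * k⁻¹) * k⁻¹⁻¹ = k⁻¹ * (a * k * a⁻¹) := by group
      rwa [h2] at h1
    obtain ⟨d, hd, hc⟩ := exists_fixed_in_coset A F hAF hcopF (Or.inr hsolvF) k hfix
    exact ⟨d, hd, K.mul_mem hk (hFK hd), Subgroup.mem_centralizer_iff.mpr hc⟩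
  -- hence C_K(A) together with the Frattini subgroup generates K
  have hsup : (K ⊓ Subgroup.centralizer (A : Set G)).subgroupOf K ⊔ frattini K = ⊤ := by
    rw [eq_top_iff]
    intro k _
    obtain ⟨d, hd, hc⟩ := hdec k k.2
    obtain ⟨z, hz, hzd⟩ := hd
    have e : k = (⟨(k : G) * d, hc.1⟩ : K) * z⁻¹ := by
      apply Subtype.ext
      simp only [Subgroup.coe_mul, Subgroup.coe_inv]
      rw [← hzd]; simp
    rw [e]
    exact Subgroup.mul_mem _ (Subgroup.mem_sup_left (Subgroup.mem_subgroupOf.mpr hc))
      (Subgroup.mem_sup_right (Subgroup.inv_mem _ hz))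
  have htop := frattini_nongenerating hsup
  have hKC : K ≤ K ⊓ Subgroup.centralizer (A : Set G) := Subgroup.subgroupOf_eq_top.mp htop
  intro a ha
  refine Subgroup.mem_centralizer_iff.mpr ?_
  intro k hk
  exact (Subgroup.mem_centralizer_iff.mp (hKC hk).2 a ha).symm

end Cfsg.Agent.S0029
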