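import Cfsg.Statements.S4370
import Cfsg.Agent.S0016
import Cfsg.Agent.Lib.Helper32_Nilpotent

set_option autoImplicit false
open Cfsg

namespace Cfsg.Agent.S4370

open QuaternionGroup in
/-- `l + l = 0` in `ZMod (2 n)` forces `l = 0 ∨ l = n` -/
theorem two_mul_eq_zero {n : ℕ} [NeZero n] (l : ZMod (2 * n)) (h : l + l = 0) :
    l = 0 ∨ l = (n : ZMod (2 * n)) := by
  have hn : 0 < n := Nat.pos_of_ne_zero (NeZero.ne n)
  have hl := ZMod.val_lt l
  have h1 : ((l.val + l.val : ℕ) : ZMod (2 * n)) = 0 := by
    push_cast; rw [ZMod.natCast_zmod_val]; exact h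
  rw [ZMod.natCast_eq_zero_iff] at h1
  obtain ⟨c, hc⟩ := h1
  have hc2 : c < 2 := by
    by_contra hc2
    push Not at hc2
    have : 2 * n * 2 ≤ 2 * n * c := Nat.mul_le_mul_left _ hc2
    omega
  interval_cases c
  · left
    have : l.val = 0 := by omega
    exact (ZMod.val_eq_zero l).mp this
  · right
    have hv : l.val = n := by omega
    have h2 := ZMod.natCast_zmod_val l
    rw [hv] at h2
    exact h2.symm

theorem n_add_n {n : ℕ} : (n : ZMod (2 * n)) + n = 0 := by
  have : ((2 * n : ℕ) : ZMod (2 * n)) = 0 := ZMod.natCast_self _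
  push_cast at this
  rw [← this]; ring

open QuaternionGroup in
/-- centralizers of noncentral elements of a quaternion group lie in a cyclic subgroup -/
theorem exists_zpowers_ge_centralizer {n : ℕ} [NeZero n] (q : QuaternionGroup n)
    (hq : q ∉ Subgroup.center (QuaternionGroup n)) :
    ∃ g, Subgroup.centralizer {q} ≤ Subgroup.zpowers g := by
  cases q with
  | a i =>
    have hi : i + i ≠ 0 := by
      intro h
      apply hq
      rw [Subgroup.mem_center_iff]
      intro g
      cases g with
      | a l => rw [a_mul_a, a_mul_a, add_comm]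
      | xa l =>
        rw [xa_mul_a, a_mul_xa, sub_eq_add_neg]
        congr 2
        exact eq_neg_of_add_eq_zero_left h
    refine ⟨a 1, ?_⟩
    intro g hg
    rw [Subgroup.mem_centralizer_singleton_iff] at hg
    cases g with
    | a l =>
      rw [Subgroup.mem_zpowers_iff]
      exact ⟨(l.val : ℤ), by rw [zpow_natCast, a_one_pow, ZMod.natCast_zmod_val]⟩
    | xa l =>
      exfalso
      rw [xa_mul_a, a_mul_xa] at hg
      have h1 : l + i = l - i := by injection hg
      apply hi
      have : (l + i) - (l - i) = 0 := by rw [h1]; ring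
      rw [← this]; ring
  | xa j =>
    refine ⟨xa j, ?_⟩
    intro g hg
    rw [Subgroup.mem_centralizer_singleton_iff] at hg
    cases g with
    | a l =>
      rw [a_mul_xa, xa_mul_a] at hg
      have h1 : j - l = j + l := by injection hg
      have h2 : l + l = 0 := by
        have : (j + l) - (j - l) = 0 := by rw [h1]; ring
        rw [← this]; ring
      rcases two_mul_eq_zero l h2 with rfl | rfl
      · rw [a_zero]; exact one_mem _
      · rw [← xa_sq j]; exact Subgroup.pow_mem _ (Subgroup.mem_zpowers _) 2
    | xa l =>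
      rw [xa_mul_xa, xa_mul_xa] at hg
      have h1 : (n : ZMod (2 * n)) + j - l = (n : ZMod (2 * n)) + l - j := by injection hg
      have h2 : (l - j) + (l - j) = 0 := by
        have : ((n : ZMod (2 * n)) + l - j) - ((n : ZMod (2 * n)) + j - l) = 0 := by
          rw [h1]; ring
        rw [← this]; ring
      rcases two_mul_eq_zero (l - j) h2 with h0 | hn
      · have : l = j := sub_eq_zero.mp h0
        rw [this]; exact Subgroup.mem_zpowers _
      · have hl : l = j - n := by
          have h3 : l = j + n := by rw [← hn]; ring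
          rw [h3, sub_eq_add_neg]
          congr 1
          exact eq_neg_of_add_eq_zero_left n_add_n
        have h3 : xa l = (xa j) ^ 3 := by
          rw [pow_succ, xa_sq, a_mul_xa, hl]
        rw [h3]; exact Subgroup.pow_mem _ (Subgroup.mem_zpowers _) 3

theorem backward {G : Type*} [Group G] (k m : ℕ) (hm : Odd m)
    (e : G ≃* QuaternionGroup (2 ^ k) × Multiplicative (ZMod m)) (x : G)
    (hx : x ∉ Subgroup.center G) : IsCyclic (Subgroup.centralizer ({x} : Set G)) := by
  haveI : NeZero (2 ^ k) := ⟨by positivity⟩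
  haveI : NeZero m := ⟨by rintro rfl; exact (Nat.not_odd_iff_even.mpr Even.zero) hm⟩
  have hq : (e x).1 ∉ Subgroup.center (QuaternionGroup (2 ^ k)) := by
    intro hq
    apply hx
    rw [Subgroup.mem_center_iff]
    intro g
    apply e.injective
    rw [map_mul, map_mul]
    refine Prod.ext ?_ ?_
    · exact Subgroup.mem_center_iff.mp hq (e g).1
    · exact mul_comm _ _
  obtain ⟨g, hg⟩ := exists_zpowers_ge_centralizer (e x).1 hq
  haveI : IsCyclic ((Subgroup.zpowers g).prod
      (⊤ : Subgroup (Multiplicative (ZMod m)))) := by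
    have e1 : ↥((Subgroup.zpowers g).prod (⊤ : Subgroup (Multiplicative (ZMod m)))) ≃*
        (Subgroup.zpowers g) × (⊤ : Subgroup (Multiplicative (ZMod m))) := Subgroup.prodEquiv _ _
    have hcyc : IsCyclic ((Subgroup.zpowers g) × (⊤ : Subgroup (Multiplicative (ZMod m)))) := by
      rw [Group.isCyclic_prod_iff]
      refine ⟨inferInstance, Subgroup.isCyclic _, ?_⟩
      have h1 : Nat.card (Subgroup.zpowers g) ∣ 2 ^ (k + 2) := by
        have := Subgroup.card_subgroup_dvd_card (Subgroup.zpowers g)
        rw [Nat.card_eq_fintype_card (α := QuaternionGroup (2 ^ k)), QuaternionGroup.card] at this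
        have h4 : 4 * 2 ^ k = 2 ^ (k + 2) := by ring
        rwa [h4] at this
      obtain ⟨j, -, hj⟩ := (Nat.dvd_prime_pow Nat.prime_two).mp h1
      have h2 : Nat.card (⊤ : Subgroup (Multiplicative (ZMod m))) = m := by
        rw [Subgroup.card_top, Nat.card_congr Multiplicative.toAdd, Nat.card_eq_fintype_card,
          ZMod.card]
      rw [hj, h2]
      exact Nat.Coprime.pow_left _ (Nat.coprime_two_left.mpr hm)
    exact isCyclic_of_injective e1.toMonoidHom e1.injective
  have hle : ∀ y : Subgroup.centralizer ({x} : Set G), e y ∈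
      (Subgroup.zpowers g).prod (⊤ : Subgroup (Multiplicative (ZMod m))) := by
    rintro ⟨y, hy⟩
    rw [Subgroup.mem_prod]
    refine ⟨hg ?_, Subgroup.mem_top _⟩
    have hy' : y * x = x * y := Subgroup.mem_centralizer_singleton_iff.mp hy
    rw [Subgroup.mem_centralizer_singleton_iff]
    have := congrArg (fun z => (e z).1) hy'
    simpa using this
  refine isCyclic_of_injective ((e.toMonoidHom.comp (Subgroup.subtype _)).codRestrict _ hle) ?_
  intro y z hyz
  have h1 : e (y : G) = e (z : G) := congrArg Subtype.val hyz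
  exact Subtype.ext (e.injective h1)

section forward

variable {G : Type*} [Group G] [Finite G]

/-- elements of a subgroup are killed by its order -/
theorem pow_card_of_mem (H : Subgroup G) {a : G} (ha : a ∈ H) : a ^ Nat.card H = 1 := by
  have h1 : (⟨a, ha⟩ : H) ^ Nat.card H = 1 := pow_card_eq_one'
  exact congrArg Subtype.val h1

/-- a set of solutions of `v ^ n = 1` in a cyclic subgroup has at most `n` elements -/
theorem ncard_le_of_pow_eq_one (C : Subgroup G) [IsCyclic C] (n : ℕ) (hn : 0 < n) (T : Set G)
    (hTC : T ⊆ C) (hT : ∀ v ∈ T, v ^ n = 1) : T.ncard ≤ n := by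
  classical
  haveI : Fintype C := Fintype.ofFinite C
  have h1 := IsCyclic.card_pow_eq_one_le (α := C) (n := n) hn
  have h2 : Nat.card T ≤ Nat.card {a : C // a ^ n = 1} := by
    apply Nat.card_le_card_of_injective (fun v : T => ⟨⟨v.1, hTC v.2⟩, by
      apply Subtype.ext
      simpa using hT v.1 v.2⟩)
    intro v w h
    simp only [Subtype.mk.injEq] at h
    exact Subtype.ext h
  have h3 : Nat.card {a : C // a ^ n = 1} =
      (Finset.univ.filter (fun a : C => a ^ n = 1)).card := by
    rw [Nat.card_eq_fintype_card, Fintype.card_subtype]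
  rw [h3, Nat.card_coe_set_eq] at h2
  exact h2.trans h1

/-- subgroups of the same order inside a cyclic subgroup coincide -/
theorem eq_of_card_eq_of_le_cyclic (C : Subgroup G) [IsCyclic C] (H K : Subgroup G) (hH : H ≤ C)
    (hK : K ≤ C) (h : Nat.card H = Nat.card K) : H = K := by
  have hpos : 0 < Nat.card H := Nat.card_pos
  have h1 : ((H : Set G) ∪ K).ncard ≤ Nat.card H := by
    apply ncard_le_of_pow_eq_one C _ hpos
    · exact Set.union_subset hH hK
    · rintro v (hv | hv)
      · exact pow_card_of_mem H hv
      · rw [h]; exact pow_card_of_mem K hv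
  have h2 : (H : Set G) = (H : Set G) ∪ K := by
    apply Set.eq_of_subset_of_ncard_le Set.subset_union_left _ (Set.toFinite _)
    rw [← Nat.card_coe_set_eq (H : Set G)]
    exact h1
  have h3 : (K : Set G) = (H : Set G) ∪ K := by
    apply Set.eq_of_subset_of_ncard_le Set.subset_union_right _ (Set.toFinite _)
    rw [← Nat.card_coe_set_eq (K : Set G)]
    have : Nat.card (K : Set G) = Nat.card K := rfl
    rw [this, ← h]
    exact h1
  exact SetLike.coe_injective (h2.trans h3.symm)

variable [hG : Group.IsNilpotent G]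

/-- elements of a Sylow subgroup commute with elements of a complement -/
theorem commute_sylow_compl {p : ℕ} [Fact p.Prime] (P : Sylow p G) (K : Subgroup G)
    (hPK : (P : Subgroup G).IsComplement' K) {a b : G} (ha : a ∈ (P : Subgroup G)) (hb : b ∈ K) :
    a * b = b * a := by
  have hcop : (Nat.card (P : Subgroup G)).Coprime (Nat.card K) := by
    have h1 := P.card_coprime_index
    rwa [hPK.symm.index_eq_card] at h1
  exact (Cfsg.Agent.Lib.Helper32_Nilpotent.commute_of_coprime_pow_eq_one G a b _ _
    (pow_card_of_mem _ ha) (pow_card_of_mem _ hb) hcop).eq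

/-- a commutative Sylow subgroup of a nilpotent group is central -/
theorem sylow_le_center {p : ℕ} [Fact p.Prime] (P : Sylow p G)
    (hP : IsMulCommutative (P : Subgroup G)) : (P : Subgroup G) ≤ Subgroup.center G := by
  obtain ⟨K, hPK⟩ := Subgroup.exists_right_complement'_of_coprime P.card_coprime_index
  intro z hz
  rw [Subgroup.mem_center_iff]
  intro g
  obtain ⟨⟨u, v⟩, huv, -⟩ := (Subgroup.isComplement'_def.mp hPK).existsUnique g
  simp only at huv
  rw [← huv]
  have h1 : (u : G) * z = z * u := by
    have := mul_comm' u (⟨z, hz⟩ : (P : Subgroup G))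
    exact congrArg Subtype.val this
  have h2 : z * (v : G) = v * z := commute_sylow_compl P K hPK hz v.2
  rw [mul_assoc, ← h2, ← mul_assoc, h1, mul_assoc]

/-- a non-commutative nilpotent group has a non-commutative Sylow subgroup -/
theorem exists_noncomm_sylow (hna : ¬ IsMulCommutative G) :
    ∃ (p : ℕ) (_ : Fact p.Prime) (P : Sylow p G), ¬ IsMulCommutative (P : Subgroup G) := by
  by_contra hcon
  push Not at hcon
  apply hna
  rw [← Subgroup.center_eq_top_iff]
  apply Subgroup.eq_top_of_card_eq
  apply Nat.dvd_antisymm (Subgroup.card_subgroup_dvd_card _)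
  rw [← Nat.factorization_prime_le_iff_dvd Nat.card_pos.ne' Nat.card_pos.ne']
  intro p hp
  haveI : Fact p.Prime := ⟨hp⟩
  let P : Sylow p G := default
  have h1 : Nat.card (P : Subgroup G) ∣ Nat.card (Subgroup.center G) :=
    Subgroup.card_dvd_of_le (sylow_le_center P (hcon p ⟨hp⟩ P))
  rw [Sylow.card_eq_multiplicity] at h1
  exact (Nat.Prime.pow_dvd_iff_le_factorization hp Nat.card_pos.ne').mp h1

omit hG in
/-- in a non-commutative Sylow subgroup all of whose noncentral elements have cyclic centralizers
there is only one subgroup of order `p` -/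
theorem unique_order_p {p : ℕ} [Fact p.Prime] (P : Sylow p G)
    (hP : ¬ IsMulCommutative (P : Subgroup G))
    (hcyc : ∀ x : G, x ∉ Subgroup.center G → IsCyclic (Subgroup.centralizer ({x} : Set G)))
    (H K : Subgroup (P : Subgroup G)) (hH : Nat.card H = p) (hK : Nat.card K = p) : H = K := by
  have hp : p.Prime := Fact.out
  haveI : Nontrivial (P : Subgroup G) := by
    by_contra h
    rw [not_nontrivial_iff_subsingleton] at h
    exact hP ⟨⟨fun a b => Subsingleton.elim _ _⟩⟩
  haveI := P.isPGroup'.center_nontrivial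
  -- a central element of order p
  have hdvd : p ∣ Nat.card (Subgroup.center (P : Subgroup G)) := by
    rcases (P.isPGroup'.to_subgroup (Subgroup.center (P : Subgroup G))).card_eq_or_dvd with h | h
    · have := Finite.one_lt_card (α := Subgroup.center (P : Subgroup G))
      omega
    · exact h
  obtain ⟨z, hz⟩ := exists_prime_orderOf_dvd_card' p hdvd
  have hzc : ∀ w : (P : Subgroup G), w * (z : (P : Subgroup G)) = (z : (P : Subgroup G)) * w :=
    Subgroup.mem_center_iff.mp z.2
  have hzo : orderOf ((z : (P : Subgroup G)) : G) = p := by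
    rw [Subgroup.orderOf_coe, Subgroup.orderOf_coe]; exact hz
  -- a non-commuting pair
  obtain ⟨x₀, w₀, hxw⟩ : ∃ x₀ w₀ : (P : Subgroup G), x₀ * w₀ ≠ w₀ * x₀ := by
    by_contra h
    push Not at h
    exact hP (isMulCommutative_iff.mpr h)
  -- every subgroup of order p is the one generated by z
  have key : ∀ H : Subgroup (P : Subgroup G), Nat.card H = p →
      H.map (P : Subgroup G).subtype = Subgroup.zpowers ((z : (P : Subgroup G)) : G) := by
    intro H hH
    have hHcard : Nat.card (H.map (P : Subgroup G).subtype) =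
        Nat.card (Subgroup.zpowers ((z : (P : Subgroup G)) : G)) := by
      rw [Subgroup.card_map_of_injective (Subgroup.subtype_injective _), hH, Nat.card_zpowers, hzo]
    -- find a noncentral x whose centralizer contains both
    suffices hx : ∃ x : (P : Subgroup G), (∃ w : (P : Subgroup G), x * w ≠ w * x) ∧
        ∀ h ∈ H, h * x = x * h by
      obtain ⟨x, ⟨w, hw⟩, hxH⟩ := hx
      have hxc : (x : G) ∉ Subgroup.center G := by
        intro hc
        apply hw
        apply Subtype.ext
        exact (Subgroup.mem_center_iff.mp hc (w : G)).symm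
      haveI := hcyc (x : G) hxc
      apply eq_of_card_eq_of_le_cyclic (Subgroup.centralizer {(x : G)}) _ _ _ _ hHcard
      · rintro _ ⟨h, hh, rfl⟩
        rw [Subgroup.mem_centralizer_singleton_iff]
        exact congrArg Subtype.val (hxH h hh)
      · rw [Subgroup.zpowers_le, Subgroup.mem_centralizer_singleton_iff]
        exact congrArg Subtype.val (hzc x).symm
    by_cases hHc : ∀ h ∈ H, ∀ w : (P : Subgroup G), h * w = w * h
    · exact ⟨x₀, ⟨w₀, hxw⟩, fun h hh => hHc h hh x₀⟩
    · push Not at hHc
      obtain ⟨h₀, hh₀, w, hw⟩ := hHc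
      refine ⟨h₀, ⟨w, hw⟩, ?_⟩
      intro h hh
      haveI : IsCyclic H := isCyclic_of_prime_card hH
      have := mul_comm' (⟨h, hh⟩ : H) ⟨h₀, hh₀⟩
      exact congrArg Subtype.val this
  apply Subgroup.map_injective (Subgroup.subtype_injective (P : Subgroup G))
  rw [key H hH, key K hK]

theorem forward (hna : ¬ IsMulCommutative G)
    (hcyc : ∀ x : G, x ∉ Subgroup.center G → IsCyclic (Subgroup.centralizer ({x} : Set G))) :
    ∃ (k m : ℕ), 1 ≤ k ∧ Odd m ∧
      Nonempty (G ≃* QuaternionGroup (2 ^ k) × Multiplicative (ZMod m)) := by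
  obtain ⟨p, hp, P, hP⟩ := exists_noncomm_sylow hna
  haveI := hp
  have huniq := unique_order_p P hP hcyc
  rcases Cfsg.Agent.S0016.result p P.isPGroup' huniq with hc | ⟨rfl, n, ⟨eQ⟩⟩
  · exfalso
    exact hP IsCyclic.isMulCommutative
  have hn : 1 ≤ n := by
    by_contra h
    have hn0 : n = 0 := by omega
    subst hn0
    apply hP
    haveI : IsCyclic (QuaternionGroup (2 ^ 0)) := QuaternionGroup.quaternionGroup_one_isCyclic
    haveI : IsCyclic (P : Subgroup G) := isCyclic_of_injective eQ.toMonoidHom eQ.injective
    exact IsCyclic.isMulCommutative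
  obtain ⟨K, hPK⟩ := Subgroup.exists_right_complement'_of_coprime P.card_coprime_index
  obtain ⟨x₀, w₀, hxw⟩ : ∃ x₀ w₀ : (P : Subgroup G), x₀ * w₀ ≠ w₀ * x₀ := by
    by_contra h
    push Not at h
    exact hP (isMulCommutative_iff.mpr h)
  have hxc : (x₀ : G) ∉ Subgroup.center G := by
    intro hc
    apply hxw
    apply Subtype.ext
    exact (Subgroup.mem_center_iff.mp hc (w₀ : G)).symm
  haveI := hcyc (x₀ : G) hxc
  have hKle : K ≤ Subgroup.centralizer {(x₀ : G)} := by
    intro b hb
    rw [Subgroup.mem_centralizer_singleton_iff]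
    exact (commute_sylow_compl P K hPK x₀.2 hb).symm
  haveI : IsCyclic K := Subgroup.isCyclic_of_le hKle
  have hodd : Odd (Nat.card K) := by
    have h1 := P.card_coprime_index
    rw [hPK.symm.index_eq_card] at h1
    have h2 : 2 ∣ Nat.card (P : Subgroup G) := by
      rcases P.isPGroup'.card_eq_or_dvd with h | h
      · exfalso
        apply hxw
        haveI : Subsingleton (P : Subgroup G) := (Nat.card_eq_one_iff_unique.mp h).1
        exact Subsingleton.elim _ _
      · exact h
    exact Nat.coprime_two_left.mp (Nat.Coprime.coprime_dvd_left h2 h1)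
  let f : ↥(P : Subgroup G) × ↥K →* G :=
    MonoidHom.noncommCoprod (P : Subgroup G).subtype K.subtype
      (fun a b => commute_sylow_compl P K hPK a.2 b.2)
  have hf : Function.Bijective f := by
    have h1 := Subgroup.isComplement'_def.mp hPK
    have h2 : (f : ↥(P : Subgroup G) × ↥K → G) = fun x => (x.1 : G) * (x.2 : G) := by
      funext x
      rfl
    rw [h2]
    exact h1
  let e1 : ↥(P : Subgroup G) × ↥K ≃* G := MulEquiv.ofBijective f hf
  let e2 : K ≃* Multiplicative (ZMod (Nat.card K)) := (zmodCyclicMulEquiv ‹IsCyclic K›).symm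
  exact ⟨n, Nat.card K, hn, hodd, ⟨e1.symm.trans (MulEquiv.prodCongr eQ e2)⟩⟩

end forward

/-- Let G be a finite non-abelian nilpotent group. Then the centralizer of every non-central element of G is cyclic if and only if G is isomorphic to the direct product of a generalized quaternion group and a cyclic group of odd order. -/
theorem result {G : Type*} [Group G] [Finite G] (hG : Group.IsNilpotent G)
    (hna : ¬ IsMulCommutative G) :
    (∀ x : G, x ∉ Subgroup.center G → IsCyclic (Subgroup.centralizer ({x} : Set G))) ↔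
      ∃ (k m : ℕ), 1 ≤ k ∧ Odd m ∧ Nonempty (G ≃* QuaternionGroup (2 ^ k) × Multiplicative (ZMod m)) := by
  haveI := hG
  constructor
  · exact forward hna
  · rintro ⟨k, m, -, hm, ⟨e⟩⟩ x hx
    exact backward k m hm e x hx

end Cfsg.Agent.S4370
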