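import Cfsg.Statements.S3910

set_option autoImplicit false
open Cfsg

namespace Cfsg.Agent.S3910

theorem NC {G : Type*} [Group G] [Group.IsNilpotent G] (N : Subgroup G) [hNn : N.Normal] (hN : N ≠ ⊥) :
    ∃ z ∈ N, z ∈ Subgroup.center G ∧ z ≠ 1 := by
  classical
  obtain ⟨n, hn⟩ := Group.IsNilpotent.nilpotent G
  have hP : ∃ k, N ⊓ Subgroup.upperCentralSeries G k ≠ ⊥ := ⟨n, by rw [hn, inf_top_eq]; exact hN⟩
  set k := Nat.find hP with hk
  have hk1 : N ⊓ Subgroup.upperCentralSeries G k ≠ ⊥ := Nat.find_spec hP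
  rcases Nat.eq_zero_or_eq_succ_pred k with h0 | hs
  · exfalso
    rw [h0, Subgroup.upperCentralSeries_zero, inf_bot_eq] at hk1
    exact hk1 rfl
  · have hm : ¬ (N ⊓ Subgroup.upperCentralSeries G (k - 1) ≠ ⊥) := Nat.find_min hP (by omega)
    push Not at hm
    obtain ⟨⟨z, hz⟩, hz1⟩ := (Subgroup.ne_bot_iff_exists_ne_one).mp hk1
    have hzN : z ∈ N := hz.1
    have hzZ : z ∈ Subgroup.upperCentralSeries G (k - 1 + 1) := by
      have := hz.2
      rwa [hs] at this
    refine ⟨z, hzN, ?_, fun h => hz1 (Subtype.ext h)⟩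
    rw [Subgroup.mem_center_iff]
    intro y
    have h1 : z * y * z⁻¹ * y⁻¹ ∈ Subgroup.upperCentralSeries G (k - 1) :=
      Subgroup.mem_upperCentralSeries_succ_iff.mp hzZ y
    have h2 : z * y * z⁻¹ * y⁻¹ ∈ N := by
      have : y * z⁻¹ * y⁻¹ ∈ N := hNn.conj_mem _ (N.inv_mem hzN) y
      have := N.mul_mem hzN this
      simpa [mul_assoc] using this
    have h3 : z * y * z⁻¹ * y⁻¹ ∈ N ⊓ Subgroup.upperCentralSeries G (k - 1) := ⟨h2, h1⟩
    rw [hm, Subgroup.mem_bot] at h3
    have : z * y = y * z := by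
      have := congrArg (fun t => t * y * z) h3
      simpa [mul_assoc] using this
    exact this.symm

theorem exists_central_order_p {G : Type*} [Group G] [Finite G] [Group.IsNilpotent G] (p : ℕ) [hp : Fact p.Prime]
    (hpd : p ∣ Nat.card G) : ∃ z ∈ Subgroup.center G, orderOf z = p := by
  let P : Sylow p G := default
  have hPn : (P : Subgroup G).Normal := inferInstance
  have hPne : (P : Subgroup G) ≠ ⊥ := P.ne_bot_of_dvd_card hpd
  obtain ⟨z, hzP, hzc, hz1⟩ := NC (P : Subgroup G) hPne
  obtain ⟨s, hs⟩ := (IsPGroup.iff_orderOf.mp P.isPGroup') ⟨z, hzP⟩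
  rw [Subgroup.orderOf_mk] at hs
  have hs1 : 1 ≤ s := by
    by_contra h
    have : s = 0 := by omega
    rw [this, pow_zero, orderOf_eq_one_iff] at hs
    exact hz1 hs
  refine ⟨z ^ p ^ (s - 1), (Subgroup.center G).pow_mem hzc _, ?_⟩
  rw [orderOf_pow_of_dvd (pow_ne_zero _ hp.out.ne_zero) (by rw [hs]; exact pow_dvd_pow p (by omega)), hs]
  rw [Nat.pow_div (by omega) hp.out.pos]
  have : s - (s - 1) = 1 := by omega
  rw [this, pow_one]

theorem claim {G : Type*} [Group G] [Finite G] [hnil : Group.IsNilpotent G]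
    (hB : ∀ A B : Subgroup G, IsMulCommutative ↥A → IsMulCommutative ↥B → Nat.card ↥A = Nat.card ↥B → ∃ g : G, B = A.map (MulAut.conj g).toMonoidHom)
    (p : ℕ) [hp : Fact p.Prime] (j : ℕ) (hj : p ^ j ∣ Nat.card G) :
    ∃ A : Subgroup G, A.Normal ∧ IsCyclic A ∧ Nat.card A = p ^ j ∧ ∀ x : G, x ^ (p ^ j) = 1 → x ∈ A := by
  induction j with
  | zero =>
    refine ⟨⊥, inferInstance, inferInstance, by simp, fun x hx => ?_⟩
    simpa using hx
  | succ j ih =>
    obtain ⟨A, hAn, hAc, hAcard, hAcl⟩ := ih (dvd_trans (pow_dvd_pow p (Nat.le_succ j)) hj)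
    have hpQ : p ∣ Nat.card (G ⧸ A) := by
      have h1 := Subgroup.card_eq_card_quotient_mul_card_subgroup A
      rw [hAcard] at h1
      rw [h1, pow_succ, mul_comm] at hj
      exact (Nat.mul_dvd_mul_iff_right (pow_pos hp.out.pos j)).mp hj
    obtain ⟨wbar, hwc, hword⟩ := exists_central_order_p (G := G ⧸ A) p hpQ
    obtain ⟨w, rfl⟩ := QuotientGroup.mk_surjective wbar
    set B := (Subgroup.zpowers (w : G ⧸ A)).comap (QuotientGroup.mk' A) with hBdef
    have hZn : (Subgroup.zpowers (w : G ⧸ A)).Normal := by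
      constructor
      intro n hn g
      have hnc : n ∈ Subgroup.center (G ⧸ A) :=
        (Subgroup.zpowers_le.mpr hwc) hn
      rw [Subgroup.mem_center_iff] at hnc
      have : g * n * g⁻¹ = n := by rw [hnc g, mul_inv_cancel_right]
      rw [this]; exact hn
    have hBn : B.Normal := hZn.comap _
    have hAB : A ≤ B := by
      intro a ha
      rw [hBdef, Subgroup.mem_comap]
      have : (QuotientGroup.mk' A) a = 1 := (QuotientGroup.eq_one_iff a).mpr ha
      rw [this]; exact Subgroup.one_mem _
    have hBcard : Nat.card B = p ^ (j + 1) := by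
      have h1 : B.index = (Subgroup.zpowers (w : G ⧸ A)).index :=
        Subgroup.index_comap_of_surjective _ (QuotientGroup.mk'_surjective A)
      have h2 := Subgroup.card_mul_index B
      have h3 := Subgroup.card_mul_index (Subgroup.zpowers (w : G ⧸ A))
      have h4 := Subgroup.card_eq_card_quotient_mul_card_subgroup A
      rw [Nat.card_zpowers, hword] at h3
      rw [h1] at h2
      rw [hAcard] at h4
      have hi : 0 < (Subgroup.zpowers (w : G ⧸ A)).index :=
        Nat.pos_of_ne_zero Subgroup.index_ne_zero_of_finite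
      have : Nat.card B * (Subgroup.zpowers (w : G ⧸ A)).index = p ^ (j + 1) * (Subgroup.zpowers (w : G ⧸ A)).index := by
        rw [h2, h4, ← h3, pow_succ]; ring
      exact Nat.eq_of_mul_eq_mul_right hi this
    have hwB : w ∈ B := by
      rw [hBdef, Subgroup.mem_comap]; exact Subgroup.mem_zpowers _
    have hwA : w ∉ A := by
      intro h
      have : (w : G ⧸ A) = 1 := (QuotientGroup.eq_one_iff w).mpr h
      rw [this, orderOf_one] at hword
      exact hp.out.one_lt.ne hword
    -- order of w
    have hword' : orderOf w = p ^ (j + 1) := by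
      have h1 : orderOf w ∣ p ^ (j + 1) := by
        rw [← hBcard]
        have := orderOf_dvd_natCard (⟨w, hwB⟩ : B)
        rwa [Subgroup.orderOf_mk] at this
      obtain ⟨i, hi, hi2⟩ := (Nat.dvd_prime_pow hp.out).mp h1
      rcases Nat.lt_or_ge i (j + 1) with hlt | hge
      · exfalso
        apply hwA
        apply hAcl
        apply orderOf_dvd_iff_pow_eq_one.mp
        rw [hi2]; exact pow_dvd_pow p (by omega)
      · have : i = j + 1 := by omega
        rw [hi2, this]
    have hBeq : Subgroup.zpowers w = B := by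
      apply Subgroup.eq_of_le_of_card_ge (Subgroup.zpowers_le.mpr hwB)
      rw [Nat.card_zpowers, hword', hBcard]
    refine ⟨B, hBn, ?_, hBcard, ?_⟩
    · rw [← hBeq]; infer_instance
    · intro x hx
      have h1 : orderOf x ∣ p ^ (j + 1) := orderOf_dvd_of_pow_eq_one hx
      obtain ⟨i, hi, hi2⟩ := (Nat.dvd_prime_pow hp.out).mp h1
      rcases Nat.lt_or_ge i (j + 1) with hlt | hge
      · apply hAB
        apply hAcl
        apply orderOf_dvd_iff_pow_eq_one.mp
        rw [hi2]; exact pow_dvd_pow p (by omega)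
      · have hij : i = j + 1 := by omega
        obtain ⟨g, hg⟩ := hB B (Subgroup.zpowers x) (by rw [← hBeq]; infer_instance) inferInstance
          (by rw [Nat.card_zpowers, hi2, hij, hBcard])
        have hxm : x ∈ B.map (MulAut.conj g).toMonoidHom := by
          rw [← hg]; exact Subgroup.mem_zpowers x
        obtain ⟨b, hb, rfl⟩ := Subgroup.mem_map.mp hxm
        simpa [MulAut.conj_apply] using hBn.conj_mem b hb g

/-- A finite nilpotent group in which any two abelian subgroups of the same order are conjugate is cyclic. -/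
theorem result {G : Type*} [Group G] [Finite G] (hB : ∀ A B : Subgroup G, IsMulCommutative ↥A → IsMulCommutative ↥B → Nat.card ↥A = Nat.card ↥B → ∃ g : G, B = A.map (MulAut.conj g).toMonoidHom) (hnil : Group.IsNilpotent G) : IsCyclic G := by
  have hZ : IsZGroup G := by
    refine ⟨fun p hpp P => ?_⟩
    have : Fact p.Prime := ⟨hpp⟩
    obtain ⟨A, hAn, hAc, hAcard, hAcl⟩ := claim hB p ((Nat.card G).factorization p)
      (Nat.ordProj_dvd (Nat.card G) p)
    have hPcard : Nat.card (P : Subgroup G) = p ^ (Nat.card G).factorization p :=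
      P.card_eq_multiplicity
    have hPA : (P : Subgroup G) ≤ A := by
      intro x hx
      apply hAcl
      rw [← hPcard]
      have := pow_card_eq_one' (G := (P : Subgroup G)) (x := ⟨x, hx⟩)
      exact congrArg Subtype.val this
    have hEq : (P : Subgroup G) = A := by
      apply Subgroup.eq_of_le_of_card_ge hPA
      rw [hAcard, hPcard]
    rw [hEq]; exact hAc
  infer_instance

end Cfsg.Agent.S3910
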