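import Cfsg.Statements.S3939
import Cfsg.Agent.Lib.Helper71_Fitting
import Cfsg.Agent.S3910
import Cfsg.Agent.S3937

set_option autoImplicit false
open Cfsg

namespace Cfsg.Agent.S3939

open Cfsg.Agent.Lib.Helper71_Fitting
open Cfsg.Agent.S3937 (eng eng_zero eng_succ eng_succ' nilpotent_of_le baer_engel_aux)

universe u

/-- A `p`-element lies in a normal Sylow `p`-subgroup. -/
theorem mem_normal_sylow {K : Type*} [Group K] [Finite K] {p : ℕ} [Fact p.Prime] (P : Sylow p K)
    [hPn : (P : Subgroup K).Normal] (a : K) (ha : ∃ k, orderOf a = p ^ k) : a ∈ (P : Subgroup K) := by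
  obtain ⟨k, hk⟩ := ha
  have hpg : IsPGroup p (Subgroup.zpowers a) :=
    IsPGroup.of_card (n := k) (by rw [Nat.card_zpowers, hk])
  obtain ⟨Q, hQ⟩ := hpg.exists_le_sylow
  obtain ⟨u, hu⟩ := MulAction.exists_smul_eq K P Q
  rw [Sylow.smul_eq_of_normal] at hu
  rw [hu]
  exact hQ (Subgroup.mem_zpowers a)

/-- In a finite nilpotent group, a `p`-element commutes with every element of order prime to `p`. -/
theorem CC {K : Type*} [Group K] [Finite K] [Group.IsNilpotent K] (p : ℕ) [hp : Fact p.Prime] (a b : K)
    (ha : ∃ k, orderOf a = p ^ k) (hb : (orderOf b).Coprime p) : a * b = b * a := by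
  let P : Sylow p K := default
  have haP : a ∈ (P : Subgroup K) := mem_normal_sylow P a ha
  have hPn : (P : Subgroup K).Normal := inferInstance
  have : b ∈ Subgroup.centralizer ({a} : Set K) := by
    apply mem_of_primePow_mem
    intro y hy r k hr hyo
    rw [Subgroup.mem_centralizer_iff]
    intro a' ha'
    rw [Set.mem_singleton_iff] at ha'
    subst ha'
    rcases Nat.eq_zero_or_pos k with hk0 | hkpos
    · rw [hk0, pow_zero, orderOf_eq_one_iff] at hyo
      rw [hyo, mul_one, one_mul]
    · have hdvd : orderOf y ∣ orderOf b := orderOf_dvd_of_mem_zpowers hy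
      have hrb : r ∣ orderOf b := dvd_trans (by rw [hyo]; exact dvd_pow_self r hkpos.ne') hdvd
      have hrp : r ≠ p := by
        intro h
        rw [h] at hrb
        have := Nat.Coprime.eq_one_of_dvd hb.symm hrb
        exact hp.out.one_lt.ne' this
      have : Fact r.Prime := ⟨hr⟩
      let R : Sylow r K := default
      have hRn : (R : Subgroup K).Normal := inferInstance
      have hyR : y ∈ (R : Subgroup K) := mem_normal_sylow R y ⟨k, hyo⟩
      have hc1 : a' * y * a'⁻¹ * y⁻¹ ∈ (P : Subgroup K) := by
        have h1 : y * a'⁻¹ * y⁻¹ ∈ (P : Subgroup K) := hPn.conj_mem _ (Subgroup.inv_mem _ haP) y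
        have := Subgroup.mul_mem _ haP h1
        simpa [mul_assoc] using this
      have hc2 : a' * y * a'⁻¹ * y⁻¹ ∈ (R : Subgroup K) := by
        have h1 : a' * y * a'⁻¹ ∈ (R : Subgroup K) := hRn.conj_mem _ hyR a'
        exact Subgroup.mul_mem _ h1 (Subgroup.inv_mem _ hyR)
      have hdisj : Disjoint (P : Subgroup K) (R : Subgroup K) :=
        IsPGroup.disjoint_of_ne p r (Ne.symm hrp) _ _ P.isPGroup' R.isPGroup'
      have h1 : a' * y * a'⁻¹ * y⁻¹ = 1 := by
        have := (Subgroup.disjoint_def.mp hdisj) hc1 hc2
        exact this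
      have := congrArg (fun t => t * y * a') h1
      simpa [mul_assoc] using this
  rw [Subgroup.mem_centralizer_iff] at this
  exact this a rfl

theorem ucs_restrict {G : Type*} [Group G] (H : Subgroup G) (n : ℕ) :
    ∀ h : ↥H, (h : G) ∈ Subgroup.upperCentralSeries G n → h ∈ Subgroup.upperCentralSeries ↥H n := by
  induction n with
  | zero =>
    intro h hh
    rw [Subgroup.upperCentralSeries_zero, Subgroup.mem_bot] at hh ⊢
    exact Subtype.ext hh
  | succ n ih =>
    intro h hh
    rw [Subgroup.mem_upperCentralSeries_succ_iff] at hh ⊢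
    intro y
    apply ih
    exact hh y

theorem backward {G : Type*} [Group G] [Finite G] (g : G)
    (hg : g ∈ ⨆ n : ℕ, Subgroup.upperCentralSeries G n) (x : G) :
    Group.IsNilpotent ↥(Subgroup.closure ({x, g} : Set G)) := by
  have hdir : Directed (· ≤ ·) (fun n : ℕ => Subgroup.upperCentralSeries G n) :=
    (Subgroup.upperCentralSeries_mono G).directed_le
  obtain ⟨n, hn⟩ := (Subgroup.mem_iSup_of_directed hdir).mp hg
  set H := Subgroup.closure ({x, g} : Set G) with hH
  have hxH : x ∈ H := Subgroup.subset_closure (by simp)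
  have hgH : g ∈ H := Subgroup.subset_closure (by simp)
  set Zn := Subgroup.upperCentralSeries ↥H n with hZn
  have hg' : (⟨g, hgH⟩ : ↥H) ∈ Zn := ucs_restrict H n ⟨g, hgH⟩ hn
  let φ := QuotientGroup.mk' Zn
  -- every element maps into zpowers (φ x')
  have hall : ∀ a : ↥H, φ a ∈ Subgroup.zpowers (φ ⟨x, hxH⟩) := by
    intro a
    have hle : (⊤ : Subgroup ↥H) ≤ (Subgroup.zpowers (φ ⟨x, hxH⟩)).comap φ := by
      rw [← Subgroup.closure_closure_coe_preimage (k := ({x, g} : Set G)), Subgroup.closure_le]
      rintro ⟨y, hy⟩ hy'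
      simp only [Set.mem_preimage, Set.mem_insert_iff, Set.mem_singleton_iff] at hy'
      rcases hy' with rfl | rfl
      · exact Subgroup.mem_zpowers _
      · rw [SetLike.mem_coe, Subgroup.mem_comap]
        have : φ ⟨y, hy⟩ = 1 := (QuotientGroup.eq_one_iff _).mpr hg'
        rw [this]; exact Subgroup.one_mem _
    exact hle (Subgroup.mem_top a)
  refine ⟨⟨n + 1, ?_⟩⟩
  rw [eq_top_iff]
  intro a _
  rw [Subgroup.mem_upperCentralSeries_succ_iff]
  intro b
  obtain ⟨i, hi⟩ := Subgroup.mem_zpowers_iff.mp (hall a)
  obtain ⟨j, hj⟩ := Subgroup.mem_zpowers_iff.mp (hall b)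
  have : φ (a * b * a⁻¹ * b⁻¹) = 1 := by
    rw [map_mul, map_mul, map_mul, map_inv, map_inv, ← hi, ← hj]
    rw [← zpow_add, ← zpow_neg, ← zpow_add, ← zpow_neg, ← zpow_add]
    have : i + j + -i + -j = 0 := by ring
    rw [this, zpow_zero]
  exact (QuotientGroup.eq_one_iff _).mp this

/-- If `⟨x, g⟩` is nilpotent then the Engel sequence of `x` with `g` reaches `1`. -/
theorem engel_of_nilpotent {G : Type*} [Group G] (g x : G)
    (h : Group.IsNilpotent ↥(Subgroup.closure ({x, g} : Set G))) : ∃ n, eng g n x = 1 := by
  set K := Subgroup.closure ({x, g} : Set G) with hK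
  have hxK : x ∈ K := Subgroup.subset_closure (by simp)
  have hgK : g ∈ K := Subgroup.subset_closure (by simp)
  obtain ⟨c, hc⟩ := (Subgroup.isNilpotent_iff_lowerCentralSeries K).mp h
  have hmem : ∀ n : ℕ, eng g n x ∈ K.lowerCentralSeries n := by
    intro n
    induction n with
    | zero => exact hxK
    | succ n ih =>
      rw [eng_succ', Subgroup.lowerCentralSeries_succ]
      exact Subgroup.commutator_mem_commutator ih hgK
  refine ⟨c, ?_⟩
  have := hmem c
  rwa [hc, Subgroup.mem_bot] at this

/-- The centre-free case: an element of prime order nilpotent with everything is impossible. -/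
theorem centerfree_case (G : Type u) [Group G] [Finite G]
    (hZ : Subgroup.center G = ⊥) (p : ℕ) [hp : Fact p.Prime] (g : G) (hgo : orderOf g = p)
    (hyp : ∀ x : G, Group.IsNilpotent ↥(Subgroup.closure ({x, g} : Set G))) : False := by
  have hg1 : g ≠ 1 := by
    intro h; rw [h, orderOf_one] at hgo; exact hp.out.one_lt.ne hgo
  -- (a) g commutes with p'-elements
  have hcomm : ∀ x : G, (orderOf x).Coprime p → g * x = x * g := by
    intro x hx
    set K := Subgroup.closure ({x, g} : Set G) with hK
    have hxK : x ∈ K := Subgroup.subset_closure (by simp)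
    have hgK : g ∈ K := Subgroup.subset_closure (by simp)
    have := hyp x
    have := CC (K := ↥K) p ⟨g, hgK⟩ ⟨x, hxK⟩ ⟨1, by rw [Subgroup.orderOf_mk, pow_one]; exact hgo⟩
      (by rw [Subgroup.orderOf_mk]; exact hx)
    exact congrArg Subtype.val this
  -- (b) Baer's Engel theorem: g lies in the Fitting subgroup, hence in O_p(G)
  have hgF : g ∈ Cfsg.fittingSubgroup G :=
    baer_engel_aux _ G rfl g (fun x => engel_of_nilpotent g x (hyp x))
  set N : Subgroup G := sylowCore p G with hNdef
  have hNn : N.Normal := inferInstance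
  have hNp : IsPGroup p ↥N := sylowCore_isPGroup p
  have hgN : g ∈ N := by
    rw [hNdef, mem_sylowCore]
    intro P
    exact mem_sylow_of_mem_fitting hgF (k := 1) (by rw [pow_one]; exact hgo) P
  -- (c)
  set S : Set G := {x : G | (orderOf x).Coprime p} with hS
  set C : Subgroup G := N ⊓ Subgroup.centralizer S with hC
  have hCn : C.Normal := by
    constructor
    intro c hc u
    rw [hC, Subgroup.mem_inf] at hc ⊢
    refine ⟨hNn.conj_mem c hc.1 u, ?_⟩
    rw [Subgroup.mem_centralizer_iff]
    intro s hs
    have hs' : u⁻¹ * s * u ∈ S := by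
      have : u⁻¹ * s * u = MulAut.conj u⁻¹ s := by rw [MulAut.conj_apply, inv_inv]
      rw [hS, Set.mem_ofPred_eq, this, MulEquiv.orderOf_eq]; exact hs
    have h1 := (Subgroup.mem_centralizer_iff.mp hc.2) _ hs'
    calc s * (u * c * u⁻¹) = u * ((u⁻¹ * s * u) * c) * u⁻¹ := by group
      _ = u * (c * (u⁻¹ * s * u)) * u⁻¹ := by rw [h1]
      _ = u * c * u⁻¹ * s := by group
  have hgC : g ∈ C := by
    rw [hC, Subgroup.mem_inf]
    refine ⟨hgN, ?_⟩
    rw [Subgroup.mem_centralizer_iff]
    intro s hs
    exact (hcomm s hs).symm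
  let P : Sylow p G := default
  have hNP : N ≤ (P : Subgroup G) := by
    have := hNn
    have := le_sylowCore_of_normal (G := G) hNp
    intro n hn
    exact (mem_sylowCore.mp (this hn)) P
  have hCP : C ≤ (P : Subgroup G) := le_trans inf_le_left hNP
  -- NC inside P
  have : Group.IsNilpotent ↥(P : Subgroup G) := P.isPGroup'.isNilpotent
  have : (C.subgroupOf (P : Subgroup G)).Normal := hCn.subgroupOf _
  have hne : C.subgroupOf (P : Subgroup G) ≠ ⊥ := by
    intro h
    have : (⟨g, hCP hgC⟩ : ↥(P : Subgroup G)) ∈ C.subgroupOf (P : Subgroup G) := by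
      rw [Subgroup.mem_subgroupOf]; exact hgC
    rw [h, Subgroup.mem_bot] at this
    exact hg1 (congrArg Subtype.val this)
  obtain ⟨z, hzC, hzc, hz1⟩ := Cfsg.Agent.S3910.NC (C.subgroupOf (P : Subgroup G)) hne
  rw [Subgroup.mem_subgroupOf, hC, Subgroup.mem_inf] at hzC
  -- (d) centralizer of z is everything
  set Cz := Subgroup.centralizer ({(z : G)} : Set G) with hCz
  have hPCz : (P : Subgroup G) ≤ Cz := by
    intro u hu
    rw [hCz, Subgroup.mem_centralizer_iff]
    intro w hw
    rw [Set.mem_singleton_iff] at hw
    subst hw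
    have := (Subgroup.mem_center_iff.mp hzc) ⟨u, hu⟩
    exact (congrArg Subtype.val this).symm
  have htop : Cz = ⊤ := by
    rw [← Subgroup.index_eq_one]
    by_contra hne1
    obtain ⟨r, hr, hdvd⟩ := Nat.exists_prime_and_dvd hne1
    have : Fact r.Prime := ⟨hr⟩
    by_cases hrp : r = p
    · subst hrp
      exact P.not_dvd_index (dvd_trans hdvd (Subgroup.index_dvd_of_le hPCz))
    · obtain ⟨R⟩ : Nonempty (Sylow r G) := inferInstance
      have hRCz : (R : Subgroup G) ≤ Cz := by
        intro u hu
        rw [hCz, Subgroup.mem_centralizer_iff]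
        intro w hw
        rw [Set.mem_singleton_iff] at hw
        subst hw
        have huS : u ∈ S := by
          obtain ⟨k, hk⟩ := (IsPGroup.iff_orderOf.mp R.isPGroup') ⟨u, hu⟩
          rw [Subgroup.orderOf_mk] at hk
          rw [hS, Set.mem_ofPred_eq, hk]
          exact Nat.Coprime.pow_left k ((Nat.coprime_primes hr hp.out).mpr hrp)
        exact ((Subgroup.mem_centralizer_iff.mp hzC.2) u huS).symm
      exact R.not_dvd_index (dvd_trans hdvd (Subgroup.index_dvd_of_le hRCz))
  have hzcen : (z : G) ∈ Subgroup.center G := by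
    rw [Subgroup.mem_center_iff]
    intro u
    have : u ∈ Cz := by rw [htop]; trivial
    rw [hCz, Subgroup.mem_centralizer_iff] at this
    exact (this z rfl).symm
  rw [hZ, Subgroup.mem_bot] at hzcen
  exact hz1 (Subtype.ext hzcen)

theorem forward_aux : ∀ n : ℕ, ∀ (G : Type u) [Group G] [Finite G], Nat.card G = n →
    ∀ g : G, (∀ x : G, Group.IsNilpotent ↥(Subgroup.closure ({x, g} : Set G))) →
    g ∈ ⨆ k : ℕ, Subgroup.upperCentralSeries G k := by
  intro n
  induction n using Nat.strong_induction_on with
  | _ n ih =>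
    intro G _ _ hcard g hyp
    by_cases hZ : Subgroup.center G = ⊥
    · -- centre-free: g = 1
      have hg1 : g = 1 := by
        by_contra hne
        have ho1 : orderOf g ≠ 1 := fun h => hne (orderOf_eq_one_iff.mp h)
        obtain ⟨p, hp, hpd⟩ := Nat.exists_prime_and_dvd ho1
        have : Fact p.Prime := ⟨hp⟩
        set g' := g ^ (orderOf g / p) with hg'
        have hg'o : orderOf g' = p := by
          have hpos : 0 < orderOf g := orderOf_pos g
          rw [hg', orderOf_pow_of_dvd (by
            intro h
            have := Nat.div_mul_cancel hpd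
            rw [h, zero_mul] at this
            omega) (Nat.div_dvd_of_dvd hpd)]
          exact Nat.div_div_self hpd hpos.ne'
        apply centerfree_case G hZ p g' hg'o
        intro x
        apply nilpotent_of_le _ (hyp x)
        rw [Subgroup.closure_le]
        intro y hy
        simp only [Set.mem_insert_iff, Set.mem_singleton_iff] at hy
        rcases hy with rfl | rfl
        · exact Subgroup.subset_closure (by simp)
        · exact Subgroup.pow_mem _ (Subgroup.subset_closure (by simp)) _
      rw [hg1]; exact Subgroup.one_mem _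
    · -- pass to the quotient by the centre
      have hlt : Nat.card (G ⧸ Subgroup.center G) < n := by
        rw [← hcard, Subgroup.card_eq_card_quotient_mul_card_subgroup (Subgroup.center G)]
        apply lt_mul_of_one_lt_right Nat.card_pos
        exact (Subgroup.one_lt_card_iff_ne_bot _).mpr hZ
      have hq := ih _ hlt (G ⧸ Subgroup.center G) rfl (QuotientGroup.mk' _ g) (by
        intro xbar
        obtain ⟨x, rfl⟩ := QuotientGroup.mk_surjective xbar
        have himg : Subgroup.closure ({(x : G ⧸ Subgroup.center G), QuotientGroup.mk' _ g} : Set (G ⧸ Subgroup.center G)) =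
            (Subgroup.closure ({x, g} : Set G)).map (QuotientGroup.mk' (Subgroup.center G)) := by
          rw [MonoidHom.map_closure, Set.image_pair]; rfl
        rw [himg]
        have := hyp x
        exact Group.nilpotent_of_surjective
          ((QuotientGroup.mk' (Subgroup.center G)).subgroupMap (Subgroup.closure ({x, g} : Set G)))
          (MonoidHom.subgroupMap_surjective _ _))
      have hdir : Directed (· ≤ ·) (fun k : ℕ => Subgroup.upperCentralSeries (G ⧸ Subgroup.center G) k) :=
        (Subgroup.upperCentralSeries_mono _).directed_le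
      obtain ⟨k, hk⟩ := (Subgroup.mem_iSup_of_directed hdir).mp hq
      have : g ∈ Subgroup.upperCentralSeries G (k + 1) := by
        rw [← Subgroup.comap_upperCentralSeries_quotient_center, Subgroup.mem_comap]
        exact hk
      exact Subgroup.mem_iSup_of_mem (k + 1) this

/-- In a finite group G the set of elements g such that the subgroup generated by g and x is nilpotent for every x ∈ G is exactly the hypercenter of G (the last term of the upper central series). -/
theorem result {G : Type*} [Group G] [Finite G] (g : G) :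
    (∀ x : G, Group.IsNilpotent ↥(Subgroup.closure ({x, g} : Set G))) ↔ g ∈ ⨆ n : ℕ, Subgroup.upperCentralSeries G n := by
  constructor
  · intro h
    exact forward_aux _ G rfl g h
  · intro h x
    exact backward g h x

end Cfsg.Agent.S3939
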