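import Mathlib
import Cfsg.Statements.S1410
import Cfsg.Agent.S1403
import Cfsg.Agent.S1444
import Cfsg.Agent.Lib.Helper70_BG106
-- import your own Cfsg.Agent.* helpers here

set_option autoImplicit false
open Cfsg

namespace Cfsg.Agent.S1410

/-- Let G be a minimal simple group of odd order. Then for every prime p and every proper subgroup H of G, H = O_{p',p,p'}(H). -/
theorem result {G : Type*} [Group G] [Finite G] (hG : Cfsg.IsMinSimpleOddOrder G) (p : ℕ) [Fact p.Prime] (H : Subgroup G) (hH : H ≠ ⊤) :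
    Cfsg.PLengthLE p 1 H := by
  have hU : Cfsg.Agent.Lib.Helper49_Sigma.UniqHyp G := fun K hK h1 h3 => Cfsg.Agent.S1403.result hG K hK h1 h3
  have h44 : Cfsg.Agent.Lib.Helper70_BG106.H1444 := fun X _ _ _ hodd H R R₀ _ hHall hR hR₀ hR₀p hZ q _ =>
    Cfsg.Agent.S1444.result hodd H R R₀ hHall hR hR₀ hR₀p hZ q
  exact Cfsg.Agent.Lib.Helper70_BG106.plen_one hG hU h44 p H hH

end Cfsg.Agent.S1410
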