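import Cfsg.Statements.S0542

set_option autoImplicit false
open Cfsg

namespace Cfsg.Agent.S0542

/-- For a normal subgroup `N`, the index of `H ⊓ N` in `N` divides the index of `H`. -/
theorem relIndex_dvd_index_of_normal_right {G : Type*} [Group G] [Finite G] (H N : Subgroup G)
    [N.Normal] : H.relIndex N ∣ H.index := by
  have h1 : (H ⊓ N).relIndex N * N.index = (H ⊓ N).index :=
    Subgroup.relIndex_mul_index inf_le_right
  have h2 : (H ⊓ N).relIndex H * H.index = (H ⊓ N).index :=
    Subgroup.relIndex_mul_index inf_le_left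
  have h3 : (H ⊓ N).relIndex H ∣ N.index := by
    rw [Subgroup.inf_relIndex_left]
    exact Subgroup.relIndex_dvd_index_of_normal (H := N) (K := H)
  obtain ⟨k, hk⟩ := h3
  have h0 : (H ⊓ N).relIndex H ≠ 0 := by
    intro h
    have := Subgroup.index_eq_zero_of_relIndex_eq_zero h
    exact Subgroup.index_ne_zero_of_finite this
  rw [← Subgroup.inf_relIndex_right]
  refine ⟨k, ?_⟩
  apply Nat.eq_of_mul_eq_mul_left (Nat.pos_of_ne_zero h0)
  rw [h2, ← h1, hk]
  ring

theorem not_dvd_relIndex {G : Type*} [Group G] [Finite G] (p : ℕ) [Fact p.Prime] (S : Sylow p G)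
    (H : Subgroup G) (hH : H.IsSubnormal) : ¬ p ∣ (S : Subgroup G).relIndex H := by
  induction hH with
  | top =>
    rw [Subgroup.relIndex_top_right]
    exact S.not_dvd_index
  | step H K hle hK hN ih =>
    intro hdvd
    apply ih
    have := relIndex_dvd_index_of_normal_right ((S : Subgroup G).subgroupOf K) (H.subgroupOf K)
    rw [Subgroup.relIndex_subgroupOf hle] at this
    exact dvd_trans hdvd this

/-- A Sylow p-subgroup of a finite group meets every subnormal subgroup H in a Sylow p-subgroup of H. -/
theorem result {G : Type*} [Group G] [Finite G] (p : ℕ) [Fact p.Prime] (H : Subgroup G) (hH : H.IsSubnormal) (S : Sylow p G) : ∃ Q : Sylow p H, (Q : Subgroup H) = (S : Subgroup G).subgroupOf H := by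
  have hp : IsPGroup p ((S : Subgroup G).subgroupOf H) :=
    S.isPGroup'.comap_subtype
  exact ⟨hp.toSylow (not_dvd_relIndex p S H hH), rfl⟩

end Cfsg.Agent.S0542
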