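import Cfsg.Statements.S2972
import Cfsg.Agent.Lib.Helper22_Cores
import Cfsg.Agent.Lib.Helper32_Cores
import Cfsg.Agent.S0542
-- import your own Cfsg.Agent.* helpers here

set_option autoImplicit false
open Cfsg

namespace Cfsg.Agent.S2972

open Subgroup
open scoped commutatorElement

section prelim

variable {G : Type*} [Group G]

/-- An isolated element of a finite nilpotent group is central. -/
theorem central_of_isolated_of_nilpotent [Group.IsNilpotent G] {x : G}
    (hiso : Cfsg.IsIsolated x) (g : G) : g * x = x * g := by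
  by_contra hg
  have hC : centralizer ({x} : Set G) < ⊤ := by
    rw [lt_top_iff_ne_top]
    intro htop
    have : g ∈ centralizer ({x} : Set G) := htop ▸ mem_top g
    rw [mem_centralizer_singleton_iff] at this
    exact hg this
  have hlt := Group.normalizerCondition_of_isNilpotent (G := G) _ hC
  obtain ⟨y, hyN, hyC⟩ := SetLike.exists_of_lt hlt
  apply hyC
  rw [mem_normalizer_iff] at hyN
  have hx : x ∈ centralizer ({x} : Set G) := by
    rw [mem_centralizer_singleton_iff]
  have h1 := (hyN x).1 hx
  rw [mem_centralizer_singleton_iff] at h1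
  have h2 := hiso y h1.symm
  rw [mem_centralizer_singleton_iff]
  have h3 := congrArg (· * y) h2
  simpa using h3

/-- Isolation passes to subgroups. -/
theorem isIsolated_subtype {x : G} (hiso : Cfsg.IsIsolated x) (H : Subgroup G) (hx : x ∈ H) :
    Cfsg.IsIsolated (⟨x, hx⟩ : ↥H) := by
  intro g hg
  apply Subtype.ext
  have hg' : x * ((g : G) * x * (g : G)⁻¹) = (g : G) * x * (g : G)⁻¹ * x := by
    simpa using congrArg Subtype.val hg.eq
  have := hiso (g : G) hg'
  simpa using this

end prelim

section main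

variable {G : Type*} [Group G] [Finite G] {p : ℕ} [Fact p.Prime]

omit [Fact p.Prime] in
/-- Step 1: the `p'`-core of a minimal counterexample is trivial. -/
theorem core_eq_bot (x : G) (hnz : ¬ Cfsg.InZStar p x)
    (hquot : ∀ (N : Subgroup G) [N.Normal], N ≠ ⊥ → Cfsg.InZStar p (QuotientGroup.mk x : G ⧸ N)) :
    pPrimeCore p G = ⊥ := by
  by_contra hne
  apply hnz
  intro g
  have h := hquot (pPrimeCore p G) hne (QuotientGroup.mk g)
  rw [Cfsg.Agent.Lib.Helper32_Cores.pPrimeCore_quotient_eq_bot, Subgroup.mem_bot] at h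
  have h2 : (QuotientGroup.mk (g * x * g⁻¹ * x⁻¹) : G ⧸ pPrimeCore p G) = 1 := by
    simpa using h
  exact (QuotientGroup.eq_one_iff _).1 h2

omit [Finite G] in
/-- The image in `G` of a normal subgroup of `↥H` is normalized by `H`. -/
theorem le_normalizer_map_subtype (H : Subgroup G) (N : Subgroup ↥H) [N.Normal] :
    H ≤ normalizer ((N.map H.subtype : Subgroup G) : Set G) := by
  have h := le_normalizer_map (H := N) H.subtype
  rw [normalizer_eq_top, ← MonoidHom.range_eq_map, range_subtype] at h
  exact h

omit [Fact p.Prime] in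
/-- Step 2: `x` centralizes every normal subgroup `K` with `K⟨x⟩` proper. -/
theorem commute_of_normal (x : G) (hcore : pPrimeCore p G = ⊥)
    (hmin : ∀ (H : Subgroup G) (hxH : x ∈ H), H ≠ ⊤ → Cfsg.InZStar p (⟨x, hxH⟩ : ↥H))
    (K : Subgroup G) [hKn : K.Normal] (hK : K ⊔ zpowers x ≠ ⊤) :
    ∀ k ∈ K, k * x = x * k := by
  intro k hk
  have hxH : x ∈ K ⊔ zpowers x := (le_sup_right : zpowers x ≤ _) (mem_zpowers x)
  have hkH : k ∈ K ⊔ zpowers x := (le_sup_left : K ≤ _) hk
  have h1 := hmin _ hxH hK ⟨k, hkH⟩
  have hc : k * x * k⁻¹ * x⁻¹ ∈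
      (pPrimeCore p ↥(K ⊔ zpowers x)).map (K ⊔ zpowers x).subtype ⊓ K := by
    refine ⟨⟨_, h1, rfl⟩, ?_⟩
    have h2 : x * k⁻¹ * x⁻¹ ∈ K := hKn.conj_mem _ (K.inv_mem hk) x
    have h3 := K.mul_mem hk h2
    have h4 : k * (x * k⁻¹ * x⁻¹) = k * x * k⁻¹ * x⁻¹ := by group
    rw [h4] at h3
    exact h3
  have hle : (pPrimeCore p ↥(K ⊔ zpowers x)).map (K ⊔ zpowers x).subtype ⊓ K ≤ pPrimeCore p G := by
    apply Cfsg.Agent.Lib.Helper22_Cores.le_pPrimeCore_of_le_isSubnormal p (H := K)
      (Normal.isSubnormal hKn) inf_le_right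
    · refine le_trans ?_ inf_normalizer_le_normalizer_inf
      refine le_inf ?_ le_normalizer
      exact le_trans le_sup_left (le_normalizer_map_subtype _ _)
    · refine Nat.Coprime.coprime_dvd_left (card_dvd_of_le inf_le_left) ?_
      rw [card_map_of_injective (subtype_injective _)]
      exact Cfsg.Agent.Lib.Helper22_Cores.pPrimeCore_coprime p
  rw [hcore] at hle
  have h5 := hle hc
  rw [mem_bot] at h5
  have h6 := congrArg (· * x * k) h5
  simpa [mul_assoc] using h6

/-- The data of a minimal counterexample, after the first two steps. -/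
structure Setup (p : ℕ) (x : G) : Prop where
  hx : orderOf x = p
  hiso : Cfsg.IsIsolated x
  hnc : ∃ g : G, g * x ≠ x * g
  hcore : pPrimeCore p G = ⊥
  hA : ∀ (K : Subgroup G) [K.Normal], K ⊔ zpowers x ≠ ⊤ → ∀ k ∈ K, k * x = x * k
  hquot : ∀ (N : Subgroup G) [N.Normal], N ≠ ⊥ → Cfsg.InZStar p (QuotientGroup.mk x : G ⧸ N)

omit [Finite G] [Fact p.Prime] in
/-- `x` is central as soon as it commutes with all its conjugates. -/
theorem Setup.false_of_commute {x : G} (S : Setup p x)
    (h : ∀ g : G, Commute x (g * x * g⁻¹)) : False := by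
  obtain ⟨g, hg⟩ := S.hnc
  apply hg
  have h1 := S.hiso g (h g)
  have h2 := congrArg (· * g) h1
  simpa using h2

omit [Finite G] [Fact p.Prime] in
/-- Step 3: `G` is the normal closure of `x`. -/
theorem Setup.normalClosure_eq_top {x : G} (S : Setup p x) :
    normalClosure ({x} : Set G) = ⊤ := by
  by_contra hne
  have hxK : x ∈ normalClosure ({x} : Set G) := subset_normalClosure rfl
  have hsup : normalClosure ({x} : Set G) ⊔ zpowers x = normalClosure ({x} : Set G) :=
    sup_eq_left.2 ((zpowers_le).2 hxK)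
  have hA := S.hA (normalClosure ({x} : Set G)) (by rw [hsup]; exact hne)
  apply S.false_of_commute
  intro g
  have hg : g * x * g⁻¹ ∈ normalClosure ({x} : Set G) :=
    (normalClosure_normal).conj_mem _ hxK g
  exact (hA _ hg).symm

omit [Finite G] [Fact p.Prime] in
theorem normal_of_le_center {N : Subgroup G} (hN : N ≤ center G) : N.Normal := by
  constructor
  intro n hn g
  have h1 := mem_center_iff.1 (hN hn) g
  have h2 : g * n * g⁻¹ = n := by rw [h1]; group
  rw [h2]; exact hn

omit [Finite G] [Fact p.Prime] in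
/-- A central subgroup of order prime to its index, the index being prime to `p`, in a group
with trivial `p'`-core, is the whole group (Schur–Zassenhaus). -/
theorem eq_top_of_central_of_coprime (N : Subgroup G) (hN : N ≤ center G)
    (hcop : (Nat.card N).Coprime N.index) (hidx : N.index.Coprime p)
    (hcore : pPrimeCore p G = ⊥) : N = ⊤ := by
  have : N.Normal := normal_of_le_center hN
  obtain ⟨H, hH⟩ := exists_right_complement'_of_coprime hcop
  have hHn : H.Normal := by
    constructor
    intro a ha k
    have hk : k ∈ ((N ⊔ H : Subgroup G) : Set G) := by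
      rw [hH.sup_eq_top]; exact mem_top k
    rw [normal_mul] at hk
    obtain ⟨n, hn, h, hh, rfl⟩ := Set.mem_mul.1 hk
    have hnc := mem_center_iff.1 (hN hn)
    have e0 : n * h * a * (n * h)⁻¹ = h * a * h⁻¹ := by
      have e1 : n * h * a * (n * h)⁻¹ = n * (h * a * h⁻¹) * n⁻¹ := by group
      rw [e1, ← hnc (h * a * h⁻¹)]
      group
    rw [e0]
    exact H.mul_mem (H.mul_mem hh ha) (H.inv_mem hh)
  have hHcard : (Nat.card H).Coprime p := by
    rw [← hH.symm.index_eq_card]; exact hidx
  have hHle := Cfsg.Agent.Lib.Helper32_Cores.le_pPrimeCore hHn hHcard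
  rw [hcore, le_bot_iff] at hHle
  rw [hHle] at hH
  exact isComplement'_bot_right.1 hH

omit [Finite G] [Fact p.Prime] in
theorem relIndex_comap_mk' (N : Subgroup G) [N.Normal] (O : Subgroup (G ⧸ N)) :
    N.relIndex (O.comap (QuotientGroup.mk' N)) = Nat.card O := by
  have h1 : ((⊥ : Subgroup (G ⧸ N)).comap (QuotientGroup.mk' N)).relIndex
      (O.comap (QuotientGroup.mk' N)) = Nat.card O := by
    rw [relIndex_comap, relIndex_bot_left,
      map_comap_eq_self_of_surjective (QuotientGroup.mk'_surjective _)]
  rwa [MonoidHom.comap_bot, QuotientGroup.ker_mk'] at h1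

/-- Step 4a: the centre of `G` is trivial. -/
theorem Setup.center_eq_bot {x : G} (S : Setup p x) : center G = ⊥ := by
  have hp : p.Prime := Fact.out
  by_contra hZ
  have hpZ : p ∣ Nat.card (center G) := by
    by_contra hnd
    have hcop : (Nat.card (center G)).Coprime p :=
      Nat.Coprime.symm (hp.coprime_iff_not_dvd.2 hnd)
    have h1 := Cfsg.Agent.Lib.Helper32_Cores.le_pPrimeCore
      (inferInstance : (center G).Normal) hcop
    rw [S.hcore, le_bot_iff] at h1
    exact hZ h1
  obtain ⟨z, hz⟩ := exists_prime_orderOf_dvd_card' p hpZ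
  have hNc : zpowers (z : G) ≤ center G := zpowers_le.2 z.2
  have hNn : (zpowers (z : G)).Normal := normal_of_le_center hNc
  have hzG : orderOf (z : G) = p := by rw [← hz]; exact Subgroup.orderOf_coe z
  have hNcard : Nat.card (zpowers (z : G)) = p := by rw [Nat.card_zpowers, hzG]
  have hNne : zpowers (z : G) ≠ ⊥ := by
    intro h
    rw [h, card_bot] at hNcard
    exact hp.one_lt.ne hNcard
  have hq := S.hquot (zpowers (z : G)) hNne
  have hNK : zpowers (z : G) ≤
      (pPrimeCore p (G ⧸ zpowers (z : G))).comap (QuotientGroup.mk' (zpowers (z : G))) := by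
    intro n hn
    rw [mem_comap]
    have h1 : (QuotientGroup.mk' (zpowers (z : G)) n) = 1 := (QuotientGroup.eq_one_iff n).2 hn
    rw [h1]; exact one_mem _
  have hKn : ((pPrimeCore p (G ⧸ zpowers (z : G))).comap
      (QuotientGroup.mk' (zpowers (z : G)))).Normal := inferInstance
  have hidx : ((zpowers (z : G)).subgroupOf ((pPrimeCore p (G ⧸ zpowers (z : G))).comap
      (QuotientGroup.mk' (zpowers (z : G))))).index.Coprime p := by
    change ((zpowers (z : G)).relIndex _).Coprime p
    rw [relIndex_comap_mk']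
    exact Cfsg.Agent.Lib.Helper32_Cores.card_pPrimeCore_coprime p
  have hKN : (pPrimeCore p (G ⧸ zpowers (z : G))).comap
      (QuotientGroup.mk' (zpowers (z : G))) ≤ zpowers (z : G) := by
    rw [← subgroupOf_eq_top]
    apply eq_top_of_central_of_coprime (p := p) _ _ _ hidx
    · have h1 := Cfsg.Agent.Lib.Helper22_Cores.map_pPrimeCore_of_isSubnormal p
        (Normal.isSubnormal hKn)
      rw [S.hcore, inf_bot_eq] at h1
      exact (map_eq_bot_iff_of_injective _ (subtype_injective _)).1 h1
    · intro n hn
      rw [mem_center_iff]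
      intro g
      apply Subtype.ext
      have h1 := mem_center_iff.1 (hNc (mem_subgroupOf.1 hn)) (g : G)
      simpa using h1
    · rw [Nat.card_congr (subgroupOfEquivOfLe hNK).toEquiv, hNcard]
      exact hidx.symm
  apply S.false_of_commute
  intro g
  have h1 := hq (QuotientGroup.mk g)
  have h2 : g * x * g⁻¹ * x⁻¹ ∈ (pPrimeCore p (G ⧸ zpowers (z : G))).comap
      (QuotientGroup.mk' (zpowers (z : G))) := by
    rw [mem_comap]; simpa using h1
  have h3 := mem_center_iff.1 (hNc (hKN h2))
  have h4 : g * x * g⁻¹ = (g * x * g⁻¹ * x⁻¹) * x := by group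
  rw [h4]
  change x * (_ * x) = _ * x * x
  rw [← mul_assoc, h3 x]

/-- Step 4b: every nontrivial normal subgroup supplements `⟨x⟩`. -/
theorem Setup.sup_zpowers_eq_top {x : G} (S : Setup p x) (K : Subgroup G) [hKn : K.Normal]
    (hK : K ≠ ⊥) : K ⊔ zpowers x = ⊤ := by
  by_contra hne
  have hA := S.hA K hne
  apply hK
  rw [← le_bot_iff, ← S.center_eq_bot]
  have hxC : x ∈ centralizer (K : Set G) := by
    rw [mem_centralizer_iff]
    intro k hk
    exact hA k hk
  have hC : normalClosure ({x} : Set G) ≤ centralizer (K : Set G) :=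
    normalClosure_le_normal (by simpa using hxC)
  rw [S.normalClosure_eq_top] at hC
  intro k hk
  rw [mem_center_iff]
  intro g
  have h1 := hC (mem_top g)
  rw [mem_centralizer_iff] at h1
  exact (h1 k hk).symm

omit [Finite G] [Fact p.Prime] in
/-- Step 5: the derived subgroup is not trivial. -/
theorem Setup.commutator_ne_bot {x : G} (S : Setup p x) : commutator G ≠ ⊥ := by
  intro h
  obtain ⟨g, hg⟩ := S.hnc
  apply hg
  have h1 : ⁅g, x⁆ ∈ commutator G := by
    rw [_root_.commutator_def]
    exact commutator_mem_commutator (mem_top g) (mem_top x)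
  rw [h, mem_bot, commutatorElement_eq_one_iff_mul_comm] at h1
  exact h1

/-- Step 6: the derived subgroup is a minimal normal subgroup. -/
theorem Setup.eq_commutator {x : G} (S : Setup p x) (M : Subgroup G) [hMn : M.Normal]
    (hM : M ≠ ⊥) (hle : M ≤ commutator G) : M = commutator G := by
  apply le_antisymm hle
  have hsup := S.sup_zpowers_eq_top M hM
  have hmem : ∀ a : G, ∃ i : ℤ, (QuotientGroup.mk a : G ⧸ M) = (QuotientGroup.mk x) ^ i := by
    intro a
    have ha : a ∈ ((M ⊔ zpowers x : Subgroup G) : Set G) := by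
      rw [hsup]; exact mem_top a
    rw [normal_mul] at ha
    obtain ⟨m, hm, y, hy, rfl⟩ := Set.mem_mul.1 ha
    obtain ⟨i, rfl⟩ := mem_zpowers_iff.1 hy
    refine ⟨i, ?_⟩
    have h1 : (QuotientGroup.mk m : G ⧸ M) = 1 := (QuotientGroup.eq_one_iff m).2 hm
    rw [QuotientGroup.mk_mul, h1, one_mul, QuotientGroup.mk_zpow]
  rw [_root_.commutator_def, commutator_le]
  intro a _ b _
  obtain ⟨i, hi⟩ := hmem a
  obtain ⟨j, hj⟩ := hmem b
  rw [← QuotientGroup.eq_one_iff]
  have h2 : (QuotientGroup.mk ⁅a, b⁆ : G ⧸ M) = ⁅(QuotientGroup.mk a : G ⧸ M), QuotientGroup.mk b⁆ :=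
    map_commutatorElement (QuotientGroup.mk' M) a b
  rw [h2, hi, hj, commutatorElement_eq_one_iff_commute]
  exact (Commute.refl _).zpow_zpow i j

omit [Fact p.Prime] in
/-- Subnormal subgroups of `G` have trivial `p'`-core. -/
theorem Setup.core_subnormal_eq_bot {x : G} (S : Setup p x) (K : Subgroup G)
    (hK : K.IsSubnormal) : pPrimeCore p ↥K = ⊥ := by
  have h1 := Cfsg.Agent.Lib.Helper22_Cores.map_pPrimeCore_of_isSubnormal p hK
  rw [S.hcore, inf_bot_eq] at h1
  exact (map_eq_bot_iff_of_injective _ (subtype_injective _)).1 h1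

/-- Step 7: the derived subgroup is not abelian. -/
theorem Setup.not_comm {x : G} (S : Setup p x) : ¬ IsMulCommutative ↥(commutator G) := by
  intro hcomm
  have hp : p.Prime := Fact.out
  have hcoreN : pPrimeCore p ↥(commutator G) = ⊥ :=
    S.core_subnormal_eq_bot _ (Normal.isSubnormal inferInstance)
  have hNp : ∀ q : ℕ, q.Prime → q ∣ Nat.card ↥(commutator G) → q = p := by
    intro q hq hdvd
    by_contra hqp
    have : Fact q.Prime := ⟨hq⟩
    obtain ⟨y, hy⟩ := exists_prime_orderOf_dvd_card' q hdvd
    have hyn : (zpowers y).Normal := by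
      constructor
      intro n hn g
      have h1 : g * n * g⁻¹ = n := by
        rw [hcomm.is_comm.comm g n]
        group
      rw [h1]; exact hn
    have hcard : (Nat.card (zpowers y)).Coprime p := by
      rw [Nat.card_zpowers, hy]
      exact (Nat.coprime_primes hq hp).2 hqp
    have hle := Cfsg.Agent.Lib.Helper32_Cores.le_pPrimeCore hyn hcard
    rw [hcoreN, le_bot_iff, zpowers_eq_bot] at hle
    rw [hle, orderOf_one] at hy
    exact hq.one_lt.ne hy
  have hk : Nat.card ↥(commutator G) = p ^ (Nat.card ↥(commutator G)).primeFactorsList.length :=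
    Nat.eq_prime_pow_of_unique_prime_dvd (Nat.card_pos.ne') (fun {d} hd hdd => hNp d hd hdd)
  have hG : Nat.card G ∣ p ^ ((Nat.card ↥(commutator G)).primeFactorsList.length + 1) := by
    have h1 := Cfsg.Agent.Lib.Helper32_Cores.card_sup_dvd (zpowers x) (commutator G)
    rw [sup_comm, S.sup_zpowers_eq_top _ S.commutator_ne_bot, card_top, Nat.card_zpowers, S.hx,
      hk] at h1
    rw [pow_succ, mul_comm]
    rw [← hk] at h1 ⊢
    exact h1
  obtain ⟨j, -, hj⟩ := (Nat.dvd_prime_pow hp).1 hG
  have hPG : IsPGroup p G := IsPGroup.of_card hj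
  have hx1 : x ≠ 1 := by
    intro h
    have h2 := S.hx
    rw [h, orderOf_one] at h2
    exact hp.one_lt.ne h2
  have : Nontrivial G := ⟨⟨x, 1, hx1⟩⟩
  have h3 := hPG.center_nontrivial
  rw [S.center_eq_bot] at h3
  exact not_nontrivial _ h3

/-- Step 8: the derived subgroup is simple. -/
theorem Setup.isSimple {x : G} (S : Setup p x) : IsSimpleGroup ↥(commutator G) := by
  have hp : p.Prime := Fact.out
  have hNne : commutator G ≠ ⊥ := S.commutator_ne_bot
  have hNn : (commutator G).Normal := inferInstance
  have hne : ({T | T ≠ ⊥ ∧ T ≤ commutator G ∧ commutator G ≤ normalizer (T : Set G)} :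
      Set (Subgroup G)).Nonempty := ⟨commutator G, hNne, le_rfl, le_normalizer⟩
  obtain ⟨T, ⟨hTne, hTN, hNT⟩, hTmin⟩ := WellFounded.has_min wellFounded_lt _ hne
  have hmin : ∀ T' : Subgroup G, T' ≠ ⊥ → T' ≤ T →
      commutator G ≤ normalizer (T' : Set G) → T' = T := by
    intro T' h1 h2 h3
    by_contra h4
    exact hTmin T' ⟨h1, h2.trans hTN, h3⟩ (lt_of_le_of_ne h2 h4)
  by_cases hxT : x ∈ normalizer (T : Set G)
  · -- `T` is normal in `G`, hence equal to the derived subgroup
    have hTn : T.Normal := by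
      rw [← normalizer_eq_top_iff, eq_top_iff, ← S.sup_zpowers_eq_top _ hNne]
      exact sup_le hNT (zpowers_le.2 hxT)
    have hTeq : T = commutator G := S.eq_commutator T hTne hTN
    have hnt : Nontrivial ↥(commutator G) := (nontrivial_iff_ne_bot _).2 hNne
    refine { exists_pair_ne := hnt.exists_pair_ne, eq_bot_or_eq_top_of_normal := ?_ }
    intro H hH
    by_cases hHb : H = ⊥
    · exact Or.inl hHb
    · right
      have h1 : H.map (commutator G).subtype = T := by
        apply hmin
        · rwa [Ne, map_eq_bot_iff_of_injective _ (subtype_injective _)]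
        · rw [hTeq]; exact map_subtype_le H
        · exact le_normalizer_map_subtype _ H
      rw [hTeq] at h1
      rw [eq_top_iff]
      intro n _
      have h2 : (n : G) ∈ H.map (commutator G).subtype := by rw [h1]; exact n.2
      obtain ⟨m, hm, hmn⟩ := mem_map.1 h2
      have h3 : m = n := Subtype.ext hmn
      rwa [← h3]
  · -- `T` and its conjugate by `x` meet trivially; a Sylow argument gives a contradiction
    exfalso
    have hT'N : T.map (MulAut.conj x).toMonoidHom ≤ commutator G := by
      rintro _ ⟨t, ht, rfl⟩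
      exact hNn.conj_mem t (hTN ht) x
    have hNT' : commutator G ≤ normalizer ((T.map (MulAut.conj x).toMonoidHom : Subgroup G) : Set G) := by
      intro n hn
      apply mem_normalizer_fintype
      rintro _ ⟨t, ht, rfl⟩
      have h1 : x⁻¹ * n * x ∈ commutator G := by
        have := hNn.conj_mem n hn x⁻¹
        simpa using this
      have h2 := (mem_normalizer_iff.1 (hNT h1) t).1 ht
      refine ⟨_, h2, ?_⟩
      simp only [MulEquiv.coe_toMonoidHom, MulAut.conj_apply]
      group
    have hinf : T ⊓ T.map (MulAut.conj x).toMonoidHom = ⊥ := by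
      by_contra hne'
      have h1 := hmin _ hne' inf_le_left
        (le_trans (le_inf hNT hNT') inf_normalizer_le_normalizer_inf)
      have h2 : T ≤ T.map (MulAut.conj x).toMonoidHom := inf_eq_left.1 h1
      have h3 : T = T.map (MulAut.conj x).toMonoidHom := by
        apply eq_of_le_of_card_ge h2
        rw [card_map_of_injective (MulAut.conj x).injective]
      apply hxT
      apply mem_normalizer_fintype
      intro t ht
      have h4 : x * t * x⁻¹ ∈ T.map (MulAut.conj x).toMonoidHom := ⟨t, ht, rfl⟩
      rw [← h3] at h4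
      exact h4
    have hxp : IsPGroup p (zpowers x) :=
      IsPGroup.of_card (n := 1) (by rw [Nat.card_zpowers, S.hx, pow_one])
    obtain ⟨P, hP⟩ := hxp.exists_le_sylow
    have hxP : x ∈ (P : Subgroup G) := hP (mem_zpowers x)
    have hnil : Group.IsNilpotent ↥(P : Subgroup G) := P.isPGroup'.isNilpotent
    have hcent : ∀ g : ↥(P : Subgroup G), g * ⟨x, hxP⟩ = ⟨x, hxP⟩ * g :=
      central_of_isolated_of_nilpotent (isIsolated_subtype S.hiso _ hxP)
    have hTsub : T.IsSubnormal :=
      IsSubnormal.step T (commutator G) hTN (Normal.isSubnormal hNn)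
        ((normal_subgroupOf_iff_le_normalizer hTN).2 hNT)
    have hpT : p ∣ Nat.card T := by
      by_contra hnd
      have hcop : (Nat.card T).Coprime p := (hp.coprime_iff_not_dvd.2 hnd).symm
      have h1 := Cfsg.Agent.Lib.Helper22_Cores.le_pPrimeCore_of_isSubnormal p hTsub hcop
      rw [S.hcore, le_bot_iff] at h1
      exact hTne h1
    obtain ⟨Q, hQ⟩ := Cfsg.Agent.S0542.result p T hTsub P
    have hQne : (Q : Subgroup ↥T) ≠ ⊥ := Q.ne_bot_of_dvd_card hpT
    obtain ⟨b, hbQ, hb1⟩ := (bot_or_exists_ne_one (Q : Subgroup ↥T)).resolve_left hQne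
    rw [hQ, mem_subgroupOf] at hbQ
    have hcomm := congrArg Subtype.val (hcent ⟨(b : G), hbQ⟩)
    simp only [Subgroup.coe_mul] at hcomm
    have hbT' : (b : G) ∈ T.map (MulAut.conj x).toMonoidHom := by
      refine ⟨(b : G), b.2, ?_⟩
      simp only [MulEquiv.coe_toMonoidHom, MulAut.conj_apply]
      rw [← hcomm]; group
    have h5 : (b : G) ∈ T ⊓ T.map (MulAut.conj x).toMonoidHom := ⟨b.2, hbT'⟩
    rw [hinf, mem_bot] at h5
    exact hb1 (Subtype.ext h5)

end main

/-- Let G be a finite group, p a prime and x ∈ G an isolated element of order p (the only conjugate of x commuting with x is x) which is not central modulo the largest normal subgroup of order prime to p, while x is central modulo the largest normal subgroup of order prime to p in every proper subgroup containing x, and the image of x is so in every quotient of G by a nontrivial normal subgroup (a minimal counterexample to the Z*_p statement). Then the derived subgroup G' is a non-abelian simple group and G = G'⟨x⟩. -/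
theorem result {G : Type*} [Group G] [Finite G] {p : ℕ} [Fact p.Prime] (x : G) (hx : orderOf x = p) (hiso : Cfsg.IsIsolated x) (hnz : ¬ Cfsg.InZStar p x) (hmin : ∀ (H : Subgroup G) (hxH : x ∈ H), H ≠ ⊤ → Cfsg.InZStar p (⟨x, hxH⟩ : ↥H)) (hquot : ∀ (N : Subgroup G) [N.Normal], N ≠ ⊥ → Cfsg.InZStar p (QuotientGroup.mk x : G ⧸ N)) : IsSimpleGroup ↥(commutator G) ∧ ¬ IsMulCommutative ↥(commutator G) ∧ commutator G ⊔ Subgroup.zpowers x = ⊤ := by
  have hcore := core_eq_bot x hnz hquot
  have hnc : ∃ g : G, g * x ≠ x * g := by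
    by_contra hcon
    push Not at hcon
    apply hnz
    intro g
    have h1 : g * x * g⁻¹ * x⁻¹ = 1 := by rw [hcon g]; group
    rw [h1]; exact one_mem _
  have S : Setup p x :=
    { hx := hx, hiso := hiso, hnc := hnc, hcore := hcore,
      hA := fun K _ hK => commute_of_normal x hcore hmin K hK, hquot := hquot }
  exact ⟨S.isSimple, S.not_comm, S.sup_zpowers_eq_top _ S.commutator_ne_bot⟩

end Cfsg.Agent.S2972
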