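import Cfsg.Statements.S1482
import Cfsg.Agent.Lib.Helper49_MaxSubC

set_option autoImplicit false
open Cfsg

namespace Cfsg.Agent.S1482

open Cfsg.Agent.Lib.Helper49_MaxSub Cfsg.Agent.Lib.Helper22_FitLocal

/-- Let G be a minimal simple group of odd order, H a maximal subgroup whose Fitting subgroup F has at least two prime divisors, and M a subgroup of F containing the centre of F such that the only M-invariant subgroup of G of order coprime to #F is the trivial one. Then H is the only maximal subgroup of G containing M. -/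
theorem result {G : Type*} [Group G] [Finite G] (hG : Cfsg.IsMinSimpleOddOrder G) (H : Subgroup G) (hH : IsCoatom H) (hF2 : 2 ≤ (Nat.card (Cfsg.fittingOf H)).primeFactors.card)
    (M : Subgroup G) (hM : M ≤ Cfsg.fittingOf H) (hZM : Cfsg.fittingOf H ⊓ Subgroup.centralizer (Cfsg.fittingOf H : Set G) ≤ M)
    (hinv : ∀ Y ∈ Cfsg.invSubgroups ⊤ M (Cfsg.primesNotDvd (Nat.card (Cfsg.fittingOf H))), Y = ⊥) :
    ∀ L : Subgroup G, IsCoatom L → M ≤ L → L = H := by
  intro L hL hML
  refine eq_of_zpart_le hG hH hL hF2 ?_ ?_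
  · intro q
    exact (le_inf (zpart_le_fittingOf q H) (zpart_le_centralizer q H)).trans (hZM.trans hML)
  · intro q hq hqd
    apply hinv
    refine ⟨le_top, ?_, ?_⟩
    · intro p' hp' hdvd
      have : Fact q.Prime := ⟨hq⟩
      obtain ⟨n, hn⟩ := IsPGroup.iff_card.mp
        (Cfsg.Agent.Lib.Helper49_CharP.pCoreOf_isPGroup (p := q) L)
      rw [hn] at hdvd
      have h1 : p' ∣ q := hp'.dvd_of_dvd_pow hdvd
      have h2 : p' = q := (Nat.prime_dvd_prime_iff_eq hp' hq).mp h1
      rw [h2]
      exact ⟨hq, hqd⟩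
    · exact hML.trans (le_normalizer_pCoreOf' q L)

end Cfsg.Agent.S1482
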