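-- PENDING (helper52): final statement file for S1420. Needs:
--   * Cfsg.Agent.Lib.Helper35_BG11z.h11 : H11 G   (helper35, sec.11; adjust module/name when landed)
--   * Cfsg.Agent.Lib.Helper49_BG124.false_of_centralizes   (helper49)
import Mathlib
import Cfsg.Statements.S1420
import Cfsg.Agent.S1403
import Cfsg.Agent.S1444
import Cfsg.Agent.Lib.Helper52_BG12d
import Cfsg.Agent.Lib.Helper35_BG11z
import Cfsg.Agent.Lib.Helper49_BG124

set_option autoImplicit false
open Cfsg

namespace Cfsg.Agent.S1420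

/-- Let G be a minimal simple group of odd order, M a maximal subgroup and E a complement to M_σ in M. Then every nilpotent subgroup of M whose order involves no prime of σ(M) is abelian; E' is abelian; for p ∈ σ(M) and every noncyclic p-subgroup P of M, N_G(P) ≤ M; and if x ≠ 1 in M has every prime divisor of its order in τ₂(M) and centralizes a non-identity element of M_σ, then C_G(x) ≤ M and M is the unique maximal subgroup containing C_G(x). -/
theorem result {G : Type*} [Group G] [Finite G] (hG : Cfsg.IsMinSimpleOddOrder G)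
    (M : Subgroup G) (hM : IsCoatom M) (E : Subgroup G) (hE : Cfsg.IsComplIn E (Cfsg.sigmaCore M) M) :
    (∀ N : Subgroup G, N ≤ M → Group.IsNilpotent N → (∀ p : ℕ, p.Prime → p ∣ Nat.card N → p ∉ Cfsg.sigma M) → IsMulCommutative N) ∧
      IsMulCommutative ↥⁅E, E⁆ ∧
      (∀ (p : ℕ) (P : Subgroup G), p ∈ Cfsg.sigma M → IsPGroup p P → P ≤ M → ¬ IsCyclic P → Subgroup.normalizer (P : Set G) ≤ M) ∧
      ∀ x ∈ M, x ≠ 1 → (∀ p : ℕ, p.Prime → p ∣ orderOf x → p ∈ Cfsg.tau2 M) → x ∈ Cfsg.sigmaHat M →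
        Subgroup.centralizer ({x} : Set G) ≤ M ∧ ∀ L : Subgroup G, IsCoatom L → Subgroup.centralizer ({x} : Set G) ≤ L → L = M := by
  have hU : Cfsg.Agent.Lib.Helper49_Sigma.UniqHyp G := fun K hK h1 h3 => Cfsg.Agent.S1403.result hG K hK h1 h3
  have h44 : Cfsg.Agent.Lib.Helper70_BG106.H1444 := fun X _ _ _ hodd H R R₀ _ hHall hR hR₀ hR₀p hZ q _ =>
    Cfsg.Agent.S1444.result hodd H R R₀ hHall hR hR₀ hR₀p hZ q
  have h11 : Cfsg.Agent.Lib.Helper52_BG12b.H11 G := Cfsg.Agent.Lib.Helper35_BG11z.h11 hG hU h44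
  have h124 : Cfsg.Agent.Lib.Helper52_BG12c.H124 G := fun M hM p _ hp A hA hα hc =>
    Cfsg.Agent.Lib.Helper49_BG124.false_of_centralizes hG M hM p hp A hA hα hc
  exact Cfsg.Agent.Lib.Helper52_BG12d.statement_S1420 hG hU h44 h11 h124 M hM E hE

end Cfsg.Agent.S1420
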