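-- PENDING (helper52): final statement file for S1417 (BG 12.5). Needs:
--   * Cfsg.Agent.Lib.Helper35_BG11z.h11 : H11 G   (helper35, sec.11; adjust module/name when landed)
--   * Cfsg.Agent.Lib.Helper49_BG124.false_of_centralizes   (helper49)
import Mathlib
import Cfsg.Statements.S1417
import Cfsg.Agent.S1403
import Cfsg.Agent.S1444
import Cfsg.Agent.Lib.Helper52_BG12c
import Cfsg.Agent.Lib.Helper35_BG11z
import Cfsg.Agent.Lib.Helper49_BG124

set_option autoImplicit false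
open Cfsg

namespace Cfsg.Agent.S1417

theorem result {G : Type*} [Group G] [Finite G] (hG : Cfsg.IsMinSimpleOddOrder G)
    (M : Subgroup G) (hM : IsCoatom M) (p : ℕ) [Fact p.Prime] (hp : p ∈ Cfsg.tau2 M) (A : Subgroup G) (hA : (A ≤ M ∧ Cfsg.IsElementaryAbelian p A ∧ Nat.card A = p ^ 2)) :
    Group.IsNilpotent (Cfsg.sigmaCore M) ∧
      (∀ P : Sylow p M, IsMulCommutative (P : Subgroup M) ∧
        (A ≤ (P : Subgroup M).map M.subtype →
          (∀ x ∈ (P : Subgroup M).map M.subtype, x ^ p = 1 ↔ x ∈ A) ∧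
          ¬ Subgroup.normalizer ((((P : Subgroup M).map M.subtype : Subgroup G)) : Set G) ≤ M)) ∧
      M ≤ Subgroup.normalizer ((Cfsg.sigmaCore M ⊔ A : Subgroup G) : Set G) ∧
      Cfsg.sigmaCore M ⊓ Subgroup.centralizer (A : Set G) = ⊥ ∧
      (∀ Mstar : Subgroup G, IsCoatom Mstar → Mstar ≠ M → A ≤ Mstar → Cfsg.sigmaCore M ⊓ Mstar = ⊥) ∧
      ∃ A₁ : Subgroup G, A₁ ≤ A ∧ Nat.card A₁ = p ∧ Cfsg.sigmaCore M ⊓ Subgroup.centralizer (A₁ : Set G) = ⊥ := by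
  have hU : Cfsg.Agent.Lib.Helper49_Sigma.UniqHyp G := fun K hK h1 h3 => Cfsg.Agent.S1403.result hG K hK h1 h3
  have h44 : Cfsg.Agent.Lib.Helper70_BG106.H1444 := fun X _ _ _ hodd H R R₀ _ hHall hR hR₀ hR₀p hZ q _ =>
    Cfsg.Agent.S1444.result hodd H R R₀ hHall hR hR₀ hR₀p hZ q
  have h11 : Cfsg.Agent.Lib.Helper52_BG12b.H11 G := Cfsg.Agent.Lib.Helper35_BG11z.h11 hG hU h44
  have h124 : Cfsg.Agent.Lib.Helper52_BG12c.H124 G := fun M hM p _ hp A hA hα hc =>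
    Cfsg.Agent.Lib.Helper49_BG124.false_of_centralizes hG M hM p hp A hA hα hc
  exact Cfsg.Agent.Lib.Helper52_BG12c.thm125 hG hU h44 h11 h124 hM hp hA.1 hA.2.1 hA.2.2

end Cfsg.Agent.S1417
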