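import Cfsg.Statements.S1423
import Cfsg.Agent.S1403
import Cfsg.Agent.S1412
import Cfsg.Agent.S1416
import Cfsg.Agent.S1417
import Cfsg.Agent.S1444
import Cfsg.Agent.Lib.Helper73_BG12c
import Cfsg.Agent.Lib.Helper73_Focal
import Cfsg.Agent.Lib.Helper97_IdealCube
import Cfsg.Agent.Lib.Helper97_RankCent
-- import your own Cfsg.Agent.* helpers here

set_option autoImplicit false
open Cfsg

namespace Cfsg.Agent.S1423

/-- Let G be a minimal simple group of odd order, M a maximal subgroup, p ∈ σ(M), X ≤ M a subgroup of order p and P a Sylow p-subgroup of M_σ. If p ∈ β(M) or X ≤ (M_σ)', then C_G(X) ≤ M, M is the unique maximal subgroup containing C_G(X), and M is the unique maximal subgroup containing P. -/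
theorem result {G : Type*} [Group G] [Finite G] (hG : Cfsg.IsMinSimpleOddOrder G)
    (M : Subgroup G) (hM : IsCoatom M) (p : ℕ) [Fact p.Prime] (hp : p ∈ Cfsg.sigma M) (X : Subgroup G) (hXM : X ≤ M) (hX : Nat.card X = p)
    (P : Sylow p ↥(Cfsg.sigmaCore M)) (h : p ∈ Cfsg.beta M ∨ X ≤ ⁅Cfsg.sigmaCore M, Cfsg.sigmaCore M⁆) :
    (Subgroup.centralizer (X : Set G) ≤ M ∧ ∀ L : Subgroup G, IsCoatom L → Subgroup.centralizer (X : Set G) ≤ L → L = M) ∧ Cfsg.InUniqueMaximal ((P : Subgroup ↥(Cfsg.sigmaCore M)).map (Cfsg.sigmaCore M).subtype) ∧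
      (P : Subgroup ↥(Cfsg.sigmaCore M)).map (Cfsg.sigmaCore M).subtype ≤ M := by
  have hU : Cfsg.Agent.Lib.Helper49_Sigma.UniqHyp G := fun K hK h1 h3 => Cfsg.Agent.S1403.result hG K hK h1 h3
  have h44 : Cfsg.Agent.Lib.Helper70_BG106.H1444 := fun X _ _ _ hodd H R R₀ _ hHall hR hR₀ hR₀p hZ q _ =>
    Cfsg.Agent.S1444.result hodd H R R₀ hHall hR hR₀ hR₀p hZ q
  have h12 : Cfsg.Agent.Lib.Helper73_BG12b.Hyp1412 G := fun q _ Q hr => Cfsg.Agent.S1412.result hG q Q hr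
  have h16 : Cfsg.Agent.Lib.Helper73_BG12b.Hyp1416 G := fun M hM q _ A hAM hAe hA2 =>
    Cfsg.Agent.S1416.result hG M hM q A ⟨hAM, hAe, hA2⟩
  have h17 : Cfsg.Agent.Lib.Helper73_BG12b.Hyp1417 G := fun M hM q _ hq A hAM hAe hA2 Q =>
    ((Cfsg.Agent.S1417.result hG M hM q hq A ⟨hAM, hAe, hA2⟩).2.1 Q).1
  have hp2 : p ≠ 2 := Cfsg.Agent.Lib.Helper73_BG12.ne_two_of_mem_sigma hG hp
  have hLA : Cfsg.Agent.Lib.Helper73_BG12c.RankHyp G p := fun P₁ X₁ hP₁ hr hX₁ hXP =>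
    Cfsg.Agent.Lib.Helper97_RankCent.not_pRankLE_centralizer_of_le_commutator hp2 hP₁ hr hX₁ hXP
  have hLB : Cfsg.Agent.Lib.Helper73_BG12c.FocalHyp p := fun Y _ _ hY Q =>
    Cfsg.Agent.Lib.Helper73_Focal.inf_commutator_le_of_npc hY Q
  have hLC : Cfsg.Agent.Lib.Helper73_BG12c.IdealHyp G p := fun hI Q X₁ hX₁ hXQ =>
    Cfsg.Agent.Lib.Helper97_IdealCube.exists_elemAb_cube_centralizing hI Q hX₁ hXQ
  exact Cfsg.Agent.Lib.Helper73_BG12c.statement_S1423 hG hU h44 h12 h16 h17 hLA hLB hLC M hM hp X hXM hX P h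

end Cfsg.Agent.S1423
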