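-- PENDING (helper52): final statement file for S1418. Needs:
--   * Cfsg.Agent.Lib.Helper35_BG11z.h11 : H11 G   (helper35, sec.11; adjust module/name when landed)
--   * Cfsg.Agent.Lib.Helper49_BG124.false_of_centralizes   (helper49)
import Mathlib
import Cfsg.Statements.S1418
import Cfsg.Agent.S1403
import Cfsg.Agent.S1444
import Cfsg.Agent.Lib.Helper52_BG12d
import Cfsg.Agent.Lib.Helper35_BG11z
import Cfsg.Agent.Lib.Helper49_BG124

set_option autoImplicit false
open Cfsg

namespace Cfsg.Agent.S1418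

/-- Let G be a minimal simple group of odd order, M a maximal subgroup, E a complement to M_σ in M, p ∈ τ₂(M), and A ≤ E elementary abelian of order p ^ 2. Then A is normal in E and contains every subgroup of E of order p; C_G(A) ≤ M ∩ N_G(A) = E and N_G(A) is not contained in M; and for every subgroup X ≤ A of order p centralizing a non-identity element of M_σ, C_G(X) ≤ M and M is the unique maximal subgroup containing C_G(X). -/
theorem result {G : Type*} [Group G] [Finite G] (hG : Cfsg.IsMinSimpleOddOrder G)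
    (M : Subgroup G) (hM : IsCoatom M) (E : Subgroup G) (hE : Cfsg.IsComplIn E (Cfsg.sigmaCore M) M) (p : ℕ) [Fact p.Prime] (hp : p ∈ Cfsg.tau2 M) (A : Subgroup G) (hA : (A ≤ E ∧ Cfsg.IsElementaryAbelian p A ∧ Nat.card A = p ^ 2)) :
    (E ≤ Subgroup.normalizer (A : Set G) ∧ ∀ X : Subgroup G, X ≤ E → Nat.card X = p → X ≤ A) ∧
      (Subgroup.centralizer (A : Set G) ≤ M ⊓ Subgroup.normalizer (A : Set G) ∧ M ⊓ Subgroup.normalizer (A : Set G) = E ∧
        ¬ Subgroup.normalizer (A : Set G) ≤ M) ∧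
      ∀ X : Subgroup G, X ≤ A → Nat.card X = p → Cfsg.sigmaCore M ⊓ Subgroup.centralizer (X : Set G) ≠ ⊥ → (Subgroup.centralizer (X : Set G) ≤ M ∧ ∀ L : Subgroup G, IsCoatom L → Subgroup.centralizer (X : Set G) ≤ L → L = M) := by
  have hU : Cfsg.Agent.Lib.Helper49_Sigma.UniqHyp G := fun K hK h1 h3 => Cfsg.Agent.S1403.result hG K hK h1 h3
  have h44 : Cfsg.Agent.Lib.Helper70_BG106.H1444 := fun X _ _ _ hodd H R R₀ _ hHall hR hR₀ hR₀p hZ q _ =>
    Cfsg.Agent.S1444.result hodd H R R₀ hHall hR hR₀ hR₀p hZ q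
  have h11 : Cfsg.Agent.Lib.Helper52_BG12b.H11 G := Cfsg.Agent.Lib.Helper35_BG11z.h11 hG hU h44
  have h124 : Cfsg.Agent.Lib.Helper52_BG12c.H124 G := fun M hM p _ hp A hA hα hc =>
    Cfsg.Agent.Lib.Helper49_BG124.false_of_centralizes hG M hM p hp A hA hα hc
  exact Cfsg.Agent.Lib.Helper52_BG12d.cor126 hG hU h44 h11 h124 hM hE hp hA.1 hA.2.1 hA.2.2

end Cfsg.Agent.S1418
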