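import Cfsg.Statements.S1449
import Cfsg.Agent.Lib.Helper2_RankTwoAut
import Cfsg.Agent.Lib.Helper2_Coprime

set_option autoImplicit false
open Cfsg

namespace Cfsg.Agent.S1449

open Cfsg.Agent.Lib.Helper2_RankTwoAut Cfsg.Agent.Lib.Helper2_Coprime

/-- Let G be a finite group, p an odd prime, R a p-subgroup with no elementary abelian subgroup of order p ^ 3, and A a solvable subgroup of odd order normalizing R with A ∩ C_G(R) = 1. Then the derived subgroup [A, A] is a p-group. -/
theorem result {G : Type*} [Group G] [Finite G] (p : ℕ) [Fact p.Prime] (hp : p ≠ 2) (R A : Subgroup G) (hR : IsPGroup p R) (hr : Cfsg.PRankLE p 2 R)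
    (hA : (A ≤ Subgroup.normalizer (R : Set G))) (hAs : Group.IsSolvable A) (hAodd : Odd (Nat.card A)) (hfaith : A ⊓ Subgroup.centralizer (R : Set G) = ⊥) :
    IsPGroup p ↥⁅A, A⁆ := by
  set φ := conjAut R A hA with hφ
  have hinj : Function.Injective φ := by
    rw [injective_iff_map_eq_one]
    intro a ha
    have hmem : (a : G) ∈ A ⊓ Subgroup.centralizer (R : Set G) := by
      refine ⟨a.2, ?_⟩
      show (a : G) ∈ Subgroup.centralizer (R : Set G)
      rw [Subgroup.mem_centralizer_iff]
      intro r hr'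
      have h1 : φ a ⟨r, hr'⟩ = ⟨r, hr'⟩ := by rw [ha]; rfl
      have h2 := congrArg Subtype.val h1
      rw [hφ, conjAut_apply_coe] at h2
      calc r * (a : G) = ((a : G) * r * (a : G)⁻¹) * a := by rw [h2]
        _ = a * r := by group
    rw [hfaith, Subgroup.mem_bot] at hmem
    exact Subtype.ext hmem
  have hodd : Odd (Nat.card ↥φ.range) := by
    rw [← Nat.card_congr (MonoidHom.ofInjective hinj).toEquiv]
    exact hAodd
  have key := isPGroup_commutator_of_odd hp hR hr φ.range hodd
  intro x
  have hx : (x : G) ∈ (commutator ↥A).map A.subtype := by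
    rw [Subgroup.map_subtype_commutator]
    exact x.2
  obtain ⟨y, hy, hyx⟩ := hx
  have hφy : φ y ∈ ⁅φ.range, φ.range⁆ := by
    rw [MonoidHom.range_eq_map, ← Subgroup.map_commutator]
    exact Subgroup.mem_map_of_mem _ hy
  obtain ⟨k, hk⟩ := key ⟨_, hφy⟩
  refine ⟨k, ?_⟩
  have h1 : φ (y ^ p ^ k) = 1 := by
    rw [map_pow]
    have := congrArg Subtype.val hk
    simpa using this
  have h2 : y ^ p ^ k = 1 := hinj (by rw [h1, map_one])
  apply Subtype.ext
  rw [Subgroup.coe_pow, ← hyx]
  have := congrArg Subtype.val h2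
  simpa using this

end Cfsg.Agent.S1449
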