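import Cfsg.Statements.S1454
import Cfsg.Agent.Lib.Helper2_Narrow
import Cfsg.Agent.Lib.Helper2_Blackburn2
import Cfsg.Agent.Lib.Helper2_Coprime
import Cfsg.Agent.S1449
import Cfsg.Agent.S0640
-- import your own Cfsg.Agent.* helpers here

set_option autoImplicit false
open Cfsg

namespace Cfsg.Agent.S1454


open Cfsg.Agent.Lib.Helper2_Narrow Cfsg.Agent.Lib.Helper2_Coprime

open scoped commutatorElement

/-- Let G be a finite group, p an odd prime, R a narrow p-subgroup and A a solvable subgroup of odd order normalizing R with A ∩ C_G(R) = 1. Then [A, A] ≤ O_p(A) and the index of O_p(A) in A is coprime to p; if R has an elementary abelian subgroup of order p ^ 3 then the order of every element of A of order coprime to p divides p − 1; and if the order of A is a prime not dividing p(p − 1), then 2·#A divides p + 1, and if in addition [R, A] = R and R is non-abelian then #R = p ^ 3. -/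
theorem result {G : Type*} [Group G] [Finite G] (p : ℕ) [Fact p.Prime] (hp : p ≠ 2) (R A : Subgroup G) (hR : IsPGroup p R) (hRn : Cfsg.IsNarrow p R)
    (hA : (A ≤ Subgroup.normalizer (R : Set G))) (hAs : Group.IsSolvable A) (hAodd : Odd (Nat.card A)) (hfaith : A ⊓ Subgroup.centralizer (R : Set G) = ⊥) :
    (commutator ↥A ≤ Cfsg.pCore p ↥A ∧ ((Cfsg.pCore p ↥A).index).Coprime p) ∧
      (¬ Cfsg.PRankLE p 2 R → ∀ a ∈ A, (orderOf a).Coprime p → orderOf a ∣ p - 1) ∧
      ((Nat.card A).Prime → ¬ Nat.card A ∣ p * (p - 1) →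
        2 * Nat.card A ∣ p + 1 ∧ (⁅R, A⁆ = R → ¬ IsMulCommutative R → Nat.card R = p ^ 3)) := by
  have hpP : p.Prime := Fact.out
  set φ := conjAut R A hA with hφ
  have hinj : Function.Injective φ := by
    rw [injective_iff_map_eq_one]
    intro a ha
    have hmem : (a : G) ∈ A ⊓ Subgroup.centralizer (R : Set G) := by
      refine ⟨a.2, ?_⟩
      show (a : G) ∈ Subgroup.centralizer (R : Set G)
      rw [Subgroup.mem_centralizer_iff]
      intro r hr'
      have h1 : φ a ⟨r, hr'⟩ = ⟨r, hr'⟩ := by rw [ha]; rfl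
      have h2 := congrArg Subtype.val h1
      rw [hφ, conjAut_apply_coe] at h2
      calc r * (a : G) = ((a : G) * r * (a : G)⁻¹) * a := by rw [h2]
        _ = a * r := by group
    rw [hfaith, Subgroup.mem_bot] at hmem
    exact Subtype.ext hmem
  by_cases hrk : Cfsg.PRankLE p 2 R
  · -- rank at most two
    refine ⟨?_, fun h => absurd hrk h, ?_⟩
    · have hcp := Cfsg.Agent.S1449.result p hp R A hR hrk hA hAs hAodd hfaith
      have hcomP : IsPGroup p ↥(commutator ↥A) := by
        intro x
        have hx : ((x : ↥A) : G) ∈ ⁅A, A⁆ := by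
          rw [← Subgroup.map_subtype_commutator]
          exact ⟨x, x.2, rfl⟩
        obtain ⟨k, hk⟩ := hcp ⟨_, hx⟩
        refine ⟨k, ?_⟩
        apply Subtype.ext
        apply Subtype.ext
        have := congrArg Subtype.val hk
        simpa using this
      have hcomle : commutator ↥A ≤ Cfsg.pCore p ↥A :=
        Cfsg.Agent.Lib.Helper1_Cores.le_pCore inferInstance hcomP
      refine ⟨hcomle, ?_⟩
      obtain ⟨P⟩ : Nonempty (Sylow p ↥A) := inferInstance
      have hPle : Cfsg.pCore p ↥A ≤ P := Cfsg.Agent.Lib.Helper1_Cores.pCore_le_sylow p P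
      have hPn : (P : Subgroup ↥A).Normal := Subgroup.Normal.of_commutator_le (↥A) (hcomle.trans hPle)
      have hPle' : (P : Subgroup ↥A) ≤ Cfsg.pCore p ↥A :=
        Cfsg.Agent.Lib.Helper1_Cores.le_pCore hPn P.2
      have heq : Cfsg.pCore p ↥A = P := le_antisymm hPle hPle'
      rw [heq]
      exact ((Nat.Prime.coprime_iff_not_dvd hpP).mpr P.not_dvd_index).symm
    · intro hq hqp
      have hqp1 : ¬ Nat.card A ∣ p := fun h => hqp (Dvd.dvd.mul_right h _)
      have hqp2 : ¬ Nat.card A ∣ p - 1 := fun h => hqp (Dvd.dvd.mul_left h _)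
      have hqne : Nat.card A ≠ p := fun h => hqp1 (h ▸ dvd_rfl)
      refine ⟨?_, ?_⟩
      · have hdvd : Nat.card A ∣ Nat.card (MulAut ↥R) := by
          have h1 : Nat.card ↥φ.range = Nat.card ↥A :=
            (Nat.card_congr (MonoidHom.ofInjective hinj).toEquiv).symm
          rw [← h1]
          exact Subgroup.card_subgroup_dvd_card _
        obtain ⟨h1, -⟩ := Cfsg.Agent.S0640.result hp hR hrk (Nat.card A) hq hqne hdvd
        have h2 : p ^ 2 - 1 = (p - 1) * (p + 1) := by
          obtain ⟨m, rfl⟩ : ∃ m, p = m + 1 := ⟨p - 1, by have := hpP.one_lt; omega⟩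
          have h3 : (m + 1) ^ 2 - 1 = m * (m + 2) := by
            have : (m + 1) ^ 2 = m * (m + 2) + 1 := by ring
            omega
          rw [h3]
          simp
        rw [h2] at h1
        have h3 : Nat.card A ∣ p + 1 := ((Nat.Prime.dvd_mul hq).mp h1).resolve_left hqp2
        have h4 : 2 ∣ p + 1 := by
          obtain ⟨m, hm⟩ := hpP.odd_of_ne_two hp
          omega
        have h5 : Nat.Coprime 2 (Nat.card A) := Nat.coprime_two_left.mpr hAodd
        exact Nat.Coprime.mul_dvd_of_dvd_of_dvd h5 h4 h3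
      · intro hRA hnc
        have hnc' : ¬ ∀ a b : ↥R, a * b = b * a := fun h => hnc ⟨⟨h⟩⟩
        have hfix : Subgroup.closure {x : ↥R | ∃ (γ : ↥A) (g : ↥R), x = φ γ g * g⁻¹} = ⊤ := by
          rw [eq_top_iff]
          have hle : ⁅R, A⁆ ≤
              (Subgroup.closure {x : ↥R | ∃ (γ : ↥A) (g : ↥R), x = φ γ g * g⁻¹}).map R.subtype := by
            rw [Subgroup.commutator_le]
            intro g hg a ha
            have h1 : ⁅g, a⁆ = (⁅a, g⁆)⁻¹ := (commutatorElement_inv a g).symm
            rw [h1]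
            apply Subgroup.inv_mem
            refine ⟨φ ⟨a, ha⟩ ⟨g, hg⟩ * (⟨g, hg⟩ : ↥R)⁻¹,
              Subgroup.subset_closure ⟨⟨a, ha⟩, ⟨g, hg⟩, rfl⟩, ?_⟩
            rw [commutatorElement_def]
            rfl
          rw [hRA] at hle
          intro x _
          obtain ⟨y, hy, hyx⟩ := hle x.2
          have : y = x := Subtype.ext hyx
          rw [← this]
          exact hy
        exact Cfsg.Agent.Lib.Helper2_Blackburn.card_eq_cube_of_prime_action hp hR hrk hnc' hAodd hq
          hqp φ hfix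
  · -- rank at least three
    obtain ⟨g, R₁, hN⟩ := exists_nData_of_isNarrow hR hRn hrk
    obtain ⟨S, hSn, hS1, hS2, hS3⟩ := hN.exists_stab hp
    obtain ⟨h1, h2, h3⟩ := aut_structure_of_stab φ hinj S hSn hS1 hS2 hS3
    have h3' : ∀ a ∈ A, (orderOf a).Coprime p → orderOf a ∣ p - 1 := by
      intro a ha hcop
      have := h3 ⟨a, ha⟩ (by rwa [Subgroup.orderOf_mk])
      rwa [Subgroup.orderOf_mk] at this
    refine ⟨⟨h1, h2⟩, fun _ => h3', ?_⟩
    intro hq hqp
    exfalso
    have : Fact (Nat.card ↥A).Prime := ⟨hq⟩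
    obtain ⟨b, hb⟩ := exists_prime_orderOf_dvd_card' (G := ↥A) (Nat.card ↥A) dvd_rfl
    have hqp1 : ¬ Nat.card A ∣ p := fun h => hqp (Dvd.dvd.mul_right h _)
    have hqne : Nat.card A ≠ p := fun h => hqp1 (h ▸ dvd_rfl)
    have hcop : (orderOf b).Coprime p := by
      rw [hb]
      exact (Nat.coprime_primes hq hpP).mpr hqne
    have h4 := h3 b hcop
    rw [hb] at h4
    exact hqp (Dvd.dvd.mul_left h4 _)

end Cfsg.Agent.S1454
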