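import Cfsg.Statements.S0039
import Cfsg.Agent.Lib.Helper71_Frobenius

set_option autoImplicit false
open Cfsg
open scoped Pointwise

namespace Cfsg.Agent.S0039

open Cfsg.Agent.Lib.Helper71_Frobenius

/-- In a finite group that is a semidirect product of a normal subgroup K by a nontrivial subgroup H, H is a Frobenius complement exactly when each nonidentity element of H acts without nonidentity fixed points on K by conjugation. -/
theorem result {G : Type*} [Group G] [Finite G] (K H : Subgroup G) [K.Normal]
    (hc : Subgroup.IsComplement' K H) (hK : K ≠ ⊥) (hH : H ≠ ⊥) :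
    Cfsg.IsFrobeniusComplement H ↔ ∀ h ∈ H, h ≠ 1 → K ⊓ Subgroup.centralizer {h} = ⊥ := by
  have hKn : K.Normal := inferInstance
  have hdisj : K ⊓ H = ⊥ := hc.disjoint.eq_bot
  have hsup : K ⊔ H = ⊤ := hc.sup_eq_top
  constructor
  · intro hF h hh h1
    rw [eq_bot_iff]
    intro k hk
    rw [Subgroup.mem_inf, Subgroup.mem_centralizer_iff] at hk
    obtain ⟨hkK, hkc⟩ := hk
    have hkh : h * k = k * h := hkc h rfl
    rw [Subgroup.mem_bot]
    by_contra hk1
    have hkH : k ∉ H := by
      intro hkH
      have : k ∈ K ⊓ H := Subgroup.mem_inf.mpr ⟨hkK, hkH⟩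
      rw [hdisj, Subgroup.mem_bot] at this
      exact hk1 this
    have h3 := hF.2.2 k hkH
    have hmem : h ∈ H ⊓ MulAut.conj k • H := by
      refine Subgroup.mem_inf.mpr ⟨hh, ?_⟩
      rw [mem_conj_smul]
      have : k⁻¹ * h * k = h := by
        rw [mul_assoc, hkh, ← mul_assoc, inv_mul_cancel, one_mul]
      rw [this]; exact hh
    rw [h3, Subgroup.mem_bot] at hmem
    exact h1 hmem
  · intro hfix
    refine ⟨hH, ?_, ?_⟩
    · intro htop
      apply hK
      rw [← hdisj, htop, inf_top_eq]
    · intro g hg
      rw [eq_bot_iff]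
      intro x hx
      rw [Subgroup.mem_inf, mem_conj_smul] at hx
      obtain ⟨hxH, hxg⟩ := hx
      rw [Subgroup.mem_bot]
      -- write g = k * h'
      have hgmem : g ∈ K ⊔ H := hsup ▸ Subgroup.mem_top g
      rw [Subgroup.mem_sup_of_normal_left] at hgmem
      obtain ⟨k, hk, h', hh', rfl⟩ := hgmem
      have hk1 : k ≠ 1 := by
        rintro rfl
        apply hg
        simpa using hh'
      -- y := k⁻¹ x k ∈ H
      have hy : k⁻¹ * x * k ∈ H := by
        have h1 : k⁻¹ * x * k = h' * ((k * h')⁻¹ * x * (k * h')) * h'⁻¹ := by group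
        rw [h1]
        exact H.mul_mem (H.mul_mem hh' hxg) (H.inv_mem hh')
      -- x * y⁻¹ ∈ K ⊓ H
      set y := k⁻¹ * x * k with hy_def
      have hxy : x * y⁻¹ ∈ K ⊓ H := by
        refine Subgroup.mem_inf.mpr ⟨?_, H.mul_mem hxH (H.inv_mem hy)⟩
        have h1 : x * y⁻¹ = (x * k⁻¹ * x⁻¹) * k := by
          rw [hy_def]; group
        rw [h1]
        exact K.mul_mem (hKn.conj_mem _ (K.inv_mem hk) x) hk
      rw [hdisj, Subgroup.mem_bot] at hxy
      have hxy' : x = y := by
        have := mul_inv_eq_one.mp hxy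
        exact this
      -- so k commutes with x
      have hcomm : x * k = k * x := by
        have h1 : k * y = x * k := by rw [hy_def]; group
        rw [← h1, ← hxy']
      by_contra hx1
      have := hfix x hxH hx1
      have hkmem : k ∈ K ⊓ Subgroup.centralizer {x} := by
        refine Subgroup.mem_inf.mpr ⟨hk, ?_⟩
        rw [Subgroup.mem_centralizer_iff]
        intro z hz
        rw [Set.mem_singleton_iff] at hz
        rw [hz]; exact hcomm
      rw [this, Subgroup.mem_bot] at hkmem
      exact hk1 hkmem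

end Cfsg.Agent.S0039
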