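import Cfsg.Statements.S1387

set_option autoImplicit false
open Cfsg

namespace Cfsg.Agent.S1387

/-- Order of a join with a normal subgroup. -/
theorem card_sup_eq {G : Type*} [Group G] (K N : Subgroup G) [K.Normal] :
    Nat.card ↥(K ⊔ N) = Nat.card K * K.relIndex N := by
  have h := Subgroup.relIndex_mul_relIndex (⊥ : Subgroup G) K (K ⊔ N) bot_le le_sup_left
  rw [Subgroup.relIndex_bot_left, Subgroup.relIndex_bot_left, Subgroup.relIndex_sup_left] at h
  exact h.symm

/-- The join of a family of normal `π`-subgroups of a finite group is a `π`-group. -/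
theorem piGroup_sSup {G : Type*} [Group G] [Finite G] (π : Set ℕ) (S : Set (Subgroup G))
    (h : ∀ N ∈ S, N.Normal ∧ ∀ p : ℕ, p.Prime → p ∣ Nat.card N → p ∈ π) :
    (sSup S : Subgroup G).Normal ∧ ∀ p : ℕ, p.Prime → p ∣ Nat.card (sSup S : Subgroup G) → p ∈ π := by
  have hfin : S.Finite := Set.toFinite S
  induction S, hfin using Set.Finite.induction_on with
  | empty =>
    rw [sSup_empty]
    refine ⟨inferInstance, ?_⟩
    intro p hp hdvd
    rw [Subgroup.card_bot] at hdvd
    exact absurd (Nat.le_of_dvd one_pos hdvd) (not_le.mpr hp.one_lt)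
  | @insert a s _ _ ih =>
    have hs := ih (fun N hN => h N (Set.mem_insert_of_mem a hN))
    have ha := h a (Set.mem_insert a s)
    rw [sSup_insert]
    have := ha.1
    have := hs.1
    refine ⟨inferInstance, ?_⟩
    intro p hp hdvd
    rw [card_sup_eq] at hdvd
    rcases (Nat.Prime.dvd_mul hp).mp hdvd with h1 | h1
    · exact ha.2 p hp h1
    · exact hs.2 p hp (dvd_trans h1 (Subgroup.relIndex_dvd_card _ _))

/-- In a finite group, `fittingHall` has order coprime to its index. -/
theorem fittingHall_coprime (M : Type*) [Group M] [Finite M] :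
    (Nat.card (fittingHall M)).Coprime (fittingHall M).index := by
  by_contra hcon
  obtain ⟨q, hq, hq1, hq2⟩ := Nat.Prime.not_coprime_iff_dvd.mp hcon
  set S : Set (Subgroup M) :=
    {N : Subgroup M | N.Normal ∧ Group.IsNilpotent N ∧ (Nat.card N).Coprime N.index} with hS
  have key := piGroup_sSup {p | ∃ N ∈ S, p ∣ Nat.card N} S (by
    intro N hN
    exact ⟨hN.1, fun p _ hdvd => ⟨N, hN, hdvd⟩⟩)
  obtain ⟨N, hN, hqN⟩ := key.2 q hq hq1
  have hle : N ≤ fittingHall M := le_sSup hN
  have h3 : q ∣ N.index := dvd_trans hq2 (Subgroup.index_dvd_of_le hle)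
  exact Nat.Prime.not_coprime_iff_dvd.mpr ⟨q, hq, hqN, h3⟩ hN.2.2

theorem result {G : Type*} [Group G] [Finite G] (M W₁ U W₂ : Subgroup G) (hP : Cfsg.IsTypePWith M W₁ U W₂) :
    Cfsg.fittingOf M = Cfsg.fittingHallOf M ⊔ (U ⊓ Subgroup.centralizer (Cfsg.fittingHallOf M : Set G)) := by
  obtain ⟨hHM', hUM', hHU, hdec⟩ := hP.U_compl
  obtain ⟨hM'M, _, _, _⟩ := hP.W₁_compl
  have hUM : U ≤ M := hUM'.trans hM'M
  -- coprimality of |H| and |U|
  have hcop : (Nat.card (fittingHallOf M)).Coprime (Nat.card U) := by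
    have h1 : Nat.card (fittingHallOf M) = Nat.card (fittingHall M) := by
      unfold fittingHallOf
      exact (Nat.card_congr ((fittingHall ↥M).equivMapOfInjective M.subtype
        M.subtype_injective).toEquiv).symm
    have h2 : Nat.card (U.subgroupOf M) = Nat.card U :=
      Nat.card_congr (Subgroup.subgroupOfEquivOfLe hUM).toEquiv
    have h3 : fittingHall ↥M ⊓ U.subgroupOf M = ⊥ := by
      rw [eq_bot_iff]
      intro x hx
      obtain ⟨hx1, hx2⟩ := Subgroup.mem_inf.mp hx
      rw [Subgroup.mem_subgroupOf] at hx2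
      have hx3 : (x : G) ∈ fittingHallOf M ⊓ U := by
        refine Subgroup.mem_inf.mpr ⟨?_, hx2⟩
        exact Subgroup.mem_map.mpr ⟨x, hx1, rfl⟩
      rw [hHU, Subgroup.mem_bot] at hx3
      rw [Subgroup.mem_bot]
      exact Subtype.ext hx3
    have h4 : (fittingHall ↥M).relIndex (U.subgroupOf M) = Nat.card (U.subgroupOf M) := by
      rw [← Subgroup.inf_relIndex_right, h3, Subgroup.relIndex_bot_left]
    have h5 : Nat.card U ∣ (fittingHall ↥M).index := by
      rw [← h2, ← h4]
      exact Subgroup.relIndex_dvd_index_of_normal _ _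
    rw [h1]
    exact Nat.Coprime.coprime_dvd_right h5 (fittingHall_coprime ↥M)
  rw [← hP.fitting_eq]
  apply le_antisymm
  · apply sup_le le_sup_left
    intro c hc
    have hcF : c ∈ fittingOf M := by
      rw [← hP.fitting_eq]
      exact Subgroup.mem_sup_right hc
    obtain ⟨h, hh, u, hu, hchu⟩ := hdec c (hP.fitting_le hcF)
    obtain ⟨hcM, hcC⟩ := Subgroup.mem_inf.mp hc
    rw [Subgroup.mem_centralizer_iff] at hcC
    -- conjugation by u on H equals conjugation by h⁻¹
    have hconj : ∀ y ∈ fittingHallOf M, u * y * u⁻¹ = h⁻¹ * y * h := by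
      intro y hy
      have hu_eq : u = h⁻¹ * c := by rw [hchu]; group
      have hcy : c * y * c⁻¹ = y := by
        rw [← hcC y hy]; group
      calc u * y * u⁻¹ = h⁻¹ * (c * y * c⁻¹) * h := by rw [hu_eq]; group
        _ = h⁻¹ * y * h := by rw [hcy]
    have hconj_pow : ∀ k : ℕ, ∀ y ∈ fittingHallOf M, u ^ k * y * (u ^ k)⁻¹ = (h ^ k)⁻¹ * y * h ^ k := by
      intro k
      induction k with
      | zero => intro y _; simp
      | succ k ih =>
        intro y hy
        have hy' : u * y * u⁻¹ ∈ fittingHallOf M := by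
          rw [hconj y hy]
          exact mul_mem (mul_mem (inv_mem hh) hy) hh
        calc u ^ (k + 1) * y * (u ^ (k + 1))⁻¹ = u ^ k * (u * y * u⁻¹) * (u ^ k)⁻¹ := by
              rw [pow_succ]; group
          _ = (h ^ k)⁻¹ * (u * y * u⁻¹) * h ^ k := ih _ hy'
          _ = (h ^ k)⁻¹ * (h⁻¹ * y * h) * h ^ k := by rw [hconj y hy]
          _ = (h ^ (k + 1))⁻¹ * y * h ^ (k + 1) := by rw [pow_succ]; group
    have hun : u ^ Nat.card U = 1 := by
      have : (⟨u, hu⟩ : U) ^ Nat.card U = 1 := pow_card_eq_one'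
      exact congrArg Subtype.val this
    have hhn_comm : ∀ y ∈ fittingHallOf M, h ^ Nat.card U * y = y * h ^ Nat.card U := by
      intro y hy
      have := hconj_pow (Nat.card U) y hy
      rw [hun] at this
      simp only [one_mul, inv_one, mul_one] at this
      calc h ^ Nat.card U * y = h ^ Nat.card U * ((h ^ Nat.card U)⁻¹ * y * h ^ Nat.card U) := by
            rw [← this]
        _ = y * h ^ Nat.card U := by group
    have hord : orderOf h ∣ Nat.card (fittingHallOf M) := by
      have : (⟨h, hh⟩ : fittingHallOf M) ^ Nat.card (fittingHallOf M) = 1 := pow_card_eq_one'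
      exact orderOf_dvd_of_pow_eq_one (congrArg Subtype.val this)
    have hcop' : (Nat.card U).Coprime (orderOf h) :=
      (Nat.Coprime.coprime_dvd_left hord hcop).symm
    obtain ⟨m, hm⟩ := exists_pow_eq_self_of_coprime hcop'
    have hh_comm : ∀ y ∈ fittingHallOf M, h * y = y * h := by
      intro y hy
      have hc : Commute (h ^ Nat.card U) y := hhn_comm y hy
      have := (hc.pow_left m).eq
      rw [hm] at this
      exact this
    have huC : u ∈ Subgroup.centralizer (fittingHallOf M : Set G) := by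
      rw [Subgroup.mem_centralizer_iff]
      intro y hy
      have h1 := hconj y hy
      have h2 : h⁻¹ * y * h = y := by rw [mul_assoc, ← hh_comm y hy]; group
      rw [h2] at h1
      calc y * u = (u * y * u⁻¹) * u := by rw [h1]
        _ = u * y := by group
    rw [hchu]
    exact mul_mem (Subgroup.mem_sup_left hh) (Subgroup.mem_sup_right (Subgroup.mem_inf.mpr ⟨hu, huC⟩))
  · apply sup_le le_sup_left
    refine le_trans ?_ le_sup_right
    exact inf_le_inf_right _ hUM

end Cfsg.Agent.S1387
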