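import Cfsg.Statements.S1474
import Cfsg.Agent.Lib.Helper25_CNFrob
import Cfsg.Agent.Lib.Helper1_Cores
import Cfsg.Agent.Lib.Helper32_PGroup
import Cfsg.Agent.S0039
import Cfsg.Agent.S1387
import Cfsg.Agent.S3937

set_option autoImplicit false
set_option linter.style.haveILetI false
open Cfsg

namespace Cfsg.Agent.S1474

open Cfsg.Agent.Lib.Helper25_CN Cfsg.Agent.Lib.Helper25_CNFrob Cfsg.Agent.Lib.Helper32_Nilpotent

variable {G : Type*} [Group G]

/-- Subgroups of CN-groups are CN-groups. -/
theorem cn_subgroup (hCN : Cfsg.IsCNGroup G) (H : Subgroup G) : Cfsg.IsCNGroup ↥H := by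
  intro x hx
  have hx' : (x : G) ≠ 1 := fun h => hx (Subtype.ext h)
  have hnil := hCN (x : G) hx'
  have hle : (Subgroup.centralizer ({x} : Set H)).map H.subtype ≤
      Subgroup.centralizer ({(x : G)} : Set G) := by
    rintro _ ⟨c, hc, rfl⟩
    rw [SetLike.mem_coe, Subgroup.mem_centralizer_singleton_iff] at hc
    rw [Subgroup.mem_centralizer_singleton_iff]
    exact congrArg Subtype.val hc
  have h1 := Cfsg.Agent.S3937.nilpotent_of_le hle hnil
  exact (Group.isNilpotent_congr ((Subgroup.centralizer ({x} : Set H)).equivMapOfInjective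
    H.subtype H.subtype_injective)).mpr h1

/-- A group acting fixed-point-freely on a nontrivial abelian group has property (C). -/
theorem propC_of_fpf [Finite G] (E V : Subgroup G) [IsMulCommutative V] (hV : V ≠ ⊥)
    (hEV : E ≤ Subgroup.normalizer (V : Set G))
    (hfpf : ∀ e ∈ E, e ≠ 1 → V ⊓ Subgroup.centralizer {e} = ⊥) : PropC ↥E := by
  constructor
  · intro q _ P B1 B2 hP hB1 hB2 h1 h2
    have key := Cfsg.Agent.Lib.Helper1_FPF.unique_subgroup_card_prime V E hEV hV hfpf (p := q)
      (P.map E.subtype) (Subgroup.map_subtype_le P) (hP.map E.subtype) (B1.map E.subtype)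
      (B2.map E.subtype) (Subgroup.map_mono hB1) (Subgroup.map_mono hB2)
      (by rw [Subgroup.card_map_of_injective E.subtype_injective]; exact h1)
      (by rw [Subgroup.card_map_of_injective E.subtype_injective]; exact h2)
    exact Subgroup.map_injective E.subtype_injective key
  · intro A p q hp hq hA
    have key := Cfsg.Agent.Lib.Helper1_FPF.isCyclic_of_fpf_of_card (A.map E.subtype) V hV
      (le_trans (Subgroup.map_subtype_le A) hEV)
      (fun a ha => hfpf a (Subgroup.map_subtype_le A ha)) hp hq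
      (by rw [Subgroup.card_map_of_injective E.subtype_injective]; exact hA)
    exact (A.equivMapOfInjective E.subtype E.subtype_injective).isCyclic.mpr key

theorem fittingHall_le_fitting : fittingHall G ≤ fittingSubgroup G := by
  apply sSup_le
  intro N hN
  exact le_sSup ⟨hN.1, hN.2.1⟩

theorem fittingHall_nilpotent [Finite G] : Group.IsNilpotent (fittingHall G) :=
  Cfsg.Agent.S3937.nilpotent_of_le fittingHall_le_fitting
    Cfsg.Agent.Lib.Helper1_Cores.fittingSubgroup_isNilpotent

theorem sylow_le_fittingHall [Finite G] (p : ℕ) [Fact p.Prime] (P : Sylow p G)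
    (hP : (P : Subgroup G).Normal) : (P : Subgroup G) ≤ fittingHall G := by
  apply le_sSup
  exact ⟨hP, P.2.isNilpotent, P.card_coprime_index⟩

theorem pow_card_mem {A : Subgroup G} {a : G} (ha : a ∈ A) : a ^ Nat.card A = 1 := by
  have : (⟨a, ha⟩ : A) ^ Nat.card A = 1 := pow_card_eq_one'
  exact congrArg Subtype.val this

/-- Coprime-order elements of a nilpotent subgroup commute. -/
theorem commute_in_nilpotent (C : Subgroup G) (hC : Group.IsNilpotent C) (a b : G) (ha : a ∈ C)
    (hb : b ∈ C) (m n : ℕ) (ham : a ^ m = 1) (hbn : b ^ n = 1) (hmn : m.Coprime n) :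
    a * b = b * a := by
  haveI := hC
  have hc : Commute (⟨a, ha⟩ : C) ⟨b, hb⟩ := by
    apply commute_of_coprime_pow_eq_one C _ _ m n
    · apply Subtype.ext; simpa using ham
    · apply Subtype.ext; simpa using hbn
    · exact hmn
  exact congrArg Subtype.val hc.eq

/-- The complement acts fixed-point-freely on `fittingHall G`. -/
theorem fpf_of_complement [Finite G] (hCN : Cfsg.IsCNGroup G) (p : ℕ) [hp : Fact p.Prime]
    (P : Sylow p G) (hP1 : (P : Subgroup G) ≠ ⊥) (hPn : (P : Subgroup G).Normal)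
    (E : Subgroup G) (hc : Subgroup.IsComplement' (fittingHall G) E) :
    ∀ e ∈ E, e ≠ 1 → fittingHall G ⊓ Subgroup.centralizer ({e} : Set G) = ⊥ := by
  intro e heE he1
  rw [eq_bot_iff]
  intro f hf
  rw [Subgroup.mem_bot]
  by_contra hf1
  obtain ⟨hfF, hfe⟩ := Subgroup.mem_inf.mp hf
  rw [Subgroup.mem_centralizer_singleton_iff] at hfe
  set F := fittingHall G with hF
  have hFnil : Group.IsNilpotent F := fittingHall_nilpotent
  have hPF : (P : Subgroup G) ≤ F := sylow_le_fittingHall p P hPn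
  have hidx : F.index = Nat.card E := hc.symm.index_eq_card
  have hcop : (Nat.card F).Coprime (Nat.card E) := by
    rw [← hidx]; exact Cfsg.Agent.S1387.fittingHall_coprime G
  -- a nontrivial central element of `F`
  haveI : Nontrivial F := ⟨⟨⟨f, hfF⟩, 1, fun h => hf1 (congrArg Subtype.val h)⟩⟩
  haveI := hFnil
  have hcen := Group.IsNilpotent.center_ne_bot (G := F)
  obtain ⟨⟨z, hzc⟩, hz1⟩ := (Subgroup.ne_bot_iff_exists_ne_one).mp hcen
  have hz1' : (z : G) ≠ 1 := by
    intro h
    apply hz1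
    apply Subtype.ext
    apply Subtype.ext
    simpa using h
  have hzcomm : ∀ x ∈ F, (z : G) * x = x * (z : G) := by
    intro x hx
    have h1 := Subgroup.mem_center_iff.mp hzc ⟨x, hx⟩
    exact (congrArg Subtype.val h1).symm
  -- `e` commutes with `z`
  have hez : e * z = z * e := by
    apply commute_in_nilpotent _ (hCN f hf1) e z _ _ (Nat.card E) (Nat.card F) (pow_card_mem heE)
      (pow_card_mem z.2) hcop.symm
    · rw [Subgroup.mem_centralizer_singleton_iff]; exact hfe.symm
    · rw [Subgroup.mem_centralizer_singleton_iff]; exact hzcomm f hfF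
  -- `e` centralizes `F`
  have heF : ∀ x ∈ F, e * x = x * e := by
    intro x hx
    apply commute_in_nilpotent _ (hCN z hz1') e x _ _ (Nat.card E) (Nat.card F) (pow_card_mem heE)
      (pow_card_mem hx) hcop.symm
    · rw [Subgroup.mem_centralizer_singleton_iff]; exact hez
    · rw [Subgroup.mem_centralizer_singleton_iff]; exact (hzcomm x hx).symm
  -- pass to an element of prime order
  obtain ⟨k, hk⟩ := exists_prime_pow e he1
  set e₁ := e ^ k with he₁
  set r := orderOf e₁ with hr
  haveI : Fact r.Prime := ⟨hk⟩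
  have he₁E : e₁ ∈ E := pow_mem heE k
  have he₁1 : e₁ ≠ 1 := ne_one_of_prime_order e₁ hk
  have he₁F : ∀ x ∈ F, e₁ * x = x * e₁ := by
    intro x hx
    exact ((Commute.pow_left (heF x hx) k)).eq
  have hrE : r ∣ Nat.card E := Subgroup.orderOf_dvd_natCard E he₁E
  have hpP : p ∣ Nat.card (P : Subgroup G) := by
    have hnt : Nontrivial (P : Subgroup G) := (Subgroup.nontrivial_iff_ne_bot _).mpr hP1
    rcases P.2.card_eq_or_dvd with h | h
    · exact absurd h (Finite.one_lt_card (α := (P : Subgroup G))).ne'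
    · exact h
  have hpF : p ∣ Nat.card F := dvd_trans hpP (Subgroup.card_dvd_of_le hPF)
  have hrp : r ≠ p := by
    intro h
    have h1 : Nat.Coprime p r := (Nat.Coprime.coprime_dvd_left hpF hcop).coprime_dvd_right hrE
    rw [h] at h1
    exact hp.out.ne_one ((Nat.coprime_self p).mp h1)
  -- the centralizer of `P`
  haveI := hPn
  set N := Subgroup.centralizer ((P : Subgroup G) : Set G) with hN
  haveI hNn : N.Normal := Subgroup.normal_centralizer
  have hNnil : Group.IsNilpotent N := by
    haveI : Nontrivial (P : Subgroup G) := (Subgroup.nontrivial_iff_ne_bot _).mpr hP1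
    have hcenP := P.2.center_nontrivial
    obtain ⟨z₀, hz₀⟩ := exists_ne (1 : Subgroup.center (P : Subgroup G))
    have hz₀1 : ((z₀ : (P : Subgroup G)) : G) ≠ 1 := by
      intro h
      apply hz₀
      apply Subtype.ext
      apply Subtype.ext
      simpa using h
    refine Cfsg.Agent.S3937.nilpotent_of_le ?_ (hCN _ hz₀1)
    apply Subgroup.centralizer_le
    rw [Set.singleton_subset_iff]
    exact (z₀ : (P : Subgroup G)).2
  obtain ⟨T, hTN, hTr, hT⟩ := exists_qPart N hNnil r
  have he₁N : e₁ ∈ N := by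
    rw [hN, Subgroup.mem_centralizer_iff]
    intro x hx
    exact (he₁F x (hPF hx)).symm
  have hpow1 : e₁ ^ r ^ 1 = 1 := pow_orderOf_eq e₁ r rfl
  have he₁T : e₁ ∈ T := hT e₁ he₁N ⟨1, hpow1⟩
  have hTnormal : T.Normal := by
    constructor
    intro t ht g
    apply hT _ (hNn.conj_mem t (hTN ht) g)
    obtain ⟨j, hj⟩ := hTr ⟨t, ht⟩
    refine ⟨j, ?_⟩
    have hj' : t ^ r ^ j = 1 := by simpa using congrArg Subtype.val hj
    rw [conj_pow, hj']
    group
  obtain ⟨R, hTR⟩ := hTr.exists_le_sylow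
  -- a nontrivial element of `T` central in `R`
  have hTR1 : T.subgroupOf R ≠ ⊥ := by
    intro h
    have : (⟨e₁, hTR he₁T⟩ : (R : Subgroup G)) ∈ T.subgroupOf R := by
      rw [Subgroup.mem_subgroupOf]; exact he₁T
    rw [h, Subgroup.mem_bot] at this
    exact he₁1 (congrArg Subtype.val this)
  haveI : (T.subgroupOf R).Normal := hTnormal.subgroupOf R
  obtain ⟨w, hwT, hwc, hw1⟩ :=
    Cfsg.Agent.Lib.Helper32_PGroup.exists_mem_center_of_normal R.2 (T.subgroupOf R) hTR1
  rw [Subgroup.mem_subgroupOf] at hwT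
  have hw1' : (w : G) ≠ 1 := fun h => hw1 (Subtype.ext h)
  have hwR : ∀ s ∈ R, (w : G) * s = s * (w : G) := by
    intro s hs
    have h1 := Subgroup.mem_center_iff.mp hwc ⟨s, hs⟩
    exact (congrArg Subtype.val h1).symm
  have hwP : ∀ x ∈ P, x * (w : G) = (w : G) * x := by
    intro x hx
    have := hTN hwT
    rw [hN, Subgroup.mem_centralizer_iff] at this
    exact this x hx
  -- `R` centralizes `P`
  have hRN : (R : Subgroup G) ≤ N := by
    intro s hs
    rw [hN, Subgroup.mem_centralizer_iff]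
    intro x hx
    obtain ⟨i, hi⟩ := R.2 ⟨s, hs⟩
    obtain ⟨j, hj⟩ := P.2 ⟨x, hx⟩
    have hi' : s ^ r ^ i = 1 := by simpa using congrArg Subtype.val hi
    have hj' : x ^ p ^ j = 1 := by simpa using congrArg Subtype.val hj
    apply commute_in_nilpotent _ (hCN _ hw1') x s _ _ (p ^ j) (r ^ i) hj' hi'
      (Nat.Coprime.pow _ _ ((Nat.coprime_primes hp.out hk).mpr (Ne.symm hrp)))
    · rw [Subgroup.mem_centralizer_singleton_iff]; exact hwP x hx
    · rw [Subgroup.mem_centralizer_singleton_iff]; exact (hwR s hs).symm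
  have hRT : (R : Subgroup G) ≤ T := by
    intro s hs
    obtain ⟨i, hi⟩ := R.2 ⟨s, hs⟩
    have hi' : s ^ r ^ i = 1 := by simpa using congrArg Subtype.val hi
    exact hT s (hRN hs) ⟨i, hi'⟩
  have hReq : (R : Subgroup G) = T := le_antisymm hRT hTR
  have hRn : (R : Subgroup G).Normal := hReq ▸ hTnormal
  have hRF : (R : Subgroup G) ≤ F := sylow_le_fittingHall r R hRn
  have he₁F' : e₁ ∈ F := hRF (hTR he₁T)
  have : e₁ ∈ F ⊓ E := Subgroup.mem_inf.mpr ⟨he₁F', he₁E⟩
  rw [hc.disjoint.eq_bot, Subgroup.mem_bot] at this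
  exact he₁1 this

theorem result {G : Type*} [Group G] [Finite G] (hCN : Cfsg.IsCNGroup G) (hnn : ¬ Group.IsNilpotent G) (p : ℕ) [Fact p.Prime] (P : Sylow p G)
    (hP1 : (P : Subgroup G) ≠ ⊥) (hPn : (P : Subgroup G).Normal) :
    Cfsg.fittingHall G ≠ ⊥ ∧ Cfsg.fittingHall G ≠ ⊤ ∧
      (∃ E : Subgroup G, Subgroup.IsComplement' (Cfsg.fittingHall G) E ∧ Cfsg.IsFrobeniusComplement E ∧
        ∀ e ∈ E, e ≠ 1 → Cfsg.fittingHall G ⊓ Subgroup.centralizer ({e} : Set G) = ⊥) ∧
      Group.IsNilpotent (G ⧸ Cfsg.fittingHall G) := by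
  set F := fittingHall G with hF
  have hFnil : Group.IsNilpotent F := fittingHall_nilpotent
  have hPF : (P : Subgroup G) ≤ F := sylow_le_fittingHall p P hPn
  have hFbot : F ≠ ⊥ := by
    intro h
    apply hP1
    rw [eq_bot_iff, ← h]
    exact hPF
  have hFtop : F ≠ ⊤ := by
    intro h
    apply hnn
    rw [h] at hFnil
    exact Group.isNilpotent_top.mp hFnil
  obtain ⟨E, hc⟩ := Subgroup.exists_right_complement'_of_coprime
    (Cfsg.Agent.S1387.fittingHall_coprime G)
  have hfpf := fpf_of_complement hCN p P hP1 hPn E hc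
  have hEbot : E ≠ ⊥ := by
    intro h
    rw [h] at hc
    exact hFtop (Subgroup.isComplement'_bot_right.mp hc)
  have hfrob : IsFrobeniusComplement E :=
    (Cfsg.Agent.S0039.result F E hc hFbot hEbot).mpr hfpf
  refine ⟨hFbot, hFtop, ⟨E, hc, hfrob, hfpf⟩, ?_⟩
  -- `E` is nilpotent
  set V : Subgroup G := (Subgroup.center F).map F.subtype with hV
  have hVF : V ≤ F := Subgroup.map_subtype_le _
  haveI : Nontrivial F := (Subgroup.nontrivial_iff_ne_bot _).mpr hFbot
  haveI := hFnil
  have hVbot : V ≠ ⊥ := by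
    intro h
    have := Group.IsNilpotent.center_ne_bot (G := F)
    apply this
    rw [hV] at h
    exact (Subgroup.map_eq_bot_iff_of_injective _ F.subtype_injective).mp h
  haveI hVn : V.Normal := ConjAct.normal_of_characteristic_of_normal
  have hEV : E ≤ Subgroup.normalizer (V : Set G) := by
    rw [Subgroup.normalizer_eq_top]
    exact le_top
  have hfpfV : ∀ e ∈ E, e ≠ 1 → V ⊓ Subgroup.centralizer {e} = ⊥ := by
    intro e he he1
    rw [eq_bot_iff, ← hfpf e he he1]
    exact inf_le_inf_right _ hVF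
  have hC : PropC ↥E := propC_of_fpf E V hVbot hEV hfpfV
  have hEnil : Group.IsNilpotent E := isNilpotent_of_CN_PropC (cn_subgroup hCN E) hC
  -- transfer to the quotient
  haveI := hEnil
  let φ : E →* G ⧸ F := (QuotientGroup.mk' F).comp E.subtype
  apply Group.nilpotent_of_surjective φ
  intro x
  obtain ⟨g, rfl⟩ := QuotientGroup.mk_surjective x
  obtain ⟨⟨f, e⟩, hfe, -⟩ := (Subgroup.isComplement'_def.mp hc).existsUnique g
  refine ⟨e, ?_⟩
  simp only [φ, MonoidHom.coe_comp, Function.comp_apply, Subgroup.coe_subtype,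
    QuotientGroup.mk'_apply]
  rw [← hfe]
  simp only at *
  rw [QuotientGroup.mk_mul, (QuotientGroup.eq_one_iff (f : G)).mpr f.2, one_mul]

end Cfsg.Agent.S1474
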