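-- Statement S1515: norm bound for the projection on `R χ` in a coherence system.
import Cfsg.Statements.S1515
import Cfsg.Agent.Lib.Helper75_CharArith

set_option autoImplicit false
open Cfsg

namespace Cfsg.Agent.S1515

open scoped ComplexConjugate
open Cfsg.Agent.Lib.Helper3_CharOrtho Cfsg.Agent.Lib.Helper75_CharArith

section Aux

variable {G : Type*} [Group G] [Fintype G]

theorem inner_sub_right (φ ψ₁ ψ₂ : G → ℂ) :
    Cfsg.classInner φ (ψ₁ - ψ₂) = Cfsg.classInner φ ψ₁ - Cfsg.classInner φ ψ₂ := by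
  simp [Cfsg.classInner, mul_sub, Finset.sum_sub_distrib]

/-- The inner product of two generalized characters is an integer. -/
theorem inner_int {θ₁ θ₂ : G → ℂ} (h1 : Cfsg.IsGeneralizedCharacter G θ₁)
    (h2 : Cfsg.IsGeneralizedCharacter G θ₂) : ∃ n : ℤ, Cfsg.classInner θ₁ θ₂ = n := by
  obtain ⟨χ₁, ψ₁, hχ₁, hψ₁, rfl⟩ := h1
  obtain ⟨χ₂, ψ₂, hχ₂, hψ₂, rfl⟩ := h2
  obtain ⟨a, ha⟩ := classInner_isCharacter_nat hχ₁ hχ₂
  obtain ⟨b, hb⟩ := classInner_isCharacter_nat hχ₁ hψ₂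
  obtain ⟨c, hc⟩ := classInner_isCharacter_nat hψ₁ hχ₂
  obtain ⟨d, hd⟩ := classInner_isCharacter_nat hψ₁ hψ₂
  refine ⟨(a : ℤ) - b - (c - d), ?_⟩
  rw [classInner_sub_left, inner_sub_right, inner_sub_right, ha, hb, hc, hd]
  push_cast
  ring

theorem int_le_sq (a : ℤ) : a ≤ a ^ 2 := by
  rcases le_or_gt a 0 with h | h
  · nlinarith [sq_nonneg a]
  · nlinarith

end Aux

/-- Let (S, τ, R) be a coherence system from L to G, χ ∈ S, and ψ an integer combination of S with ⟨χ, ψ⟩ = ⟨conj χ, ψ⟩ = 0. Let τ₁ be a linear isometry on the integer combinations of χ − ψ and χ − conj χ, with virtual-character values, agreeing with τ on integer multiples of χ − conj χ. Then the sum over α ∈ R χ of the squared absolute values of ⟨τ₁(χ − ψ), α⟩ is at least ⟨χ, χ⟩; and if ⟨τ₁(χ − ψ), τ₁(χ − ψ)⟩ minus that sum is at least ⟨ψ, ψ⟩, then the sum equals ⟨χ, χ⟩ and every ⟨τ₁(χ − ψ), α⟩ with α ∈ R χ is 0 or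 1. -/
theorem result {L : Type*} [Group L] [Fintype L] {G : Type*} [Group G] [Fintype G] (S : Set (L → ℂ)) (τ : (L → ℂ) → (G → ℂ)) (R : (L → ℂ) → Finset (G → ℂ)) (hS : Cfsg.IsCoherenceSystem S τ R) (χ : L → ℂ) (hχ : χ ∈ S) (ψ : L → ℂ) (hψ : ψ ∈ Cfsg.zspan S) (h1 : Cfsg.classInner χ ψ = 0) (h2 : Cfsg.classInner (Cfsg.conjFun χ) ψ = 0) (τ₁ : (L → ℂ) → (G → ℂ)) (hτ₁ : Cfsg.IsLinearIsometryOn (Cfsg.zspan {χ - ψ, χ - Cfsg.conjFun χ}) τ₁) (hagree : ∀ n : ℤ, τ₁ (n • (χ - Cfsg.conjFun χ)) = τ (n • (χ - Cfsg.conjFun χ))) : (Cfsg.classInner χ χ).re ≤ ∑ α ∈ R χ, ‖Cfsg.classInner (τ₁ (χ - ψ)) α‖ ^ 2 ∧ ((Cfsg.classInner ψ ψ).re ≤ (Cfsg.classInner (τ₁ (χ - ψ)) (τ₁ (χ - ψ))).re - ∑ α ∈ R χ, ‖Cfsg.classInner (τ₁ (χ - ψ)) α‖ ^ 2 → (∑ α ∈ R χ, ‖Cfsg.classInner (τ₁ (χ - ψ)) α‖ ^ 2 = (Cfsg.classInner χ χ).re ∧ ∀ α ∈ R χ, Cfsg.classInner (τ₁ (χ - ψ)) α = 0 ∨ Cfsg.classInner (τ₁ (χ - ψ)) α = 1)) := by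
  obtain ⟨hadd, hsmul, hiso, hvirt⟩ := hτ₁
  have hm1 : χ - ψ ∈ Cfsg.zspan {χ - ψ, χ - Cfsg.conjFun χ} :=
    Submodule.subset_span (by simp)
  have hm2 : χ - Cfsg.conjFun χ ∈ Cfsg.zspan {χ - ψ, χ - Cfsg.conjFun χ} :=
    Submodule.subset_span (by simp)
  set Φ := τ₁ (χ - ψ) with hΦ
  have hΦvirt : Cfsg.IsGeneralizedCharacter G Φ := hvirt _ hm1
  -- τ₁ (χ - conj χ) is the sum of R χ
  have hsum : τ₁ (χ - Cfsg.conjFun χ) = ∑ α ∈ R χ, α := by
    have := hagree 1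
    rw [one_smul] at this
    rw [this, hS.sum_eq χ hχ]
  -- orthogonality relations
  have hχc : Cfsg.classInner χ (Cfsg.conjFun χ) = 0 :=
    hS.orthogonal χ hχ _ (hS.conj_mem χ hχ) (fun h => hS.conj_ne χ hχ h.symm)
  have hψχ : Cfsg.classInner ψ χ = 0 := by
    rw [← classInner_conj_symm, h1, map_zero]
  have hψc : Cfsg.classInner ψ (Cfsg.conjFun χ) = 0 := by
    rw [← classInner_conj_symm, h2, map_zero]
  -- the sum of the coefficients
  have hcoef : ∑ α ∈ R χ, Cfsg.classInner Φ α = Cfsg.classInner χ χ := by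
    rw [← classInner_sum_right, ← hsum, hΦ, hiso _ hm1 _ hm2, classInner_sub_left,
      inner_sub_right, inner_sub_right, hχc, hψχ, hψc]
    ring
  -- the norm of Φ
  have hnorm : Cfsg.classInner Φ Φ = Cfsg.classInner χ χ + Cfsg.classInner ψ ψ := by
    rw [hΦ, hiso _ hm1 _ hm1, classInner_sub_left, inner_sub_right, inner_sub_right, h1, hψχ]
    ring
  -- integrality
  have hint : ∀ α ∈ R χ, ∃ n : ℤ, Cfsg.classInner Φ α = n :=
    fun α hα => inner_int hΦvirt (hS.virtual χ hχ α hα)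
  choose! a ha using hint
  have hsq : ∑ α ∈ R χ, ‖Cfsg.classInner Φ α‖ ^ 2 = ((∑ α ∈ R χ, (a α) ^ 2 : ℤ) : ℝ) := by
    push_cast
    apply Finset.sum_congr rfl
    intro α hα
    rw [ha α hα, Complex.norm_intCast, sq_abs]
  have hre : (Cfsg.classInner χ χ).re = ((∑ α ∈ R χ, a α : ℤ) : ℝ) := by
    rw [← hcoef, Finset.sum_congr rfl ha]
    push_cast
    rw [Complex.re_sum]
    apply Finset.sum_congr rfl
    intro α _
    exact Complex.intCast_re _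
  have hle : ∑ α ∈ R χ, a α ≤ ∑ α ∈ R χ, (a α) ^ 2 :=
    Finset.sum_le_sum (fun α _ => int_le_sq (a α))
  refine ⟨?_, ?_⟩
  · rw [hsq, hre]
    exact_mod_cast hle
  · intro hyp
    rw [hnorm, Complex.add_re, hsq, hre] at hyp
    have hge : ∑ α ∈ R χ, (a α) ^ 2 ≤ ∑ α ∈ R χ, a α := by
      have : ((∑ α ∈ R χ, (a α) ^ 2 : ℤ) : ℝ) ≤ ((∑ α ∈ R χ, a α : ℤ) : ℝ) := by linarith
      exact_mod_cast this
    have heq : ∑ α ∈ R χ, a α = ∑ α ∈ R χ, (a α) ^ 2 := le_antisymm hle hge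
    refine ⟨?_, ?_⟩
    · rw [hsq, hre, heq]
    · intro α hα
      have hterm := (Finset.sum_eq_sum_iff_of_le (fun α _ => int_le_sq (a α))).1 heq α hα
      rw [ha α hα]
      have h01 : a α = 0 ∨ a α = 1 := by
        have : a α * (a α - 1) = 0 := by nlinarith
        rcases mul_eq_zero.1 this with h | h
        · exact Or.inl h
        · exact Or.inr (by omega)
      rcases h01 with h | h
      · left; rw [h]; simp
      · right; rw [h]; simp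

end Cfsg.Agent.S1515
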