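import Mathlib
import Cfsg.Statements.S0967
import Cfsg.Agent.Lib.Helper16_Char
import Cfsg.Agent.Lib.Helper16_Quot

set_option autoImplicit false
open Cfsg

namespace Cfsg.Agent.S0967

open Cfsg.Agent.Lib.Helper16_Char Cfsg.Agent.Lib.Helper16_Quot

/-- Let N be a normal subgroup of the finite group G of order prime to p and fix a maximal ideal M of the algebraic integers containing p. If χ is an irreducible character of G ⧸ N and ψ lies in the block of its inflation χ ∘ (quotient map), then ψ is itself inflated from an irreducible character ψ' of G ⧸ N lying in the block of χ. (Over a normal p'-subgroup, blocks of the quotient are whole blocks of G.) -/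
theorem result {G : Type*} [Group G] [Finite G] (p : ℕ) [Fact p.Prime] (M : Ideal Cfsg.AlgInt) (hM : Cfsg.IsPModular p M) (N : Subgroup G) [N.Normal] (hN : ¬ p ∣ Nat.card N) (χ : Cfsg.IrrCharacter (G ⧸ N)) (ψ : Cfsg.IrrCharacter G) (hψ : ψ ∈ Cfsg.blockOf M ((χ : G ⧸ N → ℂ) ∘ QuotientGroup.mk)) : ∃ ψ' : Cfsg.IrrCharacter (G ⧸ N), (ψ : G → ℂ) = (ψ' : G ⧸ N → ℂ) ∘ QuotientGroup.mk ∧ Cfsg.SameBlock M (χ : G ⧸ N → ℂ) (ψ' : G ⧸ N → ℂ) := by
  classical
  have := Fintype.ofFinite G
  have : Fintype (G ⧸ N) := Fintype.ofFinite _
  have : Fintype N := Fintype.ofFinite _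
  have hMax : M.IsMaximal := hM.2.1
  have hsame : Cfsg.SameBlock M ((χ : G ⧸ N → ℂ) ∘ QuotientGroup.mk) (ψ : G → ℂ) := hψ
  obtain ⟨ψ, n, ρ, hirr, rfl⟩ := ψ
  have : ρ.IsIrreducible := hirr
  simp only at hsame ⊢
  -- χ is a class function with χ 1 ≠ 0
  obtain ⟨χ, m, σ, hσirr, rfl⟩ := χ
  have : σ.IsIrreducible := hσirr
  simp only at hsame ⊢
  have hσ1 : σ.character 1 ≠ 0 := by
    rw [Representation.char_one, Nat.cast_ne_zero]
    exact (finrank_pos_of_irreducible σ).ne'
  have hρ1 : ρ.character 1 ≠ 0 := by
    rw [Representation.char_one, Nat.cast_ne_zero]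
    exact (finrank_pos_of_irreducible ρ).ne'
  -- the class function whose class sums lie in the local ideal
  set f : G → ℂ := fun k => σ.character (QuotientGroup.mk k) / σ.character 1 -
    ρ.character k / ρ.character 1 with hf
  have hfclass : ∀ x c : G, f (x * c * x⁻¹) = f c := by
    intro x c
    simp only [hf]
    rw [Representation.char_conj ρ c x]
    have : (QuotientGroup.mk (x * c * x⁻¹) : G ⧸ N) =
        (QuotientGroup.mk x : G ⧸ N) * QuotientGroup.mk c * (QuotientGroup.mk x : G ⧸ N)⁻¹ := rfl
    rw [this, Representation.char_conj σ]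
  have hfloc : ∀ c : G,
      Cfsg.MemLocalIdeal M (((Subgroup.centralizer ({c} : Set G)).index : ℂ) * f c) := by
    intro c
    have := hsame c
    unfold Cfsg.centralChar at this
    simp only [Function.comp] at this
    convert this using 1
    simp only [hf]
    have h1 : (QuotientGroup.mk (1 : G) : G ⧸ N) = 1 := rfl
    rw [h1]
    ring
  -- Step 1: N acts trivially
  have htop : invSubrep ρ N = ⊤ := by
    rcases invSubrep_eq_bot_or_top ρ N with hbot | htop
    · exfalso
      have hsum := sum_invariant_set M hMax (fun k : G => k ∈ N)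
        (fun x k hk => ‹N.Normal›.conj_mem k hk x) f hfclass hfloc
      have hval : ∑ k : G, (if k ∈ N then f k else 0) = (Nat.card N : ℂ) := by
        rw [← Finset.sum_filter]
        have : ∑ k ∈ Finset.univ.filter (fun k : G => k ∈ N), f k = ∑ n : N, f (n : G) := by
          rw [← Finset.sum_subtype]
          intro x; simp
        rw [this]
        simp only [hf]
        rw [Finset.sum_sub_distrib, ← Finset.sum_div, ← Finset.sum_div,
          sum_char_subgroup_of_bot ρ N hbot, zero_div, sub_zero]
        have : ∀ n : N, σ.character (QuotientGroup.mk (n : G)) = σ.character 1 := by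
          intro n
          have : (QuotientGroup.mk (n : G) : G ⧸ N) = 1 := (QuotientGroup.eq_one_iff _).mpr n.2
          rw [this]
        rw [Finset.sum_congr rfl (fun n _ => this n), Finset.sum_const, Finset.card_univ,
          nsmul_eq_mul, mul_div_assoc, div_self hσ1, mul_one, Nat.card_eq_fintype_card]
      rw [hval] at hsum
      exact natCast_not_memLocalIdeal p M hM _ hN hsum
    · exact htop
  have : Representation.IsTrivial (ρ.comp N.subtype) := isTrivial_of_invSubrep_eq_top ρ N htop
  -- Step 2: the quotient representation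
  refine ⟨⟨(Representation.ofQuotient ρ N).character, n, Representation.ofQuotient ρ N,
    ofQuotient_irreducible ρ N, rfl⟩, ?_, ?_⟩
  · funext g
    simp only [Function.comp]
    rw [ofQuotient_character]
  · -- Step 3
    intro q
    simp only
    set ρ' := Representation.ofQuotient ρ N with hρ'
    have hρ'1 : ρ'.character 1 = ρ.character 1 := by
      have := ofQuotient_character ρ N (1 : G)
      rw [← this]; rfl
    -- sum over the preimage of the class of q
    have hsum := sum_invariant_set M hMax (fun k : G => IsConj q (QuotientGroup.mk k : G ⧸ N))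
      (fun x k hk => by
        have : (QuotientGroup.mk (x * k * x⁻¹) : G ⧸ N) =
          (QuotientGroup.mk x : G ⧸ N) * QuotientGroup.mk k * (QuotientGroup.mk x : G ⧸ N)⁻¹ := rfl
        rw [this]
        exact hk.trans (isConj_iff.mpr ⟨_, rfl⟩)) f hfclass hfloc
    have hval : ∑ k : G, (if IsConj q (QuotientGroup.mk k : G ⧸ N) then f k else 0) =
        (Nat.card N : ℂ) * (Cfsg.centralChar σ.character q - Cfsg.centralChar ρ'.character q) := by
      have h1 : ∀ k : G, (if IsConj q (QuotientGroup.mk k : G ⧸ N) then f k else 0) =
          (fun q' : G ⧸ N => if IsConj q q' then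
            (σ.character q' / σ.character 1 - ρ'.character q' / ρ'.character 1) else 0)
            (QuotientGroup.mk k) := by
        intro k
        simp only [hf]
        rw [hρ'1, hρ', ofQuotient_character]
      rw [Finset.sum_congr rfl (fun k _ => h1 k), sum_comp_mk N (fun q' : G ⧸ N => if IsConj q q' then
            (σ.character q' / σ.character 1 - ρ'.character q' / ρ'.character 1) else 0)]
      congr 1
      rw [sum_isConj_const q (fun q' => σ.character q' / σ.character 1 -
        ρ'.character q' / ρ'.character 1)]
      · unfold Cfsg.centralChar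
        ring
      · intro x c
        rw [Representation.char_conj, Representation.char_conj]
    rw [hval] at hsum
    exact memLocalIdeal_of_natCast_mul p M hM _ hN hsum

end Cfsg.Agent.S0967
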