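import Cfsg.Statements.S0939
import Cfsg.Agent.Lib.Helper16_PBlock
import Cfsg.Agent.Lib.Helper80_CharBasic
import Cfsg.Agent.Lib.Helper1_Cores
import Cfsg.Agent.S0967
import Mathlib

set_option autoImplicit false
open Cfsg

namespace Cfsg.Agent.S0939

open Cfsg.Agent.Lib.Helper16_PBlock Cfsg.Agent.Lib.Helper78_LocalRing
  Cfsg.Agent.Lib.Helper1_Cores

/-- Let G be a finite group with a normal p-complement (the largest normal subgroup O_p'(G) of order prime to p has p-power index). Then, relative to any maximal ideal M of the algebraic integers containing p, the principal block of G is the set of irreducible characters χ with χ n = χ 1 for every n ∈ O_p'(G). -/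
theorem result {G : Type*} [Group G] [Finite G] (p : ℕ) [Fact p.Prime] (M : Ideal Cfsg.AlgInt) (hM : Cfsg.IsPModular p M) (hnc : ∃ k : ℕ, (Cfsg.pPrimeCore p G).index = p ^ k) : Cfsg.principalBlock M G = {χ : Cfsg.IrrCharacter G | ∀ n ∈ Cfsg.pPrimeCore p G, (χ : G → ℂ) n = (χ : G → ℂ) 1} := by
  have hMp := isPrime_of_isPModular hM
  obtain ⟨k, hk⟩ := hnc
  have hNp : ¬ p ∣ Nat.card (Cfsg.pPrimeCore p G) := by
    have h1 := pPrimeCore_card_coprime (G := G) p
    intro hdvd
    have := Nat.Coprime.eq_one_of_dvd h1.symm hdvd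
    exact (Fact.out : p.Prime).one_lt.ne' this
  have hQ : IsPGroup p (G ⧸ Cfsg.pPrimeCore p G) := by
    apply IsPGroup.of_card (n := k)
    rw [← hk]
    rfl
  ext ψ
  constructor
  · intro hψ n hn
    let χ₀ : Cfsg.IrrCharacter (G ⧸ Cfsg.pPrimeCore p G) :=
      ⟨fun _ => (1 : ℂ), Cfsg.Agent.Lib.Helper80_CharBasic.isIrrCharacter_one _⟩
    have hψ' : ψ ∈ Cfsg.blockOf M ((χ₀ : G ⧸ Cfsg.pPrimeCore p G → ℂ) ∘ QuotientGroup.mk) := hψ
    obtain ⟨ψ', hψψ', -⟩ := Cfsg.Agent.S0967.result p M hM (Cfsg.pPrimeCore p G) hNp χ₀ ψ hψ'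
    rw [hψψ']
    simp only [Function.comp_apply]
    have h1 : (QuotientGroup.mk n : G ⧸ Cfsg.pPrimeCore p G) = 1 :=
      (QuotientGroup.eq_one_iff n).2 hn
    rw [h1, QuotientGroup.mk_one]
  · intro hψ
    have h := sameBlock_one_of_quotient_isPGroup hM (Cfsg.pPrimeCore p G) hQ ψ.2 hψ
    exact sameBlock_symm h

end Cfsg.Agent.S0939
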