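import Cfsg.Statements.S4866
import Cfsg.Agent.Lib.Helper81_CharOrth2

set_option autoImplicit false
open Cfsg

namespace Cfsg.Agent.S4866

open Cfsg.Agent.Lib.Helper81_CharBasic Cfsg.Agent.Lib.Helper81_CharOrth
  Cfsg.Agent.Lib.Helper81_CharComplete Cfsg.Agent.Lib.Helper81_CharExpand
  Cfsg.Agent.Lib.Helper81_CharSchur Cfsg.Agent.Lib.Helper81_FrobSchur
  Cfsg.Agent.Lib.Helper81_CharOrth2

section

variable {G : Type*} [Group G] (K : Subgroup G) [K.Normal]

/-- The conjugation action of `G` on the irreducible characters of the normal subgroup `K`. -/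
noncomputable def actIrr (g : G) (θ : IrrCharacter K) : IrrCharacter K :=
  ⟨(θ : K → ℂ) ∘ (MulAut.conjNormal g⁻¹ : MulAut K), isIrrCharacter_comp_mulEquiv _ θ.2⟩

theorem actIrr_apply (g : G) (θ : IrrCharacter K) (k : K) :
    (actIrr K g θ : K → ℂ) k = (θ : K → ℂ) ((MulAut.conjNormal g⁻¹ : MulAut K) k) := rfl

noncomputable instance mulActionIrr : MulAction G (IrrCharacter K) where
  smul := actIrr K
  one_smul θ := by
    apply Subtype.ext
    funext k
    show (actIrr K 1 θ : K → ℂ) k = _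
    rw [actIrr_apply, inv_one, map_one]
    rfl
  mul_smul g h θ := by
    apply Subtype.ext
    funext k
    show (actIrr K (g * h) θ : K → ℂ) k = (actIrr K g (actIrr K h θ) : K → ℂ) k
    rw [actIrr_apply, actIrr_apply, actIrr_apply, mul_inv_rev, map_mul]
    rfl

theorem smul_irr_apply (g : G) (θ : IrrCharacter K) (k : K) :
    ((g • θ : IrrCharacter K) : K → ℂ) k = (θ : K → ℂ) ((MulAut.conjNormal g⁻¹ : MulAut K) k) := rfl

/-- The "complex conjugate" of an irreducible character, as `k ↦ θ k⁻¹`. -/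
noncomputable def conjIrr {H : Type*} [Group H] (θ : IrrCharacter H) : IrrCharacter H :=
  ⟨fun k => (θ : H → ℂ) k⁻¹, isIrrCharacter_comp_inv θ.2⟩

theorem conjIrr_apply {H : Type*} [Group H] (θ : IrrCharacter H) (k : H) :
    (conjIrr θ : H → ℂ) k = (θ : H → ℂ) k⁻¹ := rfl

theorem real_iff_conjIrr_eq {H : Type*} [Group H] [Finite H] (θ : IrrCharacter H) :
    (∀ k : H, ((θ : H → ℂ) k).im = 0) ↔ conjIrr θ = θ := by
  constructor
  · intro h
    apply Subtype.ext
    funext k
    rw [conjIrr_apply, Cfsg.Agent.Lib.Helper80_CharBasic.irr_inv]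
    exact Complex.conj_eq_iff_im.mpr (h k)
  · intro h k
    have := congrFun (congrArg Subtype.val h) k
    rw [conjIrr_apply, Cfsg.Agent.Lib.Helper80_CharBasic.irr_inv] at this
    exact Complex.conj_eq_iff_im.mp this


/-- The parity trick: since `K` has odd index, being fixed by `g` and real is the same as being
fixed by `g` composed with conjugation. -/
theorem odd_trick (hodd : Odd K.index) (g : G) (θ : IrrCharacter K) :
    (conjIrr θ = θ ∧ g • θ = θ) ↔ conjIrr (g • θ) = θ := by
  constructor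
  · rintro ⟨h1, h2⟩
    rw [h2, h1]
  · intro h
    set α : MulAut K := MulAut.conjNormal g⁻¹ with hα
    set f : K → ℂ := (θ : K → ℂ) with hf
    have hyp : ∀ k : K, f (α k⁻¹) = f k := by
      intro k
      have := congrFun (congrArg Subtype.val h) k
      rwa [conjIrr_apply, smul_irr_apply] at this
    have step1 : ∀ k : K, f (α (α k)) = f k := by
      intro k
      have h1 := hyp ((α k)⁻¹)
      rw [inv_inv] at h1
      rw [h1, ← map_inv, hyp]
    have step2 : ∀ (j : ℕ) (k : K), f ((α ^ (2 * j)) k) = f k := by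
      intro j
      induction j with
      | zero => intro k; simp
      | succ j ih =>
        intro k
        have : α ^ (2 * (j + 1)) = α ^ (2 * j) * (α * α) := by
          rw [← pow_two, ← pow_add, mul_add, mul_one]
        rw [this, MulAut.mul_apply, ih, MulAut.mul_apply, step1]
    obtain ⟨j, hj⟩ := hodd
    have hmem : (g⁻¹) ^ K.index ∈ K := K.pow_index_mem g⁻¹
    have step3 : ∀ k : K, f ((α ^ K.index) k) = f k := by
      intro k
      have h1 : α ^ K.index = MulAut.conjNormal ((g⁻¹) ^ K.index) := by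
        rw [hα, map_pow]
      have h2 : (MulAut.conjNormal ((g⁻¹) ^ K.index) : MulAut K)
          = MulAut.conj (⟨(g⁻¹) ^ K.index, hmem⟩ : K) :=
        MulAut.conjNormal_val (h := (⟨(g⁻¹) ^ K.index, hmem⟩ : K))
      rw [h1, h2, MulAut.conj_apply]
      exact isClassFunction_irr θ k _
    have step4 : ∀ k : K, f (α k) = f k := by
      intro k
      have h1 := step3 k
      rw [hj, pow_succ, MulAut.mul_apply, step2] at h1
      exact h1
    refine ⟨?_, ?_⟩
    · apply Subtype.ext
      funext k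
      rw [conjIrr_apply]
      show f k⁻¹ = f k
      rw [← step4 k⁻¹, hyp]
    · apply Subtype.ext
      funext k
      rw [smul_irr_apply]
      exact step4 k


end

section Counting

/-- Cardinality of a subtype of a product as a sum of cardinalities of the fibres. -/
theorem natCard_prod_subtype {A B : Type*} [Fintype A] [Finite B] (P : A → B → Prop) :
    Nat.card {p : A × B // P p.1 p.2} = ∑ a : A, Nat.card {b : B // P a b} := by
  rw [Nat.card_congr (Equiv.subtypeProdEquivSigmaSubtype P), Nat.card_sigma]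

/-- Burnside's lemma in `Nat.card` form. -/
theorem burnside {A X : Type*} [Group A] [MulAction A X] [Finite A] [Finite X] :
    Nat.card {p : A × X // p.1 • p.2 = p.2}
      = Nat.card (Quotient (MulAction.orbitRel A X)) * Nat.card A := by
  classical
  rw [← Nat.card_prod]
  refine Nat.card_congr ?_
  refine (Equiv.subtypeProdEquivSigmaSubtype (fun (a : A) (x : X) => a • x = x)).trans ?_
  exact MulAction.sigmaFixedByEquivOrbitsProdGroup A X

end Counting

section CharSide

variable {G : Type*} [Group G] (K : Subgroup G) [K.Normal]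

/-- Number of irreducible characters fixed by `g` composed with conjugation, via the second
orthogonality relation. -/
theorem card_fixed_conj [Fintype K] [Fintype (IrrCharacter K)] (g : G) :
    (Nat.card {θ : IrrCharacter K // conjIrr (g • θ) = θ} : ℂ)
      = (Nat.card K : ℂ)⁻¹ * ∑ k : K,
          (Nat.card {c : K // c * ((MulAut.conjNormal g⁻¹ : MulAut K) k⁻¹) * c⁻¹ = k} : ℂ) := by
  classical
  have hc : (Nat.card K : ℂ) ≠ 0 := card_ne_zero
  have h1 : (Nat.card {θ : IrrCharacter K // conjIrr (g • θ) = θ} : ℂ)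
      = ∑ θ : IrrCharacter K, if conjIrr (g • θ) = θ then (1 : ℂ) else 0 := by
    rw [Nat.card_eq_fintype_card, Fintype.card_subtype, Finset.sum_boole]
  have h2 : ∀ θ : IrrCharacter K, (if conjIrr (g • θ) = θ then (1 : ℂ) else 0)
      = (Nat.card K : ℂ)⁻¹ * ∑ k : K, (θ : K → ℂ) ((MulAut.conjNormal g⁻¹ : MulAut K) k⁻¹)
          * (θ : K → ℂ) k⁻¹ := by
    intro θ
    have := sum_irr_mul_irr_inv (conjIrr (g • θ)).2 θ.2
    have e : ∀ k : K, (conjIrr (g • θ) : K → ℂ) k
        = (θ : K → ℂ) ((MulAut.conjNormal g⁻¹ : MulAut K) k⁻¹) := fun k => rfl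
    simp only [e] at this
    rw [this]
    by_cases hθ : conjIrr (g • θ) = θ
    · rw [if_pos hθ, if_pos (congrArg Subtype.val hθ), inv_mul_cancel₀ hc]
    · rw [if_neg hθ, if_neg (fun h => hθ (Subtype.ext h)), mul_zero]
  rw [h1]
  simp only [h2]
  rw [← Finset.mul_sum, Finset.sum_comm]
  congr 1
  refine Finset.sum_congr rfl fun k _ => ?_
  exact second_orthogonality ((MulAut.conjNormal g⁻¹ : MulAut K) k⁻¹) k


/-- The triples `(g, k, c)` with `c (g⁻¹ k⁻¹ g) c⁻¹ = k` correspond to pairs `(h, k)` with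
`h k⁻¹ h⁻¹ = k` together with an arbitrary `c`. -/
noncomputable def tripleEquiv :
    {t : G × (K × K) // t.2.2 * ((MulAut.conjNormal t.1⁻¹ : MulAut K) t.2.1⁻¹) * t.2.2⁻¹ = t.2.1}
      ≃ {p : G × K // p.1 * (p.2 : G)⁻¹ * p.1⁻¹ = (p.2 : G)} × K where
  toFun t := ⟨⟨((t.1.2.2 : G) * t.1.1⁻¹, t.1.2.1), by
    have h := congrArg (Subtype.val : K → G) t.2
    simp only [Subgroup.coe_mul, MulAut.conjNormal_apply, Subgroup.coe_inv, inv_inv] at h
    calc (t.1.2.2 : G) * t.1.1⁻¹ * (t.1.2.1 : G)⁻¹ * ((t.1.2.2 : G) * t.1.1⁻¹)⁻¹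
        = (t.1.2.2 : G) * (t.1.1⁻¹ * (t.1.2.1 : G)⁻¹ * t.1.1) * (t.1.2.2 : G)⁻¹ := by group
      _ = _ := h⟩, t.1.2.2⟩
  invFun q := ⟨(q.1.1.1⁻¹ * (q.2 : G), (q.1.1.2, q.2)), by
    apply Subtype.ext
    have h := q.1.2
    simp only [Subgroup.coe_mul, MulAut.conjNormal_apply, Subgroup.coe_inv, inv_inv, mul_inv_rev]
    calc (q.2 : G) * ((q.2 : G)⁻¹ * q.1.1.1 * (q.1.1.2 : G)⁻¹ * (q.1.1.1⁻¹ * (q.2 : G))) * (q.2 : G)⁻¹
        = q.1.1.1 * (q.1.1.2 : G)⁻¹ * q.1.1.1⁻¹ := by group
      _ = _ := h⟩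
  left_inv t := by
    apply Subtype.ext
    simp only [mul_inv_rev, inv_inv, inv_mul_cancel_right]
  right_inv q := by
    apply Prod.ext
    · apply Subtype.ext
      simp only [mul_inv_rev, inv_inv, mul_inv_cancel_left]
    · rfl

theorem sum_card_fixed_conj [Fintype G] [Fintype K] [Fintype (IrrCharacter K)] :
    ∑ g : G, (Nat.card {θ : IrrCharacter K // conjIrr (g • θ) = θ} : ℂ)
      = (Nat.card {p : G × K // p.1 * (p.2 : G)⁻¹ * p.1⁻¹ = (p.2 : G)} : ℂ) := by
  classical
  have hc : (Nat.card K : ℂ) ≠ 0 := card_ne_zero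
  simp only [card_fixed_conj]
  rw [← Finset.mul_sum]
  have h1 : ∑ g : G, ∑ k : K,
      (Nat.card {c : K // c * ((MulAut.conjNormal g⁻¹ : MulAut K) k⁻¹) * c⁻¹ = k} : ℂ)
      = (Nat.card {t : G × (K × K) //
          t.2.2 * ((MulAut.conjNormal t.1⁻¹ : MulAut K) t.2.1⁻¹) * t.2.2⁻¹ = t.2.1} : ℂ) := by
    rw [natCard_prod_subtype (fun (g : G) (q : K × K) =>
      q.2 * ((MulAut.conjNormal g⁻¹ : MulAut K) q.1⁻¹) * q.2⁻¹ = q.1)]
    push_cast
    refine Finset.sum_congr rfl fun g _ => ?_
    rw [natCard_prod_subtype (fun (k : K) (c : K) =>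
      c * ((MulAut.conjNormal g⁻¹ : MulAut K) k⁻¹) * c⁻¹ = k)]
    push_cast
    rfl
  rw [h1, Nat.card_congr (tripleEquiv K), Nat.card_prod]
  push_cast
  field_simp


/-- The real-valued irreducible characters of `K`. -/
abbrev RealIrr : Type _ := {θ : IrrCharacter K // ∀ k : K, ((θ : K → ℂ) k).im = 0}

noncomputable instance mulActionRealIrr : MulAction G (RealIrr K) where
  smul g θ := ⟨g • θ.1, fun k => θ.2 _⟩
  one_smul θ := Subtype.ext (one_smul G θ.1)
  mul_smul g h θ := Subtype.ext (mul_smul g h θ.1)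

theorem smul_realIrr_val (g : G) (θ : RealIrr K) : (g • θ).1 = g • θ.1 := rfl

/-- By the parity trick, the real characters fixed by `g` are the characters fixed by `g` composed
with conjugation. -/
noncomputable def fixedRealEquiv [Finite K] (hodd : Odd K.index) (g : G) :
    {θ : RealIrr K // g • θ = θ} ≃ {θ : IrrCharacter K // conjIrr (g • θ) = θ} where
  toFun x := ⟨x.1.1, (odd_trick K hodd g x.1.1).mp
    ⟨(real_iff_conjIrr_eq x.1.1).mp x.1.2, congrArg Subtype.val x.2⟩⟩
  invFun y := ⟨⟨y.1, (real_iff_conjIrr_eq y.1).mpr ((odd_trick K hodd g y.1).mpr y.2).1⟩,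
    Subtype.ext ((odd_trick K hodd g y.1).mpr y.2).2⟩
  left_inv x := rfl
  right_inv y := rfl

theorem orbits_realIrr [Finite G] (hodd : Odd K.index) :
    (Nat.card (Quotient (MulAction.orbitRel G (RealIrr K))) : ℂ) * (Nat.card G : ℂ)
      = (Nat.card {p : G × K // p.1 * (p.2 : G)⁻¹ * p.1⁻¹ = (p.2 : G)} : ℂ) := by
  classical
  haveI := Fintype.ofFinite G
  haveI := Fintype.ofFinite K
  haveI := Fintype.ofFinite (IrrCharacter K)
  rw [← sum_card_fixed_conj K, ← Nat.cast_mul, ← burnside,
    natCard_prod_subtype (fun (g : G) (θ : RealIrr K) => g • θ = θ)]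
  push_cast
  refine Finset.sum_congr rfl fun g _ => ?_
  rw [Nat.card_congr (fixedRealEquiv K hodd g)]

end CharSide

section GroupSide

variable {G : Type*} [Group G] (K : Subgroup G) [K.Normal]

/-- The elements of `K` that are conjugate in `K` to their inverses. -/
abbrev RealElt : Type _ := {x : K // IsConj x x⁻¹}

noncomputable instance mulActionRealElt : MulAction G (RealElt K) where
  smul g x := ⟨(MulAut.conjNormal g : MulAut K) x.1, by
    have := MonoidHom.map_isConj ((MulAut.conjNormal g : MulAut K) : K →* K) x.2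
    simpa using this⟩
  one_smul x := by
    apply Subtype.ext
    show (MulAut.conjNormal (1 : G) : MulAut K) x.1 = x.1
    rw [map_one]; rfl
  mul_smul g h x := by
    apply Subtype.ext
    show (MulAut.conjNormal (g * h) : MulAut K) x.1
      = (MulAut.conjNormal g : MulAut K) ((MulAut.conjNormal h : MulAut K) x.1)
    rw [map_mul]; rfl

theorem smul_realElt_coe (g : G) (x : RealElt K) :
    (((g • x : RealElt K).1 : K) : G) = g * (x.1 : G) * g⁻¹ :=
  MulAut.conjNormal_apply g x.1

/-- If an element of `G` inverts `k ∈ K` and `K` has odd index, then `k` is real in `K`. -/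
theorem real_of_inverted (hodd : Odd K.index) (h : G) (k : K)
    (hinv : h * (k : G)⁻¹ * h⁻¹ = (k : G)) : IsConj k k⁻¹ := by
  obtain ⟨j, hj⟩ := hodd
  have h1 : h * (k : G) * h⁻¹ = (k : G)⁻¹ := by
    have := congrArg (fun z => z⁻¹) hinv
    simp only [mul_inv_rev, inv_inv] at this
    rw [← this]; group
  have hcomm : Commute (h ^ 2) (k : G) := by
    show h ^ 2 * (k : G) = (k : G) * h ^ 2
    have : h ^ 2 * (k : G) * (h ^ 2)⁻¹ = (k : G) := by
      calc h ^ 2 * (k : G) * (h ^ 2)⁻¹ = h * (h * (k : G) * h⁻¹) * h⁻¹ := by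
            rw [pow_two]; group
        _ = h * (k : G)⁻¹ * h⁻¹ := by rw [h1]
        _ = (k : G) := hinv
    calc h ^ 2 * (k : G) = h ^ 2 * (k : G) * (h ^ 2)⁻¹ * h ^ 2 := by group
      _ = (k : G) * h ^ 2 := by rw [this]
  have hcomm2 : Commute ((h ^ 2) ^ j) (k : G)⁻¹ := (hcomm.pow_left j).inv_right
  have hmem : h ^ K.index ∈ K := K.pow_index_mem h
  rw [isConj_iff]
  refine ⟨⟨h ^ K.index, hmem⟩, ?_⟩
  apply Subtype.ext
  simp only [Subgroup.coe_mul, Subgroup.coe_inv]
  rw [hj, pow_succ, pow_mul]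
  calc (h ^ 2) ^ j * h * (k : G) * ((h ^ 2) ^ j * h)⁻¹
      = (h ^ 2) ^ j * (h * (k : G) * h⁻¹) * ((h ^ 2) ^ j)⁻¹ := by group
    _ = (h ^ 2) ^ j * (k : G)⁻¹ * ((h ^ 2) ^ j)⁻¹ := by rw [h1]
    _ = (k : G)⁻¹ := by rw [hcomm2.eq]; group

/-- A chosen element of `K` inverting a real element. -/
noncomputable def inverter (x : RealElt K) : K := Classical.choose (isConj_iff.mp x.2)

omit [K.Normal] in
theorem inverter_spec (x : RealElt K) : inverter K x * x.1 * (inverter K x)⁻¹ = x.1⁻¹ :=
  Classical.choose_spec (isConj_iff.mp x.2)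

omit [K.Normal] in
theorem inverter_spec' (x : RealElt K) :
    (inverter K x : G) * (x.1 : G) * (inverter K x : G)⁻¹ = (x.1 : G)⁻¹ := by
  have := congrArg (Subtype.val : K → G) (inverter_spec K x)
  simpa using this

/-- Pairs (element, real element centralized by it) correspond to pairs (element, element of
`K` inverted by it). -/
noncomputable def fixedEltEquiv (hodd : Odd K.index) :
    {p : G × RealElt K // p.1 • p.2 = p.2}
      ≃ {p : G × K // p.1 * (p.2 : G)⁻¹ * p.1⁻¹ = (p.2 : G)} where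
  toFun p := ⟨(p.1.1 * (inverter K p.1.2 : G)⁻¹, p.1.2.1), by
    have hfix : p.1.1 * (p.1.2.1 : G) * p.1.1⁻¹ = (p.1.2.1 : G) := by
      rw [← smul_realElt_coe, p.2]
    have hc := inverter_spec' K p.1.2
    have hc2 : (inverter K p.1.2 : G)⁻¹ * (p.1.2.1 : G)⁻¹ * (inverter K p.1.2 : G)
        = (p.1.2.1 : G) := by
      rw [← hc]; group
    calc p.1.1 * (inverter K p.1.2 : G)⁻¹ * (p.1.2.1 : G)⁻¹ * (p.1.1 * (inverter K p.1.2 : G)⁻¹)⁻¹
        = p.1.1 * ((inverter K p.1.2 : G)⁻¹ * (p.1.2.1 : G)⁻¹ * (inverter K p.1.2 : G)) * p.1.1⁻¹ := by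
          group
      _ = p.1.1 * (p.1.2.1 : G) * p.1.1⁻¹ := by rw [hc2]
      _ = _ := hfix⟩
  invFun q :=
    ⟨(q.1.1 * (inverter K ⟨q.1.2, real_of_inverted K hodd q.1.1 q.1.2 q.2⟩ : G),
      ⟨q.1.2, real_of_inverted K hodd q.1.1 q.1.2 q.2⟩), by
      apply Subtype.ext
      apply Subtype.ext
      rw [smul_realElt_coe]
      have hc := inverter_spec' K ⟨q.1.2, real_of_inverted K hodd q.1.1 q.1.2 q.2⟩
      simp only at hc
      set c : G := (inverter K ⟨q.1.2, real_of_inverted K hodd q.1.1 q.1.2 q.2⟩ : G) with hcdef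
      calc q.1.1 * c * (q.1.2 : G) * (q.1.1 * c)⁻¹
          = q.1.1 * (c * (q.1.2 : G) * c⁻¹) * q.1.1⁻¹ := by group
        _ = q.1.1 * (q.1.2 : G)⁻¹ * q.1.1⁻¹ := by rw [hc]
        _ = _ := q.2⟩
  left_inv p := by
    apply Subtype.ext
    apply Prod.ext
    · simp only [inv_mul_cancel_right]
    · rfl
  right_inv q := by
    apply Subtype.ext
    apply Prod.ext
    · simp only [mul_inv_cancel_right]
    · rfl

theorem orbits_realElt [Finite G] (hodd : Odd K.index) :
    Nat.card (Quotient (MulAction.orbitRel G (RealElt K))) * Nat.card G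
      = Nat.card {p : G × K // p.1 * (p.2 : G)⁻¹ * p.1⁻¹ = (p.2 : G)} := by
  rw [← burnside, Nat.card_congr (fixedEltEquiv K hodd)]

end GroupSide

/-- Let K be a normal subgroup of odd index in the finite group G. Then G has as many orbits on the real-valued irreducible complex characters of K (acting by conjugation) as it has orbits on the conjugacy classes of K that are real in K; equivalently, the number of G-orbits of real-valued irreducible characters of K equals the number of G-conjugacy classes of elements of K that are conjugate in K to their inverses. -/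
theorem result {G : Type*} [Group G] [Finite G] (K : Subgroup G) [K.Normal] (hodd : Odd K.index) : Nat.card (Quot (fun θ η : {θ : Cfsg.IrrCharacter ↥K // (∀ k : ↥K, ((θ : ↥K → ℂ) k).im = 0)} => ∃ g : G, ∀ k k' : ↥K, (k' : G) = g * (k : G) * g⁻¹ → (η.1 : ↥K → ℂ) k' = (θ.1 : ↥K → ℂ) k)) = Nat.card (Quot (fun x y : {x : ↥K // IsConj x x⁻¹} => ∃ g : G, (y.1 : G) = g * x.1 * g⁻¹)) := by
  -- left side: orbits of `G` on the real irreducible characters
  have hL : ∀ θ η : RealIrr K,
      (∃ g : G, ∀ k k' : ↥K, (k' : G) = g * (k : G) * g⁻¹ → (η.1 : ↥K → ℂ) k' = (θ.1 : ↥K → ℂ) k)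
        ↔ (MulAction.orbitRel G (RealIrr K)).r θ η := by
    intro θ η
    constructor
    · rintro ⟨g, hg⟩
      refine ⟨g⁻¹, ?_⟩
      have : η = g • θ := by
        apply Subtype.ext
        apply Subtype.ext
        funext k'
        rw [smul_realIrr_val, smul_irr_apply]
        apply hg
        rw [MulAut.conjNormal_apply]
        group
      show g⁻¹ • η = θ
      rw [this, inv_smul_smul]
    · rintro ⟨g, hg⟩
      refine ⟨g⁻¹, ?_⟩
      intro k k' hk
      have h1 : (η.1 : ↥K → ℂ) k' = ((g⁻¹ • θ : RealIrr K).1 : ↥K → ℂ) k' := by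
        have : η = g⁻¹ • θ := by
          have hg' : g • η = θ := hg
          rw [← hg', inv_smul_smul]
        rw [this]
      rw [h1, smul_realIrr_val, smul_irr_apply]
      have h2 : (MulAut.conjNormal g⁻¹⁻¹ : MulAut K) k' = k := by
        apply Subtype.ext
        rw [MulAut.conjNormal_apply, hk]
        group
      rw [h2]
  have hR : ∀ x y : RealElt K,
      (∃ g : G, (y.1 : G) = g * x.1 * g⁻¹) ↔ (MulAction.orbitRel G (RealElt K)).r x y := by
    intro x y
    constructor
    · rintro ⟨g, hg⟩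
      refine ⟨g⁻¹, ?_⟩
      have : y = g • x := by
        apply Subtype.ext
        apply Subtype.ext
        rw [smul_realElt_coe, hg]
      show g⁻¹ • y = x
      rw [this, inv_smul_smul]
    · rintro ⟨g, hg⟩
      refine ⟨g⁻¹, ?_⟩
      have hg' : g • y = x := hg
      have : y = g⁻¹ • x := by rw [← hg', inv_smul_smul]
      rw [this, smul_realElt_coe]
  rw [Nat.card_congr (Quot.congrRight hL), Nat.card_congr (Quot.congrRight hR)]
  have h1 := orbits_realIrr K hodd
  have h2 := orbits_realElt K hodd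
  have hG : Nat.card G ≠ 0 := Nat.card_pos.ne'
  have h3 : Nat.card (Quotient (MulAction.orbitRel G (RealIrr K))) * Nat.card G
      = Nat.card (Quotient (MulAction.orbitRel G (RealElt K))) * Nat.card G := by
    rw [h2]
    exact_mod_cast h1
  exact Nat.eq_of_mul_eq_mul_right (Nat.pos_of_ne_zero hG) h3

end Cfsg.Agent.S4866
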