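import Cfsg.Statements.S0173
import Cfsg.Agent.S4866

set_option autoImplicit false
open Cfsg

namespace Cfsg.Agent.S0173

open Cfsg.Agent.Lib.Helper81_CharBasic Cfsg.Agent.Lib.Helper81_CharOrth
  Cfsg.Agent.Lib.Helper81_CharComplete Cfsg.Agent.Lib.Helper81_CharExpand
  Cfsg.Agent.Lib.Helper81_CharSchur Cfsg.Agent.Lib.Helper81_FrobSchur
  Cfsg.Agent.Lib.Helper81_CharOrth2

section

variable {G : Type*} [Group G] (α : G ≃* G)

/-- Character side: the number of `α`-fixed irreducible characters, via second orthogonality. -/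
theorem card_fixed_irr [Fintype G] [Fintype (IrrCharacter G)] :
    (Nat.card {χ : IrrCharacter G // (χ : G → ℂ) ∘ α = (χ : G → ℂ)} : ℂ) * (Nat.card G : ℂ)
      = (Nat.card {p : G × G // p.2 * α p.1 * p.2⁻¹ = p.1} : ℂ) := by
  classical
  have hc : (Nat.card G : ℂ) ≠ 0 := card_ne_zero
  have h1 : (Nat.card {χ : IrrCharacter G // (χ : G → ℂ) ∘ α = (χ : G → ℂ)} : ℂ)
      = ∑ χ : IrrCharacter G, if (χ : G → ℂ) ∘ α = (χ : G → ℂ) then (1 : ℂ) else 0 := by
    rw [Nat.card_eq_fintype_card, Fintype.card_subtype, Finset.sum_boole]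
  have h2 : ∀ χ : IrrCharacter G, (if (χ : G → ℂ) ∘ α = (χ : G → ℂ) then (1 : ℂ) else 0)
      = (Nat.card G : ℂ)⁻¹ * ∑ g : G, (χ : G → ℂ) (α g) * (χ : G → ℂ) g⁻¹ := by
    intro χ
    have := sum_irr_mul_irr_inv (isIrrCharacter_comp_mulEquiv α χ.2) χ.2
    simp only [Function.comp_apply] at this
    rw [this]
    by_cases hχ : (χ : G → ℂ) ∘ α = (χ : G → ℂ)
    · rw [if_pos hχ, if_pos hχ, inv_mul_cancel₀ hc]
    · rw [if_neg hχ, if_neg hχ, mul_zero]
  rw [h1]
  simp only [h2]
  rw [← Finset.mul_sum, Finset.sum_comm]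
  have h3 : ∀ g : G, ∑ χ : IrrCharacter G, (χ : G → ℂ) (α g) * (χ : G → ℂ) g⁻¹
      = (Nat.card {c : G // c * α g * c⁻¹ = g} : ℂ) := fun g => second_orthogonality (α g) g
  simp only [h3]
  rw [Cfsg.Agent.S4866.natCard_prod_subtype (fun (g : G) (c : G) => c * α g * c⁻¹ = g)]
  push_cast
  field_simp

/-- The elements whose class is fixed by `α`. -/
abbrev FixElt : Type _ := {g : G // IsConj (α g) g}

noncomputable instance mulActionFixElt : MulAction G (FixElt α) where
  smul x u := ⟨x * u.1 * x⁻¹, by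
    have h1 : IsConj (α (x * u.1 * x⁻¹)) (α u.1) := by
      rw [map_mul, map_mul, map_inv]
      exact (isConj_iff.mpr ⟨α x, rfl⟩).symm
    have h2 : IsConj u.1 (x * u.1 * x⁻¹) := isConj_iff.mpr ⟨x, rfl⟩
    exact (h1.trans u.2).trans h2⟩
  one_smul u := by
    apply Subtype.ext
    show 1 * u.1 * 1⁻¹ = u.1
    simp
  mul_smul x y u := by
    apply Subtype.ext
    show (x * y) * u.1 * (x * y)⁻¹ = x * (y * u.1 * y⁻¹) * x⁻¹
    group

theorem smul_fixElt_val (x : G) (u : FixElt α) : (x • u).1 = x * u.1 * x⁻¹ := rfl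

/-- A chosen element conjugating `α u` to `u`. -/
noncomputable def conjugator (u : FixElt α) : G := Classical.choose (isConj_iff.mp u.2)

theorem conjugator_spec (u : FixElt α) :
    conjugator α u * α u.1 * (conjugator α u)⁻¹ = u.1 :=
  Classical.choose_spec (isConj_iff.mp u.2)

noncomputable def pairEquiv :
    {p : G × FixElt α // p.1 • p.2 = p.2} ≃ {p : G × G // p.2 * α p.1 * p.2⁻¹ = p.1} where
  toFun p := ⟨(p.1.2.1, p.1.1 * conjugator α p.1.2), by
    have hfix : p.1.1 * p.1.2.1 * p.1.1⁻¹ = p.1.2.1 := by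
      rw [← smul_fixElt_val, p.2]
    have hc := conjugator_spec α p.1.2
    calc p.1.1 * conjugator α p.1.2 * α p.1.2.1 * (p.1.1 * conjugator α p.1.2)⁻¹
        = p.1.1 * (conjugator α p.1.2 * α p.1.2.1 * (conjugator α p.1.2)⁻¹) * p.1.1⁻¹ := by group
      _ = p.1.1 * p.1.2.1 * p.1.1⁻¹ := by rw [hc]
      _ = _ := hfix⟩
  invFun q :=
    ⟨(q.1.2 * (conjugator α ⟨q.1.1, isConj_iff.mpr ⟨q.1.2, q.2⟩⟩)⁻¹,
      ⟨q.1.1, isConj_iff.mpr ⟨q.1.2, q.2⟩⟩), by
      apply Subtype.ext
      rw [smul_fixElt_val]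
      have hc := conjugator_spec α ⟨q.1.1, isConj_iff.mpr ⟨q.1.2, q.2⟩⟩
      simp only at hc
      set d : G := conjugator α ⟨q.1.1, isConj_iff.mpr ⟨q.1.2, q.2⟩⟩ with hd
      have hc' : d⁻¹ * q.1.1 * d = α q.1.1 := by
        calc d⁻¹ * q.1.1 * d = d⁻¹ * (d * α q.1.1 * d⁻¹) * d := by rw [hc]
          _ = α q.1.1 := by group
      calc q.1.2 * d⁻¹ * q.1.1 * (q.1.2 * d⁻¹)⁻¹
          = q.1.2 * (d⁻¹ * q.1.1 * d) * q.1.2⁻¹ := by group
        _ = q.1.2 * α q.1.1 * q.1.2⁻¹ := by rw [hc']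
        _ = _ := q.2⟩
  left_inv p := by
    apply Subtype.ext
    apply Prod.ext
    · simp only [mul_inv_cancel_right]
    · rfl
  right_inv q := by
    apply Subtype.ext
    apply Prod.ext
    · rfl
    · simp only [inv_mul_cancel_right]

/-- Orbits on the fixed elements are the fixed classes. -/
noncomputable def orbitEquiv :
    Quotient (MulAction.orbitRel G (FixElt α))
      ≃ {C : ConjClasses G // ConjClasses.map α.toMonoidHom C = C} :=
  Equiv.ofBijective
    (Quotient.lift (fun u : FixElt α => (⟨ConjClasses.mk u.1, by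
        show ConjClasses.mk (α u.1) = ConjClasses.mk u.1
        exact ConjClasses.mk_eq_mk_iff_isConj.mpr u.2⟩ :
          {C : ConjClasses G // ConjClasses.map α.toMonoidHom C = C}))
      (by
        rintro u v ⟨x, hx⟩
        apply Subtype.ext
        show ConjClasses.mk u.1 = ConjClasses.mk v.1
        apply ConjClasses.mk_eq_mk_iff_isConj.mpr
        have : x * v.1 * x⁻¹ = u.1 := congrArg Subtype.val hx
        exact (isConj_iff.mpr ⟨x, this⟩).symm))
    (by
      constructor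
      · rintro ⟨u⟩ ⟨v⟩ h
        apply Quotient.sound
        have h1 : ConjClasses.mk u.1 = ConjClasses.mk v.1 := congrArg Subtype.val h
        obtain ⟨x, hx⟩ := isConj_iff.mp (ConjClasses.mk_eq_mk_iff_isConj.mp h1)
        exact ⟨x⁻¹, by
          apply Subtype.ext
          show x⁻¹ * v.1 * x⁻¹⁻¹ = u.1
          rw [← hx]; group⟩
      · rintro ⟨C, hC⟩
        obtain ⟨g, rfl⟩ := ConjClasses.mk_surjective C
        have hg : IsConj (α g) g := ConjClasses.mk_eq_mk_iff_isConj.mp hC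
        exact ⟨Quotient.mk _ ⟨g, hg⟩, rfl⟩)

end

/-- Brauer's permutation lemma for a single automorphism: the number of conjugacy classes mapped to themselves equals the number of irreducible complex characters χ with χ ∘ α = χ. -/
theorem result {G : Type*} [Group G] [Finite G] (α : G ≃* G) : Nat.card {C : ConjClasses G // ConjClasses.map α.toMonoidHom C = C} = Nat.card {χ : Cfsg.IrrCharacter G // (χ : G → ℂ) ∘ α = (χ : G → ℂ)} := by
  classical
  haveI := Fintype.ofFinite G
  haveI := Fintype.ofFinite (IrrCharacter G)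
  have h1 := card_fixed_irr α
  have h2 : Nat.card {p : G × FixElt α // p.1 • p.2 = p.2}
      = Nat.card (Quotient (MulAction.orbitRel G (FixElt α))) * Nat.card G :=
    Cfsg.Agent.S4866.burnside
  rw [Nat.card_congr (pairEquiv α), Nat.card_congr (orbitEquiv α)] at h2
  rw [h2] at h1
  have hG : Nat.card G ≠ 0 := Nat.card_pos.ne'
  have h3 : Nat.card {χ : IrrCharacter G // (χ : G → ℂ) ∘ α = (χ : G → ℂ)} * Nat.card G
      = Nat.card {C : ConjClasses G // ConjClasses.map α.toMonoidHom C = C} * Nat.card G := by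
    exact_mod_cast h1
  exact (Nat.eq_of_mul_eq_mul_right (Nat.pos_of_ne_zero hG) h3).symm

end Cfsg.Agent.S0173
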