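import Cfsg.Statements.S1528
import Cfsg.Agent.Lib.Helper75_BrauerPerm

set_option autoImplicit false
open Cfsg

namespace Cfsg.Agent.S1528

open Cfsg.Agent.Lib.Helper75_Induced Cfsg.Agent.Lib.Helper75_CharArith
  Cfsg.Agent.Lib.Helper75_IndChar Cfsg.Agent.Lib.Helper75_Clifford
  Cfsg.Agent.Lib.Helper75_BrauerPerm Cfsg.Agent.Lib.Helper3_CharBridge in
/-- Let N be a normal subgroup of the finite group G such that every element of G commuting with a non-identity element of N lies in N. If χ is an irreducible character of G with χ n ≠ χ 1 for some n ∈ N, then χ is the function induced from some irreducible character of N. -/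
theorem result {G : Type*} [Group G] [Fintype G] (N : Subgroup G) [N.Normal] (hC : ∀ n ∈ N, n ≠ 1 → Subgroup.centralizer ({n} : Set G) ≤ N) (χ : G → ℂ) (hχ : Cfsg.IsIrrCharacter G χ) (hker : ∃ n ∈ N, χ n ≠ χ 1) : ∃ φ : N → ℂ, Cfsg.IsIrrCharacter N φ ∧ χ = Cfsg.indFun N φ := by
  classical
  have hN : N.Normal := inferInstance
  have : Fintype N := Fintype.ofFinite N
  -- an element outside N fixes only the trivial class of N
  have hclass : ∀ g : G, g ∉ N → ∀ n : N,
      IsConj (⟨g * n * g⁻¹, hN.conj_mem n n.2 g⟩ : N) n → n = 1 := by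
    intro g hg n hconj
    by_contra hn1
    obtain ⟨a, ha⟩ := isConj_iff.mp hconj.symm
    have ha' : (a : G) * n * (a : G)⁻¹ = g * n * g⁻¹ := congrArg Subtype.val ha
    have hn1' : (n : G) ≠ 1 := fun h => hn1 (Subtype.ext h)
    have hcent : (a : G)⁻¹ * g ∈ Subgroup.centralizer ({(n : G)} : Set G) := by
      rw [Subgroup.mem_centralizer_singleton_iff]
      have : g * n = (a : G) * n * (a : G)⁻¹ * g := by rw [ha']; group
      calc ((a : G)⁻¹ * g) * n = (a : G)⁻¹ * (g * n) := by group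
        _ = (a : G)⁻¹ * ((a : G) * n * (a : G)⁻¹ * g) := by rw [this]
        _ = n * ((a : G)⁻¹ * g) := by group
    have h1 : (a : G)⁻¹ * g ∈ N := hC n n.2 hn1' hcent
    apply hg
    have : g = (a : G) * ((a : G)⁻¹ * g) := by group
    rw [this]
    exact N.mul_mem a.2 h1
  -- a nonprincipal constituent of the restriction
  have hχc : Cfsg.IsCharacter G χ := isCharacter_of_isIrrCharacter hχ
  obtain ⟨m, hm, hsum⟩ := exists_multiplicities (isCharacter_res N hχc)
  have h1irr : Cfsg.IsIrrCharacter N (fun _ => (1 : ℂ)) :=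
    Cfsg.Agent.Lib.Helper80_CharBasic.isIrrCharacter_one N
  have hex : ∃ φ : Cfsg.IrrCharacter N, (φ : N → ℂ) ≠ (fun _ => 1) ∧ m φ ≠ 0 := by
    by_contra hcon
    have hall : ∀ φ : Cfsg.IrrCharacter N, φ ≠ ⟨fun _ => 1, h1irr⟩ → m φ = 0 := by
      intro φ hφ
      by_contra h0
      exact hcon ⟨φ, fun h => hφ (Subtype.ext h), h0⟩
    have hres : res N χ = (m ⟨fun _ => 1, h1irr⟩ : ℂ) • (fun _ : N => (1 : ℂ)) := by
      rw [hsum, Finset.sum_eq_single (⟨fun _ => 1, h1irr⟩ : Cfsg.IrrCharacter N)]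
      · intro φ _ hφ
        rw [hall φ hφ, Nat.cast_zero, zero_smul]
      · intro h; exact absurd (Finset.mem_univ _) h
    obtain ⟨n, hn, hne⟩ := hker
    apply hne
    have e1 : χ n = res N χ ⟨n, hn⟩ := rfl
    have e2 : χ 1 = res N χ 1 := rfl
    rw [e1, e2, hres]
    rfl
  obtain ⟨φ, hφ1, hmφ⟩ := hex
  have hcon : Cfsg.classInner (res N χ) (φ : N → ℂ) ≠ 0 := by
    rw [hm φ]
    exact_mod_cast hmφ
  -- the inertia group of φ is N
  have hT : ∀ g : G, g ∈ N ↔ Cfsg.Agent.Lib.Helper75_Clifford.conjFun N hN (φ : N → ℂ) g = φ := by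
    intro g
    constructor
    · intro hg
      exact conjFun_of_mem N hN (isClassFunction_of_isIrrCharacter φ.2) ⟨g, hg⟩
    · intro hg
      by_contra hgN
      exact hφ1 (eq_one_of_conjFun_eq N hN g (hclass g hgN) φ.2 hg)
  obtain ⟨ψ, hψ, hind, _⟩ := corr_surj N N hN le_rfl φ.2 hT hχ hcon
  exact ⟨ψ, hψ, hind.symm⟩

end Cfsg.Agent.S1528
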