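import Cfsg.Statements.S0652
import Cfsg.Agent.S0651

set_option autoImplicit false
open Cfsg

namespace Cfsg.Agent.S0652

open Cfsg.Agent.S0650

theorem isEA_map_subtype {S : Type*} [Group S] {p : ℕ} (D : Subgroup S) {A' : Subgroup ↥D}
    (hA' : Cfsg.IsElementaryAbelian p A') : Cfsg.IsElementaryAbelian p (A'.map D.subtype) := by
  obtain ⟨hc, he⟩ := hA'
  refine ⟨Subgroup.map_isMulCommutative A' D.subtype, ?_⟩
  rintro _ ⟨a, ha, rfl⟩
  rw [← map_pow, he a ha, map_one]

theorem isEA_subgroupOf {S : Type*} [Group S] {p : ℕ} (D : Subgroup S) {V : Subgroup S}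
    (hV : Cfsg.IsElementaryAbelian p V) : Cfsg.IsElementaryAbelian p (V.subgroupOf D) := by
  obtain ⟨hc, he⟩ := hV
  refine ⟨Subgroup.subgroupOf_isMulCommutative D V, ?_⟩
  intro a ha
  apply Subtype.ext
  rw [Subgroup.mem_subgroupOf] at ha
  have := he _ ha
  simpa using this

theorem mem_image_iff {S : Type*} [Group S] {p : ℕ} (D : Subgroup S) (U : Subgroup S) :
    U ∈ (Set.image (fun A : Subgroup ↥D => A.map D.subtype)
        (Cfsg.maxElementaryAbelianSubgroups p ↥D)) ↔
      U ≤ D ∧ Cfsg.IsElementaryAbelian p U ∧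
        ∀ V : Subgroup S, V ≤ D → Cfsg.IsElementaryAbelian p V → Nat.card V ≤ Nat.card U := by
  constructor
  · rintro ⟨A', ⟨hA'c, hA'max⟩, rfl⟩
    refine ⟨Subgroup.map_subtype_le A', isEA_map_subtype D hA'c, ?_⟩
    intro V hVD hVc
    have h1 : Nat.card (A'.map D.subtype) = Nat.card A' :=
      Subgroup.card_map_of_injective D.subtype_injective
    have h2 : Nat.card (V.subgroupOf D) = Nat.card V :=
      Nat.card_congr (Subgroup.subgroupOfEquivOfLe hVD).toEquiv
    rw [h1, ← h2]
    exact hA'max _ (isEA_subgroupOf D hVc)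
  · rintro ⟨hUD, hUc, hUmax⟩
    refine ⟨U.subgroupOf D, ⟨isEA_subgroupOf D hUc, ?_⟩, ?_⟩
    · intro B' hB'
      have h1 : Nat.card (B'.map D.subtype) = Nat.card B' :=
        Subgroup.card_map_of_injective D.subtype_injective
      have h2 : Nat.card (U.subgroupOf D) = Nat.card U :=
        Nat.card_congr (Subgroup.subgroupOfEquivOfLe hUD).toEquiv
      rw [h2, ← h1]
      exact hUmax _ (Subgroup.map_subtype_le B') (isEA_map_subtype D hB')
    · show (U.subgroupOf D).map D.subtype = U
      rw [Subgroup.subgroupOf_map_subtype, inf_of_le_left hUD]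

/-- For odd p and D normal in the p-group S, the elementary abelian subgroups of D of largest order satisfy the replacement property for class-2 normal subgroups of S. -/
theorem result {S : Type*} [Group S] [Finite S] {p : ℕ} [Fact p.Prime] (hS : IsPGroup p S) (hp : p ≠ 2) (D : Subgroup S) [D.Normal] : ∀ (B : Subgroup S) [B.Normal], ⁅⁅B, B⁆, B⁆ = ⊥ → (∃ U ∈ (Set.image (fun A : Subgroup ↥D => A.map D.subtype) (Cfsg.maxElementaryAbelianSubgroups p ↥D)), ⁅B, B⁆ ≤ U ∧ ¬ B ≤ U) → ∃ A ∈ (Set.image (fun A : Subgroup ↥D => A.map D.subtype) (Cfsg.maxElementaryAbelianSubgroups p ↥D)), ⁅B, B⁆ ≤ A ∧ ¬ B ≤ A ∧ B ≤ Subgroup.normalizer (A : Set S) := by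
  intro B _ _ hex
  have hB2 : p = 2 → IsMulCommutative B := fun h => absurd h hp
  apply Cfsg.Agent.S0651.replacement_property hS B hB2 _ _ _ hex
  · intro A hA
    exact ((mem_image_iff D A).mp hA).2.1.1
  · intro A hA b h
    obtain ⟨hAD, hAc, hAmax⟩ := (mem_image_iff D A).mp hA
    rw [mem_image_iff]
    refine ⟨Cfsg.Agent.S0651.Astar_le_of_normal D hAD b, ⟨h.isMulCommutative_Astar hS hB2, ?_⟩, ?_⟩
    · intro y hy
      have h1 : Monoid.exponent (Astar A b) ∣ Monoid.exponent A :=
        h.exponent_Astar_dvd hS hB2 hp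
      have h2 : Monoid.exponent A ∣ p := by
        apply Monoid.exponent_dvd_of_forall_pow_eq_one
        intro g
        apply Subtype.ext
        have := hAc.2 g g.2
        simpa using this
      have h3 := (Monoid.exponent_dvd_iff_forall_pow_eq_one.mp (h1.trans h2)) ⟨y, hy⟩
      have := congrArg Subtype.val h3
      simpa using this
    · intro V hVD hVc
      rw [h.card_Astar hS hB2]
      exact hAmax V hVD hVc

end Cfsg.Agent.S0652
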