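import Cfsg.Statements.S0654
import Cfsg.Agent.Lib.Helper11_ZJ
import Cfsg.Agent.S0652
import Cfsg.Agent.S0655
import Cfsg.Agent.S0622
-- import your own Cfsg.Agent.* helpers here

set_option autoImplicit false
open Cfsg
open Cfsg.Agent.Lib.Helper11_ZJ

namespace Cfsg.Agent.S0654

universe u

variable {G : Type u} [Group G]

/-- the property "elementary abelian" -/
def PrEA (p : ℕ) (A : Subgroup G) : Prop := Cfsg.IsElementaryAbelian p A

theorem maxFam_eq (p : ℕ) (T : Subgroup G) :
    maxFam (PrEA p) T =
      Set.image (fun A : Subgroup ↥T => A.map T.subtype)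
        (Cfsg.maxElementaryAbelianSubgroups p ↥T) := by
  ext U
  rw [Cfsg.Agent.S0652.mem_image_iff]
  rfl

theorem family_top_eq (p : ℕ) (X : Type u) [Group X] :
    Set.image (fun A : Subgroup ↥(⊤ : Subgroup X) => A.map (⊤ : Subgroup X).subtype)
      (Cfsg.maxElementaryAbelianSubgroups p ↥(⊤ : Subgroup X)) =
        Cfsg.maxElementaryAbelianSubgroups p X := by
  ext U
  rw [Cfsg.Agent.S0652.mem_image_iff]
  constructor
  · rintro ⟨_, h1, h2⟩
    exact ⟨h1, fun V hV => h2 V le_top hV⟩
  · rintro ⟨h1, h2⟩
    exact ⟨le_top, h1, fun V _ hV => h2 V hV⟩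

theorem admissible [Finite G] {p : ℕ} [Fact p.Prime] (hp : p ≠ 2) :
    Admissible p (PrEA (G := G) p) where
  bot := Cfsg.Agent.S0655.bot_isElementaryAbelian p
  comm := fun A hA x hx y hy => by
    have hA' : IsMulCommutative A := hA.1
    have := mul_comm' (⟨x, hx⟩ : A) ⟨y, hy⟩
    exact congrArg Subtype.val this
  map := fun φ A hA => Cfsg.Agent.S0622.isElementaryAbelian_map φ.toMonoidHom hA
  replace := by
    intro S B hBS hSB hcl hex
    rw [maxFam_eq] at hex ⊢
    apply replace_transport (S : Subgroup G)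
      (Cfsg.maxElementaryAbelianSubgroups p ↥(S : Subgroup G)) ?_ B hBS hSB hcl hex
    intro B' _ hcl' hex'
    have h := Cfsg.Agent.S0652.result (S := ↥(S : Subgroup G)) S.isPGroup' hp ⊤ B' hcl'
      (by rw [family_top_eq]; exact hex')
    rw [family_top_eq] at h
    exact h

theorem omegaCenterThompson_map_eq [Finite G] {p : ℕ} [Fact p.Prime] (T : Subgroup G)
    (hT : IsPGroup p T) :
    (Cfsg.omegaCenterThompson p ↥T).map T.subtype = W (PrEA p) T := by
  have hne := Cfsg.Agent.S0655.nonempty_max (S := ↥T) p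
  unfold W
  rw [maxFam_eq, ← map_sInf_of_injective T.subtype T.subtype_injective _ hne,
    (Cfsg.Agent.S0655.result hT).1]

/-- The ZJ-Theorem for the elementary-abelian Thompson subgroup: for an odd prime p, a finite group G with C_G(O_p(G)) ≤ O_p(G) acting p-stably on its normal p-subgroups, and a Sylow p-subgroup S of G, the subgroup generated by the elements of order dividing p in Z(J_e(S)) is characteristic in G. -/
theorem result {G : Type*} [Group G] [Finite G] {p : ℕ} [Fact p.Prime] (hp : p ≠ 2) (hc : Subgroup.centralizer (Cfsg.pCore p G : Set G) ≤ Cfsg.pCore p G) (hst : ∀ (P : Subgroup G) [P.Normal], IsPGroup p P → Cfsg.IsPStableOn p P) (S : Sylow p G) : ((Cfsg.omegaCenterThompson p ↥(S : Subgroup G)).map (S : Subgroup G).subtype).Characteristic := by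
  rw [omegaCenterThompson_map_eq _ S.isPGroup']
  apply W_characteristic (admissible hp) S hc
  intro B hBn hBp
  exact stableOn_of_isPStableOn _ B (hst B hBp)

end Cfsg.Agent.S0654
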