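import Cfsg.Statements.S3079
import Cfsg.Agent.Lib.Helper11_ZJ2
import Cfsg.Agent.S0653
import Cfsg.Agent.S0654
-- import your own Cfsg.Agent.* helpers here

set_option autoImplicit false
open Cfsg

namespace Cfsg.Agent.S3079

open Cfsg.Agent.Lib.Helper11_ZJ Cfsg.Agent.Lib.Helper11_ZJ2

/-- a subgroup is commutative iff its image under an injective homomorphism is -/
theorem isMulCommutative_map_iff {H K : Type*} [Group H] [Group K] (f : H →* K)
    (hf : Function.Injective f) (A : Subgroup H) :
    IsMulCommutative (A.map f) ↔ IsMulCommutative A := by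
  constructor
  · intro h
    refine ⟨⟨fun a b => ?_⟩⟩
    have h1 := mul_comm' (⟨f a, ⟨a, a.2, rfl⟩⟩ : A.map f) ⟨f b, ⟨b, b.2, rfl⟩⟩
    have h2 : f (a * b : H) = f (b * a : H) := by
      simpa using congrArg Subtype.val h1
    exact Subtype.ext (hf h2)
  · intro h
    exact Subgroup.map_isMulCommutative A f

theorem isElementaryAbelian_map_iff {H K : Type*} [Group H] [Group K] (f : H →* K)
    (hf : Function.Injective f) (p : ℕ) (A : Subgroup H) :
    Cfsg.IsElementaryAbelian p (A.map f) ↔ Cfsg.IsElementaryAbelian p A := by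
  constructor
  · rintro ⟨h1, h2⟩
    refine ⟨(isMulCommutative_map_iff f hf A).mp h1, ?_⟩
    intro a ha
    apply hf
    rw [map_pow, map_one]
    exact h2 (f a) ⟨a, ha, rfl⟩
  · intro h
    have hA : IsMulCommutative A := h.1
    refine ⟨Subgroup.map_isMulCommutative A f, ?_⟩
    rintro _ ⟨a, ha, rfl⟩
    rw [← map_pow, h.2 a ha, map_one]

theorem admissibleD_ab {G : Type*} [Group G] [Finite G] {p : ℕ} [Fact p.Prime] (hp : p ≠ 2) :
    AdmissibleD p (Cfsg.Agent.S0653.PrAb (G := G)) where
  bot := (Cfsg.Agent.S0653.admissible (G := G) (p := p) hp).bot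
  comm := (Cfsg.Agent.S0653.admissible (G := G) (p := p) hp).comm
  map := (Cfsg.Agent.S0653.admissible (G := G) (p := p) hp).map
  replace := by
    intro S D B hDS hSD hBS hSB hcl hex
    refine replaceD_transport S (Pr := Cfsg.Agent.S0653.PrAb) (Pr' := Cfsg.Agent.S0653.PrAb)
      (fun A' => (isMulCommutative_map_iff _ (S : Subgroup G).subtype_injective A').symm)
      ?_ D B hDS hSD hBS hSB hcl hex
    intro D' _ B' _ hcl' hex'
    rw [Cfsg.Agent.S0653.maxFam_eq] at hex' ⊢
    exact Cfsg.Agent.S0651.result (S := ↥(S : Subgroup G)) S.isPGroup' hp D' B' hcl' hex'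

theorem admissibleD_ea {G : Type*} [Group G] [Finite G] {p : ℕ} [Fact p.Prime] (hp : p ≠ 2) :
    AdmissibleD p (Cfsg.Agent.S0654.PrEA (G := G) p) where
  bot := (Cfsg.Agent.S0654.admissible (G := G) (p := p) hp).bot
  comm := (Cfsg.Agent.S0654.admissible (G := G) (p := p) hp).comm
  map := (Cfsg.Agent.S0654.admissible (G := G) (p := p) hp).map
  replace := by
    intro S D B hDS hSD hBS hSB hcl hex
    refine replaceD_transport S (Pr := Cfsg.Agent.S0654.PrEA p) (Pr' := Cfsg.Agent.S0654.PrEA p)
      (fun A' => (isElementaryAbelian_map_iff _ (S : Subgroup G).subtype_injective p A').symm)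
      ?_ D B hDS hSD hBS hSB hcl hex
    intro D' _ B' _ hcl' hex'
    rw [Cfsg.Agent.S0654.maxFam_eq] at hex' ⊢
    exact Cfsg.Agent.S0652.result (S := ↥(S : Subgroup G)) S.isPGroup' hp D' B' hcl' hex'

theorem omegaOne_map {H K : Type*} [Group H] [Group K] (f : H →* K)
    (hf : Function.Injective f) (p : ℕ) (A : Subgroup H) :
    Cfsg.omegaOne p (A.map f) = (Cfsg.omegaOne p A).map f := by
  unfold Cfsg.omegaOne
  rw [MonoidHom.map_closure]
  congr 1
  ext y
  simp only [Set.mem_ofPred_eq, Set.mem_image, Subgroup.mem_map]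
  constructor
  · rintro ⟨⟨x, hx, rfl⟩, hy⟩
    refine ⟨x, ⟨hx, ?_⟩, rfl⟩
    apply hf
    rw [map_pow, map_one]
    exact hy
  · rintro ⟨x, ⟨hx, hxp⟩, rfl⟩
    exact ⟨⟨x, hx, rfl⟩, by rw [← map_pow, hxp, map_one]⟩

theorem omegaOne_centerThompsonOf_eq {G : Type*} [Group G] [Finite G] {p : ℕ} [Fact p.Prime]
    (T : Subgroup G) (hT : IsPGroup p T) :
    Cfsg.omegaOne p (Cfsg.centerThompsonOf p T) = W (Cfsg.Agent.S0654.PrEA p) T := by
  rw [← Cfsg.Agent.S0654.omegaCenterThompson_map_eq T hT]
  unfold Cfsg.centerThompsonOf Cfsg.thompsonSubgroupOf Cfsg.omegaCenterThompson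
  rw [← Cfsg.Agent.S0622.map_inf_centralizer_of_injective T.subtype T.subtype_injective,
    omegaOne_map T.subtype T.subtype_injective]

/-- Glauberman's ZJ-Theorem for strongly closed subgroups, p odd. Let G be a finite group that is p-stable in the normalizer form (for every p-subgroup U and g ∈ N_G(U) with [U, g, g] = 1, the image of g lies in O_p(N_G(U)/C_G(U))), with C_G(O_p(G)) ≤ O_p(G), let P be a Sylow p-subgroup and D a subgroup of P strongly closed in P with respect to G. Then Z(J(D)) is normal in G, where J(D) is generated by the abelian subgroups of D of largest order; and so is Ω₁(Z(J_e(D))), where J_e(D) is generated by the elementary abelian subgroups of D of largest order. -/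
theorem result {G : Type*} [Group G] [Finite G] {p : ℕ} [Fact p.Prime] (hp : p ≠ 2) (P : Sylow p G) (D : Subgroup G) (hD : Cfsg.IsStronglyClosed D (P : Subgroup G)) (hst : Cfsg.IsNormalizerPStable p G) (hc : Subgroup.centralizer ((Cfsg.pCore p G : Subgroup G) : Set G) ≤ Cfsg.pCore p G) : (Cfsg.centerThompsonAOf D).Normal ∧ (Cfsg.omegaOne p (Cfsg.centerThompsonOf p D)).Normal := by
  obtain ⟨hDP, hsc⟩ := hD
  have hst' : ∀ B : Subgroup G, B.Normal → IsPGroup p B → StableOn p (P : Subgroup G) B :=
    fun B hBn hBp => stableOn_of_isNormalizerPStable hst _ B hBp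
  constructor
  · rw [Cfsg.Agent.S0653.centerThompsonAOf_eq]
    exact W_normalD (admissibleD_ab hp) P D hDP hsc hc hst'
  · rw [omegaOne_centerThompsonOf_eq D (P.isPGroup'.to_le hDP)]
    exact W_normalD (admissibleD_ea hp) P D hDP hsc hc hst'

end Cfsg.Agent.S3079
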