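import Cfsg.Statements.S0609
import Cfsg.Agent.S0622
import Cfsg.Agent.S0608
import Cfsg.Agent.Lib.Helper34_Sylow
import Cfsg.Agent.Lib.Helper32_Cores
import Cfsg.Agent.Lib.Helper1_Cores
import Cfsg.Agent.Lib.Helper32_Sylow
-- import your own Cfsg.Agent.* helpers here

set_option autoImplicit false
open Cfsg
open Cfsg.Agent.Lib.Helper34_Sylow

namespace Cfsg.Agent.S0609

universe u

section transport

variable {G H : Type u} [Group G] [Group H]

/-- image of the centre of `S` under a homomorphism injective on `S` -/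
theorem map_inf_centralizer_of_injOn (f : G →* H) (S : Subgroup G)
    (hinj : ∀ x ∈ S, f x = 1 → x = 1) :
    (S ⊓ Subgroup.centralizer (S : Set G)).map f =
      S.map f ⊓ Subgroup.centralizer ((S.map f : Subgroup H) : Set H) := by
  ext y
  simp only [Subgroup.mem_map, Subgroup.mem_inf, Subgroup.mem_centralizer_iff, SetLike.mem_coe]
  constructor
  · rintro ⟨x, ⟨hxJ, hxC⟩, rfl⟩
    refine ⟨⟨x, hxJ, rfl⟩, ?_⟩
    rintro _ ⟨z, hz, rfl⟩
    rw [← map_mul, ← map_mul, hxC z hz]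
  · rintro ⟨⟨x, hxJ, rfl⟩, hyC⟩
    refine ⟨x, ⟨hxJ, ?_⟩, rfl⟩
    intro z hz
    have h1 : f ((z * x) * (x * z)⁻¹) = 1 := by
      rw [map_mul, map_inv, map_mul, map_mul, hyC (f z) ⟨z, hz, rfl⟩, mul_inv_cancel]
    have h2 := hinj _ (S.mul_mem (S.mul_mem hz hxJ) (S.inv_mem (S.mul_mem hxJ hz))) h1
    exact mul_inv_eq_one.mp h2

theorem omegaOne_map_of_injOn (f : G →* H) (p : ℕ) (K : Subgroup G)
    (hinj : ∀ x ∈ K, f x = 1 → x = 1) :
    (Cfsg.omegaOne p K).map f = Cfsg.omegaOne p (K.map f) := by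
  apply le_antisymm (Cfsg.Agent.S0622.omegaOne_map_le f p K)
  unfold Cfsg.omegaOne
  rw [MonoidHom.map_closure]
  apply Subgroup.closure_mono
  rintro _ ⟨⟨x, hx, rfl⟩, hxp⟩
  refine ⟨x, ⟨hx, ?_⟩, rfl⟩
  apply hinj _ (K.pow_mem hx p)
  rw [map_pow, hxp]

theorem thompsonSubgroupOf_map_of_injOn (f : G →* H) (p : ℕ) (S : Subgroup G)
    (hinj : ∀ x ∈ S, f x = 1 → x = 1) :
    (Cfsg.thompsonSubgroupOf p S).map f = Cfsg.thompsonSubgroupOf p (S.map f) := by
  have hbij : Function.Bijective (f.subgroupMap S) := by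
    refine ⟨?_, f.subgroupMap_surjective S⟩
    rw [injective_iff_map_eq_one]
    intro x hx
    apply Subtype.ext
    apply hinj _ x.2
    have := congrArg Subtype.val hx
    simpa using this
  let e : ↥S ≃* ↥(S.map f) := MulEquiv.ofBijective (f.subgroupMap S) hbij
  have h1 := Cfsg.Agent.S0622.thompson_map e p
  unfold Cfsg.thompsonSubgroupOf
  rw [← h1, Subgroup.map_map, Subgroup.map_map]
  rfl

end transport

section lifting

variable {G : Type u} [Group G]

/-- lifting normalizers through a quotient by a normal `p'`-subgroup -/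
theorem exists_mul_mem_normalizer [Finite G] {p : ℕ} [Fact p.Prime] (N : Subgroup G) [N.Normal]
    (hN : (Nat.card N).Coprime p) (J : Subgroup G) (hJ : IsPGroup p J) (n : G)
    (hn : cj n J ≤ J ⊔ N) : ∃ m ∈ N, m * n ∈ Subgroup.normalizer (J : Set G) := by
  have hidx : ¬ p ∣ J.relIndex (J ⊔ N) := by
    rw [← Cfsg.Agent.S0608.relIndex_inf_of_normal]
    intro hdvd
    have h2 : (J ⊓ N).relIndex N ∣ Nat.card N := Subgroup.relIndex_dvd_card _ _
    have h3 := Nat.Coprime.coprime_dvd_left h2 hN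
    have hp : p.Prime := Fact.out
    exact hp.one_lt.ne' (Nat.eq_one_of_dvd_coprimes h3 hdvd dvd_rfl)
  obtain ⟨x, hx, hxJ⟩ := exists_cj_le_of_relIndex hJ hidx hn (isPGroup_cj hJ)
  have heq : cj (x * n) J = J := by
    rw [cj_mul]
    apply Subgroup.eq_of_le_of_card_ge hxJ
    rw [card_cj, card_cj]
  obtain ⟨j, hj, m, hm, rfl⟩ := Subgroup.mem_sup_of_normal_right.mp hx
  refine ⟨m, hm, ?_⟩
  have h1 : j * m * n ∈ Subgroup.normalizer (J : Set G) :=
    Subgroup.mem_normalizer_iff_map_conj_eq.mpr heq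
  have h2 : j⁻¹ ∈ Subgroup.normalizer (J : Set G) := Subgroup.le_normalizer (J.inv_mem hj)
  have := Subgroup.mul_mem _ h2 h1
  rwa [mul_assoc, inv_mul_cancel_left] at this

/-- lifting centralizers through a quotient by a normal `p'`-subgroup -/
theorem exists_mul_mem_centralizer [Finite G] {p : ℕ} [Fact p.Prime] (N : Subgroup G) [hNn : N.Normal]
    (hN : (Nat.card N).Coprime p) (Z : Subgroup G) (hZ : IsPGroup p Z) (c : G)
    (hc : ∀ z ∈ Z, c * z * c⁻¹ * z⁻¹ ∈ N) : ∃ m ∈ N, m * c ∈ Subgroup.centralizer (Z : Set G) := by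
  have hcj : cj c Z ≤ Z ⊔ N := by
    rintro _ ⟨z, hz, rfl⟩
    have : (MulAut.conj c).toMonoidHom z = z * (z⁻¹ * (c * z * c⁻¹ * z⁻¹) * z) := by
      simp [MulAut.conj_apply]; group
    rw [this]
    apply Subgroup.mul_mem_sup hz
    have := hNn.conj_mem _ (hc z hz) z⁻¹
    simpa using this
  obtain ⟨m, hm, hmn⟩ := exists_mul_mem_normalizer N hN Z hZ c hcj
  refine ⟨m, hm, ?_⟩
  have hinf : Z ⊓ N = ⊥ := Cfsg.Agent.Lib.Helper32_Sylow.inf_eq_bot_of_pgroup_of_coprime hZ hN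
  rw [Subgroup.mem_centralizer_iff]
  intro z hz
  have h1 : (m * c) * z * (m * c)⁻¹ * z⁻¹ ∈ Z :=
    Z.mul_mem ((Subgroup.mem_normalizer_iff.mp hmn z).mp hz) (Z.inv_mem hz)
  have h2 : (m * c) * z * (m * c)⁻¹ * z⁻¹ ∈ N := by
    have : (m * c) * z * (m * c)⁻¹ * z⁻¹ = m * (c * z * c⁻¹ * z⁻¹) * (z * m⁻¹ * z⁻¹) := by group
    rw [this]
    exact N.mul_mem (N.mul_mem hm (hc z hz)) (hNn.conj_mem _ (N.inv_mem hm) z)
  have h3 : (m * c) * z * (m * c)⁻¹ * z⁻¹ ∈ Z ⊓ N := ⟨h1, h2⟩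
  rw [hinf, Subgroup.mem_bot] at h3
  have : z * (m * c) = ((m * c) * z * (m * c)⁻¹ * z⁻¹)⁻¹ * ((m * c) * z) := by group
  rw [this, h3, inv_one, one_mul]

end lifting

section main

variable {G : Type u} [Group G] {p : ℕ}

/-- `Ω₁(Z(S))` as a subgroup of `G`. -/
abbrev ZZ (p : ℕ) (S : Subgroup G) : Subgroup G :=
  Cfsg.omegaOne p (S ⊓ Subgroup.centralizer (S : Set G))

theorem ZZ_le (S : Subgroup G) : ZZ p S ≤ S := by
  unfold ZZ Cfsg.omegaOne
  rw [Subgroup.closure_le]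
  rintro x ⟨hx, -⟩
  exact hx.1

theorem ZZ_map_of_injOn {H : Type u} [Group H] (f : G →* H) (S : Subgroup G)
    (hinj : ∀ x ∈ S, f x = 1 → x = 1) : (ZZ p S).map f = ZZ p (S.map f) := by
  unfold ZZ
  have h1 : ∀ x ∈ S ⊓ Subgroup.centralizer (S : Set G), f x = 1 → x = 1 :=
    fun x hx => hinj x (Subgroup.mem_inf.mp hx).1
  rw [omegaOne_map_of_injOn f p _ h1, map_inf_centralizer_of_injOn f S hinj]

theorem thompsonSubgroupOf_le (S : Subgroup G) : Cfsg.thompsonSubgroupOf p S ≤ S :=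
  Subgroup.map_subtype_le _

end main

/-- Thompson factorizability passes to and from the quotient by the largest normal subgroup of order prime to p. -/
theorem result {G : Type*} [Group G] [Finite G] {p : ℕ} [Fact p.Prime] : Cfsg.IsThompsonFactorizable p G ↔ Cfsg.IsThompsonFactorizable p (G ⧸ Cfsg.pPrimeCore p G) := by
  have hN : (Nat.card (pPrimeCore p G)).Coprime p :=
    Cfsg.Agent.Lib.Helper1_Cores.pPrimeCore_card_coprime p
  have hbot := Cfsg.Agent.Lib.Helper32_Cores.pPrimeCore_quotient_eq_bot (G := G) p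
  have hsurj := QuotientGroup.mk'_surjective (pPrimeCore p G)
  have hker : ∀ x : G, QuotientGroup.mk' (pPrimeCore p G) x = 1 ↔ x ∈ pPrimeCore p G := by
    intro x
    rw [QuotientGroup.mk'_apply, QuotientGroup.eq_one_iff]
  -- injectivity on Sylow subgroups
  have hinj : ∀ S : Sylow p G, ∀ x ∈ (S : Subgroup G),
      QuotientGroup.mk' (pPrimeCore p G) x = 1 → x = 1 := by
    intro S x hx h1
    have h2 : x ∈ (S : Subgroup G) ⊓ pPrimeCore p G := ⟨hx, (hker x).mp h1⟩
    rw [Cfsg.Agent.Lib.Helper32_Sylow.inf_eq_bot_of_pgroup_of_coprime S.isPGroup' hN,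
      Subgroup.mem_bot] at h2
    exact h2
  constructor
  · intro hG T gbar
    obtain ⟨S, rfl⟩ := Sylow.mapSurjective_surjective hsurj p T
    obtain ⟨g, rfl⟩ := hsurj gbar
    obtain ⟨x, hx, c, hc, n, hn, rfl⟩ := hG S g
    rw [Sylow.coe_mapSurjective]
    refine ⟨1, Subgroup.one_mem _, QuotientGroup.mk' (pPrimeCore p G) c, ?_,
      QuotientGroup.mk' (pPrimeCore p G) n, ?_, ?_⟩
    · have := ZZ_map_of_injOn (p := p) (QuotientGroup.mk' (pPrimeCore p G)) (S : Subgroup G) (hinj S)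
      unfold ZZ at this
      rw [← this, Subgroup.mem_centralizer_iff]
      rintro _ ⟨z, hz, rfl⟩
      rw [← map_mul, ← map_mul, Subgroup.mem_centralizer_iff.mp hc z hz]
    · rw [← thompsonSubgroupOf_map_of_injOn (QuotientGroup.mk' (pPrimeCore p G)) p (S : Subgroup G)
        (hinj S)]
      exact Subgroup.le_normalizer_map _ (Subgroup.mem_map_of_mem _ hn)
    · rw [map_mul, map_mul, (hker x).mpr hx]
  · intro hQ S g
    obtain ⟨xbar, hxbar, cbar, hcbar, nbar, hnbar, hg⟩ :=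
      hQ (S.mapSurjective hsurj) (QuotientGroup.mk' (pPrimeCore p G) g)
    rw [Sylow.coe_mapSurjective] at hcbar hnbar
    rw [hbot, Subgroup.mem_bot] at hxbar
    obtain ⟨c, rfl⟩ := hsurj cbar
    obtain ⟨n, rfl⟩ := hsurj nbar
    -- lift the centralizing element
    have hZmap := ZZ_map_of_injOn (p := p) (QuotientGroup.mk' (pPrimeCore p G)) (S : Subgroup G)
      (hinj S)
    unfold ZZ at hZmap
    rw [← hZmap] at hcbar
    have hc' : ∀ z ∈ Cfsg.omegaOne p ((S : Subgroup G) ⊓ Subgroup.centralizer ((S : Subgroup G) : Set G)),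
        c * z * c⁻¹ * z⁻¹ ∈ pPrimeCore p G := by
      intro z hz
      rw [← hker]
      have := Subgroup.mem_centralizer_iff.mp hcbar _ (Subgroup.mem_map_of_mem _ hz)
      rw [map_mul, map_mul, map_mul, map_inv, map_inv, ← this]
      group
    have hZp : IsPGroup p (Cfsg.omegaOne p ((S : Subgroup G) ⊓
        Subgroup.centralizer ((S : Subgroup G) : Set G)) : Subgroup G) :=
      S.isPGroup'.to_le (ZZ_le (p := p) (S : Subgroup G))
    obtain ⟨m₁, hm₁, hm₁c⟩ := exists_mul_mem_centralizer (pPrimeCore p G) hN _ hZp c hc'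
    -- lift the normalizing element
    rw [← thompsonSubgroupOf_map_of_injOn (QuotientGroup.mk' (pPrimeCore p G)) p (S : Subgroup G)
        (hinj S)] at hnbar
    have hn' : cj n (Cfsg.thompsonSubgroupOf p (S : Subgroup G)) ≤
        Cfsg.thompsonSubgroupOf p (S : Subgroup G) ⊔ pPrimeCore p G := by
      rintro _ ⟨j, hj, rfl⟩
      have h1 : QuotientGroup.mk' (pPrimeCore p G) ((MulAut.conj n).toMonoidHom j) ∈
          (Cfsg.thompsonSubgroupOf p (S : Subgroup G)).map (QuotientGroup.mk' (pPrimeCore p G)) := by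
        have := (Subgroup.mem_normalizer_iff.mp hnbar _).mp (Subgroup.mem_map_of_mem
          (QuotientGroup.mk' (pPrimeCore p G)) hj)
        simpa [MulAut.conj_apply] using this
      rw [← Subgroup.mem_comap, Subgroup.comap_map_eq, QuotientGroup.ker_mk'] at h1
      exact h1
    have hJp : IsPGroup p (Cfsg.thompsonSubgroupOf p (S : Subgroup G)) :=
      S.isPGroup'.to_le (thompsonSubgroupOf_le (p := p) (S : Subgroup G))
    obtain ⟨m₂, hm₂, hm₂n⟩ := exists_mul_mem_normalizer (pPrimeCore p G) hN _ hJp n hn'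
    refine ⟨g * (m₁ * c * (m₂ * n))⁻¹, ?_, m₁ * c, hm₁c, m₂ * n, hm₂n, by group⟩
    rw [← hker, map_mul, map_inv, map_mul, map_mul, map_mul, (hker m₁).mpr hm₁, (hker m₂).mpr hm₂,
      hg, hxbar]
    group

end Cfsg.Agent.S0609
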