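import Cfsg.Statements.S0667
import Cfsg.Agent.Lib.Helper11_ZJ3
import Cfsg.Agent.Lib.Helper23_PConstrained
import Cfsg.Agent.S0653
-- import your own Cfsg.Agent.* helpers here

set_option autoImplicit false
open Cfsg

namespace Cfsg.Agent.S0667

open Cfsg.Agent.Lib.Helper11_ZJ Cfsg.Agent.Lib.Helper11_ZJ3 Cfsg.Agent.Lib.Helper34_Sylow

/-- commutativity of a subgroup is detected on its image under a homomorphism injective on it -/
theorem isMulCommutative_map_iff_of_injOn {G H : Type*} [Group G] [Group H] (f : G →* H)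
    (A : Subgroup G) (hinj : ∀ x ∈ A, f x = 1 → x = 1) :
    IsMulCommutative (A.map f) ↔ IsMulCommutative A := by
  constructor
  · intro h
    refine ⟨⟨fun a b => ?_⟩⟩
    have h1 := mul_comm' (⟨f a, ⟨a, a.2, rfl⟩⟩ : A.map f) ⟨f b, ⟨b, b.2, rfl⟩⟩
    have h2 : f (a * b : G) = f (b * a : G) := by
      simpa using congrArg Subtype.val h1
    apply Subtype.ext
    exact eq_of_map_eq_of_injOn f A hinj (A.mul_mem a.2 b.2) (A.mul_mem b.2 a.2) h2
  · intro h
    exact Subgroup.map_isMulCommutative A f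

/-- lifting normality of the image through the quotient by a normal `p'`-subgroup -/
theorem sup_normalizer_eq_top_of_map_normal {G : Type*} [Group G] [Finite G] {p : ℕ}
    [Fact p.Prime] (K : Subgroup G) [hKn : K.Normal] (hK : (Nat.card K).Coprime p)
    (Z : Subgroup G) (hZ : IsPGroup p Z) (hn : (Z.map (QuotientGroup.mk' K)).Normal) :
    K ⊔ Subgroup.normalizer (Z : Set G) = ⊤ := by
  rw [eq_top_iff]
  intro g _
  have hcj : cj g Z ≤ Z ⊔ K := by
    rintro _ ⟨x, hx, rfl⟩
    have h1 : QuotientGroup.mk' K (g * x * g⁻¹) ∈ Z.map (QuotientGroup.mk' K) := by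
      rw [map_mul, map_mul, map_inv]
      exact hn.conj_mem _ ⟨x, hx, rfl⟩ _
    obtain ⟨w, hw, hwx⟩ := h1
    have hk : w⁻¹ * (g * x * g⁻¹) ∈ K := by
      rw [← QuotientGroup.ker_mk' K, MonoidHom.mem_ker, map_mul, map_inv, hwx, inv_mul_cancel]
    have e : (MulAut.conj g).toMonoidHom x = w * (w⁻¹ * (g * x * g⁻¹)) := by
      simp [MulAut.conj_apply]
    rw [e]
    exact Subgroup.mul_mem_sup hw hk
  obtain ⟨m, hm, hmg⟩ := Cfsg.Agent.S0609.exists_mul_mem_normalizer K hK Z hZ g hcj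
  have e : g = m⁻¹ * (m * g) := by group
  rw [e]
  exact Subgroup.mul_mem_sup (K.inv_mem hm) hmg

/-- Glauberman's Theorem in the p-constrained, p-stable vocabulary: for odd p such a group is the product of its largest normal subgroup of order prime to p with the normalizer of Z(J(P)), and Z(J(P)) is normal when that p'-subgroup is trivial. -/
theorem result {G : Type*} [Group G] [Finite G] {p : ℕ} [Fact p.Prime] (hp : p ≠ 2) (hc : Cfsg.IsPConstrained p G) (hs : Cfsg.IsPStable p G) (P : Sylow p G) : Cfsg.pPrimeCore p G ⊔ Subgroup.normalizer (Cfsg.centerThompsonAOf ((P : Subgroup G)) : Set G) = ⊤ ∧ (Cfsg.pPrimeCore p G = ⊥ → (Cfsg.centerThompsonAOf ((P : Subgroup G))).Normal) := by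
  have hc' := (Cfsg.Agent.Lib.Helper23_PConstrained.isPConstrained_iff_centralizer_pCore_le p).mp hc
  have hKcop : (Nat.card (Cfsg.pPrimeCore p G)).Coprime p :=
    Cfsg.Agent.Lib.Helper1_Cores.pPrimeCore_card_coprime p
  have hπsurj : Function.Surjective (QuotientGroup.mk' (Cfsg.pPrimeCore p G)) :=
    QuotientGroup.mk'_surjective _
  have hinj : ∀ x ∈ (P : Subgroup G), QuotientGroup.mk' (Cfsg.pPrimeCore p G) x = 1 → x = 1 := by
    intro x hx h1
    have hxK : x ∈ Cfsg.pPrimeCore p G := by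
      rw [← QuotientGroup.ker_mk' (Cfsg.pPrimeCore p G)]; exact h1
    have h2 : x ∈ (P : Subgroup G) ⊓ Cfsg.pPrimeCore p G := ⟨hx, hxK⟩
    rw [Cfsg.Agent.Lib.Helper32_Sylow.inf_eq_bot_of_pgroup_of_coprime P.isPGroup' hKcop,
      Subgroup.mem_bot] at h2
    exact h2
  have hWn : (W Cfsg.Agent.S0653.PrAb
      (((P.mapSurjective hπsurj : Sylow p (G ⧸ Cfsg.pPrimeCore p G)) :
        Subgroup (G ⧸ Cfsg.pPrimeCore p G)))).Normal := by
    apply W_normal (Cfsg.Agent.S0653.admissible hp) (P.mapSurjective hπsurj) hc'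
    intro B hBn hBp
    exact stableOn_quotient_of_isPStable hs P B hBp
  rw [Sylow.coe_mapSurjective] at hWn
  have hWmap : W Cfsg.Agent.S0653.PrAb
      ((P : Subgroup G).map (QuotientGroup.mk' (Cfsg.pPrimeCore p G))) =
      (W Cfsg.Agent.S0653.PrAb (P : Subgroup G)).map (QuotientGroup.mk' (Cfsg.pPrimeCore p G)) :=
    W_map_of_injOn _ _ hinj (Cfsg.Agent.S0653.admissible (G := G) (p := p) hp).bot
      (fun A hA => isMulCommutative_map_iff_of_injOn _ A (fun x hx => hinj x (hA hx)))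
  rw [hWmap] at hWn
  rw [Cfsg.Agent.S0653.centerThompsonAOf_eq]
  have hWp : IsPGroup p (W Cfsg.Agent.S0653.PrAb (P : Subgroup G)) :=
    P.isPGroup'.to_le (W_le (Cfsg.Agent.S0653.admissible (G := G) (p := p) hp).bot _)
  have key := sup_normalizer_eq_top_of_map_normal (Cfsg.pPrimeCore p G) hKcop _ hWp hWn
  refine ⟨key, ?_⟩
  intro hbot
  rw [hbot, bot_sup_eq] at key
  exact Subgroup.normalizer_eq_top_iff.mp key

end Cfsg.Agent.S0667
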