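import Cfsg.Statements.S0658
import Cfsg.Agent.S0667
import Cfsg.Agent.Lib.Helper1_ZJFunctor
import Cfsg.Agent.Lib.Helper34_NPC
import Cfsg.Agent.Lib.Helper34_Sylow
import Cfsg.Agent.Lib.Helper35_FrobeniusNPC

set_option autoImplicit false
open Cfsg

namespace Cfsg.Agent.S0658

open Cfsg.Agent.Lib.Helper1_ZJFunctor Cfsg.Agent.Lib.Helper34_NPC Cfsg.Agent.Lib.Helper34_Sylow

universe u

section

variable {G : Type u} [Group G] [Finite G] {p : ℕ} [Fact p.Prime]

omit [Finite G] in
theorem zj_le (R : Subgroup G) : Cfsg.centerThompsonAOf R ≤ R := by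
  rw [← inducedFunctor_WZJ]
  exact inducedFunctor_le _ R

theorem zj_ne_bot {R : Subgroup G} (hR : IsPGroup p R) (hne : R ≠ ⊥) :
    Cfsg.centerThompsonAOf R ≠ ⊥ := by
  rw [← inducedFunctor_WZJ]
  exact inducedFunctor_ne_bot (isCharPFunctor_WZJ p) hR hne

theorem normalizer_le_normalizer_zj {R : Subgroup G} (hR : IsPGroup p R) :
    Subgroup.normalizer (R : Set G) ≤ Subgroup.normalizer (Cfsg.centerThompsonAOf R : Set G) := by
  rw [← inducedFunctor_WZJ]
  exact normalizer_le_normalizer_inducedFunctor (isCharPFunctor_WZJ p) R hR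

/-- `Z(J(R))` computed inside a subgroup `N ≥ R` -/
theorem zj_subgroupOf {R N : Subgroup G} (hR : IsPGroup p R) (hRN : R ≤ N) :
    (Cfsg.centerThompsonAOf (R.subgroupOf N)).map N.subtype = Cfsg.centerThompsonAOf R := by
  have hR' : IsPGroup p (R.subgroupOf N) := hR.comap_subtype
  have h := inducedFunctor_map (isCharPFunctor_WZJ p) N.subtype (R.subgroupOf N) hR'
    (fun x _ hx => Subtype.ext hx)
  rw [inducedFunctor_WZJ, inducedFunctor_WZJ, Subgroup.subgroupOf_map_subtype,
    inf_eq_left.mpr hRN] at h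
  exact h.symm

/-- The local ZJ-theorem: if `N = N_G(Q)` has trivial `p'`-core and is `p`-constrained and
`p`-stable, and `R` is a Sylow `p`-subgroup of `N`, then `N` normalizes `Z(J(R))`. -/
theorem le_normalizer_zj_of_local (hp : p ≠ 2) {N R : Subgroup G}
    (hO : Cfsg.pPrimeCore p ↥N = ⊥) (hc : Cfsg.IsPConstrained p ↥N) (hs : Cfsg.IsPStable p ↥N)
    (hRN : R ≤ N) (hR : IsPGroup p R) (hidx : ¬ p ∣ R.relIndex N) :
    N ≤ Subgroup.normalizer (Cfsg.centerThompsonAOf R : Set G) := by
  have hR' : IsPGroup p (R.subgroupOf N) := hR.comap_subtype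
  let RS : Sylow p ↥N := hR'.toSylow hidx
  have hRS : ((RS : Sylow p ↥N) : Subgroup ↥N) = R.subgroupOf N := IsPGroup.toSylow_coe _ _
  have hn := (Cfsg.Agent.S0667.result hp hc hs RS).2 hO
  rw [hRS] at hn
  intro n hnN
  apply Subgroup.mem_normalizer_fintype
  intro x hx
  rw [SetLike.mem_coe, ← zj_subgroupOf hR hRN] at hx ⊢
  obtain ⟨y, hy, rfl⟩ := hx
  exact ⟨⟨n, hnN⟩ * y * ⟨n, hnN⟩⁻¹, hn.conj_mem y hy ⟨n, hnN⟩, rfl⟩

theorem main_aux (hp : p ≠ 2)
    (hloc : ∀ Q : Subgroup G, IsPGroup p Q → Q ≠ ⊥ →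
      Cfsg.pPrimeCore p ↥(Subgroup.normalizer (Q : Set G)) = ⊥ ∧
      Cfsg.IsPConstrained p ↥(Subgroup.normalizer (Q : Set G)) ∧
      Cfsg.IsPStable p ↥(Subgroup.normalizer (Q : Set G)))
    (P : Sylow p G) :
    ∀ n : ℕ, ∀ Q : Subgroup G, Q ≤ (P : Subgroup G) → Q ≠ ⊥ →
      Nat.card (P : Subgroup G) -
        Nat.card ((P : Subgroup G) ⊓ Subgroup.normalizer (Q : Set G) : Subgroup G) = n →
      Subgroup.normalizer (Q : Set G) ≤
        Subgroup.normalizer (Cfsg.centerThompsonAOf (P : Subgroup G) : Set G) := by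
  intro n
  induction n using Nat.strong_induction_on with
  | _ n ih =>
    intro Q hQP hQ1 hn
    set N := Subgroup.normalizer (Q : Set G) with hN
    set R := (P : Subgroup G) ⊓ N with hR
    set M := Subgroup.normalizer (Cfsg.centerThompsonAOf (P : Subgroup G) : Set G) with hM
    have hQp : IsPGroup p Q := P.2.to_le hQP
    obtain ⟨hO, hc, hs⟩ := hloc Q hQp hQ1
    have hRP : R ≤ (P : Subgroup G) := inf_le_left
    have hRN : R ≤ N := inf_le_right
    have hRp : IsPGroup p R := P.2.to_le hRP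
    have hQR : Q ≤ R := le_inf hQP Subgroup.le_normalizer
    have hR1 : R ≠ ⊥ := fun h => hQ1 (le_bot_iff.mp (h ▸ hQR))
    have hPM : (P : Subgroup G) ≤ M :=
      Subgroup.le_normalizer.trans (normalizer_le_normalizer_zj P.2)
    have hcardle : Nat.card R ≤ Nat.card (P : Subgroup G) := Subgroup.card_le_of_le hRP
    have ih' : ∀ Q' : Subgroup G, Q' ≤ (P : Subgroup G) → Q' ≠ ⊥ →
        Nat.card R < Nat.card ((P : Subgroup G) ⊓ Subgroup.normalizer (Q' : Set G) : Subgroup G) →
        Subgroup.normalizer (Q' : Set G) ≤ M := by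
      intro Q' h1 h2 h3
      have h4 : Nat.card ((P : Subgroup G) ⊓ Subgroup.normalizer (Q' : Set G) : Subgroup G) ≤
          Nat.card (P : Subgroup G) := Subgroup.card_le_of_le inf_le_left
      exact ih _ (by omega) Q' h1 h2 rfl
    by_cases hRP' : R = (P : Subgroup G)
    · have hPN : (P : Subgroup G) ≤ N := hRP' ▸ hRN
      have hidx : ¬ p ∣ (P : Subgroup G).relIndex N := fun h =>
        P.not_dvd_index (h.trans (Subgroup.relIndex_dvd_index_of_le hPN))
      exact le_normalizer_zj_of_local hp hO hc hs hPN P.2 hidx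
    · have hNR : Nat.card R <
          Nat.card ((P : Subgroup G) ⊓ Subgroup.normalizer (R : Set G) : Subgroup G) := by
        obtain ⟨x, hxP, hxN, hxR⟩ :=
          Cfsg.Agent.Lib.Helper35_FrobeniusNPC.exists_mem_normalizer_not_mem P.2 hRP hRP'
        apply Cfsg.Agent.Lib.Helper11_ZJ.card_lt_of_lt
        refine lt_of_le_of_ne (le_inf hRP Subgroup.le_normalizer) ?_
        intro h
        apply hxR
        rw [h]
        exact ⟨hxP, hxN⟩
      have hNRM : Subgroup.normalizer (R : Set G) ≤ M := ih' R hRP hR1 hNR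
      by_cases hidx : p ∣ R.relIndex N
      · have hR' : IsPGroup p (R.subgroupOf N) := hRp.comap_subtype
        obtain ⟨S', hS'⟩ := hR'.exists_le_sylow
        set Rs := (S' : Subgroup N).map N.subtype with hRs
        have hRsN : Rs ≤ N := Subgroup.map_subtype_le _
        have hRsp : IsPGroup p Rs := S'.2.map _
        have hRRs : R ≤ Rs := by
          intro x hx
          exact ⟨⟨x, hRN hx⟩, hS' (Subgroup.mem_subgroupOf.mpr hx), rfl⟩
        have hne : R ≠ Rs := by
          intro h
          apply S'.not_dvd_index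
          have h1 : (S' : Subgroup N) = R.subgroupOf N := by
            rw [h, hRs]
            ext y
            rw [Subgroup.mem_subgroupOf]
            constructor
            · intro hy
              exact ⟨y, hy, rfl⟩
            · rintro ⟨z, hz, hzy⟩
              have : z = y := Subtype.ext hzy
              rwa [← this]
          rw [h1]
          exact hidx
        obtain ⟨x, hxRs, hxN, hxR⟩ :=
          Cfsg.Agent.Lib.Helper35_FrobeniusNPC.exists_mem_normalizer_not_mem hRsp hRRs hne
        set R2 := Rs ⊓ Subgroup.normalizer (R : Set G) with hR2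
        have hR2p : IsPGroup p R2 := hRsp.to_le inf_le_left
        have hRR2 : R < R2 :=
          lt_of_le_of_ne (le_inf hRRs Subgroup.le_normalizer) (fun h => hxR (h ▸ ⟨hxRs, hxN⟩))
        have hR2M : R2 ≤ M := inf_le_right.trans hNRM
        have hR2N : R2 ≤ N := inf_le_left.trans hRsN
        have hPidx : ¬ p ∣ (P : Subgroup G).relIndex M := fun h =>
          P.not_dvd_index (h.trans (Subgroup.relIndex_dvd_index_of_le hPM))
        obtain ⟨m, hmM, hm⟩ := exists_cj_le_of_relIndex P.2 hPidx hR2M hR2p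
        have hQ'P : cj m Q ≤ (P : Subgroup G) := (cj_mono (hQR.trans hRR2.le)).trans hm
        have hQ'1 : cj m Q ≠ ⊥ := by
          intro h
          apply hQ1
          exact (Subgroup.map_eq_bot_iff_of_injective _ (MulAut.conj m).injective).mp h
        have hcard : Nat.card R <
            Nat.card ((P : Subgroup G) ⊓ Subgroup.normalizer ((cj m Q : Subgroup G) : Set G) :
              Subgroup G) := by
          calc Nat.card R < Nat.card R2 := Cfsg.Agent.Lib.Helper11_ZJ.card_lt_of_lt hRR2
            _ = Nat.card (cj m R2) := (card_cj m R2).symm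
            _ ≤ _ := Subgroup.card_le_of_le (le_inf hm (by
                rw [← cj_normalizer]; exact cj_mono hR2N))
        have h1 := ih' (cj m Q) hQ'P hQ'1 hcard
        rw [← cj_normalizer] at h1
        have h2 : N ≤ cj m⁻¹ M := cj_le_iff.mp h1
        rwa [cj_eq_self_of_mem (M.inv_mem hmM)] at h2
      · have h1 := le_normalizer_zj_of_local hp hO hc hs hRN hRp hidx
        have hQ1P : Cfsg.centerThompsonAOf R ≤ (P : Subgroup G) := (zj_le R).trans hRP
        have hQ11 : Cfsg.centerThompsonAOf R ≠ ⊥ := zj_ne_bot hRp hR1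
        have hcard : Nat.card R < Nat.card ((P : Subgroup G) ⊓
            Subgroup.normalizer ((Cfsg.centerThompsonAOf R : Subgroup G) : Set G) : Subgroup G) :=
          lt_of_lt_of_le hNR (Subgroup.card_le_of_le
            (inf_le_inf_left _ (normalizer_le_normalizer_zj hRp)))
        exact h1.trans (ih' _ hQ1P hQ11 hcard)

end

/-- In a group of characteristic p type all of whose p-locals are p-stable (p odd), the normalizer of Z(J(P)) contains the normalizer of every nontrivial subgroup of the Sylow p-subgroup P. -/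
theorem result {G : Type*} [Group G] [Finite G] {p : ℕ} [Fact p.Prime] (hp : p ≠ 2) (hloc : ∀ Q : Subgroup G, IsPGroup p Q → Q ≠ ⊥ → Cfsg.pPrimeCore p ↥(Subgroup.normalizer (Q : Set G)) = ⊥ ∧ Cfsg.IsPConstrained p ↥(Subgroup.normalizer (Q : Set G)) ∧ Cfsg.IsPStable p ↥(Subgroup.normalizer (Q : Set G))) (P : Sylow p G) (Q : Subgroup G) (hQP : Q ≤ (P : Subgroup G)) (hQ1 : Q ≠ ⊥) : Subgroup.normalizer (Q : Set G) ≤ Subgroup.normalizer (Cfsg.centerThompsonAOf ((P : Subgroup G)) : Set G) := by
  exact main_aux hp hloc P _ Q hQP hQ1 rfl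

end Cfsg.Agent.S0658
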