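import Cfsg.Statements.S3082
import Cfsg.Agent.Lib.Helper11_NPCD
import Cfsg.Agent.S3079
import Cfsg.Agent.S0667
import Cfsg.Agent.S0658

set_option autoImplicit false
open Cfsg

namespace Cfsg.Agent.S3082

open Cfsg.Agent.Lib.Helper11_ZJ Cfsg.Agent.Lib.Helper11_ZJ2 Cfsg.Agent.Lib.Helper11_NPCD

universe u

/-- the family "abelian" -/
def FamAb : ∀ (Y : Type u) [Group Y], Subgroup Y → Prop := fun Y _ => Cfsg.Agent.S0653.PrAb (G := Y)

/-- the family "elementary abelian" -/
def FamEA (p : ℕ) : ∀ (Y : Type u) [Group Y], Subgroup Y → Prop :=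
  fun Y _ => Cfsg.Agent.S0654.PrEA (G := Y) p

theorem isElementaryAbelian_map_iff_of_injOn {X Y : Type*} [Group X] [Group Y] (f : X →* Y)
    (p : ℕ) (A : Subgroup X) (hinj : ∀ x ∈ A, f x = 1 → x = 1) :
    Cfsg.IsElementaryAbelian p (A.map f) ↔ Cfsg.IsElementaryAbelian p A := by
  constructor
  · rintro ⟨h1, h2⟩
    refine ⟨(Cfsg.Agent.S0667.isMulCommutative_map_iff_of_injOn f A hinj).mp h1, ?_⟩
    intro a ha
    apply hinj _ (A.pow_mem ha p)
    rw [map_pow]
    exact h2 (f a) ⟨a, ha, rfl⟩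
  · intro h
    have hA : IsMulCommutative A := h.1
    refine ⟨Subgroup.map_isMulCommutative A f, ?_⟩
    rintro _ ⟨a, ha, rfl⟩
    rw [← map_pow, h.2 a ha, map_one]

theorem pFam_ab {p : ℕ} [Fact p.Prime] (hp : p ≠ 2) : PFam.{u} p FamAb where
  adm := fun Y _ _ => Cfsg.Agent.S3079.admissibleD_ab hp
  transport := fun f A hinj => Cfsg.Agent.S0667.isMulCommutative_map_iff_of_injOn f A hinj
  ne_bot := by
    intro Y _ _ D hD hne
    show W (Cfsg.Agent.S0653.PrAb (G := Y)) D ≠ ⊥
    rw [← Cfsg.Agent.S0653.centerThompsonAOf_eq]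
    exact Cfsg.Agent.S0658.zj_ne_bot hD hne

theorem pFam_ea {p : ℕ} [Fact p.Prime] (hp : p ≠ 2) : PFam.{u} p (FamEA p) where
  adm := fun Y _ _ => Cfsg.Agent.S3079.admissibleD_ea hp
  transport := fun f A hinj => isElementaryAbelian_map_iff_of_injOn f p A hinj
  ne_bot := by
    intro Y _ _ D hD hne
    show W (Cfsg.Agent.S0654.PrEA (G := Y) p) D ≠ ⊥
    rw [← Cfsg.Agent.S0654.omegaCenterThompson_map_eq D hD]
    intro h
    have h1 : Cfsg.omegaCenterThompson p ↥D = ⊥ :=
      (Subgroup.map_eq_bot_iff_of_injective _ D.subtype_injective).mp h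
    have hnt : Nontrivial ↥D := (Subgroup.nontrivial_iff_ne_bot D).mpr hne
    obtain ⟨-, -, h3, h4, -⟩ := Cfsg.Agent.S0622.result (S := ↥D) (p := p) hD
    apply h4 hnt
    rw [eq_bot_iff, ← h1]
    exact h3

/-- The Glauberman–Thompson normal p-complement criterion for strongly closed subgroups, p odd. Let G be a finite group, P a Sylow p-subgroup and D a subgroup of P strongly closed in P with respect to G. If N_G(Z(J(D))) has a normal p-complement (J(D) generated by the abelian subgroups of D of largest order), or N_G(Ω₁(Z(J_e(D)))) has one (J_e(D) generated by the elementary abelian subgroups of largest order), then G has a normal p-complement. -/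
theorem result {G : Type*} [Group G] [Finite G] {p : ℕ} [Fact p.Prime] (hp : p ≠ 2) (P : Sylow p G) (D : Subgroup G) (hD : Cfsg.IsStronglyClosed D (P : Subgroup G)) (h : Cfsg.HasNormalPComplement p ↥(Subgroup.normalizer ((Cfsg.centerThompsonAOf D) : Set G)) ∨ Cfsg.HasNormalPComplement p ↥(Subgroup.normalizer ((Cfsg.omegaOne p (Cfsg.centerThompsonOf p D)) : Set G))) : Cfsg.HasNormalPComplement p G := by
  rw [Cfsg.Agent.S0072.hasNPC_iff]
  rcases h with h | h
  · rw [Cfsg.Agent.S0653.centerThompsonAOf_eq] at h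
    exact main (pFam_ab hp) hp _ G rfl P D hD ((Cfsg.Agent.S0072.hasNPC_iff p).mp h)
  · rw [Cfsg.Agent.S3079.omegaOne_centerThompsonOf_eq D (P.isPGroup'.to_le hD.1)] at h
    exact main (pFam_ea hp) hp _ G rfl P D hD ((Cfsg.Agent.S0072.hasNPC_iff p).mp h)

end Cfsg.Agent.S3082
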