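import Cfsg.Statements.S2807
import Cfsg.Agent.S2792
import Cfsg.Agent.Lib.Helper1_Frattini
import Cfsg.Agent.Lib.Helper54_ClassOrder

set_option autoImplicit false
open Cfsg

namespace Cfsg.Agent.S2807

open Cfsg.Agent.Lib.Helper54_ClassOrder Cfsg.Agent.Lib.Helper1_Frattini

/-- A finite `p`-group `Q` with a subgroup `T` of index `p ^ 2` and elements `x, z` with
`[x, z; p - 1] ∉ T` maps onto a Sylow `p`-subgroup of `Sym(p ^ 2)`. -/
theorem wreath_image {Q : Type*} [Group Q] [Finite Q] {p : ℕ} [hp : Fact p.Prime]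
    (hQ : IsPGroup p Q) (T : Subgroup Q) (hT : T.index = p ^ 2) (x z : Q)
    (hc : (fun y : Q => y⁻¹ * z⁻¹ * y * z)^[p - 1] x ∉ T) :
    ∃ (P : Sylow p (Equiv.Perm (Fin (p ^ 2)))) (f : Q →* ↥(P : Subgroup (Equiv.Perm (Fin (p ^ 2))))),
      Function.Surjective f := by
  have hcard : Nat.card (Q ⧸ T) = p ^ 2 := by rw [← Subgroup.index_eq_card]; exact hT
  have e : (Q ⧸ T) ≃ Fin (p ^ 2) := Finite.equivFinOfCardEq hcard
  set ρ : Q →* Equiv.Perm (Fin (p ^ 2)) :=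
    (e.permCongrHom.toMonoidHom).comp (MulAction.toPermHom Q (Q ⧸ T)) with hρ
  set c : Q := (fun y : Q => y⁻¹ * z⁻¹ * y * z)^[p - 1] x with hcdef
  have hρc : ρ c ≠ 1 := by
    intro h1
    apply hc
    have h2 : (MulAction.toPermHom Q (Q ⧸ T)) c = 1 := by
      have h3 : e.permCongrHom ((MulAction.toPermHom Q (Q ⧸ T)) c) = 1 := h1
      exact (MulEquiv.map_eq_one_iff e.permCongrHom).mp h3
    have h4 : c • ((1 : Q) : Q ⧸ T) = ((1 : Q) : Q ⧸ T) := by
      have := congrArg (fun σ : Equiv.Perm (Q ⧸ T) => σ ((1 : Q) : Q ⧸ T)) h2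
      simpa using this
    rw [MulAction.Quotient.smul_coe, smul_eq_mul, mul_one, QuotientGroup.eq, mul_one] at h4
    exact (Subgroup.inv_mem_iff _).mp h4
  have hHp : IsPGroup p ↥ρ.range := hQ.of_surjective ρ.rangeRestrict ρ.rangeRestrict_surjective
  have hp1 : 1 ≤ p - 1 := by have := hp.out.two_le; omega
  have hlcs : (⊤ : Subgroup ↥ρ.range).lowerCentralSeries (p - 1) ≠ ⊥ := by
    intro hbot
    have h1 := iterate_mem_lcs (ρ.rangeRestrict z) (ρ.rangeRestrict x) (p - 1)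
    rw [← map_iterate_comm, hbot, Subgroup.mem_bot] at h1
    apply hρc
    have h2 := congrArg Subtype.val h1
    exact h2
  have hge := pow_le_card_of_lcs_ne_bot hHp (p - 1) hp1 hlcs
  have hpp : p - 1 + 2 = p + 1 := by have := hp.out.two_le; omega
  rw [hpp] at hge
  obtain ⟨k, hk⟩ := IsPGroup.iff_card.mp hHp
  have hN0 : Nat.card (Equiv.Perm (Fin (p ^ 2))) ≠ 0 := Nat.card_pos.ne'
  have hdvd : p ^ k ∣ Nat.card (Equiv.Perm (Fin (p ^ 2))) := hk ▸ Subgroup.card_subgroup_dvd_card _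
  have hk1 : k ≤ p + 1 := by
    have := (hp.out.pow_dvd_iff_le_factorization hN0).mp hdvd
    rwa [factorization_card_perm_sq] at this
  have hk2 : p + 1 ≤ k := by
    rw [hk] at hge
    exact (Nat.pow_le_pow_iff_right hp.out.one_lt).mp hge
  have hkeq : k = p + 1 := le_antisymm hk1 hk2
  have hcardH : Nat.card ↥ρ.range =
      p ^ (Nat.card (Equiv.Perm (Fin (p ^ 2)))).factorization p := by
    rw [factorization_card_perm_sq, hk, hkeq]
  exact ⟨Sylow.ofCard ρ.range hcardH, ρ.rangeRestrict, ρ.rangeRestrict_surjective⟩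

/-- Let S be a Sylow p-subgroup of the finite group G. If S ∩ G' ≠ S ∩ (N_G(S))' (derived subgroups), then the wreath product Z_p ≀ Z_p — realised as a Sylow p-subgroup of the symmetric group of degree p² — is a homomorphic image of S. -/
theorem result {G : Type*} [Group G] [Finite G] {p : ℕ} [Fact p.Prime] (S : Sylow p G) (h : (S : Subgroup G) ⊓ commutator G ≠ (S : Subgroup G) ⊓ ⁅Subgroup.normalizer ((S : Subgroup G) : Set G), Subgroup.normalizer ((S : Subgroup G) : Set G)⁆) : ∃ (P : Sylow p (Equiv.Perm (Fin (p ^ 2)))) (f : ↥(S : Subgroup G) →* ↥(P : Subgroup (Equiv.Perm (Fin (p ^ 2))))), Function.Surjective f := by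
  have hwc : Cfsg.IsWeaklyClosed (S : Subgroup G) (S : Subgroup G) := by
    refine ⟨le_rfl, ?_⟩
    intro g hg
    have hcard : Nat.card ((S : Subgroup G).map (MulAut.conj g).toMonoidHom) =
        Nat.card (S : Subgroup G) :=
      Subgroup.card_map_of_injective (MulAut.conj g).injective
    exact Subgroup.eq_of_le_of_card_ge hg (le_of_eq hcard.symm)
  obtain ⟨x, hx, z, hz, W₀, hW₀, hmem, hnmem⟩ :=
    Cfsg.Agent.S2792.result S (S : Subgroup G) hwc h
  have hQ : IsPGroup p ↥(S : Subgroup G) := S.2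
  have hcoe : ∀ n : ℕ,
      (((fun y : ↥(S : Subgroup G) => y⁻¹ * (⟨z, hz⟩ : ↥(S : Subgroup G))⁻¹ * y * ⟨z, hz⟩)^[n]
        ⟨x, hx⟩ : ↥(S : Subgroup G)) : G) = (fun y : G => y⁻¹ * z⁻¹ * y * z)^[n] x := by
    intro n
    have := map_iterate_comm (S : Subgroup G).subtype ⟨z, hz⟩ ⟨x, hx⟩ n
    exact this
  set c : ↥(S : Subgroup G) :=
    (fun y : ↥(S : Subgroup G) => y⁻¹ * (⟨z, hz⟩ : ↥(S : Subgroup G))⁻¹ * y * ⟨z, hz⟩)^[p - 1]
      ⟨x, hx⟩ with hcdef
  have hc0 : c ∈ W₀ := by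
    obtain ⟨w, hw, hw'⟩ := hmem
    have hwc' : w = c := Subtype.ext (hw'.trans (hcoe (p - 1)).symm)
    exact hwc' ▸ hw
  have hcF : (⟨c, hc0⟩ : ↥W₀) ∉ frattini ↥W₀ := by
    intro hF
    apply hnmem
    refine ⟨c, ⟨⟨c, hc0⟩, hF, rfl⟩, ?_⟩
    exact hcoe (p - 1)
  rw [mem_frattini_iff] at hcF
  push Not at hcF
  obtain ⟨T', hT', hcT'⟩ := hcF
  have hcT : c ∉ T'.map W₀.subtype := by
    rintro ⟨t, ht, hteq⟩
    apply hcT'
    have hte : t = ⟨c, hc0⟩ := Subtype.ext hteq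
    rwa [← hte]
  have hTidx : (T'.map W₀.subtype).index = p ^ 2 := by
    rw [Subgroup.index_map_subtype, index_of_isCoatom_of_isPGroup (hQ.to_subgroup W₀) hT',
      index_of_isCoatom_of_isPGroup hQ hW₀, pow_two]
  exact wreath_image hQ (T'.map W₀.subtype) hTidx ⟨x, hx⟩ ⟨z, hz⟩ hcT

end Cfsg.Agent.S2807
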