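import Cfsg.Statements.S1963
import Cfsg.Agent.Lib.Helper33_Alperin

set_option autoImplicit false
open Cfsg

namespace Cfsg.Agent.S1963

open Cfsg.Agent.Lib.Helper33_Conj Cfsg.Agent.Lib.Helper33_Alperin

variable {G : Type*} [Group G]

/-- `N_S(tower i)` -/
def PP (W : Subgroup G → Subgroup G) (S T : Subgroup G) (i : ℕ) : Subgroup G :=
  S ⊓ Subgroup.normalizer ((Cfsg.functorTower W S T i : Subgroup G) : Set G)

theorem tower_succ (W : Subgroup G → Subgroup G) (S T : Subgroup G) (i : ℕ) :
    Cfsg.functorTower W S T (i + 1) = W (PP W S T i) := rfl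

theorem tower_zero (W : Subgroup G → Subgroup G) (S T : Subgroup G) :
    Cfsg.functorTower W S T 0 = T := rfl

theorem relIndex_cj (g : G) (A B : Subgroup G) : (cj g A).relIndex (cj g B) = A.relIndex B :=
  Subgroup.relIndex_map_map_of_injective A B (MulAut.conj g).injective

/-- A `p`-subgroup of `M` containing a subgroup of index prime to `p` in `M` equals it. -/
theorem eq_of_le_of_not_dvd_relIndex [Finite G] {p : ℕ} [Fact p.Prime] {Q Q' M : Subgroup G}
    (h1 : Q ≤ Q') (h2 : Q' ≤ M) (hQ' : IsPGroup p Q') (hidx : ¬ p ∣ Q.relIndex M) : Q' = Q := by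
  have hmul := Subgroup.relIndex_mul_relIndex Q Q' M h1 h2
  have hdvd : Q.relIndex Q' ∣ Q.relIndex M := ⟨_, hmul.symm⟩
  obtain ⟨n, hn⟩ := hQ'.index (Q.subgroupOf Q')
  have hrel : Q.relIndex Q' = p ^ n := hn
  have hn0 : n = 0 := by
    by_contra hne
    apply hidx
    exact (dvd_pow_self p hne).trans (hrel ▸ hdvd)
  rw [hn0, pow_zero, Subgroup.relIndex_eq_one] at hrel
  exact le_antisymm hrel h1

section

variable [Finite G] {p : ℕ} [Fact p.Prime] (S : Sylow p G) (W : Subgroup G → Subgroup G)
  (hW : Cfsg.IsConjugacyFunctor p W)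

include hW

theorem W_cj {P : Subgroup G} (hP : IsPGroup p P) (g : G) : W (cj g P) = cj g (W P) :=
  (hW P hP).2.2 g

/-- anything normalizing a `p`-subgroup `P` normalizes `W P` -/
theorem normalizer_le_normalizer_W {P : Subgroup G} (hP : IsPGroup p P) :
    Subgroup.normalizer (P : Set G) ≤ Subgroup.normalizer ((W P : Subgroup G) : Set G) := by
  intro x hx
  rw [mem_normalizer_iff_cj] at hx ⊢
  rw [← W_cj W hW hP, hx]

theorem PP_isPGroup (T : Subgroup G) (i : ℕ) : IsPGroup p (PP W (S : Subgroup G) T i) :=
  S.2.to_le inf_le_left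

theorem PP_le_succ (T : Subgroup G) (i : ℕ) :
    PP W (S : Subgroup G) T i ≤ PP W (S : Subgroup G) T (i + 1) := by
  refine le_inf inf_le_left ?_
  rw [tower_succ]
  exact Subgroup.le_normalizer.trans (normalizer_le_normalizer_W W hW (PP_isPGroup S W hW T i))

theorem PP_mono (T : Subgroup G) : Monotone (PP W (S : Subgroup G) T) :=
  monotone_nat_of_le_succ (PP_le_succ S W hW T)

omit hW in
theorem PP_stable (T : Subgroup G) (i : ℕ)
    (h : PP W (S : Subgroup G) T (i + 1) = PP W (S : Subgroup G) T i) :
    ∀ j, i ≤ j → Cfsg.functorTower W (S : Subgroup G) T (j + 1) =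
        Cfsg.functorTower W (S : Subgroup G) T (i + 1) ∧
      PP W (S : Subgroup G) T (j + 1) = PP W (S : Subgroup G) T (i + 1) := by
  intro j hj
  induction j, hj using Nat.le_induction with
  | base => exact ⟨rfl, rfl⟩
  | succ j hj ih =>
    have h1 : Cfsg.functorTower W (S : Subgroup G) T (j + 1 + 1) =
        Cfsg.functorTower W (S : Subgroup G) T (i + 1) := by
      rw [tower_succ, ih.2, h, tower_succ]
    refine ⟨h1, ?_⟩
    unfold PP
    rw [h1]

omit hW in
/-- the chain `PP i` cannot increase strictly for more than `|S|` steps -/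
theorem exists_PP_stable (T : Subgroup G)
    (hmono : Monotone (PP W (S : Subgroup G) T)) :
    ∃ i, i ≤ Nat.card (S : Subgroup G) ∧
      PP W (S : Subgroup G) T (i + 1) = PP W (S : Subgroup G) T i := by
  by_contra hcon
  push Not at hcon
  have hlt : ∀ i, i ≤ Nat.card (S : Subgroup G) →
      PP W (S : Subgroup G) T i < PP W (S : Subgroup G) T (i + 1) :=
    fun i hi => lt_of_le_of_ne (hmono (Nat.le_succ i)) (hcon i hi).symm
  have hcard : ∀ i, i ≤ Nat.card (S : Subgroup G) + 1 →
      i + 1 ≤ Nat.card (PP W (S : Subgroup G) T i) := by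
    intro i
    induction i with
    | zero =>
      intro _
      exact Nat.one_le_iff_ne_zero.mpr Nat.card_pos.ne'
    | succ i ih =>
      intro hi
      have := card_lt_of_lt (hlt i (by omega))
      have := ih (by omega)
      omega
  have h1 := hcard (Nat.card (S : Subgroup G) + 1) le_rfl
  have h2 : Nat.card (PP W (S : Subgroup G) T (Nat.card (S : Subgroup G) + 1)) ≤
      Nat.card (S : Subgroup G) := Subgroup.card_le_of_le inf_le_left
  omega

/-- well placed up to level `n` -/
def WP (p : ℕ) (W : Subgroup G → Subgroup G) (S T : Subgroup G) (n : ℕ) : Prop :=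
  T ≤ S ∧ ∀ i < n, ¬ p ∣ (PP W S T i).relIndex
    (Subgroup.normalizer ((Cfsg.functorTower W S T i : Subgroup G) : Set G))

theorem wellPlaced_of_WP (T : Subgroup G)
    (h : WP p W (S : Subgroup G) T (Nat.card (S : Subgroup G) + 2)) :
    Cfsg.IsWellPlaced p W (S : Subgroup G) T := by
  refine ⟨h.1, ?_⟩
  obtain ⟨i₀, hi₀, hst⟩ := exists_PP_stable S W T (PP_mono S W hW T)
  intro j
  rcases le_or_gt j (i₀ + 1) with hj | hj
  · exact h.2 j (by omega)
  · obtain ⟨j', rfl⟩ : ∃ j', j = j' + 1 := ⟨j - 1, by omega⟩
    have := PP_stable S W T i₀ hst j' (by omega)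
    have h2 := h.2 (i₀ + 1) (by omega)
    show ¬ p ∣ (PP W (S : Subgroup G) T (j' + 1)).relIndex _
    rw [this.1, this.2]
    exact h2

theorem WP_step (T : Subgroup G) (n : ℕ) (h : WP p W (S : Subgroup G) T n) :
    ∃ g : G, WP p W (S : Subgroup G) (cj g T) (n + 1) := by
  set V := Cfsg.functorTower W (S : Subgroup G) T n with hV
  -- a Sylow p-subgroup R of N(V) containing P_n
  have hPn : IsPGroup p ((PP W (S : Subgroup G) T n).subgroupOf (Subgroup.normalizer (V : Set G))) :=
    (PP_isPGroup S W hW T n).comap_subtype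
  obtain ⟨R', hR'⟩ := hPn.exists_le_sylow
  set R : Subgroup G := (R' : Subgroup _).map (Subgroup.normalizer (V : Set G)).subtype with hR
  have hRN : R ≤ Subgroup.normalizer (V : Set G) := Subgroup.map_subtype_le _
  have hRp : IsPGroup p R := R'.2.map _
  have hRidx : ¬ p ∣ R.relIndex (Subgroup.normalizer (V : Set G)) := by
    have : R.subgroupOf (Subgroup.normalizer (V : Set G)) = (R' : Subgroup _) := by
      rw [hR, Subgroup.subgroupOf, Subgroup.comap_map_eq_self_of_injective (Subgroup.subtype_injective _)]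
    rw [Subgroup.relIndex, this]
    exact R'.not_dvd_index
  have hPnR : PP W (S : Subgroup G) T n ≤ R := by
    intro x hx
    have hxN : x ∈ Subgroup.normalizer (V : Set G) := hx.2
    exact ⟨⟨x, hxN⟩, hR' (Subgroup.mem_subgroupOf.mpr hx), rfl⟩
  -- conjugate R into S
  obtain ⟨SR, hSR⟩ := hRp.exists_le_sylow
  obtain ⟨g, hg⟩ := MulAction.exists_smul_eq G SR S
  have hgR : cj g R ≤ (S : Subgroup G) := by
    rw [← hg, Sylow.coe_subgroup_smul, ← cj_eq_smul]
    exact cj_mono hSR
  refine ⟨g, ?_⟩
  have hmono := PP_mono S W hW T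
  -- towers agree up to conjugation for levels ≤ n
  have key : ∀ i, i ≤ n → Cfsg.functorTower W (S : Subgroup G) (cj g T) i =
      cj g (Cfsg.functorTower W (S : Subgroup G) T i) := by
    intro i
    induction i with
    | zero => intro _; rfl
    | succ i ih =>
      intro hi
      have ih' := ih (by omega)
      rw [tower_succ, tower_succ]
      have hPP : PP W (S : Subgroup G) (cj g T) i = cj g (PP W (S : Subgroup G) T i) := by
        have hle : cj g (PP W (S : Subgroup G) T i) ≤ PP W (S : Subgroup G) (cj g T) i := by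
          unfold PP
          rw [ih', ← cj_normalizer]
          refine le_inf ?_ (cj_mono inf_le_right)
          exact (cj_mono ((hmono (by omega : i ≤ n)).trans hPnR)).trans hgR
        apply eq_of_le_of_not_dvd_relIndex (p := p) hle (M := cj g (Subgroup.normalizer
          ((Cfsg.functorTower W (S : Subgroup G) T i : Subgroup G) : Set G)))
        · unfold PP
          rw [ih', ← cj_normalizer]
          exact inf_le_right
        · exact PP_isPGroup S W hW _ i
        · rw [relIndex_cj]
          exact h.2 i (by omega)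
      rw [hPP, W_cj W hW (PP_isPGroup S W hW T i)]
  have keyPP : ∀ i, i < n → PP W (S : Subgroup G) (cj g T) i = cj g (PP W (S : Subgroup G) T i) := by
    intro i hi
    have h1 := key (i + 1) (by omega)
    -- redo the argument
    have ih' := key i (by omega)
    have hle : cj g (PP W (S : Subgroup G) T i) ≤ PP W (S : Subgroup G) (cj g T) i := by
      unfold PP
      rw [ih', ← cj_normalizer]
      refine le_inf ?_ (cj_mono inf_le_right)
      exact (cj_mono ((hmono (by omega : i ≤ n)).trans hPnR)).trans hgR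
    apply eq_of_le_of_not_dvd_relIndex (p := p) hle (M := cj g (Subgroup.normalizer
      ((Cfsg.functorTower W (S : Subgroup G) T i : Subgroup G) : Set G)))
    · unfold PP
      rw [ih', ← cj_normalizer]
      exact inf_le_right
    · exact PP_isPGroup S W hW _ i
    · rw [relIndex_cj]
      exact h.2 i (by omega)
  refine ⟨?_, ?_⟩
  · -- cj g T ≤ S
    have hT0 : T ≤ PP W (S : Subgroup G) T 0 := le_inf h.1 Subgroup.le_normalizer
    exact (cj_mono (hT0.trans ((hmono (Nat.zero_le n)).trans hPnR))).trans hgR
  · intro i hi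
    rcases Nat.lt_succ_iff_lt_or_eq.mp hi with hlt | heq
    · rw [keyPP i hlt, key i hlt.le, ← cj_normalizer, relIndex_cj]
      exact h.2 i hlt
    · subst heq
      have hkn := key i le_rfl
      have hle : cj g R ≤ PP W (S : Subgroup G) (cj g T) i := by
        unfold PP
        rw [hkn, ← cj_normalizer]
        exact le_inf hgR (cj_mono hRN)
      have heq : PP W (S : Subgroup G) (cj g T) i = cj g R := by
        apply eq_of_le_of_not_dvd_relIndex (p := p) hle (M := cj g (Subgroup.normalizer (V : Set G)))
        · unfold PP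
          rw [hkn, ← cj_normalizer]
          exact inf_le_right
        · exact PP_isPGroup S W hW _ i
        · rw [relIndex_cj]; exact hRidx
      rw [heq, hkn, ← cj_normalizer, relIndex_cj]
      exact hRidx

theorem exists_WP (T : Subgroup G) (hT : T ≤ (S : Subgroup G)) (n : ℕ) :
    ∃ g : G, WP p W (S : Subgroup G) (cj g T) n := by
  induction n with
  | zero =>
    refine ⟨1, ?_, fun i hi => absurd hi (Nat.not_lt_zero i)⟩
    rw [cj_one]; exact hT
  | succ n ih =>
    obtain ⟨g, hg⟩ := ih
    obtain ⟨g', hg'⟩ := WP_step S W hW (cj g T) n hg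
    refine ⟨g' * g, ?_⟩
    rw [cj_mul]; exact hg'

theorem exists_wellPlaced (T : Subgroup G) (hT : T ≤ (S : Subgroup G)) :
    ∃ g : G, Cfsg.IsWellPlaced p W (S : Subgroup G) (cj g T) := by
  obtain ⟨g, hg⟩ := exists_WP S W hW T hT (Nat.card (S : Subgroup G) + 2)
  exact ⟨g, wellPlaced_of_WP S W hW _ hg⟩

end

/-- Let p be a prime, G a finite group with Sylow p-subgroup S, W a conjugacy functor for p on G and T a subgroup of S. Then some G-conjugate of T is well placed in S with respect to W. -/
theorem result {G : Type*} [Group G] [Finite G] {p : ℕ} [Fact p.Prime] (S : Sylow p G) (W : Subgroup G → Subgroup G) (hW : Cfsg.IsConjugacyFunctor p W) (T : Subgroup G) (hT : T ≤ (S : Subgroup G)) : ∃ g : G, Cfsg.IsWellPlaced p W (S : Subgroup G) (T.map (MulAut.conj g).toMonoidHom) := by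
  exact exists_wellPlaced S W hW T hT

end Cfsg.Agent.S1963
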