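import Cfsg.Statements.S1959
import Cfsg.Agent.Lib.Helper33_WFusion
import Cfsg.Agent.S1963

set_option autoImplicit false
open Cfsg

namespace Cfsg.Agent.S1959

open Cfsg.Agent.Lib.Helper33_Conj Cfsg.Agent.Lib.Helper33_Alperin Cfsg.Agent.Lib.Helper33_WFusion

theorem id_isConjugacyFunctor {G : Type*} [Group G] (p : ℕ) :
    Cfsg.IsConjugacyFunctor p (fun P : Subgroup G => P) :=
  fun _ _ => ⟨le_rfl, fun h => h, fun _ => rfl⟩

/-- every subgroup of `S` has a fully normalized conjugate inside `S` -/
theorem exists_fully_normalized {G : Type*} [Group G] [Finite G] {p : ℕ} [Fact p.Prime] (S : Sylow p G)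
    (T : Subgroup G) (hT : T ≤ (S : Subgroup G)) :
    ∃ g : G, cj g T ≤ (S : Subgroup G) ∧
      ¬ p ∣ ((S : Subgroup G) ⊓ Subgroup.normalizer ((cj g T : Subgroup G) : Set G)).relIndex
        (Subgroup.normalizer ((cj g T : Subgroup G) : Set G)) := by
  obtain ⟨g, hg⟩ := Cfsg.Agent.S1963.result S (fun P : Subgroup G => P) (id_isConjugacyFunctor p) T hT
  exact ⟨g, hg.1, hg.2 0⟩

/-- Let p be a prime, G a finite group with Sylow p-subgroup S, and 𝓦 a set of conjugacy functors for p on G. Suppose that 𝓦 controls strong fusion in N_G(T) for every nonidentity subgroup T of S for which N_S(T) is a Sylow p-subgroup of N_G(T). Then 𝓦 controls strong fusion in G. (A set of functors controls strong fusion in a subgroup H when, for a Sylow p-subgroup T' of H, every conjugation of a tuple of elements of T' into T' by an element of H is a composite of conjugations inside the normalizers N_H(W(T')), W ∈ 𝓦, all intermediate tuples staying in T'.) -/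
theorem result {G : Type*} [Group G] [Finite G] {p : ℕ} [Fact p.Prime] (S : Sylow p G) (𝓦 : Set (Subgroup G → Subgroup G)) (h𝓦 : ∀ W ∈ 𝓦, Cfsg.IsConjugacyFunctor p W) (hloc : ∀ T : Subgroup G, T ≤ (S : Subgroup G) → T ≠ ⊥ → ¬ p ∣ ((S : Subgroup G) ⊓ Subgroup.normalizer ((T : Subgroup G) : Set G)).relIndex (Subgroup.normalizer ((T : Subgroup G) : Set G)) → Cfsg.FamilyControlsStrongFusionIn p 𝓦 (Subgroup.normalizer ((T : Subgroup G) : Set G))) : Cfsg.FamilyControlsStrongFusionIn p 𝓦 ⊤ := by
  apply familyControls_of_local S h𝓦 (Set.univ)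
  · intro T hT
    obtain ⟨g, hg1, hg2⟩ := exists_fully_normalized S T hT
    exact ⟨cj g T, Set.mem_univ _, hg1, ⟨g, rfl⟩, hg2⟩
  · intro U _ hUS hUne hUfn
    exact hloc U hUS hUne hUfn

end Cfsg.Agent.S1959
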