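import Cfsg.Statements.S3836
import Mathlib

set_option autoImplicit false
open Cfsg

namespace Cfsg.Agent.S3836

/-- the `p`-core pulls back along injective homomorphisms -/
lemma mem_pCore_of_injective {p : ℕ} {X Y : Type*} [Group X] [Group Y] (f : X →* Y)
    (hf : Function.Injective f) (x : X) (hx : f x ∈ Cfsg.pCore p Y) : x ∈ Cfsg.pCore p X := by
  have hYn : (Cfsg.pCore p Y).Normal := Subgroup.sSup_normal _ (fun _ h => h.1)
  have hYp : IsPGroup p (Cfsg.pCore p Y) := Sylow.sSup_of_normal _ (fun _ h => h.2) (fun _ h => h.1)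
  have h1 : ((Cfsg.pCore p Y).comap f).Normal := hYn.comap f
  have h2 : IsPGroup p ((Cfsg.pCore p Y).comap f) := hYp.comap_of_injective f hf
  have h3 : (Cfsg.pCore p Y).comap f ≤ Cfsg.pCore p X := le_sSup ⟨h1, h2⟩
  exact h3 hx

theorem result {G : Type*} [Group G] [Finite G] {p : ℕ} [Fact p.Prime] (hst : Cfsg.IsNormalizerPStable p G) (H : Subgroup G) : Cfsg.IsNormalizerPStable p ↥H := by
  intro P hP g hg hq
  -- transport to G
  set P' : Subgroup G := P.map H.subtype with hP'
  have hP'p : IsPGroup p P' := hP.map _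
  have hNle : ∀ n : H, n ∈ Subgroup.normalizer (P : Set H) →
      (n : G) ∈ Subgroup.normalizer (P' : Set G) := by
    intro n hn
    exact Subgroup.le_normalizer_map H.subtype ⟨n, hn, rfl⟩
  have hg' : (g : G) ∈ Subgroup.normalizer (P' : Set G) := hNle g hg
  have hq' : ⁅⁅P', Subgroup.zpowers (g : G)⁆, Subgroup.zpowers (g : G)⁆ = ⊥ := by
    have h1 : Subgroup.zpowers (g : G) = (Subgroup.zpowers g).map H.subtype := by
      rw [MonoidHom.map_zpowers]; rfl
    rw [h1, hP', ← Subgroup.map_commutator, ← Subgroup.map_commutator, hq, Subgroup.map_bot]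
  have hmain := hst P' hP'p (g : G) hg' hq'
  -- the hom between normalizers
  let φ : ↥(Subgroup.normalizer (P : Set H)) →* ↥(Subgroup.normalizer (P' : Set G)) :=
    (H.subtype.comp (Subgroup.normalizer (P : Set H)).subtype).codRestrict _
      (fun n => hNle n n.2)
  have hφ : ∀ n, ((φ n : ↥(Subgroup.normalizer (P' : Set G))) : G) = ((n : H) : G) := fun n => rfl
  have hcomap : (Subgroup.centralizer (P : Set H)).subgroupOf (Subgroup.normalizer (P : Set H)) =
      ((Subgroup.centralizer (P' : Set G)).subgroupOf (Subgroup.normalizer (P' : Set G))).comap φ := by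
    ext n
    rw [Subgroup.mem_comap, Subgroup.mem_subgroupOf, Subgroup.mem_subgroupOf,
      Subgroup.mem_centralizer_iff, Subgroup.mem_centralizer_iff, hφ]
    constructor
    · intro h y hy
      obtain ⟨y₀, hy₀, rfl⟩ := hy
      have := h y₀ hy₀
      exact congrArg Subtype.val this
    · intro h y hy
      have := h (y : G) ⟨y, hy, rfl⟩
      exact Subtype.ext this
  let φbar := QuotientGroup.map
    ((Subgroup.centralizer (P : Set H)).subgroupOf (Subgroup.normalizer (P : Set H)))
    ((Subgroup.centralizer (P' : Set G)).subgroupOf (Subgroup.normalizer (P' : Set G))) φ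
    (le_of_eq hcomap)
  have hinj : Function.Injective φbar := by
    rw [← MonoidHom.ker_eq_bot_iff, QuotientGroup.ker_map, ← hcomap]
    exact QuotientGroup.map_mk'_self _
  apply mem_pCore_of_injective φbar hinj
  exact hmain

end Cfsg.Agent.S3836
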