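import Cfsg.Statements.S4145
import Cfsg.Agent.Lib.Helper48_SPE
import Cfsg.Agent.Lib.Helper76_PSolvable

set_option autoImplicit false
open Cfsg

namespace Cfsg.Agent.S4145

/-- number theory: if `r ≡ 1 mod p`, `p ∤ n` and `p ^ a ∣ r ^ n - 1` then `p ^ a ∣ r - 1`. -/
theorem nt_aux (p : ℕ) (hp : p.Prime) (a n : ℕ) (r : ℤ) (h1 : (p : ℤ) ∣ r - 1) (hn : ¬ p ∣ n)
    (h2 : (p : ℤ) ^ a ∣ r ^ n - 1) : (p : ℤ) ^ a ∣ r - 1 := by
  have hgeom : (∑ i ∈ Finset.range n, r ^ i) * (r - 1) = r ^ n - 1 := geom_sum_mul r n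
  set S := ∑ i ∈ Finset.range n, r ^ i with hS
  have hpS : ¬ (p : ℤ) ∣ S := by
    intro hdvd
    have h3 : (p : ℤ) ∣ S - n := by
      have : S - n = ∑ i ∈ Finset.range n, (r ^ i - 1) := by
        rw [Finset.sum_sub_distrib, Finset.sum_const, Finset.card_range]; simp [hS]
      rw [this]
      apply Finset.dvd_sum
      intro i _
      have h4 : r - 1 ∣ r ^ i - 1 := by
        have := sub_dvd_pow_sub_pow r 1 i
        rwa [one_pow] at this
      exact h1.trans h4
    have h5 : (p : ℤ) ∣ (n : ℤ) := by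
      have := dvd_sub hdvd h3
      rwa [sub_sub_cancel] at this
    exact hn (Int.natCast_dvd_natCast.mp h5)
  have hprime : Prime (p : ℤ) := Nat.prime_iff_prime_int.mp hp
  have hcop : IsCoprime ((p : ℤ) ^ a) S :=
    IsCoprime.pow_left ((Prime.coprime_iff_not_dvd hprime).mpr hpS)
  rw [← hgeom] at h2
  exact hcop.dvd_of_dvd_mul_left h2


/-- Key lemma: an element normalizing a cyclic Sylow `p`-subgroup `Q` and centralizing a
nontrivial element of `Q` centralizes `Q`. -/
theorem mem_centralizer_of_cyclic_sylow {X : Type*} [Group X] [Finite X] {p : ℕ} [hp : Fact p.Prime]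
    (Q : Sylow p X) (hcyc : IsCyclic (Q : Subgroup X)) (z : X)
    (hz : z ∈ Subgroup.normalizer ((Q : Subgroup X) : Set X)) (u : X) (hu : u ∈ (Q : Subgroup X))
    (hu1 : u ≠ 1) (hzu : z * u = u * z) : z ∈ Subgroup.centralizer ((Q : Subgroup X) : Set X) := by
  classical
  obtain ⟨⟨g, hgQ⟩, hg⟩ := hcyc.exists_generator
  -- every element of `Q` is a power of `g`
  have hgen : ∀ v ∈ (Q : Subgroup X), ∃ k : ℤ, g ^ k = v := by
    intro v hv
    obtain ⟨k, hk⟩ := Subgroup.mem_zpowers_iff.mp (hg ⟨v, hv⟩)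
    refine ⟨k, ?_⟩
    have := congrArg Subtype.val hk
    simpa using this
  -- `z g z⁻¹ = g ^ r`
  have hzg : z * g * z⁻¹ ∈ (Q : Subgroup X) := (Subgroup.mem_normalizer_iff.mp hz g).mp hgQ
  obtain ⟨r, hr⟩ := hgen _ hzg
  have hconj : ∀ j : ℕ, z ^ j * g * (z ^ j)⁻¹ = g ^ (r ^ j) := by
    intro j
    induction j with
    | zero => simp
    | succ j ih =>
      have h1 : z ^ (j + 1) * g * (z ^ (j + 1))⁻¹ = z * (z ^ j * g * (z ^ j)⁻¹) * z⁻¹ := by
        rw [pow_succ']; group
      rw [h1, ih]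
      have h2 : z * g ^ (r ^ j) * z⁻¹ = (z * g * z⁻¹) ^ (r ^ j) := by
        rw [conj_zpow]
      rw [h2, ← hr, ← zpow_mul, pow_succ, mul_comm]
  -- `p ∣ r - 1`
  have hcard : ∃ a : ℕ, orderOf g = p ^ a := by
    obtain ⟨a, ha⟩ := IsPGroup.iff_orderOf.mp Q.isPGroup' ⟨g, hgQ⟩
    exact ⟨a, by rw [← ha]; exact (Subgroup.orderOf_mk g hgQ).symm⟩
  obtain ⟨a, ha⟩ := hcard
  obtain ⟨m, hm⟩ := hgen u hu
  have hur : u ^ (r - 1) = 1 := by
    have h1 : z * u * z⁻¹ = u ^ r := by
      rw [← hm, ← conj_zpow, ← hr, ← zpow_mul, ← zpow_mul, mul_comm]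
    have h2 : z * u * z⁻¹ = u := by rw [hzu]; group
    rw [zpow_sub, zpow_one, ← h1, h2, mul_inv_cancel]
  have hp1 : (p : ℤ) ∣ r - 1 := by
    have h1 : (orderOf u : ℤ) ∣ r - 1 := orderOf_dvd_iff_zpow_eq_one.mpr hur
    have h2 : orderOf u ∣ p ^ a := by
      rw [← ha, ← hm]
      exact orderOf_dvd_of_mem_zpowers (Subgroup.zpow_mem_zpowers g m)
    obtain ⟨j, -, hj⟩ := (Nat.dvd_prime_pow hp.out).mp h2
    have hj0 : j ≠ 0 := by
      rintro rfl
      rw [pow_zero, orderOf_eq_one_iff] at hj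
      exact hu1 hj
    have h3 : p ∣ orderOf u := by rw [hj]; exact dvd_pow_self p hj0
    exact (Int.natCast_dvd_natCast.mpr h3).trans h1
  -- a power of `z` prime to `p` centralizes `Q`
  set N := Subgroup.normalizer ((Q : Subgroup X) : Set X) with hN
  set C := Subgroup.centralizer ((Q : Subgroup X) : Set X) with hC
  have hcomm : ∀ a b : X, a ∈ (Q : Subgroup X) → b ∈ (Q : Subgroup X) → a * b = b * a := by
    intro a b ha' hb'
    obtain ⟨i, rfl⟩ := hgen a ha'
    obtain ⟨j, rfl⟩ := hgen b hb'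
    rw [← zpow_add, ← zpow_add, add_comm]
  have hQC : (Q : Subgroup X) ≤ C := by
    intro v hv
    rw [hC, Subgroup.mem_centralizer_iff]
    intro w hw
    exact hcomm w v hw hv
  have hCN : C ≤ N := Subgroup.centralizer_le_normalizer _  -- may need adjusting
  set n := C.relIndex N with hn
  have hnp : ¬ p ∣ n := by
    intro hdvd
    have h1 : C.relIndex N ∣ (Q : Subgroup X).relIndex N := Subgroup.relIndex_dvd_of_le_left N hQC
    have h2 : (Q : Subgroup X).relIndex N ∣ (Q : Subgroup X).index :=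
      Subgroup.relIndex_dvd_index_of_le (hQC.trans hCN)
    exact Q.not_dvd_index (hdvd.trans (h1.trans h2))
  have hzn : z ^ n ∈ C := by
    have hnorm : (C.subgroupOf N).Normal := by
      rw [hC, hN, ← Subgroup.normalizerMonoidHom_ker]
      exact MonoidHom.normal_ker _
    have := Subgroup.pow_index_mem (C.subgroupOf N) (⟨z, hz⟩ : N)
    rw [Subgroup.mem_subgroupOf] at this
    simpa [hn, Subgroup.relIndex] using this
  have hrn : (p : ℤ) ^ a ∣ r ^ n - 1 := by
    have h1 : z ^ n * g * (z ^ n)⁻¹ = g := by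
      have := (Subgroup.mem_centralizer_iff.mp hzn) g hgQ
      rw [← this]; group
    rw [hconj n] at h1
    have h2 : g ^ (r ^ n - 1) = 1 := by
      rw [zpow_sub, zpow_one, h1, mul_inv_cancel]
    have h3 : (orderOf g : ℤ) ∣ r ^ n - 1 := orderOf_dvd_iff_zpow_eq_one.mpr h2
    rw [ha] at h3
    exact_mod_cast h3
  have hfinal : (p : ℤ) ^ a ∣ r - 1 := nt_aux p hp.out a n r hp1 hnp hrn
  have hgr : g ^ r = g := by
    have h1 : g ^ (r - 1) = 1 := by
      apply orderOf_dvd_iff_zpow_eq_one.mp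
      rw [ha]
      exact_mod_cast hfinal
    rw [zpow_sub, zpow_one] at h1
    exact mul_inv_eq_one.mp h1
  -- conclusion
  rw [Subgroup.mem_centralizer_iff]
  intro v hv
  obtain ⟨k, rfl⟩ := hgen v hv
  have h1 : z * g = g * z := by
    have : z * g * z⁻¹ = g := by rw [← hr, hgr]
    exact mul_inv_eq_iff_eq_mul.mp this
  exact ((Commute.zpow_right (show Commute z g from h1) k).eq).symm

/-- Burnside's transfer theorem, packaged. -/
theorem exists_normal_pcomplement {X : Type*} [Group X] [Finite X] {p : ℕ} [hp : Fact p.Prime]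
    (Q : Sylow p X)
    (hQ : Subgroup.normalizer ((Q : Subgroup X) : Set X) ≤ Subgroup.centralizer ((Q : Subgroup X) : Set X)) :
    ∃ K : Subgroup X, K.Normal ∧ K.IsComplement' (Q : Subgroup X) ∧ (Nat.card K).Coprime p ∧
      (∀ x : X, (orderOf x).Coprime p → x ∈ K) ∧ (∀ x y : X, x * y * x⁻¹ * y⁻¹ ∈ K) := by
  classical
  refine ⟨(MonoidHom.transferSylow Q hQ).ker, MonoidHom.normal_ker _,
    MonoidHom.ker_transferSylow_isComplement' Q hQ, ?_, ?_, ?_⟩
  · rw [Nat.coprime_comm, Nat.Prime.coprime_iff_not_dvd hp.out]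
    exact MonoidHom.not_dvd_card_ker_transferSylow Q hQ
  · intro x hx
    rw [MonoidHom.mem_ker]
    have h1 : orderOf (MonoidHom.transferSylow Q hQ x) ∣ orderOf x := orderOf_map_dvd _ x
    obtain ⟨k, hk⟩ := IsPGroup.iff_orderOf.mp Q.isPGroup' (MonoidHom.transferSylow Q hQ x)
    have h2 : orderOf (MonoidHom.transferSylow Q hQ x) = 1 := by
      have h3 : (orderOf (MonoidHom.transferSylow Q hQ x)).Coprime
          (orderOf (MonoidHom.transferSylow Q hQ x)) := by
        have h4 : (orderOf (MonoidHom.transferSylow Q hQ x)).Coprime p :=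
          Nat.Coprime.coprime_dvd_left h1 hx
        conv_rhs => rw [hk]
        exact Nat.Coprime.pow_right _ h4
      exact (Nat.coprime_self _).mp h3
    exact orderOf_eq_one_iff.mp h2
  · intro x y
    rw [MonoidHom.mem_ker, map_mul, map_mul, map_mul, map_inv, map_inv]
    have hc : ∀ a b : (Q : Subgroup X), a * b = b * a := fun a b =>
      Subtype.ext (hQ (Subgroup.le_normalizer b.2) a a.2)
    rw [hc (MonoidHom.transferSylow Q hQ x), mul_assoc, mul_assoc, mul_inv_cancel_left,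
      mul_inv_cancel]

open Cfsg.Agent.Lib.Helper48_SPE in
/-- The centralizer of a nontrivial subgroup `R` of a cyclic Sylow `p`-subgroup `P'` has a normal
`p`-complement `K₂` (stated inside `G`). -/
theorem centralizer_pnilpotent {G : Type*} [Group G] [Finite G] {p : ℕ} [hp : Fact p.Prime]
    (P' : Sylow p G) (hcyc : IsCyclic (P' : Subgroup G)) (R : Subgroup G)
    (hRP : R ≤ (P' : Subgroup G)) (hR : R ≠ ⊥) :
    (P' : Subgroup G) ≤ Subgroup.centralizer (R : Set G) ∧
    ∃ K₂ : Subgroup G, K₂ ≤ Subgroup.centralizer (R : Set G) ∧ (Nat.card K₂).Coprime p ∧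
      (∀ c ∈ Subgroup.centralizer (R : Set G), (orderOf c).Coprime p → c ∈ K₂) ∧
      (∀ c₁ ∈ Subgroup.centralizer (R : Set G), ∀ c₂ ∈ Subgroup.centralizer (R : Set G),
        c₁ * c₂ * c₁⁻¹ * c₂⁻¹ ∈ K₂) ∧
      Subgroup.centralizer (R : Set G) ≤ K₂ ⊔ (P' : Subgroup G) := by
  classical
  set C := Subgroup.centralizer (R : Set G) with hC
  -- `P'` is abelian
  obtain ⟨⟨g, hgP⟩, hg⟩ := hcyc.exists_generator
  have hgen : ∀ v ∈ (P' : Subgroup G), ∃ k : ℤ, g ^ k = v := by
    intro v hv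
    obtain ⟨k, hk⟩ := Subgroup.mem_zpowers_iff.mp (hg ⟨v, hv⟩)
    refine ⟨k, ?_⟩
    have := congrArg Subtype.val hk
    simpa using this
  have hcomm : ∀ a b : G, a ∈ (P' : Subgroup G) → b ∈ (P' : Subgroup G) → a * b = b * a := by
    intro a b ha' hb'
    obtain ⟨i, rfl⟩ := hgen a ha'
    obtain ⟨j, rfl⟩ := hgen b hb'
    rw [← zpow_add, ← zpow_add, add_comm]
  have hPC : (P' : Subgroup G) ≤ C := by
    intro v hv
    rw [hC, Subgroup.mem_centralizer_iff]
    intro w hw
    exact hcomm w v (hRP hw) hv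
  refine ⟨hPC, ?_⟩
  have hsyl : IsSylowIn p (P' : Subgroup G) C := (isSylowIn_top P').mono hPC le_top
  set S : Sylow p C := hsyl.toSylow with hS
  have hScoe : (S : Subgroup C) = (P' : Subgroup G).subgroupOf C := rfl
  have hScyc : IsCyclic (S : Subgroup C) := by
    rw [hScoe]
    have e : (P' : Subgroup G).subgroupOf C ≃* (P' : Subgroup G) := Subgroup.subgroupOfEquivOfLe hPC
    exact isCyclic_of_surjective e.symm e.symm.surjective
  obtain ⟨⟨u, huR⟩, hu1'⟩ := (Subgroup.ne_bot_iff_exists_ne_one).mp hR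
  have hu1 : u ≠ 1 := fun h => hu1' (Subtype.ext h)
  have huC : u ∈ C := hPC (hRP huR)
  have hNC : Subgroup.normalizer ((S : Subgroup C) : Set C) ≤
      Subgroup.centralizer ((S : Subgroup C) : Set C) := by
    intro z hz
    refine mem_centralizer_of_cyclic_sylow S hScyc z hz ⟨u, huC⟩ ?_ ?_ ?_
    · rw [hScoe, Subgroup.mem_subgroupOf]; exact hRP huR
    · intro h; exact hu1 (congrArg Subtype.val h)
    · apply Subtype.ext
      have := (Subgroup.mem_centralizer_iff.mp z.2) u huR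
      simpa using this.symm
  obtain ⟨K, hKn, hKc, hKcard, hKp', hKcomm⟩ := exists_normal_pcomplement S hNC
  refine ⟨K.map C.subtype, Subgroup.map_subtype_le K, ?_, ?_, ?_, ?_⟩
  · rw [Subgroup.card_map_of_injective C.subtype_injective]; exact hKcard
  · intro c hc hord
    refine ⟨⟨c, hc⟩, hKp' ⟨c, hc⟩ ?_, rfl⟩
    rw [Subgroup.orderOf_mk]; exact hord
  · intro c₁ hc₁ c₂ hc₂
    exact ⟨_, hKcomm ⟨c₁, hc₁⟩ ⟨c₂, hc₂⟩, rfl⟩
  · have h1 : K ⊔ (S : Subgroup C) = ⊤ := hKc.sup_eq_top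
    have h2 : (K ⊔ (S : Subgroup C)).map C.subtype = C := by
      rw [h1, ← MonoidHom.range_eq_map, Subgroup.range_subtype]
    rw [Subgroup.map_sup, hScoe, Subgroup.subgroupOf_map_subtype] at h2
    conv_lhs => rw [← h2]
    exact sup_le_sup_left inf_le_left _

open Cfsg.Agent.Lib.Helper48_SPE Cfsg.Agent.Lib.Helper76_PSolvable in
open scoped Pointwise in
/-- Main step: in the situation of the theorem, `N_H(Q) ≤ C_H(Q)` for a Sylow `p`-subgroup `Q`
of the normal subgroup `H`. -/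
theorem normalizer_le_centralizer_of_normal {G : Type*} [Group G] [Finite G] {p : ℕ}
    [hp : Fact p.Prime] (P : Sylow p G) (hcyc : IsCyclic (P : Subgroup G)) (H : Subgroup G)
    [hHn : H.Normal] (h1 : p ∣ Nat.card H) (h2 : p ∣ H.index) (Q : Sylow p H) :
    Subgroup.normalizer ((Q : Subgroup H) : Set H) ≤
      Subgroup.centralizer ((Q : Subgroup H) : Set H) := by
  classical
  set QG : Subgroup G := (Q : Subgroup H).map H.subtype with hQG
  have hQGH : QG ≤ H := Subgroup.map_subtype_le _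
  have hQGp : IsPGroup p QG := Q.isPGroup'.map _
  obtain ⟨P', hQP'⟩ := hQGp.exists_le_sylow
  have hcyc' : IsCyclic (P' : Subgroup G) :=
    isCyclic_of_surjective (Sylow.equiv P P') (Sylow.equiv P P').surjective
  have hQne : (Q : Subgroup H) ≠ ⊥ := Q.ne_bot_of_dvd_card h1
  have hQGne : QG ≠ ⊥ := by
    intro h
    apply hQne
    exact (Subgroup.map_eq_bot_iff_of_injective _ H.subtype_injective).mp h
  have hP'H : ¬ (P' : Subgroup G) ≤ H := fun hle =>
    P'.not_dvd_index (h2.trans (Subgroup.index_dvd_of_le hle))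
  -- `Q` is cyclic
  have hQcyc : IsCyclic (Q : Subgroup H) := by
    have e1 : (Q : Subgroup H) ≃* QG := Subgroup.equivMapOfInjective _ _ H.subtype_injective
    have e2 : QG.subgroupOf (P' : Subgroup G) ≃* QG := Subgroup.subgroupOfEquivOfLe hQP'
    have : IsCyclic (QG.subgroupOf (P' : Subgroup G)) := inferInstance
    exact isCyclic_of_surjective (e2.trans e1.symm) (e2.trans e1.symm).surjective
  obtain ⟨hPC, K₂, hK₂C, hK₂card, -, hK₂comm, -⟩ :=
    centralizer_pnilpotent P' hcyc' QG hQP' hQGne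
  set C := Subgroup.centralizer (QG : Set G) with hC
  intro y hy
  by_contra hyC
  -- `y` centralizes no nontrivial element of `Q`
  have hfree : ∀ u : H, u ∈ (Q : Subgroup H) → u ≠ 1 → y * u ≠ u * y := by
    intro u hu hu1 hcomm
    exact hyC (mem_centralizer_of_cyclic_sylow Q hQcyc y hy u hu hu1 hcomm)
  set yG : G := (y : G) with hyG
  have hyH : yG ∈ H := y.2
  -- `yG` normalizes `QG`
  have hyQG : ∀ v, v ∈ QG ↔ yG * v * yG⁻¹ ∈ QG := by
    intro v
    constructor
    · rintro ⟨w, hw, rfl⟩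
      exact ⟨y * w * y⁻¹, (Subgroup.mem_normalizer_iff.mp hy w).mp hw, by simp [hyG]⟩
    · rintro ⟨w, hw, hwv⟩
      have hvH : v ∈ H := by
        have : yG⁻¹ * (yG * v * yG⁻¹) * yG ∈ H := by
          rw [← hwv]
          exact H.mul_mem (H.mul_mem (H.inv_mem hyH) w.2) hyH
        have e : yG⁻¹ * (yG * v * yG⁻¹) * yG = v := by group
        rwa [e] at this
      refine ⟨⟨v, hvH⟩, ?_, rfl⟩
      apply (Subgroup.mem_normalizer_iff.mp hy ⟨v, hvH⟩).mpr
      have : y * ⟨v, hvH⟩ * y⁻¹ = w := by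
        apply Subtype.ext
        simpa [hyG] using hwv.symm
      rw [this]; exact hw
  -- `yG` normalizes `C`
  have hCy : MulAut.conj yG • C = C := by
    ext c
    rw [mem_conj_smul_iff, hC, Subgroup.mem_centralizer_iff, Subgroup.mem_centralizer_iff]
    constructor
    · intro h v hv
      have hv' : yG⁻¹ * v * yG ∈ QG := by
        rw [hyQG]
        have e : yG * (yG⁻¹ * v * yG) * yG⁻¹ = v := by group
        rwa [e]
      have := h _ hv'
      have e1 : v * c = yG * ((yG⁻¹ * v * yG) * (yG⁻¹ * c * yG)) * yG⁻¹ := by group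
      have e2 : c * v = yG * ((yG⁻¹ * c * yG) * (yG⁻¹ * v * yG)) * yG⁻¹ := by group
      rw [e1, e2, this]
    · intro h v hv
      have hv' : yG * v * yG⁻¹ ∈ QG := (hyQG v).mp hv
      have := h _ hv'
      have e1 : v * (yG⁻¹ * c * yG) = yG⁻¹ * ((yG * v * yG⁻¹) * c) * yG := by group
      have e2 : (yG⁻¹ * c * yG) * v = yG⁻¹ * (c * (yG * v * yG⁻¹)) * yG := by group
      rw [e1, e2, this]
  have hs1 : IsSylowIn p (P' : Subgroup G) C := (isSylowIn_top P').mono hPC le_top
  have hs2 : IsSylowIn p (MulAut.conj yG • (P' : Subgroup G)) C := by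
    have := hs1.conj_smul yG
    rwa [hCy] at this
  obtain ⟨c, hcC, hc⟩ := hs2.exists_conj hs1
  set z : G := c * yG with hz
  have hzP : MulAut.conj z • (P' : Subgroup G) = P' := by
    rw [hz, map_mul, mul_smul]; exact hc
  have hzN : z ∈ Subgroup.normalizer ((P' : Subgroup G) : Set G) := by
    rw [Subgroup.mem_normalizer_iff]
    intro v
    constructor
    · intro hv
      rw [← hzP]
      exact conj_mem_conj_smul hv
    · intro hv
      rw [← hzP, mem_conj_smul_iff] at hv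
      have e : z⁻¹ * (z * v * z⁻¹) * z = v := by group
      rwa [e] at hv
  -- `z` acts on `QG` as `yG` does
  have hzQ : ∀ v ∈ QG, z * v * z⁻¹ = yG * v * yG⁻¹ := by
    intro v hv
    have h3 : yG * v * yG⁻¹ ∈ QG := (hyQG v).mp hv
    have h4 := (Subgroup.mem_centralizer_iff.mp hcC) _ h3
    have e : z * v * z⁻¹ = c * (yG * v * yG⁻¹) * c⁻¹ := by rw [hz]; group
    rw [e, ← h4]; group
  -- `z` centralizes no nontrivial element of `P'`
  have hzfree : ∀ v ∈ (P' : Subgroup G), z * v = v * z → v = 1 := by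
    intro v hv hcomm
    by_contra hv1
    have hzC := mem_centralizer_of_cyclic_sylow P' hcyc' z hzN v hv hv1 hcomm
    obtain ⟨⟨u, huQ⟩, hu1'⟩ := (Subgroup.ne_bot_iff_exists_ne_one).mp hQne
    have hu1 : u ≠ 1 := fun h => hu1' (Subtype.ext h)
    have huQG : (u : G) ∈ QG := Subgroup.mem_map_of_mem _ huQ
    have h5 : (u : G) * z = z * (u : G) := (Subgroup.mem_centralizer_iff.mp hzC) _ (hQP' huQG)
    have h6 : yG * (u : G) * yG⁻¹ = (u : G) := by
      rw [← hzQ _ huQG, ← h5]; group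
    apply hfree u huQ hu1
    apply Subtype.ext
    have : yG * (u : G) = (u : G) * yG := mul_inv_eq_iff_eq_mul.mp h6
    simpa [hyG] using this
  -- the commutator map `v ↦ v z v⁻¹ z⁻¹` is a bijection of `P'`
  have hmem : ∀ v ∈ (P' : Subgroup G), v * z * v⁻¹ * z⁻¹ ∈ (P' : Subgroup G) := by
    intro v hv
    have h3 : z * v⁻¹ * z⁻¹ ∈ (P' : Subgroup G) :=
      (Subgroup.mem_normalizer_iff.mp hzN v⁻¹).mp (Subgroup.inv_mem _ hv)
    have e : v * z * v⁻¹ * z⁻¹ = v * (z * v⁻¹ * z⁻¹) := by group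
    rw [e]; exact Subgroup.mul_mem _ hv h3
  let κ : ↥(P' : Subgroup G) → ↥(P' : Subgroup G) := fun v => ⟨v * z * v⁻¹ * z⁻¹, hmem v v.2⟩
  have hκinj : Function.Injective κ := by
    intro v w hvw
    have h3 : (v : G) * z * (v : G)⁻¹ * z⁻¹ = (w : G) * z * (w : G)⁻¹ * z⁻¹ :=
      congrArg Subtype.val hvw
    have h4 : (v : G) * z * (v : G)⁻¹ = (w : G) * z * (w : G)⁻¹ := mul_right_cancel h3
    have h5 : z * ((w : G)⁻¹ * (v : G)) = ((w : G)⁻¹ * (v : G)) * z := by
      have e1 : z * ((w : G)⁻¹ * (v : G)) = (w : G)⁻¹ * ((w : G) * z * (w : G)⁻¹) * (v : G) := by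
        group
      rw [e1, ← h4]; group
    have h6 := hzfree _ (Subgroup.mul_mem _ (Subgroup.inv_mem _ w.2) v.2) h5
    apply Subtype.ext
    exact (inv_mul_eq_one.mp h6).symm
  have hκsurj : Function.Surjective κ := Finite.injective_iff_surjective.mp hκinj
  -- every element of `P'` lies in `K₂ ⊔ H`
  have hsub : (P' : Subgroup G) ≤ K₂ ⊔ H := by
    intro t ht
    obtain ⟨v, hv⟩ := hκsurj ⟨t, ht⟩
    have hv' : (v : G) * z * (v : G)⁻¹ * z⁻¹ = t := congrArg Subtype.val hv
    have e : (v : G) * z * (v : G)⁻¹ * z⁻¹ =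
        ((v : G) * c * (v : G)⁻¹ * c⁻¹) * (c * ((v : G) * yG * (v : G)⁻¹ * yG⁻¹) * c⁻¹) := by
      rw [hz]; group
    rw [← hv', e]
    apply Subgroup.mul_mem_sup
    · exact hK₂comm _ (hPC v.2) c hcC
    · have h3 : (v : G) * yG * (v : G)⁻¹ * yG⁻¹ ∈ H :=
        H.mul_mem (hHn.conj_mem yG hyH _) (H.inv_mem hyH)
      exact hHn.conj_mem _ h3 c
  -- cardinalities
  obtain ⟨a, ha⟩ := P'.2.exists_card_eq
  have hd1 : p ^ a ∣ Nat.card K₂ * Nat.card H := by
    rw [← ha]
    exact (Subgroup.card_dvd_of_le hsub).trans (card_sup_dvd K₂ H)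
  have hd2 : p ^ a ∣ Nat.card H := by
    have hcop : (p ^ a).Coprime (Nat.card K₂) := Nat.Coprime.pow_left _ hK₂card.symm
    exact hcop.dvd_of_dvd_mul_left hd1
  have hd3 : p ^ a ∣ Nat.card (Q : Subgroup H) := Q.pow_dvd_card_of_pow_dvd_card hd2
  have hd4 : Nat.card (P' : Subgroup G) ≤ Nat.card QG := by
    rw [ha, hQG, Subgroup.card_map_of_injective H.subtype_injective]
    exact Nat.le_of_dvd Nat.card_pos hd3
  have heq : QG = (P' : Subgroup G) := Subgroup.eq_of_le_of_card_ge hQP' hd4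
  exact hP'H (heq ▸ hQGH)

theorem conj_mem_centralizer_of_mem_normalizer {G : Type*} [Group G] (R : Subgroup G) (n c : G)
    (hn : n ∈ Subgroup.normalizer (R : Set G)) (hc : c ∈ Subgroup.centralizer (R : Set G)) :
    n * c * n⁻¹ ∈ Subgroup.centralizer (R : Set G) := by
  rw [Subgroup.mem_centralizer_iff] at hc ⊢
  intro v hv
  have hv' : n⁻¹ * v * n ∈ R := (Subgroup.mem_normalizer_iff''.mp hn v).mp hv
  have := hc _ hv'
  have e1 : v * (n * c * n⁻¹) = n * ((n⁻¹ * v * n) * c) * n⁻¹ := by group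
  have e2 : n * c * n⁻¹ * v = n * (c * (n⁻¹ * v * n)) * n⁻¹ := by group
  rw [e1, e2, this]

theorem orderOf_conj_eq {G : Type*} [Group G] (g x : G) : orderOf (g * x * g⁻¹) = orderOf x := by
  have := MulEquiv.orderOf_eq (MulAut.conj g) x
  rwa [MulAut.conj_apply] at this

theorem sup_normal_of_normalizes {G : Type*} [Group G] (KG S N : Subgroup G) [hKG : KG.Normal]
    (hKN : KG ⊔ N = ⊤) (hS : ∀ n ∈ N, ∀ s ∈ S, n * s * n⁻¹ ∈ S) : (KG ⊔ S).Normal := by
  have key : ∀ n ∈ N, ∀ h ∈ KG ⊔ S, n * h * n⁻¹ ∈ KG ⊔ S := by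
    intro n hn h hh
    have hmap : (KG ⊔ S).map (MulAut.conj n).toMonoidHom ≤ KG ⊔ S := by
      rw [Subgroup.map_sup]
      apply sup_le_sup
      · rintro _ ⟨k, hk, rfl⟩; exact hKG.conj_mem k hk n
      · rintro _ ⟨s, hs, rfl⟩; exact hS n hn s hs
    exact hmap ⟨h, hh, rfl⟩
  rw [← Subgroup.normalizer_eq_top_iff, eq_top_iff, ← hKN]
  apply sup_le
  · exact le_sup_left.trans Subgroup.le_normalizer
  · intro n hn
    rw [Subgroup.mem_normalizer_iff]
    intro h
    constructor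
    · exact key n hn h
    · intro hh
      have := key n⁻¹ (N.inv_mem hn) _ hh
      simpa [mul_assoc] using this

open Cfsg.Agent.Lib.Helper48_SPE Cfsg.Agent.Lib.Helper76_PSolvable in
/-- Let G be a finite group with a cyclic Sylow p-subgroup and H a normal subgroup such that p divides both the order of H and the index of H. Then H has a normal p-complement and G is p-solvable. -/
theorem result {G : Type*} [Group G] [Finite G] (p : ℕ) [Fact p.Prime]
    (P : Sylow p G) (hP : IsCyclic (P : Subgroup G)) (H : Subgroup G) [H.Normal] (h1 : p ∣ Nat.card H) (h2 : p ∣ H.index) :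
    Cfsg.HasNormalPComplement p H ∧ Cfsg.IsPSolvable p G := by
  classical
  have hpp : p.Prime := Fact.out
  have hHn : H.Normal := inferInstance
  obtain ⟨Q⟩ : Nonempty (Sylow p H) := inferInstance
  have hNC := normalizer_le_centralizer_of_normal P hP H h1 h2 Q
  obtain ⟨K, hKn, hKc, hKcard, hKp', -⟩ := exists_normal_pcomplement Q hNC
  refine ⟨⟨Q, K, hKn, hKc⟩, ?_⟩
  -- the normal `p`-complement of `H` is normal in `G`
  set KG : Subgroup G := K.map H.subtype with hKG
  have hKGcard : (Nat.card KG).Coprime p := by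
    rw [hKG, Subgroup.card_map_of_injective H.subtype_injective]; exact hKcard
  have hKGn : KG.Normal := by
    constructor
    rintro _ ⟨k, hk, rfl⟩ g
    have hmemH : g * (k : G) * g⁻¹ ∈ H := hHn.conj_mem _ k.2 g
    refine ⟨⟨_, hmemH⟩, hKp' _ ?_, rfl⟩
    rw [Subgroup.orderOf_mk, orderOf_conj_eq, Subgroup.orderOf_coe]
    have h3 : orderOf k ∣ Nat.card K := by
      have := orderOf_dvd_natCard (⟨k, hk⟩ : K)
      rwa [Subgroup.orderOf_mk] at this
    exact Nat.Coprime.coprime_dvd_left h3 hKcard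
  set QG : Subgroup G := (Q : Subgroup H).map H.subtype with hQG
  have hQGp : IsPGroup p QG := Q.2.map H.subtype
  obtain ⟨P', hQP'⟩ := hQGp.exists_le_sylow
  have hP'cyc : IsCyclic (P' : Subgroup G) := by
    have e : (P : Subgroup G) ≃* (P' : Subgroup G) := Sylow.equiv P P'
    have := hP
    exact isCyclic_of_surjective e e.surjective
  have hQGne : QG ≠ ⊥ := by
    intro h
    have h3 : (Q : Subgroup H) = ⊥ := by
      rw [hQG] at h
      exact (Subgroup.map_eq_bot_iff_of_injective _ H.subtype_injective).mp h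
    have h4 : p ∣ Nat.card (Q : Subgroup H) := Q.dvd_card_of_dvd_card h1
    rw [h3, Subgroup.card_bot] at h4
    exact hpp.one_lt.ne' (Nat.dvd_one.mp h4)
  obtain ⟨hPC, K₂, hK₂C, hK₂card, hK₂p', -, hCle⟩ :=
    centralizer_pnilpotent P' hP'cyc QG hQP' hQGne
  set C := Subgroup.centralizer (QG : Set G) with hC
  set N := Subgroup.normalizer (QG : Set G) with hN
  have hFr : N ⊔ H = ⊤ := Sylow.normalizer_sup_eq_top Q
  have hHle : H ≤ KG ⊔ QG := by
    have h3 : (K ⊔ (Q : Subgroup H)).map H.subtype = H := by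
      rw [hKc.sup_eq_top, ← MonoidHom.range_eq_map, Subgroup.range_subtype]
    rw [Subgroup.map_sup] at h3
    exact h3.ge
  have hQGN : QG ≤ N := Subgroup.le_normalizer
  have hKN : KG ⊔ N = ⊤ := by
    rw [eq_top_iff, ← hFr]
    apply sup_le le_sup_right
    exact hHle.trans (sup_le_sup_left hQGN _)
  have hCN : ∀ n ∈ N, ∀ c ∈ C, n * c * n⁻¹ ∈ C := fun n hn c hc =>
    conj_mem_centralizer_of_mem_normalizer QG n c hn hc
  have hK₂N : ∀ n ∈ N, ∀ s ∈ K₂, n * s * n⁻¹ ∈ K₂ := by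
    intro n hn s hs
    apply hK₂p' _ (hCN n hn s (hK₂C hs))
    rw [orderOf_conj_eq]
    have h3 : orderOf s ∣ Nat.card K₂ := by
      have := orderOf_dvd_natCard (⟨s, hs⟩ : K₂)
      rwa [Subgroup.orderOf_mk] at this
    exact Nat.Coprime.coprime_dvd_left h3 hK₂card
  have hM₁n : (KG ⊔ K₂).Normal := sup_normal_of_normalizes KG K₂ N hKN hK₂N
  have hM₂n : (KG ⊔ C).Normal := sup_normal_of_normalizes KG C N hKN hCN
  have hM₁card : (Nat.card (KG ⊔ K₂ : Subgroup G)).Coprime p := by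
    have h3 := card_sup_dvd K₂ KG
    rw [sup_comm]
    exact Nat.Coprime.coprime_dvd_left h3 (Nat.Coprime.mul_left hK₂card hKGcard)
  have hM₂eq : KG ⊔ C = (P' : Subgroup G) ⊔ (KG ⊔ K₂) := by
    apply le_antisymm
    · apply sup_le (le_sup_left.trans le_sup_right)
      refine hCle.trans (sup_le (le_sup_right.trans le_sup_right) le_sup_left)
    · apply sup_le (hPC.trans le_sup_right)
      exact sup_le_sup_left hK₂C _
  obtain ⟨a, ha⟩ := P'.2.exists_card_eq
  have hrel : ∃ m : ℕ, (KG ⊔ K₂).relIndex (KG ⊔ C) = p ^ m := by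
    rw [hM₂eq, Subgroup.relIndex_sup_right]
    have h3 : (KG ⊔ K₂).relIndex (P' : Subgroup G) ∣ p ^ a := by
      rw [← ha]; exact Subgroup.relIndex_dvd_card _ _
    obtain ⟨m, -, hm⟩ := (Nat.dvd_prime_pow hpp).mp h3
    exact ⟨m, hm⟩
  have hidx : ((KG ⊔ C).index).Coprime p := by
    have h3 : (KG ⊔ C).index ∣ (P' : Subgroup G).index :=
      Subgroup.index_dvd_of_le (hPC.trans le_sup_right)
    have h4 : ¬ p ∣ (P' : Subgroup G).index := P'.not_dvd_index
    have h5 : ((P' : Subgroup G).index).Coprime p :=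
      (Nat.coprime_comm.mp ((Nat.Prime.coprime_iff_not_dvd hpp).mpr h4))
    exact Nat.Coprime.coprime_dvd_left h3 h5
  refine ⟨3, ![⊥, KG ⊔ K₂, KG ⊔ C, ⊤], rfl, rfl, ?_, ?_, ?_⟩
  · rw [Fin.monotone_iff_le_succ]
    intro i
    fin_cases i
    · exact bot_le
    · exact sup_le_sup_left hK₂C _
    · exact le_top
  · intro i
    fin_cases i
    · show (⊥ : Subgroup G).Normal; infer_instance
    · exact hM₁n
    · exact hM₂n
    · show (⊤ : Subgroup G).Normal; infer_instance
  · intro i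
    fin_cases i
    · right
      show ((⊥ : Subgroup G).relIndex (KG ⊔ K₂)).Coprime p
      rw [Subgroup.relIndex_bot_left]; exact hM₁card
    · left
      exact hrel
    · right
      show ((KG ⊔ C).relIndex ⊤).Coprime p
      rw [Subgroup.relIndex_top_right]; exact hidx

end Cfsg.Agent.S4145
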