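import Cfsg.Statements.S0216
import Cfsg.Agent.Lib.Helper4_Isolated

set_option autoImplicit false
open Cfsg

namespace Cfsg.Agent.S0216

open Cfsg.Agent.Lib.Helper4_InvPairs Cfsg.Agent.Lib.Helper4_Dihedral
  Cfsg.Agent.Lib.Helper4_DihedralIso Cfsg.Agent.Lib.Helper4_Isolated

/-- If `u` is an isolated involution of a Sylow 2-subgroup and `v` is a conjugate of `u`,
then `u * v` has odd order. -/
theorem odd_orderOf_mul_conj {G : Type*} [Group G] [Finite G] (P : Sylow 2 G) (u : G)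
    (hu : orderOf u = 2)
    (hiso : ∀ g : G, g * u * g⁻¹ ∈ P → g * u * g⁻¹ = u) (g : G) :
    Odd (orderOf (u * (g * u * g⁻¹))) := by
  obtain ⟨v, hv⟩ : ∃ v, v = g * u * g⁻¹ := ⟨_, rfl⟩
  rw [← hv]
  have hvord : orderOf v = 2 := by
    rw [hv]
    rw [← MulAut.conj_apply, MulEquiv.orderOf_eq]
    exact hu
  have hu2 := mul_self_of_orderOf_two hu
  have hv2 := mul_self_of_orderOf_two hvord
  obtain ⟨a, m, hm, hn⟩ := Nat.exists_eq_two_pow_mul_odd (orderOf_pos (u * v)).ne'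
  obtain ⟨k, hk⟩ := hm
  -- the conjugate w = ρ^(k+1) v ρ^-(k+1) = ρ^m u
  have hw : ((u * v) ^ ((k : ℤ) + 1) * g) * u * ((u * v) ^ ((k : ℤ) + 1) * g)⁻¹
      = (u * v) ^ (m : ℤ) * u := by
    have hy := y_eq hu2 hv2
    have hz := zpow_mul_x hu2 hv2 ((k : ℤ) + 1)
    obtain ⟨ρ, hρ⟩ : ∃ ρ, ρ = u * v := ⟨_, rfl⟩
    rw [← hρ] at hy hz ⊢
    calc (ρ ^ ((k : ℤ) + 1) * g) * u * (ρ ^ ((k : ℤ) + 1) * g)⁻¹
        = ρ ^ ((k : ℤ) + 1) * (g * u * g⁻¹) * (ρ ^ ((k : ℤ) + 1))⁻¹ := by group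
      _ = ρ ^ ((k : ℤ) + 1) * (ρ⁻¹ * u) * (ρ ^ ((k : ℤ) + 1))⁻¹ := by
          rw [← hv, ← hy]
      _ = ρ ^ ((k : ℤ) + 1) * ρ⁻¹ * (u * (ρ ^ ((k : ℤ) + 1))⁻¹) := by group
      _ = ρ ^ ((k : ℤ) + 1) * ρ⁻¹ * (ρ ^ ((k : ℤ) + 1) * u) := by
          rw [← hz]
      _ = ρ ^ (m : ℤ) * u := by
          rw [hk]
          push_cast
          group
  -- closure {u, w} is a 2-group
  have huw : u * ((u * v) ^ (m : ℤ) * u) = ((u * v) ^ (m : ℤ))⁻¹ := by
    rw [← mul_assoc, conj_rot_zpow hu2 hv2]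
  have hword : orderOf ((u * v) ^ (m : ℤ) * u) = 2 := by
    rw [← hw]
    rw [← MulAut.conj_apply, MulEquiv.orderOf_eq]
    exact hu
  have hm0 : m ≠ 0 := by omega
  have hord : orderOf (u * ((u * v) ^ (m : ℤ) * u)) = 2 ^ a := by
    rw [huw, orderOf_inv, zpow_natCast, orderOf_pow' _ hm0]
    rw [hn, Nat.gcd_mul_left_left, Nat.mul_div_cancel _ (Nat.pos_of_ne_zero hm0)]
  have hpg : IsPGroup 2 (Subgroup.closure ({u, ((u * v) ^ ((k : ℤ) + 1) * g) * u *
      ((u * v) ^ ((k : ℤ) + 1) * g)⁻¹} : Set G)) := by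
    rw [hw]
    exact isPGroup_closure hu hword a hord
  have heq := eq_of_isolated P u hiso _ hpg
  rw [hw] at heq
  have hone : (u * v) ^ (m : ℤ) = 1 := by
    have := congrArg (fun z => z * u⁻¹) heq
    simpa using this
  rw [zpow_natCast] at hone
  have hdvd := orderOf_dvd_of_pow_eq_one hone
  rw [hn] at hdvd ⊢
  have h2a : 2 ^ a = 1 := by
    have h1 : 2 ^ a * m ∣ 1 * m := by rwa [one_mul]
    exact Nat.dvd_one.mp (Nat.dvd_of_mul_dvd_mul_right (Nat.pos_of_ne_zero hm0) h1)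
  rw [h2a, one_mul]
  exact ⟨k, hk⟩

/-- For an involution u in a Sylow 2-subgroup P of a finite group G, the following are equivalent: no G-conjugate of u other than u lies in P; every commutator of u with an element of G has odd order. -/
theorem result {G : Type*} [Group G] [Finite G] (P : Sylow 2 G) (u : G) (hu : orderOf u = 2) (huP : u ∈ P) : (∀ g : G, g * u * g⁻¹ ∈ P → g * u * g⁻¹ = u) ↔ (∀ g : G, Odd (orderOf (u * g * u⁻¹ * g⁻¹))) := by
  have hcomm : ∀ g : G, u * g * u⁻¹ * g⁻¹ = u * (g * u * g⁻¹) := by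
    intro g
    rw [inv_eq_self_of_orderOf_two hu]
    group
  constructor
  · intro hiso g
    rw [hcomm]
    exact odd_orderOf_mul_conj P u hu hiso g
  · intro hodd g hg
    have h1 := hodd g
    rw [hcomm] at h1
    have hmem : u * (g * u * g⁻¹) ∈ P := Subgroup.mul_mem _ huP hg
    obtain ⟨j, hj⟩ := (IsPGroup.iff_orderOf.mp P.isPGroup') ⟨_, hmem⟩
    rw [Subgroup.orderOf_mk] at hj
    have hj0 : j = 0 := by
      by_contra hne
      rw [hj] at h1
      have : Even (2 ^ j) := (Nat.even_pow' hne).mpr (by decide)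
      exact (Nat.not_odd_iff_even.mpr this) h1
    rw [hj0, pow_zero, orderOf_eq_one_iff] at hj
    have : g * u * g⁻¹ = u⁻¹ := (inv_eq_of_mul_eq_one_right hj).symm
    rw [this, inv_eq_self_of_orderOf_two hu]

end Cfsg.Agent.S0216
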