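import Cfsg.Statements.S2968
import Cfsg.Agent.Lib.Helper49_Isolated

set_option autoImplicit false
open Cfsg

namespace Cfsg.Agent.S2968

open Cfsg.Agent.Lib.Helper49_Isolated

/-- Let G be a finite group, p a prime, P a Sylow p-subgroup of G and x ∈ P an element of p-power order which is isolated in G (the only conjugate of x commuting with x is x itself). Then x lies in the centre of P, and the subgroup generated by x is both strongly closed and weakly closed in P with respect to G. -/
theorem result {G : Type*} [Group G] [Finite G] {p : ℕ} [Fact p.Prime] (P : Sylow p G) (x : G) (hxP : x ∈ (P : Subgroup G)) (hx : ∃ k : ℕ, orderOf x = p ^ k) (hiso : Cfsg.IsIsolated x) : x ∈ (P : Subgroup G) ⊓ Subgroup.centralizer ((P : Subgroup G) : Set G) ∧ Cfsg.IsStronglyClosed (Subgroup.zpowers x) (P : Subgroup G) ∧ Cfsg.IsWeaklyClosed (Subgroup.zpowers x) (P : Subgroup G) := by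
  classical
  have hcent : ∀ r ∈ (P : Subgroup G), Commute x r :=
    commute_of_mem_pGroup hiso (P : Subgroup G) P.isPGroup' hxP
  have hzP : Subgroup.zpowers x ≤ (P : Subgroup G) := by
    rw [Subgroup.zpowers_le]; exact hxP
  refine ⟨Subgroup.mem_inf.mpr ⟨hxP, ?_⟩, ⟨hzP, ?_⟩, ⟨hzP, ?_⟩⟩
  · rw [Subgroup.mem_centralizer_iff]
    intro r hr
    exact ((hcent r hr).eq).symm
  · -- strongly closed
    intro y hy g hgy
    obtain ⟨k, rfl⟩ := Subgroup.mem_zpowers_iff.mp hy
    -- z = g x^k g⁻¹ ∈ P commutes with x
    set z : G := g * x ^ k * g⁻¹ with hz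
    have hzx' : z = (g * x * g⁻¹) ^ k := by
      rw [hz]
      have := map_zpow (MulAut.conj g).toMonoidHom x k
      simp only [MulEquiv.coe_toMonoidHom, MulAut.conj_apply] at this
      exact this
    have hxz : Commute x z := hcent z hgy
    -- both x and g x g⁻¹ lie in the centralizer of z
    have hxC : x ∈ Subgroup.centralizer ({z} : Set G) := by
      rw [Subgroup.mem_centralizer_iff]
      intro w hw
      rw [Set.mem_singleton_iff] at hw
      rw [hw]; exact hxz.eq.symm
    have hyC : g * x * g⁻¹ ∈ Subgroup.centralizer ({z} : Set G) := by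
      rw [Subgroup.mem_centralizer_iff]
      intro w hw
      rw [Set.mem_singleton_iff] at hw
      rw [hw, hzx']
      exact ((Commute.refl (g * x * g⁻¹)).zpow_left k).eq
    obtain ⟨c, hc, hcx⟩ := exists_conj_of_mem hiso hx _ hxC g hyC
    have hcz : c * z = z * c := by
      have := (Subgroup.mem_centralizer_iff.mp hc) z rfl
      exact this.symm
    have hzc : z = c * x ^ k * c⁻¹ := by
      rw [hzx', hcx]
      have := map_zpow (MulAut.conj c).toMonoidHom x k
      simp only [MulEquiv.coe_toMonoidHom, MulAut.conj_apply] at this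
      exact this.symm
    have : z = x ^ k := by
      have h1 : x ^ k = c⁻¹ * z * c := by rw [hzc]; group
      rw [h1]
      calc z = c⁻¹ * (c * z) := by group
        _ = c⁻¹ * (z * c) := by rw [hcz]
        _ = c⁻¹ * z * c := by group
    rw [this]
    exact Subgroup.zpow_mem_zpowers x k
  · -- weakly closed
    intro g hg
    have h1 : g * x * g⁻¹ ∈ (P : Subgroup G) := by
      apply hg
      exact ⟨x, Subgroup.mem_zpowers x, by simp [MulAut.conj_apply]⟩
    have h2 : g * x * g⁻¹ = x := conj_eq_of_mem_pGroup hiso (P : Subgroup G) P.isPGroup' hxP g h1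
    rw [MonoidHom.map_zpowers]
    simp only [MulEquiv.coe_toMonoidHom, MulAut.conj_apply, h2]

end Cfsg.Agent.S2968
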