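import Cfsg.Statements.S0842
import Cfsg.Agent.Lib.Helper55_QuatCoord
import Cfsg.Agent.Lib.Helper55_DihedralNPC
import Cfsg.Agent.Lib.Helper17_Sylow
import Cfsg.Agent.Lib.Helper47_SubAPI
import Cfsg.Agent.Lib.Helper50_Basic

set_option autoImplicit false
open Cfsg

namespace Cfsg.Agent.S0842

open Subgroup Cfsg.Agent.Lib Cfsg.Agent.Lib.Helper55_QuatCoord
  Cfsg.Agent.Lib.Helper35_FrobeniusNPC
open scoped commutatorElement

/-- A characteristic subgroup of `C` is normalized by the normalizer of `C`. -/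
theorem normalizer_le_normalizer_map_char {G : Type*} [Group G] [Finite G] (C : Subgroup G)
    (K : Subgroup C) [hK : K.Characteristic] :
    normalizer (C : Set G) ≤ normalizer ((K.map C.subtype : Subgroup G) : Set G) := by
  intro g hg
  apply Helper50_Basic.mem_normalizer_of_map_conj_le
  rintro _ ⟨_, ⟨x, hx, rfl⟩, rfl⟩
  have h1 := Subgroup.characteristic_iff_map_eq.mp hK (C.normalizerMonoidHom ⟨g, hg⟩)
  have h2 : (C.normalizerMonoidHom ⟨g, hg⟩) x ∈ K := by
    rw [← h1]
    exact ⟨x, hx, rfl⟩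
  exact ⟨_, h2, rfl⟩

/-- Suppose a Sylow 2-subgroup S of the finite group G is generalized quaternion of order at least 16, and let D be the commutator subgroup of S, C its centralizer and N its normalizer in G. Then there is a subgroup K of odd order, contained in C and normalized by N, with K ⊔ S = N and K ⊔ (S ⊓ C) = C, and C has index 2 in N. -/
theorem result {G : Type*} [Group G] [Finite G] (S : Sylow 2 G) (n : ℕ) (e : (S : Subgroup G) ≃* QuaternionGroup (2 ^ (n + 2))) (D : Subgroup G) (hD : D = ⁅(S : Subgroup G), (S : Subgroup G)⁆) : ∃ K : Subgroup G, Odd (Nat.card K) ∧ K ≤ Subgroup.centralizer (D : Set G) ∧ Subgroup.normalizer (D : Set G) ≤ Subgroup.normalizer (K : Set G) ∧ K ⊔ (S : Subgroup G) = Subgroup.normalizer (D : Set G) ∧ K ⊔ ((S : Subgroup G) ⊓ Subgroup.centralizer (D : Set G)) = Subgroup.centralizer (D : Set G) ∧ ((Subgroup.centralizer (D : Set G)).subgroupOf (Subgroup.normalizer (D : Set G))).index = 2 := by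
  classical
  have : Fact (Nat.Prime 2) := ⟨Nat.prime_two⟩
  have hNe : NeZero (2 ^ (n + 2)) := ⟨by positivity⟩
  have h2N : ((2 * 2 ^ (n + 2) : ℕ) : ZMod (2 * 2 ^ (n + 2))) = 0 := ZMod.natCast_self _
  have hDα : D ≤ zpowers (A e 1) := by rw [hD]; exact commutator_le e
  have hDS : D ≤ (S : Subgroup G) := hDα.trans (zpowers_le e)
  have hDp : IsPGroup 2 D := S.2.to_le hDS
  -- `A 2 ∈ D`
  have hα2 : A e 2 ∈ D := by
    have h1 : ⁅XA e 0, A e 1⁆ ∈ D := by
      rw [hD]; exact Subgroup.commutator_mem_commutator (XA_mem e 0) (A_mem e 1)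
    have h2 : ⁅XA e 0, A e 1⁆ = A e (-2) := by
      rw [commutatorElement_def, XA_inv, A_inv, XA_mul_A, XA_mul_XA, A_mul_A]
      congr 1
      have h2N' : ((2 ^ (n + 2) : ℕ) : ZMod (2 * 2 ^ (n + 2))) +
          ((2 ^ (n + 2) : ℕ) : ZMod (2 * 2 ^ (n + 2))) = 0 := by
        rw [← Nat.cast_add, ← two_mul]; exact h2N
      linear_combination h2N'
    rw [h2] at h1
    have h3 := D.inv_mem h1
    rwa [A_inv, neg_neg] at h3
  -- S normalizes D
  have hSN : (S : Subgroup G) ≤ normalizer (D : Set G) := by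
    intro s hs
    apply Helper50_Basic.mem_normalizer_of_map_conj_le
    have hSmap : (S : Subgroup G).map (MulAut.conj s).toMonoidHom = (S : Subgroup G) := by
      ext x
      rw [Subgroup.mem_map]
      constructor
      · rintro ⟨w, hw, rfl⟩
        exact mul_mem (mul_mem hs hw) (inv_mem hs)
      · intro hx
        refine ⟨s⁻¹ * x * s, mul_mem (mul_mem (inv_mem hs) hx) hs, ?_⟩
        simp [MulAut.conj_apply, mul_assoc]
    rw [hD, Subgroup.map_commutator, hSmap]
  -- the cyclic subgroup centralizes D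
  have hαC : zpowers (A e 1) ≤ centralizer (D : Set G) := by
    intro x hx
    rw [mem_centralizer_iff]
    intro y hy
    obtain ⟨i, rfl⟩ := (mem_zpowers_iff e x).mp hx
    obtain ⟨j, rfl⟩ := (mem_zpowers_iff e y).mp (hDα hy)
    rw [A_mul_A, A_mul_A]
    congr 1
    exact add_comm _ _
  have hXA : ∀ i, XA e i ∉ centralizer (D : Set G) := by
    intro i hmem
    rw [mem_centralizer_iff] at hmem
    have h1 := hmem _ hα2
    rw [A_mul_XA, XA_mul_A] at h1
    have h2 := XA_injective e h1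
    have h3 : ((4 : ℕ) : ZMod (2 * 2 ^ (n + 2))) = 0 := by
      push_cast
      linear_combination -h2
    rw [ZMod.natCast_eq_zero_iff] at h3
    have h4 := Nat.le_of_dvd (by norm_num) h3
    have h5 : 2 ^ (n + 2) = 4 * 2 ^ n := by ring
    have h6 : 0 < 2 ^ n := by positivity
    omega
  have hT : (S : Subgroup G) ⊓ centralizer (D : Set G) = zpowers (A e 1) := by
    apply le_antisymm
    · rintro x ⟨hxS, hxC⟩
      rcases cases_mem e hxS with ⟨i, rfl⟩ | ⟨i, rfl⟩
      · exact (mem_zpowers_iff e _).mpr ⟨i, rfl⟩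
      · exact absurd hxC (hXA i)
    · exact le_inf (zpowers_le e) hαC
  -- notation
  obtain ⟨Nn, hNn⟩ : ∃ Nn : Subgroup G, Nn = normalizer (D : Set G) := ⟨_, rfl⟩
  obtain ⟨C, hC⟩ : ∃ C : Subgroup G, C = centralizer (D : Set G) := ⟨_, rfl⟩
  rw [← hNn, ← hC]
  rw [← hNn] at hSN
  rw [← hC] at hαC hXA hT
  have hCN : C ≤ Nn := by rw [hC, hNn]; exact centralizer_le_normalizer _
  have hNnC : Nn ≤ normalizer (C : Set G) := by
    rw [hC, hNn]; exact Helper47_SubAPI.normalizer_le_normalizer_centralizer D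
  -- every 2-subgroup of C is conjugate in Nn into T = ⟨A 1⟩
  have hsyl : ∀ P : Sylow 2 C, zpowers (A e 1) ≤ (P : Subgroup C).map C.subtype →
      (P : Subgroup C).map C.subtype = zpowers (A e 1) := by
    intro P hle
    have hPp : IsPGroup 2 ((P : Subgroup C).map C.subtype) := P.2.map _
    have hPN : (P : Subgroup C).map C.subtype ≤ Nn := (Subgroup.map_subtype_le _).trans hCN
    obtain ⟨c, hc, hcx⟩ := Helper32_Sylow.sylow_conj_into Nn S hSN _ hPN hPp
    -- the conjugate lies in S ⊓ C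
    have hle2 : ((P : Subgroup C).map C.subtype).map (MulAut.conj c).toMonoidHom ≤
        zpowers (A e 1) := by
      rintro _ ⟨x, hx, rfl⟩
      rw [← hT]
      refine ⟨hcx x hx, ?_⟩
      have hxC : x ∈ C := Subgroup.map_subtype_le _ hx
      have hcN := hNnC hc
      exact (mem_normalizer_iff.mp hcN x).mp hxC
    apply (Subgroup.eq_of_le_of_card_ge hle ?_).symm
    have h1 := Subgroup.card_le_of_le hle2
    rwa [Subgroup.card_map_of_injective (MulAut.conj c).injective] at h1
  -- a Sylow 2-subgroup of C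
  have hTp : IsPGroup 2 ((zpowers (A e 1)).subgroupOf C) :=
    (S.2.to_le (zpowers_le e)).comap_subtype
  obtain ⟨P, hP⟩ := hTp.exists_le_sylow
  have hPmap : (P : Subgroup C).map C.subtype = zpowers (A e 1) := by
    apply hsyl P
    intro x hx
    exact ⟨⟨x, hαC hx⟩, hP (by rw [mem_subgroupOf]; exact hx), rfl⟩
  have hPcyc : IsCyclic (P : Subgroup C) := by
    have h1 : IsCyclic ((P : Subgroup C).map C.subtype) := by rw [hPmap]; infer_instance
    exact isCyclic_of_injective
      ((P : Subgroup C).equivMapOfInjective C.subtype C.subtype_injective).toMonoidHom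
      (MulEquiv.injective _)
  -- the normal 2-complement of C
  obtain ⟨K₁, hK₁n, hK₁c, j, hK₁i⟩ := Helper55_DihedralNPC.hasNPC_of_isCyclic_sylow P hPcyc
  obtain ⟨K, hK⟩ : ∃ K : Subgroup C, K = Cfsg.pPrimeCore 2 C := ⟨_, rfl⟩
  have hK₁K : K₁ ≤ K := by rw [hK]; exact Helper1_Cores.le_pPrimeCore hK₁n hK₁c
  have hKc : (Nat.card K).Coprime 2 := by rw [hK]; exact Helper1_Cores.pPrimeCore_card_coprime 2
  obtain ⟨b, hb⟩ : ∃ b, K.index = 2 ^ b := by
    have h1 : K.index ∣ K₁.index := Subgroup.index_dvd_of_le hK₁K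
    rw [hK₁i] at h1
    obtain ⟨b, _, hb⟩ := (Nat.dvd_prime_pow Nat.prime_two).mp h1
    exact ⟨b, hb⟩
  have hKchar : K.Characteristic := by rw [hK]; infer_instance
  have hKn : K.Normal := by rw [hK]; infer_instance
  have hcompl : K.IsComplement' (P : Subgroup C) := isComplement'_of_npc hKc hb P
  have hsup : K ⊔ (P : Subgroup C) = ⊤ := hcompl.sup_eq_top
  have hCeq : K.map C.subtype ⊔ zpowers (A e 1) = C := by
    rw [← hPmap, ← Subgroup.map_sup, hsup, ← MonoidHom.range_eq_map, Subgroup.range_subtype]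
  -- D is cyclic, so N/C is a 2-group
  have hDcyc : IsCyclic D :=
    isCyclic_of_injective (Subgroup.inclusion hDα) (Subgroup.inclusion_injective hDα)
  have hCi : ∃ x, (C.subgroupOf Nn).index ∣ 2 ^ x := by
    have h1 := Helper17_Sylow.relIndex_centralizer_normalizer_dvd D
    rw [IsCyclic.card_mulAut] at h1
    obtain ⟨d, hd⟩ := IsPGroup.iff_card.mp hDp
    rw [hd] at h1
    rw [hC, hNn]
    rcases Nat.eq_zero_or_pos d with h0 | h0
    · refine ⟨0, ?_⟩
      rw [h0, pow_zero, Nat.totient_one] at h1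
      rw [pow_zero]; exact h1
    · refine ⟨d - 1, ?_⟩
      rw [Nat.totient_prime_pow Nat.prime_two h0] at h1
      have h2 : 2 ^ (d - 1) * (2 - 1) = 2 ^ (d - 1) := by norm_num
      rw [h2] at h1
      exact h1
  obtain ⟨x, hx⟩ := hCi
  have hC'n : (C.subgroupOf Nn).Normal := by rw [hC, hNn]; infer_instance
  -- decomposition of Nn
  have hdecomp : ∀ g ∈ Nn, ∃ c ∈ C, ∃ s ∈ (S : Subgroup G), g = c * s := by
    intro g hg
    let S' : Sylow 2 Nn := S.subtype hSN
    have hS' : (S' : Subgroup Nn) = (S : Subgroup G).subgroupOf Nn := Sylow.coe_subtype S hSN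
    have htop : C.subgroupOf Nn ⊔ (S' : Subgroup Nn) = ⊤ := by
      rw [← Subgroup.index_eq_one]
      have h1 : (C.subgroupOf Nn ⊔ (S' : Subgroup Nn)).index ∣ 2 ^ x :=
        (Subgroup.index_dvd_of_le le_sup_left).trans hx
      have h2 : (C.subgroupOf Nn ⊔ (S' : Subgroup Nn)).index ∣ (S' : Subgroup Nn).index :=
        Subgroup.index_dvd_of_le le_sup_right
      obtain ⟨y, -, hy⟩ := (Nat.dvd_prime_pow Nat.prime_two).mp h1
      rcases Nat.eq_zero_or_pos y with h0 | h0
      · rw [hy, h0, pow_zero]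
      · exfalso
        apply S'.not_dvd_index
        refine dvd_trans ?_ h2
        rw [hy]; exact dvd_pow_self 2 (by omega)
    have hgm : (⟨g, hg⟩ : Nn) ∈ (C.subgroupOf Nn ⊔ (S' : Subgroup Nn) : Subgroup Nn) := by
      rw [htop]; exact mem_top _
    rw [← SetLike.mem_coe, Subgroup.normal_mul] at hgm
    obtain ⟨c, hc, s, hs, hcs⟩ := Set.mem_mul.mp hgm
    rw [SetLike.mem_coe, mem_subgroupOf] at hc
    rw [SetLike.mem_coe, hS', mem_subgroupOf] at hs
    refine ⟨c, hc, s, hs, ?_⟩
    have := congrArg Subtype.val hcs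
    simpa using this.symm
  refine ⟨K.map C.subtype, ?_, Subgroup.map_subtype_le _, ?_, ?_, ?_, ?_⟩
  · rw [Subgroup.card_map_of_injective C.subtype_injective]
    exact Nat.coprime_two_right.mp hKc
  · exact hNnC.trans (normalizer_le_normalizer_map_char C K)
  · apply le_antisymm
    · exact sup_le ((Subgroup.map_subtype_le _).trans hCN) hSN
    · intro g hg
      obtain ⟨c, hc, s, hs, rfl⟩ := hdecomp g hg
      apply mul_mem
      · rw [← hCeq] at hc
        exact (sup_le le_sup_left ((zpowers_le e).trans le_sup_right)) hc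
      · exact (le_sup_right : (S : Subgroup G) ≤ _) hs
  · rw [hT]; exact hCeq
  · rw [Subgroup.index_eq_two_iff]
    refine ⟨⟨XA e 0, hSN (XA_mem e 0)⟩, ?_⟩
    rintro ⟨g, hg⟩
    obtain ⟨c, hc, s, hs, rfl⟩ := hdecomp g hg
    simp only [mem_subgroupOf, Subgroup.coe_mul]
    have hiff : ∀ t : G, c * t ∈ C ↔ t ∈ C := by
      intro t
      constructor
      · intro h
        have e1 : t = c⁻¹ * (c * t) := by group
        rw [e1]; exact C.mul_mem (C.inv_mem hc) h
      · intro h; exact C.mul_mem hc h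
    rcases cases_mem e hs with ⟨i, rfl⟩ | ⟨i, rfl⟩
    · right
      refine ⟨(hiff _).mpr (hαC ((mem_zpowers_iff e _).mpr ⟨i, rfl⟩)), ?_⟩
      rw [mul_assoc, hiff, A_mul_XA]
      exact hXA _
    · left
      refine ⟨?_, ?_⟩
      · rw [mul_assoc, hiff, XA_mul_XA]
        exact hαC ((mem_zpowers_iff e _).mpr ⟨_, rfl⟩)
      · rw [hiff]; exact hXA i

end Cfsg.Agent.S0842
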