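import Cfsg.Statements.S4344

set_option autoImplicit false
open Cfsg
open scoped Pointwise

namespace Cfsg.Agent.S4344

/-- In a finite cyclic group, a subgroup is determined by its order. -/
theorem cyclic_subgroup_unique {C : Type*} [Group C] [Finite C] [IsCyclic C] (H K : Subgroup C)
    (h : Nat.card H = Nat.card K) : H = K := by
  classical
  have : Fintype C := Fintype.ofFinite C
  set n := Nat.card H with hn
  have hn0 : 0 < n := Nat.card_pos
  have key : ∀ L : Subgroup C, Nat.card L = n →
      (L : Set C).toFinset = Finset.univ.filter (fun a : C => a ^ n = 1) := by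
    intro L hL
    apply Finset.eq_of_subset_of_card_le
    · intro x hx
      simp only [Set.mem_toFinset, SetLike.mem_coe] at hx
      simp only [Finset.mem_filter, Finset.mem_univ, true_and]
      have := pow_card_eq_one' (G := L) (x := ⟨x, hx⟩)
      rw [hL] at this
      exact congrArg Subtype.val this
    · calc _ ≤ n := IsCyclic.card_pow_eq_one_le hn0
        _ = Nat.card L := hL.symm
        _ = _ := by
          rw [Set.toFinset_card, Nat.card_eq_fintype_card]
          rfl
  have h1 := key H rfl
  have h2 := key K h.symm
  have : (H : Set C) = (K : Set C) := by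
    have := h1.trans h2.symm
    exact Set.toFinset_inj.mp this
  exact SetLike.coe_injective this

theorem result {S : Type*} [Group S] [Finite S]
    [IsSimpleGroup S] (hS : ¬ IsMulCommutative S) (p : ℕ) [Fact p.Prime] (hp : p ∣ Nat.card S)
    (M : Subgroup S) (hM : IsCoatom M) (C : Subgroup S) (hCM : C ≤ M) (hCn : (C.subgroupOf M).Normal)
    (hC : IsCyclic C) (P : Sylow p S) (hP : (P : Subgroup S) ≤ C) :
    Nat.card (Sylow p S) = M.index := by
  rw [P.card_eq_index_normalizer]
  congr 1
  -- M ≤ normalizer P
  have hMN : M ≤ Subgroup.normalizer (P : Set S) := by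
    intro m hm
    rw [← Sylow.smul_eq_iff_mem_normalizer]
    apply Sylow.ext
    rw [Sylow.coe_subgroup_smul]
    -- conj m • P ≤ C
    have hle : MulAut.conj m • (P : Subgroup S) ≤ C := by
      intro x hx
      rw [Subgroup.mem_pointwise_smul_iff_inv_smul_mem] at hx
      have hx' := hP hx
      have := hCn.conj_mem ⟨_, hCM hx'⟩ (by rw [Subgroup.mem_subgroupOf]; exact hx') ⟨m, hm⟩
      rw [Subgroup.mem_subgroupOf] at this
      simpa [MulAut.smul_def, mul_assoc] using this
    have hcard : Nat.card ((MulAut.conj m • (P : Subgroup S)).subgroupOf C)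
        = Nat.card ((P : Subgroup S).subgroupOf C) := by
      rw [Nat.card_congr (Subgroup.subgroupOfEquivOfLe hle).toEquiv,
        Nat.card_congr (Subgroup.subgroupOfEquivOfLe hP).toEquiv]
      exact (Nat.card_congr (Subgroup.equivSMul (MulAut.conj m) (P : Subgroup S)).toEquiv).symm
    have := cyclic_subgroup_unique _ _ hcard
    rw [Subgroup.subgroupOf_inj, inf_of_le_left hle, inf_of_le_left hP] at this
    exact this
  have hNtop : Subgroup.normalizer (P : Set S) ≠ ⊤ := by
    intro htop
    have hnorm : (P : Subgroup S).Normal := Subgroup.normalizer_eq_top_iff.mp htop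
    rcases hnorm.eq_bot_or_eq_top with h | h
    · exact P.ne_bot_of_dvd_card hp h
    · apply hS
      have hCtop : C = ⊤ := top_le_iff.mp (h ▸ hP)
      have : IsCyclic (⊤ : Subgroup S) := hCtop ▸ hC
      have : IsCyclic S := (Subgroup.topEquiv (G := S)).isCyclic.mp this
      infer_instance
  by_contra hne
  exact hNtop (hM.2 _ (lt_of_le_of_ne hMN (Ne.symm hne)))

end Cfsg.Agent.S4344
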