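import Cfsg.Statements.S0843
import Cfsg.Agent.Lib.Helper55_QuatCoord
import Cfsg.Agent.Lib.Helper54_TwoGroups
import Cfsg.Agent.Lib.Helper2_Sylow
import Cfsg.Agent.Lib.Helper34_Sylow
import Cfsg.Agent.Lib.Helper50_Basic
import Cfsg.Agent.S4344

set_option autoImplicit false
open Cfsg

namespace Cfsg.Agent.S0843

open Subgroup Cfsg.Agent.Lib Cfsg.Agent.Lib.Helper55_QuatCoord

/-- In a finite cyclic group a subgroup whose order divides the order of another one is contained
in it. -/
theorem le_of_card_dvd_of_isCyclic {C : Type*} [Group C] [Finite C] [IsCyclic C] (H K : Subgroup C)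
    (h : Nat.card H ∣ Nat.card K) : H ≤ K := by
  -- K is cyclic: take a generator and a suitable power
  obtain ⟨g, hg⟩ := IsCyclic.exists_generator (α := K)
  have hgo : orderOf g = Nat.card K := orderOf_eq_card_of_forall_mem_zpowers hg
  obtain ⟨c, hc⟩ := h
  have hHpos : 0 < Nat.card H := Nat.card_pos
  have hcpos : 0 < c := by
    rcases Nat.eq_zero_or_pos c with h0 | h0
    · rw [h0, mul_zero] at hc
      have : 0 < Nat.card K := Nat.card_pos
      omega
    · exact h0
  have ho : orderOf ((g : C) ^ c) = Nat.card H := by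
    rw [orderOf_pow_of_dvd hcpos.ne' (by rw [Subgroup.orderOf_coe, hgo, hc]; exact dvd_mul_left c _),
      Subgroup.orderOf_coe, hgo, hc, Nat.mul_div_cancel _ hcpos]
  have heq : H = zpowers ((g : C) ^ c) := by
    apply S4344.cyclic_subgroup_unique
    rw [Nat.card_zpowers, ho]
  rw [heq, Subgroup.zpowers_le]
  exact K.pow_mem g.2 c

/-- Suppose a Sylow 2-subgroup S of the finite group G is generalized quaternion of order at least 16; let D be the commutator subgroup of S and X the set of elements of the centralizer of D whose order is divisible by the order of D. Then D is contained in the cyclic subgroup generated by any element of X; an element of G conjugating some element of X into the centralizer of D normalizes D; and the normalizer of D maps X to itself under conjugation. -/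
theorem result {G : Type*} [Group G] [Finite G] (S : Sylow 2 G) (n : ℕ) (e : (S : Subgroup G) ≃* QuaternionGroup (2 ^ (n + 2))) (D : Subgroup G) (hD : D = ⁅(S : Subgroup G), (S : Subgroup G)⁆) : (∀ y : G, y ∈ Subgroup.centralizer (D : Set G) → Nat.card D ∣ orderOf y → D ≤ Subgroup.zpowers y) ∧ (∀ g y : G, y ∈ Subgroup.centralizer (D : Set G) → Nat.card D ∣ orderOf y → g * y * g⁻¹ ∈ Subgroup.centralizer (D : Set G) → g ∈ Subgroup.normalizer (D : Set G)) ∧ (∀ g y : G, g ∈ Subgroup.normalizer (D : Set G) → y ∈ Subgroup.centralizer (D : Set G) → Nat.card D ∣ orderOf y → g * y * g⁻¹ ∈ Subgroup.centralizer (D : Set G) ∧ Nat.card D ∣ orderOf (g * y * g⁻¹)) := by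
  classical
  have : Fact (Nat.Prime 2) := ⟨Nat.prime_two⟩
  have : NeZero (2 ^ (n + 2)) := ⟨by positivity⟩
  have hDα : D ≤ zpowers (A e 1) := by rw [hD]; exact commutator_le e
  have hDS : D ≤ (S : Subgroup G) := hDα.trans (zpowers_le e)
  have hDp : IsPGroup 2 D := S.2.to_le hDS
  obtain ⟨d, hd⟩ := IsPGroup.iff_card.mp hDp
  -- D is cyclic
  have hDcyc : IsCyclic D :=
    isCyclic_of_injective (Subgroup.inclusion hDα) (Subgroup.inclusion_injective hDα)
  obtain ⟨δ', hδ'⟩ := IsCyclic.exists_generator (α := D)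
  obtain ⟨δ, hδ⟩ : ∃ δ : G, δ = (δ' : G) := ⟨_, rfl⟩
  have hδD : δ ∈ D := by rw [hδ]; exact δ'.2
  have hDeq : D = zpowers δ := by
    apply le_antisymm
    · intro x hx
      obtain ⟨k, hk⟩ := hδ' ⟨x, hx⟩
      refine ⟨k, ?_⟩
      have h1 := congrArg Subtype.val hk
      rw [hδ]
      simpa using h1
    · exact Subgroup.zpowers_le.mpr hδD
  -- first claim
  have claim1 : ∀ y : G, y ∈ centralizer (D : Set G) → Nat.card D ∣ orderOf y → D ≤ zpowers y := by
    intro y hy hdvd
    have hy0 : orderOf y ≠ 0 := (orderOf_pos y).ne'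
    obtain ⟨a', r, hr, har⟩ := Nat.exists_eq_pow_mul_and_not_dvd hy0 2 (by norm_num)
    -- 2^d ∣ 2^a'
    have hda : 2 ^ d ∣ 2 ^ a' := by
      rw [hd, har] at hdvd
      have hcop : Nat.Coprime (2 ^ d) r :=
        Nat.Coprime.pow_left d ((Nat.Prime.coprime_iff_not_dvd Nat.prime_two).mpr hr)
      exact hcop.dvd_of_dvd_mul_right hdvd
    have hrpos : 0 < r := Nat.pos_of_ne_zero (fun h => hr (h ▸ dvd_zero 2))
    obtain ⟨y₂, hy₂⟩ : ∃ y₂ : G, y₂ = y ^ r := ⟨_, rfl⟩
    have hy₂o : orderOf y₂ = 2 ^ a' := by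
      rw [hy₂, orderOf_pow_of_dvd hrpos.ne' (by rw [har]; exact dvd_mul_left r _), har,
        Nat.mul_div_cancel _ hrpos]
    have hcomm : δ * y₂ = y₂ * δ := by
      rw [mem_centralizer_iff] at hy
      have h1 : δ * y = y * δ := hy δ hδD
      rw [hy₂]
      exact ((Commute.pow_right (h1 : Commute δ y) r)).eq
    -- the abelian 2-group B
    obtain ⟨B, hB⟩ : ∃ B : Subgroup G, B = closure ({δ, y₂} : Set G) := ⟨_, rfl⟩
    have hBcomm : ∀ x ∈ B, ∀ z ∈ B, x * z = z * x := by
      have h1 : IsMulCommutative (closure ({δ, y₂} : Set G)) := by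
        apply Subgroup.isMulCommutative_closure
        intro x hx z hz
        rcases hx with rfl | hx <;> rcases hz with rfl | hz
        · rfl
        · rw [Set.mem_singleton_iff] at hz; rw [hz]; exact hcomm
        · rw [Set.mem_singleton_iff] at hx; rw [hx]; exact hcomm.symm
        · rw [Set.mem_singleton_iff] at hx hz; rw [hx, hz]
      intro x hx z hz
      rw [hB] at hx hz
      exact congrArg Subtype.val (h1.is_comm.comm ⟨x, hx⟩ ⟨z, hz⟩)
    have hBsup : B = zpowers δ ⊔ zpowers y₂ := by
      rw [hB, Subgroup.zpowers_eq_closure, Subgroup.zpowers_eq_closure, ← Subgroup.closure_union]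
      rfl
    have hBp : IsPGroup 2 B := by
      rw [hBsup]
      apply IsPGroup.to_sup_of_normal_right'
      · rw [← hDeq]; exact hDp
      · apply IsPGroup.of_card (n := a')
        rw [Nat.card_zpowers, hy₂o]
      · rw [Subgroup.zpowers_le, mem_normalizer_iff]
        intro h
        have hc0 : Commute δ y₂ := hcomm
        constructor
        · intro hh
          obtain ⟨k, rfl⟩ := hh
          have hc : δ * y₂ ^ k = y₂ ^ k * δ := (hc0.zpow_right k).eq
          rw [hc, mul_assoc, mul_inv_cancel, mul_one]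
          exact zpow_mem (mem_zpowers y₂) k
        · intro hh
          obtain ⟨k, hk⟩ := hh
          have hk' : y₂ ^ k = δ * h * δ⁻¹ := hk
          have hc : δ⁻¹ * y₂ ^ k = y₂ ^ k * δ⁻¹ := (hc0.inv_left.zpow_right k).eq
          have e2 : h = δ⁻¹ * (δ * h * δ⁻¹) * δ := by group
          rw [e2, ← hk', hc, mul_assoc, inv_mul_cancel, mul_one]
          exact zpow_mem (mem_zpowers y₂) k
    -- B lies in a Sylow subgroup, a conjugate of S
    obtain ⟨Q, hQ⟩ := hBp.exists_le_sylow
    obtain ⟨g, hg⟩ := MulAction.exists_smul_eq G S Q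
    have hmemS : ∀ x ∈ B, g⁻¹ * x * g ∈ (S : Subgroup G) := by
      intro x hx
      apply (Helper2_Sylow.mem_smul_sylow_iff' g x S).mp
      rw [hg]; exact hQ hx
    -- B is cyclic
    let instB : CommGroup B :=
      { (inferInstance : Group B) with
        mul_comm := fun x z => Subtype.ext (hBcomm x x.2 z z.2) }
    have hBcyc : IsCyclic B := by
      apply @Helper54_TwoGroups.isCyclic_of_unique_involution B instB _ hBp
      intro x z hx2 hz2 hx1 hz1
      have hxS := hmemS x x.2
      have hzS := hmemS z z.2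
      have hx2' : (g⁻¹ * (x : G) * g) ^ 2 = 1 := by
        have h1 : (x : G) ^ 2 = 1 := by
          have := congrArg Subtype.val hx2
          simpa using this
        have e1 : (g⁻¹ * (x : G) * g) ^ 2 = g⁻¹ * (x : G) ^ 2 * g := by
          rw [pow_two, pow_two]; group
        rw [e1, h1]; group
      have hz2' : (g⁻¹ * (z : G) * g) ^ 2 = 1 := by
        have h1 : (z : G) ^ 2 = 1 := by
          have := congrArg Subtype.val hz2
          simpa using this
        have e1 : (g⁻¹ * (z : G) * g) ^ 2 = g⁻¹ * (z : G) ^ 2 * g := by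
          rw [pow_two, pow_two]; group
        rw [e1, h1]; group
      have hx1' : g⁻¹ * (x : G) * g ≠ 1 := by
        intro h
        apply hx1
        apply Subtype.ext
        have e1 : (x : G) = g * (g⁻¹ * (x : G) * g) * g⁻¹ := by group
        rw [e1, h]; simp
      have hz1' : g⁻¹ * (z : G) * g ≠ 1 := by
        intro h
        apply hz1
        apply Subtype.ext
        have e1 : (z : G) = g * (g⁻¹ * (z : G) * g) * g⁻¹ := by group
        rw [e1, h]; simp
      have h1 := eq_of_sq_eq_one e hxS hx2' hx1'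
      have h2 := eq_of_sq_eq_one e hzS hz2' hz1'
      apply Subtype.ext
      have h3 : g⁻¹ * (x : G) * g = g⁻¹ * (z : G) * g := h1.trans h2.symm
      exact mul_left_cancel (mul_right_cancel h3)
    -- compare the two cyclic subgroups of B
    have hδB : δ ∈ B := by rw [hB]; exact subset_closure (Set.mem_insert _ _)
    have hy₂B : y₂ ∈ B := by
      rw [hB]; exact subset_closure (Set.mem_insert_of_mem _ (Set.mem_singleton _))
    have hle := le_of_card_dvd_of_isCyclic (C := B) (zpowers (⟨δ, hδB⟩ : B)) (zpowers (⟨y₂, hy₂B⟩ : B))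
      (by
        rw [Nat.card_zpowers, Nat.card_zpowers, Subgroup.orderOf_mk, Subgroup.orderOf_mk, hy₂o]
        have : orderOf δ = 2 ^ d := by rw [← hd, hDeq, Nat.card_zpowers]
        rw [this]; exact hda)
    have hδy : δ ∈ zpowers y₂ := by
      obtain ⟨k, hk⟩ := hle (mem_zpowers (⟨δ, hδB⟩ : B))
      refine ⟨k, ?_⟩
      have h1 := congrArg Subtype.val hk
      simpa using h1
    rw [hDeq, Subgroup.zpowers_le]
    have hy₂y : zpowers y₂ ≤ zpowers y := by
      rw [Subgroup.zpowers_le, hy₂]; exact pow_mem (mem_zpowers y) r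
    exact hy₂y hδy
  refine ⟨claim1, ?_, ?_⟩
  · intro g y hy hdvd hgy
    have h1 := claim1 y hy hdvd
    have hdvd' : Nat.card D ∣ orderOf (g * y * g⁻¹) := by
      rw [Helper34_Sylow.orderOf_conj']; exact hdvd
    have h2 := claim1 _ hgy hdvd'
    -- both D and its conjugate lie in the cyclic group Z = ⟨g y g⁻¹⟩
    have h3 : D.map (MulAut.conj g).toMonoidHom ≤ zpowers (g * y * g⁻¹) := by
      rintro _ ⟨x, hx, rfl⟩
      obtain ⟨k, hk⟩ := h1 hx
      refine ⟨k, ?_⟩
      show (g * y * g⁻¹) ^ k = g * x * g⁻¹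
      have hk' : y ^ k = x := hk
      rw [conj_zpow, hk']
    have hcard : Nat.card (D.map (MulAut.conj g).toMonoidHom) = Nat.card D :=
      Subgroup.card_map_of_injective (MulAut.conj g).injective
    have h4 : (D.map (MulAut.conj g).toMonoidHom).subgroupOf (zpowers (g * y * g⁻¹)) =
        D.subgroupOf (zpowers (g * y * g⁻¹)) := by
      apply S4344.cyclic_subgroup_unique
      rw [Nat.card_congr (Subgroup.subgroupOfEquivOfLe h3).toEquiv,
        Nat.card_congr (Subgroup.subgroupOfEquivOfLe h2).toEquiv, hcard]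
    have h5 : D.map (MulAut.conj g).toMonoidHom = D := by
      have h6 := congrArg (fun H => H.map (zpowers (g * y * g⁻¹)).subtype) h4
      simp only [Subgroup.subgroupOf_map_subtype] at h6
      rw [inf_eq_left.mpr h3, inf_eq_left.mpr h2] at h6
      exact h6
    exact Helper50_Basic.mem_normalizer_of_map_conj_le (le_of_eq h5)
  · intro g y hg hy hdvd
    refine ⟨?_, by rw [Helper34_Sylow.orderOf_conj']; exact hdvd⟩
    rw [mem_centralizer_iff] at hy ⊢
    intro x hx
    have hg' : g⁻¹ ∈ normalizer (D : Set G) := inv_mem hg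
    have hx' : g⁻¹ * x * g⁻¹⁻¹ ∈ D := (mem_normalizer_iff.mp hg' x).mp hx
    rw [inv_inv] at hx'
    have h1 := hy _ hx'
    calc x * (g * y * g⁻¹) = g * ((g⁻¹ * x * g) * y) * g⁻¹ := by group
      _ = g * (y * (g⁻¹ * x * g)) * g⁻¹ := by rw [h1]
      _ = g * y * g⁻¹ * x := by group

end Cfsg.Agent.S0843
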