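import Cfsg.Statements.S0840
import Mathlib
import Cfsg.Agent.Lib.Helper79_ClassConst
import Cfsg.Agent.Lib.Helper80_CharBasic

set_option autoImplicit false
open scoped ComplexConjugate
open Cfsg

namespace Cfsg.Agent.S0840

open Cfsg.Agent.Lib.Helper79_ClassConst

section aux
variable {G : Type*} [Group G] [Fintype G] [DecidableEq G]

/-- the number of `g` with `g a g⁻¹ = a` -/
def zc (a : G) : ℕ := (Finset.univ.filter (fun g : G => g * a * g⁻¹ = a)).card

theorem zc_pos (a : G) : 0 < zc a := by
  unfold zc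
  rw [Finset.card_pos]
  exact ⟨1, by simp⟩

theorem fiber_card (a x : G) (h : IsConj a x) :
    (Finset.univ.filter (fun g : G => g * a * g⁻¹ = x)).card = zc a := by
  obtain ⟨k, hk⟩ := isConj_iff.mp h
  unfold zc
  symm
  refine Finset.card_nbij' (fun g => k * g) (fun g => k⁻¹ * g) ?_ ?_ ?_ ?_
  · intro g hg
    simp only [Finset.coe_filter, Finset.mem_univ, true_and, Set.mem_ofPred_eq] at hg ⊢
    rw [← hk, mul_inv_rev]
    calc k * g * a * (g⁻¹ * k⁻¹) = k * (g * a * g⁻¹) * k⁻¹ := by group
      _ = k * a * k⁻¹ := by rw [hg]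
  · intro g hg
    simp only [Finset.coe_filter, Finset.mem_univ, true_and, Set.mem_ofPred_eq] at hg ⊢
    rw [mul_inv_rev, inv_inv]
    calc k⁻¹ * g * a * (g⁻¹ * k) = k⁻¹ * (g * a * g⁻¹) * k := by group
      _ = k⁻¹ * (k * a * k⁻¹) * k := by rw [hg, hk]
      _ = a := by group
  · intro g _; simp
  · intro g _; simp

/-- class size times `zc` is the group order -/
theorem class_mul_zc (a : G) :
    (Finset.univ.filter (fun x : G => IsConj a x)).card * zc a = Fintype.card G := by
  have hmaps : ((Finset.univ : Finset G) : Set G).MapsTo (fun g => g * a * g⁻¹)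
      ((Finset.univ.filter (fun x : G => IsConj a x) : Finset G) : Set G) := by
    intro g _
    simp only [Finset.coe_filter, Finset.mem_univ, true_and, Set.mem_ofPred_eq]
    exact isConj_iff.mpr ⟨g, rfl⟩
  have h := Finset.card_eq_sum_card_fiberwise hmaps
  rw [Finset.card_univ] at h
  rw [h]
  have : ∀ x ∈ Finset.univ.filter (fun x : G => IsConj a x),
      (Finset.univ.filter (fun g : G => g * a * g⁻¹ = x)).card = zc a := by
    intro x hx
    rw [Finset.mem_filter] at hx
    exact fiber_card a x hx.2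
  rw [Finset.sum_congr rfl this, Finset.sum_const, smul_eq_mul]

/-- the pair count times `zc a * zc b` is the number of `(g, h)` -/
theorem pairs_mul (a b c : G) :
    (Finset.univ.filter (fun p : G × G => IsConj a p.1 ∧ IsConj b p.2 ∧ p.1 * p.2 = c)).card
        * (zc a * zc b) =
      (Finset.univ.filter (fun p : G × G => p.1 * a * p.1⁻¹ * (p.2 * b * p.2⁻¹) = c)).card := by
  set S := Finset.univ.filter (fun p : G × G => IsConj a p.1 ∧ IsConj b p.2 ∧ p.1 * p.2 = c)
    with hS
  set F := Finset.univ.filter (fun p : G × G => p.1 * a * p.1⁻¹ * (p.2 * b * p.2⁻¹) = c) with hF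
  have hmaps : (F : Set (G × G)).MapsTo
      (fun q : G × G => (q.1 * a * q.1⁻¹, q.2 * b * q.2⁻¹)) (S : Set (G × G)) := by
    intro q hq
    simp only [hF, hS, Finset.coe_filter, Finset.mem_univ, true_and, Set.mem_ofPred_eq] at hq ⊢
    exact ⟨isConj_iff.mpr ⟨q.1, rfl⟩, isConj_iff.mpr ⟨q.2, rfl⟩, hq⟩
  have h := Finset.card_eq_sum_card_fiberwise hmaps
  rw [h]
  have : ∀ p ∈ S, (F.filter (fun q : G × G => (q.1 * a * q.1⁻¹, q.2 * b * q.2⁻¹) = p)).card
      = zc a * zc b := by
    intro p hp
    simp only [hS, Finset.mem_filter, Finset.mem_univ, true_and] at hp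
    have : F.filter (fun q : G × G => (q.1 * a * q.1⁻¹, q.2 * b * q.2⁻¹) = p) =
        (Finset.univ.filter (fun g : G => g * a * g⁻¹ = p.1)) ×ˢ
          (Finset.univ.filter (fun g : G => g * b * g⁻¹ = p.2)) := by
      ext q
      simp only [hF, Finset.mem_filter, Finset.mem_univ, true_and, Finset.mem_product]
      constructor
      · rintro ⟨_, hq⟩
        rw [← hq]
        exact ⟨rfl, rfl⟩
      · rintro ⟨h1, h2⟩
        refine ⟨?_, Prod.ext h1 h2⟩
        rw [h1, h2]; exact hp.2.2
    rw [this, Finset.card_product, fiber_card a p.1 hp.1, fiber_card b p.2 hp.2.1]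
  rw [Finset.sum_congr rfl this, Finset.sum_const, smul_eq_mul]

end aux

/-- Class multiplication coefficients from the character table: for elements a, b, c of a finite group G, the number of ordered pairs (x, y) with x conjugate to a, y conjugate to b and x * y = c equals the product of the sizes of the conjugacy classes of a and b, divided by the order of G, times the sum over the irreducible characters χ of χ a * χ b * conj (χ c) / χ 1. -/
theorem result {G : Type*} [Group G] [Finite G] (a b c : G) : (Nat.card {p : G × G // IsConj a p.1 ∧ IsConj b p.2 ∧ p.1 * p.2 = c} : ℂ) = (Nat.card {x : G // IsConj a x} : ℂ) * (Nat.card {x : G // IsConj b x} : ℂ) / (Nat.card G : ℂ) * ∑ᶠ χ : Cfsg.IrrCharacter G, (χ : G → ℂ) a * (χ : G → ℂ) b * conj ((χ : G → ℂ) c) / (χ : G → ℂ) 1 := by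
  classical
  have := Fintype.ofFinite G
  have : Fintype (IrrCharacter G) := Fintype.ofFinite _
  rw [finsum_eq_sum_of_fintype]
  -- notation
  set N : ℕ := (Finset.univ.filter
    (fun p : G × G => IsConj a p.1 ∧ IsConj b p.2 ∧ p.1 * p.2 = c)).card with hN
  have hNcard : Nat.card {p : G × G // IsConj a p.1 ∧ IsConj b p.2 ∧ p.1 * p.2 = c} = N := by
    rw [Nat.card_eq_fintype_card, Fintype.card_subtype]
  have hAcard : Nat.card {x : G // IsConj a x} =
      (Finset.univ.filter (fun x : G => IsConj a x)).card := by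
    rw [Nat.card_eq_fintype_card, Fintype.card_subtype]
  have hBcard : Nat.card {x : G // IsConj b x} =
      (Finset.univ.filter (fun x : G => IsConj b x)).card := by
    rw [Nat.card_eq_fintype_card, Fintype.card_subtype]
  rw [hNcard, hAcard, hBcard, Nat.card_eq_fintype_card]
  have hza : (zc a : ℂ) ≠ 0 := by exact_mod_cast (zc_pos a).ne'
  have hzb : (zc b : ℂ) ≠ 0 := by exact_mod_cast (zc_pos b).ne'
  have hG : (Fintype.card G : ℂ) ≠ 0 := by exact_mod_cast Fintype.card_ne_zero
  have hA : ((Finset.univ.filter (fun x : G => IsConj a x)).card : ℂ) * (zc a : ℂ)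
      = (Fintype.card G : ℂ) := by exact_mod_cast class_mul_zc a
  have hB : ((Finset.univ.filter (fun x : G => IsConj b x)).card : ℂ) * (zc b : ℂ)
      = (Fintype.card G : ℂ) := by exact_mod_cast class_mul_zc b
  have hP : (N : ℂ) * ((zc a : ℂ) * (zc b : ℂ)) = prodCount a b c := by
    rw [prodCount_eq_card]
    exact_mod_cast pairs_mul a b c
  rw [prodCount_eq] at hP
  -- the two character sums agree
  set S' : ℂ := ∑ χ : IrrCharacter G,
    (χ : G → ℂ) a⁻¹ * (χ : G → ℂ) b⁻¹ * (χ : G → ℂ) c / (χ : G → ℂ) 1 with hS'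
  set S : ℂ := ∑ χ : IrrCharacter G,
    (χ : G → ℂ) a * (χ : G → ℂ) b * conj ((χ : G → ℂ) c) / (χ : G → ℂ) 1 with hS
  have hconj : conj S = S' := by
    rw [hS, hS', map_sum]
    refine Finset.sum_congr rfl fun χ _ => ?_
    obtain ⟨n, -, hn⟩ := Cfsg.Agent.Lib.Helper80_CharBasic.irr_apply_one χ
    rw [map_div₀, map_mul, map_mul, Complex.conj_conj,
      ← Cfsg.Agent.Lib.Helper80_CharBasic.irr_inv χ a,
      ← Cfsg.Agent.Lib.Helper80_CharBasic.irr_inv χ b, hn, Complex.conj_natCast]
  have hS'real : conj S' = S' := by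
    have : S' = (N : ℂ) * ((zc a : ℂ) * (zc b : ℂ)) / (Fintype.card G : ℂ) := by
      rw [hP]; field_simp
    rw [this]
    simp [map_div₀, map_mul, Complex.conj_natCast]
  have hSS' : S = S' := by
    rw [← hS'real, ← hconj, Complex.conj_conj]
  rw [hSS']
  have hAeq : ((Finset.univ.filter (fun x : G => IsConj a x)).card : ℂ)
      = (Fintype.card G : ℂ) / (zc a : ℂ) := by
    rw [← hA]; field_simp
  have hBeq : ((Finset.univ.filter (fun x : G => IsConj b x)).card : ℂ)
      = (Fintype.card G : ℂ) / (zc b : ℂ) := by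
    rw [← hB]; field_simp
  rw [hAeq, hBeq]
  have : (N : ℂ) = (Fintype.card G : ℂ) * S' / ((zc a : ℂ) * (zc b : ℂ)) := by
    rw [← hP]; field_simp
  rw [this]
  field_simp

end Cfsg.Agent.S0840
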