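import Cfsg.Statements.S0846
import Cfsg.Agent.Lib.Helper55_QuatCoord
import Cfsg.Agent.Lib.Helper55_QuatCoord2
import Cfsg.Agent.Lib.Helper55_BSInvol
import Cfsg.Agent.Lib.Helper55_BSInvol2
import Cfsg.Agent.Lib.Helper15_HallCount
import Cfsg.Agent.Lib.Helper3_CharBridge

set_option autoImplicit false
open Cfsg

namespace Cfsg.Agent.S0846

open Subgroup Cfsg.Agent.Lib.Helper55_BSInvol Cfsg.Agent.Lib.Helper55_QuatCoord

/-- The normal subgroup `M₀ = ker χ₁ ⊓ ker χ₂`: it contains all involutions and meets `S` inside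
the cyclic group `⟨A e 4⟩`. -/
theorem exists_M0 {G : Type*} [Group G] [Finite G] (S : Sylow 2 G) (n : ℕ)
    (e : (S : Subgroup G) ≃* QuaternionGroup (2 ^ (n + 2))) :
    ∃ M : Subgroup G, M.Normal ∧ (∀ u : G, orderOf u = 2 → u ∈ M) ∧
      (S : Subgroup G) ⊓ M ≤ zpowers (A e 4) := by
  classical
  have : Fintype G := Fintype.ofFinite G
  obtain ⟨χ₁, χ₂, h1, h2, -, -, -, hdeg, -, hnv, hinv⟩ := main_invol S n e
  obtain ⟨M₁, hM₁n, hM₁⟩ := Cfsg.Agent.Lib.Helper15_HallCount.exists_normal_ker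
    (Cfsg.Agent.Lib.Helper3_CharBridge.isCharacter_of_isIrrCharacter h1)
  obtain ⟨M₂, hM₂n, hM₂⟩ := Cfsg.Agent.Lib.Helper15_HallCount.exists_normal_ker
    (Cfsg.Agent.Lib.Helper3_CharBridge.isCharacter_of_isIrrCharacter h2)
  have hMn : (M₁ ⊓ M₂).Normal := Subgroup.normal_inf_normal M₁ M₂
  refine ⟨M₁ ⊓ M₂, hMn, ?_, ?_⟩
  · intro u hu
    exact ⟨(hM₁ u).mpr (hinv u hu).1, (hM₂ u).mpr (hinv u hu).2⟩
  · -- the generalized character vanishes on `M₁ ⊓ M₂`
    have hzero : ∀ y ∈ M₁ ⊓ M₂, 1 + χ₂ y - χ₁ y = 0 := by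
      rintro y ⟨hy1, hy2⟩
      rw [(hM₁ y).mp hy1, (hM₂ y).mp hy2, hdeg]
      ring
    have hA2 : A e 2 ∉ M₁ ⊓ M₂ := by
      intro hmem
      have h3 := hnv 2 (by norm_num)
      apply h3
      have h4 : ((2 : ℕ) : ZMod (2 * 2 ^ (n + 2))) = 2 := by norm_num
      rw [h4]
      exact hzero _ hmem
    rintro y ⟨hyS, hyM⟩
    rcases cases_mem e hyS with ⟨i, rfl⟩ | ⟨i, rfl⟩
    · have hNe : NeZero (2 * 2 ^ (n + 2)) := ⟨by positivity⟩
      have hv : ((i.val : ℕ) : ZMod (2 * 2 ^ (n + 2))) = i := ZMod.natCast_zmod_val i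
      have h4 : 4 ∣ i.val := by
        by_contra hcon
        have h3 := hnv i.val hcon
        rw [hv] at h3
        exact h3 (hzero _ hyM)
      obtain ⟨k, hk⟩ := h4
      have h5 : A e i = (A e 4) ^ k := by
        rw [A_pow, ← hv, hk]
        congr 1
        push_cast
        ring
      rw [h5]
      exact pow_mem (mem_zpowers _) k
    · exfalso
      apply hA2
      have h3 : A e 1 * XA e i * (A e 1)⁻¹ ∈ M₁ ⊓ M₂ := hMn.conj_mem _ hyM _
      have h4 : A e 1 * XA e i * (A e 1)⁻¹ * (XA e i)⁻¹ ∈ M₁ ⊓ M₂ :=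
        mul_mem h3 (inv_mem hyM)
      have h5 : A e 1 * XA e i * (A e 1)⁻¹ * (XA e i)⁻¹ = A e 2 := by
        have h2N := two_N_eq_zero (N := 2 ^ (n + 2))
        rw [XA_inv, A_inv, A_mul_XA, XA_mul_A, XA_mul_XA]
        congr 1
        linear_combination h2N
      rwa [h5] at h4

/-- Sylow `2`-subgroups of subgroups of `M₀` are cyclic. -/
theorem isCyclic_sylow_of_le {G : Type*} [Group G] [Finite G] (S : Sylow 2 G) (n : ℕ)
    (e : (S : Subgroup G) ≃* QuaternionGroup (2 ^ (n + 2))) (M : Subgroup G) (hMn : M.Normal)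
    (hSM : (S : Subgroup G) ⊓ M ≤ zpowers (A e 4)) (L : Subgroup G) (hLM : L ≤ M)
    (Q : Sylow 2 L) : IsCyclic Q := by
  classical
  -- the image of `Q` in `G`
  have hQ'p : IsPGroup 2 ((Q : Subgroup L).map L.subtype) := Q.2.map _
  obtain ⟨g, hg⟩ := exists_conj_le S _ hQ'p
  -- the conjugation map
  have hmem : ∀ x : Q, (MulAut.conj g⁻¹).toMonoidHom.comp
      (L.subtype.comp (Q : Subgroup L).subtype) x ∈ zpowers (A e 4) := by
    intro x
    apply hSM
    have hx1 : ((x : L) : G) ∈ (Q : Subgroup L).map L.subtype := ⟨x, x.2, rfl⟩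
    have hx2 : ((x : L) : G) ∈ M := hLM x.1.2
    have e1 : (MulAut.conj g⁻¹).toMonoidHom.comp
        (L.subtype.comp (Q : Subgroup L).subtype) x = g⁻¹ * ((x : L) : G) * g := by
      simp [MulAut.conj_apply]
    rw [e1]
    refine ⟨hg _ hx1, ?_⟩
    have := hMn.conj_mem _ hx2 g⁻¹
    rwa [inv_inv] at this
  have hinj : Function.Injective (((MulAut.conj g⁻¹).toMonoidHom.comp
      (L.subtype.comp (Q : Subgroup L).subtype)).codRestrict (zpowers (A e 4)) hmem) := by
    intro x y hxy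
    have h1 := congrArg Subtype.val hxy
    simp only [MonoidHom.codRestrict_apply, MonoidHom.comp_apply, Subgroup.coe_subtype,
      MulEquiv.coe_toMonoidHom, MulAut.conj_apply, inv_inv] at h1
    have h2 : ((x : L) : G) = ((y : L) : G) := mul_left_cancel (mul_right_cancel h1)
    exact Subtype.ext (Subtype.ext h2)
  exact isCyclic_of_injective _ hinj

/-- Suppose a Sylow 2-subgroup S of the finite group G is generalized quaternion of order at least 16. Then every Sylow 2-subgroup of the subgroup generated by the involutions of G is cyclic. -/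
theorem result {G : Type*} [Group G] [Finite G] (S : Sylow 2 G) (n : ℕ) (e : (S : Subgroup G) ≃* QuaternionGroup (2 ^ (n + 2))) (Q : Sylow 2 ↥(Subgroup.closure {g : G | orderOf g = 2})) : IsCyclic Q := by
  obtain ⟨M, hMn, hMinv, hSM⟩ := exists_M0 S n e
  have hLM : Subgroup.closure {g : G | orderOf g = 2} ≤ M := by
    rw [Subgroup.closure_le]
    intro u hu
    exact hMinv u hu
  exact isCyclic_sylow_of_le S n e M hMn hSM _ hLM Q

end Cfsg.Agent.S0846
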