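import Cfsg.Statements.S0847
import Cfsg.Agent.Lib.Helper55_QuatCoord
import Cfsg.Agent.Lib.Helper55_QuatCoord2
import Cfsg.Agent.Lib.Helper55_BSQuat
import Cfsg.Agent.Lib.Helper55_BSInvol
import Cfsg.Agent.Lib.Helper55_DihedralNPC
import Cfsg.Agent.Lib.Helper34_Sylow
import Cfsg.Agent.Lib.Helper1_Cores
import Cfsg.Agent.S0846

set_option autoImplicit false
open Cfsg

namespace Cfsg.Agent.S0847

open Subgroup Cfsg.Agent.Lib Cfsg.Agent.Lib.Helper55_BSInvol Cfsg.Agent.Lib.Helper55_QuatCoord

/-- a subgroup of the centre is normal -/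
theorem normal_of_le_center' {G : Type*} [Group G] (H : Subgroup G) (h : H ≤ center G) :
    H.Normal := by
  refine ⟨fun x hx g => ?_⟩
  have h1 : g * x = x * g := (Subgroup.mem_center_iff.mp (h hx) g)
  have h2 : g * x * g⁻¹ = x := by rw [h1]; group
  rw [h2]; exact hx

/-- If the subgroup generated by the involutions is a `2`-group... (helper): a normal subgroup
with cyclic Sylow `2`-subgroups in a group without odd normal subgroups is a `2`-group. -/
theorem isPGroup_of_cyclic_sylow {G : Type*} [Group G] [Finite G]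
    (hO : ∀ N : Subgroup G, N.Normal → Odd (Nat.card N) → N = ⊥) (L : Subgroup G) [hLn : L.Normal]
    (Q : Sylow 2 L) (hQ : IsCyclic (Q : Subgroup L)) : IsPGroup 2 L := by
  obtain ⟨K₁, hK₁n, hK₁c, j, hK₁i⟩ := Helper55_DihedralNPC.hasNPC_of_isCyclic_sylow Q hQ
  have hcore : (Cfsg.pPrimeCore 2 L).map L.subtype = ⊥ := by
    apply hO
    · infer_instance
    · rw [Subgroup.card_map_of_injective L.subtype_injective]
      exact Nat.coprime_two_right.mp (Helper1_Cores.pPrimeCore_card_coprime 2)
  have h2 : Cfsg.pPrimeCore 2 L = ⊥ :=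
    (Subgroup.map_eq_bot_iff_of_injective _ L.subtype_injective).mp hcore
  have hK₁bot : K₁ = ⊥ := by
    have h1 : K₁ ≤ Cfsg.pPrimeCore 2 L := Helper1_Cores.le_pPrimeCore hK₁n hK₁c
    rw [h2] at h1
    exact le_bot_iff.mp h1
  apply IsPGroup.of_card (n := j)
  rw [← hK₁i, hK₁bot, Subgroup.index_bot]

/-- The Brauer–Suzuki Theorem in the case of order at least 16: if a Sylow 2-subgroup S of the finite group G is generalized quaternion of order at least 16 and G has no nontrivial normal subgroup of odd order, then the centre of G has order 2. -/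
theorem result {G : Type*} [Group G] [Finite G] (S : Sylow 2 G) (n : ℕ) (e : (S : Subgroup G) ≃* QuaternionGroup (2 ^ (n + 2))) (hO : ∀ N : Subgroup G, N.Normal → Odd (Nat.card N) → N = ⊥) : Nat.card (Subgroup.center G) = 2 := by
  classical
  have hF : Fact (Nat.Prime 2) := ⟨Nat.prime_two⟩
  obtain ⟨t, ht⟩ : ∃ t : G, t = tInv e := ⟨_, rfl⟩
  have hto : orderOf t = 2 := by rw [ht]; exact orderOf_tInv e
  -- Step 1: every involution equals `t`
  have huniq : ∀ u : G, orderOf u = 2 → u = t := by
    have hLn : (Subgroup.closure {g : G | orderOf g = 2}).Normal := by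
      apply Helper34_Sylow.normal_closure_of_conj_inv
      intro g x hx
      show orderOf (g * x * g⁻¹) = 2
      rw [Helper34_Sylow.orderOf_conj']
      exact hx
    obtain ⟨Q⟩ : Nonempty (Sylow 2 ↥(Subgroup.closure {g : G | orderOf g = 2})) := inferInstance
    have hQc : IsCyclic Q := Cfsg.Agent.S0846.result S n e Q
    have hLp := isPGroup_of_cyclic_sylow hO _ Q hQc
    obtain ⟨g, hg⟩ := exists_conj_le S _ hLp
    have hLS : Subgroup.closure {g : G | orderOf g = 2} ≤ (S : Subgroup G) := by
      intro x hx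
      have h1 : g * x * g⁻¹ ∈ Subgroup.closure {g : G | orderOf g = 2} := hLn.conj_mem x hx g
      have h2 := hg _ h1
      have h3 : g⁻¹ * (g * x * g⁻¹) * g = x := by group
      rwa [h3] at h2
    intro u hu
    rw [ht]
    exact eq_tInv_of_mem e hu (hLS (Subgroup.subset_closure hu))
  -- Step 2: `t` is central
  have htZ : t ∈ center G := by
    rw [Subgroup.mem_center_iff]
    intro g
    have h1 : g * t * g⁻¹ = t := huniq _ (by rw [Helper34_Sylow.orderOf_conj']; exact hto)
    calc g * t = (g * t * g⁻¹) * g := by group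
      _ = t * g := by rw [h1]
  -- Step 3: every central element is `1` or `t`
  have hZ : ∀ z ∈ center G, z = 1 ∨ z = t := by
    intro z hz
    have hz0 : orderOf z ≠ 0 := (orderOf_pos z).ne'
    obtain ⟨a', r, hr, har⟩ := Nat.exists_eq_pow_mul_and_not_dvd hz0 2 (by norm_num)
    have hrpos : 0 < r := Nat.pos_of_ne_zero (fun h => hr (h ▸ dvd_zero 2))
    have ho' : orderOf (z ^ 2 ^ a') = r := by
      rw [orderOf_pow_of_dvd (by positivity) (by rw [har]; exact dvd_mul_right _ _), har,
        Nat.mul_div_cancel_left _ (by positivity)]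
    have hz'Z : z ^ 2 ^ a' ∈ center G := pow_mem hz _
    have hnorm : (zpowers (z ^ 2 ^ a')).Normal :=
      normal_of_le_center' _ (Subgroup.zpowers_le.mpr hz'Z)
    have hbot := hO _ hnorm (by
      rw [Nat.card_zpowers, ho']
      exact Nat.odd_iff.mpr (by omega))
    have hr1 : r = 1 := by
      rw [← ho', Subgroup.zpowers_eq_bot.mp hbot, orderOf_one]
    have hzp : IsPGroup 2 (zpowers z) := by
      apply IsPGroup.of_card (n := a')
      rw [Nat.card_zpowers, har, hr1, mul_one]
    obtain ⟨g, hg⟩ := exists_conj_le S _ hzp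
    have hzS : z ∈ (S : Subgroup G) := by
      have h1 := hg z (mem_zpowers z)
      have h2 : g⁻¹ * z * g = z := by
        rw [mul_assoc, ← Subgroup.mem_center_iff.mp hz g, ← mul_assoc, inv_mul_cancel, one_mul]
      rwa [h2] at h1
    rcases cases_mem e hzS with ⟨i, hi⟩ | ⟨i, hi⟩
    · have h1 : (XA e 0)⁻¹ * z * XA e 0 = z := by
        rw [mul_assoc, ← Subgroup.mem_center_iff.mp hz (XA e 0), ← mul_assoc, inv_mul_cancel,
          one_mul]
      have h2 : (XA e 0)⁻¹ * z * XA e 0 = z⁻¹ := by
        rw [hi]; exact Helper55_BSQuat.XA_conj_A e 0 i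
      have h3 : z * z = 1 := by
        have h4 : z = z⁻¹ := h1.symm.trans h2
        calc z * z = z * z⁻¹ := by rw [← h4]
          _ = 1 := mul_inv_cancel z
      by_cases hz1 : z = 1
      · left; exact hz1
      · right
        exact huniq z (Helper4_InvPairs.orderOf_two_of_mul_self h3 hz1)
    · exfalso
      apply Helper55_BSQuat.XA_not_mem_centralizer e i
      rw [← hi]
      exact Subgroup.center_le_centralizer _ hz
  -- Step 4
  rw [Nat.card_eq_two_iff]
  refine ⟨⟨1, one_mem _⟩, ⟨t, htZ⟩, ?_, ?_⟩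
  · intro h
    have h1 : (1 : G) = t := congrArg Subtype.val h
    rw [← h1, orderOf_one] at hto
    omega
  · ext ⟨z, hz⟩
    simp only [Set.mem_insert_iff, Set.mem_singleton_iff, Set.mem_univ, iff_true, Subtype.mk.injEq]
    exact hZ z hz

end Cfsg.Agent.S0847
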