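import Cfsg.Statements.S3279
import Cfsg.Agent.S0201
import Cfsg.Agent.Lib.Helper23_ZStarC
import Cfsg.Agent.Lib.Helper30_KleinFour

set_option autoImplicit false
open Cfsg

namespace Cfsg.Agent.S3279

open Cfsg.Agent.Lib.Helper30_KleinFour
open Cfsg.Agent.Lib.Helper35_FrobeniusNPC (mem_conj_smul)

section dihedral

variable {G : Type*} [Group G] [Finite G]

/-- Two involutions are conjugate (inside the dihedral group they generate) or there is an
involution commuting with both. -/
theorem conj_or_central {u v : G} (hu : orderOf u = 2) (hv : orderOf v = 2) :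
    IsConj u v ∨ ∃ w : G, orderOf w = 2 ∧ Commute w u ∧ Commute w v := by
  have hu2 := mul_self_of_order_two hu
  have hv2 := mul_self_of_order_two hv
  have hui := inv_eq_self_of_order_two hu
  have hvi := inv_eq_self_of_order_two hv
  have hρi : (u * v)⁻¹ = v * u := by rw [mul_inv_rev, hui, hvi]
  have huρ : u * (u * v) * u⁻¹ = (u * v)⁻¹ := by
    rw [hρi, hui, ← mul_assoc, hu2, one_mul]
  have hvρ : v * (u * v) * v⁻¹ = (u * v)⁻¹ := by
    rw [hρi, hvi, mul_assoc, mul_assoc, hv2, mul_one]
  have hupow : ∀ k : ℕ, u * (u * v) ^ k * u⁻¹ = ((u * v) ^ k)⁻¹ := fun k => by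
    rw [← conj_pow, huρ, inv_pow]
  have hvpow : ∀ k : ℕ, v * (u * v) ^ k * v⁻¹ = ((u * v) ^ k)⁻¹ := fun k => by
    rw [← conj_pow, hvρ, inv_pow]
  have hm : 0 < orderOf (u * v) := orderOf_pos _
  rcases Nat.even_or_odd' (orderOf (u * v)) with ⟨k, hk | hk⟩
  · right
    have hk0 : k ≠ 0 := by omega
    have hw2 : (u * v) ^ k * (u * v) ^ k = 1 := by
      rw [← pow_add, ← two_mul, ← hk, pow_orderOf_eq_one]
    have hwi : ((u * v) ^ k)⁻¹ = (u * v) ^ k := inv_eq_of_mul_eq_one_left hw2
    refine ⟨(u * v) ^ k, ?_, ?_, ?_⟩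
    · rw [orderOf_pow_of_dvd hk0 ⟨2, by omega⟩, hk]
      exact Nat.mul_div_cancel _ (Nat.pos_of_ne_zero hk0)
    · have h := hupow k
      rw [hwi] at h
      exact (mul_inv_eq_iff_eq_mul.mp h).symm
    · have h := hvpow k
      rw [hwi] at h
      exact (mul_inv_eq_iff_eq_mul.mp h).symm
  · left
    rw [isConj_iff]
    refine ⟨(u * v) ^ k, ?_⟩
    have h1 : ((u * v) ^ k)⁻¹ = u * (u * v) ^ k * u := by
      have := hupow k
      rw [hui] at this
      exact this.symm
    have h2 : (u * v) ^ k * (u * v) ^ k = (u * v)⁻¹ := by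
      have : (u * v) ^ k * (u * v) ^ k * (u * v) = 1 := by
        rw [← pow_add, ← pow_succ, ← two_mul, ← hk, pow_orderOf_eq_one]
      exact eq_inv_of_mul_eq_one_left this
    calc (u * v) ^ k * u * ((u * v) ^ k)⁻¹
        = (u * v) ^ k * u * (u * (u * v) ^ k * u) := by rw [h1]
      _ = (u * v) ^ k * (u * u) * (u * v) ^ k * u := by simp only [mul_assoc]
      _ = (u * v) ^ k * (u * v) ^ k * u := by rw [hu2, mul_one]
      _ = v := by rw [h2, hρi, mul_assoc, hu2, mul_one]

end dihedral

section fusion

variable {G : Type*} [Group G]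

/-- The involutions of the centralizer of `x` are `x`, `a`, `b`. -/
def InvCent (x a b : G) : Prop :=
  ∀ u : G, orderOf u = 2 → Commute u x → u = x ∨ u = a ∨ u = b

theorem InvCent.swap {x a b : G} (h : InvCent x a b) : InvCent x b a := by
  intro u hu hc
  rcases h u hu hc with h | h | h
  · exact Or.inl h
  · exact Or.inr (Or.inr h)
  · exact Or.inr (Or.inl h)

/-- transport of the list of involutions of the centralizer to a conjugate inside the list -/
theorem InvCent.of_conj {x a b : G} (hx : orderOf x = 2) (ha : orderOf a = 2) (hb : orderOf b = 2)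
    (hxa : x ≠ a) (hxb : x ≠ b) (hab : a ≠ b)
    (hcxa : Commute x a) (hcba : Commute b a)
    (hinv : InvCent x a b) (hconj : IsConj x a) :
    ∀ u : G, orderOf u = 2 → Commute u a → u = x ∨ u = a ∨ u = b := by
  obtain ⟨c, hc⟩ := isConj_iff.mp hconj
  set ψ : G ≃* G := MulAut.conj c with hψ
  have hψx : ψ x = a := by rw [hψ, MulAut.conj_apply]; exact hc
  have hφa : ψ.symm a = x := by rw [← hψx]; exact ψ.symm_apply_apply x
  have key : ∀ u : G, orderOf u = 2 → Commute u a →
      ψ.symm u = x ∨ ψ.symm u = a ∨ ψ.symm u = b := by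
    intro u hu hca
    apply hinv
    · rw [MulEquiv.orderOf_eq]; exact hu
    · have := hca.map ψ.symm
      rwa [hφa] at this
  have hinj := ψ.symm.injective
  have hfx := key x hx hcxa
  have hfb := key b hb hcba
  have hfx' : ψ.symm x ≠ x := fun h => hxa (hinj (h.trans hφa.symm))
  have hfb' : ψ.symm b ≠ x := fun h => hab (hinj (h.trans hφa.symm)).symm
  have hfxb : ψ.symm x ≠ ψ.symm b := fun h => hxb (hinj h)
  intro u hu hca
  rcases key u hu hca with h | h | h
  · exact Or.inr (Or.inl (hinj (h.trans hφa.symm)))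
  · rcases hfx with h1 | h1 | h1
    · exact absurd h1 hfx'
    · exact Or.inl (hinj (h.trans h1.symm))
    · rcases hfb with h2 | h2 | h2
      · exact absurd h2 hfb'
      · exact Or.inr (Or.inr (hinj (h.trans h2.symm)))
      · exact absurd (h1.trans h2.symm) hfxb
  · rcases hfx with h1 | h1 | h1
    · exact absurd h1 hfx'
    · rcases hfb with h2 | h2 | h2
      · exact absurd h2 hfb'
      · exact absurd (h1.trans h2.symm) hfxb
      · exact Or.inr (Or.inr (hinj (h.trans h2.symm)))
    · exact Or.inl (hinj (h.trans h1.symm))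

/-- If `x ~ a` but `x` is not conjugate to `b`, then `b` commutes with all its conjugates. -/
theorem commute_conj_of_partial_fusion [Finite G] {x a b : G}
    (hx : orderOf x = 2) (ha : orderOf a = 2) (hb : orderOf b = 2)
    (hxa : x ≠ a) (hxb : x ≠ b) (hab : a ≠ b)
    (hcxa : Commute x a) (hcba : Commute b a)
    (hinv : InvCent x a b) (hconj : IsConj x a) (hnconj : ¬ IsConj x b) (g : G) :
    Commute b (g * b * g⁻¹) := by
  have hinva := InvCent.of_conj hx ha hb hxa hxb hab hcxa hcba hinv hconj
  have hv : orderOf (g * b * g⁻¹) = 2 := by rw [orderOf_conj_eq]; exact hb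
  have hbv : IsConj b (g * b * g⁻¹) := isConj_iff.mpr ⟨g, rfl⟩
  have hxv : ¬ IsConj x (g * b * g⁻¹) := fun h => hnconj (h.trans hbv.symm)
  have hav : ¬ IsConj a (g * b * g⁻¹) := fun h => hxv (hconj.trans h)
  -- an involution of the list commuting with `v` forces `v = b`
  have hfin : ∀ v : G, IsConj b v → (v = x ∨ v = a ∨ v = b) → Commute b v := by
    intro v hbv' h
    rcases h with h | h | h
    · exact absurd (h ▸ hbv'.symm : IsConj x b) hnconj
    · exfalso
      apply hnconj
      have : IsConj a b := h ▸ hbv'.symm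
      exact hconj.trans this
    · rw [h]
  rcases conj_or_central hx hv with h | ⟨w, hw, hwx, hwv⟩
  · exact absurd h hxv
  · rcases hinv w hw hwx with h | h | h
    · rw [h] at hwv
      exact hfin _ hbv (hinv _ hv hwv.symm)
    · rw [h] at hwv
      exact hfin _ hbv (hinva _ hv hwv.symm)
    · rw [h] at hwv
      exact hwv

end fusion

section simple

variable {G : Type*} [Group G] [IsSimpleGroup G]

/-- a simple group with a central involution has no other involution -/
theorem false_of_central_involution {b y : G} (hb : orderOf b = 2) (hy : orderOf y = 2)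
    (hne : y ≠ b) (hcent : ∀ g : G, g * b = b * g) : False := by
  have hnorm : (Subgroup.zpowers b).Normal := by
    refine ⟨fun n hn g => ?_⟩
    obtain ⟨k, rfl⟩ := Subgroup.mem_zpowers_iff.mp hn
    have hc : Commute g (b ^ k) := Commute.zpow_right (hcent g) k
    rw [hc.eq, mul_assoc, mul_inv_cancel, mul_one]
    exact Subgroup.mem_zpowers_iff.mpr ⟨k, rfl⟩
  rcases hnorm.eq_bot_or_eq_top with h | h
  · have : b ∈ Subgroup.zpowers b := Subgroup.mem_zpowers b
    rw [h, Subgroup.mem_bot] at this
    exact ne_one_of_order_two hb this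
  · have : y ∈ Subgroup.zpowers b := by rw [h]; exact Subgroup.mem_top y
    obtain ⟨k, hk⟩ := Subgroup.mem_zpowers_iff.mp this
    have hb2 := mul_self_of_order_two hb
    rcases Int.even_or_odd' k with ⟨j, hj | hj⟩
    · apply ne_one_of_order_two hy
      rw [← hk, hj, zpow_mul, zpow_ofNat, pow_two, hb2, one_zpow]
    · apply hne
      rw [← hk, hj, zpow_add, zpow_mul, zpow_ofNat, pow_two, hb2, one_zpow, one_mul, zpow_one]

/-- an involution commuting with all its conjugates in a simple group is the only involution -/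
theorem false_of_commute_conj {b y : G} (hb : orderOf b = 2) (hy : orderOf y = 2) (hne : y ≠ b)
    (h : ∀ g : G, Commute b (g * b * g⁻¹)) : False := by
  apply false_of_central_involution hb hy hne
  have hle : Subgroup.normalClosure ({b} : Set G) ≤ Subgroup.centralizer ({b} : Set G) := by
    rw [Subgroup.normalClosure, Subgroup.closure_le]
    intro v hv
    rw [Group.mem_conjugatesOfSet_iff] at hv
    obtain ⟨b', hb', hconj⟩ := hv
    rw [Set.mem_singleton_iff] at hb'
    subst hb'
    obtain ⟨c, rfl⟩ := isConj_iff.mp hconj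
    rw [SetLike.mem_coe, Subgroup.mem_centralizer_singleton_iff]
    exact (h c).eq.symm
  have hnorm : (Subgroup.normalClosure ({b} : Set G)).Normal := Subgroup.normalClosure_normal
  have hbmem : b ∈ Subgroup.normalClosure ({b} : Set G) :=
    Subgroup.subset_normalClosure (Set.mem_singleton b)
  rcases hnorm.eq_bot_or_eq_top with h0 | h0
  · rw [h0, Subgroup.mem_bot] at hbmem
    exact absurd hbmem (ne_one_of_order_two hb)
  · intro g
    have : g ∈ Subgroup.centralizer ({b} : Set G) := hle (by rw [h0]; exact Subgroup.mem_top g)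
    rw [Subgroup.mem_centralizer_singleton_iff] at this
    exact this

end simple

section sylow

variable {G : Type*} [Group G] [Finite G]

omit [Finite G] in
theorem exists_sylow_mem {x : G} (hx : orderOf x = 2) : ∃ S : Sylow 2 G, x ∈ S := by
  have : Fact (Nat.Prime 2) := ⟨Nat.prime_two⟩
  have hp : IsPGroup 2 (Subgroup.zpowers x) :=
    IsPGroup.of_card (n := 1) (by rw [Nat.card_zpowers, hx, pow_one])
  obtain ⟨S, hS⟩ := hp.exists_le_sylow
  exact ⟨S, hS (Subgroup.mem_zpowers x)⟩

theorem exists_central_involution (S : Sylow 2 G) {x : G} (hxS : x ∈ S) (hx : orderOf x = 2) :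
    ∃ z ∈ (S : Subgroup G), orderOf z = 2 ∧ ∀ s ∈ (S : Subgroup G), z * s = s * z := by
  have : Fact (Nat.Prime 2) := ⟨Nat.prime_two⟩
  have hnt : Nontrivial ↥(S : Subgroup G) := by
    refine ⟨⟨⟨x, hxS⟩, 1, ?_⟩⟩
    intro h
    exact ne_one_of_order_two hx (congrArg Subtype.val h)
  have hP : IsPGroup 2 ↥(S : Subgroup G) := S.isPGroup'
  have hZnt : Nontrivial (Subgroup.center ↥(S : Subgroup G)) := hP.center_nontrivial
  have hZp : IsPGroup 2 (Subgroup.center ↥(S : Subgroup G)) := hP.to_subgroup _
  obtain ⟨n, hn⟩ := IsPGroup.iff_card.mp hZp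
  have hn0 : n ≠ 0 := by
    intro h0
    rw [h0, pow_zero] at hn
    have := Finite.one_lt_card (α := Subgroup.center ↥(S : Subgroup G))
    omega
  have hdvd : 2 ∣ Nat.card (Subgroup.center ↥(S : Subgroup G)) := by
    rw [hn]; exact dvd_pow_self 2 hn0
  obtain ⟨z, hz⟩ := exists_prime_orderOf_dvd_card' 2 hdvd
  refine ⟨z.1.1, z.1.2, ?_, ?_⟩
  · rw [Subgroup.orderOf_coe, Subgroup.orderOf_coe]
    exact hz
  · intro s hs
    have hzc := Subgroup.mem_center_iff.mp z.2 ⟨s, hs⟩
    exact (congrArg Subtype.val hzc).symm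

theorem conj_into_sylow (S : Sylow 2 G) {u : G} (hu : orderOf u = 2) :
    ∃ c : G, c * u * c⁻¹ ∈ (S : Subgroup G) := by
  obtain ⟨S', hS'⟩ := exists_sylow_mem hu
  have : Fact (Nat.Prime 2) := ⟨Nat.prime_two⟩
  obtain ⟨c, hc⟩ := MulAction.exists_smul_eq G S S'
  refine ⟨c⁻¹, ?_⟩
  have h : u ∈ ((c • S : Sylow 2 G) : Subgroup G) := by rw [hc]; exact hS'
  rw [Sylow.coe_subgroup_smul, mem_conj_smul] at h
  rwa [inv_inv]

end sylow

section counting

theorem four_le_card {α : Type*} [Finite α] {a b c d : α}
    (hab : a ≠ b) (hac : a ≠ c) (had : a ≠ d) (hbc : b ≠ c) (hbd : b ≠ d) (hcd : c ≠ d) :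
    4 ≤ Nat.card α := by
  classical
  have := Fintype.ofFinite α
  have h4 : ({a, b, c, d} : Finset α).card = 4 := by
    rw [Finset.card_insert_of_notMem, Finset.card_insert_of_notMem,
      Finset.card_insert_of_notMem, Finset.card_singleton]
    · simp [hcd]
    · simp [hbc, hbd]
    · simp [hab, hac, had]
  have hle := Finset.card_le_univ ({a, b, c, d} : Finset α)
  rw [h4, ← Nat.card_eq_fintype_card] at hle
  exact hle

variable {G : Type*} [Group G]

theorem orderOf_mul_of_commute {x a : G} (hx : orderOf x = 2) (ha : orderOf a = 2)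
    (hc : Commute x a) (hne : a ≠ x) : orderOf (x * a) = 2 := by
  have : Fact (Nat.Prime 2) := ⟨Nat.prime_two⟩
  apply orderOf_eq_prime
  · rw [hc.mul_pow, pow_two, pow_two, mul_self_of_order_two hx, mul_self_of_order_two ha, one_mul]
  · intro h
    apply hne
    have h2 : a = x⁻¹ := eq_inv_of_mul_eq_one_right h
    rw [h2, inv_eq_self_of_order_two hx]

theorem involutions_of_card_le_three [Finite G] {x a : G} (hx : orderOf x = 2)
    (h3 : Nat.card {u : ↥(Subgroup.centralizer ({x} : Set G)) // orderOf u = 2} ≤ 3)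
    (ha : orderOf a = 2) (hax : Commute a x) (hne : a ≠ x) : InvCent x a (x * a) := by
  intro u hu hux
  by_contra hcon
  push Not at hcon
  obtain ⟨h1, h2, h4⟩ := hcon
  have hb : orderOf (x * a) = 2 := orderOf_mul_of_commute hx ha hax.symm hne
  have mem : ∀ {y : G}, Commute y x → y ∈ Subgroup.centralizer ({x} : Set G) := by
    intro y hy
    rw [Subgroup.mem_centralizer_singleton_iff]
    exact hy.eq
  have hbx : Commute (x * a) x := (Commute.refl x).mul_left hax
  have hxb : x ≠ x * a := fun h => ne_one_of_order_two ha (left_eq_mul.mp h)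
  have hab : a ≠ x * a := fun h => ne_one_of_order_two hx (right_eq_mul.mp h)
  have hle := four_le_card
    (α := {u : ↥(Subgroup.centralizer ({x} : Set G)) // orderOf u = 2})
    (a := ⟨⟨x, mem (Commute.refl x)⟩, by rw [Subgroup.orderOf_mk]; exact hx⟩)
    (b := ⟨⟨a, mem hax⟩, by rw [Subgroup.orderOf_mk]; exact ha⟩)
    (c := ⟨⟨x * a, mem hbx⟩, by rw [Subgroup.orderOf_mk]; exact hb⟩)
    (d := ⟨⟨u, mem hux⟩, by rw [Subgroup.orderOf_mk]; exact hu⟩)
    (fun h => hne (congrArg (fun t => (t.1.1 : G)) h).symm)
    (fun h => hxb (congrArg (fun t => (t.1.1 : G)) h))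
    (fun h => h1 (congrArg (fun t => (t.1.1 : G)) h).symm)
    (fun h => hab (congrArg (fun t => (t.1.1 : G)) h))
    (fun h => h2 (congrArg (fun t => (t.1.1 : G)) h).symm)
    (fun h => h4 (congrArg (fun t => (t.1.1 : G)) h).symm)
  omega

end counting

/-- Let G be a finite simple group and x an involution of G whose centralizer contains at most three involutions. Then C_G(x) contains a Sylow 2-subgroup of G, and all involutions of G are conjugate. -/
theorem result {G : Type*} [Group G] [Finite G] [IsSimpleGroup G] (x : G) (hx : orderOf x = 2)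
    (h3 : Nat.card {u : ↥(Subgroup.centralizer ({x} : Set G)) // orderOf u = 2} ≤ 3) :
    (∃ S : Sylow 2 G, (S : Subgroup G) ≤ Subgroup.centralizer ({x} : Set G)) ∧
      ∀ u v : G, orderOf u = 2 → orderOf v = 2 → IsConj u v := by
  classical
  have hBS : Cfsg.Agent.Lib.Helper23_ZStar.BrauerSuzukiHyp :=
    fun H _ _ S n e hO => Cfsg.Agent.S0201.result S n e hO
  have memC : ∀ {y : G}, y ∈ Subgroup.centralizer ({x} : Set G) ↔ Commute y x := by
    intro y
    rw [Subgroup.mem_centralizer_singleton_iff]
    exact ⟨fun h => h, fun h => h.eq⟩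
  obtain ⟨S, hxS⟩ := exists_sylow_mem hx
  obtain ⟨z, hzS, hz2, hzc⟩ := exists_central_involution S hxS hx
  have hzx : Commute z x := hzc x hxS
  by_cases hall : ∀ u : G, orderOf u = 2 → Commute u x → u = x
  · have hzx' : z = x := hall z hz2 hzx
    have hSC : (S : Subgroup G) ≤ Subgroup.centralizer ({x} : Set G) := by
      intro s hs
      rw [memC]
      have := hzc s hs
      rw [hzx'] at this
      exact this.symm
    refine ⟨⟨S, hSC⟩, ?_⟩
    have key : ∀ u : G, orderOf u = 2 → IsConj x u := by
      intro u hu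
      obtain ⟨c, hc⟩ := conj_into_sylow S hu
      have h1 := hall (c * u * c⁻¹) (by rw [orderOf_conj_eq]; exact hu) (memC.mp (hSC hc))
      have : IsConj u x := isConj_iff.mpr ⟨c, h1⟩
      exact this.symm
    intro u v hu hv
    exact (key u hu).symm.trans (key v hv)
  · push Not at hall
    obtain ⟨a, ha, hax, hane⟩ := hall
    have hinv := involutions_of_card_le_three hx h3 ha hax hane
    have hb : orderOf (x * a) = 2 := orderOf_mul_of_commute hx ha hax.symm hane
    have hxa : x ≠ a := hane.symm
    have hxb : x ≠ x * a := fun h => ne_one_of_order_two ha (left_eq_mul.mp h)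
    have hab : a ≠ x * a := fun h => ne_one_of_order_two hx (right_eq_mul.mp h)
    have hcxa : Commute x a := hax.symm
    have hcba : Commute (x * a) a := hcxa.mul_left (Commute.refl a)
    have hcxb : Commute x (x * a) := (Commute.refl x).mul_right hcxa
    have hcab : Commute a (x * a) := hcba.symm
    have hconj : IsConj x a ∧ IsConj x (x * a) := by
      by_cases h1 : IsConj x a
      · by_cases h2 : IsConj x (x * a)
        · exact ⟨h1, h2⟩
        · exfalso
          exact false_of_commute_conj hb hx hxb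
            (commute_conj_of_partial_fusion hx ha hb hxa hxb hab hcxa hcba hinv h1 h2)
      · by_cases h2 : IsConj x (x * a)
        · exfalso
          exact false_of_commute_conj ha hx hxa
            (commute_conj_of_partial_fusion hx hb ha hxb hxa hab.symm hcxb hcab hinv.swap h2 h1)
        · exfalso
          have hiso : IsIsolatedInvolution x := by
            refine ⟨hx, fun g hg => ?_⟩
            have ho : orderOf (g * x * g⁻¹) = 2 := by rw [orderOf_conj_eq]; exact hx
            rcases hinv _ ho hg.symm with h | h | h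
            · exact h
            · exact absurd (isConj_iff.mpr ⟨g, h⟩) h1
            · exact absurd (isConj_iff.mpr ⟨g, h⟩) h2
          have hz : ∀ g : G, x * g * x⁻¹ * g⁻¹ ∈ pPrimeCore 2 G :=
            fun g => Cfsg.Agent.Lib.Helper23_ZStarC.zstar_isolated hBS hiso g
          have hnorm : (pPrimeCore 2 G).Normal := Cfsg.Agent.Lib.Helper1_Cores.pPrimeCore_normal 2
          rcases hnorm.eq_bot_or_eq_top with h0 | h0
          · apply false_of_central_involution hx ha hane
            intro g
            have := hz g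
            rw [h0, Subgroup.mem_bot] at this
            have h1' : x * g * x⁻¹ = g := mul_inv_eq_one.mp this
            have h2' : x * g = g * x := mul_inv_eq_iff_eq_mul.mp h1'
            exact h2'.symm
          · have hodd := Cfsg.Agent.Lib.Helper23_ZStarC.odd_card_oddCore (G := G)
            have hcard : Nat.card (pPrimeCore 2 G) = Nat.card G := by
              rw [h0]; exact Subgroup.card_top
            have hdvd : 2 ∣ Nat.card G := by rw [← hx]; exact orderOf_dvd_natCard x
            rw [hcard] at hodd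
            exact (Nat.not_even_iff_odd.mpr hodd) (even_iff_two_dvd.mpr hdvd)
    obtain ⟨hca, hcb⟩ := hconj
    have hzconj : IsConj x z := by
      rcases hinv z hz2 hzx with h | h | h
      · rw [h]
      · rw [h]; exact hca
      · rw [h]; exact hcb
    obtain ⟨c, hc⟩ := isConj_iff.mp hzconj
    have hS'C : ((c⁻¹ • S : Sylow 2 G) : Subgroup G) ≤ Subgroup.centralizer ({x} : Set G) := by
      intro s hs
      rw [Sylow.coe_subgroup_smul, mem_conj_smul, inv_inv] at hs
      rw [memC]
      have h1 := hzc _ hs
      rw [← hc] at h1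
      have h2 : c * (x * s) * c⁻¹ = c * (s * x) * c⁻¹ := by
        calc c * (x * s) * c⁻¹ = c * x * c⁻¹ * (c * s * c⁻¹) := by group
          _ = c * s * c⁻¹ * (c * x * c⁻¹) := h1
          _ = c * (s * x) * c⁻¹ := by group
      have h4 : x * s = s * x := mul_left_cancel (mul_right_cancel h2)
      exact h4.symm
    refine ⟨⟨c⁻¹ • S, hS'C⟩, ?_⟩
    have key : ∀ u : G, orderOf u = 2 → IsConj x u := by
      intro u hu
      obtain ⟨d, hd⟩ := conj_into_sylow (c⁻¹ • S) hu
      have ho : orderOf (d * u * d⁻¹) = 2 := by rw [orderOf_conj_eq]; exact hu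
      have hud : IsConj u (d * u * d⁻¹) := isConj_iff.mpr ⟨d, rfl⟩
      rcases hinv _ ho (memC.mp (hS'C hd)) with h | h | h
      · rw [h] at hud; exact hud.symm
      · rw [h] at hud; exact hca.trans hud.symm
      · rw [h] at hud; exact hcb.trans hud.symm
    intro u v hu hv
    exact (key u hu).symm.trans (key v hv)

end Cfsg.Agent.S3279
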