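import Mathlib
import Cfsg.Statements.S4479
import Cfsg.Agent.S0925
import Cfsg.Agent.Lib.Helper30_SectionNorm
import Cfsg.Agent.Lib.Helper30_KleinFour
import Cfsg.Agent.Lib.Helper30_KleinCount
import Cfsg.Agent.Lib.Helper30_KleinBlock
import Cfsg.Agent.Lib.Helper16_Char
import Cfsg.Agent.Lib.Helper79_ClassAlgebra
import Cfsg.Agent.Lib.Helper80_CharBasic
import Cfsg.Agent.Lib.Helper80_CharComplete
import Cfsg.Agent.Lib.Helper81_CharOrth
import Cfsg.Agent.Lib.Helper78_LocalRing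

set_option autoImplicit false
open Cfsg

namespace Cfsg.Agent.S4479

open scoped ComplexConjugate
open Subgroup

universe u

/-! ### algebra -/

theorem final_algebra (g cJ cP o N x1 x2 x3 e1 e2 e3 : ℚ) (hx1 : 0 < x1) (hx2 : 0 < x2)
    (hx3 : 0 < x3) (he1 : e1 = 1 ∨ e1 = -1) (he2 : e2 = 1 ∨ e2 = -1) (he3 : e3 = 1 ∨ e3 = -1)
    (hO : 1 + x1 * e1 + x2 * e2 + x3 * e3 = 0)
    (hI : 1 + e1 ^ 2 / x1 * e1 + e2 ^ 2 / x2 * e2 + e3 ^ 2 / x3 * e3 = (g * o)⁻¹ * N)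
    (hN : N * (cP * cP) = 2 * cJ ^ 4) (hcJ : cJ = 4 * o) (hg : 0 < g) (ho : 0 < o)
    (hcP : 0 < cP) :
    g = 8 * ((x1 * x2 * x3) / ((x1 + e1) * (x2 + e2) * (x3 + e3))) * cJ ^ 3 / cP ^ 2 := by
  have he1sq : e1 ^ 2 = 1 := by rcases he1 with h | h <;> rw [h] <;> norm_num
  have he2sq : e2 ^ 2 = 1 := by rcases he2 with h | h <;> rw [h] <;> norm_num
  have he3sq : e3 ^ 2 = 1 := by rcases he3 with h | h <;> rw [h] <;> norm_num
  rw [he1sq, he2sq, he3sq] at hI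
  obtain ⟨S, hS⟩ : ∃ S, S = (g * o)⁻¹ * N := ⟨_, rfl⟩
  rw [← hS] at hI
  have hS1 : S * (x1 * x2 * x3) = x1 * x2 * x3 + e1 * x2 * x3 + e2 * x1 * x3 + e3 * x1 * x2 := by
    rw [← hI]
    field_simp
  have hD : (x1 + e1) * (x2 + e2) * (x3 + e3) = S * (x1 * x2 * x3) := by
    rw [hS1]
    linear_combination (e1 * e2 * e3) * hO - (x3 * e1 * e2) * he3sq - (x2 * e1 * e3) * he2sq -
      (x1 * e2 * e3) * he1sq
  have hcJpos : 0 < cJ := by rw [hcJ]; positivity
  have hNval : N = 2 * cJ ^ 4 / (cP * cP) := by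
    field_simp
    linear_combination hN
  have hSval : S = 8 * cJ ^ 3 / (g * cP ^ 2) := by
    rw [hS, hNval, hcJ]
    field_simp
    ring
  rw [hD, hSval]
  field_simp

/-! ### character sums -/

theorem sum_irr_mul_irr {G : Type u} [Group G] [Fintype G] [DecidableEq G]
    [Fintype (IrrCharacter G)] (w z : G) :
    ∑ χ : IrrCharacter G, (χ : G → ℂ) w * (χ : G → ℂ) z =
      ∑ h : G, if h⁻¹ * w * h = z⁻¹ then (1 : ℂ) else 0 := by
  classical
  have h1 : ∀ χ : IrrCharacter G, (χ : G → ℂ) w * (χ : G → ℂ) z =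
      (χ : G → ℂ) w * conj ((χ : G → ℂ) z⁻¹) := by
    intro χ
    rw [← Cfsg.Agent.Lib.Helper80_CharBasic.irr_inv, inv_inv]
  simp only [h1]
  rw [Cfsg.Agent.Lib.Helper80_CharComplete.second_orthogonality_sum, Finset.sum_boole]
  split_ifs with hc
  · have h2 := Cfsg.Agent.Lib.Helper16_Char.card_fiber w z⁻¹ hc
    rw [← h2, Nat.card_eq_fintype_card, Fintype.card_subtype]
  · have h3 : Finset.univ.filter (fun h : G => h⁻¹ * w * h = z⁻¹) = ∅ := by
      rw [Finset.filter_eq_empty_iff]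
      intro h _ hh
      apply hc
      rw [isConj_iff]
      exact ⟨h⁻¹, by rw [inv_inv]; exact hh⟩
    rw [h3, Finset.card_empty, Nat.cast_zero]

theorem sq_div_eq_sum {G : Type u} [Group G] [Fintype G] (χ : IrrCharacter G) (t : G) :
    (χ : G → ℂ) t ^ 2 / (χ : G → ℂ) 1 =
      (Nat.card G : ℂ)⁻¹ * ∑ g : G, (χ : G → ℂ) (t * (g * t * g⁻¹)) := by
  obtain ⟨n, ρ, hirr, hρ⟩ := χ.2
  have := hirr
  have h := Cfsg.Agent.Lib.Helper79_ClassAlgebra.card_mul_char_mul_char ρ t t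
  have hnz := Cfsg.Agent.Lib.Helper79_ClassAlgebra.finrank_ne_zero_of_irreducible ρ
  have hG : (Nat.card G : ℂ) ≠ 0 := by
    exact_mod_cast (Nat.card_pos (α := G)).ne'
  rw [← hρ, Representation.char_one, Nat.card_eq_fintype_card]
  rw [Nat.card_eq_fintype_card] at hG
  field_simp
  linear_combination h

theorem sum_coset_indicator {G : Type u} [Group G] [DecidableEq G] (C : Subgroup G) [Fintype C]
    (O : Subgroup C) [DecidablePred (· ∈ O)] (J : G) (c : ℂ) (y : G)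
    [Decidable (y⁻¹ * J⁻¹ ∈ O.map C.subtype)] :
    ∑ k : C, (if k ∈ O then c else 0) * (if y = ((k : G) * J)⁻¹ then 1 else 0) =
      if y⁻¹ * J⁻¹ ∈ O.map C.subtype then c else 0 := by
  by_cases hy : y⁻¹ * J⁻¹ ∈ O.map C.subtype
  · rw [if_pos hy]
    obtain ⟨k0, hk0, e0⟩ := Subgroup.mem_map.1 hy
    have e0' : (k0 : G) = y⁻¹ * J⁻¹ := e0
    rw [Finset.sum_eq_single k0]
    · rw [if_pos hk0, if_pos, mul_one]
      rw [e0']
      group
    · intro k _ hk
      have hne : ¬ (y = ((k : G) * J)⁻¹) := by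
        intro h
        apply hk
        apply Subtype.ext
        rw [e0', h]
        group
      rw [if_neg hne, mul_zero]
    · intro h
      exact absurd (Finset.mem_univ k0) h
  · rw [if_neg hy]
    refine Finset.sum_eq_zero fun k _ => ?_
    by_cases hk : k ∈ O
    · have hne : ¬ (y = ((k : G) * J)⁻¹) := by
        intro h
        apply hy
        refine Subgroup.mem_map.2 ⟨k, hk, ?_⟩
        rw [h]
        show (k : G) = _
        group
      rw [if_neg hne, mul_zero]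
    · rw [if_neg hk, zero_mul]

open Classical in
/-- the class multiplication count: the sum of `χ(J)^3/χ(1)` over the principal block -/
theorem main_count {G : Type u} [Group G] [Fintype G] (M : Ideal AlgInt) (hM : IsPModular 2 M)
    {J : G} (hJ : orderOf J = 2) (O : Subgroup (centralizer ({J} : Set G))) [O.Normal]
    (hO : Odd (Nat.card O)) (hCO : Nat.card (centralizer ({J} : Set G)) = 4 * Nat.card O) :
    ∑ᶠ χ ∈ principalBlock M G, (χ : G → ℂ) J ^ 2 / (χ : G → ℂ) 1 * (χ : G → ℂ) J =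
      ((Nat.card G : ℂ) * (Nat.card O : ℂ))⁻¹ *
        ((∑ h : G, ∑ g : G,
          if (g⁻¹ * J * g) * (h⁻¹ * J * h) * J ∈ O.map (centralizer ({J} : Set G)).subtype
            then 1 else 0 : ℕ) : ℂ) := by
  have : Fact (Nat.Prime 2) := ⟨Nat.prime_two⟩
  have : Fintype (IrrCharacter G) := Fintype.ofFinite _
  have : Fintype (centralizer ({J} : Set G)) := Fintype.ofFinite _
  have hy : ∃ k : ℕ, orderOf J = 2 ^ k := ⟨1, by rw [hJ, pow_one]⟩
  have hJinv := Cfsg.Agent.Lib.Helper30_KleinFour.inv_eq_self_of_order_two hJ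
  have hA : ∑ᶠ χ ∈ principalBlock M G, (χ : G → ℂ) J ^ 2 / (χ : G → ℂ) 1 * (χ : G → ℂ) J =
      ∑ χ : IrrCharacter G, (χ : G → ℂ) J ^ 2 / (χ : G → ℂ) 1 *
        ∑ k : centralizer ({J} : Set G),
          blockCoeff (principalBlock M (centralizer ({J} : Set G))) k *
            (χ : G → ℂ) ((k : G) * J) := by
    rw [finsum_mem_def, finsum_eq_sum_of_fintype]
    refine Finset.sum_congr rfl fun χ _ => ?_
    by_cases hχ : χ ∈ principalBlock M G
    · rw [Set.indicator_of_mem hχ]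
      have h1 := Cfsg.Agent.Lib.Helper30_SectionNorm.fact_two hM hy χ hχ
      rw [finsum_eq_sum_of_fintype] at h1
      rw [h1]
    · rw [Set.indicator_of_notMem hχ]
      have h1 := Cfsg.Agent.Lib.Helper30_SectionNorm.fact_one hM hy χ hχ
      rw [finsum_eq_sum_of_fintype] at h1
      rw [h1, mul_zero]
  rw [hA]
  have hOnd : ¬ 2 ∣ Nat.card O := fun h => (Nat.not_even_iff_odd.2 hO) (even_iff_two_dvd.2 h)
  have hreg : ∀ k : centralizer ({J} : Set G), ¬ 2 ∣ orderOf k → k ∈ O := by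
    intro k hk
    rw [← QuotientGroup.eq_one_iff]
    have h1 : orderOf (k : centralizer ({J} : Set G) ⧸ O) ∣ orderOf k :=
      orderOf_map_dvd (QuotientGroup.mk' O) k
    have h2 : orderOf (k : centralizer ({J} : Set G) ⧸ O) ∣ 4 := by
      rw [← Cfsg.Agent.Lib.Helper30_KleinCount.card_quotient_eq_four O hCO]
      exact orderOf_dvd_natCard _
    have hcop : Nat.Coprime (orderOf k) 4 := by
      have h5 : Nat.Coprime (orderOf k) 2 :=
        ((Nat.Prime.coprime_iff_not_dvd Nat.prime_two).2 hk).symm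
      have h4 : (4 : ℕ) = 2 ^ 2 := by norm_num
      rw [h4]
      exact Nat.Coprime.pow_right 2 h5
    have h3 : orderOf (k : centralizer ({J} : Set G) ⧸ O) = 1 :=
      Nat.eq_one_of_dvd_coprimes hcop h1 h2
    exact orderOf_eq_one_iff.1 h3
  have he : ∀ k : centralizer ({J} : Set G),
      blockCoeff (principalBlock M (centralizer ({J} : Set G))) k =
        if k ∈ O then (Nat.card O : ℂ)⁻¹ else 0 :=
    fun k => Cfsg.Agent.Lib.Helper30_KleinBlock.blockCoeff_principal_of_npc hM O hOnd hreg k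
  simp only [he]
  have hterm : ∀ χ : IrrCharacter G, (χ : G → ℂ) J ^ 2 / (χ : G → ℂ) 1 *
      ∑ k : centralizer ({J} : Set G),
        (if k ∈ O then (Nat.card O : ℂ)⁻¹ else 0) * (χ : G → ℂ) ((k : G) * J) =
      (Nat.card G : ℂ)⁻¹ * ∑ g : G, ∑ k : centralizer ({J} : Set G),
        (if k ∈ O then (Nat.card O : ℂ)⁻¹ else 0) *
          ((χ : G → ℂ) (J * (g * J * g⁻¹)) * (χ : G → ℂ) ((k : G) * J)) := by
    intro χ
    rw [sq_div_eq_sum, mul_assoc, Finset.sum_mul_sum]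
    congr 1
    refine Finset.sum_congr rfl fun g _ => Finset.sum_congr rfl fun k _ => ?_
    ring
  simp only [hterm]
  rw [← Finset.mul_sum, Finset.sum_comm]
  have h2 : ∀ g : G, ∑ χ : IrrCharacter G, ∑ k : centralizer ({J} : Set G),
        (if k ∈ O then (Nat.card O : ℂ)⁻¹ else 0) *
          ((χ : G → ℂ) (J * (g * J * g⁻¹)) * (χ : G → ℂ) ((k : G) * J)) =
      ∑ h : G, if (h⁻¹ * (J * (g * J * g⁻¹)) * h)⁻¹ * J⁻¹ ∈
        O.map (centralizer ({J} : Set G)).subtype then (Nat.card O : ℂ)⁻¹ else 0 := by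
    intro g
    rw [Finset.sum_comm]
    simp only [← Finset.mul_sum, sum_irr_mul_irr]
    simp only [Finset.mul_sum]
    rw [Finset.sum_comm]
    refine Finset.sum_congr rfl fun h _ => ?_
    exact sum_coset_indicator (centralizer ({J} : Set G)) O J _ (h⁻¹ * (J * (g * J * g⁻¹)) * h)
  simp only [h2]
  have hcond : ∀ g h : G, (h⁻¹ * (J * (g * J * g⁻¹)) * h)⁻¹ * J⁻¹ =
      ((g⁻¹ * h)⁻¹ * J * (g⁻¹ * h)) * (h⁻¹ * J * h) * J := by
    intro g h
    calc (h⁻¹ * (J * (g * J * g⁻¹)) * h)⁻¹ * J⁻¹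
        = h⁻¹ * g * J⁻¹ * g⁻¹ * J⁻¹ * h * J⁻¹ := by group
      _ = h⁻¹ * g * J * g⁻¹ * J * h * J := by rw [hJinv]
      _ = ((g⁻¹ * h)⁻¹ * J * (g⁻¹ * h)) * (h⁻¹ * J * h) * J := by group
  simp only [hcond]
  rw [Finset.sum_comm]
  have h3 : ∀ h : G, (∑ g : G, if ((g⁻¹ * h)⁻¹ * J * (g⁻¹ * h)) * (h⁻¹ * J * h) * J ∈
        O.map (centralizer ({J} : Set G)).subtype then (Nat.card O : ℂ)⁻¹ else 0) =
      ∑ g : G, if (g⁻¹ * J * g) * (h⁻¹ * J * h) * J ∈
        O.map (centralizer ({J} : Set G)).subtype then (Nat.card O : ℂ)⁻¹ else 0 := by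
    intro h
    exact Fintype.sum_equiv ((Equiv.inv G).trans (Equiv.mulRight h)) _ _ (fun g => rfl)
  simp only [h3]
  push_cast
  have h4 : ∀ h g : G, (if (g⁻¹ * J * g) * (h⁻¹ * J * h) * J ∈
        O.map (centralizer ({J} : Set G)).subtype then (Nat.card O : ℂ)⁻¹ else 0) =
      (Nat.card O : ℂ)⁻¹ * (if (g⁻¹ * J * g) * (h⁻¹ * J * h) * J ∈
        O.map (centralizer ({J} : Set G)).subtype then 1 else 0) := by
    intro h g
    split_ifs
    · rw [mul_one]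
    · rw [mul_zero]
  simp only [h4, ← Finset.mul_sum]
  rw [mul_inv]
  ring

theorem irr_one_eq_charDegree {K : Type u} [Group K] (ψ : IrrCharacter K) :
    (ψ : K → ℂ) 1 = (charDegree (ψ : K → ℂ) : ℂ) := by
  obtain ⟨n, -, hn⟩ := Cfsg.Agent.Lib.Helper80_CharBasic.irr_apply_one ψ
  unfold charDegree
  rw [hn]
  simp

theorem charDegree_pos {K : Type u} [Group K] (ψ : IrrCharacter K) :
    0 < charDegree (ψ : K → ℂ) := by
  obtain ⟨n, hpos, hn⟩ := Cfsg.Agent.Lib.Helper80_CharBasic.irr_apply_one ψ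
  have h := irr_one_eq_charDegree ψ
  rw [hn] at h
  have h2 : n = charDegree (ψ : K → ℂ) := by exact_mod_cast h
  rw [← h2]
  exact hpos

theorem finsum_four {α : Type*} {a b c d : α} (hab : a ≠ b) (hac : a ≠ c) (had : a ≠ d)
    (hbc : b ≠ c) (hbd : b ≠ d) (hcd : c ≠ d) (F : α → ℂ) :
    ∑ᶠ x ∈ ({x | x = a ∨ x = b ∨ x = c ∨ x = d} : Set α), F x = F a + F b + F c + F d := by
  have hset : ({x | x = a ∨ x = b ∨ x = c ∨ x = d} : Set α) = {a, b, c, d} := by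
    ext x
    simp
  rw [hset, finsum_mem_insert _ _ (Set.toFinite _), finsum_mem_insert _ _ (Set.toFinite _),
    finsum_mem_pair hcd]
  · ring
  · simp [hbc, hbd]
  · simp [hab, hac, had]

/-- the centralizer of the four group -/
theorem centralizer_four {G : Type u} [Group G] (P : Subgroup G) {J a : G} (hJP : J ∈ P)
    (haP : a ∈ P) (hall : ∀ x ∈ P, x = 1 ∨ x = J ∨ x = a ∨ x = J * a) :
    centralizer ({J} : Set G) ⊓ centralizer ({a} : Set G) = centralizer (P : Set G) := by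
  ext x
  rw [Subgroup.mem_inf, Subgroup.mem_centralizer_singleton_iff,
    Subgroup.mem_centralizer_singleton_iff, Subgroup.mem_centralizer_iff]
  constructor
  · rintro ⟨h1, h2⟩ y hy
    rcases hall y hy with h | h | h | h
    · rw [h, one_mul, mul_one]
    · rw [h]; exact h1.symm
    · rw [h]; exact h2.symm
    · rw [h, mul_assoc, ← h2, ← mul_assoc, ← h1, mul_assoc]
  · intro h
    exact ⟨(h J hJP).symm, (h a haP).symm⟩

/-- An order formula from the principal 2-block. Let G be a finite group of order 4·g₀ with g₀ odd having no normal 2-complement (no normal subgroup of order g₀); let P be a Sylow 2-subgroup, J an involution of P, and fix a maximal ideal M of the algebraic integers containing 2. Suppose the principal 2-block consists of the principal character and three further distinct characters χ₁, χ₂, χ₃ of degrees x₁, x₂, x₃, with χ_i(J) = ε_i = ±1. Then, writing c(J) and c(P) for the orders of the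 centralizers of J and of P, the order of G equals 8·α·c(J)³/c(P)² with α = x₁x₂x₃ / ((x₁ + ε₁)(x₂ + ε₂)(x₃ + ε₃)). -/
theorem result {G : Type*} [Group G] [Finite G] (M : Ideal Cfsg.AlgInt) (hM : Cfsg.IsPModular 2 M) (g₀ : ℕ) (hg₀ : Odd g₀) (hG : Nat.card G = 4 * g₀) (hnc : ¬ ∃ N : Subgroup G, N.Normal ∧ Nat.card N = g₀) (P : Sylow 2 G) (J : G) (hJ : J ∈ (P : Subgroup G)) (hJ2 : orderOf J = 2) (χ₁ χ₂ χ₃ : Cfsg.IrrCharacter G) (ε₁ ε₂ ε₃ : ℤ) (hB : Cfsg.principalBlock M G = {χ : Cfsg.IrrCharacter G | (χ : G → ℂ) = (fun _ => 1) ∨ χ = χ₁ ∨ χ = χ₂ ∨ χ = χ₃}) (hdist : (χ₁ : G → ℂ) ≠ (fun _ => 1) ∧ (χ₂ : G → ℂ) ≠ (fun _ => 1) ∧ (χ₃ : G → ℂ) ≠ (fun _ => 1) ∧ χ₁ ≠ χ₂ ∧ χ₁ ≠ χ₃ ∧ χ₂ ≠ χ₃) (hε : (ε₁ = 1 ∨ ε₁ = -1) ∧ (ε₂ = 1 ∨ ε₂ = -1) ∧ (ε₃ = 1 ∨ ε₃ = -1)) (hval : (χ₁ : G → ℂ) J = ε₁ ∧ (χ₂ : G → ℂ) J = ε₂ ∧ (χ₃ : G → ℂ) J = ε₃) : (Nat.card G : ℚ) = 8 * (((Cfsg.charDegree (χ₁ : G → ℂ) : ℚ) * Cfsg.charDegree (χ₂ : G →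 ℂ) * Cfsg.charDegree (χ₃ : G → ℂ)) / ((Cfsg.charDegree (χ₁ : G → ℂ) + ε₁) * (Cfsg.charDegree (χ₂ : G → ℂ) + ε₂) * (Cfsg.charDegree (χ₃ : G → ℂ) + ε₃))) * (Nat.card (Subgroup.centralizer ({J} : Set G)) : ℚ) ^ 3 / (Nat.card (Subgroup.centralizer ((P : Subgroup G) : Set G)) : ℚ) ^ 2 := by
  classical
  have : Fact (Nat.Prime 2) := ⟨Nat.prime_two⟩
  have := Fintype.ofFinite G
  -- group theory
  obtain ⟨m, a, haP, hao, haJ, hmJ, hma, hcomm, hall⟩ :=
    Cfsg.Agent.Lib.Helper30_KleinFour.klein_structure hG hg₀ hnc P hJ hJ2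
  obtain ⟨O, hOn, hOodd, hCO⟩ := Cfsg.Agent.Lib.Helper30_KleinFour.centralizer_npc hG hg₀ P hJ hJ2
  have hJinv := Cfsg.Agent.Lib.Helper30_KleinFour.inv_eq_self_of_order_two hJ2
  have hJa : IsConj J a := isConj_iff.2 ⟨m, hmJ⟩
  have hJJa : IsConj J (J * a) := by
    rw [isConj_iff]
    refine ⟨m * m, ?_⟩
    rw [← hma, ← hmJ]
    group
  have hJaP : J * a ∈ (P : Subgroup G) := mul_mem hJ haP
  have hd1 : centralizer ({J} : Set G) ⊓ centralizer ({a} : Set G) =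
      centralizer ((P : Subgroup G) : Set G) := centralizer_four (P : Subgroup G) hJ haP hall
  have hd2 : centralizer ({J} : Set G) ⊓ centralizer ({J * a} : Set G) =
      centralizer ((P : Subgroup G) : Set G) := by
    refine centralizer_four (P : Subgroup G) hJ hJaP ?_
    intro x hx
    have hJJa' : J * (J * a) = a := by
      rw [← mul_assoc, Cfsg.Agent.Lib.Helper30_KleinFour.mul_self_of_order_two hJ2, one_mul]
    rcases hall x hx with h | h | h | h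
    · exact Or.inl h
    · exact Or.inr (Or.inl h)
    · right; right; right
      rw [hJJa']; exact h
    · right; right; left
      exact h
  have hcount := Cfsg.Agent.Lib.Helper30_KleinCount.count_pairs hJ2 O hOodd hCO hao haJ hcomm
    hJa hJJa
  rw [hd1, hd2] at hcount
  have hmain := main_count M hM hJ2 O hOodd hCO
  obtain ⟨N, hN⟩ : ∃ N : ℕ, N = ∑ h : G, ∑ g : G,
      if (g⁻¹ * J * g) * (h⁻¹ * J * h) * J ∈ O.map (centralizer ({J} : Set G)).subtype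
        then 1 else 0 := ⟨_, rfl⟩
  rw [← hN] at hmain hcount
  -- the principal block
  obtain ⟨o1, ho1⟩ : ∃ o1 : IrrCharacter G, o1 = Cfsg.Agent.Lib.Helper80_CharBasic.oneIrr G :=
    ⟨_, rfl⟩
  have ho1v : ∀ g : G, (o1 : G → ℂ) g = 1 := fun g => by rw [ho1]; rfl
  have hiff : ∀ χ : IrrCharacter G, (χ : G → ℂ) = (fun _ => 1) ↔ χ = o1 := by
    intro χ
    rw [ho1]
    constructor
    · intro h
      exact Subtype.ext h
    · intro h
      rw [h]
      rfl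
  have hB' : principalBlock M G = {χ : IrrCharacter G | χ = o1 ∨ χ = χ₁ ∨ χ = χ₂ ∨ χ = χ₃} := by
    rw [hB]
    ext χ
    simp only [Set.mem_ofPred_eq, hiff]
  obtain ⟨hd1', hd2', hd3', h12, h13, h23⟩ := hdist
  have hne1 : o1 ≠ χ₁ := fun h => hd1' ((hiff χ₁).2 h.symm)
  have hne2 : o1 ≠ χ₂ := fun h => hd2' ((hiff χ₂).2 h.symm)
  have hne3 : o1 ≠ χ₃ := fun h => hd3' ((hiff χ₃).2 h.symm)
  obtain ⟨hv1, hv2, hv3⟩ := hval
  -- (O): orthogonality
  have hy1 : ∃ k : ℕ, orderOf (1 : G) = 2 ^ k := ⟨0, by rw [orderOf_one, pow_zero]⟩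
  have hyJ : ∃ k : ℕ, orderOf J = 2 ^ k := ⟨1, by rw [hJ2, pow_one]⟩
  have hnot : ¬ IsConj (1 : G) J := by
    rw [isConj_one_right]
    exact Cfsg.Agent.Lib.Helper30_KleinFour.ne_one_of_order_two hJ2
  have horth := (Cfsg.Agent.S0925.result 2 M hM).2 1 J 1 J
    (Cfsg.Agent.Lib.Helper30_SectionNorm.isPPart_self hy1)
    (Cfsg.Agent.Lib.Helper30_SectionNorm.isPPart_self hyJ) hnot (principalBlock M G)
    (Cfsg.Agent.Lib.Helper30_SectionNorm.isPBlock_principalBlock G)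
  rw [hJinv, hB', finsum_four hne1 hne2 hne3 h12 h13 h23, ho1v, ho1v, hv1, hv2, hv3,
    irr_one_eq_charDegree χ₁, irr_one_eq_charDegree χ₂, irr_one_eq_charDegree χ₃] at horth
  -- (I): the count
  rw [hB', finsum_four hne1 hne2 hne3 h12 h13 h23, ho1v, ho1v, hv1, hv2, hv3,
    irr_one_eq_charDegree χ₁, irr_one_eq_charDegree χ₂, irr_one_eq_charDegree χ₃] at hmain
  have hOq : (1 : ℚ) + (charDegree (χ₁ : G → ℂ) : ℚ) * ε₁ + (charDegree (χ₂ : G → ℂ) : ℚ) * ε₂ +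
      (charDegree (χ₃ : G → ℂ) : ℚ) * ε₃ = 0 := by
    have h : ((1 : ℂ) * 1 + (charDegree (χ₁ : G → ℂ) : ℂ) * ε₁ +
      (charDegree (χ₂ : G → ℂ) : ℂ) * ε₂ + (charDegree (χ₃ : G → ℂ) : ℂ) * ε₃) = 0 := horth
    rw [mul_one] at h
    apply Rat.cast_injective (α := ℂ)
    push_cast
    exact h
  have hIq : (1 : ℚ) + (ε₁ : ℚ) ^ 2 / (charDegree (χ₁ : G → ℂ) : ℚ) * ε₁ +
      (ε₂ : ℚ) ^ 2 / (charDegree (χ₂ : G → ℂ) : ℚ) * ε₂ +
      (ε₃ : ℚ) ^ 2 / (charDegree (χ₃ : G → ℂ) : ℚ) * ε₃ =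
      ((Nat.card G : ℚ) * (Nat.card O : ℚ))⁻¹ * (N : ℚ) := by
    have h : ((1 : ℂ) ^ 2 / 1 * 1 + (ε₁ : ℂ) ^ 2 / (charDegree (χ₁ : G → ℂ) : ℂ) * ε₁ +
      (ε₂ : ℂ) ^ 2 / (charDegree (χ₂ : G → ℂ) : ℂ) * ε₂ +
      (ε₃ : ℂ) ^ 2 / (charDegree (χ₃ : G → ℂ) : ℂ) * ε₃) =
      ((Nat.card G : ℂ) * (Nat.card O : ℂ))⁻¹ * (N : ℂ) := hmain
    rw [one_pow, div_one, mul_one] at h
    apply Rat.cast_injective (α := ℂ)
    push_cast
    exact h
  have hNq : (N : ℚ) * ((Nat.card (centralizer ((P : Subgroup G) : Set G)) : ℚ) *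
      (Nat.card (centralizer ((P : Subgroup G) : Set G)) : ℚ)) =
      2 * (Nat.card (centralizer ({J} : Set G)) : ℚ) ^ 4 := by
    exact_mod_cast hcount
  have hcJq : (Nat.card (centralizer ({J} : Set G)) : ℚ) = 4 * (Nat.card O : ℚ) := by
    exact_mod_cast hCO
  have he : ∀ ε : ℤ, (ε = 1 ∨ ε = -1) → ((ε : ℚ) = 1 ∨ (ε : ℚ) = -1) := by
    intro ε h
    rcases h with h | h
    · left; rw [h]; norm_num
    · right; rw [h]; norm_num
  exact final_algebra _ _ _ _ _ _ _ _ _ _ _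
    (by exact_mod_cast charDegree_pos χ₁) (by exact_mod_cast charDegree_pos χ₂)
    (by exact_mod_cast charDegree_pos χ₃) (he _ hε.1) (he _ hε.2.1) (he _ hε.2.2) hOq hIq hNq hcJq
    (by exact_mod_cast (Nat.card_pos (α := G)))
    (by exact_mod_cast (Nat.card_pos (α := O)))
    (by exact_mod_cast (Nat.card_pos (α := centralizer ((P : Subgroup G) : Set G))))

end Cfsg.Agent.S4479
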