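import Cfsg.Statements.S3278
import Cfsg.Agent.S3279
import Cfsg.Agent.S4479
import Cfsg.Agent.S0165
import Cfsg.Agent.Lib.Helper16_KleinBlock
import Cfsg.Agent.Lib.Helper30_KleinFour

set_option autoImplicit false
open Cfsg

namespace Cfsg.Agent.S3278

open Cfsg.Agent.Lib.Helper30_KleinFour

section group

variable {G : Type*} [Group G] [Finite G]

/-- an involution of `C(x)` lies in the normal subgroup `S₀` of odd index -/
theorem mem_of_order_two {x : G} {S₀ : Subgroup G}
    (hodd : ¬ 2 ∣ S₀.relIndex (Subgroup.centralizer ({x} : Set G)))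
    (hn : (S₀.subgroupOf (Subgroup.centralizer ({x} : Set G))).Normal)
    {u : G} (huC : u ∈ Subgroup.centralizer ({x} : Set G)) (hu : orderOf u = 2) : u ∈ S₀ := by
  have h := (S₀.subgroupOf (Subgroup.centralizer ({x} : Set G))).pow_index_mem ⟨u, huC⟩
  have hr : (S₀.subgroupOf (Subgroup.centralizer ({x} : Set G))).index =
      S₀.relIndex (Subgroup.centralizer ({x} : Set G)) := rfl
  obtain ⟨j, hj⟩ : Odd (S₀.relIndex (Subgroup.centralizer ({x} : Set G))) :=
    Nat.not_even_iff_odd.mp (fun he => hodd (even_iff_two_dvd.mp he))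
  rw [hr, hj, Subgroup.mem_subgroupOf, SubmonoidClass.coe_pow] at h
  have hu2 : u ^ 2 = 1 := by rw [← hu]; exact pow_orderOf_eq_one u
  have : u ^ (2 * j + 1) = u := by rw [pow_succ, pow_mul, hu2, one_pow, one_mul]
  simpa [this] using h

/-- iterating an automorphism that swaps `b` and `f b` an even number of times fixes `b` -/
theorem pow_even_apply (f : MulAut G) {b : G} (hb : f (f b) = b) (j : ℕ) : (f ^ (2 * j)) b = b := by
  induction j with
  | zero => simp
  | succ j ih =>
    rw [Nat.mul_succ, pow_add, pow_two, MulAut.mul_apply, MulAut.mul_apply, hb, ih]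

/-- the elements of a Klein four subgroup -/
theorem klein_elements {S₀ : Subgroup G} (hK : IsKleinFour ↥S₀) {x : G} (hxS : x ∈ S₀)
    (hx : orderOf x = 2) :
    ∃ a ∈ S₀, orderOf a = 2 ∧ a ≠ x ∧ a * x = x * a ∧
      ∀ y ∈ S₀, y = 1 ∨ y = x ∨ y = a ∨ y = x * a := by
  have h4 : Nat.card S₀ = 4 := hK.card_four
  have hsq : ∀ y ∈ S₀, y * y = 1 := by
    intro y hy
    have h := Monoid.pow_exponent_eq_one (⟨y, hy⟩ : ↥S₀)
    rw [hK.exponent_two, pow_two] at h
    exact congrArg Subtype.val h
  have hcomm : ∀ y ∈ S₀, ∀ z ∈ S₀, y * z = z * y := by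
    intro y hy z hz
    have h := mul_comm_of_exponent_two hK.exponent_two (⟨y, hy⟩ : ↥S₀) ⟨z, hz⟩
    exact congrArg Subtype.val h
  have hx1 := ne_one_of_order_two hx
  obtain ⟨a, haS, ha1, hax⟩ : ∃ a ∈ S₀, a ≠ 1 ∧ a ≠ x := by
    by_contra hcon
    push Not at hcon
    have hle : S₀ ≤ Subgroup.zpowers x := by
      intro y hy
      by_cases hy1 : y = 1
      · rw [hy1]; exact one_mem _
      · rw [hcon y hy hy1]; exact Subgroup.mem_zpowers x
    have := Subgroup.card_le_of_le hle
    rw [h4, Nat.card_zpowers, hx] at this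
    omega
  have hao : orderOf a = 2 := by
    have : Fact (Nat.Prime 2) := ⟨Nat.prime_two⟩
    exact orderOf_eq_prime (by rw [pow_two]; exact hsq a haS) ha1
  refine ⟨a, haS, hao, hax, hcomm a haS x hxS, ?_⟩
  intro y hy
  exact mem_of_card_four h4 (one_mem _) hxS haS (mul_mem hxS haS) (Ne.symm hx1) (Ne.symm ha1)
    (by
      intro h
      apply hax
      have h2 : a = x⁻¹ := eq_inv_of_mul_eq_one_right h.symm
      rw [h2, inv_eq_self_of_order_two hx])
    (Ne.symm hax)
    (fun h => ha1 (left_eq_mul.mp h))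
    (fun h => hx1 (right_eq_mul.mp h))
    hy

/-- `C(x) = C(S₀)` when `S₀` is a normal Klein four subgroup of odd index in `C(x)` -/
theorem centralizer_eq {x : G} (hx : orderOf x = 2) {S₀ : Subgroup G}
    (hle : S₀ ≤ Subgroup.centralizer ({x} : Set G)) (hK : IsKleinFour ↥S₀)
    (hodd : ¬ 2 ∣ S₀.relIndex (Subgroup.centralizer ({x} : Set G)))
    (hn : (S₀.subgroupOf (Subgroup.centralizer ({x} : Set G))).Normal) :
    Subgroup.centralizer ({x} : Set G) = Subgroup.centralizer (S₀ : Set G) := by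
  have hxC : x ∈ Subgroup.centralizer ({x} : Set G) := by
    rw [Subgroup.mem_centralizer_singleton_iff]
  have hxS : x ∈ S₀ := mem_of_order_two hodd hn hxC hx
  obtain ⟨a, haS, hao, hax, hcax, hall⟩ := klein_elements hK hxS hx
  have hx1 := ne_one_of_order_two hx
  have ha1 := ne_one_of_order_two hao
  apply le_antisymm
  · intro c hc
    have hcx : c * x = x * c := by
      rw [Subgroup.mem_centralizer_singleton_iff] at hc
      exact hc
    -- `c` normalizes `S₀`
    have hnorm : ∀ y ∈ S₀, c * y * c⁻¹ ∈ S₀ := by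
      intro y hy
      have := hn.conj_mem ⟨y, hle hy⟩ (by rw [Subgroup.mem_subgroupOf]; exact hy) ⟨c, hc⟩
      rw [Subgroup.mem_subgroupOf] at this
      simpa using this
    have hfx : c * x * c⁻¹ = x := by rw [hcx, mul_assoc, mul_inv_cancel, mul_one]
    -- it suffices that `c` fixes `a`
    have key : c * a * c⁻¹ = a := by
      by_contra hne
      have hca : c * a * c⁻¹ = x * a := by
        rcases hall _ (hnorm a haS) with h | h | h | h
        · exact absurd (conj_eq_one_iff.mp h) ha1
        · exfalso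
          apply hax
          have h2 : c * a * c⁻¹ = c * x * c⁻¹ := h.trans hfx.symm
          exact mul_left_cancel (mul_right_cancel h2)
        · exact absurd h hne
        · exact h
      -- the automorphism `f = conj c`
      set f : MulAut G := MulAut.conj c with hf
      have hfa : f a = x * a := by rw [hf, MulAut.conj_apply]; exact hca
      have hfxa : f (x * a) = a := by
        rw [map_mul, hfa, hf, MulAut.conj_apply, hfx, ← mul_assoc, mul_self_of_order_two hx, one_mul]
      have hffa : f (f a) = a := by rw [hfa, hfxa]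
      have hfffa : f (f (f a)) = f a := by rw [hffa]
      obtain ⟨j, hj⟩ : Odd (S₀.relIndex (Subgroup.centralizer ({x} : Set G))) :=
        Nat.not_even_iff_odd.mp (fun he => hodd (even_iff_two_dvd.mp he))
      have hpow := (S₀.subgroupOf (Subgroup.centralizer ({x} : Set G))).pow_index_mem ⟨c, hc⟩
      have hr : (S₀.subgroupOf (Subgroup.centralizer ({x} : Set G))).index =
          S₀.relIndex (Subgroup.centralizer ({x} : Set G)) := rfl
      rw [hr, hj, Subgroup.mem_subgroupOf, SubmonoidClass.coe_pow] at hpow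
      -- `c ^ (2j+1)` lies in `S₀`, hence commutes with `a`
      have hcomm : c ^ (2 * j + 1) * a * (c ^ (2 * j + 1))⁻¹ = a := by
        have h2 := mul_comm_of_exponent_two hK.exponent_two
          (⟨c ^ (2 * j + 1), hpow⟩ : ↥S₀) ⟨a, haS⟩
        have h3 : c ^ (2 * j + 1) * a = a * c ^ (2 * j + 1) := congrArg Subtype.val h2
        rw [h3, mul_assoc, mul_inv_cancel, mul_one]
      have hconj : (f ^ (2 * j + 1)) a = x * a := by
        rw [pow_succ, MulAut.mul_apply, pow_even_apply f hfffa j, hfa]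
      have hconj' : (f ^ (2 * j + 1)) a = c ^ (2 * j + 1) * a * (c ^ (2 * j + 1))⁻¹ := by
        rw [hf, ← map_pow, MulAut.conj_apply]
      rw [hconj', hcomm] at hconj
      exact hx1 (right_eq_mul.mp hconj)
    rw [Subgroup.mem_centralizer_iff]
    intro y hy
    have hya : ∀ y' : G, c * y' * c⁻¹ = y' → y' * c = c * y' := by
      intro y' h
      have := mul_inv_eq_iff_eq_mul.mp h
      exact this.symm
    rcases hall y hy with h | h | h | h
    · rw [h, one_mul, mul_one]
    · rw [h]; exact hcx.symm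
    · rw [h]; exact hya a key
    · rw [h]
      apply hya
      calc c * (x * a) * c⁻¹ = (c * x * c⁻¹) * (c * a * c⁻¹) := by group
        _ = x * a := by rw [hfx, key]
  · intro c hc
    rw [Subgroup.mem_centralizer_iff] at hc
    rw [Subgroup.mem_centralizer_singleton_iff]
    exact (hc x hxS).symm

/-- at most three involutions in `C(x)` -/
theorem involution_count {x : G} {S₀ : Subgroup G} (hK : IsKleinFour ↥S₀)
    (hodd : ¬ 2 ∣ S₀.relIndex (Subgroup.centralizer ({x} : Set G)))
    (hn : (S₀.subgroupOf (Subgroup.centralizer ({x} : Set G))).Normal) :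
    Nat.card {u : ↥(Subgroup.centralizer ({x} : Set G)) // orderOf u = 2} ≤ 3 := by
  classical
  have := Fintype.ofFinite {u : ↥(Subgroup.centralizer ({x} : Set G)) // orderOf u = 2}
  have := Fintype.ofFinite ↥S₀
  let f : Option {u : ↥(Subgroup.centralizer ({x} : Set G)) // orderOf u = 2} → ↥S₀ :=
    fun o => match o with
      | none => 1
      | some u => ⟨u.1.1, mem_of_order_two hodd hn u.1.2 ((Subgroup.orderOf_coe u.1).trans u.2)⟩
  have hf : Function.Injective f := by
    intro o₁ o₂ h
    match o₁, o₂, h with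
    | none, none, _ => rfl
    | none, some u, h =>
      exfalso
      have h1 : (f none).1 = (f (some u)).1 := congrArg Subtype.val h
      have h2 : u.1 = 1 := Subtype.ext h1.symm
      have h3 := u.2
      rw [h2, orderOf_one] at h3
      omega
    | some u, none, h =>
      exfalso
      have h1 : (f (some u)).1 = (f none).1 := congrArg Subtype.val h
      have h2 : u.1 = 1 := Subtype.ext h1
      have h3 := u.2
      rw [h2, orderOf_one] at h3
      omega
    | some u, some v, h =>
      have h1 : (f (some u)).1 = (f (some v)).1 := congrArg Subtype.val h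
      exact congrArg some (Subtype.ext (Subtype.ext h1))
  have hle := Fintype.card_le_of_injective f hf
  rw [Fintype.card_option, ← Nat.card_eq_fintype_card, ← Nat.card_eq_fintype_card,
    hK.card_four] at hle
  omega

end group

section arithmetic

theorem alpha_lt (f₂ f₃ f₄ : ℕ) (ε : ℤ) (hε : ε = 1 ∨ ε = -1) (h2 : 0 < f₂) (h3 : 0 < f₃)
    (h4 : 0 < f₄) (d3 : (4 : ℤ) ∣ (f₃ : ℤ) - ε) (d4 : (4 : ℤ) ∣ (f₄ : ℤ) + 1) :
    ((f₂ : ℚ) * f₃ * f₄) /
      (((f₂ : ℚ) + ((1 : ℤ) : ℚ)) * ((f₃ : ℚ) + (ε : ℚ)) * ((f₄ : ℚ) + ((-1 : ℤ) : ℚ))) < 9 / 4 := by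
  have h4' : 3 ≤ f₄ := by omega
  have ha : (1 : ℚ) ≤ f₂ := by exact_mod_cast h2
  have hb : (1 : ℚ) ≤ f₃ := by exact_mod_cast h3
  have hc : (3 : ℚ) ≤ f₄ := by exact_mod_cast h4'
  rcases hε with rfl | rfl
  · have hpos : (0 : ℚ) < ((f₂ : ℚ) + ((1 : ℤ) : ℚ)) * ((f₃ : ℚ) + ((1 : ℤ) : ℚ)) *
        ((f₄ : ℚ) + ((-1 : ℤ) : ℚ)) := by
      push_cast
      have : (0 : ℚ) < (f₄ : ℚ) + -1 := by linarith
      positivity
    rw [div_lt_iff₀ hpos]
    push_cast
    have e1 : (0 : ℚ) < (f₂ : ℚ) * f₃ := by positivity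
    have e2 : (f₂ : ℚ) * f₃ < ((f₂ : ℚ) + 1) * ((f₃ : ℚ) + 1) := by nlinarith
    have e3 : (f₄ : ℚ) ≤ 3 / 2 * ((f₄ : ℚ) + -1) := by linarith
    have e4 : (0 : ℚ) < (f₄ : ℚ) + -1 := by linarith
    nlinarith [mul_pos e1 e4, mul_pos (sub_pos.mpr e2) e4]
  · have h3' : 3 ≤ f₃ := by omega
    have hb' : (3 : ℚ) ≤ f₃ := by exact_mod_cast h3'
    have e4 : (0 : ℚ) < (f₄ : ℚ) + -1 := by linarith
    have e5 : (0 : ℚ) < (f₃ : ℚ) + -1 := by linarith
    have hpos : (0 : ℚ) < ((f₂ : ℚ) + ((1 : ℤ) : ℚ)) * ((f₃ : ℚ) + ((-1 : ℤ) : ℚ)) *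
        ((f₄ : ℚ) + ((-1 : ℤ) : ℚ)) := by
      push_cast
      positivity
    rw [div_lt_iff₀ hpos]
    push_cast
    have e3 : (f₄ : ℚ) ≤ 3 / 2 * ((f₄ : ℚ) + -1) := by linarith
    have e6 : (f₃ : ℚ) ≤ 3 / 2 * ((f₃ : ℚ) + -1) := by linarith
    have e7 : (f₃ : ℚ) * f₄ ≤ 9 / 4 * (((f₃ : ℚ) + -1) * ((f₄ : ℚ) + -1)) := by
      have := mul_le_mul e6 e3 (by linarith) (by linarith)
      linarith
    have e8 : (0 : ℚ) < ((f₃ : ℚ) + -1) * ((f₄ : ℚ) + -1) := mul_pos e5 e4
    nlinarith

end arithmetic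

/-- Let G be a finite simple group with an involution x such that a Sylow 2-subgroup of C_G(x) is a Klein four-group which is normal in C_G(x). Then G is isomorphic to the alternating group of degree 5 (that is, to PSL(2, 5)). -/
theorem result {G : Type*} [Group G] [Finite G] [IsSimpleGroup G] (x : G) (hx : orderOf x = 2)
    (S₀ : Subgroup G) (hle : S₀ ≤ Subgroup.centralizer ({x} : Set G)) (hK : IsKleinFour ↥S₀)
    (hodd : ¬ 2 ∣ S₀.relIndex (Subgroup.centralizer ({x} : Set G))) (hn : (S₀.subgroupOf (Subgroup.centralizer ({x} : Set G))).Normal) :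
    Nonempty (G ≃* ↥(alternatingGroup (Fin 5))) := by
  classical
  have : Fact (Nat.Prime 2) := ⟨Nat.prime_two⟩
  have h3 := involution_count hK hodd hn
  obtain ⟨⟨S, hSC⟩, hone⟩ := Cfsg.Agent.S3279.result x hx h3
  have hK4 : Nat.card S₀ = 4 := hK.card_four
  have hxC : x ∈ Subgroup.centralizer ({x} : Set G) := by
    rw [Subgroup.mem_centralizer_singleton_iff]
  have hxS : x ∈ S₀ := mem_of_order_two hodd hn hxC hx
  -- `S₀` is a Sylow `2`-subgroup of `G`
  have hp : IsPGroup 2 S₀ := IsPGroup.of_card (n := 2) (by rw [hK4]; norm_num)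
  have hidx : ¬ 2 ∣ S₀.index := by
    rw [← Subgroup.relIndex_mul_index hle]
    intro h
    rcases (Nat.Prime.dvd_mul Nat.prime_two).mp h with h | h
    · exact hodd h
    · exact S.not_dvd_index (h.trans (Subgroup.index_dvd_of_le hSC))
  obtain ⟨P, hPcoe⟩ : ∃ P : Sylow 2 G, (P : Subgroup G) = S₀ := ⟨hp.toSylow hidx, rfl⟩
  have hPK : IsKleinFour (P : Subgroup G) := by rw [hPcoe]; exact hK
  obtain ⟨g₀, hg₀⟩ : ∃ g₀, S₀.index = g₀ := ⟨_, rfl⟩
  have hG : Nat.card G = 4 * g₀ := by rw [← hg₀, ← hK4]; exact (S₀.card_mul_index).symm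
  have hg₀odd : Odd g₀ := by
    rw [← hg₀]
    exact Nat.not_even_iff_odd.mp (fun he => hidx (even_iff_two_dvd.mp he))
  obtain ⟨a, haS, hao, hax, hcax, hall⟩ := klein_elements hK hxS hx
  have hScomm : ∀ y ∈ S₀, ∀ z ∈ S₀, y * z = z * y := by
    intro y hy z hz
    have h := mul_comm_of_exponent_two hK.exponent_two (⟨y, hy⟩ : ↥S₀) ⟨z, hz⟩
    exact congrArg Subtype.val h
  -- `S₀` is not the whole group, and is not normal
  have hnottop : S₀ ≠ ⊤ := by
    intro htop
    apply Cfsg.Agent.S3279.false_of_central_involution hx hao hax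
    intro g
    have hg : g ∈ S₀ := by rw [htop]; exact Subgroup.mem_top g
    exact hScomm g hg x hxS
  have hnotnormal : ¬ S₀.Normal := by
    intro hnor
    rcases hnor.eq_bot_or_eq_top with h | h
    · rw [h, Subgroup.card_bot] at hK4
      omega
    · exact hnottop h
  have hnc : ¬ ∃ N : Subgroup G, N.Normal ∧ Nat.card N = g₀ := by
    rintro ⟨N, hN, hNc⟩
    rcases hN.eq_bot_or_eq_top with h | h
    · rw [h, Subgroup.card_bot] at hNc
      have hG4 : Nat.card G = 4 := by rw [hG, ← hNc]
      exact hnottop (Subgroup.eq_top_of_card_eq S₀ (by rw [hK4, hG4]))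
    · rw [h, Subgroup.card_top, hG] at hNc
      obtain ⟨k, hk⟩ := hg₀odd
      omega
  -- the principal block
  obtain ⟨M, hM⟩ := Cfsg.Agent.S0165.exists_isPModular 2 Nat.prime_two
  obtain ⟨ζ₂, ζ₃, ζ₄, ε, hε, h21, h31, h23, h24, h34, hB, hinv, -, hd3, hd4, -⟩ :=
    Cfsg.Agent.Lib.Helper16_KleinBlock.klein_principal_block M hM P hPK hone
  obtain ⟨hz2, hz3, hz4⟩ := hinv x hx
  have h41 : (ζ₄ : G → ℂ) ≠ fun _ => 1 := by
    intro h
    have := congrFun h x
    rw [hz4] at this
    norm_num at this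
  have hxP : x ∈ (P : Subgroup G) := by rw [hPcoe]; exact hxS
  have hform := Cfsg.Agent.S4479.result M hM g₀ hg₀odd hG hnc P x hxP hx ζ₂ ζ₃ ζ₄ 1 ε (-1) hB
    ⟨h21, h31, h41, h23, h24, h34⟩ ⟨Or.inl rfl, hε, Or.inr rfl⟩
    ⟨by rw [hz2]; norm_num, hz3, by rw [hz4]; norm_num⟩
  rw [centralizer_eq hx hle hK hodd hn, hPcoe] at hform
  -- notation
  set C : Subgroup G := Subgroup.centralizer (S₀ : Set G) with hC
  set N : Subgroup G := Subgroup.normalizer (S₀ : Set G) with hN
  have hCN : C ≤ N := Subgroup.centralizer_le_normalizer _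
  have hSC' : S₀ ≤ C := by
    intro y hy
    rw [hC, Subgroup.mem_centralizer_iff]
    intro z hz
    exact hScomm z hz y hy
  have hcpos : (0 : ℚ) < (Nat.card C : ℚ) := by exact_mod_cast Nat.card_pos
  have hα := alpha_lt (charDegree (ζ₂ : G → ℂ)) (charDegree (ζ₃ : G → ℂ))
    (charDegree (ζ₄ : G → ℂ)) ε hε (Cfsg.Agent.S4479.charDegree_pos ζ₂)
    (Cfsg.Agent.S4479.charDegree_pos ζ₃) (Cfsg.Agent.S4479.charDegree_pos ζ₄) hd3 hd4
  -- the index of `C` is less than 18
  have hCidx : C.index < 18 := by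
    have h1 : (Nat.card G : ℚ) = (Nat.card C : ℚ) * (C.index : ℚ) := by
      exact_mod_cast (C.card_mul_index).symm
    have h2 : (C.index : ℚ) < 18 := by
      have h3 : (Nat.card C : ℚ) * (C.index : ℚ) < (Nat.card C : ℚ) * 18 := by
        rw [← h1, hform]
        have : (Nat.card C : ℚ) ^ 3 / (Nat.card C : ℚ) ^ 2 = Nat.card C := by
          field_simp
        rw [mul_div_assoc, this]
        nlinarith
      exact lt_of_mul_lt_mul_left h3 hcpos.le
    exact_mod_cast h2
  -- the relative index of `C` in `N` is at least 3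
  have hrodd : ¬ 2 ∣ C.relIndex N := by
    intro h
    apply hidx
    exact (h.trans (Subgroup.relIndex_dvd_index_of_le hCN)).trans (Subgroup.index_dvd_of_le hSC')
  have hr1 : C.relIndex N ≠ 1 := by
    intro h
    rw [Subgroup.relIndex_eq_one] at h
    obtain ⟨m, hmN, -, y, hyP, hy⟩ := exists_normalizing hG hg₀odd hnc P
    rw [hPcoe] at hyP
    have hmem : m ∈ N := by
      rw [hN, Subgroup.mem_normalizer_iff_map_conj_eq]
      apply Subgroup.eq_of_le_of_card_ge
      · rintro z ⟨w, hw, rfl⟩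
        have := hmN w (by rw [hPcoe]; exact hw)
        rw [hPcoe] at this
        simpa using this
      · rw [Subgroup.card_map_of_injective (MulAut.conj m).injective]
    have hmC := h hmem
    rw [hC, Subgroup.mem_centralizer_iff] at hmC
    apply hy
    rw [← hmC y hyP, mul_inv_cancel_right]
  have hr3 : 3 ≤ C.relIndex N := by
    have h0 : C.relIndex N ≠ 0 := fun h => hrodd (by rw [h]; exact dvd_zero 2)
    have h2 : C.relIndex N ≠ 2 := fun h => hrodd (by rw [h])
    omega
  have hmulidx : C.relIndex N * N.index = C.index := Subgroup.relIndex_mul_index hCN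
  -- the number of Sylow 2-subgroups
  have hnS : Nat.card (Sylow 2 G) = N.index := by
    rw [P.card_eq_index_normalizer, hN, ← hPcoe]
    rfl
  have hmod := card_sylow_modEq_one 2 G
  have hn5 : N.index ≤ 5 := by nlinarith
  have hcardG : Nat.card G = Nat.card C * (C.relIndex N * N.index) := by
    rw [hmulidx]; exact (C.card_mul_index).symm
  have hC4 : 4 ≤ Nat.card C := by
    rw [← hK4]; exact Subgroup.card_le_of_le hSC'
  have hGge : 12 * N.index ≤ Nat.card G := by
    rw [hcardG]
    nlinarith [Nat.zero_le N.index]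
  -- `N` is not everything
  have hNidx1 : N.index ≠ 1 := by
    intro h
    rw [Subgroup.index_eq_one, hN, Subgroup.normalizer_eq_top_iff] at h
    exact hnotnormal h
  -- the action on the Sylow subgroups is faithful
  have hker : (MulAction.toPermHom G (Sylow 2 G)).ker = ⊥ := by
    rcases (MonoidHom.normal_ker (MulAction.toPermHom G (Sylow 2 G))).eq_bot_or_eq_top with h | h
    · exact h
    · exfalso
      apply hNidx1
      rw [Subgroup.index_eq_one, Subgroup.eq_top_iff']
      intro g
      have hg : g ∈ (MulAction.toPermHom G (Sylow 2 G)).ker := by rw [h]; exact Subgroup.mem_top g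
      rw [MonoidHom.mem_ker] at hg
      have h1 : g • P = P := by
        have := congrArg (fun σ : Equiv.Perm (Sylow 2 G) => σ P) hg
        simpa using this
      have h2 := Sylow.smul_eq_iff_mem_normalizer.mp h1
      rw [hN, ← hPcoe]
      exact h2
  have hinj : Function.Injective (MulAction.toPermHom G (Sylow 2 G)) :=
    (MonoidHom.ker_eq_bot_iff _).mp hker
  have hGle : Nat.card G ≤ (N.index).factorial := by
    have := Nat.card_le_card_of_injective _ hinj
    rwa [Nat.card_perm, hnS] at this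
  -- the number of Sylow subgroups is 5
  have hn5' : N.index = 5 := by
    have h1 : N.index % 2 = 1 := by
      have := hmod
      rw [hnS] at this
      exact this
    have h0 : N.index ≠ 3 := by
      intro h
      rw [h] at hGle hGge
      norm_num [Nat.factorial] at hGle
      omega
    omega
  -- the permutation representation on `Fin 5`
  have := Fintype.ofFinite (Sylow 2 G)
  have e : Sylow 2 G ≃ Fin 5 :=
    Fintype.equivFinOfCardEq (by rw [← Nat.card_eq_fintype_card, hnS, hn5'])
  set ψ : G →* Equiv.Perm (Fin 5) :=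
    (e.permCongrHom.toMonoidHom).comp (MulAction.toPermHom G (Sylow 2 G)) with hψ
  have hψinj : Function.Injective ψ := by
    rw [hψ]
    exact (e.permCongrHom.injective).comp hinj
  have hG60 : 60 ≤ Nat.card G := by rw [hn5'] at hGge; omega
  -- the image lies in the alternating group
  have hsign : ∀ g : G, Equiv.Perm.sign (ψ g) = 1 := by
    rcases (MonoidHom.normal_ker ((Equiv.Perm.sign (α := Fin 5)).comp ψ)).eq_bot_or_eq_top
      with h | h
    · exfalso
      have hinj2 : Function.Injective ((Equiv.Perm.sign (α := Fin 5)).comp ψ) :=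
        (MonoidHom.ker_eq_bot_iff _).mp h
      have := Nat.card_le_card_of_injective _ hinj2
      have h2 : Nat.card ℤˣ = 2 := by
        rw [Nat.card_eq_fintype_card]; rfl
      omega
    · intro g
      have hg : g ∈ ((Equiv.Perm.sign (α := Fin 5)).comp ψ).ker := by
        rw [h]; exact Subgroup.mem_top g
      exact MonoidHom.mem_ker.mp hg
  set ψ' : G →* ↥(alternatingGroup (Fin 5)) :=
    ψ.codRestrict (alternatingGroup (Fin 5)) (fun g => Equiv.Perm.mem_alternatingGroup.mpr (hsign g))
    with hψ'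
  have hψ'inj : Function.Injective ψ' := by
    intro g₁ g₂ h
    apply hψinj
    have := congrArg Subtype.val h
    simpa [hψ'] using this
  have hA5 : Nat.card ↥(alternatingGroup (Fin 5)) = 60 := by
    rw [nat_card_alternatingGroup, Nat.card_fin]
    rfl
  have hbij : Function.Bijective ψ' :=
    hψ'inj.bijective_of_nat_card_le (by rw [hA5]; exact hG60)
  exact ⟨MulEquiv.ofBijective ψ' hbij⟩

end Cfsg.Agent.S3278
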