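import Cfsg.Statements.S1504
import Mathlib.RingTheory.IntegralDomain
-- import your own Cfsg.Agent.* helpers here

set_option autoImplicit false
open Cfsg

namespace Cfsg.Agent.S1504

/-- Sum of the values of a nontrivial linear character is zero. -/
theorem sum_units_hom_eq_zero {W : Type*} [Group W] [Fintype W] (f : W →* ℂˣ) (hf : f ≠ 1) :
    ∑ w : W, ((f w : ℂˣ) : ℂ) = 0 := by
  have h := sum_hom_units_eq_zero ((Units.coeHom ℂ).comp f) (by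
    intro h
    apply hf
    ext w
    have := DFunLike.congr_fun h w
    simpa using this)
  simpa using h

theorem hom_eq_of_mul_inv_eq_one {W : Type*} [Group W] (f g : W →* ℂˣ) (h : f * g⁻¹ = 1) : f = g := by
  ext w
  have := DFunLike.congr_fun h w
  simp only [MonoidHom.mul_apply, MonoidHom.inv_apply, MonoidHom.one_apply] at this
  rw [mul_inv_eq_one.1 this]

theorem hom_eq_one_of_inv_eq_one {W : Type*} [Group W] (g : W →* ℂˣ) (h : g⁻¹ = 1) : g = 1 := by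
  ext w
  have := DFunLike.congr_fun h w
  simp only [MonoidHom.inv_apply, MonoidHom.one_apply] at this
  rw [inv_eq_one.1 this]; rfl

theorem hom_mul_inv_self {W : Type*} [Group W] (g : W →* ℂˣ) : g * g⁻¹ = 1 := by
  ext w
  simp

/-- Two homomorphisms on `W₁ ⊔ W₂` agreeing on `W₁` and on `W₂` are equal. -/
theorem hom_ext_sup {G : Type*} [Group G] (W₁ W₂ : Subgroup G) {A : Type*} [Group A]
    (f g : ↥(W₁ ⊔ W₂) →* A) (h₁ : ∀ w : ↥(W₁ ⊔ W₂), (w : G) ∈ W₁ → f w = g w)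
    (h₂ : ∀ w : ↥(W₁ ⊔ W₂), (w : G) ∈ W₂ → f w = g w) : f = g := by
  have htop : W₁.subgroupOf (W₁ ⊔ W₂) ⊔ W₂.subgroupOf (W₁ ⊔ W₂) = ⊤ := by
    rw [← Subgroup.subgroupOf_sup le_sup_left le_sup_right, Subgroup.subgroupOf_self]
  have hle : W₁.subgroupOf (W₁ ⊔ W₂) ⊔ W₂.subgroupOf (W₁ ⊔ W₂) ≤ f.eqLocus g := by
    rw [sup_le_iff]
    exact ⟨fun w hw => h₁ w (Subgroup.mem_subgroupOf.1 hw),
      fun w hw => h₂ w (Subgroup.mem_subgroupOf.1 hw)⟩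
  rw [htop] at hle
  ext w
  exact hle (Subgroup.mem_top w)

/-- Let W₁, W₂ be subgroups of a finite group with W₁ ⊓ W₂ = ⊥ whose elements commute, and W = W₁ ⊔ W₂. For linear characters φ, ψ of W with φ trivial on W₂ and ψ trivial on W₁, the function (1 − φ)(1 − ψ) vanishes on W₁ ∪ W₂; and the family of these functions, indexed by pairs (φ, ψ) with φ ≠ 1 ≠ ψ, is linearly independent over ℂ. -/
theorem result {G : Type*} [Group G] [Finite G] (W₁ W₂ : Subgroup G) (hdisj : W₁ ⊓ W₂ = ⊥) (hcomm : ∀ a ∈ W₁, ∀ b ∈ W₂, a * b = b * a) : (∀ φ ψ : ↥(W₁ ⊔ W₂) →* ℂˣ, (∀ w : ↥(W₁ ⊔ W₂), (w : G) ∈ W₂ → φ w = 1) → (∀ w : ↥(W₁ ⊔ W₂), (w : G) ∈ W₁ → ψ w = 1) → ∀ w : ↥(W₁ ⊔ W₂), ((w : G) ∈ W₁ ∨ (w : G) ∈ W₂) → (1 - (φ w : ℂ) - (ψ w : ℂ) + (φ w : ℂ) * (ψ w : ℂ)) = 0) ∧ LinearIndependent ℂ (fun p : {p : (↥(W₁ ⊔ W₂) →* ℂˣ) × (↥(W₁ ⊔ W₂) →* ℂˣ) // p.1 ≠ 1 ∧ p.2 ≠ 1 ∧ (∀ w : ↥(W₁ ⊔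 W₂), (w : G) ∈ W₂ → p.1 w = 1) ∧ (∀ w : ↥(W₁ ⊔ W₂), (w : G) ∈ W₁ → p.2 w = 1)} => fun w : ↥(W₁ ⊔ W₂) => 1 - (p.1.1 w : ℂ) - (p.1.2 w : ℂ) + (p.1.1 w : ℂ) * (p.1.2 w : ℂ)) := by
  constructor
  · intro φ ψ hφ hψ w hw
    rcases hw with hw | hw
    · rw [hψ w hw]; simp
    · rw [hφ w hw]; simp
  · classical
    have : Fintype ↥(W₁ ⊔ W₂) := Fintype.ofFinite _
    rw [linearIndependent_iff']
    intro s c hsum j hj
    -- distinctness facts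
    have hF1 : ∀ p q : {p : (↥(W₁ ⊔ W₂) →* ℂˣ) × (↥(W₁ ⊔ W₂) →* ℂˣ) // p.1 ≠ 1 ∧ p.2 ≠ 1 ∧
        (∀ w : ↥(W₁ ⊔ W₂), (w : G) ∈ W₂ → p.1 w = 1) ∧
        (∀ w : ↥(W₁ ⊔ W₂), (w : G) ∈ W₁ → p.2 w = 1)},
        p.1.1 * p.1.2 = q.1.1 * q.1.2 → p = q := by
      intro p q h
      have hw : ∀ w, p.1.1 w * p.1.2 w = q.1.1 w * q.1.2 w := fun w => DFunLike.congr_fun h w
      apply Subtype.ext
      apply Prod.ext
      · apply hom_ext_sup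
        · intro w hw1
          have := hw w
          rwa [p.2.2.2.2 w hw1, q.2.2.2.2 w hw1, mul_one, mul_one] at this
        · intro w hw2
          rw [p.2.2.2.1 w hw2, q.2.2.2.1 w hw2]
      · apply hom_ext_sup
        · intro w hw1
          rw [p.2.2.2.2 w hw1, q.2.2.2.2 w hw1]
        · intro w hw2
          have := hw w
          rwa [p.2.2.2.1 w hw2, q.2.2.2.1 w hw2, one_mul, one_mul] at this
    have hF2 : ∀ q : {p : (↥(W₁ ⊔ W₂) →* ℂˣ) × (↥(W₁ ⊔ W₂) →* ℂˣ) // p.1 ≠ 1 ∧ p.2 ≠ 1 ∧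
        (∀ w : ↥(W₁ ⊔ W₂), (w : G) ∈ W₂ → p.1 w = 1) ∧
        (∀ w : ↥(W₁ ⊔ W₂), (w : G) ∈ W₁ → p.2 w = 1)},
        ∀ f : ↥(W₁ ⊔ W₂) →* ℂˣ,
        ((∀ w : ↥(W₁ ⊔ W₂), (w : G) ∈ W₂ → f w = 1) ∨ (∀ w : ↥(W₁ ⊔ W₂), (w : G) ∈ W₁ → f w = 1)) →
        q.1.1 * q.1.2 ≠ f := by
      intro q f hf h
      have hw : ∀ w, q.1.1 w * q.1.2 w = f w := fun w => DFunLike.congr_fun h w
      rcases hf with hf | hf
      · -- `f` trivial on `W₂`: then `q.2 = 1`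
        apply q.2.2.1
        apply hom_ext_sup
        · intro w hw1
          rw [q.2.2.2.2 w hw1]; rfl
        · intro w hw2
          have := hw w
          rw [q.2.2.2.1 w hw2, one_mul, hf w hw2] at this
          rw [this]; rfl
      · -- `f` trivial on `W₁`: then `q.1 = 1`
        apply q.2.1
        apply hom_ext_sup
        · intro w hw1
          have := hw w
          rw [q.2.2.2.2 w hw1, mul_one, hf w hw1] at this
          rw [this]; rfl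
        · intro w hw2
          rw [q.2.2.2.1 w hw2]; rfl
    -- evaluate the relation against the inverse of `χ_j`
    have hpt : ∀ w : ↥(W₁ ⊔ W₂), ∑ i ∈ s, c i *
        (1 - (i.1.1 w : ℂ) - (i.1.2 w : ℂ) + (i.1.1 w : ℂ) * (i.1.2 w : ℂ)) = 0 := by
      intro w
      have := congrFun hsum w
      simpa [Finset.sum_apply] using this
    have htot : ∑ w : ↥(W₁ ⊔ W₂), (((j.1.1 * j.1.2)⁻¹ w : ℂˣ) : ℂ) * ∑ i ∈ s, c i *
        (1 - (i.1.1 w : ℂ) - (i.1.2 w : ℂ) + (i.1.1 w : ℂ) * (i.1.2 w : ℂ)) = 0 := by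
      apply Finset.sum_eq_zero
      intro w _
      rw [hpt w, mul_zero]
    have hrew : ∀ w : ↥(W₁ ⊔ W₂), (((j.1.1 * j.1.2)⁻¹ w : ℂˣ) : ℂ) * ∑ i ∈ s, c i *
        (1 - (i.1.1 w : ℂ) - (i.1.2 w : ℂ) + (i.1.1 w : ℂ) * (i.1.2 w : ℂ)) =
        ∑ i ∈ s, c i * ((((j.1.1 * j.1.2)⁻¹ w : ℂˣ) : ℂ)
          - (((i.1.1 * (j.1.1 * j.1.2)⁻¹) w : ℂˣ) : ℂ)
          - (((i.1.2 * (j.1.1 * j.1.2)⁻¹) w : ℂˣ) : ℂ)
          + ((((i.1.1 * i.1.2) * (j.1.1 * j.1.2)⁻¹) w : ℂˣ) : ℂ)) := by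
      intro w
      rw [Finset.mul_sum]
      apply Finset.sum_congr rfl
      intro i _
      simp only [MonoidHom.mul_apply, Units.val_mul]
      ring
    simp_rw [hrew] at htot
    rw [Finset.sum_comm] at htot
    simp_rw [← Finset.mul_sum, Finset.sum_add_distrib, Finset.sum_sub_distrib] at htot
    -- evaluate the character sums
    have hS1 : ∑ w : ↥(W₁ ⊔ W₂), (((j.1.1 * j.1.2)⁻¹ w : ℂˣ) : ℂ) = 0 := by
      apply sum_units_hom_eq_zero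
      intro h
      exact hF2 j 1 (Or.inl (fun _ _ => rfl)) (hom_eq_one_of_inv_eq_one _ h)
    have hS2 : ∀ i ∈ s, ∑ w : ↥(W₁ ⊔ W₂), (((i.1.1 * (j.1.1 * j.1.2)⁻¹) w : ℂˣ) : ℂ) = 0 := by
      intro i _
      apply sum_units_hom_eq_zero
      intro h
      exact hF2 j i.1.1 (Or.inl i.2.2.2.1) (hom_eq_of_mul_inv_eq_one _ _ h).symm
    have hS3 : ∀ i ∈ s, ∑ w : ↥(W₁ ⊔ W₂), (((i.1.2 * (j.1.1 * j.1.2)⁻¹) w : ℂˣ) : ℂ) = 0 := by
      intro i _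
      apply sum_units_hom_eq_zero
      intro h
      exact hF2 j i.1.2 (Or.inr i.2.2.2.2) (hom_eq_of_mul_inv_eq_one _ _ h).symm
    have hS4 : ∀ i ∈ s, ∑ w : ↥(W₁ ⊔ W₂),
        ((((i.1.1 * i.1.2) * (j.1.1 * j.1.2)⁻¹) w : ℂˣ) : ℂ) =
          if i = j then (Fintype.card ↥(W₁ ⊔ W₂) : ℂ) else 0 := by
      intro i _
      split_ifs with hij
      · subst hij
        rw [hom_mul_inv_self]
        simp
      · apply sum_units_hom_eq_zero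
        intro h
        exact hij (hF1 i j (hom_eq_of_mul_inv_eq_one _ _ h))
    rw [Finset.sum_congr rfl (fun i hi => by rw [hS1, hS2 i hi, hS3 i hi, hS4 i hi])] at htot
    simp only [sub_zero, zero_add, mul_ite, mul_zero] at htot
    rw [Finset.sum_ite_eq' s j, if_pos hj] at htot
    have hcard : (Fintype.card ↥(W₁ ⊔ W₂) : ℂ) ≠ 0 := by
      exact_mod_cast Fintype.card_ne_zero
    exact (mul_eq_zero.1 htot).resolve_right hcard

end Cfsg.Agent.S1504
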