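import Cfsg.Statements.S0912
import Cfsg.Agent.Lib.Helper78_CentralNil
import Cfsg.Agent.Lib.Helper1_Cores

set_option autoImplicit false
open Cfsg

namespace Cfsg.Agent.S0912

/-- Let B be a block of the finite group G relative to a maximal ideal M of the algebraic integers containing the prime p. Every defect group of B contains the largest normal p-subgroup O_p(G). -/
theorem result {G : Type*} [Group G] [Finite G] (p : ℕ) [Fact p.Prime] (M : Ideal Cfsg.AlgInt) (hM : Cfsg.IsPModular p M) (B : Set (Cfsg.IrrCharacter G)) (hB : Cfsg.IsPBlock M B) (D : Subgroup G) (hD : Cfsg.IsDefectGroup p M B D) : Cfsg.pCore p G ≤ D := by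
  classical
  have hMp := Cfsg.Agent.Lib.Helper78_LocalRing.isPrime_of_isPModular hM
  have hQn : (Cfsg.pCore p G).Normal := Cfsg.Agent.Lib.Helper1_Cores.pCore_normal p
  have hQ : IsPGroup p (Cfsg.pCore p G) := Cfsg.Agent.Lib.Helper1_Cores.pCore_isPGroup p
  obtain ⟨g, ⟨-, -, hω⟩, P, rfl⟩ := hD
  obtain ⟨χ, hχ⟩ := Cfsg.Agent.Lib.Helper78_LocalRing.isPBlock_nonempty hMp hB
  -- some conjugate of g centralizes Q
  have hex : ∃ x : G, IsConj g x ∧ x ∈ Subgroup.centralizer (Cfsg.pCore p G : Set G) := by
    by_contra hcon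
    push Not at hcon
    exact hω χ hχ (Cfsg.Agent.Lib.Helper78_CentralNil.memLocalIdeal_centralChar_of_disjoint hM
      (Cfsg.pCore p G) hQ χ.2 g hcon)
  obtain ⟨x, hgx, hx⟩ := hex
  -- hence g centralizes Q (the centralizer of a normal subgroup is normal)
  have hg : g ∈ Subgroup.centralizer (Cfsg.pCore p G : Set G) := by
    obtain ⟨c, hc⟩ := isConj_iff.1 hgx
    have hn : (Subgroup.centralizer (Cfsg.pCore p G : Set G)).Normal := inferInstance
    have : g = c⁻¹ * x * c⁻¹⁻¹ := by rw [← hc]; group
    rw [this]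
    exact hn.conj_mem x hx c⁻¹
  have hQC : Cfsg.pCore p G ≤ Subgroup.centralizer ({g} : Set G) := by
    intro q hq
    rw [Subgroup.mem_centralizer_iff]
    intro h hh
    rw [Set.mem_singleton_iff] at hh
    subst hh
    exact (Subgroup.mem_centralizer_iff.1 hg q hq).symm
  have hsub : (Cfsg.pCore p G).subgroupOf (Subgroup.centralizer ({g} : Set G)) ≤
      (P : Subgroup (Subgroup.centralizer ({g} : Set G))) := by
    have hpg : IsPGroup p ((Cfsg.pCore p G).subgroupOf (Subgroup.centralizer ({g} : Set G))) :=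
      hQ.comap_subtype
    exact hpg.le_sylow_of_normal P
  have := Subgroup.map_mono (f := (Subgroup.centralizer ({g} : Set G)).subtype) hsub
  rwa [Subgroup.map_subgroupOf_eq_of_le hQC] at this

end Cfsg.Agent.S0912
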