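import Cfsg.Statements.S0934
import Cfsg.Agent.Lib.Helper78_CharFacts
import Cfsg.Agent.Lib.Helper78_Defect

set_option autoImplicit false
open Cfsg

namespace Cfsg.Agent.S0934

open Cfsg.Agent.Lib.Helper78_LocalRing Cfsg.Agent.Lib.Helper78_CentralChar
  Cfsg.Agent.Lib.Helper78_Osima Cfsg.Agent.Lib.Helper78_CharFacts

open scoped ComplexConjugate

/-- Sum over a subgroup of `f h * ξ h / ξ 1`, grouped by the classes of the big group. -/
theorem sum_subgroup_eq_sum_classes {G : Type*} [Group G] [Fintype G] (H : Subgroup G) [Fintype H]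
    [Fintype (ConjClasses G)] (ξ : H → ℂ) {f : G → ℂ} (hf : IsClassFunction G f) :
    ∑ h : H, f (h : G) * (ξ h / ξ 1) =
      ∑ c : ConjClasses G, f c.out * inducedCentralChar H ξ c.out := by
  classical
  rw [← Finset.sum_fiberwise Finset.univ (fun h : H => ConjClasses.mk (h : G))
    (fun h : H => f (h : G) * (ξ h / ξ 1))]
  refine Finset.sum_congr rfl fun c _ => ?_
  unfold inducedCentralChar
  rw [finsum_mem_def, finsum_eq_sum_of_fintype, Finset.mul_sum, Finset.sum_filter]
  refine Finset.sum_congr rfl fun h _ => ?_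
  have hc : ConjClasses.mk (h : G) = c ↔ IsConj c.out (h : G) := by
    constructor
    · intro h1
      rw [← ConjClasses.mk_eq_mk_iff_isConj, ← h1]
      exact Quotient.out_eq _
    · intro h1
      rw [← ConjClasses.mk_eq_mk_iff_isConj] at h1
      rw [← h1]
      exact Quotient.out_eq _
  simp only [Set.indicator_apply, Set.mem_ofPred_eq, hc]
  split_ifs with h1
  · obtain ⟨x, hx⟩ := isConj_iff.1 h1
    rw [← hx, hf]
  · rw [mul_zero]

/-- Let H be a subgroup of the finite group G and fix a maximal ideal M of the algebraic integers containing the prime p. If the block b of H induces the block B of G and ξ ∈ b, then there is χ ∈ B whose restriction to H has nonzero inner product with ξ. -/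
theorem result {G : Type*} [Group G] [Fintype G] (p : ℕ) [Fact p.Prime] (M : Ideal Cfsg.AlgInt) (hM : Cfsg.IsPModular p M) (H : Subgroup G) [Fintype H] (b : Set (Cfsg.IrrCharacter H)) (B : Set (Cfsg.IrrCharacter G)) (hind : Cfsg.IsInducedBlock M H b B) (ξ : Cfsg.IrrCharacter H) (hξ : ξ ∈ b) : ∃ χ ∈ B, Cfsg.classInner (fun h : H => (χ : G → ℂ) h) (ξ : H → ℂ) ≠ 0 := by
  classical
  have := Fintype.ofFinite (ConjClasses G)
  have hMp := isPrime_of_isPModular hM
  have hcG := charFacts (G := G)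
  have := hcG.finite
  have := Fintype.ofFinite (Cfsg.IrrCharacter G)
  obtain ⟨hb, hB, hcong⟩ := hind
  obtain ⟨χ₀, hχ₀⟩ := isPBlock_nonempty hMp hB
  have hec := blockCoeff_isClassFunction B
  have heR : ∀ g, Cfsg.MemLocalRing M (Cfsg.blockCoeff B g) := osima_block hcG hMp hB
  by_contra hcon
  push Not at hcon
  -- (1) the sum of `e_B * ξ` over `H` vanishes
  have h1 : ∑ h : H, Cfsg.blockCoeff B (h : G) * ((ξ : H → ℂ) h / (ξ : H → ℂ) 1) = 0 := by
    have h2 : ∀ χ : Cfsg.IrrCharacter G, χ ∈ B →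
        ∑ h : H, conj ((χ : G → ℂ) (h : G)) * (ξ : H → ℂ) h = 0 := by
      intro χ hχ
      have h3 := hcon χ hχ
      unfold Cfsg.classInner at h3
      have hH : (Nat.card H : ℂ)⁻¹ ≠ 0 := by
        apply inv_ne_zero
        exact_mod_cast (Nat.card_pos (α := H)).ne'
      have h4 : ∑ h : H, (χ : G → ℂ) (h : G) * conj ((ξ : H → ℂ) h) = 0 := by
        rcases mul_eq_zero.1 h3 with h3 | h3
        · exact absurd h3 hH
        · exact h3
      have h5 : ∑ h : H, conj ((χ : G → ℂ) (h : G)) * (ξ : H → ℂ) h =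
          conj (∑ h : H, (χ : G → ℂ) (h : G) * conj ((ξ : H → ℂ) h)) := by
        rw [map_sum]
        refine Finset.sum_congr rfl fun h _ => ?_
        rw [map_mul, Complex.conj_conj]
      rw [h5, h4, map_zero]
    simp_rw [blockCoeff_eq_sum B, Finset.mul_sum, Finset.sum_mul]
    rw [Finset.sum_comm]
    refine Finset.sum_eq_zero fun χ _ => ?_
    by_cases hχ : χ ∈ B
    · simp only [Set.indicator_of_mem hχ]
      have h6 : ∀ h : H, (Nat.card G : ℂ)⁻¹ * ((χ : G → ℂ) 1 * conj ((χ : G → ℂ) (h : G))) *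
          ((ξ : H → ℂ) h / (ξ : H → ℂ) 1) = (Nat.card G : ℂ)⁻¹ * (χ : G → ℂ) 1 / (ξ : H → ℂ) 1 *
          (conj ((χ : G → ℂ) (h : G)) * (ξ : H → ℂ) h) := fun h => by ring
      simp_rw [h6]
      rw [← Finset.mul_sum, h2 χ hχ, mul_zero]
    · simp only [Set.indicator_of_notMem hχ, mul_zero, zero_mul, Finset.sum_const_zero]
  -- (2) but it is congruent to `1`
  rw [sum_subgroup_eq_sum_classes H (ξ : H → ℂ) hec] at h1
  have h7 : Cfsg.Agent.Lib.Helper78_Osima.omega (χ₀ : G → ℂ) (Cfsg.blockCoeff B) = 1 := by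
    rw [omega_blockCoeff hcG, Set.indicator_of_mem hχ₀]
  rw [omega_eq_sum_conjClasses (isIrrCharacter_isClassFunction χ₀.2) hec] at h7
  have h8 : Cfsg.MemLocalIdeal M
      (∑ c : ConjClasses G, Cfsg.blockCoeff B c.out *
          Cfsg.inducedCentralChar H (ξ : H → ℂ) c.out -
        ∑ c : ConjClasses G, Cfsg.blockCoeff B c.out *
          Cfsg.centralChar (χ₀ : G → ℂ) c.out) := by
    rw [← Finset.sum_sub_distrib]
    refine memLocalIdeal_sum hMp _ _ fun c _ => ?_
    rw [← mul_sub]
    exact memLocalIdeal_mul_left hMp (heR _) (hcong ξ hξ χ₀ hχ₀ c.out)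
  rw [h1, h7, zero_sub] at h8
  have h9 := memLocalIdeal_neg h8
  rw [neg_neg] at h9
  exact not_memLocalIdeal_one hMp h9

end Cfsg.Agent.S0934
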