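import Cfsg.Statements.S0971
import Cfsg.Agent.Lib.Helper78_BrauerMap
import Cfsg.Agent.Lib.Helper78_Defect
import Cfsg.Agent.S0963

set_option autoImplicit false
open Cfsg

namespace Cfsg.Agent.S0971

/-- Let Q be a normal p-subgroup of the finite group G, let N = Q ⊔ C_G(Q) (a normal subgroup) and let b be a block of N relative to a maximal ideal M of the algebraic integers containing p. Then b induces some block of G, and every block B of G containing a character whose restriction to N has a constituent in b is induced by b. -/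
theorem result {G : Type*} [Group G] [Fintype G] (p : ℕ) [Fact p.Prime] (M : Ideal Cfsg.AlgInt) (hM : Cfsg.IsPModular p M) (Q : Subgroup G) [Q.Normal] (hQ : IsPGroup p Q) [Fintype ↥(Q ⊔ Subgroup.centralizer (Q : Set G))] (b : Set (Cfsg.IrrCharacter ↥(Q ⊔ Subgroup.centralizer (Q : Set G)))) (hb : Cfsg.IsPBlock M b) : Cfsg.InducedBlockDefined M (Q ⊔ Subgroup.centralizer (Q : Set G)) b ∧ ∀ B : Set (Cfsg.IrrCharacter G), Cfsg.IsPBlock M B → (∃ χ ∈ B, ∃ θ ∈ b, Cfsg.classInner (fun n : ↥(Q ⊔ Subgroup.centralizer (Q : Set G)) => (χ : G → ℂ) n) (θ : ↥(Q ⊔ Subgroup.centralizer (Q : Set G)) → ℂ) ≠ 0) → Cfsg.IsInducedBlock M (Q ⊔ Subgroup.centralizer (Q : Set G)) b B := by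
  classical
  have hMp := Cfsg.Agent.Lib.Helper78_LocalRing.isPrime_of_isPModular hM
  have hQN : Q ≤ Q ⊔ Subgroup.centralizer (Q : Set G) := le_sup_left
  have hCN : Subgroup.centralizer (Q : Set G) ≤ Q ⊔ Subgroup.centralizer (Q : Set G) :=
    le_sup_right
  have hNG : Q ⊔ Subgroup.centralizer (Q : Set G) ≤ Subgroup.normalizer (Q : Set G) := by
    rw [Subgroup.normalizer_eq_top]
    exact le_top
  have hCn : (Subgroup.centralizer (Q : Set G)).Normal := inferInstance
  have hNn : (Q ⊔ Subgroup.centralizer (Q : Set G)).Normal := inferInstance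
  refine ⟨Cfsg.Agent.Lib.Helper78_BrauerMap.inducedBlockDefined hM hQ hQN hCN hNG hb, ?_⟩
  rintro B hB ⟨χ, hχ, θ, hθ, hne⟩
  have hS := (Cfsg.Agent.S0963.result (Q ⊔ Subgroup.centralizer (Q : Set G)) χ θ).1 hne
  refine ⟨hb, hB, fun ξ hξ χ' hχ' g => ?_⟩
  by_cases hg : g ∈ Q ⊔ Subgroup.centralizer (Q : Set G)
  · -- `g ∈ N`
    have h1 : Cfsg.MemLocalIdeal M
        (Cfsg.inducedCentralChar (Q ⊔ Subgroup.centralizer (Q : Set G)) (ξ : _ → ℂ) g -
          Cfsg.inducedCentralChar (Q ⊔ Subgroup.centralizer (Q : Set G)) (θ : _ → ℂ) g) := by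
      have := Fintype.ofFinite (ConjClasses ↥(Q ⊔ Subgroup.centralizer (Q : Set G)))
      rw [Cfsg.Agent.Lib.Helper78_Defect.inducedCentralChar_eq_sum _
          (Cfsg.Agent.Lib.Helper78_CentralChar.isIrrCharacter_isClassFunction ξ.2) g,
        Cfsg.Agent.Lib.Helper78_Defect.inducedCentralChar_eq_sum _
          (Cfsg.Agent.Lib.Helper78_CentralChar.isIrrCharacter_isClassFunction θ.2) g,
        ← Finset.sum_sub_distrib]
      refine Cfsg.Agent.Lib.Helper78_LocalRing.memLocalIdeal_sum hMp _ _ fun c _ => ?_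
      split_ifs
      · exact Cfsg.Agent.Lib.Helper78_LocalRing.isPBlock_sameBlock hMp hb hξ hθ c.out
      · rw [sub_zero]
        exact Cfsg.Agent.Lib.Helper78_LocalRing.memLocalIdeal_zero hMp
    have h2 : Cfsg.inducedCentralChar (Q ⊔ Subgroup.centralizer (Q : Set G)) (θ : _ → ℂ) g =
        Cfsg.centralChar (χ : G → ℂ) g := (hS ⟨g, hg⟩).symm
    have h3 : Cfsg.MemLocalIdeal M (Cfsg.centralChar (χ : G → ℂ) g -
        Cfsg.centralChar (χ' : G → ℂ) g) :=
      Cfsg.Agent.Lib.Helper78_LocalRing.isPBlock_sameBlock hMp hB hχ hχ' g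
    have h4 := Cfsg.Agent.Lib.Helper78_LocalRing.memLocalIdeal_add hMp h1 h3
    rw [h2] at h4
    rwa [sub_add_sub_cancel] at h4
  · -- `g ∉ N`
    have h1 : Cfsg.inducedCentralChar (Q ⊔ Subgroup.centralizer (Q : Set G)) (ξ : _ → ℂ) g = 0 := by
      unfold Cfsg.inducedCentralChar
      have hempty : {h : ↥(Q ⊔ Subgroup.centralizer (Q : Set G)) | IsConj g (h : G)} = ∅ := by
        ext h
        simp only [Set.mem_ofPred_eq, Set.mem_empty_iff_false, iff_false]
        intro hc
        apply hg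
        obtain ⟨c, hc⟩ := isConj_iff.1 hc
        have : g = c⁻¹ * (h : G) * c⁻¹⁻¹ := by rw [← hc]; group
        rw [this]
        exact hNn.conj_mem _ h.2 _
      rw [hempty]
      exact finsum_mem_empty
    rw [h1, zero_sub]
    refine Cfsg.Agent.Lib.Helper78_LocalRing.memLocalIdeal_neg ?_
    refine Cfsg.Agent.Lib.Helper78_CentralNil.memLocalIdeal_centralChar_of_disjoint hM Q hQ χ'.2 g ?_
    intro x hx hxC
    apply hg
    obtain ⟨c, hc⟩ := isConj_iff.1 hx
    have : g = c⁻¹ * x * c⁻¹⁻¹ := by rw [← hc]; group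
    rw [this]
    exact hNn.conj_mem _ (hCN hxC) _

end Cfsg.Agent.S0971
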