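import Cfsg.Statements.S4106

set_option autoImplicit false
open Cfsg

namespace Cfsg.Agent.S4106

universe u

/-- `x` is an `s`-element: every prime dividing its order lies in `s`. -/
def IsPi (s : Finset ℕ) {G : Type*} [Monoid G] (x : G) : Prop :=
  ∀ q : ℕ, q.Prime → q ∣ orderOf x → q ∈ s

/-- number of commuting pairs whose first entry is an `s`-element -/
noncomputable def NPairs (s : Finset ℕ) (G : Type*) [Group G] : ℕ :=
  Nat.card {p : G × G // IsPi s p.1 ∧ Commute p.1 p.2}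

/-- decomposition of an element of finite order into commuting `p`- and `p'`-parts, both powers
of the element -/
theorem exists_decomp {X : Type*} [Group X] (p : ℕ) (hpp : p.Prime) (g : X) (hg : IsOfFinOrder g) :
    ∃ u y : X, u * y = g ∧ u ∈ Subgroup.zpowers g ∧ y ∈ Subgroup.zpowers g ∧
    (∃ k : ℕ, u ^ (p ^ k) = 1) ∧ (orderOf y).Coprime p := by
  have hn : orderOf g ≠ 0 := (orderOf_pos_iff.mpr hg).ne'
  obtain ⟨k, m, hm, hnm⟩ := Nat.exists_eq_pow_mul_and_not_dvd hn p hpp.ne_one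
  have hcop : Nat.Coprime (p ^ k) m :=
    Nat.Coprime.pow_left _ ((Nat.Prime.coprime_iff_not_dvd hpp).mpr hm)
  have hb : (Nat.gcd (p ^ k) m : ℤ) = (p ^ k : ℕ) * Nat.gcdA (p ^ k) m + m * Nat.gcdB (p ^ k) m :=
    Nat.gcd_eq_gcd_ab _ _
  rw [hcop] at hb
  set s := Nat.gcdA (p ^ k) m
  set t := Nat.gcdB (p ^ k) m
  refine ⟨g ^ ((m : ℤ) * t), g ^ (((p ^ k : ℕ) : ℤ) * s), ?_, ⟨_, rfl⟩, ⟨_, rfl⟩, ⟨k, ?_⟩, ?_⟩
  · rw [← zpow_add, add_comm, ← hb]; simp
  · rw [← zpow_natCast, ← zpow_mul]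
    have : (m : ℤ) * t * ((p ^ k : ℕ) : ℤ) = ((orderOf g : ℕ) : ℤ) * t := by
      rw [hnm]; push_cast; ring
    rw [this, zpow_mul, zpow_natCast, pow_orderOf_eq_one, one_zpow]
  · have h1 : (g ^ (((p ^ k : ℕ) : ℤ) * s)) ^ m = 1 := by
      rw [← zpow_natCast, ← zpow_mul]
      have : ((p ^ k : ℕ) : ℤ) * s * (m : ℤ) = ((orderOf g : ℕ) : ℤ) * s := by
        rw [hnm]; push_cast; ring
      rw [this, zpow_mul, zpow_natCast, pow_orderOf_eq_one, one_zpow]
    have h2 : orderOf (g ^ (((p ^ k : ℕ) : ℤ) * s)) ∣ m := orderOf_dvd_of_pow_eq_one h1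
    exact Nat.Coprime.coprime_dvd_left h2 ((Nat.Prime.coprime_iff_not_dvd hpp).mpr hm).symm

/-- (I-b): commuting pairs with first entry a `p`-element -/
theorem card_ppairs_le {G : Type*} [Group G] [Finite G] (p : ℕ) [hp : Fact p.Prime] :
    Nat.card {q : G × G // (∃ k : ℕ, q.1 ^ (p ^ k) = 1) ∧ Commute q.1 q.2} ≤
      p ^ (Nat.card G).factorization p * Nat.card G := by
  classical
  obtain ⟨P⟩ : Nonempty (Sylow p G) := inferInstance
  -- every `p`-element is conjugate into `P`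
  have hconj : ∀ u : G, (∃ k : ℕ, u ^ (p ^ k) = 1) → ∃ t : G, t * u * t⁻¹ ∈ (P : Subgroup G) := by
    rintro u ⟨k, hk⟩
    have hup : IsPGroup p (Subgroup.zpowers u) := by
      rw [IsPGroup.iff_orderOf]
      rintro ⟨w, hw⟩
      obtain ⟨j, rfl⟩ := Subgroup.mem_zpowers_iff.mp hw
      have h1 : (u ^ j) ^ (p ^ k) = 1 := by
        rw [← zpow_natCast, ← zpow_mul, mul_comm, zpow_mul, zpow_natCast, hk, one_zpow]
      have h2 : orderOf (⟨u ^ j, hw⟩ : Subgroup.zpowers u) ∣ p ^ k := by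
        apply orderOf_dvd_of_pow_eq_one
        exact Subtype.ext h1
      obtain ⟨i, -, hi⟩ := (Nat.dvd_prime_pow hp.out).mp h2
      exact ⟨i, hi⟩
    obtain ⟨Q, hQ⟩ := hup.exists_le_sylow
    obtain ⟨c, hc⟩ := MulAction.exists_smul_eq G Q P
    refine ⟨c, ?_⟩
    rw [← hc, Sylow.coe_subgroup_smul, Subgroup.mem_pointwise_smul_iff_inv_smul_mem,
      MulAut.smul_def, ← map_inv, MulAut.conj_apply]
    have : c⁻¹ * (c * u * c⁻¹) * c⁻¹⁻¹ = u := by group
    rw [this]
    exact hQ (Subgroup.mem_zpowers u)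
  choose! t ht using hconj
  have hcard : Nat.card (↥(P : Subgroup G) × G) = p ^ (Nat.card G).factorization p * Nat.card G := by
    rw [Nat.card_prod, Sylow.card_eq_multiplicity]
  rw [← hcard]
  refine Nat.card_le_card_of_injective
    (fun q => ((⟨t q.1.1 * q.1.1 * (t q.1.1)⁻¹, ht _ q.2.1⟩ : ↥(P : Subgroup G)), t q.1.1 * q.1.2)) ?_
  rintro ⟨⟨u, g⟩, hu, hug⟩ ⟨⟨u', g'⟩, hu', hug'⟩ heq
  simp only [Prod.mk.injEq, Subtype.mk.injEq] at heq
  obtain ⟨h1, h2⟩ := heq
  have hu_eq : u = u' := by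
    have e1 : u = (t u * g)⁻¹ * (t u * u * (t u)⁻¹) * (t u * g) := by
      have : (t u * g)⁻¹ * (t u * u * (t u)⁻¹) * (t u * g) = g⁻¹ * u * g := by group
      have hc : u * g = g * u := hug
      rw [this, mul_assoc, hc, inv_mul_cancel_left]
    have e2 : u' = (t u' * g')⁻¹ * (t u' * u' * (t u')⁻¹) * (t u' * g') := by
      have : (t u' * g')⁻¹ * (t u' * u' * (t u')⁻¹) * (t u' * g') = g'⁻¹ * u' * g' := by group
      have hc : u' * g' = g' * u' := hug'
      rw [this, mul_assoc, hc, inv_mul_cancel_left]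
    rw [e1, e2, h1, h2]
  subst hu_eq
  have hg_eq : g = g' := mul_left_cancel h2
  subst hg_eq
  rfl





theorem eq_one_of_isPi_empty {G : Type*} [Group G] (x : G) (h : IsPi ∅ x) : x = 1 := by
  by_contra hx
  have h1 : orderOf x ≠ 1 := fun h1 => hx (orderOf_eq_one_iff.mp h1)
  obtain ⟨q, hq, hqd⟩ := Nat.exists_prime_and_dvd h1
  exact absurd (h q hq hqd) (Finset.notMem_empty q)

theorem commute_of_mem_zpowers {G : Type*} [Group G] {x a g : G} (ha : a ∈ Subgroup.zpowers x)
    (hg : Commute x g) : Commute a g := by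
  obtain ⟨i, rfl⟩ := Subgroup.mem_zpowers_iff.mp ha
  exact hg.zpow_left i

theorem mem_centralizer_singleton {G : Type*} [Group G] {u g : G} :
    g ∈ Subgroup.centralizer ({u} : Set G) ↔ Commute u g := by
  rw [Subgroup.mem_centralizer_iff]
  constructor
  · intro h; exact h u rfl
  · intro h z hz
    rw [Set.mem_singleton_iff] at hz
    rw [hz]; exact h

/-- the relation used in the fibration over `p`-elements -/
def Rel (p : ℕ) (s₀ : Finset ℕ) {G : Type*} [Group G] (u : G) (b : G × G) : Prop :=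
  (∃ k : ℕ, u ^ (p ^ k) = 1) ∧ Commute u b.1 ∧ Commute u b.2 ∧ IsPi s₀ b.1 ∧ Commute b.1 b.2

theorem npairs_insert_le {G : Type*} [Group G] [Finite G] (p : ℕ) (hpp : p.Prime) (s₀ : Finset ℕ) :
    NPairs (insert p s₀) G ≤ Nat.card {t : G × (G × G) // Rel p s₀ t.1 t.2} := by
  classical
  have hdec : ∀ x : G, ∃ u y : G, u * y = x ∧ u ∈ Subgroup.zpowers x ∧ y ∈ Subgroup.zpowers x ∧
      (∃ k : ℕ, u ^ (p ^ k) = 1) ∧ (orderOf y).Coprime p :=
    fun x => exists_decomp p hpp x (isOfFinOrder_of_finite x)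
  choose U Y hUY hU hY hUp hYc using hdec
  unfold NPairs
  refine Nat.card_le_card_of_injective
    (fun q => ⟨(U q.1.1, (Y q.1.1, q.1.2)), ?_⟩) ?_
  · obtain ⟨⟨x, g⟩, hx, hxg⟩ := q
    refine ⟨hUp x, ?_, ?_, ?_, ?_⟩
    · -- U x commutes with Y x
      exact (commute_of_mem_zpowers (hY x) (commute_of_mem_zpowers (hU x) (Commute.refl x)).symm).symm
    · exact commute_of_mem_zpowers (hU x) hxg
    · intro q hq hqd
      have h1 : orderOf (Y x) ∣ orderOf x := orderOf_dvd_of_mem_zpowers (hY x)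
      have h2 := hx q hq (hqd.trans h1)
      rcases Finset.mem_insert.mp h2 with h3 | h3
      · exfalso
        have h4 : p ∣ Nat.gcd (orderOf (Y x)) p := Nat.dvd_gcd (h3 ▸ hqd) dvd_rfl
        rw [hYc x] at h4
        exact hpp.one_lt.ne' (Nat.dvd_one.mp h4)
      · exact h3
    · exact commute_of_mem_zpowers (hY x) hxg
  · rintro ⟨⟨x, g⟩, hx, hxg⟩ ⟨⟨x', g'⟩, hx', hxg'⟩ heq
    simp only [Subtype.mk.injEq, Prod.mk.injEq] at heq
    obtain ⟨h1, h2, h3⟩ := heq
    have : x = x' := by rw [← hUY x, ← hUY x', h1, h2]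
    subst this
    subst h3
    rfl







/-- fibre bound -/
theorem card_rel_le {G : Type u} [Group G] [Finite G] (p : ℕ) (s₀ : Finset ℕ) (m' : ℕ)
    (IH : ∀ (C : Type u) [Group C] [Finite C], (∀ q ∈ s₀, q ^ (Nat.card C).factorization q ∣ m') →
      NPairs s₀ C ≤ Nat.card C * m')
    (hm' : ∀ (C : Subgroup G), ∀ q ∈ s₀, q ^ (Nat.card C).factorization q ∣ m')
    (u : G) :
    Nat.card {b : G × G // Rel p s₀ u b} ≤
      Nat.card {g : G // (∃ k : ℕ, u ^ (p ^ k) = 1) ∧ Commute u g} * m' := by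
  classical
  by_cases hu : ∃ k : ℕ, u ^ (p ^ k) = 1
  · set C := Subgroup.centralizer ({u} : Set G) with hC
    have h1 : Nat.card {b : G × G // Rel p s₀ u b} ≤ NPairs s₀ C := by
      unfold NPairs
      refine Nat.card_le_card_of_injective
        (fun b => ⟨(⟨b.1.1, mem_centralizer_singleton.mpr b.2.2.1⟩,
          ⟨b.1.2, mem_centralizer_singleton.mpr b.2.2.2.1⟩), ?_, ?_⟩) ?_
      · intro q hq hqd
        rw [Subgroup.orderOf_mk] at hqd
        exact b.2.2.2.2.1 q hq hqd
      · have := b.2.2.2.2.2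
        exact Subtype.ext this
      · rintro ⟨⟨b1, b2⟩, hb⟩ ⟨⟨b1', b2'⟩, hb'⟩ heq
        simp only [Subtype.mk.injEq, Prod.mk.injEq] at heq
        obtain ⟨h1, h2⟩ := heq
        subst h1; subst h2; rfl
    have h2 : NPairs s₀ C ≤ Nat.card C * m' := IH C (hm' C)
    have h3 : Nat.card C ≤ Nat.card {g : G // (∃ k : ℕ, u ^ (p ^ k) = 1) ∧ Commute u g} := by
      refine Nat.card_le_card_of_injective
        (fun c => ⟨c.1, hu, mem_centralizer_singleton.mp c.2⟩) ?_
      rintro ⟨c, hc⟩ ⟨c', hc'⟩ heq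
      simp only [Subtype.mk.injEq] at heq
      subst heq; rfl
    calc _ ≤ NPairs s₀ C := h1
      _ ≤ Nat.card C * m' := h2
      _ ≤ _ := Nat.mul_le_mul_right _ h3
  · have : IsEmpty {b : G × G // Rel p s₀ u b} := ⟨fun b => hu b.2.1⟩
    rw [Nat.card_of_isEmpty]
    exact Nat.zero_le _

theorem card_total_le {G : Type u} [Group G] [Finite G] (p : ℕ) [hp : Fact p.Prime] (s₀ : Finset ℕ)
    (m' : ℕ)
    (IH : ∀ (C : Type u) [Group C] [Finite C], (∀ q ∈ s₀, q ^ (Nat.card C).factorization q ∣ m') →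
      NPairs s₀ C ≤ Nat.card C * m')
    (hm' : ∀ (C : Subgroup G), ∀ q ∈ s₀, q ^ (Nat.card C).factorization q ∣ m') :
    Nat.card {t : G × (G × G) // Rel p s₀ t.1 t.2} ≤
      p ^ (Nat.card G).factorization p * Nat.card G * m' := by
  classical
  have : Fintype G := Fintype.ofFinite G
  rw [Nat.card_congr (Equiv.subtypeProdEquivSigmaSubtype (Rel p s₀ (G := G))), Nat.card_sigma]
  have h1 : ∀ u : G, Nat.card {b : G × G // Rel p s₀ u b} ≤
      Nat.card {g : G // (∃ k : ℕ, u ^ (p ^ k) = 1) ∧ Commute u g} * m' :=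
    fun u => card_rel_le p s₀ m' IH hm' u
  calc ∑ u : G, Nat.card {b : G × G // Rel p s₀ u b}
      ≤ ∑ u : G, Nat.card {g : G // (∃ k : ℕ, u ^ (p ^ k) = 1) ∧ Commute u g} * m' :=
        Finset.sum_le_sum (fun u _ => h1 u)
    _ = (∑ u : G, Nat.card {g : G // (∃ k : ℕ, u ^ (p ^ k) = 1) ∧ Commute u g}) * m' :=
        (Finset.sum_mul _ _ _).symm
    _ = Nat.card {q : G × G // (∃ k : ℕ, q.1 ^ (p ^ k) = 1) ∧ Commute q.1 q.2} * m' := by
        rw [Nat.card_congr (Equiv.subtypeProdEquivSigmaSubtype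
          (fun (u g : G) => (∃ k : ℕ, u ^ (p ^ k) = 1) ∧ Commute u g)), Nat.card_sigma]
    _ ≤ p ^ (Nat.card G).factorization p * Nat.card G * m' :=
        Nat.mul_le_mul_right _ (card_ppairs_le p)






/-- the main inductive bound -/
theorem npairs_le (s : Finset ℕ) : ∀ (G : Type u) [Group G] [Finite G] (m : ℕ), m ≠ 0 →
    (∀ q ∈ s, q ^ (Nat.card G).factorization q ∣ m) → NPairs s G ≤ Nat.card G * m := by
  classical
  induction s using Finset.induction_on with
  | empty =>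
    intro G _ _ m hm _
    have h1 : NPairs ∅ G ≤ Nat.card G := by
      unfold NPairs
      refine Nat.card_le_card_of_injective (fun q => q.1.2) ?_
      rintro ⟨⟨x, g⟩, hx, _⟩ ⟨⟨x', g'⟩, hx', _⟩ h
      have e1 : x = 1 := eq_one_of_isPi_empty x hx
      have e2 : x' = 1 := eq_one_of_isPi_empty x' hx'
      simp only at h
      subst e1; subst e2; subst h
      rfl
    exact h1.trans (Nat.le_mul_of_pos_right _ (Nat.pos_of_ne_zero hm))
  | insert p s₀ hps₀ IH =>
    intro G _ _ m hm hdiv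
    by_cases hpp : p.Prime
    · have : Fact p.Prime := ⟨hpp⟩
      set a := (Nat.card G).factorization p with ha
      have hpa : p ^ a ∣ m := hdiv p (Finset.mem_insert_self p s₀)
      obtain ⟨m', hm'⟩ := hpa
      have hm'0 : m' ≠ 0 := by
        rintro rfl
        exact hm (by rw [hm', mul_zero])
      have hsub : ∀ (C : Subgroup G), ∀ q ∈ s₀, q ^ (Nat.card C).factorization q ∣ m' := by
        intro C q hq
        by_cases hqp : q.Prime
        · have hqne : q ≠ p := fun h => hps₀ (h ▸ hq)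
          have h1 : (Nat.card C).factorization q ≤ (Nat.card G).factorization q :=
            (Nat.factorization_le_iff_dvd Nat.card_pos.ne' Nat.card_pos.ne').mpr
              (Subgroup.card_subgroup_dvd_card C) q
          have h2 : q ^ (Nat.card C).factorization q ∣ p ^ a * m' := by
            rw [← hm']
            exact (pow_dvd_pow q h1).trans (hdiv q (Finset.mem_insert_of_mem hq))
          have hcop : Nat.Coprime (q ^ (Nat.card C).factorization q) (p ^ a) :=
            Nat.Coprime.pow _ _ ((Nat.coprime_primes hqp hpp).mpr hqne)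
          exact hcop.dvd_of_dvd_mul_left h2
        · rw [Nat.factorization_eq_zero_of_not_prime _ hqp, pow_zero]
          exact one_dvd _
      have hIH : ∀ (C : Type u) [Group C] [Finite C],
          (∀ q ∈ s₀, q ^ (Nat.card C).factorization q ∣ m') → NPairs s₀ C ≤ Nat.card C * m' :=
        fun C _ _ h => IH C m' hm'0 h
      calc NPairs (insert p s₀) G
          ≤ Nat.card {t : G × (G × G) // Rel p s₀ t.1 t.2} := npairs_insert_le p hpp s₀
        _ ≤ p ^ a * Nat.card G * m' := card_total_le p s₀ m' hIH hsub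
        _ = Nat.card G * m := by rw [hm']; ring
    · -- `p` is not prime: it plays no role
      have h1 : NPairs (insert p s₀) G ≤ NPairs s₀ G := by
        unfold NPairs
        refine Nat.card_le_card_of_injective (fun q => ⟨q.1, ?_, q.2.2⟩) ?_
        · intro r hr hrd
          have := q.2.1 r hr hrd
          rcases Finset.mem_insert.mp this with h | h
          · exact absurd (h ▸ hr) hpp
          · exact h
        · rintro ⟨q, hq⟩ ⟨q', hq'⟩ h
          simp only [Subtype.mk.injEq] at h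
          subst h; rfl
      exact h1.trans (IH G m hm (fun q hq => hdiv q (Finset.mem_insert_of_mem hq)))




/-- (I-a): classes times group order is at most the number of commuting pairs -/
theorem card_classes_mul_le {G : Type*} [Group G] [Finite G] (π : Set ℕ) (s : Finset ℕ)
    (hs : ∀ q : ℕ, q.Prime → q ∣ Nat.card G → q ∈ π → q ∈ s) :
    Nat.card {C : ConjClasses G // ∀ q : ℕ, q.Prime →
      (∃ g : G, ConjClasses.mk g = C ∧ q ∣ orderOf g) → q ∈ π} * Nat.card G ≤ NPairs s G := by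
  classical
  have hrep : ∀ C : ConjClasses G, ∃ a : G, ConjClasses.mk a = C := ConjClasses.exists_rep
  choose r hr using hrep
  have hconj : ∀ x : G, ∃ t : G, t * r (ConjClasses.mk x) * t⁻¹ = x := by
    intro x
    have h1 : IsConj (r (ConjClasses.mk x)) x := ConjClasses.mk_eq_mk_iff_isConj.mp (hr _)
    exact isConj_iff.mp h1
  choose t ht using hconj
  rw [← Nat.card_prod]
  unfold NPairs
  have hmk : ∀ (C : ConjClasses G) (h : G), ConjClasses.mk (h * r C * h⁻¹) = C := by
    intro C h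
    have : ConjClasses.mk (r C) = ConjClasses.mk (h * r C * h⁻¹) :=
      ConjClasses.mk_eq_mk_iff_isConj.mpr (isConj_iff.mpr ⟨h, rfl⟩)
    rw [← this, hr]
  refine Nat.card_le_card_of_injective
    (fun z => ⟨(z.2 * r z.1.1 * z.2⁻¹, z.2 * (t (z.2 * r z.1.1 * z.2⁻¹))⁻¹), ?_, ?_⟩) ?_
  · intro q hq hqd
    obtain ⟨⟨C, hC⟩, h⟩ := z
    have h1 : q ∈ π := hC q hq ⟨_, hmk C h, hqd⟩
    exact hs q hq (hqd.trans (orderOf_dvd_natCard _)) h1
  · obtain ⟨⟨C, hC⟩, h⟩ := z
    show Commute (h * r C * h⁻¹) (h * (t (h * r C * h⁻¹))⁻¹)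
    set x := h * r C * h⁻¹ with hx
    have h1 : t x * r C * (t x)⁻¹ = x := by
      have := ht x
      rwa [hmk C h] at this
    have h2 : (t x)⁻¹ * x * t x = r C := by
      have e : (t x)⁻¹ * (t x * r C * (t x)⁻¹) * t x = r C := by group
      rw [h1] at e
      exact e
    show x * (h * (t x)⁻¹) = h * (t x)⁻¹ * x
    have e1 : h * (t x)⁻¹ * x = h * ((t x)⁻¹ * x * t x) * (t x)⁻¹ := by group
    rw [e1, h2]
    have e2 : x * (h * (t x)⁻¹) = (x * h) * (t x)⁻¹ := by group
    rw [e2, hx]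
    group
  · rintro ⟨⟨C, hC⟩, h⟩ ⟨⟨C', hC'⟩, h'⟩ heq
    simp only [Subtype.mk.injEq, Prod.mk.injEq] at heq
    obtain ⟨h1, h2⟩ := heq
    have hCC : C = C' := by rw [← hmk C h, ← hmk C' h', h1]
    subst hCC
    rw [h1] at h2
    have hh : h = h' := mul_right_cancel h2
    subst hh
    rfl

/-- Let G be a finite group, π a set of primes and m the π-part of the order of G. Then the number of conjugacy classes of G consisting of π-elements (elements whose order is divisible only by primes in π) is at most m. -/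
theorem result {G : Type*} [Group G] [Finite G]
    (π : Set ℕ) (hπ : ∀ q ∈ π, q.Prime)
    (m : ℕ) (hm : m ∣ Nat.card G) (hmπ : ∀ q : ℕ, q.Prime → q ∣ m → q ∈ π)
    (hm' : ∀ q ∈ π, ¬ q ∣ Nat.card G / m) :
    Nat.card {C : ConjClasses G // ∀ q : ℕ, q.Prime → (∃ g : G, ConjClasses.mk g = C ∧ q ∣ orderOf g) → q ∈ π} ≤ m := by
  classical
  have hG0 : Nat.card G ≠ 0 := Nat.card_pos.ne'
  have hm0 : m ≠ 0 := by
    rintro rfl
    exact hG0 (Nat.eq_zero_of_zero_dvd hm)
  set s : Finset ℕ := (Nat.card G).primeFactors.filter (· ∈ π) with hs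
  have h1 := card_classes_mul_le (G := G) π s (by
    intro q hq hqd hqπ
    rw [hs, Finset.mem_filter, Nat.mem_primeFactors]
    exact ⟨⟨hq, hqd, hG0⟩, hqπ⟩)
  have h2 := npairs_le s G m hm0 (by
    intro q hq
    rw [hs, Finset.mem_filter, Nat.mem_primeFactors] at hq
    obtain ⟨⟨hqp, -, -⟩, hqπ⟩ := hq
    obtain ⟨c, hc⟩ := hm
    have hc0 : c ≠ 0 := by
      rintro rfl
      exact hG0 (by rw [hc, mul_zero])
    have hdiv : Nat.card G / m = c := by
      rw [hc, Nat.mul_div_cancel_left _ (Nat.pos_of_ne_zero hm0)]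
    have h3 : ¬ q ∣ c := hdiv ▸ hm' q hqπ
    have h4 : (Nat.card G).factorization q = m.factorization q := by
      rw [hc, Nat.factorization_mul hm0 hc0, Finsupp.add_apply,
        Nat.factorization_eq_zero_of_not_dvd h3, add_zero]
    rw [h4]
    exact Nat.ordProj_dvd m q)
  have h3 : Nat.card {C : ConjClasses G // ∀ q : ℕ, q.Prime →
      (∃ g : G, ConjClasses.mk g = C ∧ q ∣ orderOf g) → q ∈ π} * Nat.card G ≤ m * Nat.card G := by
    rw [mul_comm m]
    exact h1.trans h2
  exact Nat.le_of_mul_le_mul_right h3 Nat.card_pos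

end Cfsg.Agent.S4106
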