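import Cfsg.Statements.S4667
import Cfsg.Agent.Lib.Helper77_RegProj

set_option autoImplicit false
open Cfsg

namespace Cfsg.Agent.S4667

open Cfsg.Agent.Lib.Helper78_LocalRing Cfsg.Agent.Lib.Helper78_Osima
  Cfsg.Agent.Lib.Helper78_CharFacts Cfsg.Agent.Lib.Helper77_WeakOrth
  Cfsg.Agent.Lib.Helper77_RegProj Matrix

open scoped ComplexConjugate

theorem tmat_mul_tmat {G : Type*} [Group G] [Fintype G] [DecidableEq G] (p : ℕ) :
    tmat (G := G) p * tmat p = tmat p := by
  unfold tmat
  rw [Matrix.diagonal_mul_diagonal]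
  congr 1
  funext x
  by_cases h : p ∣ orderOf x
  · rw [pRegularPart_of_sing _ h, mul_zero]
  · rw [pRegularPart_of_reg _ h, mul_one]

theorem kmat_mulVec_eq_sum {G : Type*} [Group G] [Fintype G] [DecidableEq G]
    (S : Set (IrrCharacter G)) (hfin : Finite (IrrCharacter G)) (f : G → ℂ) :
    (kmat S).mulVec f = ∑ χ ∈ (Set.toFinite S).toFinset,
      ((Nat.card G : ℂ)⁻¹ * ∑ y : G, conj ((χ : G → ℂ) y) * f y) • (χ : G → ℂ) := by
  funext x
  unfold Matrix.mulVec dotProduct kmat
  simp_rw [finsum_mem_eq_finite_toFinset_sum _ (Set.toFinite S)]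
  simp only [Finset.sum_apply, Pi.smul_apply, smul_eq_mul]
  simp_rw [Finset.mul_sum, Finset.sum_mul]
  rw [Finset.sum_comm]
  refine Finset.sum_congr rfl fun χ _ => ?_
  refine Finset.sum_congr rfl fun y _ => ?_
  ring

/-- Fix a prime p and a maximal ideal M of the algebraic integers containing p, and a p-block B of the finite group G. The p-regular rank of B (the number of irreducible Brauer characters in B) times the order of G equals the sum over the p-regular elements x of G of Σ_{χ ∈ B} χ(x) χ(x⁻¹) (written with the restriction of χ to p-regular elements, which vanishes at p-singular x). -/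
theorem result {G : Type*} [Group G] [Fintype G] (p : ℕ) [Fact p.Prime] (M : Ideal Cfsg.AlgInt) (hM : Cfsg.IsPModular p M) (B : Set (Cfsg.IrrCharacter G)) (hB : Cfsg.IsPBlock M B) : (Nat.card G : ℂ) * (Cfsg.blockRank p B : ℂ) = ∑ x : G, ∑ᶠ χ ∈ B, Cfsg.pRegularPart p (χ : G → ℂ) x * (χ : G → ℂ) x⁻¹ := by
  classical
  have hMp : M.IsPrime := hM.2.1.isPrime
  have hfin : Finite (IrrCharacter G) := charFacts.finite
  have hS : ∀ g : G, MemLocalRing M (blockCoeff B g) := fun g => osima_block' hMp hB g
  have hG : (Nat.card G : ℂ) ≠ 0 := by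
    exact_mod_cast (Nat.card_pos (α := G)).ne'
  set E : Matrix G G ℂ := tmat p * kmat B with hE
  have hcomm := tmat_mul_kmat_comm hM B hS
  have hEE : E * E = E := by
    rw [hE]
    calc tmat p * kmat B * (tmat p * kmat B) = tmat p * (kmat B * tmat p) * kmat B := by
          simp only [Matrix.mul_assoc]
      _ = tmat p * tmat p * (kmat B * kmat B) := by
          rw [← hcomm]; simp only [Matrix.mul_assoc]
      _ = tmat p * kmat B := by rw [tmat_mul_tmat, kmat_mul_kmat]
  have hidem : IsIdempotentElem (Matrix.toLin' E) := by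
    show Matrix.toLin' E * Matrix.toLin' E = Matrix.toLin' E
    rw [Module.End.mul_eq_comp, ← Matrix.toLin'_mul, hEE]
  have htr := (LinearMap.IsIdempotentElem.isProj_range _ hidem).trace
  rw [Matrix.trace_toLin'_eq] at htr
  -- the range is the span of the truncated characters
  have hrange : LinearMap.range (Matrix.toLin' E) =
      Submodule.span ℂ ((fun χ : IrrCharacter G => pRegularPart p (χ : G → ℂ)) '' B) := by
    apply le_antisymm
    · rintro _ ⟨f, rfl⟩
      rw [Matrix.toLin'_apply, hE, ← Matrix.mulVec_mulVec, kmat_mulVec_eq_sum B hfin f,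
        tmat_mulVec]
      have hlin : pRegularPart p (∑ χ ∈ (Set.toFinite B).toFinset,
          ((Nat.card G : ℂ)⁻¹ * ∑ y : G, conj ((χ : G → ℂ) y) * f y) • (χ : G → ℂ)) =
          ∑ χ ∈ (Set.toFinite B).toFinset,
          ((Nat.card G : ℂ)⁻¹ * ∑ y : G, conj ((χ : G → ℂ) y) * f y) •
            pRegularPart p (χ : G → ℂ) := by
        funext x
        by_cases hx : p ∣ orderOf x
        · rw [pRegularPart_of_sing _ hx]
          simp only [Finset.sum_apply, Pi.smul_apply, smul_eq_mul]
          symm
          apply Finset.sum_eq_zero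
          intro χ _
          rw [pRegularPart_of_sing _ hx, mul_zero]
        · rw [pRegularPart_of_reg _ hx]
          simp only [Finset.sum_apply, Pi.smul_apply, smul_eq_mul]
          refine Finset.sum_congr rfl fun χ _ => ?_
          rw [pRegularPart_of_reg _ hx]
      rw [hlin]
      apply Submodule.sum_mem
      intro χ hχ
      apply Submodule.smul_mem
      apply Submodule.subset_span
      exact ⟨χ, (Set.Finite.mem_toFinset _).mp hχ, rfl⟩
    · rw [Submodule.span_le]
      rintro _ ⟨χ, hχ, rfl⟩
      refine ⟨(χ : G → ℂ), ?_⟩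
      rw [Matrix.toLin'_apply, hE, ← Matrix.mulVec_mulVec, kmat_mulVec_irr, if_pos hχ,
        tmat_mulVec]
  have hrank : (Cfsg.blockRank p B : ℂ) = E.trace := by
    rw [htr]
    unfold Cfsg.blockRank
    rw [hrange]
  rw [hrank, hE]
  unfold Matrix.trace
  rw [Finset.mul_sum]
  refine Finset.sum_congr rfl fun x _ => ?_
  rw [Matrix.diag_apply]
  unfold tmat
  rw [Matrix.diagonal_mul]
  unfold kmat
  rw [← mul_assoc, mul_comm (Nat.card G : ℂ), mul_assoc, ← mul_assoc (Nat.card G : ℂ),
    mul_inv_cancel₀ hG, one_mul]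
  by_cases hx : p ∣ orderOf x
  · rw [pRegularPart_of_sing _ hx, zero_mul]
    symm
    apply finsum_mem_eq_zero_of_forall_eq_zero
    intro χ _
    rw [pRegularPart_of_sing _ hx, zero_mul]
  · rw [pRegularPart_of_reg _ hx, one_mul]
    refine finsum_congr fun χ => ?_
    refine finsum_congr fun _ => ?_
    rw [pRegularPart_of_reg _ hx, Cfsg.Agent.Lib.Helper80_CharBasic.irr_inv χ x]

end Cfsg.Agent.S4667
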