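import Cfsg.Statements.S0874
import Cfsg.Agent.S0872
import Cfsg.Agent.Lib.Helper15_QuasiElem

set_option autoImplicit false
open Cfsg

namespace Cfsg.Agent.S0874

open Cfsg.Agent.Lib.Helper15_BrauerSpan Cfsg.Agent.Lib.Helper15_QuasiElem
open Cfsg.Agent.Lib.Helper75_Induced

universe u

/-- Negating the coefficients of a list negates the sum. -/
theorem sum_map_neg {G : Type u} [Group G] [Fintype G]
    (l : List ((E : Subgroup G) × ((E → ℂ) × ℤ))) :
    ((l.map fun t => (⟨t.1, (t.2.1, -t.2.2)⟩ : (E : Subgroup G) × ((E → ℂ) × ℤ))).map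
      fun t => (t.2.2 : ℂ) • Cfsg.indFun t.1 t.2.1).sum =
    -((l.map fun t => (t.2.2 : ℂ) • Cfsg.indFun t.1 t.2.1).sum) := by
  induction l with
  | nil => simp
  | cons t l ih =>
    rw [List.map_cons, List.map_cons, List.sum_cons, ih, List.map_cons, List.sum_cons, neg_add]
    congr 1
    push_cast
    rw [neg_smul]

/-- An element of `BSpan` is given by a list. -/
theorem exists_list_of_mem {G : Type u} [Group G] [Fintype G] {p : ℕ} {f : G → ℂ}
    (hf : f ∈ BSpan p G) : ∃ l : List ((E : Subgroup G) × ((E → ℂ) × ℤ)),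
      (∀ t ∈ l, Cfsg.IsElementary p t.1 ∧ Cfsg.IsCharacter t.1 t.2.1) ∧
      f = (l.map fun t => (t.2.2 : ℂ) • Cfsg.indFun t.1 t.2.1).sum := by
  induction hf using AddSubgroup.closure_induction with
  | mem f hf =>
    obtain ⟨E, φ, hE, hφ, rfl⟩ := hf
    refine ⟨[⟨E, (φ, 1)⟩], ?_, ?_⟩
    · intro t ht
      rw [List.mem_singleton] at ht
      subst ht
      exact ⟨hE, hφ⟩
    · simp
  | zero => exact ⟨[], by simp, by simp⟩
  | add f g _ _ hf hg =>
    obtain ⟨l₁, h₁, rfl⟩ := hf
    obtain ⟨l₂, h₂, rfl⟩ := hg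
    refine ⟨l₁ ++ l₂, ?_, ?_⟩
    · intro t ht
      rcases List.mem_append.1 ht with h | h
      · exact h₁ t h
      · exact h₂ t h
    · rw [List.map_append, List.sum_append]
  | neg f _ hf =>
    obtain ⟨l, h, rfl⟩ := hf
    refine ⟨l.map fun t => ⟨t.1, (t.2.1, -t.2.2)⟩, ?_, ?_⟩
    · intro t ht
      obtain ⟨s, hs, rfl⟩ := List.mem_map.1 ht
      exact h s hs
    · rw [sum_map_neg]

/-- For a finite group G and a prime p there are an integer m not divisible by p and a list of triples (E, φ, c), with E a p-elementary subgroup, φ a character of E and c an integer, such that the constant function m on G equals the sum of the c • (function induced from φ). -/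
theorem result {G : Type*} [Group G] [Fintype G] (p : ℕ) (hp : p.Prime) : ∃ (m : ℤ) (l : List ((E : Subgroup G) × ((E → ℂ) × ℤ))), ¬ (p : ℤ) ∣ m ∧ (∀ t ∈ l, Cfsg.IsElementary p t.1 ∧ Cfsg.IsCharacter t.1 t.2.1) ∧ (fun _ : G => (m : ℂ)) = (l.map fun t => (t.2.2 : ℂ) • Cfsg.indFun t.1 t.2.1).sum := by
  classical
  obtain ⟨m, a, hm, ha, hsum⟩ := Cfsg.Agent.S0872.result (G := G) p hp
  have hmem : (fun _ : G => (m : ℂ)) ∈ BSpan p G := by
    rw [hsum]
    apply AddSubgroup.sum_mem
    intro H _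
    by_cases haH : a H = 0
    · rw [haH, Int.cast_zero, zero_smul]
      exact AddSubgroup.zero_mem _
    · obtain ⟨C, hCH, hHN, hCcyc, hCcop, k, hk⟩ := ha H haH
      rw [Int.cast_smul_eq_zsmul]
      apply AddSubgroup.zsmul_mem
      haveI : Fintype H := Fintype.ofFinite _
      apply BSpan.ind_mem H
      have hn : (C.subgroupOf H).Normal :=
        (Subgroup.normal_subgroupOf_iff_le_normalizer hCH).2 hHN
      have hcyc : IsCyclic (C.subgroupOf H) :=
        isCyclic_of_surjective (Subgroup.subgroupOfEquivOfLe hCH).symm.toMonoidHom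
          (Subgroup.subgroupOfEquivOfLe hCH).symm.surjective
      have hcop : Nat.Coprime (Nat.card (C.subgroupOf H)) p := by
        rw [Nat.card_congr (Subgroup.subgroupOfEquivOfLe hCH).toEquiv]
        exact hCcop
      exact one_mem_BSpan p hp (Nat.card H) H rfl (C.subgroupOf H) hn hcyc hcop ⟨k, hk⟩
  obtain ⟨l, hl, hsum'⟩ := exists_list_of_mem hmem
  exact ⟨m, l, hm, hl, hsum'⟩

end Cfsg.Agent.S0874
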