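import Cfsg.Statements.S0928
import Cfsg.Agent.S0165
import Cfsg.Agent.S0934
import Cfsg.Agent.Lib.Helper78_LocalRing
import Cfsg.Agent.Lib.Helper78_Osima
import Cfsg.Agent.Lib.Helper78_CentralChar
import Cfsg.Agent.Lib.Helper78_CharFacts
import Cfsg.Agent.Lib.Helper78_Deficiency
import Cfsg.Agent.Lib.Helper77_QuotBlocks
import Cfsg.Agent.Lib.Helper77_BlockBasics

set_option autoImplicit false
open Cfsg

namespace Cfsg.Agent.S0928

open Cfsg.Agent.Lib.Helper78_LocalRing Cfsg.Agent.Lib.Helper78_CentralChar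
  Cfsg.Agent.Lib.Helper78_Osima Cfsg.Agent.Lib.Helper78_CharFacts

open Classical in
/-- Fibre sum over the quotient by a central subgroup of exponent `p`: the set of solutions of
`h ^ p = 1` is a union of cosets. -/
theorem sum_pow_eq_one {H : Type*} [Group H] [Fintype H] (p : ℕ) (Q : Subgroup H) [Q.Normal]
    [Fintype (H ⧸ Q)]
    (hQc : ∀ q ∈ Q, ∀ h : H, q * h = h * q) (hQp : ∀ q ∈ Q, q ^ p = 1) (ψ : H ⧸ Q → ℂ) :
    ∑ h : H, (if h ^ p = 1 then ψ (QuotientGroup.mk h) else 0) =
      (Nat.card Q : ℂ) * ∑ x : H ⧸ Q,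
        (if ∃ h : H, (QuotientGroup.mk h : H ⧸ Q) = x ∧ h ^ p = 1 then ψ x else 0) := by
  have : Fintype Q := Fintype.ofFinite _
  rw [← Finset.sum_fiberwise Finset.univ (fun h : H => (QuotientGroup.mk h : H ⧸ Q))
    (fun h : H => if h ^ p = 1 then ψ (QuotientGroup.mk h) else 0), Finset.mul_sum]
  refine Finset.sum_congr (by ext; simp) fun x _ => ?_
  split_ifs with hx
  · obtain ⟨h₀, hh₀, hp₀⟩ := hx
    have hall : ∀ h ∈ Finset.univ.filter (fun h : H => (QuotientGroup.mk h : H ⧸ Q) = x),
        (if h ^ p = 1 then ψ (QuotientGroup.mk h) else 0) = ψ x := by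
      intro h hh
      simp only [Finset.mem_filter, Finset.mem_univ, true_and] at hh
      have hq : h₀⁻¹ * h ∈ Q := by
        rw [← QuotientGroup.eq, hh₀, hh]
      have hcomm : Commute h₀ (h₀⁻¹ * h) := (hQc _ hq h₀).symm
      have hpow : h ^ p = 1 := by
        have h1 : h = h₀ * (h₀⁻¹ * h) := by group
        rw [h1, hcomm.mul_pow, hp₀, hQp _ hq, one_mul]
      rw [if_pos hpow, hh]
    rw [Finset.sum_congr rfl hall, Finset.sum_const, nsmul_eq_mul]
    congr 1
    rw [Nat.card_eq_fintype_card, ← Finset.card_univ]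
    norm_cast
    symm
    refine Finset.card_bij (fun (q : Q) _ => h₀ * (q : H)) ?_ ?_ ?_
    · intro q _
      simp only [Finset.mem_filter, Finset.mem_univ, true_and]
      rw [QuotientGroup.mk_mul, hh₀, (QuotientGroup.eq_one_iff (q : H)).mpr q.2, mul_one]
    · intro q₁ _ q₂ _ h12
      exact Subtype.ext (mul_left_cancel h12)
    · intro h hh
      simp only [Finset.mem_filter, Finset.mem_univ, true_and] at hh
      have hq : h₀⁻¹ * h ∈ Q := by
        rw [← QuotientGroup.eq, hh₀, hh]
      exact ⟨⟨h₀⁻¹ * h, hq⟩, Finset.mem_univ _, by simp⟩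
  · rw [mul_zero]
    refine Finset.sum_eq_zero fun h hh => ?_
    simp only [Finset.mem_filter, Finset.mem_univ, true_and] at hh
    rw [if_neg]
    intro hpow
    exact hx ⟨h, hh, hpow⟩

/-- Let χ be an irreducible character of the finite group G and p a prime. If χ g = 0 for every element g of order p, then the exponent of p in the degree χ(1) equals the exponent of p in the order of G (χ has p-defect zero). -/
theorem result {G : Type*} [Group G] [Finite G] (p : ℕ) [Fact p.Prime] (χ : Cfsg.IrrCharacter G) (hvan : ∀ g : G, orderOf g = p → (χ : G → ℂ) g = 0) : (Cfsg.charDegree (χ : G → ℂ)).factorization p = (Nat.card G).factorization p := by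
  classical
  have hp : p.Prime := Fact.out
  obtain ⟨M, hM⟩ := Cfsg.Agent.S0165.exists_isPModular p hp
  have hMp := isPrime_of_isPModular hM
  have := Fintype.ofFinite G
  have := Fintype.ofFinite (ConjClasses G)
  set B := blockOf M (χ : G → ℂ) with hBdef
  have hB : IsPBlock M B := isPBlock_blockOf χ
  have hχB : χ ∈ B := mem_blockOf_self hMp χ
  have hdvd := Cfsg.Agent.Lib.Helper77_BlockBasics.charDegree_dvd_card χ
  have hle : (charDegree (χ : G → ℂ)).factorization p ≤ (Nat.card G).factorization p := by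
    have hG0 : Nat.card G ≠ 0 := Nat.card_pos.ne'
    have hd0 : charDegree (χ : G → ℂ) ≠ 0 := fun h0 => hG0 (by rw [h0] at hdvd; exact zero_dvd_iff.mp hdvd)
    exact (Nat.factorization_le_iff_dvd hd0 hG0).mpr hdvd p
  by_cases hd : blockDefect p B = 0
  · unfold blockDefect at hd
    have h1 : sInf ((fun ψ : IrrCharacter G => (charDegree (ψ : G → ℂ)).factorization p) '' B) ≤
        (charDegree (χ : G → ℂ)).factorization p := Nat.sInf_le ⟨χ, hχB, rfl⟩
    omega
  · exfalso
    have hpos : 0 < blockDefect p B := Nat.pos_of_ne_zero hd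
    obtain ⟨y, hy, b, hind, -⟩ :=
      Cfsg.Agent.Lib.Helper78_Deficiency.exists_block_centralizer_defect_ge hM hB hpos
    set H := Subgroup.centralizer ({y} : Set G) with hH
    have : Fintype H := Fintype.ofFinite _
    have hyH : y ∈ H := by
      rw [hH, Subgroup.mem_centralizer_iff]
      intro k hk
      rw [Set.mem_singleton_iff] at hk
      rw [hk]
    have hycomm : ∀ h : H, (⟨y, hyH⟩ : H) * h = h * ⟨y, hyH⟩ := by
      intro h
      have := Subgroup.mem_centralizer_iff.mp h.2 y (Set.mem_singleton y)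
      exact Subtype.ext this
    set Q : Subgroup H := Subgroup.zpowers (⟨y, hyH⟩ : H) with hQ
    have hQc : ∀ q ∈ Q, ∀ h : H, q * h = h * q := by
      intro q hq h
      obtain ⟨k, rfl⟩ := Subgroup.mem_zpowers_iff.mp hq
      exact ((Commute.zpow_left (hycomm h) k)).eq
    have : Q.Normal := by
      constructor
      intro q hq h
      rw [← hQc q hq h, mul_inv_cancel_right]
      exact hq
    have hyp : (⟨y, hyH⟩ : H) ^ p = 1 := by
      apply Subtype.ext
      rw [Subgroup.coe_pow, Subgroup.coe_one, ← hy, pow_orderOf_eq_one]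
    have hQp' : ∀ q ∈ Q, q ^ p = 1 := by
      intro q hq
      obtain ⟨k, rfl⟩ := Subgroup.mem_zpowers_iff.mp hq
      rw [← zpow_natCast, ← zpow_mul, mul_comm, zpow_mul, zpow_natCast, hyp, one_zpow]
    have hQp : IsPGroup p Q := by
      intro q
      refine ⟨1, ?_⟩
      rw [pow_one]
      exact Subtype.ext (by rw [Subgroup.coe_pow, Subgroup.coe_one]; exact hQp' q q.2)
    have hQcard : Nat.card Q = p := by
      rw [hQ, Nat.card_zpowers]
      have : orderOf (⟨y, hyH⟩ : H) = orderOf y := by
        rw [← Subgroup.orderOf_coe]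
      rw [this, hy]
    obtain ⟨θ, hθb, hθker⟩ := Cfsg.Agent.Lib.Helper77_QuotBlocks.exists_mem_ker hM Q hQp hind.1
    obtain ⟨θ', hθ'⟩ := Cfsg.Agent.Lib.Helper77_QuotBlocks.exists_quot_char Q θ hθker
    have hθ1 : (θ : H → ℂ) 1 ≠ 0 := by
      rw [Cfsg.Agent.Lib.Helper77_BlockBasics.apply_one_eq_charDegree]
      have hdv := Cfsg.Agent.Lib.Helper77_BlockBasics.charDegree_dvd_card θ
      have hH0 : Nat.card H ≠ 0 := Nat.card_pos.ne'
      have : charDegree (θ : H → ℂ) ≠ 0 := fun h0 => hH0 (by rw [h0] at hdv; exact zero_dvd_iff.mp hdv)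
      exact_mod_cast this
    -- the class function `f`: indicator of the elements of order `p`
    set f : G → ℂ := fun g => if orderOf g = p then 1 else 0 with hf
    have hfc : IsClassFunction G f := by
      intro g h
      simp only [hf]
      have : orderOf (h * g * h⁻¹) = orderOf g := by
        have := orderOf_injective (MulAut.conj h).toMonoidHom (MulAut.conj h).injective g
        simpa using this
      rw [this]
    have hsum := Cfsg.Agent.S0934.sum_subgroup_eq_sum_classes H (θ : H → ℂ) hfc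
    -- the right side lies in the local ideal
    have hR : MemLocalIdeal M (∑ c : ConjClasses G, f c.out * inducedCentralChar H (θ : H → ℂ) c.out) := by
      refine memLocalIdeal_sum hMp _ _ fun c _ => ?_
      by_cases hc : orderOf c.out = p
      · have h1 := hind.2.2 θ hθb χ hχB c.out
        have h2 : centralChar (χ : G → ℂ) c.out = 0 := by
          unfold centralChar
          rw [hvan _ hc, mul_zero, zero_div]
        rw [h2, sub_zero] at h1
        simp only [hf, if_pos hc, one_mul]
        exact h1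
      · simp only [hf, if_neg hc, zero_mul]
        exact memLocalIdeal_zero hMp
    rw [← hsum] at hR
    -- the left side is `-1` modulo the local ideal
    have hsplit : ∀ h : H, (if h ^ p = 1 then (θ : H → ℂ) h / (θ : H → ℂ) 1 else 0) =
        f (h : G) * ((θ : H → ℂ) h / (θ : H → ℂ) 1) + (if h = 1 then 1 else 0) := by
      intro h
      simp only [hf]
      by_cases h1 : h = 1
      · subst h1
        have : orderOf ((1 : H) : G) ≠ p := by
          rw [Subgroup.coe_one, orderOf_one]
          exact hp.one_lt.ne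
        rw [if_pos (one_pow p), if_neg this, if_pos rfl, zero_mul, zero_add, div_self hθ1]
      · rw [if_neg h1, add_zero]
        have hiff : orderOf (h : G) = p ↔ h ^ p = 1 := by
          rw [Subgroup.orderOf_coe, orderOf_eq_prime_iff]
          exact ⟨fun hh => hh.1, fun hh => ⟨hh, h1⟩⟩
        by_cases h2 : h ^ p = 1
        · rw [if_pos h2, if_pos (hiff.mpr h2), one_mul]
        · rw [if_neg h2, if_neg (fun hh => h2 (hiff.mp hh)), zero_mul]
    have htot : ∑ h : H, (if h ^ p = 1 then (θ : H → ℂ) h / (θ : H → ℂ) 1 else 0) =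
        ∑ h : H, f (h : G) * ((θ : H → ℂ) h / (θ : H → ℂ) 1) + 1 := by
      rw [Finset.sum_congr rfl fun h _ => hsplit h, Finset.sum_add_distrib]
      congr 1
      rw [Finset.sum_ite_eq' Finset.univ (1 : H) (fun _ => (1 : ℂ))]
      simp
    -- the sum over solutions of `h ^ p = 1` is divisible by `p`
    have : Fintype (H ⧸ Q) := Fintype.ofFinite _
    set g' : H ⧸ Q → ℂ := fun x =>
      if ∃ h : H, (QuotientGroup.mk h : H ⧸ Q) = x ∧ h ^ p = 1 then 1 else 0 with hg'
    have hg'c : IsClassFunction (H ⧸ Q) g' := by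
      intro x k
      obtain ⟨k₀, rfl⟩ := QuotientGroup.mk_surjective k
      simp only [hg']
      have hiff : (∃ h : H, (QuotientGroup.mk h : H ⧸ Q) = (QuotientGroup.mk k₀ : H ⧸ Q) * x * (QuotientGroup.mk k₀ : H ⧸ Q)⁻¹ ∧ h ^ p = 1) ↔
          ∃ h : H, (QuotientGroup.mk h : H ⧸ Q) = x ∧ h ^ p = 1 := by
        constructor
        · rintro ⟨h, hh, hpw⟩
          refine ⟨k₀⁻¹ * h * k₀, ?_, ?_⟩
          · rw [QuotientGroup.mk_mul, QuotientGroup.mk_mul, hh, QuotientGroup.mk_inv]
            group
          · have : k₀⁻¹ * h * k₀ = k₀⁻¹ * h * k₀⁻¹⁻¹ := by rw [inv_inv]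
            rw [this, conj_pow, hpw, mul_one, mul_inv_cancel]
        · rintro ⟨h, hh, hpw⟩
          refine ⟨k₀ * h * k₀⁻¹, ?_, ?_⟩
          · rw [QuotientGroup.mk_mul, QuotientGroup.mk_mul, hh, QuotientGroup.mk_inv]
          · rw [conj_pow, hpw, mul_one, mul_inv_cancel]
      simp only [hiff]
    have hθ'irr : IsIrrCharacter (H ⧸ Q) (θ' : H ⧸ Q → ℂ) := θ'.2
    have hom : MemLocalRing M (omega (θ' : H ⧸ Q → ℂ) g') :=
      memLocalRing_omega hMp hθ'irr hg'c (fun x => by
        simp only [hg']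
        split_ifs
        · exact memLocalRing_one hMp
        · exact memLocalRing_zero hMp)
    have hquot := sum_pow_eq_one p Q hQc hQp' (fun x => (θ' : H ⧸ Q → ℂ) x / (θ' : H ⧸ Q → ℂ) 1)
    have hLHS : ∑ h : H, (if h ^ p = 1 then (θ : H → ℂ) h / (θ : H → ℂ) 1 else 0) =
        (p : ℂ) * omega (θ' : H ⧸ Q → ℂ) g' := by
      have e1 : ∀ h : H, (θ : H → ℂ) h = (θ' : H ⧸ Q → ℂ) (QuotientGroup.mk h) := by
        intro h
        rw [hθ']
        rfl
      have e2 : (θ : H → ℂ) 1 = (θ' : H ⧸ Q → ℂ) 1 := by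
        rw [e1 1, QuotientGroup.mk_one]
      have hL : ∑ h : H, (if h ^ p = 1 then (θ : H → ℂ) h / (θ : H → ℂ) 1 else 0) =
          ∑ h : H, (if h ^ p = 1 then (fun x => (θ' : H ⧸ Q → ℂ) x / (θ' : H ⧸ Q → ℂ) 1)
            (QuotientGroup.mk h) else 0) := by
        refine Finset.sum_congr rfl fun h _ => ?_
        rw [e1 h, e2]
      rw [hL]
      beta_reduce
      have hquot' : (∑ h : H, if h ^ p = 1 then (θ' : H ⧸ Q → ℂ) (QuotientGroup.mk h) /
          (θ' : H ⧸ Q → ℂ) 1 else 0) = (Nat.card Q : ℂ) * ∑ x : H ⧸ Q,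
            (if ∃ h : H, (QuotientGroup.mk h : H ⧸ Q) = x ∧ h ^ p = 1 then
              (θ' : H ⧸ Q → ℂ) x / (θ' : H ⧸ Q → ℂ) 1 else 0) := by
        convert hquot
      rw [hquot', hQcard]
      congr 1
      unfold omega
      rw [Finset.sum_div]
      refine Finset.sum_congr rfl fun x _ => ?_
      simp only [hg']
      split_ifs
      · rw [one_mul]
      · rw [zero_mul, zero_div]
    have hpM : MemLocalIdeal M ((p : ℂ) * omega (θ' : H ⧸ Q → ℂ) g') := by
      refine memLocalIdeal_mul_right hMp ?_ hom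
      exact (memLocalIdeal_natCast_iff hM p).mpr (dvd_refl p)
    rw [← hLHS, htot] at hpM
    have := memLocalIdeal_sub hMp hpM hR
    rw [add_sub_cancel_left] at this
    exact not_memLocalIdeal_one hMp this

end Cfsg.Agent.S0928
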