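import Mathlib
import Cfsg.Statements.S0910
import Cfsg.Agent.Lib.Helper3_CharBurnside
import Cfsg.Agent.Lib.Helper78_LocalRing
import Cfsg.Agent.Lib.Helper75_LinChar

set_option autoImplicit false
open Cfsg

namespace Cfsg.Agent.S0910

/-- Let G be a non-abelian finite simple group and p a prime. If an irreducible character χ lies in the principal block (relative to a maximal ideal of the algebraic integers containing p) and χ 1 is a power of p, then χ is the principal character. -/
theorem result {G : Type*} [Group G] [Finite G] (p : ℕ) [Fact p.Prime] (M : Ideal Cfsg.AlgInt) (hM : Cfsg.IsPModular p M) [IsSimpleGroup G] (hna : ∃ a b : G, a * b ≠ b * a) (χ : Cfsg.IrrCharacter G) (hχ : χ ∈ Cfsg.principalBlock M G) (k : ℕ) (hdeg : (χ : G → ℂ) 1 = (p : ℂ) ^ k) : (χ : G → ℂ) = fun _ => 1 := by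
  classical
  have hp : p.Prime := Fact.out
  have := Fintype.ofFinite G
  have hcomm : ¬ ∀ a b : G, a * b = b * a := by
    obtain ⟨a, b, hab⟩ := hna
    exact fun h => hab (h a b)
  by_contra hne
  obtain ⟨n, ρ, hirr, hρ⟩ := χ.2
  have := hirr
  have hnt : ρ.character ≠ fun _ => 1 := by rw [hρ]; exact hne
  have hd1 : (χ : G → ℂ) 1 = (Module.finrank ℂ (Fin n → ℂ) : ℂ) := by
    rw [← hρ, Representation.char_one]
  have hfr : Module.finrank ℂ (Fin n → ℂ) = p ^ k := by
    rw [hdeg] at hd1
    exact_mod_cast hd1.symm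
  -- the case `k = 0`: `ρ` is one-dimensional, so every `ρ g` is a scalar
  rcases Nat.eq_zero_or_pos k with hk0 | hkpos
  · obtain ⟨a, b, hab⟩ := hna
    have ha1 : a ≠ 1 := by
      rintro rfl
      exact hab (by simp)
    refine Cfsg.Agent.Lib.Helper3_CharBurnside.not_scalar_of_simple_nonabelian hcomm ρ hnt a ha1 ?_
    rw [← Cfsg.Agent.Lib.Helper3_CharEigen.norm_char_eq_iff]
    have hL : Cfsg.Agent.Lib.Helper75_LinChar.IsLin G (χ : G → ℂ) :=
      ⟨Cfsg.Agent.Lib.Helper3_CharBridge.isCharacter_of_isIrrCharacter χ.2, by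
        rw [hdeg, hk0, pow_zero]⟩
    rw [hρ, hL.norm_eq_one a, hfr, hk0, pow_zero, Nat.cast_one]
  · -- `k ≥ 1`: a central element of a Sylow `p`-subgroup
    have hpdvd : p ∣ Nat.card G := by
      have h1 : Module.finrank ℂ (Fin n → ℂ) ∣ Nat.card G :=
        Cfsg.Agent.Lib.Helper3_CharDegree.finrank_dvd_card ρ
      rw [hfr] at h1
      exact (dvd_pow_self p hkpos.ne').trans h1
    obtain ⟨P⟩ := (inferInstance : Nonempty (Sylow p G))
    have hPne : (P : Subgroup G) ≠ ⊥ := P.ne_bot_of_dvd_card hpdvd
    have : Nontrivial (P : Subgroup G) := (Subgroup.nontrivial_iff_ne_bot _).2 hPne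
    have hcen : Nontrivial (Subgroup.center (P : Subgroup G)) := P.isPGroup'.center_nontrivial
    obtain ⟨z, hz⟩ := exists_ne (1 : Subgroup.center (P : Subgroup G))
    set g : G := ((z : (P : Subgroup G)) : G) with hg
    have hg1 : g ≠ 1 := by
      intro h
      apply hz
      apply Subtype.ext
      apply Subtype.ext
      exact h
    have hPle : (P : Subgroup G) ≤ Subgroup.centralizer ({g} : Set G) := by
      intro x hx
      rw [Subgroup.mem_centralizer_singleton_iff]
      have h1 := (Subgroup.mem_center_iff.1 z.2) ⟨x, hx⟩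
      have h2 := congrArg Subtype.val h1
      simpa [hg] using h2
    have hidx : ¬ p ∣ (Subgroup.centralizer ({g} : Set G)).index := fun h =>
      P.not_dvd_index (h.trans (Subgroup.index_dvd_of_le hPle))
    have hcop : Nat.Coprime (Module.finrank ℂ (Fin n → ℂ))
        (Subgroup.centralizer ({g} : Set G)).index := by
      rw [hfr]
      exact Nat.Coprime.pow_left k ((Nat.Prime.coprime_iff_not_dvd hp).2 hidx)
    rcases Cfsg.Agent.Lib.Helper3_CharBurnside.char_eq_zero_or_norm_eq_of_coprime ρ g hcop with
      h0 | h1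
    · -- the central character of `χ` at `g` vanishes, but the class size is prime to `p`
      have hsb := hχ g
      have hc1 : Cfsg.centralChar (fun _ : G => (1 : ℂ)) g =
          ((Subgroup.centralizer ({g} : Set G)).index : ℂ) := by
        unfold Cfsg.centralChar
        simp
      have hc2 : Cfsg.centralChar (χ : G → ℂ) g = 0 := by
        unfold Cfsg.centralChar
        rw [← hρ, h0]
        simp
      rw [hc1, hc2, sub_zero,
        Cfsg.Agent.Lib.Helper78_LocalRing.memLocalIdeal_natCast_iff hM] at hsb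
      exact hidx hsb
    · exact Cfsg.Agent.Lib.Helper3_CharBurnside.not_scalar_of_simple_nonabelian hcomm ρ hnt g hg1
        ((Cfsg.Agent.Lib.Helper3_CharEigen.norm_char_eq_iff ρ g).1 h1)

end Cfsg.Agent.S0910
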