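import Cfsg.Statements.S0904
import Mathlib
import Cfsg.Agent.S0907
import Cfsg.Agent.S0910
import Cfsg.Agent.S0914
import Cfsg.Agent.S0135
import Cfsg.Agent.Lib.Helper3_CharBurnside
import Cfsg.Agent.Lib.Helper78_LocalRing
import Cfsg.Agent.Lib.Helper23_ZStarB

set_option autoImplicit false
open Cfsg

namespace Cfsg.Agent.S0904

open Representation
open scoped ComplexConjugate
open Cfsg.Agent.Lib.Helper3_CharBridge Cfsg.Agent.Lib.Helper3_CharEigen
  Cfsg.Agent.Lib.Helper3_CharOrtho Cfsg.Agent.Lib.Helper3_CharComplete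
  Cfsg.Agent.Lib.Helper3_CharColumn Cfsg.Agent.Lib.Helper3_CharDegree
  Cfsg.Agent.Lib.Helper3_CharBurnside Cfsg.Agent.Lib.Helper78_LocalRing

/-- In a simple group of order `p ^ a * q ^ b * r` no element has order divisible by `p * r`. -/
theorem no_pr_element {G : Type*} [Group G] [Finite G] [IsSimpleGroup G]
    {p q r a b : ℕ} (hp : p.Prime) (hq : q.Prime) (hr : r.Prime) (hpr : p ≠ r)
    (hqr : q ≠ r) (hcard : Nat.card G = p ^ a * q ^ b * r) (h : G) (hph : p ∣ orderOf h)
    (hrh : r ∣ orderOf h) : False := by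
  classical
  have := Fintype.ofFinite G
  by_cases hcomm : ∀ a b : G, a * b = b * a
  · let _ : CommGroup G := { ‹Group G› with mul_comm := hcomm }
    have hprime : (Nat.card G).Prime := IsSimpleGroup.prime_card
    have h1 : p ∣ Nat.card G := hph.trans (orderOf_dvd_natCard h)
    have h2 : r ∣ Nat.card G := hrh.trans (orderOf_dvd_natCard h)
    have e1 := (Nat.prime_dvd_prime_iff_eq hp hprime).mp h1
    have e2 := (Nat.prime_dvd_prime_iff_eq hr hprime).mp h2
    exact hpr (e1.trans e2.symm)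
  have hna : ∃ a b : G, a * b ≠ b * a := by
    push Not at hcomm
    exact hcomm
  have : Fact p.Prime := ⟨hp⟩
  have : Fact r.Prime := ⟨hr⟩
  obtain ⟨M, hM⟩ := Cfsg.Agent.Lib.Helper23_ZStarB.exists_pModular p hp
  obtain ⟨M', hM'⟩ := Cfsg.Agent.Lib.Helper23_ZStarB.exists_pModular r hr
  have hMp : M.IsPrime := isPrime_of_isPModular hM
  set χ₀ : Cfsg.IrrCharacter G :=
    ⟨fun _ => 1, Cfsg.Agent.Lib.Helper80_CharBasic.isIrrCharacter_one G⟩ with hχ₀
  set B : Set (Cfsg.IrrCharacter G) := blockOf M (χ₀ : G → ℂ) with hBdef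
  have hB : IsPBlock M B := ⟨χ₀, rfl⟩
  have horth := Cfsg.Agent.S0907.result p M hM B hB (1 : G) h
    (by rw [orderOf_one]; exact hp.not_dvd_one) hph
  have hqC : (q : ℂ) ≠ 0 := by exact_mod_cast hq.ne_zero
  have hterm : ∀ χ : Cfsg.IrrCharacter G, ∃ t : ℂ, IsIntegral ℤ t ∧
      (if χ ∈ B then (χ : G → ℂ) 1 * conj ((χ : G → ℂ) h) else 0) =
        (if χ = χ₀ then 1 else 0) + (q : ℂ) * t := by
    intro χ
    by_cases hχ : χ = χ₀
    · refine ⟨0, isIntegral_zero, ?_⟩
      have hmem : χ₀ ∈ B := mem_blockOf_self hMp χ₀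
      rw [if_pos hχ, hχ, if_pos hmem]
      simp [hχ₀]
    simp only [if_neg hχ, zero_add]
    by_cases hχB : χ ∈ B
    swap
    · exact ⟨0, isIntegral_zero, by rw [if_neg hχB, mul_zero]⟩
    rw [if_pos hχB]
    obtain ⟨n, ρ, hirr, hρ⟩ := χ.2
    have := hirr
    have hd1 : (χ : G → ℂ) 1 = (Module.finrank ℂ (Fin n → ℂ) : ℂ) := by
      rw [← hρ, char_one]
    have hd0 : Module.finrank ℂ (Fin n → ℂ) ≠ 0 := finrank_ne_zero_of_irr ρ
    have hdvd : Module.finrank ℂ (Fin n → ℂ) ∣ Nat.card G := Cfsg.Agent.S0135.result ρ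
    set d := Module.finrank ℂ (Fin n → ℂ) with hd
    have hint : IsIntegral ℤ (conj ((χ : G → ℂ) h)) := by
      rw [← hρ]
      exact map_isIntegral_int (starRingEnd ℂ) (isIntegral_char ρ h)
    by_cases hqd : q ∣ d
    · obtain ⟨m, hm⟩ := hqd
      refine ⟨(m : ℂ) * conj ((χ : G → ℂ) h), ?_, ?_⟩
      · refine IsIntegral.mul (isIntegral_algebraMap (R := ℤ) (x := (m : ℤ)) |>
          (by simpa using ·)) hint
      · rw [hd1, hm]
        push_cast
        ring
    by_cases hrd : r ∣ d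
    · -- defect zero for r
      refine ⟨0, isIntegral_zero, ?_⟩
      rw [mul_zero]
      have hcd : Cfsg.charDegree (χ : G → ℂ) = d := by
        simp [Cfsg.charDegree, hd1]
      have hdz : ¬ r ∣ Nat.card G / Cfsg.charDegree (χ : G → ℂ) := by
        rw [hcd]
        obtain ⟨e, he⟩ := hdvd
        rw [he, Nat.mul_div_cancel_left e (Nat.pos_of_ne_zero hd0)]
        intro hre
        obtain ⟨d', hd'⟩ := hrd
        obtain ⟨e', he'⟩ := hre
        have h3 : r * (r * (d' * e')) = p ^ a * q ^ b * r := by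
          rw [← hcard, he, hd', he']; ring
        have h4 : r * (d' * e') = p ^ a * q ^ b := by
          have := hr.pos
          nlinarith [Nat.eq_of_mul_eq_mul_left hr.pos (by linarith : r * (r * (d' * e')) = r * (p ^ a * q ^ b))]
        have h5 : r ∣ p ^ a * q ^ b := ⟨_, h4.symm⟩
        rcases (Nat.Prime.dvd_mul hr).mp h5 with h6 | h6
        · exact hpr ((Nat.prime_dvd_prime_iff_eq hr hp).mp (hr.dvd_of_dvd_pow h6)).symm
        · exact hqr ((Nat.prime_dvd_prime_iff_eq hr hq).mp (hr.dvd_of_dvd_pow h6)).symm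
      have hblock := (Cfsg.Agent.S0914.result r M' hM' χ).mp hdz
      have h7 := Cfsg.Agent.S0907.result r M' hM' {χ} ⟨χ, hblock.symm⟩ (1 : G) h
        (by rw [orderOf_one]; exact hr.not_dvd_one) hrh
      rw [finsum_mem_singleton] at h7
      exact h7
    · exfalso
      have hcr : Nat.Coprime d r := (Nat.Coprime.symm ((Nat.Prime.coprime_iff_not_dvd hr).mpr hrd))
      have hcq : Nat.Coprime d (q ^ b) :=
        Nat.Coprime.pow_right b (Nat.Coprime.symm ((Nat.Prime.coprime_iff_not_dvd hq).mpr hqd))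
      rw [hcard] at hdvd
      have h8 : d ∣ p ^ a * q ^ b := hcr.dvd_of_dvd_mul_right hdvd
      have h9 : d ∣ p ^ a := hcq.dvd_of_dvd_mul_right h8
      obtain ⟨k, -, hk⟩ := (Nat.dvd_prime_pow hp).mp h9
      have h10 := Cfsg.Agent.S0910.result p M hM hna χ hχB k (by rw [hd1, hk]; push_cast; rfl)
      apply hχ
      apply Subtype.ext
      rw [h10]
  choose t ht1 ht2 using hterm
  rw [finsum_mem_def, finsum_eq_sum_of_fintype] at horth
  simp only [Set.indicator_apply] at horth
  simp_rw [ht2] at horth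
  rw [Finset.sum_add_distrib, Finset.sum_ite_eq' Finset.univ χ₀, if_pos (Finset.mem_univ _),
    ← Finset.mul_sum] at horth
  have hβ : IsIntegral ℤ (∑ χ : Cfsg.IrrCharacter G, t χ) := IsIntegral.sum _ (fun χ _ => ht1 χ)
  have h1 : ((1 : ℕ) : ℂ) / (q : ℂ) = -(∑ χ : Cfsg.IrrCharacter G, t χ) := by
    field_simp
    push_cast
    linear_combination horth
  have h2 : IsIntegral ℤ (((1 : ℕ) : ℂ) / (q : ℂ)) := by
    rw [h1]; exact hβ.neg
  have h3 := dvd_of_isIntegral_div hq.ne_zero h2
  exact hq.one_lt.ne' (Nat.dvd_one.mp h3)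

/-- Let G be a finite simple group of order p ^ a * q ^ b * r with p, q, r distinct primes. Then every Sylow r-subgroup S of G satisfies C_G(S) = S. -/
theorem result {G : Type*} [Group G] [Finite G] [IsSimpleGroup G] (p q r a b : ℕ) (hp : p.Prime) (hq : q.Prime) [Fact r.Prime] (hpq : p ≠ q) (hpr : p ≠ r) (hqr : q ≠ r) (hcard : Nat.card G = p ^ a * q ^ b * r) (S : Sylow r G) : Subgroup.centralizer (S : Set G) = (S : Subgroup G) := by
  classical
  have hr : r.Prime := Fact.out
  have hcardS : Nat.card (S : Subgroup G) = r := by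
    rw [Sylow.card_eq_multiplicity, hcard]
    have hpa : p ^ a ≠ 0 := pow_ne_zero _ hp.ne_zero
    have hqb : q ^ b ≠ 0 := pow_ne_zero _ hq.ne_zero
    rw [Nat.factorization_mul (mul_ne_zero hpa hqb) hr.ne_zero, Nat.factorization_mul hpa hqb,
      hp.factorization_pow, hq.factorization_pow, hr.factorization]
    simp [hpr, hqr]
  have hcyc : IsCyclic (S : Subgroup G) := isCyclic_of_prime_card hcardS
  have hle : (S : Subgroup G) ≤ Subgroup.centralizer (S : Set G) := by
    intro x hx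
    rw [Subgroup.mem_centralizer_iff]
    intro y hy
    let _ : CommGroup (S : Subgroup G) := IsCyclic.commGroup
    exact congrArg Subtype.val (mul_comm (⟨y, hy⟩ : (S : Subgroup G)) ⟨x, hx⟩)
  obtain ⟨s, hs⟩ := exists_prime_orderOf_dvd_card' (G := (S : Subgroup G)) r (by rw [hcardS])
  have hs' : orderOf (s : G) = r := by rw [Subgroup.orderOf_coe, hs]
  set C := Subgroup.centralizer (S : Set G) with hC
  -- no prime other than r divides |C|
  have key : ∀ {l m c e : ℕ}, l.Prime → m.Prime → l ≠ r → m ≠ r →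
      Nat.card G = l ^ c * m ^ e * r → ¬ l ∣ Nat.card C := by
    intro l m c e hl hm hlr hmr hc hdiv
    have : Fact l.Prime := ⟨hl⟩
    obtain ⟨y, hy⟩ := exists_prime_orderOf_dvd_card' (G := C) l hdiv
    have hy' : orderOf (y : G) = l := by rw [Subgroup.orderOf_coe, hy]
    have hcomm : Commute (s : G) (y : G) := by
      have := (Subgroup.mem_centralizer_iff.mp y.2) (s : G) s.2
      exact this
    have hcop : Nat.Coprime (orderOf (s : G)) (orderOf (y : G)) := by
      rw [hs', hy']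
      exact (Nat.coprime_primes hr hl).mpr (Ne.symm hlr)
    have hord := hcomm.orderOf_mul_eq_mul_orderOf_of_coprime hcop
    rw [hs', hy'] at hord
    exact no_pr_element hl hm hr hlr hmr hc ((s : G) * (y : G))
      (by rw [hord]; exact dvd_mul_left _ _) (by rw [hord]; exact dvd_mul_right _ _)
  have hpC : ¬ p ∣ Nat.card C := key (c := a) (e := b) hp hq hpr hqr hcard
  have hqC : ¬ q ∣ Nat.card C := key (c := b) (e := a) hq hp hqr hpr (by rw [hcard]; ring)
  have hCdvd : Nat.card C ∣ p ^ a * q ^ b * r := by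
    rw [← hcard]; exact Subgroup.card_subgroup_dvd_card C
  have hcp : Nat.Coprime (Nat.card C) (p ^ a) :=
    Nat.Coprime.pow_right a (Nat.Coprime.symm ((Nat.Prime.coprime_iff_not_dvd hp).mpr hpC))
  have hcq : Nat.Coprime (Nat.card C) (q ^ b) :=
    Nat.Coprime.pow_right b (Nat.Coprime.symm ((Nat.Prime.coprime_iff_not_dvd hq).mpr hqC))
  have h1 : Nat.card C ∣ r := by
    have h2 : Nat.card C ∣ p ^ a * (q ^ b * r) := by rwa [mul_assoc] at hCdvd
    have h3 := hcp.dvd_of_dvd_mul_left h2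
    exact hcq.dvd_of_dvd_mul_left h3
  have h4 : Nat.card C ≤ Nat.card (S : Subgroup G) := by
    rw [hcardS]; exact Nat.le_of_dvd hr.pos h1
  exact (Subgroup.eq_of_le_of_card_ge hle h4).symm

end Cfsg.Agent.S0904
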