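import Mathlib
import Cfsg.Statements.S1001
import Cfsg.Agent.S0904
import Cfsg.Agent.Lib.Helper3_CharBurnside

set_option autoImplicit false
open Cfsg

namespace Cfsg.Agent.S1001

/-- In a finite simple group whose order has the form p * 3^a * 2^b with p prime, the centralizer of any element of order p is the cyclic group it generates. -/
theorem result {G : Type*} [Group G] [Finite G] [IsSimpleGroup G] (p a b : ℕ) (hp : p.Prime) (hG : Nat.card G = p * 3 ^ a * 2 ^ b) (x : G) (hx : orderOf x = p) : Subgroup.centralizer ({x} : Set G) = Subgroup.zpowers x := by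
  have hpf : Fact p.Prime := ⟨hp⟩
  have hcz : Subgroup.centralizer ({x} : Set G)
      = Subgroup.centralizer ((Subgroup.zpowers x : Subgroup G) : Set G) := by
    apply le_antisymm
    · intro g hg
      rw [Subgroup.mem_centralizer_iff]
      intro y hy
      obtain ⟨k, rfl⟩ := Subgroup.mem_zpowers_iff.mp hy
      have hc : Commute x g := (Subgroup.mem_centralizer_iff.mp hg) x rfl
      exact hc.zpow_left k
    · apply Subgroup.centralizer_le
      intro y hy
      rw [Set.mem_singleton_iff] at hy
      subst hy
      exact Subgroup.mem_zpowers _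
  have hzcard : Nat.card (Subgroup.zpowers x) = p := by rw [Nat.card_zpowers, hx]
  by_cases h23 : p = 2 ∨ p = 3
  · -- `G` is a `{2,3}`-group, hence solvable, hence of prime order
    have hsolv : Group.IsSolvable G := by
      rcases h23 with rfl | rfl
      · exact Cfsg.Agent.Lib.Helper3_CharBurnside.burnside_paqb 3 2 a (b + 1)
          Nat.prime_three Nat.prime_two (by rw [hG]; ring)
      · exact Cfsg.Agent.Lib.Helper3_CharBurnside.burnside_paqb 3 2 (a + 1) b
          Nat.prime_three Nat.prime_two (by rw [hG]; ring)
    have hcomm : ∀ a b : G, a * b = b * a := IsSimpleGroup.comm_iff_isSolvable.mpr hsolv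
    let _ : CommGroup G := { (inferInstance : Group G) with mul_comm := hcomm }
    have hprime : (Nat.card G).Prime := IsSimpleGroup.prime_card
    have hdvd : p ∣ Nat.card G := hx ▸ orderOf_dvd_natCard x
    have hpG : p = Nat.card G := (Nat.prime_dvd_prime_iff_eq hp hprime).mp hdvd
    have htop : Subgroup.zpowers x = ⊤ :=
      Subgroup.eq_top_of_card_eq _ (by rw [hzcard, ← hpG])
    rw [htop]
    rw [Subgroup.centralizer_eq_top_iff_subset]
    intro y _
    show y ∈ Subgroup.center G
    rw [Subgroup.mem_center_iff]
    intro g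
    exact hcomm g y
  · push Not at h23
    obtain ⟨hp2, hp3⟩ := h23
    have hcard : Nat.card G = 3 ^ a * 2 ^ b * p := by rw [hG]; ring
    have hzp : IsPGroup p (Subgroup.zpowers x) := IsPGroup.of_card (n := 1) (by rw [hzcard, pow_one])
    obtain ⟨S, hS⟩ := hzp.exists_le_sylow
    have hres := Cfsg.Agent.S0904.result (G := G) 3 2 p a b Nat.prime_three Nat.prime_two
      (by norm_num) (Ne.symm hp3) (Ne.symm hp2) hcard S
    -- `S` has order `p`
    have hScard : Nat.card (S : Subgroup G) = p := by
      obtain ⟨k, hk⟩ := S.2.exists_card_eq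
      have hdvd : p ^ k ∣ p * (3 ^ a * 2 ^ b) := by
        rw [← hk, ← mul_assoc, ← hG]
        exact (S : Subgroup G).card_subgroup_dvd_card
      have hk1 : 1 ≤ k := by
        have := Subgroup.card_le_of_le hS
        rw [hzcard, hk] at this
        by_contra hcon
        push Not at hcon
        have hk0 : k = 0 := by omega
        rw [hk0, pow_zero] at this
        exact absurd this (by have := hp.two_le; omega)
      have hk2 : k ≤ 1 := by
        by_contra hcon
        push Not at hcon
        have h2 : p ^ 2 ∣ p * (3 ^ a * 2 ^ b) := (pow_dvd_pow p hcon).trans hdvd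
        rw [pow_two] at h2
        have h3 : p ∣ 3 ^ a * 2 ^ b := (Nat.mul_dvd_mul_iff_left hp.pos).mp h2
        rcases (Nat.Prime.dvd_mul hp).mp h3 with h | h
        · exact hp3 ((Nat.prime_dvd_prime_iff_eq hp Nat.prime_three).mp (hp.dvd_of_dvd_pow h))
        · exact hp2 ((Nat.prime_dvd_prime_iff_eq hp Nat.prime_two).mp (hp.dvd_of_dvd_pow h))
      have : k = 1 := le_antisymm hk2 hk1
      rw [hk, this, pow_one]
    have hzS : Subgroup.zpowers x = (S : Subgroup G) :=
      Subgroup.eq_of_le_of_card_ge hS (by rw [hScard, hzcard])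
    rw [hcz, hzS]
    exact hres

end Cfsg.Agent.S1001
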