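import Mathlib
import Cfsg.Statements.S0287
import Cfsg.Agent.Lib.Helper5_OrthOrder
import Cfsg.Agent.Lib.Helper44_StdForms
import Cfsg.Agent.Lib.Helper44_Levi
import Cfsg.Agent.S0289

set_option autoImplicit false
open Cfsg

namespace Cfsg.Agent.S0287

open Cfsg.Agent.Lib.Helper5_OrthOrder Cfsg.Agent.Lib.Helper44_StdForms

/-- reindexing `Fin 2 ⊕ (Fin k ⊕ Fin k) ≃ Fin (k+1) ⊕ Fin (k+1)` -/
def eP (k : ℕ) : Fin 2 ⊕ (Fin k ⊕ Fin k) ≃ Fin (k + 1) ⊕ Fin (k + 1) where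
  toFun := Sum.elim ![Sum.inl 0, Sum.inr 0] (Sum.map Fin.succ Fin.succ)
  invFun := Sum.elim (Fin.cases (Sum.inl 0) (fun i => Sum.inr (Sum.inl i)))
    (Fin.cases (Sum.inl 1) (fun i => Sum.inr (Sum.inr i)))
  left_inv x := by
    rcases x with x | x | x
    · fin_cases x <;> simp
    · simp
    · simp
  right_inv x := by
    rcases x with x | x <;> refine Fin.cases ?_ (fun j => ?_) x <;> simp

lemma quadFormPlus_succ {F : Type*} [Field F] (k : ℕ) (w : Fin (k + 1) ⊕ Fin (k + 1) → F) :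
    Cfsg.quadFormPlus (k + 1) F w = QH (qfPlus k F) (w ∘ eP k) := by
  rw [QH_apply, coe_qfPlus]
  unfold Cfsg.quadFormPlus
  rw [Fin.sum_univ_succ]
  simp [eP]

lemma nondeg_qfPlus {F : Type*} [Field F] (k : ℕ) :
    ∀ x, (∀ y, QuadraticMap.polar (⇑(qfPlus k F)) x y = 0) → x = 0 := by
  intro x hx
  exact (Cfsg.Agent.Lib.Helper44_Levi.nondegenerate_qfPlus (m := k) (F := F)).1 x
    (fun y => by simpa using hx y)

lemma arith1 (q k : ℕ) (hq : 1 ≤ q) :
    q ^ (2 * (k + 1) - 1) + q ^ (k + 1) - q ^ (k + 1 - 1) - 1 = (q ^ (k + 1) - 1) * (q ^ k + 1) := by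
  obtain ⟨y, hy⟩ : ∃ y, q ^ k = y + 1 := ⟨q ^ k - 1, by have := Nat.one_le_pow k q hq; omega⟩
  obtain ⟨p, rfl⟩ : ∃ p, q = p + 1 := ⟨q - 1, by omega⟩
  have e1 : 2 * (k + 1) - 1 = 1 + k + k := by omega
  have e2 : k + 1 - 1 = k := by omega
  rw [e1, e2, pow_succ, pow_add, pow_add, pow_one, hy]
  have h1 : (y + 1) * (p + 1) - 1 = p * y + p + y := by
    rw [Nat.sub_eq_iff_eq_add (Nat.succ_le_of_lt (Nat.mul_pos (Nat.succ_pos _) (Nat.succ_pos _)))]; simp only [Nat.succ_eq_add_one]; ring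
  rw [h1, Nat.sub_sub]
  apply Nat.sub_eq_of_eq_add
  ring

theorem card_succ {F : Type*} [Field F] [Fintype F] (k : ℕ) :
    Nat.card (Cfsg.isometryGroup F (Cfsg.quadFormPlus (k + 1) F)) =
      (Fintype.card F ^ (k + 1) - 1) * (Fintype.card F ^ k + 1) * Fintype.card F ^ (2 * k)
        * Nat.card (Cfsg.isometryGroup F (Cfsg.quadFormPlus k F)) := by
  have h := card_step (eP k) (qfPlus k F) (nondeg_qfPlus k) (Cfsg.quadFormPlus (k + 1) F)
    (quadFormPlus_succ k)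
  rw [coe_qfPlus, Cfsg.Agent.S0289.result rfl (k + 1) (by omega),
    arith1 _ k Fintype.card_pos] at h
  rw [h]
  simp only [Fintype.card_sum, Fintype.card_fin]
  rw [← two_mul]

lemma arith2 (x : ℕ) (k : ℕ) (hx : 1 ≤ x) : (x ^ (k + 1) + 1) * (x ^ (k + 1) - 1) = x ^ (2 * (k + 1)) - 1 := by
  obtain ⟨y, hy⟩ : ∃ y, x ^ (k + 1) = y + 1 := ⟨x ^ (k + 1) - 1, by have := Nat.one_le_pow (k + 1) x hx; omega⟩
  rw [pow_mul', pow_two, hy]
  symm
  apply Nat.sub_eq_of_eq_add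
  simp only [Nat.add_sub_cancel]
  ring

theorem card_zero {F : Type*} [Field F] [Fintype F] :
    Nat.card (Cfsg.isometryGroup F (Cfsg.quadFormPlus 0 F)) = 1 := by
  have : Subsingleton (Cfsg.isometryGroup F (Cfsg.quadFormPlus 0 F)) :=
    ⟨fun a b => Subtype.ext (Units.ext (Subsingleton.elim _ _))⟩
  exact Nat.card_of_subsingleton 1

theorem card_plus {F : Type*} [Field F] [Fintype F] (k : ℕ) :
    Nat.card (Cfsg.isometryGroup F (Cfsg.quadFormPlus (k + 1) F)) =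
      2 * Fintype.card F ^ ((k + 1) * k) * (Fintype.card F ^ (k + 1) - 1)
        * ∏ i ∈ Finset.range k, (Fintype.card F ^ (2 * (i + 1)) - 1) := by
  induction k with
  | zero =>
    rw [card_succ, card_zero]
    simp
    ring
  | succ k ih =>
    rw [card_succ, ih, Finset.prod_range_succ, ← arith2 _ k Fintype.card_pos]
    have : (k + 1 + 1) * (k + 1) = 2 * (k + 1) + (k + 1) * k := by ring
    rw [this, pow_add]
    ring

/-- |GO^+_{2m}(q)| = 2 q^(m(m-1)) (q^m - 1) prod_{i=1}^{m-1} (q^(2i) - 1), m at least 1, all q. -/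
theorem result {F : Type*} [Field F] [Fintype F] {q : ℕ} (hF : Fintype.card F = q) (m : ℕ) (hm : 1 ≤ m) : Nat.card (Cfsg.isometryGroup F (Cfsg.quadFormPlus m F)) = 2 * q ^ (m * (m - 1)) * (q ^ m - 1) * ∏ i ∈ Finset.range (m - 1), (q ^ (2 * (i + 1)) - 1) := by
  obtain ⟨k, rfl⟩ : ∃ k, m = k + 1 := ⟨m - 1, by omega⟩
  subst hF
  simpa using card_plus (F := F) k

end Cfsg.Agent.S0287
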