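import Cfsg.Statements.S0293
import Cfsg.Agent.Lib.Helper44_POmegaCard
import Cfsg.Agent.Lib.Helper44_StdForms
import Cfsg.Agent.Lib.Helper44_NegPairs
import Cfsg.Agent.Lib.Helper44_Levi
import Cfsg.Agent.S0287

set_option autoImplicit false
open Cfsg

namespace Cfsg.Agent.S0293

open Module Cfsg.Agent.Lib.Helper44_Orth Cfsg.Agent.Lib.Helper44_Refl Cfsg.Agent.Lib.Helper44_Spinor
  Cfsg.Agent.Lib.Helper44_StdForms Cfsg.Agent.Lib.Helper44_Center Cfsg.Agent.Lib.Helper44_Index
  Cfsg.Agent.Lib.Helper44_POmegaCard Cfsg.Agent.Lib.Helper44_OmegaOdd Cfsg.Agent.Lib.Helper44_NegPairs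

/-- gcd(4, q^m - 1) |PΩ^+_{2m}(q)| = q^(m(m-1)) (q^m - 1) prod_{i=1}^{m-1} (q^(2i) - 1), m at least 4 (type D_m). -/
theorem result {F : Type*} [Field F] [Fintype F] {q : ℕ} (hF : Fintype.card F = q) (m : ℕ) (hm : 4 ≤ m) : Nat.gcd 4 (q ^ m - 1) * Nat.card (Cfsg.POmega F (Cfsg.quadFormPlus m F)) = q ^ (m * (m - 1)) * (q ^ m - 1) * ∏ i ∈ Finset.range (m - 1), (q ^ (2 * (i + 1)) - 1) := by
  classical
  have hO := Cfsg.Agent.S0287.result hF m (by omega)
  have hneg_iff : (2 : F) ≠ 0 → (negOne (qfPlus m F) ∈ Cfsg.Omega F (⇑(qfPlus m F))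
      ↔ IsSquare ((-1 : F) ^ m)) := by
    intro h2
    have h := plus_iff (F := F) h2 m (le_refl m)
    have hdiag : Matrix.diagonal (fun k : Fin m ⊕ Fin m =>
        if (Sum.elim (fun j : Fin m => (j : ℕ)) (fun j : Fin m => (j : ℕ)) k) < m
          then (-1 : F) else 1) = -1 := by
      ext a b
      rcases a with a | a <;> rcases b with b | b <;>
        simp [Matrix.diagonal_apply, Matrix.one_apply, a.2]
      all_goals (split_ifs <;> simp)
    rw [hdiag, ← coe_qfPlus] at h
    rw [← h]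
    constructor
    · intro hmem
      exact ⟨negOne (qfPlus m F), hmem, negOne_coe _⟩
    · rintro ⟨g, hg, hgm⟩
      have : g = negOne (qfPlus m F) := by
        apply Subtype.ext
        apply Units.ext
        rw [hgm, negOne_coe]
      rw [← this]
      exact hg
  rw [← coe_qfPlus] at hO ⊢
  have hQ := Cfsg.Agent.Lib.Helper44_Levi.nondegenerate_qfPlus (m := m) (F := F)
  have hcard : Fintype.card (Fin m ⊕ Fin m) = 2 * m := by
    simp [Fintype.card_sum]; ring
  have hex : Fintype.card F ≠ 2 ∨ Fintype.card (Fin m ⊕ Fin m) ≠ 4 := by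
    right; rw [hcard]; omega
  -- the hyperbolic pair and a non-singular vector orthogonal to it
  set i0 : Fin m := ⟨0, by omega⟩ with hi0
  set i1 : Fin m := ⟨1, by omega⟩ with hi1
  have h01 : i0 ≠ i1 := by simp [hi0, hi1, Fin.ext_iff]
  set e : Fin m ⊕ Fin m → F := Pi.single (Sum.inl i0) 1 with he'
  set f : Fin m ⊕ Fin m → F := Pi.single (Sum.inr i0) 1 with hf'
  set w₀ : Fin m ⊕ Fin m → F := Pi.single (Sum.inl i1) 1 + Pi.single (Sum.inr i1) 1 with hw'
  have he : qfPlus m F e = 0 := by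
    rw [coe_qfPlus, Cfsg.quadFormPlus, he']
    simp
  have hf : qfPlus m F f = 0 := by
    rw [coe_qfPlus, Cfsg.quadFormPlus, hf']
    simp
  have hw₀ : qfPlus m F w₀ ≠ 0 := by
    rw [coe_qfPlus, Cfsg.quadFormPlus, hw']
    simp [Pi.single_apply]
  have hef : QuadraticMap.polar (⇑(qfPlus m F)) e f = 1 := by
    rw [coe_qfPlus, polar_quadFormPlus, he', hf']
    simp [Pi.single_apply]
  have hew : QuadraticMap.polar (⇑(qfPlus m F)) e w₀ = 0 := by
    rw [coe_qfPlus, polar_quadFormPlus, he', hw']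
    simp [Pi.single_apply, h01, h01.symm]
  have hfw : QuadraticMap.polar (⇑(qfPlus m F)) f w₀ = 0 := by
    rw [coe_qfPlus, polar_quadFormPlus, hf', hw']
    simp [Pi.single_apply, h01, h01.symm]
  have hcent := fun z₀ hz₀ => centralizer_omega (qfPlus m F) hQ hex (by rw [hcard]; omega)
    he hf hef hw₀ hew hfw z₀ hz₀
  have hmul := card_pomega_mul (⇑(qfPlus m F))
  rw [hO] at hmul
  set X := q ^ (m * (m - 1)) * (q ^ m - 1) * ∏ i ∈ Finset.range (m - 1), (q ^ (2 * (i + 1)) - 1)
    with hX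
  have h3 : 2 * q ^ (m * (m - 1)) * (q ^ m - 1) * ∏ i ∈ Finset.range (m - 1), (q ^ (2 * (i + 1)) - 1)
      = 2 * X := by rw [hX]; ring
  rw [h3] at hmul
  by_cases h2 : (2 : F) = 0
  · -- characteristic two
    have hidx := index_omega_two h2 (qfPlus m F) hQ hex hw₀
    have hc1 := card_center_eq_one (qfPlus m F) hcent (Or.inl h2)
    rw [hc1, hidx] at hmul
    have hq2 : Even q := by
      rw [← hF]
      have hc : ringChar F = 2 :=
        CharP.ringChar_of_prime_eq_zero Nat.prime_two (by exact_mod_cast h2)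
      exact Nat.even_iff.mpr (FiniteField.even_card_of_char_two hc)
    have hodd : Odd (q ^ m - 1) := by
      have hqm : Even (q ^ m) := (Nat.even_pow.mpr ⟨hq2, by omega⟩)
      have hpos : 0 < q ^ m := by
        apply Nat.pow_pos
        rw [← hF]; exact Fintype.card_pos
      obtain ⟨k, hk⟩ := hqm
      exact ⟨k - 1, by omega⟩
    have hg : Nat.gcd 4 (q ^ m - 1) = 1 := by
      have : Nat.Coprime (2 ^ 2) (q ^ m - 1) :=
        Nat.Coprime.pow_left 2 (Nat.coprime_two_left.mpr hodd)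
      exact this
    rw [hg]
    omega
  · have hqodd : Odd q := by
      rw [← hF]
      exact Cfsg.Agent.Lib.Helper44_FinSq.odd_card_of_two_ne_zero h2
    have hidx := index_omega_odd h2 (qfPlus m F) hQ (by rw [hcard]; omega)
    rw [hidx] at hmul
    have hiff := (hneg_iff h2).trans (isSquare_neg_one_pow_iff hF hqodd m)
    have hqm : q ^ m % 4 = 1 ∨ q ^ m % 4 = 3 := by
      have : Odd (q ^ m) := hqodd.pow
      rw [Nat.odd_iff] at this
      omega
    have : Nonempty (Fin m ⊕ Fin m) := ⟨Sum.inl i0⟩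
    rcases hqm with h1 | h3'
    · have hc2 := card_center_eq_two (qfPlus m F) h2 hcent (hiff.mpr h1)
      rw [hc2] at hmul
      have hg : Nat.gcd 4 (q ^ m - 1) = 4 := by
        apply Nat.gcd_eq_left
        omega
      rw [hg]
      omega
    · have hnot : negOne (qfPlus m F) ∉ Cfsg.Omega F (⇑(qfPlus m F)) := by
        intro hmem
        have := hiff.mp hmem
        omega
      have hc1 := card_center_eq_one (qfPlus m F) hcent (Or.inr hnot)
      rw [hc1] at hmul
      have hg : Nat.gcd 4 (q ^ m - 1) = 2 := by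
        rw [Nat.gcd_rec]
        have : (q ^ m - 1) % 4 = 2 := by omega
        rw [this]
        rfl
      rw [hg]
      omega

end Cfsg.Agent.S0293
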