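import Cfsg.Statements.S2620
import Cfsg.Agent.Lib.Helper44_Disc
import Cfsg.Agent.Lib.Helper44_StdForms

set_option autoImplicit false
open Cfsg

namespace Cfsg.Agent.S2620

open Cfsg.Agent.Lib.Helper44_Disc Cfsg.Agent.Lib.Helper44_StdForms

theorem arith {q m : ℕ} (hq : Odd q) : Even (m * (q - 1) / 2) ↔ (Even m ∨ q % 4 ≠ 3) := by
  obtain ⟨t, rfl⟩ := hq
  have h1 : m * (2 * t + 1 - 1) / 2 = m * t := by
    rw [Nat.add_sub_cancel, mul_comm 2 t, ← mul_assoc, Nat.mul_div_cancel _ (by norm_num : 0 < 2)]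
  rw [h1, Nat.even_mul]
  have h2 : (2 * t + 1) % 4 ≠ 3 ↔ Even t := by
    rw [Nat.even_iff]; omega
  rw [h2]

/-- Discriminant of the hyperbolic quadratic form Σ_(i<m) x_i y_i over a field with q elements, q odd, m ≥ 1: the determinant of the Gram matrix of its polar form in any basis is a square if and only if m(q − 1)/2 is even (equivalently q^m ≡ 1 (mod 4)). -/
theorem result {F : Type*} [Field F] [Fintype F] {q : ℕ} (hF : Fintype.card F = q) (hq : Odd q) {m : ℕ} (hm : 1 ≤ m) {ι : Type*} [Fintype ι] [DecidableEq ι] (b : Module.Basis ι F (Fin m ⊕ Fin m → F)) : IsSquare (Matrix.of (fun i j : ι => QuadraticMap.polar (Cfsg.quadFormPlus m F) (b i) (b j))).det ↔ Even (m * (q - 1) / 2) := by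
  classical
  have h1 : (Matrix.of (fun i j : ι => QuadraticMap.polar (Cfsg.quadFormPlus m F) (b i) (b j)))
      = (Matrix.of (fun i j : ι => QuadraticMap.polar ⇑(qfPlus m F) (b i) (b j))) := by
    rw [coe_qfPlus]
  rw [h1, isSquare_polar_gram_det_iff (qfPlus m F) b (Pi.basisFun F (Fin m ⊕ Fin m))]
  have h2 : (Matrix.of (fun i j : Fin m ⊕ Fin m => QuadraticMap.polar ⇑(qfPlus m F)
      ((Pi.basisFun F (Fin m ⊕ Fin m)) i) ((Pi.basisFun F (Fin m ⊕ Fin m)) j))).det = (-1) ^ m := by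
    rw [coe_qfPlus]
    simp only [Pi.basisFun_apply]
    exact det_gram_quadFormPlus
  rw [h2, arith hq]
  rcases Nat.even_or_odd m with hm' | hm'
  · simp [hm'.neg_one_pow, hm']
  · rw [hm'.neg_one_pow, FiniteField.isSquare_neg_one_iff, hF]
    have : ¬ Even m := Nat.not_even_iff_odd.mpr hm'
    simp [this]

end Cfsg.Agent.S2620
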