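import Mathlib
import Cfsg.Statements.S0790
import Cfsg.Agent.Lib.Helper14_NegOne
import Cfsg.Agent.Lib.Helper44_StdForms
import Cfsg.Agent.Lib.Helper44_FinSq
import Cfsg.Agent.S2620

set_option autoImplicit false
open Cfsg

namespace Cfsg.Agent.S0790

open Cfsg.Agent.Lib.Helper44_StdForms Cfsg.Agent.Lib.Helper44_FinSq Cfsg.Agent.Lib.Helper14_NegOne

theorem arith {q m : ℕ} (hq : Odd q) : q ^ m % 4 = 1 ↔ (Even m ∨ q % 4 ≠ 3) := by
  have hq4 : q % 4 = 1 ∨ q % 4 = 3 := by
    obtain ⟨t, rfl⟩ := hq; omega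
  rw [Nat.pow_mod]
  rcases hq4 with h | h
  · rw [h]; simp
  · rw [h]
    rcases Nat.even_or_odd m with hm | hm
    · obtain ⟨k, rfl⟩ := hm
      have : 3 ^ (k + k) % 4 = 1 := by
        rw [← two_mul, pow_mul, Nat.pow_mod]; norm_num
      simp [this]
    · obtain ⟨k, rfl⟩ := hm
      have : 3 ^ (2 * k + 1) % 4 = 3 := by
        rw [pow_succ, pow_mul, Nat.mul_mod, Nat.pow_mod]; norm_num
      rw [this]
      simp

/-- nondegeneracy from a nonzero Gram determinant in the standard basis -/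
theorem nondeg_of_gram_det_ne_zero {ι : Type} [Fintype ι] [DecidableEq ι] {F : Type*} [Field F]
    (Q : QuadraticForm F (ι → F))
    (h : (Matrix.of (fun i j : ι => QuadraticMap.polar (⇑Q) (Pi.single i 1) (Pi.single j 1))).det ≠ 0) :
    (QuadraticMap.polarBilin Q).Nondegenerate := by
  apply LinearMap.BilinForm.nondegenerate_of_det_ne_zero (QuadraticMap.polarBilin Q) (Pi.basisFun F ι)
  convert h using 2
  ext i j
  simp [LinearMap.BilinForm.toMatrix_apply]

theorem result {F : Type*} [Field F] [Fintype F] {q : ℕ} (hF : Fintype.card F = q) (hodd : Odd q) (m : ℕ) (hm : 1 ≤ m) : (∃ g : ↥(Cfsg.isometryGroup F (Cfsg.quadFormPlus m F)), g ∈ Cfsg.Omega F (Cfsg.quadFormPlus m F) ∧ ((g : Matrix.GeneralLinearGroup (Fin m ⊕ Fin m) F) : Matrix (Fin m ⊕ Fin m) (Fin m ⊕ Fin m) F) = -1) ↔ q ^ m % 4 = 1 := by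
  have h2 : (2 : F) ≠ 0 := two_ne_zero_of_odd_card (hF ▸ hodd)
  have hdet : (Matrix.of (fun i j : Fin m ⊕ Fin m =>
      QuadraticMap.polar (⇑(qfPlus m F)) (Pi.single i 1) (Pi.single j 1))).det = (-1) ^ m := by
    rw [coe_qfPlus]; exact det_gram_quadFormPlus
  have hQ : (QuadraticMap.polarBilin (qfPlus m F)).Nondegenerate := by
    apply nondeg_of_gram_det_ne_zero
    rw [hdet]
    exact pow_ne_zero _ (by simp)
  have heven : Even (Fintype.card (Fin m ⊕ Fin m)) := by
    rw [Fintype.card_sum, Fintype.card_fin]; exact ⟨m, rfl⟩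
  have key := exists_neg_one_mem_omega_iff h2 (qfPlus m F) hQ heven
  rw [coe_qfPlus] at key
  rw [key]
  have := Cfsg.Agent.S2620.result hF hodd hm (Pi.basisFun F (Fin m ⊕ Fin m))
  simp only [Pi.basisFun_apply] at this
  rw [this, Cfsg.Agent.S2620.arith hodd, arith hodd]

end Cfsg.Agent.S0790
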