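import Mathlib
import Cfsg.Agent.Lib.Helper13_SympTrans
import Cfsg.Statements.S0246

set_option autoImplicit false
open Cfsg

namespace Cfsg.Agent.S0246

open Matrix Cfsg.Agent.Lib.Helper13_Symp Cfsg.Agent.Lib.Helper13_SympTrans

variable {F : Type*} [Field F]

/-- A central element of `Sp_{2m}(F)` is a scalar matrix. -/
theorem center_scalar (m : ℕ) (z : Matrix.symplecticGroup (Fin m) F)
    (hz : z ∈ Subgroup.center (Matrix.symplecticGroup (Fin m) F)) :
    ∃ a : F, (z : Matrix (Fin m ⊕ Fin m) (Fin m ⊕ Fin m) F) = a • 1 := by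
  set Z : Matrix (Fin m ⊕ Fin m) (Fin m ⊕ Fin m) F := (z : Matrix (Fin m ⊕ Fin m) (Fin m ⊕ Fin m) F) with hZ
  have key : ∀ v : Fin m ⊕ Fin m → F, v ≠ 0 → ∃ a : F, a • v = Z *ᵥ v := by
    intro v hv
    obtain ⟨x, hx⟩ := exists_sympForm_ne_zero m hv
    have hx' : Cfsg.sympForm m F x v ≠ 0 := by
      rw [sympForm_swap]; exact neg_ne_zero.mpr hx
    have hcomm : z * transv m v 1 = transv m v 1 * z := (Subgroup.mem_center_iff.mp hz (transv m v 1)).symm
    have h1 : Z *ᵥ ((transv m v 1 : Matrix (Fin m ⊕ Fin m) (Fin m ⊕ Fin m) F) *ᵥ x) =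
        (transv m v 1 : Matrix (Fin m ⊕ Fin m) (Fin m ⊕ Fin m) F) *ᵥ (Z *ᵥ x) := by
      rw [Matrix.mulVec_mulVec, Matrix.mulVec_mulVec, hZ, ← Submonoid.coe_mul, ← Submonoid.coe_mul, hcomm]
    rw [transv_mulVec, transv_mulVec, Matrix.mulVec_add, Matrix.mulVec_smul, one_mul, one_mul] at h1
    have h2 : Cfsg.sympForm m F x v • (Z *ᵥ v) = Cfsg.sympForm m F (Z *ᵥ x) v • v := add_left_cancel h1
    refine ⟨Cfsg.sympForm m F (Z *ᵥ x) v / Cfsg.sympForm m F x v, ?_⟩
    rw [div_eq_inv_mul, mul_smul, ← h2, smul_smul, inv_mul_cancel₀ hx', one_smul]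
  set f : (Fin m ⊕ Fin m → F) →ₗ[F] (Fin m ⊕ Fin m → F) := Matrix.toLin' Z with hf
  obtain ⟨a, ha⟩ := f.exists_eq_smul_id_of_forall_notLinearIndependent fun v ↦ by
    by_cases hv : v = 0
    · simp [hv, linearIndependent_fin2]
    · rw [LinearIndependent.pair_iff' hv]
      push Not
      obtain ⟨a, ha⟩ := key v hv
      exact ⟨a, by rw [hf, Matrix.toLin'_apply]; exact ha⟩
  refine ⟨a, ?_⟩
  have : Z = LinearMap.toMatrix' f := by rw [hf, LinearMap.toMatrix'_toLin']
  rw [this, ha]
  simp [LinearMap.toMatrix'_one]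

theorem center_eq_one_or_neg_one (m : ℕ) (hm : 1 ≤ m) (z : Matrix.symplecticGroup (Fin m) F)
    (hz : z ∈ Subgroup.center (Matrix.symplecticGroup (Fin m) F)) :
    (z : Matrix (Fin m ⊕ Fin m) (Fin m ⊕ Fin m) F) = 1 ∨ (z : Matrix (Fin m ⊕ Fin m) (Fin m ⊕ Fin m) F) = -1 := by
  obtain ⟨a, ha⟩ := center_scalar m z hz
  have hne : ∃ v : Fin m ⊕ Fin m → F, v ≠ 0 := by
    refine ⟨Pi.single (Sum.inl ⟨0, hm⟩) 1, ?_⟩
    intro h
    have := congrFun h (Sum.inl ⟨0, hm⟩)
    simp at this
  obtain ⟨v, hv⟩ := hne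
  obtain ⟨w, hw⟩ := exists_sympForm_ne_zero m hv
  have h1 := sympForm_mulVec_mulVec_of_mem m z.2 v w
  rw [ha] at h1
  simp only [Matrix.smul_mulVec, Matrix.one_mulVec, sympForm_smul_left, sympForm_smul_right] at h1
  have h2 : (a * a - 1) * Cfsg.sympForm m F v w = 0 := by linear_combination h1
  rcases mul_eq_zero.mp h2 with h | h
  · have h3 : (a - 1) * (a + 1) = 0 := by linear_combination h
    rcases mul_eq_zero.mp h3 with h | h
    · left
      rw [ha, show a = 1 by linear_combination h, one_smul]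
    · right
      rw [ha, show a = -1 by linear_combination h, neg_smul, one_smul]
  · exact absurd h hw


/-- The centre of Sp_{2m}(q), m at least 1, is {1, -1}: it has order gcd(2, q-1). -/
theorem result {F : Type*} [Field F] [Fintype F] {q : ℕ} (hF : Fintype.card F = q) (m : ℕ) (hm : 1 ≤ m) : Nat.card (Subgroup.center (Matrix.symplecticGroup (Fin m) F)) = Nat.gcd 2 (q - 1) := by
  classical
  have hq1 : 1 < q := by rw [← hF]; exact Fintype.one_lt_card
  by_cases hchar : ringChar F = 2
  · -- characteristic two: centre is trivial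
    have heven := FiniteField.even_card_of_char_two hchar
    rw [hF] at heven
    have h2 : (2 : F) = 0 := by
      have := CharP.cast_eq_zero F (ringChar F)
      rw [hchar] at this
      exact_mod_cast this
    have hneg : (-1 : Matrix (Fin m ⊕ Fin m) (Fin m ⊕ Fin m) F) = 1 := by
      have : (-1 : F) = 1 := by linear_combination -h2
      rw [← neg_one_smul F (1 : Matrix (Fin m ⊕ Fin m) (Fin m ⊕ Fin m) F), this, one_smul]
    have hbot : Subgroup.center (Matrix.symplecticGroup (Fin m) F) = ⊥ := by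
      rw [Subgroup.eq_bot_iff_forall]
      intro z hz
      apply Subtype.ext
      rcases center_eq_one_or_neg_one m hm z hz with h | h
      · rw [h]; rfl
      · rw [h, hneg]; rfl
    rw [hbot, Subgroup.card_bot]
    have : (q - 1) % 2 = 1 := by omega
    rw [Nat.gcd_rec, this]
    rfl
  · have hodd := FiniteField.odd_card_of_char_ne_two hchar
    rw [hF] at hodd
    have h2 : (2 : F) ≠ 0 := Ring.two_ne_zero hchar
    let n1 : Matrix.symplecticGroup (Fin m) F := ⟨-1, SymplecticGroup.neg_mem (Submonoid.one_mem _)⟩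
    have hn1 : n1 ∈ Subgroup.center (Matrix.symplecticGroup (Fin m) F) := by
      rw [Subgroup.mem_center_iff]
      intro g
      apply Subtype.ext
      simp [n1]
    have hne : (1 : Subgroup.center (Matrix.symplecticGroup (Fin m) F)) ≠ ⟨n1, hn1⟩ := by
      intro h
      have h3 := congrArg (fun z : Subgroup.center (Matrix.symplecticGroup (Fin m) F) =>
        ((z : Matrix.symplecticGroup (Fin m) F) : Matrix (Fin m ⊕ Fin m) (Fin m ⊕ Fin m) F) (Sum.inl ⟨0, hm⟩) (Sum.inl ⟨0, hm⟩)) h
      simp [n1] at h3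
      apply h2
      linear_combination h3
    have hcard : Nat.card (Subgroup.center (Matrix.symplecticGroup (Fin m) F)) = 2 := by
      rw [Nat.card_eq_two_iff]
      refine ⟨1, ⟨n1, hn1⟩, hne, ?_⟩
      ext z
      simp only [Set.mem_insert_iff, Set.mem_singleton_iff, Set.mem_univ, iff_true]
      rcases center_eq_one_or_neg_one m hm z.1 z.2 with h | h
      · left
        apply Subtype.ext
        apply Subtype.ext
        rw [h]; rfl
      · right
        apply Subtype.ext
        apply Subtype.ext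
        rw [h]
    rw [hcard]
    have : (q - 1) % 2 = 0 := by omega
    rw [Nat.gcd_rec, this]
    rfl

end Cfsg.Agent.S0246
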