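import Cfsg.Statements.S5078
import Cfsg.Agent.Lib.Helper84_Fusion

set_option autoImplicit false
open Cfsg

namespace Cfsg.Agent.S5078

open Cfsg.FusionSystem Cfsg.Agent.Lib.Helper84_Fusion

/-- In any fusion system over a finite subgroup S, a receptive subgroup is fully centralized. -/
theorem result {Ω : Type*} [Group Ω] {S : Subgroup Ω} [Finite S] (F : Cfsg.FusionSystem S) (P : Subgroup Ω) (hP : F.IsReceptive P) : F.IsFullyCentralized P := by
  obtain ⟨hPS, hrec⟩ := hP
  refine ⟨hPS, fun Q hPQ => ?_⟩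
  obtain ⟨φ, hφ, hφr⟩ := isConj_symm F hPQ
  obtain ⟨ψ, hψ, hψφ⟩ := hrec Q φ hφ hφr
  have hQS : Q ≤ S := le_S_of_mem F hφ
  have hQN : Q ≤ extender S Q φ := le_extender S Q φ hQS (mem_S_of_mem F hφ)
  have hCN : centralizerIn S Q ≤ extender S Q φ := centralizerIn_le_extender S Q φ
  -- the map C_S(Q) → C_S(P)
  have hmap : ∀ c : centralizerIn S Q, ψ ⟨c, hCN c.2⟩ ∈ centralizerIn S P := by
    intro c
    refine ⟨mem_S_of_mem F hψ _, ?_⟩
    intro y hy
    rw [← hφr] at hy
    obtain ⟨x, rfl⟩ := hy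
    have hx : (x : Ω) ∈ extender S Q φ := hQN x.2
    rw [← hψφ x x.2 hx, ← map_mul, ← map_mul]
    congr 1
    apply Subtype.ext
    exact c.2.2 x x.2
  have : Finite (centralizerIn S P) :=
    Finite.of_injective (fun c : centralizerIn S P => (⟨c, c.2.1⟩ : S))
      (fun a b h => Subtype.ext (congrArg (fun s : S => (s : Ω)) h))
  apply Nat.card_le_card_of_injective (fun c : centralizerIn S Q => (⟨ψ ⟨c, hCN c.2⟩, hmap c⟩ : centralizerIn S P))
  intro a b hab
  have h1 : ψ ⟨a, hCN a.2⟩ = ψ ⟨b, hCN b.2⟩ := congrArg (fun s : centralizerIn S P => (s : Ω)) hab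
  have h2 := F.injective_of_mem hψ h1
  exact Subtype.ext (congrArg (fun s : extender S Q φ => (s : Ω)) h2)

end Cfsg.Agent.S5078
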