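import Cfsg.Statements.S0257
import Mathlib
import Cfsg.Agent.Lib.Helper35_PSL2Card

set_option autoImplicit false
open Cfsg

namespace Cfsg.Agent.S0257

open Matrix

/-- `SL_2` over `ZMod 3` -/
abbrev S3 := Matrix.SpecialLinearGroup (Fin 2) (ZMod 3)

/-- a generator of order four -/
def gA : S3 := ⟨!![0,1;-1,0], by decide⟩
/-- another generator of order four -/
def gX : S3 := ⟨!![1,1;1,-1], by decide⟩

/-- the embedding of the quaternion group -/
def qf : QuaternionGroup 2 → S3
  | .a i => gA ^ i.val
  | .xa i => gX * gA ^ i.val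

set_option maxRecDepth 100000 in
theorem qf_mul : ∀ x y : QuaternionGroup 2, qf (x * y) = qf x * qf y := by decide

set_option maxRecDepth 100000 in
theorem qf_inj : ∀ x y : QuaternionGroup 2, qf x = qf y → x = y := by decide

set_option maxRecDepth 100000 in
theorem qf_pow : ∀ x : QuaternionGroup 2, (qf x) ^ 4 = 1 := by decide

set_option maxRecDepth 100000 in
theorem qf_surj : ∀ g : S3, g ^ 4 = 1 → ∃ x, qf x = g := by decide

/-- `qf` as a homomorphism -/
def qfHom : QuaternionGroup 2 →* S3 := MonoidHom.mk' qf qf_mul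

theorem map_surj {F : Type*} [Field F] (e0 : ZMod 3 ≃+* F)
    (h : Matrix.SpecialLinearGroup (Fin 2) F) :
    Matrix.SpecialLinearGroup.map (e0 : ZMod 3 →+* F)
      (Matrix.SpecialLinearGroup.map (e0.symm : F →+* ZMod 3) h) = h := by
  ext i j
  simp [Matrix.SpecialLinearGroup.map_apply_coe]

theorem map_inj {F : Type*} [Field F] (e0 : ZMod 3 ≃+* F) :
    Function.Injective (Matrix.SpecialLinearGroup.map (n := Fin 2) (e0 : ZMod 3 →+* F)) := by
  intro x y hxy
  have h1 := congrArg (Matrix.SpecialLinearGroup.map (e0.symm : F →+* ZMod 3)) hxy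
  have key : ∀ z : S3, Matrix.SpecialLinearGroup.map (e0.symm : F →+* ZMod 3)
      (Matrix.SpecialLinearGroup.map (e0 : ZMod 3 →+* F) z) = z := by
    intro z
    ext i j
    simp [Matrix.SpecialLinearGroup.map_apply_coe]
  rwa [key, key] at h1

/-- SL_2(3) has a normal subgroup of index 3 isomorphic to the quaternion group of order 8, and its centre has order 2. -/
theorem result {F : Type*} [Field F] [Fintype F] (hF : Fintype.card F = 3) : (∃ Q : Subgroup (Matrix.SpecialLinearGroup (Fin 2) F), Q.Normal ∧ Q.index = 3 ∧ Nonempty (Q ≃* QuaternionGroup 2)) ∧ Nat.card (Subgroup.center (Matrix.SpecialLinearGroup (Fin 2) F)) = 2 := by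
  classical
  have h3 : Nat.Prime 3 := by norm_num
  let e0 : ZMod 3 ≃+* F := ZMod.ringEquivOfPrime F h3 hF
  have h2 : (2 : F) ≠ 0 := by
    intro h
    have h' : e0 2 = 0 := by rw [map_ofNat]; exact h
    have : (2 : ZMod 3) = 0 := by
      have := congrArg e0.symm h'
      simpa using this
    exact absurd this (by decide)
  have hcardSL : Nat.card (Matrix.SpecialLinearGroup (Fin 2) F) = 24 := by
    have := Cfsg.Agent.Lib.Helper35_PSL2Card.card_SL2_mul (F := F)
    rw [hF] at this
    omega
  refine ⟨?_, ?_⟩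
  · let m : S3 →* Matrix.SpecialLinearGroup (Fin 2) F :=
      Matrix.SpecialLinearGroup.map (e0 : ZMod 3 →+* F)
    let g : QuaternionGroup 2 →* Matrix.SpecialLinearGroup (Fin 2) F := m.comp qfHom
    have hginj : Function.Injective g := by
      intro x y hxy
      exact qf_inj x y (map_inj e0 hxy)
    have hmem : ∀ h : Matrix.SpecialLinearGroup (Fin 2) F, h ∈ g.range ↔ h ^ 4 = 1 := by
      intro h
      constructor
      · rintro ⟨x, rfl⟩
        change (m (qf x)) ^ 4 = 1
        rw [← map_pow, qf_pow, map_one]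
      · intro hh
        set h' := Matrix.SpecialLinearGroup.map (e0.symm : F →+* ZMod 3) h with hh'
        have h4 : h' ^ 4 = 1 := by rw [hh', ← map_pow, hh, map_one]
        obtain ⟨x, hx⟩ := qf_surj h' h4
        refine ⟨x, ?_⟩
        change m (qf x) = h
        rw [hx, hh']
        exact map_surj e0 h
    refine ⟨g.range, ?_, ?_, ⟨(MonoidHom.ofInjective hginj).symm⟩⟩
    · constructor
      intro n hn k
      rw [hmem] at hn ⊢
      rw [conj_pow, hn]; group
    · have hcardQ : Nat.card g.range = 8 := by
        rw [← Nat.card_congr (MonoidHom.ofInjective hginj).toEquiv, Nat.card_eq_fintype_card,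
          QuaternionGroup.card]
      have := g.range.card_mul_index
      rw [hcardQ, hcardSL] at this
      omega
  · rw [Cfsg.Agent.Lib.Helper35_PSL2Card.card_center_SL2,
      Cfsg.Agent.Lib.Helper35_PSL2Card.card_rootsOfUnity_two_of_ne h2]

end Cfsg.Agent.S0257
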