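import Cfsg.Statements.S5112

set_option autoImplicit false
open Cfsg

namespace Cfsg.Agent.S5112

theorem aut_pow_eq_one {G : Type*} [Group G] (c s : G) (k : ℕ) (hk : orderOf c = 2 ^ k) (hk1 : 1 ≤ k)
    (hcover : ∀ g : G, (∃ a : ℕ, g = c ^ a) ∨ (∃ a : ℕ, g = s * c ^ a))
    (hs : ∀ a : ℕ, s ≠ c ^ a)
    (hord : ∀ a : ℕ, orderOf (s * c ^ a) ≠ orderOf c) (α : MulAut G) :
    α ^ (2 ^ (k - 1) * 2 ^ k) = 1 := by
  have hcpos : 0 < orderOf c := by rw [hk]; positivity
  have hfin : IsOfFinOrder c := orderOf_pos_iff.mp hcpos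
  -- α c is a power of c
  obtain ⟨i, hi⟩ : ∃ i : ℕ, α c = c ^ i := by
    rcases hcover (α c) with h | ⟨a, ha⟩
    · exact h
    · exfalso
      apply hord a
      rw [← ha]
      exact MulEquiv.orderOf_eq α c
  have hcop : Nat.Coprime i (2 ^ k) := by
    have h2 : orderOf (c ^ i) = orderOf c := by rw [← hi]; exact MulEquiv.orderOf_eq α c
    rw [hfin.orderOf_pow, hk] at h2
    have hd : Nat.gcd (2 ^ k) i ∣ 2 ^ k := Nat.gcd_dvd_left _ _
    have h3 : 2 ^ k = Nat.gcd (2 ^ k) i * (2 ^ k / Nat.gcd (2 ^ k) i) := (Nat.mul_div_cancel' hd).symm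
    rw [h2] at h3
    have h4 : Nat.gcd (2 ^ k) i = 1 := by
      have hpos : 0 < 2 ^ k := by positivity
      have : Nat.gcd (2 ^ k) i * 2 ^ k = 1 * 2 ^ k := by rw [one_mul]; exact h3.symm
      exact Nat.eq_of_mul_eq_mul_right hpos this
    rw [Nat.coprime_comm]; exact h4
  have hpow : ∀ t : ℕ, (α ^ t) c = c ^ (i ^ t) := by
    intro t
    induction t with
    | zero => simp
    | succ t ih =>
      rw [pow_succ, MulAut.mul_apply, hi, map_pow, ih, ← pow_mul, ← pow_succ]
  set β := α ^ (2 ^ (k - 1)) with hβ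
  have hβc : β c = c := by
    rw [hβ, hpow]
    have h1 : i ^ (2 ^ (k - 1)) ≡ 1 [MOD 2 ^ k] := by
      have := Nat.ModEq.pow_totient hcop
      rwa [Nat.totient_prime_pow Nat.prime_two (by omega), show 2 - 1 = 1 from rfl, mul_one] at this
    have h2 : c ^ (i ^ (2 ^ (k - 1))) = c ^ 1 := by
      rw [pow_eq_pow_iff_modEq, hk]; exact h1
    rw [h2, pow_one]
  have hβpc : ∀ u : ℕ, (β ^ u) c = c := by
    intro u
    induction u with
    | zero => simp
    | succ u ih => rw [pow_succ, MulAut.mul_apply, hβc, ih]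
  obtain ⟨j, hj⟩ : ∃ j : ℕ, β s = s * c ^ j := by
    rcases hcover (β s) with ⟨a, ha⟩ | h
    · exfalso
      have h1 : β (c ^ a) = c ^ a := by rw [map_pow, hβc]
      have h2 : β s = β (c ^ a) := by rw [h1, ha]
      exact hs a (β.injective h2)
    · exact h
  have hβps : ∀ u : ℕ, (β ^ u) s = s * c ^ (u * j) := by
    intro u
    induction u with
    | zero => simp
    | succ u ih =>
      rw [pow_succ, MulAut.mul_apply, hj, map_mul, map_pow, hβpc, ih, mul_assoc, ← pow_add,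
        Nat.succ_mul]
  set γ := β ^ (2 ^ k) with hγ
  have hγc : γ c = c := hβpc _
  have hγs : γ s = s := by
    rw [hγ, hβps, pow_mul, ← hk, pow_orderOf_eq_one, one_pow, mul_one]
  have hγ1 : γ = 1 := by
    apply MulEquiv.ext
    intro g
    rcases hcover g with ⟨a, rfl⟩ | ⟨a, rfl⟩
    · rw [map_pow, hγc]; rfl
    · rw [map_mul, map_pow, hγc, hγs]; rfl
  rw [pow_mul]
  exact hγ1

theorem isPGroup_mulAut {G : Type*} [Group G] (c s : G) (k : ℕ) (hk : orderOf c = 2 ^ k) (hk1 : 1 ≤ k)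
    (hcover : ∀ g : G, (∃ a : ℕ, g = c ^ a) ∨ (∃ a : ℕ, g = s * c ^ a))
    (hs : ∀ a : ℕ, s ≠ c ^ a)
    (hord : ∀ a : ℕ, orderOf (s * c ^ a) ≠ orderOf c) : IsPGroup 2 (MulAut G) := by
  intro α
  refine ⟨(k - 1) + k, ?_⟩
  rw [pow_add]
  exact aut_pow_eq_one c s k hk hk1 hcover hs hord α

theorem isPGroup_mulAut_dihedral {S : Type*} [Group S] (n : ℕ) (hn : 4 ≤ n)
    (e : S ≃* DihedralGroup (2 ^ (n - 1))) : IsPGroup 2 (MulAut S) := by
  have : NeZero (2 ^ (n - 1)) := ⟨by positivity⟩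
  have hc : orderOf (e.symm (DihedralGroup.r 1)) = 2 ^ (n - 1) := by
    rw [MulEquiv.orderOf_eq, DihedralGroup.orderOf_r_one]
  refine isPGroup_mulAut (e.symm (DihedralGroup.r 1)) (e.symm (DihedralGroup.sr 0)) (n - 1) hc
    (by omega) ?_ ?_ ?_
  · intro g
    rcases h : e g with i | i
    · left
      refine ⟨i.val, ?_⟩
      rw [← map_pow, DihedralGroup.r_one_pow, ZMod.natCast_zmod_val, ← h, e.symm_apply_apply]
    · right
      refine ⟨i.val, ?_⟩
      rw [← map_pow, ← map_mul, DihedralGroup.r_one_pow, ZMod.natCast_zmod_val,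
        DihedralGroup.sr_mul_r, zero_add, ← h, e.symm_apply_apply]
  · intro a h
    rw [← map_pow, DihedralGroup.r_one_pow] at h
    have := e.symm.injective h
    exact absurd this (by simp)
  · intro a
    rw [← map_pow, ← map_mul, MulEquiv.orderOf_eq, MulEquiv.orderOf_eq, DihedralGroup.r_one_pow,
      DihedralGroup.sr_mul_r, DihedralGroup.orderOf_sr, DihedralGroup.orderOf_r_one]
    have h1 : 2 ^ 3 ≤ 2 ^ (n - 1) := Nat.pow_le_pow_right (by norm_num) (by omega)
    omega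

theorem isPGroup_mulAut_quaternion {S : Type*} [Group S] (n : ℕ) (hn : 4 ≤ n)
    (e : S ≃* QuaternionGroup (2 ^ (n - 2))) : IsPGroup 2 (MulAut S) := by
  have : NeZero (2 ^ (n - 2)) := ⟨by positivity⟩
  have : NeZero (2 * 2 ^ (n - 2)) := ⟨by positivity⟩
  have h2 : 2 * 2 ^ (n - 2) = 2 ^ (n - 1) := by
    rw [show n - 1 = (n - 2) + 1 by omega, pow_succ, mul_comm]
  have hc : orderOf (e.symm (QuaternionGroup.a 1)) = 2 ^ (n - 1) := by
    rw [MulEquiv.orderOf_eq, QuaternionGroup.orderOf_a_one, h2]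
  refine isPGroup_mulAut (e.symm (QuaternionGroup.a 1)) (e.symm (QuaternionGroup.xa 0)) (n - 1) hc
    (by omega) ?_ ?_ ?_
  · intro g
    rcases h : e g with i | i
    · left
      refine ⟨i.val, ?_⟩
      rw [← map_pow, QuaternionGroup.a_one_pow, ZMod.natCast_zmod_val, ← h, e.symm_apply_apply]
    · right
      refine ⟨i.val, ?_⟩
      rw [← map_pow, ← map_mul, QuaternionGroup.a_one_pow, ZMod.natCast_zmod_val,
        QuaternionGroup.xa_mul_a, zero_add, ← h, e.symm_apply_apply]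
  · intro a h
    rw [← map_pow, QuaternionGroup.a_one_pow] at h
    have := e.symm.injective h
    exact absurd this (by simp)
  · intro a
    rw [← map_pow, ← map_mul, MulEquiv.orderOf_eq, MulEquiv.orderOf_eq, QuaternionGroup.a_one_pow,
      QuaternionGroup.xa_mul_a, QuaternionGroup.orderOf_xa, QuaternionGroup.orderOf_a_one, h2]
    have h1 : 2 ^ 3 ≤ 2 ^ (n - 1) := Nat.pow_le_pow_right (by norm_num) (by omega)
    omega

/-- If S is a dihedral or generalized quaternion 2-group of order at least 16, then in every saturated fusion system over S (at the prime 2) the automorphism group Aut_F(S) consists of the inner automorphisms of S. -/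
theorem result {Ω : Type*} [Group Ω] {S : Subgroup Ω} [Finite S] (n : ℕ) (hn : 4 ≤ n) (hshape : Nonempty (S ≃* DihedralGroup (2 ^ (n - 1))) ∨ Nonempty (S ≃* QuaternionGroup (2 ^ (n - 2)))) (F : Cfsg.FusionSystem S) (hF : F.IsSaturated 2) : F.autGroup S = Cfsg.Inn S := by
  have hP : IsPGroup 2 (MulAut S) := by
    rcases hshape with ⟨⟨e⟩⟩ | ⟨⟨e⟩⟩
    · exact isPGroup_mulAut_dihedral n hn e
    · exact isPGroup_mulAut_quaternion n hn e
  have hInn : autInducedBy S S = Cfsg.Inn S := by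
    apply le_antisymm
    · rw [autInducedBy, Subgroup.closure_le]
      rintro α ⟨g, hg, hα⟩
      refine ⟨⟨g, hg⟩, ?_⟩
      apply MulEquiv.ext
      intro x
      apply Subtype.ext
      rw [hα x]
      rfl
    · rintro _ ⟨g, rfl⟩
      apply Subgroup.subset_closure
      exact ⟨g, g.2, fun x => rfl⟩
  have hle : Cfsg.Inn S ≤ F.autGroup S := by
    rintro _ ⟨g, rfl⟩
    apply Subgroup.subset_closure
    show S.subtype.comp (MulAut.conj g).toMonoidHom ∈ F.Hom S
    have h1 := F.conj_mem (P := S) (g := (g : Ω)) le_rfl g.2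
    have h2 : S.subtype.comp (MulAut.conj g).toMonoidHom = conjHom S (g : Ω) := by
      ext x
      rfl
    rw [h2]; exact h1
  obtain ⟨Q, ⟨φ, hφ, hφQ⟩, ⟨hQS, R, hR⟩, -⟩ := hF S le_rfl
  have hQ : Q = S := by
    rw [← hφQ]
    apply Subgroup.eq_of_le_of_card_ge
    · rintro _ ⟨x, rfl⟩
      exact (F.le_of_mem hφ).2 x
    · exact (Nat.card_congr (MonoidHom.ofInjective (F.injective_of_mem hφ)).toEquiv).le
  subst hQ
  have hR2 : (⊤ : Subgroup (F.autGroup Q)) = R :=
    R.is_maximal' ((hP.to_subgroup _).to_subgroup ⊤) le_top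
  rw [← hR2] at hR
  have h3 : F.autGroup Q ≤ autInducedBy Q Q := Subgroup.subgroupOf_eq_top.mp hR.symm
  rw [hInn] at h3
  exact le_antisymm h3 hle

end Cfsg.Agent.S5112
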