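import Cfsg.Statements.S0106
import Cfsg.Agent.S0257
import Cfsg.Agent.Lib.Helper35_SL23
import Cfsg.Agent.S5112
import Cfsg.Agent.S0072
import Cfsg.Agent.Lib.Helper50_UniqueInv2
import Cfsg.Agent.Lib.Helper35_FrobeniusNPC

set_option autoImplicit false
open Cfsg

namespace Cfsg.Agent.S0106

open Cfsg.Agent.S0257 (S3 qf qf_mul qf_inj qf_pow qf_surj qfHom)
open Cfsg.Agent.Lib.Helper50_UniqueInv (UniqueInvolution)
open Cfsg.Agent.Lib.Helper35_SL23

/-- generalized quaternion groups have a unique involution -/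
theorem uniqueInvolution_quaternion (m : ℕ) [NeZero m] : UniqueInvolution (QuaternionGroup m) := by
  have hm0 : m ≠ 0 := NeZero.ne m
  have key : ∀ u : QuaternionGroup m, u ^ 2 = 1 → u ≠ 1 →
      u = QuaternionGroup.a (m : ZMod (2 * m)) := by
    intro u hu hu1
    rcases u with i | i
    · rw [sq, QuaternionGroup.a_mul_a, QuaternionGroup.one_def] at hu
      have h2 : i + i = 0 := QuaternionGroup.a.inj hu
      have hi0 : i ≠ 0 := by
        intro h0
        apply hu1
        rw [h0, QuaternionGroup.one_def]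
      have : NeZero (2 * m) := ⟨by omega⟩
      have h3 : ((i.val + i.val : ℕ) : ZMod (2 * m)) = 0 := by
        rw [Nat.cast_add, ZMod.natCast_zmod_val, h2]
      rw [ZMod.natCast_eq_zero_iff] at h3
      have hlt : i.val < 2 * m := ZMod.val_lt i
      have hval0 : i.val ≠ 0 := by
        intro h0
        exact hi0 ((ZMod.val_eq_zero i).1 h0)
      have hval : i.val = m := by
        obtain ⟨c, hc⟩ := h3
        have hc1 : c = 1 := by
          rcases c with _ | _ | c
          · omega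
          · rfl
          · exfalso
            have : 2 * m * (c + 1 + 1) ≥ 2 * m * 2 := Nat.mul_le_mul_left _ (by omega)
            omega
        subst hc1
        omega
      congr 1
      have h5 : ((i.val : ℕ) : ZMod (2 * m)) = i := ZMod.natCast_zmod_val i
      rw [← h5]
      exact congrArg (fun t : ℕ => (t : ZMod (2 * m))) hval
    · exfalso
      rw [sq, QuaternionGroup.xa_mul_xa, QuaternionGroup.one_def] at hu
      have h2 : (m : ZMod (2 * m)) + i - i = 0 := QuaternionGroup.a.inj hu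
      rw [add_sub_cancel_right, ZMod.natCast_eq_zero_iff] at h2
      have := Nat.le_of_dvd (Nat.pos_of_ne_zero hm0) h2
      omega
  intro u v hu hv hu1 hv1
  rw [key u hu hu1, key v hv hv1]

/-- transport of uniqueness of involutions to a subgroup of a group isomorphic to a model -/
theorem uniqueInvolution_of_le {G : Type*} [Group G] {M : Type*} [Group M] (T Q : Subgroup G)
    (hQT : Q ≤ T) (e : ↥T ≃* M) (hM : UniqueInvolution M) : UniqueInvolution ↥Q := by
  intro u v hu hv hu1 hv1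
  have hu' : e ⟨u, hQT u.2⟩ ^ 2 = 1 := by
    rw [← map_pow, ← map_one e]
    congr 1
    exact Subtype.ext (by simpa using congrArg Subtype.val hu)
  have hv' : e ⟨v, hQT v.2⟩ ^ 2 = 1 := by
    rw [← map_pow, ← map_one e]
    congr 1
    exact Subtype.ext (by simpa using congrArg Subtype.val hv)
  have hu1' : e ⟨u, hQT u.2⟩ ≠ 1 := by
    intro h
    apply hu1
    have := e.injective (h.trans (map_one e).symm)
    exact Subtype.ext (by simpa using congrArg Subtype.val this)
  have hv1' : e ⟨v, hQT v.2⟩ ≠ 1 := by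
    intro h
    apply hv1
    have := e.injective (h.trans (map_one e).symm)
    exact Subtype.ext (by simpa using congrArg Subtype.val this)
  have := e.injective (hM _ _ hu' hv' hu1' hv1')
  exact Subtype.ext (by simpa using congrArg Subtype.val this)

/-- an element of odd order normalizing `Q` centralizes it when `Aut Q` is a `2`-group -/
theorem mem_centralizer_of_isPGroup_mulAut {G : Type*} [Group G] (Q : Subgroup G)
    (hA : IsPGroup 2 (MulAut ↥Q)) (g : G) (hgN : g ∈ Subgroup.normalizer (Q : Set G))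
    (hodd : (orderOf g).Coprime 2) : g ∈ Subgroup.centralizer (Q : Set G) := by
  set gN : Subgroup.normalizer (Q : Set G) := ⟨g, hgN⟩ with hgN'
  set α : MulAut ↥Q := Q.normalizerMonoidHom gN with hα
  have h1 : α ^ orderOf g = 1 := by
    rw [hα, ← map_pow]
    have : gN ^ orderOf g = 1 := Subtype.ext (by simp [hgN', pow_orderOf_eq_one])
    rw [this, map_one]
  obtain ⟨j, hj⟩ := hA α
  have h2 : α ^ Nat.gcd (orderOf g) (2 ^ j) = 1 := pow_gcd_eq_one.2 ⟨h1, hj⟩
  rw [Nat.Coprime.gcd_eq_one (Nat.Coprime.pow_right j hodd), pow_one] at h2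
  have h3 : gN ∈ Q.normalizerMonoidHom.ker := h2
  rw [Subgroup.normalizerMonoidHom_ker] at h3
  exact h3

/-- the key construction: `Q ≅ Q₈` and an element of odd order acting nontrivially give a
section isomorphic to `SL(2,3)`. -/
theorem exists_section {G : Type*} [Group G] [Finite G] (Q : Subgroup G)
    (θ : ↥Q ≃* QuaternionGroup 2) (g : G)
    (hgN : g ∈ Subgroup.normalizer (Q : Set G)) (hodd : (orderOf g).Coprime 2)
    (hgC : g ∉ Subgroup.centralizer (Q : Set G)) :
    ∃ (H K : Subgroup G) (hK : (K.subgroupOf H).Normal),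
      Nonempty ((H ⧸ K.subgroupOf H) ≃* S3) := by
  classical
  set m := orderOf g with hm
  set gN : Subgroup.normalizer (Q : Set G) := ⟨g, hgN⟩ with hgN'
  set α : MulAut ↥Q := Q.normalizerMonoidHom gN with hα
  have hα_apply : ∀ q : ↥Q, ((α q : ↥Q) : G) = g * q * g⁻¹ := fun q => rfl
  have hαm : α ^ m = 1 := by
    rw [hα, ← map_pow]
    have : gN ^ m = 1 := Subtype.ext (by simp [hgN', hm, pow_orderOf_eq_one])
    rw [this, map_one]
  have hα1 : α ≠ 1 := by
    intro h1
    apply hgC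
    have h3 : gN ∈ Q.normalizerMonoidHom.ker := h1
    rw [Subgroup.normalizerMonoidHom_ker] at h3
    exact h3
  -- transport to the model
  set β : MulAut (QuaternionGroup 2) := MulAut.congr θ α with hβ
  have hβ_apply : ∀ q, β q = θ (α (θ.symm q)) := fun q => rfl
  have hβm : β ^ m = 1 := by rw [hβ, ← map_pow, hαm, map_one]
  have hβ1 : β ≠ 1 := by
    intro h1
    apply hα1
    exact (MulAut.congr θ).injective (h1.trans (map_one _).symm)
  -- `m` is odd
  obtain ⟨t, ht⟩ : ∃ t, m = 2 * t + 1 := by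
    have hm2 : ¬ 2 ∣ m := by
      intro h2
      have := Nat.dvd_gcd h2 (dvd_refl 2)
      rw [hodd] at this
      omega
    exact ⟨m / 2, by omega⟩
  set γ : MulAut (QuaternionGroup 2) := β ^ (t + 1) with hγ
  have hγ2 : γ * γ = β := by
    rw [hγ, ← pow_add, show t + 1 + (t + 1) = m + 1 by omega, pow_succ, hβm, one_mul]
  have hext : ∀ q, ext (γ (QuaternionGroup.a 1)) (γ (QuaternionGroup.xa 0)) q = γ q := by
    intro q
    rcases q with i | i
    · show γ (QuaternionGroup.a 1) ^ i.val = γ (QuaternionGroup.a i)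
      rw [← map_pow, QuaternionGroup.a_one_pow, ZMod.natCast_zmod_val]
    · show γ (QuaternionGroup.xa 0) * γ (QuaternionGroup.a 1) ^ i.val = γ (QuaternionGroup.xa i)
      rw [← map_pow, ← map_mul, QuaternionGroup.a_one_pow, QuaternionGroup.xa_mul_a, zero_add,
        ZMod.natCast_zmod_val]
  obtain ⟨u₀, hu₀⟩ := L1 (γ (QuaternionGroup.a 1)) (γ (QuaternionGroup.xa 0))
    (by intro q q'; simp only [hext, map_mul])
    (by intro q hq; rw [hext] at hq; exact (map_eq_one_iff γ γ.injective).1 hq)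
  have hu₀' : ∀ q, u₀ * qf q * u₀⁻¹ = qf (β q) := by
    intro q
    rw [hu₀, hext, hext, ← hγ2]
    rfl
  have hpow : ∀ j : ℕ, ∀ q, u₀ ^ j * qf q * (u₀ ^ j)⁻¹ = qf ((β ^ j) q) := by
    intro j
    induction j with
    | zero => intro q; simp
    | succ j ih =>
      intro q
      rw [pow_succ', pow_succ', mul_inv_rev, MulAut.mul_apply, ← hu₀', ← ih q]
      group
  have hu₀m : (u₀ ^ m) * (u₀ ^ m) = 1 := L2 _ (fun q => by rw [hpow, hβm]; rfl)
  set u : S3 := u₀ ^ (m + 1) with hu_def
  have hu : ∀ q, u * qf q * u⁻¹ = qf (β q) := by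
    intro q
    rw [hu_def, hpow, pow_succ, hβm, one_mul]
  have hum : u ^ m = 1 := by
    rw [hu_def, ← pow_mul, mul_comm, pow_mul, show m + 1 = 2 * (t + 1) by omega, pow_mul, sq, hu₀m,
      one_pow]
  have hβ2 : u ^ 4 = 1 → False := by
    intro h4
    apply hβ1
    have h2 : ∀ q, (β * β) q = q := by
      intro q
      apply qf_inj
      calc qf ((β * β) q) = u * (u * qf q * u⁻¹) * u⁻¹ := by
            rw [MulAut.mul_apply, ← hu, ← hu]
        _ = (u * u) * qf q * (u * u)⁻¹ := by group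
        _ = qf q := L4 u h4 q
    have hβsq : β ^ 2 = 1 := by
      ext q
      rw [sq]
      exact h2 q
    calc β = (β ^ 2) ^ t * β := by rw [hβsq, one_pow, one_mul]
      _ = β ^ m := by rw [← pow_mul, ← pow_succ, ht]
      _ = 1 := hβm
  -- the two homomorphisms out of the semidirect product
  let φ : Multiplicative ℤ →* MulAut ↥Q := zpowersHom (MulAut ↥Q) α
  have hφ : ∀ z : Multiplicative ℤ, φ z = α ^ (Multiplicative.toAdd z) := fun z => rfl
  let fn : ↥Q →* S3 := qfHom.comp θ.toMonoidHom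
  have hfn : ∀ q, fn q = qf (θ q) := fun q => rfl
  let fgG : Multiplicative ℤ →* G := zpowersHom G g
  have hfgG : ∀ z : Multiplicative ℤ, fgG z = g ^ (Multiplicative.toAdd z) := fun z => rfl
  let fgS : Multiplicative ℤ →* S3 := zpowersHom S3 u
  have hfgS : ∀ z : Multiplicative ℤ, fgS z = u ^ (Multiplicative.toAdd z) := fun z => rfl
  have hαz : ∀ (n : ℤ) (q : ↥Q), (((α ^ n) q : ↥Q) : G) = g ^ n * q * (g ^ n)⁻¹ := by
    intro n q
    have h1 : α ^ n = Q.normalizerMonoidHom (gN ^ n) := by rw [hα, map_zpow]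
    rw [h1]
    show ((gN ^ n : Subgroup.normalizer (Q : Set G)) : G) * q *
      ((gN ^ n : Subgroup.normalizer (Q : Set G)) : G)⁻¹ = _
    rw [Subgroup.coe_zpow]
  have hbase : ∀ q : ↥Q, fn (α q) = u * fn q * u⁻¹ := by
    intro q
    rw [hfn, hfn, hu, hβ_apply, MulEquiv.symm_apply_apply]
  have hbase' : ∀ q : ↥Q, fn (α⁻¹ q) = u⁻¹ * fn q * u := by
    intro q
    have := hbase (α⁻¹ q)
    rw [MulAut.apply_inv_self] at this
    rw [this]
    group
  have hzpow : ∀ (n : ℤ) (q : ↥Q), fn ((α ^ n) q) = u ^ n * fn q * (u ^ n)⁻¹ := by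
    intro n
    induction n using Int.induction_on with
    | zero => intro q; simp
    | succ n ih =>
      intro q
      rw [zpow_add_one, MulAut.mul_apply, ih, hbase, zpow_add_one]
      group
    | pred n ih =>
      intro q
      rw [zpow_sub_one, MulAut.mul_apply, ih, hbase', zpow_sub_one]
      group
  have compat0 : ∀ z : Multiplicative ℤ, Q.subtype.comp (φ z).toMonoidHom
      = (MulAut.conj (fgG z)).toMonoidHom.comp Q.subtype := by
    intro z
    ext q
    show (((φ z) q : ↥Q) : G) = fgG z * q * (fgG z)⁻¹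
    rw [hφ, hαz, hfgG]
  have compat1 : ∀ z : Multiplicative ℤ, fn.comp (φ z).toMonoidHom
      = (MulAut.conj (fgS z)).toMonoidHom.comp fn := by
    intro z
    apply MonoidHom.ext
    intro q
    show fn ((φ z) q) = fgS z * fn q * (fgS z)⁻¹
    rw [hφ, hzpow, hfgS]
  let Ψ₀ : ↥Q ⋊[φ] Multiplicative ℤ →* G := SemidirectProduct.lift Q.subtype fgG compat0
  let Ψ₁ : ↥Q ⋊[φ] Multiplicative ℤ →* S3 := SemidirectProduct.lift fn fgS compat1
  have hΨ₀ : ∀ s : ↥Q ⋊[φ] Multiplicative ℤ, Ψ₀ s = (s.left : G) * g ^ (Multiplicative.toAdd s.right) :=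
    fun s => rfl
  have hΨ₁ : ∀ s : ↥Q ⋊[φ] Multiplicative ℤ, Ψ₁ s = fn s.left * u ^ (Multiplicative.toAdd s.right) :=
    fun s => rfl
  have hcardQ : Nat.card ↥Q = 8 := by
    rw [Nat.card_congr θ.toEquiv, Nat.card_eq_fintype_card, QuaternionGroup.card]
  have hker : Ψ₀.ker ≤ Ψ₁.ker := by
    intro s hs
    rw [MonoidHom.mem_ker] at hs ⊢
    rw [hΨ₀] at hs
    set n := Multiplicative.toAdd s.right with hn
    have hq : (s.left : G) = (g ^ n)⁻¹ := eq_inv_of_mul_eq_one_left hs
    have hq8 : (s.left : G) ^ 8 = 1 := by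
      have h1 : s.left ^ Nat.card ↥Q = 1 := pow_card_eq_one'
      rw [hcardQ] at h1
      simpa using congrArg Subtype.val h1
    have hqm : (s.left : G) ^ m = 1 := by
      rw [hq, inv_pow, ← zpow_natCast, ← zpow_mul, mul_comm, zpow_mul, zpow_natCast, hm,
        pow_orderOf_eq_one, one_zpow, inv_one]
    have hq1 : (s.left : G) = 1 := by
      have h2 : (s.left : G) ^ Nat.gcd m 8 = 1 := pow_gcd_eq_one.2 ⟨hqm, hq8⟩
      have h3 : Nat.gcd m 8 = 1 := Nat.Coprime.pow_right 3 hodd
      rwa [h3, pow_one] at h2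
    have hgn : g ^ n = 1 := by
      rw [hq1] at hq
      exact inv_eq_one.mp hq.symm
    have hdvd : (m : ℤ) ∣ n := by
      rw [hm]
      exact orderOf_dvd_iff_zpow_eq_one.mpr hgn
    obtain ⟨c, hc⟩ := hdvd
    rw [hΨ₁, ← hn, hc, zpow_mul, zpow_natCast, hum, one_zpow, mul_one]
    have : s.left = 1 := Subtype.ext hq1
    rw [this, map_one]
  have hsurj : Function.Surjective Ψ₁ := by
    intro y
    rcases L3 u y hβ2 with h | h | h
    · obtain ⟨x, hx⟩ := qf_surj y h
      refine ⟨⟨θ.symm x, 1⟩, ?_⟩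
      rw [hΨ₁, hfn]
      simp [hx]
    · obtain ⟨x, hx⟩ := qf_surj _ h
      refine ⟨⟨θ.symm x, Multiplicative.ofAdd 1⟩, ?_⟩
      rw [hΨ₁, hfn]
      simp [hx]
    · obtain ⟨x, hx⟩ := qf_surj _ h
      refine ⟨⟨θ.symm x, Multiplicative.ofAdd 2⟩, ?_⟩
      rw [hΨ₁, hfn]
      simp only [MulEquiv.apply_symm_apply, hx, toAdd_ofAdd]
      rw [show (2 : ℤ) = ((2 : ℕ) : ℤ) by rfl, zpow_natCast, sq]
      group
  -- the homomorphism on the range of `Ψ₀`
  let ψ : Ψ₀.range →* S3 := Ψ₀.rangeRestrict.liftOfSurjective Ψ₀.rangeRestrict_surjective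
    ⟨Ψ₁, by rwa [MonoidHom.ker_rangeRestrict]⟩
  have hψ : ∀ s, ψ (Ψ₀.rangeRestrict s) = Ψ₁ s := fun s =>
    MonoidHom.liftOfRightInverse_comp_apply _ _ _ _ s
  have hψsurj : Function.Surjective ψ := by
    intro y
    obtain ⟨s, rfl⟩ := hsurj y
    exact ⟨_, hψ s⟩
  have hKeq : (ψ.ker.map Ψ₀.range.subtype).subgroupOf Ψ₀.range = ψ.ker :=
    Subgroup.comap_map_eq_self_of_injective (Subgroup.subtype_injective _) _
  have hKn : ((ψ.ker.map Ψ₀.range.subtype).subgroupOf Ψ₀.range).Normal := by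
    rw [hKeq]
    infer_instance
  exact ⟨Ψ₀.range, ψ.ker.map Ψ₀.range.subtype, hKn,
    ⟨(QuotientGroup.quotientMulEquivOfEq hKeq).trans
      (QuotientGroup.quotientKerEquivOfSurjective ψ hψsurj)⟩⟩

/-- A finite group with generalized quaternion Sylow 2-subgroups either has a normal 2-complement or has a section isomorphic to SL(2,3). -/
theorem result {G : Type*} [Group G] [Finite G] (T : Sylow 2 G) (n : ℕ) (hn : 1 ≤ n) (hT : Nonempty ((T : Subgroup G) ≃* QuaternionGroup (2 ^ n))) : Cfsg.HasNormalPComplement 2 G ∨ ∃ (H K : Subgroup G) (hK : (K.subgroupOf H).Normal), Nonempty ((H ⧸ K.subgroupOf H) ≃* Matrix.SpecialLinearGroup (Fin 2) (ZMod 3)) := by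
  by_cases hsec : ∃ (H K : Subgroup G) (hK : (K.subgroupOf H).Normal),
      Nonempty ((H ⧸ K.subgroupOf H) ≃* Matrix.SpecialLinearGroup (Fin 2) (ZMod 3))
  · exact Or.inr hsec
  left
  obtain ⟨eT⟩ := hT
  have : NeZero (2 ^ n) := ⟨by positivity⟩
  have hTu : UniqueInvolution (QuaternionGroup (2 ^ n)) := uniqueInvolution_quaternion (2 ^ n)
  rw [Cfsg.Agent.S0072.hasNPC_iff]
  apply Cfsg.Agent.Lib.Helper35_FrobeniusNPC.hasNPC_of_frobHyp
  apply Cfsg.Agent.Lib.Helper35_FrobeniusNPC.frobHyp_of_le_sylow T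
  intro Q hQT g hgN hodd
  have hQ2 : IsPGroup 2 ↥Q := T.2.to_le hQT
  have hQu : UniqueInvolution ↥Q := uniqueInvolution_of_le (T : Subgroup G) Q hQT eT hTu
  rcases Cfsg.Agent.Lib.Helper50_UniqueInv2.isCyclic_or_quaternion hQ2 hQu with hcyc | ⟨k, hk, ⟨e⟩⟩
  · -- cyclic
    apply mem_centralizer_of_isPGroup_mulAut Q _ g hgN hodd
    obtain ⟨b, hb⟩ := hQ2.exists_card_eq
    have hcard := hcyc.card_mulAut (G := ↥Q)
    rw [hb] at hcard
    rcases Nat.eq_zero_or_pos b with h0 | h0
    · rw [h0, pow_zero, Nat.totient_one] at hcard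
      exact IsPGroup.of_card (n := 0) (by rw [hcard, pow_zero])
    · rw [Nat.totient_prime_pow Nat.prime_two h0] at hcard
      exact IsPGroup.of_card (n := b - 1) (by rw [hcard]; simp)
  · rcases Nat.lt_or_ge 1 k with hk2 | hk1
    · -- generalized quaternion of order at least 16
      apply mem_centralizer_of_isPGroup_mulAut Q _ g hgN hodd
      have e' : ↥Q ≃* QuaternionGroup (2 ^ (k + 2 - 2)) := by
        rw [Nat.add_sub_cancel]
        exact e
      exact Cfsg.Agent.S5112.isPGroup_mulAut_quaternion (k + 2) (by omega) e'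
    · -- the quaternion group of order 8
      have hk1' : k = 1 := le_antisymm hk1 hk
      subst hk1'
      by_contra hgC
      exact hsec (exists_section Q e g hgN hodd hgC)

end Cfsg.Agent.S0106
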