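import Cfsg.Statements.S0061
import Mathlib
-- import your own Cfsg.Agent.* helpers here

set_option autoImplicit false
open Cfsg

namespace Cfsg.Agent.S0061

section helpers

variable {G : Type*} [Group G] [Finite G]

/-- Order of a Sylow `p`-subgroup in a group of order `p ^ a * q`. -/
theorem card_sylow_eq (p q a : ℕ) [hp : Fact p.Prime] (hq : q.Prime) (hpq : p ≠ q)
    (hG : Nat.card G = p ^ a * q) (P : Sylow p G) : Nat.card (P : Subgroup G) = p ^ a := by
  rw [P.card_eq_multiplicity, hG, Nat.factorization_mul (pow_ne_zero _ hp.out.ne_zero) hq.ne_zero]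
  simp only [Finsupp.coe_add, Pi.add_apply]
  rw [hp.out.factorization_pow, Nat.factorization_eq_zero_of_not_dvd]
  · simp
  · intro h
    exact hpq ((Nat.prime_dvd_prime_iff_eq hp.out hq).mp h)

/-- In a `p`-group `P ≤ G`, a proper subgroup `D < P` is properly contained in `P ⊓ N_G(D)`. -/
theorem exists_normalizer_element (p : ℕ) [hp : Fact p.Prime] (P D : Subgroup G) (hP : IsPGroup p P)
    (hDP : D < P) : ∃ x ∈ P, x ∈ Subgroup.normalizer (D : Set G) ∧ x ∉ D := by
  have hnil : Group.IsNilpotent P := hP.isNilpotent
  have hnc : NormalizerCondition P := Group.normalizerCondition_of_isNilpotent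
  have hlt : D.subgroupOf P < ⊤ := by
    rw [lt_top_iff_ne_top]
    intro h
    rw [Subgroup.subgroupOf_eq_top] at h
    exact (not_le_of_gt hDP) h
  have h2 := hnc _ hlt
  obtain ⟨y, hy1, hy2⟩ := SetLike.exists_of_lt h2
  refine ⟨(y : G), y.2, ?_, ?_⟩
  · apply Subgroup.mem_normalizer_fintype
    intro n hn
    have hnP : n ∈ P := hDP.le hn
    have := (Subgroup.mem_normalizer_iff.mp hy1 ⟨n, hnP⟩).mp (by rw [Subgroup.mem_subgroupOf]; exact hn)
    rw [Subgroup.mem_subgroupOf] at this
    simpa using this
  · intro h
    apply hy2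
    rw [Subgroup.mem_subgroupOf]
    exact h

/-- The key step: a group of order `p ^ a * q` with `a ≥ 1`, `p ≠ q`, has a proper non-trivial normal subgroup. -/
theorem exists_normal (p q a : ℕ) (hp : p.Prime) (hq : q.Prime) (hpq : p ≠ q) (ha : 1 ≤ a)
    (hG : Nat.card G = p ^ a * q) : ∃ N : Subgroup G, N.Normal ∧ N ≠ ⊥ ∧ N ≠ ⊤ := by
  classical
  have : Fact p.Prime := ⟨hp⟩
  have : Fact q.Prime := ⟨hq⟩
  have hpa : 2 ≤ p ^ a := by
    calc 2 ≤ p := hp.two_le
      _ = p ^ 1 := (pow_one p).symm
      _ ≤ p ^ a := Nat.pow_le_pow_right hp.pos ha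
  have hcardP : ∀ P : Sylow p G, Nat.card (P : Subgroup G) = p ^ a :=
    fun P => card_sylow_eq p q a hq hpq hG P
  have hPne_top : ∀ P : Sylow p G, (P : Subgroup G) ≠ ⊤ := by
    intro P h
    have := hcardP P
    rw [h, Subgroup.card_top, hG] at this
    have hq2 := hq.two_le
    have : p ^ a * q > p ^ a := by nlinarith
    omega
  have hPne_bot : ∀ P : Sylow p G, (P : Subgroup G) ≠ ⊥ := by
    intro P h
    have := hcardP P
    rw [h, Subgroup.card_bot] at this
    omega
  obtain ⟨P0⟩ : Nonempty (Sylow p G) := inferInstance
  by_cases hsub : Subsingleton (Sylow p G)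
  · exact ⟨P0, Sylow.normal_of_subsingleton P0, hPne_bot P0, hPne_top P0⟩
  · -- two distinct Sylow subgroups
    rw [not_subsingleton_iff_nontrivial] at hsub
    obtain ⟨Pa, Pb, hab⟩ := hsub
    -- pick a pair maximizing the intersection
    have hne : Nonempty {pp : Sylow p G × Sylow p G // pp.1 ≠ pp.2} := ⟨⟨(Pa, Pb), hab⟩⟩
    obtain ⟨⟨⟨P1, P2⟩, h12⟩, hmax⟩ := Finite.exists_max
      (fun pp : {pp : Sylow p G × Sylow p G // pp.1 ≠ pp.2} =>
        Nat.card ((pp.1.1 : Subgroup G) ⊓ (pp.1.2 : Subgroup G) : Subgroup G))
    simp only at h12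
    have hmax' : ∀ P P' : Sylow p G, P ≠ P' →
        Nat.card ((P : Subgroup G) ⊓ (P' : Subgroup G) : Subgroup G) ≤
          Nat.card ((P1 : Subgroup G) ⊓ (P2 : Subgroup G) : Subgroup G) :=
      fun P P' h => hmax ⟨(P, P'), h⟩
    set D : Subgroup G := (P1 : Subgroup G) ⊓ (P2 : Subgroup G) with hD
    by_cases hDbot : D = ⊥
    · -- all Sylow p-subgroups intersect trivially
      have hTI : ∀ P P' : Sylow p G, P ≠ P' → (P : Subgroup G) ⊓ (P' : Subgroup G) = ⊥ := by
        intro P P' h
        have h1 := hmax' P P' h
        rw [hDbot, Subgroup.card_bot] at h1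
        have h2 : Nat.card ((P : Subgroup G) ⊓ (P' : Subgroup G) : Subgroup G) = 1 := by
          have : 0 < Nat.card ((P : Subgroup G) ⊓ (P' : Subgroup G) : Subgroup G) := Nat.card_pos
          omega
        exact Subgroup.card_eq_one.mp h2
      -- the orbit of P2 under P1 has size p^a and avoids P1
      have hstab : MulAction.stabilizer (P1 : Subgroup G) P2 = ⊥ := by
        rw [eq_bot_iff]
        intro x hx
        rw [MulAction.mem_stabilizer_iff] at hx
        have hx' : (x : G) • P2 = P2 := hx
        rw [Sylow.smul_eq_iff_mem_normalizer] at hx'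
        have h3 : (x : G) ∈ (P1 : Subgroup G) ⊓ (P2 : Subgroup G) := by
          rw [← IsPGroup.inf_normalizer_sylow P1.isPGroup' P2]
          exact ⟨x.2, hx'⟩
        rw [hTI P1 P2 h12, Subgroup.mem_bot] at h3
        rw [Subgroup.mem_bot]
        exact Subtype.ext h3
      have horb : (MulAction.orbit (P1 : Subgroup G) P2).ncard = p ^ a := by
        rw [← MulAction.index_stabilizer, hstab, Subgroup.index_bot, hcardP P1]
      have hP1not : P1 ∉ MulAction.orbit (P1 : Subgroup G) P2 := by
        rintro ⟨x, hx⟩
        have hx' : (x : G) • P2 = P1 := hx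
        have h4 : ((x : G)⁻¹) • P1 = P1 := by
          rw [Sylow.smul_eq_iff_mem_normalizer]
          exact Subgroup.le_normalizer ((P1 : Subgroup G).inv_mem x.2)
        apply h12
        have h5 : P2 = (x : G)⁻¹ • P1 := eq_inv_smul_iff.mpr hx'
        exact (h5.trans h4).symm
      have hcount : p ^ a + 1 ≤ Nat.card (Sylow p G) := by
        have hsub : insert P1 (MulAction.orbit (P1 : Subgroup G) P2) ⊆ (Set.univ : Set (Sylow p G)) :=
          Set.subset_univ _
        have h5 := Set.ncard_le_ncard hsub
        rw [Set.ncard_insert_of_notMem hP1not, horb, Set.ncard_univ] at h5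
        exact h5
      have hidx : (P1 : Subgroup G).index = q := by
        have h6 := (P1 : Subgroup G).card_mul_index
        rw [hcardP P1, hG] at h6
        exact Nat.eq_of_mul_eq_mul_left (by omega) h6
      have hnp : Nat.card (Sylow p G) ≤ q := by
        have := Sylow.card_dvd_index P1
        rw [hidx] at this
        exact Nat.le_of_dvd hq.pos this
      -- the Sylow q-subgroup is normal
      obtain ⟨Q⟩ : Nonempty (Sylow q G) := inferInstance
      have hcardQ : Nat.card (Q : Subgroup G) = q := by
        have hG' : Nat.card G = q ^ 1 * p ^ a := by rw [hG]; ring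
        rw [Q.card_eq_multiplicity, hG', Nat.factorization_mul (pow_ne_zero _ hq.ne_zero) (pow_ne_zero _ hp.ne_zero)]
        simp only [Finsupp.coe_add, Pi.add_apply]
        rw [hq.factorization_pow, hp.factorization_pow]
        simp [hpq]
      have hQidx : (Q : Subgroup G).index = p ^ a := by
        have h6 := (Q : Subgroup G).card_mul_index
        rw [hcardQ, hG, mul_comm] at h6
        exact Nat.eq_of_mul_eq_mul_right hq.pos h6
      have hnq1 : Nat.card (Sylow q G) ∣ p ^ a := by
        have := Sylow.card_dvd_index Q
        rwa [hQidx] at this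
      have hnq2 : Nat.card (Sylow q G) ≡ 1 [MOD q] := card_sylow_modEq_one q G
      have hnq : Nat.card (Sylow q G) = 1 := by
        have h7 : Nat.card (Sylow q G) ≤ p ^ a := Nat.le_of_dvd (by omega) hnq1
        have h8 : Nat.card (Sylow q G) < q := by omega
        have h9 := hnq2
        unfold Nat.ModEq at h9
        rw [Nat.mod_eq_of_lt h8, Nat.mod_eq_of_lt hq.one_lt] at h9
        exact h9
      have hsubQ : Subsingleton (Sylow q G) := by
        rw [← Finite.card_le_one_iff_subsingleton]
        omega
      refine ⟨Q, Sylow.normal_of_subsingleton Q, ?_, ?_⟩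
      · intro h
        rw [h, Subgroup.card_bot] at hcardQ
        exact hq.one_lt.ne hcardQ
      · intro h
        rw [h, Subgroup.card_top, hG] at hcardQ
        have : p ^ a * q ≥ 2 * q := Nat.mul_le_mul_right q hpa
        have := hq.pos
        omega
    · -- D ≠ ⊥ : the normal closure of D lies in P1
      have hDlt : ∀ P : Sylow p G, (P = P1 ∨ P = P2) → D < (P : Subgroup G) := by
        intro P hP
        have hle : D ≤ (P : Subgroup G) := by
          rcases hP with rfl | rfl
          · exact inf_le_left
          · exact inf_le_right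
        refine lt_of_le_of_ne hle ?_
        intro h
        have h1 : Nat.card D = p ^ a := by rw [h, hcardP P]
        -- D = P1 and D = P2
        have e1 : D = (P1 : Subgroup G) :=
          Subgroup.eq_of_le_of_card_ge inf_le_left (by rw [h1, hcardP P1])
        have e2 : D = (P2 : Subgroup G) :=
          Subgroup.eq_of_le_of_card_ge inf_le_right (by rw [h1, hcardP P2])
        exact h12 (Sylow.ext (e1.symm.trans e2))
      set H : Subgroup G := Subgroup.normalizer (D : Set G) with hH
      -- H is not a p-group
      have hHnot : ¬ IsPGroup p H := by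
        intro hHp
        obtain ⟨P3, hP3⟩ := hHp.exists_le_sylow
        have key : ∀ P : Sylow p G, (P = P1 ∨ P = P2) → P3 = P := by
          intro P hP
          by_contra hne
          obtain ⟨x, hxP, hxN, hxD⟩ := exists_normalizer_element p (P : Subgroup G) D P.isPGroup' (hDlt P hP)
          have hDle : D ≤ (P : Subgroup G) ⊓ (P3 : Subgroup G) := by
            refine le_inf (hDlt P hP).le ?_
            exact (Subgroup.le_normalizer).trans hP3
          have hxmem : x ∈ (P : Subgroup G) ⊓ (P3 : Subgroup G) := ⟨hxP, hP3 hxN⟩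
          have hlt : D < (P : Subgroup G) ⊓ (P3 : Subgroup G) :=
            lt_of_le_of_ne hDle (fun h => hxD (h ▸ hxmem))
          have hcardlt : Nat.card D < Nat.card ((P : Subgroup G) ⊓ (P3 : Subgroup G) : Subgroup G) := by
            apply lt_of_le_of_ne (Nat.le_of_dvd Nat.card_pos (Subgroup.card_dvd_of_le hDle))
            intro hc
            exact (ne_of_lt hlt) (Subgroup.eq_of_le_of_card_ge hDle (by rw [hc]))
          have := hmax' P P3 (fun h => hne h.symm)
          omega
        exact h12 ((key P1 (Or.inl rfl)).symm.trans (key P2 (Or.inr rfl)))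
      -- so q divides |H|
      have hqH : q ∣ Nat.card H := by
        by_contra hnq
        have hdvd : Nat.card H ∣ p ^ a * q := by
          rw [← hG]; exact Subgroup.card_subgroup_dvd_card H
        have hcop : (Nat.card H).Coprime q := (Nat.Coprime.symm ((Nat.Prime.coprime_iff_not_dvd hq).mpr hnq))
        have hdvd' : Nat.card H ∣ p ^ a := hcop.dvd_of_dvd_mul_right hdvd
        obtain ⟨b, -, hb⟩ := (Nat.dvd_prime_pow hp).mp hdvd'
        exact hHnot (IsPGroup.of_card hb)
      obtain ⟨y, hy⟩ := exists_prime_orderOf_dvd_card' q hqH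
      set Q : Subgroup G := Subgroup.zpowers (y : G) with hQ
      have hcardQ : Nat.card Q = q := by
        rw [hQ, Nat.card_zpowers, Subgroup.orderOf_coe, hy]
      have hQH : Q ≤ H := by
        rw [hQ, Subgroup.zpowers_le]
        exact y.2
      have hcompl : (P1 : Subgroup G).IsComplement' Q := by
        apply Subgroup.isComplement'_of_coprime
        · rw [hcardP P1, hcardQ, hG]
        · rw [hcardP P1, hcardQ]
          exact Nat.Coprime.pow_left a ((Nat.coprime_primes hp hq).mpr hpq)
      refine ⟨Subgroup.normalClosure (D : Set G), Subgroup.normalClosure_normal, ?_, ?_⟩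
      · intro h
        apply hDbot
        rw [eq_bot_iff, ← h]
        exact Subgroup.le_normalClosure
      · have hle : Subgroup.normalClosure (D : Set G) ≤ (P1 : Subgroup G) := by
          unfold Subgroup.normalClosure
          rw [Subgroup.closure_le]
          intro z hz
          rw [Group.mem_conjugatesOfSet_iff] at hz
          obtain ⟨d, hd, hconj⟩ := hz
          rw [isConj_iff] at hconj
          obtain ⟨g, rfl⟩ := hconj
          obtain ⟨⟨⟨x, hx⟩, ⟨z, hz⟩⟩, hxz⟩ := hcompl.2 g
          simp only at hxz
          rw [← hxz]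
          have hzd : z * d * z⁻¹ ∈ D := by
            have hzH : z ∈ H := hQH hz
            exact (Subgroup.mem_normalizer_iff.mp hzH d).mp hd
          have : x * z * d * (x * z)⁻¹ = x * (z * d * z⁻¹) * x⁻¹ := by group
          rw [this]
          exact (P1 : Subgroup G).mul_mem ((P1 : Subgroup G).mul_mem hx ((hDlt P1 (Or.inl rfl)).le hzd))
            ((P1 : Subgroup G).inv_mem hx)
        intro h
        rw [h] at hle
        exact hPne_top P1 (top_le_iff.mp hle)

/-- Strong induction: every group whose order divides `p ^ a * q` is solvable. -/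
theorem solvable_aux (p q : ℕ) (hp : p.Prime) (hq : q.Prime) :
    ∀ (n : ℕ) (G : Type u_1) [Group G] [Finite G], Nat.card G = n → (∃ a, n ∣ p ^ a * q) →
      Group.IsSolvable G := by
  intro n
  induction n using Nat.strong_induction_on with
  | _ n ih =>
    intro G _ _ hcard ⟨a, hdvd⟩
    have : Fact p.Prime := ⟨hp⟩
    have : Fact q.Prime := ⟨hq⟩
    have hpgroup : ∀ b, Nat.card G = p ^ b → Group.IsSolvable G := by
      intro b hb
      have hP : IsPGroup p G := IsPGroup.of_card hb
      have : Group.IsNilpotent G := hP.isNilpotent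
      exact IsNilpotent.to_isSolvable
    by_cases hpq : p = q
    · -- a p-group
      subst hpq
      have : n ∣ p ^ (a + 1) := by rw [pow_succ]; exact hdvd
      obtain ⟨b, -, hb⟩ := (Nat.dvd_prime_pow hp).mp this
      exact hpgroup b (hcard.trans hb)
    · obtain ⟨d1, d2, h1, h2, h3⟩ := Nat.dvd_mul.mp hdvd
      obtain ⟨b, -, hb⟩ := (Nat.dvd_prime_pow hp).mp h1
      rcases (Nat.dvd_prime hq).mp h2 with h2 | h2
      · -- order p^b
        apply hpgroup b
        rw [hcard, ← h3, hb, h2, mul_one]
      · -- order p^b * q
        have hn : Nat.card G = p ^ b * q := by rw [hcard, ← h3, hb, h2]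
        rcases Nat.eq_zero_or_pos b with hb0 | hb0
        · -- prime order
          have hq' : Nat.card G = q := by rw [hn, hb0, pow_zero, one_mul]
          have hcyc : IsCyclic G := isCyclic_of_prime_card hq'
          apply Group.isSolvable_of_comm
          intro x y
          obtain ⟨g, hg⟩ := hcyc.exists_generator
          obtain ⟨i, rfl⟩ := Subgroup.mem_zpowers_iff.mp (hg x)
          obtain ⟨j, rfl⟩ := Subgroup.mem_zpowers_iff.mp (hg y)
          rw [← zpow_add, ← zpow_add, add_comm]
        · obtain ⟨N, hN, hNbot, hNtop⟩ := exists_normal (G := G) p q b hp hq hpq hb0 hn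
          have hcardN_dvd : Nat.card N ∣ n := by
            rw [← hcard]; exact Subgroup.card_subgroup_dvd_card N
          have hcardQ_dvd : Nat.card (G ⧸ N) ∣ n := by
            rw [← hcard, ← Subgroup.index_eq_card]; exact Subgroup.index_dvd_card N
          have hnpos : 0 < n := by rw [← hcard]; exact Nat.card_pos
          have hcardN_lt : Nat.card N < n := by
            apply lt_of_le_of_ne (Nat.le_of_dvd hnpos hcardN_dvd)
            intro h
            apply hNtop
            apply Subgroup.eq_top_of_card_eq
            rw [h, hcard]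
          have hcardQ_lt : Nat.card (G ⧸ N) < n := by
            have h5 := N.card_mul_index
            rw [Subgroup.index_eq_card, hcard] at h5
            have h6 : 1 < Nat.card N := by
              rw [Subgroup.one_lt_card_iff_ne_bot]; exact hNbot
            have h7 : 0 < Nat.card (G ⧸ N) := Nat.card_pos
            nlinarith
          have s1 : Group.IsSolvable N :=
            ih _ hcardN_lt N rfl ⟨a, hcardN_dvd.trans hdvd⟩
          have s2 : Group.IsSolvable (G ⧸ N) :=
            ih _ hcardQ_lt (G ⧸ N) rfl ⟨a, hcardQ_dvd.trans hdvd⟩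
          apply Group.isSolvable_of_ker_le_range N.subtype (QuotientGroup.mk' N)
          rw [QuotientGroup.ker_mk', Subgroup.range_subtype]

end helpers

/-- A finite group whose order is a prime power times a prime is solvable. -/
theorem result {G : Type*} [Group G] [Finite G] (p q m : ℕ) (hp : p.Prime) (hq : q.Prime)
    (hG : Nat.card G = p ^ m * q) : Group.IsSolvable G := by
  exact solvable_aux p q hp hq _ G rfl ⟨m, by rw [hG]⟩

end Cfsg.Agent.S0061
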