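-- Statement S0494: a simple group of order 60 is isomorphic to A_5.
import Cfsg.Statements.S0494
import Mathlib

set_option autoImplicit false
open Cfsg

namespace Cfsg.Agent.S0494

section aux

open scoped Nat

variable {G : Type*} [Group G] [Finite G] [IsSimpleGroup G]

omit [Finite G] in
/-- In a simple group, the action on the cosets of a proper subgroup is faithful. -/
theorem toPermHom_injective (H : Subgroup G) (hH : H ≠ ⊤) :
    Function.Injective (MulAction.toPermHom G (G ⧸ H)) := by
  rw [← MonoidHom.ker_eq_bot_iff, ← Subgroup.normalCore_eq_ker]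
  rcases (H.normalCore_normal).eq_bot_or_eq_top with h | h
  · exact h
  · exfalso
    apply hH
    rw [eq_top_iff, ← h]
    exact H.normalCore_le

theorem card_dvd_factorial_index (H : Subgroup G) (hH : H ≠ ⊤) : Nat.card G ∣ (H.index)! := by
  classical
  have : Fintype (G ⧸ H) := Fintype.ofFinite _
  have h1 := Subgroup.card_dvd_of_injective _ (toPermHom_injective H hH)
  rw [Nat.card_perm] at h1
  exact h1

theorem exists_index_five (h : Nat.card G = 60) : ∃ H : Subgroup G, H.index = 5 := by
  classical
  have : Fact (Nat.Prime 2) := ⟨Nat.prime_two⟩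
  obtain ⟨P⟩ : Nonempty (Sylow 2 G) := inferInstance
  -- order of P
  have hP4 : Nat.card P = 4 := by
    obtain ⟨n, hn⟩ := P.2.exists_card_eq
    have hdvd : Nat.card P ∣ 60 := h ▸ (P : Subgroup G).card_subgroup_dvd_card
    have hidx := P.not_dvd_index
    have hmul := (P : Subgroup G).card_mul_index
    rw [h] at hmul
    rw [hn] at hdvd hmul ⊢
    have hn3 : n < 3 := by
      by_contra hn3
      push Not at hn3
      have : 2 ^ 3 ∣ 2 ^ n := pow_dvd_pow 2 hn3
      have := this.trans hdvd
      omega
    interval_cases n
    · exfalso; apply hidx; rw [show (P : Subgroup G).index = 60 by omega]; decide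
    · exfalso; apply hidx; rw [show (P : Subgroup G).index = 30 by omega]; decide
    · rfl
  set N := Subgroup.normalizer ((P : Subgroup G) : Set G) with hN
  have hPN : (P : Subgroup G) ≤ N := Subgroup.le_normalizer
  have h4N : 4 ∣ Nat.card N := hP4 ▸ Subgroup.card_dvd_of_le hPN
  have hmulN := N.card_mul_index
  rw [h] at hmulN
  have hNdvd : Nat.card N ∣ 60 := h ▸ N.card_subgroup_dvd_card
  have hNle : Nat.card N ≤ 60 := Nat.le_of_dvd (by norm_num) hNdvd
  have hNpos : 0 < Nat.card N := Nat.card_pos
  -- possible orders of N
  have hcases : Nat.card N = 4 ∨ Nat.card N = 12 ∨ Nat.card N = 20 ∨ Nat.card N = 60 := by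
    obtain ⟨k, hk⟩ := h4N
    rw [hk] at hNdvd hNle hNpos ⊢
    have : k ≤ 15 := by omega
    interval_cases k <;> simp_all
  rcases hcases with h4 | h12 | h20 | h60
  · -- N = P, Burnside
    exfalso
    have hNP : N = (P : Subgroup G) := by
      symm
      apply Subgroup.eq_of_le_of_card_ge hPN
      rw [h4, hP4]
    have hP4' : Nat.card P = 2 ^ 2 := hP4
    have hmc : IsMulCommutative P := IsPGroup.isMulCommutative_of_card_eq_prime_sq (p := 2) hP4'
    have hcomm : ∀ a b : P, a * b = b * a := fun a b => hmc.is_comm.comm a b
    have hPC : Subgroup.normalizer ((P : Subgroup G) : Set G) ≤ Subgroup.centralizer (P : Set G) := by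
      rw [← hN, hNP]
      intro x hx y hy
      have := hcomm ⟨y, hy⟩ ⟨x, hx⟩
      exact congrArg Subtype.val this
    have hcompl := MonoidHom.ker_transferSylow_isComplement' P hPC
    have hcard := hcompl.card_mul_card
    rw [h, hP4] at hcard
    have hK : Nat.card (MonoidHom.transferSylow P hPC).ker = 15 := by omega
    rcases (MonoidHom.normal_ker (MonoidHom.transferSylow P hPC)).eq_bot_or_eq_top with hb | ht
    · rw [hb, Subgroup.card_bot] at hK; omega
    · rw [ht, Subgroup.card_top, h] at hK; omega
  · exact ⟨N, by rw [h12] at hmulN; omega⟩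
  · exfalso
    have hidx : N.index = 3 := by rw [h20] at hmulN; omega
    have hne : N ≠ ⊤ := by
      intro ht; rw [ht, Subgroup.index_top] at hidx; omega
    have := card_dvd_factorial_index N hne
    rw [h, hidx] at this
    revert this; decide
  · exfalso
    have hidx : N.index = 1 := by rw [h60] at hmulN; omega
    have hNtop : N = ⊤ := Subgroup.index_eq_one.mp hidx
    have hnormal : (P : Subgroup G).Normal := Subgroup.normalizer_eq_top_iff.mp hNtop
    rcases hnormal.eq_bot_or_eq_top with hb | ht
    · rw [hb, Subgroup.card_bot] at hP4; omega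
    · rw [ht, Subgroup.card_top, h] at hP4; omega

end aux

/-- A simple group of order 60 is isomorphic to the alternating group of degree 5. -/
theorem result {G : Type*} [Group G] [Finite G] [IsSimpleGroup G]
    (h : Nat.card G = 60) : Nonempty (G ≃* alternatingGroup (Fin 5)) := by
  classical
  obtain ⟨H, hH⟩ := exists_index_five h
  have hne : H ≠ ⊤ := by
    intro ht; rw [ht, Subgroup.index_top] at hH; omega
  have : Fintype (G ⧸ H) := Fintype.ofFinite _
  have hcard : Fintype.card (G ⧸ H) = 5 := by
    rw [← Nat.card_eq_fintype_card, ← Subgroup.index_eq_card]; exact hH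
  let f := MulAction.toPermHom G (G ⧸ H)
  have hf : Function.Injective f := toPermHom_injective H hne
  have hrange : Nat.card f.range = 60 := by
    rw [← h]; exact (Nat.card_congr (MonoidHom.ofInjective hf).toEquiv).symm
  have hidx : f.range.index = 2 := by
    have := f.range.card_mul_index
    rw [hrange, Nat.card_perm, ← Subgroup.index_eq_card, hH] at this
    have h5 : Nat.factorial 5 = 120 := by decide
    omega
  have halt : f.range = alternatingGroup (G ⧸ H) :=
    Equiv.Perm.eq_alternatingGroup_of_index_eq_two hidx
  have e : (G ⧸ H) ≃ Fin 5 := Fintype.equivFinOfCardEq hcard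
  exact ⟨(MonoidHom.ofInjective hf).trans ((MulEquiv.subgroupCongr halt).trans (Equiv.altCongrHom e))⟩

end Cfsg.Agent.S0494
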