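import Cfsg.Statements.S3377
-- import your own Cfsg.Agent.* helpers here

set_option autoImplicit false
open Cfsg

namespace Cfsg.Agent.S3377

/-! Coset enumeration over the cyclic subgroup generated by `y` (12 cosets), each table entry
proved from the relators; then a surjection onto `Alt(5)`. -/

abbrev rels : Set (FreeGroup (Fin 2)) := {FreeGroup.of (0 : Fin 2) ^ 3, FreeGroup.of (1 : Fin 2) ^ 5,
        (FreeGroup.of (0 : Fin 2) * FreeGroup.of 1) ^ 2}
abbrev G := PresentedGroup rels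
def x : G := PresentedGroup.of 0
def y : G := PresentedGroup.of 1

theorem hx : x ^ 3 = 1 := by
  have : (FreeGroup.of (0 : Fin 2) ^ 3) ∈ rels := by simp [rels]
  have h := PresentedGroup.one_of_mem this
  simpa [x, PresentedGroup.of] using h

theorem hy : y ^ 5 = 1 := by
  have : (FreeGroup.of (1 : Fin 2) ^ 5) ∈ rels := by simp [rels]
  have h := PresentedGroup.one_of_mem this
  simpa [y, PresentedGroup.of] using h

theorem hxy : (x * y) ^ 2 = 1 := by
  have : ((FreeGroup.of (0 : Fin 2) * FreeGroup.of 1) ^ 2) ∈ rels := by simp [rels]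
  have h := PresentedGroup.one_of_mem this
  simpa [x, y, PresentedGroup.of] using h

theorem hrel0 : x * x * x = 1 := by rw [← hx]; simp only [pow_succ, pow_zero, one_mul]
theorem hrel1 : y * y * y * y * y = 1 := by rw [← hy]; simp only [pow_succ, pow_zero, one_mul]
theorem hrel2 : x * y * x * y = 1 := by rw [← hxy]; simp only [pow_succ, pow_zero, one_mul, mul_assoc]

def H : Subgroup G := Subgroup.zpowers y
abbrev Q := G ⧸ H
def cq (a : G) : Q := QuotientGroup.mk a
theorem smul_cq (g a : G) : g • cq a = cq (g * a) := rfl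

def u0 : G := 1
def u1 : G := x * u0
def u2 : G := x * u1
def u3 : G := y * u2
def u5 : G := x * u3
def u4 : G := y * u3
def u6 : G := x * u5
def u7 : G := x * u4
def u8 : G := y * u6
def u9 : G := y * u8
def u10 : G := x * u9
def u11 : G := x * u10
theorem rel0 (q : Q) : x • x • x • q = q := by
  have h : x * x * x = 1 := hrel0
  calc x • x • x • q = (x * x * x) • q := by simp only [mul_smul]
    _ = q := by rw [h, one_smul]
theorem rel1 (q : Q) : y • y • y • y • y • q = q := by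
  have h : y * y * y * y * y = 1 := hrel1
  calc y • y • y • y • y • q = (y * y * y * y * y) • q := by simp only [mul_smul]
    _ = q := by rw [h, one_smul]
theorem rel2 (q : Q) : x • y • x • y • q = q := by
  have h : x * y * x * y = 1 := hrel2
  calc x • y • x • y • q = (x * y * x * y) • q := by simp only [mul_smul]
    _ = q := by rw [h, one_smul]

theorem sub0 : y • cq u0 = cq u0 := by
  rw [smul_cq]
  apply QuotientGroup.eq.mpr
  have : (y * u0)⁻¹ * u0 = y⁻¹ := by simp [u0]
  rw [this]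
  exact H.inv_mem (Subgroup.mem_zpowers y)

theorem f_0_1 : x • cq u0 = cq u1 := rfl
theorem fi_0_1 : x⁻¹ • cq u1 = cq u0 := inv_smul_eq_iff.mpr f_0_1.symm
theorem f_1_1 : x • cq u1 = cq u2 := rfl
theorem fi_1_1 : x⁻¹ • cq u2 = cq u1 := inv_smul_eq_iff.mpr f_1_1.symm
theorem f_2_2 : y • cq u2 = cq u3 := rfl
theorem fi_2_2 : y⁻¹ • cq u3 = cq u2 := inv_smul_eq_iff.mpr f_2_2.symm
theorem f_3_1 : x • cq u3 = cq u5 := rfl
theorem fi_3_1 : x⁻¹ • cq u5 = cq u3 := inv_smul_eq_iff.mpr f_3_1.symm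
theorem f_3_2 : y • cq u3 = cq u4 := rfl
theorem fi_3_2 : y⁻¹ • cq u4 = cq u3 := inv_smul_eq_iff.mpr f_3_2.symm
theorem f_5_1 : x • cq u5 = cq u6 := rfl
theorem fi_5_1 : x⁻¹ • cq u6 = cq u5 := inv_smul_eq_iff.mpr f_5_1.symm
theorem f_4_1 : x • cq u4 = cq u7 := rfl
theorem fi_4_1 : x⁻¹ • cq u7 = cq u4 := inv_smul_eq_iff.mpr f_4_1.symm
theorem f_6_2 : y • cq u6 = cq u8 := rfl
theorem fi_6_2 : y⁻¹ • cq u8 = cq u6 := inv_smul_eq_iff.mpr f_6_2.symm
theorem f_8_2 : y • cq u8 = cq u9 := rfl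
theorem fi_8_2 : y⁻¹ • cq u9 = cq u8 := inv_smul_eq_iff.mpr f_8_2.symm
theorem f_9_1 : x • cq u9 = cq u10 := rfl
theorem fi_9_1 : x⁻¹ • cq u10 = cq u9 := inv_smul_eq_iff.mpr f_9_1.symm
theorem f_10_1 : x • cq u10 = cq u11 := rfl
theorem fi_10_1 : x⁻¹ • cq u11 = cq u10 := inv_smul_eq_iff.mpr f_10_1.symm
theorem f_0_2 : y • cq u0 = cq u0 := by
  have h := sub0
  exact h
theorem fi_0_2 : y⁻¹ • cq u0 = cq u0 := inv_smul_eq_iff.mpr f_0_2.symm
theorem f_2_1 : x • cq u2 = cq u0 := by
  have h := rel0 (cq u0)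
  rw [f_0_1] at h
  rw [f_1_1] at h
  exact h
theorem fi_2_1 : x⁻¹ • cq u0 = cq u2 := inv_smul_eq_iff.mpr f_2_1.symm
theorem f_1_2 : y • cq u1 = cq u2 := by
  have h := rel2 (cq u0)
  rw [f_0_2] at h
  rw [f_0_1] at h
  have h0 := smul_left_cancel _ (h.trans f_2_1.symm)
  exact h0
theorem fi_1_2 : y⁻¹ • cq u2 = cq u1 := inv_smul_eq_iff.mpr f_1_2.symm
theorem f_5_2 : y • cq u5 = cq u1 := by
  have h := rel2 (cq u2)
  rw [f_2_2] at h
  rw [f_3_1] at h
  have h0 := smul_left_cancel _ (h.trans f_1_1.symm)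
  exact h0
theorem fi_5_2 : y⁻¹ • cq u1 = cq u5 := inv_smul_eq_iff.mpr f_5_2.symm
theorem f_6_1 : x • cq u6 = cq u3 := by
  have h := rel0 (cq u3)
  rw [f_3_1] at h
  rw [f_5_1] at h
  exact h
theorem fi_6_1 : x⁻¹ • cq u3 = cq u6 := inv_smul_eq_iff.mpr f_6_1.symm
theorem f_4_2 : y • cq u4 = cq u5 := by
  have h := rel1 (cq u3)
  rw [f_3_2] at h
  have h0 := smul_left_cancel _ (h.trans f_2_2.symm)
  have h1 := smul_left_cancel _ (h0.trans f_1_2.symm)
  have h2 := smul_left_cancel _ (h1.trans f_5_2.symm)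
  exact h2
theorem fi_4_2 : y⁻¹ • cq u5 = cq u4 := inv_smul_eq_iff.mpr f_4_2.symm
theorem f_7_2 : y • cq u7 = cq u6 := by
  have h := rel2 (cq u3)
  rw [f_3_2] at h
  rw [f_4_1] at h
  have h0 := smul_left_cancel _ (h.trans f_6_1.symm)
  exact h0
theorem fi_7_2 : y⁻¹ • cq u6 = cq u7 := inv_smul_eq_iff.mpr f_7_2.symm
theorem f_8_1 : x • cq u8 = cq u4 := by
  have h := rel2 (cq u4)
  rw [f_4_2] at h
  rw [f_5_1] at h
  rw [f_6_2] at h
  exact h
theorem fi_8_1 : x⁻¹ • cq u4 = cq u8 := inv_smul_eq_iff.mpr f_8_1.symm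
theorem f_7_1 : x • cq u7 = cq u8 := by
  have h := rel0 (cq u7)
  have h0 := smul_left_cancel _ (h.trans f_4_1.symm)
  have h1 := smul_left_cancel _ (h0.trans f_8_1.symm)
  exact h1
theorem fi_7_1 : x⁻¹ • cq u8 = cq u7 := inv_smul_eq_iff.mpr f_7_1.symm
theorem f_10_2 : y • cq u10 = cq u7 := by
  have h := rel2 (cq u8)
  rw [f_8_2] at h
  rw [f_9_1] at h
  have h0 := smul_left_cancel _ (h.trans f_7_1.symm)
  exact h0
theorem fi_10_2 : y⁻¹ • cq u7 = cq u10 := inv_smul_eq_iff.mpr f_10_2.symm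
theorem f_11_1 : x • cq u11 = cq u9 := by
  have h := rel0 (cq u9)
  rw [f_9_1] at h
  rw [f_10_1] at h
  exact h
theorem fi_11_1 : x⁻¹ • cq u9 = cq u11 := inv_smul_eq_iff.mpr f_11_1.symm
theorem f_9_2 : y • cq u9 = cq u10 := by
  have h := rel1 (cq u9)
  have h0 := smul_left_cancel _ (h.trans f_8_2.symm)
  have h1 := smul_left_cancel _ (h0.trans f_6_2.symm)
  have h2 := smul_left_cancel _ (h1.trans f_7_2.symm)
  have h3 := smul_left_cancel _ (h2.trans f_10_2.symm)
  exact h3
theorem fi_9_2 : y⁻¹ • cq u10 = cq u9 := inv_smul_eq_iff.mpr f_9_2.symm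
theorem f_11_2 : y • cq u11 = cq u11 := by
  have h := rel2 (cq u9)
  rw [f_9_2] at h
  rw [f_10_1] at h
  have h0 := smul_left_cancel _ (h.trans f_11_1.symm)
  exact h0
theorem fi_11_2 : y⁻¹ • cq u11 = cq u11 := inv_smul_eq_iff.mpr f_11_2.symm

def u : Fin 12 → G := ![u0, u1, u2, u3, u4, u5, u6, u7, u8, u9, u10, u11]
def nxt1 : Fin 12 → Fin 12 := ![1, 2, 0, 5, 7, 6, 3, 8, 4, 10, 11, 9]
theorem act1 : ∀ c : Fin 12, x • cq (u c) = cq (u (nxt1 c)) := by
  intro c; fin_cases c
  · exact f_0_1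
  · exact f_1_1
  · exact f_2_1
  · exact f_3_1
  · exact f_4_1
  · exact f_5_1
  · exact f_6_1
  · exact f_7_1
  · exact f_8_1
  · exact f_9_1
  · exact f_10_1
  · exact f_11_1
def nxt2 : Fin 12 → Fin 12 := ![0, 2, 3, 4, 5, 1, 8, 6, 9, 10, 7, 11]
theorem act2 : ∀ c : Fin 12, y • cq (u c) = cq (u (nxt2 c)) := by
  intro c; fin_cases c
  · exact f_0_2
  · exact f_1_2
  · exact f_2_2
  · exact f_3_2
  · exact f_4_2
  · exact f_5_2
  · exact f_6_2
  · exact f_7_2
  · exact f_8_2
  · exact f_9_2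
  · exact f_10_2
  · exact f_11_2


theorem xinv : x⁻¹ = x * x := by
  apply inv_eq_of_mul_eq_one_right
  rw [← mul_assoc]; exact hrel0

theorem yinv : y⁻¹ = y * y * y * y := by
  apply inv_eq_of_mul_eq_one_right
  have := hrel1
  simpa only [mul_assoc] using this

/-- Every group element maps coset representatives to coset representatives. -/
theorem reach (a : G) : ∀ c : Fin 12, ∃ d : Fin 12, a • cq (u c) = cq (u d) := by
  induction a using PresentedGroup.induction_on with
  | _ z =>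
  induction z using FreeGroup.induction_on with
  | C1 => intro c; exact ⟨c, by rw [map_one, one_smul]⟩
  | of i =>
    intro c
    fin_cases i
    · exact ⟨nxt1 c, act1 c⟩
    · exact ⟨nxt2 c, act2 c⟩
  | inv_of i _ =>
    intro c
    fin_cases i
    · refine ⟨nxt1 (nxt1 c), ?_⟩
      show (PresentedGroup.mk rels (FreeGroup.of 0)⁻¹) • cq (u c) = _
      rw [map_inv]
      show x⁻¹ • cq (u c) = _
      rw [xinv, mul_smul, act1, act1]
    · refine ⟨nxt2 (nxt2 (nxt2 (nxt2 c))), ?_⟩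
      show (PresentedGroup.mk rels (FreeGroup.of 1)⁻¹) • cq (u c) = _
      rw [map_inv]
      show y⁻¹ • cq (u c) = _
      rw [yinv, mul_smul, mul_smul, mul_smul, act2, act2, act2, act2]
  | mul a b iha ihb =>
    intro c
    obtain ⟨d, hd⟩ := ihb c
    obtain ⟨e, he⟩ := iha d
    exact ⟨e, by rw [map_mul, mul_smul, hd, he]⟩

theorem surj_reps : Function.Surjective (fun c : Fin 12 => cq (u c)) := by
  intro q
  induction q using QuotientGroup.induction_on with
  | H a =>
  obtain ⟨d, hd⟩ := reach a 0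
  refine ⟨d, ?_⟩
  show cq (u d) = cq a
  rw [← hd, smul_cq]
  show cq (a * u0) = cq a
  rw [u0, mul_one]

instance finiteQ : Finite Q := Finite.of_surjective _ surj_reps

theorem cardQ : Nat.card Q ≤ 12 := by
  have := Nat.card_le_card_of_surjective _ surj_reps
  simpa using this

theorem orderOf_y_dvd : orderOf y ∣ 5 := orderOf_dvd_of_pow_eq_one hy

theorem cardH : Nat.card H ≤ 5 := by
  rw [H, Nat.card_zpowers]
  exact Nat.le_of_dvd (by norm_num) orderOf_y_dvd

theorem cardH_pos : 0 < Nat.card H := by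
  rw [H, Nat.card_zpowers]
  exact Nat.pos_of_dvd_of_pos orderOf_y_dvd (by norm_num)

theorem cardG_eq : Nat.card G = Nat.card Q * Nat.card H :=
  Subgroup.card_eq_card_quotient_mul_card_subgroup H

theorem cardG_le : Nat.card G ≤ 60 := by
  rw [cardG_eq]
  calc Nat.card Q * Nat.card H ≤ 12 * 5 := Nat.mul_le_mul cardQ cardH
    _ = 60 := by norm_num

instance finiteG : Finite G := by
  apply Nat.finite_of_card_ne_zero
  rw [cardG_eq]
  have h1 : 0 < Nat.card Q := Nat.card_pos
  exact (Nat.mul_pos h1 cardH_pos).ne'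

/-! The homomorphism onto `Alt(5)`. -/

def x' : alternatingGroup (Fin 5) :=
  ⟨c[1, 4, 2], by rw [Equiv.Perm.mem_alternatingGroup]; decide⟩
def y' : alternatingGroup (Fin 5) :=
  ⟨c[0, 1, 2, 3, 4], by rw [Equiv.Perm.mem_alternatingGroup]; decide⟩

def gensImg : Fin 2 → alternatingGroup (Fin 5) := ![x', y']

set_option maxRecDepth 100000 in
theorem x'_pow : x' ^ 3 = 1 := by decide
set_option maxRecDepth 100000 in
theorem y'_pow : y' ^ 5 = 1 := by decide
set_option maxRecDepth 100000 in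
theorem xy'_pow : (x' * y') ^ 2 = 1 := by decide
set_option maxRecDepth 100000 in
theorem x'_ne : x' ≠ 1 := by decide
set_option maxRecDepth 100000 in
theorem y'_ne : y' ≠ 1 := by decide
set_option maxRecDepth 100000 in
theorem xy'_ne : x' * y' ≠ 1 := by decide

theorem gensImg_rels : ∀ r ∈ rels, FreeGroup.lift gensImg r = 1 := by
  intro r hr
  simp only [rels, Set.mem_insert_iff, Set.mem_singleton_iff] at hr
  rcases hr with rfl | rfl | rfl
  · simp only [map_pow, FreeGroup.lift_apply_of, gensImg]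
    exact x'_pow
  · simp only [map_pow, FreeGroup.lift_apply_of, gensImg]
    exact y'_pow
  · simp only [map_pow, map_mul, FreeGroup.lift_apply_of, gensImg]
    exact xy'_pow

def phi : G →* alternatingGroup (Fin 5) := PresentedGroup.toGroup gensImg_rels

theorem phi_x : phi x = x' := by
  simp [phi, x, gensImg]

theorem phi_y : phi y = y' := by
  simp [phi, y, gensImg]

theorem cardA5 : Nat.card (alternatingGroup (Fin 5)) = 60 := by
  rw [nat_card_alternatingGroup]; simp; rfl

theorem card_range_phi : Nat.card phi.range = 60 := by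
  have : Fact (Nat.Prime 2) := ⟨by norm_num⟩
  have : Fact (Nat.Prime 3) := ⟨by norm_num⟩
  have : Fact (Nat.Prime 5) := ⟨by norm_num⟩
  have h3 : orderOf x' = 3 := orderOf_eq_prime x'_pow x'_ne
  have h5 : orderOf y' = 5 := orderOf_eq_prime y'_pow y'_ne
  have h2 : orderOf (x' * y') = 2 := orderOf_eq_prime xy'_pow xy'_ne
  have hxR : x' ∈ phi.range := ⟨x, phi_x⟩
  have hyR : y' ∈ phi.range := ⟨y, phi_y⟩
  have hxyR : x' * y' ∈ phi.range := phi.range.mul_mem hxR hyR
  have d3 : 3 ∣ Nat.card phi.range := by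
    have := Subgroup.orderOf_dvd_natCard _ hxR
    rwa [h3] at this
  have d5 : 5 ∣ Nat.card phi.range := by
    have := Subgroup.orderOf_dvd_natCard _ hyR
    rwa [h5] at this
  have d2 : 2 ∣ Nat.card phi.range := by
    have := Subgroup.orderOf_dvd_natCard _ hxyR
    rwa [h2] at this
  have d30 : 30 ∣ Nat.card phi.range := by
    have d15 : 15 ∣ Nat.card phi.range :=
      Nat.Coprime.mul_dvd_of_dvd_of_dvd (by norm_num : Nat.Coprime 3 5) d3 d5
    exact Nat.Coprime.mul_dvd_of_dvd_of_dvd (by norm_num : Nat.Coprime 2 15) d2 d15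
  have hidx : phi.range.index * Nat.card phi.range = 60 := by
    rw [Subgroup.index_mul_card, cardA5]
  obtain ⟨k, hk⟩ := d30
  rw [hk] at hidx
  have hk2 : k ∣ 2 := by
    have h60 : 30 * k ∣ 30 * 2 := Dvd.intro_left _ hidx
    exact Nat.dvd_of_mul_dvd_mul_left (by norm_num) h60
  have hk_le : k ≤ 2 := Nat.le_of_dvd (by norm_num) hk2
  have hk_pos : 0 < k := Nat.pos_of_dvd_of_pos hk2 (by norm_num)
  interval_cases k
  · -- card = 30, index = 2
    exfalso
    have hidx2 : phi.range.index = 2 := by omega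
    have : IsSimpleGroup (alternatingGroup (Fin 5)) := alternatingGroup.isSimpleGroup_five
    have hn : phi.range.Normal := Subgroup.normal_of_index_eq_two hidx2
    rcases hn.eq_bot_or_eq_top with hb | ht
    · rw [hb] at hk; simp at hk
    · rw [ht, Subgroup.index_top] at hidx2; omega
  · rw [hk]

theorem phi_surj : Function.Surjective phi := by
  rw [← MonoidHom.range_eq_top]
  apply Subgroup.eq_top_of_card_eq
  rw [card_range_phi, cardA5]

theorem phi_bij : Function.Bijective phi := by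
  apply phi_surj.bijective_of_nat_card_le
  rw [cardA5]
  exact cardG_le

/-- The alternating group of degree 5 has the presentation ⟨x, y | x³ = 1, y⁵ = 1, (xy)² = 1⟩: the group so presented is isomorphic to Alt(5). -/
theorem result :
    Nonempty (PresentedGroup ({FreeGroup.of (0 : Fin 2) ^ 3, FreeGroup.of (1 : Fin 2) ^ 5,
        (FreeGroup.of (0 : Fin 2) * FreeGroup.of 1) ^ 2} : Set (FreeGroup (Fin 2))) ≃* alternatingGroup (Fin 5)) :=
  ⟨MulEquiv.ofBijective phi phi_bij⟩

end Cfsg.Agent.S3377
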