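import Cfsg.Statements.S3378
import Cfsg.Agent.S3377
import Cfsg.Agent.S0061
import Cfsg.Agent.S0494
import Cfsg.Agent.Lib.Helper17_Sylow
import Cfsg.Agent.Lib.Helper35_PSL2Card

set_option autoImplicit false
set_option linter.unusedSimpArgs false
open Cfsg

namespace Cfsg.Agent.S3378

/-! ### Part 2: the presentation of `SL(2,5)` -/

abbrev rels : Set (FreeGroup (Fin 3)) :=
  {FreeGroup.of (0 : Fin 3) ^ 3, FreeGroup.of (1 : Fin 3) ^ 5, FreeGroup.of (2 : Fin 3) ^ 2,
    (FreeGroup.of (2 : Fin 3))⁻¹ * FreeGroup.of 0 * FreeGroup.of 2 * (FreeGroup.of (0 : Fin 3))⁻¹,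
    (FreeGroup.of (2 : Fin 3))⁻¹ * FreeGroup.of 1 * FreeGroup.of 2 * (FreeGroup.of (1 : Fin 3))⁻¹,
    (FreeGroup.of (0 : Fin 3) * FreeGroup.of 1) ^ 2 * (FreeGroup.of (2 : Fin 3))⁻¹}

abbrev Gam := PresentedGroup rels
def x : Gam := PresentedGroup.of 0
def y : Gam := PresentedGroup.of 1
def z : Gam := PresentedGroup.of 2

theorem hx : x ^ 3 = 1 := by
  have : (FreeGroup.of (0 : Fin 3) ^ 3) ∈ rels := by simp [rels]
  have h := PresentedGroup.one_of_mem this
  rw [map_pow] at h
  exact h

theorem hy : y ^ 5 = 1 := by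
  have : (FreeGroup.of (1 : Fin 3) ^ 5) ∈ rels := by simp [rels]
  have h := PresentedGroup.one_of_mem this
  rw [map_pow] at h
  exact h

theorem hz : z ^ 2 = 1 := by
  have : (FreeGroup.of (2 : Fin 3) ^ 2) ∈ rels := by simp [rels]
  have h := PresentedGroup.one_of_mem this
  rw [map_pow] at h
  exact h

theorem hzx : x * z = z * x := by
  have : (FreeGroup.of (2 : Fin 3))⁻¹ * FreeGroup.of 0 * FreeGroup.of 2 *
      (FreeGroup.of (0 : Fin 3))⁻¹ ∈ rels := by simp [rels]
  have h := PresentedGroup.one_of_mem this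
  rw [map_mul, map_mul, map_mul, map_inv, map_inv] at h
  change z⁻¹ * x * z * x⁻¹ = 1 at h
  have h2 : z⁻¹ * x * z = x := by
    rw [mul_inv_eq_one] at h; exact h
  calc x * z = z * (z⁻¹ * x * z) := by simp only [mul_assoc, mul_inv_cancel_left]
    _ = z * x := by rw [h2]

theorem hzy : y * z = z * y := by
  have : (FreeGroup.of (2 : Fin 3))⁻¹ * FreeGroup.of 1 * FreeGroup.of 2 *
      (FreeGroup.of (1 : Fin 3))⁻¹ ∈ rels := by simp [rels]
  have h := PresentedGroup.one_of_mem this
  rw [map_mul, map_mul, map_mul, map_inv, map_inv] at h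
  change z⁻¹ * y * z * y⁻¹ = 1 at h
  have h2 : z⁻¹ * y * z = y := by
    rw [mul_inv_eq_one] at h; exact h
  calc y * z = z * (z⁻¹ * y * z) := by simp only [mul_assoc, mul_inv_cancel_left]
    _ = z * y := by rw [h2]

theorem hxy : (x * y) ^ 2 = z := by
  have : (FreeGroup.of (0 : Fin 3) * FreeGroup.of 1) ^ 2 * (FreeGroup.of (2 : Fin 3))⁻¹ ∈ rels := by
    simp [rels]
  have h := PresentedGroup.one_of_mem this
  rw [map_mul, map_pow, map_mul, map_inv] at h
  change (x * y) ^ 2 * z⁻¹ = 1 at h
  rw [mul_inv_eq_one] at h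
  exact h

/-- universal property in convenient form -/
theorem lift_ok {H : Type*} [Group H] (f : Fin 3 → H)
    (h1 : f 0 ^ 3 = 1) (h2 : f 1 ^ 5 = 1) (h3 : f 2 ^ 2 = 1)
    (h4 : f 0 * f 2 = f 2 * f 0) (h5 : f 1 * f 2 = f 2 * f 1) (h6 : (f 0 * f 1) ^ 2 = f 2) :
    ∀ r ∈ rels, FreeGroup.lift f r = 1 := by
  intro r hr
  simp only [rels, Set.mem_insert_iff, Set.mem_singleton_iff] at hr
  rcases hr with rfl | rfl | rfl | rfl | rfl | rfl
  · rw [map_pow, FreeGroup.lift_apply_of]; exact h1
  · rw [map_pow, FreeGroup.lift_apply_of]; exact h2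
  · rw [map_pow, FreeGroup.lift_apply_of]; exact h3
  · simp only [map_mul, map_inv, FreeGroup.lift_apply_of]
    rw [mul_assoc (f 2)⁻¹, h4, ← mul_assoc, inv_mul_cancel, one_mul, mul_inv_cancel]
  · simp only [map_mul, map_inv, FreeGroup.lift_apply_of]
    rw [mul_assoc (f 2)⁻¹, h5, ← mul_assoc, inv_mul_cancel, one_mul, mul_inv_cancel]
  · simp only [map_mul, map_pow, map_inv, FreeGroup.lift_apply_of]
    rw [h6, mul_inv_cancel]

/-- `z` is central -/
theorem z_central : z ∈ Subgroup.center Gam := by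
  have h : ∀ g : Gam, g ∈ Subgroup.centralizer ({z} : Set Gam) := by
    apply PresentedGroup.generated_by
    intro j
    rw [Subgroup.mem_centralizer_singleton_iff]
    fin_cases j
    · exact hzx
    · exact hzy
    · rfl
  rw [Subgroup.mem_center_iff]
  intro g
  have := h g
  rw [Subgroup.mem_centralizer_singleton_iff] at this
  exact this

/-- the central subgroup generated by `z` -/
def Zs : Subgroup Gam := Subgroup.zpowers z

instance Zs_normal : Zs.Normal := by
  constructor
  intro n hn g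
  obtain ⟨k, rfl⟩ := Subgroup.mem_zpowers_iff.mp hn
  have hc : z ^ k ∈ Subgroup.center Gam := (Subgroup.center Gam).zpow_mem z_central k
  have : g * z ^ k * g⁻¹ = z ^ k := by
    rw [Subgroup.mem_center_iff] at hc
    rw [hc g, mul_assoc, mul_inv_cancel, mul_one]
  rw [this]
  exact Subgroup.zpow_mem_zpowers z k

theorem card_Zs_le : Nat.card Zs ≤ 2 := by
  rw [Zs, Nat.card_zpowers]
  exact Nat.le_of_dvd (by norm_num) (orderOf_dvd_of_pow_eq_one hz)

theorem card_Zs_pos : 0 < Nat.card Zs := by
  rw [Zs, Nat.card_zpowers]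
  exact Nat.pos_of_dvd_of_pos (orderOf_dvd_of_pow_eq_one hz) (by norm_num)

/-- images of the generators of the `A5` presentation in the quotient -/
def qGens : Fin 2 → Gam ⧸ Zs := ![QuotientGroup.mk x, QuotientGroup.mk y]

theorem qGens_rels : ∀ r ∈ S3377.rels, FreeGroup.lift qGens r = 1 := by
  intro r hr
  simp only [S3377.rels, Set.mem_insert_iff, Set.mem_singleton_iff] at hr
  rcases hr with rfl | rfl | rfl
  · simp only [map_pow, FreeGroup.lift_apply_of, qGens, Matrix.cons_val_zero]
    rw [← QuotientGroup.mk_pow, hx]; rfl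
  · simp only [map_pow, FreeGroup.lift_apply_of, qGens, Matrix.cons_val_one, Matrix.cons_val_zero]
    rw [← QuotientGroup.mk_pow, hy]; rfl
  · simp only [map_pow, map_mul, FreeGroup.lift_apply_of, qGens, Matrix.cons_val_one,
      Matrix.cons_val_zero]
    rw [← QuotientGroup.mk_mul, ← QuotientGroup.mk_pow, hxy]
    exact (QuotientGroup.eq_one_iff (N := Zs) z).mpr (show z ∈ Zs from Subgroup.mem_zpowers z)

/-- the map from the `A5` presentation onto the quotient -/
def qHom : S3377.G →* Gam ⧸ Zs := PresentedGroup.toGroup qGens_rels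

theorem qHom_surj : Function.Surjective qHom := by
  have h : ∀ g : Gam, g ∈ (qHom.range).comap (QuotientGroup.mk' Zs) := by
    apply PresentedGroup.generated_by
    intro j
    rw [Subgroup.mem_comap]
    fin_cases j
    · exact ⟨S3377.x, by simp [qHom, S3377.x, qGens]; rfl⟩
    · exact ⟨S3377.y, by simp [qHom, S3377.y, qGens]; rfl⟩
    · refine ⟨1, ?_⟩
      rw [map_one]
      exact ((QuotientGroup.eq_one_iff (N := Zs) z).mpr (show z ∈ Zs from Subgroup.mem_zpowers z)).symm
  intro q
  obtain ⟨g, rfl⟩ := QuotientGroup.mk'_surjective Zs q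
  exact h g

theorem card_quot_le : Nat.card (Gam ⧸ Zs) ≤ 60 :=
  (Nat.card_le_card_of_surjective qHom qHom_surj).trans S3377.cardG_le

instance finite_quot : Finite (Gam ⧸ Zs) := Finite.of_surjective qHom qHom_surj

theorem cardGam_eq : Nat.card Gam = Nat.card (Gam ⧸ Zs) * Nat.card Zs :=
  Subgroup.card_eq_card_quotient_mul_card_subgroup Zs

theorem cardGam_le : Nat.card Gam ≤ 120 := by
  rw [cardGam_eq]
  calc Nat.card (Gam ⧸ Zs) * Nat.card Zs ≤ 60 * 2 := Nat.mul_le_mul card_quot_le card_Zs_le
    _ = 120 := by norm_num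

instance finiteGam : Finite Gam := by
  apply Nat.finite_of_card_ne_zero
  rw [cardGam_eq]
  have h1 : 0 < Nat.card (Gam ⧸ Zs) := Nat.card_pos
  exact (Nat.mul_pos h1 card_Zs_pos).ne'

/-! The homomorphism onto `SL(2,5)`, computed with quadruples. -/

abbrev S5 := Matrix.SpecialLinearGroup (Fin 2) (ZMod 5)
abbrev M5 := ZMod 5 × ZMod 5 × ZMod 5 × ZMod 5

def mul4 (A B : M5) : M5 :=
  (A.1 * B.1 + A.2.1 * B.2.2.1, A.1 * B.2.1 + A.2.1 * B.2.2.2,
   A.2.2.1 * B.1 + A.2.2.2 * B.2.2.1, A.2.2.1 * B.2.1 + A.2.2.2 * B.2.2.2)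

def one4 : M5 := (1, 0, 0, 1)

def pow4 (A : M5) : ℕ → M5
  | 0 => one4
  | n + 1 => mul4 (pow4 A n) A

def toQuad (A : S5) : M5 := (A.1 0 0, A.1 0 1, A.1 1 0, A.1 1 1)

theorem toQuad_mul (A B : S5) : toQuad (A * B) = mul4 (toQuad A) (toQuad B) := by
  simp [toQuad, mul4, Matrix.SpecialLinearGroup.coe_mul, Matrix.mul_apply, Fin.sum_univ_two]

theorem toQuad_one : toQuad 1 = one4 := by
  simp [toQuad, one4]

theorem toQuad_pow (A : S5) (n : ℕ) : toQuad (A ^ n) = pow4 (toQuad A) n := by
  induction n with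
  | zero => rw [pow_zero, toQuad_one]; rfl
  | succ n ih => rw [pow_succ, toQuad_mul, ih]; rfl

theorem toQuad_injective : Function.Injective toQuad := by
  intro A B h
  simp only [toQuad, Prod.mk.injEq] at h
  apply Subtype.ext
  ext i j
  fin_cases i <;> fin_cases j
  · exact h.1
  · exact h.2.1
  · exact h.2.2.1
  · exact h.2.2.2

theorem det_eq (A : S5) : A.1 0 0 * A.1 1 1 - A.1 0 1 * A.1 1 0 = 1 := by
  have := A.2
  rwa [Matrix.det_fin_two] at this

def X4 : M5 := (0, 1, 4, 4)
def Y4 : M5 := (1, 4, 0, 1)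
def Z4 : M5 := (4, 0, 0, 4)

def x' : S5 := ⟨!![0, 1; 4, 4], by rw [Matrix.det_fin_two]; decide⟩
def y' : S5 := ⟨!![1, 4; 0, 1], by rw [Matrix.det_fin_two]; decide⟩
def z' : S5 := ⟨!![4, 0; 0, 4], by rw [Matrix.det_fin_two]; decide⟩

theorem toQuad_x' : toQuad x' = X4 := by simp [toQuad, x', X4]
theorem toQuad_y' : toQuad y' = Y4 := by simp [toQuad, y', Y4]
theorem toQuad_z' : toQuad z' = Z4 := by simp [toQuad, z', Z4]

def sGens : Fin 3 → S5 := ![x', y', z']

theorem sGens_rels : ∀ r ∈ rels, FreeGroup.lift sGens r = 1 := by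
  apply lift_ok
  · apply toQuad_injective
    simp only [sGens, Matrix.cons_val_zero]
    rw [toQuad_pow, toQuad_x', toQuad_one]; decide
  · apply toQuad_injective
    simp only [sGens, Matrix.cons_val_one, Matrix.cons_val_zero]
    rw [toQuad_pow, toQuad_y', toQuad_one]; decide
  · apply toQuad_injective
    simp only [sGens, Matrix.cons_val_two, Matrix.cons_val_one, Matrix.cons_val_zero,
      Matrix.tail_cons, Matrix.head_cons]
    rw [toQuad_pow, toQuad_z', toQuad_one]; decide
  · apply toQuad_injective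
    simp only [sGens, Matrix.cons_val_two, Matrix.cons_val_one, Matrix.cons_val_zero,
      Matrix.tail_cons, Matrix.head_cons]
    rw [toQuad_mul, toQuad_mul, toQuad_x', toQuad_z']; decide
  · apply toQuad_injective
    simp only [sGens, Matrix.cons_val_two, Matrix.cons_val_one, Matrix.cons_val_zero,
      Matrix.tail_cons, Matrix.head_cons]
    rw [toQuad_mul, toQuad_mul, toQuad_y', toQuad_z']; decide
  · apply toQuad_injective
    simp only [sGens, Matrix.cons_val_two, Matrix.cons_val_one, Matrix.cons_val_zero,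
      Matrix.tail_cons, Matrix.head_cons]
    rw [toQuad_pow, toQuad_mul, toQuad_x', toQuad_y', toQuad_z']; decide

def phi : Gam →* S5 := PresentedGroup.toGroup sGens_rels

theorem phi_x : phi x = x' := by simp [phi, x, sGens]
theorem phi_y : phi y = y' := by simp [phi, y, sGens]
theorem phi_z : phi z = z' := by simp [phi, z, sGens]

/-! Surjectivity by an explicit normal form. -/

def uG : Gam := y ^ 4
def wG : Gam := x * y
def tG : Gam := x * x * y * y * y * x * y * y * y * x

def U4 : M5 := (1, 1, 0, 1)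
def W4 : M5 := (0, 1, 4, 0)
def T4 : M5 := (2, 0, 0, 3)

theorem toQuad_phi_u : toQuad (phi uG) = U4 := by
  rw [uG, map_pow, phi_y, toQuad_pow, toQuad_y']; decide

theorem toQuad_phi_w : toQuad (phi wG) = W4 := by
  rw [wG, map_mul, phi_x, phi_y, toQuad_mul, toQuad_x', toQuad_y']; decide

theorem toQuad_phi_t : toQuad (phi tG) = T4 := by
  simp only [tG, map_mul, phi_x, phi_y, toQuad_mul, toQuad_x', toQuad_y']; decide

def dlog (a : ZMod 5) : ℕ :=
  match a.val with
  | 1 => 0
  | 2 => 1
  | 4 => 2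
  | 3 => 3
  | _ => 0

/-- normal form in the presented group -/
def gam (p q r s : ZMod 5) : Gam :=
  if r = 0 then tG ^ (dlog p) * uG ^ (q * p ^ 3).val
  else uG ^ (p * r ^ 3).val * wG * tG ^ (dlog (-r)) * uG ^ (s * r ^ 3).val

/-- the same normal form on quadruples -/
def nf4 (p q r s : ZMod 5) : M5 :=
  if r = 0 then mul4 (pow4 T4 (dlog p)) (pow4 U4 (q * p ^ 3).val)
  else mul4 (mul4 (mul4 (pow4 U4 (p * r ^ 3).val) W4) (pow4 T4 (dlog (-r)))) (pow4 U4 (s * r ^ 3).val)

theorem toQuad_phi_gam (p q r s : ZMod 5) : toQuad (phi (gam p q r s)) = nf4 p q r s := by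
  unfold gam nf4
  split_ifs with h
  · rw [map_mul, map_pow, map_pow, toQuad_mul, toQuad_pow, toQuad_pow, toQuad_phi_t, toQuad_phi_u]
  · rw [map_mul, map_mul, map_mul, map_pow, map_pow, map_pow, toQuad_mul, toQuad_mul, toQuad_mul,
      toQuad_pow, toQuad_pow, toQuad_pow, toQuad_phi_t, toQuad_phi_u, toQuad_phi_w]

set_option maxRecDepth 100000 in
theorem nf4_eq : ∀ p q r s : ZMod 5, p * s - q * r = 1 → nf4 p q r s = (p, q, r, s) := by
  decide +kernel

theorem phi_surj : Function.Surjective phi := by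
  intro A
  refine ⟨gam (A.1 0 0) (A.1 0 1) (A.1 1 0) (A.1 1 1), ?_⟩
  apply toQuad_injective
  rw [toQuad_phi_gam, nf4_eq _ _ _ _ (det_eq A)]
  rfl

theorem cardS5 : Nat.card S5 = 120 := by
  have : Fact (Nat.Prime 5) := ⟨by norm_num⟩
  have h := Cfsg.Agent.Lib.Helper35_PSL2Card.card_SL2_mul (F := ZMod 5)
  rw [ZMod.card] at h
  show Nat.card (Matrix.SpecialLinearGroup (Fin 2) (ZMod 5)) = 120
  omega

theorem phi_bij : Function.Bijective phi := by
  apply phi_surj.bijective_of_nat_card_le
  rw [cardS5]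
  exact cardGam_le

theorem cardGam : Nat.card Gam = 120 := by
  rw [Nat.card_congr (Equiv.ofBijective phi phi_bij), cardS5]



/-! ### Part 1: recognition -/

open Cfsg.Agent.Lib.Helper17_Sylow

/-- groups whose order is a divisor of 120 other than 60 and 120 are solvable -/
theorem solvable_of_card_dvd {H : Type*} [Group H] [Finite H] (hd : Nat.card H ∣ 120)
    (h60 : Nat.card H ≠ 60) (h120 : Nat.card H ≠ 120) : Group.IsSolvable H := by
  have hmem : Nat.card H ∈ Nat.divisors 120 := Nat.mem_divisors.mpr ⟨hd, by norm_num⟩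
  have hdiv : Nat.divisors 120 = {1, 2, 3, 4, 5, 6, 8, 10, 12, 15, 20, 24, 30, 40, 60, 120} := by
    decide
  rw [hdiv] at hmem
  simp only [Finset.mem_insert, Finset.mem_singleton] at hmem
  rcases hmem with h | h | h | h | h | h | h | h | h | h | h | h | h | h | h | h
  · have : Subsingleton H := (Nat.card_eq_one_iff_unique.mp h).1
    infer_instance
  · exact S0061.result 2 2 0 Nat.prime_two Nat.prime_two (by rw [h]; norm_num)
  · exact S0061.result 2 3 0 Nat.prime_two Nat.prime_three (by rw [h]; norm_num)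
  · exact S0061.result 2 2 1 Nat.prime_two Nat.prime_two (by rw [h]; norm_num)
  · exact S0061.result 2 5 0 Nat.prime_two Nat.prime_five (by rw [h]; norm_num)
  · exact S0061.result 2 3 1 Nat.prime_two Nat.prime_three (by rw [h]; norm_num)
  · exact S0061.result 2 2 2 Nat.prime_two Nat.prime_two (by rw [h]; norm_num)
  · exact S0061.result 2 5 1 Nat.prime_two Nat.prime_five (by rw [h]; norm_num)
  · exact S0061.result 2 3 2 Nat.prime_two Nat.prime_three (by rw [h]; norm_num)
  · exact S0061.result 3 5 1 Nat.prime_three Nat.prime_five (by rw [h]; norm_num)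
  · exact S0061.result 2 5 2 Nat.prime_two Nat.prime_five (by rw [h]; norm_num)
  · exact S0061.result 2 3 3 Nat.prime_two Nat.prime_three (by rw [h]; norm_num)
  · have hsq : Squarefree (Nat.card H) := by
      rw [h, Nat.squarefree_iff_prime_squarefree]
      intro p hp hpp
      have hle : p * p ≤ 30 := Nat.le_of_dvd (by norm_num) hpp
      have hp6 : p < 6 := by nlinarith
      interval_cases p <;> simp_all (config := {decide := true})
    have : IsZGroup H := IsZGroup.of_squarefree hsq
    infer_instance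
  · exact S0061.result 2 5 3 Nat.prime_two Nat.prime_five (by rw [h]; norm_num)
  · exact absurd h h60
  · exact absurd h h120

/-- there is no simple group of order 120 -/
theorem no_simple_120 {G : Type*} [Group G] [Finite G] [IsSimpleGroup G] :
    Nat.card G ≠ 120 := by
  intro hcard
  have : Fact (Nat.Prime 5) := ⟨Nat.prime_five⟩
  have hG : Nat.card G = 5 ^ 1 * 24 := by rw [hcard]; norm_num
  have hnc : ¬ IsMulCommutative G := by
    apply not_isMulCommutative_of_not_prime
    rw [hcard]; norm_num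
  have hmem := card_sylow_mem_candidates (p := 5) hG (by norm_num)
  have hlt := one_lt_card_sylow_of_card (p := 5) hG (by norm_num) (by norm_num) (by norm_num)
  have hcand : sylowCandidates 5 24 = [1, 6] := by decide
  rw [hcand] at hmem
  simp only [List.mem_cons, List.not_mem_nil, or_false] at hmem
  have h6 : Nat.card (Sylow 5 G) = 6 := by
    rcases hmem with h | h
    · omega
    · exact h
  obtain ⟨P⟩ : Nonempty (Sylow 5 G) := inferInstance
  rw [Sylow.card_eq_index_normalizer P] at h6
  generalize hH : Subgroup.normalizer (P : Set G) = H at h6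
  have hHtop : H ≠ ⊤ := by
    intro h
    rw [h, Subgroup.index_top] at h6
    omega
  have : H.FiniteIndex := ⟨by rw [h6]; norm_num⟩
  obtain ⟨f, hf⟩ := exists_embedding_alternating hnc H hHtop
  have hcardA : Nat.card (alternatingGroup (Fin H.index)) = 360 := by
    have hnt : Nontrivial (Fin H.index) := by
      rw [Fin.nontrivial_iff_two_le, h6]; norm_num
    have h2 := two_mul_card_alternatingGroup (α := Fin H.index)
    rw [Fintype.card_perm, Fintype.card_fin, ← Nat.card_eq_fintype_card] at h2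
    have : Nat.factorial H.index = 720 := by rw [h6]; decide
    omega
  have hsimp : IsSimpleGroup (alternatingGroup (Fin H.index)) := by
    apply alternatingGroup.isSimpleGroup
    rw [Nat.card_fin, h6]; norm_num
  have hncA : ¬ IsMulCommutative (alternatingGroup (Fin H.index)) := by
    apply not_isMulCommutative_of_not_prime
    rw [hcardA]; norm_num
  have hcardR : Nat.card f.range = 120 := by
    rw [← hcard]
    exact (Nat.card_congr (MonoidHom.ofInjective hf).toEquiv).symm
  have hRtop : f.range ≠ ⊤ := by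
    intro h
    rw [h, Subgroup.card_top, hcardA] at hcardR
    omega
  have hidx : f.range.index = 3 := by
    have := Subgroup.card_mul_index f.range
    rw [hcardR, hcardA] at this
    omega
  have := two_mul_card_dvd_factorial_index hncA f.range hRtop
  rw [hidx, hcardA] at this
  have h3 : Nat.factorial 3 = 6 := by decide
  rw [h3] at this
  omega

/-- a non-solvable group of order 60 is simple -/
theorem simple_of_nonsolvable_60 {H : Type*} [Group H] [Finite H] (h60 : Nat.card H = 60)
    (hns : ¬ Group.IsSolvable H) : IsSimpleGroup H := by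
  have hnt : Nontrivial H := by
    rw [← Finite.one_lt_card_iff_nontrivial, h60]; norm_num
  refine ⟨fun N hN => ?_⟩
  by_contra hcon
  push Not at hcon
  obtain ⟨hbot, htop⟩ := hcon
  apply hns
  have hmul := Subgroup.card_mul_index N
  rw [h60] at hmul
  have hNcard : Nat.card N ≠ 1 := by
    intro h
    exact hbot (Subgroup.card_eq_one.mp h)
  have hNidx : N.index ≠ 1 := by
    intro h
    exact htop (Subgroup.index_eq_one.mp h)
  have hN60 : Nat.card N ≠ 60 := by
    intro h; rw [h] at hmul; omega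
  have hI60 : N.index ≠ 60 := by
    intro h; rw [h] at hmul; omega
  have hNd : Nat.card N ∣ 120 := Dvd.intro (N.index * 2) (by rw [← mul_assoc, hmul]; norm_num)
  have hId : N.index ∣ 120 := Dvd.intro (Nat.card N * 2) (by rw [← mul_assoc, mul_comm N.index, hmul]; norm_num)
  have hN120 : Nat.card N ≠ 120 := by
    intro h; rw [h] at hmul
    have : 0 < N.index := Nat.pos_of_ne_zero (by intro h0; rw [h0] at hmul; omega)
    nlinarith
  have hI120 : N.index ≠ 120 := by
    intro h; rw [h] at hmul
    have : 0 < Nat.card N := Nat.card_pos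
    nlinarith
  have hs1 : Group.IsSolvable N := solvable_of_card_dvd hNd hN60 hN120
  have hs2 : Group.IsSolvable (H ⧸ N) := by
    apply solvable_of_card_dvd
    · rw [← Subgroup.index_eq_card]; exact hId
    · rw [← Subgroup.index_eq_card]; exact hI60
    · rw [← Subgroup.index_eq_card]; exact hI120
  exact Group.isSolvable_of_ker_le_range N.subtype (QuotientGroup.mk' N) (by simp)

set_option maxRecDepth 100000 in
theorem q8_inv_unique : ∀ a b : QuaternionGroup 2,
    a * a = 1 → a ≠ 1 → b * b = 1 → b ≠ 1 → a = b := by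
  decide

set_option maxRecDepth 100000 in
theorem a5_pow : ∀ g : alternatingGroup (Fin 5), g ^ 8 = 1 → g ^ 2 = 1 := by
  decide +kernel

/-- a subgroup isomorphic to the quaternion group has at most one involution -/
theorem q8_sub {G : Type*} [Group G] (P : Subgroup G) (e : P ≃* QuaternionGroup 2) {a b : G}
    (ha : a ∈ P) (hb : b ∈ P) (ha2 : a * a = 1) (ha1 : a ≠ 1) (hb2 : b * b = 1) (hb1 : b ≠ 1) :
    a = b := by
  have haa : (⟨a, ha⟩ : P) * ⟨a, ha⟩ = 1 := Subtype.ext ha2
  have hbb : (⟨b, hb⟩ : P) * ⟨b, hb⟩ = 1 := Subtype.ext hb2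
  have h := q8_inv_unique (e ⟨a, ha⟩) (e ⟨b, hb⟩)
    (by rw [← map_mul, haa, map_one])
    (fun h => ha1 (congrArg Subtype.val (e.injective (h.trans (map_one e).symm))))
    (by rw [← map_mul, hbb, map_one])
    (fun h => hb1 (congrArg Subtype.val (e.injective (h.trans (map_one e).symm))))
  exact congrArg Subtype.val (e.injective h)

theorem card_q8_sub {G : Type*} [Group G] (P : Subgroup G) (e : P ≃* QuaternionGroup 2) :
    Nat.card P = 8 := by
  rw [Nat.card_congr e.toEquiv, Nat.card_eq_fintype_card, QuaternionGroup.card]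

/-- the structure of a non-solvable group of order 120 with quaternion Sylow 2-subgroups -/
theorem structure_120 {G : Type*} [Group G] [Finite G] (hcard : Nat.card G = 120)
    (hns : ¬ Group.IsSolvable G)
    (hQ : ∀ P : Sylow 2 G, Nonempty ((P : Subgroup G) ≃* QuaternionGroup 2)) :
    ∃ (N : Subgroup G) (_ : N.Normal), Nat.card N = 2 ∧ Nat.card (G ⧸ N) = 60 ∧
      ¬ Group.IsSolvable (G ⧸ N) := by
  have hnt : Nontrivial G := by
    rw [← Finite.one_lt_card_iff_nontrivial, hcard]; norm_num
  obtain ⟨N, hN, hbot, htop⟩ : ∃ N : Subgroup G, N.Normal ∧ N ≠ ⊥ ∧ N ≠ ⊤ := by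
    by_contra hcon
    push Not at hcon
    have hs : IsSimpleGroup G := ⟨fun N hN => by
      by_cases h : N = ⊥
      · left; exact h
      · right; exact hcon N hN h⟩
    exact no_simple_120 hcard
  have hmul := Subgroup.card_mul_index N
  rw [hcard] at hmul
  have hNd : Nat.card N ∣ 120 := Dvd.intro _ hmul
  have hId : N.index ∣ 120 := Dvd.intro_left _ hmul
  have hNcard1 : Nat.card N ≠ 1 := fun h => hbot (Subgroup.card_eq_one.mp h)
  have hNidx1 : N.index ≠ 1 := fun h => htop (Subgroup.index_eq_one.mp h)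
  by_cases hsN : Group.IsSolvable N
  · -- the quotient is not solvable
    have hsQ : ¬ Group.IsSolvable (G ⧸ N) := by
      intro hsQ
      apply hns
      exact Group.isSolvable_of_ker_le_range N.subtype (QuotientGroup.mk' N) (by simp)
    have hI : N.index = 60 := by
      by_contra h60
      apply hsQ
      apply solvable_of_card_dvd
      · rw [← Subgroup.index_eq_card]; exact hId
      · rw [← Subgroup.index_eq_card]; exact h60
      · rw [← Subgroup.index_eq_card]
        intro h; rw [h] at hmul; omega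
    refine ⟨N, hN, ?_, ?_, hsQ⟩
    · rw [hI] at hmul; omega
    · rw [← Subgroup.index_eq_card]; exact hI
  · -- the normal subgroup is not solvable: contradiction
    exfalso
    have hN60 : Nat.card N = 60 := by
      by_contra h60
      apply hsN
      apply solvable_of_card_dvd hNd h60
      intro h; rw [h] at hmul; omega
    have hsimp : IsSimpleGroup N := simple_of_nonsolvable_60 hN60 hsN
    obtain ⟨e5⟩ := S0494.result hN60
    have hidx2 : N.index = 2 := by rw [hN60] at hmul; omega
    obtain ⟨P⟩ : Nonempty (Sylow 2 G) := inferInstance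
    obtain ⟨e⟩ := hQ P
    have hP8 := card_q8_sub (P : Subgroup G) e
    -- K = N ⊓ P has at least 4 elements
    have hrel : N.relIndex (P : Subgroup G) ∣ 2 := by
      have := Subgroup.relIndex_dvd_index_of_normal N (P : Subgroup G)
      rwa [hidx2] at this
    have hK : Nat.card (N ⊓ (P : Subgroup G) : Subgroup G) * N.relIndex (P : Subgroup G) = 8 := by
      rw [← Subgroup.inf_relIndex_right, ← hP8]
      exact card_mul_relIndex_of_le inf_le_right
    have hK4 : 2 < Nat.card (N ⊓ (P : Subgroup G) : Subgroup G) := by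
      have : N.relIndex (P : Subgroup G) ≤ 2 := Nat.le_of_dvd (by norm_num) hrel
      by_contra hle
      push Not at hle
      nlinarith
    -- every element of K squares to one
    have hsq : ∀ g ∈ (N ⊓ (P : Subgroup G) : Subgroup G), g * g = 1 := by
      intro g hg
      have hg8 : g ^ 8 = 1 := by
        have h1 : (⟨g, hg.2⟩ : (P : Subgroup G)) ^ Nat.card (P : Subgroup G) = 1 :=
          pow_card_eq_one'
        rw [hP8] at h1
        exact congrArg Subtype.val h1
      have h2 : (e5 ⟨g, hg.1⟩) ^ 8 = 1 := by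
        rw [← map_pow]
        have : (⟨g, hg.1⟩ : N) ^ 8 = 1 := Subtype.ext hg8
        rw [this, map_one]
      have h3 := a5_pow _ h2
      rw [← map_pow] at h3
      have h4 : (⟨g, hg.1⟩ : N) ^ 2 = 1 := e5.injective (h3.trans (map_one e5).symm)
      have h5 := congrArg Subtype.val h4
      rw [sq] at h5
      exact h5
    -- three distinct elements
    have : Fintype (N ⊓ (P : Subgroup G) : Subgroup G) := Fintype.ofFinite _
    rw [Nat.card_eq_fintype_card, Fintype.two_lt_card_iff] at hK4
    obtain ⟨a, b, c, hab, hac, hbc⟩ := hK4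
    have key : ∀ u v : (N ⊓ (P : Subgroup G) : Subgroup G), u ≠ 1 → v ≠ 1 → u = v := by
      intro u v hu hv
      apply Subtype.ext
      exact q8_sub (P : Subgroup G) e u.2.2 v.2.2 (hsq u u.2)
        (fun h => hu (Subtype.ext h)) (hsq v v.2) (fun h => hv (Subtype.ext h))
    by_cases ha : a = 1
    · have hb : b ≠ 1 := fun h => hab (ha.trans h.symm)
      have hc : c ≠ 1 := fun h => hac (ha.trans h.symm)
      exact hbc (key b c hb hc)
    · by_cases hb : b = 1
      · have hc : c ≠ 1 := fun h => hbc (hb.trans h.symm)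
        exact hac (key a c ha hc)
      · exact hab (key a b ha hb)

/-- the lifting argument: a group with a normal subgroup of order two, quotient `A5` and
a unique involution receives a surjection from any group satisfying the presentation -/
theorem exists_gens {G : Type*} [Group G] [Finite G] (N : Subgroup G) [hN : N.Normal]
    (hN2 : Nat.card N = 2) (hq60 : Nat.card (G ⧸ N) = 60) (hqns : ¬ Group.IsSolvable (G ⧸ N))
    (hQ : ∀ P : Sylow 2 G, Nonempty ((P : Subgroup G) ≃* QuaternionGroup 2)) :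
    ∃ a b c : G, a ^ 3 = 1 ∧ b ^ 5 = 1 ∧ c ^ 2 = 1 ∧ a * c = c * a ∧ b * c = c * b ∧
      (a * b) ^ 2 = c ∧ ∀ R : Subgroup G, a ∈ R → b ∈ R → c ∈ R → R = ⊤ := by
  have : Fact (Nat.Prime 2) := ⟨Nat.prime_two⟩
  have hsimp : IsSimpleGroup (G ⧸ N) := simple_of_nonsolvable_60 hq60 hqns
  obtain ⟨ε⟩ := S0494.result hq60
  -- the projection
  let π : G →* alternatingGroup (Fin 5) := ε.toMonoidHom.comp (QuotientGroup.mk' N)
  have hπ : ∀ g : G, π g = ε (QuotientGroup.mk g) := fun g => rfl
  have hπsurj : Function.Surjective π := by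
    intro t
    obtain ⟨q, rfl⟩ := ε.surjective t
    obtain ⟨g, rfl⟩ := QuotientGroup.mk'_surjective N q
    exact ⟨g, rfl⟩
  have hker : ∀ g : G, π g = 1 ↔ g ∈ N := by
    intro g
    rw [hπ, ← map_one ε, ε.injective.eq_iff, QuotientGroup.eq_one_iff]
  -- the central involution
  obtain ⟨⟨z, hzN⟩, hz1, hzuniq⟩ :=
    (Nat.card_eq_two_iff' (⟨1, N.one_mem⟩ : N)).mp hN2
  have hz1' : z ≠ 1 := fun h => hz1 (Subtype.ext h)
  have hNelts : ∀ n ∈ N, n = 1 ∨ n = z := by
    intro n hn
    by_cases h : n = 1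
    · left; exact h
    · right
      have := hzuniq ⟨n, hn⟩ (fun e => h (congrArg Subtype.val e))
      exact congrArg Subtype.val this
  have hzz : z * z = 1 := by
    rcases hNelts (z * z) (N.mul_mem hzN hzN) with h | h
    · exact h
    · exfalso
      apply hz1'
      have : z * z = z * 1 := by rw [h, mul_one]
      exact mul_left_cancel this
  have hzc : ∀ g : G, g * z = z * g := fun g =>
    (commute_of_normal_of_card_eq_two N hN2 z hzN g).eq
  have hπz : π z = 1 := (hker z).mpr hzN
  -- uniqueness of the involution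
  have huniq : ∀ g : G, g * g = 1 → g ≠ 1 → g = z := by
    intro g hgg hg1
    have hN2' : IsPGroup 2 N := IsPGroup.of_card (n := 1) (by rw [hN2]; norm_num)
    have hg2 : orderOf g = 2 := orderOf_eq_prime (by rw [sq]; exact hgg) hg1
    have hgp : IsPGroup 2 (Subgroup.zpowers g) :=
      IsPGroup.of_card (n := 1) (by rw [Nat.card_zpowers, hg2]; norm_num)
    obtain ⟨Q, hQg⟩ := hgp.exists_le_sylow
    obtain ⟨e⟩ := hQ Q
    have hsup : IsPGroup 2 ((Q : Subgroup G) ⊔ N : Subgroup G) :=
      Q.2.to_sup_of_normal_right hN2'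
    have hmax := Q.is_maximal' hsup le_sup_left
    have hNQ : N ≤ (Q : Subgroup G) := by
      rw [← hmax]; exact le_sup_right
    exact q8_sub (Q : Subgroup G) e (hQg (Subgroup.mem_zpowers g)) (hNQ hzN) hgg hg1 hzz hz1'
  -- adjusting lifts
  have adjust : ∀ (t : alternatingGroup (Fin 5)) (k : ℕ), Odd k → t ^ k = 1 →
      ∃ g : G, π g = t ∧ g ^ k = 1 := by
    intro t k hk htk
    obtain ⟨g₀, hg₀⟩ := hπsurj t
    have hmem : g₀ ^ k ∈ N := by
      rw [← hker, map_pow, hg₀, htk]
    rcases hNelts _ hmem with h | h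
    · exact ⟨g₀, hg₀, h⟩
    · refine ⟨g₀ * z, by rw [map_mul, hg₀, hπz, mul_one], ?_⟩
      have hcomm : Commute g₀ z := hzc g₀
      rw [hcomm.mul_pow, h]
      obtain ⟨m, rfl⟩ := hk
      rw [pow_succ, pow_mul, sq, hzz, one_pow, one_mul, hzz]
  obtain ⟨a, hπa, ha3⟩ := adjust S3377.x' 3 (by decide) S3377.x'_pow
  obtain ⟨b, hπb, hb5⟩ := adjust S3377.y' 5 (by decide) S3377.y'_pow
  have habN : (a * b) ^ 2 ∈ N := by
    rw [← hker, map_pow, map_mul, hπa, hπb, S3377.xy'_pow]
  have hab : (a * b) ^ 2 = z := by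
    rcases hNelts _ habN with h | h
    · exfalso
      have hne : a * b ≠ 1 := by
        intro h1
        have : π (a * b) = 1 := by rw [h1, map_one]
        rw [map_mul, hπa, hπb] at this
        exact S3377.xy'_ne this
      have := huniq (a * b) (by rw [← sq]; exact h) hne
      have h2 : π (a * b) = 1 := by rw [this, hπz]
      rw [map_mul, hπa, hπb] at h2
      exact S3377.xy'_ne h2
    · exact h
  refine ⟨a, b, z, ha3, hb5, by rw [sq]; exact hzz, hzc a, hzc b, hab, ?_⟩
  intro R haR hbR hzR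
  rw [eq_top_iff]
  intro g _
  -- the image of R under π is everything
  have himg : ∀ u : S3377.G, S3377.phi u ∈ R.map π := by
    have : ∀ u : S3377.G, u ∈ (R.map π).comap S3377.phi := by
      apply PresentedGroup.generated_by
      intro j
      rw [Subgroup.mem_comap]
      fin_cases j
      · change S3377.phi S3377.x ∈ _
        rw [S3377.phi_x]
        exact ⟨a, haR, hπa⟩
      · change S3377.phi S3377.y ∈ _
        rw [S3377.phi_y]
        exact ⟨b, hbR, hπb⟩
    exact this
  obtain ⟨u, hu⟩ := S3377.phi_surj (π g)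
  obtain ⟨w, hwR, hw⟩ := himg u
  rw [hu] at hw
  have hmem : w⁻¹ * g ∈ N := by
    rw [← hker, map_mul, map_inv, hw, inv_mul_cancel]
  have hNR : w⁻¹ * g ∈ R := by
    rcases hNelts _ hmem with h | h
    · rw [h]; exact R.one_mem
    · rw [h]; exact hzR
  have : g = w * (w⁻¹ * g) := by rw [mul_inv_cancel_left]
  rw [this]
  exact R.mul_mem hwR hNR


theorem part1 (G : Type*) [Group G] [Finite G] (hcard : Nat.card G = 120)
    (hns : ¬ Group.IsSolvable G)
    (hQ : ∀ P : Sylow 2 G, Nonempty ((P : Subgroup G) ≃* QuaternionGroup 2)) :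
    Nonempty (G ≃* Matrix.SpecialLinearGroup (Fin 2) (ZMod 5)) := by
  obtain ⟨N, hN, hN2, hq60, hqns⟩ := structure_120 hcard hns hQ
  obtain ⟨a, b, c, ha, hb, hc, hac, hbc, hab, hgen⟩ := exists_gens N hN2 hq60 hqns hQ
  let f : Fin 3 → G := ![a, b, c]
  have hf : ∀ r ∈ rels, FreeGroup.lift f r = 1 := lift_ok f ha hb hc hac hbc hab
  let ψ : Gam →* G := PresentedGroup.toGroup hf
  have hψsurj : Function.Surjective ψ := by
    rw [← MonoidHom.range_eq_top]
    apply hgen
    · exact ⟨x, by simp [ψ, x, f]⟩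
    · exact ⟨y, by simp [ψ, y, f]⟩
    · exact ⟨z, by simp [ψ, z, f]⟩
  have hψbij : Function.Bijective ψ :=
    hψsurj.bijective_of_nat_card_le (by rw [cardGam, hcard])
  exact ⟨(MulEquiv.ofBijective ψ hψbij).symm.trans (MulEquiv.ofBijective phi phi_bij)⟩

/-- Every non-solvable group of order 120 whose Sylow 2-subgroups are quaternion of order 8 is isomorphic to SL(2,5), and SL(2,5) has the presentation ⟨x, y, z | x³ = y⁵ = z² = 1, z⁻¹xz = x, z⁻¹yz = y, (xy)² = z⟩. -/
theorem result :
    (∀ (G : Type*) [Group G] [Finite G], Nat.card G = 120 → ¬ Group.IsSolvable G →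
      (∀ P : Sylow 2 G, Nonempty ((P : Subgroup G) ≃* QuaternionGroup 2)) →
      Nonempty (G ≃* Matrix.SpecialLinearGroup (Fin 2) (ZMod 5))) ∧
    Nonempty (PresentedGroup ({FreeGroup.of (0 : Fin 3) ^ 3, FreeGroup.of (1 : Fin 3) ^ 5, FreeGroup.of (2 : Fin 3) ^ 2,
        (FreeGroup.of (2 : Fin 3))⁻¹ * FreeGroup.of 0 * FreeGroup.of 2 * (FreeGroup.of (0 : Fin 3))⁻¹,
        (FreeGroup.of (2 : Fin 3))⁻¹ * FreeGroup.of 1 * FreeGroup.of 2 * (FreeGroup.of (1 : Fin 3))⁻¹,
        (FreeGroup.of (0 : Fin 3) * FreeGroup.of 1) ^ 2 * (FreeGroup.of (2 : Fin 3))⁻¹} : Set (FreeGroup (Fin 3)))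
      ≃* Matrix.SpecialLinearGroup (Fin 2) (ZMod 5)) :=
  ⟨fun G _ _ hcard hns hQ => part1 G hcard hns hQ, ⟨MulEquiv.ofBijective phi phi_bij⟩⟩

end Cfsg.Agent.S3378
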