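-- Statement S2119: automorphisms of the alternating groups (n ≥ 4, n ≠ 6).
import Cfsg.Statements.S2119
import Mathlib

set_option autoImplicit false
open Cfsg

namespace Cfsg.Agent.S2119

section aux

open Equiv Equiv.Perm
open scoped Nat

/-! ### arithmetic -/

theorem fact_ge (m j : ℕ) : m ! * (j)! ≤ (m + j)! := by
  exact Nat.le_of_dvd (Nat.factorial_pos _) (Nat.factorial_mul_factorial_dvd_factorial_add m j)

theorem ineq_aux2 (m j : ℕ) (hj : 2 ≤ j) : 2 * m ! * 3 ^ j * (j + 1)! < (m + 3 * j)! := by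
  induction j, hj using Nat.le_induction with
  | base =>
    have h := fact_ge m 6
    have : (6 : ℕ)! = 720 := by decide
    have h3 : (3:ℕ)! = 6 := by decide
    have hm : 0 < m ! := Nat.factorial_pos m
    norm_num [this, h3] at h ⊢
    nlinarith
  | succ j hj ih =>
    have e1 : (m + 3 * (j + 1))! = (m + 3 * j + 3) * ((m + 3 * j + 2) * ((m + 3 * j + 1) * (m + 3 * j)!)) := by
      rw [show m + 3 * (j + 1) = (m + 3 * j + 2) + 1 by ring, Nat.factorial_succ,
        Nat.factorial_succ, Nat.factorial_succ]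
    have e2 : (j + 1 + 1)! = (j + 2) * (j + 1)! := by
      rw [Nat.factorial_succ]
    rw [e1, e2, pow_succ]
    have hpos : 0 < (m + 3 * j)! := Nat.factorial_pos _
    have h1 : 3 * (j + 2) ≤ (m + 3 * j + 3) * ((m + 3 * j + 2) * (m + 3 * j + 1)) := by
      nlinarith [Nat.zero_le m, Nat.zero_le (m * j), Nat.zero_le (j * j), Nat.zero_le (m*m)]
    calc 2 * m ! * (3 ^ j * 3) * ((j + 2) * (j + 1)!) = (3 * (j + 2)) * (2 * m ! * 3 ^ j * (j + 1)!) := by ring
      _ < (3 * (j + 2)) * (m + 3 * j)! := by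
          apply Nat.mul_lt_mul_of_pos_left ih (by positivity)
      _ ≤ ((m + 3 * j + 3) * ((m + 3 * j + 2) * (m + 3 * j + 1))) * (m + 3 * j)! := Nat.mul_le_mul_right _ h1
      _ = _ := by ring

theorem ineq_aux1 (m : ℕ) (hm : 1 ≤ m) : 2 * m ! * 3 ^ 1 * (1 + 1)! < (m + 3 * 1)! := by
  have e1 : (m + 3 * 1)! = (m + 3) * ((m + 2) * ((m + 1) * m !)) := by
    rw [show m + 3 * 1 = (m + 2) + 1 by ring, Nat.factorial_succ,
        Nat.factorial_succ, Nat.factorial_succ]
  rw [e1]
  have hpos : 0 < m ! := Nat.factorial_pos _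
  norm_num
  nlinarith [Nat.zero_le (m*m), Nat.zero_le (m * m * m), mul_pos hpos hm]

theorem key_ineq (n k : ℕ) (hk : 1 ≤ k) (hkn : 3 * k ≤ n) (h6 : n ≠ 6)
    (h : 3 * (n - 3)! ≤ 2 * ((n - 3 * k)! * 3 ^ k * k !)) : k = 1 := by
  by_contra hk1
  have hk2 : 2 ≤ k := by omega
  obtain ⟨j, rfl⟩ : ∃ j, k = j + 1 := ⟨k - 1, by omega⟩
  obtain ⟨m, rfl⟩ : ∃ m, n = m + 3 * (j + 1) := ⟨n - 3 * (j + 1), by omega⟩
  have hj : 1 ≤ j := by omega
  have e : m + 3 * (j + 1) - 3 = m + 3 * j := by omega
  have e' : m + 3 * (j + 1) - 3 * (j + 1) = m := by omega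
  rw [e, e'] at h
  have key : 2 * m ! * 3 ^ j * (j + 1)! < (m + 3 * j)! := by
    rcases Nat.lt_or_ge j 2 with hj2 | hj2
    · have : j = 1 := by omega
      subst this
      apply ineq_aux1
      by_contra hm
      apply h6
      omega
    · exact ineq_aux2 m j hj2
  have : 2 * (m ! * 3 ^ (j + 1) * (j + 1)!) = 3 * (2 * m ! * 3 ^ j * (j + 1)!) := by ring
  rw [this] at h
  omega

/-! ### injectivity -/

variable {n : ℕ}

theorem exists_two_ne (hn : 4 ≤ n) (a b : Fin n) : ∃ c d : Fin n, c ≠ d ∧ c ≠ a ∧ c ≠ b ∧ d ≠ a ∧ d ≠ b := by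
  have h : 1 < (({a, b} : Finset (Fin n))ᶜ).card := by
    rw [Finset.card_compl, Fintype.card_fin]
    have : ({a, b} : Finset (Fin n)).card ≤ 2 := Finset.card_le_two
    omega
  obtain ⟨c, hc, d, hd, hcd⟩ := Finset.one_lt_card.mp h
  simp only [Finset.mem_compl, Finset.mem_insert, Finset.mem_singleton, not_or] at hc hd
  exact ⟨c, d, hcd, hc.1, hc.2, hd.1, hd.2⟩

theorem conj_injective (hn : 4 ≤ n) :
    Function.Injective (MulAut.conjNormal : Perm (Fin n) →* MulAut (alternatingGroup (Fin n))) := by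
  rw [injective_iff_map_eq_one]
  intro σ hσ
  by_contra hne
  obtain ⟨a, ha⟩ : ∃ a, σ a ≠ a := by
    by_contra h
    exact hne (Equiv.ext fun x => by_contra fun hx => h ⟨x, hx⟩)
  obtain ⟨c, d, hcd, hca, hcb, hda, hdb⟩ := exists_two_ne hn a (σ a)
  have ht : IsThreeCycle (swap a c * swap a d) :=
    isThreeCycle_swap_mul_swap_same hca.symm hda.symm hcd
  have h1 := congrArg (fun f => ((f ⟨_, ht.mem_alternatingGroup⟩ : alternatingGroup (Fin n)) : Perm (Fin n))) hσ
  simp only [MulAut.conjNormal_apply, MulAut.one_apply] at h1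
  have h2 : σ * (swap a c * swap a d) = (swap a c * swap a d) * σ := by
    nth_rewrite 2 [← h1]
    simp [mul_assoc]
  have h3 := congrArg (fun f : Perm (Fin n) => f a) h2
  simp only [Perm.mul_apply] at h3
  rw [swap_apply_left, swap_apply_of_ne_of_ne hda hcd.symm] at h3
  rw [swap_apply_of_ne_of_ne ha hdb.symm, swap_apply_of_ne_of_ne ha hcb.symm] at h3
  exact hda (σ.injective h3)

/-! ### three-cycles -/

variable {α : Type*} [Fintype α] [DecidableEq α]


/-- the 3-cycle a → b → c → a -/
def tc (a b c : α) : Perm α := swap a b * swap b c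

omit [Fintype α] in
theorem tc_apply {a b c : α} (hab : a ≠ b) (hac : a ≠ c) (hbc : b ≠ c) (x : α) :
    tc a b c x = if x = a then b else if x = b then c else if x = c then a else x := by
  simp only [tc, Perm.mul_apply, swap_apply_def]
  grind

theorem tc_isThreeCycle {a b c : α} (hab : a ≠ b) (hac : a ≠ c) (hbc : b ≠ c) : IsThreeCycle (tc a b c) := by
  unfold tc
  rw [swap_comm a b]
  exact isThreeCycle_swap_mul_swap_same hab.symm hbc hac

omit [Fintype α] in
theorem tc_inv {a b c : α} (hab : a ≠ b) (hac : a ≠ c) (hbc : b ≠ c) : (tc a b c)⁻¹ = tc a c b := by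
  rw [inv_eq_iff_mul_eq_one]
  ext x
  simp only [Perm.mul_apply, tc_apply hab hac hbc, tc_apply hac hab hbc.symm, Perm.one_apply]
  grind

omit [Fintype α] in
theorem tc_id2 {i j b c : α} (hij : i ≠ j) (hib : i ≠ b) (hic : i ≠ c) (hjb : j ≠ b) (hjc : j ≠ c) (hbc : b ≠ c) :
    tc i b c = tc i j c * tc i b j := by
  ext x
  simp only [Perm.mul_apply, tc_apply hib hic hbc, tc_apply hij hic hjc, tc_apply hib hij hjb.symm]
  grind

omit [Fintype α] in
theorem tc_id3 {i j b c : α} (hij : i ≠ j) (hib : i ≠ b) (hic : i ≠ c) (hjb : j ≠ b) (hjc : j ≠ c) (hbc : b ≠ c) :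
    tc j b c = tc i c j * tc i j b := by
  ext x
  simp only [Perm.mul_apply, tc_apply hjb hjc hbc, tc_apply hic hij hjc.symm, tc_apply hij hib hjb]
  grind

omit [Fintype α] in
theorem tc_id4 {i a b c : α} (hia : i ≠ a) (hib : i ≠ b) (hic : i ≠ c) (hab : a ≠ b) (hac : a ≠ c) (hbc : b ≠ c) :
    tc a b c = tc i a b * tc i b c := by
  ext x
  simp only [Perm.mul_apply, tc_apply hab hac hbc, tc_apply hia hib hab, tc_apply hib hic hbc]
  grind

omit [Fintype α] in
theorem tc_adj {a b c d : α} (hab : a ≠ b) (hac : a ≠ c) (had : a ≠ d) (hbc : b ≠ c) (hbd : b ≠ d) (hcd : c ≠ d) :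
    tc a b c * tc a b d * tc a b c * tc a b d = 1 := by
  ext x
  simp only [Perm.mul_apply, tc_apply hab hac hbc, tc_apply hab had hbd, Perm.one_apply]
  grind

theorem eq_tc {g : Perm α} (hg : IsThreeCycle g) {a : α} (ha : g a ≠ a) : g = tc a (g a) (g (g a)) :=
  hg.eq_swap_mul_swap_iff_mem_support.mpr (mem_support.mpr ha)

omit [Fintype α] in
theorem tc_conj (σ : Perm α) (a b c : α) : σ * tc a b c * σ⁻¹ = tc (σ a) (σ b) (σ c) := by
  unfold tc
  rw [swap_apply_apply, swap_apply_apply]
  group

theorem three_apply {y : Perm α} (hy : IsThreeCycle y) (p : α) : y (y (y p)) = p := by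
  have h : y ^ 3 = 1 := by rw [← hy.orderOf]; exact pow_orderOf_eq_one y
  have := congrArg (fun f : Perm α => f p) h
  simpa [pow_succ, Perm.mul_apply] using this

theorem three_ne {y : Perm α} (hy : IsThreeCycle y) {p : α} (hp : y p ≠ p) :
    y (y p) ≠ y p ∧ y (y p) ≠ p := by
  have h3 := three_apply hy p
  constructor
  · intro h; exact hp (y.injective h)
  · intro h; rw [h] at h3; exact hp h3

theorem gen_mem {i j : α} (hij : i ≠ j) (K : Subgroup (Perm α))
    (hK : ∀ k, k ≠ i → k ≠ j → tc i j k ∈ K) {t : Perm α} (ht : IsThreeCycle t) : t ∈ K := by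
  have h0 : ∀ k, k ≠ i → k ≠ j → tc i k j ∈ K := by
    intro k hki hkj
    rw [← tc_inv hij hki.symm hkj.symm]
    exact K.inv_mem (hK k hki hkj)
  have h1 : ∀ b c, b ≠ i → b ≠ j → c ≠ i → c ≠ j → b ≠ c → tc i b c ∈ K := by
    intro b c hbi hbj hci hcj hbc
    rw [tc_id2 hij hbi.symm hci.symm hbj.symm hcj.symm hbc]
    exact K.mul_mem (hK c hci hcj) (h0 b hbi hbj)
  have h2 : ∀ b c, b ≠ i → b ≠ j → c ≠ i → c ≠ j → b ≠ c → tc j b c ∈ K := by
    intro b c hbi hbj hci hcj hbc
    rw [tc_id3 hij hbi.symm hci.symm hbj.symm hcj.symm hbc]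
    exact K.mul_mem (h0 c hci hcj) (hK b hbi hbj)
  have h3 : ∀ a b c, a ≠ i → a ≠ j → b ≠ i → b ≠ j → c ≠ i → c ≠ j → a ≠ b → a ≠ c → b ≠ c →
      tc a b c ∈ K := by
    intro a b c hai haj hbi hbj hci hcj hab hac hbc
    rw [tc_id4 hai.symm hbi.symm hci.symm hab hac hbc]
    exact K.mul_mem (h1 a b hai haj hbi hbj hab) (h1 b c hbi hbj hci hcj hbc)
  have t3 := three_apply ht
  by_cases hi : t i = i
  · by_cases hj : t j = j
    · obtain ⟨a, ha⟩ : ∃ a, t a ≠ a := by
        by_contra h
        exact ht.ne_one (Equiv.ext fun x => by_contra fun hx => h ⟨x, hx⟩)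
      obtain ⟨n1, n2⟩ := three_ne ht ha
      rw [eq_tc ht ha]
      have fi : ∀ x, t x = i → x = i := fun x hx => t.injective (hx.trans hi.symm)
      have fj : ∀ x, t x = j → x = j := fun x hx => t.injective (hx.trans hj.symm)
      apply h3 <;> grind
    · obtain ⟨n1, n2⟩ := three_ne ht hj
      rw [eq_tc ht hj]
      have fi : ∀ x, t x = i → x = i := fun x hx => t.injective (hx.trans hi.symm)
      apply h2 <;> grind
  · obtain ⟨n1, n2⟩ := three_ne ht hi
    rw [eq_tc ht hi]
    by_cases hb : t i = j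
    · rw [hb]
      apply hK <;> grind
    · by_cases hc : t (t i) = j
      · rw [hc]
        apply h0 <;> grind
      · apply h1 <;> grind


theorem mem3 {z : Perm α} (hz : IsThreeCycle z) {u v : α} (hu : z u ≠ u) (hv : z v ≠ v) :
    v = u ∨ v = z u ∨ v = z (z u) := by
  have h := hz.support_eq_iff_mem_support.mpr (mem_support.mpr hu)
  have hv' : v ∈ z.support := mem_support.mpr hv
  rw [h] at hv'
  simpa using hv'

/-- 3-cycles with the same support are equal or inverse -/
theorem same_support {x y : Perm α} (hx : IsThreeCycle x) (hy : IsThreeCycle y)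
    (hs : y.support = x.support) : y = x ∨ y = x⁻¹ := by
  obtain ⟨a, ha⟩ : ∃ a, x a ≠ a := by
    by_contra h
    exact hx.ne_one (Equiv.ext fun x => by_contra fun hx => h ⟨x, hx⟩)
  have hya : y a ≠ a := by
    rw [← mem_support, hs, mem_support]; exact ha
  have hx3 := three_apply hx
  have hy3 := three_apply hy
  obtain ⟨x1, x2⟩ := three_ne hx ha
  obtain ⟨y1, y2⟩ := three_ne hy hya
  have hyya : y (y a) ≠ y a := y1
  have m1 := mem3 hx ha (show x (y a) ≠ y a by rw [← mem_support, ← hs, mem_support]; exact y1)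
  have m2 := mem3 hx ha (show x (y (y a)) ≠ y (y a) by
    rw [← mem_support, ← hs, mem_support]; intro h; exact y1 (y.injective h))
  have ex := eq_tc hx ha
  have ey := eq_tc hy hya
  have hxi : IsThreeCycle x⁻¹ := hx.inv
  have hia : x⁻¹ a ≠ a := by
    intro h; apply ha; rw [Perm.inv_eq_iff_eq] at h; exact h.symm
  have ei := eq_tc hxi hia
  have i1 : x⁻¹ a = x (x a) := by rw [Perm.inv_eq_iff_eq, hx3]
  have i2 : x⁻¹ (x⁻¹ a) = x a := by rw [i1, Perm.inv_eq_iff_eq]
  rw [i2, i1] at ei
  rcases m1 with h | h | h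
  · exact absurd h hya
  · left
    rw [ex, ey]
    have : y (y a) = x (x a) := by grind
    rw [this, h]
  · right
    rw [ei, ey]
    have : y (y a) = x a := by grind
    rw [this, h]


theorem adj_edge {x y : Perm α} (hx : IsThreeCycle x) (hy : IsThreeCycle y)
    (hxy : x * y * x * y = 1) (hs : y.support ≠ x.support) :
    ∃ q, x q ≠ q ∧ y q = x q ∧ y (y q) ≠ x (x q) := by
  -- a point in supp y not in supp x
  obtain ⟨p, hpy, hpx⟩ : ∃ p, y p ≠ p ∧ x p = p := by
    by_contra h
    push Not at h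
    apply hs
    apply Finset.eq_of_subset_of_card_le
    · intro p hp
      rw [mem_support] at hp ⊢
      exact h p hp
    · rw [hx.card_support, hy.card_support]
  have h1 : y (x (y p)) = p := by
    have h : y * x * y * x = 1 := by
      have : y * x * y * x = x⁻¹ * (x * y * x * y) * x := by group
      rw [this, hxy]; simp
    have := congrArg (fun f : Perm α => f p) h
    simpa [Perm.mul_apply, hpx] using this
  have hy3 := three_apply hy
  have hx3 := three_apply hx
  refine ⟨y p, ?_, ?_, ?_⟩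
  · intro h
    rw [h] at h1
    apply hpy
    have := hy3 p
    rw [h1] at this
    exact this
  · apply y.injective
    rw [h1, hy3]
  · rw [hy3]
    intro h
    -- p = x (x (y p)) means p in supp x
    have : x p = x (x (x (y p))) := by rw [← h]
    rw [hx3, hpx] at this
    exact hpy this.symm

theorem adj_common {x y z : Perm α} (hx : IsThreeCycle x) (hy : IsThreeCycle y) (hz : IsThreeCycle z)
    {q : α} (hq : x q ≠ q) (hyq : y q = x q) (hne : y (y q) ≠ x (x q))
    (hxz : x * z * x * z = 1) (hsxz : z.support ≠ x.support)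
    (hyz : y * z * y * z = 1) (hsyz : z.support ≠ y.support) : z q = x q := by
  obtain ⟨q₁, h1a, h1b, h1c⟩ := adj_edge hx hz hxz hsxz
  obtain ⟨q₂, h2a, h2b, h2c⟩ := adj_edge hy hz hyz hsyz
  have hx3 := three_apply hx
  have hy3 := three_apply hy
  have hz3 := three_apply hz
  have m1 := mem3 hx hq h1a
  have m2 := mem3 hy (hyq ▸ hq : y q ≠ q) h2a
  have hzq1 : z q₁ ≠ q₁ := by rw [h1b]; exact h1a
  have hzq2 : z q₂ ≠ q₂ := by rw [h2b]; exact h2a
  have m3 := mem3 hz hzq1 hzq2
  have ix := x.injective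
  have iy := y.injective
  have iz := z.injective
  grind

theorem exists_two_ne' (hn : 4 ≤ Fintype.card α) (a b : α) :
    ∃ c d : α, c ≠ d ∧ c ≠ a ∧ c ≠ b ∧ d ≠ a ∧ d ≠ b := by
  have h : 1 < (({a, b} : Finset α)ᶜ).card := by
    rw [Finset.card_compl]
    have : ({a, b} : Finset α).card ≤ 2 := Finset.card_le_two
    omega
  obtain ⟨c, hc, d, hd, hcd⟩ := Finset.one_lt_card.mp h
  simp only [Finset.mem_compl, Finset.mem_insert, Finset.mem_singleton, not_or] at hc hd
  exact ⟨c, d, hcd, hc.1, hc.2, hd.1, hd.2⟩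

theorem step2 (h4 : 4 ≤ Fintype.card α) (f : MulAut (alternatingGroup α))
    (h3 : ∀ g : alternatingGroup α, IsThreeCycle (g : Perm α) →
      IsThreeCycle ((f g : alternatingGroup α) : Perm α)) :
    ∃ σ : Perm α, MulAut.conjNormal σ = f := by
  classical
  obtain ⟨i, j, hij⟩ : ∃ i j : α, i ≠ j := by
    have : 1 < Fintype.card α := by omega
    exact Fintype.exists_pair_of_one_lt_card this
  obtain ⟨k₁, k₂, h12, h1i, h1j, h2i, h2j⟩ := exists_two_ne' h4 i j
  -- generators
  have hmem : ∀ k, k ≠ i → k ≠ j → tc i j k ∈ alternatingGroup α := fun k hki hkj =>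
    (tc_isThreeCycle hij hki.symm hkj.symm).mem_alternatingGroup
  let G : α → alternatingGroup α := fun k =>
    if h : k ≠ i ∧ k ≠ j then ⟨tc i j k, hmem k h.1 h.2⟩ else 1
  have hG : ∀ k, k ≠ i → k ≠ j → ((G k : alternatingGroup α) : Perm α) = tc i j k := by
    intro k hki hkj
    simp only [G, dif_pos (And.intro hki hkj)]
  clear_value G
  let Y : α → Perm α := fun k => ((f (G k) : alternatingGroup α) : Perm α)
  have hY : ∀ k, Y k = ((f (G k) : alternatingGroup α) : Perm α) := fun _ => rfl
  have F1 : ∀ k, k ≠ i → k ≠ j → IsThreeCycle (Y k) := by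
    intro k hki hkj
    apply h3
    rw [hG k hki hkj]
    exact tc_isThreeCycle hij hki.symm hkj.symm
  have Yinj : ∀ k k', k ≠ i → k ≠ j → k' ≠ i → k' ≠ j → Y k = Y k' → k = k' := by
    intro k k' hki hkj hk'i hk'j h
    have hGG : G k = G k' := f.injective (Subtype.ext h)
    have := congrArg (fun g : alternatingGroup α => (g : Perm α) j) hGG
    simp only [hG k hki hkj, hG k' hk'i hk'j] at this
    rw [tc_apply hij hk'i.symm hk'j.symm, tc_apply hij hki.symm hkj.symm] at this
    simpa [hij.symm] using this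
  have F2 : ∀ k k', k ≠ i → k ≠ j → k' ≠ i → k' ≠ j → k ≠ k' →
      Y k * Y k' * Y k * Y k' = 1 ∧ (Y k').support ≠ (Y k).support := by
    intro k k' hki hkj hk'i hk'j hkk'
    constructor
    · have : G k * G k' * G k * G k' = 1 := by
        apply Subtype.ext
        simp only [Subgroup.coe_mul, hG k hki hkj, hG k' hk'i hk'j, Subgroup.coe_one]
        exact tc_adj hij hki.symm hk'i.symm hkj.symm hk'j.symm hkk'
      have := congrArg (fun g => ((f g : alternatingGroup α) : Perm α)) this
      simpa [hY] using this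
    · intro hs
      rcases same_support (F1 k hki hkj) (F1 k' hk'i hk'j) hs with h | h
      · exact hkk' (Yinj k' k hk'i hk'j hki hkj h).symm
      · -- Y k' = (Y k)⁻¹
        have h' : f (G k') = f ((G k)⁻¹) := by
          apply Subtype.ext
          rw [map_inv]
          exact h
        have := congrArg (fun g : alternatingGroup α => (g : Perm α) i) (f.injective h')
        simp only [Subgroup.coe_inv, hG k hki hkj, hG k' hk'i hk'j] at this
        rw [tc_inv hij hki.symm hkj.symm, tc_apply hij hk'i.symm hk'j.symm,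
          tc_apply hki.symm hij hkj] at this
        simp at this
        exact hkj this.symm
  clear_value Y
  obtain ⟨q, hq1, hq2, hq3⟩ := adj_edge (F1 k₁ h1i h1j) (F1 k₂ h2i h2j)
    (F2 k₁ k₂ h1i h1j h2i h2j h12).1 (F2 k₁ k₂ h1i h1j h2i h2j h12).2
  obtain ⟨r, hr⟩ : ∃ r, r = Y k₁ q := ⟨_, rfl⟩
  rw [← hr] at hq1 hq2
  have F3 : ∀ k, k ≠ i → k ≠ j → Y k q = r := by
    intro k hki hkj
    by_cases e1 : k = k₁
    · rw [e1, hr]
    by_cases e2 : k = k₂
    · rw [e2]; exact hq2
    have a1 := F2 k₁ k h1i h1j hki hkj (Ne.symm e1)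
    have a2 := F2 k₂ k h2i h2j hki hkj (Ne.symm e2)
    rw [hr]
    exact adj_common (F1 k₁ h1i h1j) (F1 k₂ h2i h2j) (F1 k hki hkj) (hr ▸ hq1) (hr ▸ hq2) hq3
      a1.1 a1.2 a2.1 a2.2
  have hqr : r ≠ q := hq1
  have F4 : ∀ k, k ≠ i → k ≠ j → Y k = tc q r (Y k r) := by
    intro k hki hkj
    have := eq_tc (F1 k hki hkj) (show Y k q ≠ q by rw [F3 k hki hkj]; exact hqr)
    rwa [F3 k hki hkj] at this
  have F5 : ∀ k, k ≠ i → k ≠ j → Y k r ≠ r ∧ Y k r ≠ q := by
    intro k hki hkj
    have := three_ne (F1 k hki hkj) (show Y k q ≠ q by rw [F3 k hki hkj]; exact hqr)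
    rwa [F3 k hki hkj] at this
  let σf : α → α := fun k => if k = i then q else if k = j then r else Y k r
  have σinj : Function.Injective σf := by
    intro k k' h
    simp only [σf] at h
    have key : ∀ k k', k ≠ i → k ≠ j → k' ≠ i → k' ≠ j → Y k r = Y k' r → k = k' := by
      intro k k' hki hkj hk'i hk'j h
      apply Yinj k k' hki hkj hk'i hk'j
      rw [F4 k hki hkj, F4 k' hk'i hk'j, h]
    split_ifs at h <;> grind
  let σ : Perm α := Equiv.ofBijective σf (Finite.injective_iff_bijective.mp σinj)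
  have σi : σ i = q := by simp [σ, σf]
  have σj : σ j = r := by simp [σ, σf, hij.symm]
  have σk : ∀ k, k ≠ i → k ≠ j → σ k = Y k r := by
    intro k hki hkj; simp [σ, σf, hki, hkj]
  have F6 : ∀ k, k ≠ i → k ≠ j → MulAut.conjNormal σ (G k) = f (G k) := by
    intro k hki hkj
    apply Subtype.ext
    rw [MulAut.conjNormal_apply, hG k hki hkj, tc_conj, σi, σj, σk k hki hkj, ← hY]
    exact (F4 k hki hkj).symm
  refine ⟨σ, ?_⟩
  let E : Subgroup (alternatingGroup α) :=
    MonoidHom.eqLocus (MulAut.conjNormal σ : MulAut (alternatingGroup α)).toMonoidHom f.toMonoidHom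
  let K : Subgroup (Perm α) := E.map (alternatingGroup α).subtype
  have hK : ∀ k, k ≠ i → k ≠ j → tc i j k ∈ K := by
    intro k hki hkj
    refine ⟨G k, ?_, hG k hki hkj⟩
    exact F6 k hki hkj
  have hle : alternatingGroup α ≤ K := by
    rw [← closure_three_cycles_eq_alternating, Subgroup.closure_le]
    intro t ht
    exact gen_mem hij K hK ht
  apply MulEquiv.ext
  intro g
  obtain ⟨h, hE, hh⟩ := hle g.2
  have : h = g := Subtype.ext hh
  rw [← this]
  exact hE


theorem card_rep (k : ℕ) (hk : 1 ≤ k) (hkn : 3 * k ≤ Fintype.card α) :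
    (Finset.univ.filter (fun g : alternatingGroup α => (g : Perm α).cycleType = Multiset.replicate k 3)).card *
      ((Fintype.card α - 3 * k)! * 3 ^ k * k !) = (Fintype.card α)! := by
  have h := AlternatingGroup.card_of_cycleType_mul_eq α (Multiset.replicate k 3)
  have hk0 : k ≠ 0 := by omega
  rw [Multiset.sum_replicate, Multiset.prod_replicate, Multiset.card_replicate,
    Multiset.toFinset_replicate, if_neg hk0, Finset.prod_singleton, Multiset.count_replicate_self,
    smul_eq_mul, mul_comm k 3] at h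
  rw [h, if_pos]
  refine ⟨⟨hkn, ?_⟩, ?_⟩
  · intro a ha
    rw [Multiset.eq_of_mem_replicate ha]
    norm_num
  · exact ⟨2 * k, by ring⟩

theorem step1 (h6 : Fintype.card α ≠ 6) (f : MulAut (alternatingGroup α))
    (g : alternatingGroup α) (hg : IsThreeCycle (g : Perm α)) :
    IsThreeCycle ((f g : alternatingGroup α) : Perm α) := by
  classical
  have ho : orderOf ((f g : alternatingGroup α) : Perm α) = 3 := by
    rw [Subgroup.orderOf_coe, MulEquiv.orderOf_eq, ← Subgroup.orderOf_coe, hg.orderOf]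
  obtain ⟨k, hk⟩ := cycleType_prime_order (σ := ((f g : alternatingGroup α) : Perm α))
    (by rw [ho]; norm_num)
  rw [ho] at hk
  have hkn : 3 * (k + 1) ≤ Fintype.card α := by
    have h1 := sum_cycleType ((f g : alternatingGroup α) : Perm α)
    rw [hk, Multiset.sum_replicate, smul_eq_mul] at h1
    have h2 := Finset.card_le_univ ((f g : alternatingGroup α) : Perm α).support
    omega
  have h3n : 3 * 1 ≤ Fintype.card α := by omega
  -- the two counts
  set T := Finset.univ.filter (fun t : alternatingGroup α => (t : Perm α).cycleType = Multiset.replicate 1 3) with hT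
  set C := Finset.univ.filter (fun t : alternatingGroup α => (t : Perm α).cycleType = Multiset.replicate (k + 1) 3) with hC
  have cT := card_rep (α := α) 1 le_rfl h3n
  have cC := card_rep (α := α) (k + 1) (by omega) hkn
  rw [← hT] at cT
  rw [← hC] at cC
  have gT : g ∈ T := by
    rw [hT, Finset.mem_filter]
    refine ⟨Finset.mem_univ _, ?_⟩
    rw [hg.cycleType]; rfl
  -- an odd permutation
  obtain ⟨a, b, hab⟩ : ∃ a b : α, a ≠ b := by
    have : 1 < Fintype.card α := by omega
    exact Fintype.exists_pair_of_one_lt_card this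
  set τ : Perm α := swap a b with hτ
  have sτ : Perm.sign τ = -1 := Perm.sign_swap hab
  have hsub : C ⊆ (T.image f) ∪ ((T.image f).image (MulAut.conjNormal τ : MulAut (alternatingGroup α))) := by
    intro c hc
    rw [hC, Finset.mem_filter] at hc
    have hconj : IsConj ((f g : alternatingGroup α) : Perm α) (c : Perm α) := by
      rw [isConj_iff_cycleType_eq, hk, hc.2]
    obtain ⟨π, hπ⟩ := isConj_iff.mp hconj
    -- helper: for even ρ, conj of f g by ρ lies in image of T
    have hev : ∀ ρ : alternatingGroup α, ρ * f g * ρ⁻¹ ∈ T.image f := by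
      intro ρ
      rw [Finset.mem_image]
      refine ⟨f.symm ρ * g * (f.symm ρ)⁻¹, ?_, by simp⟩
      rw [hT, Finset.mem_filter]
      refine ⟨Finset.mem_univ _, ?_⟩
      have : ((f.symm ρ * g * (f.symm ρ)⁻¹ : alternatingGroup α) : Perm α) =
          ((f.symm ρ : alternatingGroup α) : Perm α) * (g : Perm α) * ((f.symm ρ : alternatingGroup α) : Perm α)⁻¹ := by
        simp
      rw [this, cycleType_conj, hg.cycleType]; rfl
    rcases Int.units_eq_one_or (Perm.sign π) with hs | hs
    · apply Finset.mem_union_left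
      have hπA : π ∈ alternatingGroup α := mem_alternatingGroup.mpr hs
      have : c = ⟨π, hπA⟩ * f g * ⟨π, hπA⟩⁻¹ := by
        apply Subtype.ext
        simp [hπ]
      rw [this]
      exact hev _
    · apply Finset.mem_union_right
      have hρA : τ⁻¹ * π ∈ alternatingGroup α := by
        rw [mem_alternatingGroup, map_mul, map_inv, sτ, hs]; decide
      rw [Finset.mem_image]
      refine ⟨⟨τ⁻¹ * π, hρA⟩ * f g * ⟨τ⁻¹ * π, hρA⟩⁻¹, hev _, ?_⟩
      apply Subtype.ext
      rw [MulAut.conjNormal_apply]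
      simp only [Subgroup.coe_mul, Subgroup.coe_inv]
      rw [← hπ]
      group
  have hcard : C.card ≤ 2 * T.card := by
    calc C.card ≤ ((T.image f) ∪ ((T.image f).image (MulAut.conjNormal τ : MulAut (alternatingGroup α)))).card :=
          Finset.card_le_card hsub
      _ ≤ (T.image f).card + ((T.image f).image (MulAut.conjNormal τ : MulAut (alternatingGroup α))).card :=
          Finset.card_union_le _ _
      _ ≤ T.card + T.card := by
          apply Nat.add_le_add
          · exact Finset.card_image_le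
          · exact Finset.card_image_le.trans Finset.card_image_le
      _ = 2 * T.card := by ring
  have hTpos : 0 < T.card := Finset.card_pos.mpr ⟨g, gT⟩
  have hk1 : k + 1 = 1 := by
    apply key_ineq (Fintype.card α) (k + 1) (by omega) hkn h6
    have e1 : T.card * (3 * (Fintype.card α - 3)!) = (Fintype.card α)! := by
      rw [← cT]; simp only [mul_one, pow_one, Nat.factorial_one]; ring
    have e2 : (Fintype.card α)! ≤ 2 * T.card * ((Fintype.card α - 3 * (k + 1))! * 3 ^ (k + 1) * (k + 1)!) := by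
      rw [← cC]
      exact Nat.mul_le_mul_right _ hcard
    rw [← e1] at e2
    have e3 : T.card * (3 * (Fintype.card α - 3)!) ≤
        T.card * (2 * ((Fintype.card α - 3 * (k + 1))! * 3 ^ (k + 1) * (k + 1)!)) := by
      calc _ ≤ _ := e2
        _ = _ := by ring
    exact Nat.le_of_mul_le_mul_left e3 hTpos
  have : k = 0 := by omega
  subst this
  rw [IsThreeCycle, hk]; rfl

end aux

/-- Automorphisms of the alternating groups: for n ≥ 4 with n ≠ 6, every automorphism of the alternating group of degree n is conjugation by a unique permutation, i.e. conjugation induces an isomorphism from the symmetric group of degree n onto the automorphism group of the alternating group (so the outer automorphism group has order 2). -/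
theorem result (n : ℕ) (hn : 4 ≤ n) (h6 : n ≠ 6) : Function.Bijective (MulAut.conjNormal : Equiv.Perm (Fin n) →* MulAut ↥(alternatingGroup (Fin n))) := by
  refine ⟨conj_injective hn, ?_⟩
  intro f
  have hc : Fintype.card (Fin n) = n := Fintype.card_fin n
  exact step2 (by rw [hc]; exact hn) f (fun g hg => step1 (by rw [hc]; exact h6) f g hg)

end Cfsg.Agent.S2119
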