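import Cfsg.Statements.S0684
import Cfsg.Agent.Lib.Helper99_AbelianIrr

set_option autoImplicit false
open Cfsg

namespace Cfsg.Agent.S0684

open Cfsg.Agent.Lib.Helper99_AbelianIrr

theorem result {p : ℕ} [Fact p.Prime] {V : Type*} [AddCommGroup V] [Module (ZMod p) V] [Finite V] (H : Subgroup (V ≃ₗ[ZMod p] V)) (hreg : ∀ v w : V, v ≠ 0 → w ≠ 0 → ∃! h : H, (h : V ≃ₗ[ZMod p] V) v = w) (hI : ∀ A : Subgroup H, A.Normal → IsCyclic A → ∃ W : Submodule (ZMod p) V, W ≠ ⊥ ∧ W ≠ ⊤ ∧ ∀ a ∈ A, ∀ v ∈ W, ((a : H) : V ≃ₗ[ZMod p] V) v ∈ W) (A : Subgroup H) (hAn : A.Normal) (hAc : IsMulCommutative A) (hAmax : ∀ B : Subgroup H, B.Normal → IsMulCommutative B → A ≤ B → B = A) : IsCyclic A ∧ ∃ W : Submodule (ZMod p) V, W ≠ ⊥ ∧ W ≠ ⊤ ∧ (∀ a ∈ A, ∀ v ∈ W, ((a : H) : V ≃ₗ[ZMod p] V) v ∈ W) ∧ (∀ W' : Submodule (ZMod p) V, W' ≤ W → (∀ a ∈ A, ∀ v ∈ W', ((a : H) : V ≃ₗ[ZMod p] V) v ∈ W') → W' =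 ⊥ ∨ W' = W) ∧ Nat.card A ∣ p ^ Module.finrank (ZMod p) W - 1 := by
  classical
  have hfinGL : Finite (V ≃ₗ[ZMod p] V) := DFunLike.finite _
  have hcommA : ∀ a b : A, a * b = b * a := hAc.is_comm.comm
  let ρ : A →* Module.End (ZMod p) V :=
    LinearEquiv.automorphismGroup.toLinearMapMonoidHom.comp (H.subtype.comp A.subtype)
  have hρ : ∀ (a : A) (v : V), ρ a v = (((a : H) : V ≃ₗ[ZMod p] V)) v := fun a v => rfl
  have hfree : ∀ (a : A) (W : Submodule (ZMod p) V), ∀ w ∈ W, w ≠ 0 → ρ a w = w → a = 1 := by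
    intro a W w _ hw0 haw
    obtain ⟨h, -, huniq⟩ := hreg w w hw0 hw0
    have h1 : (a : H) = h := huniq (a : H) haw
    have h2 : (1 : H) = h := huniq 1 (by simp)
    apply Subtype.ext
    rw [h1, ← h2]
    rfl
  -- translate invariance
  have hinv_iff : ∀ W : Submodule (ZMod p) V, (∀ g : A, ∀ w ∈ W, ρ g w ∈ W) ↔
      (∀ a ∈ A, ∀ v ∈ W, ((a : H) : V ≃ₗ[ZMod p] V) v ∈ W) := by
    intro W
    constructor
    · intro h a ha v hv
      exact h ⟨a, ha⟩ v hv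
    · intro h g w hw
      exact h g.1 g.2 w hw
  have hcardF : Fintype.card (ZMod p) = p := ZMod.card p
  -- `V` is non-trivial
  obtain ⟨W₂, hW₂0, -, -⟩ := hI ⊥ inferInstance inferInstance
  have htop : (⊤ : Submodule (ZMod p) V) ≠ ⊥ := by
    intro h
    apply hW₂0
    rw [eq_bot_iff, ← h]
    exact le_top
  -- first step: `A` is cyclic
  obtain ⟨W₁, -, hW₁0, hW₁inv, hW₁min⟩ := exists_minimal_invariant ρ _ ⊤ rfl htop
    (fun _ _ _ => trivial)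
  have hcyc : IsCyclic A :=
    (cyclic_of_irreducible hcommA ρ W₁ hW₁inv hW₁0 hW₁min (fun a => hfree a W₁)).1
  refine ⟨hcyc, ?_⟩
  -- second step: a proper invariant subspace
  obtain ⟨W₀, hW₀0, hW₀t, hW₀inv⟩ := hI A hAn hcyc
  obtain ⟨W, hWle, hW0, hWinv, hWmin⟩ := exists_minimal_invariant ρ _ W₀ rfl hW₀0
    ((hinv_iff W₀).mpr hW₀inv)
  have hWt : W ≠ ⊤ := by
    intro h
    apply hW₀t
    rw [eq_top_iff, ← h]
    exact hWle
  refine ⟨W, hW0, hWt, (hinv_iff W).mp hWinv, ?_, ?_⟩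
  · intro W' hW' hinv'
    exact hWmin W' hW' ((hinv_iff W').mpr hinv')
  · have := (cyclic_of_irreducible hcommA ρ W hWinv hW0 hWmin (fun a => hfree a W)).2
    rwa [hcardF] at this

end Cfsg.Agent.S0684
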