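import Cfsg.Statements.S0685
import Cfsg.Agent.S0684
import Mathlib.Tactic
import Mathlib.GroupTheory.SpecificGroups.Cyclic
import Mathlib.LinearAlgebra.FiniteDimensional.Lemmas
import Mathlib.FieldTheory.Finiteness

set_option autoImplicit false
open Cfsg

namespace Cfsg.Agent.S0685

/-- arithmetic core -/
theorem arith {x N a hcard : ℕ} (hx : 2 ≤ x) (hN : x * x ≤ N) (ha : a ≤ x - 1)
    (h1 : N ≤ hcard + 1) (h2 : hcard ≤ a * a) : False := by
  have h3 : a * a ≤ (x - 1) * (x - 1) := Nat.mul_le_mul ha ha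
  obtain ⟨y, rfl⟩ : ∃ y, x = y + 2 := ⟨x - 2, by omega⟩
  have h4 : (y + 2 - 1) * (y + 2 - 1) = (y + 1) * (y + 1) := by
    congr 1
  rw [h4] at h3
  nlinarith

theorem result {p : ℕ} [Fact p.Prime] {V : Type*} [AddCommGroup V] [Module (ZMod p) V] [Finite V] (H : Subgroup (V ≃ₗ[ZMod p] V)) (hreg : ∀ v w : V, v ≠ 0 → w ≠ 0 → ∃! h : H, (h : V ≃ₗ[ZMod p] V) v = w) (hI : ∀ A : Subgroup H, A.Normal → IsCyclic A → ∃ W : Submodule (ZMod p) V, W ≠ ⊥ ∧ W ≠ ⊤ ∧ ∀ a ∈ A, ∀ v ∈ W, ((a : H) : V ≃ₗ[ZMod p] V) v ∈ W) (A : Subgroup H) (hAn : A.Normal) (hAc : IsMulCommutative A) (hAmax : ∀ B : Subgroup H, B.Normal → IsMulCommutative B → A ≤ B → B = A) : A < Subgroup.centralizer (A : Set H) ∧ ¬ IsMulCommutative (Subgroup.centralizer (A : Set H)) := by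
  classical
  obtain ⟨hcyc, W, hW0, hWtop, hWinv, hWmin, hdiv⟩ :=
    Cfsg.Agent.S0684.result H hreg hI A hAn hAc hAmax
  have hfinGL : Finite (V ≃ₗ[ZMod p] V) := DFunLike.finite _
  have hAle : A ≤ Subgroup.centralizer (A : Set H) := by
    intro a ha
    rw [Subgroup.mem_centralizer_iff]
    intro b hb
    have := hAc.is_comm.comm (⟨b, hb⟩ : A) ⟨a, ha⟩
    exact congrArg Subtype.val this
  have hCnormal : (Subgroup.centralizer (A : Set H)).Normal := inferInstance
  have hne : A ≠ Subgroup.centralizer (A : Set H) := by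
    intro heq
    -- nonzero vector in W, vector outside W
    obtain ⟨w, hwW, hw0⟩ := Submodule.exists_mem_ne_zero_of_ne_bot hW0
    obtain ⟨v, hvW⟩ : ∃ v, v ∉ W := by
      by_contra hall
      push Not at hall
      exact hWtop (eq_top_iff.mpr fun x _ => hall x)
    have hv0 : v ≠ 0 := fun h => hvW (h ▸ W.zero_mem)
    obtain ⟨h, hhw, -⟩ := hreg w v hw0 hv0
    -- the translate of W
    set W' : Submodule (ZMod p) V := W.map ((h : V ≃ₗ[ZMod p] V) : V →ₗ[ZMod p] V) with hW'
    have hW'inv : ∀ a ∈ A, ∀ x ∈ W', ((a : H) : V ≃ₗ[ZMod p] V) x ∈ W' := by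
      intro a ha x hx
      obtain ⟨y, hy, rfl⟩ := hx
      have hconj : h⁻¹ * a * h ∈ A := by
        have := hAn.conj_mem a ha h⁻¹
        simpa using this
      refine ⟨((h⁻¹ * a * h : H) : V ≃ₗ[ZMod p] V) y, hWinv _ hconj y hy, ?_⟩
      change ((h : V ≃ₗ[ZMod p] V)) (((h⁻¹ * a * h : H) : V ≃ₗ[ZMod p] V) y) = _
      have : ((h * (h⁻¹ * a * h) : H) : V ≃ₗ[ZMod p] V) y = ((a * h : H) : V ≃ₗ[ZMod p] V) y := by
        congr 2
        group
      exact this
    have hdisj : Disjoint W W' := by
      rw [disjoint_iff]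
      rcases hWmin (W ⊓ W') inf_le_left
        (fun a ha x hx => ⟨hWinv a ha x hx.1, hW'inv a ha x hx.2⟩) with h1 | h1
      · exact h1
      · exfalso
        have hle : W ≤ W' := by rw [← h1]; exact inf_le_right
        have hfr : Module.finrank (ZMod p) W' = Module.finrank (ZMod p) W :=
          LinearEquiv.finrank_map_eq (h : V ≃ₗ[ZMod p] V) W
        have heq' : W = W' := Submodule.eq_of_le_of_finrank_eq hle hfr.symm
        apply hvW
        rw [heq', ← hhw]
        exact ⟨w, hwW, rfl⟩
    have hdim := Submodule.finrank_add_finrank_le_of_disjoint hdisj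
    have hfr : Module.finrank (ZMod p) W' = Module.finrank (ZMod p) W :=
      LinearEquiv.finrank_map_eq (h : V ≃ₗ[ZMod p] V) W
    rw [hfr] at hdim
    set k := Module.finrank (ZMod p) W with hk
    set n := Module.finrank (ZMod p) V with hn
    have hk1 : 1 ≤ k := by
      have : Nontrivial W := ⟨⟨⟨w, hwW⟩, 0, fun h => hw0 (congrArg Subtype.val h)⟩⟩
      exact Module.finrank_pos
    -- |V| = p^n ≤ |H| + 1
    have hVcard : Nat.card V = p ^ n := by
      rw [Module.natCard_eq_pow_finrank (K := ZMod p) (V := V), Nat.card_zmod]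
    have hsurj : Function.Surjective (fun o : Option H => match o with
        | none => (0 : V)
        | some g => (g : V ≃ₗ[ZMod p] V) w) := by
      intro x
      by_cases hx : x = 0
      · exact ⟨none, hx.symm⟩
      · obtain ⟨g, hg, -⟩ := hreg w x hw0 hx
        exact ⟨some g, hg⟩
    have hVle : Nat.card V ≤ Nat.card H + 1 := by
      have := Nat.card_le_card_of_surjective _ hsurj
      rwa [Finite.card_option] at this
    -- |H| ≤ |A| * |A|
    have hHle : Nat.card H ≤ Nat.card A * Nat.card A := by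
      let f : H →* MulAut A := MulAut.conjNormal
      have hker : f.ker = Subgroup.centralizer (A : Set H) := by
        ext g
        rw [MonoidHom.mem_ker, Subgroup.mem_centralizer_iff]
        constructor
        · intro hg b hb
          have := congrArg (fun φ : MulAut A => ((φ ⟨b, hb⟩ : A) : H)) hg
          simp only [f, MulAut.conjNormal_apply, MulAut.one_apply] at this
          rw [mul_inv_eq_iff_eq_mul] at this
          exact this.symm
        · intro hg
          apply MulEquiv.ext
          intro b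
          apply Subtype.ext
          rw [MulAut.conjNormal_apply, MulAut.one_apply, mul_inv_eq_iff_eq_mul]
          exact (hg b.1 b.2).symm
      have h1 := Subgroup.card_mul_index f.ker
      rw [Subgroup.index_ker, hker, ← heq] at h1
      rw [← h1]
      apply Nat.mul_le_mul_left
      calc Nat.card f.range ≤ Nat.card (MulAut A) := Subgroup.card_le_card_group _
        _ = (Nat.card A).totient := IsCyclic.card_mulAut A
        _ ≤ Nat.card A := Nat.totient_le _
    have hp2 : 2 ≤ p := (Fact.out : p.Prime).two_le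
    have hx : 2 ≤ p ^ k := by
      calc 2 ≤ p := hp2
        _ = p ^ 1 := (pow_one p).symm
        _ ≤ p ^ k := Nat.pow_le_pow_right (by omega) hk1
    have hN : p ^ k * p ^ k ≤ p ^ n := by
      rw [← pow_add]
      exact Nat.pow_le_pow_right (by omega) hdim
    have ha : Nat.card A ≤ p ^ k - 1 := Nat.le_of_dvd (by omega) hdiv
    rw [hVcard] at hVle
    exact arith hx hN ha hVle hHle
  exact ⟨lt_of_le_of_ne hAle hne, fun hcomm => hne (hAmax _ hCnormal hcomm hAle).symm⟩

end Cfsg.Agent.S0685
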