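import Cfsg.Statements.S2530

set_option autoImplicit false
open Cfsg

namespace Cfsg.Agent.S2530

open Equiv

/-- the Coxeter group of type `A n` -/
abbrev W (n : ℕ) : Type := (CoxeterMatrix.A n).Group

/-- its canonical Coxeter system -/
noncomputable abbrev cs (n : ℕ) : CoxeterSystem (CoxeterMatrix.A n) (W n) :=
  (CoxeterMatrix.A n).toCoxeterSystem

theorem A_apply (n : ℕ) (i j : Fin n) :
    (CoxeterMatrix.A n) i j =
      if i = j then 1 else if (j : ℕ) + 1 = i ∨ (i : ℕ) + 1 = j then 3 else 2 := rfl

/-! ### relations among the simple reflections -/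

theorem s_sq (n : ℕ) (i : Fin n) : (cs n).simple i * (cs n).simple i = 1 :=
  (cs n).simple_mul_simple_self i

theorem s_comm (n : ℕ) (i j : Fin n) (h : (i : ℕ) + 2 ≤ j) :
    (cs n).simple i * (cs n).simple j = (cs n).simple j * (cs n).simple i := by
  have h1 := (cs n).simple_mul_simple_pow i j
  have hM : (CoxeterMatrix.A n) i j = 2 := by
    rw [A_apply]
    have h1 : i ≠ j := by intro h'; rw [h'] at h; omega
    rw [if_neg h1, if_neg]
    omega
  rw [hM, pow_two] at h1
  have hi := s_sq n i
  have hj := s_sq n j
  -- s_i s_j s_i s_j = 1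
  calc (cs n).simple i * (cs n).simple j
      = (cs n).simple i * (cs n).simple j * ((cs n).simple i * (cs n).simple i) := by
        rw [hi, mul_one]
    _ = ((cs n).simple i * (cs n).simple j * ((cs n).simple i * (cs n).simple j)) *
          ((cs n).simple j * (cs n).simple i) := by
        simp only [mul_assoc]
        rw [← mul_assoc ((cs n).simple j) ((cs n).simple j), hj, one_mul]
    _ = (cs n).simple j * (cs n).simple i := by rw [h1, one_mul]

theorem s_braid (n : ℕ) (i j : Fin n) (h : (i : ℕ) + 1 = j) :
    (cs n).simple i * (cs n).simple j * (cs n).simple i =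
      (cs n).simple j * (cs n).simple i * (cs n).simple j := by
  have h1 := (cs n).simple_mul_simple_pow i j
  have hM : (CoxeterMatrix.A n) i j = 3 := by
    rw [A_apply]
    have h1 : i ≠ j := by intro h'; rw [h'] at h; omega
    rw [if_neg h1, if_pos]
    right; exact h
  rw [hM, pow_succ, pow_two] at h1
  have hi := s_sq n i
  have hj := s_sq n j
  -- (ab)(ab)(ab) = 1, a² = b² = 1 ⟹ aba = bab
  have e1 : (cs n).simple i * (cs n).simple j * (cs n).simple i =
      ((cs n).simple j * (cs n).simple i * (cs n).simple j)⁻¹ := by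
    rw [eq_inv_iff_mul_eq_one]
    simpa [mul_assoc] using h1
  rw [e1]
  rw [mul_inv_rev, mul_inv_rev, (cs n).inv_simple, (cs n).inv_simple, mul_assoc]

/-! ### generators indexed by natural numbers -/

/-- `σ j` is the `j`-th simple reflection, or `1` when `j` is out of range -/
noncomputable def σ (n : ℕ) (j : ℕ) : W n :=
  if h : j < n then (cs n).simple ⟨j, h⟩ else 1

theorem σ_of_lt (n j : ℕ) (h : j < n) : σ n j = (cs n).simple ⟨j, h⟩ := by
  rw [σ, dif_pos h]

theorem σ_of_ge (n j : ℕ) (h : n ≤ j) : σ n j = 1 := by
  rw [σ, dif_neg (by omega)]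

theorem σ_sq (n j : ℕ) : σ n j * σ n j = 1 := by
  by_cases h : j < n
  · rw [σ_of_lt n j h]; exact s_sq n _
  · rw [σ_of_ge n j (by omega)]; simp

theorem σ_comm (n i j : ℕ) (h : i + 2 ≤ j) : σ n i * σ n j = σ n j * σ n i := by
  by_cases hj : j < n
  · have hi : i < n := by omega
    rw [σ_of_lt n j hj, σ_of_lt n i hi]
    exact s_comm n _ _ h
  · rw [σ_of_ge n j (by omega)]; simp

theorem σ_braid (n j : ℕ) (h : j + 1 < n) :
    σ n j * σ n (j + 1) * σ n j = σ n (j + 1) * σ n j * σ n (j + 1) := by
  rw [σ_of_lt n j (by omega), σ_of_lt n (j + 1) h]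
  exact s_braid n _ _ rfl

/-- coset representatives `c k = σ 0 * σ 1 * ⋯ * σ (k-1)` -/
noncomputable def c (n : ℕ) : ℕ → W n
  | 0 => 1
  | k + 1 => c n k * σ n k

theorem c_zero (n : ℕ) : c n 0 = 1 := rfl
theorem c_succ (n k : ℕ) : c n (k + 1) = c n k * σ n k := rfl

theorem c_comm (n : ℕ) : ∀ k j : ℕ, k + 1 ≤ j → σ n j * c n k = c n k * σ n j := by
  intro k
  induction k with
  | zero => intro j _; simp [c_zero]
  | succ k ih =>
    intro j hj
    rw [c_succ, ← mul_assoc, ih j (by omega), mul_assoc, ← σ_comm n k j (by omega), mul_assoc]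

theorem c_shift (n j : ℕ) (hj : j + 1 < n) :
    ∀ k : ℕ, j + 2 ≤ k → c n k * σ n j = σ n (j + 1) * c n k := by
  intro k hk
  induction k, hk using Nat.le_induction with
  | base =>
    have e : c n (j + 2) = c n j * σ n j * σ n (j + 1) := by
      rw [show j + 2 = (j + 1) + 1 from rfl, c_succ, c_succ]
    rw [e]
    calc c n j * σ n j * σ n (j + 1) * σ n j
        = c n j * (σ n j * σ n (j + 1) * σ n j) := by simp only [mul_assoc]
      _ = c n j * (σ n (j + 1) * σ n j * σ n (j + 1)) := by rw [σ_braid n j hj]
      _ = (c n j * σ n (j + 1)) * σ n j * σ n (j + 1) := by simp only [mul_assoc]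
      _ = (σ n (j + 1) * c n j) * σ n j * σ n (j + 1) := by rw [c_comm n j (j + 1) (by omega)]
      _ = σ n (j + 1) * (c n j * σ n j * σ n (j + 1)) := by simp only [mul_assoc]
  | succ k hk ih =>
    rw [c_succ, mul_assoc, ← σ_comm n j k hk, ← mul_assoc, ih, mul_assoc]

/-! ### the parabolic subgroup -/

theorem liftable_succ (n : ℕ) :
    (CoxeterMatrix.A n).IsLiftable (fun i : Fin n => (cs (n + 1)).simple i.succ) := by
  intro i j
  have h := (cs (n + 1)).simple_mul_simple_pow i.succ j.succ
  have hM : (CoxeterMatrix.A (n + 1)) i.succ j.succ = (CoxeterMatrix.A n) i j := by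
    rw [A_apply, A_apply]
    simp only [Fin.succ_inj, Fin.val_succ]
    congr 1
    simp only [add_left_inj]
  rw [hM] at h
  exact h

/-- the map `W n → W (n+1)` shifting the generators by one -/
noncomputable def ψ (n : ℕ) : W n →* W (n + 1) :=
  (cs n).lift ⟨_, liftable_succ n⟩

theorem ψ_simple (n : ℕ) (i : Fin n) : ψ n ((cs n).simple i) = (cs (n + 1)).simple i.succ :=
  (cs n).lift_apply_simple (liftable_succ n) i

theorem σ_succ_mem (n j : ℕ) : σ (n + 1) (j + 1) ∈ (ψ n).range := by
  by_cases h : j < n
  · refine ⟨(cs n).simple ⟨j, h⟩, ?_⟩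
    rw [ψ_simple, σ_of_lt (n + 1) (j + 1) (by omega)]
    rfl
  · rw [σ_of_ge (n + 1) (j + 1) (by omega)]
    exact one_mem _

theorem cover (n : ℕ) (w : W (n + 1)) :
    ∃ p ∈ (ψ n).range, ∃ k : ℕ, k ≤ n + 1 ∧ w = p * c (n + 1) k := by
  induction w using (cs (n + 1)).simple_induction_right with
  | one => exact ⟨1, one_mem _, 0, by omega, by simp [c_zero]⟩
  | mul_simple_right w i ih =>
    obtain ⟨p, hp, k, hk, rfl⟩ := ih
    have hi : (cs (n + 1)).simple i = σ (n + 1) (i : ℕ) := by
      rw [σ_of_lt (n + 1) (i : ℕ) i.2]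
    rw [hi, mul_assoc]
    have hilt : (i : ℕ) < n + 1 := i.2
    rcases lt_trichotomy (i : ℕ) k with hlt | heq | hgt
    · -- i < k
      by_cases h1 : (i : ℕ) + 1 = k
      · -- cancel the last factor
        refine ⟨p, hp, (i : ℕ), by omega, ?_⟩
        rw [← h1, c_succ, mul_assoc, σ_sq, mul_one]
      · have h2 : (i : ℕ) + 2 ≤ k := by omega
        refine ⟨p * σ (n + 1) ((i : ℕ) + 1), mul_mem hp (σ_succ_mem n _), k, hk, ?_⟩
        rw [c_shift (n + 1) (i : ℕ) (by omega) k h2, mul_assoc]
    · refine ⟨p, hp, k + 1, by omega, ?_⟩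
      rw [heq, c_succ]
    · -- k < i
      obtain ⟨j, hj⟩ : ∃ j, (i : ℕ) = j + 1 := ⟨(i : ℕ) - 1, by omega⟩
      refine ⟨p * σ (n + 1) (j + 1), mul_mem hp (σ_succ_mem n _), k, hk, ?_⟩
      rw [hj, ← c_comm (n + 1) k (j + 1) (by omega), mul_assoc]

/-! ### the cardinality bound -/

theorem finite_and_card (n : ℕ) : Finite (W n) ∧ Nat.card (W n) ≤ (n + 1).factorial := by
  induction n with
  | zero =>
    have hsub : Subsingleton (W 0) := by
      refine ⟨fun a b => ?_⟩
      have h1 : ∀ w : W 0, w = 1 := by
        intro w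
        induction w using (cs 0).simple_induction_right with
        | one => rfl
        | mul_simple_right w i ih => exact i.elim0
      rw [h1 a, h1 b]
    refine ⟨inferInstance, ?_⟩
    rw [Nat.card_unique]
    simp
  | succ n ih =>
    obtain ⟨hfin, hcard⟩ := ih
    have hPfin : Finite (ψ n).range := by
      have : Function.Surjective (ψ n).rangeRestrict := (ψ n).rangeRestrict_surjective
      exact Finite.of_surjective _ this
    have hPcard : Nat.card (ψ n).range ≤ Nat.card (W n) :=
      Nat.card_le_card_of_surjective _ (ψ n).rangeRestrict_surjective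
    let f : (ψ n).range × Fin (n + 2) → W (n + 1) := fun x => (x.1 : W (n + 1)) * c (n + 1) x.2
    have hf : Function.Surjective f := by
      intro w
      obtain ⟨p, hp, k, hk, rfl⟩ := cover n w
      exact ⟨(⟨p, hp⟩, ⟨k, by omega⟩), rfl⟩
    have hWfin : Finite (W (n + 1)) := Finite.of_surjective f hf
    refine ⟨hWfin, ?_⟩
    calc Nat.card (W (n + 1)) ≤ Nat.card ((ψ n).range × Fin (n + 2)) :=
          Nat.card_le_card_of_surjective f hf
      _ = Nat.card (ψ n).range * (n + 2) := by rw [Nat.card_prod, Nat.card_fin]
      _ ≤ (n + 1).factorial * (n + 2) := Nat.mul_le_mul_right _ (hPcard.trans hcard)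
      _ = (n + 1 + 1).factorial := by rw [Nat.factorial_succ (n + 1)]; ring

/-! ### the map to the symmetric group -/

theorem liftable_swap (n : ℕ) :
    (CoxeterMatrix.A n).IsLiftable (fun i : Fin n => (swap i.castSucc i.succ : Perm (Fin (n + 1)))) := by
  intro i j
  rw [A_apply]
  beta_reduce
  by_cases hij : i = j
  · subst hij
    simp
  · rw [if_neg hij]
    by_cases hadj : (j : ℕ) + 1 = i ∨ (i : ℕ) + 1 = j
    · rw [if_pos hadj]
      rcases hadj with h | h
      · -- j + 1 = i
        have e : i.castSucc = j.succ := by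
          apply Fin.ext; simp [h]
        rw [e]
        have h3 : (swap j.succ i.succ * swap j.castSucc j.succ).IsThreeCycle := by
          rw [swap_comm j.castSucc j.succ]
          apply Equiv.Perm.isThreeCycle_swap_mul_swap_same
          · intro h'; rw [Fin.succ_inj] at h'; exact hij h'.symm
          · intro h'
            have := congrArg Fin.val h'
            simp at this
          · intro h'
            have := congrArg Fin.val h'
            simp at this
            omega
        rw [← h3.orderOf]
        exact pow_orderOf_eq_one _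
      · have e : j.castSucc = i.succ := by
          apply Fin.ext; simp [h]
        rw [e]
        have h3 : (swap i.castSucc i.succ * swap i.succ j.succ).IsThreeCycle := by
          rw [swap_comm i.castSucc i.succ]
          apply Equiv.Perm.isThreeCycle_swap_mul_swap_same
          · intro h'
            have := congrArg Fin.val h'
            simp at this
          · intro h'; rw [Fin.succ_inj] at h'; exact hij h'
          · intro h'
            have := congrArg Fin.val h'
            simp at this
            omega
        rw [← h3.orderOf]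
        exact pow_orderOf_eq_one _
    · rw [if_neg hadj]
      push Not at hadj
      have hne : (i : ℕ) ≠ j := fun h => hij (Fin.ext h)
      have hd : Equiv.Perm.Disjoint (swap i.castSucc i.succ) (swap j.castSucc j.succ) := by
        apply Equiv.Perm.disjoint_swap_swap
        simp only [List.nodup_cons, List.mem_cons, List.not_mem_nil, or_false, not_or,
          List.nodup_nil, and_true, not_false_eq_true]
        refine ⟨⟨?_, ?_, ?_⟩, ⟨?_, ?_⟩, ?_⟩
        · intro h; have := congrArg Fin.val h; simp at this
        · intro h; have := congrArg Fin.val h; simp at this; omega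
        · intro h; have := congrArg Fin.val h; simp at this; omega
        · intro h; have := congrArg Fin.val h; simp at this; omega
        · intro h; have := congrArg Fin.val h; simp at this; omega
        · intro h; have := congrArg Fin.val h; simp at this
      have hc : swap j.castSucc j.succ * swap i.castSucc i.succ =
          swap i.castSucc i.succ * swap j.castSucc j.succ := hd.commute.eq.symm
      rw [pow_two, mul_assoc, ← mul_assoc (swap j.castSucc j.succ), hc, mul_assoc,
        swap_mul_self, mul_one, swap_mul_self]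

/-- the canonical map from the Coxeter group onto the symmetric group -/
noncomputable def φ (n : ℕ) : W n →* Perm (Fin (n + 1)) :=
  (cs n).lift ⟨_, liftable_swap n⟩

theorem φ_simple (n : ℕ) (i : Fin n) : φ n ((cs n).simple i) = swap i.castSucc i.succ :=
  (cs n).lift_apply_simple (liftable_swap n) i

theorem φ_surjective (n : ℕ) : Function.Surjective (φ n) := by
  rw [← MonoidHom.mrange_eq_top, eq_top_iff, ← Equiv.Perm.mclosure_swap_castSucc_succ n,
    Submonoid.closure_le]
  rintro _ ⟨i, rfl⟩
  exact ⟨(cs n).simple i, φ_simple n i⟩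

theorem φ_bijective (n : ℕ) : Function.Bijective (φ n) := by
  obtain ⟨hfin, hcard⟩ := finite_and_card n
  apply (φ_surjective n).bijective_of_nat_card_le
  rw [Nat.card_eq_fintype_card (α := Perm (Fin (n + 1))), Fintype.card_perm, Fintype.card_fin]
  exact hcard

/-- The Coxeter presentation of the symmetric group: for every n, the symmetric group on n+1 letters is the Coxeter group of type A_n with the adjacent transpositions (i, i+1) as simple reflections; that is, it is presented by generators r_1, …, r_n subject to r_i² = 1, (r_i r_j)² = 1 for |i − j| > 1 and (r_i r_{i+1})³ = 1, with r_i mapping to (i, i+1). -/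
theorem result (n : ℕ) :
    ∃ cs : CoxeterSystem (CoxeterMatrix.A n) (Equiv.Perm (Fin (n + 1))), ∀ i : Fin n, cs.simple i = Equiv.swap i.castSucc i.succ := by
  refine ⟨⟨(MulEquiv.ofBijective (φ n) (φ_bijective n)).symm⟩, ?_⟩
  intro i
  change (MulEquiv.ofBijective (φ n) (φ_bijective n)).symm.symm (PresentedGroup.of i) = _
  rw [MulEquiv.symm_symm]
  exact φ_simple n i

end Cfsg.Agent.S2530
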