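import Cfsg.Statements.S2879
import Cfsg.Agent.Lib.Helper35_CyclicMax
import Cfsg.Agent.Lib.Helper35_SL23b
import Cfsg.Agent.Lib.Helper55_Fitting
import Cfsg.Agent.Lib.Helper1_Cores

set_option autoImplicit false
open Cfsg

namespace Cfsg.Agent.S2879

open QuaternionGroup
open Cfsg.Agent.S0257 (S3)
open Cfsg.Agent.Lib

abbrev Q8 := QuaternionGroup 2

def Sset : Finset (Q8 × Q8) :=
  Finset.univ.filter (fun p => p.1 * p.1 ≠ 1 ∧ p.2 * p.2 ≠ 1 ∧ p.2 ≠ p.1 ∧ p.2 ≠ p.1⁻¹)

theorem card_Sset : Sset.card = 24 := by decide +kernel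

def Zset : Finset Q8 :=
  Finset.univ.filter (fun z => z * a 1 = a 1 * z ∧ z * xa 0 = xa 0 * z)

theorem card_Zset : Zset.card = 2 := by decide +kernel

theorem aut_ext (σ τ : MulAut Q8) (h1 : σ (a 1) = τ (a 1)) (h2 : σ (xa 0) = τ (xa 0)) : σ = τ := by
  ext q
  rcases q with i | i
  · have : (a i : Q8) = (a 1) ^ i.val := by
      rw [QuaternionGroup.a_one_pow, ZMod.natCast_zmod_val]
    rw [this, map_pow, map_pow, h1]
  · have : (xa i : Q8) = xa 0 * (a 1) ^ i.val := by
      rw [QuaternionGroup.a_one_pow, QuaternionGroup.xa_mul_a, zero_add, ZMod.natCast_zmod_val]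
    rw [this, map_mul, map_mul, map_pow, map_pow, h1, h2]

theorem card_mulAut_le : Nat.card (MulAut Q8) ≤ 24 := by
  classical
  let ι : MulAut Q8 → {p // p ∈ Sset} := fun σ => ⟨(σ (a 1), σ (xa 0)), by
    simp only [Sset, Finset.mem_filter, Finset.mem_univ, true_and]
    refine ⟨?_, ?_, ?_, ?_⟩
    · rw [← map_mul, Ne, map_eq_one_iff σ σ.injective]; decide
    · rw [← map_mul, Ne, map_eq_one_iff σ σ.injective]; decide
    · intro h; exact absurd (σ.injective h) (by decide)
    · rw [← map_inv]; intro h; exact absurd (σ.injective h) (by decide)⟩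
  have hι : Function.Injective ι := by
    intro σ τ h
    have h' := congrArg Subtype.val h
    simp only [ι, Prod.mk.injEq] at h'
    exact aut_ext σ τ h'.1 h'.2
  have h2 : Nat.card {p // p ∈ Sset} = 24 := by
    rw [Nat.card_eq_fintype_card, Fintype.card_coe, card_Sset]
  have := Nat.card_le_card_of_injective ι hι
  rwa [h2] at this


theorem card_le_48 {G : Type*} [Group G] [Finite G] (Q : Subgroup G) [hQn : Q.Normal]
    (θ : ↥Q ≃* Q8) (hC : Subgroup.centralizer (Q : Set G) ≤ Q) : Nat.card G ≤ 48 := by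
  classical
  set φ : G →* MulAut ↥Q := MulAut.conjNormal with hφ
  have hker : φ.ker = Subgroup.centralizer (Q : Set G) :=
    Cfsg.Agent.Lib.Helper55_Fitting.conjNormal_ker Q
  have h1 : Nat.card φ.ker * Nat.card φ.range = Nat.card G := by
    rw [← Subgroup.index_ker, Subgroup.card_mul_index]
  have h2 : Nat.card φ.range ≤ 24 := by
    calc Nat.card φ.range ≤ Nat.card (MulAut ↥Q) := Subgroup.card_le_card_group _
      _ = Nat.card (MulAut Q8) := Nat.card_congr (MulAut.congr θ).toEquiv
      _ ≤ 24 := card_mulAut_le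
  have h3 : Nat.card φ.ker ≤ 2 := by
    rw [hker]
    let κ : Subgroup.centralizer (Q : Set G) → {z // z ∈ Zset} := fun t =>
      ⟨θ ⟨t.1, hC t.2⟩, by
        have hcomm : ∀ q : ↥Q, (⟨t.1, hC t.2⟩ : ↥Q) * q = q * ⟨t.1, hC t.2⟩ := by
          intro q
          apply Subtype.ext
          exact ((Subgroup.mem_centralizer_iff.mp t.2) q.1 q.2).symm
        simp only [Zset, Finset.mem_filter, Finset.mem_univ, true_and]
        constructor
        · have := congrArg θ (hcomm (θ.symm (a 1)))
          simpa using this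
        · have := congrArg θ (hcomm (θ.symm (xa 0)))
          simpa using this⟩
    have hκ : Function.Injective κ := by
      intro s t h
      have h' := congrArg Subtype.val h
      simp only [κ] at h'
      have h'' : (⟨s.1, hC s.2⟩ : ↥Q) = ⟨t.1, hC t.2⟩ := θ.injective h'
      exact Subtype.ext (Subtype.mk.inj h'')
    have h4 : Nat.card {z // z ∈ Zset} = 2 := by
      rw [Nat.card_eq_fintype_card, Fintype.card_coe, card_Zset]
    have := Nat.card_le_card_of_injective κ hκ
    rwa [h4] at this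
  calc Nat.card G = Nat.card φ.ker * Nat.card φ.range := h1.symm
    _ ≤ 2 * 24 := Nat.mul_le_mul h3 h2


set_option maxRecDepth 100000 in
theorem card_S3 : Nat.card S3 = 24 := by
  rw [Nat.card_eq_fintype_card]
  decide +kernel

/-- a dihedral (order at least 8) or semidihedral 2-group has a cyclic subgroup of index 2 -/
theorem exists_cyclic_index_two {G : Type*} [Group G] [Finite G] (T : Sylow 2 G)
    (hT : (∃ n : ℕ, 4 ≤ n ∧ Nonempty (↥(T : Subgroup G) ≃* DihedralGroup n)) ∨
      Cfsg.IsQuasiDihedral ↥(T : Subgroup G)) :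
    ∃ t ∈ (T : Subgroup G), 2 * orderOf t = Nat.card (T : Subgroup G) ∧
      8 ≤ Nat.card (T : Subgroup G) := by
  rcases hT with ⟨n, hn, ⟨e⟩⟩ | ⟨n, hn, hcard, x, y, hx, hy, hxy⟩
  · have : NeZero n := ⟨by omega⟩
    refine ⟨(e.symm (DihedralGroup.r 1) : ↥(T : Subgroup G)), Subtype.property _, ?_, ?_⟩
    · rw [Subgroup.orderOf_coe, MulEquiv.orderOf_eq, DihedralGroup.orderOf_r_one,
        Nat.card_congr e.toEquiv, DihedralGroup.nat_card]
    · rw [Nat.card_congr e.toEquiv, DihedralGroup.nat_card]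
      omega
  · refine ⟨(x : G), x.2, ?_, ?_⟩
    · rw [Subgroup.orderOf_coe, hx, hcard, pow_succ, mul_comm]
    · rw [hcard]
      calc 8 = 2 ^ 3 := by norm_num
        _ ≤ 2 ^ (n + 1) := Nat.pow_le_pow_right (by norm_num) (by omega)

/-- Let G be a finite solvable group with O(G) = 1 whose Sylow 2-subgroup T is dihedral of order at least 8 or semidihedral, with G ≠ T and Z(T) normal in G. Then G has a normal subgroup isomorphic to SL₂(3). -/
theorem result {G : Type*} [Group G] [Finite G] (hsol : IsSolvable G) (hO : Cfsg.oddCore G = ⊥) (T : Sylow 2 G) (hT : (∃ n : ℕ, 4 ≤ n ∧ Nonempty (↥(T : Subgroup G) ≃* DihedralGroup n)) ∨ Cfsg.IsQuasiDihedral ↥(T : Subgroup G)) (hne : (T : Subgroup G) ≠ ⊤) (hZ : ((T : Subgroup G) ⊓ Subgroup.centralizer ((T : Subgroup G) : Set G)).Normal) : ∃ U : Subgroup G, U.Normal ∧ Nonempty (↥U ≃* Matrix.SpecialLinearGroup (Fin 2) (ZMod 3)) := by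
  classical
  have : Fact (Nat.Prime 2) := ⟨Nat.prime_two⟩
  have hsol' : Group.IsSolvable G := hsol
  set Q : Subgroup G := Cfsg.pCore 2 G with hQ
  have hQn : Q.Normal := Helper1_Cores.pCore_normal 2
  have hQp : IsPGroup 2 Q := Helper1_Cores.pCore_isPGroup 2
  have hQT : Q ≤ (T : Subgroup G) := Helper1_Cores.pCore_le_sylow 2 T
  have hCQ : Subgroup.centralizer (Q : Set G) ≤ Q := Helper55_Fitting.centralizer_pCore_le 2 hO
  obtain ⟨t, htT, hcard_t, hT8⟩ := exists_cyclic_index_two T hT
  -- an element of odd prime order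
  have hidx1 : (T : Subgroup G).index ≠ 1 := fun h => hne (Subgroup.index_eq_one.mp h)
  obtain ⟨p, hp, hpdvd⟩ := Nat.exists_prime_and_dvd hidx1
  have hp2 : p ≠ 2 := by
    rintro rfl
    exact T.not_dvd_index hpdvd
  have : Fact p.Prime := ⟨hp⟩
  obtain ⟨x, hx⟩ := exists_prime_orderOf_dvd_card' p
    (hpdvd.trans (Subgroup.index_dvd_card (T : Subgroup G)))
  have hpodd : Odd p := hp.odd_of_ne_two hp2
  have hcop : (orderOf x).Coprime 2 := by
    rw [hx]; exact (Nat.coprime_primes hp Nat.prime_two).mpr hp2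
  have hxC : x ∉ Subgroup.centralizer (Q : Set G) := by
    intro h
    obtain ⟨k, hk⟩ := hQp ⟨x, hCQ h⟩
    have hk' : x ^ 2 ^ k = 1 := by simpa using congrArg Subtype.val hk
    have h1 : p ∣ 2 ^ k := by rw [← hx]; exact orderOf_dvd_of_pow_eq_one hk'
    exact hp2 ((Nat.prime_dvd_prime_iff_eq hp Nat.prime_two).mp (hp.dvd_of_dvd_pow h1))
  set α : MulAut ↥Q := MulAut.conjNormal x with hα
  have hαp : α ^ p = 1 := by
    rw [hα, ← map_pow, ← hx, pow_orderOf_eq_one, map_one]
  have hα1 : α ≠ 1 := by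
    intro h
    apply hxC
    rw [← Helper55_Fitting.conjNormal_ker Q]
    exact h
  have hα_apply : ∀ q : ↥Q, ((α q : ↥Q) : G) = x * q * x⁻¹ := fun q => rfl
  -- the cyclic subgroup of index at most two
  set C : Subgroup G := Subgroup.zpowers t with hC
  have hCT : C ≤ (T : Subgroup G) := Subgroup.zpowers_le.mpr htT
  have hCrel : C.relIndex (T : Subgroup G) = 2 := by
    have h1 : Nat.card (C.subgroupOf (T : Subgroup G)) = orderOf t := by
      rw [Nat.card_congr (Subgroup.subgroupOfEquivOfLe hCT).toEquiv, hC, Nat.card_zpowers]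
    have h2 := (C.subgroupOf (T : Subgroup G)).card_mul_index
    rw [h1, ← hcard_t, mul_comm] at h2
    exact Nat.eq_of_mul_eq_mul_right (orderOf_pos t) h2
  set M : Subgroup ↥Q := C.subgroupOf Q with hM
  have hMle : M.index ≤ 2 := by
    have := Subgroup.relIndex_le_of_le_right (H := C) hQT (by rw [hCrel]; norm_num)
    rwa [hCrel] at this
  have hMc : IsCyclic M := by
    let f : M →* C := (Q.subtype.comp M.subtype).codRestrict C (fun m => m.2)
    have hf : Function.Injective f := by
      intro u v huv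
      have := congrArg Subtype.val huv
      exact Subtype.ext (Subtype.ext this)
    exact isCyclic_of_injective f hf
  have hM0 : M.index ≠ 0 := Subgroup.index_ne_zero_of_finite
  have hM1 : M.index ≠ 1 := by
    intro h
    have hMtop : M = ⊤ := Subgroup.index_eq_one.mp h
    have hQc : IsCyclic ↥Q := by
      have : IsCyclic (⊤ : Subgroup ↥Q) := hMtop ▸ hMc
      exact isCyclic_of_surjective (Subgroup.topEquiv (G := ↥Q)).toMonoidHom
        (Subgroup.topEquiv (G := ↥Q)).surjective
    have hG2 : IsPGroup 2 G := Helper55_Fitting.isPGroup_two_of_cyclic_normal Q hQp hCQ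
    apply hidx1
    obtain ⟨k, hk⟩ := IsPGroup.iff_card.mp hG2
    have h1 : (T : Subgroup G).index ∣ 2 ^ k := hk ▸ Subgroup.index_dvd_card _
    obtain ⟨j, _, hj⟩ := (Nat.dvd_prime_pow Nat.prime_two).mp h1
    rcases Nat.eq_zero_or_pos j with rfl | hjpos
    · simpa using hj
    · exfalso
      apply T.not_dvd_index
      rw [hj]
      exact dvd_pow_self 2 hjpos.ne'
  have hMi : M.index = 2 := by omega
  rcases Helper35_CyclicMax.card_eq_four_or_quaternion hQp α hpodd hαp hα1 M hMi with h4 | ⟨⟨θ⟩⟩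
  · -- the case `|Q| = 4`
    exfalso
    set Z : Subgroup G := (T : Subgroup G) ⊓ Subgroup.centralizer ((T : Subgroup G) : Set G)
      with hZdef
    have hZT : Z ≤ (T : Subgroup G) := inf_le_left
    have hZp : IsPGroup 2 Z := T.isPGroup'.to_le hZT
    have hZQ : Z ≤ Q := Helper1_Cores.le_pCore hZ hZp
    have hZbot : Z ≠ ⊥ := by
      have hTnt : Nontrivial ↥(T : Subgroup G) := by
        rw [← Finite.one_lt_card_iff_nontrivial]
        omega
      have := IsPGroup.center_nontrivial (T.isPGroup')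
      obtain ⟨z, hz⟩ := exists_ne (1 : Subgroup.center ↥(T : Subgroup G))
      intro hbot
      apply hz
      have hzZ : ((z : ↥(T : Subgroup G)) : G) ∈ Z := by
        refine ⟨(z : ↥(T : Subgroup G)).2, ?_⟩
        show ((z : ↥(T : Subgroup G)) : G) ∈ Subgroup.centralizer ((T : Subgroup G) : Set G)
        rw [Subgroup.mem_centralizer_iff]
        intro s hs
        have := (Subgroup.mem_center_iff.mp z.2) ⟨s, hs⟩
        exact congrArg Subtype.val this
      rw [hbot, Subgroup.mem_bot] at hzZ
      exact Subtype.ext (Subtype.ext hzZ)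
    have hZneQ : Z ≠ Q := by
      intro hZQ'
      have hTle : (T : Subgroup G) ≤ Subgroup.centralizer (Q : Set G) := by
        intro s hs
        rw [Subgroup.mem_centralizer_iff]
        intro z hz
        have hz' : z ∈ Z := hZQ' ▸ hz
        exact ((Subgroup.mem_centralizer_iff.mp hz'.2) s hs).symm
      have := Nat.le_of_dvd (by omega) (Subgroup.card_dvd_of_le (hTle.trans hCQ))
      omega
    have hZcard : Nat.card Z = 2 := by
      have hdvd : Nat.card Z ∣ 4 := h4 ▸ Subgroup.card_dvd_of_le hZQ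
      have h1 : Nat.card Z ≠ 1 := fun h => hZbot (Subgroup.card_eq_one.mp h)
      have h4' : Nat.card Z ≠ 4 := fun h =>
        hZneQ (Subgroup.eq_of_le_of_card_ge hZQ (by rw [h, h4]))
      have hle : Nat.card Z ≤ 4 := Nat.le_of_dvd (by norm_num) hdvd
      interval_cases hc : Nat.card Z <;> simp_all
    set M' : Subgroup ↥Q := Z.subgroupOf Q with hM'
    have hM'card : Nat.card M' = 2 := by
      rw [Nat.card_congr (Subgroup.subgroupOfEquivOfLe hZQ).toEquiv, hZcard]
    have hM'i : M'.index = 2 := by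
      have := M'.card_mul_index
      rw [hM'card, h4] at this
      omega
    have hM'c : IsCyclic M' := isCyclic_of_prime_card hM'card
    apply hα1
    apply Helper35_CyclicMax.aut_eq_one_of_invariant hQp α hpodd hαp M' hM'i
    intro u hu
    show ((α u : ↥Q) : G) ∈ Z
    rw [hα_apply]
    exact hZ.conj_mem _ hu x
  · -- the case `Q ≅ Q₈`
    have hxN : x ∈ Subgroup.normalizer (Q : Set G) := by
      rw [Subgroup.normalizer_eq_top]; exact Subgroup.mem_top x
    obtain ⟨H, ψ, hψ, hHle⟩ := Helper35_SL23b.exists_surj Q θ x hxN hcop hxC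
    have hcardQ : Nat.card ↥Q = 8 := by
      rw [Nat.card_congr θ.toEquiv, Nat.card_eq_fintype_card, QuaternionGroup.card]
    have hH1 : Nat.card ↥H ∣ p * 8 := by
      have h1 : Nat.card ↥H ∣ Nat.card ↥(Subgroup.zpowers x ⊔ Q : Subgroup G) :=
        Subgroup.card_dvd_of_le (by rw [sup_comm]; exact hHle)
      have h2 := Helper1_Cores.card_sup_dvd (Subgroup.zpowers x) Q
      rw [Nat.card_zpowers, hx, hcardQ] at h2
      exact h1.trans h2
    have hH2 : 24 ∣ Nat.card ↥H := by
      have h1 : Nat.card ψ.ker * Nat.card ψ.range = Nat.card ↥H := by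
        rw [← Subgroup.index_ker, Subgroup.card_mul_index]
      have h2 : Nat.card ψ.range = 24 := by
        rw [MonoidHom.range_eq_top.mpr hψ, Subgroup.card_top, card_S3]
      rw [← h1, h2]
      exact dvd_mul_left _ _
    have hp3 : p = 3 := by
      have h1 : 3 ∣ p * 8 := (by norm_num : 3 ∣ 24).trans (hH2.trans hH1)
      have h2 : 3 ∣ p := by
        rcases (Nat.Prime.dvd_mul Nat.prime_three).mp h1 with h | h
        · exact h
        · norm_num at h
      exact ((Nat.prime_dvd_prime_iff_eq Nat.prime_three hp).mp h2).symm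
    subst hp3
    have hcardH : Nat.card ↥H = 24 := Nat.dvd_antisymm hH1 hH2
    have hbij : Function.Bijective ψ :=
      hψ.bijective_of_nat_card_le (by rw [hcardH, card_S3])
    have hG48 : Nat.card G ≤ 48 := card_le_48 Q θ hCQ
    have hidx : H.index = 1 ∨ H.index = 2 := by
      have h1 := H.card_mul_index
      rw [hcardH] at h1
      have h0 : H.index ≠ 0 := Subgroup.index_ne_zero_of_finite
      omega
    have hHn : H.Normal := by
      rcases hidx with h | h
      · rw [Subgroup.index_eq_one.mp h]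
        infer_instance
      · exact Subgroup.normal_of_index_eq_two h
    exact ⟨H, hHn, ⟨MulEquiv.ofBijective ψ hbij⟩⟩

end Cfsg.Agent.S2879
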