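import Cfsg.Statements.S3305

set_option autoImplicit false
open Cfsg

namespace Cfsg.Agent.S3305

/-- Lifting a `p`-subgroup with image inside a Sylow subgroup of the quotient to a Sylow subgroup
of the group mapping onto the given Sylow subgroup. -/
theorem exists_sylow_ge_map_eq {G G' : Type*} [Group G] [Group G'] [Finite G] {p : ℕ} [Fact p.Prime]
    {f : G →* G'} (hf : Function.Surjective f) (P : Sylow p G') (D : Subgroup G)
    (hD : IsPGroup p D) (hDP : D.map f ≤ P) :
    ∃ Q : Sylow p G, D ≤ Q ∧ (Q : Subgroup G).map f = P := by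
  have : Finite G' := Finite.of_surjective f hf
  have hDle : D ≤ (P : Subgroup G').comap f := Subgroup.map_le_iff_le_comap.mp hDP
  have hD' : IsPGroup p (D.subgroupOf ((P : Subgroup G').comap f)) :=
    hD.comap_of_injective _ (Subgroup.subtype_injective _)
  obtain ⟨Q₀, hQ₀⟩ := hD'.exists_le_sylow
  let Q : Subgroup G := (Q₀ : Subgroup ((P : Subgroup G').comap f)).map ((P : Subgroup G').comap f).subtype
  have hPQ : Q.map f ≤ P := Subgroup.map_le_iff_le_comap.mpr (Subgroup.map_subtype_le Q₀.1)
  have hpQ : IsPGroup p Q := Q₀.2.map ((P : Subgroup G').comap f).subtype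
  have hQ : ¬ p ∣ Q.index := by
    rw [Subgroup.index_map_subtype Q₀.1, (P : Subgroup G').index_comap_of_surjective hf]
    exact Nat.Prime.not_dvd_mul Fact.out Q₀.not_dvd_index P.not_dvd_index
  refine ⟨hpQ.toSylow hQ, ?_, ?_⟩
  · intro x hx
    have hx' : x ∈ (P : Subgroup G').comap f := hDle hx
    have : (⟨x, hx'⟩ : ((P : Subgroup G').comap f)) ∈ (Q₀ : Subgroup ((P : Subgroup G').comap f)) :=
      hQ₀ (by simpa [Subgroup.mem_subgroupOf] using hx)
    exact ⟨⟨x, hx'⟩, this, rfl⟩
  · have := ((hpQ.map f).toSylow (fun h ↦ hQ (h.trans (Q.index_map_dvd hf)))).3 P.2 hPQ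
    simpa using this.symm

theorem result {G : Type*} [Group G] [Finite G]
    (hC : ∀ S T : Sylow 2 G, S ≠ T → IsCyclic ↥((S : Subgroup G) ⊓ (T : Subgroup G))) (H : Subgroup G) [H.Normal] :
    ∀ S T : Sylow 2 (G ⧸ H), S ≠ T → IsCyclic ↥((S : Subgroup (G ⧸ H)) ⊓ (T : Subgroup (G ⧸ H))) := by
  intro S T hST
  have hf : Function.Surjective (QuotientGroup.mk' H) := QuotientGroup.mk'_surjective H
  set f := QuotientGroup.mk' H with hfdef
  -- the preimage of the intersection
  set I : Subgroup (G ⧸ H) := (S : Subgroup (G ⧸ H)) ⊓ (T : Subgroup (G ⧸ H)) with hI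
  have hIp : IsPGroup 2 I := S.2.to_le inf_le_left
  let L : Subgroup G := I.comap f
  -- a Sylow 2-subgroup of L
  let D₀ : Sylow 2 L := Sylow.nonempty.some
  let D : Subgroup G := (D₀ : Subgroup L).map L.subtype
  have hDp : IsPGroup 2 D := D₀.2.map L.subtype
  have hDL : D ≤ L := Subgroup.map_subtype_le _
  have hDI : D.map f ≤ I := Subgroup.map_le_iff_le_comap.mpr hDL
  -- the image of D is all of I
  have hDI' : D.map f = I := by
    -- restrict f to L → I
    let fL : L →* I := (f.subgroupComap I)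
    have hfL : Function.Surjective fL := f.subgroupComap_surjective_of_surjective I hf
    have h1 : (D₀.mapSurjective hfL : Subgroup I) = ⊤ := by
      have hItop : IsPGroup 2 (⊤ : Subgroup I) := fun x => by
        obtain ⟨k, hk⟩ := hIp x.1
        exact ⟨k, Subtype.ext (by simpa using hk)⟩
      exact ((D₀.mapSurjective hfL).3 hItop le_top).symm
    apply le_antisymm hDI
    intro y hy
    have : (⟨y, hy⟩ : I) ∈ (D₀.mapSurjective hfL : Subgroup I) := by rw [h1]; trivial
    rw [Sylow.coe_mapSurjective] at this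
    obtain ⟨d, hd, hdy⟩ := this
    refine ⟨d.1, ⟨d, hd, rfl⟩, ?_⟩
    exact congrArg Subtype.val hdy
  obtain ⟨S', hDS', hS'⟩ := exists_sylow_ge_map_eq hf S D hDp (hDI.trans inf_le_left)
  obtain ⟨T', hDT', hT'⟩ := exists_sylow_ge_map_eq hf T D hDp (hDI.trans inf_le_right)
  have hne : S' ≠ T' := by
    rintro rfl
    exact hST (Sylow.ext (hS'.symm.trans hT'))
  have hcyc := hC S' T' hne
  have hDcyc : IsCyclic D := by
    have hle : D ≤ (S' : Subgroup G) ⊓ (T' : Subgroup G) := le_inf hDS' hDT'
    have : IsCyclic (D.subgroupOf ((S' : Subgroup G) ⊓ (T' : Subgroup G))) := inferInstance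
    exact isCyclic_of_surjective _ (Subgroup.subgroupOfEquivOfLe hle).surjective
  have : IsCyclic (D.map f) := by
    have hs : Function.Surjective (f.subgroupMap D) := f.subgroupMap_surjective D
    exact isCyclic_of_surjective _ hs
  rw [hDI'] at this
  exact this

end Cfsg.Agent.S3305
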