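import Cfsg.Statements.S3304
import Cfsg.Agent.S2879
import Cfsg.Agent.S3305
import Cfsg.Agent.S5112
import Cfsg.Agent.Lib.Helper35_AutQ8
import Cfsg.Agent.Lib.Helper35_GL23

set_option autoImplicit false
open Cfsg

namespace Cfsg.Agent.S3304

open QuaternionGroup
open Cfsg.Agent.S0257 (S3 qf)
open Cfsg.Agent.Lib
open Cfsg.Agent.Lib.Helper50_UniqueInv (UniqueInvolution)

/-- `p`-rank bounds pull back along injective homomorphisms -/
theorem pRankLE_of_injective {A B : Type*} [Group A] [Group B] (p k : ℕ) (g : A →* B)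
    (hg : Function.Injective g) (h : PRankLE p k B) : PRankLE p k A := by
  intro A0 hA hexp
  have h1 : IsMulCommutative ↥(A0.map g) := by
    refine ⟨⟨?_⟩⟩
    rintro ⟨x, hx⟩ ⟨y, hy⟩
    obtain ⟨x', hx', rfl⟩ := hx
    obtain ⟨y', hy', rfl⟩ := hy
    apply Subtype.ext
    have := congrArg Subtype.val (hA.is_comm.comm ⟨x', hx'⟩ ⟨y', hy'⟩)
    simp only [Subgroup.coe_mul] at this ⊢
    rw [← map_mul, ← map_mul, this]
  have h2 : ∀ a ∈ A0.map g, a ^ p = 1 := by
    rintro _ ⟨a, ha, rfl⟩
    rw [← map_pow, hexp a ha, map_one]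
  have h3 := h (A0.map g) h1 h2
  rwa [Subgroup.card_map_of_injective hg] at h3

/-- the hypothesis passes to the quotient by the odd core -/
theorem hyp_quotient {G : Type*} [Group G] [Finite G]
    (hI : ∀ S T : Sylow 2 G, S ≠ T → Cfsg.PRankLE 2 1 ↥((S : Subgroup G) ⊓ (T : Subgroup G))) :
    ∀ S T : Sylow 2 (G ⧸ Cfsg.oddCore G), S ≠ T →
      Cfsg.PRankLE 2 1 ↥((S : Subgroup (G ⧸ Cfsg.oddCore G)) ⊓ (T : Subgroup (G ⧸ Cfsg.oddCore G))) := by
  classical
  have : Fact (Nat.Prime 2) := ⟨Nat.prime_two⟩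
  set N : Subgroup G := Cfsg.oddCore G with hN
  have hNn : N.Normal := Helper1_Cores.pPrimeCore_normal 2
  have hNodd : (Nat.card N).Coprime 2 := Helper1_Cores.pPrimeCore_card_coprime 2
  intro S T hST
  have hf : Function.Surjective (QuotientGroup.mk' N) := QuotientGroup.mk'_surjective N
  set f := QuotientGroup.mk' N with hfdef
  set I : Subgroup (G ⧸ N) := (S : Subgroup (G ⧸ N)) ⊓ (T : Subgroup (G ⧸ N)) with hI'
  have hIp : IsPGroup 2 I := S.2.to_le inf_le_left
  let L : Subgroup G := I.comap f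
  let D₀ : Sylow 2 L := Sylow.nonempty.some
  let D : Subgroup G := (D₀ : Subgroup L).map L.subtype
  have hDp : IsPGroup 2 D := D₀.2.map L.subtype
  have hDL : D ≤ L := Subgroup.map_subtype_le _
  have hDI : D.map f ≤ I := Subgroup.map_le_iff_le_comap.mpr hDL
  have hDI' : D.map f = I := by
    let fL : L →* I := (f.subgroupComap I)
    have hfL : Function.Surjective fL := f.subgroupComap_surjective_of_surjective I hf
    have h1 : (D₀.mapSurjective hfL : Subgroup I) = ⊤ := by
      have hItop : IsPGroup 2 (⊤ : Subgroup I) := fun x => by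
        obtain ⟨k, hk⟩ := hIp x.1
        exact ⟨k, Subtype.ext (by simpa using hk)⟩
      exact ((D₀.mapSurjective hfL).3 hItop le_top).symm
    apply le_antisymm hDI
    intro y hy
    have : (⟨y, hy⟩ : I) ∈ (D₀.mapSurjective hfL : Subgroup I) := by rw [h1]; trivial
    rw [Sylow.coe_mapSurjective] at this
    obtain ⟨d, hd, hdy⟩ := this
    refine ⟨d.1, ⟨d, hd, rfl⟩, ?_⟩
    exact congrArg Subtype.val hdy
  obtain ⟨S', hDS', hS'⟩ := Cfsg.Agent.S3305.exists_sylow_ge_map_eq hf S D hDp (hDI.trans inf_le_left)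
  obtain ⟨T', hDT', hT'⟩ := Cfsg.Agent.S3305.exists_sylow_ge_map_eq hf T D hDp (hDI.trans inf_le_right)
  have hne : S' ≠ T' := by
    rintro rfl
    exact hST (Sylow.ext (hS'.symm.trans hT'))
  have hrank := hI S' T' hne
  have hle : D ≤ (S' : Subgroup G) ⊓ (T' : Subgroup G) := le_inf hDS' hDT'
  -- `f` is injective on `D`
  have hinj : ∀ d ∈ D, f d = 1 → d = 1 := by
    intro d hd hfd
    have hdN : d ∈ N := by
      rw [← QuotientGroup.ker_mk' N]
      exact hfd
    obtain ⟨k, hk⟩ := hDp ⟨d, hd⟩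
    have hk' : d ^ 2 ^ k = 1 := by simpa using congrArg Subtype.val hk
    have h2 : d ^ Nat.card N = 1 := by
      have h2' : (⟨d, hdN⟩ : N) ^ Nat.card N = 1 := pow_card_eq_one'
      have := congrArg Subtype.val h2'
      rwa [Subgroup.coe_pow, Subgroup.coe_one] at this
    have h3 := pow_gcd_eq_one.2 ⟨hk', h2⟩
    rwa [Nat.Coprime.gcd_eq_one (Nat.Coprime.pow_left k hNodd.symm), pow_one] at h3
  -- `D ≃* I`
  have hbij : Function.Bijective (f.subgroupMap D) := by
    refine ⟨?_, f.subgroupMap_surjective D⟩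
    rw [injective_iff_map_eq_one]
    intro d hd
    have h1 : f (d : G) = 1 := congrArg Subtype.val hd
    exact Subtype.ext (hinj d d.2 h1)
  let e : ↥D ≃* ↥I := (MulEquiv.ofBijective (f.subgroupMap D) hbij).trans
    (MulEquiv.subgroupCongr hDI')
  let g : ↥I →* ↥((S' : Subgroup G) ⊓ (T' : Subgroup G)) :=
    (Subgroup.inclusion hle).comp e.symm.toMonoidHom
  have hg : Function.Injective g :=
    (Subgroup.inclusion_injective hle).comp e.symm.injective
  exact pRankLE_of_injective 2 1 g hg hrank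


set_option maxRecDepth 100000 in
theorem S3_unique_inv : ∀ m m' : S3, m * m = 1 → m' * m' = 1 → m ≠ 1 → m' ≠ 1 → m = m' := by
  decide +kernel

theorem Q8_noncomm : ∃ u v : QuaternionGroup 2, u * v ≠ v * u := by decide

/-- a finite 2-group of 2-rank at most one has a unique involution -/
theorem uniqueInvolution_of_pRankLE {P : Type*} [Group P] [Finite P] (hP : IsPGroup 2 P)
    (hr : Cfsg.PRankLE 2 1 P) : UniqueInvolution P := by
  classical
  have : Fact (Nat.Prime 2) := ⟨Nat.prime_two⟩
  intro u v hu hv hu1 hv1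
  have hnt : Nontrivial P := ⟨⟨u, 1, hu1⟩⟩
  have hcnt : Nontrivial (Subgroup.center P) := IsPGroup.center_nontrivial hP
  have h2dvd : 2 ∣ Nat.card (Subgroup.center P) := by
    obtain ⟨k, hk⟩ := IsPGroup.iff_card.mp (hP.to_subgroup (Subgroup.center P))
    rw [hk]
    have hk0 : k ≠ 0 := by
      rintro rfl
      rw [pow_zero] at hk
      have := Finite.one_lt_card_iff_nontrivial.mpr hcnt
      omega
    exact dvd_pow_self 2 hk0
  obtain ⟨⟨z, hzc⟩, hz⟩ := exists_prime_orderOf_dvd_card' 2 h2dvd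
  have hz2 : orderOf z = 2 := by
    rw [← hz, Subgroup.orderOf_mk]
  have hzsq : z ^ 2 = 1 := by rw [← hz2]; exact pow_orderOf_eq_one z
  have hz1 : z ≠ 1 := by
    rintro rfl
    rw [orderOf_one] at hz2
    omega
  have key : ∀ t : P, t ^ 2 = 1 → t ≠ 1 → t = z := by
    intro t ht ht1
    by_contra hne
    set A : Subgroup P := Subgroup.closure {t, z} with hA
    have hcomm : ∀ x ∈ ({t, z} : Set P), ∀ y ∈ ({t, z} : Set P), x * y = y * x := by
      intro x hx y hy
      have hzx : ∀ w : P, w * z = z * w := fun w => (Subgroup.mem_center_iff.mp hzc w)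
      rcases hx with rfl | rfl <;> rcases hy with rfl | rfl
      · rfl
      · exact hzx _
      · exact (hzx _).symm
      · rfl
    have hAc : IsMulCommutative A := Subgroup.isMulCommutative_closure hcomm
    have hexp : ∀ a ∈ A, a ^ 2 = 1 := by
      intro a ha
      induction ha using Subgroup.closure_induction with
      | mem x hx =>
        rcases hx with rfl | rfl
        · exact ht
        · exact hzsq
      | one => simp
      | mul x y hx hy ihx ihy =>
        have hc : x * y = y * x := congrArg Subtype.val (hAc.is_comm.comm ⟨x, hx⟩ ⟨y, hy⟩)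
        have hc' : Commute x y := hc
        rw [hc'.mul_pow, ihx, ihy, one_mul]
      | inv x hx ih => rw [inv_pow, ih, inv_one]
    have hcardA : Nat.card A ≤ 2 := by
      have := hr A hAc hexp
      simpa using this
    have htA : t ∈ A := Subgroup.subset_closure (by simp)
    have hzA : z ∈ A := Subgroup.subset_closure (by simp)
    have hot : orderOf t = 2 := orderOf_eq_prime ht ht1
    have hle : Subgroup.zpowers t ≤ A := Subgroup.zpowers_le.mpr htA
    have heq : Subgroup.zpowers t = A :=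
      Subgroup.eq_of_le_of_card_ge hle (by rw [Nat.card_zpowers, hot]; exact hcardA)
    rw [← heq] at hzA
    obtain ⟨k, hk⟩ := Subgroup.mem_zpowers_iff.mp hzA
    rcases Int.even_or_odd' k with ⟨j, rfl | rfl⟩
    · apply hz1
      rw [← hk, zpow_mul, zpow_two, ← pow_two, ht, one_zpow]
    · apply hne
      rw [← hk, zpow_add, zpow_mul, zpow_two, ← pow_two, ht, one_zpow, one_mul, zpow_one]
  rw [key u hu hu1, key v hv hv1]

/-- in a finite 2-group all Sylow 2-subgroups coincide -/
theorem sylow_eq_of_isPGroup {X : Type*} [Group X] (hX : IsPGroup 2 X) (S T : Sylow 2 X) :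
    S = T := by
  have htop : IsPGroup 2 (⊤ : Subgroup X) := hX.to_subgroup ⊤
  have hS : (S : Subgroup X) = ⊤ := (S.3 htop le_top).symm
  have hT : (T : Subgroup X) = ⊤ := (T.3 htop le_top).symm
  exact Sylow.ext (hS.trans hT.symm)


/-- a group acting on a normal self-centralizing 2-subgroup with `Aut` a 2-group is a 2-group -/
theorem isPGroup_of_mulAut {X : Type*} [Group X] (Q : Subgroup X) [hQn : Q.Normal]
    (hQp : IsPGroup 2 Q) (hCQ : Subgroup.centralizer (Q : Set X) ≤ Q)
    (hA : IsPGroup 2 (MulAut ↥Q)) : IsPGroup 2 X := by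
  intro g
  obtain ⟨k, hk⟩ := hA (MulAut.conjNormal g)
  rw [← map_pow] at hk
  have h1 : g ^ 2 ^ k ∈ (MulAut.conjNormal (H := Q)).ker := hk
  rw [Helper55_Fitting.conjNormal_ker Q] at h1
  obtain ⟨j, hj⟩ := hQp ⟨g ^ 2 ^ k, hCQ h1⟩
  have hj' : (g ^ 2 ^ k) ^ 2 ^ j = 1 := by simpa using congrArg Subtype.val hj
  exact ⟨k + j, by rw [pow_add, pow_mul, hj']⟩

/-- a normal subgroup of order 2 is central -/
theorem le_center_of_card_two {X : Type*} [Group X] (K : Subgroup X) [hKn : K.Normal]
    (hK : Nat.card K = 2) : K ≤ Subgroup.center X := by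
  intro n hn
  rw [Subgroup.mem_center_iff]
  intro g
  by_cases hn1 : n = 1
  · rw [hn1]; simp
  · obtain ⟨y, -, hy⟩ := (Nat.card_eq_two_iff' (1 : K)).mp hK
    have hc : g * n * g⁻¹ ∈ K := hKn.conj_mem n hn g
    have hc1 : g * n * g⁻¹ ≠ 1 := by
      intro h
      apply hn1
      have : n = g⁻¹ * (g * n * g⁻¹) * g := by group
      rw [this, h]; group
    have e1 : (⟨n, hn⟩ : K) = y := hy _ (fun h => hn1 (congrArg Subtype.val h))
    have e2 : (⟨g * n * g⁻¹, hc⟩ : K) = y := hy _ (fun h => hc1 (congrArg Subtype.val h))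
    have e3 : g * n * g⁻¹ = n := congrArg Subtype.val (e2.trans e1.symm)
    calc g * n = (g * n * g⁻¹) * g := by group
      _ = n * g := by rw [e3]

/-- the centralizer of a self-centralizing normal `Q₈` has order at most 2 -/
theorem card_centralizer_le {X : Type*} [Group X] [Finite X] (Q : Subgroup X)
    (θ : ↥Q ≃* QuaternionGroup 2) (hC : Subgroup.centralizer (Q : Set X) ≤ Q) :
    Nat.card (Subgroup.centralizer (Q : Set X)) ≤ 2 := by
  classical
  let κ : Subgroup.centralizer (Q : Set X) → {z // z ∈ Cfsg.Agent.S2879.Zset} := fun t =>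
    ⟨θ ⟨t.1, hC t.2⟩, by
      have hcomm : ∀ q : ↥Q, (⟨t.1, hC t.2⟩ : ↥Q) * q = q * ⟨t.1, hC t.2⟩ := by
        intro q
        apply Subtype.ext
        exact ((Subgroup.mem_centralizer_iff.mp t.2) q.1 q.2).symm
      simp only [Cfsg.Agent.S2879.Zset, Finset.mem_filter, Finset.mem_univ, true_and]
      constructor
      · have := congrArg θ (hcomm (θ.symm (a 1)))
        simpa using this
      · have := congrArg θ (hcomm (θ.symm (xa 0)))
        simpa using this⟩
  have hκ : Function.Injective κ := by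
    intro s t h
    have h' := congrArg Subtype.val h
    simp only [κ] at h'
    have h'' : (⟨s.1, hC s.2⟩ : ↥Q) = ⟨t.1, hC t.2⟩ := θ.injective h'
    exact Subtype.ext (Subtype.mk.inj h'')
  have h4 : Nat.card {z // z ∈ Cfsg.Agent.S2879.Zset} = 2 := by
    rw [Nat.card_eq_fintype_card, Fintype.card_coe, Cfsg.Agent.S2879.card_Zset]
  have := Nat.card_le_card_of_injective κ hκ
  rwa [h4] at this

/-- `Aut(Q₈) ≅ S₄` -/
theorem mulAut_Q8_equiv_perm : Nonempty (MulAut (QuaternionGroup 2) ≃* Equiv.Perm (Fin 4)) := by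
  obtain ⟨Φ, hΦ⟩ := Helper35_AutQ8.exists_S4_hom Helper35_AutQ8.s1 Helper35_AutQ8.s2
    Helper35_AutQ8.s3 Helper35_AutQ8.s1_mul_self Helper35_AutQ8.s2_mul_self
    Helper35_AutQ8.s3_mul_self Helper35_AutQ8.c12 Helper35_AutQ8.c23 Helper35_AutQ8.c13
    Helper35_AutQ8.s1_mul_s3_ne
  have hcard : Nat.card (MulAut (QuaternionGroup 2)) ≤ Nat.card (Equiv.Perm (Fin 4)) := by
    have h1 : Nat.card (Equiv.Perm (Fin 4)) = 24 := by
      rw [Nat.card_eq_fintype_card, Fintype.card_perm, Fintype.card_fin]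
      rfl
    rw [h1]
    exact Cfsg.Agent.S2879.card_mulAut_le
  have hbij : Function.Bijective Φ := hΦ.bijective_of_nat_card_le hcard
  exact ⟨(MulEquiv.ofBijective Φ hbij).symm⟩

theorem aux_48 (a b : ℕ) (h : a * b = 48) (ha : a ≤ 2) (hb : b ≤ 24) : a = 2 ∧ b = 24 := by
  interval_cases a <;> omega

theorem main {X : Type*} [Group X] [Finite X] (hsol : Group.IsSolvable X)
    (hO : Cfsg.pPrimeCore 2 X = ⊥)
    (hI : ∀ S T : Sylow 2 X, S ≠ T → Cfsg.PRankLE 2 1 ↥((S : Subgroup X) ⊓ (T : Subgroup X))) :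
    (∃ P : Sylow 2 X, (P : Subgroup X).Normal) ∨
    Nonempty (X ≃* GL (Fin 2) (ZMod 3)) ∨
    (Nat.card X = 48 ∧ Nat.card ↥(Subgroup.center X) = 2 ∧
      Nonempty (X ⧸ Subgroup.center X ≃* Equiv.Perm (Fin 4)) ∧
      ∀ P : Sylow 2 X, Nonempty (↥(P : Subgroup X) ≃* QuaternionGroup 4)) := by
  classical
  have : Fact (Nat.Prime 2) := ⟨Nat.prime_two⟩
  by_cases hsub : ∀ S T : Sylow 2 X, S = T
  · left
    have : Subsingleton (Sylow 2 X) := ⟨hsub⟩
    let P : Sylow 2 X := default
    exact ⟨P, Sylow.normal_of_subsingleton P⟩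
  right
  push Not at hsub
  obtain ⟨S, T, hST⟩ := hsub
  have hX2 : ¬ IsPGroup 2 X := fun h => hST (sylow_eq_of_isPGroup h S T)
  set Q : Subgroup X := Cfsg.pCore 2 X with hQ
  have hQn : Q.Normal := Helper1_Cores.pCore_normal 2
  have hQp : IsPGroup 2 Q := Helper1_Cores.pCore_isPGroup 2
  have hCQ : Subgroup.centralizer (Q : Set X) ≤ Q := Helper55_Fitting.centralizer_pCore_le 2 hO
  have hQST : Q ≤ (S : Subgroup X) ⊓ (T : Subgroup X) :=
    le_inf (Helper1_Cores.pCore_le_sylow 2 S) (Helper1_Cores.pCore_le_sylow 2 T)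
  have hQr : Cfsg.PRankLE 2 1 ↥Q :=
    pRankLE_of_injective 2 1 (Subgroup.inclusion hQST) (Subgroup.inclusion_injective hQST)
      (hI S T hST)
  have hQu : UniqueInvolution ↥Q := uniqueInvolution_of_pRankLE hQp hQr
  have hθ : Nonempty (↥Q ≃* QuaternionGroup 2) := by
    rcases Helper50_UniqueInv2.isCyclic_or_quaternion hQp hQu with hc | ⟨k, hk1, ⟨e⟩⟩
    · exfalso
      exact hX2 (Helper55_Fitting.isPGroup_two_of_cyclic_normal Q hQp hCQ)
    · by_cases hk : k = 1
      · subst hk
        exact ⟨e⟩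
      · exfalso
        have hAut : IsPGroup 2 (MulAut ↥Q) :=
          Cfsg.Agent.S5112.isPGroup_mulAut_quaternion (k + 2) (by omega) e
        exact hX2 (isPGroup_of_mulAut Q hQp hCQ hAut)
  obtain ⟨θ⟩ := hθ
  have hcardQ : Nat.card ↥Q = 8 := by
    rw [Nat.card_congr θ.toEquiv, Nat.card_eq_fintype_card, QuaternionGroup.card]
  -- an element of odd prime order
  have hSne : (S : Subgroup X) ≠ ⊤ := by
    intro h
    apply hST
    have hle : (T : Subgroup X) ≤ S := by rw [h]; exact le_top
    exact Sylow.ext (T.3 S.2 hle)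
  have hidx1 : (S : Subgroup X).index ≠ 1 := fun h => hSne (Subgroup.index_eq_one.mp h)
  obtain ⟨p, hp, hpdvd⟩ := Nat.exists_prime_and_dvd hidx1
  have hp2 : p ≠ 2 := by
    rintro rfl
    exact S.not_dvd_index hpdvd
  have : Fact p.Prime := ⟨hp⟩
  obtain ⟨x, hx⟩ := exists_prime_orderOf_dvd_card' p
    (hpdvd.trans (Subgroup.index_dvd_card (S : Subgroup X)))
  have hcop : (orderOf x).Coprime 2 := by
    rw [hx]; exact (Nat.coprime_primes hp Nat.prime_two).mpr hp2
  have hxC : x ∉ Subgroup.centralizer (Q : Set X) := by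
    intro h
    obtain ⟨k, hk⟩ := hQp ⟨x, hCQ h⟩
    have hk' : x ^ 2 ^ k = 1 := by simpa using congrArg Subtype.val hk
    have h1 : p ∣ 2 ^ k := by rw [← hx]; exact orderOf_dvd_of_pow_eq_one hk'
    exact hp2 ((Nat.prime_dvd_prime_iff_eq hp Nat.prime_two).mp (hp.dvd_of_dvd_pow h1))
  have hxN : x ∈ Subgroup.normalizer (Q : Set X) := by
    rw [Subgroup.normalizer_eq_top]; exact Subgroup.mem_top x
  obtain ⟨H, ψ, hψ, hHle, hψθ⟩ := Helper35_SL23b.exists_surj' Q θ x hxN hcop hxC
  have hH1 : Nat.card ↥H ∣ p * 8 := by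
    have h1 : Nat.card ↥H ∣ Nat.card ↥(Subgroup.zpowers x ⊔ Q : Subgroup X) :=
      Subgroup.card_dvd_of_le (by rw [sup_comm]; exact hHle)
    have h2 := Helper1_Cores.card_sup_dvd (Subgroup.zpowers x) Q
    rw [Nat.card_zpowers, hx, hcardQ] at h2
    exact h1.trans h2
  have hH2 : 24 ∣ Nat.card ↥H := by
    have h1 : Nat.card ψ.ker * Nat.card ψ.range = Nat.card ↥H := by
      rw [← Subgroup.index_ker, Subgroup.card_mul_index]
    have h2 : Nat.card ψ.range = 24 := by
      rw [MonoidHom.range_eq_top.mpr hψ, Subgroup.card_top, Cfsg.Agent.S2879.card_S3]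
    rw [← h1, h2]
    exact dvd_mul_left _ _
  have hp3 : p = 3 := by
    have h1 : 3 ∣ p * 8 := (by norm_num : 3 ∣ 24).trans (hH2.trans hH1)
    have h2 : 3 ∣ p := by
      rcases (Nat.Prime.dvd_mul Nat.prime_three).mp h1 with h | h
      · exact h
      · norm_num at h
    exact ((Nat.prime_dvd_prime_iff_eq Nat.prime_three hp).mp h2).symm
  subst hp3
  have hcardH : Nat.card ↥H = 24 := Nat.dvd_antisymm hH1 hH2
  have hbij : Function.Bijective ψ :=
    hψ.bijective_of_nat_card_le (by rw [hcardH, Cfsg.Agent.S2879.card_S3])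
  let ψe : ↥H ≃* S3 := MulEquiv.ofBijective ψ hbij
  have hQH : Q ≤ H := fun q hq => (hψθ ⟨q, hq⟩).1
  have hψθ' : ∀ q : ↥Q, ψe ⟨q.1, hQH q.2⟩ = qf (θ q) := fun q => (hψθ q).2
  have hG48 : Nat.card X ≤ 48 := Cfsg.Agent.S2879.card_le_48 Q θ hCQ
  have hidx : H.index = 1 ∨ H.index = 2 := by
    have h1 := H.card_mul_index
    rw [hcardH] at h1
    have h0 : H.index ≠ 0 := Subgroup.index_ne_zero_of_finite
    omega
  have hcardX : Nat.card X = 48 := by
    rcases hidx with h | h
    · exfalso
      have hX24 : Nat.card X = 24 := by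
        have h1 := H.card_mul_index
        rw [hcardH, h] at h1
        omega
      have hPQ : ∀ P : Sylow 2 X, (P : Subgroup X) = Q := by
        intro P
        obtain ⟨j, hj⟩ := IsPGroup.iff_card.mp P.2
        have hQP : Q ≤ (P : Subgroup X) := Helper1_Cores.pCore_le_sylow 2 P
        have h1 : 2 ^ j ∣ 24 := by
          rw [← hj, ← hX24]; exact Subgroup.card_subgroup_dvd_card _
        have hj3 : j ≤ 3 := by
          by_contra hcon
          have h4 : 2 ^ 4 ∣ 2 ^ j := pow_dvd_pow 2 (by omega)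
          have := h4.trans h1
          norm_num at this
        symm
        apply Subgroup.eq_of_le_of_card_ge hQP
        rw [hj, hcardQ]
        calc 2 ^ j ≤ 2 ^ 3 := Nat.pow_le_pow_right (by norm_num) hj3
          _ = 8 := by norm_num
      exact hST (Sylow.ext ((hPQ S).trans (hPQ T).symm))
    · have h1 := H.card_mul_index
      rw [hcardH, h] at h1
      omega
  have hHi : H.index = 2 := by
    have h1 := H.card_mul_index
    rw [hcardH, hcardX] at h1
    omega
  have hHn : H.Normal := Subgroup.normal_of_index_eq_two hHi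
  by_cases hs : ∃ s : X, s ∉ H ∧ s * s = 1
  · left
    obtain ⟨s, hsH, hs2⟩ := hs
    exact Helper35_GL23.exists_mulEquiv_GL23 H hHi ψe Q hQH θ hψθ' hCQ s hsH hs2 hcardX
  · right
    push Not at hs
    have hinvH : ∀ u : X, u ^ 2 = 1 → u ∈ H := by
      intro u hu
      by_contra huH
      exact hs u huH (by rw [← pow_two]; exact hu)
    have huniqX : UniqueInvolution X := by
      intro u v hu hv hu1 hv1
      have huH := hinvH u hu
      have hvH := hinvH v hv
      have hu' : ψe ⟨u, huH⟩ * ψe ⟨u, huH⟩ = 1 := by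
        rw [← map_mul]
        have : (⟨u, huH⟩ : ↥H) * ⟨u, huH⟩ = 1 := Subtype.ext (by
          rw [Subgroup.coe_mul, Subgroup.coe_one, ← pow_two]; exact hu)
        rw [this, map_one]
      have hv' : ψe ⟨v, hvH⟩ * ψe ⟨v, hvH⟩ = 1 := by
        rw [← map_mul]
        have : (⟨v, hvH⟩ : ↥H) * ⟨v, hvH⟩ = 1 := Subtype.ext (by
          rw [Subgroup.coe_mul, Subgroup.coe_one, ← pow_two]; exact hv)
        rw [this, map_one]
      have hu1' : ψe ⟨u, huH⟩ ≠ 1 := by
        intro h
        apply hu1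
        have := ψe.injective (h.trans (map_one ψe).symm)
        exact congrArg Subtype.val this
      have hv1' : ψe ⟨v, hvH⟩ ≠ 1 := by
        intro h
        apply hv1
        have := ψe.injective (h.trans (map_one ψe).symm)
        exact congrArg Subtype.val this
      have h1 := S3_unique_inv _ _ hu' hv' hu1' hv1'
      exact congrArg Subtype.val (ψe.injective h1)
    set φ : X →* MulAut ↥Q := MulAut.conjNormal with hφ
    have hker : φ.ker = Subgroup.centralizer (Q : Set X) := Helper55_Fitting.conjNormal_ker Q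
    have h1 : Nat.card φ.ker * Nat.card φ.range = 48 := by
      rw [← Subgroup.index_ker, Subgroup.card_mul_index, hcardX]
    have hAutQ : Nat.card (MulAut ↥Q) ≤ 24 := by
      calc Nat.card (MulAut ↥Q) = Nat.card (MulAut (QuaternionGroup 2)) :=
            Nat.card_congr (MulAut.congr θ).toEquiv
        _ ≤ 24 := Cfsg.Agent.S2879.card_mulAut_le
    have h2 : Nat.card φ.range ≤ 24 := (Subgroup.card_le_card_group _).trans hAutQ
    have h3 : Nat.card φ.ker ≤ 2 := by
      rw [hker]; exact card_centralizer_le Q θ hCQ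
    obtain ⟨hk2, hr24⟩ := aux_48 _ _ h1 h3 h2
    have hcenter : Subgroup.center X = φ.ker := by
      apply le_antisymm
      · rw [hker]; exact Subgroup.center_le_centralizer _
      · exact le_center_of_card_two φ.ker hk2
    have hrtop : φ.range = ⊤ := Subgroup.eq_top_of_le_card _ (by rw [hr24]; exact hAutQ)
    have hφsurj : Function.Surjective φ := MonoidHom.range_eq_top.mp hrtop
    refine ⟨hcardX, ?_, ?_, ?_⟩
    · rw [hcenter, hk2]
    · obtain ⟨ePerm⟩ := mulAut_Q8_equiv_perm
      exact ⟨(QuotientGroup.quotientMulEquivOfEq hcenter).trans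
        ((QuotientGroup.quotientKerEquivOfSurjective φ hφsurj).trans
          ((MulAut.congr θ).trans ePerm))⟩
    · intro P
      have hPp : IsPGroup 2 ↥(P : Subgroup X) := P.2
      have hPu : UniqueInvolution ↥(P : Subgroup X) := by
        intro u v hu hv hu1 hv1
        apply Subtype.ext
        apply huniqX (u : X) (v : X)
        · have := congrArg Subtype.val hu
          simpa using this
        · have := congrArg Subtype.val hv
          simpa using this
        · intro h; exact hu1 (Subtype.ext h)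
        · intro h; exact hv1 (Subtype.ext h)
      have hQP : Q ≤ (P : Subgroup X) := Helper1_Cores.pCore_le_sylow 2 P
      have hPnc : ¬ IsCyclic ↥(P : Subgroup X) := by
        intro hc
        obtain ⟨u, v, huv⟩ := Q8_noncomm
        obtain ⟨g, hg⟩ := hc.exists_generator
        set u' : ↥(P : Subgroup X) := ⟨(θ.symm u : X), hQP (θ.symm u).2⟩ with hu'
        set v' : ↥(P : Subgroup X) := ⟨(θ.symm v : X), hQP (θ.symm v).2⟩ with hv'
        obtain ⟨i, hi⟩ := Subgroup.mem_zpowers_iff.mp (hg u')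
        obtain ⟨j, hj⟩ := Subgroup.mem_zpowers_iff.mp (hg v')
        have hcomm : u' * v' = v' * u' := by
          rw [← hi, ← hj]; exact zpow_mul_comm g i j
        apply huv
        have h1 : ((θ.symm u : ↥Q) : X) * ((θ.symm v : ↥Q) : X) =
            ((θ.symm v : ↥Q) : X) * ((θ.symm u : ↥Q) : X) := congrArg Subtype.val hcomm
        have h2 : θ.symm u * θ.symm v = θ.symm v * θ.symm u := Subtype.ext h1
        have := congrArg θ h2
        simpa using this
      have hcardP : Nat.card ↥(P : Subgroup X) = 16 := by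
        obtain ⟨j, hj⟩ := IsPGroup.iff_card.mp hPp
        have h4 := (P : Subgroup X).card_mul_index
        rw [hj, hcardX] at h4
        have hnd : ¬ 2 ∣ (P : Subgroup X).index := P.not_dvd_index
        have hj5 : j ≤ 5 := by
          by_contra hcon
          have h6 : 2 ^ 6 ∣ 2 ^ j := pow_dvd_pow 2 (by omega)
          have h7 : 2 ^ j ∣ 48 := ⟨_, h4.symm⟩
          have := h6.trans h7
          norm_num at this
        rw [hj]
        generalize (P : Subgroup X).index = idx at h4 hnd
        interval_cases j <;> omega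
      rcases Helper50_UniqueInv2.isCyclic_or_quaternion hPp hPu with hc | ⟨k, hk1, ⟨e⟩⟩
      · exact absurd hc hPnc
      · have hk : k = 2 := by
          have h5 : 4 * 2 ^ k = 16 := by
            rw [← hcardP, Nat.card_congr e.toEquiv, Nat.card_eq_fintype_card, QuaternionGroup.card]
          have h6 : 2 ^ k = 2 ^ 2 := by omega
          exact Nat.pow_right_injective (le_refl 2) h6
        subst hk
        exact ⟨e⟩

/-- Let G be a finite solvable group in which the intersection of any two distinct Sylow 2-subgroups has 2-rank at most 1 (contains no Klein four-group). Write Q = G/O(G), O(G) the largest normal subgroup of odd order. Then Q has a normal Sylow 2-subgroup; or Q is isomorphic to GL(2,3); or Q has order 48, centre of order 2 with central quotient isomorphic to the symmetric group of degree 4, and generalized quaternion Sylow 2-subgroups of order 16 (the binary octahedral group). The last two are the two representation groups of the symmetric group of degree 4. -/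
theorem result {G : Type*} [Group G] [Finite G] (hs : Group.IsSolvable G)
    (hI : ∀ S T : Sylow 2 G, S ≠ T → Cfsg.PRankLE 2 1 ↥((S : Subgroup G) ⊓ (T : Subgroup G))) :
    (∃ P : Sylow 2 (G ⧸ Cfsg.oddCore G), (P : Subgroup (G ⧸ Cfsg.oddCore G)).Normal) ∨
    Nonempty ((G ⧸ Cfsg.oddCore G) ≃* GL (Fin 2) (ZMod 3)) ∨
    (Nat.card (G ⧸ Cfsg.oddCore G) = 48 ∧ Nat.card ↥(Subgroup.center (G ⧸ Cfsg.oddCore G)) = 2 ∧
      Nonempty ((G ⧸ Cfsg.oddCore G) ⧸ Subgroup.center (G ⧸ Cfsg.oddCore G) ≃* Equiv.Perm (Fin 4)) ∧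
      ∀ P : Sylow 2 (G ⧸ Cfsg.oddCore G), Nonempty (↥(P : Subgroup (G ⧸ Cfsg.oddCore G)) ≃* QuaternionGroup 4)) := by
  have hO : Cfsg.pPrimeCore 2 (G ⧸ Cfsg.oddCore G) = ⊥ :=
    Helper55_Fitting.pPrimeCore_quotient_pPrimeCore 2
  have hsolQ : Group.IsSolvable (G ⧸ Cfsg.oddCore G) := inferInstance
  exact main hsolQ hO (hyp_quotient hI)

end Cfsg.Agent.S3304
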