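import Cfsg.Statements.S0094
import Cfsg.Agent.Lib.Helper1_Frattini

set_option autoImplicit false
open Cfsg

namespace Cfsg.Agent.S0094

open scoped commutatorElement

theorem commutator_mul_left {P : Type*} [Group P] (a b c : P) :
    ⁅a * b, c⁆ = a * ⁅b, c⁆ * a⁻¹ * ⁅a, c⁆ := by
  simp only [commutatorElement_def]
  group

theorem commutator_pow_left {P : Type*} [Group P] (x y : P) (h : ⁅x, y⁆ ∈ Subgroup.center P)
    (n : ℕ) : ⁅x ^ n, y⁆ = ⁅x, y⁆ ^ n := by
  induction n with
  | zero => simp
  | succ n ih =>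
    rw [pow_succ, commutator_mul_left, ih, pow_succ]
    have hc := Subgroup.mem_center_iff.mp h (x ^ n)
    -- x^n * c * x^-n = c
    have : x ^ n * ⁅x, y⁆ * (x ^ n)⁻¹ = ⁅x, y⁆ := by
      rw [hc, mul_inv_cancel_right]
    rw [this]
    exact ((Commute.refl ⁅x, y⁆).pow_right n).eq

/-- In a special p-group every central element has order dividing p. -/
theorem result {P : Type*} [Group P] [Finite P] {p : ℕ} [Fact p.Prime] (h : Cfsg.IsSpecial p P) (z : P) (hz : z ∈ Subgroup.center P) : z ^ p = 1 := by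
  obtain ⟨hP, hfr, hcomm⟩ := h
  -- the subgroup of central elements of order dividing `p`
  let S : Subgroup P :=
    { carrier := {z | z ∈ Subgroup.center P ∧ z ^ p = 1}
      one_mem' := ⟨Subgroup.one_mem _, one_pow p⟩
      mul_mem' := by
        rintro a b ⟨ha, hap⟩ ⟨hb, hbp⟩
        refine ⟨Subgroup.mul_mem _ ha hb, ?_⟩
        have hab : Commute a b := (Subgroup.mem_center_iff.mp ha b).symm
        rw [hab.mul_pow, hap, hbp, one_mul]
      inv_mem' := by
        rintro a ⟨ha, hap⟩
        exact ⟨Subgroup.inv_mem _ ha, by rw [inv_pow, hap, inv_one]⟩ }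
  have hle : commutator P ≤ S := by
    rw [commutator_eq_closure, Subgroup.closure_le]
    rintro g ⟨x, y, rfl⟩
    have hc : ⁅x, y⁆ ∈ Subgroup.center P := by
      rw [← hcomm]
      exact Subgroup.commutator_mem_commutator (Subgroup.mem_top x) (Subgroup.mem_top y)
    refine ⟨hc, ?_⟩
    rw [← commutator_pow_left x y hc p]
    have hxp : x ^ p ∈ Subgroup.center P := by
      rw [← hfr]
      exact Cfsg.Agent.Lib.Helper1_Frattini.pow_mem_frattini_of_isPGroup hP x
    rw [commutatorElement_eq_one_iff_mul_comm]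
    exact (Subgroup.mem_center_iff.mp hxp y).symm
  have : z ∈ S := hle (hcomm ▸ hz)
  exact this.2

end Cfsg.Agent.S0094
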