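import Mathlib
import Cfsg.Statements.S0673

set_option autoImplicit false
open Cfsg

namespace Cfsg.Agent.S0673

open Polynomial

/-- If `ker N` has dimension at most one then `ker N^k` has dimension at most `k`. -/
theorem finrank_ker_pow_le {K V : Type*} [Field K] [AddCommGroup V] [Module K V]
    [FiniteDimensional K V] (N : Module.End K V)
    (h1 : Module.finrank K (LinearMap.ker N) ≤ 1) (k : ℕ) :
    Module.finrank K (LinearMap.ker (N ^ k)) ≤ k := by
  induction k with
  | zero =>
    have : LinearMap.ker (N ^ 0) = ⊥ := by
      rw [pow_zero]; exact LinearMap.ker_id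
    rw [this, finrank_bot]
  | succ k ih =>
    set S := LinearMap.ker (N ^ (k + 1)) with hS
    let g : S →ₗ[K] V := N.comp S.subtype
    have hr : LinearMap.range g ≤ LinearMap.ker (N ^ k) := by
      rintro _ ⟨x, rfl⟩
      show (N ^ k) (N (x : V)) = 0
      have h0 : (N ^ (k + 1)) (x : V) = 0 := LinearMap.mem_ker.mp x.2
      rw [pow_succ] at h0
      exact h0
    have hk : Module.finrank K (LinearMap.ker g) ≤ Module.finrank K (LinearMap.ker N) := by
      let ψ : LinearMap.ker g →ₗ[K] LinearMap.ker N :=
        { toFun := fun x => ⟨((x : S) : V), by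
            have := x.2
            rw [LinearMap.mem_ker] at this
            exact this⟩
          map_add' := fun x y => rfl
          map_smul' := fun c x => rfl }
      apply LinearMap.finrank_le_finrank_of_injective (f := ψ)
      intro x y hxy
      apply Subtype.ext
      apply Subtype.ext
      have : ((ψ x : LinearMap.ker N) : V) = ((ψ y : LinearMap.ker N) : V) := by rw [hxy]
      exact this
    have h2 := LinearMap.finrank_range_add_finrank_ker g
    have h3 := Submodule.finrank_mono hr
    omega

/-- The shift operator `f ↦ (j ↦ f (j - 1))`. -/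
def shift (p : ℕ) (K : Type*) [Field K] : Module.End K (ZMod p → K) where
  toFun f := fun j => f (j - 1)
  map_add' _ _ := rfl
  map_smul' _ _ := rfl

/-- Evaluation of polynomials at the points of `ZMod p` (cast into `K`). -/
noncomputable def evalMap (p : ℕ) (K : Type*) [Field K] : K[X] →ₗ[K] (ZMod p → K) where
  toFun P := fun j => P.eval (ZMod.cast j : K)
  map_add' P Q := by ext j; simp
  map_smul' c P := by ext j; simp

/-- The polynomial functions of degree `< r`. -/
noncomputable def polyFun (p : ℕ) (K : Type*) [Field K] (r : ℕ) : Submodule K (ZMod p → K) :=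
  (Polynomial.degreeLT K r).map (evalMap p K)

theorem mem_polyFun {p : ℕ} {K : Type*} [Field K] {r : ℕ} {f : ZMod p → K} :
    f ∈ polyFun p K r ↔ ∃ P : K[X], P.degree < r ∧ ∀ j : ZMod p, f j = P.eval (ZMod.cast j : K) := by
  constructor
  · rintro ⟨P, hP, rfl⟩
    exact ⟨P, Polynomial.mem_degreeLT.mp hP, fun j => rfl⟩
  · rintro ⟨P, hP, hf⟩
    exact ⟨P, Polynomial.mem_degreeLT.mpr hP, funext fun j => (hf j).symm⟩

section
variable {p : ℕ} [hp : Fact p.Prime] {K : Type*} [Field K] [CharP K p]

theorem cast_injective : Function.Injective (ZMod.cast : ZMod p → K) :=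
  (ZMod.castHom (dvd_refl p) K).injective

theorem finrank_polyFun (r : ℕ) (hr : r ≤ p) : Module.finrank K (polyFun p K r) = r := by
  have hinj : Function.Injective ((evalMap p K).domRestrict (Polynomial.degreeLT K r)) := by
    rw [← LinearMap.ker_eq_bot, LinearMap.ker_eq_bot']
    rintro ⟨P, hP⟩ h0
    apply Subtype.ext
    show P = 0
    by_contra hP0
    have hdeg : P.natDegree < r :=
      (Polynomial.natDegree_lt_iff_degree_lt hP0).mpr (Polynomial.mem_degreeLT.mp hP)
    apply hP0
    apply Polynomial.eq_zero_of_natDegree_lt_card_of_eval_eq_zero P (cast_injective (p := p) (K := K))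
    · intro j
      have := congrFun h0 j
      exact this
    · rw [ZMod.card]; omega
  have h1 := LinearMap.finrank_range_of_inj hinj
  rw [LinearMap.range_domRestrict] at h1
  have h2 : Module.finrank K (Polynomial.degreeLT K r) = r := by
    rw [LinearEquiv.finrank_eq (Polynomial.degreeLTEquiv K r), Module.finrank_fin_fun]
  rw [h2] at h1
  exact h1

/-- `N = shift - 1` maps polynomial functions of degree `< r + 1` to those of degree `< r`. -/
theorem shift_sub_one_polyFun (r : ℕ) (f : ZMod p → K) (hf : f ∈ polyFun p K (r + 1)) :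
    (shift p K - 1) f ∈ polyFun p K r := by
  rw [mem_polyFun] at hf ⊢
  obtain ⟨P, hP, hfP⟩ := hf
  refine ⟨Polynomial.taylor (-1) P - P, ?_, ?_⟩
  · by_cases hP0 : P = 0
    · subst hP0
      simp only [map_zero, sub_zero, Polynomial.degree_zero]
      exact WithBot.bot_lt_coe r
    · have h1 : (Polynomial.taylor (-1) P - P).degree < (Polynomial.taylor (-1) P).degree := by
        apply Polynomial.degree_sub_lt_left (Polynomial.degree_taylor P (-1))
        · intro h
          apply hP0
          have := Polynomial.degree_taylor P (-1)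
          rw [h, Polynomial.degree_zero] at this
          exact Polynomial.degree_eq_bot.mp this.symm
        · exact Polynomial.leadingCoeff_taylor (-1) P
      rw [Polynomial.degree_taylor] at h1
      have h2 : P.natDegree < r + 1 := (Polynomial.natDegree_lt_iff_degree_lt hP0).mpr hP
      rw [Polynomial.degree_eq_natDegree hP0] at h1
      have h3 : (P.natDegree : WithBot ℕ) ≤ r := by exact_mod_cast Nat.lt_succ_iff.mp h2
      exact lt_of_lt_of_le h1 h3
  · intro j
    show f (j - 1) - f j = _
    rw [hfP, hfP, Polynomial.eval_sub, Polynomial.taylor_eval]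
    have : (ZMod.cast (j - 1) : K) = ZMod.cast j + -1 := by
      rw [ZMod.cast_sub (dvd_refl p), ZMod.cast_one (dvd_refl p)]; ring
    rw [this]

theorem polyFun_le_ker (r : ℕ) : polyFun p K r ≤ LinearMap.ker ((shift p K - 1) ^ r) := by
  induction r with
  | zero =>
    intro f hf
    rw [mem_polyFun] at hf
    obtain ⟨P, hP, hfP⟩ := hf
    have : P = 0 := by
      rw [← Polynomial.degree_eq_bot]
      by_contra h
      have hP0 : P ≠ 0 := fun h0 => h (by rw [h0, Polynomial.degree_zero])
      have := (Polynomial.natDegree_lt_iff_degree_lt hP0).mpr hP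
      omega
    rw [LinearMap.mem_ker, pow_zero]
    funext j
    rw [Module.End.one_apply, hfP, this]; simp
  | succ r ih =>
    intro f hf
    rw [LinearMap.mem_ker, pow_succ, Module.End.mul_apply]
    exact LinearMap.mem_ker.mp (ih (shift_sub_one_polyFun r f hf))

theorem finrank_ker_shift_sub_one_le :
    Module.finrank K (LinearMap.ker (shift p K - 1)) ≤ 1 := by
  have hle : LinearMap.ker (shift p K - 1) ≤ K ∙ (fun _ : ZMod p => (1 : K)) := by
    intro f hf
    rw [LinearMap.mem_ker] at hf
    have hshift : ∀ j : ZMod p, f (j - 1) = f j := by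
      intro j
      have := congrFun hf j
      have h2 : f (j - 1) - f j = 0 := this
      exact sub_eq_zero.mp h2
    have hnat : ∀ n : ℕ, f (n : ZMod p) = f 0 := by
      intro n
      induction n with
      | zero => simp
      | succ n ih =>
        have := hshift ((n + 1 : ℕ) : ZMod p)
        rw [← this, ← ih]
        congr 1
        push_cast
        ring
    have hconst : ∀ j : ZMod p, f j = f 0 := by
      intro j
      have : NeZero p := ⟨hp.out.ne_zero⟩
      rw [← ZMod.natCast_zmod_val j]
      exact hnat j.val
    rw [Submodule.mem_span_singleton]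
    refine ⟨f 0, ?_⟩
    funext j
    simp [hconst j]
  have h1 : Module.finrank K (K ∙ (fun _ : ZMod p => (1 : K))) ≤ 1 := by
    have := finrank_span_le_card (R := K) ({fun _ : ZMod p => (1 : K)} : Set (ZMod p → K))
    simpa using this
  exact (Submodule.finrank_mono hle).trans h1

end

/-- In characteristic `p`, the translation-invariant subspaces of the space of functions on `ZMod p` are exactly the spaces of polynomial functions of degree less than `r`, one for each `r ≤ p`, of dimension `r`. -/
theorem result {p : ℕ} [Fact p.Prime] {K : Type*} [Field K] [CharP K p] (W : Submodule K (ZMod p → K)) (hW : ∀ f ∈ W, (fun j => f (j - 1)) ∈ W) : ∃ r : ℕ, r ≤ p ∧ Module.finrank K W = r ∧ ∀ f : ZMod p → K, f ∈ W ↔ ∃ P : Polynomial K, P.degree < r ∧ ∀ j : ZMod p, f j = P.eval (ZMod.cast j : K) := by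
  have hpne : NeZero p := ⟨(Fact.out : p.Prime).ne_zero⟩
  set N : Module.End K (ZMod p → K) := shift p K - 1 with hN
  have hfinV : Module.finrank K (ZMod p → K) = p := by
    rw [Module.finrank_fintype_fun_eq_card, ZMod.card]
  -- W is N-invariant
  have hWN : ∀ f ∈ W, N f ∈ W := by
    intro f hf
    have : N f = (fun j => f (j - 1)) - f := rfl
    rw [this]
    exact W.sub_mem (hW f hf) hf
  -- N^p = 0
  have hNp : LinearMap.ker (N ^ p) = ⊤ := by
    have h1 : polyFun p K p = ⊤ := by
      apply Submodule.eq_top_of_finrank_eq
      rw [finrank_polyFun p le_rfl, hfinV]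
    rw [eq_top_iff, ← h1]
    exact polyFun_le_ker p
  set r := Module.finrank K W with hr
  have hrp : r ≤ p := by
    rw [← hfinV]; exact Submodule.finrank_le W
  -- W ≤ ker N^r
  have hWker : W ≤ LinearMap.ker (N ^ r) := by
    intro f hf
    have h1 : LinearMap.ker ((N.restrict hWN) ^ p) = ⊤ := by
      rw [eq_top_iff]
      intro x _
      rw [LinearMap.mem_ker, Module.End.pow_restrict p hWN]
      apply Subtype.ext
      rw [LinearMap.restrict_apply]
      show (N ^ p) (x : ZMod p → K) = 0
      have : (x : ZMod p → K) ∈ LinearMap.ker (N ^ p) := by rw [hNp]; trivial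
      exact LinearMap.mem_ker.mp this
    have h2 := Module.End.ker_pow_le_ker_pow_finrank (N.restrict hWN) p
    rw [h1] at h2
    have h3 : (⟨f, hf⟩ : W) ∈ LinearMap.ker ((N.restrict hWN) ^ Module.finrank K W) := h2 trivial
    rw [LinearMap.mem_ker, Module.End.pow_restrict _ hWN] at h3
    have h4 := congrArg Subtype.val h3
    rw [LinearMap.restrict_apply] at h4
    exact LinearMap.mem_ker.mpr h4
  have hkerle : Module.finrank K (LinearMap.ker (N ^ r)) ≤ r :=
    finrank_ker_pow_le N finrank_ker_shift_sub_one_le r
  have hWeq : W = LinearMap.ker (N ^ r) :=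
    Submodule.eq_of_le_of_finrank_le hWker hkerle
  have hPeq : polyFun p K r = LinearMap.ker (N ^ r) := by
    apply Submodule.eq_of_le_of_finrank_le (polyFun_le_ker r)
    rw [finrank_polyFun r hrp]
    exact hkerle
  refine ⟨r, hrp, rfl, ?_⟩
  intro f
  rw [← mem_polyFun, hPeq, ← hWeq]

end Cfsg.Agent.S0673
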