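import Cfsg.Statements.S0677
import Cfsg.Agent.Lib.Helper12_PrimeDeg
import Cfsg.Agent.Lib.Helper12_PrimeDeg2
import Cfsg.Agent.Lib.Helper12_PrimeDeg3
import Mathlib

set_option autoImplicit false
open Cfsg

namespace Cfsg.Agent.S0677

open Cfsg.Agent.Lib.Helper12_PrimeDeg

theorem not_sq_dvd_factorial {p : ℕ} (hp : p.Prime) : ¬ p * p ∣ p.factorial := by
  intro h3
  obtain ⟨q, hq⟩ : ∃ q, p = q + 1 := ⟨p - 1, by have := hp.pos; omega⟩
  have hqp : (q + 1).Prime := hq ▸ hp
  rw [hq, Nat.factorial_succ] at h3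
  have h4 : (q + 1) ∣ q.factorial := Nat.dvd_of_mul_dvd_mul_left (by omega) h3
  have h5 := hqp.dvd_factorial.mp h4
  omega

/-- In a transitive permutation group of prime degree `p` whose Sylow `p`-normaliser has even order, the point stabilisers are the only subgroups of index `p`. -/
theorem result {α : Type*} [Fintype α] [DecidableEq α] {p : ℕ} [Fact p.Prime] (hα : Fintype.card α = p) (G : Subgroup (Equiv.Perm α)) [MulAction.IsPretransitive G α] (P : Sylow p G) (heven : Even (Nat.card (Subgroup.normalizer ((P : Subgroup G) : Set G)))) (H : Subgroup G) (hH : H.index = p) : ∃ a : α, H = MulAction.stabilizer G a := by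
  classical
  have hpp := (Fact.out : p.Prime)
  have hne : Nonempty α := by
    rw [← Fintype.card_pos_iff, hα]; exact hpp.pos
  obtain ⟨a₀⟩ := hne
  have hstabidx : ∀ a : α, (MulAction.stabilizer G a).index = p := by
    intro a
    have h1 : (MulAction.stabilizer G a).index = Nat.card α :=
      MulAction.index_stabilizer_of_transitive G a
    rwa [Nat.card_eq_fintype_card, hα] at h1
  have hdvd : p ∣ Nat.card G := by
    rw [← hstabidx a₀]
    exact Subgroup.index_dvd_card _
  have hGdvd : Nat.card G ∣ p.factorial := by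
    have := Subgroup.card_subgroup_dvd_card G
    rwa [Nat.card_eq_fintype_card (α := Equiv.Perm α), Fintype.card_perm, hα] at this
  -- the Sylow subgroup has order `p`
  have hPcard : Nat.card (P : Subgroup G) = p := by
    obtain ⟨k, hk⟩ := IsPGroup.iff_card.mp P.isPGroup'
    have hk1 : k ≠ 0 := by
      rintro rfl
      rw [pow_zero] at hk
      exact P.ne_bot_of_dvd_card hdvd ((P : Subgroup G).eq_bot_of_card_eq hk)
    have hk2 : k < 2 := by
      by_contra hk2
      have hk2 : 2 ≤ k := by omega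
      apply not_sq_dvd_factorial hpp
      refine Dvd.dvd.trans ?_ hGdvd
      refine Dvd.dvd.trans ?_ (Subgroup.card_subgroup_dvd_card (P : Subgroup G))
      rw [hk, ← pow_two]
      exact pow_dvd_pow p hk2
    have : k = 1 := by omega
    rw [hk, this, pow_one]
  -- an involution in the normaliser
  obtain ⟨t, ht⟩ := exists_prime_orderOf_dvd_card' 2 (even_iff_two_dvd.mp heven)
  -- a generator of `P`
  obtain ⟨c, hc⟩ := exists_prime_orderOf_dvd_card' (G := (P : Subgroup G)) p
    (by rw [hPcard])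
  have hc1 : c ≠ 1 := by
    rintro rfl
    rw [orderOf_one] at hc
    exact hpp.one_lt.ne hc
  have hc' : orderOf (((c : G) : Equiv.Perm α)) = p := by
    rw [Subgroup.orderOf_coe, Subgroup.orderOf_coe]; exact hc
  obtain ⟨e, he⟩ := exists_labelling_of_orderOf hα (((c : G) : Equiv.Perm α)) hc'
  set Φ : Equiv.Perm α →* Equiv.Perm (ZMod p) := (e.permCongrHom : Equiv.Perm α →* Equiv.Perm (ZMod p))
    with hΦ
  have hΦinj : Function.Injective Φ := e.permCongrHom.injective
  have hΦapp : ∀ (σ : Equiv.Perm α) (x : ZMod p), Φ σ x = e (σ (e.symm x)) := fun σ x => rfl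
  -- the involution normalises `⟨c⟩`
  have htc : ((t : G) * (c : G) * (t : G)⁻¹) ∈ (P : Subgroup G) := by
    have := (Subgroup.mem_normalizer_iff.mp t.2 (c : G)).mp c.2
    exact this
  obtain ⟨k, hk⟩ : ∃ k : ℤ, c ^ k = ⟨(t : G) * (c : G) * (t : G)⁻¹, htc⟩ :=
    Subgroup.mem_zpowers_iff.mp (mem_zpowers_of_prime_card hPcard hc1)
  have hk' : (((c : G) : Equiv.Perm α)) ^ k =
      (((t : G) : G) : Equiv.Perm α) * ((c : G) : Equiv.Perm α) * (((t : G) : G) : Equiv.Perm α)⁻¹ := by
    have := congrArg (fun x : (P : Subgroup G) => ((x : G) : Equiv.Perm α)) hk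
    simpa using this
  set G' : Subgroup (Equiv.Perm (ZMod p)) := G.map Φ with hG'
  set H' : Subgroup (Equiv.Perm (ZMod p)) := (H.map G.subtype).map Φ with hH'
  have hHG : H' ≤ G' := by
    apply Subgroup.map_mono
    rintro _ ⟨h, _, rfl⟩
    exact h.2
  have hτ : Equiv.addRight (1 : ZMod p) ∈ G' := Subgroup.mem_map.mpr ⟨_, (c : G).2, he⟩
  have hcard : Nat.card G' = p * Nat.card H' := by
    rw [hG', hH', Subgroup.card_map_of_injective hΦinj, Subgroup.card_map_of_injective hΦinj,
      Subgroup.card_map_of_injective G.subtype_injective, ← hH, mul_comm]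
    exact (Subgroup.card_mul_index H).symm
  set t' : Equiv.Perm (ZMod p) := Φ (((t : G) : G) : Equiv.Perm α) with ht'
  have ht'G : t' ∈ G' := Subgroup.mem_map.mpr ⟨_, (t : G).2, rfl⟩
  have htt : t * t = 1 := by
    rw [← pow_two, ← ht]; exact pow_orderOf_eq_one t
  have ht1 : t ≠ 1 := by
    rintro rfl
    rw [orderOf_one] at ht
    omega
  have ht'2 : t' * t' = 1 := by
    rw [ht', ← map_mul]
    have : (((t : G) : G) : Equiv.Perm α) * (((t : G) : G) : Equiv.Perm α) = 1 := by
      have := congrArg (fun x : Subgroup.normalizer ((P : Subgroup G) : Set G) =>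
        ((x : G) : Equiv.Perm α)) htt
      simpa using this
    rw [this, map_one]
  have ht'1 : t' ≠ 1 := by
    intro h
    apply ht1
    rw [ht', ← map_one Φ] at h
    have h1 := hΦinj h
    apply Subtype.ext
    apply Subtype.ext
    exact h1
  have htn : t' * Equiv.addRight 1 * t'⁻¹ = Equiv.addRight (k • (1 : ZMod p)) := by
    rw [← Equiv.zsmul_addRight, ← he, ht', ← map_inv, ← map_mul, ← map_mul, ← map_zpow, hk']
  obtain ⟨x₀, hx₀⟩ := fixed_point_of_index_p G' H' hHG hτ hcard t' ht'G ht'2 ht'1 _ htn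
  refine ⟨e.symm x₀, ?_⟩
  have hle : H ≤ MulAction.stabilizer G (e.symm x₀) := by
    intro h hh
    rw [MulAction.mem_stabilizer_iff]
    have h1 : Φ ((h : G) : Equiv.Perm α) ∈ H' :=
      Subgroup.mem_map.mpr ⟨_, Subgroup.mem_map.mpr ⟨h, hh, rfl⟩, rfl⟩
    have h2 := hx₀ _ h1
    rw [hΦapp] at h2
    show ((h : G) : Equiv.Perm α) (e.symm x₀) = e.symm x₀
    apply e.injective
    rw [h2, Equiv.apply_symm_apply]
  apply le_antisymm hle
  rw [← Subgroup.relIndex_eq_one]
  have h1 := Subgroup.relIndex_mul_index hle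
  rw [hstabidx, hH] at h1
  have hp0 := hpp.pos
  exact Nat.eq_of_mul_eq_mul_right hp0 (by rw [h1, one_mul])

end Cfsg.Agent.S0677
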