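import Cfsg.Statements.S0084
import Cfsg.Agent.Lib.Helper2_Transfer
import Cfsg.Agent.Lib.Helper2_NC

set_option autoImplicit false
open Cfsg

namespace Cfsg.Agent.S0084

open Subgroup Cfsg.Agent.Lib.Helper2_Transfer Cfsg.Agent.Lib.Helper2_NC

/-- A group whose Sylow 2-subgroups are Klein four-groups and whose order is prime to 3 has a normal 2-complement. -/
theorem result {G : Type*} [Group G] [Finite G] (T : Sylow 2 G) (hT : IsKleinFour T) (h3 : ¬ 3 ∣ Nat.card G) : Cfsg.HasNormalPComplement 2 G := by
  have hcomm : IsMulCommutative T := IsKleinFour.isMulCommutative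
  have hcard : Nat.card (T : Subgroup G) = 4 := hT.card_four
  apply hasNormalPComplement_of_normalizer_le_centralizer T
  apply normalizer_le_centralizer_of_forall_prime T
  intro q hq hq2 hqG Q hQq hQN
  have : Fact q.Prime := ⟨hq⟩
  have hq3 : q ≠ 3 := by rintro rfl; exact h3 hqG
  have hq5 : 5 ≤ q := by
    have h2 := hq.two_le
    by_contra hlt
    have : q = 2 ∨ q = 3 ∨ q = 4 := by omega
    rcases this with h | h | h
    · exact hq2 h
    · exact hq3 h
    · rw [h] at hq; exact absurd hq (by decide)
  have hmod := card_modEq_card_inf_centralizer (T : Subgroup G) Q hQN q hQq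
  set F : Subgroup G := (T : Subgroup G) ⊓ centralizer (Q : Set G) with hF
  have hFle : Nat.card F ≤ Nat.card (T : Subgroup G) := card_le_of_le inf_le_left
  have hdvd : q ∣ Nat.card (T : Subgroup G) - Nat.card F := (Nat.modEq_iff_dvd' hFle).mp hmod.symm
  have hFpos : 0 < Nat.card F := Nat.card_pos
  have hFeq : Nat.card (T : Subgroup G) ≤ Nat.card F := by
    by_contra hlt
    have h1 : 0 < Nat.card (T : Subgroup G) - Nat.card F := by omega
    have h2 := Nat.le_of_dvd h1 hdvd
    omega
  have hTF : F = (T : Subgroup G) := eq_of_le_of_card_ge inf_le_left hFeq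
  have hTQ : (T : Subgroup G) ≤ centralizer (Q : Set G) := by
    rw [← hTF]; exact inf_le_right
  exact le_centralizer_iff.mp hTQ

end Cfsg.Agent.S0084
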