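import Cfsg.Statements.S0112
import Mathlib.GroupTheory.Nilpotent
import Mathlib.GroupTheory.Sylow
import Mathlib.GroupTheory.PGroup

set_option autoImplicit false
open Cfsg

namespace Cfsg.Agent.S0112

open Subgroup

universe u

/-- A subgroup of a finite group whose order is `p` (prime), properly between... helper:
a subgroup `Z < A` with `|A| = p^2`, `Z ≠ ⊥` has order `p`. -/
theorem card_eq_prime_of_lt {X : Type*} [Group X] [Finite X] {p : ℕ} (hp : p.Prime)
    (Z A : Subgroup X) (hZA : Z ≤ A) (hne : Z ≠ A) (hbot : Z ≠ ⊥) (hA : Nat.card A = p ^ 2) :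
    Nat.card Z = p := by
  have hdvd : Nat.card Z ∣ p ^ 2 := hA ▸ card_dvd_of_le hZA
  obtain ⟨j, hj2, hj⟩ := (Nat.dvd_prime_pow hp).mp hdvd
  have hj' : j = 0 ∨ j = 1 ∨ j = 2 := by omega
  rcases hj' with rfl | rfl | rfl
  · exact absurd (card_eq_one.mp (by simpa using hj)) hbot
  · simpa using hj
  · exact absurd (eq_of_le_of_card_ge hZA (by rw [hA, hj])) hne

theorem aux (p : ℕ) [hp : Fact p.Prime] : ∀ (n : ℕ) (X : Type u) [Group X] [Finite X],
    Nat.card X = p ^ n → ∀ A : Subgroup X, Nat.card A = p ^ 2 →
    centralizer (A : Set X) = A → Group.nilpotencyClass X = n - 1 := by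
  intro n
  induction n using Nat.strong_induction_on with
  | _ n ih =>
  intro X _ _ hX A hA hC
  have hpp : p.Prime := hp.out
  have hPG : IsPGroup p X := IsPGroup.of_card hX
  have hnil : Group.IsNilpotent X := hPG.isNilpotent
  -- `A` is abelian
  have hAcomm : ∀ a ∈ A, ∀ b ∈ A, a * b = b * a := by
    intro a ha b hb
    have : b ∈ centralizer (A : Set X) := by rw [hC]; exact hb
    exact mem_centralizer_iff.mp this a ha
  have hn2 : 2 ≤ n := by
    have hdvd : p ^ 2 ∣ p ^ n := hA ▸ hX ▸ card_subgroup_dvd_card A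
    exact (Nat.pow_dvd_pow_iff_le_right hpp.one_lt).mp hdvd
  have hnt : Nontrivial X := by
    rw [← Finite.one_lt_card_iff_nontrivial, hX]
    exact Nat.one_lt_pow (by omega) hpp.one_lt
  have hclass_pos : Group.nilpotencyClass X ≠ 0 := by
    intro h0
    rw [Group.nilpotencyClass_zero_iff_subsingleton] at h0
    exact not_subsingleton X h0
  rcases Nat.lt_or_ge 2 n with hn3 | hn2'
  swap
  · -- `n = 2`
    have hn : n = 2 := le_antisymm hn2' hn2
    subst hn
    have hAtop : A = ⊤ := by
      apply eq_top_of_card_eq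
      rw [hA, hX]
    have hcen : center X = ⊤ := by
      rw [← centralizer_univ, ← coe_top, ← hAtop, hC]
    have : Group.nilpotencyClass X ≤ 1 := by
      rw [← Subgroup.upperCentralSeries_eq_top_iff_nilpotencyClass_le, Subgroup.upperCentralSeries_one, hcen]
    omega
  · -- `n ≥ 3`
    set Z := center X with hZdef
    have hZA : Z ≤ A := by
      rw [← hC]; exact center_le_centralizer _
    have hZne : Z ≠ A := by
      intro h
      have h1 : centralizer (A : Set X) = ⊤ := by
        rw [← h, hZdef]
        exact centralizer_eq_top_iff_subset.mpr (fun x hx => hx)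
      have h2 : A = ⊤ := by rw [← hC, h1]
      have h3 : Nat.card A = Nat.card X := by rw [h2, card_top]
      rw [hA, hX] at h3
      have := Nat.pow_right_injective hpp.two_le h3
      omega
    have hZbot : Z ≠ ⊥ := by
      have := hPG.center_nontrivial
      exact (nontrivial_iff_ne_bot Z).mp this
    have hZcard : Nat.card Z = p := card_eq_prime_of_lt hpp Z A hZA hZne hZbot hA
    -- a subgroup `B ≥ A` of order `p ^ 3`
    obtain ⟨B, hBcard, hAB⟩ := Sylow.exists_subgroup_card_pow_succ (p := p) (n := 2)
      (by rw [hX]; exact pow_dvd_pow p (by omega)) hA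
    have hZB : Z ≤ B := hZA.trans hAB
    -- the quotient
    have hQcard : Nat.card (X ⧸ Z) = p ^ (n - 1) := by
      have h1 := card_eq_card_quotient_mul_card_subgroup Z
      rw [hX, hZcard] at h1
      have h2 : p ^ n = p ^ (n - 1) * p := by
        rw [← pow_succ]; congr 1; omega
      rw [h2] at h1
      exact (Nat.eq_of_mul_eq_mul_right hpp.pos h1).symm
    set π := QuotientGroup.mk' Z with hπ
    have hπsurj : Function.Surjective π := QuotientGroup.mk'_surjective Z
    have hkerπ : π.ker = Z := QuotientGroup.ker_mk' Z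
    set B' := B.map π with hB'
    have hBcomap : B'.comap π = B := by
      rw [hB', comap_map_eq_self]
      rw [hkerπ]; exact hZB
    have hB'card : Nat.card B' = p ^ 2 := by
      have h1 : B'.index = B.index := by
        rw [← hBcomap, index_comap_of_surjective B' hπsurj]
      have h2 := B.card_mul_index
      have h3 := B'.card_mul_index
      rw [hX, hBcard] at h2
      rw [hQcard, h1] at h3
      -- p^3 * idx = p^n, card B' * idx = p^(n-1)
      have hidx : B.index = p ^ (n - 3) := by
        have h4 : p ^ n = p ^ 3 * p ^ (n - 3) := by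
          rw [← pow_add]; congr 1; omega
        rw [h4] at h2
        exact Nat.eq_of_mul_eq_mul_left (pow_pos hpp.pos 3) h2
      rw [hidx] at h3
      have h5 : p ^ (n - 1) = p ^ 2 * p ^ (n - 3) := by
        rw [← pow_add]; congr 1; omega
      rw [h5] at h3
      exact Nat.eq_of_mul_eq_mul_right (pow_pos hpp.pos _) h3
    have hB'comm : IsMulCommutative B' := IsPGroup.isMulCommutative_of_card_eq_prime_sq hB'card
    -- `N`: elements centralising `A` modulo `Z`
    set N : Subgroup X := (centralizer ((A.map π : Subgroup (X ⧸ Z)) : Set (X ⧸ Z))).comap π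
      with hN
    have hNmem : ∀ x ∈ N, ∀ a ∈ A, x * a * x⁻¹ * a⁻¹ ∈ Z := by
      intro x hx a ha
      rw [hN, mem_comap, mem_centralizer_iff] at hx
      have h1 := hx (π a) (mem_map_of_mem π ha)
      rw [← hkerπ, MonoidHom.mem_ker, map_mul, map_mul, map_mul, map_inv, map_inv, ← h1]
      group
    have hBN : B ≤ N := by
      intro b hb
      rw [hN, mem_comap, mem_centralizer_iff]
      rintro - ⟨a, ha, rfl⟩
      have h1 := mul_comm' (⟨π a, mem_map_of_mem π (hAB ha)⟩ : B') ⟨π b, mem_map_of_mem π hb⟩
      exact congrArg Subtype.val h1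
    -- pick `a₀ ∈ A \ Z`
    obtain ⟨a₀, ha₀A, ha₀Z⟩ : ∃ a₀ ∈ A, a₀ ∉ Z := by
      by_contra hcon
      push Not at hcon
      exact hZne (le_antisymm hZA hcon)
    have hAgen : A ≤ Z ⊔ zpowers a₀ := by
      have hle : Z ⊔ zpowers a₀ ≤ A := sup_le hZA (zpowers_le.mpr ha₀A)
      have hne : Z ≠ Z ⊔ zpowers a₀ := by
        intro h
        apply ha₀Z
        rw [h]
        exact mem_sup_right (mem_zpowers a₀)
      have hcard : Nat.card (Z ⊔ zpowers a₀ : Subgroup X) = p ^ 2 := by
        have hdvd : Nat.card (Z ⊔ zpowers a₀ : Subgroup X) ∣ p ^ 2 := hA ▸ card_dvd_of_le hle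
        have hdvd2 : p ∣ Nat.card (Z ⊔ zpowers a₀ : Subgroup X) :=
          hZcard ▸ card_dvd_of_le le_sup_left
        obtain ⟨j, hj2, hj⟩ := (Nat.dvd_prime_pow hpp).mp hdvd
        have hj' : j = 0 ∨ j = 1 ∨ j = 2 := by omega
        rcases hj' with rfl | rfl | rfl
        · rw [hj, pow_zero] at hdvd2
          exact absurd (Nat.dvd_one.mp hdvd2) hpp.one_lt.ne'
        · exfalso
          apply hne
          apply eq_of_le_of_card_ge le_sup_left
          rw [hj, hZcard, pow_one]
        · exact hj
      exact (eq_of_le_of_card_ge hle (by rw [hA, hcard])).ge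
    -- the homomorphism `θ : N → Z`
    have hθmem : ∀ x : N, (x : X) * a₀ * (x : X)⁻¹ * a₀⁻¹ ∈ Z := fun x => hNmem x x.2 a₀ ha₀A
    let θ : N →* Z :=
      { toFun := fun x => ⟨(x : X) * a₀ * (x : X)⁻¹ * a₀⁻¹, hθmem x⟩
        map_one' := by ext; simp
        map_mul' := fun x y => by
          ext
          have hy := mem_center_iff.mp (hθmem y) (x : X)
          simp only [Subgroup.coe_mul, mul_inv_rev]
          calc (x : X) * y * a₀ * ((y : X)⁻¹ * (x : X)⁻¹) * a₀⁻¹
              = (x : X) * ((y : X) * a₀ * (y : X)⁻¹ * a₀⁻¹) * (a₀ * (x : X)⁻¹ * a₀⁻¹) := by group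
            _ = ((y : X) * a₀ * (y : X)⁻¹ * a₀⁻¹) * (x : X) * (a₀ * (x : X)⁻¹ * a₀⁻¹) := by
                rw [hy]
            _ = ((y : X) * a₀ * (y : X)⁻¹ * a₀⁻¹) * ((x : X) * a₀ * (x : X)⁻¹ * a₀⁻¹) := by group
            _ = ((x : X) * a₀ * (x : X)⁻¹ * a₀⁻¹) * ((y : X) * a₀ * (y : X)⁻¹ * a₀⁻¹) :=
                ((mem_center_iff.mp (hθmem y) _)).symm }
    have hker : (θ.ker.map N.subtype) ≤ A := by
      rintro - ⟨x, hx, rfl⟩
      have h1 : (x : X) * a₀ * (x : X)⁻¹ * a₀⁻¹ = 1 :=
        congrArg Subtype.val (MonoidHom.mem_ker.mp hx)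
      have h2 : a₀ * (x : X) = (x : X) * a₀ := by
        have := congrArg (fun t => t * a₀ * (x : X)) h1
        simpa [mul_assoc] using this.symm
      rw [← hC]
      show (x : X) ∈ centralizer (A : Set X)
      rw [mem_centralizer_iff]
      intro a ha
      have h3 : Z ⊔ zpowers a₀ ≤ centralizer {(x : X)} := by
        apply sup_le
        · intro z hz
          rw [mem_centralizer_singleton_iff]
          exact (mem_center_iff.mp hz (x : X)).symm
        · rw [zpowers_le, mem_centralizer_singleton_iff]
          exact h2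
      exact mem_centralizer_singleton_iff.mp (h3 (hAgen ha))
    have hNcard : Nat.card N ≤ p ^ 3 := by
      have h1 : Nat.card θ.ker ≤ p ^ 2 := by
        rw [← hA, ← card_map_of_injective N.subtype_injective]
        exact card_le_of_le hker
      have h2 : θ.ker.index ≤ p := by
        rw [index_ker, ← hZcard]
        exact card_le_card_group θ.range
      have h3 := θ.ker.card_mul_index
      calc Nat.card N = Nat.card θ.ker * θ.ker.index := h3.symm
        _ ≤ p ^ 2 * p := Nat.mul_le_mul h1 h2
        _ = p ^ 3 := by ring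
    have hNB : N = B := (eq_of_le_of_card_ge hBN (by rw [hBcard]; exact hNcard)).symm
    -- `B'` is self-centralising in the quotient
    have hC' : centralizer (B' : Set (X ⧸ Z)) = B' := by
      apply le_antisymm
      · intro y hy
        obtain ⟨x, rfl⟩ := hπsurj y
        have hxN : x ∈ N := by
          rw [hN, mem_comap]
          exact centralizer_le (map_mono hAB) hy
        rw [hNB] at hxN
        exact mem_map_of_mem π hxN
      · intro y hy
        rw [mem_centralizer_iff]
        intro b hb
        have h1 := mul_comm' (⟨b, hb⟩ : B') ⟨y, hy⟩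
        exact congrArg Subtype.val h1
    have hIH := ih (n - 1) (by omega) (X ⧸ Z) hQcard B' hB'card hC'
    have hq : Group.nilpotencyClass (X ⧸ Z) = Group.nilpotencyClass X - 1 :=
      Group.nilpotencyClass_quotient_center (G := X)
    rw [hq] at hIH
    omega

/-- A p-group with a self-centralizing subgroup of order p^2 is of maximal class. -/
theorem result {X : Type*} [Group X] [Finite X] {p : ℕ} [Fact p.Prime] (n : ℕ) (hX : Nat.card X = p ^ n) (A : Subgroup X) (hA : Nat.card A = p ^ 2) (hC : Subgroup.centralizer (A : Set X) = A) : Group.nilpotencyClass X = n - 1 :=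
  aux p n X hX A hA hC

end Cfsg.Agent.S0112
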