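import Cfsg.Statements.S4399
import Cfsg.Agent.Lib.Helper2_MaxClass
import Cfsg.Agent.Lib.Helper2_TwoMaxClassStruct
import Cfsg.Agent.Lib.Helper2_Taussky
import Cfsg.Agent.Lib.Helper54_TwoGroups
import Cfsg.Agent.Lib.Helper50_UniqueInv

set_option autoImplicit false
open Cfsg

namespace Cfsg.Agent.S4399

open Subgroup

/-- In a group whose centre has order two and lies in `⟨a⟩`, `a` of order `2 * N`, every central
element is `1` or `a ^ N`. -/
lemma central_cases {S : Type*} [Group S] [Finite S] (a : S) (N : ℕ) (_hN : 0 < N)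
    (hoa : orderOf a = 2 * N) (hZ : Nat.card (center S) = 2) (hZle : center S ≤ zpowers a)
    (c : S) (hc : c ∈ center S) : c = 1 ∨ c = a ^ N := by
  have hc2 : c ^ 2 = 1 := by
    have h := pow_card_eq_one' (G := center S) (x := ⟨c, hc⟩)
    rw [hZ] at h
    simpa using congrArg Subtype.val h
  have hca : c ∈ zpowers a := hZle hc
  have hfin : IsOfFinOrder a := isOfFinOrder_of_finite a
  rw [← mem_powers_iff_mem_zpowers] at hca
  obtain ⟨k, hk⟩ := hca
  have hk' : a ^ k = c := hk
  subst hk'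
  rw [← pow_mul] at hc2
  have hd : orderOf a ∣ k * 2 := orderOf_dvd_of_pow_eq_one hc2
  rw [hoa] at hd
  have hd' : N ∣ k := by
    obtain ⟨t, ht⟩ := hd
    exact ⟨t, by nlinarith⟩
  obtain ⟨j, rfl⟩ := hd'
  have hw2 : (a ^ N) ^ 2 = 1 := by
    rw [← pow_mul, mul_comm, ← hoa]; exact pow_orderOf_eq_one a
  rw [pow_mul]
  rcases Nat.even_or_odd' j with ⟨t, rfl | rfl⟩
  · left; rw [pow_mul, hw2, one_pow]
  · right; rw [pow_succ, pow_mul, hw2, one_pow, one_mul]

theorem result {S : Type*} [Group S] [Finite S] (h2 : IsPGroup 2 S) (hab : Nat.card (Abelianization S) = 4)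
    (hexp : ∀ x : Abelianization S, x ^ 2 = 1) :
    Nat.card S = 4 ∨
    ((∃ k : ℕ, Nonempty (S ≃* DihedralGroup (2 ^ (k + 2)))) ∨
      (∃ k : ℕ, Nat.card S = 2 ^ (k + 4) ∧ ∃ a b : S, orderOf a = 2 ^ (k + 3) ∧ orderOf b = 2 ∧ b * a * b⁻¹ = a ^ (2 ^ (k + 2) - 1)) ∨
      (∃ k : ℕ, Nonempty (S ≃* QuaternionGroup (2 ^ (k + 1))))) := by
  have : Fact (Nat.Prime 2) := ⟨Nat.prime_two⟩
  obtain ⟨n, hn⟩ := h2.exists_card_eq
  have hidx : (commutator S).index = 4 := by
    rw [Subgroup.index_eq_card]; exact hab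
  have hdvd : 4 ∣ 2 ^ n := by
    rw [← hn, ← hidx]; exact Subgroup.index_dvd_card _
  have hn2 : 2 ≤ n := by
    by_contra hlt
    push Not at hlt
    interval_cases n <;> omega
  rcases Nat.lt_or_ge n 3 with hlt | hn3
  · left
    have : n = 2 := by omega
    rw [hn, this]; norm_num
  right
  obtain ⟨m, rfl⟩ : ∃ m, n = m + 3 := ⟨n - 3, by omega⟩
  have hc := Cfsg.Agent.Lib.Helper2_TwoMaxClass.taussky (m + 3) S hn3 hn hidx
  obtain ⟨a, b, hoa, hidxa, hb, hZle, hbb, hbab⟩ :=
    Cfsg.Agent.Lib.Helper2_TwoMaxClass.maxClass_structure (m + 3) hn3 hn hc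
  obtain ⟨hZ, -, -⟩ := Cfsg.Agent.Lib.Helper2_MaxClass.maxClass_center hn hn3 hc
  have hoa' : orderOf a = 2 * 2 ^ (m + 1) := by
    rw [hoa]; show 2 ^ (m + 2) = _; ring
  have hNpos : 0 < 2 ^ (m + 1) := by positivity
  obtain ⟨w, hw⟩ : ∃ w : S, w = a ^ (2 ^ (m + 1)) := ⟨_, rfl⟩
  have hcases : ∀ c ∈ center S, c = 1 ∨ c = w := by
    rw [hw]; exact central_cases a (2 ^ (m + 1)) hNpos hoa' hZ hZle
  have hw2 : w * w = 1 := by
    rw [hw, ← pow_add, ← two_mul, ← hoa']; exact pow_orderOf_eq_one a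
  have hwne : w ≠ 1 := by
    intro h
    rw [hw] at h
    have := orderOf_dvd_of_pow_eq_one h
    rw [hoa'] at this
    have := Nat.le_of_dvd hNpos this
    omega
  have hwa : Commute w a := by rw [hw]; exact (Commute.refl a).pow_left _
  have hb1 : b ≠ 1 := fun h => hb (h ▸ one_mem _)
  have hcard2 : Nat.card S = 2 * 2 ^ (m + 2) := by rw [hn]; ring
  have hcard4 : Nat.card S = 4 * 2 ^ (m + 1) := by rw [hn]; ring
  rcases hcases _ hbab with h1 | h1
  · -- `b a b⁻¹ = a⁻¹`
    have hconj : b * a * b⁻¹ = a⁻¹ := eq_inv_of_mul_eq_one_left h1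
    rcases hcases _ hbb with h3 | h3
    · left
      refine ⟨m, ?_⟩
      exact Cfsg.Agent.Lib.Helper54_TwoGroups.nonempty_mulEquiv_dihedralGroup (2 ^ (m + 2)) a b
        hoa h3 hconj hb hcard2
    · right; right
      refine ⟨m, ?_⟩
      refine Cfsg.Agent.Lib.Helper50_UniqueInv.nonempty_mulEquiv_quaternionGroup (2 ^ (m + 1)) a ?_ b hoa' ?_ hconj hcard4
      · calc 2 = 2 ^ 1 := by norm_num
          _ ≤ 2 ^ (m + 1) := Nat.pow_le_pow_right (by norm_num) (by omega)
      · rw [pow_two, ← hw]; exact h3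
  · -- `b a b⁻¹ = w a⁻¹`
    have hconj : b * a * b⁻¹ = w * a⁻¹ := by
      rw [← h1]; group
    right; left
    rcases Nat.eq_zero_or_pos m with rfl | hmpos
    · -- order 8: impossible
      exfalso
      have hwa2 : w = a ^ 2 := by rw [hw]; norm_num
      have hcomm : b * a * b⁻¹ = a := by
        rw [hconj, hwa2, pow_two, mul_inv_cancel_right]
      have hba : Commute a b := by
        have : b * a = a * b := by
          nth_rewrite 2 [← hcomm]; group
        exact this.symm
      have hac : a ∈ center S :=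
        Cfsg.Agent.Lib.Helper2_TwoMaxClass.central_of_commute hidxa hb (Commute.refl a) hba
      rcases hcases a hac with h | h
      · rw [h, orderOf_one] at hoa'; norm_num at hoa'
      · have h4 : a ^ 1 = 1 := by
          have : a * a = a := by rw [← pow_two, ← hwa2]; exact h.symm
          simpa using mul_left_cancel (this.trans (mul_one a).symm)
        have := orderOf_dvd_of_pow_eq_one h4
        rw [hoa'] at this
        norm_num at this
    · obtain ⟨k, rfl⟩ : ∃ k, m = k + 1 := ⟨m - 1, by omega⟩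
      refine ⟨k, hn, ?_⟩
      have hwpow : w * a⁻¹ = a ^ (2 ^ (k + 2) - 1) := by
        rw [hw, mul_inv_eq_iff_eq_mul, ← pow_succ]
        congr 1
        have : 1 ≤ 2 ^ (k + 2) := Nat.one_le_two_pow
        rw [Nat.sub_add_cancel this]
      rcases hcases _ hbb with h3 | h3
      · refine ⟨a, b, hoa, ?_, ?_⟩
        · exact orderOf_eq_prime (by rw [pow_two]; exact h3) hb1
        · rw [hconj, hwpow]
      · refine ⟨a, b * a, hoa, ?_, ?_⟩
        · apply orderOf_eq_prime
          · rw [pow_two]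
            calc b * a * (b * a) = (b * a * b⁻¹) * (b * b) * a := by group
              _ = w * a⁻¹ * w * a := by rw [hconj, h3]
              _ = 1 := by
                rw [mul_assoc (w * a⁻¹), hwa.eq, ← mul_assoc, inv_mul_cancel_right, hw2]
          · intro h
            apply hb
            have : b = a⁻¹ := eq_inv_of_mul_eq_one_left h
            rw [this]; exact inv_mem (mem_zpowers a)
        · rw [← hwpow, ← hconj]; group

end Cfsg.Agent.S4399
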