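import Cfsg.Statements.S4478
import Cfsg.Agent.S0165
import Cfsg.Agent.Lib.Helper74_FS3
import Cfsg.Agent.Lib.Helper80_CharBasic
import Cfsg.Agent.Lib.Helper3_CharColumn
import Cfsg.Agent.Lib.Helper79_CharVals

set_option autoImplicit false
open Cfsg

namespace Cfsg.Agent.S4478

open Cfsg.Agent.Lib Cfsg.Agent.Lib.Helper74_FS Cfsg.Agent.Lib.Helper3_CharColumn

section

variable {G : Type*} [Group G] [Fintype G]

/-- vanishing on `p`-singular elements when the full `p`-part divides the degree -/
theorem vanish (χ : IrrCharacter G) (p : ℕ) (hp : p.Prime)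
    (hdiv : p ^ (Nat.card G).factorization p ∣ charDegree (χ : G → ℂ)) (g : G)
    (hg : p ∣ orderOf g) : (χ : G → ℂ) g = 0 := by
  obtain ⟨n, ρ, hirr, hρ⟩ := χ.2
  have := hirr
  have hdeg : charDegree (χ : G → ℂ) = n := by
    apply Helper79_CharVals.charDegree_of_eq_natCast
    rw [← hρ, Representation.char_one]
    simp
  rw [hdeg] at hdiv
  have h := Cfsg.Agent.S0165.result ρ p ((Nat.card G).factorization p) hp
    (Nat.ordProj_dvd _ _) (Nat.pow_succ_factorization_not_dvd Nat.card_pos.ne' hp)
    (by simpa using hdiv) g hg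
  rw [← hρ]
  exact h

omit [Fintype G] in
theorem sq_of_odd (g : G) (hg : ¬ 2 ∣ orderOf g) :
    (g * g) ^ ((orderOf (g * g) + 1) / 2) = g := by
  have hcop : (orderOf g).Coprime 2 := by
    rw [Nat.coprime_comm]
    exact (Nat.Prime.coprime_iff_not_dvd Nat.prime_two).mpr hg
  have h1 : orderOf (g * g) = orderOf g := by
    rw [← pow_two]
    exact hcop.orderOf_pow
  rw [h1, ← pow_two, ← pow_mul]
  have h2 : 2 * ((orderOf g + 1) / 2) = orderOf g + 1 := by omega
  rw [h2, pow_succ, pow_orderOf_eq_one, one_mul]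

omit [Fintype G] in
theorem odd_root_sq (g : G) (hg : ¬ 2 ∣ orderOf g) :
    g ^ ((orderOf g + 1) / 2) * g ^ ((orderOf g + 1) / 2) = g := by
  rw [← pow_add]
  have h2 : (orderOf g + 1) / 2 + (orderOf g + 1) / 2 = orderOf g + 1 := by omega
  rw [h2, pow_succ, pow_orderOf_eq_one, one_mul]

omit [Fintype G] in
theorem not_two_dvd_orderOf_pow (g : G) (hg : ¬ 2 ∣ orderOf g) (n : ℕ) :
    ¬ 2 ∣ orderOf (g ^ n) := fun h => hg (h.trans (orderOf_pow_dvd n))

open Classical in
theorem sum_odd_sq (F : G → ℂ) :
    ∑ g ∈ Finset.univ.filter (fun g : G => ¬ 2 ∣ orderOf g), F (g * g) =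
      ∑ g ∈ Finset.univ.filter (fun g : G => ¬ 2 ∣ orderOf g), F g := by
  refine Finset.sum_nbij' (fun g => g * g) (fun g => g ^ ((orderOf g + 1) / 2)) ?_ ?_ ?_ ?_ ?_
  · intro g hg
    simp only [Finset.mem_filter, Finset.mem_univ, true_and] at hg ⊢
    rw [← pow_two]
    exact not_two_dvd_orderOf_pow g hg 2
  · intro g hg
    simp only [Finset.mem_filter, Finset.mem_univ, true_and] at hg ⊢
    exact not_two_dvd_orderOf_pow g hg _
  · intro g hg
    simp only [Finset.mem_filter, Finset.mem_univ, true_and] at hg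
    exact sq_of_odd g hg
  · intro g hg
    simp only [Finset.mem_filter, Finset.mem_univ, true_and] at hg
    exact odd_root_sq g hg
  · intro g _
    rfl

/-- the square of an element of even order, not an involution, is a zero of `χ` -/
theorem vanish_sq (χ : IrrCharacter G)
    (h2 : 2 ^ (Nat.card G).factorization 2 ∣ Cfsg.charDegree (χ : G → ℂ))
    (hp : ∀ p : ℕ, p.Prime → p ≠ 2 → (∃ g : G, orderOf g = 2 * p) →
      p ^ (Nat.card G).factorization p ∣ Cfsg.charDegree (χ : G → ℂ))
    (g : G) (hg : 2 ∣ orderOf g) (hg2 : orderOf g ≠ 2) : (χ : G → ℂ) (g * g) = 0 := by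
  obtain ⟨m, hm⟩ := hg
  have ho : 0 < orderOf g := orderOf_pos g
  have hm1 : m ≠ 1 := by
    rintro rfl
    exact hg2 (by simpa using hm)
  have hord : orderOf (g * g) = m := by
    rw [← pow_two, orderOf_pow' g (by norm_num : (2 : ℕ) ≠ 0), hm]
    simp
  obtain ⟨p, hpp, hpm⟩ := Nat.exists_prime_and_dvd hm1
  by_cases hp2 : p = 2
  · subst hp2
    exact vanish χ 2 hpp h2 (g * g) (by rw [hord]; exact hpm)
  · have hdiv : 2 * p ∣ orderOf g := by
      rw [hm]
      exact Nat.mul_dvd_mul_left 2 hpm
    obtain ⟨c, hc⟩ := hdiv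
    have hc0 : c ≠ 0 := by
      rintro rfl
      rw [mul_zero] at hc
      omega
    have hy : orderOf (g ^ c) = 2 * p := by
      rw [orderOf_pow_of_dvd hc0 ⟨2 * p, by rw [hc, mul_comm]⟩, hc]
      exact Nat.mul_div_cancel _ (Nat.pos_of_ne_zero hc0)
    exact vanish χ p hpp (hp p hpp hp2 ⟨g ^ c, hy⟩) (g * g) (by rw [hord]; exact hpm)

open Classical in
/-- the key count: `∑ χ(g²) = (number of involutions) * χ(1)` -/
theorem sum_sq_eq (χ : IrrCharacter G) (x : ℕ) (hx : (χ : G → ℂ) 1 = x) (hx1 : x ≠ 1)
    (h2 : 2 ^ (Nat.card G).factorization 2 ∣ Cfsg.charDegree (χ : G → ℂ))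
    (hp : ∀ p : ℕ, p.Prime → p ≠ 2 → (∃ g : G, orderOf g = 2 * p) →
      p ^ (Nat.card G).factorization p ∣ Cfsg.charDegree (χ : G → ℂ)) :
    ∑ g : G, (χ : G → ℂ) (g * g) =
      ((Finset.univ.filter (fun g : G => orderOf g = 2)).card : ℂ) * x := by
  have hone : ∑ g : G, (χ : G → ℂ) g = 0 := by
    have hne : χ ≠ Helper80_CharBasic.oneIrr G := by
      intro h
      have h1 : (χ : G → ℂ) 1 = 1 := by rw [h]; rfl
      rw [hx] at h1
      exact hx1 (by exact_mod_cast h1)
    have := Helper80_CharBasic.irr_orthogonal χ (Helper80_CharBasic.oneIrr G) hne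
    have h1 : ∀ g : G, ((Helper80_CharBasic.oneIrr G : IrrCharacter G) : G → ℂ) g⁻¹ = 1 :=
      fun _ => rfl
    simpa [h1] using this
  -- split according to parity of the order
  have hsplit : ∀ F : G → ℂ, ∑ g : G, F g =
      ∑ g ∈ Finset.univ.filter (fun g : G => ¬ 2 ∣ orderOf g), F g +
      ∑ g ∈ Finset.univ.filter (fun g : G => ¬ ¬ 2 ∣ orderOf g), F g := fun F =>
    (Finset.sum_filter_add_sum_filter_not Finset.univ (fun g : G => ¬ 2 ∣ orderOf g) F).symm
  have hχodd : ∑ g ∈ Finset.univ.filter (fun g : G => ¬ 2 ∣ orderOf g), (χ : G → ℂ) g = 0 := by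
    have h := hsplit (χ : G → ℂ)
    rw [hone] at h
    have h0 : ∑ g ∈ Finset.univ.filter (fun g : G => ¬ ¬ 2 ∣ orderOf g), (χ : G → ℂ) g = 0 := by
      apply Finset.sum_eq_zero
      intro g hg
      simp only [Finset.mem_filter, Finset.mem_univ, true_and, not_not] at hg
      exact vanish χ 2 Nat.prime_two h2 g hg
    rw [h0, add_zero] at h
    exact h.symm
  rw [hsplit (fun g => (χ : G → ℂ) (g * g)), sum_odd_sq (χ : G → ℂ), hχodd, zero_add]
  have hev : ∀ g ∈ Finset.univ.filter (fun g : G => ¬ ¬ 2 ∣ orderOf g),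
      (χ : G → ℂ) (g * g) = if orderOf g = 2 then (x : ℂ) else 0 := by
    intro g hg
    simp only [Finset.mem_filter, Finset.mem_univ, true_and, not_not] at hg
    by_cases ho : orderOf g = 2
    · rw [if_pos ho]
      have : g * g = 1 := by
        rw [← pow_two, ← ho, pow_orderOf_eq_one]
      rw [this, hx]
    · rw [if_neg ho]
      exact vanish_sq χ h2 hp g hg ho
  have hfilter : (Finset.univ.filter (fun g : G => ¬ ¬ 2 ∣ orderOf g)).filter
      (fun g : G => orderOf g = 2) = Finset.univ.filter (fun g : G => orderOf g = 2) := by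
    ext g
    simp only [Finset.mem_filter, Finset.mem_univ, true_and, not_not]
    constructor
    · rintro ⟨_, h⟩
      exact h
    · intro h
      exact ⟨by rw [h], h⟩
  rw [Finset.sum_congr rfl hev, ← Finset.sum_filter, Finset.sum_const, nsmul_eq_mul, hfilter]

/-- the order of the centralizer of an involution divides the degree -/
theorem card_centralizer_dvd (x : ℕ)
    (h2 : 2 ^ (Nat.card G).factorization 2 ∣ x)
    (hp : ∀ p : ℕ, p.Prime → p ≠ 2 → (∃ g : G, orderOf g = 2 * p) →
      p ^ (Nat.card G).factorization p ∣ x)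
    (t : G) (ht : orderOf t = 2) :
    ∀ p : ℕ, p.Prime → p ∣ Nat.card (Subgroup.centralizer ({t} : Set G)) →
      p ^ (Nat.card G).factorization p ∣ x := by
  intro p hpp hpd
  by_cases hp2 : p = 2
  · subst hp2
    exact h2
  · have : Fact p.Prime := ⟨hpp⟩
    obtain ⟨u, hu⟩ := exists_prime_orderOf_dvd_card' p hpd
    have hu' : orderOf (u : G) = p := by rw [Subgroup.orderOf_coe]; exact hu
    have hcomm : Commute t (u : G) := by
      have := Subgroup.mem_centralizer_iff.mp u.2 t (Set.mem_singleton t)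
      exact this
    have hcop : (orderOf t).Coprime (orderOf (u : G)) := by
      rw [ht, hu']
      exact (Nat.coprime_primes Nat.prime_two hpp).mpr (Ne.symm hp2)
    have hord := hcomm.orderOf_mul_eq_mul_orderOf_of_coprime hcop
    rw [ht, hu'] at hord
    exact hp p hpp hp2 ⟨t * u, hord⟩

end

/-- Let G be a finite group of even order and χ an irreducible character of G whose degree x is divisible by the full power of 2 dividing the order of G and, for every odd prime p such that G has an element of order 2p, by the full power of p dividing the order of G. Then all involutions of G are conjugate, the centralizer of every involution has order exactly x with x coprime to its index, and the Frobenius–Schur indicator of χ equals 1. -/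
theorem result {G : Type*} [Group G] [Fintype G] (heven : Even (Nat.card G)) (χ : Cfsg.IrrCharacter G) (h2 : 2 ^ (Nat.card G).factorization 2 ∣ Cfsg.charDegree (χ : G → ℂ)) (hp : ∀ p : ℕ, p.Prime → p ≠ 2 → (∃ g : G, orderOf g = 2 * p) → p ^ (Nat.card G).factorization p ∣ Cfsg.charDegree (χ : G → ℂ)) : (∀ s t : G, orderOf s = 2 → orderOf t = 2 → IsConj s t) ∧ (∀ s : G, orderOf s = 2 → Nat.card (Subgroup.centralizer ({s} : Set G)) = Cfsg.charDegree (χ : G → ℂ) ∧ (Nat.card (Subgroup.centralizer ({s} : Set G))).Coprime (Subgroup.centralizer ({s} : Set G)).index) ∧ (Nat.card G : ℂ)⁻¹ * ∑ g : G, (χ : G → ℂ) (g * g) = 1 := by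
  classical
  have hGpos : 0 < Nat.card G := Nat.card_pos
  obtain ⟨x, hxpos, hx, hxdeg⟩ := Helper79_CharVals.irr_degree χ.2
  rw [hxdeg] at h2 hp ⊢
  have h2G : 2 ∣ Nat.card G := even_iff_two_dvd.mp heven
  have hv2 : 1 ≤ (Nat.card G).factorization 2 :=
    (Nat.Prime.dvd_iff_one_le_factorization Nat.prime_two hGpos.ne').mp h2G
  have hx2 : 2 ∣ x := (dvd_pow_self 2 (by omega)).trans h2
  have hx1 : x ≠ 1 := by
    rintro rfl
    omega
  set I : Finset G := Finset.univ.filter (fun g : G => orderOf g = 2) with hI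
  have hsum := sum_sq_eq χ x hx hx1 (by rw [hxdeg]; exact h2) (by rw [hxdeg]; exact hp)
  rw [← hI] at hsum
  -- an involution exists
  have : Fact (Nat.Prime 2) := ⟨Nat.prime_two⟩
  obtain ⟨t0, ht0⟩ := exists_prime_orderOf_dvd_card' 2 h2G
  have hkpos : 0 < I.card := Finset.card_pos.mpr ⟨t0, by simp [hI, ht0]⟩
  -- the indicator
  have hfs : fsInd (χ : G → ℂ) * (Nat.card G : ℂ) = (I.card : ℂ) * x := by
    unfold fsInd
    rw [hsum]
    have : (Nat.card G : ℂ) ≠ 0 := by exact_mod_cast hGpos.ne'
    field_simp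
  have hν : fsInd (χ : G → ℂ) = 1 := by
    rcases fsInd_irr χ.2 with h | ⟨-, h | h⟩
    · rw [h, zero_mul] at hfs
      have : (I.card * x : ℕ) = 0 := by exact_mod_cast hfs.symm
      have := Nat.mul_ne_zero hkpos.ne' hxpos.ne'
      contradiction
    · exact h
    · rw [h] at hfs
      have h' : ((Nat.card G + I.card * x : ℕ) : ℂ) = 0 := by
        push_cast
        linear_combination -hfs
      have : Nat.card G + I.card * x = 0 := by exact_mod_cast h'
      omega
  have hcard : Nat.card G = I.card * x := by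
    rw [hν, one_mul] at hfs
    exact_mod_cast hfs
  -- centralizers
  have hC : ∀ t : G, orderOf t = 2 →
      Nat.card (Subgroup.centralizer ({t} : Set G)) = x ∧ conjFinset t = I := by
    intro t ht
    have hdvdp := card_centralizer_dvd x h2 hp t ht
    have hCpos : 0 < Nat.card (Subgroup.centralizer ({t} : Set G)) := Nat.card_pos
    have hCdvd : Nat.card (Subgroup.centralizer ({t} : Set G)) ∣ x := by
      rw [← Nat.factorization_prime_le_iff_dvd hCpos.ne' hxpos.ne']
      intro p hpp
      by_cases hpd : p ∣ Nat.card (Subgroup.centralizer ({t} : Set G))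
      · have h1 : (Nat.card (Subgroup.centralizer ({t} : Set G))).factorization p ≤
            (Nat.card G).factorization p :=
          (Nat.factorization_le_iff_dvd hCpos.ne' hGpos.ne').mpr
            (Subgroup.card_subgroup_dvd_card _) p
        have h2' : (Nat.card G).factorization p ≤ x.factorization p :=
          (hpp.pow_dvd_iff_le_factorization hxpos.ne').mp (hdvdp p hpp hpd)
        exact h1.trans h2'
      · rw [Nat.factorization_eq_zero_of_not_dvd hpd]
        exact Nat.zero_le _
    have hCle : Nat.card (Subgroup.centralizer ({t} : Set G)) ≤ x := Nat.le_of_dvd hxpos hCdvd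
    have hsub : conjFinset t ⊆ I := by
      intro s hs
      rw [mem_conjFinset] at hs
      obtain ⟨c, hc⟩ := isConj_iff.mp hs
      simp only [hI, Finset.mem_filter, Finset.mem_univ, true_and]
      have : t = MulAut.conj c s := by rw [MulAut.conj_apply]; exact hc.symm
      rw [← ht, this, MulEquiv.orderOf_eq]
    have hle : (conjFinset t).card ≤ I.card := Finset.card_le_card hsub
    have hmul := card_conjFinset_mul_card_centralizer t
    rw [hcard] at hmul
    have hkeq : (conjFinset t).card = I.card := by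
      by_contra hne
      have hlt : (conjFinset t).card < I.card := lt_of_le_of_ne hle hne
      have h1 : (conjFinset t).card * Nat.card (Subgroup.centralizer ({t} : Set G)) <
          I.card * Nat.card (Subgroup.centralizer ({t} : Set G)) :=
        Nat.mul_lt_mul_of_pos_right hlt hCpos
      have h3 : I.card * Nat.card (Subgroup.centralizer ({t} : Set G)) ≤ I.card * x :=
        Nat.mul_le_mul_left _ hCle
      omega
    refine ⟨?_, Finset.eq_of_subset_of_card_le hsub hkeq.ge⟩
    rw [hkeq] at hmul
    exact Nat.eq_of_mul_eq_mul_left hkpos hmul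
  refine ⟨?_, ?_, ?_⟩
  · intro s t hs ht
    have h1 : s ∈ conjFinset t := by
      rw [(hC t ht).2]
      simp [hI, hs]
    exact mem_conjFinset.mp h1
  · intro s hs
    refine ⟨(hC s hs).1, ?_⟩
    by_contra hnc
    obtain ⟨p, hpp, hp1, hp2⟩ := Nat.Prime.not_coprime_iff_dvd.mp hnc
    have hdvdp := card_centralizer_dvd x h2 hp s hs p hpp hp1
    rw [← (hC s hs).1] at hdvdp
    have hbad : p ^ ((Nat.card G).factorization p + 1) ∣ Nat.card G := by
      have hmul := Subgroup.card_mul_index (Subgroup.centralizer ({s} : Set G))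
      have := Nat.mul_dvd_mul hdvdp hp2
      rw [hmul, ← pow_succ] at this
      exact this
    exact Nat.pow_succ_factorization_not_dvd hGpos.ne' hpp hbad
  · exact hν

end Cfsg.Agent.S4478
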