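import Cfsg.Statements.S0157
import Cfsg.Agent.S0190
import Cfsg.Agent.Lib.Helper75_IndChar
import Cfsg.Agent.Lib.Helper95_Burnside
import Cfsg.Agent.Lib.Helper80_CharBasic

set_option autoImplicit false
open Cfsg

namespace Cfsg.Agent.S0157


open scoped ComplexConjugate
open MulAction
open Cfsg.Agent.Lib.Helper3_CharBridge Cfsg.Agent.Lib.Helper3_CharOrtho
  Cfsg.Agent.Lib.Helper3_CharComplete Cfsg.Agent.Lib.Helper75_CharArith
  Cfsg.Agent.Lib.Helper95_Burnside

section
variable {G : Type*} [Group G] {X : Type*} [MulAction G X]

/-- the permutation character -/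
noncomputable def perm (G : Type*) [Group G] (X : Type*) [MulAction G X] : G → ℂ :=
  fun g => (Nat.card (fixedBy X g) : ℂ)

theorem isCharacter_perm [Fintype G] [Finite X] [IsPretransitive G X] [Nonempty X] :
    Cfsg.IsCharacter G (perm G X) := by
  obtain ⟨x⟩ := ‹Nonempty X›
  have h := Cfsg.Agent.S0190.result (G := G) X x
  unfold perm
  rw [h]
  apply Cfsg.Agent.Lib.Helper75_IndChar.isCharacter_indFun
  exact isCharacter_of_isIrrCharacter (Cfsg.Agent.Lib.Helper80_CharBasic.isIrrCharacter_one _)

theorem mk_diag_ne (a c d : X) (hcd : c ≠ d) :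
    (Quotient.mk (orbitRel G (X × X)) (a, a)) ≠ Quotient.mk (orbitRel G (X × X)) (c, d) := by
  intro h
  have := Quotient.exact h
  change (orbitRel G (X × X)) (a, a) (c, d) at this
  rw [orbitRel_apply] at this
  obtain ⟨g, hg⟩ := this
  have h1 : g • c = a := congrArg Prod.fst hg
  have h2 : g • d = a := congrArg Prod.snd hg
  exact hcd (smul_left_cancel g (h1.trans h2.symm))

theorem two_trans_iff [Finite X] [IsPretransitive G X] (hX : 2 ≤ Nat.card X) :
    IsMultiplyPretransitive G X 2 ↔ Nat.card (Quotient (orbitRel G (X × X))) = 2 := by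
  classical
  have : Fintype X := Fintype.ofFinite X
  have : Fintype (Quotient (orbitRel G (X × X))) := Fintype.ofFinite _
  have hX' := hX
  rw [Nat.card_eq_fintype_card] at hX'
  obtain ⟨a, b, hab⟩ := Fintype.one_lt_card_iff.mp hX'
  constructor
  · intro h2
    rw [is_two_pretransitive_iff] at h2
    apply le_antisymm _ (two_le_natCard_orbits_prod hX)
    rw [Nat.card_eq_fintype_card]
    have hall : ∀ q : Quotient (orbitRel G (X × X)),
        q ∈ ({Quotient.mk _ (a, a), Quotient.mk _ (a, b)} :
          Finset (Quotient (orbitRel G (X × X)))) := by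
      intro q
      induction q using Quotient.inductionOn with
      | h p =>
        obtain ⟨c, d⟩ := p
        by_cases hcd : c = d
        · subst hcd
          obtain ⟨g, hg⟩ := exists_smul_eq G a c
          have : (Quotient.mk (orbitRel G (X × X)) (c, c)) = Quotient.mk _ (a, a) := by
            apply Quotient.sound
            change (orbitRel G (X × X)) (c, c) (a, a)
            rw [orbitRel_apply]
            exact ⟨g, by simp [hg]⟩
          rw [this]
          simp
        · obtain ⟨g, hg1, hg2⟩ := h2 hab hcd
          have : (Quotient.mk (orbitRel G (X × X)) (c, d)) = Quotient.mk _ (a, b) := by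
            apply Quotient.sound
            change (orbitRel G (X × X)) (c, d) (a, b)
            rw [orbitRel_apply]
            exact ⟨g, by simp [hg1, hg2]⟩
          rw [this]
          simp
    calc Fintype.card (Quotient (orbitRel G (X × X)))
        = (Finset.univ : Finset (Quotient (orbitRel G (X × X)))).card := rfl
      _ ≤ ({Quotient.mk _ (a, a), Quotient.mk _ (a, b)} :
          Finset (Quotient (orbitRel G (X × X)))).card :=
          Finset.card_le_card (fun q _ => hall q)
      _ ≤ 2 := Finset.card_le_two
  · intro hr
    rw [is_two_pretransitive_iff]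
    intro a' b' c d hab' hcd
    rw [Nat.card_eq_fintype_card] at hr
    by_contra hno
    have hne : (Quotient.mk (orbitRel G (X × X)) (a', b')) ≠ Quotient.mk _ (c, d) := by
      intro h
      have := Quotient.exact h
      change (orbitRel G (X × X)) (a', b') (c, d) at this
      rw [orbitRel_apply] at this
      obtain ⟨g, hg⟩ := this
      -- g • (c,d) = (a', b')
      apply hno
      refine ⟨g⁻¹, ?_, ?_⟩
      · have h1 : g • c = a' := congrArg Prod.fst hg
        rw [← h1, inv_smul_smul]
      · have h2 : g • d = b' := congrArg Prod.snd hg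
        rw [← h2, inv_smul_smul]
    have h1 := mk_diag_ne (G := G) a' a' b' hab'
    have h2 := mk_diag_ne (G := G) a' c d hcd
    let f : Fin 3 → Quotient (orbitRel G (X × X)) :=
      ![Quotient.mk _ (a', a'), Quotient.mk _ (a', b'), Quotient.mk _ (c, d)]
    have hf : Function.Injective f := by
      intro i j hij
      fin_cases i <;> fin_cases j <;> simp_all [f]
    have := Fintype.card_le_of_injective f hf
    rw [hr] at this
    simp at this

end

section
variable {G : Type*} [Group G] [Fintype G] {X : Type*} [MulAction G X] [Finite X]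

theorem sum_perm [Nonempty X] [IsPretransitive G X] :
    ∑ g : G, perm G X g = (Nat.card G : ℂ) := by
  unfold perm
  rw [← Nat.cast_sum, sum_natCard_fixedBy_of_transitive]

theorem sum_perm_sq :
    ∑ g : G, perm G X g * perm G X g =
      (Nat.card (Quotient (orbitRel G (X × X))) : ℂ) * (Nat.card G : ℂ) := by
  unfold perm
  have h1 := sum_natCard_fixedBy (G := G) (X := X × X)
  simp only [natCard_fixedBy_prod] at h1
  rw [← Nat.cast_mul, ← h1]
  push_cast
  refine Finset.sum_congr rfl fun g _ => ?_
  ring

theorem classInner_perm_sub_one [Nonempty X] [IsPretransitive G X] :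
    Cfsg.classInner (fun g : G => perm G X g - 1) (fun g : G => perm G X g - 1) =
      (Nat.card (Quotient (orbitRel G (X × X))) : ℂ) - 1 := by
  have hG : (Nat.card G : ℂ) ≠ 0 := card_ne_zero_complex
  unfold Cfsg.classInner
  have hconj : ∀ g : G, conj (perm G X g - 1) = perm G X g - 1 := by
    intro g
    unfold perm
    rw [map_sub, Complex.conj_natCast, map_one]
  simp only [hconj]
  have : ∑ g : G, (perm G X g - 1) * (perm G X g - 1) =
      ∑ g : G, perm G X g * perm G X g - 2 * ∑ g : G, perm G X g + (Nat.card G : ℂ) := by
    rw [Finset.mul_sum, ← Finset.sum_sub_distrib]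
    have hc : (Nat.card G : ℂ) = ∑ _g : G, (1 : ℂ) := by
      rw [Finset.sum_const, Finset.card_univ, Nat.card_eq_fintype_card]
      simp
    rw [hc, ← Finset.sum_add_distrib]
    refine Finset.sum_congr rfl fun g _ => ?_
    ring
  rw [this, sum_perm, sum_perm_sq]
  field_simp
  ring

theorem classInner_perm_irr [Nonempty X] [IsPretransitive G X] (χ : Cfsg.IrrCharacter G) :
    ∃ n : ℕ, Cfsg.classInner (fun g : G => perm G X g - 1) (χ : G → ℂ) = n := by
  classical
  have hG : (Nat.card G : ℂ) ≠ 0 := card_ne_zero_complex
  have hsub : (fun g : G => perm G X g - 1) = perm G X - (fun _ => (1 : ℂ)) := by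
    funext g
    simp
  rw [hsub, classInner_sub_left]
  obtain ⟨m, hm⟩ := classInner_isCharacter_nat (isCharacter_perm (G := G) (X := X))
    (isCharacter_of_isIrrCharacter χ.2)
  rw [hm, classInner_irr (Cfsg.Agent.Lib.Helper80_CharBasic.isIrrCharacter_one G) χ.2]
  split_ifs with h
  · -- χ = 1, m = 1
    have h1 : Cfsg.classInner (perm G X) (χ : G → ℂ) = 1 := by
      rw [← h]
      unfold Cfsg.classInner
      simp only [map_one, mul_one]
      rw [sum_perm]
      field_simp
    rw [hm] at h1
    refine ⟨0, ?_⟩
    rw [h1]
    simp
  · exact ⟨m, by simp⟩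

theorem isCharacter_perm_sub_one [Nonempty X] [IsPretransitive G X] :
    Cfsg.IsCharacter G (fun g : G => perm G X g - 1) := by
  apply isCharacter_of_classInner_nat
  · have h := isClassFunction_of_isCharacter (isCharacter_perm (G := G) (X := X))
    intro g x
    show perm G X (x * g * x⁻¹) - 1 = perm G X g - 1
    rw [h g x]
  · exact classInner_perm_irr

end

/-- For a transitive action of a finite group on a finite set with at least two points: the action is 2-transitive if and only if the function sending g to (number of fixed points of g) − 1 is an irreducible character. -/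
theorem result {G : Type*} [Group G] [Finite G] (X : Type*) [MulAction G X] [Finite X] [MulAction.IsPretransitive G X] (hX : 2 ≤ Nat.card X) : Cfsg.IsIrrCharacter G (fun g => (Nat.card (MulAction.fixedBy X g) : ℂ) - 1) ↔ MulAction.IsMultiplyPretransitive G X 2 := by
  classical
  haveI := Fintype.ofFinite G
  have hne : Nonempty X := by
    have : 0 < Nat.card X := by omega
    exact (Nat.card_pos_iff.mp this).1
  rw [two_trans_iff hX]
  have hnorm := classInner_perm_sub_one (G := G) (X := X)
  constructor
  · intro h
    have h1 := classInner_self_of_isIrrCharacter h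
    change Cfsg.classInner (fun g : G => perm G X g - 1) (fun g : G => perm G X g - 1) = 1 at h1
    rw [hnorm] at h1
    have h2 : (Nat.card (Quotient (orbitRel G (X × X))) : ℂ) = ((2 : ℕ) : ℂ) := by
      push_cast
      linear_combination h1
    exact_mod_cast h2
  · intro h
    apply isIrrCharacter_of_classInner_self (isCharacter_perm_sub_one (G := G) (X := X))
    rw [hnorm, h]
    push_cast
    ring

end Cfsg.Agent.S0157
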