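import Cfsg.Statements.S0676
import Cfsg.Agent.Lib.Helper12_PrimeDeg
import Cfsg.Agent.Lib.Helper12_PrimeDeg2
import Cfsg.Agent.Lib.Helper12_PrimeDeg3
import Cfsg.Agent.Lib.Helper12_PrimeDeg4
import Cfsg.Agent.S0677
import Mathlib

set_option autoImplicit false
open Cfsg

namespace Cfsg.Agent.S0676

open Cfsg.Agent.Lib.Helper12_PrimeDeg

/-- A non-solvable transitive permutation group of prime degree `p` whose Sylow `p`-normaliser has even order is triply transitive. -/
theorem result {α : Type*} [Fintype α] [DecidableEq α] {p : ℕ} [Fact p.Prime] (hα : Fintype.card α = p) (G : Subgroup (Equiv.Perm α)) [MulAction.IsPretransitive G α] (hG : ¬ Group.IsSolvable G) (P : Sylow p G) (heven : Even (Nat.card (Subgroup.normalizer ((P : Subgroup G) : Set G)))) : MulAction.IsMultiplyPretransitive G α 3 := by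
  classical
  have hpp := (Fact.out : p.Prime)
  have hne : Nonempty α := by
    rw [← Fintype.card_pos_iff, hα]; exact hpp.pos
  obtain ⟨a₀⟩ := hne
  have hstabidx : ∀ a : α, (MulAction.stabilizer G a).index = p := by
    intro a
    have h1 : (MulAction.stabilizer G a).index = Nat.card α :=
      MulAction.index_stabilizer_of_transitive G a
    rwa [Nat.card_eq_fintype_card, hα] at h1
  have hdvd : p ∣ Nat.card G := by
    rw [← hstabidx a₀]
    exact Subgroup.index_dvd_card _
  have hGdvd : Nat.card G ∣ p.factorial := by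
    have := Subgroup.card_subgroup_dvd_card G
    rwa [Nat.card_eq_fintype_card (α := Equiv.Perm α), Fintype.card_perm, hα] at this
  -- the Sylow subgroup has order `p`
  have hPcard : Nat.card (P : Subgroup G) = p := by
    obtain ⟨k, hk⟩ := IsPGroup.iff_card.mp P.isPGroup'
    have hk1 : k ≠ 0 := by
      rintro rfl
      rw [pow_zero] at hk
      exact P.ne_bot_of_dvd_card hdvd ((P : Subgroup G).eq_bot_of_card_eq hk)
    have hk2 : k < 2 := by
      by_contra hk2
      have hk2 : 2 ≤ k := by omega
      apply Cfsg.Agent.S0677.not_sq_dvd_factorial hpp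
      refine Dvd.dvd.trans ?_ hGdvd
      refine Dvd.dvd.trans ?_ (Subgroup.card_subgroup_dvd_card (P : Subgroup G))
      rw [hk, ← pow_two]
      exact pow_dvd_pow p hk2
    have : k = 1 := by omega
    rw [hk, this, pow_one]
  -- an involution in the normaliser
  obtain ⟨t, ht⟩ := exists_prime_orderOf_dvd_card' 2 (even_iff_two_dvd.mp heven)
  -- a generator of `P`
  obtain ⟨c, hc⟩ := exists_prime_orderOf_dvd_card' (G := (P : Subgroup G)) p
    (by rw [hPcard])
  have hc1 : c ≠ 1 := by
    rintro rfl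
    rw [orderOf_one] at hc
    exact hpp.one_lt.ne hc
  have hc' : orderOf (((c : G) : Equiv.Perm α)) = p := by
    rw [Subgroup.orderOf_coe, Subgroup.orderOf_coe]; exact hc
  obtain ⟨e, he⟩ := exists_labelling_of_orderOf hα (((c : G) : Equiv.Perm α)) hc'
  set Φ : Equiv.Perm α →* Equiv.Perm (ZMod p) := (e.permCongrHom : Equiv.Perm α →* Equiv.Perm (ZMod p))
    with hΦ
  have hΦinj : Function.Injective Φ := e.permCongrHom.injective
  have hΦapp : ∀ (σ : Equiv.Perm α) (x : ZMod p), Φ σ x = e (σ (e.symm x)) := fun σ x => rfl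
  -- the involution normalises `⟨c⟩`
  have htc : ((t : G) * (c : G) * (t : G)⁻¹) ∈ (P : Subgroup G) := by
    have := (Subgroup.mem_normalizer_iff.mp t.2 (c : G)).mp c.2
    exact this
  obtain ⟨k, hk⟩ : ∃ k : ℤ, c ^ k = ⟨(t : G) * (c : G) * (t : G)⁻¹, htc⟩ :=
    Subgroup.mem_zpowers_iff.mp (mem_zpowers_of_prime_card hPcard hc1)
  have hk' : (((c : G) : Equiv.Perm α)) ^ k =
      (((t : G) : G) : Equiv.Perm α) * ((c : G) : Equiv.Perm α) * (((t : G) : G) : Equiv.Perm α)⁻¹ := by
    have := congrArg (fun x : (P : Subgroup G) => ((x : G) : Equiv.Perm α)) hk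
    simpa using this
  set G' : Subgroup (Equiv.Perm (ZMod p)) := G.map Φ with hG'
  have hτ : Equiv.addRight (1 : ZMod p) ∈ G' := Subgroup.mem_map.mpr ⟨_, (c : G).2, he⟩
  set t' : Equiv.Perm (ZMod p) := Φ (((t : G) : G) : Equiv.Perm α) with ht'
  have ht'G : t' ∈ G' := Subgroup.mem_map.mpr ⟨_, (t : G).2, rfl⟩
  have htt : t * t = 1 := by
    rw [← pow_two, ← ht]; exact pow_orderOf_eq_one t
  have ht1 : t ≠ 1 := by
    rintro rfl
    rw [orderOf_one] at ht
    omega
  have ht'2 : t' * t' = 1 := by
    rw [ht', ← map_mul]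
    have : (((t : G) : G) : Equiv.Perm α) * (((t : G) : G) : Equiv.Perm α) = 1 := by
      have := congrArg (fun x : Subgroup.normalizer ((P : Subgroup G) : Set G) =>
        ((x : G) : Equiv.Perm α)) htt
      simpa using this
    rw [this, map_one]
  have ht'1 : t' ≠ 1 := by
    intro h
    apply ht1
    rw [ht', ← map_one Φ] at h
    have h1 := hΦinj h
    apply Subtype.ext
    apply Subtype.ext
    exact h1
  have htn : t' * Equiv.addRight 1 * t'⁻¹ = Equiv.addRight (k • (1 : ZMod p)) := by
    rw [← Equiv.zsmul_addRight, ← he, ht', ← map_inv, ← map_mul, ← map_mul, ← map_zpow, hk']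
  -- `G'` is not affine
  have hnaff : ¬ G' ≤ Cfsg.affineGroup (ZMod p) := by
    intro haff
    apply hG
    have hsolv : Group.IsSolvable G' := isSolvable_of_le_affineGroup G' haff
    exact Group.isSolvable_of_isSolvable_injective (f := (Φ.subgroupMap G))
      (by
        intro x y hxy
        apply Subtype.ext
        have := congrArg Subtype.val hxy
        exact hΦinj this)
  have hp3 : 3 ≤ p := three_le_of_not_affine G' hnaff
  have htx := reflection_of_involution hp3 t' _ htn ht'2 ht'1
  have hcore := three_transitive_core G' hτ hnaff t' ht'G (t' 0) htx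
  -- back to `α`
  show MulAction.IsPretransitive G (Fin 3 ↪ α)
  refine ⟨fun x y => ?_⟩
  have hx : ∀ i j : Fin 3, i ≠ j → e (x i) ≠ e (x j) := fun i j hij h =>
    hij (x.injective (e.injective h))
  have hy : ∀ i j : Fin 3, i ≠ j → e (y i) ≠ e (y j) := fun i j hij h =>
    hij (y.injective (e.injective h))
  obtain ⟨g', hg', g0, g1, g2⟩ := hcore (e (x 0)) (e (x 1)) (e (x 2)) (e (y 0)) (e (y 1)) (e (y 2))
    (hx 0 1 (by decide)) (hx 0 2 (by decide)) (hx 1 2 (by decide))
    (hy 0 1 (by decide)) (hy 0 2 (by decide)) (hy 1 2 (by decide))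
  obtain ⟨g, hg, rfl⟩ := Subgroup.mem_map.mp hg'
  rw [hΦapp, Equiv.symm_apply_apply] at g0 g1 g2
  refine ⟨⟨g, hg⟩, ?_⟩
  ext i
  rw [Function.Embedding.smul_apply]
  show g (x i) = y i
  fin_cases i
  · exact e.injective g0
  · exact e.injective g1
  · exact e.injective g2

end Cfsg.Agent.S0676
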