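import Cfsg.Statements.S0989
import Cfsg.Agent.Lib.Helper17_Sylow

set_option autoImplicit false
open Cfsg

namespace Cfsg.Agent.S0989

open Cfsg.Agent.Lib.Helper17_Sylow Subgroup

/-- In a symmetric group of degree less than `2p`, elements of order `p` are exactly
the `p`-cycles. -/
theorem orderOf_eq_prime_iff_cycleType {α : Type*} [Fintype α] [DecidableEq α] {p : ℕ}
    [hp : Fact p.Prime] (hα : Fintype.card α < 2 * p) (g : Equiv.Perm α) :
    orderOf g = p ↔ g.cycleType = {p} := by
  constructor
  · intro h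
    have hc : g.IsCycle := Equiv.Perm.isCycle_of_prime_order' (h ▸ hp.out) (h ▸ hα)
    rw [hc.cycleType, ← hc.orderOf, h]
  · intro h
    rw [← Equiv.Perm.lcm_cycleType, h, Multiset.lcm_singleton]
    simp

/-- The number of elements of order `p` in a symmetric group of degree `n < 2p`. -/
theorem card_orderOf_eq_prime_perm {α : Type*} [Fintype α] [DecidableEq α] {p : ℕ}
    [hp : Fact p.Prime] (hα : Fintype.card α < 2 * p) (hα' : p ≤ Fintype.card α) :
    Nat.card {g : Equiv.Perm α // orderOf g = p} =
      (p - 1).factorial * (Fintype.card α).choose p := by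
  rw [← Equiv.Perm.card_of_cycleType_singleton hp.out.two_le hα']
  rw [Nat.card_eq_fintype_card, Fintype.card_subtype]
  congr 1
  ext g
  simp only [Finset.mem_filter, Finset.mem_univ, true_and]
  exact orderOf_eq_prime_iff_cycleType hα g

/-- The order of the symmetric group on `p` or `p + 1` letters is `p * m` with `p ∤ m`. -/
theorem card_perm_eq {α : Type*} [Fintype α] [DecidableEq α] (p' : ℕ) [hp : Fact (p' + 1).Prime]
    (hα : Fintype.card α = p' + 1 ∨ Fintype.card α = p' + 1 + 1) :
    ∃ m, Nat.card (Equiv.Perm α) = (p' + 1) ^ 1 * m ∧ ¬ (p' + 1) ∣ m ∧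
      p'.factorial * (Fintype.card α).choose (p' + 1) = m := by
  have hndvd : ¬ (p' + 1) ∣ p'.factorial := by
    rw [hp.out.dvd_factorial]; omega
  have hp2 : 2 ≤ p' + 1 := hp.out.two_le
  rcases hα with h | h
  · refine ⟨p'.factorial, ?_, hndvd, ?_⟩
    · rw [Nat.card_perm, Nat.card_eq_fintype_card, h, Nat.factorial_succ, pow_one]
    · rw [h, Nat.choose_self, mul_one]
  · refine ⟨p'.factorial * (p' + 1 + 1), ?_, ?_, ?_⟩
    · rw [Nat.card_perm, Nat.card_eq_fintype_card, h, Nat.factorial_succ, Nat.factorial_succ,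
        pow_one]
      ring
    · intro hd
      rcases (Nat.Prime.dvd_mul hp.out).mp hd with h1 | h1
      · exact hndvd h1
      · have : (p' + 1) ∣ 1 := by
          have := (Nat.dvd_add_right (dvd_refl (p' + 1))).mp h1
          exact this
        have := Nat.le_of_dvd one_pos this
        omega
    · rw [h, Nat.choose_succ_self_right]

/-- The Sylow `p`-subgroups of the symmetric group on `p` or `p + 1` letters have order `p`. -/
theorem card_sylow_perm {α : Type*} [Fintype α] [DecidableEq α] (p : ℕ) [hp : Fact p.Prime]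
    (hα : Fintype.card α = p ∨ Fintype.card α = p + 1) (Q : Sylow p (Equiv.Perm α)) :
    Nat.card (Q : Subgroup (Equiv.Perm α)) = p := by
  have hp2 : 2 ≤ p := hp.out.two_le
  obtain ⟨p', rfl⟩ : ∃ p', p = p' + 1 := ⟨p - 1, by omega⟩
  obtain ⟨m, hm1, hm2, -⟩ := card_perm_eq p' hα
  have := card_sylow_eq_pow hm1 hm2 Q
  rwa [pow_one] at this

/-- In the symmetric group on p or p + 1 letters, p a prime, the normalizer of a Sylow p-subgroup has order p * (p - 1). -/
theorem result {α : Type*} [Fintype α] [DecidableEq α] (p : ℕ) [Fact p.Prime] (hα : Fintype.card α = p ∨ Fintype.card α = p + 1) (P : Sylow p (Equiv.Perm α)) : Nat.card ↥(Subgroup.normalizer ((P : Subgroup (Equiv.Perm α)) : Set (Equiv.Perm α))) = p * (p - 1) := by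
  have hp : p.Prime := Fact.out
  have hp2 : 2 ≤ p := hp.two_le
  have hPcard := card_sylow_perm p hα
  obtain ⟨p', rfl⟩ : ∃ p', p = p' + 1 := ⟨p - 1, by omega⟩
  obtain ⟨m, hm1, hm2, hm3⟩ := card_perm_eq p' hα
  have hcount := card_orderOf_eq_prime hPcard
  have hα1 : Fintype.card α < 2 * (p' + 1) := by rcases hα with h | h <;> omega
  have hα2 : p' + 1 ≤ Fintype.card α := by rcases hα with h | h <;> omega
  rw [card_orderOf_eq_prime_perm hα1 hα2] at hcount
  simp only [Nat.add_sub_cancel] at hcount ⊢
  rw [hm3] at hcount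
  have hN := card_normalizer_mul_card_sylow P
  rw [hm1, pow_one, hcount] at hN
  have hnpos : 0 < Nat.card (Sylow (p' + 1) (Equiv.Perm α)) := Nat.card_pos
  apply Nat.eq_of_mul_eq_mul_right hnpos
  rw [hN]
  ring

end Cfsg.Agent.S0989
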