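import Cfsg.Statements.S1013
import Cfsg.Agent.Lib.Helper17_Sylow
import Cfsg.Agent.S0989

set_option autoImplicit false
open Cfsg

namespace Cfsg.Agent.S1013

open Cfsg.Agent.Lib.Helper17_Sylow Subgroup
open scoped Pointwise

theorem sylow_le_of_normal {G : Type*} [Group G] [Finite G] {p : ℕ} [Fact p.Prime]
    (K : Subgroup G) [hK : K.Normal] (Q P : Sylow p G) (hQ : (Q : Subgroup G) ≤ K) :
    (P : Subgroup G) ≤ K := by
  obtain ⟨g, rfl⟩ := MulAction.exists_smul_eq G Q P
  intro x hx
  have hx' : x ∈ (MulAut.conj g • (Q : Subgroup G)) := by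
    rw [← Sylow.pointwise_smul_def, ← Sylow.smul_def]; exact hx
  obtain ⟨y, hy, rfl⟩ := (Subgroup.mem_smul_pointwise_iff_exists _ _ _).mp hx'
  rw [MulAut.smul_def, MulAut.conj_apply]
  exact hK.conj_mem _ (hQ hy) g

/-- A subgroup of a permutation group fixing every point is trivial. -/
theorem eq_bot_of_forall_smul_eq {α : Type*} (G : Subgroup (Equiv.Perm α)) (K : Subgroup ↥G)
    (h : ∀ k ∈ K, ∀ a : α, k • a = a) : K = ⊥ := by
  rw [Subgroup.eq_bot_iff_forall]
  intro k hk
  apply Subtype.ext
  apply Equiv.ext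
  intro a
  exact h k hk a

/-- The order of a transitive permutation group of prime degree `p` is `p * c` with `p ∤ c`. -/
theorem card_eq_of_pretransitive {α : Type*} [Fintype α] [DecidableEq α] {p : ℕ}
    [hp : Fact p.Prime] (hα : Fintype.card α = p) (G : Subgroup (Equiv.Perm α))
    (K : Subgroup ↥G) [MulAction.IsPretransitive ↥K α] (a : α) :
    Nat.card K = p ^ 1 * Nat.card (MulAction.stabilizer ↥K a) ∧
      ¬ p ∣ Nat.card (MulAction.stabilizer ↥K a) := by
  have hp2 : 2 ≤ p := hp.out.two_le
  have h1 := MulAction.index_stabilizer_of_transitive ↥K a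
  rw [Nat.card_eq_fintype_card, hα] at h1
  have h2 := Subgroup.card_mul_index (MulAction.stabilizer ↥K a)
  rw [h1] at h2
  refine ⟨by rw [← h2, pow_one, mul_comm], ?_⟩
  intro hdvd
  obtain ⟨p', rfl⟩ : ∃ p', p = p' + 1 := ⟨p - 1, by omega⟩
  obtain ⟨m, hm1, hm2, -⟩ := Cfsg.Agent.S0989.card_perm_eq p' (Or.inl hα)
  have h3 : Nat.card K ∣ Nat.card (Equiv.Perm α) :=
    (Subgroup.card_subgroup_dvd_card K).trans (Subgroup.card_subgroup_dvd_card G)
  rw [← h2, hm1, pow_one, mul_comm] at h3
  have h4 := Nat.dvd_of_mul_dvd_mul_left (Nat.succ_pos p') h3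
  exact hm2 (hdvd.trans h4)

set_option maxHeartbeats 1000000 in
/-- Let G be a transitive permutation group of prime degree p having more than one Sylow p-subgroup, and suppose a Sylow p-subgroup P has prime index in its normalizer. Then G is simple. -/
theorem result {α : Type*} [Fintype α] [DecidableEq α] {p : ℕ} [Fact p.Prime] (hα : Fintype.card α = p) (G : Subgroup (Equiv.Perm α)) [MulAction.IsPretransitive ↥G α] (P : Sylow p ↥G) (hn : 1 < Nat.card (Sylow p ↥G)) (ht : (((P : Subgroup ↥G).subgroupOf (Subgroup.normalizer ((P : Subgroup ↥G) : Set ↥G))).index).Prime) : IsSimpleGroup ↥G := by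
  have hp : p.Prime := Fact.out
  have hαne : Nonempty α := by
    rw [← Fintype.card_pos_iff, hα]; exact hp.pos
  obtain ⟨a₀⟩ := hαne
  have hprim : MulAction.IsPreprimitive ↥G α :=
    MulAction.IsPreprimitive.of_prime_card (by rw [Nat.card_eq_fintype_card, hα]; exact hp)
  -- order of G and of P
  have htopT : MulAction.IsPretransitive ↥(⊤ : Subgroup ↥G) α := by
    constructor
    intro x y
    obtain ⟨g, hg⟩ := MulAction.exists_smul_eq ↥G x y
    exact ⟨⟨g, Subgroup.mem_top g⟩, hg⟩
  obtain ⟨hG1, hG2⟩ := card_eq_of_pretransitive hα G ⊤ a₀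
  rw [Subgroup.card_top] at hG1
  have hPcard : ∀ Q : Sylow p ↥G, Nat.card (Q : Subgroup ↥G) = p := by
    intro Q
    have := card_sylow_eq_pow hG1 hG2 Q
    rwa [pow_one] at this
  have hnt : Nontrivial ↥G := by
    rw [← Finite.one_lt_card_iff_nontrivial, hG1, pow_one]
    have : 0 < Nat.card (MulAction.stabilizer ↥(⊤ : Subgroup ↥G) a₀) := Nat.card_pos
    have := hp.one_lt
    nlinarith
  refine ⟨fun K hK => ?_⟩
  by_contra hcon
  push Not at hcon
  obtain ⟨hKbot, hKtop⟩ := hcon
  -- K acts transitively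
  have hfix : MulAction.fixedPoints ↥K α ≠ Set.univ := by
    intro h
    apply hKbot
    apply eq_bot_of_forall_smul_eq G K
    intro k hk a
    have : a ∈ MulAction.fixedPoints ↥K α := h ▸ Set.mem_univ a
    exact this ⟨k, hk⟩
  have hKtrans : MulAction.IsPretransitive ↥K α :=
    MulAction.IsQuasiPreprimitive.isPretransitive_of_normal hfix
  -- K contains a Sylow p-subgroup, hence all of them
  have hKc := fun a => card_eq_of_pretransitive hα G K a
  have hpK : p ∣ Nat.card K := by
    rw [(hKc a₀).1, pow_one]; exact dvd_mul_right _ _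
  obtain ⟨k, hk⟩ := exists_prime_orderOf_dvd_card' p hpK
  have hko : orderOf ((k : ↥G)) = p := by rw [Subgroup.orderOf_coe]; exact hk
  have hpg : IsPGroup p (zpowers (k : ↥G)) := by
    apply IsPGroup.of_card (n := 1)
    rw [Nat.card_zpowers, hko, pow_one]
  obtain ⟨Q, hQle⟩ := hpg.exists_le_sylow
  have hQeq := sylow_eq_zpowers Q (hPcard Q) (k : ↥G) (hQle (mem_zpowers _)) hko
  have hQK : (Q : Subgroup ↥G) ≤ K := by
    rw [hQeq, zpowers_le]; exact k.2
  have hPK : (P : Subgroup ↥G) ≤ K := sylow_le_of_normal K Q P hQK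
  -- Frattini
  have hfr := Sylow.normalizer_sup_eq_top (P.subtype hPK)
  rw [Sylow.coe_subtype, Subgroup.subgroupOf_map_subtype, inf_of_le_left hPK] at hfr
  -- the intersection M = K ⊓ N(P)
  have hPN : (P : Subgroup ↥G) ≤ normalizer ((P : Subgroup ↥G) : Set ↥G) := Subgroup.le_normalizer
  have hPM : (P : Subgroup ↥G) ≤ K ⊓ normalizer ((P : Subgroup ↥G) : Set ↥G) := le_inf hPK hPN
  have hmul := Subgroup.relIndex_mul_relIndex (P : Subgroup ↥G)
    (K ⊓ normalizer ((P : Subgroup ↥G) : Set ↥G)) (normalizer ((P : Subgroup ↥G) : Set ↥G))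
    hPM inf_le_right
  have ht' : ((P : Subgroup ↥G).relIndex (normalizer ((P : Subgroup ↥G) : Set ↥G))).Prime := ht
  rw [← hmul] at ht'
  rcases (Nat.prime_mul_iff.mp ht') with ⟨_, h1⟩ | ⟨_, h1⟩
  · -- N ≤ M ≤ K so K = ⊤
    have h2 : normalizer ((P : Subgroup ↥G) : Set ↥G) ≤ K ⊓ normalizer ((P : Subgroup ↥G) : Set ↥G) :=
      Subgroup.relIndex_eq_one.mp h1
    have h3 : normalizer ((P : Subgroup ↥G) : Set ↥G) ≤ K := h2.trans inf_le_left
    apply hKtop
    rw [← hfr]
    exact (sup_eq_right.mpr h3).symm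
  · -- M ≤ P: P is self-normalizing in K
    have h2 : K ⊓ normalizer ((P : Subgroup ↥G) : Set ↥G) ≤ (P : Subgroup ↥G) :=
      Subgroup.relIndex_eq_one.mp h1
    have hP'card : Nat.card ((P.subtype hPK : Sylow p ↥K) : Subgroup ↥K) = p := by
      rw [Sylow.coe_subtype, Nat.card_congr (Subgroup.subgroupOfEquivOfLe hPK).toEquiv]
      exact hPcard P
    have hcyc : IsCyclic ((P.subtype hPK : Sylow p ↥K) : Subgroup ↥K) :=
      isCyclic_of_prime_card hP'card
    have hNC : normalizer (((P.subtype hPK : Sylow p ↥K) : Subgroup ↥K) : Set ↥K) ≤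
        centralizer (((P.subtype hPK : Sylow p ↥K) : Subgroup ↥K) : Set ↥K) := by
      refine le_trans ?_ (le_centralizer_of_isCyclic _)
      rw [Sylow.coe_subtype, ← Subgroup.subgroupOf_normalizer_eq hPK]
      intro x hx
      rw [Subgroup.mem_subgroupOf] at hx ⊢
      exact h2 ⟨x.2, hx⟩
    have hcompl := MonoidHom.ker_transferSylow_isComplement' (P.subtype hPK) hNC
    have hcm := hcompl.card_mul_card
    rw [hP'card] at hcm
    -- every point stabilizer in K lies in the kernel
    have hstab : ∀ a : α, MulAction.stabilizer ↥K a = (MonoidHom.transferSylow (P.subtype hPK) hNC).ker := by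
      intro a
      obtain ⟨hc1, hc2⟩ := hKc a
      apply Subgroup.eq_of_le_of_card_ge
      · intro x hx
        rw [MonoidHom.mem_ker]
        have ho1 : orderOf x ∣ Nat.card (MulAction.stabilizer ↥K a) := by
          have := orderOf_dvd_natCard (⟨x, hx⟩ : MulAction.stabilizer ↥K a)
          rwa [Subgroup.orderOf_mk] at this
        have ho2 : orderOf (MonoidHom.transferSylow (P.subtype hPK) hNC x) ∣ orderOf x :=
          orderOf_map_dvd _ x
        have ho3 : orderOf (MonoidHom.transferSylow (P.subtype hPK) hNC x) ∣ p := by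
          have := orderOf_dvd_natCard (MonoidHom.transferSylow (P.subtype hPK) hNC x)
          rwa [hP'card] at this
        rcases (Nat.dvd_prime hp).mp ho3 with h | h
        · exact orderOf_eq_one_iff.mp h
        · exfalso
          apply hc2
          rw [← h]
          exact ho2.trans ho1
      · rw [hc1, pow_one] at hcm
        have hpos : 0 < p := hp.pos
        have : Nat.card (MonoidHom.transferSylow (P.subtype hPK) hNC).ker =
            Nat.card (MulAction.stabilizer ↥K a) := by
          apply Nat.eq_of_mul_eq_mul_right hpos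
          rw [hcm, mul_comm]
        rw [this]
    -- hence the kernel is trivial
    have hkerbot : (MonoidHom.transferSylow (P.subtype hPK) hNC).ker = ⊥ := by
      rw [Subgroup.eq_bot_iff_forall]
      intro x hx
      apply Subtype.ext
      apply Subtype.ext
      apply Equiv.ext
      intro a
      have : x ∈ MulAction.stabilizer ↥K a := by rw [hstab a]; exact hx
      exact this
    rw [hkerbot, Subgroup.card_bot, one_mul] at hcm
    -- so K = P, and P is normal: contradiction
    have hKP : (P : Subgroup ↥G) = K := by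
      apply Subgroup.eq_of_le_of_card_ge hPK
      rw [hPcard P, hcm]
    have hPn : (P : Subgroup ↥G).Normal := hKP ▸ hK
    have hu := Sylow.unique_of_normal P hPn
    have : Nat.card (Sylow p ↥G) = 1 := Nat.card_unique
    omega

end Cfsg.Agent.S1013
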