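import Cfsg.Statements.S2301
import Cfsg.Agent.Lib.Helper38_SL2
import Cfsg.Agent.Lib.Helper5_SLCard

set_option autoImplicit false
open Cfsg

namespace Cfsg.Agent.S2301
open Matrix Cfsg.Agent.Lib.Helper38_SL2
set_option linter.unusedSectionVars false
set_option linter.unusedVariables false


theorem card_carrier_eq_index {G : Type*} [Group G] (g : G) :
    Nat.card (ConjClasses.mk g).carrier = (Subgroup.centralizer ({g} : Set G)).index := by
  have h1 : (Subgroup.centralizer ({g} : Set G)).index =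
      (MulAction.stabilizer (ConjAct G) g).index := by
    rw [Subgroup.centralizer_eq_comap_stabilizer]
    exact Subgroup.index_comap_of_surjective _ (ConjAct.toConjAct (G := G)).surjective
  rw [h1, MulAction.index_stabilizer, ConjAct.orbit_eq_carrier_conjClasses, Nat.card_coe_set_eq]

theorem card_carrier_mul {G : Type*} [Group G] (g : G) :
    Nat.card (Subgroup.centralizer ({g} : Set G)) * Nat.card (ConjClasses.mk g).carrier = Nat.card G := by
  rw [card_carrier_eq_index, Subgroup.card_mul_index]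

section
variable {F : Type*} [Field F]

/-- upper unitriangular -/
def ub (b : F) : SpecialLinearGroup (Fin 2) F := mk2 1 b 0 1 (by ring)

theorem ub_mul (b b' : F) : ub b * ub b' = ub (b + b') := by
  rw [ub, ub, ub, mk2_mul, mk2_eq_iff]
  refine ⟨by ring, by ring, by ring, by ring⟩

theorem ub_zero : ub (0 : F) = 1 := by rw [ub, one_eq_mk2]

theorem ub_pow (b : F) (n : ℕ) : ub b ^ n = ub (n * b) := by
  induction n with
  | zero => simp [ub_zero]
  | succ k ih => rw [pow_succ, ih, ub_mul]; congr 1; push_cast; ring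

theorem ub_inj {b b' : F} (h : ub b = ub b') : b = b' := by
  rw [ub, ub, mk2_eq_iff] at h
  exact h.2.1

theorem orderOf_ub (p : ℕ) [Fact p.Prime] [CharP F p] (b : F) (hb : b ≠ 0) : orderOf (ub b) = p := by
  rw [orderOf_eq_prime_iff]
  constructor
  · rw [ub_pow, CharP.cast_eq_zero, zero_mul, ub_zero]
  · rw [← ub_zero]
    intro h
    exact hb (ub_inj h)

/-- conjugacy of upper unitriangulars -/
theorem isConj_ub_iff (b b' : F) (hb : b ≠ 0) (hb' : b' ≠ 0) :
    IsConj (ub b) (ub b') ↔ IsSquare (b * b') := by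
  constructor
  · intro h
    obtain ⟨X, hX⟩ := isConj_iff.mp h
    have hX' : X * ub b = ub b' * X := by rw [← hX]; group
    obtain ⟨α, β, γ, δ, hdet, rfl⟩ := exists_eq_mk2 X
    rw [ub, ub, mk2_mul, mk2_mul, mk2_eq_iff] at hX'
    obtain ⟨e1, e2, e3, e4⟩ := hX'
    have hγ : γ = 0 := by
      have : b' * γ = 0 := by linear_combination -e1
      rcases mul_eq_zero.mp this with h | h
      · exact absurd h hb'
      · exact h
    rw [hγ] at hdet
    refine ⟨α * b, ?_⟩
    -- α b = b' δ, α δ = 1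
    have h1 : α * b = b' * δ := by linear_combination e2
    have h2 : α * δ = 1 := by linear_combination hdet
    calc b * b' = b * b' * (α * δ) := by rw [h2, mul_one]
      _ = (α * b) * (b' * δ) := by ring
      _ = α * b * (α * b) := by rw [← h1]
  · rintro ⟨t, ht⟩
    have ht0 : t ≠ 0 := by
      rintro rfl
      rw [mul_zero] at ht
      exact (mul_ne_zero hb hb') ht
    rw [isConj_iff]
    have hdet : (t / b) * (b / t) - 0 * 0 = 1 := by field_simp; ring
    refine ⟨mk2 (t / b) 0 0 (b / t) hdet, ?_⟩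
    suffices h : mk2 (t / b) 0 0 (b / t) hdet * ub b = ub b' * mk2 (t / b) 0 0 (b / t) hdet by
      rw [h]; group
    rw [ub, ub, mk2_mul, mk2_mul, mk2_eq_iff]
    refine ⟨by ring, ?_, by ring, by ring⟩
    field_simp
    linear_combination -ht

/-- shape of elements of order `p` -/
theorem shape_p (p : ℕ) [Fact p.Prime] [CharP F p] (a b c d : F) (h) (hg : orderOf (mk2 a b c d h) = p) :
    a + d = 2 ∧ (a - 1) * (a - 1) + b * c = 0 ∧ ¬ (b = 0 ∧ c = 0) := by
  have hp : p.Prime := Fact.out
  obtain ⟨hgp, hg1⟩ := orderOf_eq_prime_iff.mp hg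
  set M : Matrix (Fin 2) (Fin 2) F := !![a, b; c, d] with hM
  have hMp : M ^ p = 1 := by
    have := congrArg (fun x : SpecialLinearGroup (Fin 2) F => (x : Matrix (Fin 2) (Fin 2) F)) hgp
    simpa using this
  have hNp : (M - 1) ^ p = 0 := by
    rw [sub_pow_char_of_commute (p := p) (h := Commute.one_right M), hMp, one_pow, sub_self]
  have hnil : IsNilpotent (M - 1) := ⟨p, hNp⟩
  have htr : (M - 1).trace = 0 := (Matrix.isNilpotent_trace_of_isNilpotent hnil).eq_zero
  have hdet : (M - 1).det = 0 := by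
    have : IsNilpotent (M - 1).det := by
      obtain ⟨k, hk⟩ := hnil
      exact ⟨k, by rw [← Matrix.det_pow, hk]; simp⟩
    exact this.eq_zero
  rw [Matrix.trace_fin_two] at htr
  rw [Matrix.det_fin_two] at hdet
  simp [hM] at htr hdet
  have had : a + d = 2 := by linear_combination htr
  refine ⟨had, ?_, ?_⟩
  · have hd : d = 2 - a := by linear_combination had
    rw [hd] at hdet
    linear_combination -hdet
  · rintro ⟨hb, hc⟩
    apply hg1
    rw [one_eq_mk2, mk2_eq_iff]
    have hd : d = 2 - a := by linear_combination had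
    rw [hd, hb] at hdet
    have ha : (a - 1) * (a - 1) = 0 := by linear_combination -hdet
    have ha1 : a = 1 := by
      have := mul_self_eq_zero.mp ha
      linear_combination this
    refine ⟨ha1, hb, hc, ?_⟩
    rw [hd, ha1]; ring

/-- every element of order `p` is conjugate to some `ub β`, `β ≠ 0` -/
theorem conj_ub (p : ℕ) [Fact p.Prime] [CharP F p] (g : SpecialLinearGroup (Fin 2) F)
    (hg : orderOf g = p) : ∃ β : F, β ≠ 0 ∧ IsConj (ub β) g := by
  obtain ⟨a, b, c, d, hdet, rfl⟩ := exists_eq_mk2 g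
  obtain ⟨had, e1, hbc⟩ := shape_p p a b c d hdet hg
  have hd : d = 2 - a := by linear_combination had
  subst hd
  by_cases hc : c = 0
  · have hb : b ≠ 0 := fun hb => hbc ⟨hb, hc⟩
    refine ⟨b, hb, ?_⟩
    have ha1 : a = 1 := by
      rw [hc, mul_zero, add_zero] at e1
      have := mul_self_eq_zero.mp e1
      linear_combination this
    have : mk2 a b c (2 - a) hdet = ub b := by
      rw [ub, mk2_eq_iff]
      exact ⟨ha1, rfl, hc, by rw [ha1]; ring⟩
    rw [this]
  · refine ⟨-1 / c, div_ne_zero (neg_ne_zero.mpr one_ne_zero) hc, ?_⟩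
    rw [isConj_iff]
    have hdetX : (a - 1) * 0 - (-1 / c) * c = 1 := by field_simp; ring
    refine ⟨mk2 (a - 1) (-1 / c) c 0 hdetX, ?_⟩
    suffices h : mk2 (a - 1) (-1 / c) c 0 hdetX * ub (-1 / c) = mk2 a b c (2 - a) hdet * mk2 (a - 1) (-1 / c) c 0 hdetX by
      rw [h]; group
    rw [ub, mk2_mul, mk2_mul, mk2_eq_iff]
    refine ⟨?_, ?_, ?_, ?_⟩
    · linear_combination -e1
    · field_simp; ring
    · ring
    · field_simp; ring

end



section
variable {F : Type*} [Field F] [Fintype F]

theorem isSquare_mul_of_not (a b : F) (ha : ¬ IsSquare a) (hb : ¬ IsSquare b) : IsSquare (a * b) := by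
  classical
  have ha0 : a ≠ 0 := by rintro rfl; exact ha IsSquare.zero
  have hb0 : b ≠ 0 := by rintro rfl; exact hb IsSquare.zero
  rw [← quadraticChar_one_iff_isSquare (mul_ne_zero ha0 hb0), map_mul,
    quadraticChar_neg_one_iff_not_isSquare.mpr ha, quadraticChar_neg_one_iff_not_isSquare.mpr hb]
  norm_num

theorem card_SL2 : Nat.card (SpecialLinearGroup (Fin 2) F) = Fintype.card F * (Fintype.card F ^ 2 - 1) := by
  have h1 := Cfsg.Agent.Lib.Helper5_SLCard.card_GL_eq_card_SL_mul (F := F) 2 (by norm_num)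
  have h2 := Matrix.card_GL_field (𝔽 := F) 2
  rw [h2, Fin.prod_univ_two] at h1
  simp only [Fin.val_zero, Fin.val_one, pow_zero, pow_one] at h1
  have hq : 2 ≤ Fintype.card F := Fintype.one_lt_card
  set q := Fintype.card F
  have hq1 : 0 < q - 1 := by omega
  have h3 : q ^ 2 - q = q * (q - 1) := by
    rw [pow_two, Nat.mul_sub, mul_one]
  rw [h3] at h1
  have h4 : (q * (q ^ 2 - 1)) * (q - 1) = Nat.card (SpecialLinearGroup (Fin 2) F) * (q - 1) := by
    rw [← h1]; ring
  exact (Nat.eq_of_mul_eq_mul_right hq1 h4).symm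

end


section
variable {F : Type*} [Field F] [Fintype F]

theorem mem_centralizer_ub_iff (β : F) (hβ : β ≠ 0) (a b c d : F) (h) :
    mk2 a b c d h ∈ Subgroup.centralizer ({ub β} : Set (SpecialLinearGroup (Fin 2) F)) ↔
      c = 0 ∧ d = a := by
  rw [Subgroup.mem_centralizer_singleton_iff, ub, mk2_mul, mk2_mul, mk2_eq_iff]
  constructor
  · rintro ⟨e1, e2, e3, e4⟩
    have hc : c = 0 := by
      have : β * c = 0 := by linear_combination -e1
      rcases mul_eq_zero.mp this with h | h
      · exact absurd h hβ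
      · exact h
    refine ⟨hc, ?_⟩
    have : β * (d - a) = 0 := by linear_combination -e2
    rcases mul_eq_zero.mp this with h | h
    · exact absurd h hβ
    · linear_combination h
  · rintro ⟨rfl, rfl⟩
    refine ⟨by ring, by ring, by ring, by ring⟩

/-- the centralizer of `ub β` as pairs -/
noncomputable def centEquiv (β : F) (hβ : β ≠ 0) :
    Subgroup.centralizer ({ub β} : Set (SpecialLinearGroup (Fin 2) F)) ≃ {α : F // α * α = 1} × F where
  toFun X := (⟨X.1 0 0, by
    obtain ⟨X, hX⟩ := X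
    obtain ⟨a, b, c, d, h, rfl⟩ := exists_eq_mk2 X
    obtain ⟨rfl, rfl⟩ := (mem_centralizer_ub_iff β hβ a b c d h).mp hX
    simp only [mk2_apply_00]
    linear_combination h⟩, X.1 0 1)
  invFun v := ⟨mk2 v.1.1 v.2 0 v.1.1 (by linear_combination v.1.2),
    (mem_centralizer_ub_iff β hβ _ _ _ _ _).mpr ⟨rfl, rfl⟩⟩
  left_inv X := by
    obtain ⟨X, hX⟩ := X
    obtain ⟨a, b, c, d, h, rfl⟩ := exists_eq_mk2 X
    obtain ⟨rfl, rfl⟩ := (mem_centralizer_ub_iff β hβ a b c d h).mp hX
    rfl
  right_inv v := by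
    obtain ⟨⟨α, hα⟩, κ⟩ := v
    rfl

theorem card_sq_one (p : ℕ) [Fact p.Prime] [CharP F p] (hp : p ≠ 2) :
    Nat.card {α : F // α * α = 1} = 2 := by
  have h2 : (2 : F) ≠ 0 := by
    intro h
    have : ((2 : ℕ) : F) = 0 := by exact_mod_cast h
    rw [CharP.cast_eq_zero_iff F p 2] at this
    have hpp : p.Prime := Fact.out
    exact hp ((Nat.prime_dvd_prime_iff_eq hpp Nat.prime_two).mp this)
  have hset : {α : F | α * α = 1} = {1, -1} := by
    ext α
    simp only [Set.mem_ofPred_eq, Set.mem_insert_iff, Set.mem_singleton_iff]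
    constructor
    · intro h
      have : (α - 1) * (α + 1) = 0 := by linear_combination h
      rcases mul_eq_zero.mp this with h | h
      · left; linear_combination h
      · right; linear_combination h
    · rintro (rfl | rfl) <;> ring
  change Nat.card {α : F | α * α = 1} = 2
  rw [hset, Nat.card_coe_set_eq, Set.ncard_pair]
  intro h
  apply h2
  linear_combination h

theorem card_centralizer_ub (p : ℕ) [Fact p.Prime] [CharP F p] (hp : p ≠ 2) (β : F) (hβ : β ≠ 0) :
    Nat.card (Subgroup.centralizer ({ub β} : Set (SpecialLinearGroup (Fin 2) F))) = 2 * Fintype.card F := by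
  rw [Nat.card_congr (centEquiv β hβ), Nat.card_prod, card_sq_one p hp, Nat.card_eq_fintype_card]

theorem card_class (p : ℕ) [Fact p.Prime] [CharP F p] (hp : p ≠ 2)
    (g : SpecialLinearGroup (Fin 2) F) (hg : orderOf g = p) :
    Nat.card (ConjClasses.mk g).carrier = (Fintype.card F ^ 2 - 1) / 2 := by
  obtain ⟨β, hβ, hconj⟩ := conj_ub p g hg
  have hmk : ConjClasses.mk g = ConjClasses.mk (ub β) :=
    (ConjClasses.mk_eq_mk_iff_isConj.mpr hconj).symm
  rw [hmk]
  have h1 := card_carrier_mul (ub β)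
  rw [card_centralizer_ub p hp β hβ, card_SL2] at h1
  have hq : 0 < Fintype.card F := Fintype.card_pos
  have h2 : Fintype.card F * (2 * Nat.card (ConjClasses.mk (ub β)).carrier) =
      Fintype.card F * (Fintype.card F ^ 2 - 1) := by
    rw [← h1]; ring
  have h3 := Nat.eq_of_mul_eq_mul_left hq h2
  omega

theorem classes_eq (p : ℕ) [Fact p.Prime] [CharP F p] (hp : p ≠ 2) (ε : F) (hε : ¬ IsSquare ε) :
    {C : ConjClasses (SpecialLinearGroup (Fin 2) F) | ∃ g : SpecialLinearGroup (Fin 2) F,
      orderOf g = p ∧ ConjClasses.mk g = C} = {ConjClasses.mk (ub 1), ConjClasses.mk (ub ε)} := by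
  have hε0 : ε ≠ 0 := by rintro rfl; exact hε IsSquare.zero
  ext C
  simp only [Set.mem_ofPred_eq, Set.mem_insert_iff, Set.mem_singleton_iff]
  constructor
  · rintro ⟨g, hg, rfl⟩
    obtain ⟨β, hβ, hconj⟩ := conj_ub p g hg
    by_cases hsq : IsSquare β
    · left
      rw [ConjClasses.mk_eq_mk_iff_isConj]
      refine hconj.symm.trans ?_
      rw [isConj_ub_iff β 1 hβ one_ne_zero, mul_one]
      exact hsq
    · right
      rw [ConjClasses.mk_eq_mk_iff_isConj]
      refine hconj.symm.trans ?_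
      rw [isConj_ub_iff β ε hβ hε0]
      exact isSquare_mul_of_not β ε hsq hε
  · rintro (rfl | rfl)
    · exact ⟨ub 1, orderOf_ub p 1 one_ne_zero, rfl⟩
    · exact ⟨ub ε, orderOf_ub p ε hε0, rfl⟩

theorem card_classes (p : ℕ) [Fact p.Prime] [CharP F p] (hp : p ≠ 2) :
    Nat.card {C : ConjClasses (SpecialLinearGroup (Fin 2) F) // ∃ g : SpecialLinearGroup (Fin 2) F,
      orderOf g = p ∧ ConjClasses.mk g = C} = 2 := by
  have hchar : ringChar F ≠ 2 := by rw [ringChar.eq F p]; exact hp
  obtain ⟨ε, hε⟩ := FiniteField.exists_nonsquare hchar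
  have hε0 : ε ≠ 0 := by rintro rfl; exact hε IsSquare.zero
  change Nat.card {C : ConjClasses (SpecialLinearGroup (Fin 2) F) | ∃ g : SpecialLinearGroup (Fin 2) F,
      orderOf g = p ∧ ConjClasses.mk g = C} = 2
  rw [classes_eq p hp ε hε, Nat.card_coe_set_eq, Set.ncard_pair]
  intro h
  rw [ConjClasses.mk_eq_mk_iff_isConj, isConj_ub_iff 1 ε one_ne_zero hε0, one_mul] at h
  exact hε h

end



/-- Over a finite field with q elements of odd characteristic p, the elements of order p of SL₂ (the non-identity unipotent elements) fall into exactly two conjugacy classes, each of size (q² − 1)/2; two upper unitriangular matrices with non-zero off-diagonal entries b and b′ are conjugate exactly when bb′ is a square. -/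
theorem result {F : Type*} [Field F] [Fintype F] (p : ℕ) [Fact p.Prime] [CharP F p] (hp : p ≠ 2) :
    Nat.card {C : ConjClasses (Matrix.SpecialLinearGroup (Fin 2) F) // ∃ g : Matrix.SpecialLinearGroup (Fin 2) F, orderOf g = p ∧ ConjClasses.mk g = C} = 2 ∧
    (∀ g : Matrix.SpecialLinearGroup (Fin 2) F, orderOf g = p → Nat.card (ConjClasses.mk g).carrier = (Fintype.card F ^ 2 - 1) / 2) ∧
    ∀ g h : Matrix.SpecialLinearGroup (Fin 2) F, (g : Matrix (Fin 2) (Fin 2) F) 0 0 = 1 → (g : Matrix (Fin 2) (Fin 2) F) 1 1 = 1 → (g : Matrix (Fin 2) (Fin 2) F) 1 0 = 0 → (g : Matrix (Fin 2) (Fin 2) F) 0 1 ≠ 0 →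
      (h : Matrix (Fin 2) (Fin 2) F) 0 0 = 1 → (h : Matrix (Fin 2) (Fin 2) F) 1 1 = 1 → (h : Matrix (Fin 2) (Fin 2) F) 1 0 = 0 → (h : Matrix (Fin 2) (Fin 2) F) 0 1 ≠ 0 →
      (IsConj g h ↔ IsSquare ((g : Matrix (Fin 2) (Fin 2) F) 0 1 * (h : Matrix (Fin 2) (Fin 2) F) 0 1)) := by
  refine ⟨card_classes p hp, fun g hg => card_class p hp g hg, ?_⟩
  intro g h g00 g11 g10 g01 h00 h11 h10 h01
  have hg : g = ub (g 0 1) := by
    obtain ⟨a, b, c, d, hd, rfl⟩ := exists_eq_mk2 g
    simp only [mk2_coe, Matrix.of_apply, Matrix.cons_val', Matrix.cons_val_zero, Matrix.cons_val_one,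
      Matrix.cons_val_fin_one] at g00 g11 g10 g01 ⊢
    rw [ub, mk2_eq_iff]
    exact ⟨g00, rfl, g10, g11⟩
  have hh : h = ub (h 0 1) := by
    obtain ⟨a, b, c, d, hd, rfl⟩ := exists_eq_mk2 h
    simp only [mk2_coe, Matrix.of_apply, Matrix.cons_val', Matrix.cons_val_zero, Matrix.cons_val_one,
      Matrix.cons_val_fin_one] at h00 h11 h10 h01 ⊢
    rw [ub, mk2_eq_iff]
    exact ⟨h00, rfl, h10, h11⟩
  rw [hg, hh]
  simp only [ub, mk2_coe, Matrix.of_apply, Matrix.cons_val', Matrix.cons_val_zero, Matrix.cons_val_one,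
      Matrix.cons_val_fin_one]
  exact isConj_ub_iff _ _ g01 h01

end Cfsg.Agent.S2301
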