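import Cfsg.Statements.S1226

set_option autoImplicit false
open Cfsg

namespace Cfsg.Agent.S1226

/-- Let G be a finite group with a Sylow 2-subgroup T that is neither cyclic nor normal, such that the centralizer of every involution is an elementary abelian 2-group. Then N_G(T) is a strongly embedded subgroup of G. -/
theorem result {G : Type*} [Group G] [Finite G] (T : Sylow 2 G) (hnc : ¬ IsCyclic (T : Subgroup G)) (hnn : ¬ (T : Subgroup G).Normal) (hC : ∀ t : G, orderOf t = 2 → IsMulCommutative (Subgroup.centralizer ({t} : Set G)) ∧ ∀ c ∈ Subgroup.centralizer ({t} : Set G), c ^ 2 = 1) : Cfsg.IsStronglyEmbedded (Subgroup.normalizer ((T : Subgroup G) : Set G)) := by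
  have : Fact (Nat.Prime 2) := ⟨Nat.prime_two⟩
  have hT2 : IsPGroup 2 (T : Subgroup G) := T.isPGroup'
  -- T is nontrivial
  have hTnt : Nontrivial (T : Subgroup G) := by
    by_contra h
    rw [not_nontrivial_iff_subsingleton] at h
    exact hnc (isCyclic_of_subsingleton)
  -- centralizers of involutions are 2-groups
  have hC2 : ∀ t : G, orderOf t = 2 → IsPGroup 2 (Subgroup.centralizer ({t} : Set G)) := by
    intro t ht
    rintro ⟨c, hc⟩
    refine ⟨1, ?_⟩
    apply Subtype.ext
    show c ^ 2 ^ 1 = 1
    rw [pow_one]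
    exact (hC t ht).2 c hc
  -- a central involution of T
  have hcnt : Nontrivial (Subgroup.center (T : Subgroup G)) := hT2.center_nontrivial
  have hc2 : IsPGroup 2 (Subgroup.center (T : Subgroup G)) := hT2.to_subgroup _
  obtain ⟨k, hk, hcard⟩ := (hc2.nontrivial_iff_card).mp hcnt
  have hdvd : 2 ∣ Nat.card (Subgroup.center (T : Subgroup G)) := by
    rw [hcard]; exact dvd_pow_self 2 (by omega)
  obtain ⟨x, hx⟩ := exists_prime_orderOf_dvd_card' 2 hdvd
  set t : G := ((x : (T : Subgroup G)) : G) with htdef
  have ht2 : orderOf t = 2 := by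
    rw [htdef, Subgroup.orderOf_coe, Subgroup.orderOf_coe]; exact hx
  have hTle : (T : Subgroup G) ≤ Subgroup.centralizer ({t} : Set G) := by
    intro y hy
    rw [Subgroup.mem_centralizer_iff]
    intro z hz
    rw [Set.mem_singleton_iff] at hz
    subst hz
    have := Subgroup.mem_center_iff.mp x.2 ⟨y, hy⟩
    exact (congrArg Subtype.val this).symm
  have hCt : Subgroup.centralizer ({t} : Set G) = (T : Subgroup G) :=
    T.is_maximal' (hC2 t ht2) hTle
  -- T is elementary abelian
  have hTcomm : ∀ a ∈ (T : Subgroup G), ∀ b ∈ (T : Subgroup G), a * b = b * a := by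
    intro a ha b hb
    have hcomm := (hC t ht2).1
    rw [← hCt] at ha hb
    have := hcomm.is_comm.comm ⟨a, ha⟩ ⟨b, hb⟩
    exact congrArg Subtype.val this
  -- the centralizer of any involution of T is T
  have hCu : ∀ u : G, orderOf u = 2 → u ∈ (T : Subgroup G) →
      Subgroup.centralizer ({u} : Set G) = (T : Subgroup G) := by
    intro u hu huT
    apply T.is_maximal' (hC2 u hu)
    intro y hy
    rw [Subgroup.mem_centralizer_iff]
    intro z hz
    rw [Set.mem_singleton_iff] at hz
    subst hz
    exact hTcomm z huT y hy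
  -- involutions of the normalizer lie in T
  have hinv : ∀ u : G, orderOf u = 2 → u ∈ Subgroup.normalizer ((T : Subgroup G) : Set G) →
      u ∈ (T : Subgroup G) := by
    intro u hu huN
    have hz2 : IsPGroup 2 (Subgroup.zpowers u) := by
      apply IsPGroup.of_card (n := 1)
      rw [Nat.card_zpowers, hu, pow_one]
    have hle : Subgroup.zpowers u ≤ Subgroup.normalizer ((T : Subgroup G) : Set G) :=
      Subgroup.zpowers_le.mpr huN
    have hsup : IsPGroup 2 (Subgroup.zpowers u ⊔ (T : Subgroup G) : Subgroup G) :=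
      hz2.to_sup_of_normal_right' hT2 hle
    have := T.is_maximal' hsup le_sup_right
    rw [← this]
    exact le_sup_left (a := Subgroup.zpowers u) (Subgroup.mem_zpowers u)
  refine ⟨?_, ?_, ?_⟩
  · intro h
    exact hnn (Subgroup.normalizer_eq_top_iff.mp h)
  · have h1 : 2 ∣ Nat.card (T : Subgroup G) := by
      obtain ⟨k, hk, hcard⟩ := (hT2.nontrivial_iff_card).mp hTnt
      rw [hcard]; exact dvd_pow_self 2 (by omega)
    have h2 : Nat.card (T : Subgroup G) ∣ Nat.card (Subgroup.normalizer ((T : Subgroup G) : Set G)) :=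
      Subgroup.card_dvd_of_le Subgroup.le_normalizer
    exact even_iff_two_dvd.mpr (h1.trans h2)
  · intro g hg
    by_contra hodd
    rw [Nat.not_odd_iff_even, even_iff_two_dvd] at hodd
    obtain ⟨w, hw⟩ := exists_prime_orderOf_dvd_card' 2 hodd
    obtain ⟨u, hudef⟩ : ∃ u : G, u = (w : G) := ⟨_, rfl⟩
    have huN : u ∈ Subgroup.normalizer ((T : Subgroup G) : Set G) := by rw [hudef]; exact w.2.1
    have huNg : u ∈ (Subgroup.normalizer ((T : Subgroup G) : Set G)).map (MulAut.conj g).toMonoidHom := by
      rw [hudef]; exact w.2.2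
    have hu2 : orderOf u = 2 := by
      rw [hudef, Subgroup.orderOf_coe]; exact hw
    have huT : u ∈ (T : Subgroup G) := hinv u hu2 huN
    obtain ⟨v, hvN, hvu⟩ := huNg
    have hvu' : g * v * g⁻¹ = u := by simpa [MulAut.conj_apply] using hvu
    have hv2 : orderOf v = 2 := by
      have hsc : SemiconjBy g v u := by
        show g * v = u * g
        rw [← hvu']; group
      rw [hsc.orderOf_eq, hu2]
    have hvT : v ∈ (T : Subgroup G) := hinv v hv2 hvN
    have hCu' := hCu u hu2 huT
    have hCv' := hCu v hv2 hvT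
    apply hg
    rw [Subgroup.mem_normalizer_iff]
    intro h
    have e1 : h ∈ (T : Subgroup G) ↔ h ∈ Subgroup.centralizer ({v} : Set G) := by rw [hCv']
    have e2 : g * h * g⁻¹ ∈ (T : Subgroup G) ↔ g * h * g⁻¹ ∈ Subgroup.centralizer ({u} : Set G) := by
      rw [hCu']
    rw [e1, e2, Subgroup.mem_centralizer_iff, Subgroup.mem_centralizer_iff]
    constructor
    · intro hh y hy
      rw [Set.mem_singleton_iff] at hy
      subst hy
      have := hh v rfl
      rw [← hvu']
      calc g * v * g⁻¹ * (g * h * g⁻¹) = g * (v * h) * g⁻¹ := by group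
        _ = g * (h * v) * g⁻¹ := by rw [this]
        _ = g * h * g⁻¹ * (g * v * g⁻¹) := by group
    · intro hh y hy
      rw [Set.mem_singleton_iff] at hy
      subst hy
      have := hh u rfl
      rw [← hvu'] at this
      have e : y * h = g⁻¹ * (g * y * g⁻¹ * (g * h * g⁻¹)) * g := by group
      rw [e, this]; group

end Cfsg.Agent.S1226
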