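import Cfsg.Statements.S4702
import Cfsg.Agent.Lib.Helper21_Sharp3
import Cfsg.Agent.Lib.Helper21_BSW8
import Cfsg.Agent.Lib.Helper21_SL2F2

set_option autoImplicit false
open Cfsg

namespace Cfsg.Agent.S4702

open Cfsg.Agent.Lib.Helper21_Sharp3 Cfsg.Agent.Lib.Helper21_BSW Cfsg.Agent.Lib.Helper21_SL2F2

/-- Let G be a triply transitive permutation group on a finite set of odd size m ≥ 3 in which only the identity fixes three or more points. Then m = 2^a + 1 for some a ≥ 1 and G is isomorphic to SL(2, 2^a). -/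
theorem result {α : Type*} [Fintype α] [DecidableEq α] (hm : 3 ≤ Fintype.card α) (hodd : Odd (Fintype.card α)) (G : Subgroup (Equiv.Perm α)) (h3 : MulAction.IsMultiplyPretransitive G α 3) (hfix : ∀ g : G, 3 ≤ Nat.card (MulAction.fixedBy α g) → g = 1) : ∃ a : ℕ, 1 ≤ a ∧ Fintype.card α = 2 ^ a + 1 ∧ ∃ (F : Type) (_ : Field F) (_ : Fintype F), Fintype.card F = 2 ^ a ∧ Nonempty (G ≃* Matrix.SpecialLinearGroup (Fin 2) F) := by
  classical
  by_cases h3' : Fintype.card α = 3
  · have hG : G = ⊤ := by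
      apply Equiv.Perm.eq_top_of_isMultiplyPretransitive
      rw [Nat.card_eq_fintype_card, h3']
      exact MulAction.isMultiplyPretransitive_of_le (n := 3) (by norm_num)
        (by rw [Nat.card_eq_fintype_card]; omega)
    subst hG
    obtain ⟨e⟩ := nonempty_mulEquiv_perm h3'
    refine ⟨1, le_refl 1, by rw [h3']; norm_num, ZMod 2, inferInstance, inferInstance,
      ZMod.card 2, ⟨Subgroup.topEquiv.trans e.symm⟩⟩
  · have h5 : 5 ≤ Fintype.card α := by
      rcases hodd with ⟨k, hk⟩
      omega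
    have hs : Sharp3 G α := by
      intro g a b c hab hac hbc ha hb hc
      apply hfix
      rw [Nat.card_coe_set_eq]
      have : 2 < (MulAction.fixedBy α g).ncard :=
        (Set.two_lt_ncard_iff).mpr ⟨a, b, c, ha, hb, hc, hab, hac, hbc⟩
      omega
    obtain ⟨T, j, hj, hn, hT, hnc, hnn, hC⟩ := exists_sylow h3 hs hodd h5
    obtain ⟨F, hF, hFin, hcard, he⟩ := exists_mulEquiv_SL hC T hnc hnn
    exact ⟨j, by omega, hn, F, hF, hFin, by rw [hcard, hT], he⟩

end Cfsg.Agent.S4702
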