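import Cfsg.Statements.S4706
import Cfsg.Agent.Lib.Helper15_ItoBrauer
import Cfsg.Agent.Lib.Helper32_ItoCount
import Cfsg.Agent.Lib.Helper32_ItoPerm
import Cfsg.Agent.Lib.Helper33_ItoAlt
import Cfsg.Agent.Lib.Helper7_Simple
import Cfsg.Agent.S0157
import Cfsg.Agent.S0676
import Cfsg.Agent.S1013
import Cfsg.Agent.S4702

set_option autoImplicit false
open Cfsg

namespace Cfsg.Agent.S4706

open MulAction
open Cfsg.Agent.Lib.Helper15_ItoBrauer Cfsg.Agent.Lib.Helper32_ItoCount
open Cfsg.Agent.Lib.Helper32_ItoPerm Cfsg.Agent.Lib.Helper33_ItoAlt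
open scoped ComplexConjugate



theorem relIndex_eq_of_card {G : Type*} [Group G] [Finite G] {H K : Subgroup G} (h : H ≤ K)
    {a b : ℕ} (hH : Nat.card H = a) (hK : Nat.card K = a * b) (ha : 0 < a) :
    H.relIndex K = b := by
  have h1 := Subgroup.card_mul_index (H.subgroupOf K)
  rw [Nat.card_congr (Subgroup.subgroupOfEquivOfLe h).toEquiv, hH, hK] at h1
  exact Nat.eq_of_mul_eq_mul_left ha h1

section main

variable {α : Type*} [Fintype α] [DecidableEq α] {p : ℕ} [hpf : Fact p.Prime]

/-- the key step: no nonidentity element fixes three points -/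
theorem fix_lt_three (hp5 : 5 ≤ p) (hα : Fintype.card α = p) (G : Subgroup (Equiv.Perm α))
    (h3 : IsMultiplyPretransitive G α 3) (P : Sylow p G) (hP : Nat.card P = p)
    (hN : Nat.card (Subgroup.normalizer ((P : Subgroup G) : Set G)) = 2 * p) :
    ∀ g : G, 3 ≤ Nat.card (fixedBy α g) → g = 1 := by
  classical
  have hpp := hpf.out
  have : Fintype G := Fintype.ofFinite G
  have hcard3 : 3 ≤ Fintype.card α := by omega
  have h2 : IsMultiplyPretransitive G α 2 :=
    MulAction.isMultiplyPretransitive_of_le (n := 3) (by norm_num)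
      (by rw [Nat.card_eq_fintype_card]; exact hcard3)
  have hpt : IsPretransitive G α :=
    (MulAction.is_one_pretransitive_iff).mp
      (MulAction.isMultiplyPretransitive_of_le (n := 3) (by norm_num)
        (by rw [Nat.card_eq_fintype_card]; exact hcard3))
  -- the character ρ = π - 1
  have hX : 2 ≤ Nat.card α := by rw [Nat.card_eq_fintype_card]; omega
  let ρ : IrrCharacter G :=
    ⟨fun g => (Nat.card (fixedBy α g) : ℂ) - 1, (Cfsg.Agent.S0157.result α hX).mpr h2⟩
  have hρapp : ∀ g : G, (ρ : G → ℂ) g = (Nat.card (fixedBy α g) : ℂ) - 1 := fun g => rfl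
  have hfix1 : Nat.card (fixedBy α (1 : G)) = p := by
    have : fixedBy α (1 : G) = Set.univ := by
      ext x; simp
    rw [this, Nat.card_eq_fintype_card, ← hα]
    exact Fintype.card_congr (Equiv.Set.univ α)
  have hρ1 : (ρ : G → ℂ) 1 = (p : ℂ) - 1 := by rw [hρapp, hfix1]
  -- a generator of P
  obtain ⟨x, hx, hx1⟩ : ∃ x ∈ (P : Subgroup G), x ≠ 1 := by
    by_contra h
    push Not at h
    have : (P : Subgroup G) = ⊥ := (Subgroup.eq_bot_iff_forall _).mpr h
    rw [this, Subgroup.card_bot] at hP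
    exact hpp.one_lt.ne hP
  have hxord : orderOf x = p := by
    exact Cfsg.Agent.Lib.Helper78_PartA.orderOf_eq_of_card_prime hpp hP hx hx1
  have hρx : (ρ : G → ℂ) x ≠ 0 := by
    rw [hρapp, fix_eq_zero_of_dvd_orderOf hα G x (by rw [hxord])]
    norm_num
  -- centraliser and index
  have hC : ∀ c ∈ Subgroup.centralizer ((P : Subgroup G) : Set G), c ∈ (P : Subgroup G) :=
    fun c hc => mem_of_mem_centralizer hα G P hP c hc
  have hPC : (P : Subgroup G) ≤ Subgroup.centralizer ((P : Subgroup G) : Set G) := by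
    have hcyc : IsCyclic (P : Subgroup G) := isCyclic_of_prime_card hP
    intro y hy
    rw [Subgroup.mem_centralizer_iff]
    intro z hz
    have := (IsCyclic.commGroup (α := (P : Subgroup G))).mul_comm ⟨z, hz⟩ ⟨y, hy⟩
    exact congrArg Subtype.val this
  have hCeq : Subgroup.centralizer ((P : Subgroup G) : Set G) = (P : Subgroup G) :=
    le_antisymm hC hPC
  have he : (Subgroup.centralizer ((P : Subgroup G) : Set G)).relIndex
      (Subgroup.normalizer ((P : Subgroup G) : Set G)) = 2 := by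
    rw [hCeq]
    exact relIndex_eq_of_card Subgroup.le_normalizer hP (by rw [hN, mul_comm]) hpp.pos
  obtain ⟨Y, hYc, hY⟩ := exists_exceptional p hp5 P hP hC he ρ hρ1 x hx hx1 hρx
  -- the character Ψ
  set Ψ : G → ℂ := fun g : G =>
      (((Nat.card (fixedBy α g) : ℂ)) ^ 2 - (Nat.card (fixedBy α (g ^ 2)) : ℂ)) / 2 with hΨdef
  have hΨ : IsCharacter G Ψ := isCharacter_altSq h2 (by omega)
  have hΨ1 : Ψ 1 = (p : ℂ) * ((p : ℂ) - 1) / 2 := by
    rw [hΨdef]
    simp only [one_pow]
    rw [hfix1]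
    ring
  have hΨs : ∀ g : G, p ∣ orderOf g → Ψ g = 0 := by
    intro g hg
    rw [hΨdef]
    simp only
    rw [fix_eq_zero_of_dvd_orderOf hα G g hg, fix_sq_eq_zero_of_dvd_orderOf hα (by omega) G g hg]
    simp
  have hcardG : (Nat.card G : ℂ) ≠ 0 := by
    rw [Nat.cast_ne_zero]; exact Nat.card_pos.ne'
  have hcardG' : (Fintype.card G : ℂ) = (Nat.card G : ℂ) := by rw [Nat.card_eq_fintype_card]
  have hs1 := sum_fix_sq (G := G) (Ω := α) h2 (by omega)
  have hs2 := sum_fix_of_sq (G := G) (Ω := α) h2 (by omega)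
  have hs3 := sum_fix_cube (G := G) (Ω := α) h3 hcard3
  have hs4 := sum_fix_mul_fix_sq (G := G) (Ω := α) h3 hcard3
  have hs1C : ∑ g : G, ((Nat.card (fixedBy α g) : ℂ)) ^ 2 = 2 * (Nat.card G : ℂ) := by
    rw [← hcardG']; exact_mod_cast hs1
  have hs2C : ∑ g : G, ((Nat.card (fixedBy α (g ^ 2)) : ℂ)) = 2 * (Nat.card G : ℂ) := by
    rw [← hcardG']; exact_mod_cast hs2
  have hs3C : ∑ g : G, ((Nat.card (fixedBy α g) : ℂ)) ^ 3 = 5 * (Nat.card G : ℂ) := by
    rw [← hcardG']; exact_mod_cast hs3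
  have hs4C : ∑ g : G, ((Nat.card (fixedBy α g) : ℂ)) * (Nat.card (fixedBy α (g ^ 2)) : ℂ) =
      3 * (Nat.card G : ℂ) := by
    rw [← hcardG']; exact_mod_cast hs4
  have hin1 : classInner Ψ (fun _ => (1 : ℂ)) = 0 := by
    unfold classInner
    simp only [map_one, mul_one]
    rw [hΨdef]
    simp only
    rw [← Finset.sum_div, Finset.sum_sub_distrib, hs1C, hs2C]
    ring
  have hinρ : classInner Ψ (ρ : G → ℂ) = 1 := by
    unfold classInner
    have h : ∀ g : G, Ψ g * conj ((ρ : G → ℂ) g) =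
        (((Nat.card (fixedBy α g) : ℂ)) ^ 3 -
          (Nat.card (fixedBy α g) : ℂ) * (Nat.card (fixedBy α (g ^ 2)) : ℂ)) / 2 -
        (((Nat.card (fixedBy α g) : ℂ)) ^ 2 - (Nat.card (fixedBy α (g ^ 2)) : ℂ)) / 2 := by
      intro g
      rw [hρapp, hΨdef]
      simp only [map_sub, Complex.conj_natCast, map_one]
      ring
    simp_rw [h]
    rw [Finset.sum_sub_distrib, ← Finset.sum_div, ← Finset.sum_div, Finset.sum_sub_distrib,
      Finset.sum_sub_distrib, hs1C, hs2C, hs3C, hs4C]
    field_simp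
    ring
  have hval := psi_value p hp5 ρ hρ1 Y hYc hY Ψ hΨ hΨ1 hΨs hin1 hinρ
  -- the inequality
  intro g hg
  by_cases hgp : p ∣ orderOf g
  · rw [fix_eq_zero_of_dvd_orderOf hα G g hgp] at hg
    omega
  have hv := hval g hgp
  rw [hρapp, hΨdef] at hv
  simp only at hv
  set f : ℕ := Nat.card (fixedBy α g) with hf
  set f2 : ℕ := Nat.card (fixedBy α (g ^ 2)) with hf2
  have hle : f ≤ f2 := fix_le_fix_sq G g
  have hZ : ((f : ℤ) ^ 2 - (f2 : ℤ)) = 2 * ((f : ℤ) - 1) + ((p : ℤ) - 1) * ((f : ℤ) - 2) := by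
    have h : (((f : ℤ) ^ 2 - (f2 : ℤ) : ℤ) : ℂ) =
        ((2 * ((f : ℤ) - 1) + ((p : ℤ) - 1) * ((f : ℤ) - 2) : ℤ) : ℂ) := by
      push_cast
      linear_combination 2 * hv
    exact_mod_cast h
  have hfp : p ≤ f := by
    by_contra hlt
    push Not at hlt
    have h1 : (f : ℤ) ≤ (f2 : ℤ) := by exact_mod_cast hle
    have h3' : (3 : ℤ) ≤ (f : ℤ) := by exact_mod_cast hg
    have h4 : (f : ℤ) + 1 ≤ (p : ℤ) := by exact_mod_cast hlt
    nlinarith
  apply eq_one_of_fix_eq_card G g
  rw [hα]
  exact hfp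

end main

/-- Let p > 2 be a prime and G a permutation group on p letters whose Sylow p-subgroup P has normalizer of order 2p. Then either P is normal in G, or p − 1 = 2^a for some a and G is isomorphic to SL(2, 2^a). -/
theorem result {α : Type*} [Fintype α] [DecidableEq α] {p : ℕ} [Fact p.Prime] (hp : 2 < p) (hα : Fintype.card α = p) (G : Subgroup (Equiv.Perm α)) (P : Sylow p G) (hN : Nat.card (Subgroup.normalizer ((P : Subgroup G) : Set G)) = 2 * p) : (P : Subgroup G).Normal ∨ ∃ (a : ℕ) (F : Type) (_ : Field F) (_ : Fintype F), p = 2 ^ a + 1 ∧ Fintype.card F = 2 ^ a ∧ Nonempty (G ≃* Matrix.SpecialLinearGroup (Fin 2) F) := by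
  classical
  have hpp := (Fact.out : p.Prime)
  by_cases hnorm : (P : Subgroup G).Normal
  · exact Or.inl hnorm
  right
  have hNdvd : 2 * p ∣ Nat.card G := by
    rw [← hN]; exact Subgroup.card_subgroup_dvd_card _
  have hdvd : p ∣ Nat.card G := (Dvd.intro_left 2 rfl).trans hNdvd
  have hGdvd : Nat.card G ∣ p.factorial := by
    have := Subgroup.card_subgroup_dvd_card G
    rwa [Nat.card_eq_fintype_card (α := Equiv.Perm α), Fintype.card_perm, hα] at this
  -- the Sylow subgroup has order `p`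
  have hPcard : Nat.card (P : Subgroup G) = p := by
    obtain ⟨k, hk⟩ := IsPGroup.iff_card.mp P.isPGroup'
    have hk1 : k ≠ 0 := by
      rintro rfl
      rw [pow_zero] at hk
      exact P.ne_bot_of_dvd_card hdvd ((P : Subgroup G).eq_bot_of_card_eq hk)
    have hk2 : k < 2 := by
      by_contra hk2
      have hk2 : 2 ≤ k := by omega
      apply Cfsg.Agent.S0677.not_sq_dvd_factorial hpp
      refine Dvd.dvd.trans ?_ hGdvd
      refine Dvd.dvd.trans ?_ (Subgroup.card_subgroup_dvd_card (P : Subgroup G))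
      rw [hk, ← pow_two]
      exact pow_dvd_pow p hk2
    have : k = 1 := by omega
    rw [hk, this, pow_one]
  -- transitivity
  have hptP : IsPretransitive (P : Subgroup G) α :=
    Cfsg.Agent.Lib.Helper7_Simple.isPretransitive_of_card_eq_prime hpp
      (by rw [Nat.card_eq_fintype_card, hα]) (P : Subgroup G) hPcard
  have hpt : IsPretransitive G α :=
    ⟨fun a b => by
      obtain ⟨q, hq⟩ := hptP.exists_smul_eq a b
      exact ⟨(q : G), hq⟩⟩
  -- `p ≠ 3`
  have hp3 : p ≠ 3 := by
    intro h3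
    apply hnorm
    have h6 : Nat.card G = 6 := by
      rw [h3] at hGdvd hNdvd
      exact Nat.dvd_antisymm (by simpa [Nat.factorial] using hGdvd) (by simpa using hNdvd)
    have hNtop : Subgroup.normalizer ((P : Subgroup G) : Set G) = ⊤ :=
      Subgroup.eq_top_of_card_eq _ (by rw [hN, h6, h3])
    exact Subgroup.normalizer_eq_top_iff.mp hNtop
  have hp5 : 5 ≤ p := by
    by_contra h
    push Not at h
    have h4 : p = 4 := by omega
    rw [h4] at hpp
    exact absurd hpp (by norm_num)
  -- more than one Sylow subgroup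
  have hn : 1 < Nat.card (Sylow p G) := by
    have h0 : Nat.card (Sylow p G) ≠ 0 := Nat.card_pos.ne'
    have h1 : Nat.card (Sylow p G) ≠ 1 := by
      intro h1
      rw [Sylow.card_eq_index_normalizer P, Subgroup.index_eq_one] at h1
      exact hnorm (Subgroup.normalizer_eq_top_iff.mp h1)
    omega
  have hrel : (P : Subgroup G).relIndex (Subgroup.normalizer ((P : Subgroup G) : Set G)) = 2 :=
    relIndex_eq_of_card Subgroup.le_normalizer hPcard (by rw [hN, mul_comm]) hpp.pos
  have ht : (((P : Subgroup G).subgroupOf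
      (Subgroup.normalizer ((P : Subgroup G) : Set G))).index).Prime := by
    show ((P : Subgroup G).relIndex (Subgroup.normalizer ((P : Subgroup G) : Set G))).Prime
    rw [hrel]; exact Nat.prime_two
  have hsimple : IsSimpleGroup G := Cfsg.Agent.S1013.result hα G P hn ht
  have hns : ¬ Group.IsSolvable G := by
    intro hs
    apply hnorm
    have hcomm := (IsSimpleGroup.comm_iff_isSolvable (G := G)).mpr hs
    exact ⟨fun n hnP g => by
      have : g * n * g⁻¹ = n := by rw [hcomm g n, mul_inv_cancel_right]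
      rw [this]; exact hnP⟩
  have heven : Even (Nat.card (Subgroup.normalizer ((P : Subgroup G) : Set G))) :=
    ⟨p, by rw [hN]; ring⟩
  have h3 : IsMultiplyPretransitive G α 3 := Cfsg.Agent.S0676.result hα G hns P heven
  have hfix := fix_lt_three hp5 hα G h3 P hPcard hN
  have hodd : Odd (Fintype.card α) := by
    rw [hα]; exact hpp.odd_of_ne_two (by omega)
  obtain ⟨a, -, hcard, F, iF, iF', hF, he⟩ :=
    Cfsg.Agent.S4702.result (by rw [hα]; omega) hodd G h3 hfix
  exact ⟨a, F, iF, iF', by rw [← hα, hcard], hF, he⟩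

end Cfsg.Agent.S4706
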