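import Mathlib
import Cfsg.Agent.Lib.Helper5_PSLCard
import Cfsg.Statements.S0260

set_option autoImplicit false
set_option linter.unusedSimpArgs false
set_option linter.unusedVariables false
open Cfsg

namespace Cfsg.Agent.S0260

open Matrix Matrix.SpecialLinearGroup
open scoped MatrixGroups Pointwise

variable {F : Type*} [Field F]

/-- upper transvection -/
abbrev uT (b : F) : SL(2, F) := transvection (zero_ne_one : (0 : Fin 2) ≠ 1) b
/-- lower transvection -/
abbrev lT (b : F) : SL(2, F) := transvection (one_ne_zero : (1 : Fin 2) ≠ 0) b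

lemma uT_coe (b : F) : (uT b : Matrix (Fin 2) (Fin 2) F) = !![1, b; 0, 1] := by
  ext i j
  fin_cases i <;> fin_cases j <;> simp [uT, transvection_coe]

lemma lT_coe (b : F) : (lT b : Matrix (Fin 2) (Fin 2) F) = !![1, 0; b, 1] := by
  ext i j
  fin_cases i <;> fin_cases j <;> simp [lT, transvection_coe]

/-- `b ↦ uT b` as a hom. -/
def uHom : Multiplicative F →* SL(2, F) where
  toFun b := uT b.toAdd
  map_one' := transvection_coeff_zero _
  map_mul' a b := transvection_add _ _ _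

lemma uHom_injective : Function.Injective (uHom : Multiplicative F →* SL(2, F)) := by
  intro a b hab
  have := congrArg (fun g : SL(2, F) => (g : Matrix (Fin 2) (Fin 2) F) 0 1) hab
  simpa [uHom, uT_coe] using this

/-- The upper unitriangular subgroup of `SL(2,F)`. -/
def U : Subgroup SL(2, F) := uHom.range

lemma uT_mem_U (b : F) : uT b ∈ (U : Subgroup SL(2, F)) := ⟨Multiplicative.ofAdd b, rfl⟩

lemma mem_U_iff (g : SL(2, F)) : g ∈ U ↔ ∃ b : F, g = uT b := by
  constructor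
  · rintro ⟨b, rfl⟩
    exact ⟨b.toAdd, rfl⟩
  · rintro ⟨b, rfl⟩
    exact uT_mem_U b

lemma card_U [Fintype F] : Nat.card (U : Subgroup SL(2, F)) = Fintype.card F := by
  unfold U
  rw [Nat.card_congr (MonoidHom.ofInjective uHom_injective).toEquiv.symm,
    Nat.card_congr (Multiplicative.toAdd : Multiplicative F ≃ F), Nat.card_eq_fintype_card]

lemma det_eq (k : SL(2, F)) : k 0 0 * k 1 1 - k 0 1 * k 1 0 = 1 := by
  have := k.det_coe
  rwa [Matrix.det_fin_two] at this

/-- If `k 1 0 = 0` then `k` normalises `U`. -/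
lemma conj_uT_of_lower_zero (k : SL(2, F)) (hk : k 1 0 = 0) (b : F) :
    k * uT b * k⁻¹ = uT (k 0 0 * k 0 0 * b) := by
  have hd := det_eq k
  rw [hk, mul_zero, sub_zero] at hd
  rw [mul_inv_eq_iff_eq_mul]
  apply Subtype.ext
  rw [coe_mul, coe_mul, uT_coe, uT_coe]
  ext i j
  fin_cases i <;> fin_cases j <;> simp [Matrix.mul_apply, Fin.sum_univ_two, hk]
  linear_combination (-(k 0 0) * b) * hd

/-- If `k 0 0 = 0` then `k` conjugates `U` onto the lower unitriangular group. -/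
lemma conj_uT_of_upper_zero (k : SL(2, F)) (hk : k 0 0 = 0) (b : F) :
    k * uT b * k⁻¹ = lT (-(k 1 0 * k 1 0 * b)) := by
  have hd := det_eq k
  rw [hk, zero_mul, zero_sub] at hd
  rw [mul_inv_eq_iff_eq_mul]
  apply Subtype.ext
  rw [coe_mul, coe_mul, uT_coe, lT_coe]
  ext i j
  fin_cases i <;> fin_cases j <;> simp [Matrix.mul_apply, Fin.sum_univ_two, hk]
  linear_combination (-(k 1 0) * b) * hd

lemma conj_mem_smul (k x : SL(2, F)) (H : Subgroup SL(2, F)) (hx : x ∈ H) :
    k * x * k⁻¹ ∈ MulAut.conj k • H := by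
  rw [Subgroup.mem_pointwise_smul_iff_inv_smul_mem]
  simpa [MulAut.smul_def, mul_assoc] using hx

/-- `U` and its conjugate by `k` with `k 0 0 = 0` generate `SL(2,F)`. -/
lemma sup_eq_top_of_upper_zero (k : SL(2, F)) (hk : k 0 0 = 0) :
    (U : Subgroup SL(2, F)) ⊔ MulAut.conj k • U = ⊤ := by
  have hc : k 1 0 ≠ 0 := by
    intro h
    have hd := det_eq k
    rw [hk, h] at hd
    simp at hd
  refine le_antisymm le_top (fun A _ ↦ SL2.transvection_induction _ (fun i j hij c ↦ ?_) (fun _ _ ↦ mul_mem) A)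
  fin_cases i
  · obtain rfl : j = 1 := by fin_cases j <;> tauto
    exact Subgroup.mem_sup_left (uT_mem_U c)
  · obtain rfl : j = 0 := by fin_cases j <;> tauto
    apply Subgroup.mem_sup_right
    have h1 := conj_uT_of_upper_zero k hk (-(c / (k 1 0 * k 1 0)))
    have h2 : -(k 1 0 * k 1 0 * -(c / (k 1 0 * k 1 0))) = c := by
      field_simp
    rw [h2] at h1
    change lT c ∈ _
    rw [← h1]
    exact conj_mem_smul k _ U (uT_mem_U _)

/-- `U` and its conjugate by `k` with `k 1 0 ≠ 0` generate `SL(2,F)`. -/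
lemma sup_eq_top_of_lower_ne_zero (k : SL(2, F)) (hk : k 1 0 ≠ 0) :
    (U : Subgroup SL(2, F)) ⊔ MulAut.conj k • U = ⊤ := by
  set u : SL(2, F) := uT (-(k 0 0 / k 1 0)) with hu
  have huk : (u * k) 0 0 = 0 := by
    rw [coe_mul, hu, uT_coe]
    simp [Matrix.mul_apply, Fin.sum_univ_two]
    field_simp
    ring
  have h1 := sup_eq_top_of_upper_zero (u * k) huk
  rw [eq_top_iff, ← h1]
  apply sup_le le_sup_left
  intro x hx
  rw [Subgroup.mem_pointwise_smul_iff_inv_smul_mem] at hx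
  simp only [MulAut.smul_def, MulAut.inv_apply, MulAut.conj_symm_apply] at hx
  -- x = (u k) y (u k)⁻¹ with y ∈ U
  have hx2 : x = u * (k * ((u * k)⁻¹ * x * (u * k)) * k⁻¹) * u⁻¹ := by group
  rw [hx2]
  have hu_mem : u ∈ (U : Subgroup SL(2, F)) ⊔ MulAut.conj k • U := Subgroup.mem_sup_left (uT_mem_U _)
  have hk_mem : k * ((u * k)⁻¹ * x * (u * k)) * k⁻¹ ∈ (U : Subgroup SL(2, F)) ⊔ MulAut.conj k • U :=
    Subgroup.mem_sup_right (conj_mem_smul k _ U hx)
  exact mul_mem (mul_mem hu_mem hk_mem) (inv_mem hu_mem)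

section sylow

variable [Fintype F] (p : ℕ) [Fact p.Prime] [CharP F p]

lemma card_sylow_SL2 (P : Sylow p SL(2, F)) : Nat.card P = Fintype.card F := by
  have hp : p.Prime := Fact.out
  obtain ⟨f, hpf, hqf⟩ := FiniteField.card F p
  rw [Sylow.card_eq_multiplicity, Cfsg.Agent.Lib.Helper5_PSLCard.card_SL_two]
  set q := Fintype.card F with hq
  have hq1 : 1 ≤ q := Fintype.card_pos
  have hpq : p ∣ q := by rw [hqf]; exact dvd_pow_self p f.ne_zero
  have hnd : ¬ p ∣ q ^ 2 - 1 := by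
    intro hdvd
    have h2 : p ∣ q ^ 2 := dvd_trans hpq (dvd_pow_self q two_ne_zero)
    have h3 : 1 ≤ q ^ 2 := Nat.one_le_pow _ _ hq1
    have h4 : p ∣ 1 := by
      have := (Nat.dvd_sub h2 hdvd)
      rwa [Nat.sub_sub_self h3] at this
    exact hp.one_lt.ne' (Nat.dvd_one.mp h4)
  have hne1 : q ≠ 0 := by omega
  have hne2 : q ^ 2 - 1 ≠ 0 := fun h => hnd (h ▸ dvd_zero p)
  rw [Nat.factorization_mul hne1 hne2, Finsupp.add_apply, Nat.factorization_eq_zero_of_not_dvd hnd,
    add_zero]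
  conv_lhs => rw [hqf]
  rw [hp.factorization_pow, Finsupp.single_eq_same, ← hqf]

/-- The upper unitriangular subgroup as a Sylow `p`-subgroup of `SL(2,F)`. -/
noncomputable def US : Sylow p SL(2, F) :=
  Sylow.ofCard U (by rw [card_U, ← card_sylow_SL2 p default, Sylow.card_eq_multiplicity])

lemma coe_US : ((US p : Sylow p SL(2, F)) : Subgroup SL(2, F)) = U := Sylow.coe_ofCard _ _

lemma smul_US_eq_of_lower_zero (k : SL(2, F)) (hk : k 1 0 = 0) :
    k • (US p : Sylow p SL(2, F)) = US p := by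
  rw [Sylow.smul_eq_iff_mem_normalizer]
  have h : ((US p : Sylow p SL(2, F)) : Set SL(2, F)) = ((U : Subgroup SL(2, F)) : Set SL(2, F)) := by
    rw [← Sylow.coe_coe, coe_US]
  rw [h, Subgroup.mem_normalizer_iff]
  intro n
  constructor
  · intro hn
    obtain ⟨b, rfl⟩ := (mem_U_iff n).mp hn
    rw [conj_uT_of_lower_zero k hk]
    exact uT_mem_U _
  · intro hn
    obtain ⟨b, hb⟩ := (mem_U_iff _).mp hn
    have hk' : (k⁻¹) 1 0 = 0 := by
      rw [SL2_inv_expl]
      simp [hk]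
    have h2 := conj_uT_of_lower_zero k⁻¹ hk' b
    rw [← hb] at h2
    have h3 : n = k⁻¹ * (k * n * k⁻¹) * k⁻¹⁻¹ := by group
    rw [h3, h2]
    exact uT_mem_U _

theorem sylow_sup_eq_top (P Q : Sylow p SL(2, F)) (h : P ≠ Q) :
    (P : Subgroup SL(2, F)) ⊔ (Q : Subgroup SL(2, F)) = ⊤ := by
  obtain ⟨g, rfl⟩ := MulAction.exists_smul_eq SL(2, F) (US p) P
  obtain ⟨h', rfl⟩ := MulAction.exists_smul_eq SL(2, F) (US p) Q
  have hk : (g⁻¹ * h') 1 0 ≠ 0 := by
    intro hk
    apply h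
    have := smul_US_eq_of_lower_zero p _ hk
    rw [mul_smul, inv_smul_eq_iff] at this
    exact this.symm
  have h1 := sup_eq_top_of_lower_ne_zero _ hk
  have h2 : h' = g * (g⁻¹ * h') := by group
  rw [Sylow.coe_subgroup_smul, Sylow.coe_subgroup_smul, coe_US]
  conv_lhs => rw [h2]
  rw [map_mul, mul_smul, ← Subgroup.smul_sup, h1]
  ext x
  simp [Subgroup.mem_pointwise_smul_iff_inv_smul_mem]

end sylow

/-- Any two distinct Sylow p-subgroups of SL_2(q), p the characteristic, generate SL_2(q). -/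
theorem result {F : Type*} [Field F] [Fintype F] (p : ℕ) [Fact p.Prime] [CharP F p] (P Q : Sylow p (Matrix.SpecialLinearGroup (Fin 2) F)) (h : P ≠ Q) : (P : Subgroup (Matrix.SpecialLinearGroup (Fin 2) F)) ⊔ (Q : Subgroup (Matrix.SpecialLinearGroup (Fin 2) F)) = ⊤ := by
  exact sylow_sup_eq_top p P Q h

end Cfsg.Agent.S0260
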