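import Mathlib
import Cfsg.Agent.Lib.Helper5_SLCard
import Cfsg.Statements.S0265

set_option autoImplicit false
open Cfsg

namespace Cfsg.Agent.S0265

/-- |PGL_n(q)| = |SL_n(q)|: GL_n modulo its centre (the q-1 non-zero scalars) has the same order as the kernel of det. -/
theorem result {F : Type*} [Field F] [Fintype F] (n : ℕ) : Nat.card (Matrix.ProjGenLinGroup (Fin n) F) = Nat.card (Matrix.SpecialLinearGroup (Fin n) F) := by
  classical
  rcases Nat.eq_zero_or_pos n with rfl | hn
  · have h1 : Subsingleton (GL (Fin 0) F) := ⟨fun a b => Units.ext (Subsingleton.elim _ _)⟩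
    have h2 : Subsingleton (Matrix.ProjGenLinGroup (Fin 0) F) := by
      unfold Matrix.ProjGenLinGroup
      infer_instance
    rw [Nat.card_of_subsingleton (1 : Matrix.ProjGenLinGroup (Fin 0) F), Nat.card_of_subsingleton (1 : Matrix.SpecialLinearGroup (Fin 0) F)]
  · have : NeZero n := ⟨by omega⟩
    have hq : 1 < Fintype.card F := Fintype.one_lt_card
    have hc : Nat.card (Subgroup.center (GL (Fin n) F)) = Fintype.card F - 1 := by
      rw [Matrix.GeneralLinearGroup.center_eq_range_scalar]
      have hinj : Function.Injective (Matrix.GeneralLinearGroup.scalar (Fin n) : Fˣ →* GL (Fin n) F) := by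
        intro a b hab
        have := congrArg (fun g : GL (Fin n) F => (g : Matrix (Fin n) (Fin n) F) 0 0) hab
        simpa [Units.ext_iff] using this
      rw [Nat.card_congr (MonoidHom.ofInjective hinj).toEquiv.symm, Nat.card_units, Nat.card_eq_fintype_card]
    have h1 := Subgroup.card_eq_card_quotient_mul_card_subgroup (Subgroup.center (GL (Fin n) F))
    rw [Cfsg.Agent.Lib.Helper5_SLCard.card_GL_eq_card_SL_mul n hn, hc] at h1
    have hpos : 0 < Fintype.card F - 1 := by omega
    exact (Nat.eq_of_mul_eq_mul_right hpos h1).symm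

end Cfsg.Agent.S0265
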