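import Cfsg.Statements.S2437
import Cfsg.Agent.Lib.Helper38_SL2

set_option autoImplicit false
open Cfsg

namespace Cfsg.Agent.S2437

open Matrix Cfsg.Agent.Lib.Helper38_SL2

section Param

variable {F : Type*} [Field F]

/-- The Borel subgroup of `SL₂(F)`. -/
abbrev BSL (F : Type*) [Field F] : Subgroup (SpecialLinearGroup (Fin 2) F) :=
  (Cfsg.upperTriangularGL 2 F).comap Matrix.SpecialLinearGroup.toGL

theorem mem_BSL_iff (g : SpecialLinearGroup (Fin 2) F) : g ∈ BSL F ↔ g 1 0 = 0 := by
  change ((Matrix.SpecialLinearGroup.toGL g : GL (Fin 2) F) :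
    Matrix (Fin 2) (Fin 2) F).BlockTriangular id ↔ _
  constructor
  · intro h
    exact h (by decide)
  · intro h i j hij
    fin_cases i <;> fin_cases j <;> simp at hij ⊢
    exact h

/-- The element `[[a, b], [0, a⁻¹]]` of the Borel subgroup. -/
def bm (a : Fˣ) (b : F) : BSL F :=
  ⟨mk2 (a : F) b 0 ((a : F)⁻¹) (by simp), by rw [mem_BSL_iff]; rfl⟩

theorem bm_val (a : Fˣ) (b : F) :
    ((bm a b : BSL F) : SpecialLinearGroup (Fin 2) F) =
      mk2 (a : F) b 0 ((a : F)⁻¹) (by simp) := rfl

theorem bm_mul (a a' : Fˣ) (b b' : F) :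
    bm a b * bm a' b' = bm (a * a') ((a : F) * b' + b * (a' : F)⁻¹) := by
  apply Subtype.ext
  rw [Subgroup.coe_mul, bm_val, bm_val, bm_val, mk2_mul, mk2_eq_iff]
  refine ⟨by simp, by simp, by simp, ?_⟩
  simp [mul_comm]

theorem bm_inj {a a' : Fˣ} {b b' : F} (h : bm a b = bm a' b') : a = a' ∧ b = b' := by
  have h1 := congrArg Subtype.val h
  rw [bm_val, bm_val, mk2_eq_iff] at h1
  exact ⟨Units.ext h1.1, h1.2.1⟩

/-- Parametrization of the Borel subgroup. -/
noncomputable def bEquiv : Fˣ × F ≃ BSL F where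
  toFun p := bm p.1 p.2
  invFun g := (Units.mk0 ((g : SpecialLinearGroup (Fin 2) F) 0 0) (by
    intro h0
    have h1 := (g : SpecialLinearGroup (Fin 2) F).det_coe
    rw [Matrix.det_fin_two] at h1
    have h2 : (g : SpecialLinearGroup (Fin 2) F) 1 0 = 0 := (mem_BSL_iff _).mp g.2
    rw [h0, h2] at h1
    simp at h1), (g : SpecialLinearGroup (Fin 2) F) 0 1)
  left_inv p := by
    apply Prod.ext
    · apply Units.ext
      rfl
    · rfl
  right_inv g := by
    apply Subtype.ext
    have h1 := (g : SpecialLinearGroup (Fin 2) F).det_coe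
    rw [Matrix.det_fin_two] at h1
    have h2 : (g : SpecialLinearGroup (Fin 2) F) 1 0 = 0 := (mem_BSL_iff _).mp g.2
    rw [h2, mul_zero, sub_zero] at h1
    rw [bm_val]
    conv_rhs => rw [eq_mk2 (g : SpecialLinearGroup (Fin 2) F)]
    rw [mk2_eq_iff]
    refine ⟨rfl, rfl, h2.symm, ?_⟩
    simp only [Units.val_mk0]
    exact (eq_inv_of_mul_eq_one_right h1).symm

theorem commute_bm_iff (a a' : Fˣ) (b b' : F) :
    Commute (bm a b) (bm a' b') ↔
      b' * ((a : F) - (a : F)⁻¹) = b * ((a' : F) - (a' : F)⁻¹) := by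
  unfold Commute SemiconjBy
  rw [bm_mul, bm_mul]
  constructor
  · intro h
    have := (bm_inj h).2
    linear_combination this
  · intro h
    have e : (a : F) * b' + b * (a' : F)⁻¹ = (a' : F) * b + b' * (a : F)⁻¹ := by
      linear_combination h
    rw [e, mul_comm a a']

end Param

section Count

variable {F : Type*} [Field F] [Fintype F]

theorem card_ker [DecidableEq F] (c d : F) :
    Nat.card {x : F × F // x.2 * c = x.1 * d} =
      if c = 0 ∧ d = 0 then Fintype.card F * Fintype.card F else Fintype.card F := by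
  split_ifs with h
  · obtain ⟨rfl, rfl⟩ := h
    rw [← Fintype.card_prod, ← Nat.card_eq_fintype_card]
    apply Nat.card_congr
    exact Equiv.subtypeUnivEquiv (fun x => by simp)
  · rw [← Nat.card_eq_fintype_card]
    by_cases hc : c = 0
    · have hd : d ≠ 0 := fun hd => h ⟨hc, hd⟩
      subst hc
      apply Nat.card_congr
      refine ⟨fun x => x.1.2, fun b' => ⟨(0, b'), by simp⟩, ?_, ?_⟩
      · rintro ⟨⟨b, b'⟩, hx⟩
        simp only [mul_zero] at hx
        have hb : b = 0 := by
          rcases mul_eq_zero.mp hx.symm with h1 | h1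
          · exact h1
          · exact absurd h1 hd
        subst hb
        rfl
      · intro b'
        rfl
    · apply Nat.card_congr
      refine ⟨fun x => x.1.1, fun b => ⟨(b, b * d / c), by field_simp⟩, ?_, ?_⟩
      · rintro ⟨⟨b, b'⟩, hx⟩
        apply Subtype.ext
        apply Prod.ext
        · rfl
        · simp only at hx ⊢
          field_simp
          linear_combination -hx
      · intro b
        rfl

/-- `a - a⁻¹`. -/
def ff (a : Fˣ) : F := (a : F) - (a : F)⁻¹

omit [Fintype F] in
theorem ff_eq_zero_iff (a : Fˣ) : ff a = 0 ↔ a = 1 ∨ a = -1 := by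
  unfold ff
  constructor
  · intro h
    have ha : (a : F) ≠ 0 := a.ne_zero
    have h1 : (a : F) * (a : F) = 1 := by
      have : (a : F) = (a : F)⁻¹ := by linear_combination h
      calc (a : F) * (a : F) = (a : F) * (a : F)⁻¹ := by rw [← this]
        _ = 1 := mul_inv_cancel₀ ha
    have h2 : ((a : F) - 1) * ((a : F) + 1) = 0 := by linear_combination h1
    rcases mul_eq_zero.mp h2 with h3 | h3
    · left
      apply Units.ext
      rw [Units.val_one]
      linear_combination h3
    · right
      apply Units.ext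
      rw [Units.val_neg, Units.val_one]
      linear_combination h3
  · rintro (rfl | rfl) <;> simp

theorem card_ff_zero [DecidableEq F] (h2 : (2 : F) ≠ 0) :
    (Finset.univ.filter (fun a : Fˣ => ff a = 0)).card = 2 := by
  have : Finset.univ.filter (fun a : Fˣ => ff a = 0) = {1, -1} := by
    ext a
    simp only [Finset.mem_filter, Finset.mem_univ, true_and, Finset.mem_insert,
      Finset.mem_singleton]
    exact ff_eq_zero_iff a
  rw [this, Finset.card_pair]
  intro h
  apply h2
  have := congrArg (fun u : Fˣ => (u : F)) h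
  simp only [Units.val_neg, Units.val_one] at this
  linear_combination this

/-- The number of commuting pairs in the Borel subgroup. -/
theorem card_commuting [DecidableEq F] :
    Nat.card {p : BSL F × BSL F // Commute p.1 p.2} =
      ∑ aa : Fˣ × Fˣ, (if ff aa.1 = 0 ∧ ff aa.2 = 0 then Fintype.card F * Fintype.card F
        else Fintype.card F) := by
  have e1 : {x : (Fˣ × Fˣ) × (F × F) // x.2.2 * ff x.1.1 = x.2.1 * ff x.1.2} ≃
      {p : BSL F × BSL F // Commute p.1 p.2} :=
    Equiv.subtypeEquiv ((Equiv.prodProdProdComm Fˣ Fˣ F F).trans (bEquiv.prodCongr bEquiv))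
      (by
        rintro ⟨⟨a, a'⟩, ⟨b, b'⟩⟩
        exact (commute_bm_iff a a' b b').symm)
  have e2 := Equiv.subtypeProdEquivSigmaSubtype
    (fun (aa : Fˣ × Fˣ) (bb : F × F) => bb.2 * ff aa.1 = bb.1 * ff aa.2)
  have h3 : Nat.card (Σ aa : Fˣ × Fˣ, {bb : F × F // bb.2 * ff aa.1 = bb.1 * ff aa.2}) =
      ∑ aa : Fˣ × Fˣ, Nat.card {bb : F × F // bb.2 * ff aa.1 = bb.1 * ff aa.2} :=
    Nat.card_sigma
  rw [← Nat.card_congr e1, Nat.card_congr e2, h3]
  apply Finset.sum_congr rfl
  intro aa _
  exact card_ker _ _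

end Count

/-- Over a finite field F with q elements, q odd, the upper triangular subgroup of SL₂ (a Borel subgroup, of order q(q − 1)) has exactly q + 3 conjugacy classes. -/
theorem result {F : Type*} [Field F] [Fintype F] (hodd : Odd (Fintype.card F)) :
    Nat.card (ConjClasses ((Cfsg.upperTriangularGL 2 F).comap Matrix.SpecialLinearGroup.toGL)) = Fintype.card F + 3 := by
  classical
  have hq2 : (2 : F) ≠ 0 := by
    apply Ring.two_ne_zero
    intro hchar
    have := FiniteField.even_card_of_char_two hchar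
    rcases hodd with ⟨k, hk⟩
    omega
  have h1 := card_comm_eq_card_conjClasses_mul_card (BSL F)
  rw [card_commuting] at h1
  have hB : Nat.card (BSL F) = Fintype.card Fˣ * Fintype.card F := by
    rw [← Nat.card_congr (bEquiv (F := F)), Nat.card_prod, Nat.card_eq_fintype_card,
      Nat.card_eq_fintype_card]
  rw [hB] at h1
  -- evaluate the sum
  have h4 : (Finset.univ.filter (fun aa : Fˣ × Fˣ => (ff aa.1 = 0 ∧ ff aa.2 = 0))).card = 4 := by
    rw [← Finset.univ_product_univ,
      Finset.filter_product (fun a : Fˣ => ff a = 0) (fun a : Fˣ => ff a = 0),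
      Finset.card_product, card_ff_zero hq2]
  have hsum : (∑ aa : Fˣ × Fˣ, (if ff aa.1 = 0 ∧ ff aa.2 = 0 then
      Fintype.card F * Fintype.card F else Fintype.card F)) =
      4 * (Fintype.card F * Fintype.card F) +
        (Finset.univ.filter (fun aa : Fˣ × Fˣ => ¬ (ff aa.1 = 0 ∧ ff aa.2 = 0))).card *
          Fintype.card F := by
    rw [Finset.sum_ite, Finset.sum_const, Finset.sum_const, smul_eq_mul, smul_eq_mul, h4]
  have hcompl : (Finset.univ.filter (fun aa : Fˣ × Fˣ => (ff aa.1 = 0 ∧ ff aa.2 = 0))).card +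
      (Finset.univ.filter (fun aa : Fˣ × Fˣ => ¬ (ff aa.1 = 0 ∧ ff aa.2 = 0))).card =
      Fintype.card Fˣ * Fintype.card Fˣ := by
    rw [Finset.card_filter_add_card_filter_not, Finset.card_univ, Fintype.card_prod]
  rw [h4] at hcompl
  rw [hsum] at h1
  have hu : Fintype.card Fˣ + 1 = Fintype.card F := by
    rw [Fintype.card_units]
    have : 0 < Fintype.card F := Fintype.card_pos
    omega
  generalize (Finset.univ.filter (fun aa : Fˣ × Fˣ => ¬ (ff aa.1 = 0 ∧ ff aa.2 = 0))).card = n₂
    at h1 hcompl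
  generalize Fintype.card Fˣ = m at h1 hcompl hu
  generalize Nat.card (ConjClasses (BSL F)) = k at h1
  generalize Fintype.card F = q at h1 hu
  subst hu
  have hm : 0 < m := by
    rcases Nat.eq_zero_or_pos m with h | h
    · subst h; omega
    · exact h
  have h5 : k * (m * (m + 1)) = (m + 1 + 3) * (m * (m + 1)) := by
    rw [← h1]
    nlinarith [hcompl]
  exact Nat.eq_of_mul_eq_mul_right (Nat.mul_pos hm (Nat.succ_pos m)) h5

end Cfsg.Agent.S2437
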