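import Cfsg.Statements.S4065

set_option autoImplicit false
open Cfsg

namespace Cfsg.Agent.S4065

/-- In a group in which the centralizer of every non-identity element is commutative, every
element centralizer is a TI-subset. -/
theorem ti_of_ca {Γ : Type*} [Group Γ]
    (hCA : ∀ x : Γ, x ≠ 1 → ∀ a b : Γ, a * x = x * a → b * x = x * b → a * b = b * a) (x : Γ) :
    Cfsg.IsTISubset (Subgroup.centralizer ({x} : Set Γ) : Set Γ) := by
  intro g hg y hy hgy
  by_contra hy1
  apply hg
  rw [SetLike.mem_coe, Subgroup.mem_centralizer_singleton_iff] at hy hgy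
  rw [Subgroup.mem_set_normalizer_iff]
  intro h
  simp only [SetLike.mem_coe, Subgroup.mem_centralizer_singleton_iff]
  by_cases hx : x = 1
  · subst hx
    simp
  · have hy'1 : g * y * g⁻¹ ≠ 1 := by
      intro hc
      apply hy1
      calc y = g⁻¹ * (g * y * g⁻¹) * g := by group
        _ = 1 := by rw [hc]; group
    -- C(x) = C(y)
    have claim1 : ∀ c : Γ, c * x = x * c ↔ c * y = y * c := by
      intro c
      constructor
      · intro hc
        exact hCA x hx c y hc hy
      · intro hc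
        exact hCA y hy1 c x hc hy.symm
    have claim2 : ∀ c : Γ, c * x = x * c ↔ c * (g * y * g⁻¹) = (g * y * g⁻¹) * c := by
      intro c
      constructor
      · intro hc
        exact hCA x hx c _ hc hgy
      · intro hc
        exact hCA _ hy'1 c x hc hgy.symm
    rw [claim1 h, claim2 (g * h * g⁻¹)]
    constructor
    · intro hc
      calc g * h * g⁻¹ * (g * y * g⁻¹) = g * (h * y) * g⁻¹ := by group
        _ = g * (y * h) * g⁻¹ := by rw [hc]
        _ = g * y * g⁻¹ * (g * h * g⁻¹) := by group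
    · intro hc
      calc h * y = g⁻¹ * (g * h * g⁻¹ * (g * y * g⁻¹)) * g := by group
        _ = g⁻¹ * (g * y * g⁻¹ * (g * h * g⁻¹)) * g := by rw [hc]
        _ = y * h := by group

section field

variable {F : Type*} [Field F]

theorem parallel (X₁ X₂ X₃ A₁ A₂ A₃ : F) (hX : ¬ (X₁ = 0 ∧ X₂ = 0 ∧ X₃ = 0))
    (h12 : A₁ * X₂ = A₂ * X₁) (h13 : A₁ * X₃ = A₃ * X₁) (h23 : A₂ * X₃ = A₃ * X₂) :
    ∃ l : F, A₁ = l * X₁ ∧ A₂ = l * X₂ ∧ A₃ = l * X₃ := by
  by_cases h1 : X₁ = 0
  · by_cases h2 : X₂ = 0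
    · have h3 : X₃ ≠ 0 := fun h3 => hX ⟨h1, h2, h3⟩
      refine ⟨A₃ / X₃, ?_, ?_, ?_⟩
      · field_simp
        linear_combination h13
      · field_simp
        linear_combination h23
      · field_simp
    · refine ⟨A₂ / X₂, ?_, ?_, ?_⟩
      · field_simp
        linear_combination h12
      · field_simp
      · field_simp
        linear_combination -h23
  · refine ⟨A₁ / X₁, ?_, ?_, ?_⟩
    · field_simp
    · field_simp
      linear_combination -h12
    · field_simp
      linear_combination -h13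

/-- Two 2×2 matrices commuting with a non-scalar matrix commute with each other. -/
theorem comm_of_comm_nonscalar (x a b : Matrix (Fin 2) (Fin 2) F)
    (hx : ¬ (x 0 1 = 0 ∧ x 1 0 = 0 ∧ x 0 0 - x 1 1 = 0))
    (ha : a * x = x * a) (hb : b * x = x * b) : a * b = b * a := by
  have ha01 := congrFun (congrFun ha 0) 1
  have ha10 := congrFun (congrFun ha 1) 0
  have ha00 := congrFun (congrFun ha 0) 0
  have hb01 := congrFun (congrFun hb 0) 1
  have hb10 := congrFun (congrFun hb 1) 0
  have hb00 := congrFun (congrFun hb 0) 0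
  simp only [Matrix.mul_apply, Fin.sum_univ_two] at ha01 ha10 ha00 hb01 hb10 hb00
  obtain ⟨l, hl1, hl2, hl3⟩ := parallel (x 0 1) (x 1 0) (x 0 0 - x 1 1) (a 0 1) (a 1 0) (a 0 0 - a 1 1) hx
    (by linear_combination ha00) (by linear_combination -ha01) (by linear_combination ha10)
  obtain ⟨m, hm1, hm2, hm3⟩ := parallel (x 0 1) (x 1 0) (x 0 0 - x 1 1) (b 0 1) (b 1 0) (b 0 0 - b 1 1) hx
    (by linear_combination hb00) (by linear_combination -hb01) (by linear_combination hb10)
  have ha0 : a 0 0 = a 1 1 + l * (x 0 0 - x 1 1) := by linear_combination hl3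
  have hb0 : b 0 0 = b 1 1 + m * (x 0 0 - x 1 1) := by linear_combination hm3
  ext i j
  fin_cases i <;> fin_cases j <;>
    simp only [Matrix.mul_apply, Fin.sum_univ_two, Fin.zero_eta, Fin.mk_one, Fin.isValue] <;>
    simp only [hl1, hl2, hm1, hm2, ha0, hb0] <;> ring

variable [CharP F 2]

theorem sq_eq_one_char_two (r : F) (h : r ^ 2 = 1) : r = 1 := by
  have h2 : (2 : F) = 0 := CharTwo.two_eq_zero
  have : (r - 1) ^ 2 = 0 := by linear_combination h - r * h2 + h2
  have := pow_eq_zero_iff (two_ne_zero) |>.mp this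
  linear_combination this

theorem nonscalar_of_ne_one (x : Matrix.SpecialLinearGroup (Fin 2) F) (hx : x ≠ 1) :
    ¬ ((x : Matrix (Fin 2) (Fin 2) F) 0 1 = 0 ∧ (x : Matrix (Fin 2) (Fin 2) F) 1 0 = 0 ∧
      (x : Matrix (Fin 2) (Fin 2) F) 0 0 - (x : Matrix (Fin 2) (Fin 2) F) 1 1 = 0) := by
  rintro ⟨h1, h2, h3⟩
  apply hx
  have hdet := x.2
  rw [Matrix.det_fin_two] at hdet
  have h4 : (x : Matrix (Fin 2) (Fin 2) F) 0 0 = (x : Matrix (Fin 2) (Fin 2) F) 1 1 := by
    linear_combination h3
  have h5 : ((x : Matrix (Fin 2) (Fin 2) F) 1 1) ^ 2 = 1 := by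
    rw [h1, h4] at hdet
    linear_combination hdet
  have h6 := sq_eq_one_char_two _ h5
  ext i j
  fin_cases i <;> fin_cases j
  · simp [h4, h6]
  · simp [h1]
  · simp [h2]
  · simp [h6]

theorem sl2_ca (x : Matrix.SpecialLinearGroup (Fin 2) F) (hx : x ≠ 1)
    (a b : Matrix.SpecialLinearGroup (Fin 2) F) (ha : a * x = x * a) (hb : b * x = x * b) :
    a * b = b * a := by
  apply Subtype.ext
  have ha' : (a : Matrix (Fin 2) (Fin 2) F) * x = x * a := by
    have := congrArg Subtype.val ha
    simpa using this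
  have hb' : (b : Matrix (Fin 2) (Fin 2) F) * x = x * b := by
    have := congrArg Subtype.val hb
    simpa using this
  have := comm_of_comm_nonscalar (x : Matrix (Fin 2) (Fin 2) F) a b (nonscalar_of_ne_one x hx) ha' hb'
  simpa using this

theorem center_eq_bot : Subgroup.center (Matrix.SpecialLinearGroup (Fin 2) F) = ⊥ := by
  rw [Subgroup.eq_bot_iff_forall]
  intro A hA
  obtain ⟨r, hr, hrA⟩ := Matrix.SpecialLinearGroup.mem_center_iff.mp hA
  have hr1 : r = 1 := sq_eq_one_char_two r (by simpa using hr)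
  subst hr1
  apply Subtype.ext
  rw [← hrA]
  simp

theorem psl2_ca (x : Matrix.ProjectiveSpecialLinearGroup (Fin 2) F) (hx : x ≠ 1)
    (a b : Matrix.ProjectiveSpecialLinearGroup (Fin 2) F) (ha : a * x = x * a) (hb : b * x = x * b) :
    a * b = b * a := by
  have hinj : Function.Injective
      (QuotientGroup.mk' (Subgroup.center (Matrix.SpecialLinearGroup (Fin 2) F))) := by
    rw [← MonoidHom.ker_eq_bot_iff, QuotientGroup.ker_mk', center_eq_bot]
  obtain ⟨x, rfl⟩ := QuotientGroup.mk'_surjective _ x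
  obtain ⟨a, rfl⟩ := QuotientGroup.mk'_surjective _ a
  obtain ⟨b, rfl⟩ := QuotientGroup.mk'_surjective _ b
  rw [← map_mul, ← map_mul] at ha hb ⊢
  have hx' : x ≠ 1 := by
    rintro rfl
    exact hx (map_one _)
  rw [sl2_ca x hx' a b (hinj ha) (hinj hb)]

end field

theorem result (n : ℕ) (hn : 2 ≤ n)
    (x : Matrix.ProjectiveSpecialLinearGroup (Fin 2) (GaloisField 2 n)) :
    Cfsg.IsTISubset (Subgroup.centralizer ({x} : Set (Matrix.ProjectiveSpecialLinearGroup (Fin 2) (GaloisField 2 n))) :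
      Set (Matrix.ProjectiveSpecialLinearGroup (Fin 2) (GaloisField 2 n))) :=
  ti_of_ca psl2_ca x

end Cfsg.Agent.S4065
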