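import Mathlib
import Cfsg.Agent.Lib.Helper5_PSLCard
import Cfsg.Statements.S0262

set_option autoImplicit false
set_option linter.unusedSimpArgs false
open Cfsg

namespace Cfsg.Agent.S0262

open Matrix
open scoped MatrixGroups Pointwise

/-- If a cyclic subgroup `C` contains the full `r`-part of `|G|`, all Sylow `r`-subgroups of `G` are cyclic. -/
theorem sylow_isCyclic_of_cyclic_subgroup {G : Type*} [Group G] [Finite G] (r : ℕ) [Fact r.Prime]
    (C : Subgroup G) [IsCyclic C] (h : (Nat.card G).factorization r = (Nat.card C).factorization r)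
    (R : Sylow r G) : IsCyclic (R : Subgroup G) := by
  let Q : Sylow r C := default
  let Q' : Subgroup G := (Q : Subgroup C).map C.subtype
  have e1 : (Q : Subgroup C) ≃* Q' := Subgroup.equivMapOfInjective _ _ C.subtype_injective
  have hcard : Nat.card Q' = r ^ (Nat.card G).factorization r := by
    rw [← Nat.card_congr e1.toEquiv, Sylow.card_eq_multiplicity, h]
  let Q'' : Sylow r G := Sylow.ofCard Q' hcard
  obtain ⟨g, hg⟩ := MulAction.exists_smul_eq G Q'' R
  have hR : (R : Subgroup G) = MulAut.conj g • Q' := by
    rw [← hg, Sylow.coe_subgroup_smul, Sylow.coe_ofCard]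
  have hQ : IsCyclic (Q : Subgroup C) := inferInstance
  have hQ' : IsCyclic Q' := isCyclic_of_surjective e1 e1.surjective
  rw [hR]
  exact isCyclic_of_surjective (Subgroup.equivSMul (MulAut.conj g) Q') (Subgroup.equivSMul (MulAut.conj g) Q').surjective

variable {F : Type*} [Field F]

/-- Diagonal element of `SL(2,F)`. -/
def tor (a : Fˣ) : SL(2, F) := ⟨!![(a : F), 0; 0, ((a⁻¹ : Fˣ) : F)], by simp [Matrix.det_fin_two]⟩

lemma tor_coe (a : Fˣ) : (tor a : Matrix (Fin 2) (Fin 2) F) = !![(a : F), 0; 0, ((a⁻¹ : Fˣ) : F)] := rfl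

/-- The split torus of `SL(2,F)`. -/
def torusHom : Fˣ →* SL(2, F) where
  toFun a := tor a
  map_one' := by
    apply Subtype.ext
    rw [tor_coe]
    ext i j
    fin_cases i <;> fin_cases j <;> simp
  map_mul' a b := by
    apply Subtype.ext
    rw [Matrix.SpecialLinearGroup.coe_mul, tor_coe, tor_coe, tor_coe]
    ext i j
    fin_cases i <;> fin_cases j <;> simp [Matrix.mul_apply, Fin.sum_univ_two, mul_comm]

lemma torusHom_injective : Function.Injective (torusHom : Fˣ →* SL(2, F)) := by
  intro a b hab
  have := congrArg (fun g : SL(2, F) => (g : Matrix (Fin 2) (Fin 2) F) 0 0) hab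
  simp [torusHom, tor_coe] at this
  exact Units.ext this

lemma card_torus [Fintype F] : Nat.card (torusHom : Fˣ →* SL(2, F)).range = Fintype.card F - 1 := by
  rw [Nat.card_congr (MonoidHom.ofInjective torusHom_injective).toEquiv.symm, Nat.card_units,
    Nat.card_eq_fintype_card]

instance [Finite F] : IsCyclic (torusHom : Fˣ →* SL(2, F)).range :=
  isCyclic_of_surjective (torusHom : Fˣ →* SL(2, F)).rangeRestrict (MonoidHom.rangeRestrict_surjective _)

section nonsplit

/-- constructor with the right type -/
def mkSL (M : Matrix (Fin 2) (Fin 2) F) (h : M.det = 1) : SL(2, F) := ⟨M, h⟩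

lemma mkSL_coe (M : Matrix (Fin 2) (Fin 2) F) (h : M.det = 1) : (mkSL M h : Matrix (Fin 2) (Fin 2) F) = M := rfl

variable [Fintype F]

/-- There is a cyclic subgroup of `SL(2,F)` of order `q + 1` (the non-split torus). -/
theorem exists_cyclic_card_succ (p : ℕ) [Fact p.Prime] [CharP F p] :
    ∃ C : Subgroup SL(2, F), IsCyclic C ∧ Nat.card C = Fintype.card F + 1 := by
  classical
  let K := FiniteField.Extension F p 2
  have hfin : Finite K := inferInstance
  have hrank : Module.finrank F K = 2 := FiniteField.finrank_extension F p 2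
  have hcardK : Nat.card K = Fintype.card F ^ 2 := by
    rw [FiniteField.natCard_extension, Nat.card_eq_fintype_card]
  let b : Module.Basis (Fin 2) F K := Module.finBasisOfFinrankEq F K hrank
  let nrm : Kˣ →* Fˣ := Units.map (Algebra.norm F (S := K))
  have hsurj : Function.Surjective nrm := FiniteField.unitsMap_norm_surjective F K
  let N1 : Subgroup Kˣ := nrm.ker
  have hN1card : Nat.card N1 = Fintype.card F + 1 := by
    have h1 := Subgroup.card_mul_index N1
    rw [Subgroup.index_ker, MonoidHom.range_eq_top.mpr hsurj, Subgroup.card_top, Nat.card_units,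
      Nat.card_units, hcardK, Nat.card_eq_fintype_card (α := F)] at h1
    have hq : 1 < Fintype.card F := Fintype.one_lt_card
    set q := Fintype.card F with hq_def
    have e1 : q ^ 2 - 1 = (q + 1) * (q - 1) := by
      have := Nat.pow_two_sub_pow_two q 1
      simpa using this
    rw [e1] at h1
    exact Nat.eq_of_mul_eq_mul_right (by omega) h1
  -- the hom into SL(2,F)
  have hdet : ∀ x : N1, (Algebra.leftMulMatrix b ((x : Kˣ) : K)).det = 1 := by
    intro x
    rw [← Algebra.norm_eq_matrix_det]
    have := x.2
    rw [MonoidHom.mem_ker] at this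
    have h2 := congrArg Units.val this
    simpa [nrm] using h2
  let ψ : N1 →* SL(2, F) :=
    { toFun := fun x => mkSL (Algebra.leftMulMatrix b ((x : Kˣ) : K)) (hdet x)
      map_one' := by
        apply Subtype.ext
        rw [mkSL_coe]
        simp
      map_mul' := fun x y => by
        apply Subtype.ext
        rw [Matrix.SpecialLinearGroup.coe_mul, mkSL_coe, mkSL_coe, mkSL_coe]
        simp }
  have hψinj : Function.Injective ψ := by
    intro x y hxy
    have h1 := congrArg Subtype.val hxy
    have h2 : ((x : Kˣ) : K) = ((y : Kˣ) : K) := Algebra.leftMulMatrix_injective b h1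
    exact Subtype.ext (Units.ext h2)
  refine ⟨ψ.range, ?_, ?_⟩
  · exact isCyclic_of_surjective ψ.rangeRestrict (MonoidHom.rangeRestrict_surjective _)
  · rw [Nat.card_congr (MonoidHom.ofInjective hψinj).toEquiv.symm, hN1card]

end nonsplit


/-- For an odd prime r different from the characteristic, the Sylow r-subgroups of SL_2(q) are cyclic. -/
theorem result {F : Type*} [Field F] [Fintype F] (p : ℕ) [Fact p.Prime] [CharP F p] (r : ℕ) [Fact r.Prime] (hr : r ≠ 2) (hrp : r ≠ p) (R : Sylow r (Matrix.SpecialLinearGroup (Fin 2) F)) : IsCyclic (R : Subgroup (Matrix.SpecialLinearGroup (Fin 2) F)) := by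
  classical
  have hp : p.Prime := Fact.out
  have hrprime : r.Prime := Fact.out
  obtain ⟨f, hpf, hqf⟩ := FiniteField.card F p
  have hcard := Cfsg.Agent.Lib.Helper5_PSLCard.card_SL_two (F := F)
  have hq : 1 < Fintype.card F := Fintype.one_lt_card
  set q := Fintype.card F with hq_def
  have e1 : q ^ 2 - 1 = (q + 1) * (q - 1) := by
    have := Nat.pow_two_sub_pow_two q 1
    simpa using this
  have hrq : ¬ r ∣ q := by
    intro h
    rw [hqf] at h
    have := (Nat.prime_dvd_prime_iff_eq hrprime hp).mp (hrprime.dvd_of_dvd_pow h)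
    exact hrp this
  have hfq : q.factorization r = 0 := Nat.factorization_eq_zero_of_not_dvd hrq
  have hq0 : q ≠ 0 := by omega
  have hq1 : q - 1 ≠ 0 := by omega
  have hq2 : q + 1 ≠ 0 := by omega
  have hfac : (Nat.card (Matrix.SpecialLinearGroup (Fin 2) F)).factorization r =
      (q + 1).factorization r + (q - 1).factorization r := by
    rw [hcard, e1, Nat.factorization_mul hq0 (mul_ne_zero hq2 hq1), Nat.factorization_mul hq2 hq1]
    simp [hfq]
  by_cases hdvd : r ∣ q + 1
  · -- non-split torus
    have hnd : ¬ r ∣ q - 1 := by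
      intro h
      have h2 : r ∣ (q + 1) - (q - 1) := Nat.dvd_sub hdvd h
      have h3 : (q + 1) - (q - 1) = 2 := by omega
      rw [h3] at h2
      exact hr ((Nat.prime_dvd_prime_iff_eq hrprime Nat.prime_two).mp h2)
    obtain ⟨C, hC, hCcard⟩ := exists_cyclic_card_succ (F := F) p
    refine sylow_isCyclic_of_cyclic_subgroup r C ?_ R
    rw [hfac, hCcard, Nat.factorization_eq_zero_of_not_dvd hnd, add_zero]
  · -- split torus
    refine sylow_isCyclic_of_cyclic_subgroup r (torusHom : Fˣ →* SL(2, F)).range ?_ R
    rw [hfac, card_torus, Nat.factorization_eq_zero_of_not_dvd hdvd, zero_add]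

end Cfsg.Agent.S0262
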