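import Cfsg.Statements.S2302
import Cfsg.Agent.Lib.Helper38_SL2

set_option autoImplicit false
open Cfsg

namespace Cfsg.Agent.S2302
open Matrix Cfsg.Agent.Lib.Helper38_SL2

section helpers
variable {F : Type*} [Field F] [Fintype F] [CharP F 2]



theorem exists_sq (y : F) : ∃ s : F, s * s = y := by
  obtain ⟨s, hs⟩ := FiniteField.isSquare_of_char_two (ringChar.eq F 2) y
  exact ⟨s, hs.symm⟩

omit [Fintype F] in
theorem sq_inj {x y : F} (h : x * x = y * y) : x = y := by
  have h1 : (x - y) * (x - y) = 0 := by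
    have h2 : (2 : F) = 0 := CharTwo.two_eq_zero
    linear_combination h + (y * y - x * y) * h2
  have := mul_self_eq_zero.mp h1
  exact sub_eq_zero.mp this






omit [Fintype F] in
theorem two_zero : (2 : F) = 0 := CharTwo.two_eq_zero

/-- the standard involution -/
def u : SpecialLinearGroup (Fin 2) F := mk2 1 1 0 1 (by ring)

omit [Fintype F] [CharP F 2] in
theorem exists_mk2 (g : SpecialLinearGroup (Fin 2) F) :
    ∃ (a b c d : F) (h : a * d - b * c = 1), g = mk2 a b c d h :=
  ⟨_, _, _, _, _, eq_mk2 g⟩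

omit [Fintype F] in
/-- shape of an element of order two -/
theorem shape (a b c d : F) (h) (hg : orderOf (mk2 a b c d h) = 2) :
    d = a ∧ a * a + b * c = 1 ∧ (b ≠ 0 ∨ c ≠ 0) := by
  have h2 : (2 : F) = 0 := two_zero
  have : Fact (Nat.Prime 2) := ⟨Nat.prime_two⟩
  obtain ⟨hsq, hne⟩ := orderOf_eq_prime_iff.mp hg
  rw [pow_two, mk2_mul, one_eq_mk2, mk2_eq_iff] at hsq
  obtain ⟨e1, e2, e3, e4⟩ := hsq
  have had : d = a := by
    apply sq_inj
    linear_combination e4 - e1
  refine ⟨had, e1, ?_⟩
  by_contra hcon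
  push Not at hcon
  obtain ⟨hb, hc⟩ := hcon
  apply hne
  rw [one_eq_mk2, mk2_eq_iff]
  have ha1 : a = 1 := by
    apply sq_inj
    rw [hb] at e1
    linear_combination e1
  refine ⟨ha1, hb, hc, ?_⟩
  rw [had, ha1]

/-- every element of order two is conjugate to `u` -/
theorem conj_u (g : SpecialLinearGroup (Fin 2) F) (hg : orderOf g = 2) : IsConj u g := by
  have h2 : (2 : F) = 0 := two_zero
  obtain ⟨a, b, c, d, hdet, rfl⟩ := exists_mk2 g
  obtain ⟨had, e1, hbc⟩ := shape a b c d hdet hg
  subst had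
  rw [isConj_iff]
  suffices h : ∃ x : SpecialLinearGroup (Fin 2) F, x * u = mk2 d b c d hdet * x by
    obtain ⟨x, hx⟩ := h
    exact ⟨x, by rw [hx]; group⟩
  by_cases hc : c = 0
  · have hb : b ≠ 0 := by
      rcases hbc with h | h
      · exact h
      · exact absurd hc h
    have ha1 : d = 1 := by
      apply sq_inj
      rw [hc] at e1
      linear_combination e1
    obtain ⟨s, hs⟩ := exists_sq (b⁻¹)
    have hsb : s * s * b = 1 := by rw [hs]; exact inv_mul_cancel₀ hb
    refine ⟨mk2 (s * b) 0 0 s (by linear_combination hsb), ?_⟩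
    rw [u, mk2_mul, mk2_mul, mk2_eq_iff]
    rw [ha1, hc]
    refine ⟨by ring, by ring, by ring, by ring⟩
  · obtain ⟨s, hs⟩ := exists_sq (c⁻¹)
    have hsc : s * s * c = 1 := by rw [hs]; exact inv_mul_cancel₀ hc
    refine ⟨mk2 (s * (d + 1)) s (s * c) 0 (by linear_combination (-1 : F) * hsc - h2), ?_⟩
    rw [u, mk2_mul, mk2_mul, mk2_eq_iff]
    refine ⟨?_, ?_, ?_, ?_⟩
    · linear_combination (-s) * e1
    · linear_combination s * h2
    · linear_combination (- s * c * d) * h2
    · ring






theorem isConj_of_orderOf (g h : SpecialLinearGroup (Fin 2) F) (hg : orderOf g = 2)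
    (hh : orderOf h = 2) : IsConj g h :=
  ((conj_u g hg).symm).trans (conj_u h hh)

theorem carrier_eq (g : SpecialLinearGroup (Fin 2) F) (hg : orderOf g = 2) :
    (ConjClasses.mk g).carrier = {h | orderOf h = 2} := by
  ext h
  rw [ConjClasses.mem_carrier_iff_mk_eq, ConjClasses.mk_eq_mk_iff_isConj, Set.mem_ofPred_eq]
  constructor
  · intro hc
    obtain ⟨x, hx⟩ := isConj_iff.mp hc
    have hs : SemiconjBy x h g := by
      unfold SemiconjBy
      rw [← hx]; group
    rw [hs.orderOf_eq, hg]
  · intro hh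
    exact isConj_of_orderOf h g hh hg

omit [Fintype F] in
theorem orderOf_mk2 (a b c : F) (h : a * a - b * c = 1) (hbc : b ≠ 0 ∨ c ≠ 0) :
    orderOf (mk2 a b c a h) = 2 := by
  have h2 : (2 : F) = 0 := two_zero
  have : Fact (Nat.Prime 2) := ⟨Nat.prime_two⟩
  rw [orderOf_eq_prime_iff]
  constructor
  · rw [pow_two, mk2_mul, one_eq_mk2, mk2_eq_iff]
    refine ⟨?_, ?_, ?_, ?_⟩
    · linear_combination h + b * c * h2
    · linear_combination a * b * h2
    · linear_combination a * c * h2
    · linear_combination h + b * c * h2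
  · rw [one_eq_mk2, Ne, mk2_eq_iff]
    rintro ⟨-, hb, hc, -⟩
    rcases hbc with h' | h'
    · exact h' hb
    · exact h' hc

/-- the map from involutions to nonzero pairs -/
def toPair (g : {h : SpecialLinearGroup (Fin 2) F // orderOf h = 2}) : {v : F × F // v ≠ 0} :=
  ⟨(g.1 0 1, g.1 1 0), by
    obtain ⟨g, hg⟩ := g
    obtain ⟨a, b, c, d, hdet, rfl⟩ := exists_mk2 g
    obtain ⟨-, -, hbc⟩ := shape a b c d hdet hg
    intro h0
    have hb : b = 0 := congrArg Prod.fst h0
    have hc : c = 0 := congrArg Prod.snd h0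
    rcases hbc with h' | h'
    · exact h' hb
    · exact h' hc⟩

theorem toPair_bijective : Function.Bijective (toPair (F := F)) := by
  have h2 : (2 : F) = 0 := two_zero
  constructor
  · rintro ⟨g, hg⟩ ⟨g', hg'⟩ he
    obtain ⟨a, b, c, d, hdet, rfl⟩ := exists_mk2 g
    obtain ⟨a', b', c', d', hdet', rfl⟩ := exists_mk2 g'
    obtain ⟨had, e1, -⟩ := shape a b c d hdet hg
    obtain ⟨had', e1', -⟩ := shape a' b' c' d' hdet' hg'
    have he' := congrArg Subtype.val he
    have hb : b = b' := congrArg Prod.fst he'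
    have hc : c = c' := congrArg Prod.snd he'
    apply Subtype.ext
    change mk2 a b c d hdet = mk2 a' b' c' d' hdet'
    rw [mk2_eq_iff]
    have haa : a = a' := by
      apply sq_inj
      rw [hb, hc] at e1
      linear_combination e1 - e1'
    exact ⟨haa, hb, hc, by rw [had, had', haa]⟩
  · rintro ⟨⟨b, c⟩, hv⟩
    obtain ⟨a, ha⟩ := exists_sq (1 + b * c)
    have hbc : b ≠ 0 ∨ c ≠ 0 := by
      by_contra hcon
      push Not at hcon
      apply hv
      rw [hcon.1, hcon.2]; rfl
    refine ⟨⟨mk2 a b c a (by linear_combination ha), orderOf_mk2 a b c _ hbc⟩, ?_⟩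
    rfl

theorem card_carrier (g : SpecialLinearGroup (Fin 2) F) (hg : orderOf g = 2) :
    Nat.card (ConjClasses.mk g).carrier = Fintype.card F ^ 2 - 1 := by
  classical
  rw [carrier_eq g hg]
  change Nat.card {h : SpecialLinearGroup (Fin 2) F // orderOf h = 2} = _
  rw [Nat.card_eq_of_bijective _ toPair_bijective]
  rw [Nat.card_eq_fintype_card, Fintype.card_subtype_compl, Fintype.card_prod, Fintype.card_subtype_eq, pow_two]



end helpers

/-- Over a finite field with q elements of characteristic 2, the involutions of SL₂ (the non-identity unipotent elements) form a single conjugacy class, of size q² − 1. -/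
theorem result {F : Type*} [Field F] [Fintype F] [CharP F 2] (g h : Matrix.SpecialLinearGroup (Fin 2) F) (hg : orderOf g = 2) (hh : orderOf h = 2) :
    IsConj g h ∧ Nat.card (ConjClasses.mk g).carrier = Fintype.card F ^ 2 - 1 := by
  exact ⟨isConj_of_orderOf g h hg hh, card_carrier g hg⟩

end Cfsg.Agent.S2302
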