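import Mathlib
import Cfsg.Statements.S0800

set_option autoImplicit false
open Cfsg

namespace Cfsg.Agent.S0800

open Polynomial Matrix

variable {F : Type*} [Field F]

theorem cayley (A : Matrix (Fin 2) (Fin 2) F) :
    A * A = A.trace • A - A.det • (1 : Matrix (Fin 2) (Fin 2) F) := by
  ext i j
  fin_cases i <;> fin_cases j <;>
    simp [Matrix.mul_apply, Fin.sum_univ_two, Matrix.trace, Matrix.det_fin_two] <;> ring

/-- the characteristic polynomial of a determinant-one matrix with trace `t` -/
noncomputable def chi (t : F) : F[X] := X ^ 2 - C t * X + 1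

theorem aeval_chi (A : Matrix (Fin 2) (Fin 2) F) (hA : A.det = 1) :
    aeval A (chi A.trace) = 0 := by
  simp only [chi, map_sub, map_add, map_mul, map_pow, aeval_X, aeval_C, map_one]
  rw [pow_two, cayley A, hA, Algebra.algebraMap_eq_smul_one, smul_mul_assoc, one_mul, one_smul]
  abel

theorem chi_monic (t : F) : (chi t).Monic := by
  have : chi t = X ^ 2 + (C (-t) * X + C 1) := by
    simp only [chi, map_neg, map_one]; ring
  rw [this]
  apply monic_X_pow_add
  have : (C (-t) * X + C 1 : F[X]).degree ≤ 1 := by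
    compute_degree
  exact lt_of_le_of_lt this (by norm_num)

theorem chi_natDegree (t : F) : (chi t).natDegree = 2 := by
  unfold chi
  compute_degree!

theorem aeval_eq_zero_of_dvd (M : Matrix (Fin 2) (Fin 2) F) (hdet : M.det = 1) (P : F[X])
    (h : chi M.trace ∣ P) : aeval M P = 0 := by
  obtain ⟨Q, rfl⟩ := h
  rw [map_mul, aeval_chi M hdet, zero_mul]

/-- Case A: no root. -/
theorem caseA [Fintype F] (M : Matrix (Fin 2) (Fin 2) F) (hdet : M.det = 1)
    (hroot : ∀ r : F, r ^ 2 - M.trace * r + 1 ≠ 0) :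
    M ^ (Fintype.card F) = M ∨ M ^ (Fintype.card F) * M = 1 := by
  obtain ⟨t, ht⟩ : ∃ t, t = M.trace := ⟨_, rfl⟩
  obtain ⟨q, hq⟩ : ∃ q, q = Fintype.card F := ⟨_, rfl⟩
  rw [← ht] at hroot
  rw [← hq]
  have hqpos : 0 < q := hq ▸ Fintype.card_pos
  have h1 : aeval M (chi t) = 0 := ht ▸ aeval_chi M hdet
  have h2 : aeval M (X ^ (2 * q) - C t * X ^ q + 1 : F[X]) = 0 := by
    have : (X ^ (2 * q) - C t * X ^ q + 1 : F[X]) = (chi t) ^ q := by
      rw [hq, ← FiniteField.expand_card (chi t)]
      simp only [chi, map_sub, map_add, map_mul, map_pow, expand_X, expand_C, map_one]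
      ring
    rw [this, map_pow, h1, zero_pow hqpos.ne']
  obtain ⟨P₁, hP₁⟩ : ∃ P₁ : F[X], P₁ = X ^ q - X := ⟨_, rfl⟩
  obtain ⟨P₂, hP₂⟩ : ∃ P₂ : F[X], P₂ = X ^ q - (C t - X) := ⟨_, rfl⟩
  have h3 : aeval M P₁ * aeval M P₂ = 0 := by
    have : P₁ * P₂ = (X ^ (2 * q) - C t * X ^ q + 1 : F[X]) - chi t := by
      simp only [hP₁, hP₂, chi]; ring
    rw [← map_mul, this, map_sub, h1, h2, sub_zero]
  obtain ⟨R₁, hR₁⟩ : ∃ R₁ : F[X], R₁ = P₁ %ₘ chi t := ⟨_, rfl⟩
  have hdeg : R₁.natDegree ≤ 1 := by
    have := natDegree_modByMonic_lt P₁ (chi_monic t) (by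
      intro h; have := chi_natDegree t; rw [h] at this; simp at this)
    rw [chi_natDegree, ← hR₁] at this
    omega
  have hPR : aeval M P₁ = aeval M R₁ := by
    have := modByMonic_add_div P₁ (chi t)
    rw [← this, map_add, map_mul, h1, zero_mul, add_zero, hR₁]
  obtain ⟨b, a, hab⟩ := exists_eq_X_add_C_of_natDegree_le_one hdeg
  by_cases hR : R₁ = 0
  · left
    rw [hR, map_zero] at hPR
    simp only [hP₁, map_sub, map_pow, aeval_X] at hPR
    exact sub_eq_zero.mp hPR
  · right
    have hN : a ^ 2 + a * b * t + b ^ 2 ≠ 0 := by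
      intro hN
      by_cases hb : b = 0
      · subst hb
        have ha : a = 0 := by
          have : a ^ 2 = 0 := by simpa using hN
          exact pow_eq_zero_iff (two_ne_zero) |>.mp this
        apply hR
        rw [hab, ha]; simp
      · apply hroot (-a / b)
        field_simp
        linear_combination hN
    obtain ⟨N, hNdef⟩ : ∃ N, N = a ^ 2 + a * b * t + b ^ 2 := ⟨_, rfl⟩
    rw [← hNdef] at hN
    have h4 : (C b * (C t - X) + C a) * R₁ = C N - C (b ^ 2) * chi t := by
      rw [hab, hNdef]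
      simp only [chi, map_add, map_mul, map_pow]
      ring
    have h5 : aeval M ((C b * (C t - X) + C a) * R₁) * aeval M P₂ = 0 := by
      rw [map_mul, ← hPR, mul_assoc, h3, mul_zero]
    rw [h4, map_sub, map_mul, h1, mul_zero, sub_zero, aeval_C,
      Algebra.algebraMap_eq_smul_one, smul_mul_assoc, one_mul] at h5
    have h6 : aeval M P₂ = 0 := by
      have := congrArg (fun Y => N⁻¹ • Y) h5
      simpa [smul_smul, inv_mul_cancel₀ hN] using this
    simp only [hP₂, map_sub, map_pow, aeval_X, aeval_C, Algebra.algebraMap_eq_smul_one] at h6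
    have h7 : M ^ q = t • (1 : Matrix (Fin 2) (Fin 2) F) - M := sub_eq_zero.mp h6
    rw [h7, sub_mul, smul_mul_assoc, one_mul, cayley M, hdet, one_smul, ht]
    abel

/-- Case B1: two distinct roots in `F`. -/
theorem caseB1 [Fintype F] (M : Matrix (Fin 2) (Fin 2) F) (hdet : M.det = 1) (r : F)
    (hr : r ^ 2 - M.trace * r + 1 = 0) (hne : r ≠ M.trace - r) :
    M ^ (Fintype.card F - 1) = 1 := by
  set t := M.trace with ht
  set q := Fintype.card F with hq
  have hr0 : r ≠ 0 := by
    rintro rfl
    simp at hr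
  have hs : r * (t - r) = 1 := by linear_combination -hr
  have hs0 : t - r ≠ 0 := by
    intro h; rw [h, mul_zero] at hs; exact zero_ne_one hs
  have hfac : chi t = (X - C r) * (X - C (t - r)) := by
    have : (X - C r) * (X - C (t - r)) = X ^ 2 - C t * X + C (r * (t - r)) := by
      simp only [map_sub, map_mul]; ring
    rw [this, hs, chi, map_one]
  have hd1 : (X - C r) ∣ (X ^ (q - 1) - 1 : F[X]) := by
    rw [dvd_iff_isRoot]
    simp [FiniteField.pow_card_sub_one_eq_one r hr0, hq]
  have hd2 : (X - C (t - r)) ∣ (X ^ (q - 1) - 1 : F[X]) := by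
    rw [dvd_iff_isRoot]
    simp [FiniteField.pow_card_sub_one_eq_one (t - r) hs0, hq]
  have hcop : IsCoprime (X - C r) (X - C (t - r)) :=
    isCoprime_X_sub_C_of_isUnit_sub (sub_ne_zero.mpr hne).isUnit
  have hdvd : chi t ∣ (X ^ (q - 1) - 1 : F[X]) := by
    rw [hfac]; exact hcop.mul_dvd hd1 hd2
  have := aeval_eq_zero_of_dvd M hdet _ hdvd
  simp only [map_sub, map_pow, aeval_X, map_one] at this
  exact sub_eq_zero.mp this

/-- Case B2: a double root. -/
theorem caseB2 (p : ℕ) [Fact p.Prime] [CharP F p] (M : Matrix (Fin 2) (Fin 2) F)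
    (hdet : M.det = 1) (r : F)
    (hr : r ^ 2 - M.trace * r + 1 = 0) (he : r = M.trace - r) :
    M ^ (2 * p) = 1 := by
  set t := M.trace with ht
  have hs : r * r = 1 := by
    have : r * (t - r) = 1 := by linear_combination -hr
    rwa [← he] at this
  have hfac : chi t = (X - C r) ^ 2 := by
    have : (X - C r) ^ 2 = X ^ 2 - C (r + r) * X + C (r * r) := by
      simp only [map_add, map_mul]; ring
    have h2 : r + r = t := by linear_combination he
    rw [this, hs, h2, chi, map_one]
  have hp2 : 2 ≤ p := (Fact.out : p.Prime).two_le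
  have hfrob : (X - C r : F[X]) ^ p = X ^ p - C (r ^ p) := by
    rw [sub_pow_char, map_pow]
  have hd : chi t ∣ (X ^ (2 * p) - 1 : F[X]) := by
    have h1 : chi t ∣ (X ^ p - C (r ^ p) : F[X]) := by
      rw [hfac, ← hfrob]; exact pow_dvd_pow _ hp2
    have h2 : (X ^ (2 * p) - 1 : F[X]) = (X ^ p - C (r ^ p)) * (X ^ p + C (r ^ p)) := by
      have : (C (r ^ p) : F[X]) * C (r ^ p) = 1 := by
        rw [← map_mul, ← mul_pow, hs, one_pow, map_one]
      linear_combination this
    rw [h2]; exact Dvd.dvd.mul_right h1 _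
  have := aeval_eq_zero_of_dvd M hdet _ hd
  simp only [map_sub, map_pow, aeval_X, map_one] at this
  exact sub_eq_zero.mp this

theorem pow_crit {n : ℕ} (g : Matrix.SpecialLinearGroup (Fin n) F) (k : ℕ)
    (h : (g : Matrix (Fin n) (Fin n) F) ^ k = 1) : orderOf g ∣ k := by
  apply orderOf_dvd_of_pow_eq_one
  apply Subtype.ext
  simp only [Matrix.SpecialLinearGroup.coe_pow, Matrix.SpecialLinearGroup.coe_one]
  exact h

theorem result {F : Type*} [Field F] [Fintype F] {q : ℕ} (hF : Fintype.card F = q) (p : ℕ) [Fact p.Prime] [CharP F p] (g : Matrix.SpecialLinearGroup (Fin 2) F) (hg : Nat.Coprime (orderOf g) p) : orderOf g ∣ q - 1 ∨ orderOf g ∣ q + 1 := by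
  subst hF
  set M : Matrix (Fin 2) (Fin 2) F := (g : Matrix (Fin 2) (Fin 2) F) with hM
  have hdet : M.det = 1 := g.2
  have hq1 : 1 < Fintype.card F := Fintype.one_lt_card
  by_cases hroot : ∃ r : F, r ^ 2 - M.trace * r + 1 = 0
  · obtain ⟨r, hr⟩ := hroot
    by_cases he : r = M.trace - r
    · have h2p := pow_crit g (2 * p) (caseB2 p M hdet r hr he)
      have h2 : orderOf g ∣ 2 := Nat.Coprime.dvd_of_dvd_mul_right hg h2p
      by_cases hp : p = 2
      · subst hp
        have : orderOf g = 1 := Nat.Coprime.eq_one_of_dvd hg h2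
        left; rw [this]; exact one_dvd _
      · left
        have hodd : Fintype.card F % 2 = 1 := by
          apply FiniteField.odd_card_of_char_ne_two
          rw [ringChar.eq F p]; exact hp
        exact h2.trans (by omega)
    · left
      exact pow_crit g _ (caseB1 M hdet r hr he)
  · push Not at hroot
    rcases caseA M hdet hroot with h | h
    · left
      apply orderOf_dvd_of_pow_eq_one
      have hgq : g ^ (Fintype.card F) = g := by
        apply Subtype.ext
        simp only [Matrix.SpecialLinearGroup.coe_pow]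
        exact h
      have : g ^ (Fintype.card F - 1) * g = g := by
        rw [← pow_succ, Nat.sub_add_cancel hq1.le, hgq]
      exact mul_eq_right.mp this
    · right
      apply pow_crit
      rw [pow_succ]; exact h

end Cfsg.Agent.S0800
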