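import Cfsg.Statements.S0307


set_option autoImplicit false
open Cfsg

namespace Cfsg.Agent.S0307

open Matrix Matrix.ProjGenLinGroup

section
variable {n R : Type*} [Fintype n] [DecidableEq n] [CommRing R]

set_option backward.isDefEq.respectTransparency.types false in
/-- if `r^n * det g = 1` then the class of `g` in `PGL` comes from `PSL` -/
theorem mem_range_of_root (g : GL n R) (r : Rˣ)
    (hr : r ^ Fintype.card n * GeneralLinearGroup.det g = 1) :
    ProjGenLinGroup.mk g ∈ (ProjectiveSpecialLinearGroup.toPGL (n := n) (R := R)).range := by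
  simp only [Units.ext_iff, Units.val_mul, Units.val_pow_eq_pow_val,
    GeneralLinearGroup.val_det_apply, ← Matrix.det_smul g.1 r.1, Units.val_one] at hr
  refine ⟨QuotientGroup.mk ⟨r.1 • g.1, hr⟩, ?_⟩
  simp only [ProjectiveSpecialLinearGroup.toPGL_mk, mk_eq_mk_iff]
  refine ⟨r⁻¹, Units.ext ?_⟩
  simp only [Units.val_mul, SpecialLinearGroup.coe_GL_coe_matrix, GeneralLinearGroup.coe_scalar]
  simp [← Matrix.mul_smul, ← Matrix.diagonal_smul, Pi.smul_def, smul_eq_mul]

/-- the class of `g` comes from `PSL` iff `det g` is an `n`-th power -/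
theorem mem_range_iff (g : GL n R) :
    ProjGenLinGroup.mk g ∈ (ProjectiveSpecialLinearGroup.toPGL (n := n) (R := R)).range ↔
      ∃ k : Rˣ, k ^ Fintype.card n = GeneralLinearGroup.det g := by
  constructor
  · rintro ⟨X, hX⟩
    induction X using QuotientGroup.induction_on with | H X =>
    obtain ⟨u, hu⟩ : ∃ u, SpecialLinearGroup.toGL X * (GeneralLinearGroup.scalar n) u = g := by
      simpa [mk_eq_mk_iff] using hX
    exact ⟨u, by simpa using congr(Matrix.GeneralLinearGroup.det $hu)⟩
  · rintro ⟨k, hk⟩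
    apply mem_range_of_root g k⁻¹
    rw [← hk, inv_pow, inv_mul_cancel]

end


/-- PSL_n(q) is normal in PGL_n(q) with cyclic quotient of order gcd(n, q-1): the image of the natural map PSL_n → PGL_n is the kernel of a surjective homomorphism onto the cyclic group of that order. -/
theorem result {F : Type*} [Field F] [Fintype F] {q : ℕ} (hF : Fintype.card F = q) (n : ℕ) (hn : 1 ≤ n) : ∃ g : Matrix.ProjGenLinGroup (Fin n) F →* Multiplicative (ZMod (Nat.gcd n (q - 1))), Function.Surjective g ∧ g.ker = (Matrix.ProjectiveSpecialLinearGroup.toPGL : Matrix.ProjectiveSpecialLinearGroup (Fin n) F →* Matrix.ProjGenLinGroup (Fin n) F).range := by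
  classical
  have hne : Nonempty (Fin n) := ⟨⟨0, hn⟩⟩
  set H : Subgroup Fˣ := (powMonoidHom n : Fˣ →* Fˣ).range with hH
  let detbar : GL (Fin n) F →* Fˣ ⧸ H :=
    (QuotientGroup.mk' H).comp Matrix.GeneralLinearGroup.det
  have hcenter : Subgroup.center (GL (Fin n) F) ≤ detbar.ker := by
    intro z hz
    rw [Matrix.GeneralLinearGroup.center_eq_range_scalar] at hz
    obtain ⟨u, rfl⟩ := hz
    rw [MonoidHom.mem_ker]
    show (QuotientGroup.mk (Matrix.GeneralLinearGroup.det (GeneralLinearGroup.scalar (Fin n) u)) :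
      Fˣ ⧸ H) = 1
    rw [QuotientGroup.eq_one_iff, Matrix.GeneralLinearGroup.det_scalar, Fintype.card_fin]
    exact ⟨u, rfl⟩
  let φ : Matrix.ProjGenLinGroup (Fin n) F →* Fˣ ⧸ H :=
    QuotientGroup.lift (Subgroup.center (GL (Fin n) F)) detbar hcenter
  have hφmk : ∀ g : GL (Fin n) F, φ (ProjGenLinGroup.mk g) =
      (QuotientGroup.mk (Matrix.GeneralLinearGroup.det g) : Fˣ ⧸ H) := fun g => rfl
  have hφsurj : Function.Surjective φ := by
    intro x
    induction x using QuotientGroup.induction_on with | H u => ?_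
    obtain ⟨A, hA⟩ := Matrix.GeneralLinearGroup.det_surjective (n := Fin n) u
    exact ⟨ProjGenLinGroup.mk A, by rw [hφmk, hA]⟩
  have hcardU : Nat.card Fˣ = q - 1 := by
    rw [Nat.card_eq_fintype_card, Fintype.card_units, hF]
  have hcard : Nat.card (Fˣ ⧸ H) = Nat.card (Multiplicative (ZMod (Nat.gcd n (q - 1)))) := by
    rw [← Subgroup.index_eq_card, hH, IsCyclic.index_powMonoidHom_range, hcardU,
      Nat.card_congr (Multiplicative.toAdd (α := ZMod (Nat.gcd n (q - 1)))), Nat.card_zmod,
      Nat.gcd_comm]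
  have hcyc : IsCyclic (Fˣ ⧸ H) :=
    isCyclic_of_surjective (QuotientGroup.mk' H) (QuotientGroup.mk'_surjective H)
  let e : Fˣ ⧸ H ≃* Multiplicative (ZMod (Nat.gcd n (q - 1))) := mulEquivOfCyclicCardEq hcard
  refine ⟨e.toMonoidHom.comp φ, e.surjective.comp hφsurj, ?_⟩
  ext x
  induction x using Matrix.ProjGenLinGroup.induction_on with | mk g => ?_
  rw [mem_range_iff, MonoidHom.mem_ker, MonoidHom.comp_apply]
  show e (φ (ProjGenLinGroup.mk g)) = 1 ↔ _
  rw [map_eq_one_iff e e.injective, hφmk, QuotientGroup.eq_one_iff, Fintype.card_fin]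
  constructor
  · rintro ⟨k, hk⟩; exact ⟨k, hk⟩
  · rintro ⟨k, hk⟩; exact ⟨k, hk⟩

end Cfsg.Agent.S0307
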