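import Cfsg.Statements.S0713
import Mathlib.GroupTheory.Sylow
import Mathlib.GroupTheory.GroupAction.Jordan
import Mathlib.GroupTheory.Perm.Cycle.Basic
import Mathlib.Tactic

set_option autoImplicit false
open Cfsg

namespace Cfsg.Agent.S0713

open Equiv MulAction

variable {α : Type*} [Fintype α] [DecidableEq α]

/-- Step 1 (Jordan, via Mathlib): `G` is `(n - p)`-transitive. -/
theorem multiply_pretransitive (G : Subgroup (Perm α)) (hG : IsPreprimitive G α) {p : ℕ}
    (hp : p.Prime) (hpn : p + 3 ≤ Fintype.card α) {g : Perm α} (hgc : g.IsCycle)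
    (hgp : g.support.card = p) (hg : g ∈ G) :
    IsMultiplyPretransitive G α (Fintype.card α - p) := by
  classical
  obtain ⟨m, hm⟩ : ∃ m, Fintype.card α = p + (m + 1) := ⟨Fintype.card α - p - 1, by omega⟩
  have hprim : IsMultiplyPreprimitive G α (m + 2) := by
    apply hG.isMultiplyPreprimitive (s := (g.supportᶜ : Set α))
    · apply Nat.add_left_cancel
      rw [Set.ncard_add_ncard_compl, Set.ncard_coe_finset, hgp, Nat.card_eq_fintype_card, hm]
    · rw [Nat.card_eq_fintype_card, hm]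
      have := hp.two_le
      omega
    have := Equiv.Perm.isPretransitive_of_isCycle_mem hgc hg
    apply IsPreprimitive.of_prime_card
    convert hp
    rw [Nat.card_eq_fintype_card, Fintype.card_subtype, ← hgp]
    apply congr_arg
    ext x
    simp [SubMulAction.mem_ofFixingSubgroup_iff]
  have htr : IsMultiplyPretransitive G α (m + 2) :=
    IsMultiplyPreprimitive.isMultiplyPretransitive ..
  have : Fintype.card α - p = m + 1 := by omega
  rw [this]
  exact isMultiplyPretransitive_of_le (n := m + 2) (by omega)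
    (by rw [Nat.card_eq_fintype_card]; have := hp.two_le; omega)

omit [Fintype α] [DecidableEq α] in
/-- Step 2: a `k`-transitive group realises every permutation on a `k`-subset. -/
theorem exists_mem_agree (G : Subgroup (Perm α)) {k : ℕ} (hG : IsMultiplyPretransitive G α k)
    (Δ : Finset α) (hΔ : Δ.card = k) (σ : Perm α) : ∃ h ∈ G, ∀ x ∈ Δ, h x = σ x := by
  let e : Δ ≃ Fin k := Δ.equivFinOfCardEq hΔ
  let x : Fin k ↪ α := e.symm.toEmbedding.trans (Function.Embedding.subtype _)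
  let y : Fin k ↪ α := x.trans σ.toEmbedding
  obtain ⟨h, hh⟩ := isMultiplyPretransitive_iff.mp hG x y
  refine ⟨h, h.2, fun z hz => ?_⟩
  have := congrFun (congrArg DFunLike.coe hh) (e ⟨z, hz⟩)
  simpa [x, y, Subgroup.smul_def, Perm.smul_def] using this

/-- the pointwise stabiliser in `G` of the complement of the support of `g` -/
def K (G : Subgroup (Perm α)) (g : Perm α) : Subgroup (Perm α) :=
  G ⊓ fixingSubgroup (Perm α) ((g.support : Set α)ᶜ)

theorem mem_K {G : Subgroup (Perm α)} {g π : Perm α} :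
    π ∈ K G g ↔ π ∈ G ∧ ∀ x ∉ g.support, π x = x := by
  simp [K, mem_fixingSubgroup_iff]

theorem card_K_dvd (G : Subgroup (Perm α)) (g : Perm α) :
    Nat.card (K G g) ∣ (g.support.card).factorial := by
  have hle : K G g ≤ (Perm.ofSubtype : Perm {x // x ∈ g.support} →* Perm α).range := by
    intro π hπ
    rw [mem_K] at hπ
    have h1 : ∀ x, π x ∈ g.support ↔ x ∈ g.support := by
      intro x
      constructor
      · intro hx
        by_contra hx'
        rw [hπ.2 x hx'] at hx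
        exact hx' hx
      · intro hx
        by_contra hx'
        have h2 := hπ.2 (π x) hx'
        have h3 := π.injective h2
        rw [h3] at hx'
        exact hx' hx
    refine ⟨π.subtypePerm h1, Perm.ofSubtype_subtypePerm h1 ?_⟩
    intro x hx
    by_contra hx'
    exact hx (hπ.2 x hx')
  have := Subgroup.card_dvd_of_le hle
  rwa [Nat.card_congr (MonoidHom.ofInjective Perm.ofSubtype_injective).symm.toEquiv,
    Nat.card_perm, Nat.card_eq_fintype_card (α := {x // x ∈ g.support}), Fintype.card_coe] at this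

theorem not_sq_dvd_factorial {p : ℕ} (hp : p.Prime) : ¬ p ^ 2 ∣ p.factorial := by
  obtain ⟨q, rfl⟩ : ∃ q, p = q + 1 := ⟨p - 1, by have := hp.two_le; omega⟩
  rw [Nat.factorial_succ, pow_two]
  intro h
  have h1 : (q + 1) ∣ q.factorial := (Nat.mul_dvd_mul_iff_left (by omega)).mp h
  have := (hp.dvd_factorial).mp h1
  omega

/-- Step 3: Sylow conjugation inside the pointwise stabiliser. -/
theorem exists_conj (G : Subgroup (Perm α)) {p : ℕ} (hp : p.Prime) {g g' : Perm α}
    (hgc : g.IsCycle) (hgp : g.support.card = p) (hg : g ∈ G)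
    (hgc' : g'.IsCycle) (hg' : g' ∈ G) (hsupp : g'.support = g.support) :
    ∃ t ∈ G, (∀ x ∉ g.support, t x = x) ∧ ∃ j : ℤ, t * g' * t⁻¹ = g ^ j := by
  have : Fact p.Prime := ⟨hp⟩
  have hgK : g ∈ K G g := mem_K.mpr ⟨hg, fun x hx => Perm.notMem_support.mp hx⟩
  have hgK' : g' ∈ K G g :=
    mem_K.mpr ⟨hg', fun x hx => Perm.notMem_support.mp (hsupp ▸ hx)⟩
  have hord : orderOf (⟨g, hgK⟩ : K G g) = p := by
    rw [Subgroup.orderOf_mk, hgc.orderOf, hgp]
  have hord' : orderOf (⟨g', hgK'⟩ : K G g) = p := by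
    rw [Subgroup.orderOf_mk, hgc'.orderOf, hsupp, hgp]
  have hcard : (Nat.card (K G g)).factorization p = 1 := by
    have hne : Nat.card (K G g) ≠ 0 := Nat.card_pos.ne'
    have h1 : p ^ 1 ∣ Nat.card (K G g) := by
      rw [pow_one, ← hord]; exact orderOf_dvd_natCard _
    have h2 : ¬ p ^ 2 ∣ Nat.card (K G g) := by
      intro h
      have := h.trans (card_K_dvd G g)
      rw [hgp] at this
      exact not_sq_dvd_factorial hp this
    rw [hp.pow_dvd_iff_le_factorization hne] at h1 h2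
    omega
  let P : Sylow p (K G g) := Sylow.ofCard (Subgroup.zpowers ⟨g, hgK⟩)
    (by rw [Nat.card_zpowers, hcard, pow_one, hord])
  let P' : Sylow p (K G g) := Sylow.ofCard (Subgroup.zpowers ⟨g', hgK'⟩)
    (by rw [Nat.card_zpowers, hcard, pow_one, hord'])
  obtain ⟨t, ht⟩ := MulAction.exists_smul_eq (K G g) P' P
  have h1 : MulAut.conj t • (⟨g', hgK'⟩ : K G g) ∈ (P : Subgroup (K G g)) := by
    rw [← ht, Sylow.coe_subgroup_smul]
    apply Subgroup.smul_mem_pointwise_smul
    exact Subgroup.mem_zpowers _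
  have h2 : MulAut.conj t • (⟨g', hgK'⟩ : K G g) ∈ Subgroup.zpowers (⟨g, hgK⟩ : K G g) := h1
  obtain ⟨j, hj⟩ := Subgroup.mem_zpowers_iff.mp h2
  have htK := mem_K.mp t.2
  refine ⟨t, htK.1, htK.2, j, ?_⟩
  have := congrArg (Subtype.val) hj
  simp only [MulAut.smul_def, MulAut.conj_apply] at this
  simpa using this.symm

/-- `ν` agrees with `σ` off `Γ`, and `σ` preserves `Γ`. -/
def Rel (Γ : Finset α) (ν σ : Perm α) : Prop :=
  (∀ x ∉ Γ, ν x = σ x) ∧ ∀ x, σ x ∈ Γ ↔ x ∈ Γ

omit [Fintype α] [DecidableEq α] in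
theorem apply_inv_self' (σ : Perm α) (x : α) : σ (σ⁻¹ x) = x := by simp

omit [Fintype α] [DecidableEq α] in
theorem inv_apply_self' (σ : Perm α) (x : α) : σ⁻¹ (σ x) = x := by simp

omit [Fintype α] [DecidableEq α] in
theorem Rel.mul {Γ : Finset α} {ν ν' σ σ' : Perm α} (h : Rel Γ ν σ) (h' : Rel Γ ν' σ') :
    Rel Γ (ν * ν') (σ * σ') := by
  refine ⟨fun x hx => ?_, fun x => ?_⟩
  · rw [Perm.mul_apply, Perm.mul_apply, h'.1 x hx]
    exact h.1 _ (fun hc => hx ((h'.2 x).mp hc))
  · rw [Perm.mul_apply, h.2, h'.2]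

omit [Fintype α] [DecidableEq α] in
theorem Rel.inv {Γ : Finset α} {ν σ : Perm α} (h : Rel Γ ν σ) : Rel Γ ν⁻¹ σ⁻¹ := by
  have hpres : ∀ x, σ⁻¹ x ∈ Γ ↔ x ∈ Γ := by
    intro x
    rw [← h.2 (σ⁻¹ x), apply_inv_self']
  refine ⟨fun x hx => ?_, hpres⟩
  have hy : σ⁻¹ x ∉ Γ := fun hc => hx ((hpres x).mp hc)
  rw [Perm.inv_eq_iff_eq, h.1 _ hy, apply_inv_self']

/-- Step 3b: normalising elements inducing prescribed permutations off the support. -/
theorem exists_normalizing (G : Subgroup (Perm α)) {p : ℕ} (hp : p.Prime) {g : Perm α}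
    (hk : IsMultiplyPretransitive G α (Fintype.card α - p))
    (hgc : g.IsCycle) (hgp : g.support.card = p) (hg : g ∈ G)
    (σ : Perm α) (hσ : ∀ x, σ x ∈ g.support ↔ x ∈ g.support) :
    ∃ ν ∈ G, Rel g.support ν σ ∧ ∃ j : ℤ, ν * g * ν⁻¹ = g ^ j := by
  have hΔ : (g.supportᶜ).card = Fintype.card α - p := by
    rw [Finset.card_compl, hgp]
  obtain ⟨h, hhG, hh⟩ := exists_mem_agree G hk (g.supportᶜ) hΔ σ
  have hh' : ∀ x ∉ g.support, h x = σ x := fun x hx => hh x (Finset.mem_compl.mpr hx)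
  -- `h` preserves the support
  have himg : (g.supportᶜ).image h = g.supportᶜ := by
    apply Finset.eq_of_subset_of_card_le
    · intro y hy
      obtain ⟨x, hx, rfl⟩ := Finset.mem_image.mp hy
      rw [Finset.mem_compl] at hx ⊢
      rw [hh' x hx, hσ]
      exact hx
    · rw [Finset.card_image_of_injective _ h.injective]
  have hpres : ∀ x, h x ∈ g.support ↔ x ∈ g.support := by
    intro x
    constructor
    · intro hx
      by_contra hx'
      rw [hh' x hx', hσ] at hx
      exact hx' hx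
    · intro hx
      by_contra hx'
      have : h x ∈ (g.supportᶜ).image h := by
        rw [himg]; exact Finset.mem_compl.mpr hx'
      obtain ⟨y, hy, hyx⟩ := Finset.mem_image.mp this
      have := h.injective hyx
      rw [this] at hy
      exact (Finset.mem_compl.mp hy) hx
  have hsupp : (h * g * h⁻¹).support = g.support := by
    ext x
    rw [Perm.support_conj, Finset.mem_map]
    constructor
    · rintro ⟨y, hy, rfl⟩
      exact (hpres y).mpr hy
    · intro hx
      refine ⟨h⁻¹ x, ?_, by simp⟩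
      rw [← hpres, apply_inv_self']
      exact hx
  obtain ⟨t, htG, htfix, j, hj⟩ := exists_conj G hp hgc hgp hg (hgc.conj (g := h))
    (G.mul_mem (G.mul_mem hhG hg) (G.inv_mem hhG)) hsupp
  refine ⟨t * h, G.mul_mem htG hhG, ⟨fun x hx => ?_, hσ⟩, j, ?_⟩
  · rw [Perm.mul_apply, hh' x hx]
    exact htfix _ (fun hc => hx ((hσ x).mp hc))
  · rw [← hj]; group

/-- Step 4: a commutator of two elements normalising `⟨g⟩` centralises `g`. -/
theorem commute_of_conj {H : Type*} [Group H] {g A B : H} {j1 j2 : ℤ}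
    (hA : A * g * A⁻¹ = g ^ j1) (hB : B * g * B⁻¹ = g ^ j2) :
    Commute (A⁻¹ * B⁻¹ * A * B) g := by
  have h1 : A * B * g * B⁻¹ * A⁻¹ = g ^ (j1 * j2) := by
    calc A * B * g * B⁻¹ * A⁻¹ = A * (B * g * B⁻¹) * A⁻¹ := by group
    _ = A * g ^ j2 * A⁻¹ := by rw [hB]
    _ = (A * g * A⁻¹) ^ j2 := by rw [conj_zpow]
    _ = g ^ (j1 * j2) := by rw [hA, zpow_mul]
  have h2 : B * A * g * A⁻¹ * B⁻¹ = g ^ (j1 * j2) := by
    calc B * A * g * A⁻¹ * B⁻¹ = B * (A * g * A⁻¹) * B⁻¹ := by group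
    _ = B * g ^ j1 * B⁻¹ := by rw [hA]
    _ = (B * g * B⁻¹) ^ j1 := by rw [conj_zpow]
    _ = g ^ (j1 * j2) := by rw [hB, mul_comm j1 j2, zpow_mul]
  change (A⁻¹ * B⁻¹ * A * B) * g = g * (A⁻¹ * B⁻¹ * A * B)
  calc (A⁻¹ * B⁻¹ * A * B) * g
      = A⁻¹ * B⁻¹ * (A * B * g * B⁻¹ * A⁻¹) * (A * B) := by group
    _ = A⁻¹ * B⁻¹ * (B * A * g * A⁻¹ * B⁻¹) * (A * B) := by rw [h1, h2]
    _ = g * (A⁻¹ * B⁻¹ * A * B) := by group

omit [Fintype α] in
theorem swap_pres {Γ : Finset α} {a b : α} (ha : a ∉ Γ) (hb : b ∉ Γ) :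
    ∀ x, swap a b x ∈ Γ ↔ x ∈ Γ := by
  intro x
  by_cases h1 : x = a
  · subst h1; rw [swap_apply_left]; exact ⟨fun h => (hb h).elim, fun h => (ha h).elim⟩
  by_cases h2 : x = b
  · subst h2; rw [swap_apply_right]; exact ⟨fun h => (ha h).elim, fun h => (hb h).elim⟩
  rw [swap_apply_of_ne_of_ne h1 h2]

theorem result {α : Type*} [Fintype α] [DecidableEq α] (G : Subgroup (Equiv.Perm α)) (hG : MulAction.IsPreprimitive G α) {p : ℕ} (hp : p.Prime) (hn : 5 ≤ Fintype.card α) (hpn : p + 3 ≤ Fintype.card α) {g : Equiv.Perm α} (hgc : g.IsCycle) (hgp : g.support.card = p) (hg : g ∈ G) : alternatingGroup α ≤ G := by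
  have hk := multiply_pretransitive G hG hp hpn hgc hgp hg
  -- three points off the support
  have hΔ : 2 < (g.supportᶜ).card := by
    rw [Finset.card_compl, hgp]; omega
  obtain ⟨a, ha, b, hb, c, hc, hab, hac, hbc⟩ := Finset.two_lt_card.mp hΔ
  rw [Finset.mem_compl] at ha hb hc
  obtain ⟨ν1, hν1G, hrel1, j1, hj1⟩ :=
    exists_normalizing G hp hk hgc hgp hg (swap a b) (swap_pres ha hb)
  obtain ⟨ν2, hν2G, hrel2, j2, hj2⟩ :=
    exists_normalizing G hp hk hgc hgp hg (swap a c) (swap_pres ha hc)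
  have hcomm := commute_of_conj hj1 hj2
  have hrel : Rel g.support (ν1⁻¹ * ν2⁻¹ * ν1 * ν2)
      ((swap a b)⁻¹ * (swap a c)⁻¹ * swap a b * swap a c) :=
    ((hrel1.inv.mul hrel2.inv).mul hrel1).mul hrel2
  have hwG : ν1⁻¹ * ν2⁻¹ * ν1 * ν2 ∈ G :=
    G.mul_mem (G.mul_mem (G.mul_mem (G.inv_mem hν1G) (G.inv_mem hν2G)) hν1G) hν2G
  set w := ν1⁻¹ * ν2⁻¹ * ν1 * ν2 with hw
  set τ := (swap a b)⁻¹ * (swap a c)⁻¹ * swap a b * swap a c with hτ
  obtain ⟨hc', hmem⟩ := hgc.commute_iff.mp hcomm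
  obtain ⟨i, hi⟩ := Subgroup.mem_zpowers_iff.mp hmem
  have h3 : τ.IsThreeCycle := by
    have : τ = (swap a b * swap a c) * (swap a b * swap a c) := by
      rw [hτ, swap_inv, swap_inv]; group
    rw [this]
    exact (Perm.isThreeCycle_swap_mul_swap_same hab hac hbc).isThreeCycle_sq
  have hu : (g ^ i)⁻¹ * w = τ := by
    ext x
    rw [Perm.mul_apply]
    by_cases hx : x ∈ g.support
    · have h1 : w x = (g ^ i) x := by
        rw [hi, Perm.ofSubtype_subtypePerm_of_mem hc' hx]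
      rw [h1, inv_apply_self']
      have hxa : x ≠ a := fun h => ha (h ▸ hx)
      have hxb : x ≠ b := fun h => hb (h ▸ hx)
      have hxc : x ≠ c := fun h => hc (h ▸ hx)
      rw [hτ, swap_inv, swap_inv]
      simp only [Perm.mul_apply, swap_apply_of_ne_of_ne hxa hxc, swap_apply_of_ne_of_ne hxa hxb]
    · rw [hrel.1 x hx]
      have hτx : τ x ∉ g.support := fun h => hx ((hrel.2 x).mp h)
      rw [Perm.inv_eq_iff_eq]
      symm
      rw [← Perm.notMem_support]
      exact fun h => hτx (Perm.support_zpow_le g i h)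
  have hτG : τ ∈ G := by
    rw [← hu]
    exact G.mul_mem (G.inv_mem (G.zpow_mem hg i)) hwG
  exact Equiv.Perm.alternatingGroup_le_of_isPreprimitive_of_isThreeCycle_mem hG h3 hτG

end Cfsg.Agent.S0713
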