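import Cfsg.Statements.S4337

set_option autoImplicit false
open Cfsg
open Equiv

namespace Cfsg.Agent.S4337

/-- membership predicate of the Klein four-group inside `Perm (Fin 4)`. -/
def Vpred (σ : Perm (Fin 4)) : Prop := σ * σ = 1 ∧ Perm.sign σ = 1

instance : DecidablePred Vpred := fun σ => by unfold Vpred; infer_instance

set_option maxRecDepth 100000 in
theorem V_mul : ∀ x y : Perm (Fin 4), Vpred x → Vpred y → Vpred (x * y) := by decide

set_option maxRecDepth 100000 in
theorem V_inv : ∀ x : Perm (Fin 4), Vpred x → Vpred x⁻¹ := by decide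

set_option maxRecDepth 100000 in
theorem A_comm : ∀ x y : Perm (Fin 4), Perm.sign x = 1 → Perm.sign y = 1 →
    Vpred (x * y * x⁻¹ * y⁻¹) := by decide

set_option maxRecDepth 100000 in
theorem V_comm : ∀ x y : Perm (Fin 4), Vpred x → Vpred y → x * y * x⁻¹ * y⁻¹ = 1 := by decide

/-- The Klein four-group. -/
def V : Subgroup (Perm (Fin 4)) where
  carrier := {σ | Vpred σ}
  mul_mem' := fun {x y} hx hy => V_mul x y hx hy
  one_mem' := by show Vpred 1; decide
  inv_mem' := fun {x} hx => V_inv x hx

theorem solvable_S4 : Group.IsSolvable (Perm (Fin 4)) := by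
  rw [Group.isSolvable_def]
  refine ⟨3, ?_⟩
  have h1 : derivedSeries (Perm (Fin 4)) 1 ≤ (Perm.sign : Perm (Fin 4) →* ℤˣ).ker := by
    rw [derivedSeries_succ, Subgroup.commutator_le]
    intro g1 _ g2 _
    rw [MonoidHom.mem_ker, commutatorElement_def]
    simp only [map_mul, map_inv]
    rw [mul_comm (Perm.sign g1) (Perm.sign g2), mul_assoc, mul_assoc, mul_inv_cancel_left,
      mul_inv_cancel]
  have h2 : derivedSeries (Perm (Fin 4)) 2 ≤ V := by
    rw [derivedSeries_succ]
    refine (Subgroup.commutator_mono h1 h1).trans ?_
    rw [Subgroup.commutator_le]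
    intro g1 hg1 g2 hg2
    rw [MonoidHom.mem_ker] at hg1 hg2
    exact A_comm g1 g2 hg1 hg2
  rw [eq_bot_iff, derivedSeries_succ]
  refine (Subgroup.commutator_mono h2 h2).trans ?_
  rw [Subgroup.commutator_le]
  intro g1 hg1 g2 hg2
  rw [Subgroup.mem_bot, commutatorElement_def]
  exact V_comm g1 g2 hg1 hg2

/-- permutations of a type with at most 4 elements form a solvable group -/
theorem solvable_perm_of_card_le {β : Type*} [Fintype β] [DecidableEq β]
    (h : Fintype.card β ≤ 4) : Group.IsSolvable (Perm β) := by
  have e : β ≃ Fin (Fintype.card β) := Fintype.equivFin β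
  let ι : β ↪ Fin 4 := e.toEmbedding.trans (Fin.castLEEmb h)
  have := solvable_S4
  exact Group.isSolvable_of_isSolvable_injective (Perm.viaEmbeddingHom_injective ι)

theorem solvable_closure_of_support {n : ℕ} (T : Finset (Fin n)) (hT : T.card ≤ 4)
    (S : Set (Perm (Fin n))) (hS : ∀ s ∈ S, s.support ⊆ T) :
    Group.IsSolvable (Subgroup.closure S) := by
  have hle : Subgroup.closure S ≤
      (Perm.ofSubtype : Perm {x // x ∈ T} →* Perm (Fin n)).range := by
    rw [Subgroup.closure_le]
    intro s hs
    rw [SetLike.mem_coe, Perm.mem_range_ofSubtype_iff]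
    intro x hx
    exact hS s hs hx
  have : Group.IsSolvable (Perm {x // x ∈ T}) := by
    apply solvable_perm_of_card_le
    rw [Fintype.card_coe]
    exact hT
  have : Group.IsSolvable (Perm.ofSubtype : Perm {x // x ∈ T} →* Perm (Fin n)).range :=
    Group.isSolvable_of_surjective (MonoidHom.rangeRestrict_surjective _)
  exact Group.isSolvable_of_isSolvable_injective (Subgroup.inclusion_injective hle)

theorem solvable_of_central {n : ℕ} (x y z : Perm (Fin n)) (hxy : Commute x y) (hxz : Commute x z)
    (T : Finset (Fin n)) (hT : T.card ≤ 4) (hy : y.support ⊆ T) (hz : z.support ⊆ T) :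
    Group.IsSolvable (Subgroup.closure ({x, y, z} : Set (Perm (Fin n)))) := by
  set K := Subgroup.closure ({y, z} : Set (Perm (Fin n))) with hK
  set Z := Subgroup.zpowers x with hZ
  have hKs : Group.IsSolvable K := by
    apply solvable_closure_of_support T hT
    intro s hs
    rcases hs with rfl | rfl
    · exact hy
    · exact hz
  have hKc : K ≤ Subgroup.centralizer {x} := by
    rw [hK, Subgroup.closure_le]
    intro s hs
    rw [SetLike.mem_coe, Subgroup.mem_centralizer_iff]
    intro h hh
    rw [Set.mem_singleton_iff] at hh
    subst hh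
    rcases hs with rfl | rfl
    · exact hxy.eq
    · exact hxz.eq
  have comm : ∀ (k : K) (w : Z), Commute (K.subtype k) (Z.subtype w) := by
    rintro ⟨k, hk⟩ ⟨w, hw⟩
    obtain ⟨i, rfl⟩ := Subgroup.mem_zpowers_iff.mp hw
    have h1 : Commute x k := by
      have := Subgroup.mem_centralizer_iff.mp (hKc hk) x (Set.mem_singleton x)
      exact this
    exact (h1.zpow_left i).symm
  let φ : K × Z →* Perm (Fin n) := MonoidHom.noncommCoprod K.subtype Z.subtype comm
  have hle : Subgroup.closure ({x, y, z} : Set (Perm (Fin n))) ≤ φ.range := by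
    rw [Subgroup.closure_le]
    intro s hs
    rcases hs with rfl | rfl | rfl
    · exact ⟨(1, ⟨s, Subgroup.mem_zpowers s⟩), by simp [φ]⟩
    · exact ⟨(⟨s, Subgroup.subset_closure (by simp)⟩, 1), by simp [φ]⟩
    · exact ⟨(⟨s, Subgroup.subset_closure (by simp)⟩, 1), by simp [φ]⟩
  have : Group.IsSolvable φ.range :=
    Group.isSolvable_of_surjective (MonoidHom.rangeRestrict_surjective φ)
  exact Group.isSolvable_of_isSolvable_injective (Subgroup.inclusion_injective hle)

theorem card_union_le_four {α : Type*} [DecidableEq α] (X Y Z : Finset α) (hX : X.card = 2)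
    (hY : Y.card = 2) (hZ : Z.card = 2) (hXY : (X ∩ Y).Nonempty) (hXZ : (X ∩ Z).Nonempty) :
    (X ∪ Y ∪ Z).card ≤ 4 := by
  have h1 := Finset.card_union_add_card_inter X Y
  have h2 := Finset.card_union_add_card_inter (X ∪ Y) Z
  have h3 : 1 ≤ (X ∩ Y).card := Finset.card_pos.mpr hXY
  have h4 : 1 ≤ ((X ∪ Y) ∩ Z).card := by
    apply Finset.card_pos.mpr
    obtain ⟨w, hw⟩ := hXZ
    rw [Finset.mem_inter] at hw
    exact ⟨w, Finset.mem_inter.mpr ⟨Finset.mem_union_left _ hw.1, hw.2⟩⟩
  omega

theorem inter_nonempty_of_not_commute {n : ℕ} (x y : Perm (Fin n)) (h : ¬ Commute x y) :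
    (x.support ∩ y.support).Nonempty := by
  rw [← Finset.not_disjoint_iff_nonempty_inter]
  intro hd
  exact h (Perm.disjoint_iff_disjoint_support.mpr hd).commute

theorem card_union_le_four' {α : Type*} [DecidableEq α] (X Y : Finset α) (hX : X.card = 2)
    (hY : Y.card = 2) : (X ∪ Y).card ≤ 4 := by
  have := Finset.card_union_le X Y
  omega

theorem result (n : ℕ) (a b c : Equiv.Perm (Fin n))
    (ha : a.IsSwap) (hb : b.IsSwap) (hc : c.IsSwap) :
    Group.IsSolvable (Subgroup.closure ({a, b, c} : Set (Equiv.Perm (Fin n)))) := by
  have hA : a.support.card = 2 := Perm.card_support_eq_two.mpr ha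
  have hB : b.support.card = 2 := Perm.card_support_eq_two.mpr hb
  have hC : c.support.card = 2 := Perm.card_support_eq_two.mpr hc
  by_cases h1 : Commute a b ∧ Commute a c
  · exact solvable_of_central a b c h1.1 h1.2 (b.support ∪ c.support)
      (card_union_le_four' _ _ hB hC) Finset.subset_union_left Finset.subset_union_right
  by_cases h2 : Commute b a ∧ Commute b c
  · have e : ({a, b, c} : Set (Perm (Fin n))) = {b, a, c} := by
      ext w; simp only [Set.mem_insert_iff, Set.mem_singleton_iff]; tauto
    rw [e]
    exact solvable_of_central b a c h2.1 h2.2 (a.support ∪ c.support)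
      (card_union_le_four' _ _ hA hC) Finset.subset_union_left Finset.subset_union_right
  by_cases h3 : Commute c a ∧ Commute c b
  · have e : ({a, b, c} : Set (Perm (Fin n))) = {c, a, b} := by
      ext w; simp only [Set.mem_insert_iff, Set.mem_singleton_iff]; tauto
    rw [e]
    exact solvable_of_central c a b h3.1 h3.2 (a.support ∪ b.support)
      (card_union_le_four' _ _ hA hB) Finset.subset_union_left Finset.subset_union_right
  -- now each of a, b, c fails to commute with another one
  have hT : (a.support ∪ b.support ∪ c.support).card ≤ 4 := by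
    have sab : Commute a b ↔ Commute b a := ⟨Commute.symm, Commute.symm⟩
    have sac : Commute a c ↔ Commute c a := ⟨Commute.symm, Commute.symm⟩
    have sbc : Commute b c ↔ Commute c b := ⟨Commute.symm, Commute.symm⟩
    by_cases hab : Commute a b
    · -- then a, c don't commute and b, c don't commute
      have hac : ¬ Commute a c := fun h => h1 ⟨hab, h⟩
      have hbc : ¬ Commute b c := fun h => h2 ⟨hab.symm, h⟩
      have := card_union_le_four c.support a.support b.support hC hA hB
        (inter_nonempty_of_not_commute c a (fun h => hac h.symm))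
        (inter_nonempty_of_not_commute c b (fun h => hbc h.symm))
      have e : c.support ∪ a.support ∪ b.support = a.support ∪ b.support ∪ c.support := by
        ext w; simp only [Finset.mem_union]; tauto
      rw [e] at this
      exact this
    · by_cases hac : Commute a c
      · have hbc : ¬ Commute b c := fun h => h3 ⟨hac.symm, h.symm⟩
        have := card_union_le_four b.support a.support c.support hB hA hC
          (inter_nonempty_of_not_commute b a (fun h => hab h.symm))
          (inter_nonempty_of_not_commute b c hbc)
        have e : b.support ∪ a.support ∪ c.support = a.support ∪ b.support ∪ c.support := by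
          ext w; simp only [Finset.mem_union]; tauto
        rw [e] at this
        exact this
      · exact card_union_le_four a.support b.support c.support hA hB hC
          (inter_nonempty_of_not_commute a b hab) (inter_nonempty_of_not_commute a c hac)
  apply solvable_closure_of_support _ hT
  intro s hs
  rcases hs with rfl | rfl | rfl
  · exact Finset.subset_union_left.trans Finset.subset_union_left
  · exact Finset.subset_union_right.trans Finset.subset_union_left
  · exact Finset.subset_union_right

end Cfsg.Agent.S4337
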