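import Mathlib
import Cfsg.Agent.S4337
import Cfsg.Agent.Lib.Helper17_Sylow
import Cfsg.Agent.Lib.Helper5_SUCenter
import Cfsg.Statements.S0282

set_option autoImplicit false
open Cfsg

namespace Cfsg.Agent.S0282

open Subgroup

theorem solvable_of_card_72 {G : Type*} [Group G] [Finite G] (h : Nat.card G = 72) : Group.IsSolvable G := by
  classical
  have : Fact (Nat.Prime 3) := ⟨by norm_num⟩
  have : Fact (Nat.Prime 2) := ⟨by norm_num⟩
  have hG : Nat.card G = 3 ^ 2 * 8 := by rw [h]; norm_num
  have h38 : ¬ 3 ∣ 8 := by norm_num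
  have hn := Cfsg.Agent.Lib.Helper17_Sylow.card_sylow_mem_candidates (p := 3) hG h38
  have hn4 : Nat.card (Sylow 3 G) ≤ 4 := by
    have : Cfsg.Agent.Lib.Helper17_Sylow.sylowCandidates 3 8 = [1, 4] := by decide
    rw [this] at hn
    simp at hn
    omega
  have : Fintype (Sylow 3 G) := Fintype.ofFinite _
  have hperm : Group.IsSolvable (Equiv.Perm (Sylow 3 G)) := by
    apply Cfsg.Agent.S4337.solvable_perm_of_card_le
    rw [← Nat.card_eq_fintype_card]; exact hn4
  obtain ⟨P⟩ : Nonempty (Sylow 3 G) := inferInstance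
  -- the normalizer of P is solvable
  have hPcard : Nat.card (P : Subgroup G) = 3 ^ 2 := Cfsg.Agent.Lib.Helper17_Sylow.card_sylow_eq_pow hG h38 P
  have hPidx : (P : Subgroup G).index = 8 := Cfsg.Agent.Lib.Helper17_Sylow.index_sylow_eq hG h38 P
  set N := normalizer ((P : Subgroup G) : Set G) with hN
  have hPN : (P : Subgroup G) ≤ N := le_normalizer
  have hNsolv : Group.IsSolvable N := by
    have : ((P : Subgroup G).subgroupOf N).Normal := normal_in_normalizer
    rw [Group.isSolvable_iff_subgroup_quotient ((P : Subgroup G).subgroupOf N)]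
    constructor
    · have hp : IsPGroup 3 ((P : Subgroup G).subgroupOf N) := by
        apply IsPGroup.of_card (n := 2)
        rw [Nat.card_congr (Subgroup.subgroupOfEquivOfLe hPN).toEquiv, hPcard]
      have := hp.isNilpotent
      infer_instance
    · have hidx : ((P : Subgroup G).subgroupOf N).index ∣ 2 ^ 3 := by
        have h1 := Subgroup.relIndex_mul_index hPN
        rw [hPidx] at h1
        exact ⟨N.index, by show 2 ^ 3 = (P : Subgroup G).relIndex N * N.index; rw [h1]; norm_num⟩
      obtain ⟨j, -, hj⟩ := (Nat.dvd_prime_pow (by norm_num : Nat.Prime 2)).mp hidx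
      have hp : IsPGroup 2 (N ⧸ (P : Subgroup G).subgroupOf N) := by
        apply IsPGroup.of_card (n := j)
        rw [← hj]; rfl
      have := hp.isNilpotent
      infer_instance
  -- the kernel of the action on Sylow 3-subgroups lies in N
  let φ := MulAction.toPermHom G (Sylow 3 G)
  have hker : φ.ker ≤ N := by
    intro g hg
    rw [MonoidHom.mem_ker] at hg
    have h1 : g • P = P := by
      have := congrArg (fun σ : Equiv.Perm (Sylow 3 G) => σ P) hg
      exact this
    exact Sylow.smul_eq_iff_mem_normalizer.mp h1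
  have : Group.IsSolvable φ.ker :=
    Group.isSolvable_of_isSolvable_injective (Subgroup.inclusion_injective hker)
  exact Group.isSolvable_of_ker_le_range φ.ker.subtype φ (by rw [Subgroup.range_subtype])


/-- PSU_3(2) is a solvable group of order 72. -/
theorem result {F : Type*} [Field F] [Fintype F] (hF : Fintype.card F = 4) : Nat.card (Cfsg.PSU 3 F 2) = 72 ∧ Group.IsSolvable (Cfsg.PSU 3 F 2) := by
  have hF' : Fintype.card F = 2 ^ 2 := by rw [hF]; norm_num
  have h1 := Cfsg.Agent.Lib.Helper5_SUCenter.card_PSU hF' 3 (by norm_num)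
  have hcard : Nat.card (Cfsg.PSU 3 F 2) = 72 := by
    norm_num [Finset.prod_range_succ] at h1
    omega
  have : Finite (Cfsg.PSU 3 F 2) := Nat.finite_of_card_ne_zero (by rw [hcard]; norm_num)
  exact ⟨hcard, solvable_of_card_72 hcard⟩

end Cfsg.Agent.S0282
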