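import Mathlib
import Cfsg.Agent.Lib.Helper71_QuatLift
import Cfsg.Agent.Lib.Helper13_Herm
import Cfsg.Agent.Lib.Helper5_GUOrder
import Cfsg.Agent.Lib.Helper5_SUOrder
import Cfsg.Agent.Lib.Helper5_SUCenter
import Cfsg.Agent.S0282
import Cfsg.Statements.S0827

set_option autoImplicit false
set_option linter.unusedSectionVars false
set_option linter.style.haveILetI false
open Cfsg

namespace Cfsg.Agent.S0827

/-! ## Abstract part: a group of order 72 with suitable elements `D C A X` is `3² : Q₈` -/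

section abstract

variable {G : Type*} [Group G]

/-- conjugation by `g` maps `closure S` into itself as soon as it maps `S` into `closure S` -/
theorem conj_mem_closure (S : Set G) (g : G) (h : ∀ s ∈ S, g * s * g⁻¹ ∈ Subgroup.closure S) :
    ∀ n ∈ Subgroup.closure S, g * n * g⁻¹ ∈ Subgroup.closure S := by
  intro n hn
  induction hn using Subgroup.closure_induction with
  | mem x hx => exact h x hx
  | one => simp
  | mul x y _ _ hx hy =>
    have : g * (x * y) * g⁻¹ = (g * x * g⁻¹) * (g * y * g⁻¹) := by group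
    rw [this]; exact mul_mem hx hy
  | inv x _ hx =>
    have : g * x⁻¹ * g⁻¹ = (g * x * g⁻¹)⁻¹ := by group
    rw [this]; exact inv_mem hx

/-- in a finite group, an element conjugating `N` into itself normalises `N` -/
theorem mem_normalizer_of_conj_mem [Finite G] (N : Subgroup G) (g : G)
    (h : ∀ n ∈ N, g * n * g⁻¹ ∈ N) : g ∈ Subgroup.normalizer (N : Set G) := by
  have hk : ∀ k : ℕ, ∀ n ∈ N, g ^ k * n * (g ^ k)⁻¹ ∈ N := by
    intro k
    induction k with
    | zero => intro n hn; simpa using hn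
    | succ k ih =>
      intro n hn
      have : g ^ (k + 1) * n * (g ^ (k + 1))⁻¹ = g * (g ^ k * n * (g ^ k)⁻¹) * g⁻¹ := by
        rw [pow_succ']; group
      rw [this]; exact h _ (ih n hn)
  have hinv : g⁻¹ = g ^ (orderOf g - 1) := by
    apply inv_eq_of_mul_eq_one_right
    rw [← pow_succ']
    have : orderOf g - 1 + 1 = orderOf g := Nat.sub_add_cancel (orderOf_pos g)
    rw [this, pow_orderOf_eq_one]
  rw [Subgroup.mem_normalizer_iff]
  intro x
  refine ⟨h x, fun hx => ?_⟩
  have := hk (orderOf g - 1) _ hx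
  rw [← hinv] at this
  have e : g⁻¹ * (g * x * g⁻¹) * g⁻¹⁻¹ = x := by group
  rwa [e] at this

open QuaternionGroup in
theorem q8_sq : ∀ g : QuaternionGroup 2, g ≠ 1 → g = a 2 ∨ g * g = a 2 := by decide

theorem abstract_main [Finite G] (hG : Nat.card G = 72)
    (D C A X : G) (hD : D ^ 3 = 1) (hC : C ^ 3 = 1) (hDC : D * C = C * D)
    (hD1 : D ≠ 1) (hC1 : C ≠ 1) (hCD : C ≠ D) (hCD2 : C ≠ D * D)
    (hA4 : A ^ 4 = 1) (hX : X * X = A ^ 2) (hAX : A * X * A = X) (hA2 : A ^ 2 ≠ 1)
    (hAD : A * D * A⁻¹ ∈ Subgroup.closure {D, C}) (hAC : A * C * A⁻¹ ∈ Subgroup.closure {D, C})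
    (hXD : X * D * X⁻¹ ∈ Subgroup.closure {D, C}) (hXC : X * C * X⁻¹ ∈ Subgroup.closure {D, C}) :
    ∃ (N : Subgroup G) (_ : N.Normal), Nat.card N = 9 ∧ (∀ x ∈ N, x ^ 3 = 1) ∧
      Nonempty (G ⧸ N ≃* QuaternionGroup 2) := by
  classical
  have : Fact (Nat.Prime 3) := ⟨by norm_num⟩
  set N : Subgroup G := Subgroup.closure {D, C} with hN
  have hDN : D ∈ N := Subgroup.subset_closure (by simp)
  have hCN : C ∈ N := Subgroup.subset_closure (by simp)
  -- N is commutative
  have hcomm : ∀ x ∈ N, ∀ y ∈ N, Commute x y := by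
    have hk : ∀ x ∈ ({D, C} : Set G), ∀ y ∈ ({D, C} : Set G), x * y = y * x := by
      intro x hx y hy
      simp only [Set.mem_insert_iff, Set.mem_singleton_iff] at hx hy
      rcases hx with rfl | rfl <;> rcases hy with rfl | rfl
      · rfl
      · exact hDC
      · exact hDC.symm
      · rfl
    have hc := Subgroup.isMulCommutative_closure hk
    intro x hx y hy
    have := hc.is_comm.comm (⟨x, hx⟩ : Subgroup.closure ({D, C} : Set G)) ⟨y, hy⟩
    exact congrArg Subtype.val this
  -- exponent 3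
  have hexp : ∀ x ∈ N, x ^ 3 = 1 := by
    intro x hx
    induction hx using Subgroup.closure_induction with
    | mem x hx =>
      simp only [Set.mem_insert_iff, Set.mem_singleton_iff] at hx
      rcases hx with rfl | rfl
      · exact hD
      · exact hC
    | one => simp
    | mul x y hx hy ihx ihy => rw [(hcomm x hx y hy).mul_pow, ihx, ihy, one_mul]
    | inv x _ ihx => rw [inv_pow, ihx, inv_one]
  -- the order of N
  have hNcard : Nat.card N = 9 := by
    have hp : IsPGroup 3 N := by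
      intro g
      refine ⟨1, ?_⟩
      apply Subtype.ext
      rw [pow_one, Subgroup.coe_pow, hexp g.1 g.2]; rfl
    obtain ⟨n, hn⟩ := (IsPGroup.iff_card).mp hp
    have hdvd : Nat.card N ∣ 72 := hG ▸ Subgroup.card_subgroup_dvd_card N
    have hn2 : n ≤ 2 := by
      by_contra hlt
      push Not at hlt
      have : 3 ^ 3 ∣ 3 ^ n := Nat.pow_dvd_pow 3 hlt
      rw [← hn] at this
      have h27 := this.trans hdvd
      omega
    have h4 : 4 ≤ Nat.card N := by
      have hsub : ({1, D, D * D, C} : Set G) ⊆ (N : Set G) := by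
        intro x hx
        simp only [Set.mem_insert_iff, Set.mem_singleton_iff] at hx
        rcases hx with rfl | rfl | rfl | rfl
        · exact one_mem N
        · exact hDN
        · exact mul_mem hDN hDN
        · exact hCN
      have hDD1 : D * D ≠ 1 := by
        intro h
        apply hD1
        have : D ^ 3 = D * D * D := by rw [pow_succ, pow_two]
        rw [this, h, one_mul] at hD
        exact hD
      have hDDD : D * D ≠ D := by
        intro h
        apply hD1
        have := mul_left_cancel (a := D) (b := D) (c := 1) (by rw [mul_one]; exact h)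
        exact this
      have hcard : ({1, D, D * D, C} : Set G).ncard = 4 := by
        rw [Set.ncard_insert_of_notMem, Set.ncard_insert_of_notMem, Set.ncard_insert_of_notMem,
          Set.ncard_singleton]
        · simp only [Set.mem_singleton_iff]; exact fun h => hCD2 h.symm
        · simp only [Set.mem_insert_iff, Set.mem_singleton_iff, not_or]
          exact ⟨fun h => hDDD h.symm, fun h => hCD h.symm⟩
        · simp only [Set.mem_insert_iff, Set.mem_singleton_iff, not_or]
          exact ⟨fun h => hD1 h.symm, fun h => hDD1 h.symm, fun h => hC1 h.symm⟩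
      have := Set.ncard_le_ncard hsub (Set.toFinite _)
      rw [hcard] at this
      have h2 : (N : Set G).ncard = Nat.card N := by
        rw [← Nat.card_coe_set_eq]; rfl
      omega
    have : n = 2 := by
      interval_cases n
      · rw [hn] at h4; norm_num at h4
      · rw [hn] at h4; norm_num at h4
      · rfl
    rw [hn, this]; norm_num
  -- the quaternion subgroup
  have hA4' : A ^ (2 * 2) = 1 := hA4
  let f : QuaternionGroup 2 →* G := Cfsg.Agent.Lib.Helper71_QuatLift.quatLift A X hA4' hX hAX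
  have hfa : ∀ i : ZMod (2 * 2), f (QuaternionGroup.a i) = A ^ i.val := fun i => rfl
  have hfxa : ∀ i : ZMod (2 * 2), f (QuaternionGroup.xa i) = X * A ^ i.val := fun i => rfl
  have hfinj : Function.Injective f := by
    rw [injective_iff_map_eq_one]
    intro g hg
    by_contra hne
    have h2 : f (QuaternionGroup.a 2) = 1 := by
      rcases q8_sq g hne with h | h
      · rw [← h]; exact hg
      · rw [← h, map_mul, hg, one_mul]
    rw [hfa] at h2
    apply hA2
    have : ((2 : ZMod (2 * 2))).val = 2 := by decide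
    rw [this] at h2
    exact h2
  let Q : Subgroup G := f.range
  have hQcard : Nat.card Q = 8 := by
    rw [Nat.card_congr (MonoidHom.ofInjective hfinj).symm.toEquiv, Nat.card_eq_fintype_card, QuaternionGroup.card]
  have hcompl : Subgroup.IsComplement' N Q := by
    apply Subgroup.isComplement'_of_coprime
    · rw [hNcard, hQcard, hG]
    · rw [hNcard, hQcard]; decide
  -- A and X normalise N
  have hAn : A ∈ Subgroup.normalizer (N : Set G) := by
    apply mem_normalizer_of_conj_mem
    apply conj_mem_closure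
    intro s hs
    simp only [Set.mem_insert_iff, Set.mem_singleton_iff] at hs
    rcases hs with rfl | rfl
    · exact hAD
    · exact hAC
  have hXn : X ∈ Subgroup.normalizer (N : Set G) := by
    apply mem_normalizer_of_conj_mem
    apply conj_mem_closure
    intro s hs
    simp only [Set.mem_insert_iff, Set.mem_singleton_iff] at hs
    rcases hs with rfl | rfl
    · exact hXD
    · exact hXC
  have hQn : Q ≤ Subgroup.normalizer (N : Set G) := by
    rintro _ ⟨t, rfl⟩
    rcases t with i | i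
    · rw [hfa]; exact pow_mem hAn _
    · rw [hfxa]; exact mul_mem hXn (pow_mem hAn _)
  have hnorm : N.Normal := by
    rw [← Subgroup.normalizer_eq_top_iff]
    rw [eq_top_iff, ← hcompl.sup_eq_top]
    exact sup_le Subgroup.le_normalizer hQn
  refine ⟨N, hnorm, hNcard, hexp, ?_⟩
  -- the quotient
  let φ : QuaternionGroup 2 →* G ⧸ N := (QuotientGroup.mk' N).comp f
  have hφinj : Function.Injective φ := by
    rw [injective_iff_map_eq_one]
    intro t ht
    have h1 : f t ∈ N := by
      have : ((f t : G) : G ⧸ N) = 1 := ht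
      exact (QuotientGroup.eq_one_iff _).mp this
    have h2 : f t ∈ Q := ⟨t, rfl⟩
    have h3 : f t ∈ N ⊓ Q := ⟨h1, h2⟩
    rw [hcompl.disjoint.eq_bot, Subgroup.mem_bot] at h3
    exact (injective_iff_map_eq_one f).mp hfinj t h3
  have hqcard : Nat.card (G ⧸ N) = 8 := by
    have := Subgroup.card_eq_card_quotient_mul_card_subgroup N
    rw [hG, hNcard] at this
    omega
  have hbij : Function.Bijective φ := by
    apply Function.Injective.bijective_of_nat_card_le hφinj
    rw [hqcard, Nat.card_eq_fintype_card, QuaternionGroup.card]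
  exact ⟨(MulEquiv.ofBijective φ hbij).symm⟩

end abstract

/-! ## Concrete part: explicit matrices over a computable model of the field with four elements -/

section concrete

/-- computable model of the field with four elements, `𝔽₂[ω]/(ω² = 1 + ω)` -/
abbrev F4 := QuadraticAlgebra (ZMod 2) 1 1

instance : Fintype F4 := Fintype.ofEquiv _ (QuadraticAlgebra.equivProd (1 : ZMod 2) 1).symm

abbrev SL4 := Matrix.SpecialLinearGroup (Fin 3) F4

def w4 : F4 := ⟨0, 1⟩

def dd4 : SL4 := ⟨!![1,0,0; 0,w4,0; 0,0,w4*w4], by decide⟩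
def cc4 : SL4 := ⟨!![0,0,1; 1,0,0; 0,1,0], by decide⟩
def aa4 : SL4 := ⟨!![1,1,1; 1,w4,w4*w4; 1,w4*w4,w4], by decide⟩
def xx4 : SL4 := ⟨!![1,w4,w4; w4*w4,w4,w4*w4; w4*w4,w4*w4,w4], by decide⟩
def zz4 : SL4 := ⟨!![w4,0,0; 0,w4,0; 0,0,w4], by decide⟩

/-- unitarity for the form `Σ uᵢ vᵢ²` -/
def IsU4 (s : SL4) : Prop := s.1.transpose * s.1.map (fun x => x ^ 2) = 1

instance : DecidablePred IsU4 := fun s => by unfold IsU4; infer_instance

theorem U_dd4 : IsU4 dd4 := by decide
theorem U_cc4 : IsU4 cc4 := by decide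
theorem U_aa4 : IsU4 aa4 := by decide
theorem U_xx4 : IsU4 xx4 := by decide
theorem U_zz4 : IsU4 zz4 := by decide
theorem U_dc4 : IsU4 (dd4 * cc4) := by decide
theorem U_ddc4 : IsU4 (dd4 * dd4 * cc4) := by decide
theorem U_aa4sq : IsU4 (aa4 * aa4) := by decide
theorem R1 : dd4 * dd4 * dd4 = 1 := by decide
theorem R2 : cc4 * cc4 * cc4 = 1 := by decide
theorem R3 : dd4 * cc4 = zz4 * cc4 * dd4 := by decide
theorem R4 : aa4 * aa4 * aa4 * aa4 = 1 := by decide
theorem R5 : xx4 * xx4 = aa4 * aa4 := by decide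
theorem R6 : aa4 * xx4 * aa4 = xx4 := by decide
theorem R7 : aa4 * dd4 = cc4 * cc4 * aa4 := by decide
theorem R8 : aa4 * cc4 = dd4 * aa4 := by decide
theorem R9 : xx4 * dd4 = zz4 * dd4 * dd4 * cc4 * cc4 * xx4 := by decide
theorem R10 : xx4 * cc4 = zz4 * zz4 * dd4 * dd4 * cc4 * xx4 := by decide
theorem cube4 : ∀ x : F4, x ≠ 0 → x * x * x = 1 := by decide
theorem N1 : dd4.1 0 0 - dd4.1 1 1 ≠ 0 := by decide
theorem N2 : cc4.1 1 0 ≠ 0 := by decide
theorem N3 : (dd4 * cc4).1 1 0 ≠ 0 := by decide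
theorem N4 : (dd4 * dd4 * cc4).1 1 0 ≠ 0 := by decide
theorem N5 : (aa4 * aa4).1 1 2 ≠ 0 := by decide
theorem Z4 : zz4.1 = w4 • (1 : Matrix (Fin 3) (Fin 3) F4) := by decide

end concrete

/-! ## Transport to an arbitrary field with four elements -/

section transport

open Matrix Cfsg.Agent.Lib.Helper13_Herm Cfsg.Agent.Lib.Helper5_GUOrder
  Cfsg.Agent.Lib.Helper5_SUOrder Cfsg.Agent.Lib.Helper5_SUCenter

variable {F : Type*} [Field F] [Fintype F]

/-- converse of `transpose_mul_map_of_isU` -/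
theorem isU_of_transpose_mul_map {q n : ℕ} (hF : Fintype.card F = q ^ 2)
    (M : Matrix (Fin n) (Fin n) F) (h : Mᵀ * M.map (fun x => x ^ q) = 1) : IsU n q M := by
  intro u v
  have key : ∀ a b : Fin n → F, Cfsg.hermForm n F q a b = a ⬝ᵥ (fun i => b i ^ q) := fun a b => rfl
  rw [key, key]
  have h1 : (fun i => (M *ᵥ v) i ^ q) = (M.map (fun x => x ^ q)) *ᵥ (fun i => v i ^ q) := by
    ext i
    simp only [Matrix.mulVec, dotProduct, Matrix.map_apply]
    rw [sum_pow_q hF]
    simp [mul_pow]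
  rw [h1, dotProduct_comm, Matrix.dotProduct_mulVec, ← Matrix.mulVec_transpose, dotProduct_comm,
    Matrix.mulVec_mulVec, h, Matrix.one_mulVec]

variable (ι : F4 →+* F)

theorem iota_ne_zero (x : F4) (hx : x ≠ 0) : ι x ≠ 0 := by
  intro h
  have h2 := congrArg ι (cube4 x hx)
  rw [map_mul, map_mul, h, map_one] at h2
  simp at h2

/-- the induced map on `SL₃` -/
def Psi : SL4 →* Matrix.SpecialLinearGroup (Fin 3) F := Matrix.SpecialLinearGroup.map ι

theorem Psi_apply (s : SL4) (i j : Fin 3) :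
    ((Psi ι s : Matrix.SpecialLinearGroup (Fin 3) F) : Matrix (Fin 3) (Fin 3) F) i j = ι (s.1 i j) := rfl

theorem Psi_mem (hF : Fintype.card F = 4) (s : SL4) (hs : IsU4 s) : Psi ι s ∈ Cfsg.SU 3 F 2 := by
  have hF' : Fintype.card F = 2 ^ 2 := by rw [hF]; norm_num
  rw [Cfsg.Agent.Lib.Helper5_SUOrder.mem_SU_iff]
  apply isU_of_transpose_mul_map hF'
  have h1 : ((Psi ι s : Matrix.SpecialLinearGroup (Fin 3) F) : Matrix (Fin 3) (Fin 3) F)
      = s.1.map ι := rfl
  rw [h1]
  have h2 : (s.1.map ι).map (fun x => x ^ 2) = (s.1.map (fun x => x ^ 2)).map ι := by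
    rw [Matrix.map_map, Matrix.map_map]
    congr 1
    funext x
    simp [map_pow]
  have hs' : s.1.transpose * s.1.map (fun x => x ^ 2) = 1 := hs
  rw [h2, ← Matrix.transpose_map, ← Matrix.map_mul, hs']
  exact Matrix.map_one ι (map_zero ι) (map_one ι)

/-- elements of `SU₃(2)` from concrete unitary matrices -/
def toSU (hF : Fintype.card F = 4) (s : SL4) (hs : IsU4 s) : Cfsg.SU 3 F 2 :=
  ⟨Psi ι s, Psi_mem ι hF s hs⟩

theorem toSU_val (hF : Fintype.card F = 4) (s : SL4) (hs : IsU4 s) :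
    (toSU ι hF s hs).1 = Psi ι s := rfl

theorem not_center_offdiag (hF : Fintype.card F = 4) (s : SL4) (hs : IsU4 s) (k l : Fin 3)
    (hkl : k ≠ l) (h : s.1 k l ≠ 0) : toSU ι hF s hs ∉ Subgroup.center (Cfsg.SU 3 F 2) := by
  intro hz
  have hF' : Fintype.card F = 2 ^ 2 := by rw [hF]; norm_num
  have h1 := center_offdiag hF' _ hz k l hkl
  exact iota_ne_zero ι _ h h1

theorem not_center_diag (hF : Fintype.card F = 4) (s : SL4) (hs : IsU4 s)
    (h : s.1 0 0 - s.1 1 1 ≠ 0) : toSU ι hF s hs ∉ Subgroup.center (Cfsg.SU 3 F 2) := by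
  intro hz
  have hF' : Fintype.card F = 2 ^ 2 := by rw [hF]; norm_num
  have h1 := center_diag hF' _ hz 0 1
  apply iota_ne_zero ι _ h
  rw [map_sub, sub_eq_zero]
  exact h1

theorem z_mem_center (hF : Fintype.card F = 4) :
    toSU ι hF zz4 U_zz4 ∈ Subgroup.center (Cfsg.SU 3 F 2) := by
  rw [Subgroup.mem_center_iff]
  intro g
  apply Subtype.ext
  apply Subtype.ext
  have hz : ((toSU ι hF zz4 U_zz4).1 : Matrix (Fin 3) (Fin 3) F)
      = ι w4 • (1 : Matrix (Fin 3) (Fin 3) F) := by
    have h1 : ((toSU ι hF zz4 U_zz4).1 : Matrix (Fin 3) (Fin 3) F) = zz4.1.map ι := rfl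
    rw [h1, Z4]
    ext i j
    simp [Matrix.map_apply, Matrix.smul_apply, Matrix.one_apply]
    split_ifs <;> simp
  show (g.1 : Matrix (Fin 3) (Fin 3) F) * ((toSU ι hF zz4 U_zz4).1 : Matrix (Fin 3) (Fin 3) F)
    = ((toSU ι hF zz4 U_zz4).1 : Matrix (Fin 3) (Fin 3) F) * (g.1 : Matrix (Fin 3) (Fin 3) F)
  rw [hz, Matrix.mul_smul, Matrix.smul_mul, Matrix.mul_one, Matrix.one_mul]

theorem exists_iota (hF : Fintype.card F = 4) : Nonempty (F4 →+* F) := by
  classical
  have h4 : (4 : F) = 0 := by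
    have := Nat.cast_card_eq_zero F
    rw [hF] at this
    exact_mod_cast this
  have h2 : (2 : F) = 0 := by
    have h : (2 : F) ^ 2 = 0 := by
      rw [← h4]; norm_num
    exact pow_eq_zero_iff (two_ne_zero) |>.mp h
  have : CharP F 2 := CharTwo.of_one_ne_zero_of_two_eq_zero one_ne_zero h2
  letI : Algebra (ZMod 2) F := ZMod.algebra F 2
  obtain ⟨ω, hω0, hω1⟩ : ∃ ω : F, ω ≠ 0 ∧ ω ≠ 1 := by
    by_contra hcon
    push Not at hcon
    have hsub : (Finset.univ : Finset F) ⊆ {0, 1} := by
      intro x _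
      by_cases hx : x = 0
      · simp [hx]
      · simp [hcon x hx]
    have h1 := Finset.card_le_card hsub
    rw [Finset.card_univ, hF] at h1
    have h3 := Finset.card_le_two (a := (0 : F)) (b := 1)
    omega
  have hω3 : ω ^ 3 = 1 := by
    have := FiniteField.pow_card_sub_one_eq_one ω hω0
    rwa [hF] at this
  have hω : ω * ω = 1 + ω := by
    have h : (ω - 1) * (ω * ω + ω + 1) = 0 := by linear_combination hω3
    rcases mul_eq_zero.mp h with h | h
    · exact absurd (sub_eq_zero.mp h) hω1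
    · linear_combination h - (ω + 1) * h2
  exact ⟨(QuadraticAlgebra.lift ⟨ω, by rw [one_smul, one_smul]; exact hω⟩ : F4 →ₐ[ZMod 2] F).toRingHom⟩

end transport

/-- U_3(2) ≅ 3².Q_8: PSU_3(2) (form over the field with 4 elements) has a normal subgroup N which is elementary abelian of order 9 such that the quotient by N is isomorphic to the quaternion group of order 8. -/
theorem result {F : Type*} [Field F] [Fintype F] (hF : Fintype.card F = 4) : ∃ (N : Subgroup (Cfsg.PSU 3 F 2)) (_ : N.Normal), Nat.card N = 9 ∧ (∀ x ∈ N, x ^ 3 = 1) ∧ Nonempty (Cfsg.PSU 3 F 2 ⧸ N ≃* QuaternionGroup 2) := by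
  obtain ⟨ι⟩ := exists_iota hF
  have hcard := (Cfsg.Agent.S0282.result hF).1
  have : Finite (Cfsg.PSU 3 F 2) := Nat.finite_of_card_ne_zero (by rw [hcard]; norm_num)
  let d := toSU ι hF dd4 U_dd4
  let c := toSU ι hF cc4 U_cc4
  let a := toSU ι hF aa4 U_aa4
  let x := toSU ι hF xx4 U_xx4
  let z := toSU ι hF zz4 U_zz4
  let π : Cfsg.SU 3 F 2 →* Cfsg.PSU 3 F 2 := QuotientGroup.mk' _
  have hπ1 : ∀ s : Cfsg.SU 3 F 2, π s = 1 ↔ s ∈ Subgroup.center (Cfsg.SU 3 F 2) :=
    fun s => QuotientGroup.eq_one_iff s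
  have hπz : π z = 1 := (hπ1 z).mpr (z_mem_center ι hF)
  -- relations in SU
  have r1 : d * d * d = 1 := Subtype.ext (by
    show Psi ι dd4 * Psi ι dd4 * Psi ι dd4 = 1
    simp only [← map_mul]; rw [R1, map_one])
  have r2 : c * c * c = 1 := Subtype.ext (by
    show Psi ι cc4 * Psi ι cc4 * Psi ι cc4 = 1
    simp only [← map_mul]; rw [R2, map_one])
  have r3 : d * c = z * c * d := Subtype.ext (by
    show Psi ι dd4 * Psi ι cc4 = Psi ι zz4 * Psi ι cc4 * Psi ι dd4
    simp only [← map_mul]; rw [R3])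
  have r4 : a * a * a * a = 1 := Subtype.ext (by
    show Psi ι aa4 * Psi ι aa4 * Psi ι aa4 * Psi ι aa4 = 1
    simp only [← map_mul]; rw [R4, map_one])
  have r5 : x * x = a * a := Subtype.ext (by
    show Psi ι xx4 * Psi ι xx4 = Psi ι aa4 * Psi ι aa4
    simp only [← map_mul]; rw [R5])
  have r6 : a * x * a = x := Subtype.ext (by
    show Psi ι aa4 * Psi ι xx4 * Psi ι aa4 = Psi ι xx4
    simp only [← map_mul]; rw [R6])
  have r7 : a * d = c * c * a := Subtype.ext (by
    show Psi ι aa4 * Psi ι dd4 = Psi ι cc4 * Psi ι cc4 * Psi ι aa4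
    simp only [← map_mul]; rw [R7])
  have r8 : a * c = d * a := Subtype.ext (by
    show Psi ι aa4 * Psi ι cc4 = Psi ι dd4 * Psi ι aa4
    simp only [← map_mul]; rw [R8])
  have r9 : x * d = z * d * d * c * c * x := Subtype.ext (by
    show Psi ι xx4 * Psi ι dd4
      = Psi ι zz4 * Psi ι dd4 * Psi ι dd4 * Psi ι cc4 * Psi ι cc4 * Psi ι xx4
    simp only [← map_mul]; rw [R9])
  have r10 : x * c = z * z * d * d * c * x := Subtype.ext (by
    show Psi ι xx4 * Psi ι cc4
      = Psi ι zz4 * Psi ι zz4 * Psi ι dd4 * Psi ι dd4 * Psi ι cc4 * Psi ι xx4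
    simp only [← map_mul]; rw [R10])
  have e_dc : d * c = toSU ι hF (dd4 * cc4) U_dc4 := Subtype.ext (by
    show Psi ι dd4 * Psi ι cc4 = Psi ι (dd4 * cc4)
    rw [map_mul])
  have e_ddc : d * d * c = toSU ι hF (dd4 * dd4 * cc4) U_ddc4 := Subtype.ext (by
    show Psi ι dd4 * Psi ι dd4 * Psi ι cc4 = Psi ι (dd4 * dd4 * cc4)
    rw [map_mul, map_mul])
  have e_aa : a * a = toSU ι hF (aa4 * aa4) U_aa4sq := Subtype.ext (by
    show Psi ι aa4 * Psi ι aa4 = Psi ι (aa4 * aa4)
    rw [map_mul])
  -- non-central elements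
  have n_d : d ∉ Subgroup.center (Cfsg.SU 3 F 2) := not_center_diag ι hF dd4 U_dd4 N1
  have n_c : c ∉ Subgroup.center (Cfsg.SU 3 F 2) :=
    not_center_offdiag ι hF cc4 U_cc4 1 0 (by decide) N2
  have n_dc : d * c ∉ Subgroup.center (Cfsg.SU 3 F 2) := by
    rw [e_dc]; exact not_center_offdiag ι hF _ U_dc4 1 0 (by decide) N3
  have n_ddc : d * d * c ∉ Subgroup.center (Cfsg.SU 3 F 2) := by
    rw [e_ddc]; exact not_center_offdiag ι hF _ U_ddc4 1 0 (by decide) N4
  have n_aa : a * a ∉ Subgroup.center (Cfsg.SU 3 F 2) := by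
    rw [e_aa]; exact not_center_offdiag ι hF _ U_aa4sq 1 2 (by decide) N5
  -- relations in PSU
  have hD : π d ^ 3 = 1 := by rw [pow_three', ← map_mul, ← map_mul, r1, map_one]
  have hC : π c ^ 3 = 1 := by rw [pow_three', ← map_mul, ← map_mul, r2, map_one]
  have hDC : π d * π c = π c * π d := by
    rw [← map_mul, r3, map_mul, map_mul, hπz, one_mul]
  have hDD : π d * π d * π d = 1 := by rw [← map_mul, ← map_mul, r1, map_one]
  have hD1 : π d ≠ 1 := fun h => n_d ((hπ1 d).mp h)
  have hC1 : π c ≠ 1 := fun h => n_c ((hπ1 c).mp h)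
  have hCD : π c ≠ π d := by
    intro h
    apply n_ddc
    rw [← hπ1, map_mul, map_mul, h, hDD]
  have hCD2 : π c ≠ π d * π d := by
    intro h
    apply n_dc
    rw [← hπ1, map_mul, h, ← mul_assoc, hDD]
  have hA4 : π a ^ 4 = 1 := by
    have : π a ^ 4 = π a * π a * π a * π a := by
      rw [pow_succ, pow_three']
    rw [this, ← map_mul, ← map_mul, ← map_mul, r4, map_one]
  have hX : π x * π x = π a ^ 2 := by rw [pow_two, ← map_mul, ← map_mul, r5]
  have hAX : π a * π x * π a = π x := by rw [← map_mul, ← map_mul, r6]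
  have hA2 : π a ^ 2 ≠ 1 := by
    intro h
    apply n_aa
    rw [← hπ1, map_mul, ← pow_two, h]
  have hDm : π d ∈ Subgroup.closure ({π d, π c} : Set (Cfsg.PSU 3 F 2)) :=
    Subgroup.subset_closure (by simp)
  have hCm : π c ∈ Subgroup.closure ({π d, π c} : Set (Cfsg.PSU 3 F 2)) :=
    Subgroup.subset_closure (by simp)
  have hAD : π a * π d * (π a)⁻¹ ∈ Subgroup.closure ({π d, π c} : Set (Cfsg.PSU 3 F 2)) := by
    have : π a * π d * (π a)⁻¹ = π c * π c := by
      rw [mul_inv_eq_iff_eq_mul, ← map_mul, r7, map_mul, map_mul]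
    rw [this]; exact mul_mem hCm hCm
  have hAC : π a * π c * (π a)⁻¹ ∈ Subgroup.closure ({π d, π c} : Set (Cfsg.PSU 3 F 2)) := by
    have : π a * π c * (π a)⁻¹ = π d := by
      rw [mul_inv_eq_iff_eq_mul, ← map_mul, r8, map_mul]
    rw [this]; exact hDm
  have hXD : π x * π d * (π x)⁻¹ ∈ Subgroup.closure ({π d, π c} : Set (Cfsg.PSU 3 F 2)) := by
    have : π x * π d * (π x)⁻¹ = π d * π d * π c * π c := by
      rw [mul_inv_eq_iff_eq_mul, ← map_mul, r9]
      simp only [map_mul, hπz, one_mul]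
    rw [this]; exact mul_mem (mul_mem (mul_mem hDm hDm) hCm) hCm
  have hXC : π x * π c * (π x)⁻¹ ∈ Subgroup.closure ({π d, π c} : Set (Cfsg.PSU 3 F 2)) := by
    have : π x * π c * (π x)⁻¹ = π d * π d * π c := by
      rw [mul_inv_eq_iff_eq_mul, ← map_mul, r10]
      simp only [map_mul, hπz, one_mul]
    rw [this]; exact mul_mem (mul_mem hDm hDm) hCm
  exact abstract_main hcard (π d) (π c) (π a) (π x) hD hC hDC hD1 hC1 hCD hCD2 hA4 hX hAX hA2
    hAD hAC hXD hXC

end Cfsg.Agent.S0827
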