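import Mathlib
import Cfsg.Agent.S0827
import Cfsg.Agent.Lib.Helper17_Sylow
import Cfsg.Agent.Lib.Helper5_GUOrder
import Cfsg.Agent.Lib.Helper5_SUOrder
import Cfsg.Agent.Lib.Helper5_SUCenter
import Cfsg.Statements.S1248

set_option autoImplicit false
set_option linter.unusedSectionVars false
open Cfsg

namespace Cfsg.Agent.S1248

/-! ## Facts on a field with 16 elements -/

section field

variable {F : Type*} [Field F] [Fintype F]

theorem two_eq_zero (hF : Fintype.card F = 16) : (2 : F) = 0 := by
  have h16 : (16 : F) = 0 := by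
    have := Nat.cast_card_eq_zero F
    rw [hF] at this
    exact_mod_cast this
  have h : (2 : F) ^ 4 = 0 := by
    rw [← h16]; norm_num
  exact pow_eq_zero_iff (by norm_num) |>.mp h

theorem charP_two (hF : Fintype.card F = 16) : CharP F 2 :=
  CharTwo.of_one_ne_zero_of_two_eq_zero one_ne_zero (two_eq_zero hF)

theorem pow_sixteen (hF : Fintype.card F = 16) (x : F) : x ^ 16 = x := by
  have := FiniteField.pow_card x
  rwa [hF] at this

theorem card_units (hF : Fintype.card F = 16) : Nat.card Fˣ = 15 := by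
  classical
  rw [Nat.card_eq_fintype_card, Fintype.card_units, hF]

/-- an element outside the subfield with four elements -/
theorem exists_t (hF : Fintype.card F = 16) : ∃ t : F, t ^ 4 ≠ t := by
  have : Fact (Nat.Prime 5) := ⟨by norm_num⟩
  obtain ⟨x, hx⟩ := exists_prime_orderOf_dvd_card' (G := Fˣ) 5 (by rw [card_units hF]; norm_num)
  refine ⟨(x : F), fun h => ?_⟩
  have h3 : x ^ 3 = 1 := by
    apply Units.ext
    rw [Units.val_pow_eq_pow_val, Units.val_one]
    have hx0 : (x : F) ≠ 0 := x.ne_zero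
    have : (x : F) * ((x : F) ^ 3 - 1) = 0 := by linear_combination h
    rcases mul_eq_zero.mp this with h' | h'
    · exact absurd h' hx0
    · exact sub_eq_zero.mp h'
  have := orderOf_dvd_of_pow_eq_one h3
  rw [hx] at this
  omega

/-- a primitive cube root of unity -/
theorem exists_omega (hF : Fintype.card F = 16) : ∃ ω : F, ω ^ 4 = ω ∧ ω ≠ 0 ∧ ω ≠ 1 := by
  have : Fact (Nat.Prime 3) := ⟨by norm_num⟩
  obtain ⟨x, hx⟩ := exists_prime_orderOf_dvd_card' (G := Fˣ) 3 (by rw [card_units hF]; norm_num)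
  have h3 : x ^ 3 = 1 := by rw [← hx]; exact pow_orderOf_eq_one x
  have h3' : (x : F) ^ 3 = 1 := by
    rw [← Units.val_pow_eq_pow_val, h3, Units.val_one]
  refine ⟨(x : F), ?_, x.ne_zero, ?_⟩
  · rw [pow_succ, h3', one_mul]
  · intro h1
    have : x = 1 := Units.ext (by rw [h1, Units.val_one])
    rw [this, orderOf_one] at hx
    omega

/-- an element of relative trace one -/
theorem exists_tau (hF : Fintype.card F = 16) : ∃ τ : F, τ + τ ^ 4 = 1 := by
  obtain ⟨t, ht⟩ := exists_t hF
  have := charP_two hF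
  have h16 := pow_sixteen hF t
  have hu : t + t ^ 4 ≠ 0 := by
    intro h
    apply ht
    have h2 := two_eq_zero hF
    linear_combination h - t * h2
  have hu4 : (t + t ^ 4) ^ 4 = t + t ^ 4 := by grind
  refine ⟨t / (t + t ^ 4), ?_⟩
  rw [div_pow, hu4, ← add_div, div_self hu]

end field

/-! ## The parameter group `{(b, c) : c + c⁴ = b⁵}` with `(b,c)(b',c') = (b+b', c+c'+b⁴b')` -/

section PFdef

/-- the unipotent parameter group (a Sylow 2-subgroup of `SU₃(4)`) -/
@[ext]
structure PF (F : Type*) [Field F] where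
  /-- first parameter -/
  b : F
  /-- second parameter -/
  c : F
  /-- the defining relation -/
  h : c + c ^ 4 = b ^ 5

variable {F : Type*} [Field F]
variable [CharP F 2] [h16 : Fact (∀ x : F, x ^ 16 = x)]

namespace PF

instance : Mul (PF F) := ⟨fun p p' =>
  ⟨p.b + p'.b, p.c + p'.c + p.b ^ 4 * p'.b, by
    have h := p.h
    have h' := p'.h
    have e := h16.out p.b
    grind⟩⟩

instance : One (PF F) := ⟨⟨0, 0, by simp⟩⟩

instance : Inv (PF F) := ⟨fun p =>
  ⟨p.b, p.c + p.b ^ 5, by
    have h := p.h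
    have e := h16.out p.b
    grind⟩⟩

theorem mul_b (p p' : PF F) : (p * p').b = p.b + p'.b := rfl
theorem mul_c (p p' : PF F) : (p * p').c = p.c + p'.c + p.b ^ 4 * p'.b := rfl
theorem one_b : (1 : PF F).b = 0 := rfl
theorem one_c : (1 : PF F).c = 0 := rfl
theorem inv_b (p : PF F) : (p⁻¹).b = p.b := rfl
theorem inv_c (p : PF F) : (p⁻¹).c = p.c + p.b ^ 5 := rfl

instance : Group (PF F) := Group.ofLeftAxioms
  (by
    intro a b c
    apply PF.ext
    · simp only [mul_b]; ring
    · simp only [mul_c, mul_b]; grind)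
  (by
    intro a
    apply PF.ext
    · simp only [mul_b, one_b, zero_add]
    · simp only [mul_c, one_b, one_c]; ring)
  (by
    intro a
    apply PF.ext
    · simp only [mul_b, inv_b, one_b]; grind
    · simp only [mul_c, inv_b, inv_c, one_c]; grind)

end PF

end PFdef

/-! ## The matrices -/

section matrices

open Matrix Cfsg.Agent.Lib.Helper5_GUOrder Cfsg.Agent.Lib.Helper5_SUOrder
  Cfsg.Agent.Lib.Helper5_SUCenter

variable {F : Type*} [Field F] [CharP F 2] [h16 : Fact (∀ x : F, x ^ 16 = x)]

/-- the unipotent matrix with parameters `(b, c)`, written in the orthonormal basis: in the basis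
`e = (1,1,0)`, `w = (1,1,1)`, `f = (0,1,1)` it is `e ↦ e`, `w ↦ w + b⁴ e`, `f ↦ f + b w + c e`. -/
def Mmat (b c : F) : Matrix (Fin 3) (Fin 3) F :=
  !![1 + (b ^ 4 + b + c), b ^ 4 + b + c, b ^ 4;
     b ^ 4 + b + c, 1 + (b ^ 4 + b + c), b ^ 4;
     b, b, 1]

theorem Mmat_mul (b c b' c' : F) :
    Mmat b c * Mmat b' c' = Mmat (b + b') (c + c' + b ^ 4 * b') := by
  ext i j
  fin_cases i <;> fin_cases j <;>
    simp [Mmat, Matrix.mul_apply, Fin.sum_univ_three] <;> grind

theorem Mmat_det (b c : F) : (Mmat b c).det = 1 := by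
  rw [Matrix.det_fin_three]
  simp [Mmat]
  grind

theorem Mmat_isU (b c : F) (h : c + c ^ 4 = b ^ 5) :
    (Mmat b c)ᵀ * (Mmat b c).map (fun x => x ^ 4) = 1 := by
  have e := h16.out b
  ext i j
  fin_cases i <;> fin_cases j <;>
    simp [Mmat, Matrix.mul_apply, Fin.sum_univ_three] <;> grind

variable [Fintype F]

/-- the element of `SU₃(4)` with parameters `p` -/
def mSU (hF : Fintype.card F = 16) (p : PF F) : Cfsg.SU 3 F 4 :=
  ⟨⟨Mmat p.b p.c, Mmat_det _ _⟩,
    (Cfsg.Agent.Lib.Helper5_SUOrder.mem_SU_iff _).mpr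
      (Cfsg.Agent.S0827.isU_of_transpose_mul_map (by rw [hF]; norm_num) _ (Mmat_isU _ _ p.h))⟩

theorem mSU_val (hF : Fintype.card F = 16) (p : PF F) :
    ((mSU hF p).1 : Matrix (Fin 3) (Fin 3) F) = Mmat p.b p.c := rfl

/-- the homomorphism `PF F →* SU₃(4)` -/
def mHom (hF : Fintype.card F = 16) : PF F →* Cfsg.SU 3 F 4 :=
  MonoidHom.mk' (mSU hF) (by
    intro p p'
    apply Subtype.ext
    apply Subtype.ext
    exact (Mmat_mul p.b p.c p'.b p'.c).symm)

theorem mHom_injective (hF : Fintype.card F = 16) : Function.Injective (mHom (F := F) hF) := by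
  intro p p' h
  have h1 : Mmat p.b p.c = Mmat p'.b p'.c := by
    have := congrArg (fun s : Cfsg.SU 3 F 4 => ((s.1 : Matrix (Fin 3) (Fin 3) F))) h
    exact this
  have hb : p.b = p'.b := by
    have := congrFun (congrFun h1 2) 0
    simpa [Mmat] using this
  have hs : p.b ^ 4 + p.b + p.c = p'.b ^ 4 + p'.b + p'.c := by
    have := congrFun (congrFun h1 0) 1
    simpa [Mmat] using this
  apply PF.ext hb
  rw [hb] at hs
  exact add_left_cancel hs

/-- the homomorphism `PF F →* PSU₃(4)` -/
def muHom (hF : Fintype.card F = 16) : PF F →* Cfsg.PSU 3 F 4 :=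
  (QuotientGroup.mk' (Subgroup.center (Cfsg.SU 3 F 4))).comp (mHom hF)

theorem center_eq_bot (hF : Fintype.card F = 16) : Subgroup.center (Cfsg.SU 3 F 4) = ⊥ := by
  have hF' : Fintype.card F = 4 ^ 2 := by rw [hF]; norm_num
  have h := card_center_SU hF' 3 (by norm_num)
  have h1 : Nat.gcd 3 (4 + 1) = 1 := by norm_num
  rw [h1] at h
  exact Subgroup.card_eq_one.mp h

theorem muHom_injective (hF : Fintype.card F = 16) : Function.Injective (muHom (F := F) hF) := by
  rw [injective_iff_map_eq_one]
  intro p hp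
  have h1 : mHom hF p ∈ Subgroup.center (Cfsg.SU 3 F 4) :=
    (QuotientGroup.eq_one_iff _).mp hp
  rw [center_eq_bot hF, Subgroup.mem_bot] at h1
  exact (injective_iff_map_eq_one _).mp (mHom_injective hF) p h1

end matrices

/-! ## Structure of the parameter group -/

section structure_

open scoped commutatorElement

variable {F : Type*} [Field F] [CharP F 2] [h16 : Fact (∀ x : F, x ^ 16 = x)]

namespace PF

/-- the element with first parameter `b`, second parameter in the coset `k + b⁵ τ` -/
def mkOf (τ : F) (hτ : τ + τ ^ 4 = 1) (b k : F) (hk : k ^ 4 = k) : PF F :=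
  ⟨b, k + b ^ 5 * τ, by
    have e := h16.out b
    grind⟩

theorem mul_self_b (p : PF F) : (p * p).b = 0 := by
  rw [mul_b]; grind

theorem mul_self_eq_one_of_b (p : PF F) (hp : p.b = 0) : p * p = 1 := by
  apply PF.ext
  · rw [mul_b, hp, one_b, add_zero]
  · rw [mul_c, hp, one_c]; grind

theorem b_eq_zero_of_mul_self (p : PF F) (hp : p * p = 1) : p.b = 0 := by
  have h := congrArg PF.c hp
  rw [mul_c, one_c] at h
  have h5 : p.b ^ 5 = 0 := by grind
  exact pow_eq_zero_iff (by norm_num) |>.mp h5

theorem pow_four (p : PF F) : p ^ (2 ^ 2) = 1 := by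
  have : p ^ (2 ^ 2) = (p * p) * (p * p) := by
    rw [show (2 : ℕ) ^ 2 = 4 by norm_num, pow_succ, pow_succ, pow_succ, pow_one]
    simp only [mul_assoc]
  rw [this]
  exact mul_self_eq_one_of_b _ (mul_self_b p)

theorem isPGroup : IsPGroup 2 (PF F) := fun p => ⟨2, pow_four p⟩

theorem mem_center_iff (τ : F) (hτ : τ + τ ^ 4 = 1) (t : F) (ht : t ^ 4 ≠ t) (p : PF F) :
    p ∈ Subgroup.center (PF F) ↔ p.b = 0 := by
  rw [Subgroup.mem_center_iff]
  constructor
  · intro h
    have h1 := congrArg PF.c (h (mkOf τ hτ (p.b * t) 0 (by simp)))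
    rw [mul_c, mul_c] at h1
    have hb : (mkOf τ hτ (p.b * t) 0 (by simp)).b = p.b * t := rfl
    rw [hb] at h1
    have h2 : p.b ^ 5 * (t ^ 4 - t) = 0 := by grind
    rcases mul_eq_zero.mp h2 with h3 | h3
    · exact pow_eq_zero_iff (by norm_num) |>.mp h3
    · exact absurd (sub_eq_zero.mp h3) ht
  · intro hp g
    apply PF.ext
    · rw [mul_b, mul_b, add_comm]
    · rw [mul_c, mul_c, hp]; ring

theorem commutator_b (x y : PF F) : (⁅x, y⁆).b = 0 := by
  rw [commutatorElement_def, mul_b, mul_b, mul_b, inv_b, inv_b]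
  grind

theorem exists_commutator (τ : F) (hτ : τ + τ ^ 4 = 1) (p : PF F) (hp : p.b = 0) :
    ∃ x y : PF F, p = ⁅x, y⁆ := by
  have hk : p.c ^ 4 = p.c := by
    have h := p.h
    rw [hp] at h
    grind
  refine ⟨mkOf τ hτ 1 0 (by simp), mkOf τ hτ (p.c * τ) 0 (by simp), ?_⟩
  apply PF.ext
  · rw [commutator_b, hp]
  · rw [commutatorElement_def]
    simp only [mul_c, mul_b, inv_c, inv_b]
    have hb1 : (mkOf τ hτ 1 0 (by simp)).b = 1 := rfl
    have hc1 : (mkOf τ hτ 1 0 (by simp)).c = 0 + 1 ^ 5 * τ := rfl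
    have hb2 : (mkOf τ hτ (p.c * τ) 0 (by simp)).b = p.c * τ := rfl
    have hc2 : (mkOf τ hτ (p.c * τ) 0 (by simp)).c = 0 + (p.c * τ) ^ 5 * τ := rfl
    rw [hb1, hc1, hb2, hc2]
    have e1 := h16.out τ
    have e2 := h16.out p.c
    grind

/-- the subfield with four elements -/
abbrev K (F : Type*) [Field F] : Type _ := {k : F // k ^ 4 = k}

/-- `PF F` is in bijection with `F × K` -/
def equivProd (τ : F) (hτ : τ + τ ^ 4 = 1) : PF F ≃ F × K F where
  toFun p := (p.b, ⟨p.c + p.b ^ 5 * τ, by
    have h := p.h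
    have e := h16.out p.b
    grind⟩)
  invFun x := mkOf τ hτ x.1 x.2.1 x.2.2
  left_inv p := by
    apply PF.ext
    · rfl
    · show (p.c + p.b ^ 5 * τ) + p.b ^ 5 * τ = p.c
      grind
  right_inv x := by
    apply Prod.ext
    · rfl
    · apply Subtype.ext
      show (x.2.1 + x.1 ^ 5 * τ) + x.1 ^ 5 * τ = x.2.1
      grind

/-- the central elements are in bijection with `K` -/
def centerEquiv : {p : PF F // p.b = 0} ≃ K F where
  toFun p := ⟨p.1.c, by
    have h := p.1.h
    rw [p.2] at h
    grind⟩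
  invFun k := ⟨⟨0, k.1, by have := k.2; grind⟩, rfl⟩
  left_inv p := by
    apply Subtype.ext
    apply PF.ext
    · exact p.2.symm
    · rfl
  right_inv k := rfl

end PF

end structure_

/-! ## Transfer to any group isomorphic to the parameter group -/

section props

open scoped commutatorElement

variable {F : Type*} [Field F] [Fintype F] [CharP F 2] [h16 : Fact (∀ x : F, x ^ 16 = x)]

theorem props (hF : Fintype.card F = 16) (τ : F) (hτ : τ + τ ^ 4 = 1) (t : F) (ht : t ^ 4 ≠ t)
    {S : Type*} [Group S] (e : S ≃* PF F) (hcard : Nat.card S = 64) :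
    IsKleinFour (Subgroup.center S) ∧
    Subgroup.center S = Subgroup.closure {x : S | orderOf x = 2} ∧
    Subgroup.center S = commutator S ∧
    Nat.card (S ⧸ Subgroup.center S) = 16 ∧ ∀ x : S ⧸ Subgroup.center S, x ^ 2 = 1 := by
  have : Finite S := Nat.finite_of_card_ne_zero (by rw [hcard]; norm_num)
  -- the centre
  have hZ : ∀ x : S, x ∈ Subgroup.center S ↔ (e x).b = 0 := by
    intro x
    rw [← PF.mem_center_iff τ hτ t ht, Subgroup.mem_center_iff, Subgroup.mem_center_iff]
    constructor
    · intro h g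
      have h1 := congrArg e (h (e.symm g))
      simpa using h1
    · intro h y
      apply e.injective
      rw [map_mul, map_mul]
      exact h (e y)
  have hsq : ∀ x : S, x ∈ Subgroup.center S → x * x = 1 := by
    intro x hx
    apply e.injective
    rw [map_mul, map_one]
    exact PF.mul_self_eq_one_of_b _ ((hZ x).mp hx)
  have hK : Nat.card (PF.K F) = 4 := by
    have h1 : Nat.card (PF F) = 64 := by rw [← Nat.card_congr e.toEquiv, hcard]
    rw [Nat.card_congr (PF.equivProd τ hτ), Nat.card_prod, Nat.card_eq_fintype_card (α := F), hF]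
      at h1
    omega
  have hZcard : Nat.card (Subgroup.center S) = 4 := by
    rw [← hK]
    exact Nat.card_congr ((Equiv.subtypeEquiv e.toEquiv (fun x => hZ x)).trans PF.centerEquiv)
  refine ⟨⟨hZcard, ?_⟩, ?_, ?_, ?_, ?_⟩
  · have : Nontrivial (Subgroup.center S) := by
      rw [← Finite.one_lt_card_iff_nontrivial, hZcard]; norm_num
    rw [Monoid.exponent_eq_prime_iff Nat.prime_two]
    intro g hg
    apply orderOf_eq_prime
    · apply Subtype.ext
      rw [pow_two]
      exact hsq g.1 g.2
    · exact hg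
  · apply le_antisymm
    · intro x hx
      by_cases hx1 : x = 1
      · rw [hx1]; exact one_mem _
      · apply Subgroup.subset_closure
        show orderOf x = 2
        apply orderOf_eq_prime
        · rw [pow_two]; exact hsq x hx
        · exact hx1
    · rw [Subgroup.closure_le]
      intro x hx
      have hx2 : orderOf x = 2 := hx
      have h1 : x * x = 1 := by
        rw [← pow_two, ← hx2]; exact pow_orderOf_eq_one x
      rw [SetLike.mem_coe, hZ]
      apply PF.b_eq_zero_of_mul_self
      rw [← map_mul, h1, map_one]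
  · rw [commutator_eq_closure]
    apply le_antisymm
    · intro x hx
      obtain ⟨p, p', hpp⟩ := PF.exists_commutator τ hτ (e x) ((hZ x).mp hx)
      apply Subgroup.subset_closure
      refine ⟨e.symm p, e.symm p', ?_⟩
      apply e.injective
      rw [map_commutatorElement, hpp]
      simp
    · rw [Subgroup.closure_le]
      rintro x ⟨a, b, rfl⟩
      rw [SetLike.mem_coe, hZ, map_commutatorElement]
      exact PF.commutator_b _ _
  · have := Subgroup.card_eq_card_quotient_mul_card_subgroup (Subgroup.center S)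
    rw [hcard, hZcard] at this
    omega
  · intro x
    induction x using QuotientGroup.induction_on with
    | H s =>
      rw [← QuotientGroup.mk_pow, QuotientGroup.eq_one_iff, hZ, pow_two, map_mul]
      exact PF.mul_self_b _

end props

/-- Let F be a field with 16 elements and S a Sylow 2-subgroup of PSU(3) over F (the unitary group U₃(4)). Then |S| = 64; the centre Z(S) is a Klein four-group and coincides with the subgroup generated by the involutions of S and with the derived subgroup; and every element of S ⧸ Z(S) squares to the identity, S ⧸ Z(S) having order 16. -/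
theorem result {F : Type*} [Field F] [Fintype F] (hF : Fintype.card F = 16) (S : Sylow 2 (Cfsg.PSU 3 F 4)) : Nat.card S = 64 ∧ IsKleinFour (Subgroup.center (S : Subgroup (Cfsg.PSU 3 F 4))) ∧ Subgroup.center (S : Subgroup (Cfsg.PSU 3 F 4)) = Subgroup.closure {x : (S : Subgroup (Cfsg.PSU 3 F 4)) | orderOf x = 2} ∧ Subgroup.center (S : Subgroup (Cfsg.PSU 3 F 4)) = commutator (S : Subgroup (Cfsg.PSU 3 F 4)) ∧ Nat.card ((S : Subgroup (Cfsg.PSU 3 F 4)) ⧸ Subgroup.center (S : Subgroup (Cfsg.PSU 3 F 4))) = 16 ∧ ∀ x : (S : Subgroup (Cfsg.PSU 3 F 4)) ⧸ Subgroup.center (S : Subgroup (Cfsg.PSU 3 F 4)), x ^ 2 = 1 := by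
  classical
  have := charP_two hF
  have h16 : Fact (∀ x : F, x ^ 16 = x) := ⟨pow_sixteen hF⟩
  obtain ⟨τ, hτ⟩ := exists_tau hF
  obtain ⟨t, ht⟩ := exists_t hF
  obtain ⟨ω, hω4, hω0, hω1⟩ := exists_omega hF
  have : Fact (Nat.Prime 2) := ⟨Nat.prime_two⟩
  have hF' : Fintype.card F = 4 ^ 2 := by rw [hF]; norm_num
  -- the order of the group
  have hG : Nat.card (Cfsg.PSU 3 F 4) = 2 ^ 6 * 975 := by
    have h1 := Cfsg.Agent.Lib.Helper5_SUCenter.card_PSU hF' 3 (by norm_num)
    generalize Nat.card (Cfsg.PSU 3 F 4) = c at h1 ⊢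
    norm_num [Finset.prod_range_succ] at h1
    omega
  have : Finite (Cfsg.PSU 3 F 4) := Nat.finite_of_card_ne_zero (by rw [hG]; norm_num)
  have hScard : ∀ Q : Sylow 2 (Cfsg.PSU 3 F 4), Nat.card (Q : Subgroup (Cfsg.PSU 3 F 4)) = 64 := by
    intro Q
    have := Cfsg.Agent.Lib.Helper17_Sylow.card_sylow_eq_pow hG (by norm_num) Q
    rw [this]; norm_num
  -- the order of the parameter group
  have hKge : 4 ≤ Nat.card (PF.K F) := by
    have h2 : (2 : F) = 0 := two_eq_zero hF
    have hsub : ({0, 1, ω, ω + 1} : Finset F) ⊆ Finset.univ.filter (fun k : F => k ^ 4 = k) := by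
      intro x hx
      simp only [Finset.mem_insert, Finset.mem_singleton] at hx
      rw [Finset.mem_filter]
      refine ⟨Finset.mem_univ _, ?_⟩
      rcases hx with rfl | rfl | rfl | rfl
      · simp
      · simp
      · exact hω4
      · grind
    have hcard : ({0, 1, ω, ω + 1} : Finset F).card = 4 := by
      rw [Finset.card_insert_of_notMem, Finset.card_insert_of_notMem, Finset.card_insert_of_notMem,
        Finset.card_singleton]
      · simp only [Finset.mem_singleton]
        intro h
        exact one_ne_zero (α := F) (by linear_combination -h)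
      · simp only [Finset.mem_insert, Finset.mem_singleton, not_or]
        refine ⟨fun h => hω1 h.symm, fun h => hω0 ?_⟩
        linear_combination -h
      · simp only [Finset.mem_insert, Finset.mem_singleton, not_or]
        refine ⟨zero_ne_one, fun h => hω0 h.symm, fun h => hω1 ?_⟩
        linear_combination -h - h2
    have := Finset.card_le_card hsub
    rw [hcard] at this
    rw [Nat.card_eq_fintype_card, Fintype.card_subtype]
    exact this
  have hPge : 64 ≤ Nat.card (PF F) := by
    rw [Nat.card_congr (PF.equivProd τ hτ), Nat.card_prod, Nat.card_eq_fintype_card (α := F), hF]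
    omega
  -- the image of the parameter group is a Sylow 2-subgroup
  have hμ := muHom_injective (F := F) hF
  have hT : IsPGroup 2 (muHom (F := F) hF).range :=
    PF.isPGroup.of_surjective (muHom hF).rangeRestrict (muHom hF).rangeRestrict_surjective
  obtain ⟨Q, hQ⟩ := hT.exists_le_sylow
  have hTQ : (muHom (F := F) hF).range = (Q : Subgroup (Cfsg.PSU 3 F 4)) := by
    apply Subgroup.eq_of_le_of_card_ge hQ
    rw [hScard Q, Nat.card_congr (MonoidHom.ofInjective hμ).symm.toEquiv]
    exact hPge
  let e : (S : Subgroup (Cfsg.PSU 3 F 4)) ≃* PF F :=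
    (Sylow.equiv S Q).trans ((MulEquiv.subgroupCongr hTQ.symm).trans
      (MonoidHom.ofInjective hμ).symm)
  have hp := props hF τ hτ t ht e (hScard S)
  exact ⟨hScard S, hp.1, hp.2.1, hp.2.2.1, hp.2.2.2.1, hp.2.2.2.2⟩

end Cfsg.Agent.S1248
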