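import Cfsg.Statements.S1503
import Cfsg.Agent.Lib.Helper3_CharColumn

set_option autoImplicit false
set_option linter.style.haveILetI false
open Cfsg

namespace Cfsg.Agent.S1503

open Cfsg.Agent.Lib.Helper3_CharOrtho Cfsg.Agent.Lib.Helper3_CharComplete
  Cfsg.Agent.Lib.Helper3_CharColumn
open scoped ComplexConjugate

/-- The number of linear characters of a finite cyclic group equals its order. -/
theorem card_hom_cyclic (W : Type*) [Group W] [Finite W] [IsCyclic W] :
    Nat.card (W →* ℂˣ) = Nat.card W := by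
  letI : CommGroup W := IsCyclic.commGroup
  haveI : NeZero (Monoid.exponent W) := ⟨Monoid.exponent_ne_zero_of_finite⟩
  exact CommGroup.card_monoidHom_of_hasEnoughRootsOfUnity W ℂ

theorem norm_hom_apply {W : Type*} [Group W] [Finite W] (ω : W →* ℂˣ) (w : W) :
    ((ω w : ℂˣ) : ℂ) * conj ((ω w : ℂˣ) : ℂ) = 1 := by
  have hpow : ((ω w : ℂˣ) : ℂ) ^ Nat.card W = 1 := by
    have : (ω w) ^ Nat.card W = 1 := by
      rw [← map_pow, pow_card_eq_one', map_one]
    have := congrArg (fun u : ℂˣ => (u : ℂ)) this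
    simpa using this
  have hnorm : ‖((ω w : ℂˣ) : ℂ)‖ = 1 :=
    Complex.norm_eq_one_of_pow_eq_one hpow (Nat.card_pos.ne')
  rw [Complex.mul_conj, Complex.normSq_eq_norm_sq, hnorm]
  simp

theorem result {G : Type*} [Group G] [Fintype G] (W₁ W₂ : Subgroup G) (hW : Cfsg.IsSelfNormalizingCyclic W₁ W₂) (χ : (↥(W₁ ⊔ W₂) →* ℂˣ) → (G → ℂ)) (hχ : Cfsg.IsCyclicTIFamily W₁ W₂ χ) (θ : G → ℂ) (hθ : Cfsg.IsIrrCharacter G θ) (horth : ∀ ω, Cfsg.classInner θ (χ ω) = 0) (w : ↥(W₁ ⊔ W₂)) (hw₁ : (w : G) ∉ W₁) (hw₂ : (w : G) ∉ W₂) : θ w = 0 := by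
  classical
  obtain ⟨_, _, _, _, hcyc, hnorm⟩ := hW
  -- centralizer of w is W
  have hcent : Subgroup.centralizer ({(w : G)} : Set G) = W₁ ⊔ W₂ := by
    rw [← Subgroup.normalizer_singleton]
    apply hnorm {(w : G)} ?_ (Set.singleton_nonempty _)
    intro x hx
    have : x = (w : G) := hx
    subst this
    refine ⟨w.2, ?_⟩
    rintro (h | h)
    · exact hw₁ h
    · exact hw₂ h
  have hcardHom : Nat.card (↥(W₁ ⊔ W₂) →* ℂˣ) = Nat.card ↥(W₁ ⊔ W₂) := card_hom_cyclic _
  haveI : Finite (↥(W₁ ⊔ W₂) →* ℂˣ) :=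
    Nat.finite_of_card_ne_zero (by rw [hcardHom]; exact Nat.card_pos.ne')
  letI : Fintype (↥(W₁ ⊔ W₂) →* ℂˣ) := Fintype.ofFinite _
  -- the irreducible character attached to ω
  let ι : (↥(W₁ ⊔ W₂) →* ℂˣ) → Cfsg.IrrCharacter G := fun ω =>
    if h : Cfsg.IsIrrCharacter G (χ ω) then ⟨χ ω, h⟩
    else ⟨-χ ω, (hχ.irr_or_neg ω).resolve_left h⟩
  have hι : ∀ ω, ((ι ω : Cfsg.IrrCharacter G) : G → ℂ) = χ ω ∨
      ((ι ω : Cfsg.IrrCharacter G) : G → ℂ) = -χ ω := by
    intro ω
    by_cases h : Cfsg.IsIrrCharacter G (χ ω)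
    · left; simp only [ι, dif_pos h]
    · right; simp only [ι, dif_neg h]
  have hself : ∀ ω, Cfsg.classInner (χ ω) (χ ω) = 1 := by
    intro ω
    have := hχ.orthonormal ω ω
    simpa using this
  have hι_inj : Function.Injective ι := by
    intro ω ω' h
    by_contra hne
    have h0 : Cfsg.classInner (χ ω) (χ ω') = 0 := by
      have := hχ.orthonormal ω ω'
      rwa [if_neg hne] at this
    have hfun : ((ι ω : Cfsg.IrrCharacter G) : G → ℂ) = ((ι ω' : Cfsg.IrrCharacter G) : G → ℂ) := by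
      rw [h]
    rcases hι ω with e | e <;> rcases hι ω' with e' | e'
    · have : χ ω = χ ω' := by rw [← e, ← e', hfun]
      rw [this, hself] at h0
      exact one_ne_zero h0
    · have : χ ω = -χ ω' := by rw [← e, ← e', hfun]
      have h2 : Cfsg.classInner (χ ω) (χ ω') = -1 := by
        rw [this]
        have : -χ ω' = (-1 : ℂ) • χ ω' := by simp
        rw [this, classInner_smul_left, hself]; simp
      rw [h2] at h0
      norm_num at h0
    · have : χ ω = -χ ω' := by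
        have : -χ ω = χ ω' := by rw [← e, ← e', hfun]
        rw [← this]; simp
      have h2 : Cfsg.classInner (χ ω) (χ ω') = -1 := by
        rw [this]
        have : -χ ω' = (-1 : ℂ) • χ ω' := by simp
        rw [this, classInner_smul_left, hself]; simp
      rw [h2] at h0
      norm_num at h0
    · have : χ ω = χ ω' := by
        have : -χ ω = -χ ω' := by rw [← e, ← e', hfun]
        exact neg_injective this
      rw [this, hself] at h0
      exact one_ne_zero h0
  have hθι : ∀ ω, (⟨θ, hθ⟩ : Cfsg.IrrCharacter G) ≠ ι ω := by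
    intro ω h
    have hfun : θ = ((ι ω : Cfsg.IrrCharacter G) : G → ℂ) := congrArg Subtype.val h
    have h0 := horth ω
    rcases hι ω with e | e
    · rw [hfun, e, hself] at h0
      exact one_ne_zero h0
    · rw [hfun, e] at h0
      have : -χ ω = (-1 : ℂ) • χ ω := by simp
      rw [this, classInner_smul_left, hself] at h0
      norm_num at h0
  -- values at w
  have hval : ∀ ω, Complex.normSq (((ι ω : Cfsg.IrrCharacter G) : G → ℂ) w) = 1 := by
    intro ω
    have h1 : χ ω w = ((ω w : ℂˣ) : ℂ) := hχ.eq_on ω w hw₁ hw₂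
    have h2 := norm_hom_apply ω w
    rw [Complex.mul_conj] at h2
    have h3 : Complex.normSq ((ω w : ℂˣ) : ℂ) = 1 := by exact_mod_cast h2
    rcases hι ω with e | e
    · rw [e, h1, h3]
    · rw [e, Pi.neg_apply, Complex.normSq_neg, h1, h3]
  -- column orthogonality
  have hcol := column_orthogonality_self (G := G) (w : G)
  rw [hcent] at hcol
  have hcolR : ∑ ψ : Cfsg.IrrCharacter G, Complex.normSq ((ψ : G → ℂ) w) = (Nat.card ↥(W₁ ⊔ W₂) : ℝ) := by
    have : ∑ ψ : Cfsg.IrrCharacter G, ((Complex.normSq ((ψ : G → ℂ) w) : ℝ) : ℂ) =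
        ((Nat.card ↥(W₁ ⊔ W₂) : ℝ) : ℂ) := by
      have e : ((Nat.card ↥(W₁ ⊔ W₂) : ℝ) : ℂ) = (Nat.card ↥(W₁ ⊔ W₂) : ℂ) := by push_cast; rfl
      rw [e, ← hcol]
      apply Finset.sum_congr rfl
      intro ψ _
      rw [Complex.mul_conj]
    exact_mod_cast this
  -- the subset
  let T : Finset (Cfsg.IrrCharacter G) := Finset.univ.image ι
  have hθT : (⟨θ, hθ⟩ : Cfsg.IrrCharacter G) ∉ T := by
    intro h
    obtain ⟨ω, _, hω⟩ := Finset.mem_image.mp h
    exact hθι ω hω.symm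
  have hsumT : ∑ ψ ∈ T, Complex.normSq ((ψ : G → ℂ) w) = (Nat.card ↥(W₁ ⊔ W₂) : ℝ) := by
    rw [Finset.sum_image (fun a _ b _ h => hι_inj h)]
    simp_rw [hval]
    rw [Finset.sum_const, Finset.card_univ, nsmul_eq_mul, mul_one, ← Nat.card_eq_fintype_card, hcardHom]
  have hle : ∑ ψ ∈ insert (⟨θ, hθ⟩ : Cfsg.IrrCharacter G) T, Complex.normSq ((ψ : G → ℂ) w) ≤
      ∑ ψ : Cfsg.IrrCharacter G, Complex.normSq ((ψ : G → ℂ) w) := by
    apply Finset.sum_le_sum_of_subset_of_nonneg (Finset.subset_univ _)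
    intro ψ _ _
    exact Complex.normSq_nonneg _
  rw [Finset.sum_insert hθT, hsumT, hcolR] at hle
  have h0 : Complex.normSq (θ w) ≤ 0 := by linarith
  have h1 : Complex.normSq (θ w) = 0 := le_antisymm h0 (Complex.normSq_nonneg _)
  exact Complex.normSq_eq_zero.mp h1

end Cfsg.Agent.S1503
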