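import Cfsg.Statements.S1505
import Cfsg.Agent.Lib.Helper25_TIInd
import Cfsg.Agent.Lib.Helper25_CyclicTI
import Cfsg.Agent.Lib.Helper25_CyclicDual
import Cfsg.Agent.S1503

set_option autoImplicit false
set_option linter.style.haveILetI false
open Cfsg

namespace Cfsg.Agent.S1505

open Cfsg.Agent.Lib.Helper3_CharOrtho
open Cfsg.Agent.Lib.Helper25_CyclicTI
open Cfsg.Agent.Lib.Helper25_CyclicDual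
open Cfsg.Agent.Lib.Helper25_TIInd
open scoped ComplexConjugate

/-- The complex-valued function of a linear character. -/
noncomputable def cf {W : Type*} [Group W] (ω : W →* ℂˣ) : W → ℂ := fun w => ((ω w : ℂˣ) : ℂ)

theorem classInner_hom {W : Type*} [Group W] [Fintype W] (ω ω' : W →* ℂˣ) [Decidable (ω = ω')] :
    Cfsg.classInner (cf ω) (cf ω') = if ω = ω' then 1 else 0 := by
  classical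
  unfold Cfsg.classInner cf
  have hterm : ∀ w, ((ω w : ℂˣ) : ℂ) * conj ((ω' w : ℂˣ) : ℂ) =
      (((Units.coeHom ℂ).comp (ω * ω'⁻¹)) w) := by
    intro w
    have h := Cfsg.Agent.S1503.norm_hom_apply ω' w
    have h2 : conj ((ω' w : ℂˣ) : ℂ) = (((ω' w)⁻¹ : ℂˣ) : ℂ) := by
      rw [Units.val_inv_eq_inv_val]
      exact eq_inv_of_mul_eq_one_right h
    rw [h2]
    show _ = (((ω * ω'⁻¹) w : ℂˣ) : ℂ)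
    rw [MonoidHom.mul_apply, MonoidHom.inv_apply, Units.val_mul]
  have hsum : ∑ g : W, (fun w => ((ω w : ℂˣ) : ℂ)) g * conj ((fun w => ((ω' w : ℂˣ) : ℂ)) g) =
      ∑ g : W, (((Units.coeHom ℂ).comp (ω * ω'⁻¹)) g) :=
    Finset.sum_congr rfl (fun w _ => hterm w)
  rw [hsum]
  have hW : (Nat.card W : ℂ) ≠ 0 := by
    exact_mod_cast (Nat.card_pos (α := W)).ne'
  split_ifs with h
  · subst h
    have h1 : ∀ g : W, (((Units.coeHom ℂ).comp (ω * ω⁻¹)) g) = 1 := by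
      intro g
      have : ω * ω⁻¹ = 1 := mul_inv_cancel ω
      rw [this]
      rfl
    rw [Finset.sum_congr rfl (fun g _ => h1 g), Finset.sum_const, Finset.card_univ,
      nsmul_eq_mul, mul_one, ← Nat.card_eq_fintype_card]
    exact inv_mul_cancel₀ hW
  · rw [sum_hom_units_eq_zero, mul_zero]
    intro hcontra
    apply h
    have h3 : ω * ω'⁻¹ = 1 := by
      ext w
      have := DFunLike.congr_fun hcontra w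
      simpa using this
    exact mul_inv_eq_one.mp h3

variable {G : Type*} [Group G]

theorem classInner_prod [Finite G] (W₁ W₂ : Subgroup G) [Fintype ↥(W₁ ⊔ W₂)]
    (φ₁ ψ₁ φ₂ ψ₂ : ↥(W₁ ⊔ W₂) →* ℂˣ) [Decidable (φ₁ = φ₂ ∧ ψ₁ = ψ₂)]
    (hφ₁ : ∀ w : ↥(W₁ ⊔ W₂), (w : G) ∈ W₂ → φ₁ w = 1)
    (hφ₂ : ∀ w : ↥(W₁ ⊔ W₂), (w : G) ∈ W₂ → φ₂ w = 1)
    (hψ₁ : ∀ w : ↥(W₁ ⊔ W₂), (w : G) ∈ W₁ → ψ₁ w = 1)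
    (hψ₂ : ∀ w : ↥(W₁ ⊔ W₂), (w : G) ∈ W₁ → ψ₂ w = 1) :
    Cfsg.classInner (cf (φ₁ * ψ₁)) (cf (φ₂ * ψ₂)) =
      if (φ₁ = φ₂ ∧ ψ₁ = ψ₂) then 1 else 0 := by
  classical
  rw [classInner_hom]
  have : (φ₁ * ψ₁ = φ₂ * ψ₂) ↔ (φ₁ = φ₂ ∧ ψ₁ = ψ₂) := by
    constructor
    · exact mul_eq_mul W₁ W₂ φ₁ φ₂ ψ₁ ψ₂ hφ₁ hφ₂ hψ₁ hψ₂
    · rintro ⟨rfl, rfl⟩; rfl
  simp only [this]

theorem alpha_eq (W₁ W₂ : Subgroup G) (φ ψ : ↥(W₁ ⊔ W₂) →* ℂˣ) :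
    (fun w => 1 - (φ w : ℂ) - (ψ w : ℂ) + (φ w : ℂ) * (ψ w : ℂ)) =
      cf (1 * 1 : ↥(W₁ ⊔ W₂) →* ℂˣ) - cf (φ * 1) - cf (1 * ψ) + cf (φ * ψ) := by
  funext w
  simp [cf]

theorem inner_alpha [Finite G] (W₁ W₂ : Subgroup G) [Fintype ↥(W₁ ⊔ W₂)]
    (φ φ' ψ ψ' : ↥(W₁ ⊔ W₂) →* ℂˣ) [Decidable (φ = φ')] [Decidable (ψ = ψ')]
    (hφ : φ ≠ 1) (hφ' : φ' ≠ 1) (hψ : ψ ≠ 1) (hψ' : ψ' ≠ 1)
    (hφ₂ : ∀ w : ↥(W₁ ⊔ W₂), (w : G) ∈ W₂ → φ w = 1 ∧ φ' w = 1)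
    (hψ₁ : ∀ w : ↥(W₁ ⊔ W₂), (w : G) ∈ W₁ → ψ w = 1 ∧ ψ' w = 1) :
    Cfsg.classInner (fun w => 1 - (φ w : ℂ) - (ψ w : ℂ) + (φ w : ℂ) * (ψ w : ℂ))
      (fun w => 1 - (φ' w : ℂ) - (ψ' w : ℂ) + (φ' w : ℂ) * (ψ' w : ℂ)) =
      1 + (if φ = φ' then 1 else 0) + (if ψ = ψ' then 1 else 0) +
        (if φ = φ' then 1 else 0) * (if ψ = ψ' then 1 else 0) := by
  classical
  have h1a : ∀ w : ↥(W₁ ⊔ W₂), (w : G) ∈ W₂ → (1 : ↥(W₁ ⊔ W₂) →* ℂˣ) w = 1 := fun _ _ => rfl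
  have h1b : ∀ w : ↥(W₁ ⊔ W₂), (w : G) ∈ W₁ → (1 : ↥(W₁ ⊔ W₂) →* ℂˣ) w = 1 := fun _ _ => rfl
  have hp : ∀ w : ↥(W₁ ⊔ W₂), (w : G) ∈ W₂ → φ w = 1 := fun w hw => (hφ₂ w hw).1
  have hp' : ∀ w : ↥(W₁ ⊔ W₂), (w : G) ∈ W₂ → φ' w = 1 := fun w hw => (hφ₂ w hw).2
  have hs : ∀ w : ↥(W₁ ⊔ W₂), (w : G) ∈ W₁ → ψ w = 1 := fun w hw => (hψ₁ w hw).1
  have hs' : ∀ w : ↥(W₁ ⊔ W₂), (w : G) ∈ W₁ → ψ' w = 1 := fun w hw => (hψ₁ w hw).2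
  rw [alpha_eq, alpha_eq]
  simp only [classInner_add_left, classInner_sub_left, classInner_add_right, classInner_sub_right]
  rw [classInner_prod W₁ W₂ 1 1 1 1 h1a h1a h1b h1b,
    classInner_prod W₁ W₂ 1 1 φ' 1 h1a hp' h1b h1b,
    classInner_prod W₁ W₂ 1 1 1 ψ' h1a h1a h1b hs',
    classInner_prod W₁ W₂ 1 1 φ' ψ' h1a hp' h1b hs',
    classInner_prod W₁ W₂ φ 1 1 1 hp h1a h1b h1b,
    classInner_prod W₁ W₂ φ 1 φ' 1 hp hp' h1b h1b,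
    classInner_prod W₁ W₂ φ 1 1 ψ' hp h1a h1b hs',
    classInner_prod W₁ W₂ φ 1 φ' ψ' hp hp' h1b hs',
    classInner_prod W₁ W₂ 1 ψ 1 1 h1a h1a hs h1b,
    classInner_prod W₁ W₂ 1 ψ φ' 1 h1a hp' hs h1b,
    classInner_prod W₁ W₂ 1 ψ 1 ψ' h1a h1a hs hs',
    classInner_prod W₁ W₂ 1 ψ φ' ψ' h1a hp' hs hs',
    classInner_prod W₁ W₂ φ ψ 1 1 hp h1a hs h1b,
    classInner_prod W₁ W₂ φ ψ φ' 1 hp hp' hs h1b,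
    classInner_prod W₁ W₂ φ ψ 1 ψ' hp h1a hs hs',
    classInner_prod W₁ W₂ φ ψ φ' ψ' hp hp' hs hs']
  have e1 : ¬ ((1 : ↥(W₁ ⊔ W₂) →* ℂˣ) = φ') := fun h => hφ' h.symm
  have e2 : ¬ ((1 : ↥(W₁ ⊔ W₂) →* ℂˣ) = ψ') := fun h => hψ' h.symm
  by_cases ha : φ = φ' <;> by_cases hb : ψ = ψ' <;>
    simp [ha, hb, hφ, hψ, hφ', hψ', e1, e2]

open Classical in
theorem result {G : Type*} [Group G] [Fintype G] (W₁ W₂ : Subgroup G) (hW : Cfsg.IsSelfNormalizingCyclic W₁ W₂) (φ φ' ψ ψ' : ↥(W₁ ⊔ W₂) →* ℂˣ) (hφ : φ ≠ 1) (hφ' : φ' ≠ 1) (hψ : ψ ≠ 1) (hψ' : ψ' ≠ 1) (hφ₂ : ∀ w : ↥(W₁ ⊔ W₂), (w : G) ∈ W₂ → φ w = 1 ∧ φ' w = 1) (hψ₁ : ∀ w : ↥(W₁ ⊔ W₂), (w : G) ∈ W₁ → ψ w = 1 ∧ ψ' w = 1) : Cfsg.classInner (Cfsg.indFun (W₁ ⊔ W₂) (fun w => 1 - (φ w : ℂ) - (ψ w : ℂ) + (φ w : ℂ) * (ψ w : ℂ))) (fun _ => 1) = 1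 ∧ Cfsg.classInner (Cfsg.indFun (W₁ ⊔ W₂) (fun w => 1 - (φ w : ℂ) - (ψ w : ℂ) + (φ w : ℂ) * (ψ w : ℂ))) (Cfsg.indFun (W₁ ⊔ W₂) (fun w => 1 - (φ' w : ℂ) - (ψ' w : ℂ) + (φ' w : ℂ) * (ψ' w : ℂ))) = 1 + (if φ = φ' then 1 else 0) + (if ψ = ψ' then 1 else 0) + (if φ = φ' then 1 else 0) * (if ψ = ψ' then 1 else 0) := by
  have h1a : ∀ w : ↥(W₁ ⊔ W₂), (w : G) ∈ W₂ → (1 : ↥(W₁ ⊔ W₂) →* ℂˣ) w = 1 := fun _ _ => rfl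
  have h1b : ∀ w : ↥(W₁ ⊔ W₂), (w : G) ∈ W₁ → (1 : ↥(W₁ ⊔ W₂) →* ℂˣ) w = 1 := fun _ _ => rfl
  have hp : ∀ w : ↥(W₁ ⊔ W₂), (w : G) ∈ W₂ → φ w = 1 := fun w hw => (hφ₂ w hw).1
  have hp' : ∀ w : ↥(W₁ ⊔ W₂), (w : G) ∈ W₂ → φ' w = 1 := fun w hw => (hφ₂ w hw).2
  have hs : ∀ w : ↥(W₁ ⊔ W₂), (w : G) ∈ W₁ → ψ w = 1 := fun w hw => (hψ₁ w hw).1
  have hs' : ∀ w : ↥(W₁ ⊔ W₂), (w : G) ∈ W₁ → ψ' w = 1 := fun w hw => (hψ₁ w hw).2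
  constructor
  · rw [Cfsg.Agent.S0146.result (W₁ ⊔ W₂) _ (fun _ => 1) (fun _ _ => rfl)]
    have hone : (fun _ : ↥(W₁ ⊔ W₂) => (1 : ℂ)) = cf (1 * 1 : ↥(W₁ ⊔ W₂) →* ℂˣ) := by
      funext w; simp [cf]
    rw [alpha_eq, hone]
    simp only [classInner_add_left, classInner_sub_left]
    rw [classInner_prod W₁ W₂ 1 1 1 1 h1a h1a h1b h1b,
      classInner_prod W₁ W₂ φ 1 1 1 hp h1a h1b h1b,
      classInner_prod W₁ W₂ 1 ψ 1 1 h1a h1a hs h1b,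
      classInner_prod W₁ W₂ φ ψ 1 1 hp h1a hs h1b]
    simp [hφ, hψ]
  · rw [Cfsg.Agent.S0146.result (W₁ ⊔ W₂) _ _
      (Cfsg.Agent.Lib.Helper75_Induced.isClassFunction_indFun _ _)]
    refine Eq.trans ?_ (inner_alpha W₁ W₂ φ φ' ψ ψ' hφ hφ' hψ hψ' hφ₂ hψ₁)
    unfold Cfsg.classInner
    congr 1
    apply Finset.sum_congr rfl
    intro w _
    beta_reduce
    by_cases hw : (w : G) ∈ W₁ ∨ (w : G) ∈ W₂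
    · have := alphaFun_eq_zero W₁ W₂ φ ψ hp hs w hw
      unfold alphaFun at this
      rw [this, zero_mul, zero_mul]
    · have hw1 : (w : G) ∉ W₁ := fun h => hw (Or.inl h)
      have hw2 : (w : G) ∉ W₂ := fun h => hw (Or.inr h)
      have hz : ∀ v : ↥(W₁ ⊔ W₂), ((v : G) ∈ W₁ ∨ (v : G) ∈ W₂) →
          (fun w : ↥(W₁ ⊔ W₂) => 1 - (φ' w : ℂ) - (ψ' w : ℂ) + (φ' w : ℂ) * (ψ' w : ℂ)) v = 0 := by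
        intro v hv
        have := alphaFun_eq_zero W₁ W₂ φ' ψ' hp' hs' v hv
        unfold alphaFun at this
        exact this
      rw [indFun_apply_of_TI W₁ W₂ hW _ hz w hw1 hw2]

end Cfsg.Agent.S1505
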