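-- Statement S4503 (Brauer's `(p - 1) / 2` bound).  Proof: induction on the group order reduces to the
-- core case (`Helper3_Brauer503R.pkr`); the core case (`Helper3_Brauer503C.core`) combines the
-- principal-block package `Helper78_Brauer503X.pkx` (helper78), the local package
-- `Helper16_SmallDeg.pk_local` (helper16) and the counting argument `Helper3_Brauer503F.pkf3`
-- (paper proof: helper15, finding 129).
import Cfsg.Statements.S4503
import Cfsg.Agent.Lib.Helper3_Brauer503R
import Cfsg.Agent.Lib.Helper3_Brauer503C

set_option autoImplicit false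
open Cfsg

namespace Cfsg.Agent.S4503

/-- Let G be a finite group whose order is divisible by the prime p exactly once and which has no normal subgroup of order p. Then every faithful character χ of G has degree at least (p − 1)/2: 2·χ(1) + 1 ≥ p. -/
theorem result {G : Type*} [Group G] [Finite G] (p : ℕ) (hp : p.Prime) (hdiv : p ∣ Nat.card G) (hsq : ¬ p ^ 2 ∣ Nat.card G) (hnn : ∀ H : Subgroup G, H.Normal → Nat.card H ≠ p) (χ : G → ℂ) (hχ : Cfsg.IsCharacter G χ) (hfaith : ∀ g : G, χ g = χ 1 → g = 1) : p ≤ 2 * Cfsg.charDegree χ + 1 :=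
  Cfsg.Agent.Lib.Helper3_Brauer503R.pkr Cfsg.Agent.Lib.Helper3_Brauer503C.core p hp hdiv hsq hnn χ hχ
    hfaith

end Cfsg.Agent.S4503
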