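import Cfsg.Statements.S1003
import Cfsg.Agent.Lib.Helper17_Sylow
-- import your own Cfsg.Agent.* helpers here

set_option autoImplicit false
open Cfsg

namespace Cfsg.Agent.S1003

open Cfsg.Agent.Lib.Helper17_Sylow Subgroup

instance fact_prime_seven : Fact (Nat.Prime 7) := ⟨by norm_num⟩

/-- In a simple group of order 168, `n₇ = 8`. -/
theorem card_sylow_seven {G : Type*} [Group G] [Finite G] [IsSimpleGroup G]
    (h : Nat.card G = 168) : Nat.card (Sylow 7 G) = 8 := by
  have hG : Nat.card G = 7 ^ 1 * 24 := by rw [h]; norm_num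
  have hm : ¬ 7 ∣ 24 := by norm_num
  have h1 := card_sylow_mem_candidates hG hm
  have h2 := one_lt_card_sylow_of_card hG hm (by norm_num) (by norm_num)
  have : sylowCandidates 7 24 = [1, 8] := by decide
  rw [this] at h1
  simp at h1
  omega

/-- If `Q` is a Sylow `q`-subgroup contained in a subgroup `N`, `P ≤ N`, and the map
`P → Syl_q`, `g ↦ g • Q` is surjective, then all Sylow `q`-subgroups are in `N`;
so for simple `G` we get `N = ⊤` unless `Q = ⊥`. -/
theorem eq_top_of_all_sylow_le {G : Type*} [Group G] [IsSimpleGroup G] {q : ℕ}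
    (N : Subgroup G) (Q : Sylow q G) (hQ : (Q : Subgroup G) ≠ ⊥)
    (hall : ∀ R : Sylow q G, (R : Subgroup G) ≤ N) : N = ⊤ := by
  have hle : normalClosure ((Q : Subgroup G) : Set G) ≤ N := by
    unfold normalClosure
    rw [closure_le]
    intro x hx
    rw [Group.mem_conjugatesOfSet_iff] at hx
    obtain ⟨y, hy, hxy⟩ := hx
    rw [isConj_iff] at hxy
    obtain ⟨c, rfl⟩ := hxy
    apply hall (c • Q)
    rw [Sylow.coe_subgroup_smul, Subgroup.mem_pointwise_smul_iff_inv_smul_mem]
    have : (MulAut.conj c)⁻¹ • (c * y * c⁻¹) = y := by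
      rw [← map_inv, MulAut.smul_def, MulAut.conj_apply]
      group
    rw [this]
    exact hy
  have hn : (normalClosure ((Q : Subgroup G) : Set G)).Normal := normalClosure_normal
  rcases hn.eq_bot_or_eq_top with h0 | h0
  · exfalso
    apply hQ
    rw [eq_bot_iff, ← h0]
    exact le_normalClosure
  · rw [h0] at hle
    exact top_le_iff.mp hle

/-- An element of a subgroup of order `a` that lies in a subgroup of order `b`, with
`a`, `b` coprime, is trivial. -/
theorem eq_one_of_mem_of_coprime {G : Type*} [Group G] [Finite G] (A B : Subgroup G) {a b : ℕ}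
    (hA : Nat.card A = a) (hB : Nat.card B = b) (hab : Nat.Coprime a b) (z : G)
    (hzA : z ∈ A) (hzB : z ∈ B) : z = 1 := by
  have h1 : orderOf z ∣ a := by
    rw [← hA]
    have := orderOf_dvd_natCard (⟨z, hzA⟩ : A)
    rwa [Subgroup.orderOf_mk] at this
  have h2 : orderOf z ∣ b := by
    rw [← hB]
    have := orderOf_dvd_natCard (⟨z, hzB⟩ : B)
    rwa [Subgroup.orderOf_mk] at this
  have h3 : orderOf z ∣ 1 := by
    rw [← Nat.Coprime.gcd_eq_one hab]
    exact Nat.dvd_gcd h1 h2
  exact orderOf_eq_one_iff.mp (Nat.dvd_one.mp h3)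

/-- In a simple group of order 168, `n₃ = 28`. -/
theorem card_sylow_three {G : Type*} [Group G] [Finite G] [IsSimpleGroup G]
    (h : Nat.card G = 168) : Nat.card (Sylow 3 G) = 28 := by
  have hG : Nat.card G = 3 ^ 1 * 56 := by rw [h]; norm_num
  have hm : ¬ 3 ∣ 56 := by norm_num
  have h1 := card_sylow_mem_candidates hG hm
  have h2 := one_lt_card_sylow_of_card hG hm (by norm_num) (by norm_num)
  have h3 := card_dvd_factorial_card_sylow h2
  have hc : sylowCandidates 3 56 = [1, 4, 7, 28] := by decide
  rw [hc] at h1
  simp only [List.mem_cons, List.not_mem_nil, or_false] at h1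
  rcases h1 with h1 | h1 | h1 | h1
  · omega
  · exfalso
    rw [h1, h] at h3
    revert h3
    decide
  · exfalso
    have hG7 : Nat.card G = 7 ^ 1 * 24 := by rw [h]; norm_num
    have hm7 : ¬ 7 ∣ 24 := by norm_num
    obtain ⟨P⟩ : Nonempty (Sylow 7 G) := inferInstance
    have hP : Nat.card (P : Subgroup G) = 7 := by
      simpa using card_sylow_eq_pow hG7 hm7 P
    have hNcard : Nat.card (normalizer ((P : Subgroup G) : Set G)) = 21 := by
      have := card_normalizer_mul_card_sylow P
      rw [card_sylow_seven h, h] at this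
      omega
    obtain ⟨y, hy⟩ := exists_prime_orderOf_dvd_card'
      (G := normalizer ((P : Subgroup G) : Set G)) 3 (by rw [hNcard]; norm_num)
    have hy' : orderOf (y : G) = 3 := by rw [Subgroup.orderOf_coe, hy]
    have hpg : IsPGroup 3 (zpowers (y : G)) := by
      apply IsPGroup.of_card (n := 1)
      rw [Nat.card_zpowers, hy', pow_one]
    obtain ⟨Q, hQ⟩ := hpg.exists_le_sylow
    have hQcard : Nat.card (Q : Subgroup G) = 3 := by
      simpa using card_sylow_eq_pow hG hm Q
    have hQeq : (Q : Subgroup G) = zpowers (y : G) :=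
      sylow_eq_zpowers Q hQcard y (hQ (mem_zpowers _)) hy'
    have hQN : (Q : Subgroup G) ≤ normalizer ((P : Subgroup G) : Set G) := by
      rw [hQeq, zpowers_le]
      exact y.2
    have hNQcard : Nat.card (normalizer ((Q : Subgroup G) : Set G)) = 24 := by
      have := card_normalizer_mul_card_sylow Q
      rw [h1, h] at this
      omega
    -- the map `P → Syl₃`, `g ↦ g • Q` is injective, hence bijective
    have hinj : Function.Injective (fun g : (P : Subgroup G) => (g : G) • Q) := by
      intro g g' hgg
      simp only at hgg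
      have h4 : ((g' : G)⁻¹ * (g : G)) • Q = Q := by
        rw [mul_smul, hgg, inv_smul_smul]
      rw [smul_eq_iff_mem_normalizer'] at h4
      have h5 : (g' : G)⁻¹ * (g : G) ∈ (P : Subgroup G) :=
        (P : Subgroup G).mul_mem ((P : Subgroup G).inv_mem g'.2) g.2
      have h6 := eq_one_of_mem_of_coprime _ _ hP hNQcard (by norm_num) _ h5 h4
      apply Subtype.ext
      rw [inv_mul_eq_one] at h6
      exact h6.symm
    have hbij := hinj.bijective_of_nat_card_le (by rw [h1, hP])
    have hall : ∀ R : Sylow 3 G, (R : Subgroup G) ≤ normalizer ((P : Subgroup G) : Set G) := by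
      intro R
      obtain ⟨g, hg⟩ := hbij.2 R
      simp only at hg
      rw [← hg]
      intro x hx
      rw [Sylow.coe_subgroup_smul, Subgroup.mem_pointwise_smul_iff_inv_smul_mem,
        ← map_inv, MulAut.smul_def, MulAut.conj_apply, inv_inv] at hx
      have hgN : (g : G) ∈ normalizer ((P : Subgroup G) : Set G) := le_normalizer g.2
      have h7 := (normalizer ((P : Subgroup G) : Set G)).mul_mem
        ((normalizer ((P : Subgroup G) : Set G)).mul_mem hgN (hQN hx))
        ((normalizer ((P : Subgroup G) : Set G)).inv_mem hgN)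
      have h8 : (g : G) * ((g : G)⁻¹ * x * (g : G)) * (g : G)⁻¹ = x := by group
      rwa [h8] at h7
    have hQbot : (Q : Subgroup G) ≠ ⊥ := by
      intro hb
      rw [hb, Subgroup.card_bot] at hQcard
      omega
    have htop := eq_top_of_all_sylow_le _ Q hQbot hall
    rw [htop, Subgroup.card_top, h] at hNcard
    omega
  · exact h1

/-- In a simple group of order 168, `n₂ = 21`. -/
theorem card_sylow_two {G : Type*} [Group G] [Finite G] [IsSimpleGroup G]
    (h : Nat.card G = 168) : Nat.card (Sylow 2 G) = 21 := by
  have hG : Nat.card G = 2 ^ 3 * 21 := by rw [h]; norm_num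
  have hm : ¬ 2 ∣ 21 := by norm_num
  have h1 := card_sylow_mem_candidates hG hm
  have h2 := one_lt_card_sylow_of_card hG hm (by norm_num) (by norm_num)
  have h3 := card_dvd_factorial_card_sylow h2
  have hc : sylowCandidates 2 21 = [1, 3, 7, 21] := by decide
  rw [hc] at h1
  simp only [List.mem_cons, List.not_mem_nil, or_false] at h1
  rcases h1 with h1 | h1 | h1 | h1
  · omega
  · exfalso
    rw [h1, h] at h3
    revert h3
    decide
  · exfalso
    classical
    have hG3 : Nat.card G = 3 ^ 1 * 56 := by rw [h]; norm_num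
    have hm3 : ¬ 3 ∣ 56 := by norm_num
    obtain ⟨T⟩ : Nonempty (Sylow 2 G) := inferInstance
    have hT : Nat.card (T : Subgroup G) = 8 := by
      simpa using card_sylow_eq_pow hG hm T
    have hNcard : Nat.card (normalizer ((T : Subgroup G) : Set G)) = 24 := by
      have := card_normalizer_mul_card_sylow T
      rw [h1, h] at this
      omega
    obtain ⟨y, hy⟩ := exists_prime_orderOf_dvd_card'
      (G := normalizer ((T : Subgroup G) : Set G)) 3 (by rw [hNcard]; norm_num)
    have hy' : orderOf (y : G) = 3 := by rw [Subgroup.orderOf_coe, hy]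
    have hpg : IsPGroup 3 (zpowers (y : G)) := by
      apply IsPGroup.of_card (n := 1)
      rw [Nat.card_zpowers, hy', pow_one]
    obtain ⟨Q, hQ⟩ := hpg.exists_le_sylow
    have hQcard : Nat.card (Q : Subgroup G) = 3 := by
      simpa using card_sylow_eq_pow hG3 hm3 Q
    have hQeq : (Q : Subgroup G) = zpowers (y : G) :=
      sylow_eq_zpowers Q hQcard y (hQ (mem_zpowers _)) hy'
    have hNQcard : Nat.card (normalizer ((Q : Subgroup G) : Set G)) = 6 := by
      have := card_normalizer_mul_card_sylow Q
      rw [card_sylow_three h, h] at this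
      omega
    -- no nontrivial element of `T` commutes with `y`
    have hfix : ∀ t : G, t ∈ (T : Subgroup G) → (y : G) * t * (y : G)⁻¹ = t → t = 1 := by
      intro t ht hty
      by_contra ht1
      have hcomm : Commute t (y : G) := by
        have : (y : G) * t = t * (y : G) := mul_inv_eq_iff_eq_mul.mp hty
        exact this.symm
      have hCN : centralizer ((Q : Subgroup G) : Set G) ≤ normalizer ((Q : Subgroup G) : Set G) :=
        centralizer_le_normalizer _
      have htC : t ∈ centralizer ((Q : Subgroup G) : Set G) := by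
        rw [hQeq]
        intro w hw
        obtain ⟨k, rfl⟩ := Subgroup.mem_zpowers_iff.mp hw
        exact ((hcomm.zpow_right k)).symm.eq
      have hyC : (y : G) ∈ centralizer ((Q : Subgroup G) : Set G) := by
        rw [hQeq]
        intro w hw
        obtain ⟨k, rfl⟩ := Subgroup.mem_zpowers_iff.mp hw
        exact ((Commute.refl (y : G)).zpow_right k).symm.eq
      have h3C : 3 ∣ Nat.card (centralizer ((Q : Subgroup G) : Set G)) := by
        have := orderOf_dvd_natCard (⟨(y : G), hyC⟩ : centralizer ((Q : Subgroup G) : Set G))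
        rwa [Subgroup.orderOf_mk, hy'] at this
      have h2C : 2 ∣ Nat.card (centralizer ((Q : Subgroup G) : Set G)) := by
        have hdvd := orderOf_dvd_natCard (⟨t, htC⟩ : centralizer ((Q : Subgroup G) : Set G))
        rw [Subgroup.orderOf_mk] at hdvd
        have h8 : orderOf t ∣ 2 ^ 3 := by
          have := orderOf_dvd_natCard (⟨t, ht⟩ : (T : Subgroup G))
          rw [Subgroup.orderOf_mk, hT] at this
          simpa using this
        obtain ⟨j, hj, hoj⟩ := (Nat.dvd_prime_pow Nat.prime_two).mp h8
        have hj0 : j ≠ 0 := by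
          intro hj0
          rw [hj0, pow_zero, orderOf_eq_one_iff] at hoj
          exact ht1 hoj
        have : 2 ∣ orderOf t := by
          rw [hoj]
          exact dvd_pow_self 2 hj0
        exact this.trans hdvd
      have h6C : 6 ∣ Nat.card (centralizer ((Q : Subgroup G) : Set G)) := by omega
      have hC6 : Nat.card (centralizer ((Q : Subgroup G) : Set G)) ∣ 6 := by
        rw [← hNQcard]
        exact Subgroup.card_dvd_of_le hCN
      have hCeq : Nat.card (centralizer ((Q : Subgroup G) : Set G)) = 6 :=
        Nat.dvd_antisymm hC6 h6C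
      have hNC : normalizer ((Q : Subgroup G) : Set G) ≤ centralizer ((Q : Subgroup G) : Set G) := by
        have := Subgroup.eq_of_le_of_card_ge hCN (by rw [hCeq, hNQcard])
        rw [this]
      rcases sylow_eq_bot_or_top_of_normalizer_le_centralizer Q hNC with hb | hb
      · rw [hb, Subgroup.card_bot] at hQcard
        omega
      · rw [hb, Subgroup.card_top, h] at hQcard
        omega
    -- conjugation by `y` on `T`
    have hyN : ∀ t : G, t ∈ (T : Subgroup G) → (y : G) * t * (y : G)⁻¹ ∈ (T : Subgroup G) := by
      intro t ht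
      exact (mem_normalizer_iff.mp y.2 t).mp ht
    let f : Function.End (T : Subgroup G) := fun t => ⟨(y : G) * t * (y : G)⁻¹, hyN t t.2⟩
    have hy3 : (y : G) ^ 3 = 1 := by rw [← hy', pow_orderOf_eq_one]
    have hf3 : f ^ 3 ^ 1 = 1 := by
      rw [pow_one]
      funext t
      apply Subtype.ext
      show (y : G) * ((y : G) * ((y : G) * t * (y : G)⁻¹) * (y : G)⁻¹) * (y : G)⁻¹ = t
      have key : ∀ z s : G, z ^ 3 = 1 → z * (z * (z * s * z⁻¹) * z⁻¹) * z⁻¹ = s := by
        intro z s hz
        have : z * (z * (z * s * z⁻¹) * z⁻¹) * z⁻¹ = z ^ 3 * s * (z ^ 3)⁻¹ := by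
          simp only [pow_succ, pow_zero, one_mul, mul_inv_rev, mul_assoc]
        rw [this, hz]
        simp
      exact key _ _ hy3
    have := Fintype.ofFinite (T : Subgroup G)
    have hmod := Equiv.Perm.card_fixedPoints_modEq (p := 3) (n := 1) hf3
    have hfp : Function.fixedPoints f = {1} := by
      ext t
      simp only [Set.mem_singleton_iff]
      constructor
      · intro hft
        have := hfix t t.2 (congrArg Subtype.val hft)
        exact Subtype.ext this
      · rintro rfl
        apply Subtype.ext
        show (y : G) * 1 * (y : G)⁻¹ = 1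
        simp
    rw [← Nat.card_eq_fintype_card, ← Nat.card_eq_fintype_card, hT] at hmod
    have hone : Nat.card (Function.fixedPoints f) = 1 := by
      rw [hfp]
      simp
    rw [hone] at hmod
    revert hmod
    decide
  · exact h1

/-- A simple group of order 168 has exactly 21 Sylow 2-subgroups, 28 Sylow 3-subgroups and 8 Sylow 7-subgroups. -/
theorem result {G : Type*} [Group G] [Finite G] [IsSimpleGroup G] (h : Nat.card G = 168) : Nat.card (Sylow 2 G) = 21 ∧ Nat.card (Sylow 3 G) = 28 ∧ Nat.card (Sylow 7 G) = 8 := by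
  exact ⟨card_sylow_two h, card_sylow_three h, card_sylow_seven h⟩

end Cfsg.Agent.S1003
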