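import Cfsg.Statements.S2582
import Cfsg.Agent.Lib.Helper43_UnipIsom
import Cfsg.Agent.Lib.Helper43_SympJordan
import Cfsg.Agent.Lib.Helper43_JordanMatrix
import Cfsg.Agent.Lib.Helper40_SpConj

set_option autoImplicit false
open Cfsg

namespace Cfsg.Agent.S2582

open Matrix Module
open Cfsg.Agent.Lib.Helper43_Jordan Cfsg.Agent.Lib.Helper43_UnipIsom
open Cfsg.Agent.Lib.Helper43_SympJordan Cfsg.Agent.Lib.Helper43_JordanMatrix
open Cfsg.Agent.Lib.Helper40_SpMatrix Cfsg.Agent.Lib.Helper40_SpBasic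

theorem count_eq {t : ℕ} (d : Fin t → ℕ) (j : ℕ) :
    Multiset.count j (Multiset.map d Finset.univ.val) =
      (Finset.univ.filter (fun k : Fin t => d k = j)).card := by
  rw [count_map_eq_blockCount, blockCount, Fintype.card_subtype]

theorem isNilpotent_of_conj {F V V' : Type*} [Field F] [AddCommGroup V] [Module F V]
    [AddCommGroup V'] [Module F V'] (ψ : V ≃ₗ[F] V') (N : End F V) (N' : End F V')
    (h : ∀ x, ψ (N x) = N' (ψ x)) (hN : IsNilpotent N) : IsNilpotent N' := by
  obtain ⟨n, hn⟩ := hN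
  refine ⟨n, ?_⟩
  have hpow : ∀ (k : ℕ) (x : V), ψ ((N ^ k) x) = (N' ^ k) (ψ x) := by
    intro k
    induction k with
    | zero => intro x; simp
    | succ k ih =>
      intro x
      rw [pow_succ', pow_succ', Module.End.mul_apply, Module.End.mul_apply, h, ih]
  apply LinearMap.ext
  intro y
  obtain ⟨x, rfl⟩ := ψ.surjective y
  rw [← hpow, hn, LinearMap.zero_apply, map_zero, LinearMap.zero_apply]

/-- Which unipotent Jordan types occur in the finite symplectic group: over a finite field, a unipotent matrix with Jordan block sizes d_1, …, d_t (sum 2m, all at least 1) is similar to an element of Sp_2m(F) if and only if every odd block size occurs an even number of times. -/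
theorem result {F : Type*} [Field F] [Fintype F] {m t : ℕ} (d : Fin t → ℕ) (hd : ∀ k, 1 ≤ d k) (hsum : ∑ k, d k = 2 * m) : (∃ e : ((k : Fin t) × Fin (d k)) ≃ (Fin m ⊕ Fin m), ∃ A : Matrix.symplecticGroup (Fin m) F, IsConj (Matrix.reindex e e (Cfsg.jordanTypeMatrix d F)) (A : Matrix (Fin m ⊕ Fin m) (Fin m ⊕ Fin m) F)) ↔ ∀ j : ℕ, Odd j → Even (Finset.univ.filter (fun k : Fin t => d k = j)).card := by
  classical
  have hcardI : Fintype.card ((k : Fin t) × Fin (d k)) = Fintype.card (Fin m ⊕ Fin m) := by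
    rw [Fintype.card_sigma, Fintype.card_sum, Fintype.card_fin]
    simp only [Fintype.card_fin]
    rw [hsum, two_mul]
  have hjU : jtype (Matrix.toLin' (Cfsg.jordanTypeMatrix d F - 1)) =
      Multiset.map d Finset.univ.val := jtype_jordanType d hd
  have hnilU : IsNilpotent (Matrix.toLin' (Cfsg.jordanTypeMatrix d F - 1)) :=
    isNilpotent_jordanType d
  constructor
  · rintro ⟨e, A, hconj⟩ j hj
    obtain ⟨ψ, hψ⟩ := exists_equiv_of_isConj e (Cfsg.jordanTypeMatrix d F)
      (A : Matrix (Fin m ⊕ Fin m) (Fin m ⊕ Fin m) F) hconj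
    rw [sub_one_intertwine] at hψ
    have hdata : IsomData (Jform m F)
        (Matrix.toLin' (A : Matrix (Fin m ⊕ Fin m) (Fin m ⊕ Fin m) F))
        (Matrix.toLin' ((A⁻¹ : Matrix.symplecticGroup (Fin m) F) :
          Matrix (Fin m ⊕ Fin m) (Fin m ⊕ Fin m) F)) := by
      refine ⟨?_, ?_, ?_⟩
      · intro x y
        rw [Jform_comp, SymplecticGroup.mem_iff'.1 A.2]
        rfl
      · rw [Module.End.mul_eq_comp, ← Matrix.toLin'_mul, ← Submonoid.coe_mul, mul_inv_cancel,
          Submonoid.coe_one, Matrix.toLin'_one]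
        rfl
      · rw [Module.End.mul_eq_comp, ← Matrix.toLin'_mul, ← Submonoid.coe_mul, inv_mul_cancel,
          Submonoid.coe_one, Matrix.toLin'_one]
        rfl
    have hsub : Matrix.toLin' (A : Matrix (Fin m ⊕ Fin m) (Fin m ⊕ Fin m) F) - 1 =
        Matrix.toLin' ((A : Matrix (Fin m ⊕ Fin m) (Fin m ⊕ Fin m) F) - 1) := by
      rw [map_sub, Matrix.toLin'_one]
      rfl
    have hnilA : IsNilpotent
        (Matrix.toLin' ((A : Matrix (Fin m ⊕ Fin m) (Fin m ⊕ Fin m) F) - 1)) :=
      isNilpotent_of_conj ψ _ _ hψ hnilU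
    have hjA : jtype (Matrix.toLin' ((A : Matrix (Fin m ⊕ Fin m) (Fin m ⊕ Fin m) F) - 1)) =
        Multiset.map d Finset.univ.val := by
      rw [← hjU]
      exact ((jtype_eq_iff _ hnilU _ hnilA).2 ⟨ψ, hψ⟩).symm
    have := even_count_jtype_of_alt hdata Jform_nondeg (fun x => Jform_alt x)
      (by rw [hsub]; exact hnilA) j hj
    rw [hsub, hjA, count_eq] at this
    exact this
  · intro hcnt
    have hreal : Realizable F (Multiset.map d Finset.univ.val) := by
      apply realizable_of_counts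
      · intro a ha
        rw [Multiset.mem_map] at ha
        obtain ⟨k, -, rfl⟩ := ha
        exact hd k
      · intro j hj
        rw [count_eq]
        exact hcnt j hj
    obtain ⟨V, _, _, _, ω, g, halt, hnd, hiso, hnil, hjt⟩ := hreal
    have hdimV : finrank F V = 2 * m := by
      rw [← jtype_sum (g - 1) hnil, hjt, ← hsum]
      rfl
    have hdimW : finrank F (Fin m ⊕ Fin m → F) = 2 * m := by
      rw [Module.finrank_fintype_fun_eq_card, Fintype.card_sum, Fintype.card_fin, two_mul]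
    obtain ⟨φ, -, hφ⟩ := Cfsg.Agent.Lib.Helper40_SpConj.exists_isometry_conj (F := F) (2 * m)
      ω (Jform m F) (1 : End F V) (1 : End F (Fin m ⊕ Fin m → F)) 1 hdimV
      ⟨halt, fun _ _ => rfl, pow_one 1, one_pos⟩
      ⟨Jform_alt, fun _ _ => rfl, pow_one 1, one_pos⟩ hnd Jform_nondeg
      Module.End.isSemisimple_id Module.End.isSemisimple_id
      (by rw [LinearMap.charpoly_one, LinearMap.charpoly_one, hdimV, hdimW])
    let g₂ : End F (Fin m ⊕ Fin m → F) := φ.conj g
    have hg₂ : ∀ x, g₂ x = φ (g (φ.symm x)) := fun x => rfl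
    let A₀ : Matrix (Fin m ⊕ Fin m) (Fin m ⊕ Fin m) F := LinearMap.toMatrix' g₂
    have hA₀ : Matrix.toLin' A₀ = g₂ := Matrix.toLin'_toMatrix' _
    have hmem : A₀ ∈ Matrix.symplecticGroup (Fin m) F := by
      rw [SymplecticGroup.mem_iff']
      apply Matrix.toBilin'.injective
      apply LinearMap.ext
      intro x
      apply LinearMap.ext
      intro y
      rw [← Jform_comp, hA₀, hg₂, hg₂, hφ, hiso, ← hφ, LinearEquiv.apply_symm_apply,
        LinearEquiv.apply_symm_apply]
      rfl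
    have hint : ∀ w, φ ((g - 1) w) = Matrix.toLin' (A₀ - 1) (φ w) := by
      intro w
      rw [map_sub, Matrix.toLin'_one, hA₀, LinearMap.sub_apply, LinearMap.sub_apply, hg₂,
        LinearEquiv.symm_apply_apply, map_sub]
      rfl
    have hnilA : IsNilpotent (Matrix.toLin' (A₀ - 1)) := isNilpotent_of_conj φ _ _ hint hnil
    have hjA : jtype (Matrix.toLin' (Cfsg.jordanTypeMatrix d F - 1)) =
        jtype (Matrix.toLin' (A₀ - 1)) := by
      rw [hjU, ← hjt]
      exact (jtype_eq_iff _ hnil _ hnilA).2 ⟨φ, hint⟩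
    obtain ⟨ψ, hψ⟩ := (jtype_eq_iff _ hnilU _ hnilA).1 hjA
    exact ⟨Fintype.equivOfCardEq hcardI, ⟨A₀, hmem⟩,
      isConj_of_equiv _ _ A₀ ψ ((sub_one_intertwine _ A₀ ψ).2 hψ)⟩

end Cfsg.Agent.S2582
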