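import Cfsg.Statements.S0722
import Mathlib.Tactic.Group

set_option autoImplicit false
open Cfsg

namespace Cfsg.Agent.S0722

/-- If `K` normalizes `X`, every element of `K ⊔ X` is a product `k * x`. -/
theorem mem_sup_of_le_normalizer {G : Type*} [Group G] (K X : Subgroup G)
    (h : K ≤ Subgroup.normalizer (X : Set G)) (g : G) (hg : g ∈ K ⊔ X) :
    ∃ k ∈ K, ∃ x ∈ X, g = k * x := by
  rw [Subgroup.sup_eq_closure] at hg
  induction hg using Subgroup.closure_induction with
  | mem y hy =>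
    rcases hy with hy | hy
    · exact ⟨y, hy, 1, X.one_mem, by simp⟩
    · exact ⟨1, K.one_mem, y, hy, by simp⟩
  | one => exact ⟨1, K.one_mem, 1, X.one_mem, by simp⟩
  | mul a b _ _ iha ihb =>
    obtain ⟨k₁, hk₁, x₁, hx₁, rfl⟩ := iha
    obtain ⟨k₂, hk₂, x₂, hx₂, rfl⟩ := ihb
    refine ⟨k₁ * k₂, K.mul_mem hk₁ hk₂, (k₂⁻¹ * x₁ * k₂⁻¹⁻¹) * x₂, X.mul_mem ?_ hx₂, by group⟩
    exact (Subgroup.mem_normalizer_iff.mp (h (K.inv_mem hk₂)) x₁).mp hx₁
  | inv a _ iha =>
    obtain ⟨k, hk, x, hx, rfl⟩ := iha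
    refine ⟨k⁻¹, K.inv_mem hk, k * x⁻¹ * k⁻¹, ?_, by group⟩
    exact (Subgroup.mem_normalizer_iff.mp (h hk) x⁻¹).mp (X.inv_mem hx)

theorem result {α : Type*} [Finite α] (H : Subgroup (Equiv.Perm α)) [MulAction.IsPreprimitive H α] (N : Subgroup H) [N.Normal] (hN : N ≠ ⊥) (hmin : ∀ M : Subgroup H, M.Normal → M ≤ N → M = ⊥ ∨ M = N) (a : α) (X : Subgroup H) (hX : X ≤ N) (hKX : MulAction.stabilizer H a ⊓ N ≤ X) (hinv : MulAction.stabilizer H a ≤ Subgroup.normalizer (X : Set H)) : X = MulAction.stabilizer H a ⊓ N ∨ X = N := by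
  have hnt : Nontrivial α := by
    by_contra hnt
    rw [not_nontrivial_iff_subsingleton] at hnt
    apply hN
    rw [Subgroup.eq_bot_iff_forall]
    intro x _
    apply Subtype.ext
    exact Subsingleton.elim _ _
  have hco : IsCoatom (MulAction.stabilizer H a) :=
    MulAction.IsPreprimitive.isCoatom_stabilizer_of_isPreprimitive H a
  set K := MulAction.stabilizer H a with hK
  by_cases hXK : X ≤ K
  · left
    exact le_antisymm (le_inf hXK hX) hKX
  · right
    have hlt : K < K ⊔ X := by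
      apply lt_of_le_of_ne le_sup_left
      intro h
      apply hXK
      rw [h]; exact le_sup_right
    have htop : K ⊔ X = ⊤ := hco.2 _ hlt
    apply le_antisymm hX
    intro n hn
    obtain ⟨k, hk, x, hx, rfl⟩ := mem_sup_of_le_normalizer K X hinv n (by rw [htop]; trivial)
    have hkN : k ∈ N := by
      have : k = (k * x) * x⁻¹ := by group
      rw [this]
      exact N.mul_mem hn (N.inv_mem (hX hx))
    exact X.mul_mem (hKX ⟨hk, hkN⟩) hx

end Cfsg.Agent.S0722
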