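import Mathlib
import Cfsg.Agent.Lib.Helper5_QuadCount
import Cfsg.Statements.S0290

set_option autoImplicit false
open Cfsg

namespace Cfsg.Agent.S0290

/-- The minus-type quadratic form on F^(2m), m at least 1, has q^(2m-1) + q^(m-1) - q^m zeros (that is, (q^m + 1)(q^(m-1) - 1) non-zero isotropic vectors). -/
theorem result {F : Type*} [Field F] [Fintype F] {q : ℕ} (hF : Fintype.card F = q) (m : ℕ) (hm : 1 ≤ m) (a b : F) (hab : ∀ z₁ z₂ : F, z₁ ^ 2 + a * z₁ * z₂ + b * z₂ ^ 2 = 0 → z₁ = 0 ∧ z₂ = 0) : Nat.card {v : (Fin (m - 1) ⊕ Fin (m - 1)) ⊕ Fin 2 → F // Cfsg.quadFormMinus (m - 1) F a b v = 0} = q ^ (2 * m - 1) + q ^ (m - 1) - q ^ m := by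
  classical
  obtain ⟨k, rfl⟩ : ∃ k, m = k + 1 := ⟨m - 1, by omega⟩
  change Nat.card {v : (Fin k ⊕ Fin k) ⊕ Fin 2 → F // Cfsg.quadFormMinus k F a b v = 0} =
    q ^ (2 * (k + 1) - 1) + q ^ k - q ^ (k + 1)
  have e : {v : (Fin k ⊕ Fin k) ⊕ Fin 2 → F // Cfsg.quadFormMinus k F a b v = 0} ≃
      (Σ z : Fin 2 → F, {p : (Fin k → F) × (Fin k → F) // p.1 ⬝ᵥ p.2 = - (z 0 ^ 2 + a * z 0 * z 1 + b * z 1 ^ 2)}) :=
    { toFun := fun v => ⟨fun j => v.1 (.inr j), ⟨(fun i => v.1 (.inl (.inl i)), fun i => v.1 (.inl (.inr i))), by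
        have := v.2
        simp only [Cfsg.quadFormMinus] at this
        simp only [dotProduct]
        linear_combination this⟩⟩
      invFun := fun s => ⟨Sum.elim (Sum.elim s.2.1.1 s.2.1.2) s.1, by
        have := s.2.2
        simp only [dotProduct] at this
        simp only [Cfsg.quadFormMinus, Sum.elim_inl, Sum.elim_inr]
        linear_combination this⟩
      left_inv := fun v => by
        apply Subtype.ext
        funext x
        rcases x with (x | x) | x <;> rfl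
      right_inv := fun s => by
        rcases s with ⟨t, ⟨p1, p2⟩, hp⟩
        rfl }
  have hf : ∀ z : Fin 2 → F, z 0 ^ 2 + a * z 0 * z 1 + b * z 1 ^ 2 = 0 ↔ z = 0 := by
    intro z
    constructor
    · intro h
      obtain ⟨h0, h1⟩ := hab _ _ h
      funext j
      fin_cases j
      · exact h0
      · exact h1
    · rintro rfl
      simp
  rw [Nat.card_congr e, Cfsg.Agent.Lib.Helper5_QuadCount.card_sigma_pairs (fun z : Fin 2 → F => z 0 ^ 2 + a * z 0 * z 1 + b * z 1 ^ 2) k 0 hf, hF,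
    Fintype.card_fun, Fintype.card_fin, hF]
  have hq : 1 ≤ q := by rw [← hF]; exact Fintype.card_pos
  rcases Nat.eq_zero_or_pos k with rfl | hk
  · simp
  · have h1 : q ^ 2 * q ^ (k - 1) = q ^ (k + 1) := by rw [← pow_add]; congr 1; omega
    have h2 : 1 ≤ q ^ k := Nat.pow_pos hq
    have h3 : q ^ 2 * ((q ^ k - 1) * q ^ (k - 1)) = q ^ (2 * (k + 1) - 1) - q ^ (k + 1) := by
      calc q ^ 2 * ((q ^ k - 1) * q ^ (k - 1)) = (q ^ k - 1) * (q ^ 2 * q ^ (k - 1)) := by ring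
        _ = (q ^ k - 1) * q ^ (k + 1) := by rw [h1]
        _ = q ^ k * q ^ (k + 1) - q ^ (k + 1) := by rw [Nat.sub_mul, one_mul]
        _ = q ^ (2 * (k + 1) - 1) - q ^ (k + 1) := by rw [← pow_add]; congr 2; omega
    have h4 : q ^ (k + 1) ≤ q ^ (2 * (k + 1) - 1) := Nat.pow_le_pow_right hq (by omega)
    rw [h3]
    omega

end Cfsg.Agent.S0290
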