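import Cfsg.Statements.S4282
import Cfsg.Agent.Lib.Helper71_NilpComm
import Cfsg.Agent.Lib.Helper71_HHRep

set_option autoImplicit false
open Cfsg

namespace Cfsg.Agent.S4282

open Module Cfsg.Agent.Lib.Helper71_NilpComm Cfsg.Agent.Lib.Helper71_HHRep

theorem arith1 (P s c d : ℕ) (h1 : P * c ≤ P - 1 + d ^ 2) (h2 : d ^ 2 ≤ s * c) (h3 : s ≤ c)
    (h4 : 1 ≤ s) (h6 : s = 1 → P = 1) : P - 1 ≤ s := by
  by_contra h
  push Not at h
  obtain ⟨j, rfl⟩ : ∃ j, P = s + 2 + j := ⟨P - s - 2, by omega⟩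
  have e1 : s + 2 + j - 1 = s + 1 + j := by omega
  rw [e1] at h1
  have e2 : (s + 2 + j) * c = s * c + (2 + j) * c := by ring
  rw [e2] at h1
  have h5 : (2 + j) * c ≤ s + 1 + j := by omega
  have h7 : (2 + j) * s ≤ (2 + j) * c := Nat.mul_le_mul_left _ h3
  have h8 : (1 + j) * s ≤ (1 + j) * 1 := by
    have : (2 + j) * s = (1 + j) * s + s := by ring
    omega
  have h9 : s ≤ 1 := Nat.le_of_mul_le_mul_left h8 (by omega)
  have h10 : s = 1 := le_antisymm h9 h4
  have := h6 h10
  omega

theorem arith2 (P s c d : ℕ) (h1 : P * c ≤ P - 1 + d ^ 2) (h2 : d ^ 2 ≤ s * c) (h3 : s ≤ c)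
    (h4 : 1 ≤ s) (hs : s = P - 1) : d = s := by
  obtain rfl : P = s + 1 := by omega
  have e1 : s + 1 - 1 = s := by omega
  rw [e1] at h1
  have e2 : (s + 1) * c = s * c + c := by ring
  rw [e2] at h1
  have h5 : c ≤ s := by omega
  have h6 : c = s := le_antisymm h5 h3
  subst h6
  have h7 : d ^ 2 = c ^ 2 := by
    have : c * c = c ^ 2 := by ring
    omega
  exact Nat.pow_left_injective (by norm_num : 2 ≠ 0) h7


/-- A critical case behind the Hall–Higman theorem. Let p ≠ q be primes and G a finite group generated by a normal q-subgroup Q and a cyclic p-subgroup generated by x, such that the centralizer of every non-identity element of that cyclic subgroup is its product with the centre of G. Let K be an algebraically closed field of characteristic p and ρ a faithful representation of G on a nonzero finite-dimensional K-space whose restriction to Q is irreducible. If s is the least exponent with (ρ(x) − 1)^s = 0, then |⟨x⟩| − 1 ≤ s ≤ |⟨x⟩|; and if s = |⟨x⟩| − 1 then |⟨x⟩|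 − 1 is a power of q and Q is non-abelian. -/
theorem result {G : Type*} [Group G] [Finite G] (p q : ℕ) [Fact p.Prime] [Fact q.Prime] (hpq : p ≠ q) (Q : Subgroup G) [Q.Normal] (hQ : IsPGroup q Q) (x : G) (hx : IsPGroup p (Subgroup.zpowers x)) (hgen : Q ⊔ Subgroup.zpowers x = ⊤) (hC : ∀ y ∈ Subgroup.zpowers x, y ≠ 1 → Subgroup.centralizer ({y} : Set G) = Subgroup.zpowers x ⊔ Subgroup.center G) {K : Type*} [Field K] [IsAlgClosed K] [CharP K p] {V : Type*} [AddCommGroup V] [Module K V] [FiniteDimensional K V] [Nontrivial V] (ρ : Representation K G V) (hfaith : Function.Injective ρ) (hirr : ∀ W : Submodule K V, (∀ g ∈ Q, Submodule.map (ρ g) W ≤ W) → W = ⊥ ∨ W = ⊤) (s : ℕ) (hs : (ρ x - 1) ^ s = 0) (hmin : ∀ k < s, (ρ x - 1) ^ k ≠ 0) : Nat.card (Subgroup.zpowers x) - 1 ≤ s ∧ s ≤ Nat.card (Subgroup.zpowers x) ∧ (s = Nat.card (Subgroup.zpowers x) - 1 → (∃ b : ℕ, Nat.card (Subgroup.zpowers x) - 1 = q ^ b) ∧ ¬ IsMulCommutative Q) := by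
  classical
  have hp : p.Prime := Fact.out
  obtain ⟨n, hn⟩ := IsPGroup.iff_card.1 hx
  have hord : orderOf x = p ^ n := by
    rw [← Nat.card_zpowers]
    exact hn
  rw [hn]
  obtain ⟨N, hN⟩ : ∃ N : Module.End K V, N = ρ x - 1 := ⟨_, rfl⟩
  rw [← hN] at hs hmin
  have hs1 : 1 ≤ s := by
    rcases Nat.eq_zero_or_pos s with h0 | h0
    · subst h0
      rw [pow_zero] at hs
      exfalso
      obtain ⟨v, hv⟩ := exists_ne (0 : V)
      apply hv
      have : (1 : Module.End K V) v = 0 := by rw [hs]; rfl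
      exact this
    · exact h0
  have hNP : N ^ p ^ n = 0 := by
    rw [hN, sub_one_pow_char_pow (K := K) p n, ← map_pow, ← hord, pow_orderOf_eq_one, map_one,
      sub_self]
  have hsP : s ≤ p ^ n := by
    by_contra h
    push Not at h
    exact hmin _ h hNP
  have hi := main_bound ρ Q hirr hfaith p q hpq hQ x hx hC n hord
  rw [← hN] at hi
  have hii := sq_finrank_le_mul_finrank_commSub s N hs
  have hiii : s ≤ finrank K (commSub N) := by
    have h1 : N ^ (s - 1) ≠ 0 := hmin (s - 1) (by omega)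
    have h2 : N ^ (s - 1 + 1) = 0 := by
      rw [Nat.sub_add_cancel hs1]
      exact hs
    have := succ_le_finrank_commSub h1 h2
    omega
  have hvi : s = 1 → p ^ n = 1 := by
    intro h1
    rw [h1, pow_one, hN, sub_eq_zero] at hs
    have : x = 1 := hfaith (by rw [hs, map_one])
    rw [← hord, this, orderOf_one]
  refine ⟨arith1 _ _ _ _ hi hii hiii hs1 hvi, hsP, ?_⟩
  intro hsP1
  have hds : finrank K V = s := arith2 _ _ _ _ hi hii hiii hs1 hsP1
  -- `n ≥ 1`
  obtain ⟨m, rfl⟩ : ∃ m, n = m + 1 := by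
    rcases Nat.eq_zero_or_pos n with h0 | h0
    · subst h0
      simp at hsP1
      omega
    · exact ⟨n - 1, by omega⟩
  have hPpos : 0 < p ^ (m + 1) := pow_pos hp.pos _
  have hdlt : finrank K V < p ^ (m + 1) := by omega
  constructor
  · obtain ⟨b, hb⟩ := finrank_eq_prime_pow ρ Q hirr hfaith p q hpq hQ x hx hC m hord hdlt
    exact ⟨b, by omega⟩
  · intro hcomm
    have h1 := finrank_eq_one_of_comm ρ Q hirr hcomm
    have h2 : s = 1 := by omega
    have := hvi h2
    omega

end Cfsg.Agent.S4282
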