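import Cfsg.Statements.S0783
import Cfsg.Agent.Lib.Helper13_GU

set_option autoImplicit false
open Cfsg

namespace Cfsg.Agent.S0783

open Matrix Cfsg.Agent.Lib.Helper13_Herm Cfsg.Agent.Lib.Helper13_GU

/-- a finite cyclic group of order `N` maps onto `ZMod (gcd n N)` with kernel the `n`-th powers -/
theorem cyc_hom {C : Type*} [CommGroup C] [Finite C] (g : C)
    (hg : ∀ x, x ∈ Subgroup.zpowers g) (N : ℕ) (hN : orderOf g = N) (n : ℕ) :
    ∃ ψ : C →* Multiplicative (ZMod (Nat.gcd n N)), Function.Surjective ψ ∧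
      ∀ x, ψ x = 1 ↔ ∃ y, x = y ^ n := by
  subst hN
  set d := Nat.gcd n (orderOf g) with hd
  have hdN : d ∣ orderOf g := Nat.gcd_dvd_right _ _
  have hdn : d ∣ n := Nat.gcd_dvd_left _ _
  have hord : orderOf (Multiplicative.ofAdd (1 : ZMod d)) ∣ orderOf g := by
    rw [orderOf_ofAdd_eq_addOrderOf, ZMod.addOrderOf_one]
    exact hdN
  let ψ : C →* Multiplicative (ZMod d) := monoidHomOfForallMemZpowers hg hord
  have hψg : ψ g = Multiplicative.ofAdd (1 : ZMod d) :=
    monoidHomOfForallMemZpowers_apply_gen hg hord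
  have hψpow : ∀ k : ℕ, ψ (g ^ k) = Multiplicative.ofAdd ((k : ZMod d)) := by
    intro k
    rw [map_pow, hψg, ← ofAdd_nsmul, nsmul_eq_mul, mul_one]
  have hpos : 0 < orderOf g := orderOf_pos g
  have hd0 : 0 < d := Nat.pos_of_dvd_of_pos hdN hpos
  have : NeZero d := ⟨hd0.ne'⟩
  have hcard : ∀ y : C, y ^ orderOf g = 1 := by
    intro y
    rw [orderOf_eq_card_of_forall_mem_zpowers hg]
    exact pow_card_eq_one'
  refine ⟨ψ, ?_, ?_⟩
  · intro z
    refine ⟨g ^ (Multiplicative.toAdd z).val, ?_⟩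
    rw [hψpow, ZMod.natCast_zmod_val]
    rfl
  · intro x
    constructor
    · intro hx
      obtain ⟨k, rfl⟩ : ∃ k : ℕ, g ^ k = x := by
        have := hg x
        rw [← mem_powers_iff_mem_zpowers] at this
        exact this
      rw [hψpow] at hx
      have h1 : ((k : ℕ) : ZMod d) = 0 := by
        have := congrArg Multiplicative.toAdd hx
        simpa using this
      rw [ZMod.natCast_eq_zero_iff] at h1
      obtain ⟨j, rfl⟩ := h1
      have hbez := Nat.gcd_eq_gcd_ab n (orderOf g)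
      refine ⟨(g ^ j) ^ (Nat.gcdA n (orderOf g)), ?_⟩
      have h2 : (g ^ (d * j)) = (g ^ j) ^ ((d : ℕ) : ℤ) := by
        rw [zpow_natCast, ← pow_mul, mul_comm]
      rw [h2, hd, hbez, _root_.zpow_add, _root_.zpow_mul, _root_.zpow_mul, zpow_natCast,
        zpow_natCast, hcard, _root_.one_zpow, mul_one]
      rw [← zpow_natCast (g ^ j) n, ← zpow_natCast ((g ^ j) ^ n.gcdA (orderOf g)) n,
        ← _root_.zpow_mul, ← _root_.zpow_mul, mul_comm]
    · rintro ⟨y, rfl⟩
      rw [map_pow]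
      obtain ⟨m, hm⟩ := hdn
      have h3 : ∀ z : Multiplicative (ZMod d), z ^ d = 1 := by
        intro z
        apply Multiplicative.toAdd.injective
        rw [toAdd_pow, nsmul_eq_mul, ZMod.natCast_self, zero_mul]
        rfl
      rw [hm, pow_mul, h3, one_pow]


section main
variable {F : Type*} [Field F] [Fintype F] {q : ℕ}

/-- a generator of the group of norm one elements -/
theorem exists_omega (hF : Fintype.card F = q ^ 2) :
    ∃ ω : Fˣ, orderOf ω = q + 1 ∧ ω ≠ 1 ∧
      ∀ x : Fˣ, x ^ (q + 1) = 1 → x ∈ Subgroup.zpowers ω := by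
  have hq := two_le_q hF
  obtain ⟨r, rfl⟩ : ∃ r, q = r + 1 := ⟨q - 1, by omega⟩
  obtain ⟨ζ, hζ⟩ := IsCyclic.exists_generator (α := Fˣ)
  have hord : orderOf ζ = r * (r + 2) := by
    rw [orderOf_eq_card_of_forall_mem_zpowers hζ, Nat.card_units, Nat.card_eq_fintype_card, hF]
    have : (r + 1) ^ 2 = r * (r + 2) + 1 := by ring
    omega
  have hr : r ≠ 0 := by omega
  refine ⟨ζ ^ r, ?_, ?_, ?_⟩
  · rw [orderOf_pow_of_dvd hr (by rw [hord]; exact dvd_mul_right _ _), hord,
      Nat.mul_div_cancel_left _ (by omega)]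
  · intro h
    have h1 := orderOf_dvd_of_pow_eq_one h
    rw [hord] at h1
    have h2 := Nat.le_of_dvd (by omega) h1
    nlinarith
  · intro x hx
    obtain ⟨k, rfl⟩ : ∃ k : ℕ, ζ ^ k = x := by
      have := hζ x
      rw [← mem_powers_iff_mem_zpowers] at this
      exact this
    rw [← pow_mul] at hx
    have h1 := orderOf_dvd_of_pow_eq_one hx
    rw [hord] at h1
    have h2 : r ∣ k := by
      have h3 : r * (r + 2) ∣ k * (r + 2) := by simpa using h1
      exact Nat.dvd_of_mul_dvd_mul_right (by omega) h3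
    obtain ⟨k', rfl⟩ := h2
    rw [pow_mul]
    exact Subgroup.pow_mem _ (Subgroup.mem_zpowers _) _

omit [Fintype F] in
theorem scalar_mulVec {n : ℕ} (a : F) (v : Fin n → F) :
    Matrix.diagonal (fun _ : Fin n => a) *ᵥ v = a • v := by
  ext i
  rw [Matrix.mulVec_diagonal, Pi.smul_apply, smul_eq_mul]

/-- central elements of GU are scalar, with scalar of norm one -/
theorem center_scalar (hF : Fintype.card F = q ^ 2) {n : ℕ} (hn : 0 < n) (ω : Fˣ) (hω1 : ω ≠ 1)
    (hωpow : ω ^ (q + 1) = 1)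
    (z : ↥(Cfsg.GU n F q)) (hz : z ∈ Subgroup.center ↥(Cfsg.GU n F q)) :
    ∃ a : Fˣ, a ^ (q + 1) = 1 ∧ (z : GL (Fin n) F) = diagGL (fun _ => a) := by
  rw [Subgroup.mem_center_iff] at hz
  have hq : q ≠ 0 := by have := two_le_q hF; omega
  have hcomm : ∀ h : GL (Fin n) F, h ∈ Cfsg.GU n F q → z.1 * h = h * z.1 := by
    intro h hh
    have := hz ⟨h, hh⟩
    exact (congrArg Subtype.val this).symm
  have h1 : ∀ b : Fin n, z.1 * diagGL (Function.update 1 b ω) =
      diagGL (Function.update 1 b ω) * z.1 := by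
    intro b
    apply hcomm
    apply diagGL_mem
    intro i
    by_cases hi : i = b
    · rw [hi, Function.update_self]; exact hωpow
    · rw [Function.update_of_ne hi]; simp
  have h2 : ∀ σ : Equiv.Perm (Fin n), z.1 * permGL σ = permGL σ * z.1 :=
    fun σ => hcomm _ (permGL_mem σ)
  have h3 := scalar_of_commute z.1 ω hω1 h1 h2 ⟨0, hn⟩
  set a := z.1.1 ⟨0, hn⟩ ⟨0, hn⟩ with ha
  have h4 : a ^ (q + 1) = 1 := by
    have h5 := (mem_GU_iff z.1).mp z.2 (Pi.single ⟨0, hn⟩ 1) (Pi.single ⟨0, hn⟩ 1)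
    rw [h3, scalar_mulVec, hermForm_smul_left, hermForm_smul_right, hermForm_single_left,
      Pi.single_eq_same, one_pow, mul_one] at h5
    rw [pow_succ']
    exact h5
  have ha0 : a ≠ 0 := by
    intro h0
    rw [h0, zero_pow (by omega)] at h4
    exact zero_ne_one h4
  refine ⟨Units.mk0 a ha0, ?_, ?_⟩
  · apply Units.ext
    rw [Units.val_pow_eq_pow_val, Units.val_mk0, h4, Units.val_one]
  · apply Units.ext
    rw [h3]
    rfl

end main

/-- PGU_n(q)/PSU_n(q) is cyclic of order (n, q+1): for n ≥ 2 and |F| = q² there is a surjective homomorphism from GU_n(q) onto the cyclic group of order gcd(n, q + 1) whose kernel is generated by the determinant-one elements together with the centre. -/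
theorem result {F : Type*} [Field F] [Fintype F] {q : ℕ} (hF : Fintype.card F = q ^ 2) (n : ℕ) (hn : 2 ≤ n) : ∃ φ : ↥(Cfsg.GU n F q) →* Multiplicative (ZMod (Nat.gcd n (q + 1))), Function.Surjective φ ∧ φ.ker = (Matrix.GeneralLinearGroup.det : Matrix.GeneralLinearGroup (Fin n) F →* Fˣ).ker.subgroupOf (Cfsg.GU n F q) ⊔ Subgroup.center ↥(Cfsg.GU n F q) := by
  obtain ⟨ω, hωord, hω1, hωmem⟩ := exists_omega hF
  have hωpow : ω ^ (q + 1) = 1 := by rw [← hωord]; exact pow_orderOf_eq_one ω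
  have hn0 : 0 < n := by omega
  let gω : ↥(Subgroup.zpowers ω) := ⟨ω, Subgroup.mem_zpowers ω⟩
  have hgen : ∀ x : ↥(Subgroup.zpowers ω), x ∈ Subgroup.zpowers gω := by
    rintro ⟨x, hx⟩
    obtain ⟨k, rfl⟩ := Subgroup.mem_zpowers_iff.mp hx
    exact Subgroup.mem_zpowers_iff.mpr ⟨k, Subtype.ext (by simp [gω])⟩
  have hgord : orderOf gω = q + 1 := by rw [Subgroup.orderOf_mk]; exact hωord
  obtain ⟨ψ, hψsurj, hψker⟩ := cyc_hom gω hgen (q + 1) hgord n
  have hCpow : ∀ y : ↥(Subgroup.zpowers ω), (y : Fˣ) ^ (q + 1) = 1 := by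
    rintro ⟨y, hy⟩
    obtain ⟨k, rfl⟩ := Subgroup.mem_zpowers_iff.mp hy
    show (ω ^ k) ^ (q + 1) = 1
    rw [← zpow_natCast, ← _root_.zpow_mul, mul_comm, _root_.zpow_mul, zpow_natCast, hωpow,
      _root_.one_zpow]
  let det' : ↥(Cfsg.GU n F q) →* ↥(Subgroup.zpowers ω) :=
    (Matrix.GeneralLinearGroup.det.comp (Cfsg.GU n F q).subtype).codRestrict (Subgroup.zpowers ω)
      (fun g => hωmem _ (det_unit_pow_eq_one hF g.1 g.2))
  have hdet' : ∀ g : ↥(Cfsg.GU n F q),
      ((det' g : ↥(Subgroup.zpowers ω)) : Fˣ) =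
        Matrix.GeneralLinearGroup.det (g : GL (Fin n) F) := fun g => rfl
  have hdetscalar : ∀ a : Fˣ, Matrix.GeneralLinearGroup.det (diagGL (fun _ : Fin n => a)) = a ^ n := by
    intro a
    rw [det_diagGL, Finset.prod_const, Finset.card_univ, Fintype.card_fin]
  refine ⟨ψ.comp det', ?_, ?_⟩
  · apply Function.Surjective.comp hψsurj
    rintro ⟨y, hy⟩
    have hy1 := hCpow ⟨y, hy⟩
    refine ⟨⟨diagGL (Function.update 1 ⟨0, hn0⟩ y), diagGL_mem _ ?_⟩, ?_⟩
    · intro i
      by_cases hi : i = ⟨0, hn0⟩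
      · rw [hi, Function.update_self]; exact hy1
      · rw [Function.update_of_ne hi]; simp
    · apply Subtype.ext
      rw [hdet']
      show Matrix.GeneralLinearGroup.det (diagGL _) = y
      rw [det_diagGL, Finset.prod_update_of_mem (Finset.mem_univ _)]
      simp
  · apply le_antisymm
    · intro g hg
      rw [MonoidHom.mem_ker, MonoidHom.comp_apply, hψker] at hg
      obtain ⟨y, hy⟩ := hg
      let s : ↥(Cfsg.GU n F q) := ⟨diagGL (fun _ => (y : Fˣ)), diagGL_mem _ (fun _ => hCpow y)⟩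
      have hs : s ∈ Subgroup.center ↥(Cfsg.GU n F q) := by
        rw [Subgroup.mem_center_iff]
        intro h
        apply Subtype.ext
        apply Units.ext
        show h.1.1 * Matrix.diagonal _ = Matrix.diagonal _ * h.1.1
        ext a b
        rw [Matrix.mul_diagonal, Matrix.diagonal_mul, mul_comm]
      have hgs : g * s⁻¹ ∈ (Matrix.GeneralLinearGroup.det :
          Matrix.GeneralLinearGroup (Fin n) F →* Fˣ).ker.subgroupOf (Cfsg.GU n F q) := by
        rw [Subgroup.mem_subgroupOf, MonoidHom.mem_ker]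
        show Matrix.GeneralLinearGroup.det ((g : GL (Fin n) F) * (s : GL (Fin n) F)⁻¹) = 1
        rw [map_mul, map_inv, ← hdet', hy]
        show ((y : Fˣ) ^ n) * (Matrix.GeneralLinearGroup.det (diagGL (fun _ => (y : Fˣ))))⁻¹ = 1
        rw [hdetscalar, mul_inv_cancel]
      have := Subgroup.mul_mem_sup hgs hs
      rwa [inv_mul_cancel_right] at this
    · apply sup_le
      · intro g hg
        rw [Subgroup.mem_subgroupOf, MonoidHom.mem_ker] at hg
        rw [MonoidHom.mem_ker, MonoidHom.comp_apply]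
        have h1 : det' g = 1 := Subtype.ext (by rw [hdet', hg]; rfl)
        rw [h1, map_one]
      · intro z hz
        obtain ⟨a, ha, hza⟩ := center_scalar hF hn0 ω hω1 hωpow z hz
        rw [MonoidHom.mem_ker, MonoidHom.comp_apply, hψker]
        refine ⟨⟨a, hωmem a ha⟩, ?_⟩
        apply Subtype.ext
        rw [hdet', hza, hdetscalar]
        rfl

end Cfsg.Agent.S0783
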