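import Cfsg.Statements.S2261
-- import your own Cfsg.Agent.* helpers here

set_option autoImplicit false
open Cfsg

namespace Cfsg.Agent.S2261
open Matrix Polynomial
set_option linter.unusedSectionVars false
section

variable {F : Type*} [Field F]

/-- the span of the first `d` powers of a `d × d` matrix, as the range of a function -/
def powSpan (d : ℕ) (M : Matrix (Fin d) (Fin d) F) : Set (Matrix (Fin d) (Fin d) F) :=
  Set.range (fun a : Fin d → F => ∑ i : Fin d, a i • M ^ (i : ℕ))

theorem smul_pow_mem_powSpan (d : ℕ) (hd : 1 ≤ d) (M : Matrix (Fin d) (Fin d) F) (c : F) (k : ℕ) :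
    c • M ^ k ∈ powSpan d M := by
  have : Nonempty (Fin d) := ⟨⟨0, hd⟩⟩
  set χ := M.charpoly with hχ
  have hmon : χ.Monic := Matrix.charpoly_monic M
  have hdeg : χ.natDegree = d := by rw [hχ, Matrix.charpoly_natDegree_eq_dim, Fintype.card_fin]
  have hne1 : χ ≠ 1 := by
    intro h
    rw [h, natDegree_one] at hdeg
    omega
  set r := (X ^ k : F[X]) %ₘ χ with hr
  have hrdeg : r.natDegree < d := by
    rw [← hdeg]; exact natDegree_modByMonic_lt _ hmon hne1
  have h1 : aeval M r = M ^ k := by
    have h2 := congrArg (aeval M) (modByMonic_add_div (X ^ k : F[X]) χ)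
    rw [map_add, map_mul, hχ, Matrix.aeval_self_charpoly, zero_mul, add_zero] at h2
    rw [hr, hχ, h2]
    simp
  refine ⟨fun i => c * r.coeff (i : ℕ), ?_⟩
  change ∑ i : Fin d, (c * r.coeff (i : ℕ)) • M ^ (i : ℕ) = c • M ^ k
  rw [← h1, aeval_eq_sum_range' hrdeg, Finset.smul_sum, ← Fin.sum_univ_eq_sum_range
    (fun i => c • (r.coeff i • M ^ i)) d]
  apply Finset.sum_congr rfl
  intro i _
  rw [mul_smul]

theorem zero_mem_powSpan (d : ℕ) (M : Matrix (Fin d) (Fin d) F) : (0 : Matrix (Fin d) (Fin d) F) ∈ powSpan d M :=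
  ⟨0, by simp⟩

theorem card_powSpan_le [Fintype F] (d : ℕ) (M : Matrix (Fin d) (Fin d) F) :
    Nat.card (powSpan d M) ≤ Fintype.card F ^ d := by
  classical
  have h := Finite.card_range_le (fun a : Fin d → F => ∑ i : Fin d, a i • M ^ (i : ℕ))
  have h2 : Nat.card (Fin d → F) = Fintype.card F ^ d := by
    rw [Nat.card_eq_fintype_card, Fintype.card_fun, Fintype.card_fin]
  rw [h2] at h
  exact h


end

section

variable {F : Type*} [Field F] [Fintype F]

theorem scalar_mem_center (d : ℕ) (c : Fˣ) :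
    Matrix.GeneralLinearGroup.scalar (Fin d) c ∈ Subgroup.center (GL (Fin d) F) := by
  rw [Matrix.GeneralLinearGroup.center_eq_range_scalar]
  exact ⟨c, rfl⟩

theorem upper (d : ℕ) (hd : 1 ≤ d) (γ : GL (Fin d) F) :
    (Fintype.card F - 1) * orderOf (QuotientGroup.mk γ : GL (Fin d) F ⧸ Subgroup.center (GL (Fin d) F))
      ≤ Fintype.card F ^ d - 1 := by
  classical
  have : Nonempty (Fin d) := ⟨⟨0, hd⟩⟩
  set M : Matrix (Fin d) (Fin d) F := (γ : Matrix (Fin d) (Fin d) F) with hM
  set gbar : GL (Fin d) F ⧸ Subgroup.center (GL (Fin d) F) := QuotientGroup.mk γ with hgbar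
  set o := orderOf gbar with ho
  -- the target set
  let T : Set (Matrix (Fin d) (Fin d) F) := powSpan d M \ {0}
  have hTcard : Nat.card T ≤ Fintype.card F ^ d - 1 := by
    have h1 : Nat.card T = Nat.card (powSpan d M) - 1 := by
      rw [Nat.card_coe_set_eq, Nat.card_coe_set_eq]
      exact Set.ncard_sdiff_singleton_of_mem (zero_mem_powSpan d M)
    rw [h1]
    exact Nat.sub_le_sub_right (card_powSpan_le d M) 1
  -- the injection
  have hdet : ∀ (c : Fˣ) (k : ℕ), ((c : F) • M ^ k) ≠ 0 := by
    intro c k h0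
    have h1 : ((c : F) • M ^ k).det = 0 := by rw [h0, Matrix.det_zero]
    rw [Matrix.det_smul, Matrix.det_pow] at h1
    have hdetM : M.det ≠ 0 := by
      have := Matrix.GeneralLinearGroup.det_ne_zero γ
      exact this
    exact (mul_ne_zero (pow_ne_zero _ c.ne_zero) (pow_ne_zero _ hdetM)) h1
  let f : Fˣ × Fin o → T := fun v =>
    ⟨(v.1 : F) • M ^ (v.2 : ℕ), ⟨smul_pow_mem_powSpan d hd M _ _, hdet _ _⟩⟩
  have hf : Function.Injective f := by
    rintro ⟨c, k⟩ ⟨c', k'⟩ h
    have h1 : (c : F) • M ^ (k : ℕ) = (c' : F) • M ^ (k' : ℕ) := congrArg Subtype.val h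
    -- as elements of GL
    have h2 : Matrix.GeneralLinearGroup.scalar (Fin d) c * γ ^ (k : ℕ) =
        Matrix.GeneralLinearGroup.scalar (Fin d) c' * γ ^ (k' : ℕ) := by
      apply Units.ext
      simp only [Units.val_mul, Units.val_pow_eq_pow_val, Matrix.GeneralLinearGroup.coe_scalar]
      rw [← hM]
      simpa [Matrix.scalar_apply, ← Matrix.smul_eq_diagonal_mul] using h1
    have h3 : gbar ^ (k : ℕ) = gbar ^ (k' : ℕ) := by
      have := congrArg (QuotientGroup.mk : GL (Fin d) F → GL (Fin d) F ⧸ Subgroup.center (GL (Fin d) F)) h2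
      rw [QuotientGroup.mk_mul, QuotientGroup.mk_mul,
        (QuotientGroup.eq_one_iff _).mpr (scalar_mem_center d c),
        (QuotientGroup.eq_one_iff _).mpr (scalar_mem_center d c'), one_mul, one_mul,
        QuotientGroup.mk_pow, QuotientGroup.mk_pow] at this
      exact this
    have hk : (k : ℕ) = (k' : ℕ) := by
      have hinj := pow_injOn_Iio_orderOf (x := gbar)
      exact hinj (Set.mem_Iio.mpr k.2) (Set.mem_Iio.mpr k'.2) h3
    have hk' : k = k' := Fin.ext hk
    subst hk'
    have hc : (c : F) = (c' : F) := by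
      have hMk : IsUnit (M ^ (k : ℕ)) := by
        rw [hM, ← Units.val_pow_eq_pow_val]; exact Units.isUnit _
      obtain ⟨u, hu⟩ := hMk
      have h4 : ((c : F) - (c' : F)) • M ^ (k : ℕ) = 0 := by rw [sub_smul, h1, sub_self]
      have h5 : ((c : F) - (c' : F)) • (1 : Matrix (Fin d) (Fin d) F) = 0 := by
        have := congrArg (fun X => X * (u⁻¹ : (Matrix (Fin d) (Fin d) F)ˣ).val) h4
        simp only [Matrix.smul_mul, zero_mul] at this
        rw [← hu, Units.mul_inv] at this
        exact this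
      have h6 := congrFun (congrFun h5 ⟨0, hd⟩) ⟨0, hd⟩
      simp at h6
      exact sub_eq_zero.mp h6
    have : c = c' := Units.ext hc
    rw [this]
  have hle := Nat.card_le_card_of_injective f hf
  rw [Nat.card_prod, Nat.card_units, Nat.card_eq_fintype_card (α := F), Nat.card_eq_fintype_card (α := Fin o),
    Fintype.card_fin] at hle
  exact hle.trans hTcard


end

section

variable {F : Type*} [Field F] [Fintype F]

theorem singer (d : ℕ) (hd : 1 ≤ d) : ∃ γ : GL (Fin d) F, orderOf γ = Fintype.card F ^ d - 1 := by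
  classical
  obtain ⟨p, hp⟩ := CharP.exists F
  have hpp : Fact p.Prime := ⟨CharP.char_is_prime F p⟩
  have : NeZero d := ⟨by omega⟩
  let K := FiniteField.Extension F p d
  let _ : Fintype K := Fintype.ofFinite K
  have hcardK : Nat.card K = Fintype.card F ^ d := by
    rw [FiniteField.natCard_extension F p d, Nat.card_eq_fintype_card]
  have hfin : Module.finrank F K = d := FiniteField.finrank_extension F p d
  obtain ⟨ω, hω⟩ := IsCyclic.exists_generator (α := Kˣ)
  have hord : orderOf ω = Fintype.card F ^ d - 1 := by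
    rw [orderOf_eq_card_of_forall_mem_zpowers hω, Nat.card_units, hcardK]
  let b : Module.Basis (Fin d) F K := Module.finBasisOfFinrankEq F K hfin
  let ψ : K →ₐ[F] Matrix (Fin d) (Fin d) F := Algebra.leftMulMatrix b
  have hψ : Function.Injective ψ := Algebra.leftMulMatrix_injective b
  let Ψ : Kˣ →* GL (Fin d) F := Units.map ψ.toMonoidHom
  have hΨ : Function.Injective Ψ := Units.map_injective hψ
  exact ⟨Ψ ω, by rw [orderOf_injective Ψ hΨ ω, hord]⟩

theorem lower (d : ℕ) (hd : 1 ≤ d) :
    ∃ g : (GL (Fin d) F ⧸ Subgroup.center (GL (Fin d) F)),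
      (Fintype.card F - 1) * orderOf g = Fintype.card F ^ d - 1 := by
  classical
  obtain ⟨γ, hγ⟩ := singer (F := F) d hd
  refine ⟨QuotientGroup.mk γ, le_antisymm (upper d hd γ) ?_⟩
  set gbar : GL (Fin d) F ⧸ Subgroup.center (GL (Fin d) F) := QuotientGroup.mk γ with hgbar
  set o := orderOf gbar with ho
  have hq : 2 ≤ Fintype.card F := Fintype.one_lt_card
  have ho_pos : 0 < o := orderOf_pos gbar
  have h1 : γ ^ o ∈ Subgroup.center (GL (Fin d) F) := by
    rw [← QuotientGroup.eq_one_iff, QuotientGroup.mk_pow]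
    exact pow_orderOf_eq_one gbar
  rw [Matrix.GeneralLinearGroup.center_eq_range_scalar] at h1
  obtain ⟨c, hc⟩ := h1
  have h2 : γ ^ (o * (Fintype.card F - 1)) = 1 := by
    rw [pow_mul, ← hc, ← map_pow]
    have : c ^ (Fintype.card F - 1) = 1 := by
      have := pow_card_eq_one' (G := Fˣ) (x := c)
      rwa [Nat.card_units, Nat.card_eq_fintype_card] at this
    rw [this, map_one]
  have h3 : Fintype.card F ^ d - 1 ∣ o * (Fintype.card F - 1) := by
    rw [← hγ]; exact orderOf_dvd_of_pow_eq_one h2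
  have h4 := Nat.le_of_dvd (Nat.mul_pos ho_pos (by omega)) h3
  rw [mul_comm]; exact h4


end


/-- Let F be a finite field with q elements and d ≥ 1. Then every element of PGL_d(F) = GL_d(F)/Z has order at most (q^d − 1)/(q − 1), and some element (the image of a Singer cycle) has exactly this order. -/
theorem result {F : Type*} [Field F] [Fintype F] (d : ℕ) (hd : 1 ≤ d) :
    (∀ g : (GL (Fin d) F ⧸ Subgroup.center (GL (Fin d) F)), (Fintype.card F - 1) * orderOf g ≤ Fintype.card F ^ d - 1) ∧
    (∃ g : (GL (Fin d) F ⧸ Subgroup.center (GL (Fin d) F)), (Fintype.card F - 1) * orderOf g = Fintype.card F ^ d - 1) := by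
  refine ⟨fun g => ?_, lower d hd⟩
  obtain ⟨γ, rfl⟩ := QuotientGroup.mk_surjective g
  exact upper d hd γ

end Cfsg.Agent.S2261
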