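import Cfsg.Statements.S0785
import Cfsg.Agent.Lib.Helper13_Refl

set_option autoImplicit false
open Cfsg

namespace Cfsg.Agent.S0785

open Matrix Cfsg.Agent.Lib.Helper13_Refl

theorem mem_isometryGroup_iff {F : Type*} [Field F] {n : ℕ} (Q : (Fin n → F) → F)
    (g : Matrix.GeneralLinearGroup (Fin n) F) :
    g ∈ Cfsg.isometryGroup F Q ↔ ∀ u, Q ((g : Matrix (Fin n) (Fin n) F) *ᵥ u) = Q u := by
  unfold Cfsg.isometryGroup Cfsg.preserving
  simp only [Subgroup.mem_mk, Submonoid.mem_mk, Subsemigroup.mem_mk, Set.mem_ofPred_eq,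
    Units.coeHom_apply]
  constructor
  · intro h u; exact h u u
  · intro h u _; exact h u

/-- An isometry of a quadratic form with nondegenerate polar form has determinant of square one. -/
theorem det_sq_eq_one {F : Type*} [Field F] {n : ℕ} (Q : QuadraticForm F (Fin n → F))
    (hQ : (QuadraticMap.polarBilin Q).Nondegenerate) (A : Matrix (Fin n) (Fin n) F)
    (hA : ∀ u, Q (A *ᵥ u) = Q u) : A.det * A.det = 1 := by
  set B : LinearMap.BilinForm F (Fin n → F) := QuadraticMap.polarBilin Q with hB
  have hcomp : B.comp (Matrix.toLin' A) (Matrix.toLin' A) = B := by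
    refine LinearMap.ext (fun x => LinearMap.ext (fun y => ?_))
    show QuadraticMap.polar (⇑Q) (A *ᵥ x) (A *ᵥ y) = QuadraticMap.polar (⇑Q) x y
    unfold QuadraticMap.polar
    rw [← Matrix.mulVec_add, hA, hA, hA]
  have h1 := LinearMap.BilinForm.toMatrix'_comp B (Matrix.toLin' A) (Matrix.toLin' A)
  rw [hcomp, LinearMap.toMatrix'_toLin'] at h1
  have h2 := congrArg Matrix.det h1
  rw [Matrix.det_mul, Matrix.det_mul, Matrix.det_transpose] at h2
  have h3 : (LinearMap.BilinForm.toMatrix' B).det ≠ 0 := by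
    rw [← Matrix.nondegenerate_iff_det_ne_zero]
    exact LinearMap.BilinForm.Nondegenerate.toMatrix' hQ
  have h4 : (A.det * A.det - 1) * (LinearMap.BilinForm.toMatrix' B).det = 0 := by
    linear_combination -h2
  rcases mul_eq_zero.mp h4 with h5 | h5
  · exact sub_eq_zero.mp h5
  · exact absurd h5 h3

/-- det(I) = {±1}: for a quadratic form on F^n whose polar form is non-degenerate, every element of the isometry group has determinant 1 or −1, and as soon as Q takes a non-zero value some isometry has determinant −1. -/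
theorem result {F : Type*} [Field F] {n : ℕ} (Q : QuadraticForm F (Fin n → F)) (hQ : (QuadraticMap.polarBilin Q).Nondegenerate) : (∀ g : ↥(Cfsg.isometryGroup F ⇑Q), ((g : Matrix.GeneralLinearGroup (Fin n) F) : Matrix (Fin n) (Fin n) F).det = 1 ∨ ((g : Matrix.GeneralLinearGroup (Fin n) F) : Matrix (Fin n) (Fin n) F).det = -1) ∧ ((∃ v, Q v ≠ 0) → ∃ g : ↥(Cfsg.isometryGroup F ⇑Q), ((g : Matrix.GeneralLinearGroup (Fin n) F) : Matrix (Fin n) (Fin n) F).det = -1) := by
  constructor
  · intro g
    have hg := (mem_isometryGroup_iff (⇑Q) g.1).mp g.2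
    have h := det_sq_eq_one Q hQ _ hg
    have : (((g : Matrix.GeneralLinearGroup (Fin n) F) : Matrix (Fin n) (Fin n) F).det - 1) *
        (((g : Matrix.GeneralLinearGroup (Fin n) F) : Matrix (Fin n) (Fin n) F).det + 1) = 0 := by
      linear_combination h
    rcases mul_eq_zero.mp this with h1 | h1
    · exact Or.inl (sub_eq_zero.mp h1)
    · exact Or.inr (eq_neg_of_add_eq_zero_left h1)
  · rintro ⟨v, hv⟩
    have hdet : (Cfsg.reflectionMatrix (⇑Q) v).det = -1 := reflection_det Q v hv
    have hunit : IsUnit (Cfsg.reflectionMatrix (⇑Q) v).det := by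
      rw [hdet]; exact isUnit_one.neg
    set g : Matrix.GeneralLinearGroup (Fin n) F :=
      Matrix.GeneralLinearGroup.mk'' (Cfsg.reflectionMatrix (⇑Q) v) hunit with hg
    have hgcoe : (g : Matrix (Fin n) (Fin n) F) = Cfsg.reflectionMatrix (⇑Q) v := rfl
    have hmem : g ∈ Cfsg.isometryGroup F ⇑Q := by
      rw [mem_isometryGroup_iff]
      intro u
      rw [hgcoe]
      exact reflection_preserves Q v hv u
    exact ⟨⟨g, hmem⟩, hdet⟩

end Cfsg.Agent.S0785
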