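import Cfsg.Statements.S0788
import Cfsg.Agent.Lib.Helper14_OrthChars

set_option autoImplicit false
open Cfsg

namespace Cfsg.Agent.S0788

open Matrix Cfsg.Agent.Lib.Helper44_Orth Cfsg.Agent.Lib.Helper44_Refl
  Cfsg.Agent.Lib.Helper44_FinSq Cfsg.Agent.Lib.Helper44_Spinor Cfsg.Agent.Lib.Helper44_ReflProd
  Cfsg.Agent.Lib.Helper14_CartanDieudonne Cfsg.Agent.Lib.Helper14_OrthChars

section
variable {ι : Type} [Fintype ι] [DecidableEq ι] {F : Type*} [Field F] [Fintype F]

open Classical in
/-- `Ω` is the common kernel of the determinant sign and the spinor character. -/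
theorem mem_omega_iff_chars (h2 : (2 : F) ≠ 0) (Q : QuadraticForm F (ι → F))
    (hQ : (QuadraticMap.polarBilin Q).Nondegenerate) (g : ↥(Cfsg.isometryGroup F (⇑Q))) :
    g ∈ Cfsg.Omega F (⇑Q) ↔ detSign h2 Q hQ g = 1 ∧ theta Q g = 1 := by
  constructor
  · intro hmem
    have hmem' : g ∈ commutator ↥(Cfsg.isometryGroup F (⇑Q)) := hmem
    exact ⟨MonoidHom.mem_ker.mp (Abelianization.commutator_subset_ker _ hmem'),
      MonoidHom.mem_ker.mp (Abelianization.commutator_subset_ker _ hmem')⟩
  · rintro ⟨hdet, hth⟩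
    obtain ⟨vs, hvs, hgprod⟩ := exists_list_reflT h2 Q hQ g
    have hg : ((g : Matrix.GeneralLinearGroup ι F) : Matrix ι ι F)
        = (vs.map (fun v => Cfsg.reflectionMatrix (⇑Q) v)).prod := by
      rw [hgprod, prod_reflT_coe Q vs hvs]
    rw [mem_omega_iff Q h2 g vs hvs hg]
    have hlen := List.length_eq_countP_add_countP (fun v => decide (IsSquare (Q v))) (l := vs)
    have hcnt : vs.countP (fun a => decide ¬(fun v => decide (IsSquare (Q v))) a = true)
        = vs.countP (fun v => ¬ IsSquare (Q v)) := by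
      congr 1
      funext a
      simp
    rw [hcnt] at hlen
    -- parity of the length
    have hkeven : Even vs.length := by
      rw [detSign_apply] at hdet
      have hdet' : ((g : Matrix.GeneralLinearGroup ι F) : Matrix ι ι F).det = 1 := by
        by_contra hne
        rw [if_neg hne] at hdet
        exact absurd hdet (by decide)
      rw [hg, det_prod Q vs hvs] at hdet'
      rcases Nat.even_or_odd vs.length with h | h
      · exact h
      · rw [h.neg_one_pow] at hdet'
        exfalso
        apply h2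
        linear_combination -hdet'
    have hsqeven : Even (vs.countP (fun v => IsSquare (Q v))) := by
      rw [hgprod, theta_prod Q h2 vs hvs] at hth
      rcases Nat.even_or_odd (vs.countP (fun v => IsSquare (Q v))) with h | h
      · exact h
      · rw [h.neg_one_pow] at hth
        exact absurd hth (by decide)
    refine ⟨hkeven, ?_⟩
    rw [isSquare_prod_iff Q vs hvs]
    rw [hlen, Nat.even_add] at hkeven
    exact hkeven.mp hsqeven

theorem index_omega (h2 : (2 : F) ≠ 0) (Q : QuadraticForm F (ι → F))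
    (hQ : (QuadraticMap.polarBilin Q).Nondegenerate) (hn : 2 ≤ Fintype.card ι) :
    (Cfsg.Omega F (⇑Q)).index = 4 := by
  classical
  obtain ⟨a, ha1⟩ := exists_norm_eq h2 Q hQ hn 1
  obtain ⟨ε, hε⟩ := FiniteField.exists_nonsquare (ringChar_ne_two_of_two_ne_zero h2)
  obtain ⟨b, hbε⟩ := exists_norm_eq h2 Q hQ hn ε
  have ha : Q a ≠ 0 := by rw [ha1]; exact one_ne_zero
  have hb : Q b ≠ 0 := by
    rw [hbε]; rintro rfl; exact hε ⟨0, by simp⟩
  have hasq : IsSquare (Q a) := by rw [ha1]; exact ⟨1, by simp⟩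
  have hbsq : ¬ IsSquare (Q b) := by rw [hbε]; exact hε
  set θ := theta Q with hθ
  set δ := detSign h2 Q hQ with hδ
  have θa : θ (refl Q a ha) = -1 := (theta_refl Q h2 a ha).1 hasq
  have θb : θ (refl Q b hb) = 1 := (theta_refl Q h2 b hb).2 hbsq
  have δa : δ (refl Q a ha) = -1 := detSign_refl h2 Q hQ a ha
  have δb : δ (refl Q b hb) = -1 := detSign_refl h2 Q hQ b hb
  let χ : ↥(Cfsg.isometryGroup F (⇑Q)) →* ℤˣ × ℤˣ := δ.prod θ
  have hχ : ∀ g, χ g = (δ g, θ g) := fun g => rfl
  have hker : χ.ker = Cfsg.Omega F (⇑Q) := by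
    ext g
    rw [MonoidHom.mem_ker, hχ, mem_omega_iff_chars h2 Q hQ g, Prod.mk_eq_one]
  have hsurj : Function.Surjective χ := by
    rintro ⟨x, y⟩
    rcases Int.units_eq_one_or x with rfl | rfl <;> rcases Int.units_eq_one_or y with rfl | rfl
    · exact ⟨1, map_one χ⟩
    · refine ⟨refl Q a ha * refl Q b hb, ?_⟩
      rw [hχ, map_mul, map_mul, θa, θb, δa, δb]
      rfl
    · refine ⟨refl Q b hb, ?_⟩
      rw [hχ, θb, δb]
    · refine ⟨refl Q a ha, ?_⟩
      rw [hχ, θa, δa]
  rw [← hker, Subgroup.index_ker, MonoidHom.range_eq_top.mpr hsurj,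
    Nat.card_congr Subgroup.topEquiv.toEquiv, Nat.card_prod, Nat.card_eq_fintype_card,
    Fintype.card_units_int]

end

/-- Ω has index 4 in O for q odd: if F is finite of odd characteristic, n ≥ 2 and Q is a quadratic form on F^n with non-degenerate polar form, then the commutator subgroup of the isometry group of Q (the group Ω of our definitions) has index 4 in it. -/
theorem result {F : Type*} [Field F] [Fintype F] (h2 : (2 : F) ≠ 0) {n : ℕ} (hn : 2 ≤ n) (Q : QuadraticForm F (Fin n → F)) (hQ : (QuadraticMap.polarBilin Q).Nondegenerate) : (Cfsg.Omega F ⇑Q).index = 4 := by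
  exact index_omega h2 Q hQ (by simpa using hn)

end Cfsg.Agent.S0788
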