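import Cfsg.Statements.S0789
import Cfsg.Agent.Lib.Helper14_Dickson
import Cfsg.Agent.Lib.Helper44_Omega2

set_option autoImplicit false
open Cfsg

namespace Cfsg.Agent.S0789

open Cfsg.Agent.Lib.Helper44_Refl Cfsg.Agent.Lib.Helper44_Spinor Cfsg.Agent.Lib.Helper44_CD2
  Cfsg.Agent.Lib.Helper44_Omega2 Cfsg.Agent.Lib.Helper14_Dickson

variable {ι : Type} [Fintype ι] [DecidableEq ι] {F : Type*} [Field F] [Fintype F]

theorem delta_prod {Q : QuadraticForm F (ι → F)}
    (δ : ↥(Cfsg.isometryGroup F (⇑Q)) →* Multiplicative F)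
    (hδ : ∀ (v : ι → F) (hv : Q v ≠ 0), δ (refl Q v hv) = Multiplicative.ofAdd 1)
    (vs : List (ι → F)) (hvs : ∀ v ∈ vs, Q v ≠ 0) :
    δ (vs.map (reflT Q)).prod = Multiplicative.ofAdd (vs.length : F) := by
  induction vs with
  | nil => simp
  | cons v vs ih =>
    rw [List.map_cons, List.prod_cons, map_mul, ih (fun w hw => hvs w (List.mem_cons_of_mem _ hw)),
      reflT_of_ne Q v (hvs v List.mem_cons_self), hδ, ← ofAdd_add, List.length_cons]
    congr 1
    push_cast
    ring

theorem cast_of_even (h2 : (2 : F) = 0) {k : ℕ} (hk : Even k) : (k : F) = 0 := by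
  obtain ⟨j, rfl⟩ := hk
  push_cast
  rw [← two_mul, h2, zero_mul]

theorem cast_of_odd (h2 : (2 : F) = 0) {k : ℕ} (hk : Odd k) : (k : F) = 1 := by
  obtain ⟨j, rfl⟩ := hk
  push_cast
  rw [h2, zero_mul, zero_add]

/-- Ω has index 2 in O for q even: if F is finite of characteristic two, n ≥ 2, Q is a quadratic form on F^n with non-degenerate polar form, and (|F|, n) ≠ (2, 4), then the commutator subgroup of the isometry group of Q has index 2 in it. -/
theorem result {F : Type*} [Field F] [Fintype F] [CharP F 2] {n : ℕ} (hn : 2 ≤ n) (Q : QuadraticForm F (Fin n → F)) (hQ : (QuadraticMap.polarBilin Q).Nondegenerate) (h : Fintype.card F ≠ 2 ∨ n ≠ 4) : (Cfsg.Omega F ⇑Q).index = 2 := by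
  classical
  have h2 : (2 : F) = 0 := by
    have := CharP.cast_eq_zero F 2
    exact_mod_cast this
  have hex : Fintype.card F ≠ 2 ∨ Fintype.card (Fin n) ≠ 4 := by
    rw [Fintype.card_fin]; exact h
  obtain ⟨δ, hδ⟩ := exists_dickson h2 Q hQ
  -- a non-singular vector
  obtain ⟨v₀, hv₀⟩ : ∃ v₀ : Fin n → F, Q v₀ ≠ 0 := by
    by_contra hcon
    push Not at hcon
    have he : (Pi.single (⟨0, by omega⟩ : Fin n) (1 : F) : Fin n → F) = 0 := by
      apply hQ.1
      intro y
      rw [QuadraticMap.polarBilin_apply_apply, QuadraticMap.polar, hcon, hcon, hcon]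
      ring
    have := congrFun he ⟨0, by omega⟩
    simp at this
  -- membership in Ω via δ
  have hmem : ∀ g : ↥(Cfsg.isometryGroup F (⇑Q)),
      g ∈ Cfsg.Omega F (⇑Q) ↔ δ g = Multiplicative.ofAdd 0 := by
    intro g
    constructor
    · intro hg
      obtain ⟨vs, hvs, hev, rfl⟩ := (mem_omega_iff_even Q h2 hQ hex g).mp hg
      rw [delta_prod δ hδ vs hvs, cast_of_even h2 hev]
    · intro hg
      obtain ⟨vs, hvs, rfl⟩ := exists_list_reflT_two h2 Q hQ hex g
      rw [delta_prod δ hδ vs hvs] at hg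
      have hk : (vs.length : F) = 0 := Multiplicative.ofAdd.injective hg
      have hev : Even vs.length := by
        by_contra hodd
        rw [Nat.not_even_iff_odd] at hodd
        rw [cast_of_odd h2 hodd] at hk
        exact one_ne_zero hk
      exact (mem_omega_iff_even Q h2 hQ hex _).mpr ⟨vs, hvs, hev, rfl⟩
  have hval : ∀ g : ↥(Cfsg.isometryGroup F (⇑Q)),
      δ g = Multiplicative.ofAdd 0 ∨ δ g = Multiplicative.ofAdd 1 := by
    intro g
    obtain ⟨vs, hvs, rfl⟩ := exists_list_reflT_two h2 Q hQ hex g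
    rw [delta_prod δ hδ vs hvs]
    rcases Nat.even_or_odd vs.length with hev | hodd
    · left; rw [cast_of_even h2 hev]
    · right; rw [cast_of_odd h2 hodd]
  have h01 : Multiplicative.ofAdd (1 : F) ≠ Multiplicative.ofAdd 0 := by
    intro h
    exact one_ne_zero (Multiplicative.ofAdd.injective h)
  rw [Subgroup.index_eq_two_iff]
  refine ⟨refl Q v₀ hv₀, fun b => ?_⟩
  rcases hval b with hb | hb
  · right
    refine ⟨(hmem b).mpr hb, ?_⟩
    rw [hmem, map_mul, hb, hδ, ← ofAdd_add, zero_add]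
    exact h01
  · left
    refine ⟨?_, ?_⟩
    · rw [hmem, map_mul, hb, hδ, ← ofAdd_add]
      congr 1
      rw [← two_mul, h2, zero_mul]
    · rw [hmem, hb]
      exact h01

end Cfsg.Agent.S0789
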