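import Cfsg.Statements.S0787
import Cfsg.Agent.S0788
import Cfsg.Agent.S0789
import Cfsg.Agent.S0785
import Cfsg.Agent.Lib.Helper14_CartanDieudonne
import Cfsg.Agent.Lib.Helper14_OrthChars

set_option autoImplicit false
open Cfsg

namespace Cfsg.Agent.S0787

open Cfsg Matrix Module Cfsg.Agent.Lib.Helper44_Orth Cfsg.Agent.Lib.Helper44_Refl
  Cfsg.Agent.Lib.Helper44_FinSq
  Cfsg.Agent.Lib.Helper44_Spinor Cfsg.Agent.Lib.Helper44_ReflProd
  Cfsg.Agent.Lib.Helper14_CartanDieudonne Cfsg.Agent.Lib.Helper14_OrthChars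

section general
variable {G : Type*} [Group G]

theorem existsUnique_index_two_of_commutator (h : (commutator G).index = 2) :
    ∃! H : Subgroup G, H.index = 2 := by
  refine ⟨commutator G, h, ?_⟩
  intro H hH
  have hle : commutator G ≤ H := by
    have := Abelianization.commutator_subset_ker (charOfIndexTwo H hH)
    rwa [ker_charOfIndexTwo] at this
  have h1 := Subgroup.relIndex_mul_index hle
  rw [h, hH] at h1
  have h2 : (commutator G).relIndex H = 1 := by omega
  exact le_antisymm (Subgroup.relIndex_eq_one.mp h2) hle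

theorem existsUnique_index_two_congr {G' : Type*} [Group G'] (e : G ≃* G')
    (h : ∃! H : Subgroup G', H.index = 2) : ∃! H : Subgroup G, H.index = 2 := by
  obtain ⟨K, hK, huniq⟩ := h
  refine ⟨K.comap e.toMonoidHom, ?_, ?_⟩
  · show (K.comap e.toMonoidHom).index = 2
    rw [Subgroup.index_comap_of_surjective K (f := e.toMonoidHom) e.surjective]
    exact hK
  · intro H hH
    have h1 : (H.map e.toMonoidHom).index = 2 := by
      have := Subgroup.index_map_equiv H e
      rw [hH] at this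
      exact this
    have := huniq (H.map e.toMonoidHom) h1
    rw [← this, Subgroup.comap_map_eq_self_of_injective e.injective]

end general

section odd
variable {ι : Type} [Fintype ι] [DecidableEq ι] {F : Type*} [Field F]

theorem mem_SO_iff (Q : QuadraticForm F (ι → F)) (g : ↥(Cfsg.isometryGroup F ⇑Q)) :
    g ∈ Cfsg.specialIsometryGroup F ⇑Q ↔
      ((g : Matrix.GeneralLinearGroup ι F) : Matrix ι ι F).det = 1 := by
  unfold Cfsg.specialIsometryGroup
  rw [MonoidHom.mem_ker, MonoidHom.comp_apply]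
  constructor
  · intro h
    have := congrArg Units.val h
    simpa using this
  · intro h
    apply Units.ext
    simpa using h

/-- Reflections in vectors of the same norm are conjugate by a reflection. -/
theorem exists_refl_conj (Q : QuadraticForm F (ι → F)) (h2 : (2 : F) ≠ 0) {v w : ι → F}
    (hv : Q v ≠ 0) (hw : Q w ≠ 0) (hvw : Q v = Q w) :
    ∃ (z : ι → F) (hz : Q z ≠ 0), refl Q z hz * refl Q v hv * refl Q z hz = refl Q w hw := by
  have hsum := map_sub_add_map_add Q v w
  have hne : Q (v - w) ≠ 0 ∨ Q (v + w) ≠ 0 := by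
    by_contra hcon
    rw [not_or, not_not, not_not] at hcon
    rw [hcon.1, hcon.2, ← hvw] at hsum
    have : (2 * 2) * Q v = 0 := by linear_combination -hsum
    rcases mul_eq_zero.mp this with h | h
    · exact (mul_ne_zero h2 h2) h
    · exact hv h
  have hinv : ∀ (z : ι → F) (hz : Q z ≠ 0), (refl Q z hz)⁻¹ = refl Q z hz := fun z hz =>
    inv_eq_of_mul_eq_one_right (refl_mul_self Q z hz)
  rcases hne with hd | hd
  · refine ⟨v - w, hd, ?_⟩
    apply Subtype.ext
    apply Units.ext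
    have := conj_reflectionMatrix Q (refl Q (v - w) hd) v
    rw [hinv, refl_coe, reflection_sub_apply Q hvw hd] at this
    exact this
  · refine ⟨v + w, hd, ?_⟩
    apply Subtype.ext
    apply Units.ext
    have := conj_reflectionMatrix Q (refl Q (v + w) hd) v
    rw [hinv, refl_coe, reflection_add_apply Q hvw hd, reflectionMatrix_neg] at this
    exact this

theorem exists_refl_conj_of_sq (Q : QuadraticForm F (ι → F)) (h2 : (2 : F) ≠ 0) {v w : ι → F}
    (hv : Q v ≠ 0) (hw : Q w ≠ 0) {s : F} (hs : Q w = s * s * Q v) :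
    ∃ (z : ι → F) (hz : Q z ≠ 0), refl Q z hz * refl Q v hv * refl Q z hz = refl Q w hw := by
  have hs0 : s ≠ 0 := by
    rintro rfl
    apply hw; rw [hs]; ring
  have hsv : Q (s • v) ≠ 0 := by
    rw [QuadraticMap.map_smul, smul_eq_mul, ← hs]; exact hw
  have heq : refl Q (s • v) hsv = refl Q v hv := by
    apply Subtype.ext
    apply Units.ext
    exact reflectionMatrix_smul Q v hs0
  have hnorm : Q (s • v) = Q w := by
    rw [QuadraticMap.map_smul, smul_eq_mul, ← hs]
  obtain ⟨z, hz, hh⟩ := exists_refl_conj Q h2 hsv hw hnorm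
  exact ⟨z, hz, by rw [← heq]; exact hh⟩

/-- The product of two reflections, as an element of the special isometry group. -/
def pair (Q : QuadraticForm F (ι → F)) (u v : ι → F) (hu : Q u ≠ 0) (hv : Q v ≠ 0) :
    ↥(Cfsg.specialIsometryGroup F ⇑Q) :=
  ⟨refl Q u hu * refl Q v hv, by
    rw [mem_SO_iff]
    show ((refl Q u hu : Matrix.GeneralLinearGroup ι F).1 *
      (refl Q v hv : Matrix.GeneralLinearGroup ι F).1).det = 1
    rw [Matrix.det_mul, refl_coe, refl_coe, det_reflectionMatrix Q hu, det_reflectionMatrix Q hv]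
    ring⟩

theorem pair_coe (Q : QuadraticForm F (ι → F)) (u v : ι → F) (hu : Q u ≠ 0) (hv : Q v ≠ 0) :
    ((pair Q u v hu hv : ↥(Cfsg.specialIsometryGroup F ⇑Q)) : ↥(Cfsg.isometryGroup F ⇑Q)) =
      refl Q u hu * refl Q v hv := rfl

theorem pair_mul (Q : QuadraticForm F (ι → F)) (u v w : ι → F) (hu : Q u ≠ 0) (hv : Q v ≠ 0)
    (hw : Q w ≠ 0) : pair Q u v hu hv * pair Q v w hv hw = pair Q u w hu hw := by
  apply Subtype.ext
  rw [Subgroup.coe_mul, pair_coe, pair_coe, pair_coe, mul_assoc, ← mul_assoc (refl Q v hv),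
    refl_mul_self, one_mul]

theorem pair_self (Q : QuadraticForm F (ι → F)) (u : ι → F) (hu : Q u ≠ 0) :
    pair Q u u hu hu = 1 := by
  apply Subtype.ext
  rw [pair_coe, refl_mul_self]
  rfl

theorem pair_inv (Q : QuadraticForm F (ι → F)) (u v : ι → F) (hu : Q u ≠ 0) (hv : Q v ≠ 0) :
    (pair Q u v hu hv)⁻¹ = pair Q v u hv hu := by
  apply inv_eq_of_mul_eq_one_right
  rw [pair_mul, pair_self]

theorem chi_same (Q : QuadraticForm F (ι → F)) (h2 : (2 : F) ≠ 0)
    (χ : ↥(Cfsg.specialIsometryGroup F ⇑Q) →* ℤˣ) {u v : ι → F} (hu : Q u ≠ 0) (hv : Q v ≠ 0)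
    {s : F} (hs : Q v = s * s * Q u) : χ (pair Q u v hu hv) = 1 := by
  obtain ⟨z, hz, hconj⟩ := exists_refl_conj_of_sq Q h2 hu hv hs
  have : pair Q u v hu hv = pair Q u z hu hz * pair Q u z hu hz := by
    apply Subtype.ext
    rw [Subgroup.coe_mul, pair_coe, pair_coe, ← hconj]
    simp only [mul_assoc]
  rw [this, map_mul, Int.units_mul_self]

variable [Fintype F]

theorem same_class {a b : F} (ha : a ≠ 0) (hab : IsSquare a ↔ IsSquare b) :
    ∃ s : F, b = s * s * a := by
  by_cases hsq : IsSquare a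
  · obtain ⟨r, hr⟩ := hsq
    obtain ⟨t, ht⟩ := hab.mp ⟨r, hr⟩
    have hr0 : r ≠ 0 := by
      rintro rfl; apply ha; rw [hr]; ring
    refine ⟨t / r, ?_⟩
    rw [hr, ht]; field_simp
  · have hb : ¬ IsSquare b := fun h => hsq (hab.mpr h)
    obtain ⟨c, hc⟩ := isSquare_mul_of_nonsq_of_nonsq hsq hb
    refine ⟨c / a, ?_⟩
    field_simp
    linear_combination hc

theorem prod_mem_closure (Q : QuadraticForm F (ι → F)) (n : ℕ) :
    ∀ vs : List (ι → F), vs.length = 2 * n → (∀ v ∈ vs, Q v ≠ 0) →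
      ∀ hmem : (vs.map (reflT Q)).prod ∈ Cfsg.specialIsometryGroup F ⇑Q,
        (⟨(vs.map (reflT Q)).prod, hmem⟩ : ↥(Cfsg.specialIsometryGroup F ⇑Q)) ∈
          Subgroup.closure {x : ↥(Cfsg.specialIsometryGroup F ⇑Q) |
            ∃ (u v : ι → F) (hu : Q u ≠ 0) (hv : Q v ≠ 0), x = pair Q u v hu hv} := by
  induction n with
  | zero =>
    intro vs hlen hvs hmem
    have : vs = [] := List.length_eq_zero_iff.mp (by omega)
    subst this
    exact Subgroup.one_mem _
  | succ n ih =>
    intro vs hlen hvs hmem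
    match vs, hlen, hvs, hmem with
    | [], hlen, _, _ => simp at hlen
    | [_], hlen, _, _ => simp at hlen; omega
    | u :: v :: rest, hlen, hvs, hmem =>
      have hu : Q u ≠ 0 := hvs u (by simp)
      have hv : Q v ≠ 0 := hvs v (by simp)
      have hrest : ∀ w ∈ rest, Q w ≠ 0 := fun w hw => hvs w (by simp [hw])
      have hlen' : rest.length = 2 * n := by
        simp only [List.length_cons] at hlen; omega
      have hmem' : (rest.map (reflT Q)).prod ∈ Cfsg.specialIsometryGroup F ⇑Q := by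
        rw [mem_SO_iff, prod_reflT_coe Q rest hrest, det_prod Q rest hrest, hlen', pow_mul]
        simp
      have heq : (⟨((u :: v :: rest).map (reflT Q)).prod, hmem⟩ :
          ↥(Cfsg.specialIsometryGroup F ⇑Q)) =
          pair Q u v hu hv * ⟨(rest.map (reflT Q)).prod, hmem'⟩ := by
        apply Subtype.ext
        rw [Subgroup.coe_mul, pair_coe]
        simp only [List.map_cons, List.prod_cons]
        rw [reflT_of_ne Q u hu, reflT_of_ne Q v hv, mul_assoc]
      rw [heq]
      exact Subgroup.mul_mem _ (Subgroup.subset_closure ⟨u, v, hu, hv, rfl⟩) (ih rest hlen' hrest hmem')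

theorem closure_pairs (h2 : (2 : F) ≠ 0) (Q : QuadraticForm F (ι → F))
    (hQ : (QuadraticMap.polarBilin Q).Nondegenerate) :
    Subgroup.closure {x : ↥(Cfsg.specialIsometryGroup F ⇑Q) |
      ∃ (u v : ι → F) (hu : Q u ≠ 0) (hv : Q v ≠ 0), x = pair Q u v hu hv} = ⊤ := by
  rw [eq_top_iff]
  rintro ⟨g, hg⟩ -
  obtain ⟨vs, hvs, hgprod⟩ := exists_list_reflT h2 Q hQ g
  have hdet := (mem_SO_iff Q g).mp hg
  rw [hgprod, prod_reflT_coe Q vs hvs, det_prod Q vs hvs] at hdet
  have heven : Even vs.length := by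
    rcases Nat.even_or_odd vs.length with h | h
    · exact h
    · rw [h.neg_one_pow] at hdet
      exfalso
      apply h2
      linear_combination -hdet
  obtain ⟨n, hn⟩ := heven
  have hmem : (vs.map (reflT Q)).prod ∈ Cfsg.specialIsometryGroup F ⇑Q := hgprod ▸ hg
  have := prod_mem_closure Q n vs (by omega) hvs hmem
  have heq : (⟨g, hg⟩ : ↥(Cfsg.specialIsometryGroup F ⇑Q)) = ⟨(vs.map (reflT Q)).prod, hmem⟩ :=
    Subtype.ext hgprod
  rw [heq]
  exact this

/-- A subgroup of index two of `SO(Q)` is the kernel of the spinor character. -/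
theorem eq_ker_theta (h2 : (2 : F) ≠ 0) (Q : QuadraticForm F (ι → F))
    (hQ : (QuadraticMap.polarBilin Q).Nondegenerate)
    (H : Subgroup ↥(Cfsg.specialIsometryGroup F ⇑Q)) (hH : H.index = 2) :
    H = ((theta Q).comp (Cfsg.specialIsometryGroup F ⇑Q).subtype).ker := by
  classical
  set χ := charOfIndexTwo H hH with hχ
  have hker : χ.ker = H := ker_charOfIndexTwo H hH
  have hneg : (-1 : ℤˣ) ≠ 1 := by decide
  -- step 1: some pair has value -1
  have hex : ∃ (u v : ι → F) (hu : Q u ≠ 0) (hv : Q v ≠ 0), χ (pair Q u v hu hv) = -1 := by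
    by_contra hcon
    push Not at hcon
    have h1 : χ = 1 := by
      apply MonoidHom.eq_of_eqOn_dense (closure_pairs h2 Q hQ)
      rintro x ⟨u, v, hu, hv, rfl⟩
      rcases Int.units_eq_one_or (χ (pair Q u v hu hv)) with h | h
      · simpa using h
      · exact absurd h (hcon u v hu hv)
    have h3 : H = ⊤ := by
      rw [← hker, h1]
      exact MonoidHom.ker_one
    rw [h3, Subgroup.index_top] at hH
    omega
  obtain ⟨u₀, v₀, hu₀, hv₀, h₀⟩ := hex
  -- step 2: normalise to (square, non-square)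
  have hex2 : ∃ (a b : ι → F) (ha : Q a ≠ 0) (hb : Q b ≠ 0), IsSquare (Q a) ∧ ¬ IsSquare (Q b) ∧
      χ (pair Q a b ha hb) = -1 := by
    by_cases hsu : IsSquare (Q u₀)
    · by_cases hsv : IsSquare (Q v₀)
      · exfalso
        obtain ⟨s, hs⟩ := same_class hu₀ (⟨fun _ => hsv, fun _ => hsu⟩ : IsSquare (Q u₀) ↔ IsSquare (Q v₀))
        rw [chi_same Q h2 χ hu₀ hv₀ hs] at h₀
        exact hneg h₀.symm
      · exact ⟨u₀, v₀, hu₀, hv₀, hsu, hsv, h₀⟩
    · by_cases hsv : IsSquare (Q v₀)
      · refine ⟨v₀, u₀, hv₀, hu₀, hsv, hsu, ?_⟩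
        rw [← pair_inv, map_inv, h₀]
        rfl
      · exfalso
        obtain ⟨s, hs⟩ := same_class hu₀
          (⟨fun h => absurd h hsu, fun h => absurd h hsv⟩ : IsSquare (Q u₀) ↔ IsSquare (Q v₀))
        rw [chi_same Q h2 χ hu₀ hv₀ hs] at h₀
        exact hneg h₀.symm
  obtain ⟨a, b, ha, hb, hasq, hbsq, hab⟩ := hex2
  -- step 3: value on (square, non-square) pairs
  have hmixed : ∀ (u v : ι → F) (hu : Q u ≠ 0) (hv : Q v ≠ 0), IsSquare (Q u) → ¬ IsSquare (Q v) →
      χ (pair Q u v hu hv) = -1 := by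
    intro u v hu hv hsu hsv
    obtain ⟨s, hs⟩ := same_class hu (⟨fun _ => hasq, fun _ => hsu⟩ : IsSquare (Q u) ↔ IsSquare (Q a))
    obtain ⟨t, ht⟩ := same_class hb
      (⟨fun h => absurd h hbsq, fun h => absurd h hsv⟩ : IsSquare (Q b) ↔ IsSquare (Q v))
    rw [← pair_mul Q u a v hu ha hv, ← pair_mul Q a b v ha hb hv, map_mul, map_mul,
      chi_same Q h2 χ hu ha hs, chi_same Q h2 χ hb hv ht, hab]
    rfl
  -- the characters agree
  have hchar : χ = (theta Q).comp (Cfsg.specialIsometryGroup F ⇑Q).subtype := by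
    apply MonoidHom.eq_of_eqOn_dense (closure_pairs h2 Q hQ)
    rintro x ⟨u, v, hu, hv, rfl⟩
    show χ (pair Q u v hu hv) = theta Q (refl Q u hu * refl Q v hv)
    rw [map_mul]
    by_cases hsu : IsSquare (Q u)
    · by_cases hsv : IsSquare (Q v)
      · obtain ⟨s, hs⟩ := same_class hu (⟨fun _ => hsv, fun _ => hsu⟩ : IsSquare (Q u) ↔ IsSquare (Q v))
        rw [chi_same Q h2 χ hu hv hs, (theta_refl Q h2 u hu).1 hsu, (theta_refl Q h2 v hv).1 hsv]
        rfl
      · rw [hmixed u v hu hv hsu hsv, (theta_refl Q h2 u hu).1 hsu, (theta_refl Q h2 v hv).2 hsv]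
        rfl
    · by_cases hsv : IsSquare (Q v)
      · rw [← pair_inv, map_inv, hmixed v u hv hu hsv hsu, (theta_refl Q h2 u hu).2 hsu,
          (theta_refl Q h2 v hv).1 hsv]
        rfl
      · obtain ⟨s, hs⟩ := same_class hu
          (⟨fun h => absurd h hsu, fun h => absurd h hsv⟩ : IsSquare (Q u) ↔ IsSquare (Q v))
        rw [chi_same Q h2 χ hu hv hs, (theta_refl Q h2 u hu).2 hsu, (theta_refl Q h2 v hv).2 hsv]
        rfl
  rw [← hker, hchar]

theorem existsUnique_odd (h2 : (2 : F) ≠ 0) (Q : QuadraticForm F (ι → F))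
    (hQ : (QuadraticMap.polarBilin Q).Nondegenerate) (hn : 2 ≤ Fintype.card ι) :
    ∃! H : Subgroup ↥(Cfsg.specialIsometryGroup F ⇑Q), H.index = 2 := by
  classical
  obtain ⟨a, ha1⟩ := exists_norm_eq h2 Q hQ hn 1
  obtain ⟨ε, hε⟩ := FiniteField.exists_nonsquare (ringChar_ne_two_of_two_ne_zero h2)
  obtain ⟨b, hbε⟩ := exists_norm_eq h2 Q hQ hn ε
  have ha : Q a ≠ 0 := by rw [ha1]; exact one_ne_zero
  have hb : Q b ≠ 0 := by
    rw [hbε]; rintro rfl; exact hε ⟨0, by simp⟩
  have hasq : IsSquare (Q a) := by rw [ha1]; exact ⟨1, by simp⟩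
  have hbsq : ¬ IsSquare (Q b) := by rw [hbε]; exact hε
  refine ⟨((theta Q).comp (Cfsg.specialIsometryGroup F ⇑Q).subtype).ker, ?_, ?_⟩
  · apply index_ker_eq_two _ (pair Q a b ha hb)
    show theta Q (refl Q a ha * refl Q b hb) = -1
    rw [map_mul, (theta_refl Q h2 a ha).1 hasq, (theta_refl Q h2 b hb).2 hbsq]
    rfl
  · intro H hH
    exact eq_ker_theta h2 Q hQ H hH

end odd

/-- Existence and uniqueness of Ω: if F is finite, n ≥ 2, Q is a quadratic form on F^n with non-degenerate polar form and (|F|, n) ≠ (2, 4), then the group of isometries of determinant one has a unique subgroup of index 2. -/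
theorem result {F : Type*} [Field F] [Fintype F] {n : ℕ} (hn : 2 ≤ n) (Q : QuadraticForm F (Fin n → F)) (hQ : (QuadraticMap.polarBilin Q).Nondegenerate) (h : Fintype.card F ≠ 2 ∨ n ≠ 4) : ∃! H : Subgroup ↥(Cfsg.specialIsometryGroup F ⇑Q), H.index = 2 := by
  by_cases h2 : (2 : F) = 0
  · haveI : CharP F 2 := CharTwo.of_one_ne_zero_of_two_eq_zero one_ne_zero h2
    have hidx : (commutator ↥(Cfsg.isometryGroup F ⇑Q)).index = 2 :=
      Cfsg.Agent.S0789.result hn Q hQ h
    have hO : ∃! H : Subgroup ↥(Cfsg.isometryGroup F ⇑Q), H.index = 2 :=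
      existsUnique_index_two_of_commutator hidx
    have hSO : Cfsg.specialIsometryGroup F ⇑Q = ⊤ := by
      rw [eq_top_iff]
      intro g _
      rw [mem_SO_iff]
      rcases (Cfsg.Agent.S0785.result Q hQ).1 g with hd | hd
      · exact hd
      · rw [hd]
        linear_combination -h2
    exact existsUnique_index_two_congr ((MulEquiv.subgroupCongr hSO).trans Subgroup.topEquiv) hO
  · exact existsUnique_odd h2 Q hQ (by simpa using hn)

end Cfsg.Agent.S0787
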