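import Cfsg.Statements.S2726
import Cfsg.Agent.Lib.Helper14_GODelta
import Cfsg.Agent.Lib.Helper14_POmegaSimple
import Cfsg.Agent.Lib.Helper44_FinSq

set_option autoImplicit false
open Cfsg

namespace Cfsg.Agent.S2726

/-- Let T = PΩ⁻_{2m+2}(F) with m ≥ 3 and |F| = q odd (form with anisotropic binary part). Inside Aut(T), the image G̃ of the conformal orthogonal group of the form modulo the image of the special orthogonal group is elementary abelian of order 4. -/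
theorem result {F : Type*} [Field F] [Fintype F] (hodd : Odd (Fintype.card F)) {m : ℕ} (hm : 3 ≤ m) (a b : F) (hab : (∀ z₁ z₂ : F, z₁ ^ 2 + a * z₁ * z₂ + b * z₂ ^ 2 = 0 → z₁ = 0 ∧ z₂ = 0)) :
    (∃ φ : ↥(Cfsg.pgoAut F (Cfsg.quadFormMinus m F a b)) →* Multiplicative (ZMod 2 × ZMod 2), Function.Surjective φ ∧ φ.ker = (Cfsg.psoAut F (Cfsg.quadFormMinus m F a b)).subgroupOf (Cfsg.pgoAut F (Cfsg.quadFormMinus m F a b))) := by
  have h2 : (2 : F) ≠ 0 := Cfsg.Agent.Lib.Helper44_FinSq.two_ne_zero_of_odd_card hodd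
  have hQ := Cfsg.Agent.Lib.Helper14_POmegaSimple.nondegenerate_qfMinus (F := F) m a b hab
  have hcard : Fintype.card ((Fin m ⊕ Fin m) ⊕ Fin 2) = 2 * (m + 1) := by
    rw [Fintype.card_sum, Fintype.card_sum, Fintype.card_fin, Fintype.card_fin]; ring
  obtain ⟨ε, hε⟩ := FiniteField.exists_nonsquare (Cfsg.Agent.Lib.Helper44_FinSq.ringChar_ne_two_of_two_ne_zero h2)
  have hε0 : ε ≠ 0 := by
    rintro rfl; exact hε ⟨0, by simp⟩
  obtain ⟨x, y, hxy⟩ := Cfsg.Agent.Lib.Helper14_GODelta.exists_bin_eq h2 a b hab ε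
  have hν : x ^ 2 + a * x * y + b * y ^ 2 ≠ 0 := by rw [hxy]; exact hε0
  have key := Cfsg.Agent.Lib.Helper14_GOChars.exists_hom_pgo_pso h2
    (Cfsg.Agent.Lib.Helper44_StdForms.qfMinus m F a b) hQ (by rw [hcard]; omega) hcard
  rw [Cfsg.Agent.Lib.Helper44_StdForms.coe_qfMinus] at key
  apply key
  refine ⟨⟨Cfsg.Agent.Lib.Helper14_GODelta.dMinusGL m a b x y hν,
    Cfsg.Agent.Lib.Helper14_GODelta.dMinusGL_mem m a b x y hν⟩, ?_⟩
  have hmu : Cfsg.Agent.Lib.Helper14_GOChars.mu (Cfsg.quadFormMinus m F a b)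
      ⟨Cfsg.Agent.Lib.Helper14_GODelta.dMinusGL m a b x y hν,
        Cfsg.Agent.Lib.Helper14_GODelta.dMinusGL_mem m a b x y hν⟩ = Units.mk0 _ hν := by
    apply Cfsg.Agent.Lib.Helper14_GOChars.mu_eq
    · refine ⟨(1 : F) • Pi.single (Sum.inr 0) 1 + (0 : F) • Pi.single (Sum.inr 1) 1, ?_⟩
      rw [Cfsg.Agent.Lib.Helper14_GODelta.quadFormMinus_bin]
      simp
    · intro v
      rw [Cfsg.Agent.Lib.Helper14_GODelta.dMinusGL_coe,
        Cfsg.Agent.Lib.Helper14_GODelta.quadFormMinus_dMinus, Units.val_mk0]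
  rw [hmu, Units.val_mk0, hxy]
  exact hε

end Cfsg.Agent.S2726
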