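import Cfsg.Statements.S2621
import Cfsg.Agent.Lib.Helper44_Disc
import Cfsg.Agent.Lib.Helper44_StdForms
import Cfsg.Agent.Lib.Helper44_FinSq

set_option autoImplicit false
open Cfsg

namespace Cfsg.Agent.S2621

open Cfsg.Agent.Lib.Helper44_Disc Cfsg.Agent.Lib.Helper44_StdForms Cfsg.Agent.Lib.Helper44_FinSq

theorem arith {q m : ℕ} (hq : Odd q) : Even (m * (q - 1) / 2) ↔ (Even m ∨ q % 4 ≠ 3) := by
  obtain ⟨t, rfl⟩ := hq
  have h1 : m * (2 * t + 1 - 1) / 2 = m * t := by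
    rw [Nat.add_sub_cancel, mul_comm 2 t, ← mul_assoc, Nat.mul_div_cancel _ (by norm_num : 0 < 2)]
  rw [h1, Nat.even_mul]
  have h2 : (2 * t + 1) % 4 ≠ 3 ↔ Even t := by
    rw [Nat.even_iff]; omega
  rw [h2]

/-- An anisotropic binary form `z₁² + a z₁ z₂ + c z₂²` in odd characteristic has non-square discriminant. -/
theorem disc_nonsq {F : Type*} [Field F] (h2 : (2 : F) ≠ 0) (a c : F)
    (hac : ∀ z₁ z₂ : F, z₁ ^ 2 + a * z₁ * z₂ + c * z₂ ^ 2 = 0 → z₁ = 0 ∧ z₂ = 0) :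
    ¬ IsSquare (a ^ 2 - 4 * c) := by
  rintro ⟨d, hd⟩
  have := hac ((-a + d) / 2) 1 (by
    have h4 : (4 : F) ≠ 0 := by
      have : (4 : F) = 2 * 2 := by norm_num
      rw [this]; exact mul_ne_zero h2 h2
    field_simp
    have : d * d = a ^ 2 - 4 * c := hd.symm
    linear_combination this)
  exact one_ne_zero this.2

/-- Discriminant of an elliptic quadratic form Σ_(i<m−1) x_i y_i + z₁² + a z₁z₂ + c z₂² (binary part anisotropic) in dimension 2m over a field with q elements, q odd, m ≥ 1: the determinant of the Gram matrix of its polar form in any basis is a square if and only if m(q − 1)/2 is odd (equivalently q^m ≡ 3 (mod 4)). -/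
theorem result {F : Type*} [Field F] [Fintype F] {q : ℕ} (hF : Fintype.card F = q) (hq : Odd q) {m : ℕ} (hm : 1 ≤ m) (a c : F) (hac : ∀ z₁ z₂ : F, z₁ ^ 2 + a * z₁ * z₂ + c * z₂ ^ 2 = 0 → z₁ = 0 ∧ z₂ = 0) {ι : Type*} [Fintype ι] [DecidableEq ι] (b : Module.Basis ι F ((Fin (m - 1) ⊕ Fin (m - 1)) ⊕ Fin 2 → F)) : IsSquare (Matrix.of (fun i j : ι => QuadraticMap.polar (Cfsg.quadFormMinus (m - 1) F a c) (b i) (b j))).det ↔ ¬ Even (m * (q - 1) / 2) := by
  classical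
  have h2F : (2 : F) ≠ 0 := two_ne_zero_of_odd_card (hF ▸ hq)
  have h1 : (Matrix.of (fun i j : ι => QuadraticMap.polar (Cfsg.quadFormMinus (m - 1) F a c) (b i) (b j)))
      = (Matrix.of (fun i j : ι => QuadraticMap.polar ⇑(qfMinus (m - 1) F a c) (b i) (b j))) := by
    rw [coe_qfMinus]
  rw [h1, isSquare_polar_gram_det_iff (qfMinus (m - 1) F a c) b
    (Pi.basisFun F ((Fin (m - 1) ⊕ Fin (m - 1)) ⊕ Fin 2))]
  have h2 : (Matrix.of (fun i j : (Fin (m - 1) ⊕ Fin (m - 1)) ⊕ Fin 2 =>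
      QuadraticMap.polar ⇑(qfMinus (m - 1) F a c)
      ((Pi.basisFun F ((Fin (m - 1) ⊕ Fin (m - 1)) ⊕ Fin 2)) i)
      ((Pi.basisFun F ((Fin (m - 1) ⊕ Fin (m - 1)) ⊕ Fin 2)) j))).det
      = (-1) ^ m * (a ^ 2 - 4 * c) := by
    rw [coe_qfMinus]
    simp only [Pi.basisFun_apply]
    rw [det_gram_quadFormMinus]
    obtain ⟨k, rfl⟩ : ∃ k, m = k + 1 := ⟨m - 1, by omega⟩
    simp only [Nat.add_sub_cancel]
    ring
  have hns := disc_nonsq h2F a c hac
  have hne : ((-1 : F)) ^ m ≠ 0 := pow_ne_zero _ (by simp)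
  rw [h2, isSquare_mul_nonsq_iff hne hns, arith hq, not_iff_not]
  rcases Nat.even_or_odd m with hm' | hm'
  · simp [hm'.neg_one_pow, hm']
  · rw [hm'.neg_one_pow, FiniteField.isSquare_neg_one_iff, hF]
    have : ¬ Even m := Nat.not_even_iff_odd.mpr hm'
    simp [this]

end Cfsg.Agent.S2621
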