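import Mathlib
import Cfsg.Statements.S0791
import Cfsg.Agent.Lib.Helper14_NegOne
import Cfsg.Agent.Lib.Helper44_StdForms
import Cfsg.Agent.Lib.Helper44_FinSq
import Cfsg.Agent.S2621

set_option autoImplicit false
open Cfsg

namespace Cfsg.Agent.S0791

open Cfsg.Agent.Lib.Helper44_StdForms Cfsg.Agent.Lib.Helper44_FinSq Cfsg.Agent.Lib.Helper14_NegOne

theorem arith {q m : ℕ} (hq : Odd q) : q ^ m % 4 = 3 ↔ ¬ (Even m ∨ q % 4 ≠ 3) := by
  have hq4 : q % 4 = 1 ∨ q % 4 = 3 := by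
    obtain ⟨t, rfl⟩ := hq; omega
  rw [Nat.pow_mod]
  rcases hq4 with h | h
  · rw [h]; simp
  · rw [h]
    rcases Nat.even_or_odd m with hm | hm
    · obtain ⟨k, rfl⟩ := hm
      have : 3 ^ (k + k) % 4 = 1 := by
        rw [← two_mul, pow_mul, Nat.pow_mod]; norm_num
      simp [this]
    · have hne : ¬ Even m := Nat.not_even_iff_odd.mpr hm
      obtain ⟨k, rfl⟩ := hm
      have : 3 ^ (2 * k + 1) % 4 = 3 := by
        rw [pow_succ, pow_mul, Nat.mul_mod, Nat.pow_mod]; norm_num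
      rw [this]
      simp [hne]

/-- nondegeneracy from a nonzero Gram determinant in the standard basis -/
theorem nondeg_of_gram_det_ne_zero {ι : Type} [Fintype ι] [DecidableEq ι] {F : Type*} [Field F]
    (Q : QuadraticForm F (ι → F))
    (h : (Matrix.of (fun i j : ι => QuadraticMap.polar (⇑Q) (Pi.single i 1) (Pi.single j 1))).det ≠ 0) :
    (QuadraticMap.polarBilin Q).Nondegenerate := by
  apply LinearMap.BilinForm.nondegenerate_of_det_ne_zero (QuadraticMap.polarBilin Q) (Pi.basisFun F ι)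
  convert h using 2
  ext i j
  simp [LinearMap.BilinForm.toMatrix_apply]

theorem result {F : Type*} [Field F] [Fintype F] {q : ℕ} (hF : Fintype.card F = q) (hodd : Odd q) (m : ℕ) (hm : 1 ≤ m) (a b : F) (hab : ∀ z₁ z₂ : F, z₁ ^ 2 + a * z₁ * z₂ + b * z₂ ^ 2 = 0 → z₁ = 0 ∧ z₂ = 0) : (∃ g : ↥(Cfsg.isometryGroup F (Cfsg.quadFormMinus (m - 1) F a b)), g ∈ Cfsg.Omega F (Cfsg.quadFormMinus (m - 1) F a b) ∧ ((g : Matrix.GeneralLinearGroup ((Fin (m - 1) ⊕ Fin (m - 1)) ⊕ Fin 2) F) : Matrix ((Fin (m - 1) ⊕ Fin (m - 1)) ⊕ Fin 2) ((Fin (m - 1) ⊕ Fin (m - 1)) ⊕ Fin 2) F) = -1) ↔ q ^ m % 4 = 3 := by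
  have h2 : (2 : F) ≠ 0 := two_ne_zero_of_odd_card (hF ▸ hodd)
  have hdet : (Matrix.of (fun i j : (Fin (m - 1) ⊕ Fin (m - 1)) ⊕ Fin 2 =>
      QuadraticMap.polar (⇑(qfMinus (m - 1) F a b)) (Pi.single i 1) (Pi.single j 1))).det
        = (-1) ^ (m - 1) * (4 * b - a ^ 2) := by
    rw [coe_qfMinus]; exact det_gram_quadFormMinus a b
  have hdisc : (4 * b - a ^ 2) ≠ 0 := by
    intro h0
    have := hab (-a) 2 (by linear_combination h0)
    exact h2 this.2
  have hQ : (QuadraticMap.polarBilin (qfMinus (m - 1) F a b)).Nondegenerate := by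
    apply nondeg_of_gram_det_ne_zero
    rw [hdet]
    exact mul_ne_zero (pow_ne_zero _ (by simp)) hdisc
  have heven : Even (Fintype.card ((Fin (m - 1) ⊕ Fin (m - 1)) ⊕ Fin 2)) := by
    simp only [Fintype.card_sum, Fintype.card_fin]
    exact ⟨m - 1 + 1, by ring⟩
  have key := exists_neg_one_mem_omega_iff h2 (qfMinus (m - 1) F a b) hQ heven
  rw [coe_qfMinus] at key
  rw [key]
  have := Cfsg.Agent.S2621.result hF hodd hm a b hab
    (Pi.basisFun F ((Fin (m - 1) ⊕ Fin (m - 1)) ⊕ Fin 2))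
  simp only [Pi.basisFun_apply] at this
  rw [this, Cfsg.Agent.S2621.arith hodd, arith hodd]

end Cfsg.Agent.S0791
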