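import Cfsg.Statements.S2727
import Cfsg.Agent.Lib.Helper14_OmegaIndex
import Cfsg.Agent.Lib.Helper14_POmegaSimple
import Cfsg.Agent.Lib.Helper44_FinSq
import Cfsg.Agent.S0791

set_option autoImplicit false
open Cfsg

namespace Cfsg.Agent.S2727

theorem arith3 {q m : ℕ} (hq : Odd q) : q ^ (m + 1) % 4 = 3 ↔ (Even m ∧ q % 4 = 3) := by
  have hq4 : q % 4 = 1 ∨ q % 4 = 3 := by
    obtain ⟨t, rfl⟩ := hq; omega
  rw [Nat.pow_mod]
  rcases hq4 with h | h
  · rw [h]; simp
  · rw [h]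
    rcases Nat.even_or_odd m with hm | hm
    · obtain ⟨k, rfl⟩ := hm
      have : 3 ^ (k + k + 1) % 4 = 3 := by
        rw [pow_succ, ← two_mul, pow_mul, Nat.mul_mod, Nat.pow_mod]; norm_num
      rw [this]
      simp
    · obtain ⟨k, rfl⟩ := hm
      have : 3 ^ (2 * k + 1 + 1) % 4 = 1 := by
        rw [show 2 * k + 1 + 1 = 2 * (k + 1) by ring, pow_mul, Nat.pow_mod]; norm_num
      rw [this]
      simp


/-- Let T = PΩ⁻_{2m+2}(F) with m ≥ 3 and |F| = q odd (form with anisotropic binary part). The image of the special orthogonal group in Aut(T) contains the inner automorphism group T with index 2 when m is even and q ≡ 3 (mod 4), and coincides with it otherwise (the index is 2 exactly when the discriminant of the form is a square). -/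
theorem result {F : Type*} [Field F] [Fintype F] (hodd : Odd (Fintype.card F)) {m : ℕ} (hm : 3 ≤ m) (a b : F) (hab : (∀ z₁ z₂ : F, z₁ ^ 2 + a * z₁ * z₂ + b * z₂ ^ 2 = 0 → z₁ = 0 ∧ z₂ = 0)) :
    ((Even m ∧ Fintype.card F % 4 = 3) → (Cfsg.Inn (Cfsg.POmega F (Cfsg.quadFormMinus m F a b))).relIndex (Cfsg.psoAut F (Cfsg.quadFormMinus m F a b)) = 2) ∧ (¬ (Even m ∧ Fintype.card F % 4 = 3) → (Cfsg.Inn (Cfsg.POmega F (Cfsg.quadFormMinus m F a b))).relIndex (Cfsg.psoAut F (Cfsg.quadFormMinus m F a b)) = 1) := by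
  have h2 : (2 : F) ≠ 0 := Cfsg.Agent.Lib.Helper44_FinSq.two_ne_zero_of_odd_card hodd
  have hQ := Cfsg.Agent.Lib.Helper14_POmegaSimple.nondegenerate_qfMinus (F := F) m a b hab
  have hcard : Fintype.card ((Fin m ⊕ Fin m) ⊕ Fin 2) = 2 * (m + 1) := by
    rw [Fintype.card_sum, Fintype.card_sum, Fintype.card_fin, Fintype.card_fin]; ring
  have key : (∃ g : ↥(Cfsg.isometryGroup F (Cfsg.quadFormMinus m F a b)),
      g ∈ Cfsg.Omega F (Cfsg.quadFormMinus m F a b) ∧
        ((g : Matrix.GeneralLinearGroup ((Fin m ⊕ Fin m) ⊕ Fin 2) F) :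
          Matrix ((Fin m ⊕ Fin m) ⊕ Fin 2) ((Fin m ⊕ Fin m) ⊕ Fin 2) F) = -1) ↔
      Fintype.card F ^ (m + 1) % 4 = 3 :=
    Cfsg.Agent.S0791.result (F := F) rfl hodd (m + 1) (by omega) a b hab
  rw [arith3 hodd, ← Cfsg.Agent.Lib.Helper44_StdForms.coe_qfMinus] at key
  have hneg : Cfsg.Agent.Lib.Helper44_Spinor.negOne (Cfsg.Agent.Lib.Helper44_StdForms.qfMinus m F a b) ∈
      Cfsg.Omega F (⇑(Cfsg.Agent.Lib.Helper44_StdForms.qfMinus m F a b)) ↔
      (Even m ∧ Fintype.card F % 4 = 3) := by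
    rw [← key]
    constructor
    · intro h
      exact ⟨_, h, Cfsg.Agent.Lib.Helper44_Spinor.negOne_coe _⟩
    · rintro ⟨g, hg, hcoe⟩
      have : g = Cfsg.Agent.Lib.Helper44_Spinor.negOne _ := by
        apply Subtype.ext
        apply Units.ext
        rw [hcoe, Cfsg.Agent.Lib.Helper44_Spinor.negOne_coe]
      rw [← this]; exact hg
  rw [← Cfsg.Agent.Lib.Helper44_StdForms.coe_qfMinus]
  constructor
  · intro h
    apply Cfsg.Agent.Lib.Helper14_OmegaIndex.relIndex_inn_pso h2 _ hQ (by rw [hcard]; omega)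
    rw [hneg]
    exact h
  · intro h
    have hn : Cfsg.Agent.Lib.Helper44_Spinor.negOne (Cfsg.Agent.Lib.Helper44_StdForms.qfMinus m F a b) ∉
        Cfsg.Omega F (⇑(Cfsg.Agent.Lib.Helper44_StdForms.qfMinus m F a b)) := by
      rw [hneg]
      exact h
    rw [Cfsg.Agent.Lib.Helper14_OmegaIndex.psoAut_eq_inn h2 _ hQ (by rw [hcard]; omega)
      (by rw [hcard]; exact even_two_mul _) hn, Subgroup.relIndex_self]

end Cfsg.Agent.S2727
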