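import Cfsg.Statements.S0749
import Cfsg.Agent.Lib.Helper94_Symp

set_option autoImplicit false
open Cfsg

namespace Cfsg.Agent.S0749

open Module Cfsg.Agent.Lib.Helper94_Symp

section
variable {F V : Type*} [Field F] [AddCommGroup V] [Module F V] [FiniteDimensional F V]

/-- Step: an isometry fixing `H` pointwise and moving `x` to `y`. -/
theorem exists_fix_move (B : LinearMap.BilinForm F V) (hB : B.Nondegenerate) (hA : B.IsAlt)
    (H : Submodule F V) (x y : V) (hx : x ∉ H) (hy : y ∉ H)
    (hxy : ∀ h ∈ H, B h y = B h x) :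
    ∃ g : V ≃ₗ[F] V, (∀ u v : V, B (g u) (g v) = B u v) ∧ (∀ h ∈ H, g h = h) ∧ g x = y := by
  have hrefl : B.IsRefl := hA.isRefl
  by_cases h0 : B x y ≠ 0
  · refine ⟨stv B hA (x - y) (B x y)⁻¹, stv_mem_isoGroup B hA _ _, ?_, stv_move B hA h0⟩
    intro h hh
    apply stv_fix
    rw [map_sub, hxy h hh, sub_self]
  · push Not at h0
    -- find `t ∈ H^⊥` with `B t x ≠ 0` and `B t y ≠ 0`
    have hex : ∀ z : V, z ∉ H → ∃ t ∈ B.orthogonal H, B t z ≠ 0 := by
      intro z hz
      by_contra hcon
      push Not at hcon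
      apply hz
      rw [← LinearMap.BilinForm.orthogonal_orthogonal hB hrefl H]
      intro t ht
      exact hcon t ht
    obtain ⟨t, htH, htx, hty⟩ := exists_both_ne_zero B (B.orthogonal H) (hex x hx) (hex y hy)
    -- intermediate vector `w = x + t`
    have hHt : ∀ h ∈ H, B h t = 0 := fun h hh => htH h hh
    have h1 : B x (x + t) ≠ 0 := by
      rw [map_add, hA x, zero_add]
      intro h; exact htx (hrefl _ _ h)
    have h2 : B (x + t) y ≠ 0 := by
      rw [map_add, LinearMap.add_apply, h0, zero_add]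
      exact hty
    refine ⟨stv B hA ((x + t) - y) (B (x + t) y)⁻¹ * stv B hA (x - (x + t)) (B x (x + t))⁻¹,
      Subgroup.mul_mem _ (stv_mem_isoGroup B hA _ _) (stv_mem_isoGroup B hA _ _), ?_, ?_⟩
    · intro h hh
      rw [LinearEquiv.mul_apply]
      have e1 : stv B hA (x - (x + t)) (B x (x + t))⁻¹ h = h := by
        apply stv_fix
        rw [map_sub, map_add, hHt h hh]; simp
      rw [e1]
      apply stv_fix
      rw [map_sub, map_add, hHt h hh, hxy h hh]; simp
    · rw [LinearEquiv.mul_apply, stv_move B hA h1, stv_move B hA h2]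

theorem witt_alt (B : LinearMap.BilinForm F V) (hB : B.Nondegenerate) (hA : B.IsAlt) (n : ℕ) :
    ∀ (X : Submodule F V), finrank F X = n → ∀ ψ : X →ₗ[F] V, Function.Injective ψ →
    (∀ x x' : X, B (ψ x) (ψ x') = B (x : V) (x' : V)) →
    ∃ g : V ≃ₗ[F] V, (∀ u v : V, B (g u) (g v) = B u v) ∧ ∀ x : X, g (x : V) = ψ x := by
  induction n with
  | zero =>
    intro X hX ψ _ _
    refine ⟨LinearEquiv.refl F V, fun u v => rfl, ?_⟩
    intro x
    have hX0 : X = ⊥ := Submodule.finrank_eq_zero.mp hX
    have hx0 : x = 0 := by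
      apply Subtype.ext
      have : (x : V) ∈ (⊥ : Submodule F V) := hX0 ▸ x.2
      simpa using this
    rw [hx0]; simp
  | succ n ih =>
    intro X hX ψ hψinj hψ
    have hXnt : Nontrivial X := Module.nontrivial_of_finrank_pos (R := F) (by omega)
    obtain ⟨x₀, hx₀⟩ := exists_ne (0 : X)
    obtain ⟨H', hH'⟩ := Submodule.exists_isCompl (Submodule.span F {x₀})
    have hH'n : finrank F H' = n := by
      have h1 := Submodule.finrank_add_eq_of_isCompl hH'
      rw [finrank_span_singleton hx₀, hX] at h1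
      omega
    set H : Submodule F V := H'.map X.subtype with hH
    have hHX : H ≤ X := Submodule.map_subtype_le X H'
    have hHn : finrank F H = n := by
      rw [hH, Submodule.finrank_map_subtype_eq]; exact hH'n
    have hmemH : ∀ z : X, (z : V) ∈ H ↔ z ∈ H' := by
      intro z
      rw [hH, Submodule.mem_map]
      constructor
      · rintro ⟨w, hw, hwz⟩
        have : w = z := Subtype.ext hwz
        rwa [← this]
      · intro hz; exact ⟨z, hz, rfl⟩
    have hx₀H' : x₀ ∉ H' := by
      intro h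
      have : x₀ ∈ Submodule.span F {x₀} ⊓ H' := ⟨Submodule.mem_span_singleton_self x₀, h⟩
      rw [hH'.inf_eq_bot] at this
      exact hx₀ ((Submodule.mem_bot F).mp this)
    -- induction hypothesis on `H`
    obtain ⟨g₀, hg₀iso, hg₀⟩ := ih H hHn (ψ.comp (Submodule.inclusion hHX))
      (hψinj.comp (Submodule.inclusion_injective hHX))
      (fun h h' => hψ _ _)
    have hg₀' : ∀ z : X, z ∈ H' → g₀ (z : V) = ψ z := by
      intro z hz
      have := hg₀ ⟨(z : V), (hmemH z).mpr hz⟩
      have e : (Submodule.inclusion hHX) ⟨(z : V), (hmemH z).mpr hz⟩ = z := Subtype.ext rfl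
      rw [LinearMap.comp_apply, e] at this
      exact this
    set y : V := g₀.symm (ψ x₀) with hy
    have hg₀y : g₀ y = ψ x₀ := by rw [hy]; simp
    have hxH : (x₀ : V) ∉ H := fun h => hx₀H' ((hmemH x₀).mp h)
    have hyH : y ∉ H := by
      intro h
      obtain ⟨w, hw, hwy⟩ := h
      have h1 : g₀ (w : V) = ψ w := hg₀' w hw
      have hwy' : (w : V) = y := hwy
      rw [hwy', hg₀y] at h1
      have : x₀ = w := hψinj h1
      exact hx₀H' (this ▸ hw)
    have hxy : ∀ h ∈ H, B h y = B h (x₀ : V) := by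
      rintro _ ⟨w, hw, rfl⟩
      have h1 := hg₀iso (w : V) y
      rw [hg₀' w hw, hg₀y, hψ] at h1
      exact h1.symm
    obtain ⟨g₁, hg₁iso, hg₁H, hg₁x⟩ := exists_fix_move B hB hA H (x₀ : V) y hxH hyH hxy
    refine ⟨g₁.trans g₀, ?_, ?_⟩
    · intro u v
      simp only [LinearEquiv.trans_apply]
      rw [hg₀iso, hg₁iso]
    · intro z
      have hz : z ∈ Submodule.span F {x₀} ⊔ H' := by rw [hH'.sup_eq_top]; trivial
      obtain ⟨l, hl, h', hh', rfl⟩ := Submodule.mem_sup.mp hz
      obtain ⟨c, rfl⟩ := Submodule.mem_span_singleton.mp hl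
      simp only [LinearEquiv.trans_apply, Submodule.coe_add, Submodule.coe_smul, map_add,
        map_smul]
      rw [hg₁x, hg₁H _ ((hmemH h').mpr hh'), hg₀y, hg₀' h' hh']

end

/-- Witt's Lemma for alternating forms. If B is a non-degenerate alternating bilinear form on a finite-dimensional vector space V (over any field) and φ is a linear equivalence between subspaces X and Y of V preserving B, then φ extends to a B-preserving linear automorphism of V. -/
theorem result {F V : Type*} [Field F] [AddCommGroup V] [Module F V] [FiniteDimensional F V] (B : LinearMap.BilinForm F V) (hB : B.Nondegenerate) (hA : B.IsAlt) (X Y : Submodule F V) (φ : X ≃ₗ[F] Y) (hφ : ∀ x x' : X, B (φ x : V) (φ x' : V) = B (x : V) (x' : V)) : ∃ g : V ≃ₗ[F] V, (∀ u v : V, B (g u) (g v) = B u v) ∧ ∀ x : X, g (x : V) = (φ x : V) := by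
  obtain ⟨g, hg1, hg2⟩ := witt_alt B hB hA _ X rfl (Y.subtype.comp (φ : X →ₗ[F] Y))
    (Y.subtype_injective.comp φ.injective) (fun x x' => hφ x x')
  exact ⟨g, hg1, fun x => hg2 x⟩

end Cfsg.Agent.S0749
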