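import Cfsg.Statements.S2728
import Cfsg.Agent.Lib.Helper14_GODihedral
import Cfsg.Agent.Lib.Helper14_GODelta
import Cfsg.Agent.Lib.Helper14_NegOneStd
import Cfsg.Agent.S2726

set_option autoImplicit false
open Cfsg

namespace Cfsg.Agent.S2728

/-- Let T = PΩ⁻_{2m+2}(F) with m ≥ 3 and |F| = q odd (form with anisotropic binary part). The image G̃ of the conformal orthogonal group in Aut(T), taken modulo the inner automorphism group T, is dihedral of order 8 when m is even and q ≡ 3 (mod 4), and elementary abelian of order 4 otherwise. -/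
theorem result {F : Type*} [Field F] [Fintype F] (hodd : Odd (Fintype.card F)) {m : ℕ} (hm : 3 ≤ m) (a b : F) (hab : (∀ z₁ z₂ : F, z₁ ^ 2 + a * z₁ * z₂ + b * z₂ ^ 2 = 0 → z₁ = 0 ∧ z₂ = 0)) :
    ((Even m ∧ Fintype.card F % 4 = 3) → (∃ φ : ↥(Cfsg.pgoAut F (Cfsg.quadFormMinus m F a b)) →* DihedralGroup 4, Function.Surjective φ ∧ φ.ker = (Cfsg.Inn (Cfsg.POmega F (Cfsg.quadFormMinus m F a b))).subgroupOf (Cfsg.pgoAut F (Cfsg.quadFormMinus m F a b)))) ∧ (¬ (Even m ∧ Fintype.card F % 4 = 3) → (∃ φ : ↥(Cfsg.pgoAut F (Cfsg.quadFormMinus m F a b)) →* Multiplicative (ZMod 2 × ZMod 2), Function.Surjective φ ∧ φ.ker = (Cfsg.Inn (Cfsg.POmega F (Cfsg.quadFormMinus m F a b))).subgroupOf (Cfsg.pgoAut F (Cfsg.quadFormMinus m F a b)))) := by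
  have h2 : (2 : F) ≠ 0 := Cfsg.Agent.Lib.Helper44_FinSq.two_ne_zero_of_odd_card hodd
  have hQ := Cfsg.Agent.Lib.Helper14_POmegaSimple.nondegenerate_qfMinus (F := F) m a b hab
  have hcard : Fintype.card ((Fin m ⊕ Fin m) ⊕ Fin 2) = 2 * (m + 1) := by
    rw [Fintype.card_sum, Fintype.card_sum, Fintype.card_fin, Fintype.card_fin]; ring
  have hneg := Cfsg.Agent.Lib.Helper14_NegOneStd.negOne_mem_minus_iff (F := F) hodd m a b hab
  constructor
  · intro h
    obtain ⟨ε, hε⟩ := FiniteField.exists_nonsquare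
      (Cfsg.Agent.Lib.Helper44_FinSq.ringChar_ne_two_of_two_ne_zero h2)
    have hε0 : ε ≠ 0 := by
      rintro rfl; exact hε ⟨0, by simp⟩
    obtain ⟨x, y, hxy⟩ := Cfsg.Agent.Lib.Helper14_GODelta.exists_bin_eq h2 a b hab ε
    have hν : x ^ 2 + a * x * y + b * y ^ 2 ≠ 0 := by rw [hxy]; exact hε0
    have hmem : Cfsg.Agent.Lib.Helper14_GODelta.dMinusGL m a b x y hν ∈
        Cfsg.Agent.Lib.Helper14_AutOmega.GO (⇑(Cfsg.Agent.Lib.Helper44_StdForms.qfMinus m F a b)) := by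
      rw [Cfsg.Agent.Lib.Helper44_StdForms.coe_qfMinus]
      exact Cfsg.Agent.Lib.Helper14_GODelta.dMinusGL_mem m a b x y hν
    have hmu : Cfsg.Agent.Lib.Helper14_GOChars.mu (⇑(Cfsg.Agent.Lib.Helper44_StdForms.qfMinus m F a b))
        ⟨Cfsg.Agent.Lib.Helper14_GODelta.dMinusGL m a b x y hν, hmem⟩ = Units.mk0 _ hν := by
      apply Cfsg.Agent.Lib.Helper14_GOChars.mu_eq
      · obtain ⟨v, hv⟩ := Cfsg.Agent.Lib.Helper14_OrthChars.exists_norm_eq h2 _ hQ
          (by rw [hcard]; omega) 1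
        exact ⟨v, by rw [hv]; exact one_ne_zero⟩
      · intro v
        rw [Cfsg.Agent.Lib.Helper14_GODelta.dMinusGL_coe, Cfsg.Agent.Lib.Helper44_StdForms.coe_qfMinus,
          Cfsg.Agent.Lib.Helper14_GODelta.quadFormMinus_dMinus, Units.val_mk0]
    have key := Cfsg.Agent.Lib.Helper14_GODihedral.exists_hom_pgo_inn_dihedral h2
      (Cfsg.Agent.Lib.Helper44_StdForms.qfMinus m F a b) hQ (by rw [hcard]; omega) hcard
      (by rw [hneg]; exact h)
      ⟨Cfsg.Agent.Lib.Helper14_GODelta.dMinusGL m a b x y hν, hmem⟩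
      (by rw [hmu, Units.val_mk0, hxy]; exact hε)
      (Cfsg.Agent.Lib.Helper14_GODelta.dMinusGL_sq_mem m a b x y hν)
    rw [Cfsg.Agent.Lib.Helper44_StdForms.coe_qfMinus] at key
    exact key
  · intro h
    have hn : Cfsg.Agent.Lib.Helper44_Spinor.negOne (Cfsg.Agent.Lib.Helper44_StdForms.qfMinus m F a b) ∉
        Cfsg.Omega F (⇑(Cfsg.Agent.Lib.Helper44_StdForms.qfMinus m F a b)) := by
      rw [hneg]
      exact h
    have hpso := Cfsg.Agent.Lib.Helper14_OmegaIndex.psoAut_eq_inn h2 _ hQ (by rw [hcard]; omega)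
      (by rw [hcard]; exact even_two_mul _) hn
    rw [Cfsg.Agent.Lib.Helper44_StdForms.coe_qfMinus] at hpso
    have := Cfsg.Agent.S2726.result (F := F) hodd hm a b hab
    rw [hpso] at this
    exact this

end Cfsg.Agent.S2728
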