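import Cfsg.Statements.S2623
import Cfsg.Agent.Lib.Helper44_NormalForm
import Cfsg.Agent.Lib.Helper44_Disc
import Cfsg.Agent.Lib.Helper44_FinSq

set_option autoImplicit false
open Cfsg

namespace Cfsg.Agent.S2623

open Module Cfsg.Agent.Lib.Helper44_NormalForm Cfsg.Agent.Lib.Helper44_Disc
  Cfsg.Agent.Lib.Helper44_FinSq Cfsg.Agent.Lib.Helper44_QuadClass

variable {F : Type*} [Field F]

theorem gram_det_ne_zero {n : ℕ} (Q : QuadraticForm F (Fin n → F))
    (h : (QuadraticMap.polarBilin Q).Nondegenerate) :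
    (Matrix.of (fun i j : Fin n =>
      QuadraticMap.polar ⇑Q (Pi.single i 1) (Pi.single j 1))).det ≠ 0 := by
  have := (LinearMap.BilinForm.nondegenerate_iff_det_ne_zero (Pi.basisFun F (Fin n))).mp h
  convert this using 2
  ext i j
  simp [LinearMap.BilinForm.toMatrix_apply]

theorem gram_family {V : Type*} [AddCommGroup V] [Module F V] (Q : QuadraticForm F V) {k : ℕ}
    (w : Fin (k + 1) → V) (horth : ∀ i j, i ≠ j → QuadraticMap.polar (⇑Q) (w i) (w j) = 0) :
    (Matrix.of fun i j => QuadraticMap.polarBilin Q (w i) (w j))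
      = Matrix.diagonal (fun i => 2 * Q (w i)) := by
  ext i j
  by_cases hij : i = j
  · subst hij
    simp
  · simp [Matrix.diagonal_apply_ne _ hij, horth i j hij]

theorem det_family {V : Type*} [AddCommGroup V] [Module F V] (Q : QuadraticForm F V) {k : ℕ}
    (w : Fin (k + 1) → V) (horth : ∀ i j, i ≠ j → QuadraticMap.polar (⇑Q) (w i) (w j) = 0)
    (hone : ∀ i, i ≠ Fin.last k → Q (w i) = 1) :
    (Matrix.of fun i j => QuadraticMap.polarBilin Q (w i) (w j)).det
      = 2 ^ (k + 1) * Q (w (Fin.last k)) := by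
  rw [gram_family Q w horth, Matrix.det_diagonal, Fin.prod_univ_castSucc]
  have : ∀ i : Fin k, 2 * Q (w (Fin.castSucc i)) = 2 := by
    intro i
    rw [hone _ (Fin.castSucc_lt_last i).ne, mul_one]
  simp only [this, Finset.prod_const, Finset.card_univ, Fintype.card_fin]
  ring

theorem result {F : Type*} [Field F] [Fintype F] (h2 : (2 : F) ≠ 0) {n : ℕ} (Q₁ Q₂ : QuadraticForm F (Fin n → F)) (h₁ : (QuadraticMap.polarBilin Q₁).Nondegenerate) (h₂ : (QuadraticMap.polarBilin Q₂).Nondegenerate) : (∃ g : (Fin n → F) ≃ₗ[F] (Fin n → F), ∀ v, Q₂ (g v) = Q₁ v) ↔ IsSquare ((Matrix.of (fun i j : Fin n => QuadraticMap.polar ⇑Q₁ (Pi.single i 1) (Pi.single j 1))).det * (Matrix.of (fun i j : Fin n => QuadraticMap.polar ⇑Q₂ (Pi.single i 1) (Pi.single j 1))).det) := by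
  classical
  have hd₁ := gram_det_ne_zero Q₁ h₁
  have hd₂ := gram_det_ne_zero Q₂ h₂
  rw [isSquare_mul_iff_iff hd₁ hd₂]
  constructor
  · rintro ⟨g, hg⟩
    have hpol : ∀ v w, QuadraticMap.polar ⇑Q₂ (g v) (g w) = QuadraticMap.polar ⇑Q₁ v w := by
      intro v w
      simp only [QuadraticMap.polar]
      rw [← map_add, hg, hg, hg]
    have key := isSquare_polar_gram_det_iff Q₂ ((Pi.basisFun F (Fin n)).map g)
      (Pi.basisFun F (Fin n))
    simp only [Basis.map_apply, Pi.basisFun_apply, hpol] at key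
    exact key
  · intro hiff
    obtain _ | k := n
    · refine ⟨LinearEquiv.refl F _, fun v => ?_⟩
      have hv : v = 0 := Subsingleton.elim _ _
      rw [hv, map_zero, map_zero, map_zero]
    · have hdim : finrank F (Fin (k + 1) → F) = k + 1 := by simp
      obtain ⟨w₁, horth₁, hone₁, hlast₁⟩ := normal_family h2 k (Fin (k + 1) → F) Q₁ hdim h₁
      obtain ⟨w₂, horth₂, hone₂, hlast₂⟩ := normal_family h2 k (Fin (k + 1) → F) Q₂ hdim h₂
      have hdet₁ := det_family Q₁ w₁ horth₁ hone₁
      have hdet₂ := det_family Q₂ w₂ horth₂ hone₂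
      have hc : (2 : F) ^ (k + 1) ≠ 0 := pow_ne_zero _ h2
      obtain ⟨b₁, hb₁⟩ := exists_basis_of_gram (QuadraticMap.polarBilin Q₁) w₁
        (by rw [hdet₁]; exact mul_ne_zero hc hlast₁) (by simp)
      obtain ⟨b₂, hb₂⟩ := exists_basis_of_gram (QuadraticMap.polarBilin Q₂) w₂
        (by rw [hdet₂]; exact mul_ne_zero hc hlast₂) (by simp)
      have e₁ := isSquare_polar_gram_det_iff Q₁ b₁ (Pi.basisFun F (Fin (k + 1)))
      have e₂ := isSquare_polar_gram_det_iff Q₂ b₂ (Pi.basisFun F (Fin (k + 1)))
      simp only [hb₁, Pi.basisFun_apply] at e₁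
      simp only [hb₂, Pi.basisFun_apply] at e₂
      simp only [QuadraticMap.polarBilin_apply_apply] at hdet₁ hdet₂
      rw [hdet₁] at e₁
      rw [hdet₂] at e₂
      have hiff' : IsSquare ((2 : F) ^ (k + 1) * Q₁ (w₁ (Fin.last k))) ↔
          IsSquare ((2 : F) ^ (k + 1) * Q₂ (w₂ (Fin.last k))) := by
        rw [e₁, e₂]; exact hiff
      rw [← isSquare_mul_iff_iff (mul_ne_zero hc hlast₁) (mul_ne_zero hc hlast₂)] at hiff'
      obtain ⟨r, hr⟩ := hiff'
      set c : F := (2 : F) ^ (k + 1) with hcdef
      set d₁ := Q₁ (w₁ (Fin.last k)) with hd₁def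
      set d₂ := Q₂ (w₂ (Fin.last k)) with hd₂def
      set s : F := r / (c * d₂) with hsdef
      have hs : s * s * d₂ = d₁ := by
        rw [hsdef, div_mul_div_comm, ← hr]
        field_simp
      refine isometry_of_basis b₁ Q₁ Q₂ h₁
        (fun j => if j = Fin.last k then s • w₂ j else w₂ j) ?_ ?_
      · intro j
        by_cases hj : j = Fin.last k
        · subst hj
          simp only [if_true, hb₁, QuadraticMap.map_smul, smul_eq_mul]
          exact hs
        · simp only [if_neg hj, hb₁]
          rw [hone₁ j hj, hone₂ j hj]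
      · intro i j
        by_cases hij : i = j
        · subst hij
          rw [polar_self', polar_self']
          congr 1
          by_cases hj : i = Fin.last k
          · subst hj
            simp only [if_true, hb₁, QuadraticMap.map_smul, smul_eq_mul]
            exact hs
          · simp only [if_neg hj, hb₁]
            rw [hone₁ i hj, hone₂ i hj]
        · rw [hb₁, horth₁ i j hij]
          by_cases hi : i = Fin.last k <;> by_cases hj : j = Fin.last k
          · exact absurd (hi.trans hj.symm) hij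
          · simp only [if_pos hi, if_neg hj, QuadraticMap.polar_smul_left, horth₂ i j hij,
              smul_zero]
          · simp only [if_neg hi, if_pos hj, QuadraticMap.polar_smul_right, horth₂ i j hij,
              smul_zero]
          · simp only [if_neg hi, if_neg hj, horth₂ i j hij]

end Cfsg.Agent.S2623
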