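import Cfsg.Statements.S0319
import Cfsg.Agent.Lib.Helper6_BNPairC

set_option autoImplicit false
open Cfsg

namespace Cfsg.Agent.S0319

open Cfsg.Agent.Lib.Helper6_BNPair Cfsg.Agent.Lib.Helper6_Word

/-- two distinct distinguished generators: the product has length two -/
theorem len_mul_eq_two {G : Type*} [Group G] (P : Cfsg.BNPair G) {σ₁ σ₂ : P.N}
    (h1 : (σ₁ : G) ∈ P.S) (h2 : (σ₂ : G) ∈ P.S) (hne : (σ₁ : G) ≠ σ₂) :
    len (SW P) (π P σ₁ * π P σ₂) = 2 := by
  have hs1 : IsSimple P σ₁ := isSimple_of_mem P h1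
  have hs2 : IsSimple P σ₂ := isSimple_of_mem P h2
  have hl2 : len (SW P) (π P σ₂) = 1 :=
    len_simple (invGen P) hs2 (fun h => one_not_mem_SW P (h ▸ hs2))
  rcases len_simple_mul_cases (invGen P) (exchange P) hs1 (π P σ₂) with h | h
  · rw [h, hl2]
  · exfalso
    rw [hl2] at h
    have h0 : len (SW P) (π P σ₁ * π P σ₂) = 0 := by omega
    rw [len_eq_zero_iff (invGen P)] at h0
    have h3 : π P σ₁ = π P σ₂ := by
      have := mul_eq_one_iff_eq_inv.1 h0
      rw [this, inv_eq_of_sq hs2.sq]
    exact hne (P.inj _ h1 _ h2 ((π_eq_iff P).1 h3))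

/-- Let `H` be a normal subgroup and `J` the set of distinguished generators lying in `B H`.
Then the elements of `J` commute, modulo `B ∩ N`, with the elements of `S \ J`. -/
theorem comm_mem_B {G : Type*} [Group G] (P : Cfsg.BNPair G) (H : Subgroup G) [hH : H.Normal]
    {s₁ s₂ : G} (h1 : s₁ ∈ P.S ∩ ((P.B ⊔ H : Subgroup G) : Set G))
    (h2 : s₂ ∈ P.S \ (P.S ∩ ((P.B ⊔ H : Subgroup G) : Set G))) :
    s₁ * s₂ * s₁⁻¹ * s₂⁻¹ ∈ P.B := by
  set M : Subgroup G := P.B ⊔ H with hMdef
  set J : Set G := P.S ∩ (M : Set G) with hJdef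
  have hM : P.B ≤ M := le_sup_left
  have hJ : J ⊆ P.S := Set.inter_subset_left
  have hMJ : M = P.parabolic J := subgroup_eq_parabolic P hM
  have hs1S : s₁ ∈ P.S := h1.1
  have hs2S : s₂ ∈ P.S := h2.1
  have hs2J : s₂ ∉ J := h2.2
  have hne : s₁ ≠ s₂ := fun h => hs2J (h ▸ h1)
  obtain ⟨b, hb, h, hh, hbh⟩ := Subgroup.mem_sup_of_normal_right.1 (show s₁ ∈ P.B ⊔ H from h1.2)
  -- `h = b⁻¹ s₁`
  have hh' : s₂ * (b⁻¹ * s₁) * s₂⁻¹ ∈ P.parabolic J := by
    rw [← hMJ]
    apply (le_sup_right : H ≤ M)
    have : b⁻¹ * s₁ = h := by rw [← hbh]; group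
    rw [this]
    exact hH.conj_mem h hh s₂
  obtain ⟨m, hmJ, hm⟩ := (mem_parabolic_iff P hJ _).1 hh'
  have hmN : m ∈ P.N := closure_le_N P hJ hmJ
  set σ₁ : P.N := ⟨s₁, P.subset hs1S⟩ with hσ₁
  set σ₂ : P.N := ⟨s₂, P.subset hs2S⟩ with hσ₂
  have hs1 : IsSimple P σ₁ := isSimple_of_mem P hs1S
  have hs2 : IsSimple P σ₂ := isSimple_of_mem P hs2S
  have hl1 : len (SW P) (π P σ₁) = 1 :=
    len_simple (invGen P) hs1 (fun h => one_not_mem_SW P (h ▸ hs1))
  have hl21 : len (SW P) (π P σ₂ * π P σ₁) = 2 :=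
    len_mul_eq_two P hs2S hs1S (Ne.symm hne)
  have hl12 : len (SW P) (π P σ₁ * π P σ₂) = 2 :=
    len_mul_eq_two P hs1S hs2S hne
  have hle : ℓ P σ₁ ≤ ℓ P (σ₂ * σ₁) := by
    unfold ℓ; rw [map_mul, hl1, hl21]; omega
  have hmem1 := simple_mul_mem_of_le P hs2 hle (P.B.inv_mem hb)
  obtain ⟨x, hx, y, hy, hxy⟩ := (mem_C P).1 hmem1
  have hmem2 := T3_right P hs2.inv (σ₂ * σ₁) hy
  have e : s₂ * (b⁻¹ * s₁) * s₂⁻¹ = x * (((σ₂ * σ₁ : P.N) : G) * y * ((σ₂⁻¹ : P.N) : G)) := by
    have : s₂ * (b⁻¹ * s₁) * s₂⁻¹ = ((σ₂ : G) * b⁻¹ * (σ₁ : G)) * s₂⁻¹ := by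
      simp only [hσ₁, hσ₂]; group
    rw [this, hxy]
    simp only [hσ₁, hσ₂, Subgroup.coe_mul, Subgroup.coe_inv]; group
  rw [e] at hm
  have hw1J : π P σ₁ ∈ Subgroup.closure (JW P J) :=
    Subgroup.subset_closure ⟨σ₁, h1, rfl⟩
  have hs2notJ : π P σ₂ ∉ Subgroup.closure (JW P J) := fun hc =>
    hs2J (mem_of_π_mem_closure_JW P hJ (s := σ₂) hs2S hc)
  have hπm : π P ⟨m, hmN⟩ ∈ Subgroup.closure (JW P J) := π_mem_closure_JW P hJ hmJ
  rcases hmem2 with hc | hc
  · -- `w₂ w₁ w₂ ∈ W_J`
    have h3 : π P ((σ₂ * σ₁) * σ₂⁻¹) = π P ⟨m, hmN⟩ :=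
      (C_eq_iff P).1 (C_eq_of_mem_of_mem P (mem_C_mul_left P hx hc) hm)
    rw [map_mul, map_mul, hs2.π_inv] at h3
    rw [← h3] at hπm
    rcases len_simple_mul_cases (invGen P) (exchange P) hs2 (π P σ₁ * π P σ₂) with h4 | h4
    · -- the word is reduced
      exfalso
      have hred : IsReduced (SW P) [π P σ₂, π P σ₁, π P σ₂] := by
        constructor
        · intro z hz
          simp only [List.mem_cons, List.not_mem_nil, or_false] at hz
          rcases hz with rfl | rfl | rfl
          · exact hs2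
          · exact hs1
          · exact hs2
        · simp only [List.length_cons, List.length_nil, List.prod_cons, List.prod_nil, mul_one]
          rw [h4, hl12]
      have hmem : [π P σ₂, π P σ₁, π P σ₂].prod ∈ Subgroup.closure (JW P J) := by
        simp only [List.prod_cons, List.prod_nil, mul_one]
        rw [← mul_assoc]; exact hπm
      have := isWord_of_reduced_of_mem_closure (invGen P) (exchange P) (one_not_mem_SW P)
        (JW_subset_SW P hJ) _ hred hmem
      exact hs2notJ (Subgroup.subset_closure (this _ (by simp)))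
    · -- exchange
      have hred : IsReduced (SW P) [π P σ₁, π P σ₂] := by
        constructor
        · intro z hz
          simp only [List.mem_cons, List.not_mem_nil, or_false] at hz
          rcases hz with rfl | rfl
          · exact hs1
          · exact hs2
        · simp only [List.length_cons, List.length_nil, List.prod_cons, List.prod_nil, mul_one]
          rw [hl12]
      have hle' : len (SW P) (π P σ₂ * [π P σ₁, π P σ₂].prod) ≤ len (SW P) [π P σ₁, π P σ₂].prod := by
        simp only [List.prod_cons, List.prod_nil, mul_one]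
        omega
      obtain ⟨i, hi, hi'⟩ := exchange P _ hs2 _ hred hle'
      simp only [List.length_cons, List.length_nil] at hi
      have hi2 : i = 0 ∨ i = 1 := by omega
      rcases hi2 with rfl | rfl
      · exfalso
        simp only [List.prod_cons, List.prod_nil, mul_one, List.eraseIdx_zero, List.tail_cons] at hi'
        have h5 : π P σ₁ * π P σ₂ = 1 := by
          have := mul_left_cancel (a := π P σ₂) (b := π P σ₁ * π P σ₂) (c := 1) (by rw [mul_one]; exact hi')
          exact this
        rw [h5, len_one] at hl12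
        omega
      · simp only [List.prod_cons, List.prod_nil, mul_one, List.eraseIdx_cons_succ,
          List.eraseIdx_zero, List.tail_cons] at hi'
        -- `w₂ w₁ w₂ = w₁`
        have h6 : π P (σ₁ * σ₂ * σ₁⁻¹ * σ₂⁻¹) = 1 := by
          rw [map_mul, map_mul, map_mul, hs1.π_inv, hs2.π_inv, mul_assoc, mul_assoc, hi', hs1.sq]
        exact (π_eq_one_iff P).1 h6
  · -- `w₂ w₁ ∈ W_J`: impossible
    exfalso
    have h3 : π P (σ₂ * σ₁) = π P ⟨m, hmN⟩ :=
      (C_eq_iff P).1 (C_eq_of_mem_of_mem P (mem_C_mul_left P hx hc) hm)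
    rw [map_mul] at h3
    rw [← h3] at hπm
    apply hs2notJ
    have : π P σ₂ = (π P σ₂ * π P σ₁) * (π P σ₁)⁻¹ := by group
    rw [this]
    exact Subgroup.mul_mem _ hπm (Subgroup.inv_mem _ hw1J)


/-- Simplicity criterion for groups with a (B,N)-pair: if the distinguished generators admit no
splitting into two non-empty mutually commuting parts, `B` is solvable, `G` is perfect and the intersection
of all conjugates of `B` is trivial, then `G` is simple. -/
theorem result {G : Type*} [Group G] [Nontrivial G]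
    (P : Cfsg.BNPair G) (hirr : P.Irreducible) (hsolv : Group.IsSolvable P.B) (hperf : commutator G = ⊤)
    (hcore : P.B.normalCore = ⊥) : IsSimpleGroup G := by
  refine ⟨fun H hH => ?_⟩
  set M : Subgroup G := P.B ⊔ H with hMdef
  set J : Set G := P.S ∩ (M : Set G) with hJdef
  have hM : P.B ≤ M := le_sup_left
  have hMJ : M = P.parabolic J := subgroup_eq_parabolic P hM
  by_cases hJne : J.Nonempty
  · by_cases hJc : (P.S \ J).Nonempty
    · exfalso
      obtain ⟨s, hs, s', hs', hnot⟩ := hirr J Set.inter_subset_left hJne hJc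
      exact hnot (comm_mem_B P H hs hs')
    · -- `J = S`, so `B H = G`
      right
      have hSJ : P.S ⊆ J := by
        intro s hs
        by_contra hsJ
        exact hJc ⟨s, hs, hsJ⟩
      have hMtop : M = ⊤ := by
        rw [eq_top_iff, ← P.sup_eq_top]
        apply sup_le hM
        rw [← P.closure_sup]
        apply sup_le
        · rw [Subgroup.closure_le]
          exact fun s hs => (hSJ hs).2
        · exact inf_le_left.trans hM
      -- `G / H` is a quotient of `B`, hence solvable; it is perfect; so it is trivial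
      have hsurj : Function.Surjective ((QuotientGroup.mk' H).comp P.B.subtype) := by
        intro q
        induction q using QuotientGroup.induction_on with | _ g => ?_
        have hg : g ∈ P.B ⊔ H := by rw [← hMdef, hMtop]; exact Subgroup.mem_top g
        obtain ⟨b, hb, h, hh, rfl⟩ := Subgroup.mem_sup_of_normal_right.1 hg
        refine ⟨⟨b, hb⟩, ?_⟩
        show (QuotientGroup.mk b : G ⧸ H) = QuotientGroup.mk (b * h)
        rw [QuotientGroup.eq]
        simpa using hh
      have : Group.IsSolvable (G ⧸ H) := Group.isSolvable_of_surjective hsurj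
      have hperfQ : commutator (G ⧸ H) = ⊤ := by
        rw [commutator_def, ← Subgroup.map_top_of_surjective (QuotientGroup.mk' H)
          (QuotientGroup.mk'_surjective H), ← Subgroup.map_commutator, ← commutator_def, hperf]
      apply QuotientGroup.subgroup_eq_top_of_subsingleton
      by_contra hns
      rw [← not_nontrivial_iff_subsingleton, not_not] at hns
      have := Group.IsSolvable.commutator_lt_top_of_nontrivial (G ⧸ H)
      rw [hperfQ] at this
      exact lt_irrefl _ this
  · -- `J = ∅`, so `H ≤ B`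
    left
    have hJe : J = ∅ := Set.not_nonempty_iff_eq_empty.1 hJne
    have hMB : M = P.B := by
      rw [hMJ, hJe]
      unfold BNPair.parabolic
      rw [Subgroup.closure_empty, sup_bot_eq]
    have hHB : H ≤ P.B := by
      rw [← hMB]; exact le_sup_right
    rw [eq_bot_iff, ← hcore]
    exact Subgroup.normal_le_normalCore.2 hHB

end Cfsg.Agent.S0319
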