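import Cfsg.Statements.S1051
import Cfsg.Agent.Lib.Helper36_ChevCore
import Cfsg.Agent.Lib.Helper36_ChevW0All

set_option autoImplicit false
open Cfsg

namespace Cfsg.Agent.S1051

open Cfsg.Lie Cfsg.Agent.Lib.Helper36_ChevTorus Cfsg.Agent.Lib.Helper36_ChevTorusAll
  Cfsg.Agent.Lib.Helper36_ChevW0 Cfsg.Agent.Lib.Helper36_ChevW0All Cfsg.Agent.Lib.Helper36_ChevBorelAll
  Cfsg.Agent.Lib.Helper36_ChevCore Cfsg.Agent.Lib.Helper36_ChevTables

/-- `⋂_g g B g⁻¹ = 1`: the normal core of `B` in the Chevalley group is trivial. -/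
theorem result {F : Type*} [Field F] (D : Cfsg.Lie.ChevalleyDatum) (hD : D ∈ [Cfsg.Lie.chevG2, Cfsg.Lie.chevB2, Cfsg.Lie.chevD4, Cfsg.Lie.chevF4, Cfsg.Lie.chevE6, Cfsg.Lie.chevE7, Cfsg.Lie.chevE8]) : ((D.borelSubgroup F).subgroupOf (D.group F)).normalCore = ⊥ := by
  have hf := facts_of_mem D hD F
  obtain ⟨tbl, off, M, hht⟩ := htOK_of_mem D hD
  obtain ⟨rtbl, w0, hw⟩ := w0OK_of_mem D hD
  rw [Subgroup.eq_bot_iff_forall]
  intro k hk
  have hk' : ∀ b ∈ D.group F, b * (k : GL D.Idx F) * b⁻¹ ∈ D.borelSubgroup F := by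
    intro b hb
    have := hk ⟨b, hb⟩
    rw [Subgroup.mem_subgroupOf] at this
    exact this
  have h1 := core_trivial D F hf (chainOK_of_mem D hD) tbl off M hht (allConj_of_mem D hD F) rtbl w0 hw _ hk'
  exact Subtype.ext h1

end Cfsg.Agent.S1051
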