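import Cfsg.Statements.S2725
import Cfsg.Agent.Lib.Helper14_InndiagMain

set_option autoImplicit false
open Cfsg

namespace Cfsg.Agent.S2725

/-- Let T = PΩ⁺_{2m}(F) with m ≥ 4 and |F| = q odd. The inner-diagonal group G = Inndiag(T) (image of the class-preserving similarities) taken modulo the inner automorphism group T is cyclic of order 2 when m is odd and q ≡ 3 (mod 4), cyclic of order 4 when m is odd and q ≡ 1 (mod 4), and elementary abelian of order 4 when m is even. -/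
theorem result {F : Type*} [Field F] [Fintype F] (hodd : Odd (Fintype.card F)) {m : ℕ} (hm : 4 ≤ m) :
    ((Odd m ∧ Fintype.card F % 4 = 3) → (∃ φ : ↥(Cfsg.inndiagPOmegaPlus m F) →* Multiplicative (ZMod 2), Function.Surjective φ ∧ φ.ker = (Cfsg.Inn (Cfsg.POmega F (Cfsg.quadFormPlus m F))).subgroupOf (Cfsg.inndiagPOmegaPlus m F))) ∧ ((Odd m ∧ Fintype.card F % 4 = 1) → (∃ φ : ↥(Cfsg.inndiagPOmegaPlus m F) →* Multiplicative (ZMod 4), Function.Surjective φ ∧ φ.ker = (Cfsg.Inn (Cfsg.POmega F (Cfsg.quadFormPlus m F))).subgroupOf (Cfsg.inndiagPOmegaPlus m F))) ∧ (Even m → (∃ φ : ↥(Cfsg.inndiagPOmegaPlus m F) →* Multiplicative (ZMod 2 × ZMod 2), Function.Surjective φ ∧ φ.ker = (Cfsg.Inn (Cfsg.POmega F (Cfsg.quadFormPlus m F))).subgroupOf (Cfsg.inndiagPOmegaPlus m F))) := by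
  have h2 : (2 : F) ≠ 0 := Cfsg.Agent.Lib.Helper44_FinSq.two_ne_zero_of_odd_card hodd
  have hQ := Cfsg.Agent.Lib.Helper14_POmegaSimple.nondegenerate_qfPlus (F := F) m
  have hcard : Fintype.card (Fin m ⊕ Fin m) = 2 * m := by
    rw [Fintype.card_sum, Fintype.card_fin]; ring
  have hn : 5 ≤ Fintype.card (Fin m ⊕ Fin m) := by rw [hcard]; omega
  have hneg := Cfsg.Agent.Lib.Helper14_NegOneStd.negOne_mem_plus_iff (F := F) hodd m (by omega)
  have hne : ∃ v, Cfsg.Agent.Lib.Helper44_StdForms.qfPlus m F v ≠ 0 :=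
    Cfsg.Agent.Lib.Helper14_InndiagPlus.exists_ne_zero m (by omega)
  have hI := Cfsg.Agent.Lib.Helper14_InndiagMain.autSubgroupOf_preserves_eq h2
    (Cfsg.Agent.Lib.Helper44_StdForms.qfPlus m F) hQ hne hcard
    (PreservesSingularClasses (⇑(Cfsg.Agent.Lib.Helper44_StdForms.qfPlus m F)))
    (Cfsg.Agent.Lib.Helper14_InndiagPlus.preserves_plus_iff m h2 (by omega))
  obtain ⟨ε, hε⟩ := FiniteField.exists_nonsquare
    (Cfsg.Agent.Lib.Helper44_FinSq.ringChar_ne_two_of_two_ne_zero h2)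
  have hε0 : ε ≠ 0 := by
    rintro rfl; exact hε ⟨0, by simp⟩
  have hmem : Cfsg.Agent.Lib.Helper14_GODelta.dPlusGL m (Units.mk0 ε hε0) ∈
      Cfsg.Agent.Lib.Helper14_AutOmega.GO (⇑(Cfsg.Agent.Lib.Helper44_StdForms.qfPlus m F)) := by
    rw [Cfsg.Agent.Lib.Helper44_StdForms.coe_qfPlus]
    exact Cfsg.Agent.Lib.Helper14_GODelta.dPlusGL_mem m _
  have hmu : Cfsg.Agent.Lib.Helper14_GOChars.mu (⇑(Cfsg.Agent.Lib.Helper44_StdForms.qfPlus m F))
      ⟨Cfsg.Agent.Lib.Helper14_GODelta.dPlusGL m (Units.mk0 ε hε0), hmem⟩ = Units.mk0 ε hε0 := by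
    apply Cfsg.Agent.Lib.Helper14_GOChars.mu_eq
    · exact hne
    · intro v
      rw [Cfsg.Agent.Lib.Helper14_GODelta.dPlusGL_coe, Cfsg.Agent.Lib.Helper44_StdForms.coe_qfPlus,
        Cfsg.Agent.Lib.Helper14_GODelta.quadFormPlus_dPlus]
  have hchi : Cfsg.Agent.Lib.Helper14_GOChars.chiHom (Cfsg.Agent.Lib.Helper44_StdForms.qfPlus m F) hne
      ⟨Cfsg.Agent.Lib.Helper14_GODelta.dPlusGL m (Units.mk0 ε hε0), hmem⟩ = -1 := by
    rw [Cfsg.Agent.Lib.Helper14_GOChars.chiHom_eq_neg_one_iff, hmu, Units.val_mk0]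
    exact hε
  have hsq : (⟨Cfsg.Agent.Lib.Helper14_GODelta.dPlusGL m (Units.mk0 ε hε0), hmem⟩ :
      ↥(Cfsg.Agent.Lib.Helper14_AutOmega.GO (⇑(Cfsg.Agent.Lib.Helper44_StdForms.qfPlus m F)))) *
      ⟨Cfsg.Agent.Lib.Helper14_GODelta.dPlusGL m (Units.mk0 ε hε0), hmem⟩ ∈
      Cfsg.Agent.Lib.Helper14_GOChars.Z' (Cfsg.Agent.Lib.Helper44_StdForms.qfPlus m F) :=
    Subgroup.mem_subgroupOf.mpr (Cfsg.Agent.Lib.Helper14_GODelta.dPlusGL_sq_mem m _)
  have hGz : (⟨Cfsg.Agent.Lib.Helper14_GODelta.dPlusGL m (Units.mk0 ε hε0), hmem⟩ :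
      ↥(Cfsg.Agent.Lib.Helper14_AutOmega.GO (⇑(Cfsg.Agent.Lib.Helper44_StdForms.qfPlus m F)))) ∈
      Cfsg.Agent.Lib.Helper14_InndiagQuot.Gz h2 (Cfsg.Agent.Lib.Helper44_StdForms.qfPlus m F) hQ hne hcard
      ↔ Even m := by
    rw [MonoidHom.mem_ker, Cfsg.Agent.Lib.Helper14_GOChars.sgnHom_eq_one_iff, hmu, Units.val_mk0]
    change (Cfsg.Agent.Lib.Helper14_GODelta.dPlusMat m ε).det = ε ^ m ↔ Even m
    rw [Cfsg.Agent.Lib.Helper14_InndiagMain.det_dPlusMat]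
    constructor
    · intro h
      by_contra hcon
      rw [Nat.not_even_iff_odd] at hcon
      rw [hcon.neg_one_pow] at h
      have h3 : (2 : F) * ε ^ m = 0 := by linear_combination -h
      rcases mul_eq_zero.mp h3 with h4 | h4
      · exact h2 h4
      · exact hε0 (pow_eq_zero_iff (by omega) |>.mp h4)
    · intro h
      rw [h.neg_one_pow, one_mul]
  refine ⟨?_, ?_, ?_⟩
  · rintro ⟨hm1, hq⟩
    have hnotin : Cfsg.Agent.Lib.Helper44_Spinor.negOne (Cfsg.Agent.Lib.Helper44_StdForms.qfPlus m F) ∉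
        Cfsg.Omega F (⇑(Cfsg.Agent.Lib.Helper44_StdForms.qfPlus m F)) := by
      rw [hneg]
      rintro (h | h)
      · exact (Nat.not_even_iff_odd.mpr hm1) h
      · exact h hq
    have key := Cfsg.Agent.Lib.Helper14_InndiagQuot.exists_hom_two h2
      (Cfsg.Agent.Lib.Helper44_StdForms.qfPlus m F) hQ hn hne hcard hnotin _ hchi
    rw [← hI] at key
    rw [Cfsg.Agent.Lib.Helper44_StdForms.coe_qfPlus] at key
    exact key
  · rintro ⟨hm1, hq⟩
    have hin : Cfsg.Agent.Lib.Helper44_Spinor.negOne (Cfsg.Agent.Lib.Helper44_StdForms.qfPlus m F) ∈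
        Cfsg.Omega F (⇑(Cfsg.Agent.Lib.Helper44_StdForms.qfPlus m F)) := by
      rw [hneg]
      right
      omega
    have key := Cfsg.Agent.Lib.Helper14_InndiagQuot.exists_hom_cyclic_four h2
      (Cfsg.Agent.Lib.Helper44_StdForms.qfPlus m F) hQ hn hne hcard hin _ hchi hsq
      (by rw [hGz]; exact Nat.not_even_iff_odd.mpr hm1)
    rw [← hI] at key
    rw [Cfsg.Agent.Lib.Helper44_StdForms.coe_qfPlus] at key
    exact key
  · intro hm1
    have hin : Cfsg.Agent.Lib.Helper44_Spinor.negOne (Cfsg.Agent.Lib.Helper44_StdForms.qfPlus m F) ∈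
        Cfsg.Omega F (⇑(Cfsg.Agent.Lib.Helper44_StdForms.qfPlus m F)) := by
      rw [hneg]
      left
      exact hm1
    have key := Cfsg.Agent.Lib.Helper14_InndiagQuot.exists_hom_klein h2
      (Cfsg.Agent.Lib.Helper44_StdForms.qfPlus m F) hQ hn hne hcard hin _ hchi hsq
      (by rw [hGz]; exact hm1)
    rw [← hI] at key
    rw [Cfsg.Agent.Lib.Helper44_StdForms.coe_qfPlus] at key
    exact key

end Cfsg.Agent.S2725
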