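import Cfsg.Statements.S0821
import Cfsg.Agent.Lib.Helper14_PSpRank
import Cfsg.Agent.Lib.Helper44_POmegaCard
import Cfsg.Agent.Lib.Helper44_StdForms
import Cfsg.Agent.Lib.Helper44_Center
import Cfsg.Agent.Lib.Helper44_OmegaOdd
import Cfsg.Agent.Lib.Helper44_FinSq
import Cfsg.Agent.S2235

set_option autoImplicit false
open Cfsg

namespace Cfsg.Agent.S0821

open Module Cfsg.Agent.Lib.Helper44_Orth Cfsg.Agent.Lib.Helper44_Refl Cfsg.Agent.Lib.Helper44_Spinor
  Cfsg.Agent.Lib.Helper44_StdForms Cfsg.Agent.Lib.Helper44_Center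
  Cfsg.Agent.Lib.Helper44_POmegaCard Cfsg.Agent.Lib.Helper44_OmegaOdd

/-- The centre of `Ω_{2m+1}(q)`, `q` odd, is trivial. -/
theorem center_omega_odd {F : Type*} [Field F] [Fintype F] (hodd : Odd (Fintype.card F)) (m : ℕ)
    (hm : 3 ≤ m) : Subgroup.center ↥(Cfsg.Omega F (Cfsg.quadFormOdd m F)) = ⊥ := by
  classical
  have h2 : (2 : F) ≠ 0 := Cfsg.Agent.Lib.Helper44_FinSq.two_ne_zero_of_odd_card hodd
  rw [← coe_qfOdd]
  have hQ : (QuadraticMap.polarBilin (qfOdd m F)).Nondegenerate := by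
    refine (LinearMap.BilinForm.nondegenerate_iff_det_ne_zero
      (Pi.basisFun F (Unit ⊕ (Fin m ⊕ Fin m)))).mpr ?_
    have : LinearMap.BilinForm.toMatrix (Pi.basisFun F (Unit ⊕ (Fin m ⊕ Fin m)))
        (QuadraticMap.polarBilin (qfOdd m F))
        = Matrix.of (fun i j : Unit ⊕ (Fin m ⊕ Fin m) =>
            QuadraticMap.polar (Cfsg.quadFormOdd m F) (Pi.single i 1) (Pi.single j 1)) := by
      ext i j
      simp [LinearMap.BilinForm.toMatrix_apply, coe_qfOdd]
    rw [this, det_gram_quadFormOdd]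
    exact mul_ne_zero h2 (pow_ne_zero _ (neg_ne_zero.mpr one_ne_zero))
  have hcard : Fintype.card (Unit ⊕ (Fin m ⊕ Fin m)) = 2 * m + 1 := by
    simp [Fintype.card_sum]; ring
  have hex : Fintype.card F ≠ 2 ∨ Fintype.card (Unit ⊕ (Fin m ⊕ Fin m)) ≠ 4 := by
    right; rw [hcard]; omega
  set i0 : Fin m := ⟨0, by omega⟩
  set e : Unit ⊕ (Fin m ⊕ Fin m) → F := Pi.single (Sum.inr (Sum.inl i0)) 1 with he'
  set f : Unit ⊕ (Fin m ⊕ Fin m) → F := Pi.single (Sum.inr (Sum.inr i0)) 1 with hf'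
  set w₀ : Unit ⊕ (Fin m ⊕ Fin m) → F := Pi.single (Sum.inl ()) 1 with hw'
  have he : qfOdd m F e = 0 := by
    rw [coe_qfOdd, Cfsg.quadFormOdd, he']
    simp
  have hf : qfOdd m F f = 0 := by
    rw [coe_qfOdd, Cfsg.quadFormOdd, hf']
    simp
  have hw₀ : qfOdd m F w₀ ≠ 0 := by
    rw [coe_qfOdd, Cfsg.quadFormOdd, hw']
    simp
  have hef : QuadraticMap.polar (⇑(qfOdd m F)) e f = 1 := by
    rw [coe_qfOdd, polar_quadFormOdd, he', hf']
    simp [Pi.single_apply]
  have hew : QuadraticMap.polar (⇑(qfOdd m F)) e w₀ = 0 := by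
    rw [coe_qfOdd, polar_quadFormOdd, he', hw']
    simp [Pi.single_apply]
  have hfw : QuadraticMap.polar (⇑(qfOdd m F)) f w₀ = 0 := by
    rw [coe_qfOdd, polar_quadFormOdd, hf', hw']
    simp [Pi.single_apply]
  have hcent := fun z₀ hz₀ => centralizer_omega (qfOdd m F) hQ hex (by rw [hcard]; omega)
    he hf hef hw₀ hew hfw z₀ hz₀
  have hneg : negOne (qfOdd m F) ∉ Cfsg.Omega F (⇑(qfOdd m F)) := by
    intro hmem
    have hdet := ((mem_omega_iff_det_theta h2 (qfOdd m F) hQ _).mp hmem).1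
    rw [negOne_coe, Matrix.det_neg, Matrix.det_one, mul_one, hcard, pow_succ, pow_mul] at hdet
    simp only [even_two, Even.neg_pow, one_pow, one_mul] at hdet
    apply h2
    have : (1 : F) + 1 = 0 := by nth_rewrite 1 [← hdet]; ring
    rw [← this]; ring
  have hc1 := card_center_eq_one (qfOdd m F) hcent (Or.inr hneg)
  exact Subgroup.card_eq_one.mp hc1

/-- PSp_2m(q) ≇ PΩ_(2m+1)(q) for q odd and m ≥ 3 (they have the same order). -/
theorem result {F : Type*} [Field F] [Fintype F] (hodd : Odd (Fintype.card F)) (m : ℕ) (hm : 3 ≤ m) : IsEmpty (Cfsg.PSp m F ≃* Cfsg.POmega F (Cfsg.quadFormOdd m F)) := by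
  constructor
  intro e
  obtain ⟨A, hAc, hAe, hAcard⟩ := (Cfsg.Agent.S2235.result hodd m (by omega)).1
  have hcen := center_omega_odd hodd m hm
  have hinj : Function.Injective
      (QuotientGroup.mk' (Subgroup.center ↥(Cfsg.Omega F (Cfsg.quadFormOdd m F)))) := by
    rw [← MonoidHom.ker_eq_bot_iff, QuotientGroup.ker_mk', hcen]
  have hinj2 : Function.Injective (e.symm.toMonoidHom.comp
      (QuotientGroup.mk' (Subgroup.center ↥(Cfsg.Omega F (Cfsg.quadFormOdd m F))))) :=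
    e.symm.injective.comp hinj
  have hupper := Cfsg.Agent.Lib.Helper14_PSpRank.psp_rank_le hodd hm
    (A.map (e.symm.toMonoidHom.comp
      (QuotientGroup.mk' (Subgroup.center ↥(Cfsg.Omega F (Cfsg.quadFormOdd m F))))))
    (by
      refine ⟨⟨?_⟩⟩
      rintro ⟨_, a, ha, rfl⟩ ⟨_, b, hb, rfl⟩
      apply Subtype.ext
      show _ * _ = _ * _
      rw [← map_mul, ← map_mul]
      congr 1
      exact congrArg Subtype.val (hAc.is_comm.comm ⟨a, ha⟩ ⟨b, hb⟩))
    (by
      rintro _ ⟨a, ha, rfl⟩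
      rw [← map_pow, hAe a ha, map_one])
  rw [Subgroup.card_map_of_injective hinj2] at hupper
  have hlt : (2 : ℕ) ^ (2 * m - 1) < 2 ^ (2 * m) := Nat.pow_lt_pow_right (by norm_num) (by omega)
  omega

end Cfsg.Agent.S0821
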