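import Cfsg.Statements.S2722
import Cfsg.Agent.Lib.Helper14_GODelta
import Cfsg.Agent.Lib.Helper14_POmegaSimple
import Cfsg.Agent.Lib.Helper44_FinSq

set_option autoImplicit false
open Cfsg

namespace Cfsg.Agent.S2722

/-- Let T = PΩ⁺_{2m}(F) with m ≥ 4 and |F| = q odd. Inside Aut(T), the image G̃ of the conformal orthogonal group of the form modulo the image of the special orthogonal group is elementary abelian of order 4. -/
theorem result {F : Type*} [Field F] [Fintype F] (hodd : Odd (Fintype.card F)) {m : ℕ} (hm : 4 ≤ m) :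
    (∃ φ : ↥(Cfsg.pgoAut F (Cfsg.quadFormPlus m F)) →* Multiplicative (ZMod 2 × ZMod 2), Function.Surjective φ ∧ φ.ker = (Cfsg.psoAut F (Cfsg.quadFormPlus m F)).subgroupOf (Cfsg.pgoAut F (Cfsg.quadFormPlus m F))) := by
  have h2 : (2 : F) ≠ 0 := Cfsg.Agent.Lib.Helper44_FinSq.two_ne_zero_of_odd_card hodd
  have hQ := Cfsg.Agent.Lib.Helper14_POmegaSimple.nondegenerate_qfPlus (F := F) m
  have hcard : Fintype.card (Fin m ⊕ Fin m) = 2 * m := by
    rw [Fintype.card_sum, Fintype.card_fin]; ring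
  obtain ⟨ε, hε⟩ := FiniteField.exists_nonsquare (Cfsg.Agent.Lib.Helper44_FinSq.ringChar_ne_two_of_two_ne_zero h2)
  have hε0 : ε ≠ 0 := by
    rintro rfl; exact hε ⟨0, by simp⟩
  have key := Cfsg.Agent.Lib.Helper14_GOChars.exists_hom_pgo_pso h2
    (Cfsg.Agent.Lib.Helper44_StdForms.qfPlus m F) hQ (by rw [hcard]; omega) hcard
  rw [Cfsg.Agent.Lib.Helper44_StdForms.coe_qfPlus] at key
  apply key
  refine ⟨⟨Cfsg.Agent.Lib.Helper14_GODelta.dPlusGL m (Units.mk0 ε hε0),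
    Cfsg.Agent.Lib.Helper14_GODelta.dPlusGL_mem m _⟩, ?_⟩
  have hmu : Cfsg.Agent.Lib.Helper14_GOChars.mu (Cfsg.quadFormPlus m F)
      ⟨Cfsg.Agent.Lib.Helper14_GODelta.dPlusGL m (Units.mk0 ε hε0),
        Cfsg.Agent.Lib.Helper14_GODelta.dPlusGL_mem m _⟩ = Units.mk0 ε hε0 := by
    apply Cfsg.Agent.Lib.Helper14_GOChars.mu_eq
    · refine ⟨Pi.single (Sum.inl ⟨0, by omega⟩) 1 + Pi.single (Sum.inr ⟨0, by omega⟩) 1, ?_⟩
      unfold Cfsg.quadFormPlus
      rw [Finset.sum_eq_single ⟨0, by omega⟩]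
      · simp
      · intro i _ hi
        simp [Pi.single_apply, hi]
      · simp
    · intro v
      rw [Cfsg.Agent.Lib.Helper14_GODelta.dPlusGL_coe,
        Cfsg.Agent.Lib.Helper14_GODelta.quadFormPlus_dPlus]
  rw [hmu, Units.val_mk0]
  exact hε

end Cfsg.Agent.S2722
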