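import Cfsg.Statements.S2723
import Cfsg.Agent.Lib.Helper14_OmegaIndex
import Cfsg.Agent.Lib.Helper14_POmegaSimple
import Cfsg.Agent.Lib.Helper44_FinSq
import Cfsg.Agent.S0790

set_option autoImplicit false
open Cfsg

namespace Cfsg.Agent.S2723

/-- Let T = PΩ⁺_{2m}(F) with m ≥ 4 and |F| = q odd. The image of the special orthogonal group in Aut(T) contains the inner automorphism group T with index 1 (they coincide) when m is odd and q ≡ 3 (mod 4), and with index 2 otherwise (the index is 2 exactly when the discriminant of the form is a square). -/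
theorem result {F : Type*} [Field F] [Fintype F] (hodd : Odd (Fintype.card F)) {m : ℕ} (hm : 4 ≤ m) :
    ((Odd m ∧ Fintype.card F % 4 = 3) → (Cfsg.Inn (Cfsg.POmega F (Cfsg.quadFormPlus m F))).relIndex (Cfsg.psoAut F (Cfsg.quadFormPlus m F)) = 1) ∧ (¬ (Odd m ∧ Fintype.card F % 4 = 3) → (Cfsg.Inn (Cfsg.POmega F (Cfsg.quadFormPlus m F))).relIndex (Cfsg.psoAut F (Cfsg.quadFormPlus m F)) = 2) := by
  have h2 : (2 : F) ≠ 0 := Cfsg.Agent.Lib.Helper44_FinSq.two_ne_zero_of_odd_card hodd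
  have hQ := Cfsg.Agent.Lib.Helper14_POmegaSimple.nondegenerate_qfPlus (F := F) m
  have hcard : Fintype.card (Fin m ⊕ Fin m) = 2 * m := by
    rw [Fintype.card_sum, Fintype.card_fin]; ring
  have key := Cfsg.Agent.S0790.result (F := F) rfl hodd m (by omega)
  rw [Cfsg.Agent.S0790.arith hodd, ← Cfsg.Agent.Lib.Helper44_StdForms.coe_qfPlus] at key
  have hneg : Cfsg.Agent.Lib.Helper44_Spinor.negOne (Cfsg.Agent.Lib.Helper44_StdForms.qfPlus m F) ∈
      Cfsg.Omega F (⇑(Cfsg.Agent.Lib.Helper44_StdForms.qfPlus m F)) ↔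
      (Even m ∨ Fintype.card F % 4 ≠ 3) := by
    rw [← key]
    constructor
    · intro h
      exact ⟨_, h, Cfsg.Agent.Lib.Helper44_Spinor.negOne_coe _⟩
    · rintro ⟨g, hg, hcoe⟩
      have : g = Cfsg.Agent.Lib.Helper44_Spinor.negOne _ := by
        apply Subtype.ext
        apply Units.ext
        rw [hcoe, Cfsg.Agent.Lib.Helper44_Spinor.negOne_coe]
      rw [← this]; exact hg
  rw [← Cfsg.Agent.Lib.Helper44_StdForms.coe_qfPlus]
  constructor
  · rintro ⟨hm1, hq⟩
    have hn : Cfsg.Agent.Lib.Helper44_Spinor.negOne (Cfsg.Agent.Lib.Helper44_StdForms.qfPlus m F) ∉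
        Cfsg.Omega F (⇑(Cfsg.Agent.Lib.Helper44_StdForms.qfPlus m F)) := by
      rw [hneg]
      rintro (h | h)
      · exact (Nat.not_even_iff_odd.mpr hm1) h
      · exact h hq
    rw [Cfsg.Agent.Lib.Helper14_OmegaIndex.psoAut_eq_inn h2 _ hQ (by rw [hcard]; omega)
      (by rw [hcard]; exact even_two_mul m) hn, Subgroup.relIndex_self]
  · intro h
    apply Cfsg.Agent.Lib.Helper14_OmegaIndex.relIndex_inn_pso h2 _ hQ (by rw [hcard]; omega)
    rw [hneg]
    by_contra hcon
    push Not at hcon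
    exact h ⟨Nat.not_even_iff_odd.mp hcon.1, hcon.2⟩

end Cfsg.Agent.S2723
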