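import Cfsg.Statements.S2724
import Cfsg.Agent.Lib.Helper14_GODihedral
import Cfsg.Agent.Lib.Helper14_GODelta
import Cfsg.Agent.Lib.Helper14_NegOneStd
import Cfsg.Agent.S2722

set_option autoImplicit false
open Cfsg

namespace Cfsg.Agent.S2724

/-- Let T = PΩ⁺_{2m}(F) with m ≥ 4 and |F| = q odd. The image G̃ of the conformal orthogonal group in Aut(T), taken modulo the inner automorphism group T, is elementary abelian of order 4 when m is odd and q ≡ 3 (mod 4), and dihedral of order 8 otherwise. -/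
theorem result {F : Type*} [Field F] [Fintype F] (hodd : Odd (Fintype.card F)) {m : ℕ} (hm : 4 ≤ m) :
    ((Odd m ∧ Fintype.card F % 4 = 3) → (∃ φ : ↥(Cfsg.pgoAut F (Cfsg.quadFormPlus m F)) →* Multiplicative (ZMod 2 × ZMod 2), Function.Surjective φ ∧ φ.ker = (Cfsg.Inn (Cfsg.POmega F (Cfsg.quadFormPlus m F))).subgroupOf (Cfsg.pgoAut F (Cfsg.quadFormPlus m F)))) ∧ (¬ (Odd m ∧ Fintype.card F % 4 = 3) → (∃ φ : ↥(Cfsg.pgoAut F (Cfsg.quadFormPlus m F)) →* DihedralGroup 4, Function.Surjective φ ∧ φ.ker = (Cfsg.Inn (Cfsg.POmega F (Cfsg.quadFormPlus m F))).subgroupOf (Cfsg.pgoAut F (Cfsg.quadFormPlus m F)))) := by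
  have h2 : (2 : F) ≠ 0 := Cfsg.Agent.Lib.Helper44_FinSq.two_ne_zero_of_odd_card hodd
  have hQ := Cfsg.Agent.Lib.Helper14_POmegaSimple.nondegenerate_qfPlus (F := F) m
  have hcard : Fintype.card (Fin m ⊕ Fin m) = 2 * m := by
    rw [Fintype.card_sum, Fintype.card_fin]; ring
  have hneg := Cfsg.Agent.Lib.Helper14_NegOneStd.negOne_mem_plus_iff (F := F) hodd m (by omega)
  constructor
  · rintro ⟨hm1, hq⟩
    have hn : Cfsg.Agent.Lib.Helper44_Spinor.negOne (Cfsg.Agent.Lib.Helper44_StdForms.qfPlus m F) ∉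
        Cfsg.Omega F (⇑(Cfsg.Agent.Lib.Helper44_StdForms.qfPlus m F)) := by
      rw [hneg]
      rintro (h | h)
      · exact (Nat.not_even_iff_odd.mpr hm1) h
      · exact h hq
    have hpso := Cfsg.Agent.Lib.Helper14_OmegaIndex.psoAut_eq_inn h2 _ hQ (by rw [hcard]; omega)
      (by rw [hcard]; exact even_two_mul m) hn
    rw [Cfsg.Agent.Lib.Helper44_StdForms.coe_qfPlus] at hpso
    have := Cfsg.Agent.S2722.result (F := F) hodd hm
    rw [hpso] at this
    exact this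
  · intro h
    obtain ⟨ε, hε⟩ := FiniteField.exists_nonsquare
      (Cfsg.Agent.Lib.Helper44_FinSq.ringChar_ne_two_of_two_ne_zero h2)
    have hε0 : ε ≠ 0 := by
      rintro rfl; exact hε ⟨0, by simp⟩
    have hmem : Cfsg.Agent.Lib.Helper14_GODelta.dPlusGL m (Units.mk0 ε hε0) ∈
        Cfsg.Agent.Lib.Helper14_AutOmega.GO (⇑(Cfsg.Agent.Lib.Helper44_StdForms.qfPlus m F)) := by
      rw [Cfsg.Agent.Lib.Helper44_StdForms.coe_qfPlus]
      exact Cfsg.Agent.Lib.Helper14_GODelta.dPlusGL_mem m _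
    have hmu : Cfsg.Agent.Lib.Helper14_GOChars.mu (⇑(Cfsg.Agent.Lib.Helper44_StdForms.qfPlus m F))
        ⟨Cfsg.Agent.Lib.Helper14_GODelta.dPlusGL m (Units.mk0 ε hε0), hmem⟩ = Units.mk0 ε hε0 := by
      apply Cfsg.Agent.Lib.Helper14_GOChars.mu_eq
      · obtain ⟨v, hv⟩ := Cfsg.Agent.Lib.Helper14_OrthChars.exists_norm_eq h2 _ hQ
          (by rw [hcard]; omega) 1
        exact ⟨v, by rw [hv]; exact one_ne_zero⟩
      · intro v
        rw [Cfsg.Agent.Lib.Helper14_GODelta.dPlusGL_coe, Cfsg.Agent.Lib.Helper44_StdForms.coe_qfPlus,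
          Cfsg.Agent.Lib.Helper14_GODelta.quadFormPlus_dPlus]
    have key := Cfsg.Agent.Lib.Helper14_GODihedral.exists_hom_pgo_inn_dihedral h2
      (Cfsg.Agent.Lib.Helper44_StdForms.qfPlus m F) hQ (by rw [hcard]; omega) hcard
      (by
        rw [hneg]
        by_contra hcon
        push Not at hcon
        exact h ⟨Nat.not_even_iff_odd.mp hcon.1, hcon.2⟩)
      ⟨Cfsg.Agent.Lib.Helper14_GODelta.dPlusGL m (Units.mk0 ε hε0), hmem⟩
      (by rw [hmu, Units.val_mk0]; exact hε)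
      (Cfsg.Agent.Lib.Helper14_GODelta.dPlusGL_sq_mem m _)
    rw [Cfsg.Agent.Lib.Helper44_StdForms.coe_qfPlus] at key
    exact key

end Cfsg.Agent.S2724
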