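import Cfsg.Statements.S0767
import Cfsg.Agent.Lib.Helper13_Symp

set_option autoImplicit false
open Cfsg

namespace Cfsg.Agent.S0767

open Matrix Cfsg.Agent.Lib.Helper13_Symp

/-- The root group of a point: T_v(c) T_v(d) = T_v(c + d), and for A in the symplectic group with A v = a v, the conjugate A T_v(c) A⁻¹ is again some T_v(d). -/
theorem result {F : Type*} [Field F] (m : ℕ) (v : Fin m ⊕ Fin m → F) : (∀ c d : F, Cfsg.sympTransvection m v c * Cfsg.sympTransvection m v d = Cfsg.sympTransvection m v (c + d)) ∧ ∀ (A : Matrix (Fin m ⊕ Fin m) (Fin m ⊕ Fin m) F) (a : F), A ∈ Matrix.symplecticGroup (Fin m) F → A.mulVec v = a • v → ∀ c : F, ∃ d : F, A * Cfsg.sympTransvection m v c * A⁻¹ = Cfsg.sympTransvection m v d := by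
  have hNN : vecMulVec v (Matrix.J (Fin m) F *ᵥ v) * vecMulVec v (Matrix.J (Fin m) F *ᵥ v) = 0 := by
    rw [Matrix.vecMulVec_mul_vecMulVec]
    have : (Matrix.J (Fin m) F *ᵥ v) ⬝ᵥ v = 0 := by
      rw [dotProduct_comm]
      exact sympForm_self m v
    rw [this, zero_smul, Matrix.vecMulVec_zero]
  constructor
  · intro c d
    unfold Cfsg.sympTransvection
    rw [add_mul, mul_add, mul_add, one_mul, mul_one, one_mul, smul_mul_smul_comm, hNN, smul_zero,
      add_zero, add_smul, add_assoc, add_comm (d • _)]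
  · intro A a hA hAv c
    refine ⟨a * a * c, ?_⟩
    have hdet : IsUnit A.det := SymplecticGroup.symplectic_det hA
    have hAinv : A * A⁻¹ = 1 := Matrix.mul_nonsing_inv A hdet
    have hinvT : (Matrix.J (Fin m) F *ᵥ v) ᵥ* A⁻¹ = a • (Matrix.J (Fin m) F *ᵥ v) := by
      rw [SymplecticGroup.inv_eq_symplectic_inv A hA]
      rw [← Matrix.mulVec_transpose]
      simp only [Matrix.transpose_mul, Matrix.transpose_neg, Matrix.J_transpose,
        Matrix.transpose_transpose]
      rw [Matrix.mulVec_mulVec]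
      have : -J (Fin m) F * (A * - -J (Fin m) F) * J (Fin m) F = J (Fin m) F * A := by
        rw [neg_neg, Matrix.neg_mul, Matrix.neg_mul, Matrix.mul_assoc, Matrix.mul_assoc,
          Matrix.J_squared]
        simp
      rw [this, ← Matrix.mulVec_mulVec, hAv, Matrix.mulVec_smul]
    unfold Cfsg.sympTransvection
    rw [mul_add, mul_one, add_mul, hAinv, Matrix.mul_smul, Matrix.smul_mul, Matrix.mul_vecMulVec,
      Matrix.vecMulVec_mul, hAv, hinvT, Matrix.smul_vecMulVec, Matrix.vecMulVec_smul, smul_smul,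
      smul_smul]
    congr 2
    ring

end Cfsg.Agent.S0767
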