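import Cfsg.Statements.S0768
import Cfsg.Agent.Lib.Helper13_SympTrans
import Cfsg.Agent.Lib.Helper94_Bridge

set_option autoImplicit false
open scoped LinearAlgebra.Projectivization
open Cfsg

namespace Cfsg.Agent.S0768

open Matrix Cfsg.Agent.Lib.Helper13_Symp Cfsg.Agent.Lib.Helper13_SympTrans
  Cfsg.Agent.Lib.Helper94_Symp Cfsg.Agent.Lib.Helper94_Bridge

variable {F : Type*} [Field F] (m : ℕ)

/-- A symplectic matrix as an element of `spGL`. -/
noncomputable def ofSymp (A : Matrix.symplecticGroup (Fin m) F) : ↥(Cfsg.spGL m F) :=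
  ⟨Matrix.GeneralLinearGroup.mk'' A.1 (SymplecticGroup.symplectic_det A.2), by
    intro u v
    exact sympForm_mulVec_mulVec_of_mem m A.2 u v⟩

theorem ofSymp_smul (A : Matrix.symplecticGroup (Fin m) F) (v : Fin m ⊕ Fin m → F) :
    (ofSymp m A) • v = A.1 *ᵥ v := rfl

theorem smul_eq_mulVec (g : ↥(Cfsg.spGL m F)) (v : Fin m ⊕ Fin m → F) :
    g • v = ((g : GL (Fin m ⊕ Fin m) F) : Matrix (Fin m ⊕ Fin m) (Fin m ⊕ Fin m) F) *ᵥ v := rfl

theorem smul_mk' (g : ↥(Cfsg.spGL m F)) (v : Fin m ⊕ Fin m → F) (hv : v ≠ 0) :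
    g • Projectivization.mk F v hv
      = Projectivization.mk F (g • v) ((smul_ne_zero_iff_ne g).mpr hv) := rfl

instance pretransitive : MulAction.IsPretransitive ↥(Cfsg.spGL m F) (ℙ F (Fin m ⊕ Fin m → F)) := by
  constructor
  intro p q
  induction p using Projectivization.ind with
  | h u hu =>
    induction q using Projectivization.ind with
    | h u' hu' =>
      obtain ⟨A, _, hA⟩ := exists_transv_map m u u' hu hu'
      refine ⟨ofSymp m A, ?_⟩
      rw [smul_mk']
      congr 1

/-- the comparison hom to linear equivalences -/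
noncomputable def iota : ↥(Cfsg.spGL m F) →* ((Fin m ⊕ Fin m → F) ≃ₗ[F] (Fin m ⊕ Fin m → F)) :=
  (glEquiv (Fin m ⊕ Fin m) F).toMonoidHom.comp (Cfsg.spGL m F).subtype

theorem iota_apply (g : ↥(Cfsg.spGL m F)) (v : Fin m ⊕ Fin m → F) : iota m g v = g • v := by
  simp [iota, smul_eq_mulVec]

theorem iota_injective : Function.Injective (iota (F := F) m) := by
  intro g h hgh
  apply Subtype.ext
  exact (glEquiv (Fin m ⊕ Fin m) F).injective hgh

theorem iota_mem (g : ↥(Cfsg.spGL m F)) : iota m g ∈ isoGroup (Bsymp m F) := by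
  have h2 : (g : GL (Fin m ⊕ Fin m) F) ∈
      (isoGroup (Bsymp m F)).comap (glEquiv (Fin m ⊕ Fin m) F).toMonoidHom := by
    rw [← spGL_eq]; exact g.2
  exact h2

theorem exists_iota_eq {h : (Fin m ⊕ Fin m → F) ≃ₗ[F] (Fin m ⊕ Fin m → F)}
    (hh : h ∈ isoGroup (Bsymp m F)) : ∃ g : ↥(Cfsg.spGL m F), iota m g = h := by
  have hmem : (glEquiv (Fin m ⊕ Fin m) F).symm h ∈ Cfsg.spGL m F := by
    rw [spGL_eq, Subgroup.mem_comap]
    show (glEquiv (Fin m ⊕ Fin m) F) ((glEquiv (Fin m ⊕ Fin m) F).symm h) ∈ isoGroup (Bsymp m F)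
    rw [MulEquiv.apply_symm_apply]
    exact hh
  refine ⟨⟨(glEquiv (Fin m ⊕ Fin m) F).symm h, hmem⟩, ?_⟩
  show (glEquiv (Fin m ⊕ Fin m) F) ((glEquiv (Fin m ⊕ Fin m) F).symm h) = h
  rw [MulEquiv.apply_symm_apply]

theorem mem_stabilizer_iff (v : Fin m ⊕ Fin m → F) (hv : v ≠ 0) (g : ↥(Cfsg.spGL m F)) :
    g ∈ MulAction.stabilizer ↥(Cfsg.spGL m F) (Projectivization.mk F v hv) ↔
      iota m g ∈ stab (Submodule.span F {v}) := by
  rw [MulAction.mem_stabilizer_iff, smul_mk', Projectivization.mk_eq_mk_iff]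
  constructor
  · rintro ⟨c, hc⟩
    apply mem_stab_of_forall_mem
    intro x hx
    obtain ⟨d, rfl⟩ := Submodule.mem_span_singleton.mp hx
    rw [map_smul, iota_apply]
    have : g • v = (c : F) • v := hc.symm
    rw [this]
    exact Submodule.smul_mem _ _ (Submodule.smul_mem _ _ (Submodule.mem_span_singleton_self v))
  · intro h
    have h1 : iota m g v ∈ Submodule.span F {v} :=
      (h v).mp (Submodule.mem_span_singleton_self v)
    rw [iota_apply] at h1
    obtain ⟨c, hc⟩ := Submodule.mem_span_singleton.mp h1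
    have hgv : g • v ≠ 0 := (smul_ne_zero_iff_ne g).mpr hv
    have hc0 : c ≠ 0 := by
      rintro rfl
      rw [zero_smul] at hc
      exact hgv hc.symm
    refine ⟨Units.mk0 c hc0, ?_⟩
    show c • v = g • v
    exact hc

theorem isCoatom_stabilizer (v : Fin m ⊕ Fin m → F) (hv : v ≠ 0) :
    IsCoatom (MulAction.stabilizer ↥(Cfsg.spGL m F) (Projectivization.mk F v hv)) := by
  have hW0 : Submodule.span F {v} ≠ ⊥ := by
    intro h
    have : v ∈ (⊥ : Submodule F (Fin m ⊕ Fin m → F)) := h ▸ Submodule.mem_span_singleton_self v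
    exact hv ((Submodule.mem_bot F).mp this)
  have hW : ∀ u ∈ Submodule.span F {v}, ∀ w ∈ Submodule.span F {v}, Bsymp m F u w = 0 := by
    intro u hu w hw
    obtain ⟨a, rfl⟩ := Submodule.mem_span_singleton.mp hu
    obtain ⟨b, rfl⟩ := Submodule.mem_span_singleton.mp hw
    simp only [map_smul, LinearMap.smul_apply, (Bsymp_isAlt m) v, smul_zero]
  obtain ⟨hlt, hmax⟩ := maximal_stab_totally_isotropic (Bsymp m F) (Bsymp_isAlt m)
    (Bsymp_nondegenerate m) (Submodule.span F {v}) hW0 hW
  constructor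
  · -- not top
    intro htop
    apply hlt.ne
    apply le_antisymm inf_le_right
    intro h hh
    obtain ⟨g, rfl⟩ := exists_iota_eq m hh
    have : iota m g ∈ stab (Submodule.span F {v}) := by
      rw [← mem_stabilizer_iff m v hv, htop]
      trivial
    exact ⟨this, hh⟩
  · intro M hSM
    have h1 : stab (Submodule.span F {v}) ⊓ isoGroup (Bsymp m F) ≤ M.map (iota m) := by
      rintro h ⟨hst, hiso⟩
      obtain ⟨g, rfl⟩ := exists_iota_eq m hiso
      refine ⟨g, hSM.le ?_, rfl⟩
      rw [mem_stabilizer_iff m v hv]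
      exact hst
    have h2 : M.map (iota m) ≤ isoGroup (Bsymp m F) := by
      rintro _ ⟨g, _, rfl⟩
      exact iota_mem m g
    rcases hmax _ h1 h2 with h3 | h3
    · exfalso
      apply hSM.not_ge
      intro g hg
      rw [mem_stabilizer_iff m v hv]
      have : iota m g ∈ M.map (iota m) := ⟨g, hg, rfl⟩
      rw [h3] at this
      exact this.1
    · rw [eq_top_iff]
      intro g _
      have : iota m g ∈ M.map (iota m) := by rw [h3]; exact iota_mem m g
      obtain ⟨g', hg', hgg'⟩ := this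
      rw [← iota_injective m hgg']
      exact hg'

/-- Primitivity: for m ≥ 1 and F finite, the symplectic group of the form sympForm (as a subgroup of the general linear group) acts primitively on the projective space of F^(2m). -/
theorem result {F : Type*} [Field F] [Finite F] (m : ℕ) (hm : 1 ≤ m) : MulAction.IsPreprimitive ↥(Cfsg.spGL m F) (ℙ F (Fin m ⊕ Fin m → F)) := by
  classical
  set i₀ : Fin m := ⟨0, hm⟩
  have hv : (Pi.single (Sum.inl i₀) 1 : Fin m ⊕ Fin m → F) ≠ 0 := by
    intro h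
    have := congrFun h (Sum.inl i₀)
    simp at this
  have hw : (Pi.single (Sum.inr i₀) 1 : Fin m ⊕ Fin m → F) ≠ 0 := by
    intro h
    have := congrFun h (Sum.inr i₀)
    simp at this
  have : Nontrivial (ℙ F (Fin m ⊕ Fin m → F)) := by
    refine ⟨⟨Projectivization.mk F _ hv, Projectivization.mk F _ hw, ?_⟩⟩
    intro h
    rw [Projectivization.mk_eq_mk_iff] at h
    obtain ⟨c, hc⟩ := h
    have := congrFun hc (Sum.inl i₀)
    simp at this
  rw [← MulAction.isCoatom_stabilizer_iff_preprimitive ↥(Cfsg.spGL m F)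
    (Projectivization.mk F _ hv)]
  exact isCoatom_stabilizer m _ hv

end Cfsg.Agent.S0768
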