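import Cfsg.Statements.S0780
import Cfsg.Agent.Lib.Helper13_SUGen
import Cfsg.Agent.Lib.Helper13_Herm
import Cfsg.Agent.Lib.Helper94_HermBridge
import Cfsg.Agent.Lib.Helper5_SUCenter
import Cfsg.Agent.Lib.Helper5_HermCount

set_option autoImplicit false
open Cfsg

namespace Cfsg.Agent.S0780

open Matrix Module Cfsg.Agent.Lib.Helper94_Symp Cfsg.Agent.Lib.Helper94_Bridge
  Cfsg.Agent.Lib.Helper94_Herm Cfsg.Agent.Lib.Helper94_HermBridge
  Cfsg.Agent.Lib.Helper94_HermTrans Cfsg.Agent.Lib.Helper13_SUGen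
  Cfsg.Agent.Lib.Helper5_GUOrder Cfsg.Agent.Lib.Helper5_SUCenter

variable {F : Type*} [Field F] [Fintype F] {q : ℕ} {n : ℕ}

/-- The special unitary group acting on the standard space by linear equivalences. -/
noncomputable def toLE (n q : ℕ) (F : Type*) [Field F] :
    ↥(Cfsg.SU n F q) →* ((Fin n → F) ≃ₗ[F] (Fin n → F)) :=
  (glEquiv (Fin n) F).toMonoidHom.comp
    (Matrix.SpecialLinearGroup.toGL.comp (Cfsg.SU n F q).subtype)

omit [Fintype F] in
theorem toLE_apply (A : ↥(Cfsg.SU n F q)) (v : Fin n → F) :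
    toLE n q F A v = ((A : Matrix.SpecialLinearGroup (Fin n) F) : Matrix (Fin n) (Fin n) F) *ᵥ v := by
  simp [toLE]

omit [Fintype F] in
theorem toLE_injective : Function.Injective (toLE n q F) := by
  intro A A' h
  apply Subtype.ext
  apply Subtype.ext
  apply Matrix.toLin'.injective
  apply LinearMap.ext
  intro v
  rw [Matrix.toLin'_apply, Matrix.toLin'_apply, ← toLE_apply, ← toLE_apply, h]

omit [Fintype F] in
theorem toLE_det (A : ↥(Cfsg.SU n F q)) : LinearEquiv.det (toLE n q F A) = 1 := by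
  rw [← Units.val_inj, LinearEquiv.coe_det, Units.val_one]
  have : ((toLE n q F A : (Fin n → F) ≃ₗ[F] (Fin n → F)) : (Fin n → F) →ₗ[F] (Fin n → F)) =
      Matrix.toLin' ((A : Matrix.SpecialLinearGroup (Fin n) F) : Matrix (Fin n) (Fin n) F) := by
    apply LinearMap.ext
    intro v
    rw [LinearEquiv.coe_coe, toLE_apply, Matrix.toLin'_apply]
  rw [this, LinearMap.det_toLin']
  exact A.1.2

theorem exists_norm_ne_one (hF : Fintype.card F = q ^ 2) (hq3 : 3 ≤ q) :
    ∃ y : F, y ≠ 0 ∧ y * y ^ q ≠ 1 := by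
  classical
  have hc := Cfsg.Agent.Lib.Helper5_HermCount.card_norm_eq hF (c := (1 : F)) one_ne_zero
    (one_pow q)
  by_contra hcon
  push Not at hcon
  have hsub : (Finset.univ : Finset F) ⊆
      insert 0 (Finset.univ.filter (fun x : F => x * x ^ q = 1)) := by
    intro x _
    by_cases hx : x = 0
    · simp [hx]
    · simp [hcon x hx]
  have h1 := Finset.card_le_card hsub
  have h2 := Finset.card_insert_le (0 : F) (Finset.univ.filter (fun x : F => x * x ^ q = 1))
  rw [Finset.card_univ, hF] at h1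
  rw [hc] at h2
  nlinarith

/-- Generation of SU_n(q), n ≥ 3, (n, q) ≠ (3, 2), by unitary transvections: the subgroup generated by the elements whose matrix is x ↦ x + c h(x, v) v with v isotropic is all of SU_n(q). -/
theorem result {F : Type*} [Field F] [Fintype F] {q : ℕ} (hF : Fintype.card F = q ^ 2) (n : ℕ) (hn : 3 ≤ n) (h32 : ¬ (n = 3 ∧ q = 2)) : Subgroup.closure {A : ↥(Cfsg.SU n F q) | ∃ (v : Fin n → F) (c : F), Cfsg.hermForm n F q v v = 0 ∧ ((A : Matrix.SpecialLinearGroup (Fin n) F) : Matrix (Fin n) (Fin n) F) = Cfsg.unitaryTransvection n q v c} = ⊤ := by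
  obtain ⟨σ, hσq, hσ⟩ := exists_frob hF
  have hB := hermB_isHerm (n := n) σ hσq hσ
  have hN := hermB_nondeg (n := n) σ hσq
  have hq2 : 2 ≤ q := by
    have h1 : 1 < Fintype.card F := Fintype.one_lt_card
    rw [hF] at h1
    by_contra hlt
    push Not at hlt
    interval_cases q <;> simp at h1
  rw [eq_top_iff]
  intro A _
  have hAU : toLE n q F A ∈ uG (hermB n σ hσq) := by
    intro x y
    rw [toLE_apply, toLE_apply, hermB_apply, hermB_apply]
    exact A.2 x y
  have hAdet := toLE_det A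
  have hfr : finrank F (Fin n → F) = n := Module.finrank_fin_fun F
  have hmem : toLE n q F A ∈ tvGroup (hermB n σ hσq) ⊤ := by
    by_cases h4 : 4 ≤ n
    · exact mem_tvGroup_of_four_le hσ hB hN (by rw [hfr]; exact h4) hAU hAdet
    · have hn3 : n = 3 := by omega
      have hq3 : 3 ≤ q := by
        have : q ≠ 2 := fun h => h32 ⟨hn3, h⟩
        omega
      obtain ⟨y, hy0, hy1⟩ := exists_norm_ne_one hF hq3
      refine mem_tvGroup_of_three hσ hB hN (by rw [hfr]; exact hn3) (a := y * y ^ q) ?_ ?_ hy1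
        hAU hAdet
      · rw [map_mul, ← hσq y, hσ.invol, mul_comm]
      · exact mul_ne_zero hy0 (pow_ne_zero _ hy0)
  have hle : tvGroup (hermB n σ hσq) ⊤ ≤ (Subgroup.closure {A : ↥(Cfsg.SU n F q) | ∃ (v : Fin n → F) (c : F), Cfsg.hermForm n F q v v = 0 ∧ ((A : Matrix.SpecialLinearGroup (Fin n) F) : Matrix (Fin n) (Fin n) F) = Cfsg.unitaryTransvection n q v c}).map (toLE n q F) := by
    apply tvGroup_le
    intro a _ ha c hc
    have ha' : Cfsg.hermForm n F q a a = 0 := ha
    have hc' : c ^ q = -c := by rw [← hσq]; exact hc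
    have hU : IsU n q (Cfsg.unitaryTransvection n q a c) := by
      apply isU_transvection hF
      rw [ha', hc']
      ring
    have hdet : (Cfsg.unitaryTransvection n q a c).det = 1 := by
      rw [det_unitaryTransvection, ha', mul_zero, add_zero]
    refine ⟨mkSU _ hU hdet, Subgroup.subset_closure ⟨a, c, ha', rfl⟩, ?_⟩
    apply LinearEquiv.ext
    intro x
    rw [toLE_apply, mkSU_val, Cfsg.Agent.Lib.Helper13_Herm.unitaryTransvection_mulVec,
      utv_apply _ ha, hermB_apply]
  obtain ⟨A', hA', hAA'⟩ := hle hmem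
  rw [← toLE_injective hAA']
  exact hA'

end Cfsg.Agent.S0780
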