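import Cfsg.Statements.S0782
import Cfsg.Agent.Lib.Helper13_HermFrames
import Cfsg.Agent.Lib.Helper13_HermHyp
import Cfsg.Agent.Lib.Helper5_SUOrder
import Cfsg.Agent.S0285

set_option autoImplicit false
open Cfsg

namespace Cfsg.Agent.S0782

open Matrix Module Submodule Cfsg.Agent.Lib.Helper13_Herm Cfsg.Agent.Lib.Helper13_HermFrames
  Cfsg.Agent.Lib.Helper13_HermHyp Cfsg.Agent.Lib.Helper5_GUOrder Cfsg.Agent.Lib.Helper5_SUOrder

section
variable {F : Type*} [Field F] [Fintype F] {q n k : ℕ}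

/-- families of `k` vectors, carrying the action of the unitary group -/
abbrev Fr (n k : ℕ) (F : Type*) := Fin k → (Fin n → F)

instance : MulAction ↥(Cfsg.GU n F q) (Fr n k F) where
  smul g b := fun i => (g.1 : Matrix (Fin n) (Fin n) F) *ᵥ b i
  one_smul b := by
    funext i
    exact Matrix.one_mulVec _
  mul_smul g h b := by
    funext i
    show ((g.1 * h.1 : GL (Fin n) F) : Matrix (Fin n) (Fin n) F) *ᵥ b i =
      (g.1 : Matrix (Fin n) (Fin n) F) *ᵥ ((h.1 : Matrix (Fin n) (Fin n) F) *ᵥ b i)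
    rw [Units.val_mul, Matrix.mulVec_mulVec]

omit [Fintype F] in
theorem smul_apply (g : ↥(Cfsg.GU n F q)) (b : Fr n k F) (i : Fin k) :
    (g • b) i = (g.1 : Matrix (Fin n) (Fin n) F) *ᵥ b i := rfl

theorem isU_of_mem (g : ↥(Cfsg.GU n F q)) : IsU n q (g.1 : Matrix (Fin n) (Fin n) F) :=
  (mem_GU_iff g.1).mp g.2

theorem orbit_eq (hF : Fintype.card F = q ^ 2) (b₀ : Fr n k F) (hb₀ : IsoFrameH n q k b₀) :
    MulAction.orbit ↥(Cfsg.GU n F q) b₀ = {b : Fr n k F | IsoFrameH n q k b} := by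
  have hq : q ≠ 0 := by have := two_le_q hF; omega
  ext b
  constructor
  · rintro ⟨g, rfl⟩
    exact isoFrameH_map hF _ (isU_of_mem g) b₀ hb₀
  · intro hb
    obtain ⟨M, hM0, hMb⟩ := exists_isometry_map hF b₀ b hb₀ hb
    have hM : IsU n q M := hM0
    refine ⟨mkGU hq M hM, ?_⟩
    funext i
    exact hMb i

/-- the stabiliser of `W` in the unitary group -/
abbrev KW (q : ℕ) (W : Submodule F (Fin n → F)) : Subgroup ↥(Cfsg.GU n F q) :=
  (Cfsg.stabilizing (Cfsg.glToMat (Fin n) F) (W : Set (Fin n → F))).subgroupOf (Cfsg.GU n F q)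

omit [Fintype F] in
theorem mem_KW_iff (W : Submodule F (Fin n → F)) (g : ↥(Cfsg.GU n F q)) :
    g ∈ KW q W ↔ ∀ v, v ∈ W ↔ (g.1 : Matrix (Fin n) (Fin n) F) *ᵥ v ∈ W := Iff.rfl

theorem mem_KW_of_smul (hF : Fintype.card F = q ^ 2) (W : Submodule F (Fin n → F))
    (g : ↥(Cfsg.GU n F q)) (b b' : Fr n k F)
    (hb : span F (Set.range b) = W) (hb' : span F (Set.range b') = W) (h : g • b = b') :
    g ∈ KW q W := by
  have hmap : W.map (Matrix.toLin' (g.1 : Matrix (Fin n) (Fin n) F)) = W := by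
    conv_lhs => rw [← hb]
    rw [Submodule.map_span, ← Set.range_comp, ← hb', ← h]
    congr 2
  rw [mem_KW_iff]
  intro v
  constructor
  · intro hv
    have h1 : Matrix.toLin' (g.1 : Matrix (Fin n) (Fin n) F) v ∈
        W.map (Matrix.toLin' (g.1 : Matrix (Fin n) (Fin n) F)) := Submodule.mem_map_of_mem hv
    rw [hmap, Matrix.toLin'_apply] at h1
    exact h1
  · intro hv
    rw [← hmap] at hv
    obtain ⟨w, hw, hwv⟩ := hv
    rw [Matrix.toLin'_apply] at hwv
    have := isometry_injective hF _ (isU_of_mem g) hwv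
    rw [← this]
    exact hw

theorem orbit_KW_eq (hF : Fintype.card F = q ^ 2) (W : Submodule F (Fin n → F))
    (hk : finrank F W = k)
    (hW : ∀ u ∈ W, ∀ v ∈ W, Cfsg.hermForm n F q u v = 0) (b₀ : Fr n k F)
    (hb₀ : LinearIndependent F (b₀ : Fin k → (Fin n → F))) (hb₀W : ∀ i, b₀ i ∈ W) :
    MulAction.orbit ↥(KW q W) b₀ =
      {b : Fr n k F | LinearIndependent F (b : Fin k → (Fin n → F)) ∧ ∀ i, b i ∈ W} := by
  have hq : q ≠ 0 := by have := two_le_q hF; omega
  ext b
  constructor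
  · rintro ⟨h, rfl⟩
    refine ⟨(isoFrameH_map hF _ (isU_of_mem h.1) b₀
      ⟨hb₀, fun i j => hW _ (hb₀W i) _ (hb₀W j)⟩).1, fun i => ?_⟩
    exact ((mem_KW_iff W h.1).mp h.2 (b₀ i)).mp (hb₀W i)
  · rintro ⟨hb, hbW⟩
    have hf₀ : IsoFrameH n q k b₀ := ⟨hb₀, fun i j => hW _ (hb₀W i) _ (hb₀W j)⟩
    have hf : IsoFrameH n q k b := ⟨hb, fun i j => hW _ (hbW i) _ (hbW j)⟩
    obtain ⟨M, hM0, hMb⟩ := exists_isometry_map hF b₀ b hf₀ hf
    have hM : IsU n q M := hM0
    have hgb : (mkGU hq M hM : ↥(Cfsg.GU n F q)) • b₀ = b := by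
      funext i
      exact hMb i
    have hgH : mkGU hq M hM ∈ KW q W := mem_KW_of_smul hF W _ b₀ b
      (span_eq_of_indep W b₀ hb₀ hb₀W hk) (span_eq_of_indep W b hb hbW hk) hgb
    exact ⟨⟨mkGU hq M hM, hgH⟩, hgb⟩

theorem card_stabilizer_KW (hF : Fintype.card F = q ^ 2) (W : Submodule F (Fin n → F))
    (b₀ : Fr n k F) (hspan : span F (Set.range b₀) = W) :
    Nat.card (MulAction.stabilizer ↥(KW q W) b₀) =
      Nat.card (MulAction.stabilizer ↥(Cfsg.GU n F q) b₀) := by
  have hle : MulAction.stabilizer ↥(Cfsg.GU n F q) b₀ ≤ KW q W := by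
    intro g hg
    exact mem_KW_of_smul hF W g b₀ b₀ hspan hspan hg
  have h1 : MulAction.stabilizer ↥(KW q W) b₀ =
      (MulAction.stabilizer ↥(Cfsg.GU n F q) b₀).subgroupOf (KW q W) := by
    ext h
    rfl
  rw [h1]
  exact Nat.card_congr (Subgroup.subgroupOfEquivOfLe hle).toEquiv

theorem key_count (hF : Fintype.card F = q ^ 2) (W : Submodule F (Fin n → F))
    (hk : finrank F W = k)
    (hW : ∀ u ∈ W, ∀ v ∈ W, Cfsg.hermForm n F q u v = 0) :
    Nat.card ↥(KW q W) * Nat.card (Frames F n q k) =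
    (∏ i : Fin k, ((q ^ 2) ^ k - (q ^ 2) ^ (i : ℕ))) * Nat.card ↥(Cfsg.GU n F q) := by
  classical
  let bW : Basis (Fin k) F W := Module.finBasisOfFinrankEq F W hk
  let b₀ : Fr n k F := fun i => (bW i : Fin n → F)
  have hb₀ : LinearIndependent F (b₀ : Fin k → (Fin n → F)) :=
    bW.linearIndependent.map' W.subtype (Submodule.ker_subtype W)
  have hb₀W : ∀ i, b₀ i ∈ W := fun i => (bW i).2
  have hf₀ : IsoFrameH n q k b₀ := ⟨hb₀, fun i j => hW _ (hb₀W i) _ (hb₀W j)⟩
  have hspan := span_eq_of_indep W b₀ hb₀ hb₀W hk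
  have hG := Nat.card_congr
    (MulAction.orbitProdStabilizerEquivGroup ↥(Cfsg.GU n F q) b₀)
  have hH := Nat.card_congr (MulAction.orbitProdStabilizerEquivGroup ↥(KW q W) b₀)
  rw [Nat.card_prod] at hG hH
  rw [card_stabilizer_KW hF W b₀ hspan] at hH
  have hX : Nat.card (MulAction.orbit ↥(Cfsg.GU n F q) b₀) = Nat.card (Frames F n q k) := by
    rw [orbit_eq hF b₀ hf₀]
    rfl
  have hY : Nat.card (MulAction.orbit ↥(KW q W) b₀) =
      ∏ i : Fin k, ((q ^ 2) ^ k - (q ^ 2) ^ (i : ℕ)) := by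
    rw [orbit_KW_eq hF W hk hW b₀ hb₀ hb₀W, ← hF]
    exact card_bases W hk
  have hG' : Nat.card (Frames F n q k) *
      Nat.card (MulAction.stabilizer ↥(Cfsg.GU n F q) b₀) = Nat.card ↥(Cfsg.GU n F q) := by
    rw [← hX]
    exact hG
  have hH' : (∏ i : Fin k, ((q ^ 2) ^ k - (q ^ 2) ^ (i : ℕ))) *
      Nat.card (MulAction.stabilizer ↥(Cfsg.GU n F q) b₀) = Nat.card ↥(KW q W) := by
    rw [← hY]
    exact hH
  rw [← hH', ← hG']
  ring

/-! ### the determinant on the stabiliser -/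

/-- determinant on the stabiliser -/
noncomputable def detK (q : ℕ) (W : Submodule F (Fin n → F)) : ↥(KW q W) →* Fˣ :=
  (detGU n q F).comp (KW q W).subtype

omit [Fintype F] in
theorem detK_val (W : Submodule F (Fin n → F)) (x : ↥(KW q W)) :
    ((detK q W x : Fˣ) : F) = (x.1.1 : Matrix (Fin n) (Fin n) F).det := rfl

/-- the stabiliser of `W` in the special unitary group -/
abbrev SW (q : ℕ) (W : Submodule F (Fin n → F)) : Subgroup ↥(Cfsg.SU n F q) :=
  (Cfsg.stabilizing (Cfsg.slToMat n F) (W : Set (Fin n → F))).subgroupOf (Cfsg.SU n F q)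

/-- the kernel of the determinant is the stabiliser in `SU` -/
noncomputable def kerEquivK (W : Submodule F (Fin n → F)) : (detK q W).ker ≃ ↥(SW q W) where
  toFun x := ⟨⟨⟨(x.1.1.1 : Matrix (Fin n) (Fin n) F), by
      have h := x.2
      rw [MonoidHom.mem_ker] at h
      have h2 := congrArg Units.val h
      rw [detK_val] at h2
      exact h2⟩, (mem_SU_iff _).mpr (isU_of_mem x.1.1)⟩, by
      rw [Subgroup.mem_subgroupOf]
      intro v
      exact (mem_KW_iff W x.1.1).mp x.1.2 v⟩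
  invFun y := ⟨⟨⟨Matrix.SpecialLinearGroup.toGL y.1.1,
      (mem_GU_iff _).mpr ((mem_SU_iff y.1.1).mp y.1.2)⟩, by
      rw [mem_KW_iff]
      intro v
      have h := y.2
      rw [Subgroup.mem_subgroupOf] at h
      exact h v⟩, by
      rw [MonoidHom.mem_ker]
      apply Units.ext
      rw [detK_val]
      exact y.1.1.2⟩
  left_inv x := by
    apply Subtype.ext
    apply Subtype.ext
    apply Subtype.ext
    apply Units.ext
    rfl
  right_inv y := by
    apply Subtype.ext
    apply Subtype.ext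
    apply Subtype.ext
    rfl

theorem mem_KW_of_maps (hF : Fintype.card F = q ^ 2) (W : Submodule F (Fin n → F))
    (g : ↥(Cfsg.GU n F q)) (h : ∀ v ∈ W, (g.1 : Matrix (Fin n) (Fin n) F) *ᵥ v ∈ W) :
    g ∈ KW q W := by
  have hinj : Function.Injective (Matrix.toLin' (g.1 : Matrix (Fin n) (Fin n) F)) := by
    intro u v huv
    rw [Matrix.toLin'_apply, Matrix.toLin'_apply] at huv
    exact isometry_injective hF _ (isU_of_mem g) huv
  have hle : W.map (Matrix.toLin' (g.1 : Matrix (Fin n) (Fin n) F)) ≤ W := by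
    rintro _ ⟨v, hv, rfl⟩
    rw [Matrix.toLin'_apply]
    exact h v hv
  have hmap : W.map (Matrix.toLin' (g.1 : Matrix (Fin n) (Fin n) F)) = W := by
    apply Submodule.eq_of_le_of_finrank_eq hle
    exact (LinearEquiv.finrank_eq (Submodule.equivMapOfInjective _ hinj W)).symm
  rw [mem_KW_iff]
  intro v
  constructor
  · exact h v
  · intro hv
    rw [← hmap] at hv
    obtain ⟨w, hw, hwv⟩ := hv
    have := hinj hwv
    rw [← this]
    exact hw

theorem range_detK (hF : Fintype.card F = q ^ 2) (W : Submodule F (Fin n → F))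
    (hW : ∀ u ∈ W, ∀ v ∈ W, Cfsg.hermForm n F q u v = 0) (hW0 : W ≠ ⊥) :
    (detK q W).range = (powMonoidHom (q + 1) : Fˣ →* Fˣ).ker := by
  have hq : q ≠ 0 := by have := two_le_q hF; omega
  ext u
  rw [MonoidHom.mem_range, MonoidHom.mem_ker, powMonoidHom_apply]
  constructor
  · rintro ⟨x, rfl⟩
    apply Units.ext
    rw [Units.val_pow_eq_pow_val, detK_val, Units.val_one, pow_succ']
    exact det_mul_det_pow_of_isU hF (isU_of_mem x.1)
  · intro hu
    have hz : (u : F) ^ (q + 1) = 1 := by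
      rw [← Units.val_pow_eq_pow_val, hu, Units.val_one]
    obtain ⟨c, hc, hcz⟩ := hilbert90 hF (u : F) hz
    obtain ⟨e, heW, he⟩ := Submodule.exists_mem_ne_zero_of_ne_bot hW0
    have he0 := hW e heW e heW
    obtain ⟨f, hef, hfe, hf0⟩ := exists_partner hF e he he0
    have hM : IsU n q (hypMat n q e f c) := hypMat_isometry hF e f he0 hf0 hef hfe c hc
    have hK : mkGU hq _ hM ∈ KW q W := by
      apply mem_KW_of_maps hF
      intro v hv
      show hypMat n q e f c *ᵥ v ∈ W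
      rw [hypMat_mulVec, hW v hv e heW, mul_zero, zero_smul, add_zero]
      exact W.add_mem hv (W.smul_mem _ heW)
    refine ⟨⟨mkGU hq _ hM, hK⟩, ?_⟩
    apply Units.ext
    rw [detK_val]
    show (hypMat n q e f c).det = (u : F)
    rw [hypMat_det e f he0 hf0 hef hfe c, hcz]

theorem card_normOne (hF : Fintype.card F = q ^ 2) :
    Nat.card ↥((powMonoidHom (q + 1) : Fˣ →* Fˣ).ker) = q + 1 := by
  refine (Nat.card_congr ?_).trans (Cfsg.Agent.S0754.result hF 1 one_ne_zero (one_pow q))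
  exact
    { toFun := fun u => ⟨(u.1 : F), by
        have h := u.2
        rw [MonoidHom.mem_ker, powMonoidHom_apply] at h
        rw [← Units.val_pow_eq_pow_val, h, Units.val_one]⟩
      invFun := fun x => ⟨Units.mk0 x.1 (by
        intro h0
        have := x.2
        rw [h0, zero_pow (by omega)] at this
        exact zero_ne_one this), by
        rw [MonoidHom.mem_ker, powMonoidHom_apply]
        apply Units.ext
        rw [Units.val_pow_eq_pow_val, Units.val_mk0, Units.val_one]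
        exact x.2⟩
      left_inv := fun u => by
        apply Subtype.ext
        apply Units.ext
        rfl
      right_inv := fun x => by
        apply Subtype.ext
        rfl }

theorem card_KW (hF : Fintype.card F = q ^ 2) (W : Submodule F (Fin n → F))
    (hW : ∀ u ∈ W, ∀ v ∈ W, Cfsg.hermForm n F q u v = 0) (hW0 : W ≠ ⊥) :
    Nat.card ↥(KW q W) = (q + 1) * Nat.card ↥(SW q W) := by
  rw [← Subgroup.card_mul_index (detK q W).ker, Subgroup.index_ker, range_detK hF W hW hW0,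
    card_normOne hF, Nat.card_congr (kerEquivK W), mul_comm]

end

/-- the factors of the order of the unitary group -/
def ff (q i : ℕ) : ℕ := if Even i then q ^ (i + 1) + 1 else q ^ (i + 1) - 1

/-- the order of the unitary group -/
def gu (q n : ℕ) : ℕ := q ^ (n * (n - 1) / 2) * ∏ i ∈ Finset.range n, ff q i

theorem tri_succ2 (n : ℕ) : (n + 2) * (n + 2 - 1) / 2 = n * (n - 1) / 2 + (2 * n + 1) := by
  rcases n with _ | m
  · norm_num
  · have e1 : m + 1 + 2 - 1 = m + 2 := by omega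
    have e2 : m + 1 - 1 = m := by omega
    have h1 : (m + 1 + 2) * (m + 2) = (m + 1) * m + 2 * (2 * (m + 1) + 1) := by ring
    rw [e1, e2, h1, Nat.add_mul_div_left _ _ (by norm_num : 0 < 2)]

theorem gu_succ2 (q n : ℕ) : gu q (n + 2) = gu q n * q ^ (2 * n + 1) * (ff q n * ff q (n + 1)) := by
  unfold gu
  rw [tri_succ2, Finset.prod_range_succ, Finset.prod_range_succ, pow_add]
  ring

theorem card_isoVec {F : Type*} [Field F] [Fintype F] {q : ℕ} (hF : Fintype.card F = q ^ 2)
    (n : ℕ) : Nat.card (IsoVec F (n + 2) q) = ff q n * ff q (n + 1) := by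
  have h1 := card_isoVec_add_one (F := F) (n + 2) q
  rw [Cfsg.Agent.S0285.result hF (n + 2)] at h1
  have h2 : n + 2 - 1 = n + 1 := by omega
  rw [h2] at h1
  unfold ff
  by_cases hn : Even n
  · have hn2 : Even (n + 2) := by
      rw [Nat.even_add]
      simp [hn]
    have hn1 : ¬ Even (n + 1) := by
      rw [Nat.even_add_one]
      simpa using hn
    rw [if_pos hn2] at h1
    rw [if_pos hn, if_neg hn1]
    have h3 : Nat.card (IsoVec F (n + 2) q) = (q ^ (n + 2) - 1) * (q ^ (n + 1) + 1) := by omega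
    rw [h3, mul_comm]
  · have hn2 : ¬ Even (n + 2) := by
      rw [Nat.even_add]
      simp [hn]
    have hn1 : Even (n + 1) := by
      rw [Nat.even_add_one]
      exact hn
    rw [if_neg hn2] at h1
    rw [if_neg hn, if_pos hn1]
    have h3 : Nat.card (IsoVec F (n + 2) q) = (q ^ (n + 2) + 1) * (q ^ (n + 1) - 1) := by omega
    rw [h3, mul_comm]

theorem frames_closed {F : Type*} [Field F] [Fintype F] {q : ℕ} (hF : Fintype.card F = q ^ 2) :
    ∀ k n : ℕ, 2 * k ≤ n →
      q ^ (k * (2 * n - 3 * k)) * gu q (n - 2 * k) * Nat.card (Frames F n q k) = gu q n := by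
  intro k
  induction k with
  | zero =>
    intro n _
    rw [card_frames_zero]
    simp
  | succ k ih =>
    intro n hn
    obtain ⟨d, rfl⟩ : ∃ d, n = (2 * k + d) + 2 := ⟨n - 2 * k - 2, by omega⟩
    have ih' := ih (2 * k + d) (by omega)
    rw [card_frames_succ hF (2 * k + d) k, card_isoVec hF, gu_succ2, ← ih']
    have e1 : 2 * k + d + 2 - 2 * (k + 1) = d := by omega
    have e2 : 2 * k + d - 2 * k = d := by omega
    have e3 : 2 * (2 * k + d + 2) - 3 * (k + 1) = k + 2 * d + 1 := by omega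
    have e4 : 2 * (2 * k + d) - 3 * k = k + 2 * d := by omega
    rw [e1, e2, e3, e4]
    ring


theorem gu_pos (q n : ℕ) (hq : 2 ≤ q) : 0 < gu q n := by
  unfold gu
  apply Nat.mul_pos
  · exact Nat.pow_pos (by omega)
  · apply Finset.prod_pos
    intro i _
    unfold ff
    have : 2 ^ (i + 1) ≤ q ^ (i + 1) := Nat.pow_le_pow_left hq _
    have h2 : 2 ≤ 2 ^ (i + 1) := by
      calc 2 = 2 ^ 1 := by norm_num
        _ ≤ 2 ^ (i + 1) := Nat.pow_le_pow_right (by norm_num) (by omega)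
    split_ifs <;> omega

theorem stab_bot_eq_top {F : Type*} [Field F] (n : ℕ) :
    Cfsg.stabilizing (Cfsg.slToMat n F) (((⊥ : Submodule F (Fin n → F)) : Set (Fin n → F))) = ⊤ := by
  rw [eq_top_iff]
  intro g _ v
  show v ∈ (⊥ : Submodule F (Fin n → F)) ↔
    (g : Matrix (Fin n) (Fin n) F) *ᵥ v ∈ (⊥ : Submodule F (Fin n → F))
  rw [Submodule.mem_bot, Submodule.mem_bot]
  constructor
  · rintro rfl
    exact Matrix.mulVec_zero _
  · intro h
    apply Matrix.eq_zero_of_mulVec_eq_zero _ h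
    rw [g.2]
    exact one_ne_zero

theorem result {F : Type*} [Field F] [Fintype F] {q : ℕ} (hF : Fintype.card F = q ^ 2) (n k : ℕ) (hn : 1 ≤ n) (hk : 2 * k ≤ n) (W : Submodule F (Fin n → F)) (hWk : Module.finrank F W = k) (hW : ∀ u ∈ W, ∀ v ∈ W, Cfsg.hermForm n F q u v = 0) : (q + 1) * Nat.card ↥((Cfsg.stabilizing (Cfsg.slToMat n F) (W : Set (Fin n → F))).subgroupOf (Cfsg.SU n F q)) = q ^ (k * (2 * n - 3 * k)) * (∏ i : Fin k, ((q ^ 2) ^ k - (q ^ 2) ^ (i : ℕ))) * (q ^ ((n - 2 * k) * ((n - 2 * k) - 1) / 2) * ∏ i ∈ Finset.range (n - 2 * k), (if Even i then q ^ (i + 1) + 1 else q ^ (i + 1) - 1)) := by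
  have hq : 2 ≤ q := two_le_q hF
  rcases Nat.eq_zero_or_pos k with hk0 | hkpos
  · subst hk0
    have hW0 : W = ⊥ := Submodule.finrank_eq_zero.mp hWk
    subst hW0
    rw [stab_bot_eq_top, Subgroup.top_subgroupOf, Subgroup.card_top]
    rw [Cfsg.Agent.Lib.Helper5_SUOrder.card_SU hF n hn]
    simp
  · have hW0 : W ≠ ⊥ := by
      intro h
      rw [h, finrank_bot] at hWk
      omega
    have h1 := key_count hF W hWk hW
    have h2 := card_KW hF W hW hW0
    have h3 : Nat.card ↥(Cfsg.GU n F q) = gu q n := Cfsg.Agent.Lib.Helper5_GUOrder.card_GU hF n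
    have h4 := frames_closed (F := F) hF k n hk
    have hX : 0 < Nat.card (Frames F n q k) := by
      rcases Nat.eq_zero_or_pos (Nat.card (Frames F n q k)) with h0 | h0
      · rw [h0, mul_zero] at h4
        have := gu_pos q n hq
        omega
      · exact h0
    apply Nat.eq_of_mul_eq_mul_right hX
    show (q + 1) * Nat.card ↥(SW q W) * _ = _ * _ * gu q (n - 2 * k) * _
    rw [← h2, h1, h3, ← h4]
    ring

end Cfsg.Agent.S0782
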