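import Cfsg.Statements.S0781
import Cfsg.Agent.Lib.Helper13_HermFrames
import Cfsg.Agent.Lib.Helper13_HermHyp
import Cfsg.Agent.Lib.Helper5_SUCenter
import Cfsg.Agent.S0779
import Cfsg.Agent.S0285
import Cfsg.Agent.S0782

set_option autoImplicit false
open Cfsg

namespace Cfsg.Agent.S0781

open Matrix Cfsg.Agent.Lib.Helper13_Herm Cfsg.Agent.Lib.Helper13_HermFrames
  Cfsg.Agent.Lib.Helper13_HermHyp Cfsg.Agent.Lib.Helper5_GUOrder Cfsg.Agent.Lib.Helper5_SUOrder
  Cfsg.Agent.Lib.Helper5_SUCenter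

theorem mem_commutatorSet_of_mul {G : Type*} [Group G] (A B C : G) (h : B * C = A * C * B) :
    A ∈ commutatorSet G := by
  refine ⟨B, C, ?_⟩
  rw [commutatorElement_def, h]
  group

section
variable {F : Type*} [Field F] [Fintype F] {q n : ℕ}

omit [Fintype F] in
/-- equality in `SU` from equality of matrices -/
theorem su_ext (X Y : ↥(Cfsg.SU n F q))
    (h : (X.1 : Matrix (Fin n) (Fin n) F) = (Y.1 : Matrix (Fin n) (Fin n) F)) : X = Y :=
  Subtype.ext (Subtype.ext h)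

/-- Siegel-type elements attached to an orthogonal pair of isotropic vectors -/
def sieg (n q : ℕ) (v w : Fin n → F) (b : F) : Matrix (Fin n) (Fin n) F :=
  1 + b • Matrix.vecMulVec v (fun j => w j ^ q) - b ^ q • Matrix.vecMulVec w (fun j => v j ^ q)

omit [Fintype F] in
theorem sieg_mulVec (v w : Fin n → F) (b : F) (x : Fin n → F) :
    sieg n q v w b *ᵥ x = x + (b * Cfsg.hermForm n F q x w) • v -
      (b ^ q * Cfsg.hermForm n F q x v) • w := by
  unfold sieg
  rw [Matrix.sub_mulVec, Matrix.add_mulVec, Matrix.one_mulVec, Matrix.smul_mulVec,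
    Matrix.smul_mulVec, vecMulVec_pow_mulVec, vecMulVec_pow_mulVec, smul_smul, smul_smul]

theorem sieg_isU (hF : Fintype.card F = q ^ 2) (v w : Fin n → F)
    (hv0 : Cfsg.hermForm n F q v v = 0) (hw0 : Cfsg.hermForm n F q w w = 0)
    (hvw : Cfsg.hermForm n F q v w = 0) (b : F) : IsU n q (sieg n q v w b) := by
  have hwv : Cfsg.hermForm n F q w v = 0 := by
    rw [← hermForm_pow_q n hF v w, hvw, zero_pow (by have := two_le_q hF; omega)]
  intro x y
  rw [sieg_mulVec, sieg_mulVec]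
  have hvy : Cfsg.hermForm n F q v y = (Cfsg.hermForm n F q y v) ^ q :=
    (hermForm_pow_q n hF y v).symm
  have hwy : Cfsg.hermForm n F q w y = (Cfsg.hermForm n F q y w) ^ q :=
    (hermForm_pow_q n hF y w).symm
  simp only [sub_eq_add_neg, ← neg_smul, hermForm_add_left, hermForm_add_right n hF,
    hermForm_smul_left, hermForm_smul_right, hv0, hw0, hvw, hwv, hvy, hwy, mul_pow,
    neg_pow_q hF, pow_q_pow_q hF]
  ring

omit [Fintype F] in
theorem sieg_det (v w : Fin n → F)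
    (hv0 : Cfsg.hermForm n F q v v = 0) (hw0 : Cfsg.hermForm n F q w w = 0)
    (hvw : Cfsg.hermForm n F q v w = 0) (hwv : Cfsg.hermForm n F q w v = 0) (b : F) :
    (sieg n q v w b).det = 1 := by
  set A : Matrix (Fin n) (Fin 2) F := Matrix.of fun i j => ![b * v i, -(b ^ q) * w i] j with hA
  set B : Matrix (Fin 2) (Fin n) F := Matrix.of fun j i => ![w i ^ q, v i ^ q] j with hB
  have h1 : sieg n q v w b = 1 + A * B := by
    unfold sieg
    ext i j
    simp only [Matrix.add_apply, Matrix.sub_apply, Matrix.smul_apply, Matrix.vecMulVec_apply,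
      smul_eq_mul, Matrix.mul_apply, Fin.sum_univ_two, hA, hB, Matrix.of_apply,
      Matrix.cons_val_zero, Matrix.cons_val_one]
    ring
  have hsum : ∀ (c : F) (u u' : Fin n → F), ∑ x, u' x ^ q * (c * u x) =
      c * Cfsg.hermForm n F q u u' := by
    intro c u u'
    unfold Cfsg.hermForm
    rw [Finset.mul_sum]
    apply Finset.sum_congr rfl
    intro x _
    ring
  have h2 : B * A = 0 := by
    ext i j
    fin_cases i <;> fin_cases j
    · show ∑ x, w x ^ q * (b * v x) = 0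
      rw [hsum, hvw, mul_zero]
    · show ∑ x, w x ^ q * (-(b ^ q) * w x) = 0
      rw [hsum, hw0, mul_zero]
    · show ∑ x, v x ^ q * (b * v x) = 0
      rw [hsum, hv0, mul_zero]
    · show ∑ x, v x ^ q * (-(b ^ q) * w x) = 0
      rw [hsum, hwv, mul_zero]
  rw [h1, Matrix.det_one_add_mul_comm, h2, add_zero, Matrix.det_one]

/-- the commutation relation of two Siegel elements -/
theorem sieg_comm (hF : Fintype.card F = q ^ 2) (v w1 w2 : Fin n → F)
    (hv0 : Cfsg.hermForm n F q v v = 0)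
    (hv1 : Cfsg.hermForm n F q v w1 = 0) (hv2 : Cfsg.hermForm n F q v w2 = 0)
    (h12 : Cfsg.hermForm n F q w1 w2 = 1) (b d : F) :
    sieg n q v w1 b * sieg n q v w2 d =
      Cfsg.unitaryTransvection n q v (d * b ^ q - b * d ^ q) *
        (sieg n q v w2 d * sieg n q v w1 b) := by
  have hq : q ≠ 0 := by have := two_le_q hF; omega
  have h1v : Cfsg.hermForm n F q w1 v = 0 := by
    rw [← hermForm_pow_q n hF v w1, hv1, zero_pow hq]
  have h2v : Cfsg.hermForm n F q w2 v = 0 := by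
    rw [← hermForm_pow_q n hF v w2, hv2, zero_pow hq]
  have h21 : Cfsg.hermForm n F q w2 w1 = 1 := by
    rw [← hermForm_pow_q n hF w1 w2, h12, one_pow]
  rw [Matrix.ext_iff_mulVec]
  intro x
  rw [← Matrix.mulVec_mulVec, ← Matrix.mulVec_mulVec, ← Matrix.mulVec_mulVec,
    unitaryTransvection_mulVec, sieg_mulVec, sieg_mulVec, sieg_mulVec, sieg_mulVec]
  simp only [sub_eq_add_neg, ← neg_smul, hermForm_add_left, hermForm_smul_left, hv0, hv1, hv2,
    h1v, h2v, h12, h21]
  funext i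
  simp only [Pi.add_apply, Pi.smul_apply, smul_eq_mul]
  ring

theorem ff_pos (q i : ℕ) (hq : 2 ≤ q) : 0 < Cfsg.Agent.S0782.ff q i := by
  unfold Cfsg.Agent.S0782.ff
  have : 2 ^ (i + 1) ≤ q ^ (i + 1) := Nat.pow_le_pow_left hq _
  have h2 : 2 ≤ 2 ^ (i + 1) := by
    calc 2 = 2 ^ 1 := by norm_num
      _ ≤ 2 ^ (i + 1) := Nat.pow_le_pow_right (by norm_num) (by omega)
  split_ifs <;> omega

/-- a hyperbolic pair inside the orthogonal complement of an isotropic vector -/
theorem exists_hyp_pair_perp (hF : Fintype.card F = q ^ 2) (hn : 4 ≤ n) (v : Fin n → F)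
    (hv : v ≠ 0) (hv0 : Cfsg.hermForm n F q v v = 0) :
    ∃ w1 w2 : Fin n → F, Cfsg.hermForm n F q v w1 = 0 ∧ Cfsg.hermForm n F q v w2 = 0 ∧
      Cfsg.hermForm n F q w1 w1 = 0 ∧ Cfsg.hermForm n F q w2 w2 = 0 ∧
      Cfsg.hermForm n F q w1 w2 = 1 := by
  have hq2 : 2 ≤ q := two_le_q hF
  have hq : q ≠ 0 := by omega
  obtain ⟨m, rfl⟩ : ∃ m, n = (m + 2) + 2 := ⟨n - 4, by omega⟩
  obtain ⟨a, ha⟩ := Cfsg.Agent.Lib.Helper13_HermFrames.exists_norm_neg_one hF
  -- an isotropic vector and its partner in the last m + 2 coordinates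
  have hne : Nonempty (IsoVec F (m + 2) q) := by
    have h1 := Cfsg.Agent.S0782.card_isoVec (F := F) hF m
    have h2 : 0 < Nat.card (IsoVec F (m + 2) q) := by
      rw [h1]
      exact Nat.mul_pos (ff_pos q m hq2) (ff_pos q (m + 1) hq2)
    exact (Nat.card_pos_iff.mp h2).1
  obtain ⟨⟨u1, hu1, hu10⟩⟩ := hne
  obtain ⟨u2, h12, h21, hu20⟩ := exists_partner hF u1 hu1 hu10
  set v₀ : Fin (m + 2 + 2) → F := mk3 1 a (0 : Fin (m + 2) → F) with hv₀
  have hv₀ne : v₀ ≠ 0 := by
    intro h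
    have := congrFun h 0
    simp [hv₀] at this
  have hz : ∀ u : Fin (m + 2) → F, Cfsg.hermForm (m + 2) F q 0 u = 0 := fun u => by
    simp [Cfsg.hermForm]
  have hv₀0 : Cfsg.hermForm (m + 2 + 2) F q v₀ v₀ = 0 := by
    rw [hv₀, herm_split, mk3_zero, mk3_one, tt_mk3, hz, one_pow]
    linear_combination ha
  have h1 : IsoFrameH (m + 2 + 2) q 1 (fun _ : Fin 1 => v₀) :=
    ⟨linearIndependent_unique_iff.mpr hv₀ne, fun _ _ => hv₀0⟩
  have h1' : IsoFrameH (m + 2 + 2) q 1 (fun _ : Fin 1 => v) :=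
    ⟨linearIndependent_unique_iff.mpr hv, fun _ _ => hv0⟩
  obtain ⟨M, hM, hMv⟩ := exists_isometry_map hF _ _ h1 h1'
  have hMv' : M *ᵥ v₀ = v := hMv 0
  refine ⟨M *ᵥ mk3 0 0 u1, M *ᵥ mk3 0 0 u2, ?_, ?_, ?_, ?_, ?_⟩
  · rw [← hMv', hM, hv₀, herm_split, mk3_zero, mk3_one, tt_mk3, tt_mk3, mk3_zero, mk3_one, hz,
      zero_pow hq]
    ring
  · rw [← hMv', hM, hv₀, herm_split, mk3_zero, mk3_one, tt_mk3, tt_mk3, mk3_zero, mk3_one, hz,
      zero_pow hq]
    ring
  · rw [hM, herm_split, mk3_zero, mk3_one, tt_mk3, hu10]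
    ring
  · rw [hM, herm_split, mk3_zero, mk3_one, tt_mk3, hu20]
    ring
  · rw [hM, herm_split, mk3_zero, mk3_one, tt_mk3, tt_mk3, h12]
    ring

/-- the case `n ≥ 4` -/
theorem case_four (hF : Fintype.card F = q ^ 2) (hn : 4 ≤ n) (A : ↥(Cfsg.SU n F q))
    (v : Fin n → F) (c : F) (hv : v ≠ 0) (hv0 : Cfsg.hermForm n F q v v = 0) (hc : c ^ q = -c)
    (hA : ((A : Matrix.SpecialLinearGroup (Fin n) F) : Matrix (Fin n) (Fin n) F) =
      Cfsg.unitaryTransvection n q v c) : A ∈ commutatorSet ↥(Cfsg.SU n F q) := by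
  have hq : q ≠ 0 := by have := two_le_q hF; omega
  obtain ⟨w1, w2, hv1, hv2, h11, h22, h12⟩ := exists_hyp_pair_perp hF hn v hv hv0
  obtain ⟨t, ht⟩ := Cfsg.Agent.S0751.exists_trace_one (Cfsg.Agent.Lib.Helper13_HermBridge.frobQ hF)
    (Cfsg.Agent.Lib.Helper13_HermBridge.frobQ_ne_id hF)
    (Cfsg.Agent.Lib.Helper13_HermBridge.frobQ_frobQ hF)
  rw [Cfsg.Agent.Lib.Helper13_HermBridge.frobQ_apply] at ht
  have h1v : Cfsg.hermForm n F q w1 v = 0 := by
    rw [← hermForm_pow_q n hF v w1, hv1, zero_pow hq]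
  have h2v : Cfsg.hermForm n F q w2 v = 0 := by
    rw [← hermForm_pow_q n hF v w2, hv2, zero_pow hq]
  set b : F := -c * t with hb
  have hbc : 1 * b ^ q - b * 1 ^ q = c := by
    rw [hb, mul_pow, neg_pow_q hF, hc]
    linear_combination c * ht
  let E1 : ↥(Cfsg.SU n F q) := mkSU (sieg n q v w1 b) (sieg_isU hF v w1 hv0 h11 hv1 b)
    (sieg_det v w1 hv0 h11 hv1 h1v b)
  let E2 : ↥(Cfsg.SU n F q) := mkSU (sieg n q v w2 1) (sieg_isU hF v w2 hv0 h22 hv2 1)
    (sieg_det v w2 hv0 h22 hv2 h2v 1)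
  apply mem_commutatorSet_of_mul A E1 E2
  apply su_ext
  show sieg n q v w1 b * sieg n q v w2 1 =
    ((A : Matrix.SpecialLinearGroup (Fin n) F) : Matrix (Fin n) (Fin n) F) * sieg n q v w2 1 *
      sieg n q v w1 b
  rw [hA, sieg_comm hF v w1 w2 hv0 hv1 hv2 h12 b 1, hbc, Matrix.mul_assoc]

theorem exists_norm_ne_one (hF : Fintype.card F = q ^ 2) (hq3 : 3 ≤ q) :
    ∃ y : F, y ≠ 0 ∧ y * y ^ q ≠ 1 := by
  classical
  have hc := Cfsg.Agent.Lib.Helper5_HermCount.card_norm_eq hF (c := (1 : F)) one_ne_zero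
    (one_pow q)
  by_contra hcon
  push Not at hcon
  have hsub : (Finset.univ : Finset F) ⊆
      insert 0 (Finset.univ.filter (fun x : F => x * x ^ q = 1)) := by
    intro x _
    by_cases hx : x = 0
    · simp [hx]
    · simp [hcon x hx]
  have h1 := Finset.card_le_card hsub
  have h2 := Finset.card_insert_le (0 : F) (Finset.univ.filter (fun x : F => x * x ^ q = 1))
  rw [Finset.card_univ, hF] at h1
  rw [hc] at h2
  nlinarith

/-- the case `n = 3`, `q ≥ 3` -/
theorem case_three (hF : Fintype.card F = q ^ 2) (hq3 : 3 ≤ q) (A : ↥(Cfsg.SU 3 F q))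
    (v : Fin 3 → F) (c : F) (hv : v ≠ 0) (hv0 : Cfsg.hermForm 3 F q v v = 0) (hc : c ^ q = -c)
    (hA : ((A : Matrix.SpecialLinearGroup (Fin 3) F) : Matrix (Fin 3) (Fin 3) F) =
      Cfsg.unitaryTransvection 3 q v c) : A ∈ commutatorSet ↥(Cfsg.SU 3 F q) := by
  have hq : q ≠ 0 := by omega
  obtain ⟨y, hy0, hy1⟩ := exists_norm_ne_one hF hq3
  obtain ⟨f, hvf, hfv, hf0⟩ := exists_partner hF v hv hv0
  obtain ⟨yq, hyq⟩ : ∃ yq : F, yq = y ^ q := ⟨_, rfl⟩
  have hyq0 : yq ≠ 0 := by rw [hyq]; exact pow_ne_zero q hy0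
  have hyqq : yq ^ q = y := by rw [hyq]; exact pow_q_pow_q hF y
  have hy1' : y * yq - 1 ≠ 0 := by rw [hyq]; exact sub_ne_zero.mpr hy1
  set lam : F := yq * y⁻¹ with hlam
  set a : F := y * y * yq⁻¹ with ha
  have ha0 : a ≠ 0 := by
    rw [ha]
    exact mul_ne_zero (mul_ne_zero hy0 hy0) (inv_ne_zero hyq0)
  have hlamq : lam ^ q = y * yq⁻¹ := by
    rw [hlam, mul_pow, inv_pow, hyqq, ← hyq, mul_comm]
  have hlamN : lam * lam ^ q = 1 := by
    rw [hlamq, hlam]
    field_simp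
  have haq : (a⁻¹) ^ q = y * yq⁻¹ * yq⁻¹ := by
    rw [ha, inv_pow, mul_pow, mul_pow, inv_pow, hyqq, ← hyq]
    field_simp
  have hlama : lam * a = y := by
    rw [hlam, ha]
    field_simp
  -- the torus element
  set M : Matrix (Fin 3) (Fin 3) F := hypMat 3 q v f a with hM
  have hMU : IsU 3 q M := hypMat_isometry hF v f hv0 hf0 hvf hfv a ha0
  have hgU : IsU 3 q (lam • M) := by
    intro x z
    rw [Matrix.smul_mulVec, Matrix.smul_mulVec, hermForm_smul_left, hermForm_smul_right, hMU x z,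
      ← mul_assoc, hlamN, one_mul]
  have hgdet : (lam • M).det = 1 := by
    rw [Matrix.det_smul, Fintype.card_fin, hM, hypMat_det v f hv0 hf0 hvf hfv a, haq, hlam, ha]
    field_simp
  have hgv : (lam • M) *ᵥ v = y • v := by
    rw [Matrix.smul_mulVec, hM, hypMat_mulVec, hvf, hv0, mul_zero, zero_smul, add_zero, mul_one,
      ← hlama]
    rw [← one_smul F v, smul_smul, smul_smul, ← add_smul, smul_smul]
    congr 1
    ring
  have hgxv : ∀ x, Cfsg.hermForm 3 F q ((lam • M) *ᵥ x) v = yq⁻¹ * Cfsg.hermForm 3 F q x v := by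
    intro x
    have h1 := hgU x v
    rw [hgv, hermForm_smul_right, ← hyq] at h1
    rw [← h1]
    field_simp
  -- the transvection with parameter c'
  obtain ⟨r, hr⟩ : ∃ r : F, r = (y * yq - 1)⁻¹ := ⟨_, rfl⟩
  have hrq : r ^ q = r := by
    rw [hr, inv_pow, sub_pow_q hF, mul_pow, one_pow, hyqq, ← hyq, mul_comm yq y]
  obtain ⟨c', hc'⟩ : ∃ c' : F, c' = c * r := ⟨_, rfl⟩
  have hc'q : c' + c' ^ q = 0 := by
    rw [hc', mul_pow, hrq, hc]
    ring
  have hcc' : c' * (y * yq - 1) = c := by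
    rw [hc', hr]
    field_simp
  have hTU : IsU 3 q (Cfsg.unitaryTransvection 3 q v c') := by
    apply isU_transvection hF
    rw [hv0, mul_zero, add_zero]
    exact hc'q
  have hTdet : (Cfsg.unitaryTransvection 3 q v c').det = 1 := by
    rw [det_unitaryTransvection, hv0, mul_zero, add_zero]
  let G : ↥(Cfsg.SU 3 F q) := mkSU (lam • M) hgU hgdet
  let T : ↥(Cfsg.SU 3 F q) := mkSU (Cfsg.unitaryTransvection 3 q v c') hTU hTdet
  apply mem_commutatorSet_of_mul A G T
  apply su_ext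
  show (lam • M) * Cfsg.unitaryTransvection 3 q v c' =
    ((A : Matrix.SpecialLinearGroup (Fin 3) F) : Matrix (Fin 3) (Fin 3) F) *
      Cfsg.unitaryTransvection 3 q v c' * (lam • M)
  rw [hA, Matrix.ext_iff_mulVec]
  intro x
  rw [← Matrix.mulVec_mulVec, ← Matrix.mulVec_mulVec, ← Matrix.mulVec_mulVec,
    unitaryTransvection_mulVec, unitaryTransvection_mulVec, unitaryTransvection_mulVec,
    Matrix.mulVec_add, Matrix.mulVec_smul, hgv]
  simp only [hermForm_add_left, hermForm_smul_left, hv0, hgxv, mul_zero, add_zero]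
  rw [smul_smul, add_assoc, ← add_smul]
  congr 2
  rw [← hcc']
  field_simp
  ring

end

/-- In SU_n(q) with n ≥ 4, or n = 3 and q > 2, every element whose matrix is a unitary transvection x ↦ x + c h(x, v) v (v isotropic) is a commutator ⁅B, C⁆ of two elements of SU_n(q). -/
theorem result {F : Type*} [Field F] [Fintype F] {q : ℕ} (hF : Fintype.card F = q ^ 2) (n : ℕ) (hn : 4 ≤ n ∨ (n = 3 ∧ 3 ≤ q)) (A : ↥(Cfsg.SU n F q)) (v : Fin n → F) (c : F) (hv0 : Cfsg.hermForm n F q v v = 0) (hA : ((A : Matrix.SpecialLinearGroup (Fin n) F) : Matrix (Fin n) (Fin n) F) = Cfsg.unitaryTransvection n q v c) : A ∈ commutatorSet ↥(Cfsg.SU n F q) := by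
  have hq2 : 2 ≤ q := two_le_q hF
  -- trivial cases
  by_cases hv : v = 0
  · have h1 : A = 1 := by
      apply su_ext
      rw [hA, hv]
      unfold Cfsg.unitaryTransvection
      ext i j
      simp
    rw [h1]
    exact one_mem_commutatorSet _
  by_cases hc0 : c = 0
  · have h1 : A = 1 := by
      apply su_ext
      rw [hA, hc0]
      unfold Cfsg.unitaryTransvection
      simp
    rw [h1]
    exact one_mem_commutatorSet _
  -- the trace condition
  have hU : IsU n q (Cfsg.unitaryTransvection n q v c) := by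
    rw [← hA]
    exact (mem_SU_iff A.1).mp A.2
  have hc : c ^ q = -c := by
    rcases (Cfsg.Agent.S0779.result hF n v hv hv0 c).mp hU with h | h
    · exact absurd h hc0
    · have : c ^ q = c ^ (q - 1) * c := by
        rw [← pow_succ]
        congr 1
        omega
      rw [this, h]
      ring
  rcases hn with hn | ⟨rfl, hq3⟩
  · exact case_four hF hn A v c hv hv0 hc hA
  · exact case_three hF hq3 A v c hv hv0 hc hA

end Cfsg.Agent.S0781
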