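import Cfsg.Statements.S0283
import Cfsg.Agent.Lib.Helper13_PSUSimple
import Cfsg.Agent.S0780
import Cfsg.Agent.S0781

set_option autoImplicit false
open Cfsg

namespace Cfsg.Agent.S0283

open Matrix Module Cfsg.Agent.Lib.Helper94_Symp Cfsg.Agent.Lib.Helper94_Bridge
  Cfsg.Agent.Lib.Helper94_Herm Cfsg.Agent.Lib.Helper94_HermBridge
  Cfsg.Agent.Lib.Helper94_HermTrans Cfsg.Agent.Lib.Helper13_SUGen
  Cfsg.Agent.Lib.Helper13_PSUSimple

variable {F : Type*} [Field F] [Fintype F] {q : ℕ} {n : ℕ}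

/-- `SU_n(q)` is perfect for `n ≥ 3`, `(n, q) ≠ (3, 2)`. -/
theorem su_perfect (hF : Fintype.card F = q ^ 2) (n : ℕ) (hn : 3 ≤ n) (h : ¬ (n = 3 ∧ q = 2)) :
    commutator ↥(Cfsg.SU n F q) = ⊤ := by
  have hq2 : 2 ≤ q := by
    have h1 : 1 < Fintype.card F := Fintype.one_lt_card
    rw [hF] at h1
    by_contra hlt
    push Not at hlt
    interval_cases q <;> simp at h1
  have hn' : 4 ≤ n ∨ (n = 3 ∧ 3 ≤ q) := by
    by_cases h4 : 4 ≤ n
    · exact Or.inl h4
    · right
      have hn3 : n = 3 := by omega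
      have : q ≠ 2 := fun h2 => h ⟨hn3, h2⟩
      exact ⟨hn3, by omega⟩
  rw [eq_top_iff, ← Cfsg.Agent.S0780.result hF n hn h, commutator_eq_closure, Subgroup.closure_le]
  rintro A ⟨v, c, hv, hA⟩
  exact Subgroup.subset_closure (Cfsg.Agent.S0781.result hF n hn' A v c hv hA)

/-- The matrix group `SU_n(q)` is isomorphic to the abstract special unitary group of the
standard hermitian form. -/
noncomputable def suEquiv (σ : F →+* F) (hσq : ∀ x, σ x = x ^ q) :
    ↥(Cfsg.SU n F q) ≃* ↥(SUg (hermB n σ hσq)) :=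
  MulEquiv.ofBijective
    ((Cfsg.Agent.S0780.toLE n q F).codRestrict (SUg (hermB n σ hσq)) (fun A => mem_SUg.mpr
      ⟨by
        intro x y
        rw [Cfsg.Agent.S0780.toLE_apply, Cfsg.Agent.S0780.toLE_apply, hermB_apply, hermB_apply]
        exact A.2 x y, Cfsg.Agent.S0780.toLE_det A⟩))
    ⟨by
      intro A A' hAA'
      apply Cfsg.Agent.S0780.toLE_injective
      exact congrArg Subtype.val hAA', by
      intro g
      have hgU := (mem_SUg.mp g.2).1
      have hgdet := (mem_SUg.mp g.2).2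
      have hM : ∀ v, LinearMap.toMatrix' ((g : (Fin n → F) ≃ₗ[F] (Fin n → F)) :
          (Fin n → F) →ₗ[F] (Fin n → F)) *ᵥ v = (g : (Fin n → F) ≃ₗ[F] (Fin n → F)) v := by
        intro v
        rw [← Matrix.toLin'_apply, Matrix.toLin'_toMatrix']
        rfl
      have hdet : (LinearMap.toMatrix' ((g : (Fin n → F) ≃ₗ[F] (Fin n → F)) :
          (Fin n → F) →ₗ[F] (Fin n → F))).det = 1 := by
        rw [LinearMap.det_toMatrix', ← LinearEquiv.coe_det, hgdet, Units.val_one]
      refine ⟨⟨⟨_, hdet⟩, ?_⟩, ?_⟩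
      · intro x y
        show Cfsg.hermForm n F q (_ *ᵥ x) (_ *ᵥ y) = _
        erw [hM x, hM y]
        exact hgU x y
      · apply Subtype.ext
        apply LinearEquiv.ext
        intro v
        show Cfsg.Agent.S0780.toLE n q F _ v = _
        rw [Cfsg.Agent.S0780.toLE_apply]
        exact hM v⟩

/-- PSU_n(q) is simple for n ≥ 3 except PSU_3(2). -/
theorem result {F : Type*} [Field F] [Fintype F] {q : ℕ} (hF : Fintype.card F = q ^ 2) (n : ℕ) (hn : 3 ≤ n) (h : ¬ (n = 3 ∧ q = 2)) : IsSimpleGroup (Cfsg.PSU n F q) := by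
  obtain ⟨σ, hσq, hσ⟩ := exists_frob hF
  have hB := hermB_isHerm (n := n) σ hσq hσ
  have hN := hermB_nondeg (n := n) σ hσq
  have hq2 : 2 ≤ q := by
    have h1 : 1 < Fintype.card F := Fintype.one_lt_card
    rw [hF] at h1
    by_contra hlt
    push Not at hlt
    interval_cases q <;> simp at h1
  have hfr : finrank F (Fin n → F) = n := Module.finrank_fin_fun F
  have hgen : ∀ g ∈ uG (hermB n σ hσq), LinearEquiv.det g = 1 →
      g ∈ tvGroup (hermB n σ hσq) ⊤ := by
    intro g hgU hgdet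
    by_cases h4 : 4 ≤ n
    · exact mem_tvGroup_of_four_le hσ hB hN (by rw [hfr]; exact h4) hgU hgdet
    · have hn3 : n = 3 := by omega
      have hq3 : 3 ≤ q := by
        have : q ≠ 2 := fun h2 => h ⟨hn3, h2⟩
        omega
      obtain ⟨y, hy0, hy1⟩ := Cfsg.Agent.S0780.exists_norm_ne_one hF hq3
      refine mem_tvGroup_of_three hσ hB hN (by rw [hfr]; exact hn3) (a := y * y ^ q) ?_ ?_ hy1
        hgU hgdet
      · rw [map_mul, ← hσq y, hσ.invol, mul_comm]
      · exact mul_ne_zero hy0 (pow_ne_zero _ hy0)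
  have hperf := su_perfect hF n hn h
  obtain ⟨e, -⟩ : ∃ e : ↥(Cfsg.SU n F q) ≃* ↥(SUg (hermB n σ hσq)), True :=
    ⟨suEquiv σ hσq, trivial⟩
  have hperf' : commutator ↥(SUg (hermB n σ hσq)) = ⊤ := by
    have h1 := Subgroup.map_commutator (⊤ : Subgroup ↥(Cfsg.SU n F q)) ⊤ e.toMonoidHom
    have h2 : Subgroup.map e.toMonoidHom ⊤ = ⊤ :=
      Subgroup.map_top_of_surjective e.toMonoidHom e.surjective
    rw [h2, ← commutator_def, ← commutator_def, hperf, h2] at h1
    exact h1.symm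
  have hs := simple_of_perfect hσ hB hN (by rw [hfr]; exact hn) hgen hperf'
  have hc : (Subgroup.center ↥(Cfsg.SU n F q)).map e.toMonoidHom =
      Subgroup.center ↥(SUg (hermB n σ hσq)) := by
    ext x
    constructor
    · rintro ⟨z, hz, rfl⟩
      have hz' : z ∈ Subgroup.center ↥(Cfsg.SU n F q) := hz
      rw [Subgroup.mem_center_iff] at hz' ⊢
      intro y
      obtain ⟨y', rfl⟩ := e.surjective y
      show e y' * e z = e z * e y'
      rw [← map_mul, ← map_mul, hz' y']
    · intro hx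
      obtain ⟨z, rfl⟩ := e.surjective x
      refine ⟨z, ?_, rfl⟩
      show z ∈ Subgroup.center ↥(Cfsg.SU n F q)
      rw [Subgroup.mem_center_iff] at hx ⊢
      intro y
      apply e.injective
      rw [map_mul, map_mul]
      exact hx _
  exact (QuotientGroup.congr _ _ e hc).isSimpleGroup

end Cfsg.Agent.S0283
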