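import Mathlib
import Cfsg.Statements.S0288
import Cfsg.Agent.Lib.Helper5_OrthOrder
import Cfsg.Agent.Lib.Helper5_OMinus2
import Cfsg.Agent.Lib.Helper44_StdForms
import Cfsg.Agent.S0290
import Cfsg.Agent.S0287

set_option autoImplicit false
open Cfsg

namespace Cfsg.Agent.S0288

open Cfsg.Agent.Lib.Helper5_OrthOrder Cfsg.Agent.Lib.Helper44_StdForms

/-- reindexing `Fin 2 ⊕ ((Fin k ⊕ Fin k) ⊕ Fin 2) ≃ (Fin (k+1) ⊕ Fin (k+1)) ⊕ Fin 2` -/
def eM (k : ℕ) : Fin 2 ⊕ ((Fin k ⊕ Fin k) ⊕ Fin 2) ≃ (Fin (k + 1) ⊕ Fin (k + 1)) ⊕ Fin 2 where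
  toFun := Sum.elim ![Sum.inl (Sum.inl 0), Sum.inl (Sum.inr 0)]
    (Sum.map (Sum.map Fin.succ Fin.succ) id)
  invFun := Sum.elim
    (Sum.elim (Fin.cases (Sum.inl 0) (fun i => Sum.inr (Sum.inl (Sum.inl i))))
      (Fin.cases (Sum.inl 1) (fun i => Sum.inr (Sum.inl (Sum.inr i)))))
    (fun j => Sum.inr (Sum.inr j))
  left_inv x := by
    rcases x with x | (x | x) | x
    · fin_cases x <;> simp
    · simp
    · simp
    · simp
  right_inv x := by
    rcases x with (x | x) | x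
    · refine Fin.cases ?_ (fun j => ?_) x <;> simp
    · refine Fin.cases ?_ (fun j => ?_) x <;> simp
    · simp

lemma quadFormMinus_succ {F : Type*} [Field F] (a b : F) (k : ℕ)
    (w : (Fin (k + 1) ⊕ Fin (k + 1)) ⊕ Fin 2 → F) :
    Cfsg.quadFormMinus (k + 1) F a b w = QH (qfMinus k F a b) (w ∘ eM k) := by
  rw [QH_apply, coe_qfMinus]
  unfold Cfsg.quadFormMinus
  rw [Fin.sum_univ_succ]
  simp [eM]
  ring

/-- anisotropy forces a nonzero discriminant -/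
lemma disc_ne_zero {F : Type*} [Field F] [Fintype F] (a b : F)
    (hab : ∀ z₁ z₂ : F, z₁ ^ 2 + a * z₁ * z₂ + b * z₂ ^ 2 = 0 → z₁ = 0 ∧ z₂ = 0) :
    4 * b - a ^ 2 ≠ 0 := by
  intro h
  by_cases h2 : (2 : F) = 0
  · have h4 : (4 : F) = 0 := by
      have : (4 : F) = 2 * 2 := by norm_num
      rw [this, h2, mul_zero]
    rw [h4, zero_mul, zero_sub, neg_eq_zero] at h
    have ha : a = 0 := by simpa using h
    have hc : ringChar F = 2 := CharP.ringChar_of_prime_eq_zero Nat.prime_two (by exact_mod_cast h2)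
    obtain ⟨c, hc⟩ := FiniteField.isSquare_of_char_two hc b
    have := (hab c 1 (by rw [ha, hc]; linear_combination c ^ 2 * h2)).2
    exact one_ne_zero this
  · have := (hab (-a / 2) 1 (by field_simp; linear_combination h)).2
    exact one_ne_zero this

lemma nondeg_qfMinus {F : Type*} [Field F] (a b : F) (hd : 4 * b - a ^ 2 ≠ 0) (k : ℕ) :
    ∀ x, (∀ y, QuadraticMap.polar (⇑(qfMinus k F a b)) x y = 0) → x = 0 := by
  have hnd : (QuadraticMap.polarBilin (qfMinus k F a b)).Nondegenerate := by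
    refine (LinearMap.BilinForm.nondegenerate_iff_det_ne_zero
      (Pi.basisFun F ((Fin k ⊕ Fin k) ⊕ Fin 2))).mpr ?_
    have : LinearMap.BilinForm.toMatrix (Pi.basisFun F ((Fin k ⊕ Fin k) ⊕ Fin 2))
        (QuadraticMap.polarBilin (qfMinus k F a b))
        = Matrix.of (fun i j : (Fin k ⊕ Fin k) ⊕ Fin 2 =>
            QuadraticMap.polar (Cfsg.quadFormMinus k F a b) (Pi.single i 1) (Pi.single j 1)) := by
      ext i j
      simp [LinearMap.BilinForm.toMatrix_apply, coe_qfMinus]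
    rw [this, det_gram_quadFormMinus]
    exact mul_ne_zero (pow_ne_zero _ (neg_ne_zero.mpr one_ne_zero)) hd
  intro x hx
  exact hnd.1 x (fun y => by simpa using hx y)

lemma arith1 (q k : ℕ) (hq : 1 ≤ q) :
    q ^ (2 * (k + 2) - 1) + q ^ (k + 2 - 1) - q ^ (k + 2) - 1 = (q ^ (k + 2) + 1) * (q ^ (k + 1) - 1) := by
  obtain ⟨y, hy⟩ : ∃ y, q ^ (k + 1) = y + 1 := ⟨q ^ (k + 1) - 1, by have := Nat.one_le_pow (k + 1) q hq; omega⟩
  obtain ⟨p, rfl⟩ : ∃ p, q = p + 1 := ⟨q - 1, by omega⟩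
  have e1 : 2 * (k + 2) - 1 = 1 + (k + 1) + (k + 1) := by omega
  have e2 : k + 2 - 1 = k + 1 := by omega
  have e3 : k + 2 = 1 + (k + 1) := by omega
  rw [e1, e2, e3, pow_add, pow_add, pow_one, hy]
  simp only [Nat.add_sub_cancel]
  rw [Nat.sub_sub]
  apply Nat.sub_eq_of_eq_add
  ring

theorem card_succ {F : Type*} [Field F] [Fintype F] (a b : F)
    (hab : ∀ z₁ z₂ : F, z₁ ^ 2 + a * z₁ * z₂ + b * z₂ ^ 2 = 0 → z₁ = 0 ∧ z₂ = 0) (k : ℕ) :
    Nat.card (Cfsg.isometryGroup F (Cfsg.quadFormMinus (k + 1) F a b)) =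
      (Fintype.card F ^ (k + 2) + 1) * (Fintype.card F ^ (k + 1) - 1) * Fintype.card F ^ (2 * k + 2)
        * Nat.card (Cfsg.isometryGroup F (Cfsg.quadFormMinus k F a b)) := by
  have h := card_step (eM k) (qfMinus k F a b) (nondeg_qfMinus a b (disc_ne_zero a b hab) k)
    (Cfsg.quadFormMinus (k + 1) F a b) (quadFormMinus_succ a b k)
  have hz : Nat.card {v : (Fin (k + 1) ⊕ Fin (k + 1)) ⊕ Fin 2 → F // Cfsg.quadFormMinus (k + 1) F a b v = 0}
      = Fintype.card F ^ (2 * (k + 2) - 1) + Fintype.card F ^ (k + 2 - 1) - Fintype.card F ^ (k + 2) :=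
    Cfsg.Agent.S0290.result (F := F) rfl (k + 2) (by omega) a b hab
  rw [coe_qfMinus, hz, arith1 _ k Fintype.card_pos] at h
  rw [h]
  simp only [Fintype.card_sum, Fintype.card_fin]
  have : k + k + 2 = 2 * k + 2 := by ring
  rw [this]

open Cfsg.Agent.Lib.Helper5_OMinus2 in
theorem card_zero {F : Type*} [Field F] [Fintype F] (a b : F)
    (hab : ∀ z₁ z₂ : F, z₁ ^ 2 + a * z₁ * z₂ + b * z₂ ^ 2 = 0 → z₁ = 0 ∧ z₂ = 0) :
    Nat.card (Cfsg.isometryGroup F (Cfsg.quadFormMinus 0 F a b)) = 2 * (Fintype.card F + 1) := by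
  let e : Fin 2 ≃ (Fin 0 ⊕ Fin 0) ⊕ Fin 2 :=
    { toFun := Sum.inr
      invFun := Sum.elim (Sum.elim Fin.elim0 Fin.elim0) id
      left_inv := fun x => rfl
      right_inv := fun x => by
        rcases x with (x | x) | x
        · exact x.elim0
        · exact x.elim0
        · rfl }
  rw [card_isometryGroup_reindex e (R2 a b) (Cfsg.quadFormMinus 0 F a b) (by
    intro w
    simp [Cfsg.quadFormMinus, R2, e]
    rfl)]
  exact card_isometryGroup_R2 hab (disc_ne_zero a b hab)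

theorem card_minus {F : Type*} [Field F] [Fintype F] (a b : F)
    (hab : ∀ z₁ z₂ : F, z₁ ^ 2 + a * z₁ * z₂ + b * z₂ ^ 2 = 0 → z₁ = 0 ∧ z₂ = 0) (k : ℕ) :
    Nat.card (Cfsg.isometryGroup F (Cfsg.quadFormMinus k F a b)) =
      2 * Fintype.card F ^ ((k + 1) * k) * (Fintype.card F ^ (k + 1) + 1)
        * ∏ i ∈ Finset.range k, (Fintype.card F ^ (2 * (i + 1)) - 1) := by
  induction k with
  | zero =>
    rw [card_zero a b hab]
    simp
  | succ k ih =>
    rw [card_succ a b hab, ih, Finset.prod_range_succ, ← Cfsg.Agent.S0287.arith2 _ k Fintype.card_pos]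
    have : (k + 1 + 1) * (k + 1) = (2 * k + 2) + (k + 1) * k := by ring
    rw [this, pow_add]
    ring

/-- |GO^-_{2m}(q)| = 2 q^(m(m-1)) (q^m + 1) prod_{i=1}^{m-1} (q^(2i) - 1), m at least 1, all q; the form is quadFormMinus (m-1) with an anisotropic binary part. -/
theorem result {F : Type*} [Field F] [Fintype F] {q : ℕ} (hF : Fintype.card F = q) (m : ℕ) (hm : 1 ≤ m) (a b : F) (hab : ∀ z₁ z₂ : F, z₁ ^ 2 + a * z₁ * z₂ + b * z₂ ^ 2 = 0 → z₁ = 0 ∧ z₂ = 0) : Nat.card (Cfsg.isometryGroup F (Cfsg.quadFormMinus (m - 1) F a b)) = 2 * q ^ (m * (m - 1)) * (q ^ m + 1) * ∏ i ∈ Finset.range (m - 1), (q ^ (2 * (i + 1)) - 1) := by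
  obtain ⟨k, rfl⟩ : ∃ k, m = k + 1 := ⟨m - 1, by omega⟩
  subst hF
  simpa using card_minus a b hab k

end Cfsg.Agent.S0288
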