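import Cfsg.Statements.S2644
import Cfsg.Agent.Lib.Helper99_UnitaryTv
import Cfsg.Agent.Lib.Helper94_HermBridge
import Cfsg.Agent.Lib.Helper94_SLBridge

set_option autoImplicit false
open Cfsg

namespace Cfsg.Agent.S2644

open Matrix Module Cfsg.Agent.Lib.Helper94_Herm Cfsg.Agent.Lib.Helper94_HermTrans
  Cfsg.Agent.Lib.Helper94_HermBridge Cfsg.Agent.Lib.Helper94_Bridge
  Cfsg.Agent.Lib.Helper94_SLBridge Cfsg.Agent.Lib.Helper99_UnitaryTv

section

variable {K : Type*} [Field K] {q n : ℕ}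

/-- The linear automorphism attached to an element of `SU`. -/
noncomputable def psi : ↥(Cfsg.SU n K q) →* ((Fin n → K) ≃ₗ[K] (Fin n → K)) :=
  (glEquiv (Fin n) K).toMonoidHom.comp
    (Matrix.SpecialLinearGroup.toGL.comp (Cfsg.SU n K q).subtype)

lemma psi_apply (s : ↥(Cfsg.SU n K q)) (v : Fin n → K) :
    psi s v = ((s : GL (Fin n) K) : Matrix (Fin n) (Fin n) K) *ᵥ v := by
  change glEquiv (Fin n) K (Matrix.SpecialLinearGroup.toGL s.1) v = _
  rw [glEquiv_apply]

lemma psi_injective : Function.Injective (psi (K := K) (q := q) (n := n)) := by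
  intro s t h
  have h1 := (glEquiv (Fin n) K).injective h
  have h2 := Matrix.SpecialLinearGroup.toGL_injective h1
  exact Subtype.ext h2

lemma det_psi (s : ↥(Cfsg.SU n K q)) : LinearEquiv.det (psi s) = 1 := by
  change LinearEquiv.det (glEquiv (Fin n) K (Matrix.SpecialLinearGroup.toGL s.1)) = 1
  rw [det_glEquiv]
  exact Matrix.SpecialLinearGroup.coeToGL_det s.1

variable [Fintype K] (σ : K →+* K) (hσq : ∀ x, σ x = x ^ q)

lemma psi_mem_uG (s : ↥(Cfsg.SU n K q)) : psi s ∈ uG (hermB n σ hσq) := by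
  intro u v
  rw [psi_apply, psi_apply, hermB_apply, hermB_apply]
  exact s.2 u v

/-- Every isometry of determinant one comes from `SU`. -/
lemma exists_psi_eq (g : (Fin n → K) ≃ₗ[K] (Fin n → K)) (hg : g ∈ uG (hermB n σ hσq))
    (hdet : LinearEquiv.det g = 1) : ∃ s : ↥(Cfsg.SU n K q), psi s = g := by
  set G : GL (Fin n) K := (glEquiv (Fin n) K).symm g with hG
  have hGg : glEquiv (Fin n) K G = g := (glEquiv (Fin n) K).apply_symm_apply g
  have hdetG : Matrix.GeneralLinearGroup.det G = 1 := by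
    rw [← det_glEquiv, hGg, hdet]
  have hdetM : (G : Matrix (Fin n) (Fin n) K).det = 1 := by
    have := congrArg Units.val hdetG
    simpa using this
  let s₀ : Matrix.SpecialLinearGroup (Fin n) K := ⟨(G : Matrix (Fin n) (Fin n) K), hdetM⟩
  have hs₀ : Matrix.SpecialLinearGroup.toGL s₀ = G := Units.ext rfl
  have hmem : s₀ ∈ Cfsg.SU n K q := by
    intro u v
    change Cfsg.hermForm n K q ((G : Matrix (Fin n) (Fin n) K) *ᵥ u)
      ((G : Matrix (Fin n) (Fin n) K) *ᵥ v) = Cfsg.hermForm n K q u v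
    have := hg u v
    rw [← hGg, glEquiv_apply, glEquiv_apply, hermB_apply, hermB_apply] at this
    exact this
  refine ⟨⟨s₀, hmem⟩, ?_⟩
  change glEquiv (Fin n) K (Matrix.SpecialLinearGroup.toGL s₀) = g
  rw [hs₀, hGg]

/-- A transvection in `SU` is a unitary transvection. -/
lemma psi_eq_utv (hσ : Invol σ) (s : ↥(Cfsg.SU n K q))
    (hs : Cfsg.IsTransvection (((s : GL (Fin n) K) : Matrix (Fin n) (Fin n) K))) :
    ∃ (a : Fin n → K) (c : K), a ≠ 0 ∧ c ≠ 0 ∧ σ c = -c ∧ hermB n σ hσq a a = 0 ∧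
      psi s = utv (hermB n σ hσq) a c := by
  set B := hermB n σ hσq with hBdef
  have hB : IsHerm B := hermB_isHerm σ hσq hσ
  have hnd : NondegOn B ⊤ := hermB_nondeg σ hσq
  set M : Matrix (Fin n) (Fin n) K := ((s : GL (Fin n) K) : Matrix (Fin n) (Fin n) K) with hM
  obtain ⟨hrank, hsq⟩ := hs
  set N : Matrix (Fin n) (Fin n) K := M - 1 with hN
  have hTx : ∀ x, psi s x = x + N *ᵥ x := by
    intro x
    rw [psi_apply, hN, Matrix.sub_mulVec, Matrix.one_mulVec]
    abel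
  -- the range of `N` is a line
  have hr : finrank K (LinearMap.range N.mulVecLin) = 1 := hrank
  obtain ⟨⟨a, haR⟩, ha0, hspan⟩ := finrank_eq_one_iff'.mp hr
  have ha0' : a ≠ 0 := fun h => ha0 (Subtype.ext h)
  have hline : ∀ x, ∃ r : K, N *ᵥ x = r • a := by
    intro x
    obtain ⟨r, hr⟩ := hspan ⟨N *ᵥ x, ⟨x, rfl⟩⟩
    exact ⟨r, (congrArg Subtype.val hr).symm⟩
  -- a functional with value one at `a`
  obtain ⟨y', hay'⟩ : ∃ y', B a y' = 1 := by
    obtain ⟨y, -, hy⟩ := hnd a trivial ha0'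
    refine ⟨σ (B a y)⁻¹ • y, ?_⟩
    rw [map_smulₛₗ, smul_eq_mul, hσ.invol, inv_mul_cancel₀ hy]
  let φ : (Fin n → K) →ₗ[K] K := (B.flip y').comp N.mulVecLin
  have hφ : ∀ x, N *ᵥ x = φ x • a := by
    intro x
    obtain ⟨r, hr⟩ := hline x
    have : φ x = r := by
      change B (N *ᵥ x) y' = r
      rw [hr, map_smul, LinearMap.smul_apply, hay', smul_eq_mul, mul_one]
    rw [this, hr]
  obtain ⟨x₁, hx₁⟩ := haR
  have hx₁' : N *ᵥ x₁ = a := hx₁
  have hφx₁ : φ x₁ = 1 := by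
    have h1 := hφ x₁
    rw [hx₁'] at h1
    have h2 : (1 : K) • a = φ x₁ • a := by rw [one_smul]; exact h1
    exact (smul_left_injective K ha0' h2).symm
  have hφ0 : φ ≠ 0 := by
    intro h0
    rw [h0] at hφx₁
    exact zero_ne_one hφx₁
  have hNa : N *ᵥ a = 0 := by
    rw [← hx₁', Matrix.mulVec_mulVec, hsq, Matrix.zero_mulVec]
  have hφa : φ a = 0 := by
    have h1 := hφ a
    rw [hNa] at h1
    exact (smul_eq_zero.mp h1.symm).resolve_right ha0'
  obtain ⟨c, hc0, hskew, haa, hT⟩ := eq_utv_of_rank_one hσ hB hnd (psi_mem_uG σ hσq s) ha0' hφ0 hφa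
    (fun x => by rw [hTx, hφ])
  exact ⟨a, c, ha0', hc0, hskew, haa, hT⟩

end

/-- In the special unitary group SU_n(q) with n ≥ 3 (isometries of Σ u_i v_i^q of determinant one over the field with q² elements), any two transvections (elements t with t − 1 of rank one and square zero) are conjugate. -/
theorem result {K : Type*} [Field K] [Fintype K] {q n : ℕ} (hK : Fintype.card K = q ^ 2) (hn : 3 ≤ n) (s t : ↥(Cfsg.SU n K q)) (hs : Cfsg.IsTransvection (((s : GL (Fin n) K) : Matrix (Fin n) (Fin n) K))) (ht : Cfsg.IsTransvection (((t : GL (Fin n) K) : Matrix (Fin n) (Fin n) K))) : IsConj s t := by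
  obtain ⟨σ, hσq, hσ⟩ := exists_frob hK
  have hB : IsHerm (hermB n σ hσq) := hermB_isHerm σ hσq hσ
  have hnd : NondegOn (hermB n σ hσq) ⊤ := hermB_nondeg σ hσq
  obtain ⟨a, c, ha0, hc0, hc, haa, hs'⟩ := psi_eq_utv σ hσq hσ s hs
  obtain ⟨a', c', ha'0, hc'0, hc', ha'a', ht'⟩ := psi_eq_utv σ hσq hσ t ht
  have hdim : 3 ≤ finrank K (Fin n → K) := by
    rw [Module.finrank_fintype_fun_eq_card, Fintype.card_fin]
    exact hn
  obtain ⟨g, hgu, hgdet, hconj⟩ := exists_conj_utv hσ hB hnd hdim ha0 ha'0 haa ha'a' hc0 hc'0 hc hc'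
  obtain ⟨s', hs'g⟩ := exists_psi_eq σ hσq g hgu hgdet
  rw [isConj_iff]
  refine ⟨s', psi_injective ?_⟩
  rw [map_mul, map_mul, map_inv, hs'g, hs', ht', hconj]

end Cfsg.Agent.S2644
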