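import Mathlib
import Cfsg.Statements.S0185
import Cfsg.Agent.Lib.Helper3_RepDecomp
import Cfsg.Agent.Lib.Helper3_CharDegree

set_option autoImplicit false
open Cfsg

namespace Cfsg.Agent.S0185

open Cfsg.Agent.Lib.Helper3_RepDecomp Cfsg.Agent.Lib.Helper3_CharDegree

/-- The subspace on which all the `ρ a`, `ρ b` commute. -/
def commSub {G : Type*} [Group G] {V : Type*} [AddCommGroup V] [Module ℂ V]
    (ρ : Representation ℂ G V) : Submodule ℂ V :=
  ⨅ (a : G) (b : G), LinearMap.ker (ρ (a * b) - ρ (b * a))

theorem mem_commSub {G : Type*} [Group G] {V : Type*} [AddCommGroup V] [Module ℂ V]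
    (ρ : Representation ℂ G V) (v : V) :
    v ∈ commSub ρ ↔ ∀ a b : G, ρ (a * b) v = ρ (b * a) v := by
  simp only [commSub, Submodule.mem_iInf, LinearMap.mem_ker, LinearMap.sub_apply, sub_eq_zero]

theorem isInv_commSub {G : Type*} [Group G] {V : Type*} [AddCommGroup V] [Module ℂ V]
    (ρ : Representation ℂ G V) : IsInv ρ (commSub ρ) := by
  intro g v hv
  rw [mem_commSub] at hv ⊢
  intro a b
  have h1 : ρ (a * b) (ρ g v) = ρ (a * b * g) v := by rw [map_mul ρ (a * b) g]; rfl
  have h2 : ρ (b * a) (ρ g v) = ρ (b * a * g) v := by rw [map_mul ρ (b * a) g]; rfl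
  rw [h1, h2, hv (a * b) g, hv (b * a) g, map_mul ρ g (a * b), map_mul ρ g (b * a)]
  change ρ g (ρ (a * b) v) = ρ g (ρ (b * a) v)
  rw [hv a b]

/-- If a finite group has a faithful complex representation of degree less than the smallest prime dividing its order, the group is abelian. -/
theorem result {G : Type*} [Group G] [Finite G] {V : Type*} [AddCommGroup V] [Module ℂ V] [FiniteDimensional ℂ V] (ρ : Representation ℂ G V) (hfaithful : Function.Injective ρ) (hdeg : ∀ p : ℕ, p.Prime → p ∣ Nat.card G → Module.finrank ℂ V < p) (a b : G) : a * b = b * a := by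
  classical
  haveI : Fintype G := Fintype.ofFinite G
  haveI : NeZero (Nat.card G : ℂ) := ⟨by exact_mod_cast Nat.card_pos.ne'⟩
  obtain ⟨U', hU', hc⟩ := exists_isInv_isCompl ρ (commSub ρ) (isInv_commSub ρ)
  have hbot : U' = ⊥ := by
    by_contra hne
    haveI : Nontrivial U' := Submodule.nontrivial_iff_ne_bot.mpr hne
    obtain ⟨W, hW, hWne, hirr⟩ := exists_irreducible_sub (subRep ρ U' hU')
    haveI := hirr
    have hdvd := finrank_dvd_card (subRep (subRep ρ U' hU') W hW)
    have hle1 : Module.finrank ℂ W ≤ Module.finrank ℂ U' := Submodule.finrank_le W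
    have hle2 : Module.finrank ℂ U' ≤ Module.finrank ℂ V := Submodule.finrank_le U'
    have hne0 : Module.finrank ℂ W ≠ 0 := finrank_ne_zero_of_irr (subRep (subRep ρ U' hU') W hW)
    have hone : Module.finrank ℂ W = 1 := by
      by_contra h1
      obtain ⟨p, hp, hpd⟩ := Nat.exists_prime_and_dvd h1
      have := hdeg p hp (hpd.trans hdvd)
      have := Nat.le_of_dvd (Nat.pos_of_ne_zero hne0) hpd
      omega
    obtain ⟨w, hw0, hw⟩ := finrank_eq_one_iff'.mp hone
    -- every element of `W` is a multiple of `w`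
    have hscal : ∀ g : G, ∃ c : ℂ, ρ g ((w : U') : V) = c • ((w : U') : V) := by
      intro g
      obtain ⟨c, hc⟩ := hw (subRep (subRep ρ U' hU') W hW g w)
      refine ⟨c, ?_⟩
      have := congrArg (fun x : W => ((x : U') : V)) hc
      simp only [Submodule.coe_smul, subRep_apply] at this
      exact this.symm
    have hmem : ((w : U') : V) ∈ commSub ρ := by
      rw [mem_commSub]
      intro x y
      obtain ⟨cx, hx⟩ := hscal x
      obtain ⟨cy, hy⟩ := hscal y
      rw [map_mul, map_mul]
      change ρ x (ρ y _) = ρ y (ρ x _)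
      rw [hx, hy, map_smul, map_smul, hx, hy, smul_smul, smul_smul, mul_comm]
    have hmem' : ((w : U') : V) ∈ U' := (w : U').2
    have : ((w : U') : V) ∈ commSub ρ ⊓ U' := ⟨hmem, hmem'⟩
    rw [hc.inf_eq_bot, Submodule.mem_bot] at this
    apply hw0
    apply Subtype.ext
    apply Subtype.ext
    simpa using this
  have htop : commSub ρ = ⊤ := by
    have := hc.sup_eq_top
    rwa [hbot, sup_bot_eq] at this
  apply hfaithful
  apply LinearMap.ext
  intro v
  have hv : v ∈ commSub ρ := by rw [htop]; trivial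
  exact (mem_commSub ρ v).mp hv a b

end Cfsg.Agent.S0185
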