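import Cfsg.Statements.S1244
import Mathlib
import Cfsg.Agent.Lib.Helper21_Transfer

set_option autoImplicit false
open Cfsg
open scoped IsMulCommutative

namespace Cfsg.Agent.S1244

/-- Let G be a finite group with no subgroup of index 2 whose Sylow 2-subgroup S is commutative, and let R ≤ S be a subgroup whose 2-rank is exactly one less than the 2-rank r of S. Then every involution of S is conjugate, by an element of N_G(S), to an element of R. -/
theorem result {G : Type*} [Group G] [Finite G] (hG : ∀ H : Subgroup G, H.index ≠ 2) (S : Sylow 2 G) (hS : IsMulCommutative (S : Subgroup G)) (r : ℕ) (hr1 : 1 ≤ r) (hSr : Cfsg.PRankLE 2 r (S : Subgroup G) ∧ ¬ Cfsg.PRankLE 2 (r - 1) (S : Subgroup G)) (R : Subgroup G) (hRS : R ≤ S) (hRr : Cfsg.PRankLE 2 (r - 1) R ∧ (r = 1 ∨ ¬ Cfsg.PRankLE 2 (r - 2) R)) (t : G) (ht : orderOf t = 2) (htS : t ∈ S) : ∃ n ∈ Subgroup.normalizer ((S : Subgroup G) : Set G), n * t * n⁻¹ ∈ R := by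
  classical
  have hp : Fact (Nat.Prime 2) := ⟨Nat.prime_two⟩
  by_contra hcon
  push Not at hcon
  have hSp : IsPGroup 2 ↥(S : Subgroup G) := S.isPGroup'
  -- the subgroups `Ω₁(S)` and `Ω₁(R)` of `S`
  let W : Subgroup ↥(S : Subgroup G) := (powMonoidHom 2 : ↥(S : Subgroup G) →* ↥(S : Subgroup G)).ker
  let W₀ : Subgroup ↥(S : Subgroup G) := W ⊓ R.subgroupOf (S : Subgroup G)
  have hW : ∀ x : ↥(S : Subgroup G), x ∈ W ↔ x ^ 2 = 1 := fun x => by
    rw [MonoidHom.mem_ker, powMonoidHom_apply]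
  have hW₀ : ∀ x : ↥(S : Subgroup G), x ∈ W₀ ↔ x ^ 2 = 1 ∧ (x : G) ∈ R := fun x => by
    rw [Subgroup.mem_inf, hW, Subgroup.mem_subgroupOf]
  -- the order of `W`
  have hWcard : Nat.card W = 2 ^ r := by
    have h1 : Nat.card W ≤ 2 ^ r := hSr.1 W inferInstance (fun a ha => (hW a).mp ha)
    have h2 : 2 ^ (r - 1) < Nat.card W := by
      have h := hSr.2
      unfold Cfsg.PRankLE at h
      push Not at h
      obtain ⟨A, hA1, hA2, hA3⟩ := h
      have hAW : A ≤ W := fun a ha => (hW a).mpr (hA2 a ha)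
      exact lt_of_lt_of_le hA3 (Subgroup.card_le_of_le hAW)
    obtain ⟨k, hk⟩ := (hSp.to_subgroup W).exists_card_eq
    rw [hk] at h1 h2 ⊢
    have h3 : k ≤ r := (Nat.pow_le_pow_iff_right (by norm_num)).mp h1
    have h4 : r - 1 < k := (Nat.pow_lt_pow_iff_right (by norm_num)).mp h2
    congr 1; omega
  -- commutation in `S`
  have hcomm : ∀ a b : G, a ∈ (S : Subgroup G) → b ∈ (S : Subgroup G) → a * b = b * a := by
    intro a b ha hb
    exact congrArg Subtype.val (mul_comm' (⟨a, ha⟩ : ↥(S : Subgroup G)) ⟨b, hb⟩)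
  -- the order of `W₀`
  have hrange : W₀ ≤ (Subgroup.inclusion hRS).range := by
    rw [Subgroup.inclusion_range]; exact inf_le_right
  have hinj : Function.Injective (Subgroup.inclusion hRS) := Subgroup.inclusion_injective hRS
  have hW₀card : Nat.card W₀ = 2 ^ (r - 1) := by
    have h1 : Nat.card W₀ ≤ 2 ^ (r - 1) := by
      have hA₀ : IsMulCommutative ↥(W₀.comap (Subgroup.inclusion hRS)) :=
        ⟨⟨fun a b => Subtype.ext (Subtype.ext (hcomm _ _ (hRS a.1.2) (hRS b.1.2)))⟩⟩
      have h := hRr.1 (W₀.comap (Subgroup.inclusion hRS)) hA₀ (fun a ha => by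
        have h1 : Subgroup.inclusion hRS a ∈ W₀ := ha
        have h2 := ((hW₀ _).mp h1).1
        apply hinj
        rw [map_pow, h2, map_one])
      rw [← Subgroup.card_map_of_injective hinj, Subgroup.map_comap_eq_self hrange] at h
      exact h
    have h2 : r = 1 ∨ 2 ^ (r - 2) < Nat.card W₀ := by
      rcases hRr.2 with h | h
      · exact Or.inl h
      · right
        unfold Cfsg.PRankLE at h
        push Not at h
        obtain ⟨B, hB1, hB2, hB3⟩ := h
        have hBW : B.map (Subgroup.inclusion hRS) ≤ W₀ := by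
          rintro y ⟨b, hb, rfl⟩
          rw [hW₀]
          refine ⟨?_, b.2⟩
          rw [← map_pow, hB2 b hb, map_one]
        have := Subgroup.card_le_of_le hBW
        rw [Subgroup.card_map_of_injective hinj] at this
        exact lt_of_lt_of_le hB3 this
    obtain ⟨j, hj⟩ := (hSp.to_subgroup W₀).exists_card_eq
    rw [hj] at h1 h2 ⊢
    have h3 : j ≤ r - 1 := (Nat.pow_le_pow_iff_right (by norm_num)).mp h1
    congr 1
    rcases h2 with h | h
    · omega
    · have h4 : r - 2 < j := (Nat.pow_lt_pow_iff_right (by norm_num)).mp h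
      omega
  -- index two
  have hle : W₀ ≤ W := inf_le_left
  have hidx : (W₀.subgroupOf W).index = 2 := by
    have h := Subgroup.relIndex_mul_relIndex ⊥ W₀ W bot_le hle
    rw [Subgroup.relIndex_bot_left, Subgroup.relIndex_bot_left, hW₀card, hWcard] at h
    have h2 : (2 : ℕ) ^ r = 2 ^ (r - 1) * 2 := by
      rw [← pow_succ]; congr 1; omega
    rw [h2] at h
    exact Nat.eq_of_mul_eq_mul_left (by positivity) h
  have h2 : ∀ x ∈ W, ∀ y ∈ W, x ∉ W₀ → y ∉ W₀ → x * y ∈ W₀ := by
    intro x hx y hy hx0 hy0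
    have h := Subgroup.mul_mem_iff_of_index_two hidx (a := (⟨x, hx⟩ : ↥W)) (b := ⟨y, hy⟩)
    simp only [Subgroup.mem_subgroupOf] at h
    exact h.mpr ⟨fun h' => absurd h' hx0, fun h' => absurd h' hy0⟩
  -- the conjugates of `t` in `S`
  have ht2 : t * t = 1 := by
    have := pow_orderOf_eq_one t
    rwa [ht, pow_two] at this
  have hconj : ∀ (g : G) (hg : g⁻¹ * t * g ∈ (S : Subgroup G)),
      (⟨g⁻¹ * t * g, hg⟩ : ↥(S : Subgroup G)) ∈ W ∧
        (⟨g⁻¹ * t * g, hg⟩ : ↥(S : Subgroup G)) ∉ W₀ := by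
    intro g hg
    constructor
    · rw [hW]
      apply Subtype.ext
      show (g⁻¹ * t * g) ^ 2 = 1
      rw [pow_two]
      calc g⁻¹ * t * g * (g⁻¹ * t * g) = g⁻¹ * (t * t) * g := by group
        _ = 1 := by rw [ht2]; group
    · intro h
      have hR : g⁻¹ * t * g ∈ R := ((hW₀ _).mp h).2
      obtain ⟨n, hn, hgn⟩ := S.conj_eq_normalizer_conj_of_mem t g htS hg
      have hn' : n⁻¹ ∈ Subgroup.normalizer ((S : Subgroup G) : Set G) := Subgroup.inv_mem _ hn
      have := hcon n⁻¹ hn'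
      rw [inv_inv, ← hgn] at this
      exact this hR
  have hodd : Odd (S : Subgroup G).index := by
    have h := S.not_dvd_index
    exact Nat.odd_iff.2 (Nat.two_dvd_ne_zero.1 h)
  have hV := Cfsg.Agent.Lib.Helper21_Transfer.transfer_notMem_of_involution (S : Subgroup G) hodd
    W W₀ h2 t ht hconj
  rw [Cfsg.Agent.Lib.Helper21_Transfer.hom_eq_one_of_no_index_two hSp hG] at hV
  exact hV W₀.one_mem


end Cfsg.Agent.S1244
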