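import Cfsg.Statements.S2157
import Cfsg.Agent.Lib.Helper36_ChevTables

set_option autoImplicit false
open Cfsg

namespace Cfsg.Agent.S2157

open Cfsg.Lie Cfsg.Lie.ChevalleyDatum Cfsg.Agent.Lib.Helper36_ChevTables

theorem sum_scale {F : Type*} [Field F] (L : List (ℕ × ℤ)) (a b c t : F)
    (h : ∀ km ∈ L, a * b = c ^ km.1) :
    a * (L.map fun km => ((km.2 : ℤ) : F) * t ^ km.1).sum * b =
      (L.map fun km => ((km.2 : ℤ) : F) * (c * t) ^ km.1).sum := by
  induction L with
  | nil => simp
  | cons x L ih =>
    have hx := h x (List.mem_cons_self)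
    have ih' := ih (fun km hkm => h km (List.mem_cons_of_mem _ hkm))
    simp only [List.map_cons, List.sum_cons]
    rw [← ih', mul_pow, ← hx]
    ring

theorem conj_xMat {F : Type*} [Field F] (D : ChevalleyDatum) (hOK : ChainOK D) (χ : ℕ → Fˣ)
    (hχ : D.IsRootCharacter χ) (r : Fin D.nroots) (t : F) :
    D.charDiag F χ * D.xMat F r t * D.charDiag F (fun s => (χ s)⁻¹) = D.xMat F r ((χ r.val : F) * t) := by
  ext row col
  unfold ChevalleyDatum.charDiag
  rw [Matrix.mul_diagonal, Matrix.diagonal_mul]
  rcases col with i | s
  · rcases row with i' | u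
    · simp [ChevalleyDatum.xMat]
    · simp only [ChevalleyDatum.xMat, Matrix.of_apply, Sum.elim_inl, Sum.elim_inr, mul_one]
      split_ifs with h
      · subst h; ring
      · simp
  · simp only [ChevalleyDatum.xMat, Matrix.of_apply, Sum.elim_inr]
    by_cases h1 : s = r
    · simp only [h1, if_true]
      rcases row with i' | u
      · simp
      · simp only [Sum.elim_inr]
        split_ifs with h
        · subst h; simp
        · simp
    · simp only [if_neg h1]
      by_cases h2 : s.val = D.negIdx.getD r.val 0
      · simp only [if_pos h2]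
        have hneg : χ s.val = (χ r.val)⁻¹ := by
          have := hχ.1 r.val r.isLt
          unfold ChevalleyDatum.neg at this
          rw [h2, this]
        rcases row with i' | u
        · simp only [Sum.elim_inl, one_mul]
          rw [hneg, inv_inv]; ring
        · simp only [Sum.elim_inr]
          by_cases h3 : u = s
          · subst h3; simp
          · simp only [h3, if_false]
            by_cases h4 : u = r
            · subst h4
              simp only [if_true]
              rw [hneg, inv_inv]; ring
            · simp [h4]
      · simp only [if_neg h2]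
        rcases row with i' | u
        · simp
        · simp only [Sum.elim_inr]
          have key := sum_scale (D.chainCoeff r.val s.val u.val) (χ u.val : F) (((χ s.val)⁻¹ : Fˣ) : F) (χ r.val : F) t
            (by
              intro km hkm
              have := char_chainCoeff D hOK χ hχ r.val r.isLt s.val u.val km hkm
              rw [this]
              simp)
          rw [mul_add, add_mul, key]
          congr 1
          split_ifs with h
          · subst h; simp
          · simp

theorem result {F : Type*} [Field F] (D : Cfsg.Lie.ChevalleyDatum) (hD : D ∈ [Cfsg.Lie.chevG2, Cfsg.Lie.chevB2, Cfsg.Lie.chevD4, Cfsg.Lie.chevF4, Cfsg.Lie.chevE6, Cfsg.Lie.chevE7, Cfsg.Lie.chevE8]) (χ : ℕ → Fˣ) (hχ : D.IsRootCharacter χ) (r : ℕ) (hr : r < D.nroots) (t : F) :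
    D.charDiag F χ * D.x F r t * D.charDiag F (fun s => (χ s)⁻¹) = D.x F r ((χ r : F) * t) := by
  unfold ChevalleyDatum.x
  rw [dif_pos hr, dif_pos hr]
  exact conj_xMat D (chainOK_of_mem D hD) χ hχ ⟨r, hr⟩ t

end Cfsg.Agent.S2157
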