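import Mathlib
import Cfsg.Agent.Lib.Helper5_PSLCard
import Cfsg.Agent.S0268
import Cfsg.Statements.S0276

set_option autoImplicit false
set_option linter.unusedSimpArgs false
open Cfsg

namespace Cfsg.Agent.S0276

open Matrix

variable {F : Type*} [Field F]

/-- Cayley–Hamilton for `SL(2, F)`. -/
lemma sl2_sq (g : Matrix.SpecialLinearGroup (Fin 2) F) :
    (g : Matrix (Fin 2) (Fin 2) F) * (g : Matrix (Fin 2) (Fin 2) F) =
      (g : Matrix (Fin 2) (Fin 2) F).trace • (g : Matrix (Fin 2) (Fin 2) F) - 1 := by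
  have hdet := g.det_coe
  rw [Matrix.det_fin_two] at hdet
  ext i j
  fin_cases i <;> fin_cases j <;>
    simp [Matrix.mul_apply, Fin.sum_univ_two, Matrix.trace_fin_two] <;>
    first
      | linear_combination hdet
      | linear_combination -hdet
      | linear_combination 2 * hdet
      | linear_combination -2 * hdet
      | linear_combination (0 : F) * hdet

/-- If `2` is not a square (so in particular `2 ≠ 0`), no element of `SL(2,F)` has fourth power `-1`. -/
lemma no_fourth_root_neg_one (h2 : ¬ IsSquare (2 : F)) (g : Matrix.SpecialLinearGroup (Fin 2) F)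
    (hg : (g : Matrix (Fin 2) (Fin 2) F) ^ 4 = -1) : False := by
  set M := (g : Matrix (Fin 2) (Fin 2) F) with hM
  set t := M.trace with ht
  have h2ne : (2 : F) ≠ 0 := fun h => h2 ⟨0, by simp [h]⟩
  have hsq : M * M = t • M - 1 := sl2_sq g
  have h4 : M ^ 4 = (t ^ 3 - 2 * t) • M - (t ^ 2 - 1) • (1 : Matrix (Fin 2) (Fin 2) F) := by
    have : M ^ 4 = (M * M) * (M * M) := by noncomm_ring
    rw [this, hsq]
    have h3 : (t • M - 1) * (t • M - 1) = (t * t) • (M * M) - (2 * t) • M + 1 := by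
      simp only [sub_mul, mul_sub, smul_mul_assoc, mul_smul_comm, mul_one, one_mul, smul_smul]
      module
    rw [h3, hsq]
    module
  rw [h4] at hg
  have ht2 : t ^ 2 - 2 ≠ 0 := fun h => h2 ⟨t, by linear_combination -h⟩
  have h5 : (t * (t ^ 2 - 2)) • M = (t ^ 2 - 2) • (1 : Matrix (Fin 2) (Fin 2) F) := by
    have : (t * (t ^ 2 - 2)) • M = ((t ^ 3 - 2 * t) • M - (t ^ 2 - 1) • (1 : Matrix (Fin 2) (Fin 2) F)) + (t ^ 2 - 1) • (1 : Matrix (Fin 2) (Fin 2) F) := by
      module
    rw [this, hg]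
    module
  have h6 : t • M = 1 := by
    have := congrArg (fun X => (t ^ 2 - 2)⁻¹ • X) h5
    simp only [smul_smul] at this
    rw [inv_mul_cancel₀ ht2, one_smul] at this
    rw [← this]
    congr 1
    field_simp
  -- so `M` is scalar
  have ht0 : t ≠ 0 := by
    rintro h
    rw [h, zero_smul] at h6
    exact zero_ne_one (congrFun (congrFun h6 0) 0)
  have hMs : M = t⁻¹ • (1 : Matrix (Fin 2) (Fin 2) F) := by
    rw [← h6, smul_smul, inv_mul_cancel₀ ht0, one_smul]
  have hdet : M.det = 1 := g.det_coe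
  rw [hMs] at hdet
  simp [Matrix.det_smul] at hdet
  -- `t⁻¹ ^ 2 = 1`, so `M ^ 4 = 1`
  have h7 : M ^ 4 = 1 := by
    rw [hMs, smul_pow, one_pow]
    have : t⁻¹ ^ 4 = 1 := by
      have : (t ^ 2)⁻¹ = 1 := by simpa using hdet
      calc t⁻¹ ^ 4 = ((t ^ 2)⁻¹) ^ 2 := by ring
        _ = 1 := by rw [this]; ring
    rw [this, one_smul]
  rw [h4] at h7
  rw [h7] at hg
  have := congrFun (congrFun hg 0) 0
  simp at this
  apply h2ne
  linear_combination this

open scoped MatrixGroups

theorem sq_eq_one_of_pow_four [Fintype F] (hodd : Odd (Fintype.card F)) (h2 : ¬ IsSquare (2 : F))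
    (x : Matrix.ProjectiveSpecialLinearGroup (Fin 2) F) (hx : x ^ 4 = 1) : x ^ 2 = 1 := by
  obtain ⟨g, rfl⟩ := QuotientGroup.mk_surjective x
  rw [← QuotientGroup.mk_pow, QuotientGroup.eq_one_iff, Matrix.SpecialLinearGroup.mem_center_iff] at hx
  obtain ⟨r, hr, hrg⟩ := hx
  rw [← QuotientGroup.mk_pow, QuotientGroup.eq_one_iff]
  simp only [Fintype.card_fin] at hr
  have hr' : r = 1 ∨ r = -1 := by
    have : (r - 1) * (r + 1) = 0 := by linear_combination hr
    rcases mul_eq_zero.mp this with h | h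
    · left; linear_combination h
    · right; linear_combination h
  rcases hr' with rfl | rfl
  · -- g^4 = 1
    have hg4 : g ^ 4 = 1 := by
      apply Subtype.ext
      rw [← hrg]; simp
    by_cases h1 : g ^ 2 = 1
    · rw [h1]; exact Subgroup.one_mem _
    · have hh : g ^ 2 * g ^ 2 = 1 := by rw [← pow_add]; exact hg4
      have := Cfsg.Agent.S0268.result hodd (g ^ 2) h1 hh
      rw [Matrix.SpecialLinearGroup.mem_center_iff]
      refine ⟨-1, by simp, ?_⟩
      rw [this]; simp
      rw [← diagonal_one, ← diagonal_neg]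
  · exfalso
    apply no_fourth_root_neg_one h2 g
    rw [← Matrix.SpecialLinearGroup.coe_pow, ← hrg]
    simp
    rw [← diagonal_one, ← diagonal_neg]


/-- For q = 3 or 5 mod 8 the Sylow 2-subgroups of PSL_2(q) are elementary abelian of order 4. -/
theorem result {F : Type*} [Field F] [Fintype F] {q : ℕ} (hF : Fintype.card F = q) (hq : q % 8 = 3 ∨ q % 8 = 5) (P : Sylow 2 (Matrix.ProjectiveSpecialLinearGroup (Fin 2) F)) : IsKleinFour (P : Subgroup (Matrix.ProjectiveSpecialLinearGroup (Fin 2) F)) := by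
  classical
  have hodd : Odd (Fintype.card F) := by
    rw [hF, Nat.odd_iff]; omega
  have h2 : ¬ IsSquare (2 : F) := by
    rw [FiniteField.isSquare_two_iff, hF]
    omega
  -- cardinality of PSL
  have hcard : ∃ r, ¬ 2 ∣ r ∧ Nat.card (Matrix.ProjectiveSpecialLinearGroup (Fin 2) F) = 2 ^ 2 * r := by
    have h1 := Cfsg.Agent.Lib.Helper5_PSLCard.card_PSL_mul (F := F) 2 (by norm_num)
    rw [Cfsg.Agent.Lib.Helper5_PSLCard.card_SL_two, hF] at h1
    obtain ⟨k, hk⟩ : ∃ k, q = 8 * k + 3 ∨ q = 8 * k + 5 := ⟨q / 8, by omega⟩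
    rcases hk with rfl | rfl
    · have hg : Nat.gcd (8 * k + 3 - 1) 2 = 2 := by
        have : 8 * k + 3 - 1 = 2 * (4 * k + 1) := by omega
        rw [this]; simp
      rw [hg] at h1
      refine ⟨(8 * k + 3) * (4 * k + 1) * (2 * k + 1), ?_, ?_⟩
      · intro hd
        have h3 : ((8 * k + 3) * (4 * k + 1) * (2 * k + 1)) % 2 = 1 := by
          simp [Nat.mul_mod, Nat.add_mod]
        omega
      · have : (8 * k + 3) ^ 2 - 1 = (8 * k + 2) * (8 * k + 4) := by
          have : (8 * k + 3) ^ 2 = (8 * k + 2) * (8 * k + 4) + 1 := by ring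
          omega
        rw [this] at h1
        have h4 : Nat.card (Matrix.ProjectiveSpecialLinearGroup (Fin 2) F) * 2 = (2 ^ 2 * ((8 * k + 3) * (4 * k + 1) * (2 * k + 1))) * 2 := by
          rw [h1]; ring
        exact Nat.eq_of_mul_eq_mul_right (by norm_num) h4
    · have hg : Nat.gcd (8 * k + 5 - 1) 2 = 2 := by
        have : 8 * k + 5 - 1 = 2 * (4 * k + 2) := by omega
        rw [this]; simp
      rw [hg] at h1
      refine ⟨(8 * k + 5) * (2 * k + 1) * (4 * k + 3), ?_, ?_⟩
      · intro hd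
        have h3 : ((8 * k + 5) * (2 * k + 1) * (4 * k + 3)) % 2 = 1 := by
          simp [Nat.mul_mod, Nat.add_mod]
        omega
      · have : (8 * k + 5) ^ 2 - 1 = (8 * k + 4) * (8 * k + 6) := by
          have : (8 * k + 5) ^ 2 = (8 * k + 4) * (8 * k + 6) + 1 := by ring
          omega
        rw [this] at h1
        have h4 : Nat.card (Matrix.ProjectiveSpecialLinearGroup (Fin 2) F) * 2 = (2 ^ 2 * ((8 * k + 5) * (2 * k + 1) * (4 * k + 3))) * 2 := by
          rw [h1]; ring
        exact Nat.eq_of_mul_eq_mul_right (by norm_num) h4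
  obtain ⟨r, hr, hcardr⟩ := hcard
  have hP : Nat.card (P : Subgroup (Matrix.ProjectiveSpecialLinearGroup (Fin 2) F)) = 4 := by
    rw [Sylow.card_eq_multiplicity, hcardr]
    have hr0 : r ≠ 0 := fun h => hr (h ▸ dvd_zero 2)
    rw [Nat.factorization_mul (by norm_num) hr0, Finsupp.add_apply,
      Nat.factorization_eq_zero_of_not_dvd hr, add_zero, Nat.prime_two.factorization_pow,
      Finsupp.single_eq_same]
    norm_num
  have hfin : Finite (P : Subgroup (Matrix.ProjectiveSpecialLinearGroup (Fin 2) F)) :=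
    Nat.finite_of_card_ne_zero (by rw [hP]; norm_num)
  have hsq : ∀ x : (P : Subgroup (Matrix.ProjectiveSpecialLinearGroup (Fin 2) F)), x ^ 2 = 1 := by
    intro x
    have h4 : x ^ 4 = 1 := by rw [← hP]; exact pow_card_eq_one'
    have h4' : (x : Matrix.ProjectiveSpecialLinearGroup (Fin 2) F) ^ 4 = 1 := by
      have := congrArg Subtype.val h4
      simpa using this
    have := sq_eq_one_of_pow_four hodd h2 _ h4'
    apply Subtype.ext
    simpa using this
  refine ⟨hP, ?_⟩
  have hdvd : Monoid.exponent (P : Subgroup (Matrix.ProjectiveSpecialLinearGroup (Fin 2) F)) ∣ 2 :=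
    Monoid.exponent_dvd_of_forall_pow_eq_one hsq
  have hne1 : Monoid.exponent (P : Subgroup (Matrix.ProjectiveSpecialLinearGroup (Fin 2) F)) ≠ 1 := by
    intro h
    rw [Monoid.exp_eq_one_iff] at h
    have := Nat.card_eq_one_iff_unique.mpr ⟨h, ⟨1⟩⟩
    omega
  rcases (Nat.dvd_prime Nat.prime_two).mp hdvd with h | h
  · exact absurd h hne1
  · exact h

end Cfsg.Agent.S0276
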