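import Cfsg.Statements.S2471
import Mathlib

set_option autoImplicit false
open Cfsg

namespace Cfsg.Agent.S2471

open Matrix

/-- Cayley-Hamilton for a 2×2 matrix of determinant one. -/
theorem sq_eq {F : Type*} [Field F] (A : Matrix.SpecialLinearGroup (Fin 2) F) :
    (A : Matrix (Fin 2) (Fin 2) F) ^ 2 =
      (Matrix.trace (A : Matrix (Fin 2) (Fin 2) F)) • (A : Matrix (Fin 2) (Fin 2) F) - 1 := by
  have hdet : (A : Matrix (Fin 2) (Fin 2) F).det = 1 := A.2
  rw [Matrix.det_fin_two] at hdet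
  rw [pow_two]
  ext i j
  fin_cases i <;> fin_cases j <;>
    simp [Matrix.mul_apply, Fin.sum_univ_two, Matrix.trace_fin_two] <;>
    first | ring1 | linear_combination (-1 : F) * hdet

/-- An element of `SL₂` whose matrix is a scalar matrix is central. -/
theorem mem_center_of_scalar {F : Type*} [Field F] (B : Matrix.SpecialLinearGroup (Fin 2) F) (c : F)
    (h : (B : Matrix (Fin 2) (Fin 2) F) = c • (1 : Matrix (Fin 2) (Fin 2) F)) :
    B ∈ Subgroup.center (Matrix.SpecialLinearGroup (Fin 2) F) := by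
  rw [Subgroup.mem_center_iff]
  intro g
  apply Subtype.ext
  simp only [Matrix.SpecialLinearGroup.coe_mul, h, Matrix.mul_smul, Matrix.smul_mul, mul_one, one_mul]

theorem result {F : Type*} [Field F] [Fintype F] (p : ℕ) [Fact p.Prime] [CharP F p] (hp : p ≠ 2) (h5 : 5 ≤ Fintype.card F) (g : Matrix.ProjectiveSpecialLinearGroup (Fin 2) F) :
    orderOf g ≠ 2 * p := by
  intro hord
  have hpprime : p.Prime := Fact.out
  obtain ⟨A, rfl⟩ := QuotientGroup.mk_surjective g
  have h1 : (QuotientGroup.mk A : Matrix.ProjectiveSpecialLinearGroup (Fin 2) F) ^ (2 * p) = 1 := by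
    rw [← hord]; exact pow_orderOf_eq_one _
  rw [← QuotientGroup.mk_pow, QuotientGroup.eq_one_iff, Matrix.SpecialLinearGroup.mem_center_iff] at h1
  obtain ⟨r, _, hrA⟩ := h1
  set M : Matrix (Fin 2) (Fin 2) F := (A : Matrix (Fin 2) (Fin 2) F) with hM
  set t : F := Matrix.trace M with ht
  have hsq : M ^ 2 = t • M - 1 := sq_eq A
  have hM2p : (M ^ 2) ^ p = r • (1 : Matrix (Fin 2) (Fin 2) F) := by
    rw [← pow_mul]
    have h2 : M ^ (2 * p) = (Matrix.scalar (Fin 2)) r := by
      rw [hrA, Matrix.SpecialLinearGroup.coe_pow]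
    rw [h2]
    ext i j
    simp [Matrix.scalar_apply, Matrix.smul_apply, Matrix.one_apply, Matrix.diagonal_apply]
  have hcomm : Commute (t • M) (1 : Matrix (Fin 2) (Fin 2) F) := Commute.one_right _
  have hexp : (t • M - 1) ^ p = t ^ p • M ^ p - 1 := by
    rw [sub_pow_char_of_commute _ hcomm, one_pow, smul_pow]
  rw [hsq, hexp] at hM2p
  -- t ^ p • M ^ p = (r + 1) • 1
  have hkey : t ^ p • M ^ p = (r + 1) • (1 : Matrix (Fin 2) (Fin 2) F) := by
    rw [add_smul, one_smul, ← hM2p]; abel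
  by_cases ht0 : t = 0
  · -- then M ^ 2 = -1 is scalar, so g ^ 2 = 1
    have hM2 : ((A ^ 2 : Matrix.SpecialLinearGroup (Fin 2) F) : Matrix (Fin 2) (Fin 2) F) =
        (-1 : F) • (1 : Matrix (Fin 2) (Fin 2) F) := by
      rw [Matrix.SpecialLinearGroup.coe_pow, ← hM, hsq, ht0, zero_smul, zero_sub, neg_smul, one_smul]
    have hc := mem_center_of_scalar (A ^ 2) (-1) hM2
    have hg2 : (QuotientGroup.mk A : Matrix.ProjectiveSpecialLinearGroup (Fin 2) F) ^ 2 = 1 := by
      rw [← QuotientGroup.mk_pow, QuotientGroup.eq_one_iff]; exact hc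
    have hdvd := orderOf_dvd_of_pow_eq_one hg2
    rw [hord] at hdvd
    have := Nat.le_of_dvd (by norm_num) hdvd
    have := hpprime.two_le
    omega
  · have htp : t ^ p ≠ 0 := pow_ne_zero _ ht0
    have hMp : ((A ^ p : Matrix.SpecialLinearGroup (Fin 2) F) : Matrix (Fin 2) (Fin 2) F) =
        ((t ^ p)⁻¹ * (r + 1)) • (1 : Matrix (Fin 2) (Fin 2) F) := by
      rw [Matrix.SpecialLinearGroup.coe_pow, ← hM, mul_smul, ← hkey, smul_smul, inv_mul_cancel₀ htp,
        one_smul]
    have hc := mem_center_of_scalar (A ^ p) _ hMp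
    have hgp : (QuotientGroup.mk A : Matrix.ProjectiveSpecialLinearGroup (Fin 2) F) ^ p = 1 := by
      rw [← QuotientGroup.mk_pow, QuotientGroup.eq_one_iff]; exact hc
    have hdvd := orderOf_dvd_of_pow_eq_one hgp
    rw [hord] at hdvd
    have := Nat.le_of_dvd hpprime.pos hdvd
    have := hpprime.two_le
    omega

end Cfsg.Agent.S2471
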