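import Cfsg.Statements.S0807
import Cfsg.Agent.Lib.Helper42_PSL2Klein

set_option autoImplicit false
open Cfsg

namespace Cfsg.Agent.S0807

/-- For q odd, twelve times the number of Klein four-subgroups of PSL_2(q) equals the order of PSL_2(q). -/
theorem result {F : Type*} [Field F] [Fintype F] {q : ℕ} (hF : Fintype.card F = q) (hodd : Odd q) : 12 * Nat.card {V : Subgroup (Matrix.ProjectiveSpecialLinearGroup (Fin 2) F) // IsKleinFour V} = Nat.card (Matrix.ProjectiveSpecialLinearGroup (Fin 2) F) := by
  have h2F : (2 : F) ≠ 0 := by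
    apply Ring.two_ne_zero
    intro hc
    have := FiniteField.even_card_iff_char_two.mp hc
    rw [hF] at this
    rcases hodd with ⟨k, hk⟩
    omega
  have h1 := Cfsg.Agent.Lib.Helper42_PSL2Klein.four_mul_ncard_pairs h2F
  have h2 := Cfsg.Agent.Lib.Helper42_KleinCount.ncard_pairs
    (G := Matrix.ProjectiveSpecialLinearGroup (Fin 2) F)
  have h3 := Cfsg.Agent.Lib.Helper5_PSLCard.card_PSL_mul (F := F) 2 (by norm_num)
  have hg : Nat.gcd (Fintype.card F - 1) 2 = 2 := by
    rw [hF]
    rcases hodd with ⟨k, hk⟩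
    have : q - 1 = 2 * k := by omega
    rw [this]
    simp
  rw [hg] at h3
  omega

end Cfsg.Agent.S0807
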