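import Cfsg.Statements.S1152
import Cfsg.Agent.Lib.Helper37_ReeCentMain

set_option autoImplicit false
open Cfsg
open Cfsg Cfsg.Lie Cfsg.Agent.Lib.Helper36_ReeFix Cfsg.Agent.Lib.Helper36_ReeOrder
  Cfsg.Agent.Lib.Helper37_ReeCentDefs Cfsg.Agent.Lib.Helper37_ReeCentMain
  Cfsg.Agent.Lib.Helper37_ReeCent_AM0 Cfsg.Agent.Lib.Helper37_ReeCent_ANOTIN Cfsg.Agent.Lib.Helper37_ReeCent_CASES
  Cfsg.Agent.Lib.Helper37_ReeCent_CENTU Cfsg.Agent.Lib.Helper37_ReeCent_CHI Cfsg.Agent.Lib.Helper37_ReeCent_CONJW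
  Cfsg.Agent.Lib.Helper37_ReeCent_KER Cfsg.Agent.Lib.Helper37_ReeCent_PHI Cfsg.Agent.Lib.Helper46_ReeCent_COVER
  Cfsg.Agent.Lib.Helper46_ReeCent_PHIMEM Cfsg.Agent.Lib.Helper86_ReeCent_HH

namespace Cfsg.Agent.S1152

/-- In the small Ree group ²G₂(q), q = 3^(2m+1), realised as G¹ inside the Chevalley group G₂ over the field with q elements (θ the 3^m-th power map), with H¹ = G¹ ∩ H and U¹ = G¹ ∩ U the intersections with the ambient diagonal and positive unipotent subgroups: for an involution `a ∈ H¹`, the centraliser of `a` in `G¹` is isomorphic to `Z₂ × PSL₂(q)`; and the Sylow 2-subgroups of `G¹` are elementary abelian of order 8. -/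
theorem result {K : Type*} [Field K] [Fintype K] {m : ℕ} (hK : Fintype.card K = 3 ^ (2 * m + 1))
    (a : ↥(Cfsg.Lie.twistedG2 K (3 ^ m))) (haH : (a : GL Cfsg.Lie.chevG2.Idx K) ∈ Cfsg.Lie.chevG2.diagonalSubgroup K) (ha1 : a ≠ 1) (ha2 : a * a = 1) :
    Nonempty (↥(Subgroup.centralizer {a}) ≃* Multiplicative (ZMod 2) × Matrix.ProjectiveSpecialLinearGroup (Fin 2) K) ∧
      ∀ S : Sylow 2 ↥(Cfsg.Lie.twistedG2 K (3 ^ m)), Nat.card S = 8 ∧ ∀ x ∈ S, x * x = 1 := by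
  have := charP3 hK
  have hea : (a : GL chevG2.Idx K) = aa K m := by
    apply eq_aa hK _ ⟨haH, a.2⟩
    · intro h
      exact ha1 (Subtype.ext h)
    · have := congrArg Subtype.val ha2
      exact this
  have hea' : a = ⟨aa K m, aa_mem hK⟩ := Subtype.ext hea
  have hiso := centralizer_aa hK
  rw [← hea'] at hiso
  refine ⟨hiso, ?_⟩
  obtain ⟨e⟩ := hiso
  have harith := Cfsg.Agent.Lib.Helper8_ReeInv_ARITH.arith m
  have h16 : ¬ 16 ∣ Nat.card ↥(twistedG2 K (3 ^ m)) := by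
    rw [card_twistedG2 hK]
    exact harith.1
  have hq : Fintype.card K % 8 = 3 ∨ Fintype.card K % 8 = 5 := by
    left
    rw [hK]
    exact harith.2
  intro S
  exact Cfsg.Agent.Lib.Helper8_ReeInv_SYL2.sylow_of_iso hq _ e h16 S

end Cfsg.Agent.S1152
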