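import Cfsg.Statements.S1024
-- import your own Cfsg.Agent.* helpers here

set_option autoImplicit false
set_option linter.unusedSimpArgs false
open Cfsg

namespace Cfsg.Agent.S1024

open Cfsg.Lie Cfsg.Lie.ChevalleyDatum

theorem chainCoeff_pos (D : ChevalleyDatum) (r s u : ℕ) (km : ℕ × ℤ)
    (h : km ∈ D.chainCoeff r s u) : 1 ≤ km.1 := by
  unfold ChevalleyDatum.chainCoeff at h
  simp only [List.mem_flatMap, List.mem_map, List.mem_filter] at h
  obtain ⟨e, _, q, _, rfl⟩ := h
  simp

theorem xMat_zero {F : Type*} [Field F] (D : ChevalleyDatum) (r : Fin D.nroots) :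
    D.xMat F r 0 = 1 := by
  ext row col
  unfold ChevalleyDatum.xMat
  rcases col with i | s
  · rcases row with i' | u
    · simp [Matrix.one_apply]
    · simp
  · by_cases hsr : s = r
    · subst hsr
      rcases row with i' | u
      · simp
      · simp [Matrix.one_apply]
    · by_cases hneg : s.val = D.negIdx.getD r.val 0
      · rcases row with i' | u
        · simp [Matrix.one_apply, hsr, hneg]
        · simp only [Matrix.of_apply, hsr, hneg, if_true, if_false, Matrix.one_apply]
          by_cases hus : u = s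
          · simp [hus]
          · simp [hus]
      · rcases row with i' | u
        · simp [Matrix.one_apply, hsr, hneg]
        · simp only [Matrix.of_apply, hsr, hneg, if_false, Matrix.one_apply]
          have hz : ((D.chainCoeff r.val s.val u.val).map
              fun km => ((km.2 : ℤ) : F) * (0 : F) ^ km.1).sum = 0 := by
            apply List.sum_eq_zero
            intro x hx
            simp only [List.mem_map] at hx
            obtain ⟨km, hkm, rfl⟩ := hx
            have := chainCoeff_pos D _ _ _ km hkm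
            rw [zero_pow (by omega), mul_zero]
          rw [hz, add_zero]
          by_cases hus : u = s
          · simp [hus]
          · simp [hus]

theorem xMat_eq_one_imp {F : Type*} [Field F] (D : ChevalleyDatum) (r : Fin D.nroots)
    (h1 : D.negIdx.getD r.val 0 ≠ r.val) (h2 : D.negIdx.getD r.val 0 < D.nroots) (t : F)
    (h : D.xMat F r t = 1) : t = 0 := by
  have h3 := congrFun (congrFun h (Sum.inr r)) (Sum.inr ⟨D.negIdx.getD r.val 0, h2⟩)
  unfold ChevalleyDatum.xMat at h3
  generalize hn : D.negIdx.getD r.val 0 = n at h1 h2 h3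
  have hne : (⟨n, h2⟩ : Fin D.nroots) ≠ r := by
    intro hh
    apply h1
    exact congrArg Fin.val hh
  have hne' : r ≠ (⟨n, h2⟩ : Fin D.nroots) := fun hh => hne hh.symm
  simp only [Matrix.of_apply, hne, hne', if_false, if_true, Matrix.one_apply,
    Sum.inr.injEq] at h3
  simpa using h3

theorem x_eq_one_iff {F : Type*} [Field F] (D : ChevalleyDatum)
    (hD : ∀ r < D.nroots, D.negIdx.getD r 0 ≠ r ∧ D.negIdx.getD r 0 < D.nroots)
    (r : ℕ) (hr : r < D.nroots) (t : F) : D.x F r t = 1 ↔ t = 0 := by
  unfold ChevalleyDatum.x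
  rw [dif_pos hr]
  constructor
  · intro h
    exact xMat_eq_one_imp D ⟨r, hr⟩ (hD r hr).1 (hD r hr).2 t h
  · rintro rfl
    exact xMat_zero D ⟨r, hr⟩

set_option maxRecDepth 1000000 in
/-- `x_r(0) = 1`, and `x_r(t) = 1` forces `t = 0`: the map `t ↦ x_r(t)` is injective. -/
theorem result {F : Type*} [Field F] (D : Cfsg.Lie.ChevalleyDatum) (hD : D ∈ [Cfsg.Lie.chevG2, Cfsg.Lie.chevB2, Cfsg.Lie.chevD4, Cfsg.Lie.chevF4, Cfsg.Lie.chevE6, Cfsg.Lie.chevE7, Cfsg.Lie.chevE8]) (r : ℕ) (hr : r < D.nroots) (t : F) :
    D.x F r t = 1 ↔ t = 0 := by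
  simp only [List.mem_cons, List.not_mem_nil, or_false] at hD
  rcases hD with rfl | rfl | rfl | rfl | rfl | rfl | rfl
  · exact x_eq_one_iff _ (by decide) r hr t
  · exact x_eq_one_iff _ (by decide) r hr t
  · exact x_eq_one_iff _ (by decide) r hr t
  · exact x_eq_one_iff _ (by decide) r hr t
  · exact x_eq_one_iff _ (by decide) r hr t
  · exact x_eq_one_iff _ (by decide) r hr t
  · exact x_eq_one_iff _ (by decide) r hr t

end Cfsg.Agent.S1024
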