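import Cfsg.Statements.S1090
import Cfsg.Agent.Lib.Helper18_TwistF4D
import Cfsg.Agent.Lib.Helper18_ChevData5
import Cfsg.Agent.Lib.Helper18_ChevACerts

set_option autoImplicit false
open Cfsg

namespace Cfsg.Agent.S1090

/-- |U¹| = |G¹ ∩ U| = (2 ^ (2 * m + 1)) ^ 12 for ²F₄(2^(2m+1)). -/
theorem result {K : Type*} [Field K] [Fintype K] {m : ℕ} (hK : Fintype.card K = 2 ^ (2 * m + 1)) :
    Nat.card ↥(Cfsg.Lie.chevF4.posUnipotent K ⊓ Cfsg.Lie.twistedF4 K (2 ^ m)) = (2 ^ (2 * m + 1)) ^ 12 := by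
  have tc := Cfsg.Agent.Lib.Helper18_ChevTCertF4.tcert
  have pc := Cfsg.Agent.Lib.Helper18_ChevPCertF4.pcert
  have ac := Cfsg.Agent.Lib.Helper18_ChevACerts.acertF4
  have hR2 := Cfsg.Agent.Lib.Helper18_ChevComm2.r2_all Cfsg.Agent.Lib.Helper18_ChevDatumF4.dcert pc (F := K)
  have hchar := Cfsg.Agent.Lib.Helper18_TwistF4A.charP_two hK
  obtain ⟨σ, hσ⟩ := Cfsg.Agent.Lib.Helper18_TwistF4A.exists_sigma hK
  exact Cfsg.Agent.Lib.Helper18_TwistF4D.card_U1 Cfsg.Agent.Lib.Helper18_ChevDatumF4.dcert tc ac hR2 hK hσ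

end Cfsg.Agent.S1090
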