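import Cfsg.Statements.S0194
import Cfsg.Agent.Lib.Helper75_Clifford
import Cfsg.Agent.Lib.Helper79_FrobSchur
import Cfsg.Agent.Lib.Helper80_CharBasic

set_option autoImplicit false
open scoped ComplexConjugate
open Cfsg

namespace Cfsg.Agent.S0194

open Cfsg.Agent.Lib.Helper3_CharBridge Cfsg.Agent.Lib.Helper3_CharOrtho
  Cfsg.Agent.Lib.Helper3_CharComplete Cfsg.Agent.Lib.Helper75_CharArith
  Cfsg.Agent.Lib.Helper75_Induced

/-- The complex conjugate of a character is a character (dual representation). -/
theorem isCharacter_conj {K : Type*} [Group K] [Finite K] {χ : K → ℂ}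
    (hχ : Cfsg.IsCharacter K χ) : Cfsg.IsCharacter K (fun g => conj (χ g)) := by
  obtain ⟨n, ρ, rfl⟩ := hχ
  have h := isCharacter_of_rep ρ.dual
  have h2 : ρ.dual.character = fun g => conj (ρ.character g) := by
    funext g
    rw [Representation.char_dual, Cfsg.Agent.Lib.Helper3_CharEigen.char_inv]
  rw [h2] at h
  exact h

theorem classInner_conj_conj {K : Type*} [Group K] [Fintype K] (α β : K → ℂ) :
    Cfsg.classInner (fun g => conj (α g)) (fun g => conj (β g)) = conj (Cfsg.classInner α β) := by
  unfold Cfsg.classInner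
  rw [map_mul, map_inv₀, Complex.conj_natCast, map_sum]
  congr 1
  refine Finset.sum_congr rfl (fun g _ => ?_)
  rw [map_mul]

/-- The complex conjugate of an irreducible character is irreducible. -/
theorem isIrrCharacter_conj {K : Type*} [Group K] [Fintype K] {χ : K → ℂ}
    (hχ : Cfsg.IsIrrCharacter K χ) : Cfsg.IsIrrCharacter K (fun g => conj (χ g)) := by
  apply isIrrCharacter_of_classInner_self (isCharacter_conj (isCharacter_of_isIrrCharacter hχ))
  rw [classInner_conj_conj, classInner_self_of_isIrrCharacter hχ, map_one]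

/-- A non-principal irreducible character of a group of odd order is not real valued. -/
theorem exists_im_ne_zero {K : Type*} [Group K] [Fintype K] (hodd : Odd (Nat.card K))
    {θ : K → ℂ} (hθ : Cfsg.IsIrrCharacter K θ) (hθ1 : θ ≠ fun _ => 1) :
    ∃ s : K, (θ s).im ≠ 0 := by
  obtain ⟨n, ρ, hirr, rfl⟩ := hθ
  have := hirr
  rw [← Cfsg.Agent.Lib.Helper79_FrobSchur.indicator_eq_zero_iff ρ]
  have hcop : Nat.Coprime (Nat.card K) 2 := Nat.Coprime.symm (Nat.coprime_two_left.mpr hodd)
  have hsq : ∑ s : K, ρ.character (s * s) = ∑ s : K, ρ.character s := by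
    refine Fintype.sum_equiv (powCoprime hcop) _ _ (fun s => ?_)
    rw [powCoprime_apply, pow_two]
  rw [hsq]
  have h0 := classInner_of_isIrrCharacter_of_ne (⟨n, ρ, hirr, rfl⟩ : Cfsg.IsIrrCharacter K ρ.character)
    (Cfsg.Agent.Lib.Helper80_CharBasic.isIrrCharacter_one K) hθ1
  unfold Cfsg.classInner at h0
  simpa using h0

theorem conj_extendByZero {G : Type*} [Group G] (H : Subgroup G) (θ : H → ℂ) (g : G) :
    conj (Cfsg.extendByZero H θ g) = Cfsg.extendByZero H (fun h => conj (θ h)) g := by
  by_cases hg : g ∈ H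
  · rw [extendByZero_of_mem H θ hg, extendByZero_of_mem H _ hg]
  · rw [extendByZero_of_not_mem H θ hg, extendByZero_of_not_mem H _ hg, map_zero]

theorem conj_indFun {G : Type*} [Group G] [Fintype G] (H : Subgroup G) (θ : H → ℂ) :
    (fun g => conj (Cfsg.indFun H θ g)) = Cfsg.indFun H (fun h => conj (θ h)) := by
  funext g
  rw [indFun_apply, indFun_apply, map_mul, map_inv₀, Complex.conj_natCast, map_sum]
  congr 1
  refine Finset.sum_congr rfl (fun x _ => ?_)
  exact conj_extendByZero H θ _

theorem conjFun_pow_eq {G : Type*} [Group G] (H : Subgroup G) (hN : H.Normal) (θ : H → ℂ) (y : G)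
    (hy : Cfsg.Agent.Lib.Helper75_Clifford.conjFun H hN θ y = θ) (k : ℕ) :
    Cfsg.Agent.Lib.Helper75_Clifford.conjFun H hN θ (y ^ k) = θ := by
  induction k with
  | zero => rw [pow_zero, Cfsg.Agent.Lib.Helper75_Clifford.conjFun_one]
  | succ k ih =>
    rw [pow_succ, ← Cfsg.Agent.Lib.Helper75_Clifford.conjFun_conjFun, ih, hy]

/-- Let G have odd order, H be a normal subgroup and θ a non-principal irreducible character of H. Then the function induced from θ is orthogonal to its complex conjugate. -/
theorem result {G : Type*} [Group G] [Fintype G] (hodd : Odd (Nat.card G)) (H : Subgroup G) [H.Normal] (θ : H → ℂ) (hθ : Cfsg.IsIrrCharacter H θ) (hθ1 : θ ≠ fun _ => 1) : Cfsg.classInner (fun g => conj (Cfsg.indFun H θ g)) (Cfsg.indFun H θ) = 0 := by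
  classical
  have hN : H.Normal := inferInstance
  have : Fintype H := Fintype.ofFinite H
  have hoddH : Odd (Nat.card H) := by
    have hdvd : Nat.card H ∣ Nat.card G := Subgroup.card_subgroup_dvd_card H
    exact Odd.of_dvd_nat hodd hdvd
  rw [conj_indFun, Cfsg.Agent.Lib.Helper75_Clifford.classInner_indFun_indFun H hN]
  have hzero : ∀ x : G, Cfsg.classInner (fun h => conj (θ h))
      (Cfsg.Agent.Lib.Helper75_Clifford.conjFun H hN θ x) = 0 := by
    intro x
    rw [classInner_irr (isIrrCharacter_conj hθ)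
      (Cfsg.Agent.Lib.Helper75_Clifford.isIrrCharacter_conjFun H hN hθ x)]
    rw [if_neg]
    intro hx
    -- `θ̄ = θ^x`, hence `θ^{x*x} = θ`
    have hx2 : Cfsg.Agent.Lib.Helper75_Clifford.conjFun H hN θ (x * x) = θ := by
      rw [← Cfsg.Agent.Lib.Helper75_Clifford.conjFun_conjFun, ← hx]
      funext n
      rw [Cfsg.Agent.Lib.Helper75_Clifford.conjFun_apply]
      have h3 := congrFun hx n
      rw [Cfsg.Agent.Lib.Helper75_Clifford.conjFun_apply] at h3
      rw [← h3]
      exact Complex.conj_conj _
    -- odd order: `x` is a power of `x * x`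
    have hordodd : Odd (orderOf x) := Odd.of_dvd_nat hodd (orderOf_dvd_natCard x)
    obtain ⟨m, hm⟩ := hordodd
    have hxpow : (x * x) ^ (m + 1) = x := by
      rw [← pow_two, ← pow_mul]
      have : 2 * (m + 1) = orderOf x + 1 := by omega
      rw [this, pow_succ, pow_orderOf_eq_one, one_mul]
    have hx1 : Cfsg.Agent.Lib.Helper75_Clifford.conjFun H hN θ x = θ := by
      have := conjFun_pow_eq H hN θ (x * x) hx2 (m + 1)
      rwa [hxpow] at this
    rw [hx1] at hx
    obtain ⟨s, hs⟩ := exists_im_ne_zero hoddH hθ hθ1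
    apply hs
    have h4 := congrFun hx s
    have h5 := congrArg Complex.im h4
    simp only [Complex.conj_im] at h5
    linarith
  simp_rw [hzero]
  simp

end Cfsg.Agent.S0194
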