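import Cfsg.Statements.S0741
import Cfsg.Agent.Lib.Helper59_SharpTrans

set_option autoImplicit false
open Cfsg

namespace Cfsg.Agent.S0741

open MulAction Cfsg.Agent.Lib.Helper59_SharpTrans

section

variable {G Ω : Type*} [Group G] [MulAction G Ω]

/-- An element commuting with `t`, where `t ≠ 1` fixes `a`, `b` and no third point, either fixes
both `a` and `b` or swaps them. -/
theorem fix_or_swap
    (h3 : ∀ g : G, ∀ a b c : Ω, a ≠ b → b ≠ c → a ≠ c → g • a = a → g • b = b → g • c = c → g = 1)
    {a b : Ω} (hab : a ≠ b) {t : G} (ht1 : t ≠ 1) (hta : t • a = a) (htb : t • b = b)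
    {x : G} (hx : x * t = t * x) :
    (x • a = a ∧ x • b = b) ∨ (x • a = b ∧ x • b = a) := by
  have hfix : ∀ c : Ω, t • c = c → c = a ∨ c = b := by
    intro c hc
    by_contra hcon
    push Not at hcon
    exact ht1 (h3 t a b c hab (Ne.symm hcon.2) (Ne.symm hcon.1) hta htb hc)
  have hxa : t • (x • a) = x • a := by
    rw [← mul_smul, ← hx, mul_smul, hta]
  have hxb : t • (x • b) = x • b := by
    rw [← mul_smul, ← hx, mul_smul, htb]
  have hne : x • a ≠ x • b := fun h => hab (MulAction.injective x h)
  rcases hfix _ hxa with h1 | h1 <;> rcases hfix _ hxb with h2 | h2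
  · exact absurd (h1.trans h2.symm) hne
  · exact Or.inl ⟨h1, h2⟩
  · exact Or.inr ⟨h1, h2⟩
  · exact absurd (h1.trans h2.symm) hne

theorem main [Finite G] [Fintype Ω] (h2 : IsMultiplyPretransitive G Ω 2)
    (h3 : ∀ g : G, ∀ a b c : Ω, a ≠ b → b ≠ c → a ≠ c → g • a = a → g • b = b → g • c = c → g = 1)
    {a b : Ω} (hab : a ≠ b)
    (heven : Even (Nat.card ↥(stabilizer G a ⊓ stabilizer G b))) :
    Fintype.card Ω - 2 ≤ 2 * Nat.card ↥(stabilizer G a ⊓ stabilizer G b) := by
  classical
  have _ : Fintype G := Fintype.ofFinite G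
  set H : Subgroup G := stabilizer G a ⊓ stabilizer G b with hH
  have hmemH : ∀ x : G, x ∈ H ↔ x • a = a ∧ x • b = b := by
    intro x; simp [hH, Subgroup.mem_inf, mem_stabilizer_iff]
  -- an involution in `H`
  have : Fact (Nat.Prime 2) := ⟨Nat.prime_two⟩
  obtain ⟨t', ht'⟩ := exists_prime_orderOf_dvd_card' (G := H) 2 (even_iff_two_dvd.1 heven)
  set t : G := (t' : G) with ht
  have hto : orderOf t = 2 := by rw [ht, Subgroup.orderOf_coe, ht']
  have ht1 : t ≠ 1 := by
    intro h; rw [h, orderOf_one] at hto; omega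
  have htt : t * t = 1 := by
    have := pow_orderOf_eq_one t
    rwa [hto, pow_two] at this
  have hta : t • a = a := ((hmemH t).1 t'.2).1
  have htb : t • b = b := ((hmemH t).1 t'.2).2
  -- `t` moves every other point
  have hmove : ∀ c : Ω, c ≠ a → c ≠ b → t • c ≠ c := by
    intro c hca hcb hc
    exact ht1 (h3 t a b c hab (Ne.symm hcb) (Ne.symm hca) hta htb hc)
  -- choice of elements
  have hex : ∀ c : Ω, ∃ g : G, c ≠ a → c ≠ b → g • a = c ∧ g • b = t • c := by
    intro c
    by_cases hca : c = a
    · exact ⟨1, fun h => absurd hca h⟩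
    by_cases hcb : c = b
    · exact ⟨1, fun _ h => absurd hcb h⟩
    obtain ⟨g, hg⟩ := two_trans (Γ := G) a b c (t • c) hab (Ne.symm (hmove c hca hcb))
    exact ⟨g, fun _ _ => hg⟩
  choose γ hγ using hex
  -- the finite sets
  set Hset : Finset G := Finset.univ.filter (fun x => x ∈ H) with hHset
  set Sset : Finset G := Finset.univ.filter (fun s => s • a = b ∧ s • b = a) with hSset
  set Cset : Finset Ω := Finset.univ.filter (fun c => c ≠ a ∧ c ≠ b) with hCset
  set d := Nat.card H with hd
  have hHcard : Hset.card = d := by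
    rw [hd, Nat.card_eq_fintype_card, Fintype.card_subtype]
  have hdpos : 0 < d := Nat.card_pos
  have hScard : Sset.card ≤ d := by
    by_cases hne : Sset.Nonempty
    · obtain ⟨s0, hs0⟩ := hne
      rw [hSset, Finset.mem_filter] at hs0
      rw [← hHcard]
      apply Finset.card_le_card_of_injOn (fun s => s0⁻¹ * s)
      · intro s hs
        have hs' : s • a = b ∧ s • b = a := by
          have := hs; rw [hSset] at this; simpa using this
        simp only [hHset, Finset.coe_filter, Finset.mem_univ, true_and, Set.mem_ofPred_eq]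
        rw [hmemH]
        constructor
        · rw [mul_smul, hs'.1, inv_smul_eq_iff, hs0.2.1]
        · rw [mul_smul, hs'.2, inv_smul_eq_iff, hs0.2.2]
      · intro s _ s' _ h
        exact mul_left_cancel h
    · rw [Finset.not_nonempty_iff_eq_empty] at hne
      rw [hne]; simp
  have hCcard : Cset.card = Fintype.card Ω - 2 := by
    have h1 : Cset = Finset.univ \ {a, b} := by
      ext c
      simp [hCset]
    rw [h1, Finset.card_sdiff_of_subset (Finset.subset_univ _), Finset.card_univ,
      Finset.card_pair hab]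
  -- the set of commuting-or-swapping elements
  set Kset : Finset G := Hset ∪ Sset with hKset
  have hKcard : Kset.card ≤ 2 * d := by
    calc Kset.card ≤ Hset.card + Sset.card := Finset.card_union_le _ _
      _ ≤ d + d := by rw [hHcard]; exact Nat.add_le_add_left hScard d
      _ = 2 * d := by ring
  -- the big set and the map
  set T : Finset (Ω × G) := Cset ×ˢ Hset with hT
  have hTcard : T.card = (Fintype.card Ω - 2) * d := by
    rw [hT, Finset.card_product, hCcard, hHcard]
  set F : Ω × G → G := fun p => (γ p.1 * p.2)⁻¹ * t * (γ p.1 * p.2) with hF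
  have hTmem : ∀ p : Ω × G, p ∈ T ↔ (p.1 ≠ a ∧ p.1 ≠ b) ∧ p.2 ∈ H := by
    intro p; simp [hT, hCset, hHset, Finset.mem_product]
  have hga : ∀ p : Ω × G, p ∈ T → (γ p.1 * p.2) • a = p.1 ∧ (γ p.1 * p.2) • b = t • p.1 := by
    intro p hp
    obtain ⟨⟨h1, h2'⟩, h3'⟩ := (hTmem p).1 hp
    have h4 := (hmemH p.2).1 h3'
    rw [mul_smul, mul_smul, h4.1, h4.2]
    exact hγ p.1 h1 h2'
  have hmaps : ∀ p ∈ T, F p ∈ Sset := by
    intro p hp
    obtain ⟨e1, e2⟩ := hga p hp
    have e3 : t • (t • p.1) = p.1 := by rw [← mul_smul, htt, one_smul]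
    simp only [hSset, Finset.mem_filter, Finset.mem_univ, true_and, hF]
    constructor
    · rw [mul_smul, mul_smul, e1, inv_smul_eq_iff, e2]
    · rw [mul_smul, mul_smul, e2, e3, inv_smul_eq_iff, e1]
  have hfib : ∀ s ∈ Sset, (T.filter (fun p => F p = s)).card ≤ 2 * d := by
    intro s _
    by_cases hne : (T.filter (fun p => F p = s)).Nonempty
    · obtain ⟨p0, hp0⟩ := hne
      rw [Finset.mem_filter] at hp0
      refine le_trans ?_ hKcard
      apply Finset.card_le_card_of_injOn (fun p => (γ p.1 * p.2) * (γ p0.1 * p0.2)⁻¹)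
      · intro p hp
        have hp' : p ∈ T ∧ F p = s := by simpa using hp
        have hcomm : ((γ p.1 * p.2) * (γ p0.1 * p0.2)⁻¹) * t
            = t * ((γ p.1 * p.2) * (γ p0.1 * p0.2)⁻¹) := by
          have e : F p = F p0 := hp'.2.trans hp0.2.symm
          simp only [hF] at e
          -- g⁻¹ t g = g0⁻¹ t g0
          have e' : t * ((γ p.1 * p.2) * (γ p0.1 * p0.2)⁻¹)
              = (γ p.1 * p.2) * ((γ p0.1 * p0.2)⁻¹ * t * (γ p0.1 * p0.2)) * (γ p0.1 * p0.2)⁻¹ := by
            rw [← e]; group
          rw [e']; group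
        have := fix_or_swap h3 hab ht1 hta htb hcomm
        simp only [hKset, Finset.coe_union, Set.mem_union, Finset.mem_coe, hHset, hSset,
          Finset.mem_filter, Finset.mem_univ, true_and]
        rcases this with h | h
        · left; exact (hmemH _).2 h
        · right; exact h
      · intro p hp p' hp' h
        have hp1 : p ∈ T := by
          have : p ∈ T ∧ F p = s := by simpa using hp
          exact this.1
        have hp1' : p' ∈ T := by
          have : p' ∈ T ∧ F p' = s := by simpa using hp'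
          exact this.1
        have hgg : γ p.1 * p.2 = γ p'.1 * p'.2 := mul_right_cancel h
        have h1 : p.1 = p'.1 := by
          rw [← (hga p hp1).1, ← (hga p' hp1').1, hgg]
        have h2' : p.2 = p'.2 := by
          rw [h1] at hgg
          exact mul_left_cancel hgg
        exact Prod.ext h1 h2'
    · rw [Finset.not_nonempty_iff_eq_empty] at hne
      rw [hne]; simp
  have hmain := Finset.card_le_mul_card_image_of_maps_to hmaps (2 * d) hfib
  rw [hTcard] at hmain
  have h5 : (Fintype.card Ω - 2) * d ≤ (2 * d) * d :=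
    le_trans hmain (Nat.mul_le_mul_left _ hScard)
  exact Nat.le_of_mul_le_mul_right h5 hdpos

end

/-- If the two-point stabilisers of a finite Zassenhaus group of degree `n + 1` have even order `d`, then `2d ≥ n - 1`. -/
theorem result {G Ω : Type*} [Group G] [Finite G] [MulAction G Ω] [Fintype Ω] (hZ : Cfsg.IsZassenhausGroup G Ω) {a b : Ω} (hab : a ≠ b) (heven : Even (Nat.card ↥(MulAction.stabilizer G a ⊓ MulAction.stabilizer G b))) : Fintype.card Ω - 2 ≤ 2 * Nat.card ↥(MulAction.stabilizer G a ⊓ MulAction.stabilizer G b) := by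
  obtain ⟨_, h2, h3, _, _⟩ := hZ
  exact main h2 h3 hab heven

end Cfsg.Agent.S0741
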