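import Cfsg.Statements.S0738
import Cfsg.Agent.Lib.Helper59_ConjOrbits

set_option autoImplicit false
open Cfsg

namespace Cfsg.Agent.S0738

open MulAction Cfsg.Agent.Lib.Helper59_ConjOrbits

section Core

variable {G : Type*} [Group G] [Finite G]

/-- An invariant subset of `F \ {1}` has size divisible by `|H|`. -/
theorem dvd_ncard (F H : Subgroup G)
    (hfree : ∀ h ∈ H, ∀ u ∈ F, u ≠ 1 → h * u * h⁻¹ = u → h = 1)
    (X : Set G) (hXF : ∀ x ∈ X, x ∈ F ∧ x ≠ 1) (hX : ∀ h ∈ H, ∀ x ∈ X, h * x * h⁻¹ ∈ X) :
    Nat.card H ∣ X.ncard := by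
  rw [← Nat.card_coe_set_eq]
  exact card_dvd_card_of_conj_free H X hX
    (fun h hh x hx hc => hfree h hh x (hXF x hx).1 (hXF x hx).2 hc)

/-- No proper non-trivial `H`-invariant subgroups of `F`. -/
theorem eq_of_invariant (F H : Subgroup G)
    (hfree : ∀ h ∈ H, ∀ u ∈ F, u ≠ 1 → h * u * h⁻¹ = u → h = 1)
    (hnorm : ∀ h ∈ H, ∀ u ∈ F, h * u * h⁻¹ ∈ F)
    (hcard : Nat.card F - 1 ≤ 2 * Nat.card H)
    (K : Subgroup G) (hKF : K ≤ F) (hK : K ≠ ⊥) (hKinv : ∀ h ∈ H, ∀ x ∈ K, h * x * h⁻¹ ∈ K) :
    K = F := by
  by_contra hne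
  set d := Nat.card H with hd
  have hdpos : 0 < d := Nat.card_pos
  -- X1 = K \ {1}
  have h1 : d ∣ ((K : Set G) \ {1}).ncard := by
    apply dvd_ncard F H hfree
    · intro x hx
      exact ⟨hKF hx.1, fun h => hx.2 (by simpa using h)⟩
    · intro h hh x hx
      refine ⟨hKinv h hh x hx.1, fun hc => hx.2 ?_⟩
      have : h * x * h⁻¹ = 1 := by simpa using hc
      have : x = 1 := by
        have h2 : x = h⁻¹ * (h * x * h⁻¹) * h := by group
        rw [h2, this]; group
      simpa using this
  have h2 : d ∣ ((F : Set G) \ (K : Set G)).ncard := by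
    apply dvd_ncard F H hfree
    · intro x hx
      exact ⟨hx.1, fun h => hx.2 (by rw [h]; exact K.one_mem)⟩
    · intro h hh x hx
      refine ⟨hnorm h hh x hx.1, fun hc => hx.2 ?_⟩
      have h3 := hKinv h⁻¹ (H.inv_mem hh) _ hc
      have h4 : h⁻¹ * (h * x * h⁻¹) * h⁻¹⁻¹ = x := by group
      rwa [h4] at h3
  have hc1 : ((K : Set G) \ {1}).ncard = Nat.card K - 1 := by
    rw [Set.ncard_sdiff (by simpa using K.one_mem) (Set.toFinite _), Set.ncard_singleton,
      ← Nat.card_coe_set_eq]; rfl
  have hc2 : ((F : Set G) \ (K : Set G)).ncard = Nat.card F - Nat.card K := by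
    rw [Set.ncard_sdiff (by exact_mod_cast hKF) (Set.toFinite _), ← Nat.card_coe_set_eq,
      ← Nat.card_coe_set_eq]; rfl
  rw [hc1] at h1
  rw [hc2] at h2
  have hKcard : 1 < Nat.card K := by
    rw [Subgroup.one_lt_card_iff_ne_bot]; exact hK
  have hKF' : Nat.card K < Nat.card F := by
    have hle := Subgroup.card_le_of_le hKF
    rcases lt_or_eq_of_le hle with h | h
    · exact h
    · exfalso
      apply hne
      have : (K : Set G) = F := by
        apply Set.eq_of_subset_of_ncard_le (by exact_mod_cast hKF) _ (Set.toFinite _)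
        rw [← Nat.card_coe_set_eq, ← Nat.card_coe_set_eq]
        exact le_of_eq h.symm
      exact SetLike.coe_injective this
  have h1' : d ≤ Nat.card K - 1 := Nat.le_of_dvd (by omega) h1
  have h2' : d ≤ Nat.card F - Nat.card K := Nat.le_of_dvd (by omega) h2
  have hKd : Nat.card K = d + 1 := by omega
  have hFd : Nat.card F = 2 * d + 1 := by omega
  have hdvd := Subgroup.card_dvd_of_le hKF
  rw [hKd, hFd] at hdvd
  have : d + 1 ∣ d := by
    have := (Nat.dvd_sub hdvd (dvd_refl (d + 1)))
    have e : 2 * d + 1 - (d + 1) = d := by omega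
    rwa [e] at this
  have := Nat.le_of_dvd hdpos this
  omega

/-- The group-theoretic core. -/
theorem core (F H : Subgroup G)
    (hfree : ∀ h ∈ H, ∀ u ∈ F, u ≠ 1 → h * u * h⁻¹ = u → h = 1)
    (hnorm : ∀ h ∈ H, ∀ u ∈ F, h * u * h⁻¹ ∈ F)
    (hcard : Nat.card F - 1 ≤ 2 * Nat.card H) :
    (∀ u ∈ F, ∀ v ∈ F, u * v = v * u) ∧
      ∃ p f : ℕ, p.Prime ∧ (∀ u ∈ F, u ^ p = 1) ∧ Nat.card F = p ^ f := by
  by_cases hbot : F = ⊥
  · subst hbot
    refine ⟨?_, 2, 0, Nat.prime_two, ?_, by simp⟩
    · intro u hu v hv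
      rw [Subgroup.mem_bot] at hu hv
      rw [hu, hv]
    · intro u hu
      rw [Subgroup.mem_bot] at hu
      rw [hu, one_pow]
  set n := Nat.card F with hn
  set d := Nat.card H with hd
  have hdpos : 0 < d := Nat.card_pos
  have hn2 : 1 < n := by
    rw [hn, Subgroup.one_lt_card_iff_ne_bot]; exact hbot
  by_cases hpg : ∃ p : ℕ, p.Prime ∧ IsPGroup p F
  · obtain ⟨p, hp, hpF⟩ := hpg
    have : Fact p.Prime := ⟨hp⟩
    have hFnt : Nontrivial F := by
      rw [← Finite.one_lt_card_iff_nontrivial]; exact hn2
    -- center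
    have hcomm : ∀ u ∈ F, ∀ v ∈ F, u * v = v * u := by
      have hK : F ⊓ Subgroup.centralizer (F : Set G) = F := by
        apply eq_of_invariant F H hfree hnorm hcard _ inf_le_left
        · have := hpF.center_nontrivial
          obtain ⟨z, hz⟩ := exists_ne (1 : Subgroup.center F)
          intro hb
          apply hz
          have hzmem : ((z : F) : G) ∈ F ⊓ Subgroup.centralizer (F : Set G) := by
            refine ⟨(z : F).2, ?_⟩
            change ((z : F) : G) ∈ Subgroup.centralizer (F : Set G)
            rw [Subgroup.mem_centralizer_iff]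
            intro y hy
            have := (Subgroup.mem_center_iff.1 z.2) ⟨y, hy⟩
            exact congrArg Subtype.val this
          rw [hb, Subgroup.mem_bot] at hzmem
          apply Subtype.ext
          apply Subtype.ext
          simpa using hzmem
        · intro h hh x hx
          refine ⟨hnorm h hh x hx.1, ?_⟩
          change h * x * h⁻¹ ∈ Subgroup.centralizer (F : Set G)
          rw [Subgroup.mem_centralizer_iff]
          intro y hy
          have hy' : h⁻¹ * y * h⁻¹⁻¹ ∈ F := hnorm h⁻¹ (H.inv_mem hh) y hy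
          have := (Subgroup.mem_centralizer_iff.1 hx.2) _ hy'
          -- (h⁻¹ y h) x = x (h⁻¹ y h)
          have e1 : y * (h * x * h⁻¹) = h * ((h⁻¹ * y * h⁻¹⁻¹) * x) * h⁻¹ := by group
          have e2 : h * x * h⁻¹ * y = h * (x * (h⁻¹ * y * h⁻¹⁻¹)) * h⁻¹ := by group
          rw [e1, e2, this]
      intro u hu v hv
      have hu' : u ∈ F ⊓ Subgroup.centralizer (F : Set G) := by rw [hK]; exact hu
      exact ((Subgroup.mem_centralizer_iff.1 hu'.2) v hv).symm
    refine ⟨hcomm, p, ?_⟩
    obtain ⟨f, hf⟩ := (IsPGroup.iff_card.1 hpF)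
    refine ⟨f, hp, ?_, hf⟩
    -- elements of order dividing p
    let K : Subgroup G :=
      { carrier := {x | x ∈ F ∧ x ^ p = 1}
        one_mem' := ⟨F.one_mem, one_pow p⟩
        mul_mem' := by
          intro x y hx hy
          refine ⟨F.mul_mem hx.1 hy.1, ?_⟩
          have hc : Commute x y := hcomm x hx.1 y hy.1
          rw [hc.mul_pow, hx.2, hy.2, one_mul]
        inv_mem' := by
          intro x hx
          refine ⟨F.inv_mem hx.1, ?_⟩
          rw [inv_pow, hx.2, inv_one] }
    have hKmem : ∀ x, x ∈ K ↔ x ∈ F ∧ x ^ p = 1 := fun x => Iff.rfl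
    have hKF : K = F := by
      apply eq_of_invariant F H hfree hnorm hcard K (fun x hx => hx.1)
      · have hpd : p ∣ Nat.card F := by
          rcases hpF.card_eq_or_dvd with h | h
          · omega
          · exact h
        obtain ⟨x, hx⟩ := exists_prime_orderOf_dvd_card' (G := F) p hpd
        intro hb
        have hxK : (x : G) ∈ K := by
          refine ⟨x.2, ?_⟩
          have := pow_orderOf_eq_one x
          rw [hx] at this
          exact_mod_cast congrArg Subtype.val this
        rw [hb, Subgroup.mem_bot] at hxK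
        have : x = 1 := Subtype.ext hxK
        rw [this, orderOf_one] at hx
        exact hp.one_lt.ne hx
      · intro h hh x hx
        refine ⟨hnorm h hh x hx.1, ?_⟩
        rw [conj_pow, hx.2]; group
    intro u hu
    have : u ∈ K := by rw [hKF]; exact hu
    exact this.2
  · -- not a p-group: contradiction
    exfalso
    push Not at hpg
    -- two distinct primes dividing n
    obtain ⟨p, hp, hpn⟩ := Nat.exists_prime_and_dvd (show n ≠ 1 by omega)
    have hex : ∃ q : ℕ, q.Prime ∧ q ∣ n ∧ q ≠ p := by
      by_contra hcon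
      push Not at hcon
      apply hpg p hp
      have : Fact p.Prime := ⟨hp⟩
      rw [IsPGroup.iff_card]
      exact ⟨_, Nat.eq_prime_pow_of_unique_prime_dvd (by omega) (fun {r} hr hrn => hcon r hr hrn)⟩
    obtain ⟨q, hq, hqn, hqp⟩ := hex
    -- the sets of elements of order p, q
    set X : ℕ → Set G := fun r => {x | x ∈ F ∧ orderOf x = r} with hX
    have hXsub : ∀ r : ℕ, r.Prime → ∀ x ∈ X r, x ∈ F ∧ x ≠ 1 := by
      intro r hr x hx
      refine ⟨hx.1, fun h => ?_⟩
      have := hx.2
      rw [h, orderOf_one] at this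
      exact hr.one_lt.ne this
    have hXinv : ∀ (A : Subgroup G), (∀ h ∈ A, ∀ u ∈ F, h * u * h⁻¹ ∈ F) →
        ∀ r : ℕ, ∀ h ∈ A, ∀ x ∈ X r, h * x * h⁻¹ ∈ X r := by
      intro A hA r h hh x hx
      refine ⟨hA h hh x hx.1, ?_⟩
      have : h * x * h⁻¹ = MulAut.conj h x := by simp
      rw [this, MulEquiv.orderOf_eq]; exact hx.2
    have hXne : ∀ r : ℕ, r.Prime → r ∣ n → (X r).Nonempty := by
      intro r hr hrn
      have : Fact r.Prime := ⟨hr⟩
      obtain ⟨x, hx⟩ := exists_prime_orderOf_dvd_card' (G := F) r hrn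
      exact ⟨x, x.2, by rw [Subgroup.orderOf_coe]; exact hx⟩
    have hXd : ∀ r : ℕ, r.Prime → r ∣ n → d ≤ (X r).ncard := by
      intro r hr hrn
      have h1 := dvd_ncard F H hfree (X r) (hXsub r hr) (hXinv H hnorm r)
      apply Nat.le_of_dvd _ h1
      rw [Set.ncard_pos (Set.toFinite _)]
      exact hXne r hr hrn
    have hdisj : Disjoint (X p) (X q) := by
      rw [Set.disjoint_left]
      intro x hx hx'
      exact hqp (hx'.2.symm.trans hx.2)
    have hunion_sub : X p ∪ X q ⊆ (F : Set G) \ {1} := by
      intro x hx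
      rcases hx with hx | hx
      · exact ⟨(hXsub p hp x hx).1, by simpa using (hXsub p hp x hx).2⟩
      · exact ⟨(hXsub q hq x hx).1, by simpa using (hXsub q hq x hx).2⟩
    have hF1 : ((F : Set G) \ {1}).ncard = n - 1 := by
      rw [Set.ncard_sdiff (by simpa using F.one_mem) (Set.toFinite _), Set.ncard_singleton,
        ← Nat.card_coe_set_eq]; rfl
    have hsum : (X p).ncard + (X q).ncard ≤ n - 1 := by
      rw [← Set.ncard_union_eq hdisj (Set.toFinite _) (Set.toFinite _), ← hF1]
      exact Set.ncard_le_ncard hunion_sub (Set.toFinite _)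
    have hp1 := hXd p hp hpn
    have hq1 := hXd q hq hqn
    have hXp : (X p).ncard = d := by omega
    have hXq : (X q).ncard = d := by omega
    have hnd : n = 2 * d + 1 := by omega
    have hunion : X p ∪ X q = (F : Set G) \ {1} := by
      apply Set.eq_of_subset_of_ncard_le hunion_sub _ (Set.toFinite _)
      rw [hF1, Set.ncard_union_eq hdisj (Set.toFinite _) (Set.toFinite _)]
      omega
    have horders : ∀ x ∈ F, x ≠ 1 → orderOf x = p ∨ orderOf x = q := by
      intro x hx hx1
      have : x ∈ X p ∪ X q := by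
        rw [hunion]; exact ⟨hx, by simpa using hx1⟩
      rcases this with h | h
      · exact Or.inl h.2
      · exact Or.inr h.2
    have hFself : ∀ h ∈ F, ∀ u ∈ F, h * u * h⁻¹ ∈ F :=
      fun h hh u hu => F.mul_mem (F.mul_mem hh hu) (F.inv_mem hh)
    -- for distinct primes s ≠ r, the full power of r divides |X s| = d
    have hkey : ∀ r s : ℕ, r.Prime → s.Prime → r ≠ s → (s = p ∨ s = q) →
        r ^ n.factorization r ∣ (X s).ncard := by
      intro r s hr hs hrs hspq
      rw [← Nat.card_coe_set_eq]
      apply pow_dvd_card_of_conj_no_order F (X s) (hXinv F hFself s) r _ hr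
        (Nat.ordProj_dvd n r)
      intro a ha x hx hc hoa
      have hcomm : Commute a x := by
        have : a * x = x * a := by
          have e : a * x = (a * x * a⁻¹) * a := by group
          rw [e, hc]
        exact this
      have hcop : (orderOf a).Coprime (orderOf x) := by
        rw [hoa, hx.2]
        exact (Nat.coprime_primes hr hs).2 hrs
      have ho := hcomm.orderOf_mul_eq_mul_orderOf_of_coprime hcop
      rw [hoa, hx.2] at ho
      have hax1 : a * x ≠ 1 := by
        intro h1
        rw [h1, orderOf_one] at ho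
        have := Nat.mul_pos hr.pos hs.pos
        have h2 : 1 < r * s := by
          calc 1 < r := hr.one_lt
            _ ≤ r * s := Nat.le_mul_of_pos_right r hs.pos
        omega
      have hprime : (r * s).Prime := by
        rcases horders (a * x) (F.mul_mem ha hx.1) hax1 with h | h
        · rw [← ho, h]; exact hp
        · rw [← ho, h]; exact hq
      exact Nat.not_prime_mul hr.one_lt.ne' hs.one_lt.ne' hprime
    -- hence n ∣ d
    have hnd' : n ∣ d := by
      rw [← Nat.factorization_le_iff_dvd (by omega) (by omega)]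
      intro r
      by_cases hr : r.Prime
      · by_cases hrp : r = p
        · have := hkey r q hr hq (by rw [hrp]; exact hqp.symm) (Or.inr rfl)
          rw [hXq] at this
          exact (hr.pow_dvd_iff_le_factorization (by omega)).1 this
        · have := hkey r p hr hp hrp (Or.inl rfl)
          rw [hXp] at this
          exact (hr.pow_dvd_iff_le_factorization (by omega)).1 this
      · rw [Nat.factorization_eq_zero_of_not_prime n hr]; exact Nat.zero_le _
    have := Nat.le_of_dvd hdpos hnd'
    omega

end Core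

/-- Let a finite Zassenhaus group of degree `n + 1` have two-point stabilisers of order `d` with `2d ≥ n - 1`. Then a normal subgroup of a point stabiliser acting regularly on the remaining points is elementary abelian, and the degree is a prime power plus one. -/
theorem result {G Ω : Type*} [Group G] [Finite G] [MulAction G Ω] [Fintype Ω] (hZ : Cfsg.IsZassenhausGroup G Ω) {a b : Ω} (hab : a ≠ b) (hd : Fintype.card Ω - 2 ≤ 2 * Nat.card ↥(MulAction.stabilizer G a ⊓ MulAction.stabilizer G b)) (F : Subgroup G) (hFle : F ≤ MulAction.stabilizer G a) (hFn : (F.subgroupOf (MulAction.stabilizer G a)).Normal) (hreg : ∀ y z : Ω, y ≠ a → z ≠ a → ∃! u : F, (u : G) • y = z) : IsMulCommutative F ∧ ∃ p f : ℕ, p.Prime ∧ (∀ u ∈ F, u ^ p = 1) ∧ Fintype.card Ω = p ^ f + 1 := by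
  classical
  obtain ⟨_, _, h3, _, _⟩ := hZ
  set H : Subgroup G := MulAction.stabilizer G a ⊓ MulAction.stabilizer G b with hH
  have hmemH : ∀ x : G, x ∈ H ↔ x • a = a ∧ x • b = b := by
    intro x; simp [hH, Subgroup.mem_inf, mem_stabilizer_iff]
  have hFa : ∀ u ∈ F, u • a = a := fun u hu => mem_stabilizer_iff.1 (hFle hu)
  have hba : b ≠ a := Ne.symm hab
  -- normalization
  have hnorm : ∀ h ∈ H, ∀ u ∈ F, h * u * h⁻¹ ∈ F := by
    intro h hh u hu
    have hha : h ∈ MulAction.stabilizer G a := mem_stabilizer_iff.2 ((hmemH h).1 hh).1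
    have := hFn.conj_mem ⟨u, hFle hu⟩ (Subgroup.mem_subgroupOf.2 hu) ⟨h, hha⟩
    exact Subgroup.mem_subgroupOf.1 this
  -- freeness
  have hfree : ∀ h ∈ H, ∀ u ∈ F, u ≠ 1 → h * u * h⁻¹ = u → h = 1 := by
    intro h hh u hu hu1 hc
    obtain ⟨hha, hhb⟩ := (hmemH h).1 hh
    have hub : u • b ≠ b := by
      intro hub
      obtain ⟨w, _, hw⟩ := hreg b b hba hba
      have e1 := hw ⟨u, hu⟩ hub
      have e2 := hw 1 (by simp)
      apply hu1
      have := e1.trans e2.symm
      exact congrArg Subtype.val this
    have hua : u • b ≠ a := by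
      intro h'
      have : u • b = u • a := by rw [h', hFa u hu]
      exact hba (MulAction.injective u this)
    have hfix : h • (u • b) = u • b := by
      have e : h * u = u * h := by
        have e' : h * u = (h * u * h⁻¹) * h := by group
        rw [e', hc]
      rw [← mul_smul, e, mul_smul, hhb]
    exact h3 h a b (u • b) hab (Ne.symm hub) (Ne.symm hua) hha hhb hfix
  -- the order of F
  have hFcard : Nat.card F = Fintype.card Ω - 1 := by
    have hbij : Function.Bijective (fun u : F => (⟨(u : G) • b, by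
        intro h'
        have : (u : G) • b = (u : G) • a := by rw [h', hFa u u.2]
        exact hba (MulAction.injective (u : G) this)⟩ : {z : Ω // z ≠ a})) := by
      constructor
      · intro u v huv
        have huv' : (u : G) • b = (v : G) • b := congrArg Subtype.val huv
        obtain ⟨w, _, hw⟩ := hreg b ((v : G) • b) hba (by
          intro h'
          have : (v : G) • b = (v : G) • a := by rw [h', hFa v v.2]
          exact hba (MulAction.injective (v : G) this))
        exact (hw u huv').trans (hw v rfl).symm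
      · intro z
        obtain ⟨w, hw, _⟩ := hreg b z.1 hba z.2
        exact ⟨w, Subtype.ext hw⟩
    rw [Nat.card_congr (Equiv.ofBijective _ hbij), Nat.card_eq_fintype_card,
      Fintype.card_subtype_compl, Fintype.card_subtype_eq]
  have hcard : Nat.card F - 1 ≤ 2 * Nat.card H := by
    rw [hFcard]
    have : Fintype.card Ω - 1 - 1 = Fintype.card Ω - 2 := by omega
    rw [this]; exact hd
  obtain ⟨hcomm, p, f, hp, hexp, hpf⟩ := core F H hfree hnorm hcard
  refine ⟨⟨⟨fun x y => Subtype.ext (hcomm x x.2 y y.2)⟩⟩, p, f, hp, hexp, ?_⟩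
  have hpos : 0 < Fintype.card Ω := Fintype.card_pos_iff.2 ⟨a⟩
  rw [← hpf, hFcard]
  omega

end Cfsg.Agent.S0738
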