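import Cfsg.Statements.S0742
import Cfsg.Agent.S0738
import Cfsg.Agent.S0741
import Cfsg.Agent.Lib.Helper59_SharpTrans
import Cfsg.Agent.Lib.Helper59_ZassPSL
import Cfsg.Agent.Lib.Helper59_ZassKernel
import Cfsg.Agent.Lib.Helper56_MobiusIso

set_option autoImplicit false
open Cfsg

namespace Cfsg.Agent.S0742

open MulAction Cfsg.Agent.Lib.Helper59_SharpTrans Cfsg.Agent.Lib.Helper59_ZassPSL

/-- A finite Zassenhaus group of degree `n + 1` with two-point stabilisers of even order `d` satisfying `2d ≤ n - 1` has `n = p^f` for an odd prime `p` and is isomorphic to `PSL(2, p^f)`. -/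
theorem result {G Ω : Type*} [Group G] [Finite G] [MulAction G Ω] [Fintype Ω] (hZ : Cfsg.IsZassenhausGroup G Ω) {a b : Ω} (hab : a ≠ b) (heven : Even (Nat.card ↥(MulAction.stabilizer G a ⊓ MulAction.stabilizer G b))) (hd : 2 * Nat.card ↥(MulAction.stabilizer G a ⊓ MulAction.stabilizer G b) ≤ Fintype.card Ω - 2) : ∃ (p f : ℕ) (K : Type) (_ : Field K) (_ : Fintype K), p.Prime ∧ p ≠ 2 ∧ Fintype.card K = p ^ f ∧ Fintype.card Ω = p ^ f + 1 ∧ Nonempty (G ≃* Matrix.ProjectiveSpecialLinearGroup (Fin 2) K) := by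
  classical
  have hZ' := hZ
  obtain ⟨hfaith, h2, h3, _, _⟩ := hZ
  have hge := Cfsg.Agent.S0741.result hZ' hab heven
  obtain ⟨N, hNle, hNn, hreg⟩ := Cfsg.Agent.Lib.Helper59_ZassKernel.exists_regular_normal hZ' a
  obtain ⟨hNcomm, p, f, hp, _, hpf⟩ := Cfsg.Agent.S0738.result hZ' hab hge N hNle hNn hreg
  set H : Subgroup G := stabilizer G a ⊓ stabilizer G b with hH
  set d := Nat.card H with hdd
  have hdpos : 0 < d := Nat.card_pos
  have hmemH : ∀ x : G, x ∈ H ↔ x • a = a ∧ x • b = b := by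
    intro x; simp [hH, Subgroup.mem_inf, mem_stabilizer_iff]
  -- the order of `N`
  have hΩN : Nat.card Ω = Nat.card N + 1 := card_of_regular hab N hNle hreg
  rw [Nat.card_eq_fintype_card] at hΩN
  have hNcard : Nat.card N = 2 * d + 1 := by omega
  -- normalisation
  have hnorm : ∀ h ∈ H, ∀ u ∈ N, h * u * h⁻¹ ∈ N := by
    intro h hh u hu
    have hha : h ∈ stabilizer G a := mem_stabilizer_iff.2 ((hmemH h).1 hh).1
    have := hNn.conj_mem ⟨u, hNle hu⟩ (Subgroup.mem_subgroupOf.2 hu) ⟨h, hha⟩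
    exact Subgroup.mem_subgroupOf.1 this
  -- the involution
  obtain ⟨t, hta, htb⟩ := two_trans (Γ := G) a b b a hab hab.symm
  have hsw := swap_sq_eq_one h2 h3 hab heven hd
  have htt : t * t = 1 := hsw t hta htb
  have htinv : ∀ h ∈ H, t * h * t = h⁻¹ := by
    intro h hh
    obtain ⟨hha, hhb⟩ := (hmemH h).1 hh
    have := hsw (t * h) (by rw [mul_smul, hha, hta]) (by rw [mul_smul, hhb, htb])
    apply eq_inv_of_mul_eq_one_left
    rw [← this]
    group
  obtain ⟨K, hKf, hKfin, hKcard, ⟨e⟩⟩ := psl_of_data h2 h3 hab N hNle hreg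
    (fun u hu v hv => by
      have := hNcomm.is_comm.comm ⟨u, hu⟩ ⟨v, hv⟩
      exact congrArg Subtype.val this)
    hnorm hNcard t hta htb htt htinv
  -- transport to a field in `Type`
  have hpf' : p ^ f = 2 * d + 1 := by omega
  have hp2 : p ≠ 2 := by
    rintro rfl
    rcases Nat.eq_zero_or_pos f with hf | hf
    · rw [hf, pow_zero] at hpf'
      omega
    · have : 2 ∣ 2 ^ f := dvd_pow_self 2 (by omega)
      omega
  have hf0 : f ≠ 0 := by
    rintro rfl
    rw [pow_zero] at hpf'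
    omega
  have : Fact p.Prime := ⟨hp⟩
  let K' : Type := GaloisField p f
  have hfinK' : Fintype K' := Fintype.ofFinite K'
  have hK'card : Fintype.card K' = p ^ f := by
    rw [← Nat.card_eq_fintype_card]
    exact GaloisField.card p f hf0
  have hcardeq : Fintype.card K = Fintype.card K' := by
    rw [hK'card, hKcard, hNcard, hpf']
  have r : K ≃+* K' := FiniteField.ringEquivOfCardEq hcardeq
  obtain ⟨e'⟩ := Cfsg.Agent.Lib.Helper56_MobiusIso.psl_congr r
  exact ⟨p, f, K', inferInstance, hfinK', hp, hp2, hK'card, hpf, ⟨e.trans e'⟩⟩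

end Cfsg.Agent.S0742
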