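import Cfsg.Statements.S0727
import Cfsg.Agent.S4702

set_option autoImplicit false
open Cfsg

namespace Cfsg.Agent.S0727

open Cfsg.Agent.Lib.Helper59_SharpTrans

/-- In a finite field of characteristic two, `SL(2,F)` is isomorphic to `PGL(2,F)`. -/
theorem nonempty_sl_mulEquiv_pgl {F : Type*} [Field F] [Fintype F] [CharP F 2] :
    Nonempty (Matrix.SpecialLinearGroup (Fin 2) F ≃* Matrix.ProjGenLinGroup (Fin 2) F) := by
  have hsurj : Function.Surjective
      (Matrix.ProjectiveSpecialLinearGroup.toPGL (n := Fin 2) (R := F)) := by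
    apply Matrix.ProjectiveSpecialLinearGroup.toPGL_surj_of_roots
    intro r
    have hF : ringChar F = 2 := ringChar.eq F 2
    obtain ⟨k, hk⟩ := FiniteField.isSquare_of_char_two hF (r : F)
    have hk0 : k ≠ 0 := by
      rintro rfl
      rw [mul_zero] at hk
      exact r.ne_zero hk
    refine ⟨Units.mk0 k hk0, ?_⟩
    apply Units.ext
    simp only [Fintype.card_fin, Units.val_pow_eq_pow_val, Units.val_mk0]
    rw [hk, pow_two]
  have e : Matrix.ProjectiveSpecialLinearGroup (Fin 2) F ≃* Matrix.ProjGenLinGroup (Fin 2) F :=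
    MulEquiv.ofBijective Matrix.ProjectiveSpecialLinearGroup.toPGL
      ⟨Matrix.ProjectiveSpecialLinearGroup.toPGL_injective, hsurj⟩
  exact ⟨Cfsg.Agent.Lib.Helper61_SL2.pslEquivSl.symm.trans e⟩

/-- A sharply triply transitive permutation group of degree `2^f + 1` is isomorphic to the projective general linear group of degree 2 over the field with `2^f` elements. -/
theorem result {α : Type*} [Fintype α] [DecidableEq α] {f : ℕ} (hf : 1 ≤ f) (hα : Fintype.card α = 2 ^ f + 1) (G : Subgroup (Equiv.Perm α)) (h3 : MulAction.IsMultiplyPretransitive G α 3) (hsharp : ∀ x : Fin 3 ↪ α, MulAction.stabilizer G x = ⊥) : ∃ (F : Type) (_ : Field F) (_ : Fintype F), Fintype.card F = 2 ^ f ∧ Nonempty (G ≃* Matrix.ProjGenLinGroup (Fin 2) F) := by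
  classical
  have h2f : 2 ≤ 2 ^ f := by
    calc 2 = 2 ^ 1 := by norm_num
      _ ≤ 2 ^ f := Nat.pow_le_pow_right (by norm_num) hf
  have hm : 3 ≤ Fintype.card α := by omega
  have hodd : Odd (Fintype.card α) := by
    rw [hα]
    have : Even (2 ^ f) := (Nat.even_pow' (by omega)).mpr even_two
    exact this.add_one
  have hfix : ∀ g : G, 3 ≤ Nat.card (MulAction.fixedBy α g) → g = 1 := by
    intro g hg
    rw [Nat.card_coe_set_eq] at hg
    have hlt : 2 < (MulAction.fixedBy α g).ncard := by omega
    obtain ⟨a, b, c, ha, hb, hc, hab, hac, hbc⟩ := (Set.two_lt_ncard_iff).mp hlt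
    have hmem : g ∈ MulAction.stabilizer G
        (⟨![a, b, c], injective_vec3 hab hac hbc⟩ : Fin 3 ↪ α) := by
      rw [MulAction.mem_stabilizer_iff]
      ext i
      change g • (![a, b, c] i) = ![a, b, c] i
      fin_cases i
      · exact ha
      · exact hb
      · exact hc
    rw [hsharp] at hmem
    exact Subgroup.mem_bot.mp hmem
  obtain ⟨a, -, hcard, F, hF, hFin, hFcard, ⟨e⟩⟩ := Cfsg.Agent.S4702.result hm hodd G h3 hfix
  have haf : a = f := by
    have : 2 ^ a = 2 ^ f := by omega
    exact Nat.pow_right_injective (le_refl 2) this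
  subst haf
  have hchar : CharP F 2 := by
    have hp : Fact (Nat.Prime 2) := ⟨Nat.prime_two⟩
    obtain ⟨p, hp'⟩ := CharP.exists F
    have hpp : p.Prime := (CharP.char_is_prime_or_zero F p).resolve_right
      (fun h0 => by subst h0; exact absurd (CharP.charP_to_charZero F) (fun h => by
        have := Fintype.card_pos (α := F); exact (not_finite F).elim))
    have : Fact p.Prime := ⟨hpp⟩
    obtain ⟨n, hn⟩ := FiniteField.card F p
    have hdvd : p ∣ 2 ^ a := by rw [← hFcard, hn.2]; exact dvd_pow_self p n.ne_zero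
    have hp2 : p = 2 := (Nat.prime_dvd_prime_iff_eq hpp Nat.prime_two).mp
      (hpp.dvd_of_dvd_pow hdvd)
    subst hp2
    exact hp'
  obtain ⟨e'⟩ := nonempty_sl_mulEquiv_pgl (F := F)
  exact ⟨F, hF, hFin, hFcard, ⟨e.trans e'⟩⟩

end Cfsg.Agent.S0727
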