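import Cfsg.Statements.S0682
import Cfsg.Agent.Lib.Helper12_NearField
import Cfsg.Agent.Lib.Helper12_Sharp2

set_option autoImplicit false
open Cfsg

namespace Cfsg.Agent.S0682

open Cfsg.Agent.Lib.Helper12_NearField Cfsg.Agent.Lib.Helper12_Sharp2 MulAction

variable {F : Type*} [Cfsg.NearField F]

/-- translation by `b` as an element of the affine group -/
noncomputable def trans (b : F) : affGroup F :=
  ⟨affPerm 1 b (fun h => nf_zero_ne_one h.symm), affPerm_mem _ _ _⟩

theorem trans_smul (b x : F) : trans b • x = x + b := by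
  change affPerm 1 b _ x = x + b
  simp

theorem trans_pow_smul (b : F) (k : ℕ) (x : F) : (trans b ^ k) • x = x + k • b := by
  induction k generalizing x with
  | zero => simp
  | succ k ih =>
    rw [pow_succ, mul_smul, trans_smul, ih, succ_nsmul, add_assoc]
    congr 1
    -- b + k • b = k • b + b
    exact (AddCommute.self_nsmul b k)

theorem result {F : Type*} [Cfsg.NearField F] [Finite F] : ∃ p j : ℕ, p.Prime ∧ 1 ≤ j ∧ Nat.card F = p ^ j ∧ (∀ x y : F, x + y = y + x) ∧ ∀ x : F, p • x = 0 := by
  classical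
  have : Fintype F := Fintype.ofFinite F
  have h2t : IsMultiplyPretransitive (affGroup F) F 2 := by
    rw [is_two_pretransitive_iff]
    intro a b c d hab hcd
    obtain ⟨σ, hσ, h1, h2⟩ := exists_affPerm hab hcd
    exact ⟨⟨σ, hσ⟩, h1, h2⟩
  have hsh : ∀ x : Fin 2 ↪ F, stabilizer (affGroup F) x = ⊥ := by
    intro x
    rw [Subgroup.eq_bot_iff_forall]
    intro g hg
    rw [mem_stabilizer_iff] at hg
    have h0 : (g : Equiv.Perm F) (x 0) = x 0 := congrArg (fun y : Fin 2 ↪ F => y 0) hg
    have h1 : (g : Equiv.Perm F) (x 1) = x 1 := congrArg (fun y : Fin 2 ↪ F => y 1) hg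
    have hne : x 0 ≠ x 1 := fun h => absurd (x.injective h) (by decide)
    exact Subtype.ext (Cfsg.Agent.Lib.Helper12_NearField.eq_one_of_fix_two g.2 hne h0 h1)
  have hn : 2 ≤ Fintype.card F :=
    Fintype.one_lt_card_iff_nontrivial.mpr ⟨⟨0, 1, nf_zero_ne_one⟩⟩
  obtain ⟨N, p, j, hpp, hj, hcard, hmem, -, hcomm, hexp, -⟩ :=
    exists_regular_normal h2t hsh hn
  have htN : ∀ b : F, trans b ∈ N := by
    intro b
    rw [hmem]
    by_cases hb : b = 0
    · left
      apply Subtype.ext
      ext x
      change affPerm 1 b _ x = x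
      simp [hb]
    · right
      intro x hx
      rw [trans_smul] at hx
      exact hb (left_eq_add.mp hx.symm)
  refine ⟨p, j, hpp, hj, ?_, ?_, ?_⟩
  · rw [Nat.card_eq_fintype_card]; exact hcard
  · intro x y
    have h := hcomm (trans x) (htN x) (trans y) (htN y)
    have h' := congrArg (fun g : affGroup F => g • (0 : F)) h
    simp only [mul_smul, trans_smul, zero_add] at h'
    exact h'.symm
  · intro x
    have h := hexp (trans x) (htN x)
    have h' := congrArg (fun g : affGroup F => g • (0 : F)) h
    simp only [trans_pow_smul, zero_add, one_smul] at h'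
    exact h'

end Cfsg.Agent.S0682
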