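import Cfsg.Statements.S0683
import Cfsg.Agent.Lib.Helper12_Sharp2NF

set_option autoImplicit false
open Cfsg

namespace Cfsg.Agent.S0683

open Cfsg.Agent.Lib.Helper12_Sharp2NF MulAction

theorem result {α : Type*} [Fintype α] [DecidableEq α] (H : Subgroup (Equiv.Perm α)) [MulAction.IsMultiplyPretransitive H α 2] (hsharp : ∀ x : Fin 2 ↪ α, MulAction.stabilizer H x = ⊥) (h2 : 2 ≤ Fintype.card α) : ∃ _ : Cfsg.NearField α, ∀ σ : Equiv.Perm α, σ ∈ H ↔ ∃ a b : α, a ≠ 0 ∧ ∀ x : α, σ x = x * a + b := by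
  have h2t : IsMultiplyPretransitive H α 2 := inferInstance
  obtain ⟨C⟩ := exists_coord h2t hsharp h2
  refine ⟨C.nearField, fun σ => ?_⟩
  have key := C.induced_iff (fun x => σ x)
  constructor
  · intro hσ
    exact key.mp ⟨⟨σ, hσ⟩, fun x => rfl⟩
  · intro h
    obtain ⟨g, hg⟩ := key.mpr h
    have : (g : Equiv.Perm α) = σ := by
      ext x
      exact hg x
    rw [← this]
    exact g.2

end Cfsg.Agent.S0683
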