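import Cfsg.Statements.S0266
import Mathlib.LinearAlgebra.Matrix.Action

set_option autoImplicit false
open scoped MatrixGroups
open Cfsg

namespace Cfsg.Agent.S0266

open Projectivization Matrix.ProjGenLinGroup

variable {F : Type*} [Field F]

def det2 (v w : Fin 2 → F) : F := v 0 * w 1 - w 0 * v 1

noncomputable def glOf (v w : Fin 2 → F) (h : det2 v w ≠ 0) : GL (Fin 2) F :=
  Matrix.GeneralLinearGroup.mkOfDetNeZero !![v 0, w 0; v 1, w 1] (by rw [Matrix.det_fin_two_of]; exact h)

theorem glOf_smul (v w : Fin 2 → F) (h : det2 v w ≠ 0) (x : Fin 2 → F) :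
    glOf v w h • x = x 0 • v + x 1 • w := by
  funext i
  fin_cases i
  · simp [glOf, Units.smul_def, Matrix.mulVec, dotProduct, Fin.sum_univ_two]
    ring
  · simp [glOf, Units.smul_def, Matrix.mulVec, dotProduct, Fin.sum_univ_two]
    ring


theorem mk_eq_mk_iff_det2 {v w : Fin 2 → F} (hv : v ≠ 0) (hw : w ≠ 0) :
    Projectivization.mk F v hv = Projectivization.mk F w hw ↔ det2 v w = 0 := by
  rw [Projectivization.mk_eq_mk_iff']
  constructor
  · rintro ⟨a, rfl⟩
    simp [det2]; ring
  · intro h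
    unfold det2 at h
    by_cases hw0 : w 0 = 0
    · have hw1 : w 1 ≠ 0 := by
        intro hw1; apply hw; funext i; fin_cases i <;> simp [hw0, hw1]
      have hv0 : v 0 = 0 := by
        rw [hw0] at h; simp at h; rcases h with h | h
        · exact h
        · exact absurd h hw1
      refine ⟨v 1 / w 1, ?_⟩
      funext i; fin_cases i
      · simp [hw0, hv0]
      · simp; field_simp
    · refine ⟨v 0 / w 0, ?_⟩
      funext i; fin_cases i
      · simp; field_simp
      · simp; field_simp; linear_combination h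

theorem cramer (va vb vc : Fin 2 → F) (hD : det2 va vb ≠ 0) :
    vc = (det2 vc vb / det2 va vb) • va + (det2 va vc / det2 va vb) • vb := by
  have h0 : vc 0 * det2 va vb = det2 vc vb * va 0 + det2 va vc * vb 0 := by simp only [det2]; ring
  have h1 : vc 1 * det2 va vb = det2 vc vb * va 1 + det2 va vc * vb 1 := by simp only [det2]; ring
  funext i; fin_cases i
  · change vc 0 = det2 vc vb / det2 va vb * va 0 + det2 va vc / det2 va vb * vb 0
    rw [div_mul_eq_mul_div, div_mul_eq_mul_div, ← add_div, eq_div_iff hD]; exact h0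
  · change vc 1 = det2 vc vb / det2 va vb * va 1 + det2 va vc / det2 va vb * vb 1
    rw [div_mul_eq_mul_div, div_mul_eq_mul_div, ← add_div, eq_div_iff hD]; exact h1

theorem det2_smul_smul (s t : F) (v w : Fin 2 → F) : det2 (s • v) (t • w) = s * t * det2 v w := by
  simp only [det2, Pi.smul_apply, smul_eq_mul]; ring

theorem det2_swap (v w : Fin 2 → F) : det2 w v = - det2 v w := by
  simp only [det2]; ring

/-- the three base points -/
noncomputable def p₀ : Projectivization F (Fin 2 → F) := Projectivization.mk F ![1, 0] (by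
  intro h; have := congrFun h 0; simp at this)
noncomputable def p₁ : Projectivization F (Fin 2 → F) := Projectivization.mk F ![0, 1] (by
  intro h; have := congrFun h 1; simp at this)
noncomputable def p₂ : Projectivization F (Fin 2 → F) := Projectivization.mk F ![1, 1] (by
  intro h; have := congrFun h 0; simp at this)

theorem exists_smul_base (a b c : Projectivization F (Fin 2 → F)) (hab : a ≠ b) (hac : a ≠ c)
    (hbc : b ≠ c) : ∃ g : Matrix.ProjGenLinGroup (Fin 2) F, g • p₀ = a ∧ g • p₁ = b ∧ g • p₂ = c := by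
  obtain ⟨va, hva, rfl⟩ : ∃ v hv, a = Projectivization.mk F v hv :=
    ⟨a.rep, a.rep_nonzero, (mk_rep a).symm⟩
  obtain ⟨vb, hvb, rfl⟩ : ∃ v hv, b = Projectivization.mk F v hv :=
    ⟨b.rep, b.rep_nonzero, (mk_rep b).symm⟩
  obtain ⟨vc, hvc, rfl⟩ : ∃ v hv, c = Projectivization.mk F v hv :=
    ⟨c.rep, c.rep_nonzero, (mk_rep c).symm⟩
  rw [Ne, mk_eq_mk_iff_det2] at hab hac hbc
  have hcb : det2 vc vb ≠ 0 := by rw [det2_swap]; exact neg_ne_zero.2 hbc
  set s := det2 vc vb / det2 va vb with hs
  set t := det2 va vc / det2 va vb with ht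
  have hs0 : s ≠ 0 := div_ne_zero hcb hab
  have ht0 : t ≠ 0 := div_ne_zero hac hab
  have hc : vc = s • va + t • vb := cramer va vb vc hab
  have hdet : det2 (s • va) (t • vb) ≠ 0 := by
    rw [det2_smul_smul]; exact mul_ne_zero (mul_ne_zero hs0 ht0) hab
  refine ⟨Matrix.ProjGenLinGroup.mk (glOf (s • va) (t • vb) hdet), ?_, ?_, ?_⟩
  · rw [p₀, PGL.mk_smul_mk, mk_eq_mk_iff']
    exact ⟨s, by rw [glOf_smul]; simp⟩
  · rw [p₁, PGL.mk_smul_mk, mk_eq_mk_iff']
    exact ⟨t, by rw [glOf_smul]; simp⟩
  · rw [p₂, PGL.mk_smul_mk, mk_eq_mk_iff']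
    exact ⟨1, by rw [glOf_smul, hc]; simp⟩

theorem eq_one_of_fix_base (g : Matrix.ProjGenLinGroup (Fin 2) F) (h0 : g • (p₀ : Projectivization F (Fin 2 → F)) = p₀)
    (h1 : g • (p₁ : Projectivization F (Fin 2 → F)) = p₁) (h2 : g • (p₂ : Projectivization F (Fin 2 → F)) = p₂) : g = 1 := by
  induction g using Matrix.ProjGenLinGroup.induction_on with | mk M =>
  rw [p₀, PGL.mk_smul_mk, mk_eq_mk_iff'] at h0
  rw [p₁, PGL.mk_smul_mk, mk_eq_mk_iff'] at h1
  rw [p₂, PGL.mk_smul_mk, mk_eq_mk_iff'] at h2
  obtain ⟨α, hα⟩ := h0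
  obtain ⟨β, hβ⟩ := h1
  obtain ⟨γ, hγ⟩ := h2
  have e00 : M.1 0 0 = α := by
    have := congrFun hα 0
    simp [Units.smul_def, Matrix.mulVec, dotProduct, Fin.sum_univ_two] at this
    exact this.symm
  have e10 : M.1 1 0 = 0 := by
    have := congrFun hα 1
    simp [Units.smul_def, Matrix.mulVec, dotProduct, Fin.sum_univ_two] at this
    exact this.symm
  have e01 : M.1 0 1 = 0 := by
    have := congrFun hβ 0
    simp [Units.smul_def, Matrix.mulVec, dotProduct, Fin.sum_univ_two] at this
    exact this.symm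
  have e11 : M.1 1 1 = β := by
    have := congrFun hβ 1
    simp [Units.smul_def, Matrix.mulVec, dotProduct, Fin.sum_univ_two] at this
    exact this.symm
  have hαγ : α = γ := by
    have := congrFun hγ 0
    simp [Units.smul_def, Matrix.mulVec, dotProduct, Fin.sum_univ_two, e00, e01] at this
    exact this.symm
  have hβγ : β = γ := by
    have := congrFun hγ 1
    simp [Units.smul_def, Matrix.mulVec, dotProduct, Fin.sum_univ_two, e10, e11] at this
    exact this.symm
  have hα0 : α ≠ 0 := by
    intro h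
    have hdet : M.1.det = 0 := by
      rw [Matrix.det_fin_two, e00, e10, e01, h]; simp
    have h3 := (Matrix.GeneralLinearGroup.det M).ne_zero
    rw [Matrix.GeneralLinearGroup.val_det_apply] at h3
    exact h3 hdet
  have hM : M = Matrix.GeneralLinearGroup.scalar (Fin 2) (Units.mk0 α hα0) := by
    apply Units.ext
    ext i j
    fin_cases i <;> fin_cases j <;> simp [e00, e01, e10, e11, hβγ, hαγ]
  rw [hM, mk_scalar]


/-- PGL_2(F) is sharply 3-transitive on the projective line: it is 3-transitive and the stabiliser of three distinct points is trivial. -/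
theorem result {F : Type*} [Field F] : MulAction.IsMultiplyPretransitive (Matrix.ProjGenLinGroup (Fin 2) F) (Projectivization F (Fin 2 → F)) 3 ∧ ∀ (g : Matrix.ProjGenLinGroup (Fin 2) F) (a b c : Projectivization F (Fin 2 → F)), a ≠ b → a ≠ c → b ≠ c → g • a = a → g • b = b → g • c = c → g = 1 := by
  constructor
  · rw [MulAction.isMultiplyPretransitive_iff]
    intro x y
    have hx : ∀ i j : Fin 3, i ≠ j → x i ≠ x j := fun i j hij h => hij (x.injective h)
    have hy : ∀ i j : Fin 3, i ≠ j → y i ≠ y j := fun i j hij h => hij (y.injective h)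
    obtain ⟨gx, gx0, gx1, gx2⟩ := exists_smul_base (x 0) (x 1) (x 2) (hx 0 1 (by decide))
      (hx 0 2 (by decide)) (hx 1 2 (by decide))
    obtain ⟨gy, gy0, gy1, gy2⟩ := exists_smul_base (y 0) (y 1) (y 2) (hy 0 1 (by decide))
      (hy 0 2 (by decide)) (hy 1 2 (by decide))
    refine ⟨gy * gx⁻¹, ?_⟩
    ext i
    rw [Function.Embedding.smul_apply, mul_smul]
    fin_cases i
    · change gy • gx⁻¹ • x 0 = y 0
      rw [← gx0, inv_smul_smul, gy0]
    · change gy • gx⁻¹ • x 1 = y 1
      rw [← gx1, inv_smul_smul, gy1]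
    · change gy • gx⁻¹ • x 2 = y 2
      rw [← gx2, inv_smul_smul, gy2]
  · intro g a b c hab hac hbc ha hb hc
    obtain ⟨h, h0, h1, h2⟩ := exists_smul_base a b c hab hac hbc
    have key : h⁻¹ * g * h = 1 := by
      apply eq_one_of_fix_base
      · rw [mul_smul, mul_smul, h0, ha, ← h0, inv_smul_smul]
      · rw [mul_smul, mul_smul, h1, hb, ← h1, inv_smul_smul]
      · rw [mul_smul, mul_smul, h2, hc, ← h2, inv_smul_smul]
    have : g = h * (h⁻¹ * g * h) * h⁻¹ := by group
    rw [this, key]; group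

end Cfsg.Agent.S0266
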