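import Cfsg.Statements.S0219
import Cfsg.Agent.Lib.Helper4_CayleySign

set_option autoImplicit false
open Cfsg

namespace Cfsg.Agent.S0219

open Cfsg.Agent.Lib.Helper4_CayleySign

/-- If a finite group has even order and a cyclic Sylow 2-subgroup, then it has a subgroup of index 2 (consider the parity of permutations in the regular representation). -/
theorem result {G : Type*} [Group G] [Finite G] (heven : Even (Nat.card G)) (T : Sylow 2 G) (hT : IsCyclic (T : Subgroup G)) : ∃ H : Subgroup G, H.index = 2 := by
  classical
  have : Fintype G := Fintype.ofFinite G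
  obtain ⟨g, hg⟩ := hT.exists_generator
  have hord : orderOf (g : G) = Nat.card (T : Subgroup G) := by
    rw [Subgroup.orderOf_coe]
    exact orderOf_eq_card_of_forall_mem_zpowers hg
  have hcard : Nat.card (T : Subgroup G) = 2 ^ (Nat.card G).factorization 2 :=
    T.card_eq_multiplicity
  have hpos : 0 < Nat.card G := Nat.card_pos
  have h2 : 2 ∣ Nat.card G := even_iff_two_dvd.mp heven
  have hfac : 1 ≤ (Nat.card G).factorization 2 :=
    (Nat.Prime.dvd_iff_one_le_factorization Nat.prime_two hpos.ne').mp h2
  apply exists_index_two (g : G)
  · rw [hord, hcard]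
    exact (Nat.even_pow' (by omega)).mpr (by decide)
  · rw [hord, hcard, ← Nat.card_eq_fintype_card]
    have := Nat.not_dvd_ordCompl Nat.prime_two hpos.ne'
    rw [Nat.odd_iff]
    omega

end Cfsg.Agent.S0219
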