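import Cfsg.Statements.S0728
import Mathlib.Tactic
import Mathlib.GroupTheory.SpecificGroups.Cyclic

set_option autoImplicit false
open Cfsg

namespace Cfsg.Agent.S0728

open MulAction

/-- three distinct points as an embedding of `Fin 3` -/
def emb3 {α : Type*} (u v w : α) (huv : u ≠ v) (huw : u ≠ w) (hvw : v ≠ w) : Fin 3 ↪ α :=
  ⟨![u, v, w], by
    intro i j hij
    fin_cases i <;> fin_cases j <;> simp_all⟩

section abstract

variable {Γ α : Type*} [Group Γ] [MulAction Γ α]

/-- order-three facts -/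
theorem cube_facts {x : Γ} (hx3 : x ^ 3 = 1) (hx1 : x ≠ 1) : x ^ 2 ≠ 1 ∧ x ^ 2 ≠ x := by
  constructor
  · intro h
    apply hx1
    have : x ^ 3 = x ^ 2 * x := pow_succ x 2
    rw [hx3, h, one_mul] at this
    exact this.symm
  · intro h
    apply hx1
    have : x ^ 2 = x * x := pow_two x
    rw [h] at this
    exact (mul_eq_left.mp this.symm : x = 1)

variable (hU : ∀ g : Γ, ∀ u v w : α, u ≠ v → u ≠ w → v ≠ w → g • u = u → g • v = v → g • w = w → g = 1)
  (hE : ∀ u v w u' v' w' : α, u ≠ v → u ≠ w → v ≠ w → u' ≠ v' → u' ≠ w' → v' ≠ w' →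
    ∃ g : Γ, g • u = u' ∧ g • v = v' ∧ g • w = w')

include hU in
/-- the three points `c, x c, x² c` are distinct -/
theorem orbit_distinct {a b c : α} (hab : a ≠ b) (hca : a ≠ c) (hcb : b ≠ c) {x : Γ}
    (hxa : x • a = a) (hxb : x • b = b) (hx3 : x ^ 3 = 1) (hx1 : x ≠ 1) :
    c ≠ x • c ∧ c ≠ x ^ 2 • c ∧ x • c ≠ x ^ 2 • c := by
  have h1 : c ≠ x • c := fun h => hx1 (hU x a b c hab hca hcb hxa hxb h.symm)
  refine ⟨h1, ?_, ?_⟩
  · intro h
    apply (cube_facts hx3 hx1).1
    refine hU (x ^ 2) a b c hab hca hcb ?_ ?_ h.symm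
    · rw [pow_two, mul_smul, hxa, hxa]
    · rw [pow_two, mul_smul, hxb, hxb]
  · intro h
    apply h1
    rw [pow_two, mul_smul] at h
    exact (smul_left_cancel x h)

include hU hE in
/-- key lemma: another element of order three in the two-point stabiliser is `x` or a conjugate
of `x` by an element swapping `a, b` and fixing `c`. -/
theorem key {a b c : α} (hab : a ≠ b) (hca : a ≠ c) (hcb : b ≠ c) {x y : Γ}
    (hxa : x • a = a) (hxb : x • b = b) (hx3 : x ^ 3 = 1) (hx1 : x ≠ 1)
    (hya : y • a = a) (hyb : y • b = b) (hy3 : y ^ 3 = 1) (hy1 : y ≠ 1) :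
    y = x ∨ ∃ g : Γ, g • c = c ∧ g • a = b ∧ g • b = a ∧ y = g * x * g⁻¹ := by
  obtain ⟨hx_1, hx_2, hx_3⟩ := orbit_distinct hU hab hca hcb hxa hxb hx3 hx1
  obtain ⟨hy_1, hy_2, hy_3⟩ := orbit_distinct hU hab hca hcb hya hyb hy3 hy1
  obtain ⟨g, hg1, hg2, hg3⟩ := hE c (x • c) (x ^ 2 • c) c (y • c) (y ^ 2 • c) hx_1 hx_2 hx_3
    hy_1 hy_2 hy_3
  have hginv : g⁻¹ • c = c := by rw [inv_smul_eq_iff, hg1]
  -- y = g x g⁻¹
  have hconj : y = g * x * g⁻¹ := by
    have h1 : (y⁻¹ * (g * x * g⁻¹)) = 1 := by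
      refine hU _ c (y • c) (y ^ 2 • c) hy_1 hy_2 hy_3 ?_ ?_ ?_
      · rw [mul_smul, mul_smul, mul_smul, hginv, hg2, inv_smul_smul]
      · rw [mul_smul, mul_smul, mul_smul, ← hg2, inv_smul_smul, inv_smul_eq_iff, ← mul_smul x x,
          ← pow_two, hg3, hg2, pow_two, mul_smul]
      · rw [mul_smul, mul_smul, mul_smul, ← hg3, inv_smul_smul, inv_smul_eq_iff, ← mul_smul x,
          ← pow_succ', hx3, one_smul, hg1, hg3, ← mul_smul y, ← pow_succ', hy3, one_smul]
    rw [inv_mul_eq_one] at h1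
    exact h1
  -- g maps {a, b} to itself
  have hfix : ∀ u : α, x • u = u → y • (g • u) = g • u := by
    intro u hu
    rw [hconj, mul_smul, mul_smul, inv_smul_smul, hu]
  have hmem : ∀ u : α, y • u = u → u = a ∨ u = b := by
    intro u hu
    by_contra hcon
    push Not at hcon
    exact hy1 (hU y a b u hab (Ne.symm hcon.1) (Ne.symm hcon.2) hya hyb hu)
  have hga := hmem _ (hfix a hxa)
  have hgb := hmem _ (hfix b hxb)
  have hgab : g • a ≠ g • b := fun h => hab (smul_left_cancel g h)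
  rcases hga with hga | hga
  · rcases hgb with hgb | hgb
    · exact absurd (hga.trans hgb.symm) hgab
    · left
      have : g = 1 := hU g a b c hab hca hcb hga hgb hg1
      rw [hconj, this]; group
  · rcases hgb with hgb | hgb
    · right; exact ⟨g, hg1, hga, hgb, hconj⟩
    · exact absurd (hga.trans hgb.symm) hgab

include hU hE in
/-- at most two elements of order three -/
theorem order_three_unique {a b c : α} (hab : a ≠ b) (hca : a ≠ c) (hcb : b ≠ c) {x y : Γ}
    (hxa : x • a = a) (hxb : x • b = b) (hx3 : x ^ 3 = 1) (hx1 : x ≠ 1)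
    (hya : y • a = a) (hyb : y • b = b) (hy3 : y ^ 3 = 1) (hy1 : y ≠ 1) :
    y = x ∨ y = x ^ 2 := by
  obtain ⟨hsq1, hsq2⟩ := cube_facts hx3 hx1
  have hx2a : x ^ 2 • a = a := by rw [pow_two, mul_smul, hxa, hxa]
  have hx2b : x ^ 2 • b = b := by rw [pow_two, mul_smul, hxb, hxb]
  have hx23 : (x ^ 2) ^ 3 = 1 := by rw [← pow_mul, mul_comm, pow_mul, hx3, one_pow]
  rcases key hU hE hab hca hcb hxa hxb hx3 hx1 hx2a hx2b hx23 hsq1 with h | ⟨g2, h1, h2, h3, h4⟩
  · exact absurd h hsq2
  rcases key hU hE hab hca hcb hxa hxb hx3 hx1 hya hyb hy3 hy1 with h | ⟨g, k1, k2, k3, k4⟩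
  · left; exact h
  · right
    have : g2⁻¹ * g = 1 := by
      refine hU _ a b c hab hca hcb ?_ ?_ ?_
      · rw [mul_smul, k2, inv_smul_eq_iff, h2]
      · rw [mul_smul, k3, inv_smul_eq_iff, h3]
      · rw [mul_smul, k1, inv_smul_eq_iff, h1]
    rw [inv_mul_eq_one] at this
    rw [k4, ← this, ← h4]

end abstract

theorem result {α : Type*} [Fintype α] [DecidableEq α] (heven : Even (Fintype.card α)) (h6 : 6 ≤ Fintype.card α) (G : Subgroup (Equiv.Perm α)) (h3 : MulAction.IsMultiplyPretransitive G α 3) (hsharp : ∀ x : Fin 3 ↪ α, MulAction.stabilizer G x = ⊥) {a b : α} (hab : a ≠ b) (A B : Subgroup G) (hA : A ≤ MulAction.stabilizer G a ⊓ MulAction.stabilizer G b) (hB : B ≤ MulAction.stabilizer G a ⊓ MulAction.stabilizer G b) (hA3 : Nat.card A = 3) (hB3 : Nat.card B = 3) : A = B := by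
  -- uniqueness and existence
  have hU : ∀ g : G, ∀ u v w : α, u ≠ v → u ≠ w → v ≠ w → g • u = u → g • v = v → g • w = w →
      g = 1 := by
    intro g u v w huv huw hvw h1 h2 h3'
    have hmem : g ∈ MulAction.stabilizer G (emb3 u v w huv huw hvw) := by
      rw [MulAction.mem_stabilizer_iff]
      ext i
      change g • (emb3 u v w huv huw hvw i) = _
      fin_cases i
      · exact h1
      · exact h2
      · exact h3'
    rw [hsharp] at hmem
    exact Subgroup.mem_bot.mp hmem
  have hE : ∀ u v w u' v' w' : α, u ≠ v → u ≠ w → v ≠ w → u' ≠ v' → u' ≠ w' → v' ≠ w' →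
      ∃ g : G, g • u = u' ∧ g • v = v' ∧ g • w = w' := by
    intro u v w u' v' w' huv huw hvw huv' huw' hvw'
    obtain ⟨g, hg⟩ := MulAction.isMultiplyPretransitive_iff.mp h3 (emb3 u v w huv huw hvw)
      (emb3 u' v' w' huv' huw' hvw')
    refine ⟨g, ?_, ?_, ?_⟩
    · have := congrFun (congrArg DFunLike.coe hg) 0
      rwa [Function.Embedding.smul_apply] at this
    · have := congrFun (congrArg DFunLike.coe hg) 1
      rwa [Function.Embedding.smul_apply] at this
    · have := congrFun (congrArg DFunLike.coe hg) 2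
      rwa [Function.Embedding.smul_apply] at this
  -- a third point
  obtain ⟨c, hc⟩ : ∃ c, c ∉ ({a, b} : Finset α) := by
    by_contra h
    push Not at h
    have h1 : (Finset.univ : Finset α) ⊆ {a, b} := fun x _ => h x
    have h2 := Finset.card_le_card h1
    have h3'' : ({a, b} : Finset α).card ≤ 2 := Finset.card_le_two
    rw [Finset.card_univ] at h2
    omega
  have hca : a ≠ c := fun h => hc (by simp [h])
  have hcb : b ≠ c := fun h => hc (by simp [h])
  -- a generator of A
  have hAne : A ≠ ⊥ := by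
    intro h
    rw [h, Subgroup.card_bot] at hA3
    omega
  obtain ⟨x, hx1⟩ := (Subgroup.ne_bot_iff_exists_ne_one).mp hAne
  have hx3 : ((x : G)) ^ 3 = 1 := by
    have := pow_card_eq_one' (G := A) (x := x)
    rw [hA3] at this
    exact_mod_cast congrArg Subtype.val this
  have hx1' : (x : G) ≠ 1 := fun h => hx1 (Subtype.ext h)
  have hxa : (x : G) • a = a := MulAction.mem_stabilizer_iff.mp (hA x.2).1
  have hxb : (x : G) • b = b := MulAction.mem_stabilizer_iff.mp (hA x.2).2
  have hle : B ≤ A := by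
    intro y hy
    by_cases hy1 : y = 1
    · rw [hy1]; exact A.one_mem
    have hy3 : y ^ 3 = 1 := by
      have := pow_card_eq_one' (G := B) (x := ⟨y, hy⟩)
      rw [hB3] at this
      have h' := congrArg Subtype.val this
      simpa using h'
    have hya : y • a = a := MulAction.mem_stabilizer_iff.mp (hB hy).1
    have hyb : y • b = b := MulAction.mem_stabilizer_iff.mp (hB hy).2
    rcases order_three_unique hU hE hab hca hcb hxa hxb hx3 hx1' hya hyb hy3 hy1 with h | h
    · rw [h]; exact x.2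
    · rw [h]; exact A.pow_mem x.2 2
  exact (Subgroup.eq_of_le_of_card_ge hle (by rw [hA3, hB3])).symm

end Cfsg.Agent.S0728
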