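import Cfsg.Statements.S0730
import Cfsg.Agent.Lib.Helper95_Sharp3Glue

set_option autoImplicit false
open Cfsg

namespace Cfsg.Agent.S0730

/-- A sharply triply transitive group of degree `p^f + 1`, `p` an odd prime and `f` odd, is isomorphic to the projective general linear group of degree 2 over the field with `p^f` elements (for even `f` there is a second, twisted, group). -/
theorem result {α : Type*} [Fintype α] [DecidableEq α] {p f : ℕ} (hp : p.Prime) (hp2 : p ≠ 2) (hfo : Odd f) (hα : Fintype.card α = p ^ f + 1) (G : Subgroup (Equiv.Perm α)) (h3 : MulAction.IsMultiplyPretransitive G α 3) (hsharp : ∀ x : Fin 3 ↪ α, MulAction.stabilizer G x = ⊥) : ∃ (F : Type) (_ : Field F) (_ : Fintype F), Fintype.card F = p ^ f ∧ Nonempty (G ≃* Matrix.ProjGenLinGroup (Fin 2) F) := by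
  classical
  -- only the identity fixes three points
  have hs : Cfsg.Agent.Lib.Helper21_Sharp3.Sharp3 G α := by
    intro g u v w huv huw hvw h1 h2 h3'
    have hmem : g ∈ MulAction.stabilizer G (Cfsg.Agent.S0728.emb3 u v w huv huw hvw) := by
      rw [MulAction.mem_stabilizer_iff]
      ext i
      change g • (Cfsg.Agent.S0728.emb3 u v w huv huw hvw i) = _
      fin_cases i
      · exact h1
      · exact h2
      · exact h3'
    rw [hsharp] at hmem
    exact Subgroup.mem_bot.mp hmem
  exact Cfsg.Agent.Lib.Helper95_Sharp3Glue.main hp hp2 hfo hα G h3 hs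

end Cfsg.Agent.S0730
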