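import Cfsg.Statements.S1516
import Cfsg.Agent.Lib.Helper17_CohExt

set_option autoImplicit false
open Cfsg

namespace Cfsg.Agent.S1516

open scoped ComplexConjugate
open Cfsg.Agent.Lib.Helper3_CharOrtho Cfsg.Agent.Lib.Helper75_CharArith
  Cfsg.Agent.Lib.Helper17_CohSys Cfsg.Agent.Lib.Helper17_CohExt

section Main

variable {L : Type*} [Group L] [Fintype L] {G : Type*} [Group G] [Fintype G]
variable {S : Set (L → ℂ)} {τ : (L → ℂ) → (G → ℂ)} {R : (L → ℂ) → Finset (G → ℂ)}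

/-- The key computation: `τ (χ' - a χ₁)` has the expected inner products with `τ₁ S₁`. -/
theorem key (hS : Cfsg.IsCoherenceSystem S τ R) (d n : (L → ℂ) → ℕ)
    (hd : ∀ φ ∈ S, φ 1 = (d φ : ℂ)) (hn : ∀ φ ∈ S, Cfsg.classInner φ φ = (n φ : ℂ))
    (S₁ : Finset (L → ℂ)) (hS₁ : ↑S₁ ⊆ S) (hS₁c : ∀ φ ∈ S₁, Cfsg.conjFun φ ∈ S₁)
    {τ₁ : (L → ℂ) → (G → ℂ)}
    (hτ₁ : Cfsg.IsLinearIsometryOn (Cfsg.zspan (↑S₁ : Set (L → ℂ))) τ₁)
    (hag : ∀ α ∈ Cfsg.zspanOn (↑S₁ : Set (L → ℂ)) ({1}ᶜ : Set L), τ₁ α = τ α)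
    {χ₁ : L → ℂ} (hχ₁S : χ₁ ∈ S₁) {χ' : L → ℂ} (hχ' : χ' ∈ S) (h1 : χ' ∉ S₁)
    (h2 : Cfsg.conjFun χ' ∉ S₁) {a : ℕ} (ha : d χ' = a * d χ₁)
    (hineq : (2 * d χ' * d χ₁ : ℝ) < ∑ φ ∈ S₁, ((d φ : ℝ) ^ 2 / (n φ : ℝ))) :
    (∀ ξ ∈ S₁, ξ ≠ χ₁ → Cfsg.classInner (τ (χ' - (a : ℤ) • χ₁)) (τ₁ ξ) = 0) ∧
    Cfsg.classInner (τ (χ' - (a : ℤ) • χ₁)) (τ₁ χ₁) = -(a * n χ₁ : ℂ) ∧
    Cfsg.classInner (τ (χ' - (a : ℤ) • χ₁)) (τ (χ' - (a : ℤ) • χ₁)) =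
      (n χ' : ℂ) + (a : ℂ) ^ 2 * n χ₁ ∧
    χ' - (a : ℤ) • χ₁ ∈ Cfsg.zspanOn S ({1}ᶜ : Set L) := by
  classical
  have hχ₁ : χ₁ ∈ S := hS₁ hχ₁S
  have hS₁c' : ∀ φ ∈ (↑S₁ : Set (L → ℂ)), Cfsg.conjFun φ ∈ (↑S₁ : Set (L → ℂ)) :=
    fun φ hφ => hS₁c φ hφ
  have hψmem : χ' - (a : ℤ) • χ₁ ∈ Cfsg.zspanOn S ({1}ᶜ : Set L) := by
    refine ⟨Submodule.sub_mem _ (Submodule.subset_span hχ')
      (Submodule.smul_mem _ _ (Submodule.subset_span hχ₁)), ?_⟩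
    intro x hx
    have hx' : x = 1 := by simpa using hx
    rw [hx', Pi.sub_apply, Pi.smul_apply, hd χ' hχ', hd χ₁ hχ₁, ha]
    push_cast
    simp
  set ψ := χ' - (a : ℤ) • χ₁ with hψ
  set Θ := τ ψ with hΘ
  have hΘg : Cfsg.IsGeneralizedCharacter G Θ := hS.isometry.2.2.2 _ hψmem
  have hn₁ := hn χ₁ hχ₁
  have hnpos : ∀ ξ ∈ S, (0 : ℝ) < n ξ := by
    intro ξ hξ
    have h0 : n ξ ≠ 0 := by
      intro h
      apply cs_norm_ne_zero hS hξ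
      rw [hn ξ hξ, h]; simp
    exact_mod_cast Nat.pos_of_ne_zero h0
  have hd₁pos : (0 : ℝ) < d χ₁ := by
    have h0 : d χ₁ ≠ 0 := by
      intro h
      apply cs_ne_zero hS hχ₁
      apply char_eq_zero_of_apply_one (hS.isCharacter χ₁ hχ₁)
      rw [hd χ₁ hχ₁, h]; simp
    exact_mod_cast Nat.pos_of_ne_zero h0
  obtain ⟨m, hm⟩ := Cfsg.Agent.S1515.inner_int hΘg (hτ₁.2.2.2 _ (subset_zspan hχ₁S))
  set w : ℤ := m + a * n χ₁ with hw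
  have hχ'ξ : ∀ ξ ∈ S₁, Cfsg.classInner χ' ξ = 0 :=
    fun ξ hξ => hS.orthogonal χ' hχ' ξ (hS₁ hξ) (fun h => h1 (h ▸ hξ))
  -- the relation
  have hrel : ∀ ξ ∈ S₁, ξ ≠ χ₁ → (d χ₁ : ℂ) * Cfsg.classInner Θ (τ₁ ξ) = (d ξ : ℂ) * w := by
    intro ξ hξ hne
    have hξS := hS₁ hξ
    have hs1 : (d ξ : ℤ) • χ₁ ∈ Submodule.span ℤ (↑S₁ : Set (L → ℂ)) :=
      Submodule.smul_mem _ _ (Submodule.subset_span hχ₁S)
    have hs2 : (d χ₁ : ℤ) • ξ ∈ Submodule.span ℤ (↑S₁ : Set (L → ℂ)) :=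
      Submodule.smul_mem _ _ (Submodule.subset_span hξ)
    have hγ1 : (d ξ : ℤ) • χ₁ - (d χ₁ : ℤ) • ξ ∈
        Cfsg.zspanOn (↑S₁ : Set (L → ℂ)) ({1}ᶜ : Set L) := by
      refine ⟨Submodule.sub_mem _ hs1 hs2, ?_⟩
      intro x hx
      have hx' : x = 1 := by simpa using hx
      rw [hx', Pi.sub_apply, Pi.smul_apply, Pi.smul_apply, hd χ₁ hχ₁, hd ξ hξS]
      simp [mul_comm]
    have hγS : (d ξ : ℤ) • χ₁ - (d χ₁ : ℤ) • ξ ∈ Cfsg.zspanOn S ({1}ᶜ : Set L) :=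
      ⟨Submodule.span_mono hS₁ hγ1.1, hγ1.2⟩
    have e1 : τ₁ ((d ξ : ℤ) • χ₁ - (d χ₁ : ℤ) • ξ) =
        (d ξ : ℤ) • τ₁ χ₁ - (d χ₁ : ℤ) • τ₁ ξ := by
      rw [map_sub_of (M := Submodule.span ℤ (↑S₁ : Set (L → ℂ))) hτ₁ hs1 hs2,
        hτ₁.2.1 _ (subset_zspan hχ₁S), hτ₁.2.1 _ (subset_zspan hξ)]
    have e2 : Cfsg.classInner Θ (τ₁ ((d ξ : ℤ) • χ₁ - (d χ₁ : ℤ) • ξ)) =
        Cfsg.classInner ψ ((d ξ : ℤ) • χ₁ - (d χ₁ : ℤ) • ξ) := by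
      rw [hag _ hγ1, hΘ, hS.isometry.2.2.1 _ hψmem _ hγS]
    have e3 : Cfsg.classInner ψ ((d ξ : ℤ) • χ₁ - (d χ₁ : ℤ) • ξ) = -(a * d ξ * n χ₁ : ℂ) := by
      rw [hψ]
      simp only [classInner_sub_left, classInner_sub_right, classInner_zsmul_right,
        classInner_zsmul_left]
      rw [hχ'ξ χ₁ hχ₁S, hχ'ξ ξ hξ, hn₁, hS.orthogonal χ₁ hχ₁ ξ hξS (Ne.symm hne)]
      push_cast
      ring
    rw [e1, classInner_sub_right, classInner_zsmul_right, classInner_zsmul_right, hm, e3] at e2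
    rw [hw]
    push_cast at e2 ⊢
    linear_combination (-1 : ℂ) * e2
  -- Bessel
  have hbes := bessel_orthogonal (S₁.disjSum (R χ'))
    (Sum.elim τ₁ id : (L → ℂ) ⊕ (G → ℂ) → (G → ℂ))
    (Sum.elim (fun ξ => (n ξ : ℝ)) (fun _ => 1)) (by
      intro i hi
      rcases i with ξ | β
      · exact hnpos ξ (hS₁ (Finset.inl_mem_disjSum.1 hi))
      · exact one_pos) (by
      intro i hi j hj
      rcases i with ξ | α <;> rcases j with ξ' | β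
      · have hξ := Finset.inl_mem_disjSum.1 hi
        have hξ' := Finset.inl_mem_disjSum.1 hj
        simp only [Sum.elim_inl, Sum.inl.injEq]
        rw [hτ₁.2.2.1 _ (subset_zspan hξ) _ (subset_zspan hξ')]
        split_ifs with h
        · rw [← h, hn ξ (hS₁ hξ)]; simp
        · exact hS.orthogonal ξ (hS₁ hξ) ξ' (hS₁ hξ') h
      · have hξ := Finset.inl_mem_disjSum.1 hi
        have hβ := Finset.inr_mem_disjSum.1 hj
        simp only [Sum.elim_inl, Sum.elim_inr, id, reduceCtorEq, if_false]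
        exact (image_orth_R hS hS₁ hS₁c' hτ₁ hag hξ hχ' h1 h2 hβ).1
      · have hα := Finset.inr_mem_disjSum.1 hi
        have hξ' := Finset.inl_mem_disjSum.1 hj
        simp only [Sum.elim_inl, Sum.elim_inr, id, reduceCtorEq, if_false]
        exact (image_orth_R hS hS₁ hS₁c' hτ₁ hag hξ' hχ' h1 h2 hα).2
      · have hα := Finset.inr_mem_disjSum.1 hi
        have hβ := Finset.inr_mem_disjSum.1 hj
        simp only [Sum.elim_inr, id, Sum.inr.injEq]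
        rw [cs_ON hS hχ' α hα β hβ]
        split_ifs <;> simp) Θ
  rw [Finset.sum_disjSum] at hbes
  simp only [Sum.elim_inl, Sum.elim_inr, id, div_one] at hbes
  -- Peterfalvi (5.5) for `χ'`
  have hconj' : Cfsg.conjFun χ' ∈ S := hS.conj_mem χ' hχ'
  have hA := (Cfsg.Agent.S1515.result S τ R hS χ' hχ' ((a : ℤ) • χ₁)
    (Submodule.smul_mem _ _ (Submodule.subset_span hχ₁))
    (by rw [classInner_zsmul_right, hχ'ξ χ₁ hχ₁S, mul_zero])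
    (by rw [classInner_zsmul_right,
          hS.orthogonal _ hconj' χ₁ hχ₁ (fun h => h2 (by rw [h]; exact hχ₁S)), mul_zero]) τ
    (isometry_mono (zspan_subset_zspanOn (by
      intro b hb
      rcases hb with rfl | rfl
      · exact hψmem
      · exact cs_sub_conj_mem hS hχ')) hS.isometry) (fun _ => rfl)).1
  have hχ₁χ' : Cfsg.classInner χ₁ χ' = 0 := by
    rw [← classInner_conj_symm, hχ'ξ χ₁ hχ₁S, map_zero]
  have hnorm : Cfsg.classInner Θ Θ = (((n χ' : ℝ) + (a : ℝ) ^ 2 * n χ₁ : ℝ) : ℂ) := by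
    rw [hΘ, hS.isometry.2.2.1 _ hψmem _ hψmem, hψ]
    simp only [classInner_sub_left, classInner_sub_right, classInner_zsmul_right,
      classInner_zsmul_left]
    rw [hn χ' hχ', hχ'ξ χ₁ hχ₁S, hn₁, hχ₁χ']
    push_cast
    ring
  have hre : (Cfsg.classInner Θ Θ).re = (n χ' : ℝ) + (a : ℝ) ^ 2 * n χ₁ := by
    rw [hnorm, Complex.ofReal_re]
  have hre' : (Cfsg.classInner χ' χ').re = (n χ' : ℝ) := by
    rw [hn χ' hχ']; simp
  have hn₁pos := hnpos χ₁ hχ₁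
  have hterm : ∀ ξ ∈ S₁, ‖Cfsg.classInner Θ (τ₁ ξ)‖ ^ 2 / (n ξ : ℝ) =
      (d ξ : ℝ) ^ 2 / (n ξ : ℝ) * ((w : ℝ) ^ 2 / (d χ₁ : ℝ) ^ 2) +
        if ξ = χ₁ then (-2 * a * w + (a : ℝ) ^ 2 * n χ₁) else 0 := by
    intro ξ hξ
    by_cases hne : ξ = χ₁
    · rw [hne, if_pos rfl, hm]
      have hmw : (m : ℝ) = w - a * n χ₁ := by rw [hw]; push_cast; ring
      rw [Complex.norm_intCast, sq_abs, hmw]
      field_simp
      ring
    · rw [if_neg hne, add_zero]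
      have hX : Cfsg.classInner Θ (τ₁ ξ) = (((d ξ : ℝ) * w / d χ₁ : ℝ) : ℂ) := by
        have h3 := hrel ξ hξ hne
        have hd0 : (d χ₁ : ℂ) ≠ 0 := by exact_mod_cast hd₁pos.ne'
        push_cast
        field_simp
        linear_combination h3
      have hnξ := hnpos ξ (hS₁ hξ)
      rw [hX, Complex.norm_real, Real.norm_eq_abs, sq_abs]
      field_simp
  have hsum : ∑ ξ ∈ S₁, ‖Cfsg.classInner Θ (τ₁ ξ)‖ ^ 2 / (n ξ : ℝ) =
      (∑ φ ∈ S₁, (d φ : ℝ) ^ 2 / (n φ : ℝ)) * ((w : ℝ) ^ 2 / (d χ₁ : ℝ) ^ 2) +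
        (-2 * a * w + (a : ℝ) ^ 2 * n χ₁) := by
    rw [Finset.sum_congr rfl hterm, Finset.sum_add_distrib, ← Finset.sum_mul,
      Finset.sum_ite_eq' S₁ χ₁, if_pos hχ₁S]
  rw [hsum, hre] at hbes
  rw [hre'] at hA
  have h5 : (∑ φ ∈ S₁, (d φ : ℝ) ^ 2 / (n φ : ℝ)) * ((w : ℝ) ^ 2 / (d χ₁ : ℝ) ^ 2) ≤
      2 * a * w := by linarith
  have h6 : (∑ φ ∈ S₁, (d φ : ℝ) ^ 2 / (n φ : ℝ)) * (w : ℝ) ^ 2 ≤
      2 * (d χ' : ℝ) * d χ₁ * w := by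
    have hda : (d χ' : ℝ) = a * d χ₁ := by rw [ha]; push_cast; ring
    rw [hda]
    have h7 := mul_le_mul_of_nonneg_right h5 (by positivity : (0 : ℝ) ≤ (d χ₁ : ℝ) ^ 2)
    rw [mul_assoc, div_mul_cancel₀ _ (by positivity : ((d χ₁ : ℝ) ^ 2) ≠ 0)] at h7
    linarith
  have hw0 : w = 0 := by
    by_contra hne
    have h7 : (1 : ℝ) ≤ (w : ℝ) ^ 2 := by
      have h71 : (1 : ℤ) ≤ w ^ 2 := by
        have := Int.one_le_abs hne
        nlinarith [abs_mul_abs_self w, abs_nonneg w]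
      exact_mod_cast h71
    have h8 : (w : ℝ) ≤ (w : ℝ) ^ 2 := by exact_mod_cast Cfsg.Agent.S1515.int_le_sq w
    have h9 : (0 : ℝ) ≤ 2 * (d χ' : ℝ) * d χ₁ := by positivity
    nlinarith [mul_le_mul_of_nonneg_left h8 h9,
      mul_le_mul_of_nonneg_left h7 (sub_nonneg.2 hineq.le)]
  refine ⟨?_, ?_, ?_, hψmem⟩
  · intro ξ hξ hne
    have h3 := hrel ξ hξ hne
    rw [hw0] at h3
    have hd0 : (d χ₁ : ℂ) ≠ 0 := by exact_mod_cast hd₁pos.ne'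
    simpa [hd0] using h3
  · rw [hm]
    have hmm : m = -(a * n χ₁) := by rw [hw] at hw0; linarith
    rw [hmm]
    push_cast
    ring
  · rw [hnorm]
    push_cast
    ring

theorem map_lin3 {M : Submodule ℤ (L → ℂ)} {σ : (L → ℂ) → (G → ℂ)}
    (hσ : Cfsg.IsLinearIsometryOn (M : Set (L → ℂ)) σ) {g p q : L → ℂ} (hg : g ∈ M) (hp : p ∈ M)
    (hq : q ∈ M) (c c' : ℤ) : σ (g + c • p + c' • q) = σ g + c • σ p + c' • σ q := by
  rw [hσ.1 _ (M.add_mem hg (M.smul_mem c hp)) _ (M.smul_mem c' hq), hσ.1 _ hg _ (M.smul_mem c hp),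
    hσ.2.1 _ hp, hσ.2.1 _ hq]

/-- Let (S, τ, R) be a coherence system from L to G, S₁ a finite subset of S closed under complex conjugation with (S₁, L minus 1, τ) coherent, χ ∈ S with χ and conj χ not in S₁, and χ₁ ∈ S₁ with χ₁(1) dividing χ(1) and 2 χ(1) χ₁(1) < Σ_{φ ∈ S₁} φ(1)² / ⟨φ, φ⟩. Then (S₁ ∪ {χ, conj χ}, L minus 1, τ) is coherent. -/
theorem result {L : Type*} [Group L] [Fintype L] {G : Type*} [Group G] [Fintype G] (S : Set (L → ℂ)) (τ : (L → ℂ) → (G → ℂ)) (R : (L → ℂ) → Finset (G → ℂ)) (hS : Cfsg.IsCoherenceSystem S τ R) (d n : (L → ℂ) → ℕ) (hd : ∀ φ ∈ S, φ 1 = (d φ : ℂ)) (hn : ∀ φ ∈ S, Cfsg.classInner φ φ = (n φ : ℂ)) (S₁ : Finset (L → ℂ)) (hS₁ : ↑S₁ ⊆ S) (hS₁c : ∀ φ ∈ S₁, Cfsg.conjFun φ ∈ S₁) (hcoh : Cfsg.IsCoherent (↑S₁ : Set (L → ℂ)) {1}ᶜ τ) (χ : L → ℂ) (hχ : χ ∈ S) (hχ₁ : χ ∉ S₁) (hχ₂ : Cfsg.conjFun χ ∉ S₁) (χ₁ : L → ℂ) (hχ₁S : χ₁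 ∈ S₁) (hdvd : d χ₁ ∣ d χ) (hineq : (2 * d χ * d χ₁ : ℝ) < ∑ φ ∈ S₁, ((d φ : ℝ) ^ 2 / (n φ : ℝ))) : Cfsg.IsCoherent (↑S₁ ∪ {χ, Cfsg.conjFun χ} : Set (L → ℂ)) {1}ᶜ τ := by
  classical
  obtain ⟨-, τ₁, hτ₁, hag⟩ := hcoh
  obtain ⟨a, ha⟩ := hdvd
  have ha' : d χ = a * d χ₁ := by rw [ha, mul_comm]
  have hcχ : Cfsg.conjFun χ ∈ S := hS.conj_mem χ hχ
  have hχ₁' : χ₁ ∈ S := hS₁ hχ₁S
  have hdeg1 : Cfsg.conjFun χ 1 = χ 1 := conjFun_apply_one (hS.isCharacter χ hχ)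
  have hdc : d (Cfsg.conjFun χ) = d χ := by
    have h := hd _ hcχ
    rw [hdeg1, hd χ hχ] at h
    exact_mod_cast h.symm
  have hcc : Cfsg.conjFun (Cfsg.conjFun χ) ∉ S₁ := by rw [conjFun_conjFun]; exact hχ₁
  have hineq' : (2 * d (Cfsg.conjFun χ) * d χ₁ : ℝ) < ∑ φ ∈ S₁, ((d φ : ℝ) ^ 2 / (n φ : ℝ)) := by
    rw [hdc]; exact hineq
  have hnc : n (Cfsg.conjFun χ) = n χ := by
    have h := hn _ hcχ
    rw [classInner_conjFun_conjFun, hn χ hχ] at h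
    exact_mod_cast h.symm
  obtain ⟨k1, k2, k3, k4⟩ := key hS d n hd hn S₁ hS₁ hS₁c hτ₁ hag hχ₁S hχ hχ₁ hχ₂ ha' hineq
  obtain ⟨k1', k2', k3', k4'⟩ :=
    key hS d n hd hn S₁ hS₁ hS₁c hτ₁ hag hχ₁S hcχ hχ₂ hcc (hdc.trans ha') hineq'
  have hτ := cs_isometry hS
  have hT : χ₁ ∈ Cfsg.zspan (↑S₁ : Set (L → ℂ)) := subset_zspan hχ₁S
  have hTT : Cfsg.classInner (τ₁ χ₁) (τ₁ χ₁) = n χ₁ := by
    rw [hτ₁.2.2.1 _ hT _ hT, hn χ₁ hχ₁']
  have hχχ₁ : Cfsg.classInner χ χ₁ = 0 := hS.orthogonal χ hχ χ₁ hχ₁' (fun h => hχ₁ (h ▸ hχ₁S))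
  have hcχχ₁ : Cfsg.classInner (Cfsg.conjFun χ) χ₁ = 0 :=
    hS.orthogonal _ hcχ χ₁ hχ₁' (fun h => hχ₂ (h ▸ hχ₁S))
  have hχ₁χ : Cfsg.classInner χ₁ χ = 0 := by rw [← classInner_conj_symm, hχχ₁, map_zero]
  have hχ₁cχ : Cfsg.classInner χ₁ (Cfsg.conjFun χ) = 0 := by
    rw [← classInner_conj_symm, hcχχ₁, map_zero]
  -- the two new vectors
  set ψ := χ - (a : ℤ) • χ₁ with hψ
  set ψ' := Cfsg.conjFun χ - (a : ℤ) • χ₁ with hψ'
  set vχ := τ ψ + (a : ℤ) • τ₁ χ₁ with hvχ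
  set vc := τ ψ' + (a : ℤ) • τ₁ χ₁ with hvc
  have hvχg : Cfsg.IsGeneralizedCharacter G vχ :=
    gen_add (hS.isometry.2.2.2 _ k4) (gen_zsmul _ (hτ₁.2.2.2 _ hT))
  have hvcg : Cfsg.IsGeneralizedCharacter G vc :=
    gen_add (hS.isometry.2.2.2 _ k4') (gen_zsmul _ (hτ₁.2.2.2 _ hT))
  have hvχ_orth : ∀ ξ ∈ S₁, Cfsg.classInner vχ (τ₁ ξ) = 0 := by
    intro ξ hξ
    rw [hvχ, classInner_add_left, classInner_zsmul_left, hτ₁.2.2.1 _ hT _ (subset_zspan hξ)]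
    by_cases h : ξ = χ₁
    · rw [h, k2, hn χ₁ hχ₁']; push_cast; ring
    · rw [k1 ξ hξ h, hS.orthogonal χ₁ hχ₁' ξ (hS₁ hξ) (Ne.symm h)]; ring
  have hvc_orth : ∀ ξ ∈ S₁, Cfsg.classInner vc (τ₁ ξ) = 0 := by
    intro ξ hξ
    rw [hvc, classInner_add_left, classInner_zsmul_left, hτ₁.2.2.1 _ hT _ (subset_zspan hξ)]
    by_cases h : ξ = χ₁
    · rw [h, k2', hn χ₁ hχ₁']; push_cast; ring
    · rw [k1' ξ hξ h, hS.orthogonal χ₁ hχ₁' ξ (hS₁ hξ) (Ne.symm h)]; ring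
  have hconjk2 : Cfsg.classInner (τ₁ χ₁) (τ ψ) = -(a * n χ₁ : ℂ) := by
    rw [← classInner_conj_symm, k2]; simp
  have hconjk2' : Cfsg.classInner (τ₁ χ₁) (τ ψ') = -(a * n χ₁ : ℂ) := by
    rw [← classInner_conj_symm, k2']; simp
  have hvχ_norm : Cfsg.classInner vχ vχ = Cfsg.classInner χ χ := by
    rw [hvχ]
    simp only [classInner_add_left, classInner_add_right, classInner_zsmul_left,
      classInner_zsmul_right]
    rw [k3, k2, hconjk2, hTT, hn χ hχ]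
    push_cast
    ring
  have hvc_norm : Cfsg.classInner vc vc = Cfsg.classInner (Cfsg.conjFun χ) (Cfsg.conjFun χ) := by
    rw [hvc]
    simp only [classInner_add_left, classInner_add_right, classInner_zsmul_left,
      classInner_zsmul_right]
    rw [k3', k2', hconjk2', hTT, hn _ hcχ]
    push_cast
    ring
  have hcross : Cfsg.classInner vχ vc = 0 := by
    rw [hvχ, hvc]
    simp only [classInner_add_left, classInner_add_right, classInner_zsmul_left,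
      classInner_zsmul_right]
    rw [hS.isometry.2.2.1 _ k4 _ k4', k2, hconjk2', hTT, hψ, hψ']
    simp only [classInner_sub_left, classInner_sub_right, classInner_zsmul_left,
      classInner_zsmul_right]
    rw [cs_orth_conj hS hχ, hχχ₁, hχ₁cχ, hn χ₁ hχ₁']
    push_cast
    ring
  have hcross' : Cfsg.classInner vc vχ = 0 := by
    rw [← classInner_conj_symm, hcross, map_zero]
  -- the assignment
  set S' : Set (L → ℂ) := ↑S₁ ∪ {χ, Cfsg.conjFun χ} with hS'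
  have hS'S : S' ⊆ S := by
    intro x hx
    rcases hx with hx | hx | hx
    · exact hS₁ hx
    · rw [hx]; exact hχ
    · rw [Set.mem_singleton_iff.1 hx]; exact hcχ
  have horth' : ∀ x ∈ S', ∀ y ∈ S', x ≠ y → Cfsg.classInner x y = 0 :=
    fun x hx y hy => hS.orthogonal x (hS'S hx) y (hS'S hy)
  have hne' : ∀ x ∈ S', Cfsg.classInner x x ≠ 0 := fun x hx => cs_norm_ne_zero hS (hS'S hx)
  have hmemS' : ∀ x, x ∈ S' ↔ x ∈ S₁ ∨ x = χ ∨ x = Cfsg.conjFun χ := by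
    intro x
    simp [hS']
    tauto
  set v : (L → ℂ) → (G → ℂ) :=
    fun φ => if φ = χ then vχ else if φ = Cfsg.conjFun χ then vc else τ₁ φ with hv
  have hv_S₁ : ∀ φ ∈ S₁, v φ = τ₁ φ := by
    intro φ hφ
    have e1 : φ ≠ χ := fun h => hχ₁ (h ▸ hφ)
    have e2 : φ ≠ Cfsg.conjFun χ := fun h => hχ₂ (h ▸ hφ)
    simp [hv, e1, e2]
  have hv_χ : v χ = vχ := by simp [hv]
  have hv_c : v (Cfsg.conjFun χ) = vc := by
    simp [hv, hS.conj_ne χ hχ]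
  have hvg : ∀ φ ∈ S', Cfsg.IsGeneralizedCharacter G (v φ) := by
    intro φ hφ
    rcases (hmemS' φ).1 hφ with h | h | h
    · rw [hv_S₁ φ h]; exact hτ₁.2.2.2 _ (subset_zspan h)
    · rw [h, hv_χ]; exact hvχg
    · rw [h, hv_c]; exact hvcg
  have hsymm0 : ∀ {f g : G → ℂ}, Cfsg.classInner f g = 0 → Cfsg.classInner g f = 0 := by
    intro f g h
    rw [← classInner_conj_symm, h, map_zero]
  have hvv : ∀ x ∈ S', ∀ y ∈ S', Cfsg.classInner (v x) (v y) = Cfsg.classInner x y := by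
    intro x hx y hy
    rcases (hmemS' x).1 hx with h | h | h <;> rcases (hmemS' y).1 hy with h' | h' | h'
    · rw [hv_S₁ x h, hv_S₁ y h', hτ₁.2.2.1 _ (subset_zspan h) _ (subset_zspan h')]
    · rw [h', hv_S₁ x h, hv_χ, hsymm0 (hvχ_orth x h),
        hS.orthogonal x (hS₁ h) χ hχ (fun e => hχ₁ (e ▸ h))]
    · rw [h', hv_S₁ x h, hv_c, hsymm0 (hvc_orth x h),
        hS.orthogonal x (hS₁ h) _ hcχ (fun e => hχ₂ (e ▸ h))]
    · rw [h, hv_S₁ y h', hv_χ, hvχ_orth y h',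
        hS.orthogonal χ hχ y (hS₁ h') (fun e => hχ₁ (e.symm ▸ h'))]
    · rw [h, h', hv_χ, hvχ_norm]
    · rw [h, h', hv_χ, hv_c, hcross, cs_orth_conj hS hχ]
    · rw [h, hv_S₁ y h', hv_c, hvc_orth y h',
        hS.orthogonal _ hcχ y (hS₁ h') (fun e => hχ₂ (e.symm ▸ h'))]
    · rw [h, h', hv_χ, hv_c, hcross']
      rw [← classInner_conj_symm, cs_orth_conj hS hχ, map_zero]
    · rw [h, h', hv_c, hvc_norm]
  obtain ⟨τ₂, hτ₂, hτ₂v⟩ := exists_isometry_of_assignment horth' hne' v hvg hvv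
  have hχS' : χ ∈ S' := (hmemS' χ).2 (Or.inr (Or.inl rfl))
  have hcS' : Cfsg.conjFun χ ∈ S' := (hmemS' _).2 (Or.inr (Or.inr rfl))
  have hχ₁S' : χ₁ ∈ S' := (hmemS' _).2 (Or.inl hχ₁S)
  refine ⟨⟨χ - Cfsg.conjFun χ, sub_mem_zspanOn hχS' hcS' hdeg1.symm, ?_⟩, τ₂, hτ₂, ?_⟩
  · intro h
    exact hS.conj_ne χ hχ (sub_eq_zero.1 h).symm
  intro α hα
  -- expansion of α
  have hfin : S'.Finite := finite_of_orthogonal horth' hne'
  set F : Finset (L → ℂ) := S₁ ∪ {χ, Cfsg.conjFun χ} with hF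
  have hFmem : ∀ x, x ∈ F ↔ x ∈ S' := by
    intro x
    rw [hmemS', hF]
    simp
    tauto
  have hexp := expansion horth' hne' F hFmem hα.1
  have hint := coef_int horth' hne' hα.1
  choose! c hc using hint
  have hα1 : α = ∑ x ∈ F, c x • x := by
    conv_lhs => rw [hexp]
    refine Finset.sum_congr rfl (fun x hx => ?_)
    rw [hc x ((hFmem x).1 hx)]
    funext l
    simp
  have hdisj : Disjoint S₁ ({χ, Cfsg.conjFun χ} : Finset (L → ℂ)) := by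
    rw [Finset.disjoint_left]
    intro x hx hx'
    rcases Finset.mem_insert.1 hx' with h | h
    · exact hχ₁ (h ▸ hx)
    · exact hχ₂ ((Finset.mem_singleton.1 h) ▸ hx)
  rw [hF, Finset.sum_union hdisj, Finset.sum_pair (hS.conj_ne χ hχ).symm] at hα1
  -- the S₁-part
  set γ : L → ℂ := ∑ x ∈ S₁, c x • x + ((c χ + c (Cfsg.conjFun χ)) * a) • χ₁ with hγ
  have hαγ : α = γ + c χ • ψ + c (Cfsg.conjFun χ) • ψ' := by
    rw [hα1, hγ, hψ, hψ']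
    simp only [smul_sub, smul_smul, add_smul, add_mul]
    abel
  have hγspan : γ ∈ Submodule.span ℤ (↑S₁ : Set (L → ℂ)) :=
    Submodule.add_mem _ (Submodule.sum_mem _ (fun x hx =>
      Submodule.smul_mem _ _ (Submodule.subset_span hx)))
      (Submodule.smul_mem _ _ (Submodule.subset_span hχ₁S))
  have hγ1 : γ ∈ Cfsg.zspanOn (↑S₁ : Set (L → ℂ)) ({1}ᶜ : Set L) := by
    refine ⟨hγspan, ?_⟩
    intro x hx
    have hx' : x = 1 := by simpa using hx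
    have h1 : α x = 0 := hα.2 x hx
    have h2 : ψ x = 0 := k4.2 x hx
    have h3 : ψ' x = 0 := k4'.2 x hx
    have h4 : α x = γ x + c χ • ψ x + c (Cfsg.conjFun χ) • ψ' x := by
      conv_lhs => rw [hαγ]
      simp
    rw [h1, h2, h3] at h4
    simpa using h4.symm
  have hγS : γ ∈ Cfsg.zspanOn S ({1}ᶜ : Set L) := ⟨Submodule.span_mono hS₁ hγ1.1, hγ1.2⟩
  have hsub : Cfsg.zspan (↑S₁ : Set (L → ℂ)) ⊆ Cfsg.zspan S' := by
    intro x hx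
    exact Submodule.span_mono (Set.subset_union_left) hx
  have hψS' : ψ ∈ Submodule.span ℤ S' :=
    Submodule.sub_mem _ (Submodule.subset_span hχS')
      (Submodule.smul_mem _ _ (Submodule.subset_span hχ₁S'))
  have hψ'S' : ψ' ∈ Submodule.span ℤ S' :=
    Submodule.sub_mem _ (Submodule.subset_span hcS')
      (Submodule.smul_mem _ _ (Submodule.subset_span hχ₁S'))
  have e1 : τ₂ α = τ₂ γ + c χ • τ₂ ψ + c (Cfsg.conjFun χ) • τ₂ ψ' := by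
    rw [hαγ]
    exact map_lin3 (M := Submodule.span ℤ S') hτ₂ (hsub hγspan) hψS' hψ'S' _ _
  have e2 : τ α = τ γ + c χ • τ ψ + c (Cfsg.conjFun χ) • τ ψ' := by
    rw [hαγ]
    exact map_lin3 hτ hγS k4 k4' _ _
  have e3 : τ₂ γ = τ γ := by
    rw [agree_on_span (isometry_mono hsub hτ₂) hτ₁
      (fun x hx => by rw [hτ₂v x ((hmemS' x).2 (Or.inl hx)), hv_S₁ x hx]) hγspan]
    exact hag γ hγ1
  have e4 : τ₂ ψ = τ ψ := by
    rw [hψ, map_sub_of (M := Submodule.span ℤ S') hτ₂ (Submodule.subset_span hχS')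
      (Submodule.smul_mem _ _ (Submodule.subset_span hχ₁S')), hτ₂.2.1 _ (subset_zspan hχ₁S'),
      hτ₂v χ hχS', hτ₂v χ₁ hχ₁S', hv_χ, hv_S₁ χ₁ hχ₁S, hvχ]
    abel
  have e5 : τ₂ ψ' = τ ψ' := by
    rw [hψ', map_sub_of (M := Submodule.span ℤ S') hτ₂ (Submodule.subset_span hcS')
      (Submodule.smul_mem _ _ (Submodule.subset_span hχ₁S')), hτ₂.2.1 _ (subset_zspan hχ₁S'),
      hτ₂v _ hcS', hτ₂v χ₁ hχ₁S', hv_c, hv_S₁ χ₁ hχ₁S, hvc]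
    abel
  rw [e1, e2, e3, e4, e5]

end Main

end Cfsg.Agent.S1516
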