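import Cfsg.Statements.S1517
import Cfsg.Agent.Lib.Helper17_CohSys

set_option autoImplicit false
open Cfsg

namespace Cfsg.Agent.S1517

open scoped ComplexConjugate
open Cfsg.Agent.Lib.Helper3_CharOrtho Cfsg.Agent.Lib.Helper75_CharArith
  Cfsg.Agent.Lib.Helper17_CohSys

section Aux

variable {G : Type*} [Group G] [Fintype G]

theorem inner_subsum_mem {B T : Finset (G → ℂ)} (hB : ON B) (hT : T ⊆ B)
    {β : G → ℂ} (hβ : β ∈ B) :
    Cfsg.classInner (∑ α ∈ T, α) β = if β ∈ T then 1 else 0 := by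
  rw [classInner_sum_left]
  have : ∀ α ∈ T, Cfsg.classInner α β = if α = β then 1 else 0 :=
    fun α hα => hB α (hT hα) β hβ
  rw [Finset.sum_congr rfl this, Finset.sum_ite_eq' T β]

theorem inner_subsum_subsum {B T T' : Finset (G → ℂ)} (hB : ON B)
    (hT : T ⊆ B) (hT' : T' ⊆ B) :
    Cfsg.classInner (∑ α ∈ T, α) (∑ β ∈ T', β) = ((T' ∩ T).card : ℂ) := by
  rw [classInner_sum_right]
  rw [Finset.sum_congr rfl (fun β hβ => inner_subsum_mem hB hT (hT' hβ))]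
  rw [Finset.sum_boole, Finset.filter_mem_eq_inter]

theorem inner_sums_zero {ι κ : Type*} (s : Finset ι) (t : Finset κ) (u : ι → G → ℂ)
    (w : κ → G → ℂ) (h : ∀ i ∈ s, ∀ j ∈ t, Cfsg.classInner (u i) (w j) = 0) :
    Cfsg.classInner (∑ i ∈ s, u i) (∑ j ∈ t, w j) = 0 := by
  rw [classInner_sum_left]
  apply Finset.sum_eq_zero
  intro i hi
  rw [classInner_sum_right]
  exact Finset.sum_eq_zero (fun j hj => h i hi j hj)

end Aux

section Main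

variable {L : Type*} [Group L] [Fintype L] {G : Type*} [Group G] [Fintype G]
variable {S : Set (L → ℂ)} {τ : (L → ℂ) → (G → ℂ)} {R : (L → ℂ) → Finset (G → ℂ)}

open Classical in
/-- The members of `R χ₁` occurring in `τ (χ₁ - φ)`. -/
noncomputable def TT (τ : (L → ℂ) → (G → ℂ)) (R : (L → ℂ) → Finset (G → ℂ)) (χ₁ φ : L → ℂ) :
    Finset (G → ℂ) :=
  (R χ₁).filter (fun α => Cfsg.classInner (τ (χ₁ - φ)) α = 1)

/-- The part of `τ (χ₁ - φ)` in the span of `R χ₁`. -/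
noncomputable def XX (τ : (L → ℂ) → (G → ℂ)) (R : (L → ℂ) → Finset (G → ℂ)) (χ₁ φ : L → ℂ) :
    G → ℂ :=
  ∑ α ∈ TT τ R χ₁ φ, α

omit [Group L] [Fintype L] in
theorem TT_subset (χ₁ φ : L → ℂ) : TT τ R χ₁ φ ⊆ R χ₁ := by
  classical
  exact Finset.filter_subset _ _

theorem X_props (hS : Cfsg.IsCoherenceSystem S τ R) (hdeg : ∀ φ ∈ S, ∀ ψ ∈ S, φ 1 = ψ 1)
    {χ₁ φ : L → ℂ} (hχ₁ : χ₁ ∈ S) (hφ : φ ∈ S) (h1 : φ ≠ χ₁) (h2 : φ ≠ Cfsg.conjFun χ₁)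
    {n₁ : ℕ} (hn₁ : Cfsg.classInner χ₁ χ₁ = n₁) :
    (TT τ R χ₁ φ).card = n₁ ∧
    τ (χ₁ - φ) = XX τ R χ₁ φ + ∑ α ∈ R φ, Cfsg.classInner (τ (χ₁ - φ)) α • α := by
  classical
  obtain ⟨hsum, h01, -, -, hdecomp⟩ := pair_decomp hS hχ₁ hφ h1 h2 (hdeg χ₁ hχ₁ φ hφ)
  constructor
  · have h3 : ∑ α ∈ R χ₁, ‖Cfsg.classInner (τ (χ₁ - φ)) α‖ ^ 2 =
        ∑ α ∈ R χ₁, (if Cfsg.classInner (τ (χ₁ - φ)) α = 1 then (1 : ℝ) else 0) := by
      refine Finset.sum_congr rfl (fun α hα => ?_)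
      rcases h01 α hα with h | h
      · rw [h, if_neg (by norm_num)]; simp
      · rw [h, if_pos rfl]; simp
    rw [h3, Finset.sum_boole, hn₁] at hsum
    have : ((TT τ R χ₁ φ).card : ℝ) = (n₁ : ℝ) := by
      simpa [TT] using hsum
    exact_mod_cast this
  · have h3 : ∑ α ∈ R χ₁, Cfsg.classInner (τ (χ₁ - φ)) α • α = XX τ R χ₁ φ := by
      unfold XX TT
      rw [Finset.sum_filter]
      refine Finset.sum_congr rfl (fun α hα => ?_)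
      rcases h01 α hα with h | h
      · rw [h, if_neg (by norm_num), zero_smul]
      · rw [h, if_pos rfl, one_smul]
    rw [← h3]
    exact hdecomp

theorem XX_inner_comb (hS : Cfsg.IsCoherenceSystem S τ R) {χ₁ φ ψ : L → ℂ} (hχ₁ : χ₁ ∈ S)
    (hφ : φ ∈ S) (h1 : φ ≠ χ₁) (h2 : φ ≠ Cfsg.conjFun χ₁) (b : (G → ℂ) → ℂ) :
    Cfsg.classInner (XX τ R χ₁ ψ) (∑ β ∈ R φ, b β • β) = 0 := by
  unfold XX
  apply inner_sums_zero
  intro α hα β hβ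
  rw [classInner_smul_right, (cs_R_orth hS hχ₁ hφ h1 h2).2 α (TT_subset χ₁ ψ hα) β hβ, mul_zero]

theorem comb_inner_XX (hS : Cfsg.IsCoherenceSystem S τ R) {χ₁ φ ψ : L → ℂ} (hχ₁ : χ₁ ∈ S)
    (hφ : φ ∈ S) (h1 : φ ≠ χ₁) (h2 : φ ≠ Cfsg.conjFun χ₁) (b : (G → ℂ) → ℂ) :
    Cfsg.classInner (∑ β ∈ R φ, b β • β) (XX τ R χ₁ ψ) = 0 := by
  rw [← classInner_conj_symm, XX_inner_comb hS hχ₁ hφ h1 h2, map_zero]

theorem XX_norm (hS : Cfsg.IsCoherenceSystem S τ R) {χ₁ : L → ℂ} (hχ₁ : χ₁ ∈ S) (φ : L → ℂ) :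
    Cfsg.classInner (XX τ R χ₁ φ) (XX τ R χ₁ φ) = ((TT τ R χ₁ φ).card : ℂ) := by
  classical
  unfold XX
  rw [inner_subsum_subsum (cs_ON hS hχ₁) (TT_subset χ₁ φ) (TT_subset χ₁ φ), Finset.inter_self]

/-- `X` does not depend on `φ`. -/
theorem XX_indep (hS : Cfsg.IsCoherenceSystem S τ R) (hdeg : ∀ φ ∈ S, ∀ ψ ∈ S, φ 1 = ψ 1)
    {χ₁ φ φ' : L → ℂ} (hχ₁ : χ₁ ∈ S) (hφ : φ ∈ S) (h1 : φ ≠ χ₁) (h2 : φ ≠ Cfsg.conjFun χ₁)
    (hφ' : φ' ∈ S) (h1' : φ' ≠ χ₁) (h2' : φ' ≠ Cfsg.conjFun χ₁) :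
    XX τ R χ₁ φ = XX τ R χ₁ φ' := by
  classical
  obtain ⟨n₁, hn₁, -⟩ := cs_norm_nat hS hχ₁
  have hτ := cs_isometry hS
  have hm : χ₁ - φ ∈ Cfsg.zspanOn S ({1}ᶜ : Set L) := sub_mem_zspanOn hχ₁ hφ (hdeg _ hχ₁ _ hφ)
  have hm' : χ₁ - φ' ∈ Cfsg.zspanOn S ({1}ᶜ : Set L) :=
    sub_mem_zspanOn hχ₁ hφ' (hdeg _ hχ₁ _ hφ')
  by_cases hA : φ' = φ
  · rw [hA]
  by_cases hB : φ' = Cfsg.conjFun φ
  · -- the coefficients on `R χ₁` agree
    have hdiff : τ (χ₁ - φ) - τ (χ₁ - φ') = - ∑ β ∈ R φ, β := by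
      rw [← map_sub_of hτ hm hm', ← hS.sum_eq φ hφ, ← map_neg_of hτ (cs_sub_conj_mem hS hφ), hB]
      congr 1
      abel
    have hcoef : ∀ α ∈ R χ₁, Cfsg.classInner (τ (χ₁ - φ)) α = Cfsg.classInner (τ (χ₁ - φ')) α := by
      intro α hα
      have h0 : Cfsg.classInner (τ (χ₁ - φ) - τ (χ₁ - φ')) α = 0 := by
        rw [hdiff, classInner_neg_left, classInner_sum_left, neg_eq_zero]
        exact Finset.sum_eq_zero (fun β hβ => (cs_R_orth hS hχ₁ hφ h1 h2).1 β hβ α hα)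
      rw [classInner_sub_left] at h0
      exact sub_eq_zero.1 h0
    unfold XX TT
    congr 1
    apply Finset.filter_congr
    intro α hα
    rw [hcoef α hα]
  · -- general position: compare inner products
    obtain ⟨hc, hd⟩ := X_props hS hdeg hχ₁ hφ h1 h2 hn₁
    obtain ⟨hc', hd'⟩ := X_props hS hdeg hχ₁ hφ' h1' h2' hn₁
    have hinner : Cfsg.classInner (τ (χ₁ - φ)) (τ (χ₁ - φ')) = n₁ := by
      rw [hS.isometry.2.2.1 _ hm _ hm', classInner_sub_left, classInner_sub_right,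
        classInner_sub_right, hn₁, hS.orthogonal χ₁ hχ₁ φ' hφ' (Ne.symm h1'),
        hS.orthogonal φ hφ χ₁ hχ₁ h1, hS.orthogonal φ hφ φ' hφ' (Ne.symm hA)]
      ring
    have hXX : Cfsg.classInner (XX τ R χ₁ φ) (XX τ R χ₁ φ') = n₁ := by
      rw [hd, hd', classInner_add_left, classInner_add_right, classInner_add_right,
        XX_inner_comb hS hχ₁ hφ' h1' h2', comb_inner_XX hS hχ₁ hφ h1 h2] at hinner
      have hzz : Cfsg.classInner (∑ α ∈ R φ, Cfsg.classInner (τ (χ₁ - φ)) α • α)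
          (∑ α ∈ R φ', Cfsg.classInner (τ (χ₁ - φ')) α • α) = 0 := by
        apply inner_sums_zero
        intro α hα β hβ
        rw [classInner_smul_left, classInner_smul_right,
          (cs_R_orth hS hφ hφ' hA hB).2 α hα β hβ, mul_zero, mul_zero]
      rw [hzz] at hinner
      simpa using hinner
    have hXX' : Cfsg.classInner (XX τ R χ₁ φ') (XX τ R χ₁ φ) = n₁ := by
      rw [← classInner_conj_symm, hXX, Complex.conj_natCast]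
    have hzero : Cfsg.classInner (XX τ R χ₁ φ - XX τ R χ₁ φ') (XX τ R χ₁ φ - XX τ R χ₁ φ') = 0 := by
      rw [classInner_sub_left, classInner_sub_right, classInner_sub_right, XX_norm hS hχ₁,
        XX_norm hS hχ₁, hXX, hXX', hc, hc']
      ring
    exact sub_eq_zero.1 (eq_zero_of_classInner_self hzero)

/-- The key vector `X`. -/
theorem exists_X (hS : Cfsg.IsCoherenceSystem S τ R) (hdeg : ∀ φ ∈ S, ∀ ψ ∈ S, φ 1 = ψ 1)
    {χ₁ : L → ℂ} (hχ₁ : χ₁ ∈ S) {n₁ : ℕ} (hn₁ : Cfsg.classInner χ₁ χ₁ = n₁) :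
    ∃ X : G → ℂ, Cfsg.IsGeneralizedCharacter G X ∧ Cfsg.classInner X X = n₁ ∧
      ∀ φ ∈ S, φ ≠ χ₁ → Cfsg.classInner X (τ (χ₁ - φ)) = n₁ := by
  classical
  have hτ := cs_isometry hS
  -- the cardinality of `R χ₁`
  have hcardR : (R χ₁).card = 2 * n₁ := by
    have h1 : Cfsg.classInner (τ (χ₁ - Cfsg.conjFun χ₁)) (τ (χ₁ - Cfsg.conjFun χ₁)) = 2 * n₁ := by
      rw [hS.isometry.2.2.1 _ (cs_sub_conj_mem hS hχ₁) _ (cs_sub_conj_mem hS hχ₁),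
        classInner_sub_left, classInner_sub_right, classInner_sub_right, hn₁,
        cs_orth_conj hS hχ₁]
      have h2 : Cfsg.classInner (Cfsg.conjFun χ₁) χ₁ = 0 := by
        rw [← classInner_conj_symm, cs_orth_conj hS hχ₁, map_zero]
      have h3 : Cfsg.classInner (Cfsg.conjFun χ₁) (Cfsg.conjFun χ₁) = n₁ := by
        rw [← hn₁]
        unfold Cfsg.classInner Cfsg.conjFun
        congr 1
        refine Finset.sum_congr rfl (fun g _ => ?_)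
        rw [Complex.conj_conj, mul_comm]
      rw [h2, h3]
      ring
    rw [hS.sum_eq χ₁ hχ₁, inner_subsum_subsum (cs_ON hS hχ₁) (Finset.Subset.refl _)
      (Finset.Subset.refl _), Finset.inter_self] at h1
    exact_mod_cast h1
  -- any half of `R χ₁` gives the first two properties and the conjugate case
  have hhalf : ∀ T : Finset (G → ℂ), T ⊆ R χ₁ → T.card = n₁ →
      Cfsg.IsGeneralizedCharacter G (∑ α ∈ T, α) ∧
      Cfsg.classInner (∑ α ∈ T, α) (∑ α ∈ T, α) = n₁ ∧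
      Cfsg.classInner (∑ α ∈ T, α) (τ (χ₁ - Cfsg.conjFun χ₁)) = n₁ := by
    intro T hT hTc
    refine ⟨gen_sum _ _ (fun α hα => hS.virtual χ₁ hχ₁ α (hT hα)), ?_, ?_⟩
    · rw [inner_subsum_subsum (cs_ON hS hχ₁) hT hT, Finset.inter_self, hTc]
    · rw [hS.sum_eq χ₁ hχ₁, inner_subsum_subsum (cs_ON hS hχ₁) hT (Finset.Subset.refl _),
        Finset.inter_eq_right.2 hT, hTc]
  by_cases hex : ∃ φ₀ ∈ S, φ₀ ≠ χ₁ ∧ φ₀ ≠ Cfsg.conjFun χ₁
  · obtain ⟨φ₀, hφ₀, h1, h2⟩ := hex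
    obtain ⟨hc, -⟩ := X_props hS hdeg hχ₁ hφ₀ h1 h2 hn₁
    obtain ⟨hg, hn, hcj⟩ := hhalf (TT τ R χ₁ φ₀) (TT_subset χ₁ φ₀) hc
    refine ⟨XX τ R χ₁ φ₀, hg, hn, ?_⟩
    intro φ hφ hne
    by_cases hcase : φ = Cfsg.conjFun χ₁
    · rw [hcase]; exact hcj
    · rw [XX_indep hS hdeg hχ₁ hφ₀ h1 h2 hφ hne hcase]
      obtain ⟨hc', hd'⟩ := X_props hS hdeg hχ₁ hφ hne hcase hn₁
      conv_lhs => rw [hd']
      rw [classInner_add_right, XX_inner_comb hS hχ₁ hφ hne hcase, add_zero, XX_norm hS hχ₁, hc']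
  · push Not at hex
    obtain ⟨T, hT, hTc⟩ := Finset.exists_subset_card_eq (s := R χ₁) (n := n₁) (by omega)
    obtain ⟨hg, hn, hcj⟩ := hhalf T hT hTc
    refine ⟨∑ α ∈ T, α, hg, hn, ?_⟩
    intro φ hφ hne
    rw [hex φ hφ hne]
    exact hcj

/-- Let (S, τ, R) be a coherence system from L to G such that φ 1 = ψ 1 for all φ, ψ ∈ S. Then (S, L minus 1, τ) is coherent. -/
theorem result {L : Type*} [Group L] [Fintype L] {G : Type*} [Group G] [Fintype G] (S : Set (L → ℂ)) (τ : (L → ℂ) → (G → ℂ)) (R : (L → ℂ) → Finset (G → ℂ)) (hS : Cfsg.IsCoherenceSystem S τ R) (hdeg : ∀ φ ∈ S, ∀ ψ ∈ S, φ 1 = ψ 1) : Cfsg.IsCoherent S {1}ᶜ τ := by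
  classical
  obtain ⟨χ₁, hχ₁⟩ := hS.nonempty
  obtain ⟨n₁, hn₁, -⟩ := cs_norm_nat hS hχ₁
  obtain ⟨X, hXg, hXX, hXτ⟩ := exists_X hS hdeg hχ₁ hn₁
  have hτ := cs_isometry hS
  have hne : ∀ χ ∈ S, Cfsg.classInner χ χ ≠ 0 := fun χ hχ => cs_norm_ne_zero hS hχ
  refine ⟨⟨χ₁ - Cfsg.conjFun χ₁, cs_sub_conj_mem hS hχ₁, ?_⟩, ?_⟩
  · intro h
    exact hS.conj_ne χ₁ hχ₁ (sub_eq_zero.1 h).symm
  -- the assignment `v`
  have hmem : ∀ φ ∈ S, χ₁ - φ ∈ Cfsg.zspanOn S ({1}ᶜ : Set L) :=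
    fun φ hφ => sub_mem_zspanOn hχ₁ hφ (hdeg _ hχ₁ _ hφ)
  have hτ0 : τ (χ₁ - χ₁) = 0 := by rw [sub_self]; exact map_zero_of hτ
  have hvg : ∀ φ ∈ S, Cfsg.IsGeneralizedCharacter G (X - τ (χ₁ - φ)) :=
    fun φ hφ => gen_sub hXg (hS.isometry.2.2.2 _ (hmem φ hφ))
  have hXτ' : ∀ φ ∈ S, Cfsg.classInner X (τ (χ₁ - φ)) = if φ = χ₁ then 0 else (n₁ : ℂ) := by
    intro φ hφ
    split_ifs with h
    · rw [h, hτ0, classInner_zero_right]
    · exact hXτ φ hφ h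
  have hτX' : ∀ φ ∈ S, Cfsg.classInner (τ (χ₁ - φ)) X = if φ = χ₁ then 0 else (n₁ : ℂ) := by
    intro φ hφ
    rw [← classInner_conj_symm, hXτ' φ hφ]
    split_ifs <;> simp
  have hvv : ∀ χ ∈ S, ∀ φ ∈ S, Cfsg.classInner (X - τ (χ₁ - χ)) (X - τ (χ₁ - φ)) =
      Cfsg.classInner χ φ := by
    intro χ hχ φ hφ
    rw [classInner_sub_left, classInner_sub_right, classInner_sub_right, hXX, hXτ' φ hφ,
      hτX' χ hχ, hS.isometry.2.2.1 _ (hmem χ hχ) _ (hmem φ hφ), classInner_sub_left,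
      classInner_sub_right, classInner_sub_right, hn₁]
    by_cases h1 : χ = χ₁ <;> by_cases h2 : φ = χ₁
    · rw [h1, h2, if_pos rfl, hn₁]; ring
    · rw [h1, if_pos rfl, if_neg h2, hn₁, hS.orthogonal χ₁ hχ₁ φ hφ (Ne.symm h2)]; ring
    · rw [h2, if_pos rfl, if_neg h1, hn₁, hS.orthogonal χ hχ χ₁ hχ₁ h1]; ring
    · rw [if_neg h1, if_neg h2, hS.orthogonal χ hχ χ₁ hχ₁ h1,
        hS.orthogonal χ₁ hχ₁ φ hφ (Ne.symm h2)]; ring
  obtain ⟨τ₁, hτ₁, hτ₁v⟩ := exists_isometry_of_assignment hS.orthogonal hne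
    (fun φ => X - τ (χ₁ - φ)) hvg hvv
  refine ⟨τ₁, hτ₁, ?_⟩
  intro α hα
  have hfin : S.Finite := finite_of_orthogonal hS.orthogonal hne
  set F : Finset (L → ℂ) := hfin.toFinset with hFdef
  have hF : ∀ χ, χ ∈ F ↔ χ ∈ S := fun χ => hfin.mem_toFinset
  have hexp := expansion hS.orthogonal hne F hF hα.1
  have hint := coef_int hS.orthogonal hne hα.1
  choose! c hc using hint
  have hα1 : α = ∑ χ ∈ F, c χ • χ := by
    conv_lhs => rw [hexp]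
    refine Finset.sum_congr rfl (fun χ hχ => ?_)
    rw [hc χ ((hF χ).1 hχ)]
    funext l
    simp
  have hd : χ₁ 1 ≠ 0 := fun h =>
    cs_ne_zero hS hχ₁ (char_eq_zero_of_apply_one (hS.isCharacter χ₁ hχ₁) h)
  have hsum0 : ∑ χ ∈ F, c χ = 0 := by
    have h1 : α 1 = 0 := hα.2 1 (by simp)
    rw [hα1, Finset.sum_apply] at h1
    have h2 : ∑ χ ∈ F, (c χ • χ) 1 = ((∑ χ ∈ F, c χ : ℤ) : ℂ) * χ₁ 1 := by
      push_cast
      rw [Finset.sum_mul]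
      refine Finset.sum_congr rfl (fun χ hχ => ?_)
      rw [Pi.smul_apply, hdeg χ ((hF χ).1 hχ) χ₁ hχ₁]
      simp
    rw [h2] at h1
    have := (mul_eq_zero.1 h1).resolve_right hd
    exact_mod_cast this
  have hα2 : α = ∑ χ ∈ F, c χ • (χ - χ₁) := by
    have : ∑ χ ∈ F, c χ • (χ - χ₁) = ∑ χ ∈ F, c χ • χ - (∑ χ ∈ F, c χ) • χ₁ := by
      rw [Finset.sum_smul, ← Finset.sum_sub_distrib]
      exact Finset.sum_congr rfl (fun χ _ => smul_sub _ _ _)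
    rw [this, hsum0, zero_smul, sub_zero]
    exact hα1
  have hV3 : ∀ χ ∈ S, τ (χ - χ₁) = (X - τ (χ₁ - χ)) - (X - τ (χ₁ - χ₁)) := by
    intro χ hχ
    rw [hτ0, sub_zero, sub_sub_cancel_left, ← map_neg_of hτ (hmem χ hχ), neg_sub]
  have e1 : τ₁ α = ∑ χ ∈ F, c χ • (X - τ (χ₁ - χ)) := by
    conv_lhs => rw [hα1]
    rw [map_sum_of (M := Submodule.span ℤ S) hτ₁ F c (fun χ => χ)
      (fun χ hχ => Submodule.subset_span ((hF χ).1 hχ))]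
    exact Finset.sum_congr rfl (fun χ hχ => by rw [hτ₁v χ ((hF χ).1 hχ)])
  have e2 : τ α = ∑ χ ∈ F, c χ • (X - τ (χ₁ - χ)) := by
    conv_lhs => rw [hα2]
    rw [map_sum_of hτ F c (fun χ => χ - χ₁)
      (fun χ hχ => sub_mem_zspanOn ((hF χ).1 hχ) hχ₁ (hdeg _ ((hF χ).1 hχ) _ hχ₁))]
    have : ∑ χ ∈ F, c χ • τ (χ - χ₁) =
        ∑ χ ∈ F, c χ • (X - τ (χ₁ - χ)) - (∑ χ ∈ F, c χ) • (X - τ (χ₁ - χ₁)) := by
      rw [Finset.sum_smul, ← Finset.sum_sub_distrib]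
      exact Finset.sum_congr rfl (fun χ hχ => by rw [hV3 χ ((hF χ).1 hχ), smul_sub])
    rw [this, hsum0, zero_smul, sub_zero]
  rw [e1, e2]

end Main

end Cfsg.Agent.S1517
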