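import Cfsg.Statements.S0927
import Cfsg.Agent.Lib.Helper16_HeightZero
import Cfsg.Agent.Lib.Helper16_CentralDefect

set_option autoImplicit false
open Cfsg

namespace Cfsg.Agent.S0927

open Cfsg.Agent.Lib.Helper16_HeightZero Cfsg.Agent.Lib.Helper16_CentralDefect

/-- Let y represent a defect class of the block B of the finite group G (relative to a maximal ideal M of the algebraic integers containing the prime p), let P be a Sylow p-subgroup of the centralizer of y and let x ∈ P. Then (i) χ (x * y) is not in the local ideal at M for every height-zero member χ of B; and (ii) if moreover x is central in P, the central character of every member of B at x * y is not in the local ideal. -/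
theorem result {G : Type*} [Group G] [Finite G] (p : ℕ) [Fact p.Prime] (M : Ideal Cfsg.AlgInt) (hM : Cfsg.IsPModular p M) (B : Set (Cfsg.IrrCharacter G)) (hB : Cfsg.IsPBlock M B) (y : G) (hy : Cfsg.IsDefectClass M B y) (P : Sylow p (Subgroup.centralizer ({y} : Set G))) (x : Subgroup.centralizer ({y} : Set G)) (hx : x ∈ (P : Subgroup (Subgroup.centralizer ({y} : Set G)))) : (∀ χ ∈ B, Cfsg.blockHeight p B (χ : G → ℂ) = 0 → ¬ Cfsg.MemLocalIdeal M ((χ : G → ℂ) ((x : G) * y))) ∧ ((∀ w ∈ (P : Subgroup (Subgroup.centralizer ({y} : Set G))), x * w = w * x) → ∀ χ ∈ B, ¬ Cfsg.MemLocalIdeal M (Cfsg.centralChar (χ : G → ℂ) ((x : G) * y))) := by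
  refine ⟨?_, ?_⟩
  · intro χ hχ h0
    have hxy : (x : G) * y = y * (x : G) := by
      have := x.2
      rw [Subgroup.mem_centralizer_iff] at this
      exact (this y (Set.mem_singleton _)).symm
    obtain ⟨k, hk⟩ := exists_orderOf_eq_pow_of_mem P.isPGroup' hx
    have hk' : orderOf (x : G) = p ^ k := by
      rw [← hk]
      exact (Subgroup.orderOf_coe x)
    exact irr_not_memLocalIdeal_mul_defectClass hM hB hy χ hχ h0 hxy hk'
  · intro hcen χ hχ
    exact centralChar_not_memLocalIdeal_mul hM hB hy P x hx hcen χ hχ

end Cfsg.Agent.S0927
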