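import Cfsg.Statements.S2270
-- import your own Cfsg.Agent.* helpers here

set_option autoImplicit false
open Cfsg

namespace Cfsg.Agent.S2270

/-- The normalizer of a subgroup normalizes its centralizer. -/
theorem normalizer_le_normalizer_centralizer {G : Type*} [Group G] (Q : Subgroup G) :
    Subgroup.normalizer (Q : Set G) ≤
      Subgroup.normalizer ((Subgroup.centralizer (Q : Set G) : Subgroup G) : Set G) := by
  intro g hg
  rw [Subgroup.mem_normalizer_iff]
  have key : ∀ g ∈ Subgroup.normalizer (Q : Set G), ∀ c ∈ Subgroup.centralizer (Q : Set G),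
      g * c * g⁻¹ ∈ Subgroup.centralizer (Q : Set G) := by
    intro g hg c hc
    rw [Subgroup.mem_centralizer_iff] at hc ⊢
    intro q hq
    have hq' : g⁻¹ * q * g ∈ Q := (Subgroup.mem_normalizer_iff''.mp hg q).mp hq
    have := hc _ hq'
    calc q * (g * c * g⁻¹) = g * ((g⁻¹ * q * g) * c) * g⁻¹ := by group
      _ = g * (c * (g⁻¹ * q * g)) * g⁻¹ := by rw [this]
      _ = g * c * g⁻¹ * q := by group
  intro c
  constructor
  · exact key g hg c
  · intro h
    have := key g⁻¹ (inv_mem hg) _ h
    simpa [mul_assoc] using this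

/-- If an element `x` of odd order `> 1` in an abelian Sylow `p`-subgroup `P` is conjugate in `G`
to its inverse, then `N_G(P)/C_G(P)` has even order. -/
theorem even_automizer_of_isConj_inv {G : Type*} [Group G] [Finite G] {p : ℕ} [Fact p.Prime]
    (P : Sylow p G) (hP : IsMulCommutative (P : Subgroup G))
    (x : G) (hx : x ∈ (P : Subgroup G)) (hx2 : x ^ 2 ≠ 1) (hconj : IsConj x x⁻¹) :
    2 ∣ ((Subgroup.centralizer ((P : Subgroup G) : Set G)).subgroupOf
      (Subgroup.normalizer ((P : Subgroup G) : Set G))).index := by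
  obtain ⟨g, hg⟩ := isConj_iff.mp hconj
  -- Burnside: fusion in an abelian Sylow subgroup is controlled by its normalizer
  have : IsMulCommutative (P : Subgroup G) := hP
  have hy : (g⁻¹)⁻¹ * x * g⁻¹ ∈ (P : Subgroup G) := by
    rw [inv_inv, hg]; exact inv_mem hx
  obtain ⟨n, hn, hnx⟩ := Sylow.conj_eq_normalizer_conj_of_mem P x g⁻¹ hx hy
  rw [inv_inv, hg] at hnx
  -- m = n⁻¹ inverts x
  set m := n⁻¹ with hm
  have hmN : m ∈ Subgroup.normalizer ((P : Subgroup G) : Set G) := inv_mem hn
  have hmx : SemiconjBy m x x⁻¹ := by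
    unfold SemiconjBy
    rw [hnx, hm]; group
  have hmx' : SemiconjBy m x⁻¹ x := by
    have := hmx.inv_right
    rwa [inv_inv] at this
  have hm2 : Commute (m * m) x := hmx'.mul_left hmx
  by_contra h2
  set k := ((Subgroup.centralizer ((P : Subgroup G) : Set G)).subgroupOf
      (Subgroup.normalizer ((P : Subgroup G) : Set G))).index with hk
  have hkodd : k % 2 = 1 := by omega
  have hnormal : ((Subgroup.centralizer ((P : Subgroup G) : Set G)).subgroupOf
      (Subgroup.normalizer ((P : Subgroup G) : Set G))).Normal :=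
    Subgroup.normal_subgroupOf_of_le_normalizer (normalizer_le_normalizer_centralizer _)
  have hmem := Subgroup.pow_index_mem ((Subgroup.centralizer ((P : Subgroup G) : Set G)).subgroupOf
      (Subgroup.normalizer ((P : Subgroup G) : Set G))) (⟨m, hmN⟩ : Subgroup.normalizer ((P : Subgroup G) : Set G))
  rw [← hk, Subgroup.mem_subgroupOf] at hmem
  have hmem' : m ^ k ∈ Subgroup.centralizer ((P : Subgroup G) : Set G) := by
    simpa using hmem
  have hcomm : x * m ^ k = m ^ k * x := (Subgroup.mem_centralizer_iff.mp hmem') x hx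
  -- but m ^ k inverts x
  have hk2 : k = 2 * (k / 2) + 1 := by omega
  have hsemi : SemiconjBy (m ^ k) x x⁻¹ := by
    rw [hk2, pow_succ, pow_mul, pow_two]
    exact ((hm2.pow_left (k / 2)).inv_right).semiconjBy.mul_left hmx
  have : x = x⁻¹ := by
    have h1 : m ^ k * x = x⁻¹ * m ^ k := hsemi
    rw [← hcomm] at h1
    exact mul_right_cancel h1
  apply hx2
  rw [pow_two]
  nth_rewrite 1 [this]
  exact inv_mul_cancel x

/-- Let n ≥ 3, p an odd prime, and P an abelian Sylow p-subgroup of the symmetric group S_n (with p dividing n!, so that P ≠ 1). Then N(P)/C(P) has even order. -/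
theorem result (n : ℕ) (hn : 3 ≤ n) {p : ℕ} [Fact p.Prime] (hp : p ≠ 2) (hpn : p ≤ n)
    (P : Sylow p (Equiv.Perm (Fin n))) (hP : IsMulCommutative (P : Subgroup (Equiv.Perm (Fin n)))) :
    2 ∣ ((Subgroup.centralizer ((P : Subgroup (Equiv.Perm (Fin n))) : Set (Equiv.Perm (Fin n)))).subgroupOf (Subgroup.normalizer ((P : Subgroup (Equiv.Perm (Fin n))) : Set (Equiv.Perm (Fin n))))).index := by
  classical
  have hpp : p.Prime := Fact.out
  -- p divides n!
  have hdvd : p ∣ Nat.card (Equiv.Perm (Fin n)) := by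
    rw [Nat.card_eq_fintype_card, Fintype.card_perm, Fintype.card_fin]
    exact Nat.dvd_factorial hpp.pos hpn
  have hdvdP : p ∣ Nat.card (P : Subgroup (Equiv.Perm (Fin n))) := P.dvd_card_of_dvd_card hdvd
  obtain ⟨x, hx⟩ := exists_prime_orderOf_dvd_card' (G := (P : Subgroup (Equiv.Perm (Fin n)))) p hdvdP
  have hxo : orderOf (x : Equiv.Perm (Fin n)) = p := by
    rw [Subgroup.orderOf_coe]; exact hx
  apply even_automizer_of_isConj_inv P hP (x : Equiv.Perm (Fin n)) x.2
  · intro h2
    have := orderOf_dvd_of_pow_eq_one h2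
    rw [hxo] at this
    have := (Nat.prime_dvd_prime_iff_eq hpp Nat.prime_two).mp this
    exact hp this
  · rw [Equiv.Perm.isConj_iff_cycleType_eq, Equiv.Perm.cycleType_inv]

end Cfsg.Agent.S2270
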