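import Cfsg.Statements.S2269
import Cfsg.Agent.S2270

set_option autoImplicit false
open Cfsg

namespace Cfsg.Agent.S2269
open Equiv Equiv.Perm


/-- a 4-cycle times a transposition -/
def r6 : Perm (Fin 6) := swap 0 1 * swap 1 2 * swap 2 3 * swap 4 5
/-- a double transposition -/
def s6 : Perm (Fin 6) := swap 0 2 * swap 4 5

theorem r6_pow : r6 ^ 4 = 1 := by decide
theorem s6_pow : s6 ^ 2 = 1 := by decide
theorem s6_r6 : s6 * r6 * s6⁻¹ = r6 ^ 3 := by decide
theorem r6_s6_ne : r6 * s6 ≠ s6 * r6 := by decide
theorem r6_sign : Perm.sign r6 = 1 := by decide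
theorem s6_sign : Perm.sign s6 = 1 := by decide




/-- If a Sylow `p`-subgroup is commutative then any two elements of a `p`-subgroup commute. -/
theorem comm_of_isPGroup {G : Type*} [Group G] [Finite G] {p : ℕ} [Fact p.Prime]
    (P : Sylow p G) (hP : IsMulCommutative (P : Subgroup G)) (D : Subgroup G) (hD : IsPGroup p D)
    (x y : G) (hx : x ∈ D) (hy : y ∈ D) : x * y = y * x := by
  obtain ⟨Q, hQ⟩ := hD.exists_le_sylow
  obtain ⟨g, rfl⟩ := MulAction.exists_smul_eq G P Q
  have hx' := hQ hx
  have hy' := hQ hy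
  rw [Sylow.coe_subgroup_smul] at hx' hy'
  obtain ⟨a, ha, rfl⟩ := hx'
  obtain ⟨b, hb, rfl⟩ := hy'
  have hab : a * b = b * a := by
    have := hP.is_comm.comm ⟨a, ha⟩ ⟨b, hb⟩
    exact congrArg Subtype.val this
  simp only [MulDistribMulAction.toMonoidEnd_apply, MulDistribMulAction.toMonoidHom_apply,
    MulAut.smul_def, MulAut.conj_apply]
  calc g * a * g⁻¹ * (g * b * g⁻¹) = g * (a * b) * g⁻¹ := by group
    _ = g * (b * a) * g⁻¹ := by rw [hab]
    _ = g * b * g⁻¹ * (g * a * g⁻¹) := by group

/-- zpowers of an element killed by `p ^ k` is a `p`-group -/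
theorem isPGroup_zpowers {G : Type*} [Group G] {p : ℕ} [Fact p.Prime] (x : G) (k : ℕ)
    (hx : x ^ p ^ k = 1) : IsPGroup p (Subgroup.zpowers x) := by
  apply IsPGroup.of_card_dvd_pow (n := k)
  rw [Nat.card_zpowers]
  exact orderOf_dvd_of_pow_eq_one hx

/-- the Sylow 2-subgroups of `A_n`, `n ≥ 6`, are not commutative -/
theorem not_comm_two (n : ℕ) (hn : 6 ≤ n) (P : Sylow 2 (alternatingGroup (Fin n)))
    (hP : IsMulCommutative (P : Subgroup (alternatingGroup (Fin n)))) : False := by
  let φ : Perm (Fin 6) →* Perm (Fin n) :=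
    Perm.extendDomainHom (Equiv.ofInjective (Fin.castLEEmb hn) (Fin.castLEEmb hn).injective)
  have hφ : Function.Injective φ := Perm.extendDomainHom_injective _
  have hsign : ∀ σ : Perm (Fin 6), Perm.sign (φ σ) = Perm.sign σ := by
    intro σ
    exact Perm.sign_extendDomain σ _
  let r : alternatingGroup (Fin n) := ⟨φ r6, by rw [mem_alternatingGroup, hsign, r6_sign]⟩
  let s : alternatingGroup (Fin n) := ⟨φ s6, by rw [mem_alternatingGroup, hsign, s6_sign]⟩
  have hr : r ^ 2 ^ 2 = 1 := by
    apply Subtype.ext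
    change (φ r6) ^ 2 ^ 2 = 1
    rw [← map_pow, show (2:ℕ) ^ 2 = 4 from rfl, r6_pow, map_one]
  have hs : s ^ 2 ^ 1 = 1 := by
    apply Subtype.ext
    change (φ s6) ^ 2 ^ 1 = 1
    rw [← map_pow, show (2:ℕ) ^ 1 = 2 from rfl, s6_pow, map_one]
  have hsr : s * r * s⁻¹ = r ^ 3 := by
    apply Subtype.ext
    change φ s6 * φ r6 * (φ s6)⁻¹ = (φ r6) ^ 3
    rw [← map_inv, ← map_mul, ← map_mul, ← map_pow, s6_r6]
  have hne : r * s ≠ s * r := by
    intro h
    apply r6_s6_ne
    apply hφ
    have := congrArg Subtype.val h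
    change φ r6 * φ s6 = φ s6 * φ r6 at this
    rw [map_mul, map_mul, this]
  have hD : IsPGroup 2 (Subgroup.zpowers s ⊔ Subgroup.zpowers r : Subgroup (alternatingGroup (Fin n))) := by
    apply IsPGroup.to_sup_of_normal_right' (isPGroup_zpowers s 1 hs) (isPGroup_zpowers r 2 hr)
    rw [Subgroup.zpowers_le]
    rw [Subgroup.mem_normalizer_iff]
    have key : ∀ h, h ∈ Subgroup.zpowers r → s * h * s⁻¹ ∈ Subgroup.zpowers r := by
      intro h hh
      obtain ⟨k, rfl⟩ := Subgroup.mem_zpowers_iff.mp hh
      have : s * r ^ k * s⁻¹ = (s * r * s⁻¹) ^ k := by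
        rw [conj_zpow]
      rw [this, hsr]
      exact Subgroup.zpow_mem _ (Subgroup.pow_mem _ (Subgroup.mem_zpowers r) 3) k
    intro h
    constructor
    · exact key h
    · intro hh
      have hs2 : s⁻¹ = s := by
        have : s * s = 1 := by simpa [pow_two] using hs
        exact inv_eq_of_mul_eq_one_left this
      have := key _ hh
      rw [hs2] at this
      have e : s * (s * h * s) * s = (s * s) * h * (s * s) := by group
      have hss : s * s = 1 := by simpa [pow_two] using hs
      rw [e, hss, one_mul, mul_one] at this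
      exact this
  exact hne (comm_of_isPGroup P hP _ hD r s
    (Subgroup.mem_sup_right (Subgroup.mem_zpowers r)) (Subgroup.mem_sup_left (Subgroup.mem_zpowers s)))




/-- every `p`-element is conjugate into a given Sylow `p`-subgroup -/
theorem exists_conj_mem_sylow {G : Type*} [Group G] [Finite G] {p : ℕ} [Fact p.Prime]
    (P : Sylow p G) (x : G) (k : ℕ) (hx : x ^ p ^ k = 1) : ∃ y ∈ (P : Subgroup G), IsConj x y := by
  obtain ⟨Q, hQ⟩ := (isPGroup_zpowers x k hx).exists_le_sylow
  obtain ⟨g, rfl⟩ := MulAction.exists_smul_eq G P Q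
  have hx' := hQ (Subgroup.mem_zpowers x)
  rw [Sylow.coe_subgroup_smul] at hx'
  obtain ⟨a, ha, rfl⟩ := hx'
  refine ⟨a, ha, ?_⟩
  rw [isConj_comm, isConj_iff]
  exact ⟨g, rfl⟩

theorem isConj_inv_of {G : Type*} [Group G] {x y : G} (h : IsConj x y) : IsConj x⁻¹ y⁻¹ := by
  obtain ⟨c, hc⟩ := isConj_iff.mp h
  rw [isConj_iff]
  exact ⟨c, by rw [← hc]; group⟩

/-- the case `p` odd and `p + 2 ≤ n` -/
theorem even_case (n : ℕ) {p : ℕ} [Fact p.Prime] (hp2 : p ≠ 2) (hpn : p + 2 ≤ n)
    (P : Sylow p (alternatingGroup (Fin n)))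
    (hP : IsMulCommutative (P : Subgroup (alternatingGroup (Fin n)))) :
    2 ∣ ((Subgroup.centralizer ((P : Subgroup (alternatingGroup (Fin n))) : Set (alternatingGroup (Fin n)))).subgroupOf
      (Subgroup.normalizer ((P : Subgroup (alternatingGroup (Fin n))) : Set (alternatingGroup (Fin n))))).index := by
  have hpp : p.Prime := Fact.out
  have hodd : Odd p := hpp.odd_of_ne_two hp2
  -- a p-cycle
  obtain ⟨c, hc⟩ := (Equiv.Perm.exists_with_cycleType_iff (α := Fin n) (m := {p})).mpr
    ⟨by simp; omega, by simp; exact hpp.two_le⟩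
  have hsign : Perm.sign c = 1 := by
    rw [Perm.sign_of_cycleType, hc]
    simp only [Multiset.sum_singleton, Multiset.card_singleton]
    exact Even.neg_one_pow hodd.add_one
  have hsupp : c.support.card = p := by
    rw [← Perm.sum_cycleType, hc, Multiset.sum_singleton]
  have hord : orderOf c = p := by
    rw [← Perm.lcm_cycleType, hc, Multiset.lcm_singleton, normalize_eq]
  let x : alternatingGroup (Fin n) := ⟨c, mem_alternatingGroup.mpr hsign⟩
  have hxinv : IsConj x x⁻¹ := by
    apply alternatingGroup.isConj_of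
    · rw [Perm.isConj_iff_cycleType_eq]
      change c.cycleType = (c⁻¹).cycleType
      rw [Perm.cycleType_inv]
    · change c.support.card + 2 ≤ Fintype.card (Fin n)
      rw [hsupp, Fintype.card_fin]; exact hpn
  have hxo : orderOf x = p := by
    rw [← hord]
    exact Subgroup.orderOf_mk c _
  have hxp : x ^ p ^ 1 = 1 := by
    rw [pow_one, ← hxo]; exact pow_orderOf_eq_one x
  obtain ⟨y, hyP, hxy⟩ := exists_conj_mem_sylow P x 1 hxp
  have hyinv : IsConj y y⁻¹ := (hxy.symm.trans hxinv).trans (isConj_inv_of hxy)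
  have hyo : orderOf y = p := by
    obtain ⟨g, hg⟩ := isConj_iff.mp hxy
    have hs : SemiconjBy g x y := by
      unfold SemiconjBy; rw [← hg]; group
    rw [← hs.orderOf_eq, hxo]
  apply Cfsg.Agent.S2270.even_automizer_of_isConj_inv P hP y hyP _ hyinv
  intro h2
  have := orderOf_dvd_of_pow_eq_one h2
  rw [hyo] at this
  exact hp2 ((Nat.prime_dvd_prime_iff_eq hpp Nat.prime_two).mp this)

/-- the case `n ≤ p + 1` -/
theorem cyclic_case (n : ℕ) {p : ℕ} [Fact p.Prime] (hp2 : p ≠ 2) (hpn : n ≤ p + 1)
    (P : Sylow p (alternatingGroup (Fin n))) :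
    IsCyclic (P : Subgroup (alternatingGroup (Fin n))) := by
  have hpp : p.Prime := Fact.out
  have hp3 : 3 ≤ p := by
    have := hpp.two_le
    omega
  obtain ⟨k, hk⟩ := IsPGroup.iff_card.mp P.2
  have h1 : Nat.card (P : Subgroup (alternatingGroup (Fin n))) ∣ Nat.card (alternatingGroup (Fin n)) :=
    Subgroup.card_subgroup_dvd_card _
  have h2 : Nat.card (alternatingGroup (Fin n)) ∣ n.factorial := by
    have : Nat.card (alternatingGroup (Fin n)) ∣ Nat.card (Perm (Fin n)) :=
      Subgroup.card_subgroup_dvd_card _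
    rwa [Nat.card_eq_fintype_card (α := Perm (Fin n)), Fintype.card_perm, Fintype.card_fin] at this
  have h3 : p ^ k ∣ n.factorial := by rw [← hk]; exact h1.trans h2
  have hk1 : k ≤ 1 := by
    by_contra hk2
    push Not at hk2
    have h4 : p ^ 2 ∣ n.factorial := (pow_dvd_pow p hk2).trans h3
    have hlog : Nat.log p n < 2 := by
      rcases Nat.eq_zero_or_pos n with h0 | h0
      · rw [h0, Nat.log_zero_right]; norm_num
      · apply Nat.log_lt_of_lt_pow (by omega)
        nlinarith
    rw [Nat.Prime.pow_dvd_factorial_iff hpp hlog] at h4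
    simp at h4
    have : n / p < 2 := by
      apply Nat.div_lt_of_lt_mul
      omega
    omega
  apply isCyclic_of_card_dvd_prime (p := p)
  rw [hk]
  interval_cases k
  · simp
  · simp




set_option maxRecDepth 100000 in
theorem no_order_four : ∀ σ : Perm (Fin 5), Perm.sign σ = 1 → σ ^ 4 = 1 → σ ^ 2 = 1 := by decide




theorem card_A5 : Nat.card (alternatingGroup (Fin 5)) = 60 := by
  have := two_mul_nat_card_alternatingGroup (α := Fin 5)
  rw [Nat.card_eq_fintype_card (α := Perm (Fin 5)), Fintype.card_perm, Fintype.card_fin] at this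
  have h5 : Nat.factorial 5 = 120 := by decide
  omega

theorem klein_case (P : Sylow 2 (alternatingGroup (Fin 5)))
    (hP : IsMulCommutative (P : Subgroup (alternatingGroup (Fin 5)))) :
    ((Subgroup.centralizer ((P : Subgroup (alternatingGroup (Fin 5))) : Set (alternatingGroup (Fin 5)))).subgroupOf
      (Subgroup.normalizer ((P : Subgroup (alternatingGroup (Fin 5))) : Set (alternatingGroup (Fin 5))))).index = 3 ∧
    IsKleinFour (P : Subgroup (alternatingGroup (Fin 5))) := by
  have h60 := card_A5
  -- card P = 4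
  obtain ⟨k, hk⟩ := IsPGroup.iff_card.mp P.2
  have hidx := (P : Subgroup (alternatingGroup (Fin 5))).card_mul_index
  have hnd := P.not_dvd_index
  rw [hk, h60] at hidx
  have hcard : Nat.card (P : Subgroup (alternatingGroup (Fin 5))) = 4 := by
    rw [hk]
    have hk6 : k < 6 := by
      by_contra h
      push Not at h
      have h1 : 2 ^ 6 ∣ 2 ^ k := pow_dvd_pow 2 h
      have h2 : 2 ^ k ∣ 60 := Dvd.intro _ hidx
      have := h1.trans h2
      omega
    interval_cases k <;> first | rfl | (exfalso; omega)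
  have hindex : (P : Subgroup (alternatingGroup (Fin 5))).index = 15 := by
    rw [hk] at hcard
    rw [hcard] at hidx
    omega
  -- exponent
  have hexp : ∀ x : (P : Subgroup (alternatingGroup (Fin 5))), x ^ 2 = 1 := by
    intro x
    have h4 : x ^ 4 = 1 := by rw [← hcard]; exact pow_card_eq_one'
    have h4' : ((x : alternatingGroup (Fin 5)) : Perm (Fin 5)) ^ 4 = 1 := by
      have := congrArg (fun y : (P : Subgroup (alternatingGroup (Fin 5))) =>
        ((y : alternatingGroup (Fin 5)) : Perm (Fin 5))) h4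
      simpa using this
    have h2' := no_order_four _ (mem_alternatingGroup.mp (x : alternatingGroup (Fin 5)).2) h4'
    apply Subtype.ext
    apply Subtype.ext
    simpa using h2'
  have hklein : IsKleinFour (P : Subgroup (alternatingGroup (Fin 5))) := by
    refine ⟨hcard, ?_⟩
    have hd : Monoid.exponent (P : Subgroup (alternatingGroup (Fin 5))) ∣ 2 :=
      Monoid.exponent_dvd_of_forall_pow_eq_one hexp
    rcases (Nat.dvd_prime Nat.prime_two).mp hd with h | h
    · exfalso
      rw [Monoid.exp_eq_one_iff] at h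
      have := Nat.card_eq_one_iff_unique.mpr ⟨h, ⟨1⟩⟩
      omega
    · exact h
  refine ⟨?_, hklein⟩
  set N := Subgroup.normalizer ((P : Subgroup (alternatingGroup (Fin 5))) : Set (alternatingGroup (Fin 5))) with hN
  set C := Subgroup.centralizer ((P : Subgroup (alternatingGroup (Fin 5))) : Set (alternatingGroup (Fin 5))) with hC
  change C.relIndex N = 3
  have hPC : (P : Subgroup (alternatingGroup (Fin 5))) ≤ C := by
    have := hP
    exact Subgroup.le_centralizer _
  have hPN : (P : Subgroup (alternatingGroup (Fin 5))) ≤ N := Subgroup.le_normalizer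
  have d15 : C.relIndex N ∣ 15 := by
    rw [← hindex]
    exact (Subgroup.relIndex_dvd_of_le_left N hPC).trans (Subgroup.relIndex_dvd_index_of_le hPN)
  have d24 : C.relIndex N ∣ 24 := by
    have key := Subgroup.card_dvd_of_injective _
      (QuotientGroup.kerLift_injective (P : Subgroup (alternatingGroup (Fin 5))).normalizerMonoidHom)
    rw [Subgroup.normalizerMonoidHom_ker, ← Subgroup.index, ← Subgroup.relIndex] at key
    have h2 : Nat.card (MulAut (P : Subgroup (alternatingGroup (Fin 5)))) ∣ 24 := by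
      have := Subgroup.card_dvd_of_injective (MulAut.toPerm (P : Subgroup (alternatingGroup (Fin 5))))
        (fun a b h => MulEquiv.toEquiv_injective h)
      rw [Nat.card_perm, hcard] at this
      exact this
    exact key.trans h2
  have d3 : C.relIndex N ∣ 3 := Nat.dvd_gcd d15 d24
  rcases (Nat.dvd_prime Nat.prime_three).mp d3 with h1 | h3
  · exfalso
    have hNC : N ≤ C := Subgroup.relIndex_eq_one.mp h1
    have hcomp := MonoidHom.ker_transferSylow_isComplement' P hNC
    have hmul := hcomp.card_mul_card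
    rw [hcard, h60] at hmul
    have hK15 : Nat.card (MonoidHom.transferSylow P hNC).ker = 15 := by omega
    rcases (MonoidHom.transferSylow P hNC).normal_ker.eq_bot_or_eq_top with h | h
    · rw [h, Subgroup.card_bot] at hK15; omega
    · rw [h, Subgroup.card_top, h60] at hK15; omega
  · exact h3



/-- Let n ≥ 5 and let P be an abelian Sylow p-subgroup of the alternating group A_n. Then N(P)/C(P) (taken in A_n) has even order, or P is cyclic, except when n = 5 and p = 2, where P is a four-group and N(P)/C(P) has order 3. -/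
theorem result (n : ℕ) (hn : 5 ≤ n) {p : ℕ} [Fact p.Prime]
    (P : Sylow p (alternatingGroup (Fin n))) (hP : IsMulCommutative (P : Subgroup (alternatingGroup (Fin n)))) :
    (¬ (n = 5 ∧ p = 2) → 2 ∣ ((Subgroup.centralizer ((P : Subgroup (alternatingGroup (Fin n))) : Set (alternatingGroup (Fin n)))).subgroupOf (Subgroup.normalizer ((P : Subgroup (alternatingGroup (Fin n))) : Set (alternatingGroup (Fin n))))).index ∨ IsCyclic (P : Subgroup (alternatingGroup (Fin n)))) ∧
    ((n = 5 ∧ p = 2) → ((Subgroup.centralizer ((P : Subgroup (alternatingGroup (Fin n))) : Set (alternatingGroup (Fin n)))).subgroupOf (Subgroup.normalizer ((P : Subgroup (alternatingGroup (Fin n))) : Set (alternatingGroup (Fin n))))).index = 3 ∧ IsKleinFour (P : Subgroup (alternatingGroup (Fin n)))) := by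
  constructor
  · intro hne
    by_cases hp2 : p = 2
    · subst hp2
      exfalso
      have h6 : 6 ≤ n := by
        rcases Nat.lt_or_ge n 6 with h | h
        · exact absurd ⟨by omega, rfl⟩ hne
        · exact h
      exact not_comm_two n h6 P hP
    · by_cases hpn : p + 2 ≤ n
      · left; exact even_case n hp2 hpn P hP
      · right; exact cyclic_case n hp2 (by omega) P
  · rintro ⟨rfl, rfl⟩
    exact klein_case P hP

end Cfsg.Agent.S2269
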