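import Cfsg.Statements.S5080
import Cfsg.Agent.Lib.Helper85_Fusion
import Cfsg.Agent.Lib.Helper47_PLocal

set_option autoImplicit false
open Cfsg

namespace Cfsg.Agent.S5080

open Cfsg.FusionSystem Cfsg.Agent.Lib.Helper85_Fusion Cfsg.Agent.Lib.Helper47_PLocal

theorem pCore_normal (p : ℕ) (X : Type*) [Group X] : (Cfsg.pCore p X).Normal :=
  Subgroup.sSup_normal _ (fun _ h => h.1)

/-- A nontrivial finite `p`-group has positive `p`-rank. -/
theorem not_pRankLE_zero {p : ℕ} [Fact p.Prime] {X : Type*} [Group X] [Finite X] (R : Subgroup X)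
    (hR : IsPGroup p R) (hne : R ≠ ⊥) : ¬ PRankLE p 0 R := by
  intro h
  have : Nontrivial R := (Subgroup.nontrivial_iff_ne_bot R).2 hne
  obtain ⟨k, hk⟩ := hR.exists_card_eq
  have hk0 : k ≠ 0 := by
    rintro rfl
    rw [pow_zero] at hk
    have := Finite.one_lt_card (α := R)
    omega
  have hdvd : p ∣ Nat.card R := hk ▸ dvd_pow_self p hk0
  obtain ⟨x, hx⟩ := exists_prime_orderOf_dvd_card' p hdvd
  have h1 := h (Subgroup.zpowers x) inferInstance (by
    intro a ha
    obtain ⟨n, rfl⟩ := ha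
    rw [← zpow_natCast, ← zpow_mul, mul_comm, zpow_mul, zpow_natCast, ← hx, pow_orderOf_eq_one,
      one_zpow])
  rw [Nat.card_zpowers, hx, pow_zero] at h1
  have := (Fact.out : p.Prime).one_lt
  omega

/-- A finite group with a strongly `p`-embedded subgroup has trivial `p`-core. -/
theorem pCore_eq_bot_of_stronglyPEmbedded {p : ℕ} [Fact p.Prime] {X : Type*} [Group X] [Finite X]
    (E : Subgroup X) (hE : IsStronglyPEmbedded p E) : Cfsg.pCore p X = ⊥ := by
  obtain ⟨-, hEtop, T, hT⟩ := hE
  by_contra hne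
  apply hEtop
  rw [eq_top_iff]
  refine le_trans ?_ hT
  have hRT : Cfsg.pCore p X ≤ (T : Subgroup X) := pCore_le_sylow T
  have hnr : ¬ PRankLE p 0 (Cfsg.pCore p X) := not_pRankLE_zero _ (pCore_isPGroup p X) hne
  have hnorm : Subgroup.normalizer ((Cfsg.pCore p X : Subgroup X) : Set X) = ⊤ := by
    have := pCore_normal p X
    exact Subgroup.normalizer_eq_top (Cfsg.pCore p X)
  rw [← hnorm]
  unfold kGeneratedCore
  exact le_iSup (fun Q : {Q : Subgroup X // Q ≤ (T : Subgroup X) ∧ ¬ PRankLE p (1 - 1) Q} =>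
    Subgroup.normalizer ((Q : Subgroup X) : Set X)) ⟨Cfsg.pCore p X, hRT, by simpa using hnr⟩

theorem inn_le_autGroup {Ω : Type*} [Group Ω] {S : Subgroup Ω} (F : FusionSystem S) {P : Subgroup Ω}
    (hP : P ≤ S) : Inn P ≤ F.autGroup P := by
  rintro _ ⟨g, rfl⟩
  rw [mem_autGroup_iff F hP]
  exact mem_of_eq F (F.conj_mem hP (hP g.2)) (fun x => rfl)

theorem inn_isPGroup {p : ℕ} {P : Type*} [Group P] (hP : IsPGroup p P) : IsPGroup p (Inn P) :=
  hP.of_surjective (MulAut.conj : P →* MulAut P).rangeRestrict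
    (MulAut.conj : P →* MulAut P).rangeRestrict_surjective

/-- In a saturated fusion system over a finite p-group, every essential subgroup is radical (it is centric and fully normalized by definition, so it is centric-radical and fully normalized). -/
theorem result {Ω : Type*} [Group Ω] {S : Subgroup Ω} [Finite S] (p : ℕ) [Fact p.Prime] (hS : IsPGroup p S) (F : Cfsg.FusionSystem S) (hF : F.IsSaturated p) (P : Subgroup Ω) (hP : F.IsEssential p P) : F.IsRadical p P := by
  obtain ⟨hcen, -, hnorm, E, hE⟩ := hP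
  have hPS : P ≤ S := hcen.1
  refine ⟨hPS, ?_⟩
  have : Finite P := Finite.of_injective (Subgroup.inclusion hPS) (Subgroup.inclusion_injective hPS)
  have hPp : IsPGroup p P := hS.to_le hPS
  have := hnorm
  have hX : Cfsg.pCore p (F.autGroup P ⧸ (Inn P).subgroupOf (F.autGroup P)) = ⊥ :=
    pCore_eq_bot_of_stronglyPEmbedded E hE
  have hO_le : Cfsg.pCore p (F.autGroup P) ≤ (Inn P).subgroupOf (F.autGroup P) := by
    have h1 : (Cfsg.pCore p (F.autGroup P)).map (QuotientGroup.mk' ((Inn P).subgroupOf (F.autGroup P))) ≤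
        Cfsg.pCore p (F.autGroup P ⧸ (Inn P).subgroupOf (F.autGroup P)) := by
      apply le_pCore
      · have := pCore_normal p (F.autGroup P)
        exact Subgroup.Normal.map inferInstance _ (QuotientGroup.mk'_surjective _)
      · exact (pCore_isPGroup p (F.autGroup P)).map _
    rw [hX, le_bot_iff, Subgroup.map_eq_bot_iff, QuotientGroup.ker_mk'] at h1
    exact h1
  have hN_le : (Inn P).subgroupOf (F.autGroup P) ≤ Cfsg.pCore p (F.autGroup P) :=
    le_pCore hnorm ((inn_isPGroup hPp).comap_of_injective _ (Subgroup.subtype_injective _))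
  rw [le_antisymm hO_le hN_le, Subgroup.subgroupOf_map_subtype]
  exact inf_eq_left.mpr (inn_le_autGroup F hPS)

end Cfsg.Agent.S5080
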