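import Cfsg.Statements.S5106
import Cfsg.Agent.Lib.Helper85_FusionNormal

set_option autoImplicit false
open Cfsg

namespace Cfsg.Agent.S5106

open Cfsg.FusionSystem Cfsg.Agent.Lib.Helper85_Fusion Cfsg.Agent.Lib.Helper85_FusionNormal

variable {Ω : Type*} [Group Ω] {S : Subgroup Ω}

/-- The automorphisms in `Aut_F(U)` acting trivially on `U/(U ∩ R)` and as conjugation by an element of `R`
on `U ∩ R`. -/
def innK (F : FusionSystem S) (U R : Subgroup Ω) : Subgroup (MulAut U) where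
  carrier := {α | α ∈ F.autGroup U ∧ (∀ x : U, (x : Ω)⁻¹ * ((α x : U) : Ω) ∈ R) ∧
    ∃ r ∈ R, ∀ x : U, (x : Ω) ∈ R → ((α x : U) : Ω) = r * (x : Ω) * r⁻¹}
  one_mem' := by
    refine ⟨Subgroup.one_mem _, fun x => ?_, 1, R.one_mem, fun x _ => ?_⟩
    · show (x : Ω)⁻¹ * (x : Ω) ∈ R
      rw [inv_mul_cancel]; exact R.one_mem
    · show (x : Ω) = 1 * (x : Ω) * 1⁻¹
      group
  mul_mem' := by
    rintro α β ⟨hα0, hα1, rα, hrα, hα2⟩ ⟨hβ0, hβ1, rβ, hrβ, hβ2⟩
    have e : ∀ x : U, (x : Ω)⁻¹ * ((α (β x) : U) : Ω) =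
        (x : Ω)⁻¹ * ((β x : U) : Ω) * (((β x : U) : Ω)⁻¹ * ((α (β x) : U) : Ω)) := by
      intro x; group
    refine ⟨Subgroup.mul_mem _ hα0 hβ0, fun x => ?_, rα * rβ, R.mul_mem hrα hrβ, fun x hx => ?_⟩
    · show (x : Ω)⁻¹ * ((α (β x) : U) : Ω) ∈ R
      rw [e]
      exact R.mul_mem (hβ1 x) (hα1 (β x))
    · show ((α (β x) : U) : Ω) = _
      have h1 := hβ2 x hx
      have h2 : ((β x : U) : Ω) ∈ R := by
        rw [h1]
        exact R.mul_mem (R.mul_mem hrβ hx) (R.inv_mem hrβ)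
      rw [hα2 (β x) h2, h1]
      group
  inv_mem' := by
    rintro α ⟨hα0, hα1, r, hr, hα2⟩
    have e : ∀ x : U, (x : Ω)⁻¹ * ((α⁻¹ x : U) : Ω) =
        (((α⁻¹ x : U) : Ω)⁻¹ * ((α (α⁻¹ x) : U) : Ω))⁻¹ := by
      intro x
      rw [MulAut.apply_inv_self]
      group
    refine ⟨Subgroup.inv_mem _ hα0, fun x => ?_, r⁻¹, R.inv_mem hr, fun x hx => ?_⟩
    · rw [e]
      exact R.inv_mem (hα1 _)
    · have h1 := hα1 (α⁻¹ x)
      rw [MulAut.apply_inv_self] at h1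
      have h2 : ((α⁻¹ x : U) : Ω) ∈ R := by
        have := R.mul_mem hx (R.inv_mem h1)
        rw [mul_inv_rev, inv_inv, mul_inv_cancel_left] at this
        exact this
      have h3 := hα2 (α⁻¹ x) h2
      rw [MulAut.apply_inv_self] at h3
      rw [h3]
      group

/-- In a saturated fusion system over a finite p-group S, a subgroup R ≤ S is normal in the system if and only if every map of the system whose source is a subgroup of R is the restriction of an element of Aut_F(R). -/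
theorem result {Ω : Type*} [Group Ω] {S : Subgroup Ω} [Finite S] (p : ℕ) [Fact p.Prime] (hS : IsPGroup p S) (F : Cfsg.FusionSystem S) (hF : F.IsSaturated p) (R : Subgroup Ω) (hRS : R ≤ S) : F.IsNormal R ↔ ∀ (P : Subgroup Ω) (hPR : P ≤ R) (φ : P →* Ω), φ ∈ F.Hom P → ∃ α ∈ F.autGroup R, ∀ x : P, ((α (Subgroup.inclusion hPR x) : R) : Ω) = φ x := by
  constructor
  · intro hR P hPR φ hφ
    exact exists_aut_of_isNormal hR hPR hφ
  intro H
  have hRsc : F.StronglyClosed R := by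
    refine ⟨hRS, fun P hPR φ hφ x => ?_⟩
    obtain ⟨α, -, hα⟩ := H P hPR φ hφ
    rw [← hα x]
    exact (α _).2
  refine isNormal_of_le_essential hS F hF hRsc ?_
  intro U hU
  have hUc : F.IsCentric U := hU.1
  have hUr : F.IsRadical p U := Cfsg.Agent.S5080.result p hS F hF U hU
  have hUS : U ≤ S := hUc.1
  have hfinU : Finite U := Finite.of_injective _ (Subgroup.inclusion_injective hUS)
  have hUp : IsPGroup p U := hS.to_le hUS
  refine le_of_centric_radical hS F hUc hUr hRS (fun s hs x hx => sc_conj_mem hRsc hs hx)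
    (innK F U R) (fun α hα => hα.1) ?_ ?_ ?_
  · -- normalized by `Aut_F(U)`
    rintro β hβ α ⟨hα0, hα1, r, hr, hα2⟩
    have hβinv : β⁻¹ ∈ F.autGroup U := Subgroup.inv_mem _ hβ
    have e : ∀ x : U, (x : Ω)⁻¹ * (((β * α * β⁻¹) x : U) : Ω) =
        ((β ((β⁻¹ x)⁻¹ * α (β⁻¹ x)) : U) : Ω) := by
      intro x
      have h1 : (β * α * β⁻¹) x = β (α (β⁻¹ x)) := rfl
      rw [h1, map_mul, map_inv, MulAut.apply_inv_self]
      rfl
    -- extend `β` restricted to `U ⊓ R` to an automorphism of `R`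
    have hφ := restrict_mem F (inf_le_left : U ⊓ R ≤ U) ((mem_autGroup_iff F hUS β).1 hβ)
    obtain ⟨β', -, hβ'⟩ := H (U ⊓ R) inf_le_right _ hφ
    have hβ'v : ∀ (x : U) (hx : (x : Ω) ∈ R), ((β' ⟨x, hx⟩ : R) : Ω) = ((β x : U) : Ω) :=
      fun x hx => hβ' ⟨x, ⟨x.2, hx⟩⟩
    refine ⟨Subgroup.mul_mem _ (Subgroup.mul_mem _ hβ hα0) hβinv, fun x => ?_,
      ((β' ⟨r, hr⟩ : R) : Ω), (β' ⟨r, hr⟩).2, fun x hx => ?_⟩
    · rw [e]
      exact sc_aut_apply_mem hRsc hUS hβ _ (hα1 (β⁻¹ x))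
    · show ((β (α (β⁻¹ x)) : U) : Ω) = _
      have hy : ((β⁻¹ x : U) : Ω) ∈ R := sc_aut_apply_mem hRsc hUS hβinv x hx
      have h1 := hα2 (β⁻¹ x) hy
      have h2 : ((α (β⁻¹ x) : U) : Ω) ∈ R := by
        rw [h1]
        exact R.mul_mem (R.mul_mem hr hy) (R.inv_mem hr)
      rw [← hβ'v (α (β⁻¹ x)) h2]
      have h3 : (⟨((α (β⁻¹ x) : U) : Ω), h2⟩ : R) = ⟨r, hr⟩ * ⟨((β⁻¹ x : U) : Ω), hy⟩ * ⟨r, hr⟩⁻¹ :=
        Subtype.ext h1
      rw [h3, map_mul, map_mul, map_inv]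
      have h4 : ((β' ⟨((β⁻¹ x : U) : Ω), hy⟩ : R) : Ω) = (x : Ω) := by
        rw [hβ'v (β⁻¹ x) hy, MulAut.apply_inv_self]
      show ((β' ⟨r, hr⟩ : R) : Ω) * ((β' ⟨((β⁻¹ x : U) : Ω), hy⟩ : R) : Ω) * ((β' ⟨r, hr⟩ : R) : Ω)⁻¹ = _
      rw [h4]
  · -- a `p`-group
    apply Cfsg.Agent.Lib.Helper87_Alperin.isPGroup_of_coprime_eq_one
    rintro ⟨α, hαK⟩ hcop
    have hord : orderOf (⟨α, hαK⟩ : innK F U R) = orderOf α :=
      (Subgroup.orderOf_coe (⟨α, hαK⟩ : innK F U R)).symm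
    rw [hord] at hcop
    apply Subtype.ext
    show α = 1
    have hαK' : α ∈ innK F U R := hαK
    obtain ⟨hα0, hα1, r, hr, hα2⟩ := hαK
    obtain ⟨k, hk⟩ := hS ⟨r, hRS hr⟩
    have hrk : r ^ p ^ k = 1 := by
      have := congrArg Subtype.val hk
      simpa using this
    have hαR : ∀ x : U, (x : Ω) ∈ R → ((α x : U) : Ω) ∈ R :=
      fun x hx => sc_aut_apply_mem hRsc hUS hα0 x hx
    have hpow : ∀ (j : ℕ) (x : U), (x : Ω) ∈ R →
        (((α ^ j) x : U) : Ω) = r ^ j * (x : Ω) * (r ^ j)⁻¹ := by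
      intro j
      induction j with
      | zero => intro x _; simp
      | succ j ih =>
        intro x hx
        rw [pow_succ, pow_succ]
        show (((α ^ j) (α x) : U) : Ω) = _
        rw [ih (α x) (hαR x hx), hα2 x hx]
        group
    have hγK : α ^ p ^ k ∈ innK F U R := Subgroup.pow_mem _ hαK' _
    have hγ1 : α ^ p ^ k = 1 := by
      refine Cfsg.Agent.Lib.Helper87_Alperin.aut_eq_one_of_chain hUp (α ^ p ^ k) ?_
        (fun i => if i = 0 then U else if i = 1 then R else ⊥) 2 ?_ ?_ ?_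
      · exact Nat.Coprime.coprime_dvd_left (orderOf_pow_dvd _) hcop
      · simp
      · simp
      · intro i hi x hx
        interval_cases i
        · simpa using hγK.2.1 x
        · have hx' : (x : Ω) ∈ R := by simpa using hx
          rw [hpow _ x hx', hrk]
          simp
    have hdvd : orderOf α ∣ p ^ k := orderOf_dvd_of_pow_eq_one hγ1
    have h1 : orderOf α = 1 := Nat.Coprime.eq_one_of_dvd (Nat.Coprime.pow_right k hcop) hdvd
    exact orderOf_eq_one_iff.1 h1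
  · -- contains the automorphisms induced by `N_R(U)`
    intro r hrR hrN
    have hrS : r ∈ S := hRS hrR
    refine ⟨?_, fun x => ?_, r, hrR, fun x _ => rfl⟩
    · rw [mem_autGroup_iff F hUS]
      exact mem_of_eq F (F.conj_mem hUS hrS) (fun x => rfl)
    · show (x : Ω)⁻¹ * (r * (x : Ω) * r⁻¹) ∈ R
      have h1 : (x : Ω)⁻¹ * r * (x : Ω)⁻¹⁻¹ ∈ R := sc_conj_mem hRsc (S.inv_mem (hUS x.2)) hrR
      have e : (x : Ω)⁻¹ * (r * (x : Ω) * r⁻¹) = (x : Ω)⁻¹ * r * (x : Ω)⁻¹⁻¹ * r⁻¹ := by group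
      rw [e]
      exact R.mul_mem h1 (R.inv_mem hrR)

end Cfsg.Agent.S5106
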