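import Cfsg.Statements.S5111
import Cfsg.Agent.Lib.Helper85_Fusion
import Cfsg.Agent.Lib.Helper84_FusionRS
import Cfsg.Agent.Lib.Helper87_Alperin

set_option autoImplicit false
set_option linter.style.haveILetI false
open Cfsg

namespace Cfsg.Agent.S5111

open Cfsg.FusionSystem Cfsg.Agent.Lib
open Cfsg.Agent.Lib.Helper87_Alperin (IsMapOn extFun extHom)

section
variable {Ω : Type*} [Group Ω] {S : Subgroup Ω}

/-- A `p`-subgroup that is not a relative Sylow subgroup is properly normalized by a `p`-element. -/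
theorem exists_normalizing {A : Type*} [Group A] {p : ℕ} [Fact p.Prime] {T H : Subgroup A} [Finite H]
    (hTH : T ≤ H) (hT : IsPGroup p T) (hn : ¬ Helper84_RelSylow.IsSylowIn p T H) :
    ∃ α ∈ H, α ∉ T ∧ α ∈ Subgroup.normalizer (T : Set A) ∧ ∃ k : ℕ, α ^ (p ^ k) = 1 := by
  obtain ⟨T', hTT', hT'⟩ := Helper84_RelSylow.exists_isSylowIn_ge hTH hT
  have hne : T ≠ T' := fun h => hn (h ▸ hT')
  haveI : Finite T' := Finite.of_injective (Subgroup.inclusion hT'.le) (Subgroup.inclusion_injective _)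
  have hlt := Helper87_Alperin.lt_normalizerIn (S := T') hT'.isPGroup hTT' hne
  obtain ⟨α, hαN, hαT⟩ := SetLike.exists_of_lt hlt
  refine ⟨α, hT'.le hαN.1, hαT, hαN.2, ?_⟩
  obtain ⟨k, hk⟩ := hT'.isPGroup ⟨α, hαN.1⟩
  exact ⟨k, by simpa using congrArg Subtype.val hk⟩

/-- The `p'`-part power trick. -/
theorem exists_pow_trick {A : Type*} [Group A] [Finite A] (p : ℕ) [hp : Fact p.Prime] (β : A) (k : ℕ) :
    ∃ n : ℕ, (∃ j : ℕ, (β ^ n) ^ (p ^ j) = 1) ∧ n % p ^ k = 1 % p ^ k := by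
  have ho : orderOf β ≠ 0 := (orderOf_pos β).ne'
  obtain ⟨a, m, hm, hom⟩ := Nat.exists_eq_pow_mul_and_not_dvd ho p hp.out.ne_one
  have hco : Nat.Coprime (p ^ k) m :=
    Nat.Coprime.pow_left k ((Nat.Prime.coprime_iff_not_dvd hp.out).2 hm)
  obtain ⟨n, hn1, hn0⟩ := Nat.chineseRemainder hco 1 0
  refine ⟨n, ⟨a, ?_⟩, hn1⟩
  rw [← pow_mul]
  apply orderOf_dvd_iff_pow_eq_one.1
  rw [hom, mul_comm n]
  exact Nat.mul_dvd_mul_left _ ((Nat.modEq_zero_iff_dvd).1 hn0)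

theorem mem_normalizer_of_conj_mem {G : Type*} [Group G] {H : Subgroup G} [Finite H] {g : G}
    (h : ∀ y ∈ H, g * y * g⁻¹ ∈ H) : g ∈ Subgroup.normalizer (H : Set G) := by
  rw [Subgroup.mem_normalizer_iff]
  intro y
  refine ⟨h y, fun hy => ?_⟩
  let f : H → H := fun z => ⟨g * z * g⁻¹, h z z.2⟩
  have hinj : Function.Injective f := by
    intro a b hab
    have : g * a * g⁻¹ = g * b * g⁻¹ := congrArg Subtype.val hab
    apply Subtype.ext
    simpa using this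
  obtain ⟨z, hz⟩ := (Finite.injective_iff_surjective.1 hinj) ⟨g * y * g⁻¹, hy⟩
  have : g * z * g⁻¹ = g * y * g⁻¹ := congrArg Subtype.val hz
  have hzy : (z : G) = y := by simpa using this
  rw [← hzy]
  exact z.2

theorem normalizerIn_le_extender {Q : Subgroup Ω} (α : MulAut Q)
    (hα : α ∈ Subgroup.normalizer (autInducedBy S Q : Set (MulAut Q))) :
    normalizerIn S Q ≤ extender S Q (Q.subtype.comp α.toMonoidHom) := by
  intro g hg
  apply Subgroup.subset_closure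
  refine ⟨hg.1, hg.2, ?_⟩
  have hc : Q.normalizerMonoidHom ⟨g, hg.2⟩ ∈ autInducedBy S Q :=
    Helper84_FusionSat.normalizerMonoidHom_mem_autInducedBy hg.1 hg.2
  have h2 := (Subgroup.mem_normalizer_iff.1 hα _).1 hc
  obtain ⟨h, hh, hh2⟩ := (Helper85_Fusion.mem_autInducedBy_iff S Q _).1 h2
  refine ⟨h, hh, fun x hx => ?_⟩
  have h3 := hh2 (α x)
  simp only [MulAut.mul_apply, MulAut.inv_apply_self] at h3
  simp only [MonoidHom.comp_apply, Subgroup.subtype_apply, MulEquiv.coe_toMonoidHom]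
  rw [← h3]
  congr 2

theorem exists_aut_of_isMapOn {F : FusionSystem S} {R : Subgroup Ω} [Finite R] {f : Ω → Ω}
    (h : IsMapOn F R f) (hf : ∀ x ∈ R, f x ∈ R) :
    ∃ β ∈ F.autGroup R, ∀ x : R, ((β x : R) : Ω) = f x := by
  obtain ⟨φ, hφ, hφf⟩ := h
  have hφR : ∀ x : R, φ x ∈ R := fun x => by rw [hφf]; exact hf x x.2
  have hinj : Function.Injective (φ.codRestrict R hφR) := fun a b hab =>
    F.injective_of_mem hφ (congrArg Subtype.val hab)
  refine ⟨MulEquiv.ofBijective (φ.codRestrict R hφR) (Finite.injective_iff_bijective.1 hinj), ?_, ?_⟩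
  · rw [Helper85_Fusion.mem_autGroup_iff F (Helper85_Fusion.source_le F hφ)]
    exact Helper85_Fusion.mem_of_eq F hφ (fun x => rfl)
  · intro x
    exact hφf x

theorem key [Finite S] {p : ℕ} [Fact p.Prime] (hS : IsPGroup p S) (F : FusionSystem S)
    (hrec : ∀ P : Subgroup Ω, F.IsFullyNormalized P → F.IsReceptive P)
    {Q : Subgroup Ω} (hQ : F.IsFullyNormalized Q)
    (IH : ∀ R : Subgroup Ω, F.IsFullyNormalized R → Nat.card Q < Nat.card R →
      F.IsFullyAutomized p R)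
    (hQS : Q ≠ S) (α : MulAut Q) (hα : α ∈ F.autGroup Q)
    (hαN : α ∈ Subgroup.normalizer (autInducedBy S Q : Set (MulAut Q))) (k : ℕ)
    (hαk : α ^ (p ^ k) = 1) : α ∈ autInducedBy S Q := by
  classical
  have hQle : Q ≤ S := hQ.1
  have hQR : Q ≤ normalizerIn S Q := Helper87_Alperin.le_normalizerIn hQle
  have hRS : normalizerIn S Q ≤ S := inf_le_left
  haveI : Finite (normalizerIn S Q) := Helper84_FusionRS.finite_of_le_S hRS
  haveI : Finite Q := Helper84_FusionRS.finite_of_le_S hQle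
  have hlt : Q < normalizerIn S Q := Helper87_Alperin.lt_normalizerIn hS hQle hQS
  -- the extension of `α` to `N_S(Q)`
  have hφ : Q.subtype.comp α.toMonoidHom ∈ F.Hom Q :=
    (Helper85_Fusion.mem_autGroup_iff F hQle α).1 hα
  have hrange : (Q.subtype.comp α.toMonoidHom).range = Q :=
    Helper84_FusionRS.range_subtype_comp_equiv α
  obtain ⟨ψ, hψ, hψα⟩ := (hrec Q hQ).2 Q _ hφ hrange
  have hle := normalizerIn_le_extender (S := S) α hαN
  have hb : IsMapOn F (normalizerIn S Q) (extHom ψ) :=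
    (Helper87_Alperin.isMapOn_extHom F hψ).mono hle
  have hbQ : ∀ x (hx : x ∈ Q), extHom ψ x = ((α ⟨x, hx⟩ : Q) : Ω) := by
    intro x hx
    rw [Helper87_Alperin.extHom_apply ψ (hle (hQR hx))]
    exact hψα x hx _
  have hbR : ∀ x ∈ normalizerIn S Q, extHom ψ x ∈ normalizerIn S Q := by
    intro x hx
    refine ⟨hb.mem hx, mem_normalizer_of_conj_mem ?_⟩
    intro y hy
    have hy' : y = extHom ψ ((α⁻¹ ⟨y, hy⟩ : Q) : Ω) := by
      rw [hbQ _ (α⁻¹ ⟨y, hy⟩).2]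
      simp
    have hz : x * ((α⁻¹ ⟨y, hy⟩ : Q) : Ω) * x⁻¹ ∈ Q :=
      Helper87_Alperin.conj_mem_of_mem_normalizerIn hx (α⁻¹ ⟨y, hy⟩).2
    have : extHom ψ x * y * (extHom ψ x)⁻¹ = extHom ψ (x * ((α⁻¹ ⟨y, hy⟩ : Q) : Ω) * x⁻¹) := by
      rw [hb.map_mul (Subgroup.mul_mem _ hx (hQR (α⁻¹ ⟨y, hy⟩).2)) (Subgroup.inv_mem _ hx),
        hb.map_mul hx (hQR (α⁻¹ ⟨y, hy⟩).2), hb.map_inv hx, ← hy']
    rw [this, hbQ _ hz]
    exact (α _).2
  obtain ⟨β₀, hβ₀, hβ₀b⟩ := exists_aut_of_isMapOn hb hbR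
  -- replace the extension by a power of `p`-power order
  obtain ⟨n, ⟨j, hj⟩, hn⟩ := exists_pow_trick p β₀ k
  have hβ : β₀ ^ n ∈ F.autGroup (normalizerIn S Q) := Subgroup.pow_mem _ hβ₀ n
  have hpow : ∀ m : ℕ, ∀ x (hx : x ∈ Q),
      (((β₀ ^ m) ⟨x, hQR hx⟩ : normalizerIn S Q) : Ω) = (((α ^ m) ⟨x, hx⟩ : Q) : Ω) := by
    intro m
    induction m with
    | zero => intro x hx; simp
    | succ m ih =>
      intro x hx
      rw [pow_succ, pow_succ, MulAut.mul_apply, MulAut.mul_apply]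
      have h1 : β₀ ⟨x, hQR hx⟩ = ⟨((α ⟨x, hx⟩ : Q) : Ω), hQR (α ⟨x, hx⟩).2⟩ := by
        apply Subtype.ext
        rw [hβ₀b, hbQ x hx]
      rw [h1, ih _ (α ⟨x, hx⟩).2]
  have hαn : α ^ n = α := by
    rw [pow_eq_pow_mod n hαk, hn, ← pow_eq_pow_mod 1 hαk, pow_one]
  have hβQ : ∀ x (hx : x ∈ Q),
      (((β₀ ^ n) ⟨x, hQR hx⟩ : normalizerIn S Q) : Ω) = ((α ⟨x, hx⟩ : Q) : Ω) := by
    intro x hx
    rw [hpow n x hx, hαn]
  -- transport to a fully normalized conjugate of `N_S(Q)`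
  obtain ⟨R', hRR', hR'⟩ := Helper84_FusionRS.exists_isFullyNormalized_conj F hRS
  have hcard : Nat.card (normalizerIn S Q) = Nat.card R' := Helper85_Fusion.isConj_card_eq F hRR'
  have hR'a : F.IsFullyAutomized p R' :=
    IH R' hR' (by rw [← hcard]; exact Helper87_Alperin.card_lt_of_lt hlt)
  obtain ⟨θ, hθ, hθr⟩ := hRR'
  have he : Helper84_FusionRS.IsIso F (Helper84_FusionSat.isoOfRange θ (F.injective_of_mem hθ) hθr) :=
    Helper84_FusionRS.isIso_isoOfRange F hθ hθr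
  set e := Helper84_FusionSat.isoOfRange θ (F.injective_of_mem hθ) hθr with he_def
  have hβ' : MulAut.congr e (β₀ ^ n) ∈ F.autGroup R' := he.congr_mem_autGroup hβ
  have hR'S : R' ≤ S := hR'.1
  haveI : Finite R' := Helper84_FusionRS.finite_of_le_S hR'S
  have hsyl := Helper84_FusionSat.isSylowIn_of_isFullyAutomized F hR'a
  have hβ'j : (MulAut.congr e (β₀ ^ n)) ^ (p ^ j) = 1 := by
    rw [← map_pow, hj, map_one]
  have hzp : IsPGroup p (Subgroup.zpowers (MulAut.congr e (β₀ ^ n))) := by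
    rintro ⟨y, hy⟩
    obtain ⟨i, rfl⟩ := Subgroup.mem_zpowers_iff.1 hy
    refine ⟨j, Subtype.ext ?_⟩
    show ((MulAut.congr e (β₀ ^ n)) ^ i) ^ (p ^ j) = 1
    rw [← zpow_natCast, ← zpow_mul, mul_comm, zpow_mul, zpow_natCast, hβ'j, one_zpow]
  obtain ⟨χ, hχ, hχc⟩ := hsyl.exists_conj_le (K := Subgroup.zpowers (MulAut.congr e (β₀ ^ n)))
    (by rwa [Subgroup.zpowers_le]) hzp
  obtain ⟨g, hgS, hg⟩ := (Helper85_Fusion.mem_autInducedBy_iff S R' _).1
    (hχc _ (Subgroup.mem_zpowers _))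
  -- the twisted isomorphism `T = χ ∘ θ : N_S(Q) → R'`
  have hT : IsMapOn F (normalizerIn S Q) (extFun χ ∘ extHom θ) :=
    (Helper87_Alperin.isMapOn_extHom F hθ).comp ((Helper87_Alperin.mem_autGroup_iff F hR'S χ).1 hχ)
      (fun x hx => by
        rw [Helper87_Alperin.extHom_apply θ hx, ← hθr]
        exact ⟨_, rfl⟩)
  have hTval : ∀ x : normalizerIn S Q, (extFun χ ∘ extHom θ) (x : Ω) = ((χ (e x) : R') : Ω) := by
    intro x
    rw [Function.comp_apply, Helper87_Alperin.extHom_coe,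
      ← Helper84_FusionSat.coe_isoOfRange θ (F.injective_of_mem hθ) hθr, Helper87_Alperin.extFun_coe]
  have hTkey : ∀ x : normalizerIn S Q,
      (extFun χ ∘ extHom θ) (((β₀ ^ n) x : normalizerIn S Q) : Ω) =
        g * (extFun χ ∘ extHom θ) (x : Ω) * g⁻¹ := by
    intro x
    rw [hTval, hTval]
    have h1 := hg (χ (e x))
    simp only [MulAut.mul_apply, MulAut.inv_apply_self] at h1
    rw [← h1]
    simp [MulAut.congr_apply]
  have hTR' : ∀ x ∈ normalizerIn S Q, (extFun χ ∘ extHom θ) x ∈ R' := by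
    intro x hx
    rw [hTval ⟨x, hx⟩]
    exact (χ _).2
  have hTsurj : ∀ y ∈ R', ∃ x ∈ normalizerIn S Q, (extFun χ ∘ extHom θ) x = y := by
    intro y hy
    refine ⟨(e.symm (χ⁻¹ ⟨y, hy⟩) : normalizerIn S Q), (e.symm (χ⁻¹ ⟨y, hy⟩)).2, ?_⟩
    rw [hTval]
    simp
  generalize hTdef : extFun χ ∘ extHom θ = T at hT hTval hTkey hTR' hTsurj
  -- the image `Q'` of `Q`
  obtain ⟨φQ, hφQ, hφQT⟩ := hT.mono hQR
  have hconj : F.IsConj Q φQ.range := ⟨φQ, hφQ, rfl⟩
  have hQ'mem : ∀ y, y ∈ φQ.range ↔ ∃ x ∈ Q, T x = y := by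
    intro y
    constructor
    · rintro ⟨x, rfl⟩
      exact ⟨x, x.2, (hφQT x).symm⟩
    · rintro ⟨x, hx, rfl⟩
      exact ⟨⟨x, hx⟩, hφQT _⟩
  have hQ'S : φQ.range ≤ S := Helper85_Fusion.range_le F hφQ
  haveI : Finite φQ.range := Helper84_FusionRS.finite_of_le_S hQ'S
  -- `g` normalizes `Q'`
  have hgN : g ∈ normalizerIn S φQ.range := by
    refine ⟨hgS, mem_normalizer_of_conj_mem ?_⟩
    intro y hy
    obtain ⟨x, hx, rfl⟩ := (hQ'mem y).1 hy
    have h1 := hTkey ⟨x, hQR hx⟩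
    rw [← h1, hβQ x hx]
    exact (hQ'mem _).2 ⟨_, (α ⟨x, hx⟩).2, rfl⟩
  -- `R' = N_S(Q')`
  have hR'N : R' ≤ normalizerIn S φQ.range := by
    intro r' hr'
    obtain ⟨r, hr, rfl⟩ := hTsurj r' hr'
    refine ⟨hT.mem hr, mem_normalizer_of_conj_mem ?_⟩
    intro y hy
    obtain ⟨x, hx, rfl⟩ := (hQ'mem y).1 hy
    have hz : r * x * r⁻¹ ∈ Q := Helper87_Alperin.conj_mem_of_mem_normalizerIn hr hx
    refine (hQ'mem _).2 ⟨r * x * r⁻¹, hz, ?_⟩
    rw [hT.map_mul (Subgroup.mul_mem _ hr (hQR hx)) (Subgroup.inv_mem _ hr),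
      hT.map_mul hr (hQR hx), hT.map_inv hr]
  haveI : Finite (normalizerIn S φQ.range) := Helper84_FusionRS.finite_of_le_S inf_le_left
  have hR'eq : R' = normalizerIn S φQ.range := by
    apply Subgroup.eq_of_le_of_card_ge hR'N
    rw [← hcard]
    exact hQ.2 _ hconj
  have hgR' : g ∈ R' := by rw [hR'eq]; exact hgN
  obtain ⟨h, hh, hhg⟩ := hTsurj g hgR'
  rw [Helper85_Fusion.mem_autInducedBy_iff]
  refine ⟨h, hRS hh, fun x => ?_⟩
  have hxR : (x : Ω) ∈ normalizerIn S Q := hQR x.2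
  have h1 := hTkey ⟨x, hxR⟩
  rw [← hhg, ← hT.map_inv hh, ← hT.map_mul hh hxR,
    ← hT.map_mul (Subgroup.mul_mem _ hh hxR) (Subgroup.inv_mem _ hh)] at h1
  have h2 := hT.injOn ((β₀ ^ n) ⟨x, hxR⟩).2
    (Subgroup.mul_mem _ (Subgroup.mul_mem _ hh hxR) (Subgroup.inv_mem _ hh)) h1
  rw [← h2]
  exact (hβQ x x.2).symm


theorem fa_of_fn [Finite S] {p : ℕ} [Fact p.Prime] (hS : IsPGroup p S) (F : FusionSystem S)
    (hSfa : F.IsFullyAutomized p S)
    (hrec : ∀ P : Subgroup Ω, F.IsFullyNormalized P → F.IsReceptive P) :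
    ∀ n : ℕ, ∀ Q : Subgroup Ω, F.IsFullyNormalized Q → Nat.card S - Nat.card Q = n →
      F.IsFullyAutomized p Q := by
  intro n
  induction n using Nat.strong_induction_on with
  | _ n ih =>
    intro Q hQ hn
    by_cases hQS : Q = S
    · rw [hQS]; exact hSfa
    · apply Helper84_FusionRS.isFullyAutomized_of_isSylowIn F hQ.1
      by_contra hns
      haveI : Finite Q := Helper84_FusionRS.finite_of_le_S hQ.1
      obtain ⟨α, hαA, hαT, hαN, k, hk⟩ := exists_normalizing (p := p)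
        (Helper85_Fusion.autInducedBy_le_autGroup F hQ.1)
        (Helper84_FusionSat.isPGroup_autInducedBy hS Q) hns
      refine hαT (key hS F hrec hQ (fun R hR hlt => ih (Nat.card S - Nat.card R) ?_ R hR rfl)
        hQS α hαA hαN k hk)
      have h1 : Nat.card R ≤ Nat.card S := Subgroup.card_le_of_le hR.1
      omega

theorem isFullyNormalized_self [Finite S] (F : FusionSystem S) : F.IsFullyNormalized S := by
  refine ⟨le_rfl, fun Q hQ => ?_⟩
  have hQS : Q ≤ S := Helper85_Fusion.isConj_le_right F hQ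
  have hcard : Nat.card S = Nat.card Q := Helper85_Fusion.isConj_card_eq F hQ
  have : Q = S := Subgroup.eq_of_le_of_card_ge hQS hcard.le
  rw [this]

end

/-- A fusion system over a finite p-group S is saturated if and only if the inner automorphisms of S form a Sylow p-subgroup of Aut_F(S) and every fully normalized subgroup of S is receptive. -/
theorem result {Ω : Type*} [Group Ω] {S : Subgroup Ω} [Finite S] (p : ℕ) [Fact p.Prime] (hS : IsPGroup p S) (F : Cfsg.FusionSystem S) : F.IsSaturated p ↔ (F.IsFullyAutomized p S ∧ ∀ P : Subgroup Ω, F.IsFullyNormalized P → F.IsReceptive P) := by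
  constructor
  · intro hF
    exact ⟨Helper84_FusionRS.IsSaturated.isFullyAutomized hS hF (isFullyNormalized_self F),
      fun P hP => Helper84_FusionRS.IsSaturated.isReceptive_of_isFullyNormalized hS hF hP⟩
  · rintro ⟨hSfa, hrec⟩ P hP
    obtain ⟨Q, hPQ, hQ⟩ := Helper84_FusionRS.exists_isFullyNormalized_conj F hP
    exact ⟨Q, hPQ, fa_of_fn hS F hSfa hrec _ Q hQ rfl, hrec Q hQ⟩

end Cfsg.Agent.S5111
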