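import Cfsg.Statements.S5119
import Cfsg.Agent.S5111
import Cfsg.Agent.Lib.Helper85_Transport

set_option autoImplicit false
set_option linter.style.haveILetI false
open Cfsg

namespace Cfsg.Agent.S5119

open Cfsg.FusionSystem Cfsg.Agent.Lib
open Cfsg.Agent.Lib.Helper87_Alperin (IsMapOn extFun extHom)

section
variable {Ω : Type*} [Group Ω] {S T : Subgroup Ω}

/-- Strong invariance, at the level of functions. -/
def SI (F : FusionSystem S) (E : FusionSystem T) : Prop :=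
  ∀ (P Q : Subgroup Ω) (f g : Ω → Ω), P ≤ Q → Q ≤ T → IsMapOn E P f → (∀ x ∈ P, f x ∈ Q) →
    IsMapOn F Q g →
    ∃ (R : Subgroup Ω) (h : Ω → Ω), (∀ y, y ∈ R ↔ ∃ x ∈ P, g x = y) ∧ IsMapOn E R h ∧
      ∀ x ∈ P, h (g x) = g (f x)

theorem si_of_hyp {F : FusionSystem S} {E : FusionSystem T}
    (h : ∀ (P Q : Subgroup Ω) (hPQ : P ≤ Q) (_ : Q ≤ T) (φ : P →* Ω) (_ : φ ∈ E.Hom P)
      (hφQ : ∀ x : P, φ x ∈ Q) (ψ : Q →* Ω) (_ : ψ ∈ F.Hom Q),
      ∃ χ ∈ E.Hom ((P.subgroupOf Q).map ψ), ∀ (x : P)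
        (hx : ψ (Subgroup.inclusion hPQ x) ∈ (P.subgroupOf Q).map ψ),
        χ ⟨ψ (Subgroup.inclusion hPQ x), hx⟩ = ψ ⟨φ x, hφQ x⟩) : SI F E := by
  rintro P Q f g hPQ hQT ⟨φ, hφ, hφf⟩ hfQ ⟨ψ, hψ, hψg⟩
  have hφQ : ∀ x : P, φ x ∈ Q := fun x => by rw [hφf]; exact hfQ x x.2
  obtain ⟨χ, hχ, hχeq⟩ := h P Q hPQ hQT φ hφ hφQ ψ hψ
  have hmem : ∀ y, y ∈ (P.subgroupOf Q).map ψ ↔ ∃ x ∈ P, g x = y := by
    intro y
    rw [Helper85_Fusion.mem_map_subgroupOf]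
    constructor
    · rintro ⟨x, hxP, hxQ, rfl⟩
      exact ⟨x, hxP, (hψg ⟨x, hxQ⟩).symm⟩
    · rintro ⟨x, hxP, rfl⟩
      exact ⟨x, hxP, hPQ hxP, hψg ⟨x, hPQ hxP⟩⟩
  refine ⟨_, extHom χ, hmem, Helper87_Alperin.isMapOn_extHom E hχ, fun x hx => ?_⟩
  have hgx : g x ∈ (P.subgroupOf Q).map ψ := (hmem _).2 ⟨x, hx, rfl⟩
  rw [Helper87_Alperin.extHom_apply χ hgx]
  have h1 : ψ (Subgroup.inclusion hPQ ⟨x, hx⟩) = g x := hψg ⟨x, hPQ hx⟩
  have h2 := hχeq ⟨x, hx⟩ (h1 ▸ hgx)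
  have h3 : (⟨g x, hgx⟩ : ↥((P.subgroupOf Q).map ψ)) =
      ⟨ψ (Subgroup.inclusion hPQ ⟨x, hx⟩), h1 ▸ hgx⟩ := Subtype.ext h1.symm
  rw [h3, h2, hψg]
  show g (φ ⟨x, hx⟩) = g (f x)
  rw [hφf]

/-- Maps of the form `α ∘ φ₀` with `α ∈ Aut_F(T)` and `φ₀` a map of `E`. -/
def InG (F : FusionSystem S) (E : FusionSystem T) (P : Subgroup Ω) (f : Ω → Ω) : Prop :=
  ∃ α ∈ F.autGroup T, ∃ f₀ : Ω → Ω, IsMapOn E P f₀ ∧ ∀ x ∈ P, f x = extFun α (f₀ x)

variable {F : FusionSystem S} {E : FusionSystem T}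

theorem isMapOn_of_sub (hEF : E.IsSubsystemOf F) {P : Subgroup Ω} {f : Ω → Ω} (hf : IsMapOn E P f) :
    IsMapOn F P f := by
  obtain ⟨φ, hφ, hφf⟩ := hf
  exact ⟨φ, hEF P hφ, hφf⟩

theorem InG.isMapOn (hEF : E.IsSubsystemOf F) (hTS : T ≤ S) {P : Subgroup Ω} {f : Ω → Ω}
    (h : InG F E P f) : IsMapOn F P f := by
  obtain ⟨α, hα, f₀, hf₀, hf⟩ := h
  have ha : IsMapOn F T (extFun α) := (Helper87_Alperin.mem_autGroup_iff F hTS α).1 hα
  refine ((isMapOn_of_sub hEF hf₀).comp ha (fun x hx => hf₀.mem hx)).congr fun x hx => ?_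
  rw [Function.comp_apply, hf x hx]

theorem InG.le {P : Subgroup Ω} {f : Ω → Ω} (h : InG F E P f) : P ≤ T := by
  obtain ⟨α, hα, f₀, hf₀, hf⟩ := h
  exact hf₀.le

theorem InG.of_E {P : Subgroup Ω} {f : Ω → Ω} (hf : IsMapOn E P f) : InG F E P f := by
  refine ⟨1, Subgroup.one_mem _, f, hf, fun x hx => ?_⟩
  rw [Helper87_Alperin.extFun_apply _ (hf.mem hx)]
  rfl

theorem InG.of_aut {α : MulAut T} (hα : α ∈ F.autGroup T) {P : Subgroup Ω} (hP : P ≤ T) :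
    InG F E P (extFun α) := by
  refine ⟨α, hα, fun x => x, ?_, fun x _ => rfl⟩
  exact ⟨P.subtype, Helper85_Fusion.subtype_mem E hP, fun _ => rfl⟩

theorem InG.mono {P R : Subgroup Ω} {f : Ω → Ω} (h : InG F E P f) (hRP : R ≤ P) : InG F E R f := by
  obtain ⟨α, hα, f₀, hf₀, hf⟩ := h
  exact ⟨α, hα, f₀, hf₀.mono hRP, fun x hx => hf x (hRP hx)⟩

theorem InG.congr {P : Subgroup Ω} {f f' : Ω → Ω} (h : InG F E P f) (hff' : ∀ x ∈ P, f x = f' x) :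
    InG F E P f' := by
  obtain ⟨α, hα, f₀, hf₀, hf⟩ := h
  exact ⟨α, hα, f₀, hf₀, fun x hx => (hff' x hx).symm.trans (hf x hx)⟩

/-- The image of a map, as a subgroup. -/
theorem exists_image {Ω : Type*} [Group Ω] {S : Subgroup Ω} {F : FusionSystem S} {P : Subgroup Ω}
    {f : Ω → Ω} (hf : IsMapOn F P f) :
    ∃ R : Subgroup Ω, (∀ y, y ∈ R ↔ ∃ x ∈ P, f x = y) ∧ F.IsConj P R := by
  obtain ⟨φ, hφ, hφf⟩ := hf
  refine ⟨φ.range, fun y => ?_, φ, hφ, rfl⟩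
  constructor
  · rintro ⟨x, rfl⟩
    exact ⟨x, x.2, (hφf x).symm⟩
  · rintro ⟨x, hx, rfl⟩
    exact ⟨⟨x, hx⟩, hφf _⟩

theorem InG.comp (hSI : SI F E) (hEF : E.IsSubsystemOf F) (hTS : T ≤ S) {P P₂ : Subgroup Ω}
    {f f₂ : Ω → Ω} (h : InG F E P f) (h₂ : InG F E P₂ f₂) (hP : ∀ x ∈ P, f x ∈ P₂) :
    InG F E P (f₂ ∘ f) := by
  have hfF : IsMapOn F P f := h.isMapOn hEF hTS
  obtain ⟨α, hα, f₀, hf₀, hf⟩ := h
  obtain ⟨α₂, hα₂, f₀₂, hf₀₂, hf₂⟩ := h₂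
  obtain ⟨R, hR, -⟩ := exists_image hfF
  have hRP₂ : R ≤ P₂ := fun y hy => by
    obtain ⟨x, hx, rfl⟩ := (hR y).1 hy
    exact hP x hx
  have hRT : R ≤ T := hRP₂.trans hf₀₂.le
  have hα' : IsMapOn F T (extFun α⁻¹) :=
    (Helper87_Alperin.mem_autGroup_iff F hTS α⁻¹).1 (Subgroup.inv_mem _ hα)
  obtain ⟨R', k, hR', hk, hkeq⟩ := hSI R T f₀₂ (extFun α⁻¹) hRT le_rfl (hf₀₂.mono hRP₂)
    (fun x hx => hf₀₂.mem (hRP₂ hx)) hα'
  have hf₀R' : ∀ x ∈ P, f₀ x ∈ R' := by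
    intro x hx
    refine (hR' _).2 ⟨f x, (hR _).2 ⟨x, hx, rfl⟩, ?_⟩
    rw [hf x hx, Helper87_Alperin.extFun_inv_apply α (hf₀.mem hx)]
  refine ⟨α₂ * α, Subgroup.mul_mem _ hα₂ hα, k ∘ f₀, hf₀.comp hk hf₀R', fun x hx => ?_⟩
  have hfxR : f x ∈ R := (hR _).2 ⟨x, hx, rfl⟩
  have h1 := hkeq (f x) hfxR
  have h2 : extFun α⁻¹ (f x) = f₀ x := by
    rw [hf x hx, Helper87_Alperin.extFun_inv_apply α (hf₀.mem hx)]
  rw [h2] at h1
  have h3 : k (f₀ x) ∈ T := hk.mem (hf₀R' x hx)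
  simp only [Function.comp_apply]
  rw [hf₂ _ (hP x hx), Helper87_Alperin.extFun_mul _ _ h3, h1,
    Helper87_Alperin.extFun_apply_inv α (hf₀₂.mem (hP x hx))]

theorem InG.inv (hSI : SI F E) (hTS : T ≤ S) {P R : Subgroup Ω} {f : Ω → Ω} (h : InG F E P f)
    (hR : ∀ y, y ∈ R ↔ ∃ x ∈ P, f x = y) :
    ∃ g : Ω → Ω, InG F E R g ∧ (∀ x ∈ P, g (f x) = x) ∧ ∀ y ∈ R, g y ∈ P := by
  obtain ⟨α, hα, f₀, hf₀, hf⟩ := h
  obtain ⟨R₀, hR₀, -⟩ := exists_image hf₀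
  obtain ⟨g₀, hg₀, hg₀f, hg₀P, hfg₀⟩ := hf₀.inv hR₀
  have hR₀T : R₀ ≤ T := hg₀.le
  have hPT : P ≤ T := hf₀.le
  have hα' : IsMapOn F T (extFun α) := (Helper87_Alperin.mem_autGroup_iff F hTS α).1 hα
  obtain ⟨R', k, hR', hk, hkeq⟩ := hSI R₀ T g₀ (extFun α) hR₀T le_rfl hg₀
    (fun y hy => hPT (hg₀P y hy)) hα'
  have hRR' : R = R' := by
    ext y
    rw [hR, hR']
    constructor
    · rintro ⟨x, hx, rfl⟩
      exact ⟨f₀ x, (hR₀ _).2 ⟨x, hx, rfl⟩, (hf x hx).symm⟩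
    · rintro ⟨z, hz, rfl⟩
      obtain ⟨x, hx, rfl⟩ := (hR₀ z).1 hz
      exact ⟨x, hx, hf x hx⟩
  rw [← hRR'] at hk
  refine ⟨fun y => extFun α⁻¹ (k y), ⟨α⁻¹, Subgroup.inv_mem _ hα, k, hk, fun _ _ => rfl⟩, ?_, ?_⟩
  · intro x hx
    have h1 := hkeq (f₀ x) ((hR₀ _).2 ⟨x, hx, rfl⟩)
    rw [hg₀f x hx, ← hf x hx] at h1
    show extFun α⁻¹ (k (f x)) = x
    rw [h1, Helper87_Alperin.extFun_inv_apply α (hPT hx)]
  · intro y hy
    obtain ⟨x, hx, rfl⟩ := (hR y).1 hy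
    have h1 := hkeq (f₀ x) ((hR₀ _).2 ⟨x, hx, rfl⟩)
    rw [hg₀f x hx, ← hf x hx] at h1
    show extFun α⁻¹ (k (f x)) ∈ P
    rw [h1, Helper87_Alperin.extFun_inv_apply α (hPT hx)]
    exact hx


/-! ### Automorphisms of a fully normalized subgroup -/

theorem autGroup_le_of_sub (hEF : E.IsSubsystemOf F) (hTS : T ≤ S) {U : Subgroup Ω} (hUT : U ≤ T) :
    E.autGroup U ≤ F.autGroup U := by
  intro c hc
  rw [Helper85_Fusion.mem_autGroup_iff E hUT] at hc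
  rw [Helper85_Fusion.mem_autGroup_iff F (hUT.trans hTS)]
  exact hEF U hc

theorem autGroup_le_normalizer (hSI : SI F E) (hTS : T ≤ S) {U : Subgroup Ω} [Finite U] (hUT : U ≤ T) :
    F.autGroup U ≤ Subgroup.normalizer ((E.autGroup U : Subgroup (MulAut U)) : Set (MulAut U)) := by
  intro γ hγ
  haveI : Finite (MulAut U) := inferInstance
  apply Cfsg.Agent.S5111.mem_normalizer_of_conj_mem
  intro c hc
  have hcE : IsMapOn E U (extFun c) := (Helper87_Alperin.mem_autGroup_iff E hUT c).1 hc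
  have hγF : IsMapOn F U (extFun γ) := (Helper87_Alperin.mem_autGroup_iff F (hUT.trans hTS) γ).1 hγ
  obtain ⟨R, k, hR, hk, hkeq⟩ := hSI U U (extFun c) (extFun γ) le_rfl hUT hcE
    (fun x hx => Helper87_Alperin.extFun_mem c hx) hγF
  have hRU : R = U := by
    ext y
    rw [hR]
    constructor
    · rintro ⟨x, hx, rfl⟩
      exact Helper87_Alperin.extFun_mem γ hx
    · intro hy
      exact ⟨extFun γ⁻¹ y, Helper87_Alperin.extFun_mem _ hy, Helper87_Alperin.extFun_apply_inv γ hy⟩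
  rw [hRU] at hk
  rw [Helper87_Alperin.mem_autGroup_iff E hUT]
  refine hk.congr fun y hy => ?_
  have h1 := hkeq (extFun γ⁻¹ y) (Helper87_Alperin.extFun_mem _ hy)
  rw [Helper87_Alperin.extFun_apply_inv γ hy] at h1
  rw [h1, Helper87_Alperin.extFun_mul _ _ hy,
    Helper87_Alperin.extFun_mul _ _ (Helper87_Alperin.extFun_mem _ hy)]

theorem mem_extender_of_conj_mem {Q : Subgroup Ω} (α : MulAut Q) {g : Ω} (hgS : g ∈ S)
    (hgN : g ∈ Subgroup.normalizer (Q : Set Ω))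
    (h : α * Q.normalizerMonoidHom ⟨g, hgN⟩ * α⁻¹ ∈ autInducedBy S Q) :
    g ∈ extender S Q (Q.subtype.comp α.toMonoidHom) := by
  rw [Helper84_FusionRS.mem_extender_iff]
  refine ⟨hgS, hgN, ?_⟩
  obtain ⟨s, hs, hsx⟩ := (Helper85_Fusion.mem_autInducedBy_iff S Q _).1 h
  refine ⟨s, hs, fun x hx => ?_⟩
  have h3 := hsx (α x)
  simp only [MulAut.mul_apply, MulAut.inv_apply_self] at h3
  simp only [MonoidHom.comp_apply, Subgroup.subtype_apply, MulEquiv.coe_toMonoidHom]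
  rw [← h3]
  congr 2

theorem inG_aut [Finite S] {p : ℕ} [Fact p.Prime] (hS : IsPGroup p S) (hF : F.IsSaturated p)
    (hSI : SI F E) (hEF : E.IsSubsystemOf F) (hT : F.StronglyClosed T) {U : Subgroup Ω}
    (hUn : F.IsFullyNormalized U) (hUT : U ≤ T) (hne : U ≠ T)
    (IH : ∀ (U₂ : Subgroup Ω) (f₂ : Ω → Ω), U₂ ≤ T → Nat.card U < Nat.card U₂ → IsMapOn F U₂ f₂ →
      InG F E U₂ f₂)
    {β : MulAut U} (hβ : β ∈ F.autGroup U) : InG F E U (extFun β) := by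
  classical
  have hTS : T ≤ S := hT.1
  have hUS : U ≤ S := hUT.trans hTS
  haveI : Finite T := Helper84_FusionRS.finite_of_le_S hTS
  haveI : Finite U := Helper84_FusionRS.finite_of_le_S hUS
  haveI : Finite (MulAut U) := inferInstance
  have hUa : F.IsFullyAutomized p U := Helper84_FusionRS.IsSaturated.isFullyAutomized hS hF hUn
  have hUr : F.IsReceptive U :=
    Helper84_FusionRS.IsSaturated.isReceptive_of_isFullyNormalized hS hF hUn
  have hAEA : E.autGroup U ≤ F.autGroup U := autGroup_le_of_sub hEF hTS hUT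
  have hnormal := autGroup_le_normalizer (F := F) (E := E) hSI hTS hUT
  have hT₀A : autInducedBy S U ≤ F.autGroup U := Helper85_Fusion.autInducedBy_le_autGroup F hUS
  have hsyl : Helper85_GroupFusion.IsSylowIn p (autInducedBy S U) (F.autGroup U) := hUa.2
  have hR₀ : Helper85_GroupFusion.IsSylowIn p (autInducedBy S U ⊓ E.autGroup U) (E.autGroup U) :=
    hsyl.inf_normal hT₀A hAEA hnormal
  have hR₀p : IsPGroup p (autInducedBy S U ⊓ E.autGroup U : Subgroup (MulAut U)) :=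
    (Helper84_FusionSat.isPGroup_autInducedBy hS U).to_le inf_le_left
  have hKle : Helper85_GroupFusion.conjSub β (autInducedBy S U ⊓ E.autGroup U) ≤ E.autGroup U := by
    rintro _ ⟨r, hr, rfl⟩
    exact ((Subgroup.mem_normalizer_iff.1 (hnormal hβ)) r).1 hr.2
  obtain ⟨ε, hε, hεK⟩ := hR₀.exists_conj_le hKle (Helper85_GroupFusion.isPGroup_conjSub β hR₀p)
  rw [Helper85_GroupFusion.conjSub_conjSub] at hεK
  have hνN : ε * β ∈ Subgroup.normalizer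
      ((autInducedBy S U ⊓ E.autGroup U : Subgroup (MulAut U)) : Set (MulAut U)) :=
    Helper85_GroupFusion.mem_normalizer_of_conjSub_le hεK
  have hνA : ε * β ∈ F.autGroup U := Subgroup.mul_mem _ (hAEA hε) hβ
  -- `ν = ε β` extends to `N_T(U)`
  have hνG : InG F E U (extFun (ε * β)) := by
    have hext : normalizerIn T U ≤ extender S U (U.subtype.comp (ε * β).toMonoidHom) := by
      intro t ht
      have hc₁ : U.normalizerMonoidHom ⟨t, ht.2⟩ ∈ autInducedBy S U :=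
        Helper84_FusionSat.normalizerMonoidHom_mem_autInducedBy (hTS ht.1) ht.2
      have hc₂ : U.normalizerMonoidHom ⟨t, ht.2⟩ ∈ E.autGroup U := by
        rw [Helper85_Fusion.mem_autGroup_iff E hUT]
        exact Helper85_Fusion.mem_of_eq E (E.conj_mem hUT ht.1) (fun _ => rfl)
      have h2 := ((Subgroup.mem_normalizer_iff.1 hνN) _).1 (⟨hc₁, hc₂⟩ :
        U.normalizerMonoidHom ⟨t, ht.2⟩ ∈ autInducedBy S U ⊓ E.autGroup U)
      exact mem_extender_of_conj_mem (ε * β) (hTS ht.1) ht.2 h2.1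
    have hνhom : U.subtype.comp (ε * β).toMonoidHom ∈ F.Hom U :=
      (Helper85_Fusion.mem_autGroup_iff F hUS _).1 hνA
    obtain ⟨ψ, hψ, hψν⟩ := hUr.2 U _ hνhom (Helper84_FusionRS.range_subtype_comp_equiv (ε * β))
    have hlt : U < normalizerIn T U := Helper87_Alperin.lt_normalizerIn (hS.to_le hTS) hUT hne
    haveI : Finite (normalizerIn T U) := Helper84_FusionRS.finite_of_le_S (inf_le_left.trans hTS)
    have h1 := IH (normalizerIn T U) (extHom ψ) inf_le_left (Helper87_Alperin.card_lt_of_lt hlt)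
      ((Helper87_Alperin.isMapOn_extHom F hψ).mono hext)
    refine (h1.mono hlt.le).congr fun x hx => ?_
    rw [Helper87_Alperin.extHom_apply ψ (hext (hlt.le hx)), hψν x hx,
      Helper87_Alperin.extFun_apply _ hx]
    rfl
  have hεG : InG F E U (extFun ε⁻¹) :=
    InG.of_E ((Helper87_Alperin.mem_autGroup_iff E hUT ε⁻¹).1 (Subgroup.inv_mem _ hε))
  refine (hνG.comp hSI hEF hTS hεG (fun x hx => Helper87_Alperin.extFun_mem _ hx)).congr
    fun x hx => ?_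
  rw [Function.comp_apply, ← Helper87_Alperin.extFun_mul _ _ hx, inv_mul_cancel_left]


/-! ### The Frattini condition -/

theorem sc_apply_mem' (hT : F.StronglyClosed T) {P : Subgroup Ω} {f : Ω → Ω} (hf : IsMapOn F P f)
    (hPT : P ≤ T) {x : Ω} (hx : x ∈ P) : f x ∈ T := by
  obtain ⟨φ, hφ, hφf⟩ := hf
  rw [← hφf ⟨x, hx⟩]
  exact hT.2 P hPT φ hφ ⟨x, hx⟩

theorem frattini [Finite S] {p : ℕ} [Fact p.Prime] (hS : IsPGroup p S) (hF : F.IsSaturated p)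
    (hSI : SI F E) (hEF : E.IsSubsystemOf F) (hT : F.StronglyClosed T) :
    ∀ n : ℕ, ∀ (U : Subgroup Ω) (f : Ω → Ω), U ≤ T → Nat.card T - Nat.card U = n → IsMapOn F U f →
      InG F E U f := by
  classical
  have hTS : T ≤ S := hT.1
  haveI : Finite T := Helper84_FusionRS.finite_of_le_S hTS
  intro n
  induction n using Nat.strong_induction_on with
  | _ n ih =>
    intro U f hUT hn hf
    have IH : ∀ (U₂ : Subgroup Ω) (f₂ : Ω → Ω), U₂ ≤ T → Nat.card U < Nat.card U₂ →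
        IsMapOn F U₂ f₂ → InG F E U₂ f₂ := by
      intro U₂ f₂ hU₂T hlt hf₂
      refine ih (Nat.card T - Nat.card U₂) ?_ U₂ f₂ hU₂T rfl hf₂
      have : Nat.card U₂ ≤ Nat.card T := Subgroup.card_le_of_le hU₂T
      omega
    have hUS : U ≤ S := hUT.trans hTS
    haveI : Finite U := Helper84_FusionRS.finite_of_le_S hUS
    by_cases hne : U = T
    · subst hne
      have hfT : ∀ x ∈ U, f x ∈ U := fun x hx => sc_apply_mem' hT hf le_rfl hx
      obtain ⟨β, hβ, hβf⟩ := Cfsg.Agent.S5111.exists_aut_of_isMapOn hf hfT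
      exact (InG.of_aut hβ le_rfl).congr
        (fun x hx => by rw [Helper87_Alperin.extFun_apply _ hx, hβf])
    · have hUlt : Nat.card U < Nat.card T :=
        Helper87_Alperin.card_lt_of_lt (lt_of_le_of_ne hUT hne)
      obtain ⟨U', hUU', hU'n⟩ := Helper84_FusionRS.exists_isFullyNormalized_conj F hUS
      have hcardU' : Nat.card U = Nat.card U' := Helper85_Fusion.isConj_card_eq F hUU'
      have hU'T : U' ≤ T := by
        obtain ⟨φ, hφ, rfl⟩ := hUU'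
        rintro _ ⟨x, rfl⟩
        exact hT.2 U hUT φ hφ x
      have hU'ne : U' ≠ T := by
        intro h
        rw [h] at hcardU'
        omega
      have hU'a : F.IsFullyAutomized p U' :=
        Helper84_FusionRS.IsSaturated.isFullyAutomized hS hF hU'n
      have hU'r : F.IsReceptive U' :=
        Helper84_FusionRS.IsSaturated.isReceptive_of_isFullyNormalized hS hF hU'n
      -- maps onto `U'` defined on normalizers
      have hγ : ∀ V : Subgroup Ω, V ≤ T → F.IsConj V U' →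
          ∃ γ : Ω → Ω, InG F E V γ ∧ ∀ y, y ∈ U' ↔ ∃ x ∈ V, γ x = y := by
        intro V hVT hVU'
        obtain ⟨φ, hφ, hφN, hφimg⟩ := Helper84_FusionSat.exists_normalizer_map hS F hU'a hU'r hVU'
        have hcardV : Nat.card V = Nat.card U' := Helper85_Fusion.isConj_card_eq F hVU'
        have hVne : V ≠ T := by
          intro h
          rw [h] at hcardV
          omega
        have hlt : V < normalizerIn T V := Helper87_Alperin.lt_normalizerIn (hS.to_le hTS) hVT hVne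
        haveI : Finite (normalizerIn T V) :=
          Helper84_FusionRS.finite_of_le_S (inf_le_left.trans hTS)
        have hle : normalizerIn T V ≤ normalizerIn S V := inf_le_inf_right _ hTS
        have h1 := IH (normalizerIn T V) (extHom φ) inf_le_left
          (by rw [hcardU', ← hcardV]; exact Helper87_Alperin.card_lt_of_lt hlt)
          ((Helper87_Alperin.isMapOn_extHom F hφ).mono hle)
        refine ⟨extHom φ, h1.mono hlt.le, fun y => ?_⟩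
        rw [← hφimg, Helper85_Fusion.mem_map_subgroupOf]
        constructor
        · rintro ⟨x, hxV, hxN, rfl⟩
          exact ⟨x, hxV, Helper87_Alperin.extHom_apply φ hxN⟩
        · rintro ⟨x, hxV, rfl⟩
          have hxN : x ∈ normalizerIn S V := hle (hlt.le hxV)
          exact ⟨x, hxV, hxN, (Helper87_Alperin.extHom_apply φ hxN).symm⟩
      obtain ⟨V, hV, hUV⟩ := exists_image hf
      have hVT : V ≤ T := fun y hy => by
        obtain ⟨x, hx, rfl⟩ := (hV y).1 hy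
        exact sc_apply_mem' hT hf hUT hx
      have hVU' : F.IsConj V U' :=
        Helper85_Fusion.isConj_trans F (Helper85_Fusion.isConj_symm F hUV) hUU'
      obtain ⟨γU, hγU, hγUimg⟩ := hγ U hUT hUU'
      obtain ⟨γV, hγV, hγVimg⟩ := hγ V hVT hVU'
      obtain ⟨gU, hgU, hgUinv, hgUmem⟩ := hγU.inv hSI hTS hγUimg
      obtain ⟨gV, hgV, hgVinv, hgVmem⟩ := hγV.inv hSI hTS hγVimg
      have hβF : IsMapOn F U' (γV ∘ (f ∘ gU)) :=
        ((hgU.isMapOn hEF hTS).comp hf hgUmem).comp (hγV.isMapOn hEF hTS)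
          (fun y hy => (hV _).2 ⟨gU y, hgUmem y hy, rfl⟩)
      have hβU' : ∀ y ∈ U', (γV ∘ (f ∘ gU)) y ∈ U' := fun y hy =>
        (hγVimg _).2 ⟨f (gU y), (hV _).2 ⟨gU y, hgUmem y hy, rfl⟩, rfl⟩
      haveI : Finite U' := Helper84_FusionRS.finite_of_le_S (hU'T.trans hTS)
      obtain ⟨β₀, hβ₀, hβ₀f⟩ := Cfsg.Agent.S5111.exists_aut_of_isMapOn hβF hβU'
      have IH' : ∀ (U₂ : Subgroup Ω) (f₂ : Ω → Ω), U₂ ≤ T → Nat.card U' < Nat.card U₂ →
          IsMapOn F U₂ f₂ → InG F E U₂ f₂ := by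
        intro U₂ f₂ h1 h2 h3
        exact IH U₂ f₂ h1 (by rw [hcardU']; exact h2) h3
      have hβG : InG F E U' (γV ∘ (f ∘ gU)) :=
        (inG_aut hS hF hSI hEF hT hU'n hU'T hU'ne IH' hβ₀).congr
          (fun y hy => by rw [Helper87_Alperin.extFun_apply _ hy, hβ₀f])
      have hγUmem : ∀ x ∈ U, γU x ∈ U' := fun x hx => (hγUimg _).2 ⟨x, hx, rfl⟩
      refine ((hγU.comp hSI hEF hTS hβG hγUmem).comp hSI hEF hTS hgV
        (fun x hx => hβU' _ (hγUmem x hx))).congr fun x hx => ?_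
      simp only [Function.comp_apply]
      rw [hgUinv x hx, hgVinv _ ((hV _).2 ⟨x, hx, rfl⟩)]


/-! ### Invariance implies strong invariance -/

theorem si_of_invariant (hinv : E.IsInvariantIn F)
    (P Q : Subgroup Ω) (hPQ : P ≤ Q) (hQT : Q ≤ T) (φ : P →* Ω) (hφ : φ ∈ E.Hom P)
    (hφQ : ∀ x : P, φ x ∈ Q) (ψ : Q →* Ω) (hψ : ψ ∈ F.Hom Q) :
    ∃ χ ∈ E.Hom ((P.subgroupOf Q).map ψ), ∀ (x : P)
      (hx : ψ (Subgroup.inclusion hPQ x) ∈ (P.subgroupOf Q).map ψ),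
      χ ⟨ψ (Subgroup.inclusion hPQ x), hx⟩ = ψ ⟨φ x, hφQ x⟩ := by
  obtain ⟨hEF, hT, hinv', hfrat⟩ := hinv
  obtain ⟨α, hα, ψ₀, hψ₀, hψeq⟩ := hfrat Q hQT ψ hψ
  have hψ₀T : ∀ x : Q, ψ₀ x ∈ T := fun x => (E.le_of_mem hψ₀).2 x
  -- the image `P₁` of `P` under `ψ₀` and the map `ψ₀ φ ψ₀⁻¹` on it
  have hg₀ : IsMapOn E Q (extHom ψ₀) := Helper87_Alperin.isMapOn_extHom E hψ₀
  have hf : IsMapOn E P (extHom φ) := Helper87_Alperin.isMapOn_extHom E hφ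
  obtain ⟨P₁, hP₁, -⟩ := exists_image (hg₀.mono hPQ)
  obtain ⟨k, hk, hkinv, hkP, -⟩ := (hg₀.mono hPQ).inv hP₁
  have hχ₀ : IsMapOn E P₁ (extHom ψ₀ ∘ (extHom φ ∘ k)) :=
    (hk.comp hf hkP).comp hg₀ (fun y hy => by
      rw [Function.comp_apply, Helper87_Alperin.extHom_apply φ (hkP y hy)]
      exact hφQ _)
  obtain ⟨χ₀, hχ₀mem, hχ₀f⟩ := hχ₀
  have hP₁T : P₁ ≤ T := hk.le
  obtain ⟨χ, hχ, hχeq⟩ := hinv' P₁ hP₁T χ₀ hχ₀mem α hα
  -- the two descriptions of the image of `P` under `ψ`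
  have hψval : ∀ (x : Ω) (hx : x ∈ Q), ψ ⟨x, hx⟩ = ((α ⟨ψ₀ ⟨x, hx⟩, hψ₀T _⟩ : T) : Ω) :=
    fun x hx => hψeq ⟨x, hx⟩ (hψ₀T _)
  have heq : (P₁.subgroupOf T).map (T.subtype.comp α.toMonoidHom) = (P.subgroupOf Q).map ψ := by
    ext y
    rw [Helper85_Fusion.mem_map_subgroupOf, Helper85_Fusion.mem_map_subgroupOf]
    constructor
    · rintro ⟨z, hz, hzT, rfl⟩
      obtain ⟨x, hx, rfl⟩ := (hP₁ z).1 hz
      refine ⟨x, hx, hPQ hx, ?_⟩
      rw [hψval x (hPQ hx)]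
      show ((α ⟨ψ₀ ⟨x, hPQ hx⟩, _⟩ : T) : Ω) = ((α ⟨extHom ψ₀ x, hzT⟩ : T) : Ω)
      congr 3
      exact (Helper87_Alperin.extHom_apply ψ₀ (hPQ hx)).symm
    · rintro ⟨x, hx, hxQ, rfl⟩
      refine ⟨extHom ψ₀ x, (hP₁ _).2 ⟨x, hx, rfl⟩, hg₀.mem hxQ, ?_⟩
      rw [hψval x hxQ]
      show ((α ⟨extHom ψ₀ x, _⟩ : T) : Ω) = ((α ⟨ψ₀ ⟨x, hxQ⟩, _⟩ : T) : Ω)
      congr 3
      exact Helper87_Alperin.extHom_apply ψ₀ hxQ
  refine ⟨χ.comp (Subgroup.inclusion heq.ge), Helper85_Fusion.cast_mem E heq.symm hχ, ?_⟩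
  intro x hx
  have hxQ : (x : Ω) ∈ Q := hPQ x.2
  have hy : extHom ψ₀ (x : Ω) ∈ P₁ := (hP₁ _).2 ⟨x, x.2, rfl⟩
  have hφy : χ₀ ⟨extHom ψ₀ (x : Ω), hy⟩ ∈ T := (E.le_of_mem hχ₀mem).2 _
  have hαy : ((α ⟨extHom ψ₀ (x : Ω), hP₁T hy⟩ : T) : Ω) ∈
      (P₁.subgroupOf T).map (T.subtype.comp α.toMonoidHom) := by
    rw [Helper85_Fusion.mem_map_subgroupOf]
    exact ⟨_, hy, hP₁T hy, rfl⟩
  have h1 := hχeq ⟨extHom ψ₀ (x : Ω), hy⟩ hφy hαy
  have h2 : ψ (Subgroup.inclusion hPQ x) = ((α ⟨extHom ψ₀ (x : Ω), hP₁T hy⟩ : T) : Ω) := by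
    rw [show Subgroup.inclusion hPQ x = ⟨(x : Ω), hxQ⟩ from rfl, hψval _ hxQ]
    congr 3
    exact (Helper87_Alperin.extHom_apply ψ₀ hxQ).symm
  have h3 : (χ.comp (Subgroup.inclusion heq.ge)) ⟨ψ (Subgroup.inclusion hPQ x), hx⟩ =
      χ ⟨((α ⟨extHom ψ₀ (x : Ω), hP₁T hy⟩ : T) : Ω), hαy⟩ := by
    show χ ⟨ψ (Subgroup.inclusion hPQ x), _⟩ = _
    congr 1
    exact Subtype.ext h2
  rw [h3, h1, hψval _ (hφQ x)]
  congr 3
  rw [hχ₀f]
  simp only [Function.comp_apply]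
  rw [hkinv _ x.2, Helper87_Alperin.extHom_apply φ x.2, Helper87_Alperin.extHom_apply ψ₀ (hφQ x)]


end

/-- Let F be a saturated fusion system over a finite p-group S and E a subsystem of F over a subgroup T that is strongly closed in F. Then E is invariant in F (invariance under Aut_F(T) plus the Frattini condition) if and only if the strong invariance condition holds: for P ≤ Q ≤ T, every map φ of E from P into Q and every map ψ of F with source Q, the transported map ψ φ ψ⁻¹ on ψ(P) is a map of E. -/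
theorem result {Ω : Type*} [Group Ω] {S : Subgroup Ω} [Finite S] (p : ℕ) [Fact p.Prime] (hS : IsPGroup p S) (F : Cfsg.FusionSystem S) (hF : F.IsSaturated p) {T : Subgroup Ω} (E : Cfsg.FusionSystem T) (hE : E.IsSubsystemOf F) (hT : F.StronglyClosed T) : E.IsInvariantIn F ↔ ∀ (P Q : Subgroup Ω) (hPQ : P ≤ Q) (_ : Q ≤ T) (φ : P →* Ω) (_ : φ ∈ E.Hom P) (hφQ : ∀ x : P, φ x ∈ Q) (ψ : Q →* Ω) (_ : ψ ∈ F.Hom Q), ∃ χ ∈ E.Hom ((P.subgroupOf Q).map ψ), ∀ (x : P) (hx : ψ (Subgroup.inclusion hPQ x) ∈ (P.subgroupOf Q).map ψ), χ ⟨ψ (Subgroup.inclusion hPQ x), hx⟩ = ψ ⟨φ x, hφQ x⟩ := by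
  constructor
  · intro hinv P Q hPQ hQT φ hφ hφQ ψ hψ
    exact si_of_invariant hinv P Q hPQ hQT φ hφ hφQ ψ hψ
  · intro hyp
    have hSI : SI F E := si_of_hyp hyp
    have hTS : T ≤ S := hT.1
    refine ⟨hE, hT, ?_, ?_⟩
    · intro P hPT φ hφ α hα
      obtain ⟨χ, hχ, hχeq⟩ := hyp P T hPT le_rfl φ hφ (fun x => (E.le_of_mem hφ).2 x)
        (T.subtype.comp α.toMonoidHom) ((Helper85_Fusion.mem_autGroup_iff F hTS α).1 hα)
      exact ⟨χ, hχ, fun x hφx hαx => hχeq x hαx⟩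
    · intro P hPT φ hφ
      obtain ⟨α, hα, f₀, hf₀, hf⟩ := frattini hS hF hSI hE hT _ P (extHom φ) hPT rfl
        (Helper87_Alperin.isMapOn_extHom F hφ)
      obtain ⟨φ₀, hφ₀, hφ₀f⟩ := hf₀
      refine ⟨α, hα, φ₀, hφ₀, fun x hx => ?_⟩
      rw [← Helper87_Alperin.extHom_coe φ x, hf x x.2, ← hφ₀f x, Helper87_Alperin.extFun_apply α hx]

end Cfsg.Agent.S5119
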