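import Cfsg.Statements.S5124
import Cfsg.Agent.Lib.Helper85_Fusion
import Cfsg.Agent.Lib.Helper87_Alperin
import Cfsg.Agent.Lib.Helper34_Sylow

set_option autoImplicit false
open Cfsg

namespace Cfsg.Agent.S5124

open Cfsg.FusionSystem Cfsg.Agent.Lib.Helper85_Fusion

variable {Ω : Type*} [Group Ω] {S : Subgroup Ω}

/-- The conjugation isomorphism `P ≃* sPs⁻¹`. -/
noncomputable def conjIso (P : Subgroup Ω) (s : Ω) : P ≃* P.map (MulAut.conj s).toMonoidHom :=
  P.equivMapOfInjective (MulAut.conj s).toMonoidHom (MulAut.conj s).injective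

theorem conjIso_apply (P : Subgroup Ω) (s : Ω) (x : P) : ((conjIso P s x : _) : Ω) = s * x * s⁻¹ := rfl

/-- Ambient description of the elements of `O^p(Aut_F(P))`. -/
theorem coe_mem_of_mem_pResidual (F : FusionSystem S) (p : ℕ) (P : Subgroup Ω) (α : F.autGroup P)
    (hα : α ∈ pResidual p (F.autGroup P)) :
    (α : MulAut P) ∈ Subgroup.closure {β : MulAut P | β ∈ F.autGroup P ∧ (orderOf β).Coprime p} := by
  unfold pResidual at hα
  induction hα using Subgroup.closure_induction with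
  | mem x hx =>
    apply Subgroup.subset_closure
    refine ⟨x.2, ?_⟩
    have h1 : orderOf (x : MulAut P) = orderOf x := Subgroup.orderOf_coe x
    rw [h1]
    exact hx
  | one => exact Subgroup.one_mem _
  | mul x y _ _ hx hy => exact Subgroup.mul_mem _ hx hy
  | inv x _ hx => exact Subgroup.inv_mem _ hx

theorem mem_pResidual_of_coe_mem (F : FusionSystem S) (p : ℕ) (P : Subgroup Ω) (β : MulAut P)
    (hβ : β ∈ Subgroup.closure {β : MulAut P | β ∈ F.autGroup P ∧ (orderOf β).Coprime p}) :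
    ∃ h : β ∈ F.autGroup P, (⟨β, h⟩ : F.autGroup P) ∈ pResidual p (F.autGroup P) := by
  induction hβ using Subgroup.closure_induction with
  | mem x hx =>
    refine ⟨hx.1, ?_⟩
    apply Subgroup.subset_closure
    show (orderOf (⟨x, hx.1⟩ : F.autGroup P)).Coprime p
    have h1 : orderOf ((⟨x, hx.1⟩ : F.autGroup P) : MulAut P) = orderOf (⟨x, hx.1⟩ : F.autGroup P) :=
      Subgroup.orderOf_coe _
    rw [← h1]
    exact hx.2
  | one => exact ⟨Subgroup.one_mem _, Subgroup.one_mem _⟩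
  | mul x y _ _ hx hy =>
    obtain ⟨hx1, hx2⟩ := hx
    obtain ⟨hy1, hy2⟩ := hy
    exact ⟨Subgroup.mul_mem _ hx1 hy1, Subgroup.mul_mem _ hx2 hy2⟩
  | inv x _ hx =>
    obtain ⟨hx1, hx2⟩ := hx
    exact ⟨Subgroup.inv_mem _ hx1, Subgroup.inv_mem _ hx2⟩

/-- Generators of the hyperfocal subgroup, ambient form. -/
theorem gen_mem_hyperfocal (F : FusionSystem S) (p : ℕ) {P : Subgroup Ω} (hP : P ≤ S) (β : MulAut P)
    (hβ : β ∈ Subgroup.closure {β : MulAut P | β ∈ F.autGroup P ∧ (orderOf β).Coprime p}) (x : P) :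
    (x : Ω)⁻¹ * ((β x : P) : Ω) ∈ F.hyperfocalSubgroup p := by
  obtain ⟨h, hm⟩ := mem_pResidual_of_coe_mem F p P β hβ
  apply Subgroup.subset_closure
  exact ⟨P, ⟨β, h⟩, x, hP, hm, rfl⟩

theorem hyperfocal_le (F : FusionSystem S) (p : ℕ) : F.hyperfocalSubgroup p ≤ S := by
  unfold FusionSystem.hyperfocalSubgroup
  rw [Subgroup.closure_le]
  rintro y ⟨P, α, x, hP, -, rfl⟩
  exact S.mul_mem (S.inv_mem (hP x.2)) (hP ((α : MulAut P) x).2)

/-- Transport of an automorphism along the conjugation isomorphism. -/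
theorem conj_transport_mem (F : FusionSystem S) (p : ℕ) {P : Subgroup Ω} (hP : P ≤ S) {s : Ω} (hs : s ∈ S)
    (β : MulAut P)
    (hβ : β ∈ Subgroup.closure {β : MulAut P | β ∈ F.autGroup P ∧ (orderOf β).Coprime p}) :
    MulAut.congr (conjIso P s) β ∈ Subgroup.closure
      {β : MulAut (P.map (MulAut.conj s).toMonoidHom) |
        β ∈ F.autGroup (P.map (MulAut.conj s).toMonoidHom) ∧ (orderOf β).Coprime p} := by
  have hP' : P.map (MulAut.conj s).toMonoidHom ≤ S := by
    rintro _ ⟨x, hx, rfl⟩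
    exact S.mul_mem (S.mul_mem hs (hP hx)) (S.inv_mem hs)
  induction hβ using Subgroup.closure_induction with
  | mem x hx =>
    apply Subgroup.subset_closure
    refine ⟨?_, ?_⟩
    · rw [mem_autGroup_iff F hP']
      have h1 : P.subtype.comp x.toMonoidHom ∈ F.Hom P := (mem_autGroup_iff F hP x).1 hx.1
      -- conjugation by `s⁻¹` from `P'` to `P`
      have h2 : conjHom (P.map (MulAut.conj s).toMonoidHom) s⁻¹ ∈
          F.Hom (P.map (MulAut.conj s).toMonoidHom) := F.conj_mem hP' (S.inv_mem hs)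
      have h2' : ∀ y : P.map (MulAut.conj s).toMonoidHom,
          conjHom (P.map (MulAut.conj s).toMonoidHom) s⁻¹ y ∈ P := by
        rintro ⟨_, z, hz, rfl⟩
        show s⁻¹ * (s * z * s⁻¹) * s⁻¹⁻¹ ∈ P
        have : s⁻¹ * (s * z * s⁻¹) * s⁻¹⁻¹ = z := by group
        rw [this]
        exact hz
      obtain ⟨χ, hχ, hχv⟩ := comp_mem' F h2 h1 h2'
      obtain ⟨χ', hχ', hχ'v⟩ := conj_comp_mem F hχ hs
      refine mem_of_eq F hχ' (fun y => ?_)
      rw [hχ'v, hχv]
      obtain ⟨_, z, hz, rfl⟩ := y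
      have h3 : (⟨conjHom (P.map (MulAut.conj s).toMonoidHom) s⁻¹
          ⟨(MulAut.conj s).toMonoidHom z, ⟨z, hz, rfl⟩⟩, h2' _⟩ : P) = ⟨z, hz⟩ := by
        apply Subtype.ext
        show s⁻¹ * (s * z * s⁻¹) * s⁻¹⁻¹ = z
        group
      rw [h3]
      have h4 : (conjIso P s).symm ⟨(MulAut.conj s).toMonoidHom z, ⟨z, hz, rfl⟩⟩ = ⟨z, hz⟩ := by
        rw [MulEquiv.symm_apply_eq]
        exact Subtype.ext rfl
      show ((conjIso P s (x ((conjIso P s).symm ⟨(MulAut.conj s).toMonoidHom z, ⟨z, hz, rfl⟩⟩)) : _) : Ω) = _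
      rw [h4]
      rfl
    · rw [MulEquiv.orderOf_eq]
      exact hx.2
  | one =>
    rw [map_one]
    exact Subgroup.one_mem _
  | mul x y _ _ hx hy =>
    rw [map_mul]
    exact Subgroup.mul_mem _ hx hy
  | inv x _ hx =>
    rw [map_inv]
    exact Subgroup.inv_mem _ hx

/-- The hyperfocal subgroup is invariant under conjugation by elements of `S`. -/
theorem conj_mem_hyperfocal (F : FusionSystem S) (p : ℕ) {s : Ω} (hs : s ∈ S) {y : Ω}
    (hy : y ∈ F.hyperfocalSubgroup p) : s * y * s⁻¹ ∈ F.hyperfocalSubgroup p := by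
  have hle : F.hyperfocalSubgroup p ≤
      (F.hyperfocalSubgroup p).comap (MulAut.conj s).toMonoidHom := by
    conv_lhs => unfold FusionSystem.hyperfocalSubgroup
    rw [Subgroup.closure_le]
    rintro y ⟨P, α, x, hP, hα, rfl⟩
    show s * ((x : Ω)⁻¹ * (((α : MulAut P) x : P) : Ω)) * s⁻¹ ∈ F.hyperfocalSubgroup p
    have hβ := coe_mem_of_mem_pResidual F p P α hα
    have hP' : P.map (MulAut.conj s).toMonoidHom ≤ S := by
      rintro _ ⟨z, hz, rfl⟩
      exact S.mul_mem (S.mul_mem hs (hP hz)) (S.inv_mem hs)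
    have h1 := gen_mem_hyperfocal F p hP' _ (conj_transport_mem F p hP hs _ hβ) (conjIso P s x)
    have h2 : (MulAut.congr (conjIso P s) (α : MulAut P)) (conjIso P s x) =
        conjIso P s ((α : MulAut P) x) := by
      show conjIso P s ((α : MulAut P) ((conjIso P s).symm (conjIso P s x))) = _
      rw [MulEquiv.symm_apply_apply]
    rw [h2, conjIso_apply, conjIso_apply] at h1
    have h3 : s * ((x : Ω)⁻¹ * (((α : MulAut P) x : P) : Ω)) * s⁻¹ =
        (s * (x : Ω) * s⁻¹)⁻¹ * (s * (((α : MulAut P) x : P) : Ω) * s⁻¹) := by group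
    rw [h3]
    exact h1
  exact hle hy

theorem conj_mem_hyperfocal_iff (F : FusionSystem S) (p : ℕ) {s : Ω} (hs : s ∈ S) {y : Ω} :
    s * y * s⁻¹ ∈ F.hyperfocalSubgroup p ↔ y ∈ F.hyperfocalSubgroup p := by
  constructor
  · intro h
    have := conj_mem_hyperfocal F p (S.inv_mem hs) h
    have e : s⁻¹ * (s * y * s⁻¹) * s⁻¹⁻¹ = y := by group
    rwa [e] at this
  · exact conj_mem_hyperfocal F p hs

/-- The subsystem of maps preserving the hyperfocal subgroup (in both directions). -/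
def hypSystem (F : FusionSystem S) (p : ℕ) : FusionSystem S where
  Hom P := {φ | φ ∈ F.Hom P ∧ ∀ x : P, (x : Ω) ∈ F.hyperfocalSubgroup p ↔ φ x ∈ F.hyperfocalSubgroup p}
  le_of_mem h := F.le_of_mem h.1
  injective_of_mem h := F.injective_of_mem h.1
  conj_mem := by
    intro P g hP hg
    exact ⟨F.conj_mem hP hg, fun x => (conj_mem_hyperfocal_iff F p hg).symm⟩
  comp_mem := by
    rintro P Q φ ψ ⟨hφ, hφh⟩ ⟨hψ, hψh⟩ h
    exact ⟨F.comp_mem hφ hψ h, fun x => (hφh x).trans (hψh ⟨φ x, h x⟩)⟩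
  inv_mem := by
    rintro P φ ⟨hφ, hφh⟩
    obtain ⟨ψ, hψ, hψv⟩ := F.inv_mem hφ
    refine ⟨ψ, ⟨hψ, ?_⟩, hψv⟩
    rintro ⟨_, x, rfl⟩
    rw [hψv x]
    exact (hφh x).symm

/-- In a saturated fusion system over a finite p-group S the hyperfocal subgroup is strongly closed in the system. -/
theorem result {Ω : Type*} [Group Ω] {S : Subgroup Ω} [Finite S] (p : ℕ) [Fact p.Prime] (hS : IsPGroup p S) (F : Cfsg.FusionSystem S) (hF : F.IsSaturated p) : F.StronglyClosed (F.hyperfocalSubgroup p) := by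
  have hsub : F.IsSubsystemOf (hypSystem F p) := by
    refine Cfsg.Agent.Lib.Helper87_Alperin.weak_alperin F hS hF (hypSystem F p) ?_
    intro Q hQa hQr α hα
    obtain ⟨hQS, R, hR⟩ := hQa
    refine ⟨(mem_autGroup_iff F hQS α).1 hα, fun x => ?_⟩
    have hfinQ : Finite Q := Finite.of_injective (Subgroup.inclusion hQS) (Subgroup.inclusion_injective hQS)
    have hfinA : Finite (F.autGroup Q) := inferInstance
    obtain ⟨r, hr, m, hm, hrm⟩ := Cfsg.Agent.Lib.Helper34_Sylow.exists_mul_pResidual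
      (R : Subgroup (F.autGroup Q)) R.not_dvd_index ⟨α, hα⟩
    rw [hR, Subgroup.mem_subgroupOf, mem_autInducedBy_iff] at hr
    obtain ⟨s, hs, hrs⟩ := hr
    have h1 : α = (r : MulAut Q) * (m : MulAut Q) := congrArg Subtype.val hrm
    show (x : Ω) ∈ F.hyperfocalSubgroup p ↔ ((α x : Q) : Ω) ∈ F.hyperfocalSubgroup p
    rw [h1]
    show _ ↔ (((r : MulAut Q) ((m : MulAut Q) x) : Q) : Ω) ∈ F.hyperfocalSubgroup p
    rw [hrs, conj_mem_hyperfocal_iff F p hs]
    have h2 : (x : Ω)⁻¹ * (((m : MulAut Q) x : Q) : Ω) ∈ F.hyperfocalSubgroup p :=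
      Subgroup.subset_closure ⟨Q, m, x, hQS, hm, rfl⟩
    constructor
    · intro hx
      have := (F.hyperfocalSubgroup p).mul_mem hx h2
      rwa [mul_inv_cancel_left] at this
    · intro hmx
      have := (F.hyperfocalSubgroup p).mul_mem hmx ((F.hyperfocalSubgroup p).inv_mem h2)
      rw [mul_inv_rev, inv_inv, ← mul_assoc, mul_inv_cancel, one_mul] at this
      exact this
  refine ⟨hyperfocal_le F p, fun R hR φ hφ x => ?_⟩
  exact ((hsub R hφ).2 x).1 (hR x.2)

end Cfsg.Agent.S5124
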