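import Cfsg.Statements.S5093
import Cfsg.Agent.Lib.Helper84_Hyperfocal

set_option autoImplicit false
open Cfsg

namespace Cfsg.Agent.S5093

open Cfsg.FusionSystem Cfsg.Agent.Lib.Helper85_Fusion Cfsg.Agent.Lib.Helper85_GroupFusion
  Cfsg.Agent.Lib.Helper84_Hyperfocal

/-- Hyperfocal subgroup Theorem: for a finite group G with Sylow p-subgroup S, the hyperfocal subgroup of the fusion system of G on S equals S ∩ O^p(G), where O^p(G) is the subgroup generated by the elements of order prime to p. -/
theorem result {G : Type*} [Group G] [Finite G] (p : ℕ) [Fact p.Prime] (S : Sylow p G) : (Cfsg.groupFusionSystem (S : Subgroup G)).hyperfocalSubgroup p = (S : Subgroup G) ⊓ Cfsg.pResidual p G := by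
  apply le_antisymm (hyperfocal_le p (S : Subgroup G))
  -- the Sylow subgroup `R` of `K = O^p(G)`
  have hnorm : (pResidual p G).Normal := Cfsg.Agent.Lib.Helper2_PResidual.pResidual_normal
  have hsyl : IsSylowIn p ((S : Subgroup G) ⊓ pResidual p G) (pResidual p G) :=
    (isSylowIn_of_sylow_le S le_top).inf_normal le_top le_top
      (fun _ _ => Subgroup.normalizer_eq_top (H := pResidual p G) ▸ Subgroup.mem_top _)
  obtain ⟨R, hR⟩ := hsyl
  have hRmap : (R : Subgroup (pResidual p G)).map (pResidual p G).subtype =
      (S : Subgroup G) ⊓ pResidual p G := by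
    rw [hR]
    exact Subgroup.map_subgroupOf_eq_of_le inf_le_right
  -- `R ≤ [K, K]`
  have hRcomm : (R : Subgroup (pResidual p G)) ≤ commutator (pResidual p G) := by
    have := Cfsg.Agent.Lib.Helper2_PResidual.inf_pResidual_le_commutator (p := p)
      (R : Subgroup (pResidual p G)) R.isPGroup'
    rwa [pResidual_pResidual_eq_top, inf_top_eq] at this
  -- focal subgroup theorem in `K`
  have hfoc : (R : Subgroup (pResidual p G)) ≤
      (groupFusionSystem (R : Subgroup (pResidual p G))).focalSubgroup := by
    refine le_trans ?_ (focalSubgroup_le_focal (R : Subgroup (pResidual p G)))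
    rw [← Subgroup.commutator_inf_eq_focalSubgroup R]
    exact le_inf hRcomm le_rfl
  rw [Cfsg.Agent.S5092.result p R.isPGroup' _ (group_isSaturated R)] at hfoc
  -- the hyperfocal subgroup of `F_R(K)` is all of `R`
  have hhypR : (groupFusionSystem (R : Subgroup (pResidual p G))).hyperfocalSubgroup p ≤
      (R : Subgroup (pResidual p G)) := by
    unfold FusionSystem.hyperfocalSubgroup
    rw [Subgroup.closure_le]
    rintro y ⟨P, α, x, hPR, -, rfl⟩
    exact Subgroup.mul_mem _ (Subgroup.inv_mem _ (hPR x.2)) (hPR ((α : MulAut P) x).2)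
  have htop : ((groupFusionSystem (R : Subgroup (pResidual p G))).hyperfocalSubgroup p).subgroupOf
      (R : Subgroup (pResidual p G)) = ⊤ := by
    apply eq_top_of_sup_commutator_eq_top R.isPGroup'
    rw [eq_top_iff]
    intro z _
    have hz := hfoc z.2
    have h1 : (groupFusionSystem (R : Subgroup (pResidual p G))).hyperfocalSubgroup p ⊔
        ⁅(R : Subgroup (pResidual p G)), (R : Subgroup (pResidual p G))⁆ =
        (((groupFusionSystem (R : Subgroup (pResidual p G))).hyperfocalSubgroup p).subgroupOf
          (R : Subgroup (pResidual p G)) ⊔ commutator R).map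
          (R : Subgroup (pResidual p G)).subtype := by
      rw [Subgroup.map_sup, Subgroup.map_subgroupOf_eq_of_le hhypR, commutator_def,
        Subgroup.map_commutator, ← MonoidHom.range_eq_map, Subgroup.range_subtype]
    rw [h1] at hz
    obtain ⟨w, hw, hwz⟩ := hz
    have : w = z := Subtype.ext hwz
    rwa [← this]
  have hRle : (R : Subgroup (pResidual p G)) ≤
      (groupFusionSystem (R : Subgroup (pResidual p G))).hyperfocalSubgroup p := by
    rwa [Subgroup.subgroupOf_eq_top] at htop
  rw [← hRmap]
  refine le_trans (Subgroup.map_mono hRle) (map_hyperfocal_le p _ _ _ ?_)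
  rw [hRmap]
  exact inf_le_left

end Cfsg.Agent.S5093
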