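import Cfsg.Statements.S5139
import Cfsg.Agent.S5093
import Cfsg.Agent.S5124
import Cfsg.Agent.Lib.Helper85_Fusion
import Cfsg.Agent.Lib.Helper85_GroupFusion
import Cfsg.Agent.Lib.Helper85_Transport
import Cfsg.Agent.Lib.Helper84_FusionSat
import Cfsg.Agent.Lib.Helper87_Alperin
import Cfsg.Agent.Lib.Helper34_Sylow

set_option autoImplicit false
open Cfsg

namespace Cfsg.Agent.S5139

open Cfsg.FusionSystem Cfsg.Agent.Lib.Helper85_Fusion Cfsg.Agent.Lib.Helper85_GroupFusion

variable {Ω : Type*} [Group Ω] {S : Subgroup Ω}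

/-- `Aut_E(P) ≤ Aut_F(P)` for a subsystem. -/
theorem autGroup_mono {T : Subgroup Ω} {E : FusionSystem T} {F : FusionSystem S}
    (h : E.IsSubsystemOf F) (P : Subgroup Ω) : E.autGroup P ≤ F.autGroup P := by
  unfold FusionSystem.autGroup
  apply Subgroup.closure_mono
  intro α hα
  exact h P hα

/-- A saturated subsystem `E₁` of `F` over `T` is contained in every system over `T` whose automizers
contain `O^p(Aut_F(P))` for all `P ≤ T`. -/
theorem subsystem_of_pPower {T₁ T₂ : Subgroup Ω} (hT : T₁ = T₂) [Finite T₁] {p : ℕ} [Fact p.Prime]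
    (hT₁ : IsPGroup p T₁) (F : FusionSystem S) (E₁ : FusionSystem T₁) (E₂ : FusionSystem T₂)
    (h₁ : E₁.IsSaturated p) (h₁F : E₁.IsSubsystemOf F)
    (h₂ : ∀ P : Subgroup Ω, P ≤ T₂ →
      (pResidual p (F.autGroup P)).map (F.autGroup P).subtype ≤ E₂.autGroup P) :
    E₁.IsSubsystemOf E₂ := by
  subst hT
  apply Cfsg.Agent.Lib.Helper87_Alperin.weak_alperin E₁ hT₁ h₁ E₂
  intro Q hQa _ α hα
  have hQT : Q ≤ T₁ := hQa.1
  haveI : Finite Q := Finite.of_injective (Subgroup.inclusion hQT) (Subgroup.inclusion_injective hQT)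
  obtain ⟨-, R, hR⟩ := hQa
  rw [← mem_autGroup_iff E₂ hQT]
  obtain ⟨r, hr, m, hm, hrm⟩ := Cfsg.Agent.Lib.Helper34_Sylow.exists_mul_pResidual
    (R : Subgroup (E₁.autGroup Q)) R.not_dvd_index ⟨α, hα⟩
  have hα' : α = (r : MulAut Q) * (m : MulAut Q) := by
    have := congrArg Subtype.val hrm
    simpa using this
  rw [hα']
  apply Subgroup.mul_mem
  · -- `r ∈ Aut_T(Q) ≤ Aut_{E₂}(Q)`
    have hr' : r ∈ (autInducedBy T₁ Q).subgroupOf (E₁.autGroup Q) := hR ▸ hr
    rw [Subgroup.mem_subgroupOf] at hr'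
    exact autInducedBy_le_autGroup E₂ hQT hr'
  · -- `m ∈ O^p(Aut_{E₁}(Q)) ≤ O^p(Aut_F(Q)) ≤ Aut_{E₂}(Q)`
    have hm1 := Cfsg.Agent.S5124.coe_mem_of_mem_pResidual E₁ p Q m hm
    have hm2 : (m : MulAut Q) ∈
        Subgroup.closure {β : MulAut Q | β ∈ F.autGroup Q ∧ (orderOf β).Coprime p} := by
      refine Subgroup.closure_mono ?_ hm1
      rintro β ⟨hβ1, hβ2⟩
      exact ⟨autGroup_mono h₁F Q hβ1, hβ2⟩
    obtain ⟨hm3, hm4⟩ := Cfsg.Agent.S5124.mem_pResidual_of_coe_mem F p Q _ hm2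
    apply h₂ Q hQT
    exact ⟨⟨_, hm3⟩, hm4, rfl⟩

/-- Two saturated subsystems of `p`-power index over the same subgroup have the same maps. -/
theorem hom_eq_of_pPower {T₁ T₂ : Subgroup Ω} (hT : T₁ = T₂) [Finite T₁] {p : ℕ} [Fact p.Prime]
    (hT₁ : IsPGroup p T₁) (F : FusionSystem S) (E₁ : FusionSystem T₁) (E₂ : FusionSystem T₂)
    (h₁ : E₁.IsSaturated p) (h₁F : E₁.HasPPowerIndexIn F p)
    (h₂ : E₂.IsSaturated p) (h₂F : E₂.HasPPowerIndexIn F p) (P : Subgroup Ω) :
    E₁.Hom P = E₂.Hom P := by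
  haveI : Finite T₂ := hT ▸ (inferInstance : Finite T₁)
  have hT₂ : IsPGroup p T₂ := hT ▸ hT₁
  apply Set.Subset.antisymm
  · exact subsystem_of_pPower hT hT₁ F E₁ E₂ h₁ h₁F.1 h₂F.2.2 P
  · exact subsystem_of_pPower hT.symm hT₂ F E₂ E₁ h₂ h₂F.1 h₁F.2.2 P

/-- The power trick in a group: a `p'`-automorphism induced by `g` is induced by a `p'`-power of `g`. -/
theorem exists_pprime_power {G : Type*} [Group G] [Finite G] (p : ℕ) [hp : Fact p.Prime]
    (g : G) (k : ℕ) (hk : k.Coprime p) :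
    ∃ n : ℕ, (orderOf (g ^ n)).Coprime p ∧ n % k = 1 % k := by
  have ho : orderOf g ≠ 0 := (orderOf_pos g).ne'
  obtain ⟨a, m, hm, hom⟩ := Nat.exists_eq_pow_mul_and_not_dvd ho p hp.out.ne_one
  have hco : Nat.Coprime k (p ^ a) := Nat.Coprime.pow_right a hk
  obtain ⟨n, hn1, hn0⟩ := Nat.chineseRemainder hco 1 0
  refine ⟨n, ?_, hn1⟩
  have hdvd : orderOf (g ^ n) ∣ m := by
    apply orderOf_dvd_of_pow_eq_one
    rw [← pow_mul]
    apply orderOf_dvd_iff_pow_eq_one.1
    rw [hom]
    exact Nat.mul_dvd_mul ((Nat.modEq_zero_iff_dvd).1 hn0) dvd_rfl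
  have hmp : m.Coprime p := ((Nat.Prime.coprime_iff_not_dvd hp.out).2 hm).symm
  exact Nat.Coprime.coprime_dvd_left hdvd hmp

/-- `F_{S ∩ O^p(G)}(O^p(G))` has `p`-power index in `F_S(G)`. -/
theorem hasPPowerIndexIn_residual {G : Type*} [Group G] [Finite G] (p : ℕ) [Fact p.Prime]
    (S : Sylow p G) (h : (S : Subgroup G) ⊓ pResidual p G ≤ pResidual p G) :
    (fusionSystemOfSubgroup (pResidual p G) ((S : Subgroup G) ⊓ pResidual p G) h).HasPPowerIndexIn
      (groupFusionSystem (S : Subgroup G)) p := by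
  refine ⟨?_, (Cfsg.Agent.S5093.result p S).le, ?_⟩
  · rintro P φ ⟨hP, hφ, g, -, hg⟩
    exact ⟨hP.trans inf_le_left, fun x => (hφ x).1, g, hg⟩
  · intro P hP
    rintro _ ⟨α, hα, rfl⟩
    have h1 := Cfsg.Agent.S5124.coe_mem_of_mem_pResidual _ p P α hα
    refine (Subgroup.closure_le _).2 ?_ h1
    rintro β ⟨hβ1, hβ2⟩
    have hPS : P ≤ (S : Subgroup G) := hP.trans inf_le_left
    rw [mem_autGroup_iff _ hPS] at hβ1
    obtain ⟨-, -, g, hg⟩ := hβ1
    obtain ⟨n, hn1, hn2⟩ := exists_pprime_power p g (orderOf β) hβ2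
    -- `β = β ^ n`
    have hβn : β ^ n = β := by
      have : β ^ n = β ^ 1 := by
        rw [← pow_mod_orderOf, hn2, pow_mod_orderOf]
      simpa using this
    have hpow : ∀ (j : ℕ) (x : P), (((β ^ j) x : P) : G) = g ^ j * (x : G) * (g ^ j)⁻¹ := by
      intro j
      induction j with
      | zero => intro x; simp
      | succ j ih =>
        intro x
        rw [pow_succ', MulAut.mul_apply]
        have := hg ((β ^ j) x)
        simp only [MonoidHom.coe_comp, Subgroup.coe_subtype, Function.comp_apply,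
          MulEquiv.coe_toMonoidHom] at this
        rw [this, ih x, pow_succ', mul_inv_rev]
        simp only [mul_assoc]
    apply Subgroup.subset_closure
    refine ⟨hP, fun x => hP (β x).2, g ^ n, Subgroup.subset_closure hn1, fun x => ?_⟩
    have := hpow n x
    rw [hβn] at this
    exact this

/-- Let G be a finite group with Sylow p-subgroup S and O^p(G) the subgroup generated by the elements of order prime to p. Then the p-residual subsystem of the fusion system of G on S — the saturated subsystem of p-power index over the hyperfocal subgroup — is the fusion system of O^p(G) on S ∩ O^p(G): its maps are exactly the conjugation maps by elements of O^p(G) between subgroups of S ∩ O^p(G). -/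
theorem result {G : Type*} [Group G] [Finite G] (p : ℕ) [Fact p.Prime] (S : Sylow p G) (E : Cfsg.FusionSystem ((Cfsg.groupFusionSystem (S : Subgroup G)).hyperfocalSubgroup p)) (hE : (Cfsg.groupFusionSystem (S : Subgroup G)).IsPResidual p E) : ∃ h : (S : Subgroup G) ⊓ Cfsg.pResidual p G ≤ Cfsg.pResidual p G, ∀ P : Subgroup G, E.Hom P = (Cfsg.fusionSystemOfSubgroup (Cfsg.pResidual p G) ((S : Subgroup G) ⊓ Cfsg.pResidual p G) h).Hom P := by
  refine ⟨inf_le_right, fun P => ?_⟩
  have hT := Cfsg.Agent.S5093.result p S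
  have hnorm : (pResidual p G).Normal := Cfsg.Agent.Lib.Helper34_Sylow.pResidual_normal p G
  have hsyl : IsSylowIn p ((S : Subgroup G) ⊓ pResidual p G) (pResidual p G) :=
    (isSylowIn_of_sylow_le S le_top).inf_normal le_top le_top
      (fun _ _ => Subgroup.normalizer_eq_top (H := pResidual p G) ▸ Subgroup.mem_top _)
  obtain ⟨R, hR⟩ := hsyl
  have hsat := Cfsg.Agent.Lib.Helper85_Transport.subgroup_isSaturated (pResidual p G)
    ((S : Subgroup G) ⊓ pResidual p G) inf_le_right R hR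
  have hpg : IsPGroup p ((groupFusionSystem (S : Subgroup G)).hyperfocalSubgroup p) := by
    rw [hT]
    exact S.isPGroup'.to_le inf_le_left
  exact hom_eq_of_pPower hT hpg (groupFusionSystem (S : Subgroup G)) E _ hE.1 hE.2 hsat
    (hasPPowerIndexIn_residual p S inf_le_right) P

end Cfsg.Agent.S5139
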