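import Cfsg.Statements.S5120
import Cfsg.Agent.S5139
import Cfsg.Agent.S5124
import Cfsg.Agent.S5119
import Cfsg.Agent.Lib.Helper85_Fusion
import Cfsg.Agent.Lib.Helper87_Alperin
import Cfsg.Agent.Lib.Helper88_Centric
import Cfsg.Agent.Lib.Helper88_Centric2
import Cfsg.Agent.Lib.Helper88_Essential
import Cfsg.Agent.Lib.Helper84_FusionRS
import Cfsg.Agent.Lib.Helper34_Sylow

set_option autoImplicit false
set_option linter.style.haveILetI false
open Cfsg

namespace Cfsg.Agent.S5120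

open Cfsg.FusionSystem Cfsg.Agent.Lib
open Cfsg.Agent.Lib.Helper87_Alperin (IsMapOn extFun extHom)
open Cfsg.Agent.Lib.Helper88_Centric (IsImage)

section
variable {Ω : Type*} [Group Ω] {S T : Subgroup Ω}

/-! ### Generalities -/

/-- The `p'`-elements of `Aut_F(P)`. -/
def PP (F : FusionSystem S) (p : ℕ) (P : Subgroup Ω) : Set (MulAut P) :=
  {β : MulAut P | β ∈ F.autGroup P ∧ (orderOf β).Coprime p}

theorem closure_PP_le {F : FusionSystem S} {E : FusionSystem T} {p : ℕ} (hEi : E.HasPPowerIndexIn F p)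
    {P : Subgroup Ω} (hPT : P ≤ T) : Subgroup.closure (PP F p P) ≤ E.autGroup P := by
  intro β hβ
  obtain ⟨h, hm⟩ := Cfsg.Agent.S5124.mem_pResidual_of_coe_mem F p P β hβ
  exact hEi.2.2 P hPT ⟨⟨β, h⟩, hm, rfl⟩

theorem conj_mem_T (hTS : T ≤ S) (hTn : (T.subgroupOf S).Normal) {s x : Ω} (hs : s ∈ S)
    (hx : x ∈ T) : s * x * s⁻¹ ∈ T := by
  have := hTn.conj_mem ⟨x, hTS hx⟩ (Subgroup.mem_subgroupOf.2 hx) ⟨s, hs⟩
  exact Subgroup.mem_subgroupOf.1 this

theorem conj_mem_T_iff (hTS : T ≤ S) (hTn : (T.subgroupOf S).Normal) {s : Ω} (hs : s ∈ S) (x : Ω) :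
    x ∈ T ↔ s * x * s⁻¹ ∈ T := by
  constructor
  · exact conj_mem_T hTS hTn hs
  · intro h
    have := conj_mem_T hTS hTn (S.inv_mem hs) h
    have e : s⁻¹ * (s * x * s⁻¹) * s⁻¹⁻¹ = x := by group
    rwa [e] at this

/-! ### Step A: `T` is strongly closed -/

/-- The subsystem of the maps preserving `T` in both directions. -/
def tSystem (F : FusionSystem S) (T : Subgroup Ω)
    (hT : ∀ s ∈ S, ∀ x, x ∈ T ↔ s * x * s⁻¹ ∈ T) : FusionSystem S where
  Hom P := {φ | φ ∈ F.Hom P ∧ ∀ x : P, (x : Ω) ∈ T ↔ φ x ∈ T}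
  le_of_mem h := F.le_of_mem h.1
  injective_of_mem h := F.injective_of_mem h.1
  conj_mem := by
    intro P g hP hg
    exact ⟨F.conj_mem hP hg, fun x => hT g hg x⟩
  comp_mem := by
    rintro P Q φ ψ ⟨hφ, hφh⟩ ⟨hψ, hψh⟩ h
    exact ⟨F.comp_mem hφ hψ h, fun x => (hφh x).trans (hψh ⟨φ x, h x⟩)⟩
  inv_mem := by
    rintro P φ ⟨hφ, hφh⟩
    obtain ⟨ψ, hψ, hψv⟩ := F.inv_mem hφ
    refine ⟨ψ, ⟨hψ, ?_⟩, hψv⟩
    rintro ⟨_, x, rfl⟩
    rw [hψv x]
    exact (hφh x).symm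

theorem stronglyClosed_T [Finite S] {p : ℕ} [Fact p.Prime] (hS : IsPGroup p S) (F : FusionSystem S)
    (hF : F.IsSaturated p) (hTS : T ≤ S) (hTn : (T.subgroupOf S).Normal)
    (hT : F.hyperfocalSubgroup p ≤ T) : F.StronglyClosed T := by
  have hsub : F.IsSubsystemOf (tSystem F T (fun s hs x => conj_mem_T_iff hTS hTn hs x)) := by
    refine Helper87_Alperin.weak_alperin F hS hF _ ?_
    intro Q hQa hQr α hα
    obtain ⟨hQS, R, hR⟩ := hQa
    refine ⟨(Helper85_Fusion.mem_autGroup_iff F hQS α).1 hα, fun x => ?_⟩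
    have hfinQ : Finite Q := Helper84_FusionRS.finite_of_le_S hQS
    have hfinA : Finite (F.autGroup Q) := inferInstance
    obtain ⟨r, hr, m, hm, hrm⟩ := Helper34_Sylow.exists_mul_pResidual
      (R : Subgroup (F.autGroup Q)) R.not_dvd_index ⟨α, hα⟩
    rw [hR, Subgroup.mem_subgroupOf, Helper85_Fusion.mem_autInducedBy_iff] at hr
    obtain ⟨s, hs, hrs⟩ := hr
    have h1 : α = (r : MulAut Q) * (m : MulAut Q) := congrArg Subtype.val hrm
    show (x : Ω) ∈ T ↔ ((α x : Q) : Ω) ∈ T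
    rw [h1]
    show _ ↔ (((r : MulAut Q) ((m : MulAut Q) x) : Q) : Ω) ∈ T
    rw [hrs, ← conj_mem_T_iff hTS hTn hs]
    have h2 : (x : Ω)⁻¹ * (((m : MulAut Q) x : Q) : Ω) ∈ T :=
      hT (Subgroup.subset_closure ⟨Q, m, x, hQS, hm, rfl⟩)
    constructor
    · intro hx
      have := T.mul_mem hx h2
      rwa [mul_inv_cancel_left] at this
    · intro hmx
      have := T.mul_mem hmx (T.inv_mem h2)
      rw [mul_inv_rev, inv_inv, ← mul_assoc, mul_inv_cancel, one_mul] at this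
      exact this
  refine ⟨hTS, fun R hR φ hφ x => ?_⟩
  exact ((hsub R hφ).2 x).1 (hR x.2)

/-! ### Step B: invariance -/

/-- An `F`-automorphism of `T`, given by a pair of mutually inverse functions. -/
structure Adm (F : FusionSystem S) (T : Subgroup Ω) (a a' : Ω → Ω) : Prop where
  map : IsMapOn F T a
  map' : IsMapOn F T a'
  mem : ∀ x ∈ T, a x ∈ T
  mem' : ∀ x ∈ T, a' x ∈ T
  left : ∀ x ∈ T, a' (a x) = x
  right : ∀ x ∈ T, a (a' x) = x

variable {F : FusionSystem S} {E : FusionSystem T}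

theorem Adm.symm {a a' : Ω → Ω} (h : Adm F T a a') : Adm F T a' a :=
  ⟨h.map', h.map, h.mem', h.mem, h.right, h.left⟩

theorem Adm.image_le {a a' : Ω → Ω} (h : Adm F T a a') {P P' : Subgroup Ω} (hPT : P ≤ T)
    (hP' : IsImage P a P') : P' ≤ T := by
  intro y hy
  obtain ⟨x, hx, rfl⟩ := (hP' y).1 hy
  exact h.mem x (hPT hx)

theorem Adm.inv_mem {a a' : Ω → Ω} (h : Adm F T a a') {P P' : Subgroup Ω} (hPT : P ≤ T)
    (hP' : IsImage P a P') {y : Ω} (hy : y ∈ P') : a' y ∈ P := by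
  obtain ⟨x, hx, rfl⟩ := (hP' y).1 hy
  rw [h.left x (hPT hx)]
  exact hx

theorem Adm.exists_image {a a' : Ω → Ω} (h : Adm F T a a') {P : Subgroup Ω} (hPT : P ≤ T) :
    ∃ P' : Subgroup Ω, IsImage P a P' := by
  obtain ⟨P', hP', -⟩ := Helper88_Centric.exists_isImage (h.map.mono hPT)
  exact ⟨P', hP'⟩

theorem Adm.exists_equiv {a a' : Ω → Ω} (hA : Adm F T a a') {P P' : Subgroup Ω} (hPT : P ≤ T)
    (hP' : IsImage P a P') : ∃ e : P ≃* P', ∀ x : P, ((e x : P') : Ω) = a x := by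
  let f : P →* P' :=
    { toFun := fun x => ⟨a x, hP'.mem x.2⟩
      map_one' := Subtype.ext hA.map.map_one
      map_mul' := fun x y => Subtype.ext (hA.map.map_mul (hPT x.2) (hPT y.2)) }
  have hbij : Function.Bijective f := by
    constructor
    · intro x y hxy
      have h1 : a x = a y := congrArg Subtype.val hxy
      apply Subtype.ext
      rw [← hA.left x (hPT x.2), ← hA.left y (hPT y.2), h1]
    · rintro ⟨y, hy⟩
      obtain ⟨x, hx, rfl⟩ := (hP' y).1 hy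
      exact ⟨⟨x, hx⟩, rfl⟩
  exact ⟨MulEquiv.ofBijective f hbij, fun x => rfl⟩

/-- The invariance predicate. -/
def Gi (F : FusionSystem S) (E : FusionSystem T) (P : Subgroup Ω) (f : Ω → Ω) : Prop :=
  P ≤ T → ∀ a a' : Ω → Ω, Adm F T a a' → ∀ P' : Subgroup Ω, IsImage P a P' →
    IsMapOn E P' (a ∘ f ∘ a')

theorem gi_congr {P : Subgroup Ω} {f g : Ω → Ω} (h : Gi F E P f) (hfg : ∀ x ∈ P, f x = g x) :
    Gi F E P g := by
  intro hPT a a' hA P' hP'
  refine (h hPT a a' hA P' hP').congr fun y hy => ?_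
  simp only [Function.comp_apply]
  rw [hfg _ (hA.inv_mem hPT hP' hy)]

theorem gi_conj {P : Subgroup Ω} {t : Ω} (_ : P ≤ T) (ht : t ∈ T) :
    Gi F E P (fun x => t * x * t⁻¹) := by
  intro hPT a a' hA P' hP'
  have hP'T := hA.image_le hPT hP'
  refine (IsMapOn.conj E hP'T (hA.mem t ht)).congr fun y hy => ?_
  obtain ⟨x, hx, rfl⟩ := (hP' y).1 hy
  simp only [Function.comp_apply]
  rw [hA.left x (hPT hx), hA.map.map_mul (T.mul_mem ht (hPT hx)) (T.inv_mem ht),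
    hA.map.map_mul ht (hPT hx), hA.map.map_inv ht]

theorem gi_comp {P R : Subgroup Ω} {f g : Ω → Ω} (_ : IsMapOn E P f) (hGf : Gi F E P f)
    (hg : IsMapOn E R g) (hGg : Gi F E R g) (hfR : ∀ x ∈ P, f x ∈ R) : Gi F E P (g ∘ f) := by
  intro hPT a a' hA P' hP'
  have hRT : R ≤ T := hg.le
  obtain ⟨R', hR'⟩ := hA.exists_image hRT
  have h1 := hGf hPT a a' hA P' hP'
  have h2 := hGg hRT a a' hA R' hR'
  refine (h1.comp h2 ?_).congr ?_
  · intro y hy
    exact hR'.mem (hfR _ (hA.inv_mem hPT hP' hy))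
  · intro y hy
    simp only [Function.comp_apply]
    rw [hA.left _ (hRT (hfR _ (hA.inv_mem hPT hP' hy)))]

theorem gi_inv {P P₁ : Subgroup Ω} {f g : Ω → Ω} (hf : IsMapOn E P f) (hGf : Gi F E P f)
    (himg : IsImage P f P₁) (_ : IsMapOn E P₁ g) (hgf : ∀ x ∈ P, g (f x) = x) : Gi F E P₁ g := by
  intro hP₁T a a' hA P₁' hP₁'
  have hPT : P ≤ T := hf.le
  obtain ⟨P', hP'⟩ := hA.exists_image hPT
  have h := hGf hPT a a' hA P' hP'
  have himg' : ∀ w, w ∈ P₁' ↔ ∃ y ∈ P', (a ∘ f ∘ a') y = w := by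
    intro w
    constructor
    · intro hw
      obtain ⟨z, hz, rfl⟩ := (hP₁' w).1 hw
      obtain ⟨x, hx, rfl⟩ := (himg z).1 hz
      refine ⟨a x, hP'.mem hx, ?_⟩
      simp only [Function.comp_apply]
      rw [hA.left x (hPT hx)]
    · rintro ⟨y, hy, rfl⟩
      simp only [Function.comp_apply]
      exact hP₁'.mem (himg.mem (hA.inv_mem hPT hP' hy))
  obtain ⟨k, hk, hk1, -, -⟩ := h.inv himg'
  refine hk.congr fun w hw => ?_
  obtain ⟨y, hy, rfl⟩ := (himg' w).1 hw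
  rw [hk1 y hy]
  obtain ⟨x, hx, rfl⟩ := (hP' y).1 hy
  simp only [Function.comp_apply]
  rw [hA.left x (hPT hx), hA.left _ (hP₁T (himg.mem hx)), hgf x hx]

/-- The subsystem of `E` of the maps all of whose transports under `Aut_F(T)` lie in `E`. -/
def invSystem (F : FusionSystem S) (E : FusionSystem T) : FusionSystem T :=
  Helper88_Essential.subsystemOf E (Gi F E) gi_congr gi_conj gi_comp gi_inv

/-- Transport of `p'`-automorphisms along an admissible pair. -/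
theorem transport_mem {p : ℕ} {a a' : Ω → Ω} (hA : Adm F T a a') (hTS : T ≤ S) {P P' : Subgroup Ω}
    (hPT : P ≤ T) (hP' : IsImage P a P') (e : P ≃* P') (he : ∀ x : P, ((e x : P') : Ω) = a x)
    (β : MulAut P) (hβ : β ∈ Subgroup.closure (PP F p P)) :
    MulAut.congr e β ∈ Subgroup.closure (PP F p P') := by
  have hP'T := hA.image_le hPT hP'
  have hsymm : ∀ y : P', ((e.symm y : P) : Ω) = a' y := by
    intro y
    have h1 : a ((e.symm y : P) : Ω) = y := by rw [← he, MulEquiv.apply_symm_apply]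
    rw [← h1, hA.left _ (hPT (e.symm y).2)]
  induction hβ using Subgroup.closure_induction with
  | mem x hx =>
    apply Subgroup.subset_closure
    refine ⟨?_, ?_⟩
    · rw [Helper87_Alperin.mem_autGroup_iff F (hP'T.trans hTS)]
      have h1 : IsMapOn F P' a' := hA.map'.mono hP'T
      have h2 : IsMapOn F P (extFun x) :=
        (Helper87_Alperin.mem_autGroup_iff F (hPT.trans hTS) x).1 hx.1
      have h3 : IsMapOn F P a := hA.map.mono hPT
      refine ((h1.comp h2 (fun y hy => hA.inv_mem hPT hP' hy)).comp h3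
        (fun y hy => Helper87_Alperin.extFun_mem x (hA.inv_mem hPT hP' hy))).congr fun y hy => ?_
      simp only [Function.comp_apply]
      rw [Helper87_Alperin.extFun_apply _ hy, ← hsymm ⟨y, hy⟩, Helper87_Alperin.extFun_coe, ← he]
      rfl
    · rw [MulEquiv.orderOf_eq]
      exact hx.2
  | one =>
    rw [map_one]
    exact Subgroup.one_mem _
  | mul x y _ _ hx hy =>
    rw [map_mul]
    exact Subgroup.mul_mem _ hx hy
  | inv x _ hx =>
    rw [map_inv]
    exact Subgroup.inv_mem _ hx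

theorem le_invSystem [Finite S] {p : ℕ} [Fact p.Prime] (hS : IsPGroup p S) (hTS : T ≤ S)
    (hEs : E.IsSaturated p) (hEi : E.HasPPowerIndexIn F p) : E.IsSubsystemOf (invSystem F E) := by
  haveI : Finite T := Helper84_FusionRS.finite_of_le_S hTS
  refine Cfsg.Agent.S5139.subsystem_of_pPower rfl (hS.to_le hTS) F E (invSystem F E) hEs hEi.1 ?_
  rintro P hPT _ ⟨α, hα, rfl⟩
  have hαc := Cfsg.Agent.S5124.coe_mem_of_mem_pResidual F p P α hα
  have hαE : (α : MulAut P) ∈ E.autGroup P := closure_PP_le hEi hPT hαc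
  apply Subgroup.subset_closure
  refine ⟨(Helper87_Alperin.mem_autGroup_iff' E hPT _).1 hαE, ?_⟩
  intro _ a a' hA P' hP'
  obtain ⟨e, he⟩ := hA.exists_equiv hPT hP'
  have hP'T := hA.image_le hPT hP'
  have h1 := transport_mem hA hTS hPT hP' e he _ hαc
  have h2 : MulAut.congr e (α : MulAut P) ∈ E.autGroup P' := closure_PP_le hEi hP'T h1
  have h3 := (Helper87_Alperin.mem_autGroup_iff E hP'T _).1 h2
  refine h3.congr fun y hy => ?_
  have hsymm : ((e.symm ⟨y, hy⟩ : P) : Ω) = a' y := by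
    have h1 : a ((e.symm ⟨y, hy⟩ : P) : Ω) = y := by rw [← he, MulEquiv.apply_symm_apply]
    have h2 := hA.left _ (hPT (e.symm ⟨y, hy⟩).2)
    rw [h1] at h2
    exact h2.symm
  simp only [Function.comp_apply]
  rw [Helper87_Alperin.extFun_apply _ hy, ← hsymm, Helper87_Alperin.extHom_coe]
  exact he _

/-- Invariance of `E` under `Aut_F(T)`, function form. -/
theorem invF [Finite S] {p : ℕ} [Fact p.Prime] (hS : IsPGroup p S) (hTS : T ≤ S)
    (hEs : E.IsSaturated p) (hEi : E.HasPPowerIndexIn F p) {a a' : Ω → Ω} (hA : Adm F T a a')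
    {P : Subgroup Ω} {f : Ω → Ω} (hf : IsMapOn E P f) {P' : Subgroup Ω} (hP' : IsImage P a P') :
    IsMapOn E P' (a ∘ f ∘ a') := by
  have hPT : P ≤ T := hf.le
  obtain ⟨φ, hφ, hφf⟩ := hf
  have h1 := le_invSystem hS hTS hEs hEi P hφ
  have h2 : Gi F E P (extHom φ) := h1.2
  refine (h2 hPT a a' hA P' hP').congr fun y hy => ?_
  simp only [Function.comp_apply]
  rw [Helper87_Alperin.extHom_apply φ (hA.inv_mem hPT hP' hy), hφf]


/-! ### Step C: the Frattini condition -/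

/-- Conjugation as a function on the ambient group. -/
def cj (s : Ω) : Ω → Ω := fun x => s * x * s⁻¹

theorem cj_apply (s x : Ω) : cj s x = s * x * s⁻¹ := rfl

theorem cj_inv_cj (s x : Ω) : cj s⁻¹ (cj s x) = x := by
  simp only [cj]
  group

theorem cj_cj_inv (s x : Ω) : cj s (cj s⁻¹ x) = x := by
  simp only [cj]
  group

theorem adm_cj (hTS : T ≤ S) (hTn : (T.subgroupOf S).Normal) {s : Ω} (hs : s ∈ S) :
    Adm F T (cj s) (cj s⁻¹) where
  map := IsMapOn.conj F hTS hs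
  map' := IsMapOn.conj F hTS (S.inv_mem hs)
  mem := fun _ hx => conj_mem_T hTS hTn hs hx
  mem' := fun _ hx => conj_mem_T hTS hTn (S.inv_mem hs) hx
  left := fun x _ => cj_inv_cj s x
  right := fun x _ => cj_cj_inv s x

theorem adm_cj' (hTS : T ≤ S) (hTn : (T.subgroupOf S).Normal) {s : Ω} (hs : s ∈ S) :
    Adm F T (cj s⁻¹) (cj s) :=
  (adm_cj hTS hTn hs).symm

/-- The Frattini predicate: on `P ∩ T` the map is conjugation by an element of `S` after a map of `E`. -/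
def Gf (E : FusionSystem T) (P : Subgroup Ω) (f : Ω → Ω) : Prop :=
  ∃ s ∈ S, IsMapOn E (P ⊓ T) (cj s⁻¹ ∘ f)

/-- The hypotheses under which the Frattini subsystem is built. -/
structure FrHyp (F : FusionSystem S) (E : FusionSystem T) : Prop where
  le : T ≤ S
  normal : (T.subgroupOf S).Normal
  sc : F.StronglyClosed T
  inv : ∀ {a a' : Ω → Ω}, Adm F T a a' → ∀ {P : Subgroup Ω} {f : Ω → Ω}, IsMapOn E P f →
    ∀ {P' : Subgroup Ω}, IsImage P a P' → IsMapOn E P' (a ∘ f ∘ a')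

theorem gf_congr {P : Subgroup Ω} {f g : Ω → Ω} (h : Gf (S := S) E P f) (hfg : ∀ x ∈ P, f x = g x) :
    Gf (S := S) E P g := by
  obtain ⟨s, hs, h⟩ := h
  refine ⟨s, hs, h.congr fun x hx => ?_⟩
  simp only [Function.comp_apply]
  rw [hfg x hx.1]

theorem gf_conj {P : Subgroup Ω} {a : Ω} (_ : P ≤ S) (ha : a ∈ S) :
    Gf (S := S) E P (fun x => a * x * a⁻¹) := by
  refine ⟨a, ha, (IsMapOn.id E inf_le_right).congr fun x _ => ?_⟩
  simp only [Function.comp_apply, cj]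
  group

theorem gf_comp (H : FrHyp F E) {P R : Subgroup Ω} {f g : Ω → Ω} (hf : IsMapOn F P f)
    (hGf : Gf (S := S) E P f) (_ : IsMapOn F R g) (hGg : Gf (S := S) E R g)
    (hfR : ∀ x ∈ P, f x ∈ R) : Gf (S := S) E P (g ∘ f) := by
  obtain ⟨s, hs, hf₀⟩ := hGf
  obtain ⟨t, ht, hg₀⟩ := hGg
  have hA : Adm F T (cj s⁻¹) (cj s) := adm_cj' H.le H.normal hs
  obtain ⟨R'', hR''⟩ := hA.exists_image (inf_le_right : R ⊓ T ≤ T)
  have hg₀' := H.inv hA hg₀ hR''
  refine ⟨t * s, S.mul_mem ht hs, (hf₀.comp hg₀' ?_).congr ?_⟩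
  · intro x hx
    refine (hR'' _).2 ⟨f x, ⟨hfR x hx.1, ?_⟩, rfl⟩
    exact Cfsg.Agent.S5119.sc_apply_mem' H.sc (hf.mono inf_le_left) inf_le_right hx
  · intro x _
    simp only [Function.comp_apply]
    rw [cj_cj_inv s (f x)]
    simp only [cj]
    group

theorem gf_inv (H : FrHyp F E) {P P' : Subgroup Ω} {f g : Ω → Ω} (_ : IsMapOn F P f)
    (hGf : Gf (S := S) E P f) (himg : IsImage P f P') (hg : IsMapOn F P' g)
    (hgf : ∀ x ∈ P, g (f x) = x) : Gf (S := S) E P' g := by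
  obtain ⟨s, hs, hf₀⟩ := hGf
  obtain ⟨Q₀, hQ₀, -⟩ := Helper88_Centric.exists_isImage hf₀
  obtain ⟨k, hk, hk1, -, -⟩ := hf₀.inv hQ₀
  have hA : Adm F T (cj s) (cj s⁻¹) := adm_cj H.le H.normal hs
  have hQ₀T : Q₀ ≤ T := hk.le
  obtain ⟨Q₀', hQ₀'⟩ := hA.exists_image hQ₀T
  have hk' := H.inv hA hk hQ₀'
  have hpre : ∀ y ∈ P' ⊓ T, ∃ x ∈ P ⊓ T, f x = y := by
    intro y hy
    obtain ⟨x, hx, rfl⟩ := (himg y).1 hy.1
    refine ⟨x, ⟨hx, ?_⟩, rfl⟩
    have := Cfsg.Agent.S5119.sc_apply_mem' H.sc (hg.mono inf_le_left) inf_le_right hy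
    rwa [hgf x hx] at this
  have hle : P' ⊓ T ≤ Q₀' := by
    intro y hy
    obtain ⟨x, hx, rfl⟩ := hpre y hy
    refine (hQ₀' _).2 ⟨(cj s⁻¹ ∘ f) x, hQ₀.mem hx, ?_⟩
    simp only [Function.comp_apply]
    exact cj_cj_inv s _
  refine ⟨s⁻¹, S.inv_mem hs, (hk'.mono hle).congr fun y hy => ?_⟩
  obtain ⟨x, hx, rfl⟩ := hpre y hy
  have h1 := hk1 x hx
  simp only [Function.comp_apply] at h1 ⊢
  rw [h1, hgf x hx.1, inv_inv]

/-- The Frattini subsystem. -/
def frSystem (F : FusionSystem S) (E : FusionSystem T) (H : FrHyp F E) : FusionSystem S :=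
  Helper88_Essential.subsystemOf F (Gf (S := S) E) gf_congr gf_conj (gf_comp H) (gf_inv H)

/-- Restriction of `p'`-automorphisms to the intersection with `T`. -/
theorem exists_restrict [Finite S] {p : ℕ} (hsc : F.StronglyClosed T) {Q : Subgroup Ω} (hQS : Q ≤ S)
    (m : MulAut Q) (hm : m ∈ Subgroup.closure (PP F p Q)) :
    ∃ m' ∈ Subgroup.closure (PP F p (Q ⊓ T)),
      ∀ x : ↥(Q ⊓ T), ((m' x : ↥(Q ⊓ T)) : Ω) = extFun m x := by
  haveI : Finite ↥(Q ⊓ T) := Helper84_FusionRS.finite_of_le_S (inf_le_left.trans hQS)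
  induction hm using Subgroup.closure_induction with
  | mem γ hγ =>
    obtain ⟨hγF, hco⟩ := hγ
    have h0 : IsMapOn F Q (extFun γ) := (Helper87_Alperin.mem_autGroup_iff F hQS γ).1 hγF
    have h1 : IsMapOn F (Q ⊓ T) (extFun γ) := h0.mono inf_le_left
    have h2 : ∀ x ∈ Q ⊓ T, extFun γ x ∈ Q ⊓ T := fun x hx =>
      ⟨Helper87_Alperin.extFun_mem γ hx.1, Cfsg.Agent.S5119.sc_apply_mem' hsc h1 inf_le_right hx⟩
    obtain ⟨γ', hγ', hγ'f⟩ := Cfsg.Agent.S5111.exists_aut_of_isMapOn h1 h2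
    refine ⟨γ', Subgroup.subset_closure ⟨hγ', ?_⟩, hγ'f⟩
    have hdvd : orderOf γ' ∣ orderOf γ := by
      apply orderOf_dvd_of_pow_eq_one
      ext x
      rw [Helper88_Centric.pow_apply_eq_iterate γ' (extFun γ) hγ'f (orderOf γ) x]
      have h3 := Helper88_Centric.pow_apply_eq_iterate γ (extFun γ)
        (fun z => (Helper87_Alperin.extFun_coe γ z).symm) (orderOf γ) ⟨x, x.2.1⟩
      rw [pow_orderOf_eq_one] at h3
      exact h3.symm
    exact Nat.Coprime.coprime_dvd_left hdvd hco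
  | one =>
    refine ⟨1, Subgroup.one_mem _, fun x => ?_⟩
    rw [Helper87_Alperin.extFun_apply _ x.2.1]
    rfl
  | mul γ₁ γ₂ _ _ h₁ h₂ =>
    obtain ⟨m₁, hm₁, hm₁f⟩ := h₁
    obtain ⟨m₂, hm₂, hm₂f⟩ := h₂
    refine ⟨m₁ * m₂, Subgroup.mul_mem _ hm₁ hm₂, fun x => ?_⟩
    rw [MulAut.mul_apply, hm₁f, hm₂f, Helper87_Alperin.extFun_mul _ _ x.2.1]
  | inv γ _ h =>
    obtain ⟨m₀, hm₀, hm₀f⟩ := h
    refine ⟨m₀⁻¹, Subgroup.inv_mem _ hm₀, fun x => ?_⟩
    have h1 := hm₀f (m₀⁻¹ x)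
    rw [MulAut.apply_inv_self] at h1
    rw [h1, Helper87_Alperin.extFun_inv_apply γ (m₀⁻¹ x).2.1]

theorem le_frSystem [Finite S] {p : ℕ} [Fact p.Prime] (hS : IsPGroup p S) (hF : F.IsSaturated p)
    (H : FrHyp F E) (hEi : E.HasPPowerIndexIn F p) :
    ∀ (P : Subgroup Ω) (f : Ω → Ω), IsMapOn F P f → Gf (S := S) E P f := by
  have key : ∀ (P : Subgroup Ω) (f : Ω → Ω), IsMapOn F P f → IsMapOn (frSystem F E H) P f := by
    refine Helper87_Alperin.weak_alperin_isMapOn F hS hF (frSystem F E H) ?_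
    intro Q hQa _ β hβ
    obtain ⟨hQS, R, hR⟩ := hQa
    have hfinQ : Finite Q := Helper84_FusionRS.finite_of_le_S hQS
    have hfinA : Finite (F.autGroup Q) := inferInstance
    refine ⟨Q.subtype.comp β.toMonoidHom,
      ⟨(Helper87_Alperin.mem_autGroup_iff' F hQS β).1 hβ, ?_⟩,
      fun x => (Helper87_Alperin.extFun_coe β x).symm⟩
    obtain ⟨r, hr, m, hm, hrm⟩ := Helper34_Sylow.exists_mul_pResidual
      (R : Subgroup (F.autGroup Q)) R.not_dvd_index ⟨β, hβ⟩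
    rw [hR, Subgroup.mem_subgroupOf, Helper85_Fusion.mem_autInducedBy_iff] at hr
    obtain ⟨s, hs, hrs⟩ := hr
    have h1 : β = (r : MulAut Q) * (m : MulAut Q) := congrArg Subtype.val hrm
    have hmc := Cfsg.Agent.S5124.coe_mem_of_mem_pResidual F p Q m hm
    obtain ⟨m', hm', hm'f⟩ := exists_restrict H.sc hQS _ hmc
    have h2 : m' ∈ E.autGroup (Q ⊓ T) := closure_PP_le hEi inf_le_right hm'
    have h3 := (Helper87_Alperin.mem_autGroup_iff E inf_le_right _).1 h2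
    refine ⟨s, hs, h3.congr fun x hx => ?_⟩
    simp only [Function.comp_apply]
    rw [Helper87_Alperin.extFun_apply _ hx, hm'f, Helper87_Alperin.extHom_apply _ hx.1]
    show extFun (m : MulAut Q) x = cj s⁻¹ ((β ⟨x, hx.1⟩ : Q) : Ω)
    rw [h1, MulAut.mul_apply, hrs, Helper87_Alperin.extFun_apply _ hx.1]
    exact (cj_inv_cj s _).symm
  intro P f hf
  obtain ⟨φ, hφ, hφf⟩ := key P f hf
  refine gf_congr hφ.2 fun x hx => ?_
  rw [Helper87_Alperin.extHom_apply φ hx, hφf]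


/-! ### Step D: the extension condition -/

/-- The extension predicate. -/
def Ext (F : FusionSystem S) (T : Subgroup Ω) (α : MulAut T) : Prop :=
  ∃ β ∈ F.autGroup (T ⊔ centralizerIn S T),
    (∀ x : T, ((β (Subgroup.inclusion le_sup_left x) : ↥(T ⊔ centralizerIn S T)) : Ω) =
      ((α x : T) : Ω)) ∧
    ∀ c : ↥(T ⊔ centralizerIn S T), (c : Ω) ∈ centralizerIn S T →
      (c : Ω)⁻¹ * ((β c : ↥(T ⊔ centralizerIn S T)) : Ω) ∈ T ⊓ Subgroup.centralizer (T : Set Ω)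

theorem ext_one : Ext F T 1 := by
  refine ⟨1, Subgroup.one_mem _, fun x => rfl, fun c _ => ?_⟩
  show (c : Ω)⁻¹ * (c : Ω) ∈ _
  rw [inv_mul_cancel]
  exact Subgroup.one_mem _

theorem aut_center_mem (α : MulAut T) {z : Ω} (hz : z ∈ T ⊓ Subgroup.centralizer (T : Set Ω)) :
    ((α ⟨z, hz.1⟩ : T) : Ω) ∈ T ⊓ Subgroup.centralizer (T : Set Ω) := by
  refine Subgroup.mem_inf.2 ⟨(α ⟨z, hz.1⟩).2, ?_⟩
  rw [Subgroup.mem_centralizer_iff]
  intro t ht
  have h1 : (⟨t, ht⟩ : T) = α (α⁻¹ ⟨t, ht⟩) := (MulAut.apply_inv_self _ α _).symm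
  have h2 : (α⁻¹ ⟨t, ht⟩ : T) * ⟨z, hz.1⟩ = ⟨z, hz.1⟩ * (α⁻¹ ⟨t, ht⟩ : T) := by
    apply Subtype.ext
    exact (Subgroup.mem_centralizer_iff.1 hz.2) _ (α⁻¹ ⟨t, ht⟩).2
  have h3 := congrArg (fun w : T => ((α w : T) : Ω)) h2
  simp only [map_mul, Subgroup.coe_mul] at h3
  rw [← h1] at h3
  exact h3

theorem ext_mul {α₁ α₂ : MulAut T} (h₁ : Ext F T α₁) (h₂ : Ext F T α₂) : Ext F T (α₁ * α₂) := by
  obtain ⟨β₁, hβ₁, hx₁, hc₁⟩ := h₁
  obtain ⟨β₂, hβ₂, hx₂, hc₂⟩ := h₂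
  refine ⟨β₁ * β₂, Subgroup.mul_mem _ hβ₁ hβ₂, fun x => ?_, fun c hc => ?_⟩
  · rw [MulAut.mul_apply, MulAut.mul_apply]
    have h : β₂ (Subgroup.inclusion le_sup_left x) = Subgroup.inclusion le_sup_left (α₂ x) :=
      Subtype.ext (hx₂ x)
    rw [h, hx₁]
  · have hz₂ := hc₂ c hc
    have hz₁ := hc₁ c hc
    set z₂ : Ω := (c : Ω)⁻¹ * ((β₂ c : ↥(T ⊔ centralizerIn S T)) : Ω) with hz₂def
    have h : β₂ c = c * Subgroup.inclusion le_sup_left (⟨z₂, hz₂.1⟩ : T) := by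
      apply Subtype.ext
      show ((β₂ c : ↥(T ⊔ centralizerIn S T)) : Ω) = (c : Ω) * z₂
      rw [hz₂def, mul_inv_cancel_left]
    rw [MulAut.mul_apply, h, map_mul, Subgroup.coe_mul, hx₁, ← mul_assoc]
    exact Subgroup.mul_mem _ hz₁ (aut_center_mem α₁ hz₂)

theorem sup_le_of (U : Subgroup Ω) (φ : U →* Ω) (A B : Subgroup Ω) (hAB : U = A ⊔ B)
    (hA : ∀ (x : Ω) (_ : x ∈ A) (hxU : x ∈ U), φ ⟨x, hxU⟩ ∈ U)
    (hB : ∀ (x : Ω) (_ : x ∈ B) (hxU : x ∈ U), φ ⟨x, hxU⟩ ∈ U) : ∀ u : U, φ u ∈ U := by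
  have hAU : A ≤ U := hAB ▸ le_sup_left
  have hBU : B ≤ U := hAB ▸ le_sup_right
  have hle : U ≤ (U.comap φ).map U.subtype := by
    conv_lhs => rw [hAB]
    refine sup_le ?_ ?_
    · intro x hx
      exact ⟨⟨x, hAU hx⟩, hA x hx (hAU hx), rfl⟩
    · intro x hx
      exact ⟨⟨x, hBU hx⟩, hB x hx (hBU hx), rfl⟩
  intro u
  obtain ⟨v, hv, hvu⟩ := hle u.2
  have : v = u := Subtype.ext hvu
  rw [← this]
  exact hv

/-- An automorphism of `T` in `F` extends to an automorphism of `T C_S(T)`. -/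
theorem exists_ext_aut [Finite S] {p : ℕ} [Fact p.Prime] (hS : IsPGroup p S) (hF : F.IsSaturated p)
    (hTS : T ≤ S) (hTn : (T.subgroupOf S).Normal) {γ : MulAut T} (hγ : γ ∈ F.autGroup T) :
    ∃ β₀ ∈ F.autGroup (T ⊔ centralizerIn S T), ∀ x : T,
      ((β₀ (Subgroup.inclusion le_sup_left x) : ↥(T ⊔ centralizerIn S T)) : Ω) = ((γ x : T) : Ω) := by
  have hTfn : F.IsFullyNormalized T := by
    refine ⟨hTS, fun Q _ => ?_⟩
    have h1 : normalizerIn S T = S := by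
      apply le_antisymm inf_le_left
      intro s hs
      refine Subgroup.mem_inf.2 ⟨hs, ?_⟩
      rw [Subgroup.mem_normalizer_iff]
      intro x
      exact conj_mem_T_iff hTS hTn hs x
    rw [h1]
    exact Subgroup.card_le_of_le inf_le_left
  have hTr : F.IsReceptive T :=
    Helper84_FusionRS.IsSaturated.isReceptive_of_isFullyNormalized hS hF hTfn
  have hγhom : T.subtype.comp γ.toMonoidHom ∈ F.Hom T :=
    (Helper87_Alperin.mem_autGroup_iff' F hTS γ).1 hγ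
  obtain ⟨b, hb, hbγ⟩ := Helper88_Centric2.exists_extension_sup_centralizerIn hTr hγhom
    (Helper84_FusionRS.range_subtype_comp_equiv γ)
  have hUS : T ⊔ centralizerIn S T ≤ S := sup_le hTS inf_le_left
  haveI : Finite ↥(T ⊔ centralizerIn S T) := Helper84_FusionRS.finite_of_le_S hUS
  have hbU : ∀ x ∈ T ⊔ centralizerIn S T, b x ∈ T ⊔ centralizerIn S T := by
    obtain ⟨φ, hφ, hφb⟩ := hb
    have key := sup_le_of (T ⊔ centralizerIn S T) φ T (centralizerIn S T) rfl ?_ ?_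
    · intro x hx
      rw [← hφb ⟨x, hx⟩]
      exact key ⟨x, hx⟩
    · intro x hx hxU
      rw [hφb]
      have := hbγ ⟨x, hx⟩
      simp only [MonoidHom.comp_apply, Subgroup.subtype_apply, MulEquiv.coe_toMonoidHom] at this
      show b x ∈ _
      rw [this]
      exact (le_sup_left : T ≤ T ⊔ centralizerIn S T) (γ ⟨x, hx⟩).2
    · intro c hc hcU
      rw [hφb]
      show b c ∈ _
      apply (le_sup_right : centralizerIn S T ≤ T ⊔ centralizerIn S T)
      have hbmap : IsMapOn F (T ⊔ centralizerIn S T) b := ⟨φ, hφ, hφb⟩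
      refine Subgroup.mem_inf.2 ⟨hbmap.mem hcU, ?_⟩
      rw [Subgroup.mem_centralizer_iff]
      intro t ht
      have h1 : t = b ((γ⁻¹ ⟨t, ht⟩ : T) : Ω) := by
        have := hbγ (γ⁻¹ ⟨t, ht⟩)
        simp only [MonoidHom.comp_apply, Subgroup.subtype_apply, MulEquiv.coe_toMonoidHom,
          MulAut.apply_inv_self] at this
        exact this.symm
      have ht₀ : ((γ⁻¹ ⟨t, ht⟩ : T) : Ω) ∈ T ⊔ centralizerIn S T :=
        (le_sup_left : T ≤ T ⊔ centralizerIn S T) (γ⁻¹ ⟨t, ht⟩).2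
      have hcomm : ((γ⁻¹ ⟨t, ht⟩ : T) : Ω) * c = c * ((γ⁻¹ ⟨t, ht⟩ : T) : Ω) :=
        (Subgroup.mem_centralizer_iff.1 hc.2) _ (γ⁻¹ ⟨t, ht⟩).2
      rw [h1, ← hbmap.map_mul ht₀ hcU, ← hbmap.map_mul hcU ht₀, hcomm]
  obtain ⟨β₀, hβ₀, hβ₀b⟩ := Cfsg.Agent.S5111.exists_aut_of_isMapOn hb hbU
  refine ⟨β₀, hβ₀, fun x => ?_⟩
  rw [hβ₀b]
  have := hbγ x
  simp only [MonoidHom.comp_apply, Subgroup.subtype_apply, MulEquiv.coe_toMonoidHom] at this
  exact this

theorem ext_of_pprime [Finite S] {p : ℕ} [Fact p.Prime] (hS : IsPGroup p S) (hF : F.IsSaturated p)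
    (hTS : T ≤ S) (hTn : (T.subgroupOf S).Normal) (hT : F.hyperfocalSubgroup p ≤ T)
    {γ : MulAut T} (hγ : γ ∈ PP F p T) : Ext F T γ := by
  obtain ⟨hγF, hco⟩ := hγ
  obtain ⟨β₀, hβ₀, hβ₀γ⟩ := exists_ext_aut hS hF hTS hTn hγF
  have hUS : T ⊔ centralizerIn S T ≤ S := sup_le hTS inf_le_left
  haveI : Finite ↥(T ⊔ centralizerIn S T) := Helper84_FusionRS.finite_of_le_S hUS
  haveI : Finite (MulAut ↥(T ⊔ centralizerIn S T)) := inferInstance
  obtain ⟨n, hn1, hn2⟩ := Cfsg.Agent.S5139.exists_pprime_power p β₀ (orderOf γ) hco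
  have hpow : ∀ (j : ℕ) (x : T),
      (((β₀ ^ j) (Subgroup.inclusion le_sup_left x) : ↥(T ⊔ centralizerIn S T)) : Ω) =
        (((γ ^ j) x : T) : Ω) := by
    intro j
    induction j with
    | zero => intro x; rfl
    | succ j ih =>
      intro x
      rw [pow_succ', pow_succ', MulAut.mul_apply, MulAut.mul_apply]
      have h : (β₀ ^ j) (Subgroup.inclusion le_sup_left x) =
          Subgroup.inclusion le_sup_left ((γ ^ j) x) := Subtype.ext (ih x)
      rw [h, hβ₀γ]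
  have hγn : γ ^ n = γ := by
    have : γ ^ n = γ ^ 1 := by
      rw [← pow_mod_orderOf, hn2, pow_mod_orderOf]
    simpa using this
  have hβext : ∀ x : T,
      (((β₀ ^ n) (Subgroup.inclusion le_sup_left x) : ↥(T ⊔ centralizerIn S T)) : Ω) =
        ((γ x : T) : Ω) := by
    intro x
    rw [hpow n x, hγn]
  have hβF : β₀ ^ n ∈ F.autGroup (T ⊔ centralizerIn S T) := Subgroup.pow_mem _ hβ₀ n
  refine ⟨β₀ ^ n, hβF, hβext, fun c hc => Subgroup.mem_inf.2 ⟨?_, ?_⟩⟩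
  · apply hT
    exact Cfsg.Agent.S5124.gen_mem_hyperfocal F p hUS (β₀ ^ n)
      (Subgroup.subset_closure ⟨hβF, hn1⟩) c
  · apply Subgroup.mul_mem _ (Subgroup.inv_mem _ hc.2)
    rw [Subgroup.mem_centralizer_iff]
    intro t ht
    have h1 : t = (((β₀ ^ n) (Subgroup.inclusion le_sup_left (γ⁻¹ ⟨t, ht⟩)) :
        ↥(T ⊔ centralizerIn S T)) : Ω) := by
      rw [hβext, MulAut.apply_inv_self]
    have hcomm : Subgroup.inclusion (le_sup_left : T ≤ T ⊔ centralizerIn S T) (γ⁻¹ ⟨t, ht⟩) * c =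
        c * Subgroup.inclusion le_sup_left (γ⁻¹ ⟨t, ht⟩) := by
      apply Subtype.ext
      exact (Subgroup.mem_centralizer_iff.1 hc.2) _ (γ⁻¹ ⟨t, ht⟩).2
    have h2 := congrArg (fun w : ↥(T ⊔ centralizerIn S T) =>
      (((β₀ ^ n) w : ↥(T ⊔ centralizerIn S T)) : Ω)) hcomm
    simp only [map_mul, Subgroup.coe_mul] at h2
    rw [← h1] at h2
    exact h2

theorem ext_of_inner [Finite S] (hTS : T ≤ S) {α : MulAut T} (hα : α ∈ autInducedBy T T) :
    Ext F T α := by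
  obtain ⟨t, ht, hαt⟩ := (Helper85_Fusion.mem_autInducedBy_iff T T α).1 hα
  have hUS : T ⊔ centralizerIn S T ≤ S := sup_le hTS inf_le_left
  haveI : Finite ↥(T ⊔ centralizerIn S T) := Helper84_FusionRS.finite_of_le_S hUS
  have htU : t ∈ T ⊔ centralizerIn S T := (le_sup_left : T ≤ T ⊔ centralizerIn S T) ht
  have hb : IsMapOn F (T ⊔ centralizerIn S T) (fun x => t * x * t⁻¹) :=
    IsMapOn.conj F hUS (hTS ht)
  obtain ⟨β, hβ, hβb⟩ := Cfsg.Agent.S5111.exists_aut_of_isMapOn hb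
    (fun x hx => Subgroup.mul_mem _ (Subgroup.mul_mem _ htU hx) (Subgroup.inv_mem _ htU))
  refine ⟨β, hβ, fun x => ?_, fun c hc => ?_⟩
  · rw [hβb, hαt]
    rfl
  · rw [hβb]
    have hcomm : t * (c : Ω) = c * t := (Subgroup.mem_centralizer_iff.1 hc.2) t ht
    have : (c : Ω)⁻¹ * (t * (c : Ω) * t⁻¹) = 1 := by
      rw [hcomm]
      group
    rw [this]
    exact Subgroup.one_mem _

theorem ext_of_closure [Finite S] {p : ℕ} [Fact p.Prime] (hS : IsPGroup p S) (hF : F.IsSaturated p)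
    (hTS : T ≤ S) (hTn : (T.subgroupOf S).Normal) (hT : F.hyperfocalSubgroup p ≤ T)
    (μ : MulAut T) (hμ : μ ∈ Submonoid.closure (PP F p T)) : Ext F T μ := by
  induction hμ using Submonoid.closure_induction with
  | mem γ hγ => exact ext_of_pprime hS hF hTS hTn hT hγ
  | one => exact ext_one
  | mul γ₁ γ₂ _ _ h₁ h₂ => exact ext_mul h₁ h₂

theorem ext_all [Finite S] {p : ℕ} [Fact p.Prime] (hS : IsPGroup p S) (hF : F.IsSaturated p)
    (hTS : T ≤ S) (hTn : (T.subgroupOf S).Normal) (hT : F.hyperfocalSubgroup p ≤ T)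
    (hEs : E.IsSaturated p) (hEi : E.HasPPowerIndexIn F p) {α : MulAut T} (hα : α ∈ E.autGroup T) :
    Ext F T α := by
  haveI : Finite T := Helper84_FusionRS.finite_of_le_S hTS
  haveI : Finite (MulAut T) := inferInstance
  -- `T` is fully automized in `E`
  obtain ⟨Q, hTQ, hQa, -⟩ := hEs T le_rfl
  have hQT : Q = T := by
    have hcard := Helper85_Fusion.isConj_card_eq E hTQ
    exact Subgroup.eq_of_le_of_card_ge hQa.1 hcard.le
  subst hQT
  obtain ⟨-, R, hR⟩ := hQa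
  obtain ⟨r, hr, m, hm, hrm⟩ := Helper34_Sylow.exists_mul_pResidual
    (R : Subgroup (E.autGroup Q)) R.not_dvd_index ⟨α, hα⟩
  have hα' : α = (r : MulAut Q) * (m : MulAut Q) := congrArg Subtype.val hrm
  rw [hα']
  apply ext_mul
  · have hr' : r ∈ (autInducedBy Q Q).subgroupOf (E.autGroup Q) := hR ▸ hr
    rw [Subgroup.mem_subgroupOf] at hr'
    exact ext_of_inner hTS hr'
  · have hm1 := Cfsg.Agent.S5124.coe_mem_of_mem_pResidual E p Q m hm
    have hm2 : (m : MulAut Q) ∈ Subgroup.closure (PP F p Q) := by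
      refine Subgroup.closure_mono ?_ hm1
      rintro β ⟨hβ1, hβ2⟩
      exact ⟨Cfsg.Agent.S5139.autGroup_mono hEi.1 Q hβ1, hβ2⟩
    have hm3 : (m : MulAut Q) ∈ (Subgroup.closure (PP F p Q)).toSubmonoid := hm2
    rw [Subgroup.closure_toSubmonoid_of_finite] at hm3
    exact ext_of_closure hS hF hTS hTn hT _ hm3

end

/-- Let F be a saturated fusion system over a finite p-group S and T a subgroup of S containing the hyperfocal subgroup of F and normal in S. Then every saturated subsystem of F over T of p-power index is a normal subsystem of F. -/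
theorem result {Ω : Type*} [Group Ω] {S : Subgroup Ω} [Finite S] (p : ℕ) [Fact p.Prime] (hS : IsPGroup p S) (F : Cfsg.FusionSystem S) (hF : F.IsSaturated p) (T : Subgroup Ω) (hTS : T ≤ S) (hTn : (T.subgroupOf S).Normal) (hT : F.hyperfocalSubgroup p ≤ T) (E : Cfsg.FusionSystem T) (hEs : E.IsSaturated p) (hEi : E.HasPPowerIndexIn F p) : E.IsNormalIn F p := by
  have hsc := stronglyClosed_T hS F hF hTS hTn hT
  have H : FrHyp F E :=
    { le := hTS
      normal := hTn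
      sc := hsc
      inv := fun hA _ _ hf _ hP' => invF hS hTS hEs hEi hA hf hP' }
  refine ⟨⟨hEs, hF, hEi.1, hsc, ?_, ?_⟩, fun α hα => ext_all hS hF hTS hTn hT hEs hEi hα⟩
  · -- invariance
    intro P hPT φ hφ α hα
    have hA : Adm F T (extFun α) (extFun α⁻¹) :=
      { map := (Helper87_Alperin.mem_autGroup_iff F hTS α).1 hα
        map' := (Helper87_Alperin.mem_autGroup_iff F hTS α⁻¹).1 (Subgroup.inv_mem _ hα)
        mem := fun x hx => Helper87_Alperin.extFun_mem α hx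
        mem' := fun x hx => Helper87_Alperin.extFun_mem α⁻¹ hx
        left := fun x hx => Helper87_Alperin.extFun_inv_apply α hx
        right := fun x hx => Helper87_Alperin.extFun_apply_inv α hx }
    have hP' : IsImage P (extFun α) ((P.subgroupOf T).map (T.subtype.comp α.toMonoidHom)) := by
      intro y
      constructor
      · rintro ⟨z, hz, rfl⟩
        exact ⟨(z : Ω), Subgroup.mem_subgroupOf.1 hz, Helper87_Alperin.extFun_coe α z⟩
      · rintro ⟨x, hx, rfl⟩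
        exact ⟨⟨x, hPT hx⟩, Subgroup.mem_subgroupOf.2 hx,
          (Helper87_Alperin.extFun_apply α (hPT hx)).symm⟩
    obtain ⟨χ, hχ, hχf⟩ := invF hS hTS hEs hEi hA (Helper87_Alperin.isMapOn_extHom E hφ) hP'
    refine ⟨χ, hχ, fun x hφx hαx => ?_⟩
    rw [hχf]
    simp only [Function.comp_apply]
    rw [Helper87_Alperin.extFun_coe, MulAut.inv_apply_self, Helper87_Alperin.extHom_apply φ x.2,
      Helper87_Alperin.extFun_apply α hφx]
  · -- Frattini
    intro P hPT φ hφ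
    obtain ⟨s, hs, h⟩ := le_frSystem hS hF H hEi P _ (Helper87_Alperin.isMapOn_extHom F hφ)
    rw [inf_eq_left.2 hPT] at h
    obtain ⟨φ₀, hφ₀, hφ₀f⟩ := h
    haveI : Finite T := Helper84_FusionRS.finite_of_le_S hTS
    obtain ⟨α, hα, hαs⟩ := Cfsg.Agent.S5111.exists_aut_of_isMapOn (IsMapOn.conj F hTS hs)
      (fun x hx => conj_mem_T hTS hTn hs hx)
    refine ⟨α, hα, φ₀, hφ₀, fun x hx => ?_⟩
    rw [hαs]
    show φ x = s * φ₀ x * s⁻¹
    rw [hφ₀f]
    simp only [Function.comp_apply]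
    rw [Helper87_Alperin.extHom_coe]
    exact (cj_cj_inv s _).symm

end Cfsg.Agent.S5120
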