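import Cfsg.Statements.S4468
import Cfsg.Agent.Lib.Helper15_MinNonPClosed
import Cfsg.Agent.Lib.Helper76_PSolvable
import Cfsg.Agent.Lib.Helper69_PComplement

set_option autoImplicit false
open Cfsg

namespace Cfsg.Agent.S4468

open Cfsg.Agent.Lib.Helper15_MinNonPClosed
open Cfsg.Agent.Lib.Helper3_CharBridge Cfsg.Agent.Lib.Helper3_CharOrtho
  Cfsg.Agent.Lib.Helper3_CharComplete Cfsg.Agent.Lib.Helper75_CharArith

universe u

variable {H : Type u} [Group H]

/-- In a `p`-solvable group all of whose proper subgroups are `p`-closed, a non-normal abelian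
Sylow `p`-subgroup is complemented by `O_{p'}`. -/
theorem pPrimeCore_sup_eq_top [Finite H] (p : ℕ) [hp : Fact p.Prime]
    (hsol : IsPSolvable p H)
    (hmin : ∀ L : Subgroup H, L ≠ ⊤ → ∀ Q : Sylow p L, (Q : Subgroup L).Normal)
    (P : Sylow p H) (hPn : ¬ (P : Subgroup H).Normal)
    (hab : ∀ a ∈ (P : Subgroup H), ∀ b ∈ (P : Subgroup H), a * b = b * a) :
    pPrimeCore p H ⊔ (P : Subgroup H) = ⊤ := by
  set K := pPrimeCore p H with hK
  haveI hKn : K.Normal := Cfsg.Agent.Lib.Helper76_PSolvable.pPrimeCore_normal p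
  set π := QuotientGroup.mk' K with hπ
  have hπs : Function.Surjective π := QuotientGroup.mk'_surjective K
  have hsol' : IsPSolvable p (H ⧸ K) :=
    Cfsg.Agent.Lib.Helper76_PSolvable.isPSolvable_quotient p K hsol
  have hcore : pPrimeCore p (H ⧸ K) = ⊥ :=
    Cfsg.Agent.Lib.Helper76_PSolvable.pPrimeCore_quotient_pPrimeCore p
  have hHH := Cfsg.Agent.Lib.Helper76_PSolvable.centralizer_pCore_le p hsol' hcore
  set O := pCore p (H ⧸ K) with hO
  haveI hOn : O.Normal := Cfsg.Agent.Lib.Helper76_PSolvable.pCore_normal p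
  have hOp : IsPGroup p O := Cfsg.Agent.Lib.Helper76_PSolvable.pCore_isPGroup p
  set Pbar : Sylow p (H ⧸ K) := P.mapSurjective hπs with hPbar
  have hOP : O ≤ (Pbar : Subgroup (H ⧸ K)) := by
    have h1 : IsPGroup p ((Pbar : Subgroup (H ⧸ K)) ⊔ O : Subgroup (H ⧸ K)) :=
      IsPGroup.to_sup_of_normal_right Pbar.isPGroup' hOp
    have h2 := Pbar.is_maximal' h1 le_sup_left
    rw [← h2]
    exact le_sup_right
  have hPO : (Pbar : Subgroup (H ⧸ K)) ≤ O := by
    apply le_trans _ hHH
    intro y hy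
    rw [Subgroup.mem_centralizer_iff]
    intro z hz
    have hz' := hOP hz
    rw [hPbar, Sylow.coe_mapSurjective] at hy hz'
    obtain ⟨a, ha, rfl⟩ := hy
    obtain ⟨b, hb, rfl⟩ := hz'
    rw [← map_mul, ← map_mul, hab b hb a ha]
  have hPeq : (Pbar : Subgroup (H ⧸ K)) = O := le_antisymm hPO hOP
  -- K ⊔ P is the preimage of O, hence normal
  have hM : K ⊔ (P : Subgroup H) = O.comap π := by
    rw [← hPeq, hPbar, Sylow.coe_mapSurjective, Subgroup.comap_map_eq, hπ, QuotientGroup.ker_mk',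
      sup_comm]
  by_contra hne
  have hMn : (K ⊔ (P : Subgroup H)).Normal := by
    rw [hM]; exact Subgroup.Normal.comap hOn π
  exact hPn (normal_of_le_normal_proper p hmin P _ hMn hne le_sup_right)


/-- **Ito–Winter**, by induction on the group order. -/
theorem ito_winter (p : ℕ) [hp : Fact p.Prime] (n : ℕ) (hnp : n + 1 ≤ p) :
    ∀ N : ℕ, ∀ (G : Type u) [Group G] [Finite G], Nat.card G = N →
      ∀ χ : G → ℂ, IsCharacter G χ → (∀ g, χ g = χ 1 → g = 1) → χ 1 = n → IsPSolvable p G →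
      ∀ P : Sylow p G, ¬ (P : Subgroup G).Normal →
        n + 1 = p ∧ (∃ k : ℕ, n = 2 ^ k) ∧ IsIrrCharacter G χ := by
  intro N
  induction N using Nat.strong_induction_on with
  | _ N ih =>
    intro G _ _ hN χ hχ hfaith hn hsol P hPn
    haveI : Fintype G := Fintype.ofFinite G
    by_cases hmin : ∀ L : Subgroup G, L ≠ ⊤ → ∀ Q : Sylow p L, (Q : Subgroup L).Normal
    · have hab := comm_of_faithful_lt p χ hχ hfaith n hn (by omega) (P : Subgroup G) P.isPGroup'
      have hsup := pPrimeCore_sup_eq_top p hsol hmin P hPn hab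
      exact endgame p hmin (pPrimeCore p G) (Cfsg.Agent.Lib.Helper76_PSolvable.pPrimeCore_normal p)
        (Cfsg.Agent.Lib.Helper76_PSolvable.pPrimeCore_card_coprime p) (P : Subgroup G) P.isPGroup'
        hsup hPn χ hχ hfaith n hn hnp
    · push Not at hmin
      obtain ⟨L, hL, Q, hQ⟩ := hmin
      have hlt : Nat.card L < N := by
        rw [← hN]
        exact lt_of_le_of_ne (Subgroup.card_le_card_group L)
          (fun h => hL (Subgroup.eq_top_of_card_eq L h))
      obtain ⟨h1, h2, h3⟩ := ih (Nat.card L) hlt L rfl (fun l : L => χ l)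
        (isCharacter_restrict L hχ) (fun g hg => Subtype.ext (hfaith _ hg)) hn
        (Cfsg.Agent.Lib.Helper69_PComplement.isPSolvable_subgroup p hsol L) Q hQ
      exact ⟨h1, h2, Cfsg.Agent.S0890.irr_of_res_irr L hχ h3⟩

/-- Let the finite p-solvable group G have a faithful character χ of degree n ≤ p − 1 and suppose that a Sylow p-subgroup of G is not normal. Then n = p − 1, n is a power of 2, and χ is irreducible. -/
theorem result {G : Type*} [Group G] [Finite G] (χ : G → ℂ) (hχ : Cfsg.IsCharacter G χ) (hfaith : ∀ g : G, χ g = χ 1 → g = 1) (n : ℕ) (hn : Cfsg.charDegree χ = n) (p : ℕ) (hp : p.Prime) (hsolv : Cfsg.IsPSolvable p G) (hnp : n + 1 ≤ p) (P : Sylow p G) (hP : ¬ (P : Subgroup G).Normal) : n + 1 = p ∧ (∃ k : ℕ, n = 2 ^ k) ∧ Cfsg.IsIrrCharacter G χ := by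
  haveI : Fact p.Prime := ⟨hp⟩
  have hn' : χ 1 = n := by
    obtain ⟨k, hk⟩ := Cfsg.Agent.S0890.char_one_nat hχ
    rw [hk]
    unfold Cfsg.charDegree at hn
    rw [hk] at hn
    simp at hn
    rw [hn]
  exact ito_winter p n hnp (Nat.card G) G rfl χ hχ hfaith hn' hsolv P hP

end Cfsg.Agent.S4468
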