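import Cfsg.Statements.S0990
import Cfsg.Agent.Lib.Helper17_Sylow

set_option autoImplicit false
open Cfsg

namespace Cfsg.Agent.S0990

open Cfsg.Agent.Lib.Helper17_Sylow Subgroup

/-- A `p`-subgroup of a symmetric group, `p` odd, consists of even permutations. -/
theorem le_alternatingGroup_of_isPGroup {α : Type*} [Fintype α] [DecidableEq α] {p : ℕ}
    [hp : Fact p.Prime] (hp2 : p ≠ 2) (P : Subgroup (Equiv.Perm α)) (hP : IsPGroup p P) :
    P ≤ alternatingGroup α := by
  intro x hx
  rw [Equiv.Perm.mem_alternatingGroup]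
  obtain ⟨k, hk⟩ := hP ⟨x, hx⟩
  have hk' : x ^ (p ^ k) = 1 := congrArg Subtype.val hk
  have h1 : (Equiv.Perm.sign x) ^ (p ^ k) = 1 := by rw [← map_pow, hk', map_one]
  rcases Int.units_eq_one_or (Equiv.Perm.sign x) with h | h
  · exact h
  · exfalso
    rw [h] at h1
    have hodd : Odd (p ^ k) := (hp.out.odd_of_ne_two hp2).pow
    rw [hodd.neg_one_pow] at h1
    exact absurd h1 (by decide)

/-- Frattini-type statement: if `A` is a normal subgroup of index 2 containing a Sylow
`p`-subgroup `P` of `G`, then `2 * |N_A(P)| = |N_G(P)|`. -/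
theorem two_mul_card_normalizer_subgroupOf {G : Type*} [Group G] [Finite G] {p : ℕ}
    [Fact p.Prime] (P : Sylow p G) (A : Subgroup G) [A.Normal] (hA : A.index = 2)
    (hPA : (P : Subgroup G) ≤ A) :
    2 * Nat.card (normalizer (((P : Subgroup G).subgroupOf A : Subgroup A) : Set A)) =
      Nat.card (normalizer ((P : Subgroup G) : Set G)) := by
  have h1 := Sylow.normalizer_sup_eq_top (P.subtype hPA)
  rw [Sylow.coe_subtype, Subgroup.subgroupOf_map_subtype, inf_of_le_left hPA] at h1
  have h2 : A.relIndex (normalizer ((P : Subgroup G) : Set G)) = 2 := by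
    rw [← Subgroup.relIndex_sup_right, h1, Subgroup.relIndex_top_right, hA]
  rw [← Subgroup.subgroupOf_normalizer_eq hPA]
  have h3 := Subgroup.card_mul_index (A.subgroupOf (normalizer ((P : Subgroup G) : Set G)))
  change _ * A.relIndex _ = _ at h3
  rw [h2] at h3
  rw [← h3, mul_comm]
  congr 1
  -- |N(P) ∩ A| computed two ways
  have e1 : ((normalizer ((P : Subgroup G) : Set G)).subgroupOf A) ≃
      (normalizer ((P : Subgroup G) : Set G) ⊓ A : Subgroup G) :=
    { toFun := fun x => ⟨x.1.1, x.2, x.1.2⟩
      invFun := fun x => ⟨⟨x.1, x.2.2⟩, x.2.1⟩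
      left_inv := fun x => rfl
      right_inv := fun x => rfl }
  have e2 : (A.subgroupOf (normalizer ((P : Subgroup G) : Set G))) ≃
      (normalizer ((P : Subgroup G) : Set G) ⊓ A : Subgroup G) :=
    { toFun := fun x => ⟨x.1.1, x.1.2, x.2⟩
      invFun := fun x => ⟨⟨x.1, x.2.1⟩, x.2.2⟩
      left_inv := fun x => rfl
      right_inv := fun x => rfl }
  rw [Nat.card_congr e1, Nat.card_congr e2]

/-- Let p be an odd prime and P a Sylow p-subgroup of the symmetric group on a finite set with at least two elements. Then P is contained in the alternating group, and twice the order of the normalizer of P inside the alternating group equals the order of the normalizer of P in the symmetric group. -/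
theorem result {α : Type*} [Fintype α] [DecidableEq α] (hα : 2 ≤ Fintype.card α) (p : ℕ) [Fact p.Prime] (hp : p ≠ 2) (P : Sylow p (Equiv.Perm α)) : (P : Subgroup (Equiv.Perm α)) ≤ alternatingGroup α ∧ 2 * Nat.card ↥(Subgroup.normalizer ((((P : Subgroup (Equiv.Perm α)).subgroupOf (alternatingGroup α) : Subgroup ↥(alternatingGroup α)) : Set ↥(alternatingGroup α)))) = Nat.card ↥(Subgroup.normalizer ((P : Subgroup (Equiv.Perm α)) : Set (Equiv.Perm α))) := by
  have hle := le_alternatingGroup_of_isPGroup hp (P : Subgroup (Equiv.Perm α)) P.2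
  refine ⟨hle, ?_⟩
  have hnt : Nontrivial α := Fintype.one_lt_card_iff_nontrivial.mp (by omega)
  exact two_mul_card_normalizer_subgroupOf P (alternatingGroup α) alternatingGroup.index_eq_two hle

end Cfsg.Agent.S0990
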