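import Cfsg.Statements.S0987
import Cfsg.Agent.Lib.Helper17_Sylow

set_option autoImplicit false
open Cfsg

namespace Cfsg.Agent.S0987

open Cfsg.Agent.Lib.Helper17_Sylow Subgroup

theorem not_modEq_one {x r : ℕ} (h1 : 1 < x) (h2 : x < r) : ¬ x ≡ 1 [MOD r] := by
  intro h
  unfold Nat.ModEq at h
  rw [Nat.mod_eq_of_lt h2, Nat.mod_eq_of_lt (by omega)] at h
  omega

theorem dvd_mul_primes {n a b : ℕ} (ha : a.Prime) (hb : b.Prime) (h : n ∣ a * b) :
    n = 1 ∨ n = a ∨ n = b ∨ n = a * b := by
  obtain ⟨c, d, hc, hd, rfl⟩ := (Nat.dvd_mul).mp h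
  rcases (Nat.dvd_prime ha).mp hc with rfl | rfl <;> rcases (Nat.dvd_prime hb).mp hd with rfl | rfl
  · left; rfl
  · right; right; left; simp
  · right; left; simp
  · right; right; right; rfl

/-- If a finite group has order pqr for primes p < q < r, then its Sylow r-subgroups are normal. -/
theorem result {G : Type*} [Group G] [Finite G] (p q r : ℕ) (hp : p.Prime) (hq : q.Prime) [Fact r.Prime] (hpq : p < q) (hqr : q < r) (hG : Nat.card G = p * q * r) (R : Sylow r G) : (R : Subgroup G).Normal := by
  have hr : r.Prime := Fact.out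
  have : Fact p.Prime := ⟨hp⟩
  have : Fact q.Prime := ⟨hq⟩
  have hp2 : 2 ≤ p := hp.two_le
  -- n_r
  have hGr : Nat.card G = r ^ 1 * (p * q) := by rw [hG]; ring
  have hrpq : ¬ r ∣ p * q := by
    intro h
    rcases (Nat.Prime.dvd_mul hr).mp h with h | h
    · have := Nat.le_of_dvd hp.pos h; omega
    · have := Nat.le_of_dvd hq.pos h; omega
  have hnr_dvd := card_sylow_dvd hGr hrpq
  have hnr_mod := card_sylow_modEq_one r G
  by_contra hnorm
  have hnr1 : Nat.card (Sylow r G) ≠ 1 := by
    intro h
    have : Subsingleton (Sylow r G) := (Nat.card_eq_one_iff_unique.mp h).1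
    exact hnorm (Sylow.normal_of_subsingleton R)
  have hnr : Nat.card (Sylow r G) = p * q := by
    rcases dvd_mul_primes hp hq hnr_dvd with h | h | h | h
    · exact absurd h hnr1
    · rw [h] at hnr_mod
      exact absurd hnr_mod (not_modEq_one (by omega) (by omega))
    · rw [h] at hnr_mod
      exact absurd hnr_mod (not_modEq_one (by omega) (by omega))
    · exact h
  have hRcard : ∀ P : Sylow r G, Nat.card (P : Subgroup G) = r := by
    intro P
    have := card_sylow_eq_pow hGr hrpq P
    rwa [pow_one] at this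
  have hcount_r := card_orderOf_eq_prime hRcard
  rw [hnr] at hcount_r
  -- n_q
  have hGq : Nat.card G = q ^ 1 * (p * r) := by rw [hG]; ring
  have hqpr : ¬ q ∣ p * r := by
    intro h
    rcases (Nat.Prime.dvd_mul hq).mp h with h | h
    · have := Nat.le_of_dvd hp.pos h; omega
    · rcases (Nat.dvd_prime hr).mp h with h | h
      · have := hq.one_lt; omega
      · omega
  have hnq_dvd := card_sylow_dvd hGq hqpr
  have hnq_mod := card_sylow_modEq_one q G
  have hQcard : ∀ P : Sylow q G, Nat.card (P : Subgroup G) = q := by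
    intro P
    have := card_sylow_eq_pow hGq hqpr P
    rwa [pow_one] at this
  have hcount_q := card_orderOf_eq_prime hQcard
  -- n_p
  have hGp : Nat.card G = p ^ 1 * (q * r) := by rw [hG]; ring
  have hpqr : ¬ p ∣ q * r := by
    intro h
    rcases (Nat.Prime.dvd_mul hp).mp h with h | h
    · rcases (Nat.dvd_prime hq).mp h with h | h <;> omega
    · rcases (Nat.dvd_prime hr).mp h with h | h <;> omega
  have hPcard : ∀ P : Sylow p G, Nat.card (P : Subgroup G) = p := by
    intro P
    have := card_sylow_eq_pow hGp hpqr P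
    rwa [pow_one] at this
  have hcount_p := card_orderOf_eq_prime hPcard
  have hnp_pos : 0 < Nat.card (Sylow p G) := Nat.card_pos
  -- counting
  have hsum := sum_card_orderOf_le (G := G) ({1, p, q, r} : Finset ℕ)
  rw [Finset.sum_insert (by simp; omega), Finset.sum_insert (by simp; omega),
    Finset.sum_insert (by simp; omega), Finset.sum_singleton, card_orderOf_eq_one,
    hcount_r, hcount_q, hcount_p, hG] at hsum
  have hnq : Nat.card (Sylow q G) = 1 := by
    rcases dvd_mul_primes hp hr hnq_dvd with h | h | h | h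
    · exact h
    · rw [h] at hnq_mod
      exact absurd hnq_mod (not_modEq_one (by omega) (by omega))
    · exfalso
      rw [h] at hsum
      obtain ⟨p', rfl⟩ : ∃ p', p = p' + 1 := ⟨p - 1, by omega⟩
      obtain ⟨q', rfl⟩ : ∃ q', q = q' + 1 := ⟨q - 1, by omega⟩
      obtain ⟨r', rfl⟩ : ∃ r', r = r' + 1 := ⟨r - 1, by omega⟩
      simp only [Nat.add_sub_cancel] at hsum
      nlinarith [Nat.zero_le (Nat.card (Sylow (p' + 1) G) * p'), Nat.zero_le (p' * q')]
    · exfalso
      rw [h] at hsum
      obtain ⟨p', rfl⟩ : ∃ p', p = p' + 1 := ⟨p - 1, by omega⟩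
      obtain ⟨q', rfl⟩ : ∃ q', q = q' + 1 := ⟨q - 1, by omega⟩
      obtain ⟨r', rfl⟩ : ∃ r', r = r' + 1 := ⟨r - 1, by omega⟩
      simp only [Nat.add_sub_cancel] at hsum
      nlinarith [Nat.zero_le (Nat.card (Sylow (p' + 1) G) * p'), Nat.zero_le (p' * q'),
        Nat.zero_le (p' * r' * q')]
  -- the normal Sylow q-subgroup
  obtain ⟨Q⟩ : Nonempty (Sylow q G) := inferInstance
  have hQsub : Subsingleton (Sylow q G) := (Nat.card_eq_one_iff_unique.mp hnq).1
  have hQn : (Q : Subgroup G).Normal := Sylow.normal_of_subsingleton Q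
  have hNC := relIndex_centralizer_normalizer_dvd_pred (Q : Subgroup G) (hQcard Q)
  rw [Subgroup.normalizer_eq_top, Subgroup.relIndex_top_right] at hNC
  have hidx_pos : 0 < (centralizer ((Q : Subgroup G) : Set G)).index :=
    Nat.pos_of_ne_zero Subgroup.index_ne_zero_of_finite
  have hr_ndvd : ¬ r ∣ (centralizer ((Q : Subgroup G) : Set G)).index := by
    intro h
    have h1 := Nat.le_of_dvd hidx_pos h
    have h2 := Nat.le_of_dvd (by omega) hNC
    omega
  have hcm := Subgroup.card_mul_index (centralizer ((Q : Subgroup G) : Set G))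
  have hr_dvd : r ∣ Nat.card (centralizer ((Q : Subgroup G) : Set G)) := by
    have : r ∣ Nat.card (centralizer ((Q : Subgroup G) : Set G)) *
        (centralizer ((Q : Subgroup G) : Set G)).index := by
      rw [hcm, hG]; exact dvd_mul_left r _
    rcases (Nat.Prime.dvd_mul hr).mp this with h | h
    · exact h
    · exact absurd h hr_ndvd
  obtain ⟨x, hx⟩ := exists_prime_orderOf_dvd_card' r hr_dvd
  have hxo : orderOf (x : G) = r := by rw [Subgroup.orderOf_coe]; exact hx
  have hpg : IsPGroup r (zpowers (x : G)) := by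
    apply IsPGroup.of_card (n := 1)
    rw [Nat.card_zpowers, hxo, pow_one]
  obtain ⟨R', hle⟩ := hpg.exists_le_sylow
  have hR' := sylow_eq_zpowers R' (hRcard R') (x : G) (hle (mem_zpowers _)) hxo
  have hNR' := card_normalizer_mul_card_sylow R'
  rw [hnr, hG] at hNR'
  have hNR'' : Nat.card (normalizer ((R' : Subgroup G) : Set G)) = r := by
    have hpos : 0 < p * q := Nat.mul_pos hp.pos hq.pos
    apply Nat.eq_of_mul_eq_mul_right hpos
    rw [hNR']; ring
  have hQN : (Q : Subgroup G) ≤ normalizer ((R' : Subgroup G) : Set G) := by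
    refine le_trans ?_ (Subgroup.centralizer_le_normalizer _)
    intro y hy
    rw [hR', Subgroup.mem_centralizer_iff]
    intro h hh
    obtain ⟨k, rfl⟩ := Subgroup.mem_zpowers_iff.mp hh
    have hc : Commute (x : G) y := by
      have := (Subgroup.mem_centralizer_iff.mp x.2) y hy
      exact this.symm
    exact (hc.zpow_left k)
  have hdvd := Subgroup.card_dvd_of_le hQN
  rw [hQcard Q, hNR''] at hdvd
  rcases (Nat.dvd_prime hr).mp hdvd with h | h
  · have := hq.one_lt; omega
  · omega

end Cfsg.Agent.S0987
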