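import Cfsg.Statements.S0988
import Cfsg.Agent.Lib.Helper17_Sylow
import Cfsg.Agent.S0144

set_option autoImplicit false
open Cfsg

namespace Cfsg.Agent.S0988

open Cfsg.Agent.Lib.Helper17_Sylow Subgroup

/-- An automorphism of prime order `ℓ > p` of a group of order `p ^ 2` forces `p = 2`, `ℓ = 3`. -/
theorem aut_prime_sq {P : Type*} [Group P] {p ℓ : ℕ} [hp : Fact p.Prime] [hℓ : Fact ℓ.Prime]
    (hP : Nat.card P = p ^ 2) (φ : MulAut P) (hφ1 : φ ≠ 1) (hφ : φ ^ ℓ = 1) (hlt : p < ℓ) :
    p = 2 ∧ ℓ = 3 := by
  have hfin : Finite P := Nat.finite_of_card_ne_zero (by rw [hP]; exact pow_ne_zero _ hp.out.ne_zero)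
  have hord : orderOf φ = ℓ := by
    have h1 : orderOf φ ∣ ℓ := orderOf_dvd_of_pow_eq_one hφ
    rcases (Nat.dvd_prime hℓ.out).mp h1 with h | h
    · exact absurd (orderOf_eq_one_iff.mp h) hφ1
    · exact h
  have hK : IsPGroup ℓ (zpowers φ) := by
    apply IsPGroup.of_card (n := 1)
    rw [Nat.card_zpowers, hord, pow_one]
  have hmod := hK.card_modEq_card_fixedPoints P
  let F : Subgroup P :=
    { carrier := {a | φ a = a}
      mul_mem' := fun {a b} ha hb => by
        simp only [Set.mem_ofPred_eq] at ha hb ⊢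
        rw [map_mul, ha, hb]
      one_mem' := map_one φ
      inv_mem' := fun {a} ha => by
        simp only [Set.mem_ofPred_eq] at ha ⊢
        rw [map_inv, ha] }
  have hFfix : MulAction.fixedPoints (zpowers φ) P = (F : Set P) := by
    ext a
    simp only [MulAction.mem_fixedPoints]
    constructor
    · intro h
      exact h ⟨φ, mem_zpowers φ⟩
    · intro h k
      obtain ⟨k, hk⟩ := k
      obtain ⟨n, rfl⟩ := Subgroup.mem_zpowers_iff.mp hk
      change (φ ^ n) a = a
      have ha : φ a = a := h
      have hfix : ∀ m : ℕ, (φ ^ m) a = a := by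
        intro m
        induction m with
        | zero => simp
        | succ m ih => rw [pow_succ, MulAut.mul_apply, ha, ih]
      have hfix' : ∀ m : ℕ, ((φ ^ m)⁻¹) a = a := by
        intro m
        rw [MulAut.inv_apply, MulEquiv.symm_apply_eq, hfix m]
      rcases Int.eq_nat_or_neg n with ⟨m, rfl | rfl⟩
      · rw [zpow_natCast]; exact hfix m
      · rw [zpow_neg, zpow_natCast]; exact hfix' m
  rw [hFfix] at hmod
  have hFcard : Nat.card F ∣ p ^ 2 := hP ▸ Subgroup.card_subgroup_dvd_card F
  obtain ⟨j, hj, hjeq⟩ := (Nat.dvd_prime_pow hp.out).mp hFcard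
  have hmod' : p ^ 2 ≡ p ^ j [MOD ℓ] := by
    have : Nat.card (F : Set P) = Nat.card F := rfl
    rw [hP, this, hjeq] at hmod
    exact hmod
  have hp2 := hp.out.two_le
  have hj2 : j ≠ 2 := by
    rintro rfl
    apply hφ1
    have hFtop : F = ⊤ := Subgroup.eq_top_of_card_eq F (by rw [hjeq, hP])
    ext a
    have : a ∈ F := hFtop ▸ Subgroup.mem_top a
    exact this
  have hdvd : ℓ ∣ p ^ 2 - p ^ j :=
    (Nat.modEq_iff_dvd' (Nat.pow_le_pow_right hp.out.pos hj)).mp hmod'.symm
  have hℓdvd : ℓ ∣ p + 1 := by
    have hndvd_p : ¬ ℓ ∣ p := fun h => by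
      have := Nat.le_of_dvd hp.out.pos h; omega
    have hndvd_p1 : ¬ ℓ ∣ p - 1 := fun h => by
      have := Nat.le_of_dvd (by omega) h; omega
    interval_cases j
    · have : p ^ 2 - p ^ 0 = (p - 1) * (p + 1) := by
        obtain ⟨p', rfl⟩ : ∃ p', p = p' + 1 := ⟨p - 1, by omega⟩
        simp only [pow_zero, Nat.add_sub_cancel]
        have : (p' + 1) ^ 2 = p' * (p' + 1 + 1) + 1 := by ring
        rw [this, Nat.add_sub_cancel]
      rw [this] at hdvd
      rcases (Nat.Prime.dvd_mul hℓ.out).mp hdvd with h | h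
      · exact absurd h hndvd_p1
      · exact h
    · exfalso
      have : p ^ 2 - p ^ 1 = p * (p - 1) := by
        obtain ⟨p', rfl⟩ : ∃ p', p = p' + 1 := ⟨p - 1, by omega⟩
        simp only [pow_one, Nat.add_sub_cancel]
        have : (p' + 1) ^ 2 = (p' + 1) * p' + (p' + 1) := by ring
        rw [this, Nat.add_sub_cancel]
      rw [this] at hdvd
      rcases (Nat.Prime.dvd_mul hℓ.out).mp hdvd with h | h
      · exact hndvd_p h
      · exact hndvd_p1 h
    · exact absurd rfl hj2
  have hℓeq : ℓ = p + 1 := by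
    have := Nat.le_of_dvd (by omega) hℓdvd
    omega
  have hpeven : p = 2 := by
    rcases hp.out.eq_two_or_odd with h | h
    · exact h
    · exfalso
      have h2 : 2 ∣ ℓ := by rw [hℓeq]; omega
      have := (Nat.prime_dvd_prime_iff_eq Nat.prime_two hℓ.out).mp h2
      omega
  exact ⟨hpeven, by omega⟩

/-- A finite simple group is not a `{p, q}`-group unless its order is prime. -/
theorem not_simple_of_two_primes {G : Type*} [Group G] [Finite G] [IsSimpleGroup G]
    (p q a b : ℕ) (hp : p.Prime) (hq : q.Prime) (hG : Nat.card G = p ^ a * q ^ b)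
    (hnp : ¬ (Nat.card G).Prime) : False := by
  have hsol := Cfsg.Agent.S0144.result p q a b hp hq hG
  have hcomm := IsSimpleGroup.comm_iff_isSolvable.mpr hsol
  exact not_isMulCommutative_of_not_prime hnp ⟨⟨hcomm⟩⟩

/-- The Sylow subgroup for the smallest prime of a simple group of composite order is not cyclic. -/
theorem not_isCyclic_sylow_minFac {G : Type*} [Group G] [Finite G] [IsSimpleGroup G] {p : ℕ}
    [hp : Fact p.Prime] (hmin : (Nat.card G).minFac = p) (hnp : Nat.card G ≠ p) (P : Sylow p G) :
    ¬ IsCyclic (P : Subgroup G) := by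
  intro hc
  have hNC := IsCyclic.normalizer_le_centralizer hmin hc
  have hpdvd : p ∣ Nat.card G := hmin ▸ Nat.minFac_dvd _
  rcases sylow_eq_bot_or_top_of_normalizer_le_centralizer P hNC with h | h
  · exact P.ne_bot_of_dvd_card hpdvd h
  · -- G is a cyclic group, hence commutative simple, of prime order p
    have hcG : IsCyclic G := by
      have e : (P : Subgroup G) ≃* G := h ▸ Subgroup.topEquiv
      exact isCyclic_of_surjective e e.surjective
    let _ : CommGroup G := IsCyclic.commGroup
    have hprime : (Nat.card G).Prime := IsSimpleGroup.prime_card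
    have := (Nat.prime_dvd_prime_iff_eq hp.out hprime).mp hpdvd
    exact hnp this.symm


theorem minFac_eq_of_three {a b c : ℕ} (ha : a.Prime) (hb : b.Prime) (hc : c.Prime)
    (hab : a < b) (hac : a < c) : (a ^ 2 * b * c).minFac = a ∧ (b ^ 2 * a * c).minFac = a := by
  have h1 : ∀ n : ℕ, a ∣ n → (∀ ℓ : ℕ, ℓ.Prime → ℓ ∣ n → a ≤ ℓ) → n.minFac = a := by
    intro n hdvd hall
    have hn1 : n ≠ 1 := by
      rintro rfl
      exact ha.one_lt.ne' (Nat.dvd_one.mp hdvd)
    have hmp := Nat.minFac_prime hn1
    have h2 := hall _ hmp (Nat.minFac_dvd n)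
    have h3 := Nat.minFac_le_of_dvd ha.two_le hdvd
    omega
  constructor
  · apply h1
    · exact Dvd.dvd.mul_right (Dvd.dvd.mul_right (dvd_pow_self a two_ne_zero) b) c
    · intro ℓ hℓ hdvd
      rcases (Nat.Prime.dvd_mul hℓ).mp hdvd with h | h
      · rcases (Nat.Prime.dvd_mul hℓ).mp h with h | h
        · have := (Nat.prime_dvd_prime_iff_eq hℓ ha).mp (hℓ.dvd_of_dvd_pow h); omega
        · have := (Nat.prime_dvd_prime_iff_eq hℓ hb).mp h; omega
      · have := (Nat.prime_dvd_prime_iff_eq hℓ hc).mp h; omega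
  · apply h1
    · exact Dvd.dvd.mul_right (Dvd.dvd.mul_left (dvd_refl a) _) c
    · intro ℓ hℓ hdvd
      rcases (Nat.Prime.dvd_mul hℓ).mp hdvd with h | h
      · rcases (Nat.Prime.dvd_mul hℓ).mp h with h | h
        · have := (Nat.prime_dvd_prime_iff_eq hℓ hb).mp (hℓ.dvd_of_dvd_pow h); omega
        · have := (Nat.prime_dvd_prime_iff_eq hℓ ha).mp h; omega
      · have := (Nat.prime_dvd_prime_iff_eq hℓ hc).mp h; omega


theorem main_lt {G : Type*} [Group G] [Finite G] [IsSimpleGroup G] (p q r : ℕ) (hp : p.Prime)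
    (hq : q.Prime) (hr : r.Prime) (hpq : p ≠ q) (hpr : p ≠ r) (hqr : q < r)
    (hG : Nat.card G = p ^ 2 * q * r) : Nat.card G = 60 := by
  have : Fact p.Prime := ⟨hp⟩
  have : Fact q.Prime := ⟨hq⟩
  have : Fact r.Prime := ⟨hr⟩
  have hp2 := hp.two_le
  have hq2 := hq.two_le
  have hr2 := hr.two_le
  rcases lt_or_gt_of_ne hpq with hlt | hlt
  · -- p < q < r
    have hmin : (Nat.card G).minFac = p := by
      rw [hG]; exact (minFac_eq_of_three hp hq hr hlt (by omega)).1
    have hGp : Nat.card G = p ^ 2 * (q * r) := by rw [hG]; ring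
    have hpqr : ¬ p ∣ q * r := by
      intro h
      rcases (Nat.Prime.dvd_mul hp).mp h with h | h
      · have := (Nat.prime_dvd_prime_iff_eq hp hq).mp h; omega
      · have := (Nat.prime_dvd_prime_iff_eq hp hr).mp h; omega
    obtain ⟨P⟩ : Nonempty (Sylow p G) := inferInstance
    have hPcard := card_sylow_eq_pow hGp hpqr P
    have hPidx := index_sylow_eq hGp hpqr P
    have hPbot : (P : Subgroup G) ≠ ⊥ := by
      intro h; rw [h, Subgroup.card_bot] at hPcard
      have : 1 < p ^ 2 := Nat.one_lt_pow (by norm_num) hp.one_lt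
      omega
    have hPtop : (P : Subgroup G) ≠ ⊤ := by
      intro h; rw [h, Subgroup.index_top] at hPidx
      have : 1 < q * r := by nlinarith
      omega
    have hnNC : ¬ normalizer ((P : Subgroup G) : Set G) ≤ centralizer ((P : Subgroup G) : Set G) := by
      intro hNC
      rcases sylow_eq_bot_or_top_of_normalizer_le_centralizer P hNC with h | h
      · exact hPbot h
      · exact hPtop h
    have hPcomm := (IsPGroup.isMulCommutative_of_card_eq_prime_sq hPcard).is_comm.comm
    have hPC : (P : Subgroup G) ≤ centralizer ((P : Subgroup G) : Set G) := by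
      intro x hx
      rw [Subgroup.mem_centralizer_iff]
      intro y hy
      exact congrArg Subtype.val (hPcomm ⟨y, hy⟩ ⟨x, hx⟩)
    have hCN : centralizer ((P : Subgroup G) : Set G) ≤ normalizer ((P : Subgroup G) : Set G) :=
      Subgroup.centralizer_le_normalizer _
    -- the image of N(P) in Aut(P)
    have hk : Nat.card ((P : Subgroup G).normalizerMonoidHom).range =
        (centralizer ((P : Subgroup G) : Set G)).relIndex (normalizer ((P : Subgroup G) : Set G)) := by
      rw [← Subgroup.index_ker, Subgroup.normalizerMonoidHom_ker]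
      rfl
    have hk1 : (centralizer ((P : Subgroup G) : Set G)).relIndex
        (normalizer ((P : Subgroup G) : Set G)) ≠ 1 := by
      intro h
      exact hnNC (Subgroup.relIndex_eq_one.mp h)
    have hkdvd : (centralizer ((P : Subgroup G) : Set G)).relIndex
        (normalizer ((P : Subgroup G) : Set G)) ∣ q * r := by
      have h1 := Subgroup.relIndex_dvd_of_le_left (normalizer ((P : Subgroup G) : Set G)) hPC
      have h2 := Subgroup.relIndex_dvd_index_of_le (hPC.trans hCN)
      rw [hPidx] at h2
      exact h1.trans h2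
    set k := (centralizer ((P : Subgroup G) : Set G)).relIndex
        (normalizer ((P : Subgroup G) : Set G)) with hkdef
    have hℓp : (k.minFac).Prime := Nat.minFac_prime hk1
    have : Fact (k.minFac).Prime := ⟨hℓp⟩
    have hℓk : k.minFac ∣ k := Nat.minFac_dvd k
    have hℓqr : k.minFac = q ∨ k.minFac = r := by
      rcases (Nat.Prime.dvd_mul hℓp).mp (hℓk.trans hkdvd) with h | h
      · left; exact (Nat.prime_dvd_prime_iff_eq hℓp hq).mp h
      · right; exact (Nat.prime_dvd_prime_iff_eq hℓp hr).mp h
    have hpℓ : p < k.minFac := by rcases hℓqr with h | h <;> omega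
    obtain ⟨φ, hφ⟩ := exists_prime_orderOf_dvd_card' (G := ((P : Subgroup G).normalizerMonoidHom).range)
      k.minFac (by rw [hk]; exact hℓk)
    have hφo : orderOf (φ : MulAut (P : Subgroup G)) = k.minFac := by
      rw [Subgroup.orderOf_coe]; exact hφ
    have hφ1 : (φ : MulAut (P : Subgroup G)) ≠ 1 := by
      intro h
      rw [h, orderOf_one] at hφo
      exact hℓp.one_lt.ne hφo
    have hφpow : (φ : MulAut (P : Subgroup G)) ^ k.minFac = 1 := by
      rw [← hφo]; exact pow_orderOf_eq_one _
    obtain ⟨hp_eq, hℓ_eq⟩ := aut_prime_sq hPcard (φ : MulAut (P : Subgroup G)) hφ1 hφpow hpℓ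
    have hq3 : q = 3 := by rcases hℓqr with h | h <;> omega
    subst hp_eq hq3
    -- |G| = 12 r
    have hr5 : 5 ≤ r := by
      have h4 : r ≠ 4 := by rintro rfl; norm_num at hr
      omega
    have hGr : Nat.card G = r ^ 1 * 12 := by rw [hG]; ring
    have hr12 : ¬ r ∣ 12 := by
      intro h
      have := Nat.le_of_dvd (by norm_num) h
      interval_cases r <;> first | omega | (norm_num at hr)
    have hn_dvd := card_sylow_dvd hGr hr12
    have hn_mod := card_sylow_modEq_one r G
    have hn_lt := one_lt_card_sylow_of_card hGr hr12 (by norm_num) (by norm_num)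
    have hn_cop := not_coprime_of_simple hGr hr12 (by norm_num)
    have hn_le := Nat.le_of_dvd (by norm_num) hn_dvd
    have hmod' : r ∣ Nat.card (Sylow r G) - 1 :=
      (Nat.modEq_iff_dvd' (by omega)).mp hn_mod.symm
    interval_cases hn : Nat.card (Sylow r G)
    · have := Nat.le_of_dvd (by norm_num) hmod'; omega
    · have := Nat.le_of_dvd (by norm_num) hmod'; omega
    · have := Nat.le_of_dvd (by norm_num) hmod'; omega
    · omega
    · have h5 := Nat.le_of_dvd (by norm_num) hmod'
      have : r = 5 := by omega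
      rw [hG, this]
      norm_num
    · omega
    · omega
    · omega
    · omega
    · omega
    · exfalso
      apply hn_cop
      norm_num
  · -- q < p: the Sylow q-subgroup is cyclic for the smallest prime
    exfalso
    have hmin : (Nat.card G).minFac = q := by
      rw [hG]; exact (minFac_eq_of_three hq hp hr hlt hqr).2
    have hGq : Nat.card G = q ^ 1 * (p ^ 2 * r) := by rw [hG]; ring
    have hqpr : ¬ q ∣ p ^ 2 * r := by
      intro h
      rcases (Nat.Prime.dvd_mul hq).mp h with h | h
      · have := (Nat.prime_dvd_prime_iff_eq hq hp).mp (hq.dvd_of_dvd_pow h); omega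
      · have := (Nat.prime_dvd_prime_iff_eq hq hr).mp h; omega
    obtain ⟨Q⟩ : Nonempty (Sylow q G) := inferInstance
    have hQcard := card_sylow_eq_pow hGq hqpr Q
    rw [pow_one] at hQcard
    have hcyc : IsCyclic (Q : Subgroup G) := isCyclic_of_prime_card hQcard
    apply not_isCyclic_sylow_minFac hmin _ Q hcyc
    rw [hG]
    intro h
    have : q * 1 < p ^ 2 * q * r := by
      have : 1 < p ^ 2 * r := by nlinarith
      nlinarith
    omega

/-- If a finite simple group has order p^2 * q * r with p, q and r prime, then its order is 60. -/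
theorem result {G : Type*} [Group G] [Finite G] [IsSimpleGroup G] (p q r : ℕ) (hp : p.Prime) (hq : q.Prime) (hr : r.Prime) (hG : Nat.card G = p ^ 2 * q * r) : Nat.card G = 60 := by
  have hp2 := hp.two_le
  have hq2 := hq.two_le
  have hr2 := hr.two_le
  have hnp : ¬ (Nat.card G).Prime := by
    rw [hG]
    have : p ^ 2 * q * r = p * (p * q * r) := by ring
    rw [this]
    apply Nat.not_prime_mul (by omega)
    have : 2 * 1 ≤ p * (q * r) := Nat.mul_le_mul hp2 (by nlinarith)
    nlinarith
  by_cases hpq : p = q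
  · exfalso
    subst hpq
    exact not_simple_of_two_primes p r 3 1 hp hr (by rw [hG]; ring) hnp
  by_cases hpr : p = r
  · exfalso
    subst hpr
    exact not_simple_of_two_primes p q 3 1 hp hq (by rw [hG]; ring) hnp
  by_cases hqr : q = r
  · exfalso
    subst hqr
    exact not_simple_of_two_primes p q 2 2 hp hq (by rw [hG]; ring) hnp
  rcases lt_or_gt_of_ne hqr with h | h
  · exact main_lt p q r hp hq hr hpq hpr h hG
  · exact main_lt p r q hp hr hq hpr hpq h (by rw [hG]; ring)

end Cfsg.Agent.S0988
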