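import Cfsg.Statements.S0493
import Mathlib
import Cfsg.Agent.S0144
import Cfsg.Agent.S0987
import Cfsg.Agent.S0988

set_option autoImplicit false
open Cfsg

namespace Cfsg.Agent.S0493


/-- A solvable simple group is cyclic. -/
theorem isCyclic_of_isSolvable {G : Type*} [Group G] [IsSimpleGroup G] (h : Group.IsSolvable G) :
    IsCyclic G := by
  have hc := IsSimpleGroup.comm_iff_isSolvable.2 h
  let inst : CommGroup G := { ‹Group G› with mul_comm := hc }
  exact IsSimpleGroup.isCyclic

/-- A non-cyclic simple group does not have order `p ^ a * q ^ b`. -/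
theorem false_of_two_primes {G : Type*} [Group G] [Finite G] [IsSimpleGroup G] (hG : ¬ IsCyclic G)
    (p q a b : ℕ) (hp : p.Prime) (hq : q.Prime) (hcard : Nat.card G = p ^ a * q ^ b) : False :=
  hG (isCyclic_of_isSolvable (Cfsg.Agent.S0144.result p q a b hp hq hcard))

/-- A simple group does not have order `p * q * r` with `p < q < r` primes. -/
theorem false_of_pqr {G : Type*} [Group G] [Finite G] [IsSimpleGroup G]
    (p q r : ℕ) (hp : p.Prime) (hq : q.Prime) (hr : r.Prime) (hpq : p < q) (hqr : q < r)
    (hcard : Nat.card G = p * q * r) : False := by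
  have : Fact r.Prime := ⟨hr⟩
  obtain ⟨R⟩ : Nonempty (Sylow r G) := inferInstance
  have hn := Cfsg.Agent.S0987.result p q r hp hq hpq hqr hcard R
  have hdvd : r ∣ Nat.card G := by rw [hcard]; exact dvd_mul_left r (p * q)
  rcases hn.eq_bot_or_eq_top with h | h
  · exact R.ne_bot_of_dvd_card hdvd h
  · have hPG : IsPGroup r G := by
      have h1 := R.isPGroup'
      rw [h] at h1
      exact (IsPGroup.of_equiv h1 Subgroup.topEquiv)
    obtain ⟨k, hk⟩ := hPG.exists_card_eq
    have hpd : p ∣ r ^ k := by rw [← hk, hcard]; exact Dvd.dvd.mul_right (dvd_mul_right p q) r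
    have := (Nat.prime_dvd_prime_iff_eq hp hr).1 (hp.dvd_of_dvd_pow hpd)
    omega

/-- A finite simple group of order at most 100 that is not cyclic has order 60. -/
theorem result {G : Type*} [Group G] [Finite G] [IsSimpleGroup G]
    (hG : ¬ IsCyclic G) (h : Nat.card G ≤ 100) : Nat.card G = 60 := by
  have hpos : 0 < Nat.card G := Nat.card_pos
  obtain ⟨n, hn⟩ : ∃ n, n = Nat.card G := ⟨_, rfl⟩
  rw [← hn] at h hpos ⊢
  interval_cases n
  · exfalso; have := Finite.one_lt_card (α := G); omega
  · exfalso; have : Fact (Nat.Prime 2) := ⟨by norm_num⟩; exact hG (isCyclic_of_prime_card (p := 2) hn.symm)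
  · exfalso; have : Fact (Nat.Prime 3) := ⟨by norm_num⟩; exact hG (isCyclic_of_prime_card (p := 3) hn.symm)
  · exfalso; exact false_of_two_primes hG 2 3 2 0 (by norm_num) (by norm_num) (by rw [← hn]; norm_num)
  · exfalso; have : Fact (Nat.Prime 5) := ⟨by norm_num⟩; exact hG (isCyclic_of_prime_card (p := 5) hn.symm)
  · exfalso; exact false_of_two_primes hG 2 3 1 1 (by norm_num) (by norm_num) (by rw [← hn]; norm_num)
  · exfalso; have : Fact (Nat.Prime 7) := ⟨by norm_num⟩; exact hG (isCyclic_of_prime_card (p := 7) hn.symm)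
  · exfalso; exact false_of_two_primes hG 2 3 3 0 (by norm_num) (by norm_num) (by rw [← hn]; norm_num)
  · exfalso; exact false_of_two_primes hG 3 2 2 0 (by norm_num) (by norm_num) (by rw [← hn]; norm_num)
  · exfalso; exact false_of_two_primes hG 2 5 1 1 (by norm_num) (by norm_num) (by rw [← hn]; norm_num)
  · exfalso; have : Fact (Nat.Prime 11) := ⟨by norm_num⟩; exact hG (isCyclic_of_prime_card (p := 11) hn.symm)
  · exfalso; exact false_of_two_primes hG 2 3 2 1 (by norm_num) (by norm_num) (by rw [← hn]; norm_num)
  · exfalso; have : Fact (Nat.Prime 13) := ⟨by norm_num⟩; exact hG (isCyclic_of_prime_card (p := 13) hn.symm)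
  · exfalso; exact false_of_two_primes hG 2 7 1 1 (by norm_num) (by norm_num) (by rw [← hn]; norm_num)
  · exfalso; exact false_of_two_primes hG 3 5 1 1 (by norm_num) (by norm_num) (by rw [← hn]; norm_num)
  · exfalso; exact false_of_two_primes hG 2 3 4 0 (by norm_num) (by norm_num) (by rw [← hn]; norm_num)
  · exfalso; have : Fact (Nat.Prime 17) := ⟨by norm_num⟩; exact hG (isCyclic_of_prime_card (p := 17) hn.symm)
  · exfalso; exact false_of_two_primes hG 2 3 1 2 (by norm_num) (by norm_num) (by rw [← hn]; norm_num)
  · exfalso; have : Fact (Nat.Prime 19) := ⟨by norm_num⟩; exact hG (isCyclic_of_prime_card (p := 19) hn.symm)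
  · exfalso; exact false_of_two_primes hG 2 5 2 1 (by norm_num) (by norm_num) (by rw [← hn]; norm_num)
  · exfalso; exact false_of_two_primes hG 3 7 1 1 (by norm_num) (by norm_num) (by rw [← hn]; norm_num)
  · exfalso; exact false_of_two_primes hG 2 11 1 1 (by norm_num) (by norm_num) (by rw [← hn]; norm_num)
  · exfalso; have : Fact (Nat.Prime 23) := ⟨by norm_num⟩; exact hG (isCyclic_of_prime_card (p := 23) hn.symm)
  · exfalso; exact false_of_two_primes hG 2 3 3 1 (by norm_num) (by norm_num) (by rw [← hn]; norm_num)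
  · exfalso; exact false_of_two_primes hG 5 2 2 0 (by norm_num) (by norm_num) (by rw [← hn]; norm_num)
  · exfalso; exact false_of_two_primes hG 2 13 1 1 (by norm_num) (by norm_num) (by rw [← hn]; norm_num)
  · exfalso; exact false_of_two_primes hG 3 2 3 0 (by norm_num) (by norm_num) (by rw [← hn]; norm_num)
  · exfalso; exact false_of_two_primes hG 2 7 2 1 (by norm_num) (by norm_num) (by rw [← hn]; norm_num)
  · exfalso; have : Fact (Nat.Prime 29) := ⟨by norm_num⟩; exact hG (isCyclic_of_prime_card (p := 29) hn.symm)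
  · exfalso; exact false_of_pqr 2 3 5 (by norm_num) (by norm_num) (by norm_num) (by norm_num) (by norm_num) (by rw [← hn])
  · exfalso; have : Fact (Nat.Prime 31) := ⟨by norm_num⟩; exact hG (isCyclic_of_prime_card (p := 31) hn.symm)
  · exfalso; exact false_of_two_primes hG 2 3 5 0 (by norm_num) (by norm_num) (by rw [← hn]; norm_num)
  · exfalso; exact false_of_two_primes hG 3 11 1 1 (by norm_num) (by norm_num) (by rw [← hn]; norm_num)
  · exfalso; exact false_of_two_primes hG 2 17 1 1 (by norm_num) (by norm_num) (by rw [← hn]; norm_num)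
  · exfalso; exact false_of_two_primes hG 5 7 1 1 (by norm_num) (by norm_num) (by rw [← hn]; norm_num)
  · exfalso; exact false_of_two_primes hG 2 3 2 2 (by norm_num) (by norm_num) (by rw [← hn]; norm_num)
  · exfalso; have : Fact (Nat.Prime 37) := ⟨by norm_num⟩; exact hG (isCyclic_of_prime_card (p := 37) hn.symm)
  · exfalso; exact false_of_two_primes hG 2 19 1 1 (by norm_num) (by norm_num) (by rw [← hn]; norm_num)
  · exfalso; exact false_of_two_primes hG 3 13 1 1 (by norm_num) (by norm_num) (by rw [← hn]; norm_num)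
  · exfalso; exact false_of_two_primes hG 2 5 3 1 (by norm_num) (by norm_num) (by rw [← hn]; norm_num)
  · exfalso; have : Fact (Nat.Prime 41) := ⟨by norm_num⟩; exact hG (isCyclic_of_prime_card (p := 41) hn.symm)
  · exfalso; exact false_of_pqr 2 3 7 (by norm_num) (by norm_num) (by norm_num) (by norm_num) (by norm_num) (by rw [← hn])
  · exfalso; have : Fact (Nat.Prime 43) := ⟨by norm_num⟩; exact hG (isCyclic_of_prime_card (p := 43) hn.symm)
  · exfalso; exact false_of_two_primes hG 2 11 2 1 (by norm_num) (by norm_num) (by rw [← hn]; norm_num)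
  · exfalso; exact false_of_two_primes hG 3 5 2 1 (by norm_num) (by norm_num) (by rw [← hn]; norm_num)
  · exfalso; exact false_of_two_primes hG 2 23 1 1 (by norm_num) (by norm_num) (by rw [← hn]; norm_num)
  · exfalso; have : Fact (Nat.Prime 47) := ⟨by norm_num⟩; exact hG (isCyclic_of_prime_card (p := 47) hn.symm)
  · exfalso; exact false_of_two_primes hG 2 3 4 1 (by norm_num) (by norm_num) (by rw [← hn]; norm_num)
  · exfalso; exact false_of_two_primes hG 7 2 2 0 (by norm_num) (by norm_num) (by rw [← hn]; norm_num)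
  · exfalso; exact false_of_two_primes hG 2 5 1 2 (by norm_num) (by norm_num) (by rw [← hn]; norm_num)
  · exfalso; exact false_of_two_primes hG 3 17 1 1 (by norm_num) (by norm_num) (by rw [← hn]; norm_num)
  · exfalso; exact false_of_two_primes hG 2 13 2 1 (by norm_num) (by norm_num) (by rw [← hn]; norm_num)
  · exfalso; have : Fact (Nat.Prime 53) := ⟨by norm_num⟩; exact hG (isCyclic_of_prime_card (p := 53) hn.symm)
  · exfalso; exact false_of_two_primes hG 2 3 1 3 (by norm_num) (by norm_num) (by rw [← hn]; norm_num)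
  · exfalso; exact false_of_two_primes hG 5 11 1 1 (by norm_num) (by norm_num) (by rw [← hn]; norm_num)
  · exfalso; exact false_of_two_primes hG 2 7 3 1 (by norm_num) (by norm_num) (by rw [← hn]; norm_num)
  · exfalso; exact false_of_two_primes hG 3 19 1 1 (by norm_num) (by norm_num) (by rw [← hn]; norm_num)
  · exfalso; exact false_of_two_primes hG 2 29 1 1 (by norm_num) (by norm_num) (by rw [← hn]; norm_num)
  · exfalso; have : Fact (Nat.Prime 59) := ⟨by norm_num⟩; exact hG (isCyclic_of_prime_card (p := 59) hn.symm)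
  · rfl
  · exfalso; have : Fact (Nat.Prime 61) := ⟨by norm_num⟩; exact hG (isCyclic_of_prime_card (p := 61) hn.symm)
  · exfalso; exact false_of_two_primes hG 2 31 1 1 (by norm_num) (by norm_num) (by rw [← hn]; norm_num)
  · exfalso; exact false_of_two_primes hG 3 7 2 1 (by norm_num) (by norm_num) (by rw [← hn]; norm_num)
  · exfalso; exact false_of_two_primes hG 2 3 6 0 (by norm_num) (by norm_num) (by rw [← hn]; norm_num)
  · exfalso; exact false_of_two_primes hG 5 13 1 1 (by norm_num) (by norm_num) (by rw [← hn]; norm_num)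
  · exfalso; exact false_of_pqr 2 3 11 (by norm_num) (by norm_num) (by norm_num) (by norm_num) (by norm_num) (by rw [← hn])
  · exfalso; have : Fact (Nat.Prime 67) := ⟨by norm_num⟩; exact hG (isCyclic_of_prime_card (p := 67) hn.symm)
  · exfalso; exact false_of_two_primes hG 2 17 2 1 (by norm_num) (by norm_num) (by rw [← hn]; norm_num)
  · exfalso; exact false_of_two_primes hG 3 23 1 1 (by norm_num) (by norm_num) (by rw [← hn]; norm_num)
  · exfalso; exact false_of_pqr 2 5 7 (by norm_num) (by norm_num) (by norm_num) (by norm_num) (by norm_num) (by rw [← hn])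
  · exfalso; have : Fact (Nat.Prime 71) := ⟨by norm_num⟩; exact hG (isCyclic_of_prime_card (p := 71) hn.symm)
  · exfalso; exact false_of_two_primes hG 2 3 3 2 (by norm_num) (by norm_num) (by rw [← hn]; norm_num)
  · exfalso; have : Fact (Nat.Prime 73) := ⟨by norm_num⟩; exact hG (isCyclic_of_prime_card (p := 73) hn.symm)
  · exfalso; exact false_of_two_primes hG 2 37 1 1 (by norm_num) (by norm_num) (by rw [← hn]; norm_num)
  · exfalso; exact false_of_two_primes hG 3 5 1 2 (by norm_num) (by norm_num) (by rw [← hn]; norm_num)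
  · exfalso; exact false_of_two_primes hG 2 19 2 1 (by norm_num) (by norm_num) (by rw [← hn]; norm_num)
  · exfalso; exact false_of_two_primes hG 7 11 1 1 (by norm_num) (by norm_num) (by rw [← hn]; norm_num)
  · exfalso; exact false_of_pqr 2 3 13 (by norm_num) (by norm_num) (by norm_num) (by norm_num) (by norm_num) (by rw [← hn])
  · exfalso; have : Fact (Nat.Prime 79) := ⟨by norm_num⟩; exact hG (isCyclic_of_prime_card (p := 79) hn.symm)
  · exfalso; exact false_of_two_primes hG 2 5 4 1 (by norm_num) (by norm_num) (by rw [← hn]; norm_num)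
  · exfalso; exact false_of_two_primes hG 3 2 4 0 (by norm_num) (by norm_num) (by rw [← hn]; norm_num)
  · exfalso; exact false_of_two_primes hG 2 41 1 1 (by norm_num) (by norm_num) (by rw [← hn]; norm_num)
  · exfalso; have : Fact (Nat.Prime 83) := ⟨by norm_num⟩; exact hG (isCyclic_of_prime_card (p := 83) hn.symm)
  · exfalso; have h60 := Cfsg.Agent.S0988.result (G := G) 2 3 7 (by norm_num) (by norm_num) (by norm_num) (by rw [← hn]; norm_num); omega
  · exfalso; exact false_of_two_primes hG 5 17 1 1 (by norm_num) (by norm_num) (by rw [← hn]; norm_num)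
  · exfalso; exact false_of_two_primes hG 2 43 1 1 (by norm_num) (by norm_num) (by rw [← hn]; norm_num)
  · exfalso; exact false_of_two_primes hG 3 29 1 1 (by norm_num) (by norm_num) (by rw [← hn]; norm_num)
  · exfalso; exact false_of_two_primes hG 2 11 3 1 (by norm_num) (by norm_num) (by rw [← hn]; norm_num)
  · exfalso; have : Fact (Nat.Prime 89) := ⟨by norm_num⟩; exact hG (isCyclic_of_prime_card (p := 89) hn.symm)
  · exfalso; have h60 := Cfsg.Agent.S0988.result (G := G) 3 2 5 (by norm_num) (by norm_num) (by norm_num) (by rw [← hn]; norm_num); omega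
  · exfalso; exact false_of_two_primes hG 7 13 1 1 (by norm_num) (by norm_num) (by rw [← hn]; norm_num)
  · exfalso; exact false_of_two_primes hG 2 23 2 1 (by norm_num) (by norm_num) (by rw [← hn]; norm_num)
  · exfalso; exact false_of_two_primes hG 3 31 1 1 (by norm_num) (by norm_num) (by rw [← hn]; norm_num)
  · exfalso; exact false_of_two_primes hG 2 47 1 1 (by norm_num) (by norm_num) (by rw [← hn]; norm_num)
  · exfalso; exact false_of_two_primes hG 5 19 1 1 (by norm_num) (by norm_num) (by rw [← hn]; norm_num)
  · exfalso; exact false_of_two_primes hG 2 3 5 1 (by norm_num) (by norm_num) (by rw [← hn]; norm_num)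
  · exfalso; have : Fact (Nat.Prime 97) := ⟨by norm_num⟩; exact hG (isCyclic_of_prime_card (p := 97) hn.symm)
  · exfalso; exact false_of_two_primes hG 2 7 1 2 (by norm_num) (by norm_num) (by rw [← hn]; norm_num)
  · exfalso; exact false_of_two_primes hG 3 11 2 1 (by norm_num) (by norm_num) (by rw [← hn]; norm_num)
  · exfalso; exact false_of_two_primes hG 2 5 2 2 (by norm_num) (by norm_num) (by rw [← hn]; norm_num)

end Cfsg.Agent.S0493
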