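-- Statement S0499: a non-abelian simple group of even order has order divisible by 12, 16 or 56.
import Cfsg.Statements.S0499
import Cfsg.Agent.Lib.Helper35_FrobeniusCor

set_option autoImplicit false
open Cfsg

namespace Cfsg.Agent.S0499

open Cfsg.Agent.Lib.Helper35_FrobeniusNPC Cfsg.Agent.Lib.Helper35_FrobeniusCor Subgroup

/-- a non-abelian finite simple group has no normal `p`-complement when `p` divides its order -/
theorem not_hasNPC_of_simple {G : Type*} [Group G] [Finite G] [IsSimpleGroup G]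
    (hG : ¬ IsMulCommutative G) {p : ℕ} [hp : Fact p.Prime] (hpd : p ∣ Nat.card G) :
    ¬ HasNPC p G := by
  rintro ⟨K, hKn, hKc, n, hKi⟩
  rcases hKn.eq_bot_or_eq_top with hK | hK
  · -- `G` is a `p`-group
    subst hK
    rw [Subgroup.index_bot] at hKi
    have hpg : IsPGroup p G := IsPGroup.of_card hKi
    have hcn : Nontrivial (Subgroup.center G) := hpg.center_nontrivial
    have hcne : Subgroup.center G ≠ ⊥ := (Subgroup.nontrivial_iff_ne_bot _).mp hcn
    have hct : Subgroup.center G = ⊤ :=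
      (Subgroup.Normal.eq_bot_or_eq_top (inferInstance : (Subgroup.center G).Normal)).resolve_left
        hcne
    apply hG
    refine ⟨⟨fun a b => ?_⟩⟩
    have ha : a ∈ Subgroup.center G := hct ▸ Subgroup.mem_top a
    exact ((Subgroup.mem_center_iff.mp ha) b).symm
  · subst hK
    rw [Subgroup.card_top] at hKc
    have : p ∣ Nat.gcd (Nat.card G) p := Nat.dvd_gcd hpd dvd_rfl
    rw [hKc] at this
    exact hp.out.one_lt.ne' (Nat.dvd_one.mp this)

/-- A non-abelian finite simple group of even order has order divisible by 12, 16 or 56. -/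
theorem result {G : Type*} [Group G] [Finite G] [IsSimpleGroup G]
    (hG : ¬ IsMulCommutative G) (h2 : Even (Nat.card G)) :
    12 ∣ Nat.card G ∨ 16 ∣ Nat.card G ∨ 56 ∣ Nat.card G := by
  have : Fact (Nat.Prime 2) := ⟨Nat.prime_two⟩
  have hn : ¬ HasNPC 2 G := not_hasNPC_of_simple hG h2.two_dvd
  obtain ⟨Q, r, k, h, b, c, hQ, hr, hr2, hk0, hoh, hhN, hhC, hcb, hb, hdvd⟩ :=
    exists_primePow_of_not_hasNPC hn
  have hQd : 2 ^ b ∣ Nat.card G := hb ▸ Subgroup.card_subgroup_dvd_card Q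
  have hrd : r ∣ Nat.card G :=
    (dvd_pow_self r hk0).trans (hoh ▸ orderOf_dvd_natCard h)
  by_cases hb4 : 4 ≤ b
  · right; left
    exact (pow_dvd_pow 2 hb4).trans hQd
  have hb3 : b ≤ 3 := by omega
  have hr1 := hr.one_lt
  have key : (r = 3 ∧ 2 ≤ b) ∨ (r = 7 ∧ b = 3) := by
    interval_cases b <;> interval_cases c <;> norm_num at hdvd
    · exact absurd hdvd (by omega)
    · left; exact ⟨(Nat.prime_dvd_prime_iff_eq hr Nat.prime_three).mp hdvd, le_rfl⟩
    · exact absurd ((Nat.prime_dvd_prime_iff_eq hr Nat.prime_two).mp hdvd) hr2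
    · right; exact ⟨(Nat.prime_dvd_prime_iff_eq hr (by norm_num)).mp hdvd, rfl⟩
    · have h6 : r ∣ 2 * 3 := hdvd
      rcases (Nat.Prime.dvd_mul hr).mp h6 with h | h
      · exact absurd ((Nat.prime_dvd_prime_iff_eq hr Nat.prime_two).mp h) hr2
      · left; exact ⟨(Nat.prime_dvd_prime_iff_eq hr Nat.prime_three).mp h, by norm_num⟩
    · have h4 : r ∣ 2 ^ 2 := hdvd
      exact absurd ((Nat.prime_dvd_prime_iff_eq hr Nat.prime_two).mp (hr.dvd_of_dvd_pow h4)) hr2
  rcases key with ⟨h3, hb2⟩ | ⟨h7, hb3'⟩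
  · left
    subst h3
    have h4 : 4 ∣ Nat.card G := (pow_dvd_pow 2 hb2).trans hQd
    exact Nat.Coprime.mul_dvd_of_dvd_of_dvd (by norm_num : Nat.Coprime 4 3) h4 hrd
  · right; right
    subst h7 hb3'
    exact Nat.Coprime.mul_dvd_of_dvd_of_dvd (by norm_num : Nat.Coprime 8 7) hQd hrd

end Cfsg.Agent.S0499
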