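import Cfsg.Statements.S0495
import Cfsg.Agent.Lib.Helper56_PSL2Recog
-- import your own Cfsg.Agent.* helpers here

set_option autoImplicit false
open Cfsg

namespace Cfsg.Agent.S0495

/-- A simple group of order 168 is isomorphic to the projective special linear group of dimension 2 over the field with
7 elements. -/
theorem result {G : Type*} [Group G] [Finite G] [IsSimpleGroup G]
    (h : Nat.card G = 168) {F : Type*} [Field F] [Fintype F] (hF : Fintype.card F = 7) :
    Nonempty (G ≃* Matrix.ProjectiveSpecialLinearGroup (Fin 2) F) := by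
  haveI : Fact (Nat.Prime 7) := ⟨by norm_num⟩
  have hcard : Nat.card G = (7 + 1) * 7 * 3 := by rw [h]
  have hne := Cfsg.Agent.Lib.Helper56_PSL2Recog.card_sylow_ne_one (G := G) 7 3 (by norm_num)
    (by norm_num) hcard
  have hnp : Nat.card (Sylow 7 G) = 7 + 1 := by
    obtain ⟨P⟩ : Nonempty (Sylow 7 G) := inferInstance
    have hP := Cfsg.Agent.Lib.Helper56_PSL2Recog.card_sylow_eq (G := G) 7 3 (by norm_num)
      (by norm_num) hcard P
    have hmod := card_sylow_modEq_one 7 G
    have hdvd := P.card_dvd_index
    have hidx : (P : Subgroup G).index = 24 := by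
      have := (P : Subgroup G).card_mul_index
      rw [hP, h] at this
      omega
    rw [hidx] at hdvd
    have key : ∀ n ≤ 24, n ∣ 24 → n % 7 = 1 → n ≠ 1 → n = 8 := by decide
    exact key _ (Nat.le_of_dvd (by norm_num) hdvd) hdvd hmod hne
  exact Cfsg.Agent.Lib.Helper56_PSL2Recog.recog 7 3 3 1 (by norm_num) (by decide) (by norm_num)
    (by decide) (by norm_num) (by norm_num) hcard hnp hF

end Cfsg.Agent.S0495
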