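import Cfsg.Statements.S4500
import Cfsg.Agent.S4710
import Cfsg.Agent.S0925
import Cfsg.Agent.S0144
import Cfsg.Agent.S0165
import Cfsg.Agent.Lib.Helper79_Linear
import Cfsg.Agent.Lib.Helper77_BlockBasics
import Cfsg.Agent.Lib.Helper80_CharBasic
import Cfsg.Agent.Lib.Helper78_LocalRing
import Cfsg.Agent.Lib.Helper3_CharDegree
import Cfsg.Agent.Lib.Helper3_CharEigen

set_option autoImplicit false
open Cfsg

namespace Cfsg.Agent.S4500

open Cfsg.Agent.Lib.Helper77_BlockBasics

variable {G : Type*} [Group G]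

/-- the trivial character as an irreducible character -/
noncomputable def triv (G : Type*) [Group G] : IrrCharacter G :=
  ⟨fun _ => 1, Cfsg.Agent.Lib.Helper80_CharBasic.isIrrCharacter_one G⟩

theorem triv_mem {p : ℕ} (M : Ideal AlgInt) (hM : IsPModular p M) :
    triv G ∈ principalBlock M G :=
  Cfsg.Agent.Lib.Helper78_LocalRing.sameBlock_refl
    (Cfsg.Agent.Lib.Helper78_LocalRing.isPrime_of_isPModular hM) _

theorem isPBlock_principal (M : Ideal AlgInt) : IsPBlock M (principalBlock M G) :=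
  ⟨triv G, rfl⟩

theorem charDegree_triv : charDegree ((triv G : IrrCharacter G) : G → ℂ) = 1 := by
  unfold charDegree triv
  simp

theorem sInf_principal [Finite G] {p : ℕ} (M : Ideal AlgInt) (hM : IsPModular p M) :
    sInf ((fun χ : IrrCharacter G => (charDegree (χ : G → ℂ)).factorization p) ''
      principalBlock M G) = 0 := by
  rw [Nat.sInf_eq_zero]
  left
  refine ⟨triv G, triv_mem M hM, ?_⟩
  simp only [charDegree_triv]
  simp

theorem isIntegral_irr [Finite G] (χ : Cfsg.IrrCharacter G) (g : G) : IsIntegral ℤ ((χ : G → ℂ) g) := by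
  obtain ⟨n, ρ, _, hρ⟩ := χ.2
  rw [← hρ]
  exact Cfsg.Agent.Lib.Helper3_CharEigen.isIntegral_char ρ g

/-- Key step: if the `p`-part of `|G|` is `p` or `p ^ 2`, then some nonprincipal irreducible
character of degree prime to `p` has degree prime to `r`. -/
theorem key [Finite G] (p : ℕ) (hp : p.Prime) (ha2 : (Nat.card G).factorization p ≤ 2)
    (ha1 : 1 ≤ (Nat.card G).factorization p) (r : ℕ) (hr : r.Prime)
    (h : ∀ χ : IrrCharacter G, χ ≠ triv G → ¬ p ∣ charDegree (χ : G → ℂ) →
      r ∣ charDegree (χ : G → ℂ)) : False := by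
  classical
  have : Fact p.Prime := ⟨hp⟩
  obtain ⟨M, hM⟩ := Cfsg.Agent.S0165.exists_isPModular p hp
  set B := principalBlock M G with hBdef
  have hB : IsPBlock M B := isPBlock_principal M
  have hsInf := sInf_principal (G := G) M hM
  have hdef : blockDefect p B = (Nat.card G).factorization p := by
    unfold blockDefect
    rw [hBdef, hsInf, Nat.sub_zero]
  -- heights are zero
  have hht : ∀ χ ∈ B, ¬ p ∣ charDegree (χ : G → ℂ) := by
    intro χ hχ
    have h1 := (Cfsg.Agent.S4710.result p M hM B hB _ rfl).2 χ hχ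
    have h0 : blockHeight p B (χ : G → ℂ) = 0 := by
      rcases Nat.lt_or_ge (blockDefect p B) 2 with hlt | hge
      · exact h1.1 (by omega)
      · have := h1.2 hge
        omega
    unfold blockHeight at h0
    rw [hBdef, hsInf, Nat.sub_zero] at h0
    intro hdvd
    have hpos := charDegree_pos χ
    have := (hp.dvd_iff_one_le_factorization hpos.ne').1 hdvd
    omega
  -- an element of order p
  have hpdvd : p ∣ Nat.card G := by
    have hG : Nat.card G ≠ 0 := (Nat.card_pos (α := G)).ne'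
    exact (hp.dvd_iff_one_le_factorization hG).2 ha1
  obtain ⟨x, hx⟩ := exists_prime_orderOf_dvd_card' p hpdvd
  have hx1 : x ≠ 1 := by
    rintro rfl
    rw [orderOf_one] at hx
    exact hp.one_lt.ne' hx.symm
  have hpx : IsPPart p x x :=
    ⟨1, mul_one x, Commute.one_right x, ⟨1, by rw [hx, pow_one]⟩, by
      rw [orderOf_one]; exact hp.not_dvd_one⟩
  have hp1 : IsPPart p (1 : G) 1 :=
    ⟨1, mul_one 1, Commute.one_right 1, ⟨0, by rw [orderOf_one, pow_zero]⟩, by
      rw [orderOf_one]; exact hp.not_dvd_one⟩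
  have hnc : ¬ IsConj x 1 := by
    intro hc
    exact hx1 (isConj_one_left.mp hc)
  have horth := (Cfsg.Agent.S0925.result p M hM).2 x 1 x 1 hpx hp1 hnc B hB
  rw [finsum_mem_eq_finite_toFinset_sum _ (Set.toFinite B)] at horth
  have htm : triv G ∈ (Set.toFinite B).toFinset := by
    rw [Set.Finite.mem_toFinset]
    exact triv_mem M hM
  rw [← Finset.add_sum_erase _ _ htm] at horth
  have ht1 : ((triv G : IrrCharacter G) : G → ℂ) x * ((triv G : IrrCharacter G) : G → ℂ) 1⁻¹ = 1 := by
    simp [triv]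
  rw [ht1] at horth
  -- each remaining term is r times an algebraic integer
  have hterm : ∀ χ ∈ ((Set.toFinite B).toFinset).erase (triv G),
      ∃ γ : ℂ, IsIntegral ℤ γ ∧ (χ : G → ℂ) x * (χ : G → ℂ) 1⁻¹ = (r : ℂ) * γ := by
    intro χ hχ
    rw [Finset.mem_erase, Set.Finite.mem_toFinset] at hχ
    obtain ⟨m, hm⟩ := h χ hχ.1 (hht χ hχ.2)
    have hmint : IsIntegral ℤ ((m : ℕ) : ℂ) := by
      have : ((m : ℕ) : ℂ) = algebraMap ℤ ℂ (m : ℤ) := by simp
      rw [this]; exact isIntegral_algebraMap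
    refine ⟨(χ : G → ℂ) x * (m : ℂ), (isIntegral_irr χ x).mul hmint, ?_⟩
    rw [inv_one, apply_one_eq_charDegree χ, hm]
    push_cast
    ring
  choose! γ hγint hγ using hterm
  rw [Finset.sum_congr rfl hγ, ← Finset.mul_sum] at horth
  have hint : IsIntegral ℤ (∑ χ ∈ ((Set.toFinite B).toFinset).erase (triv G), γ χ) :=
    IsIntegral.sum _ hγint
  have hr0 : (r : ℂ) ≠ 0 := by exact_mod_cast hr.ne_zero
  have hq : ((1 : ℕ) : ℂ) / (r : ℂ) =
      -(∑ χ ∈ ((Set.toFinite B).toFinset).erase (triv G), γ χ) := by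
    rw [div_eq_iff hr0, Nat.cast_one]
    linear_combination horth
  have h3 : IsIntegral ℤ (((1 : ℕ) : ℂ) / (r : ℂ)) := by
    rw [hq]; exact hint.neg
  have h4 := Cfsg.Agent.Lib.Helper3_CharDegree.dvd_of_isIntegral_div hr.ne_zero h3
  exact hr.one_lt.ne' (Nat.dvd_one.mp h4)

/-- A nontrivial solvable group has a nonprincipal linear character. -/
theorem exists_linear_of_solvable [Finite G] [Nontrivial G] (hs : Group.IsSolvable G) :
    ∃ χ : IrrCharacter G, χ ≠ triv G ∧ charDegree (χ : G → ℂ) = 1 := by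
  classical
  have hlt : commutator G < ⊤ := Group.IsSolvable.commutator_lt_top_of_nontrivial G
  have hidx : (commutator G).index ≠ 1 := by
    intro h1
    exact hlt.ne (Subgroup.index_eq_one.mp h1)
  have hcard := Cfsg.Agent.Lib.Helper79_Linear.card_linear (G := G)
  have hidx0 : (commutator G).index ≠ 0 := Subgroup.index_ne_zero_of_finite
  have h2 : 1 < Nat.card {χ : IrrCharacter G // (χ : G → ℂ) 1 = 1} := by
    rw [hcard]; omega
  have : Finite {χ : IrrCharacter G // (χ : G → ℂ) 1 = 1} := Nat.finite_of_card_ne_zero (by omega)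
  obtain ⟨a, b, hab⟩ := Finite.one_lt_card_iff_nontrivial.mp h2
  have hdeg : ∀ c : {χ : IrrCharacter G // (χ : G → ℂ) 1 = 1}, charDegree (c.1 : G → ℂ) = 1 := by
    intro c
    unfold charDegree
    rw [c.2]
    simp
  by_cases ha : a.1 = triv G
  · refine ⟨b.1, ?_, hdeg b⟩
    intro hb
    exact hab (Subtype.ext (ha.trans hb.symm))
  · exact ⟨a.1, ha, hdeg a⟩

theorem ne_fun_of_ne_triv {χ : IrrCharacter G} (h : χ ≠ triv G) :
    (χ : G → ℂ) ≠ (fun _ => 1) := by
  intro h1
  exact h (Subtype.ext h1)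

/-- one half of the statement, symmetric in the two primes `q` and `r` -/
theorem half [Finite G] [Nontrivial G] (p q r a b c : ℕ) (hp : p.Prime) (hq : q.Prime) (hr : r.Prime)
    (hpq : p ≠ q) (hpr : p ≠ r) (ha : a ≤ 2)
    (hG : Nat.card G = p ^ a * q ^ b * r ^ c) :
    ∃ χ : Cfsg.IrrCharacter G, (χ : G → ℂ) ≠ (fun _ => 1) ∧
      ∃ k : ℕ, Cfsg.charDegree (χ : G → ℂ) = q ^ k := by
  classical
  rcases Nat.eq_zero_or_pos a with ha0 | hapos
  · -- `G` is a `{q, r}`-group, hence solvable
    subst ha0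
    rw [pow_zero, one_mul] at hG
    have hs : Group.IsSolvable G := Cfsg.Agent.S0144.result q r b c hq hr hG
    obtain ⟨χ, hne, hdeg⟩ := exists_linear_of_solvable hs
    exact ⟨χ, ne_fun_of_ne_triv hne, 0, by rw [hdeg, pow_zero]⟩
  · by_contra hcon
    push Not at hcon
    have hfac : (Nat.card G).factorization p = a := by
      have hpa : p ^ a ≠ 0 := pow_ne_zero _ hp.ne_zero
      have hqb : q ^ b ≠ 0 := pow_ne_zero _ hq.ne_zero
      have hrc : r ^ c ≠ 0 := pow_ne_zero _ hr.ne_zero
      rw [hG, Nat.factorization_mul (mul_ne_zero hpa hqb) hrc,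
        Nat.factorization_mul hpa hqb]
      simp only [Finsupp.add_apply, Nat.factorization_pow, Finsupp.smul_apply, smul_eq_mul]
      rw [hp.factorization_self, Nat.factorization_eq_zero_of_not_dvd (n := q) (p := p),
        Nat.factorization_eq_zero_of_not_dvd (n := r) (p := p)]
      · ring
      · intro hd; exact hpr ((Nat.prime_dvd_prime_iff_eq hp hr).1 hd)
      · intro hd; exact hpq ((Nat.prime_dvd_prime_iff_eq hp hq).1 hd)
    refine key (G := G) p hp (by omega) (by omega) r hr ?_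
    intro χ hne hnp
    by_contra hnr
    have hdvd : charDegree (χ : G → ℂ) ∣ p ^ a * q ^ b * r ^ c := by
      rw [← hG]; exact charDegree_dvd_card χ
    have hcp : Nat.Coprime (charDegree (χ : G → ℂ)) (p ^ a) :=
      Nat.Coprime.pow_right _ ((Nat.Prime.coprime_iff_not_dvd hp).2 hnp).symm
    have hcr : Nat.Coprime (charDegree (χ : G → ℂ)) (r ^ c) :=
      Nat.Coprime.pow_right _ ((Nat.Prime.coprime_iff_not_dvd hr).2 hnr).symm
    have h1 : charDegree (χ : G → ℂ) ∣ p ^ a * q ^ b := hcr.dvd_of_dvd_mul_right hdvd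
    have h2 : charDegree (χ : G → ℂ) ∣ q ^ b := hcp.dvd_of_dvd_mul_left h1
    obtain ⟨k, _, hk⟩ := (Nat.dvd_prime_pow hq).1 h2
    exact hcon χ (ne_fun_of_ne_triv hne) k hk

/-- Let G be a non-trivial finite group of order p^a · q^b · r^c with p, q, r distinct primes and a ≤ 2. Then G has a non-principal irreducible character whose degree is a power of q, and a non-principal irreducible character whose degree is a power of r; the power may be the zeroth, so a non-principal linear character serves for both. -/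
theorem result {G : Type*} [Group G] [Finite G] [Nontrivial G] (p q r a b c : ℕ) (hp : p.Prime) (hq : q.Prime) (hr : r.Prime) (hpq : p ≠ q) (hpr : p ≠ r) (hqr : q ≠ r) (ha : a ≤ 2) (hG : Nat.card G = p ^ a * q ^ b * r ^ c) : (∃ χ : Cfsg.IrrCharacter G, (χ : G → ℂ) ≠ (fun _ => 1) ∧ ∃ k : ℕ, Cfsg.charDegree (χ : G → ℂ) = q ^ k) ∧ ∃ χ : Cfsg.IrrCharacter G, (χ : G → ℂ) ≠ (fun _ => 1) ∧ ∃ k : ℕ, Cfsg.charDegree (χ : G → ℂ) = r ^ k := by
  refine ⟨half p q r a b c hp hq hr hpq hpr ha hG, ?_⟩
  refine half p r q a c b hp hr hq hpr hpq ha ?_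
  rw [hG]; ring

end Cfsg.Agent.S4500
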