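import Cfsg.Statements.S4501
import Cfsg.Agent.S4500
import Cfsg.Agent.S0904
import Cfsg.Agent.S0494
import Cfsg.Agent.S0495
import Cfsg.Agent.S0144
import Cfsg.Agent.Lib.Helper30_FourPQ
import Cfsg.Agent.Lib.Helper30_ThreePQ
import Cfsg.Agent.Lib.Helper30_ThreeArith

set_option autoImplicit false
open Cfsg

namespace Cfsg.Agent.S4501

open Cfsg.Agent.Lib.Helper30_FourPQ Cfsg.Agent.Lib.Helper30_ThreePQ
  Cfsg.Agent.Lib.Helper30_ThreeArith Cfsg.Agent.Lib.Helper77_BlockBasics

/-- simple groups of order `3 p^a q^b` with `a ≤ 2` -/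
theorem part_two {G : Type*} [Group G] [Finite G] [IsSimpleGroup G]
    (hna : ∃ x y : G, x * y ≠ y * x) (p q a b : ℕ) (hp : p.Prime) (hq : q.Prime) (hpq : p ≠ q)
    (ha : a ≤ 2) (hG : Nat.card G = 3 * p ^ a * q ^ b) :
    Nonempty (G ≃* alternatingGroup (Fin 5)) ∨
      Nonempty (G ≃* Matrix.ProjectiveSpecialLinearGroup (Fin 2) (ZMod 7)) := by
  classical
  have : Fact (Nat.Prime 3) := ⟨Nat.prime_three⟩
  have : Fact (Nat.Prime 2) := ⟨Nat.prime_two⟩
  have hns := not_solvable hna
  have hperf := perfect hna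
  have hp3 : p ≠ 3 := by
    rintro rfl
    exact hns (Cfsg.Agent.S0144.result 3 q (a + 1) b Nat.prime_three hq (by rw [hG]; ring))
  have hq3 : q ≠ 3 := by
    rintro rfl
    exact hns (Cfsg.Agent.S0144.result p 3 a (b + 1) hp Nat.prime_three (by rw [hG]; ring))
  have ha0 : a ≠ 0 := by
    rintro rfl
    exact hns (Cfsg.Agent.S0144.result 3 q 1 b Nat.prime_three hq (by rw [hG]; ring))
  have hb0 : b ≠ 0 := by
    rintro rfl
    exact hns (Cfsg.Agent.S0144.result 3 p 1 a Nat.prime_three hp (by rw [hG]; ring))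
  have h3 : 3 ∣ Nat.card G := ⟨p ^ a * q ^ b, by rw [hG]; ring⟩
  have h9 : ¬ 9 ∣ Nat.card G := by
    intro h
    rw [hG] at h
    have h' : 3 * 3 ∣ 3 * (p ^ a * q ^ b) := by
      have e : 3 * (p ^ a * q ^ b) = 3 * p ^ a * q ^ b := by ring
      rw [e]; exact h
    have h1 : 3 ∣ p ^ a * q ^ b := Nat.dvd_of_mul_dvd_mul_left (by norm_num) h'
    rcases (Nat.Prime.dvd_mul Nat.prime_three).mp h1 with h2 | h2
    · exact hp3 ((Nat.prime_dvd_prime_iff_eq Nat.prime_three hp).mp
        (Nat.prime_three.dvd_of_dvd_pow h2)).symm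
    · exact hq3 ((Nat.prime_dvd_prime_iff_eq Nat.prime_three hq).mp
        (Nat.prime_three.dvd_of_dvd_pow h2)).symm
  -- a character of degree three
  have hnt : Nontrivial G := IsSimpleGroup.toNontrivial
  obtain ⟨-, ψ, hψne, k, hk⟩ := Cfsg.Agent.S4500.result p q 3 a b 1 hp hq Nat.prime_three hpq hp3
    hq3 ha (by rw [hG]; ring)
  have hψ : charDegree (ψ : G → ℂ) = 3 := by
    have hk0 : k ≠ 0 := by
      rintro rfl
      apply hψne
      have h1 : (ψ : G → ℂ) 1 = 1 := by rw [apply_one_eq_charDegree, hk]; norm_num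
      rw [eq_one_of_linear hperf ψ h1]
      rfl
    have hk2 : k < 2 := by
      by_contra hge
      push Not at hge
      apply h9
      have h1 : 3 ^ k ∣ Nat.card G := by rw [← hk]; exact charDegree_dvd_card ψ
      exact (pow_dvd_pow 3 hge).trans h1
    have hk1 : k = 1 := by omega
    rw [hk, hk1, pow_one]
  -- a self-centralizing element of order three
  obtain ⟨S⟩ : Nonempty (Sylow 3 G) := inferInstance
  have hSC := Cfsg.Agent.S0904.result p q 3 a b hp hq hpq hp3 hq3 (by rw [hG]; ring) S
  have hS3 : Nat.card (S : Subgroup G) = 3 := by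
    obtain ⟨n, hn⟩ := IsPGroup.iff_card.mp S.2
    have h1 : 3 ∣ Nat.card (S : Subgroup G) := S.dvd_card_of_dvd_card h3
    have h2 : Nat.card (S : Subgroup G) ∣ Nat.card G := Subgroup.card_subgroup_dvd_card _
    rw [hn] at h1 h2 ⊢
    have hn1 : n ≠ 0 := by
      rintro rfl
      norm_num at h1
    have hn2 : n < 2 := by
      by_contra hge
      push Not at hge
      exact h9 ((pow_dvd_pow 3 hge).trans h2)
    have : n = 1 := by omega
    rw [this, pow_one]
  obtain ⟨y', hy'⟩ := exists_prime_orderOf_dvd_card' (G := (S : Subgroup G)) 3 (by rw [hS3])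
  obtain ⟨y, hydef⟩ : ∃ y : G, y = (y' : G) := ⟨_, rfl⟩
  have hy : orderOf y = 3 := by rw [hydef, Subgroup.orderOf_coe]; exact hy'
  have hzp : Subgroup.zpowers y = (S : Subgroup G) :=
    Subgroup.eq_of_le_of_card_ge (Subgroup.zpowers_le.mpr (by rw [hydef]; exact y'.2))
      (by rw [Nat.card_zpowers, hy, hS3])
  have hC : Subgroup.centralizer ({y} : Set G) = Subgroup.zpowers y := by
    have h1 : Subgroup.centralizer ({y} : Set G) =
        Subgroup.centralizer ((Subgroup.zpowers y : Subgroup G) : Set G) := by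
      rw [Subgroup.zpowers_eq_closure, Subgroup.centralizer_closure]
    rw [h1, hzp]
    exact hSC
  -- the order relation
  obtain ⟨u, hu, hall, hcases⟩ := order_relation hperf hy hC h3 h9 ψ hψ
  obtain ⟨T⟩ : Nonempty (Sylow 2 G) := inferInstance
  have hTc := sylow_two_dvd_centralizer hu hall T
  have h2N : 2 ∣ Nat.card G := by rw [← hu]; exact orderOf_dvd_natCard u
  have h2pq : 2 = p ∨ 2 = q := by
    rw [hG] at h2N
    rcases prime_cases3 Nat.prime_two hp hq h2N with h | h | h
    · omega
    · exact Or.inl h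
    · exact Or.inr h
  obtain ⟨c, hc⟩ : ∃ c : ℕ, c = Nat.card (Subgroup.centralizer ({u} : Set G)) := ⟨_, rfl⟩
  rw [← hc] at hcases hTc
  rcases hcases with ⟨h7, h8, hrel⟩ | ⟨h4, h5, hrel⟩
  · -- degrees 7 and 8
    have h7pq : 7 = p ∨ 7 = q := by
      rw [hG] at h7
      rcases prime_cases3 (by norm_num : Nat.Prime 7) hp hq h7 with h | h | h
      · omega
      · exact Or.inl h
      · exact Or.inr h
    rcases h7pq with h7p | h7q
    · rcases h2pq with h2p | h2q
      · omega
      · subst h7p h2q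
        have hdiv : 2 ^ b ∣ c :=
          (T.pow_dvd_card_of_pow_dvd_card ⟨3 * 7 ^ a, by rw [hG]; ring⟩).trans hTc
        rw [hG] at hrel h8
        obtain ⟨ha1, hb3⟩ := arith_seven (Nat.one_le_iff_ne_zero.mpr ha0) ha hrel hdiv h8
        right
        have h168 : Nat.card G = 168 := by rw [hG, ha1, hb3]; norm_num
        have : Fact (Nat.Prime 7) := ⟨by norm_num⟩
        exact Cfsg.Agent.S0495.result h168 (F := ZMod 7) (ZMod.card 7)
    · rcases h2pq with h2p | h2q
      · exfalso
        subst h7q h2p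
        rw [hG] at h8
        have h8' : 2 ^ 3 ∣ 2 ^ a * (3 * 7 ^ b) := by
          have e : 2 ^ a * (3 * 7 ^ b) = 3 * 2 ^ a * 7 ^ b := by ring
          rw [e]; exact h8
        have hodd : Odd (3 * 7 ^ b) := by
          exact (by decide : Odd 3).mul ((by decide : Odd 7).pow)
        have := two_pow_dvd hodd h8'
        omega
      · omega
  · -- degrees 4 and 5
    have h5pq : 5 = p ∨ 5 = q := by
      rw [hG] at h5
      rcases prime_cases3 (by norm_num : Nat.Prime 5) hp hq h5 with h | h | h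
      · omega
      · exact Or.inl h
      · exact Or.inr h
    left
    rcases h5pq with h5p | h5q
    · rcases h2pq with h2p | h2q
      · omega
      · subst h5p h2q
        have hdiv : 2 ^ b ∣ c :=
          (T.pow_dvd_card_of_pow_dvd_card ⟨3 * 5 ^ a, by rw [hG]; ring⟩).trans hTc
        rw [hG] at hrel h4
        obtain ⟨ha1, hb2⟩ := arith_five (Nat.one_le_iff_ne_zero.mpr ha0) ha hrel hdiv h4
        have h60 : Nat.card G = 60 := by rw [hG, ha1, hb2]; norm_num
        exact Cfsg.Agent.S0494.result h60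
    · rcases h2pq with h2p | h2q
      · subst h5q h2p
        rw [hG] at h4
        have h4' : 2 ^ 2 ∣ 2 ^ a * (3 * 5 ^ b) := by
          have e : 2 ^ a * (3 * 5 ^ b) = 3 * 2 ^ a * 5 ^ b := by ring
          rw [e]; exact h4
        have hodd : Odd (3 * 5 ^ b) := by
          exact (by decide : Odd 3).mul ((by decide : Odd 5).pow)
        have h2a := two_pow_dvd hodd h4'
        have ha2 : a = 2 := by omega
        exact part_one hna 3 5 1 b Nat.prime_three (by norm_num) (by norm_num)
          (by rw [hG, ha2]; ring)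
      · omega

/-- Let G be a non-abelian finite simple group and p, q distinct primes. If the order of G is 4·p^a·q^b with a ≤ 2, then G is isomorphic to the alternating group of degree 5. If the order of G is 3·p^a·q^b with a ≤ 2, then G is isomorphic to the alternating group of degree 5 or to PSL(2,7). -/
theorem result {G : Type*} [Group G] [Finite G] [IsSimpleGroup G] (hna : ∃ x y : G, x * y ≠ y * x) (p q a b : ℕ) (hp : p.Prime) (hq : q.Prime) (hpq : p ≠ q) (ha : a ≤ 2) : (Nat.card G = 4 * p ^ a * q ^ b → Nonempty (G ≃* alternatingGroup (Fin 5))) ∧ (Nat.card G = 3 * p ^ a * q ^ b → Nonempty (G ≃* alternatingGroup (Fin 5)) ∨ Nonempty (G ≃* Matrix.ProjectiveSpecialLinearGroup (Fin 2) (ZMod 7))) := by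
  exact ⟨fun hG => part_one hna p q a b hp hq hpq hG,
    fun hG => part_two hna p q a b hp hq hpq ha hG⟩

end Cfsg.Agent.S4501
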