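import Mathlib
import Cfsg.Agent.Lib.Helper5_QuadCount
import Cfsg.Statements.S0291

set_option autoImplicit false
open Cfsg

namespace Cfsg.Agent.S0291

/-- For q odd, the form x_0^2 + sum_{i<m} x_i y_i on F^(2m+1) has exactly q^(2m) zeros. -/
theorem result {F : Type*} [Field F] [Fintype F] {q : ℕ} (hF : Fintype.card F = q) (hodd : Odd q) (m : ℕ) : Nat.card {v : Unit ⊕ (Fin m ⊕ Fin m) → F // Cfsg.quadFormOdd m F v = 0} = q ^ (2 * m) := by
  classical
  have e : {v : Unit ⊕ (Fin m ⊕ Fin m) → F // Cfsg.quadFormOdd m F v = 0} ≃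
      (Σ t : F, {p : (Fin m → F) × (Fin m → F) // p.1 ⬝ᵥ p.2 = - (t ^ 2)}) :=
    { toFun := fun v => ⟨v.1 (.inl ()), ⟨(fun i => v.1 (.inr (.inl i)), fun i => v.1 (.inr (.inr i))), by
        have := v.2
        simp only [Cfsg.quadFormOdd] at this
        simp only [dotProduct]
        linear_combination this⟩⟩
      invFun := fun s => ⟨Sum.elim (fun _ => s.1) (Sum.elim s.2.1.1 s.2.1.2), by
        have := s.2.2
        simp only [dotProduct] at this
        simp only [Cfsg.quadFormOdd, Sum.elim_inl, Sum.elim_inr]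
        linear_combination this⟩
      left_inv := fun v => by
        apply Subtype.ext
        funext x
        rcases x with ⟨⟩ | x | x <;> rfl
      right_inv := fun s => by
        rcases s with ⟨t, ⟨p1, p2⟩, hp⟩
        rfl }
  rw [Nat.card_congr e, Cfsg.Agent.Lib.Helper5_QuadCount.card_sigma_pairs (fun t : F => t ^ 2) m 0 (by intro a; simp), hF]
  have hq : 1 ≤ q := by rw [← hF]; exact Fintype.card_pos
  rcases Nat.eq_zero_or_pos m with rfl | hm
  · simp
  · have h1 : q * q ^ (m - 1) = q ^ m := by rw [← pow_succ']; congr 1; omega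
    have h2 : 1 ≤ q ^ m := Nat.pow_pos hq
    calc q ^ m + q * ((q ^ m - 1) * q ^ (m - 1)) = q ^ m + (q ^ m - 1) * (q * q ^ (m - 1)) := by ring
      _ = q ^ m + (q ^ m - 1) * q ^ m := by rw [h1]
      _ = ((q ^ m - 1) + 1) * q ^ m := by ring
      _ = q ^ m * q ^ m := by rw [Nat.sub_add_cancel h2]
      _ = q ^ (2 * m) := by rw [← pow_add]; congr 1; omega

end Cfsg.Agent.S0291
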