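import Mathlib
import Cfsg.Statements.S0286
import Cfsg.Agent.Lib.Helper5_OrthOrder
import Cfsg.Agent.Lib.Helper44_StdForms
import Cfsg.Agent.S0291

set_option autoImplicit false
open Cfsg

namespace Cfsg.Agent.S0286

open Cfsg.Agent.Lib.Helper5_OrthOrder Cfsg.Agent.Lib.Helper44_StdForms

/-- reindexing `Fin 2 ⊕ (Unit ⊕ (Fin k ⊕ Fin k)) ≃ Unit ⊕ (Fin (k+1) ⊕ Fin (k+1))` -/
def eO (k : ℕ) : Fin 2 ⊕ (Unit ⊕ (Fin k ⊕ Fin k)) ≃ Unit ⊕ (Fin (k + 1) ⊕ Fin (k + 1)) where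
  toFun := Sum.elim ![Sum.inr (Sum.inl 0), Sum.inr (Sum.inr 0)]
    (Sum.map id (Sum.map Fin.succ Fin.succ))
  invFun := Sum.elim (fun _ => Sum.inr (Sum.inl ()))
    (Sum.elim (Fin.cases (Sum.inl 0) (fun i => Sum.inr (Sum.inr (Sum.inl i))))
      (Fin.cases (Sum.inl 1) (fun i => Sum.inr (Sum.inr (Sum.inr i)))))
  left_inv x := by
    rcases x with x | x | x | x
    · fin_cases x <;> simp
    · simp
    · simp
    · simp
  right_inv x := by
    rcases x with x | x | x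
    · simp
    · refine Fin.cases ?_ (fun j => ?_) x <;> simp
    · refine Fin.cases ?_ (fun j => ?_) x <;> simp

lemma quadFormOdd_succ {F : Type*} [Field F] (k : ℕ) (w : Unit ⊕ (Fin (k + 1) ⊕ Fin (k + 1)) → F) :
    Cfsg.quadFormOdd (k + 1) F w = QH (qfOdd k F) (w ∘ eO k) := by
  rw [QH_apply, coe_qfOdd]
  unfold Cfsg.quadFormOdd
  rw [Fin.sum_univ_succ]
  simp [eO]
  ring

lemma nondeg_qfOdd {F : Type*} [Field F] (h2 : (2 : F) ≠ 0) (k : ℕ) :
    ∀ x, (∀ y, QuadraticMap.polar (⇑(qfOdd k F)) x y = 0) → x = 0 := by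
  have hnd : (QuadraticMap.polarBilin (qfOdd k F)).Nondegenerate := by
    refine (LinearMap.BilinForm.nondegenerate_iff_det_ne_zero
      (Pi.basisFun F (Unit ⊕ (Fin k ⊕ Fin k)))).mpr ?_
    have : LinearMap.BilinForm.toMatrix (Pi.basisFun F (Unit ⊕ (Fin k ⊕ Fin k)))
        (QuadraticMap.polarBilin (qfOdd k F))
        = Matrix.of (fun i j : Unit ⊕ (Fin k ⊕ Fin k) =>
            QuadraticMap.polar (Cfsg.quadFormOdd k F) (Pi.single i 1) (Pi.single j 1)) := by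
      ext i j
      simp [LinearMap.BilinForm.toMatrix_apply, coe_qfOdd]
    rw [this, det_gram_quadFormOdd]
    exact mul_ne_zero h2 (pow_ne_zero _ (neg_ne_zero.mpr one_ne_zero))
  intro x hx
  exact hnd.1 x (fun y => by simpa using hx y)

lemma two_ne_zero_of_odd {F : Type*} [Field F] [Fintype F] (hodd : Odd (Fintype.card F)) : (2 : F) ≠ 0 := by
  intro h2
  have hc : ringChar F = 2 := CharP.ringChar_of_prime_eq_zero Nat.prime_two (by exact_mod_cast h2)
  have := FiniteField.even_card_of_char_two hc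
  rw [Nat.odd_iff] at hodd
  omega

theorem card_succ {F : Type*} [Field F] [Fintype F] (hodd : Odd (Fintype.card F)) (k : ℕ) :
    Nat.card (Cfsg.isometryGroup F (Cfsg.quadFormOdd (k + 1) F)) =
      (Fintype.card F ^ (2 * (k + 1)) - 1) * Fintype.card F ^ (2 * k + 1)
        * Nat.card (Cfsg.isometryGroup F (Cfsg.quadFormOdd k F)) := by
  have h := card_step (eO k) (qfOdd k F) (nondeg_qfOdd (two_ne_zero_of_odd hodd) k)
    (Cfsg.quadFormOdd (k + 1) F) (quadFormOdd_succ k)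
  rw [coe_qfOdd, Cfsg.Agent.S0291.result rfl hodd (k + 1)] at h
  rw [h]
  simp only [Fintype.card_sum, Fintype.card_fin, Fintype.card_unit]
  have : 1 + (k + k) = 2 * k + 1 := by ring
  rw [this]

lemma quadFormOdd_zero {F : Type*} [Field F] (v : Unit ⊕ (Fin 0 ⊕ Fin 0) → F) :
    Cfsg.quadFormOdd 0 F v = v (Sum.inl ()) ^ 2 := by
  simp [Cfsg.quadFormOdd]

theorem card_zero {F : Type*} [Field F] [Fintype F] (h2 : (2 : F) ≠ 0) :
    Nat.card (Cfsg.isometryGroup F (Cfsg.quadFormOdd 0 F)) = 2 := by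
  rw [Nat.card_eq_two_iff]
  have hneg : (-1 : GL (Unit ⊕ (Fin 0 ⊕ Fin 0)) F) ∈ Cfsg.isometryGroup F (Cfsg.quadFormOdd 0 F) := by
    rw [mem_iso]
    intro v
    rw [quadFormOdd_zero, quadFormOdd_zero]
    have : ((-1 : GL (Unit ⊕ (Fin 0 ⊕ Fin 0)) F) : Matrix (Unit ⊕ (Fin 0 ⊕ Fin 0)) (Unit ⊕ (Fin 0 ⊕ Fin 0)) F)
        = -1 := rfl
    rw [this, Matrix.neg_mulVec, Matrix.one_mulVec]
    simp
  refine ⟨1, ⟨-1, hneg⟩, ?_, ?_⟩
  · intro h
    have h1 := congrArg (fun g : Cfsg.isometryGroup F (Cfsg.quadFormOdd 0 F) =>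
      ((g.1 : GL (Unit ⊕ (Fin 0 ⊕ Fin 0)) F) : Matrix (Unit ⊕ (Fin 0 ⊕ Fin 0)) (Unit ⊕ (Fin 0 ⊕ Fin 0)) F)
        (Sum.inl ()) (Sum.inl ())) h
    simp at h1
    apply h2
    linear_combination h1
  · rw [Set.eq_univ_iff_forall]
    intro g
    have hg := (mem_iso _ g.1).mp g.2
    set M : Matrix (Unit ⊕ (Fin 0 ⊕ Fin 0)) (Unit ⊕ (Fin 0 ⊕ Fin 0)) F :=
      ((g.1 : GL (Unit ⊕ (Fin 0 ⊕ Fin 0)) F) : Matrix (Unit ⊕ (Fin 0 ⊕ Fin 0)) (Unit ⊕ (Fin 0 ⊕ Fin 0)) F) with hM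
    set c := M (Sum.inl ()) (Sum.inl ()) with hc
    have hMc : M = c • (1 : Matrix _ _ F) := by
      ext i j
      rcases i with ⟨⟩ | i | i
      · rcases j with ⟨⟩ | j | j
        · simp [hc]
        · exact j.elim0
        · exact j.elim0
      · exact i.elim0
      · exact i.elim0
    have h1 := hg (Pi.single (Sum.inl ()) 1)
    rw [quadFormOdd_zero, quadFormOdd_zero, hMc] at h1
    simp at h1
    rcases h1 with h1 | h1
    · left
      apply Subtype.ext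
      apply Units.ext
      show M = 1
      rw [hMc, h1, one_smul]
    · right
      show g = ⟨-1, hneg⟩
      apply Subtype.ext
      apply Units.ext
      show M = -1
      rw [hMc, h1]
      simp

theorem card_odd {F : Type*} [Field F] [Fintype F] (hodd : Odd (Fintype.card F)) (m : ℕ) :
    Nat.card (Cfsg.isometryGroup F (Cfsg.quadFormOdd m F)) =
      2 * Fintype.card F ^ (m ^ 2) * ∏ i ∈ Finset.range m, (Fintype.card F ^ (2 * (i + 1)) - 1) := by
  induction m with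
  | zero =>
    rw [card_zero (two_ne_zero_of_odd hodd)]
    simp
  | succ k ih =>
    rw [card_succ hodd, ih, Finset.prod_range_succ]
    have : (k + 1) ^ 2 = (2 * k + 1) + k ^ 2 := by ring
    rw [this, pow_add]
    ring

/-- |GO_{2m+1}(q)| = 2 q^(m^2) prod_{i=1}^{m} (q^(2i) - 1) for q odd. -/
theorem result {F : Type*} [Field F] [Fintype F] {q : ℕ} (hF : Fintype.card F = q) (hodd : Odd q) (m : ℕ) : Nat.card (Cfsg.isometryGroup F (Cfsg.quadFormOdd m F)) = 2 * q ^ (m ^ 2) * ∏ i ∈ Finset.range m, (q ^ (2 * (i + 1)) - 1) := by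
  subst hF
  exact card_odd hodd m

end Cfsg.Agent.S0286
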