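import Mathlib
import Cfsg.Statements.S0294
import Cfsg.Agent.Lib.Helper5_OmegaCenter
import Cfsg.Agent.Lib.Helper5_OmegaIndex
import Cfsg.Agent.Lib.Helper44_StdForms
import Cfsg.Agent.Lib.Helper14_NegOne
import Cfsg.Agent.S0288

set_option autoImplicit false
open Cfsg

namespace Cfsg.Agent.S0294

open Cfsg.Agent.Lib.Helper5_OmegaCenter Cfsg.Agent.Lib.Helper5_OmegaIndex
  Cfsg.Agent.Lib.Helper44_StdForms Cfsg.Agent.Lib.Helper44_OmegaOdd

/-- from the one-sided form of nondegeneracy to Mathlib's -/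
lemma nondegenerate_of_hnd {ι : Type} {F : Type*} [Field F] (Q : QuadraticForm F (ι → F))
    (hnd : ∀ x, (∀ y, QuadraticMap.polar (⇑Q) x y = 0) → x = 0) :
    (QuadraticMap.polarBilin Q).Nondegenerate := by
  constructor
  · intro x hx
    exact hnd x (fun y => by simpa using hx y)
  · intro y hy
    refine hnd y (fun x => ?_)
    rw [QuadraticMap.polar_comm]
    simpa using hy x

section
variable {F : Type*} [Field F] (a b : F) (k : ℕ)

/-- basis vectors -/
def eI (i : Fin (k + 2)) : (Fin (k + 2) ⊕ Fin (k + 2)) ⊕ Fin 2 → F := Pi.single (Sum.inl (Sum.inl i)) 1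
def fI (i : Fin (k + 2)) : (Fin (k + 2) ⊕ Fin (k + 2)) ⊕ Fin 2 → F := Pi.single (Sum.inl (Sum.inr i)) 1
def s0 : (Fin (k + 2) ⊕ Fin (k + 2)) ⊕ Fin 2 → F := Pi.single (Sum.inr 0) 1

lemma Q_eI (i : Fin (k + 2)) : qfMinus (k + 2) F a b (eI k i) = 0 := by
  rw [coe_qfMinus]; simp [Cfsg.quadFormMinus, eI]
lemma Q_fI (i : Fin (k + 2)) : qfMinus (k + 2) F a b (fI k i) = 0 := by
  rw [coe_qfMinus]; simp [Cfsg.quadFormMinus, fI]
lemma Q_s0 : qfMinus (k + 2) F a b (s0 k) = 1 := by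
  rw [coe_qfMinus]; simp [Cfsg.quadFormMinus, s0]

lemma polar_eI_fI (i j : Fin (k + 2)) :
    QuadraticMap.polar (⇑(qfMinus (k + 2) F a b)) (eI k i) (fI k j) = if i = j then 1 else 0 := by
  rw [coe_qfMinus, polar_quadFormMinus]
  simp [eI, fI, Pi.single_apply, eq_comm]
lemma polar_eI_eI (i j : Fin (k + 2)) :
    QuadraticMap.polar (⇑(qfMinus (k + 2) F a b)) (eI k i) (eI k j) = 0 := by
  rw [coe_qfMinus, polar_quadFormMinus]
  simp [eI, Pi.single_apply]
lemma polar_fI_fI (i j : Fin (k + 2)) :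
    QuadraticMap.polar (⇑(qfMinus (k + 2) F a b)) (fI k i) (fI k j) = 0 := by
  rw [coe_qfMinus, polar_quadFormMinus]
  simp [fI, Pi.single_apply]
lemma polar_eI_s0 (i : Fin (k + 2)) :
    QuadraticMap.polar (⇑(qfMinus (k + 2) F a b)) (eI k i) (s0 k) = 0 := by
  rw [coe_qfMinus, polar_quadFormMinus]
  simp [eI, s0, Pi.single_apply]
lemma polar_fI_s0 (i : Fin (k + 2)) :
    QuadraticMap.polar (⇑(qfMinus (k + 2) F a b)) (fI k i) (s0 k) = 0 := by
  rw [coe_qfMinus, polar_quadFormMinus]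
  simp [fI, s0, Pi.single_apply]

end

/-- for `q` odd: `4 ∣ q^(n+1) + 1` iff `n` even and `q ≡ 3 mod 4` -/
lemma four_dvd_iff (q n : ℕ) (hq : q % 2 = 1) : 4 ∣ q ^ (n + 1) + 1 ↔ (Even n ∧ q % 4 = 3) := by
  have hq4 : q % 4 = 1 ∨ q % 4 = 3 := by omega
  rw [Nat.dvd_iff_mod_eq_zero, Nat.add_mod, Nat.pow_mod]
  rcases hq4 with h | h
  · rw [h, one_pow]
    constructor
    · intro h'; norm_num at h'
    · rintro ⟨-, h'⟩; omega
  · rw [h]
    rcases Nat.even_or_odd n with hn | hn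
    · obtain ⟨j, rfl⟩ := hn
      have : 3 ^ (j + j + 1) % 4 = 3 := by
        rw [pow_succ, ← two_mul, pow_mul, Nat.mul_mod, Nat.pow_mod]
        norm_num
      rw [this]
      simp
    · obtain ⟨j, rfl⟩ := hn
      have : 3 ^ (2 * j + 1 + 1) % 4 = 1 := by
        have : 2 * j + 1 + 1 = 2 * (j + 1) := by ring
        rw [this, pow_mul, Nat.pow_mod]
        norm_num
      rw [this]
      constructor
      · intro h'; norm_num at h'
      · rintro ⟨h', -⟩
        exfalso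
        rw [Nat.even_add_one] at h'
        exact h' (even_two_mul j)

lemma disc_nonsquare {F : Type*} [Field F] (h2 : (2 : F) ≠ 0) (a b : F)
    (hab : ∀ z₁ z₂ : F, z₁ ^ 2 + a * z₁ * z₂ + b * z₂ ^ 2 = 0 → z₁ = 0 ∧ z₂ = 0) :
    ¬ IsSquare (a ^ 2 - 4 * b) := by
  rintro ⟨s, hs⟩
  have := (hab ((-a + s) / 2) 1 (by field_simp; linear_combination -hs)).2
  exact one_ne_zero this

lemma isSquare_disc_iff {F : Type*} [Field F] [Fintype F] (h2 : (2 : F) ≠ 0) (a b : F)
    (hab : ∀ z₁ z₂ : F, z₁ ^ 2 + a * z₁ * z₂ + b * z₂ ^ 2 = 0 → z₁ = 0 ∧ z₂ = 0) (n : ℕ) :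
    IsSquare ((-1 : F) ^ n * (4 * b - a ^ 2)) ↔ (Even n ∧ Fintype.card F % 4 = 3) := by
  classical
  have hD := disc_nonsquare h2 a b hab
  have hD0 : a ^ 2 - 4 * b ≠ 0 := by
    intro h
    apply hD
    rw [h]
    exact ⟨0, by simp⟩
  have hx : (-1 : F) ^ n * (4 * b - a ^ 2) = (-1) ^ (n + 1) * (a ^ 2 - 4 * b) := by
    rw [pow_succ]; ring
  have hx0 : (-1 : F) ^ (n + 1) * (a ^ 2 - 4 * b) ≠ 0 :=
    mul_ne_zero (pow_ne_zero _ (neg_ne_zero.mpr one_ne_zero)) hD0
  rw [hx, ← quadraticChar_one_iff_isSquare hx0, map_mul, map_pow,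
    quadraticChar_neg_one_iff_not_isSquare.mpr hD]
  by_cases hq : Fintype.card F % 4 = 3
  · have h1 : quadraticChar F (-1) = -1 := by
      rw [quadraticChar_neg_one_iff_not_isSquare, FiniteField.isSquare_neg_one_iff]
      simpa using hq
    rw [h1]
    rcases Nat.even_or_odd n with hn | hn
    · have : Odd (n + 1) := hn.add_one
      rw [this.neg_one_pow]
      simp [hn, hq]
    · have : Even (n + 1) := hn.add_one
      rw [this.neg_one_pow]
      have hne : ¬ Even n := by rwa [Nat.not_even_iff_odd]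
      simp [hne]
  · have h1 : quadraticChar F (-1) = 1 := by
      rw [quadraticChar_one_iff_isSquare (neg_ne_zero.mpr one_ne_zero), FiniteField.isSquare_neg_one_iff]
      exact hq
    rw [h1, one_pow]
    simp [hq]

theorem card_POmega_minus {F : Type*} [Field F] [Fintype F] (a b : F)
    (hab : ∀ z₁ z₂ : F, z₁ ^ 2 + a * z₁ * z₂ + b * z₂ ^ 2 = 0 → z₁ = 0 ∧ z₂ = 0) (k : ℕ) :
    Nat.gcd 4 (Fintype.card F ^ (k + 3) + 1) * Nat.card (Cfsg.POmega F (Cfsg.quadFormMinus (k + 2) F a b)) * 2 =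
      Nat.card (Cfsg.isometryGroup F (Cfsg.quadFormMinus (k + 2) F a b)) := by
  set Q := qfMinus (k + 2) F a b with hQdef
  have hdisc := Cfsg.Agent.S0288.disc_ne_zero a b hab
  have hnd := Cfsg.Agent.S0288.nondeg_qfMinus a b hdisc (k + 2)
  have hQ := nondegenerate_of_hnd Q hnd
  have h01 : (0 : Fin (k + 2)) ≠ 1 := by
    intro h
    have := congrArg Fin.val h
    simp at this
  have hef : QuadraticMap.polar (⇑Q) (eI k 0) (fI k 0) = 1 := by rw [polar_eI_fI]; simp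
  have star : Star Q (eI k 0) (fI k 0) :=
    star_of_second_pair Q hnd (Q_eI a b k 0) (Q_fI a b k 0) hef
      (Q_eI a b k 1) (Q_fI a b k 1) (by rw [polar_eI_fI]; simp)
      (polar_eI_eI a b k 0 1) (by rw [polar_eI_fI, if_neg h01])
      (by rw [QuadraticMap.polar_comm, polar_eI_fI, if_neg h01.symm]) (polar_fI_fI a b k 0 1)
      (polar_eI_s0 a b k 0) (polar_fI_s0 a b k 0) (polar_eI_s0 a b k 1) (polar_fI_s0 a b k 1)
      (by rw [Q_s0]; exact one_ne_zero)
  have hw₀ : NS Q (eI k 0) (fI k 0) (s0 k) :=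
    ⟨polar_eI_s0 a b k 0, polar_fI_s0 a b k 0, by rw [Q_s0]; exact one_ne_zero⟩
  have hcoe : (⇑Q : _ → F) = Cfsg.quadFormMinus (k + 2) F a b := coe_qfMinus (k + 2) F a b
  have hmul := Subgroup.card_mul_index (Cfsg.Omega F (⇑Q))
  have hcardι : Fintype.card ((Fin (k + 2) ⊕ Fin (k + 2)) ⊕ Fin 2) = 2 * (k + 3) := by
    simp only [Fintype.card_sum, Fintype.card_fin]; ring
  by_cases h2 : (2 : F) = 0
  · -- characteristic two
    have hc2 : ringChar F = 2 := CharP.ringChar_of_prime_eq_zero Nat.prime_two (by exact_mod_cast h2)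
    have heven := FiniteField.even_card_of_char_two hc2
    have hgcd : Nat.gcd 4 (Fintype.card F ^ (k + 3) + 1) = 1 := by
      have hodd : Odd (Fintype.card F ^ (k + 3) + 1) := by
        apply Even.add_one
        exact Even.pow_of_ne_zero (Nat.even_iff.mpr heven) (by omega)
      have : Nat.Coprime (2 ^ 2) (Fintype.card F ^ (k + 3) + 1) :=
        Nat.Coprime.pow_left 2 (Nat.coprime_two_left.mpr hodd)
      exact this
    have hidx := index_omega_two h2 Q hQ (Or.inr (by rw [hcardι]; omega)) hw₀.2.2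
    have hneg : ∀ z : ↥(Cfsg.Omega F (⇑Q)),
        ((z : ↥(Cfsg.isometryGroup F (⇑Q))) :
          Matrix.GeneralLinearGroup ((Fin (k + 2) ⊕ Fin (k + 2)) ⊕ Fin 2) F).1 = -1 → z = 1 := by
      intro z hz
      apply Subtype.ext
      apply Subtype.ext
      apply Units.ext
      have hz' : ((z.1.1 : Matrix.GeneralLinearGroup ((Fin (k + 2) ⊕ Fin (k + 2)) ⊕ Fin 2) F) :
        Matrix ((Fin (k + 2) ⊕ Fin (k + 2)) ⊕ Fin 2) ((Fin (k + 2) ⊕ Fin (k + 2)) ⊕ Fin 2) F) = -1 := hz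
      rw [hz']
      have h11 : (-1 : F) = 1 := by linear_combination -h2
      ext i j
      show (-1 : Matrix _ _ F) i j = (1 : Matrix _ _ F) i j
      rw [Matrix.neg_apply]
      by_cases hij : i = j
      · rw [hij, Matrix.one_apply_eq, h11]
      · rw [Matrix.one_apply_ne hij, neg_zero]
    have hc := card_POmega_of_center_bot Q hnd (Q_eI a b k 0) (Q_fI a b k 0) hef star hw₀ hneg
    rw [hidx] at hmul
    rw [hcoe] at hc hmul
    rw [hgcd, one_mul, hc, hmul]
  · -- odd characteristic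
    have hidx := index_omega_odd h2 Q hQ (by rw [hcardι]; omega)
    rw [hidx] at hmul
    have hqodd : Fintype.card F % 2 = 1 := FiniteField.odd_card_of_char_ne_two (by
      intro hc
      apply h2
      have : ((2 : ℕ) : F) = 0 := by
        rw [← hc]; exact CharP.cast_eq_zero F (ringChar F)
      exact_mod_cast this)
    have hiff := Cfsg.Agent.Lib.Helper14_NegOne.exists_neg_one_mem_omega_iff h2 Q hQ
      (by rw [hcardι]; exact even_two_mul _)
    have hdet : (Matrix.of (fun i j : (Fin (k + 2) ⊕ Fin (k + 2)) ⊕ Fin 2 =>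
        QuadraticMap.polar (⇑Q) (Pi.single i 1) (Pi.single j 1))).det
        = (-1) ^ (k + 2) * (4 * b - a ^ 2) := by
      rw [hcoe]; exact det_gram_quadFormMinus a b
    rw [hdet, isSquare_disc_iff h2 a b hab (k + 2), ← four_dvd_iff _ (k + 2) hqodd] at hiff
    have hevenx : 2 ∣ Fintype.card F ^ (k + 3) + 1 := by
      have : Odd (Fintype.card F ^ (k + 3)) := Odd.pow (Nat.odd_iff.mpr hqodd)
      exact (this.add_one).two_dvd
    by_cases h4 : 4 ∣ Fintype.card F ^ (k + 2 + 1) + 1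
    · obtain ⟨g, hg, hgm⟩ := hiff.mpr h4
      have hc := card_POmega_of_neg_one_mem Q hnd (Q_eI a b k 0) (Q_fI a b k 0) hef star hw₀ h2
        ⟨g, hg⟩ hgm
      have hgcd : Nat.gcd 4 (Fintype.card F ^ (k + 3) + 1) = 4 := Nat.gcd_eq_left h4
      rw [hcoe] at hc hmul
      rw [hgcd, ← hmul, ← hc]
      ring
    · have hneg : ∀ z : ↥(Cfsg.Omega F (⇑Q)),
          ((z : ↥(Cfsg.isometryGroup F (⇑Q))) :
            Matrix.GeneralLinearGroup ((Fin (k + 2) ⊕ Fin (k + 2)) ⊕ Fin 2) F).1 = -1 → z = 1 := by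
        intro z hz
        exfalso
        apply h4
        apply hiff.mp
        exact ⟨z.1, z.2, hz⟩
      have hc := card_POmega_of_center_bot Q hnd (Q_eI a b k 0) (Q_fI a b k 0) hef star hw₀ hneg
      have hgcd : Nat.gcd 4 (Fintype.card F ^ (k + 3) + 1) = 2 := by
        have h1 : Nat.gcd 4 (Fintype.card F ^ (k + 3) + 1) ∣ 4 := Nat.gcd_dvd_left _ _
        have h3 : 2 ∣ Nat.gcd 4 (Fintype.card F ^ (k + 3) + 1) := Nat.dvd_gcd (by norm_num) hevenx
        have h5 : Nat.gcd 4 (Fintype.card F ^ (k + 3) + 1) ≠ 4 := by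
          intro h
          apply h4
          rw [← h]
          exact Nat.gcd_dvd_right _ _
        have h6 : Nat.gcd 4 (Fintype.card F ^ (k + 3) + 1) ≤ 4 := Nat.le_of_dvd (by norm_num) h1
        interval_cases hh : Nat.gcd 4 (Fintype.card F ^ (k + 3) + 1) <;> omega
      rw [hcoe] at hc hmul
      rw [hgcd, hc, ← hmul]
      ring

/-- gcd(4, q^m + 1) |PΩ^-_{2m}(q)| = q^(m(m-1)) (q^m + 1) prod_{i=1}^{m-1} (q^(2i) - 1), m at least 4 (type ²D_m). -/
theorem result {F : Type*} [Field F] [Fintype F] {q : ℕ} (hF : Fintype.card F = q) (m : ℕ) (hm : 4 ≤ m) (a b : F) (hab : ∀ z₁ z₂ : F, z₁ ^ 2 + a * z₁ * z₂ + b * z₂ ^ 2 = 0 → z₁ = 0 ∧ z₂ = 0) : Nat.gcd 4 (q ^ m + 1) * Nat.card (Cfsg.POmega F (Cfsg.quadFormMinus (m - 1) F a b)) = q ^ (m * (m - 1)) * (q ^ m + 1) * ∏ i ∈ Finset.range (m - 1), (q ^ (2 * (i + 1)) - 1) := by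
  obtain ⟨k, rfl⟩ : ∃ k, m = k + 3 := ⟨m - 3, by omega⟩
  subst hF
  have h1 := card_POmega_minus a b hab k
  have h2 := Cfsg.Agent.S0288.card_minus a b hab (k + 2)
  rw [h2] at h1
  have e1 : k + 3 - 1 = k + 2 := by omega
  rw [e1]
  have : (Nat.gcd 4 (Fintype.card F ^ (k + 3) + 1) *
      Nat.card (Cfsg.POmega F (Cfsg.quadFormMinus (k + 2) F a b))) * 2 =
      (Fintype.card F ^ ((k + 3) * (k + 2)) * (Fintype.card F ^ (k + 3) + 1) *
        ∏ i ∈ Finset.range (k + 2), (Fintype.card F ^ (2 * (i + 1)) - 1)) * 2 := by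
    rw [h1]
    have : k + 2 + 1 = k + 3 := by ring
    rw [this]
    ring
  exact Nat.eq_of_mul_eq_mul_right (by norm_num) this

end Cfsg.Agent.S0294
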