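import Mathlib
import Cfsg.Statements.S0298
import Cfsg.Agent.Lib.Helper5_OmegaCenter
import Cfsg.Agent.Lib.Helper5_OmegaIndex
import Cfsg.Agent.Lib.Helper5_AdjSL2
import Cfsg.Agent.Lib.Helper5_PSLCard
import Cfsg.Agent.Lib.Helper44_StdForms
import Cfsg.Agent.S0286
import Cfsg.Agent.S0294

set_option autoImplicit false
open Cfsg

namespace Cfsg.Agent.S0298

open Cfsg.Agent.Lib.Helper5_OmegaCenter Cfsg.Agent.Lib.Helper5_OmegaIndex
  Cfsg.Agent.Lib.Helper44_StdForms Cfsg.Agent.Lib.Helper44_OmegaOdd Cfsg.Agent.Lib.Helper5_AdjSL2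

section
variable {F : Type*} [Field F]

def e3 : I3 → F := Pi.single (Sum.inr (Sum.inl 0)) 1
def f3 : I3 → F := Pi.single (Sum.inr (Sum.inr 0)) 1
def s3 : I3 → F := Pi.single (Sum.inl ()) 1

lemma Q_e3 : qfOdd 1 F e3 = 0 := by
  rw [coe_qfOdd]; simp [Cfsg.quadFormOdd, e3]
lemma Q_f3 : qfOdd 1 F f3 = 0 := by
  rw [coe_qfOdd]; simp [Cfsg.quadFormOdd, f3]
lemma Q_s3 : qfOdd 1 F s3 = 1 := by
  rw [coe_qfOdd]; simp [Cfsg.quadFormOdd, s3]

lemma polar_e3 (x : I3 → F) : QuadraticMap.polar (⇑(qfOdd 1 F)) e3 x = x (Sum.inr (Sum.inr 0)) := by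
  rw [coe_qfOdd, polar_quadFormOdd]
  simp [e3]
lemma polar_f3 (x : I3 → F) : QuadraticMap.polar (⇑(qfOdd 1 F)) f3 x = x (Sum.inr (Sum.inl 0)) := by
  rw [coe_qfOdd, polar_quadFormOdd]
  simp [f3]
lemma polar_s3 (x : I3 → F) : QuadraticMap.polar (⇑(qfOdd 1 F)) x s3 = 2 * x (Sum.inl ()) := by
  rw [coe_qfOdd, polar_quadFormOdd]
  simp [s3]

lemma star3 (h2 : (2 : F) ≠ 0) : Star (qfOdd 1 F) e3 f3 := by
  intro x hxe hxf hx
  rw [polar_e3] at hxe
  rw [polar_f3] at hxf
  have hs : NS (qfOdd 1 F) e3 f3 s3 := by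
    refine ⟨?_, ?_, ?_⟩
    · rw [polar_e3]; simp [s3]
    · rw [polar_f3]; simp [s3]
    · rw [Q_s3]; exact one_ne_zero
  have h0 := hx s3 hs
  rw [polar_s3] at h0
  have h0' : x (Sum.inl ()) = 0 := by
    rcases mul_eq_zero.mp h0 with h | h
    · exact absurd h h2
    · exact h
  ext i
  rcases i with ⟨⟩ | i | i
  · exact h0'
  · have : i = 0 := Subsingleton.elim _ _
    subst this; exact hxf
  · have : i = 0 := Subsingleton.elim _ _
    subst this; exact hxe

end

/-- PΩ_3(q) is isomorphic to PSL_2(q) for q odd. -/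
theorem result {F : Type*} [Field F] [Fintype F] (hodd : Odd (Fintype.card F)) : Nonempty (Cfsg.POmega F (Cfsg.quadFormOdd 1 F) ≃* Matrix.ProjectiveSpecialLinearGroup (Fin 2) F) := by
  have h2 : (2 : F) ≠ 0 := Cfsg.Agent.S0286.two_ne_zero_of_odd hodd
  have hcardO := Cfsg.Agent.S0286.card_odd hodd 1
  rw [← coe_qfOdd 1 F] at hcardO ⊢
  set Q := qfOdd 1 F with hQdef
  have hnd := Cfsg.Agent.S0286.nondeg_qfOdd h2 1
  have hQ := Cfsg.Agent.S0294.nondegenerate_of_hnd Q hnd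
  -- the image of the adjoint representation is Ω
  have hle : (rho (F := F)).range ≤ Cfsg.Omega F (⇑Q) := by
    rintro _ ⟨g, rfl⟩
    exact rho_mem_omega h2 hQ g
  have hidx := index_omega_odd h2 Q hQ (by simp only [Fintype.card_sum, Fintype.card_unit, Fintype.card_fin]; omega)
  have hmul := Subgroup.card_mul_index (Cfsg.Omega F (⇑Q))
  rw [hidx, hcardO] at hmul
  have hSL := Cfsg.Agent.Lib.Helper5_PSLCard.card_SL_two (F := F)
  have hcen := Cfsg.Agent.Lib.Helper5_PSLCard.card_center_SL (F := F) 2 (by norm_num)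
  have hq2 : Fintype.card F % 2 = 1 := Nat.odd_iff.mp hodd
  have hgcd : Nat.gcd (Fintype.card F - 1) 2 = 2 := by
    apply Nat.gcd_eq_right
    have : 1 ≤ Fintype.card F := Fintype.card_pos
    omega
  rw [hgcd] at hcen
  have hker := Subgroup.card_eq_card_quotient_mul_card_subgroup (rho (F := F)).ker
  rw [Nat.card_congr (QuotientGroup.quotientKerEquivRange (rho (F := F))).toEquiv, ker_rho, hcen, hSL] at hker
  have hcard : Nat.card ↥(Cfsg.Omega F (⇑Q)) ≤ Nat.card ↥(rho (F := F)).range := by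
    simp only [one_pow, pow_one, Finset.range_one, Finset.prod_singleton, zero_add, mul_one] at hmul
    have : Nat.card ↥(Cfsg.Omega F (⇑Q)) * 4 = Nat.card ↥(rho (F := F)).range * 4 := by
      rw [hmul, mul_assoc 2, hker]
      ring
    omega
  have heq : (rho (F := F)).range = Cfsg.Omega F (⇑Q) := Subgroup.eq_of_le_of_card_ge hle hcard
  -- the centre of Ω is trivial
  have hneg : ∀ z : ↥(Cfsg.Omega F (⇑Q)),
      ((z : ↥(Cfsg.isometryGroup F (⇑Q))) : Matrix.GeneralLinearGroup I3 F).1 = -1 → z = 1 := by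
    intro z hz
    exfalso
    have hdet := ((mem_omega_iff_det_theta h2 Q hQ z.1).mp z.2).1
    have hz' : ((z.1.1 : Matrix.GeneralLinearGroup I3 F) : Matrix I3 I3 F) = -1 := hz
    rw [hz', Matrix.det_neg, Matrix.det_one, mul_one] at hdet
    simp only [Fintype.card_sum, Fintype.card_unit, Fintype.card_fin] at hdet
    norm_num at hdet
    apply h2
    linear_combination -hdet
  have hcenΩ : Subgroup.center ↥(Cfsg.Omega F (⇑Q)) = ⊥ :=
    center_omega_eq_bot Q hnd Q_e3 Q_f3 (by rw [polar_e3]; simp [f3]) (star3 h2)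
      (w₀ := s3) ⟨by rw [polar_e3]; simp [s3], by rw [polar_f3]; simp [s3], by rw [Q_s3]; exact one_ne_zero⟩ hneg
  exact ⟨(QuotientGroup.quotientMulEquivOfEq hcenΩ).trans
    ((QuotientGroup.quotientBot).trans
      ((MulEquiv.subgroupCongr heq).symm.trans
        ((QuotientGroup.quotientKerEquivRange (rho (F := F))).symm.trans
          (QuotientGroup.quotientMulEquivOfEq ker_rho))))⟩

end Cfsg.Agent.S0298
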