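import Cfsg.Statements.S0803
import Cfsg.Agent.Lib.Helper42_S4inPSL2
import Cfsg.Agent.Lib.Helper42_PSL2Klein3
import Cfsg.Agent.Lib.Helper5_PSLCard

set_option autoImplicit false
open Cfsg

namespace Cfsg.Agent.S0803

open Matrix Equiv Cfsg.Agent.Lib.Helper42_SL2Class Cfsg.Agent.Lib.Helper42_PSL2Klein in
/-- in characteristic two an element of `SL₂` of order dividing four has order dividing two -/
theorem sq_eq_one_of_pow_four {F : Type*} [Field F] (h2 : (2 : F) = 0)
    (u : SpecialLinearGroup (Fin 2) F) (h4 : u * u * (u * u) = 1) : u * u = 1 := by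
  have hU2 := Cfsg.Agent.Lib.Helper41_SL2.sl2_mul_self u
  have hneg : (-1 : F) = 1 := by linear_combination (-1 : F) * h2
  rw [hneg, one_smul] at hU2
  have hU4 : u.1 * u.1 * (u.1 * u.1) = 1 := congrArg Subtype.val h4
  have key : (Matrix.trace u.1 * Matrix.trace u.1) • (u.1 * u.1) = 0 := by
    have e1 : (1 + Matrix.trace u.1 • u.1) * (1 + Matrix.trace u.1 • u.1) =
        1 + (Matrix.trace u.1 + Matrix.trace u.1) • u.1 +
          (Matrix.trace u.1 * Matrix.trace u.1) • (u.1 * u.1) := by
      rw [Matrix.add_mul, Matrix.mul_add, Matrix.mul_add, Matrix.one_mul, Matrix.one_mul,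
        Matrix.mul_one, smul_mul_smul_comm, add_smul]
      abel
    rw [← hU2, hU4] at e1
    have htt : Matrix.trace u.1 + Matrix.trace u.1 = 0 := by
      linear_combination (Matrix.trace u.1) * h2
    rw [htt, zero_smul, add_zero] at e1
    have := congrArg (fun M => M - 1) e1
    simpa using this.symm
  have ht : Matrix.trace u.1 = 0 := by
    rcases smul_eq_zero.mp key with h | h
    · rcases mul_eq_zero.mp h with h | h <;> exact h
    · exfalso
      have hdet : (u.1 * u.1).det = 1 := by rw [Matrix.det_mul, u.2, one_mul]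
      rw [h] at hdet
      simp at hdet
  apply Subtype.ext
  change u.1 * u.1 = 1
  rw [hU2, ht, zero_smul, add_zero]

/-- PSL_2(q) has a subgroup isomorphic to S_4 iff q² ≡ 1 (mod 16). -/
theorem result {F : Type*} [Field F] [Fintype F] {q : ℕ} (hF : Fintype.card F = q) : (∃ H : Subgroup (Matrix.ProjectiveSpecialLinearGroup (Fin 2) F), Nonempty (H ≃* Equiv.Perm (Fin 4))) ↔ q ^ 2 % 16 = 1 := by
  classical
  constructor
  · rintro ⟨H, ⟨e⟩⟩
    by_cases heven : 2 ∣ q
    · -- characteristic two: no element of order four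
      exfalso
      have h2F : (2 : F) = 0 := by
        have hc : ringChar F = 2 := FiniteField.even_card_iff_char_two.mpr (by rw [hF]; omega)
        have : CharP F 2 := ringChar.of_eq hc
        exact CharTwo.two_eq_zero
      obtain ⟨c, hc⟩ : ∃ c : Equiv.Perm (Fin 4), c ^ 4 = 1 ∧ c ^ 2 ≠ 1 :=
        ⟨Equiv.swap 0 1 * Equiv.swap 1 2 * Equiv.swap 2 3, by decide, by decide⟩
      obtain ⟨h, hh⟩ : ∃ h : H, h = e.symm c := ⟨_, rfl⟩
      have hh4 : h ^ 4 = 1 := by rw [hh, ← map_pow, hc.1, map_one]
      have hh2 : h ^ 2 ≠ 1 := by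
        rw [hh, ← map_pow]
        intro h1
        exact hc.2 (e.symm.injective (h1.trans (map_one e.symm).symm))
      obtain ⟨u, hu⟩ := Cfsg.Agent.Lib.Helper42_SL2Class.proj_surjective (h : Matrix.ProjectiveSpecialLinearGroup (Fin 2) F)
      have h4' : (h : Matrix.ProjectiveSpecialLinearGroup (Fin 2) F) ^ 4 = 1 := by
        have := congrArg Subtype.val hh4
        simpa using this
      have h2' : (h : Matrix.ProjectiveSpecialLinearGroup (Fin 2) F) ^ 2 ≠ 1 := by
        intro h1
        apply hh2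
        apply Subtype.ext
        simpa using h1
      rw [← hu, ← map_pow] at h4' h2'
      have hone : Cfsg.Agent.Lib.Helper42_SL2Class.negS (1 : Matrix.SpecialLinearGroup (Fin 2) F) = 1 := by
        apply Subtype.ext
        rw [Cfsg.Agent.Lib.Helper42_SL2Class.negS_coe]
        have : (-1 : F) = 1 := by linear_combination (-1 : F) * h2F
        calc -(1 : Matrix.SpecialLinearGroup (Fin 2) F).1 = (-1 : F) • (1 : Matrix.SpecialLinearGroup (Fin 2) F).1 := (neg_one_smul _ _).symm
          _ = (1 : Matrix.SpecialLinearGroup (Fin 2) F).1 := by rw [this, one_smul]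
      have hu4 : u ^ 4 = 1 := by
        rw [← map_one Cfsg.Agent.Lib.Helper42_SL2Class.proj, Cfsg.Agent.Lib.Helper42_SL2Class.proj_eq_iff] at h4'
        rcases h4' with h | h
        · exact h.symm
        · have := congrArg Cfsg.Agent.Lib.Helper42_SL2Class.negS h
          rw [Cfsg.Agent.Lib.Helper42_PSL2Klein.negS_negS, hone] at this
          exact this.symm
      apply h2'
      have : u * u = 1 := sq_eq_one_of_pow_four h2F u (by
        have e4 : u * u * (u * u) = u ^ 4 := by
          rw [show (4 : ℕ) = 2 + 2 from rfl, pow_add, pow_two]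
        rw [e4, hu4])
      rw [pow_two, this, map_one]
    · -- odd order: count
      have h3 := Cfsg.Agent.Lib.Helper5_PSLCard.card_PSL_mul (F := F) 2 (by norm_num)
      have hg : Nat.gcd (Fintype.card F - 1) 2 = 2 := by
        rw [hF]
        have : q - 1 = 2 * ((q - 1) / 2) := by omega
        rw [this]
        simp
      rw [hg, Cfsg.Agent.Lib.Helper5_PSLCard.card_SL_two, hF] at h3
      have hH : Nat.card H = 24 := by
        rw [Nat.card_congr e.toEquiv, Nat.card_eq_fintype_card, Fintype.card_perm, Fintype.card_fin]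
        rfl
      have hdvd : 24 ∣ Nat.card (Matrix.ProjectiveSpecialLinearGroup (Fin 2) F) := by
        rw [← hH]
        exact Subgroup.card_subgroup_dvd_card H
      have h48 : 16 ∣ q * (q ^ 2 - 1) := by
        rw [← h3]
        obtain ⟨k, hk⟩ := hdvd
        rw [hk]
        exact ⟨3 * k, by ring⟩
      have hcop : Nat.Coprime 16 q := by
        have : Nat.Coprime 2 q := (Nat.Prime.coprime_iff_not_dvd Nat.prime_two).mpr heven
        exact Nat.Coprime.pow_left 4 this
      have h16 : 16 ∣ q ^ 2 - 1 := hcop.dvd_of_dvd_mul_left h48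
      obtain ⟨j, hj⟩ := h16
      have hq1 : 1 ≤ q ^ 2 := Nat.one_le_pow _ _ (by omega)
      omega
  · intro hq
    have hmod : q ^ 2 % 16 = (q % 16) ^ 2 % 16 := Nat.pow_mod q 2 16
    have hq8 : q % 8 = 1 ∨ q % 8 = 7 := by
      have hlt : q % 16 < 16 := Nat.mod_lt _ (by norm_num)
      have h8 : q % 8 = (q % 16) % 8 := by omega
      rw [hq] at hmod
      rw [h8]
      generalize q % 16 = r at hmod hlt
      interval_cases r <;> revert hmod <;> decide
    have h2F : (2 : F) ≠ 0 := by
      apply Ring.two_ne_zero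
      intro hc
      have := FiniteField.even_card_iff_char_two.mp hc
      rw [hF] at this
      omega
    have hsq : IsSquare (2 : F) := by
      rw [FiniteField.isSquare_two_iff, hF]
      omega
    obtain ⟨ρ, hρ⟩ := hsq
    have ha : Matrix.trace (Cfsg.Agent.Lib.Helper42_SL2Class.compS (0 : F)).1 = 0 :=
      Cfsg.Agent.Lib.Helper42_SL2Class.trace_compS 0
    obtain ⟨b, hb0⟩ := Cfsg.Agent.Lib.Helper42_PSL2Klein.exists_anti h2F _ ha
    have hab : Cfsg.Agent.Lib.Helper42_SL2Class.compS (0 : F) * b =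
        Cfsg.Agent.Lib.Helper42_SL2Class.negS (b * Cfsg.Agent.Lib.Helper42_SL2Class.compS (0 : F)) := by
      rw [Cfsg.Agent.Lib.Helper42_PSL2Klein.negS_eq_mul]; exact hb0
    obtain ⟨Φ, hΦ⟩ := Cfsg.Agent.Lib.Helper42_S4inPSL2.exists_S4_hom h2F ρ hρ.symm _ b ha hab
    exact ⟨Φ.range, ⟨(MonoidHom.ofInjective hΦ).symm⟩⟩

end Cfsg.Agent.S0803
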