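import Cfsg.Statements.S0804
import Cfsg.Agent.Lib.Helper41_SL2
import Cfsg.Agent.Lib.Helper41_SL2Triple
import Cfsg.Agent.Lib.Helper5_PSLCard
import Cfsg.Agent.S3377

set_option autoImplicit false
open Cfsg

namespace Cfsg.Agent.S0804

open Cfsg.Agent.Lib.Helper41_SL2Triple in
/-- An element of order `5` in `SL₂(F)` has trace `t` with `t⁴ - 3 t² + 1 = 0`. -/
theorem trace_of_orderOf_five {F : Type*} [Field F] (g : Matrix.SpecialLinearGroup (Fin 2) F)
    (hg : orderOf g = 5) :
    (Matrix.trace (g : Matrix (Fin 2) (Fin 2) F)) ^ 4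
      - 3 * (Matrix.trace (g : Matrix (Fin 2) (Fin 2) F)) ^ 2 + 1 = 0 := by
  by_contra hc
  set t := Matrix.trace (g : Matrix (Fin 2) (Fin 2) F) with ht
  set M := (g : Matrix (Fin 2) (Fin 2) F) with hM
  have h5 : M ^ 5 = 1 := by
    rw [hM, ← Matrix.SpecialLinearGroup.coe_pow, ← hg, pow_orderOf_eq_one]; rfl
  have h5' := pow_five_of_sq (mul_self_eq g)
  rw [← hM, ← ht, h5] at h5'
  -- M is scalar
  set c := t ^ 4 - 3 * t ^ 2 + 1 with hcdef
  have hMs : M = (c⁻¹ * (1 + (t ^ 3 - 2 * t))) • (1 : Matrix (Fin 2) (Fin 2) F) := by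
    have : c • M = (1 + (t ^ 3 - 2 * t)) • (1 : Matrix (Fin 2) (Fin 2) F) := by
      rw [eq_sub_iff_add_eq] at h5'
      rw [← h5', add_smul, one_smul]
    rw [mul_smul, ← this, smul_smul, inv_mul_cancel₀ hc, one_smul]
  set d := c⁻¹ * (1 + (t ^ 3 - 2 * t)) with hd
  have hdet : d ^ 2 = 1 := by
    have := g.2
    rw [← hM, hMs, Matrix.det_smul, Matrix.det_one, mul_one, Fintype.card_fin] at this
    exact this
  have hd5 : d ^ 5 = 1 := by
    have h := h5
    rw [hMs, smul_pow, one_pow] at h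
    have h00 := congrFun (congrFun h 0) 0
    simpa using h00
  have hd1 : d = 1 := by
    have : d ^ 5 = d * (d ^ 2) ^ 2 := by ring
    rw [this, hdet, one_pow, mul_one] at hd5
    exact hd5
  have hg1 : g = 1 := by
    apply Subtype.ext
    show M = 1
    rw [hMs, hd1, one_smul]
  rw [hg1, orderOf_one] at hg
  norm_num at hg

/-- PSL_2(q) has a subgroup isomorphic to A_5 iff 5 ∣ q(q² − 1). -/
theorem result {F : Type*} [Field F] [Fintype F] {q : ℕ} (hF : Fintype.card F = q) : (∃ H : Subgroup (Matrix.ProjectiveSpecialLinearGroup (Fin 2) F), Nonempty (H ≃* alternatingGroup (Fin 5))) ↔ 5 ∣ q * (q ^ 2 - 1) := by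
  classical
  subst hF
  have hcard := Cfsg.Agent.Lib.Helper5_PSLCard.card_SL_two (F := F)
  constructor
  · rintro ⟨H, ⟨e⟩⟩
    have h1 : Nat.card H = 60 := by
      rw [Nat.card_congr e.toEquiv, nat_card_alternatingGroup]
      simp [Nat.factorial]
    have h2 : Nat.card H ∣ Nat.card (Matrix.ProjectiveSpecialLinearGroup (Fin 2) F) :=
      Subgroup.card_subgroup_dvd_card H
    have h3 := Cfsg.Agent.Lib.Helper5_PSLCard.card_PSL_mul (F := F) 2 (by norm_num)
    rw [hcard] at h3
    rw [← h3]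
    rw [h1] at h2
    exact dvd_trans (dvd_trans (by norm_num : 5 ∣ 60) h2) (dvd_mul_right _ _)
  · intro h5
    have : Fact (Nat.Prime 5) := ⟨by norm_num⟩
    rw [← hcard] at h5
    obtain ⟨g, hg⟩ := exists_prime_orderOf_dvd_card' 5 h5
    have hτ := trace_of_orderOf_five g hg
    set τ := Matrix.trace (g : Matrix (Fin 2) (Fin 2) F) with hτdef
    obtain ⟨U, V, hU, hV, hUV⟩ := Cfsg.Agent.Lib.Helper41_SL2Triple.exists_pair τ (-1) (by
      intro h2 hτ1
      rw [hτ1] at hτ
      have : (-1 : F) = 0 := by linear_combination hτ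
      exact one_ne_zero (neg_eq_zero.mp this))
    set g₀ : Matrix.ProjectiveSpecialLinearGroup (Fin 2) F := QuotientGroup.mk (U * V⁻¹) with hg₀
    set g₁ : Matrix.ProjectiveSpecialLinearGroup (Fin 2) F := QuotientGroup.mk V with hg₁
    have h01 : g₀ * g₁ = QuotientGroup.mk U := by
      rw [hg₀, hg₁, ← QuotientGroup.mk_mul, inv_mul_cancel_right]
    have r0 : g₀ ^ 3 = 1 := by
      apply Cfsg.Agent.Lib.Helper41_SL2Triple.mk_pow_three_of_trace
      rw [Cfsg.Agent.Lib.Helper41_SL2Triple.trace_mul_inv, hU, hV, hUV]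
      ring
    have r1 : g₁ ^ 5 = 1 := by
      apply Cfsg.Agent.Lib.Helper41_SL2Triple.mk_pow_five_of_trace
      rw [hV]; exact hτ
    have r2 : (g₀ * g₁) ^ 2 = 1 := by
      rw [h01]
      exact Cfsg.Agent.Lib.Helper41_SL2Triple.mk_pow_two_of_trace U hU
    obtain ⟨e⟩ := Cfsg.Agent.S3377.result
    let f : Fin 2 → Matrix.ProjectiveSpecialLinearGroup (Fin 2) F := ![g₀, g₁]
    have hrel : ∀ r ∈ ({FreeGroup.of (0 : Fin 2) ^ 3, FreeGroup.of (1 : Fin 2) ^ 5,
        (FreeGroup.of (0 : Fin 2) * FreeGroup.of 1) ^ 2} : Set (FreeGroup (Fin 2))),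
        FreeGroup.lift f r = 1 := by
      intro r hr
      simp only [Set.mem_insert_iff, Set.mem_singleton_iff] at hr
      rcases hr with rfl | rfl | rfl
      · rw [map_pow, FreeGroup.lift_apply_of]; exact r0
      · rw [map_pow, FreeGroup.lift_apply_of]; exact r1
      · rw [map_pow, map_mul, FreeGroup.lift_apply_of, FreeGroup.lift_apply_of]; exact r2
    let ψ := PresentedGroup.toGroup hrel
    let φ : alternatingGroup (Fin 5) →* Matrix.ProjectiveSpecialLinearGroup (Fin 2) F :=
      ψ.comp e.symm.toMonoidHom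
    have hg1ne : g₁ ≠ 1 := by
      intro h1
      rw [hg₁, QuotientGroup.eq_one_iff] at h1
      obtain ⟨c, _, hc⟩ := Cfsg.Agent.Lib.Helper41_SL2.scalar_of_mem_center V h1
      have : Matrix.trace ((U * V : Matrix.SpecialLinearGroup (Fin 2) F) : Matrix (Fin 2) (Fin 2) F) = 0 := by
        rw [Matrix.SpecialLinearGroup.coe_mul, hc, Matrix.mul_smul, mul_one, Matrix.trace_smul, hU,
          smul_zero]
      rw [hUV] at this
      exact one_ne_zero (neg_eq_zero.mp this)
    have hinj : Function.Injective φ := by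
      rw [← MonoidHom.ker_eq_bot_iff]
      have : IsSimpleGroup (alternatingGroup (Fin 5)) := alternatingGroup.isSimpleGroup (by simp)
      rcases (MonoidHom.normal_ker φ).eq_bot_or_eq_top with h | h
      · exact h
      · exfalso
        apply hg1ne
        have hx : e (PresentedGroup.of (1 : Fin 2)) ∈ φ.ker := by rw [h]; trivial
        rw [MonoidHom.mem_ker] at hx
        have : φ (e (PresentedGroup.of (1 : Fin 2))) = g₁ := by
          show ψ (e.symm (e (PresentedGroup.of (1 : Fin 2)))) = g₁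
          rw [MulEquiv.symm_apply_apply]
          show PresentedGroup.toGroup hrel (PresentedGroup.of (1 : Fin 2)) = g₁
          rw [PresentedGroup.toGroup.of]
          rfl
        rw [← this, hx]
    exact ⟨φ.range, ⟨(MonoidHom.ofInjective hinj).symm⟩⟩

end Cfsg.Agent.S0804
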