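import Cfsg.Statements.S4504
import Cfsg.Agent.Lib.Helper57_ModDefs
import Cfsg.Agent.Lib.Helper57_S4504_MT
import Cfsg.Agent.Lib.Helper24_S4504_LOC
import Cfsg.Agent.Lib.Helper55_S4504_RED
import Cfsg.Agent.Lib.Helper87_S4504_K1
import Cfsg.Agent.Lib.Helper55_S4504_A9
import Cfsg.Agent.Lib.Helper3_S4504_A3
import Cfsg.Agent.Lib.Helper3_S4504_A4
import Cfsg.Agent.Lib.Helper84_S4504_A7
import Cfsg.Agent.Lib.Helper57_S4504_A1
import Cfsg.Agent.Lib.Helper57_S4504_A8

set_option autoImplicit false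
open Cfsg

namespace Cfsg.Agent.S4504

open Cfsg.Agent.Lib.Helper57_ModDefs

/-- Let G be a finite group whose order is divisible by the prime p exactly once and which has no normal subgroup of order p. If G has a faithful character of degree exactly (p − 1)/2, then G modulo its centre is isomorphic to PSL(2, p). -/
theorem result {G : Type*} [Group G] [Finite G] (p : ℕ) (hp : p.Prime) (hdiv : p ∣ Nat.card G) (hsq : ¬ p ^ 2 ∣ Nat.card G) (hnn : ∀ H : Subgroup G, H.Normal → Nat.card H ≠ p) (χ : G → ℂ) (hχ : Cfsg.IsCharacter G χ) (hfaith : ∀ g : G, χ g = χ 1 → g = 1) (hdeg : 2 * Cfsg.charDegree χ + 1 = p) : Nonempty ((G ⧸ Subgroup.center G) ≃* Matrix.ProjectiveSpecialLinearGroup (Fin 2) (ZMod p)) := by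
  classical
  haveI : Fact p.Prime := ⟨hp⟩
  have hp5 : 5 ≤ p := Cfsg.Agent.Lib.Helper57_S4504_A1.five_le p hp hdiv hsq hnn χ hχ hfaith hdeg
  obtain ⟨x, hx⟩ := exists_prime_orderOf_dvd_card' p hdiv
  have hPn : ¬ (Subgroup.zpowers x).Normal := fun hn => hnn _ hn (by rw [Nat.card_zpowers, hx])
  obtain ⟨h, V₀, f, hloc, -⟩ := Cfsg.Agent.Lib.Helper24_S4504_LOC.exists_localData p x hx hsq
  have hK : ∀ K : Subgroup G, K.Normal → (Nat.card K).Coprime p → ∀ g ∈ K, g * x = x * g :=
    fun K hKn hcop => Cfsg.Agent.Lib.Helper3_S4504_A3.normal_p'_centralizes p hp5 χ hχ hfaith hdeg x hx hsq K hKn hcop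
  have hχ' := hχ
  obtain ⟨n, ρ, hρ⟩ := hχ
  have hχ1 : χ 1 = (n : ℂ) := by
    rw [← hρ, Representation.char_one, Module.finrank_pi, Fintype.card_fin]
  have hn : Cfsg.charDegree χ = n := by
    unfold Cfsg.charDegree
    rw [hχ1]
    simp
  have hρfaith : ∀ g : G, ρ g = 1 → g = 1 := by
    intro g hg
    apply hfaith
    rw [← hρ]
    show LinearMap.trace ℂ _ (ρ g) = LinearMap.trace ℂ _ (ρ 1)
    rw [hg, ρ.map_one]
  have hfaith' : ∀ g : G, ρ.character g = ρ.character 1 → g = 1 := by
    rw [hρ]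
    exact hfaith
  obtain ⟨k, _, _, _, σ, hσ⟩ := Cfsg.Agent.Lib.Helper55_S4504_RED.exists_mod_rep p n ρ hfaith'
  have hσx : σ x ≠ 1 := by
    intro h1
    set Kσ : Subgroup G := MonoidHom.ker (σ : G →* Module.End k (Fin n → k)) with hKσ
    have hpg : IsPGroup p Kσ := by
      intro g
      obtain ⟨m, hm⟩ := hσ (g : G) (MonoidHom.mem_ker.mp g.2)
      refine ⟨m, ?_⟩
      have : (g : G) ^ p ^ m = 1 := by rw [← hm, pow_orderOf_eq_one]
      exact Subtype.ext (by simpa using this)
    obtain ⟨m, hm⟩ := IsPGroup.iff_card.mp hpg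
    have hxK : x ∈ Kσ := MonoidHom.mem_ker.mpr h1
    have hm1 : m = 1 := by
      have h2 : p ^ m ∣ Nat.card G := by
        rw [← hm]
        exact Subgroup.card_subgroup_dvd_card Kσ
      have hle : m ≤ 1 := by
        by_contra hlt
        exact hsq ((pow_dvd_pow p (by omega : 2 ≤ m)).trans h2)
      have hne : m ≠ 0 := by
        intro h0
        rw [h0, pow_zero] at hm
        have hbot : Kσ = ⊥ := Subgroup.card_eq_one.mp hm
        rw [hbot, Subgroup.mem_bot] at hxK
        rw [hxK, orderOf_one] at hx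
        exact hp.one_lt.ne hx
      omega
    rw [hm1, pow_one] at hm
    exact hnn Kσ inferInstance hm
  have hdim : 2 * Module.finrank k (Fin n → k) + 1 ≤ p := by
    rw [Module.finrank_pi, Fintype.card_fin]
    omega
  obtain ⟨hVn, φ, hφ, hker⟩ :=
    Cfsg.Agent.Lib.Helper57_S4504_MT.modular_main (p := p) hp5 σ x h V₀ f hloc hPn hK hdim hσx
  have hfle : 2 * (Subgroup.centralizer ((Subgroup.zpowers x : Subgroup G) : Set G)).relIndex
      (Subgroup.normalizer ((Subgroup.zpowers x : Subgroup G) : Set G)) ≤ p - 1 := by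
    have := Cfsg.Agent.Lib.Helper3_S4504_A4.relIndex_le p n ρ hρfaith x hx
    omega
  obtain ⟨hmul, hidx⟩ := Cfsg.Agent.Lib.Helper84_S4504_A7.eq_mul p hp5 x h V₀ f hloc hVn hPn φ hφ hker hfle
  -- `G₀` centralizes `V₀`
  have hcentV : ∀ g ∈ Subgroup.normalClosure ({x} : Set G), ∀ v ∈ V₀, g * v = v * g := by
    have hle : Subgroup.normalClosure ({x} : Set G) ≤ Subgroup.centralizer (V₀ : Set G) := by
      haveI := hVn
      apply Subgroup.normalClosure_le_normal
      rw [Set.singleton_subset_iff]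
      intro v hv
      exact hloc.commV v hv
    intro g hg v hv
    exact ((Subgroup.mem_centralizer_iff.mp (hle hg)) v hv).symm
  have hcent : V₀ ≤ Subgroup.center G :=
    Cfsg.Agent.Lib.Helper57_S4504_A8.V₀_central p n ρ hρfaith (by omega) x hx V₀
      (Subgroup.normalizer ((Subgroup.zpowers x : Subgroup G) : Set G) ⊓
        Subgroup.normalClosure ({x} : Set G)) hloc.commV inf_le_left
      (fun g hg v hv => hcentV g hg.2 v hv) hidx
  have hxc : x ∉ Subgroup.center G := by
    intro hxc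
    apply hPn
    have hle : Subgroup.zpowers x ≤ Subgroup.center G := by
      rw [Subgroup.zpowers_le]
      exact hxc
    constructor
    intro a ha b
    have hac : a ∈ Subgroup.center G := hle ha
    have : b * a * b⁻¹ = a := by
      rw [(Subgroup.mem_center_iff.mp hac b), mul_inv_cancel_right]
    rw [this]
    exact ha
  have hcenter : Subgroup.center G = V₀ :=
    le_antisymm (Cfsg.Agent.Lib.Helper87_S4504_K1.normal_le_V₀ x h V₀ f hloc hK (Subgroup.center G) inferInstance hxc) hcent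
  exact Cfsg.Agent.Lib.Helper55_S4504_A9.final_iso p x V₀ hcenter φ hφ hker hmul

end Cfsg.Agent.S4504
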