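import Mathlib
import Cfsg.Statements.S0998
import Cfsg.Agent.S0253
import Cfsg.Agent.Lib.Helper53_BT_Main

set_option autoImplicit false
open Cfsg

namespace Cfsg.Agent.S0998

/-- the conclusion from `A₅` or `PSL(2,7)` -/
theorem concl {G : Type*} [Group G]
    (h : Nonempty (G ≃* alternatingGroup (Fin 5)) ∨
      Nonempty (G ≃* Matrix.ProjectiveSpecialLinearGroup (Fin 2) (ZMod 7))) :
    (∃ (F : Type) (_ : Field F) (_ : Fintype F), Fintype.card F = 5 ∧
      Nonempty (G ≃* Matrix.ProjectiveSpecialLinearGroup (Fin 2) F)) ∨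
    (∃ (F : Type) (_ : Field F) (_ : Fintype F), Fintype.card F = 7 ∧
      Nonempty (G ≃* Matrix.ProjectiveSpecialLinearGroup (Fin 2) F)) := by
  rcases h with ⟨⟨f⟩⟩ | ⟨⟨f⟩⟩
  · left
    have : Fact (Nat.Prime 5) := ⟨by norm_num⟩
    obtain ⟨g⟩ := Cfsg.Agent.S0253.result (F := ZMod 5) (ZMod.card 5)
    exact ⟨ZMod 5, inferInstance, inferInstance, ZMod.card 5, ⟨f.trans g.symm⟩⟩
  · right
    have : Fact (Nat.Prime 7) := ⟨by norm_num⟩
    exact ⟨ZMod 7, inferInstance, inferInstance, ZMod.card 7, ⟨f⟩⟩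

/-- A non-cyclic finite simple group whose order has the form p * r * q^b for distinct primes p, q, r is isomorphic to the projective special linear group of dimension 2 over the field with 5 or with 7 elements. -/
theorem result {G : Type*} [Group G] [Finite G] [IsSimpleGroup G] (hG : ¬ IsCyclic G) (p q r b : ℕ) (hp : p.Prime) (hq : q.Prime) (hr : r.Prime) (hpq : p ≠ q) (hpr : p ≠ r) (hqr : q ≠ r) (hG' : Nat.card G = p * r * q ^ b) : (∃ (F : Type) (_ : Field F) (_ : Fintype F), Fintype.card F = 5 ∧ Nonempty (G ≃* Matrix.ProjectiveSpecialLinearGroup (Fin 2) F)) ∨ (∃ (F : Type) (_ : Field F) (_ : Fintype F), Fintype.card F = 7 ∧ Nonempty (G ≃* Matrix.ProjectiveSpecialLinearGroup (Fin 2) F)) := by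
  apply concl
  rcases lt_or_gt_of_ne hpr with h | h
  · exact Cfsg.Agent.Lib.Helper53_BT_Main.main_of_lt hG r q p b hr hq hp (Ne.symm hqr)
      (Ne.symm hpr) (Ne.symm hpq) (by rw [hG']; ring) h
  · exact Cfsg.Agent.Lib.Helper53_BT_Main.main_of_lt hG p q r b hp hq hr hpq hpr hqr hG' h

end Cfsg.Agent.S0998
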