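import Mathlib
import Cfsg.Statements.S3669
import Cfsg.Agent.S0494
import Cfsg.Agent.S3378
import Cfsg.Agent.Lib.Helper1_Hall
import Cfsg.Agent.Lib.Helper3_Ito
import Cfsg.Agent.Lib.Helper3_CharColumn
import Cfsg.Agent.Lib.Helper77_BlockBasics
import Cfsg.Agent.Lib.Helper80_CharBasic

set_option autoImplicit false
open Cfsg

namespace Cfsg.Agent.S3669

/-! ### Part A: `A₅` has an irreducible character of degree divisible by 5 -/

set_option maxRecDepth 1000000 in
theorem a5_classes : ∀ g : Equiv.Perm (Fin 5), Equiv.Perm.sign g = 1 →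
    ∃ c : Equiv.Perm (Fin 5), Equiv.Perm.sign c = 1 ∧
      (c * 1 * c⁻¹ = g ∨ c * (Equiv.swap 0 1 * Equiv.swap 2 3) * c⁻¹ = g ∨
       c * (Equiv.swap 0 1 * Equiv.swap 1 2) * c⁻¹ = g ∨
       c * (Equiv.swap 0 1 * Equiv.swap 1 2 * Equiv.swap 2 3 * Equiv.swap 3 4) * c⁻¹ = g ∨
       c * (Equiv.swap 0 1 * Equiv.swap 1 2 * Equiv.swap 2 3 * Equiv.swap 3 4) ^ 2 * c⁻¹ = g) := by
  decide

/-- representatives of the classes of `A₅` -/
def rep : Fin 5 → alternatingGroup (Fin 5) :=
  ![⟨1, Equiv.Perm.mem_alternatingGroup.mpr (by decide)⟩,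
    ⟨Equiv.swap 0 1 * Equiv.swap 2 3, Equiv.Perm.mem_alternatingGroup.mpr (by decide)⟩,
    ⟨Equiv.swap 0 1 * Equiv.swap 1 2, Equiv.Perm.mem_alternatingGroup.mpr (by decide)⟩,
    ⟨Equiv.swap 0 1 * Equiv.swap 1 2 * Equiv.swap 2 3 * Equiv.swap 3 4,
      Equiv.Perm.mem_alternatingGroup.mpr (by decide)⟩,
    ⟨(Equiv.swap 0 1 * Equiv.swap 1 2 * Equiv.swap 2 3 * Equiv.swap 3 4) ^ 2,
      Equiv.Perm.mem_alternatingGroup.mpr (by decide)⟩]

theorem card_conjClasses_le : Nat.card (ConjClasses (alternatingGroup (Fin 5))) ≤ 5 := by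
  have hsurj : Function.Surjective (fun i : Fin 5 => ConjClasses.mk (rep i)) := by
    intro C
    obtain ⟨g, rfl⟩ := ConjClasses.mk_surjective C
    obtain ⟨g', hg'⟩ := g
    obtain ⟨c, hc, h⟩ := a5_classes g' (Equiv.Perm.mem_alternatingGroup.mp hg')
    have hcA : c ∈ alternatingGroup (Fin 5) := Equiv.Perm.mem_alternatingGroup.mpr hc
    have key : ∀ i : Fin 5, c * (rep i : Equiv.Perm (Fin 5)) * c⁻¹ = g' →
        ConjClasses.mk (rep i) = ConjClasses.mk (⟨g', hg'⟩ : alternatingGroup (Fin 5)) := by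
      intro i hi
      rw [ConjClasses.mk_eq_mk_iff_isConj, isConj_iff]
      exact ⟨⟨c, hcA⟩, Subtype.ext (by simpa using hi)⟩
    rcases h with h | h | h | h | h
    · exact ⟨0, key 0 h⟩
    · exact ⟨1, key 1 h⟩
    · exact ⟨2, key 2 h⟩
    · exact ⟨3, key 3 h⟩
    · exact ⟨4, key 4 h⟩
  have := Nat.card_le_card_of_surjective _ hsurj
  simpa using this

theorem card_a5 : Nat.card (alternatingGroup (Fin 5)) = 60 := by
  have h2 := two_mul_card_alternatingGroup (α := Fin 5)
  rw [Fintype.card_perm, Fintype.card_fin] at h2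
  rw [Nat.card_eq_fintype_card]
  have : Nat.factorial 5 = 120 := by decide
  omega

theorem exists_degree_five :
    ∃ χ : IrrCharacter (alternatingGroup (Fin 5)), 5 ∣ charDegree (χ : alternatingGroup (Fin 5) → ℂ) := by
  classical
  by_contra hcon
  push Not at hcon
  have hd : ∀ χ : IrrCharacter (alternatingGroup (Fin 5)),
      (χ : alternatingGroup (Fin 5) → ℂ) 1 = (charDegree (χ : alternatingGroup (Fin 5) → ℂ) : ℂ) ∧
      0 < charDegree (χ : alternatingGroup (Fin 5) → ℂ) ∧
      charDegree (χ : alternatingGroup (Fin 5) → ℂ) ∣ 60 := by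
    intro χ
    obtain ⟨n, hpos, h1, h2, h3⟩ := Cfsg.Agent.Lib.Helper77_BlockBasics.exists_degree χ
    rw [h2]
    rw [card_a5] at h3
    exact ⟨h1, hpos, h3⟩
  have hsumN : ∑ χ : IrrCharacter (alternatingGroup (Fin 5)),
      (charDegree (χ : alternatingGroup (Fin 5) → ℂ)) ^ 2 = 60 := by
    have := Cfsg.Agent.Lib.Helper3_CharColumn.sum_sq_irr_one (G := alternatingGroup (Fin 5))
    rw [card_a5] at this
    have h2 : ∑ χ : IrrCharacter (alternatingGroup (Fin 5)),
        ((charDegree (χ : alternatingGroup (Fin 5) → ℂ) : ℂ)) ^ 2 = ((60 : ℕ) : ℂ) := by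
      rw [← this]
      refine Finset.sum_congr rfl fun χ _ => ?_
      rw [(hd χ).1]
    exact_mod_cast h2
  have hcardIrr : Fintype.card (IrrCharacter (alternatingGroup (Fin 5))) ≤ 5 := by
    rw [← Nat.card_eq_fintype_card,
      Cfsg.Agent.Lib.Helper3_CharColumn.card_irr_eq_card_conjClasses]
    exact card_conjClasses_le
  -- all degrees lie in {1,2,3,4,6}
  have hmem : ∀ χ : IrrCharacter (alternatingGroup (Fin 5)),
      charDegree (χ : alternatingGroup (Fin 5) → ℂ) ∈ ({1, 2, 3, 4, 6} : Finset ℕ) := by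
    intro χ
    obtain ⟨-, hpos, hdvd⟩ := hd χ
    have h5 := hcon χ
    have hle : (charDegree (χ : alternatingGroup (Fin 5) → ℂ)) ^ 2 ≤ 60 := by
      rw [← hsumN]
      exact Finset.single_le_sum (f := fun χ : IrrCharacter (alternatingGroup (Fin 5)) =>
        (charDegree (χ : alternatingGroup (Fin 5) → ℂ)) ^ 2) (fun _ _ => Nat.zero_le _)
        (Finset.mem_univ χ)
    generalize charDegree (χ : alternatingGroup (Fin 5) → ℂ) = d at *
    have hd7 : d ≤ 7 := by nlinarith
    interval_cases d <;> simp_all <;> omega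
  -- the trivial character
  let χ₀ : IrrCharacter (alternatingGroup (Fin 5)) :=
    ⟨fun _ => 1, Cfsg.Agent.Lib.Helper80_CharBasic.isIrrCharacter_one _⟩
  have hχ₀ : charDegree (χ₀ : alternatingGroup (Fin 5) → ℂ) = 1 := by
    have h1 := (hd χ₀).1
    have : ((1 : ℕ) : ℂ) = (charDegree (χ₀ : alternatingGroup (Fin 5) → ℂ) : ℂ) := by
      rw [← h1]; simp [χ₀]
    exact_mod_cast this.symm
  -- fibre counting
  set t : Finset ℕ := {1, 2, 3, 4, 6} with ht
  set n : ℕ → ℕ := fun v => (Finset.univ.filter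
    (fun χ : IrrCharacter (alternatingGroup (Fin 5)) =>
      charDegree (χ : alternatingGroup (Fin 5) → ℂ) = v)).card with hn
  have hcardsum : Fintype.card (IrrCharacter (alternatingGroup (Fin 5))) = ∑ v ∈ t, n v := by
    rw [← Finset.card_univ]
    exact Finset.card_eq_sum_card_fiberwise (fun χ _ => hmem χ)
  have hsqsum : ∑ v ∈ t, n v * v ^ 2 = 60 := by
    rw [← hsumN, ← Finset.sum_fiberwise_of_maps_to (g := fun χ : IrrCharacter (alternatingGroup (Fin 5)) =>
      charDegree (χ : alternatingGroup (Fin 5) → ℂ)) (t := t) (fun χ _ => hmem χ)]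
    refine Finset.sum_congr rfl fun v _ => ?_
    rw [Finset.sum_congr rfl (g := fun _ => v ^ 2)]
    · rw [Finset.sum_const, smul_eq_mul]
    · intro χ hχ
      rw [(Finset.mem_filter.mp hχ).2]
  have hn1 : 1 ≤ n 1 := by
    rw [hn]
    apply Finset.card_pos.mpr
    exact ⟨χ₀, Finset.mem_filter.mpr ⟨Finset.mem_univ _, hχ₀⟩⟩
  rw [ht] at hcardsum hsqsum
  rw [Finset.sum_insert (by decide), Finset.sum_insert (by decide), Finset.sum_insert (by decide),
    Finset.sum_insert (by decide), Finset.sum_singleton] at hcardsum hsqsum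
  norm_num at hsqsum
  obtain ⟨a, ha⟩ : ∃ a, a = n 6 := ⟨_, rfl⟩
  obtain ⟨b, hb⟩ : ∃ b, b = n 4 := ⟨_, rfl⟩
  obtain ⟨c, hc⟩ : ∃ c, c = n 3 := ⟨_, rfl⟩
  rw [← ha, ← hb, ← hc] at hcardsum hsqsum
  have ha1 : a ≤ 1 := by omega
  have hb3 : b ≤ 3 := by omega
  have hc5 : c ≤ 5 := by omega
  interval_cases a <;> interval_cases b <;> interval_cases c <;> omega

/-! ### Part B: solvable groups of order 60 have a normal Sylow 5-subgroup -/

theorem le_normalizer_of_conj_mem {G : Type*} [Group G] {I K : Subgroup G}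
    (h : ∀ s ∈ I, ∀ x ∈ K, s * x * s⁻¹ ∈ K) : I ≤ Subgroup.normalizer (K : Set G) := by
  intro s hs
  rw [Subgroup.mem_normalizer_iff]
  intro x
  constructor
  · exact fun hx => h s hs x hx
  · intro hx
    have := h s⁻¹ (I.inv_mem hs) _ hx
    have e : s⁻¹ * (s * x * s⁻¹) * s⁻¹⁻¹ = x := by group
    rwa [e] at this

/-- In a group of order `5 m`, `m < 6`, a subgroup of order 5 is normal. -/
theorem normal_of_card {H : Type*} [Group H] [Finite H] (m : ℕ) (hH : Nat.card H = 5 * m)
    (hm : m < 6) (hm5 : ¬ 5 ∣ m) (P : Subgroup H) (hP : Nat.card P = 5) : P.Normal := by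
  have : Fact (Nat.Prime 5) := ⟨Nat.prime_five⟩
  have hm0 : m ≠ 0 := by
    rintro rfl
    exact hm5 (dvd_zero 5)
  have hfac : (Nat.card H).factorization 5 = 1 := by
    rw [hH, Nat.factorization_mul (by norm_num) hm0]
    simp [Nat.Prime.factorization_self Nat.prime_five,
      Nat.factorization_eq_zero_of_not_dvd hm5]
  let Q : Sylow 5 H := Sylow.ofCard P (by rw [hP, hfac, pow_one])
  have hQ : (Q : Subgroup H) = P := Sylow.coe_ofCard _ _
  have hidx : (Q : Subgroup H).index = m := by
    have := Subgroup.card_mul_index (Q : Subgroup H)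
    rw [hQ, hP, hH] at this
    rw [hQ]
    omega
  have h1 : Nat.card (Sylow 5 H) ≡ 1 [MOD 5] := card_sylow_modEq_one 5 H
  have h2 : Nat.card (Sylow 5 H) ∣ m := by
    rw [← hidx]
    exact Sylow.card_dvd_index Q
  have h3 : Nat.card (Sylow 5 H) = 1 := by
    have hle : Nat.card (Sylow 5 H) ≤ m := Nat.le_of_dvd (Nat.pos_of_ne_zero hm0) h2
    have hmod : Nat.card (Sylow 5 H) % 5 = 1 := h1
    omega
  have h4 : (Subgroup.normalizer ((Q : Subgroup H) : Set H)).index = 1 := by
    have h5 := Sylow.card_eq_index_normalizer Q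
    rw [h3] at h5
    exact h5.symm
  rw [Subgroup.index_eq_one] at h4
  rw [← hQ]
  exact Subgroup.normalizer_eq_top_iff.mp h4

theorem le_normalizer_of_card {G : Type*} [Group G] [Finite G] (H P : Subgroup G) (hPH : P ≤ H)
    (hP : Nat.card P = 5) (m : ℕ) (hH : Nat.card H = 5 * m) (hm : m < 6) (hm5 : ¬ 5 ∣ m) :
    H ≤ Subgroup.normalizer (P : Set G) := by
  have hcard : Nat.card (P.subgroupOf H) = 5 := by
    rw [Nat.card_congr (Subgroup.subgroupOfEquivOfLe hPH).toEquiv, hP]
  have hn : (P.subgroupOf H).Normal := normal_of_card m hH hm hm5 _ hcard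
  apply le_normalizer_of_conj_mem
  intro s hs x hx
  have hx' : (⟨x, hPH hx⟩ : H) ∈ P.subgroupOf H := by
    rw [Subgroup.mem_subgroupOf]; exact hx
  have := hn.conj_mem _ hx' ⟨s, hs⟩
  rw [Subgroup.mem_subgroupOf] at this
  simpa using this

theorem normal_of_solvable {G : Type*} [Group G] [Finite G] [Group.IsSolvable G]
    (h60 : Nat.card G = 60) (P : Subgroup G) (hP : Nat.card P = 5) : P.Normal := by
  obtain ⟨H₁, h1, hP1⟩ := Cfsg.Agent.Lib.Helper1_Hall.hall_dominance 20 3 (by rw [h60])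
    (by norm_num) P (by rw [hP]; norm_num)
  obtain ⟨H₂, h2, hP2⟩ := Cfsg.Agent.Lib.Helper1_Hall.hall_dominance 15 4 (by rw [h60])
    (by norm_num) P (by rw [hP]; norm_num)
  have hN1 : H₁ ≤ Subgroup.normalizer (P : Set G) :=
    le_normalizer_of_card H₁ P hP1 hP 4 (by rw [h1]) (by norm_num) (by norm_num)
  have hN2 : H₂ ≤ Subgroup.normalizer (P : Set G) :=
    le_normalizer_of_card H₂ P hP2 hP 3 (by rw [h2]) (by norm_num) (by norm_num)
  have hd1 : 20 ∣ Nat.card (Subgroup.normalizer (P : Set G)) := by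
    rw [← h1]; exact Subgroup.card_dvd_of_le hN1
  have hd2 : 15 ∣ Nat.card (Subgroup.normalizer (P : Set G)) := by
    rw [← h2]; exact Subgroup.card_dvd_of_le hN2
  have hd3 : Nat.card (Subgroup.normalizer (P : Set G)) ∣ 60 := by
    rw [← h60]; exact Subgroup.card_subgroup_dvd_card _
  have hcardN : Nat.card (Subgroup.normalizer (P : Set G)) = Nat.card G := by
    rw [h60]
    have hpos : 0 < Nat.card (Subgroup.normalizer (P : Set G)) := Nat.card_pos
    have hle : Nat.card (Subgroup.normalizer (P : Set G)) ≤ 60 := Nat.le_of_dvd (by norm_num) hd3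
    omega
  have htop : Subgroup.normalizer (P : Set G) = ⊤ := Subgroup.card_eq_iff_eq_top _ |>.mp hcardN
  exact Subgroup.normalizer_eq_top_iff.mp htop

/-- Itô for the degree of an irreducible character. -/
theorem charDegree_dvd_index {G : Type*} [Group G] [Finite G] (χ : IrrCharacter G)
    (A : Subgroup G) [A.Normal] (hab : ∀ a ∈ A, ∀ b ∈ A, a * b = b * a) :
    charDegree (χ : G → ℂ) ∣ A.index := by
  obtain ⟨n, ρ, hirr, hρ⟩ := χ.2
  have h1 := @Cfsg.Agent.Lib.Helper3_Ito.ito G (Fin n → ℂ) _ _ _ _ _ ρ hirr A _ hab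
  rw [Module.finrank_fin_fun] at h1
  have h2 : charDegree (χ : G → ℂ) = n := by
    unfold charDegree
    rw [← hρ, Representation.char_one]
    simp
  rw [h2]
  exact h1

/-- The character degree graph of a finite group has as vertices the primes dividing some irreducible complex character degree, two distinct primes being joined when their product divides some irreducible character degree; two groups have the same character degree graph when they have the same vertices and the same joined pairs. A finite group of order 60 with the same character degree graph as the alternating group A₅ (whose character degrees are 1, 3, 4, 5, so the graph has vertices 2, 3, 5 and no edges) is isomorphic to A₅. -/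
theorem result {G : Type*} [Group G] [Finite G] (hcard : Nat.card G = 60)
    (hΓ : Cfsg.degreePrimes G = Cfsg.degreePrimes (alternatingGroup (Fin 5)) ∧ Cfsg.degreeGraph G = Cfsg.degreeGraph (alternatingGroup (Fin 5))) : Nonempty (G ≃* alternatingGroup (Fin 5)) := by
  have : Fact (Nat.Prime 5) := ⟨Nat.prime_five⟩
  obtain ⟨χA, hχA⟩ := exists_degree_five
  have h5A : 5 ∈ Cfsg.degreePrimes (alternatingGroup (Fin 5)) :=
    ⟨Nat.prime_five, _, ⟨χA, rfl⟩, hχA⟩
  rw [← hΓ.1] at h5A
  obtain ⟨-, d, ⟨χ, rfl⟩, hdvd⟩ := h5A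
  by_cases hs : Group.IsSolvable G
  · exfalso
    obtain ⟨P⟩ : Nonempty (Sylow 5 G) := inferInstance
    have hfac : (Nat.card G).factorization 5 = 1 := by
      rw [hcard, show (60 : ℕ) = 5 * 12 by norm_num, Nat.factorization_mul (by norm_num) (by norm_num)]
      simp [Nat.Prime.factorization_self Nat.prime_five,
        Nat.factorization_eq_zero_of_not_dvd (show ¬ 5 ∣ 12 by norm_num)]
    have hP : Nat.card (P : Subgroup G) = 5 := by
      rw [Sylow.card_eq_multiplicity, hfac, pow_one]
    have hn : (P : Subgroup G).Normal := normal_of_solvable hcard _ hP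
    have hcyc : IsCyclic (P : Subgroup G) := isCyclic_of_prime_card hP
    have hab : ∀ a ∈ (P : Subgroup G), ∀ b ∈ (P : Subgroup G), a * b = b * a := by
      intro a ha b hb
      have hcomm := hcyc.isMulCommutative
      have := hcomm.is_comm.comm (⟨a, ha⟩ : (P : Subgroup G)) ⟨b, hb⟩
      exact congrArg Subtype.val this
    have h1 := charDegree_dvd_index χ (P : Subgroup G) hab
    have hidx : (P : Subgroup G).index = 12 := by
      have := Subgroup.card_mul_index (P : Subgroup G)
      rw [hP, hcard] at this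
      omega
    rw [hidx] at h1
    have : 5 ∣ 12 := dvd_trans hdvd h1
    omega
  · have hsimp : IsSimpleGroup G := Cfsg.Agent.S3378.simple_of_nonsolvable_60 hcard hs
    exact Cfsg.Agent.S0494.result hcard

end Cfsg.Agent.S3669
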