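import Cfsg.Statements.S4343

set_option autoImplicit false
open Cfsg
open scoped Pointwise

namespace Cfsg.Agent.S4343

section
variable {G : Type*} [Group G] [Finite G] (p : ℕ) [Fact p.Prime]

/-- For `a ∈ A` (a Sylow subgroup), `a • B = B` iff `a ∈ B`. -/
theorem smul_eq_iff_mem (A B : Sylow p G) (a : G) (ha : a ∈ A) :
    a • B = B ↔ a ∈ B := by
  rw [Sylow.smul_eq_iff_mem_normalizer]
  constructor
  · intro h
    have : a ∈ (A : Subgroup G) ⊓ Subgroup.normalizer (B : Set G) := ⟨ha, h⟩
    rw [IsPGroup.inf_normalizer_sylow A.2 B] at this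
    exact this.2
  · intro h
    exact Subgroup.le_normalizer h

/-- Orbits of a Sylow subgroup on the other Sylow subgroups have exactly `p` elements, when there
are fewer than `p ^ 2` Sylow subgroups. -/
theorem card_orbit_eq (hn : Nat.card (Sylow p G) < p ^ 2) (A B : Sylow p G) (hAB : A ≠ B) :
    Nat.card (MulAction.orbit (A : Subgroup G) B) = p := by
  obtain ⟨n, hn'⟩ := A.2.card_orbit B
  have hle : Nat.card (MulAction.orbit (A : Subgroup G) B) ≤ Nat.card (Sylow p G) :=
    Nat.card_le_card_of_injective _ Subtype.val_injective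
  have hp : p.Prime := Fact.out
  have h2 : n < 2 := by
    have : p ^ n < p ^ 2 := by rw [← hn']; exact lt_of_le_of_lt hle hn
    exact (Nat.pow_lt_pow_iff_right hp.one_lt).mp this
  have h0 : n ≠ 0 := by
    rintro rfl
    rw [pow_zero] at hn'
    apply hAB
    have : Fintype (MulAction.orbit (A : Subgroup G) B) := Fintype.ofFinite _
    have hfix : B ∈ MulAction.fixedPoints (A : Subgroup G) (Sylow p G) := by
      rw [MulAction.mem_fixedPoints_iff_card_orbit_eq_one, ← Nat.card_eq_fintype_card, hn']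
    rw [IsPGroup.sylow_mem_fixedPoints_iff A.2] at hfix
    exact Sylow.ext (A.3 B.2 hfix).symm
  have : n = 1 := by omega
  rw [hn', this, pow_one]

theorem stabilizer_eq (A B : Sylow p G) :
    MulAction.stabilizer (A : Subgroup G) B = (B : Subgroup G).subgroupOf A := by
  ext ⟨a, ha⟩
  rw [MulAction.mem_stabilizer_iff, Subgroup.mem_subgroupOf]
  exact smul_eq_iff_mem p A B a ha

theorem relIndex_eq (hn : Nat.card (Sylow p G) < p ^ 2) (A B : Sylow p G) (hAB : A ≠ B) :
    (B : Subgroup G).relIndex A = p := by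
  unfold Subgroup.relIndex
  rw [← stabilizer_eq, MulAction.index_stabilizer, ← Nat.card_coe_set_eq]
  exact card_orbit_eq p hn A B hAB

/-- `card (A ⊓ B) * p = card A` for distinct Sylow subgroups. -/
theorem card_inf_mul (hn : Nat.card (Sylow p G) < p ^ 2) (A B : Sylow p G) (hAB : A ≠ B) :
    Nat.card ((A : Subgroup G) ⊓ B : Subgroup G) * p = Nat.card A := by
  have h1 := relIndex_eq p hn A B hAB
  rw [← Subgroup.inf_relIndex_left] at h1
  have := Subgroup.relIndex_mul_relIndex ⊥ ((A : Subgroup G) ⊓ B) A bot_le inf_le_left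
  rw [Subgroup.relIndex_bot_left, Subgroup.relIndex_bot_left, h1] at this
  exact this

theorem card_sylow_eq (A B : Sylow p G) : Nat.card A = Nat.card B := by
  rw [Sylow.card_eq_multiplicity, Sylow.card_eq_multiplicity]

/-- (F3) containment between pairwise intersections forces equality. -/
theorem inf_eq_of_le (hn : Nat.card (Sylow p G) < p ^ 2) (A B C D : Sylow p G) (hAB : A ≠ B)
    (hCD : C ≠ D) (hle : (A : Subgroup G) ⊓ B ≤ (C : Subgroup G) ⊓ D) :
    (A : Subgroup G) ⊓ B = (C : Subgroup G) ⊓ D := by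
  apply Subgroup.eq_of_le_of_card_ge hle
  have h1 := card_inf_mul p hn A B hAB
  have h2 := card_inf_mul p hn C D hCD
  rw [card_sylow_eq p C A, ← h1] at h2
  have hp : 0 < p := (Fact.out : p.Prime).pos
  exact (Nat.eq_of_mul_eq_mul_right hp h2).le

theorem subgroupOf_normal (hn : Nat.card (Sylow p G) < p ^ 2) (A B : Sylow p G) (hAB : A ≠ B) :
    ((B : Subgroup G).subgroupOf A).Normal := by
  apply Subgroup.normal_of_index_eq_minFac_card
  have h1 : ((B : Subgroup G).subgroupOf A).index = p := relIndex_eq p hn A B hAB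
  rw [h1]
  obtain ⟨k, hk⟩ := IsPGroup.iff_card.mp A.2
  have hk0 : k ≠ 0 := by
    rintro rfl
    have h2 := card_inf_mul p hn A B hAB
    rw [hk, pow_zero] at h2
    have hp : p.Prime := Fact.out
    have : p = 1 := Nat.eq_one_of_mul_eq_one_left h2
    exact hp.one_lt.ne' this
  rw [hk, Nat.Prime.pow_minFac Fact.out hk0]

/-- conjugating `A ⊓ B` by an element of `A` stays inside `B`. -/
theorem conj_mem (hn : Nat.card (Sylow p G) < p ^ 2) (A B : Sylow p G) (hAB : A ≠ B)
    (a g : G) (ha : a ∈ A) (hgA : g ∈ A) (hgB : g ∈ B) : a * g * a⁻¹ ∈ B := by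
  have hN := subgroupOf_normal p hn A B hAB
  have := hN.conj_mem ⟨g, hgA⟩ (by rw [Subgroup.mem_subgroupOf]; exact hgB) ⟨a, ha⟩
  rw [Subgroup.mem_subgroupOf] at this
  exact this

theorem mem_smul_iff (B : Sylow p G) (a g : G) : g ∈ a • B ↔ a⁻¹ * g * a ∈ B := by
  have : g ∈ a • B ↔ g ∈ MulAut.conj a • (B : Subgroup G) := Iff.rfl
  rw [this, Subgroup.mem_pointwise_smul_iff_inv_smul_mem]
  simp [MulAut.smul_def]
  exact Iff.rfl

/-- `A ⊓ a • B = A ⊓ B` for `a ∈ A`. -/
theorem inf_smul_eq (hn : Nat.card (Sylow p G) < p ^ 2) (A B : Sylow p G) (hAB : A ≠ B)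
    (a : G) (ha : a ∈ A) :
    (A : Subgroup G) ⊓ (a • B : Sylow p G) = (A : Subgroup G) ⊓ B := by
  ext g
  simp only [Subgroup.mem_inf]
  constructor
  · rintro ⟨hgA, hgB⟩
    refine ⟨hgA, ?_⟩
    have hgB' : a⁻¹ * g * a ∈ B := (mem_smul_iff p B a g).mp hgB
    have hgA' : a⁻¹ * g * a ∈ A :=
      Subgroup.mul_mem _ (Subgroup.mul_mem _ (Subgroup.inv_mem _ ha) hgA) ha
    have := conj_mem p hn A B hAB a _ ha hgA' hgB'
    have e : a * (a⁻¹ * g * a) * a⁻¹ = g := by group
    rw [e] at this
    exact this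
  · rintro ⟨hgA, hgB⟩
    refine ⟨hgA, ?_⟩
    apply (mem_smul_iff p B a g).mpr
    have := conj_mem p hn A B hAB a⁻¹ g (Subgroup.inv_mem _ ha) hgA hgB
    simpa using this

theorem card_filter_mem {α : Type*} [Fintype α] [DecidableEq α] (T : Set α)
    [DecidablePred (· ∈ T)] :
    (Finset.univ.filter (fun x => x ∈ T)).card = Nat.card T := by
  rw [Nat.card_eq_fintype_card, Fintype.card_subtype]

/-- Main claim: the intersection of two distinct Sylow subgroups lies in every Sylow subgroup. -/
theorem inf_le_sylow (hn : Nat.card (Sylow p G) < p ^ 2) (P Q R : Sylow p G) (hPQ : P ≠ Q) :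
    (P : Subgroup G) ⊓ Q ≤ R := by
  by_contra hD
  classical
  have : Fintype (Sylow p G) := Fintype.ofFinite _
  set L := MulAction.orbit (P : Subgroup G) Q with hL
  have h5a : ∀ S ∈ L, (P : Subgroup G) ⊓ S = (P : Subgroup G) ⊓ Q := by
    rintro S ⟨⟨x, hx⟩, rfl⟩
    exact inf_smul_eq p hn P Q hPQ x hx
  have hSP : ∀ S ∈ L, P ≠ S := by
    intro S hS h
    have h1 := h5a S hS
    rw [← h, inf_idem] at h1
    have h2 := card_inf_mul p hn P Q hPQ
    rw [← h1] at h2
    have hp : p.Prime := Fact.out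
    have hpos : 0 < Nat.card (P : Subgroup G) := Nat.card_pos
    have : Nat.card (P : Subgroup G) * p = Nat.card (P : Subgroup G) * 1 := by rw [mul_one]; exact h2
    have := Nat.eq_of_mul_eq_mul_left hpos this
    exact hp.one_lt.ne' this
  have hSR : ∀ S ∈ L, R ≠ S := by
    intro S hS h
    apply hD
    rw [← h5a S hS, ← h]
    exact inf_le_right
  have h5b : ∀ S ∈ L, ∀ S' ∈ L, S ≠ S' →
      (S : Subgroup G) ⊓ S' = (P : Subgroup G) ⊓ Q := by
    intro S hS S' hS' hne
    symm
    apply inf_eq_of_le p hn P Q S S' hPQ hne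
    apply le_inf
    · rw [← h5a S hS]; exact inf_le_right
    · rw [← h5a S' hS']; exact inf_le_right
  have h5c : ∀ S ∈ L, ∀ S' ∈ L, S ≠ S' →
      Disjoint (MulAction.orbit (R : Subgroup G) S) (MulAction.orbit (R : Subgroup G) S') := by
    intro S hS S' hS' hne
    rw [Set.disjoint_left]
    rintro T ⟨⟨r, hr⟩, rfl⟩ ⟨⟨r', hr'⟩, hT⟩
    have hT' : (r' • S' : Sylow p G) = (r • S : Sylow p G) := hT
    have e1 : (R : Subgroup G) ⊓ (r • S : Sylow p G) = (R : Subgroup G) ⊓ S :=
      inf_smul_eq p hn R S (hSR S hS) r hr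
    have e2 : (R : Subgroup G) ⊓ (r' • S' : Sylow p G) = (R : Subgroup G) ⊓ S' :=
      inf_smul_eq p hn R S' (hSR S' hS') r' hr'
    have e3 : (R : Subgroup G) ⊓ S = (R : Subgroup G) ⊓ S' := by rw [← e1, ← e2, hT']
    have e4 : (R : Subgroup G) ⊓ S ≤ (S : Subgroup G) ⊓ S' :=
      le_inf inf_le_right (e3 ▸ inf_le_right)
    have e5 := inf_eq_of_le p hn R S S S' (hSR S hS) hne e4
    apply hD
    rw [← h5b S hS S' hS' hne, ← e5]
    exact inf_le_left
  -- counting
  let s : Finset (Sylow p G) := Finset.univ.filter (fun S => S ∈ L)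
  let t : Sylow p G → Finset (Sylow p G) := fun S =>
    Finset.univ.filter (fun T => T ∈ MulAction.orbit (R : Subgroup G) S)
  have hs : s.card = p := by
    rw [card_filter_mem]
    exact card_orbit_eq p hn P Q hPQ
  have ht : ∀ S ∈ s, (t S).card = p := by
    intro S hS
    have hS' : S ∈ L := (Finset.mem_filter.mp hS).2
    show (Finset.univ.filter (fun T => T ∈ MulAction.orbit (R : Subgroup G) S)).card = p
    rw [card_filter_mem]
    exact card_orbit_eq p hn R S (hSR S hS')
  have hdisj : ∀ S ∈ s, ∀ S' ∈ s, S ≠ S' → Disjoint (t S) (t S') := by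
    intro S hS S' hS' hne
    have h1 : S ∈ L := (Finset.mem_filter.mp hS).2
    have h2 : S' ∈ L := (Finset.mem_filter.mp hS').2
    have := h5c S h1 S' h2 hne
    rw [Finset.disjoint_left]
    intro T hT hT'
    exact (Set.disjoint_left.mp this) (Finset.mem_filter.mp hT).2 (Finset.mem_filter.mp hT').2
  have hcard : (s.biUnion t).card = p * p := by
    rw [Finset.card_biUnion hdisj, Finset.sum_congr rfl ht, Finset.sum_const, hs, smul_eq_mul]
  have hle : (s.biUnion t).card ≤ Fintype.card (Sylow p G) := Finset.card_le_univ _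
  rw [hcard, ← Nat.card_eq_fintype_card] at hle
  have : p * p < p ^ 2 := lt_of_le_of_lt hle hn
  rw [sq] at this
  exact lt_irrefl _ this

end

theorem result {S : Type*} [Group S] [Finite S]
    [IsSimpleGroup S] (hS : ¬ IsMulCommutative S) (p : ℕ) [Fact p.Prime] (hp : p ∣ Nat.card S)
    (hn : Nat.card (Sylow p S) < p ^ 2) (P : Sylow p S) : Nat.card P = p := by
  have hprime : p.Prime := Fact.out
  -- P ≠ ⊤
  have hPtop : (P : Subgroup S) ≠ ⊤ := by
    intro htop
    apply hS
    have hpg : IsPGroup p S := by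
      have := P.2
      rw [htop] at this
      exact this.of_equiv Subgroup.topEquiv
    have hnt : Nontrivial (Subgroup.center S) := by
      have : Nontrivial S := IsSimpleGroup.toNontrivial
      exact hpg.center_nontrivial
    have hc : Subgroup.center S = ⊤ := by
      rcases (Subgroup.center S).normal_of_characteristic.eq_bot_or_eq_top with h | h
      · exfalso
        rw [h] at hnt
        exact not_nontrivial _ hnt
      · exact h
    constructor
    constructor
    intro a b
    have : a ∈ Subgroup.center S := by rw [hc]; trivial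
    exact (Subgroup.mem_center_iff.mp this b).symm
  -- there is another Sylow subgroup
  have hex : ∃ Q : Sylow p S, P ≠ Q := by
    by_contra hall
    push Not at hall
    have : Subsingleton (Sylow p S) := ⟨fun A B => (hall A).symm.trans (hall B)⟩
    have hnorm : (P : Subgroup S).Normal := Sylow.normal_of_subsingleton P
    rcases hnorm.eq_bot_or_eq_top with h | h
    · exact P.ne_bot_of_dvd_card hp h
    · exact hPtop h
  obtain ⟨Q, hPQ⟩ := hex
  -- D = P ⊓ Q ≤ normalCore P = ⊥
  have hD : (P : Subgroup S) ⊓ Q ≤ (P : Subgroup S).normalCore := by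
    intro d hd b
    have h1 : d ∈ (b⁻¹ • P : Sylow p S) := inf_le_sylow p hn P Q (b⁻¹ • P) hPQ hd
    rw [mem_smul_iff] at h1
    have h2 : b⁻¹⁻¹ * d * b⁻¹ ∈ (P : Subgroup S) := h1
    simpa using h2
  have hcore : (P : Subgroup S).normalCore = ⊥ := by
    rcases (Subgroup.normalCore_normal (P : Subgroup S)).eq_bot_or_eq_top with h | h
    · exact h
    · exfalso
      apply hPtop
      exact top_le_iff.mp (h ▸ Subgroup.normalCore_le _)
  rw [hcore, le_bot_iff] at hD
  have := card_inf_mul p hn P Q hPQ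
  rw [hD, Subgroup.card_bot, one_mul] at this
  exact this.symm

end Cfsg.Agent.S4343
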