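import Cfsg.Statements.S1019
import Mathlib

set_option autoImplicit false
open Cfsg

namespace Cfsg.Agent.S1019

open Subgroup

/-- If all fibres of `f` over a subset `T` have the same size `c`, the preimage of `T` has
`c * |T|` elements. -/
theorem card_preimage_eq_mul {A B : Type*} [Finite A] [Finite B] (f : A → B) (c : ℕ) (T : Set B)
    (hf : ∀ b ∈ T, Nat.card {a : A // f a = b} = c) :
    Nat.card {a : A // f a ∈ T} = c * Nat.card T := by
  classical
  have e : {a : A // f a ∈ T} ≃ Σ b : T, {a : A // f a = b} :=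
    { toFun := fun a => ⟨⟨f a.1, a.2⟩, ⟨a.1, rfl⟩⟩
      invFun := fun x => ⟨x.2.1, by rw [x.2.2]; exact x.1.2⟩
      left_inv := fun a => rfl
      right_inv := by
        rintro ⟨⟨b, hb⟩, ⟨a, ha⟩⟩
        change f a = b at ha
        subst ha
        rfl }
  have : Fintype T := Fintype.ofFinite T
  rw [Nat.card_congr e, Nat.card_sigma]
  have : ∀ b : T, Nat.card {a : A // f a = b} = c := fun b => hf b b.2
  simp only [this]
  rw [Finset.sum_const, Finset.card_univ, Nat.card_eq_fintype_card, smul_eq_mul, mul_comm]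

/-- The fibres of `g ↦ g⁻¹ x g` over conjugates of `x` are in bijection with the centralizer. -/
theorem card_fiber_conj {G : Type*} [Group G] (x y : G) (h : IsConj x y) :
    Nat.card {g : G // g⁻¹ * x * g = y} = Nat.card (centralizer ({x} : Set G)) := by
  obtain ⟨g₀, hg₀⟩ := isConj_iff.mp h
  -- g₀ * x * g₀⁻¹ = y
  apply Nat.card_congr
  refine
    { toFun := fun g => ⟨g.1 * g₀, ?_⟩
      invFun := fun c => ⟨c.1 * g₀⁻¹, ?_⟩
      left_inv := fun g => by apply Subtype.ext; simp
      right_inv := fun c => by apply Subtype.ext; simp }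
  · rw [Subgroup.mem_centralizer_iff]
    intro z hz
    rw [Set.mem_singleton_iff] at hz
    subst hz
    have h1 : g.1⁻¹ * z * g.1 = g₀ * z * g₀⁻¹ := g.2.trans hg₀.symm
    -- g⁻¹ z g = g₀ z g₀⁻¹
    have h2 : g.1 * (g₀ * z * g₀⁻¹) * g.1⁻¹ = z := by rw [← h1]; group
    calc z * (g.1 * g₀) = g.1 * (g₀ * z * g₀⁻¹) * g.1⁻¹ * (g.1 * g₀) := by rw [h2]
      _ = g.1 * g₀ * z := by group
  · have hc := (Subgroup.mem_centralizer_iff.mp c.2) x (Set.mem_singleton x)
    -- x * c = c * x
    rw [← hg₀]
    calc (c.1 * g₀⁻¹)⁻¹ * x * (c.1 * g₀⁻¹) = g₀ * c.1⁻¹ * (x * c.1) * g₀⁻¹ := by group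
      _ = g₀ * c.1⁻¹ * (c.1 * x) * g₀⁻¹ := by rw [hc]
      _ = g₀ * x * g₀⁻¹ := by group

theorem isConj_inv_mul_mul {G : Type*} [Group G] (x g : G) : IsConj x (g⁻¹ * x * g) := by
  rw [isConj_iff]
  exact ⟨g⁻¹, by group⟩

/-- Let H be a subgroup of a finite group G and x an element of H. In the action of G on the left cosets of H, the number of cosets fixed by x, multiplied by the size of the conjugacy class of x, equals the index of H multiplied by the number of conjugates of x that lie in H. -/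
theorem result {G : Type*} [Group G] [Finite G] (H : Subgroup G) (x : G) (hx : x ∈ H) : Nat.card (MulAction.fixedBy (G ⧸ H) x) * Nat.card {g : G // IsConj x g} = H.index * Nat.card {g : G // IsConj x g ∧ g ∈ H} := by
  classical
  set c := Nat.card (centralizer ({x} : Set G)) with hc
  -- (1)
  have h1 : Nat.card {g : G // g⁻¹ * x * g ∈ {y : G | IsConj x y ∧ y ∈ H}} =
      c * Nat.card {y : G | IsConj x y ∧ y ∈ H} :=
    card_preimage_eq_mul (fun g : G => g⁻¹ * x * g) c _ (fun y hy => card_fiber_conj x y hy.1)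
  -- (2)
  have h2 : Nat.card {g : G // g⁻¹ * x * g ∈ {y : G | IsConj x y}} =
      c * Nat.card {y : G | IsConj x y} :=
    card_preimage_eq_mul (fun g : G => g⁻¹ * x * g) c _ (fun y hy => card_fiber_conj x y hy)
  have h2' : Nat.card {g : G // g⁻¹ * x * g ∈ {y : G | IsConj x y}} = Nat.card G := by
    apply Nat.card_congr
    exact
      { toFun := fun g => g.1
        invFun := fun g => ⟨g, isConj_inv_mul_mul x g⟩
        left_inv := fun g => rfl
        right_inv := fun g => rfl }
  -- (3)
  have h3 : Nat.card {g : G // g⁻¹ * x * g ∈ {y : G | IsConj x y ∧ y ∈ H}} =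
      Nat.card H * Nat.card (MulAction.fixedBy (G ⧸ H) x) := by
    rw [← Nat.card_prod, ← Nat.card_congr (QuotientGroup.preimageMkEquivSubgroupProdSet H
      (MulAction.fixedBy (G ⧸ H) x))]
    apply Nat.card_congr
    apply Equiv.subtypeEquivRight
    intro g
    simp only [Set.mem_ofPred_eq, Set.mem_preimage, MulAction.mem_fixedBy]
    rw [MulAction.Quotient.smul_mk, smul_eq_mul, QuotientGroup.eq]
    constructor
    · intro h
      have : (x * g)⁻¹ * g = (g⁻¹ * x * g)⁻¹ := by group
      rw [this]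
      exact H.inv_mem h.2
    · intro h
      refine ⟨isConj_inv_mul_mul x g, ?_⟩
      have : g⁻¹ * x * g = ((x * g)⁻¹ * g)⁻¹ := by group
      rw [this]
      exact H.inv_mem h
  have h4 := Subgroup.card_mul_index H
  have hHpos : 0 < Nat.card H := Nat.card_pos
  have e5 : Nat.card {y : G | IsConj x y ∧ y ∈ H} = Nat.card {g : G // IsConj x g ∧ g ∈ H} := rfl
  have e6 : Nat.card {y : G | IsConj x y} = Nat.card {g : G // IsConj x g} := rfl
  rw [e5] at h1
  rw [e6] at h2
  apply Nat.eq_of_mul_eq_mul_left hHpos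
  calc Nat.card H * (Nat.card (MulAction.fixedBy (G ⧸ H) x) * Nat.card {g : G // IsConj x g})
      = (Nat.card H * Nat.card (MulAction.fixedBy (G ⧸ H) x)) * Nat.card {g : G // IsConj x g} := by ring
    _ = (c * Nat.card {g : G // IsConj x g ∧ g ∈ H}) * Nat.card {g : G // IsConj x g} := by
        rw [← h3, h1]
    _ = (c * Nat.card {g : G // IsConj x g}) * Nat.card {g : G // IsConj x g ∧ g ∈ H} := by ring
    _ = Nat.card G * Nat.card {g : G // IsConj x g ∧ g ∈ H} := by rw [← h2, h2']
    _ = Nat.card H * (H.index * Nat.card {g : G // IsConj x g ∧ g ∈ H}) := by rw [← h4]; ring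

end Cfsg.Agent.S1019
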