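import Cfsg.Statements.S0976
import Cfsg.Agent.Lib.Helper25_INV_Common
import Cfsg.Agent.Lib.Helper25_INV_E2

set_option autoImplicit false
open Cfsg

namespace Cfsg.Agent.S0976

open Cfsg.Agent.Lib.Helper25_INV_Common

set_option synthInstance.maxSize 2000 in
set_option synthInstance.maxHeartbeats 200000 in
/-- the only possible degree is `8`, with sign `+1` -/
theorem arith_deg_aux : ∀ a < 7, ∀ b < 3, ∀ e < 2, 2 ≤ 2 ^ a * 3 ^ b * 7 ^ e →
    (((2 ^ a * 3 ^ b * 7 ^ e) % 7 = 1 ∧ (2 ^ a * 3 ^ b * 7 ^ e + 1) ∣ 4032) ∨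
      ((2 ^ a * 3 ^ b * 7 ^ e) % 7 = 6 ∧ (2 ^ a * 3 ^ b * 7 ^ e - 1) ∣ 4032)) →
    (2 ^ a * 3 ^ b * 7 ^ e = 8 ∧ (2 ^ a * 3 ^ b * 7 ^ e) % 7 = 1) := by
  decide

theorem arith_deg (d : ℕ) (hd : d ∣ 4032) (h2 : 2 ≤ d)
    (h : (d % 7 = 1 ∧ (d + 1) ∣ 4032) ∨ (d % 7 = 6 ∧ (d - 1) ∣ 4032)) : d = 8 ∧ d % 7 = 1 := by
  have h4032 : 4032 = 2 ^ 6 * 3 ^ 2 * 7 ^ 1 := by norm_num
  rw [h4032] at hd
  obtain ⟨a, ha, b, hb, e, he, rfl⟩ :=
    exists_of_dvd Nat.prime_two Nat.prime_three (by norm_num : Nat.Prime 7) 6 2 1 d hd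
  exact arith_deg_aux a (by omega) b (by omega) e (by omega) h2 h

/-- `c ^ 2 = 32 * j ^ 2` has no solution with `c > 0`, `j ≤ 8` -/
theorem arith_sq : ∀ j < 9, ∀ c < 47, 0 < c → c ^ 2 ≠ 32 * j ^ 2 := by
  decide +kernel

/-- No finite simple group has order 4032 = 2^6 * 3^2 * 7. -/
theorem result {G : Type*} [Group G] [Finite G] [IsSimpleGroup G] : Nat.card G ≠ 4032 := by
  intro h
  have h7 : Fact (Nat.Prime 7) := ⟨by norm_num⟩
  have hG : Nat.card G = 7 * 3 ^ 2 * 2 ^ 6 := by rw [h]; norm_num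
  have hm : ¬ 7 ∣ 3 ^ 2 * 2 ^ 6 := by norm_num
  obtain ⟨P⟩ : Nonempty (Sylow 7 G) := inferInstance
  obtain ⟨hP, hC⟩ := sylow_self_centralizing 7 2 6 hG hm P
  obtain ⟨k, hk, hN, hprod, hmod⟩ := normalizer_data P hP hC
  rw [h] at hprod
  have hk2 : k = 2 := by
    have hk6 : k ∣ 6 := hk
    have hkle : k ≤ 6 := Nat.le_of_dvd (by norm_num) hk6
    interval_cases k <;> omega
  rw [hk2] at hN
  have hN' : Nat.card (Subgroup.normalizer ((P : Subgroup G) : Set G)) = 2 * 7 := by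
    rw [hN]
  have hperf : commutator G = ⊤ := perfect_of_not_prime (by rw [h]; norm_num)
  obtain ⟨χ, η, t, j, hη, hd2, hcong, hdvd, hdvd', ht, hjd, heq, -⟩ :=
    Cfsg.Agent.Lib.Helper25_INV_E2.E2 (p := 7) (by norm_num) P hP hC hN' hperf
  set d := Cfsg.charDegree (χ : G → ℂ) with hd
  set c := Nat.card (Subgroup.centralizer ({t} : Set G)) with hc
  have hcpos : 0 < c := Nat.card_pos
  rw [h] at hdvd hdvd' heq
  have hdle : d ≤ 4032 := Nat.le_of_dvd (by norm_num) hdvd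
  rw [Int.ModEq] at hcong
  have hcase : (d % 7 = 1 ∧ (d + 1) ∣ 4032) ∨ (d % 7 = 6 ∧ (d - 1) ∣ 4032) := by
    rcases hη with h1 | h1
    · left
      rw [h1] at hcong hdvd'
      refine ⟨by omega, ?_⟩
      have : ((d : ℤ) + 1).natAbs = d + 1 := by
        have : ((d : ℤ) + 1) = ((d + 1 : ℕ) : ℤ) := by push_cast; ring
        rw [this, Int.natAbs_natCast]
      rwa [this] at hdvd'
    · right
      rw [h1] at hcong hdvd'
      refine ⟨by omega, ?_⟩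
      have : ((d : ℤ) + -1).natAbs = d - 1 := by
        have : ((d : ℤ) + -1) = ((d - 1 : ℕ) : ℤ) := by
          rw [Nat.cast_sub (by omega)]; push_cast; ring
        rw [this, Int.natAbs_natCast]
      rwa [this] at hdvd'
  obtain ⟨hd8, hmod1⟩ := arith_deg d hdvd hd2 hcase
  have hη1 : η = 1 := by
    rcases hη with h1 | h1
    · exact h1
    · rw [h1] at hcong; omega
  rw [hd8, hη1] at heq
  rw [hd8] at hjd
  have heq' : 7 * c ^ 2 * 8 * (8 + 1) = 4032 * (4 * j ^ 2) := by exact_mod_cast heq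
  have hcj : c ^ 2 = 32 * j ^ 2 := by omega
  have hcle : c ≤ 46 := by
    by_contra hlt
    push Not at hlt
    have h1 : 47 ^ 2 ≤ c ^ 2 := Nat.pow_le_pow_left (by omega) 2
    have h2 : j ^ 2 ≤ 8 ^ 2 := Nat.pow_le_pow_left hjd 2
    omega
  exact arith_sq j (by omega) c (by omega) hcpos hcj

end Cfsg.Agent.S0976
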