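import Cfsg.Statements.S0978
import Cfsg.Agent.Lib.Helper17_Sylow
import Cfsg.Agent.Lib.Helper20_F5040_CASE8
import Cfsg.Agent.Lib.Helper20_F5040_CASE15
import Cfsg.Agent.Lib.Helper25_F5040_CASE36
import Cfsg.Agent.Lib.Helper62_F5040_HARD
import Cfsg.Agent.Lib.Helper63_F5040_CASE120B
import Cfsg.Agent.Lib.Helper24_F5040_CASE120A

set_option autoImplicit false
open Cfsg

namespace Cfsg.Agent.S0978

open Cfsg.Agent.Lib.Helper17_Sylow

/-- There is no finite simple group of order 5040 = 2^4 * 3^2 * 5 * 7. -/
theorem result {G : Type*} [Group G] [Finite G] [IsSimpleGroup G] : Nat.card G ≠ 5040 := by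
  classical
  intro hG
  have hfact : Fact (Nat.Prime 7) := ⟨by norm_num⟩
  have hG' : Nat.card G = 7 ^ 1 * 720 := by rw [hG]; norm_num
  have hm : ¬ 7 ∣ 720 := by norm_num
  obtain ⟨P⟩ : Nonempty (Sylow 7 G) := inferInstance
  have hP : Nat.card (P : Subgroup G) = 7 := by
    have := card_sylow_eq_pow hG' hm P
    simpa using this
  have hmem := card_sylow_mem_candidates hG' hm
  have hcand : sylowCandidates 7 720 = [1, 8, 15, 36, 120] := by decide +kernel
  rw [hcand] at hmem
  have hgt : 1 < Nat.card (Sylow 7 G) :=
    one_lt_card_sylow_of_card hG' hm (by norm_num) (by norm_num)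
  have hNn := card_normalizer_mul_card_sylow P
  rw [hG] at hNn
  have hCN : Subgroup.centralizer ((P : Subgroup G) : Set G) ≤
      Subgroup.normalizer ((P : Subgroup G) : Set G) := Subgroup.centralizer_le_normalizer _
  have he6 : (Subgroup.centralizer ((P : Subgroup G) : Set G)).relIndex
      (Subgroup.normalizer ((P : Subgroup G) : Set G)) ∣ 6 :=
    relIndex_centralizer_normalizer_dvd_pred (p := 7) (P : Subgroup G) hP
  have he1 : (Subgroup.centralizer ((P : Subgroup G) : Set G)).relIndex
      (Subgroup.normalizer ((P : Subgroup G) : Set G)) ≠ 1 := by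
    intro h1
    have hle := Subgroup.relIndex_eq_one.mp h1
    rcases sylow_eq_bot_or_top_of_normalizer_le_centralizer P hle with h | h
    · rw [h, Subgroup.card_bot] at hP
      omega
    · rw [h, Subgroup.card_top, hG] at hP
      omega
  have hcardCN := card_mul_relIndex_of_le hCN
  have hPC : (P : Subgroup G) ≤ Subgroup.centralizer ((P : Subgroup G) : Set G) := by
    have hcyc : IsCyclic (P : Subgroup G) := isCyclic_of_prime_card hP
    exact le_centralizer_of_isCyclic (P : Subgroup G)
  simp only [List.mem_cons, List.mem_nil_iff, or_false] at hmem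
  rcases hmem with h | h | h | h | h
  · omega
  · rw [h] at hNn
    exact Cfsg.Agent.Lib.Helper20_F5040_CASE8.case_8 hG P hP (by omega)
  · rw [h] at hNn
    exact Cfsg.Agent.Lib.Helper20_F5040_CASE15.case_15 hG P hP (by omega)
  · -- `n_7 = 36`, `|N| = 140`
    rw [h] at hNn
    have hN : Nat.card (Subgroup.normalizer ((P : Subgroup G) : Set G)) = 140 := by omega
    rw [hN] at hcardCN
    obtain ⟨e, hedef⟩ : ∃ e, (Subgroup.centralizer ((P : Subgroup G) : Set G)).relIndex
      (Subgroup.normalizer ((P : Subgroup G) : Set G)) = e := ⟨_, rfl⟩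
    rw [hedef] at hcardCN he6 he1
    have h7C : 7 ∣ Nat.card (Subgroup.centralizer ((P : Subgroup G) : Set G)) := by
      have := Subgroup.card_dvd_of_le hPC
      rwa [hP] at this
    obtain ⟨c, hc⟩ := h7C
    have hce : c * e = 20 := by
      rw [hc] at hcardCN
      have : 7 * (c * e) = 7 * 20 := by rw [← mul_assoc]; omega
      exact Nat.eq_of_mul_eq_mul_left (by norm_num) this
    have he20 : e ∣ 20 := Dvd.intro_left _ hce
    have he2 : e = 2 := by
      have h2 : e ∣ 2 := by
        have := Nat.dvd_gcd he6 he20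
        simpa using this
      have hle : e ≤ 2 := Nat.le_of_dvd (by norm_num) h2
      interval_cases e <;> omega
    have hC : Nat.card (Subgroup.centralizer ((P : Subgroup G) : Set G)) = 70 := by
      rw [he2] at hce
      omega
    exact Cfsg.Agent.Lib.Helper25_F5040_CASE36.case_36 hG P hP hN hC
  · -- `n_7 = 120`, `|N| = 42`
    rw [h] at hNn
    have hN : Nat.card (Subgroup.normalizer ((P : Subgroup G) : Set G)) = 42 := by omega
    rw [hN] at hcardCN
    obtain ⟨e, hedef⟩ : ∃ e, (Subgroup.centralizer ((P : Subgroup G) : Set G)).relIndex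
      (Subgroup.normalizer ((P : Subgroup G) : Set G)) = e := ⟨_, rfl⟩
    rw [hedef] at hcardCN he6 he1
    have hle : e ≤ 6 := Nat.le_of_dvd (by norm_num) he6
    have hecases : e = 2 ∨ e = 3 ∨ e = 6 := by
      interval_cases e <;> omega
    rcases hecases with he | he | he
    · have hC : Nat.card (Subgroup.centralizer ((P : Subgroup G) : Set G)) = 21 := by
        rw [he] at hcardCN; omega
      exact Cfsg.Agent.Lib.Helper63_F5040_CASE120B.case_120_21 hG P hP hN hC
    · have hC : Nat.card (Subgroup.centralizer ((P : Subgroup G) : Set G)) = 14 := by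
        rw [he] at hcardCN; omega
      exact Cfsg.Agent.Lib.Helper24_F5040_CASE120A.case_120_14 hG P hP hN hC
    · have hC : Nat.card (Subgroup.centralizer ((P : Subgroup G) : Set G)) = 7 := by
        rw [he] at hcardCN; omega
      have hCP : Subgroup.centralizer ((P : Subgroup G) : Set G) = (P : Subgroup G) := by
        symm
        apply Subgroup.eq_of_le_of_card_ge hPC
        rw [hC, hP]
      exact Cfsg.Agent.Lib.Helper62_F5040_HARD.case_120_7 hG P hP hN hCP

end Cfsg.Agent.S0978
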