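import Cfsg.Statements.S0979
import Cfsg.Agent.Lib.Helper17_ExcApply

set_option autoImplicit false
open Cfsg

namespace Cfsg.Agent.S0979

open Cfsg.Agent.Lib.Helper17_Sylow Cfsg.Agent.Lib.Helper17_ExcApply Subgroup

/-- No finite simple group has order 5472 = 2^5 * 3^2 * 19. -/
theorem result {G : Type*} [Group G] [Finite G] [IsSimpleGroup G] : Nat.card G ≠ 5472 := by
  intro hG
  classical
  cases nonempty_fintype G
  have hnc : ¬ IsMulCommutative G :=
    not_isMulCommutative_of_not_prime (by rw [hG]; norm_num)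
  have : Fact (Nat.Prime 19) := ⟨by norm_num⟩
  have hG19 : Nat.card G = 19 ^ 1 * 288 := by rw [hG]; norm_num
  have h19 : ¬ 19 ∣ 288 := by norm_num
  obtain ⟨P⟩ : Nonempty (Sylow 19 G) := inferInstance
  have hPcard : Nat.card (P : Subgroup G) = 19 := by
    have := card_sylow_eq_pow hG19 h19 P
    simpa using this
  have hn : Nat.card (Sylow 19 G) = 96 := by
    have hc : sylowCandidates 19 288 = [1, 96] := by decide
    have hmem := card_sylow_mem_candidates hG19 h19
    rw [hc] at hmem
    have hlt := one_lt_card_sylow_of_card hG19 h19 (by norm_num) (by norm_num)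
    simp only [List.mem_cons, List.not_mem_nil, or_false] at hmem
    omega
  have hN : Nat.card (normalizer ((P : Subgroup G) : Set G)) = 3 * 19 := by
    have := card_normalizer_mul_card_sylow P
    rw [hn, hG] at this
    omega
  have hC := centralizer_le_of_card_normalizer P hPcard 3 Nat.prime_three hN
    (by rw [hG]; norm_num)
  obtain ⟨ψ, ψ', χ, δ, δ', ε, hψ1, hψ'1, hne, hδ, hδ', hε, hcong, hcong', hrel⟩ :=
    exceptional_three (P : Subgroup G) hPcard hC hN (by norm_num)
  have hd2 := two_le_deg_of_simple hnc ψ hψ1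
  have hd2' := two_le_deg_of_simple hnc ψ' hψ'1
  have hdvd := deg_dvd_card ψ
  have hdvd' := deg_dvd_card ψ'
  have hdvdχ := deg_dvd_card χ
  have hsq := one_add_sq_add_sq_le ψ ψ' hψ1 hψ'1 hne
  rw [hG] at hdvd hdvd' hsq hdvdχ
  have hle : deg ψ ≤ 73 := by nlinarith
  have hle' : deg ψ' ≤ 73 := by nlinarith
  unfold Int.ModEq at hcong hcong'
  generalize deg ψ = d at *
  generalize deg ψ' = d' at *
  generalize deg χ = c at *
  have key : ∀ (x : ℕ) (η : ℤ), (η = 1 ∨ η = -1) → 2 ≤ x → x ≤ 73 → x ∣ 5472 →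
      (x : ℤ) % 19 = η % 19 → x = 18 ∧ η = -1 := by
    intro x η hη h2 h73 hx hm
    rcases hη with rfl | rfl
    · exfalso
      have h1 : (x : ℤ) % 19 = 1 := by omega
      interval_cases x <;> omega
    · have h1 : (x : ℤ) % 19 = 18 := by omega
      refine ⟨?_, rfl⟩
      interval_cases x <;> omega
  obtain ⟨rfl, rfl⟩ := key d δ hδ hd2 hle hdvd hcong
  obtain ⟨rfl, rfl⟩ := key d' δ' hδ' hd2' hle' hdvd' hcong'
  have hc35 : c = 35 := by rcases hε with rfl | rfl <;> omega
  subst hc35
  omega

end Cfsg.Agent.S0979
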