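import Cfsg.Statements.S0980
import Cfsg.Agent.Lib.Helper25_INV_Common
import Cfsg.Agent.Lib.Helper25_INV_E2
import Cfsg.Agent.Lib.Helper30_ThreePQ
import Cfsg.Agent.Lib.Helper74_CharTools

set_option autoImplicit false
open Cfsg

namespace Cfsg.Agent.S0980

open Cfsg.Agent.Lib.Helper25_INV_Common Cfsg.Agent.Lib.Helper17_Sylow

set_option synthInstance.maxSize 2000 in
set_option synthInstance.maxHeartbeats 200000 in
/-- the only possible degrees are `4` and `9`, with sign `-1` -/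
theorem arith_deg_aux : ∀ a < 8, ∀ b < 3, ∀ e < 2, 2 ≤ 2 ^ a * 3 ^ b * 5 ^ e →
    (((2 ^ a * 3 ^ b * 5 ^ e) % 5 = 1 ∧ (2 ^ a * 3 ^ b * 5 ^ e + 1) ∣ 5760) ∨
      ((2 ^ a * 3 ^ b * 5 ^ e) % 5 = 4 ∧ (2 ^ a * 3 ^ b * 5 ^ e - 1) ∣ 5760)) →
    ((2 ^ a * 3 ^ b * 5 ^ e = 4 ∨ 2 ^ a * 3 ^ b * 5 ^ e = 9) ∧
      (2 ^ a * 3 ^ b * 5 ^ e) % 5 = 4) := by
  decide

theorem arith_deg (d : ℕ) (hd : d ∣ 5760) (h2 : 2 ≤ d)
    (h : (d % 5 = 1 ∧ (d + 1) ∣ 5760) ∨ (d % 5 = 4 ∧ (d - 1) ∣ 5760)) :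
    (d = 4 ∨ d = 9) ∧ d % 5 = 4 := by
  have h5760 : 5760 = 2 ^ 7 * 3 ^ 2 * 5 ^ 1 := by norm_num
  rw [h5760] at hd
  obtain ⟨a, ha, b, hb, e, he, rfl⟩ :=
    exists_of_dvd Nat.prime_two Nat.prime_three (by norm_num : Nat.Prime 5) 7 2 1 d hd
  exact arith_deg_aux a (by omega) b (by omega) e (by omega) h2 h

/-- `c ^ 2 = 384 * j ^ 2` has no solution with `c > 0`, `j ≤ 4` -/
theorem arith_sq : ∀ j < 5, ∀ c < 79, 0 < c → c ^ 2 ≠ 384 * j ^ 2 := by
  decide +kernel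

/-- No finite simple group has order 5760 = 2^7 * 3^2 * 5. -/
theorem result {G : Type*} [Group G] [Finite G] [IsSimpleGroup G] : Nat.card G ≠ 5760 := by
  intro h
  have h5 : Fact (Nat.Prime 5) := ⟨by norm_num⟩
  have h2F : Fact (Nat.Prime 2) := ⟨Nat.prime_two⟩
  have hG : Nat.card G = 5 * 3 ^ 2 * 2 ^ 7 := by rw [h]; norm_num
  have hm : ¬ 5 ∣ 3 ^ 2 * 2 ^ 7 := by norm_num
  obtain ⟨P⟩ : Nonempty (Sylow 5 G) := inferInstance
  obtain ⟨hP, hC⟩ := sylow_self_centralizing 5 2 7 hG hm P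
  obtain ⟨k, hk, hN, hprod, hmod⟩ := normalizer_data P hP hC
  rw [h] at hprod
  have hk2 : k = 2 := by
    have hk4 : k ∣ 4 := hk
    have hkle : k ≤ 4 := Nat.le_of_dvd (by norm_num) hk4
    interval_cases k <;> omega
  rw [hk2] at hN
  have hN' : Nat.card (Subgroup.normalizer ((P : Subgroup G) : Set G)) = 2 * 5 := by
    rw [hN]
  have hperf : commutator G = ⊤ := perfect_of_not_prime (by rw [h]; norm_num)
  obtain ⟨χ, η, t, j, hη, hd2, hcong, hdvd, hdvd', ht, hjd, heq, hnc⟩ :=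
    Cfsg.Agent.Lib.Helper25_INV_E2.E2 (p := 5) (by norm_num) P hP hC hN' hperf
  set d := Cfsg.charDegree (χ : G → ℂ) with hd
  set c := Nat.card (Subgroup.centralizer ({t} : Set G)) with hc
  have hcpos : 0 < c := Nat.card_pos
  rw [h] at hdvd hdvd' heq
  rw [Int.ModEq] at hcong
  have hcase : (d % 5 = 1 ∧ (d + 1) ∣ 5760) ∨ (d % 5 = 4 ∧ (d - 1) ∣ 5760) := by
    rcases hη with h1 | h1
    · left
      rw [h1] at hcong hdvd'
      refine ⟨by omega, ?_⟩
      have : ((d : ℤ) + 1).natAbs = d + 1 := by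
        have : ((d : ℤ) + 1) = ((d + 1 : ℕ) : ℤ) := by push_cast; ring
        rw [this, Int.natAbs_natCast]
      rwa [this] at hdvd'
    · right
      rw [h1] at hcong hdvd'
      refine ⟨by omega, ?_⟩
      have : ((d : ℤ) + -1).natAbs = d - 1 := by
        have : ((d : ℤ) + -1) = ((d - 1 : ℕ) : ℤ) := by
          rw [Nat.cast_sub (by omega)]; push_cast; ring
        rw [this, Int.natAbs_natCast]
      rwa [this] at hdvd'
  obtain ⟨hd49, hmod4⟩ := arith_deg d hdvd hd2 hcase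
  have hη1 : η = -1 := by
    rcases hη with h1 | h1
    · rw [h1] at hcong; omega
    · exact h1
  rw [hη1] at heq
  rcases hd49 with hd4 | hd9
  · -- `d = 4`
    rw [hd4] at heq hjd
    have heq' : 5 * c ^ 2 * 4 * 3 = 5760 * (4 * j ^ 2) := by
      have : (5 : ℤ) * (c : ℤ) ^ 2 * 4 * 3 = 5760 * (4 * (j : ℤ) ^ 2) := by
        have h3 : ((4 : ℕ) : ℤ) + -1 = 3 := by norm_num
        rw [h3] at heq
        exact_mod_cast heq
      exact_mod_cast this
    have hcj : c ^ 2 = 384 * j ^ 2 := by omega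
    have hcle : c < 79 := by
      by_contra hlt
      push Not at hlt
      have h1 : 79 ^ 2 ≤ c ^ 2 := Nat.pow_le_pow_left hlt 2
      have h2 : j ^ 2 ≤ 4 ^ 2 := Nat.pow_le_pow_left hjd 2
      omega
    exact arith_sq j (by omega) c hcle hcpos hcj
  · -- `d = 9`
    rw [hd9] at heq hjd
    have heq' : 5 * c ^ 2 * 9 * 8 = 5760 * (4 * j ^ 2) := by
      have : (5 : ℤ) * (c : ℤ) ^ 2 * 9 * 8 = 5760 * (4 * (j : ℤ) ^ 2) := by
        have h3 : ((9 : ℕ) : ℤ) + -1 = 8 := by norm_num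
        rw [h3] at heq
        exact_mod_cast heq
      exact_mod_cast this
    have hcj : c ^ 2 = 64 * j ^ 2 := by omega
    have hcle : c ≤ 72 := by
      by_contra hlt
      push Not at hlt
      have h1 : 73 ^ 2 ≤ c ^ 2 := Nat.pow_le_pow_left hlt 2
      have h2 : j ^ 2 ≤ 9 ^ 2 := Nat.pow_le_pow_left hjd 2
      omega
    -- all involutions are conjugate to `t`
    have hχne : χ ≠ Cfsg.Agent.Lib.Helper80_CharBasic.oneIrr G := by
      intro heq1
      have h1 := Cfsg.Agent.Lib.Helper77_BlockBasics.apply_one_eq_charDegree χ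
      rw [← hd, hd9, heq1] at h1
      have h2 : ((Cfsg.Agent.Lib.Helper80_CharBasic.oneIrr G : Cfsg.IrrCharacter G) : G → ℂ) 1
          = 1 := rfl
      rw [h2] at h1
      norm_num at h1
    have hall : ∀ v : G, orderOf v = 2 → IsConj t v := by
      intro v hv
      by_contra hncv
      have h1 := hnc v hv hncv
      have h2 := Cfsg.Agent.Lib.Helper74_CharTools.eq_one_of_apply_eq χ hχne v h1
      rw [h2, orderOf_one] at hv
      norm_num at hv
    obtain ⟨T⟩ : Nonempty (Sylow 2 G) := inferInstance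
    have hT : Nat.card (T : Subgroup G) = 2 ^ 7 :=
      card_sylow_eq_pow (p := 2) (k := 7) (m := 45) (by rw [h]; norm_num) (by norm_num) T
    have hdvdc := Cfsg.Agent.Lib.Helper30_ThreePQ.sylow_two_dvd_centralizer ht hall T
    rw [hT] at hdvdc
    have := Nat.le_of_dvd hcpos hdvdc
    omega

end Cfsg.Agent.S0980
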