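import Mathlib
import Cfsg.Statements.S4713
import Cfsg.Agent.Lib.Helper82_ItoMichler
import Cfsg.Agent.Lib.Helper3_Ito
import Cfsg.Agent.Lib.Helper32_PSolvable

set_option autoImplicit false
open Cfsg

namespace Cfsg.Agent.S4713

open Cfsg.Agent.Lib.Helper82_ItoMichler

/-- Itô: a normal abelian subgroup of index prime to `p` forces all irreducible degrees prime to
`p`. -/
theorem degrees_of_normal_abelian {G : Type*} [Group G] [Finite G] (p : ℕ) (Q : Subgroup G)
    [Q.Normal] (hc : ∀ x ∈ Q, ∀ y ∈ Q, x * y = y * x) (hidx : ¬ p ∣ Q.index)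
    (χ : Cfsg.IrrCharacter G) : ¬ p ∣ Cfsg.charDegree (χ : G → ℂ) := by
  obtain ⟨n, ρ, hρ, hχ⟩ := χ.2
  have h1 : Module.finrank ℂ (Fin n → ℂ) ∣ Q.index := Cfsg.Agent.Lib.Helper3_Ito.ito ρ Q hc
  have h2 : (χ : G → ℂ) 1 = (Module.finrank ℂ (Fin n → ℂ) : ℕ) := by
    rw [← hχ, Representation.char_one]
  rw [charDegree_eq _ _ h2]
  exact fun h => hidx (h.trans h1)


/-- Let p be a prime and G a finite p-solvable group. Then G has a normal abelian Sylow p-subgroup if and only if the degree of every irreducible character of G is prime to p. -/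
theorem result {G : Type*} [Group G] [Finite G] (p : ℕ) [Fact p.Prime] (hsolv : Cfsg.IsPSolvable p G) (P : Sylow p G) : ((P : Subgroup G).Normal ∧ IsMulCommutative P) ↔ ∀ χ : Cfsg.IrrCharacter G, ¬ p ∣ Cfsg.charDegree (χ : G → ℂ) := by
  constructor
  · rintro ⟨hn, hc⟩ χ
    have hc' : ∀ x ∈ (P : Subgroup G), ∀ y ∈ (P : Subgroup G), x * y = y * x := by
      intro x hx y hy
      have := hc.is_comm.comm (⟨x, hx⟩ : (P : Subgroup G)) ⟨y, hy⟩
      exact congrArg Subtype.val this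
    exact degrees_of_normal_abelian p (P : Subgroup G) hc' P.not_dvd_index χ
  · intro hdeg
    obtain ⟨Q, hQn, hQc, hQp, hQi⟩ := core p (fun H _ => Cfsg.IsPSolvable p H)
      (fun H _ _ _ h => Cfsg.Agent.Lib.Helper32_PSolvable.exists_core_ne_bot h)
      (fun H _ _ N _ h => Cfsg.Agent.Lib.Helper32_PSolvable.isPSolvable_quotient N h)
      _ G rfl hsolv hdeg
    have hPQ : (P : Subgroup G) = Q := sylow_eq_of_normal Q hQp hQi P
    refine ⟨by rw [hPQ]; exact hQn, ⟨⟨fun a b => ?_⟩⟩⟩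
    apply Subtype.ext
    exact hQc a.1 (hPQ ▸ a.2) b.1 (hPQ ▸ b.2)

end Cfsg.Agent.S4713
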