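import Cfsg.Statements.S1509
import Cfsg.Agent.Lib.Helper3_CharOrtho

set_option autoImplicit false
open Cfsg

namespace Cfsg.Agent.S1509

open Cfsg.Agent.Lib.Helper3_CharOrtho
open scoped ComplexConjugate

/-- An irreducible representation on `Fin n → ℂ` has `0 < n`. -/
theorem irr_dim_pos' {G : Type*} [Group G] {n : ℕ} (ρ : Representation ℂ G (Fin n → ℂ))
    (h : ρ.IsIrreducible) : 0 < n := by
  by_contra hn
  have hn0 : n = 0 := by omega
  subst hn0
  have : Nontrivial (Subrepresentation ρ) := h.toNontrivial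
  obtain ⟨a, b, hab⟩ := exists_pair_ne (Subrepresentation ρ)
  apply hab
  apply Subrepresentation.toSubmodule_injective
  apply Subsingleton.elim

theorem irr_one_pos {G : Type*} [Group G] (χ : G → ℂ) (hχ : Cfsg.IsIrrCharacter G χ) :
    ∃ n : ℕ, 0 < n ∧ χ 1 = n := by
  obtain ⟨n, ρ, hirr, hρ⟩ := hχ
  refine ⟨n, irr_dim_pos' ρ hirr, ?_⟩
  rw [← hρ, Representation.char_one]
  simp

/-- A signed irreducible character is `ε • χ` with `ε = ±1`. -/
theorem signed_form {X : Type*} [Group X] (α : X → ℂ)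
    (hα : Cfsg.IsIrrCharacter X α ∨ Cfsg.IsIrrCharacter X (-α)) :
    ∃ (ε : ℂ) (χ : X → ℂ), (ε = 1 ∨ ε = -1) ∧ Cfsg.IsIrrCharacter X χ ∧ α = ε • χ := by
  rcases hα with h | h
  · exact ⟨1, α, Or.inl rfl, h, by simp⟩
  · exact ⟨-1, -α, Or.inr rfl, h, by simp⟩

theorem inner_signed {X : Type*} [Group X] [Fintype X] (a c : ℂ) (χ ψ : X → ℂ)
    (ha : a = 1 ∨ a = -1) (hc : c = 1 ∨ c = -1)
    (hχ : Cfsg.IsIrrCharacter X χ) (hψ : Cfsg.IsIrrCharacter X ψ) :
    Cfsg.classInner (a • χ) (c • ψ) = a * c * (if χ = ψ then 1 else 0) := by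
  classical
  rw [classInner_smul_left, classInner_smul_right, classInner_irr hχ hψ]
  have hcc : conj c = c := by
    rcases hc with h | h <;> simp [h]
  rw [hcc]
  ring

theorem expand_mix {X : Type*} [Group X] [Fintype X] (A B C D : X → ℂ) (u v : ℂ) :
    Cfsg.classInner (A - B) (u • C - v • D) =
      conj u * Cfsg.classInner A C - conj v * Cfsg.classInner A D
        - conj u * Cfsg.classInner B C + conj v * Cfsg.classInner B D := by
  have e : (u • C - v • D) = u • C + (-v) • D := by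
    rw [neg_smul, sub_eq_add_neg]
  rw [e, classInner_sub_left, classInner_add_right, classInner_add_right,
    classInner_smul_right, classInner_smul_right, classInner_smul_right, classInner_smul_right,
    map_neg]
  ring

theorem result {X : Type*} [Group X] [Fintype X] (α β γ δ : X → ℂ) (hα : Cfsg.IsIrrCharacter X α ∨ Cfsg.IsIrrCharacter X (-α)) (hβ : Cfsg.IsIrrCharacter X β ∨ Cfsg.IsIrrCharacter X (-β)) (hγ : Cfsg.IsIrrCharacter X γ ∨ Cfsg.IsIrrCharacter X (-γ)) (hδ : Cfsg.IsIrrCharacter X δ ∨ Cfsg.IsIrrCharacter X (-δ)) (u v : ℝ) (hu : u ≠ 0) (hv : v ≠ 0) (hab : Cfsg.classInner α β = 0) (hcd : Cfsg.classInner γ δ = 0) (hmix : Cfsg.classInner (α - β) ((u : ℂ) • γ - (v : ℂ) • δ) = 0) (h1 : α 1 = β 1) (h2 : (u : ℂ) * γ 1 = (v : ℂ) * δ 1) : Cfsg.classInner α γ = 0 ∧ Cfsg.classInner α δ = 0 ∧ Cfsg.classInner β γ = 0 ∧ Cfsg.classInner β δ = 0 := by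
  classical
  obtain ⟨a, χ₁, ha, hχ₁, rfl⟩ := signed_form α hα
  obtain ⟨b, χ₂, hb, hχ₂, rfl⟩ := signed_form β hβ
  obtain ⟨c, χ₃, hc, hχ₃, rfl⟩ := signed_form γ hγ
  obtain ⟨d, χ₄, hd, hχ₄, rfl⟩ := signed_form δ hδ
  obtain ⟨n₁, hn₁, e₁⟩ := irr_one_pos χ₁ hχ₁
  obtain ⟨n₂, hn₂, e₂⟩ := irr_one_pos χ₂ hχ₂
  obtain ⟨n₃, hn₃, e₃⟩ := irr_one_pos χ₃ hχ₃
  obtain ⟨n₄, hn₄, e₄⟩ := irr_one_pos χ₄ hχ₄
  have ha0 : a ≠ 0 := by rcases ha with h | h <;> simp [h]
  have hb0 : b ≠ 0 := by rcases hb with h | h <;> simp [h]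
  have hc0 : c ≠ 0 := by rcases hc with h | h <;> simp [h]
  have hd0 : d ≠ 0 := by rcases hd with h | h <;> simp [h]
  have huc : (u : ℂ) ≠ 0 := by exact_mod_cast hu
  have hvc : (v : ℂ) ≠ 0 := by exact_mod_cast hv
  -- expand hypotheses
  rw [inner_signed a b χ₁ χ₂ ha hb hχ₁ hχ₂] at hab
  rw [inner_signed c d χ₃ χ₄ hc hd hχ₃ hχ₄] at hcd
  have h12 : χ₁ ≠ χ₂ := by
    intro h; rw [if_pos h] at hab
    simp [ha0, hb0] at hab
  have h34 : χ₃ ≠ χ₄ := by
    intro h; rw [if_pos h] at hcd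
    simp [hc0, hd0] at hcd
  have hmix' : (u : ℂ) * Cfsg.classInner (a • χ₁) (c • χ₃) - (v : ℂ) * Cfsg.classInner (a • χ₁) (d • χ₄)
      - (u : ℂ) * Cfsg.classInner (b • χ₂) (c • χ₃) + (v : ℂ) * Cfsg.classInner (b • χ₂) (d • χ₄) = 0 := by
    have hcu : conj (u : ℂ) = u := Complex.conj_ofReal u
    have hcv : conj (v : ℂ) = v := Complex.conj_ofReal v
    rw [expand_mix, hcu, hcv] at hmix
    exact hmix
  rw [inner_signed a c χ₁ χ₃ ha hc hχ₁ hχ₃, inner_signed a d χ₁ χ₄ ha hd hχ₁ hχ₄,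
    inner_signed b c χ₂ χ₃ hb hc hχ₂ hχ₃, inner_signed b d χ₂ χ₄ hb hd hχ₂ hχ₄] at hmix'
  rw [inner_signed a c χ₁ χ₃ ha hc hχ₁ hχ₃, inner_signed a d χ₁ χ₄ ha hd hχ₁ hχ₄,
    inner_signed b c χ₂ χ₃ hb hc hχ₂ hχ₃, inner_signed b d χ₂ χ₄ hb hd hχ₂ hχ₄]
  -- degrees
  simp only [Pi.smul_apply, smul_eq_mul] at h1 h2
  rw [e₁, e₂] at h1
  rw [e₃, e₄] at h2
  have hn₁c : (n₁ : ℂ) ≠ 0 := by exact_mod_cast hn₁.ne'
  have hn₂c : (n₂ : ℂ) ≠ 0 := by exact_mod_cast hn₂.ne'
  have hn₃c : (n₃ : ℂ) ≠ 0 := by exact_mod_cast hn₃.ne'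
  have hn₄c : (n₄ : ℂ) ≠ 0 := by exact_mod_cast hn₄.ne'
  -- a = b : signs agree since degrees are positive
  have hab_eq : a = b ∧ n₁ = n₂ := by
    rcases ha with rfl | rfl <;> rcases hb with rfl | rfl
    · refine ⟨rfl, ?_⟩
      have : (n₁ : ℂ) = n₂ := by simpa using h1
      exact_mod_cast this
    · exfalso
      have : (n₁ : ℂ) + n₂ = 0 := by linear_combination h1
      have : ((n₁ + n₂ : ℕ) : ℂ) = 0 := by push_cast; exact this
      have : n₁ + n₂ = 0 := by exact_mod_cast this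
      omega
    · exfalso
      have : (n₁ : ℂ) + n₂ = 0 := by linear_combination -h1
      have : ((n₁ + n₂ : ℕ) : ℂ) = 0 := by push_cast; exact this
      have : n₁ + n₂ = 0 := by exact_mod_cast this
      omega
    · refine ⟨rfl, ?_⟩
      have : (n₁ : ℂ) = n₂ := by
        have := h1
        simp only [neg_mul, one_mul, neg_inj] at this
        exact this
      exact_mod_cast this
  obtain ⟨rfl, rfl⟩ := hab_eq
  by_cases h13 : χ₁ = χ₃
  · exfalso
    have h14 : χ₁ ≠ χ₄ := fun h => h34 (h13.symm.trans h)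
    have h23 : χ₂ ≠ χ₃ := fun h => h12 (h13.trans h.symm)
    rw [if_pos h13, if_neg h14, if_neg h23] at hmix'
    by_cases h24 : χ₂ = χ₄
    · rw [if_pos h24] at hmix'
      -- degrees: n₃ = n₁ (χ₁ = χ₃), n₄ = n₁ (χ₂ = χ₄)
      have hn31 : (n₃ : ℂ) = n₁ := by rw [← e₃, ← e₁, h13]
      have hn41 : (n₄ : ℂ) = n₁ := by rw [← e₄, ← e₂, h24]
      rw [hn31, hn41] at h2
      have h2' : (u : ℂ) * c = (v : ℂ) * d := by
        have : ((u : ℂ) * c - (v : ℂ) * d) * (n₁ : ℂ) = 0 := by linear_combination h2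
        rcases mul_eq_zero.mp this with h | h
        · linear_combination h
        · exact absurd h hn₁c
      have h3 : a * ((u : ℂ) * c + (v : ℂ) * d) = 0 := by linear_combination hmix'
      have h4 : (u : ℂ) * c + (v : ℂ) * d = 0 := by
        rcases mul_eq_zero.mp h3 with h | h
        · exact absurd h ha0
        · exact h
      have h5 : (u : ℂ) * c = 0 := by linear_combination (1/2 : ℂ) * h4 + (1/2 : ℂ) * h2'
      rcases mul_eq_zero.mp h5 with h | h
      · exact huc h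
      · exact hc0 h
    · rw [if_neg h24] at hmix'
      have h3 : (u : ℂ) * (a * c) = 0 := by linear_combination hmix'
      rcases mul_eq_zero.mp h3 with h | h
      · exact huc h
      · rcases mul_eq_zero.mp h with h | h
        · exact ha0 h
        · exact hc0 h
  · by_cases h14 : χ₁ = χ₄
    · exfalso
      have h24 : χ₂ ≠ χ₄ := fun h => h12 (h14.trans h.symm)
      rw [if_neg h13, if_pos h14, if_neg h24] at hmix'
      by_cases h23 : χ₂ = χ₃
      · rw [if_pos h23] at hmix'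
        have hn41 : (n₄ : ℂ) = n₁ := by rw [← e₄, ← e₁, h14]
        have hn31 : (n₃ : ℂ) = n₁ := by rw [← e₃, ← e₂, h23]
        rw [hn31, hn41] at h2
        have h2' : (u : ℂ) * c = (v : ℂ) * d := by
          have : ((u : ℂ) * c - (v : ℂ) * d) * (n₁ : ℂ) = 0 := by linear_combination h2
          rcases mul_eq_zero.mp this with h | h
          · linear_combination h
          · exact absurd h hn₁c
        have h3 : a * ((u : ℂ) * c + (v : ℂ) * d) = 0 := by linear_combination -hmix'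
        have h4 : (u : ℂ) * c + (v : ℂ) * d = 0 := by
          rcases mul_eq_zero.mp h3 with h | h
          · exact absurd h ha0
          · exact h
        have h5 : (u : ℂ) * c = 0 := by linear_combination (1/2 : ℂ) * h4 + (1/2 : ℂ) * h2'
        rcases mul_eq_zero.mp h5 with h | h
        · exact huc h
        · exact hc0 h
      · rw [if_neg h23] at hmix'
        have h3 : (v : ℂ) * (a * d) = 0 := by linear_combination -hmix'
        rcases mul_eq_zero.mp h3 with h | h
        · exact hvc h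
        · rcases mul_eq_zero.mp h with h | h
          · exact ha0 h
          · exact hd0 h
    · rw [if_neg h13, if_neg h14] at hmix' ⊢
      by_cases h23 : χ₂ = χ₃
      · exfalso
        have h24 : χ₂ ≠ χ₄ := fun h => h34 (h23.symm.trans h)
        rw [if_pos h23, if_neg h24] at hmix'
        have h3 : (u : ℂ) * (a * c) = 0 := by linear_combination -hmix'
        rcases mul_eq_zero.mp h3 with h | h
        · exact huc h
        · rcases mul_eq_zero.mp h with h | h
          · exact ha0 h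
          · exact hc0 h
      · by_cases h24 : χ₂ = χ₄
        · exfalso
          rw [if_neg h23, if_pos h24] at hmix'
          have h3 : (v : ℂ) * (a * d) = 0 := by linear_combination hmix'
          rcases mul_eq_zero.mp h3 with h | h
          · exact hvc h
          · rcases mul_eq_zero.mp h with h | h
            · exact ha0 h
            · exact hd0 h
        · rw [if_neg h23, if_neg h24]
          simp

end Cfsg.Agent.S1509
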