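import Cfsg.Statements.S1514
import Cfsg.Agent.Lib.Helper75_CharArith
import Cfsg.Agent.S1509
-- import your own Cfsg.Agent.* helpers here

set_option autoImplicit false
open Cfsg

namespace Cfsg.Agent.S1514

open scoped ComplexConjugate
open Cfsg.Agent.Lib.Helper3_CharBridge Cfsg.Agent.Lib.Helper3_CharOrtho
  Cfsg.Agent.Lib.Helper3_CharComplete Cfsg.Agent.Lib.Helper75_CharArith

/-- A virtual character of norm 2 vanishing at 1 is a difference of two distinct irreducible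
characters. -/
theorem norm_two {G : Type*} [Group G] [Fintype G] (θ : G → ℂ)
    (hθ : IsGeneralizedCharacter G θ) (h2 : classInner θ θ = 2) (h1 : θ 1 = 0) :
    ∃ ψ₁ ψ₂ : G → ℂ, IsIrrCharacter G ψ₁ ∧ IsIrrCharacter G ψ₂ ∧ ψ₁ ≠ ψ₂ ∧ θ = ψ₁ - ψ₂ := by
  classical
  obtain ⟨χ, ψ, hχ, hψ, rfl⟩ := hθ
  obtain ⟨m, hm, -⟩ := exists_multiplicities hχ
  obtain ⟨m', hm', -⟩ := exists_multiplicities hψ
  set a : IrrCharacter G → ℤ := fun ξ => (m ξ : ℤ) - (m' ξ : ℤ) with ha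
  have hcf : IsClassFunction G (χ - ψ) :=
    isClassFunction_sub (isClassFunction_of_isCharacter hχ) (isClassFunction_of_isCharacter hψ)
  have hinner : ∀ ξ : IrrCharacter G, classInner (χ - ψ) ξ = (a ξ : ℂ) := by
    intro ξ; rw [classInner_sub_left, hm, hm']; simp [ha]
  have hpars : (∑ ξ : IrrCharacter G, a ξ * a ξ) = 2 := by
    have := classInner_self_eq_sum hcf
    rw [h2] at this
    have h3 : (2 : ℂ) = ((∑ ξ : IrrCharacter G, a ξ * a ξ : ℤ) : ℂ) := by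
      rw [this]; push_cast
      apply Finset.sum_congr rfl; intro ξ _; rw [hinner ξ, map_intCast]
    exact_mod_cast h3.symm
  have hdecomp : (χ - ψ) = ∑ ξ : IrrCharacter G, (a ξ : ℂ) • (ξ : G → ℂ) := by
    conv_lhs => rw [classFunction_eq_sum _ hcf]
    apply Finset.sum_congr rfl; intro ξ _; rw [hinner ξ]
  have hdeg : ∀ ξ : IrrCharacter G, ∃ n : ℕ, 0 < n ∧ (ξ : G → ℂ) 1 = n :=
    fun ξ => Cfsg.Agent.S1509.irr_one_pos (ξ : G → ℂ) ξ.2
  choose d hdpos hd using hdeg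
  have hval : (∑ ξ : IrrCharacter G, a ξ * (d ξ : ℤ)) = 0 := by
    have := congrFun hdecomp 1
    rw [h1] at this
    simp only [Finset.sum_apply, Pi.smul_apply, smul_eq_mul, hd] at this
    exact_mod_cast this.symm
  have hpos : ∃ ξ₁, 0 < a ξ₁ := by
    by_contra hcon
    push Not at hcon
    have hz : ∀ ξ ∈ Finset.univ, a ξ * (d ξ : ℤ) = 0 := by
      apply (Finset.sum_eq_zero_iff_of_nonpos ?_).mp hval
      intro ξ _
      exact mul_nonpos_of_nonpos_of_nonneg (hcon ξ) (by positivity)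
    have hz' : ∀ ξ, a ξ = 0 := by
      intro ξ
      have := hz ξ (Finset.mem_univ _)
      rcases mul_eq_zero.mp this with h | h
      · exact h
      · have := hdpos ξ; omega
    simp [hz'] at hpars
  have hneg : ∃ ξ₂, a ξ₂ < 0 := by
    by_contra hcon
    push Not at hcon
    have hz : ∀ ξ ∈ Finset.univ, a ξ * (d ξ : ℤ) = 0 := by
      apply (Finset.sum_eq_zero_iff_of_nonneg ?_).mp hval
      intro ξ _
      exact mul_nonneg (hcon ξ) (by positivity)
    have hz' : ∀ ξ, a ξ = 0 := by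
      intro ξ
      have := hz ξ (Finset.mem_univ _)
      rcases mul_eq_zero.mp this with h | h
      · exact h
      · have := hdpos ξ; omega
    simp [hz'] at hpars
  obtain ⟨ξ₁, h₁⟩ := hpos
  obtain ⟨ξ₂, h₂⟩ := hneg
  have hne : ξ₁ ≠ ξ₂ := by rintro rfl; omega
  have hmem2 : ξ₂ ∈ Finset.univ.erase ξ₁ := Finset.mem_erase.mpr ⟨hne.symm, Finset.mem_univ _⟩
  have hsplit : (∑ ξ : IrrCharacter G, a ξ * a ξ) = a ξ₁ * a ξ₁ +
      (a ξ₂ * a ξ₂ + ∑ ξ ∈ (Finset.univ.erase ξ₁).erase ξ₂, a ξ * a ξ) := by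
    rw [Finset.add_sum_erase _ (fun ξ => a ξ * a ξ) hmem2,
      Finset.add_sum_erase _ (fun ξ => a ξ * a ξ) (Finset.mem_univ ξ₁)]
  have hrest_nonneg : 0 ≤ ∑ ξ ∈ (Finset.univ.erase ξ₁).erase ξ₂, a ξ * a ξ :=
    Finset.sum_nonneg (fun ξ _ => mul_self_nonneg _)
  rw [hsplit] at hpars
  have h11 : 1 ≤ a ξ₁ * a ξ₁ := by nlinarith
  have h22 : 1 ≤ a ξ₂ * a ξ₂ := by nlinarith
  have ha1 : a ξ₁ = 1 := by
    by_contra hcon
    have : 2 ≤ a ξ₁ := by omega
    nlinarith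
  have ha2 : a ξ₂ = -1 := by
    by_contra hcon
    have : a ξ₂ ≤ -2 := by omega
    nlinarith
  have hrest : ∑ ξ ∈ (Finset.univ.erase ξ₁).erase ξ₂, a ξ * a ξ = 0 := by
    rw [ha1, ha2] at hpars; linarith
  have hzero : ∀ ξ, ξ ≠ ξ₁ → ξ ≠ ξ₂ → a ξ = 0 := by
    intro ξ hx1 hx2
    have := (Finset.sum_eq_zero_iff_of_nonneg (fun ξ _ => mul_self_nonneg (a ξ))).mp hrest ξ
      (by simp [hx1, hx2])
    exact mul_self_eq_zero.mp this
  refine ⟨ξ₁, ξ₂, ξ₁.2, ξ₂.2, fun h => hne (Subtype.ext h), ?_⟩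
  rw [hdecomp, ← Finset.add_sum_erase _ (fun ξ : IrrCharacter G => (a ξ : ℂ) • (ξ : G → ℂ))
    (Finset.mem_univ ξ₁), ← Finset.add_sum_erase _ (fun ξ : IrrCharacter G => (a ξ : ℂ) • (ξ : G → ℂ)) hmem2,
    Finset.sum_eq_zero, ha1, ha2]
  · simp [sub_eq_add_neg]
  · intro ξ hξ
    simp only [Finset.mem_erase, Finset.mem_univ, and_true] at hξ
    rw [hzero ξ hξ.2 hξ.1]; simp

theorem classInner_sub_right' {G : Type*} [Group G] [Fintype G] (φ ψ₁ ψ₂ : G → ℂ) :
    classInner φ (ψ₁ - ψ₂) = classInner φ ψ₁ - classInner φ ψ₂ := by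
  simp [classInner, mul_sub, Finset.sum_sub_distrib]

theorem classInner_neg_left' {G : Type*} [Group G] [Fintype G] (φ ψ : G → ℂ) :
    classInner (-φ) ψ = - classInner φ ψ := by
  simp [classInner, Finset.sum_neg_distrib]

theorem classInner_neg_right' {G : Type*} [Group G] [Fintype G] (φ ψ : G → ℂ) :
    classInner φ (-ψ) = - classInner φ ψ := by
  simp [classInner, Finset.sum_neg_distrib]

theorem conjFun_conjFun {X : Type*} (χ : X → ℂ) : conjFun (conjFun χ) = χ := by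
  funext x; simp [conjFun]

theorem classInner_conjFun {G : Type*} [Group G] [Fintype G] (φ ψ : G → ℂ) :
    classInner (conjFun φ) (conjFun ψ) = conj (classInner φ ψ) := by
  simp [classInner, conjFun, map_sum, map_mul]

/-- Let S be a nonempty set of irreducible characters of the finite group L, closed under complex conjugation and containing no real-valued member, and τ a linear isometry on the integer combinations of S vanishing at 1, with values virtual characters of G vanishing at 1. Then there is a choice R making (S, τ, R) a coherence system. -/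
theorem result {L : Type*} [Group L] [Fintype L] {G : Type*} [Group G] [Fintype G] (S : Set (L → ℂ)) (hS : S.Nonempty) (hirr : ∀ χ ∈ S, Cfsg.IsIrrCharacter L χ) (hconj : ∀ χ ∈ S, Cfsg.conjFun χ ∈ S ∧ Cfsg.conjFun χ ≠ χ) (τ : (L → ℂ) → (G → ℂ)) (hτ : Cfsg.IsLinearIsometryOn (Cfsg.zspanOn S {1}ᶜ) τ) (hτ1 : ∀ α ∈ Cfsg.zspanOn S {1}ᶜ, τ α 1 = 0) : ∃ R : (L → ℂ) → Finset (G → ℂ), Cfsg.IsCoherenceSystem S τ R := by
  classical
  have hmemE : ∀ χ ∈ S, χ - conjFun χ ∈ zspanOn S {1}ᶜ := by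
    intro χ hχ
    refine ⟨Submodule.sub_mem _ (Submodule.subset_span hχ)
      (Submodule.subset_span (hconj χ hχ).1), ?_⟩
    intro x hx
    have hx1 : x = 1 := by simpa using hx
    subst hx1
    obtain ⟨n, -, hn⟩ := Cfsg.Agent.S1509.irr_one_pos χ (hirr χ hχ)
    simp [conjFun, hn]
  have hnorm : ∀ χ ∈ S, classInner (χ - conjFun χ) (χ - conjFun χ) = 2 := by
    intro χ hχ
    have hc := hconj χ hχ
    rw [classInner_sub_left, classInner_sub_right', classInner_sub_right',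
      classInner_self_of_isIrrCharacter (hirr χ hχ),
      classInner_self_of_isIrrCharacter (hirr _ hc.1),
      classInner_of_isIrrCharacter_of_ne (hirr χ hχ) (hirr _ hc.1) hc.2.symm,
      classInner_of_isIrrCharacter_of_ne (hirr _ hc.1) (hirr χ hχ) hc.2]
    norm_num
  have hdata : ∀ χ ∈ S, ∃ ψ₁ ψ₂ : G → ℂ, IsIrrCharacter G ψ₁ ∧ IsIrrCharacter G ψ₂ ∧ ψ₁ ≠ ψ₂ ∧
      τ (χ - conjFun χ) = ψ₁ - ψ₂ := by
    intro χ hχ
    have hmem := hmemE χ hχ
    apply norm_two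
    · exact hτ.2.2.2 _ hmem
    · rw [hτ.2.2.1 _ hmem _ hmem]; exact hnorm χ hχ
    · exact hτ1 _ hmem
  choose! ψ₁ ψ₂ hψ₁ hψ₂ hψne hψeq using hdata
  have hne' : ∀ χ ∈ S, ψ₁ χ ≠ -ψ₂ χ := by
    intro χ hχ h
    have h1 := congrFun h 1
    obtain ⟨n₁, hn₁pos, hn₁⟩ := Cfsg.Agent.S1509.irr_one_pos _ (hψ₁ χ hχ)
    obtain ⟨n₂, hn₂pos, hn₂⟩ := Cfsg.Agent.S1509.irr_one_pos _ (hψ₂ χ hχ)
    rw [Pi.neg_apply, hn₁, hn₂] at h1
    have h2 : ((n₁ + n₂ : ℕ) : ℂ) = 0 := by push_cast; rw [h1]; ring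
    have h3 : n₁ + n₂ = 0 := by exact_mod_cast h2
    omega
  refine ⟨fun χ => {ψ₁ χ, -ψ₂ χ}, ?_⟩
  refine
    { nonempty := hS
      isCharacter := fun χ hχ => isCharacter_of_isIrrCharacter (hirr χ hχ)
      conj_mem := fun χ hχ => (hconj χ hχ).1
      conj_ne := fun χ hχ => (hconj χ hχ).2
      isometry := hτ
      map_one := hτ1
      orthogonal := fun χ hχ φ hφ hne =>
        classInner_of_isIrrCharacter_of_ne (hirr χ hχ) (hirr φ hφ) hne
      orthonormal := ?_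
      virtual := ?_
      sum_eq := ?_
      disjoint := ?_ }
  · intro χ hχ α hα β hβ
    simp only [Finset.mem_insert, Finset.mem_singleton] at hα hβ
    rcases hα with rfl | rfl <;> rcases hβ with rfl | rfl
    · rw [if_pos rfl]; exact classInner_self_of_isIrrCharacter (hψ₁ χ hχ)
    · rw [if_neg (hne' χ hχ), classInner_neg_right',
        classInner_of_isIrrCharacter_of_ne (hψ₁ χ hχ) (hψ₂ χ hχ) (hψne χ hχ), neg_zero]
    · rw [if_neg (fun h => hne' χ hχ h.symm), classInner_neg_left',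
        classInner_of_isIrrCharacter_of_ne (hψ₂ χ hχ) (hψ₁ χ hχ) (hψne χ hχ).symm, neg_zero]
    · rw [if_pos rfl, classInner_neg_left', classInner_neg_right', neg_neg]
      exact classInner_self_of_isIrrCharacter (hψ₂ χ hχ)
  · intro χ hχ α hα
    simp only [Finset.mem_insert, Finset.mem_singleton] at hα
    rcases hα with rfl | rfl
    · exact ⟨ψ₁ χ, 0, isCharacter_of_isIrrCharacter (hψ₁ χ hχ), isCharacter_zero, by simp⟩
    · exact ⟨0, ψ₂ χ, isCharacter_zero, isCharacter_of_isIrrCharacter (hψ₂ χ hχ), by simp⟩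
  · intro χ hχ
    rw [Finset.sum_pair (hne' χ hχ), hψeq χ hχ, sub_eq_add_neg]
  · intro χ hχ φ hφ h1 h2 α hα β hβ
    have hcχ := hconj χ hχ
    have hcφ := hconj φ hφ
    have e1 : classInner (conjFun φ) (conjFun χ) = 0 := by
      rw [classInner_conjFun, h1, map_zero]
    have e2 : classInner (conjFun φ) χ = 0 := by
      have := classInner_conjFun φ (conjFun χ)
      rw [conjFun_conjFun, h2, map_zero] at this
      exact this
    have hmix : classInner (ψ₁ φ - ψ₂ φ) (((1 : ℝ) : ℂ) • ψ₁ χ - ((1 : ℝ) : ℂ) • ψ₂ χ) = 0 := by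
      rw [Complex.ofReal_one, one_smul, one_smul, ← hψeq φ hφ, ← hψeq χ hχ,
        hτ.2.2.1 _ (hmemE φ hφ) _ (hmemE χ hχ), classInner_sub_left, classInner_sub_right',
        classInner_sub_right', h1, h2, e1, e2]
      norm_num
    have hv : ∀ ξ ∈ S, ψ₁ ξ 1 = ψ₂ ξ 1 := by
      intro ξ hξ
      have := hτ1 _ (hmemE ξ hξ)
      rw [hψeq ξ hξ, Pi.sub_apply] at this
      exact sub_eq_zero.mp this
    obtain ⟨r1, r2, r3, r4⟩ := Cfsg.Agent.S1509.result (ψ₁ φ) (ψ₂ φ) (ψ₁ χ) (ψ₂ χ)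
      (Or.inl (hψ₁ φ hφ)) (Or.inl (hψ₂ φ hφ)) (Or.inl (hψ₁ χ hχ)) (Or.inl (hψ₂ χ hχ)) 1 1
      one_ne_zero one_ne_zero
      (classInner_of_isIrrCharacter_of_ne (hψ₁ φ hφ) (hψ₂ φ hφ) (hψne φ hφ))
      (classInner_of_isIrrCharacter_of_ne (hψ₁ χ hχ) (hψ₂ χ hχ) (hψne χ hχ))
      hmix (hv φ hφ) (by rw [hv χ hχ])
    simp only [Finset.mem_insert, Finset.mem_singleton] at hα hβ
    rcases hα with rfl | rfl <;> rcases hβ with rfl | rfl
    · exact r1
    · rw [classInner_neg_right', r2, neg_zero]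
    · rw [classInner_neg_left', r3, neg_zero]
    · rw [classInner_neg_left', classInner_neg_right', r4, neg_zero, neg_zero]

end Cfsg.Agent.S1514
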