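import Cfsg.Statements.S1519
import Cfsg.Agent.Lib.Helper16_CohBasic
import Cfsg.Agent.Lib.Helper16_CohDeg
import Cfsg.Agent.Lib.Helper16_CohDescent
import Cfsg.Agent.Lib.Helper17_CohSys

set_option autoImplicit false
open Cfsg

namespace Cfsg.Agent.S1519

open Cfsg.Agent.Lib.Helper17_CohSys Cfsg.Agent.Lib.Helper16_CohBasic
  Cfsg.Agent.Lib.Helper16_CohDeg Cfsg.Agent.Lib.Helper16_CohDescent

/-- Let K be a solvable normal subgroup of the finite group L and (S, τ, R) a coherence system from L to G where S is the set of functions induced from non-principal irreducible characters of K; write S(A) for those induced from characters whose kernel contains A. Let A, B, C, D be normal subgroups of L with A < K, B < K, B ≤ D ≤ C ≤ K and every commutator of D with C in B. If S(A) is coherent and 4 * [L:C]^2 * [C:D] < ([K:A] − 1)^2, then S(B) is coherent. -/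
theorem result {L : Type*} [Group L] [Fintype L] {G : Type*} [Group G] [Fintype G] (K : Subgroup L) [hK : K.Normal] (hsolv : Group.IsSolvable K) (τ : (L → ℂ) → (G → ℂ)) (R : (L → ℂ) → Finset (G → ℂ)) (hS : Cfsg.IsCoherenceSystem (Cfsg.inducedIrrAbove K ⊥) τ R) (A B C D : Subgroup L) [A.Normal] [B.Normal] [C.Normal] [D.Normal] (hAK : A < K) (hBK : B < K) (hBD : B ≤ D) (hDC : D ≤ C) (hCK : C ≤ K) (hcent : ∀ x ∈ D, ∀ y ∈ C, x * y * x⁻¹ * y⁻¹ ∈ B) (hA : Cfsg.IsCoherent (Cfsg.inducedIrrAbove K A) {1}ᶜ τ) (hlt : 4 * C.index ^ 2 * D.relIndex C < (A.relIndex K - 1) ^ 2) : Cfsg.IsCoherent (Cfsg.inducedIrrAbove K B) {1}ᶜ τ := by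
  classical
  have hBS : Cfsg.inducedIrrAbove K B ⊆ Cfsg.inducedIrrAbove K ⊥ :=
    inducedIrrAbove_mono K bot_le
  obtain ⟨X, -, -, hBX, -, hXcoh⟩ := coherent_of_degree_bound K hsolv τ R hS A
    (not_le_of_gt hAK) hA (Cfsg.inducedIrrAbove K B) hBS (by
      intro φ hφ k hk
      obtain ⟨θ, m, hθ, hker, -, hm, h1⟩ := deg_of_mem hφ
      have hkm : k = K.index * m := by
        rw [hk] at h1
        exact_mod_cast h1
      have h2 := deg_bound K B C D hBD hDC hCK hcent hθ hker m hm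
      rw [← hkm] at h2
      have h3 : (2 * k) ^ 2 < (A.relIndex K - 1) ^ 2 := by
        calc (2 * k) ^ 2 = 4 * k ^ 2 := by ring
          _ ≤ 4 * (C.index ^ 2 * D.relIndex C) := Nat.mul_le_mul_left _ h2
          _ = 4 * C.index ^ 2 * D.relIndex C := by ring
          _ < _ := hlt
      have h4 : 2 * k < A.relIndex K - 1 := lt_of_pow_lt_pow_left₀ 2 (Nat.zero_le _) h3
      omega)
  refine isCoherent_of_subset hBX hXcoh ?_
  obtain ⟨lam, -, -, hlamB⟩ := exists_linear_mem K B hsolv (not_le_of_gt hBK)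
  refine ⟨Cfsg.indFun K lam - Cfsg.conjFun (Cfsg.indFun K lam),
    sub_mem_zspanOn hlamB (conj_mem_inducedIrrAbove K B hlamB)
      (conjFun_apply_one (hS.isCharacter _ (hBS hlamB))).symm, ?_⟩
  intro h
  exact hS.conj_ne _ (hBS hlamB) (sub_eq_zero.1 h).symm

end Cfsg.Agent.S1519
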