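import Cfsg.Statements.S1520
import Cfsg.Agent.S1519
import Cfsg.Agent.Lib.Helper16_CohBasic
import Cfsg.Agent.Lib.Helper16_CohNil

set_option autoImplicit false
open Cfsg

namespace Cfsg.Agent.S1520

open Cfsg.Agent.Lib.Helper16_CohBasic Cfsg.Agent.Lib.Helper16_CohNil

/-- Let K be a solvable normal subgroup of the finite group L and (S, τ, R) a coherence system from L to G with S the functions induced from non-principal irreducible characters of K; S(A) the members of S induced from characters whose kernel contains A. Let M ≤ H₁ ≤ H ≤ K be normal subgroups of L such that every term of the lower central series of H eventually lies in M (H/M nilpotent), S(H₁) is coherent and [H:H₁] > 4 * [L:K]^2 + 1. Then S(M) is coherent. -/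
theorem result {L : Type*} [Group L] [Fintype L] {G : Type*} [Group G] [Fintype G] (K : Subgroup L) [hK : K.Normal] (hsolv : Group.IsSolvable K) (τ : (L → ℂ) → (G → ℂ)) (R : (L → ℂ) → Finset (G → ℂ)) (hS : Cfsg.IsCoherenceSystem (Cfsg.inducedIrrAbove K ⊥) τ R) (M H₁ H : Subgroup L) [M.Normal] [H₁.Normal] [H.Normal] (hMH₁ : M ≤ H₁) (hH₁H : H₁ ≤ H) (hHK : H ≤ K) [(M.subgroupOf H).Normal] (hnil : Group.IsNilpotent (↥H ⧸ M.subgroupOf H)) (hcoh : Cfsg.IsCoherent (Cfsg.inducedIrrAbove K H₁) {1}ᶜ τ) (hbig : 4 * K.index ^ 2 + 1 < H₁.relIndex H) : Cfsg.IsCoherent (Cfsg.inducedIrrAbove K M) {1}ᶜ τ := by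
  classical
  have hH₁ne : H₁ ≠ H := by
    intro h
    rw [h, Subgroup.relIndex_self] at hbig
    omega
  have hH₁K : H₁ < K := lt_of_lt_of_le (lt_of_le_of_ne hH₁H hH₁ne) hHK
  obtain ⟨c, hc⟩ := exists_lcs_le M H hnil
  have key : ∀ i, Cfsg.IsCoherent
      (Cfsg.inducedIrrAbove K (H₁ ⊓ H.lowerCentralSeries i)) {1}ᶜ τ := by
    intro i
    induction i with
    | zero =>
      rw [Subgroup.lowerCentralSeries_zero, inf_eq_left.mpr hH₁H]
      exact hcoh
    | succ i ih =>
      have hanti : H.lowerCentralSeries (i + 1) ≤ H.lowerCentralSeries i :=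
        Subgroup.lowerCentralSeries_antitone H (Nat.le_succ i)
      have hAH₁ : H₁ ⊓ H.lowerCentralSeries i ≤ H₁ := inf_le_left
      have hAH : H₁ ⊓ H.lowerCentralSeries i ≤ H := hAH₁.trans hH₁H
      refine Cfsg.Agent.S1519.result K hsolv τ R hS (H₁ ⊓ H.lowerCentralSeries i)
        (H₁ ⊓ H.lowerCentralSeries (i + 1)) H (H₁ ⊓ H.lowerCentralSeries i)
        (lt_of_le_of_lt hAH₁ hH₁K) (lt_of_le_of_lt inf_le_left hH₁K)
        (inf_le_inf_left _ hanti) hAH hHK ?_ ih ?_
      · intro x hx y hy
        refine ⟨?_, ?_⟩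
        · have h1 : y * x⁻¹ * y⁻¹ ∈ H₁ :=
            (inferInstance : H₁.Normal).conj_mem _ (H₁.inv_mem hx.1) y
          have h2 := H₁.mul_mem hx.1 h1
          simpa [mul_assoc] using h2
        · rw [Subgroup.lowerCentralSeries_succ]
          have := Subgroup.commutator_mem_commutator hx.2 hy
          rwa [commutatorElement_def] at this
      · have h1 : H.relIndex K * K.index = H.index := Subgroup.relIndex_mul_index hHK
        have h2 : (H₁ ⊓ H.lowerCentralSeries i).relIndex H * H.relIndex K =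
            (H₁ ⊓ H.lowerCentralSeries i).relIndex K := Subgroup.relIndex_mul_relIndex _ _ _ hAH hHK
        have h3 : H₁.relIndex H ∣ (H₁ ⊓ H.lowerCentralSeries i).relIndex H :=
          Subgroup.relIndex_dvd_of_le_left H hAH₁
        have h4 : (H₁ ⊓ H.lowerCentralSeries i).relIndex H ≠ 0 :=
          Subgroup.index_ne_zero_of_finite (H := (H₁ ⊓ H.lowerCentralSeries i).subgroupOf H)
        have h5 : H₁.relIndex H ≤ (H₁ ⊓ H.lowerCentralSeries i).relIndex H :=
          Nat.le_of_dvd (Nat.pos_of_ne_zero h4) h3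
        have hk : 0 < H.relIndex K :=
          Nat.pos_of_ne_zero (Subgroup.index_ne_zero_of_finite (H := H.subgroupOf K))
        have := arith_descent K.index (H.relIndex K) ((H₁ ⊓ H.lowerCentralSeries i).relIndex H)
          hk (lt_of_lt_of_le hbig h5)
        rw [h1, h2] at this
        exact this
  have hsub : Cfsg.inducedIrrAbove K M ⊆
      Cfsg.inducedIrrAbove K (H₁ ⊓ H.lowerCentralSeries c) :=
    inducedIrrAbove_mono K (inf_le_right.trans hc)
  exact isCoherent_of_subset hsub (key c)
    (exists_ne_zero_zspanOn K hsolv hS M (not_le_of_gt (lt_of_le_of_lt hMH₁ hH₁K)))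

end Cfsg.Agent.S1520
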