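import Cfsg.Statements.S1521
import Cfsg.Agent.S1520
import Cfsg.Agent.Lib.Helper16_CohSub
import Cfsg.Agent.Lib.Helper16_FrobQuot
import Cfsg.Agent.Lib.Helper16_CohChief

set_option autoImplicit false
open Cfsg

namespace Cfsg.Agent.S1521

/-- Let K be a solvable normal subgroup of the finite group L of odd order and (S, τ, R) a coherence system from L to G with S the functions induced from non-principal irreducible characters of K; S(A) as before. Let M ≤ K be normal in L with K/M nilpotent, H₁ = [K, K] ⊔ M, H₁ < K < L, and suppose every element of K outside H₁ is centralised modulo H₁ only from inside K (L/H₁ is a Frobenius group with kernel K/H₁). Suppose one of the following: some normal subgroup of L lies strictly between H₁ and K; or [K:H₁] > 4[L:K]^2 + 1; or [K:M] is not a prime power; or [K,K] ≤ M; or [K:M] is a power of a prime p with [L:K] dividing p − 1. Then S(M) is coherent. -/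
theorem result {L : Type*} [Group L] [Fintype L] {G : Type*} [Group G] [Fintype G] (K : Subgroup L) [hK : K.Normal] (hsolv : Group.IsSolvable K) (τ : (L → ℂ) → (G → ℂ)) (R : (L → ℂ) → Finset (G → ℂ)) (hS : Cfsg.IsCoherenceSystem (Cfsg.inducedIrrAbove K ⊥) τ R) (hodd : Odd (Nat.card L)) (M : Subgroup L) [M.Normal] (hMK : M ≤ K) [(M.subgroupOf K).Normal] (hnil : Group.IsNilpotent (↥K ⧸ M.subgroupOf K)) (H₁ : Subgroup L) (hH₁ : H₁ = ⁅K, K⁆ ⊔ M) (hH₁K : H₁ < K) (hKL : K < ⊤) (hfrob : ∀ k ∈ K, k ∉ H₁ → ∀ x : L, x * k * x⁻¹ * k⁻¹ ∈ H₁ → x ∈ K) (hgood : (∃ N : Subgroup L, N.Normal ∧ H₁ < N ∧ N < K) ∨ 4 * K.index ^ 2 + 1 < H₁.relIndex K ∨ (¬ ∃ p m : ℕ, p.Prime ∧ M.relIndex K = p ^ m) ∨ ⁅K, K⁆ ≤ M ∨ (∃ p m : ℕ, p.Prime ∧ M.relIndex K = p ^ m ∧ K.index ∣ p - 1)) : Cfsg.IsCoherent (Cfsg.inducedIrrAbove K M) {1}ᶜ τ := by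
  classical
  subst hH₁
  have hcomm : ⁅K, K⁆ ≤ ⁅K, K⁆ ⊔ M := le_sup_left
  have hMH₁ : M ≤ ⁅K, K⁆ ⊔ M := le_sup_right
  have hcohH₁ := Cfsg.Agent.Lib.Helper16_CohSub.isCoherent_of_commutator_le K hsolv τ R hS
    (⁅K, K⁆ ⊔ M) hcomm (not_le_of_gt hH₁K)
  have hfin : Finite L := inferInstance
  -- the two terminal cases
  have hbig : 4 * K.index ^ 2 + 1 < (⁅K, K⁆ ⊔ M).relIndex K →
      Cfsg.IsCoherent (Cfsg.inducedIrrAbove K M) {1}ᶜ τ := fun h =>
    Cfsg.Agent.S1520.result K hsolv τ R hS M (⁅K, K⁆ ⊔ M) K hMH₁ hH₁K.le le_rfl hnil hcohH₁ h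
  have hab : ⁅K, K⁆ ≤ M → Cfsg.IsCoherent (Cfsg.inducedIrrAbove K M) {1}ᶜ τ := by
    intro h
    have : ⁅K, K⁆ ⊔ M = M := sup_eq_right.mpr h
    rw [this] at hcohH₁
    exact hcohH₁
  have hinter : (∃ N : Subgroup L, N.Normal ∧ ⁅K, K⁆ ⊔ M < N ∧ N < K) →
      4 * K.index ^ 2 + 1 < (⁅K, K⁆ ⊔ M).relIndex K := by
    rintro ⟨N, hNn, h1, h2⟩
    exact Cfsg.Agent.Lib.Helper16_FrobQuot.bound_of_intermediate hodd K (⁅K, K⁆ ⊔ M) N hcomm h1 h2
      hfrob
  rcases hgood with h | h | h | h | h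
  · exact hbig (hinter h)
  · exact hbig h
  · by_cases hno : ∃ N : Subgroup L, N.Normal ∧ ⁅K, K⁆ ⊔ M < N ∧ N < K
    · exact hbig (hinter hno)
    · exact absurd (Cfsg.Agent.Lib.Helper16_CohChief.prime_pow_of_no_intermediate K M hMK hnil
        hH₁K hno) h
  · exact hab h
  · by_cases hb : 4 * K.index ^ 2 + 1 < (⁅K, K⁆ ⊔ M).relIndex K
    · exact hbig hb
    · obtain ⟨p, m, hp, hpm, hdvd⟩ := h
      exact hab (Cfsg.Agent.Lib.Helper16_CohChief.commutator_le_of_prime_pow hodd K M hMK hnil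
        hH₁K (not_lt.mp hb) hp hpm hdvd)

end Cfsg.Agent.S1521
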