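import Cfsg.Statements.S1522
import Cfsg.Agent.S1521
import Cfsg.Agent.Lib.Helper16_CohIrr
import Cfsg.Agent.Lib.Helper16_CohPGroup
import Cfsg.Agent.Lib.Helper16_FrobQuot

set_option autoImplicit false
open Cfsg

namespace Cfsg.Agent.S1522

/-- Let K be a nilpotent normal subgroup of the finite group L of odd order with [K,K] < K < L and L/[K,K] a Frobenius group with kernel K/[K,K] (elements of K outside [K,K] are centralised modulo [K,K] only from inside K); let (S, τ, R) be a coherence system from L to G with S the functions induced from non-principal irreducible characters of K. Let Z be a nontrivial normal subgroup of L contained in the centre of K, and suppose every member of S outside S(Z) is an irreducible character of L. Then S minus S(Z) is the set of irreducible characters χ of L with χ z ≠ χ 1 for some z ∈ Z, and it is coherent. -/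
theorem result {L : Type*} [Group L] [Fintype L] {G : Type*} [Group G] [Fintype G] (K : Subgroup L) [hK : K.Normal] (hsolv : Group.IsSolvable K) (τ : (L → ℂ) → (G → ℂ)) (R : (L → ℂ) → Finset (G → ℂ)) (hS : Cfsg.IsCoherenceSystem (Cfsg.inducedIrrAbove K ⊥) τ R) (hodd : Odd (Nat.card L)) (hnil : Group.IsNilpotent K) (hH₁K : ⁅K, K⁆ < K) (hKL : K < ⊤) (hfrob : ∀ k ∈ K, k ∉ ⁅K, K⁆ → ∀ x : L, x * k * x⁻¹ * k⁻¹ ∈ ⁅K, K⁆ → x ∈ K) (Z : Subgroup L) [Z.Normal] (hZ1 : Z ≠ ⊥) (hZK : Z ≤ K) (hZc : ∀ z ∈ Z, ∀ k ∈ K, z * k = k * z) (hirr : ∀ χ ∈ Cfsg.inducedIrrAbove K ⊥ \ Cfsg.inducedIrrAbove K Z, Cfsg.IsIrrCharacter L χ) : Cfsg.inducedIrrAbove K ⊥ \ Cfsg.inducedIrrAbove K Z = {χ | Cfsg.IsIrrCharacter L χ ∧ ∃ z ∈ Z, χ z ≠ χ 1} ∧ Cfsg.IsCoherent (Cfsg.inducedIrrAbove K ⊥ \ Cfsg.inducedIrrAbove K Z) {1}ᶜ τ := by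
  classical
  refine ⟨Cfsg.Agent.Lib.Helper16_CohIrr.diff_eq_irr K Z hZK hirr, ?_⟩
  by_cases hpp : ∃ p m : ℕ, p.Prime ∧ Nat.card K = p ^ m
  · obtain ⟨p, m, hp, hpm⟩ := hpp
    have hfin : Finite L := inferInstance
    -- `p` is odd
    have hm0 : m ≠ 0 := by
      rintro rfl
      rw [pow_zero] at hpm
      have hKbot : K = ⊥ := Subgroup.card_eq_one.1 hpm
      rw [hKbot] at hH₁K
      exact not_lt_bot hH₁K
    have hpL : p ∣ Nat.card L :=
      dvd_trans (hpm ▸ dvd_pow_self p hm0) (Subgroup.card_subgroup_dvd_card K)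
    have hp2 : p ≠ 2 := by
      rintro rfl
      exact (Nat.not_even_iff_odd.2 hodd) (even_iff_two_dvd.2 hpL)
    have hp3 : 3 ≤ p := by
      have := hp.two_le
      omega
    -- `|L : K|` is prime to `p`
    have hdvd := Cfsg.Agent.Lib.Helper16_FrobQuot.index_dvd_relIndex_sub_one K ⁅K, K⁆ K le_rfl
      le_rfl hfrob
    have hrel_dvd : (⁅K, K⁆ : Subgroup L).relIndex K ∣ p ^ m := by
      rw [← hpm]
      exact Subgroup.index_dvd_card _
    obtain ⟨n, -, hn⟩ := (Nat.dvd_prime_pow hp).1 hrel_dvd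
    have hn0 : n ≠ 0 := by
      rintro rfl
      rw [pow_zero] at hn
      exact (not_le_of_gt hH₁K) (Subgroup.relIndex_eq_one.mp hn)
    have hcop : Nat.Coprime K.index p := by
      rw [Nat.coprime_comm, Nat.Prime.coprime_iff_not_dvd hp]
      intro hpe
      have h1 : p ∣ p ^ n - 1 := by
        rw [← hn]
        exact dvd_trans hpe hdvd
      have h2 : p ∣ p ^ n := dvd_pow_self p hn0
      have h3 : 0 < p ^ n := pow_pos hp.pos n
      have h4 : p ∣ p ^ n - (p ^ n - 1) := Nat.dvd_sub h2 h1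
      have h5 : p ^ n - (p ^ n - 1) = 1 := by omega
      rw [h5] at h4
      exact hp.one_lt.ne' (Nat.dvd_one.1 h4)
    exact Cfsg.Agent.Lib.Helper16_CohPGroup.coherent_diff_of_pgroup K τ R hS Z hZ1 hZK hZc hirr hp
      hp3 hpm hcop
  · have hnilq : Group.IsNilpotent (↥K ⧸ (⊥ : Subgroup L).subgroupOf K) := inferInstance
    have hcoh := Cfsg.Agent.S1521.result K hsolv τ R hS hodd ⊥ bot_le hnilq ⁅K, K⁆
      (sup_bot_eq _).symm hH₁K hKL hfrob (Or.inr (Or.inr (Or.inl (by
        rw [Subgroup.relIndex_bot_left]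
        exact hpp))))
    exact Cfsg.Agent.Lib.Helper16_CohPGroup.coherent_diff_of_coherent K hS Z hZ1 hZK hirr hcoh

end Cfsg.Agent.S1522
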