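-- PENDING (helper76): final statement file for S1427 (B-G Lemma 13.2).  Becomes Cfsg/Agent/S1427.lean as soon
-- as Cfsg.Agent.S1416, Cfsg.Agent.S1417 and Cfsg.Agent.S1418 are landed (only S1416 first clause,
-- S1417 whole statement, S1418 first clause are used).  The lib Cfsg.Agent.Lib.Helper76_BG13c is landed and
-- axiom-clean; the glue below was type-checked against the frozen statements.
import Cfsg.Statements.S1427
import Cfsg.Agent.S1416
import Cfsg.Agent.S1417
import Cfsg.Agent.S1418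
import Cfsg.Agent.Lib.Helper76_BG13c

set_option autoImplicit false
open Cfsg

namespace Cfsg.Agent.S1427

/-- Let G be a minimal simple group of odd order, M a maximal subgroup, E a complement to M_σ in M, and S a nontrivial cyclic Sylow subgroup of E (for some prime). Then M_σ ∩ C_G(x) = M_σ ∩ C_G(S) for every non-identity x ∈ S. -/
theorem result {G : Type*} [Group G] [Finite G] (hG : Cfsg.IsMinSimpleOddOrder G)
    (M : Subgroup G) (hM : IsCoatom M) (E : Subgroup G) (hE : Cfsg.IsComplIn E (Cfsg.sigmaCore M) M) (p : ℕ) [Fact p.Prime] (S : Sylow p E) (hS1 : (S : Subgroup E) ≠ ⊥) (hSc : IsCyclic (S : Subgroup E)) :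
    ∀ x ∈ (S : Subgroup E).map E.subtype, x ≠ 1 →
        Cfsg.sigmaCore M ⊓ Subgroup.centralizer ({x} : Set G) = Cfsg.sigmaCore M ⊓ Subgroup.centralizer (((S : Subgroup E).map E.subtype : Subgroup G) : Set G) := by
  have hC : Cfsg.Agent.Lib.Helper73_BG12.CentHyp G := fun M hM p _ A hAM hAe hA2 =>
    (Cfsg.Agent.S1416.result hG M hM p A ⟨hAM, hAe, hA2⟩).1
  have h17 : Cfsg.Agent.Lib.Helper79_BG141.Hyp1417 G := fun M hM p _ hp A hA =>
    Cfsg.Agent.S1417.result hG M hM p hp A hA
  have h18 : Cfsg.Agent.Lib.Helper76_BG13c.Hyp1418a G := fun M hM E hE p _ hp A hAE hAe hA2 =>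
    (Cfsg.Agent.S1418.result hG M hM E hE p hp A ⟨hAE, hAe, hA2⟩).1.1
  exact Cfsg.Agent.Lib.Helper76_BG13c.bg13_2 hG hC h17 h18 M hM E hE p S hS1 hSc

end Cfsg.Agent.S1427
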