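import Cfsg.Statements.S0950
import Cfsg.Agent.Lib.Helper35_FrobeniusNPC
import Mathlib

set_option autoImplicit false
open Cfsg

namespace Cfsg.Agent.S0950

open Cfsg.Agent.Lib.Helper35_FrobeniusNPC

/-- the quaternion group of order 8 -/
abbrev Q8 := QuaternionGroup 2

theorem Q1 : ∀ x : Q8, x^4 = 1 := by decide
theorem Q2 : ∀ x y : Q8, x^2 = 1 → y^2 = 1 → x ≠ 1 → y ≠ 1 → x = y := by decide
theorem Q3 : ∀ x w : Q8, x^2 ≠ 1 → w^2 ≠ 1 → w * x = x * w → w = x ∨ w = x⁻¹ := by decide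

set_option maxRecDepth 100000 in
set_option synthInstance.maxSize 1000 in
set_option synthInstance.maxHeartbeats 200000 in
theorem Q4 : ∀ x y w : Q8, x^2 ≠ 1 → y^2 ≠ 1 → w^2 ≠ 1 → y ≠ x → y ≠ x⁻¹ →
   (w = x ∨ w = x⁻¹ ∨ w = y ∨ w = y⁻¹ ∨ w = x*y ∨ w = (x*y)⁻¹) := by decide

set_option maxRecDepth 100000 in
theorem Q6 : ∀ x s t : Q8, x^2 ≠ 1 → (s*x = x*s ↔ t*x = x*t) →
   (s⁻¹*t = 1 ∨ s⁻¹*t = x ∨ s⁻¹*t = x^2 ∨ s⁻¹*t = x^3) := by decide

section transfer

variable {G : Type*} [Group G] (ι : Q8 →* G) (hι : Function.Injective ι)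
include hι

theorem G1 {x : G} (hx : x ∈ ι.range) : x^4 = 1 := by
  obtain ⟨q, rfl⟩ := hx
  rw [← map_pow, Q1 q, map_one]

theorem G2 {x y : G} (hx : x ∈ ι.range) (hy : y ∈ ι.range) (h1 : x^2 = 1) (h2 : y^2 = 1)
    (h3 : x ≠ 1) (h4 : y ≠ 1) : x = y := by
  obtain ⟨q, rfl⟩ := hx
  obtain ⟨r, rfl⟩ := hy
  simp only [← map_pow, map_eq_one_iff ι hι, ne_eq] at h1 h2 h3 h4
  rw [Q2 q r h1 h2 h3 h4]

theorem G3 {x w : G} (hx : x ∈ ι.range) (hw : w ∈ ι.range) (h1 : x^2 ≠ 1) (h2 : w^2 ≠ 1)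
    (hc : w * x = x * w) : w = x ∨ w = x⁻¹ := by
  obtain ⟨q, rfl⟩ := hx
  obtain ⟨r, rfl⟩ := hw
  simp only [← map_pow, ← map_mul, ← map_inv, map_eq_one_iff ι hι, ne_eq, hι.eq_iff] at h1 h2 hc ⊢
  exact Q3 q r h1 h2 hc

theorem G4 {x y w : G} (hx : x ∈ ι.range) (hy : y ∈ ι.range) (hw : w ∈ ι.range)
    (h1 : x^2 ≠ 1) (h2 : y^2 ≠ 1) (h3 : w^2 ≠ 1) (h4 : y ≠ x) (h5 : y ≠ x⁻¹) :
    w = x ∨ w = x⁻¹ ∨ w = y ∨ w = y⁻¹ ∨ w = x*y ∨ w = (x*y)⁻¹ := by
  obtain ⟨q, rfl⟩ := hx
  obtain ⟨r, rfl⟩ := hy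
  obtain ⟨u, rfl⟩ := hw
  simp only [← map_pow, ← map_mul, ← map_inv, map_eq_one_iff ι hι, ne_eq, hι.eq_iff]
    at h1 h2 h3 h4 h5 ⊢
  exact Q4 q r u h1 h2 h3 h4 h5

theorem G6 {x s t : G} (hx : x ∈ ι.range) (hs : s ∈ ι.range) (ht : t ∈ ι.range)
    (h1 : x^2 ≠ 1) (h2 : s*x = x*s ↔ t*x = x*t) :
    s⁻¹*t = 1 ∨ s⁻¹*t = x ∨ s⁻¹*t = x^2 ∨ s⁻¹*t = x^3 := by
  obtain ⟨q, rfl⟩ := hx
  obtain ⟨r, rfl⟩ := hs
  obtain ⟨u, rfl⟩ := ht
  simp only [← map_pow, ← map_mul, ← map_inv, map_eq_one_iff ι hι, ne_eq, hι.eq_iff]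
    at h1 h2 ⊢
  exact Q6 q r u h1 h2

end transfer

section general

variable {G : Type*} [Group G]

theorem commute_of_sq {g x : G} (hodd : (orderOf g).Coprime 2) (h : Commute (g^2) x) :
    Commute g x := by
  obtain ⟨m, hm⟩ := hodd.odd_of_right
  have hg : g = (g^2)^(m+1) := by
    rw [← pow_mul, show 2*(m+1) = orderOf g + 1 by omega, pow_succ, pow_orderOf_eq_one, one_mul]
  rw [hg]
  exact h.pow_left _

theorem coprime_sq {g : G} (hodd : (orderOf g).Coprime 2) : (orderOf (g^2)).Coprime 2 :=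
  Nat.Coprime.coprime_dvd_left (orderOf_pow_dvd 2) hodd

/-- an element of odd order inverting or fixing `h` fixes `h` -/
theorem conj_eq_of_or {g h : G} (hodd : (orderOf g).Coprime 2)
    (hh : g * h * g⁻¹ = h ∨ g * h * g⁻¹ = h⁻¹) : g * h * g⁻¹ = h := by
  rcases hh with hh | hh
  · exact hh
  · have h2 : g^2 * h * (g^2)⁻¹ = h := by
      have : g^2 * h * (g^2)⁻¹ = g * (g * h * g⁻¹) * g⁻¹ := by
        rw [pow_two, mul_inv_rev]; simp only [mul_assoc]
      rw [this, hh]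
      have : g * h⁻¹ * g⁻¹ = (g * h * g⁻¹)⁻¹ := by group
      rw [this, hh, inv_inv]
    have hc : Commute (g^2) h := by
      have := mul_inv_eq_iff_eq_mul.mp h2
      exact this
    have := commute_of_sq hodd hc
    rw [this.eq, mul_inv_cancel_right]

theorem map_conj_zpowers (n x : G) :
    (Subgroup.zpowers x).map (MulAut.conj n).toMonoidHom = Subgroup.zpowers (n * x * n⁻¹) := by
  rw [MonoidHom.map_zpowers]; rfl

theorem orderOf_eq_four {x : G} (h4 : x^4 = 1) (h2 : x^2 ≠ 1) : orderOf x = 4 := by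
  have : Fact (Nat.Prime 2) := ⟨Nat.prime_two⟩
  have := orderOf_eq_prime_pow (x := x) (p := 2) (n := 1) (by simpa using h2) (by simpa using h4)
  simpa using this

theorem eq_zpowers_of_card_four [Finite G] {A : Subgroup G} (hA : Nat.card A = 4) {x : G}
    (hx : x ∈ A) (h4 : x^4 = 1) (h2 : x^2 ≠ 1) : A = Subgroup.zpowers x := by
  symm
  apply Subgroup.eq_of_le_of_card_ge (Subgroup.zpowers_le.mpr hx)
  rw [Nat.card_zpowers, orderOf_eq_four h4 h2, hA]

end general

section main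

variable {G : Type*} [Group G] [Finite G] (ι : Q8 →* G) (hι : Function.Injective ι)
include hι

/-- a subgroup of order 4 of `Q8` contains an element of order 4 -/
theorem exists_sq_ne_one {A : Subgroup G} (hA : A ≤ ι.range) (hA4 : Nat.card A = 4) :
    ∃ x ∈ A, x^2 ≠ 1 := by
  by_contra hcon
  push Not at hcon
  haveI : Fintype A := Fintype.ofFinite A
  have h2 : 2 < Fintype.card A := by rw [← Nat.card_eq_fintype_card, hA4]; norm_num
  obtain ⟨a, b, c, hab, hac, hbc⟩ := Fintype.two_lt_card_iff.mp h2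
  have key : ∀ u v : A, u ≠ v → u = 1 ∨ v = 1 := by
    intro u v huv
    by_contra hne
    push Not at hne
    apply huv
    apply Subtype.ext
    refine G2 ι hι (hA u.2) (hA v.2) (hcon _ u.2) (hcon _ v.2) ?_ ?_
    · intro h; exact hne.1 (Subtype.ext h)
    · intro h; exact hne.2 (Subtype.ext h)
  rcases key a b hab with h | h
  · rcases key b c hbc with h' | h'
    · exact hab (h.trans h'.symm)
    · exact hac (h.trans h'.symm)
  · rcases key a c hac with h' | h'
    · exact hab (h'.trans h.symm)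
    · exact hbc (h.trans h'.symm)

/-- an element of odd order normalizing a proper subgroup of `Q8` centralizes it -/
theorem claimC (hcard : Nat.card ι.range = 8) {Q : Subgroup G} (hQK : Q ≤ ι.range)
    (hne : Q ≠ ι.range) {g : G} (hg : g ∈ Subgroup.normalizer (Q : Set G))
    (hodd : (orderOf g).Coprime 2) : g ∈ Subgroup.centralizer (Q : Set G) := by
  rw [Subgroup.mem_centralizer_iff]
  intro h hh
  have ht : g * h * g⁻¹ ∈ Q := (Subgroup.mem_normalizer_iff.mp hg h).mp hh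
  suffices hs : g * h * g⁻¹ = h by
    have := mul_inv_eq_iff_eq_mul.mp hs
    exact this.symm
  by_cases h2 : h^2 = 1
  · have ht2 : (g * h * g⁻¹)^2 = 1 := by rw [conj_pow, h2, mul_one, mul_inv_cancel]
    by_cases h1 : h = 1
    · rw [h1, mul_one, mul_inv_cancel]
    · refine G2 ι hι (hQK ht) (hQK hh) ht2 h2 ?_ h1
      intro h'
      apply h1
      have : g * h * g⁻¹ = g * 1 * g⁻¹ := by rw [h', mul_one, mul_inv_cancel]
      exact mul_left_cancel (mul_right_cancel this)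
  · have h4 : h^4 = 1 := G1 ι hι (hQK hh)
    have ht2 : (g * h * g⁻¹)^2 ≠ 1 := by
      intro h'
      apply h2
      rw [conj_pow] at h'
      have : g * h^2 * g⁻¹ = g * 1 * g⁻¹ := by rw [h', mul_one, mul_inv_cancel]
      exact mul_left_cancel (mul_right_cancel this)
    -- `Q` has order 4
    have hle : Subgroup.zpowers h ≤ Q := Subgroup.zpowers_le.mpr hh
    have hd4 : 4 ∣ Nat.card Q := by
      have := Subgroup.card_dvd_of_le hle
      rwa [Nat.card_zpowers, orderOf_eq_four h4 h2] at this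
    have hd8 : Nat.card Q ∣ 8 := by
      have := Subgroup.card_dvd_of_le hQK
      rwa [hcard] at this
    have hne8 : Nat.card Q ≠ 8 := by
      intro h8
      apply hne
      apply Subgroup.eq_of_le_of_card_ge hQK
      rw [hcard, h8]
    have hQ4 : Nat.card Q = 4 := by
      obtain ⟨k, hk⟩ := hd4
      obtain ⟨m, hm⟩ := hd8
      rw [hk] at hm hne8 ⊢
      have hk2 : k ≤ 2 := by nlinarith [Nat.pos_of_ne_zero (show m ≠ 0 by rintro rfl; omega)]
      interval_cases k <;> omega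
    have hQz : Q = Subgroup.zpowers h := eq_zpowers_of_card_four hQ4 hh h4 h2
    have hcomm : g * h * g⁻¹ * h = h * (g * h * g⁻¹) := by
      rw [hQz] at ht
      obtain ⟨k, hk⟩ := Subgroup.mem_zpowers_iff.mp ht
      rw [← hk]
      exact ((Commute.refl h).zpow_left k).eq
    exact conj_eq_of_or hodd (G3 ι hι (hQK hh) (hQK ht) h2 ht2 hcomm)

/-- an element of odd order normalizing `Q8` and a cyclic subgroup of order 4 centralizes `Q8` -/
theorem claimD {g : G} (hg : g ∈ Subgroup.normalizer (ι.range : Set G))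
    (hodd : (orderOf g).Coprime 2) {x : G} (hx : x ∈ ι.range) (hx2 : x^2 ≠ 1)
    (hgx : g * x * g⁻¹ = x ∨ g * x * g⁻¹ = x⁻¹) : ∀ s ∈ ι.range, g * s * g⁻¹ = s := by
  have hgx' : g * x * g⁻¹ = x := conj_eq_of_or hodd hgx
  have hcx : Commute g x := mul_inv_eq_iff_eq_mul.mp hgx'
  intro s hs
  have ht : g * s * g⁻¹ ∈ ι.range := (Subgroup.mem_normalizer_iff.mp hg s).mp hs
  have hiff : s * x = x * s ↔ (g * s * g⁻¹) * x = x * (g * s * g⁻¹) := by
    have e1 : (g * s * g⁻¹) * x = g * (s * x) * g⁻¹ := by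
      calc (g * s * g⁻¹) * x = (g * s * g⁻¹) * (g * x * g⁻¹) := by rw [hgx']
        _ = g * (s * x) * g⁻¹ := by group
    have e2 : x * (g * s * g⁻¹) = g * (x * s) * g⁻¹ := by
      calc x * (g * s * g⁻¹) = (g * x * g⁻¹) * (g * s * g⁻¹) := by rw [hgx']
        _ = g * (x * s) * g⁻¹ := by group
    rw [e1, e2]
    constructor
    · intro h; rw [h]
    · intro h; exact mul_left_cancel (mul_right_cancel h)
  have h6 := G6 ι hι hx hs ht hx2 hiff
  obtain ⟨j, hj⟩ : ∃ j : ℕ, s⁻¹ * (g * s * g⁻¹) = x^j := by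
    rcases h6 with h | h | h | h
    · exact ⟨0, by rw [h, pow_zero]⟩
    · exact ⟨1, by rw [h, pow_one]⟩
    · exact ⟨2, h⟩
    · exact ⟨3, h⟩
  set a := s⁻¹ * (g * s * g⁻¹) with ha
  have hca : Commute g a := by rw [hj]; exact hcx.pow_right j
  have hsa : g * s * g⁻¹ = s * a := by rw [ha, mul_inv_cancel_left]
  have hind : ∀ n : ℕ, g^n * s * (g^n)⁻¹ = s * a^n := by
    intro n
    induction n with
    | zero => simp
    | succ n ih =>
      have : g^(n+1) * s * (g^(n+1))⁻¹ = g * (g^n * s * (g^n)⁻¹) * g⁻¹ := by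
        rw [pow_succ']; group
      rw [this, ih]
      have hcan : g * a^n * g⁻¹ = a^n := by
        rw [(hca.pow_right n).eq, mul_inv_cancel_right]
      calc g * (s * a^n) * g⁻¹ = (g * s * g⁻¹) * (g * a^n * g⁻¹) := by group
        _ = s * a * a^n := by rw [hcan, hsa]
        _ = s * a^(n+1) := by rw [pow_succ', mul_assoc]
  have h1 := hind (orderOf g)
  rw [pow_orderOf_eq_one, one_mul, inv_one, mul_one] at h1
  have han : a^(orderOf g) = 1 := by
    have : s * 1 = s * a^(orderOf g) := by rw [mul_one]; exact h1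
    exact (mul_left_cancel this).symm
  have ha4 : a^4 = 1 := by rw [hj, ← pow_mul, mul_comm, pow_mul, G1 ι hι hx, one_pow]
  have hd1 : orderOf a ∣ orderOf g := orderOf_dvd_of_pow_eq_one han
  have hd2 : orderOf a ∣ 4 := orderOf_dvd_of_pow_eq_one ha4
  have hcop : (orderOf g).Coprime 4 := by
    have : (orderOf g).Coprime (2^2) := Nat.Coprime.pow_right 2 hodd
    simpa using this
  have : orderOf a = 1 := Nat.eq_one_of_dvd_coprimes hcop hd1 hd2
  rw [orderOf_eq_one_iff] at this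
  rw [hsa, this, mul_one]

end main

/-- Let S be a Sylow 2-subgroup of the finite group G that is isomorphic to the quaternion group of order 8, and suppose S has no normal complement in G. Then any two subgroups of order 4 of S are conjugate by an element of the normalizer of S. -/
theorem result {G : Type*} [Group G] [Finite G] (S : Sylow 2 G) (e : (S : Subgroup G) ≃* QuaternionGroup 2) (hnc : ∀ N : Subgroup G, N.Normal → ¬ Subgroup.IsComplement' N (S : Subgroup G)) (A B : Subgroup G) (hA : A ≤ S) (hB : B ≤ S) (hA4 : Nat.card A = 4) (hB4 : Nat.card B = 4) : ∃ n ∈ Subgroup.normalizer ((S : Subgroup G) : Set G), B = A.map (MulAut.conj n).toMonoidHom := by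
  classical
  have : Fact (Nat.Prime 2) := ⟨Nat.prime_two⟩
  let ι : Q8 →* G := (S : Subgroup G).subtype.comp e.symm.toMonoidHom
  have hι : Function.Injective ι := (Subgroup.subtype_injective _).comp e.symm.injective
  have hrange : ι.range = (S : Subgroup G) := by
    ext x
    constructor
    · rintro ⟨q, rfl⟩
      exact (e.symm q).2
    · intro hx
      exact ⟨e ⟨x, hx⟩, by simp [ι]⟩
  have hcardK : Nat.card ι.range = 8 := by
    rw [hrange, Nat.card_congr e.toEquiv, Nat.card_eq_fintype_card, QuaternionGroup.card]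
  -- Step 1: Frobenius' criterion fails
  have hnF : ¬ FrobHyp 2 G := by
    intro hF
    obtain ⟨N, hNn, hNc, n, hNi⟩ := hasNPC_of_frobHyp hF
    exact hnc N hNn (isComplement'_of_npc hNc hNi S)
  -- Step 2: an odd order element normalizing but not centralizing `S`
  obtain ⟨g, hgN, hodd, hgC⟩ : ∃ g ∈ Subgroup.normalizer ((S : Subgroup G) : Set G),
      (orderOf g).Coprime 2 ∧ g ∉ Subgroup.centralizer ((S : Subgroup G) : Set G) := by
    by_contra hcon
    push Not at hcon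
    apply hnF
    apply frobHyp_of_le_sylow S
    intro Q hQ g hg hgo
    by_cases hQK : Q = (S : Subgroup G)
    · rw [hQK] at hg ⊢
      exact hcon g hg hgo
    · rw [← hrange] at hQ hQK
      exact claimC ι hι hcardK hQ hQK hg hgo
  rw [← hrange] at hgN hgC hA hB ⊢
  -- `g` and `g^2` do not fix `S` pointwise
  have hgfix : ¬ ∀ s ∈ ι.range, g * s * g⁻¹ = s := by
    intro h
    apply hgC
    rw [Subgroup.mem_centralizer_iff]
    intro s hs
    have := mul_inv_eq_iff_eq_mul.mp (h s hs)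
    exact this.symm
  have hg2fix : ¬ ∀ s ∈ ι.range, g^2 * s * (g^2)⁻¹ = s := by
    intro h
    apply hgfix
    intro s hs
    have hc : Commute (g^2) s := mul_inv_eq_iff_eq_mul.mp (h s hs)
    have := commute_of_sq hodd hc
    rw [this.eq, mul_inv_cancel_right]
  have hg2N : g^2 ∈ Subgroup.normalizer (ι.range : Set G) := Subgroup.pow_mem _ hgN 2
  have hodd2 := coprime_sq hodd
  have conj_mem : ∀ s ∈ ι.range, g * s * g⁻¹ ∈ ι.range := fun s hs =>
    (Subgroup.mem_normalizer_iff.mp hgN s).mp hs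
  have conj_sq : ∀ s : G, s^2 ≠ 1 → (g * s * g⁻¹)^2 ≠ 1 := by
    intro s hs h'
    apply hs
    rw [conj_pow] at h'
    have : g * s^2 * g⁻¹ = g * 1 * g⁻¹ := by rw [h', mul_one, mul_inv_cancel]
    exact mul_left_cancel (mul_right_cancel this)
  have zp_eq : ∀ a b : G, (a = b ∨ a = b⁻¹) → Subgroup.zpowers a = Subgroup.zpowers b := by
    rintro a b (h | h)
    · rw [h]
    · rw [h, Subgroup.zpowers_inv]
  obtain ⟨x, hxA, hx2⟩ := exists_sq_ne_one ι hι hA hA4
  obtain ⟨w, hwB, hw2⟩ := exists_sq_ne_one ι hι hB hB4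
  have hxK := hA hxA
  have hwK := hB hwB
  have hAz : A = Subgroup.zpowers x := eq_zpowers_of_card_four hA4 hxA (G1 ι hι hxK) hx2
  have hBz : B = Subgroup.zpowers w := eq_zpowers_of_card_four hB4 hwB (G1 ι hι hwK) hw2
  have hyK := conj_mem x hxK
  have hy2 := conj_sq x hx2
  have huK := conj_mem _ hyK
  have hu2 := conj_sq _ hy2
  have hyx : g * x * g⁻¹ ≠ x := fun h => hgfix (claimD ι hι hgN hodd hxK hx2 (Or.inl h))
  have hyx' : g * x * g⁻¹ ≠ x⁻¹ := fun h => hgfix (claimD ι hι hgN hodd hxK hx2 (Or.inr h))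
  have hu : g^2 * x * (g^2)⁻¹ = g * (g * x * g⁻¹) * g⁻¹ := by
    rw [pow_two, mul_inv_rev]; simp only [mul_assoc]
  rw [hAz, hBz]
  rcases G4 ι hι hxK hyK hwK hx2 hy2 hw2 hyx hyx' with h | h | h | h | h | h
  · refine ⟨1, Subgroup.one_mem _, ?_⟩
    rw [map_conj_zpowers, one_mul, inv_one, mul_one]
    exact zp_eq _ _ (Or.inl h)
  · refine ⟨1, Subgroup.one_mem _, ?_⟩
    rw [map_conj_zpowers, one_mul, inv_one, mul_one]
    exact zp_eq _ _ (Or.inr h)
  · refine ⟨g, hgN, ?_⟩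
    rw [map_conj_zpowers]
    exact zp_eq _ _ (Or.inl h)
  · refine ⟨g, hgN, ?_⟩
    rw [map_conj_zpowers]
    exact zp_eq _ _ (Or.inr h)
  all_goals
    refine ⟨g^2, hg2N, ?_⟩
    rw [map_conj_zpowers, hu]
    have hw' : Subgroup.zpowers w = Subgroup.zpowers (x * (g * x * g⁻¹)) :=
      zp_eq _ _ (by first | exact Or.inl h | exact Or.inr h)
    rw [hw']
    symm
    rcases G4 ι hι hxK hyK huK hx2 hy2 hu2 hyx hyx' with h' | h' | h' | h' | h' | h'
    · exact absurd (claimD ι hι hg2N hodd2 hxK hx2 (Or.inl (hu.trans h'))) hg2fix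
    · exact absurd (claimD ι hι hg2N hodd2 hxK hx2 (Or.inr (hu.trans h'))) hg2fix
    · exact absurd (claimD ι hι hgN hodd hyK hy2 (Or.inl h')) hgfix
    · exact absurd (claimD ι hι hgN hodd hyK hy2 (Or.inr h')) hgfix
    · exact zp_eq _ _ (Or.inl h')
    · exact zp_eq _ _ (Or.inr h')

end Cfsg.Agent.S0950
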