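import Cfsg.Statements.S0514
import Cfsg.Agent.Lib.Helper55_DihedralNPC
import Cfsg.Agent.Lib.Helper4_Sylow2
import Cfsg.Agent.Lib.Helper2_Sylow

set_option autoImplicit false
open Cfsg

namespace Cfsg.Agent.S0514

open Subgroup DihedralGroup Cfsg.Agent.Lib Cfsg.Agent.Lib.Helper35_FrobeniusNPC

theorem mem_rot_iff {n : ℕ} (d : DihedralGroup n) :
    d ∈ zpowers (r 1 : DihedralGroup n) ↔ ∃ i, d = r i := by
  constructor
  · rintro ⟨k, rfl⟩
    exact ⟨_, r_one_zpow k⟩
  · rintro ⟨i, rfl⟩
    refine ⟨(ZMod.cast i : ℤ), ?_⟩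
    show (r 1 : DihedralGroup n) ^ (ZMod.cast i : ℤ) = r i
    rw [r_one_zpow, ZMod.intCast_zmod_cast]

theorem rot_or_refl {n : ℕ} (d : DihedralGroup n) : (∃ i, d = r i) ∨ ∃ i, d = sr i := by
  cases d with
  | r i => exact Or.inl ⟨i, rfl⟩
  | sr i => exact Or.inr ⟨i, rfl⟩

theorem r_ne_sr {n : ℕ} (i j : ZMod n) : (r i : DihedralGroup n) ≠ sr j := by
  intro h; cases h

/-- The abstract form: a group `H` with a central involution `tC` and a Sylow `2`-subgroup embedded
in a dihedral group has a normal `2`-complement. -/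
theorem hasNPC_of_embedding {H : Type*} [Group H] [Finite H] {n : ℕ} (T : Sylow 2 H)
    (ψ : ↥(T : Subgroup H) →* DihedralGroup n) (hψ : Function.Injective ψ)
    (tC : H) (htc : tC ∈ center H) (hto : orderOf tC = 2) : HasNPC 2 H := by
  classical
  have htT : tC ∈ (T : Subgroup H) :=
    Helper4_Sylow2.mem_sylow_of_mem_center T tC htc
      (Helper4_Sylow2.isPGroup_zpowers_of_orderOf_two tC hto)
  let tT : ↥(T : Subgroup H) := ⟨tC, htT⟩
  have htt : tC * tC = 1 := by rw [← pow_two, ← hto, pow_orderOf_eq_one]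
  have htinv : tC⁻¹ = tC := inv_eq_of_mul_eq_one_right htt
  have htcomm : ∀ g : H, g * tC = tC * g := fun g => mem_center_iff.mp htc g
  -- the rotation part
  let R : Subgroup ↥(T : Subgroup H) := (zpowers (r 1 : DihedralGroup n)).comap ψ
  have hRmem : ∀ x : ↥(T : Subgroup H), x ∈ R ↔ ∃ i, ψ x = r i := fun x => by
    rw [Subgroup.mem_comap, mem_rot_iff]
  have hRcyc : IsCyclic R := by
    let θ : R →* zpowers (r 1 : DihedralGroup n) :=
      { toFun := fun x => ⟨ψ x, x.2⟩
        map_one' := Subtype.ext (by simp)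
        map_mul' := fun x y => Subtype.ext (by simp) }
    apply isCyclic_of_injective θ
    intro x y hxy
    have h1 : ψ x = ψ y := congrArg Subtype.val hxy
    exact Subtype.ext (hψ h1)
  obtain ⟨g₀, hg₀⟩ := IsCyclic.exists_generator (α := R)
  obtain ⟨k₀, hk₀⟩ := (hRmem g₀.1).mp g₀.2
  have hgen : ∀ x : ↥(T : Subgroup H), (∃ i, ψ x = r i) → ∃ k : ℤ, (g₀ : ↥(T : Subgroup H)) ^ k = x := by
    intro x hx
    obtain ⟨k, hk⟩ := hg₀ ⟨x, (hRmem x).mpr hx⟩
    refine ⟨k, ?_⟩
    have h1 := congrArg Subtype.val hk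
    simpa using h1
  -- to H
  have hgenH : ∀ x : ↥(T : Subgroup H), (∃ i, ψ x = r i) →
      (x : H) ∈ zpowers ((g₀ : ↥(T : Subgroup H)) : H) := by
    intro x hx
    obtain ⟨k, hk⟩ := hgen x hx
    refine ⟨k, ?_⟩
    have h1 := congrArg Subtype.val hk
    simpa using h1
  by_cases hall : ∀ x : ↥(T : Subgroup H), ∃ i, ψ x = r i
  · -- T is cyclic
    apply Helper55_DihedralNPC.hasNPC_of_isCyclic_sylow T
    refine ⟨⟨(g₀ : ↥(T : Subgroup H)), fun x => ?_⟩⟩
    obtain ⟨k, hk⟩ := hgen x (hall x)
    exact ⟨k, hk⟩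
  · push Not at hall
    obtain ⟨s₀, hs₀⟩ := hall
    obtain ⟨i₀, hi₀⟩ : ∃ i, ψ s₀ = sr i := by
      rcases rot_or_refl (ψ s₀) with ⟨i, hi⟩ | h
      · exact absurd hi (hs₀ i)
      · exact h
    rcases rot_or_refl (ψ tT) with ⟨j, hj⟩ | ⟨j, hj⟩
    · -- the central involution is a rotation
      apply Helper55_DihedralNPC.hasNPC_of_dihedralLike _ H rfl T
        ((g₀ : ↥(T : Subgroup H)) : H) (s₀ : H) (g₀ : ↥(T : Subgroup H)).2 s₀.2
      · intro y hy hyo
        have htz : tC ∈ zpowers ((g₀ : ↥(T : Subgroup H)) : H) := hgenH tT ⟨j, hj⟩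
        have : y = tC := Helper4_Sylow2.involution_unique_of_isCyclic_subgroup
          (zpowers ((g₀ : ↥(T : Subgroup H)) : H)) inferInstance y tC hy htz hyo hto
        rw [this]; exact htc
      · have h1 : s₀ * s₀ = 1 := by
          apply hψ
          rw [map_mul, hi₀, sr_mul_self, map_one]
        exact congrArg Subtype.val h1
      · have h1 : s₀ * (g₀ : ↥(T : Subgroup H)) * s₀⁻¹ = (g₀ : ↥(T : Subgroup H))⁻¹ := by
          apply hψ
          rw [map_mul, map_mul, map_inv, map_inv, hi₀, hk₀, sr_mul_r, inv_sr, sr_mul_sr, inv_r]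
          congr 1; ring
        exact congrArg Subtype.val h1
      · intro x hx
        rcases rot_or_refl (ψ ⟨x, hx⟩) with h | ⟨l, hl⟩
        · left; exact hgenH ⟨x, hx⟩ h
        · right
          have h1 : ∃ i, ψ (s₀ * ⟨x, hx⟩) = r i := ⟨l - i₀, by rw [map_mul, hi₀, hl, sr_mul_sr]⟩
          exact hgenH (s₀ * ⟨x, hx⟩) h1
    · -- the central involution is a reflection: T has exponent 2
      have hcomm : tT * (g₀ : ↥(T : Subgroup H)) = (g₀ : ↥(T : Subgroup H)) * tT :=
        Subtype.ext (htcomm _).symm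
      have hk2 : (g₀ : ↥(T : Subgroup H)) * (g₀ : ↥(T : Subgroup H)) = 1 := by
        apply hψ
        have h1 := congrArg ψ hcomm
        rw [map_mul, map_mul, hj, hk₀, sr_mul_r, r_mul_sr] at h1
        have h2 : j + k₀ = j - k₀ := by
          injection h1
        rw [map_mul, hk₀, r_mul_r, map_one, one_def]
        congr 1
        have h3 : k₀ = -k₀ := by
          have := congrArg (fun a => a - j) h2
          simpa using this
        calc k₀ + k₀ = k₀ + -k₀ := by rw [← h3]
          _ = 0 := add_neg_cancel k₀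
      have hk2H : ((g₀ : ↥(T : Subgroup H)) : H) * ((g₀ : ↥(T : Subgroup H)) : H) = 1 :=
        congrArg Subtype.val hk2
      -- elements of the rotation part are 1 or g₀
      have hrot2 : ∀ x : ↥(T : Subgroup H), (∃ i, ψ x = r i) →
          x = 1 ∨ x = (g₀ : ↥(T : Subgroup H)) := by
        intro x hx
        obtain ⟨k, hk⟩ := hgen x hx
        rcases Int.even_or_odd' k with ⟨m, rfl | rfl⟩
        · left; rw [← hk, zpow_mul, zpow_two, hk2, one_zpow]
        · right; rw [← hk, zpow_add_one, zpow_mul, zpow_two, hk2, one_zpow, one_mul]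
      apply Helper55_DihedralNPC.hasNPC_of_dihedralLike _ H rfl T tC
        ((g₀ : ↥(T : Subgroup H)) : H) htT (g₀ : ↥(T : Subgroup H)).2
      · intro y hy hyo
        have : y = tC := Helper4_Sylow2.involution_unique_of_isCyclic_subgroup
          (zpowers tC) inferInstance y tC hy (mem_zpowers tC) hyo hto
        rw [this]; exact htc
      · exact hk2H
      · rw [htcomm, mul_assoc, mul_inv_cancel, mul_one, htinv]
      · intro x hx
        rcases rot_or_refl (ψ ⟨x, hx⟩) with h | ⟨l, hl⟩
        · rcases hrot2 ⟨x, hx⟩ h with h1 | h1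
          · left
            have : x = 1 := congrArg Subtype.val h1
            rw [this]; exact one_mem _
          · right
            have : x = ((g₀ : ↥(T : Subgroup H)) : H) := congrArg Subtype.val h1
            rw [this, hk2H]; exact one_mem _
        · have h1 : ∃ i, ψ (tT * ⟨x, hx⟩) = r i := ⟨l - j, by rw [map_mul, hj, hl, sr_mul_sr]⟩
          rcases hrot2 (tT * ⟨x, hx⟩) h1 with h2 | h2
          · left
            have h3 : tC * x = 1 := congrArg Subtype.val h2
            have : x = tC := by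
              calc x = tC⁻¹ * (tC * x) := by group
                _ = tC := by rw [h3, mul_one, htinv]
            rw [this]; exact mem_zpowers tC
          · right
            have h3 : tC * x = ((g₀ : ↥(T : Subgroup H)) : H) := congrArg Subtype.val h2
            have hx' : x = tC * ((g₀ : ↥(T : Subgroup H)) : H) := by
              calc x = tC⁻¹ * (tC * x) := by group
                _ = tC * ((g₀ : ↥(T : Subgroup H)) : H) := by rw [h3, htinv]
            have : ((g₀ : ↥(T : Subgroup H)) : H) * x = tC := by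
              rw [hx', ← mul_assoc, htcomm, mul_assoc, hk2H, mul_one]
            rw [this]; exact mem_zpowers tC

/-- In a finite group whose Sylow 2-subgroups are dihedral of order at least 4, the centralizer of any involution has a
normal subgroup of odd order whose index in the centralizer is a power of 2. -/
theorem result {X : Type*} [Group X] [Finite X]
    (S : Sylow 2 X) (n : ℕ) (hn : 2 ≤ n) (hS : Nonempty ((S : Subgroup X) ≃* DihedralGroup n)) (t : X)
    (ht : orderOf t = 2) :
    ∃ N : Subgroup (Subgroup.centralizer ({t} : Set X)), N.Normal ∧ Odd (Nat.card N) ∧ ∃ k : ℕ, N.index = 2 ^ k := by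
  classical
  have : Fact (Nat.Prime 2) := ⟨Nat.prime_two⟩
  obtain ⟨e⟩ := hS
  have htC : t ∈ centralizer ({t} : Set X) := by
    rw [mem_centralizer_iff]
    intro w hw
    rw [Set.mem_singleton_iff] at hw
    rw [hw]
  suffices h : HasNPC 2 ↥(centralizer ({t} : Set X)) by
    obtain ⟨K, hKn, hKc, k, hKi⟩ := h
    exact ⟨K, hKn, Nat.coprime_two_right.mp hKc, k, hKi⟩
  let T : Sylow 2 ↥(centralizer ({t} : Set X)) := default
  have hpg : IsPGroup 2 ((T : Subgroup ↥(centralizer ({t} : Set X))).map
      (centralizer ({t} : Set X)).subtype) := T.2.map _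
  obtain ⟨Q, hQ⟩ := hpg.exists_le_sylow
  obtain ⟨g, hg⟩ := MulAction.exists_smul_eq X S Q
  have hmem : ∀ x : ↥(T : Subgroup ↥(centralizer ({t} : Set X))),
      g⁻¹ * ((x : ↥(centralizer ({t} : Set X))) : X) * g ∈ (S : Subgroup X) := by
    intro x
    apply (Helper2_Sylow.mem_smul_sylow_iff' g _ S).mp
    rw [hg]
    exact hQ ⟨x, x.2, rfl⟩
  let θ : ↥(T : Subgroup ↥(centralizer ({t} : Set X))) →* ↥(S : Subgroup X) :=
    MonoidHom.mk' (fun x => ⟨g⁻¹ * ((x : ↥(centralizer ({t} : Set X))) : X) * g, hmem x⟩)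
      (fun x y => Subtype.ext (by
        show g⁻¹ * (((x * y : ↥(T : Subgroup ↥(centralizer ({t} : Set X)))) :
          ↥(centralizer ({t} : Set X))) : X) * g = _
        simp only [Subgroup.coe_mul]
        group))
  have hθ : Function.Injective θ := by
    intro x y hxy
    have h1 : g⁻¹ * ((x : ↥(centralizer ({t} : Set X))) : X) * g =
        g⁻¹ * ((y : ↥(centralizer ({t} : Set X))) : X) * g := congrArg Subtype.val hxy
    have h2 : ((x : ↥(centralizer ({t} : Set X))) : X) = ((y : ↥(centralizer ({t} : Set X))) : X) :=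
      mul_left_cancel (mul_right_cancel h1)
    exact Subtype.ext (Subtype.ext h2)
  apply hasNPC_of_embedding T (e.toMonoidHom.comp θ) (e.injective.comp hθ) ⟨t, htC⟩
  · rw [mem_center_iff]
    intro c
    apply Subtype.ext
    have := c.2
    rw [mem_centralizer_iff] at this
    exact (this t rfl).symm
  · rw [← ht]; exact Subgroup.orderOf_mk t htC

end Cfsg.Agent.S0514
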