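import Mathlib
import Cfsg.Statements.S2802

set_option autoImplicit false
open Cfsg

namespace Cfsg.Agent.S2802

/-- The `p`-core lies in every Sylow `p`-subgroup. -/
theorem pCore_le_sylow {L : Type*} [Group L] {p : ℕ} [Fact p.Prime] (T : Sylow p L) :
    Cfsg.pCore p L ≤ T := by
  unfold Cfsg.pCore
  apply sSup_le
  rintro N ⟨hN, hNp⟩
  exact hNp.le_sylow_of_normal T

/-- If `O_p(R / K) = 1` for a normal subgroup `K`, then every normal subgroup `N` of `R` all of whose elements have
a `p`-power power in `K` lies in `K`. -/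
theorem le_of_pCore_quotient_eq_bot {R : Type*} [Group R] {p : ℕ} (K : Subgroup R) [K.Normal]
    (hK : Cfsg.pCore p (R ⧸ K) = ⊥) (N : Subgroup R) [N.Normal]
    (hN : ∀ n ∈ N, ∃ k : ℕ, n ^ p ^ k ∈ K) : N ≤ K := by
  have hnormal : (N.map (QuotientGroup.mk' K)).Normal :=
    Subgroup.Normal.map inferInstance _ (QuotientGroup.mk'_surjective K)
  have hp : IsPGroup p (N.map (QuotientGroup.mk' K)) := by
    rintro ⟨x, n, hn, rfl⟩
    obtain ⟨k, hk⟩ := hN n hn
    refine ⟨k, ?_⟩
    apply Subtype.ext
    change (QuotientGroup.mk' K n) ^ p ^ k = 1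
    rw [← map_pow]
    exact (QuotientGroup.eq_one_iff _).mpr hk
  have hle : N.map (QuotientGroup.mk' K) ≤ Cfsg.pCore p (R ⧸ K) := le_sSup ⟨hnormal, hp⟩
  rw [hK] at hle
  intro n hn
  have : QuotientGroup.mk' K n ∈ (⊥ : Subgroup (R ⧸ K)) := hle ⟨n, hn, rfl⟩
  rw [Subgroup.mem_bot] at this
  exact (QuotientGroup.eq_one_iff _).mp this

theorem result {L : Type*} [Group L] [Finite L] {p : ℕ} [Fact p.Prime] (hchar : Subgroup.centralizer (Cfsg.pCore p L : Set L) ≤ Cfsg.pCore p L) (T : Sylow p L) (R : Subgroup L) (hTR : (T : Subgroup L) ≤ R) (X : Subgroup ↥R) (hX : Cfsg.IsPReducedNormal p X) : Cfsg.IsPReducedNormal p (Subgroup.normalClosure ((X.map R.subtype : Subgroup L) : Set L)) := by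
  obtain ⟨hXn, ⟨hXc, hXp⟩, hCn, hcore⟩ := hX
  set V := Subgroup.normalClosure ((X.map R.subtype : Subgroup L) : Set L) with hV
  have hXV : X.map R.subtype ≤ V := Subgroup.subset_normalClosure
  -- Part A: O_p(L) centralizes X
  have hOR : Cfsg.pCore p L ≤ R := le_trans (pCore_le_sylow T) hTR
  have hOp : IsPGroup p (Cfsg.pCore p L) := T.isPGroup'.to_le (pCore_le_sylow T)
  have hA : (Cfsg.pCore p L).subgroupOf R ≤ Subgroup.centralizer (X : Set R) := by
    apply le_of_pCore_quotient_eq_bot _ hcore
    intro n hn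
    obtain ⟨k, hk⟩ := hOp ⟨n.1, hn⟩
    refine ⟨k, ?_⟩
    have : n ^ p ^ k = 1 := by
      apply Subtype.ext
      have := congrArg Subtype.val hk
      simpa using this
    rw [this]
    exact Subgroup.one_mem _
  -- the elements of X lie in W = Ω₁ Z(O_p(L))
  let W : Subgroup L :=
    { carrier := {y | y ∈ Cfsg.pCore p L ∧ y ∈ Subgroup.centralizer (Cfsg.pCore p L : Set L) ∧ y ^ p = 1}
      mul_mem' := by
        rintro a b ⟨ha1, ha2, ha3⟩ ⟨hb1, hb2, hb3⟩
        refine ⟨mul_mem ha1 hb1, mul_mem ha2 hb2, ?_⟩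
        have hcomm : Commute a b := by
          rw [Subgroup.mem_centralizer_iff] at hb2
          exact hb2 a ha1
        rw [hcomm.mul_pow, ha3, hb3, one_mul]
      one_mem' := ⟨one_mem _, one_mem _, one_pow _⟩
      inv_mem' := by
        rintro a ⟨ha1, ha2, ha3⟩
        exact ⟨inv_mem ha1, inv_mem ha2, by rw [inv_pow, ha3, inv_one]⟩ }
  have hWn : W.Normal := by
    constructor
    rintro a ⟨ha1, ha2, ha3⟩ g
    refine ⟨(inferInstance : (Cfsg.pCore p L).Normal).conj_mem a ha1 g,
      (inferInstance : (Subgroup.centralizer (Cfsg.pCore p L : Set L)).Normal).conj_mem a ha2 g, ?_⟩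
    rw [conj_pow, ha3]; group
  have hXW : ((X.map R.subtype : Subgroup L) : Set L) ⊆ W := by
    rintro _ ⟨x, hx, rfl⟩
    have hcen : (x : L) ∈ Subgroup.centralizer (Cfsg.pCore p L : Set L) := by
      rw [Subgroup.mem_centralizer_iff]
      intro o ho
      have h1 : (⟨o, hOR ho⟩ : R) ∈ Subgroup.centralizer (X : Set R) := hA (by
        rw [Subgroup.mem_subgroupOf]; exact ho)
      rw [Subgroup.mem_centralizer_iff] at h1
      have := h1 x hx
      exact (congrArg Subtype.val this).symm
    refine ⟨hchar hcen, hcen, ?_⟩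
    have := hXp x hx
    have h2 := congrArg Subtype.val this
    simpa using h2
  have hVW : V ≤ W := Subgroup.normalClosure_le_normal hXW
  have hVn : V.Normal := Subgroup.normalClosure_normal
  have hCVn : (Subgroup.centralizer (V : Set L)).Normal := Subgroup.normal_centralizer
  refine ⟨hVn, ⟨?_, ?_⟩, hCVn, ?_⟩
  · -- commutative
    constructor
    constructor
    rintro ⟨a, ha⟩ ⟨b, hb⟩
    apply Subtype.ext
    obtain ⟨ha1, _, _⟩ := hVW ha
    obtain ⟨_, hb2, _⟩ := hVW hb
    rw [Subgroup.mem_centralizer_iff] at hb2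
    exact hb2 a ha1
  · intro a ha
    exact (hVW ha).2.2
  · -- O_p(L / C_L(V)) = 1
    unfold Cfsg.pCore
    rw [sSup_eq_bot]
    rintro N ⟨hNn, hNp⟩
    rw [Subgroup.eq_bot_iff_forall]
    -- (α) D ∩ R centralizes X, where D is the preimage of N
    have hα : (N.comap (QuotientGroup.mk' (Subgroup.centralizer (V : Set L)))).subgroupOf R
        ≤ Subgroup.centralizer (X : Set R) := by
      have : ((N.comap (QuotientGroup.mk' (Subgroup.centralizer (V : Set L)))).subgroupOf R).Normal := by
        have : (N.comap (QuotientGroup.mk' (Subgroup.centralizer (V : Set L)))).Normal := hNn.comap _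
        infer_instance
      apply le_of_pCore_quotient_eq_bot _ hcore
      intro d hd
      rw [Subgroup.mem_subgroupOf, Subgroup.mem_comap] at hd
      obtain ⟨k, hk⟩ := hNp ⟨_, hd⟩
      refine ⟨k, ?_⟩
      have hk' : (QuotientGroup.mk' (Subgroup.centralizer (V : Set L)) (d : L)) ^ p ^ k = 1 := by
        have := congrArg Subtype.val hk
        simpa using this
      rw [← map_pow] at hk'
      have hk'' : (d : L) ^ p ^ k ∈ Subgroup.centralizer (V : Set L) := (QuotientGroup.eq_one_iff _).mp hk'
      rw [Subgroup.mem_centralizer_iff] at hk'' ⊢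
      intro x hx
      apply Subtype.ext
      have := hk'' x (hXV ⟨x, hx, rfl⟩)
      simpa using this
    -- (α') every d ∈ D commutes with X
    have hα' : ∀ d : L, QuotientGroup.mk' (Subgroup.centralizer (V : Set L)) d ∈ N →
        ∀ x ∈ X, (x : L) * d = d * x := by
      intro d hd x hx
      -- N ≤ image of T
      have hNT : N ≤ (T.mapSurjective (QuotientGroup.mk'_surjective (Subgroup.centralizer (V : Set L)))) :=
        hNp.le_sylow_of_normal _
      have : QuotientGroup.mk' (Subgroup.centralizer (V : Set L)) d ∈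
          ((T.mapSurjective (QuotientGroup.mk'_surjective (Subgroup.centralizer (V : Set L))) : Sylow p _) :
            Subgroup (L ⧸ Subgroup.centralizer (V : Set L))) := hNT hd
      rw [Sylow.coe_mapSurjective] at this
      obtain ⟨t, ht, hteq⟩ := this
      have htR : t ∈ R := hTR ht
      have htD : (⟨t, htR⟩ : R) ∈ (N.comap (QuotientGroup.mk' (Subgroup.centralizer (V : Set L)))).subgroupOf R := by
        rw [Subgroup.mem_subgroupOf, Subgroup.mem_comap]
        change QuotientGroup.mk' _ t ∈ N
        rw [hteq]; exact hd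
      have htX := hα htD
      rw [Subgroup.mem_centralizer_iff] at htX
      have h1 : (x : L) * t = t * x := congrArg Subtype.val (htX x hx)
      -- t⁻¹ d ∈ C_L(V)
      have h2 : t⁻¹ * d ∈ Subgroup.centralizer (V : Set L) := by
        have : (QuotientGroup.mk' (Subgroup.centralizer (V : Set L)) t) =
            QuotientGroup.mk' (Subgroup.centralizer (V : Set L)) d := hteq
        exact QuotientGroup.eq.mp this
      rw [Subgroup.mem_centralizer_iff] at h2
      have h3 := h2 x (hXV ⟨x, hx, rfl⟩)
      calc (x : L) * d = x * t * (t⁻¹ * d) := by group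
        _ = t * (x * (t⁻¹ * d)) := by rw [h1]; group
        _ = t * ((t⁻¹ * d) * x) := by rw [h3]
        _ = d * x := by group
    intro n hn
    obtain ⟨d, rfl⟩ := QuotientGroup.mk'_surjective _ n
    rw [QuotientGroup.mk'_apply, QuotientGroup.eq_one_iff]
    -- d centralizes all conjugates of X, hence V
    have hsub : V ≤ Subgroup.centralizer ({d} : Set L) := by
      rw [hV, Subgroup.normalClosure]
      rw [Subgroup.closure_le]
      intro y hy
      rw [Group.mem_conjugatesOfSet_iff] at hy
      obtain ⟨a, ⟨x, hx, rfl⟩, hconj⟩ := hy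
      rw [isConj_iff] at hconj
      obtain ⟨g, rfl⟩ := hconj
      rw [SetLike.mem_coe, Subgroup.mem_centralizer_iff]
      intro d' hd'
      rw [Set.mem_singleton_iff] at hd'
      rw [hd']
      -- g⁻¹ d g ∈ D
      have h1 : QuotientGroup.mk' (Subgroup.centralizer (V : Set L)) (g⁻¹ * d * g) ∈ N := by
        have := hNn.conj_mem _ hn (QuotientGroup.mk' (Subgroup.centralizer (V : Set L)) g⁻¹)
        simpa using this
      have h2 := hα' _ h1 x hx
      have h3 : R.subtype x = (x : L) := rfl
      rw [h3]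
      calc d * (g * ↑x * g⁻¹) = g * ((g⁻¹ * d * g) * ↑x) * g⁻¹ := by group
        _ = g * (↑x * (g⁻¹ * d * g)) * g⁻¹ := by rw [h2]
        _ = g * ↑x * g⁻¹ * d := by group
    rw [Subgroup.mem_centralizer_iff]
    intro v hv
    have := hsub hv
    rw [Subgroup.mem_centralizer_iff] at this
    exact (this d rfl).symm

end Cfsg.Agent.S2802
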