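import Cfsg.Statements.S2544
import Cfsg.Agent.Lib.Helper81_StPSL
import Cfsg.Agent.Lib.Helper40_BlockTri

set_option autoImplicit false
open Cfsg

namespace Cfsg.Agent.S2544


theorem arith_split (p M q N r' : ℕ) (hqpos : 0 < q) (hdvd : q ^ M ∣ N)
    (hN : N ∣ q ^ M * r') (hr' : ¬ p ∣ r') : ∃ r, N = q ^ M * r ∧ ¬ p ∣ r := by
  obtain ⟨r, hr⟩ := hdvd
  refine ⟨r, hr, ?_⟩
  rw [hr] at hN
  have h1 : r ∣ r' := Nat.dvd_of_mul_dvd_mul_left (pow_pos hqpos M) hN
  exact fun h => hr' (dvd_trans h h1)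

theorem not_dvd_geom (p q j : ℕ) (hp : p.Prime) (hpq : p ∣ q) :
    ¬ p ∣ ∑ l ∈ Finset.range (j + 1), q ^ l := by
  rw [Finset.sum_range_succ']
  intro h
  have h1 : p ∣ ∑ l ∈ Finset.range j, q ^ (l + 1) := by
    apply Finset.dvd_sum
    intro l _
    rw [pow_succ]
    exact dvd_mul_of_dvd_right hpq _
  have h2 : p ∣ q ^ 0 := (Nat.dvd_add_right h1).mp h
  rw [pow_zero] at h2
  exact hp.one_lt.ne' (Nat.dvd_one.mp h2)

theorem tri_eq' (n : ℕ) : Cfsg.Agent.Lib.Helper40_BlockTri.tri n = n * (n - 1) / 2 := by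
  have h := Cfsg.Agent.Lib.Helper40_BlockTri.two_tri_add n
  rcases n with _ | n
  · simp [Cfsg.Agent.Lib.Helper40_BlockTri.tri]
  · have e : n + 1 - 1 = n := by omega
    rw [e]
    have h2 : 2 * Cfsg.Agent.Lib.Helper40_BlockTri.tri (n + 1) = (n + 1) * n := by nlinarith [h]
    omega

/-- the order of `PSL_n(F)` is `q^(n(n-1)/2)` times a number prime to `p` -/
theorem card_psl_split {F : Type*} [Field F] [Fintype F] (p : ℕ) [Fact p.Prime] [CharP F p] (n : ℕ)
    (hdvd : Fintype.card F ^ (n * (n - 1) / 2) ∣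
      Nat.card (Matrix.ProjectiveSpecialLinearGroup (Fin n) F)) :
    ∃ r, Nat.card (Matrix.ProjectiveSpecialLinearGroup (Fin n) F) =
      Fintype.card F ^ (n * (n - 1) / 2) * r ∧ ¬ p ∣ r := by
  classical
  have hp : p.Prime := Fact.out
  set q := Fintype.card F with hq
  have hq1 : 1 ≤ q := Fintype.card_pos
  obtain ⟨f, -, hf⟩ := FiniteField.card F p
  have hpq : p ∣ q := by
    rw [hq, hf]
    exact dvd_pow_self p f.pos.ne'
  have hGL : Nat.card (GL (Fin n) F) = q ^ (n * (n - 1) / 2) * ((q - 1) ^ n *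
      Cfsg.Agent.Lib.Helper40_BlockTri.qFact q n) := by
    rw [Cfsg.Agent.Lib.Helper40_BlockTri.card_GL_fintype, Fintype.card_fin,
      Cfsg.Agent.Lib.Helper40_BlockTri.glCard_eq q n hq1, tri_eq', mul_assoc]
  have hr' : ¬ p ∣ (q - 1) ^ n * Cfsg.Agent.Lib.Helper40_BlockTri.qFact q n := by
    intro h
    rcases (Nat.Prime.dvd_mul hp).mp h with h1 | h1
    · have h2 := hp.dvd_of_dvd_pow h1
      have h3 : p ∣ q - (q - 1) := Nat.dvd_sub hpq h2
      have h4 : q - (q - 1) = 1 := by omega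
      rw [h4] at h3
      exact hp.one_lt.ne' (Nat.dvd_one.mp h3)
    · unfold Cfsg.Agent.Lib.Helper40_BlockTri.qFact at h1
      rw [Prime.dvd_finsetProd_iff hp.prime] at h1
      obtain ⟨j, _, hj⟩ := h1
      exact not_dvd_geom p q j hp hpq hj
  have hfin : Finite (Matrix.SpecialLinearGroup (Fin n) F) :=
    Finite.of_injective _ Matrix.SpecialLinearGroup.toGL_injective
  have h1 : Nat.card (Matrix.ProjectiveSpecialLinearGroup (Fin n) F) ∣
      Nat.card (Matrix.SpecialLinearGroup (Fin n) F) :=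
    Subgroup.card_quotient_dvd_card _
  have h2 : Nat.card (Matrix.SpecialLinearGroup (Fin n) F) ∣ Nat.card (GL (Fin n) F) :=
    Subgroup.card_dvd_of_injective _ Matrix.SpecialLinearGroup.toGL_injective
  have h3 := dvd_trans h1 h2
  rw [hGL] at h3
  exact arith_split p _ q _ _ hq1 hdvd h3 hr'

/-- Let F be a finite field of characteristic p and consider the projective special linear group PSL_n(F) with n ≥ 2. This group has an irreducible complex character χ whose degree equals the order of a Sylow p-subgroup (namely q^(n(n−1)/2) when #F = q) and whose restriction to any Sylow p-subgroup P is the regular character of P: χ vanishes on the non-identity elements of P. (This is the Steinberg character.) -/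
theorem result {F : Type*} [Field F] [Fintype F] (p : ℕ) [Fact p.Prime] [CharP F p] (n : ℕ) (hn : 2 ≤ n) : ∃ χ : Matrix.ProjectiveSpecialLinearGroup (Fin n) F → ℂ, Cfsg.IsIrrCharacter (Matrix.ProjectiveSpecialLinearGroup (Fin n) F) χ ∧ ∀ P : Sylow p (Matrix.ProjectiveSpecialLinearGroup (Fin n) F), χ 1 = Nat.card P ∧ ∀ x : Matrix.ProjectiveSpecialLinearGroup (Fin n) F, x ∈ P → x ≠ 1 → χ x = 0 := by
  classical
  have hp : p.Prime := Fact.out
  have hfin : Finite (Matrix.SpecialLinearGroup (Fin n) F) :=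
    Finite.of_injective _ Matrix.SpecialLinearGroup.toGL_injective
  obtain ⟨ψ, hψ, hψ1⟩ := Cfsg.Agent.Lib.Helper81_StPSL.exists_st_psl (F := F) (n := n)
  set q := Fintype.card F with hq
  have hq1 : 1 ≤ q := Fintype.card_pos
  set M := n * (n - 1) / 2 with hM
  obtain ⟨d, hd1, hdpos, hddvd⟩ := Cfsg.Agent.Lib.Helper75_CanonExt.exists_degree hψ
  have hdq : d = q ^ M := by
    have : (d : ℂ) = ((q ^ M : ℕ) : ℂ) := by
      rw [← hd1, hψ1]
      push_cast
      rfl
    exact_mod_cast this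
  rw [hdq] at hddvd
  obtain ⟨r, hr, hpr⟩ := card_psl_split (F := F) p n hddvd
  obtain ⟨f, -, hf⟩ := FiniteField.card F p
  have hrpos : r ≠ 0 := by
    intro h0
    rw [h0, mul_zero] at hr
    exact Nat.card_pos.ne' hr
  have hfact : (Nat.card (Matrix.ProjectiveSpecialLinearGroup (Fin n) F)).factorization p =
      (f : ℕ) * M := by
    rw [hr, Nat.factorization_mul (pow_pos hq1 M).ne' hrpos, Finsupp.add_apply,
      Nat.factorization_eq_zero_of_not_dvd hpr, add_zero]
    change (Fintype.card F ^ M).factorization p = _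
    rw [hf, ← pow_mul, Nat.Prime.factorization_pow hp, Finsupp.single_eq_same]
  refine ⟨ψ, hψ, fun P => ⟨?_, ?_⟩⟩
  · rw [Sylow.card_eq_multiplicity, hfact, hψ1]
    change (Fintype.card F : ℂ) ^ M = _
    rw [hf, pow_mul]
    push_cast
    rfl
  · intro x hx hx1
    have hcd : Cfsg.charDegree ψ = q ^ M := by
      unfold Cfsg.charDegree
      rw [hψ1]
      have : ((Fintype.card F : ℂ) ^ (n * (n - 1) / 2)).re = ((q ^ M : ℕ) : ℝ) := by
        have h : (Fintype.card F : ℂ) ^ (n * (n - 1) / 2) = (((q ^ M : ℕ) : ℝ) : ℂ) := by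
          push_cast
          rfl
        rw [h, Complex.ofReal_re]
      rw [this, Nat.floor_natCast]
    have hdz : ¬ p ∣ Nat.card (Matrix.ProjectiveSpecialLinearGroup (Fin n) F) /
        Cfsg.charDegree ψ := by
      rw [hcd, hr, Nat.mul_div_cancel_left _ (pow_pos hq1 M)]
      exact hpr
    have hord : p ∣ orderOf x := by
      obtain ⟨k, hk⟩ := (IsPGroup.iff_orderOf.mp P.isPGroup') ⟨x, hx⟩
      have hk' : orderOf x = p ^ k := by
        rw [← hk]
        exact (Subgroup.orderOf_mk x hx).symm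
      rw [hk']
      apply dvd_pow_self
      intro hk0
      rw [hk0, pow_zero, orderOf_eq_one_iff] at hk'
      exact hx1 hk'
    exact Cfsg.Agent.Lib.Helper81_StPSL.vanish_of_defect_zero p ⟨ψ, hψ⟩ hdz x hord

end Cfsg.Agent.S2544
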