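import Cfsg.Statements.S3805
import Cfsg.Agent.Lib.Helper17_H9Defs
import Cfsg.Agent.Lib.Helper80_CharComplete
import Cfsg.Agent.Lib.Helper52_H9_LOC
import Cfsg.Agent.Lib.Helper91_H9_BASIC
import Cfsg.Agent.Lib.Helper25_H9_FUS
import Cfsg.Agent.Lib.Helper24_H9_CENT
import Cfsg.Agent.Lib.Helper5_H9_G333
import Cfsg.Agent.Lib.Helper24_H9_CNT0aux
import Cfsg.Agent.Lib.Helper73_H9_CNT1
import Cfsg.Agent.Lib.Helper98_H9_GRAM
import Cfsg.Agent.Lib.Helper73_H9_EQS
import Cfsg.Agent.Lib.Helper98_H9_SYL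
import Cfsg.Agent.Lib.Helper91_H9_PLIN
import Cfsg.Agent.Lib.Helper25_H9_PCOMB

set_option autoImplicit false
open Cfsg

namespace Cfsg.Agent.S3805

open Cfsg.Agent.Lib.Helper80_CharBasic Cfsg.Agent.Lib.Helper17_H9Defs

/-- the (3,3,3)-lemma in the `Hyp` setting (package L333) -/
theorem lemma333 {G : Type*} [Group G] [Finite G] {T : Subgroup G} {x y i j : G}
    (h : Hyp G T x y i j) {u v : G} (hu : u ^ 3 = 1) (hv : v ^ 3 = 1)
    (huv : u * v ∈ T) (huv1 : u * v ≠ 1) :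
    (u ∈ T ∧ v ∈ T) ∨ (IsConj u v ∧ IsConj (u * v) u⁻¹) := by
  have hT3 : ∀ t ∈ T, t ^ 3 = 1 := by
    intro t ht
    have hx3 : x ^ 3 = 1 := by rw [← h.ox]; exact pow_orderOf_eq_one x
    have hy3 : y ^ 3 = 1 := by rw [← h.oy]; exact pow_orderOf_eq_one y
    have hc : Commute x y := h.comm
    rcases (h.mem t).1 ht with rfl | rfl | rfl | rfl | rfl | rfl | rfl | rfl | rfl
    · exact one_pow 3
    · exact hx3
    · rw [inv_pow, hx3, inv_one]
    · exact hy3
    · rw [inv_pow, hy3, inv_one]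
    · rw [hc.mul_pow, hx3, hy3, one_mul]
    · rw [hc.inv_right.mul_pow, hx3, inv_pow, hy3, inv_one, one_mul]
    · rw [hc.inv_left.mul_pow, inv_pow, hx3, hy3, inv_one, one_mul]
    · rw [hc.inv_inv.mul_pow, inv_pow, inv_pow, hx3, hy3, inv_one, one_mul]
  rcases Cfsg.Agent.Lib.Helper5_H9_G333.gen333 hu hv (hT3 _ huv) with ⟨c, hc1, hc3, hcu, hcv⟩ | h2
  · left
    have hcT : c ∈ T := by
      refine Cfsg.Agent.Lib.Helper91_H9_BASIC.cent_three h huv huv1 ?_ hc3
      calc c * (u * v) = (c * u) * v := by group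
        _ = (u * c) * v := by rw [hcu]
        _ = u * (c * v) := by group
        _ = u * (v * c) := by rw [hcv]
        _ = u * v * c := by group
    exact ⟨Cfsg.Agent.Lib.Helper91_H9_BASIC.cent_three h hcT hc1 hcu.symm hu,
      Cfsg.Agent.Lib.Helper91_H9_BASIC.cent_three h hcT hc1 hcv.symm hv⟩
  · exact Or.inr h2

/-- Let G be a finite group whose Sylow 3-subgroup T is elementary abelian of order 9 and self-centralizing, with N_G(T)/T a Klein four-group, and suppose that the centralizer of every nonidentity element of T lies in N_G(T). Then T is normal in G. -/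
theorem result {G : Type*} [Group G] [Finite G]
    (T : Sylow 3 G) (hT : Cfsg.IsElementaryAbelian 3 (T : Subgroup G)) (hcard : Nat.card T = 9)
    (hC : Subgroup.centralizer ((T : Subgroup G) : Set G) = T)
    [hn : ((T : Subgroup G).subgroupOf (Subgroup.normalizer ((T : Subgroup G) : Set G))).Normal]
    (hK : IsKleinFour (↥(Subgroup.normalizer ((T : Subgroup G) : Set G)) ⧸
      (T : Subgroup G).subgroupOf (Subgroup.normalizer ((T : Subgroup G) : Set G))))
    (hloc : ∀ t ∈ (T : Subgroup G), t ≠ 1 →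
      Subgroup.centralizer ({t} : Set G) ≤ Subgroup.normalizer ((T : Subgroup G) : Set G)) :
    Subgroup.normalizer ((T : Subgroup G) : Set G) = ⊤ := by
  classical
  obtain ⟨x, y, i, j, h⟩ :=
    Cfsg.Agent.Lib.Helper52_H9_LOC.exists_hyp (T : Subgroup G) hT.1 hT.2 hcard hC hK hloc
  obtain ⟨f, α, β, δ, hv, hαo, hβo, hα, hβ, hαβ, hδ, hsq⟩ := Cfsg.Agent.Lib.Helper98_H9_GRAM.gram h
  have hcent := Cfsg.Agent.Lib.Helper24_H9_CENT.card_cent h
  have hnc := Cfsg.Agent.Lib.Helper25_H9_FUS.not_conj h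
  have hc0 := Cfsg.Agent.Lib.Helper24_H9_CNT0aux.count0_aux h (fun hu hv huv huv1 => lemma333 h hu hv huv huv1)
    (fun ht => Cfsg.Agent.Lib.Helper25_H9_FUS.conj_x h ht)
    (fun ht => Cfsg.Agent.Lib.Helper25_H9_FUS.conj_y h ht) hnc
  have hc1 := Cfsg.Agent.Lib.Helper73_H9_CNT1.count1_aux h (fun hu hv huv huv1 => lemma333 h hu hv huv huv1)
    (fun ht => Cfsg.Agent.Lib.Helper25_H9_FUS.conj_x h ht)
    (fun ht => Cfsg.Agent.Lib.Helper25_H9_FUS.conj_y h ht)
    (fun ht => Cfsg.Agent.Lib.Helper25_H9_FUS.conj_xy h ht) hnc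
  obtain ⟨E1, E2, E3, E4, E5, E6, E7⟩ := Cfsg.Agent.Lib.Helper73_H9_EQS.eqs_aux hv hcent hc0 hc1
  have : Fintype (IrrCharacter G) := Fintype.ofFinite _
  rw [finsum_eq_sum_of_fintype] at hα hβ hαβ hδ hsq E1 E2 E3 E4 E5 E6 E7
  have hgpos : (Nat.card G : ℚ) ≠ 0 := by
    have : 0 < Nat.card G := Nat.card_pos
    positivity
  obtain ⟨F1, F2⟩ := Cfsg.Agent.Lib.Helper91_H9_PLIN.pure_lin f (Nat.card G : ℚ) hgpos α β δ
    E1 E2 E3 E4 E5 E6 E7
  have hg : Nat.card G < 324 :=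
    Cfsg.Agent.Lib.Helper25_H9_PCOMB.pure_comb (oneIrr G) f hv.fpos (Nat.card G) α β δ hαo hα hβ
      hαβ hδ hsq F1 F2
  have hmod := Cfsg.Agent.Lib.Helper98_H9_SYL.card_sylow_modEq h T rfl
  have hidx : Nat.card (Sylow 3 G) = (Subgroup.normalizer ((T : Subgroup G) : Set G)).index :=
    Sylow.card_eq_index_normalizer T
  have hmul := (Subgroup.normalizer ((T : Subgroup G) : Set G)).index_mul_card
  rw [h.cardN] at hmul
  rw [hidx] at hmod
  have hlt : (Subgroup.normalizer ((T : Subgroup G) : Set G)).index < 9 := by omega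
  have h1 : (Subgroup.normalizer ((T : Subgroup G) : Set G)).index = 1 := by
    have := hmod
    unfold Nat.ModEq at this
    omega
  exact Subgroup.index_eq_one.mp h1

end Cfsg.Agent.S3805
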