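import Cfsg.Statements.S3056
import Cfsg.Agent.Lib.Helper51_StrEmb

set_option autoImplicit false
set_option linter.unusedSectionVars false
open Cfsg
open Cfsg.Agent.Lib.Helper51_StrEmb

namespace Cfsg.Agent.S3056

variable {G : Type*} [Group G] [Finite G] {p : ℕ} [Fact p.Prime]

/-- adjacency of Sylow subgroups -/
def adj (S T : Sylow p G) : Prop := S ≠ T ∧ (S : Subgroup G) ⊓ (T : Subgroup G) ≠ ⊥

/-- reachability -/
abbrev R (S T : Sylow p G) : Prop := Relation.ReflTransGen adj S T

theorem inf_ne_bot_iff (A B : Subgroup G) : A ⊓ B ≠ ⊥ ↔ ∃ x, x ∈ A ∧ x ∈ B ∧ x ≠ 1 := by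
  rw [Ne, Subgroup.eq_bot_iff_forall]
  constructor
  · intro h
    push Not at h
    obtain ⟨x, hx, hx1⟩ := h
    exact ⟨x, hx.1, hx.2, hx1⟩
  · rintro ⟨x, hA, hB, hx1⟩ h
    exact hx1 (h x ⟨hA, hB⟩)

theorem mem_smul {g x : G} {S : Sylow p G} :
    x ∈ ((g • S : Sylow p G) : Subgroup G) ↔ g⁻¹ * x * g ∈ (S : Subgroup G) := by
  rw [Sylow.coe_subgroup_smul, Subgroup.mem_pointwise_smul_iff_inv_smul_mem]
  simp [MulAut.smul_def, mul_assoc]

theorem adj_symm {S T : Sylow p G} (h : adj S T) : adj T S :=
  ⟨h.1.symm, by rw [inf_comm]; exact h.2⟩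

theorem adj_smul (g : G) {S T : Sylow p G} (h : adj S T) : adj (g • S) (g • T) := by
  refine ⟨?_, ?_⟩
  · intro he
    apply h.1
    have := congrArg (fun P => g⁻¹ • P) he
    simpa using this
  · obtain ⟨x, hS, hT, hx1⟩ := (inf_ne_bot_iff _ _).mp h.2
    rw [inf_ne_bot_iff]
    refine ⟨g * x * g⁻¹, ?_, ?_, ?_⟩
    · rw [mem_smul]; simpa [mul_assoc] using hS
    · rw [mem_smul]; simpa [mul_assoc] using hT
    · intro h1
      apply hx1
      have : x = g⁻¹ * (g * x * g⁻¹) * g := by group
      rw [this, h1]; group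

theorem R_symm {S T : Sylow p G} (h : R S T) : R T S := by
  induction h with
  | refl => exact Relation.ReflTransGen.refl
  | tail _ hbc ih => exact Relation.ReflTransGen.head (adj_symm hbc) ih

theorem R_smul (g : G) {S T : Sylow p G} (h : R S T) : R (g • S) (g • T) := by
  induction h with
  | refl => exact Relation.ReflTransGen.refl
  | tail _ hbc ih => exact Relation.ReflTransGen.tail ih (adj_smul g hbc)

/-- A chain (without the extra clause) yields reachability. -/
theorem R_of_chain (n : ℕ) (c : Fin (n + 1) → Sylow p G)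
    (h : ∀ i : Fin n, c i.castSucc ≠ c i.succ ∧
      (c i.castSucc : Subgroup G) ⊓ (c i.succ : Subgroup G) ≠ ⊥) :
    ∀ i : Fin (n + 1), R (c 0) (c i) := by
  intro i
  induction i using Fin.induction with
  | zero => exact Relation.ReflTransGen.refl
  | succ j ih => exact Relation.ReflTransGen.tail ih (h j)

/-- Reachability yields a chain. -/
theorem chain_of_R {S T : Sylow p G} (h : R S T) :
    ∃ (n : ℕ) (c : Fin (n + 1) → Sylow p G), c 0 = S ∧ c (Fin.last n) = T ∧
      ∀ i : Fin n, c i.castSucc ≠ c i.succ ∧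
        (c i.castSucc : Subgroup G) ⊓ (c i.succ : Subgroup G) ≠ ⊥ := by
  induction h using Relation.ReflTransGen.head_induction_on with
  | refl => exact ⟨0, fun _ => T, rfl, rfl, fun i => i.elim0⟩
  | @head a c' h' _ ih =>
    obtain ⟨n, c, h0, hl, hc⟩ := ih
    refine ⟨n + 1, Fin.cons a c, ?_, ?_, ?_⟩
    · simp
    · rw [← Fin.succ_last, Fin.cons_succ]; exact hl
    · intro i
      induction i using Fin.cases with
      | zero =>
        have e1 : (Fin.cons a c : Fin (n + 2) → Sylow p G) (Fin.castSucc (0 : Fin (n + 1))) = a := by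
          simp
        have e2 : (Fin.cons a c : Fin (n + 2) → Sylow p G) (Fin.succ (0 : Fin (n + 1))) = c' := by
          rw [Fin.cons_succ]; exact h0
        rw [e1, e2]
        exact h'
      | succ j =>
        have e1 : (Fin.cons a c : Fin (n + 2) → Sylow p G) (Fin.castSucc j.succ) = c j.castSucc := by
          rw [← Fin.succ_castSucc, Fin.cons_succ]
        have e2 : (Fin.cons a c : Fin (n + 2) → Sylow p G) (Fin.succ j.succ) = c j.succ := by
          rw [Fin.cons_succ]
        rw [e1, e2]
        exact hc j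

theorem connected_iff : Cfsg.IsSylowChainConnected p G ↔ ∀ S T : Sylow p G, R S T := by
  constructor
  · intro h S T
    obtain ⟨n, c, h0, hl, -, hc⟩ := h S T
    have := R_of_chain n c hc (Fin.last n)
    rwa [h0, hl] at this
  · intro h S T
    by_cases hbot : (S : Subgroup G) ⊓ (T : Subgroup G) = ⊥
    · obtain ⟨n, c, h0, hl, hc⟩ := chain_of_R (h S T)
      refine ⟨n, c, h0, hl, ?_, hc⟩
      intro i
      rw [hbot]
      exact bot_le
    · by_cases hST : S = T
      · subst hST
        exact ⟨0, fun _ => S, rfl, rfl, fun _ => inf_le_left, fun i => i.elim0⟩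
      · refine ⟨1, ![S, T], rfl, rfl, ?_, ?_⟩
        · intro i
          fin_cases i
          · exact inf_le_left
          · exact inf_le_right
        · intro i
          fin_cases i
          exact ⟨hST, hbot⟩

/-- The stabilizer of the connected component of `S`. -/
def compStab (S : Sylow p G) : Subgroup G where
  carrier := {g | R S (g • S)}
  one_mem' := by
    show R S ((1 : G) • S)
    rw [one_smul]
  mul_mem' := by
    intro a b ha hb
    show R S ((a * b) • S)
    rw [mul_smul]
    exact Relation.ReflTransGen.trans ha (R_smul a hb)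
  inv_mem' := by
    intro a ha
    show R S (a⁻¹ • S)
    have := R_smul a⁻¹ ha
    rw [inv_smul_smul] at this
    exact R_symm this

theorem mem_compStab {S : Sylow p G} {g : G} : g ∈ compStab S ↔ R S (g • S) := Iff.rfl

theorem le_compStab (S : Sylow p G) : (S : Subgroup G) ≤ compStab S := by
  intro s hs
  rw [mem_compStab]
  have : s • S = S := Sylow.smul_eq_iff_mem_normalizer.mpr (Subgroup.le_normalizer hs)
  rw [this]

/-- A `p`-element of `H ≥ S` lies in an `H`-conjugate of `S`. -/
theorem exists_smul_mem {H : Subgroup G} {S : Sylow p G} (hSH : (S : Subgroup G) ≤ H) {x : G}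
    (hxH : x ∈ H) (hx : IsPGroup p (Subgroup.zpowers x)) :
    ∃ h ∈ H, x ∈ ((h • S : Sylow p G) : Subgroup G) := by
  have hQ : IsPGroup p (Subgroup.zpowers (⟨x, hxH⟩ : ↥H)) := by
    have : Subgroup.zpowers (⟨x, hxH⟩ : ↥H) = (Subgroup.zpowers x).subgroupOf H := by
      ext y
      rw [Subgroup.mem_subgroupOf, Subgroup.mem_zpowers_iff, Subgroup.mem_zpowers_iff]
      constructor
      · rintro ⟨k, rfl⟩; exact ⟨k, by simp⟩
      · rintro ⟨k, hk⟩; exact ⟨k, by ext; simpa using hk⟩
    rw [this]
    exact hx.comap_subtype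
  obtain ⟨P', hP'⟩ := hQ.exists_le_sylow
  obtain ⟨h, hh⟩ := MulAction.exists_smul_eq ↥H (S.subtype hSH) P'
  refine ⟨h.1, h.2, ?_⟩
  have hx' : (⟨x, hxH⟩ : ↥H) ∈ (P' : Subgroup ↥H) := hP' (Subgroup.mem_zpowers _)
  rw [← hh, mem_smul, Sylow.coe_subtype, Subgroup.mem_subgroupOf] at hx'
  rw [mem_smul]
  simpa using hx'

/-- Let G be a finite group and p a prime. Join two Sylow p-subgroups when they are distinct and meet nontrivially. This graph on the Sylow p-subgroups is disconnected (the Sylow p-subgroups are not chain-connected through nontrivial intersections) if and only if G has a strongly p-embedded subgroup in the classical sense: a proper subgroup H of order divisible by p such that H ∩ gHg⁻¹ has order prime to p for every g outside H. -/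
theorem result {G : Type*} [Group G] [Finite G]
    (p : ℕ) [Fact p.Prime] :
    ¬ Cfsg.IsSylowChainConnected p G ↔
      ∃ H : Subgroup G, H ≠ ⊤ ∧ p ∣ Nat.card H ∧
        ∀ g : G, g ∉ H → ¬ p ∣ Nat.card ↥(H ⊓ H.map (MulAut.conj g).toMonoidHom) := by
  have hp : p.Prime := Fact.out
  rw [connected_iff]
  constructor
  · intro hnc
    push Not at hnc
    obtain ⟨S, T, hST⟩ := hnc
    have hpG : p ∣ Nat.card G := by
      by_contra hnd
      apply hST
      have hS := S.card_eq_multiplicity
      have hT := T.card_eq_multiplicity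
      rw [Nat.factorization_eq_zero_of_not_dvd hnd, pow_zero] at hS hT
      have : S = T := by
        apply Sylow.ext
        rw [Subgroup.eq_bot_of_card_eq _ hS, Subgroup.eq_bot_of_card_eq _ hT]
      rw [this]
    have hS1 : (S : Subgroup G) ≠ ⊥ := S.ne_bot_of_dvd_card hpG
    refine ⟨compStab S, ?_, ?_, ?_⟩
    · intro htop
      obtain ⟨g, hg⟩ := MulAction.exists_smul_eq G S T
      have : g ∈ compStab S := by rw [htop]; exact Subgroup.mem_top g
      rw [mem_compStab, hg] at this
      exact hST this
    · exact (dvd_card_of_pgroup_ne_bot S.isPGroup' hS1).trans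
        (Subgroup.card_dvd_of_le (le_compStab S))
    · intro g hg hdvd
      apply hg
      obtain ⟨x, hx⟩ := exists_prime_orderOf_dvd_card'
        (G := ↥(compStab S ⊓ (compStab S).map (MulAut.conj g).toMonoidHom)) p hdvd
      have hxo : orderOf (x : G) = p := by rw [Subgroup.orderOf_coe]; exact hx
      have hx1 : (x : G) ≠ 1 := by
        intro h
        rw [h, orderOf_one] at hxo
        exact hp.one_lt.ne hxo
      have hxH : (x : G) ∈ compStab S := x.2.1
      have hxH' : g⁻¹ * (x : G) * g ∈ compStab S := by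
        have : (x : G) ∈ cj g (compStab S) := x.2.2
        rwa [mem_cj] at this
      have hZ : IsPGroup p (Subgroup.zpowers (x : G)) := by
        apply IsPGroup.of_card (n := 1)
        rw [Nat.card_zpowers, hxo, pow_one]
      have hZ' : IsPGroup p (Subgroup.zpowers (g⁻¹ * (x : G) * g)) := by
        apply IsPGroup.of_card (n := 1)
        have : orderOf (g⁻¹ * (x : G) * g) = orderOf (x : G) := by
          have := MulEquiv.orderOf_eq (MulAut.conj g⁻¹) (x : G)
          simpa using this
        rw [Nat.card_zpowers, this, hxo, pow_one]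
      obtain ⟨h, hh, hxh⟩ := exists_smul_mem (le_compStab S) hxH hZ
      obtain ⟨h', hh', hxh'⟩ := exists_smul_mem (le_compStab S) hxH' hZ'
      -- x ∈ (h • S) ⊓ ((g * h') • S)
      have hx2 : (x : G) ∈ (((g * h') • S : Sylow p G) : Subgroup G) := by
        rw [mem_smul] at hxh' ⊢
        have : (g * h')⁻¹ * (x : G) * (g * h') = h'⁻¹ * (g⁻¹ * (x : G) * g) * h' := by group
        rw [this]
        exact hxh'
      have hR : R (h • S) ((g * h') • S) := by
        by_cases he : h • S = (g * h') • S
        · rw [he]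
        · exact Relation.ReflTransGen.single
            ⟨he, (inf_ne_bot_iff _ _).mpr ⟨x, hxh, hx2, hx1⟩⟩
      have hgh' : g * h' ∈ compStab S := by
        rw [mem_compStab]
        exact Relation.ReflTransGen.trans (mem_compStab.mp hh) hR
      have : g = (g * h') * h'⁻¹ := by group
      rw [this]
      exact Subgroup.mul_mem _ hgh' (Subgroup.inv_mem _ hh')
  · rintro ⟨H, hHtop, hpH, hse⟩ hconn
    have hse' : SE p H := hse
    obtain ⟨S, hSH⟩ := exists_sylow_le hse' hpH
    have hpG : p ∣ Nat.card G := hpH.trans (Subgroup.card_subgroup_dvd_card H)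
    -- everything reachable from S lies in H
    have hreach : ∀ T : Sylow p G, R S T → (T : Subgroup G) ≤ H := by
      intro T hT
      induction hT with
      | refl => exact hSH
      | @tail T1 T2 _ hbc ih =>
        obtain ⟨x, hx1, hx2, hxne⟩ := (inf_ne_bot_iff _ _).mp hbc.2
        have hZ1 : Subgroup.zpowers x ≠ ⊥ := by
          intro h
          rw [Subgroup.zpowers_eq_bot] at h
          exact hxne h
        apply pgroup_le hse' T2.isPGroup' hZ1
        · rw [Subgroup.zpowers_le]; exact hx2
        · rw [Subgroup.zpowers_le]; exact ih hx1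
    obtain ⟨g, hg⟩ : ∃ g : G, g ∉ H := by
      by_contra hall
      push Not at hall
      exact hHtop (eq_top_iff.mpr fun x _ => hall x)
    apply hse g hg
    have h1 : ((g • S : Sylow p G) : Subgroup G) ≤ H := hreach _ (hconn S (g • S))
    have h2 : ((g • S : Sylow p G) : Subgroup G) ≤ cj g H := by
      intro x hx
      rw [mem_smul] at hx
      rw [mem_cj]
      exact hSH hx
    have hne : ((g • S : Sylow p G) : Subgroup G) ≠ ⊥ := (g • S).ne_bot_of_dvd_card hpG
    exact (dvd_card_of_pgroup_ne_bot (g • S).isPGroup' hne).trans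
      (Subgroup.card_dvd_of_le (le_inf h1 h2))

end Cfsg.Agent.S3056
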