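import Cfsg.Statements.S3059
import Cfsg.Agent.Lib.Helper51_StrEmb

set_option autoImplicit false
open Cfsg
open Cfsg.Agent.Lib.Helper51_StrEmb

namespace Cfsg.Agent.S3059

variable {G : Type*} [Group G] [Finite G]

/-- The subgroup generated by the `p'`-elements of `N`. -/
abbrev opN (p : ℕ) (N : Subgroup G) : Subgroup G :=
  Subgroup.closure {g : G | g ∈ N ∧ (orderOf g).Coprime p}

theorem opN_le (p : ℕ) (N : Subgroup G) : opN p N ≤ N := by
  rw [Subgroup.closure_le]
  intro g hg
  exact hg.1

theorem opN_normal (p : ℕ) (N : Subgroup G) [N.Normal] : (opN p N).Normal := by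
  constructor
  intro n hn g
  induction hn using Subgroup.closure_induction with
  | mem x hx =>
    apply Subgroup.subset_closure
    refine ⟨Subgroup.Normal.conj_mem inferInstance x hx.1 g, ?_⟩
    have : orderOf (g * x * g⁻¹) = orderOf x := by
      have := MulEquiv.orderOf_eq (MulAut.conj g) x
      simpa using this
    rw [this]
    exact hx.2
  | one => simp
  | mul x y _ _ hx hy =>
    have : g * (x * y) * g⁻¹ = (g * x * g⁻¹) * (g * y * g⁻¹) := by group
    rw [this]
    exact Subgroup.mul_mem _ hx hy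
  | inv x _ hx =>
    have : g * x⁻¹ * g⁻¹ = (g * x * g⁻¹)⁻¹ := by group
    rw [this]
    exact Subgroup.inv_mem _ hx

/-- `N / O^p(N)` is a `p`-group: the index is a power of `p`. -/
theorem relIndex_opN (p : ℕ) [Fact p.Prime] (N : Subgroup G) [N.Normal] :
    ∃ j : ℕ, (opN p N).relIndex N = p ^ j := by
  have hp : p.Prime := Fact.out
  have : (opN p N).Normal := opN_normal p N
  have : ((opN p N).subgroupOf N).Normal := Subgroup.Normal.subgroupOf inferInstance N
  have hpg : IsPGroup p (↥N ⧸ (opN p N).subgroupOf N) := by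
    intro q
    induction q using QuotientGroup.induction_on with
    | H n =>
      refine ⟨(orderOf (n : G)).factorization p, ?_⟩
      rw [← QuotientGroup.mk_pow, QuotientGroup.eq_one_iff, Subgroup.mem_subgroupOf]
      apply Subgroup.subset_closure
      refine ⟨?_, ?_⟩
      · exact N.pow_mem n.2 _
      · have hpos : 0 < orderOf (n : G) := orderOf_pos _
        have hne : p ^ (orderOf (n : G)).factorization p ≠ 0 := pow_ne_zero _ hp.ne_zero
        have : orderOf ((n : G) ^ p ^ (orderOf (n : G)).factorization p) =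
            orderOf (n : G) / p ^ (orderOf (n : G)).factorization p := by
          rw [orderOf_pow' _ hne, Nat.gcd_eq_right (Nat.ordProj_dvd _ _)]
        simp only [Subgroup.coe_pow] at this ⊢
        rw [this]
        exact (Nat.coprime_ordCompl hp hpos.ne').symm
  obtain ⟨j, hj⟩ := IsPGroup.iff_card.mp hpg
  exact ⟨j, hj⟩

/-- Let p be a prime and H a strongly p-embedded subgroup of the finite group G in the classical sense: H is proper, p divides the order of H, and H ∩ gHg⁻¹ has order prime to p for every g outside H. Then for every normal subgroup N of G of order divisible by p, G = H · O^p(N), where O^p(N) is the subgroup generated by the elements of N of order prime to p. -/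
theorem result {G : Type*} [Group G] [Finite G]
    (p : ℕ) [Fact p.Prime] (H : Subgroup G) (hH : H ≠ ⊤) (hpH : p ∣ Nat.card H)
    (hse : ∀ g : G, g ∉ H → ¬ p ∣ Nat.card ↥(H ⊓ H.map (MulAut.conj g).toMonoidHom))
    (N : Subgroup G) [N.Normal] (hN : p ∣ Nat.card N) :
    H ⊔ Subgroup.closure {g : G | g ∈ N ∧ (orderOf g).Coprime p} = ⊤ := by
  have hp : p.Prime := Fact.out
  have hse' : SE p H := hse
  -- a Sylow p-subgroup of G inside H
  obtain ⟨S, hSH⟩ := exists_sylow_le hse' hpH
  -- an element of order p in N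
  obtain ⟨x, hx⟩ := exists_prime_orderOf_dvd_card' (G := ↥N) p hN
  have hx' : orderOf (x : G) = p := by rw [Subgroup.orderOf_coe]; exact hx
  have hZ : IsPGroup p (Subgroup.zpowers (x : G)) := by
    apply IsPGroup.of_card (n := 1)
    rw [Nat.card_zpowers, hx', pow_one]
  obtain ⟨S'', hS''⟩ := hZ.exists_le_sylow
  obtain ⟨g, hg⟩ := MulAction.exists_smul_eq G S'' S
  -- y = g x g⁻¹ lies in S ⊓ N
  set y : G := g * (x : G) * g⁻¹ with hy
  have hyS : y ∈ (S : Subgroup G) := by
    have hxS'' : (x : G) ∈ (S'' : Subgroup G) := hS'' (Subgroup.mem_zpowers _)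
    have : y ∈ ((g • S'' : Sylow p G) : Subgroup G) := by
      rw [Sylow.coe_subgroup_smul]
      exact Subgroup.smul_mem_pointwise_smul (x : G) (MulAut.conj g) _ hxS''
    rwa [hg] at this
  have hyN : y ∈ N := Subgroup.Normal.conj_mem inferInstance _ x.2 g
  have hyord : orderOf y = p := by
    have := MulEquiv.orderOf_eq (MulAut.conj g) (x : G)
    rw [← hx']
    simpa using this
  have hy1 : Subgroup.zpowers y ≠ ⊥ := by
    intro h
    rw [Subgroup.zpowers_eq_bot] at h
    rw [h, orderOf_one] at hyord
    exact hp.one_lt.ne hyord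
  have hyH : Subgroup.zpowers y ≤ H := by
    rw [Subgroup.zpowers_le]; exact hSH hyS
  have hyN' : Subgroup.zpowers y ≤ N := by
    rw [Subgroup.zpowers_le]; exact hyN
  have hQ0 : IsPGroup p (Subgroup.zpowers y) := by
    apply IsPGroup.of_card (n := 1)
    rw [Nat.card_zpowers, hyord, pow_one]
  -- a Sylow p-subgroup of N containing y
  have hQ0' : IsPGroup p ((Subgroup.zpowers y).subgroupOf N) :=
    hQ0.comap_subtype
  obtain ⟨P0, hP0⟩ := hQ0'.exists_le_sylow
  set Q : Subgroup G := (P0 : Subgroup ↥N).map N.subtype with hQdef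
  have hQ0Q : Subgroup.zpowers y ≤ Q := by
    intro z hz
    exact ⟨⟨z, hyN' hz⟩, hP0 (by rw [Subgroup.mem_subgroupOf]; exact hz), rfl⟩
  have hQp : IsPGroup p Q := P0.isPGroup'.map _
  have hQ1 : Q ≠ ⊥ := by
    intro h
    apply hy1
    rw [h] at hQ0Q
    exact le_bot_iff.mp hQ0Q
  have hQH : Q ≤ H := pgroup_le hse' hQp hy1 hQ0Q hyH
  have hNQ : Subgroup.normalizer (Q : Set G) ≤ H := normalizer_le hse' hQp hQ1 hQH
  have hfr : Subgroup.normalizer (Q : Set G) ⊔ N = ⊤ := Sylow.normalizer_sup_eq_top P0
  -- N = Q ⊔ O^p(N)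
  have hNle : N ≤ Q ⊔ opN p N := by
    rw [← Subgroup.relIndex_eq_one]
    obtain ⟨j, hj⟩ := relIndex_opN p N
    have d1 : (Q ⊔ opN p N).relIndex N ∣ Q.relIndex N :=
      Subgroup.relIndex_dvd_of_le_left N le_sup_left
    have d2 : (Q ⊔ opN p N).relIndex N ∣ (opN p N).relIndex N :=
      Subgroup.relIndex_dvd_of_le_left N le_sup_right
    have hQidx : Q.relIndex N = (P0 : Subgroup ↥N).index := by
      unfold Subgroup.relIndex
      congr 1
      rw [hQdef]
      exact Subgroup.comap_map_eq_self_of_injective N.subtype_injective _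
    have hcop : Nat.Coprime (Q.relIndex N) ((opN p N).relIndex N) := by
      rw [hj, hQidx]
      apply Nat.Coprime.pow_right
      rw [Nat.coprime_comm]
      exact (Nat.Prime.coprime_iff_not_dvd hp).mpr P0.not_dvd_index
    exact Nat.eq_one_of_dvd_coprimes hcop d1 d2
  -- conclude
  rw [eq_top_iff, ← hfr]
  apply sup_le
  · exact hNQ.trans le_sup_left
  · calc N ≤ Q ⊔ opN p N := hNle
      _ ≤ H ⊔ opN p N := sup_le_sup_right hQH _

end Cfsg.Agent.S3059
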