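import Cfsg.Statements.S3058
import Cfsg.Agent.Lib.Helper51_StrEmb
import Cfsg.Agent.Lib.Helper48_Generation
import Cfsg.Agent.S3056
import Cfsg.Agent.S3059

set_option autoImplicit false
set_option linter.unusedSectionVars false
open Cfsg
open Cfsg.Agent.Lib.Helper51_StrEmb

namespace Cfsg.Agent.S3058

variable {G : Type*} [Group G] [Finite G] {p : ℕ} [Fact p.Prime]

/-- A normal subgroup of order divisible by `p` meets every Sylow `p`-subgroup in an element
of order `p`. -/
theorem exists_orderOf_eq_in_sylow (S : Sylow p G) (N : Subgroup G) [N.Normal]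
    (hN : p ∣ Nat.card N) : ∃ y : G, y ∈ (S : Subgroup G) ∧ y ∈ N ∧ orderOf y = p := by
  obtain ⟨x, hx⟩ := exists_prime_orderOf_dvd_card' (G := ↥N) p hN
  have hx' : orderOf (x : G) = p := by rw [Subgroup.orderOf_coe]; exact hx
  have hZ : IsPGroup p (Subgroup.zpowers (x : G)) := by
    apply IsPGroup.of_card (n := 1)
    rw [Nat.card_zpowers, hx', pow_one]
  obtain ⟨S'', hS''⟩ := hZ.exists_le_sylow
  obtain ⟨g, hg⟩ := MulAction.exists_smul_eq G S'' S
  refine ⟨g * (x : G) * g⁻¹, ?_, ?_, ?_⟩
  · have hxS'' : (x : G) ∈ (S'' : Subgroup G) := hS'' (Subgroup.mem_zpowers _)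
    have : g * (x : G) * g⁻¹ ∈ ((g • S'' : Sylow p G) : Subgroup G) := by
      rw [Sylow.coe_subgroup_smul]
      exact Subgroup.smul_mem_pointwise_smul (x : G) (MulAut.conj g) _ hxS''
    rwa [hg] at this
  · exact Subgroup.Normal.conj_mem inferInstance _ x.2 g
  · have := MulEquiv.orderOf_eq (MulAut.conj g) (x : G)
    rw [← hx']
    simpa using this

/-- Let p be a prime and G a finite group whose Sylow p-subgroups are not chain-connected through nontrivial intersections (so G has a strongly p-embedded subgroup). If N and M are normal subgroups of G whose orders are both divisible by p, then the order of N ∩ M is divisible by p. Consequently, among the normal subgroups of G whose order is divisible by p there is a smallest one (the intersection of all of them). -/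
theorem result {G : Type*} [Group G] [Finite G]
    (p : ℕ) [Fact p.Prime] (hG : ¬ Cfsg.IsSylowChainConnected p G)
    (N M : Subgroup G) [N.Normal] [M.Normal] (hN : p ∣ Nat.card N) (hM : p ∣ Nat.card M) :
    p ∣ Nat.card ↥(N ⊓ M) := by
  have hp : p.Prime := Fact.out
  obtain ⟨H, hHtop, hpH, hse⟩ := (Cfsg.Agent.S3056.result p).mp hG
  have hse' : SE p H := hse
  by_contra hD
  obtain ⟨S, hSH⟩ := exists_sylow_le hse' hpH
  obtain ⟨x, hxS, hxN, hxo⟩ := exists_orderOf_eq_in_sylow S N hN
  obtain ⟨y, hyS, hyM, hyo⟩ := exists_orderOf_eq_in_sylow S M hM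
  -- p-elements of N ⊓ M are trivial
  have hpD : ∀ w : G, w ∈ (S : Subgroup G) → w ∈ N → w ∈ M → w = 1 := by
    intro w hwS hwN hwM
    by_contra hw1
    apply hD
    have hZ : IsPGroup p (Subgroup.zpowers w) := S.isPGroup'.to_le (by
      rw [Subgroup.zpowers_le]; exact hwS)
    have hZ1 : Subgroup.zpowers w ≠ ⊥ := by
      intro h; rw [Subgroup.zpowers_eq_bot] at h; exact hw1 h
    have hle : Subgroup.zpowers w ≤ N ⊓ M := by
      rw [Subgroup.zpowers_le]; exact ⟨hwN, hwM⟩
    exact (dvd_card_of_pgroup_ne_bot hZ hZ1).trans (Subgroup.card_dvd_of_le hle)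
  have hconjN : ∀ g n : G, n ∈ N → g * n * g⁻¹ ∈ N := fun g n hn =>
    Subgroup.Normal.conj_mem inferInstance n hn g
  have hconjM : ∀ g n : G, n ∈ M → g * n * g⁻¹ ∈ M := fun g n hn =>
    Subgroup.Normal.conj_mem inferInstance n hn g
  -- x and y commute
  have hxy : x * y = y * x := by
    have h1 : x * y * x⁻¹ * y⁻¹ = 1 := by
      apply hpD
      · exact Subgroup.mul_mem _ (Subgroup.mul_mem _ (Subgroup.mul_mem _ hxS hyS)
          (Subgroup.inv_mem _ hxS)) (Subgroup.inv_mem _ hyS)
      · have : x * y * x⁻¹ * y⁻¹ = x * (y * x⁻¹ * y⁻¹) := by group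
        rw [this]
        exact N.mul_mem hxN (hconjN y x⁻¹ (N.inv_mem hxN))
      · exact M.mul_mem (hconjM x y hyM) (M.inv_mem hyM)
    calc x * y = (x * y * x⁻¹ * y⁻¹) * (y * x) := by group
      _ = y * x := by rw [h1, one_mul]
  -- centralizers of nontrivial p-elements of S lie in H
  have hcent : ∀ w : G, w ∈ (S : Subgroup G) → w ≠ 1 →
      Subgroup.centralizer ({w} : Set G) ≤ H := by
    intro w hwS hw1
    have hZ : IsPGroup p (Subgroup.zpowers w) := S.isPGroup'.to_le (by
      rw [Subgroup.zpowers_le]; exact hwS)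
    have hZ1 : Subgroup.zpowers w ≠ ⊥ := by
      intro h; rw [Subgroup.zpowers_eq_bot] at h; exact hw1 h
    have hZH : Subgroup.zpowers w ≤ H := by
      rw [Subgroup.zpowers_le]; exact hSH hwS
    refine le_trans ?_ (normalizer_le hse' hZ hZ1 hZH)
    have : Subgroup.centralizer ({w} : Set G) =
        Subgroup.centralizer ((Subgroup.zpowers w : Subgroup G) : Set G) := by
      rw [Subgroup.zpowers_eq_closure, Subgroup.centralizer_closure]
    rw [this]
    exact Subgroup.centralizer_le_normalizer _
  have hx1 : x ≠ 1 := by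
    intro h; rw [h, orderOf_one] at hxo; exact hp.one_lt.ne hxo
  have hy1 : y ≠ 1 := by
    intro h; rw [h, orderOf_one] at hyo; exact hp.one_lt.ne hyo
  -- D = N ⊓ M lies in H by the generation lemma
  have hDH : N ⊓ M ≤ H := by
    have hnorm : ∀ g : G, g ∈ Subgroup.normalizer ((N ⊓ M : Subgroup G) : Set G) := by
      intro g
      have : (N ⊓ M).Normal := inferInstance
      rw [Subgroup.normalizer_eq_top_iff.mpr this]
      exact Subgroup.mem_top g
    apply Cfsg.Agent.Lib.Helper48_Generation.le_of_centralizers_le (p := p) (N ⊓ M) hD x y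
      (hnorm x) (hnorm y) (by rw [← hxo]; exact pow_orderOf_eq_one x)
      (by rw [← hyo]; exact pow_orderOf_eq_one y) hxy H
    · exact inf_le_right.trans (hcent y hyS hy1)
    · intro i
      refine inf_le_right.trans (hcent (x * y ^ i) ?_ ?_)
      · exact Subgroup.mul_mem _ hxS (Subgroup.pow_mem _ hyS i)
      · intro h
        apply hx1
        have hxeq : x = (y ^ i)⁻¹ := eq_inv_of_mul_eq_one_left h
        apply hpD x hxS hxN
        rw [hxeq]
        exact M.inv_mem (M.pow_mem hyM i)
  -- N ≤ H
  have hNH : N ≤ H := by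
    intro n hn
    by_contra hnH
    apply hse n hnH
    have hZ : IsPGroup p (Subgroup.zpowers (n * y * n⁻¹)) := by
      apply IsPGroup.of_card (n := 1)
      have : orderOf (n * y * n⁻¹) = orderOf y := by
        have := MulEquiv.orderOf_eq (MulAut.conj n) y
        simpa using this
      rw [Nat.card_zpowers, this, hyo, pow_one]
    have hZ1 : Subgroup.zpowers (n * y * n⁻¹) ≠ ⊥ := by
      intro h
      rw [Subgroup.zpowers_eq_bot] at h
      apply hy1
      have : y = n⁻¹ * (n * y * n⁻¹) * n := by group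
      rw [this, h]; group
    have hle : Subgroup.zpowers (n * y * n⁻¹) ≤ H ⊓ H.map (MulAut.conj n).toMonoidHom := by
      rw [Subgroup.zpowers_le]
      refine ⟨?_, ?_⟩
      · have hcomm : n * y * n⁻¹ * y⁻¹ ∈ N ⊓ M := by
          refine ⟨?_, ?_⟩
          · have : n * y * n⁻¹ * y⁻¹ = n * (y * n⁻¹ * y⁻¹) := by group
            rw [this]
            exact N.mul_mem hn (hconjN y n⁻¹ (N.inv_mem hn))
          · exact M.mul_mem (hconjM n y hyM) (M.inv_mem hyM)
        have : n * y * n⁻¹ = (n * y * n⁻¹ * y⁻¹) * y := by group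
        rw [this]
        exact H.mul_mem (hDH hcomm) (hSH hyS)
      · show n * y * n⁻¹ ∈ cj n H
        rw [mem_cj]
        have : n⁻¹ * (n * y * n⁻¹) * n = y := by group
        rw [this]
        exact hSH hyS
    exact (dvd_card_of_pgroup_ne_bot hZ hZ1).trans (Subgroup.card_dvd_of_le hle)
  -- but H ⊔ N = ⊤
  apply hHtop
  have h59 := Cfsg.Agent.S3059.result p H hHtop hpH hse N hN
  rw [eq_top_iff, ← h59]
  apply sup_le le_rfl
  rw [Subgroup.closure_le]
  intro g hg
  exact hNH hg.1

end Cfsg.Agent.S3058
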