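import Cfsg.Statements.S3072
import Cfsg.Agent.Lib.Helper33_Conj
import Cfsg.Agent.Lib.Helper33_Alperin
import Cfsg.Agent.Lib.Helper31_AG
import Cfsg.Agent.Lib.Helper23_PConstrained
import Cfsg.Agent.Lib.Helper47_WeaklyClosed
import Cfsg.Agent.Lib.Helper50_AGLocal
import Cfsg.Agent.Lib.Helper50_AGExpl

set_option autoImplicit false
open Cfsg

namespace Cfsg.Agent.S3072

open Cfsg.Agent.Lib.Helper33_Conj Cfsg.Agent.Lib.Helper33_Alperin
open Cfsg.Agent.Lib.Helper50_AGLocal Cfsg.Agent.Lib.Helper50_AGExpl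

section aux

variable {G : Type*} [Group G]

/-- elements of `W ⊔ U` are products when `W` and `U` commute elementwise -/
theorem exists_mul_of_mem_sup_of_commute {W U : Subgroup G}
    (hcomm : ∀ a ∈ W, ∀ b ∈ U, a * b = b * a) {z : G} (hz : z ∈ W ⊔ U) :
    ∃ w ∈ W, ∃ u ∈ U, z = w * u := by
  rw [Subgroup.sup_eq_closure] at hz
  induction hz using Subgroup.closure_induction with
  | mem x hx =>
    rcases hx with hx | hx
    · exact ⟨x, hx, 1, U.one_mem, by simp⟩
    · exact ⟨1, W.one_mem, x, hx, by simp⟩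
  | one => exact ⟨1, W.one_mem, 1, U.one_mem, by simp⟩
  | mul x y _ _ hx hy =>
    obtain ⟨w, hw, u, hu, rfl⟩ := hx
    obtain ⟨w', hw', u', hu', rfl⟩ := hy
    refine ⟨w * w', W.mul_mem hw hw', u * u', U.mul_mem hu hu', ?_⟩
    have := hcomm w' hw' u hu
    calc w * u * (w' * u') = w * (u * w') * u' := by group
      _ = w * (w' * u) * u' := by rw [this]
      _ = w * w' * (u * u') := by group
  | inv x _ hx =>
    obtain ⟨w, hw, u, hu, rfl⟩ := hx
    refine ⟨w⁻¹, W.inv_mem hw, u⁻¹, U.inv_mem hu, ?_⟩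
    have := hcomm w⁻¹ (W.inv_mem hw) u⁻¹ (U.inv_mem hu)
    rw [mul_inv_rev, this]

/-- the explained elements of `N_G(U)` form a subgroup -/
def explSub (p : ℕ) (P U : Subgroup G) : Subgroup G where
  carrier := {n | n ∈ Subgroup.normalizer (U : Set G) ∧ Expl p P (U : Set G) n}
  mul_mem' := by
    rintro a b ⟨ha, ha'⟩ ⟨hb, hb'⟩
    refine ⟨Subgroup.mul_mem _ ha hb, Expl.comp ha' ?_⟩
    rw [rc_coe_eq_self_of_mem_normalizer ha]
    exact hb'
  one_mem' := ⟨Subgroup.one_mem _, Expl.cent (Subgroup.one_mem _)⟩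
  inv_mem' := by
    rintro a ⟨ha, ha'⟩
    refine ⟨Subgroup.inv_mem _ ha, ?_⟩
    have := ha'.symm
    rwa [rc_coe_eq_self_of_mem_normalizer ha] at this

theorem mem_explSub {p : ℕ} {P U : Subgroup G} {n : G} :
    n ∈ explSub p P U ↔ n ∈ Subgroup.normalizer (U : Set G) ∧ Expl p P (U : Set G) n := Iff.rfl

variable [Finite G] {p : ℕ} [Fact p.Prime]

/-- the local step -/
theorem local_expl (P : Sylow p G) (U : Subgroup G) (hUP : U ≤ (P : Subgroup G))
    (hfn : ¬ p ∣ ((P : Subgroup G) ⊓ Subgroup.normalizer (U : Set G)).relIndex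
      (Subgroup.normalizer (U : Set G)))
    (IH : ∀ Q : Subgroup G, Q ≤ (P : Subgroup G) → Nat.card U < Nat.card Q →
      ∀ g : G, cj g Q ≤ (P : Subgroup G) → Expl p (P : Subgroup G) (Q : Set G) g⁻¹) :
    ∀ m ∈ Subgroup.normalizer (U : Set G), Expl p (P : Subgroup G) (U : Set G) m := by
  classical
  have IHuse : ∀ Q : Subgroup G, U < Q → Q ≤ (P : Subgroup G) →
      ∀ n ∈ Subgroup.normalizer (Q : Set G), Expl p (P : Subgroup G) (U : Set G) n := by
    intro Q hUQ hQP n hn
    have h1 : cj n⁻¹ Q ≤ (P : Subgroup G) := by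
      rw [mem_normalizer_iff_cj.mp (Subgroup.inv_mem _ hn)]; exact hQP
    have h2 := IH Q hQP (card_lt_of_lt hUQ) n⁻¹ h1
    rw [inv_inv] at h2
    exact h2.restrict (SetLike.coe_subset_coe.mpr hUQ.le)
  rcases eq_or_lt_of_le hUP with hUeq | hUlt
  · intro m hm
    rw [hUeq] at hm
    exact Expl.norm hm
  set N := Subgroup.normalizer (U : Set G) with hN
  have hUN : U ≤ N := Subgroup.le_normalizer
  have hlt : U < (P : Subgroup G) ⊓ N := lt_inf_normalizer P.2 hUlt
  rcases Cfsg.Agent.Lib.Helper31_AG.local_step P U N rfl hUP hfn with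
    ⟨Q, hUQ, hQP, hfac⟩ | ⟨hC, hprod⟩
  · intro m hm
    obtain ⟨c, hc, n, hn, rfl⟩ := hfac m hm
    refine Expl.comp (Expl.cent hc) ?_
    rw [rc_eq_self_of_mem_centralizer hc]
    exact IHuse Q hUQ hQP n hn
  -- the type-level setup
  have hpg : IsPGroup p (((P : Subgroup G) ⊓ N).subgroupOf N) :=
    (P.2.to_le inf_le_left).comap_subtype
  obtain ⟨S, hScoe⟩ : ∃ S : Sylow p ↥N, (S : Subgroup ↥N) = ((P : Subgroup G) ⊓ N).subgroupOf N :=
    ⟨hpg.toSylow hfn, IsPGroup.toSylow_coe hpg hfn⟩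
  have hDn : (U.subgroupOf N).Normal := Subgroup.normal_in_normalizer
  obtain ⟨D, hD⟩ : ∃ D : Subgroup ↥N, D = U.subgroupOf N := ⟨_, rfl⟩
  have hDn' : D.Normal := hD ▸ hDn
  have hmapD : D.map N.subtype = U := by
    rw [hD]; exact Subgroup.map_subgroupOf_eq_of_le hUN
  have hDS : D < (S : Subgroup ↥N) := by
    rw [hScoe]
    refine lt_of_le_of_ne ?_ ?_
    · intro d hd
      rw [hD, Subgroup.mem_subgroupOf] at hd
      rw [Subgroup.mem_subgroupOf]
      exact hlt.le hd
    · intro heq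
      have h1 := congrArg (Subgroup.map N.subtype) heq
      rw [hmapD, Subgroup.map_subgroupOf_eq_of_le inf_le_right] at h1
      exact hlt.ne h1
  obtain ⟨M, hM⟩ : ∃ M : Subgroup ↥N, M = (explSub p (P : Subgroup G) U).subgroupOf N := ⟨_, rfl⟩
  have hmemM : ∀ n : ↥N, n ∈ M ↔ Expl p (P : Subgroup G) (U : Set G) (n : G) := by
    intro n
    rw [hM, Subgroup.mem_subgroupOf, mem_explSub]
    exact ⟨fun h => h.2, fun h => ⟨n.2, h⟩⟩
  have hMgen : ∀ R : Subgroup ↥N, D < R → R ≤ (S : Subgroup ↥N) →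
      Subgroup.normalizer (R : Set ↥N) ≤ M := by
    intro R hDR hRS n hn
    rw [hmemM]
    refine IHuse (R.map N.subtype) ?_ ?_ (n : G) ?_
    · rw [← hmapD]
      exact (Subgroup.map_lt_map_iff_of_injective N.subtype_injective).mpr hDR
    · rintro _ ⟨r, hr, rfl⟩
      have := hRS hr
      rw [hScoe, Subgroup.mem_subgroupOf] at this
      exact this.1
    · exact Subgroup.le_normalizer_map N.subtype ⟨n, hn, rfl⟩
  have hfinal : M = ⊤ → ∀ m ∈ N, Expl p (P : Subgroup G) (U : Set G) m := by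
    intro htop m hm
    have : (⟨m, hm⟩ : ↥N) ∈ M := by rw [htop]; exact Subgroup.mem_top _
    exact (hmemM _).mp this
  apply hfinal
  by_cases hconn : IsSylowChainConnected p (↥N ⧸ D)
  · exact eq_top_of_connected_quot S D hDS hconn M hMgen
  -- the good case
  obtain ⟨XY, hXn, hDX, hpX, hleast⟩ := exists_min_normal S D hDS hconn
  obtain ⟨hlt2, hfacY⟩ := factor_of_normal S D XY hDX hDS.le hpX
  obtain ⟨X, hX⟩ : ∃ X : Subgroup G, X = XY.map N.subtype := ⟨_, rfl⟩
  obtain ⟨hWK, hUK, hcomm, hinf, hsup⟩ := hprod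
  have hgood : Good p (P : Subgroup G) U X := by
    refine ⟨hUP, hfn, ?_, ?_, ?_, ?_, ?_, ?_, ?_, ?_⟩
    · -- centric
      intro z hz
      obtain ⟨hzP, hzC⟩ := Subgroup.mem_inf.mp hz
      have hzK := hC hzC
      rw [← hsup] at hzK
      obtain ⟨w, hw, u, hu, rfl⟩ := exists_mul_of_mem_sup_of_commute hcomm hzK
      have hwP : w ∈ (P : Subgroup G) := by
        have : w = w * u * u⁻¹ := by group
        rw [this]
        exact Subgroup.mul_mem _ hzP (Subgroup.inv_mem _ (hUP hu))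
      obtain ⟨w', hw', rfl⟩ := hw
      have hwS : w' ∈ (S : Subgroup ↥N) := by
        rw [hScoe, Subgroup.mem_subgroupOf]
        exact ⟨hwP, w'.2⟩
      have hbot := Cfsg.Agent.Lib.Helper23_PConstrained.pPrimeCore_inf_eq_bot (X := ↥N) p S.2
      have hw1 : w' ∈ pPrimeCore p ↥N ⊓ (S : Subgroup ↥N) := ⟨hw', hwS⟩
      rw [hbot, Subgroup.mem_bot] at hw1
      rw [hw1]
      simpa using hu
    · -- the core
      apply le_antisymm
      · rw [← hsup]
        refine sup_le ?_ le_sup_left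
        refine le_trans ?_ le_sup_right
        intro w hw
        rw [Subgroup.mem_centralizer_iff]
        intro u hu
        exact (hcomm w hw u hu).symm
      · exact sup_le hUK hC
    · subst hD; exact hconn
    · rw [hX, ← hmapD]; exact Subgroup.map_mono hDX
    · rw [hX]; exact Subgroup.map_subtype_le _
    · have : X.subgroupOf N = XY := by
        rw [hX]; exact Subgroup.comap_map_eq_self_of_injective N.subtype_injective XY
      rw [this]; exact hXn
    · have := Subgroup.relIndex_map_map_of_injective D XY N.subtype_injective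
      rw [hmapD, ← hX] at this
      rw [this]; exact hpX
    · intro Y' hUY hYN hYn hYp
      have hZmap : (Y'.subgroupOf N).map N.subtype = Y' := Subgroup.map_subgroupOf_eq_of_le hYN
      have hDZ : D ≤ Y'.subgroupOf N := by
        intro d hd
        rw [hD, Subgroup.mem_subgroupOf] at hd
        rw [Subgroup.mem_subgroupOf]
        exact hUY hd
      have hpZ : p ∣ D.relIndex (Y'.subgroupOf N) := by
        have := Subgroup.relIndex_map_map_of_injective D (Y'.subgroupOf N) N.subtype_injective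
        rw [hmapD, hZmap] at this
        rw [← this]; exact hYp
      have := hleast _ hYn hDZ hpZ
      rw [hX, ← hZmap]
      exact Subgroup.map_mono this
  rw [eq_top_iff]
  intro m _
  obtain ⟨a, ha, s, hs, n, hn, rfl⟩ := hfacY m
  refine M.mul_mem (M.mul_mem ?_ ?_) ?_
  · rw [hmemM]
    have haX : (a : G) ∈ (pResidual p ↥X).map X.subtype := by
      rw [Cfsg.Agent.Lib.Helper47_WeaklyClosed.map_subtype_pResidual] at ha ⊢
      have hle : Subgroup.closure {y : ↥N | y ∈ XY ∧ (orderOf y).Coprime p} ≤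
          (Subgroup.closure {x : G | x ∈ X ∧ (orderOf x).Coprime p}).comap N.subtype := by
        rw [Subgroup.closure_le]
        intro y hy
        apply Subgroup.subset_closure
        refine ⟨?_, ?_⟩
        · rw [hX]; exact ⟨y, hy.1, rfl⟩
        · show (orderOf ((y : ↥N) : G)).Coprime p
          rw [Subgroup.orderOf_coe]; exact hy.2
      exact hle ha
    exact Expl.step (s := ⟨U, X, (a : G)⟩) ⟨hgood, haX⟩ subset_rfl
  · rw [hmemM]
    have hsP : (s : G) ∈ (P : Subgroup G) := by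
      have := (Subgroup.mem_inf.mp hs).1
      rw [hScoe, Subgroup.mem_subgroupOf] at this
      exact this.1
    exact Expl.norm (Subgroup.le_normalizer hsP)
  · exact hMgen _ hlt2 inf_le_left hn

end aux

/-- A strong form of the Alperin–Goldschmidt fusion Theorem. Let P be a Sylow p-subgroup of the finite group G, A a subset of P containing a nonidentity element, and g an element with g⁻¹Ag ⊆ P. Then g = c·x₁⋯xₙ·y with c ∈ C_G(A), y ∈ N_G(P) and, for each i, an element xᵢ and a subgroup Hᵢ ≤ P such that: N_P(Hᵢ) is a Sylow p-subgroup of N_G(Hᵢ); C_P(Hᵢ) ≤ Hᵢ; O_{p',p}(N_G(Hᵢ)) = Hᵢ·C_G(Hᵢ); the Sylow p-subgroups of N_G(Hᵢ)/Hᵢ are not chain-connected through nontrivial intersections (the quotient has a strongly p-embedded subgroup); xᵢ lies in O^p(Xᵢ), where Xᵢ/Hᵢ is the smallest normal subgroup of N_G(Hᵢ)/Hᵢ of order divisible by p; and (x₁⋯xᵢ₋₁)⁻¹A(x₁⋯xᵢ₋₁) ⊆ Hᵢ. -/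
theorem result {G : Type*} [Group G] [Finite G] {p : ℕ} [Fact p.Prime]
    (P : Sylow p G) (A : Set G) (hA : A ⊆ (P : Set G)) (hA1 : ∃ a ∈ A, a ≠ 1)
    (g : G) (hAg : (fun a => g⁻¹ * a * g) '' A ⊆ (P : Set G)) :
    ∃ (n : ℕ) (H X : Fin n → Subgroup G) (x : Fin n → G) (c y : G),
      c ∈ Subgroup.centralizer A ∧ y ∈ Subgroup.normalizer ((P : Subgroup G) : Set G) ∧
      g = c * (List.ofFn x).prod * y ∧
      ∀ i : Fin n,
        H i ≤ (P : Subgroup G) ∧
        ¬ p ∣ ((P : Subgroup G) ⊓ Subgroup.normalizer (H i : Set G)).relIndex (Subgroup.normalizer (H i : Set G)) ∧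
        (P : Subgroup G) ⊓ Subgroup.centralizer (H i : Set G) ≤ H i ∧
        (Cfsg.pPrimePCore p ↥(Subgroup.normalizer (H i : Set G))).map (Subgroup.normalizer (H i : Set G)).subtype =
          H i ⊔ Subgroup.centralizer (H i : Set G) ∧
        ¬ Cfsg.IsSylowChainConnected p
            (↥(Subgroup.normalizer (H i : Set G)) ⧸ (H i).subgroupOf (Subgroup.normalizer (H i : Set G))) ∧
        (H i ≤ X i ∧ X i ≤ Subgroup.normalizer (H i : Set G) ∧
          ((X i).subgroupOf (Subgroup.normalizer (H i : Set G))).Normal ∧ p ∣ (H i).relIndex (X i) ∧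
          ∀ Y : Subgroup G, H i ≤ Y → Y ≤ Subgroup.normalizer (H i : Set G) →
            (Y.subgroupOf (Subgroup.normalizer (H i : Set G))).Normal → p ∣ (H i).relIndex Y → X i ≤ Y) ∧
        x i ∈ (Cfsg.pResidual p ↥(X i)).map (X i).subtype ∧
        (fun a => (((List.ofFn x).take i.val).prod)⁻¹ * a * ((List.ofFn x).take i.val).prod) '' A ⊆ (H i : Set G) := by
  classical
  have _h1 := hA
  have _h2 := hA1
  have hR : FusionRel (fun (B : Set G) (z : G) => Expl p (P : Subgroup G) B z⁻¹) := by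
    refine ⟨?_, ?_, ?_⟩
    · intro B B' z h hsub
      exact h.restrict hsub
    · intro B z u h1 h2
      show Expl p (P : Subgroup G) B (u * z)⁻¹
      rw [mul_inv_rev]
      refine Expl.comp h1 ?_
      rw [← cjs_eq_rc_inv]
      exact h2
    · intro B z h
      show Expl p (P : Subgroup G) (cjs z B) z⁻¹⁻¹
      have := Expl.symm h
      rw [← cjs_eq_rc_inv] at this
      exact this
  have hcj : cj g⁻¹ (Subgroup.closure A) ≤ (P : Subgroup G) := by
    rw [← cjs_subset_coe_iff, cjs_eq_rc_inv, inv_inv, rc_eq_image]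
    exact hAg
  have hclP : Subgroup.closure A ≤ (P : Subgroup G) := (Subgroup.closure_le _).mpr hA
  have key : Expl p (P : Subgroup G) ((Subgroup.closure A : Subgroup G) : Set G) g⁻¹⁻¹ :=
    alperin P Set.univ
      (fun T hT => by
        obtain ⟨k, hk1, hk2⟩ := Cfsg.Agent.Lib.Helper31_AG.exists_fully_normalized P T hT
        exact ⟨_, Set.mem_univ _, hk1, ⟨k, rfl⟩, hk2⟩)
      (fun (B : Set G) (z : G) => Expl p (P : Subgroup G) B z⁻¹) hR
      (fun U _ hUS hfn IHU m hm => local_expl P U hUS hfn IHU m⁻¹ (Subgroup.inv_mem _ hm))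
      (Subgroup.closure A) hclP g⁻¹ hcj
  rw [inv_inv] at key
  obtain ⟨c, hc, l, hl, y, hy, hg⟩ := (key.restrict Subgroup.subset_closure).nf
  have e : List.ofFn (fun i : Fin l.length => (l.get i).x) = l.map Step.x := by
    apply List.ext_get
    · simp
    · intro n h1 h2
      simp
  refine ⟨l.length, fun i => (l.get i).H, fun i => (l.get i).X, fun i => (l.get i).x, c, y, hc, hy,
    ?_, ?_⟩
  · rw [e]; exact hg
  · intro i
    obtain ⟨⟨hgood, hx⟩, hsub⟩ := hl.get i
    refine ⟨hgood.le, hgood.fn, hgood.centric, hgood.core, hgood.nconn,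
      ⟨hgood.hHX, hgood.hXN, hgood.normal, hgood.dvd, hgood.least⟩, hx, ?_⟩
    rw [e, ← rc_eq_image]
    exact hsub

end Cfsg.Agent.S3072
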