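-- Statement S5255: if `T` is strongly closed in a saturated fusion system over `S`, so is `T C_S(T)`.
import Cfsg.Statements.S5255
import Cfsg.Agent.Lib.Helper87_Normal
import Cfsg.Agent.Lib.Helper87_Frattini

set_option autoImplicit false
open Cfsg

namespace Cfsg.Agent.S5255

open Cfsg.FusionSystem Cfsg.Agent.Lib Cfsg.Agent.Lib.Helper87_Alperin Cfsg.Agent.Lib.Helper87_Alperin2
  Cfsg.Agent.Lib.Helper87_Normal Cfsg.Agent.Lib.Helper87_Frattini
open scoped Pointwise

variable {Ω : Type*} [Group Ω] {S : Subgroup Ω}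

/-- `s` acts on `T` by conjugation as an inner automorphism of `T`. -/
def InnOn (T : Subgroup Ω) (s : Ω) : Prop := ∃ t ∈ T, ∀ y ∈ T, s * y * s⁻¹ = t * y * t⁻¹

theorem mem_sup_centralizerIn_iff {T : Subgroup Ω} (hTS : T ≤ S)
    (hnorm : S ≤ Subgroup.normalizer (T : Set Ω))
    {s : Ω} (hs : s ∈ S) : s ∈ T ⊔ centralizerIn S T ↔ InnOn T s := by
  constructor
  · intro h
    have hC : centralizerIn S T ≤ Subgroup.normalizer (T : Set Ω) := inf_le_left.trans hnorm
    have hmul : ((T ⊔ centralizerIn S T : Subgroup Ω) : Set Ω) = (T : Set Ω) * (centralizerIn S T : Set Ω) :=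
      Subgroup.coe_mul_of_right_le_normalizer_left T _ hC
    have h' : s ∈ (T : Set Ω) * (centralizerIn S T : Set Ω) := by
      rw [← hmul]
      exact h
    obtain ⟨t, ht, c, hc, rfl⟩ := Set.mem_mul.1 h'
    refine ⟨t, ht, fun y hy => ?_⟩
    have hcy : y * c = c * y := hc.2 y hy
    have h1 : t * c * y * (t * c)⁻¹ = t * (c * y) * c⁻¹ * t⁻¹ := by group
    rw [h1, ← hcy]
    group
  · rintro ⟨t, ht, hst⟩
    have hc : t⁻¹ * s ∈ centralizerIn S T := by
      refine ⟨S.mul_mem (S.inv_mem (hTS ht)) hs, ?_⟩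
      · intro y hy
        have h1 := hst y hy
        have h2 : t⁻¹ * s * y = t⁻¹ * (s * y * s⁻¹) * s := by group
        rw [h2, h1]
        group
    have h3 : s = t * (t⁻¹ * s) := by group
    rw [h3]
    exact Subgroup.mul_mem_sup ht hc

/-- The maps of `F` that preserve, in both directions, membership in a set `D` that is invariant under
conjugation by `S` form a fusion system over `S`. -/
def stabSystem (F : FusionSystem S) (D : Set Ω)
    (hD : ∀ g ∈ S, ∀ x ∈ S, (x ∈ D ↔ g * x * g⁻¹ ∈ D)) : FusionSystem S where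
  Hom P := {φ | φ ∈ F.Hom P ∧ ∀ x : P, ((x : Ω) ∈ D ↔ φ x ∈ D)}
  le_of_mem h := F.le_of_mem h.1
  injective_of_mem h := F.injective_of_mem h.1
  conj_mem := by
    intro P g hP hg
    exact ⟨F.conj_mem hP hg, fun x => hD g hg x (hP x.2)⟩
  comp_mem := by
    rintro P Q φ ψ ⟨hφ, hφD⟩ ⟨hψ, hψD⟩ h
    refine ⟨F.comp_mem hφ hψ h, fun x => ?_⟩
    rw [hφD x]
    exact hψD ⟨φ x, h x⟩
  inv_mem := by
    rintro P φ ⟨hφ, hφD⟩
    obtain ⟨ψ, hψ, hψφ⟩ := F.inv_mem hφ
    refine ⟨ψ, ⟨hψ, ?_⟩, hψφ⟩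
    rintro ⟨_, x, rfl⟩
    rw [hψφ x]
    exact (hφD x).symm

theorem mem_stabSystem_hom (F : FusionSystem S) (D : Set Ω)
    (hD : ∀ g ∈ S, ∀ x ∈ S, (x ∈ D ↔ g * x * g⁻¹ ∈ D)) (P : Subgroup Ω) (φ : P →* Ω) :
    φ ∈ (stabSystem F D hD).Hom P ↔ φ ∈ F.Hom P ∧ ∀ x : P, ((x : Ω) ∈ D ↔ φ x ∈ D) := Iff.rfl

theorem innOn_conj {T : Subgroup Ω} (hnorm : S ≤ Subgroup.normalizer (T : Set Ω)) {g : Ω} (hg : g ∈ S)
    {s : Ω} (h : InnOn T s) : InnOn T (g * s * g⁻¹) := by
  obtain ⟨t, ht, hst⟩ := h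
  have hgN := hnorm hg
  refine ⟨g * t * g⁻¹, (Subgroup.mem_normalizer_iff.1 hgN t).1 ht, fun y hy => ?_⟩
  have hy' : g⁻¹ * y * g ∈ T := (Subgroup.mem_normalizer_iff''.1 hgN y).1 hy
  have h1 := hst _ hy'
  have h2 : g * s * g⁻¹ * y * (g * s * g⁻¹)⁻¹ = g * (s * (g⁻¹ * y * g) * s⁻¹) * g⁻¹ := by group
  rw [h2, h1]
  group

/-- Let F be a saturated fusion system over a finite p-group S and T a subgroup of S strongly closed in F. Then T·C_S(T) is strongly closed in F. -/
theorem result {Ω : Type*} [Group Ω] {S : Subgroup Ω} [Finite S] (p : ℕ) [Fact p.Prime] (hS : IsPGroup p S) (F : Cfsg.FusionSystem S) (hF : F.IsSaturated p) (T : Subgroup Ω) (hT : F.StronglyClosed T) : F.StronglyClosed (T ⊔ Cfsg.FusionSystem.centralizerIn S T) := by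
  classical
  have hTS : T ≤ S := hT.1
  have hnormT : S ≤ Subgroup.normalizer (T : Set Ω) := stronglyClosed_le_normalizer hT
  have hDS : T ⊔ centralizerIn S T ≤ S := sup_le hTS inf_le_left
  have hDconj : ∀ g ∈ S, ∀ x ∈ S, (x ∈ ((T ⊔ centralizerIn S T : Subgroup Ω) : Set Ω) ↔
      g * x * g⁻¹ ∈ ((T ⊔ centralizerIn S T : Subgroup Ω) : Set Ω)) := by
    intro g hg x hx
    have hgx : g * x * g⁻¹ ∈ S := S.mul_mem (S.mul_mem hg hx) (S.inv_mem hg)
    simp only [SetLike.mem_coe]
    rw [mem_sup_centralizerIn_iff hTS hnormT hx, mem_sup_centralizerIn_iff hTS hnormT hgx]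
    constructor
    · exact innOn_conj hnormT hg
    · intro h
      have := innOn_conj hnormT (S.inv_mem hg) h
      have h2 : g⁻¹ * (g * x * g⁻¹) * g⁻¹⁻¹ = x := by group
      rwa [h2] at this
  let E : FusionSystem S := stabSystem F _ hDconj
  have key : ∀ (P : Subgroup Ω) (f : Ω → Ω), IsMapOn F P f → IsMapOn E P f := by
    refine alperin_induction_isMapOn F hS hF E ?_
    intro R hRa hRr hIH α hα
    have hRS : R ≤ S := hRa.1
    by_cases hTR : T ≤ R
    · -- Case 1: `T ≤ R`
      have hfwd : ∀ β ∈ F.autGroup R, ∀ x : R, (x : Ω) ∈ T ⊔ centralizerIn S T →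
          ((β x : R) : Ω) ∈ T ⊔ centralizerIn S T := by
        intro β hβ x hx
        rw [mem_sup_centralizerIn_iff hTS hnormT (hRS x.2)] at hx
        rw [mem_sup_centralizerIn_iff hTS hnormT (hRS (β x).2)]
        obtain ⟨t, ht, hxt⟩ := hx
        refine ⟨((β ⟨t, hTR ht⟩ : R) : Ω), stronglyClosed_aut_mem hT hRS hβ _ ht, fun y hy => ?_⟩
        have hβ' : β⁻¹ ∈ F.autGroup R := (F.autGroup R).inv_mem hβ
        have hz : (((β⁻¹ ⟨y, hTR hy⟩ : R)) : Ω) ∈ T := stronglyClosed_aut_mem hT hRS hβ' _ hy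
        have h1 := hxt _ hz
        have h2 : x * (β⁻¹ ⟨y, hTR hy⟩) * x⁻¹ =
            (⟨t, hTR ht⟩ : R) * (β⁻¹ ⟨y, hTR hy⟩) * (⟨t, hTR ht⟩ : R)⁻¹ := Subtype.ext h1
        have h3 := congrArg β h2
        simp only [map_mul, map_inv, MulAut.apply_inv_self] at h3
        exact congrArg Subtype.val h3
      refine ⟨autHom α, ⟨(mem_autGroup_iff' F hRS α).1 hα, fun x => ⟨hfwd α hα x, fun h => ?_⟩⟩,
        fun x => (extFun_coe α x).symm⟩
      have h1 := hfwd α⁻¹ ((F.autGroup R).inv_mem hα) (α x) h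
      simpa using h1
    · -- Case 2: `T` is not contained in `R`
      obtain ⟨-, Rsyl, hRsyl⟩ := hRa
      -- the normal subgroup `L` of `Aut_F(R)` of automorphisms centralizing `R / (R ∩ T)`
      let L : Subgroup (F.autGroup R) :=
        { carrier := {l | ∀ r : R, (r : Ω)⁻¹ * (((l : MulAut R) r : R) : Ω) ∈ T}
          one_mem' := by
            intro r
            simp
          mul_mem' := by
            intro a b ha hb r
            have h1 := hb r
            have h2 := ha ((b : MulAut R) r)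
            have h3 : (r : Ω)⁻¹ * ((((a * b : F.autGroup R) : MulAut R) r : R) : Ω) =
                ((r : Ω)⁻¹ * (((b : MulAut R) r : R) : Ω)) *
                  ((((b : MulAut R) r : R) : Ω)⁻¹ * (((a : MulAut R) ((b : MulAut R) r) : R) : Ω)) := by
              simp only [Subgroup.coe_mul, MulAut.mul_apply]
              group
            show (r : Ω)⁻¹ * ((((a * b : F.autGroup R) : MulAut R) r : R) : Ω) ∈ T
            rw [h3]
            exact T.mul_mem h1 h2
          inv_mem' := by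
            intro a ha r
            have h1 := ha (((a⁻¹ : F.autGroup R) : MulAut R) r)
            have h2 : ((a : MulAut R) (((a⁻¹ : F.autGroup R) : MulAut R) r)) = r := by simp
            rw [h2] at h1
            have h3 : (r : Ω)⁻¹ * (((((a⁻¹ : F.autGroup R) : MulAut R)) r : R) : Ω) =
                ((((((a⁻¹ : F.autGroup R) : MulAut R)) r : R) : Ω)⁻¹ * (r : Ω))⁻¹ := by group
            show (r : Ω)⁻¹ * (((((a⁻¹ : F.autGroup R) : MulAut R)) r : R) : Ω) ∈ T
            rw [h3]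
            exact T.inv_mem h1 }
      have hLmem : ∀ l : F.autGroup R, l ∈ L ↔
          ∀ r : R, (r : Ω)⁻¹ * (((l : MulAut R) r : R) : Ω) ∈ T := fun _ => Iff.rfl
      have hLn : L.Normal := by
        constructor
        intro a ha g
        rw [hLmem] at ha ⊢
        intro r
        set w : R := ((g⁻¹ : F.autGroup R) : MulAut R) r with hw
        have h1 := ha w
        have h2 : (((g : MulAut R) (w⁻¹ * (a : MulAut R) w) : R) : Ω) ∈ T :=
          stronglyClosed_aut_mem hT hRS g.2 (w⁻¹ * (a : MulAut R) w) h1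
        have h4 : (g : MulAut R) w = r := by
          rw [hw]
          simp
        have h5 : (r : Ω)⁻¹ * ((((g * a * g⁻¹ : F.autGroup R) : MulAut R) r : R) : Ω) =
            (((g : MulAut R) (w⁻¹ * (a : MulAut R) w) : R) : Ω) := by
          simp only [Subgroup.coe_mul, MulAut.mul_apply, map_mul, map_inv, h4]
          rfl
        rw [h5]
        exact h2
      have hfinK : Finite (F.autGroup R) := by
        have : Finite R := Finite.of_injective (Subgroup.inclusion hRS) (Subgroup.inclusion_injective hRS)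
        infer_instance
      obtain ⟨ν, l, hαeq, hl, hν⟩ := frattini_decomp L Rsyl ⟨α, hα⟩
      -- an element of `N_T(R)` outside `R`
      obtain ⟨t, htT, htN, htR⟩ :=
        exists_mem_normalizer_not_mem hS hRS hTS (hRS.trans hnormT) hTR
      let βt : MulAut R := Subgroup.normalizerMonoidHom R ⟨t, htN⟩
      have hβt : ∀ y : R, ((βt y : R) : Ω) = t * y * t⁻¹ := fun y => rfl
      have hβtK : βt ∈ F.autGroup R :=
        autInducedBy_le_autGroup F hRS ((mem_autInducedBy_iff S R βt).2 ⟨t, hTS htT, hβt⟩)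
      have hβtL : (⟨βt, hβtK⟩ : F.autGroup R) ∈ L := by
        rw [hLmem]
        intro r
        rw [hβt]
        have h1 : (r : Ω)⁻¹ * t * ((r : Ω)⁻¹)⁻¹ ∈ T :=
          stronglyClosed_conj_mem hT (S.inv_mem (hRS r.2)) htT
        have h2 : (r : Ω)⁻¹ * (t * (r : Ω) * t⁻¹) = ((r : Ω)⁻¹ * t * ((r : Ω)⁻¹)⁻¹) * t⁻¹ := by group
        rw [h2]
        exact T.mul_mem h1 (T.inv_mem htT)
      have hβtR : (⟨βt, hβtK⟩ : F.autGroup R) ∈ (Rsyl : Subgroup (F.autGroup R)) := by
        rw [hRsyl, Subgroup.mem_subgroupOf, mem_autInducedBy_iff]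
        exact ⟨t, hTS htT, hβt⟩
      have h1 := hν _ hβtL hβtR
      rw [hRsyl, Subgroup.mem_subgroupOf, mem_autInducedBy_iff] at h1
      obtain ⟨h, hhS, hh⟩ := h1
      have htE : t ∈ extender S R (autHom (ν : MulAut R)) := by
        refine Subgroup.subset_closure ⟨hTS htT, htN, h, hhS, ?_⟩
        intro x hx
        have h2 := hh ((ν : MulAut R) x)
        simp only [Subgroup.coe_mul, Subgroup.coe_inv, MulAut.mul_apply, MulAut.inv_apply_self] at h2
        rw [autHom_apply, autHom_apply, ← h2]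
        rfl
      have hνE : IsMapOn E R (extFun (ν : MulAut R)) :=
        isMapOn_of_lt_extender F E hRr hIH ν.2 htE htR
      have hlE : IsMapOn E R (extFun (l : MulAut R)) := by
        refine ⟨autHom (l : MulAut R), ⟨(mem_autGroup_iff' F hRS _).1 l.2, fun x => ?_⟩,
          fun x => (extFun_coe _ x).symm⟩
        have h2 : (x : Ω)⁻¹ * (((l : MulAut R) x : R) : Ω) ∈ T ⊔ centralizerIn S T :=
          (le_sup_left : T ≤ T ⊔ centralizerIn S T) ((hLmem l).1 hl x)
        have h3 : autHom (l : MulAut R) x = (x : Ω) * ((x : Ω)⁻¹ * (((l : MulAut R) x : R) : Ω)) := by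
          rw [autHom_apply]
          group
        rw [h3]
        exact (Subgroup.mul_mem_cancel_right _ h2).symm
      have hcomp := hlE.comp hνE (fun x hx => extFun_mem _ hx)
      refine hcomp.congr fun x hx => ?_
      have h4 : α = (ν : MulAut R) * (l : MulAut R) := by
        have := congrArg Subtype.val hαeq
        exact this
      rw [h4, extFun_mul _ _ hx]
      rfl
  refine ⟨hDS, fun R hRD φ hφ x => ?_⟩
  obtain ⟨φ', hφ', hφ'eq⟩ := key R _ (isMapOn_extHom F hφ)
  have h1 := ((mem_stabSystem_hom F _ hDconj R φ').1 hφ').2 x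
  have h2 := h1.1 (hRD x.2)
  rw [hφ'eq, extHom_coe] at h2
  exact h2

end Cfsg.Agent.S5255
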