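import Cfsg.Statements.S5158
import Cfsg.Agent.Lib.Helper87_Solvable
import Cfsg.Agent.Lib.Helper85_Fusion
import Cfsg.Agent.Lib.Helper84_FusionNormal
import Cfsg.Agent.S5255

set_option autoImplicit false
open Cfsg

namespace Cfsg.Agent.S5158

open Cfsg.FusionSystem Cfsg.Agent.Lib Cfsg.Agent.Lib.Helper87_Alperin Cfsg.Agent.Lib.Helper87_Normal
  Cfsg.Agent.Lib.Helper87_Solvable

/-- A solvable saturated fusion system over a finite p-group (solvable: for every subgroup R other than S that is strongly closed in F, the factor system of F modulo R has a nontrivial subgroup normal in it) is constrained. -/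
theorem result {Ω : Type*} [Group Ω] {S : Subgroup Ω} [Finite S] (p : ℕ) [Fact p.Prime] (hS : IsPGroup p S) (F : Cfsg.FusionSystem S) (hF : F.IsSaturated p) (h : F.IsSolvableSystem) : F.IsConstrained p := by
  classical
  have hQn : F.IsNormal F.core := Cfsg.Agent.Lib.Helper85_Fusion.isNormal_core F
  have hQsc : F.StronglyClosed F.core := Cfsg.Agent.Lib.Helper84_FusionNormal.IsNormal.stronglyClosed hQn
  refine ⟨hF, F.core, hQn, ?_⟩
  -- it suffices that `C_S(Q) ≤ Q`
  have hwc : F.WeaklyClosed F.core := weaklyClosed_of_stronglyClosed hQsc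
  suffices hcent : centralizerIn S F.core ≤ F.core by
    refine ⟨hQn.1, fun Q' hconj => ?_⟩
    obtain ⟨φ, hφ, hrange⟩ := hconj
    rw [← hrange, hwc.2 φ hφ]
    exact hcent
  by_contra hnot
  set Q := F.core with hQdef
  have hX : F.StronglyClosed (Q ⊔ centralizerIn S Q) := Cfsg.Agent.S5255.result p hS F hF Q hQsc
  have hchain : SCChain F ⊥ S := (isSolvableSystem_iff hS F hF).1 h
  have h1 := (hchain.inf_right hX).sup_right hS hF hQsc
  have e1 : (⊥ : Subgroup Ω) ⊓ (Q ⊔ centralizerIn S Q) ⊔ Q = Q := by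
    rw [bot_inf_eq, bot_sup_eq]
  have e2 : S ⊓ (Q ⊔ centralizerIn S Q) ⊔ Q = Q ⊔ centralizerIn S Q := by
    rw [inf_eq_right.2 hX.1]
    exact sup_eq_left.2 le_sup_left
  rw [e1, e2] at h1
  have hne : Q ≠ Q ⊔ centralizerIn S Q := by
    intro hEq
    apply hnot
    have h2 : centralizerIn S Q ≤ Q ⊔ centralizerIn S Q := le_sup_right
    rwa [← hEq] at h2
  obtain ⟨D, hDsc, hQD, hQD', hDD, hDX⟩ := h1.exists_first_step hne
  have hDn : F.IsNormal D := isNormal_of_abelian_over_normal hS F hF hQn hDsc hQD hDX hDD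
  have hle : D ≤ Q := le_sSup hDn
  exact hQD' (le_antisymm hQD hle)

end Cfsg.Agent.S5158
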