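import Cfsg.Statements.S1443
import Cfsg.Agent.Lib.Helper24_Coprime

set_option autoImplicit false
open Cfsg
open Cfsg.Agent.Lib.Helper24_Coprime

namespace Cfsg.Agent.S1443

/-- Let G be a finite group, p an odd prime, H a p-subgroup, E an elementary abelian subgroup of H, and A a subgroup of order coprime to p normalizing H. If A centralizes every element of order p in H ∩ C_G(E), then A centralizes H. -/
theorem result {G : Type*} [Group G] [Finite G] (p : ℕ) [Fact p.Prime] (hp : p ≠ 2) (H E A : Subgroup G) (hH : IsPGroup p H) (hE : E ≤ H) (hEe : Cfsg.IsElementaryAbelian p E)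
    (hA : (A ≤ Subgroup.normalizer (H : Set G))) (hcop : (Nat.card A).Coprime p)
    (hfix : ∀ x ∈ (H ⊓ Subgroup.centralizer (E : Set G)), orderOf x = p → A ≤ Subgroup.centralizer ({x} : Set G)) :
    A ≤ Subgroup.centralizer (H : Set G) := by
  intro a ha
  have hap : (orderOf a).Coprime p :=
    Nat.Coprime.coprime_dvd_left (Subgroup.orderOf_dvd_natCard A ha) hcop
  have haH : ∀ x ∈ H, a * x * a⁻¹ ∈ H := fun x hx =>
    (Subgroup.mem_normalizer_iff.mp (hA ha) x).mp hx
  set K : Subgroup G := H ⊓ Subgroup.centralizer (E : Set G) with hK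
  -- `a` centralizes the elements of `K` with `x ^ p = 1`
  have hΩ : ∀ x ∈ K, x ^ p = 1 → a * x = x * a := by
    intro x hx hxp
    by_cases hx1 : x = 1
    · subst hx1; simp
    · have hord : orderOf x = p := orderOf_eq_prime hxp hx1
      have := hfix x hx hord ha
      exact (Subgroup.mem_centralizer_iff.mp this x rfl).symm
  -- `E ≤ K`
  have hEcomm : ∀ e₁ ∈ E, ∀ e₂ ∈ E, e₁ * e₂ = e₂ * e₁ := by
    intro e₁ h₁ e₂ h₂
    have := (isMulCommutative_iff.mp hEe.1) ⟨e₁, h₁⟩ ⟨e₂, h₂⟩
    exact congrArg Subtype.val this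
  have hEK : E ≤ K := by
    intro e he
    refine ⟨hE he, Subgroup.mem_centralizer_iff.mpr ?_⟩
    intro e' he'
    exact hEcomm e' he' e he
  have haE : ∀ e ∈ E, a * e = e * a := fun e he => hΩ e (hEK he) (hEe.2 e he)
  -- `K` is `a`-invariant
  have haK : ∀ x ∈ K, a * x * a⁻¹ ∈ K := by
    intro x hx
    refine ⟨haH x hx.1, Subgroup.mem_centralizer_iff.mpr ?_⟩
    intro e he
    have hex : e * x = x * e := Subgroup.mem_centralizer_iff.mp hx.2 e he
    have hae := haE e he
    have hae' : a⁻¹ * e = e * a⁻¹ := by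
      calc a⁻¹ * e = a⁻¹ * (e * a) * a⁻¹ := by group
        _ = a⁻¹ * (a * e) * a⁻¹ := by rw [hae]
        _ = e * a⁻¹ := by group
    calc e * (a * x * a⁻¹) = (e * a) * x * a⁻¹ := by group
      _ = (a * e) * x * a⁻¹ := by rw [hae]
      _ = a * (e * x) * a⁻¹ := by group
      _ = a * (x * e) * a⁻¹ := by rw [hex]
      _ = a * x * (e * a⁻¹) := by group
      _ = a * x * (a⁻¹ * e) := by rw [hae']
      _ = a * x * a⁻¹ * e := by group
  have hKp : IsPGroup p K := hH.to_le inf_le_left
  have hKc := centralizes_pgroup_of_centralizes_omega p hp a hap K hKp haK hΩ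
  have hnil : Group.IsNilpotent H := hH.isNilpotent
  have hcopH : (orderOf a).Coprime (Nat.card H) := by
    obtain ⟨k, hk⟩ := hH.exists_card_eq
    rw [hk]; exact Nat.Coprime.pow_right k hap
  have hall := centralizes_of_nilpotent H hnil a haH hcopH (E : Set G) hE haE (by
    intro x hx hxE
    refine hKc x ⟨hx, Subgroup.mem_centralizer_iff.mpr ?_⟩
    intro e he
    exact (hxE e he).symm)
  refine Subgroup.mem_centralizer_iff.mpr ?_
  intro h hh
  exact (hall h hh).symm

end Cfsg.Agent.S1443
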