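import Cfsg.Statements.S1965
import Cfsg.Agent.Lib.Helper33_Alperin

set_option autoImplicit false
open Cfsg

namespace Cfsg.Agent.S1965

open Cfsg.Agent.Lib.Helper33_Conj Cfsg.Agent.Lib.Helper33_Alperin

variable {G : Type*} [Group G]

/-- A chain of conjugations inside normalizers of members of `𝓕` (right conjugation
`a ↦ x⁻¹ a x`), with product exactly `g`. -/
inductive Chain (𝓕 : Set (Subgroup G)) : Set G → G → Prop
  | nil (A : Set G) : Chain 𝓕 A 1
  | cons (A : Set G) (T : Subgroup G) (x g : G) : T ∈ 𝓕 →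
      x ∈ Subgroup.normalizer (T : Set G) → A ⊆ (T : Set G) → Chain 𝓕 (cjs x⁻¹ A) g →
      Chain 𝓕 A (x * g)

theorem Chain.restrict {𝓕 : Set (Subgroup G)} {A : Set G} {g : G} (h : Chain 𝓕 A g) :
    ∀ A' : Set G, A' ⊆ A → Chain 𝓕 A' g := by
  induction h with
  | nil A => intro A' _; exact Chain.nil A'
  | cons A T x g hT hx hA _ ih =>
    intro A' hA'
    exact Chain.cons A' T x g hT hx (hA'.trans hA) (ih _ (cjs_mono hA'))

theorem Chain.trans {𝓕 : Set (Subgroup G)} {A : Set G} {g : G} (h : Chain 𝓕 A g) :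
    ∀ h' : G, Chain 𝓕 (cjs g⁻¹ A) h' → Chain 𝓕 A (g * h') := by
  induction h with
  | nil A => intro h' hh'; simpa [cjs_one] using hh'
  | cons A T x g hT hx hA _ ih =>
    intro h' hh'
    have e : cjs (x * g)⁻¹ A = cjs g⁻¹ (cjs x⁻¹ A) := by
      rw [← cjs_mul]; congr 1; group
    rw [e] at hh'
    have := Chain.cons A T x (g * h') hT hx hA (ih h' hh')
    rwa [← mul_assoc] at this

theorem Chain.single {𝓕 : Set (Subgroup G)} {A : Set G} {T : Subgroup G} {x : G} (hT : T ∈ 𝓕)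
    (hx : x ∈ Subgroup.normalizer (T : Set G)) (hA : A ⊆ (T : Set G)) : Chain 𝓕 A x := by
  have := Chain.cons A T x 1 hT hx hA (Chain.nil _)
  rwa [mul_one] at this

theorem Chain.symm {𝓕 : Set (Subgroup G)} {A : Set G} {g : G} (h : Chain 𝓕 A g) :
    Chain 𝓕 (cjs g⁻¹ A) g⁻¹ := by
  induction h with
  | nil A => simpa [cjs_one] using Chain.nil A
  | cons A T x g hT hx hA _ ih =>
    have e : cjs (x * g)⁻¹ A = cjs g⁻¹ (cjs x⁻¹ A) := by
      rw [← cjs_mul]; congr 1; group
    rw [e]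
    have hxA : cjs x⁻¹ A ⊆ (T : Set G) := by
      have h1 : cjs x⁻¹ A ⊆ cjs x⁻¹ (T : Set G) := cjs_mono hA
      rw [← coe_cj, mem_normalizer_iff_cj.mp (inv_mem hx)] at h1
      exact h1
    have h2 : Chain 𝓕 (cjs x⁻¹ A) x⁻¹ := Chain.single hT (inv_mem hx) hxA
    have h3 := ih.trans x⁻¹ (by rw [inv_inv, cjs_cjs_inv]; exact h2)
    rwa [← mul_inv_rev] at h3

theorem Chain.fusionRel (𝓕 : Set (Subgroup G)) : FusionRel (fun A g => Chain 𝓕 A g⁻¹) where
  restrict := fun A A' g h hA => h.restrict A' hA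
  trans := fun A g h h1 h2 => by
    have := h1.trans h⁻¹ (by rw [inv_inv]; exact h2)
    rwa [← mul_inv_rev] at this
  symm := fun A g h => by
    have := h.symm
    simpa only [inv_inv] using this

/-- the shape required by `IsConjugationFamily` -/
def Fam (𝓕 : Set (Subgroup G)) (A : Set G) (g : G) : Prop :=
  ∃ (n : ℕ) (T : Fin n → Subgroup G) (x : Fin n → G), (List.ofFn x).prod = g ∧
      (∀ i, T i ∈ 𝓕) ∧ (∀ i, x i ∈ Subgroup.normalizer ((T i : Subgroup G) : Set G)) ∧
      (∀ h : 0 < n, A ⊆ T ⟨0, h⟩) ∧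
      ∀ (i : Fin n) (h : i.val + 1 < n),
        (fun a => (((List.ofFn x).take (i.val + 1)).prod)⁻¹ * a * ((List.ofFn x).take (i.val + 1)).prod) '' A ⊆
          T ⟨i.val + 1, h⟩

theorem Chain.toFam {𝓕 : Set (Subgroup G)} {A : Set G} {g : G} (h : Chain 𝓕 A g) : Fam 𝓕 A g := by
  induction h with
  | nil A =>
    refine ⟨0, Fin.elim0, Fin.elim0, by simp, fun i => i.elim0, fun i => i.elim0,
      fun h => absurd h (lt_irrefl 0), fun i => i.elim0⟩
  | cons A T₀ x₀ g hT hx hA _ ih =>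
    obtain ⟨n, T, x, hprod, hT', hx', h0, hstep⟩ := ih
    refine ⟨n + 1, Fin.cons T₀ T, Fin.cons x₀ x, ?_, ?_, ?_, ?_, ?_⟩
    · rw [List.ofFn_succ]
      simp only [Fin.cons_zero, Fin.cons_succ, List.prod_cons, hprod]
    · intro i
      refine Fin.cases ?_ (fun j => ?_) i
      · simpa using hT
      · simpa using hT' j
    · intro i
      refine Fin.cases ?_ (fun j => ?_) i
      · simpa using hx
      · simpa using hx' j
    · intro _
      exact hA
    · intro i hi
      have e1 : (⟨i.val + 1, hi⟩ : Fin (n + 1)) = Fin.succ ⟨i.val, by omega⟩ := rfl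
      rw [e1, Fin.cons_succ, List.ofFn_succ]
      simp only [Fin.cons_zero, Fin.cons_succ, List.take_succ_cons, List.prod_cons]
      rintro _ ⟨a, ha, rfl⟩
      rcases Nat.eq_zero_or_pos i.val with hi0 | hipos
      · have h00 := h0 (by omega)
        have : (⟨i.val, by omega⟩ : Fin n) = ⟨0, by omega⟩ := Fin.ext hi0
        rw [this]
        apply h00
        rw [mem_cjs]
        simp only [hi0, List.take_zero, List.prod_nil, mul_one, inv_inv]
        have : x₀ * (x₀⁻¹ * a * x₀) * x₀⁻¹ = a := by group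
        rw [this]; exact ha
      · obtain ⟨j, hj⟩ : ∃ j, i.val = j + 1 := ⟨i.val - 1, by omega⟩
        have hstep' := hstep ⟨j, by omega⟩ (by simp only; omega)
        have : (⟨i.val, by omega⟩ : Fin n) = ⟨j + 1, by omega⟩ := Fin.ext hj
        rw [this]
        apply hstep'
        refine ⟨x₀⁻¹ * a * x₀, ?_, ?_⟩
        · rw [mem_cjs]
          have : x₀⁻¹⁻¹ * (x₀⁻¹ * a * x₀) * x₀⁻¹ = a := by group
          rw [this]; exact ha
        · simp only [hj]
          group

/-- Let p be a prime, G a finite group with Sylow p-subgroup S and 𝓕 a set of subgroups of S. Suppose that every subgroup T of S is G-conjugate to some member U of 𝓕 for which N_S(U) is a Sylow p-subgroup of N_G(U). Then 𝓕 is a conjugation family for S in G. -/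
theorem result {G : Type*} [Group G] [Finite G] {p : ℕ} [Fact p.Prime] (S : Sylow p G) (𝓕 : Set (Subgroup G)) (h𝓕 : ∀ U ∈ 𝓕, U ≤ (S : Subgroup G)) (h : ∀ T : Subgroup G, T ≤ (S : Subgroup G) → ∃ U ∈ 𝓕, (∃ g : G, T.map (MulAut.conj g).toMonoidHom = U) ∧ ¬ p ∣ ((S : Subgroup G) ⊓ Subgroup.normalizer ((U : Subgroup G) : Set G)).relIndex (Subgroup.normalizer ((U : Subgroup G) : Set G))) : Cfsg.IsConjugationFamily 𝓕 (S : Subgroup G) := by
  refine ⟨h𝓕, ?_⟩
  intro A g _ hAS hAg
  have key := alperin S 𝓕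
    (fun T hT => by
      obtain ⟨U, hU, hconj, hidx⟩ := h T hT
      exact ⟨U, hU, h𝓕 U hU, hconj, hidx⟩)
    (fun A g => Chain 𝓕 A g⁻¹) (Chain.fusionRel 𝓕)
    (fun U hU _ _ _ m hm => Chain.single hU (inv_mem hm) (le_refl _))
  have h1 : Subgroup.closure A ≤ (S : Subgroup G) := (Subgroup.closure_le _).mpr hAS
  have h2 : cj g⁻¹ (Subgroup.closure A) ≤ (S : Subgroup G) := by
    rw [← cjs_subset_coe_iff]
    rintro _ ⟨a, ha, rfl⟩
    apply hAg
    exact ⟨a, ha, by simp⟩
  have h3 := key _ h1 g⁻¹ h2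
  rw [inv_inv] at h3
  exact (h3.restrict A Subgroup.subset_closure).toFam

end Cfsg.Agent.S1965
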