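import Cfsg.Statements.S1968
import Cfsg.Agent.Lib.Helper33_Alperin
import Cfsg.Agent.S1963

set_option autoImplicit false
open Cfsg

namespace Cfsg.Agent.S1968

open Cfsg.Agent.Lib.Helper33_Conj Cfsg.Agent.Lib.Helper33_Alperin

variable {G : Type*} [Group G]

/-- the relation "if `A` lies in `B` or in `g B g⁻¹` then `g` normalizes `A`" -/
def NR (A : Subgroup G) (B : Set G) (g : G) : Prop :=
  ((A : Set G) ⊆ B ∨ (A : Set G) ⊆ cjs g B) → cj g A = A

theorem NR.fusionRel (A : Subgroup G) : FusionRel (NR A) where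
  restrict := by
    intro B B' g h hB' hA
    apply h
    rcases hA with hA | hA
    · exact Or.inl (hA.trans hB')
    · exact Or.inr (hA.trans (cjs_mono hB'))
  trans := by
    intro B g h h1 h2 hA
    rw [cj_mul]
    rcases hA with hA | hA
    · have e1 := h1 (Or.inl hA)
      have hA' : (A : Set G) ⊆ cjs g B := by
        have := cjs_mono (g := g) hA
        rwa [← coe_cj, e1] at this
      rw [e1]
      exact h2 (Or.inl hA')
    · rw [cjs_mul] at hA
      have e2 := h2 (Or.inr hA)
      have hA' : (A : Set G) ⊆ cjs g B := by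
        have := cjs_mono (g := h⁻¹) hA
        rw [cjs_inv_cjs, ← coe_cj] at this
        have e3 : cj h⁻¹ A = A := by
          conv_lhs => rw [← e2]
          exact cj_inv_cj h A
        rwa [e3] at this
      rw [h1 (Or.inr hA')]
      exact e2
  symm := by
    intro B g h hA
    have e : cj g A = A := by
      apply h
      rcases hA with hA | hA
      · exact Or.inr hA
      · rw [cjs_inv_cjs] at hA; exact Or.inl hA
    conv_lhs => rw [← e]
    exact cj_inv_cj g A

theorem tower_shift (W : Subgroup G → Subgroup G) (S T : Subgroup G) (i : ℕ) :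
    Cfsg.functorTower W S (W (S ⊓ Subgroup.normalizer (T : Set G))) i =
      Cfsg.functorTower W S T (i + 1) := by
  induction i with
  | zero => rfl
  | succ i ih =>
    show W (S ⊓ Subgroup.normalizer ((Cfsg.functorTower W S _ i : Subgroup G) : Set G)) = _
    rw [ih]
    rfl

theorem wellPlaced_shift {p : ℕ} {W : Subgroup G → Subgroup G} {S T : Subgroup G}
    (hWS : W (S ⊓ Subgroup.normalizer (T : Set G)) ≤ S)
    (h : Cfsg.IsWellPlaced p W S T) :
    Cfsg.IsWellPlaced p W S (W (S ⊓ Subgroup.normalizer (T : Set G))) := by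
  refine ⟨hWS, fun i => ?_⟩
  rw [tower_shift]
  exact h.2 (i + 1)

/-- Let p be a prime, G a finite group with Sylow p-subgroup S and W a conjugacy functor for p on G with Z(P) ≤ W(P) for every p-subgroup P. Let A be a subgroup of Z(S) normalized by N_G(W(S)) that is not weakly closed in S with respect to G. Then there is a subgroup T of S, well placed in S with respect to W, such that: A ≤ T; N_G(W(N_S(T))) normalizes A; N_S(T) is a Sylow p-subgroup of N_G(T); A ≤ Z(N_S(T)); and A is not weakly closed in N_S(T) with respect to N_G(T), that is, some N_G(T)-conjugate of A other than A lies in N_S(T). -/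
theorem result {G : Type*} [Group G] [Finite G] {p : ℕ} [Fact p.Prime] (S : Sylow p G) (W : Subgroup G → Subgroup G) (hW : Cfsg.IsConjugacyFunctor p W) (hWZ : ∀ P : Subgroup G, IsPGroup p ↥P → P ⊓ Subgroup.centralizer (P : Set G) ≤ W P) (A : Subgroup G) (hAZ : A ≤ (S : Subgroup G) ⊓ Subgroup.centralizer ((S : Subgroup G) : Set G)) (hAN : Subgroup.normalizer ((W (S : Subgroup G) : Subgroup G) : Set G) ≤ Subgroup.normalizer ((A : Subgroup G) : Set G)) (hnwc : ¬ Cfsg.IsWeaklyClosed A (S : Subgroup G)) : ∃ T : Subgroup G, Cfsg.IsWellPlaced p W (S : Subgroup G) T ∧ A ≤ T ∧ Subgroup.normalizer ((W ((S : Subgroup G) ⊓ Subgroup.normalizer ((T : Subgroup G) : Set G)) : Subgroup G) : Set G) ≤ Subgroup.normalizer ((A : Subgroup G) : Set G) ∧ ¬ p ∣ ((S : Subgroup G) ⊓ Subgroup.normalizer ((T : Subgroup G) : Set G)).relIndex (Subgroup.normalizer ((T : Subgroup G) : Set G)) ∧ A ≤ Subgroup.centralizer (((S : Subgroup G) ⊓ Subgroup.normalizer ((T : Subgroup G) : Set G) : Subgroup G) : Set G) ∧ ∃ g ∈ Subgroup.normalizer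 ((T : Subgroup G) : Set G), A.map (MulAut.conj g).toMonoidHom ≤ (S : Subgroup G) ⊓ Subgroup.normalizer ((T : Subgroup G) : Set G) ∧ A.map (MulAut.conj g).toMonoidHom ≠ A := by
  have hAS : A ≤ (S : Subgroup G) := hAZ.trans inf_le_left
  have hAC : A ≤ Subgroup.centralizer ((S : Subgroup G) : Set G) := hAZ.trans inf_le_right
  -- the set of "bad" well-placed subgroups
  let 𝒯 : Set (Subgroup G) := {T | Cfsg.IsWellPlaced p W (S : Subgroup G) T ∧ A ≤ T ∧
    ∃ x ∈ Subgroup.normalizer (T : Set G), cj x A ≠ A}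
  have h𝒯ne : 𝒯.Nonempty := by
    by_contra hempty
    rw [Set.not_nonempty_iff_eq_empty] at hempty
    apply hnwc
    refine ⟨hAS, ?_⟩
    intro g hg
    have key := alperin S {T : Subgroup G | Cfsg.IsWellPlaced p W (S : Subgroup G) T}
      (fun T hT => by
        obtain ⟨g, hg⟩ := Cfsg.Agent.S1963.result S W hW T hT
        exact ⟨_, hg, hg.1, ⟨g, rfl⟩, hg.2 0⟩)
      (NR A) (NR.fusionRel A)
      (fun U hU _ _ _ m hm hA => by
        have hmU : cjs m (U : Set G) = (U : Set G) := by
          rw [← coe_cj, mem_normalizer_iff_cj.mp hm]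
        rw [hmU, or_self] at hA
        by_contra hne
        have : U ∈ 𝒯 := ⟨hU, hA, m, hm, hne⟩
        rw [hempty] at this
        exact this)
    exact key A hAS g hg (Or.inl le_rfl)
  -- choose T ∈ 𝒯 with |N_S(T)| maximal
  have hfin : (𝒯).Finite := Set.toFinite _
  obtain ⟨T, hT𝒯, hTmax⟩ := hfin.exists_maximalFor
    (fun T : Subgroup G => Nat.card ((S : Subgroup G) ⊓ Subgroup.normalizer (T : Set G) : Subgroup G)) 𝒯 h𝒯ne
  obtain ⟨hTwp, hAT, x, hxT, hxA⟩ := hT𝒯
  refine ⟨T, hTwp, hAT, ?_, hTwp.2 0, ?_, x, hxT, ?_, hxA⟩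
  · -- N(W(N_S(T))) ≤ N(A)
    obtain ⟨P, hP⟩ : ∃ P : Subgroup G, P = (S : Subgroup G) ⊓ Subgroup.normalizer (T : Set G) :=
      ⟨_, rfl⟩
    rw [← hP]
    have hPle : P ≤ (S : Subgroup G) := hP ▸ inf_le_left
    have hTP : T ≤ P := hP ▸ le_inf hTwp.1 Subgroup.le_normalizer
    have hPp : IsPGroup p P := S.2.to_le hPle
    by_contra hcon
    obtain ⟨y, hyV, hyA⟩ := SetLike.not_le_iff_exists.mp hcon
    rcases eq_or_lt_of_le hPle with hPS | hPS
    · rw [hPS] at hyV
      exact hyA (hAN hyV)
    · -- V = W P is in 𝒯 with larger normalizer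
      have hVS : W P ≤ (S : Subgroup G) := ((hW P hPp).1).trans hPle
      have hAV : A ≤ W P := by
        refine le_trans ?_ (hWZ P hPp)
        refine le_inf (hAT.trans hTP) ?_
        exact hAC.trans (Subgroup.centralizer_le (by exact_mod_cast hPle))
      have hV𝒯 : W P ∈ 𝒯 := by
        refine ⟨by rw [hP] at hVS ⊢; exact wellPlaced_shift hVS hTwp, hAV, y, hyV, ?_⟩
        intro h
        exact hyA (mem_normalizer_iff_cj.mpr h)
      have h1 : P < (S : Subgroup G) ⊓ Subgroup.normalizer (P : Set G) :=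
        lt_inf_normalizer S.2 hPS
      have h2 : (S : Subgroup G) ⊓ Subgroup.normalizer (P : Set G) ≤
          (S : Subgroup G) ⊓ Subgroup.normalizer ((W P : Subgroup G) : Set G) :=
        inf_le_inf_left _ (Cfsg.Agent.S1963.normalizer_le_normalizer_W W hW hPp)
      have hlt : Nat.card P < Nat.card ((S : Subgroup G) ⊓
          Subgroup.normalizer ((W P : Subgroup G) : Set G) : Subgroup G) :=
        lt_of_lt_of_le (card_lt_of_lt h1) (Subgroup.card_le_of_le h2)
      have hmax := hTmax hV𝒯 (by simp only; rw [← hP]; exact hlt.le)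
      simp only at hmax
      rw [← hP] at hmax
      omega
  · exact hAC.trans (Subgroup.centralizer_le (by exact_mod_cast (inf_le_left : _ ≤ (S : Subgroup G))))
  · -- cj x A ≤ N_S(T)
    have h1 : cj x A ≤ cj x T := cj_mono hAT
    rw [mem_normalizer_iff_cj.mp hxT] at h1
    exact h1.trans (le_inf hTwp.1 Subgroup.le_normalizer)

end Cfsg.Agent.S1968
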