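import Cfsg.Statements.S1975

set_option autoImplicit false
open Cfsg

namespace Cfsg.Agent.S1975

theorem lower_antitone {P : Type*} [Group P] {Q Q' : Subgroup P} (h : Q' ≤ Q) :
    Cfsg.kLowerStarFamily Q ⊆ Cfsg.kLowerStarFamily Q' := by
  rintro B ⟨h1, h2, h3⟩
  exact ⟨h1, h.trans h2, fun A hA hAQ => h3 A hA (hAQ.trans h)⟩

theorem upper_antitone {P : Type*} [Group P] {Q Q' : Subgroup P} (h : Q' ≤ Q) :
    Cfsg.kUpperStarFamily Q ⊆ Cfsg.kUpperStarFamily Q' := by
  rintro B ⟨h1, h2⟩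
  exact ⟨h1, (Subgroup.commutator_mono le_rfl h).trans h2⟩

theorem step_mono {P : Type*} [Group P] {Q Q' : Subgroup P} (h : Q' ≤ Q) :
    sSup (kUpperStarFamily (sSup (kLowerStarFamily Q'))) ≤ sSup (kUpperStarFamily (sSup (kLowerStarFamily Q))) := by
  apply sSup_le_sSup
  apply upper_antitone
  apply sSup_le_sSup
  exact lower_antitone h

theorem odd_succ_le {P : Type*} [Group P] (n : ℕ) : Cfsg.kSeqOdd P (n + 1) ≤ Cfsg.kSeqOdd P n := by
  induction n with
  | zero => exact le_top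
  | succ n ih => exact step_mono ih

theorem odd_antitone {P : Type*} [Group P] : Antitone (Cfsg.kSeqOdd P) :=
  antitone_nat_of_succ_le odd_succ_le

theorem even_le_succ {P : Type*} [Group P] (n : ℕ) : Cfsg.kSeqEven P n ≤ Cfsg.kSeqEven P (n + 1) := by
  unfold Cfsg.kSeqEven
  apply sSup_le_sSup
  exact lower_antitone (odd_succ_le n)

theorem even_monotone {P : Type*} [Group P] : Monotone (Cfsg.kSeqEven P) :=
  monotone_nat_of_le_succ even_le_succ

/-- Let P be a finite p-group. In the K-sequence of P the odd-indexed terms decrease and the even-indexed terms increase: with the numbering used here, kSeqOdd P (n+1) ≤ kSeqOdd P n and kSeqEven P n ≤ kSeqEven P (n+1) for every n. -/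
theorem result {P : Type*} [Group P] [Finite P] {p : ℕ} [Fact p.Prime] (hP : IsPGroup p P) (n : ℕ) : Cfsg.kSeqOdd P (n + 1) ≤ Cfsg.kSeqOdd P n ∧ Cfsg.kSeqEven P n ≤ Cfsg.kSeqEven P (n + 1) := by
  exact ⟨odd_succ_le n, even_le_succ n⟩

end Cfsg.Agent.S1975
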