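import Cfsg.Statements.S1976
import Cfsg.Agent.S1975

set_option autoImplicit false
open Cfsg

namespace Cfsg.Agent.S1976

/-- Let P be a finite p-group. The K-sequence of P is eventually constant on each parity: from some index on, every even-indexed term equals the lower K-infinity subgroup and every odd-indexed term equals the upper K-infinity subgroup. -/
theorem result {P : Type*} [Group P] [Finite P] {p : ℕ} [Fact p.Prime] (hP : IsPGroup p P) : ∃ n : ℕ, ∀ m : ℕ, n ≤ m → Cfsg.kSeqEven P m = Cfsg.kInfLower P ∧ Cfsg.kSeqOdd P m = Cfsg.kInfUpper P := by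
  have hfin : Finite (Subgroup P) := inferInstance
  have hE : Monotone (Cfsg.kSeqEven P) := Cfsg.Agent.S1975.even_monotone
  have hO : Antitone (Cfsg.kSeqOdd P) := Cfsg.Agent.S1975.odd_antitone
  obtain ⟨n1, hn1⟩ := WellFoundedGT.monotone_chain_condition (⟨Cfsg.kSeqEven P, hE⟩ : ℕ →o Subgroup P)
  obtain ⟨n2, hn2⟩ := WellFoundedLT.antitone_chain_condition hO
  have h1 : Cfsg.kInfLower P = Cfsg.kSeqEven P n1 := by
    unfold Cfsg.kInfLower
    apply le_antisymm
    · apply iSup_le
      intro k
      rcases le_total k n1 with h | h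
      · exact hE h
      · have := hn1 k h
        simp only [OrderHom.coe_mk] at this
        rw [this]
    · exact le_iSup (Cfsg.kSeqEven P) n1
  have h2 : Cfsg.kInfUpper P = Cfsg.kSeqOdd P n2 := by
    unfold Cfsg.kInfUpper
    apply le_antisymm
    · exact iInf_le (Cfsg.kSeqOdd P) n2
    · apply le_iInf
      intro k
      rcases le_total k n2 with h | h
      · exact hO h
      · rw [hn2 k h]
  refine ⟨max n1 n2, fun m hm => ⟨?_, ?_⟩⟩
  · rw [h1]
    have := hn1 m (le_trans (le_max_left _ _) hm)
    simp only [OrderHom.coe_mk] at this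
    exact this.symm
  · rw [h2]
    exact (hn2 m (le_trans (le_max_right _ _) hm)).symm

end Cfsg.Agent.S1976
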