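import Cfsg.Statements.S1977
import Mathlib.GroupTheory.Nilpotent

set_option autoImplicit false
open Cfsg

namespace Cfsg.Agent.S1977

open scoped commutatorElement

variable {P : Type*} [Group P]

/-- the "centre" `B ∩ C(B)` -/
abbrev ZZ (B : Subgroup P) : Subgroup P := B ⊓ Subgroup.centralizer (B : Set P)

theorem mem_centralizer_sup {B X : Subgroup P} {z : P}
    (h1 : z ∈ Subgroup.centralizer (B : Set P)) (h2 : z ∈ Subgroup.centralizer (X : Set P)) :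
    z ∈ Subgroup.centralizer ((B ⊔ X : Subgroup P) : Set P) := by
  have hB : B ≤ Subgroup.centralizer ({z} : Set P) := by
    intro b hb
    rw [Subgroup.mem_centralizer_singleton_iff]
    exact (h1 b hb)
  have hX : X ≤ Subgroup.centralizer ({z} : Set P) := by
    intro b hb
    rw [Subgroup.mem_centralizer_singleton_iff]
    exact (h2 b hb)
  have := sup_le hB hX
  rw [Subgroup.mem_centralizer_iff]
  intro g hg
  have h3 := this hg
  rw [Subgroup.mem_centralizer_singleton_iff] at h3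
  exact h3

/-- elements of `B ⊔ X` are products `b * y` when `X` centralizes `B` -/
theorem exists_mul_of_mem_sup {B X : Subgroup P} (hX : X ≤ Subgroup.centralizer (B : Set P))
    {g : P} (hg : g ∈ B ⊔ X) : ∃ b ∈ B, ∃ y ∈ X, g = b * y := by
  have hBX : B ≤ Subgroup.normalizer (X : Set P) := by
    have h1 : B ≤ Subgroup.centralizer (X : Set P) := Subgroup.le_centralizer_iff.mp hX
    intro b hb
    rw [Subgroup.mem_normalizer_iff]
    intro h
    have hc := h1 hb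
    constructor
    · intro hh
      have : b * h * b⁻¹ = h := by
        have := hc h hh
        rw [← this]; group
      rw [this]; exact hh
    · intro hh
      have e := hc (b * h * b⁻¹) hh
      have : h = b * h * b⁻¹ := by
        have e2 : b * h * b⁻¹ * b = b * (b * h * b⁻¹) := e
        have e3 : b * h = b * (b * h * b⁻¹) := by rw [← e2]; group
        exact mul_left_cancel e3
      rw [this]; exact hh
  have := Subgroup.coe_mul_of_left_le_normalizer_right B X hBX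
  have hg' : g ∈ ((B ⊔ X : Subgroup P) : Set P) := hg
  rw [this] at hg'
  obtain ⟨b, hb, y, hy, rfl⟩ := hg'
  exact ⟨b, hb, y, hy, rfl⟩

theorem ZZ_le_ZZ_sup {B X : Subgroup P} (hX : X ≤ Subgroup.centralizer (B : Set P)) :
    ZZ B ≤ ZZ (B ⊔ X) := by
  intro z hz
  refine ⟨le_sup_left (a := B) hz.1, mem_centralizer_sup hz.2 ?_⟩
  have h1 : B ≤ Subgroup.centralizer (X : Set P) := Subgroup.le_centralizer_iff.mp hX
  exact h1 hz.1

/-- `⁅b * y, k⁆ = ⁅y, k⁆ * ⁅b, k⁆` when `⁅y, k⁆` commutes with `b` -/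
theorem comm_mul_left {b y k : P} (h : b * ⁅y, k⁆ = ⁅y, k⁆ * b) :
    ⁅b * y, k⁆ = ⁅y, k⁆ * ⁅b, k⁆ := by
  have e : ⁅b * y, k⁆ = b * ⁅y, k⁆ * b⁻¹ * ⁅b, k⁆ := by
    simp only [commutatorElement_def]; group
  rw [e, h]; group

theorem sup_commutator_le_ZZ {B X K : Subgroup P} (hX : X ≤ Subgroup.centralizer (B : Set P))
    (h1 : ⁅B, K⁆ ≤ ZZ B) (h2 : ⁅X, K⁆ ≤ ZZ B) : ⁅B ⊔ X, K⁆ ≤ ZZ B := by
  rw [Subgroup.commutator_le]
  intro g hg k hk
  obtain ⟨b, hb, y, hy, rfl⟩ := exists_mul_of_mem_sup hX hg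
  have hyk : ⁅y, k⁆ ∈ ZZ B := h2 (Subgroup.commutator_mem_commutator hy hk)
  have hbk : ⁅b, k⁆ ∈ ZZ B := h1 (Subgroup.commutator_mem_commutator hb hk)
  rw [comm_mul_left (hyk.2 b hb)]
  exact (ZZ B).mul_mem hyk hbk

theorem classTwo_sup {B X : Subgroup P} (hB : B ∈ Cfsg.classTwoSubgroups P)
    (hX : X ≤ Subgroup.centralizer (B : Set P)) (hXc : X ≤ Subgroup.centralizer (X : Set P)) :
    B ⊔ X ∈ Cfsg.classTwoSubgroups P := by
  show ⁅B ⊔ X, B ⊔ X⁆ ≤ Subgroup.centralizer ((B ⊔ X : Subgroup P) : Set P)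
  have hBX : B ≤ Subgroup.centralizer (X : Set P) := Subgroup.le_centralizer_iff.mp hX
  -- X is central in B ⊔ X
  have hXcen : X ≤ Subgroup.centralizer ((B ⊔ X : Subgroup P) : Set P) := by
    intro y hy
    exact mem_centralizer_sup (hX hy) (hXc hy)
  rw [Subgroup.commutator_le]
  intro g₁ hg₁ g₂ hg₂
  obtain ⟨b₁, hb₁, y₁, hy₁, rfl⟩ := exists_mul_of_mem_sup hX hg₁
  obtain ⟨b₂, hb₂, y₂, hy₂, rfl⟩ := exists_mul_of_mem_sup hX hg₂
  have hb₁' : b₁ ∈ B ⊔ X := le_sup_left (a := B) hb₁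
  have hb₂' : b₂ ∈ B ⊔ X := le_sup_left (a := B) hb₂
  have hy₁' : y₁ ∈ B ⊔ X := le_sup_right (b := X) hy₁
  have hy₂' : y₂ ∈ B ⊔ X := le_sup_right (b := X) hy₂
  have c1 := hXcen hy₁
  have c2 := hXcen hy₂
  have e : ⁅b₁ * y₁, b₂ * y₂⁆ = ⁅b₁, b₂⁆ := by
    have a1 : b₂ * y₁ = y₁ * b₂ := c1 b₂ hb₂'
    have a2 : b₁ * y₂ = y₂ * b₁ := c2 b₁ hb₁'
    have a3 : y₂ * y₁ = y₁ * y₂ := c1 y₂ hy₂'
    have a4 : b₁ * y₁ = y₁ * b₁ := c1 b₁ hb₁'
    have a5 : b₂ * y₂ = y₂ * b₂ := c2 b₂ hb₂'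
    simp only [commutatorElement_def, mul_inv_rev]
    calc b₁ * y₁ * (b₂ * y₂) * (y₁⁻¹ * b₁⁻¹) * (y₂⁻¹ * b₂⁻¹)
        = b₁ * (y₁ * b₂) * y₂ * y₁⁻¹ * b₁⁻¹ * y₂⁻¹ * b₂⁻¹ := by group
      _ = b₁ * (b₂ * y₁) * y₂ * y₁⁻¹ * b₁⁻¹ * y₂⁻¹ * b₂⁻¹ := by rw [a1]
      _ = b₁ * b₂ * (y₁ * y₂) * y₁⁻¹ * b₁⁻¹ * y₂⁻¹ * b₂⁻¹ := by group
      _ = b₁ * b₂ * (y₂ * y₁) * y₁⁻¹ * b₁⁻¹ * y₂⁻¹ * b₂⁻¹ := by rw [a3]
      _ = b₁ * (b₂ * y₂) * b₁⁻¹ * y₂⁻¹ * b₂⁻¹ := by group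
      _ = b₁ * (y₂ * b₂) * b₁⁻¹ * y₂⁻¹ * b₂⁻¹ := by rw [a5]
      _ = (b₁ * y₂) * b₂ * b₁⁻¹ * y₂⁻¹ * b₂⁻¹ := by group
      _ = (y₂ * b₁) * b₂ * b₁⁻¹ * y₂⁻¹ * b₂⁻¹ := by rw [a2]
      _ = y₂ * (b₁ * b₂ * b₁⁻¹) * y₂⁻¹ * b₂⁻¹ := by group
      _ = (b₁ * b₂ * b₁⁻¹) * y₂ * y₂⁻¹ * b₂⁻¹ := by
          rw [c2 (b₁ * b₂ * b₁⁻¹) ((B ⊔ X).mul_mem ((B ⊔ X).mul_mem hb₁' hb₂') ((B ⊔ X).inv_mem hb₁'))]
      _ = b₁ * b₂ * b₁⁻¹ * b₂⁻¹ := by group
  rw [e]
  have h1 : ⁅b₁, b₂⁆ ∈ Subgroup.centralizer (B : Set P) :=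
    hB (Subgroup.commutator_mem_commutator hb₁ hb₂)
  have h2 : ⁅b₁, b₂⁆ ∈ B := by
    rw [commutatorElement_def]
    exact B.mul_mem (B.mul_mem (B.mul_mem hb₁ hb₂) (B.inv_mem hb₁)) (B.inv_mem hb₂)
  exact mem_centralizer_sup h1 (hBX h2)

/-- `Q` normalizes `C(B)` when it normalizes `B` -/
theorem commutator_centralizer_le {B Q : Subgroup P} (hQ : Q ≤ Subgroup.normalizer (B : Set P)) :
    ⁅Subgroup.centralizer (B : Set P), Q⁆ ≤ Subgroup.centralizer (B : Set P) := by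
  rw [Subgroup.commutator_le]
  intro c hc q hq
  rw [commutatorElement_def]
  have hq' := hQ hq
  have : q * c⁻¹ * q⁻¹ ∈ Subgroup.centralizer (B : Set P) := by
    rw [Subgroup.mem_centralizer_iff]
    intro b hb
    have hb' : q⁻¹ * b * q ∈ B := (Subgroup.mem_normalizer_iff''.mp hq' b).mp hb
    have := (Subgroup.inv_mem _ hc) (q⁻¹ * b * q) hb'
    calc b * (q * c⁻¹ * q⁻¹) = q * ((q⁻¹ * b * q) * c⁻¹) * q⁻¹ := by group
      _ = q * (c⁻¹ * (q⁻¹ * b * q)) * q⁻¹ := by rw [this]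
      _ = q * c⁻¹ * q⁻¹ * b := by group
  have h2 := Subgroup.mul_mem _ hc this
  have e : c * q * c⁻¹ * q⁻¹ = c * (q * c⁻¹ * q⁻¹) := by group
  rw [e]; exact h2

/-- iterated commutators of `C` with `Q` -/
def iter (C Q : Subgroup P) : ℕ → Subgroup P
  | 0 => C
  | k + 1 => ⁅iter C Q k, Q⁆

theorem iter_le_lcs (C Q : Subgroup P) (k : ℕ) :
    iter C Q k ≤ (⊤ : Subgroup P).lowerCentralSeries k := by
  induction k with
  | zero => exact le_top
  | succ k ih => exact Subgroup.commutator_mono ih le_top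

theorem iter_le {C Q : Subgroup P} (h : ⁅C, Q⁆ ≤ C) (k : ℕ) : iter C Q k ≤ C := by
  induction k with
  | zero => exact le_rfl
  | succ k ih => exact (Subgroup.commutator_mono ih le_rfl).trans h

/-- the key existence statement -/
theorem exists_x [Finite P] {p : ℕ} [Fact p.Prime] (hP : IsPGroup p P) {B Q : Subgroup P}
    (hQ : Q ≤ Subgroup.normalizer (B : Set P))
    (hCB : ¬ Subgroup.centralizer (B : Set P) ≤ B) :
    ∃ x ∈ Subgroup.centralizer (B : Set P), x ∉ B ∧ ⁅Subgroup.zpowers x, Q⁆ ≤ ZZ B := by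
  haveI : Group.IsNilpotent P := hP.isNilpotent
  obtain ⟨n, hn⟩ := Subgroup.nilpotent_iff_lowerCentralSeries.mp (inferInstance : Group.IsNilpotent P)
  set C := Subgroup.centralizer (B : Set P) with hC
  have hCQ : ⁅C, Q⁆ ≤ C := commutator_centralizer_le hQ
  have hex : ∃ k, iter C Q k ≤ B := ⟨n, by
    have := iter_le_lcs C Q n
    rw [hn] at this
    exact this.trans bot_le⟩
  classical
  let k := Nat.find hex
  have hk : iter C Q k ≤ B := Nat.find_spec hex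
  have hk0 : k ≠ 0 := by
    intro h0
    apply hCB
    have := hk
    rw [h0] at this
    exact this
  obtain ⟨j, hj⟩ : ∃ j, k = j + 1 := ⟨k - 1, by omega⟩
  have hjB : ¬ iter C Q j ≤ B := Nat.find_min hex (by omega)
  obtain ⟨x, hxj, hxB⟩ := SetLike.not_le_iff_exists.mp hjB
  refine ⟨x, iter_le hCQ j hxj, hxB, ?_⟩
  have h1 : ⁅Subgroup.zpowers x, Q⁆ ≤ iter C Q (j + 1) :=
    Subgroup.commutator_mono (by rw [Subgroup.zpowers_le]; exact hxj) le_rfl
  rw [← hj] at h1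
  exact le_inf (h1.trans hk) (h1.trans (iter_le hCQ k))

theorem zpowers_le_centralizer_self (x : P) :
    Subgroup.zpowers x ≤ Subgroup.centralizer ((Subgroup.zpowers x : Subgroup P) : Set P) := by
  intro y hy z hz
  obtain ⟨i, rfl⟩ := Subgroup.mem_zpowers_iff.mp hy
  obtain ⟨j, rfl⟩ := Subgroup.mem_zpowers_iff.mp hz
  exact (zpow_mul_comm x j i)

theorem normalizer_of_commutator_le {B Q : Subgroup P} (h : ⁅B, Q⁆ ≤ B) :
    Q ≤ Subgroup.normalizer (B : Set P) := by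
  rw [Subgroup.le_normalizer_iff]
  intro q hq b hb
  have h1 : ⁅b, q⁆ ∈ B := h (Subgroup.commutator_mem_commutator hb hq)
  have e : q * b * q⁻¹ = ⁅b, q⁆⁻¹ * b := by
    rw [commutatorElement_def]; group
  rw [e]
  exact B.mul_mem (B.inv_mem h1) hb

/-- Let P be a finite p-group. A member B that is maximal under inclusion in any one of the families used to build the K-sequence of P — the class-two family, the lower-star family relative to an odd-indexed term, or the upper-star family relative to an even-indexed term — contains its centralizer: C_P(B) ≤ B. -/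
theorem result {P : Type*} [Group P] [Finite P] {p : ℕ} [Fact p.Prime] (hP : IsPGroup p P) (B : Subgroup P) (𝒦 : Set (Subgroup P)) (h𝒦 : 𝒦 = Cfsg.classTwoSubgroups P ∨ (∃ n, 𝒦 = Cfsg.kLowerStarFamily (Cfsg.kSeqOdd P n)) ∨ ∃ n, 𝒦 = Cfsg.kUpperStarFamily (Cfsg.kSeqEven P n)) (hB : B ∈ 𝒦) (hmax : ∀ C ∈ 𝒦, B ≤ C → C = B) : Subgroup.centralizer (B : Set P) ≤ B := by
  by_contra hCB
  -- it suffices to produce x ∈ C(B) \ B with B ⊔ ⟨x⟩ ∈ 𝒦
  suffices h : ∃ x ∈ Subgroup.centralizer (B : Set P), x ∉ B ∧ B ⊔ Subgroup.zpowers x ∈ 𝒦 by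
    obtain ⟨x, _, hxB, hmem⟩ := h
    have := hmax _ hmem le_sup_left
    apply hxB
    rw [← this]
    exact le_sup_right (b := Subgroup.zpowers x) (Subgroup.mem_zpowers x)
  rcases h𝒦 with rfl | ⟨n, rfl⟩ | ⟨n, rfl⟩
  · -- class two family
    obtain ⟨x, hxC, hxB, _⟩ := exists_x hP (B := B) (Q := ⊥) bot_le hCB
    refine ⟨x, hxC, hxB, ?_⟩
    exact classTwo_sup hB (by rw [Subgroup.zpowers_le]; exact hxC) (zpowers_le_centralizer_self x)
  · -- lower star family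
    set Q := Cfsg.kSeqOdd P n
    obtain ⟨hB2, hQN, hdag⟩ := hB
    obtain ⟨x, hxC, hxB, hxQ⟩ := exists_x hP hQN hCB
    have hX : Subgroup.zpowers x ≤ Subgroup.centralizer (B : Set P) := by
      rw [Subgroup.zpowers_le]; exact hxC
    refine ⟨x, hxC, hxB, classTwo_sup hB2 hX (zpowers_le_centralizer_self x), ?_, ?_⟩
    · -- Q normalizes B ⊔ X
      rw [Subgroup.le_normalizer_iff]
      intro q hq g hg
      obtain ⟨b, hb, y, hy, rfl⟩ := exists_mul_of_mem_sup hX hg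
      have h1 : q * b * q⁻¹ ∈ B := (Subgroup.le_normalizer_iff.mp hQN) q hq b hb
      have h2 : ⁅y, q⁆ ∈ B := (hxQ (Subgroup.commutator_mem_commutator hy hq)).1
      have e : q * (b * y) * q⁻¹ = (q * b * q⁻¹) * (⁅y, q⁆⁻¹ * y) := by
        rw [commutatorElement_def]; group
      rw [e]
      exact Subgroup.mul_mem _ (le_sup_left (a := B) h1)
        (Subgroup.mul_mem _ (le_sup_left (a := B) (B.inv_mem h2)) (le_sup_right (b := Subgroup.zpowers x) hy))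
    · intro A hA hAQ hBA h3 h4
      have hBA' : B ≤ Subgroup.normalizer (A : Set P) := le_sup_left.trans hBA
      have h3' : ⁅B, ⁅A, A⁆⁆ = ⊥ := by
        rw [eq_bot_iff, ← h3]
        exact Subgroup.commutator_mono le_sup_left le_rfl
      have h4' : ⁅⁅ZZ B, A⁆, A⁆ = ⊥ := by
        rw [eq_bot_iff, ← h4]
        exact Subgroup.commutator_mono (Subgroup.commutator_mono (ZZ_le_ZZ_sup hX) le_rfl) le_rfl
      have h5 : ⁅B, A⁆ ≤ ZZ B := hdag A hA hAQ hBA' h3' h4'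
      have h6 : ⁅Subgroup.zpowers x, A⁆ ≤ ZZ B :=
        (Subgroup.commutator_mono le_rfl hAQ).trans hxQ
      exact (sup_commutator_le_ZZ hX h5 h6).trans (ZZ_le_ZZ_sup hX)
  · -- upper star family
    set Q := Cfsg.kSeqEven P n
    obtain ⟨hB2, hBQ⟩ := hB
    have hQN : Q ≤ Subgroup.normalizer (B : Set P) := normalizer_of_commutator_le (hBQ.trans inf_le_left)
    obtain ⟨x, hxC, hxB, hxQ⟩ := exists_x hP hQN hCB
    have hX : Subgroup.zpowers x ≤ Subgroup.centralizer (B : Set P) := by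
      rw [Subgroup.zpowers_le]; exact hxC
    refine ⟨x, hxC, hxB, classTwo_sup hB2 hX (zpowers_le_centralizer_self x), ?_⟩
    exact (sup_commutator_le_ZZ hX hBQ hxQ).trans (ZZ_le_ZZ_sup hX)

end Cfsg.Agent.S1977
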