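import Cfsg.Statements.S1979
import Cfsg.Agent.S1975

set_option autoImplicit false
open Cfsg

namespace Cfsg.Agent.S1979

section transfer
variable {G G' : Type*} [Group G] [Group G'] {f : G →* G'}

theorem comm_eq_bot_map_iff (hf : Function.Injective f) (H K : Subgroup G) :
    ⁅H.map f, K.map f⁆ = ⊥ ↔ ⁅H, K⁆ = ⊥ := by
  rw [← Subgroup.map_commutator, Subgroup.map_eq_bot_iff_of_injective _ hf]

theorem comm_le_map_iff (hf : Function.Injective f) (H K L : Subgroup G) :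
    ⁅H.map f, K.map f⁆ ≤ L.map f ↔ ⁅H, K⁆ ≤ L := by
  rw [← Subgroup.map_commutator, Subgroup.map_le_map_iff_of_injective hf]

theorem classTwo_iff (B : Subgroup G) : B ∈ Cfsg.classTwoSubgroups G ↔ ⁅⁅B, B⁆, B⁆ = ⊥ :=
  Subgroup.commutator_eq_bot_iff_le_centralizer.symm

theorem classTwo_map_iff (hf : Function.Injective f) (B : Subgroup G) :
    B.map f ∈ Cfsg.classTwoSubgroups G' ↔ B ∈ Cfsg.classTwoSubgroups G := by
  rw [classTwo_iff, classTwo_iff, ← Subgroup.map_commutator, comm_eq_bot_map_iff hf]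

theorem map_ZZ (hf : Function.Injective f) (B : Subgroup G) :
    (B ⊓ Subgroup.centralizer (B : Set G)).map f =
      B.map f ⊓ Subgroup.centralizer ((B.map f : Subgroup G') : Set G') := by
  ext x
  constructor
  · rintro ⟨z, ⟨hz1, hz2⟩, rfl⟩
    refine ⟨Subgroup.mem_map_of_mem f hz1, ?_⟩
    show f z ∈ Subgroup.centralizer ((B.map f : Subgroup G') : Set G')
    rw [Subgroup.mem_centralizer_iff]
    rintro y ⟨b, hb, rfl⟩
    have hz2' : z ∈ Subgroup.centralizer (B : Set G) := hz2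
    rw [Subgroup.mem_centralizer_iff] at hz2'
    rw [← map_mul, ← map_mul, hz2' b hb]
  · rintro ⟨⟨b, hb, rfl⟩, h2⟩
    refine ⟨b, ⟨hb, ?_⟩, rfl⟩
    show b ∈ Subgroup.centralizer (B : Set G)
    rw [Subgroup.mem_centralizer_iff]
    intro b' hb'
    apply hf
    rw [map_mul, map_mul]
    have h2' : f b ∈ Subgroup.centralizer ((B.map f : Subgroup G') : Set G') := h2
    rw [Subgroup.mem_centralizer_iff] at h2'
    exact h2' (f b') (Subgroup.mem_map_of_mem f hb')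

theorem le_normalizer_map_iff (hf : Function.Injective f) (H K : Subgroup G) :
    H.map f ≤ Subgroup.normalizer ((K.map f : Subgroup G') : Set G') ↔
      H ≤ Subgroup.normalizer (K : Set G) := by
  rw [Subgroup.le_normalizer_iff, Subgroup.le_normalizer_iff]
  constructor
  · intro h x hx k hk
    obtain ⟨k', hk', e⟩ := h (f x) (Subgroup.mem_map_of_mem f hx) (f k) (Subgroup.mem_map_of_mem f hk)
    have : k' = x * k * x⁻¹ := hf (by rw [e, map_mul, map_mul, map_inv])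
    rw [← this]; exact hk'
  · rintro h _ ⟨x, hx, rfl⟩ _ ⟨k, hk, rfl⟩
    exact ⟨x * k * x⁻¹, h x hx k hk, by rw [map_mul, map_mul, map_inv]⟩

theorem upper_map_iff (hf : Function.Injective f) (R B : Subgroup G) :
    B.map f ∈ Cfsg.kUpperStarFamily (R.map f) ↔ B ∈ Cfsg.kUpperStarFamily R := by
  show (B.map f ∈ Cfsg.classTwoSubgroups G' ∧
      ⁅B.map f, R.map f⁆ ≤ B.map f ⊓ Subgroup.centralizer ((B.map f : Subgroup G') : Set G')) ↔
    (B ∈ Cfsg.classTwoSubgroups G ∧ ⁅B, R⁆ ≤ B ⊓ Subgroup.centralizer (B : Set G))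
  rw [classTwo_map_iff hf, ← map_ZZ hf, comm_le_map_iff hf]

theorem lower_map_iff (hf : Function.Injective f) (R B : Subgroup G) :
    B.map f ∈ Cfsg.kLowerStarFamily (R.map f) ↔ B ∈ Cfsg.kLowerStarFamily R := by
  constructor
  · rintro ⟨h1, h2, h3⟩
    refine ⟨(classTwo_map_iff hf B).mp h1, (le_normalizer_map_iff hf R B).mp h2, ?_⟩
    intro A hA hAR hBA h4 h5
    have := h3 (A.map f) ((classTwo_map_iff hf A).mpr hA) (Subgroup.map_mono hAR)
      ((le_normalizer_map_iff hf B A).mpr hBA)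
      (by rw [← Subgroup.map_commutator, comm_eq_bot_map_iff hf]; exact h4)
      (by rw [← map_ZZ hf, ← Subgroup.map_commutator, comm_eq_bot_map_iff hf]; exact h5)
    rw [← map_ZZ hf, comm_le_map_iff hf] at this
    exact this
  · rintro ⟨h1, h2, h3⟩
    refine ⟨(classTwo_map_iff hf B).mpr h1, (le_normalizer_map_iff hf R B).mpr h2, ?_⟩
    intro A hA hAR hBA h4 h5
    have hA' : (A.comap f).map f = A :=
      Subgroup.map_comap_eq_self (hAR.trans (Subgroup.map_le_range f R))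
    rw [← hA'] at hA hAR hBA h4 h5 ⊢
    rw [← map_ZZ hf, comm_le_map_iff hf]
    apply h3 (A.comap f) ((classTwo_map_iff hf _).mp hA)
      ((Subgroup.map_le_map_iff_of_injective hf).mp hAR)
      ((le_normalizer_map_iff hf B _).mp hBA)
    · rw [← Subgroup.map_commutator, comm_eq_bot_map_iff hf] at h4; exact h4
    · rw [← map_ZZ hf, ← Subgroup.map_commutator, comm_eq_bot_map_iff hf] at h5; exact h5

end transfer

theorem step {P : Type*} [Group P] (Q : Subgroup P)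
    {FP : Subgroup P → Set (Subgroup P)} {FQ : Subgroup ↥Q → Set (Subgroup ↥Q)}
    (hanti : ∀ {S₁ S₂ : Subgroup P}, S₁ ≤ S₂ → FP S₂ ⊆ FP S₁)
    (htr : ∀ R' B' : Subgroup ↥Q, B'.map Q.subtype ∈ FP (R'.map Q.subtype) ↔ B' ∈ FQ R')
    (R' : Subgroup ↥Q) (S₁ S₂ : Subgroup P) (h1 : S₁ ≤ R'.map Q.subtype)
    (h2 : R'.map Q.subtype ≤ S₂) (hS₂ : sSup (FP S₂) ≤ Q) :
    sSup (FP S₂) ≤ (sSup (FQ R')).map Q.subtype ∧
      (sSup (FQ R')).map Q.subtype ≤ sSup (FP S₁) := by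
  constructor
  · apply sSup_le
    intro B hB
    have hBQ : B ≤ Q := (le_sSup hB).trans hS₂
    have hB' : (B.subgroupOf Q).map Q.subtype = B := Subgroup.map_subgroupOf_eq_of_le hBQ
    have : B.subgroupOf Q ∈ FQ R' := by
      rw [← htr, hB']
      exact hanti h2 hB
    rw [← hB']
    exact Subgroup.map_mono (le_sSup this)
  · rw [Subgroup.map_le_iff_le_comap]
    apply sSup_le
    intro B' hB'
    rw [← Subgroup.map_le_iff_le_comap]
    apply le_sSup
    exact hanti h1 ((htr R' B').mpr hB')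

theorem interleave {P : Type*} [Group P] (Q : Subgroup P)
    (hQ : ∀ n : ℕ, Cfsg.kSeqEven P n ≤ Q ∧ Cfsg.kSeqOdd P (n + 1) ≤ Q) (n : ℕ) :
    (Cfsg.kSeqOdd P (n + 1) ≤ (Cfsg.kSeqOdd ↥Q n).map Q.subtype ∧
      (Cfsg.kSeqOdd ↥Q n).map Q.subtype ≤ Cfsg.kSeqOdd P n) ∧
    (Cfsg.kSeqEven P n ≤ (Cfsg.kSeqEven ↥Q n).map Q.subtype ∧
      (Cfsg.kSeqEven ↥Q n).map Q.subtype ≤ Cfsg.kSeqEven P (n + 1)) := by
  have hf : Function.Injective Q.subtype := Q.subtype_injective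
  have key : ∀ n, (Cfsg.kSeqOdd P (n + 1) ≤ (Cfsg.kSeqOdd ↥Q n).map Q.subtype ∧
      (Cfsg.kSeqOdd ↥Q n).map Q.subtype ≤ Cfsg.kSeqOdd P n) →
    (Cfsg.kSeqEven P n ≤ (Cfsg.kSeqEven ↥Q n).map Q.subtype ∧
      (Cfsg.kSeqEven ↥Q n).map Q.subtype ≤ Cfsg.kSeqEven P (n + 1)) := by
    intro n h0
    exact step Q (FP := Cfsg.kLowerStarFamily) (FQ := Cfsg.kLowerStarFamily)
      Cfsg.Agent.S1975.lower_antitone (fun R' B' => lower_map_iff hf R' B')
      (Cfsg.kSeqOdd ↥Q n) (Cfsg.kSeqOdd P (n + 1)) (Cfsg.kSeqOdd P n) h0.1 h0.2 (hQ n).1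
  induction n with
  | zero =>
    have h0 : Cfsg.kSeqOdd P (0 + 1) ≤ (Cfsg.kSeqOdd ↥Q 0).map Q.subtype ∧
        (Cfsg.kSeqOdd ↥Q 0).map Q.subtype ≤ Cfsg.kSeqOdd P 0 := by
      refine ⟨?_, le_top⟩
      show _ ≤ (⊤ : Subgroup ↥Q).map Q.subtype
      rw [← MonoidHom.range_eq_map, Subgroup.range_subtype]
      exact (hQ 0).2
    exact ⟨h0, key 0 h0⟩
  | succ n ih =>
    have h1 : Cfsg.kSeqOdd P (n + 1 + 1) ≤ (Cfsg.kSeqOdd ↥Q (n + 1)).map Q.subtype ∧
        (Cfsg.kSeqOdd ↥Q (n + 1)).map Q.subtype ≤ Cfsg.kSeqOdd P (n + 1) :=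
      step Q (FP := Cfsg.kUpperStarFamily) (FQ := Cfsg.kUpperStarFamily)
        Cfsg.Agent.S1975.upper_antitone (fun R' B' => upper_map_iff hf R' B')
        (Cfsg.kSeqEven ↥Q n) (Cfsg.kSeqEven P n) (Cfsg.kSeqEven P (n + 1)) ih.2.1 ih.2.2
        (hQ (n + 1)).2
    exact ⟨h1, key (n + 1) h1⟩

/-- Let P be a finite p-group and Q a subgroup of P containing every term of the K-sequence of P of nonnegative index (every even-indexed term and every odd-indexed term after the initial term P). Then the K-infinity subgroups of Q, computed in Q and viewed in P, equal those of P. -/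
theorem result {P : Type*} [Group P] [Finite P] {p : ℕ} [Fact p.Prime] (hP : IsPGroup p P) (Q : Subgroup P) (hQ : ∀ n : ℕ, Cfsg.kSeqEven P n ≤ Q ∧ Cfsg.kSeqOdd P (n + 1) ≤ Q) : (Cfsg.kInfLower ↥Q).map Q.subtype = Cfsg.kInfLower P ∧ (Cfsg.kInfUpper ↥Q).map Q.subtype = Cfsg.kInfUpper P := by
  have _ := hP
  have hf : Function.Injective Q.subtype := Q.subtype_injective
  have hI := interleave Q hQ
  constructor
  · unfold Cfsg.kInfLower
    rw [Subgroup.map_iSup]
    apply le_antisymm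
    · exact iSup_le fun n => (hI n).2.2.trans (le_iSup (Cfsg.kSeqEven P) (n + 1))
    · exact iSup_le fun n => (hI n).2.1.trans
        (le_iSup (fun n => (Cfsg.kSeqEven ↥Q n).map Q.subtype) n)
  · unfold Cfsg.kInfUpper
    rw [Subgroup.map_iInf _ hf]
    apply le_antisymm
    · exact le_iInf fun n => (iInf_le _ n).trans (hI n).1.2
    · exact le_iInf fun n => (iInf_le (Cfsg.kSeqOdd P) (n + 1)).trans (hI n).1.1

end Cfsg.Agent.S1979
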