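import Cfsg.Statements.S0602
import Mathlib
import Cfsg.Agent.Lib.Helper10_Thompson

set_option autoImplicit false
open Cfsg
open Cfsg.Agent.Lib.Helper10_Thompson

namespace Cfsg.Agent.S0602

/-- The Thompson subgroup is characteristic, and nontrivial as soon as p divides the group order. -/
theorem result {G : Type*} [Group G] [Finite G] {p : ℕ} [Fact p.Prime] : (Cfsg.thompsonSubgroup p G).Characteristic ∧ (p ∣ Nat.card G → Cfsg.thompsonSubgroup p G ≠ ⊥) := by
  constructor
  · rw [Subgroup.characteristic_iff_map_le]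
    intro φ
    rw [Subgroup.map_le_iff_le_comap]
    apply sSup_le
    intro A hA
    rw [← Subgroup.map_le_iff_le_comap]
    exact le_thompsonSubgroup (map_mem_max φ hA)
  · intro hdvd hbot
    obtain ⟨x, hx⟩ := exists_prime_orderOf_dvd_card' (G := G) p hdvd
    obtain ⟨A, hA⟩ := exists_mem_max (G := G) (p := p)
    have hxp : x ^ p = 1 := by rw [← hx]; exact pow_orderOf_eq_one x
    have h1 : Nat.card (Subgroup.zpowers x) ≤ Nat.card A :=
      hA.2 _ (isElementaryAbelian_zpowers hxp)
    rw [Nat.card_zpowers, hx] at h1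
    have hAbot : A = ⊥ := le_bot_iff.mp (hbot ▸ le_thompsonSubgroup hA)
    rw [hAbot, Subgroup.card_bot] at h1
    exact absurd h1 (not_le.mpr (Fact.out : p.Prime).one_lt)

end Cfsg.Agent.S0602
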