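import Cfsg.Statements.S0607
import Cfsg.Agent.Lib.Helper51_Offender
import Cfsg.Agent.Lib.Helper10_Thompson
import Cfsg.Agent.S0606

set_option autoImplicit false
open Cfsg
open Cfsg.Agent.Lib.Helper51_Offender
open Cfsg.Agent.Lib.Helper10_Thompson
open scoped commutatorElement

namespace Cfsg.Agent.S0607

/-- The replacement Theorem for the Thompson subgroup: from A of maximal order among elementary abelian p-subgroups one obtains A₀ = [V, A] C_A([V, A]) of the same kind, quadratic on V and nontrivial on V when A is. -/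
theorem result {G : Type*} [Group G] [Finite G] {p : ℕ} [Fact p.Prime] (V : Subgroup G) [V.Normal] (hV : Cfsg.IsElementaryAbelian p V) (A : Subgroup G) (hA : A ∈ Cfsg.maxElementaryAbelianSubgroups p G) : (⁅V, A⁆ ⊔ (A ⊓ Subgroup.centralizer ((⁅V, A⁆ : Subgroup G) : Set G))) ∈ Cfsg.maxElementaryAbelianSubgroups p G ∧ ⁅⁅V, ⁅V, A⁆ ⊔ (A ⊓ Subgroup.centralizer ((⁅V, A⁆ : Subgroup G) : Set G))⁆, ⁅V, A⁆ ⊔ (A ⊓ Subgroup.centralizer ((⁅V, A⁆ : Subgroup G) : Set G))⁆ = ⊥ ∧ (⁅V, A⁆ ≠ ⊥ → ⁅V, ⁅V, A⁆ ⊔ (A ⊓ Subgroup.centralizer ((⁅V, A⁆ : Subgroup G) : Set G))⁆ ≠ ⊥) := by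
  have hVn : V.Normal := inferInstance
  have hbo : Cfsg.IsBestOffenderOn p V A := Cfsg.Agent.S0606.result V hV A hA
  have hVc : ∀ x ∈ V, ∀ y ∈ V, x * y = y * x := fun x hx y hy => ea_comm hV hx hy
  have hAV : A ≤ Subgroup.normalizer (V : Set G) := by
    rw [Subgroup.normalizer_eq_top_iff.mpr hVn]; exact le_top
  have h : Act V A := ⟨hVc, hAV, hbo.2.1⟩
  have hbest : Best V A := fun B hB => hbo.1 B hB
  have hVp : IsPGroup p V := ea_isPGroup hV
  obtain ⟨t1, t2⟩ := timmesfeld h hbest (le_refl V)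
  set W : Subgroup G := ⁅V, A⁆ with hW
  have hTs : A ⊓ Subgroup.centralizer ((W : Subgroup G) : Set G) = T A V := rfl
  rw [hTs]
  set Ts : Subgroup G := T A V with hTsdef
  set C : Subgroup G := CV V A with hC
  have hWV : W ≤ V := h.commutator_le le_rfl
  have hTsA : Ts ≤ A := T_le A V
  have hTsW : ∀ t ∈ Ts, ∀ w ∈ W, w * t = t * w := by
    intro t ht w hw
    exact Subgroup.mem_centralizer_iff.mp ht.2 w hw
  -- A₀ is elementary abelian
  have hea : Cfsg.IsElementaryAbelian p (W ⊔ Ts) := by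
    apply isElementaryAbelian_sup (ea_mono hWV hV) (ea_mono hTsA hA.1)
    intro w hw t ht
    exact hTsW t ht w hw
  -- order
  have hcard : Nat.card A ≤ Nat.card ↥(W ⊔ Ts) := by
    have h1 := card_mul_card_le W Ts
    have h2 : W ⊓ Ts ≤ W ⊓ C := by
      intro x hx
      refine ⟨hx.1, ?_⟩
      show x ∈ CV V A
      rw [mem_CV]
      refine ⟨hWV hx.1, fun a ha => ?_⟩
      exact ea_comm hA.1 ha (hTsA hx.2)
    have hCn : C ≤ Subgroup.normalizer (W : Set G) := by
      intro c hc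
      apply Subgroup.centralizer_le_normalizer
      rw [Subgroup.mem_centralizer_iff]
      intro w hw
      exact hVc w (hWV hw) c (CV_le V A hc)
    have h3 := card_sup_mul_card_inf W C hCn
    have h4 : Nat.card ↥(W ⊓ Ts) ≤ Nat.card ↥(W ⊓ C) := Subgroup.card_le_of_le h2
    have t1' : Nat.card Ts * Nat.card (CV V Ts) = Nat.card A * Nat.card C := t1
    rw [t2] at t1'
    -- |A₀| |W ⊓ C| |C| ≥ |A| |C| |W ⊓ C|
    have key : Nat.card A * (Nat.card C * Nat.card ↥(W ⊓ C)) ≤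
        Nat.card ↥(W ⊔ Ts) * (Nat.card C * Nat.card ↥(W ⊓ C)) := by
      calc Nat.card A * (Nat.card C * Nat.card ↥(W ⊓ C))
          = (Nat.card A * Nat.card C) * Nat.card ↥(W ⊓ C) := by ring
        _ = (Nat.card Ts * Nat.card ↥(W ⊔ C)) * Nat.card ↥(W ⊓ C) := by rw [t1']
        _ = Nat.card Ts * (Nat.card ↥(W ⊔ C) * Nat.card ↥(W ⊓ C)) := by ring
        _ = Nat.card Ts * (Nat.card W * Nat.card C) := by rw [h3]
        _ = (Nat.card W * Nat.card Ts) * Nat.card C := by ring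
        _ ≤ (Nat.card ↥(W ⊔ Ts) * Nat.card ↥(W ⊓ Ts)) * Nat.card C := Nat.mul_le_mul_right _ h1
        _ ≤ (Nat.card ↥(W ⊔ Ts) * Nat.card ↥(W ⊓ C)) * Nat.card C := by gcongr
        _ = Nat.card ↥(W ⊔ Ts) * (Nat.card C * Nat.card ↥(W ⊓ C)) := by ring
    exact Nat.le_of_mul_le_mul_right key (Nat.mul_pos Nat.card_pos Nat.card_pos)
  have hmax : (W ⊔ Ts) ∈ Cfsg.maxElementaryAbelianSubgroups p G := mem_max_of_card_eq hA hea hcard
  -- [V, A₀] ≤ W
  have hstab : W ⊔ Ts ≤ commStab V W := by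
    apply sup_le
    · intro w hw
      refine ⟨Subgroup.le_normalizer hw, fun v hv => ?_⟩
      have : ⁅v, w⁆ = 1 := by
        rw [commutatorElement_eq_one_iff_mul_comm]
        exact hVc v hv w (hWV hw)
      rw [this]; exact W.one_mem
    · intro t ht
      refine ⟨Subgroup.centralizer_le_normalizer _ ht.2, fun v hv => ?_⟩
      exact Subgroup.commutator_mem_commutator hv (hTsA ht)
  have hVA0 : ⁅V, W ⊔ Ts⁆ ≤ W := commutator_le_of_le_commStab hstab
  refine ⟨hmax, ?_, ?_⟩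
  · rw [eq_bot_iff]
    refine (Subgroup.commutator_mono hVA0 le_rfl).trans ?_
    rw [Subgroup.commutator_le]
    intro w hw g hg
    have : ⁅w, g⁆ = 1 := by
      rw [commutatorElement_eq_one_iff_mul_comm]
      exact ea_comm hea ((le_sup_left : W ≤ W ⊔ Ts) hw) hg
    rw [this]; exact Subgroup.one_mem _
  · intro hne hbot
    have hnt := timmesfeld_nontrivial h hbest hVp hbo.2.2 (le_refl V) hne
    apply hnt
    rw [eq_bot_iff, ← hbot]
    exact Subgroup.commutator_mono le_rfl le_sup_right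

end Cfsg.Agent.S0607
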