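import Cfsg.Statements.S0108
import Cfsg.Agent.Lib.Helper72_ThompsonTerminal
import Cfsg.Agent.S0602
import Cfsg.Agent.S0603
import Cfsg.Agent.S0607

set_option autoImplicit false
open Cfsg

namespace Cfsg.Agent.S0108

open Cfsg.Agent.Lib.Helper34_NPC Cfsg.Agent.Lib.Helper35_FrobeniusNPC
  Cfsg.Agent.Lib.Helper72_NPCReduction Cfsg.Agent.Lib.Helper72_ThompsonTerminal
  Cfsg.Agent.Lib.Helper10_Thompson

universe u

open scoped commutatorElement

/-- the Thompson subgroup (elementary abelian version) as a functor -/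
def JF (p : ℕ) : ∀ (Q : Type u) [Group Q], Subgroup Q := fun Q _ => Cfsg.thompsonSubgroup p Q

/-- the centre as a functor -/
def ZF : ∀ (Q : Type u) [Group Q], Subgroup Q := fun Q _ => Subgroup.center Q

theorem thompsonSubgroup_map_equiv {p : ℕ} {Q R : Type u} [Group Q] [Group R] (φ : Q ≃* R) :
    (Cfsg.thompsonSubgroup p Q).map φ.toMonoidHom = Cfsg.thompsonSubgroup p R := by
  apply le_antisymm
  · rw [Subgroup.map_le_iff_le_comap]
    apply sSup_le
    intro A hA
    rw [← Subgroup.map_le_iff_le_comap]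
    exact le_thompsonSubgroup (map_mem_max φ hA)
  · apply sSup_le
    intro B hB
    have h1 : B.map φ.symm.toMonoidHom ≤ Cfsg.thompsonSubgroup p Q :=
      le_thompsonSubgroup (map_mem_max φ.symm hB)
    have h2 := Subgroup.map_mono (f := φ.toMonoidHom) h1
    rw [Subgroup.map_map] at h2
    have h3 : φ.toMonoidHom.comp φ.symm.toMonoidHom = MonoidHom.id R := by
      ext x; simp
    rw [h3, Subgroup.map_id] at h2
    exact h2

theorem isCharPFunctor_JF {p : ℕ} [Fact p.Prime] : Cfsg.IsCharPFunctor.{u} p (JF p) := by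
  constructor
  · intro Q _ _ hQ hnt
    apply (Cfsg.Agent.S0602.result (G := Q) (p := p)).2
    obtain ⟨k, hk⟩ := hQ.exists_card_eq
    rw [hk]
    have hk0 : k ≠ 0 := by
      rintro rfl
      rw [pow_zero] at hk
      have := Finite.one_lt_card (α := Q)
      omega
    exact dvd_pow_self p hk0
  · intro Q R _ _ _ _ φ
    exact thompsonSubgroup_map_equiv φ

theorem isCharPFunctor_ZF {p : ℕ} [Fact p.Prime] : Cfsg.IsCharPFunctor.{u} p ZF := by
  constructor
  · intro Q _ _ hQ hnt
    exact (IsPGroup.bot_lt_center hQ).ne'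
  · intro Q R _ _ _ _ φ
    ext y
    simp only [ZF, Subgroup.mem_map, Subgroup.mem_center_iff]
    constructor
    · rintro ⟨z, hz, rfl⟩ g
      obtain ⟨g', rfl⟩ := φ.surjective g
      show φ g' * φ z = φ z * φ g'
      rw [← map_mul, ← map_mul, hz g']
    · intro hy
      refine ⟨φ.symm y, ?_, by simp⟩
      intro g
      apply φ.injective
      rw [map_mul, map_mul, φ.apply_symm_apply]
      exact hy (φ g)

theorem inducedFunctor_ZF {G : Type u} [Group G] (P : Subgroup G) :
    Cfsg.inducedFunctor ZF P = P ⊓ Subgroup.centralizer (P : Set G) := by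
  ext x
  simp only [Cfsg.inducedFunctor, ZF, Subgroup.mem_map, Subgroup.mem_center_iff, Subgroup.mem_inf,
    Subgroup.mem_centralizer_iff]
  constructor
  · rintro ⟨z, hz, rfl⟩
    refine ⟨z.2, ?_⟩
    intro h hh
    have := hz ⟨h, hh⟩
    exact congrArg Subtype.val this
  · rintro ⟨hx, hc⟩
    refine ⟨⟨x, hx⟩, ?_, rfl⟩
    intro g
    exact Subtype.ext (hc g g.2)

theorem inducedFunctor_JF {p : ℕ} {G : Type u} [Group G] (P : Subgroup G) :
    Cfsg.inducedFunctor (JF p) P = Cfsg.thompsonSubgroupOf p P := rfl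

/-- the terminal configuration is contradictory for odd `p` -/
theorem terminal {p : ℕ} [Fact p.Prime] (hp2 : p ≠ 2) :
    Terminal.{u} p (JF p) ZF (fun _ _ => True) := by
  intro X _ _ _ T hco hcen hq _ hyp
  by_contra hnot
  obtain ⟨hyp1, hyp2⟩ := hyp
  rw [inducedFunctor_ZF] at hyp2
  rw [inducedFunctor_JF] at hyp1
  obtain ⟨V, hVn, hVea, hCV, hquad⟩ := terminal_quadratic hp2 T hco hcen hq hyp2 hnot
  have hRn : (Cfsg.pCore p X).Normal := Cfsg.pCore_normal p X
  set R := Cfsg.pCore p X with hR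
  have hRp : IsPGroup p R := Cfsg.Agent.Lib.Helper76_PSolvable.pCore_isPGroup p
  have hRT : R ≤ (T : Subgroup X) := hRp.le_sylow_of_normal T
  have hVR : V ≤ R := by
    intro v hv
    rw [← hCV, Subgroup.mem_centralizer_iff]
    intro w hw
    exact ea_comm hVea hw hv
  -- `J(T) ≰ R`
  have hJR : ¬ Cfsg.thompsonSubgroupOf p (T : Subgroup X) ≤ R := by
    intro hle
    apply hnot
    set U : Subgroup (T : Subgroup X) := R.subgroupOf (T : Subgroup X) with hU
    have hUJ : Cfsg.thompsonSubgroup p (T : Subgroup X) ≤ U := by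
      intro y hy
      rw [hU, Subgroup.mem_subgroupOf]
      exact hle ⟨y, hy, rfl⟩
    have h1 := Cfsg.Agent.S0603.result (G := (T : Subgroup X)) (p := p) U hUJ
    have h2 := inducedFunctor_map (isCharPFunctor_JF (p := p)) (T : Subgroup X).subtype U
      (T.2.to_subgroup U) (fun x _ hx => by simpa using hx)
    have h3 : U.map (T : Subgroup X).subtype = R := by
      rw [hU, Subgroup.subgroupOf_map_subtype, inf_eq_left.mpr hRT]
    rw [h3, inducedFunctor_JF, inducedFunctor_JF, h1] at h2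
    -- `h2 : thompsonSubgroupOf p R = (thompsonSubgroup p T).map T.subtype`
    have h4 : Cfsg.thompsonSubgroupOf p (T : Subgroup X) = Cfsg.inducedFunctor (JF p) R := by
      rw [inducedFunctor_JF, h2]; rfl
    have h5 := normalizer_le_normalizer_inducedFunctor (isCharPFunctor_JF (p := p)) R hRp
    rw [← h4, Subgroup.normalizer_eq_top_iff.mpr hRn] at h5
    have h6 : Subgroup.normalizer ((Cfsg.thompsonSubgroupOf p (T : Subgroup X) : Subgroup X) : Set X)
        = ⊤ := top_le_iff.mp h5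
    exact hasNPC_top_iff.mp (hasNPC_of_eq h6 hyp1)
  -- an `A ∈ 𝒜(T)` not centralizing `V`
  have hA : ∃ A ∈ Cfsg.maxElementaryAbelianSubgroups p (T : Subgroup X),
      ¬ A.map (T : Subgroup X).subtype ≤ R := by
    by_contra hcon
    push Not at hcon
    apply hJR
    unfold Cfsg.thompsonSubgroupOf Cfsg.thompsonSubgroup
    rw [Subgroup.map_le_iff_le_comap]
    apply sSup_le
    intro A hA
    rw [← Subgroup.map_le_iff_le_comap]
    exact hcon A hA
  obtain ⟨A, hAmax, hAR⟩ := hA
  set V' : Subgroup (T : Subgroup X) := V.subgroupOf (T : Subgroup X) with hV'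
  have hV'n : V'.Normal := Subgroup.normal_subgroupOf
  have hV'ea : Cfsg.IsElementaryAbelian p V' := ea_subgroupOf hVea _
  have hrep := Cfsg.Agent.S0607.result (G := (T : Subgroup X)) (p := p) V' hV'ea A hAmax
  set Astar := ⁅V', A⁆ ⊔ (A ⊓ Subgroup.centralizer ((⁅V', A⁆ : Subgroup (T : Subgroup X)) :
    Set (T : Subgroup X))) with hAstar
  obtain ⟨-, hquadA, hnt⟩ := hrep
  have hVA : ⁅V', A⁆ ≠ ⊥ := by
    intro h
    apply hAR
    rw [Subgroup.commutator_eq_bot_iff_le_centralizer] at h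
    rintro _ ⟨a, ha, rfl⟩
    rw [← hCV, Subgroup.mem_centralizer_iff]
    intro v hv
    have hvT : v ∈ (T : Subgroup X) := hRT (hVR hv)
    have h1 : (⟨v, hvT⟩ : (T : Subgroup X)) ∈ V' := by
      rw [hV', Subgroup.mem_subgroupOf]; exact hv
    have h2 := Subgroup.mem_centralizer_iff.mp (h h1) a ha
    have h3 := congrArg Subtype.val h2
    simpa using h3.symm
  have hVAstar := hnt hVA
  rw [Ne, Subgroup.commutator_eq_bot_iff_le_centralizer] at hVAstar
  obtain ⟨v, hvV', hvc⟩ := SetLike.not_le_iff_exists.mp hVAstar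
  rw [Subgroup.mem_centralizer_iff] at hvc
  push Not at hvc
  obtain ⟨a, haA, hav⟩ := hvc
  -- `a` acts quadratically
  have hquad_a : ∀ w ∈ V, (a : X) * ((a : X) * w * (a : X)⁻¹ * w⁻¹) =
      ((a : X) * w * (a : X)⁻¹ * w⁻¹) * (a : X) := by
    intro w hw
    have hwT : w ∈ (T : Subgroup X) := hRT (hVR hw)
    set w' : (T : Subgroup X) := ⟨w, hwT⟩ with hw'
    have hw'V : w' ∈ V' := by
      rw [hV', Subgroup.mem_subgroupOf]; exact hw
    have h1 : ⁅⁅w', a⁆, a⁆ ∈ ⁅⁅V', Astar⁆, Astar⁆ :=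
      Subgroup.commutator_mem_commutator (Subgroup.commutator_mem_commutator hw'V haA) haA
    rw [hquadA, Subgroup.mem_bot] at h1
    have h2 := congrArg Subtype.val h1
    simp only [commutatorElement_def, Subgroup.coe_mul, Subgroup.coe_inv, Subgroup.coe_one,
      hw'] at h2
    -- `h2 : (w a w⁻¹ a⁻¹) a (w a w⁻¹ a⁻¹)⁻¹ a⁻¹ = 1`
    have h3 : (w * (a : X) * w⁻¹ * (a : X)⁻¹) * (a : X) = (a : X) * (w * (a : X) * w⁻¹ * (a : X)⁻¹) := by
      have : (w * (a : X) * w⁻¹ * (a : X)⁻¹) * (a : X) =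
          ((w * (a : X) * w⁻¹ * (a : X)⁻¹) * (a : X) * (w * (a : X) * w⁻¹ * (a : X)⁻¹)⁻¹ *
            (a : X)⁻¹) * ((a : X) * (w * (a : X) * w⁻¹ * (a : X)⁻¹)) := by group
      rw [this, h2, one_mul]
    -- invert
    have h4 : (a : X) * w * (a : X)⁻¹ * w⁻¹ = (w * (a : X) * w⁻¹ * (a : X)⁻¹)⁻¹ := by group
    rw [h4]
    have h5 : Commute (a : X) (w * (a : X) * w⁻¹ * (a : X)⁻¹) := h3.symm
    exact h5.inv_right
  have haR : (a : X) ∈ R := hquad (a : X) a.2 hquad_a
  rw [← hCV, Subgroup.mem_centralizer_iff] at haR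
  apply hav
  have hvV : (v : X) ∈ V := by
    rw [hV', Subgroup.mem_subgroupOf] at hvV'; exact hvV'
  have := haR (v : X) hvV
  exact Subtype.ext (by simpa using this.symm)

/-- The Thompson normal p-complement Theorem, in the form stating that for odd p, G has a normal p-complement exactly when the normalizer of the Thompson subgroup J(P) and the centralizer of the centre of P both have one. -/
theorem result {G : Type*} [Group G] [Finite G] {p : ℕ} [Fact p.Prime] (hp : p ≠ 2) (P : Sylow p G) : Cfsg.HasNormalPComplement p G ↔ (Cfsg.HasNormalPComplement p (Subgroup.normalizer (Cfsg.thompsonSubgroupOf p (P : Subgroup G) : Set G)) ∧ Cfsg.HasNormalPComplement p (Subgroup.centralizer (((P : Subgroup G) ⊓ Subgroup.centralizer (P : Set G)) : Set G))) := by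
  rw [Cfsg.Agent.S0072.hasNPC_iff, Cfsg.Agent.S0072.hasNPC_iff, Cfsg.Agent.S0072.hasNPC_iff]
  constructor
  · intro h
    exact ⟨hasNPC_subgroup h _, hasNPC_subgroup h _⟩
  · rintro ⟨h1, h2⟩
    refine main isCharPFunctor_JF isCharPFunctor_ZF (fun _ _ => True) (fun _ _ _ _ => trivial)
      (fun _ _ _ _ _ => trivial) (terminal hp) _ G rfl trivial P ⟨?_, ?_⟩
    · rw [inducedFunctor_JF]; exact h1
    · rw [inducedFunctor_ZF]; exact h2

end Cfsg.Agent.S0108
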