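import Cfsg.Statements.S3360
import Cfsg.Agent.Lib.Helper12_Hup6
import Cfsg.Agent.Lib.Helper31_HupPlane
import Cfsg.Agent.Lib.Helper51_HupTwoSix

set_option autoImplicit false
open Cfsg

namespace Cfsg.Agent.S3360

/-- Let q be a prime and V a non-trivial finite vector space over the field with q elements, and let G be a finite solvable group acting faithfully and linearly on V and transitively on the non-zero vectors. Then either V can be identified with the additive group of a finite field F in such a way that every element of G acts as x ↦ a·σ(x) for some a ∈ F and some field automorphism σ, or the number of elements of V is one of 3^2, 5^2, 7^2, 11^2, 23^2, 3^4. -/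
theorem result
    (q : ℕ) [Fact q.Prime] {V : Type*} [AddCommGroup V] [Module (ZMod q) V] [Finite V] [Nontrivial V]
    {G : Type*} [Group G] [Finite G] (hsol : Group.IsSolvable G)
    (ρ : G →* (V ≃ₗ[ZMod q] V)) (hρ : Function.Injective ρ)
    (htrans : ∀ v w : V, v ≠ 0 → w ≠ 0 → ∃ g : G, ρ g v = w) :
    (∃ (F : Type) (_ : Field F) (_ : Fintype F) (e : V ≃+ F),
        ∀ g : G, ∃ (a : F) (σ : F ≃+* F), ∀ v : V, e (ρ g v) = a * σ (e v)) ∨
    Nat.card V ∈ ({9, 25, 49, 121, 529, 81} : Set ℕ) := by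
  classical
  have hq : q.Prime := Fact.out
  have hfinL := Cfsg.Agent.Lib.Helper12_ExcNF.finite_linearEquiv (p := q) (V := V)
  let θ : G ≃* ρ.range := MonoidHom.ofInjective hρ
  have hθ : ∀ (g : G) (v : V), ((θ g : ρ.range) : V ≃ₗ[ZMod q] V) v = ρ g v := fun g v => rfl
  have hsolH : Group.IsSolvable ρ.range :=
    Group.isSolvable_of_surjective (f := θ.toMonoidHom) θ.surjective
  have htr : Cfsg.Agent.Lib.Helper12_Hup1.Trans ρ.range := by
    intro v w hv hw
    obtain ⟨g, hg⟩ := htrans v w hv hw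
    exact ⟨θ g, hg⟩
  rcases Cfsg.Agent.Lib.Helper12_Hup6.huppert_core ρ.range hsolH htr
      (fun hp2 hdim => Cfsg.Agent.Lib.Helper31_HupPlane.plane_case ρ.range hp2 hdim hsolH htr)
      (fun hp2 hdim => Cfsg.Agent.Lib.Helper51_HupTwoSix.case_two_six ρ.range hp2 hdim hsolH htr)
    with ⟨A, hAn, hAc, hirr⟩ | h
  · left
    obtain ⟨K, hK1, hK2, hK3, e, hsl⟩ :=
      Cfsg.Agent.Lib.Helper12_SolvReg.semilinear_of_irreducible ρ.range A hAn hAc hirr
    have hsl' : ∀ g : G, ∃ (b : K) (σ : K ≃+* K), ∀ v : V, e (ρ g v) = b * σ (e v) :=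
      fun g => hsl (θ g)
    obtain ⟨F, hF1, hF2, e', hsl''⟩ :=
      Cfsg.Agent.Lib.Helper12_SolvReg.to_type0 (fun (g : G) (v : V) => ρ g v) e hsl'
    exact ⟨F, hF1, hF2, e', hsl''⟩
  · right
    exact h

end Cfsg.Agent.S3360
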