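import Cfsg.Statements.S0660
-- import your own Cfsg.Agent.* helpers here

set_option autoImplicit false
open Cfsg

namespace Cfsg.Agent.S0660

section abstract

variable {M : Type*} [CommGroup M] {A : Type*} [Group A] [MulDistribMulAction A M]

/-- existence of the projection onto `U` along `W` -/
theorem exists_proj (U W : Subgroup M) (hUW : U ⊓ W = ⊥) (hsup : U ⊔ W = ⊤) :
    ∃ pr : M →* M, (∀ m, pr m ∈ U) ∧ (∀ u ∈ U, pr u = u) := by
  have hdec : ∀ m : M, ∃ u ∈ U, ∃ w ∈ W, u * w = m := by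
    intro m
    have : m ∈ U ⊔ W := by rw [hsup]; exact Subgroup.mem_top m
    exact Subgroup.mem_sup.mp this
  have huniq : ∀ u ∈ U, ∀ w ∈ W, ∀ u' ∈ U, ∀ w' ∈ W, u * w = u' * w' → u = u' := by
    intro u hu w hw u' hu' w' hw' h
    have h1 : u'⁻¹ * u = w' * w⁻¹ := by
      rw [inv_mul_eq_iff_eq_mul, ← mul_assoc, ← h, mul_assoc, mul_inv_cancel, mul_one]
    have h2 : u'⁻¹ * u ∈ U ⊓ W :=
      ⟨U.mul_mem (U.inv_mem hu') hu, by rw [h1]; exact W.mul_mem hw' (W.inv_mem hw)⟩
    rw [hUW, Subgroup.mem_bot] at h2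
    exact (inv_mul_eq_one.mp h2).symm
  choose f hfU g hgW hfg using hdec
  have hfmul : ∀ m m', f (m * m') = f m * f m' := by
    intro m m'
    apply huniq (f (m * m')) (hfU _) (g (m * m')) (hgW _) (f m * f m') (U.mul_mem (hfU _) (hfU _))
      (g m * g m') (W.mul_mem (hgW _) (hgW _))
    rw [hfg, mul_mul_mul_comm, hfg, hfg]
  refine ⟨MonoidHom.mk' f hfmul, fun m => hfU m, fun u hu => ?_⟩
  show f u = u
  exact huniq (f u) (hfU u) (g u) (hgW u) u hu 1 W.one_mem (by rw [hfg, mul_one])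

/-- Maschke's theorem for a coprime action on a finite abelian group: an invariant
subgroup with a complement has an invariant complement. -/
theorem maschke_abstract [Finite M] [Finite A] (hcop' : (Nat.card A).Coprime (Nat.card M))
    (U W : Subgroup M) (hU : ∀ (a : A), ∀ u ∈ U, a • u ∈ U)
    (hUW : U ⊓ W = ⊥) (hsup : U ⊔ W = ⊤) :
    ∃ W' : Subgroup M, (∀ (a : A), ∀ w ∈ W', a • w ∈ W') ∧ U ⊓ W' = ⊥ ∧ U ⊔ W' = ⊤ := by
  classical
  letI : Fintype A := Fintype.ofFinite A
  have hcop : (Fintype.card A).Coprime (Nat.card M) := by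
    rwa [Nat.card_eq_fintype_card] at hcop'
  obtain ⟨pr, hprU, hprid⟩ := exists_proj U W hUW hsup
  let φ : M →* M := ∏ a : A, (MulDistribMulAction.toMonoidHom M a⁻¹).comp
    (pr.comp (MulDistribMulAction.toMonoidHom M a))
  have hφ : ∀ m, φ m = ∏ a : A, a⁻¹ • pr (a • m) := by
    intro m
    simp only [φ, MonoidHom.finsetProd_apply]
    rfl
  have hφU : ∀ m, φ m ∈ U := by
    intro m
    rw [hφ]
    exact Subgroup.prod_mem _ (fun a _ => hU a⁻¹ _ (hprU _))
  have hφu : ∀ u ∈ U, φ u = u ^ Fintype.card A := by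
    intro u hu
    rw [hφ]
    have : ∀ a : A, a⁻¹ • pr (a • u) = u := by
      intro a
      rw [hprid _ (hU a u hu), inv_smul_smul]
    simp only [this, Finset.prod_const, Finset.card_univ]
  have hφeq : ∀ (b : A) m, φ (b • m) = b • φ m := by
    intro b m
    rw [hφ, hφ, Finset.smul_prod']
    refine Fintype.prod_equiv (Equiv.mulRight b) _ _ ?_
    intro a
    simp only [Equiv.coe_mulRight, mul_inv_rev, mul_smul]
    rw [smul_inv_smul]
  refine ⟨φ.ker, ?_, ?_, ?_⟩
  · intro a w hw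
    rw [MonoidHom.mem_ker] at hw ⊢
    rw [hφeq, hw, smul_one]
  · rw [eq_bot_iff]
    rintro u ⟨hu, hker⟩
    have hu : u ∈ U := hu
    have hker : u ∈ φ.ker := hker
    rw [MonoidHom.mem_ker, hφu u hu] at hker
    have h1 : orderOf u ∣ Fintype.card A := orderOf_dvd_of_pow_eq_one hker
    have h2 : orderOf u ∣ Nat.card M := orderOf_dvd_natCard u
    have h3 : orderOf u ∣ Nat.gcd (Fintype.card A) (Nat.card M) := Nat.dvd_gcd h1 h2
    rw [hcop.gcd_eq_one, Nat.dvd_one, orderOf_eq_one_iff] at h3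
    rw [Subgroup.mem_bot]; exact h3
  · rw [eq_top_iff]
    intro m _
    have hcopU : (Nat.card U).Coprime (Fintype.card A) :=
      (Nat.Coprime.coprime_dvd_right (Subgroup.card_subgroup_dvd_card U) hcop).symm
    obtain ⟨u, hu⟩ := (Nat.Coprime.pow_left_bijective (G := U) hcopU).2 ⟨φ m, hφU m⟩
    have hu' : (u : M) ^ Fintype.card A = φ m := by
      have := congrArg Subtype.val hu
      simpa using this
    have hmem : (u : M)⁻¹ * m ∈ φ.ker := by
      rw [MonoidHom.mem_ker, map_mul, map_inv, hφu _ u.2, hu', inv_mul_cancel]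
    have : m = (u : M) * ((u : M)⁻¹ * m) := by rw [mul_inv_cancel_left]
    rw [this]
    exact Subgroup.mul_mem_sup u.2 hmem

end abstract

section concrete

open scoped IsMulCommutative

variable {G : Type*} [Group G]

/-- the conjugation action of a subgroup `A` normalizing `V` on `V` -/
@[reducible] def conjAct (V A : Subgroup G) (hAV : A ≤ Subgroup.normalizer (V : Set G)) :
    MulDistribMulAction ↥A ↥V where
  smul a v := ⟨(a : G) * v * (a : G)⁻¹, (Subgroup.mem_normalizer_iff.mp (hAV a.2) v).mp v.2⟩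
  one_smul v := by
    apply Subtype.ext
    show ((1 : A) : G) * v * ((1 : A) : G)⁻¹ = v
    simp
  mul_smul a b v := by
    apply Subtype.ext
    show ((a * b : A) : G) * v * ((a * b : A) : G)⁻¹ = (a : G) * ((b : G) * v * (b : G)⁻¹) * (a : G)⁻¹
    simp [mul_assoc]
  smul_mul a v w := by
    apply Subtype.ext
    show (a : G) * ((v * w : V) : G) * (a : G)⁻¹ = ((a : G) * v * (a : G)⁻¹) * ((a : G) * w * (a : G)⁻¹)
    simp [mul_assoc]
  smul_one a := by
    apply Subtype.ext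
    show (a : G) * ((1 : V) : G) * (a : G)⁻¹ = ((1 : V) : G)
    simp

end concrete

open scoped IsMulCommutative in
/-- Under a coprime action on an abelian group, an invariant subgroup that is complemented admits an invariant complement. -/
theorem result {G : Type*} [Group G] [Finite G] (V A U : Subgroup G) (hVab : IsMulCommutative V) (hAV : A ≤ Subgroup.normalizer (V : Set G)) (hcop : (Nat.card A).Coprime (Nat.card V)) (hUV : U ≤ V) (hAU : A ≤ Subgroup.normalizer (U : Set G)) (W : Subgroup G) (hWV : W ≤ V) (hUW : U ⊓ W = ⊥) (hUWV : U ⊔ W = V) : ∃ W' : Subgroup G, W' ≤ V ∧ A ≤ Subgroup.normalizer (W' : Set G) ∧ U ⊓ W' = ⊥ ∧ U ⊔ W' = V := by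
  letI act : MulDistribMulAction ↥A ↥V := conjAct V A hAV
  have hsmul : ∀ (a : A) (v : V), ((a • v : V) : G) = (a : G) * v * (a : G)⁻¹ := fun _ _ => rfl
  have h1 : ∀ (a : A), ∀ u ∈ U.subgroupOf V, a • u ∈ U.subgroupOf V := by
    intro a u hu
    rw [Subgroup.mem_subgroupOf] at hu ⊢
    rw [hsmul]
    exact (Subgroup.mem_normalizer_iff.mp (hAU a.2) _).mp hu
  have h2 : U.subgroupOf V ⊓ W.subgroupOf V = ⊥ := by
    rw [eq_bot_iff]
    rintro x ⟨hx1, hx2⟩
    have hx1 : (x : G) ∈ U := hx1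
    have hx2 : (x : G) ∈ W := hx2
    have : (x : G) ∈ U ⊓ W := ⟨hx1, hx2⟩
    rw [hUW, Subgroup.mem_bot] at this
    rw [Subgroup.mem_bot]
    exact Subtype.ext this
  have h3 : U.subgroupOf V ⊔ W.subgroupOf V = ⊤ := by
    rw [← Subgroup.subgroupOf_sup hUV hWV, hUWV, Subgroup.subgroupOf_self]
  obtain ⟨W', hW'1, hW'2, hW'3⟩ := maschke_abstract (A := ↥A) (M := ↥V) hcop
    (U.subgroupOf V) (W.subgroupOf V) h1 h2 h3
  refine ⟨W'.map V.subtype, Subgroup.map_subtype_le W', ?_, ?_, ?_⟩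
  · intro a ha
    apply Subgroup.mem_normalizer_fintype
    rintro n ⟨v, hv, rfl⟩
    exact ⟨(⟨a, ha⟩ : A) • v, hW'1 _ v hv, rfl⟩
  · rw [eq_bot_iff]
    rintro x ⟨hx1, ⟨v, hv, rfl⟩⟩
    have : v ∈ U.subgroupOf V ⊓ W' := ⟨hx1, hv⟩
    rw [hW'2, Subgroup.mem_bot] at this
    rw [Subgroup.mem_bot, this]
    rfl
  · conv_lhs => rw [← Subgroup.map_subgroupOf_eq_of_le hUV]
    rw [← Subgroup.map_sup, hW'3, ← MonoidHom.range_eq_map, Subgroup.range_subtype]

end Cfsg.Agent.S0660
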