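import Mathlib
import Cfsg.Statements.S4209
import Cfsg.Agent.Lib.Helper64_PolySeq

set_option autoImplicit false
open Cfsg

namespace Cfsg.Agent.S4209

open Cfsg.Agent.Lib.Helper64_PolySeq

theorem lcs_mono {G : Type*} [Group G] {H K : Subgroup G} (h : H ≤ K) (n : ℕ) :
    H.lowerCentralSeries n ≤ K.lowerCentralSeries n := by
  induction n with
  | zero => exact h
  | succ n ih => exact Subgroup.commutator_mono ih h

/-- A subgroup of a group of class `≤ c` has class `≤ c`, in the form used below. -/
theorem lcs_top_subgroup_eq_bot {G : Type*} [Group G] (H : Subgroup G) {c : ℕ}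
    (hc : (⊤ : Subgroup G).lowerCentralSeries c = ⊥) :
    (⊤ : Subgroup H).lowerCentralSeries c = ⊥ := by
  have h1 := Subgroup.top_subtype_lowerCentralSeries H c
  have h2 : H.lowerCentralSeries c ≤ ⊥ := hc ▸ lcs_mono (le_top : H ≤ ⊤) c
  rw [← h1, le_bot_iff] at h2
  exact (Subgroup.map_eq_bot_iff_of_injective _ H.subtype_injective).mp h2

/-- A finite `p`-group of nilpotency class less than `p` (the term of index `p - 1` of the lower central series of the whole group, indexed from `0`, is trivial) is a regular `p`-group. -/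
theorem result {G : Type*} [Group G] [Finite G] {p : ℕ} [Fact p.Prime] (hG : IsPGroup p G) (hcl : (⊤ : Subgroup G).lowerCentralSeries (p - 1) = ⊥) : Cfsg.IsRegularPGroup p G := by
  have hp : p.Prime := Fact.out
  refine ⟨hG, fun a b n => ?_⟩
  set H : Subgroup G := Subgroup.closure ({a, b} : Set G) with hH
  have ha : a ∈ H := Subgroup.subset_closure (by simp)
  have hb : b ∈ H := Subgroup.subset_closure (by simp)
  have hcl' := lcs_top_subgroup_eq_bot H hcl
  have key := pow_mul_mem (G := H) hp (Nat.sub_lt hp.pos one_pos) hcl' n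
    ((powerClosure p n ⁅H, H⁆).comap H.subtype) ?_ ⟨a, ha⟩ ⟨b, hb⟩
  · rw [Subgroup.mem_comap] at key
    simp only [Subgroup.coe_subtype, Subgroup.coe_mul, Subgroup.coe_inv, Subgroup.coe_pow] at key
    refine ⟨(((a * b) ^ (p ^ n))⁻¹ * a ^ (p ^ n) * b ^ (p ^ n))⁻¹, inv_mem key, ?_⟩
    group
  · intro h hh
    rw [Subgroup.mem_comap]
    simp only [Subgroup.coe_subtype, Subgroup.coe_pow]
    apply Subgroup.subset_closure
    refine ⟨(h : G), ?_, rfl⟩
    rw [← Subgroup.map_subtype_commutator]
    exact ⟨h, hh, rfl⟩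

end Cfsg.Agent.S4209
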