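import Cfsg.Statements.S3889

set_option autoImplicit false
open Cfsg

namespace Cfsg.Agent.S3889

theorem key {G : Type*} [CommGroup G] [Finite G] (𝓑 : Set (Subgroup G))
    (hcov : ∀ g : G, ∃ B ∈ 𝓑, g ∈ B) (hdisj : ∀ B ∈ 𝓑, ∀ C ∈ 𝓑, B ≠ C → B ⊓ C = ⊥)
    (A B : Subgroup G) (hA : A ∈ 𝓑) (hB : B ∈ 𝓑) (hAB : A ≠ B) (a b : G) (ha : a ∈ A) (hb : b ∈ B)
    (ha1 : a ≠ 1) : orderOf b ∣ orderOf a := by
  apply orderOf_dvd_of_pow_eq_one
  by_contra hbn
  obtain ⟨D, hD, habD⟩ := hcov (a * b)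
  have h1 : (a * b) ^ orderOf a = b ^ orderOf a := by
    rw [mul_pow, pow_orderOf_eq_one, one_mul]
  have h2 : b ^ orderOf a ∈ D := by
    rw [← h1]; exact D.pow_mem habD _
  have h3 : b ^ orderOf a ∈ B := B.pow_mem hb _
  have hDB : D = B := by
    by_contra hne
    have := hdisj D hD B hB hne
    have h4 : b ^ orderOf a ∈ D ⊓ B := ⟨h2, h3⟩
    rw [this, Subgroup.mem_bot] at h4
    exact hbn h4
  rw [hDB] at habD
  have haB : a ∈ B := by
    have := B.mul_mem habD (B.inv_mem hb)
    simpa using this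
  have h5 : a ∈ A ⊓ B := ⟨ha, haB⟩
  rw [hdisj A hA B hB hAB, Subgroup.mem_bot] at h5
  exact ha1 h5

/-- A finite abelian group that is the union of a family of proper subgroups any two of which intersect trivially is elementary abelian: its exponent is a prime. -/
theorem result {G : Type*} [CommGroup G] [Finite G] (𝓑 : Set (Subgroup G)) (hprop : ∀ B ∈ 𝓑, B ≠ ⊤)
    (hcov : ∀ g : G, ∃ B ∈ 𝓑, g ∈ B) (hdisj : ∀ B ∈ 𝓑, ∀ C ∈ 𝓑, B ≠ C → B ⊓ C = ⊥) :
    (Monoid.exponent G).Prime := by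
  -- different components: equal orders
  have hdiff : ∀ A ∈ 𝓑, ∀ B ∈ 𝓑, A ≠ B → ∀ a ∈ A, ∀ b ∈ B, a ≠ 1 → b ≠ 1 → orderOf a = orderOf b := by
    intro A hA B hB hAB a ha b hb ha1 hb1
    exact Nat.dvd_antisymm (key 𝓑 hcov hdisj B A hB hA (Ne.symm hAB) b a hb ha hb1)
      (key 𝓑 hcov hdisj A B hA hB hAB a b ha hb ha1)
  have hall : ∀ a b : G, a ≠ 1 → b ≠ 1 → orderOf a = orderOf b := by
    intro a b ha1 hb1
    obtain ⟨A, hA, ha⟩ := hcov a
    obtain ⟨B, hB, hb⟩ := hcov b
    by_cases hAB : A = B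
    · subst hAB
      have hAtop := hprop A hA
      obtain ⟨c, hc⟩ : ∃ c : G, c ∉ A := by
        by_contra hcon
        push Not at hcon
        exact hAtop (by rw [eq_top_iff]; intro x _; exact hcon x)
      obtain ⟨C, hC, hcC⟩ := hcov c
      have hCA : A ≠ C := by
        intro h; rw [h] at hc; exact hc hcC
      have hc1 : c ≠ 1 := by
        intro h; rw [h] at hc; exact hc A.one_mem
      rw [hdiff A hA C hC hCA a ha c hcC ha1 hc1, hdiff A hA C hC hCA b hb c hcC hb1 hc1]
    · exact hdiff A hA B hB hAB a ha b hb ha1 hb1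
  -- G is nontrivial
  obtain ⟨g, hg1⟩ : ∃ g : G, g ≠ 1 := by
    by_contra hcon
    push Not at hcon
    obtain ⟨B, hB, _⟩ := hcov 1
    apply hprop B hB
    rw [eq_top_iff]
    intro x _
    rw [hcon x]; exact B.one_mem
  set m := orderOf g with hm
  have hmpos : 0 < m := orderOf_pos g
  have hm1 : m ≠ 1 := by
    intro h; rw [hm, orderOf_eq_one_iff] at h; exact hg1 h
  -- m is prime
  have hmprime : m.Prime := by
    set p := m.minFac with hp
    have hpp : p.Prime := Nat.minFac_prime hm1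
    have hpm : p ∣ m := Nat.minFac_dvd m
    have hord : orderOf (g ^ (m / p)) = p := by
      rw [orderOf_pow_of_dvd (by
        intro h
        have := Nat.div_mul_cancel hpm
        rw [h, zero_mul] at this
        omega) (Nat.div_dvd_of_dvd hpm)]
      rw [← hm]
      exact Nat.div_div_self hpm hmpos.ne'
    have hne1 : g ^ (m / p) ≠ 1 := by
      intro h
      rw [h, orderOf_one] at hord
      exact hpp.one_lt.ne hord
    have := hall (g ^ (m / p)) g hne1 hg1
    rw [hord] at this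
    rw [← hm] at this
    rw [← this]; exact hpp
  -- exponent = m
  have hexp : Monoid.exponent G = m := by
    apply Nat.dvd_antisymm
    · apply Monoid.exponent_dvd_of_forall_pow_eq_one
      intro x
      by_cases hx : x = 1
      · rw [hx, one_pow]
      · rw [hm, ← hall x g hx hg1, pow_orderOf_eq_one]
    · exact Monoid.order_dvd_exponent g
  rw [hexp]; exact hmprime

end Cfsg.Agent.S3889
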