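import Cfsg.Statements.S0030
import Cfsg.Agent.Lib.Helper24_CoprimeAction

set_option autoImplicit false
open Cfsg
open Cfsg.Agent.Lib.Helper24_CoprimeAction

namespace Cfsg.Agent.S0030

/-- Under coprime action fixed points of a product of two invariant subgroups factor: if K = X Y with X and Y normalised by A then every A-fixed element of K is a product of an A-fixed element of X and an A-fixed element of Y. -/
theorem result {G : Type*} [Group G] [Finite G] (A K : Subgroup G) (hAK : A ≤ Subgroup.normalizer (K : Set G))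
    (hcop : (Nat.card A).Coprime (Nat.card K)) (hsolv : Group.IsSolvable A ∨ Group.IsSolvable K)
    (X Y : Subgroup G) (hX : X ≤ K) (hY : Y ≤ K) (hXA : A ≤ Subgroup.normalizer (X : Set G)) (hYA : A ≤ Subgroup.normalizer (Y : Set G))
    (hXY : ∀ k ∈ K, ∃ x ∈ X, ∃ y ∈ Y, k = x * y) (k : G) (hk : k ∈ K ⊓ Subgroup.centralizer (A : Set G)) :
    ∃ x ∈ X ⊓ Subgroup.centralizer (A : Set G), ∃ y ∈ Y ⊓ Subgroup.centralizer (A : Set G), k = x * y := by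
  obtain ⟨x₀, hx₀, y₀, hy₀, rfl⟩ := hXY k hk.1
  have hDK : X ⊓ Y ≤ K := inf_le_left.trans hX
  have hAD : A ≤ Subgroup.normalizer ((X ⊓ Y : Subgroup G) : Set G) :=
    (le_inf hXA hYA).trans Subgroup.inf_normalizer_le_normalizer_inf
  have hcopD : (Nat.card A).Coprime (Nat.card (X ⊓ Y : Subgroup G)) :=
    Nat.Coprime.coprime_dvd_right (Subgroup.card_dvd_of_le hDK) hcop
  have hsolv' : Group.IsSolvable A ∨ Group.IsSolvable (X ⊓ Y : Subgroup G) :=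
    hsolv.imp id (isSolvable_of_le hDK)
  have hfix : ∀ a ∈ A, x₀⁻¹ * (a * x₀ * a⁻¹) ∈ X ⊓ Y := by
    intro a ha
    have hax : a * x₀ * a⁻¹ ∈ X := (Subgroup.mem_normalizer_iff.mp (hXA ha) x₀).mp hx₀
    have hay : a * y₀ * a⁻¹ ∈ Y := (Subgroup.mem_normalizer_iff.mp (hYA ha) y₀).mp hy₀
    have hak : a * (x₀ * y₀) = (x₀ * y₀) * a := Subgroup.mem_centralizer_iff.mp hk.2 a ha
    refine ⟨X.mul_mem (X.inv_mem hx₀) hax, ?_⟩
    have e : x₀⁻¹ * (a * x₀ * a⁻¹) = y₀ * (a * y₀ * a⁻¹)⁻¹ := by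
      have h1 : a * x₀ * a⁻¹ * (a * y₀ * a⁻¹) = x₀ * y₀ := by
        calc a * x₀ * a⁻¹ * (a * y₀ * a⁻¹) = (a * (x₀ * y₀)) * a⁻¹ := by group
          _ = (x₀ * y₀) * a * a⁻¹ := by rw [hak]
          _ = x₀ * y₀ := by group
      calc x₀⁻¹ * (a * x₀ * a⁻¹) = x₀⁻¹ * (a * x₀ * a⁻¹ * (a * y₀ * a⁻¹)) * (a * y₀ * a⁻¹)⁻¹ := by group
        _ = x₀⁻¹ * (x₀ * y₀) * (a * y₀ * a⁻¹)⁻¹ := by rw [h1]
        _ = y₀ * (a * y₀ * a⁻¹)⁻¹ := by group
    rw [e]; exact Y.mul_mem hy₀ (Y.inv_mem hay)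
  obtain ⟨d, hd, hc⟩ := exists_fixed_in_coset A (X ⊓ Y) hAD hcopD hsolv' x₀ hfix
  refine ⟨x₀ * d, ⟨X.mul_mem hx₀ hd.1, Subgroup.mem_centralizer_iff.mpr hc⟩, d⁻¹ * y₀,
    ⟨Y.mul_mem (Y.inv_mem hd.2) hy₀, ?_⟩, by group⟩
  have hcen : x₀ * d ∈ Subgroup.centralizer (A : Set G) := Subgroup.mem_centralizer_iff.mpr hc
  have e : d⁻¹ * y₀ = (x₀ * d)⁻¹ * (x₀ * y₀) := by group
  rw [e]
  exact Subgroup.mul_mem _ (Subgroup.inv_mem _ hcen) hk.2

end Cfsg.Agent.S0030
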