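import Cfsg.Statements.S1324
import Cfsg.Agent.Lib.Helper24_CoprimeAction
import Cfsg.Agent.Lib.Helper48_Generation
import Mathlib.RingTheory.PrincipalIdealDomain
import Mathlib.Data.Nat.Prime.Int
import Mathlib.Algebra.EuclideanDomain.Int

set_option autoImplicit false
open Cfsg
open Cfsg.Agent.Lib.Helper24_CoprimeAction

namespace Cfsg.Agent.S1324

variable {H : Type*} [Group H]

/-- If `x ^ p = 1` (`p` prime) and a subgroup contains a nontrivial power of `x`, it contains `x`. -/
theorem mem_of_zpow_mem {p : ℕ} (hp : p.Prime) {x : H} (hx : x ^ p = 1) (S : Subgroup H) (k : ℤ)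
    (hk : x ^ k ∈ S) (hne : x ^ k ≠ 1) : x ∈ S := by
  have hnd : ¬ (p : ℤ) ∣ k := by
    rintro ⟨m, rfl⟩
    apply hne
    rw [zpow_mul, zpow_natCast, hx, one_zpow]
  obtain ⟨u, v, huv⟩ := ((Nat.prime_iff_prime_int.mp hp).coprime_iff_not_dvd.mpr hnd)
  have : x = (x ^ k) ^ v := by
    have h1 : x ^ (u * (p : ℤ) + v * k) = x := by rw [huv, zpow_one]
    rw [zpow_add, mul_comm u, zpow_mul, zpow_natCast, hx, one_zpow, one_mul, mul_comm v,
      zpow_mul] at h1
    exact h1.symm
  rw [this]
  exact S.zpow_mem hk v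

/-- Cardinality of `K ⊔ A` when `A` normalizes `K` and `K ∩ A = 1`. -/
theorem card_sup_of_disjoint [Finite H] (A K : Subgroup H)
    (hAK : A ≤ Subgroup.normalizer (K : Set H)) (hdisj : K ⊓ A = ⊥) :
    Nat.card ↥(K ⊔ A) = Nat.card K * Nat.card A := by
  obtain ⟨_, hc⟩ := isComplement'_subgroupOf_sup A K hAK hdisj
  rw [← hc.card_mul_card, card_subgroupOf_of_le le_sup_left, card_subgroupOf_of_le le_sup_right]

theorem relIndex_mul_card_of_le [Finite H] {B A : Subgroup H} (h : B ≤ A) :
    B.relIndex A * Nat.card B = Nat.card A := by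
  rw [Subgroup.relIndex, ← card_subgroupOf_of_le h, Subgroup.index_mul_card]

/-- A complement to `⟨e⟩` in an elementary abelian group. -/
theorem exists_compl_zpowers [Finite H] {p : ℕ} (hp : p.Prime) (A : Subgroup H)
    (hcomm : ∀ x ∈ A, ∀ y ∈ A, x * y = y * x) (hexp : ∀ x ∈ A, x ^ p = 1)
    (e : H) (he : e ∈ A) (he1 : e ≠ 1) :
    ∃ A₁ : Subgroup H, A₁ ≤ A ∧ A₁ ⊓ Subgroup.zpowers e = ⊥ ∧ A₁ ⊔ Subgroup.zpowers e = A := by
  classical
  have hfin : {S : Subgroup H | S ≤ A ∧ e ∉ S}.Finite := Set.toFinite _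
  obtain ⟨A₁, -, hmax⟩ := hfin.exists_le_maximal (a := (⊥ : Subgroup H))
    ⟨bot_le, fun h => he1 (Subgroup.mem_bot.mp h)⟩
  obtain ⟨⟨hA₁A, heA₁⟩, hA₁max⟩ := hmax
  have hZA : Subgroup.zpowers e ≤ A := (Subgroup.zpowers_le).mpr he
  refine ⟨A₁, hA₁A, ?_, ?_⟩
  · rw [eq_bot_iff]
    rintro x ⟨hx1, hx2⟩
    rw [Subgroup.mem_bot]
    by_contra hxne
    obtain ⟨k, rfl⟩ := Subgroup.mem_zpowers_iff.mp hx2
    exact heA₁ (mem_of_zpow_mem hp (hexp e he) A₁ k hx1 hxne)
  · apply le_antisymm (sup_le hA₁A hZA)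
    intro x hx
    by_contra hxn
    have hxA₁ : x ∉ A₁ := fun h => hxn (Subgroup.mem_sup_left h)
    -- `A₁ ⊔ ⟨x⟩` contains `e` by maximality
    have hle : A₁ ≤ A₁ ⊔ Subgroup.zpowers x := le_sup_left
    have hxz : Subgroup.zpowers x ≤ A := (Subgroup.zpowers_le).mpr hx
    have he2 : e ∈ A₁ ⊔ Subgroup.zpowers x := by
      by_contra hne
      have := hA₁max (y := A₁ ⊔ Subgroup.zpowers x) ⟨sup_le hA₁A hxz, hne⟩ hle
      exact hxA₁ (this (Subgroup.mem_sup_right (Subgroup.mem_zpowers x)))
    have hnorm : Subgroup.zpowers x ≤ Subgroup.normalizer (A₁ : Set H) := by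
      intro y hy
      rw [Subgroup.mem_normalizer_iff]
      intro z
      have hyA : y ∈ A := hxz hy
      constructor
      · intro hz
        have : y * z * y⁻¹ = z := by
          rw [hcomm y hyA z (hA₁A hz), mul_inv_cancel_right]
        rw [this]; exact hz
      · intro hz
        have hzA : y * z * y⁻¹ ∈ A := hA₁A hz
        have hzA' : z ∈ A := by
          have : z = y⁻¹ * (y * z * y⁻¹) * y := by group
          rw [this]
          exact A.mul_mem (A.mul_mem (A.inv_mem hyA) hzA) hyA
        have : y * z * y⁻¹ = z := by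
          rw [hcomm y hyA z hzA', mul_inv_cancel_right]
        rw [← this]; exact hz
    obtain ⟨a₁, ha₁, y, hy, hey⟩ := exists_mul_of_mem_sup (Subgroup.zpowers x) A₁ hnorm he2
    obtain ⟨k, rfl⟩ := Subgroup.mem_zpowers_iff.mp hy
    have hxk : x ^ k ∈ A₁ ⊔ Subgroup.zpowers e := by
      have : x ^ k = a₁⁻¹ * e := by rw [hey]; group
      rw [this]
      exact Subgroup.mul_mem _ (Subgroup.mem_sup_left (A₁.inv_mem ha₁))
        (Subgroup.mem_sup_right (Subgroup.mem_zpowers e))
    have hxk1 : x ^ k ≠ 1 := by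
      intro h1
      rw [h1, mul_one] at hey
      exact heA₁ (hey ▸ ha₁)
    exact hxn (mem_of_zpow_mem hp (hexp x hx) _ k hxk hxk1)

/-- The subgroup generated by the centralizers in `X` of the subgroups of index at most `p` in `A`. -/
def gen (p : ℕ) (A X : Subgroup H) : Subgroup H :=
  ⨆ B : {B : Subgroup H // B ≤ A ∧ B.relIndex A ≤ p},
    X ⊓ Subgroup.centralizer ((B : Subgroup H) : Set H)

theorem le_gen {p : ℕ} {A X : Subgroup H} (B : Subgroup H) (hB : B ≤ A) (hidx : B.relIndex A ≤ p) :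
    X ⊓ Subgroup.centralizer (B : Set H) ≤ gen p A X :=
  le_iSup_of_le (⟨B, hB, hidx⟩ : {B : Subgroup H // B ≤ A ∧ B.relIndex A ≤ p}) le_rfl

theorem mem_centralizer_sup {B Z : Subgroup H} {g : H}
    (hB : g ∈ Subgroup.centralizer (B : Set H)) (hZ : g ∈ Subgroup.centralizer (Z : Set H)) :
    g ∈ Subgroup.centralizer ((B ⊔ Z : Subgroup H) : Set H) := by
  have h1 : B ≤ Subgroup.centralizer ({g} : Set H) := by
    intro h hh
    rw [Subgroup.mem_centralizer_iff]
    rintro y rfl
    exact (Subgroup.mem_centralizer_iff.mp hB h hh).symm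
  have h2 : Z ≤ Subgroup.centralizer ({g} : Set H) := by
    intro h hh
    rw [Subgroup.mem_centralizer_iff]
    rintro y rfl
    exact (Subgroup.mem_centralizer_iff.mp hZ h hh).symm
  rw [Subgroup.mem_centralizer_iff]
  intro h hh
  have := Subgroup.mem_centralizer_iff.mp (sup_le h1 h2 hh) g rfl
  exact this.symm

/-- Main induction. -/
theorem main [Finite H] (p : ℕ) [Fact p.Prime] : ∀ n : ℕ, ∀ (A X : Subgroup H), Nat.card A = n →
    (∀ x ∈ A, ∀ y ∈ A, x * y = y * x) → (∀ x ∈ A, x ^ p = 1) → ¬ p ∣ Nat.card X →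
    A ≤ Subgroup.normalizer (X : Set H) → X ≤ gen p A X := by
  have hp : p.Prime := Fact.out
  intro n
  induction n using Nat.strong_induction_on with
  | _ n ih =>
  intro A X hn hcomm hexp hX hAX
  subst hn
  by_cases hsmall : Nat.card A < p ^ 2
  · -- `B = ⊥`
    have hAp : IsPGroup p A := by
      intro x
      refine ⟨1, ?_⟩
      apply Subtype.ext
      rw [pow_one]
      simpa using hexp x x.2
    obtain ⟨k, hk⟩ := IsPGroup.iff_card.mp hAp
    have hk1 : k ≤ 1 := by
      by_contra hlt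
      rw [not_le] at hlt
      have : p ^ 2 ≤ p ^ k := Nat.pow_le_pow_right hp.pos hlt
      omega
    have hle : Nat.card A ≤ p := by
      rw [hk]
      calc p ^ k ≤ p ^ 1 := Nat.pow_le_pow_right hp.pos hk1
        _ = p := pow_one p
    have h1 : X ⊓ Subgroup.centralizer ((⊥ : Subgroup H) : Set H) ≤ gen p A X :=
      le_gen ⊥ bot_le (by rw [Subgroup.relIndex_bot_left]; exact hle)
    refine le_trans (le_inf le_rfl ?_) h1
    intro x _
    rw [Subgroup.mem_centralizer_iff]
    intro h hh
    have : h = 1 := Subgroup.mem_bot.mp hh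
    rw [this, one_mul, mul_one]
  · rw [not_lt] at hsmall
    -- key step: centralizers of nonidentity elements
    have step : ∀ e ∈ A, e ≠ 1 → X ⊓ Subgroup.centralizer ({e} : Set H) ≤ gen p A X := by
      intro e he he1
      obtain ⟨A₁, hA₁A, hdisj, hsup⟩ := exists_compl_zpowers hp A hcomm hexp e he he1
      set Z := Subgroup.zpowers e with hZ
      set Y := X ⊓ Subgroup.centralizer ({e} : Set H) with hY
      have hZA : Z ≤ A := (Subgroup.zpowers_le).mpr he
      have hcardZ : Nat.card Z = p := by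
        rw [hZ, Nat.card_zpowers, orderOf_eq_prime (hexp e he) he1]
      have hnormZ : ∀ (B : Subgroup H), B ≤ A → Z ≤ Subgroup.normalizer (B : Set H) := by
        intro B hBA y hy
        rw [Subgroup.mem_normalizer_iff]
        intro z
        have hyA : y ∈ A := hZA hy
        constructor
        · intro hz
          have : y * z * y⁻¹ = z := by
            rw [hcomm y hyA z (hBA hz), mul_inv_cancel_right]
          rw [this]; exact hz
        · intro hz
          have hzA : y * z * y⁻¹ ∈ A := hBA hz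
          have hzA' : z ∈ A := by
            have : z = y⁻¹ * (y * z * y⁻¹) * y := by group
            rw [this]
            exact A.mul_mem (A.mul_mem (A.inv_mem hyA) hzA) hyA
          have : y * z * y⁻¹ = z := by
            rw [hcomm y hyA z hzA', mul_inv_cancel_right]
          rw [← this]; exact hz
      have hcardA : Nat.card A = Nat.card A₁ * p := by
        rw [← hcardZ, ← card_sup_of_disjoint Z A₁ (hnormZ A₁ hA₁A) hdisj, hsup]
      have hlt : Nat.card A₁ < Nat.card A := by
        rw [hcardA]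
        have : 0 < Nat.card A₁ := Nat.card_pos
        nlinarith [hp.one_lt]
      -- `A₁` normalizes `Y`
      have hA₁Y : A₁ ≤ Subgroup.normalizer (Y : Set H) := by
        intro x hx
        refine Subgroup.inf_normalizer_le_normalizer_inf ⟨hAX (hA₁A hx), ?_⟩
        apply Subgroup.le_normalizer
        rw [Subgroup.mem_centralizer_iff]
        rintro y rfl
        exact hcomm y he x (hA₁A hx)
      have hYp : ¬ p ∣ Nat.card Y := fun h =>
        hX (h.trans (Subgroup.card_dvd_of_le inf_le_left))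
      have hIH := ih (Nat.card A₁) hlt A₁ Y rfl
        (fun x hx y hy => hcomm x (hA₁A hx) y (hA₁A hy)) (fun x hx => hexp x (hA₁A hx)) hYp hA₁Y
      refine hIH.trans ?_
      apply iSup_le
      rintro ⟨B₁, hB₁A₁, hB₁idx⟩
      have hBA : B₁ ⊔ Z ≤ A := sup_le (hB₁A₁.trans hA₁A) hZA
      have hdisjB : B₁ ⊓ Z = ⊥ := by
        rw [eq_bot_iff, ← hdisj]
        exact inf_le_inf_right _ hB₁A₁
      have hcardB : Nat.card ↥(B₁ ⊔ Z) = Nat.card B₁ * p := by
        rw [← hcardZ]
        exact card_sup_of_disjoint Z B₁ (hnormZ B₁ (hB₁A₁.trans hA₁A)) hdisjB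
      have hidx : (B₁ ⊔ Z).relIndex A ≤ p := by
        have h1 := relIndex_mul_card_of_le hBA
        have h2 := relIndex_mul_card_of_le hB₁A₁
        rw [hcardB, hcardA, ← h2] at h1
        have h3 : (B₁ ⊔ Z).relIndex A * Nat.card B₁ = B₁.relIndex A₁ * Nat.card B₁ := by
          have hp0 : 0 < p := hp.pos
          apply Nat.eq_of_mul_eq_mul_right hp0
          rw [mul_assoc, h1]
        have h4 : (B₁ ⊔ Z).relIndex A = B₁.relIndex A₁ :=
          Nat.eq_of_mul_eq_mul_right Nat.card_pos h3
        rw [h4]; exact hB₁idx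
      refine le_trans ?_ (le_gen (B₁ ⊔ Z) hBA hidx)
      rintro g ⟨⟨hgX, hge⟩, hgB⟩
      refine ⟨hgX, mem_centralizer_sup hgB ?_⟩
      rw [hZ, Subgroup.zpowers_eq_closure, Subgroup.centralizer_closure]
      exact hge
    -- choose independent `a`, `b`
    have hAne : ∃ b ∈ A, b ≠ 1 := by
      by_contra hcon
      have hbot : A = ⊥ := by
        rw [eq_bot_iff]
        intro x hx
        rw [Subgroup.mem_bot]
        by_contra hx1
        exact hcon ⟨x, hx, hx1⟩
      rw [hbot, Subgroup.card_bot] at hsmall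
      have : 1 < p ^ 2 := Nat.one_lt_pow (by norm_num) hp.one_lt
      omega
    obtain ⟨b, hb, hb1⟩ := hAne
    have hcardZb : Nat.card (Subgroup.zpowers b) = p := by
      rw [Nat.card_zpowers, orderOf_eq_prime (hexp b hb) hb1]
    have hex : ∃ a ∈ A, a ∉ Subgroup.zpowers b := by
      by_contra hcon
      have hle : A ≤ Subgroup.zpowers b := by
        intro x hx
        by_contra hxn
        exact hcon ⟨x, hx, hxn⟩
      have := Subgroup.card_le_of_le hle
      rw [hcardZb] at this
      have : p < p ^ 2 := by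
        calc p = p ^ 1 := (pow_one p).symm
          _ < p ^ 2 := Nat.pow_lt_pow_right hp.one_lt (by norm_num)
      omega
    obtain ⟨a, ha, hab⟩ := hex
    apply Cfsg.Agent.Lib.Helper48_Generation.le_of_centralizers_le X hX a b (hAX ha) (hAX hb)
      (hexp a ha) (hexp b hb) (hcomm a ha b hb) (gen p A X)
    · exact step b hb hb1
    · intro i
      apply step (a * b ^ i) (A.mul_mem ha (A.pow_mem hb i))
      intro h1
      apply hab
      have : a = (b ^ i)⁻¹ := eq_inv_of_mul_eq_one_left h1
      rw [this]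
      exact Subgroup.inv_mem _ (Subgroup.pow_mem _ (Subgroup.mem_zpowers b) i)

/-- Let A be a noncyclic elementary abelian p-subgroup of a finite group H normalizing a subgroup X of order prime to p. Then X is generated by the subgroups X ∩ C_H(B), B ranging over the subgroups of A of index at most p. -/
theorem result {H : Type*} [Group H] [Finite H] (p : ℕ) [Fact p.Prime] (A X : Subgroup H) (hA : Cfsg.IsElementaryAbelian p A) (hA2 : p ^ 2 ≤ Nat.card ↥A) (hX : ¬ p ∣ Nat.card ↥X) (hAX : A ≤ Subgroup.normalizer (X : Set H)) : X = ⨆ B : {B : Subgroup H // B ≤ A ∧ B.relIndex A ≤ p}, X ⊓ Subgroup.centralizer ((B : Subgroup H) : Set H) := by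
  apply le_antisymm
  · have hcomm : ∀ x ∈ A, ∀ y ∈ A, x * y = y * x := by
      intro x hx y hy
      have h := hA.1.is_comm.comm (⟨x, hx⟩ : A) ⟨y, hy⟩
      exact congrArg Subtype.val h
    exact main p (Nat.card A) A X rfl hcomm hA.2 hX hAX
  · exact iSup_le fun _ => inf_le_left

end Cfsg.Agent.S1324
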