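import Cfsg.Statements.S1970
import Cfsg.Agent.Lib.Helper54_FunctorTransfer
import Cfsg.Agent.Lib.Helper34_NPC
import Cfsg.Agent.Lib.Helper33_WTransfer
import Cfsg.Agent.Lib.Helper76_PSolvable
import Cfsg.Agent.S5299

set_option autoImplicit false
universe u
open Cfsg

namespace Cfsg.Agent.S1970

open Cfsg.Agent.Lib.Helper54_FunctorTransfer Cfsg.Agent.Lib.Helper34_NPC
  Cfsg.Agent.Lib.Helper33_WTransfer Cfsg.Agent.Lib.Helper33_Conj Cfsg.Agent.Lib.Helper33_Alperin
open scoped commutatorElement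

variable {p : ℕ} [Fact p.Prime]

/-- constrainedness transports along an isomorphism -/
theorem constrained_of_equiv {Y X : Type*} [Group Y] [Group X] [Finite Y] (e : Y ≃* X)
    (hc : Subgroup.centralizer ((Cfsg.pCore p X : Subgroup X) : Set X) ≤ Cfsg.pCore p X) :
    Subgroup.centralizer ((Cfsg.pCore p Y : Subgroup Y) : Set Y) ≤ Cfsg.pCore p Y := by
  have hcore : (Cfsg.pCore p Y).map e.toMonoidHom = Cfsg.pCore p X := pCore_map_equiv p e
  intro c hc'
  have h1 : e c ∈ Cfsg.pCore p X := by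
    apply hc
    rw [Subgroup.mem_centralizer_iff]
    intro y hy
    rw [SetLike.mem_coe, ← hcore] at hy
    obtain ⟨z, hz, rfl⟩ := hy
    have := Subgroup.mem_centralizer_iff.mp hc' z hz
    show e z * e c = e c * e z
    rw [← map_mul, ← map_mul, this]
  rw [← hcore] at h1
  obtain ⟨z, hz, hzc⟩ := h1
  have : z = c := e.injective hzc
  rwa [← this]

variable {𝓦 : Set (∀ (Q : Type u) [Group Q], Subgroup Q)}

/-- transfer control in the preimages of the normalizers of the `W(T/P)`, from transfer control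
in proper subgroups -/
theorem le_DD_of_quotient_normalizer (h𝓦 : ∀ W ∈ 𝓦, Cfsg.IsCharPFunctor.{u} p W) {X : Type u}
    [Group X] [Finite X] (T : Sylow p X)
    (hTP : ¬ (T : Subgroup X) ≤ Cfsg.pCore p X)
    (hsub : ∀ H : Subgroup X, H ≠ ⊤ → FCT p 𝓦 ↥H) :
    ∀ W ∈ 𝓦, (T : Subgroup X) ⊓
        ⁅(Subgroup.normalizer ((Cfsg.inducedFunctor W ((T : Subgroup X).map
            (QuotientGroup.mk' (Cfsg.pCore p X))) :
            Subgroup (X ⧸ Cfsg.pCore p X)) : Set (X ⧸ Cfsg.pCore p X))).comap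
              (QuotientGroup.mk' (Cfsg.pCore p X)),
          (Subgroup.normalizer ((Cfsg.inducedFunctor W ((T : Subgroup X).map
            (QuotientGroup.mk' (Cfsg.pCore p X))) :
            Subgroup (X ⧸ Cfsg.pCore p X)) : Set (X ⧸ Cfsg.pCore p X))).comap
              (QuotientGroup.mk' (Cfsg.pCore p X))⁆ ≤
        DD (ind 𝓦 X) ⊤ (T : Subgroup X) := by
  have hPp : IsPGroup p (Cfsg.pCore p X) := Cfsg.Agent.Lib.Helper76_PSolvable.pCore_isPGroup p
  have hPT : Cfsg.pCore p X ≤ (T : Subgroup X) := hPp.le_sylow_of_normal T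
  have hπs : Function.Surjective (QuotientGroup.mk' (Cfsg.pCore p X)) :=
    QuotientGroup.mk'_surjective _
  have hTbar : IsPGroup p ((T : Subgroup X).map (QuotientGroup.mk' (Cfsg.pCore p X))) :=
    T.2.map _
  have hTbne : (T : Subgroup X).map (QuotientGroup.mk' (Cfsg.pCore p X)) ≠ ⊥ := by
    intro h
    rw [Subgroup.map_eq_bot_iff, QuotientGroup.ker_mk'] at h
    exact hTP h
  intro W hW
  obtain ⟨Wb, hWb⟩ : ∃ Wb, Wb = (Cfsg.inducedFunctor W ((T : Subgroup X).map
        (QuotientGroup.mk' (Cfsg.pCore p X))) : Subgroup (X ⧸ Cfsg.pCore p X)) := ⟨_, rfl⟩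
  rw [← hWb]
  have hWble : Wb ≤ (T : Subgroup X).map (QuotientGroup.mk' (Cfsg.pCore p X)) :=
    hWb ▸ inducedFunctor_le W _
  have hWbne : Wb ≠ ⊥ := hWb ▸ inducedFunctor_ne_bot (h𝓦 W hW) hTbar hTbne
  have hNb : Subgroup.normalizer (((T : Subgroup X).map
      (QuotientGroup.mk' (Cfsg.pCore p X)) : Subgroup (X ⧸ Cfsg.pCore p X)) :
        Set (X ⧸ Cfsg.pCore p X)) ≤ Subgroup.normalizer (Wb : Set (X ⧸ Cfsg.pCore p X)) :=
    hWb ▸ normalizer_le_normalizer_inducedFunctor (h𝓦 W hW) _ hTbar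
  obtain ⟨H, hHdef⟩ : ∃ H, H = (Subgroup.normalizer (Wb : Set (X ⧸ Cfsg.pCore p X))).comap
      (QuotientGroup.mk' (Cfsg.pCore p X)) := ⟨_, rfl⟩
  rw [← hHdef]
  have hTH : (T : Subgroup X) ≤ H := by
    intro t ht
    rw [hHdef, Subgroup.mem_comap]
    exact hNb (Subgroup.le_normalizer ⟨t, ht, rfl⟩)
  have hHne : H ≠ ⊤ := by
    intro htop
    have h1 : Subgroup.normalizer (Wb : Set (X ⧸ Cfsg.pCore p X)) = ⊤ := by
      have := Subgroup.map_comap_eq_self_of_surjective hπs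
        (Subgroup.normalizer (Wb : Set (X ⧸ Cfsg.pCore p X)))
      rw [← hHdef, htop] at this
      rw [← this, ← MonoidHom.range_eq_map, MonoidHom.range_eq_top]
      exact hπs
    have hWbn : Wb.Normal := Subgroup.normalizer_eq_top_iff.mp h1
    have : (Wb.comap (QuotientGroup.mk' (Cfsg.pCore p X))).Normal := hWbn.comap _
    have hVT : Wb.comap (QuotientGroup.mk' (Cfsg.pCore p X)) ≤ (T : Subgroup X) := by
      have h2 := Subgroup.comap_mono (f := QuotientGroup.mk' (Cfsg.pCore p X)) hWble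
      rw [Subgroup.comap_map_eq, QuotientGroup.ker_mk', sup_eq_left.mpr hPT] at h2
      exact h2
    have hVP := Cfsg.Agent.Lib.Helper76_PSolvable.le_pCore p _ (T.2.to_le hVT)
    apply hWbne
    rw [← Subgroup.map_comap_eq_self_of_surjective hπs Wb, eq_bot_iff]
    refine le_trans (Subgroup.map_mono hVP) (le_of_eq ?_)
    rw [Subgroup.map_eq_bot_iff, QuotientGroup.ker_mk']
  exact FCT.le_DD h𝓦 H (hsub H hHne) T hTH

variable {W : ∀ (Q : Type u) [Group Q], Subgroup Q}

theorem isChar_singleton (hW : Cfsg.IsCharPFunctor.{u} p W) :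
    ∀ W' ∈ ({W} : Set (∀ (Q : Type u) [Group Q], Subgroup Q)), Cfsg.IsCharPFunctor.{u} p W' := by
  intro W' hW'
  rw [Set.mem_singleton_iff] at hW'
  rw [hW']; exact hW

/-- the constrained step -/
theorem fct_of_constrained (hW : Cfsg.IsCharPFunctor.{u} p W) {Y : Type u} [Group Y] [Finite Y]
    (h1 : Subgroup.centralizer ((Cfsg.pCore p Y : Subgroup Y) : Set Y) ≤ Cfsg.pCore p Y)
    (h2 : ∀ T : Sylow p Y, Cfsg.pCore p Y ⊓ commutator Y = Cfsg.pCore p Y ⊓
      ⁅Subgroup.normalizer ((Cfsg.inducedFunctor W (T : Subgroup Y) : Subgroup Y) : Set Y),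
        Subgroup.normalizer ((Cfsg.inducedFunctor W (T : Subgroup Y) : Subgroup Y) : Set Y)⁆)
    (h3 : Cfsg.pCore p Y ≠ ⊥ → FCT p {W} (Y ⧸ Cfsg.pCore p Y))
    (h4 : ∀ H : Subgroup Y, H ≠ ⊤ → FCT p {W} ↥H) : FCT p {W} Y := by
  have h𝓦 := isChar_singleton hW
  obtain ⟨S⟩ : Nonempty (Sylow p Y) := inferInstance
  have hPp : IsPGroup p (Cfsg.pCore p Y) := Cfsg.Agent.Lib.Helper76_PSolvable.pCore_isPGroup p
  have hPS : Cfsg.pCore p Y ≤ (S : Subgroup Y) := hPp.le_sylow_of_normal S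
  have hmem : Cfsg.inducedFunctor (G := Y) W ∈ ind {W} Y := ⟨W, rfl, rfl⟩
  have hN := le_DD_top hmem (S : Subgroup Y)
  have hD : DD (ind {W} Y) ⊤ (S : Subgroup Y) ≤ (S : Subgroup Y) ⊓ ⁅(⊤ : Subgroup Y), ⊤⁆ :=
    DD_le_inf _ _ _
  have key : ∀ k : Y, k ∈ Cfsg.pCore p Y → k ∈ ⁅(⊤ : Subgroup Y), (⊤ : Subgroup Y)⁆ →
      k ∈ DD (ind {W} Y) ⊤ (S : Subgroup Y) := by
    intro k hkP hkX
    have hk : k ∈ Cfsg.pCore p Y ⊓ commutator Y := ⟨hkP, by rw [commutator_def]; exact hkX⟩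
    rw [h2 S] at hk
    exact hN ⟨hPS hk.1, hk.2⟩
  apply FCT.of_le S
  by_cases hSP : (S : Subgroup Y) ≤ Cfsg.pCore p Y
  · intro s hs
    exact key s (hSP hs.1) hs.2
  · have hPne : Cfsg.pCore p Y ≠ ⊥ := by
      intro hbot
      apply hSP
      intro s _
      apply h1
      rw [hbot, Subgroup.mem_centralizer_iff]
      intro y hy
      have : y = 1 := hy
      rw [this, one_mul, mul_one]
    have hH := le_DD_of_quotient_normalizer h𝓦 S hSP h4
    intro s hs
    obtain ⟨d, hd, k, hk, rfl⟩ :=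
      exists_mul_of_quotient h𝓦 S (Cfsg.pCore p Y) hPS (h3 hPne) hH hs
    have hkX : k ∈ ⁅(⊤ : Subgroup Y), (⊤ : Subgroup Y)⁆ := by
      have e : k = d⁻¹ * (d * k) := by group
      rw [e]
      exact Subgroup.mul_mem _ (Subgroup.inv_mem _ (hD hd).2) hs.2
    exact Subgroup.mul_mem _ hd (key k hk hkX)

theorem card_le_of_involves {Z X : Type*} [Group Z] [Group X] [Finite X]
    (h : Cfsg.Involves Z X) : Nat.card Z ≤ Nat.card X := by
  rw [Cfsg.Agent.S5299.involves_iff] at h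
  obtain ⟨K, f, hf⟩ := h
  exact le_trans (Nat.card_le_card_of_surjective f hf) (Subgroup.card_le_card_group K)

/-- the main induction for S1970 -/
theorem main' {G : Type u} [Group G] [Finite G] (hW : Cfsg.IsCharPFunctor.{u} p W)
    (hloc : ∀ (K R : Subgroup G) [hR : (R.subgroupOf K).Normal],
      Subgroup.centralizer ((Cfsg.pCore p (↥K ⧸ R.subgroupOf K) :
        Subgroup (↥K ⧸ R.subgroupOf K)) : Set (↥K ⧸ R.subgroupOf K)) ≤
          Cfsg.pCore p (↥K ⧸ R.subgroupOf K) →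
      ∀ T : Sylow p (↥K ⧸ R.subgroupOf K),
        Cfsg.pCore p (↥K ⧸ R.subgroupOf K) ⊓ commutator (↥K ⧸ R.subgroupOf K) =
          Cfsg.pCore p (↥K ⧸ R.subgroupOf K) ⊓
            ⁅Subgroup.normalizer ((Cfsg.inducedFunctor (G := (↥K ⧸ R.subgroupOf K)) W
              ((T : Subgroup (↥K ⧸ R.subgroupOf K))) : Subgroup (↥K ⧸ R.subgroupOf K)) :
                Set (↥K ⧸ R.subgroupOf K)),
              Subgroup.normalizer ((Cfsg.inducedFunctor (G := (↥K ⧸ R.subgroupOf K)) W
              ((T : Subgroup (↥K ⧸ R.subgroupOf K))) : Subgroup (↥K ⧸ R.subgroupOf K)) :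
                Set (↥K ⧸ R.subgroupOf K))⁆) :
    ∀ n : ℕ, ∀ (X : Type u) [Group X] [Finite X], Nat.card X = n → Cfsg.Involves X G →
      FCT p {W} X := by
  intro n
  induction n using Nat.strong_induction_on with
  | _ n ih =>
  have h𝓦 := isChar_singleton hW
  -- the constrained case
  have constr : ∀ (X : Type u) [Group X] [Finite X], Nat.card X = n → Cfsg.Involves X G →
      Subgroup.centralizer ((Cfsg.pCore p X : Subgroup X) : Set X) ≤ Cfsg.pCore p X →
      FCT p {W} X := by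
    intro X _ _ hcard hX hc
    obtain ⟨K, R, hn, ⟨e⟩⟩ := hX
    have hfin : Finite (↥K ⧸ R.subgroupOf K) := inferInstance
    have hY1 := constrained_of_equiv (p := p) e hc
    have hcardY : Nat.card (↥K ⧸ R.subgroupOf K) = n := by
      rw [← hcard]; exact Nat.card_congr e.toEquiv
    have hπ : Function.Surjective (QuotientGroup.mk' (R.subgroupOf K)) :=
      QuotientGroup.mk'_surjective _
    refine FCT.of_equiv h𝓦 e (fct_of_constrained hW hY1 (hloc K R hY1) ?_ ?_)
    · intro hPne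
      have hlt : Nat.card ((↥K ⧸ R.subgroupOf K) ⧸ Cfsg.pCore p (↥K ⧸ R.subgroupOf K)) < n :=
        hcardY ▸ card_quotient_lt _ hPne
      refine ih _ hlt _ rfl ?_
      exact involves_of_subgroup K (involves_of_surjective _ hπ
        (involves_of_surjective (QuotientGroup.mk' _) (QuotientGroup.mk'_surjective _)
          (involves_self _)))
    · intro H hH
      have hlt : Nat.card H < n := hcardY ▸ card_subgroup_lt _ hH
      refine ih _ hlt _ rfl ?_
      exact involves_of_subgroup K (involves_of_surjective _ hπ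
        (involves_of_subgroup H (involves_self _)))
  intro X _ _ hcard hX
  by_cases hc : Subgroup.centralizer ((Cfsg.pCore p X : Subgroup X) : Set X) ≤ Cfsg.pCore p X
  · exact constr X hcard hX hc
  · apply main h𝓦 n X hcard
    intro Z _ hZ hcZ
    have hfinZ : Finite Z := finite_of_involves hZ
    have hZG : Cfsg.Involves Z G := by
      obtain ⟨K, R, hn, ⟨e⟩⟩ := hX
      have hsurj : Function.Surjective
          (e.toMonoidHom.comp (QuotientGroup.mk' (R.subgroupOf K))) :=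
        e.surjective.comp (QuotientGroup.mk'_surjective _)
      exact involves_of_subgroup K (involves_of_surjective _ hsurj hZ)
    have hle : Nat.card Z ≤ n := hcard ▸ card_le_of_involves hZ
    rcases Nat.lt_or_ge (Nat.card Z) n with hlt | hge
    · exact ih _ hlt Z rfl hZG
    · exact constr Z (le_antisymm hle hge) hZG hcZ

/-- Let p be a prime, G a finite group and W an isomorphism-invariant p-group functor (W assigns to every group Q a subgroup W(Q), nontrivial whenever Q is a nontrivial finite p-group, and every isomorphism from a finite p-group Q onto a group R carries W(Q) onto W(R)). Suppose that for every section G* = K/R of G with C_{G*}(O_p(G*)) ≤ O_p(G*) and every Sylow p-subgroup S* of G*, one has O_p(G*) ∩ (G*)' = O_p(G*) ∩ (N_{G*}(W(S*)))'. Then W controls transfer in every section G* of G: S* ∩ (G*)' = S* ∩ (N_{G*}(W(S*)))' for a Sylow p-subgroup S* of G*. -/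
theorem result {G : Type u} [Group G] [Finite G] {p : ℕ} [Fact p.Prime] (W : ∀ (Q : Type u) [Group Q], Subgroup Q) (hW : Cfsg.IsCharPFunctor.{u} p W) (hloc : ∀ (K R : Subgroup G) [hR : (R.subgroupOf K).Normal], Subgroup.centralizer ((Cfsg.pCore p (↥K ⧸ R.subgroupOf K) : Subgroup (↥K ⧸ R.subgroupOf K)) : Set (↥K ⧸ R.subgroupOf K)) ≤ Cfsg.pCore p (↥K ⧸ R.subgroupOf K) → ∀ T : Sylow p (↥K ⧸ R.subgroupOf K), Cfsg.pCore p (↥K ⧸ R.subgroupOf K) ⊓ commutator (↥K ⧸ R.subgroupOf K) = Cfsg.pCore p (↥K ⧸ R.subgroupOf K) ⊓ ⁅Subgroup.normalizer ((Cfsg.inducedFunctor (G := (↥K ⧸ R.subgroupOf K)) W ((T : Subgroup (↥K ⧸ R.subgroupOf K))) : Subgroup (↥K ⧸ R.subgroupOf K)) : Set (↥K ⧸ R.subgroupOf K)), Subgroup.normalizer ((Cfsg.inducedFunctor (G := (↥K ⧸ R.subgroupOf K)) W ((T : Subgroup (↥K ⧸ R.subgroupOf K))) : Subgroup (↥K ⧸ R.subgroupOf K)) : Set (↥K ⧸ R.subgroupOf K))⁆) : ∀ (K R : Subgroup G) [hR : (R.subgroupOf K).Normal], Cfsg.ControlsTransferIn p (Cfsg.inducedFunctor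 (G := (↥K ⧸ R.subgroupOf K)) W) ⊤ := by
  intro K R hR
  have hX : Cfsg.Involves (↥K ⧸ R.subgroupOf K) G := ⟨K, R, hR, ⟨MulEquiv.refl _⟩⟩
  have h := main' hW hloc _ (↥K ⧸ R.subgroupOf K) rfl hX
  unfold FCT ind at h
  rw [Set.image_singleton] at h
  exact Cfsg.Agent.Lib.Helper33_WTransfer.controlsTransfer_iff_singleton.mpr h

end Cfsg.Agent.S1970
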