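import Cfsg.Statements.S3766
import Cfsg.Agent.Lib.Helper71_Fitting
import Cfsg.Agent.Lib.Helper21_Fitting

set_option autoImplicit false
open Cfsg

namespace Cfsg.Agent.S3766

open scoped commutatorElement
open Cfsg.Agent.Lib.Helper71_Fitting Cfsg.Agent.Lib.Helper21_Fitting

variable {G : Type*} [Group G]

/-- `U / V` is a chief factor of `G`. -/
def IsChief (U V : Subgroup G) : Prop :=
  U.Normal ∧ V.Normal ∧ V < U ∧ ∀ W : Subgroup G, W.Normal → V ≤ W → W ≤ U → W = V ∨ W = U

/-- The elements centralizing each `S` modulo `V` for `(S, V)` in a family. -/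
def cmFam (Fam : Set (Set G × Subgroup G)) (h : ∀ p ∈ Fam, p.2.Normal) : Subgroup G where
  carrier := {g | ∀ p ∈ Fam, ∀ s ∈ p.1, s * g * s⁻¹ * g⁻¹ ∈ p.2}
  one_mem' := by
    intro p _ s _
    simp [(p.2).one_mem]
  mul_mem' := by
    intro a b ha hb p hp s hs
    have hn := h p hp
    have h1 := ha p hp s hs
    have h2 := hn.conj_mem _ (hb p hp s hs) a
    have : s * (a * b) * s⁻¹ * (a * b)⁻¹ =
        (s * a * s⁻¹ * a⁻¹) * (a * (s * b * s⁻¹ * b⁻¹) * a⁻¹) := by group
    rw [this]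
    exact p.2.mul_mem h1 h2
  inv_mem' := by
    intro a ha p hp s hs
    have hn := h p hp
    have h1 := p.2.inv_mem (ha p hp s hs)
    have h2 := hn.conj_mem _ h1 a⁻¹
    have : s * a⁻¹ * s⁻¹ * a⁻¹⁻¹ = a⁻¹ * (s * a * s⁻¹ * a⁻¹)⁻¹ * a⁻¹⁻¹ := by group
    rw [this]
    exact h2

theorem mem_cmFam {Fam : Set (Set G × Subgroup G)} {h : ∀ p ∈ Fam, p.2.Normal} {g : G} :
    g ∈ cmFam Fam h ↔ ∀ p ∈ Fam, ∀ s ∈ p.1, s * g * s⁻¹ * g⁻¹ ∈ p.2 := Iff.rfl

theorem cmFam_normal (Fam : Set (Set G × Subgroup G)) (h : ∀ p ∈ Fam, p.2.Normal)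
    (hconj : ∀ p ∈ Fam, ∀ x : G, ∀ s ∈ p.1, x * s * x⁻¹ ∈ p.1) : (cmFam Fam h).Normal := by
  constructor
  intro g hg x p hp s hs
  have hn := h p hp
  have h1 := hg p hp (x⁻¹ * s * x⁻¹⁻¹) (hconj p hp x⁻¹ s hs)
  have h2 := hn.conj_mem _ h1 x
  have : s * (x * g * x⁻¹) * s⁻¹ * (x * g * x⁻¹)⁻¹ =
      x * ((x⁻¹ * s * x⁻¹⁻¹) * g * (x⁻¹ * s * x⁻¹⁻¹)⁻¹ * g⁻¹) * x⁻¹ := by group
  rw [this]
  exact h2

theorem lowerCentralSeries_normal (K : Subgroup G) [K.Normal] (n : ℕ) :
    (K.lowerCentralSeries n).Normal := by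
  induction n with
  | zero => exact ‹K.Normal›
  | succ n ih =>
    rw [Subgroup.lowerCentralSeries_succ]
    infer_instance

/-- A nilpotent normal subgroup centralizes every chief factor. -/
theorem chief_centralized {K U V : Subgroup G} [K.Normal]
    (hK : ∃ n, K.lowerCentralSeries n = ⊥) (hUV : IsChief U V) : ⁅U, K⁆ ≤ V := by
  obtain ⟨hU, hV, hlt, hmin⟩ := hUV
  have key : ∀ n, K.lowerCentralSeries n ⊓ U ≤ V → ⁅U, K⁆ ≤ V := by
    intro n
    induction n with
    | zero =>
      intro h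
      refine (Subgroup.commutator_le_inf (H₁ := U) (H₂ := K)).trans ?_
      rw [inf_comm]
      exact h
    | succ n ih =>
      intro h
      have hLn := lowerCentralSeries_normal K n
      have hWn : ((K.lowerCentralSeries n ⊓ U) ⊔ V).Normal := inferInstance
      rcases hmin _ hWn le_sup_right (sup_le inf_le_right hlt.le) with hW | hW
      · apply ih
        rw [← hW]
        exact le_sup_left
      · rw [Subgroup.commutator_le]
        intro u hu k hk
        let T := cmFam {(({k} : Set G), V)} (by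
          intro p hp
          rw [Set.mem_singleton_iff] at hp
          rw [hp]
          exact hV)
        have hT1 : K.lowerCentralSeries n ⊓ U ≤ T := by
          intro x hx p hp s hs
          rw [Set.mem_singleton_iff] at hp
          subst hp
          rw [Set.mem_singleton_iff] at hs
          subst hs
          apply h
          have hx1 : ⁅x, s⁆ ∈ K.lowerCentralSeries (n + 1) :=
            Subgroup.commutator_mem_commutator hx.1 hk
          have hx2 : ⁅x, s⁆ ∈ U := by
            have : ⁅x, s⁆ = x * (s * x⁻¹ * s⁻¹) := by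
              rw [commutatorElement_def]; group
            rw [this]
            exact U.mul_mem hx.2 (hU.conj_mem _ (U.inv_mem hx.2) s)
          have hx3 : s * x * s⁻¹ * x⁻¹ = ⁅x, s⁆⁻¹ := by
            rw [commutatorElement_def]; group
          rw [hx3]
          exact Subgroup.inv_mem _ ⟨hx1, hx2⟩
        have hT2 : V ≤ T := by
          intro x hx p hp s hs
          rw [Set.mem_singleton_iff] at hp
          subst hp
          exact V.mul_mem (hV.conj_mem _ hx s) (V.inv_mem hx)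
        have hUT : U ≤ T := by
          rw [← hW]
          exact sup_le hT1 hT2
        have h3 := hUT hu _ rfl k rfl
        have h4 : ⁅u, k⁆ = (k * u * k⁻¹ * u⁻¹)⁻¹ := by
          rw [commutatorElement_def]; group
        rw [h4]
        exact V.inv_mem h3
  obtain ⟨n, hn⟩ := hK
  exact key n (by rw [hn]; simp)

/-- Iterated commutator with `M`. -/
def icomm (M : Subgroup G) (L : Subgroup G) : ℕ → Subgroup G
  | 0 => L
  | n + 1 => ⁅icomm M L n, M⁆

theorem icomm_succ' (M L : Subgroup G) (n : ℕ) : icomm M L (n + 1) = icomm M ⁅L, M⁆ n := by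
  induction n with
  | zero => rfl
  | succ n ih =>
    show ⁅icomm M L (n + 1), M⁆ = ⁅icomm M ⁅L, M⁆ n, M⁆
    rw [ih]

theorem icomm_mono (M : Subgroup G) {L L' : Subgroup G} (h : L ≤ L') (n : ℕ) :
    icomm M L n ≤ icomm M L' n := by
  induction n with
  | zero => exact h
  | succ n ih => exact Subgroup.commutator_mono ih le_rfl

/-- A subgroup centralizing all chief factors below `K` acts nilpotently on every normal subgroup
below `K`. -/
theorem exists_icomm_eq_bot [Finite G] (K M : Subgroup G)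
    (hM : ∀ U V : Subgroup G, IsChief U V → U ≤ K → ⁅U, M⁆ ≤ V) :
    ∀ (m : ℕ) (L : Subgroup G), L.Normal → L ≤ K → Nat.card L ≤ m → ∃ n, icomm M L n = ⊥ := by
  intro m
  induction m with
  | zero =>
    intro L _ _ h
    have := Nat.card_pos (α := L)
    omega
  | succ m ih =>
    intro L hLn hLK hcard
    by_cases hL : L = ⊥
    · exact ⟨0, hL⟩
    · obtain ⟨V, hV⟩ := exists_maximal_of_wellFoundedGT
        (fun V : Subgroup G => V.Normal ∧ V < L) ⟨⊥, inferInstance, bot_lt_iff_ne_bot.2 hL⟩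
      have hchief : IsChief L V := ⟨hLn, hV.1.1, hV.1.2, fun W hW hVW hWL => by
        by_cases h : W = L
        · exact Or.inr h
        · left
          exact le_antisymm (hV.2 ⟨hW, lt_of_le_of_ne hWL h⟩ hVW) hVW⟩
      have h1 : ⁅L, M⁆ ≤ V := hM L V hchief hLK
      have hVcard : Nat.card V ≤ m := by
        by_contra hcon
        have hge : Nat.card L ≤ Nat.card V := by omega
        exact hV.1.2.ne (Subgroup.eq_of_le_of_card_ge hV.1.2.le hge)
      obtain ⟨n, hn⟩ := ih V hV.1.1 (hV.1.2.le.trans hLK) hVcard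
      refine ⟨n + 1, ?_⟩
      rw [icomm_succ', eq_bot_iff, ← hn]
      exact icomm_mono M h1 n

theorem result {G : Type*} [Group G] [Finite G] (hG : Group.IsSolvable G) (N : Subgroup G) [N.Normal] (g : G) : (g ∈ (Cfsg.fittingSubgroup ↥N).map N.subtype ↔ g ∈ N ∧ ∀ U V : Subgroup G, (U.Normal ∧ V.Normal ∧ V < U ∧ ∀ W : Subgroup G, W.Normal → V ≤ W → W ≤ U → W = V ∨ W = U) → ∀ u ∈ U, u * g * u⁻¹ * g⁻¹ ∈ V) ∧ (g ∈ (Cfsg.fittingSubgroup ↥N).map N.subtype ↔ g ∈ N ∧ ∀ U V : Subgroup G, (U.Normal ∧ V.Normal ∧ V < U ∧ ∀ W : Subgroup G, W.Normal → V ≤ W → W ≤ U → W = V ∨ W = U) → U ≤ (Cfsg.fittingSubgroup ↥N).map N.subtype → ∀ u ∈ U, u * g * u⁻¹ * g⁻¹ ∈ V) := by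
  classical
  set K : Subgroup G := (Cfsg.fittingSubgroup ↥N).map N.subtype with hK
  have hKn : K.Normal := inferInstance
  have hKN : K ≤ N := Subgroup.map_subtype_le _
  have hKnil : Group.IsNilpotent ↥K :=
    isNilpotent_of_mulEquiv
      ((fittingSubgroup ↥N).equivMapOfInjective N.subtype N.subtype_injective)
      fittingSubgroup_isNilpotent
  have hKlcs : ∃ n, K.lowerCentralSeries n = ⊥ :=
    (Subgroup.isNilpotent_iff_lowerCentralSeries K).1 hKnil
  -- normal nilpotent subgroups of `G` inside `N` lie in `K`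
  have hle_K : ∀ M : Subgroup G, M.Normal → M ≤ N → Group.IsNilpotent ↥M → M ≤ K := by
    intro M hMn hMN hMnil
    have hn : (M.subgroupOf N).Normal := hMn.subgroupOf N
    have hnil : Group.IsNilpotent ↥(M.subgroupOf N) :=
      isNilpotent_of_mulEquiv (Subgroup.subgroupOfEquivOfLe hMN).symm hMnil
    have h1 : M.subgroupOf N ≤ fittingSubgroup ↥N := le_sSup ⟨hn, hnil⟩
    have h2 := Subgroup.map_mono (f := N.subtype) h1
    rwa [Subgroup.map_subgroupOf_eq_of_le hMN] at h2
  -- (A) ⟹ (B)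
  have hAB : g ∈ K → g ∈ N ∧ ∀ U V : Subgroup G, (U.Normal ∧ V.Normal ∧ V < U ∧
      ∀ W : Subgroup G, W.Normal → V ≤ W → W ≤ U → W = V ∨ W = U) →
      ∀ u ∈ U, u * g * u⁻¹ * g⁻¹ ∈ V := by
    intro hg
    refine ⟨hKN hg, ?_⟩
    intro U V hUV u hu
    have h1 : ⁅U, K⁆ ≤ V := chief_centralized hKlcs hUV
    have h2 := h1 (Subgroup.commutator_mem_commutator hu hg)
    rwa [commutatorElement_def] at h2
  -- (C) ⟹ (A)
  have hCA : (g ∈ N ∧ ∀ U V : Subgroup G, (U.Normal ∧ V.Normal ∧ V < U ∧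
      ∀ W : Subgroup G, W.Normal → V ≤ W → W ≤ U → W = V ∨ W = U) → U ≤ K →
      ∀ u ∈ U, u * g * u⁻¹ * g⁻¹ ∈ V) → g ∈ K := by
    rintro ⟨hgN, hg⟩
    let Fam : Set (Set G × Subgroup G) :=
      {p | ∃ U V : Subgroup G, IsChief U V ∧ U ≤ K ∧ p = ((U : Set G), V)}
    have hFam : ∀ p ∈ Fam, p.2.Normal := by
      rintro p ⟨U, V, hUV, -, rfl⟩
      exact hUV.2.1
    have hFamc : ∀ p ∈ Fam, ∀ x : G, ∀ s ∈ p.1, x * s * x⁻¹ ∈ p.1 := by
      rintro p ⟨U, V, hUV, -, rfl⟩ x s hs
      exact hUV.1.conj_mem s hs x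
    have hCn : (cmFam Fam hFam).Normal := cmFam_normal Fam hFam hFamc
    set D : Subgroup G := N ⊓ cmFam Fam hFam with hD
    have hDn : D.Normal := inferInstance
    have hgD : g ∈ D := by
      refine ⟨hgN, ?_⟩
      rintro p ⟨U, V, hUV, hUK, rfl⟩ s hs
      exact hg U V hUV hUK s hs
    have hDM : ∀ M : Subgroup G, M ≤ D → ∀ U V : Subgroup G, IsChief U V → U ≤ K →
        ⁅U, M⁆ ≤ V := by
      intro M hMD U V hUV hUK
      rw [Subgroup.commutator_le]
      intro u hu m hm
      have := (hMD hm).2 ((U : Set G), V) ⟨U, V, hUV, hUK, rfl⟩ u hu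
      rwa [commutatorElement_def]
    have claim : ∀ (k : ℕ) (M : Subgroup G), M.Normal → M ≤ D → dser M k = ⊥ → M ≤ K := by
      intro k
      induction k with
      | zero =>
        intro M _ _ h
        change M = ⊥ at h
        rw [h]
        exact bot_le
      | succ k ih =>
        intro M hMn hMD h
        rw [dser_succ_eq] at h
        have hMMn : (⁅M, M⁆ : Subgroup G).Normal := inferInstance
        have h1 : ⁅M, M⁆ ≤ K := ih ⁅M, M⁆ hMMn ((commutator_self_le M).trans hMD) h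
        obtain ⟨n, hn⟩ := exists_icomm_eq_bot K M (hDM M hMD) (Nat.card K) K hKn le_rfl le_rfl
        have h2 : ∀ j, M.lowerCentralSeries (j + 1) ≤ icomm M K j := by
          intro j
          induction j with
          | zero => exact h1
          | succ j ihj =>
            rw [Subgroup.lowerCentralSeries_succ]
            exact Subgroup.commutator_mono ihj le_rfl
        have h3 : M.lowerCentralSeries (n + 1) = ⊥ := by
          rw [eq_bot_iff, ← hn]
          exact h2 n
        have hMnil : Group.IsNilpotent ↥M :=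
          (Subgroup.isNilpotent_iff_lowerCentralSeries M).2 ⟨n + 1, h3⟩
        exact hle_K M hMn (hMD.trans inf_le_left) hMnil
    have hDsolv : Group.IsSolvable ↥D := by
      have := hG
      infer_instance
    obtain ⟨k, hk⟩ := exists_dser_eq_bot D hDsolv
    exact claim k D hDn le_rfl hk hgD
  refine ⟨⟨hAB, fun h => hCA ⟨h.1, fun U V hUV _ => h.2 U V hUV⟩⟩,
    ⟨fun h => ⟨(hAB h).1, fun U V hUV _ => (hAB h).2 U V hUV⟩, hCA⟩⟩

end Cfsg.Agent.S3766
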