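import Cfsg.Statements.S1972
import Cfsg.Agent.Lib.Helper54_MinFail
import Cfsg.Agent.Lib.Helper54_FunctorTransfer
import Cfsg.Agent.Lib.Helper33_WTransfer
import Cfsg.Agent.Lib.Helper34_NPC
import Cfsg.Agent.S1970

set_option autoImplicit false
universe u
open Cfsg

namespace Cfsg.Agent.S1972

open Cfsg.Agent.Lib.Helper54_FunctorTransfer Cfsg.Agent.Lib.Helper54_MinFail
  Cfsg.Agent.Lib.Helper34_NPC Cfsg.Agent.Lib.Helper33_WTransfer

/-- a section other than the whole group has smaller order -/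
theorem card_section_lt {X : Type*} [Group X] [Finite X] (K R : Subgroup X)
    [hn : (R.subgroupOf K).Normal] (h : K = ⊤ → R ≠ ⊥) :
    Nat.card (↥K ⧸ R.subgroupOf K) < Nat.card X := by
  by_cases hK : K = ⊤
  · have hR := h hK
    subst hK
    rw [← Subgroup.index_eq_card]
    have h1 : (R.subgroupOf ⊤).index = R.index := Subgroup.relIndex_top_right R
    rw [h1]
    have h2 := R.card_mul_index
    have h3 : 1 < Nat.card R := (Subgroup.one_lt_card_iff_ne_bot R).mpr hR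
    have h4 : 0 < R.index := Nat.pos_of_ne_zero Subgroup.index_ne_zero_of_finite
    nlinarith
  · exact lt_of_le_of_lt (Nat.card_le_card_of_surjective _ (QuotientGroup.mk'_surjective _))
      (card_subgroup_lt K hK)

/-- the main induction for S1972 -/
theorem main'' {G : Type u} [Group G] [Finite G] {p : ℕ} [Fact p.Prime]
    (W : ∀ (Q : Type u) [Group Q], Subgroup Q) (hW : Cfsg.IsCharPFunctor.{u} p W)
    (hloc : ∀ (K R : Subgroup G) [hR : (R.subgroupOf K).Normal], Subgroup.centralizer ((Cfsg.pCore p (↥K ⧸ R.subgroupOf K) : Subgroup (↥K ⧸ R.subgroupOf K)) : Set (↥K ⧸ R.subgroupOf K)) ≤ Cfsg.pCore p (↥K ⧸ R.subgroupOf K) → ∀ T : Sylow p (↥K ⧸ R.subgroupOf K), ¬ (Cfsg.inducedFunctor (G := (↥K ⧸ R.subgroupOf K)) W ((T : Subgroup (↥K ⧸ R.subgroupOf K)))).Normal → ∃ g : (↥K ⧸ R.subgroupOf K), g ∈ (T : Subgroup (↥K ⧸ R.subgroupOf K)) ∧ g ∉ Cfsg.pCore p (↥K ⧸ R.subgroupOf K) ∧ ∀ U V : Subgroup (↥K ⧸ R.subgroupOf K), Cfsg.IsChiefFactor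 U V → U ≤ Cfsg.pCore p (↥K ⧸ R.subgroupOf K) → Cfsg.iterCommutator U (Subgroup.zpowers g) (p - 1) ≤ V) :
    ∀ n : ℕ, ∀ (K R : Subgroup G) [hn : (R.subgroupOf K).Normal],
      Nat.card (↥K ⧸ R.subgroupOf K) = n → FCT p {W} (↥K ⧸ R.subgroupOf K) := by
  intro n
  induction n using Nat.strong_induction_on with
  | _ n ih =>
  intro K R hn hcard
  have h𝓦 := Cfsg.Agent.S1970.isChar_singleton hW
  have hfin : Finite (↥K ⧸ R.subgroupOf K) := inferInstance
  by_contra hX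
  have hπ : Function.Surjective (QuotientGroup.mk' (R.subgroupOf K)) :=
    QuotientGroup.mk'_surjective _
  have hmf : MinFail p {W} (↥K ⧸ R.subgroupOf K) := by
    refine minFail_of_hsec h𝓦 ?_ hX
    intro K' R' hR' hKR'
    have hlt : Nat.card (↥K' ⧸ R'.subgroupOf K') < n := hcard ▸ card_section_lt K' R' hKR'
    have hZG : Cfsg.Involves (↥K' ⧸ R'.subgroupOf K') G :=
      involves_of_subgroup K (involves_of_surjective _ hπ ⟨K', R', hR', ⟨MulEquiv.refl _⟩⟩)
    obtain ⟨K₂, R₂, hn₂, ⟨e₂⟩⟩ := hZG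
    have hfin₂ : Finite (↥K₂ ⧸ R₂.subgroupOf K₂) := inferInstance
    have hcard₂ : Nat.card (↥K₂ ⧸ R₂.subgroupOf K₂) < n := by
      rw [Nat.card_congr e₂.toEquiv]; exact hlt
    exact FCT.of_equiv h𝓦 e₂ (ih _ hcard₂ K₂ R₂ rfl)
  have hcon := hmf.constrained h𝓦
  obtain ⟨S⟩ : Nonempty (Sylow p (↥K ⧸ R.subgroupOf K)) := inferInstance
  by_cases hWn : (Cfsg.inducedFunctor (G := (↥K ⧸ R.subgroupOf K)) W
      ((S : Subgroup (↥K ⧸ R.subgroupOf K)))).Normal
  · apply hX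
    apply FCT.of_le S
    have hmem : Cfsg.inducedFunctor (G := (↥K ⧸ R.subgroupOf K)) W ∈
        ind {W} (↥K ⧸ R.subgroupOf K) := ⟨W, rfl, rfl⟩
    have h1 := le_DD_top hmem (S : Subgroup (↥K ⧸ R.subgroupOf K))
    rw [Subgroup.normalizer_eq_top_iff.mpr hWn] at h1
    exact h1
  · obtain ⟨g, hgS, hgP, hall⟩ := hloc K R hcon S hWn
    obtain ⟨U, V, hch, hUP, hnot⟩ := hmf.exists_chief h𝓦 ⟨W, rfl⟩ S hgS hgP
    exact hnot (hall U V hch hUP)

/-- Let p be a prime, G a finite group and W an isomorphism-invariant p-group functor (W assigns to every group Q a subgroup W(Q), nontrivial whenever Q is a nontrivial finite p-group, and every isomorphism from a finite p-group Q onto a group R carries W(Q) onto W(R)). Suppose that whenever G* = K/R is a section of G with C_{G*}(O_p(G*)) ≤ O_p(G*) and S* is a Sylow p-subgroup of G* with W(S*) not normal in G*, there is an element g of S* outside O_p(G*) such that [X, g, …, g] ≤ Y with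 p − 1 entries g, for every chief factor X/Y of G* with X ≤ O_p(G*). Then W controls transfer in every section of G. -/
theorem result {G : Type u} [Group G] [Finite G] {p : ℕ} [Fact p.Prime] (W : ∀ (Q : Type u) [Group Q], Subgroup Q) (hW : Cfsg.IsCharPFunctor.{u} p W) (hloc : ∀ (K R : Subgroup G) [hR : (R.subgroupOf K).Normal], Subgroup.centralizer ((Cfsg.pCore p (↥K ⧸ R.subgroupOf K) : Subgroup (↥K ⧸ R.subgroupOf K)) : Set (↥K ⧸ R.subgroupOf K)) ≤ Cfsg.pCore p (↥K ⧸ R.subgroupOf K) → ∀ T : Sylow p (↥K ⧸ R.subgroupOf K), ¬ (Cfsg.inducedFunctor (G := (↥K ⧸ R.subgroupOf K)) W ((T : Subgroup (↥K ⧸ R.subgroupOf K)))).Normal → ∃ g : (↥K ⧸ R.subgroupOf K), g ∈ (T : Subgroup (↥K ⧸ R.subgroupOf K)) ∧ g ∉ Cfsg.pCore p (↥K ⧸ R.subgroupOf K) ∧ ∀ U V : Subgroup (↥K ⧸ R.subgroupOf K), Cfsg.IsChiefFactor U V → U ≤ Cfsg.pCore p (↥K ⧸ R.subgroupOf K) → Cfsg.iterCommutator U (Subgroup.zpowers g) (p - 1) ≤ V) : ∀ (K R : Subgroup G) [hR : (R.subgroupOf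 K).Normal], Cfsg.ControlsTransferIn p (Cfsg.inducedFunctor (G := (↥K ⧸ R.subgroupOf K)) W) ⊤ := by
  intro K R hR
  have h := main'' W hW hloc _ K R rfl
  unfold FCT ind at h
  rw [Set.image_singleton] at h
  exact Cfsg.Agent.Lib.Helper33_WTransfer.controlsTransfer_iff_singleton.mpr h

end Cfsg.Agent.S1972
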