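import Cfsg.Statements.S1984
import Cfsg.Agent.S1970
import Cfsg.Agent.S1972
import Cfsg.Agent.Lib.Helper54_KInf
import Cfsg.Agent.Lib.Helper54_KInfEngel
import Cfsg.Agent.Lib.Helper54_FunctorTransfer
import Cfsg.Agent.Lib.Helper33_WTransfer

set_option autoImplicit false
universe u
open Cfsg

namespace Cfsg.Agent.S1984

/-- transfer control for a functor satisfying the local Engel condition of `S1972`, in `G` itself -/
theorem controls_of_engel {G : Type u} [Group G] [Finite G] {p : ℕ} [Fact p.Prime] (hp : 5 ≤ p)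
    (W : ∀ (Q : Type u) [Group Q], Subgroup Q) (hW : Cfsg.IsCharPFunctor.{u} p W)
    (hloc : ∀ (X : Type u) [Group X] [Finite X] (T : Sylow p X),
      ¬ (Cfsg.inducedFunctor (G := X) W (T : Subgroup X)).Normal →
      ∃ g : X, g ∈ (T : Subgroup X) ∧ g ∉ Cfsg.pCore p X ∧
        Cfsg.Agent.Lib.Helper54_KInfEngel.Good (Subgroup.zpowers g) 4 (Cfsg.pCore p X)) :
    Cfsg.ControlsTransferIn p (Cfsg.inducedFunctor (G := G) W) ⊤ := by
  classical
  have h𝓦 := Cfsg.Agent.S1970.isChar_singleton hW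
  have hsec := Cfsg.Agent.S1972.main'' (G := G) (p := p) W hW
    (by
      intro K R hR _ T hT
      obtain ⟨g, hgT, hgR, hgood⟩ := hloc _ T hT
      refine ⟨g, hgT, hgR, ?_⟩
      intro U V hch hU
      exact Cfsg.Agent.Lib.Helper54_KInfEngel.good_of_le hgood (by omega) U V hch hU)
    _ ⊤ ⊥ rfl
  let e : (↥(⊤ : Subgroup G) ⧸ (⊥ : Subgroup G).subgroupOf ⊤) ≃* G :=
    (QuotientGroup.quotientMulEquivOfEq (Subgroup.bot_subgroupOf ⊤)).trans
      (QuotientGroup.quotientBot.trans Subgroup.topEquiv)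
  have h := Cfsg.Agent.Lib.Helper54_FunctorTransfer.FCT.of_equiv h𝓦 e hsec
  unfold Cfsg.Agent.Lib.Helper54_FunctorTransfer.FCT Cfsg.Agent.Lib.Helper54_FunctorTransfer.ind at h
  rw [Set.image_singleton] at h
  exact Cfsg.Agent.Lib.Helper33_WTransfer.controlsTransfer_iff_singleton.mpr h

/-- Let p ≥ 5 be a prime and G a finite group. Then the lower K-infinity subgroup controls transfer in G: for some (equivalently, every) Sylow p-subgroup S of G, S ∩ G' = S ∩ (N_G(K))', where K is the lower K-infinity subgroup of S. -/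
theorem result {G : Type u} [Group G] [Finite G] {p : ℕ} [Fact p.Prime] (hp : 5 ≤ p) : Cfsg.ControlsTransferIn p (Cfsg.inducedFunctor (G := G) Cfsg.kInfLower) ⊤ := by
  exact controls_of_engel hp (fun Q _ => Cfsg.kInfLower Q)
    (Cfsg.Agent.Lib.Helper54_KInf.isCharPFunctor_kInfLower p)
    (fun X _ _ T hT =>
      Cfsg.Agent.Lib.Helper54_KInfEngel.exists_engel_of_not_normal T (Or.inl hT))

end Cfsg.Agent.S1984
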