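import Mathlib
import Cfsg.Statements.S0300
import Cfsg.Agent.Lib.Helper5_OmegaCenter
import Cfsg.Agent.Lib.Helper5_OmegaIndex
import Cfsg.Agent.Lib.Helper5_O4Minus
import Cfsg.Agent.Lib.Helper5_PSLCard
import Cfsg.Agent.Lib.Helper5_SpPerfect
import Cfsg.Agent.Lib.Helper44_StdForms
import Cfsg.Agent.Lib.Helper44_Orth
import Cfsg.Agent.Lib.Helper14_NegOne
import Cfsg.Agent.Lib.Helper61_TableHom
import Cfsg.Agent.S0287
import Cfsg.Agent.S0288
import Cfsg.Agent.S0294

set_option autoImplicit false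
set_option linter.unusedSimpArgs false
open Cfsg

namespace Cfsg.Agent.S0300

open Matrix Cfsg.Agent.Lib.Helper5_OmegaCenter Cfsg.Agent.Lib.Helper5_OmegaIndex
  Cfsg.Agent.Lib.Helper44_StdForms Cfsg.Agent.Lib.Helper5_O4Minus

theorem commutator_le_of_index_two {G : Type*} [Group G] (H : Subgroup G) (h : H.index = 2) :
    commutator G ≤ H := by
  have := Subgroup.normal_of_index_eq_two h
  rw [← Subgroup.Normal.quotient_commutative_iff_commutator_le]
  have hc : Nat.card (G ⧸ H) = 2 := h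
  have : Fact (Nat.Prime 2) := ⟨Nat.prime_two⟩
  have : IsCyclic (G ⧸ H) := isCyclic_of_prime_card hc
  exact IsCyclic.isMulCommutative

section
variable {F : Type*} [Field F] (a b : F)

def e1 : I4m → F := Pi.single (Sum.inl (Sum.inl 0)) 1
def f1 : I4m → F := Pi.single (Sum.inl (Sum.inr 0)) 1

lemma polar_mi (x y : I4m → F) : QuadraticMap.polar (⇑(qfMinus 1 F a b)) x y =
    (x (Sum.inl (Sum.inl 0)) * y (Sum.inl (Sum.inr 0)) + y (Sum.inl (Sum.inl 0)) * x (Sum.inl (Sum.inr 0))) +
    (2 * x (Sum.inr 0) * y (Sum.inr 0) + a * (x (Sum.inr 0) * y (Sum.inr 1) + y (Sum.inr 0) * x (Sum.inr 1))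
      + 2 * b * x (Sum.inr 1) * y (Sum.inr 1)) := by
  rw [coe_qfMinus, polar_quadFormMinus, Fin.sum_univ_one]

lemma Q_mi (x : I4m → F) : qfMinus 1 F a b x =
    x (Sum.inl (Sum.inl 0)) * x (Sum.inl (Sum.inr 0)) +
      (x (Sum.inr 0) ^ 2 + a * x (Sum.inr 0) * x (Sum.inr 1) + b * x (Sum.inr 1) ^ 2) := by
  rw [coe_qfMinus]
  simp [Cfsg.quadFormMinus, Fin.sum_univ_one]

lemma star4m (hab : ∀ z₁ z₂ : F, z₁ ^ 2 + a * z₁ * z₂ + b * z₂ ^ 2 = 0 → z₁ = 0 ∧ z₂ = 0)
    (hnd : ∀ x, (∀ y, QuadraticMap.polar (⇑(qfMinus 1 F a b)) x y = 0) → x = 0) :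
    Star (qfMinus 1 F a b) (e1 : I4m → F) f1 := by
  intro x hxe hxf hx
  apply hnd
  intro v
  -- decompose `v`
  set w : I4m → F := Sum.elim 0 (fun i => v (Sum.inr i)) with hw
  have hv : v = v (Sum.inl (Sum.inl 0)) • e1 + v (Sum.inl (Sum.inr 0)) • f1 + w := by
    ext i
    rcases i with (i | i) | i
    · have : i = 0 := Subsingleton.elim _ _
      subst this; simp [e1, f1, hw]
    · have : i = 0 := Subsingleton.elim _ _
      subst this; simp [e1, f1, hw]
    · simp [e1, f1, hw]
  have hxw : QuadraticMap.polar (⇑(qfMinus 1 F a b)) x w = 0 := by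
    by_cases hQw : qfMinus 1 F a b w = 0
    · have : w = 0 := by
        rw [Q_mi] at hQw
        simp [hw] at hQw
        obtain ⟨h0, h1⟩ := hab _ _ hQw
        ext i
        rcases i with (i | i) | i
        · simp [hw]
        · simp [hw]
        · fin_cases i
          · simpa [hw] using h0
          · simpa [hw] using h1
      rw [this]
      simp [QuadraticMap.polar]
    · apply hx
      refine ⟨?_, ?_, hQw⟩
      · rw [polar_mi]; simp [e1, hw]
      · rw [polar_mi]; simp [f1, hw]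
  rw [hv, QuadraticMap.polar_add_right, QuadraticMap.polar_add_right, QuadraticMap.polar_smul_right,
    QuadraticMap.polar_smul_right, QuadraticMap.polar_comm _ x e1, QuadraticMap.polar_comm _ x f1, hxe, hxf, hxw]
  simp

end

/-- PΩ^-_4(q) is isomorphic to PSL_2(q^2). -/
theorem result {F K : Type*} [Field F] [Fintype F] [Field K] [Fintype K] {q : ℕ} (hF : Fintype.card F = q) (hK : Fintype.card K = q ^ 2) (a b : F) (hab : ∀ z₁ z₂ : F, z₁ ^ 2 + a * z₁ * z₂ + b * z₂ ^ 2 = 0 → z₁ = 0 ∧ z₂ = 0) : Nonempty (Cfsg.POmega F (Cfsg.quadFormMinus 1 F a b) ≃* Matrix.ProjectiveSpecialLinearGroup (Fin 2) K) := by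
  classical
  subst hF
  have := fact_of_hab a b hab
  let _ : Fintype (KK a b) := fintypeKK a b
  have hcardKK : Fintype.card (KK a b) = Fintype.card F ^ 2 := card_KK a b
  have hcardO := Cfsg.Agent.S0288.card_minus a b hab 1
  rw [← coe_qfMinus 1 F a b] at hcardO ⊢
  set Q := qfMinus 1 F a b with hQdef
  have hdisc := Cfsg.Agent.S0288.disc_ne_zero a b hab
  have hnd := Cfsg.Agent.S0288.nondeg_qfMinus a b hdisc 1
  have hQ := Cfsg.Agent.S0294.nondegenerate_of_hnd Q hnd
  have hq : 2 ≤ Fintype.card F := Fintype.one_lt_card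
  have hq4 : 4 ≤ Fintype.card (KK a b) := by
    rw [hcardKK]
    nlinarith
  -- the image lies in Ω
  have hle : (rho4m a b).range ≤ Cfsg.Omega F (⇑Q) := by
    rintro _ ⟨g, rfl⟩
    obtain ⟨c, hc, hcsq⟩ := Cfsg.Agent.Lib.Helper5_SpPerfect.exists_sq_ne_one (F := KK a b) hq4
    have hperf := Matrix.SL2.commutator_eq_top hc hcsq
    have hg : g ∈ commutator (SpecialLinearGroup (Fin 2) (KK a b)) := by rw [hperf]; trivial
    exact Cfsg.Agent.Lib.Helper44_Orth.map_mem_commutator (rho4m a b) hg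
  have hSL := Cfsg.Agent.Lib.Helper5_PSLCard.card_SL_two (F := KK a b)
  rw [hcardKK] at hSL
  have hker := Subgroup.card_eq_card_quotient_mul_card_subgroup (rho4m a b).ker
  rw [Nat.card_congr (QuotientGroup.quotientKerEquivRange (rho4m a b)).toEquiv, hSL] at hker
  have hN : 2 * Fintype.card F ^ ((1 + 1) * 1) * (Fintype.card F ^ (1 + 1) + 1)
        * ∏ i ∈ Finset.range 1, (Fintype.card F ^ (2 * (i + 1)) - 1) =
      2 * (Fintype.card F ^ 2 * ((Fintype.card F ^ 2) ^ 2 - 1)) := by
    simp only [Finset.prod_range_succ, Finset.prod_range_zero]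
    norm_num
    have := Cfsg.Agent.S0287.arith2 (Fintype.card F) 1 (by omega)
    norm_num at this
    rw [← pow_mul, ← this]
    ring
  rw [hN] at hcardO
  have heq : (rho4m a b).range = Cfsg.Omega F (⇑Q) := by
    by_cases h2 : (2 : F) = 0
    · -- characteristic two: the image has index two
      apply le_antisymm hle
      apply commutator_le_of_index_two
      have hmul := Subgroup.card_mul_index (rho4m a b).range
      rw [hcardO] at hmul
      rw [ker_eq_bot_of_two a b h2, Subgroup.card_bot, mul_one] at hker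
      rw [← hker] at hmul
      have hpos : 0 < Fintype.card F ^ 2 * ((Fintype.card F ^ 2) ^ 2 - 1) := by
        apply Nat.mul_pos (by positivity)
        have : 4 ≤ (Fintype.card F ^ 2) ^ 2 := by nlinarith
        omega
      nlinarith
    · have hmul := Subgroup.card_mul_index (Cfsg.Omega F (⇑Q))
      have hidx := index_omega_odd h2 Q hQ (by simp)
      rw [hcardO, hidx] at hmul
      have h3 : Nat.card ↥(rho4m a b).range * Nat.card ↥(rho4m a b).ker
          ≤ Nat.card ↥(rho4m a b).range * 2 := Nat.mul_le_mul_left _ (card_ker_le_two a b)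
      have hcard : Nat.card ↥(Cfsg.Omega F (⇑Q)) ≤ Nat.card ↥(rho4m a b).range := by
        generalize Fintype.card F ^ 2 * ((Fintype.card F ^ 2) ^ 2 - 1) = N at hmul hker
        omega
      exact Subgroup.eq_of_le_of_card_ge hle hcard
  -- the centre of Ω is trivial
  have he : Q e1 = 0 := by rw [Q_mi]; simp [e1]
  have hf : Q f1 = 0 := by rw [Q_mi]; simp [f1]
  have hef : QuadraticMap.polar (⇑Q) e1 f1 = 1 := by rw [polar_mi]; simp [e1, f1]
  have hw₀ : NS Q (e1 : I4m → F) f1 (Pi.single (Sum.inr 0) 1) := by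
    refine ⟨?_, ?_, ?_⟩
    · rw [polar_mi]; simp [e1]
    · rw [polar_mi]; simp [f1]
    · rw [Q_mi]; simp
  have hneg : ∀ z : ↥(Cfsg.Omega F (⇑Q)),
      ((z : ↥(Cfsg.isometryGroup F (⇑Q))) : Matrix.GeneralLinearGroup I4m F).1 = -1 → z = 1 := by
    intro z hz
    by_cases h2 : (2 : F) = 0
    · apply Subtype.ext
      apply Subtype.ext
      apply Units.ext
      have hz' : ((z.1.1 : Matrix.GeneralLinearGroup I4m F) : Matrix I4m I4m F) = -1 := hz
      rw [hz']
      have h11 : (-1 : F) = 1 := by linear_combination -h2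
      ext i j
      show (-1 : Matrix _ _ F) i j = (1 : Matrix _ _ F) i j
      rw [Matrix.neg_apply]
      by_cases hij : i = j
      · rw [hij, Matrix.one_apply_eq, h11]
      · rw [Matrix.one_apply_ne hij, neg_zero]
    · exfalso
      have hiff := Cfsg.Agent.Lib.Helper14_NegOne.exists_neg_one_mem_omega_iff h2 Q hQ (by simp; decide)
      have hdet : (Matrix.of (fun i j : I4m =>
          QuadraticMap.polar (⇑Q) (Pi.single i 1) (Pi.single j 1))).det
          = (-1) ^ 1 * (4 * b - a ^ 2) := by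
        rw [hQdef, coe_qfMinus]; exact det_gram_quadFormMinus a b
      rw [hdet, Cfsg.Agent.S0294.isSquare_disc_iff h2 a b hab 1] at hiff
      have := hiff.mp ⟨z.1, z.2, hz⟩
      exact absurd this.1 (by decide)
  have hcenΩ : Subgroup.center ↥(Cfsg.Omega F (⇑Q)) = ⊥ :=
    center_omega_eq_bot Q hnd he hf hef (star4m a b hab hnd) hw₀ hneg
  -- the induced map onto PΩ
  let ρ' : SpecialLinearGroup (Fin 2) (KK a b) →* ↥(Cfsg.Omega F (⇑Q)) :=
    (rho4m a b).codRestrict (Cfsg.Omega F (⇑Q)) (fun g => hle ⟨g, rfl⟩)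
  have hsurjρ : Function.Surjective ρ' := by
    intro ω
    have : ω.1 ∈ (rho4m a b).range := by rw [heq]; exact ω.2
    obtain ⟨g, hg⟩ := this
    exact ⟨g, Subtype.ext hg⟩
  let φ : SpecialLinearGroup (Fin 2) (KK a b) →* Cfsg.POmega F (⇑Q) :=
    (QuotientGroup.mk' (Subgroup.center ↥(Cfsg.Omega F (⇑Q)))).comp ρ'
  have hsurj : Function.Surjective φ :=
    (QuotientGroup.mk'_surjective _).comp hsurjρ
  have hkerφ : φ.ker = Subgroup.center (SpecialLinearGroup (Fin 2) (KK a b)) := by
    ext g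
    rw [MonoidHom.mem_ker]
    show (QuotientGroup.mk (ρ' g) : Cfsg.POmega F (⇑Q)) = 1 ↔ _
    rw [QuotientGroup.eq_one_iff]
    constructor
    · intro h
      rw [hcenΩ, Subgroup.mem_bot] at h
      apply ker_le_center a b
      rw [MonoidHom.mem_ker]
      exact congrArg Subtype.val h
    · intro hg
      rw [Subgroup.mem_center_iff]
      intro ω
      obtain ⟨h, rfl⟩ := hsurjρ ω
      rw [← map_mul, ← map_mul, Subgroup.mem_center_iff.mp hg h]
  have e : KK a b ≃+* K := FiniteField.ringEquivOfCardEq (by rw [hcardKK, hK])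
  exact ⟨((QuotientGroup.quotientKerEquivOfSurjective φ hsurj).symm.trans
    (QuotientGroup.quotientMulEquivOfEq hkerφ)).trans (Cfsg.Agent.Lib.Helper61_TableHom.pslEquiv e)⟩

end Cfsg.Agent.S0300
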