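import Cfsg.Statements.S3920

set_option autoImplicit false
open Cfsg

namespace Cfsg.Agent.S3920

open DihedralGroup

/-- A non-cyclic subgroup of a dihedral group contains a reflection and a nontrivial rotation. -/
theorem exists_sr_r (n : ℕ) (H : Subgroup (DihedralGroup n)) (hH : ¬ IsCyclic ↥H) :
    ∃ i j : ZMod n, sr i ∈ H ∧ r j ∈ H ∧ j ≠ 0 := by
  by_cases h1 : ∃ i : ZMod n, sr i ∈ H
  · obtain ⟨i, hi⟩ := h1
    by_cases h2 : ∃ j : ZMod n, r j ∈ H ∧ j ≠ 0
    · obtain ⟨j, hj, hj0⟩ := h2
      exact ⟨i, j, hi, hj, hj0⟩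
    · exfalso
      apply hH
      push Not at h2
      have hle : H ≤ Subgroup.zpowers (sr i) := by
        intro g hg
        cases g with
        | r j =>
          have := h2 j hg
          rw [this, r_zero]; exact Subgroup.one_mem _
        | sr i' =>
          have h3 : sr i * sr i' ∈ H := H.mul_mem hi hg
          rw [sr_mul_sr] at h3
          have := h2 _ h3
          have h4 : i' = i := sub_eq_zero.mp this
          rw [h4]; exact Subgroup.mem_zpowers _
      exact Subgroup.isCyclic_of_le hle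
  · exfalso
    apply hH
    push Not at h1
    have hle : H ≤ Subgroup.zpowers (r (1 : ZMod n)) := by
      intro g hg
      cases g with
      | r j =>
        rw [Subgroup.mem_zpowers_iff]
        refine ⟨(j.cast : ℤ), ?_⟩
        rw [r_one_zpow, ZMod.intCast_zmod_cast]
      | sr i => exact absurd hg (h1 i)
    exact Subgroup.isCyclic_of_le hle

theorem two_mul_eq_zero_of_odd (n : ℕ) (hn : Odd n) (k : ZMod n) (h : k + k = 0) : k = 0 := by
  have h2 : IsUnit ((2 : ℕ) : ZMod n) := (ZMod.isUnit_iff_coprime 2 n).mpr (by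
    rw [Nat.coprime_comm]; exact Nat.Coprime.symm (Nat.coprime_two_left.mpr hn))
  have : ((2 : ℕ) : ZMod n) * k = 0 := by push_cast; rw [two_mul]; exact h
  exact (h2.mul_right_eq_zero).mp this

/-- In `ZMod (2^k)`, a nonzero element has a multiple equal to `2^(k-1)`. -/
theorem exists_mul_eq_half (k : ℕ) (j : ZMod (2 ^ k)) (hj : j ≠ 0) :
    ∃ e : ℕ, j * (e : ZMod (2 ^ k)) = ((2 ^ (k - 1) : ℕ) : ZMod (2 ^ k)) := by
  have : NeZero (2 ^ k) := ⟨by positivity⟩
  have hv0 : j.val ≠ 0 := by
    intro h; exact hj ((ZMod.val_eq_zero j).mp h)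
  obtain ⟨a, u, hu, hau⟩ := Nat.exists_eq_two_pow_mul_odd hv0
  have hlt : j.val < 2 ^ k := ZMod.val_lt j
  have hak : a < k := by
    by_contra hge
    push Not at hge
    have h1 : 2 ^ k ≤ 2 ^ a := Nat.pow_le_pow_right (by norm_num) hge
    have hupos : 1 ≤ u := by
      rcases hu with ⟨v, hv⟩; omega
    have : 2 ^ a ≤ 2 ^ a * u := Nat.le_mul_of_pos_right _ hupos
    omega
  refine ⟨2 ^ (k - 1 - a), ?_⟩
  obtain ⟨v, hv⟩ := hu
  have hj' : j = ((j.val : ℕ) : ZMod (2 ^ k)) := (ZMod.natCast_zmod_val j).symm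
  rw [hj', ← Nat.cast_mul, hau]
  have : 2 ^ a * u * 2 ^ (k - 1 - a) = 2 ^ k * v + 2 ^ (k - 1) := by
    have e1 : 2 ^ a * 2 ^ (k - 1 - a) = 2 ^ (k - 1) := by
      rw [← pow_add]; congr 1; omega
    have e2 : 2 ^ k = 2 ^ (k - 1) * 2 := by
      rw [← pow_succ]; congr 1; omega
    calc 2 ^ a * u * 2 ^ (k - 1 - a) = (2 ^ a * 2 ^ (k - 1 - a)) * u := by ring
      _ = 2 ^ (k - 1) * (2 * v + 1) := by rw [e1, hv]
      _ = 2 ^ k * v + 2 ^ (k - 1) := by rw [e2]; ring
  rw [this, Nat.cast_add, Nat.cast_mul, ZMod.natCast_self, zero_mul, zero_add]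

theorem eq_zero_or_half (k : ℕ) (hk : 1 ≤ k) (m : ZMod (2 ^ k)) (h : m + m = 0) :
    m = 0 ∨ m = ((2 ^ (k - 1) : ℕ) : ZMod (2 ^ k)) := by
  have : NeZero (2 ^ k) := ⟨by positivity⟩
  have hm' : m = ((m.val : ℕ) : ZMod (2 ^ k)) := (ZMod.natCast_zmod_val m).symm
  have hlt : m.val < 2 ^ k := ZMod.val_lt m
  have h1 : ((m.val + m.val : ℕ) : ZMod (2 ^ k)) = 0 := by
    rw [Nat.cast_add, ← hm']; exact h
  rw [ZMod.natCast_eq_zero_iff] at h1
  obtain ⟨c, hc⟩ := h1
  have e2 : 2 ^ k = 2 ^ (k - 1) * 2 := by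
    rw [← pow_succ]; congr 1; omega
  have hc2 : c < 2 := by
    by_contra hge
    push Not at hge
    have : 2 ^ k * 2 ≤ 2 ^ k * c := Nat.mul_le_mul_left _ hge
    omega
  interval_cases c
  · left
    have : m.val = 0 := by omega
    exact (ZMod.val_eq_zero m).mp this
  · right
    have : m.val = 2 ^ (k - 1) := by omega
    rw [hm', this]

/-- The subgroup of rotations and reflections with index in a given additive subgroup. -/
def subDihedral (n : ℕ) (S : AddSubgroup (ZMod n)) : Subgroup (DihedralGroup n) where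
  carrier := {g | match g with | r i => i ∈ S | sr i => i ∈ S}
  mul_mem' := by
    intro a b ha hb
    cases a with
    | r i =>
      cases b with
      | r j => exact S.add_mem ha hb
      | sr j => exact S.sub_mem hb ha
    | sr i =>
      cases b with
      | r j => exact S.add_mem ha hb
      | sr j => exact S.sub_mem hb ha
  one_mem' := by
    show (match (1 : DihedralGroup n) with | r i => i ∈ S | sr i => i ∈ S)
    rw [one_def]; exact S.zero_mem
  inv_mem' := by
    intro a ha
    cases a with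
    | r i => exact S.neg_mem ha
    | sr i => exact ha

theorem r_mem_subDihedral (n : ℕ) (S : AddSubgroup (ZMod n)) (i : ZMod n) :
    r i ∈ subDihedral n S ↔ i ∈ S := Iff.rfl

theorem sr_mem_subDihedral (n : ℕ) (S : AddSubgroup (ZMod n)) (i : ZMod n) :
    sr i ∈ subDihedral n S ↔ i ∈ S := Iff.rfl


theorem backward_odd (n : ℕ) (hodd : Odd n) (H : Subgroup (DihedralGroup n)) (hH : ¬ IsCyclic ↥H) :
    Subgroup.centralizer (H : Set (DihedralGroup n)) ≤ H := by
  obtain ⟨i, j, hi, hj, hj0⟩ := exists_sr_r n H hH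
  intro z hz
  rw [Subgroup.mem_centralizer_iff] at hz
  cases z with
  | r k =>
    have h1 := hz (sr i) hi
    rw [sr_mul_r, r_mul_sr] at h1
    have h2 : i + k = i - k := by simpa using h1
    have h3 : k + k = 0 := by
      have := congrArg (fun t => t - i + k) h2
      simpa [add_sub_cancel_left] using this
    rw [two_mul_eq_zero_of_odd n hodd k h3, r_zero]
    exact H.one_mem
  | sr k =>
    exfalso
    have h1 := hz (r j) hj
    rw [r_mul_sr, sr_mul_r] at h1
    have h2 : k - j = k + j := by simpa using h1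
    have h3 : j + j = 0 := by
      have := congrArg (fun t => t - k + j) h2
      have e1 : k - j - k + j = 0 := by ring
      have e2 : k + j - k + j = j + j := by ring
      rw [e1, e2] at this
      exact this.symm
    exact hj0 (two_mul_eq_zero_of_odd n hodd j h3)

theorem backward_pow (k : ℕ) (hk : 1 ≤ k) (H : Subgroup (DihedralGroup (2 ^ k))) (hH : ¬ IsCyclic ↥H) :
    Subgroup.centralizer (H : Set (DihedralGroup (2 ^ k))) ≤ H := by
  obtain ⟨i, j, hi, hj, hj0⟩ := exists_sr_r _ H hH
  obtain ⟨e, he⟩ := exists_mul_eq_half k j hj0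
  have hhalf : r ((2 ^ (k - 1) : ℕ) : ZMod (2 ^ k)) ∈ H := by
    rw [← he, ← r_pow]
    exact H.pow_mem hj e
  intro z hz
  rw [Subgroup.mem_centralizer_iff] at hz
  cases z with
  | r m =>
    have h1 := hz (sr i) hi
    rw [sr_mul_r, r_mul_sr] at h1
    have h2 : i + m = i - m := by simpa using h1
    have h3 : m + m = 0 := by
      have := congrArg (fun t => t - i + m) h2
      simpa [add_sub_cancel_left] using this
    rcases eq_zero_or_half k hk m h3 with h | h
    · rw [h, r_zero]; exact H.one_mem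
    · rw [h]; exact hhalf
  | sr m =>
    have h1 := hz (sr i) hi
    rw [sr_mul_sr, sr_mul_sr] at h1
    have h2 : m - i = i - m := by simpa using h1
    have h3 : (m - i) + (m - i) = 0 := by
      nth_rewrite 2 [h2]; ring
    rcases eq_zero_or_half k hk (m - i) h3 with h | h
    · have : m = i := sub_eq_zero.mp h
      rw [this]; exact hi
    · have : sr m = sr i * r ((2 ^ (k - 1) : ℕ) : ZMod (2 ^ k)) := by
        rw [sr_mul_r, ← h]; congr 1; ring
      rw [this]; exact H.mul_mem hi hhalf

theorem forward (n : ℕ) (hn : 3 ≤ n) (hnodd : ¬ Odd n) (hnpow : ¬ ∃ k : ℕ, n = 2 ^ k) :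
    ∃ H : Subgroup (DihedralGroup n), ¬ IsCyclic ↥H ∧
      ¬ Subgroup.centralizer (H : Set (DihedralGroup n)) ≤ H := by
  have : NeZero n := ⟨by omega⟩
  obtain ⟨a, m, hm, hnam⟩ := Nat.exists_eq_two_pow_mul_odd (n := n) (by omega)
  have ha : 1 ≤ a := by
    by_contra h
    have : a = 0 := by omega
    rw [this, pow_zero, one_mul] at hnam
    rw [hnam] at hnodd; exact hnodd hm
  have hm1 : m ≠ 1 := by
    intro h
    rw [h, mul_one] at hnam
    exact hnpow ⟨a, hnam⟩
  set d : ZMod n := ((2 ^ a : ℕ) : ZMod n) with hd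
  set S : AddSubgroup (ZMod n) := AddSubgroup.zmultiples d with hS
  set H := subDihedral n S with hHdef
  have hdS : d ∈ S := AddSubgroup.mem_zmultiples d
  have h0S : (0 : ZMod n) ∈ S := S.zero_mem
  refine ⟨H, ?_, ?_⟩
  · -- not cyclic, since not commutative
    intro hc
    have hcomm := (IsCyclic.commGroup (α := ↥H)).mul_comm
      ⟨sr 0, (sr_mem_subDihedral n S 0).mpr h0S⟩ ⟨r d, (r_mem_subDihedral n S d).mpr hdS⟩
    have h1 : sr (0 : ZMod n) * r d = r d * sr 0 := congrArg Subtype.val hcomm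
    rw [sr_mul_r, r_mul_sr] at h1
    have h2 : (0 : ZMod n) + d = 0 - d := by simpa using h1
    have h3 : d + d = 0 := by
      have := congrArg (fun t => t + d) h2
      simpa using this
    rw [hd, ← Nat.cast_add, ZMod.natCast_eq_zero_iff] at h3
    have h4 : n ∣ 2 ^ (a + 1) := by
      rw [pow_succ, mul_two]; exact h3
    obtain ⟨b, _, hb⟩ := (Nat.dvd_prime_pow Nat.prime_two).mp h4
    exact hnpow ⟨b, hb⟩
  · intro hle
    have e2 : 2 ^ a = 2 ^ (a - 1) * 2 := by
      rw [← pow_succ]; congr 1; omega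
    set z : ZMod n := ((2 ^ (a - 1) * m : ℕ) : ZMod n) with hz
    have hzz : z + z = 0 := by
      rw [hz, ← Nat.cast_add, ZMod.natCast_eq_zero_iff]
      have : 2 ^ (a - 1) * m + 2 ^ (a - 1) * m = n := by
        rw [hnam, e2]; ring
      rw [this]
    have hcen : r z ∈ Subgroup.centralizer (H : Set (DihedralGroup n)) := by
      rw [Subgroup.mem_centralizer_iff]
      intro g _
      cases g with
      | r i => rw [r_mul_r, r_mul_r, add_comm]
      | sr i =>
        rw [sr_mul_r, r_mul_sr]
        congr 1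
        have : i + z = i - z + (z + z) := by ring
        rw [this, hzz, add_zero]
    have hzH : r z ∈ H := hle hcen
    rw [hHdef, r_mem_subDihedral, hS, AddSubgroup.mem_zmultiples_iff] at hzH
    obtain ⟨c, hc⟩ := hzH
    -- map to ZMod (2^a)
    have hdvd : 2 ^ a ∣ n := ⟨m, hnam⟩
    let f : ZMod n →+* ZMod (2 ^ a) := ZMod.castHom hdvd (ZMod (2 ^ a))
    have h1 := congrArg f hc
    rw [map_zsmul, hd, hz, map_natCast, map_natCast, ZMod.natCast_self, smul_zero] at h1
    have h2 := h1.symm
    rw [ZMod.natCast_eq_zero_iff] at h2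
    obtain ⟨v, hv⟩ := hm
    obtain ⟨w, hw⟩ := h2
    rw [hv, e2] at hw
    have hpos : 0 < 2 ^ (a - 1) := by positivity
    have : 2 * v + 1 = 2 * w := by
      have h5 : 2 ^ (a - 1) * (2 * v + 1) = 2 ^ (a - 1) * (2 * w) := by
        rw [hw]; ring
      exact Nat.eq_of_mul_eq_mul_left hpos h5
    omega

/-- Say that a group has self-centralizing non-cyclic subgroups when every non-cyclic subgroup H satisfies C_G(H) ≤ H. For n ≥ 3, the dihedral group of order 2n has self-centralizing non-cyclic subgroups if and only if n is odd or a power of 2. -/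
theorem result (n : ℕ) (hn : 3 ≤ n) : (∀ H : Subgroup (DihedralGroup n), ¬ IsCyclic ↥H → Subgroup.centralizer (H : Set (DihedralGroup n)) ≤ H) ↔ (Odd n ∨ ∃ k : ℕ, n = 2 ^ k) := by
  constructor
  · intro h
    by_contra hcon
    push Not at hcon
    obtain ⟨H, hH1, hH2⟩ := forward n hn hcon.1 (by push Not; exact hcon.2)
    exact hH2 (h H hH1)
  · rintro (hodd | ⟨k, rfl⟩)
    · exact fun H hH => backward_odd n hodd H hH
    · have hk : 1 ≤ k := by
        by_contra h
        have : k = 0 := by omega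
        rw [this] at hn; omega
      exact fun H hH => backward_pow k hk H hH

end Cfsg.Agent.S3920
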