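import Cfsg.Statements.S3224
import Cfsg.Agent.Lib.Helper54_TwoGroups
-- import your own Cfsg.Agent.* helpers here

set_option autoImplicit false
open Cfsg

namespace Cfsg.Agent.S3224

open Cfsg.Agent.Lib.Helper54_TwoGroups

/-- In a non-cyclic group of order `2 ^ (m + 1)` there is a normal subgroup `N` of order at most
`2 ^ (m - 1)` containing all commutators and all squares. -/
theorem exists_normal_index_four {S : Type*} [Group S] [Finite S] (m : ℕ) (hm : 1 ≤ m)
    (hcard : Nat.card S = 2 ^ (m + 1)) (hnc : ¬ IsCyclic S) :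
    ∃ N : Subgroup S, N.Normal ∧ Nat.card N ≤ 2 ^ (m - 1) ∧
      (∀ a b : S, a * b * a⁻¹ * b⁻¹ ∈ N) ∧ (∀ a : S, a * a ∈ N) := by
  have : Fact (Nat.Prime 2) := ⟨Nat.prime_two⟩
  -- a first subgroup of index 2
  obtain ⟨M₁, hM₁⟩ := Sylow.exists_subgroup_card_pow_prime 2 (n := m)
    (by rw [hcard]; exact pow_dvd_pow 2 (Nat.le_succ m))
  have hidx : ∀ M : Subgroup S, Nat.card M = 2 ^ m → M.index = 2 := by
    intro M hM
    have h := M.card_mul_index
    rw [hM, hcard, pow_succ] at h
    exact Nat.eq_of_mul_eq_mul_left (by positivity) h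
  have hM₁top : M₁ ≠ ⊤ := by
    intro h
    have := hidx M₁ hM₁
    rw [h, Subgroup.index_top] at this
    omega
  obtain ⟨g, hg⟩ : ∃ g : S, g ∉ M₁ := by
    by_contra hcon
    push Not at hcon
    exact hM₁top (Subgroup.eq_top_iff' M₁ |>.2 hcon)
  -- the cyclic subgroup generated by `g` is proper, hence inside a second subgroup of index 2
  obtain ⟨j, hj⟩ : ∃ j, Nat.card (Subgroup.zpowers g) = 2 ^ j := by
    have hdvd : Nat.card (Subgroup.zpowers g) ∣ 2 ^ (m + 1) := by
      rw [← hcard]; exact Subgroup.card_subgroup_dvd_card _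
    obtain ⟨j, _, hj⟩ := (Nat.dvd_prime_pow Nat.prime_two).1 hdvd
    exact ⟨j, hj⟩
  have hjm : j ≤ m := by
    by_contra hcon
    push Not at hcon
    have hdvd : Nat.card (Subgroup.zpowers g) ∣ 2 ^ (m + 1) := by
      rw [← hcard]; exact Subgroup.card_subgroup_dvd_card _
    rw [hj] at hdvd
    have hle : j ≤ m + 1 := (Nat.pow_dvd_pow_iff_le_right (by norm_num)).1 hdvd
    have hjeq : j = m + 1 := by omega
    apply hnc
    apply isCyclic_of_orderOf_eq_card g
    rw [← Nat.card_zpowers, hj, hjeq, hcard]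
  obtain ⟨M₂, hM₂, hgM₂⟩ := Sylow.exists_subgroup_card_pow_prime_le 2
    (by rw [hcard]; exact pow_dvd_pow 2 (Nat.le_succ m)) (Subgroup.zpowers g) hj hjm
  have hgM₂' : g ∈ M₂ := hgM₂ (Subgroup.mem_zpowers g)
  have h1 := hidx M₁ hM₁
  have h2 := hidx M₂ hM₂
  have hn1 : M₁.Normal := Subgroup.normal_of_index_eq_two h1
  have hn2 : M₂.Normal := Subgroup.normal_of_index_eq_two h2
  refine ⟨M₁ ⊓ M₂, Subgroup.normal_inf_normal M₁ M₂, ?_, ?_, ?_⟩
  · -- cardinality
    have hlt : M₁ ⊓ M₂ < M₁ := by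
      refine lt_of_le_of_ne inf_le_left ?_
      intro heq
      have hle : M₁ ≤ M₂ := by rw [← heq]; exact inf_le_right
      have : M₁ = M₂ := Subgroup.eq_of_le_of_card_ge hle (by rw [hM₁, hM₂])
      exact hg (this ▸ hgM₂')
    have hdvd : Nat.card ↥(M₁ ⊓ M₂) ∣ 2 ^ m := by
      rw [← hM₁]; exact Subgroup.card_dvd_of_le inf_le_left
    obtain ⟨i, him, hi⟩ := (Nat.dvd_prime_pow Nat.prime_two).1 hdvd
    have hne : i ≠ m := by
      intro h
      have : M₁ ⊓ M₂ = M₁ := Subgroup.eq_of_le_of_card_ge inf_le_left (by rw [hi, h, hM₁])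
      exact (ne_of_lt hlt) this
    rw [hi]
    exact Nat.pow_le_pow_right (by norm_num) (by omega)
  · intro a b
    refine Subgroup.mem_inf.2 ⟨?_, ?_⟩
    · rw [Subgroup.mul_mem_iff_of_index_two h1, Subgroup.mul_mem_iff_of_index_two h1,
        Subgroup.mul_mem_iff_of_index_two h1, Subgroup.inv_mem_iff, Subgroup.inv_mem_iff]
      tauto
    · rw [Subgroup.mul_mem_iff_of_index_two h2, Subgroup.mul_mem_iff_of_index_two h2,
        Subgroup.mul_mem_iff_of_index_two h2, Subgroup.inv_mem_iff, Subgroup.inv_mem_iff]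
      tauto
  · intro a
    refine Subgroup.mem_inf.2 ⟨?_, ?_⟩
    · rw [Subgroup.mul_mem_iff_of_index_two h1]
    · rw [Subgroup.mul_mem_iff_of_index_two h2]

open Finset in
/-- Counting: if `|S| = 2 ^ (m + 1)`, `|C_S(x)| = 4` and `N` has order at most `2 ^ (m - 1)` and contains all
commutators, then `|N| = 2 ^ (m - 1)` and every element of `N` is a commutator `[g, x]`. -/
theorem commutator_surjective {S : Type*} [Group S] [Finite S] (m : ℕ) (hm : 1 ≤ m)
    (hcard : Nat.card S = 2 ^ (m + 1)) (x : S)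
    (hC : Nat.card ↥(Subgroup.centralizer ({x} : Set S)) = 4)
    (N : Subgroup S) (hNcard : Nat.card N ≤ 2 ^ (m - 1))
    (hcomm : ∀ a b : S, a * b * a⁻¹ * b⁻¹ ∈ N) :
    Nat.card N = 2 ^ (m - 1) ∧ ∀ n ∈ N, ∃ g : S, g * x * g⁻¹ * x⁻¹ = n := by
  classical
  have : Fintype S := Fintype.ofFinite S
  set t : Finset S := {a : S | a ∈ N} with ht
  set cen : Finset S := {a : S | a ∈ Subgroup.centralizer ({x} : Set S)} with hcen
  have htcard : #t = Nat.card N := by
    rw [ht, Nat.card_eq_fintype_card, Fintype.card_subtype]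
  have hcencard : #cen = 4 := by
    rw [hcen, ← hC, Nat.card_eq_fintype_card, Fintype.card_subtype]
  have hScard : #(univ : Finset S) = 2 ^ (m + 1) := by
    rw [Finset.card_univ, ← Nat.card_eq_fintype_card, hcard]
  let f : S → S := fun g => g * x * g⁻¹ * x⁻¹
  have hfib : ∀ b : S, #{g ∈ (univ : Finset S) | f g = b} ≤ 4 := by
    intro b
    by_cases hne : ({g ∈ (univ : Finset S) | f g = b}).Nonempty
    · obtain ⟨g₀, hg₀⟩ := hne
      simp only [mem_filter, mem_univ, true_and] at hg₀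
      rw [← hcencard]
      apply Finset.card_le_card_of_injOn (fun g => g₀⁻¹ * g)
      · intro g hg
        simp only [coe_filter, mem_univ, true_and, Set.mem_ofPred_eq] at hg
        simp only [hcen, coe_filter, mem_univ, true_and, Set.mem_ofPred_eq,
          Subgroup.mem_centralizer_singleton_iff]
        have h1 : g * x * g⁻¹ = g₀ * x * g₀⁻¹ := by
          have : f g = f g₀ := by rw [hg, hg₀]
          exact mul_right_cancel this
        calc g₀⁻¹ * g * x = g₀⁻¹ * (g * x * g⁻¹) * g := by group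
          _ = g₀⁻¹ * (g₀ * x * g₀⁻¹) * g := by rw [h1]
          _ = x * (g₀⁻¹ * g) := by group
      · intro a _ a' _ haa
        exact mul_left_cancel haa
    · rw [Finset.not_nonempty_iff_eq_empty] at hne
      rw [hne]; simp
  have himg_sub : (univ : Finset S).image f ⊆ t := by
    intro b hb
    obtain ⟨g, _, rfl⟩ := Finset.mem_image.1 hb
    simp only [ht, mem_filter, mem_univ, true_and]
    exact hcomm g x
  have h1 : #(univ : Finset S) ≤ 4 * #((univ : Finset S).image f) :=
    Finset.card_le_mul_card_image _ 4 (fun b _ => hfib b)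
  have h2 : #((univ : Finset S).image f) ≤ #t := Finset.card_le_card himg_sub
  have hpow : 2 ^ (m + 1) = 4 * 2 ^ (m - 1) := by
    obtain ⟨k, rfl⟩ : ∃ k, m = k + 1 := ⟨m - 1, by omega⟩
    simp only [Nat.add_sub_cancel]
    ring
  have hteq : #t = 2 ^ (m - 1) := by
    rw [hScard, hpow] at h1
    rw [htcard] at h2 ⊢
    omega
  have himg_eq : (univ : Finset S).image f = t := by
    apply Finset.eq_of_subset_of_card_le himg_sub
    rw [hScard, hpow] at h1
    omega
  refine ⟨by rw [← htcard, hteq], ?_⟩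
  intro n hn
  have : n ∈ (univ : Finset S).image f := by
    rw [himg_eq]
    simp only [ht, mem_filter, mem_univ, true_and]
    exact hn
  obtain ⟨g, _, hg⟩ := Finset.mem_image.1 this
  exact ⟨g, hg⟩

/-- Structure of the normal subgroup `N`: it is inverted by `x`, commutative, does not contain `x`, and
contains an element whose `2 ^ (m - 2)`-th power is nontrivial. -/
theorem structure_of_N {S : Type*} [Group S] [Finite S] (hS : IsPGroup 2 S) (m : ℕ) (hm : 2 ≤ m)
    (x : S) (hx2 : x * x = 1) (hx1 : x ≠ 1)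
    (hC : Nat.card ↥(Subgroup.centralizer ({x} : Set S)) = 4)
    (N : Subgroup S) (hNcard : Nat.card N = 2 ^ (m - 1))
    (hsurj : ∀ n ∈ N, ∃ g : S, g * x * g⁻¹ * x⁻¹ = n) :
    (∀ n ∈ N, x * n * x⁻¹ = n⁻¹) ∧ (∀ a ∈ N, ∀ b ∈ N, a * b = b * a) ∧ x ∉ N ∧
      ∃ s ∈ N, s ^ (2 ^ (m - 2)) ≠ 1 := by
  classical
  have hxinv : x⁻¹ = x := inv_eq_of_mul_eq_one_left hx2
  -- `x` inverts `N`
  have hinv : ∀ n ∈ N, x * n * x⁻¹ = n⁻¹ := by
    intro n hn
    obtain ⟨g, hg⟩ := hsurj n hn
    have h1 : n * x = g * x * g⁻¹ := by rw [← hg]; group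
    have h2 : (n * x) * (n * x) = 1 := by
      rw [h1]
      calc g * x * g⁻¹ * (g * x * g⁻¹) = g * (x * x) * g⁻¹ := by group
        _ = 1 := by rw [hx2]; group
    rw [hxinv]
    have h3 : n * (x * n * x) = 1 := by rw [← h2]; group
    exact eq_inv_of_mul_eq_one_right h3
  -- `N` is commutative
  have hab : ∀ a ∈ N, ∀ b ∈ N, a * b = b * a := by
    intro a ha b hb
    have h1 := hinv (a * b) (N.mul_mem ha hb)
    have h2 : x * (a * b) * x⁻¹ = (x * a * x⁻¹) * (x * b * x⁻¹) := by group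
    rw [h2, hinv a ha, hinv b hb, mul_inv_rev] at h1
    have h3 := congrArg (fun t => t⁻¹) h1
    have h4 : b * a = a * b := by simpa using h3
    exact h4.symm
  -- `x ∉ N`
  have hxN : x ∉ N := by
    intro hxN
    obtain ⟨g, hg⟩ := hsurj x hxN
    apply hx1
    have h1 : g * x * g⁻¹ = 1 := by
      calc g * x * g⁻¹ = (g * x * g⁻¹ * x⁻¹) * x := by group
        _ = x * x := by rw [hg]
        _ = 1 := hx2
    have h2 : x = g⁻¹ * (g * x * g⁻¹) * g := by group
    rw [h2, h1]; group
  refine ⟨hinv, hab, hxN, ?_⟩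
  -- unique involution in `N`
  let K : Subgroup S := N ⊓ Subgroup.centralizer ({x} : Set S)
  have hKle : K ≤ Subgroup.centralizer ({x} : Set S) := inf_le_right
  have hKcard : Nat.card K ≤ 2 := by
    have hdvd : Nat.card K ∣ 4 := by rw [← hC]; exact Subgroup.card_dvd_of_le hKle
    have hne : Nat.card K ≠ 4 := by
      intro h4
      have : K = Subgroup.centralizer ({x} : Set S) :=
        Subgroup.eq_of_le_of_card_ge hKle (by rw [h4, hC])
      apply hxN
      have hxC : x ∈ Subgroup.centralizer ({x} : Set S) :=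
        Subgroup.mem_centralizer_singleton_iff.2 rfl
      rw [← this] at hxC
      exact (Subgroup.mem_inf.1 hxC).1
    have hle : Nat.card K ≤ 4 := Nat.le_of_dvd (by norm_num) hdvd
    have hpos : 0 < Nat.card K := Nat.card_pos
    interval_cases h : Nat.card K <;> simp_all
  have hinvol : ∀ a ∈ N, a ^ 2 = 1 → a ∈ K := by
    intro a ha ha2
    refine Subgroup.mem_inf.2 ⟨ha, ?_⟩
    rw [Subgroup.mem_centralizer_singleton_iff]
    have h1 := hinv a ha
    have h2 : a⁻¹ = a := inv_eq_of_mul_eq_one_left (by rw [← pow_two]; exact ha2)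
    rw [h2] at h1
    calc a * x = (x * a * x⁻¹)⁻¹⁻¹ * x := by rw [inv_inv, h1]
      _ = x * a := by group
  have huniq : ∀ a b : N, a ^ 2 = 1 → b ^ 2 = 1 → a ≠ 1 → b ≠ 1 → a = b := by
    intro a b ha2 hb2 ha1 hb1
    by_contra hne
    have haK : (a : S) ∈ K := hinvol a a.2 (by rw [← Subgroup.coe_pow, ha2]; rfl)
    have hbK : (b : S) ∈ K := hinvol b b.2 (by rw [← Subgroup.coe_pow, hb2]; rfl)
    have h3 : 3 ≤ Nat.card K := by
      have : Fintype K := Fintype.ofFinite K
      rw [Nat.card_eq_fintype_card]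
      calc 3 = ({(1 : K), ⟨a, haK⟩, ⟨b, hbK⟩} : Finset K).card := by
            rw [Finset.card_insert_of_notMem, Finset.card_insert_of_notMem, Finset.card_singleton]
            · simp only [Finset.mem_singleton, Subtype.mk.injEq]
              exact fun h => hne (Subtype.ext h)
            · simp only [Finset.mem_insert, Finset.mem_singleton]
              rintro (h | h)
              · apply ha1; apply Subtype.ext; exact (congrArg Subtype.val h).symm
              · apply hb1; apply Subtype.ext; exact (congrArg Subtype.val h).symm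
        _ ≤ Fintype.card K := Finset.card_le_univ _
    omega
  -- `N` is cyclic
  let _ : CommGroup N :=
    { (inferInstance : Group N) with
      mul_comm := fun a b => Subtype.ext (hab a a.2 b b.2) }
  have hcyc : IsCyclic N := isCyclic_of_unique_involution (hS.to_subgroup N) huniq
  obtain ⟨g, hg⟩ := hcyc.exists_generator
  have hord : orderOf g = 2 ^ (m - 1) := by
    rw [orderOf_eq_card_of_forall_mem_zpowers hg, hNcard]
  refine ⟨g, g.2, ?_⟩
  have hlt : 2 ^ (m - 2) < orderOf g := by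
    rw [hord]
    exact Nat.pow_lt_pow_right (by norm_num) (by omega)
  have := pow_ne_one_of_lt_orderOf (by positivity) hlt
  intro h
  apply this
  apply Subtype.ext
  rw [Subgroup.coe_pow, h]
  rfl

/-- There is an element `c` of order `2 ^ m` with `c² ∈ N` not commuting with `x`. -/
theorem exists_big_cyclic {S : Type*} [Group S] [Finite S] (m : ℕ) (hm : 2 ≤ m)
    (x : S) (hx2 : x * x = 1)
    (N : Subgroup S) (hNcard : Nat.card N = 2 ^ (m - 1)) (hsq : ∀ a : S, a * a ∈ N)
    (hsurj : ∀ n ∈ N, ∃ g : S, g * x * g⁻¹ * x⁻¹ = n)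
    (hinv : ∀ n ∈ N, x * n * x⁻¹ = n⁻¹) (hab : ∀ a ∈ N, ∀ b ∈ N, a * b = b * a)
    (s : S) (hsN : s ∈ N) (hs : s ^ (2 ^ (m - 2)) ≠ 1) :
    ∃ c : S, orderOf c = 2 ^ m ∧ c * c ∈ N ∧ c * x * c⁻¹ * x⁻¹ ≠ 1 := by
  have hxinv : x⁻¹ = x := inv_eq_of_mul_eq_one_left hx2
  have hs1 : s ≠ 1 := by
    intro h; apply hs; rw [h, one_pow]
  obtain ⟨y, hy⟩ := hsurj s hsN
  have hyx : (y * x) * x * (y * x)⁻¹ * x⁻¹ = s := by
    rw [← hy]; group
  -- the key relation between the two squares
  have hrel : ((y * x) * (y * x)) * (y * y) = s := by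
    have h1 := hinv (y * y) (hsq y)
    have h2 : y * x = s * x * y := by rw [← hy]; group
    calc ((y * x) * (y * x)) * (y * y) = (s * x * y) * (y * x) * (y * y) := by rw [← h2]
      _ = s * (x * (y * y) * x) * (y * y) := by group
      _ = s * (x * (y * y) * x⁻¹) * (y * y) := by rw [hxinv]
      _ = s * (y * y)⁻¹ * (y * y) := by rw [h1]
      _ = s := by group
  have hcommute : Commute ((y * x) * (y * x)) (y * y) := hab _ (hsq _) _ (hsq _)
  have hpow : ((y * x) * (y * x)) ^ (2 ^ (m - 2)) * (y * y) ^ (2 ^ (m - 2)) = s ^ (2 ^ (m - 2)) := by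
    rw [← hcommute.mul_pow, hrel]
  -- general fact: an element whose square lies in `N` and has a large power has order `2 ^ m`
  have horder : ∀ c : S, (c * c) ^ (2 ^ (m - 2)) ≠ 1 → orderOf c = 2 ^ m := by
    intro c hc
    have h1 : ¬ c ^ 2 ^ (m - 1) = 1 := by
      intro h
      apply hc
      rw [← pow_two, ← pow_mul, ← pow_succ']
      have : m - 2 + 1 = m - 1 := by omega
      rw [this]; exact h
    have h2 : c ^ 2 ^ (m - 1 + 1) = 1 := by
      have h3 : (⟨c * c, hsq c⟩ : N) ^ Nat.card N = 1 := pow_card_eq_one'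
      rw [hNcard] at h3
      have h4 := congrArg Subtype.val h3
      rw [Subgroup.coe_pow] at h4
      simp only [Subgroup.coe_one] at h4
      rw [pow_succ', pow_mul, pow_two]
      exact h4
    have := orderOf_eq_prime_pow (p := 2) h1 h2
    rw [this]
    congr 1
    omega
  by_cases hA : (y * y) ^ (2 ^ (m - 2)) = 1
  · refine ⟨y * x, horder _ ?_, hsq _, by rw [hyx]; exact hs1⟩
    intro h
    apply hs
    rw [← hpow, h, hA, one_mul]
  · exact ⟨y, horder _ hA, hsq _, by rw [hy]; exact hs1⟩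

/-- The final identification. -/
theorem final_step {S : Type*} [Group S] [Finite S] (m : ℕ) (hm : 2 ≤ m)
    (hcard : Nat.card S = 2 ^ (m + 1)) (x : S) (hx : orderOf x = 2)
    (N : Subgroup S) (hinv : ∀ n ∈ N, x * n * x⁻¹ = n⁻¹)
    (c : S) (hc : orderOf c = 2 ^ m) (hcN : c * c ∈ N) (hcx : c * x * c⁻¹ * x⁻¹ ≠ 1) :
    (∃ n : ℕ, Nonempty (S ≃* DihedralGroup n)) ∨ Cfsg.IsQuasiDihedral S := by
  have hx2 : x * x = 1 := by rw [← pow_two, ← hx]; exact pow_orderOf_eq_one x
  have hxinv : x⁻¹ = x := inv_eq_of_mul_eq_one_left hx2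
  -- `x ∉ ⟨c⟩`
  have hxn : x ∉ Subgroup.zpowers c := by
    intro h
    obtain ⟨i, hi⟩ := Subgroup.mem_zpowers_iff.1 h
    apply hcx
    rw [← hi]
    have : c * c ^ i = c ^ i * c := by rw [← zpow_one_add, ← zpow_add_one, add_comm]
    rw [this]; group
  -- `⟨c⟩` is normal of index two
  have hidx : (Subgroup.zpowers c).index = 2 := by
    have h := (Subgroup.zpowers c).card_mul_index
    rw [Nat.card_zpowers, hc, hcard, pow_succ] at h
    exact Nat.eq_of_mul_eq_mul_left (by positivity) h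
  have hnorm : (Subgroup.zpowers c).Normal := Subgroup.normal_of_index_eq_two hidx
  set d := x * c * x⁻¹ with hd
  have hdmem : d ∈ Subgroup.zpowers c := hnorm.conj_mem c (Subgroup.mem_zpowers c) x
  have hdd : d * d = (c * c)⁻¹ := by
    rw [← hinv (c * c) hcN, hd]; group
  have hdc : d * c = c * d := by
    obtain ⟨i, hi⟩ := Subgroup.mem_zpowers_iff.1 hdmem
    rw [← hi, ← zpow_one_add, ← zpow_add_one, add_comm]
  have hu2 : (d * c) * (d * c) = 1 := by
    calc (d * c) * (d * c) = d * (c * d) * c := by group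
      _ = d * (d * c) * c := by rw [hdc]
      _ = (d * d) * (c * c) := by group
      _ = 1 := by rw [hdd]; group
  have humem : d * c ∈ Subgroup.zpowers c := (Subgroup.zpowers c).mul_mem hdmem (Subgroup.mem_zpowers c)
  -- the only elements of `⟨c⟩` of order at most two
  have hw2 : (c ^ 2 ^ (m - 1)) * (c ^ 2 ^ (m - 1)) = 1 := by
    rw [← pow_add, ← two_mul, ← pow_succ']
    have : m - 1 + 1 = m := by omega
    rw [this, ← hc]; exact pow_orderOf_eq_one c
  have hcases : d * c = 1 ∨ d * c = c ^ 2 ^ (m - 1) := by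
    obtain ⟨i, hi⟩ := (mem_powers_iff_mem_zpowers (x := c) (y := d * c)).2 humem
    simp only at hi
    rw [← hi] at hu2
    rw [← pow_add, ← two_mul] at hu2
    have hdvd : 2 ^ m ∣ 2 * i := by rw [← hc]; exact orderOf_dvd_of_pow_eq_one hu2
    have hdvd' : 2 ^ (m - 1) ∣ i := by
      obtain ⟨k, rfl⟩ : ∃ k, m = k + 1 := ⟨m - 1, by omega⟩
      rw [pow_succ'] at hdvd
      simpa using Nat.dvd_of_mul_dvd_mul_left (by norm_num) hdvd
    obtain ⟨j, rfl⟩ := hdvd'
    rw [← hi, pow_mul]
    rcases Nat.even_or_odd j with ⟨l, hl⟩ | ⟨l, hl⟩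
    · left
      rw [hl, ← two_mul, pow_mul, pow_two, hw2, one_pow]
    · right
      rw [hl, pow_succ, pow_mul, pow_two, hw2, one_pow, one_mul]
  rcases hcases with h1 | h1
  · -- dihedral
    left
    refine ⟨2 ^ m, nonempty_mulEquiv_dihedralGroup (2 ^ m) c x hc hx2 ?_ hxn
      (by rw [hcard, pow_succ']; )⟩
    exact eq_inv_of_mul_eq_one_left h1
  · -- quasi-dihedral, or a contradiction when `m = 2`
    have hd' : d = c ^ (2 ^ (m - 1) - 1) := by
      have hpos : 1 ≤ 2 ^ (m - 1) := Nat.one_le_two_pow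
      have : c ^ (2 ^ (m - 1) - 1) * c = c ^ 2 ^ (m - 1) := by
        rw [← pow_succ, Nat.sub_add_cancel hpos]
      rw [← this] at h1
      exact mul_right_cancel h1
    rcases Nat.lt_or_ge m 3 with hm3 | hm3
    · exfalso
      have hm2 : m = 2 := by omega
      subst hm2
      apply hcx
      have : d = c := by rw [hd']; norm_num
      have h2 : x * c * x⁻¹ = c := by rw [← hd]; exact this
      calc c * x * c⁻¹ * x⁻¹ = c * (x * c * x⁻¹)⁻¹ := by group
        _ = 1 := by rw [h2]; group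
    · right
      exact ⟨m, hm3, hcard, c, x, hc, hx, by rw [← hd]; exact hd'⟩

/-- A finite 2-group containing an involution whose centralizer has order 4 is dihedral, quasi-dihedral (semidihedral), or of order 4. -/
theorem result {S : Type*} [Group S] [Finite S] (hS : IsPGroup 2 S)
    (x : S) (hx : orderOf x = 2) (hC : Nat.card ↥(Subgroup.centralizer ({x} : Set S)) = 4) :
    (∃ n : ℕ, Nonempty (S ≃* DihedralGroup n)) ∨ Cfsg.IsQuasiDihedral S ∨ Nat.card S = 4 := by
  have hx2 : x * x = 1 := by rw [← pow_two, ← hx]; exact pow_orderOf_eq_one x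
  have hx1 : x ≠ 1 := by
    intro h; rw [h, orderOf_one] at hx; omega
  obtain ⟨k, hk⟩ := IsPGroup.iff_card.1 hS
  have h4 : 2 ^ 2 ∣ 2 ^ k := by
    rw [← hk, show (2 : ℕ) ^ 2 = 4 by norm_num, ← hC]
    exact Subgroup.card_subgroup_dvd_card _
  have hk2 : 2 ≤ k := (Nat.pow_dvd_pow_iff_le_right (by norm_num)).1 h4
  rcases eq_or_lt_of_le hk2 with h | h
  · right; right; rw [hk, ← h]; norm_num
  obtain ⟨m, rfl⟩ : ∃ m, k = m + 1 := ⟨k - 1, by omega⟩
  have hm : 2 ≤ m := by omega
  -- `S` is not cyclic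
  have hnc : ¬ IsCyclic S := by
    intro hcyc
    have hcomm : ∀ a b : S, a * b = b * a := fun a b => (IsCyclic.commGroup (α := S)).mul_comm a b
    have htop : Subgroup.centralizer ({x} : Set S) = ⊤ := by
      rw [Subgroup.eq_top_iff']
      intro g
      rw [Subgroup.mem_centralizer_singleton_iff]
      exact hcomm g x
    rw [htop, Subgroup.card_top, hk] at hC
    have : (2 : ℕ) ^ 3 ≤ 2 ^ (m + 1) := Nat.pow_le_pow_right (by norm_num) (by omega)
    omega
  obtain ⟨N, _, hNc, hcomm, hsq⟩ := exists_normal_index_four m (by omega) hk hnc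
  obtain ⟨hNcard, hsurj⟩ := commutator_surjective m (by omega) hk x hC N hNc hcomm
  obtain ⟨hinv, hab, _, s, hsN, hs⟩ := structure_of_N hS m hm x hx2 hx1 hC N hNcard hsurj
  obtain ⟨c, hc, hcN, hcx⟩ := exists_big_cyclic m hm x hx2 N hNcard hsq hsurj hinv hab s hsN hs
  rcases final_step m hm hk x hx N hinv c hc hcN hcx with h | h
  · exact Or.inl h
  · exact Or.inr (Or.inl h)

end Cfsg.Agent.S3224
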