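import Cfsg.Statements.S3917

set_option autoImplicit false
open Cfsg

namespace Cfsg.Agent.S3917

theorem centralizer_eq_top {G : Type*} [CommGroup G] (H : Subgroup G) :
    Subgroup.centralizer (H : Set G) = ⊤ := by
  rw [eq_top_iff]
  intro x _
  rw [Subgroup.mem_centralizer_iff]
  intro h _
  exact mul_comm h x

/-- Say that a group has self-centralizing non-cyclic subgroups when every non-cyclic subgroup H satisfies C_G(H) ≤ H. A finite abelian group with self-centralizing non-cyclic subgroups is cyclic or elementary abelian of order p² for a prime p. -/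
theorem result {G : Type*} [CommGroup G] [Finite G] (hX : (∀ H : Subgroup G, ¬ IsCyclic ↥H → Subgroup.centralizer (H : Set G) ≤ H)) :
    IsCyclic G ∨ ∃ p : ℕ, p.Prime ∧ Nat.card G = p ^ 2 ∧ Monoid.exponent G = p := by
  by_cases hcyc : IsCyclic G
  · exact Or.inl hcyc
  right
  -- every non-cyclic subgroup is ⊤
  have hX' : ∀ H : Subgroup G, ¬ IsCyclic ↥H → H = ⊤ := by
    intro H hH
    have := hX H hH
    rw [centralizer_eq_top] at this
    exact eq_top_iff.mpr this
  obtain ⟨x, hx⟩ := Monoid.exists_orderOf_eq_exponent (G := G) Monoid.ExponentExists.of_finite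
  set e := Monoid.exponent G with he
  have hepos : 0 < e := by rw [← hx]; exact orderOf_pos x
  have hxtop : Subgroup.zpowers x ≠ ⊤ := by
    intro h
    apply hcyc
    exact ⟨⟨x, fun y => by
      have : y ∈ Subgroup.zpowers x := by rw [h]; trivial
      exact this⟩⟩
  -- the quotient is nontrivial
  have hQ : 1 < Nat.card (G ⧸ Subgroup.zpowers x) := by
    rw [← Subgroup.index_eq_card]
    have h1 : (Subgroup.zpowers x).index ≠ 1 := by
      rw [Ne, Subgroup.index_eq_one]; exact hxtop
    have h0 : (Subgroup.zpowers x).index ≠ 0 := Subgroup.index_ne_zero_of_finite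
    omega
  obtain ⟨p, hpp, hpQ⟩ := Nat.exists_prime_and_dvd (Nat.ne_of_gt hQ)
  have : Fact p.Prime := ⟨hpp⟩
  obtain ⟨q, hq⟩ := exists_prime_orderOf_dvd_card' p hpQ
  obtain ⟨y, rfl⟩ := QuotientGroup.mk_surjective q
  have hynot : y ∉ Subgroup.zpowers x := by
    intro h
    have : (y : G ⧸ Subgroup.zpowers x) = 1 := (QuotientGroup.eq_one_iff y).mpr h
    rw [this, orderOf_one] at hq
    exact hpp.one_lt.ne hq
  have hyp : y ^ p ∈ Subgroup.zpowers x := by
    rw [← QuotientGroup.eq_one_iff, QuotientGroup.mk_pow, ← hq, pow_orderOf_eq_one]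
  -- p ∣ e
  have hpe : p ∣ e := by
    have h1 : orderOf (y : G ⧸ Subgroup.zpowers x) ∣ orderOf y :=
      orderOf_map_dvd (QuotientGroup.mk' (Subgroup.zpowers x)) y
    rw [hq] at h1
    exact h1.trans (Monoid.order_dvd_exponent y)
  obtain ⟨e', he'⟩ := hpe
  have he'pos : 0 < e' := by
    rcases Nat.eq_zero_or_pos e' with h | h
    · rw [h, mul_zero] at he'; omega
    · exact h
  -- y^p = x^k
  rw [← mem_powers_iff_mem_zpowers] at hyp
  obtain ⟨k, hk⟩ := hyp
  have hk : x ^ k = y ^ p := hk
  have hpk : p ∣ k := by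
    have h1 : (x ^ k) ^ e' = 1 := by
      rw [hk, ← pow_mul, ← he']
      exact Monoid.pow_exponent_eq_one y
    rw [← pow_mul] at h1
    have h2 := orderOf_dvd_of_pow_eq_one h1
    rw [hx, he'] at h2
    exact (Nat.mul_dvd_mul_iff_right he'pos).mp h2
  obtain ⟨k', hk'⟩ := hpk
  set z := y * (x ^ k')⁻¹ with hz
  have hzp : z ^ p = 1 := by
    rw [hz, mul_pow, inv_pow, ← pow_mul, mul_comm k' p, ← hk', hk, mul_inv_cancel]
  have hznot : z ∉ Subgroup.zpowers x := by
    intro h
    apply hynot
    have := (Subgroup.zpowers x).mul_mem h ((Subgroup.zpowers x).pow_mem (Subgroup.mem_zpowers x) k')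
    simpa [hz] using this
  set x' := x ^ e' with hx'
  have hx'ord : orderOf x' = p := by
    rw [hx', orderOf_pow_of_dvd he'pos.ne' (by rw [hx, he']; exact dvd_mul_left e' p), hx, he']
    exact Nat.mul_div_cancel _ he'pos
  have hx'p : x' ^ p = 1 := by rw [← hx'ord, pow_orderOf_eq_one]
  -- H
  set H := Subgroup.zpowers x' ⊔ Subgroup.zpowers z with hH
  have hHker : H ≤ (powMonoidHom p : G →* G).ker := by
    rw [hH, sup_le_iff, Subgroup.zpowers_le, Subgroup.zpowers_le]
    exact ⟨by rw [MonoidHom.mem_ker]; exact hx'p, by rw [MonoidHom.mem_ker]; exact hzp⟩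
  have hHp : ∀ h ∈ H, h ^ p = 1 := by
    intro h hh
    have := hHker hh
    rwa [MonoidHom.mem_ker] at this
  have hHnot : ¬ IsCyclic H := by
    intro hc
    obtain ⟨⟨h, hh⟩, hgen⟩ := hc.exists_generator
    have hcard : Nat.card H = orderOf (⟨h, hh⟩ : H) := by
      rw [← Nat.card_zpowers]
      have : Subgroup.zpowers (⟨h, hh⟩ : H) = ⊤ := by
        rw [eq_top_iff]; intro w _; exact hgen w
      rw [this]; exact (Subgroup.card_top).symm
    have hle : Nat.card H ≤ p := by
      rw [hcard]
      apply Nat.le_of_dvd hpp.pos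
      apply orderOf_dvd_of_pow_eq_one
      apply Subtype.ext
      simpa using hHp h hh
    have hle' : Subgroup.zpowers x' ≤ H := le_sup_left
    have heq : Subgroup.zpowers x' = H := by
      apply Subgroup.eq_of_le_of_card_ge hle'
      rw [Nat.card_zpowers, hx'ord]; exact hle
    have hzH : z ∈ H := by
      rw [hH]; exact (le_sup_right : Subgroup.zpowers z ≤ _) (Subgroup.mem_zpowers z)
    rw [← heq] at hzH
    apply hznot
    have : Subgroup.zpowers x' ≤ Subgroup.zpowers x := by
      rw [Subgroup.zpowers_le, hx']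
      exact (Subgroup.zpowers x).pow_mem (Subgroup.mem_zpowers x) e'
    exact this hzH
  have hHtop : H = ⊤ := hX' H hHnot
  have hGp : ∀ g : G, g ^ p = 1 := fun g => hHp g (by rw [hHtop]; trivial)
  refine ⟨p, hpp, ?_, ?_⟩
  · -- card
    have hPG : IsPGroup p G := fun g => ⟨1, by rw [pow_one]; exact hGp g⟩
    obtain ⟨n, hn⟩ := IsPGroup.iff_card.mp hPG
    -- upper bound
    have hsurj : Function.Surjective (fun ab : Subgroup.zpowers x' × Subgroup.zpowers z => (ab.1 : G) * (ab.2 : G)) := by
      intro g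
      have hg : g ∈ H := by rw [hHtop]; trivial
      rw [hH, Subgroup.mem_sup] at hg
      obtain ⟨a, ha, b, hb, hab⟩ := hg
      exact ⟨(⟨a, ha⟩, ⟨b, hb⟩), hab⟩
    have hub := Nat.card_le_card_of_surjective _ hsurj
    have hzord : orderOf z = p := by
      have h1 : orderOf z ∣ p := orderOf_dvd_of_pow_eq_one hzp
      rcases (Nat.dvd_prime hpp).mp h1 with h | h
      · exfalso
        rw [orderOf_eq_one_iff] at h
        apply hznot; rw [h]; exact (Subgroup.zpowers x).one_mem
      · exact h
    rw [Nat.card_prod, Nat.card_zpowers, Nat.card_zpowers, hx'ord, hzord, hn] at hub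
    have hn2 : n ≤ 2 := by
      have : p ^ n ≤ p ^ 2 := by rw [sq]; exact hub
      exact (Nat.pow_le_pow_iff_right hpp.one_lt).mp this
    have hn1 : 2 ≤ n := by
      by_contra hlt
      push Not at hlt
      apply hcyc
      interval_cases n
      · rw [pow_zero] at hn
        have : Subsingleton G := (Nat.card_eq_one_iff_unique.mp hn).1
        exact ⟨⟨1, fun g => by
          rw [Subsingleton.elim g 1]
          exact (Subgroup.zpowers (1 : G)).one_mem⟩⟩
      · rw [pow_one] at hn
        exact isCyclic_of_prime_card hn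
    have : n = 2 := le_antisymm hn2 hn1
    rw [hn, this]
  · -- exponent
    have h1 : e ∣ p := Monoid.exponent_dvd_of_forall_pow_eq_one hGp
    rcases (Nat.dvd_prime hpp).mp h1 with h | h
    · exfalso
      rw [he'] at h
      have : p ∣ 1 := by rw [← h]; exact dvd_mul_right p e'
      exact hpp.one_lt.ne' (Nat.dvd_one.mp this)
    · exact h

end Cfsg.Agent.S3917
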