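import Cfsg.Statements.S3918
import Cfsg.Agent.Lib.Helper20_PGroupOdd
import Cfsg.Agent.Lib.Helper76_PGroup

set_option autoImplicit false
open Cfsg

namespace Cfsg.Agent.S3918

open Cfsg.Agent.Lib.Helper20_PGroupOdd

/-- a nonabelian `p`-group has order `p^n` with `n ≥ 3` -/
theorem three_le_of_nonabelian {G : Type*} [Group G] [Finite G] {p : ℕ} [Fact p.Prime]
    (hna : ¬ IsMulCommutative G) (n : ℕ) (hn : Nat.card G = p ^ n) : 3 ≤ n := by
  by_contra hlt
  apply hna
  have : n = 0 ∨ n = 1 ∨ n = 2 := by omega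
  rcases this with rfl | rfl | rfl
  · rw [pow_zero, Nat.card_eq_one_iff_unique] at hn
    have := hn.1
    exact ⟨⟨fun a b => Subsingleton.elim _ _⟩⟩
  · rw [pow_one] at hn
    have hc : IsCyclic G := isCyclic_of_prime_card hn
    exact hc.isMulCommutative
  · exact IsPGroup.isMulCommutative_of_card_eq_prime_sq hn

theorem forward {G : Type*} [Group G] [Finite G] {p : ℕ} [hpf : Fact p.Prime] (hp : p ≠ 2)
    (hG : IsPGroup p G) (hna : ¬ IsMulCommutative G)
    (hyp : ∀ H : Subgroup G, ¬ IsCyclic ↥H → Subgroup.centralizer (H : Set G) ≤ H) :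
    Nat.card G = p ^ 3 := by
  have hS : ¬ IsCyclic (⊤ : Subgroup G) := by
    intro hc
    apply hna
    have hc' : IsCyclic G := isCyclic_of_surjective (Subgroup.topEquiv : (⊤ : Subgroup G) ≃* G).toMonoidHom
      (Subgroup.topEquiv : (⊤ : Subgroup G) ≃* G).surjective
    exact hc'.isMulCommutative
  obtain ⟨z, h, hg⟩ := exists_good hp hG ⊤ hS
  have hzc : z ∈ Subgroup.center G := hg.2.2.1
  have hcomm : ∀ g : G, g * h * g⁻¹ * h⁻¹ ∈ Subgroup.zpowers z := hg.2.2.2.2.2.2
  have hcent : ∀ g x : G, (g * h * g⁻¹ * h⁻¹) * x = x * (g * h * g⁻¹ * h⁻¹) := by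
    intro g x
    have h1 : g * h * g⁻¹ * h⁻¹ ∈ Subgroup.center G :=
      (Subgroup.zpowers_le.mpr hzc) (hcomm g)
    exact (Subgroup.mem_center_iff.mp h1 x).symm
  -- B is not cyclic
  have hBcard : Nat.card hg.B = p ^ 2 := hg.card_B
  have hBnc : ¬ IsCyclic hg.B := by
    intro hc
    obtain ⟨g, hgen⟩ := hc.exists_generator
    have h1 : orderOf g = Nat.card hg.B := orderOf_eq_card_of_forall_mem_zpowers hgen
    have h2 : g ^ p = 1 := by
      apply Subtype.ext
      have := hg.B_exp g.1 g.2
      simpa using this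
    have h3 : orderOf g ∣ p := orderOf_dvd_of_pow_eq_one h2
    rw [h1, hBcard] at h3
    have h4 := Nat.le_of_dvd hpf.out.pos h3
    have h5 := hpf.out.two_le
    nlinarith
  have hCB := hyp hg.B hBnc
  -- the commutator hom
  let φ : G →* G := MonoidHom.mk' (fun g => g * h * g⁻¹ * h⁻¹) (by
    intro a b
    calc a * b * h * (a * b)⁻¹ * h⁻¹ = a * ((b * h * b⁻¹ * h⁻¹) * (h * a⁻¹ * h⁻¹)) := by group
      _ = a * ((h * a⁻¹ * h⁻¹) * (b * h * b⁻¹ * h⁻¹)) := by rw [hcent b]
      _ = (a * h * a⁻¹ * h⁻¹) * (b * h * b⁻¹ * h⁻¹) := by group)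
  have hφ : ∀ g, φ g = g * h * g⁻¹ * h⁻¹ := fun _ => rfl
  have hker : φ.ker ≤ hg.B := by
    refine le_trans ?_ hCB
    intro g hgk
    rw [MonoidHom.mem_ker, hφ] at hgk
    have hgh : g * h = h * g := by
      calc g * h = (g * h * g⁻¹ * h⁻¹) * h * g := by group
        _ = h * g := by rw [hgk, one_mul]
    have hle : hg.B ≤ Subgroup.centralizer ({g} : Set G) := by
      apply sup_le
      · rw [Subgroup.zpowers_le, Subgroup.mem_centralizer_singleton_iff]
        exact (Subgroup.mem_center_iff.mp hzc g).symm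
      · rw [Subgroup.zpowers_le, Subgroup.mem_centralizer_singleton_iff]
        exact hgh.symm
    rw [Subgroup.mem_centralizer_iff]
    intro b hb
    have := hle hb
    rw [Subgroup.mem_centralizer_singleton_iff] at this
    exact this
  have hrange : φ.range ≤ Subgroup.zpowers z := by
    rintro _ ⟨g, rfl⟩
    exact hcomm g
  have hcz : Nat.card (Subgroup.zpowers z) = p := by
    rw [Nat.card_zpowers, hg.2.2.2.1]
  have h1 : Nat.card G = Nat.card φ.ker * Nat.card φ.range := by
    rw [← Subgroup.index_ker, Subgroup.card_mul_index]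
  have h2 : Nat.card φ.ker ≤ p ^ 2 := hBcard ▸ Subgroup.card_le_of_le hker
  have h3 : Nat.card φ.range ≤ p := hcz ▸ Subgroup.card_le_of_le hrange
  obtain ⟨n, hn⟩ := IsPGroup.iff_card.mp hG
  have h4 : 3 ≤ n := three_le_of_nonabelian hna n hn
  have h5 : p ^ n ≤ p ^ 3 := by
    rw [← hn, h1, pow_succ]
    exact Nat.mul_le_mul h2 h3
  have h6 : n ≤ 3 := (Nat.pow_le_pow_iff_right hpf.out.one_lt).mp h5
  rw [hn, show n = 3 by omega]


theorem backward {G : Type*} [Group G] [Finite G] {p : ℕ} [hpf : Fact p.Prime]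
    (hna : ¬ IsMulCommutative G) (hcard : Nat.card G = p ^ 3)
    (H : Subgroup G) (hH : ¬ IsCyclic ↥H) : Subgroup.centralizer (H : Set G) ≤ H := by
  have hp1 := hpf.out.one_lt
  obtain ⟨k, hk3, hk⟩ := (Nat.dvd_prime_pow hpf.out).mp (hcard ▸ Subgroup.card_subgroup_dvd_card H)
  have hk2 : 2 ≤ k := by
    by_contra hlt
    apply hH
    have : k = 0 ∨ k = 1 := by omega
    rcases this with rfl | rfl
    · rw [pow_zero, Subgroup.card_eq_one] at hk
      subst hk
      infer_instance
    · rw [pow_one] at hk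
      exact isCyclic_of_prime_card hk
  have hk' : k = 2 ∨ k = 3 := by omega
  rcases hk' with rfl | rfl
  · -- H abelian of index p
    have hHc : IsMulCommutative H := IsPGroup.isMulCommutative_of_card_eq_prime_sq hk
    have hHC : H ≤ Subgroup.centralizer (H : Set G) := by
      intro x hx
      rw [Subgroup.mem_centralizer_iff]
      intro y hy
      have := hHc.is_comm.comm ⟨y, hy⟩ ⟨x, hx⟩
      exact congrArg Subtype.val this
    obtain ⟨j, hj3, hj⟩ := (Nat.dvd_prime_pow hpf.out).mp
      (hcard ▸ Subgroup.card_subgroup_dvd_card (Subgroup.centralizer (H : Set G)))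
    have hj2 : 2 ≤ j := by
      have := Subgroup.card_le_of_le hHC
      rw [hk, hj] at this
      exact (Nat.pow_le_pow_iff_right hp1).mp this
    have hj' : j = 2 ∨ j = 3 := by omega
    rcases hj' with rfl | rfl
    · have : H = Subgroup.centralizer (H : Set G) :=
        Subgroup.eq_of_le_of_card_ge hHC (by rw [hk, hj])
      rw [← this]
    · exfalso
      apply hna
      have htop : Subgroup.centralizer (H : Set G) = ⊤ :=
        Subgroup.eq_top_of_card_eq _ (by rw [hj, hcard])
      have hHZ : H ≤ Subgroup.center G := by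
        intro x hx
        rw [Subgroup.mem_center_iff]
        intro g
        have hg : g ∈ Subgroup.centralizer (H : Set G) := by rw [htop]; exact Subgroup.mem_top g
        exact Subgroup.mem_centralizer_iff.mp hg x hx |>.symm
      have hidx : H.index ∣ p := by
        have h1 := H.card_mul_index
        rw [hk, hcard, pow_succ] at h1
        have : H.index = p := Nat.eq_of_mul_eq_mul_left (pow_pos hpf.out.pos 2) h1
        rw [this]
      have := Cfsg.Agent.Lib.Helper76_PGroup.comm_of_central_index_dvd_prime p H hHZ hidx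
      exact ⟨⟨this⟩⟩
  · have : H = ⊤ := Subgroup.eq_top_of_card_eq _ (by rw [hk, hcard])
    rw [this]
    exact le_top

/-- Say that a group has self-centralizing non-cyclic subgroups when every non-cyclic subgroup H satisfies C_G(H) ≤ H. For an odd prime p, a finite non-abelian p-group has self-centralizing non-cyclic subgroups if and only if it has order p³. -/
theorem result {G : Type*} [Group G] [Finite G] {p : ℕ} [Fact p.Prime] (hp : p ≠ 2) (hG : IsPGroup p G) (hna : ¬ IsMulCommutative G) :
    (∀ H : Subgroup G, ¬ IsCyclic ↥H → Subgroup.centralizer (H : Set G) ≤ H) ↔ Nat.card G = p ^ 3 :=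
  ⟨forward hp hG hna, fun hcard H hH => backward hna hcard H hH⟩

end Cfsg.Agent.S3918
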