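import Cfsg.Statements.S0225
import Cfsg.Agent.S0201
import Cfsg.Agent.S4145
import Cfsg.Agent.Lib.Helper1_Cores
import Cfsg.Agent.Lib.Helper42_KleinCount
import Cfsg.Agent.Lib.Helper50_UniqueInv
import Cfsg.Agent.Lib.Helper50_UniqueInv2

set_option autoImplicit false
open Cfsg

namespace Cfsg.Agent.S0225

open Cfsg.Agent.Lib.Helper50_UniqueInv (UniqueInvolution)

/-- Without Klein four-subgroups, commuting involutions are equal. -/
theorem inv_eq {G : Type*} [Group G] (hrank : ∀ E : Subgroup G, ¬ IsKleinFour E) (x w : G)
    (hx : x * x = 1) (hw : w * w = 1) (hx1 : x ≠ 1) (hw1 : w ≠ 1) (hc : x * w = w * x) :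
    x = w := by
  by_contra hne
  exact hrank _ (Cfsg.Agent.Lib.Helper42_KleinCount.V4_isKleinFour hx hw hc hx1 hw1 hne)

/-- A Sylow `2`-subgroup of a group without Klein four-subgroups has a unique involution. -/
theorem uniqueInvolution_sylow {G : Type*} [Group G] [Finite G]
    (hrank : ∀ E : Subgroup G, ¬ IsKleinFour E) (S : Sylow 2 G)
    (hS : Nontrivial (S : Subgroup G)) : UniqueInvolution (S : Subgroup G) := by
  -- a central involution
  have hcn : Nontrivial (Subgroup.center (S : Subgroup G)) := S.isPGroup'.center_nontrivial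
  have h2 : 2 ∣ Nat.card (Subgroup.center (S : Subgroup G)) := by
    obtain ⟨k, hk⟩ := (S.isPGroup'.to_subgroup (Subgroup.center (S : Subgroup G))).exists_card_eq
    have hk0 : k ≠ 0 := by
      intro h0
      rw [h0, pow_zero] at hk
      have := (Nat.card_eq_one_iff_unique.mp hk).1
      exact not_subsingleton _ this
    rw [hk]
    exact dvd_pow_self 2 hk0
  obtain ⟨z, hz⟩ := exists_prime_orderOf_dvd_card' 2 h2
  have hz2 : ((z : (S : Subgroup G)) : G) * ((z : (S : Subgroup G)) : G) = 1 := by
    have h1 : z ^ 2 = 1 := by have := pow_orderOf_eq_one z; rwa [hz] at this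
    have h2 : ((z : (S : Subgroup G)) : G) ^ 2 = 1 := by
      have := congrArg (fun w : Subgroup.center (S : Subgroup G) => ((w : (S : Subgroup G)) : G)) h1
      simpa using this
    rwa [pow_two] at h2
  have hz1 : ((z : (S : Subgroup G)) : G) ≠ 1 := by
    intro h
    have : z = 1 := by
      apply Subtype.ext
      apply Subtype.ext
      simpa using h
    rw [this, orderOf_one] at hz
    omega
  have key : ∀ u : (S : Subgroup G), u ^ 2 = 1 → u ≠ 1 → (u : G) = ((z : (S : Subgroup G)) : G) := by
    intro u hu hu1
    have hu2 : (u : G) * (u : G) = 1 := by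
      have := congrArg (fun w : (S : Subgroup G) => (w : G)) hu
      simpa [pow_two] using this
    have hu1' : (u : G) ≠ 1 := fun h => hu1 (Subtype.ext (by simpa using h))
    have hc : (u : G) * ((z : (S : Subgroup G)) : G) = ((z : (S : Subgroup G)) : G) * (u : G) := by
      have := Subgroup.mem_center_iff.mp z.2 u
      have h3 := congrArg (fun w : (S : Subgroup G) => (w : G)) this
      simpa using h3
    exact inv_eq hrank _ _ hu2 hz2 hu1' hz1 hc
  intro u v hu hv hu1 hv1
  apply Subtype.ext
  rw [key u hu hu1, key v hv hv1]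

/-- If a finite group G has even order but contains no Klein four-subgroup (2-rank 1), then some involution z of G is central modulo a normal subgroup of odd order: there is a normal subgroup N of odd order containing every commutator z g z⁻¹ g⁻¹. -/
theorem result {G : Type*} [Group G] [Finite G] (heven : Even (Nat.card G)) (hrank : ∀ E : Subgroup G, ¬ IsKleinFour E) : ∃ z : G, orderOf z = 2 ∧ ∃ N : Subgroup G, N.Normal ∧ Odd (Nat.card N) ∧ ∀ g : G, z * g * z⁻¹ * g⁻¹ ∈ N := by
  classical
  have h2G : 2 ∣ Nat.card G := even_iff_two_dvd.mp heven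
  obtain ⟨S⟩ : Nonempty (Sylow 2 G) := inferInstance
  have hSnt : Nontrivial (S : Subgroup G) := by
    have hcard := S.card_eq_multiplicity
    have hpos : 0 < (Nat.card G).factorization 2 := by
      apply Nat.pos_of_ne_zero
      intro h0
      have := (Nat.factorization_eq_zero_iff (Nat.card G) 2).mp h0
      rcases this with h | h | h
      · exact h Nat.prime_two
      · exact h h2G
      · exact Nat.card_pos.ne' h
    have h1 : 1 < Nat.card (S : Subgroup G) := by
      rw [hcard]
      exact Nat.one_lt_two_pow hpos.ne'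
    exact Finite.one_lt_card_iff_nontrivial.mp h1
  have huniq := uniqueInvolution_sylow hrank S hSnt
  have hodd_of_coprime : ∀ n : ℕ, n.Coprime 2 → Odd n := by
    intro n hn
    rw [← Nat.not_even_iff_odd, even_iff_two_dvd]
    intro h2
    have := Nat.Coprime.eq_one_of_dvd hn.symm h2
    omega
  rcases Cfsg.Agent.Lib.Helper50_UniqueInv2.isCyclic_or_quaternion S.isPGroup' huniq with
    hcyc | ⟨k, hk1, ⟨e⟩⟩
  · -- cyclic Sylow `2`-subgroup: Burnside
    -- an involution of `S`
    have h2S : 2 ∣ Nat.card (S : Subgroup G) := by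
      obtain ⟨j, hj⟩ := S.isPGroup'.exists_card_eq
      have hj0 : j ≠ 0 := by
        intro h0
        rw [h0, pow_zero] at hj
        have := (Nat.card_eq_one_iff_unique.mp hj).1
        exact not_subsingleton _ this
      rw [hj]
      exact dvd_pow_self 2 hj0
    obtain ⟨u, hu⟩ := exists_prime_orderOf_dvd_card' 2 h2S
    have hu2 : u ^ 2 = 1 := by have := pow_orderOf_eq_one u; rwa [hu] at this
    have hu1 : u ≠ 1 := by
      intro h
      rw [h, orderOf_one] at hu
      omega
    have hNC : Subgroup.normalizer ((S : Subgroup G) : Set G) ≤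
        Subgroup.centralizer ((S : Subgroup G) : Set G) := by
      intro z hz
      have hzu : z * (u : G) * z⁻¹ ∈ (S : Subgroup G) :=
        (Subgroup.mem_normalizer_iff.mp hz (u : G)).mp u.2
      have h1 : (⟨z * (u : G) * z⁻¹, hzu⟩ : (S : Subgroup G)) ^ 2 = 1 := by
        apply Subtype.ext
        rw [Subgroup.coe_pow, Subgroup.coe_one]
        show (z * (u : G) * z⁻¹) ^ 2 = 1
        rw [conj_pow]
        have : (u : G) ^ 2 = 1 := by
          have := congrArg (fun w : (S : Subgroup G) => (w : G)) hu2
          simpa using this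
        rw [this]; group
      have h2 : (⟨z * (u : G) * z⁻¹, hzu⟩ : (S : Subgroup G)) ≠ 1 := by
        intro h
        apply hu1
        have h3 : z * (u : G) * z⁻¹ = 1 := by
          have := congrArg (fun w : (S : Subgroup G) => (w : G)) h
          simpa using this
        apply Subtype.ext
        have : (u : G) = z⁻¹ * (z * (u : G) * z⁻¹) * z := by group
        rw [this, h3]; simp
      have h3 := huniq _ _ h1 hu2 h2 hu1
      have h4 : z * (u : G) * z⁻¹ = (u : G) := congrArg Subtype.val h3
      have hcomm : z * (u : G) = (u : G) * z := by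
        calc z * (u : G) = (z * (u : G) * z⁻¹) * z := by group
          _ = (u : G) * z := by rw [h4]
      exact Cfsg.Agent.S4145.mem_centralizer_of_cyclic_sylow S hcyc z hz (u : G) u.2
        (fun h => hu1 (Subtype.ext h)) hcomm
    obtain ⟨K, hKn, -, hKcop, -, hKcomm⟩ := Cfsg.Agent.S4145.exists_normal_pcomplement S hNC
    refine ⟨(u : G), ?_, K, hKn, hodd_of_coprime _ hKcop, fun g => hKcomm (u : G) g⟩
    rw [Subgroup.orderOf_coe]; exact hu
  · -- generalized quaternion: Brauer–Suzuki in `G ⧸ O(G)`
    obtain ⟨n, rfl⟩ : ∃ n, k = n + 1 := ⟨k - 1, by omega⟩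
    set O := pPrimeCore 2 G with hOdef
    have hOcop : (Nat.card O).Coprime 2 := Cfsg.Agent.Lib.Helper1_Cores.pPrimeCore_card_coprime 2
    have hOodd : Odd (Nat.card O) := hodd_of_coprime _ hOcop
    set f : G →* G ⧸ O := QuotientGroup.mk' O with hf
    have hfs : Function.Surjective f := QuotientGroup.mk'_surjective O
    have hker : f.ker = O := QuotientGroup.ker_mk' O
    have hmemO : ∀ x : G, f x = 1 → x ∈ O := fun x hx => (QuotientGroup.eq_one_iff x).mp hx
    have hmemO' : ∀ x : G, x ∈ O → f x = 1 := fun x hx => (QuotientGroup.eq_one_iff x).mpr hx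
    -- the image of `S`
    set Sbar : Sylow 2 (G ⧸ O) := S.mapSurjective hfs with hSbar
    have hinj : Function.Injective (f.subgroupMap (S : Subgroup G)) := by
      rw [injective_iff_map_eq_one]
      intro s hs
      have h1 : f (s : G) = 1 := by
        have := congrArg (fun w : (S : Subgroup G).map f => (w : G ⧸ O)) hs
        simpa using this
      have h2 : (s : G) ∈ O := hmemO _ h1
      -- order of `s` divides both a power of two and an odd number
      have h3 : orderOf (s : G) ∣ Nat.card O := by
        have := orderOf_dvd_natCard (⟨(s : G), h2⟩ : O)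
        rwa [Subgroup.orderOf_mk] at this
      obtain ⟨j, hj⟩ := S.isPGroup' s
      have h4 : orderOf (s : G) ∣ 2 ^ j := by
        apply orderOf_dvd_of_pow_eq_one
        have := congrArg (fun w : (S : Subgroup G) => (w : G)) hj
        simpa using this
      have h5 : orderOf (s : G) = 1 := by
        have hc : (orderOf (s : G)).Coprime (orderOf (s : G)) :=
          Nat.Coprime.coprime_dvd_left h3 (Nat.Coprime.coprime_dvd_right h4
            (Nat.Coprime.pow_right j hOcop))
        exact (Nat.coprime_self _).mp hc
      apply Subtype.ext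
      exact orderOf_eq_one_iff.mp h5
    have ebar : ((Sbar : Subgroup (G ⧸ O))) ≃* QuaternionGroup (2 ^ (n + 1)) := by
      have e1 : (S : Subgroup G) ≃* ((S : Subgroup G).map f) :=
        MulEquiv.ofBijective (f.subgroupMap (S : Subgroup G))
          ⟨hinj, MonoidHom.subgroupMap_surjective f _⟩
      have e2 : ((Sbar : Subgroup (G ⧸ O))) ≃* ((S : Subgroup G).map f) :=
        MulEquiv.subgroupCongr (Sylow.coe_mapSurjective hfs S)
      exact e2.trans (e1.symm.trans e)
    -- `O(G ⧸ O(G)) = 1`
    have hObar : ∀ N : Subgroup (G ⧸ O), N.Normal → Odd (Nat.card N) → N = ⊥ := by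
      intro N hN hNodd
      have hcomapn : (N.comap f).Normal := hN.comap f
      have hcop : (Nat.card (N.comap f)).Coprime 2 := by
        rw [Nat.coprime_comm, Nat.Prime.coprime_iff_not_dvd Nat.prime_two]
        intro h2
        obtain ⟨x, hx⟩ := exists_prime_orderOf_dvd_card' 2 h2
        have hx2 : (x : G) ^ 2 = 1 := by
          have h1 : x ^ 2 = 1 := by have := pow_orderOf_eq_one x; rwa [hx] at this
          have := congrArg (fun w : N.comap f => (w : G)) h1
          simpa using this
        have hfx : f (x : G) ∈ N := x.2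
        have hfx2 : (⟨f (x : G), hfx⟩ : N) ^ 2 = 1 := by
          apply Subtype.ext
          rw [Subgroup.coe_pow, Subgroup.coe_one]
          show f (x : G) ^ 2 = 1
          rw [← map_pow, hx2, map_one]
        have hdvd : orderOf (⟨f (x : G), hfx⟩ : N) ∣ 2 := orderOf_dvd_of_pow_eq_one hfx2
        have hdvd2 : orderOf (⟨f (x : G), hfx⟩ : N) ∣ Nat.card N := orderOf_dvd_natCard _
        have h1 : orderOf (⟨f (x : G), hfx⟩ : N) = 1 := by
          rcases (Nat.dvd_prime Nat.prime_two).mp hdvd with h | h
          · exact h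
          · exfalso
            rw [h] at hdvd2
            exact (Nat.not_even_iff_odd.mpr hNodd) (even_iff_two_dvd.mpr hdvd2)
        have h3 : f (x : G) = 1 := by
          have := orderOf_eq_one_iff.mp h1
          exact congrArg Subtype.val this
        have h4 : (x : G) ∈ O := hmemO _ h3
        have h5 : orderOf (x : G) ∣ Nat.card O := by
          have := orderOf_dvd_natCard (⟨(x : G), h4⟩ : O)
          rwa [Subgroup.orderOf_mk] at this
        rw [Subgroup.orderOf_coe, hx] at h5
        exact (Nat.not_even_iff_odd.mpr hOodd) (even_iff_two_dvd.mpr h5)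
      have hle : N.comap f ≤ O := Cfsg.Agent.Lib.Helper1_Cores.le_pPrimeCore hcomapn hcop
      rw [eq_bot_iff]
      intro y hy
      obtain ⟨x, rfl⟩ := hfs y
      have hx : x ∈ O := hle hy
      rw [Subgroup.mem_bot]
      exact hmemO' x hx
    have hcenter := Cfsg.Agent.S0201.result Sbar n ebar hObar
    -- a central involution of the quotient
    have hnt : Nontrivial (Subgroup.center (G ⧸ O)) := by
      apply Finite.one_lt_card_iff_nontrivial.mp
      rw [hcenter]; norm_num
    obtain ⟨zb, hzb⟩ := exists_ne (1 : Subgroup.center (G ⧸ O))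
    have hzb2 : ((zb : G ⧸ O)) ^ 2 = 1 := by
      have h1 : zb ^ 2 = 1 := by
        have := pow_card_eq_one' (G := Subgroup.center (G ⧸ O)) (x := zb)
        rwa [hcenter] at this
      have := congrArg (fun w : Subgroup.center (G ⧸ O) => (w : G ⧸ O)) h1
      simpa using this
    have hzb1 : (zb : G ⧸ O) ≠ 1 := fun h => hzb (Subtype.ext h)
    obtain ⟨z₀, hz₀⟩ := hfs (zb : G ⧸ O)
    set m := Nat.card O with hm
    have hOodd' := hOodd
    obtain ⟨j, hj⟩ := hOodd'
    set z := z₀ ^ m with hz
    have hfz : f z = (zb : G ⧸ O) := by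
      rw [hz, map_pow, hz₀, hj, pow_succ, pow_mul, hzb2, one_pow, one_mul]
    have hz2 : z ^ 2 = 1 := by
      have h1 : z₀ ^ 2 ∈ O := by
        apply hmemO
        rw [map_pow, hz₀, hzb2]
      have h2 : (z₀ ^ 2) ^ m = 1 := by
        have h3 : ((⟨z₀ ^ 2, h1⟩ : O) ^ m : O) = 1 := pow_card_eq_one'
        have h4 := congrArg Subtype.val h3
        rwa [Subgroup.coe_pow, Subgroup.coe_one] at h4
      rw [hz, ← pow_mul, mul_comm, pow_mul]
      exact h2
    have hz1 : z ≠ 1 := by
      intro h
      rw [h, map_one] at hfz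
      exact hzb1 hfz.symm
    refine ⟨z, orderOf_eq_prime hz2 hz1, O, inferInstance, hOodd, fun g => ?_⟩
    apply hmemO
    rw [map_mul, map_mul, map_mul, map_inv, map_inv, hfz]
    have := Subgroup.mem_center_iff.mp zb.2 (f g)
    rw [← this, mul_inv_cancel_right, mul_inv_cancel]

end Cfsg.Agent.S0225
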