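import Cfsg.Statements.S0107
import Cfsg.Agent.Lib.Helper55_Transfer
import Cfsg.Agent.Lib.Helper35_FrobeniusNPC
import Cfsg.Agent.Lib.Helper32_Sylow
import Cfsg.Agent.Lib.Helper34_Sylow
import Cfsg.Agent.Lib.Helper4_Sylow2

set_option autoImplicit false
open Cfsg

namespace Cfsg.Agent.S0107

open Subgroup Cfsg.Agent.Lib

/-- A group generated by its elements of odd order has no subgroup of index two. -/
theorem no_index_two {G : Type*} [Group G] (hO : Cfsg.pResidual 2 G = ⊤) (M : Subgroup G) :
    M.index ≠ 2 := by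
  intro hM
  have hMn : M.Normal := normal_of_index_eq_two hM
  have hle : Cfsg.pResidual 2 G ≤ M := by
    rw [Cfsg.pResidual, closure_le]
    intro g hg
    exact Helper35_FrobeniusNPC.mem_of_coprime_order M (p := 2) (j := 1) (by rw [hM, pow_one]) hg
  rw [hO, top_le_iff] at hle
  rw [hle, index_top] at hM
  omega

/-- If `G` has no subgroup of index two, `Q` is a cyclic subgroup of index two of a Sylow
`2`-subgroup, then every involution is conjugate to an involution of `Q`. -/
theorem exists_conj_mem {G : Type*} [Group G] [Finite G] (hno : ∀ M : Subgroup G, M.index ≠ 2)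
    (T : Sylow 2 G) (Q : Subgroup G) (hQT : Q ≤ (T : Subgroup G))
    (hQi : Q.relIndex (T : Subgroup G) = 2) (u : G) (hu : orderOf u = 2) :
    ∃ y ∈ Q, IsConj u y := by
  by_contra hcon
  push Not at hcon
  obtain ⟨M, hM, -⟩ := Helper55_Transfer.exists_index_two_of_nonextremal T Q hQT hQi u hu
    (fun y hy hc => absurd hc (hcon y hy))
  exact hno M hM

/-- A finite group with no nontrivial 2-group quotient and dihedral Sylow 2-subgroups of order at least 8 has a single class of involutions. -/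
theorem result {G : Type*} [Group G] [Finite G] (T : Sylow 2 G) (n : ℕ) (hn : 2 ≤ n) (hT : Nonempty ((T : Subgroup G) ≃* DihedralGroup (2 ^ n))) (hO : Cfsg.pResidual 2 G = ⊤) (x y : G) (hx : orderOf x = 2) (hy : orderOf y = 2) : ∃ g : G, g * x * g⁻¹ = y := by
  classical
  obtain ⟨e⟩ := hT
  have hno := no_index_two hO
  -- the rotation
  obtain ⟨ρ, hρ⟩ : ∃ ρ : (T : Subgroup G), ρ = e.symm (DihedralGroup.r 1) := ⟨_, rfl⟩
  have hρo : orderOf (ρ : G) = 2 ^ n := by
    rw [Subgroup.orderOf_coe, hρ, MulEquiv.orderOf_eq, DihedralGroup.orderOf_r_one]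
  have hcardT : Nat.card (T : Subgroup G) = 2 * 2 ^ n := by
    rw [Nat.card_congr e.toEquiv, DihedralGroup.nat_card]
  have hQT : zpowers (ρ : G) ≤ (T : Subgroup G) := zpowers_le.mpr ρ.2
  have hQi : (zpowers (ρ : G)).relIndex (T : Subgroup G) = 2 := by
    have h := Helper32_Sylow.card_mul_relIndex' hQT
    rw [Nat.card_zpowers, hρo, hcardT, mul_comm] at h
    exact Nat.eq_of_mul_eq_mul_right (by positivity) h
  obtain ⟨x', hx'Q, hxx'⟩ := exists_conj_mem hno T _ hQT hQi x hx
  obtain ⟨y', hy'Q, hyy'⟩ := exists_conj_mem hno T _ hQT hQi y hy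
  have hx'o : orderOf x' = 2 := by
    obtain ⟨g, hg⟩ := isConj_iff.mp hxx'
    rw [← hg, Helper34_Sylow.orderOf_conj', hx]
  have hy'o : orderOf y' = 2 := by
    obtain ⟨g, hg⟩ := isConj_iff.mp hyy'
    rw [← hg, Helper34_Sylow.orderOf_conj', hy]
  have heq : x' = y' := Helper4_Sylow2.involution_unique_of_isCyclic_subgroup
    (zpowers (ρ : G)) inferInstance x' y' hx'Q hy'Q hx'o hy'o
  rw [heq] at hxx'
  exact isConj_iff.mp (hxx'.trans hyy'.symm)

end Cfsg.Agent.S0107
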