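import Cfsg.Statements.S1477
import Cfsg.Agent.Lib.Helper25_CN

set_option autoImplicit false
set_option linter.style.haveILetI false
open Cfsg

namespace Cfsg.Agent.S1477

open Cfsg.Agent.Lib.Helper25_CN Cfsg.Agent.Lib.Helper32_Nilpotent

variable {G : Type*} [Group G]

/-- In a CN-group, a maximal nilpotent subgroup is the centraliser of each of its non-identity
central elements. -/
theorem centralizer_eq (hCN : Cfsg.IsCNGroup G) (H : Subgroup G)
    (hmax : ∀ L : Subgroup G, Group.IsNilpotent L → H ≤ L → L = H) (w : G) (hw1 : w ≠ 1)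
    (hw : ∀ h ∈ H, w * h = h * w) : Subgroup.centralizer ({w} : Set G) = H := by
  apply hmax _ (hCN w hw1)
  intro h hh
  rw [Subgroup.mem_centralizer_singleton_iff]
  exact (hw h hh).symm

/-- Elements of a nilpotent subgroup killed by powers of distinct primes commute. -/
theorem commute_pq (H : Subgroup G) (hH : Group.IsNilpotent H) (p q : ℕ) (hp : p.Prime)
    (hq : q.Prime) (hpq : q ≠ p) (y h : G) (hy : y ∈ H) (hh : h ∈ H) (ky kh : ℕ)
    (hyp : y ^ (p ^ ky) = 1) (hhq : h ^ (q ^ kh) = 1) : y * h = h * y := by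
  haveI := hH
  have hc : Commute (⟨y, hy⟩ : H) ⟨h, hh⟩ := by
    apply commute_of_coprime_pow_eq_one H _ _ (p ^ ky) (q ^ kh)
    · apply Subtype.ext; simpa using hyp
    · apply Subtype.ext; simpa using hhq
    · exact Nat.Coprime.pow _ _ ((Nat.coprime_primes hp hq).mpr (Ne.symm hpq))
  have := congrArg Subtype.val hc.eq
  simpa using this

theorem coprime_index [Finite G] (hCN : Cfsg.IsCNGroup G) (H : Subgroup G)
    (hH : Group.IsNilpotent H)
    (hmax : ∀ L : Subgroup G, Group.IsNilpotent L → H ≤ L → L = H) :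
    (Nat.card H).Coprime H.index := by
  by_contra hcon
  obtain ⟨p, hp, hpH, hpI⟩ := Nat.Prime.not_coprime_iff_dvd.mp hcon
  haveI : Fact p.Prime := ⟨hp⟩
  obtain ⟨c₀', hc₀'⟩ := exists_prime_orderOf_dvd_card' (G := H) p hpH
  have hc₀1 : (c₀' : G) ≠ 1 := by
    intro h
    have : c₀' = 1 := Subtype.ext h
    rw [this, orderOf_one] at hc₀'
    exact hp.one_lt.ne hc₀'
  have hc₀p : (c₀' : G) ^ (p ^ 1) = 1 := by
    rw [pow_one]
    have : c₀' ^ p = 1 := by rw [← hc₀']; exact pow_orderOf_eq_one c₀'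
    have := congrArg Subtype.val this
    simpa using this
  obtain ⟨T, hTH, hTp, hT⟩ := exists_qPart H hH p
  obtain ⟨x, hxH, hx1, ⟨kx, hkx⟩, hx⟩ := exists_qCentral' H hH p (c₀' : G) c₀'.2 hc₀1 1 hc₀p
  have hCx := centralizer_eq hCN H hmax x hx1 hx
  obtain ⟨S, hTS⟩ := hTp.exists_le_sylow
  have hxT : x ∈ T := hT x hxH ⟨kx, hkx⟩
  have hxS : x ∈ (S : Subgroup G) := hTS hxT
  haveI : Nontrivial (S : Subgroup G) :=
    ⟨⟨⟨x, hxS⟩, 1, fun h => hx1 (congrArg Subtype.val h)⟩⟩
  have hcen := IsPGroup.center_nontrivial S.2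
  obtain ⟨z', hz'⟩ := exists_ne (1 : Subgroup.center (S : Subgroup G))
  have hz1 : ((z' : (S : Subgroup G)) : G) ≠ 1 := by
    intro h
    apply hz'
    apply Subtype.ext
    apply Subtype.ext
    simpa using h
  have hzS : ∀ s ∈ (S : Subgroup G), ((z' : (S : Subgroup G)) : G) * s = s * ((z' : (S : Subgroup G)) : G) := by
    intro s hs
    have := Subgroup.mem_center_iff.mp z'.2 ⟨s, hs⟩
    have := congrArg Subtype.val this
    simp only [Subgroup.coe_mul] at this
    exact this.symm
  have hzH : ((z' : (S : Subgroup G)) : G) ∈ H := by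
    rw [← hCx, Subgroup.mem_centralizer_singleton_iff]
    exact hzS x hxS
  obtain ⟨kz, hkz⟩ := S.2 (z' : (S : Subgroup G))
  have hkz' : ((z' : (S : Subgroup G)) : G) ^ (p ^ kz) = 1 := by
    have := congrArg Subtype.val hkz
    simpa using this
  have hzc : ∀ h ∈ H, ((z' : (S : Subgroup G)) : G) * h = h * ((z' : (S : Subgroup G)) : G) :=
    commute_of_commute_pElements H hH p hp _ hzH kz hkz'
      (fun h hh hhp => hzS h (hTS (hT h hh hhp)))
  have hCz := centralizer_eq hCN H hmax _ hz1 hzc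
  have hSH : (S : Subgroup G) ≤ H := by
    rw [← hCz]
    intro s hs
    rw [Subgroup.mem_centralizer_singleton_iff]
    exact (hzS s hs).symm
  have : H.index ∣ (S : Subgroup G).index := Subgroup.index_dvd_of_le hSH
  exact S.not_dvd_index (dvd_trans hpI this)

/-- Key step for the TI property. -/
theorem centralizer_eq_of_qCentral [Finite G] (hCN : Cfsg.IsCNGroup G) (H' : Subgroup G)
    (hH' : Group.IsNilpotent H')
    (hmax' : ∀ L : Subgroup G, Group.IsNilpotent L → H' ≤ L → L = H')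
    (y : G) (hyH : y ∈ H') (p : ℕ) (hp : p.Prime) (ky : ℕ) (hy : y ^ (p ^ ky) = 1)
    (q : ℕ) [hq : Fact q.Prime] (hqp : q ≠ p) (c₀ : G) (hc₀ : c₀ ∈ H') (hc₀1 : c₀ ≠ 1) (k₀ : ℕ)
    (hk₀ : c₀ ^ (q ^ k₀) = 1) (w : G) (hw1 : w ≠ 1) (hwq : ∃ k, w ^ (q ^ k) = 1)
    (hw : ∀ c ∈ Subgroup.centralizer ({y} : Set G), (∃ k, c ^ (q ^ k) = 1) → w * c = c * w) :
    Subgroup.centralizer ({w} : Set G) = H' := by
  have hqy : ∀ h ∈ H', (∃ k, h ^ (q ^ k) = 1) → h ∈ Subgroup.centralizer ({y} : Set G) := by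
    rintro h hh ⟨k, hk⟩
    rw [Subgroup.mem_centralizer_singleton_iff]
    exact (commute_pq H' hH' p q hp hq.out hqp y h hyH hh ky k hy hk).symm
  obtain ⟨w₀, hw₀H, hw₀1, ⟨k₁, hk₁⟩, hw₀⟩ := exists_qCentral' H' hH' q c₀ hc₀ hc₀1 k₀ hk₀
  have hCw₀ := centralizer_eq hCN H' hmax' w₀ hw₀1 hw₀
  have hw₀C : w₀ ∈ Subgroup.centralizer ({y} : Set G) := hqy w₀ hw₀H ⟨k₁, hk₁⟩
  have hww₀ : w * w₀ = w₀ * w := hw w₀ hw₀C ⟨k₁, hk₁⟩
  have hwH : w ∈ H' := by
    rw [← hCw₀, Subgroup.mem_centralizer_singleton_iff]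
    exact hww₀
  obtain ⟨kw, hkw⟩ := hwq
  have hwc : ∀ h ∈ H', w * h = h * w :=
    commute_of_commute_pElements H' hH' q hq.out w hwH kw hkw
      (fun h hh hhq => hw h (hqy h hh hhq) hhq)
  exact centralizer_eq hCN H' hmax' w hw1 hwc

/-- Conjugates of maximal nilpotent subgroups are maximal nilpotent. -/
theorem conj_max (H : Subgroup G) (hH : Group.IsNilpotent H)
    (hmax : ∀ L : Subgroup G, Group.IsNilpotent L → H ≤ L → L = H) (g : G) :
    Group.IsNilpotent (H.map (MulAut.conj g).toMonoidHom) ∧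
      ∀ L : Subgroup G, Group.IsNilpotent L → H.map (MulAut.conj g).toMonoidHom ≤ L →
        L = H.map (MulAut.conj g).toMonoidHom := by
  constructor
  · haveI := hH
    exact Group.nilpotent_of_mulEquiv
      (H.equivMapOfInjective (MulAut.conj g).toMonoidHom (MulAut.conj g).injective)
  · intro L hL hle
    have hL' : Group.IsNilpotent (L.map (MulAut.conj g⁻¹).toMonoidHom) := by
      haveI := hL
      exact Group.nilpotent_of_mulEquiv
        (L.equivMapOfInjective (MulAut.conj g⁻¹).toMonoidHom (MulAut.conj g⁻¹).injective)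
    have hle' : H ≤ L.map (MulAut.conj g⁻¹).toMonoidHom := by
      intro h hh
      refine ⟨g * h * g⁻¹, hle ⟨h, hh, rfl⟩, ?_⟩
      simp only [MulEquiv.coe_toMonoidHom, MulAut.conj_apply]
      group
    have heq := hmax _ hL' hle'
    ext l
    constructor
    · intro hl
      have : g⁻¹ * l * g ∈ H := by
        rw [← heq]
        refine ⟨l, hl, ?_⟩
        simp only [MulEquiv.coe_toMonoidHom, MulAut.conj_apply, inv_inv]
      refine ⟨g⁻¹ * l * g, this, ?_⟩
      simp only [MulEquiv.coe_toMonoidHom, MulAut.conj_apply]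
      group
    · intro hl
      exact hle hl

/-- An element normalising `H` has its `[G : H]`-th power in `H`. -/
theorem pow_index_mem [Finite G] (H : Subgroup G) (c : G)
    (hc : c ∈ Subgroup.normalizer (H : Set G)) : c ^ H.index ∈ H := by
  haveI : (H.subgroupOf (Subgroup.normalizer (H : Set G))).Normal := Subgroup.normal_in_normalizer
  have h1 : ((⟨c, hc⟩ : Subgroup.normalizer (H : Set G)) :
      Subgroup.normalizer (H : Set G) ⧸ H.subgroupOf (Subgroup.normalizer (H : Set G))) ^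
      (H.relIndex (Subgroup.normalizer (H : Set G))) = 1 := by
    have : H.relIndex (Subgroup.normalizer (H : Set G)) =
        Nat.card (Subgroup.normalizer (H : Set G) ⧸ H.subgroupOf (Subgroup.normalizer (H : Set G))) := by
      rw [Subgroup.relIndex, Subgroup.index_eq_card]
    rw [this]
    exact pow_card_eq_one'
  rw [← QuotientGroup.mk_pow, QuotientGroup.eq_one_iff, Subgroup.mem_subgroupOf] at h1
  have h2 : c ^ H.relIndex (Subgroup.normalizer (H : Set G)) ∈ H := by
    simpa using h1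
  obtain ⟨t, ht⟩ := Subgroup.relIndex_dvd_index_of_le (Subgroup.le_normalizer (H := H))
  rw [ht, pow_mul]
  exact pow_mem h2 t

theorem result {G : Type*} [Group G] [Finite G] (hCN : Cfsg.IsCNGroup G) (H : Subgroup G) (hH : Group.IsNilpotent H)
    (hmax : ∀ L : Subgroup G, Group.IsNilpotent L → H ≤ L → L = H) :
    (Nat.card H).Coprime H.index ∧
      (¬ IsPrimePow (Nat.card H) → Nat.card H ≠ 1 → ∀ g : G, H.map (MulAut.conj g).toMonoidHom ≠ H → H ⊓ H.map (MulAut.conj g).toMonoidHom = ⊥) ∧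
      ((∀ g : G, H.map (MulAut.conj g).toMonoidHom ≠ H → H ⊓ H.map (MulAut.conj g).toMonoidHom = ⊥) → ∀ x ∈ H, x ≠ 1 → Subgroup.centralizer ({x} : Set G) ≤ H) := by
  have hcop := coprime_index hCN H hH hmax
  refine ⟨hcop, ?_, ?_⟩
  · intro hnpp hne1 g hgH
    by_contra hint
    obtain ⟨⟨y₀, hy₀⟩, hy₀1'⟩ := (Subgroup.ne_bot_iff_exists_ne_one).mp hint
    have hy₀1 : y₀ ≠ 1 := fun h => hy₀1' (Subtype.ext h)
    have hord1 : orderOf y₀ ≠ 1 := fun h => hy₀1 (orderOf_eq_one_iff.mp h)
    obtain ⟨p, hp, hpdvd⟩ := Nat.exists_prime_and_dvd hord1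
    have hyord : orderOf (y₀ ^ (orderOf y₀ / p)) = p :=
      orderOf_pow_orderOf_div (orderOf_pos y₀).ne' hpdvd
    have hyH : y₀ ^ (orderOf y₀ / p) ∈ H := pow_mem (Subgroup.mem_inf.mp hy₀).1 _
    have hyHg : y₀ ^ (orderOf y₀ / p) ∈ H.map (MulAut.conj g).toMonoidHom :=
      pow_mem (Subgroup.mem_inf.mp hy₀).2 _
    have hy1 : y₀ ^ (orderOf y₀ / p) ≠ 1 := by
      intro h
      rw [h, orderOf_one] at hyord
      exact hp.one_lt.ne hyord
    have hyp : (y₀ ^ (orderOf y₀ / p)) ^ (p ^ 1) = 1 := by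
      rw [pow_one]
      have h3 := pow_orderOf_eq_one (y₀ ^ (orderOf y₀ / p))
      rw [hyord] at h3
      exact h3
    generalize y₀ ^ (orderOf y₀ / p) = y at hyord hyH hyHg hy1 hyp
    obtain ⟨q, hq, hqH, hqp⟩ : ∃ q, q.Prime ∧ q ∣ Nat.card H ∧ q ≠ p := by
      by_contra hcon
      apply hnpp
      have hall : ∀ {d : ℕ}, d.Prime → d ∣ Nat.card H → d = p := by
        intro d hd hdvd
        by_contra hne
        exact hcon ⟨d, hd, hdvd, hne⟩
      have hpow : Nat.card H = p ^ (Nat.card H).primeFactorsList.length :=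
        Nat.eq_prime_pow_of_unique_prime_dvd Nat.card_pos.ne' hall
      rw [hpow]
      apply IsPrimePow.pow hp.isPrimePow
      intro h0
      rw [h0, pow_zero] at hpow
      exact hne1 hpow
    haveI : Fact q.Prime := ⟨hq⟩
    obtain ⟨c₀', hc₀'⟩ := exists_prime_orderOf_dvd_card' (G := H) q hqH
    have hc₀1 : (c₀' : G) ≠ 1 := by
      intro h
      have : c₀' = 1 := Subtype.ext h
      rw [this, orderOf_one] at hc₀'
      exact hq.one_lt.ne hc₀'
    have hc₀q : (c₀' : G) ^ (q ^ 1) = 1 := by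
      rw [pow_one]
      have : c₀' ^ q = 1 := by rw [← hc₀']; exact pow_orderOf_eq_one c₀'
      have := congrArg Subtype.val this
      simpa using this
    have hC := hCN y hy1
    have hc₀C : (c₀' : G) ∈ Subgroup.centralizer ({y} : Set G) := by
      rw [Subgroup.mem_centralizer_singleton_iff]
      exact (commute_pq H hH p q hp hq hqp y (c₀' : G) hyH c₀'.2 1 1 hyp hc₀q).symm
    obtain ⟨w, hwC, hw1, hwq, hw⟩ := exists_qCentral (Subgroup.centralizer ({y} : Set G)) hC q
      (c₀' : G) hc₀C hc₀1 1 hc₀q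
    have e1 := centralizer_eq_of_qCentral hCN H hH hmax y hyH p hp 1 hyp q hqp (c₀' : G) c₀'.2
      hc₀1 1 hc₀q w hw1 hwq hw
    obtain ⟨hHg, hmaxg⟩ := conj_max H hH hmax g
    have hconj1 : g * (c₀' : G) * g⁻¹ ≠ 1 := by
      intro h
      apply hc₀1
      have : (c₀' : G) = g⁻¹ * (g * (c₀' : G) * g⁻¹) * g := by group
      rw [this, h]; group
    have hconjq : (g * (c₀' : G) * g⁻¹) ^ (q ^ 1) = 1 := by
      rw [conj_pow, hc₀q]; group
    have e2 := centralizer_eq_of_qCentral hCN _ hHg hmaxg y hyHg p hp 1 hyp q hqp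
      (g * (c₀' : G) * g⁻¹) ⟨(c₀' : G), c₀'.2, rfl⟩ hconj1 1 hconjq w hw1 hwq hw
    exact hgH (e2.symm.trans e1)
  · intro hTI x hxH hx1 c hc
    have hcx : c * x = x * c := Subgroup.mem_centralizer_singleton_iff.mp hc
    have hHc : H.map (MulAut.conj c).toMonoidHom = H := by
      by_contra hne
      have h0 := hTI c hne
      have hx_mem : x ∈ H ⊓ H.map (MulAut.conj c).toMonoidHom := by
        refine Subgroup.mem_inf.mpr ⟨hxH, x, hxH, ?_⟩
        simp only [MulEquiv.coe_toMonoidHom, MulAut.conj_apply]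
        rw [hcx]; group
      rw [h0] at hx_mem
      exact hx1 (Subgroup.mem_bot.mp hx_mem)
    have hcN : c ∈ Subgroup.normalizer (H : Set G) := by
      rw [Subgroup.mem_normalizer_iff]
      intro h
      constructor
      · intro hh
        have : c * h * c⁻¹ ∈ H.map (MulAut.conj c).toMonoidHom := ⟨h, hh, rfl⟩
        rwa [hHc] at this
      · intro hh
        rw [← hHc] at hh
        obtain ⟨h', hh', e⟩ := hh
        simp only [MulEquiv.coe_toMonoidHom, MulAut.conj_apply] at e
        have : h' = h := by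
          have := mul_right_cancel e
          exact mul_left_cancel this
        rwa [← this]
    have hcs := pow_index_mem H c hcN
    have hcrs : c ^ (Nat.card H * H.index) = 1 := by
      rw [Subgroup.card_mul_index]; exact pow_card_eq_one'
    obtain ⟨a, b, hab, ha, hb, ⟨a', ha'⟩, -⟩ := coprime_decomp c (Nat.card H) H.index hcop hcrs
    have hcaH : c ^ a ∈ H := by
      rw [ha', zpow_mul, zpow_natCast]; exact zpow_mem hcs a'
    haveI := hH
    haveI : Nontrivial H := ⟨⟨⟨x, hxH⟩, 1, fun h => hx1 (congrArg Subtype.val h)⟩⟩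
    have hcen : Subgroup.center H ≠ ⊥ := Group.IsNilpotent.center_ne_bot H
    obtain ⟨⟨z', hz'c⟩, hz'1⟩ := (Subgroup.ne_bot_iff_exists_ne_one).mp hcen
    have hz1 : (z' : G) ≠ 1 := by
      intro h
      apply hz'1
      apply Subtype.ext
      apply Subtype.ext
      simpa using h
    have hzc : ∀ h ∈ H, (z' : G) * h = h * (z' : G) := by
      intro h hh
      have := Subgroup.mem_center_iff.mp hz'c ⟨h, hh⟩
      have := congrArg Subtype.val this
      simp only [Subgroup.coe_mul] at this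
      exact this.symm
    have hCz := centralizer_eq hCN H hmax (z' : G) hz1 hzc
    have hzC : (z' : G) ∈ Subgroup.centralizer ({x} : Set G) := by
      rw [Subgroup.mem_centralizer_singleton_iff]
      exact hzc x hxH
    have hcbC : c ^ b ∈ Subgroup.centralizer ({x} : Set G) := zpow_mem hc b
    have hCx := hCN x hx1
    have hcomm : (z' : G) * c ^ b = c ^ b * (z' : G) := by
      haveI := hCx
      have hc' : Commute (⟨(z' : G), hzC⟩ : Subgroup.centralizer ({x} : Set G)) ⟨c ^ b, hcbC⟩ := by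
        apply commute_of_coprime_pow_eq_one _ _ _ (Nat.card H) H.index
        · apply Subtype.ext
          have h1 : z' ^ Nat.card H = 1 := pow_card_eq_one'
          have h2 := congrArg Subtype.val h1
          rw [Subgroup.coe_pow, Subgroup.coe_one] at h2
          rw [Subgroup.coe_pow]
          exact h2
        · apply Subtype.ext
          simpa using hb
        · exact hcop
      have := congrArg Subtype.val hc'.eq
      simpa using this
    have hcbH : c ^ b ∈ H := by
      rw [← hCz, Subgroup.mem_centralizer_singleton_iff]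
      exact hcomm.symm
    rw [hab]
    exact mul_mem hcaH hcbH

end Cfsg.Agent.S1477
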