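import Cfsg.Statements.S1473
import Cfsg.Agent.S0022
import Cfsg.Agent.Lib.Helper1_MinNormal
import Cfsg.Agent.Lib.Helper32_Nilpotent
import Cfsg.Agent.Lib.Helper32_PGroup
import Cfsg.Agent.Lib.Helper76_PSolvable
import Mathlib

/-!
# Quotients of CN-groups by solvable normal subgroups (helper76)

Induction on `|H|` reduces to `H = A` elementary abelian (a `p`-group).  For `x̄ ∈ G/A` of prime
order `q`:
* `q ≠ p`: choose a preimage `w` with `w ^ q = 1`; for `g` in the preimage `C` of `C(x̄)`, the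
  permutation `a ↦ g⁻¹ w g a w⁻¹` of `A` has order dividing `q`, hence a fixed point, i.e. the
  coset `gA` meets `C_G(w)`; so `C(x̄)` is the image of the nilpotent group `C_G(w)`.
* `q = p`: with `T = C_A(x) ≠ 1`, every `p'`-element of `C` centralises `T` (coprime action
  S0022 and the CN-property), every `p`-element of `C` centralises some `1 ≠ h ∈ T`; hence
  elements of coprime orders of `C` commute and `C` is nilpotent.
-/

set_option autoImplicit false
open Cfsg

namespace Cfsg.Agent.S1473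

/-- A finite group in which elements of coprime orders commute is nilpotent. -/
theorem isNilpotent_of_coprime_commute {K : Type*} [Group K] [Finite K]
    (h : ∀ a b : K, (orderOf a).Coprime (orderOf b) → a * b = b * a) : Group.IsNilpotent K := by
  refine ((Group.isNilpotent_of_finite_tfae (G := K)).out 0 3).mpr ?_
  intro p hp P
  rw [← Subgroup.normalizer_eq_top_iff]
  have hidx : (Subgroup.normalizer ((P : Subgroup K) : Set K)).index = 1 := by
    by_contra hne
    obtain ⟨s, hs, hsd⟩ := Nat.exists_prime_and_dvd hne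
    haveI := Fact.mk hs
    by_cases hsp : s = p
    · subst hsp
      have h1 : (Subgroup.normalizer ((P : Subgroup K) : Set K)).index ∣ (P : Subgroup K).index :=
        Subgroup.index_dvd_of_le Subgroup.le_normalizer
      exact P.not_dvd_index (hsd.trans h1)
    · obtain Q : Sylow s K := default
      have hQN : (Q : Subgroup K) ≤ Subgroup.normalizer ((P : Subgroup K) : Set K) := by
        refine le_trans ?_ (Subgroup.centralizer_le_normalizer _)
        intro x hx
        rw [Subgroup.mem_centralizer_iff]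
        intro y hy
        obtain ⟨i, hi⟩ := (IsPGroup.iff_orderOf.mp Q.isPGroup') ⟨x, hx⟩
        obtain ⟨j, hj⟩ := (IsPGroup.iff_orderOf.mp P.isPGroup') ⟨y, hy⟩
        rw [Subgroup.orderOf_mk] at hi hj
        apply h
        rw [hi, hj]
        exact Nat.Coprime.pow _ _ ((Nat.coprime_primes hp.out hs).mpr (Ne.symm hsp))
      have h1 : (Subgroup.normalizer ((P : Subgroup K) : Set K)).index ∣ (Q : Subgroup K).index :=
        Subgroup.index_dvd_of_le hQN
      exact Q.not_dvd_index (hsd.trans h1)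
  exact Subgroup.index_eq_one.mp hidx

/-- Nilpotency passes to smaller subgroups. -/
theorem isNilpotent_of_le {G : Type*} [Group G] {H K : Subgroup G} (hHK : H ≤ K)
    (hK : Group.IsNilpotent K) : Group.IsNilpotent H := by
  haveI := hK
  have h1 : Group.IsNilpotent ↥(H.subgroupOf K) := inferInstance
  exact Group.nilpotent_of_mulEquiv (Subgroup.subgroupOfEquivOfLe hHK)

/-- Nilpotency passes to images of subgroups. -/
theorem isNilpotent_map {G G' : Type*} [Group G] [Group G'] (f : G →* G') (H : Subgroup G)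
    (hH : Group.IsNilpotent H) : Group.IsNilpotent ↥(H.map f) := by
  haveI := hH
  exact Group.nilpotent_of_surjective (f.subgroupMap H) (f.subgroupMap_surjective H)

/-- The CN-property is invariant under isomorphism. -/
theorem isCNGroup_of_mulEquiv {G G' : Type*} [Group G] [Group G'] (e : G ≃* G')
    (h : IsCNGroup G) : IsCNGroup G' := by
  intro g' hg'
  have hg : e.symm g' ≠ 1 := by
    intro h1
    apply hg'
    have := congrArg e h1
    simpa using this
  have h1 := isNilpotent_map e.toMonoidHom _ (h _ hg)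
  refine isNilpotent_of_le ?_ h1
  intro y hy
  rw [Subgroup.mem_centralizer_iff] at hy
  refine ⟨e.symm y, Subgroup.mem_centralizer_iff.mpr ?_, by simp⟩
  intro z hz
  rw [Set.mem_singleton_iff] at hz
  subst hz
  have := hy g' rfl
  apply e.injective
  simpa using this

/-- Splitting an element killed by `r * s` with `r`, `s` coprime. -/
theorem exists_decomp {G : Type*} [Group G] (x : G) {r s : ℕ} (hrs : r.Coprime s)
    (hx : x ^ (r * s) = 1) :
    ∃ y z : G, x = y * z ∧ y ^ r = 1 ∧ z ^ s = 1 ∧ y ∈ Subgroup.zpowers x ∧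
      z ∈ Subgroup.zpowers x := by
  refine ⟨(x ^ s) ^ (Nat.gcdB r s), (x ^ r) ^ (Nat.gcdA r s), ?_, ?_, ?_, ?_, ?_⟩
  · have h1 : (1 : ℤ) = s * Nat.gcdB r s + r * Nat.gcdA r s := by
      have := Nat.gcd_eq_gcd_ab r s
      rw [hrs.gcd_eq_one] at this
      rw [add_comm]
      exact_mod_cast this
    calc x = x ^ (1 : ℤ) := (zpow_one x).symm
      _ = x ^ ((s : ℤ) * Nat.gcdB r s + r * Nat.gcdA r s) := by rw [← h1]
      _ = _ := by rw [zpow_add, zpow_mul, zpow_mul, zpow_natCast, zpow_natCast]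
  · rw [← zpow_natCast, ← zpow_mul, mul_comm, zpow_mul, zpow_natCast, ← pow_mul, mul_comm s r,
      hx, one_zpow]
  · rw [← zpow_natCast, ← zpow_mul, mul_comm, zpow_mul, zpow_natCast, ← pow_mul, hx, one_zpow]
  · exact Subgroup.zpow_mem _ (Subgroup.pow_mem _ (Subgroup.mem_zpowers x) s) _
  · exact Subgroup.zpow_mem _ (Subgroup.pow_mem _ (Subgroup.mem_zpowers x) r) _

variable {G : Type*} [Group G]

/-- Case `q ≠ p`: the centraliser of an element of prime order `q` of `G ⧸ A` is the image of the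
centraliser of a suitable preimage. -/
theorem nilpotent_centralizer_of_ne [Finite G] (hCN : IsCNGroup G) (A : Subgroup G)
    [hAn : A.Normal] {p : ℕ} (hp : p.Prime) (hAp : ∀ a ∈ A, a ^ p = 1)
    (x' : G ⧸ A) {q : ℕ} (hq : q.Prime) (hx : orderOf x' = q) (hqp : q ≠ p) :
    Group.IsNilpotent (Subgroup.centralizer {x'}) := by
  haveI := Fact.mk hp
  haveI := Fact.mk hq
  have hAP : IsPGroup p A := fun g => ⟨1, Subtype.ext (by simpa using hAp g g.2)⟩
  obtain ⟨z, hz⟩ := QuotientGroup.mk_surjective x'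
  have hzq : z ^ q ∈ A := by
    rw [← QuotientGroup.eq_one_iff, QuotientGroup.mk_pow, hz, ← hx, pow_orderOf_eq_one]
  obtain ⟨j, hj⟩ := Nat.exists_mul_mod_eq_one_of_coprime
    ((Nat.coprime_primes hp hq).mpr (Ne.symm hqp)) hq.one_lt
  -- a preimage `w` with `w ^ q = 1`
  have hw : (QuotientGroup.mk (z ^ (p * j)) : G ⧸ A) = x' := by
    rw [QuotientGroup.mk_pow, hz, ← pow_mod_orderOf, hx, hj.2, pow_one]
  have hwq : (z ^ (p * j)) ^ q = 1 := by
    have h1 : (z ^ q) ^ p = 1 := hAp _ hzq
    rw [← pow_mul, show p * j * q = q * p * j by ring, pow_mul, pow_mul, h1, one_pow]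
  have hx1 : x' ≠ 1 := by
    intro h1
    rw [h1, orderOf_one] at hx
    exact hq.one_lt.ne hx
  have hw1 : z ^ (p * j) ≠ 1 := by
    intro h1
    rw [h1, QuotientGroup.mk_one] at hw
    exact hx1 hw.symm
  set w := z ^ (p * j) with hw_def
  have hmemA : ∀ e : G, (QuotientGroup.mk e : G ⧸ A) = 1 → e ∈ A :=
    fun e he => (QuotientGroup.eq_one_iff e).mp he
  have hnotdvd : ¬ q ∣ Nat.card A := by
    obtain ⟨e, he⟩ := IsPGroup.iff_card.mp hAP
    rw [he]
    intro hd
    exact hqp ((Nat.prime_dvd_prime_iff_eq hq hp).mp (hq.dvd_of_dvd_pow hd))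
  refine isNilpotent_of_le ?_ (isNilpotent_map (QuotientGroup.mk' A) _ (hCN w hw1))
  intro y' hy'
  obtain ⟨g, hg⟩ := QuotientGroup.mk_surjective y'
  have hcomm : (QuotientGroup.mk w : G ⧸ A) * QuotientGroup.mk g =
      QuotientGroup.mk g * QuotientGroup.mk w := by
    rw [hw, hg]
    exact Subgroup.mem_centralizer_iff.mp hy' x' rfl
  have hcomm' : (QuotientGroup.mk g : G ⧸ A)⁻¹ * QuotientGroup.mk w * QuotientGroup.mk g =
      QuotientGroup.mk w := by
    rw [mul_assoc, hcomm, inv_mul_cancel_left]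
  -- the permutation of `A`
  have h1 : ∀ a ∈ A, g⁻¹ * w * g * a * w⁻¹ ∈ A := by
    intro a ha
    apply hmemA
    simp only [QuotientGroup.mk_mul, QuotientGroup.mk_inv, hcomm',
      (QuotientGroup.eq_one_iff a).mpr ha, mul_one, mul_inv_cancel]
  have h2 : ∀ a ∈ A, g⁻¹ * w⁻¹ * g * a * w ∈ A := by
    intro a ha
    apply hmemA
    have hcomm'' : (QuotientGroup.mk g : G ⧸ A)⁻¹ * (QuotientGroup.mk w)⁻¹ * QuotientGroup.mk g =
        (QuotientGroup.mk w)⁻¹ := by
      have h3 := congrArg (fun t => t⁻¹) hcomm'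
      simpa [mul_assoc] using h3
    simp only [QuotientGroup.mk_mul, QuotientGroup.mk_inv, hcomm'',
      (QuotientGroup.eq_one_iff a).mpr ha, mul_one, inv_mul_cancel]
  let σ : Equiv.Perm ↥A :=
    { toFun := fun a => ⟨g⁻¹ * w * g * a * w⁻¹, h1 a a.2⟩
      invFun := fun a => ⟨g⁻¹ * w⁻¹ * g * a * w, h2 a a.2⟩
      left_inv := fun a => Subtype.ext (by simp only; group)
      right_inv := fun a => Subtype.ext (by simp only; group) }
  have hσn : ∀ (n : ℕ) (a : ↥A), (((σ ^ n) a : ↥A) : G) = g⁻¹ * w ^ n * g * a * (w ^ n)⁻¹ := by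
    intro n
    induction n with
    | zero => intro a; simp
    | succ n ih =>
      intro a
      rw [pow_succ', Equiv.Perm.mul_apply]
      show g⁻¹ * w * g * (((σ ^ n) a : ↥A) : G) * w⁻¹ = _
      rw [ih a, pow_succ']
      group
  have hσq : σ ^ q ^ 1 = 1 := by
    ext a
    rw [pow_one, hσn q a, hwq]
    simp
  haveI : Fintype ↥A := Fintype.ofFinite _
  obtain ⟨a, ha⟩ := Equiv.Perm.exists_fixed_point_of_prime
    (by rw [← Nat.card_eq_fintype_card]; exact hnotdvd) hσq
  have ha' : g⁻¹ * w * g * (a : G) * w⁻¹ = a := congrArg Subtype.val ha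
  refine ⟨g * a, ?_, ?_⟩
  · rw [SetLike.mem_coe, Subgroup.mem_centralizer_iff]
    intro u hu
    rw [Set.mem_singleton_iff] at hu
    subst hu
    have h3 : w * (g * a) = g * (g⁻¹ * w * g * (a : G) * w⁻¹) * w := by group
    rw [h3, ha']
  · rw [QuotientGroup.mk'_apply, QuotientGroup.mk_mul, (QuotientGroup.eq_one_iff (a : G)).mpr a.2,
      mul_one, hg]

/-- Case `q = p`: the preimage of the centraliser of an element of order `p` of `G ⧸ A` is
nilpotent. -/
theorem nilpotent_centralizer_of_eq [Finite G] (hCN : IsCNGroup G) (A : Subgroup G)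
    [hAn : A.Normal] (hAc : ∀ a ∈ A, ∀ b ∈ A, a * b = b * a) {p : ℕ} (hp : p.Prime)
    (hAp : ∀ a ∈ A, a ^ p = 1) (hA1 : A ≠ ⊥)
    (x' : G ⧸ A) (hx : orderOf x' = p) :
    Group.IsNilpotent (Subgroup.centralizer {x'}) := by
  haveI := Fact.mk hp
  have hAP : IsPGroup p A := fun g => ⟨1, Subtype.ext (by simpa using hAp g g.2)⟩
  obtain ⟨z, hz⟩ := QuotientGroup.mk_surjective x'
  have hx1 : x' ≠ 1 := by
    intro h1
    rw [h1, orderOf_one] at hx
    exact hp.one_lt.ne hx
  have hzA : z ∉ A := by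
    intro h
    apply hx1
    rw [← hz]
    exact (QuotientGroup.eq_one_iff z).mpr h
  have hzp : z ^ p ∈ A := by
    rw [← QuotientGroup.eq_one_iff, QuotientGroup.mk_pow, hz, ← hx, pow_orderOf_eq_one]
  have hzpp : z ^ p ^ 2 = 1 := by
    rw [pow_two, pow_mul]
    exact hAp _ hzp
  have hmemA : ∀ e : G, (QuotientGroup.mk e : G ⧸ A) = 1 → e ∈ A :=
    fun e he => (QuotientGroup.eq_one_iff e).mp he
  -- the preimage `C` of the centraliser
  set C : Subgroup G := (Subgroup.centralizer {x'}).comap (QuotientGroup.mk' A) with hC_def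
  have hCmap : C.map (QuotientGroup.mk' A) = Subgroup.centralizer {x'} :=
    Subgroup.map_comap_eq_self_of_surjective (QuotientGroup.mk'_surjective A) _
  rw [← hCmap]
  apply isNilpotent_map
  have hCcomm : ∀ g ∈ C, (QuotientGroup.mk z : G ⧸ A) * QuotientGroup.mk g =
      QuotientGroup.mk g * QuotientGroup.mk z := by
    intro g hg
    rw [hz]
    exact Subgroup.mem_centralizer_iff.mp (Subgroup.mem_comap.mp hg) x' rfl
  have hCA : ∀ g ∈ C, g * z * g⁻¹ * z⁻¹ ∈ A := by
    intro g hg
    apply hmemA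
    simp only [QuotientGroup.mk_mul, QuotientGroup.mk_inv, ← hCcomm g hg]
    group
  -- `P = A ⟨z⟩`
  have hZP : IsPGroup p (Subgroup.zpowers z) := by
    intro g
    obtain ⟨k, hk⟩ := Subgroup.mem_zpowers_iff.mp g.2
    refine ⟨2, Subtype.ext ?_⟩
    rw [Subgroup.coe_pow, ← hk, ← zpow_natCast, ← zpow_mul, mul_comm, zpow_mul, zpow_natCast,
      hzpp, one_zpow, Subgroup.coe_one]
  have hPp : IsPGroup p ↥(A ⊔ Subgroup.zpowers z) := IsPGroup.to_sup_of_normal_left hAP hZP
  have hzP : z ∈ A ⊔ Subgroup.zpowers z :=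
    (le_sup_right : Subgroup.zpowers z ≤ _) (Subgroup.mem_zpowers z)
  have hCP : ∀ g ∈ C, ∀ h ∈ A ⊔ Subgroup.zpowers z, g * h * g⁻¹ ∈ A ⊔ Subgroup.zpowers z := by
    intro g hg
    have hle : A ⊔ Subgroup.zpowers z ≤
        (A ⊔ Subgroup.zpowers z).comap (MulAut.conj g).toMonoidHom := by
      refine sup_le ?_ ?_
      · intro a ha
        rw [Subgroup.mem_comap]
        exact (le_sup_left : A ≤ _) (hAn.conj_mem a ha g)
      · rw [Subgroup.zpowers_le, Subgroup.mem_comap]
        have h1 : g * z * g⁻¹ = (g * z * g⁻¹ * z⁻¹) * z := by group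
        show g * z * g⁻¹ ∈ _
        rw [h1]
        exact Subgroup.mul_mem _ ((le_sup_left : A ≤ _) (hCA g hg)) hzP
    intro h hh
    exact hle hh
  -- `T = C_A(z)`
  have hCT : ∀ g ∈ C, ∀ t ∈ A ⊓ Subgroup.centralizer {z}, g * t * g⁻¹ ∈ A ⊓ Subgroup.centralizer {z} := by
    intro g hg t ht
    obtain ⟨htA, htz⟩ := Subgroup.mem_inf.mp ht
    refine Subgroup.mem_inf.mpr ⟨hAn.conj_mem t htA g, ?_⟩
    rw [Subgroup.mem_centralizer_iff]
    intro u hu
    rw [Set.mem_singleton_iff] at hu
    subst hu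
    have h1 : g⁻¹ * u * g⁻¹⁻¹ * u⁻¹ ∈ A := hCA g⁻¹ (C.inv_mem hg)
    have h2 : u * t = t * u := Subgroup.mem_centralizer_iff.mp htz u rfl
    have h3 : (g⁻¹ * u * g⁻¹⁻¹ * u⁻¹) * t = t * (g⁻¹ * u * g⁻¹⁻¹ * u⁻¹) := hAc _ h1 _ htA
    have h4 : (g⁻¹ * u * g) * t = t * (g⁻¹ * u * g) := by
      have e : g⁻¹ * u * g = (g⁻¹ * u * g⁻¹⁻¹ * u⁻¹) * u := by group
      rw [e, mul_assoc, h2, ← mul_assoc, h3, mul_assoc]
    calc u * (g * t * g⁻¹) = g * ((g⁻¹ * u * g) * t) * g⁻¹ := by group
      _ = g * (t * (g⁻¹ * u * g)) * g⁻¹ := by rw [h4]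
      _ = g * t * g⁻¹ * u := by group
  -- a nontrivial element of `T`
  obtain ⟨t₀, ht₀, ht₀1⟩ : ∃ t ∈ A ⊓ Subgroup.centralizer {z}, t ≠ 1 := by
    haveI : (A.subgroupOf (A ⊔ Subgroup.zpowers z)).Normal := hAn.subgroupOf _
    have hne : A.subgroupOf (A ⊔ Subgroup.zpowers z) ≠ ⊥ := by
      intro hbot
      apply hA1
      rw [Subgroup.subgroupOf_eq_bot, disjoint_iff, inf_of_le_left le_sup_left] at hbot
      exact hbot
    obtain ⟨t, htN, htc, ht1⟩ :=
      Cfsg.Agent.Lib.Helper32_PGroup.exists_mem_center_of_normal hPp _ hne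
    refine ⟨(t : G), Subgroup.mem_inf.mpr ⟨Subgroup.mem_subgroupOf.mp htN, ?_⟩, ?_⟩
    · rw [Subgroup.mem_centralizer_iff]
      intro u hu
      rw [Set.mem_singleton_iff] at hu
      subst hu
      have := Subgroup.mem_center_iff.mp htc ⟨u, hzP⟩
      exact congrArg Subtype.val this
    · intro h1
      exact ht1 (Subtype.ext h1)
  -- (i) `p'`-elements of `C` centralise `T`
  have hi : ∀ y ∈ C, (orderOf y).Coprime p → ∀ t ∈ A ⊓ Subgroup.centralizer {z}, y * t = t * y := by
    intro y hy hyp t ht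
    obtain ⟨htA, htz⟩ := Subgroup.mem_inf.mp ht
    have hyC : Subgroup.zpowers y ≤ C := by rw [Subgroup.zpowers_le]; exact hy
    have hAK : Subgroup.zpowers y ≤
        Subgroup.normalizer ((A ⊔ Subgroup.zpowers z : Subgroup G) : Set G) := by
      rw [Subgroup.zpowers_le, Subgroup.mem_normalizer_iff]
      intro h
      refine ⟨fun hh => hCP y hy h hh, fun hh => ?_⟩
      have := hCP y⁻¹ (C.inv_mem hy) _ hh
      simpa [mul_assoc] using this
    have hcop : (Nat.card (Subgroup.zpowers y)).Coprime (Nat.card ↥(A ⊔ Subgroup.zpowers z)) := by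
      obtain ⟨e, he⟩ := IsPGroup.iff_card.mp hPp
      rw [Nat.card_zpowers, he]
      exact Nat.Coprime.pow_right _ hyp
    have hsolv : Group.IsSolvable ↥(A ⊔ Subgroup.zpowers z) := by
      haveI := hPp.isNilpotent
      infer_instance
    obtain ⟨c, hc, hzc⟩ := Cfsg.Agent.S0022.result (Subgroup.zpowers y) (A ⊔ Subgroup.zpowers z)
      hAK hcop (Or.inr hsolv) A le_sup_left
      (by rw [Subgroup.normalizer_eq_top]; exact le_top)
      (by rw [Subgroup.normalizer_eq_top]; exact le_top) z hzP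
      (fun a ha => hCA a (hyC ha))
    obtain ⟨-, hcy⟩ := Subgroup.mem_inf.mp hc
    have hc1 : c ≠ 1 := by
      intro h1
      rw [h1, mul_one] at hzc
      exact hzA (by simpa using A.inv_mem hzc)
    have hyc : y ∈ Subgroup.centralizer {c} := by
      rw [Subgroup.mem_centralizer_iff]
      intro u hu
      rw [Set.mem_singleton_iff] at hu
      subst hu
      exact (Subgroup.mem_centralizer_iff.mp hcy y (Subgroup.mem_zpowers y)).symm
    have htc : t ∈ Subgroup.centralizer {c} := by
      rw [Subgroup.mem_centralizer_iff]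
      intro u hu
      rw [Set.mem_singleton_iff] at hu
      subst hu
      have h2 : z * t = t * z := Subgroup.mem_centralizer_iff.mp htz z rfl
      have h3 : (z⁻¹ * u) * t = t * (z⁻¹ * u) := hAc _ hzc _ htA
      have e : u = z * (z⁻¹ * u) := by group
      rw [e, mul_assoc, h3, ← mul_assoc, h2, mul_assoc]
    haveI := hCN c hc1
    have := Cfsg.Agent.Lib.Helper32_Nilpotent.commute_of_coprime_pow_eq_one
      (↥(Subgroup.centralizer {c})) ⟨y, hyc⟩ ⟨t, htc⟩ (orderOf y) p
      (Subtype.ext (by simpa using pow_orderOf_eq_one y))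
      (Subtype.ext (by simpa using hAp t htA)) hyp
    exact congrArg Subtype.val this.eq
  -- (ii) `p`-elements of `C` centralise a nontrivial element of `T`
  have hii : ∀ s ∈ C, (∃ j, s ^ p ^ j = 1) →
      ∃ h ∈ A ⊓ Subgroup.centralizer {z}, h ≠ 1 ∧ s * h = h * s := by
    intro s hs ⟨j, hj⟩
    have hSP : IsPGroup p (Subgroup.zpowers s) := by
      intro g
      obtain ⟨k, hk⟩ := Subgroup.mem_zpowers_iff.mp g.2
      refine ⟨j, Subtype.ext ?_⟩
      rw [Subgroup.coe_pow, ← hk, ← zpow_natCast, ← zpow_mul, mul_comm, zpow_mul, zpow_natCast,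
        hj, one_zpow, Subgroup.coe_one]
    have hTP : IsPGroup p ↥(A ⊓ Subgroup.centralizer {z}) := by
      intro g
      refine ⟨1, Subtype.ext ?_⟩
      simpa using hAp g (Subgroup.mem_inf.mp g.2).1
    have hnorm : Subgroup.zpowers s ≤
        Subgroup.normalizer ((A ⊓ Subgroup.centralizer {z} : Subgroup G) : Set G) := by
      rw [Subgroup.zpowers_le, Subgroup.mem_normalizer_iff]
      intro h
      refine ⟨fun hh => hCT s hs h hh, fun hh => ?_⟩
      have := hCT s⁻¹ (C.inv_mem hs) _ hh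
      simpa [mul_assoc] using this
    have hP' := IsPGroup.to_sup_of_normal_right' hSP hTP hnorm
    haveI : ((A ⊓ Subgroup.centralizer {z}).subgroupOf
        (Subgroup.zpowers s ⊔ (A ⊓ Subgroup.centralizer {z}))).Normal :=
      (Subgroup.normal_subgroupOf_iff_le_normalizer le_sup_right).mpr
        (sup_le hnorm Subgroup.le_normalizer)
    have hne : (A ⊓ Subgroup.centralizer {z}).subgroupOf
        (Subgroup.zpowers s ⊔ (A ⊓ Subgroup.centralizer {z})) ≠ ⊥ := by
      intro hbot
      rw [Subgroup.subgroupOf_eq_bot, disjoint_iff, inf_of_le_left le_sup_right] at hbot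
      rw [hbot, Subgroup.mem_bot] at ht₀
      exact ht₀1 ht₀
    obtain ⟨h, hhN, hhc, hh1⟩ :=
      Cfsg.Agent.Lib.Helper32_PGroup.exists_mem_center_of_normal hP' _ hne
    refine ⟨(h : G), Subgroup.mem_subgroupOf.mp hhN, fun h1 => hh1 (Subtype.ext h1), ?_⟩
    have hsP' : s ∈ Subgroup.zpowers s ⊔ (A ⊓ Subgroup.centralizer {z}) :=
      (le_sup_left : Subgroup.zpowers s ≤ _) (Subgroup.mem_zpowers s)
    have := Subgroup.mem_center_iff.mp hhc ⟨s, hsP'⟩
    exact congrArg Subtype.val this
  -- commuting inside a nilpotent centraliser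
  have hnil : ∀ h : G, h ≠ 1 → ∀ a b : G, a * h = h * a → b * h = h * b → ∀ r s : ℕ,
      a ^ r = 1 → b ^ s = 1 → r.Coprime s → a * b = b * a := by
    intro h hh a b hah hbh r s har hbs hrs
    have hac : a ∈ Subgroup.centralizer {h} := by
      rw [Subgroup.mem_centralizer_iff]
      intro u hu
      rw [Set.mem_singleton_iff] at hu
      subst hu
      exact hah.symm
    have hbc : b ∈ Subgroup.centralizer {h} := by
      rw [Subgroup.mem_centralizer_iff]
      intro u hu
      rw [Set.mem_singleton_iff] at hu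
      subst hu
      exact hbh.symm
    haveI := hCN h hh
    have := Cfsg.Agent.Lib.Helper32_Nilpotent.commute_of_coprime_pow_eq_one
      (↥(Subgroup.centralizer {h})) ⟨a, hac⟩ ⟨b, hbc⟩ r s
      (Subtype.ext (by simpa using har)) (Subtype.ext (by simpa using hbs)) hrs
    exact congrArg Subtype.val this.eq
  -- (iii-a) two `p'`-elements of coprime orders
  have hiiia : ∀ a ∈ C, ∀ b ∈ C, (orderOf a).Coprime p → (orderOf b).Coprime p →
      (orderOf a).Coprime (orderOf b) → a * b = b * a := by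
    intro a ha b hb hap hbp hab
    exact hnil t₀ ht₀1 a b (hi a ha hap t₀ ht₀) (hi b hb hbp t₀ ht₀) _ _
      (pow_orderOf_eq_one a) (pow_orderOf_eq_one b) hab
  -- (iii-b) a `p`-element and a `p'`-element
  have hiiib : ∀ s ∈ C, ∀ b ∈ C, (∃ j, s ^ p ^ j = 1) → (orderOf b).Coprime p →
      s * b = b * s := by
    intro s hs b hb ⟨j, hj⟩ hbp
    obtain ⟨h, hhT, hh1, hsh⟩ := hii s hs ⟨j, hj⟩
    exact hnil h hh1 s b hsh (hi b hb hbp h hhT) _ _ hj (pow_orderOf_eq_one b)
      (Nat.Coprime.pow_left _ hbp.symm)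
  -- general case, `p ∤ o(b)`
  have hmain : ∀ a ∈ C, ∀ b ∈ C, (orderOf a).Coprime (orderOf b) → ¬ p ∣ orderOf b →
      a * b = b * a := by
    intro a ha b hb hab hpb
    have hbp : (orderOf b).Coprime p := ((Nat.Prime.coprime_iff_not_dvd hp).mpr hpb).symm
    obtain ⟨j, m, hpm, hjm⟩ := Nat.exists_eq_pow_mul_and_not_dvd (orderOf_pos a).ne' p hp.ne_one
    have hcop : (p ^ j).Coprime m := Nat.Coprime.pow_left _ ((Nat.Prime.coprime_iff_not_dvd hp).mpr hpm)
    obtain ⟨a₁, a₂, haa, ha₁, ha₂, ha₁z, ha₂z⟩ := exists_decomp a hcop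
      (by rw [← hjm]; exact pow_orderOf_eq_one a)
    have haC : Subgroup.zpowers a ≤ C := by rw [Subgroup.zpowers_le]; exact ha
    have hm : m ∣ orderOf a := ⟨p ^ j, by rw [hjm, mul_comm]⟩
    have ho₂ : orderOf a₂ ∣ m := orderOf_dvd_of_pow_eq_one ha₂
    have h1 : a₂ * b = b * a₂ :=
      hiiia a₂ (haC ha₂z) b hb
        (Nat.Coprime.coprime_dvd_left ho₂ ((Nat.Prime.coprime_iff_not_dvd hp).mpr hpm).symm) hbp
        (Nat.Coprime.coprime_dvd_left (ho₂.trans hm) hab)
    have h2 : a₁ * b = b * a₁ := hiiib a₁ (haC ha₁z) b hb ⟨j, ha₁⟩ hbp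
    rw [haa, mul_assoc, h1, ← mul_assoc, h2, mul_assoc]
  apply isNilpotent_of_coprime_commute
  intro a b hab
  apply Subtype.ext
  rw [Subgroup.coe_mul, Subgroup.coe_mul]
  rw [← Subgroup.orderOf_coe a, ← Subgroup.orderOf_coe b] at hab
  by_cases hpb : p ∣ orderOf (b : G)
  · have hpa : ¬ p ∣ orderOf (a : G) := by
      intro hpa
      have := Nat.dvd_gcd hpa hpb
      rw [hab.gcd_eq_one, Nat.dvd_one] at this
      exact hp.one_lt.ne' this
    exact (hmain b b.2 a a.2 hab.symm hpa).symm
  · exact hmain a a.2 b b.2 hab hpb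

/-- The quotient of a CN-group by a nontrivial normal elementary abelian subgroup is a CN-group. -/
theorem cn_quotient_elementary [Finite G] (hCN : IsCNGroup G) (A : Subgroup G)
    [hAn : A.Normal] (hAc : ∀ a ∈ A, ∀ b ∈ A, a * b = b * a) {p : ℕ} (hp : p.Prime)
    (hAp : ∀ a ∈ A, a ^ p = 1) (hA1 : A ≠ ⊥) : IsCNGroup (G ⧸ A) := by
  intro x' hx'
  have ho : orderOf x' ≠ 1 := fun h => hx' (orderOf_eq_one_iff.mp h)
  obtain ⟨q, hq, hqd⟩ := Nat.exists_prime_and_dvd ho
  have hoq : orderOf (x' ^ (orderOf x' / q)) = q :=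
    orderOf_pow_orderOf_div (orderOf_pos x').ne' hqd
  have hle : Subgroup.centralizer {x'} ≤ Subgroup.centralizer {x' ^ (orderOf x' / q)} := by
    intro y hy
    rw [Subgroup.mem_centralizer_iff] at hy ⊢
    intro u hu
    rw [Set.mem_singleton_iff] at hu
    subst hu
    exact ((show Commute x' y from hy x' rfl).pow_left _).eq
  refine isNilpotent_of_le hle ?_
  by_cases hqp : q = p
  · subst hqp
    exact nilpotent_centralizer_of_eq hCN A hAc hq hAp hA1 _ hoq
  · exact nilpotent_centralizer_of_ne hCN A hp hAp _ hq hoq hqp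

universe u

theorem cn_quotient_aux (n : ℕ) : ∀ (G : Type u) [Group G] [Finite G], IsCNGroup G →
    ∀ (H : Subgroup G) [H.Normal], Group.IsSolvable H → Nat.card H = n → IsCNGroup (G ⧸ H) := by
  induction n using Nat.strong_induction_on with
  | _ n ih =>
    intro G _ _ hCN H hHn hH hcard
    by_cases hbot : H = ⊥
    · subst hbot
      exact isCNGroup_of_mulEquiv (QuotientGroup.quotientBot (G := G)).symm hCN
    · obtain ⟨M, hMn, hMH, hM1, hMc, p, hp, hMp⟩ :=
        Cfsg.Agent.Lib.Helper1_MinNormal.exists_elementary_abelian_normal_le H hH hbot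
      have hMcomm : ∀ a ∈ M, ∀ b ∈ M, a * b = b * a := by
        intro a ha b hb
        have := hMc.is_comm.comm (⟨a, ha⟩ : M) ⟨b, hb⟩
        exact congrArg Subtype.val this
      have h1 : IsCNGroup (G ⧸ M) := cn_quotient_elementary hCN M hMcomm hp hMp hM1
      have hHn' : (H.map (QuotientGroup.mk' M)).Normal :=
        Subgroup.Normal.map hHn _ (QuotientGroup.mk'_surjective M)
      have hsolv : Group.IsSolvable ↥(H.map (QuotientGroup.mk' M)) :=
        Group.isSolvable_of_surjective ((QuotientGroup.mk' M).subgroupMap_surjective H)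
      have hcard' := Cfsg.Agent.Lib.Helper76_PSolvable.card_mul_card_map_mk M H hMH
      have hMgt : 1 < Nat.card M := by
        rcases Nat.lt_or_ge 1 (Nat.card M) with h | h
        · exact h
        · exfalso
          apply hM1
          apply Subgroup.card_eq_one.mp
          have : 0 < Nat.card M := Nat.card_pos
          omega
      have hlt : Nat.card ↥(H.map (QuotientGroup.mk' M)) < n := by
        rw [← hcard, ← hcard']
        have hpos : 0 < Nat.card ↥(H.map (QuotientGroup.mk' M)) := Nat.card_pos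
        nlinarith
      have h2 := ih _ hlt (G ⧸ M) h1 (H.map (QuotientGroup.mk' M)) hsolv rfl
      exact isCNGroup_of_mulEquiv (QuotientGroup.quotientQuotientEquivQuotient M H hMH) h2

/-- Let G be a finite group in which the centralizer of every non-identity element is nilpotent, and H a solvable normal subgroup of G. Then in G/H the centralizer of every non-identity element is nilpotent. -/
theorem result {G : Type*} [Group G] [Finite G] (hCN : Cfsg.IsCNGroup G) (H : Subgroup G) [H.Normal] (hH : Group.IsSolvable H) :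
    Cfsg.IsCNGroup (G ⧸ H) :=
  cn_quotient_aux _ G hCN H hH rfl

end Cfsg.Agent.S1473
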