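import Cfsg.Statements.S1476
import Cfsg.Agent.Lib.Helper25_CNSolv
import Cfsg.Agent.Lib.Helper55_Fitting
import Cfsg.Agent.Lib.Helper71_Solvable
import Cfsg.Agent.S0003
import Cfsg.Agent.S1473
import Cfsg.Agent.S1474

set_option autoImplicit false
set_option linter.style.haveILetI false
open Cfsg

namespace Cfsg.Agent.S1476

open Cfsg.Agent.Lib.Helper25_CN Cfsg.Agent.Lib.Helper25_CNFrob Cfsg.Agent.Lib.Helper25_CNSolv
open Cfsg.Agent.Lib.Helper1_Cores

variable {G : Type*} [Group G]

/-- A group acting fixed-point-freely on a nontrivial nilpotent normal subgroup has property (C). -/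
theorem propC_of_fpf_nilpotent [Finite G] (F E : Subgroup G) [F.Normal]
    (hFnil : Group.IsNilpotent F) (hF1 : F ≠ ⊥)
    (hfpf : ∀ e ∈ E, e ≠ 1 → F ⊓ Subgroup.centralizer {e} = ⊥) : PropC ↥E := by
  set V : Subgroup G := (Subgroup.center F).map F.subtype with hV
  have hVF : V ≤ F := Subgroup.map_subtype_le _
  haveI : Nontrivial F := (Subgroup.nontrivial_iff_ne_bot _).mpr hF1
  haveI := hFnil
  have hVbot : V ≠ ⊥ := by
    intro h
    have := Group.IsNilpotent.center_ne_bot (G := F)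
    apply this
    rw [hV] at h
    exact (Subgroup.map_eq_bot_iff_of_injective _ F.subtype_injective).mp h
  haveI hVn : V.Normal := ConjAct.normal_of_characteristic_of_normal
  have hEV : E ≤ Subgroup.normalizer (V : Set G) := by
    rw [Subgroup.normalizer_eq_top]
    exact le_top
  have hfpfV : ∀ e ∈ E, e ≠ 1 → V ⊓ Subgroup.centralizer {e} = ⊥ := by
    intro e he he1
    rw [eq_bot_iff, ← hfpf e he he1]
    exact inf_le_inf_right _ hVF
  exact Cfsg.Agent.S1474.propC_of_fpf E V hVbot hEV hfpfV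

/-- Elements of order prime to `p` act fixed-point-freely on a self-centralizing normal
`p`-subgroup of a CN-group. -/
theorem fpf_pprime [Finite G] (hCN : Cfsg.IsCNGroup G) (p : ℕ) [Fact p.Prime] (H : Subgroup G)
    (hHp : IsPGroup p H) (hH1 : H ≠ ⊥) (hcent : Subgroup.centralizer (H : Set G) ≤ H) (y : G)
    (m : ℕ) (hm : m.Coprime p) (hym : y ^ m = 1) (hy1 : y ≠ 1) :
    H ⊓ Subgroup.centralizer {y} = ⊥ := by
  rw [eq_bot_iff]
  intro u hu
  rw [Subgroup.mem_bot]
  by_contra hu1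
  obtain ⟨huH, huy⟩ := Subgroup.mem_inf.mp hu
  rw [Subgroup.mem_centralizer_singleton_iff] at huy
  haveI : Nontrivial H := (Subgroup.nontrivial_iff_ne_bot _).mpr hH1
  haveI := hHp.center_nontrivial
  obtain ⟨z, hz⟩ := exists_ne (1 : Subgroup.center H)
  have hz1 : ((z : H) : G) ≠ 1 := by
    intro h
    apply hz
    apply Subtype.ext
    apply Subtype.ext
    simpa using h
  have hzH : ∀ h ∈ H, ((z : H) : G) * h = h * ((z : H) : G) := by
    intro h hh
    have h1 := Subgroup.mem_center_iff.mp z.2 ⟨h, hh⟩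
    exact (congrArg Subtype.val h1).symm
  obtain ⟨k, hk⟩ := hHp (z : H)
  have hk' : ((z : H) : G) ^ p ^ k = 1 := by simpa using congrArg Subtype.val hk
  have hyz : y * ((z : H) : G) = ((z : H) : G) * y := by
    apply commute_in_nilpotent _ (hCN u hu1) y _ _ _ m (p ^ k) hym hk' (Nat.Coprime.pow_right k hm)
    · rw [Subgroup.mem_centralizer_singleton_iff]; exact huy.symm
    · rw [Subgroup.mem_centralizer_singleton_iff]; exact hzH u huH
  have hyH : y ∈ Subgroup.centralizer (H : Set G) := by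
    rw [Subgroup.mem_centralizer_iff]
    intro h hh
    obtain ⟨j, hj⟩ := hHp ⟨h, hh⟩
    have hj' : h ^ p ^ j = 1 := by simpa using congrArg Subtype.val hj
    apply commute_in_nilpotent _ (hCN _ hz1) h y _ _ (p ^ j) m hj' hym
      (Nat.Coprime.pow_left j hm.symm)
    · rw [Subgroup.mem_centralizer_singleton_iff]; exact (hzH h hh).symm
    · rw [Subgroup.mem_centralizer_singleton_iff]; exact hyz
  have hyH' := hcent hyH
  obtain ⟨j, hj⟩ := hHp ⟨y, hyH'⟩
  have hj' : y ^ p ^ j = 1 := by simpa using congrArg Subtype.val hj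
  exact hy1 (eq_one_of_pow_coprime y m (p ^ j) hym hj' (Nat.Coprime.pow_right j hm))

theorem pCore_quotient_pCore [Finite G] (p : ℕ) [Fact p.Prime] :
    pCore p (G ⧸ pCore p G) = ⊥ := by
  set H := pCore p G with hH
  set X := pCore p (G ⧸ H) with hX
  have hXn : X.Normal := inferInstance
  have hπs : Function.Surjective (QuotientGroup.mk' H) := QuotientGroup.mk'_surjective H
  have h1 : X.comap (QuotientGroup.mk' H) ≤ H := by
    apply le_pCore (hXn.comap _)
    apply (pCore_isPGroup (G := G ⧸ H) p).comap_of_ker_isPGroup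
    rw [QuotientGroup.ker_mk']
    exact pCore_isPGroup p
  rw [eq_bot_iff, ← Subgroup.map_comap_eq_self_of_surjective hπs X]
  calc (X.comap (QuotientGroup.mk' H)).map (QuotientGroup.mk' H)
      ≤ H.map (QuotientGroup.mk' H) := Subgroup.map_mono h1
    _ = ⊥ := QuotientGroup.map_mk'_self H

/-- The three-step case. -/
theorem three_step [Finite G] [hsolv : Group.IsSolvable G] (hCN : Cfsg.IsCNGroup G)
    (hquot : ∀ (H : Subgroup G) [H.Normal], Group.IsSolvable H → Cfsg.IsCNGroup (G ⧸ H))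
    (hnn : ¬ Group.IsNilpotent G)
    (hns : ∀ (p : ℕ) [Fact p.Prime] (P : Sylow p G), (P : Subgroup G).Normal →
      (P : Subgroup G) = ⊥) :
    ∃ p : ℕ, p.Prime ∧ Cfsg.IsThreeStepGroup p G := by
  classical
  haveI : Nontrivial G := by
    by_contra h
    rw [not_nontrivial_iff_subsingleton] at h
    exact hnn inferInstance
  obtain ⟨p, hp, hcore⟩ := Cfsg.Agent.Lib.Helper71_Solvable.exists_sylowCore_ne_bot hsolv
  haveI : Fact p.Prime := ⟨hp⟩
  have hH1 : pCore p G ≠ ⊥ := by
    rw [pCore_eq_iInf_sylow p]; exact hcore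
  refine ⟨p, hp, ?_⟩
  set H := pCore p G with hH
  have hHp : IsPGroup p H := pCore_isPGroup p
  have hHnil : Group.IsNilpotent H := hHp.isNilpotent
  -- only one prime has a nontrivial core
  have hother : ∀ q : ℕ, q.Prime → q ≠ p → pCore q G = ⊥ := by
    intro q hq hqp
    by_contra hne
    haveI : Fact q.Prime := ⟨hq⟩
    let P : Sylow p G := default
    have hPn := sylow_normal_of_two_cores hCN p q (Ne.symm hqp) hH1 hne P
    have hP0 := hns p P hPn
    apply hH1
    rw [eq_bot_iff, ← hP0]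
    exact pCore_le_sylow p P
  have hFit : fittingSubgroup G = H := by
    rw [fittingSubgroup_eq_iSup_pCore]
    apply le_antisymm
    · apply iSup_le
      intro q
      by_cases hqp : (q : ℕ) = p
      · rw [hqp]
      · rw [hother q q.2 hqp]; exact bot_le
    · exact le_iSup_of_le ⟨p, hp⟩ le_rfl
  have hcent : Subgroup.centralizer (H : Set G) ≤ H := by
    have := Cfsg.Agent.Lib.Helper55_Fitting.centralizer_fittingSubgroup_le (G := G)
    rwa [hFit] at this
  -- a Hall `p'`-subgroup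
  obtain ⟨a, m, hpm, hcard⟩ :=
    Nat.exists_eq_pow_mul_and_not_dvd (Nat.card_pos (α := G)).ne' p hp.ne_one
  have hmp : m.Coprime p := ((Nat.Prime.coprime_iff_not_dvd hp).mpr hpm).symm
  obtain ⟨D, hD⟩ := Cfsg.Agent.S0003.result (G := G) m (p ^ a) (by rw [hcard, mul_comm])
    (Nat.Coprime.pow_right a hmp)
  have hmpos : 0 < m := by
    rw [← hD]; exact Nat.card_pos
  have hDpow : ∀ y ∈ D, y ^ m = 1 := fun y hy => by rw [← hD]; exact Cfsg.Agent.S1474.pow_card_mem hy
  have hfpfD : ∀ y ∈ D, y ≠ 1 → H ⊓ Subgroup.centralizer {y} = ⊥ := fun y hy hy1 =>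
    fpf_pprime hCN p H hHp hH1 hcent y m hmp (hDpow y hy) hy1
  have hPropD : PropC ↥D := propC_of_fpf_nilpotent H D hHnil hH1 hfpfD
  have hDnil : Group.IsNilpotent D := isNilpotent_of_CN_PropC (Cfsg.Agent.S1474.cn_subgroup hCN D) hPropD
  have hHD : H ⊓ D = ⊥ := by
    apply disjoint_iff.mp
    apply Subgroup.disjoint_of_coprime_natCard
    obtain ⟨n, hn⟩ := IsPGroup.iff_card.mp hHp
    rw [hn, hD]
    exact Nat.Coprime.pow_left n hmp.symm
  have hDindex : D.index = p ^ a := by
    have h1 := Subgroup.card_mul_index D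
    rw [hD, hcard, mul_comm (p ^ a) m] at h1
    exact Nat.eq_of_mul_eq_mul_left hmpos h1
  have hD1 : D ≠ ⊥ := by
    intro h
    apply hnn
    have h1 : m = 1 := by rw [← hD, h, Subgroup.card_bot]
    have h2 : IsPGroup p G := IsPGroup.of_card (n := a) (by rw [hcard, h1, mul_one])
    exact h2.isNilpotent
  -- the quotient by `H`
  have hCNq : Cfsg.IsCNGroup (G ⧸ H) := hquot H inferInstance
  have hcoreq : pCore p (G ⧸ H) = ⊥ := pCore_quotient_pCore p
  set π : G →* G ⧸ H := QuotientGroup.mk' H with hπ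
  have hπs : Function.Surjective π := QuotientGroup.mk'_surjective H
  have hker : π.ker = H := QuotientGroup.ker_mk' H
  set f : D →* G ⧸ H := π.comp D.subtype with hf
  have hfinj : Function.Injective f := by
    rw [← MonoidHom.ker_eq_bot_iff, eq_bot_iff]
    intro d hd
    rw [MonoidHom.mem_ker, hf, MonoidHom.comp_apply] at hd
    have h1 : (d : G) ∈ H := by
      rw [← hker]; exact hd
    have h2 : (d : G) ∈ H ⊓ D := Subgroup.mem_inf.mpr ⟨h1, d.2⟩
    rw [hHD, Subgroup.mem_bot] at h2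
    rw [Subgroup.mem_bot]
    exact Subtype.ext h2
  set Db : Subgroup (G ⧸ H) := f.range with hDb
  have hDbmap : Db = D.map π := by
    rw [hDb, hf, MonoidHom.range_comp, Subgroup.range_subtype]
  let eD : D ≃* Db := MonoidHom.ofInjective hfinj
  have hPropDb : PropC ↥Db := PropC.of_injective eD.symm.toMonoidHom eD.symm.injective hPropD
  have hDbnil : Group.IsNilpotent Db := (Group.isNilpotent_congr eD).mp hDnil
  have hDbcard : Nat.card Db = m := by
    rw [← hD]; exact Nat.card_congr eD.toEquiv.symm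
  have hcomap : Db.comap π = H ⊔ D := by
    rw [hDbmap, Subgroup.comap_map_eq, hker, sup_comm]
  have hDbindex : Db.index = (H ⊔ D).index := by
    rw [← hcomap, Subgroup.index_comap_of_surjective _ hπs]
  obtain ⟨n, hn_le, hn⟩ : ∃ n, n ≤ a ∧ (H ⊔ D).index = p ^ n := by
    have h1 : (H ⊔ D).index ∣ D.index := Subgroup.index_dvd_of_le le_sup_right
    rw [hDindex] at h1
    exact (Nat.dvd_prime_pow hp).mp h1
  -- maximality of `Db` among `p'`-subgroups
  have hmax : ∀ C : Subgroup (G ⧸ H), Db ≤ C → ¬ p ∣ Nat.card C → C = Db := by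
    intro C hle hpC
    apply le_antisymm _ hle
    rw [← Subgroup.relIndex_eq_one]
    have h1 := Subgroup.relIndex_mul_index hle
    rw [hDbindex, hn] at h1
    have h2 : Db.relIndex C ∣ p ^ n := ⟨_, h1.symm⟩
    obtain ⟨i, -, hi⟩ := (Nat.dvd_prime_pow hp).mp h2
    rcases Nat.eq_zero_or_pos i with h0 | hpos
    · rw [hi, h0, pow_zero]
    · exfalso
      apply hpC
      have h3 : Db.relIndex C ∣ Nat.card C := Subgroup.relIndex_dvd_card _ _
      rw [hi] at h3
      exact dvd_trans (dvd_pow_self p hpos.ne') h3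
  -- `H ⊔ D ≠ ⊤`
  have hKtop : H ⊔ D ≠ ⊤ := by
    intro h
    have h1 : (H ⊔ D).index = 1 := by rw [h, Subgroup.index_top]
    have h2 : H.index ∣ m := by
      have h3 : Nat.card (H ⊔ D : Subgroup G) = Nat.card G := by rw [h, Subgroup.card_top]
      have h4 := card_sup_dvd D H
      rw [sup_comm, h3, hD, ← Subgroup.card_mul_index H, mul_comm m] at h4
      exact Nat.dvd_of_mul_dvd_mul_left Nat.card_pos h4
    have h5 : ¬ p ∣ H.index := fun h6 => hpm (dvd_trans h6 h2)
    let P : Sylow p G := hHp.toSylow h5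
    have hPn : (P : Subgroup G).Normal := by
      have : (P : Subgroup G) = H := rfl
      rw [this]; exact inferInstance
    exact hH1 (hns p P hPn)
  have hnpos : 0 < n := by
    rcases Nat.eq_zero_or_pos n with h0 | h
    · exfalso
      rw [h0, pow_zero] at hn
      exact hKtop (Subgroup.index_eq_one.mp hn)
    · exact h
  have hHtop : H ≠ ⊤ := by
    intro h
    apply hKtop
    rw [h, top_sup_eq]
  haveI : Nontrivial (G ⧸ H) := by
    rw [← Finite.one_lt_card_iff_nontrivial]
    have h1 : H.index ≠ 1 := fun h => hHtop (Subgroup.index_eq_one.mp h)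
    have h2 : H.index ≠ 0 := Subgroup.index_ne_zero_of_finite
    change 1 < H.index
    omega
  -- a nontrivial `q`-core of the quotient
  have hsolvq : Group.IsSolvable (G ⧸ H) := inferInstance
  obtain ⟨q, hq, hqcore⟩ :=
    Cfsg.Agent.Lib.Helper71_Solvable.exists_sylowCore_ne_bot (G := G ⧸ H) hsolvq
  haveI : Fact q.Prime := ⟨hq⟩
  have hO1 : pCore q (G ⧸ H) ≠ ⊥ := by
    rw [pCore_eq_iInf_sylow q]; exact hqcore
  have hqp : q ≠ p := by
    rintro rfl
    exact hO1 hcoreq
  set O := pCore q (G ⧸ H) with hO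
  have hOq : IsPGroup q O := pCore_isPGroup q
  have hOn : O.Normal := inferInstance
  have hODb : O ≤ Db := by
    have h1 : Db ⊔ O = Db := by
      apply hmax _ le_sup_left
      intro hdvd
      have h2 := card_sup_dvd Db O
      have h3 : p ∣ Nat.card Db * Nat.card O := dvd_trans hdvd h2
      rcases (Nat.Prime.dvd_mul hp).mp h3 with h4 | h4
      · rw [hDbcard] at h4; exact hpm h4
      · obtain ⟨k, hk⟩ := IsPGroup.iff_card.mp hOq
        rw [hk] at h4
        have := (Nat.prime_dvd_prime_iff_eq hp hq).mp (hp.dvd_of_dvd_pow h4)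
        exact hqp this.symm
    rw [← h1]; exact le_sup_right
  have hqO : q ∣ Nat.card O := by
    haveI : Nontrivial O := (Subgroup.nontrivial_iff_ne_bot _).mpr hO1
    rcases hOq.card_eq_or_dvd with h | h
    · exact absurd h (Finite.one_lt_card (α := O)).ne'
    · exact h
  obtain ⟨ω₀, hω₀⟩ := exists_prime_orderOf_dvd_card' q hqO
  set ω : G ⧸ H := (ω₀ : G ⧸ H) with hω
  have hωord : orderOf ω = q := by
    rw [hω, Subgroup.orderOf_coe]; exact hω₀
  have hωO : ω ∈ O := ω₀.2
  have hωDb : ω ∈ Db := hODb hωO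
  have hω1 : ω ≠ 1 := ne_one_of_prime_order ω (hωord ▸ hq)
  have hωconj : ∀ g : G ⧸ H, g * ω * g⁻¹ ∈ Subgroup.zpowers ω := by
    intro g
    have hgO : g * ω * g⁻¹ ∈ O := hOn.conj_mem ω hωO g
    have hgDb : g * ω * g⁻¹ ∈ Db := hODb hgO
    have key := hPropDb.uniq q (O.subgroupOf Db)
      (Subgroup.zpowers (⟨g * ω * g⁻¹, hgDb⟩ : Db)) (Subgroup.zpowers (⟨ω, hωDb⟩ : Db))
      hOq.comap_subtype
      (Subgroup.zpowers_le.mpr (Subgroup.mem_subgroupOf.mpr hgO))
      (Subgroup.zpowers_le.mpr (Subgroup.mem_subgroupOf.mpr hωO))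
      (by rw [Nat.card_zpowers, Subgroup.orderOf_mk, orderOf_conj, hωord])
      (by rw [Nat.card_zpowers, Subgroup.orderOf_mk, hωord])
    have h1 : (⟨g * ω * g⁻¹, hgDb⟩ : Db) ∈ Subgroup.zpowers (⟨ω, hωDb⟩ : Db) := by
      rw [← key]; exact Subgroup.mem_zpowers _
    obtain ⟨k, hk⟩ := Subgroup.mem_zpowers_iff.mp h1
    rw [Subgroup.mem_zpowers_iff]
    refine ⟨k, ?_⟩
    have := congrArg Subtype.val hk
    simpa using this
  set Cω := Subgroup.centralizer ({ω} : Set (G ⧸ H)) with hCω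
  have hCωnil : Group.IsNilpotent Cω := hCNq ω hω1
  have hCωn : Cω.Normal := by
    constructor
    intro c hc g
    rw [hCω, Subgroup.mem_centralizer_singleton_iff] at hc ⊢
    obtain ⟨k, hk⟩ := Subgroup.mem_zpowers_iff.mp (hωconj g⁻¹)
    have hk' : ω ^ k = g⁻¹ * ω * g := by
      rw [inv_inv] at hk; exact hk
    have hcomm : c * (g⁻¹ * ω * g) = (g⁻¹ * ω * g) * c := by
      rw [← hk']
      exact ((Commute.zpow_right hc k)).eq
    calc g * c * g⁻¹ * ω = g * (c * (g⁻¹ * ω * g)) * g⁻¹ := by group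
      _ = g * ((g⁻¹ * ω * g) * c) * g⁻¹ := by rw [hcomm]
      _ = ω * (g * c * g⁻¹) := by group
  have hDbC : Db ≤ Cω := by
    intro d hd
    rw [hCω, Subgroup.mem_centralizer_singleton_iff]
    have h1 := central_in_nilpotent hPropDb q (⟨ω, hωDb⟩ : Db)
      (by rw [Subgroup.orderOf_mk]; exact hωord) ⊤ (Group.isNilpotent_top.mpr hDbnil)
      (Subgroup.mem_top _) ⟨d, hd⟩ (Subgroup.mem_top _)
    exact (congrArg Subtype.val h1).symm
  have hpC : ¬ p ∣ Nat.card Cω := by
    intro hdvd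
    haveI := hCωn
    obtain ⟨T, hTC, hTn, hTp, hT⟩ := exists_normal_qPart Cω hCωnil p
    have hT0 : T = ⊥ := by
      rw [eq_bot_iff, ← hcoreq]
      exact le_pCore hTn hTp
    obtain ⟨c, hc⟩ := exists_prime_orderOf_dvd_card' p hdvd
    have hcE : orderOf (c : G ⧸ H) = p := by rw [Subgroup.orderOf_coe]; exact hc
    have hcT : (c : G ⧸ H) ∈ T := hT c c.2 ⟨1, pow_orderOf_eq _ p hcE⟩
    rw [hT0, Subgroup.mem_bot] at hcT
    rw [hcT, orderOf_one] at hcE
    exact hp.ne_one hcE.symm
  have hCeq : Cω = Db := hmax Cω hDbC hpC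
  have hDbn : Db.Normal := hCeq ▸ hCωn
  have hKn : (H ⊔ D).Normal := by
    rw [← hcomap]; exact hDbn.comap π
  have hcardq : Nat.card (G ⧸ H) = m * p ^ n := by
    rw [← Subgroup.card_mul_index Db, hDbcard, hDbindex, hn]
  have hcop_mp : ∀ k : ℕ, (p ^ k).Coprime m := fun k => Nat.Coprime.pow_left k hmp.symm
  -- `D` has odd order
  have hDodd : Odd (Nat.card D) := by
    rw [hD, ← Nat.not_even_iff_odd, even_iff_two_dvd]
    intro h2
    have h2' : 2 ∣ Nat.card Db := by rw [hDbcard]; exact h2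
    obtain ⟨t, ht⟩ := exists_prime_orderOf_dvd_card' 2 h2'
    have htE : orderOf (t : G ⧸ H) = 2 := by rw [Subgroup.orderOf_coe]; exact ht
    have ht1 : (t : G ⧸ H) ≠ 1 := ne_one_of_prime_order _ (htE ▸ Nat.prime_two)
    obtain ⟨T, -, hT2, hT⟩ := exists_qPart (⊤ : Subgroup Db) (Group.isNilpotent_top.mpr hDbnil) 2
    have hcentral : ∀ g : G ⧸ H, g * (t : G ⧸ H) * g⁻¹ = (t : G ⧸ H) := by
      intro g
      have hgDb : g * (t : G ⧸ H) * g⁻¹ ∈ Db := hDbn.conj_mem _ t.2 g
      have ho : orderOf (⟨g * (t : G ⧸ H) * g⁻¹, hgDb⟩ : Db) = 2 := by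
        rw [Subgroup.orderOf_mk, orderOf_conj, htE]
      have key := hPropDb.uniq 2 T (Subgroup.zpowers (⟨g * (t : G ⧸ H) * g⁻¹, hgDb⟩ : Db))
        (Subgroup.zpowers t) hT2
        (Subgroup.zpowers_le.mpr (hT _ (Subgroup.mem_top _) ⟨1, pow_orderOf_eq _ 2 ho⟩))
        (Subgroup.zpowers_le.mpr (hT _ (Subgroup.mem_top _) ⟨1, pow_orderOf_eq _ 2 ht⟩))
        (by rw [Nat.card_zpowers, ho]) (by rw [Nat.card_zpowers, ht])
      have h1 : (⟨g * (t : G ⧸ H) * g⁻¹, hgDb⟩ : Db) ∈ Subgroup.zpowers t := by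
        rw [← key]; exact Subgroup.mem_zpowers _
      obtain ⟨k, hk⟩ := Subgroup.mem_zpowers_iff.mp h1
      have hk2 : t ^ k = t ^ (k % 2) := by
        have h5 := (zpow_mod_orderOf t k).symm
        rw [ht] at h5
        exact_mod_cast h5
      rcases Int.emod_two_eq_zero_or_one k with h0 | h0
      · exfalso
        rw [hk2, h0, zpow_zero] at hk
        have : g * (t : G ⧸ H) * g⁻¹ = 1 := (congrArg Subtype.val hk).symm
        apply ht1
        have h3 : (t : G ⧸ H) = g⁻¹ * (g * (t : G ⧸ H) * g⁻¹) * g := by group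
        rw [h3, this]; group
      · rw [hk2, h0, zpow_one] at hk
        exact (congrArg Subtype.val hk).symm
    have htop : Subgroup.centralizer ({(t : G ⧸ H)} : Set (G ⧸ H)) = ⊤ := by
      rw [eq_top_iff]
      intro g _
      rw [Subgroup.mem_centralizer_singleton_iff]
      have := hcentral g
      calc g * (t : G ⧸ H) = g * (t : G ⧸ H) * g⁻¹ * g := by group
        _ = (t : G ⧸ H) * g := by rw [this]
    have hnilq : Group.IsNilpotent (G ⧸ H) := by
      have := hCNq _ ht1
      rw [htop] at this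
      exact Group.isNilpotent_top.mp this
    haveI := hnilq
    let Pb : Sylow p (G ⧸ H) := default
    have hPbn : (Pb : Subgroup (G ⧸ H)).Normal := inferInstance
    have hPb0 : (Pb : Subgroup (G ⧸ H)) = ⊥ := by
      rw [eq_bot_iff, ← hcoreq]
      exact le_pCore hPbn Pb.2
    have hpq : p ∣ Nat.card (G ⧸ H) := by
      rw [hcardq]
      exact dvd_mul_of_dvd_right (dvd_pow_self p hnpos.ne') m
    exact Pb.ne_bot_of_dvd_card hpq hPb0
  have hDcyc : IsCyclic D := isCyclic_of_odd hPropD hDnil hDodd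
  refine ⟨hH1, D, hD1, hDcyc, hDodd, by rw [hD]; exact hmp, hKn, hKtop, ⟨n, hn⟩, hfpfD, ?_⟩
  intro x hx a ha ha1 hmem
  apply hx
  rw [← hcomap, Subgroup.mem_comap]
  have hab1 : π a ≠ 1 := by
    intro h
    have h1 : a ∈ H := by
      rw [← hker]; exact h
    have h2 : a ∈ H ⊓ D := Subgroup.mem_inf.mpr ⟨h1, ha⟩
    rw [hHD, Subgroup.mem_bot] at h2
    exact ha1 h2
  have habDb : π a ∈ Db := by
    rw [hDbmap]; exact Subgroup.mem_map_of_mem π ha
  have hcomm : π x * π a = π a * π x := by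
    have h1 : π (x * a * x⁻¹ * a⁻¹) = 1 := by
      rw [← MonoidHom.mem_ker, hker]; exact hmem
    rw [map_mul, map_mul, map_mul, map_inv, map_inv] at h1
    have h2 : π x * π a * (π x)⁻¹ = π a := mul_inv_eq_one.mp h1
    calc π x * π a = π x * π a * (π x)⁻¹ * π x := by group
      _ = π a * π x := by rw [h2]
  haveI := hDbn
  have hxpn : π x ^ p ^ n ∈ Db := by
    have := Subgroup.pow_index_mem Db (π x)
    rwa [hDbindex, hn] at this
  have hz : (π x ^ m) ^ p ^ n = 1 := by
    rw [← pow_mul, mul_comm, pow_mul]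
    have := Cfsg.Agent.S1474.pow_card_mem hxpn
    rwa [hDbcard] at this
  have hzω : π x ^ m * ω = ω * π x ^ m := by
    apply commute_in_nilpotent _ (hCNq _ hab1) (π x ^ m) ω _ _ (p ^ n) q hz
      (pow_orderOf_eq ω q hωord ▸ by rw [pow_one])
      (Nat.Coprime.pow_left n ((Nat.coprime_primes hp hq).mpr (Ne.symm hqp)))
    · apply pow_mem
      rw [Subgroup.mem_centralizer_singleton_iff]; exact hcomm
    · rw [Subgroup.mem_centralizer_singleton_iff]
      have := hDbC habDb
      rw [hCω, Subgroup.mem_centralizer_singleton_iff] at this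
      exact this.symm
  have hzDb : π x ^ m ∈ Db := by
    rw [← hCeq, hCω, Subgroup.mem_centralizer_singleton_iff]; exact hzω
  have hz1 : π x ^ m = 1 := by
    apply eq_one_of_pow_coprime _ (p ^ n) m hz _ (hcop_mp n)
    have := Cfsg.Agent.S1474.pow_card_mem hzDb
    rwa [hDbcard] at this
  exact mem_of_pow_mem_coprime Db (π x) m (p ^ n) (by rw [hz1]; exact one_mem _) hxpn
    (hcop_mp n).symm

theorem result {G : Type*} [Group G] [Finite G] [Group.IsSolvable G] (hCN : Cfsg.IsCNGroup G) :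
    Group.IsNilpotent G ∨
      (∃ K E : Subgroup G, K.Normal ∧ Subgroup.IsComplement' K E ∧ Cfsg.IsFrobeniusComplement E ∧
        (IsCyclic E ∨ ∃ C Q : Subgroup G, C ⊔ Q = E ∧ (∀ a ∈ C, ∀ b ∈ Q, a * b = b * a) ∧ IsCyclic C ∧ Odd (Nat.card C) ∧
          ∃ n : ℕ, Nonempty (↥Q ≃* QuaternionGroup (2 ^ n)))) ∨
      ∃ p : ℕ, p.Prime ∧ Cfsg.IsThreeStepGroup p G := by
  by_cases hnn : Group.IsNilpotent G
  · left; exact hnn
  right
  by_cases hs : ∃ (p : ℕ) (_ : Fact p.Prime) (P : Sylow p G),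
      (P : Subgroup G).Normal ∧ (P : Subgroup G) ≠ ⊥
  · left
    obtain ⟨p, hp, P, hPn, hP1⟩ := hs
    obtain ⟨hFbot, hFtop, ⟨E, hc, hfrob, hfpf⟩, -⟩ := Cfsg.Agent.S1474.result hCN hnn p P hP1 hPn
    have hFnil := Cfsg.Agent.S1474.fittingHall_nilpotent (G := G)
    have hPropE : PropC ↥E := propC_of_fpf_nilpotent (fittingHall G) E hFnil hFbot hfpf
    have hEnil : Group.IsNilpotent E :=
      isNilpotent_of_CN_PropC (Cfsg.Agent.S1474.cn_subgroup hCN E) hPropE
    exact ⟨fittingHall G, E, inferInstance, hc, hfrob, structure_subgroup E hEnil hPropE⟩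
  · right
    apply three_step hCN (fun H _ hH => Cfsg.Agent.S1473.result hCN H hH) hnn
    intro p _ P hPn
    by_contra h
    exact hs ⟨p, inferInstance, P, hPn, h⟩

end Cfsg.Agent.S1476
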