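import Cfsg.Statements.S1242
import Cfsg.Agent.Lib.Helper2_PResidual
import Mathlib.GroupTheory.Focal

set_option autoImplicit false
open Cfsg

namespace Cfsg.Agent.S1242

open Cfsg.Agent.Lib.Helper2_PResidual
open scoped commutatorElement
open scoped IsMulCommutative

/-- `O^p(G) G'` lies in the kernel of the transfer into `P / P*`. -/
theorem sup_le_ker_transferFocal {G : Type*} [Group G] [Finite G] {p : ℕ} [Fact p.Prime]
    (P : Sylow p G) :
    Cfsg.pResidual p G ⊔ commutator G ≤ (P : Subgroup G).transferFocal.ker := by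
  apply sup_le
  · unfold Cfsg.pResidual
    rw [Subgroup.closure_le]
    intro g hg
    have hg' : Nat.Coprime (orderOf g) p := hg
    rw [SetLike.mem_coe, MonoidHom.mem_ker]
    have hQ : IsPGroup p (↥(P : Subgroup G) ⧸ (P : Subgroup G).focalSubgroupOf) :=
      P.2.to_quotient _
    obtain ⟨k, hk⟩ := hQ ((P : Subgroup G).transferFocal g)
    have h1 : (P : Subgroup G).transferFocal g ^ orderOf g = 1 := by
      rw [← map_pow, pow_orderOf_eq_one, map_one]
    have h3 := pow_gcd_eq_one.2 ⟨h1, hk⟩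
    have h4 : Nat.gcd (orderOf g) (p ^ k) = 1 := Nat.Coprime.pow_right k hg'
    rwa [h4, pow_one] at h3
  · exact Abelianization.commutator_subset_ker _

/-- Under control of fusion, the focal subgroup of a Sylow subgroup of `H` in `G` lies in `H'`. -/
theorem focalSubgroup_le_map_commutator {G : Type*} [Group G] [Finite G] {p : ℕ} [Fact p.Prime]
    (H : Subgroup G)
    (hfus : ∀ g ∈ H, (∃ k : ℕ, orderOf g = p ^ k) → ∀ a : G, a * g * a⁻¹ ∈ H →
      ∃ h ∈ H, h * g * h⁻¹ = a * g * a⁻¹)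
    (Q : Subgroup G) (hQH : Q ≤ H) (hQ : IsPGroup p Q) :
    Q.focalSubgroup ≤ (commutator ↥H).map H.subtype := by
  rw [Subgroup.focalSubgroup_def, Subgroup.closure_le]
  rintro g ⟨hgQ, x, hxQ, u, rfl⟩
  -- `u x⁻¹ u⁻¹ = x⁻¹ ⁅x, u⁆ ∈ Q`
  have h1 : u * x⁻¹ * u⁻¹ = x⁻¹ * ⁅x, u⁆ := by
    rw [commutatorElement_def]; group
  have h2 : u * x⁻¹ * u⁻¹ ∈ H := by
    rw [h1]; exact hQH (Q.mul_mem (Q.inv_mem hxQ) hgQ)
  have hxp : ∃ k : ℕ, orderOf x⁻¹ = p ^ k := by
    obtain ⟨k, hk⟩ := (IsPGroup.iff_orderOf.1 hQ) ⟨x⁻¹, Q.inv_mem hxQ⟩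
    exact ⟨k, by rw [← hk, Subgroup.orderOf_mk]⟩
  obtain ⟨h, hhH, hh⟩ := hfus x⁻¹ (H.inv_mem (hQH hxQ)) hxp u h2
  have h3 : ⁅x, u⁆ = ⁅x, h⁆ := by
    rw [commutatorElement_def, commutatorElement_def]
    calc x * u * x⁻¹ * u⁻¹ = x * (u * x⁻¹ * u⁻¹) := by group
      _ = x * (h * x⁻¹ * h⁻¹) := by rw [hh]
      _ = x * h * x⁻¹ * h⁻¹ := by group
  rw [h3, SetLike.mem_coe]
  refine ⟨⁅(⟨x, hQH hxQ⟩ : H), (⟨h, hhH⟩ : H)⁆, ?_, rfl⟩
  rw [commutator_def]
  exact Subgroup.commutator_mem_commutator (Subgroup.mem_top _) (Subgroup.mem_top _)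

/-- Let G be a finite group, p a prime and H a subgroup of index prime to p such that any two elements of H of p-power order that are conjugate in G are conjugate in H. Then (O^p(G)·G') ∩ H = O^p(H)·H', where O^p denotes the subgroup generated by the elements of order prime to p. -/
theorem result {G : Type*} [Group G] [Finite G] {p : ℕ} [Fact p.Prime] (H : Subgroup G) (hidx : Nat.Coprime p H.index) (hfus : ∀ g ∈ H, (∃ k : ℕ, orderOf g = p ^ k) → ∀ a : G, a * g * a⁻¹ ∈ H → ∃ h ∈ H, h * g * h⁻¹ = a * g * a⁻¹) : (Cfsg.pResidual p G ⊔ commutator G) ⊓ H = (Cfsg.pResidual p ↥H ⊔ commutator ↥H).map H.subtype := by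
  have hp : p.Prime := Fact.out
  -- a Sylow subgroup of `H`, viewed in `G`
  obtain ⟨P⟩ : Nonempty (Sylow p ↥H) := inferInstance
  have hQp : IsPGroup p ((P : Subgroup ↥H).map H.subtype) := P.2.map _
  have hQidx : ¬ p ∣ ((P : Subgroup ↥H).map H.subtype).index := by
    rw [Subgroup.index_map_subtype]
    intro hdvd
    rcases (Nat.Prime.dvd_mul hp).1 hdvd with h1 | h1
    · exact P.not_dvd_index h1
    · exact (Nat.Prime.coprime_iff_not_dvd hp).1 hidx h1
  have hQH : (P : Subgroup ↥H).map H.subtype ≤ H := Subgroup.map_subtype_le _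
  have hPG : ((hQp.toSylow hQidx : Sylow p G) : Subgroup G) = (P : Subgroup ↥H).map H.subtype :=
    IsPGroup.toSylow_coe hQp hQidx
  -- images of the pieces
  have hmapR : (Cfsg.pResidual p ↥H).map H.subtype ≤ Cfsg.pResidual p G := by
    rw [Subgroup.map_le_iff_le_comap]
    unfold Cfsg.pResidual
    rw [Subgroup.closure_le]
    intro h hh
    have hh' : Nat.Coprime (orderOf h) p := hh
    rw [SetLike.mem_coe, Subgroup.mem_comap]
    apply Subgroup.subset_closure
    change Nat.Coprime (orderOf (H.subtype h)) p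
    rw [Subgroup.subtype_apply, Subgroup.orderOf_coe]
    exact hh'
  have hmapC : (commutator ↥H).map H.subtype ≤ commutator G := by
    rw [commutator_def, Subgroup.map_commutator, commutator_def]
    exact Subgroup.commutator_mono le_top le_top
  apply le_antisymm
  · rintro x ⟨hxT, hxH⟩
    have hxH' : x ∈ H := hxH
    have hsup := sylow_sup_pResidual P
    have hmem : (⟨x, hxH'⟩ : H) ∈ (P : Subgroup ↥H) ⊔ Cfsg.pResidual p ↥H := by
      rw [hsup]; exact Subgroup.mem_top _
    obtain ⟨y, hy, r, hr, hyr⟩ := Subgroup.mem_sup_of_normal_right.1 hmem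
    have hx_eq : x = (y : G) * (r : G) := by
      have := congrArg Subtype.val hyr
      simpa using this.symm
    have hrT : (r : G) ∈ Cfsg.pResidual p G ⊔ commutator G :=
      Subgroup.mem_sup_left (hmapR ⟨r, hr, rfl⟩)
    have hyT : (y : G) ∈ Cfsg.pResidual p G ⊔ commutator G := by
      have : (y : G) = x * (r : G)⁻¹ := by rw [hx_eq]; group
      rw [this]
      exact Subgroup.mul_mem _ hxT (Subgroup.inv_mem _ hrT)
    have hyQ : (y : G) ∈ (P : Subgroup ↥H).map H.subtype := ⟨y, hy, rfl⟩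
    -- `y` lies in the focal subgroup
    have hyF : (y : G) ∈ ((hQp.toSylow hQidx : Sylow p G) : Subgroup G).focalSubgroup := by
      rw [← Subgroup.ker_transferFocal_inf_eq_focalSubgroup]
      refine Subgroup.mem_inf.2 ⟨sup_le_ker_transferFocal _ hyT, ?_⟩
      rw [hPG]; exact hyQ
    rw [hPG] at hyF
    have hyC := focalSubgroup_le_map_commutator H hfus _ hQH hQp hyF
    obtain ⟨c, hc, hcy⟩ := hyC
    rw [hx_eq, ← hcy]
    refine ⟨c * r, ?_, by simp⟩
    exact Subgroup.mul_mem _ (Subgroup.mem_sup_right hc) (Subgroup.mem_sup_left hr)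
  · rw [Subgroup.map_sup]
    apply le_inf
    · exact sup_le_sup hmapR hmapC
    · rw [← Subgroup.map_sup]
      exact Subgroup.map_subtype_le _

end Cfsg.Agent.S1242
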