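import Mathlib
import Cfsg.Statements.S0850
import Cfsg.Agent.Lib.Helper15_IndFun

set_option autoImplicit false
open Cfsg

namespace Cfsg.Agent.S0850

open Cfsg.Agent.Lib.Helper15_IndFun

/-- Part 1: no element of `N ∖ K` is conjugate into `K`. -/
theorem part1 {G : Type*} [Group G] [Finite G] (K : Subgroup G)
    (hTI : ∀ g : G, g ∉ Subgroup.normalizer (K : Set G) → ∀ k ∈ K, g * k * g⁻¹ ∈ K → k = 1)
    (hC : ∀ k ∈ K, k ≠ 1 → Subgroup.centralizer ({k} : Set G) ≤ K) :
    ∀ x ∈ Subgroup.normalizer (K : Set G), x ∉ K → ∀ g : G, g * x * g⁻¹ ∉ K := by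
  intro x hxN hxK g hgx
  have hx1 : x ≠ 1 := fun h => hxK (h ▸ K.one_mem)
  -- g ∉ N
  have hgN : g ∉ Subgroup.normalizer (K : Set G) := by
    intro hg
    apply hxK
    have h1 := (Subgroup.mem_normalizer_iff.mp (Subgroup.inv_mem _ hg)) (g * x * g⁻¹)
    have h2 := h1.mp hgx
    have e : g⁻¹ * (g * x * g⁻¹) * g⁻¹⁻¹ = x := by group
    rw [e] at h2
    exact h2
  -- a prime dividing the order of x
  have hord0 : orderOf x ≠ 0 := (orderOf_pos x).ne'
  have hord1 : orderOf x ≠ 1 := by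
    rw [Ne, orderOf_eq_one_iff]; exact hx1
  set p := (orderOf x).minFac with hp
  have hpprime : p.Prime := Nat.minFac_prime hord1
  have hpfact : Fact p.Prime := ⟨hpprime⟩
  have hpdvd : p ∣ orderOf x := Nat.minFac_dvd _
  set x₁ := x ^ (orderOf x / p) with hx₁
  have hx₁ord : orderOf x₁ = p := orderOf_pow_orderOf_div hord0 hpdvd
  have hx₁N : x₁ ∈ Subgroup.normalizer (K : Set G) := Subgroup.pow_mem _ hxN _
  have hx₁1 : x₁ ≠ 1 := by
    intro h
    rw [h, orderOf_one] at hx₁ord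
    exact hpprime.one_lt.ne hx₁ord
  have hgx₁ : g * x₁ * g⁻¹ ∈ K := by
    rw [hx₁, ← conj_pow]
    exact K.pow_mem hgx _
  have hx₁K : x₁ ∉ K := fun h => hx₁1 (hTI g hgN x₁ h hgx₁)
  -- p divides |K|
  have hpK : p ∣ Nat.card K := by
    have h1 : orderOf (g * x * g⁻¹) = orderOf x := by
      exact orderOf_injective (MulAut.conj g).toMonoidHom (MulAut.conj g).injective x
    have h2 : orderOf (g * x * g⁻¹) ∣ Nat.card K := Subgroup.orderOf_dvd_natCard K hgx
    rw [h1] at h2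
    exact dvd_trans hpdvd h2
  -- the action of ⟨x₁⟩ on K by conjugation
  have hzN : Subgroup.zpowers x₁ ≤ Subgroup.normalizer (K : Set G) := by
    rw [Subgroup.zpowers_le]; exact hx₁N
  let act : MulAction (Subgroup.zpowers x₁) K :=
    { smul := fun a k => ⟨a.1 * k.1 * a.1⁻¹, (Subgroup.mem_normalizer_iff.mp (hzN a.2) k.1).mp k.2⟩
      one_smul := by
        intro k
        apply Subtype.ext
        change (1 : G) * k.1 * (1 : G)⁻¹ = k.1
        group
      mul_smul := by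
        intro a b k
        apply Subtype.ext
        change (a.1 * b.1) * k.1 * (a.1 * b.1)⁻¹ = a.1 * (b.1 * k.1 * b.1⁻¹) * a.1⁻¹
        group }
  have hsmul : ∀ (a : Subgroup.zpowers x₁) (k : K), ((a • k : K) : G) = a.1 * k.1 * a.1⁻¹ := fun a k => rfl
  have hP : IsPGroup p (Subgroup.zpowers x₁) := by
    apply IsPGroup.of_card (n := 1)
    rw [Nat.card_zpowers, hx₁ord, pow_one]
  have hfix1 : (1 : K) ∈ MulAction.fixedPoints (Subgroup.zpowers x₁) K := by
    rw [MulAction.mem_fixedPoints]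
    intro a
    apply Subtype.ext
    rw [hsmul]
    simp
  obtain ⟨b, hb, hb1⟩ := hP.exists_fixed_point_of_prime_dvd_card_of_fixed_point K hpK hfix1
  rw [MulAction.mem_fixedPoints] at hb
  have hb' := congrArg Subtype.val (hb ⟨x₁, Subgroup.mem_zpowers x₁⟩)
  rw [hsmul] at hb'
  -- x₁ centralizes b
  have hbne : (b : G) ≠ 1 := fun h => hb1 (Subtype.ext h.symm)
  have hcen : x₁ ∈ Subgroup.centralizer ({(b : G)} : Set G) := by
    rw [Subgroup.mem_centralizer_iff]
    intro y hy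
    rw [Set.mem_singleton_iff] at hy
    rw [hy]
    have h3 : x₁ * (b : G) * x₁⁻¹ = b := hb'
    calc (b : G) * x₁ = x₁ * b * x₁⁻¹ * x₁ := by rw [h3]
      _ = x₁ * b := by group
  exact hx₁K (hC b b.2 hbne hcen)

theorem part2 {G : Type*} [Group G] [Fintype G] (K N : Subgroup G)
    (hTI : ∀ g : G, g ∉ N → ∀ k ∈ K, g * k * g⁻¹ ∈ K → k = 1)
    (h1 : ∀ x ∈ N, x ∉ K → ∀ g : G, g * x * g⁻¹ ∉ K)
    (ϑ : N → ℂ) (hcf : Cfsg.IsClassFunction N ϑ) (hvan : ∀ x : N, (x : G) ∉ K → ϑ x = 0) (hone : ϑ 1 = 0)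
    (x : N) : Cfsg.indFun N ϑ x = ϑ x := by
  classical
  unfold Cfsg.indFun
  -- each term of the sum
  have hterm : ∀ y : G, extendByZero N ϑ (y⁻¹ * (x : G) * y) = if y ∈ N then ϑ x else 0 := by
    intro y
    by_cases hyN : y ∈ N
    · rw [if_pos hyN]
      have hmem : y⁻¹ * (x : G) * y ∈ N := N.mul_mem (N.mul_mem (N.inv_mem hyN) x.2) hyN
      rw [extendByZero_mem N ϑ _ hmem]
      have := hcf x ⟨y⁻¹, N.inv_mem hyN⟩
      rw [← this]
      congr 1
      apply Subtype.ext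
      simp
    · rw [if_neg hyN]
      by_cases hmem : y⁻¹ * (x : G) * y ∈ N
      · rw [extendByZero_mem N ϑ _ hmem]
        by_cases hK : y⁻¹ * (x : G) * y ∈ K
        · by_cases hxK : (x : G) ∈ K
          · have hy' : y⁻¹ ∉ N := fun h => hyN (by simpa using N.inv_mem h)
            have hx1 := hTI y⁻¹ hy' x hxK (by simpa using hK)
            have : (⟨y⁻¹ * (x : G) * y, hmem⟩ : N) = 1 := by
              apply Subtype.ext
              change y⁻¹ * (x : G) * y = 1
              rw [hx1]; group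
            rw [this, hone]
          · exfalso
            have := h1 x x.2 hxK y⁻¹
            apply this
            simpa using hK
        · exact hvan _ hK
      · exact extendByZero_not_mem N ϑ _ hmem
  simp_rw [hterm]
  rw [Finset.sum_ite, Finset.sum_const_zero, add_zero, Finset.sum_const, nsmul_eq_mul]
  have hcard : ((Finset.univ.filter (fun y : G => y ∈ N)).card : ℂ) = (Nat.card N : ℂ) := by
    rw [Nat.card_eq_fintype_card, Fintype.card_subtype]
  rw [hcard, ← mul_assoc, inv_mul_cancel₀, one_mul]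
  have : 0 < Nat.card N := Nat.card_pos
  exact_mod_cast this.ne'

theorem result {G : Type*} [Group G] [Fintype G] (K : Subgroup G) (hTI : ∀ g : G, g ∉ Subgroup.normalizer (K : Set G) → ∀ k ∈ K, g * k * g⁻¹ ∈ K → k = 1) (hlt : K < Subgroup.normalizer (K : Set G)) (hC : ∀ k ∈ K, k ≠ 1 → Subgroup.centralizer ({k} : Set G) ≤ K) : (∀ x ∈ Subgroup.normalizer (K : Set G), x ∉ K → ∀ g : G, g * x * g⁻¹ ∉ K) ∧ ∀ (ϑ : Subgroup.normalizer (K : Set G) → ℂ), Cfsg.IsClassFunction (Subgroup.normalizer (K : Set G)) ϑ → (∀ x : Subgroup.normalizer (K : Set G), (x : G) ∉ K → ϑ x = 0) → ϑ 1 = 0 → ∀ x : Subgroup.normalizer (K : Set G), Cfsg.indFun (Subgroup.normalizer (K : Set G)) ϑ x = ϑ x := by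
  have h1 := part1 K hTI hC
  exact ⟨h1, fun ϑ hcf hvan hone x => part2 K _ hTI h1 ϑ hcf hvan hone x⟩

end Cfsg.Agent.S0850
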