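import Cfsg.Statements.S0851
import Cfsg.Agent.Lib.Helper17_FrobChar
import Cfsg.Agent.Lib.Helper75_TISubset

set_option autoImplicit false
open Cfsg

namespace Cfsg.Agent.S0851


open Cfsg.Agent.Lib.Helper75_Induced Cfsg.Agent.Lib.Helper75_CharArith
  Cfsg.Agent.Lib.Helper3_CharOrtho Cfsg.Agent.Lib.Helper3_CharComplete
  Cfsg.Agent.Lib.Helper3_CharBridge Cfsg.Agent.Lib.Helper80_CharBasic
  Cfsg.Agent.Lib.Helper17_TIPrime Cfsg.Agent.Lib.Helper17_FrobChar
  Cfsg.Agent.Lib.Helper17_Coherence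

open scoped ComplexConjugate

theorem indFun_sub' {G : Type*} [Group G] [Fintype G] (H : Subgroup G) (θ φ : H → ℂ) :
    Cfsg.indFun H (θ - φ) = Cfsg.indFun H θ - Cfsg.indFun H φ := by
  have h1 : θ - φ = θ + (-1 : ℂ) • φ := by
    funext x; simp [sub_eq_add_neg]
  rw [h1, indFun_add, indFun_smul]
  funext x
  simp [sub_eq_add_neg]

/-- Coherence: the main part of the statement. -/
theorem main {G : Type*} [Group G] [Fintype G] (K : Subgroup G)
    (hTI : ∀ g : G, g ∉ Subgroup.normalizer (K : Set G) → ∀ k ∈ K, g * k * g⁻¹ ∈ K → k = 1)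
    (hC : ∀ k ∈ K, k ≠ 1 → Subgroup.centralizer ({k} : Set G) ≤ K)
    (hab : ∀ a ∈ K, ∀ b ∈ K, a * b = b * a) :
    ∃ (ε : ℂ) (f : {χ : Cfsg.IrrCharacter (Subgroup.normalizer (K : Set G)) //
        ∃ k : Subgroup.normalizer (K : Set G), (k : G) ∈ K ∧
          (χ : ↥(Subgroup.normalizer (K : Set G)) → ℂ) k ≠
            (χ : ↥(Subgroup.normalizer (K : Set G)) → ℂ) 1} → Cfsg.IrrCharacter G),
      (ε = 1 ∨ ε = -1) ∧ Function.Injective f ∧ ∀ χ ξ,
        Cfsg.indFun (Subgroup.normalizer (K : Set G))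
          ((χ.1 : ↥(Subgroup.normalizer (K : Set G)) → ℂ) -
            (ξ.1 : ↥(Subgroup.normalizer (K : Set G)) → ℂ)) =
          ε • ((f χ : G → ℂ) - (f ξ : G → ℂ)) := by
  classical
  have : Fintype (Subgroup.normalizer (K : Set G)) := Fintype.ofFinite _
  let A : Subgroup (Subgroup.normalizer (K : Set G)) :=
    K.subgroupOf (Subgroup.normalizer (K : Set G))
  have hAn : A.Normal := Subgroup.normal_in_normalizer
  have habA : ∀ a b : A, a * b = b * a := by
    intro a b
    apply Subtype.ext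
    apply Subtype.ext
    exact hab _ (Subgroup.mem_subgroupOf.mp a.2) _ (Subgroup.mem_subgroupOf.mp b.2)
  have hCA : ∀ a ∈ A, a ≠ 1 → ∀ m : Subgroup.normalizer (K : Set G), m * a = a * m → m ∈ A := by
    intro a ha ha1 m hm
    rw [Subgroup.mem_subgroupOf]
    apply hC (a : G) (Subgroup.mem_subgroupOf.mp ha) (fun h => ha1 (Subtype.ext h))
    rw [Subgroup.mem_centralizer_iff]
    intro y hy
    rw [Set.mem_singleton_iff] at hy
    rw [hy]
    exact (congrArg Subtype.val hm).symm
  have hrel' : ∀ χ : {χ : Cfsg.IrrCharacter (Subgroup.normalizer (K : Set G)) //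
        ∃ k : Subgroup.normalizer (K : Set G), (k : G) ∈ K ∧
          (χ : ↥(Subgroup.normalizer (K : Set G)) → ℂ) k ≠
            (χ : ↥(Subgroup.normalizer (K : Set G)) → ℂ) 1},
      ∃ a : Subgroup.normalizer (K : Set G), a ∈ A ∧
        (χ.1 : ↥(Subgroup.normalizer (K : Set G)) → ℂ) a ≠
          (χ.1 : ↥(Subgroup.normalizer (K : Set G)) → ℂ) 1 := by
    intro χ
    obtain ⟨k, hk, h⟩ := χ.2
    exact ⟨k, Subgroup.mem_subgroupOf.mpr hk, h⟩
  -- vanishing and degrees
  have hvan : ∀ χ : {χ : Cfsg.IrrCharacter (Subgroup.normalizer (K : Set G)) //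
        ∃ k : Subgroup.normalizer (K : Set G), (k : G) ∈ K ∧
          (χ : ↥(Subgroup.normalizer (K : Set G)) → ℂ) k ≠
            (χ : ↥(Subgroup.normalizer (K : Set G)) → ℂ) 1},
      ∀ x : Subgroup.normalizer (K : Set G), (x : G) ∉ (K : Set G) →
        (χ.1 : ↥(Subgroup.normalizer (K : Set G)) → ℂ) x = 0 := by
    intro χ x hx
    exact eq_zero_of_not_mem A habA hCA χ.1 (hrel' χ) x
      (fun h => hx (Subgroup.mem_subgroupOf.mp h))
  have hdeg : ∀ χ ξ : {χ : Cfsg.IrrCharacter (Subgroup.normalizer (K : Set G)) //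
        ∃ k : Subgroup.normalizer (K : Set G), (k : G) ∈ K ∧
          (χ : ↥(Subgroup.normalizer (K : Set G)) → ℂ) k ≠
            (χ : ↥(Subgroup.normalizer (K : Set G)) → ℂ) 1},
      (χ.1 : ↥(Subgroup.normalizer (K : Set G)) → ℂ) 1 =
        (ξ.1 : ↥(Subgroup.normalizer (K : Set G)) → ℂ) 1 := by
    intro χ ξ
    rw [apply_one_of_relevant A habA hCA χ.1 (hrel' χ),
      apply_one_of_relevant A habA hCA ξ.1 (hrel' ξ)]
  -- coefficient vectors of the induced characters
  have hnat : ∀ (χ : {χ : Cfsg.IrrCharacter (Subgroup.normalizer (K : Set G)) //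
        ∃ k : Subgroup.normalizer (K : Set G), (k : G) ∈ K ∧
          (χ : ↥(Subgroup.normalizer (K : Set G)) → ℂ) k ≠
            (χ : ↥(Subgroup.normalizer (K : Set G)) → ℂ) 1}) (i : Cfsg.IrrCharacter G),
      ∃ n : ℕ, Cfsg.classInner (Cfsg.indFun (Subgroup.normalizer (K : Set G))
        (χ.1 : ↥(Subgroup.normalizer (K : Set G)) → ℂ)) (i : G → ℂ) = n := by
    intro χ i
    exact classInner_isCharacter_nat
      (Cfsg.Agent.Lib.Helper75_IndChar.isCharacter_indFun _
        (isCharacter_of_isIrrCharacter χ.1.2)) (isCharacter_of_isIrrCharacter i.2)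
  choose n hn using hnat
  let a : {χ : Cfsg.IrrCharacter (Subgroup.normalizer (K : Set G)) //
        ∃ k : Subgroup.normalizer (K : Set G), (k : G) ∈ K ∧
          (χ : ↥(Subgroup.normalizer (K : Set G)) → ℂ) k ≠
            (χ : ↥(Subgroup.normalizer (K : Set G)) → ℂ) 1} → Cfsg.IrrCharacter G → ℤ :=
    fun χ i => (n χ i : ℤ)
  have hcoef : ∀ χ ξ (i : Cfsg.IrrCharacter G), Cfsg.classInner (Cfsg.indFun (Subgroup.normalizer (K : Set G))
      ((χ.1 : ↥(Subgroup.normalizer (K : Set G)) → ℂ) -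
        (ξ.1 : ↥(Subgroup.normalizer (K : Set G)) → ℂ))) (i : G → ℂ) =
      ((a χ i - a ξ i : ℤ) : ℂ) := by
    intro χ ξ i
    rw [indFun_sub', classInner_sub_left, hn, hn]
    push_cast
    rfl
  -- norms
  have hnorm : ∀ χ ξ, χ ≠ ξ → ∑ i, (a χ i - a ξ i) ^ 2 = 2 := by
    intro χ ξ hne
    have h1 := classInner_self_eq_sum (isClassFunction_indFun (Subgroup.normalizer (K : Set G))
      ((χ.1 : ↥(Subgroup.normalizer (K : Set G)) → ℂ) -
        (ξ.1 : ↥(Subgroup.normalizer (K : Set G)) → ℂ)))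
    rw [Cfsg.Agent.Lib.Helper75_TISubset.classInner_indFun_of_TI (K : Set G) hTI] at h1
    · have h2 : Cfsg.classInner ((χ.1 : ↥(Subgroup.normalizer (K : Set G)) → ℂ) -
          (ξ.1 : ↥(Subgroup.normalizer (K : Set G)) → ℂ))
          ((χ.1 : ↥(Subgroup.normalizer (K : Set G)) → ℂ) -
          (ξ.1 : ↥(Subgroup.normalizer (K : Set G)) → ℂ)) = 2 := by
        rw [classInner_sub_left, classInner_sub_right', classInner_sub_right',
          classInner_self_of_isIrrCharacter χ.1.2, classInner_self_of_isIrrCharacter ξ.1.2,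
          classInner_of_isIrrCharacter_of_ne χ.1.2 ξ.1.2
            (fun h => hne (Subtype.ext (Subtype.ext h))),
          classInner_of_isIrrCharacter_of_ne ξ.1.2 χ.1.2
            (fun h => hne (Subtype.ext (Subtype.ext h.symm)))]
        ring
      rw [h2] at h1
      have h3 : (2 : ℂ) = ((∑ i, (a χ i - a ξ i) ^ 2 : ℤ) : ℂ) := by
        rw [h1]
        push_cast
        apply Finset.sum_congr rfl
        intro i _
        rw [hcoef χ ξ i]
        simp only [Int.cast_sub, map_sub, map_intCast]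
        ring
      exact_mod_cast h3.symm
    · exact isClassFunction_sub (isClassFunction_of_isIrrCharacter χ.1.2)
        (isClassFunction_of_isIrrCharacter ξ.1.2)
    · intro x hx
      rw [Pi.sub_apply, hvan χ x hx, hvan ξ x hx, sub_zero]
    · intro x hx
      rw [Pi.sub_apply, hvan χ x hx, hvan ξ x hx, sub_zero]
    · rw [Pi.sub_apply, hdeg χ ξ, sub_self]
  have hdeg0 : ∀ χ ξ, ∑ i : Cfsg.IrrCharacter G,
      (a χ i - a ξ i) * (Cfsg.charDegree (i : G → ℂ) : ℤ) = 0 := by
    intro χ ξ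
    have h1 := congrFun (classFunction_eq_sum _ (isClassFunction_indFun
      (Subgroup.normalizer (K : Set G))
      ((χ.1 : ↥(Subgroup.normalizer (K : Set G)) → ℂ) -
        (ξ.1 : ↥(Subgroup.normalizer (K : Set G)) → ℂ)))) 1
    rw [indFun_one, Pi.sub_apply, hdeg χ ξ, sub_self, mul_zero, Finset.sum_apply] at h1
    have h2 : ((∑ i : Cfsg.IrrCharacter G,
        (a χ i - a ξ i) * (Cfsg.charDegree (i : G → ℂ) : ℤ) : ℤ) : ℂ) = 0 := by
      rw [h1]
      push_cast
      apply Finset.sum_congr rfl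
      intro i _
      rw [Pi.smul_apply, hcoef χ ξ i,
        Cfsg.Agent.Lib.Helper77_BlockBasics.apply_one_eq_charDegree, smul_eq_mul]
      push_cast
      rfl
    exact_mod_cast h2
  have hpair : ∀ χ ξ, a χ = a ξ ∨ ∃ X Y : Cfsg.IrrCharacter G, X ≠ Y ∧
      ∀ i, a χ i = a ξ i + ei X i - ei Y i := by
    intro χ ξ
    by_cases hne : χ = ξ
    · left; rw [hne]
    · right
      obtain ⟨X, Y, hXY, h⟩ := root_of_norm_two (fun i => a χ i - a ξ i)
        (fun i => (Cfsg.charDegree (i : G → ℂ) : ℤ))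
        (fun i => by exact_mod_cast Cfsg.Agent.Lib.Helper77_BlockBasics.charDegree_pos i)
        (hnorm χ ξ hne) (hdeg0 χ ξ)
      refine ⟨X, Y, hXY, ?_⟩
      intro i
      have := h i
      omega
  have : Nonempty (Cfsg.IrrCharacter G) := ⟨oneIrr G⟩
  obtain ⟨Δ, ε, c, hε, hform⟩ := coherent a hpair
  refine ⟨((-ε : ℤ) : ℂ), c, ?_, ?_, ?_⟩
  · rcases hε with h | h <;> rw [h] <;> norm_num
  · intro χ ξ hc
    by_contra hne
    have h1 := hnorm χ ξ hne
    have h2 : ∀ i, a χ i - a ξ i = 0 := by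
      intro i
      rw [hform χ i, hform ξ i, hc]
      ring
    rw [Finset.sum_congr rfl (fun i _ => by rw [h2 i])] at h1
    simp at h1
  · intro χ ξ
    have h1 := classFunction_eq_sum _ (isClassFunction_indFun (Subgroup.normalizer (K : Set G))
      ((χ.1 : ↥(Subgroup.normalizer (K : Set G)) → ℂ) -
        (ξ.1 : ↥(Subgroup.normalizer (K : Set G)) → ℂ)))
    rw [h1]
    have h2 : ∀ i : Cfsg.IrrCharacter G, Cfsg.classInner
        (Cfsg.indFun (Subgroup.normalizer (K : Set G))
          ((χ.1 : ↥(Subgroup.normalizer (K : Set G)) → ℂ) -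
            (ξ.1 : ↥(Subgroup.normalizer (K : Set G)) → ℂ))) (i : G → ℂ) =
        ((-ε : ℤ) : ℂ) * ((ei (c χ) i : ℂ) - (ei (c ξ) i : ℂ)) := by
      intro i
      rw [hcoef χ ξ i, hform χ i, hform ξ i]
      push_cast
      ring
    rw [Finset.sum_congr rfl (fun i _ => by rw [h2 i])]
    funext g
    simp only [Finset.sum_apply, Pi.smul_apply, smul_eq_mul, Pi.sub_apply]
    have h3 : ∀ X : Cfsg.IrrCharacter G,
        ∑ i : Cfsg.IrrCharacter G, (ei X i : ℂ) * (i : G → ℂ) g = (X : G → ℂ) g := by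
      intro X
      unfold ei
      simp
    calc ∑ i : Cfsg.IrrCharacter G,
          ((-ε : ℤ) : ℂ) * ((ei (c χ) i : ℂ) - (ei (c ξ) i : ℂ)) * (i : G → ℂ) g
        = ((-ε : ℤ) : ℂ) * (∑ i : Cfsg.IrrCharacter G, (ei (c χ) i : ℂ) * (i : G → ℂ) g -
            ∑ i : Cfsg.IrrCharacter G, (ei (c ξ) i : ℂ) * (i : G → ℂ) g) := by
          rw [← Finset.sum_sub_distrib, Finset.mul_sum]
          apply Finset.sum_congr rfl
          intro i _
          ring
      _ = _ := by rw [h3, h3]

/-- Let K be a subgroup of the finite group G that meets each conjugate by an element outside its normalizer N trivially, is properly contained in N, and contains the centralizer of each of its non-identity elements (a T.I. subgroup with Frobenius normalizer). Suppose K is abelian, let e be the index of K in N, and call an irreducible character of N relevant when it takes at some element of K a value different from its degree. Then either there is exactly one relevant character and K is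 an elementary abelian p-group of order e + 1 for some prime p, or there are a sign ε and an injective map f from the relevant characters to the irreducible characters of G such that inducing χ - ξ to G gives ε (f χ - f ξ) for all relevant χ and ξ. -/
theorem result {G : Type*} [Group G] [Fintype G] (K : Subgroup G) (hTI : ∀ g : G, g ∉ Subgroup.normalizer (K : Set G) → ∀ k ∈ K, g * k * g⁻¹ ∈ K → k = 1) (hlt : K < Subgroup.normalizer (K : Set G)) (hC : ∀ k ∈ K, k ≠ 1 → Subgroup.centralizer ({k} : Set G) ≤ K) (hab : ∀ a ∈ K, ∀ b ∈ K, a * b = b * a) : (Nat.card {χ : Cfsg.IrrCharacter (Subgroup.normalizer (K : Set G)) // ∃ k : Subgroup.normalizer (K : Set G), (k : G) ∈ K ∧ (χ : ↥(Subgroup.normalizer (K : Set G)) → ℂ) k ≠ (χ : ↥(Subgroup.normalizer (K : Set G)) → ℂ) 1} = 1 ∧ ∃ p : ℕ, p.Prime ∧ Cfsg.IsElementaryAbelian p K ∧ Nat.card K = (K.subgroupOf (Subgroup.normalizer (K : Set G))).index + 1) ∨ ∃ (ε : ℂ) (f : {χ : Cfsg.IrrCharacter (Subgroup.normalizer (K : Set G))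 // ∃ k : Subgroup.normalizer (K : Set G), (k : G) ∈ K ∧ (χ : ↥(Subgroup.normalizer (K : Set G)) → ℂ) k ≠ (χ : ↥(Subgroup.normalizer (K : Set G)) → ℂ) 1} → Cfsg.IrrCharacter G), (ε = 1 ∨ ε = -1) ∧ Function.Injective f ∧ ∀ χ ξ, Cfsg.indFun (Subgroup.normalizer (K : Set G)) ((χ.1 : ↥(Subgroup.normalizer (K : Set G)) → ℂ) - (ξ.1 : ↥(Subgroup.normalizer (K : Set G)) → ℂ)) = ε • ((f χ : G → ℂ) - (f ξ : G → ℂ)) := by
  exact Or.inr (main K hTI hC hab)

end Cfsg.Agent.S0851
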