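import Cfsg.Statements.S1530
import Cfsg.Agent.Lib.Helper17_CohExt
import Cfsg.Agent.Lib.Helper25_VirtNorm

set_option autoImplicit false
open Cfsg

namespace Cfsg.Agent.S1530

open scoped ComplexConjugate
open Cfsg.Agent.Lib.Helper3_CharOrtho Cfsg.Agent.Lib.Helper75_CharArith
  Cfsg.Agent.Lib.Helper17_CohSys Cfsg.Agent.Lib.Helper17_CohExt

section Main

variable {L : Type*} [Group L] [Fintype L] {G : Type*} [Group G] [Fintype G]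

omit [Fintype L] in
theorem isCharacter_of_irr {χ : L → ℂ} (h : Cfsg.IsIrrCharacter L χ) : Cfsg.IsCharacter L χ := by
  obtain ⟨n, ρ, -, rfl⟩ := h
  exact ⟨n, ρ, rfl⟩

theorem irr_apply_one_ne_zero {χ : L → ℂ} (h : Cfsg.IsIrrCharacter L χ) : χ 1 ≠ 0 :=
  fun h1 => isIrrCharacter_ne_zero h (char_eq_zero_of_apply_one (isCharacter_of_irr h) h1)

/-- The norm of the remainder after removing the components along an orthonormal indexed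
family, for integer coefficients. -/
theorem remainder_norm {ι : Type*} [DecidableEq ι] (s : Finset ι) (e : ι → G → ℂ)
    (horth : ∀ i ∈ s, ∀ j ∈ s, Cfsg.classInner (e i) (e j) = if i = j then 1 else 0)
    (Θ : G → ℂ) (k : ι → ℤ) (hk : ∀ i ∈ s, Cfsg.classInner Θ (e i) = k i) :
    Cfsg.classInner (Θ - ∑ i ∈ s, k i • e i) (Θ - ∑ i ∈ s, k i • e i) =
      Cfsg.classInner Θ Θ - ((∑ i ∈ s, (k i) ^ 2 : ℤ) : ℂ) := by
  have h1 : Cfsg.classInner Θ (∑ i ∈ s, k i • e i) = ((∑ i ∈ s, (k i) ^ 2 : ℤ) : ℂ) := by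
    rw [classInner_sum_right]
    push_cast
    refine Finset.sum_congr rfl (fun i hi => ?_)
    rw [classInner_zsmul_right, hk i hi]
    ring
  have h2 : Cfsg.classInner (∑ i ∈ s, k i • e i) Θ = ((∑ i ∈ s, (k i) ^ 2 : ℤ) : ℂ) := by
    rw [← classInner_conj_symm, h1, map_intCast]
  have h3 : Cfsg.classInner (∑ i ∈ s, k i • e i) (∑ i ∈ s, k i • e i) =
      ((∑ i ∈ s, (k i) ^ 2 : ℤ) : ℂ) := by
    rw [classInner_sum_left]
    push_cast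
    refine Finset.sum_congr rfl (fun i hi => ?_)
    rw [classInner_zsmul_left, classInner_sum_right, Finset.sum_eq_single i]
    · rw [classInner_zsmul_right, horth i hi i hi, if_pos rfl]
      ring
    · intro j hj hji
      rw [classInner_zsmul_right, horth i hi j hj, if_neg (Ne.symm hji), mul_zero]
    · intro h; exact absurd hi h
  rw [classInner_sub_left, classInner_sub_right, classInner_sub_right, h1, h2, h3]
  ring

/-- The key computation. -/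
theorem key (S₀ : Finset (L → ℂ)) (χ : L → ℂ) (hirr : ∀ ξ ∈ S₀, Cfsg.IsIrrCharacter L ξ)
    (hχ : Cfsg.IsIrrCharacter L χ) (hχS : χ ∉ S₀) (d : (L → ℂ) → ℕ)
    (hd : ∀ ξ ∈ insert χ S₀, ξ 1 = (d ξ : ℂ)) (τ : (L → ℂ) → (G → ℂ))
    (hτ : Cfsg.IsLinearIsometryOn (Cfsg.zspanOn (↑(insert χ S₀) : Set (L → ℂ)) {1}ᶜ) τ)
    (hτ1 : ∀ α ∈ Cfsg.zspanOn (↑(insert χ S₀) : Set (L → ℂ)) {1}ᶜ, τ α 1 = 0)
    {τ₁ : (L → ℂ) → (G → ℂ)}
    (hτ₁ : Cfsg.IsLinearIsometryOn (Cfsg.zspan (↑S₀ : Set (L → ℂ))) τ₁)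
    (hag : ∀ α ∈ Cfsg.zspanOn (↑S₀ : Set (L → ℂ)) ({1}ᶜ : Set L), τ₁ α = τ α)
    (ψ : L → ℂ) (hψ : ψ ∈ S₀) {a : ℕ} (ha : d χ = a * d ψ)
    (hlt : 2 * d ψ * d χ < ∑ ξ ∈ S₀, d ξ ^ 2) :
    (∀ ξ ∈ S₀, ξ ≠ ψ → Cfsg.classInner (τ (χ - (a : ℤ) • ψ)) (τ₁ ξ) = 0) ∧
    Cfsg.classInner (τ (χ - (a : ℤ) • ψ)) (τ₁ ψ) = -(a : ℂ) ∧
    Cfsg.classInner (τ (χ - (a : ℤ) • ψ)) (τ (χ - (a : ℤ) • ψ)) = 1 + (a : ℂ) ^ 2 ∧
    χ - (a : ℤ) • ψ ∈ Cfsg.zspanOn (↑(insert χ S₀) : Set (L → ℂ)) ({1}ᶜ : Set L) := by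
  classical
  have hsubS : (↑S₀ : Set (L → ℂ)) ⊆ (↑(insert χ S₀) : Set (L → ℂ)) := by
    intro x hx
    exact Finset.mem_insert_of_mem hx
  have hχmem : χ ∈ (↑(insert χ S₀) : Set (L → ℂ)) := Finset.mem_insert_self χ S₀
  have hψmem' : ψ ∈ (↑(insert χ S₀) : Set (L → ℂ)) := hsubS hψ
  have hΦmem : χ - (a : ℤ) • ψ ∈ Cfsg.zspanOn (↑(insert χ S₀) : Set (L → ℂ)) ({1}ᶜ : Set L) := by
    refine ⟨Submodule.sub_mem _ (Submodule.subset_span hχmem)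
      (Submodule.smul_mem _ _ (Submodule.subset_span hψmem')), ?_⟩
    intro x hx
    have hx' : x = 1 := by simpa using hx
    rw [hx', Pi.sub_apply, Pi.smul_apply, hd χ hχmem, hd ψ hψmem', ha]
    push_cast
    simp
  set Φ := χ - (a : ℤ) • ψ with hΦ
  set Θ := τ Φ with hΘ
  have hΘg : Cfsg.IsGeneralizedCharacter G Θ := hτ.2.2.2 _ hΦmem
  have hdψpos : 0 < d ψ := by
    apply Nat.pos_of_ne_zero
    intro h
    apply irr_apply_one_ne_zero (hirr ψ hψ)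
    rw [hd ψ hψmem', h]; simp
  have hdχpos : 0 < d χ := by
    apply Nat.pos_of_ne_zero
    intro h
    apply irr_apply_one_ne_zero hχ
    rw [hd χ hχmem, h]; simp
  have hχξ : ∀ ξ ∈ S₀, Cfsg.classInner χ ξ = 0 := fun ξ hξ =>
    classInner_of_isIrrCharacter_of_ne hχ (hirr ξ hξ) (fun h => hχS (h ▸ hξ))
  have hξχ : ∀ ξ ∈ S₀, Cfsg.classInner ξ χ = 0 := fun ξ hξ => by
    rw [← classInner_conj_symm, hχξ ξ hξ, map_zero]
  have hψψ : Cfsg.classInner ψ ψ = 1 := classInner_self_of_isIrrCharacter (hirr ψ hψ)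
  have hχχ : Cfsg.classInner χ χ = 1 := classInner_self_of_isIrrCharacter hχ
  have hint : ∀ ξ ∈ S₀, ∃ k : ℤ, Cfsg.classInner Θ (τ₁ ξ) = k := fun ξ hξ =>
    Cfsg.Agent.S1515.inner_int hΘg (hτ₁.2.2.2 _ (subset_zspan hξ))
  choose! k hk using hint
  set w : ℤ := k ψ + a with hw
  -- the elements `d ξ • ψ - d ψ • ξ`
  have hγmem : ∀ ξ ∈ S₀, (d ξ : ℤ) • ψ - (d ψ : ℤ) • ξ ∈
      Cfsg.zspanOn (↑S₀ : Set (L → ℂ)) ({1}ᶜ : Set L) := by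
    intro ξ hξ
    refine ⟨Submodule.sub_mem _ (Submodule.smul_mem _ _ (Submodule.subset_span hψ))
      (Submodule.smul_mem _ _ (Submodule.subset_span hξ)), ?_⟩
    intro x hx
    have hx' : x = 1 := by simpa using hx
    rw [hx', Pi.sub_apply, Pi.smul_apply, Pi.smul_apply, hd ψ hψmem', hd ξ (hsubS hξ)]
    simp [mul_comm]
  have hγE : ∀ ξ ∈ S₀, (d ξ : ℤ) • ψ - (d ψ : ℤ) • ξ ∈
      Cfsg.zspanOn (↑(insert χ S₀) : Set (L → ℂ)) ({1}ᶜ : Set L) :=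
    fun ξ hξ => ⟨Submodule.span_mono hsubS (hγmem ξ hξ).1, (hγmem ξ hξ).2⟩
  have hτ₁γ : ∀ ξ ∈ S₀, τ₁ ((d ξ : ℤ) • ψ - (d ψ : ℤ) • ξ) =
      (d ξ : ℤ) • τ₁ ψ - (d ψ : ℤ) • τ₁ ξ := by
    intro ξ hξ
    rw [map_sub_of (M := Submodule.span ℤ (↑S₀ : Set (L → ℂ))) hτ₁
      (Submodule.smul_mem _ _ (Submodule.subset_span hψ))
      (Submodule.smul_mem _ _ (Submodule.subset_span hξ)),
      hτ₁.2.1 _ (subset_zspan hψ), hτ₁.2.1 _ (subset_zspan hξ)]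
  -- the relation
  have hrel : ∀ ξ ∈ S₀, ξ ≠ ψ → (d ψ : ℤ) * k ξ = (d ξ : ℤ) * w := by
    intro ξ hξ hne
    have e2 : Cfsg.classInner Θ (τ₁ ((d ξ : ℤ) • ψ - (d ψ : ℤ) • ξ)) =
        Cfsg.classInner Φ ((d ξ : ℤ) • ψ - (d ψ : ℤ) • ξ) := by
      rw [hag _ (hγmem ξ hξ), hΘ, hτ.2.2.1 _ hΦmem _ (hγE ξ hξ)]
    have e3 : Cfsg.classInner Φ ((d ξ : ℤ) • ψ - (d ψ : ℤ) • ξ) = -(a * d ξ : ℂ) := by
      rw [hΦ]
      simp only [classInner_sub_left, classInner_sub_right, classInner_zsmul_right,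
        classInner_zsmul_left]
      rw [hχξ ψ hψ, hχξ ξ hξ, hψψ,
        classInner_of_isIrrCharacter_of_ne (hirr ψ hψ) (hirr ξ hξ) (Ne.symm hne)]
      push_cast
      ring
    rw [hτ₁γ ξ hξ, classInner_sub_right, classInner_zsmul_right, classInner_zsmul_right,
      hk ψ hψ, hk ξ hξ, e3] at e2
    have e4 : ((d ξ : ℤ) * k ψ - (d ψ : ℤ) * k ξ : ℤ) = -((a : ℤ) * (d ξ : ℤ)) := by
      have : (((d ξ : ℤ) * k ψ - (d ψ : ℤ) * k ξ : ℤ) : ℂ) = ((-((a : ℤ) * (d ξ : ℤ)) : ℤ) : ℂ) := by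
        push_cast
        push_cast at e2
        exact e2
      exact_mod_cast this
    rw [hw]
    linarith
  -- the remainder
  have horthτ₁ : ∀ i ∈ S₀, ∀ j ∈ S₀, Cfsg.classInner (τ₁ i) (τ₁ j) = if i = j then 1 else 0 := by
    intro i hi j hj
    rw [hτ₁.2.2.1 _ (subset_zspan hi) _ (subset_zspan hj)]
    split_ifs with h
    · rw [h]; exact classInner_self_of_isIrrCharacter (hirr j hj)
    · exact classInner_of_isIrrCharacter_of_ne (hirr i hi) (hirr j hj) h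
  have hZnorm := remainder_norm S₀ τ₁ horthτ₁ Θ k hk
  have hΘnorm : Cfsg.classInner Θ Θ = 1 + (a : ℂ) ^ 2 := by
    rw [hΘ, hτ.2.2.1 _ hΦmem _ hΦmem, hΦ]
    simp only [classInner_sub_left, classInner_sub_right, classInner_zsmul_right,
      classInner_zsmul_left]
    rw [hχχ, hχξ ψ hψ, hξχ ψ hψ, hψψ]
    push_cast
    ring
  have hZg : Cfsg.IsGeneralizedCharacter G (Θ - ∑ i ∈ S₀, k i • τ₁ i) :=
    gen_sub hΘg (gen_sum _ _ (fun i hi => gen_zsmul _ (hτ₁.2.2.2 _ (subset_zspan hi))))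
  set q : ℤ := 1 + (a : ℤ) ^ 2 - ∑ i ∈ S₀, (k i) ^ 2 with hq
  have hZq : Cfsg.classInner (Θ - ∑ i ∈ S₀, k i • τ₁ i) (Θ - ∑ i ∈ S₀, k i • τ₁ i) = (q : ℂ) := by
    rw [hZnorm, hΘnorm, hq]
    push_cast
    ring
  have hq0 : 0 ≤ q := by
    have h0 := classInner_self_re_nonneg (Θ - ∑ i ∈ S₀, k i • τ₁ i)
    rw [hZq, Complex.intCast_re] at h0
    exact_mod_cast h0
  set D : ℤ := ∑ ξ ∈ S₀, (d ξ : ℤ) ^ 2 with hD
  have hkψ : k ψ = w - a := by rw [hw]; ring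
  have hsq : (d ψ : ℤ) ^ 2 * ∑ ξ ∈ S₀, (k ξ) ^ 2 =
      w ^ 2 * D + (-2 * a * w * (d ψ : ℤ) ^ 2 + (a : ℤ) ^ 2 * (d ψ : ℤ) ^ 2) := by
    rw [Finset.mul_sum, hD, Finset.mul_sum]
    have hterm : ∀ ξ ∈ S₀, (d ψ : ℤ) ^ 2 * (k ξ) ^ 2 = w ^ 2 * (d ξ : ℤ) ^ 2 +
        if ξ = ψ then (-2 * a * w * (d ψ : ℤ) ^ 2 + (a : ℤ) ^ 2 * (d ψ : ℤ) ^ 2) else 0 := by
      intro ξ hξ
      by_cases h : ξ = ψ
      · rw [h, if_pos rfl, hkψ]; ring
      · rw [if_neg h, add_zero]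
        have h3 := hrel ξ hξ h
        calc (d ψ : ℤ) ^ 2 * (k ξ) ^ 2 = ((d ψ : ℤ) * k ξ) ^ 2 := by ring
          _ = ((d ξ : ℤ) * w) ^ 2 := by rw [h3]
          _ = w ^ 2 * (d ξ : ℤ) ^ 2 := by ring
    rw [Finset.sum_congr rfl hterm, Finset.sum_add_distrib, Finset.sum_ite_eq' S₀ ψ, if_pos hψ]
  have hlin : (d ψ : ℤ) * ∑ ξ ∈ S₀, k ξ * (d ξ : ℤ) = w * D - a * (d ψ : ℤ) ^ 2 := by
    rw [Finset.mul_sum, hD, Finset.mul_sum]
    have hterm : ∀ ξ ∈ S₀, (d ψ : ℤ) * (k ξ * (d ξ : ℤ)) = w * (d ξ : ℤ) ^ 2 +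
        if ξ = ψ then (-(a * (d ψ : ℤ) ^ 2)) else 0 := by
      intro ξ hξ
      by_cases h : ξ = ψ
      · rw [h, if_pos rfl, hkψ]; ring
      · rw [if_neg h, add_zero]
        have h3 := hrel ξ hξ h
        calc (d ψ : ℤ) * (k ξ * (d ξ : ℤ)) = ((d ψ : ℤ) * k ξ) * (d ξ : ℤ) := by ring
          _ = ((d ξ : ℤ) * w) * (d ξ : ℤ) := by rw [h3]
          _ = w * (d ξ : ℤ) ^ 2 := by ring
    rw [Finset.sum_congr rfl hterm, Finset.sum_add_distrib, Finset.sum_ite_eq' S₀ ψ, if_pos hψ]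
    ring
  have hDlt : 2 * (d ψ : ℤ) * (d χ : ℤ) < D := by
    rw [hD]
    exact_mod_cast hlt
  have hda : (d χ : ℤ) = a * d ψ := by exact_mod_cast ha
  have hdψ' : (0 : ℤ) < d ψ := by exact_mod_cast hdψpos
  have hdχ' : (0 : ℤ) < d χ := by exact_mod_cast hdχpos
  have hw0 : w = 0 := by
    by_contra hne
    have hw1 : 1 ≤ w ^ 2 := by
      have := Int.one_le_abs hne
      nlinarith [abs_mul_abs_self w, abs_nonneg w]
    have hw2 : w ≤ w ^ 2 := Cfsg.Agent.S1515.int_le_sq w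
    have hqe : (d ψ : ℤ) ^ 2 * q =
        (d ψ : ℤ) ^ 2 - (w ^ 2 * D - 2 * w * (d χ : ℤ) * (d ψ : ℤ)) := by
      rw [hq, mul_sub, hsq, hda]; ring
    have hpos : 0 < w ^ 2 * D - 2 * w * (d χ : ℤ) * (d ψ : ℤ) := by
      have h9 : (0 : ℤ) ≤ 2 * (d ψ : ℤ) * (d χ : ℤ) := by positivity
      nlinarith [mul_le_mul_of_nonneg_left hw2 h9,
        mul_le_mul_of_nonneg_left hw1 (sub_nonneg.2 hDlt.le)]
    have hq1 : q < 1 := by
      by_contra hge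
      push Not at hge
      have : (d ψ : ℤ) ^ 2 ≤ (d ψ : ℤ) ^ 2 * q := by nlinarith [sq_nonneg (d ψ : ℤ)]
      linarith
    have hq00 : q = 0 := by omega
    have hZ0 : Θ - ∑ i ∈ S₀, k i • τ₁ i = 0 :=
      eq_zero_of_classInner_self (by rw [hZq, hq00]; simp)
    have hstar : w ^ 2 * D - 2 * w * (d χ : ℤ) * (d ψ : ℤ) = (d ψ : ℤ) ^ 2 := by
      rw [hq00, mul_zero] at hqe; linarith
    have hΘ1 : Θ 1 = 0 := hτ1 _ hΦmem
    have hΘsum : Θ = ∑ i ∈ S₀, k i • τ₁ i := sub_eq_zero.1 hZ0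
    have hval : ∀ ξ ∈ S₀, (d ψ : ℂ) * τ₁ ξ 1 = (d ξ : ℂ) * τ₁ ψ 1 := by
      intro ξ hξ
      have h0 := hτ1 _ (hγE ξ hξ)
      rw [← hag _ (hγmem ξ hξ), hτ₁γ ξ hξ] at h0
      simp only [Pi.sub_apply, Pi.smul_apply] at h0
      rw [zsmul_eq_mul, zsmul_eq_mul] at h0
      push_cast at h0
      linear_combination -h0
    have ht0 : τ₁ ψ 1 ≠ 0 := by
      have hn1 : Cfsg.classInner (τ₁ ψ) (τ₁ ψ) = 1 := by
        rw [hτ₁.2.2.1 _ (subset_zspan hψ) _ (subset_zspan hψ), hψψ]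
      rcases Cfsg.Agent.Lib.Helper25_VirtNorm.norm_one _ (hτ₁.2.2.2 _ (subset_zspan hψ)) hn1
        with h | h
      · exact irr_apply_one_ne_zero h
      · intro h0
        apply irr_apply_one_ne_zero h
        rw [Pi.neg_apply, h0, neg_zero]
    have hsum0 : ∑ ξ ∈ S₀, k ξ * (d ξ : ℤ) = 0 := by
      have h1 : (d ψ : ℂ) * Θ 1 = 0 := by rw [hΘ1, mul_zero]
      rw [hΘsum, Finset.sum_apply, Finset.mul_sum] at h1
      have h2 : ∑ i ∈ S₀, (d ψ : ℂ) * (k i • τ₁ i) 1 =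
          τ₁ ψ 1 * ((∑ ξ ∈ S₀, k ξ * (d ξ : ℤ) : ℤ) : ℂ) := by
        push_cast
        rw [Finset.mul_sum]
        refine Finset.sum_congr rfl (fun ξ hξ => ?_)
        rw [Pi.smul_apply, zsmul_eq_mul]
        linear_combination (k ξ : ℂ) * hval ξ hξ
      rw [h2] at h1
      have := (mul_eq_zero.1 h1).resolve_left ht0
      exact_mod_cast this
    have hwD : w * D = (d χ : ℤ) * (d ψ : ℤ) := by
      rw [hsum0, mul_zero] at hlin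
      rw [hda]; linarith
    have h1 : w * (w * D) - 2 * w * (d χ : ℤ) * (d ψ : ℤ) = (d ψ : ℤ) ^ 2 := by
      rw [← hstar]; ring
    rw [hwD] at h1
    have hprod : (0 : ℤ) < (d χ : ℤ) * (d ψ : ℤ) := by positivity
    have hwneg : w < 0 := by
      by_contra hge
      push Not at hge
      have : 0 ≤ w * ((d χ : ℤ) * (d ψ : ℤ)) := mul_nonneg hge hprod.le
      nlinarith [sq_pos_of_pos hdψ']
    have hDpos : 0 < D := by linarith [hDlt, hprod]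
    have : w * D < 0 := mul_neg_of_neg_of_pos hwneg hDpos
    linarith
  refine ⟨?_, ?_, hΘnorm, hΦmem⟩
  · intro ξ hξ hne
    have h3 := hrel ξ hξ hne
    rw [hw0, mul_zero] at h3
    have h4 : k ξ = 0 := by
      rcases mul_eq_zero.1 h3 with h | h
      · omega
      · exact h
    rw [hk ξ hξ, h4]; simp
  · rw [hk ψ hψ, hkψ, hw0]
    push_cast
    ring

end Main

/-- Let N be a subgroup of the finite group G, S₀ a finite set of irreducible characters of N, χ an irreducible character of N not in S₀, and τ a linear isometry from the integer combinations of S₀ ∪ {χ} vanishing at 1 to virtual characters of G vanishing at 1. If (S₀, τ) is coherent and some ψ ∈ S₀ has ψ(1) dividing χ(1) with 2 ψ(1) χ(1) < Σ_{ξ ∈ S₀} ξ(1)², then (S₀ ∪ {χ}, τ) is coherent. -/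
theorem result {G : Type*} [Group G] [Fintype G] (N : Subgroup G) [Fintype N] (S₀ : Finset (N → ℂ)) (χ : N → ℂ) (hirr : ∀ ξ ∈ S₀, Cfsg.IsIrrCharacter N ξ) (hχ : Cfsg.IsIrrCharacter N χ) (hχS : χ ∉ S₀) (d : (N → ℂ) → ℕ) (hd : ∀ ξ ∈ insert χ S₀, ξ 1 = (d ξ : ℂ)) (τ : (N → ℂ) → (G → ℂ)) (hτ : Cfsg.IsLinearIsometryOn (Cfsg.zspanOn (↑(insert χ S₀) : Set (N → ℂ)) {1}ᶜ) τ) (hτ1 : ∀ α ∈ Cfsg.zspanOn (↑(insert χ S₀) : Set (N → ℂ)) {1}ᶜ, τ α 1 = 0) (hcoh : Cfsg.IsCoherent (↑S₀ : Set (N → ℂ)) {1}ᶜ τ) (ψ : N → ℂ) (hψ : ψ ∈ S₀) (hdvd : d ψ ∣ d χ) (hlt : 2 * d ψ * d χ < ∑ ξ ∈ S₀, d ξ ^ 2) : Cfsg.IsCoherent (↑(insert χ S₀) : Set (N → ℂ)) {1}ᶜ τ := by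
  classical
  obtain ⟨⟨α₀, hα₀, hα₀ne⟩, τ₁, hτ₁, hag⟩ := hcoh
  obtain ⟨a, ha⟩ := hdvd
  have ha' : d χ = a * d ψ := by rw [ha, mul_comm]
  obtain ⟨k1, k2, k3, k4⟩ := key S₀ χ hirr hχ hχS d hd τ hτ hτ1 hτ₁ hag ψ hψ ha' hlt
  have hsubS : (↑S₀ : Set (N → ℂ)) ⊆ (↑(insert χ S₀) : Set (N → ℂ)) := by
    intro x hx
    exact Finset.mem_insert_of_mem hx
  have hτ' : Cfsg.IsLinearIsometryOn
      ((zspanOnSub (↑(insert χ S₀) : Set (N → ℂ)) ({1}ᶜ : Set N) :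
        Submodule ℤ (N → ℂ)) : Set (N → ℂ)) τ := hτ
  have hmemS' : ∀ x, x ∈ (↑(insert χ S₀) : Set (N → ℂ)) ↔ x = χ ∨ x ∈ S₀ := by
    intro x
    simp
  have hirr' : ∀ x ∈ (↑(insert χ S₀) : Set (N → ℂ)), Cfsg.IsIrrCharacter N x := by
    intro x hx
    rcases (hmemS' x).1 hx with h | h
    · rw [h]; exact hχ
    · exact hirr x h
  have horth' : ∀ x ∈ (↑(insert χ S₀) : Set (N → ℂ)), ∀ y ∈ (↑(insert χ S₀) : Set (N → ℂ)),
      x ≠ y → Cfsg.classInner x y = 0 :=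
    fun x hx y hy h => classInner_of_isIrrCharacter_of_ne (hirr' x hx) (hirr' y hy) h
  have hne' : ∀ x ∈ (↑(insert χ S₀) : Set (N → ℂ)), Cfsg.classInner x x ≠ 0 := by
    intro x hx
    rw [classInner_self_of_isIrrCharacter (hirr' x hx)]
    exact one_ne_zero
  have hT : ψ ∈ Cfsg.zspan (↑S₀ : Set (N → ℂ)) := subset_zspan hψ
  have hψψ : Cfsg.classInner ψ ψ = 1 := classInner_self_of_isIrrCharacter (hirr ψ hψ)
  have hTT : Cfsg.classInner (τ₁ ψ) (τ₁ ψ) = 1 := by rw [hτ₁.2.2.1 _ hT _ hT, hψψ]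
  set Φ := χ - (a : ℤ) • ψ with hΦ
  set vχ := τ Φ + (a : ℤ) • τ₁ ψ with hvχ
  have hvχg : Cfsg.IsGeneralizedCharacter G vχ :=
    gen_add (hτ.2.2.2 _ k4) (gen_zsmul _ (hτ₁.2.2.2 _ hT))
  have hvχ_orth : ∀ ξ ∈ S₀, Cfsg.classInner vχ (τ₁ ξ) = 0 := by
    intro ξ hξ
    rw [hvχ, classInner_add_left, classInner_zsmul_left, hτ₁.2.2.1 _ hT _ (subset_zspan hξ)]
    by_cases h : ξ = ψ
    · rw [h, k2, hψψ]; push_cast; ring
    · rw [k1 ξ hξ h, classInner_of_isIrrCharacter_of_ne (hirr ψ hψ) (hirr ξ hξ) (Ne.symm h)]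
      ring
  have hconjk2 : Cfsg.classInner (τ₁ ψ) (τ Φ) = -(a : ℂ) := by
    rw [← classInner_conj_symm, k2]; simp
  have hvχ_norm : Cfsg.classInner vχ vχ = 1 := by
    rw [hvχ]
    simp only [classInner_add_left, classInner_add_right, classInner_zsmul_left,
      classInner_zsmul_right]
    rw [k3, k2, hconjk2, hTT]
    push_cast
    ring
  set v : (N → ℂ) → (G → ℂ) := fun φ => if φ = χ then vχ else τ₁ φ with hv
  have hv_S₀ : ∀ φ ∈ S₀, v φ = τ₁ φ := by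
    intro φ hφ
    have e1 : φ ≠ χ := fun h => hχS (h ▸ hφ)
    simp [hv, e1]
  have hv_χ : v χ = vχ := by simp [hv]
  have hvg : ∀ φ ∈ (↑(insert χ S₀) : Set (N → ℂ)), Cfsg.IsGeneralizedCharacter G (v φ) := by
    intro φ hφ
    rcases (hmemS' φ).1 hφ with h | h
    · rw [h, hv_χ]; exact hvχg
    · rw [hv_S₀ φ h]; exact hτ₁.2.2.2 _ (subset_zspan h)
  have hvv : ∀ x ∈ (↑(insert χ S₀) : Set (N → ℂ)), ∀ y ∈ (↑(insert χ S₀) : Set (N → ℂ)),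
      Cfsg.classInner (v x) (v y) = Cfsg.classInner x y := by
    intro x hx y hy
    rcases (hmemS' x).1 hx with h | h <;> rcases (hmemS' y).1 hy with h' | h'
    · rw [h, h', hv_χ, hvχ_norm, classInner_self_of_isIrrCharacter hχ]
    · rw [h, hv_χ, hv_S₀ y h', hvχ_orth y h',
        classInner_of_isIrrCharacter_of_ne hχ (hirr y h') (fun e => hχS (e ▸ h'))]
    · rw [h', hv_χ, hv_S₀ x h, ← classInner_conj_symm, hvχ_orth x h, map_zero,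
        classInner_of_isIrrCharacter_of_ne (hirr x h) hχ (fun e => hχS (e ▸ h))]
    · rw [hv_S₀ x h, hv_S₀ y h', hτ₁.2.2.1 _ (subset_zspan h) _ (subset_zspan h')]
  obtain ⟨τ₂, hτ₂, hτ₂v⟩ := exists_isometry_of_assignment horth' hne' v hvg hvv
  have hχS' : χ ∈ (↑(insert χ S₀) : Set (N → ℂ)) := (hmemS' χ).2 (Or.inl rfl)
  have hψS' : ψ ∈ (↑(insert χ S₀) : Set (N → ℂ)) := hsubS hψ
  refine ⟨⟨α₀, ⟨Submodule.span_mono hsubS hα₀.1, hα₀.2⟩, hα₀ne⟩, τ₂, hτ₂, ?_⟩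
  intro α hα
  have hFmem : ∀ x, x ∈ insert χ S₀ ↔ x ∈ (↑(insert χ S₀) : Set (N → ℂ)) := fun x => Iff.rfl
  have hexp := expansion horth' hne' (insert χ S₀) hFmem hα.1
  have hint := coef_int horth' hne' hα.1
  choose! c hc using hint
  have hα1 : α = ∑ x ∈ insert χ S₀, c x • x := by
    conv_lhs => rw [hexp]
    refine Finset.sum_congr rfl (fun x hx => ?_)
    rw [hc x ((hFmem x).1 hx)]
    funext l
    simp
  rw [Finset.sum_insert hχS] at hα1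
  set γ : N → ℂ := ∑ x ∈ S₀, c x • x + (c χ * a) • ψ with hγ
  have hαγ : α = γ + c χ • Φ := by
    rw [hα1, hγ, hΦ]
    simp only [smul_sub, smul_smul]
    abel
  have hγspan : γ ∈ Submodule.span ℤ (↑S₀ : Set (N → ℂ)) :=
    Submodule.add_mem _ (Submodule.sum_mem _ (fun x hx =>
      Submodule.smul_mem _ _ (Submodule.subset_span hx)))
      (Submodule.smul_mem _ _ (Submodule.subset_span hψ))
  have hγ1 : γ ∈ Cfsg.zspanOn (↑S₀ : Set (N → ℂ)) ({1}ᶜ : Set N) := by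
    refine ⟨hγspan, ?_⟩
    intro x hx
    have h1 : α x = 0 := hα.2 x hx
    have h2 : Φ x = 0 := k4.2 x hx
    have h4 : α x = γ x + c χ • Φ x := by
      conv_lhs => rw [hαγ]
      simp
    rw [h1, h2] at h4
    simpa using h4.symm
  have hγS : γ ∈ Cfsg.zspanOn (↑(insert χ S₀) : Set (N → ℂ)) ({1}ᶜ : Set N) :=
    ⟨Submodule.span_mono hsubS hγ1.1, hγ1.2⟩
  have hsub : Cfsg.zspan (↑S₀ : Set (N → ℂ)) ⊆ Cfsg.zspan (↑(insert χ S₀) : Set (N → ℂ)) := by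
    intro x hx
    exact Submodule.span_mono hsubS hx
  have hΦS' : Φ ∈ Submodule.span ℤ (↑(insert χ S₀) : Set (N → ℂ)) := k4.1
  have e1 : τ₂ α = τ₂ γ + c χ • τ₂ Φ := by
    rw [hαγ, hτ₂.1 _ (hsub hγspan) _ (Submodule.smul_mem _ _ hΦS'), hτ₂.2.1 _ hΦS']
  have e2 : τ α = τ γ + c χ • τ Φ := by
    rw [hαγ, hτ.1 _ hγS _ ((zspanOnSub _ _).smul_mem _ k4), hτ.2.1 _ k4]
  have e3 : τ₂ γ = τ γ := by
    rw [agree_on_span (isometry_mono hsub hτ₂) hτ₁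
      (fun x hx => by rw [hτ₂v x (hsubS hx), hv_S₀ x hx]) hγspan]
    exact hag γ hγ1
  have e4 : τ₂ Φ = τ Φ := by
    rw [hΦ, map_sub_of (M := Submodule.span ℤ (↑(insert χ S₀) : Set (N → ℂ))) hτ₂
      (Submodule.subset_span hχS') (Submodule.smul_mem _ _ (Submodule.subset_span hψS')),
      hτ₂.2.1 _ (subset_zspan hψS'), hτ₂v χ hχS', hτ₂v ψ hψS', hv_χ, hv_S₀ ψ hψ, hvχ]
    abel
  rw [e1, e2, e3, e4]

end Cfsg.Agent.S1530
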