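import Cfsg.Statements.S1524
import Cfsg.Agent.Lib.Helper16_SibleyMain
import Cfsg.Agent.Lib.Helper25_FrobSemi

set_option autoImplicit false
open Cfsg

namespace Cfsg.Agent.S1524

/-- Let G be a finite group and H ≤ L subgroups with L of odd order, H ≠ ⊥ nilpotent and normal in L with a nontrivial complement W₁ in L (H ⊓ W₁ = ⊥, H ⊔ W₁ = L) acting on H without non-identity fixed points (L is a Frobenius group with kernel H), and suppose the underlying set of H is a TI-subset of G whose normaliser is L. Let S be the set of functions on L induced from the non-principal irreducible characters of H. Then (S, L minus 1, induction to G) is coherent. -/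
theorem result {G : Type*} [Group G] [Fintype G] (H L W₁ : Subgroup G) [Fintype L] (hodd : Odd (Nat.card L)) (hHL : H ≤ L) (hW₁L : W₁ ≤ L) (hH1 : H ≠ ⊥) (hW1 : W₁ ≠ ⊥) (hnil : Group.IsNilpotent H) (hHn : ∀ x ∈ L, ∀ h ∈ H, x * h * x⁻¹ ∈ H) (hinf : H ⊓ W₁ = ⊥) (hsup : H ⊔ W₁ = L) (hfpf : ∀ w ∈ W₁, w ≠ 1 → ∀ h ∈ H, w * h = h * w → h = 1) (hTI : Cfsg.IsTISubset (H : Set G)) (hN : Subgroup.normalizer (H : Set G) = L) : Cfsg.IsCoherent (Cfsg.inducedIrrAbove (H.subgroupOf L) ⊥) {1}ᶜ (fun α : L → ℂ => Cfsg.indFun L α) := by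
  classical
  subst hN
  have hfin : Finite ↥H := inferInstance
  have hC : ∀ k ∈ H, k ≠ 1 → ∀ x ∈ Subgroup.normalizer (H : Set G), x * k = k * x → x ∈ H := by
    intro k hk hk1 x hx hc
    have hx' : x ∈ H ⊔ W₁ := by
      rw [hsup]
      exact hx
    exact Cfsg.Agent.Lib.Helper25_FrobSemi.mem_of_commute_of_fpf H W₁
      (fun w hw h hh => hHn w (hW₁L hw) h hh) hfpf k hk hk1 x hx' hc
  have hlt : H < Subgroup.normalizer (H : Set G) := by
    refine lt_of_le_of_ne hHL (fun heq => hW1 ?_)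
    have hWH : W₁ ≤ H := fun w hw => heq.ge (hW₁L hw)
    exact (inf_eq_right.2 hWH).symm.trans hinf
  exact Cfsg.Agent.Lib.Helper16_SibleyMain.sibley_frobenius H hodd hnil hH1 hlt hC hTI

end Cfsg.Agent.S1524
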