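import Cfsg.Statements.S1137
import Cfsg.Agent.Lib.Helper20_SuzukiTwo
-- import your own Cfsg.Agent.* helpers here

set_option autoImplicit false
open Cfsg

namespace Cfsg.Agent.S1137

open Cfsg.Agent.Lib.Helper20_SuzukiTwo

/-- In a Suzuki 2-group `P` (a finite non-abelian 2-group with more than one involution admitting a cyclic group of automorphisms regular on its involutions) the involutions are exactly the non-identity central elements, and `Z(P)` is elementary abelian. -/
theorem result {P : Type*} [Group P] (hP : Cfsg.IsSuzukiTwoGroup P) :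
    (∀ x : P, (x ≠ 1 ∧ x * x = 1) ↔ (x ∈ Subgroup.center P ∧ x ≠ 1)) ∧
      ∀ z ∈ Subgroup.center P, z * z = 1 := by
  obtain ⟨hfin, h2, hna, htwo, K, hKcyc, hreg⟩ := hP
  haveI := hfin
  have hreg' : ∀ x y : P, x ≠ 1 → x * x = 1 → y ≠ 1 → y * y = 1 → ∃! k : K, k • x = y :=
    fun x y h1 h2 h3 h4 => hreg x y h1 h2 h3 h4
  have htrans : ∀ x y : P, x ≠ 1 → x * x = 1 → y ≠ 1 → y * y = 1 → ∃ k : K, k • x = y :=
    fun x y h1 h2 h3 h4 => (hreg' x y h1 h2 h3 h4).exists
  have hKc : ∀ a b : K, a * b = b * a := by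
    haveI := hKcyc
    intro a b
    letI := IsCyclic.commGroup (α := K)
    exact mul_comm a b
  have hpart2 : ∀ z ∈ Subgroup.center P, z * z = 1 := by
    intro z hz
    by_contra hzz
    obtain ⟨a, b, hab⟩ := hna
    exact hab (core hKc (Nat.card P) P rfl h2 htwo hreg' ⟨z, hz, hzz⟩ a b)
  refine ⟨?_, hpart2⟩
  intro x
  constructor
  · rintro ⟨hx1, hxx⟩
    exact ⟨inv_central h2 htrans x hxx, hx1⟩
  · rintro ⟨hxZ, hx1⟩
    exact ⟨hx1, hpart2 x hxZ⟩

end Cfsg.Agent.S1137
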