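import Cfsg.Statements.S1140

set_option autoImplicit false
open Cfsg

namespace Cfsg.Agent.S1140

open Module

section
variable {F : Type*} [Field F] [Fintype F] [CharP F 2]

omit [CharP F 2] in
lemma finite_ringEquiv : Finite (F ≃+* F) :=
  Finite.of_injective (fun τ : F ≃+* F => (τ : F → F)) DFunLike.coe_injective

omit [Fintype F] [CharP F 2] in
/-- Dedekind's lemma for the field automorphisms. -/
lemma linInd_aut : LinearIndependent F (fun σ : F ≃+* F => ((σ : F →+* F) : F → F)) := by
  have h := linearIndependent_monoidHom F F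
  have hinj : Function.Injective (fun σ : F ≃+* F => ((σ : F →+* F) : F →* F)) := by
    intro σ τ hst
    ext x
    exact DFunLike.congr_fun hst x
  exact h.comp _ hinj

end

theorem result {F : Type*} [Field F] [Fintype F] [CharP F 2] :
    LinearIndependent F (fun σ : F ≃+* F => ((σ : F →+* F) : F → F)) ∧
      (∀ f : F →+ F, ∃ (s : Finset (F ≃+* F)) (c : (F ≃+* F) → F), ∀ x : F, f x = ∑ σ ∈ s, c σ * σ x) ∧
      ∀ B : F →+ F →+ F, ∃ (s : Finset ((F ≃+* F) × (F ≃+* F))) (c : (F ≃+* F) × (F ≃+* F) → F),
        ∀ x y : F, B x y = ∑ p ∈ s, c p * (p.1 x * p.2 y) := by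
  classical
  let _ : Algebra (ZMod 2) F := ZMod.algebra F 2
  have : Finite (F ≃+* F) := finite_ringEquiv
  let _ : Fintype (F ≃+* F) := Fintype.ofFinite _
  have : Nonempty (F ≃+* F) := ⟨RingEquiv.refl F⟩
  have hli := linInd_aut (F := F)
  -- the family of automorphisms inside `W = F →ₗ[ZMod 2] F`
  let v : (F ≃+* F) → (F →ₗ[ZMod 2] F) := fun σ => ((σ : F →+* F) : F →+ F).toZModLinearMap 2
  have hv : LinearIndependent F v := by
    apply LinearIndependent.of_comp (LinearMap.ltoFun (ZMod 2) F F F)
    exact hli
  have hcard : Fintype.card (F ≃+* F) = finrank F (F →ₗ[ZMod 2] F) := by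
    rw [Module.finrank_linearMap_self, ← IsGalois.card_aut_eq_finrank, ← Nat.card_eq_fintype_card]
    apply Nat.card_congr
    refine ⟨fun τ => AlgEquiv.ofRingEquiv (f := τ) (fun r => ?_), fun σ => σ.toRingEquiv, ?_, ?_⟩
    · have : (τ : F →+* F).comp (algebraMap (ZMod 2) F) = algebraMap (ZMod 2) F :=
        Subsingleton.elim _ _
      exact DFunLike.congr_fun this r
    · intro τ; ext x; rfl
    · intro σ; ext x; rfl
  let b : Basis (F ≃+* F) F (F →ₗ[ZMod 2] F) := basisOfLinearIndependentOfCardEqFinrank hv hcard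
  have hb : ∀ σ, b σ = v σ := fun σ => by
    simp only [b, coe_basisOfLinearIndependentOfCardEqFinrank]
  -- expansion of an additive map
  have key : ∀ f : F →+ F, ∀ x : F, f x = ∑ σ, b.repr (f.toZModLinearMap 2) σ * σ x := by
    intro f x
    have h1 := b.sum_repr (f.toZModLinearMap 2)
    have h2 := congrArg (fun g : F →ₗ[ZMod 2] F => g x) h1
    simp only [LinearMap.sum_apply, LinearMap.smul_apply, hb] at h2
    rw [AddMonoidHom.coe_toZModLinearMap] at h2
    rw [← h2]
    rfl
  refine ⟨hli, ?_, ?_⟩
  · intro f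
    exact ⟨Finset.univ, fun σ => b.repr (f.toZModLinearMap 2) σ, key f⟩
  · intro B
    -- the coefficient of `τ` in `B x` is additive in `x`
    let g : (F ≃+* F) → (F →+ F) := fun τ =>
      { toFun := fun x => b.repr ((B x).toZModLinearMap 2) τ
        map_zero' := by
          have : (B 0).toZModLinearMap 2 = 0 := by ext y; simp
          rw [this]; simp
        map_add' := fun x x' => by
          have : (B (x + x')).toZModLinearMap 2 = (B x).toZModLinearMap 2 + (B x').toZModLinearMap 2 := by
            ext y; simp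
          rw [this]; simp }
    refine ⟨Finset.univ, fun p => b.repr ((g p.2).toZModLinearMap 2) p.1, ?_⟩
    intro x y
    rw [key (B x) y]
    rw [← Finset.univ_product_univ, Finset.sum_product_right]
    apply Finset.sum_congr rfl
    intro τ _
    have h1 : b.repr ((B x).toZModLinearMap 2) τ = g τ x := rfl
    rw [h1, key (g τ) x, Finset.sum_mul]
    apply Finset.sum_congr rfl
    intro σ _
    ring

end Cfsg.Agent.S1140
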