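import Cfsg.Statements.S1139
import Cfsg.Agent.S1137
import Cfsg.Agent.Lib.Helper37_TypeAFinal
-- import your own Cfsg.Agent.* helpers here

set_option autoImplicit false
open Cfsg

namespace Cfsg.Agent.S1139

/-- A Suzuki 2-group `P` with `|P| = |Z(P)|²` is of type A: for some finite field `F` with `|F| = |Z(P)|` and some field automorphism `φ ≠ 1` of odd order, `P` is isomorphic to the group of lower unitriangular matrices with rows `(1,0,0)`, `(x,1,0)`, `(y, φ x, 1)`. -/
theorem result {P : Type*} [Group P] (hP : Cfsg.IsSuzukiTwoGroup P)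
    (hcard : Nat.card P = Nat.card (Subgroup.center P) ^ 2) :
    ∃ (F : Type) (_ : Field F) (_ : Fintype F) (φ : F ≃+* F), Fintype.card F = Nat.card (Subgroup.center P) ∧
      φ ≠ RingEquiv.refl F ∧ Odd (orderOf φ) ∧ Nonempty (P ≃* Cfsg.suzukiTypeA F (φ : F →+* F)) := by
  have h1137 := Cfsg.Agent.S1137.result hP
  obtain ⟨hfin, h2, hna, htwo, K, hKcyc, hreg⟩ := hP
  haveI := hfin
  have hKc : ∀ a b : K, a * b = b * a := by
    haveI := hKcyc
    intro a b
    letI := IsCyclic.commGroup (α := K)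
    exact mul_comm a b
  obtain ⟨x, y, hxy, hx1, hxx, hy1, hyy⟩ := htwo
  have hxc : x ∈ Subgroup.center P := ((h1137.1 x).mp ⟨hx1, hxx⟩).1
  have hyp : Cfsg.Agent.Lib.Helper37_TypeASetup.Hyp P K :=
    { fin := hfin
      two := h2
      invZ := fun z hzz => by
        by_cases hz : z = 1
        · rw [hz]; exact Subgroup.one_mem _
        · exact ((h1137.1 z).mp ⟨hz, hzz⟩).1
      Zsq := h1137.2
      reg := hreg
      kcomm := hKc
      na := hna
      nt := ⟨x, hxc, hx1⟩
      card := hcard }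
  haveI : Fact (Nat.Prime 2) := ⟨Nat.prime_two⟩
  obtain ⟨n, hn⟩ := IsPGroup.iff_card.mp (h2.to_subgroup (Subgroup.center P))
  have hn0 : n ≠ 0 := by
    intro h0
    rw [h0, pow_zero] at hn
    have hbot : Subgroup.center P = ⊥ := Subgroup.card_eq_one.mp hn
    rw [hbot, Subgroup.mem_bot] at hxc
    exact hx1 hxc
  letI : Fintype (GaloisField 2 n) := Fintype.ofFinite _
  have hF : Nat.card (GaloisField 2 n) = Nat.card (Subgroup.center P) := by
    rw [GaloisField.card 2 n hn0, hn]
  obtain ⟨φ, h1, h2', h3⟩ := Cfsg.Agent.Lib.Helper37_TypeAFinal.final hyp (GaloisField 2 n) hF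
  exact ⟨GaloisField 2 n, inferInstance, inferInstance, φ,
    by rw [← hF, Nat.card_eq_fintype_card], h1, h2', h3⟩

end Cfsg.Agent.S1139
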