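import Cfsg.Statements.S1147
import Cfsg.Agent.Lib.Helper95_SuzGlue
import Cfsg.Agent.Lib.Helper75_Suz_GL1
import Cfsg.Agent.Lib.Helper9_Suz_Cyc
import Cfsg.Agent.S1137
import Cfsg.Agent.S1139

set_option autoImplicit false
open Cfsg

namespace Cfsg.Agent.S1147

/-- Let a finite simple Zassenhaus group `G` on `Ω` have a normal subgroup `U` of `G_a`, regular on `Ω` minus `a`, which is a non-abelian 2-group. Then `|Ω| = 2^(2n) + 1` with `n` odd, `n > 1`, a two-point stabiliser `G_a ⊓ G_b` is cyclic of order `2^n - 1`, and `U` is isomorphic to the type-A group over a field with `2^n` elements for some field automorphism `φ`. -/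
theorem result {G Ω : Type*} [Group G] [Finite G] [MulAction G Ω] [Finite Ω]
    (hZ : Cfsg.IsZassenhausGroup G Ω) [IsSimpleGroup G] {a b : Ω} (hab : a ≠ b)
    (U : Subgroup G) (hUle : U ≤ MulAction.stabilizer G a)
    (hUn : ∀ h ∈ MulAction.stabilizer G a, ∀ u ∈ U, h * u * h⁻¹ ∈ U)
    (hreg : ∀ c d : Ω, c ≠ a → d ≠ a → ∃! u : U, (u : G) • c = d)
    (hU2 : IsPGroup 2 U) (hUna : ∃ u ∈ U, ∃ v ∈ U, u * v ≠ v * u) :
    ∃ n : ℕ, Odd n ∧ 1 < n ∧ Nat.card Ω = 2 ^ (2 * n) + 1 ∧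
      IsCyclic ↥(MulAction.stabilizer G a ⊓ MulAction.stabilizer G b) ∧
      Nat.card ↥(MulAction.stabilizer G a ⊓ MulAction.stabilizer G b) = 2 ^ n - 1 ∧
      ∃ (F : Type) (_ : Field F) (_ : Fintype F) (φ : F ≃+* F), Fintype.card F = 2 ^ n ∧
        Nonempty (U ≃* Cfsg.suzukiTypeA F (φ : F →+* F)) := by
  classical
  have : Fintype G := Fintype.ofFinite G
  have : Fintype Ω := Fintype.ofFinite Ω
  have : Fintype (MulAction.stabilizer G a) := Fintype.ofFinite _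
  have hU1 : U ≠ ⊥ := by
    intro hbot
    obtain ⟨u, hu, v, hv, huv⟩ := hUna
    rw [hbot, Subgroup.mem_bot] at hu hv
    rw [hu, hv] at huv
    exact huv rfl
  have hN := Cfsg.Agent.Lib.Helper59_Suz_GA1.GA1 hZ hab U hUle hUn hreg hU2 hU1
  have hS := Cfsg.Agent.Lib.Helper95_SuzGlue.sdata_of_nice hN hU2 hUna
  have hD := hS.zdata
  obtain ⟨hh, k, hk⟩ := Cfsg.Agent.Lib.Helper95_SuzCore.core' hS
    (Cfsg.Agent.Lib.Helper75_Suz_GL1.GL1 hD hS.abel)
  obtain ⟨g1, g2, g3, g4⟩ := Cfsg.Agent.Lib.Helper59_Suz_GA2a.GA2a hN hU2 hU1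
  set E : Subgroup G := MulAction.stabilizer G a ⊓ MulAction.stabilizer G b with hE
  set e := Nat.card ↥E with he
  have he1 : 1 < e := hD.one_lt_e
  have hE1 : E ≠ ⊥ := by
    rw [← Subgroup.one_lt_card_iff_ne_bot]
    exact he1
  have hnorm : ∀ k ∈ E, ∀ x ∈ U, k * x * k⁻¹ ∈ U :=
    fun k hk x hx => hD.H_normal k (Subgroup.mem_inf.mp hk).1 x hx
  have hcyc : IsCyclic ↥E :=
    Cfsg.Agent.Lib.Helper9_Suz_Cyc.isCyclic_of_reg U E hnorm g1 hU2 g2 g3
  have hSuz : Cfsg.IsSuzukiTwoGroup ↥U :=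
    Cfsg.Agent.Lib.Helper9_Suz_Cyc.isSuzukiTwoGroup U E hnorm g1 hU2 g2 g3 hE1 hUna
  -- the centre of `U` has `e + 1` elements
  have h1137 := Cfsg.Agent.S1137.result hSuz
  have hcen : Nat.card (Subgroup.center ↥U) = e + 1 := by
    rw [← hS.card_invol]
    refine Nat.card_congr
      { toFun := fun z => ⟨(z.1 : G), z.1.2, congrArg Subtype.val (h1137.2 z.1 z.2)⟩
        invFun := fun z => ⟨⟨z.1, z.2.1⟩, ?_⟩
        left_inv := fun z => rfl
        right_inv := fun z => rfl }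
    by_cases hz1 : (⟨z.1, z.2.1⟩ : ↥U) = 1
    · rw [hz1]; exact Subgroup.one_mem _
    · exact ((h1137.1 ⟨z.1, z.2.1⟩).mp ⟨hz1, Subtype.ext z.2.2⟩).1
  have hk1 : 1 ≤ k := by
    rcases Nat.eq_zero_or_pos k with h0 | hpos
    · rw [h0] at hk
      norm_num at hk
      omega
    · exact hpos
  have hq : 2 ^ (2 * k + 1) = e + 1 := by
    rw [hk, pow_succ, pow_mul]
    norm_num
    ring
  have hcardU : Nat.card ↥U = (e + 1) ^ 2 := by rw [hD.card_H, hh]
  obtain ⟨F, hF1, hF2, φ, hFcard, -, -, hiso⟩ :=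
    Cfsg.Agent.S1139.result hSuz (by rw [hcardU, hcen])
  refine ⟨2 * k + 1, ⟨k, rfl⟩, by omega, ?_, hcyc, ?_, F, hF1, hF2, φ, ?_, hiso⟩
  · rw [Nat.card_eq_fintype_card, hN.card_Ω, ← hD.card_H, hcardU, ← hq]
    ring
  · rw [hq]
    omega
  · rw [hFcard, hcen, hq]

end Cfsg.Agent.S1147
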