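import Cfsg.Statements.S1422
import Cfsg.Agent.S1403
import Cfsg.Agent.S1412
import Cfsg.Agent.S1416
import Cfsg.Agent.S1417
import Cfsg.Agent.S1444
import Cfsg.Agent.Lib.Helper73_BG12b
-- import your own Cfsg.Agent.* helpers here

set_option autoImplicit false
open Cfsg

namespace Cfsg.Agent.S1422

/-- Let G be a minimal simple group of odd order, p a prime and P a non-abelian p-subgroup of G. Then P lies in exactly one maximal subgroup of G. -/
theorem result {G : Type*} [Group G] [Finite G] (hG : Cfsg.IsMinSimpleOddOrder G) (p : ℕ) [Fact p.Prime] (P : Subgroup G) (hP : IsPGroup p P) (hPna : ¬ IsMulCommutative P) :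
    Cfsg.InUniqueMaximal P := by
  have hU : Cfsg.Agent.Lib.Helper49_Sigma.UniqHyp G := fun K hK h1 h3 => Cfsg.Agent.S1403.result hG K hK h1 h3
  have h44 : Cfsg.Agent.Lib.Helper70_BG106.H1444 := fun X _ _ _ hodd H R R₀ _ hHall hR hR₀ hR₀p hZ q _ =>
    Cfsg.Agent.S1444.result hodd H R R₀ hHall hR hR₀ hR₀p hZ q
  have h12 : Cfsg.Agent.Lib.Helper73_BG12b.Hyp1412 G := fun q _ Q hr => Cfsg.Agent.S1412.result hG q Q hr
  have h16 : Cfsg.Agent.Lib.Helper73_BG12b.Hyp1416 G := fun M hM q _ A hAM hAe hA2 =>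
    Cfsg.Agent.S1416.result hG M hM q A ⟨hAM, hAe, hA2⟩
  have h17 : Cfsg.Agent.Lib.Helper73_BG12b.Hyp1417 G := fun M hM q _ hq A hAM hAe hA2 Q =>
    ((Cfsg.Agent.S1417.result hG M hM q hq A ⟨hAM, hAe, hA2⟩).2.1 Q).1
  exact Cfsg.Agent.Lib.Helper73_BG12b.inUniqueMaximal_of_not_comm hG hU h44 h12 h16 h17 P hP hPna

end Cfsg.Agent.S1422
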