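import Cfsg.Statements.S0944

set_option autoImplicit false
open Cfsg

namespace Cfsg.Agent.S0944

/-- Let χ be an irreducible character of the finite group G and u an involution. Then χ u is a rational integer n with n ≡ χ 1 (mod 2). -/
theorem result {G : Type*} [Group G] [Finite G] (χ : Cfsg.IrrCharacter G) (u : G) (hu : orderOf u = 2) : ∃ n : ℤ, (χ : G → ℂ) u = (n : ℂ) ∧ (2 : ℤ) ∣ (Cfsg.charDegree (χ : G → ℂ) : ℤ) - n := by
  obtain ⟨χ, n, ρ, -, rfl⟩ := χ
  set f : Module.End ℂ (Fin n → ℂ) := ρ u with hf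
  have hff : f * f = 1 := by
    rw [hf, ← map_mul, ← pow_two, ← hu, pow_orderOf_eq_one, map_one]
  set e : Module.End ℂ (Fin n → ℂ) := (2 : ℂ)⁻¹ • (1 + f) with he
  have hee : IsIdempotentElem e := by
    unfold IsIdempotentElem
    have h1 : (1 + f) * (1 + f) = (2 : ℂ) • (1 + f) := by
      rw [mul_add, add_mul, add_mul, hff, mul_one, one_mul, mul_one, two_smul]
      abel
    rw [he, smul_mul_smul_comm, h1, smul_smul]
    congr 1
    norm_num
  have hproj := LinearMap.IsIdempotentElem.isProj_range e hee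
  have htr := hproj.trace
  have hfe : f = (2 : ℂ) • e - 1 := by
    rw [he, smul_smul]; norm_num
  have hchar : ρ.character u = 2 * (Module.finrank ℂ (LinearMap.range e) : ℂ) - n := by
    show LinearMap.trace ℂ (Fin n → ℂ) (ρ u) = _
    rw [← hf, hfe, map_sub, map_smul, htr, LinearMap.trace_one]
    simp
  have hdeg : Cfsg.charDegree ρ.character = n := by
    unfold Cfsg.charDegree
    rw [Representation.char_one]
    simp
  refine ⟨2 * (Module.finrank ℂ (LinearMap.range e) : ℤ) - n, ?_, ?_⟩
  · show ρ.character u = _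
    rw [hchar]; push_cast; ring
  · show (2 : ℤ) ∣ (Cfsg.charDegree ρ.character : ℤ) - _
    rw [hdeg]
    refine ⟨(n : ℤ) - (Module.finrank ℂ (LinearMap.range e) : ℤ), ?_⟩
    ring

end Cfsg.Agent.S0944
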