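import Cfsg.Statements.S3947
import Cfsg.Agent.Lib.Helper23_Flavell

set_option autoImplicit false
open Cfsg

namespace Cfsg.Agent.S3947

open scoped Pointwise
open Cfsg.Agent.Lib.Helper23_Flavell Cfsg.Agent.Lib.Lead_Subnormal

theorem normalClosure_eq_NC {G : Type*} [Group G] (A : Subgroup G) :
    Subgroup.normalClosure (A : Set G) = NC A ⊤ := by
  apply le_antisymm
  · have : (NC A ⊤).Normal :=
      Subgroup.normalizer_eq_top_iff.mp (top_le_iff.mp (le_normalizer_NC A ⊤))
    exact Subgroup.normalClosure_le_normal (le_NC A ⊤)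
  · refine sSup_le ?_
    rintro _ ⟨h, -, rfl⟩
    intro x hx
    rw [mem_conj_smul] at hx
    have h1 : h⁻¹ * x * h ∈ Subgroup.normalClosure (A : Set G) := Subgroup.subset_normalClosure hx
    have h2 := (Subgroup.normalClosure_normal (s := (A : Set G))).conj_mem _ h1 h
    have e : h * (h⁻¹ * x * h) * h⁻¹ = x := by group
    rwa [e] at h2

theorem map_normalClosure_subgroupOf {G : Type*} [Group G] {A H : Subgroup G} (hAH : A ≤ H) :
    (Subgroup.normalClosure ((A.subgroupOf H : Subgroup ↥H) : Set ↥H)).map H.subtype = NC A H := by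
  apply le_antisymm
  · rw [Subgroup.map_le_iff_le_comap]
    have : ((NC A H).comap H.subtype).Normal := by
      constructor
      intro n hn h
      rw [Subgroup.mem_comap] at hn ⊢
      have hh := le_normalizer_NC A H h.2
      rw [Subgroup.mem_normalizer_iff] at hh
      have := (hh (H.subtype n)).mp hn
      simpa using this
    apply Subgroup.normalClosure_le_normal
    intro a ha
    rw [SetLike.mem_coe, Subgroup.mem_subgroupOf] at ha
    rw [SetLike.mem_coe, Subgroup.mem_comap]
    exact le_NC A H ha
  · refine sSup_le ?_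
    rintro _ ⟨h, hh, rfl⟩
    intro x hx
    rw [mem_conj_smul] at hx
    have ha : (⟨h⁻¹ * x * h, hAH hx⟩ : ↥H) ∈
        Subgroup.normalClosure ((A.subgroupOf H : Subgroup ↥H) : Set ↥H) := by
      apply Subgroup.subset_normalClosure
      rw [SetLike.mem_coe, Subgroup.mem_subgroupOf]
      exact hx
    have h2 := (Subgroup.normalClosure_normal
      (s := ((A.subgroupOf H : Subgroup ↥H) : Set ↥H))).conj_mem _ ha ⟨h, hh⟩
    refine ⟨_, h2, ?_⟩
    simp only [Subgroup.subtype_apply, Subgroup.coe_mul, Subgroup.coe_inv]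
    group

theorem normalClosure_subgroupOf_eq_top_iff {G : Type*} [Group G] {A H : Subgroup G} (hAH : A ≤ H) :
    Subgroup.normalClosure ((A.subgroupOf H : Subgroup ↥H) : Set ↥H) = ⊤ ↔ NC A H = H := by
  rw [← map_normalClosure_subgroupOf hAH]
  constructor
  · intro h
    rw [h, ← MonoidHom.range_eq_map, Subgroup.range_subtype]
  · intro h
    apply Subgroup.map_injective H.subtype_injective
    rw [h, ← MonoidHom.range_eq_map, Subgroup.range_subtype]

/-- Let G be a finite group and A a proper subgroup of G whose normal closure is G. Let Y be the join of all proper subgroups H of G that contain A and are generated by their own conjugates of A (the normal closure of A in H is H). Then either Y = G, or A is contained in exactly one maximal subgroup of G. -/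
theorem result {G : Type*} [Group G] [Finite G] (A : Subgroup G) (hA : Subgroup.normalClosure (A : Set G) = ⊤) (hAG : A ≠ ⊤) :
    sSup {H : Subgroup G | A ≤ H ∧ H ≠ ⊤ ∧ Subgroup.normalClosure ((A.subgroupOf H : Subgroup ↥H) : Set ↥H) = ⊤} = ⊤ ∨
      ∃! M : Subgroup G, IsCoatom M ∧ A ≤ M := by
  have hset : {H : Subgroup G | A ≤ H ∧ H ≠ ⊤ ∧
      Subgroup.normalClosure ((A.subgroupOf H : Subgroup ↥H) : Set ↥H) = ⊤} =
      {H : Subgroup G | A ≤ H ∧ H ≠ ⊤ ∧ NC A H = H} := by
    ext H
    simp only [Set.mem_ofPred_eq]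
    constructor
    · rintro ⟨h1, h2, h3⟩
      exact ⟨h1, h2, (normalClosure_subgroupOf_eq_top_iff h1).mp h3⟩
    · rintro ⟨h1, h2, h3⟩
      exact ⟨h1, h2, (normalClosure_subgroupOf_eq_top_iff h1).mpr h3⟩
  rw [hset]
  exact flavell A (by rw [← normalClosure_eq_NC, hA]) hAG

end Cfsg.Agent.S3947
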