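import Mathlib
import Cfsg.Statements.S2791
import Cfsg.Agent.S1959

set_option autoImplicit false
open Cfsg
open scoped Pointwise

namespace Cfsg.Agent.S2791

open Cfsg.Agent.Lib.Helper33_Conj Cfsg.Agent.Lib.Helper33_Alperin Cfsg.Agent.Lib.Helper33_WFusion

section Basic

variable {G : Type*} [Group G]

/-- Conjugation by `g` on `B` is induced by an element of `N_G(A)`. -/
def Rel (A : Subgroup G) (B : Set G) (g : G) : Prop :=
  ∃ x ∈ Subgroup.normalizer (A : Set G), ∀ b ∈ B, g * b * g⁻¹ = x * b * x⁻¹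

theorem rel_fusionRel (A : Subgroup G) : FusionRel (Rel A) where
  restrict := fun _ _ _ ⟨x, hx, h⟩ hB => ⟨x, hx, fun b hb => h b (hB hb)⟩
  trans := fun B g h ⟨x, hx, hxg⟩ ⟨y, hy, hyh⟩ => ⟨y * x, mul_mem hy hx, fun b hb => by
    have h1 := hyh (g * b * g⁻¹) (conj_mem_cjs hb)
    calc h * g * b * (h * g)⁻¹ = h * (g * b * g⁻¹) * h⁻¹ := by group
      _ = y * (g * b * g⁻¹) * y⁻¹ := h1
      _ = y * (x * b * x⁻¹) * y⁻¹ := by rw [hxg b hb]
      _ = y * x * b * (y * x)⁻¹ := by group⟩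
  symm := fun B g ⟨x, hx, h⟩ => ⟨x⁻¹, inv_mem hx, fun c hc => by
    obtain ⟨b, hb, rfl⟩ := hc
    show g⁻¹ * (g * b * g⁻¹) * g⁻¹⁻¹ = x⁻¹ * (g * b * g⁻¹) * x⁻¹⁻¹
    conv_rhs => rw [h b hb]
    group⟩

/-- The stability group of the chain `1 ≤ A₀ ≤ U` inside `N_G(U)`. -/
def stab (U A₀ : Subgroup G) : Subgroup G where
  carrier := {n | n ∈ Subgroup.normalizer (U : Set G) ∧ (∀ u ∈ U, n * u * n⁻¹ * u⁻¹ ∈ A₀) ∧
    ∀ b ∈ A₀, n * b * n⁻¹ = b}
  one_mem' := ⟨Subgroup.one_mem _, fun u _ => by simp, fun b _ => by simp⟩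
  mul_mem' := by
    rintro n₁ n₂ ⟨h1N, h1U, h1A⟩ ⟨h2N, h2U, h2A⟩
    refine ⟨Subgroup.mul_mem _ h1N h2N, fun u hu => ?_, fun b hb => ?_⟩
    · have e : n₁ * n₂ * u * (n₁ * n₂)⁻¹ * u⁻¹ =
          n₁ * (n₂ * u * n₂⁻¹ * u⁻¹) * n₁⁻¹ * (n₁ * u * n₁⁻¹ * u⁻¹) := by group
      rw [e, h1A _ (h2U u hu)]
      exact A₀.mul_mem (h2U u hu) (h1U u hu)
    · have e : n₁ * n₂ * b * (n₁ * n₂)⁻¹ = n₁ * (n₂ * b * n₂⁻¹) * n₁⁻¹ := by group
      rw [e, h2A b hb, h1A b hb]
  inv_mem' := by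
    rintro n ⟨hN, hU, hA⟩
    refine ⟨Subgroup.inv_mem _ hN, fun u hu => ?_, fun b hb => ?_⟩
    · have hw : n⁻¹ * u * n ∈ U := by
        have := (Subgroup.mem_normalizer_iff.mp (Subgroup.inv_mem _ hN) u).mp hu
        simpa using this
      have h1 := hU _ hw
      have e : n * (n⁻¹ * u * n) * n⁻¹ * (n⁻¹ * u * n)⁻¹ = (n⁻¹ * u * n⁻¹⁻¹ * u⁻¹)⁻¹ := by group
      rw [e] at h1
      exact (A₀.inv_mem_iff).mp h1
    · have h1 := hA b hb
      calc n⁻¹ * b * n⁻¹⁻¹ = n⁻¹ * (n * b * n⁻¹) * n := by rw [h1]; group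
        _ = b := by group

theorem stab_le (U A₀ : Subgroup G) : stab U A₀ ≤ Subgroup.normalizer (U : Set G) :=
  fun _ h => h.1

/-- `N_G(U)` normalizes the stability group when it normalizes `A₀`. -/
theorem conj_mem_stab (U A₀ : Subgroup G)
    (hA₀ : ∀ n ∈ Subgroup.normalizer (U : Set G), ∀ b ∈ A₀, n * b * n⁻¹ ∈ A₀)
    (n : G) (hn : n ∈ Subgroup.normalizer (U : Set G)) (k : G) (hk : k ∈ stab U A₀) :
    n * k * n⁻¹ ∈ stab U A₀ := by
  obtain ⟨hkN, hkU, hkA⟩ := hk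
  have hn' : n⁻¹ ∈ Subgroup.normalizer (U : Set G) := Subgroup.inv_mem _ hn
  refine ⟨Subgroup.mul_mem _ (Subgroup.mul_mem _ hn hkN) hn', fun u hu => ?_, fun b hb => ?_⟩
  · have hw : n⁻¹ * u * n ∈ U := by
      have := (Subgroup.mem_normalizer_iff.mp hn' u).mp hu
      simpa using this
    have e : n * k * n⁻¹ * u * (n * k * n⁻¹)⁻¹ * u⁻¹ =
        n * (k * (n⁻¹ * u * n) * k⁻¹ * (n⁻¹ * u * n)⁻¹) * n⁻¹ := by group
    rw [e]
    exact hA₀ n hn _ (hkU _ hw)
  · have hb' : n⁻¹ * b * n ∈ A₀ := by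
      have := hA₀ n⁻¹ hn' b hb
      simpa using this
    have e : n * k * n⁻¹ * b * (n * k * n⁻¹)⁻¹ = n * (k * (n⁻¹ * b * n) * k⁻¹) * n⁻¹ := by group
    rw [e, hkA _ hb']
    group

/-- Powers of an element of the stability group. -/
theorem stab_pow (U A₀ : Subgroup G) (k : G) (hk : k ∈ stab U A₀) (u : G) (hu : u ∈ U) (j : ℕ) :
    k ^ j * u * (k ^ j)⁻¹ = (k * u * k⁻¹ * u⁻¹) ^ j * u := by
  obtain ⟨_, hkU, hkA⟩ := hk
  have ha := hkA _ (hkU u hu)
  induction j with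
  | zero => simp
  | succ j ih =>
    have e : k ^ (j + 1) * u * (k ^ (j + 1))⁻¹ = k * (k ^ j * u * (k ^ j)⁻¹) * k⁻¹ := by
      rw [pow_succ']; group
    rw [e, ih]
    have e2 : k * ((k * u * k⁻¹ * u⁻¹) ^ j * u) * k⁻¹ =
        (k * (k * u * k⁻¹ * u⁻¹) * k⁻¹) ^ j * (k * u * k⁻¹ * u⁻¹) * u := by
      rw [conj_pow]; group
    rw [e2, ha, ← pow_succ]

end Basic

section Finite

variable {G : Type*} [Group G] [Finite G] {p : ℕ} [Fact p.Prime]

theorem exists_sylow_in' (p : ℕ) [Fact p.Prime] (H : Subgroup G) :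
    ∃ R : Subgroup G, R ≤ H ∧ IsPGroup p R ∧ ¬ p ∣ R.relIndex H := by
  obtain ⟨R'⟩ : Nonempty (Sylow p H) := inferInstance
  refine ⟨(R' : Subgroup H).map H.subtype, Subgroup.map_subtype_le _, R'.2.map _, ?_⟩
  have h1 : ((R' : Subgroup H).map H.subtype).subgroupOf H = R' :=
    Subgroup.comap_map_eq_self_of_injective H.subtype_injective _
  rw [Subgroup.relIndex, h1]
  exact R'.not_dvd_index

/-- If `K / C` is a `p`-group and `T ≤ K` has index prime to `p`, then `K = T C`. -/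
theorem exists_mul_of_pquotient (K C T : Subgroup G)
    (hKC : K ≤ Subgroup.normalizer (C : Set G)) (hT : ¬ p ∣ T.relIndex K)
    (hpow : ∀ k ∈ K, ∃ e : ℕ, k ^ (p ^ e) ∈ C) :
    ∀ k ∈ K, ∃ t ∈ T, ∃ c ∈ C, k = t * c := by
  have hp : p.Prime := Fact.out
  have hN : (C.subgroupOf K).Normal := by
    refine ⟨fun c hc k => ?_⟩
    rw [Subgroup.mem_subgroupOf] at hc ⊢
    have := (Subgroup.mem_normalizer_iff.mp (hKC k.2) c).mp hc
    simpa using this
  have hQ : IsPGroup p (↥K ⧸ C.subgroupOf K) := by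
    intro q
    induction q using QuotientGroup.induction_on with
    | H k =>
      obtain ⟨e, he⟩ := hpow k k.2
      refine ⟨e, ?_⟩
      rw [← QuotientGroup.mk_pow, QuotientGroup.eq_one_iff, Subgroup.mem_subgroupOf]
      simpa using he
  set π := QuotientGroup.mk' (C.subgroupOf K) with hπ
  have hsurj : Function.Surjective π := QuotientGroup.mk'_surjective _
  have h1 : ((T.subgroupOf K).map π).index ∣ T.relIndex K :=
    Subgroup.index_map_dvd (T.subgroupOf K) hsurj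
  obtain ⟨n, hn⟩ := hQ.index ((T.subgroupOf K).map π)
  have hn0 : n = 0 := by
    by_contra hne
    apply hT
    refine dvd_trans ?_ h1
    rw [hn]
    exact dvd_pow_self p hne
  rw [hn0, pow_zero, Subgroup.index_eq_one] at hn
  intro k hk
  have hk' : π ⟨k, hk⟩ ∈ (T.subgroupOf K).map π := by rw [hn]; trivial
  obtain ⟨t, ht, hte⟩ := hk'
  rw [hπ, QuotientGroup.mk'_apply, QuotientGroup.mk'_apply, QuotientGroup.eq,
    Subgroup.mem_subgroupOf] at hte
  rw [SetLike.mem_coe, Subgroup.mem_subgroupOf] at ht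
  refine ⟨t, ht, (t : G)⁻¹ * k, by simpa using hte, by group⟩

end Finite

section Main

variable {G : Type*} [Group G] [Finite G] {p : ℕ} [Fact p.Prime]

omit [Finite G] in
theorem sc_mem_normalizer (A S : Subgroup G) (hsc : Cfsg.IsStronglyClosed A S) (g : G)
    (h1 : ∀ a ∈ A, g * a * g⁻¹ ∈ S) (h2 : ∀ a ∈ A, g⁻¹ * a * g ∈ S) :
    g ∈ Subgroup.normalizer (A : Set G) := by
  rw [Subgroup.mem_normalizer_iff]
  intro a
  constructor
  · intro ha
    exact hsc.2 a ha g (h1 a ha)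
  · intro ha
    have h3 : g⁻¹ * (g * a * g⁻¹) * g⁻¹⁻¹ ∈ S := by
      have := h2 _ ha
      simpa using this
    have h4 := hsc.2 _ ha g⁻¹ h3
    have e : g⁻¹ * (g * a * g⁻¹) * g⁻¹⁻¹ = a := by group
    rwa [e] at h4

theorem local_step (S : Sylow p G) (A : Subgroup G) (hA : IsMulCommutative ↥A)
    (hsc : Cfsg.IsStronglyClosed A (S : Subgroup G))
    (U : Subgroup G) (hUS : U ≤ (S : Subgroup G))
    (hUfn : ¬ p ∣ ((S : Subgroup G) ⊓ Subgroup.normalizer (U : Set G)).relIndex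
      (Subgroup.normalizer (U : Set G)))
    (IH : ∀ Q : Subgroup G, Q ≤ (S : Subgroup G) → Nat.card U < Nat.card Q →
      ∀ g : G, cj g Q ≤ (S : Subgroup G) → Rel A (Q : Set G) g)
    (m : G) (hm : m ∈ Subgroup.normalizer (U : Set G)) : Rel A (U : Set G) m := by
  have hAS : A ≤ (S : Subgroup G) := hsc.1
  have hSA : (S : Subgroup G) ≤ Subgroup.normalizer (A : Set G) := fun s hs =>
    sc_mem_normalizer A S hsc s (fun a ha => mul_mem (mul_mem hs (hAS ha)) (inv_mem hs))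
      (fun a ha => mul_mem (mul_mem (inv_mem hs) (hAS ha)) hs)
  by_cases hAU : A ≤ U
  · refine ⟨m, sc_mem_normalizer A S hsc m ?_ ?_, fun b _ => rfl⟩
    · intro a ha
      exact hUS ((Subgroup.mem_normalizer_iff.mp hm a).mp (hAU ha))
    · intro a ha
      have hm' := Subgroup.inv_mem _ hm
      have := (Subgroup.mem_normalizer_iff.mp hm' a).mp (hAU ha)
      exact hUS (by simpa using this)
  · set N := Subgroup.normalizer (U : Set G) with hN
    have hUA_S : U ⊔ A ≤ (S : Subgroup G) := sup_le hUS hAS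
    have hlt : U < U ⊔ A :=
      lt_of_le_of_ne le_sup_left (fun h => hAU (by rw [h]; exact le_sup_right))
    have hgrow := lt_inf_normalizer (S.2.to_le hUA_S) hlt
    obtain ⟨y, hy, hyU⟩ := SetLike.exists_of_lt hgrow
    obtain ⟨hyUA, hyN⟩ := Subgroup.mem_inf.mp hy
    have hset := Subgroup.coe_mul_of_left_le_normalizer_right U A (hUS.trans hSA)
    have hy' : y ∈ ((U : Set G) * (A : Set G)) := by rw [← hset]; exact hyUA
    obtain ⟨u₀, hu₀, a₁, ha₁, rfl⟩ := hy'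
    have hu₀' : u₀ ∈ U := hu₀
    have ha₁' : a₁ ∈ A := ha₁
    have ha₁N : a₁ ∈ N := by
      have : a₁ = u₀⁻¹ * (u₀ * a₁) := by group
      rw [this]
      exact mul_mem (inv_mem (Subgroup.le_normalizer hu₀')) hyN
    have ha₁U : a₁ ∉ U := fun h => hyU (mul_mem hu₀' h)
    -- the stability group
    have hA₀inv : ∀ n ∈ N, ∀ b ∈ A ⊓ U, n * b * n⁻¹ ∈ A ⊓ U := by
      intro n hn b hb
      have hbU : n * b * n⁻¹ ∈ U := (Subgroup.mem_normalizer_iff.mp hn b).mp hb.2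
      exact ⟨hsc.2 b hb.1 n (hUS hbU), hbU⟩
    set K := stab U (A ⊓ U) with hK
    have hKN : K ≤ N := stab_le U (A ⊓ U)
    have ha₁K : a₁ ∈ K := by
      refine ⟨ha₁N, fun u hu => Subgroup.mem_inf.mpr ⟨?_, ?_⟩, fun b hb => ?_⟩
      · have h1 : u * a₁⁻¹ * u⁻¹ ∈ A :=
          (Subgroup.mem_normalizer_iff.mp (hSA (hUS hu)) _).mp (inv_mem ha₁')
        have e : a₁ * u * a₁⁻¹ * u⁻¹ = a₁ * (u * a₁⁻¹ * u⁻¹) := by group
        rw [e]
        exact mul_mem ha₁' h1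
      · exact mul_mem ((Subgroup.mem_normalizer_iff.mp ha₁N u).mp hu) (inv_mem hu)
      · have := hA.is_comm.comm ⟨a₁, ha₁'⟩ ⟨b, hb.1⟩
        have h2 : a₁ * b = b * a₁ := congrArg Subtype.val this
        calc a₁ * b * a₁⁻¹ = b * a₁ * a₁⁻¹ := by rw [h2]
          _ = b := by group
    have hKnorm : ∀ n ∈ N, cj n K = K := by
      intro n hn
      apply Subgroup.eq_of_le_of_card_ge
      · intro z hz
        rw [mem_cj] at hz
        have := conj_mem_stab U (A ⊓ U) hA₀inv n hn _ hz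
        have e : n * (n⁻¹ * z * n) * n⁻¹ = z := by group
        rwa [e] at this
      · rw [card_cj]
    obtain ⟨e₀, he₀⟩ := IsPGroup.iff_card.mp S.2
    set C := K ⊓ Subgroup.centralizer (U : Set G) with hC
    have hKpow : ∀ k ∈ K, ∃ e : ℕ, k ^ (p ^ e) ∈ C := by
      intro k hk
      refine ⟨e₀, Subgroup.mem_inf.mpr ⟨pow_mem hk _, ?_⟩⟩
      rw [Subgroup.mem_centralizer_iff]
      intro u hu
      have h1 := stab_pow U (A ⊓ U) k hk u hu (p ^ e₀)
      have ha : k * u * k⁻¹ * u⁻¹ ∈ (S : Subgroup G) := hAS (hk.2.1 u hu).1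
      have h2 : (k * u * k⁻¹ * u⁻¹) ^ (p ^ e₀) = 1 := by
        have := pow_card_eq_one' (G := (S : Subgroup G)) (x := ⟨_, ha⟩)
        rw [he₀] at this
        exact congrArg Subtype.val this
      rw [h2, one_mul] at h1
      calc u * k ^ (p ^ e₀) = (k ^ (p ^ e₀) * u * (k ^ (p ^ e₀))⁻¹) * k ^ (p ^ e₀) := by rw [h1]
        _ = k ^ (p ^ e₀) * u := by group
    have hKC : K ≤ Subgroup.normalizer (C : Set G) := by
      intro k hk
      rw [mem_normalizer_iff_cj, hC, cj_inf, cj_centralizer, cj_of_mem hk,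
        mem_normalizer_iff_cj.mp (hKN hk)]
    -- a Sylow subgroup of `K` inside `S`
    obtain ⟨T₀, hT₀K, hT₀p, hT₀idx⟩ := exists_sylow_in' p K
    obtain ⟨n₀, hn₀, hn₀T⟩ := exists_cj_le_of_relIndex (p := p)
      (inf_le_right : (S : Subgroup G) ⊓ N ≤ N) (S.2.to_le inf_le_left) hUfn
      (hT₀K.trans hKN) hT₀p
    have hTK : cj n₀ T₀ ≤ K := by
      have := cj_mono (g := n₀) hT₀K
      rwa [hKnorm n₀ hn₀] at this
    have hTS : cj n₀ T₀ ≤ (S : Subgroup G) := hn₀T.trans inf_le_left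
    have hTp : IsPGroup p (cj n₀ T₀) := isPGroup_cj hT₀p
    have hTidx : ¬ p ∣ (cj n₀ T₀).relIndex K := by
      have := relIndex_cj' n₀ T₀ K
      rw [hKnorm n₀ hn₀] at this
      rw [this]
      exact hT₀idx
    generalize cj n₀ T₀ = T at hTK hTS hTp hTidx
    have hTU : ¬ T ≤ U := by
      intro hle
      have hz : IsPGroup p (Subgroup.zpowers a₁) :=
        S.2.to_le (Subgroup.zpowers_le.mpr (hAS ha₁'))
      obtain ⟨k, hk, hkz⟩ := exists_cj_le_of_relIndex (p := p) hTK hTp hTidx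
        (Subgroup.zpowers_le.mpr ha₁K) hz
      have h1 : k * a₁ * k⁻¹ ∈ U := hle (hkz (conj_mem_cj (Subgroup.mem_zpowers a₁)))
      exact ha₁U ((Subgroup.mem_normalizer_iff.mp (hKN hk) a₁).mpr h1)
    have hQS : U ⊔ T ≤ (S : Subgroup G) := sup_le hUS hTS
    have hUQ : Nat.card U < Nat.card (U ⊔ T : Subgroup G) :=
      card_lt_of_lt (lt_of_le_of_ne le_sup_left (fun h => hTU (by rw [h]; exact le_sup_right)))
    -- Frattini argument
    have hcjmT : cj m T ≤ K := by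
      have := cj_mono (g := m) hTK
      rwa [hKnorm m hm] at this
    obtain ⟨k, hk, hkT⟩ := exists_cj_le_of_relIndex (p := p) hTK hTp hTidx hcjmT (isPGroup_cj hTp)
    have hnT : cj (k * m) T = T := by
      rw [cj_mul]
      exact Subgroup.eq_of_le_of_card_ge hkT (by rw [card_cj, card_cj])
    obtain ⟨t, ht, c, hc, hkeq⟩ := exists_mul_of_pquotient (p := p) K C T hKC hTidx hKpow k hk
    have hn'N : t⁻¹ * (k * m) ∈ N := mul_mem (inv_mem (hKN (hTK ht))) (mul_mem (hKN hk) hm)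
    have hn'U : cj (t⁻¹ * (k * m)) U = U := mem_normalizer_iff_cj.mp hn'N
    have hn'T : cj (t⁻¹ * (k * m)) T = T := by
      rw [cj_mul t⁻¹ (k * m), hnT, cj_of_mem (inv_mem ht)]
    have hn'Q : cj (t⁻¹ * (k * m)) (U ⊔ T) ≤ (S : Subgroup G) := by
      have : cj (t⁻¹ * (k * m)) (U ⊔ T) = U ⊔ T := by
        show (U ⊔ T).map _ = _
        rw [Subgroup.map_sup]
        exact congrArg₂ (· ⊔ ·) hn'U hn'T
      rw [this]
      exact hQS
    obtain ⟨x, hx, hxn'⟩ := IH (U ⊔ T) hQS hUQ _ hn'Q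
    refine ⟨x, hx, fun u hu => ?_⟩
    have hm_eq : m = c⁻¹ * (t⁻¹ * (k * m)) := by rw [hkeq]; group
    have h1 := hxn' u ((le_sup_left : U ≤ U ⊔ T) hu)
    have h2 : t⁻¹ * (k * m) * u * (t⁻¹ * (k * m))⁻¹ ∈ U :=
      (Subgroup.mem_normalizer_iff.mp hn'N u).mp hu
    have hcU := (Subgroup.mem_centralizer_iff.mp hc.2) _ h2
    calc m * u * m⁻¹ = c⁻¹ * ((t⁻¹ * (k * m) * u * (t⁻¹ * (k * m))⁻¹) * c) := by
          conv_lhs => rw [hm_eq]
          group
      _ = c⁻¹ * (c * (t⁻¹ * (k * m) * u * (t⁻¹ * (k * m))⁻¹)) := by rw [hcU]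
      _ = t⁻¹ * (k * m) * u * (t⁻¹ * (k * m))⁻¹ := by group
      _ = x * u * x⁻¹ := h1

end Main

/-- Let S be a Sylow p-subgroup of the finite group G and A an abelian subgroup of S that is strongly closed in S with respect to G. Then A controls strong fusion in G: for some Sylow p-subgroup T containing A, whenever a subset of T is conjugated into T by an element of G, the same elementwise conjugation is induced by an element of N_G(A). -/
theorem result {G : Type*} [Group G] [Finite G] {p : ℕ} [Fact p.Prime] (S : Sylow p G) (A : Subgroup G) (hA : IsMulCommutative ↥A) (hsc : Cfsg.IsStronglyClosed A (S : Subgroup G)) : Cfsg.ControlsStrongFusion p A := by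
  refine ⟨S, hsc.1, fun B hB => ⟨hB, fun g hg => ?_⟩⟩
  have key := alperin S Set.univ
    (fun T hT => by
      obtain ⟨g, hg1, hg2⟩ := Cfsg.Agent.S1959.exists_fully_normalized S T hT
      exact ⟨cj g T, Set.mem_univ _, hg1, ⟨g, rfl⟩, hg2⟩)
    (Rel A) (rel_fusionRel A)
    (fun U _ hUS hUfn IH m hm => local_step S A hA hsc U hUS hUfn IH m hm)
    (Subgroup.closure B) ((Subgroup.closure_le _).mpr hB) g
    (by rw [cj_closure]; exact (Subgroup.closure_le _).mpr hg)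
  obtain ⟨x, hx, h⟩ := key
  exact ⟨x, hx, fun a ha => h a (Subgroup.subset_closure ha)⟩

end Cfsg.Agent.S2791
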