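import Mathlib
import Cfsg.Statements.S3878
-- import your own Cfsg.Agent.* helpers here

set_option autoImplicit false
open Cfsg

namespace Cfsg.Agent.S3878


theorem exists_conj_mem_of_not_dvd_index {G : Type*} [Group G] [Finite G] (H : Subgroup G)
    {p : ℕ} [Fact p.Prime] (hp : ¬ p ∣ H.index) (g : G) (hg : IsPGroup p (Subgroup.zpowers g)) :
    ∃ x : G, x⁻¹ * g * x ∈ H := by
  have hcard : ¬ p ∣ Nat.card (G ⧸ H) := by
    rwa [← Subgroup.index_eq_card]
  obtain ⟨a, ha⟩ := hg.nonempty_fixed_point_of_prime_not_dvd_card (G ⧸ H) hcard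
  induction a using QuotientGroup.induction_on with
  | H x =>
    refine ⟨x, ?_⟩
    have h1 : (⟨g, Subgroup.mem_zpowers g⟩ : Subgroup.zpowers g) • (x : G ⧸ H) = (x : G ⧸ H) :=
      ha ⟨g, Subgroup.mem_zpowers g⟩
    have h2 : ((g * x : G) : G ⧸ H) = (x : G ⧸ H) := h1
    rw [QuotientGroup.eq] at h2
    have : x⁻¹ * g * x = ((g * x)⁻¹ * x)⁻¹ := by group
    rw [this]
    exact H.inv_mem h2

theorem hall_exists_conj_mem {G : Type*} [Group G] [Finite G] {π : Set ℕ} {H : Subgroup G}
    (hH : IsPiHall π H) {p : ℕ} (hp : p.Prime) (hpπ : p ∈ π) (g : G) (hg : orderOf g = p) :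
    ∃ x : G, x⁻¹ * g * x ∈ H := by
  have : Fact p.Prime := ⟨hp⟩
  apply exists_conj_mem_of_not_dvd_index H (hH.2 p hp hpπ) g
  apply IsPGroup.of_card (n := 1)
  rw [Nat.card_zpowers, hg, pow_one]

open Equiv Equiv.Perm

/-- A Hall π-subgroup of `S_q`, `q ∈ π` prime, contains a `q`-cycle with full support. -/
theorem hall_perm_exists_full_cycle {π : Set ℕ} {q : ℕ} (hq : q.Prime)
    (hqπ : q ∈ π) (H : Subgroup (Perm (Fin q))) (hH : IsPiHall π H) :
    ∃ σ ∈ H, IsCycle σ ∧ σ.support = Finset.univ := by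
  have hq2' : 2 ≤ q := hq.two_le
  obtain ⟨n, rfl⟩ : ∃ n, q = n + 2 := ⟨q - 2, by omega⟩
  have hσ : orderOf (finRotate (n + 2)) = n + 2 := by
    rw [isCycle_finRotate.orderOf, support_finRotate, Finset.card_univ, Fintype.card_fin]
  obtain ⟨x, hx⟩ := hall_exists_conj_mem hH hq hqπ (finRotate (n + 2)) hσ
  refine ⟨_, hx, ?_, ?_⟩
  · have := (isCycle_finRotate (n := n)).conj (g := x⁻¹)
    simpa using this
  · have := support_conj (σ := x⁻¹) (τ := finRotate (n + 2))
    rw [inv_inv] at this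
    rw [this, support_finRotate]
    ext a; simp

/-- A Hall π-subgroup of `S_q` with `2, q ∈ π`, `q` an odd prime, is everything. -/
theorem hall_perm_eq_top_of_two {π : Set ℕ} {q : ℕ} (hq : q.Prime)
    (h2π : 2 ∈ π) (hqπ : q ∈ π) (H : Subgroup (Perm (Fin q))) (hH : IsPiHall π H) : H = ⊤ := by
  obtain ⟨σ, hσH, h1, h2⟩ := hall_perm_exists_full_cycle hq hqπ H hH
  have hq2' : 2 ≤ q := hq.two_le
  obtain ⟨n, rfl⟩ : ∃ n, q = n + 2 := ⟨q - 2, by omega⟩
  have hτ : orderOf (swap (0 : Fin (n + 2)) 1) = 2 := by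
    apply IsSwap.orderOf
    exact ⟨0, 1, by simp, rfl⟩
  obtain ⟨y, hy⟩ := hall_exists_conj_mem hH Nat.prime_two h2π (swap (0 : Fin (n + 2)) 1) hτ
  have h3 : IsSwap (y⁻¹ * swap (0 : Fin (n + 2)) 1 * y) := by
    refine ⟨y⁻¹ 0, y⁻¹ 1, by simp, ?_⟩
    rw [swap_apply_apply, inv_inv]
  have := closure_prime_cycle_swap (by simpa using hq) h1 h2 h3
  rw [eq_top_iff, ← this, Subgroup.closure_le]
  rintro z (rfl | rfl)
  · exact hσH
  · exact hy


open MulAction

theorem pretransitive_of_full_cycle {q : ℕ} (H : Subgroup (Perm (Fin q))) {σ : Perm (Fin q)}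
    (hσH : σ ∈ H) (h1 : IsCycle σ) (h2 : σ.support = Finset.univ) :
    IsPretransitive H (Fin q) := by
  constructor
  intro a b
  have ha : σ a ≠ a := mem_support.mp (h2 ▸ Finset.mem_univ a)
  have hb : σ b ≠ b := mem_support.mp (h2 ▸ Finset.mem_univ b)
  obtain ⟨i, hi⟩ := h1.exists_pow_eq ha hb
  exact ⟨⟨σ ^ i, H.pow_mem hσH i⟩, hi⟩

/-- A Hall π-subgroup of `S_q` with primes `p < q` in `π` has even order. -/
theorem hall_perm_even {π : Set ℕ} {p q : ℕ} (hp : p.Prime) (hq : q.Prime) (hpq : p < q)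
    (hpπ : p ∈ π) (hqπ : q ∈ π) (H : Subgroup (Perm (Fin q))) (hH : IsPiHall π H) :
    2 ∣ Nat.card H := by
  obtain ⟨σ, hσH, h1, h2⟩ := hall_perm_exists_full_cycle hq hqπ H hH
  have htrans : IsPretransitive H (Fin q) := pretransitive_of_full_cycle H hσH h1 h2
  have hprim : IsPreprimitive H (Fin q) := by
    apply IsPreprimitive.of_prime_card
    simpa using hq
  have hp2 : 2 ≤ p := hp.two_le
  have : NeZero q := ⟨by omega⟩
  -- the p-cycle
  let i : Fin q := ⟨p - 1, by omega⟩
  have hi0 : i ≠ 0 := by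
    intro h
    have := congrArg Fin.val h
    simp [i] at this
    omega
  have hc : IsCycle (Fin.cycleRange i) := Fin.isCycle_cycleRange hi0
  have hcs : (Fin.cycleRange i).support.card = p := by
    rw [← sum_cycleType, Fin.cycleType_cycleRange hi0]
    simp [i]
    omega
  have hco : orderOf (Fin.cycleRange i) = p := by rw [hc.orderOf, hcs]
  obtain ⟨x, hx⟩ := hall_exists_conj_mem hH hp hpπ _ hco
  set ρ := x⁻¹ * Fin.cycleRange i * x with hρ
  have hρc : IsCycle ρ := by
    have := hc.conj (g := x⁻¹)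
    simpa using this
  have hρs : ρ.support.card = p := by
    have := card_support_conj (σ := x⁻¹) (τ := Fin.cycleRange i)
    rw [inv_inv] at this
    rw [hρ, this, hcs]
  have hjt := isPretransitive_of_isCycle_mem (G := H) hρc hx
  have hncard : ((ρ.support : Set (Fin q))ᶜ).ncard = (q - p - 1) + 1 := by
    have h1 := Set.ncard_add_ncard_compl (ρ.support : Set (Fin q))
    rw [Set.ncard_coe_finset, hρs, Nat.card_eq_fintype_card, Fintype.card_fin] at h1
    omega
  have h2t : IsMultiplyPretransitive H (Fin q) 2 := by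
    apply hprim.is_two_pretransitive hncard _ hjt
    rw [Nat.card_eq_fintype_card, Fintype.card_fin]
    omega
  rw [is_two_pretransitive_iff] at h2t
  have hq3 : 3 ≤ q := by omega
  have h01 : (⟨0, by omega⟩ : Fin q) ≠ ⟨1, by omega⟩ := by
    intro h; simpa using congrArg Fin.val h
  obtain ⟨g, hg0, hg1⟩ := h2t h01 h01.symm
  -- g has even order
  have hgo : 2 ∣ orderOf g := by
    by_contra hodd
    have hodd' : orderOf g % 2 = 1 := by omega
    have hg2 : g ^ 2 ∈ stabilizer H (⟨0, by omega⟩ : Fin q) := by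
      rw [mem_stabilizer_iff, pow_two, mul_smul, hg0, hg1]
    have hgk : g ^ (orderOf g + 1) ∈ stabilizer H (⟨0, by omega⟩ : Fin q) := by
      have : orderOf g + 1 = 2 * ((orderOf g + 1) / 2) := by omega
      rw [this, pow_mul]
      exact Subgroup.pow_mem _ hg2 _
    rw [pow_succ, pow_orderOf_eq_one, one_mul, mem_stabilizer_iff, hg0] at hgk
    exact h01 hgk.symm
  exact hgo.trans (orderOf_dvd_natCard g)





/-- `A_{r+1}` has no Hall π-subgroup when `π` contains exactly the primes below the prime `r ≥ 5`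
(among the primes up to `r`). -/
theorem hall_alt_false {π : Set ℕ} {r : ℕ} (hr : r.Prime) (hr5 : 5 ≤ r)
    (hlt : ∀ l : ℕ, l.Prime → l < r → l ∈ π) (hrπ : r ∉ π)
    (H : Subgroup (alternatingGroup (Fin (r + 1)))) (hH : IsPiHall π H) : False := by
  obtain ⟨m, rfl⟩ : ∃ m, r = m + 1 := ⟨r - 1, by omega⟩
  have hcard : 2 * Nat.card (alternatingGroup (Fin (m + 1 + 1))) = (m + 1 + 1).factorial := by
    rw [two_mul_nat_card_alternatingGroup, Nat.card_perm, Nat.card_eq_fintype_card,
      Fintype.card_fin]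
  have hsimple : IsSimpleGroup (alternatingGroup (Fin (m + 1 + 1))) :=
    alternatingGroup.isSimpleGroup (by simp; omega)
  have hrodd : (m + 1) % 2 = 1 := by
    rcases hr.eq_two_or_odd with h | h
    · omega
    · exact h
  have hr_dvd : (m + 1) ∣ Nat.card (alternatingGroup (Fin (m + 1 + 1))) := by
    have h1 : (m + 1) ∣ 2 * Nat.card (alternatingGroup (Fin (m + 1 + 1))) := by
      rw [hcard]; exact (hr.dvd_factorial).mpr (by omega)
    rcases (Nat.Prime.dvd_mul hr).mp h1 with h | h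
    · have := Nat.le_of_dvd (by norm_num) h; omega
    · exact h
  -- primes dividing the index
  have hidx : ∀ {l : ℕ}, l.Prime → l ∣ H.index → l = m + 1 := by
    intro l hl hli
    have h1 : l ∣ (m + 1 + 1).factorial := by
      rw [← hcard]
      exact (hli.trans (Subgroup.index_dvd_card H)).mul_left 2
    have h2 : l ≤ m + 1 + 1 := (hl.dvd_factorial).mp h1
    have h3 : ¬ l < m + 1 := fun h => hH.2 l hl (hlt l hl h) hli
    rcases Nat.lt_or_ge (m + 1) l with h4 | h4
    · have : l = m + 1 + 1 := by omega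
      rcases hl.eq_two_or_odd with h | h <;> omega
    · omega
  have hidx_ne : H.index ≠ 0 := Subgroup.index_ne_zero_of_finite
  have hpow := Nat.eq_prime_pow_of_unique_prime_dvd hidx_ne hidx
  generalize H.index.primeFactorsList.length = k at hpow
  -- k ≤ 1
  have hk1 : k ≤ 1 := by
    by_contra hk2
    have hk2 : 2 ≤ k := by omega
    have h1 : (m + 1) ^ 2 ∣ (m + 1 + 1).factorial := by
      rw [← hcard]
      apply Dvd.dvd.mul_left
      refine Dvd.dvd.trans ?_ (Subgroup.index_dvd_card H)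
      rw [hpow]
      exact pow_dvd_pow (m + 1) hk2
    rw [Nat.factorial_succ, Nat.factorial_succ, pow_two, ← mul_assoc, mul_comm (m + 1 + 1) (m + 1),
      mul_assoc] at h1
    have h2 := Nat.dvd_of_mul_dvd_mul_left (by omega) h1
    rcases (Nat.Prime.dvd_mul hr).mp h2 with h | h
    · have := (Nat.dvd_add_right (dvd_refl (m + 1))).mp h
      have := Nat.le_of_dvd (by norm_num) this
      omega
    · have := (hr.dvd_factorial).mp h
      omega
  have hindex : H.index = m + 1 := by
    interval_cases k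
    · -- index 1: H = ⊤
      exfalso
      rw [pow_zero] at hpow
      have htop : H = ⊤ := Subgroup.index_eq_one.mp hpow
      apply hrπ
      apply hH.1 (m + 1) hr
      rw [htop, Subgroup.card_top]
      exact hr_dvd
    · rw [hpow, pow_one]
  -- action on cosets
  have hker : (MulAction.toPermHom (alternatingGroup (Fin (m + 1 + 1)))
      ((alternatingGroup (Fin (m + 1 + 1))) ⧸ H)).ker = ⊥ := by
    rw [← Subgroup.normalCore_eq_ker]
    rcases hsimple.eq_bot_or_eq_top_of_normal H.normalCore inferInstance with h | h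
    · exact h
    · exfalso
      have : H = ⊤ := top_le_iff.mp (h ▸ Subgroup.normalCore_le H)
      rw [this, Subgroup.index_top] at hindex
      omega
  have hinj : Function.Injective (MulAction.toPermHom (alternatingGroup (Fin (m + 1 + 1)))
      ((alternatingGroup (Fin (m + 1 + 1))) ⧸ H)) :=
    (MonoidHom.ker_eq_bot_iff _).mp hker
  have hdvd := Subgroup.card_dvd_of_injective _ hinj
  rw [Nat.card_perm, ← Subgroup.index_eq_card, hindex] at hdvd
  have hle := Nat.le_of_dvd (Nat.factorial_pos (m + 1)) hdvd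
  rw [Nat.factorial_succ] at hcard
  have : 0 < (m + 1).factorial := Nat.factorial_pos (m + 1)
  nlinarith




/-- At most one prime in π: Sylow gives a Hall subgroup. -/
theorem E_of_le_one {π : Set ℕ} (h : ∀ p q : ℕ, p.Prime → q.Prime → p ∈ π → q ∈ π → p = q)
    (G : Type*) [Group G] [Finite G] : IsEPiGroup π G := by
  by_cases hex : ∃ p, p.Prime ∧ p ∈ π
  · obtain ⟨p, hp, hpπ⟩ := hex
    have : Fact p.Prime := ⟨hp⟩
    obtain ⟨P⟩ : Nonempty (Sylow p G) := inferInstance
    refine ⟨P.1, ?_, ?_⟩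
    · intro l hl hdvd
      obtain ⟨n, hn⟩ := IsPGroup.iff_card.mp P.isPGroup'
      rw [hn] at hdvd
      have := (Nat.prime_dvd_prime_iff_eq hl hp).mp (hl.dvd_of_dvd_pow hdvd)
      rw [this]; exact hpπ
    · intro l hl hlπ
      have := h l p hl hp hlπ hpπ
      rw [this]
      exact P.not_dvd_index
  · push Not at hex
    refine ⟨⊥, ?_, ?_⟩
    · intro l hl hdvd
      rw [Subgroup.card_bot] at hdvd
      exact absurd (Nat.dvd_one.mp hdvd) hl.ne_one
    · intro l hl hlπ
      exact absurd hlπ (hex l hl)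

theorem E_of_all {π : Set ℕ} (h : ∀ p : ℕ, p.Prime → p ∈ π)
    (G : Type*) [Group G] [Finite G] : IsEPiGroup π G := by
  refine ⟨⊤, fun l hl _ => h l hl, ?_⟩
  intro l hl _
  rw [Subgroup.index_top]
  exact fun hd => hl.ne_one (Nat.dvd_one.mp hd)

/-- `D_π` implies `E_π` in a finite group. -/
theorem E_of_D {π : Set ℕ} (G : Type*) [Group G] [Finite G] (hD : IsDPiGroup π G) :
    IsEPiGroup π G := by
  have hbot : IsPiSubgroup π (⊥ : Subgroup G) := by
    intro l hl hdvd
    rw [Subgroup.card_bot] at hdvd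
    exact absurd (Nat.dvd_one.mp hdvd) hl.ne_one
  obtain ⟨M, -, hM⟩ := Finite.exists_le_maximal hbot
  refine ⟨M, hM.prop, ?_⟩
  intro p hp hpπ hdvd
  have : Fact p.Prime := ⟨hp⟩
  obtain ⟨P⟩ : Nonempty (Sylow p G) := inferInstance
  have hP : IsPiSubgroup π P.1 := by
    intro l hl hdvd
    obtain ⟨n, hn⟩ := IsPGroup.iff_card.mp P.isPGroup'
    rw [hn] at hdvd
    have := (Nat.prime_dvd_prime_iff_eq hl hp).mp (hl.dvd_of_dvd_pow hdvd)
    rw [this]; exact hpπ
  obtain ⟨M', hPM', hM'⟩ := Finite.exists_le_maximal hP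
  obtain ⟨g, hg⟩ := hD M M' hM hM'
  have hcard : Nat.card M' = Nat.card M := by
    rw [hg]
    exact (Subgroup.card_map_of_injective (MulAut.conj g).injective)
  have h1 : Nat.card P.1 ∣ Nat.card M := by
    rw [← hcard]
    exact Subgroup.card_dvd_of_le hPM'
  rw [P.card_eq_multiplicity] at h1
  have h2 : p ^ ((Nat.card G).factorization p + 1) ∣ Nat.card G := by
    rw [pow_succ]
    exact (Nat.mul_dvd_mul h1 hdvd).trans (dvd_of_eq (Subgroup.card_mul_index M))
  exact Nat.pow_succ_factorization_not_dvd Nat.card_pos.ne' hp h2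




theorem D_of_all {π : Set ℕ} (h : ∀ p : ℕ, p.Prime → p ∈ π)
    (G : Type*) [Group G] [Finite G] : IsDPiGroup π G := by
  intro H K hH hK
  have htop : IsPiSubgroup π (⊤ : Subgroup G) := fun l hl _ => h l hl
  have h1 : H = ⊤ := top_le_iff.mp (hH.2 htop le_top)
  have h2 : K = ⊤ := top_le_iff.mp (hK.2 htop le_top)
  refine ⟨1, ?_⟩
  rw [h1, h2]
  ext x
  simp

theorem isPiSubgroup_iff_isPGroup {π : Set ℕ}
    (h : ∀ p q : ℕ, p.Prime → q.Prime → p ∈ π → q ∈ π → p = q) {p : ℕ} (hp : p.Prime)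
    (hpπ : p ∈ π) {G : Type*} [Group G] [Finite G] (K : Subgroup G) :
    IsPiSubgroup π K ↔ IsPGroup p K := by
  have : Fact p.Prime := ⟨hp⟩
  constructor
  · intro hK
    have h1 : ∀ {d : ℕ}, d.Prime → d ∣ Nat.card K → d = p := fun hd hdvd =>
      h _ _ hd hp (hK _ hd hdvd) hpπ
    have := Nat.eq_prime_pow_of_unique_prime_dvd Nat.card_pos.ne' h1
    exact IsPGroup.of_card this
  · intro hK l hl hdvd
    obtain ⟨n, hn⟩ := IsPGroup.iff_card.mp hK
    rw [hn] at hdvd
    have := (Nat.prime_dvd_prime_iff_eq hl hp).mp (hl.dvd_of_dvd_pow hdvd)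
    rw [this]; exact hpπ

theorem D_of_le_one {π : Set ℕ} (h : ∀ p q : ℕ, p.Prime → q.Prime → p ∈ π → q ∈ π → p = q)
    (G : Type*) [Group G] [Finite G] : IsDPiGroup π G := by
  intro H K hH hK
  by_cases hex : ∃ p, p.Prime ∧ p ∈ π
  · obtain ⟨p, hp, hpπ⟩ := hex
    have : Fact p.Prime := ⟨hp⟩
    let P : Sylow p G := ⟨H, (isPiSubgroup_iff_isPGroup h hp hpπ H).mp hH.1, fun {Q} hQ hle =>
      le_antisymm (hH.2 ((isPiSubgroup_iff_isPGroup h hp hpπ Q).mpr hQ) hle) hle⟩
    let Q : Sylow p G := ⟨K, (isPiSubgroup_iff_isPGroup h hp hpπ K).mp hK.1, fun {Q} hQ hle =>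
      le_antisymm (hK.2 ((isPiSubgroup_iff_isPGroup h hp hpπ Q).mpr hQ) hle) hle⟩
    obtain ⟨g, hg⟩ := MulAction.exists_smul_eq G P Q
    refine ⟨g, ?_⟩
    have h1 : ((g • P : Sylow p G) : Subgroup G) = K := by rw [hg]
    rw [← h1, Sylow.coe_subgroup_smul]
    rfl
  · push Not at hex
    have hone : ∀ L : Subgroup G, IsPiSubgroup π L → L = ⊥ := by
      intro L hL
      rw [← Subgroup.card_eq_one]
      by_contra hne
      obtain ⟨l, hl, hdvd⟩ := Nat.exists_prime_and_dvd hne
      exact hex l hl (hL l hl hdvd)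
    refine ⟨1, ?_⟩
    rw [hone H hH.1, hone K hK.1]
    simp



/-- Two primes in π and one prime outside: some finite group has no Hall π-subgroup. -/
theorem exists_not_E {π : Set ℕ} {p q r : ℕ} (hp : p.Prime) (hq : q.Prime) (hr : r.Prime)
    (hpq : p ≠ q) (hpπ : p ∈ π) (hqπ : q ∈ π) (hrπ : r ∉ π) :
    ∃ (G : Type) (_ : Group G) (_ : Finite G), ¬ IsEPiGroup π G := by
  classical
  by_cases h2 : 2 ∈ π
  · -- the least prime outside π
    have hex : ∃ r, r.Prime ∧ r ∉ π := ⟨r, hr, hrπ⟩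
    obtain ⟨hr0, hr0π⟩ := Nat.find_spec hex
    have hmin : ∀ l : ℕ, l.Prime → l < Nat.find hex → l ∈ π := by
      intro l hl hlt
      by_contra hlπ
      exact Nat.find_min hex hlt ⟨hl, hlπ⟩
    generalize Nat.find hex = r0 at hr0 hr0π hmin
    by_cases hbig : ∃ q', q'.Prime ∧ q' ∈ π ∧ r0 < q'
    · obtain ⟨q', hq', hq'π, hlt⟩ := hbig
      refine ⟨Equiv.Perm (Fin q'), inferInstance, inferInstance, ?_⟩
      rintro ⟨H, hH⟩
      have htop := hall_perm_eq_top_of_two hq' h2 hq'π H hH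
      apply hr0π
      apply hH.1 r0 hr0
      rw [htop, Subgroup.card_top, Nat.card_perm, Nat.card_eq_fintype_card, Fintype.card_fin]
      exact (hr0.dvd_factorial).mpr hlt.le
    · push Not at hbig
      have hlt' : ∀ l : ℕ, l.Prime → l ∈ π → l < r0 := by
        intro l hl hlπ
        rcases Nat.lt_or_ge l r0 with h | h
        · exact h
        · rcases Nat.lt_or_ge r0 l with h' | h'
          · exact absurd h' (not_lt.mpr (hbig l hl hlπ))
          · have : l = r0 := le_antisymm h' h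
            exact absurd (this ▸ hlπ) hr0π
      have hp0 := hlt' p hp hpπ
      have hq0 := hlt' q hq hqπ
      have hp2 := hp.two_le
      have hq2 := hq.two_le
      have hr5 : 5 ≤ r0 := by
        have h4 : r0 ≠ 4 := by
          rintro rfl
          exact absurd hr0 (by decide)
        omega
      refine ⟨alternatingGroup (Fin (r0 + 1)), inferInstance, inferInstance, ?_⟩
      rintro ⟨H, hH⟩
      exact hall_alt_false hr0 hr5 hmin hr0π H hH
  · -- 2 ∉ π: a Hall subgroup of S_q would have even order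
    wlog hlt : p < q generalizing p q
    · exact this hq hp hpq.symm hqπ hpπ (lt_of_le_of_ne (not_lt.mp hlt) hpq.symm)
    refine ⟨Equiv.Perm (Fin q), inferInstance, inferInstance, ?_⟩
    rintro ⟨H, hH⟩
    exact h2 (hH.1 2 Nat.prime_two (hall_perm_even hp hq hlt hpπ hqπ H hH))

/-- For a set of primes π the following are equivalent: every finite group has a Hall π-subgroup; in every finite group the maximal π-subgroups are pairwise conjugate; π contains at most one prime or contains every prime. -/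
theorem result (π : Set ℕ) :
    ((∀ (G : Type) [Group G] [Finite G], Cfsg.IsEPiGroup π G) ↔
      ((∀ p q : ℕ, p.Prime → q.Prime → p ∈ π → q ∈ π → p = q) ∨ ∀ p : ℕ, p.Prime → p ∈ π)) ∧
    ((∀ (G : Type) [Group G] [Finite G], Cfsg.IsDPiGroup π G) ↔
      ((∀ p q : ℕ, p.Prime → q.Prime → p ∈ π → q ∈ π → p = q) ∨ ∀ p : ℕ, p.Prime → p ∈ π)) := by
  have key : (∀ (G : Type) [Group G] [Finite G], Cfsg.IsEPiGroup π G) →
      ((∀ p q : ℕ, p.Prime → q.Prime → p ∈ π → q ∈ π → p = q) ∨ ∀ p : ℕ, p.Prime → p ∈ π) := by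
    intro hE
    by_contra hcon
    push Not at hcon
    obtain ⟨⟨p, q, hp, hq, hpπ, hqπ, hpq⟩, ⟨r, hr, hrπ⟩⟩ := hcon
    obtain ⟨G, _, _, hG⟩ := exists_not_E hp hq hr hpq hpπ hqπ hrπ
    exact hG (hE G)
  refine ⟨⟨key, ?_⟩, ⟨?_, ?_⟩⟩
  · rintro (h | h) G _ _
    · exact E_of_le_one h G
    · exact E_of_all h G
  · intro hD
    exact key (fun G _ _ => E_of_D G (hD G))
  · rintro (h | h) G _ _
    · exact D_of_le_one h G
    · exact D_of_all h G

end Cfsg.Agent.S3878
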