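import Mathlib
import Cfsg.Statements.S1446
import Cfsg.Agent.Lib.Helper52_FrobFormula

set_option autoImplicit false
set_option linter.style.haveILetI false
open Cfsg

namespace Cfsg.Agent.S1446

open Cfsg.Agent.Lib.Helper52_FrobAct Cfsg.Agent.Lib.Helper52_FrobFormula

/-- the index of `C_N(R)` in a cyclic `C_M(R)` divides `p` when `M / N` has exponent `p` -/
theorem index_dvd_prime {X : Type*} [Group X] [Finite X] (p : ℕ) (C D N : Subgroup X)
    (hDC : D ≤ C) (hcyc : IsCyclic C) (hpow : ∀ c ∈ C, c ^ p ∈ D) (f : ℕ)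
    (hf : f * Nat.card D = Nat.card C) : f ∣ p := by
  have hMD : C ≤ Subgroup.normalizer (D : Set X) := by
    intro c hc
    rw [Subgroup.mem_normalizer_iff]
    intro d
    have hcomm : ∀ y ∈ C, c * y * c⁻¹ = y := by
      intro y hy
      haveI := hcyc
      have h1 : (⟨c, hc⟩ : C) * ⟨y, hy⟩ = ⟨y, hy⟩ * ⟨c, hc⟩ := by
        obtain ⟨g, hg⟩ := IsCyclic.exists_generator (α := C)
        obtain ⟨i, hi⟩ := Subgroup.mem_zpowers_iff.1 (hg ⟨c, hc⟩)
        obtain ⟨j, hj⟩ := Subgroup.mem_zpowers_iff.1 (hg ⟨y, hy⟩)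
        rw [← hi, ← hj, ← zpow_add, ← zpow_add, add_comm]
      have h2 : c * y = y * c := congrArg Subtype.val h1
      rw [h2]
      group
    constructor
    · intro hd
      rw [hcomm d (hDC hd)]
      exact hd
    · intro hd
      have h3 : c * d * c⁻¹ ∈ C := hDC hd
      have h4 : d = c⁻¹ * (c * d * c⁻¹) * c := by group
      have h5 : d ∈ C := by
        rw [h4]
        exact C.mul_mem (C.mul_mem (C.inv_mem hc) h3) hc
      rw [hcomm d h5] at hd
      exact hd
  haveI hn : (D.subgroupOf C).Normal := (Subgroup.normal_subgroupOf_iff_le_normalizer hDC).2 hMD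
  have hcard : Nat.card (↥C ⧸ D.subgroupOf C) * Nat.card D = Nat.card C := by
    rw [Subgroup.card_eq_card_quotient_mul_card_subgroup (D.subgroupOf C),
      Nat.card_congr (Subgroup.subgroupOfEquivOfLe hDC).toEquiv]
  have hpos : 0 < Nat.card D := Nat.card_pos
  have hfeq : f = Nat.card (↥C ⧸ D.subgroupOf C) := by
    apply Nat.eq_of_mul_eq_mul_right hpos
    rw [hf, hcard]
  haveI := hcyc
  haveI : IsCyclic (↥C ⧸ D.subgroupOf C) :=
    isCyclic_of_surjective (QuotientGroup.mk' (D.subgroupOf C)) (QuotientGroup.mk'_surjective _)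
  rw [hfeq, ← IsCyclic.exponent_eq_card]
  apply Monoid.exponent_dvd_of_forall_pow_eq_one
  intro q
  induction q using QuotientGroup.induction_on with
  | H c =>
    rw [← QuotientGroup.mk_pow]
    apply (QuotientGroup.eq_one_iff _).2
    rw [Subgroup.mem_subgroupOf, Subgroup.coe_pow]
    exact hpow _ c.2

theorem part3 {X : Type*} [Group X] [Finite X] (K R M : Subgroup X)
    (hUn : ∀ e ∈ R, ∀ u ∈ K, e * u * e⁻¹ ∈ K)
    (hfpf : ∀ e ∈ R, e ≠ 1 → ∀ u ∈ K, e * u = u * e → u = 1) (hnil : Group.IsNilpotent K)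
    (hMsolv : Group.IsSolvable M)
    (hcop : (Nat.card ↥(K ⊔ R)).Coprime (Nat.card M))
    (hCK : M ⊓ Subgroup.centralizer (K : Set X) = ⊥)
    (hcyc : IsCyclic ↥(M ⊓ Subgroup.centralizer (R : Set X))) :
    ∀ (n : ℕ) (M' : Subgroup X), Nat.card M' = n → M' ≤ M →
      K ⊔ R ≤ Subgroup.normalizer (M' : Set X) →
      ⁅K, K⁆ ≤ Subgroup.centralizer (M' : Set X) := by
  intro n
  induction' n using Nat.strong_induction_on with n ih
  intro M' hMn hM'M hGM
  by_cases hM : M' = ⊥
  · subst hM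
    intro x _
    rw [Subgroup.mem_centralizer_iff]
    intro m hm
    rw [SetLike.mem_coe, Subgroup.mem_bot] at hm
    rw [hm, one_mul, mul_one]
  · have hsolv' : Group.IsSolvable M' :=
      Group.isSolvable_of_isSolvable_injective (Subgroup.inclusion_injective hM'M)
    have hcop' : (Nat.card ↥(K ⊔ R)).Coprime (Nat.card M') :=
      Nat.Coprime.coprime_dvd_right (Subgroup.card_dvd_of_le hM'M) hcop
    obtain ⟨p, N, hp, hpM, hNlt, hcommQ, hexpQ, hnorm⟩ := exists_elemAb_quotient M' hsolv' hM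
    haveI : Fact p.Prime := ⟨hp⟩
    have hNM : N ≤ M' := hNlt.le
    have hcardlt : Nat.card N < n := by
      rw [← hMn]
      by_contra hcon
      push Not at hcon
      exact hNlt.ne (Subgroup.eq_of_le_of_card_ge hNM hcon)
    have hGN : K ⊔ R ≤ Subgroup.normalizer (N : Set X) := hGM.trans hnorm
    have hMN : M' ≤ Subgroup.normalizer (N : Set X) := Subgroup.le_normalizer.trans hnorm
    have ihN := ih (Nat.card N) hcardlt N rfl (hNM.trans hM'M) hGN
    have hpG : ¬ p ∣ Nat.card ↥(K ⊔ R) := by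
      intro h
      have h1 := Nat.dvd_gcd h hpM
      rw [hcop'] at h1
      exact hp.one_lt.ne' (Nat.dvd_one.1 h1)
    obtain ⟨fG, fE, fU, q, key, hG, hE, hU, hq⟩ := section_formula p K R M' N hUn hfpf hnil hGM hGN
      hNM hMN hcommQ hexpQ hpG hcop' hsolv'
    -- the centralizers of `K` are trivial
    have hCK' : M' ⊓ Subgroup.centralizer (K : Set X) = ⊥ := by
      rw [eq_bot_iff, ← hCK]
      exact inf_le_inf_right _ hM'M
    have hCG' : M' ⊓ Subgroup.centralizer ((K ⊔ R : Subgroup X) : Set X) = ⊥ := by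
      rw [eq_bot_iff, ← hCK']
      apply inf_le_inf_left
      apply Subgroup.centralizer_le
      exact (le_sup_left : K ≤ K ⊔ R)
    rw [hCK', Subgroup.card_bot] at hU
    rw [hCG', Subgroup.card_bot] at hG
    have hfU : fU = 1 := Nat.eq_one_of_mul_eq_one_right hU
    have hfG : fG = 1 := Nat.eq_one_of_mul_eq_one_right hG
    rw [hfU, hfG, one_pow, one_mul, mul_one] at key
    have hq1 : q ≠ 1 := by
      intro h
      rw [h, one_mul] at hq
      exact hNlt.ne (Subgroup.eq_of_le_of_card_ge hNM hq.symm.le)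
    have hfE1 : fE ≠ 1 := by
      intro h
      rw [h, one_pow] at key
      exact hq1 key
    -- `fE = p`
    have hcyc' : IsCyclic ↥(M' ⊓ Subgroup.centralizer (R : Set X)) := by
      haveI := hcyc
      exact isCyclic_of_injective
        (Subgroup.inclusion (inf_le_inf_right _ hM'M :
          M' ⊓ Subgroup.centralizer (R : Set X) ≤ M ⊓ Subgroup.centralizer (R : Set X)))
        (Subgroup.inclusion_injective _)
    have hdvd : fE ∣ p := index_dvd_prime p (M' ⊓ Subgroup.centralizer (R : Set X))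
      (N ⊓ Subgroup.centralizer (R : Set X)) N (inf_le_inf_right _ hNM) hcyc'
      (fun c hc => ⟨hexpQ c hc.1, Subgroup.pow_mem _ hc.2 p⟩) fE hE
    have hfEp : fE = p := by
      rcases (Nat.dvd_prime hp).1 hdvd with h | h
      · exact absurd h hfE1
      · exact h
    rw [hfEp] at hE
    have hcomm := section_commute p K R M' N hUn hfpf hnil hGM hGN hNM hMN hcommQ hexpQ hpG
      hcop' hsolv' hE.symm
    -- lift with coprime action
    have hK'K : ⁅K, K⁆ ≤ K := by
      rw [Subgroup.commutator_le]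
      intro a ha b hb
      rw [commutatorElement_def]
      exact K.mul_mem (K.mul_mem (K.mul_mem ha hb) (K.inv_mem ha)) (K.inv_mem hb)
    have hK'G : ⁅K, K⁆ ≤ K ⊔ R := hK'K.trans le_sup_left
    have hcopA : (Nat.card ↥⁅K, K⁆).Coprime (Nat.card M') :=
      Nat.Coprime.coprime_dvd_left (Subgroup.card_dvd_of_le hK'G) hcop'
    intro x hx
    rw [Subgroup.mem_centralizer_iff]
    intro m hm
    obtain ⟨c, hc, hc'⟩ := Cfsg.Agent.S0022.result ⁅K, K⁆ M' (hK'G.trans hGM) hcopA
      (Or.inr hsolv') N hNM hMN (hK'G.trans hGN) m hm (fun a ha => hcomm a ha m hm)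
    have h1 : c ∈ Subgroup.centralizer ((⁅K, K⁆ : Subgroup X) : Set X) := hc.2
    have h2 : m⁻¹ * c ∈ Subgroup.centralizer ((⁅K, K⁆ : Subgroup X) : Set X) := by
      rw [Subgroup.mem_centralizer_iff]
      intro y hy
      have h3 := ihN hy
      rw [Subgroup.mem_centralizer_iff] at h3
      exact (h3 _ hc').symm
    have h4 : m ∈ Subgroup.centralizer ((⁅K, K⁆ : Subgroup X) : Set X) := by
      have h5 : m = c * (m⁻¹ * c)⁻¹ := by group
      rw [h5]
      exact Subgroup.mul_mem _ h1 (Subgroup.inv_mem _ h2)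
    rw [Subgroup.mem_centralizer_iff] at h4
    exact (h4 x hx).symm

/-- Let X be a finite group with subgroups K, R, M such that: K and R are nontrivial, K ∩ R = 1, R normalizes K, no non-identity element of R centralizes a non-identity element of K, K ⊔ R is solvable of odd order; M is nilpotent and nontrivial, normalized by K and by R, with order coprime to that of K ⊔ R, M ∩ C(K) = 1, and M ∩ C(x) = M ∩ C(R) for all non-identity x ∈ R. Then R has prime order p, #M = #(M ∩ C(R)) ^ p, and if M ∩ C(R) is cyclic then [K, K] centralizes M. -/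
theorem result {X : Type*} [Group X] [Finite X] (K R M : Subgroup X) (hK1 : K ≠ ⊥) (hR1 : R ≠ ⊥) (hKR : K ⊓ R = ⊥)
    (hRK : R ≤ Subgroup.normalizer (K : Set X)) (hfrob : ∀ r ∈ R, r ≠ 1 → K ⊓ Subgroup.centralizer ({r} : Set X) = ⊥)
    (hsolv : Group.IsSolvable ↥(K ⊔ R)) (hodd : Odd (Nat.card ↥(K ⊔ R)))
    (hM1 : M ≠ ⊥) (hMn : Group.IsNilpotent M) (hKM : K ≤ Subgroup.normalizer (M : Set X)) (hRM : R ≤ Subgroup.normalizer (M : Set X))
    (hcop : (Nat.card ↥(K ⊔ R)).Coprime (Nat.card M)) (hCK : M ⊓ Subgroup.centralizer (K : Set X) = ⊥)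
    (hpr : ∀ x ∈ R, x ≠ 1 → M ⊓ Subgroup.centralizer ({x} : Set X) = M ⊓ Subgroup.centralizer (R : Set X)) :
    (Nat.card R).Prime ∧ Nat.card M = Nat.card ↥(M ⊓ Subgroup.centralizer (R : Set X)) ^ Nat.card R ∧
      (IsCyclic ↥(M ⊓ Subgroup.centralizer (R : Set X)) → ⁅K, K⁆ ≤ Subgroup.centralizer (M : Set X)) := by
  have hUn : ∀ e ∈ R, ∀ u ∈ K, e * u * e⁻¹ ∈ K := fun e he u hu =>
    ((Subgroup.mem_normalizer_iff.1 (hRK he)) u).1 hu
  have hfpf : ∀ e ∈ R, e ≠ 1 → ∀ u ∈ K, e * u = u * e → u = 1 := by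
    intro e he he1 u hu h
    have h1 : u ∈ K ⊓ Subgroup.centralizer ({e} : Set X) :=
      ⟨hu, Subgroup.mem_centralizer_singleton_iff.2 h.symm⟩
    rw [hfrob e he he1] at h1
    exact h1
  have hGM : K ⊔ R ≤ Subgroup.normalizer (M : Set X) := sup_le hKM hRM
  haveI := hMn
  have hMsolv : Group.IsSolvable M := IsNilpotent.to_isSolvable
  have hnil : Group.IsNilpotent K := nilpotent_of_fpf K R hR1 hUn hfpf
  -- the formula for a subgroup `R₀` of `R`
  have hform : ∀ R₀ : Subgroup X, R₀ ≤ R → R₀ ≠ ⊥ →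
      Nat.card M = Nat.card ↥(M ⊓ Subgroup.centralizer (R₀ : Set X)) ^ Nat.card R₀ := by
    intro R₀ hR₀ hR₀1
    have hcop₀ : (Nat.card ↥(K ⊔ R₀)).Coprime (Nat.card M) :=
      Nat.Coprime.coprime_dvd_left (Subgroup.card_dvd_of_le (sup_le_sup_left hR₀ K)) hcop
    have h := frobenius_formula K R₀ M hR₀1 (fun e he => hUn e (hR₀ he))
      (fun e he => hfpf e (hR₀ he)) ((sup_le_sup_left hR₀ K).trans hGM) hMsolv hcop₀
    have hCG : M ⊓ Subgroup.centralizer ((K ⊔ R₀ : Subgroup X) : Set X) = ⊥ := by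
      rw [eq_bot_iff, ← hCK]
      apply inf_le_inf_left
      apply Subgroup.centralizer_le
      exact (le_sup_left : K ≤ K ⊔ R₀)
    rw [hCG, hCK, Subgroup.card_bot, one_pow, one_mul, mul_one] at h
    exact h
  have h2 := hform R le_rfl hR1
  have hc2 : 2 ≤ Nat.card ↥(M ⊓ Subgroup.centralizer (R : Set X)) := by
    by_contra hcon
    push Not at hcon
    have hpos : 0 < Nat.card ↥(M ⊓ Subgroup.centralizer (R : Set X)) := Nat.card_pos
    have h1 : Nat.card ↥(M ⊓ Subgroup.centralizer (R : Set X)) = 1 := by omega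
    rw [h1, one_pow] at h2
    exact hM1 (Subgroup.card_eq_one.1 h2)
  refine ⟨?_, h2, ?_⟩
  · have hC1 : Nat.card R ≠ 1 := fun h => hR1 (Subgroup.card_eq_one.mp h)
    obtain ⟨q, hq, hqR⟩ := Nat.exists_prime_and_dvd hC1
    haveI : Fact q.Prime := ⟨hq⟩
    obtain ⟨x, hx⟩ := exists_prime_orderOf_dvd_card' q hqR
    have hx1 : (x : X) ≠ 1 := by
      intro h
      have : x = 1 := Subtype.ext h
      rw [this, orderOf_one] at hx
      exact hq.one_lt.ne hx
    have hx' : orderOf (x : X) = q := by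
      rw [← hx]
      exact Subgroup.orderOf_coe x
    have hR₀ : Subgroup.zpowers (x : X) ≤ R := by
      rw [Subgroup.zpowers_le]
      exact x.2
    have hR₀1 : Subgroup.zpowers (x : X) ≠ ⊥ := by
      intro h
      rw [Subgroup.zpowers_eq_bot] at h
      exact hx1 h
    have h3 := hform _ hR₀ hR₀1
    have hcen : Subgroup.centralizer ((Subgroup.zpowers (x : X) : Subgroup X) : Set X) =
        Subgroup.centralizer ({(x : X)} : Set X) := by
      rw [Subgroup.zpowers_eq_closure, Subgroup.centralizer_closure]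
    rw [hcen, hpr x x.2 hx1, Nat.card_zpowers, hx'] at h3
    rw [h2] at h3
    have h4 := Nat.pow_right_injective hc2 h3
    rw [h4]
    exact hq
  · intro hcyc
    exact part3 K R M hUn hfpf hnil hMsolv hcop hCK hcyc _ M rfl le_rfl hGM

end Cfsg.Agent.S1446
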