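import Cfsg.Statements.S1498
import Cfsg.Agent.Lib.Helper25_Dade

set_option autoImplicit false
open Cfsg

namespace Cfsg.Agent.S1498

open Cfsg.Agent.Lib.Helper25_Dade

theorem result {G : Type*} [Group G] [Finite G] (A : Set G) (L : Subgroup G) (H : G → Subgroup G) (hD : Cfsg.DadeHypothesis A L H) (a : G) (ha : a ∈ A) (x : G) (hx : x ∈ L) : H (x * a * x⁻¹) = (H a).map (MulAut.conj x).toMonoidHom := by
  apply le_antisymm
  · have ha' : x * a * x⁻¹ ∈ A := hD.conj_mem x hx a ha
    have h := map_conj_le A L H hD (x * a * x⁻¹) ha' x⁻¹ (L.inv_mem hx)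
    have e : x⁻¹ * (x * a * x⁻¹) * x⁻¹⁻¹ = a := by group
    rw [e] at h
    intro v hv
    have hv' : (MulAut.conj x⁻¹).toMonoidHom v ∈ H a := h (Subgroup.mem_map_of_mem _ hv)
    refine ⟨_, hv', ?_⟩
    simp only [MulEquiv.coe_toMonoidHom, MulAut.conj_apply]
    group
  · exact map_conj_le A L H hD a ha x hx

end Cfsg.Agent.S1498
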