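import Cfsg.Statements.S1499
import Cfsg.Agent.Lib.Helper25_Dade

set_option autoImplicit false
open Cfsg

namespace Cfsg.Agent.S1499

/-- The `π`-part trick: if `a` and `u` commute, `a ^ m = 1`, `u ^ n = 1` and `s * m + t * n = 1`
then `(a * u) ^ (t * n) = a`. -/
theorem zpow_part {G : Type*} [Group G] (a u : G) (hcomm : a * u = u * a) (m n : ℕ) (s t : ℤ)
    (ha : a ^ m = 1) (hu : u ^ n = 1) (hst : s * m + t * n = 1) : (a * u) ^ (t * n) = a := by
  have hc : Commute a u := hcomm
  rw [hc.mul_zpow]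
  have h1 : u ^ (t * (n : ℤ)) = 1 := by
    rw [mul_comm, zpow_mul, zpow_natCast, hu, one_zpow]
  have h2 : a ^ (t * (n : ℤ)) = a := by
    have e : t * (n : ℤ) = 1 - (m : ℤ) * s := by linarith
    rw [e, zpow_sub, zpow_one, zpow_mul, zpow_natCast, ha, one_zpow, inv_one, mul_one]
  rw [h1, h2, mul_one]

theorem pow_card_of_mem {G : Type*} [Group G] [Finite G] (K : Subgroup G) (x : G) (hx : x ∈ K) :
    x ^ Nat.card K = 1 := by
  have h1 : (⟨x, hx⟩ : K) ^ Nat.card K = 1 := pow_card_eq_one'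
  have h2 := congrArg Subtype.val h1
  simp only [Subgroup.coe_pow, Subgroup.coe_one] at h2
  exact h2

theorem conj_zpow' {G : Type*} [Group G] (g y : G) (k : ℤ) : g * y ^ k * g⁻¹ = (g * y * g⁻¹) ^ k := by
  have := map_zpow (MulAut.conj g) y k
  simp only [MulAut.conj_apply] at this
  exact this

/-- Under the Dade hypothesis, if `a * u` (with `u ∈ H a`) is conjugate by `g` to `b * v` (with `v ∈ H b`)
then `g` conjugates `a` to `b`. -/
theorem conj_eq {G : Type*} [Group G] [Finite G] (A : Set G) (L : Subgroup G) (H : G → Subgroup G)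
    (hD : Cfsg.DadeHypothesis A L H) (a b : G) (ha : a ∈ A) (hb : b ∈ A)
    (u : G) (hu : u ∈ H a) (v : G) (hv : v ∈ H b) (g : G) (hg : g * (a * u) * g⁻¹ = b * v) :
    g * a * g⁻¹ = b := by
  set m := Nat.card ↥(L ⊓ Subgroup.centralizer ({a} : Set G)) * Nat.card ↥(L ⊓ Subgroup.centralizer ({b} : Set G)) with hm
  set n := Nat.card (H a) * Nat.card (H b) with hn
  have hcop : Nat.Coprime m n := by
    rw [hm, hn]
    apply Nat.Coprime.mul_left
    · apply Nat.Coprime.mul_right
      · exact (hD.coprime a ha a ha).symm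
      · exact (hD.coprime b hb a ha).symm
    · apply Nat.Coprime.mul_right
      · exact (hD.coprime a ha b hb).symm
      · exact (hD.coprime b hb b hb).symm
  obtain ⟨s, t, hst⟩ := (Nat.isCoprime_iff_coprime.mpr hcop)
  have hacent : ∀ c ∈ A, c ∈ L ⊓ Subgroup.centralizer ({c} : Set G) := by
    intro c hc
    refine ⟨hD.subset hc, ?_⟩
    show c ∈ Subgroup.centralizer ({c} : Set G)
    rw [Subgroup.mem_centralizer_iff]
    intro h hh
    have : h = c := hh
    rw [this]
  have ham : a ^ m = 1 := by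
    have h2 : a ^ Nat.card ↥(L ⊓ Subgroup.centralizer ({a} : Set G)) = 1 :=
      pow_card_of_mem _ a (hacent a ha)
    rw [hm, pow_mul, h2, one_pow]
  have hbm : b ^ m = 1 := by
    have h2 : b ^ Nat.card ↥(L ⊓ Subgroup.centralizer ({b} : Set G)) = 1 :=
      pow_card_of_mem _ b (hacent b hb)
    rw [hm, mul_comm, pow_mul, h2, one_pow]
  have hun : u ^ n = 1 := by
    have h2 : u ^ Nat.card (H a) = 1 := pow_card_of_mem _ u hu
    rw [hn, pow_mul, h2, one_pow]
  have hvn : v ^ n = 1 := by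
    have h2 : v ^ Nat.card (H b) = 1 := pow_card_of_mem _ v hv
    rw [hn, mul_comm, pow_mul, h2, one_pow]
  have hau : a * u = u * a :=
    (Subgroup.mem_centralizer_iff.mp (hD.le_centralizer a ha hu)) a rfl
  have hbv : b * v = v * b :=
    (Subgroup.mem_centralizer_iff.mp (hD.le_centralizer b hb hv)) b rfl
  have h1 : (a * u) ^ (t * (n : ℤ)) = a := zpow_part a u hau m n s t ham hun hst
  have h2 : (b * v) ^ (t * (n : ℤ)) = b := zpow_part b v hbv m n s t hbm hvn hst
  calc g * a * g⁻¹ = g * (a * u) ^ (t * (n : ℤ)) * g⁻¹ := by rw [h1]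
    _ = (g * (a * u) * g⁻¹) ^ (t * (n : ℤ)) := conj_zpow' g _ _
    _ = (b * v) ^ (t * (n : ℤ)) := by rw [hg]
    _ = b := h2

theorem result {G : Type*} [Group G] [Finite G] (A : Set G) (L : Subgroup G) (H : G → Subgroup G) (hD : Cfsg.DadeHypothesis A L H) (a b : G) (ha : a ∈ A) (hb : b ∈ A) : ((∃ u ∈ H a, ∃ v ∈ H b, ∃ g : G, g * (a * u) * g⁻¹ = b * v) → ∃ x ∈ L, x * a * x⁻¹ = b) ∧ Subgroup.normalizer ((fun u : G => a * u) '' (H a : Set G)) = Subgroup.centralizer ({a} : Set G) := by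
  constructor
  · rintro ⟨u, hu, v, hv, g, hg⟩
    have hgab : g * a * g⁻¹ = b := conj_eq A L H hD a b ha hb u hu v hv g hg
    obtain ⟨x, hxL, hx⟩ := hD.fusion a ha g (hgab ▸ hb)
    exact ⟨x, hxL, hx.trans hgab⟩
  · apply le_antisymm
    · intro g hg
      rw [Subgroup.mem_set_normalizer_iff] at hg
      have h1 : a ∈ (fun u : G => a * u) '' (H a : Set G) := ⟨1, (H a).one_mem, mul_one a⟩
      obtain ⟨v, hv, hgv⟩ := (hg a).mp h1
      have hgv' : g * (a * 1) * g⁻¹ = a * v := by
        rw [mul_one]; exact hgv.symm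
      have hgaa : g * a * g⁻¹ = a := conj_eq A L H hD a a ha ha 1 (H a).one_mem v hv g hgv'
      rw [Subgroup.mem_centralizer_iff]
      intro h hh
      have : h = a := hh
      subst this
      calc h * g = (g * h * g⁻¹) * g := by rw [hgaa]
        _ = g * h := by group
    · intro c hc
      have hca : a * c = c * a := (Subgroup.mem_centralizer_iff.mp hc) a rfl
      have hcinv : c⁻¹ ∈ Subgroup.centralizer ({a} : Set G) := Subgroup.inv_mem _ hc
      have hca' : a * c⁻¹ = c⁻¹ * a := (Subgroup.mem_centralizer_iff.mp hcinv) a rfl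
      rw [Subgroup.mem_set_normalizer_iff]
      intro n
      constructor
      · rintro ⟨u, hu, rfl⟩
        refine ⟨c * u * c⁻¹, hD.conj_mem_H a ha c hc u hu, ?_⟩
        show a * (c * u * c⁻¹) = c * (a * u) * c⁻¹
        calc a * (c * u * c⁻¹) = (a * c) * u * c⁻¹ := by group
          _ = (c * a) * u * c⁻¹ := by rw [hca]
          _ = c * (a * u) * c⁻¹ := by group
      · rintro ⟨u, hu, hu'⟩
        have hu'' : a * u = c * n * c⁻¹ := hu'
        refine ⟨c⁻¹ * u * c⁻¹⁻¹, hD.conj_mem_H a ha c⁻¹ hcinv u hu, ?_⟩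
        show a * (c⁻¹ * u * c⁻¹⁻¹) = n
        calc a * (c⁻¹ * u * c⁻¹⁻¹) = (a * c⁻¹) * u * c := by group
          _ = (c⁻¹ * a) * u * c := by rw [hca']
          _ = c⁻¹ * (a * u) * c := by group
          _ = c⁻¹ * (c * n * c⁻¹) * c := by rw [hu'']
          _ = n := by group

end Cfsg.Agent.S1499
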