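import Cfsg.Statements.S0075
import Cfsg.Agent.Lib.Helper2_PResidual
import Mathlib.GroupTheory.Focal

set_option autoImplicit false
open Cfsg

namespace Cfsg.Agent.S0075

open scoped commutatorElement
open Subgroup Cfsg.Agent.Lib.Helper2_PResidual

/-- For an abelian Sylow `p`-subgroup `T`, `T ∩ G' = [T, N_G(T)]`. -/
theorem inf_commutator_eq {G : Type*} [Group G] [Finite G] {p : ℕ} [Fact p.Prime] (T : Sylow p G)
    (hT : IsMulCommutative T) :
    (T : Subgroup G) ⊓ commutator G = ⁅(T : Subgroup G), Subgroup.normalizer (T : Set G)⁆ := by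
  have hle : ⁅(T : Subgroup G), normalizer (T : Set G)⁆ ≤ (T : Subgroup G) := by
    rw [commutator_le]
    intro a ha n hn
    rw [commutatorElement_def]
    have h1 : n * a⁻¹ * n⁻¹ ∈ (T : Subgroup G) :=
      (mem_normalizer_iff.mp hn a⁻¹).mp (inv_mem ha)
    have := mul_mem ha h1
    simpa [mul_assoc] using this
  apply le_antisymm
  · rw [inf_comm, commutator_inf_eq_focalSubgroup T, focalSubgroup_def, closure_le]
    rintro g ⟨hgP, x, hxP, u, rfl⟩
    have hconj : u⁻¹⁻¹ * x⁻¹ * u⁻¹ ∈ (T : Subgroup G) := by
      have := mul_mem (inv_mem hxP) hgP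
      simpa [commutatorElement_def, mul_assoc] using this
    obtain ⟨n, hn, hnx⟩ := T.conj_eq_normalizer_conj_of_mem x⁻¹ u⁻¹ (inv_mem hxP) hconj
    have : ⁅x, u⁆ = ⁅x, n⁻¹⁆ := by
      rw [commutatorElement_def, commutatorElement_def, mul_assoc, mul_assoc, mul_assoc, mul_assoc]
      congr 1
      rw [inv_inv] at hnx
      rw [inv_inv, ← mul_assoc, ← mul_assoc, hnx]
    rw [this]
    exact commutator_mem_commutator hxP (inv_mem hn)
  · refine le_inf hle ?_
    rw [_root_.commutator_def]
    exact commutator_mono le_top le_top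

/-- For an abelian Sylow p-subgroup T, its intersection with the subgroup generated by the elements of order prime to p is the commutator of T with its normalizer. -/
theorem result {G : Type*} [Group G] [Finite G] {p : ℕ} [Fact p.Prime] (T : Sylow p G) (hT : IsMulCommutative T) : (T : Subgroup G) ⊓ Cfsg.pResidual p G = ⁅(T : Subgroup G), Subgroup.normalizer (T : Set G)⁆ := by
  rw [inf_pResidual_eq_inf_commutator T, inf_commutator_eq T hT]

end Cfsg.Agent.S0075
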