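import Mathlib
import Cfsg.Statements.S0111

set_option autoImplicit false
open Cfsg

namespace Cfsg.Agent.S0111

/-- A fixed-point-free involutive permutation of a finite set with `2 * m` elements has sign `(-1) ^ m`. -/
theorem sign_of_fixedPointFree_involution {α : Type*} [Fintype α] [DecidableEq α] (σ : Equiv.Perm α)
    (h2 : σ ^ 2 = 1) (hfix : ∀ a, σ a ≠ a) (m : ℕ) (hcard : Fintype.card α = 2 * m) :
    Equiv.Perm.sign σ = (-1) ^ m := by
  have hsupp : σ.support = Finset.univ := by
    ext a; simp [hfix a]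
  have hall : ∀ n ∈ σ.cycleType, n = 2 := by
    intro n hn
    have h1 : n ∣ 2 := (Equiv.Perm.dvd_of_mem_cycleType hn).trans (orderOf_dvd_of_pow_eq_one h2)
    have h3 := Equiv.Perm.two_le_of_mem_cycleType hn
    exact Nat.le_antisymm (Nat.le_of_dvd (by norm_num) h1) h3
  have hrep := Multiset.eq_replicate_card.2 hall
  have hsum : σ.cycleType.sum = 2 * m := by
    rw [Equiv.Perm.sum_cycleType, hsupp, Finset.card_univ, hcard]
  have hcardm : Multiset.card σ.cycleType = m := by
    rw [hrep, Multiset.sum_replicate, smul_eq_mul, mul_comm] at hsum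
    exact Nat.eq_of_mul_eq_mul_left (by norm_num) hsum
  rw [Equiv.Perm.sign_of_cycleType, hsum, hcardm, pow_add, pow_mul]
  simp

theorem result {G : Type*} [Group G] [Finite G] (P : Sylow 2 G) (Q : Subgroup G) (hQP : Q ≤ (P : Subgroup G)) (hQi : Q.relIndex (P : Subgroup G) = 2) (u : G) (hu : orderOf u = 2) (huP : u ∈ (P : Subgroup G)) (huQ : u ∉ Q) : (∃ M : Subgroup G, M.Normal ∧ M.index = 2 ∧ u ∉ M) ∨ ∃ g : G, g * u * g⁻¹ ∈ Q := by
  classical
  by_cases h : ∃ g : G, g * u * g⁻¹ ∈ Q
  · exact Or.inr h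
  left
  simp only [not_exists] at h
  have : Fact (Nat.Prime 2) := ⟨Nat.prime_two⟩
  have : Fintype (G ⧸ Q) := Fintype.ofFinite _
  have hu2 : u ^ 2 = 1 := by rw [← hu, pow_orderOf_eq_one]
  have huinv : u⁻¹ = u := by
    rw [inv_eq_iff_mul_eq_one, ← pow_two, hu2]
  set π : G →* Equiv.Perm (G ⧸ Q) := MulAction.toPermHom G (G ⧸ Q) with hπ
  have hσ2 : (π u) ^ 2 = 1 := by rw [← map_pow, hu2, map_one]
  have hfix : ∀ a : G ⧸ Q, (π u) a ≠ a := by
    intro a
    induction a using QuotientGroup.induction_on with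
    | H g =>
      intro hga
      have h1 : (u • (g : G ⧸ Q)) = (g : G ⧸ Q) := hga
      rw [MulAction.Quotient.smul_coe, QuotientGroup.eq] at h1
      apply h g⁻¹
      have : (u • g)⁻¹ * g = g⁻¹ * u * g⁻¹⁻¹ := by
        rw [smul_eq_mul, mul_inv_rev, huinv, inv_inv]
      rw [← this]; exact h1
  have hidx : Q.index = 2 * (P : Subgroup G).index := by
    rw [← Subgroup.relIndex_mul_index hQP, hQi]
  have hcard : Fintype.card (G ⧸ Q) = 2 * (P : Subgroup G).index := by
    rw [← hidx, Subgroup.index, Nat.card_eq_fintype_card]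
  have hodd : Odd (P : Subgroup G).index := by
    rw [← Nat.not_even_iff_odd, even_iff_two_dvd]
    exact P.not_dvd_index
  have hsign : Equiv.Perm.sign (π u) = -1 := by
    rw [sign_of_fixedPointFree_involution (π u) hσ2 hfix _ hcard]
    exact hodd.neg_one_pow
  set f : G →* ℤˣ := Equiv.Perm.sign.comp π with hf
  refine ⟨f.ker, MonoidHom.normal_ker f, ?_, ?_⟩
  · rw [Subgroup.index_ker]
    have htop : f.range = ⊤ := by
      rw [eq_top_iff]
      intro x _
      rcases Int.units_eq_one_or x with rfl | rfl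
      · exact one_mem _
      · exact ⟨u, hsign⟩
    rw [htop, Nat.card_congr Subgroup.topEquiv.toEquiv, Nat.card_eq_fintype_card, Fintype.card_units_int]
  · rw [MonoidHom.mem_ker]
    change Equiv.Perm.sign (π u) ≠ 1
    rw [hsign]
    decide

end Cfsg.Agent.S0111
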