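import Cfsg.Statements.S1275
import Cfsg.Agent.Lib.Helper22_PComponent

set_option autoImplicit false
open Cfsg

namespace Cfsg.Agent.S1275

open Cfsg.Agent.Lib.Helper22_PComponent Cfsg.Agent.Lib.Helper22_Cores Cfsg.Agent.Lib.Helper29_Local

/-- for a subnormal subgroup `K` of a finite group, `O_{p'}(K) = O_{p'}(X) ∩ K` as subgroups of `K` -/
theorem pPrimeCore_subtype_eq {X : Type*} [Group X] [Finite X] (p : ℕ) (K : Subgroup X) (hK : K.IsSubnormal) :
    Cfsg.pPrimeCore p ↥K = (Cfsg.pPrimeCore p X).subgroupOf K := by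
  apply Subgroup.map_injective K.subtype_injective
  rw [map_pPrimeCore_of_isSubnormal p hK, Subgroup.subgroupOf_map_subtype, inf_comm]

/-- the quotient of a subnormal subgroup by its `p'`-core is isomorphic to its image modulo `O_{p'}(X)` -/
noncomputable def quotientCoreEquiv {X : Type*} [Group X] [Finite X] (p : ℕ) (K : Subgroup X) (hK : K.IsSubnormal) :
    (↥K ⧸ Cfsg.pPrimeCore p ↥K) ≃* ↥(K.map (QuotientGroup.mk' (Cfsg.pPrimeCore p X))) :=
  (QuotientGroup.quotientMulEquivOfEq (by
    rw [pPrimeCore_subtype_eq p K hK, Subgroup.ker_subgroupMap, QuotientGroup.ker_mk'])).trans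
  (QuotientGroup.quotientKerEquivOfSurjective ((QuotientGroup.mk' (Cfsg.pPrimeCore p X)).subgroupMap K)
    (MonoidHom.subgroupMap_surjective _ K))

/-- For a 2-component K of a finite group X, the quotient of K by its core O(K) is quasisimple. -/
theorem result {X : Type*} [Group X] [Finite X] (K : Subgroup X) (hK : Cfsg.IsPComponent 2 K) : Cfsg.IsQuasisimple (↥K ⧸ Cfsg.oddCore ↥K) :=
  isQuasisimple_of_mulEquiv (quotientCoreEquiv 2 K hK.1).symm hK.2.1.2

end Cfsg.Agent.S1275
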