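import Cfsg.Statements.S1276
import Cfsg.Agent.S1275

set_option autoImplicit false
open Cfsg

namespace Cfsg.Agent.S1276

open Cfsg.Agent.Lib.Helper22_PComponent Cfsg.Agent.Lib.Helper22_Cores Cfsg.Agent.Lib.Helper29_Local
open Cfsg.Agent.Lib.Helper21_Components
open scoped commutatorElement

/-- A perfect group which is a central extension of a quasisimple group is quasisimple. -/
theorem isQuasisimple_of_central_quotient {H : Type*} [Group H] (hperf : Group.IsPerfect H)
    (O : Subgroup H) [O.Normal] (hO : O ≤ Subgroup.center H) (hQ : Cfsg.IsQuasisimple (H ⧸ O)) :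
    Cfsg.IsQuasisimple H := by
  refine ⟨hperf, ?_⟩
  -- the preimage of the centre of the quotient is the centre
  have hZ : (Subgroup.center (H ⧸ O)).comap (QuotientGroup.mk' O) = Subgroup.center H := by
    apply le_antisymm
    · intro x hx
      rw [Subgroup.mem_comap] at hx
      have h2 : x ∈ Subgroup.upperCentralSeries H 2 := by
        rw [Subgroup.mem_upperCentralSeries_succ_iff]
        intro y
        rw [Subgroup.upperCentralSeries_one]
        apply hO
        rw [← QuotientGroup.eq_one_iff, ← QuotientGroup.mk'_apply, map_commutatorElement,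
          commutatorElement_eq_one_iff_commute]
        exact (Subgroup.mem_center_iff.mp hx _).symm
      rwa [Group.IsPerfect.upperCentralSeries_eq_center H (by norm_num)] at h2
    · intro x hx
      rw [Subgroup.mem_comap, Subgroup.mem_center_iff]
      intro y
      obtain ⟨y, rfl⟩ := QuotientGroup.mk'_surjective O y
      rw [← map_mul, ← map_mul, Subgroup.mem_center_iff.mp hx y]
  let ψ : H →* (H ⧸ O) ⧸ Subgroup.center (H ⧸ O) :=
    (QuotientGroup.mk' (Subgroup.center (H ⧸ O))).comp (QuotientGroup.mk' O)
  have hψ : Function.Surjective ψ :=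
    (QuotientGroup.mk'_surjective _).comp (QuotientGroup.mk'_surjective _)
  have hker : ψ.ker = Subgroup.center H := by
    rw [← hZ]
    ext x
    simp only [ψ, MonoidHom.mem_ker, MonoidHom.coe_comp, Function.comp_apply, Subgroup.mem_comap]
    rw [QuotientGroup.mk'_apply (Subgroup.center (H ⧸ O)), QuotientGroup.eq_one_iff]
  let e : H ⧸ Subgroup.center H ≃* (H ⧸ O) ⧸ Subgroup.center (H ⧸ O) :=
    (QuotientGroup.quotientMulEquivOfEq hker.symm).trans (QuotientGroup.quotientKerEquivOfSurjective ψ hψ)
  have := hQ.2
  exact e.isSimpleGroup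

/-- Let K be a 2-component of the finite group X. Then K is quasisimple if and only if ⁅K, O(K)⁆ = 1. -/
theorem result {X : Type*} [Group X] [Finite X] (K : Subgroup X) (hK : Cfsg.IsPComponent 2 K) : Cfsg.IsQuasisimple ↥K ↔ ⁅K, ((Cfsg.oddCore ↥K).map K.subtype)⁆ = ⊥ := by
  have hcent : ⁅K, ((Cfsg.oddCore ↥K).map K.subtype)⁆ = ⊥ ↔ Cfsg.oddCore ↥K ≤ Subgroup.center ↥K := by
    rw [Subgroup.commutator_eq_bot_iff_le_centralizer]
    constructor
    · intro h o ho
      rw [Subgroup.mem_center_iff]
      intro k
      have h1 := h k.2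
      rw [Subgroup.mem_centralizer_iff] at h1
      have := h1 (o : X) ⟨o, ho, rfl⟩
      apply Subtype.ext
      simpa using this.symm
    · intro h k hk
      rw [Subgroup.mem_centralizer_iff]
      rintro _ ⟨o, ho, rfl⟩
      have := Subgroup.mem_center_iff.mp (h ho) ⟨k, hk⟩
      have := congrArg Subtype.val this
      simpa using this.symm
  rw [hcent]
  constructor
  · intro hq
    rcases IsQuasisimple.normal_eq_top_or_le_center hq (Cfsg.oddCore ↥K) with h | h
    · exfalso
      have hcop : (Nat.card (Cfsg.pPrimeCore 2 ↥K)).Coprime 2 := pPrimeCore_coprime 2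
      have h' : Cfsg.pPrimeCore 2 ↥K = ⊤ := h
      rw [h', Subgroup.card_top] at hcop
      have hdvd : 2 ∣ Nat.card ↥K := IsPComponent.dvd_card 2 hK
      have := Nat.Coprime.eq_one_of_dvd hcop.symm hdvd
      omega
    · exact h
  · intro h
    have hperf : Group.IsPerfect ↥K := Subgroup.isPerfect_iff.mpr (IsPComponent.perfect 2 hK)
    exact isQuasisimple_of_central_quotient hperf (Cfsg.oddCore ↥K) h (Cfsg.Agent.S1275.result K hK)

end Cfsg.Agent.S1276
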