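import Cfsg.Statements.S1278
import Cfsg.Agent.Lib.Helper23_PComp
import Cfsg.Agent.S1276

set_option autoImplicit false
open Cfsg

namespace Cfsg.Agent.S1278

open Cfsg.Agent.Lib.Helper23_PComp Cfsg.Agent.Lib.Helper21_Components Cfsg.Agent.Lib.Helper22_Cores
open scoped commutatorElement

/-- if `L` normalizes `K` then `[K, L] ≤ K` -/
theorem commutator_le_of_le_normalizer {G : Type*} [Group G] {K L : Subgroup G}
    (h : L ≤ Subgroup.normalizer (K : Set G)) : ⁅K, L⁆ ≤ K := by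
  rw [Subgroup.commutator_le]
  intro k hk l hl
  have : l * k⁻¹ * l⁻¹ ∈ K := (Subgroup.mem_normalizer_iff.mp (h hl) k⁻¹).mp (K.inv_mem hk)
  have e : ⁅k, l⁆ = k * (l * k⁻¹ * l⁻¹) := by rw [commutatorElement_def]; group
  rw [e]
  exact K.mul_mem hk this

/-- distinct `p`-components commute modulo cores -/
theorem commutator_le_cores {X : Type*} [Group X] [Finite X] (p : ℕ) [Fact p.Prime] (K L : Subgroup X)
    (hK : Cfsg.IsPComponent p K) (hL : Cfsg.IsPComponent p L) (hne : K ≠ L) :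
    ⁅K, L⁆ ≤ (Cfsg.pPrimeCore p ↥K).map K.subtype := by
  rw [map_pPrimeCore_of_isSubnormal p hK.1]
  apply le_inf
  · exact commutator_le_of_le_normalizer (pcomp_le_normalizer p hL hK)
  · have hne' : K.map (QuotientGroup.mk' (Cfsg.pPrimeCore p X)) ≠ L.map (QuotientGroup.mk' (Cfsg.pPrimeCore p X)) :=
      fun h => hne (pcomp_unique p hK hL h)
    have := IsComponent.commutator_eq_bot_of_ne hK.2.1 hL.2.1 hne'
    rw [← Subgroup.map_commutator, Subgroup.map_eq_bot_iff, QuotientGroup.ker_mk'] at this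
    exact this

/-- Let K ≠ L be 2-components of the finite group X. Then ⁅K, L⁆ ≤ O(K) ⊓ O(L), and if K is quasisimple then ⁅K, L⁆ = 1. -/
theorem result {X : Type*} [Group X] [Finite X] (K L : Subgroup X) (hK : Cfsg.IsPComponent 2 K) (hL : Cfsg.IsPComponent 2 L) (hne : K ≠ L) : ⁅K, L⁆ ≤ ((Cfsg.oddCore ↥K).map K.subtype) ⊓ ((Cfsg.oddCore ↥L).map L.subtype) ∧ (Cfsg.IsQuasisimple ↥K → ⁅K, L⁆ = ⊥) := by
  have h1 : ⁅K, L⁆ ≤ (Cfsg.oddCore ↥K).map K.subtype := commutator_le_cores 2 K L hK hL hne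
  have h2 : ⁅K, L⁆ ≤ (Cfsg.oddCore ↥L).map L.subtype := by
    rw [Subgroup.commutator_comm]
    exact commutator_le_cores 2 L K hL hK (Ne.symm hne)
  refine ⟨le_inf h1 h2, ?_⟩
  intro hq
  have hc : ⁅K, ((Cfsg.oddCore ↥K).map K.subtype)⁆ = ⊥ := (Cfsg.Agent.S1276.result K hK).mp hq
  apply commutator_eq_bot_of_perfect (Cfsg.Agent.Lib.Helper22_PComponent.IsPComponent.perfect 2 hK)
  rw [eq_bot_iff, ← hc, Subgroup.commutator_comm K]
  apply Subgroup.commutator_mono _ le_rfl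
  rw [Subgroup.commutator_comm]
  exact h1

end Cfsg.Agent.S1278
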