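import Cfsg.Statements.S0394
import Cfsg.Agent.Lib.Helper7_Leech
import Cfsg.Agent.Lib.Helper7_Code
import Cfsg.Agent.Lib.Helper8_GolayEven
import Cfsg.Agent.Lib.Helper26_GolaySets
import Cfsg.Agent.Lib.Helper27_GolayLike
import Cfsg.Agent.Lib.Helper92_LeechParity
import Cfsg.Prelude.Def_Spor_Conway

set_option autoImplicit false
set_option linter.constructorNameAsVariable false
open Cfsg

namespace Cfsg.Agent.S0394

open Cfsg.Agent.Lib.Helper7_M24 Cfsg.Agent.Lib.Helper7_Leech Cfsg.Agent.Lib.Helper92_LeechParity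

/-! ### signed multiples of indicator vectors -/

/-- The vector with entries `a` on `P \ N`, `-a` on `N ∩ P` and `0` outside `P`. -/
def sgn (a : ℤ) (P N : Finset GolayPt) : GolayPt → ℤ :=
  fun j => if j ∈ P then (if j ∈ N then -a else a) else 0

theorem sgn_of_notMem {a : ℤ} {P N : Finset GolayPt} {j : GolayPt} (h : j ∉ P) :
    sgn a P N j = 0 := by
  unfold sgn; rw [if_neg h]

theorem sgn_of_mem_neg {a : ℤ} {P N : Finset GolayPt} {j : GolayPt} (h : j ∈ P) (h' : j ∈ N) :
    sgn a P N j = -a := by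
  unfold sgn; rw [if_pos h, if_pos h']

theorem sgn_of_mem_pos {a : ℤ} {P N : Finset GolayPt} {j : GolayPt} (h : j ∈ P) (h' : j ∉ N) :
    sgn a P N j = a := by
  unfold sgn; rw [if_pos h, if_neg h']

theorem sgn_sq (a : ℤ) (P N : Finset GolayPt) (j : GolayPt) :
    sgn a P N j ^ 2 = if j ∈ P then a ^ 2 else 0 := by
  by_cases h : j ∈ P
  · rw [if_pos h]
    by_cases h' : j ∈ N
    · rw [sgn_of_mem_neg h h']; ring
    · rw [sgn_of_mem_pos h h']
  · rw [if_neg h, sgn_of_notMem h]; ring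

theorem sqNorm_sgn (a : ℤ) (P N : Finset GolayPt) : sqNorm (sgn a P N) = a ^ 2 * P.card := by
  unfold sqNorm
  rw [Finset.sum_congr rfl (fun j _ => sgn_sq a P N j), Finset.sum_ite_mem, Finset.univ_inter,
    Finset.sum_const, nsmul_eq_mul, mul_comm]

theorem sum_sgn (a : ℤ) (P N : Finset GolayPt) (hN : N ⊆ P) :
    ∑ j, sgn a P N j = a * (P.card - 2 * N.card) := by
  have h1 : ∀ j, sgn a P N j = (if j ∈ P then a else 0) - (if j ∈ N then 2 * a else 0) := by
    intro j
    by_cases h : j ∈ P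
    · by_cases h' : j ∈ N
      · rw [sgn_of_mem_neg h h', if_pos h, if_pos h']; ring
      · rw [sgn_of_mem_pos h h', if_pos h, if_neg h']; ring
    · have h' : j ∉ N := fun h' => h (hN h')
      rw [sgn_of_notMem h, if_neg h, if_neg h']; ring
  rw [Finset.sum_congr rfl (fun j _ => h1 j), Finset.sum_sub_distrib, Finset.sum_ite_mem,
    Finset.sum_ite_mem, Finset.univ_inter, Finset.univ_inter, Finset.sum_const, Finset.sum_const,
    nsmul_eq_mul, nsmul_eq_mul]
  ring

theorem sgn_inj (a : ℤ) (ha : a ≠ 0) (P N P' N' : Finset GolayPt) (hN : N ⊆ P) (hN' : N' ⊆ P')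
    (h : sgn a P N = sgn a P' N') : P = P' ∧ N = N' := by
  have hP : ∀ j, j ∈ P ↔ j ∈ P' := by
    intro j
    have hj := congrFun h j
    constructor
    · intro hjP
      by_contra hjP'
      rw [sgn_of_notMem hjP'] at hj
      by_cases h' : j ∈ N
      · rw [sgn_of_mem_neg hjP h'] at hj; omega
      · rw [sgn_of_mem_pos hjP h'] at hj; omega
    · intro hjP'
      by_contra hjP
      rw [sgn_of_notMem hjP] at hj
      by_cases h' : j ∈ N'
      · rw [sgn_of_mem_neg hjP' h'] at hj; omega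
      · rw [sgn_of_mem_pos hjP' h'] at hj; omega
  have hPP : P = P' := Finset.ext hP
  refine ⟨hPP, ?_⟩
  ext j
  have hj := congrFun h j
  constructor
  · intro hjN
    have hjP : j ∈ P := hN hjN
    have hjP' : j ∈ P' := (hP j).mp hjP
    by_contra hjN'
    rw [sgn_of_mem_neg hjP hjN, sgn_of_mem_pos hjP' hjN'] at hj
    omega
  · intro hjN'
    have hjP' : j ∈ P' := hN' hjN'
    have hjP : j ∈ P := (hP j).mpr hjP'
    by_contra hjN
    rw [sgn_of_mem_pos hjP hjN, sgn_of_mem_neg hjP' hjN'] at hj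
    omega

/-! ### counting sign patterns -/

/-- Half of the subsets of a nonempty finite set have even size. -/
theorem card_even_subsets (P : Finset GolayPt) (hP : P.Nonempty) :
    2 * (P.powerset.filter (fun N => Even N.card)).card = 2 ^ P.card := by
  have h0 := Finset.sum_powerset_neg_one_pow_card_of_nonempty hP
  have h1 : ∑ N ∈ P.powerset, ((-1 : ℤ) ^ N.card) =
      ((P.powerset.filter (fun N => Even N.card)).card : ℤ) -
        ((P.powerset.filter (fun N => ¬ Even N.card)).card : ℤ) := by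
    rw [← Finset.sum_filter_add_sum_filter_not P.powerset (fun N => Even N.card)]
    have e1 : ∑ N ∈ P.powerset.filter (fun N => Even N.card), ((-1 : ℤ) ^ N.card) =
        ((P.powerset.filter (fun N => Even N.card)).card : ℤ) := by
      rw [Finset.sum_congr rfl (fun N hN => Even.neg_one_pow (Finset.mem_filter.mp hN).2)]
      simp
    have e2 : ∑ N ∈ P.powerset.filter (fun N => ¬ Even N.card), ((-1 : ℤ) ^ N.card) =
        -((P.powerset.filter (fun N => ¬ Even N.card)).card : ℤ) := by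
      rw [Finset.sum_congr rfl (fun N hN =>
        Odd.neg_one_pow (Nat.not_even_iff_odd.mp (Finset.mem_filter.mp hN).2))]
      simp
    rw [e1, e2]; ring
  have h2 := Finset.card_filter_add_card_filter_not (s := P.powerset)
    (fun N => Even N.card)
  rw [Finset.card_powerset] at h2
  rw [h1] at h0
  omega

/-! ### the vectors with two entries `±4` and those with eight entries `±2` -/

theorem sgn_cases (a : ℤ) (P N : Finset GolayPt) (j : GolayPt) :
    (j ∉ P ∧ sgn a P N j = 0) ∨ (j ∈ P ∧ (sgn a P N j = a ∨ sgn a P N j = -a)) := by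
  by_cases h : j ∈ P
  · right
    refine ⟨h, ?_⟩
    by_cases h' : j ∈ N
    · right; exact sgn_of_mem_neg h h'
    · left; exact sgn_of_mem_pos h h'
  · left; exact ⟨h, sgn_of_notMem h⟩

theorem indWord_mem_of_supports {P : Finset GolayPt}
    (hP : P ∈ supports (golayCode : Set (GolayPt → ZMod 2))) :
    indWord (fun i => i ∈ P) ∈ golayCode := by
  rw [← filter_mem_supports_iff]
  have : Finset.univ.filter (fun i => i ∈ P) = P := by
    ext i; simp
  rw [this]; exact hP

theorem sgn_four_mem (P N : Finset GolayPt) (hP : P.card = 2) (hN : N ⊆ P) :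
    sgn 4 P N ∈ leechSet := by
  apply mem_of_even
  · intro i
    rcases sgn_cases 4 P N i with ⟨_, h⟩ | ⟨_, h | h⟩ <;> rw [h] <;> decide
  · have : indWord (fun i => sgn 4 P N i ≡ 2 [ZMOD 4]) = 0 := by
      funext i
      unfold indWord
      beta_reduce
      rw [if_neg]; rfl
      rcases sgn_cases 4 P N i with ⟨_, h⟩ | ⟨_, h | h⟩ <;> rw [h] <;> decide
    rw [this]; exact golayCode.zero_mem
  · rw [sum_sgn 4 P N hN, hP]
    exact ⟨1 - N.card, by push_cast; ring⟩

theorem sgn_two_mem (P N : Finset GolayPt) (hP : P ∈ octads) (hN : N ⊆ P) (hE : Even N.card) :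
    sgn 2 P N ∈ leechSet := by
  apply mem_of_even
  · intro i
    rcases sgn_cases 2 P N i with ⟨_, h⟩ | ⟨_, h | h⟩ <;> rw [h] <;> decide
  · have : indWord (fun i => sgn 2 P N i ≡ 2 [ZMOD 4]) = indWord (fun i => i ∈ P) := by
      funext i
      unfold indWord
      beta_reduce
      rcases sgn_cases 2 P N i with ⟨h0, h⟩ | ⟨h0, h | h⟩
      · rw [if_neg h0, if_neg]; rw [h]; decide
      · rw [if_pos h0, if_pos]; rw [h]
      · rw [if_pos h0, if_pos]; rw [h]; decide
    rw [this]; exact indWord_mem_of_supports hP.1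
  · rw [sum_sgn 2 P N hN, hP.2]
    obtain ⟨q, hq⟩ := hE
    exact ⟨2 - q, by rw [hq]; push_cast; ring⟩

/-! ### the odd vectors: one entry `∓3`, the others `±1` -/

/-- The vector with entry `1` where `u` is `1` and `-1` elsewhere, changed by `∓4` at `i`. -/
def fO (i : GolayPt) (u : GolayPt → ZMod 2) : GolayPt → ℤ :=
  fun j => (if u j = 1 then 1 else -1) + (if j = i then (if u i = 1 then -4 else 4) else 0)

theorem zmod2_cases (a : ZMod 2) : a = 0 ∨ a = 1 := by
  revert a; decide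

theorem fO_cases (i : GolayPt) (u : GolayPt → ZMod 2) (j : GolayPt) :
    (j ≠ i ∧ u j = 1 ∧ fO i u j = 1) ∨ (j ≠ i ∧ u j = 0 ∧ fO i u j = -1) ∨
    (j = i ∧ u j = 1 ∧ fO i u j = -3) ∨ (j = i ∧ u j = 0 ∧ fO i u j = 3) := by
  have h01 : ¬ ((0 : ZMod 2) = 1) := by decide
  by_cases hj : j = i
  · subst hj
    rcases zmod2_cases (u j) with h | h
    · right; right; right
      refine ⟨rfl, h, ?_⟩
      unfold fO
      rw [if_pos rfl, h, if_neg h01]; rfl
    · right; right; left
      refine ⟨rfl, h, ?_⟩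
      unfold fO
      rw [if_pos rfl, if_pos h, if_pos h]; rfl
  · rcases zmod2_cases (u j) with h | h
    · right; left
      refine ⟨hj, h, ?_⟩
      unfold fO
      rw [if_neg hj, h, if_neg h01]; rfl
    · left
      refine ⟨hj, h, ?_⟩
      unfold fO
      rw [if_neg hj, if_pos h]; rfl

theorem fO_sq (i : GolayPt) (u : GolayPt → ZMod 2) (j : GolayPt) :
    fO i u j ^ 2 = 1 + (if j = i then 8 else 0) := by
  rcases fO_cases i u j with ⟨h, _, e⟩ | ⟨h, _, e⟩ | ⟨h, _, e⟩ | ⟨h, _, e⟩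
  · rw [e, if_neg h]; rfl
  · rw [e, if_neg h]; rfl
  · rw [e, if_pos h]; rfl
  · rw [e, if_pos h]; rfl

theorem card_golayPt : Fintype.card GolayPt = 24 := by
  rfl

theorem sqNorm_fO (i : GolayPt) (u : GolayPt → ZMod 2) : sqNorm (fO i u) = 32 := by
  unfold sqNorm
  rw [Finset.sum_congr rfl (fun j _ => fO_sq i u j), Finset.sum_add_distrib,
    Finset.sum_ite_eq' Finset.univ i, if_pos (Finset.mem_univ i), Finset.sum_const,
    Finset.card_univ, card_golayPt]
  rfl

theorem fO_class (i : GolayPt) (u : GolayPt → ZMod 2) :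
    indWord (fun j => fO i u j ≡ 1 [ZMOD 4]) = u := by
  funext j
  unfold indWord
  beta_reduce
  rcases fO_cases i u j with ⟨_, h, e⟩ | ⟨_, h, e⟩ | ⟨_, h, e⟩ | ⟨_, h, e⟩
  · rw [e, h, if_pos]; decide
  · rw [e, h, if_neg]; decide
  · rw [e, h, if_pos]; decide
  · rw [e, h, if_neg]; decide

theorem fO_odd (i : GolayPt) (u : GolayPt → ZMod 2) (j : GolayPt) : ¬ 2 ∣ fO i u j := by
  rcases fO_cases i u j with ⟨_, _, e⟩ | ⟨_, _, e⟩ | ⟨_, _, e⟩ | ⟨_, _, e⟩ <;> rw [e] <;> decide

theorem fO_sum (i : GolayPt) (u : GolayPt → ZMod 2) :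
    ∑ j, fO i u j = 2 * (support₂ u).card - 24 + (if u i = 1 then -4 else 4) := by
  have h1 : ∀ j, fO i u j = (if j ∈ support₂ u then 2 else 0) - 1 +
      (if j = i then (if u i = 1 then -4 else 4) else 0) := by
    intro j
    unfold fO
    by_cases h : u j = 1
    · rw [if_pos h, if_pos ((mem_support₂ u j).mpr h)]; rfl
    · rw [if_neg h, if_neg (fun h' => h ((mem_support₂ u j).mp h'))]; rfl
  rw [Finset.sum_congr rfl (fun j _ => h1 j), Finset.sum_add_distrib, Finset.sum_sub_distrib,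
    Finset.sum_ite_mem, Finset.univ_inter, Finset.sum_ite_eq' Finset.univ i,
    if_pos (Finset.mem_univ i), Finset.sum_const, Finset.sum_const, Finset.card_univ,
    card_golayPt, nsmul_eq_mul, nsmul_eq_mul]
  push_cast
  ring

theorem fO_mem (i : GolayPt) (u : GolayPt → ZMod 2) (hu : u ∈ golayCode) :
    fO i u ∈ leechSet := by
  apply mem_of_odd
  · exact fO_odd i u
  · rw [fO_class]; exact hu
  · rw [fO_sum]
    obtain ⟨q, hq⟩ := Cfsg.Agent.Lib.Helper8_GolayEven.four_dvd_card u hu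
    rw [hq]
    push_cast
    unfold Int.ModEq
    split_ifs <;> omega

theorem fO_inj (i i' : GolayPt) (u u' : GolayPt → ZMod 2) (h : fO i u = fO i' u') :
    i = i' ∧ u = u' := by
  constructor
  · have h1 := fO_sq i u i
    rw [h, fO_sq i' u' i, if_pos rfl] at h1
    by_contra hne
    rw [if_neg hne] at h1
    omega
  · rw [← fO_class i u, h, fO_class]

/-! ### classification of the vectors of sum of squares 32 -/

theorem sum_single_bound (g : GolayPt → ℤ) (c : ℤ) (hc : 0 < c) (hg : ∀ j, g j = 0 ∨ c ≤ g j)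
    (hs : ∑ j, g j = c) : ∃ i, g i = c ∧ ∀ j, j ≠ i → g j = 0 := by
  have hnn : ∀ j, 0 ≤ g j := fun j => by rcases hg j with h | h <;> omega
  obtain ⟨i, hi⟩ : ∃ i, g i ≠ 0 := by
    by_contra hcon
    have h0 : ∀ j, g j = 0 := fun j => by
      by_contra h; exact hcon ⟨j, h⟩
    rw [Finset.sum_congr rfl (fun j _ => h0 j), Finset.sum_const_zero] at hs
    omega
  have hi' : c ≤ g i := by
    rcases hg i with h | h
    · exact absurd h hi
    · exact h
  have hsplit := Finset.add_sum_erase Finset.univ g (Finset.mem_univ i)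
  have hrest : 0 ≤ ∑ j ∈ Finset.univ.erase i, g j := Finset.sum_nonneg (fun j _ => hnn j)
  have hrest0 : ∑ j ∈ Finset.univ.erase i, g j = 0 := by omega
  refine ⟨i, by omega, fun j hj => ?_⟩
  exact (Finset.sum_eq_zero_iff_of_nonneg (fun j _ => hnn j)).mp hrest0 j
    (Finset.mem_erase.mpr ⟨hj, Finset.mem_univ j⟩)

theorem odd_sq_cases (a : ℤ) (ha : ¬ 2 ∣ a) : a ^ 2 - 1 = 0 ∨ 8 ≤ a ^ 2 - 1 := by
  by_cases h1 : a = 1
  · left; rw [h1]; rfl
  · by_cases h2 : a = -1
    · left; rw [h2]; rfl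
    · right
      have h3 : 3 ≤ a ∨ a ≤ -3 := by omega
      rcases h3 with h3 | h3 <;> nlinarith

theorem indWord_eq_one_iff (P : GolayPt → Prop) [DecidablePred P] (j : GolayPt) :
    indWord P j = 1 ↔ P j := by
  unfold indWord
  by_cases h : P j
  · rw [if_pos h]; exact ⟨fun _ => h, fun _ => rfl⟩
  · rw [if_neg h]; exact ⟨fun h' => absurd h' (by decide), fun h' => absurd h' h⟩

theorem indWord_eq_zero_iff (P : GolayPt → Prop) [DecidablePred P] (j : GolayPt) :
    indWord P j = 0 ↔ ¬ P j := by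
  unfold indWord
  by_cases h : P j
  · rw [if_pos h]; exact ⟨fun h' => absurd h' (by decide), fun h' => absurd h h'⟩
  · rw [if_neg h]; exact ⟨fun _ => h, fun _ => rfl⟩

theorem odd_class (x : GolayPt → ℤ) (h2 : ∀ i, ¬ 2 ∣ x i) (hn : sqNorm x = 32) :
    ∃ i, x = fO i (indWord (fun j => x j ≡ 1 [ZMOD 4])) := by
  have hs : ∑ j, (x j ^ 2 - 1) = 8 := by
    rw [Finset.sum_sub_distrib, Finset.sum_const, Finset.card_univ, card_golayPt]
    unfold sqNorm at hn
    rw [hn]; rfl
  obtain ⟨i, hi, hrest⟩ := sum_single_bound (fun j => x j ^ 2 - 1) 8 (by decide)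
    (fun j => odd_sq_cases (x j) (h2 j)) hs
  refine ⟨i, ?_⟩
  funext j
  rcases fO_cases i (indWord (fun j => x j ≡ 1 [ZMOD 4])) j with
    ⟨h, hu, e⟩ | ⟨h, hu, e⟩ | ⟨h, hu, e⟩ | ⟨h, hu, e⟩
  · rw [e]
    rw [indWord_eq_one_iff] at hu
    have h1 : x j ^ 2 = 1 ^ 2 := by have := hrest j h; beta_reduce at this; omega
    rcases sq_eq_sq_iff_eq_or_eq_neg.mp h1 with h1 | h1
    · exact h1
    · rw [h1] at hu; exact absurd hu (by decide)
  · rw [e]
    rw [indWord_eq_zero_iff] at hu
    have h1 : x j ^ 2 = 1 ^ 2 := by have := hrest j h; beta_reduce at this; omega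
    rcases sq_eq_sq_iff_eq_or_eq_neg.mp h1 with h1 | h1
    · rw [h1] at hu; exact absurd (by decide) hu
    · exact h1
  · rw [e]
    rw [indWord_eq_one_iff] at hu
    subst h
    have h1 : x j ^ 2 = 3 ^ 2 := by omega
    rcases sq_eq_sq_iff_eq_or_eq_neg.mp h1 with h1 | h1
    · rw [h1] at hu; exact absurd hu (by decide)
    · exact h1
  · rw [e]
    rw [indWord_eq_zero_iff] at hu
    subst h
    have h1 : x j ^ 2 = 3 ^ 2 := by omega
    rcases sq_eq_sq_iff_eq_or_eq_neg.mp h1 with h1 | h1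
    · exact h1
    · rw [h1] at hu; exact absurd (by decide) hu

theorem sum_ind (P : Finset GolayPt) (c : ℤ) :
    ∑ j, (if j ∈ P then c else 0) = c * P.card := by
  rw [Finset.sum_ite_mem, Finset.univ_inter, Finset.sum_const, nsmul_eq_mul, mul_comm]

theorem lower (x : GolayPt → ℤ) (P : Finset GolayPt) (c : ℤ) (hb : ∀ j ∈ P, c ≤ x j ^ 2) :
    c * P.card ≤ sqNorm x := by
  rw [← sum_ind]
  unfold sqNorm
  apply Finset.sum_le_sum
  intro j _
  by_cases h : j ∈ P
  · rw [if_pos h]; exact hb j h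
  · rw [if_neg h]; exact sq_nonneg _

theorem tight (x : GolayPt → ℤ) (P : Finset GolayPt) (c : ℤ) (hb : ∀ j ∈ P, c ≤ x j ^ 2)
    (hs : sqNorm x = c * P.card) : (∀ j ∈ P, x j ^ 2 = c) ∧ ∀ j, j ∉ P → x j = 0 := by
  have hnn : ∀ j ∈ Finset.univ, 0 ≤ x j ^ 2 - (if j ∈ P then c else 0) := by
    intro j _
    by_cases h : j ∈ P
    · rw [if_pos h]; have := hb j h; omega
    · rw [if_neg h]; have := sq_nonneg (x j); omega
  have hsum : ∑ j, (x j ^ 2 - (if j ∈ P then c else 0)) = 0 := by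
    rw [Finset.sum_sub_distrib, sum_ind]
    unfold sqNorm at hs
    omega
  have h0 := (Finset.sum_eq_zero_iff_of_nonneg hnn).mp hsum
  constructor
  · intro j hj
    have := h0 j (Finset.mem_univ j)
    rw [if_pos hj] at this
    omega
  · intro j hj
    have := h0 j (Finset.mem_univ j)
    rw [if_neg hj] at this
    have h1 : x j ^ 2 = 0 := by omega
    exact pow_eq_zero_iff (by decide) |>.mp h1

theorem shape (x : GolayPt → ℤ) (a : ℤ) (P : Finset GolayPt) (ha : 0 < a)
    (hP : ∀ j ∈ P, x j ^ 2 = a ^ 2) (hnP : ∀ j, j ∉ P → x j = 0) :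
    x = sgn a P (P.filter (fun j => x j < 0)) := by
  funext j
  by_cases h : j ∈ P
  · rcases sq_eq_sq_iff_eq_or_eq_neg.mp (hP j h) with h1 | h1
    · rw [sgn_of_mem_pos h, h1]
      rw [Finset.mem_filter]
      rintro ⟨_, h'⟩
      omega
    · rw [sgn_of_mem_neg h, h1]
      rw [Finset.mem_filter]
      exact ⟨h, by omega⟩
  · rw [sgn_of_notMem h, hnP j h]

theorem even_class (x : GolayPt → ℤ) (h2 : ∀ i, 2 ∣ x i)
    (hC : indWord (fun i => x i ≡ 2 [ZMOD 4]) ∈ golayCode) (hs : 8 ∣ ∑ i, x i)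
    (hn : sqNorm x = 32) :
    (∃ P N, P.card = 2 ∧ N ⊆ P ∧ x = sgn 4 P N) ∨
    (∃ P N, P ∈ octads ∧ N ⊆ P ∧ Even N.card ∧ x = sgn 2 P N) := by
  have hS := (filter_mem_supports_iff (fun i => x i ≡ 2 [ZMOD 4])).mpr hC
  have hb2 : ∀ j ∈ Finset.univ.filter (fun i => x i ≡ 2 [ZMOD 4]), (4 : ℤ) ≤ x j ^ 2 := by
    intro j hj
    have hj' := (Finset.mem_filter.mp hj).2
    unfold Int.ModEq at hj'
    have h3 : 2 ≤ x j ∨ x j ≤ -2 := by omega
    rcases h3 with h3 | h3 <;> nlinarith
  have hle := lower x _ 4 hb2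
  rw [hn] at hle
  rcases Cfsg.Agent.Lib.Helper26_Golay.card_of_mem_supports hS with h | h | h | h | h
  · -- all coordinates divisible by 4
    left
    have h4 : ∀ j, 4 ∣ x j := by
      intro j
      have hj : j ∉ Finset.univ.filter (fun i => x i ≡ 2 [ZMOD 4]) := by
        rw [h]; exact Finset.notMem_empty j
      rw [Finset.mem_filter] at hj
      have hj' : ¬ x j ≡ 2 [ZMOD 4] := fun h' => hj ⟨Finset.mem_univ j, h'⟩
      have := h2 j
      unfold Int.ModEq at hj'
      omega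
    have hb4 : ∀ j ∈ Finset.univ.filter (fun i => x i ≠ 0), (16 : ℤ) ≤ x j ^ 2 := by
      intro j hj
      have hj' := (Finset.mem_filter.mp hj).2
      have := h4 j
      have h3 : 4 ≤ x j ∨ x j ≤ -4 := by omega
      rcases h3 with h3 | h3 <;> nlinarith
    have hle4 := lower x _ 16 hb4
    rw [hn] at hle4
    have hT : (Finset.univ.filter (fun i => x i ≠ 0)).card ≤ 2 := by
      have : ((Finset.univ.filter (fun i => x i ≠ 0)).card : ℤ) ≤ 2 := by omega
      exact_mod_cast this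
    have hsupp : sqNorm x = ∑ j ∈ Finset.univ.filter (fun i => x i ≠ 0), x j ^ 2 := by
      unfold sqNorm
      symm
      apply Finset.sum_subset (Finset.subset_univ _)
      intro j _ hj
      rw [Finset.mem_filter] at hj
      have : x j = 0 := by
        by_contra h'; exact hj ⟨Finset.mem_univ j, h'⟩
      rw [this]; rfl
    have hT2 : (Finset.univ.filter (fun i => x i ≠ 0)).card = 2 := by
      by_contra hne
      have hT1 : (Finset.univ.filter (fun i => x i ≠ 0)).card = 0 ∨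
          (Finset.univ.filter (fun i => x i ≠ 0)).card = 1 := by omega
      rcases hT1 with hT1 | hT1
      · rw [Finset.card_eq_zero] at hT1
        rw [hT1, Finset.sum_empty, hn] at hsupp
        omega
      · rw [Finset.card_eq_one] at hT1
        obtain ⟨i, hi⟩ := hT1
        rw [hi, Finset.sum_singleton, hn] at hsupp
        obtain ⟨y, hy⟩ := h4 i
        rw [hy] at hsupp
        have h5 : y ^ 2 = 2 := by nlinarith
        have h6 : -2 < y := by nlinarith
        have h7 : y < 2 := by nlinarith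
        interval_cases y <;> omega
    have ht := tight x _ 16 hb4 (by rw [hn, hT2]; rfl)
    exact ⟨_, _, hT2, Finset.filter_subset _ _,
      shape x 4 _ (by decide) (fun j hj => by rw [ht.1 j hj]; rfl) ht.2⟩
  · -- the coordinates congruent to 2 modulo 4 form an octad
    right
    have ht := tight x _ 4 hb2 (by rw [hn, h]; rfl)
    have hx := shape x 2 _ (by decide) (fun j hj => by rw [ht.1 j hj]; rfl) ht.2
    refine ⟨_, _, ⟨hS, h⟩, Finset.filter_subset _ _, ?_, hx⟩
    rw [hx, sum_sgn 2 _ _ (Finset.filter_subset _ _), h] at hs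
    rw [Nat.even_iff]
    push_cast at hs
    omega
  · rw [h] at hle; norm_num at hle
  · rw [h] at hle; norm_num at hle
  · rw [h, Finset.card_univ, card_golayPt] at hle; norm_num at hle

/-! ### the three families -/

def famA : Set (GolayPt → ℤ) := {x | ∃ P N, P.card = 2 ∧ N ⊆ P ∧ x = sgn 4 P N}

def famB : Set (GolayPt → ℤ) :=
  {x | ∃ P N, P ∈ octads ∧ N ⊆ P ∧ Even N.card ∧ x = sgn 2 P N}

def famO : Set (GolayPt → ℤ) := {x | ∃ i u, u ∈ golayCode ∧ x = fO i u}

theorem set_eq :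
    {x : GolayPt → ℤ | x ∈ leechLattice ∧ sqNorm x = 32} = famA ∪ famB ∪ famO := by
  ext x
  constructor
  · rintro ⟨hx, hn⟩
    rw [mem_leechLattice_iff] at hx
    rcases even_or_odd_of_mem x hx with ⟨h2, hC, hs⟩ | ⟨h2, hC, hs⟩
    · left
      rcases even_class x h2 hC hs hn with h | h
      · left; exact h
      · right; exact h
    · right
      obtain ⟨i, hi⟩ := odd_class x h2 hn
      exact ⟨i, _, hC, hi⟩
  · rintro ((⟨P, N, hP, hN, rfl⟩ | ⟨P, N, hP, hN, hE, rfl⟩) | ⟨i, u, hu, rfl⟩)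
    · refine ⟨(mem_leechLattice_iff _).mpr (sgn_four_mem P N hP hN), ?_⟩
      rw [sqNorm_sgn, hP]; rfl
    · refine ⟨(mem_leechLattice_iff _).mpr (sgn_two_mem P N hP hN hE), ?_⟩
      rw [sqNorm_sgn, hP.2]; rfl
    · exact ⟨(mem_leechLattice_iff _).mpr (fO_mem i u hu), sqNorm_fO i u⟩

/-! ### counting -/

/-- Pairs of subsets of the 24 points. -/
abbrev Par : Type := (_ : Finset GolayPt) × Finset GolayPt

def parA : Finset Par :=
  Finset.sigma (ι := Finset GolayPt) (α := fun _ => Finset GolayPt)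
    (Finset.powersetCard 2 Finset.univ) (fun P => P.powerset)

def parB : Finset Par :=
  Finset.sigma (ι := Finset GolayPt) (α := fun _ => Finset GolayPt)
    Cfsg.Agent.Lib.Helper26_Golay.octFinset
    (fun P => P.powerset.filter (fun N => Even N.card))

theorem parA_card : parA.card = 1104 := by
  unfold parA
  rw [Finset.card_sigma]
  have h : ∀ P ∈ Finset.powersetCard 2 (Finset.univ : Finset GolayPt), P.powerset.card = 4 := by
    intro P hP
    rw [Finset.card_powerset, (Finset.mem_powersetCard.mp hP).2]; rfl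
  rw [Finset.sum_congr rfl h, Finset.sum_const, Finset.card_powersetCard, Finset.card_univ,
    card_golayPt]
  rfl

theorem parB_card : parB.card = 97152 := by
  unfold parB
  rw [Finset.card_sigma]
  have h : ∀ P ∈ Cfsg.Agent.Lib.Helper26_Golay.octFinset,
      (P.powerset.filter (fun N => Even N.card)).card = 128 := by
    intro P hP
    have hP' := (Cfsg.Agent.Lib.Helper26_Golay.mem_octFinset_iff P).mp hP
    have hne : P.Nonempty := by
      rw [← Finset.card_pos, hP'.2]; decide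
    have := card_even_subsets P hne
    rw [hP'.2] at this
    omega
  rw [Finset.sum_congr rfl h, Finset.sum_const, Cfsg.Agent.Lib.Helper26_Golay.octFinset_card]
  rfl

theorem famA_eq : famA = (fun p : Par => sgn 4 p.1 p.2) '' (parA : Set Par) := by
  ext x
  constructor
  · rintro ⟨P, N, hP, hN, rfl⟩
    refine ⟨⟨P, N⟩, ?_, rfl⟩
    rw [Finset.mem_coe]
    unfold parA
    rw [Finset.mem_sigma]
    exact ⟨Finset.mem_powersetCard.mpr ⟨Finset.subset_univ _, hP⟩, Finset.mem_powerset.mpr hN⟩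
  · rintro ⟨⟨P, N⟩, hp, rfl⟩
    rw [Finset.mem_coe] at hp
    unfold parA at hp
    rw [Finset.mem_sigma] at hp
    exact ⟨P, N, (Finset.mem_powersetCard.mp hp.1).2, Finset.mem_powerset.mp hp.2, rfl⟩

theorem famB_eq : famB = (fun p : Par => sgn 2 p.1 p.2) '' (parB : Set Par) := by
  ext x
  constructor
  · rintro ⟨P, N, hP, hN, hE, rfl⟩
    refine ⟨⟨P, N⟩, ?_, rfl⟩
    rw [Finset.mem_coe]
    unfold parB
    rw [Finset.mem_sigma]
    exact ⟨(Cfsg.Agent.Lib.Helper26_Golay.mem_octFinset_iff P).mpr hP,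
      Finset.mem_filter.mpr ⟨Finset.mem_powerset.mpr hN, hE⟩⟩
  · rintro ⟨⟨P, N⟩, hp, rfl⟩
    rw [Finset.mem_coe] at hp
    unfold parB at hp
    rw [Finset.mem_sigma] at hp
    have h2 := Finset.mem_filter.mp hp.2
    exact ⟨P, N, (Cfsg.Agent.Lib.Helper26_Golay.mem_octFinset_iff P).mp hp.1,
      Finset.mem_powerset.mp h2.1, h2.2, rfl⟩

theorem famA_ncard : famA.ncard = 1104 := by
  rw [famA_eq, Set.InjOn.ncard_image, Set.ncard_coe_finset, parA_card]
  rintro ⟨P, N⟩ hp ⟨P', N'⟩ hp' h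
  rw [Finset.mem_coe] at hp hp'
  unfold parA at hp hp'
  rw [Finset.mem_sigma] at hp hp'
  obtain ⟨h1, h2⟩ := sgn_inj 4 (by decide) P N P' N' (Finset.mem_powerset.mp hp.2)
    (Finset.mem_powerset.mp hp'.2) h
  subst h1; subst h2; rfl

theorem famB_ncard : famB.ncard = 97152 := by
  rw [famB_eq, Set.InjOn.ncard_image, Set.ncard_coe_finset, parB_card]
  rintro ⟨P, N⟩ hp ⟨P', N'⟩ hp' h
  rw [Finset.mem_coe] at hp hp'
  unfold parB at hp hp'
  rw [Finset.mem_sigma] at hp hp'
  obtain ⟨h1, h2⟩ := sgn_inj 2 (by decide) P N P' N'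
    (Finset.mem_powerset.mp (Finset.mem_filter.mp hp.2).1)
    (Finset.mem_powerset.mp (Finset.mem_filter.mp hp'.2).1) h
  subst h1; subst h2; rfl

theorem famO_eq : famO = Set.range (fun p : GolayPt × ↥golayCode => fO p.1 p.2.1) := by
  ext x
  constructor
  · rintro ⟨i, u, hu, rfl⟩
    exact ⟨⟨i, ⟨u, hu⟩⟩, rfl⟩
  · rintro ⟨⟨i, ⟨u, hu⟩⟩, rfl⟩
    exact ⟨i, u, hu, rfl⟩

theorem famO_ncard : famO.ncard = 98304 := by
  rw [famO_eq, ← Set.image_univ, Set.ncard_image_of_injective, Set.ncard_univ, Nat.card_prod,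
    Cfsg.Agent.Lib.Helper27_GolayLike.card_golayCode, Nat.card_eq_fintype_card, card_golayPt]
  rintro ⟨i, ⟨u, hu⟩⟩ ⟨i', ⟨u', hu'⟩⟩ h
  obtain ⟨h1, h2⟩ := fO_inj i i' u u' h
  subst h1; subst h2; rfl

theorem famA_finite : famA.Finite := by
  rw [famA_eq]; exact (Finset.finite_toSet _).image _

theorem famB_finite : famB.Finite := by
  rw [famB_eq]; exact (Finset.finite_toSet _).image _

theorem famO_finite : famO.Finite := by
  rw [famO_eq]; exact Set.finite_range _

theorem disj_AB : Disjoint famA famB := by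
  rw [Set.disjoint_left]
  rintro x ⟨P, N, hP, hN, rfl⟩ ⟨P', N', _, _, _, h⟩
  have hne : P.Nonempty := by
    rw [← Finset.card_pos, hP]; decide
  obtain ⟨j, hj⟩ := hne
  have hj' := congrFun h j
  rcases sgn_cases 4 P N j with ⟨h0, _⟩ | ⟨_, h1 | h1⟩
  · exact h0 hj
  · rcases sgn_cases 2 P' N' j with ⟨_, h2⟩ | ⟨_, h2 | h2⟩ <;> omega
  · rcases sgn_cases 2 P' N' j with ⟨_, h2⟩ | ⟨_, h2 | h2⟩ <;> omega

theorem disj_ABO : Disjoint (famA ∪ famB) famO := by
  rw [Set.disjoint_left]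
  rintro x hx ⟨i, u, _, h⟩
  have hodd := fO_odd i u i
  rw [← h] at hodd
  apply hodd
  rcases hx with ⟨P, N, _, _, rfl⟩ | ⟨P, N, _, _, _, rfl⟩
  · rcases sgn_cases 4 P N i with ⟨_, h1⟩ | ⟨_, h1 | h1⟩ <;> rw [h1] <;> decide
  · rcases sgn_cases 2 P N i with ⟨_, h1⟩ | ⟨_, h1 | h1⟩ <;> rw [h1] <;> decide

theorem main :
    {x : GolayPt → ℤ | x ∈ leechLattice ∧ sqNorm x = 32}.ncard = 196560 := by
  rw [set_eq, Set.ncard_union_eq disj_ABO (famA_finite.union famB_finite) famO_finite,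
    Set.ncard_union_eq disj_AB famA_finite famB_finite, famA_ncard, famB_ncard, famO_ncard]

theorem result : {x : Cfsg.GolayPt → ℤ | x ∈ Cfsg.leechLattice ∧ Cfsg.sqNorm x = 32}.ncard = 196560 :=
  main

end Cfsg.Agent.S0394
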