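import Cfsg.Statements.S0366
import Cfsg.Agent.Lib.Helper7_Perm

set_option autoImplicit false
open Cfsg

namespace Cfsg.Agent.S0366

open Cfsg.Agent.Lib.Helper7_M24 Cfsg.Agent.Lib.Helper7_Bits Cfsg.Agent.Lib.Helper7_Perm

/-- Stepwise extension: from a stabilizer chain with full orbits to an element mapping the base
tuple to a given tuple. -/
theorem chain_exists {X : Type*} (G : Subgroup (Equiv.Perm X)) (k : ℕ) (a : Fin k ↪ X)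
    (h : ∀ (j : Fin k) (p : X), (∀ i, i < j → p ≠ a i) →
      ∃ g ∈ G, (∀ i, i < j → g (a i) = a i) ∧ g (a j) = p)
    (x : Fin k ↪ X) (j : ℕ) (hj : j ≤ k) :
    ∃ g ∈ G, ∀ i : Fin k, i.val < j → g (a i) = x i := by
  induction j with
  | zero => exact ⟨1, G.one_mem, fun i hi => absurd hi (Nat.not_lt_zero _)⟩
  | succ j ih =>
    obtain ⟨g, hg, hgx⟩ := ih (Nat.le_of_succ_le hj)
    have hjk : j < k := hj
    obtain ⟨u, hu, hufix, hua⟩ := h ⟨j, hjk⟩ (g⁻¹ (x ⟨j, hjk⟩)) (by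
      intro i hi heq
      have h1 : g (a i) = x i := hgx i hi
      have h2 : x ⟨j, hjk⟩ = x i := by
        rw [← h1, ← heq]; simp
      have := x.injective h2
      rw [← this] at hi
      exact lt_irrefl _ hi)
    refine ⟨g * u, G.mul_mem hg hu, fun i hi => ?_⟩
    rcases Nat.lt_succ_iff_lt_or_eq.mp hi with hi' | hi'
    · rw [Equiv.Perm.mul_apply, hufix i hi', hgx i hi']
    · have : i = ⟨j, hjk⟩ := Fin.ext hi'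
      subst this
      rw [Equiv.Perm.mul_apply, hua]; simp

/-- A subgroup of a symmetric group with a stabilizer chain of length `k` with full orbits is
`k`-transitive. -/
theorem multiply_pretransitive_of_chain {X : Type*} (G : Subgroup (Equiv.Perm X)) (k : ℕ)
    (a : Fin k ↪ X)
    (h : ∀ (j : Fin k) (p : X), (∀ i, i < j → p ≠ a i) →
      ∃ g ∈ G, (∀ i, i < j → g (a i) = a i) ∧ g (a j) = p) :
    MulAction.IsMultiplyPretransitive G X k := by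
  rw [MulAction.isMultiplyPretransitive_iff]
  intro x y
  obtain ⟨g, hg, hgx⟩ := chain_exists G k a h x k le_rfl
  obtain ⟨g', hg', hgy⟩ := chain_exists G k a h y k le_rfl
  refine ⟨⟨g' * g⁻¹, G.mul_mem hg' (G.inv_mem hg)⟩, ?_⟩
  ext i
  show (g' * g⁻¹) (x i) = y i
  rw [← hgx i i.isLt, ← hgy i i.isLt]
  simp

/-- Codes of the base points `∞, 0, 1, 2, 3`. -/
def baseCodes : List ℕ := [23, 0, 1, 2, 3]

/-- For each level `j < 5` and each code `k` of a point different from the first `j` base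
points: a pair (list of images, list of preimages) of a permutation fixing the first `j` base
points and mapping base point `j` to the point with code `k`. -/
def table : List (List (List ℕ × List ℕ)) :=
[
  [([23,22,11,15,17,9,19,13,20,5,16,2,21,7,18,3,10,4,14,6,8,12,1,0],[23,22,11,15,17,9,19,13,20,5,16,2,21,7,18,3,10,4,14,6,8,12,1,0]),
   ([23,0,12,16,18,10,20,14,21,6,17,3,22,8,19,4,11,5,15,7,9,13,2,1],[1,23,22,11,15,17,9,19,13,20,5,16,2,21,7,18,3,10,4,14,6,8,12,0]),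
   ([23,1,13,17,19,11,21,15,22,7,18,4,0,9,20,5,12,6,16,8,10,14,3,2],[12,1,23,22,11,15,17,9,19,13,20,5,16,2,21,7,18,3,10,4,14,6,8,0]),
   ([23,2,14,18,20,12,22,16,0,8,19,5,1,10,21,6,13,7,17,9,11,15,4,3],[8,12,1,23,22,11,15,17,9,19,13,20,5,16,2,21,7,18,3,10,4,14,6,0]),
   ([23,6,16,14,11,17,5,15,19,10,1,18,0,13,21,7,9,2,8,12,20,22,3,4],[12,10,17,22,23,6,1,15,18,16,9,4,19,13,3,7,2,5,11,8,20,14,21,0]),
   ([23,22,8,7,0,19,20,21,4,1,13,2,18,11,10,17,16,6,14,9,12,15,3,5],[4,9,11,22,8,23,17,3,2,19,14,13,20,10,18,21,16,15,12,5,6,7,1,0]),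
   ([23,0,9,8,1,20,21,22,5,2,14,3,19,12,11,18,17,7,15,10,13,16,4,6],[1,4,9,11,22,8,23,17,3,2,19,14,13,20,10,18,21,16,15,12,5,6,7,0]),
   ([23,1,10,9,2,21,22,0,6,3,15,4,20,13,12,19,18,8,16,11,14,17,5,7],[7,1,4,9,11,22,8,23,17,3,2,19,14,13,20,10,18,21,16,15,12,5,6,0]),
   ([23,2,11,10,3,22,0,1,7,4,16,5,21,14,13,20,19,9,17,12,15,18,6,8],[6,7,1,4,9,11,22,8,23,17,3,2,19,14,13,20,10,18,21,16,15,12,5,0]),
   ([0,1,20,13,23,6,8,12,17,22,7,11,14,2,16,4,10,19,18,5,21,3,15,9],[0,1,13,21,15,19,5,10,6,23,16,11,7,3,12,22,14,8,18,17,2,20,9,4]),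
   ([22,21,6,3,5,1,11,2,0,12,13,16,23,4,7,8,20,18,9,19,15,17,14,10],[8,5,7,3,13,4,2,14,15,18,23,6,9,10,22,20,11,21,17,19,16,1,0,12]),
   ([0,22,7,4,6,2,12,3,1,13,14,17,23,5,8,9,21,19,10,20,16,18,15,11],[0,8,5,7,3,13,4,2,14,15,18,23,6,9,10,22,20,11,21,17,19,16,1,12]),
   ([0,8,5,7,3,13,4,2,14,15,18,23,6,9,10,22,20,11,21,17,19,16,1,12],[0,22,7,4,6,2,12,3,1,13,14,17,23,5,8,9,21,19,10,20,16,18,15,11]),
   ([23,19,6,16,12,15,3,7,21,1,14,17,9,0,10,5,11,2,8,20,4,18,22,13],[13,9,17,6,20,15,2,7,18,12,14,16,4,23,10,5,3,11,21,1,19,8,22,0]),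
   ([23,20,7,17,13,16,4,8,22,2,15,18,10,1,11,6,12,3,9,21,5,19,0,14],[22,13,9,17,6,20,15,2,7,18,12,14,16,4,23,10,5,3,11,21,1,19,8,0]),
   ([23,21,8,18,14,17,5,9,0,3,16,19,11,2,12,7,13,4,10,22,6,20,1,15],[8,22,13,9,17,6,20,15,2,7,18,12,14,16,4,23,10,5,3,11,21,1,19,0]),
   ([23,21,6,11,2,5,8,15,18,22,9,1,12,14,20,0,17,19,13,3,10,7,4,16],[15,11,4,19,22,5,2,21,6,10,20,3,12,18,13,7,23,16,8,17,14,1,9,0]),
   ([23,22,7,12,3,6,9,16,19,0,10,2,13,15,21,1,18,20,14,4,11,8,5,17],[9,15,11,4,19,22,5,2,21,6,10,20,3,12,18,13,7,23,16,8,17,14,1,0]),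
   ([23,0,8,13,4,7,10,17,20,1,11,3,14,16,22,2,19,21,15,5,12,9,6,18],[1,9,15,11,4,19,22,5,2,21,6,10,20,3,12,18,13,7,23,16,8,17,14,0]),
   ([23,5,20,22,8,12,1,9,11,18,15,6,21,2,14,4,13,3,16,7,10,17,0,19],[22,6,13,17,15,1,11,19,4,7,20,8,5,16,14,10,18,21,9,23,2,12,3,0]),
   ([23,10,12,9,15,5,11,19,4,3,17,0,22,21,13,18,16,6,8,2,1,7,14,20],[11,20,19,9,8,5,17,21,18,3,1,6,2,14,22,4,16,10,15,7,23,13,12,0]),
   ([23,20,9,13,15,7,17,11,18,3,14,0,19,5,16,1,8,2,12,4,6,10,22,21],[11,15,17,9,19,13,20,5,16,2,21,7,18,3,10,4,14,6,8,12,1,23,22,0]),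
   ([23,21,10,14,16,8,18,12,19,4,15,1,20,6,17,2,9,3,13,5,7,11,0,22],[22,11,15,17,9,19,13,20,5,16,2,21,7,18,3,10,4,14,6,8,12,1,23,0]),
   ([0,1,2,3,4,5,6,7,8,9,10,11,12,13,14,15,16,17,18,19,20,21,22,23],[0,1,2,3,4,5,6,7,8,9,10,11,12,13,14,15,16,17,18,19,20,21,22,23])],
  [([0,1,2,3,4,5,6,7,8,9,10,11,12,13,14,15,16,17,18,19,20,21,22,23],[0,1,2,3,4,5,6,7,8,9,10,11,12,13,14,15,16,17,18,19,20,21,22,23]),
   ([1,15,2,10,12,0,8,21,22,6,18,11,19,16,9,3,17,20,5,13,4,14,7,23],[5,0,2,15,20,18,9,22,6,14,3,11,4,19,21,1,13,16,10,12,17,7,8,23]),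
   ([2,13,3,18,15,17,21,5,4,1,19,20,14,11,16,9,7,8,10,22,12,6,0,23],[22,9,0,2,8,7,21,16,17,15,18,13,20,1,12,4,14,5,3,10,11,6,19,23]),
   ([3,4,2,10,18,20,9,21,22,19,5,11,17,1,13,16,6,14,12,8,7,0,15,23],[21,13,2,0,1,10,16,20,19,6,3,11,18,14,17,22,15,12,4,9,5,7,8,23]),
   ([4,9,0,12,11,6,10,13,16,21,2,5,20,18,1,3,22,17,14,19,8,7,15,23],[2,14,10,15,0,11,5,21,20,1,6,4,3,7,18,22,8,17,13,19,12,9,16,23]),
   ([5,12,2,3,6,10,0,9,13,21,4,11,14,18,15,20,17,8,16,7,1,22,19,23],[6,20,2,3,10,0,4,19,17,7,5,11,1,8,12,14,18,16,13,22,15,9,21,23]),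
   ([6,2,18,3,11,4,20,10,0,17,12,14,13,16,15,5,7,1,9,8,19,21,22,23],[8,17,1,3,5,15,0,16,19,18,7,4,10,12,11,14,13,9,2,20,6,21,22,23]),
   ([7,1,20,10,22,16,19,5,14,18,15,0,12,3,6,21,2,4,13,17,11,9,8,23],[11,1,16,13,17,7,14,0,22,21,3,20,12,18,8,10,5,19,9,6,2,15,4,23]),
   ([8,5,18,13,19,11,22,4,12,10,17,20,7,1,15,9,21,6,16,2,0,14,3,23],[20,13,19,22,7,1,17,12,0,15,9,5,8,3,21,14,18,10,2,4,11,16,6,23]),
   ([9,7,10,2,14,6,8,12,19,5,15,4,13,18,17,16,22,3,0,1,11,21,20,23],[18,19,3,17,11,9,5,1,6,0,2,20,7,12,4,10,15,14,13,8,22,21,16,23]),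
   ([10,18,2,0,16,3,21,6,14,7,1,11,17,4,22,5,12,19,15,20,13,8,9,23],[3,10,2,5,13,15,7,9,21,22,0,11,16,20,8,18,4,12,1,17,19,6,14,23]),
   ([11,1,16,13,17,7,14,0,22,21,3,20,12,18,8,10,5,19,9,6,2,15,4,23],[7,1,20,10,22,16,19,5,14,18,15,0,12,3,6,21,2,4,13,17,11,9,8,23]),
   ([12,5,21,9,20,17,22,11,0,19,7,6,14,2,16,15,4,3,8,10,13,18,1,23],[8,22,13,17,16,1,11,10,18,3,19,7,0,20,12,15,14,5,21,9,4,2,6,23]),
   ([13,8,21,12,2,20,16,5,0,17,9,7,18,15,11,19,1,3,22,4,6,10,14,23],[8,16,4,17,19,7,20,11,1,10,21,14,3,0,22,13,6,9,12,15,5,2,18,23]),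
   ([14,12,16,19,20,6,13,11,18,1,8,22,0,10,9,4,21,7,17,5,3,2,15,23],[12,9,21,20,15,19,5,17,10,14,13,7,1,6,0,22,2,18,8,3,4,16,11,23]),
   ([15,22,7,4,18,2,19,20,13,14,8,9,6,3,10,12,17,21,1,0,11,16,5,23],[19,18,5,13,3,22,12,2,10,11,14,20,15,8,9,0,21,16,4,6,7,17,1,23]),
   ([16,3,15,7,13,21,11,19,14,4,17,22,9,20,8,0,5,6,2,12,10,18,1,23],[15,22,18,1,9,16,17,3,14,12,20,6,19,4,8,2,0,10,21,7,13,5,11,23]),
   ([17,7,15,21,6,0,8,13,5,1,2,22,18,11,9,16,4,14,3,20,12,10,19,23],[5,9,10,18,16,8,4,1,6,14,21,13,20,7,17,2,15,0,12,22,19,3,11,23]),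
   ([18,19,3,17,11,9,5,1,6,0,2,20,7,12,4,10,15,14,13,8,22,21,16,23],[9,7,10,2,14,6,8,12,19,5,15,4,13,18,17,16,22,3,0,1,11,21,20,23]),
   ([19,18,5,13,3,22,12,2,10,11,14,20,15,8,9,0,21,16,4,6,7,17,1,23],[15,22,7,4,18,2,19,20,13,14,8,9,6,3,10,12,17,21,1,0,11,16,5,23]),
   ([20,18,19,21,3,12,5,10,17,2,14,22,11,13,0,1,6,9,8,4,16,15,7,23],[14,15,9,4,19,6,16,22,18,17,7,12,5,13,10,21,20,8,1,2,0,3,11,23]),
   ([21,2,15,0,11,16,13,1,10,19,17,22,4,12,5,3,6,18,7,14,20,8,9,23],[3,7,1,15,12,14,16,18,21,22,8,4,13,6,19,2,5,10,17,9,20,0,11,23]),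
   ([22,13,8,21,17,7,9,2,14,3,4,16,20,12,18,19,5,0,6,11,15,10,1,23],[17,22,7,9,10,16,18,5,2,6,21,19,13,1,8,20,11,4,14,15,12,3,0,23]),
   ([],[])],
  [([],[]),
   ([0,1,2,3,4,5,6,7,8,9,10,11,12,13,14,15,16,17,18,19,20,21,22,23],[0,1,2,3,4,5,6,7,8,9,10,11,12,13,14,15,16,17,18,19,20,21,22,23]),
   ([0,2,22,5,20,12,10,3,6,1,4,8,15,11,7,16,14,9,17,19,13,18,21,23],[0,9,1,7,10,3,8,14,11,17,6,13,5,20,16,12,15,18,21,19,4,22,2,23]),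
   ([0,3,10,13,9,6,21,5,19,4,16,22,2,14,1,15,12,8,18,20,17,7,11,23],[0,14,12,1,9,7,5,21,17,4,2,22,16,3,13,15,10,20,18,8,19,6,11,23]),
   ([0,4,9,20,6,14,2,3,7,11,18,13,10,17,16,22,1,5,19,21,15,8,12,23],[0,16,6,7,1,17,4,8,21,2,12,9,22,11,5,20,14,13,10,18,3,19,15,23]),
   ([0,5,13,16,15,17,1,11,12,8,19,18,4,10,6,20,22,7,3,21,2,9,14,23],[0,6,20,18,12,1,14,17,9,21,13,7,8,2,22,4,3,5,11,10,15,19,16,23]),
   ([0,6,11,15,2,16,9,20,3,13,19,17,18,5,1,12,4,14,21,8,22,7,10,23],[0,14,4,8,16,13,1,21,19,6,22,2,15,9,17,3,5,11,12,10,7,18,20,23]),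
   ([0,7,11,6,3,9,12,16,18,17,10,14,19,15,20,1,13,8,5,4,22,21,2,23],[0,15,22,4,19,18,3,1,17,5,10,2,6,16,11,13,7,9,8,12,14,21,20,23]),
   ([0,8,14,19,21,22,20,18,13,16,2,11,17,5,9,7,6,1,4,15,10,3,12,23],[0,17,10,21,18,13,16,15,1,14,20,11,22,8,2,19,9,12,7,3,6,4,5,23]),
   ([0,9,1,7,10,3,8,14,11,17,6,13,5,20,16,12,15,18,21,19,4,22,2,23],[0,2,22,5,20,12,10,3,6,1,4,8,15,11,7,16,14,9,17,19,13,18,21,23]),
   ([0,10,11,8,5,19,14,12,16,22,7,18,13,2,21,1,4,15,20,9,17,3,6,23],[0,15,13,21,16,4,22,10,3,19,1,2,7,12,6,17,8,20,11,5,18,14,9,23]),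
   ([0,11,2,21,7,20,17,9,6,1,18,4,10,3,14,8,13,22,5,16,12,19,15,23],[0,9,2,13,11,18,8,4,15,7,12,1,20,16,14,22,19,6,10,21,5,3,17,23]),
   ([0,12,5,17,16,11,3,4,7,6,8,22,2,19,15,21,1,20,9,18,14,13,10,23],[0,16,12,6,7,2,9,8,10,18,22,5,1,21,20,14,4,3,19,13,17,15,11,23]),
   ([0,13,12,16,7,8,3,18,21,11,19,17,2,14,9,22,20,15,10,5,6,4,1,23],[0,22,12,6,21,19,20,4,5,14,18,9,2,1,13,17,3,11,7,10,16,8,15,23]),
   ([0,14,2,20,18,21,16,10,4,17,5,15,12,9,11,1,6,22,19,8,3,7,13,23],[0,15,2,20,8,10,16,21,19,13,7,14,12,22,1,11,6,9,4,18,3,5,17,23]),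
   ([0,15,6,5,1,19,21,13,18,22,2,7,12,16,9,17,14,3,10,4,8,20,11,23],[0,4,10,17,19,3,2,11,20,14,18,22,12,7,16,1,13,15,8,5,21,6,9,23]),
   ([0,16,6,7,1,17,4,8,21,2,12,9,22,11,5,20,14,13,10,18,3,19,15,23],[0,4,9,20,6,14,2,3,7,11,18,13,10,17,16,22,1,5,19,21,15,8,12,23]),
   ([0,17,21,12,16,13,3,6,7,4,19,14,15,8,2,5,1,10,9,18,22,11,20,23],[0,16,14,6,9,15,7,8,13,18,17,21,3,5,11,12,4,1,19,10,22,2,20,23]),
   ([0,18,16,22,8,12,15,2,11,3,9,13,20,4,17,1,19,14,10,21,7,5,6,23],[0,15,7,9,13,21,22,20,4,10,18,8,5,11,17,6,2,14,1,16,12,19,3,23]),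
   ([0,19,15,2,18,14,8,11,5,16,20,3,6,13,12,7,17,4,9,10,22,21,1,23],[0,22,3,11,17,8,12,15,6,18,19,7,14,13,5,2,9,16,4,1,10,21,20,23]),
   ([0,20,1,13,10,7,22,5,3,8,17,11,4,9,14,21,2,12,19,18,16,6,15,23],[0,2,16,8,12,7,21,5,9,13,4,11,17,3,14,22,20,10,19,18,1,15,6,23]),
   ([0,21,16,10,20,9,14,19,18,11,4,5,2,1,6,12,8,22,15,3,7,13,17,23],[0,13,12,19,10,11,14,20,16,5,3,9,15,21,6,18,2,22,8,7,4,1,17,23]),
   ([0,22,1,11,5,7,15,12,9,13,4,8,14,18,17,2,6,10,19,3,16,21,20,23],[0,2,15,19,10,4,16,5,11,8,17,3,7,9,12,6,20,14,13,18,22,21,1,23]),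
   ([],[])],
  [([],[]),
   ([],[]),
   ([0,1,2,3,4,5,6,7,8,9,10,11,12,13,14,15,16,17,18,19,20,21,22,23],[0,1,2,3,4,5,6,7,8,9,10,11,12,13,14,15,16,17,18,19,20,21,22,23]),
   ([0,1,3,11,15,20,8,10,2,7,18,14,5,12,19,9,22,4,17,6,16,13,21,23],[0,1,8,2,17,12,19,9,6,15,7,3,13,21,11,4,20,18,10,14,5,22,16,23]),
   ([0,1,4,18,11,10,5,7,22,9,6,2,13,20,14,17,3,21,16,8,12,15,19,23],[0,1,11,16,2,6,10,7,19,9,5,4,20,12,14,21,18,15,3,22,13,17,8,23]),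
   ([0,1,5,20,11,22,8,7,17,12,16,3,2,21,6,10,13,18,14,4,19,15,9,23],[0,1,12,11,19,2,14,7,6,22,15,4,9,16,18,21,10,8,17,20,3,13,5,23]),
   ([0,1,6,7,11,2,5,18,8,9,4,10,13,15,19,12,16,21,3,22,17,20,14,23],[0,1,5,18,10,6,2,3,8,9,11,4,15,12,22,13,16,20,7,14,21,17,19,23]),
   ([0,1,7,13,22,12,9,3,21,8,5,2,19,11,20,15,10,14,6,16,4,18,17,23],[0,1,11,7,20,10,18,2,9,6,16,13,5,3,17,15,19,22,21,12,14,8,4,23]),
   ([0,1,8,21,13,17,14,19,18,7,4,11,12,10,16,15,6,20,2,9,5,22,3,23],[0,1,18,22,10,20,16,9,2,19,13,11,12,4,6,15,14,5,8,7,17,3,21,23]),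
   ([0,1,9,15,16,10,21,5,12,8,22,6,17,3,2,19,7,20,4,11,14,13,18,23],[0,1,14,13,18,7,11,16,9,2,5,19,8,21,20,3,4,12,22,15,17,6,10,23]),
   ([0,1,10,2,14,9,12,19,8,7,11,3,13,18,15,22,21,20,6,5,17,16,4,23],[0,1,3,11,22,19,18,9,8,5,2,10,6,12,4,14,21,20,13,7,17,16,15,23]),
   ([0,1,11,7,20,10,18,2,9,6,16,13,5,3,17,15,19,22,21,12,14,8,4,23],[0,1,7,13,22,12,9,3,21,8,5,2,19,11,20,15,10,14,6,16,4,18,17,23]),
   ([0,1,12,21,19,15,14,13,18,9,4,2,8,10,3,17,5,22,11,7,6,20,16,23],[0,1,11,14,10,16,20,19,12,9,13,18,2,7,6,5,22,15,8,4,21,3,17,23]),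
   ([0,1,13,8,14,10,15,18,4,11,5,22,16,7,3,21,12,6,2,19,9,17,20,23],[0,1,18,14,8,10,17,13,3,20,5,9,16,2,4,6,12,21,7,19,22,15,11,23]),
   ([0,1,14,9,16,19,13,12,5,4,21,3,2,11,8,10,6,22,17,7,18,20,15,23],[0,1,12,11,9,8,16,19,14,3,15,13,7,6,2,22,4,18,20,5,21,10,17,23]),
   ([0,1,15,19,3,18,14,16,9,5,8,20,2,22,13,7,12,17,10,11,4,6,21,23],[0,1,12,4,20,9,21,15,10,8,18,19,16,14,6,2,7,17,5,3,11,22,13,23]),
   ([0,1,16,19,6,12,3,9,4,8,20,2,13,11,5,17,14,10,22,7,21,18,15,23],[0,1,11,6,8,14,4,19,9,7,17,13,5,12,16,22,2,15,21,3,10,20,18,23]),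
   ([0,1,17,2,4,14,8,21,18,7,11,13,15,12,3,10,6,5,19,16,22,20,9,23],[0,1,3,14,4,17,16,9,6,22,15,10,13,11,5,12,19,2,8,18,21,7,20,23]),
   ([0,1,18,22,10,20,16,9,2,19,13,11,12,4,6,15,14,5,8,7,17,3,21,23],[0,1,8,21,13,17,14,19,18,7,4,11,12,10,16,15,6,20,2,9,5,22,3,23]),
   ([0,1,19,7,22,6,12,5,20,15,13,11,3,14,2,18,8,21,4,10,17,16,9,23],[0,1,14,12,18,7,5,3,16,22,19,11,6,10,13,9,21,20,15,2,8,17,4,23]),
   ([0,1,20,15,22,2,14,13,16,19,11,21,8,6,10,4,18,9,17,12,3,7,5,23],[0,1,5,20,15,22,13,21,12,17,14,10,19,7,6,3,8,18,16,9,2,11,4,23]),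
   ([0,1,21,13,10,11,19,7,17,12,15,8,16,18,9,22,14,5,20,6,3,2,4,23],[0,1,21,20,22,17,19,7,11,14,4,5,9,3,16,10,12,8,13,6,18,2,15,23]),
   ([0,1,22,10,4,11,9,19,20,12,15,18,6,2,7,3,16,17,5,14,21,8,13,23],[0,1,13,15,4,18,12,14,21,6,3,5,9,22,19,10,16,17,11,7,8,20,2,23]),
   ([],[])],
  [([],[]),
   ([],[]),
   ([],[]),
   ([0,1,2,3,4,5,6,7,8,9,10,11,12,13,14,15,16,17,18,19,20,21,22,23],[0,1,2,3,4,5,6,7,8,9,10,11,12,13,14,15,16,17,18,19,20,21,22,23]),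
   ([0,1,2,4,14,16,7,6,15,12,8,10,20,5,22,11,17,13,9,21,18,19,3,23],[0,1,2,22,3,13,7,6,10,18,11,15,9,17,4,8,5,16,20,21,12,19,14,23]),
   ([0,1,2,5,18,3,10,9,16,21,19,22,4,12,17,7,11,14,13,20,6,15,8,23],[0,1,2,5,12,3,20,15,22,7,6,16,13,18,17,21,8,14,4,10,19,9,11,23]),
   ([0,1,2,6,10,21,12,18,4,5,17,13,16,9,7,14,20,19,22,8,3,11,15,23],[0,1,2,20,8,9,3,14,19,13,4,21,6,11,15,22,12,10,7,17,16,5,18,23]),
   ([0,1,2,7,18,19,10,15,17,4,22,3,14,11,6,13,8,21,5,9,16,20,12,23],[0,1,2,11,9,18,14,3,16,19,6,13,22,15,12,7,20,8,4,5,21,17,10,23]),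
   ([0,1,2,8,21,18,15,10,4,3,5,16,22,7,11,14,6,12,13,20,17,9,19,23],[0,1,2,9,8,10,16,13,3,21,7,14,17,18,15,6,11,20,5,22,19,4,12,23]),
   ([0,1,2,9,13,20,19,7,14,18,8,5,17,22,10,12,16,15,3,21,11,6,4,23],[0,1,2,18,22,11,21,7,10,3,14,20,15,4,8,17,16,12,9,6,5,19,13,23]),
   ([0,1,2,10,13,20,5,14,12,21,19,8,11,16,15,7,4,9,18,3,6,17,22,23],[0,1,2,19,16,6,20,15,11,17,3,12,8,4,7,14,13,21,18,10,5,9,22,23]),
   ([0,1,2,11,9,18,14,3,16,19,6,13,22,15,12,7,20,8,4,5,21,17,10,23],[0,1,2,7,18,19,10,15,17,4,22,3,14,11,6,13,8,21,5,9,16,20,12,23]),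
   ([0,1,2,12,17,18,7,19,13,10,20,4,22,14,8,15,5,11,16,6,9,21,3,23],[0,1,2,22,11,16,19,6,14,20,9,17,3,8,13,15,18,4,5,7,10,21,12,23]),
   ([0,1,2,13,20,4,17,3,19,8,18,7,21,15,22,11,10,16,6,14,12,5,9,23],[0,1,2,7,5,21,18,11,9,22,16,15,20,3,19,13,17,6,10,8,4,12,14,23]),
   ([0,1,2,14,6,5,10,20,18,13,4,11,8,21,17,22,7,3,12,15,16,9,19,23],[0,1,2,17,10,5,4,16,12,21,6,11,18,9,3,19,20,14,8,22,7,13,15,23]),
   ([0,1,2,15,14,9,13,22,19,12,18,6,7,17,10,8,3,20,21,16,11,4,5,23],[0,1,2,16,21,22,11,12,15,5,14,20,9,6,4,3,19,13,10,8,17,18,7,23]),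
   ([0,1,2,16,17,4,7,6,9,11,18,20,10,3,13,12,14,22,15,21,8,19,5,23],[0,1,2,13,5,22,7,6,20,8,12,9,15,14,16,18,3,4,10,21,11,19,17,23]),
   ([0,1,2,17,10,5,4,16,12,21,6,11,18,9,3,19,20,14,8,22,7,13,15,23],[0,1,2,14,6,5,10,20,18,13,4,11,8,21,17,22,7,3,12,15,16,9,19,23]),
   ([0,1,2,18,15,12,4,22,21,5,14,19,7,10,11,3,20,8,6,13,17,16,9,23],[0,1,2,15,6,9,18,12,17,22,13,14,5,19,10,4,21,20,3,11,16,8,7,23]),
   ([0,1,2,19,16,6,20,15,11,17,3,12,8,4,7,14,13,21,18,10,5,9,22,23],[0,1,2,10,13,20,5,14,12,21,19,8,11,16,15,7,4,9,18,3,6,17,22,23]),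
   ([0,1,2,20,8,9,3,14,19,13,4,21,6,11,15,22,12,10,7,17,16,5,18,23],[0,1,2,6,10,21,12,18,4,5,17,13,16,9,7,14,20,19,22,8,3,11,15,23]),
   ([0,1,2,21,13,7,15,20,12,17,3,11,18,22,6,14,16,19,8,9,5,10,4,23],[0,1,2,10,22,20,14,5,18,19,21,11,8,4,15,6,16,9,12,17,7,3,13,23]),
   ([0,1,2,22,15,13,11,18,17,6,7,3,14,10,4,19,20,16,5,12,21,8,9,23],[0,1,2,11,14,18,9,10,21,22,13,6,19,5,12,4,17,8,7,15,16,20,3,23]),
   ([],[])]]

/-- The test for one table entry. -/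
def goodEntry (j k : ℕ) (e : List ℕ × List ℕ) : Bool :=
  checkM24 e.1 e.2 &&
    ((List.range j).all fun i => e.1.getD (baseCodes.getD i 0) 0 == baseCodes.getD i 0) &&
    (e.1.getD (baseCodes.getD j 0) 0 == k)

/-- The test for the whole table. -/
def checkTable : Bool :=
  (List.range 5).all fun j => (List.range 24).all fun k =>
    (baseCodes.take j).contains k || goodEntry j k ((table.getD j []).getD k ([], []))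

theorem checkTable_true : checkTable = true := by decide +kernel

/-- The base points as an embedding. -/
def baseEmb : Fin 5 ↪ GolayPt where
  toFun i := dec (baseCodes.getD i.val 0)
  inj' := by decide

theorem enc_baseEmb (i : Fin 5) : enc (baseEmb i) = baseCodes.getD i.val 0 := by
  revert i; decide

theorem chain_M24 (j : Fin 5) (p : GolayPt) (hp : ∀ i, i < j → p ≠ baseEmb i) :
    ∃ g ∈ M24, (∀ i, i < j → g (baseEmb i) = baseEmb i) ∧ g (baseEmb j) = p := by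
  have h := checkTable_true
  unfold checkTable at h
  rw [List.all_eq_true] at h
  have h1 := h j.val (List.mem_range.mpr j.isLt)
  rw [List.all_eq_true] at h1
  have h2 := h1 (enc p) (List.mem_range.mpr (enc_lt p))
  rw [Bool.or_eq_true] at h2
  rcases h2 with h2 | h2
  · exfalso
    rw [List.contains_iff_mem, List.mem_take_iff_getElem] at h2
    obtain ⟨i, hi, hi2⟩ := h2
    have hij : i < j.val := (lt_min_iff.mp hi).1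
    have hi5 : i < 5 := lt_trans hij j.isLt
    apply hp ⟨i, hi5⟩ hij
    apply enc_injective
    rw [enc_baseEmb, ← hi2]
    simp [List.getD_eq_getElem?_getD, List.getElem?_eq_getElem (lt_min_iff.mp hi).2]
  · unfold goodEntry at h2
    rw [Bool.and_eq_true, Bool.and_eq_true, List.all_eq_true, beq_iff_eq] at h2
    obtain ⟨⟨hc, hfix⟩, hmap⟩ := h2
    obtain ⟨g, hg, hgp⟩ := exists_of_checkM24 hc
    refine ⟨g, hg, fun i hi => ?_, ?_⟩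
    · have := hfix i.val (List.mem_range.mpr hi)
      rw [beq_iff_eq] at this
      rw [hgp, enc_baseEmb, this, ← enc_baseEmb, dec_enc]
    · rw [hgp, enc_baseEmb, hmap, dec_enc]

/-- The permutation group preserving the length-24 code is 5-transitive on the 24 points. -/
theorem result : MulAction.IsMultiplyPretransitive Cfsg.M24 Cfsg.GolayPt 5 :=
  multiply_pretransitive_of_chain M24 5 baseEmb chain_M24

end Cfsg.Agent.S0366
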