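import Cfsg.Statements.S0367
import Cfsg.Agent.S0366
import Cfsg.Agent.Lib.Helper7_Code

set_option autoImplicit false
open scoped Pointwise
open Cfsg

namespace Cfsg.Agent.S0367

open Cfsg.Agent.Lib.Helper7_M24 Cfsg.Agent.Lib.Helper7_Bits Cfsg.Agent.Lib.Helper7_Code

/-- The support of a sum of two words is the symmetric difference of the supports. -/
theorem support₂_add (v w : GolayPt → ZMod 2) :
    support₂ (v + w) = symmDiff (support₂ v) (support₂ w) := by
  ext p
  rw [Finset.mem_symmDiff, mem_support₂, mem_support₂, mem_support₂, Pi.add_apply]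
  generalize v p = a
  generalize w p = b
  revert a b
  decide

/-- Two code words of weight 8 whose supports share at least 5 points are equal. -/
theorem eq_of_five_common (v w : GolayPt → ZMod 2) (hv : v ∈ golayCode) (hw : w ∈ golayCode)
    (hv8 : (support₂ v).card = 8) (hw8 : (support₂ w).card = 8)
    (h5 : 5 ≤ (support₂ v ∩ support₂ w).card) : v = w := by
  by_contra hne
  have h0 : v + w ≠ 0 := by
    intro h
    apply hne
    have : v = -w := eq_neg_of_add_eq_zero_left h
    rw [this]
    funext p
    simp only [Pi.neg_apply]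
    generalize w p = b
    revert b
    decide
  have h8 := eight_le_weight (v + w) (golayCode.add_mem hv hw) h0
  rw [support₂_add] at h8
  have hcard : (symmDiff (support₂ v) (support₂ w)).card + 2 * (support₂ v ∩ support₂ w).card
      = (support₂ v).card + (support₂ w).card := by
    have h1 := Finset.card_sdiff_add_card_inter (support₂ v) (support₂ w)
    have h2 := Finset.card_sdiff_add_card_inter (support₂ w) (support₂ v)
    have h3 : (symmDiff (support₂ v) (support₂ w)).card
        = (support₂ v \ support₂ w).card + (support₂ w \ support₂ v).card := by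
      rw [symmDiff_def, Finset.sup_eq_union]
      apply Finset.card_union_of_disjoint
      exact disjoint_sdiff_sdiff
    rw [Finset.inter_comm (support₂ w)] at h2
    omega
  omega

/-- A subset with at least 5 points contains the image of an embedding of `Fin 5`. -/
theorem exists_emb_of_card {α : Type*} [DecidableEq α] (s : Finset α) (hs : 5 ≤ s.card) :
    ∃ x : Fin 5 ↪ α, ∀ i, x i ∈ s := by
  obtain ⟨t, hts, htc⟩ := Finset.exists_subset_card_eq hs
  let e := (Finset.equivFinOfCardEq htc).symm
  refine ⟨e.toEmbedding.trans (Function.Embedding.subtype _), fun i => hts ?_⟩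
  exact (e i).2

/-- The permutation group preserving the length-24 code is transitive on octads. -/
theorem result (o o' : Finset Cfsg.GolayPt) (ho : o ∈ Cfsg.octads) (ho' : o' ∈ Cfsg.octads) : ∃ g : Cfsg.M24, g • o = o' := by
  obtain ⟨⟨w, hw, rfl⟩, hc⟩ := ho
  obtain ⟨⟨w', hw', rfl⟩, hc'⟩ := ho'
  obtain ⟨x, hx⟩ := exists_emb_of_card (support₂ w) (by rw [hc]; norm_num)
  obtain ⟨y, hy⟩ := exists_emb_of_card (support₂ w') (by rw [hc']; norm_num)
  have htrans := Cfsg.Agent.S0366.result
  obtain ⟨g, hg⟩ := htrans.exists_smul_eq x y
  refine ⟨g, ?_⟩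
  show (g : Equiv.Perm GolayPt) • support₂ w = support₂ w'
  rw [← support₂_permWord]
  congr 1
  apply eq_of_five_common _ _ (permWord_mem_of_mem_M24 g.2 hw) hw'
  · rw [support₂_permWord, Finset.card_smul_finset, hc]
  · exact hc'
  · have hsub : Finset.univ.map y ⊆ support₂ (permWord (g : Equiv.Perm GolayPt) w) ∩ support₂ w' := by
      intro p hp
      rw [Finset.mem_map] at hp
      obtain ⟨i, _, rfl⟩ := hp
      rw [Finset.mem_inter]
      refine ⟨?_, hy i⟩
      rw [support₂_permWord, ← hg]
      exact Finset.smul_mem_smul_finset (hx i)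
    calc 5 = (Finset.univ.map y).card := by simp
      _ ≤ _ := Finset.card_le_card hsub

end Cfsg.Agent.S0367
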