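import Cfsg.Statements.S0364
import Cfsg.Agent.S0366
import Cfsg.Agent.Lib.Helper7_Base

set_option autoImplicit false
open Cfsg
open scoped Pointwise

namespace Cfsg.Agent.S0364

open Cfsg.Agent.Lib.Helper7_M24 Cfsg.Agent.Lib.Helper7_Bits Cfsg.Agent.Lib.Helper7_Perm
  Cfsg.Agent.Lib.Helper7_Code Cfsg.Agent.Lib.Helper7_Base

/-- Mask of the five base points `∞, 0, 1, 2, 3`. -/
def baseMask5 : ℕ := 2 ^ 23 + 15

/-- Mask of the seven base points `∞, 0, 1, 2, 3, 5, 4`. -/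
def baseMask7 : ℕ := 2 ^ 23 + 15 + 32 + 16

/-- Mask of the octad `{0, 1, 2, 3, 5, 14, 17, ∞}` through the five base points. -/
def octMask : ℕ := 2 ^ 23 + 15 + 2 ^ 5 + 2 ^ 14 + 2 ^ 17

/-- The certificate showing that the seven base points form a base. -/
def cert7 : List (ℕ × ℕ × ℕ) :=
  [(10, 5279, 8391797), (7, 5279, 8421811), (12, 5279, 8394986), (13, 10558, 42232),
   (11, 10558, 133817), (8, 10558, 15777), (6, 18147, 36294), (9, 18147, 69395),
   (14, 18147, 21116), (15, 36294, 39257), (16, 69395, 72588), (17, 133817, 138790),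
   (18, 262637, 267634), (19, 525274, 530245), (20, 1050548, 1053483),
   (21, 2101096, 2104311), (22, 4196943, 4202192)]

theorem cert7_ok : checkBase baseMask7 cert7 = true := by decide +kernel

/-- An element of `M24` fixing the seven base points is the identity. -/
theorem base7 (g : Equiv.Perm GolayPt) (hg : g ∈ M24)
    (h : ∀ p ∈ maskSet baseMask7, g p = p) : g = 1 :=
  checkBase_sound g hg cert7 baseMask7 h cert7_ok

/-- The five base points, as a set. -/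
def baseSet : Set GolayPt := {p | p ∈ maskSet baseMask5}

theorem mem_baseSet_iff (p : GolayPt) : p ∈ baseSet ↔ (baseMask5.testBit (enc p) = true) :=
  mem_maskSet _ _

theorem baseSet_ncard : baseSet.ncard = 5 := by
  have : baseSet = ((maskSet baseMask5 : Finset GolayPt) : Set GolayPt) := rfl
  rw [this, Set.ncard_coe_finset, maskSet, card_support₂_toWord]
  decide

theorem inCode_octMask : inCode octMask = true := by decide +kernel

theorem mask7_cases : ∀ p : GolayPt, baseMask7.testBit (enc p) = true →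
    (baseMask5.testBit (enc p) = true ∨ p = dec 5 ∨ p = dec 4) := by decide

theorem oct_cases : ∀ p : GolayPt, octMask.testBit (enc p) = true →
    baseMask5.testBit (enc p) = false → (enc p = 5 ∨ enc p = 14 ∨ enc p = 17) := by decide

theorem coOct_cases : ∀ p : GolayPt, octMask.testBit (enc p) = false →
    enc p ∈ [4, 6, 7, 8, 9, 10, 11, 12, 13, 15, 16, 18, 19, 20, 21, 22] := by decide

/-- The 48 elements of the pointwise stabilizer of the five base points, indexed by the images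
`b` of the point `5` and `c` of the point `4`: entries `(b, c, images, preimages)`. -/
def table : List (ℕ × ℕ × List ℕ × List ℕ) :=
  [(14,10,[0,1,2,3,10,14,16,4,18,19,7,8,12,9,17,21,20,5,11,13,6,22,15,23],[0,1,2,3,7,17,20,10,11,13,4,18,12,19,5,22,6,14,8,9,16,15,21,23]),
   (14,11,[0,1,2,3,11,14,21,6,15,13,22,20,9,12,17,16,8,5,10,19,4,7,18,23],[0,1,2,3,20,17,7,21,16,12,18,4,13,9,5,8,15,14,22,19,11,6,10,23]),
   (14,12,[0,1,2,3,12,14,19,7,20,16,4,15,10,11,17,13,18,5,9,21,22,6,8,23],[0,1,2,3,10,17,21,7,22,18,12,13,4,15,5,11,9,14,16,6,8,19,20,23]),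
   (14,13,[0,1,2,3,13,14,9,20,7,11,18,6,21,16,17,12,4,5,19,10,8,15,22,23],[0,1,2,3,16,17,11,8,20,6,19,9,15,4,5,21,13,14,10,18,7,12,22,23]),
   (14,15,[0,1,2,3,15,14,4,16,11,7,19,12,8,20,17,6,9,5,18,22,21,13,10,23],[0,1,2,3,6,17,15,9,12,16,22,8,11,21,5,4,7,14,18,10,13,20,19,23]),
   (14,16,[0,1,2,3,16,14,10,15,6,12,8,7,19,13,17,11,22,5,21,9,18,20,4,23],[0,1,2,3,22,17,8,11,10,19,6,15,9,13,5,7,4,14,20,12,21,18,16,23]),
   (14,18,[0,1,2,3,18,14,6,21,10,22,13,9,20,8,17,4,12,5,15,7,16,19,11,23],[0,1,2,3,15,17,6,19,13,11,8,22,16,10,5,18,20,14,4,21,12,7,9,23]),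
   (14,19,[0,1,2,3,19,14,12,8,22,10,15,4,16,21,17,9,6,5,13,11,20,18,7,23],[0,1,2,3,11,17,16,22,7,15,9,19,6,18,5,10,12,14,21,4,20,13,8,23]),
   (14,20,[0,1,2,3,20,14,22,13,12,6,21,11,18,15,17,7,10,5,8,4,19,16,9,23],[0,1,2,3,19,17,9,15,18,22,16,11,8,7,5,13,21,14,12,20,4,10,6,23]),
   (14,21,[0,1,2,3,21,14,11,18,4,9,20,22,13,19,17,10,7,5,16,12,15,8,6,23],[0,1,2,3,8,17,22,16,21,9,15,6,19,12,5,20,18,14,7,13,10,4,11,23]),
   (14,22,[0,1,2,3,22,14,20,9,19,18,11,21,6,4,17,8,16,5,7,15,12,10,13,23],[0,1,2,3,13,17,12,18,15,7,21,10,20,22,5,19,16,14,9,8,6,11,4,23]),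
   (14,4,[0,1,2,3,4,14,15,10,21,8,12,19,7,22,17,18,13,5,6,20,11,9,16,23],[0,1,2,3,4,17,18,12,9,21,7,20,10,16,5,6,22,14,15,11,19,8,13,23]),
   (14,6,[0,1,2,3,6,14,18,11,16,20,9,13,22,7,17,15,19,5,4,8,10,12,21,23],[0,1,2,3,18,17,4,13,19,10,20,7,21,11,5,15,8,14,6,16,9,22,12,23]),
   (14,7,[0,1,2,3,7,14,8,12,13,15,10,16,4,6,17,20,21,5,22,18,9,11,19,23],[0,1,2,3,12,17,13,4,6,20,10,21,7,8,5,9,11,14,19,22,15,16,18,23]),
   (14,8,[0,1,2,3,8,14,7,19,9,4,16,10,15,18,17,22,11,5,20,6,13,21,12,23],[0,1,2,3,9,17,19,6,4,8,11,16,22,20,5,12,10,14,13,7,18,21,15,23]),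
   (14,9,[0,1,2,3,9,14,13,22,8,21,6,18,11,10,17,19,15,5,12,16,7,4,20,23],[0,1,2,3,21,17,10,20,8,4,13,12,18,6,5,16,19,14,11,15,22,9,7,23]),
   (17,10,[0,1,2,3,10,17,21,7,22,18,12,13,4,15,5,11,9,14,16,6,8,19,20,23],[0,1,2,3,12,14,19,7,20,16,4,15,10,11,17,13,18,5,9,21,22,6,8,23]),
   (17,11,[0,1,2,3,11,17,16,22,7,15,9,19,6,18,5,10,12,14,21,4,20,13,8,23],[0,1,2,3,19,14,12,8,22,10,15,4,16,21,17,9,6,5,13,11,20,18,7,23]),
   (17,12,[0,1,2,3,12,17,13,4,6,20,10,21,7,8,5,9,11,14,19,22,15,16,18,23],[0,1,2,3,7,14,8,12,13,15,10,16,4,6,17,20,21,5,22,18,9,11,19,23]),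
   (17,13,[0,1,2,3,13,17,12,18,15,7,21,10,20,22,5,19,16,14,9,8,6,11,4,23],[0,1,2,3,22,14,20,9,19,18,11,21,6,4,17,8,16,5,7,15,12,10,13,23]),
   (17,15,[0,1,2,3,15,17,6,19,13,11,8,22,16,10,5,18,20,14,4,21,12,7,9,23],[0,1,2,3,18,14,6,21,10,22,13,9,20,8,17,4,12,5,15,7,16,19,11,23]),
   (17,16,[0,1,2,3,16,17,11,8,20,6,19,9,15,4,5,21,13,14,10,18,7,12,22,23],[0,1,2,3,13,14,9,20,7,11,18,6,21,16,17,12,4,5,19,10,8,15,22,23]),
   (17,18,[0,1,2,3,18,17,4,13,19,10,20,7,21,11,5,15,8,14,6,16,9,22,12,23],[0,1,2,3,6,14,18,11,16,20,9,13,22,7,17,15,19,5,4,8,10,12,21,23]),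
   (17,19,[0,1,2,3,19,17,9,15,18,22,16,11,8,7,5,13,21,14,12,20,4,10,6,23],[0,1,2,3,20,14,22,13,12,6,21,11,18,15,17,7,10,5,8,4,19,16,9,23]),
   (17,20,[0,1,2,3,20,17,7,21,16,12,18,4,13,9,5,8,15,14,22,19,11,6,10,23],[0,1,2,3,11,14,21,6,15,13,22,20,9,12,17,16,8,5,10,19,4,7,18,23]),
   (17,21,[0,1,2,3,21,17,10,20,8,4,13,12,18,6,5,16,19,14,11,15,22,9,7,23],[0,1,2,3,9,14,13,22,8,21,6,18,11,10,17,19,15,5,12,16,7,4,20,23]),
   (17,22,[0,1,2,3,22,17,8,11,10,19,6,15,9,13,5,7,4,14,20,12,21,18,16,23],[0,1,2,3,16,14,10,15,6,12,8,7,19,13,17,11,22,5,21,9,18,20,4,23]),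
   (17,4,[0,1,2,3,4,17,18,12,9,21,7,20,10,16,5,6,22,14,15,11,19,8,13,23],[0,1,2,3,4,14,15,10,21,8,12,19,7,22,17,18,13,5,6,20,11,9,16,23]),
   (17,6,[0,1,2,3,6,17,15,9,12,16,22,8,11,21,5,4,7,14,18,10,13,20,19,23],[0,1,2,3,15,14,4,16,11,7,19,12,8,20,17,6,9,5,18,22,21,13,10,23]),
   (17,7,[0,1,2,3,7,17,20,10,11,13,4,18,12,19,5,22,6,14,8,9,16,15,21,23],[0,1,2,3,10,14,16,4,18,19,7,8,12,9,17,21,20,5,11,13,6,22,15,23]),
   (17,8,[0,1,2,3,8,17,22,16,21,9,15,6,19,12,5,20,18,14,7,13,10,4,11,23],[0,1,2,3,21,14,11,18,4,9,20,22,13,19,17,10,7,5,16,12,15,8,6,23]),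
   (17,9,[0,1,2,3,9,17,19,6,4,8,11,16,22,20,5,12,10,14,13,7,18,21,15,23],[0,1,2,3,8,14,7,19,9,4,16,10,15,18,17,22,11,5,20,6,13,21,12,23]),
   (5,10,[0,1,2,3,10,5,11,12,19,22,4,6,7,20,14,16,15,17,21,8,13,18,9,23],[0,1,2,3,10,5,11,12,19,22,4,6,7,20,14,16,15,17,21,8,13,18,9,23]),
   (5,11,[0,1,2,3,11,5,10,9,13,7,6,4,22,8,14,21,18,17,16,20,19,15,12,23],[0,1,2,3,11,5,10,9,13,7,6,4,22,8,14,21,18,17,16,20,19,15,12,23]),
   (5,12,[0,1,2,3,12,5,9,10,16,6,7,22,4,18,14,19,8,17,13,15,21,20,11,23],[0,1,2,3,12,5,9,10,16,6,7,22,4,18,14,19,8,17,13,15,21,20,11,23]),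
   (5,13,[0,1,2,3,13,5,19,21,11,15,20,8,18,4,14,9,22,17,12,6,10,7,16,23],[0,1,2,3,13,5,19,21,11,15,20,8,18,4,14,9,22,17,12,6,10,7,16,23]),
   (5,15,[0,1,2,3,15,5,18,8,7,13,16,21,19,9,14,4,10,17,6,12,22,11,20,23],[0,1,2,3,15,5,18,8,7,13,16,21,19,9,14,4,10,17,6,12,22,11,20,23]),
   (5,16,[0,1,2,3,16,5,21,19,12,20,15,18,8,22,14,10,4,17,11,7,9,6,13,23],[0,1,2,3,16,5,21,19,12,20,15,18,8,22,14,10,4,17,11,7,9,6,13,23]),
   (5,18,[0,1,2,3,18,5,15,20,22,19,21,16,13,12,14,6,11,17,4,9,7,10,8,23],[0,1,2,3,18,5,15,20,22,19,21,16,13,12,14,6,11,17,4,9,7,10,8,23]),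
   (5,19,[0,1,2,3,19,5,13,16,10,18,8,20,15,6,14,12,7,17,9,4,11,22,21,23],[0,1,2,3,19,5,13,16,10,18,8,20,15,6,14,12,7,17,9,4,11,22,21,23]),
   (5,20,[0,1,2,3,20,5,8,18,6,16,13,19,21,10,14,22,9,17,7,11,4,12,15,23],[0,1,2,3,20,5,8,18,6,16,13,19,21,10,14,22,9,17,7,11,4,12,15,23]),
   (5,21,[0,1,2,3,21,5,16,13,9,8,18,15,20,7,14,11,6,17,10,22,12,4,19,23],[0,1,2,3,21,5,16,13,9,8,18,15,20,7,14,11,6,17,10,22,12,4,19,23]),
   (5,22,[0,1,2,3,22,5,7,6,18,10,9,12,11,16,14,20,13,17,8,21,15,19,4,23],[0,1,2,3,22,5,7,6,18,10,9,12,11,16,14,20,13,17,8,21,15,19,4,23]),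
   (5,4,[0,1,2,3,4,5,6,7,8,9,10,11,12,13,14,15,16,17,18,19,20,21,22,23],[0,1,2,3,4,5,6,7,8,9,10,11,12,13,14,15,16,17,18,19,20,21,22,23]),
   (5,6,[0,1,2,3,6,5,4,22,20,12,11,10,9,19,14,18,21,17,15,13,8,16,7,23],[0,1,2,3,6,5,4,22,20,12,11,10,9,19,14,18,21,17,15,13,8,16,7,23]),
   (5,7,[0,1,2,3,7,5,22,4,15,11,12,9,10,21,14,8,19,17,20,16,18,13,6,23],[0,1,2,3,7,5,22,4,15,11,12,9,10,21,14,8,19,17,20,16,18,13,6,23]),
   (5,8,[0,1,2,3,8,5,20,15,4,21,19,13,16,11,14,7,12,17,22,10,6,9,18,23],[0,1,2,3,8,5,20,15,4,21,19,13,16,11,14,7,12,17,22,10,6,9,18,23]),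
   (5,9,[0,1,2,3,9,5,12,11,21,4,22,7,6,15,14,13,20,17,19,18,16,8,10,23],[0,1,2,3,9,5,12,11,21,4,22,7,6,15,14,13,20,17,19,18,16,8,10,23])]

/-- Test for one entry. -/
def goodEntry (b c : ℕ) (e : ℕ × ℕ × List ℕ × List ℕ) : Bool :=
  e.1 == b && e.2.1 == c && checkM24 e.2.2.1 e.2.2.2 &&
    ([23, 0, 1, 2, 3].all fun i => e.2.2.1.getD i 0 == i) &&
    (e.2.2.1.getD 5 0 == b) && (e.2.2.1.getD 4 0 == c)

/-- Test for the whole table. -/
def checkTable : Bool :=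
  [5, 14, 17].all fun b =>
    [4, 6, 7, 8, 9, 10, 11, 12, 13, 15, 16, 18, 19, 20, 21, 22].all fun c =>
      table.any (goodEntry b c)

theorem checkTable_true : checkTable = true := by decide +kernel

theorem base5_cases : ∀ p : GolayPt, baseMask5.testBit (enc p) = true →
    enc p ∈ [23, 0, 1, 2, 3] := by decide

theorem exists_elt (b c : ℕ) (hb : b ∈ [5, 14, 17])
    (hc : c ∈ [4, 6, 7, 8, 9, 10, 11, 12, 13, 15, 16, 18, 19, 20, 21, 22]) :
    ∃ g ∈ M24, (∀ p ∈ baseSet, g p = p) ∧ g (dec 5) = dec b ∧ g (dec 4) = dec c := by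
  have h := checkTable_true
  unfold checkTable at h
  rw [List.all_eq_true] at h
  have h1 := h b hb
  rw [List.all_eq_true] at h1
  have h2 := h1 c hc
  rw [List.any_eq_true] at h2
  obtain ⟨e, _, he⟩ := h2
  unfold goodEntry at he
  simp only [Bool.and_eq_true, beq_iff_eq, List.all_eq_true] at he
  obtain ⟨⟨⟨⟨⟨_, _⟩, hm⟩, hfix⟩, h5⟩, h4⟩ := he
  obtain ⟨g, hg, hgp⟩ := exists_of_checkM24 hm
  refine ⟨g, hg, fun p hp => ?_, ?_, ?_⟩
  · rw [mem_baseSet_iff] at hp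
    rw [hgp, hfix _ (base5_cases p hp), dec_enc]
  · rw [hgp, enc_dec 5 (by norm_num), h5]
  · rw [hgp, enc_dec 4 (by norm_num), h4]

/-- The pointwise stabilizer in `M24` of the five base points. -/
abbrev F5 : Subgroup M24 := fixingSubgroup M24 baseSet

theorem mem_F5_iff (g : M24) : g ∈ F5 ↔ ∀ p ∈ baseSet, (g : Equiv.Perm GolayPt) p = p :=
  mem_fixingSubgroup_iff M24

/-- Elements of `F5` preserve the octad through the base points. -/
theorem F5_smul_oct (g : M24) (hg : g ∈ F5) :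
    (g : Equiv.Perm GolayPt) • maskSet octMask = maskSet octMask := by
  apply smul_support_eq_of_small _ g.2 (maskSet baseMask5) ((mem_F5_iff g).mp hg) _
    (toWord_mem_of_inCode inCode_octMask)
  have : support₂ (toWord octMask) \ maskSet baseMask5 = maskSet (octMask &&& coMask baseMask5) :=
    (maskSet_and_coMask octMask baseMask5).symm
  rw [this, maskSet, card_support₂_toWord]
  decide

/-- The target set of pairs (image of `5`, image of `4`). -/
def targets : Finset (GolayPt × GolayPt) :=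
  (([5, 14, 17].map dec).toFinset) ×ˢ
    (([4, 6, 7, 8, 9, 10, 11, 12, 13, 15, 16, 18, 19, 20, 21, 22].map dec).toFinset)

theorem targets_card : targets.card = 48 := by decide

/-- The map recording the images of the points `5` and `4`. -/
def phi (g : F5) : GolayPt × GolayPt :=
  ((g.1 : Equiv.Perm GolayPt) (dec 5), (g.1 : Equiv.Perm GolayPt) (dec 4))

theorem phi_injective : Function.Injective phi := by
  intro g h hgh
  have h5 : (g.1 : Equiv.Perm GolayPt) (dec 5) = (h.1 : Equiv.Perm GolayPt) (dec 5) :=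
    congrArg Prod.fst hgh
  have h4 : (g.1 : Equiv.Perm GolayPt) (dec 4) = (h.1 : Equiv.Perm GolayPt) (dec 4) :=
    congrArg Prod.snd hgh
  have hk : (h.1 : Equiv.Perm GolayPt)⁻¹ * (g.1 : Equiv.Perm GolayPt) = 1 := by
    apply base7 _ (M24.mul_mem (M24.inv_mem h.1.2) g.1.2)
    intro p hp
    rw [mem_maskSet] at hp
    rw [Equiv.Perm.mul_apply, Equiv.Perm.inv_eq_iff_eq]
    rcases mask7_cases p hp with hp | rfl | rfl
    · rw [(mem_F5_iff g.1).mp g.2 p ((mem_baseSet_iff p).mpr hp),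
        (mem_F5_iff h.1).mp h.2 p ((mem_baseSet_iff p).mpr hp)]
    · exact h5
    · exact h4
  have : (g.1 : Equiv.Perm GolayPt) = (h.1 : Equiv.Perm GolayPt) := by
    rw [inv_mul_eq_one] at hk
    exact hk.symm
  exact Subtype.ext (Subtype.ext this)

theorem range_phi : Set.range phi = (targets : Set (GolayPt × GolayPt)) := by
  ext ⟨x, y⟩
  constructor
  · rintro ⟨g, hg⟩
    have hx : (g.1 : Equiv.Perm GolayPt) (dec 5) = x := congrArg Prod.fst hg
    have hy : (g.1 : Equiv.Perm GolayPt) (dec 4) = y := congrArg Prod.snd hg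
    have hO := F5_smul_oct g.1 g.2
    have hfix := (mem_F5_iff g.1).mp g.2
    rw [Finset.mem_coe, targets, Finset.mem_product]
    constructor
    · -- x in the octad, not a base point
      have hxO : x ∈ maskSet octMask := by
        rw [← hO, ← hx]
        apply Finset.smul_mem_smul_finset
        rw [mem_maskSet]; decide
      have hxB : baseMask5.testBit (enc x) = false := by
        by_contra hcon
        rw [Bool.not_eq_false] at hcon
        have h1 := hfix x ((mem_baseSet_iff x).mpr hcon)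
        have h2 : (g.1 : Equiv.Perm GolayPt) (dec 5) = dec 5 := by
          apply (g.1 : Equiv.Perm GolayPt).injective
          rw [hx]; exact h1
        have h3 : x = dec 5 := hx.symm.trans h2
        rw [h3] at hcon
        revert hcon
        decide
      rw [mem_maskSet] at hxO
      have := oct_cases x hxO hxB
      rw [List.mem_toFinset, List.mem_map]
      rcases this with h | h | h
      · exact ⟨5, by simp, by rw [← h, dec_enc]⟩
      · exact ⟨14, by simp, by rw [← h, dec_enc]⟩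
      · exact ⟨17, by simp, by rw [← h, dec_enc]⟩
    · have hyO : octMask.testBit (enc y) = false := by
        by_contra hcon
        rw [Bool.not_eq_false] at hcon
        have h1 : y ∈ (g.1 : Equiv.Perm GolayPt) • maskSet octMask := by
          rw [hO, mem_maskSet]; exact hcon
        rw [Finset.mem_smul_finset] at h1
        obtain ⟨z, hz, hzy⟩ := h1
        have : z = dec 4 := by
          apply (g.1 : Equiv.Perm GolayPt).injective
          rw [hy]; exact hzy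
        rw [this, mem_maskSet] at hz
        revert hz
        decide
      have := coOct_cases y hyO
      rw [List.mem_toFinset, List.mem_map]
      exact ⟨enc y, this, dec_enc y⟩
  · intro h
    rw [Finset.mem_coe, targets, Finset.mem_product, List.mem_toFinset, List.mem_toFinset,
      List.mem_map, List.mem_map] at h
    obtain ⟨⟨b, hb, rfl⟩, ⟨c, hc, rfl⟩⟩ := h
    obtain ⟨g, hg, hfix, h5, h4⟩ := exists_elt b c hb hc
    refine ⟨⟨⟨g, hg⟩, (mem_F5_iff _).mpr hfix⟩, ?_⟩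
    unfold phi
    simp only [h5, h4]

theorem card_F5 : Nat.card F5 = 48 := by
  rw [← Nat.card_range_of_injective phi_injective, range_phi]
  rw [Nat.card_coe_set_eq, Set.ncard_coe_finset]
  exact targets_card

theorem card_golayPt : Nat.card GolayPt = 24 := by
  rw [Nat.card_eq_fintype_card]; decide

theorem index_F5 : F5.index = 5100480 := by
  have h := MulAction.IsMultiplyPretransitive.index_of_fixingSubgroup_mul
    (G := M24) (α := GolayPt) Cfsg.Agent.S0366.result baseSet_ncard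
  rw [card_golayPt] at h
  have h19 : (24 - 5).factorial = 121645100408832000 := by norm_num [Nat.factorial]
  have h24 : (24 : ℕ).factorial = 620448401733239439360000 := by norm_num [Nat.factorial]
  rw [h19, h24] at h
  have h2 : 5100480 * 121645100408832000 = 620448401733239439360000 := by norm_num
  exact Nat.eq_of_mul_eq_mul_right (by norm_num) (h.trans h2.symm)

/-- The permutation group preserving the length-24 code has order 244823040 = 2^10·3^3·5·7·11·23. -/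
theorem result : Nat.card Cfsg.M24 = 244823040 := by
  rw [← Subgroup.card_mul_index F5, card_F5, index_F5]

end Cfsg.Agent.S0364
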