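import Cfsg.Statements.S0381
import Cfsg.Agent.S0364
import Cfsg.Agent.S0367

set_option autoImplicit false
open Cfsg
open scoped Pointwise

namespace Cfsg.Agent.S0381

open Cfsg.Agent.Lib.Helper7_M24 Cfsg.Agent.Lib.Helper7_Bits Cfsg.Agent.Lib.Helper7_Perm
  Cfsg.Agent.Lib.Helper7_Code Cfsg.Agent.Lib.Helper7_Base Cfsg.Agent.S0364

/-- The pointwise stabiliser of a set of points in `M24`, as a subgroup of the symmetric group. -/
abbrev K (o : Finset GolayPt) : Subgroup (Equiv.Perm GolayPt) :=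
  M24 ⊓ fixingSubgroup (Equiv.Perm GolayPt) (o : Set GolayPt)

theorem mem_K_iff (o : Finset GolayPt) (g : Equiv.Perm GolayPt) :
    g ∈ K o ↔ g ∈ M24 ∧ ∀ p ∈ o, g p = p := by
  rw [Subgroup.mem_inf, mem_fixingSubgroup_iff]
  rfl

/-- The standard octad `{0, 1, 2, 3, 5, 14, 17, ∞}`. -/
def stdOct : Finset GolayPt := maskSet octMask

/-- The 16 involutions fixing the standard octad pointwise, indexed by the image `c` of the
point `4`: entries `(c, images)` (each is its own inverse). -/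
def table : List (ℕ × List ℕ) :=
  [(10,[0,1,2,3,10,5,11,12,19,22,4,6,7,20,14,16,15,17,21,8,13,18,9,23]),
   (11,[0,1,2,3,11,5,10,9,13,7,6,4,22,8,14,21,18,17,16,20,19,15,12,23]),
   (12,[0,1,2,3,12,5,9,10,16,6,7,22,4,18,14,19,8,17,13,15,21,20,11,23]),
   (13,[0,1,2,3,13,5,19,21,11,15,20,8,18,4,14,9,22,17,12,6,10,7,16,23]),
   (15,[0,1,2,3,15,5,18,8,7,13,16,21,19,9,14,4,10,17,6,12,22,11,20,23]),
   (16,[0,1,2,3,16,5,21,19,12,20,15,18,8,22,14,10,4,17,11,7,9,6,13,23]),
   (18,[0,1,2,3,18,5,15,20,22,19,21,16,13,12,14,6,11,17,4,9,7,10,8,23]),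
   (19,[0,1,2,3,19,5,13,16,10,18,8,20,15,6,14,12,7,17,9,4,11,22,21,23]),
   (20,[0,1,2,3,20,5,8,18,6,16,13,19,21,10,14,22,9,17,7,11,4,12,15,23]),
   (21,[0,1,2,3,21,5,16,13,9,8,18,15,20,7,14,11,6,17,10,22,12,4,19,23]),
   (22,[0,1,2,3,22,5,7,6,18,10,9,12,11,16,14,20,13,17,8,21,15,19,4,23]),
   (4,[0,1,2,3,4,5,6,7,8,9,10,11,12,13,14,15,16,17,18,19,20,21,22,23]),
   (6,[0,1,2,3,6,5,4,22,20,12,11,10,9,19,14,18,21,17,15,13,8,16,7,23]),
   (7,[0,1,2,3,7,5,22,4,15,11,12,9,10,21,14,8,19,17,20,16,18,13,6,23]),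
   (8,[0,1,2,3,8,5,20,15,4,21,19,13,16,11,14,7,12,17,22,10,6,9,18,23]),
   (9,[0,1,2,3,9,5,12,11,21,4,22,7,6,15,14,13,20,17,19,18,16,8,10,23])]

/-- Test for one entry. -/
def goodEntry (c : ℕ) (e : ℕ × List ℕ) : Bool :=
  e.1 == c && checkM24 e.2 e.2 &&
    ([0, 1, 2, 3, 5, 14, 17, 23].all fun i => e.2.getD i 0 == i) && (e.2.getD 4 0 == c)

/-- Test for the whole table. -/
def checkTable : Bool :=
  [4, 6, 7, 8, 9, 10, 11, 12, 13, 15, 16, 18, 19, 20, 21, 22].all fun c =>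
    table.any (goodEntry c)

theorem checkTable_true : checkTable = true := by decide +kernel

theorem oct_list : ∀ p : GolayPt, octMask.testBit (enc p) = true →
    enc p ∈ [0, 1, 2, 3, 5, 14, 17, 23] := by decide

theorem mask7_sub : ∀ p : GolayPt, baseMask7.testBit (enc p) = true →
    (octMask.testBit (enc p) = true ∨ p = dec 4) := by decide

theorem four_not_oct : octMask.testBit (enc (dec 4)) = false := by decide

theorem exists_elt (c : ℕ)
    (hc : c ∈ [4, 6, 7, 8, 9, 10, 11, 12, 13, 15, 16, 18, 19, 20, 21, 22]) :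
    ∃ g ∈ K stdOct, g (dec 4) = dec c ∧ g * g = 1 := by
  have h := checkTable_true
  unfold checkTable at h
  rw [List.all_eq_true] at h
  have h2 := h c hc
  rw [List.any_eq_true] at h2
  obtain ⟨e, _, he⟩ := h2
  unfold goodEntry at he
  simp only [Bool.and_eq_true, beq_iff_eq, List.all_eq_true] at he
  obtain ⟨⟨⟨_, hm⟩, hfix⟩, h4⟩ := he
  have hm' := hm
  unfold checkM24 at hm'
  rw [Bool.and_eq_true, Bool.and_eq_true] at hm'
  obtain ⟨g, hg, hgp⟩ := exists_of_checkM24 hm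
  refine ⟨g, (mem_K_iff _ _).mpr ⟨hg, fun p hp => ?_⟩, ?_, ?_⟩
  · rw [stdOct, mem_maskSet] at hp
    rw [hgp, hfix _ (oct_list p hp), dec_enc]
  · rw [hgp, enc_dec 4 (by norm_num), h4]
  · apply Equiv.ext
    intro p
    rw [Equiv.Perm.mul_apply, Equiv.Perm.one_apply, hgp, hgp]
    obtain ⟨h1, h2⟩ := checkInv_spec hm'.1.1 (enc p) (enc_lt p)
    rw [enc_dec _ h1, h2, dec_enc]

/-- The image of the point `4` determines an element of `K stdOct`. -/
theorem eq_of_image_eq (g h : Equiv.Perm GolayPt) (hg : g ∈ K stdOct) (hh : h ∈ K stdOct)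
    (h4 : g (dec 4) = h (dec 4)) : g = h := by
  rw [mem_K_iff] at hg hh
  have hk : h⁻¹ * g = 1 := by
    apply base7 _ (M24.mul_mem (M24.inv_mem hh.1) hg.1)
    intro p hp
    rw [mem_maskSet] at hp
    rw [Equiv.Perm.mul_apply, Equiv.Perm.inv_eq_iff_eq]
    rcases mask7_sub p hp with hp | rfl
    · have hpO : p ∈ stdOct := (mem_maskSet _ _).mpr hp
      rw [hg.2 p hpO, hh.2 p hpO]
    · exact h4
  rw [inv_mul_eq_one] at hk
  exact hk.symm

theorem image_four_not_oct (g : Equiv.Perm GolayPt) (hg : g ∈ K stdOct) :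
    octMask.testBit (enc (g (dec 4))) = false := by
  rw [mem_K_iff] at hg
  by_contra hcon
  rw [Bool.not_eq_false] at hcon
  have h1 := hg.2 (g (dec 4)) ((mem_maskSet _ _).mpr hcon)
  have h2 := g.injective h1
  rw [h2] at hcon
  rw [four_not_oct] at hcon
  exact Bool.false_ne_true hcon

theorem sq_eq_one_std (g : Equiv.Perm GolayPt) (hg : g ∈ K stdOct) : g * g = 1 := by
  obtain ⟨h, hh, h4, hsq⟩ := exists_elt (enc (g (dec 4))) (coOct_cases _ (image_four_not_oct g hg))
  rw [dec_enc] at h4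
  rw [eq_of_image_eq g h hg hh h4.symm]
  exact hsq

/-- The 16 points outside the standard octad. -/
def coTargets : Finset GolayPt :=
  ([4, 6, 7, 8, 9, 10, 11, 12, 13, 15, 16, 18, 19, 20, 21, 22].map dec).toFinset

theorem coTargets_card : coTargets.card = 16 := by decide

theorem card_std : Nat.card (K stdOct) = 16 := by
  let psi : K stdOct → GolayPt := fun g => (g : Equiv.Perm GolayPt) (dec 4)
  have hinj : Function.Injective psi := by
    intro g h hgh
    exact Subtype.ext (eq_of_image_eq g.1 h.1 g.2 h.2 hgh)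
  have hrange : Set.range psi = (coTargets : Set GolayPt) := by
    ext y
    constructor
    · rintro ⟨g, rfl⟩
      rw [Finset.mem_coe, coTargets, List.mem_toFinset, List.mem_map]
      exact ⟨enc (psi g), coOct_cases _ (image_four_not_oct g.1 g.2), dec_enc _⟩
    · intro hy
      rw [Finset.mem_coe, coTargets, List.mem_toFinset, List.mem_map] at hy
      obtain ⟨c, hc, rfl⟩ := hy
      obtain ⟨g, hg, h4, _⟩ := exists_elt c hc
      exact ⟨⟨g, hg⟩, h4⟩
  rw [← Nat.card_range_of_injective hinj, hrange, Nat.card_coe_set_eq, Set.ncard_coe_finset]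
  exact coTargets_card

theorem stdOct_mem : stdOct ∈ octads := by
  refine ⟨⟨toWord octMask, toWord_mem_of_inCode inCode_octMask, rfl⟩, ?_⟩
  show (support₂ (toWord octMask)).card = 8
  rw [card_support₂_toWord]
  decide

/-- Conjugation transports the pointwise stabiliser. -/
theorem K_smul (g : Equiv.Perm GolayPt) (hg : g ∈ M24) (o : Finset GolayPt) :
    (K o).map (MulAut.conj g).toMonoidHom = K (g • o) := by
  ext x
  rw [Subgroup.mem_map, mem_K_iff]
  constructor
  · rintro ⟨k, hk, rfl⟩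
    rw [mem_K_iff] at hk
    refine ⟨M24.mul_mem (M24.mul_mem hg hk.1) (M24.inv_mem hg), fun p hp => ?_⟩
    rw [Finset.mem_smul_finset] at hp
    obtain ⟨q, hq, rfl⟩ := hp
    show (g * k * g⁻¹) (g q) = g q
    simp only [Equiv.Perm.mul_apply, Equiv.Perm.inv_def, Equiv.symm_apply_apply]
    rw [hk.2 q hq]
  · rintro ⟨hx, hfix⟩
    refine ⟨g⁻¹ * x * g, ?_, ?_⟩
    · rw [mem_K_iff]
      refine ⟨M24.mul_mem (M24.mul_mem (M24.inv_mem hg) hx) hg, fun p hp => ?_⟩
      simp only [Equiv.Perm.mul_apply]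
      rw [hfix (g p) (Finset.smul_mem_smul_finset hp)]
      simp
    · show g * (g⁻¹ * x * g) * g⁻¹ = x
      group

/-- The pointwise stabiliser of an octad in the group of the length-24 code has order 16 and every element of it squares to the identity. -/
theorem result (o : Finset Cfsg.GolayPt) (ho : o ∈ Cfsg.octads) : Nat.card ↥(Cfsg.M24 ⊓ fixingSubgroup (Equiv.Perm Cfsg.GolayPt) (o : Set Cfsg.GolayPt)) = 16 ∧ ∀ g ∈ Cfsg.M24 ⊓ fixingSubgroup (Equiv.Perm Cfsg.GolayPt) (o : Set Cfsg.GolayPt), g * g = 1 := by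
  obtain ⟨g, hg⟩ := Cfsg.Agent.S0367.result stdOct o stdOct_mem ho
  have hgo : (g : Equiv.Perm GolayPt) • stdOct = o := hg
  have hK := K_smul g g.2 stdOct
  rw [hgo] at hK
  constructor
  · show Nat.card (K o) = 16
    rw [← hK]
    exact (Nat.card_congr
      ((MulAut.conj (g : Equiv.Perm GolayPt)).subgroupMap (K stdOct)).toEquiv.symm).trans card_std
  · intro x hx
    have hx' : x ∈ K o := hx
    rw [← hK, Subgroup.mem_map] at hx'
    obtain ⟨k, hk, rfl⟩ := hx'
    have := sq_eq_one_std k hk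
    show (g : Equiv.Perm GolayPt) * k * (g : Equiv.Perm GolayPt)⁻¹ *
      ((g : Equiv.Perm GolayPt) * k * (g : Equiv.Perm GolayPt)⁻¹) = 1
    calc (g : Equiv.Perm GolayPt) * k * (g : Equiv.Perm GolayPt)⁻¹ *
        ((g : Equiv.Perm GolayPt) * k * (g : Equiv.Perm GolayPt)⁻¹)
        = (g : Equiv.Perm GolayPt) * (k * k) * (g : Equiv.Perm GolayPt)⁻¹ := by group
      _ = 1 := by rw [this]; group

end Cfsg.Agent.S0381
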