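import Cfsg.Statements.S0358

set_option autoImplicit false
open Cfsg

namespace Cfsg.Agent.S0358

/-- The candidate basis: the first eleven translates of the square word, and the all-ones word. -/
def bvec (j : Fin 12) : GolayPt → ZMod 2 :=
  if j.val < 11 then qrWord (j.val : ZMod 23) else 1

/-- Inverse of the 12 × 12 matrix of the values of the basis words at the points `0, ..., 11`. -/
def minv : Fin 12 → Fin 12 → ZMod 2 :=
  ![![1, 0, 0, 1, 0, 1, 0, 1, 0, 1, 1, 1],
    ![0, 0, 0, 1, 1, 0, 0, 0, 1, 0, 0, 0],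
    ![1, 0, 0, 1, 1, 0, 0, 1, 0, 0, 1, 1],
    ![0, 0, 0, 1, 1, 1, 1, 0, 1, 0, 1, 0],
    ![0, 1, 0, 1, 1, 1, 0, 1, 0, 1, 1, 1],
    ![1, 1, 1, 0, 1, 0, 0, 1, 1, 1, 1, 1],
    ![1, 0, 1, 1, 0, 0, 1, 1, 1, 0, 1, 1],
    ![0, 0, 0, 0, 1, 0, 1, 1, 1, 1, 1, 0],
    ![1, 1, 0, 0, 0, 0, 1, 0, 1, 0, 1, 0],
    ![1, 0, 1, 0, 0, 1, 1, 0, 0, 0, 0, 0],
    ![1, 1, 0, 0, 0, 1, 1, 0, 0, 1, 1, 1],
    ![1, 0, 1, 0, 0, 1, 0, 0, 0, 1, 1, 1]]

/-- The dual functionals. -/
def dualFn (k : Fin 12) : (GolayPt → ZMod 2) →ₗ[ZMod 2] ZMod 2 where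
  toFun w := ∑ l : Fin 12, minv l k * w (some (l.val : ZMod 23))
  map_add' u v := by
    simp only [Pi.add_apply, mul_add, Finset.sum_add_distrib]
  map_smul' a u := by
    simp only [Pi.smul_apply, smul_eq_mul, RingHom.id_apply, Finset.mul_sum]
    apply Finset.sum_congr rfl
    intro l _
    ring

theorem dualFn_apply (k : Fin 12) (w : GolayPt → ZMod 2) :
    dualFn k w = ∑ l : Fin 12, minv l k * w (some (l.val : ZMod 23)) := rfl

set_option maxRecDepth 100000 in
theorem dual_basis : ∀ j k : Fin 12, dualFn k (bvec j) = if j = k then 1 else 0 := by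
  decide

theorem bvec_indep : LinearIndependent (ZMod 2) bvec := by
  rw [Fintype.linearIndependent_iff]
  intro g hg k
  have := congrArg (dualFn k) hg
  rw [map_sum, map_zero] at this
  simp only [map_smul, dual_basis, smul_eq_mul, mul_ite, mul_one, mul_zero, Finset.sum_ite_eq',
    Finset.mem_univ, if_true] at this
  exact this

set_option maxRecDepth 100000 in
theorem qr_expand :
    qrWord 11 = qrWord 0 + qrWord 1 + qrWord 5 + qrWord 6 + qrWord 7 + qrWord 9 ∧
    qrWord 12 = qrWord 1 + qrWord 2 + qrWord 6 + qrWord 7 + qrWord 8 + qrWord 10 ∧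
    qrWord 13 = qrWord 0 + qrWord 1 + qrWord 2 + qrWord 3 + qrWord 5 + qrWord 6 + qrWord 8 ∧
    qrWord 14 = qrWord 1 + qrWord 2 + qrWord 3 + qrWord 4 + qrWord 6 + qrWord 7 + qrWord 9 ∧
    qrWord 15 = qrWord 2 + qrWord 3 + qrWord 4 + qrWord 5 + qrWord 7 + qrWord 8 + qrWord 10 ∧
    qrWord 16 = qrWord 0 + qrWord 1 + qrWord 3 + qrWord 4 + qrWord 7 + qrWord 8 ∧
    qrWord 17 = qrWord 1 + qrWord 2 + qrWord 4 + qrWord 5 + qrWord 8 + qrWord 9 ∧
    qrWord 18 = qrWord 2 + qrWord 3 + qrWord 5 + qrWord 6 + qrWord 9 + qrWord 10 ∧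
    qrWord 19 = qrWord 0 + qrWord 1 + qrWord 3 + qrWord 4 + qrWord 5 + qrWord 9 + qrWord 10 ∧
    qrWord 20 = qrWord 0 + qrWord 2 + qrWord 4 + qrWord 7 + qrWord 9 + qrWord 10 ∧
    qrWord 21 = qrWord 0 + qrWord 3 + qrWord 6 + qrWord 7 + qrWord 8 + qrWord 9 + qrWord 10 ∧
    qrWord 22 = qrWord 0 + qrWord 4 + qrWord 5 + qrWord 6 + qrWord 8 + qrWord 10 := by
  decide

theorem bvec_qr (j : Fin 12) (hj : j.val < 11) : bvec j = qrWord (j.val : ZMod 23) := by
  unfold bvec; rw [if_pos hj]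

theorem qr_low_mem : ∀ t : Fin 11, qrWord (t.val : ZMod 23) ∈ Submodule.span (ZMod 2) (Set.range bvec) := by
  intro t
  apply Submodule.subset_span
  exact ⟨⟨t.val, by omega⟩, bvec_qr ⟨t.val, by omega⟩ t.2⟩

theorem span_eq : golayCode = Submodule.span (ZMod 2) (Set.range bvec) := by
  apply le_antisymm
  · unfold golayCode
    rw [Submodule.span_le]
    rintro w (⟨t, rfl⟩ | hw)
    · -- qrWord t
      set S := Submodule.span (ZMod 2) (Set.range bvec) with hS
      have q0 : qrWord 0 ∈ S := qr_low_mem 0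
      have q1 : qrWord 1 ∈ S := qr_low_mem 1
      have q2 : qrWord 2 ∈ S := qr_low_mem 2
      have q3 : qrWord 3 ∈ S := qr_low_mem 3
      have q4 : qrWord 4 ∈ S := qr_low_mem 4
      have q5 : qrWord 5 ∈ S := qr_low_mem 5
      have q6 : qrWord 6 ∈ S := qr_low_mem 6
      have q7 : qrWord 7 ∈ S := qr_low_mem 7
      have q8 : qrWord 8 ∈ S := qr_low_mem 8
      have q9 : qrWord 9 ∈ S := qr_low_mem 9
      have q10 : qrWord 10 ∈ S := qr_low_mem 10
      obtain ⟨e11, e12, e13, e14, e15, e16, e17, e18, e19, e20, e21, e22⟩ := qr_expand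
      show qrWord t ∈ S
      fin_cases t
      · exact q0
      · exact q1
      · exact q2
      · exact q3
      · exact q4
      · exact q5
      · exact q6
      · exact q7
      · exact q8
      · exact q9
      · exact q10
      · show qrWord 11 ∈ S
        rw [e11]; exact S.add_mem (S.add_mem (S.add_mem (S.add_mem (S.add_mem q0 q1) q5) q6) q7) q9
      · show qrWord 12 ∈ S
        rw [e12]; exact S.add_mem (S.add_mem (S.add_mem (S.add_mem (S.add_mem q1 q2) q6) q7) q8) q10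
      · show qrWord 13 ∈ S
        rw [e13]; exact S.add_mem (S.add_mem (S.add_mem (S.add_mem (S.add_mem (S.add_mem q0 q1) q2) q3) q5) q6) q8
      · show qrWord 14 ∈ S
        rw [e14]; exact S.add_mem (S.add_mem (S.add_mem (S.add_mem (S.add_mem (S.add_mem q1 q2) q3) q4) q6) q7) q9
      · show qrWord 15 ∈ S
        rw [e15]; exact S.add_mem (S.add_mem (S.add_mem (S.add_mem (S.add_mem (S.add_mem q2 q3) q4) q5) q7) q8) q10
      · show qrWord 16 ∈ S
        rw [e16]; exact S.add_mem (S.add_mem (S.add_mem (S.add_mem (S.add_mem q0 q1) q3) q4) q7) q8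
      · show qrWord 17 ∈ S
        rw [e17]; exact S.add_mem (S.add_mem (S.add_mem (S.add_mem (S.add_mem q1 q2) q4) q5) q8) q9
      · show qrWord 18 ∈ S
        rw [e18]; exact S.add_mem (S.add_mem (S.add_mem (S.add_mem (S.add_mem q2 q3) q5) q6) q9) q10
      · show qrWord 19 ∈ S
        rw [e19]; exact S.add_mem (S.add_mem (S.add_mem (S.add_mem (S.add_mem (S.add_mem q0 q1) q3) q4) q5) q9) q10
      · show qrWord 20 ∈ S
        rw [e20]; exact S.add_mem (S.add_mem (S.add_mem (S.add_mem (S.add_mem q0 q2) q4) q7) q9) q10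
      · show qrWord 21 ∈ S
        rw [e21]; exact S.add_mem (S.add_mem (S.add_mem (S.add_mem (S.add_mem (S.add_mem q0 q3) q6) q7) q8) q9) q10
      · show qrWord 22 ∈ S
        rw [e22]; exact S.add_mem (S.add_mem (S.add_mem (S.add_mem (S.add_mem q0 q4) q5) q6) q8) q10
    · rw [Set.mem_singleton_iff] at hw
      subst hw
      apply Submodule.subset_span
      refine ⟨⟨11, by omega⟩, ?_⟩
      unfold bvec
      rw [if_neg (by simp)]
  · rw [Submodule.span_le]
    rintro w ⟨j, rfl⟩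
    unfold bvec
    split_ifs
    · exact Submodule.subset_span (Set.mem_union_left _ ⟨_, rfl⟩)
    · exact Submodule.subset_span (Set.mem_union_right _ rfl)

theorem result : Module.finrank (ZMod 2) Cfsg.golayCode = 12 := by
  rw [span_eq, finrank_span_eq_card bvec_indep]
  rfl

end Cfsg.Agent.S0358
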