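import Cfsg.Statements.S5550
import Cfsg.Agent.Lib.Helper26_OctStabThms
import Cfsg.Agent.Lib.Helper93_GolayConcrete

set_option autoImplicit false
open Cfsg
open scoped Pointwise

namespace Cfsg.Agent.S5550

open Cfsg.Agent.Lib.Helper7_M24 Cfsg.Agent.Lib.Helper26_Golay

/-! ### coset leaders -/

theorem add_self_word (x : GolayPt → ZMod 2) : x + x = 0 := by
  funext p
  simp only [Pi.add_apply, Pi.zero_apply]
  generalize x p = b
  revert b
  decide

/-- Every word outside the code is congruent modulo the code to a nonzero word of weight at most 4. -/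
theorem exists_leader (w : GolayPt → ZMod 2) (hw : w ∉ golayCode) :
    ∃ v : GolayPt → ZMod 2, v + w ∈ golayCode ∧ (support₂ v).Nonempty ∧ (support₂ v).card ≤ 4 := by
  have hC := Cfsg.Agent.Lib.Helper93_GolayConcrete.golayLike
  have key : ∃ u : GolayPt → ZMod 2, u - w ∈ golayCode ∧ hammingNorm u ≤ 4 := by
    rcases Cfsg.Agent.Lib.Helper93_Code24.coset_dichotomy hC w with ⟨u, hu, hu3⟩ | h6
    · exact ⟨u, hu, by omega⟩
    · have hne : {u : GolayPt → ZMod 2 | u - w ∈ golayCode ∧ hammingNorm u ≤ 4}.Nonempty := by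
        apply Set.nonempty_of_ncard_ne_zero
        rw [h6]; norm_num
      obtain ⟨u, hu⟩ := hne
      exact ⟨u, hu.1, hu.2⟩
  obtain ⟨u, hu, hu4⟩ := key
  rw [Cfsg.Agent.Lib.Helper93_Code24.sub_eq_add'] at hu
  refine ⟨u, hu, ?_, hu4⟩
  rw [Finset.nonempty_iff_ne_empty]
  intro h
  have h0 : u = 0 := (Cfsg.Agent.Lib.Helper93_Code24.supp_eq_empty_iff u).mp h
  rw [h0, zero_add] at hu
  exact hw hu

/-! ### enumeration of the sets of at most four points -/

/-- The bitmask with bits `a, b, c, d`. -/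
def mask4 (a b c d : ℕ) : ℕ := 2 ^ a ||| 2 ^ b ||| 2 ^ c ||| 2 ^ d

theorem sorted4 (N : Finset ℕ) (hne : N.Nonempty) (h4 : N.card ≤ 4) :
    ∃ a b c d, b ≤ a ∧ c ≤ b ∧ d ≤ c ∧ N = {a, b, c, d} := by
  have hl := Finset.length_sort (s := N) (r := fun x y => x ≥ y)
  have hp := Finset.pairwise_sort (s := N) (r := fun x y => x ≥ y)
  have ht := Finset.sort_toFinset (s := N) (r := fun x y => x ≥ y)
  have hpos : 0 < N.card := Finset.card_pos.mpr hne
  generalize N.sort (fun x y => x ≥ y) = L at hl hp ht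
  match L, hl, hp, ht with
  | [], hl, _, _ =>
    exfalso
    simp at hl
    omega
  | [a], _, _, ht =>
    refine ⟨a, a, a, a, le_rfl, le_rfl, le_rfl, ?_⟩
    rw [← ht]; simp
  | [a, b], _, hp, ht =>
    simp only [List.pairwise_cons, List.mem_cons, forall_eq_or_imp,
      List.not_mem_nil, IsEmpty.forall_iff, implies_true, List.Pairwise.nil, and_true] at hp
    refine ⟨a, b, b, b, hp, le_rfl, le_rfl, ?_⟩
    rw [← ht]; simp
  | [a, b, c], _, hp, ht =>
    simp only [List.pairwise_cons, List.mem_cons, forall_eq_or_imp,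
      List.not_mem_nil, IsEmpty.forall_iff, implies_true, List.Pairwise.nil, and_true] at hp
    refine ⟨a, b, c, c, hp.1.1, hp.2, le_rfl, ?_⟩
    rw [← ht]; simp
  | [a, b, c, d], _, hp, ht =>
    simp only [List.pairwise_cons, List.mem_cons, forall_eq_or_imp,
      List.not_mem_nil, IsEmpty.forall_iff, implies_true, List.Pairwise.nil, and_true] at hp
    refine ⟨a, b, c, d, hp.1.1, hp.2.1.1, hp.2.2, ?_⟩
    rw [← ht]; simp
  | _ :: _ :: _ :: _ :: _ :: _, hl, _, _ =>
    exfalso
    simp at hl
    omega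

theorem enc_eq_mask4 (s : Finset GolayPt) (a b c d : ℕ) (h : s.image idx = {a, b, c, d}) :
    enc s = mask4 a b c d := by
  apply Nat.eq_of_testBit_eq
  intro i
  rw [Bool.eq_iff_iff, testBit_enc]
  have h1 : (∃ p ∈ s, idx p = i) ↔ i ∈ s.image idx := by rw [Finset.mem_image]
  rw [h1, h]
  simp only [mask4, Nat.testBit_or, Nat.testBit_two_pow, Bool.or_eq_true, decide_eq_true_eq,
    Finset.mem_insert, Finset.mem_singleton]
  constructor <;> intro h <;> omega

theorem exists_mask4 (s : Finset GolayPt) (hne : s.Nonempty) (h4 : s.card ≤ 4) :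
    ∃ a b c d, a < 24 ∧ b ≤ a ∧ c ≤ b ∧ d ≤ c ∧ enc s = mask4 a b c d := by
  have hne' : (s.image idx).Nonempty := hne.image idx
  have h4' : (s.image idx).card ≤ 4 := le_trans Finset.card_image_le h4
  obtain ⟨a, b, c, d, hba, hcb, hdc, hN⟩ := sorted4 _ hne' h4'
  refine ⟨a, b, c, d, ?_, hba, hcb, hdc, enc_eq_mask4 s a b c d hN⟩
  have : a ∈ s.image idx := by rw [hN]; simp
  obtain ⟨p, _, rfl⟩ := Finset.mem_image.mp this
  exact idx_lt p

/-! ### the finite check -/

/-- One of the two generators moves the word `v` out of its coset. -/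
def testV (TT v : ℕ) : Bool :=
  !(isCodeF (permMask (get120 TT 0) v ^^^ v)) || !(isCodeF (permMask (get120 TT 1) v ^^^ v))

/-- The check for all nonempty sets of at most four points. -/
def chkAll (TT : ℕ) : Bool :=
  allFold (fun a => allFold (fun b => allFold (fun c => allFold (fun d =>
    testV TT (mask4 a b c d)) (c + 1)) (b + 1)) (a + 1)) 24

set_option maxRecDepth 100000 in
theorem chkOct : chkAll octStabGens = true := by decide +kernel

set_option maxRecDepth 100000 in
theorem chkDod : chkAll dodStabGens = true := by decide +kernel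

theorem testV_of_chkAll (TT : ℕ) (h : chkAll TT = true) (s : Finset GolayPt) (hne : s.Nonempty)
    (h4 : s.card ≤ 4) : testV TT (enc s) = true := by
  obtain ⟨a, b, c, d, ha, hba, hcb, hdc, henc⟩ := exists_mask4 s hne h4
  unfold chkAll at h
  rw [allFold_eq_true] at h
  have h1 := h a ha
  rw [allFold_eq_true] at h1
  have h2 := h1 b (by omega)
  rw [allFold_eq_true] at h2
  have h3 := h2 c (by omega)
  rw [allFold_eq_true] at h3
  have h5 := h3 d (by omega)
  rw [henc]
  exact h5

/-! ### from bitmasks to words -/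

theorem mem_iff_isCode {σ : Equiv.Perm GolayPt} {T : ℕ} (hT : Represents σ T)
    (v : GolayPt → ZMod 2) :
    permWord σ v + v ∈ golayCode ↔
      isCode (permMask T (enc (support₂ v)) ^^^ enc (support₂ v)) = true := by
  rw [mem_golayCode_iff, Cfsg.Agent.Lib.Helper8_GolayEven.support_add, support₂_permWord,
    enc_symmDiff, enc_smul hT]

/-- The stabilizer of `S0`, generated (at least) by two tables passing the check, fixes no nonzero
element of the quotient by the code. -/
theorem standard (S0 : Finset GolayPt) (TT : ℕ)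
    (hg : GensIn (M24 ⊓ MulAction.stabilizer (Equiv.Perm GolayPt) S0) TT 2)
    (hchk : chkAll TT = true) (w : GolayPt → ZMod 2) (hw : w ∉ golayCode) :
    ∃ σ ∈ M24, σ • S0 = S0 ∧ permWord σ w + w ∉ golayCode := by
  obtain ⟨v, hvw, hne, h4⟩ := exists_leader w hw
  have ht := testV_of_chkAll TT hchk (support₂ v) hne h4
  unfold testV at ht
  rw [Bool.or_eq_true, Bool.not_eq_true', Bool.not_eq_true', isCodeF_eq, isCodeF_eq] at ht
  have main : ∀ k < 2, isCode (permMask (get120 TT k) (enc (support₂ v)) ^^^ enc (support₂ v)) = false →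
      ∃ σ ∈ M24, σ • S0 = S0 ∧ permWord σ w + w ∉ golayCode := by
    intro k hk hfalse
    obtain ⟨σ, hσ, hT⟩ := hg k hk
    have hσ' := Subgroup.mem_inf.mp hσ
    refine ⟨σ, hσ'.1, MulAction.mem_stabilizer_iff.mp hσ'.2, ?_⟩
    intro hmem
    have h1 : permWord σ (v + w) + (v + w) ∈ golayCode :=
      golayCode.add_mem (permWord_mem_of_mem_M24 hσ'.1 hvw) hvw
    have h2 : permWord σ v + v = (permWord σ w + w) + (permWord σ (v + w) + (v + w)) := by
      rw [map_add]
      have e1 := add_self_word (permWord σ w)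
      have e2 := add_self_word w
      calc permWord σ v + v = permWord σ v + v + 0 + 0 := by rw [add_zero, add_zero]
        _ = permWord σ v + v + (permWord σ w + permWord σ w) + (w + w) := by rw [e1, e2]
        _ = _ := by abel
    have h3 : permWord σ v + v ∈ golayCode := by
      rw [h2]; exact golayCode.add_mem hmem h1
    rw [mem_iff_isCode hT, hfalse] at h3
    exact absurd h3 (by simp)
  rcases ht with ht | ht
  · exact main 0 (by norm_num) ht
  · exact main 1 (by norm_num) ht

/-- Transport along an element of `M24`. -/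
theorem general (S0 : Finset GolayPt)
    (hstd : ∀ w : GolayPt → ZMod 2, w ∉ golayCode →
      ∃ σ ∈ M24, σ • S0 = S0 ∧ permWord σ w + w ∉ golayCode)
    (g : Equiv.Perm GolayPt) (hg : g ∈ M24) (w : GolayPt → ZMod 2) (hw : w ∉ golayCode) :
    ∃ σ ∈ M24, σ • (g • S0) = g • S0 ∧ permWord σ w + w ∉ golayCode := by
  have hginv : g⁻¹ ∈ M24 := M24.inv_mem hg
  have hw' : permWord g⁻¹ w ∉ golayCode := by
    intro h
    apply hw
    have := permWord_mem_of_mem_M24 hg h
    rw [← permWord_mul, mul_inv_cancel, permWord_one] at this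
    exact this
  obtain ⟨σ0, hσ0, hS0, hn⟩ := hstd _ hw'
  refine ⟨g * σ0 * g⁻¹, M24.mul_mem (M24.mul_mem hg hσ0) hginv, ?_, ?_⟩
  · rw [mul_smul, mul_smul, inv_smul_smul, hS0]
  · intro h
    apply hn
    have h1 := permWord_mem_of_mem_M24 hginv h
    rw [map_add, ← permWord_mul] at h1
    have e : g⁻¹ * (g * σ0 * g⁻¹) = σ0 * g⁻¹ := by group
    rw [e, permWord_mul] at h1
    exact h1

theorem permWord_eq_of_smul (σ : Equiv.Perm GolayPt) (u : GolayPt → ZMod 2)
    (h : σ • support₂ u = support₂ u) : permWord σ u = u := by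
  apply support₂_injective
  rw [support₂_permWord, h]

theorem stdOct (w : GolayPt → ZMod 2) (hw : w ∉ golayCode) :
    ∃ σ ∈ M24, σ • oct0 = oct0 ∧ permWord σ w + w ∉ golayCode :=
  standard oct0 octStabGens octStabGens_in chkOct w hw

theorem stdDod (w : GolayPt → ZMod 2) (hw : w ∉ golayCode) :
    ∃ σ ∈ M24, σ • dod0 = dod0 ∧ permWord σ w + w ∉ golayCode :=
  standard dod0 dodStabGens dodStabGens_in chkDod w hw

theorem main (u : GolayPt → ZMod 2) (hu : u ∈ golayCode) (w : GolayPt → ZMod 2)
    (hw : w ∉ golayCode) : ∃ σ ∈ M24, permWord σ u = u ∧ permWord σ w + w ∉ golayCode := by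
  have hs : support₂ u ∈ supports (golayCode : Set (GolayPt → ZMod 2)) := ⟨u, hu, rfl⟩
  rcases card_of_mem_supports hs with h | h | h | h | h
  · obtain ⟨σ, hσ, _, hn⟩ := stdOct w hw
    refine ⟨σ, hσ, permWord_eq_of_smul σ u ?_, hn⟩
    rw [h, Finset.smul_finset_empty]
  · have ho : support₂ u ∈ octads := ⟨hs, h⟩
    obtain ⟨g, hg, hgo⟩ := exists_smul_oct0_eq ho
    obtain ⟨σ, hσ, hS, hn⟩ := general oct0 stdOct g hg w hw
    rw [hgo] at hS
    exact ⟨σ, hσ, permWord_eq_of_smul σ u hS, hn⟩
  · have ho : support₂ u ∈ dodecads := ⟨hs, h⟩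
    obtain ⟨g, hg, hgo⟩ := exists_smul_dod0_eq ho
    obtain ⟨σ, hσ, hS, hn⟩ := general dod0 stdDod g hg w hw
    rw [hgo] at hS
    exact ⟨σ, hσ, permWord_eq_of_smul σ u hS, hn⟩
  · -- the complement is an octad
    have h1 : u + 1 ∈ golayCode := golayCode.add_mem hu one_mem
    have hsupp : support₂ (u + 1) = Finset.univ \ support₂ u := by
      ext p
      rw [Finset.mem_sdiff, mem_support₂, mem_support₂]
      simp only [Finset.mem_univ, true_and, Pi.add_apply, Pi.one_apply]
      generalize u p = b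
      revert b
      decide
    have hcard : (Finset.univ \ support₂ u).card = 8 := by
      rw [Finset.card_sdiff_of_subset (Finset.subset_univ _), h]
      decide
    have ho : Finset.univ \ support₂ u ∈ octads := ⟨⟨u + 1, h1, hsupp⟩, hcard⟩
    obtain ⟨g, hg, hgo⟩ := exists_smul_oct0_eq ho
    obtain ⟨σ, hσ, hS, hn⟩ := general oct0 stdOct g hg w hw
    rw [hgo] at hS
    refine ⟨σ, hσ, permWord_eq_of_smul σ u ?_, hn⟩
    have h2 : support₂ u = Finset.univ \ (Finset.univ \ support₂ u) :=
      (Finset.sdiff_sdiff_eq_self (Finset.subset_univ _)).symm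
    rw [h2, Finset.smul_finset_sdiff, Finset.smul_finset_univ, hS]
  · obtain ⟨σ, hσ, _, hn⟩ := stdOct w hw
    refine ⟨σ, hσ, permWord_eq_of_smul σ u ?_, hn⟩
    rw [h, Finset.smul_finset_univ]

/-- Let u be a word of the length-24 binary Golay code of the definitions (possibly zero or all-ones) and w any binary word of length 24 outside the code. Then some automorphism of the code (a coordinate permutation preserving it) fixes u but moves w to a word not congruent to w modulo the code: the stabilizer of a codeword fixes no non-zero element of the quotient of the space of all words by the code. -/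
theorem result (u : (Cfsg.GolayPt → ZMod 2)) (hu : u ∈ Cfsg.golayCode) (w : (Cfsg.GolayPt → ZMod 2)) (hw : w ∉ Cfsg.golayCode) : ∃ σ ∈ Cfsg.M24, (fun p => u (σ.symm p)) = u ∧ (fun p => w (σ.symm p)) - w ∉ Cfsg.golayCode := by
  obtain ⟨σ, hσ, h1, h2⟩ := main u hu w hw
  refine ⟨σ, hσ, h1, ?_⟩
  rw [Cfsg.Agent.Lib.Helper93_Code24.sub_eq_add']
  exact h2

end Cfsg.Agent.S5550
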