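import Cfsg.Statements.S5548
import Cfsg.Agent.S5550
import Cfsg.Agent.S0366

set_option autoImplicit false
open Cfsg
open scoped Pointwise

namespace Cfsg.Agent.S5548

open Cfsg.Agent.Lib.Helper7_M24 Cfsg.Agent.Lib.Helper26_Golay

/-! ### the pointwise stabilizer of five points -/

/-- Two elements of `M24` fixing the five base points `∞, 0, 1, 2, 3` (packed tables). -/
def f5Gens : ℕ := 0xba64d4562f83a87312d362caa18820bc12ba18ad946c79b11553dc418820

/-- A table fixes the five base points. -/
def fixesBase (T : ℕ) : Bool :=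
  (img T 23 == 23) && (img T 0 == 0) && (img T 1 == 1) && (img T 2 == 2) && (img T 3 == 3)

theorem f5Gens_ok :
    allFold (fun k => tblInM24 (get120 f5Gens k) && fixesBase (get120 f5Gens k)) 2 = true := by
  decide +kernel

/-- Bitmask of the five base points. -/
def baseM : ℕ := 2 ^ 23 + 15

/-- Bitmask of the three further points of the octad through the base points. -/
def t0M : ℕ := 2 ^ 5 + 2 ^ 14 + 2 ^ 17

/-- The five base points. -/
def base5 : Finset GolayPt := dec baseM

theorem enc_base5 : enc base5 = baseM := enc_dec _ (by norm_num [baseM])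

theorem card_base5 : base5.card = 5 := by
  rw [card_eq_pop, enc_base5]; decide

theorem baseEmb_mem (i : Fin 5) : S0366.baseEmb i ∈ base5 := by
  revert i; decide

theorem idx_of_mem_base5 : ∀ p : GolayPt, p ∈ base5 →
    idx p = 23 ∨ idx p = 0 ∨ idx p = 1 ∨ idx p = 2 ∨ idx p = 3 := by decide

/-- The test for a set `R` (as a bitmask): it meets the base, or has more than 3 points, or is the
rest of the base octad, or is moved by one of the two elements. -/
def testR (m : ℕ) : Bool :=
  (m &&& baseM != 0) || decide (3 < pop m) || (m == t0M) ||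
    (permMask (get120 f5Gens 0) m != m) || (permMask (get120 f5Gens 1) m != m)

def chkR : Bool :=
  allFold (fun a => allFold (fun b => allFold (fun c => allFold (fun d =>
    testR (S5550.mask4 a b c d)) (c + 1)) (b + 1)) (a + 1)) 24

set_option maxRecDepth 100000 in
theorem chkR_ok : chkR = true := by decide +kernel

theorem testR_enc (s : Finset GolayPt) (hne : s.Nonempty) (h4 : s.card ≤ 4) :
    testR (enc s) = true := by
  obtain ⟨a, b, c, d, ha, hba, hcb, hdc, henc⟩ := S5550.exists_mask4 s hne h4
  have h := chkR_ok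
  unfold chkR at h
  rw [allFold_eq_true] at h
  have h1 := h a ha
  rw [allFold_eq_true] at h1
  have h2 := h1 b (by omega)
  rw [allFold_eq_true] at h2
  have h3 := h2 c (by omega)
  rw [allFold_eq_true] at h3
  have h5 := h3 d (by omega)
  rw [henc]
  exact h5

theorem octM_lt : baseM ||| t0M < 2 ^ 24 := by decide

theorem octM_mem : dec (baseM ||| t0M) ∈ octads := by
  rw [mem_octads_iff, enc_dec _ octM_lt, mem_octList_iff]
  decide +kernel

/-- Base case: a small set disjoint from the base points, which does not complete them to an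
octad, is moved by an element of `M24` fixing the base points. -/
theorem move_base (R : Finset GolayPt) (hd : Disjoint base5 R) (hne : R.Nonempty)
    (h3 : R.card ≤ 3) (hno : base5 ∪ R ∉ octads) :
    ∃ τ ∈ M24, (∀ b ∈ base5, τ b = b) ∧ τ • R ≠ R := by
  have ht := testR_enc R hne (by omega)
  unfold testR at ht
  simp only [Bool.or_eq_true, bne_iff_ne, ne_eq, decide_eq_true_eq, beq_iff_eq] at ht
  have hgens := (allFold_eq_true _ _).mp f5Gens_ok
  have main : ∀ k < 2, permMask (get120 f5Gens k) (enc R) ≠ enc R →
      ∃ τ ∈ M24, (∀ b ∈ base5, τ b = b) ∧ τ • R ≠ R := by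
    intro k hk hmove
    have hk' := hgens k hk
    rw [Bool.and_eq_true] at hk'
    obtain ⟨τ, hτ, hT⟩ := exists_of_tblInM24 hk'.1
    refine ⟨τ, hτ, ?_, ?_⟩
    · intro b hb
      have hfix := hk'.2
      unfold fixesBase at hfix
      simp only [Bool.and_eq_true, beq_iff_eq] at hfix
      apply idx_injective
      rw [hT b]
      rcases idx_of_mem_base5 b hb with h | h | h | h | h <;> rw [h]
      · exact hfix.1.1.1.1
      · exact hfix.1.1.1.2
      · exact hfix.1.1.2
      · exact hfix.1.2
      · exact hfix.2
    · intro h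
      apply hmove
      rw [← enc_smul hT, h]
  rcases ht with (((ht | ht) | ht) | ht) | ht
  · exfalso
    apply ht
    have := (disjoint_iff_enc base5 R).mp hd
    rw [enc_base5, Nat.land_comm] at this
    exact this
  · exfalso
    rw [← card_eq_pop] at ht
    omega
  · exfalso
    apply hno
    have : base5 ∪ R = dec (baseM ||| t0M) := by
      apply enc_injective
      rw [enc_union, enc_base5, ht, enc_dec _ octM_lt]
    rw [this]
    exact octM_mem
  · exact main 0 (by norm_num) ht
  · exact main 1 (by norm_num) ht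

/-- General case: transport by 5-transitivity. -/
theorem move_general (B5 R : Finset GolayPt) (hB : B5.card = 5) (hd : Disjoint B5 R)
    (hne : R.Nonempty) (h3 : R.card ≤ 3) (hno : B5 ∪ R ∉ octads) :
    ∃ σ ∈ M24, (∀ b ∈ B5, σ b = b) ∧ σ • R ≠ R := by
  let e : ↥B5 ≃ Fin 5 := Finset.equivFinOfCardEq hB
  let x : Fin 5 ↪ GolayPt := e.symm.toEmbedding.trans (Function.Embedding.subtype _)
  have hx : ∀ i, x i = ((e.symm i : ↥B5) : GolayPt) := fun i => rfl
  obtain ⟨g, hg⟩ := (MulAction.isMultiplyPretransitive_iff.mp S0366.result) x S0366.baseEmb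
  have hgx : ∀ i, (g : Equiv.Perm GolayPt) (x i) = S0366.baseEmb i := by
    intro i
    have := congrArg (fun f : Fin 5 ↪ GolayPt => f i) hg
    exact this
  set γ : Equiv.Perm GolayPt := (g : Equiv.Perm GolayPt) with hγ
  have hγM : γ ∈ M24 := g.2
  have hγB : ∀ b ∈ B5, γ b ∈ base5 := by
    intro b hb
    have hbx : b = x (e ⟨b, hb⟩) := by rw [hx, Equiv.symm_apply_apply]
    rw [hbx, hgx]
    exact baseEmb_mem _
  have hsmulB : γ • B5 = base5 := by
    apply Finset.eq_of_subset_of_card_le
    · intro p hp
      rw [Finset.mem_smul_finset] at hp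
      obtain ⟨b, hb, rfl⟩ := hp
      exact hγB b hb
    · rw [Finset.card_smul_finset, hB, card_base5]
  have hd' : Disjoint base5 (γ • R) := by
    rw [← hsmulB, Finset.disjoint_left]
    intro p hp1 hp2
    rw [Finset.mem_smul_finset] at hp1 hp2
    obtain ⟨b, hb, rfl⟩ := hp1
    obtain ⟨r, hr, hrb⟩ := hp2
    have : r = b := γ.injective hrb
    rw [this] at hr
    exact (Finset.disjoint_left.mp hd hb) hr
  have hne' : (γ • R).Nonempty := by
    obtain ⟨r, hr⟩ := hne
    exact ⟨γ • r, Finset.smul_mem_smul_finset hr⟩
  have h3' : (γ • R).card ≤ 3 := by rw [Finset.card_smul_finset]; exact h3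
  have hno' : base5 ∪ γ • R ∉ octads := by
    intro h
    apply hno
    have h1 := smul_mem_octads (M24.inv_mem hγM) h
    rw [← hsmulB, ← Finset.smul_finset_union, inv_smul_smul] at h1
    exact h1
  obtain ⟨τ, hτ, hτfix, hτR⟩ := move_base (γ • R) hd' hne' h3' hno'
  refine ⟨γ⁻¹ * τ * γ, M24.mul_mem (M24.mul_mem (M24.inv_mem hγM) hτ) hγM, ?_, ?_⟩
  · intro b hb
    rw [Equiv.Perm.mul_apply, Equiv.Perm.mul_apply, hτfix _ (hγB b hb)]
    simp
  · intro h
    apply hτR
    rw [mul_smul, mul_smul] at h
    have := congrArg (fun s => γ • s) h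
    simp only [smul_inv_smul] at this
    exact this

/-! ### descent of the weight -/

/-- The hypothesis on the subspace, in terms of `permWord`. -/
def Inv (W : Submodule (ZMod 2) (GolayPt → ZMod 2)) : Prop :=
  ∀ σ ∈ M24, ∀ w ∈ W, permWord σ w ∈ W

theorem eight_le (y : GolayPt → ZMod 2) (hy : y ∈ golayCode) (h0 : y ≠ 0) :
    8 ≤ (support₂ y).card :=
  Cfsg.Agent.Lib.Helper7_Code.eight_le_weight y hy h0

theorem descent (W : Submodule (ZMod 2) (GolayPt → ZMod 2)) (hW : Inv W)
    (x : GolayPt → ZMod 2) (hxW : x ∈ W) (hxC : x ∉ golayCode)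
    (hk3 : 3 ≤ (support₂ x).card) (hk8 : (support₂ x).card ≤ 8) :
    ∃ y ∈ W, y ∉ golayCode ∧ (support₂ y).card < (support₂ x).card := by
  set S := support₂ x with hS
  set k := S.card with hk
  -- the part to be moved
  obtain ⟨R, hRS, hRcard⟩ : ∃ R ⊆ S, R.card = if k ≤ 6 then 1 else k - 5 :=
    Finset.exists_subset_card_eq (by split_ifs <;> omega)
  have hR1 : 1 ≤ R.card := by rw [hRcard]; split_ifs <;> omega
  have hR3 : R.card ≤ 3 := by rw [hRcard]; split_ifs <;> omega
  have hR2k : 2 * R.card < k := by rw [hRcard]; split_ifs <;> omega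
  have hRne : R.Nonempty := Finset.card_pos.mp hR1
  -- the fixed part
  have hB'card : (S \ R).card = k - R.card := Finset.card_sdiff_of_subset hRS
  have hB'le : (S \ R).card ≤ 5 := by
    rw [hB'card, hRcard]; split_ifs <;> omega
  have hsub : S \ R ⊆ Finset.univ \ R := Finset.sdiff_subset_sdiff (Finset.subset_univ _) le_rfl
  have hcardc : 5 ≤ (Finset.univ \ R).card := by
    rw [Finset.card_sdiff_of_subset (Finset.subset_univ _)]
    have : (Finset.univ : Finset GolayPt).card = 24 := by decide
    omega
  obtain ⟨B5, hB'B5, hB5c, hB5card⟩ := Finset.exists_subsuperset_card_eq hsub hB'le hcardc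
  have hdisj : Disjoint B5 R := by
    rw [Finset.disjoint_left]
    intro p hp hpR
    have := hB5c hp
    rw [Finset.mem_sdiff] at this
    exact this.2 hpR
  -- `B5 ∪ R` is not an octad
  have hno : B5 ∪ R ∉ octads := by
    intro ho
    have hc8 : (B5 ∪ R).card = 8 := ho.2
    rw [Finset.card_union_of_disjoint hdisj, hB5card] at hc8
    have hR3' : R.card = 3 := by omega
    have hk8' : k = 8 := by
      rw [hRcard] at hR3'
      split_ifs at hR3' <;> omega
    have hB'5 : (S \ R).card = 5 := by rw [hB'card, hR3', hk8']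
    have hB'eq : S \ R = B5 := Finset.eq_of_subset_of_card_le hB'B5 (by rw [hB5card, hB'5])
    have hSeq : S = B5 ∪ R := by
      rw [← hB'eq, Finset.sdiff_union_of_subset hRS]
    obtain ⟨⟨c, hc, hcS⟩, _⟩ := ho
    have : c = x := by
      apply support₂_injective
      rw [hcS, ← hSeq]
    rw [this] at hc
    exact hxC hc
  obtain ⟨σ, hσ, hσfix, hσR⟩ := move_general B5 R hB5card hdisj hRne hR3 hno
  refine ⟨permWord σ x + x, W.add_mem (hW σ hσ x hxW) hxW, ?_, ?_⟩
  all_goals
    have hsupp : support₂ (permWord σ x + x) = symmDiff (σ • S) S := by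
      rw [Cfsg.Agent.Lib.Helper8_GolayEven.support_add, support₂_permWord]
    have hfixB' : ∀ p ∈ S \ R, σ p = p := fun p hp => hσfix p (hB'B5 hp)
    -- the symmetric difference lies in `σ • R ∪ R`
    have hsub2 : symmDiff (σ • S) S ⊆ σ • R ∪ R := by
      intro p hp
      rw [Finset.mem_symmDiff] at hp
      rw [Finset.mem_union]
      rcases hp with ⟨h1, h2⟩ | ⟨h1, h2⟩
      · left
        rw [Finset.mem_smul_finset] at h1 ⊢
        obtain ⟨q, hq, rfl⟩ := h1
        refine ⟨q, ?_, rfl⟩
        by_contra hqR
        have hq' : q ∈ S \ R := Finset.mem_sdiff.mpr ⟨hq, hqR⟩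
        apply h2
        have : σ • q = q := hfixB' q hq'
        rw [this]; exact hq
      · right
        by_contra hpR
        have hp' : p ∈ S \ R := Finset.mem_sdiff.mpr ⟨h1, hpR⟩
        apply h2
        rw [Finset.mem_smul_finset]
        exact ⟨p, h1, hfixB' p hp'⟩
    have hcard2 : (symmDiff (σ • S) S).card ≤ 2 * R.card := by
      refine le_trans (Finset.card_le_card hsub2) (le_trans (Finset.card_union_le _ _) ?_)
      rw [Finset.card_smul_finset]; omega
    -- and it is nonempty
    have hne2 : permWord σ x + x ≠ 0 := by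
      intro h0
      apply hσR
      have h1 : permWord σ x = x := by
        have := congrArg (fun z => z + x) h0
        simp only [add_assoc, S5550.add_self_word, add_zero, zero_add] at this
        exact this
      have h2 : σ • S = S := by rw [← support₂_permWord, h1]
      -- restrict to `R`
      ext p
      constructor
      · intro hp
        rw [Finset.mem_smul_finset] at hp
        obtain ⟨q, hq, rfl⟩ := hp
        have hqS : σ • q ∈ S := by
          rw [← h2]; exact Finset.smul_mem_smul_finset (hRS hq)
        by_contra hnR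
        have hq' : σ • q ∈ S \ R := Finset.mem_sdiff.mpr ⟨hqS, hnR⟩
        have h3 : σ (σ • q) = σ • q := hfixB' _ hq'
        have h4 : σ • q = q := σ.injective h3
        rw [h4] at hnR
        exact hnR hq
      · intro hp
        have hpS : p ∈ σ • S := by rw [h2]; exact hRS hp
        rw [Finset.mem_smul_finset] at hpS ⊢
        obtain ⟨q, hq, hqp⟩ := hpS
        refine ⟨q, ?_, hqp⟩
        by_contra hqR
        have hq' : q ∈ S \ R := Finset.mem_sdiff.mpr ⟨hq, hqR⟩
        have : σ • q = q := hfixB' q hq'
        rw [this] at hqp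
        rw [hqp] at hqR
        exact hqR hp
  · intro hmem
    have := eight_le _ hmem hne2
    rw [hsupp] at this
    omega
  · rw [hsupp]
    omega

/-- An invariant subspace not inside the code contains a word of weight 1 or 2 outside the code. -/
theorem exists_small (W : Submodule (ZMod 2) (GolayPt → ZMod 2)) (hW : Inv W) :
    ∀ n : ℕ, ∀ x : GolayPt → ZMod 2, x ∈ W → x ∉ golayCode → (support₂ x).card = n → n ≤ 8 →
      ∃ y ∈ W, y ∉ golayCode ∧ (support₂ y).card ≤ 2 := by
  intro n
  induction n using Nat.strong_induction_on with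
  | _ n ih =>
    intro x hxW hxC hn hn8
    by_cases h2 : n ≤ 2
    · exact ⟨x, hxW, hxC, by omega⟩
    · obtain ⟨y, hyW, hyC, hlt⟩ := descent W hW x hxW hxC (by omega) (by omega)
      rw [hn] at hlt
      exact ih _ hlt y hyW hyC rfl (by omega)

/-- From a word of the subspace outside the code to one of weight at most 8. -/
theorem exists_weight8 (W : Submodule (ZMod 2) (GolayPt → ZMod 2)) (hW : Inv W)
    (w : GolayPt → ZMod 2) (hwW : w ∈ W) (hwC : w ∉ golayCode) :
    ∃ x ∈ W, x ∉ golayCode ∧ (support₂ x).card ≤ 8 := by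
  obtain ⟨v, hvw, _, h4⟩ := S5550.exists_leader w hwC
  obtain ⟨σ, hσ, hfix, hn⟩ := S5550.main (v + w) hvw w hwC
  refine ⟨permWord σ w + w, W.add_mem (hW σ hσ w hwW) hwW, hn, ?_⟩
  have heq : permWord σ w + w = permWord σ v + v := by
    rw [map_add] at hfix
    have e1 := S5550.add_self_word (permWord σ v)
    have e2 := S5550.add_self_word w
    calc permWord σ w + w = (permWord σ v + permWord σ v) + permWord σ w + w := by
          rw [e1, zero_add]
      _ = permWord σ v + (permWord σ v + permWord σ w) + w := by abel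
      _ = permWord σ v + (v + w) + w := by rw [hfix]
      _ = permWord σ v + v + (w + w) := by abel
      _ = permWord σ v + v := by rw [e2, add_zero]
  rw [heq, Cfsg.Agent.Lib.Helper8_GolayEven.support_add, support₂_permWord]
  have h1 : (symmDiff (σ • support₂ v) (support₂ v)).card ≤ (σ • support₂ v ∪ support₂ v).card := by
    apply Finset.card_le_card
    intro p hp
    rw [Finset.mem_symmDiff] at hp
    rw [Finset.mem_union]
    rcases hp with h | h
    · exact Or.inl h.1
    · exact Or.inr h.1
  have h2 := Finset.card_union_le (σ • support₂ v) (support₂ v)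
  rw [Finset.card_smul_finset] at h2
  omega

/-! ### transitivity on points and pairs -/

theorem two_trans (a b c d : GolayPt) (hab : a ≠ b) (hcd : c ≠ d) :
    ∃ σ ∈ M24, σ a = c ∧ σ b = d := by
  have h5 := S0366.result
  have hcard : 5 ≤ Nat.card GolayPt := by
    rw [Nat.card_eq_fintype_card]; decide
  have h2 : MulAction.IsMultiplyPretransitive M24 GolayPt 2 :=
    MulAction.isMultiplyPretransitive_of_le (n := 5) (by norm_num) hcard
  let x : Fin 2 ↪ GolayPt := ⟨![a, b], by
    intro i j h
    fin_cases i <;> fin_cases j <;> simp_all⟩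
  let y : Fin 2 ↪ GolayPt := ⟨![c, d], by
    intro i j h
    fin_cases i <;> fin_cases j <;> simp_all⟩
  obtain ⟨g, hg⟩ := (MulAction.isMultiplyPretransitive_iff.mp h2) x y
  refine ⟨g.1, g.2, ?_, ?_⟩
  · have := congrArg (fun f : Fin 2 ↪ GolayPt => f 0) hg
    exact this
  · have := congrArg (fun f : Fin 2 ↪ GolayPt => f 1) hg
    exact this

theorem one_trans (a c : GolayPt) : ∃ σ ∈ M24, σ a = c := by
  obtain ⟨b, hb⟩ := exists_ne a
  obtain ⟨d, hd⟩ := exists_ne c
  obtain ⟨σ, hσ, h1, _⟩ := two_trans a b c d hb.symm hd.symm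
  exact ⟨σ, hσ, h1⟩

open Cfsg.Agent.Lib.Helper93_Code24 in
theorem permWord_ind (σ : Equiv.Perm GolayPt) (s : Finset GolayPt) :
    permWord σ (ind s) = ind (σ • s) := by
  apply support₂_injective
  rw [support₂_permWord]
  show σ • supp (ind s) = supp (ind (σ • s))
  rw [supp_ind, supp_ind]

open Cfsg.Agent.Lib.Helper93_Code24 in
/-- From a word of weight 1 or 2 to all words of weight 2. -/
theorem pairs_mem (W : Submodule (ZMod 2) (GolayPt → ZMod 2)) (hW : Inv W)
    (y : GolayPt → ZMod 2) (hyW : y ∈ W) (hyC : y ∉ golayCode) (h2 : (support₂ y).card ≤ 2) :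
    ∀ c d : GolayPt, c ≠ d → ind {c, d} ∈ W := by
  have hy : y = ind (support₂ y) := (ind_supp y).symm
  have h0 : (support₂ y).card ≠ 0 := by
    intro h
    apply hyC
    have : y = 0 := (supp_eq_empty_iff y).mp (Finset.card_eq_zero.mp h)
    rw [this]; exact golayCode.zero_mem
  have hcases : (support₂ y).card = 1 ∨ (support₂ y).card = 2 := by omega
  rcases hcases with h1 | h1
  · obtain ⟨a, ha⟩ := Finset.card_eq_one.mp h1
    have hsingle : ∀ c : GolayPt, ind {c} ∈ W := by
      intro c
      obtain ⟨σ, hσ, hσa⟩ := one_trans a c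
      have := hW σ hσ y hyW
      rw [hy, ha, permWord_ind, Finset.smul_finset_singleton] at this
      have e : σ • a = c := hσa
      rw [e] at this
      exact this
    intro c d hcd
    have : ind ({c, d} : Finset GolayPt) = ind {c} + ind {d} := by
      apply supp_injective
      rw [supp_add, supp_ind, supp_ind, supp_ind]
      ext p
      simp only [Finset.mem_insert, Finset.mem_singleton, Finset.mem_symmDiff]
      constructor
      · rintro (rfl | rfl)
        · exact Or.inl ⟨rfl, hcd⟩
        · exact Or.inr ⟨rfl, fun h => hcd h.symm⟩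
      · rintro (⟨h, _⟩ | ⟨h, _⟩)
        · exact Or.inl h
        · exact Or.inr h
    rw [this]
    exact W.add_mem (hsingle c) (hsingle d)
  · obtain ⟨a, b, hab, hS⟩ := Finset.card_eq_two.mp h1
    intro c d hcd
    obtain ⟨σ, hσ, hσa, hσb⟩ := two_trans a b c d hab hcd
    have := hW σ hσ y hyW
    rw [hy, hS, permWord_ind] at this
    have e : σ • ({a, b} : Finset GolayPt) = {c, d} := by
      ext p
      rw [Finset.mem_smul_finset]
      simp only [Finset.mem_insert, Finset.mem_singleton]
      constructor
      · rintro ⟨q, (rfl | rfl), rfl⟩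
        · exact Or.inl hσa
        · exact Or.inr hσb
      · rintro (rfl | rfl)
        · exact ⟨a, Or.inl rfl, hσa⟩
        · exact ⟨b, Or.inr rfl, hσb⟩
    rw [e] at this
    exact this

open Cfsg.Agent.Lib.Helper93_Code24 in
/-- A subspace containing all words of weight 2 contains all words of even weight. -/
theorem even_mem (W : Submodule (ZMod 2) (GolayPt → ZMod 2))
    (hpairs : ∀ c d : GolayPt, c ≠ d → ind {c, d} ∈ W) (e : GolayPt → ZMod 2)
    (he : ∑ p, e p = 0) : e ∈ W := by
  have hcard : Even (supp e).card := by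
    have h1 : ∑ p, e p = ((supp e).card : ZMod 2) := by
      have : ∀ p, e p = if p ∈ supp e then 1 else 0 := by
        intro p
        by_cases hp : p ∈ supp e
        · rw [if_pos hp]; exact (mem_supp e p).mp hp
        · rw [if_neg hp]; exact (notMem_supp e p).mp hp
      rw [Finset.sum_congr rfl (fun p _ => this p), Finset.sum_boole]
      simp
    rw [h1] at he
    exact (ZMod.natCast_eq_zero_iff_even).mp he
  have h1 : ∑ p ∈ supp e, ind ({p} : Finset GolayPt) = e := by
    funext q
    rw [Finset.sum_apply]
    simp only [ind, Finset.mem_singleton]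
    rw [Finset.sum_ite_eq]
    by_cases hq : q ∈ supp e
    · rw [if_pos hq]; exact ((mem_supp e q).mp hq).symm
    · rw [if_neg hq]; exact ((notMem_supp e q).mp hq).symm
  have h2 : ∑ _p ∈ supp e, ind ({none} : Finset GolayPt) = 0 := by
    rw [Finset.sum_const]
    obtain ⟨m, hm⟩ := hcard
    rw [hm, add_nsmul, S5550.add_self_word]
  have hsum : e = ∑ p ∈ supp e, (ind ({p} : Finset GolayPt) + ind {none}) := by
    rw [Finset.sum_add_distrib, h1, h2, add_zero]
  rw [hsum]
  apply Submodule.sum_mem
  intro p _
  by_cases hp : p = none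
  · rw [hp, S5550.add_self_word]; exact W.zero_mem
  · have : ind ({p} : Finset GolayPt) + ind {none} = ind {p, none} := by
      apply supp_injective
      rw [supp_add, supp_ind, supp_ind, supp_ind]
      ext q
      simp only [Finset.mem_insert, Finset.mem_singleton, Finset.mem_symmDiff]
      constructor
      · rintro (⟨h, _⟩ | ⟨h, _⟩)
        · exact Or.inl h
        · exact Or.inr h
      · rintro (rfl | rfl)
        · exact Or.inl ⟨rfl, hp⟩
        · exact Or.inr ⟨rfl, fun h => hp h.symm⟩
    rw [this]
    exact hpairs p none hp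

/-- F1: an invariant subspace not contained in the code contains all words of even weight. -/
theorem F1 (W : Submodule (ZMod 2) (GolayPt → ZMod 2)) (hW : Inv W)
    (w : GolayPt → ZMod 2) (hwW : w ∈ W) (hwC : w ∉ golayCode) (e : GolayPt → ZMod 2)
    (he : ∑ p, e p = 0) : e ∈ W := by
  obtain ⟨x, hxW, hxC, hx8⟩ := exists_weight8 W hW w hwW hwC
  obtain ⟨y, hyW, hyC, hy2⟩ := exists_small W hW _ x hxW hxC rfl hx8
  exact even_mem W (pairs_mem W hW y hyW hyC hy2) e he

/-! ### subspaces of the code -/

open Cfsg.Agent.Lib.Helper93_Code24 in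
/-- An invariant subspace containing a word of weight 8 of the code contains the code. -/
theorem octad_all (W : Submodule (ZMod 2) (GolayPt → ZMod 2)) (hW : Inv W)
    (x : GolayPt → ZMod 2) (hxW : x ∈ W) (hxo : support₂ x ∈ octads) : golayCode ≤ W := by
  have hC := Cfsg.Agent.Lib.Helper93_GolayConcrete.golayLike
  rw [← span_octads hC, Submodule.span_le]
  rintro w ⟨hw, h8⟩
  have hwo : support₂ w ∈ octads := ⟨⟨w, hw, rfl⟩, h8⟩
  obtain ⟨g1, hg1, h1⟩ := exists_smul_oct0_eq hxo
  obtain ⟨g2, hg2, h2⟩ := exists_smul_oct0_eq hwo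
  have hσ : g2 * g1⁻¹ ∈ M24 := M24.mul_mem hg2 (M24.inv_mem hg1)
  have := hW _ hσ x hxW
  have heq : permWord (g2 * g1⁻¹) x = w := by
    apply support₂_injective
    rw [support₂_permWord, ← h1, mul_smul, inv_smul_smul, h2]
  rw [heq] at this
  exact this

/-- Mask of an octad meeting the base octad in four points. -/
def m1 : ℕ := 9347075

/-- Mask of a dodecad meeting the base dodecad in eight points. -/
def m2 : ℕ := 8101915

theorem m1_mem : dec m1 ∈ octads := by
  rw [mem_octads_iff, enc_dec _ (by norm_num [m1]), mem_octList_iff]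
  decide +kernel

theorem m2_mem : dec m2 ∈ dodecads := by
  rw [mem_dodecads_iff, enc_dec _ (by norm_num [m2]), mem_dodList_iff]
  decide +kernel

theorem symm1_mem : symmDiff oct0 (dec m1) ∈ octads := by
  rw [mem_octads_iff, enc_symmDiff, enc_oct0, enc_dec _ (by norm_num [m1]), mem_octList_iff]
  decide +kernel

theorem symm2_mem : symmDiff dod0 (dec m2) ∈ octads := by
  rw [mem_octads_iff, enc_symmDiff, enc_dod0, enc_dec _ (by norm_num [m2]), mem_octList_iff]
  decide +kernel

theorem support_one : support₂ (1 : GolayPt → ZMod 2) = Finset.univ := by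
  ext p; simp [support₂]

/-- F2: an invariant subspace of the code with a word other than zero and all-ones is the code. -/
theorem F2 (W : Submodule (ZMod 2) (GolayPt → ZMod 2)) (hW : Inv W) (hWC : W ≤ golayCode)
    (c : GolayPt → ZMod 2) (hcW : c ∈ W) (hc0 : c ≠ 0) (hc1 : c ≠ 1) : golayCode ≤ W := by
  have hcC : c ∈ golayCode := hWC hcW
  have hs : support₂ c ∈ supports (golayCode : Set (GolayPt → ZMod 2)) := ⟨c, hcC, rfl⟩
  rcases card_of_mem_supports hs with h | h | h | h | h
  · exfalso
    apply hc0
    exact (Cfsg.Agent.Lib.Helper93_Code24.supp_eq_empty_iff c).mp h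
  · exact octad_all W hW c hcW ⟨hs, h⟩
  · -- a dodecad
    have hd : support₂ c ∈ dodecads := ⟨hs, h⟩
    obtain ⟨g, hg, hgd⟩ := exists_smul_dod0_eq hd
    obtain ⟨τ, hτ, hτd⟩ := exists_smul_dod0_eq m2_mem
    have hc0W : permWord g⁻¹ c ∈ W := hW _ (M24.inv_mem hg) c hcW
    have hs0 : support₂ (permWord g⁻¹ c) = dod0 := by
      rw [support₂_permWord, ← hgd, inv_smul_smul]
    have hc1W : permWord τ (permWord g⁻¹ c) ∈ W := hW _ hτ _ hc0W
    have hs1 : support₂ (permWord τ (permWord g⁻¹ c)) = dec m2 := by
      rw [support₂_permWord, hs0, hτd]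
    apply octad_all W hW _ (W.add_mem hc0W hc1W)
    rw [Cfsg.Agent.Lib.Helper8_GolayEven.support_add, hs0, hs1]
    exact symm2_mem
  · -- the complement of an octad
    have h1 : c + 1 ∈ golayCode := golayCode.add_mem hcC one_mem
    have hsupp : support₂ (c + 1) = Finset.univ \ support₂ c := by
      ext p
      rw [Finset.mem_sdiff, mem_support₂, mem_support₂]
      simp only [Finset.mem_univ, true_and, Pi.add_apply, Pi.one_apply]
      generalize c p = b
      revert b
      decide
    have hcard : (Finset.univ \ support₂ c).card = 8 := by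
      rw [Finset.card_sdiff_of_subset (Finset.subset_univ _), h]
      decide
    have ho : Finset.univ \ support₂ c ∈ octads := ⟨⟨c + 1, h1, hsupp⟩, hcard⟩
    obtain ⟨g, hg, hgo⟩ := exists_smul_oct0_eq ho
    obtain ⟨τ, hτ, hτo⟩ := exists_smul_oct0_eq m1_mem
    have hc0W : permWord g⁻¹ c ∈ W := hW _ (M24.inv_mem hg) c hcW
    have hsc : support₂ c = Finset.univ \ (g • oct0) := by
      rw [hgo]; exact (Finset.sdiff_sdiff_eq_self (Finset.subset_univ _)).symm
    have hs0 : support₂ (permWord g⁻¹ c) = Finset.univ \ oct0 := by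
      rw [support₂_permWord, hsc, Finset.smul_finset_sdiff, Finset.smul_finset_univ,
        inv_smul_smul]
    have hc1W : permWord τ (permWord g⁻¹ c) ∈ W := hW _ hτ _ hc0W
    have hs1 : support₂ (permWord τ (permWord g⁻¹ c)) = Finset.univ \ dec m1 := by
      rw [support₂_permWord, hs0, Finset.smul_finset_sdiff, Finset.smul_finset_univ, hτo]
    apply octad_all W hW _ (W.add_mem hc0W hc1W)
    rw [Cfsg.Agent.Lib.Helper8_GolayEven.support_add, hs0, hs1]
    have : symmDiff (Finset.univ \ oct0) (Finset.univ \ dec m1) = symmDiff oct0 (dec m1) := by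
      ext p
      simp only [Finset.mem_symmDiff, Finset.mem_sdiff, Finset.mem_univ, true_and]
      tauto
    rw [this]
    exact symm1_mem
  · exfalso
    apply hc1
    apply support₂_injective
    rw [h, support_one]

/-! ### the statement -/

/-- For the automorphism group of the length-24 binary Golay code of the definitions (the Mathieu group of degree 24) acting on binary words of length 24 by permuting coordinates, the only invariant subspaces of the space of all words are: zero, the span of the all-ones word, the code itself, the even-weight words, and the whole space. (So the permutation module has a unique composition series.) -/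
theorem result (W : Submodule (ZMod 2) (Cfsg.GolayPt → ZMod 2)) (hW : ∀ σ ∈ Cfsg.M24, ∀ w ∈ W, (fun p => w (σ.symm p)) ∈ W) : W = ⊥ ∨ W = Submodule.span (ZMod 2) {fun _ => (1 : ZMod 2)} ∨ W = Cfsg.golayCode ∨ (W : Set (Cfsg.GolayPt → ZMod 2)) = {w | ∑ p, w p = 0} ∨ W = ⊤ := by
  have hInv : Inv W := fun σ hσ w hw => hW σ hσ w hw
  by_cases h1 : W ≤ golayCode
  · by_cases h2 : ∀ c ∈ W, c = 0 ∨ c = (1 : GolayPt → ZMod 2)
    · by_cases h3 : (1 : GolayPt → ZMod 2) ∈ W
      · right; left
        apply le_antisymm
        · intro c hc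
          rcases h2 c hc with rfl | rfl
          · exact Submodule.zero_mem _
          · exact Submodule.subset_span (Set.mem_singleton _)
        · rw [Submodule.span_le]
          intro c hc
          rw [Set.mem_singleton_iff] at hc
          rw [hc]
          exact h3
      · left
        rw [Submodule.eq_bot_iff]
        intro c hc
        rcases h2 c hc with h | h
        · exact h
        · rw [h] at hc; exact absurd hc h3
    · right; right; left
      simp only [not_forall, not_or] at h2
      obtain ⟨c, hcW, hc0, hc1⟩ := h2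
      exact le_antisymm h1 (F2 W hInv h1 c hcW hc0 hc1)
  · obtain ⟨w, hwW, hwC⟩ := SetLike.not_le_iff_exists.mp h1
    have hE : ∀ e : GolayPt → ZMod 2, ∑ p, e p = 0 → e ∈ W := F1 W hInv w hwW hwC
    by_cases h4 : ∀ u ∈ W, ∑ p, u p = 0
    · right; right; right; left
      ext e
      constructor
      · intro he; exact h4 e he
      · intro he; exact hE e he
    · right; right; right; right
      simp only [not_forall] at h4
      obtain ⟨w0, hw0W, hw0⟩ := h4
      have hw01 : ∑ p, w0 p = 1 := by
        generalize ∑ p, w0 p = b at hw0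
        revert b
        decide
      rw [Submodule.eq_top_iff']
      intro u
      by_cases hu : ∑ p, u p = 0
      · exact hE u hu
      · have hu1 : ∑ p, u p = 1 := by
          generalize ∑ p, u p = b at hu
          revert b
          decide
        have hsum : ∑ p, (u + w0) p = 0 := by
          simp only [Pi.add_apply, Finset.sum_add_distrib, hu1, hw01]
          decide
        have h5 := W.add_mem (hE _ hsum) hw0W
        rw [add_assoc, S5550.add_self_word, add_zero] at h5
        exact h5

end Cfsg.Agent.S5548
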