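import Cfsg.Statements.S0400
import Cfsg.Agent.Lib.Helper7_Xi
import Cfsg.Agent.S0394
import Cfsg.Agent.Lib.Helper92_Monomial
import Cfsg.Agent.S0367
import Cfsg.Agent.S5548
import Cfsg.Agent.S0381
import Cfsg.Agent.Lib.Helper7_Bits
import Cfsg.Agent.Lib.Helper7_Base

/-!
# `Co0` is transitive on the 196560 minimal vectors

The minimal vectors are of three shapes (`S0394.set_eq`).  Monomial elements (`monoPerm`) reduce
each shape to one representative, and the automorphism `xi` fuses the three representatives.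
-/

set_option autoImplicit false
open Cfsg
open scoped Pointwise

namespace Cfsg.Agent.S0400

open Cfsg.Agent.Lib.Helper7_M24 Cfsg.Agent.Lib.Helper7_Leech Cfsg.Agent.Lib.Helper92_Monomial
  Cfsg.Agent.Lib.Helper7_Xi Cfsg.Agent.Lib.Helper7_Bits Cfsg.Agent.Lib.Helper7_Base

/-- The orbit relation of `Co0`, on raw vectors. -/
def R (x y : GolayPt → ℤ) : Prop :=
  ∃ g ∈ Co0, ∃ hx : x ∈ leechLattice, ((g ⟨x, hx⟩ : leechLattice) : GolayPt → ℤ) = y

theorem R.mem_right {x y : GolayPt → ℤ} (h : R x y) : y ∈ leechLattice := by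
  obtain ⟨g, _, hx, rfl⟩ := h
  exact (g ⟨x, hx⟩).2

theorem R.mem_left {x y : GolayPt → ℤ} (h : R x y) : x ∈ leechLattice := by
  obtain ⟨g, _, hx, _⟩ := h
  exact hx

theorem R.refl {x : GolayPt → ℤ} (hx : x ∈ leechLattice) : R x x :=
  ⟨1, Co0.one_mem, hx, rfl⟩

theorem R.trans {x y z : GolayPt → ℤ} (h1 : R x y) (h2 : R y z) : R x z := by
  obtain ⟨g, hg, hx, rfl⟩ := h1
  obtain ⟨h, hh, hy, rfl⟩ := h2
  exact ⟨h * g, Co0.mul_mem hh hg, hx, rfl⟩

theorem R.symm {x y : GolayPt → ℤ} (h : R x y) : R y x := by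
  obtain ⟨g, hg, hx, rfl⟩ := h
  refine ⟨g⁻¹, Co0.inv_mem hg, (g ⟨x, hx⟩).2, ?_⟩
  show ((g⁻¹ (g ⟨x, hx⟩) : leechLattice) : GolayPt → ℤ) = x
  rw [Equiv.Perm.inv_def, Equiv.symm_apply_apply]

theorem R_mono {x : GolayPt → ℤ} (hx : x ∈ leechLattice) (σ : Equiv.Perm GolayPt) (hσ : σ ∈ M24)
    (u : GolayPt → ZMod 2) (hu : u ∈ golayCode) : R x (signFlip (support₂ u) (permVec σ x)) :=
  ⟨monoPerm σ hσ u hu, monoPerm_mem_Co0 σ hσ u hu, hx, rfl⟩

theorem support₂_zero' : support₂ (0 : GolayPt → ZMod 2) = ∅ := by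
  ext p
  rw [mem_support₂]
  simp

theorem signFlip_empty (x : GolayPt → ℤ) : signFlip ∅ x = x := by
  funext i
  exact signFlip_of_notMem (Finset.notMem_empty i) x

theorem permVec_one (x : GolayPt → ℤ) : permVec 1 x = x := rfl

theorem R_perm {x : GolayPt → ℤ} (hx : x ∈ leechLattice) (σ : Equiv.Perm GolayPt) (hσ : σ ∈ M24) :
    R x (permVec σ x) := by
  have := R_mono hx σ hσ 0 golayCode.zero_mem
  rwa [support₂_zero', signFlip_empty] at this

theorem R_flip {x : GolayPt → ℤ} (hx : x ∈ leechLattice) (u : GolayPt → ZMod 2)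
    (hu : u ∈ golayCode) : R x (signFlip (support₂ u) x) := by
  have := R_mono hx 1 M24.one_mem u hu
  rwa [permVec_one] at this

theorem R_xi {x : GolayPt → ℤ} (hx : x ∈ leechLattice) (y : GolayPt → ℤ)
    (h : ∀ p, A.mulVec x p = 2 * y p) : R x y :=
  ⟨xi, xi_mem_Co0, hx, xi_eq_of ⟨x, hx⟩ y h⟩

/-! ### The action of monomial elements on the three shapes -/

open Cfsg.Agent.S0394 (sgn fO famA famB famO)

theorem mem_smul_iff (σ : Equiv.Perm GolayPt) (P : Finset GolayPt) (i : GolayPt) :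
    i ∈ σ • P ↔ σ.symm i ∈ P := by
  rw [Finset.mem_smul_finset]
  constructor
  · rintro ⟨y, hy, rfl⟩
    rw [Equiv.Perm.smul_def, Equiv.symm_apply_apply]
    exact hy
  · intro h
    exact ⟨σ.symm i, h, by rw [Equiv.Perm.smul_def, Equiv.apply_symm_apply]⟩

theorem permVec_sgn (σ : Equiv.Perm GolayPt) (a : ℤ) (P N : Finset GolayPt) :
    permVec σ (sgn a P N) = sgn a (σ • P) (σ • N) := by
  funext i
  rw [permVec_apply]
  unfold sgn
  simp only [mem_smul_iff]

theorem signFlip_sgn (c : Finset GolayPt) (a : ℤ) (P N : Finset GolayPt) :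
    signFlip c (sgn a P N) = sgn a P (symmDiff N c) := by
  funext j
  unfold signFlip sgn
  simp only [Finset.mem_symmDiff]
  by_cases hc : j ∈ c <;> by_cases hP : j ∈ P <;> by_cases hN : j ∈ N <;> simp [hc, hP, hN]

theorem sgn_congr (a : ℤ) (P N N' : Finset GolayPt) (h : ∀ j ∈ P, (j ∈ N ↔ j ∈ N')) :
    sgn a P N = sgn a P N' := by
  funext j
  unfold sgn
  by_cases hP : j ∈ P
  · rw [if_pos hP, if_pos hP]
    by_cases hN : j ∈ N
    · rw [if_pos hN, if_pos ((h j hP).mp hN)]
    · rw [if_neg hN, if_neg (fun h' => hN ((h j hP).mpr h'))]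
  · rw [if_neg hP, if_neg hP]

theorem signFlip_fO (i : GolayPt) (u : GolayPt → ZMod 2) :
    signFlip (support₂ u) (fO i u) = fO i 0 := by
  funext j
  have h01 : ¬ ((0 : ZMod 2) = 1) := by decide
  rcases Cfsg.Agent.S0394.fO_cases i u j with ⟨h1, h2, h3⟩ | ⟨h1, h2, h3⟩ | ⟨h1, h2, h3⟩ |
    ⟨h1, h2, h3⟩
  · rw [signFlip_of_mem ((mem_support₂ u j).mpr h2), h3]
    unfold fO
    rw [if_neg h1, Pi.zero_apply, if_neg h01]; rfl
  · rw [signFlip_of_notMem (fun h => by rw [mem_support₂, h2] at h; exact h01 h), h3]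
    unfold fO
    rw [if_neg h1, Pi.zero_apply, if_neg h01]; rfl
  · rw [signFlip_of_mem ((mem_support₂ u j).mpr h2), h3]
    unfold fO
    rw [if_pos h1, Pi.zero_apply, Pi.zero_apply, if_neg h01, if_neg h01]; rfl
  · rw [signFlip_of_notMem (fun h => by rw [mem_support₂, h2] at h; exact h01 h), h3]
    unfold fO
    rw [if_pos h1, Pi.zero_apply, Pi.zero_apply, if_neg h01, if_neg h01]; rfl

theorem permVec_fO_zero (σ : Equiv.Perm GolayPt) (i : GolayPt) :
    permVec σ (fO i 0) = fO (σ i) 0 := by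
  funext j
  rw [permVec_apply]
  unfold fO
  have h01 : ¬ ((0 : ZMod 2) = 1) := by decide
  simp only [Pi.zero_apply, if_neg h01]
  by_cases h : j = σ i
  · rw [if_pos h, if_pos (by rw [h, Equiv.symm_apply_apply])]
  · rw [if_neg h, if_neg (fun h' => h (by rw [← h', Equiv.apply_symm_apply]))]

/-! ### The odd shape -/

theorem fO_mem_lattice (i : GolayPt) (u : GolayPt → ZMod 2) (hu : u ∈ golayCode) :
    fO i u ∈ leechLattice :=
  (mem_leechLattice_iff _).mpr (Cfsg.Agent.S0394.fO_mem i u hu)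

/-- The odd representative `(-1^23, 3)`. -/
def o0 : GolayPt → ℤ := fO none 0

theorem R_famO (i : GolayPt) (u : GolayPt → ZMod 2) (hu : u ∈ golayCode) : R (fO i u) o0 := by
  have h1 : R (fO i u) (fO i 0) := by
    have := R_flip (fO_mem_lattice i u hu) u hu
    rwa [signFlip_fO] at this
  obtain ⟨b, hb⟩ := exists_ne i
  obtain ⟨σ, hσ, hσi, _⟩ := Cfsg.Agent.S5548.two_trans i b none (some 0) hb.symm (by decide)
  have h2 : R (fO i 0) o0 := by
    have := R_perm (fO_mem_lattice i 0 golayCode.zero_mem) σ hσ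
    rwa [permVec_fO_zero, hσi] at this
  exact h1.trans h2

/-! ### The shape `(±4, ±4, 0^22)` -/

/-- The representative pair of points. -/
def P0 : Finset GolayPt := {dec 0, dec 3}

/-- The representative `4 e_0 + 4 e_3`. -/
def a0 : GolayPt → ℤ := sgn 4 P0 ∅

theorem sign_masks : ∀ s0 s3 : Bool, ∃ m ∈ [0, 15777, 10558, 5279], inCode m = true ∧
    m.testBit 0 = s0 ∧ m.testBit 3 = s3 := by
  decide +kernel

theorem R_famA (P N : Finset GolayPt) (hP : P.card = 2) (hN : N ⊆ P) : R (sgn 4 P N) a0 := by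
  have hmem : sgn 4 P N ∈ leechLattice :=
    (mem_leechLattice_iff _).mpr (Cfsg.Agent.S0394.sgn_four_mem P N hP hN)
  obtain ⟨a, b, hab, rfl⟩ := Finset.card_eq_two.mp hP
  obtain ⟨σ, hσ, hσa, hσb⟩ := Cfsg.Agent.S5548.two_trans a b (dec 0) (dec 3) hab (by decide)
  have h1 : R (sgn 4 {a, b} N) (sgn 4 P0 (σ • N)) := by
    have := R_perm hmem σ hσ
    rw [permVec_sgn] at this
    have e : σ • ({a, b} : Finset GolayPt) = P0 := by
      rw [Finset.smul_finset_insert, Finset.smul_finset_singleton, Equiv.Perm.smul_def,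
        Equiv.Perm.smul_def, hσa, hσb]
      rfl
    rwa [e] at this
  obtain ⟨m, _, hm, hm0, hm3⟩ := sign_masks (decide (dec 0 ∈ σ • N)) (decide (dec 3 ∈ σ • N))
  have h2 : R (sgn 4 P0 (σ • N)) a0 := by
    have := R_flip h1.mem_right (toWord m) (toWord_mem_of_inCode hm)
    rw [signFlip_sgn] at this
    have e : sgn 4 P0 (symmDiff (σ • N) (support₂ (toWord m))) = a0 := by
      apply sgn_congr
      intro j hj
      have hj' : j = dec 0 ∨ j = dec 3 := by
        unfold P0 at hj
        rw [Finset.mem_insert, Finset.mem_singleton] at hj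
        exact hj
      rw [Finset.mem_symmDiff, mem_support₂_toWord]
      have hne : j ∉ (∅ : Finset GolayPt) := Finset.notMem_empty j
      rcases hj' with rfl | rfl
      · have : m.testBit (enc (dec 0)) = decide (dec 0 ∈ σ • N) := hm0
        by_cases h : dec 0 ∈ σ • N
        · rw [decide_eq_true h] at this
          simp [h, this]
        · rw [decide_eq_false h] at this
          simp [h, this]
      · have : m.testBit (enc (dec 3)) = decide (dec 3 ∈ σ • N) := hm3
        by_cases h : dec 3 ∈ σ • N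
        · rw [decide_eq_true h] at this
          simp [h, this]
        · rw [decide_eq_false h] at this
          simp [h, this]
    rwa [e] at this
  exact h1.trans h2

/-! ### The shape `(±2^8, 0^16)` -/

open Cfsg.Agent.S0364 (octMask)
open Cfsg.Agent.S0381 (stdOct stdOct_mem)

/-- The representative `2` on the standard octad. -/
def b0 : GolayPt → ℤ := sgn 2 stdOct ∅

/-- Code words meeting the standard octad in each of its 28 pairs. -/
def pairMasks : List ℕ :=
  [1647171, 6857221, 4563017, 1352353, 6053905, 2564625, 11575377, 7438406, 6062602, 6594610,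
   4538962, 4063314, 11108882, 2949708, 1384564, 3457556, 5210132, 14156372, 3678776, 1687640,
   6455896, 16056344, 2220640, 5939296, 13443616, 8077824, 15515712, 9929280]

theorem pair_exists : ∀ a b : GolayPt, octMask.testBit (enc a) = true →
    octMask.testBit (enc b) = true → a ≠ b →
    ∃ m ∈ pairMasks, inCode m = true ∧ ∀ p : GolayPt, octMask.testBit (enc p) = true →
      (m.testBit (enc p) = true ↔ (p = a ∨ p = b)) := by
  decide +kernel

theorem mem_stdOct (p : GolayPt) : p ∈ stdOct ↔ octMask.testBit (enc p) = true :=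
  mem_maskSet _ _

theorem R_B_std : ∀ (n : ℕ) (N : Finset GolayPt), N.card = n → N ⊆ stdOct → Even N.card →
    R (sgn 2 stdOct N) b0 := by
  intro n
  induction n using Nat.strong_induction_on with
  | _ n ih =>
    intro N hn hN hE
    have hmem : sgn 2 stdOct N ∈ leechLattice :=
      (mem_leechLattice_iff _).mpr (Cfsg.Agent.S0394.sgn_two_mem stdOct N stdOct_mem hN hE)
    by_cases h0 : N = ∅
    · rw [h0]
      rw [h0] at hmem
      exact R.refl hmem
    · have hpos : 0 < N.card := Finset.card_pos.mpr (Finset.nonempty_iff_ne_empty.mpr h0)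
      obtain ⟨k, hk⟩ := hE
      have h1 : 1 < N.card := by omega
      obtain ⟨a, ha, b, hb, hab⟩ := Finset.one_lt_card.mp h1
      obtain ⟨m, _, hm, hp⟩ := pair_exists a b ((mem_stdOct a).mp (hN ha))
        ((mem_stdOct b).mp (hN hb)) hab
      have hsub : ({a, b} : Finset GolayPt) ⊆ N := by
        intro x hx
        rw [Finset.mem_insert, Finset.mem_singleton] at hx
        rcases hx with rfl | rfl
        · exact ha
        · exact hb
      have hcard : (N \ {a, b}).card = N.card - 2 := by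
        rw [Finset.card_sdiff_of_subset hsub, Finset.card_pair hab]
      have hstep : R (sgn 2 stdOct N) (sgn 2 stdOct (N \ {a, b})) := by
        have := R_flip hmem (toWord m) (toWord_mem_of_inCode hm)
        rw [signFlip_sgn] at this
        have e : sgn 2 stdOct (symmDiff N (support₂ (toWord m))) = sgn 2 stdOct (N \ {a, b}) := by
          apply sgn_congr
          intro j hj
          have hj' := hp j ((mem_stdOct j).mp hj)
          rw [Finset.mem_symmDiff, mem_support₂_toWord, Finset.mem_sdiff, Finset.mem_insert,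
            Finset.mem_singleton, hj']
          constructor
          · rintro (⟨h1, h2⟩ | ⟨h1, h2⟩)
            · exact ⟨h1, h2⟩
            · rcases h1 with rfl | rfl
              · exact absurd ha h2
              · exact absurd hb h2
          · rintro ⟨h1, h2⟩
            exact Or.inl ⟨h1, h2⟩
        rwa [e] at this
      have hnext := ih (N.card - 2) (by omega) (N \ {a, b}) hcard
        (Finset.sdiff_subset.trans hN) (by rw [hcard]; exact ⟨k - 1, by omega⟩)
      exact hstep.trans hnext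

theorem R_famB (P N : Finset GolayPt) (hP : P ∈ octads) (hN : N ⊆ P) (hE : Even N.card) :
    R (sgn 2 P N) b0 := by
  have hmem : sgn 2 P N ∈ leechLattice :=
    (mem_leechLattice_iff _).mpr (Cfsg.Agent.S0394.sgn_two_mem P N hP hN hE)
  obtain ⟨g, hg⟩ := Cfsg.Agent.S0367.result P stdOct hP stdOct_mem
  have hg' : (g : Equiv.Perm GolayPt) • P = stdOct := hg
  have h1 : R (sgn 2 P N) (sgn 2 stdOct ((g : Equiv.Perm GolayPt) • N)) := by
    have := R_perm hmem (g : Equiv.Perm GolayPt) g.2
    rwa [permVec_sgn, hg'] at this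
  have hsub : (g : Equiv.Perm GolayPt) • N ⊆ stdOct := by
    rw [← hg']
    exact Finset.smul_finset_subset_smul_finset hN
  have hE' : Even ((g : Equiv.Perm GolayPt) • N).card := by
    rw [Finset.card_smul_finset]
    exact hE
  exact h1.trans (R_B_std _ _ rfl hsub hE')

/-! ### Fusion of the three shapes by `xi` -/

/-- The image of `a0` under `xi`. -/
def y1 : GolayPt → ℤ :=
  vecL [-2, 2, 2, 2, 0, -2, 0, 0, 0, 0, 0, 0, 0, 0, -2, 0, 0, -2, 0, 0, 0, 0, 0, 2]

/-- The set of negative coordinates of `y1`. -/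
def N1 : Finset GolayPt := {dec 0, dec 5, dec 14, dec 17}

theorem a0_y1 : ∀ p, A.mulVec a0 p = 2 * y1 p := by
  decide +kernel

theorem y1_eq : ∀ p, y1 p = sgn 2 stdOct N1 p := by
  decide +kernel

theorem N1_sub : N1 ⊆ stdOct := by
  decide +kernel

theorem a0_mem : a0 ∈ leechLattice :=
  (mem_leechLattice_iff _).mpr
    (Cfsg.Agent.S0394.sgn_four_mem P0 ∅ (by decide) (Finset.empty_subset _))

theorem R_a0_b0 : R a0 b0 := by
  have h1 : R a0 y1 := R_xi a0_mem y1 a0_y1
  rw [show y1 = sgn 2 stdOct N1 from funext y1_eq] at h1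
  exact h1.trans (R_famB stdOct N1 stdOct_mem N1_sub (by decide))

/-- A second octad, meeting the tetrads of the sextet in `3 + 1 + 1 + 1 + 1 + 1` points. -/
def O' : Finset GolayPt := maskSet 5279

theorem O'_mem : O' ∈ octads := by
  refine ⟨⟨toWord 5279, toWord_mem_of_inCode (by decide +kernel), rfl⟩, ?_⟩
  show (support₂ (toWord 5279)).card = 8
  rw [Cfsg.Agent.Lib.Helper7_Code.card_support₂_toWord]
  decide

/-- The image of `2` on `O'` under `xi`. -/
def y2 : GolayPt → ℤ :=
  vecL [1, 1, 1, 1, 1, -1, -1, 1, -1, -1, 1, -1, 1, -1, -1, -1, -1, -1, -1, -1, -1, -1, -1, 3]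

theorem b'_y2 : ∀ p, A.mulVec (sgn 2 O' ∅) p = 2 * y2 p := by
  decide +kernel

theorem y2_eq : ∀ p, y2 p = fO none (toWord 5279) p := by
  decide +kernel

theorem R_b0_o0 : R b0 o0 := by
  have hmem : sgn 2 O' ∅ ∈ leechLattice :=
    (mem_leechLattice_iff _).mpr
      (Cfsg.Agent.S0394.sgn_two_mem O' ∅ O'_mem (Finset.empty_subset _) (by decide))
  have h1 : R (sgn 2 O' ∅) b0 := R_famB O' ∅ O'_mem (Finset.empty_subset _) (by decide)
  have h2 : R (sgn 2 O' ∅) y2 := R_xi hmem y2 b'_y2
  rw [show y2 = fO none (toWord 5279) from funext y2_eq] at h2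
  have h3 : R (fO none (toWord 5279)) o0 :=
    R_famO none (toWord 5279) (toWord_mem_of_inCode (by decide +kernel))
  exact h1.symm.trans (h2.trans h3)

/-- Every minimal vector is in the orbit of `o0`. -/
theorem R_min (x : GolayPt → ℤ) (hx : x ∈ leechLattice) (hn : sqNorm x = 32) : R x o0 := by
  have hmem : x ∈ {x : GolayPt → ℤ | x ∈ leechLattice ∧ sqNorm x = 32} := ⟨hx, hn⟩
  rw [Cfsg.Agent.S0394.set_eq] at hmem
  rcases hmem with (⟨P, N, hP, hN, rfl⟩ | ⟨P, N, hP, hN, hE, rfl⟩) | ⟨i, u, hu, rfl⟩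
  · exact (R_famA P N hP hN).trans (R_a0_b0.trans R_b0_o0)
  · exact (R_famB P N hP hN hE).trans R_b0_o0
  · exact R_famO i u hu

/-- Automorphisms of the lattice act transitively on vectors of sum of squares 32. -/
theorem result (v w : Cfsg.leechLattice) (hv : Cfsg.sqNorm (v : Cfsg.GolayPt → ℤ) = 32) (hw : Cfsg.sqNorm (w : Cfsg.GolayPt → ℤ) = 32) : ∃ g : Cfsg.Co0, g • v = w := by
  obtain ⟨g, hg, hx, hgw⟩ := (R_min v.1 v.2 hv).trans (R_min w.1 w.2 hw).symm
  refine ⟨⟨g, hg⟩, ?_⟩
  apply Subtype.ext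
  exact hgw

end Cfsg.Agent.S0400
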