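import Cfsg.Statements.S0395
import Cfsg.Agent.Lib.Helper92_LeechShapes

set_option autoImplicit false
open Cfsg

namespace Cfsg.Agent.S0395

open Cfsg.Agent.Lib.Helper7_M24 Cfsg.Agent.Lib.Helper7_Leech Cfsg.Agent.Lib.Helper92_LeechParity
open Cfsg.Agent.S0394 Cfsg.Agent.Lib.Helper92_LeechShapes

/-- Every lattice vector of sum of squares 48 has one of four shapes. -/
theorem classify (x : GolayPt → ℤ) (hx : x ∈ leechLattice) (hn : sqNorm x = 48) :
    x ∈ EvFam 12 0 ∨ x ∈ EvFam 8 1 ∨ x ∈ OdFam 1 0 ∨ x ∈ OdFam 0 3 := by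
  rw [mem_leechLattice_iff] at hx
  rcases even_or_odd_of_mem x hx with ⟨h2, hC, hs⟩ | ⟨h2, hC, hs⟩
  · -- even vectors
    have hS := (filter_mem_supports_iff (fun i => x i ≡ 2 [ZMOD 4])).mpr hC
    have hlow := even_lower x h2
    rw [hn] at hlow
    have hcard := Cfsg.Agent.Lib.Helper26_Golay.card_of_mem_supports hS
    have hS2 : (Finset.univ.filter fun i => x i ≡ 2 [ZMOD 4]) = S2 x := rfl
    rw [hS2] at hcard
    have tight : (16 : ℤ) < 4 * (S2 x).card + 16 * (S4 x).card →
        x ∈ EvFam 12 0 ∨ x ∈ EvFam 8 1 ∨ x ∈ OdFam 1 0 ∨ x ∈ OdFam 0 3 := by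
      intro hbig
      obtain ⟨hok, hxe, hnorm⟩ := even_shape x h2 hC hs (by rw [hn]; omega)
      rw [hn] at hnorm
      rcases hcard with h | h | h | h | h
      · -- no coordinate is 2 modulo 4: the parity condition fails
        exfalso
        have hpar := hok.par
        have hN : (S2 x).filter (fun j => x j < 0) = ∅ := by
          rw [h]; rfl
        rw [hN, Finset.card_empty, zero_add] at hpar
        rw [h, Finset.card_empty] at hnorm
        have h3 : (S4 x).card = 3 := by
          have : ((S4 x).card : ℤ) = 3 := by push_cast at hnorm; omega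
          exact_mod_cast this
        rw [h3] at hpar
        exact absurd hpar (by decide)
      · right; left
        have h1 : (S4 x).card = 1 := by
          have : ((S4 x).card : ℤ) = 1 := by rw [h] at hnorm; push_cast at hnorm; omega
          exact_mod_cast this
        exact ⟨_, _, _, _, hok, h, h1, hxe⟩
      · left
        have h1 : (S4 x).card = 0 := by
          have : ((S4 x).card : ℤ) = 0 := by rw [h] at hnorm; push_cast at hnorm; omega
          exact_mod_cast this
        exact ⟨_, _, _, _, hok, h, h1, hxe⟩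
      · exfalso; rw [h] at hnorm; push_cast at hnorm; omega
      · exfalso
        rw [h, Finset.card_univ, card_golayPt] at hnorm; push_cast at hnorm; omega
    rcases hcard with h | h | h | h | h
    · -- `S2 x` is empty
      by_cases hq : 2 ≤ (S4 x).card
      · apply tight
        have : (2 : ℤ) ≤ (S4 x).card := by exact_mod_cast hq
        omega
      · exfalso
        have hsum := sqNorm_eq_sum_S4 x h2 h
        rw [hn] at hsum
        have hq' : (S4 x).card = 0 ∨ (S4 x).card = 1 := by omega
        rcases hq' with hq' | hq'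
        · rw [Finset.card_eq_zero] at hq'
          rw [hq', Finset.sum_empty] at hsum
          omega
        · rw [Finset.card_eq_one] at hq'
          obtain ⟨i, hi⟩ := hq'
          rw [hi, Finset.sum_singleton] at hsum
          have hi4 : i ∈ S4 x := by rw [hi]; exact Finset.mem_singleton_self i
          obtain ⟨y, hy⟩ := ((mem_S4 x i).mp hi4).1
          rw [hy] at hsum
          have h5 : y ^ 2 = 3 := by nlinarith
          have h6 : -2 < y := by nlinarith
          have h7 : y < 2 := by nlinarith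
          interval_cases y <;> omega
    · apply tight; rw [h]; push_cast; omega
    · apply tight; rw [h]; push_cast; omega
    · apply tight; rw [h]; push_cast; omega
    · apply tight; rw [h, Finset.card_univ, card_golayPt]; push_cast; omega
  · -- odd vectors
    obtain ⟨hxo, hnorm⟩ := odd_shape x h2 (by rw [hn]; decide)
    rw [hn] at hnorm
    have hcases : ((T5 x).card = 1 ∧ (T3 x).card = 0) ∨ ((T5 x).card = 0 ∧ (T3 x).card = 3) := by
      have : (3 : ℤ) * (T5 x).card + (T3 x).card = 3 := by omega
      have h' : 3 * (T5 x).card + (T3 x).card = 3 := by exact_mod_cast this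
      omega
    rcases hcases with ⟨h5, h3⟩ | ⟨h5, h3⟩
    · right; right; left
      exact ⟨_, _, _, hC, disjoint_T5_T3 x, h5, h3, hxo⟩
    · right; right; right
      exact ⟨_, _, _, hC, disjoint_T5_T3 x, h5, h3, hxo⟩

theorem set_eq : {x : GolayPt → ℤ | x ∈ leechLattice ∧ sqNorm x = 48} =
    EvFam 12 0 ∪ EvFam 8 1 ∪ OdFam 1 0 ∪ OdFam 0 3 := by
  ext x
  constructor
  · rintro ⟨hx, hn⟩
    rcases classify x hx hn with h | h | h | h
    · left; left; left; exact h
    · left; left; right; exact h
    · left; right; exact h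
    · right; exact h
  · rintro (((h | h) | h) | h)
    · have := EvFam_sub 12 0 x h; exact ⟨this.1, by rw [this.2]; rfl⟩
    · have := EvFam_sub 8 1 x h; exact ⟨this.1, by rw [this.2]; rfl⟩
    · have := OdFam_sub 1 0 (by decide) x h; exact ⟨this.1, by rw [this.2]; rfl⟩
    · have := OdFam_sub 0 3 (by decide) x h; exact ⟨this.1, by rw [this.2]; rfl⟩

theorem card_12_0 : (EvFam 12 0).ncard = 5275648 := by
  rw [EvFam_ncard Cfsg.Agent.Lib.Helper26_Golay.dodFinset 12 0 (by decide) dodFinset_spec,
    Cfsg.Agent.Lib.Helper26_Golay.dodFinset_card]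
  norm_num

theorem card_8_1 : (EvFam 8 1).ncard = 3108864 := by
  rw [EvFam_ncard Cfsg.Agent.Lib.Helper26_Golay.octFinset 8 1 (by decide) octFinset_spec,
    Cfsg.Agent.Lib.Helper26_Golay.octFinset_card]
  norm_num

theorem card_1_0 : (OdFam 1 0).ncard = 98304 := by
  rw [OdFam_ncard]; norm_num

theorem card_0_3 : (OdFam 0 3).ncard = 8290304 := by
  rw [OdFam_ncard]; norm_num [Nat.choose]

theorem fin_12_0 : (EvFam 12 0).Finite :=
  EvFam_finite Cfsg.Agent.Lib.Helper26_Golay.dodFinset 12 0 dodFinset_spec

theorem fin_8_1 : (EvFam 8 1).Finite :=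
  EvFam_finite Cfsg.Agent.Lib.Helper26_Golay.octFinset 8 1 octFinset_spec

theorem main :
    {x : GolayPt → ℤ | x ∈ leechLattice ∧ sqNorm x = 48}.ncard = 16773120 := by
  rw [set_eq,
    Set.ncard_union_eq (Set.disjoint_union_left.mpr ⟨Set.disjoint_union_left.mpr
      ⟨disjoint_Ev_Od 12 0 0 3, disjoint_Ev_Od 8 1 0 3⟩, disjoint_Od_Od 1 0 0 3 (by decide)⟩)
      (((fin_12_0.union fin_8_1)).union (OdFam_finite 1 0)) (OdFam_finite 0 3),
    Set.ncard_union_eq (Set.disjoint_union_left.mpr
      ⟨disjoint_Ev_Od 12 0 1 0, disjoint_Ev_Od 8 1 1 0⟩)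
      (fin_12_0.union fin_8_1) (OdFam_finite 1 0),
    Set.ncard_union_eq (disjoint_Ev_Ev 12 0 8 1 (by decide)) fin_12_0 fin_8_1,
    card_12_0, card_8_1, card_1_0, card_0_3]

theorem result : {x : Cfsg.GolayPt → ℤ | x ∈ Cfsg.leechLattice ∧ Cfsg.sqNorm x = 48}.ncard = 16773120 :=
  main

end Cfsg.Agent.S0395
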