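import Cfsg.Statements.S0401
import Cfsg.Agent.Lib.Helper7_Orbit
import Cfsg.Agent.S0395
import Cfsg.Agent.S0368
import Cfsg.Agent.S0367
import Cfsg.Agent.S0381
import Cfsg.Agent.S0364
import Cfsg.Agent.Lib.Helper7_Perm
import Cfsg.Agent.Lib.Helper7_Code

/-!
# `Co0` is transitive on the 16773120 vectors of sum of squares 48

The four shapes (`S0395.classify`) are reduced by monomial elements to one representative each,
and `xi` maps the representatives of three of the shapes to vectors of the fourth.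
-/

set_option autoImplicit false
open Cfsg
open scoped Pointwise

namespace Cfsg.Agent.S0401

open Cfsg.Agent.Lib.Helper7_M24 Cfsg.Agent.Lib.Helper7_Leech Cfsg.Agent.Lib.Helper92_Monomial
  Cfsg.Agent.Lib.Helper7_Xi Cfsg.Agent.Lib.Helper7_Bits Cfsg.Agent.Lib.Helper7_Base
  Cfsg.Agent.Lib.Helper92_LeechShapes Cfsg.Agent.S0400 Cfsg.Agent.Lib.Helper7_Orbit
  Cfsg.Agent.Lib.Helper7_Perm
open Cfsg.Agent.S0364 (octMask)
open Cfsg.Agent.S0381 (stdOct stdOct_mem)

/-! ### the shape `(∓3^3, ±1^21)` -/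

/-- The representative triple. -/
def T0 : Finset GolayPt := {dec 0, dec 1, dec 2}

/-- The representative `(3^3, -1^21)`. -/
def h0 : GolayPt → ℤ := od 0 ∅ T0

theorem od_mem_lattice (u : GolayPt → ZMod 2) (T5 T3 : Finset GolayPt) (hu : u ∈ golayCode)
    (hd : Disjoint T5 T3) (hodd : Odd (T5.card + T3.card)) : od u T5 T3 ∈ leechLattice :=
  (mem_leechLattice_iff _).mpr (od_mem u T5 T3 hu hd hodd)

theorem R_hub (u : GolayPt → ZMod 2) (T3 : Finset GolayPt) (hu : u ∈ golayCode)
    (h3 : T3.card = 3) : R (od u ∅ T3) h0 := by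
  have hx : od u ∅ T3 ∈ leechLattice :=
    od_mem_lattice u ∅ T3 hu (Finset.disjoint_empty_left _)
      (by rw [Finset.card_empty, h3]; decide)
  obtain ⟨σ, hσ, h⟩ := exists_smul_finset 3 (by norm_num) T3 T0 h3 (by decide)
  have := R_od hx hu golayCode.zero_mem σ hσ
  rwa [Finset.smul_finset_empty, h] at this

/-! ### the shape `(∓5, ±1^23)` -/

/-- The representative `(-5, -1^23)`. -/
def x3 : GolayPt → ℤ := od 0 {dec 0} ∅

def z3 : GolayPt → ℤ :=
  vecL [1, -3, -3, 1, 1, 1, 1, 1, 1, 1, 1, 1, 1, 1, 1, 1, 1, 1, 1, 1, 1, 1, 1, -3]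

theorem x3_z3 : ∀ p, A.mulVec x3 p = 2 * z3 p := by
  decide +kernel

theorem z3_eq : ∀ p, z3 p = od 1 ∅ {dec 1, dec 2, dec 23} p := by
  decide +kernel

theorem R_five (u : GolayPt → ZMod 2) (T5 : Finset GolayPt) (hu : u ∈ golayCode)
    (h5 : T5.card = 1) : R (od u T5 ∅) h0 := by
  have hx : od u T5 ∅ ∈ leechLattice :=
    od_mem_lattice u T5 ∅ hu (Finset.disjoint_empty_right _)
      (by rw [Finset.card_empty, h5]; decide)
  obtain ⟨σ, hσ, h⟩ := exists_smul_finset 1 (by norm_num) T5 {dec 0} h5 (by decide)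
  have h1 : R (od u T5 ∅) x3 := by
    have := R_od hx hu golayCode.zero_mem σ hσ
    rwa [Finset.smul_finset_empty, h] at this
  have h2 : R x3 z3 := R_xi h1.mem_right z3 x3_z3
  rw [show z3 = od 1 ∅ {dec 1, dec 2, dec 23} from funext z3_eq] at h2
  exact h1.trans (h2.trans (R_hub 1 _ one_mem (by decide)))

/-! ### the shape `(±2^12, 0^12)` -/

/-- The representative dodecad; it meets the tetrads of the sextet in `1, 1, 3, 1, 3, 3` points. -/
def D1 : Finset GolayPt := maskSet 57274

theorem D1_mem : D1 ∈ dodecads := by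
  refine ⟨⟨toWord 57274, toWord_mem_of_inCode (by decide +kernel), rfl⟩, ?_⟩
  show (support₂ (toWord 57274)).card = 12
  rw [Cfsg.Agent.Lib.Helper7_Code.card_support₂_toWord]
  decide

/-- Code words meeting `D1` in each of its 66 pairs. -/
def dodPairMasks : List ℕ :=
  [3416079, 4063314, 2826278, 5709954, 4989254, 1647171, 459847, 7145475, 5902343, 6447171,
   7438406, 663645, 2031657, 6488205, 7864649, 2949708, 3351624, 5842956, 7221256, 5652556,
   4563017, 1384564, 6889680, 7479572, 2564625, 3736597, 5441617, 6557781, 6053905, 5210132,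
   8126628, 6750560, 3277413, 2892897, 4597797, 7417889, 4800613, 5939296, 1769924, 5112513,
   5252293, 3811457, 864389, 3489985, 2531524, 5571333, 4924673, 2173253, 1454401, 3031301,
   4038912, 1975812, 7612992, 4403780, 8077824, 6857221, 6949956, 6100032, 6644740, 7767041,
   3610628, 1009728, 1869893, 3698756, 2854977, 1302533]

theorem dod_pair_exists : ∀ a b : GolayPt, (57274).testBit (enc a) = true →
    (57274).testBit (enc b) = true → a ≠ b →
    ∃ m ∈ dodPairMasks, inCode m = true ∧ ∀ p : GolayPt, (57274).testBit (enc p) = true →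
      (m.testBit (enc p) = true ↔ (p = a ∨ p = b)) := by
  decide +kernel

theorem D1_pairs : ∀ a ∈ D1, ∀ b ∈ D1, a ≠ b →
    ∃ w ∈ golayCode, ∀ j ∈ D1, (w j = 1 ↔ (j = a ∨ j = b)) := by
  intro a ha b hb hab
  obtain ⟨m, _, hm, hp⟩ := dod_pair_exists a b ((mem_maskSet _ _).mp ha)
    ((mem_maskSet _ _).mp hb) hab
  refine ⟨toWord m, toWord_mem_of_inCode hm, fun j hj => ?_⟩
  rw [toWord_eq_one_iff]
  exact hp j ((mem_maskSet _ _).mp hj)

theorem octad_pairs : ∀ a ∈ stdOct, ∀ b ∈ stdOct, a ≠ b →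
    ∃ w ∈ golayCode, ∀ j ∈ stdOct, (w j = 1 ↔ (j = a ∨ j = b)) := by
  intro a ha b hb hab
  obtain ⟨m, _, hm, hp⟩ := pair_exists a b ((mem_stdOct a).mp ha) ((mem_stdOct b).mp hb) hab
  refine ⟨toWord m, toWord_mem_of_inCode hm, fun j hj => ?_⟩
  rw [toWord_eq_one_iff]
  exact hp j ((mem_stdOct j).mp hj)

/-- The representative `2` on `D1`. -/
def c1 : GolayPt → ℤ := ev D1 ∅ ∅ ∅

def z1 : GolayPt → ℤ :=
  vecL [1, -1, 1, -1, 1, -1, -1, 1, -1, -1, -1, -1, -1, -1, -1, -1, -1, -3, -3, -1, -3, -1, -1, 1]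

theorem c1_z1 : ∀ p, A.mulVec c1 p = 2 * z1 p := by
  decide +kernel

theorem z1_eq : ∀ p, z1 p = od (toWord 9830549) ∅ {dec 17, dec 18, dec 20} p := by
  decide +kernel

theorem R_twelve (x : GolayPt → ℤ) (hx : x ∈ EvFam 12 0) : R x h0 := by
  have hxl := (EvFam_sub 12 0 x hx).1
  obtain ⟨P, N, Q, N', hok, hP, hQ, rfl⟩ := hx
  have hQ0 : Q = ∅ := Finset.card_eq_zero.mp hQ
  subst hQ0
  have hN'0 : N' = ∅ := Finset.subset_empty.mp hok.subN'
  subst hN'0
  obtain ⟨g, hg⟩ := Cfsg.Agent.S0368.result P D1 ⟨hok.code, hP⟩ D1_mem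
  have hg' : (g : Equiv.Perm GolayPt) • P = D1 := hg
  have h1 : R (ev P N ∅ ∅) (ev D1 ((g : Equiv.Perm GolayPt) • N) ∅ ∅) := by
    have := R_perm hxl (g : Equiv.Perm GolayPt) g.2
    rwa [permVec_ev, hg', Finset.smul_finset_empty] at this
  have hsub : (g : Equiv.Perm GolayPt) • N ⊆ D1 := by
    rw [← hg']
    exact Finset.smul_finset_subset_smul_finset hok.subN
  have hpar : Even (((g : Equiv.Perm GolayPt) • N).card + (∅ : Finset GolayPt).card) := by
    rw [Finset.card_smul_finset]
    exact hok.par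
  obtain ⟨M', h2⟩ := R_ev_sign D1 D1_pairs _ ∅ ∅ ∅ h1.mem_right hsub (Finset.empty_subset _) hpar
  have e : ev D1 ∅ ∅ M' = c1 :=
    ev_congr D1 ∅ ∅ ∅ M' ∅ (fun _ _ => Iff.rfl) (fun j hj => absurd hj (Finset.notMem_empty j))
  rw [e] at h2
  have h3 : R c1 z1 := R_xi h2.mem_right z1 c1_z1
  rw [show z1 = od (toWord 9830549) ∅ {dec 17, dec 18, dec 20} from funext z1_eq] at h3
  exact h1.trans (h2.trans (h3.trans
    (R_hub _ _ (toWord_mem_of_inCode (by decide +kernel)) (by decide))))

/-! ### the shape `(±4, ±2^8, 0^15)` -/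

/-- The complement of the standard octad, as a code word. -/
def coWord : GolayPt → ZMod 2 := 1 + toWord octMask

theorem coWord_mem : coWord ∈ golayCode :=
  golayCode.add_mem one_mem (toWord_mem_of_inCode Cfsg.Agent.S0364.inCode_octMask)

theorem mem_support₂_coWord (j : GolayPt) : j ∈ support₂ coWord ↔ j ∉ stdOct := by
  rw [mem_support₂, mem_stdOct]
  unfold coWord
  rw [Pi.add_apply, Pi.one_apply, toWord_apply]
  by_cases h : octMask.testBit (enc j) = true
  · rw [if_pos h]
    simp [h]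
  · rw [if_neg h]
    simp [h]

/-- The normalised representative relative to the standard octad. -/
def c2std : GolayPt → ℤ := ev stdOct {dec 0} {dec 4} ∅

def l2 : List ℕ :=
  [22, 23, 12, 2, 21, 0, 11, 16, 10, 3, 8, 17, 19, 13, 5, 6, 14, 7, 15, 1, 18, 20, 4, 9]

def l2' : List ℕ :=
  [5, 19, 3, 9, 22, 14, 15, 17, 10, 23, 8, 6, 2, 13, 16, 18, 7, 11, 20, 12, 21, 4, 0, 1]

/-- A permutation moving `c2std` to a vector that `xi` maps to the shape `(∓3^3, ±1^21)`. -/
def g2 : Equiv.Perm GolayPt := listPerm l2 l2' (by decide) (by decide)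

theorem g2_mem : g2 ∈ M24 := listPerm_mem_M24 _ _ _ _ (by decide +kernel)

def z2 : GolayPt → ℤ :=
  vecL [1, 3, 1, -1, 1, 1, -3, -1, -1, 1, -1, -1, 1, 1, -1, -1, 1, -1, -1, -3, -1, 1, -1, 1]

theorem c2_z2 : ∀ p, A.mulVec (permVec g2 c2std) p = 2 * z2 p := by
  decide +kernel

theorem z2_eq : ∀ p, z2 p = od (toWord 11088501) ∅ {dec 1, dec 6, dec 19} p := by
  decide +kernel

theorem c2std_mem : c2std ∈ leechLattice :=
  (mem_leechLattice_iff _).mpr (ev_mem
    { code := stdOct_mem.1
      subN := by decide +kernel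
      disj := by decide +kernel
      subN' := Finset.empty_subset _
      par := by decide })

theorem R_c2std : R c2std h0 := by
  have h1 : R c2std (permVec g2 c2std) := R_perm c2std_mem g2 g2_mem
  have h2 : R (permVec g2 c2std) z2 := R_xi h1.mem_right z2 c2_z2
  rw [show z2 = od (toWord 11088501) ∅ {dec 1, dec 6, dec 19} from funext z2_eq] at h2
  exact h1.trans (h2.trans (R_hub _ _ (toWord_mem_of_inCode (by decide +kernel)) (by decide)))

theorem smul_stdOct_of_mem_K (k : Equiv.Perm GolayPt) (hk : k ∈ Cfsg.Agent.S0381.K stdOct) :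
    k • stdOct = stdOct := by
  have hfix := ((Cfsg.Agent.S0381.mem_K_iff _ _).mp hk).2
  apply Finset.eq_of_subset_of_card_le
  · intro p hp
    rw [Finset.mem_smul_finset] at hp
    obtain ⟨q, hq, rfl⟩ := hp
    rw [Equiv.Perm.smul_def, hfix q hq]
    exact hq
  · rw [Finset.card_smul_finset]

/-- The pointwise stabiliser of the standard octad is transitive on the other 16 points. -/
theorem exists_K_map (q : GolayPt) (hq : q ∉ stdOct) :
    ∃ k ∈ Cfsg.Agent.S0381.K stdOct, k q = dec 4 := by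
  have hq' : octMask.testBit (enc q) = false := by
    rw [mem_stdOct] at hq
    exact Bool.eq_false_iff.mpr hq
  obtain ⟨k, hk, h4, hkk⟩ := Cfsg.Agent.S0381.exists_elt (enc q)
    (Cfsg.Agent.S0364.coOct_cases q hq')
  refine ⟨k, hk, ?_⟩
  rw [dec_enc] at h4
  rw [← h4, ← Equiv.Perm.mul_apply, hkk, Equiv.Perm.one_apply]

theorem R_eight_one (x : GolayPt → ℤ) (hx : x ∈ EvFam 8 1) : R x h0 := by
  have hxl := (EvFam_sub 8 1 x hx).1
  obtain ⟨P, N, Q, N', hok, hP, hQ, rfl⟩ := hx
  obtain ⟨q, rfl⟩ := Finset.card_eq_one.mp hQ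
  have hqP : q ∉ P := fun h =>
    Finset.disjoint_left.mp hok.disj h (Finset.mem_singleton_self q)
  -- move the octad
  obtain ⟨g, hg⟩ := Cfsg.Agent.S0367.result P stdOct ⟨hok.code, hP⟩ stdOct_mem
  have hg' : (g : Equiv.Perm GolayPt) • P = stdOct := hg
  have hgq : (g : Equiv.Perm GolayPt) q ∉ stdOct := by
    rw [← hg', mem_smul_iff, Equiv.symm_apply_apply]
    exact hqP
  obtain ⟨k, hk, hkq⟩ := exists_K_map _ hgq
  have hkM : k ∈ M24 := ((Cfsg.Agent.S0381.mem_K_iff _ _).mp hk).1
  let σ : Equiv.Perm GolayPt := k * (g : Equiv.Perm GolayPt)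
  have hσ : σ ∈ M24 := M24.mul_mem hkM g.2
  have hσP : σ • P = stdOct := by
    show (k * (g : Equiv.Perm GolayPt)) • P = stdOct
    rw [mul_smul, hg', smul_stdOct_of_mem_K k hk]
  have hσq : σ • ({q} : Finset GolayPt) = {dec 4} := by
    rw [Finset.smul_finset_singleton]
    show ({(k * (g : Equiv.Perm GolayPt)) q} : Finset GolayPt) = {dec 4}
    rw [Equiv.Perm.mul_apply, hkq]
  have h1 : R (ev P N {q} N') (ev stdOct (σ • N) {dec 4} (σ • N')) := by
    have := R_perm hxl σ hσ
    rwa [permVec_ev, hσP, hσq] at this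
  -- signs on the octad
  have hsub : σ • N ⊆ stdOct := by
    rw [← hσP]
    exact Finset.smul_finset_subset_smul_finset hok.subN
  have hpar : Even ((σ • N).card + ({dec 0} : Finset GolayPt).card) := by
    rw [Finset.card_smul_finset, Finset.card_singleton]
    have := hok.par
    rwa [Finset.card_singleton] at this
  obtain ⟨M', h2⟩ := R_ev_sign stdOct octad_pairs _ {dec 0} {dec 4} _ h1.mem_right hsub
    (by decide +kernel) hpar
  -- the sign of the entry 4
  have h3 : R (ev stdOct {dec 0} {dec 4} M') c2std := by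
    by_cases h4 : dec 4 ∈ M'
    · have := R_flip h2.mem_right coWord coWord_mem
      rw [signFlip_ev] at this
      have e : ev stdOct (symmDiff {dec 0} (support₂ coWord)) {dec 4}
          (symmDiff M' (support₂ coWord)) = c2std := by
        apply ev_congr
        · intro j hj
          rw [Finset.mem_symmDiff, mem_support₂_coWord]
          tauto
        · intro j hj
          rw [Finset.mem_singleton] at hj
          subst hj
          rw [Finset.mem_symmDiff, mem_support₂_coWord]
          have : dec 4 ∉ stdOct := by decide +kernel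
          simp [h4, this]
      rwa [e] at this
    · have e : ev stdOct {dec 0} {dec 4} M' = c2std := by
        apply ev_congr
        · intro j _
          exact Iff.rfl
        · intro j hj
          rw [Finset.mem_singleton] at hj
          subst hj
          simp [h4]
      rw [e]
      exact R.refl c2std_mem
  exact h1.trans (h2.trans (h3.trans R_c2std))

/-- Every vector of sum of squares 48 is in the orbit of `h0`. -/
theorem R_48 (x : GolayPt → ℤ) (hx : x ∈ leechLattice) (hn : sqNorm x = 48) : R x h0 := by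
  rcases Cfsg.Agent.S0395.classify x hx hn with h | h | h | h
  · exact R_twelve x h
  · exact R_eight_one x h
  · obtain ⟨u, T5, T3, hu, _, h5, h3, rfl⟩ := h
    have : T3 = ∅ := Finset.card_eq_zero.mp h3
    subst this
    exact R_five u T5 hu h5
  · obtain ⟨u, T5, T3, hu, _, h5, h3, rfl⟩ := h
    have : T5 = ∅ := Finset.card_eq_zero.mp h5
    subst this
    exact R_hub u T3 hu h3

/-- Automorphisms of the lattice act transitively on vectors of sum of squares 48. -/
theorem result (v w : Cfsg.leechLattice) (hv : Cfsg.sqNorm (v : Cfsg.GolayPt → ℤ) = 48) (hw : Cfsg.sqNorm (w : Cfsg.GolayPt → ℤ) = 48) : ∃ g : Cfsg.Co0, g • v = w := by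
  obtain ⟨g, hg, hx, hgw⟩ := (R_48 v.1 v.2 hv).trans (R_48 w.1 w.2 hw).symm
  refine ⟨⟨g, hg⟩, ?_⟩
  apply Subtype.ext
  exact hgw

end Cfsg.Agent.S0401
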