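import Mathlib
import Cfsg.Agent.Lib.Helper26_Co3Orbit
import Cfsg.Agent.Lib.Helper26_VecTransfer
import Cfsg.Agent.S0401

set_option autoImplicit false

namespace Cfsg.Agent.S1640

open Cfsg Cfsg.Agent.Lib.Helper26_VecCode Cfsg.Agent.Lib.Helper26_Co3Data
  Cfsg.Agent.Lib.Helper26_Golay

/-- The standard norm 48 vector as a lattice vector. -/
def u3L : leechLattice := ⟨vecC conU.a, cu3_mem⟩

theorem u3L_norm : sqNorm (u3L : GolayPt → ℤ) = 48 := by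
  show sqNorm (vecC conU.a) = 48
  rw [sqNorm_vecC]
  decide +kernel

theorem conU_k : conU.k = -16 := by decide +kernel

theorem result (u : ↥Cfsg.leechLattice) (hu : Cfsg.sqNorm (u : Cfsg.GolayPt → ℤ) = 48) : {x : ↥Cfsg.leechLattice | Cfsg.sqNorm (x : Cfsg.GolayPt → ℤ) = 32 ∧ Cfsg.dotInt (u : Cfsg.GolayPt → ℤ) (x : Cfsg.GolayPt → ℤ) = -16}.ncard = 11178 ∧ ∀ x ∈ {x : ↥Cfsg.leechLattice | Cfsg.sqNorm (x : Cfsg.GolayPt → ℤ) = 32 ∧ Cfsg.dotInt (u : Cfsg.GolayPt → ℤ) (x : Cfsg.GolayPt → ℤ) = -16}, ∀ x' ∈ {x : ↥Cfsg.leechLattice | Cfsg.sqNorm (x : Cfsg.GolayPt → ℤ) = 32 ∧ Cfsg.dotInt (u : Cfsg.GolayPt → ℤ) (x : Cfsg.GolayPt → ℤ) = -16}, ∃ g : ↥Cfsg.Co0, g • u = u ∧ g • x = x' := by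
  obtain ⟨h, hh⟩ := Cfsg.Agent.S0401.result u u3L hu u3L_norm
  have hv : ((h.1 u : leechLattice) : GolayPt → ℤ) = vecC conU.a := by
    have : h.1 u = u3L := hh
    rw [this]; rfl
  have hSX : ∀ x : leechLattice, x ∈ {x : ↥Cfsg.leechLattice |
      Cfsg.sqNorm (x : Cfsg.GolayPt → ℤ) = 32 ∧
        Cfsg.dotInt (u : Cfsg.GolayPt → ℤ) (x : Cfsg.GolayPt → ℤ) = -16} ↔
      ((h.1 x : leechLattice) : GolayPt → ℤ) ∈ minSet consU := by
    intro x
    have := mem_minSet_one h.1 h.2 conU u hv x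
    rw [conU_k] at this
    exact this.symm
  constructor
  · rw [transfer_ncard h.1 _ (minSet consU) (minSet_sub _) hSX]
    exact co3_std.1
  · intro x hx x' hx'
    have hrel := co3_std.2 _ ((hSX x).mp hx) _ ((hSX x').mp hx')
    obtain ⟨g, hg1, hg2⟩ := transfer_rel {u} (baseSet (baseOf consU)) h.1 h.2 (by
      intro f hf
      rw [Set.mem_singleton_iff] at hf
      rw [hf]
      exact mem_baseSet_of consU _ conU (List.mem_singleton.mpr rfl) hv) x x' hrel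
    exact ⟨g, hg1 u rfl, hg2⟩

end Cfsg.Agent.S1640
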