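-- Statement S1557 (row 1557): Cfsg.disjoint_octads_third_octad.
import Mathlib
import Cfsg.Statements.S1557
import Cfsg.Agent.Lib.Helper26_M24Act
import Cfsg.Agent.Lib.Helper26_M24Trans

set_option autoImplicit false
set_option linter.constructorNameAsVariable false
open Cfsg
open scoped Pointwise
open Cfsg.Agent.Lib.Helper26_Golay

namespace Cfsg.Agent.S1557

theorem compl_union_mem {o o' : Finset GolayPt} (ho : o ∈ octads) (ho' : o' ∈ octads)
    (hd : Disjoint o o') : (o ∪ o')ᶜ ∈ octads := by
  have h1 : symmDiff o o' = o ∪ o' := hd.symmDiff_eq_sup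
  have h2 := supports_compl (supports_symmDiff ho.1 ho'.1)
  rw [h1] at h2
  refine ⟨h2, ?_⟩
  rw [Finset.card_compl, Finset.card_union_of_disjoint hd, ho.2, ho'.2]
  rfl

theorem disjoint_smul_iff (g : Equiv.Perm GolayPt) (s t : Finset GolayPt) :
    Disjoint (g • s) (g • t) ↔ Disjoint s t := by
  rw [Finset.disjoint_iff_inter_eq_empty, Finset.disjoint_iff_inter_eq_empty,
    ← Finset.smul_finset_inter, Finset.smul_finset_eq_empty]

theorem count_disjoint_base : (octFinset.filter (fun o' => Disjoint oct0 o')).card = 30 := by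
  rw [card_filter_octFinset _ (fun n => octAt 0 &&& n == 0)]
  · decide +kernel
  · intro n hn
    rw [disjoint_iff_enc, enc_oct0, enc_dec n (lt_of_isCode ((mem_octList_iff n).mp hn).1),
      beq_iff_eq]

theorem count_disjoint {o : Finset GolayPt} (ho : o ∈ octads) :
    (octFinset.filter (fun o' => Disjoint o o')).card = 30 := by
  obtain ⟨g, hg, rfl⟩ := exists_smul_oct0_eq ho
  rw [← count_disjoint_base]
  apply card_filter_octFinset_smul hg
  intro x _
  exact disjoint_smul_iff g oct0 x

/-- The third octad of the trio through two disjoint octads is determined. -/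
theorem third_eq {o o' o'' : Finset GolayPt} (ho : o ∈ octads) (ho' : o' ∈ octads)
    (ho'' : o'' ∈ octads) (h1 : Disjoint o o') (h2 : Disjoint o o'') (h3 : Disjoint o' o'') :
    o'' = (o ∪ o')ᶜ := by
  apply Finset.eq_of_subset_of_card_le
  · intro p hp
    rw [Finset.mem_compl, Finset.mem_union]
    rintro (h | h)
    · exact Finset.disjoint_left.mp h2 h hp
    · exact Finset.disjoint_left.mp h3 h hp
  · rw [(compl_union_mem ho ho' h1).2, ho''.2]

theorem octad_nonempty {o : Finset GolayPt} (ho : o ∈ octads) : o.Nonempty := by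
  rw [← Finset.card_pos, ho.2]
  norm_num

theorem ne_of_disjoint {o o' : Finset GolayPt} (ho : o ∈ octads) (h : Disjoint o o') : o ≠ o' := by
  rintro rfl
  rw [disjoint_self] at h
  have := octad_nonempty ho
  rw [h] at this
  simp at this

/-- The trio through two disjoint octads. -/
def trioOf (o o' : Finset GolayPt) : Finset (Finset GolayPt) := {o, o', (o ∪ o')ᶜ}

theorem disjoint_compl_union_left (o o' : Finset GolayPt) : Disjoint o (o ∪ o')ᶜ := by
  rw [Finset.disjoint_left]
  intro p hp hp'
  rw [Finset.mem_compl, Finset.mem_union] at hp'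
  exact hp' (Or.inl hp)

theorem disjoint_compl_union_right (o o' : Finset GolayPt) : Disjoint o' (o ∪ o')ᶜ := by
  rw [Finset.disjoint_left]
  intro p hp hp'
  rw [Finset.mem_compl, Finset.mem_union] at hp'
  exact hp' (Or.inr hp)

theorem trioOf_mem {o o' : Finset GolayPt} (ho : o ∈ octads) (ho' : o' ∈ octads)
    (hd : Disjoint o o') : trioOf o o' ∈ trios := by
  have hc := compl_union_mem ho ho' hd
  have h1 := disjoint_compl_union_left o o'
  have h2 := disjoint_compl_union_right o o'
  have n1 : o ≠ o' := ne_of_disjoint ho hd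
  have n2 : o ≠ (o ∪ o')ᶜ := ne_of_disjoint ho h1
  have n3 : o' ≠ (o ∪ o')ᶜ := ne_of_disjoint ho' h2
  refine ⟨?_, ?_, ?_⟩
  · unfold trioOf
    rw [Finset.card_insert_of_notMem, Finset.card_insert_of_notMem, Finset.card_singleton]
    · rw [Finset.mem_singleton]; exact n3
    · rw [Finset.mem_insert, Finset.mem_singleton]
      rintro (h | h)
      · exact n1 h
      · exact n2 h
  · intro x hx
    unfold trioOf at hx
    rw [Finset.mem_insert, Finset.mem_insert, Finset.mem_singleton] at hx
    rcases hx with rfl | rfl | rfl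
    · exact ho
    · exact ho'
    · exact hc
  · intro x hx y hy hne
    unfold trioOf at hx hy
    rw [Finset.mem_insert, Finset.mem_insert, Finset.mem_singleton] at hx hy
    rcases hx with rfl | rfl | rfl <;> rcases hy with rfl | rfl | rfl
    · exact absurd rfl hne
    · exact hd
    · exact h1
    · exact hd.symm
    · exact absurd rfl hne
    · exact h2
    · exact h1.symm
    · exact h2.symm
    · exact absurd rfl hne

theorem eq_trioOf {T : Finset (Finset GolayPt)} (hT : T ∈ trios) {o o' : Finset GolayPt}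
    (ho : o ∈ T) (ho' : o' ∈ T) (hne : o ≠ o') : T = trioOf o o' := by
  obtain ⟨hc, hoct, hdis⟩ := hT
  have hd : Disjoint o o' := hdis o ho o' ho' hne
  symm
  apply Finset.eq_of_subset_of_card_le
  · intro x hx
    unfold trioOf at hx
    rw [Finset.mem_insert, Finset.mem_insert, Finset.mem_singleton] at hx
    rcases hx with rfl | rfl | rfl
    · exact ho
    · exact ho'
    · -- the third member of T is the complement
      have h2 : ({o, o'} : Finset (Finset GolayPt)).card = 2 := Finset.card_pair hne
      have hsub : ({o, o'} : Finset (Finset GolayPt)) ⊆ T := by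
        intro y hy
        rw [Finset.mem_insert, Finset.mem_singleton] at hy
        rcases hy with rfl | rfl
        · exact ho
        · exact ho'
      have hlt : ({o, o'} : Finset (Finset GolayPt)).card < T.card := by rw [h2, hc]; norm_num
      obtain ⟨z, hzT, hz⟩ := Finset.exists_mem_notMem_of_card_lt_card hlt
      rw [Finset.mem_insert, Finset.mem_singleton, not_or] at hz
      have := third_eq (hoct o ho) (hoct o' ho') (hoct z hzT) hd
        (hdis o ho z hzT (Ne.symm hz.1)) (hdis o' ho' z hzT (Ne.symm hz.2))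
      rw [← this]
      exact hzT
  · rw [hc, (trioOf_mem (hoct o ho) (hoct o' ho') hd).1]

theorem trios_ncard : trios.ncard = 3795 := by
  classical
  have hfin : trios.Finite := Set.toFinite _
  let F : Finset (Finset (Finset GolayPt)) := hfin.toFinset
  have hF : ∀ T, T ∈ F ↔ T ∈ trios := fun T => hfin.mem_toFinset
  -- ordered pairs of disjoint octads
  let Pr : Finset (Finset GolayPt × Finset GolayPt) :=
    (octFinset ×ˢ octFinset).filter (fun x => Disjoint x.1 x.2)
  have hPr : ∀ x, x ∈ Pr ↔ x.1 ∈ octads ∧ x.2 ∈ octads ∧ Disjoint x.1 x.2 := by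
    intro x
    simp only [Pr, Finset.mem_filter, Finset.mem_product, mem_octFinset_iff, and_assoc]
  have hPrcard : Pr.card = 22770 := by
    have h1 : Pr = octFinset.biUnion (fun o => (octFinset.filter (fun o' => Disjoint o o')).image
        (fun o' => (o, o'))) := by
      ext ⟨a, b⟩
      simp only [Pr, Finset.mem_filter, Finset.mem_product, Finset.mem_biUnion, Finset.mem_image,
        Prod.mk.injEq]
      constructor
      · rintro ⟨⟨ha, hb⟩, hd⟩
        exact ⟨a, ha, b, ⟨hb, hd⟩, rfl, rfl⟩
      · rintro ⟨o, ho, o', ⟨ho', hd⟩, rfl, rfl⟩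
        exact ⟨⟨ho, ho'⟩, hd⟩
    rw [h1, Finset.card_biUnion]
    · have : ∀ o ∈ octFinset, ((octFinset.filter (fun o' => Disjoint o o')).image
          (fun o' => (o, o'))).card = 30 := by
        intro o ho
        rw [Finset.card_image_of_injective _ (Prod.mk_right_injective o)]
        exact count_disjoint ((mem_octFinset_iff o).mp ho)
      rw [Finset.sum_congr rfl this, Finset.sum_const, octFinset_card]
      norm_num
    · intro o _ o' _ hne
      rw [Function.onFun, Finset.disjoint_left]
      intro x hx hx'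
      rw [Finset.mem_image] at hx hx'
      obtain ⟨_, _, rfl⟩ := hx
      obtain ⟨_, _, h⟩ := hx'
      exact hne (Prod.mk.inj h).1.symm
  have hdc := Finset.sum_card_bipartiteAbove_eq_sum_card_bipartiteBelow
    (s := Pr) (t := F) (fun (x : Finset GolayPt × Finset GolayPt) (T : Finset (Finset GolayPt)) =>
      x.1 ∈ T ∧ x.2 ∈ T)
  have hleft : ∀ x ∈ Pr, (Finset.bipartiteAbove (fun (x : Finset GolayPt × Finset GolayPt)
      (T : Finset (Finset GolayPt)) => x.1 ∈ T ∧ x.2 ∈ T) F x).card = 1 := by
    intro x hx
    rw [hPr] at hx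
    obtain ⟨h1, h2, hd⟩ := hx
    rw [Finset.card_eq_one]
    refine ⟨trioOf x.1 x.2, ?_⟩
    ext T
    rw [Finset.mem_singleton, Finset.mem_bipartiteAbove, hF]
    constructor
    · rintro ⟨hT, ha, hb⟩
      exact eq_trioOf hT ha hb (ne_of_disjoint h1 hd)
    · rintro rfl
      refine ⟨trioOf_mem h1 h2 hd, ?_, ?_⟩
      · unfold trioOf; simp
      · unfold trioOf; simp
  have hright : ∀ T ∈ F, (Finset.bipartiteBelow (fun (x : Finset GolayPt × Finset GolayPt)
      (T : Finset (Finset GolayPt)) => x.1 ∈ T ∧ x.2 ∈ T) Pr T).card = 6 := by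
    intro T hT
    rw [hF] at hT
    have : Finset.bipartiteBelow (fun (x : Finset GolayPt × Finset GolayPt)
        (T : Finset (Finset GolayPt)) => x.1 ∈ T ∧ x.2 ∈ T) Pr T = T.offDiag := by
      ext ⟨a, b⟩
      rw [Finset.mem_bipartiteBelow, hPr, Finset.mem_offDiag]
      constructor
      · rintro ⟨⟨h1, _, hd⟩, ha, hb⟩
        exact ⟨ha, hb, ne_of_disjoint h1 hd⟩
      · rintro ⟨ha, hb, hne⟩
        exact ⟨⟨hT.2.1 a ha, hT.2.1 b hb, hT.2.2 a ha b hb hne⟩, ha, hb⟩
    rw [this, Finset.offDiag_card, hT.1]
  rw [Finset.sum_congr rfl hleft, Finset.sum_congr rfl hright, Finset.sum_const, Finset.sum_const,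
    hPrcard, smul_eq_mul, smul_eq_mul] at hdc
  have hFc : F.card = 3795 := by omega
  rw [← hFc, Set.ncard_eq_toFinset_card trios hfin]

/-- The complement of the union of two disjoint octads is an octad, and the code has exactly 3795 trios of pairwise disjoint octads. -/
theorem result : (∀ o o' : Finset Cfsg.GolayPt, o ∈ Cfsg.octads → o' ∈ Cfsg.octads → Disjoint o o' → (o ∪ o')ᶜ ∈ Cfsg.octads) ∧ Cfsg.trios.ncard = 3795 :=
  ⟨fun _ _ ho ho' hd => compl_union_mem ho ho' hd, trios_ncard⟩

end Cfsg.Agent.S1557
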