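-- Statement S1550 (row 1550): Cfsg.tetrad_in_unique_sextet.
import Mathlib
import Cfsg.Statements.S1550
import Cfsg.Agent.Lib.Helper26_GolaySets

set_option autoImplicit false
open Cfsg
open Cfsg.Agent.Lib.Helper26_Golay

namespace Cfsg.Agent.S1550

/-- The octads containing a given set. -/
def octsThrough (t : Finset GolayPt) : Finset (Finset GolayPt) :=
  octFinset.filter (fun o => t ⊆ o)

theorem mem_octsThrough (t o : Finset GolayPt) : o ∈ octsThrough t ↔ o ∈ octads ∧ t ⊆ o := by
  unfold octsThrough
  rw [Finset.mem_filter, mem_octFinset_iff]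

theorem inter_eq {t o o' : Finset GolayPt} (ht : t.card = 4) (ho : o ∈ octsThrough t)
    (ho' : o' ∈ octsThrough t) (hne : o ≠ o') : o ∩ o' = t := by
  rw [mem_octsThrough] at ho ho'
  symm
  apply Finset.eq_of_subset_of_card_le (Finset.subset_inter ho.2 ho'.2)
  rw [ht]
  by_contra hlt
  rw [not_le] at hlt
  exact hne (octad_eq_of_five_le ho.1 ho'.1 hlt)

theorem sdiff_union_sdiff {t o o' : Finset GolayPt} (h : o ∩ o' = t) :
    (o \ t) ∪ (o' \ t) = symmDiff o o' := by
  have h1 : o \ t = o \ o' := by rw [← h, Finset.sdiff_inter_self_left]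
  have h2 : o' \ t = o' \ o := by rw [← h, Finset.inter_comm, Finset.sdiff_inter_self_left]
  rw [h1, h2]
  rfl

theorem symmDiff_mem_octads {t o o' : Finset GolayPt} (ht : t.card = 4) (ho : o ∈ octsThrough t)
    (ho' : o' ∈ octsThrough t) (hne : o ≠ o') : symmDiff o o' ∈ octads := by
  have hi := inter_eq ht ho ho' hne
  rw [mem_octsThrough] at ho ho'
  refine ⟨supports_symmDiff ho.1.1 ho'.1.1, ?_⟩
  have := card_symmDiff_add o o'
  rw [hi, ht, ho.1.2, ho'.1.2] at this
  omega

theorem card_sdiff_of_mem {t o : Finset GolayPt} (ht : t.card = 4) (ho : o ∈ octsThrough t) :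
    (o \ t).card = 4 := by
  rw [mem_octsThrough] at ho
  rw [Finset.card_sdiff_of_subset ho.2, ho.1.2, ht]

theorem card_octsThrough {t : Finset GolayPt} (ht : t.card = 4) : (octsThrough t).card = 5 := by
  have hU : (octsThrough t).biUnion (fun o => o \ t) = tᶜ := by
    ext p
    rw [Finset.mem_biUnion, Finset.mem_compl]
    constructor
    · rintro ⟨o, _, hp⟩
      exact (Finset.mem_sdiff.mp hp).2
    · intro hp
      have h5 : (insert p t).card = 5 := by rw [Finset.card_insert_of_notMem hp, ht]
      obtain ⟨o, ⟨ho, hsub⟩, _⟩ := exists_unique_octad (insert p t) h5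
      refine ⟨o, ?_, ?_⟩
      · rw [mem_octsThrough]
        exact ⟨ho, (Finset.subset_insert p t).trans hsub⟩
      · rw [Finset.mem_sdiff]
        exact ⟨hsub (Finset.mem_insert_self p t), hp⟩
  have hcard := Finset.card_biUnion (s := octsThrough t) (t := fun o => o \ t) (by
    intro o ho o' ho' hne
    have hi := inter_eq ht ho ho' hne
    show Disjoint (o \ t) (o' \ t)
    rw [Finset.disjoint_left]
    intro p hp hp'
    rw [Finset.mem_sdiff] at hp hp'
    apply hp.2
    rw [← hi, Finset.mem_inter]
    exact ⟨hp.1, hp'.1⟩)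
  rw [hU, Finset.card_compl, ht, Finset.sum_congr rfl (fun o ho => card_sdiff_of_mem ht ho),
    Finset.sum_const, smul_eq_mul] at hcard
  have h24 : Fintype.card GolayPt = 24 := rfl
  rw [h24] at hcard
  omega

/-- The sextet through a tetrad. -/
def sextetOf (t : Finset GolayPt) : Finset (Finset GolayPt) :=
  insert t ((octsThrough t).image (fun o => o \ t))

theorem sdiff_injOn {t : Finset GolayPt} :
    Set.InjOn (fun o => o \ t) (octsThrough t : Set (Finset GolayPt)) := by
  intro o ho o' ho' h
  rw [Finset.mem_coe, mem_octsThrough] at ho ho'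
  have h1 : o = t ∪ (o \ t) := by rw [Finset.union_sdiff_of_subset ho.2]
  have h2 : o' = t ∪ (o' \ t) := by rw [Finset.union_sdiff_of_subset ho'.2]
  rw [h1, h2]
  simp only at h
  rw [h]

theorem notMem_image {t : Finset GolayPt} (ht : t.card = 4) :
    t ∉ (octsThrough t).image (fun o => o \ t) := by
  intro h
  rw [Finset.mem_image] at h
  obtain ⟨o, ho, h⟩ := h
  have h4 := card_sdiff_of_mem ht ho
  have hd : Disjoint (o \ t) t := Finset.sdiff_disjoint
  rw [h] at hd
  have : t = ∅ := by simpa using hd
  rw [this] at ht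
  simp at ht

theorem sextetOf_mem {t : Finset GolayPt} (ht : t.card = 4) : sextetOf t ∈ sextets := by
  refine ⟨?_, ?_, ?_⟩
  · unfold sextetOf
    rw [Finset.card_insert_of_notMem (notMem_image ht), Finset.card_image_of_injOn sdiff_injOn,
      card_octsThrough ht]
  · intro u hu
    unfold sextetOf at hu
    rw [Finset.mem_insert, Finset.mem_image] at hu
    rcases hu with rfl | ⟨o, ho, rfl⟩
    · exact ht
    · exact card_sdiff_of_mem ht ho
  · intro u hu v hv hne
    unfold sextetOf at hu hv
    rw [Finset.mem_insert, Finset.mem_image] at hu hv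
    rcases hu with rfl | ⟨o, ho, rfl⟩ <;> rcases hv with rfl | ⟨o', ho', rfl⟩
    · exact absurd rfl hne
    · have := (mem_octsThrough _ _).mp ho'
      rw [Finset.union_sdiff_of_subset this.2]
      exact this.1
    · have := (mem_octsThrough _ _).mp ho
      rw [Finset.union_comm, Finset.union_sdiff_of_subset this.2]
      exact this.1
    · have hoo : o ≠ o' := by
        rintro rfl
        exact hne rfl
      rw [sdiff_union_sdiff (inter_eq ht ho ho' hoo)]
      exact symmDiff_mem_octads ht ho ho' hoo

theorem mem_sextetOf_self (t : Finset GolayPt) : t ∈ sextetOf t :=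
  Finset.mem_insert_self _ _

theorem eq_sextetOf {t : Finset GolayPt} (ht : t.card = 4) {S : Finset (Finset GolayPt)}
    (hS : S ∈ sextets) (htS : t ∈ S) : S = sextetOf t := by
  obtain ⟨hc, h4, hoct⟩ := hS
  -- every other member of S is of the form o \ t
  have hsub : S ⊆ sextetOf t := by
    intro u hu
    unfold sextetOf
    rw [Finset.mem_insert, Finset.mem_image]
    by_cases hut : u = t
    · left; exact hut
    · right
      have ho : t ∪ u ∈ octads := hoct t htS u hu (Ne.symm hut)
      have hdisj : Disjoint t u := by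
        rw [← Finset.card_union_eq_card_add_card, ho.2, ht, h4 u hu]
      refine ⟨t ∪ u, ?_, ?_⟩
      · rw [mem_octsThrough]
        exact ⟨ho, Finset.subset_union_left⟩
      · rw [Finset.union_sdiff_left]
        exact Finset.sdiff_eq_self_of_disjoint hdisj.symm
  apply Finset.eq_of_subset_of_card_le hsub
  rw [hc, (sextetOf_mem ht).1]

theorem existsUnique_sextet (t : Finset GolayPt) (ht : t.card = 4) :
    ∃! S : Finset (Finset GolayPt), S ∈ sextets ∧ t ∈ S :=
  ⟨sextetOf t, ⟨sextetOf_mem ht, mem_sextetOf_self t⟩, fun _ hS => eq_sextetOf ht hS.1 hS.2⟩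

theorem sextets_ncard : sextets.ncard = 1771 := by
  classical
  have hfin : sextets.Finite := Set.toFinite _
  let F : Finset (Finset (Finset GolayPt)) := hfin.toFinset
  have hF : ∀ S, S ∈ F ↔ S ∈ sextets := fun S => hfin.mem_toFinset
  let T : Finset (Finset GolayPt) := (Finset.univ : Finset GolayPt).powersetCard 4
  have hT : ∀ t, t ∈ T ↔ t.card = 4 := by
    intro t
    simp [T, Finset.mem_powersetCard]
  have hTcard : T.card = 10626 := by
    simp only [T]
    rw [Finset.card_powersetCard, Finset.card_univ]
    have : Fintype.card GolayPt = 24 := rfl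
    rw [this]
    norm_num [Nat.choose]
  have hdc := Finset.sum_card_bipartiteAbove_eq_sum_card_bipartiteBelow
    (s := T) (t := F) (fun (t : Finset GolayPt) (S : Finset (Finset GolayPt)) => t ∈ S)
  have hleft : ∀ t ∈ T, (Finset.bipartiteAbove (fun (t : Finset GolayPt)
      (S : Finset (Finset GolayPt)) => t ∈ S) F t).card = 1 := by
    intro t ht
    rw [hT] at ht
    rw [Finset.card_eq_one]
    refine ⟨sextetOf t, ?_⟩
    ext S
    rw [Finset.mem_singleton, Finset.mem_bipartiteAbove, hF]
    constructor
    · rintro ⟨hS, htS⟩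
      exact eq_sextetOf ht hS htS
    · rintro rfl
      exact ⟨sextetOf_mem ht, mem_sextetOf_self t⟩
  have hright : ∀ S ∈ F, (Finset.bipartiteBelow (fun (t : Finset GolayPt)
      (S : Finset (Finset GolayPt)) => t ∈ S) T S).card = 6 := by
    intro S hS
    rw [hF] at hS
    have : Finset.bipartiteBelow (fun (t : Finset GolayPt)
      (S : Finset (Finset GolayPt)) => t ∈ S) T S = S := by
      ext t
      rw [Finset.mem_bipartiteBelow, hT]
      constructor
      · exact fun h => h.2
      · exact fun h => ⟨hS.2.1 t h, h⟩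
    rw [this, hS.1]
  rw [Finset.sum_congr rfl hleft, Finset.sum_congr rfl hright, Finset.sum_const, Finset.sum_const,
    hTcard, smul_eq_mul, smul_eq_mul] at hdc
  have hFc : F.card = 1771 := by omega
  rw [← hFc, Set.ncard_eq_toFinset_card sextets hfin]

/-- Every 4-element set of the 24 points is a tetrad of exactly one sextet, and the sextets number 1771. -/
theorem result : (∀ t : Finset Cfsg.GolayPt, t.card = 4 → ∃! S : Finset (Finset Cfsg.GolayPt), S ∈ Cfsg.sextets ∧ t ∈ S) ∧ Cfsg.sextets.ncard = 1771 :=
  ⟨existsUnique_sextet, sextets_ncard⟩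

end Cfsg.Agent.S1550
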