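import Cfsg.Statements.S5546

set_option autoImplicit false
open Cfsg

namespace Cfsg.Agent.S5546

abbrev K := ZMod 13
abbrev V := GolayPt → K
abbrev Lam := ↥leechLattice

instance : Fact (Nat.Prime 13) := ⟨by norm_num⟩

/-- `8 e_i` as an integer vector. -/
def vec8 (i : GolayPt) : GolayPt → ℤ := fun j => if j = i then 8 else 0

theorem sum_vec8 (i : GolayPt) : ∑ j, vec8 i j = 8 := by
  unfold vec8
  simp

theorem vec8_mem (i : GolayPt) : vec8 i ∈ leechSet := by
  apply Spor.mem_leechSet_of_const_mod_four (vec8 i) 0 0 (by decide)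
  · intro j
    unfold vec8 Int.ModEq
    split_ifs <;> decide
  · rw [sum_vec8]; decide

/-- `8 e_i` as a lattice vector. -/
def e8 (i : GolayPt) : Lam := ⟨vec8 i, AddSubgroup.subset_closure (vec8_mem i)⟩

/-- reduction mod 13 -/
def red (v : GolayPt → ℤ) : V := fun i => ((v i : ℤ) : K)

theorem red_add (v w : GolayPt → ℤ) : red (v + w) = red v + red w := by
  funext i; simp [red]

theorem red_zsmul (n : ℤ) (v : GolayPt → ℤ) : red (n • v) = (n : K) • red v := by
  funext i; simp [red]

theorem red_sum {ι : Type*} (s : Finset ι) (f : ι → GolayPt → ℤ) :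
    red (∑ i ∈ s, f i) = ∑ i ∈ s, red (f i) := by
  classical
  induction s using Finset.induction_on with
  | empty => funext i; simp [red]
  | insert a s ha ih => rw [Finset.sum_insert ha, Finset.sum_insert ha, red_add, ih]

/-- An element of `Co0` as an additive map. -/
def addHom (g : Equiv.Perm Lam) (hg : g ∈ Co0) : Lam →+ Lam :=
  AddMonoidHom.mk' g hg.1

theorem addHom_apply (g : Equiv.Perm Lam) (hg : g ∈ Co0) (v : Lam) : addHom g hg v = g v := rfl

/-- Every lattice vector, multiplied by 8, is an integer combination of the `8 e_i`. -/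
theorem eight_smul_eq (v : Lam) : (8 : ℤ) • v = ∑ i, (v.1 i) • e8 i := by
  apply Subtype.ext
  rw [AddSubgroup.coe_zsmul]
  have : ((∑ i, (v.1 i) • e8 i : Lam) : GolayPt → ℤ) = ∑ i, (v.1 i) • vec8 i := by
    rw [AddSubgroup.val_finsetSum]
    rfl
  rw [this]
  funext k
  simp only [Pi.smul_apply, smul_eq_mul, Finset.sum_apply, vec8]
  simp
  ring

theorem eight_smul_map (g : Equiv.Perm Lam) (hg : g ∈ Co0) (v : Lam) :
    (8 : ℤ) • g v = ∑ i, (v.1 i) • g (e8 i) := by
  have h := congrArg (addHom g hg) (eight_smul_eq v)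
  rw [map_zsmul, map_sum] at h
  simp only [map_zsmul, addHom_apply] at h
  exact h

/-- The matrix of `g` modulo 13, as a linear map. -/
def Lmap (g : Equiv.Perm Lam) : V →ₗ[K] V where
  toFun x := ∑ i, x i • ((5 : K) • red (g (e8 i)).1)
  map_add' x y := by
    simp only [Pi.add_apply, add_smul, Finset.sum_add_distrib]
  map_smul' a x := by
    simp only [Pi.smul_apply, smul_eq_mul, RingHom.id_apply, Finset.smul_sum, mul_smul]

theorem Lmap_apply (g : Equiv.Perm Lam) (x : V) :
    Lmap g x = ∑ i, x i • ((5 : K) • red (g (e8 i)).1) := rfl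

theorem five_eight : (5 : K) * 8 = 1 := by decide

/-- Key compatibility: reduction commutes with the action. -/
theorem red_map (g : Equiv.Perm Lam) (hg : g ∈ Co0) (v : Lam) :
    red (g v).1 = Lmap g (red v.1) := by
  have h := congrArg (fun w : Lam => red w.1) (eight_smul_map g hg v)
  simp only [AddSubgroup.coe_zsmul, AddSubgroup.val_finsetSum, red_zsmul, red_sum] at h
  rw [Lmap_apply]
  have h2 := congrArg (fun w : V => (5 : K) • w) h
  simp only [smul_smul] at h2
  have e1 : (5 : K) * ((8 : ℤ) : K) = 1 := by decide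
  rw [e1, one_smul] at h2
  rw [h2, Finset.smul_sum]
  apply Finset.sum_congr rfl
  intro i _
  simp only [red, smul_smul]
  rw [mul_comm]


theorem Lmap_single (g : Equiv.Perm Lam) (i : GolayPt) :
    Lmap g (Pi.single i 1) = (5 : K) • red (g (e8 i)).1 := by
  rw [Lmap_apply]
  rw [Finset.sum_eq_single i]
  · simp
  · intro j _ hji
    simp [hji]
  · intro h; exact absurd (Finset.mem_univ i) h

theorem Lmap_mul (g h : Equiv.Perm Lam) (hg : g ∈ Co0) : Lmap (g * h) = Lmap g ∘ₗ Lmap h := by
  apply LinearMap.ext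
  intro x
  rw [LinearMap.comp_apply, Lmap_apply (g * h), Lmap_apply h, map_sum]
  apply Finset.sum_congr rfl
  intro i _
  rw [map_smul, map_smul, Equiv.Perm.mul_apply, red_map g hg]

theorem red_e8 (i : GolayPt) : red (e8 i).1 = (8 : K) • Pi.single i 1 := by
  funext k
  simp only [red, e8, vec8, Pi.smul_apply, Pi.single_apply, smul_eq_mul]
  split_ifs <;> simp

theorem Lmap_one : Lmap 1 = LinearMap.id := by
  apply LinearMap.ext
  intro x
  rw [Lmap_apply, LinearMap.id_apply]
  simp only [Equiv.Perm.one_apply, red_e8, smul_smul, five_eight, one_smul]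
  funext k
  simp [Finset.sum_apply, Pi.single_apply]

/-! ### inner products -/

theorem sqNorm_add (a b : GolayPt → ℤ) : sqNorm (a + b) = sqNorm a + sqNorm b + 2 * dotInt a b := by
  unfold sqNorm dotInt
  rw [Finset.mul_sum, ← Finset.sum_add_distrib, ← Finset.sum_add_distrib]
  apply Finset.sum_congr rfl
  intro i _
  simp only [Pi.add_apply]
  ring

theorem dot_map (g : Equiv.Perm Lam) (hg : g ∈ Co0) (a b : Lam) :
    dotInt (g a).1 (g b).1 = dotInt a.1 b.1 := by
  have h1 := sqNorm_add (g a).1 (g b).1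
  have h2 := sqNorm_add a.1 b.1
  have h3 : ((g a).1 + (g b).1) = (g (a + b)).1 := by
    rw [hg.1]; rfl
  rw [h3, hg.2, hg.2, hg.2] at h1
  have h4 : ((a + b : Lam) : GolayPt → ℤ) = a.1 + b.1 := rfl
  rw [h4] at h1
  omega

theorem dot_red (a b : GolayPt → ℤ) : red a ⬝ᵥ red b = ((dotInt a b : ℤ) : K) := by
  unfold dotInt dotProduct red
  push_cast
  rfl

theorem dot_e8 (i j : GolayPt) : dotInt (e8 i).1 (e8 j).1 = if i = j then 64 else 0 := by
  unfold dotInt e8 vec8
  simp only
  by_cases h : i = j
  · subst h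
    rw [if_pos rfl]
    rw [Finset.sum_eq_single i]
    · simp
    · intro k _ hk; simp [hk]
    · intro h; exact absurd (Finset.mem_univ i) h
  · rw [if_neg h]
    apply Finset.sum_eq_zero
    intro k _
    by_cases hk : k = i
    · subst hk; simp [h]
    · simp [hk]

/-- the columns of the matrix are orthonormal -/
theorem col_orth (g : Equiv.Perm Lam) (hg : g ∈ Co0) (i j : GolayPt) :
    ((5 : K) • red (g (e8 i)).1) ⬝ᵥ ((5 : K) • red (g (e8 j)).1) = if i = j then 1 else 0 := by
  rw [smul_dotProduct, dotProduct_smul, dot_red, dot_map g hg, dot_e8]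
  split_ifs
  · simp only [smul_eq_mul]; decide
  · simp

theorem Lmap_orth (g : Equiv.Perm Lam) (hg : g ∈ Co0) (x y : V) :
    Lmap g x ⬝ᵥ Lmap g y = x ⬝ᵥ y := by
  rw [Lmap_apply, Lmap_apply, sum_dotProduct]
  have h1 : ∀ i : GolayPt, (x i • ((5 : K) • red (g (e8 i)).1)) ⬝ᵥ
      (∑ j, y j • ((5 : K) • red (g (e8 j)).1)) = x i * y i := by
    intro i
    rw [dotProduct_sum]
    have h2 : ∀ j : GolayPt, (x i • ((5 : K) • red (g (e8 i)).1)) ⬝ᵥ
        (y j • ((5 : K) • red (g (e8 j)).1)) = if i = j then x i * y j else 0 := by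
      intro j
      rw [smul_dotProduct, dotProduct_smul, col_orth g hg]
      split_ifs <;> simp
    rw [Finset.sum_congr rfl (fun j _ => h2 j)]
    rw [Finset.sum_ite_eq]
    simp
  rw [Finset.sum_congr rfl (fun i _ => h1 i)]
  rfl

/-! ### the invariant hyperplane -/

/-- reduction of the fixed vector -/
def ubar : V := red Spor.vecU

/-- the functional `x ↦ x · ū` -/
def phi : V →ₗ[K] K where
  toFun x := x ⬝ᵥ ubar
  map_add' x y := add_dotProduct x y ubar
  map_smul' a x := by simp [smul_dotProduct]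

theorem phi_apply (x : V) : phi x = x ⬝ᵥ ubar := rfl

theorem phi_ubar : phi ubar = 6 := by
  rw [phi_apply]
  unfold ubar
  rw [dot_red]
  have : dotInt Spor.vecU Spor.vecU = 32 := by decide
  rw [this]
  decide

/-- the hyperplane orthogonal to `ū` -/
abbrev W : Submodule K V := LinearMap.ker phi

theorem Lmap_ubar (g : Equiv.Perm Lam) (hg : g ∈ Spor.Co2) : Lmap g ubar = ubar := by
  have h1 : g ∈ Co0 := hg.1
  have h2 : g Spor.leechU = Spor.leechU := hg.2
  have := red_map g h1 Spor.leechU
  rw [h2] at this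
  exact this.symm

theorem Lmap_mem_W (g : Equiv.Perm Lam) (hg : g ∈ Spor.Co2) (x : V) (hx : x ∈ W) : Lmap g x ∈ W := by
  rw [LinearMap.mem_ker, phi_apply] at hx ⊢
  rw [← Lmap_ubar g hg, Lmap_orth g hg.1]
  exact hx

/-- the representation on the hyperplane -/
def rho : ↥Spor.Co2 →* Module.End K W where
  toFun g := (Lmap g.1).restrict (Lmap_mem_W g.1 g.2)
  map_one' := by
    apply LinearMap.ext
    intro x
    apply Subtype.ext
    simp only [LinearMap.coe_restrict_apply]
    show Lmap 1 x.1 = x.1
    rw [Lmap_one]; rfl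
  map_mul' g h := by
    apply LinearMap.ext
    intro x
    apply Subtype.ext
    simp only [LinearMap.coe_restrict_apply, Module.End.mul_apply]
    show Lmap (g.1 * h.1) x.1 = Lmap g.1 (Lmap h.1 x.1)
    rw [Lmap_mul g.1 h.1 g.2.1]; rfl

theorem rho_apply (g : ↥Spor.Co2) (x : W) : ((rho g x : W) : V) = Lmap g.1 x.1 := rfl


/-! ### dimension -/

theorem phi_surj : Function.Surjective phi := by
  intro c
  refine ⟨(c * 11) • ubar, ?_⟩
  rw [map_smul, phi_ubar, smul_eq_mul, mul_assoc]
  have : (11 : K) * 6 = 1 := by decide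
  rw [this, mul_one]

theorem finrank_W : Module.finrank K W = 23 := by
  have h := LinearMap.finrank_range_add_finrank_ker phi
  rw [LinearMap.range_eq_top.mpr phi_surj, finrank_top, Module.finrank_self,
    Module.finrank_fintype_fun_eq_card] at h
  have hc : Fintype.card GolayPt = 24 := by decide
  rw [hc] at h
  show Module.finrank K (LinearMap.ker phi) = 23
  omega

/-- a basis of the hyperplane -/
noncomputable def bW : Module.Basis (Fin 23) K W := Module.finBasisOfFinrankEq K W finrank_W

/-- the matrix representation -/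
noncomputable def f : ↥Spor.Co2 →* GL (Fin 23) (ZMod 13) :=
  (Units.mapEquiv (LinearMap.toMatrixAlgEquiv bW).toMulEquiv).toMonoidHom.comp rho.toHomUnits

theorem f_eq_one_iff (g : ↥Spor.Co2) : f g = 1 ↔ rho g = 1 := by
  unfold f
  rw [MonoidHom.comp_apply]
  constructor
  · intro h
    have h1 : rho.toHomUnits g = 1 := by
      apply (Units.mapEquiv (LinearMap.toMatrixAlgEquiv bW).toMulEquiv).injective
      rw [map_one]
      exact h
    have h2 := congrArg Units.val h1
    simpa using h2
  · intro h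
    have h1 : rho.toHomUnits g = 1 := by
      apply Units.ext
      simpa using h
    rw [h1, map_one]


/-! ### injectivity -/

theorem Lmap_eq_id_of_rho (g : ↥Spor.Co2) (h : rho g = 1) (x : V) : Lmap g.1 x = x := by
  set c : K := phi x * 11 with hc
  have hmem : x - c • ubar ∈ W := by
    rw [LinearMap.mem_ker, map_sub, map_smul, phi_ubar, smul_eq_mul, hc, mul_assoc]
    have : (11 : K) * 6 = 1 := by decide
    rw [this, mul_one, sub_self]
  have h1 : Lmap g.1 (x - c • ubar) = x - c • ubar := by
    have h2 := congrArg (fun (T : Module.End K W) => ((T ⟨x - c • ubar, hmem⟩ : W) : V)) h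
    simp only [rho_apply, Module.End.one_apply] at h2
    exact h2
  have h3 : Lmap g.1 (c • ubar) = c • ubar := by
    rw [map_smul, Lmap_ubar g.1 g.2]
  have h4 : x = (x - c • ubar) + c • ubar := by abel
  rw [h4, map_add, h1, h3]

theorem red_fixed (g : ↥Spor.Co2) (h : rho g = 1) (i : GolayPt) :
    red (g.1 (e8 i)).1 = red (vec8 i) := by
  have h1 := Lmap_single g.1 i
  rw [Lmap_eq_id_of_rho g h] at h1
  have h2 := congrArg (fun w : V => (8 : K) • w) h1
  simp only [smul_smul] at h2
  have e1 : (8 : K) * 5 = 1 := by decide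
  rw [e1, one_smul] at h2
  rw [← h2]
  exact (red_e8 i).symm

theorem sq_le_sqNorm (w : GolayPt → ℤ) (k : GolayPt) : w k ^ 2 ≤ sqNorm w := by
  unfold sqNorm
  exact Finset.single_le_sum (f := fun i => w i ^ 2) (fun i _ => sq_nonneg (w i)) (Finset.mem_univ k)

theorem eq_vec8_of (w : GolayPt → ℤ) (i : GolayPt) (hn : sqNorm w = 64)
    (hr : red w = red (vec8 i)) : w = vec8 i := by
  have hdvd : ∀ k, (13 : ℤ) ∣ vec8 i k - w k := by
    intro k
    have h1 := congrFun hr k
    simp only [red] at h1
    have := (ZMod.intCast_eq_intCast_iff_dvd_sub (w k) (vec8 i k) 13).mp h1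
    exact_mod_cast this
  have hbd : ∀ k, -8 ≤ w k ∧ w k ≤ 8 := by
    intro k
    have h1 := sq_le_sqNorm w k
    rw [hn] at h1
    constructor <;> nlinarith
  have hoff : ∀ k, k ≠ i → w k = 0 := by
    intro k hk
    have h1 := hdvd k
    have h2 := hbd k
    have h3 : vec8 i k = 0 := by simp [vec8, hk]
    rw [h3] at h1
    omega
  have hon : w i = 8 ∨ w i = -5 := by
    have h1 := hdvd i
    have h2 := hbd i
    have h3 : vec8 i i = 8 := by simp [vec8]
    rw [h3] at h1
    omega
  have hsum : sqNorm w = w i ^ 2 := by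
    unfold sqNorm
    rw [Finset.sum_eq_single i]
    · intro k _ hk
      rw [hoff k hk]; rfl
    · intro h; exact absurd (Finset.mem_univ i) h
  have hi : w i = 8 := by
    rcases hon with h | h
    · exact h
    · rw [hsum, h] at hn
      norm_num at hn
  funext k
  by_cases hk : k = i
  · subst hk; rw [hi]; simp [vec8]
  · rw [hoff k hk]; simp [vec8, hk]

theorem e8_fixed (g : ↥Spor.Co2) (h : rho g = 1) (i : GolayPt) : g.1 (e8 i) = e8 i := by
  apply Subtype.ext
  have hn : sqNorm (g.1 (e8 i)).1 = 64 := by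
    rw [g.2.1.2]
    have := dot_e8 i i
    rw [if_pos rfl] at this
    unfold dotInt at this
    unfold sqNorm
    rw [← this]
    apply Finset.sum_congr rfl
    intro k _
    ring
  exact eq_vec8_of _ i hn (red_fixed g h i)

theorem rho_inj (g : ↥Spor.Co2) (h : rho g = 1) : g = 1 := by
  apply Subtype.ext
  apply Equiv.ext
  intro v
  have h1 := eight_smul_map g.1 g.2.1 v
  have h2 := eight_smul_eq v
  simp only [e8_fixed g h] at h1
  rw [← h2] at h1
  show g.1 v = v
  apply Subtype.ext
  funext k
  have h3 := congrArg (fun w : Lam => w.1 k) h1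
  simp only [AddSubgroup.coe_zsmul, Pi.smul_apply, smul_eq_mul] at h3
  omega

theorem f_injective : Function.Injective f := by
  rw [injective_iff_map_eq_one]
  intro g hg
  exact rho_inj g ((f_eq_one_iff g).mp hg)

theorem result : ∃ f : ↥Cfsg.Spor.Co2 →* GL (Fin 23) (ZMod 13), Function.Injective f :=
  ⟨f, f_injective⟩

end Cfsg.Agent.S5546
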