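import Mathlib
import Cfsg.Agent.Lib.Helper26_OrbitLemmas
import Cfsg.Agent.Lib.Helper26_CfgMC2025
import Cfsg.Agent.Lib.Helper26_CfgMCa
import Cfsg.Agent.Lib.Helper26_CfgMCb
import Cfsg.Agent.Lib.Helper26_CfgMCc
import Cfsg.Agent.S0400
import Cfsg.Agent.S1575

set_option autoImplicit false

namespace Cfsg.Agent.S1634

open Cfsg Cfsg.Agent.Lib.Helper26_VecCode Cfsg.Agent.Lib.Helper26_Co3Rank

open Cfsg.Agent.Lib.Helper26_CfgMCa in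
/-- The standard vectors. -/
def vL : leechLattice := ⟨vecC con1.a, mem1⟩
open Cfsg.Agent.Lib.Helper26_CfgMCa in
def wL : leechLattice := ⟨vecC con2.a, mem2⟩
open Cfsg.Agent.Lib.Helper26_CfgMCa in
def xL : leechLattice := ⟨vecC con3.a, mem3⟩

open Cfsg.Agent.Lib.Helper26_CfgMCa in
theorem vL_norm : sqNorm (vL : GolayPt → ℤ) = 32 := by
  show sqNorm (vecC con1.a) = 32
  rw [sqNorm_vecC]
  decide +kernel

open Cfsg.Agent.Lib.Helper26_CfgMCa in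
theorem wL_norm : sqNorm (wL : GolayPt → ℤ) = 32 := by
  show sqNorm (vecC con2.a) = 32
  rw [sqNorm_vecC]
  decide +kernel

open Cfsg.Agent.Lib.Helper26_CfgMCa in
theorem xL_norm : sqNorm (xL : GolayPt → ℤ) = 32 := by
  show sqNorm (vecC con3.a) = 32
  rw [sqNorm_vecC]
  decide +kernel

open Cfsg.Agent.Lib.Helper26_CfgMCa in
theorem vwL_dot : dotInt (vL : GolayPt → ℤ) (wL : GolayPt → ℤ) = -8 := by
  show dotInt (vecC con1.a) (vecC con2.a) = -8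
  rw [dotInt_vecC]
  decide +kernel

open Cfsg.Agent.Lib.Helper26_CfgMCa in
theorem vxL_dot : dotInt (vL : GolayPt → ℤ) (xL : GolayPt → ℤ) = 0 := by
  show dotInt (vecC con1.a) (vecC con3.a) = 0
  rw [dotInt_vecC]
  decide +kernel

open Cfsg.Agent.Lib.Helper26_CfgMCa in
theorem wxL_dot : dotInt (wL : GolayPt → ℤ) (xL : GolayPt → ℤ) = 16 := by
  show dotInt (vecC con2.a) (vecC con3.a) = 16
  rw [dotInt_vecC]
  decide +kernel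

theorem k01 : Cfsg.Agent.Lib.Helper26_CfgMC2025.con1.k = 0 := by decide +kernel
theorem k02 : Cfsg.Agent.Lib.Helper26_CfgMC2025.con2.k = 16 := by decide +kernel
theorem e01 : Cfsg.Agent.Lib.Helper26_CfgMC2025.con1.a = Cfsg.Agent.Lib.Helper26_CfgMCa.con1.a := by
  decide +kernel
theorem e02 : Cfsg.Agent.Lib.Helper26_CfgMC2025.con2.a = Cfsg.Agent.Lib.Helper26_CfgMCa.con2.a := by
  decide +kernel
theorem ka1 : Cfsg.Agent.Lib.Helper26_CfgMCa.con1.k = 0 := by decide +kernel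
theorem ka2 : Cfsg.Agent.Lib.Helper26_CfgMCa.con2.k = 16 := by decide +kernel
theorem ka3 : Cfsg.Agent.Lib.Helper26_CfgMCa.con3.k = 0 := by decide +kernel
theorem kb1 : Cfsg.Agent.Lib.Helper26_CfgMCb.con1.k = 0 := by decide +kernel
theorem kb2 : Cfsg.Agent.Lib.Helper26_CfgMCb.con2.k = 16 := by decide +kernel
theorem kb3 : Cfsg.Agent.Lib.Helper26_CfgMCb.con3.k = 16 := by decide +kernel
theorem kc1 : Cfsg.Agent.Lib.Helper26_CfgMCc.con1.k = 0 := by decide +kernel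
theorem kc2 : Cfsg.Agent.Lib.Helper26_CfgMCc.con2.k = 16 := by decide +kernel
theorem kc3 : Cfsg.Agent.Lib.Helper26_CfgMCc.con3.k = 8 := by decide +kernel
theorem eb1 : Cfsg.Agent.Lib.Helper26_CfgMCb.con1.a = Cfsg.Agent.Lib.Helper26_CfgMCa.con1.a := by
  decide +kernel
theorem eb2 : Cfsg.Agent.Lib.Helper26_CfgMCb.con2.a = Cfsg.Agent.Lib.Helper26_CfgMCa.con2.a := by
  decide +kernel
theorem eb3 : Cfsg.Agent.Lib.Helper26_CfgMCb.con3.a = Cfsg.Agent.Lib.Helper26_CfgMCa.con3.a := by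
  decide +kernel
theorem ec1 : Cfsg.Agent.Lib.Helper26_CfgMCc.con1.a = Cfsg.Agent.Lib.Helper26_CfgMCa.con1.a := by
  decide +kernel
theorem ec2 : Cfsg.Agent.Lib.Helper26_CfgMCc.con2.a = Cfsg.Agent.Lib.Helper26_CfgMCa.con2.a := by
  decide +kernel
theorem ec3 : Cfsg.Agent.Lib.Helper26_CfgMCc.con3.a = Cfsg.Agent.Lib.Helper26_CfgMCa.con3.a := by
  decide +kernel

/-- Every pair `(v, w)` of minimal vectors with inner product `-8` is conjugate to the standard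
pair. -/
theorem to_stdVW (v w : leechLattice) (hv : sqNorm (v : GolayPt → ℤ) = 32)
    (hw : sqNorm (w : GolayPt → ℤ) = 32)
    (hvw : dotInt (v : GolayPt → ℤ) (w : GolayPt → ℤ) = -8) :
    ∃ h : Co0, h.1 v = vL ∧ h.1 w = wL := by
  obtain ⟨h, hh⟩ := Cfsg.Agent.S0400.result v vL hv vL_norm
  have hh' : h.1 v = vL := hh
  have hd : dotInt (vL : GolayPt → ℤ) ((h.1 w : leechLattice) : GolayPt → ℤ) = -8 := by
    have := Cfsg.Agent.Lib.Helper26_Leech.dotInt_co0 h.1 h.2 v w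
    rw [hh'] at this
    rw [this]; exact hvw
  have hn : sqNorm ((h.1 w : leechLattice) : GolayPt → ℤ) = 32 := by rw [h.2.2 w]; exact hw
  obtain ⟨g, hg1, hg2⟩ := Cfsg.Agent.S1575.result vL (h.1 w) wL vL_norm hn wL_norm hd vwL_dot
  refine ⟨g * h, ?_, hg2⟩
  show g.1 (h.1 v) = vL
  rw [hh']; exact hg1

/-- The configuration of 2025 points for an arbitrary pair. -/
theorem main2025 (v w : leechLattice) (hv : sqNorm (v : GolayPt → ℤ) = 32)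
    (hw : sqNorm (w : GolayPt → ℤ) = 32)
    (hvw : dotInt (v : GolayPt → ℤ) (w : GolayPt → ℤ) = -8) :
    {x : leechLattice | sqNorm (x : GolayPt → ℤ) = 32 ∧
        dotInt (v : GolayPt → ℤ) (x : GolayPt → ℤ) = 0 ∧
        dotInt (w : GolayPt → ℤ) (x : GolayPt → ℤ) = 16}.ncard = 2025 ∧
      ∀ x ∈ {x : leechLattice | sqNorm (x : GolayPt → ℤ) = 32 ∧
        dotInt (v : GolayPt → ℤ) (x : GolayPt → ℤ) = 0 ∧
        dotInt (w : GolayPt → ℤ) (x : GolayPt → ℤ) = 16},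
      ∀ x' ∈ {x : leechLattice | sqNorm (x : GolayPt → ℤ) = 32 ∧
        dotInt (v : GolayPt → ℤ) (x : GolayPt → ℤ) = 0 ∧
        dotInt (w : GolayPt → ℤ) (x : GolayPt → ℤ) = 16},
      ∃ g : Co0, g • v = v ∧ g • w = w ∧ g • x = x' := by
  obtain ⟨h, h1, h2⟩ := to_stdVW v w hv hw hvw
  have T := apply_two _ _ 2025 Cfsg.Agent.Lib.Helper26_CfgMC2025.std h.1 h.2 v w
    (by rw [h1, e01]; rfl) (by rw [h2, e02]; rfl)
  rw [k01, k02] at T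
  exact T

/-- The set cut out by the inner product `k` with `x`. -/
def Ak (v w x : leechLattice) (k : ℤ) : Set leechLattice :=
  {y | sqNorm (y : GolayPt → ℤ) = 32 ∧ dotInt (v : GolayPt → ℤ) (y : GolayPt → ℤ) = 0 ∧
    dotInt (w : GolayPt → ℤ) (y : GolayPt → ℤ) = 16 ∧
    dotInt (x : GolayPt → ℤ) (y : GolayPt → ℤ) = k}

theorem Ak_inv (v w x : leechLattice) (k : ℤ) (g : Co0) (hv : g • v = v) (hw : g • w = w)
    (hx : g • x = x) : ∀ z ∈ Ak v w x k, g • z ∈ Ak v w x k := by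
  rintro z ⟨h1, h2, h3, h4⟩
  exact ⟨by rw [norm_smul]; exact h1, by rw [dot_smul_fixed g v z hv]; exact h2,
    by rw [dot_smul_fixed g w z hw]; exact h3, by rw [dot_smul_fixed g x z hx]; exact h4⟩

theorem result (v w : ↥Cfsg.leechLattice) (hv : Cfsg.sqNorm (v : Cfsg.GolayPt → ℤ) = 32) (hw : Cfsg.sqNorm (w : Cfsg.GolayPt → ℤ) = 32) (hvw : Cfsg.dotInt (v : Cfsg.GolayPt → ℤ) (w : Cfsg.GolayPt → ℤ) = -8) : {x : ↥Cfsg.leechLattice | Cfsg.sqNorm (x : Cfsg.GolayPt → ℤ) = 32 ∧ Cfsg.dotInt (v : Cfsg.GolayPt → ℤ) (x : Cfsg.GolayPt → ℤ) = 0 ∧ Cfsg.dotInt (w : Cfsg.GolayPt → ℤ) (x : Cfsg.GolayPt → ℤ) = 16}.ncard = 2025 ∧ (∀ x ∈ {x : ↥Cfsg.leechLattice | Cfsg.sqNorm (x : Cfsg.GolayPt → ℤ) = 32 ∧ Cfsg.dotInt (v : Cfsg.GolayPt → ℤ) (x : Cfsg.GolayPt → ℤ) = 0 ∧ Cfsg.dotInt (w : Cfsg.GolayPt → ℤ) (x : Cfsg.GolayPt → ℤ) = 16}, ∀ x' ∈ {x : ↥Cfsg.leechLattice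 | Cfsg.sqNorm (x : Cfsg.GolayPt → ℤ) = 32 ∧ Cfsg.dotInt (v : Cfsg.GolayPt → ℤ) (x : Cfsg.GolayPt → ℤ) = 0 ∧ Cfsg.dotInt (w : Cfsg.GolayPt → ℤ) (x : Cfsg.GolayPt → ℤ) = 16}, ∃ g : ↥Cfsg.Co0, g • v = v ∧ g • w = w ∧ g • x = x') ∧ ∀ x ∈ {x : ↥Cfsg.leechLattice | Cfsg.sqNorm (x : Cfsg.GolayPt → ℤ) = 32 ∧ Cfsg.dotInt (v : Cfsg.GolayPt → ℤ) (x : Cfsg.GolayPt → ℤ) = 0 ∧ Cfsg.dotInt (w : Cfsg.GolayPt → ℤ) (x : Cfsg.GolayPt → ℤ) = 16}, ∃ y₁ ∈ {x : ↥Cfsg.leechLattice | Cfsg.sqNorm (x : Cfsg.GolayPt → ℤ) = 32 ∧ Cfsg.dotInt (v : Cfsg.GolayPt → ℤ) (x : Cfsg.GolayPt → ℤ) = 0 ∧ Cfsg.dotInt (w : Cfsg.GolayPt → ℤ) (x : Cfsg.GolayPt → ℤ) = 16}, ∃ y₂ ∈ {x : ↥Cfsg.leechLattice | Cfsg.sqNorm (x : Cfsg.GolayPt → ℤ) = 32 ∧ Cfsg.dotInt (v : Cfsg.GolayPt → ℤ) (x : Cfsg.GolayPt → ℤ) = 0 ∧ Cfsg.dotInt (w : Cfsg.GolayPt → ℤ) (x : Cfsg.GolayPt → ℤ) = 16}, ∃ y₃ ∈ {x : ↥Cfsg.leechLattice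 | Cfsg.sqNorm (x : Cfsg.GolayPt → ℤ) = 32 ∧ Cfsg.dotInt (v : Cfsg.GolayPt → ℤ) (x : Cfsg.GolayPt → ℤ) = 0 ∧ Cfsg.dotInt (w : Cfsg.GolayPt → ℤ) (x : Cfsg.GolayPt → ℤ) = 16}, (MulAction.orbit ↥(MulAction.stabilizer ↥Cfsg.Co0 v ⊓ MulAction.stabilizer ↥Cfsg.Co0 w ⊓ MulAction.stabilizer ↥Cfsg.Co0 x) y₁).ncard = 330 ∧ (MulAction.orbit ↥(MulAction.stabilizer ↥Cfsg.Co0 v ⊓ MulAction.stabilizer ↥Cfsg.Co0 w ⊓ MulAction.stabilizer ↥Cfsg.Co0 x) y₂).ncard = 462 ∧ (MulAction.orbit ↥(MulAction.stabilizer ↥Cfsg.Co0 v ⊓ MulAction.stabilizer ↥Cfsg.Co0 w ⊓ MulAction.stabilizer ↥Cfsg.Co0 x) y₃).ncard = 1232 := by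
  obtain ⟨c2025, t2025⟩ := main2025 v w hv hw hvw
  refine ⟨c2025, t2025, ?_⟩
  intro x hx
  -- move (v, w, x) to the standard triple
  obtain ⟨h, h1, h2⟩ := to_stdVW v w hv hw hvw
  have hx' : h.1 x ∈ {x : leechLattice | sqNorm (x : GolayPt → ℤ) = 32 ∧
      dotInt (vL : GolayPt → ℤ) (x : GolayPt → ℤ) = 0 ∧
      dotInt (wL : GolayPt → ℤ) (x : GolayPt → ℤ) = 16} := by
    refine ⟨?_, ?_, ?_⟩
    · rw [h.2.2 x]; exact hx.1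
    · have := Cfsg.Agent.Lib.Helper26_Leech.dotInt_co0 h.1 h.2 v x
      rw [h1] at this
      rw [this]; exact hx.2.1
    · have := Cfsg.Agent.Lib.Helper26_Leech.dotInt_co0 h.1 h.2 w x
      rw [h2] at this
      rw [this]; exact hx.2.2
  obtain ⟨g, hg1, hg2, hg3⟩ := (main2025 vL wL vL_norm wL_norm vwL_dot).2 (h.1 x) hx' xL
    ⟨xL_norm, vxL_dot, wxL_dot⟩
  set k : Co0 := g * h with hk
  have k1 : k.1 v = vL := by
    show g.1 (h.1 v) = vL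
    rw [h1]; exact hg1
  have k2 : k.1 w = wL := by
    show g.1 (h.1 w) = wL
    rw [h2]; exact hg2
  have k3 : k.1 x = xL := hg3
  have hva : ((k.1 v : leechLattice) : GolayPt → ℤ) =
      vecC Cfsg.Agent.Lib.Helper26_CfgMCa.con1.a := by rw [k1]; rfl
  have hwa : ((k.1 w : leechLattice) : GolayPt → ℤ) =
      vecC Cfsg.Agent.Lib.Helper26_CfgMCa.con2.a := by rw [k2]; rfl
  have hxa : ((k.1 x : leechLattice) : GolayPt → ℤ) =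
      vecC Cfsg.Agent.Lib.Helper26_CfgMCa.con3.a := by rw [k3]; rfl
  have Ta := apply_three _ _ _ 330 Cfsg.Agent.Lib.Helper26_CfgMCa.std k.1 k.2 v w x hva hwa hxa
  have Tb := apply_three _ _ _ 462 Cfsg.Agent.Lib.Helper26_CfgMCb.std k.1 k.2 v w x
    (by rw [eb1]; exact hva) (by rw [eb2]; exact hwa) (by rw [eb3]; exact hxa)
  have Tc := apply_three _ _ _ 1232 Cfsg.Agent.Lib.Helper26_CfgMCc.std k.1 k.2 v w x
    (by rw [ec1]; exact hva) (by rw [ec2]; exact hwa) (by rw [ec3]; exact hxa)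
  rw [ka1, ka2, ka3] at Ta
  rw [kb1, kb2, kb3] at Tb
  rw [kc1, kc2, kc3] at Tc
  obtain ⟨ca, ta⟩ := Ta
  obtain ⟨cb, tb⟩ := Tb
  obtain ⟨cc, tc⟩ := Tc
  have ca' : (Ak v w x 0).ncard = 330 := ca
  have cb' : (Ak v w x 16).ncard = 462 := cb
  have cc' : (Ak v w x 8).ncard = 1232 := cc
  obtain ⟨ya, hya⟩ : (Ak v w x 0).Nonempty :=
    Set.nonempty_of_ncard_ne_zero (by rw [ca']; norm_num)
  obtain ⟨yb, hyb⟩ : (Ak v w x 16).Nonempty :=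
    Set.nonempty_of_ncard_ne_zero (by rw [cb']; norm_num)
  obtain ⟨yc, hyc⟩ : (Ak v w x 8).Nonempty :=
    Set.nonempty_of_ncard_ne_zero (by rw [cc']; norm_num)
  have oa := orbit_eq3 v w x (Ak v w x 0) ya hya (Ak_inv v w x 0) ta
  have ob := orbit_eq3 v w x (Ak v w x 16) yb hyb (Ak_inv v w x 16) tb
  have oc := orbit_eq3 v w x (Ak v w x 8) yc hyc (Ak_inv v w x 8) tc
  refine ⟨ya, ⟨hya.1, hya.2.1, hya.2.2.1⟩, yb, ⟨hyb.1, hyb.2.1, hyb.2.2.1⟩, yc,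
    ⟨hyc.1, hyc.2.1, hyc.2.2.1⟩, ?_⟩
  rw [oa, ob, oc]
  exact ⟨ca', cb', cc'⟩

end Cfsg.Agent.S1634
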