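import Cfsg.Statements.S0404
import Cfsg.Agent.S1634
import Cfsg.Agent.Lib.Helper92_McLMain

/-!
The common stabiliser of two minimal vectors with inner product `-8` in the automorphism group of
the rank-24 lattice is simple of order `898128000`.

All such pairs are conjugate (`S0400`, `S1575`), so it is enough to treat `bp = 4 e_4 + 4 e_13`,
`wM = (1, -3, 1^22)`.  Their common stabiliser `GM` is transitive on the `2025` minimal vectors
orthogonal to `bp` with inner product `16` with `wM` (`S1634`); the stabiliser in `GM` of the point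
`v0 = 4 e_4 - 4 e_13` also fixes `8 e_4`, hence is monomial, and is the group of the coordinate
permutations fixing the two points, simple of order `443520` (`S0378`, `S0379`).  By `S1634` its
orbits on the other points have sizes `330`, `462`, `1232`, so the action is primitive; a proper
nontrivial normal subgroup would have order `2025`, and a Sylow subgroup of it (for `5`, or for
`3` by the transfer) would be a smaller nontrivial normal subgroup (`Helper92_RankSimple`).
-/

set_option autoImplicit false
open Cfsg

namespace Cfsg.Agent.S0404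

open Cfsg.Agent.Lib.Helper92_HS Cfsg.Agent.Lib.Helper92_McL Cfsg.Agent.Lib.Helper92_MaxN
  Cfsg.Agent.Lib.Helper92_RankSimple

/-- Joint stabiliser of two minimal vectors with coordinate dot product −8 is simple of order 898128000. -/
theorem result (v w : Cfsg.leechLattice) (hv : Cfsg.sqNorm (v : Cfsg.GolayPt → ℤ) = 32) (hw : Cfsg.sqNorm (w : Cfsg.GolayPt → ℤ) = 32) (hvw : Cfsg.dotInt (v : Cfsg.GolayPt → ℤ) (w : Cfsg.GolayPt → ℤ) = -8) : Cfsg.IsMcL ↥(MulAction.stabilizer Cfsg.Co0 v ⊓ MulAction.stabilizer Cfsg.Co0 w) := by
  have hR : Rank4 := by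
    obtain ⟨a, b, c⟩ := Cfsg.Agent.S1634.result bpL wML bp_norm wM_norm dot_bp_wM
    exact ⟨a, b, c _ v0L_mem⟩
  obtain ⟨h, h1, h2⟩ := pair_transM v w bpL wML hv hw hvw bp_norm wM_norm dot_bp_wM
  have e : ↥(MulAction.stabilizer ↥Co0 v ⊓ MulAction.stabilizer ↥Co0 w) ≃* ↥GM := by
    have e0 := conjInf (G := ↥Co0) h v w
    rw [h1, h2] at e0
    exact e0
  have := GM_simple hR
  exact ⟨e.isSimpleGroup, by rw [Nat.card_congr e.toEquiv]; exact GM_card hR⟩

end Cfsg.Agent.S0404
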