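import Cfsg.Statements.S0110
import Mathlib.GroupTheory.FiniteAbelian.Duality
import Mathlib.RingTheory.RootsOfUnity.AlgebraicallyClosed
import Mathlib.Analysis.Complex.Polynomial.Basic
import Mathlib.GroupTheory.Abelianization.Defs

set_option autoImplicit false
open Cfsg

namespace Cfsg.Agent.S0110

open scoped IsMulCommutative

/-- Number of homomorphisms from a finite group `E` into a group `Z` of prime order is at most
`[E : E']`. -/
theorem card_monoidHom_le {E : Type*} [Group E] [Finite E] {Z : Type*} [CommGroup Z] {p : ℕ}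
    [hp : Fact p.Prime] (hZ : Nat.card Z = p) :
    Nat.card (E →* Z) ≤ (commutator E).index := by
  have : Finite Z := Nat.finite_of_card_ne_zero (by rw [hZ]; exact hp.out.ne_zero)
  -- an injective character of `Z`
  have hne : NeZero (Monoid.exponent Z) := ⟨Monoid.exponent_ne_zero_of_finite⟩
  have hfinA : Finite (Abelianization E) :=
    Finite.of_surjective (Abelianization.of (G := E)) (fun x => Quotient.inductionOn x fun a => ⟨a, rfl⟩)
  have hne' : NeZero (Monoid.exponent (Abelianization E)) := ⟨Monoid.exponent_ne_zero_of_finite⟩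
  have hnt : Nontrivial Z := by
    rw [← Finite.one_lt_card_iff_nontrivial, hZ]; exact hp.out.one_lt
  obtain ⟨z₀, hz₀⟩ := exists_ne (1 : Z)
  obtain ⟨ι, hι⟩ := CommGroup.exists_apply_ne_one_of_hasEnoughRootsOfUnity Z ℂ hz₀
  have hιinj : Function.Injective ι := by
    rw [← MonoidHom.ker_eq_bot_iff]
    have : Fact (Nat.card Z).Prime := by rw [hZ]; exact hp
    rcases ι.ker.eq_bot_or_eq_top_of_prime_card with hb | ht
    · exact hb
    · exfalso
      apply hι
      have : z₀ ∈ ι.ker := by rw [ht]; exact Subgroup.mem_top _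
      exact MonoidHom.mem_ker.1 this
  have hcard : Nat.card (Abelianization E →* ℂˣ) = Nat.card (Abelianization E) :=
    CommGroup.card_monoidHom_of_hasEnoughRootsOfUnity (Abelianization E) ℂ
  have hfin : Finite (Abelianization E →* ℂˣ) :=
    Nat.finite_of_card_ne_zero (by rw [hcard]; exact Nat.card_pos.ne')
  have hinj : Function.Injective (fun f : E →* Z => Abelianization.lift (ι.comp f)) := by
    intro f₁ f₂ hf
    have h1 : ι.comp f₁ = ι.comp f₂ := Abelianization.lift.injective hf
    ext e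
    apply hιinj
    exact DFunLike.congr_fun h1 e
  have := Nat.card_le_card_of_injective _ hinj
  rw [hcard] at this
  rw [Subgroup.index_eq_card]
  exact this

section main

variable {G : Type*} [Group G] (E : Subgroup G)
  (h : ⁅(⊤ : Subgroup G), E⁆ ≤ E ⊓ Subgroup.centralizer (E : Set G))

include h in
theorem comm_mem (g : G) (e : E) : g * e * g⁻¹ * (e : G)⁻¹ ∈ E ⊓ Subgroup.centralizer (E : Set G) :=
  h (Subgroup.commutator_mem_commutator (Subgroup.mem_top g) e.2)

/-- The homomorphism `e ↦ [g, e]` from `E` to `Z(E)`. -/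
def commHom (g : G) : E →* Subgroup.center E where
  toFun e := ⟨⟨g * e * g⁻¹ * (e : G)⁻¹, (comm_mem E h g e).1⟩, by
    rw [Subgroup.mem_center_iff]
    intro x
    apply Subtype.ext
    have := (Subgroup.mem_centralizer_iff.1 (comm_mem E h g e).2) x x.2
    exact this⟩
  map_one' := by
    apply Subtype.ext
    apply Subtype.ext
    simp
  map_mul' e₁ e₂ := by
    apply Subtype.ext
    apply Subtype.ext
    have hc := (Subgroup.mem_centralizer_iff.1 (comm_mem E h g e₂).2) e₁ e₁.2
    change g * ((e₁ : G) * e₂) * g⁻¹ * ((e₁ : G) * e₂)⁻¹ =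
      (g * e₁ * g⁻¹ * (e₁ : G)⁻¹) * (g * e₂ * g⁻¹ * (e₂ : G)⁻¹)
    calc g * ((e₁ : G) * e₂) * g⁻¹ * ((e₁ : G) * e₂)⁻¹
        = (g * e₁ * g⁻¹) * (g * e₂ * g⁻¹ * (e₂ : G)⁻¹) * (e₁ : G)⁻¹ := by group
      _ = (g * e₁ * g⁻¹) * ((e₁ : G)⁻¹ * ((e₁ : G) * (g * e₂ * g⁻¹ * (e₂ : G)⁻¹))) * (e₁ : G)⁻¹ := by
          group
      _ = (g * e₁ * g⁻¹) * ((e₁ : G)⁻¹ * ((g * e₂ * g⁻¹ * (e₂ : G)⁻¹) * (e₁ : G))) * (e₁ : G)⁻¹ := by
          rw [hc]
      _ = _ := by group

theorem commHom_apply (g : G) (e : E) :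
    (((commHom E h g e : Subgroup.center E) : E) : G) = g * e * g⁻¹ * (e : G)⁻¹ := rfl

/-- The homomorphism `x ↦ (e ↦ [x, e])` from `E` to `Hom(E, Z(E))`. -/
def commHomHom : E →* (E →* Subgroup.center E) where
  toFun x := commHom E h (x : G)
  map_one' := by
    ext e
    rw [commHom_apply]
    simp
  map_mul' x y := by
    ext e
    have hc := (Subgroup.mem_centralizer_iff.1 (comm_mem E h y e).2) x x.2
    change (x : G) * y * e * ((x : G) * y)⁻¹ * (e : G)⁻¹ =
      ((x : G) * e * (x : G)⁻¹ * (e : G)⁻¹) * ((y : G) * e * (y : G)⁻¹ * (e : G)⁻¹)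
    calc (x : G) * y * e * ((x : G) * y)⁻¹ * (e : G)⁻¹
        = (x : G) * ((y : G) * e * (y : G)⁻¹ * (e : G)⁻¹) * (e * (x : G)⁻¹ * (e : G)⁻¹) := by group
      _ = ((y : G) * e * (y : G)⁻¹ * (e : G)⁻¹) * (x : G) * (e * (x : G)⁻¹ * (e : G)⁻¹) := by
          rw [hc]
      _ = ((y : G) * e * (y : G)⁻¹ * (e : G)⁻¹) * ((x : G) * e * (x : G)⁻¹ * (e : G)⁻¹) := by group
      _ = ((x : G) * e * (x : G)⁻¹ * (e : G)⁻¹) * ((y : G) * e * (y : G)⁻¹ * (e : G)⁻¹) := by
          have hc2 := (Subgroup.mem_centralizer_iff.1 (comm_mem E h y e).2) _ (comm_mem E h x e).1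
          exact hc2.symm

theorem ker_commHomHom : (commHomHom E h).ker = Subgroup.center E := by
  ext x
  rw [MonoidHom.mem_ker, Subgroup.mem_center_iff]
  constructor
  · intro hx e
    have h1 := DFunLike.congr_fun hx e
    have h2 : (x : G) * e * (x : G)⁻¹ * (e : G)⁻¹ = 1 := by
      have := congrArg (fun t : Subgroup.center E => ((t : E) : G)) h1
      exact this
    apply Subtype.ext
    rw [Subgroup.coe_mul, Subgroup.coe_mul]
    have h3 := congrArg (fun t => t * (e : G) * x) h2
    simp only [one_mul] at h3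
    rw [← h3]; group
  · intro hx
    ext e
    change (x : G) * e * (x : G)⁻¹ * (e : G)⁻¹ = 1
    have := congrArg Subtype.val (hx e)
    rw [Subgroup.coe_mul, Subgroup.coe_mul] at this
    rw [← this]; group

end main

/-- In a p-group G, an extraspecial subgroup E with [G, E] ≤ Z(E) satisfies G = E C_G(E). -/
theorem result {G : Type*} [Group G] [Finite G] {p : ℕ} [Fact p.Prime] (hG : IsPGroup p G) (E : Subgroup G) (hE : Cfsg.IsExtraspecial p E) (h : ⁅(⊤ : Subgroup G), E⁆ ≤ E ⊓ Subgroup.centralizer (E : Set G)) : E ⊔ Subgroup.centralizer (E : Set G) = ⊤ := by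
  obtain ⟨⟨hEp, hfr, hcomm⟩, hcard⟩ := hE
  -- `x ↦ [x, ·]` is onto `Hom(E, Z(E))`
  have hle := card_monoidHom_le (E := E) (Z := Subgroup.center E) hcard
  have : Finite (Subgroup.center E) := Nat.finite_of_card_ne_zero (by
    rw [hcard]; exact (Fact.out : p.Prime).ne_zero)
  have hfinH : Finite (E →* Subgroup.center E) :=
    Finite.of_injective (fun f : E →* Subgroup.center E => (f : E → Subgroup.center E))
      DFunLike.coe_injective
  have hrange : (commHomHom E h).range = ⊤ := by
    apply Subgroup.eq_top_of_le_card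
    have hidx : (Subgroup.center E).index = (commutator E).index := by rw [hcomm]
    rw [← Subgroup.index_ker, ker_commHomHom, hidx]
    exact hle
  rw [eq_top_iff]
  intro g _
  have hg : commHom E h g ∈ (commHomHom E h).range := by rw [hrange]; exact Subgroup.mem_top _
  obtain ⟨x, hx⟩ := hg
  have hxe : ∀ e : E, (x : G) * e * (x : G)⁻¹ * (e : G)⁻¹ = g * e * g⁻¹ * (e : G)⁻¹ := by
    intro e
    have := DFunLike.congr_fun hx e
    exact congrArg (fun t : Subgroup.center E => ((t : E) : G)) this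
  have hcent : (x : G)⁻¹ * g ∈ Subgroup.centralizer (E : Set G) := by
    rw [Subgroup.mem_centralizer_iff]
    intro e he
    have h1 := hxe ⟨e, he⟩
    simp only at h1
    have h2 : (x : G) * e * (x : G)⁻¹ = g * e * g⁻¹ := by
      have := congrArg (fun t => t * e) h1
      simpa [mul_assoc] using this
    calc e * ((x : G)⁻¹ * g) = (x : G)⁻¹ * ((x : G) * e * (x : G)⁻¹) * g := by group
      _ = (x : G)⁻¹ * (g * e * g⁻¹) * g := by rw [h2]
      _ = (x : G)⁻¹ * g * e := by group
  have : g = (x : G) * ((x : G)⁻¹ * g) := by group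
  rw [this]
  exact Subgroup.mul_mem _ (Subgroup.mem_sup_left x.2) (Subgroup.mem_sup_right hcent)

end Cfsg.Agent.S0110
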