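import Mathlib
import Cfsg.Statements.S0221
import Cfsg.Agent.S0111
import Cfsg.Agent.Lib.Helper4_NormalFour
import Cfsg.Agent.Lib.Helper4_Isolated

set_option autoImplicit false
open Cfsg

namespace Cfsg.Agent.S0221

open Cfsg.Agent.Lib.Helper4_NormalFour

variable {G : Type*} [Group G]

/-- An element commuting with `z` and `t` commutes with `1`, `z`, `t`, `t * z`. -/
theorem comm_four {g z t v : G} (hz : g * z = z * g) (ht : g * t = t * g)
    (hv : v = 1 ∨ v = z ∨ v = t ∨ v = t * z) : g * v = v * g := by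
  rcases hv with rfl | rfl | rfl | rfl
  · simp
  · exact hz
  · exact ht
  · rw [← mul_assoc, ht, mul_assoc, hz, mul_assoc]

/-- The four-group generated by two commuting involutions. -/
theorem exists_four (z t : G) (hz2 : z ^ 2 = 1) (ht2 : t ^ 2 = 1) (hz1 : z ≠ 1) (ht1 : t ≠ 1)
    (htz : t ≠ z) (hzt : t * z = z * t) :
    ∃ V : Subgroup G, Nat.card V = 4 ∧ (∀ v ∈ V, v ^ 2 = 1) ∧
      ∀ v, v ∈ V ↔ v = 1 ∨ v = z ∨ v = t ∨ v = t * z := by
  have hzinv : z⁻¹ = z := by rw [inv_eq_iff_mul_eq_one, ← pow_two]; exact hz2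
  have htinv : t⁻¹ = t := by rw [inv_eq_iff_mul_eq_one, ← pow_two]; exact ht2
  obtain ⟨F₁, hF₁c, hF₁2, hF₁m⟩ := exists_double (⊥ : Subgroup G)
    (fun k hk => by rw [Subgroup.mem_bot] at hk; rw [hk, one_pow]) z
    (by rw [Subgroup.mem_bot]; exact hz1) hz2
    (fun k hk => by rw [Subgroup.mem_bot] at hk; rw [hk, mul_one, one_mul])
  have hF₁m' : ∀ f, f ∈ F₁ ↔ f = 1 ∨ f = z := by
    intro f
    rw [hF₁m, Subgroup.mem_bot, Subgroup.mem_bot, mul_eq_one_iff_eq_inv', hzinv]
  have : Finite F₁ := Nat.finite_of_card_ne_zero (by rw [hF₁c, Subgroup.card_bot]; norm_num)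
  obtain ⟨V, hVc, hV2, hVm⟩ := exists_double F₁ hF₁2 t
    (by rw [hF₁m']; push Not; exact ⟨ht1, htz⟩) ht2
    (fun k hk => by
      rcases (hF₁m' k).mp hk with rfl | rfl
      · simp
      · exact hzt)
  refine ⟨V, by rw [hVc, hF₁c, Subgroup.card_bot], hV2, ?_⟩
  intro v
  rw [hVm, hF₁m', hF₁m', mul_eq_one_iff_eq_inv', htinv]
  constructor
  · rintro ((h | h) | (h | h))
    · exact Or.inl h
    · exact Or.inr (Or.inl h)
    · exact Or.inr (Or.inr (Or.inl h))
    · right; right; right
      rw [← h, ← mul_assoc, ← pow_two, ht2, one_mul]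
  · rintro (h | h | h | h)
    · exact Or.inl (Or.inl h)
    · exact Or.inl (Or.inr h)
    · exact Or.inr (Or.inl h)
    · right; right
      rw [h, ← mul_assoc, ← pow_two, ht2, one_mul]

/-- With a normal four-group `{1, z, t, t z}` of the `2`-group `P` (`z` central in `P`) and an
elementary abelian subgroup `E ≤ P` of order `8`, every involution of `P` commuting with `t`
centralizes an elementary abelian subgroup of order `8`. -/
theorem exists_E8_centralizer [Finite G] (P : Subgroup G) (z t : G) (htP : t ∈ P)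
    (hzc : ∀ s ∈ P, s * z = z * s) (hz1 : z ≠ 1) (hz2 : z ^ 2 = 1) (ht2 : t ^ 2 = 1)
    (ht1 : t ≠ 1) (htz : t ≠ z)
    (hconj : ∀ s ∈ P, s * t * s⁻¹ = t ∨ s * t * s⁻¹ = z * t)
    (E : Subgroup G) (hEP : E ≤ P) (hE : Nat.card E = 8) (hE2 : ∀ e ∈ E, e ^ 2 = 1)
    (y : G) (hyP : y ∈ P) (hyt : y * t = t * y) (hy2 : y ^ 2 = 1) :
    ∃ F : Subgroup G, F ≤ Subgroup.centralizer ({y} : Set G) ∧ Nat.card F = 8 ∧
      ∀ f ∈ F, f ^ 2 = 1 := by
  have hzt : t * z = z * t := hzc t htP
  have hyz : y * z = z * y := hzc y hyP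
  have hyy : y * y = 1 := by rw [← pow_two]; exact hy2
  have htt : t * t = 1 := by rw [← pow_two]; exact ht2
  have hzz : z * z = 1 := by rw [← pow_two]; exact hz2
  obtain ⟨V, hVc, hV2, hVm⟩ := exists_four z t hz2 ht2 hz1 ht1 htz hzt
  by_cases hyV : y ∈ V
  · by_cases hall : ∀ e ∈ E, e * t = t * e
    · refine ⟨E, ?_, hE, hE2⟩
      intro e he
      rw [Subgroup.mem_centralizer_singleton_iff]
      exact comm_four (hzc e (hEP he)) (hall e he) ((hVm y).mp hyV)
    · push Not at hall
      obtain ⟨e₀, he₀E, he₀t⟩ := hall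
      set E₀ : Subgroup G := E ⊓ Subgroup.centralizer ({t} : Set G) with hE₀
      have hE₀m : ∀ e, e ∈ E₀ ↔ e ∈ E ∧ e * t = t * e := by
        intro e
        rw [hE₀, Subgroup.mem_inf, Subgroup.mem_centralizer_singleton_iff]
      -- conjugation by elements of `E` not commuting with `t`
      have hnc : ∀ e ∈ E, e * t ≠ t * e → e * t * e⁻¹ = z * t := by
        intro e he hne
        rcases hconj e (hEP he) with h | h
        · exfalso
          apply hne
          rw [mul_inv_eq_iff_eq_mul] at h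
          exact h
        · exact h
      have hrel : E₀.relIndex E = 2 := by
        rw [Subgroup.relIndex_eq_two_iff_exists_notMem_and]
        refine ⟨e₀, he₀E, fun h => he₀t ((hE₀m e₀).mp h).2, ?_⟩
        intro b hb
        by_cases hbt : b * t = t * b
        · exact Or.inr ((hE₀m b).mpr ⟨hb, hbt⟩)
        · left
          rw [hE₀m]
          refine ⟨E.mul_mem hb he₀E, ?_⟩
          have h1 := hnc b hb hbt
          have h2 := hnc e₀ he₀E he₀t
          have h3 : (b * e₀) * t * (b * e₀)⁻¹ = t := by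
            have : (b * e₀) * t * (b * e₀)⁻¹ = b * (e₀ * t * e₀⁻¹) * b⁻¹ := by group
            rw [this, h2]
            have : b * (z * t) * b⁻¹ = (b * z * b⁻¹) * (b * t * b⁻¹) := by group
            rw [this, h1, hzc b (hEP hb), mul_inv_cancel_right, ← mul_assoc, hzz, one_mul]
          rw [mul_inv_eq_iff_eq_mul] at h3
          exact h3
      have hE₀c : Nat.card E₀ = 4 := by
        have h1 := Subgroup.relIndex_mul_relIndex (⊥ : Subgroup G) E₀ E bot_le inf_le_left
        rw [Subgroup.relIndex_bot_left, Subgroup.relIndex_bot_left, hrel, hE] at h1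
        omega
      have htE : t ∉ E := by
        intro htE
        apply he₀t
        exact comm_of_sq_eq_one (hE2 e₀ he₀E) ht2 (hE2 _ (E.mul_mem he₀E htE))
      obtain ⟨F, hFc, hF2, hFm⟩ := exists_double E₀ (fun k hk => hE2 k ((hE₀m k).mp hk).1) t
        (fun h => htE ((hE₀m t).mp h).1) ht2 (fun k hk => ((hE₀m k).mp hk).2.symm)
      refine ⟨F, ?_, by rw [hFc, hE₀c], hF2⟩
      intro f hf
      rw [Subgroup.mem_centralizer_singleton_iff]
      have hyV' := (hVm y).mp hyV
      rcases (hFm f).mp hf with h | h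
      · have h1 := (hE₀m f).mp h
        exact comm_four (hzc f (hEP h1.1)) h1.2 hyV'
      · have h1 := (hE₀m _).mp h
        have h2 : (t * f) * y = y * (t * f) := comm_four (hzc _ (hEP h1.1)) h1.2 hyV'
        have h3 : f = t * (t * f) := by rw [← mul_assoc, htt, one_mul]
        calc f * y = t * ((t * f) * y) := by rw [← mul_assoc, ← h3]
          _ = t * (y * (t * f)) := by rw [h2]
          _ = (t * y) * (t * f) := by rw [mul_assoc]
          _ = (y * t) * (t * f) := by rw [hyt]
          _ = y * (t * (t * f)) := by rw [mul_assoc]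
          _ = y * f := by rw [← h3]
  · have hyc : ∀ k ∈ V, y * k = k * y := fun k hk => comm_four hyz hyt ((hVm k).mp hk)
    have : Finite V := Nat.finite_of_card_ne_zero (by rw [hVc]; norm_num)
    obtain ⟨F, hFc, hF2, hFm⟩ := exists_double V hV2 y hyV hy2 hyc
    refine ⟨F, ?_, by rw [hFc, hVc], hF2⟩
    intro f hf
    rw [Subgroup.mem_centralizer_singleton_iff]
    rcases (hFm f).mp hf with h | h
    · exact (hyc f h).symm
    · have h2 := hyc _ h
      have h3 : f = y * (y * f) := by rw [← mul_assoc, hyy, one_mul]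
      calc f * y = y * ((y * f) * y) := by rw [← mul_assoc, ← h3]
        _ = y * (y * (y * f)) := by rw [← h2]
        _ = y * f := by rw [← h3]

/-- Let G be a finite group with no subgroup of index 2 whose 2-rank is at least 3 (it contains an elementary abelian subgroup of order 8). Then the centralizer of every involution of G also contains an elementary abelian subgroup of order 8. -/
theorem result {G : Type*} [Group G] [Finite G] (hno : ∀ H : Subgroup G, H.index ≠ 2) (hrank : ∃ E : Subgroup G, Nat.card E = 8 ∧ ∀ e ∈ E, e ^ 2 = 1) (x : G) (hx : orderOf x = 2) : ∃ E : Subgroup G, E ≤ Subgroup.centralizer ({x} : Set G) ∧ Nat.card E = 8 ∧ ∀ e ∈ E, e ^ 2 = 1 := by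
  have : Fact (Nat.Prime 2) := ⟨Nat.prime_two⟩
  obtain ⟨E, hE, hE2⟩ := hrank
  have hx2 : x ^ 2 = 1 := by rw [← hx, pow_orderOf_eq_one]
  -- a Sylow 2-subgroup containing `x`
  obtain ⟨P, hxP⟩ :=
    (Cfsg.Agent.Lib.Helper4_Sylow2.isPGroup_zpowers_of_orderOf_two x hx).exists_le_sylow
  have hxP' : x ∈ (P : Subgroup G) := hxP (Subgroup.mem_zpowers x)
  -- conjugate `E` into `P`
  have hEp : IsPGroup 2 E := IsPGroup.of_card (n := 3) (by rw [hE]; norm_num)
  obtain ⟨Q, hEQ⟩ := hEp.exists_le_sylow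
  obtain ⟨g, hg⟩ := MulAction.exists_smul_eq G Q P
  set E' : Subgroup G := E.map (MulAut.conj g).toMonoidHom with hE'
  have hE'P : E' ≤ (P : Subgroup G) := by
    rintro _ ⟨e, he, rfl⟩
    have h1 : (MulAut.conj g).toMonoidHom e ∈ g • Q := by
      rw [Cfsg.Agent.Lib.Helper4_Isolated.mem_smul_sylow_iff]
      have : g⁻¹ * (MulAut.conj g).toMonoidHom e * g = e := by
        simp only [MulEquiv.toMonoidHom_eq_coe, MonoidHom.coe_coe, MulAut.conj_apply]
        group
      rw [this]
      exact hEQ he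
    rw [hg] at h1
    exact h1
  have hE'c : Nat.card E' = 8 := by
    rw [hE', Subgroup.card_map_of_injective (MulAut.conj g).injective]
    exact hE
  have hE'2 : ∀ e ∈ E', e ^ 2 = 1 := by
    rintro _ ⟨e, he, rfl⟩
    rw [← map_pow, hE2 e he, map_one]
  -- the normal four-group of `P`
  obtain ⟨z, t, hzc, hz1, hz2, ht2, ht1, htz, hconj⟩ :=
    hasNormalFour_of_E8 P.isPGroup' (E'.subgroupOf (P : Subgroup G))
      (by rw [Nat.card_congr (Subgroup.subgroupOfEquivOfLe hE'P).toEquiv]; exact hE'c)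
      (by
        intro e he
        rw [Subgroup.mem_subgroupOf] at he
        apply Subtype.ext
        simpa using hE'2 _ he)
  have hzc' : ∀ s ∈ (P : Subgroup G), s * (z : G) = z * s := by
    intro s hs
    have := Subgroup.mem_center_iff.mp hzc ⟨s, hs⟩
    exact congrArg Subtype.val this
  have hz1' : (z : G) ≠ 1 := fun h => hz1 (Subtype.ext h)
  have hz2' : (z : G) ^ 2 = 1 := by
    have := congrArg Subtype.val hz2
    simpa using this
  have ht2' : (t : G) ^ 2 = 1 := by
    have := congrArg Subtype.val ht2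
    simpa using this
  have ht1' : (t : G) ≠ 1 := fun h => ht1 (Subtype.ext h)
  have htz' : (t : G) ≠ z := fun h => htz (Subtype.ext h)
  have hconj' : ∀ s ∈ (P : Subgroup G), s * (t : G) * s⁻¹ = t ∨ s * (t : G) * s⁻¹ = z * t := by
    intro s hs
    rcases hconj ⟨s, hs⟩ with h | h
    · left
      exact congrArg Subtype.val h
    · right
      exact congrArg Subtype.val h
  have hzz : (z : G) * z = 1 := by rw [← pow_two]; exact hz2'
  by_cases hxt : x * (t : G) = t * x
  · exact exists_E8_centralizer (P : Subgroup G) z t t.2 hzc' hz1' hz2' ht2' ht1' htz' hconj'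
      E' hE'P hE'c hE'2 x hxP' hxt hx2
  · -- Thompson transfer
    set M : Subgroup G := (P : Subgroup G) ⊓ Subgroup.centralizer ({(t : G)} : Set G) with hM
    have hMm : ∀ s, s ∈ M ↔ s ∈ (P : Subgroup G) ∧ s * (t : G) = t * s := by
      intro s
      rw [hM, Subgroup.mem_inf, Subgroup.mem_centralizer_singleton_iff]
    have hnc : ∀ s ∈ (P : Subgroup G), s * (t : G) ≠ t * s → s * (t : G) * s⁻¹ = z * t := by
      intro s hs hne
      rcases hconj' s hs with h | h
      · exfalso
        apply hne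
        rw [mul_inv_eq_iff_eq_mul] at h
        exact h
      · exact h
    have hrel : M.relIndex (P : Subgroup G) = 2 := by
      rw [Subgroup.relIndex_eq_two_iff_exists_notMem_and]
      refine ⟨x, hxP', fun h => hxt ((hMm x).mp h).2, ?_⟩
      intro b hb
      by_cases hbt : b * (t : G) = t * b
      · exact Or.inr ((hMm b).mpr ⟨hb, hbt⟩)
      · left
        rw [hMm]
        refine ⟨(P : Subgroup G).mul_mem hb hxP', ?_⟩
        have h1 := hnc b hb hbt
        have h2 := hnc x hxP' hxt
        have h3 : (b * x) * (t : G) * (b * x)⁻¹ = t := by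
          have : (b * x) * (t : G) * (b * x)⁻¹ = b * (x * t * x⁻¹) * b⁻¹ := by group
          rw [this, h2]
          have : b * ((z : G) * t) * b⁻¹ = (b * z * b⁻¹) * (b * t * b⁻¹) := by group
          rw [this, h1, hzc' b hb, mul_inv_cancel_right, ← mul_assoc, hzz, one_mul]
        rw [mul_inv_eq_iff_eq_mul] at h3
        exact h3
    rcases Cfsg.Agent.S0111.result P M inf_le_left hrel x hx hxP'
        (fun h => hxt ((hMm x).mp h).2) with ⟨N, _, hN2, _⟩ | ⟨g', hg'⟩
    · exact absurd hN2 (hno N)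
    · have hy := (hMm _).mp hg'
      have hy2 : (g' * x * g'⁻¹) ^ 2 = 1 := by rw [conj_pow, hx2, mul_one, mul_inv_cancel]
      obtain ⟨F, hFc, hF8, hF2⟩ := exists_E8_centralizer (P : Subgroup G) z t t.2 hzc' hz1' hz2'
        ht2' ht1' htz' hconj' E' hE'P hE'c hE'2 (g' * x * g'⁻¹) hy.1 hy.2 hy2
      refine ⟨F.map (MulAut.conj g'⁻¹).toMonoidHom, ?_, ?_, ?_⟩
      · rintro _ ⟨f, hf, rfl⟩
        have h1 := hFc hf
        rw [Subgroup.mem_centralizer_singleton_iff] at h1 ⊢
        simp only [MulEquiv.toMonoidHom_eq_coe, MonoidHom.coe_coe, MulAut.conj_apply, inv_inv]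
        have h2 : g'⁻¹ * f * g' * x = g'⁻¹ * (f * (g' * x * g'⁻¹)) * g' := by group
        have h3 : x * (g'⁻¹ * f * g') = g'⁻¹ * ((g' * x * g'⁻¹) * f) * g' := by group
        rw [h2, h3, h1]
      · rw [Subgroup.card_map_of_injective (MulAut.conj g'⁻¹).injective]
        exact hF8
      · rintro _ ⟨f, hf, rfl⟩
        rw [← map_pow, hF2 f hf, map_one]

end Cfsg.Agent.S0221
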