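import Mathlib
import Cfsg.Statements.S3761
import Cfsg.Agent.S0126
import Cfsg.Agent.S0221
import Cfsg.Agent.Lib.Helper32_PGroup
import Cfsg.Agent.Lib.Helper4_CyclicNormal2

set_option autoImplicit false
open Cfsg

namespace Cfsg.Agent.S3761

open Cfsg.Agent.Lib.Helper4_NormalFour Cfsg.Agent.Lib.Helper4_CyclicNormal
open Cfsg.Agent.Lib.Helper4_CyclicNormalP Cfsg.Agent.Lib.Helper4_CyclicNormal2

/-- The exponent `n` is at least two. -/
theorem two_le_of {G : Type*} [Group G] [Finite G] {p : ℕ} [Fact p.Prime] (hG : IsPGroup p G)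
    (a : G) (hN : (Subgroup.zpowers a).Normal) (n : ℕ) (hord : orderOf a = p ^ n)
    (hC : Subgroup.centralizer (Subgroup.zpowers a : Set G) = Subgroup.zpowers a)
    (g : G) (hg : g ∉ Subgroup.zpowers a) : 2 ≤ n := by
  by_contra hlt
  apply hg
  rw [← hC, Subgroup.mem_centralizer_iff]
  have hn01 : n = 0 ∨ n = 1 := by omega
  rcases hn01 with rfl | rfl
  · rw [pow_zero, orderOf_eq_one_iff] at hord
    intro y hy
    rw [hord, Subgroup.zpowers_one_eq_bot] at hy
    have hy1 : y = 1 := by simpa using hy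
    rw [hy1, mul_one, one_mul]
  · rw [pow_one] at hord
    have hne : Subgroup.zpowers a ≠ ⊥ := by
      intro h'
      have : a ∈ Subgroup.zpowers a := Subgroup.mem_zpowers a
      rw [h', Subgroup.mem_bot] at this
      rw [this, orderOf_one] at hord
      exact (Fact.out : p.Prime).one_lt.ne hord
    obtain ⟨b, hbN, hbZ, hb1⟩ :=
      Cfsg.Agent.Lib.Helper32_PGroup.exists_mem_center_of_normal hG (Subgroup.zpowers a) hne
    have h1 := Cfsg.Agent.Lib.Helper20_PGroupOdd.zpowers_eq_of_mem_of_ne_one hord hbN hb1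
    intro y hy
    rw [← h1] at hy
    have hyZ : y ∈ Subgroup.center G := (Subgroup.zpowers_le.mpr hbZ) hy
    exact (Subgroup.mem_center_iff.mp hyZ g).symm

/-- Let G be a finite non-abelian p-group with a cyclic normal subgroup U of order p^n such that C_G(U) = U. Then either p = 2 and G is dihedral, generalized quaternion or semidihedral of order 2^(n+1); or, writing U₁ for the subgroup generated by the p-th powers of elements of U and M = C_G(U₁), the subgroup U has index p in M and the subgroup Ω₁(M) generated by the elements of M of order dividing p is elementary abelian of order p² and characteristic in G. -/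
theorem result {G : Type*} [Group G] [Finite G] {p : ℕ} [Fact p.Prime] (hG : IsPGroup p G) (hna : ¬ IsMulCommutative G) (U : Subgroup G) [U.Normal] (hU : IsCyclic U) (n : ℕ) (hUn : Nat.card U = p ^ n) (hC : Subgroup.centralizer (U : Set G) = U) : (p = 2 ∧ Nat.card G = 2 ^ (n + 1) ∧ ((∃ m : ℕ, Nonempty (G ≃* DihedralGroup m)) ∨ (∃ m : ℕ, Nonempty (G ≃* QuaternionGroup m)) ∨ Cfsg.IsQuasiDihedral G)) ∨ (U.relIndex (Subgroup.centralizer (Cfsg.powerClosure p 1 U : Set G)) = p ∧ Cfsg.IsElementaryAbelian p (Cfsg.omegaOne p (Subgroup.centralizer (Cfsg.powerClosure p 1 U : Set G))) ∧ Nat.card ↥(Cfsg.omegaOne p (Subgroup.centralizer (Cfsg.powerClosure p 1 U : Set G))) = p ^ 2 ∧ (Cfsg.omegaOne p (Subgroup.centralizer (Cfsg.powerClosure p 1 U : Set G))).Characteristic) := by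
  classical
  have hN : U.Normal := inferInstance
  have hex : ∃ a : G, Subgroup.zpowers a = U := by
    obtain ⟨g, hg⟩ := hU.exists_generator
    refine ⟨g.1, ?_⟩
    ext x
    constructor
    · intro hx
      obtain ⟨k, rfl⟩ := Subgroup.mem_zpowers_iff.mp hx
      exact U.zpow_mem g.2 k
    · intro hx
      obtain ⟨k, hk⟩ := Subgroup.mem_zpowers_iff.mp (hg ⟨x, hx⟩)
      refine Subgroup.mem_zpowers_iff.mpr ⟨k, ?_⟩
      have := congrArg Subtype.val hk
      simpa using this
  obtain ⟨a, rfl⟩ := hex
  have hord : orderOf a = p ^ n := by rw [← hUn, Nat.card_zpowers]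
  -- an element outside `U`
  obtain ⟨g, hg⟩ : ∃ g : G, g ∉ Subgroup.zpowers a := by
    by_contra hcon
    push Not at hcon
    apply hna
    refine ⟨⟨fun x y => ?_⟩⟩
    obtain ⟨i, rfl⟩ := Subgroup.mem_zpowers_iff.mp (hcon x)
    obtain ⟨j, rfl⟩ := Subgroup.mem_zpowers_iff.mp (hcon y)
    exact (((Commute.refl a).zpow_left i).zpow_right j).eq
  have hn2 : 2 ≤ n := two_le_of hG a hN n hord hC g hg
  have h : SCCp p a n := ⟨hN, hC, hord, hn2⟩
  rw [powerClosure_zpowers]
  by_cases hp2 : p = 2
  · subst hp2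
    have h' : SCC a n := ⟨hN, hC, hord, by omega⟩
    by_cases hn3 : 3 ≤ n
    · by_cases hmod : ∃ s : G, s * a * s⁻¹ = a * zz a n
      · -- the modular case
        right
        obtain ⟨s, hs⟩ := hmod
        obtain ⟨t, htU, ht2, hta⟩ := h'.exists_involution_of_modular hn3 s hs
        have htt : t * t = 1 := by rw [← pow_two]; exact ht2
        have ht1 : t ≠ 1 := fun h1 => htU (h1 ▸ Subgroup.one_mem _)
        have htz : t ≠ zz a n := fun h1 => htU (h1 ▸ h'.z_mem)
        obtain ⟨V, hVcard, hV2, hVm⟩ := Cfsg.Agent.S0221.exists_four (zz a n) t h'.z_sq ht2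
          h'.z_ne_one ht1 htz (h'.z_comm t)
        have htM : t ∈ cM 2 a := h.mem_cM_of_conj (Subgroup.mem_zpowers _) hta
        have hzM : zz a n ∈ cM 2 a := le_cM h'.z_mem
        have hVM : V ≤ cM 2 a := by
          intro v hv
          rcases (hVm v).mp hv with rfl | rfl | rfl | rfl
          · exact Subgroup.one_mem _
          · exact hzM
          · exact htM
          · exact Subgroup.mul_mem _ htM hzM
        have hVc : ∀ x ∈ V, ∀ y ∈ V, x * y = y * x := fun x hx y hy =>
          comm_of_sq_eq_one (hV2 x hx) (hV2 y hy) (hV2 _ (V.mul_mem hx hy))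
        have hsub : ∀ x ∈ cM 2 a, x ^ 2 = 1 → x ∈ V := by
          intro x hx hx2
          rw [hVm]
          obtain ⟨ζ, hζ, hxa⟩ := h.conj_of_mem_cM hx
          have hζ' : ζ = 1 ∨ ζ = zz a n := (mem_zpowers_of_sq_eq_one h'.z_sq).mp hζ
          apply involution_of_cM h' hn3 t htt hta x _ (by rw [← pow_two]; exact hx2)
          rcases hζ' with rfl | rfl
          · left; rw [hxa, mul_one]
          · right; exact hxa
        exact h.second_alternative V hVM hVc hV2 (by rw [hVcard]; norm_num) hsub htM htU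
      · -- dihedral, quaternion, quasidihedral
        left
        push Not at hmod
        refine ⟨rfl, ?_⟩
        apply classify h' hn2 (fun s t hs ht => mul_mem_of_notMem' hG h' hn3 hmod s t hs ht) g hg
        rcases conj_three' hG h' hn3 hmod g with h1 | h1 | h1
        · exact absurd (h'.mem_of_conj g h1) hg
        · exact Or.inl h1
        · exact Or.inr ⟨hn3, h1⟩
    · left
      have hn : n = 2 := by omega
      subst hn
      refine ⟨rfl, ?_⟩
      apply classify h' hn2 _ g hg (Or.inl (conj_eq_inv_of_two h' g hg))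
      intro s t hs ht
      apply h'.mem_of_conj
      have e : s * t * a * (s * t)⁻¹ = s * (t * a * t⁻¹) * s⁻¹ := by group
      rw [e, conj_eq_inv_of_two h' t ht, ← conj_inv, conj_eq_inv_of_two h' s hs, inv_inv]
  · -- `p` odd
    right
    have hncyc : ¬ IsCyclic G := by
      intro hc
      apply hna
      exact ⟨⟨fun x y => (IsCyclic.commGroup (α := G)).mul_comm x y⟩⟩
    obtain ⟨A, hAn, ⟨hAc, hAe⟩, hAcard⟩ := Cfsg.Agent.S0126.result hp2 hG hncyc
    have hAM : A ≤ cM p a := h.le_cM_of_normal_exp A hAn hAe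
    have hAcomm : ∀ x ∈ A, ∀ y ∈ A, x * y = y * x := by
      intro x hx y hy
      have := hAc.is_comm.comm (⟨x, hx⟩ : A) ⟨y, hy⟩
      exact congrArg Subtype.val this
    obtain ⟨t, htA, htU⟩ : ∃ t ∈ A, t ∉ Subgroup.zpowers a := by
      by_contra hcon
      push Not at hcon
      have hle : A ≤ Subgroup.zpowers (zp p a n) := fun x hx =>
        h.mem_zpowers_z_of_pow (hcon x hx) (hAe x hx)
      have hdvd := Subgroup.card_dvd_of_le hle
      rw [hAcard, Nat.card_zpowers, h.orderOf_z] at hdvd
      have hpp : p.Prime := Fact.out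
      have := Nat.le_of_dvd hpp.pos hdvd
      have h3 : p * 2 ≤ p * p := Nat.mul_le_mul_left p hpp.two_le
      have h4 : p ^ 2 = p * p := pow_two p
      have h5 := hpp.pos
      omega
    have hzA : zp p a n ∈ A := h.z_mem_of_normal A hAn hAe htA htU
    exact h.second_alternative A hAM hAcomm hAe hAcard
      (fun x hx hxp => h.mem_of_pow_eq_one_odd hp2 A hAM hAe hzA htA htU hx hxp) (hAM htA) htU

end Cfsg.Agent.S3761
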