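import Mathlib
import Cfsg.Statements.S3762
import Cfsg.Agent.S3761
import Cfsg.Agent.Lib.Helper4_CyclicNormal
import Cfsg.Agent.Lib.Helper4_CyclicNormal2
import Cfsg.Agent.Lib.Helper89_SympBasics
import Cfsg.Agent.Lib.Helper89_Symplectic
import Cfsg.Agent.Lib.Helper89_SympE
import Cfsg.Agent.Lib.Helper89_SympR
import Cfsg.Agent.Lib.Helper89_SympTwo
import Cfsg.Agent.Lib.Helper89_SympCP

set_option autoImplicit false
open Cfsg

namespace Cfsg.Agent.S3762

open Cfsg.Agent.Lib.Helper89_Symplectic Cfsg.Agent.Lib.Helper89_SympBasics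

/-- a cyclic subgroup is generated by one element. -/
theorem exists_zpowers_eq {G : Type*} [Group G] (H : Subgroup G) (hH : IsCyclic H) :
    ∃ a : G, H = Subgroup.zpowers a := by
  obtain ⟨g, hg⟩ := hH.exists_generator
  refine ⟨g.1, ?_⟩
  ext x
  constructor
  · intro hx
    obtain ⟨k, hk⟩ := Subgroup.mem_zpowers_iff.mp (hg ⟨x, hx⟩)
    refine Subgroup.mem_zpowers_iff.mpr ⟨k, ?_⟩
    have := congrArg Subtype.val hk
    simpa using this
  · intro hx
    obtain ⟨k, rfl⟩ := Subgroup.mem_zpowers_iff.mp hx
    exact H.zpow_mem g.2 k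

/-- the output `(E, H)` when `C_G(E) ≤ H`. -/
theorem out_EH {G : Type*} [Group G] [Finite G] {p : ℕ} [Fact p.Prime] {H C E : Subgroup G}
    {a : G} {n : ℕ} (hE : EData H C E (Subgroup.zpowers (a ^ p ^ (n - 1)))) (hC : Crit p H C)
    (hHa : H = Subgroup.zpowers a) (ha : orderOf a = p ^ n) (hn : 1 ≤ n) (hG : IsPGroup p G)
    (hRH : Subgroup.centralizer (E : Set G) ≤ H) :
    ∃ E R : Subgroup G, (∀ e ∈ E, ∀ r ∈ R, e * r = r * e) ∧ E ⊔ R = ⊤ ∧
      (E = ⊥ ∨ Cfsg.IsExtraspecial p ↥E) ∧ (IsCyclic R ∨ (p = 2 ∧ 16 ≤ Nat.card R ∧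
        ((∃ m : ℕ, Nonempty (↥R ≃* DihedralGroup m)) ∨
          (∃ m : ℕ, Nonempty (↥R ≃* QuaternionGroup m)) ∨ Cfsg.IsQuasiDihedral ↥R))) := by
  refine ⟨E, H, ?_, ?_, Or.inr (hE.isExtraspecial hC hHa ha hn hG), Or.inl ?_⟩
  · intro e he r hr
    exact hC.cent e (hE.leC he) r hr
  · apply le_antisymm le_top
    rw [← hE.sup_centralizer hC hHa ha hn hG]
    exact sup_le_sup_left hRH E
  · rw [hHa]; infer_instance

/-- Let G be a finite p-group of symplectic type: every characteristic abelian subgroup of G is cyclic. Then G = E ∗ R is a central product of subgroups E and R (they commute elementwise and generate G) where E is extraspecial or trivial, and R is cyclic, or p = 2 and R is dihedral, semidihedral or generalized quaternion of order at least 16. -/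
theorem result {G : Type*} [Group G] [Finite G] {p : ℕ} [Fact p.Prime] (hG : IsPGroup p G) (hsymp : ∀ A : Subgroup G, A.Characteristic → IsMulCommutative A → IsCyclic A) : ∃ E R : Subgroup G, (∀ e ∈ E, ∀ r ∈ R, e * r = r * e) ∧ E ⊔ R = ⊤ ∧ (E = ⊥ ∨ Cfsg.IsExtraspecial p ↥E) ∧ (IsCyclic R ∨ (p = 2 ∧ 16 ≤ Nat.card R ∧ ((∃ m : ℕ, Nonempty (↥R ≃* DihedralGroup m)) ∨ (∃ m : ℕ, Nonempty (↥R ≃* QuaternionGroup m)) ∨ Cfsg.IsQuasiDihedral ↥R))) := by
  classical
  let 𝒮 := {H : Subgroup G // H.Characteristic ∧ IsMulCommutative H}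
  have : Nonempty 𝒮 := ⟨⟨⊥, Subgroup.botCharacteristic, inferInstance⟩⟩
  have : Finite 𝒮 := Subtype.finite
  obtain ⟨⟨H, hHc, hHab⟩, hmax⟩ := Finite.exists_max (fun H : 𝒮 => Nat.card H.1)
  have hmax' : ∀ H' : Subgroup G, H'.Characteristic → IsMulCommutative H' → H ≤ H' → H' = H := by
    intro H' h1 h2 h3
    have h4 := hmax ⟨H', h1, h2⟩
    exact (Subgroup.eq_of_le_of_card_ge h3 h4).symm
  have hcyc : IsCyclic H := hsymp H hHc hHab
  obtain ⟨a, hHa⟩ := exists_zpowers_eq H hcyc
  obtain ⟨n, hn⟩ := (hG.to_subgroup H).exists_card_eq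
  have ha : orderOf a = p ^ n := by rw [← hn, hHa, Nat.card_zpowers]
  have := hHc
  have hcardpos : 0 < Nat.card H := Nat.card_pos
  by_cases hcent : Subgroup.centralizer (H : Set G) ≤ H
  · -- Case A: `H` is self-centralizing
    rcases selfcentralizing_char hG hsymp ⊤ H le_top hcyc
      (fun t _ ht => hcent (Subgroup.mem_centralizer_iff.mpr (fun h hh => (ht h hh).symm)))
      with hT | ⟨hp2, hcard, hDQ⟩
    · refine ⟨⊥, H, ?_, ?_, Or.inl rfl, Or.inl hcyc⟩
      · intro e he r _
        rw [Subgroup.mem_bot.mp he, one_mul, mul_one]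
      · rw [bot_sup_eq]; exact top_le_iff.mp hT
    · subst hp2
      by_cases hn3 : 3 ≤ n
      · refine ⟨⊥, ⊤, ?_, bot_sup_eq _, Or.inl rfl, Or.inr ⟨rfl, ?_, hDQ⟩⟩
        · intro e he r _
          rw [Subgroup.mem_bot.mp he, one_mul, mul_one]
        · rw [hcard, hn]
          calc 16 = 2 * 2 ^ 3 := by norm_num
            _ ≤ 2 * 2 ^ n := Nat.mul_le_mul_left 2 (Nat.pow_le_pow_right (by norm_num) hn3)
      · have hcentEq : Subgroup.centralizer (Subgroup.zpowers a : Set G) = Subgroup.zpowers a := by
          rw [← hHa]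
          exact le_antisymm hcent (Subgroup.le_centralizer_iff_isMulCommutative.mpr hHab)
        have hNa : (Subgroup.zpowers a).Normal := by rw [← hHa]; infer_instance
        have hex : ∃ g : G, g ∉ Subgroup.zpowers a := by
          by_contra hcon
          push Not at hcon
          have h0 : (⊤ : Subgroup G) ≤ H := fun g _ => by rw [hHa]; exact hcon g
          have h1 : Nat.card (⊤ : Subgroup G) ≤ Nat.card H := Subgroup.card_le_of_le h0
          rw [hcard] at h1
          omega
        obtain ⟨g0, hg0⟩ := hex
        have hn2' : 2 ≤ n := Cfsg.Agent.S3761.two_le_of hG a hNa n ha hcentEq g0 hg0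
        have hn2 : n = 2 := by omega
        subst hn2
        have hscc : Cfsg.Agent.Lib.Helper4_CyclicNormal.SCC a 2 := ⟨hNa, hcentEq, ha, by norm_num⟩
        have hidx2 : (Subgroup.zpowers a).index = 2 := by
          have h1 := Subgroup.card_mul_index H
          rw [← Subgroup.card_top (G := G), hcard, mul_comm] at h1
          rw [← hHa]
          exact Nat.eq_of_mul_eq_mul_right hcardpos h1
        have hES : Cfsg.IsExtraspecial 2 ↥(⊤ : Subgroup G) := by
          apply extraspecial_top hG a ha ⊥ ⊤
          · intro e he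
            rw [Subgroup.mem_bot.mp he, one_pow]; exact Subgroup.one_mem _
          · intro x hx _
            rw [Subgroup.mem_bot.mp hx]; exact Subgroup.one_mem _
          · intro e he r _
            rw [Subgroup.mem_bot.mp he, one_mul, mul_one]
          · intro g
            exact ⟨1, Subgroup.one_mem _, g, Subgroup.mem_top g, (one_mul g).symm⟩
          · exact Subgroup.mem_top a
          · intro r _ hr
            exact Cfsg.Agent.Lib.Helper4_CyclicNormal2.conj_eq_inv_of_two hscc r hr
          · intro r _ s _ hr hs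
            rw [Subgroup.mul_mem_iff_of_index_two hidx2]
            exact ⟨fun h => absurd h hr, fun h => absurd h hs⟩
          · exact ⟨g0, Subgroup.mem_top g0, hg0⟩
        refine ⟨⊤, ⊥, ?_, sup_bot_eq _, Or.inr hES, Or.inl inferInstance⟩
        intro e _ r hr
        rw [Subgroup.mem_bot.mp hr, one_mul, mul_one]
  · -- Case B: `C_G(H)` is not contained in `H`
    have hC : Crit p H (critC p H) := exists_crit hG H hHab hmax' hcent
    have hn1 : 1 ≤ n := by
      by_contra h0
      have hn0 : n = 0 := by omega
      subst hn0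
      rw [pow_zero] at hn
      have hHbot : H = ⊥ := Subgroup.card_eq_one.mp hn
      have hZ : Subgroup.center G = H :=
        hmax' (Subgroup.center G) inferInstance inferInstance (hHbot ▸ bot_le)
      apply hcent
      rw [hHbot]
      intro g _
      by_contra hg
      have : Nontrivial G := ⟨⟨g, 1, fun h => hg (by rw [h]; exact Subgroup.one_mem _)⟩⟩
      have := hG.bot_lt_center
      rw [hZ, hHbot] at this
      exact lt_irrefl _ this
    rcases Nat.lt_or_ge n 2 with hlt | hn2
    · have hn' : n = 1 := by omega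
      have hE := hC.eData_one (p := p) hHa hn'
      exact out_EH hE hC hHa ha hn1 hG
        (fun g hg => hC.cc g (fun y hy => (Subgroup.mem_centralizer_iff.mp hg y hy).symm))
    · by_cases hp2 : p = 2
      · subst hp2
        obtain ⟨E, hE⟩ := hC.eData_max hHa ha hn2 hG hsymp
        by_cases hRH : Subgroup.centralizer (E : Set G) ≤ H
        · exact out_EH hE hC hHa ha hn1 hG hRH
        rcases hE.R_structure hC hHa ha hn2 hG hsymp with hRH' | ⟨hcard, hDQ⟩
        · exact absurd hRH' hRH
        by_cases hn3 : 3 ≤ n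
        · refine ⟨E, Subgroup.centralizer (E : Set G), ?_, hE.sup_centralizer hC hHa ha hn1 hG,
            Or.inr (hE.isExtraspecial hC hHa ha hn1 hG), Or.inr ⟨rfl, ?_, hDQ⟩⟩
          · intro e he r hr
            exact Subgroup.mem_centralizer_iff.mp hr e he
          · rw [hcard]
            calc 16 = 2 ^ (3 + 1) := by norm_num
              _ ≤ 2 ^ (n + 1) := Nat.pow_le_pow_right (by norm_num) (by omega)
        · have hn' : n = 2 := by omega
          subst hn'
          obtain ⟨r0, hr0, hr0H⟩ := SetLike.not_le_iff_exists.mp hRH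
          have h21 : a ^ 2 ^ (2 - 1) = a ^ 2 := by norm_num
          have h20 : a ^ 2 ^ (2 - 2) = a := by norm_num
          have hinvR : ∀ r ∈ Subgroup.centralizer (E : Set G), r ∉ Subgroup.zpowers a →
              r * a * r⁻¹ = a⁻¹ := by
            intro r hr hra
            have h1 := hE.conj_four hC hHa ha hn2 hG r
            rw [h20] at h1
            rcases h1 with h1 | h1
            · exfalso
              apply hra
              rw [← hHa]
              apply hE.mem_H_of_comm_four hC hHa ha hn2 hG hsymp hr
              rw [h20]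
              calc r * a = (r * a * r⁻¹) * r := by group
                _ = a * r := by rw [h1]
            · exact h1
          have hES : Cfsg.IsExtraspecial 2 ↥(⊤ : Subgroup G) := by
            apply extraspecial_top hG a ha E (Subgroup.centralizer (E : Set G))
            · intro e he
              have := hE.inter (Subgroup.mem_inf.mpr ⟨E.pow_mem he 2, hC.pow e (hE.leC he)⟩)
              rwa [h21] at this
            · intro x hx hxc
              have hxH : x ∈ H := hE.mem_of_centralizes hC hHa ha hn1 hxc
                (fun h hh => hC.cent x (hE.leC hx) h hh)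
              have := hE.inter (Subgroup.mem_inf.mpr ⟨hx, hxH⟩)
              rwa [h21] at this
            · intro e he r hr
              exact Subgroup.mem_centralizer_iff.mp hr e he
            · intro g
              have h1 : Subgroup.centralizer (E : Set G) ≤ Subgroup.normalizer (E : Set G) :=
                Subgroup.centralizer_le_normalizer _
              have h2 := Subgroup.coe_mul_of_right_le_normalizer_left E _ h1
              have h3 : g ∈ ((E ⊔ Subgroup.centralizer (E : Set G) : Subgroup G) : Set G) := by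
                rw [hE.sup_centralizer hC hHa ha hn1 hG]; exact Subgroup.mem_top g
              rw [h2] at h3
              obtain ⟨e, he, r, hr, rfl⟩ := Set.mem_mul.mp h3
              exact ⟨e, he, r, hr, rfl⟩
            · exact hE.H_le_centralizer hC (by rw [hHa]; exact Subgroup.mem_zpowers a)
            · exact hinvR
            · intro r hr s hs hra hsa
              rw [← hHa] at hra hsa ⊢
              exact hE.mul_mem_H hC hHa ha hn2 hG hsymp hr hs hra hsa
            · exact ⟨r0, hr0, by rw [← hHa]; exact hr0H⟩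
          refine ⟨⊤, ⊥, ?_, sup_bot_eq _, Or.inr hES, Or.inl inferInstance⟩
          intro e _ r hr
          rw [Subgroup.mem_bot.mp hr, one_mul, mul_one]
      · have hE := hC.eData_odd hHa ha hn2 hG hsymp hp2
        have := hC.omegaSub_char hp2
        rcases selfcentralizing_char hG hsymp
          (Subgroup.centralizer ((hC.omegaSub hp2 : Subgroup G) : Set G)) H
          (hE.H_le_centralizer hC) hcyc
          (fun t ht hth => hE.mem_H_of_mem_centralizer hC hHa ha hn1 ht hth) with hRH | ⟨h2, _⟩
        · exact out_EH hE hC hHa ha hn1 hG hRH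
        · exact absurd h2 hp2

end Cfsg.Agent.S3762
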