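import Cfsg.Statements.S2542
import Cfsg.Agent.S0804
import Cfsg.Agent.Lib.Helper17_Sylow
import Cfsg.Agent.Lib.Helper5_PSLCard

set_option autoImplicit false
open Cfsg

namespace Cfsg.Agent.S2542


open MulAction Subgroup

theorem normalizer_eq_self {G : Type*} [Group G] [Finite G] [IsSimpleGroup G]
    (hG : Nat.card G = 660) (H : Subgroup G) (hH : Nat.card H = 60) :
    Subgroup.normalizer (H : Set G) = H := by
  have hle : H ≤ Subgroup.normalizer (H : Set G) := Subgroup.le_normalizer
  have h1 : Nat.card H ∣ Nat.card (Subgroup.normalizer (H : Set G)) := Subgroup.card_dvd_of_le hle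
  have h2 : Nat.card (Subgroup.normalizer (H : Set G)) ∣ Nat.card G :=
    Subgroup.card_subgroup_dvd_card _
  have hne : Subgroup.normalizer (H : Set G) ≠ ⊤ := by
    intro htop
    have hn : H.Normal := Subgroup.normalizer_eq_top_iff.mp htop
    rcases hn.eq_bot_or_eq_top with h | h
    · rw [h, Subgroup.card_bot] at hH; omega
    · rw [h, Subgroup.card_top, hG] at hH; omega
  have hne' : Nat.card (Subgroup.normalizer (H : Set G)) ≠ 660 := by
    intro h
    apply hne
    apply Subgroup.eq_top_of_card_eq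
    rw [h, hG]
  rw [hH] at h1
  rw [hG] at h2
  obtain ⟨k, hk⟩ := h1
  have hk11 : k ∣ 11 := by
    rw [hk] at h2
    have : 60 * k ∣ 60 * 11 := by simpa using h2
    exact Nat.dvd_of_mul_dvd_mul_left (by norm_num) this
  have hk' : k = 1 ∨ k = 11 := (Nat.dvd_prime (by norm_num)).mp hk11
  rcases hk' with rfl | rfl
  · symm
    apply Subgroup.eq_of_le_of_card_ge hle
    rw [hk, hH]
  · omega

theorem even_orbit_pair {G Ω : Type*} [Group G] [MulAction G Ω] [Finite Ω] (α δ : Ω) (t : G)
    (h1 : t • α = δ) (h2 : t • δ = α) (hne : α ≠ δ) :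
    Even (MulAction.orbit G ((α, δ) : Ω × Ω)).ncard := by
  classical
  have : Fintype (MulAction.orbit G ((α, δ) : Ω × Ω)) := Fintype.ofFinite _
  have hmem : ∀ p : MulAction.orbit G ((α, δ) : Ω × Ω), p.1.swap ∈ MulAction.orbit G ((α, δ) : Ω × Ω) := by
    rintro ⟨p, g, rfl⟩
    refine ⟨g * t, ?_⟩
    simp [mul_smul, h1, h2, Prod.smul_mk]
  let f : MulAction.orbit G ((α, δ) : Ω × Ω) → MulAction.orbit G ((α, δ) : Ω × Ω) :=
    fun p => ⟨p.1.swap, hmem p⟩
  have hf : Function.Involutive f := by
    intro p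
    apply Subtype.ext
    simp [f]
  by_contra hodd
  have hnd : ¬ 2 ∣ Fintype.card (MulAction.orbit G ((α, δ) : Ω × Ω)) := by
    intro hd
    apply hodd
    rw [← Nat.card_coe_set_eq, Nat.card_eq_fintype_card]
    exact even_iff_two_dvd.mpr hd
  have : Fact (Nat.Prime 2) := ⟨Nat.prime_two⟩
  obtain ⟨⟨p, g, rfl⟩, hp⟩ := Equiv.Perm.exists_fixed_point_of_prime (p := 2) (n := 1) hnd
    (σ := hf.toPerm f) (by
      apply Equiv.ext
      intro p
      rw [pow_one, sq, Equiv.Perm.mul_apply, Function.Involutive.coe_toPerm, hf p]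
      rfl)
  have hp' := congrArg Subtype.val hp
  simp only [Function.Involutive.coe_toPerm, f, Prod.smul_mk, Prod.swap_prod_mk, Prod.mk.injEq] at hp'
  exact hne (smul_left_cancel g hp'.1).symm


theorem card_stab_pair {G : Type*} [Group G] (H : Subgroup G) (δ : G ⧸ H) :
    Nat.card (MulAction.stabilizer H δ) =
      Nat.card (MulAction.stabilizer G ((((1 : G) : G ⧸ H), δ) : (G ⧸ H) × (G ⧸ H))) := by
  rw [← Subgroup.card_map_of_injective (K := MulAction.stabilizer H δ) H.subtype_injective]
  congr 1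
  have hst := MulAction.stabilizer_quotient H
  have : (MulAction.stabilizer H δ).map H.subtype =
      MulAction.stabilizer G ((((1 : G) : G ⧸ H), δ) : (G ⧸ H) × (G ⧸ H)) := by
    ext g
    simp only [Subgroup.mem_map, MulAction.mem_stabilizer_iff, Prod.smul_mk, Prod.mk.injEq,
      Subgroup.coe_subtype]
    constructor
    · rintro ⟨h, hh, rfl⟩
      refine ⟨?_, hh⟩
      have : (h : G) ∈ MulAction.stabilizer G ((1 : G) : G ⧸ H) := by rw [hst]; exact h.2
      exact this
    · rintro ⟨h1, h2⟩
      have hg : g ∈ H := by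
        rw [← hst]; exact h1
      exact ⟨⟨g, hg⟩, h2, rfl⟩
  rw [this]

theorem two_trans {G : Type*} [Group G] [Finite G] [IsSimpleGroup G] (hG : Nat.card G = 660)
    (H : Subgroup G) (hH : Nat.card H = 60) [IsSimpleGroup H] :
    MulAction.IsMultiplyPretransitive G (G ⧸ H) 2 := by
  classical
  have hN := normalizer_eq_self hG H hH
  have hidx : H.index = 11 := by
    have := H.index_mul_card
    rw [hH, hG] at this
    omega
  have hΩ : Nat.card (G ⧸ H) = 11 := by rw [← Subgroup.index_eq_card]; exact hidx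
  have hfinΩ : Finite (G ⧸ H) := Nat.finite_of_card_ne_zero (by rw [hΩ]; norm_num)
  set α : G ⧸ H := ((1 : G) : G ⧸ H) with hα
  -- only fixed point
  have hfix : ∀ β : G ⧸ H, (∀ h : H, h • β = β) → β = α := by
    intro β hβ
    obtain ⟨g, rfl⟩ := QuotientGroup.mk_surjective β
    have hmem : (g : G ⧸ H) ∈ MulAction.fixedPoints H (G ⧸ H) := fun h => hβ h
    rw [Sylow.mem_fixedPoints_mul_left_cosets_iff_mem_normalizer, hN] at hmem
    rw [hα, QuotientGroup.eq]
    simpa using hmem
  have hHα : ∀ h : H, h • α = α := by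
    intro h
    have : (h : G) ∈ MulAction.stabilizer G α := by
      rw [hα, MulAction.stabilizer_quotient]; exact h.2
    exact this
  -- orbit sizes
  have horb : ∀ β : G ⧸ H, β ≠ α → 5 ≤ (MulAction.orbit H β).ncard := by
    intro β hβ
    rw [← MulAction.index_stabilizer]
    have hne : MulAction.stabilizer H β ≠ ⊤ := by
      intro htop
      apply hβ
      apply hfix
      intro h
      have : h ∈ MulAction.stabilizer H β := by rw [htop]; trivial
      exact this
    have := Cfsg.Agent.Lib.Helper17_Sylow.index_gt_of_not_dvd_factorial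
      (MulAction.stabilizer H β) hne 4 (by rw [hH]; decide)
    omega
  have horbsub : ∀ β : G ⧸ H, β ≠ α → MulAction.orbit H β ⊆ ({α} : Set (G ⧸ H))ᶜ := by
    intro β hβ x hx hxα
    rw [Set.mem_singleton_iff] at hxα
    obtain ⟨h, hh⟩ := hx
    have hh' : h • β = x := hh
    apply hβ
    have : h⁻¹ • (h • β) = h⁻¹ • α := by rw [hh', hxα]
    rw [inv_smul_smul, hHα] at this
    exact this
  have hcompl : (({α} : Set (G ⧸ H))ᶜ).ncard = 10 := by
    rw [Set.ncard_compl, Set.ncard_singleton, hΩ]
  -- the involution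
  obtain ⟨t, ht⟩ := exists_prime_orderOf_dvd_card' (G := G) 2 (by rw [hG]; norm_num)
  have ht1 : t ≠ 1 := by
    intro h; rw [h, orderOf_one] at ht; omega
  have htt : t * t = 1 := by
    rw [← sq, ← ht, pow_orderOf_eq_one]
  have hHtop : H ≠ ⊤ := by
    intro h; rw [h, Subgroup.card_top, hG] at hH; omega
  obtain ⟨x, hx⟩ : ∃ x : G ⧸ H, t • x ≠ x := by
    by_contra hcon
    push Not at hcon
    apply ht1
    apply Cfsg.Agent.Lib.Helper17_Sylow.toPermHom_injective_of_ne_top H hHtop
    ext y
    simp [hcon y]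
  obtain ⟨g, hg⟩ := MulAction.exists_smul_eq G x α
  set δ : G ⧸ H := g • t • x with hδ
  have hδα : α ≠ δ := by
    intro h
    apply hx
    rw [hδ, ← hg] at h
    exact (smul_left_cancel g h).symm
  set t' : G := g * t * g⁻¹ with ht'
  have h1 : t' • α = δ := by
    rw [ht', ← hg, hδ]
    simp [mul_smul]
  have h2 : t' • δ = α := by
    rw [ht', hδ, ← hg]
    simp only [mul_smul, inv_smul_smul]
    rw [← mul_smul t t, htt, one_smul]
  have heven := even_orbit_pair (G := G) α δ t' h1 h2 hδα
  -- relate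
  have hrel : (MulAction.orbit G ((α, δ) : (G ⧸ H) × (G ⧸ H))).ncard
      = 11 * (MulAction.orbit H δ).ncard := by
    rw [← MulAction.index_stabilizer, ← MulAction.index_stabilizer]
    have e1 := (MulAction.stabilizer G ((α, δ) : (G ⧸ H) × (G ⧸ H))).index_mul_card
    have e2 := (MulAction.stabilizer H δ).index_mul_card
    rw [card_stab_pair H δ, hH] at e2
    rw [hG] at e1
    have hpos : 0 < Nat.card (MulAction.stabilizer G ((α, δ) : (G ⧸ H) × (G ⧸ H))) :=
      Nat.card_pos
    have : (MulAction.stabilizer G ((α, δ) : (G ⧸ H) × (G ⧸ H))).index *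
        Nat.card (MulAction.stabilizer G ((α, δ) : (G ⧸ H) × (G ⧸ H))) =
        (11 * (MulAction.stabilizer H δ).index) *
        Nat.card (MulAction.stabilizer G ((α, δ) : (G ⧸ H) × (G ⧸ H))) := by
      rw [e1, mul_assoc, e2]
      norm_num
    exact Nat.eq_of_mul_eq_mul_right hpos this
  have hevenδ : Even (MulAction.orbit H δ).ncard := by
    rw [hrel] at heven
    rcases Nat.even_mul.mp heven with h | h
    · exact absurd h (by decide)
    · exact h
  -- orbit of δ is everything
  have hall : MulAction.orbit H δ = ({α} : Set (G ⧸ H))ᶜ := by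
    by_contra hne
    have hsub := horbsub δ hδα.symm
    obtain ⟨ε, hε1, hε2⟩ : ∃ ε, ε ∈ ({α} : Set (G ⧸ H))ᶜ ∧ ε ∉ MulAction.orbit H δ := by
      by_contra hcon
      push Not at hcon
      exact hne (Set.Subset.antisymm hsub hcon)
    have hεα : ε ≠ α := by simpa using hε1
    have hdisj : Disjoint (MulAction.orbit H δ) (MulAction.orbit H ε) := by
      rw [Set.disjoint_left]
      intro y hy1 hy2
      apply hε2
      rw [← MulAction.orbit_eq_iff] at hy1 hy2 ⊢
      rw [← hy2, hy1]
    have hun : (MulAction.orbit H δ ∪ MulAction.orbit H ε).ncard ≤ 10 := by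
      rw [← hcompl]
      exact Set.ncard_le_ncard (Set.union_subset hsub (horbsub ε hεα))
    rw [Set.ncard_union_eq hdisj] at hun
    have h5a := horb δ hδα.symm
    have h5b := horb ε hεα
    have h5 : (MulAction.orbit H δ).ncard = 5 := by omega
    rw [h5] at hevenδ
    exact absurd hevenδ (by decide)
  -- conclude
  rw [MulAction.is_two_pretransitive_iff]
  intro a b c d hab hcd
  obtain ⟨g1, hg1⟩ := MulAction.exists_smul_eq G a α
  obtain ⟨g2, hg2⟩ := MulAction.exists_smul_eq G c α
  have hb : g1 • b ∈ MulAction.orbit H δ := by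
    rw [hall]
    simp only [Set.mem_compl_iff, Set.mem_singleton_iff]
    intro h
    rw [← hg1] at h
    exact hab (smul_left_cancel g1 h).symm
  have hd : g2 • d ∈ MulAction.orbit H δ := by
    rw [hall]
    simp only [Set.mem_compl_iff, Set.mem_singleton_iff]
    intro h
    rw [← hg2] at h
    exact hcd (smul_left_cancel g2 h).symm
  rw [← MulAction.orbit_eq_iff] at hb hd
  have hbd : g2 • d ∈ MulAction.orbit H (g1 • b) :=
    MulAction.orbit_eq_iff.mp (hd.trans hb.symm)
  obtain ⟨h, hh⟩ := hbd
  refine ⟨g2⁻¹ * h * g1, ?_, ?_⟩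
  · rw [mul_smul, mul_smul, hg1]
    have : (h : G) • α = α := hHα h
    rw [this, ← hg2, inv_smul_smul]
  · rw [mul_smul, mul_smul]
    have : (h : G) • g1 • b = g2 • d := hh
    rw [this, inv_smul_smul]


theorem card_PSL2_eleven {F : Type*} [Field F] [Fintype F] (hF : Fintype.card F = 11) :
    Nat.card (Matrix.ProjectiveSpecialLinearGroup (Fin 2) F) = 660 := by
  have h1 := Cfsg.Agent.Lib.Helper5_PSLCard.card_PSL_mul (F := F) 2 (by norm_num)
  rw [Cfsg.Agent.Lib.Helper5_PSLCard.card_SL_two, hF] at h1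
  norm_num at h1
  omega

/-- Let F be a field with 11 elements. PSL_2(F) has a subgroup H of index 11 isomorphic to the alternating group A_5, and the action of PSL_2(F) on the cosets of H is 2-transitive (of degree 11). -/
theorem result {F : Type*} [Field F] [Fintype F] (hF : Fintype.card F = 11) : ∃ H : Subgroup (Matrix.ProjectiveSpecialLinearGroup (Fin 2) F), H.index = 11 ∧ Nonempty (H ≃* alternatingGroup (Fin 5)) ∧ MulAction.IsMultiplyPretransitive (Matrix.ProjectiveSpecialLinearGroup (Fin 2) F) ((Matrix.ProjectiveSpecialLinearGroup (Fin 2) F) ⧸ H) 2 := by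
  classical
  obtain ⟨H, ⟨e⟩⟩ := (Cfsg.Agent.S0804.result hF).mpr (by norm_num)
  have hG := card_PSL2_eleven hF
  have : IsSimpleGroup (Matrix.ProjectiveSpecialLinearGroup (Fin 2) F) :=
    Matrix.ProjectiveSpecialLinearGroup.rank_two_simple (by rw [Nat.card_eq_fintype_card]; omega)
  have hH : Nat.card H = 60 := by
    rw [Nat.card_congr e.toEquiv, nat_card_alternatingGroup]
    simp [Nat.factorial]
  have : IsSimpleGroup (alternatingGroup (Fin 5)) := alternatingGroup.isSimpleGroup_five
  have : IsSimpleGroup H := e.isSimpleGroup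
  have : Finite (Matrix.ProjectiveSpecialLinearGroup (Fin 2) F) :=
    Nat.finite_of_card_ne_zero (by rw [hG]; norm_num)
  refine ⟨H, ?_, ⟨e⟩, two_trans hG H hH⟩
  have := H.index_mul_card
  rw [hH, hG] at this
  omega

end Cfsg.Agent.S2542
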