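import Cfsg.Statements.S0382
import Cfsg.Agent.S0364
import Cfsg.Agent.S0368
import Cfsg.Agent.Lib.Helper26_M24Act

set_option autoImplicit false
open scoped Pointwise
open Cfsg
open Cfsg.Agent.Lib.Helper26_Golay

namespace Cfsg.Agent.S0382

theorem orbit_eq (d : Finset GolayPt) (hd : d ∈ dodecads) :
    MulAction.orbit M24 d = dodecads := by
  ext d'
  constructor
  · rintro ⟨g, rfl⟩
    exact smul_mem_dodecads g.2 hd
  · intro hd'
    obtain ⟨g, hg⟩ := Cfsg.Agent.S0368.result d d' hd hd'
    exact ⟨g, hg⟩

/-- A dodecad stabiliser in the group of the length-24 code has order 95040 = 2^6·3^3·5·11. -/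
theorem result (d : Finset Cfsg.GolayPt) (hd : d ∈ Cfsg.dodecads) : Nat.card (MulAction.stabilizer Cfsg.M24 d) = 95040 := by
  have h1 : (MulAction.stabilizer M24 d).index = 2576 := by
    rw [MulAction.index_stabilizer, orbit_eq d hd, dodecads_ncard]
  have h2 := Subgroup.card_mul_index (MulAction.stabilizer M24 d)
  rw [h1, Cfsg.Agent.S0364.result] at h2
  omega

end Cfsg.Agent.S0382
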