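import Cfsg.Statements.S0376
import Cfsg.Agent.S0364

set_option autoImplicit false
open Cfsg

namespace Cfsg.Agent.S0376

theorem card_golayPt : Nat.card GolayPt = 24 := by
  rw [Nat.card_eq_fintype_card]; decide

/-- A point stabiliser in the group of the length-24 code has order 10200960 = 2^7·3^2·5·7·11·23. -/
theorem result (p : Cfsg.GolayPt) : Nat.card (MulAction.stabilizer Cfsg.M24 p) = 10200960 := by
  have h5 := Cfsg.Agent.S0366.result
  have h1 : MulAction.IsMultiplyPretransitive M24 GolayPt 1 :=
    MulAction.isMultiplyPretransitive_of_le (n := 5) (by norm_num) (by rw [card_golayPt]; norm_num)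
  have ht : MulAction.IsPretransitive M24 GolayPt := MulAction.is_one_pretransitive_iff.mp h1
  have hidx : (MulAction.stabilizer M24 p).index = 24 := by
    rw [MulAction.index_stabilizer_of_transitive, card_golayPt]
  have h := Subgroup.card_mul_index (MulAction.stabilizer M24 p)
  rw [hidx, Cfsg.Agent.S0364.result] at h
  omega

end Cfsg.Agent.S0376
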