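import Cfsg.Statements.S5076
import Cfsg.Agent.Lib.Helper85_Fusion
import Cfsg.Agent.Lib.Helper84_RelSylow

set_option autoImplicit false
open Cfsg

namespace Cfsg.Agent.S5076

open Cfsg.FusionSystem Cfsg.Agent.Lib.Helper85_Fusion Cfsg.Agent.Lib.Helper84_RelSylow

variable {G : Type*} [Group G]

/-- If conjugation by `g` restricts to an automorphism `α` of `Q`, then `g` normalizes `Q`. -/
theorem mem_normalizer_of_aut {Q : Subgroup G} (α : MulAut Q) (g : G)
    (h : ∀ x : Q, ((α x : Q) : G) = g * x * g⁻¹) : g ∈ Subgroup.normalizer (Q : Set G) := by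
  intro y
  constructor
  · intro hy
    have := h ⟨y, hy⟩
    simp only at this
    rw [← this]
    exact (α ⟨y, hy⟩).2
  · intro hy
    have h1 := h (α⁻¹ ⟨g * y * g⁻¹, hy⟩)
    rw [MulAut.apply_inv_self] at h1
    simp only at h1
    have h2 : y = ((α⁻¹ ⟨g * y * g⁻¹, hy⟩ : Q) : G) :=
      mul_left_cancel (mul_right_cancel h1)
    rw [SetLike.mem_coe, h2]
    exact (α⁻¹ ⟨g * y * g⁻¹, hy⟩).2

theorem normalizer_le_normalizer_centralizer (Q : Subgroup G) :
    Subgroup.normalizer (Q : Set G) ≤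
      Subgroup.normalizer ((Subgroup.centralizer (Q : Set G) : Subgroup G) : Set G) := by
  intro n hn
  rw [Subgroup.mem_normalizer_iff]
  have key : ∀ m ∈ Subgroup.normalizer (Q : Set G), ∀ c ∈ Subgroup.centralizer (Q : Set G),
      m * c * m⁻¹ ∈ Subgroup.centralizer (Q : Set G) := by
    intro m hm c hc
    rw [Subgroup.mem_centralizer_iff]
    intro y hy
    have hy' : m⁻¹ * y * m ∈ Q := (Subgroup.mem_normalizer_iff''.mp hm y).mp hy
    have h1 := Subgroup.mem_centralizer_iff.mp hc _ hy'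
    calc y * (m * c * m⁻¹) = m * ((m⁻¹ * y * m) * c) * m⁻¹ := by group
      _ = m * (c * (m⁻¹ * y * m)) * m⁻¹ := by rw [h1]
      _ = m * c * m⁻¹ * y := by group
  intro c
  constructor
  · exact key n hn c
  · intro hc
    have := key n⁻¹ (inv_mem hn) _ hc
    simpa [mul_assoc] using this

theorem mem_map_conj {H : Subgroup G} {g y : G} :
    y ∈ H.map (MulAut.conj g).toMonoidHom ↔ g⁻¹ * y * g ∈ H := by
  constructor
  · rintro ⟨x, hx, rfl⟩
    simpa [mul_assoc] using hx
  · intro h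
    exact ⟨g⁻¹ * y * g, h, by simp [mul_assoc]⟩

theorem conj_mem_map_conj {H : Subgroup G} {g x : G} (hx : x ∈ H) :
    g * x * g⁻¹ ∈ H.map (MulAut.conj g).toMonoidHom := ⟨x, hx, rfl⟩

/-- Choice of a conjugate `Q` of `P` inside `S` with `N_S(Q)` Sylow in `N_G(Q)`. -/
theorem exists_conj_normalizer_sylow [Finite G] {p : ℕ} [Fact p.Prime] (S : Sylow p G) {P : Subgroup G}
    (hP : P ≤ (S : Subgroup G)) :
    ∃ g : G, P.map (MulAut.conj g).toMonoidHom ≤ (S : Subgroup G) ∧
      IsSylowIn p (normalizerIn (S : Subgroup G) (P.map (MulAut.conj g).toMonoidHom))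
        (Subgroup.normalizer ((P.map (MulAut.conj g).toMonoidHom : Subgroup G) : Set G)) := by
  have hPp : IsPGroup p P := S.2.to_le hP
  obtain ⟨T, hPT, hT⟩ := exists_isSylowIn_ge (H := Subgroup.normalizer (P : Set G))
    Subgroup.le_normalizer hPp
  obtain ⟨g, hg⟩ := exists_conj_le_sylow S hT.isPGroup
  have hTS : T.map (MulAut.conj g).toMonoidHom ≤ (S : Subgroup G) := by
    rintro _ ⟨x, hx, rfl⟩
    exact hg x hx
  have hQS : P.map (MulAut.conj g).toMonoidHom ≤ (S : Subgroup G) :=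
    (Subgroup.map_mono hPT).trans hTS
  refine ⟨g, hQS, ?_⟩
  have h1 := hT.conj g
  have h2 : (Subgroup.normalizer (P : Set G)).map (MulAut.conj g).toMonoidHom =
      Subgroup.normalizer ((P.map (MulAut.conj g).toMonoidHom : Subgroup G) : Set G) :=
    Subgroup.map_equiv_normalizer_eq P (MulAut.conj g)
  rw [h2] at h1
  have h3 : normalizerIn (S : Subgroup G) (P.map (MulAut.conj g).toMonoidHom) =
      T.map (MulAut.conj g).toMonoidHom :=
    h1.eq_of_le (le_inf hTS h1.le) inf_le_right (S.2.to_le inf_le_left)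
  rw [h3]
  exact h1

theorem normalizerMonoidHom_coe {Q : Subgroup G} (n : Subgroup.normalizer (Q : Set G)) (x : Q) :
    ((Q.normalizerMonoidHom n x : Q) : G) = n * x * (n : G)⁻¹ := rfl

/-- For the fusion system of a group, `Aut_F(Q)` is the image of `N_G(Q)`. -/
theorem range_normalizerMonoidHom_eq_autGroup {S Q : Subgroup G} (hQ : Q ≤ S) :
    Q.normalizerMonoidHom.range = (groupFusionSystem S).autGroup Q := by
  ext α
  rw [mem_autGroup_iff _ hQ]
  constructor
  · rintro ⟨n, rfl⟩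
    exact ⟨hQ, fun x => hQ (Q.normalizerMonoidHom n x).2, n, fun x => rfl⟩
  · rintro ⟨-, -, g, hg⟩
    have hgN : g ∈ Subgroup.normalizer (Q : Set G) := mem_normalizer_of_aut α g hg
    refine ⟨⟨g, hgN⟩, ?_⟩
    ext x
    rw [normalizerMonoidHom_coe]
    exact (hg x).symm

/-- If `N_S(Q)` is Sylow in `N_G(Q)`, then `Q` is fully automized in the fusion system of `G`. -/
theorem isFullyAutomized_of_isSylowIn [Finite G] {p : ℕ} [Fact p.Prime] {S Q : Subgroup G} (hQ : Q ≤ S)
    (hT : IsSylowIn p (normalizerIn S Q) (Subgroup.normalizer (Q : Set G))) :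
    (groupFusionSystem S).IsFullyAutomized p Q := by
  refine ⟨hQ, ?_⟩
  rw [← range_normalizerMonoidHom_eq_autGroup hQ]
  refine ⟨hT.toSylow.mapSurjective Q.normalizerMonoidHom.rangeRestrict_surjective, ?_⟩
  rw [Sylow.coe_mapSurjective]
  ext ⟨α, hα⟩
  rw [Subgroup.mem_subgroupOf, mem_autInducedBy_iff]
  constructor
  · rintro ⟨n, hn, hnα⟩
    have hn' : (n : G) ∈ normalizerIn S Q := (hT.mem_toSylow n).1 hn
    have hα' : Q.normalizerMonoidHom n = α := congrArg Subtype.val hnα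
    refine ⟨n, hn'.1, fun x => ?_⟩
    show ((α x : Q) : G) = _
    rw [← hα']
    rfl
  · rintro ⟨g, hgS, hg⟩
    have hgN : g ∈ Subgroup.normalizer (Q : Set G) := mem_normalizer_of_aut α g hg
    refine ⟨⟨g, hgN⟩, (hT.mem_toSylow _).2 ⟨hgS, hgN⟩, ?_⟩
    apply Subtype.ext
    show Q.normalizerMonoidHom ⟨g, hgN⟩ = α
    ext x
    rw [normalizerMonoidHom_coe]
    exact (hg x).symm

theorem extender_le {S P : Subgroup G} (φ : P →* G) : extender S P φ ≤ S := by
  unfold extender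
  rw [Subgroup.closure_le]
  intro g hg
  exact hg.1

/-- If `N_S(Q)` is Sylow in `N_G(Q)`, then `Q` is receptive in the fusion system of `G`. -/
theorem isReceptive_of_isSylowIn [Finite G] {p : ℕ} [Fact p.Prime] {S Q : Subgroup G} (hS : IsPGroup p S)
    (hQ : Q ≤ S)
    (hT : IsSylowIn p (normalizerIn S Q) (Subgroup.normalizer (Q : Set G))) :
    (groupFusionSystem S).IsReceptive Q := by
  refine ⟨hQ, ?_⟩
  rintro P φ ⟨hPS, hφS, g, hg⟩ hφQ
  -- the subgroup M = N_S(Q) C_G(Q)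
  have hTC : normalizerIn S Q ≤
      Subgroup.normalizer ((Subgroup.centralizer (Q : Set G) : Subgroup G) : Set G) :=
    inf_le_right.trans (normalizer_le_normalizer_centralizer Q)
  have hCN : Subgroup.centralizer (Q : Set G) ≤ Subgroup.normalizer (Q : Set G) :=
    Subgroup.centralizer_le_normalizer _
  have hTM : IsSylowIn p (normalizerIn S Q) (normalizerIn S Q ⊔ Subgroup.centralizer (Q : Set G)) :=
    hT.mono le_sup_left (sup_le inf_le_right hCN)
  have hφQ' : ∀ x : P, g * (x : G) * g⁻¹ ∈ Q := fun x => by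
    rw [← hg, ← hφQ]; exact ⟨x, rfl⟩
  have hQφ : ∀ y ∈ Q, ∃ x : P, y = g * (x : G) * g⁻¹ := by
    intro y hy
    rw [← hφQ] at hy
    obtain ⟨x, rfl⟩ := hy
    exact ⟨x, hg x⟩
  -- the conjugate of `N_φ` lies in `M`
  have hK : (extender S P φ).map (MulAut.conj g).toMonoidHom ≤
      normalizerIn S Q ⊔ Subgroup.centralizer (Q : Set G) := by
    unfold extender
    rw [MonoidHom.map_closure, Subgroup.closure_le]
    rintro _ ⟨g', ⟨hg'S, hg'N, h, hhS, hh⟩, rfl⟩
    show g * g' * g⁻¹ ∈ _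
    -- c = h⁻¹ g g' g⁻¹ centralizes Q
    have hc : h⁻¹ * (g * g' * g⁻¹) ∈ Subgroup.centralizer (Q : Set G) := by
      rw [Subgroup.mem_centralizer_iff]
      intro y hy
      obtain ⟨x, rfl⟩ := hQφ y hy
      have hx' : g' * (x : G) * g'⁻¹ ∈ P := (hg'N x).mp x.2
      have h1 := hh x hx'
      rw [hg, hg] at h1
      simp only at h1
      have h2 : g * (g' * (x : G) * g'⁻¹) * g⁻¹ = h * (g * x * g⁻¹) * h⁻¹ := h1
      calc g * (x : G) * g⁻¹ * (h⁻¹ * (g * g' * g⁻¹))
          = h⁻¹ * (h * (g * x * g⁻¹) * h⁻¹) * (g * g' * g⁻¹) := by group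
        _ = h⁻¹ * (g * (g' * (x : G) * g'⁻¹) * g⁻¹) * (g * g' * g⁻¹) := by rw [h2]
        _ = h⁻¹ * (g * g' * g⁻¹) * (g * x * g⁻¹) := by group
    -- g g' g⁻¹ normalizes Q
    have hn : g * g' * g⁻¹ ∈ Subgroup.normalizer (Q : Set G) := by
      have h1 : g * g' * g⁻¹ ∈ (Subgroup.normalizer (P : Set G)).map (MulAut.conj g).toMonoidHom :=
        conj_mem_map_conj hg'N
      have h2 : (Subgroup.normalizer (P : Set G)).map (MulAut.conj g).toMonoidHom =
          Subgroup.normalizer ((P.map (MulAut.conj g).toMonoidHom : Subgroup G) : Set G) :=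
        Subgroup.map_equiv_normalizer_eq P (MulAut.conj g)
      have h3 : P.map (MulAut.conj g).toMonoidHom = Q := by
        apply le_antisymm
        · rintro _ ⟨x, hx, rfl⟩
          exact hφQ' ⟨x, hx⟩
        · intro y hy
          obtain ⟨x, rfl⟩ := hQφ y hy
          exact ⟨x, x.2, rfl⟩
      rw [h2, h3] at h1
      exact h1
    have hhN : h ∈ normalizerIn S Q := by
      refine ⟨hhS, ?_⟩
      have : h = (g * g' * g⁻¹) * (h⁻¹ * (g * g' * g⁻¹))⁻¹ := by group
      rw [this]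
      exact Subgroup.mul_mem _ hn (Subgroup.inv_mem _ (hCN hc))
    have : g * g' * g⁻¹ = h * (h⁻¹ * (g * g' * g⁻¹)) := by group
    rw [this]
    exact Subgroup.mul_mem _ (Subgroup.mem_sup_left hhN) (Subgroup.mem_sup_right hc)
  have hNS : extender S P φ ≤ S := extender_le φ
  have hKp : IsPGroup p ((extender S P φ).map (MulAut.conj g).toMonoidHom) :=
    (hS.to_le hNS).map _
  obtain ⟨m, hm, hmK⟩ := hTM.exists_conj_le hK hKp
  -- decompose m = t * c
  have hm' : m ∈ ((normalizerIn S Q ⊔ Subgroup.centralizer (Q : Set G) : Subgroup G) : Set G) := hm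
  rw [Subgroup.coe_mul_of_left_le_normalizer_right _ _ hTC] at hm'
  obtain ⟨t, ht, c, hc, rfl⟩ := hm'
  have hcK : ∀ x ∈ extender S P φ, c * g * x * (c * g)⁻¹ ∈ normalizerIn S Q := by
    intro x hx
    have h1 := hmK _ (conj_mem_map_conj (g := g) hx)
    have h2 : c * g * x * (c * g)⁻¹ = t⁻¹ * (t * c * (g * x * g⁻¹) * (t * c)⁻¹) * t := by group
    rw [h2]
    exact Subgroup.mul_mem _ (Subgroup.mul_mem _ (Subgroup.inv_mem _ ht) h1) ht
  refine ⟨conjHom (extender S P φ) (c * g), ⟨hNS, fun x => (hcK x x.2).1, c * g, fun x => rfl⟩, ?_⟩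
  intro x hxP hxN
  show c * g * x * (c * g)⁻¹ = φ ⟨x, hxP⟩
  rw [hg]
  have h1 := Subgroup.mem_centralizer_iff.mp hc _ (hφQ' ⟨x, hxP⟩)
  simp only at h1
  calc c * g * x * (c * g)⁻¹ = c * (g * x * g⁻¹) * c⁻¹ := by group
    _ = g * x * g⁻¹ * c * c⁻¹ := by rw [h1]
    _ = g * x * g⁻¹ := by group

/-- The fusion system of a finite group on a Sylow p-subgroup is saturated: every subgroup of the Sylow subgroup is conjugate in the system to one that is fully automized and receptive. -/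
theorem result {G : Type*} [Group G] [Finite G] (p : ℕ) [Fact p.Prime] (S : Sylow p G) : (Cfsg.groupFusionSystem (S : Subgroup G)).IsSaturated p := by
  intro P hP
  obtain ⟨g, hQS, hT⟩ := exists_conj_normalizer_sylow S hP
  refine ⟨P.map (MulAut.conj g).toMonoidHom, ?_, isFullyAutomized_of_isSylowIn hQS hT,
    isReceptive_of_isSylowIn S.2 hQS hT⟩
  refine ⟨conjHom P g, ⟨hP, fun x => hQS (conj_mem_map_conj x.2), g, fun x => rfl⟩, ?_⟩
  ext y
  constructor
  · rintro ⟨x, rfl⟩
    exact conj_mem_map_conj x.2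
  · rintro ⟨x, hx, rfl⟩
    exact ⟨⟨x, hx⟩, rfl⟩

end Cfsg.Agent.S5076
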