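import Cfsg.Statements.S0372
import Cfsg.Agent.Lib.Helper7_M24

set_option autoImplicit false
open Cfsg

namespace Cfsg.Agent.S0372

open Cfsg.Agent.Lib.Helper7_M24

/-- The table `t ↦ -1/t` (entry `0` unused). -/
def fI : List (ZMod 23) := [0,22,11,15,17,9,19,13,20,5,16,2,21,7,18,3,10,4,14,6,8,12,1]
/-- The table: `1` at `0` and at the non-squares. -/
def cI : List (ZMod 2) := [1,0,0,0,0,1,0,1,0,0,1,1,0,0,1,1,0,1,0,1,1,1,1]

set_option maxRecDepth 100000 in
theorem projInv_table : ∀ t : ZMod 23, ∀ p : GolayPt,
    qrWord t (projInv p) =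
      qrWord 0 p + (if t = 0 then 0 else qrWord (fI.getD t.val 0) p) + cI.getD t.val 0 := by
  decide

theorem zmod2_cases (c : ZMod 2) : c = 0 ∨ c = 1 := by
  revert c; decide

theorem permWord_projInv (t : ZMod 23) : permWord projInv (qrWord t) ∈ golayCode := by
  have h : permWord projInv (qrWord t) =
      qrWord 0 + (if t = 0 then 0 else qrWord (fI.getD t.val 0)) + (cI.getD t.val 0) • 1 := by
    funext p
    have hsymm : Equiv.symm projInv = projInv := rfl
    have := projInv_table t p
    rw [permWord_apply, hsymm]
    by_cases ht : t = 0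
    · simp only [ht, if_true] at this ⊢
      simpa using this
    · simp only [ht, if_false] at this ⊢
      simpa using this
  rw [h]
  refine golayCode.add_mem (golayCode.add_mem (qrWord_mem 0) ?_) (golayCode.smul_mem _ one_mem)
  split_ifs
  · exact golayCode.zero_mem
  · exact qrWord_mem _

/-- The involution x ↦ -1/x of the projective line over ZMod 23 lies in the group of the length-24 code. -/
theorem result : Cfsg.projInv ∈ Cfsg.M24 := by
  apply mem_M24_of_gens
  exact permWord_projInv

end Cfsg.Agent.S0372
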