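import Cfsg.Statements.S0384
import Cfsg.Agent.S0382
import Cfsg.Agent.Lib.Helper7_Sets

set_option autoImplicit false
open scoped Pointwise
open Cfsg

namespace Cfsg.Agent.S0384

open Cfsg.Agent.Lib.Helper7_M24 Cfsg.Agent.Lib.Helper7_Bits Cfsg.Agent.Lib.Helper7_Perm
  Cfsg.Agent.Lib.Helper7_Code Cfsg.Agent.Lib.Helper7_Base Cfsg.Agent.Lib.Helper7_Sets

/-- Stepwise extension along a stabilizer chain inside an invariant subset. -/
theorem chain_exists_on {X : Type*} (G : Subgroup (Equiv.Perm X)) (S : Set X)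
    (hS : ∀ g ∈ G, ∀ s ∈ S, g s ∈ S) (k : ℕ) (a : Fin k ↪ X)
    (h : ∀ (j : Fin k) (p : X), p ∈ S → (∀ i, i < j → p ≠ a i) →
      ∃ g ∈ G, (∀ i, i < j → g (a i) = a i) ∧ g (a j) = p)
    (x : Fin k ↪ X) (hx : ∀ i, x i ∈ S) (j : ℕ) (hj : j ≤ k) :
    ∃ g ∈ G, ∀ i : Fin k, i.val < j → g (a i) = x i := by
  induction j with
  | zero => exact ⟨1, G.one_mem, fun i hi => absurd hi (Nat.not_lt_zero _)⟩
  | succ j ih =>
    obtain ⟨g, hg, hgx⟩ := ih (Nat.le_of_succ_le hj)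
    have hjk : j < k := hj
    obtain ⟨u, hu, hufix, hua⟩ := h ⟨j, hjk⟩ (g⁻¹ (x ⟨j, hjk⟩))
      (hS g⁻¹ (G.inv_mem hg) _ (hx _)) (by
      intro i hi heq
      have h1 : g (a i) = x i := hgx i hi
      have h2 : x ⟨j, hjk⟩ = x i := by
        rw [← h1, ← heq]; simp
      have := x.injective h2
      rw [← this] at hi
      exact lt_irrefl _ hi)
    refine ⟨g * u, G.mul_mem hg hu, fun i hi => ?_⟩
    rcases Nat.lt_succ_iff_lt_or_eq.mp hi with hi' | hi'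
    · rw [Equiv.Perm.mul_apply, hufix i hi', hgx i hi']
    · have : i = ⟨j, hjk⟩ := Fin.ext hi'
      subst this
      rw [Equiv.Perm.mul_apply, hua]; simp

/-- Mask of the standard dodecad: the squares modulo 23. -/
def d0 : ℕ := 340831

/-- Codes of the base points `0, 1, 2, 3, 4` (all in the standard dodecad). -/
def baseCodes : List ℕ := [0, 1, 2, 3, 4]

/-- For each level `j < 5` and each code `k` of a point of the standard dodecad different from the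
first `j` base points: a permutation stabilizing the dodecad, fixing the first `j` base points and
mapping base point `j` to the point with code `k`. -/
def table : List (List (List ℕ × List ℕ)) :=
[
  [([0,1,2,3,4,5,6,7,8,9,10,11,12,13,14,15,16,17,18,19,20,21,22,23],[0,1,2,3,4,5,6,7,8,9,10,11,12,13,14,15,16,17,18,19,20,21,22,23]),
   ([1,8,12,18,2,21,4,11,9,6,23,5,0,13,22,19,16,14,3,17,15,7,10,20],[12,0,4,18,6,11,9,21,1,8,22,7,2,13,17,20,16,19,3,15,23,5,14,10]),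
   ([2,16,9,13,8,23,18,14,0,1,19,15,4,12,20,10,3,21,6,5,22,17,11,7],[8,9,0,16,12,19,18,23,4,2,15,22,13,3,7,11,1,21,6,10,14,17,20,5]),
   ([3,16,12,4,0,20,13,22,1,2,19,15,9,18,11,14,8,5,6,23,17,7,21,10],[4,8,9,0,3,17,18,21,16,12,23,14,2,6,15,11,1,20,13,10,5,22,7,19]),
   ([4,8,9,0,3,17,18,21,16,12,23,14,2,6,15,11,1,20,13,10,5,22,7,19],[3,16,12,4,0,20,13,22,1,2,19,15,9,18,11,14,8,5,6,23,17,7,21,10]),
   ([],[]),
   ([6,9,1,13,0,22,4,20,12,2,19,10,16,18,23,14,8,7,3,11,17,5,21,15],[4,2,9,18,6,21,0,17,16,1,11,19,8,3,15,23,12,20,13,10,7,22,5,14]),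
   ([],[]),
   ([8,0,3,13,16,15,12,7,18,2,20,22,4,6,21,11,9,5,1,19,10,23,14,17],[1,18,9,2,12,17,13,7,0,16,20,15,6,3,22,5,4,23,8,19,10,14,11,21]),
   ([9,16,0,8,3,7,2,17,13,18,14,20,6,4,5,15,12,21,1,23,10,11,22,19],[2,18,6,4,13,14,12,5,3,0,20,21,16,8,10,15,1,7,9,23,11,17,22,19]),
   ([],[]),
   ([],[]),
   ([12,4,8,0,16,20,18,17,13,9,5,7,2,3,22,19,1,10,6,21,11,15,14,23],[3,16,12,13,1,10,18,11,2,9,17,20,0,8,22,21,4,7,6,15,5,19,14,23]),
   ([13,3,4,8,2,22,12,11,16,9,5,10,1,6,15,20,0,23,18,7,21,14,17,19],[16,12,4,1,2,10,13,19,3,9,11,7,6,0,21,14,8,22,18,23,15,20,5,17]),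
   ([],[]),
   ([],[]),
   ([16,1,13,12,8,14,3,20,9,0,10,11,2,6,22,7,4,19,18,5,21,23,17,15],[9,1,12,6,16,19,13,15,4,8,10,11,3,2,5,23,0,22,18,17,7,20,14,21]),
   ([],[]),
   ([18,1,8,0,2,19,9,11,3,6,23,15,12,16,10,17,4,20,13,22,14,5,21,7],[3,1,4,8,16,21,9,23,2,6,14,7,12,18,20,11,13,15,0,5,17,22,19,10]),
   ([],[]),
   ([],[]),
   ([],[]),
   ([],[]),
   ([],[])],
  [([],[]),
   ([0,1,2,3,4,5,6,7,8,9,10,11,12,13,14,15,16,17,18,19,20,21,22,23],[0,1,2,3,4,5,6,7,8,9,10,11,12,13,14,15,16,17,18,19,20,21,22,23]),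
   ([0,2,1,6,13,21,16,5,4,18,15,10,12,9,23,14,8,19,3,20,22,11,17,7],[0,2,1,18,8,7,3,23,16,13,11,21,12,4,15,10,6,22,9,17,19,5,20,14]),
   ([0,3,2,1,6,23,8,11,18,16,22,15,9,4,5,21,13,14,12,20,7,10,19,17],[0,3,2,1,13,14,4,20,6,12,21,7,18,16,17,11,9,23,8,22,19,15,10,5]),
   ([0,4,1,18,8,10,2,17,6,9,22,5,3,12,14,7,13,23,16,11,20,15,19,21],[0,2,6,12,1,11,8,15,4,9,5,19,13,16,14,21,18,7,3,22,20,23,10,17]),
   ([],[]),
   ([0,6,8,3,4,19,2,15,1,18,11,7,12,9,20,10,13,21,16,23,14,17,5,22],[0,8,6,3,4,22,1,11,2,13,15,10,12,16,20,7,18,21,9,5,14,17,23,19]),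
   ([],[]),
   ([0,8,6,3,4,22,1,11,2,13,15,10,12,16,20,7,18,21,9,5,14,17,23,19],[0,6,8,3,4,19,2,15,1,18,11,7,12,9,20,10,13,21,16,23,14,17,5,22]),
   ([0,9,1,13,12,23,16,22,2,6,10,19,18,3,21,7,8,11,4,17,14,15,20,5],[0,2,8,13,18,23,9,15,16,1,10,17,4,3,20,21,6,19,12,11,22,14,7,5]),
   ([],[]),
   ([],[]),
   ([0,12,8,18,13,22,1,17,4,2,20,11,6,16,19,7,9,5,3,14,21,10,23,15],[0,6,9,18,8,17,12,15,2,16,21,11,1,4,19,23,13,7,3,14,10,20,5,22]),
   ([0,13,1,2,16,11,6,22,9,12,23,15,4,18,19,7,8,10,3,17,20,21,5,14],[0,2,3,18,12,22,6,15,16,8,17,5,9,1,23,11,4,19,13,14,20,21,7,10]),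
   ([],[]),
   ([],[]),
   ([0,16,4,1,18,14,13,15,9,2,20,22,12,6,17,10,8,7,3,11,21,5,23,19],[0,3,9,18,2,21,13,17,16,8,15,19,12,6,5,7,1,14,4,23,10,20,11,22]),
   ([],[]),
   ([0,18,8,12,16,19,13,21,1,6,10,17,3,9,5,11,2,15,4,23,14,7,20,22],[0,8,16,12,18,14,9,21,2,13,10,15,3,6,20,17,4,11,1,5,22,7,23,19]),
   ([],[]),
   ([],[]),
   ([],[]),
   ([],[]),
   ([],[])],
  [([],[]),
   ([],[]),
   ([0,1,2,3,4,5,6,7,8,9,10,11,12,13,14,15,16,17,18,19,20,21,22,23],[0,1,2,3,4,5,6,7,8,9,10,11,12,13,14,15,16,17,18,19,20,21,22,23]),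
   ([0,1,3,9,4,17,12,15,2,8,14,20,13,16,10,11,6,19,18,22,7,23,5,21],[0,1,8,2,4,22,16,20,9,3,14,15,6,12,10,7,13,5,18,17,11,23,19,21]),
   ([0,1,4,3,2,20,18,10,9,8,7,17,12,16,19,15,13,11,6,14,5,21,22,23],[0,1,4,3,2,20,18,10,9,8,7,17,12,16,19,15,13,11,6,14,5,21,22,23]),
   ([],[]),
   ([0,1,6,12,13,11,3,15,8,18,5,14,2,9,10,22,16,21,4,7,23,17,19,20],[0,1,12,6,18,10,2,19,8,13,14,5,3,4,11,7,16,21,9,22,23,17,15,20]),
   ([],[]),
   ([0,1,8,18,9,10,13,15,2,16,21,14,6,3,7,23,12,19,4,11,17,22,5,20],[0,1,8,13,18,22,12,14,2,4,5,19,16,6,11,7,9,20,3,17,23,10,21,15]),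
   ([0,1,9,6,12,14,3,17,8,2,23,11,4,13,5,15,18,7,16,21,20,19,22,10],[0,1,9,6,12,14,3,17,8,2,23,11,4,13,5,15,18,7,16,21,20,19,22,10]),
   ([],[]),
   ([],[]),
   ([0,1,12,6,8,21,9,7,3,4,22,17,16,2,20,14,18,10,13,19,5,15,23,11],[0,1,13,8,9,20,3,7,4,6,17,23,2,18,15,21,12,11,16,19,14,5,10,22]),
   ([0,1,13,12,6,23,4,5,18,8,15,21,2,16,7,22,9,14,3,10,11,17,19,20],[0,1,12,18,6,7,4,14,9,16,19,20,3,2,17,10,13,21,8,22,23,11,15,5]),
   ([],[]),
   ([],[]),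
   ([0,1,16,6,4,11,13,21,2,9,5,19,3,12,23,17,18,14,8,10,22,7,20,15],[0,1,8,12,4,10,3,21,18,9,19,5,13,6,17,23,2,15,16,11,22,7,20,14]),
   ([],[]),
   ([0,1,18,2,9,7,13,19,12,3,5,20,4,6,22,11,8,14,16,23,10,17,21,15],[0,1,3,9,12,10,13,5,16,4,20,15,8,6,17,23,18,21,2,7,11,22,14,19]),
   ([],[]),
   ([],[]),
   ([],[]),
   ([],[]),
   ([],[])],
  [([],[]),
   ([],[]),
   ([],[]),
   ([0,1,2,3,4,5,6,7,8,9,10,11,12,13,14,15,16,17,18,19,20,21,22,23],[0,1,2,3,4,5,6,7,8,9,10,11,12,13,14,15,16,17,18,19,20,21,22,23]),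
   ([0,1,2,4,8,11,9,20,13,18,14,5,6,3,17,22,16,21,12,23,7,10,19,15],[0,1,2,13,3,11,12,20,4,6,21,5,18,8,10,23,16,14,9,22,7,17,15,19]),
   ([],[]),
   ([0,1,2,6,12,7,8,5,18,4,15,20,13,9,23,17,16,19,3,10,11,22,14,21],[0,1,2,18,9,7,3,5,6,13,19,20,4,12,22,10,16,15,8,17,11,23,21,14]),
   ([],[]),
   ([0,1,2,8,6,22,16,20,18,3,14,19,4,13,10,23,12,21,9,11,17,7,15,5],[0,1,2,9,12,23,4,21,3,18,14,19,16,13,10,22,6,20,8,11,7,17,5,15]),
   ([0,1,2,9,4,10,16,5,13,12,19,21,18,6,23,17,8,15,3,7,22,11,14,20],[0,1,2,18,4,7,13,19,16,3,5,21,9,8,22,17,6,15,12,10,23,11,20,14]),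
   ([],[]),
   ([],[]),
   ([0,1,2,12,18,20,4,11,9,3,23,7,8,6,19,14,16,22,13,21,5,15,10,17],[0,1,2,9,6,20,13,11,12,8,22,7,3,18,15,21,16,23,4,14,5,19,17,10]),
   ([0,1,2,13,3,11,12,20,4,6,21,5,18,8,10,23,16,14,9,22,7,17,15,19],[0,1,2,4,8,11,9,20,13,18,14,5,6,3,17,22,16,21,12,23,7,10,19,15]),
   ([],[]),
   ([],[]),
   ([0,1,2,16,12,11,3,14,4,8,21,19,9,6,7,22,13,20,18,23,10,17,15,5],[0,1,2,6,8,23,13,14,9,12,20,5,4,16,7,22,3,21,18,11,17,10,15,19]),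
   ([],[]),
   ([0,1,2,18,4,7,13,19,16,3,5,21,9,8,22,17,6,15,12,10,23,11,20,14],[0,1,2,9,4,10,16,5,13,12,19,21,18,6,23,17,8,15,3,7,22,11,14,20]),
   ([],[]),
   ([],[]),
   ([],[]),
   ([],[]),
   ([],[])],
  [([],[]),
   ([],[]),
   ([],[]),
   ([],[]),
   ([0,1,2,3,4,5,6,7,8,9,10,11,12,13,14,15,16,17,18,19,20,21,22,23],[0,1,2,3,4,5,6,7,8,9,10,11,12,13,14,15,16,17,18,19,20,21,22,23]),
   ([],[]),
   ([0,1,2,3,6,14,12,22,13,4,11,7,9,16,5,21,18,23,8,20,15,19,10,17],[0,1,2,3,9,14,4,11,18,12,22,10,6,8,5,20,13,23,16,21,19,15,7,17]),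
   ([],[]),
   ([0,1,2,3,8,17,18,15,12,13,19,21,16,6,23,10,4,5,9,7,11,22,20,14],[0,1,2,3,16,17,13,19,4,18,15,20,8,9,23,7,12,5,6,10,22,11,21,14]),
   ([0,1,2,3,9,14,4,11,18,12,22,10,6,8,5,20,13,23,16,21,19,15,7,17],[0,1,2,3,6,14,12,22,13,4,11,7,9,16,5,21,18,23,8,20,15,19,10,17]),
   ([],[]),
   ([],[]),
   ([0,1,2,3,12,5,9,10,16,6,7,22,4,18,14,19,8,17,13,15,21,20,11,23],[0,1,2,3,12,5,9,10,16,6,7,22,4,18,14,19,8,17,13,15,21,20,11,23]),
   ([0,1,2,3,13,23,8,21,9,16,20,19,18,12,17,11,6,14,4,22,7,10,15,5],[0,1,2,3,18,23,16,20,6,8,21,15,13,4,17,22,9,14,12,11,10,7,19,5]),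
   ([],[]),
   ([],[]),
   ([0,1,2,3,16,17,13,19,4,18,15,20,8,9,23,7,12,5,6,10,22,11,21,14],[0,1,2,3,8,17,18,15,12,13,19,21,16,6,23,10,4,5,9,7,11,22,20,14]),
   ([],[]),
   ([0,1,2,3,18,23,16,20,6,8,21,15,13,4,17,22,9,14,12,11,10,7,19,5],[0,1,2,3,13,23,8,21,9,16,20,19,18,12,17,11,6,14,4,22,7,10,15,5]),
   ([],[]),
   ([],[]),
   ([],[]),
   ([],[]),
   ([],[])]]

/-- The test for one table entry. -/
def goodEntry (j k : ℕ) (e : List ℕ × List ℕ) : Bool :=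
  checkM24 e.1 e.2 && (applyMask e.2 d0 == d0) &&
    ((List.range j).all fun i => e.1.getD (baseCodes.getD i 0) 0 == baseCodes.getD i 0) &&
    (e.1.getD (baseCodes.getD j 0) 0 == k)

/-- The test for the whole table. -/
def checkTable : Bool :=
  (List.range 5).all fun j => (List.range 24).all fun k =>
    !(d0.testBit k) || (baseCodes.take j).contains k ||
      goodEntry j k ((table.getD j []).getD k ([], []))

theorem checkTable_true : checkTable = true := by decide +kernel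

/-- The base points as an embedding. -/
def baseEmb : Fin 5 ↪ GolayPt where
  toFun i := dec (baseCodes.getD i.val 0)
  inj' := by decide

theorem enc_baseEmb (i : Fin 5) : enc (baseEmb i) = baseCodes.getD i.val 0 := by
  revert i; decide

/-- The stabilizer of the standard dodecad in `M24`, as a group of permutations. -/
abbrev G0 : Subgroup (Equiv.Perm GolayPt) :=
  M24 ⊓ MulAction.stabilizer (Equiv.Perm GolayPt) (maskSet d0)

theorem chain_G0 (j : Fin 5) (p : GolayPt) (hpd : p ∈ (maskSet d0 : Set GolayPt))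
    (hp : ∀ i, i < j → p ≠ baseEmb i) :
    ∃ g ∈ G0, (∀ i, i < j → g (baseEmb i) = baseEmb i) ∧ g (baseEmb j) = p := by
  have h := checkTable_true
  unfold checkTable at h
  rw [List.all_eq_true] at h
  have h1 := h j.val (List.mem_range.mpr j.isLt)
  rw [List.all_eq_true] at h1
  have h2 := h1 (enc p) (List.mem_range.mpr (enc_lt p))
  rw [Bool.or_eq_true, Bool.or_eq_true] at h2
  rcases h2 with (h2 | h2) | h2
  · exfalso
    rw [Finset.mem_coe, mem_maskSet] at hpd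
    rw [hpd] at h2
    exact Bool.false_ne_true h2
  · exfalso
    rw [List.contains_iff_mem, List.mem_take_iff_getElem] at h2
    obtain ⟨i, hi, hi2⟩ := h2
    have hij : i < j.val := (lt_min_iff.mp hi).1
    have hi5 : i < 5 := lt_trans hij j.isLt
    apply hp ⟨i, hi5⟩ hij
    apply enc_injective
    rw [enc_baseEmb, ← hi2]
    simp [List.getD_eq_getElem?_getD, List.getElem?_eq_getElem (lt_min_iff.mp hi).2]
  · unfold goodEntry at h2
    rw [Bool.and_eq_true, Bool.and_eq_true, Bool.and_eq_true, List.all_eq_true, beq_iff_eq,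
      beq_iff_eq] at h2
    obtain ⟨⟨⟨hc, hd⟩, hfix⟩, hmap⟩ := h2
    obtain ⟨g, hg, hgp, hgD⟩ := exists_smul_of_checkM24 hc
    refine ⟨g, ⟨hg, ?_⟩, fun i hi => ?_, ?_⟩
    · show g • maskSet d0 = maskSet d0
      rw [hgD, hd]
    · have := hfix i.val (List.mem_range.mpr hi)
      rw [beq_iff_eq] at this
      rw [hgp, enc_baseEmb, this, ← enc_baseEmb, dec_enc]
    · rw [hgp, enc_baseEmb, hmap, dec_enc]

theorem G0_invariant (g : Equiv.Perm GolayPt) (hg : g ∈ G0) (s : GolayPt)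
    (hs : s ∈ (maskSet d0 : Set GolayPt)) : g s ∈ (maskSet d0 : Set GolayPt) := by
  have h : g • maskSet d0 = maskSet d0 := hg.2
  rw [Finset.mem_coe] at hs ⊢
  rw [← h]
  exact Finset.smul_mem_smul_finset hs

theorem baseEmb_mem : ∀ i : Fin 5, baseEmb i ∈ maskSet d0 := by
  intro i
  rw [mem_maskSet, enc_baseEmb]
  revert i
  decide

/-- 5-transitivity of the stabilizer of the standard dodecad on the dodecad. -/
theorem exists_map_std (x y : Fin 5 ↪ GolayPt) (hx : ∀ i, x i ∈ maskSet d0)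
    (hy : ∀ i, y i ∈ maskSet d0) : ∃ g ∈ G0, ∀ i, g (x i) = y i := by
  obtain ⟨g, hg, hgx⟩ := chain_exists_on G0 (maskSet d0 : Set GolayPt) G0_invariant 5 baseEmb
    chain_G0 x (fun i => Finset.mem_coe.mpr (hx i)) 5 le_rfl
  obtain ⟨g', hg', hgy⟩ := chain_exists_on G0 (maskSet d0 : Set GolayPt) G0_invariant 5 baseEmb
    chain_G0 y (fun i => Finset.mem_coe.mpr (hy i)) 5 le_rfl
  refine ⟨g' * g⁻¹, G0.mul_mem hg' (G0.inv_mem hg), fun i => ?_⟩
  rw [← hgx i i.isLt, ← hgy i i.isLt]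
  simp

theorem d0_mem : maskSet d0 ∈ dodecads := by
  rw [Cfsg.Agent.Lib.Helper26_Golay.mem_dodecads_iff, enc_maskSet d0 (by norm_num [d0])]
  decide +kernel

/-- 5-transitivity of a dodecad stabilizer on the dodecad. -/
theorem exists_map (d : Finset GolayPt) (hd : d ∈ dodecads) (x y : Fin 5 ↪ GolayPt)
    (hx : ∀ i, x i ∈ d) (hy : ∀ i, y i ∈ d) :
    ∃ g : Equiv.Perm GolayPt, g ∈ M24 ∧ g • d = d ∧ ∀ i, g (x i) = y i := by
  obtain ⟨u, hu⟩ := Cfsg.Agent.S0368.result (maskSet d0) d d0_mem hd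
  have hud : (u : Equiv.Perm GolayPt) • maskSet d0 = d := hu
  have hmem : ∀ p, p ∈ d → (u : Equiv.Perm GolayPt)⁻¹ p ∈ maskSet d0 := by
    intro p hp
    rw [← hud, Finset.mem_smul_finset] at hp
    obtain ⟨q, hq, rfl⟩ := hp
    show (u : Equiv.Perm GolayPt)⁻¹ ((u : Equiv.Perm GolayPt) q) ∈ maskSet d0
    simpa using hq
  let x' : Fin 5 ↪ GolayPt := x.trans ((u : Equiv.Perm GolayPt)⁻¹).toEmbedding
  let y' : Fin 5 ↪ GolayPt := y.trans ((u : Equiv.Perm GolayPt)⁻¹).toEmbedding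
  obtain ⟨g, hg, hgxy⟩ := exists_map_std x' y' (fun i => hmem _ (hx i)) (fun i => hmem _ (hy i))
  refine ⟨(u : Equiv.Perm GolayPt) * g * (u : Equiv.Perm GolayPt)⁻¹,
    M24.mul_mem (M24.mul_mem u.2 hg.1) (M24.inv_mem u.2), ?_, fun i => ?_⟩
  · have hg2 : g • maskSet d0 = maskSet d0 := hg.2
    rw [mul_smul, mul_smul, ← hud, inv_smul_smul, hg2]
  · have := hgxy i
    show (u : Equiv.Perm GolayPt) (g ((u : Equiv.Perm GolayPt)⁻¹ (x i))) = y i
    have h1 : g ((u : Equiv.Perm GolayPt)⁻¹ (x i)) = (u : Equiv.Perm GolayPt)⁻¹ (y i) := this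
    rw [h1]
    simp

/-- The number of 5-tuples of distinct points of a 12-element set. -/
theorem ncard_tuples (d : Finset GolayPt) (hd : d.card = 12) :
    {y : Fin 5 ↪ GolayPt | ∀ i, y i ∈ d}.ncard = 95040 := by
  let f : (Fin 5 ↪ {p // p ∈ d}) → (Fin 5 ↪ GolayPt) :=
    fun e => e.trans (Function.Embedding.subtype _)
  have hf : Function.Injective f := by
    intro e e' h
    apply Function.Embedding.ext
    intro i
    apply Subtype.ext
    exact congrArg (fun z : Fin 5 ↪ GolayPt => z i) h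
  have hrange : Set.range f = {y : Fin 5 ↪ GolayPt | ∀ i, y i ∈ d} := by
    ext y
    constructor
    · rintro ⟨e, rfl⟩ i
      exact (e i).2
    · intro hy
      refine ⟨⟨fun i => ⟨y i, hy i⟩, fun i j hij => y.injective (congrArg Subtype.val hij)⟩, ?_⟩
      apply Function.Embedding.ext
      intro i
      rfl
  rw [← hrange, Set.ncard_eq_toFinset_card', Set.toFinset_range,
    Finset.card_image_of_injective _ hf, Finset.card_univ, Fintype.card_embedding_eq,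
    Fintype.card_fin, Fintype.card_coe, hd]
  rfl

/-- A dodecad stabiliser is sharply 5-transitive on the dodecad. -/
theorem result (d : Finset Cfsg.GolayPt) (hd : d ∈ Cfsg.dodecads) (x y : Fin 5 ↪ Cfsg.GolayPt) (hx : ∀ i, x i ∈ d) (hy : ∀ i, y i ∈ d) : ∃! g : MulAction.stabilizer Cfsg.M24 d, ∀ i, ((g : Cfsg.M24) : Equiv.Perm Cfsg.GolayPt) (x i) = y i := by
  -- the stabilizer of the tuple `x` in the dodecad stabilizer is trivial, by counting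
  have horbit : MulAction.orbit (MulAction.stabilizer M24 d) x =
      {y : Fin 5 ↪ GolayPt | ∀ i, y i ∈ d} := by
    ext z
    constructor
    · rintro ⟨g, rfl⟩ i
      have hg : ((g : M24) : Equiv.Perm GolayPt) • d = d := g.2
      show ((g : M24) : Equiv.Perm GolayPt) (x i) ∈ d
      have hmem := Finset.smul_mem_smul_finset (a := ((g : M24) : Equiv.Perm GolayPt)) (hx i)
      rw [hg] at hmem
      exact hmem
    · intro hz
      obtain ⟨g, hg, hgd, hgx⟩ := exists_map d hd x z hx hz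
      refine ⟨⟨⟨g, hg⟩, hgd⟩, ?_⟩
      apply Function.Embedding.ext
      intro i
      exact hgx i
  have hidx : (MulAction.stabilizer (MulAction.stabilizer M24 d) x).index =
      {y : Fin 5 ↪ GolayPt | ∀ i, y i ∈ d}.ncard := by
    rw [← horbit]
    exact MulAction.index_stabilizer (MulAction.stabilizer M24 d) x
  rw [ncard_tuples d hd.2] at hidx
  have hcard := Subgroup.card_mul_index (MulAction.stabilizer (MulAction.stabilizer M24 d) x)
  rw [hidx, Cfsg.Agent.S0382.result d hd] at hcard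
  have hone : Nat.card (MulAction.stabilizer (MulAction.stabilizer M24 d) x) = 1 := by omega
  have hbot : MulAction.stabilizer (MulAction.stabilizer M24 d) x = ⊥ :=
    Subgroup.card_eq_one.mp hone
  obtain ⟨g, hg, hgd, hgx⟩ := exists_map d hd x y hx hy
  refine ⟨⟨⟨g, hg⟩, hgd⟩, hgx, ?_⟩
  intro g' hg'
  have hmem : (⟨⟨g, hg⟩, hgd⟩ : MulAction.stabilizer M24 d)⁻¹ * g' ∈
      MulAction.stabilizer (MulAction.stabilizer M24 d) x := by
    rw [MulAction.mem_stabilizer_iff]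
    apply Function.Embedding.ext
    intro i
    show g⁻¹ (((g' : M24) : Equiv.Perm GolayPt) (x i)) = x i
    rw [hg' i, ← hgx i]
    simp
  rw [hbot, Subgroup.mem_bot, inv_mul_eq_one] at hmem
  exact hmem.symm

end Cfsg.Agent.S0384
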