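import Cfsg.Statements.S0387
import Cfsg.Agent.S0382
import Cfsg.Agent.Lib.Helper91_M12

set_option autoImplicit false
open scoped Pointwise
open Cfsg
open Cfsg.Agent.Lib.Helper26_Golay
open Cfsg.Agent.Lib.Helper91_M24Stab
open Cfsg.Agent.Lib.Helper91_M12

namespace Cfsg.Agent.S0387

theorem orbit_eq (d : Finset GolayPt) (hd : d ∈ dodecads) (p : GolayPt) (hp : p ∈ d) :
    MulAction.orbit (MulAction.stabilizer M24 d) p = (d : Set GolayPt) := by
  ext q
  constructor
  · rintro ⟨h, rfl⟩
    have h1 : ((h : M24) : Equiv.Perm GolayPt) • d = d := MulAction.mem_stabilizer_iff.mp h.2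
    have h2 : ((h : M24) : Equiv.Perm GolayPt) p ∈ ((h : M24) : Equiv.Perm GolayPt) • d :=
      (mem_smul_iff _ p d).mpr hp
    rw [h1] at h2
    exact h2
  · intro hq
    obtain ⟨g, hg, hgd, hgp⟩ := exists_stab_map_in hd hp (Finset.mem_coe.mp hq)
    exact ⟨⟨⟨g, hg⟩, MulAction.mem_stabilizer_iff.mpr hgd⟩, hgp⟩

theorem card_inf_eq {G : Type*} [Group G] (H K : Subgroup G) :
    Nat.card ↥(K.subgroupOf H) = Nat.card ↥(H ⊓ K) := by
  rw [← Subgroup.inf_subgroupOf_left]
  exact Nat.card_congr (Subgroup.subgroupOfEquivOfLe inf_le_left).toEquiv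

/-- The stabiliser of a dodecad and a point on it has order 7920 = 2^4·3^2·5·11. -/
theorem result (d : Finset Cfsg.GolayPt) (hd : d ∈ Cfsg.dodecads) (p : Cfsg.GolayPt) (hp : p ∈ d) : Nat.card ↥(MulAction.stabilizer Cfsg.M24 d ⊓ MulAction.stabilizer Cfsg.M24 p) = 7920 := by
  have h0 : MulAction.stabilizer (MulAction.stabilizer M24 d) p =
      (MulAction.stabilizer M24 p).subgroupOf (MulAction.stabilizer M24 d) := by
    ext x
    rfl
  have h1 : (MulAction.stabilizer (MulAction.stabilizer M24 d) p).index = 12 := by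
    rw [MulAction.index_stabilizer, orbit_eq d hd p hp, Set.ncard_coe_finset, hd.2]
  have h2 := Subgroup.card_mul_index (MulAction.stabilizer (MulAction.stabilizer M24 d) p)
  rw [h1, Cfsg.Agent.S0382.result d hd, h0, card_inf_eq] at h2
  omega

end Cfsg.Agent.S0387
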