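import Cfsg.Statements.S0388
import Cfsg.Agent.S0384
import Cfsg.Agent.S0367
import Cfsg.Agent.S0387
import Cfsg.Agent.Lib.Helper7_Simple

set_option autoImplicit false
open scoped Pointwise
open Cfsg

namespace Cfsg.Agent.S0388

open MulAction Cfsg.Agent.Lib.Helper7_Simple

/-- `k`-transitivity (`k ≤ 5`) of a dodecad stabiliser on the dodecad. -/
theorem exists_map_le (d : Finset GolayPt) (hd : d ∈ dodecads) (k : ℕ) (hk : k ≤ 5)
    (x y : Fin k ↪ GolayPt) (hx : ∀ i, x i ∈ d) (hy : ∀ i, y i ∈ d) :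
    ∃ g : Equiv.Perm GolayPt, g ∈ M24 ∧ g • d = d ∧ ∀ i, g (x i) = y i := by
  have hcard : 5 ≤ Nat.card {q // q ∈ d} := by
    rw [Nat.card_eq_fintype_card, Fintype.card_coe, hd.2]; norm_num
  let x' : Fin k ↪ {q // q ∈ d} :=
    ⟨fun i => ⟨x i, hx i⟩, fun i j hij => x.injective (congrArg Subtype.val hij)⟩
  let y' : Fin k ↪ {q // q ∈ d} :=
    ⟨fun i => ⟨y i, hy i⟩, fun i j hij => y.injective (congrArg Subtype.val hij)⟩
  obtain ⟨x5, hx5⟩ := Fin.Embedding.restrictSurjective_of_le_natCard hk hcard x'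
  obtain ⟨y5, hy5⟩ := Fin.Embedding.restrictSurjective_of_le_natCard hk hcard y'
  obtain ⟨g, hg, hgd, hgx⟩ := Cfsg.Agent.S0384.exists_map d hd
    (x5.trans (Function.Embedding.subtype _)) (y5.trans (Function.Embedding.subtype _))
    (fun i => (x5 i).2) (fun i => (y5 i).2)
  refine ⟨g, hg, hgd, fun i => ?_⟩
  have h1 : (x5 (Fin.castLE hk i) : GolayPt) = x i := by
    have := congrArg (fun z : Fin k ↪ {q // q ∈ d} => (z i : GolayPt)) hx5
    exact this
  have h2 : (y5 (Fin.castLE hk i) : GolayPt) = y i := by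
    have := congrArg (fun z : Fin k ↪ {q // q ∈ d} => (z i : GolayPt)) hy5
    exact this
  rw [← h1, ← h2]
  exact hgx (Fin.castLE hk i)

variable (d : Finset GolayPt) (p : GolayPt)

/-- The stabiliser of a dodecad and a point of it. -/
abbrev M11 : Subgroup M24 := stabilizer M24 d ⊓ stabilizer M24 p

/-- The other 11 points of the dodecad. -/
abbrev Pts : Type := {q : GolayPt // q ∈ d ∧ q ≠ p}

theorem smul_mem (g : M11 d p) (q : Pts d p) :
    ((g : M24) : Equiv.Perm GolayPt) q ∈ d ∧ ((g : M24) : Equiv.Perm GolayPt) q ≠ p := by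
  have hgd : ((g : M24) : Equiv.Perm GolayPt) • d = d := g.2.1
  have hgp : ((g : M24) : Equiv.Perm GolayPt) p = p := g.2.2
  constructor
  · have := Finset.smul_mem_smul_finset (a := ((g : M24) : Equiv.Perm GolayPt)) q.2.1
    rw [hgd] at this
    exact this
  · intro h
    have h2 : ((g : M24) : Equiv.Perm GolayPt) q = ((g : M24) : Equiv.Perm GolayPt) p :=
      h.trans hgp.symm
    exact q.2.2 (((g : M24) : Equiv.Perm GolayPt).injective h2)

/-- The action on the other 11 points. -/
instance actionPts : MulAction (M11 d p) (Pts d p) where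
  smul g q := ⟨((g : M24) : Equiv.Perm GolayPt) q, smul_mem d p g q⟩
  one_smul q := Subtype.ext rfl
  mul_smul g h q := Subtype.ext rfl

theorem smul_val (g : M11 d p) (q : Pts d p) :
    ((g • q : Pts d p) : GolayPt) = ((g : M24) : Equiv.Perm GolayPt) q := rfl

theorem card_pts (hd : d ∈ dodecads) (hp : p ∈ d) : Nat.card (Pts d p) = 11 := by
  rw [Nat.card_eq_fintype_card, Fintype.card_subtype]
  have : (Finset.univ.filter fun q : GolayPt => q ∈ d ∧ q ≠ p) = d.erase p := by
    ext q
    simp [and_comm]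
  rw [this, Finset.card_erase_of_mem hp, hd.2]

theorem faithful (hd : d ∈ dodecads) (hp : p ∈ d) : FaithfulSMul (M11 d p) (Pts d p) where
  eq_of_smul_eq_smul := by
    intro g h hgh
    -- `g` and `h` agree on every point of the dodecad
    have hagree : ∀ q ∈ d, ((g : M24) : Equiv.Perm GolayPt) q = ((h : M24) : Equiv.Perm GolayPt) q := by
      intro q hq
      by_cases hqp : q = p
      · rw [hqp]
        have hg : ((g : M24) : Equiv.Perm GolayPt) p = p := g.2.2
        have hh : ((h : M24) : Equiv.Perm GolayPt) p = p := h.2.2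
        rw [hg, hh]
      · exact congrArg Subtype.val (hgh ⟨q, hq, hqp⟩)
    -- choose five points of the dodecad and use sharpness
    obtain ⟨x, hx⟩ := Cfsg.Agent.S0367.exists_emb_of_card d (by rw [hd.2]; norm_num)
    have hgd : ((g : M24) : Equiv.Perm GolayPt) • d = d := g.2.1
    let y : Fin 5 ↪ GolayPt := x.trans ((g : M24) : Equiv.Perm GolayPt).toEmbedding
    have hy : ∀ i, y i ∈ d := by
      intro i
      have := Finset.smul_mem_smul_finset (a := ((g : M24) : Equiv.Perm GolayPt)) (hx i)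
      rw [hgd] at this
      exact this
    obtain ⟨u, _, huniq⟩ := Cfsg.Agent.S0384.result d hd x y hx hy
    have h1 := huniq ⟨(g : M24), g.2.1⟩ (fun i => rfl)
    have h2 := huniq ⟨(h : M24), h.2.1⟩ (fun i => (hagree (x i) (hx i)).symm)
    have h3 : (⟨(g : M24), g.2.1⟩ : stabilizer M24 d) = ⟨(h : M24), h.2.1⟩ := h1.trans h2.symm
    have h4 : (g : M24) = (h : M24) :=
      congrArg (fun z : stabilizer M24 d => (z : M24)) h3
    exact Subtype.ext h4

theorem transitive (hd : d ∈ dodecads) (hp : p ∈ d) : IsPretransitive (M11 d p) (Pts d p) where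
  exists_smul_eq := by
    intro q q'
    have hne : ∀ r : Pts d p, ∀ i j : Fin 2, ![p, (r : GolayPt)] i = ![p, (r : GolayPt)] j → i = j := by
      intro r i j hij
      fin_cases i <;> fin_cases j <;> simp at hij ⊢
      · exact absurd hij.symm r.2.2
      · exact absurd hij r.2.2
    let x : Fin 2 ↪ GolayPt := ⟨![p, (q : GolayPt)], fun i j hij => hne q i j hij⟩
    let y : Fin 2 ↪ GolayPt := ⟨![p, (q' : GolayPt)], fun i j hij => hne q' i j hij⟩
    have hx : ∀ i, x i ∈ d := by
      intro i; fin_cases i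
      · exact hp
      · exact q.2.1
    have hy : ∀ i, y i ∈ d := by
      intro i; fin_cases i
      · exact hp
      · exact q'.2.1
    obtain ⟨g, hg, hgd, hgx⟩ := exists_map_le d hd 2 (by norm_num) x y hx hy
    have hgp : g p = p := hgx 0
    have hgq : g q = q' := hgx 1
    refine ⟨⟨⟨g, hg⟩, ⟨hgd, hgp⟩⟩, Subtype.ext hgq⟩

theorem fact11 : Fact (Nat.Prime 11) := ⟨by norm_num⟩

attribute [local instance] fact11

theorem arith (k n : ℕ) (hk : k ∣ 11 - 1) (h : n * (11 * k) = 11 * 720) (hn : n % 11 = 1) :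
    k = 5 := by
  have hk10 : k ≤ 10 := Nat.le_of_dvd (by norm_num) hk
  have hk0 : 0 < k := Nat.pos_of_dvd_of_pos hk (by norm_num)
  interval_cases k <;> omega

/-- The stabiliser of a dodecad and a point on it is simple. -/
theorem result (d : Finset Cfsg.GolayPt) (hd : d ∈ Cfsg.dodecads) (p : Cfsg.GolayPt) (hp : p ∈ d) : IsSimpleGroup ↥(MulAction.stabilizer Cfsg.M24 d ⊓ MulAction.stabilizer Cfsg.M24 p) := by
  haveI := faithful d p hd hp
  haveI := transitive d p hd hp
  have hG : Nat.card (M11 d p) = 11 * 720 := by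
    rw [Cfsg.Agent.S0387.result d hd p hp]
  exact isSimpleGroup_of_prime_degree (G := M11 d p) (α := Pts d p) (p := 11) (t := 720) (q := 5)
    (by norm_num) hG (by norm_num) (by norm_num) (card_pts d p hd hp) arith

end Cfsg.Agent.S0388
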