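import Cfsg.Statements.S0389
import Cfsg.Agent.S0388

set_option autoImplicit false
open scoped Pointwise
open Cfsg

namespace Cfsg.Agent.S0389

open Cfsg.Agent.Lib.Helper7_M24 Cfsg.Agent.Lib.Helper7_Bits Cfsg.Agent.Lib.Helper7_Perm
  Cfsg.Agent.Lib.Helper7_Code Cfsg.Agent.Lib.Helper7_Base Cfsg.Agent.Lib.Helper7_Sets
  Cfsg.Agent.S0384

/-- Codes of the base points `5, 7, 10` (outside the standard dodecad). -/
def coBase : List ℕ := [5, 7, 10]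

/-- For each level `j < 3` and each code `k` of a point outside the standard dodecad different
from the first `j` base points: a permutation stabilizing the dodecad and the point `0`, fixing
the first `j` base points and mapping base point `j` to the point with code `k`. -/
def table : List (List (List ℕ × List ℕ)) :=
[
  [([],[]),
   ([],[]),
   ([],[]),
   ([],[]),
   ([],[]),
   ([0,1,2,3,4,5,6,7,8,9,10,11,12,13,14,15,16,17,18,19,20,21,22,23],[0,1,2,3,4,5,6,7,8,9,10,11,12,13,14,15,16,17,18,19,20,21,22,23]),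
   ([],[]),
   ([0,8,4,6,3,7,18,11,1,16,15,19,12,9,17,14,2,10,13,20,22,5,23,21],[0,8,16,4,2,21,3,5,1,13,17,7,12,18,15,10,9,14,6,11,19,23,20,22]),
   ([],[]),
   ([],[]),
   ([0,6,8,18,9,10,3,21,16,2,15,7,1,13,14,23,4,11,12,19,17,20,5,22],[0,12,9,6,16,22,1,11,2,4,5,17,18,13,14,10,8,20,3,19,21,7,23,15]),
   ([0,18,8,4,2,11,3,15,6,1,10,17,13,9,5,19,16,21,12,23,7,14,22,20],[0,9,4,6,3,14,8,20,2,13,10,5,18,12,21,7,16,11,1,15,23,17,22,19]),
   ([],[]),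
   ([],[]),
   ([0,2,18,1,9,14,16,5,8,6,19,10,4,3,22,11,12,7,13,23,20,21,17,15],[0,3,1,13,12,7,9,17,8,4,11,15,16,18,5,23,6,22,2,10,20,21,14,19]),
   ([0,1,6,4,13,15,9,7,16,12,11,17,18,8,19,21,3,22,2,5,20,14,23,10],[0,1,18,16,3,19,2,7,13,6,23,10,9,4,21,5,8,11,12,14,20,15,17,22]),
   ([],[]),
   ([0,8,12,9,13,17,2,15,3,6,23,10,16,4,22,5,1,11,18,20,14,7,19,21],[0,16,6,8,13,15,9,21,1,3,11,17,2,4,20,7,12,5,18,22,19,23,14,10]),
   ([],[]),
   ([0,1,18,16,3,19,2,7,13,6,23,10,9,4,21,5,8,11,12,14,20,15,17,22],[0,1,6,4,13,15,9,7,16,12,11,17,18,8,19,21,3,22,2,5,20,14,23,10]),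
   ([0,6,1,12,2,20,16,15,18,8,5,7,13,9,10,19,3,21,4,14,17,23,22,11],[0,2,4,16,18,10,1,11,9,13,14,23,3,12,19,7,6,20,8,15,5,17,22,21]),
   ([0,18,2,9,6,21,1,14,16,4,23,19,13,3,10,20,8,11,12,22,17,15,5,7],[0,6,2,13,9,22,4,23,16,3,14,17,18,12,7,21,8,20,1,11,15,5,19,10]),
   ([0,8,9,1,4,22,18,10,12,6,11,15,16,2,14,20,3,19,13,5,7,17,21,23],[0,3,13,16,4,19,9,20,1,2,7,10,8,18,14,11,12,21,6,17,15,22,5,23]),
   ([0,18,3,2,1,23,12,20,6,9,21,15,13,4,19,5,8,10,16,7,14,11,17,22],[0,4,3,2,13,15,8,19,16,9,17,21,6,12,20,11,18,22,1,14,7,10,23,5])],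
  [([],[]),
   ([],[]),
   ([],[]),
   ([],[]),
   ([],[]),
   ([],[]),
   ([],[]),
   ([0,1,2,3,4,5,6,7,8,9,10,11,12,13,14,15,16,17,18,19,20,21,22,23],[0,1,2,3,4,5,6,7,8,9,10,11,12,13,14,15,16,17,18,19,20,21,22,23]),
   ([],[]),
   ([],[]),
   ([0,1,13,3,6,5,16,10,9,12,23,17,8,18,19,14,4,22,2,15,20,21,11,7],[0,1,18,3,16,5,4,23,12,8,7,22,9,2,15,19,6,11,13,14,20,21,17,10]),
   ([0,8,12,18,1,5,16,11,6,3,23,10,2,4,22,17,13,15,9,20,7,14,21,19],[0,4,12,9,13,5,8,20,1,18,11,7,2,16,21,17,6,15,3,23,19,22,14,10]),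
   ([],[]),
   ([],[]),
   ([0,3,13,8,2,5,18,14,1,9,22,11,12,4,21,23,6,15,16,10,20,7,19,17],[0,8,4,1,13,5,16,21,3,9,19,11,12,2,7,17,18,23,6,22,20,14,10,15]),
   ([0,18,2,12,9,5,6,15,13,4,17,21,3,8,14,7,16,10,1,19,23,11,22,20],[0,18,2,12,9,5,6,15,13,4,17,21,3,8,14,7,16,10,1,19,23,11,22,20]),
   ([],[]),
   ([0,6,4,12,9,5,16,17,2,13,23,14,1,3,7,21,18,19,8,22,15,11,10,20],[0,12,8,13,2,5,1,14,18,4,22,21,3,9,11,20,6,7,16,17,23,15,19,10]),
   ([],[]),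
   ([0,8,9,18,13,5,1,19,2,6,11,21,3,12,17,20,16,10,4,22,7,14,15,23],[0,6,8,12,18,5,9,20,1,2,17,10,13,4,21,22,16,14,3,7,15,11,19,23]),
   ([0,6,8,12,18,5,9,20,1,2,17,10,13,4,21,22,16,14,3,7,15,11,19,23],[0,8,9,18,13,5,1,19,2,6,11,21,3,12,17,20,16,10,4,22,7,14,15,23]),
   ([0,18,6,4,12,5,3,21,1,9,22,10,2,8,14,7,13,15,16,11,19,23,20,17],[0,8,12,6,3,5,2,15,13,9,11,19,4,16,14,17,18,23,1,20,22,7,10,21]),
   ([0,3,4,8,18,5,6,22,9,12,17,15,1,16,10,21,2,19,13,23,20,7,11,14],[0,12,16,1,2,5,6,21,3,8,14,22,9,18,23,11,13,10,4,17,20,15,7,19]),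
   ([0,6,18,4,16,5,3,23,13,9,19,20,8,2,15,7,1,14,12,11,22,21,10,17],[0,16,13,6,3,5,1,15,12,9,22,19,18,8,17,14,4,23,2,10,11,21,20,7])],
  [([],[]),
   ([],[]),
   ([],[]),
   ([],[]),
   ([],[]),
   ([],[]),
   ([],[]),
   ([],[]),
   ([],[]),
   ([],[]),
   ([0,1,2,3,4,5,6,7,8,9,10,11,12,13,14,15,16,17,18,19,20,21,22,23],[0,1,2,3,4,5,6,7,8,9,10,11,12,13,14,15,16,17,18,19,20,21,22,23]),
   ([0,4,6,18,13,5,3,7,2,9,11,20,1,16,17,21,12,15,8,22,19,23,10,14],[0,12,8,6,1,5,2,7,18,9,22,10,16,4,23,17,13,14,3,20,11,15,19,21]),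
   ([],[]),
   ([],[]),
   ([0,12,8,18,4,5,3,7,6,16,14,10,9,1,15,20,13,22,2,17,11,23,21,19],[0,13,18,6,4,5,8,7,2,12,11,20,1,16,10,14,9,19,3,23,15,22,17,21]),
   ([0,4,2,6,9,5,8,7,3,1,15,14,16,12,23,17,13,10,18,19,21,22,20,11],[0,9,2,8,1,5,3,7,6,4,17,23,13,16,11,10,12,15,18,19,22,20,21,14]),
   ([],[]),
   ([0,13,8,2,1,5,6,7,3,16,17,11,9,4,23,22,12,20,18,14,10,15,21,19],[0,4,3,8,13,5,6,7,2,12,20,11,16,1,19,21,9,10,18,23,17,22,15,14]),
   ([],[]),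
   ([0,16,2,18,13,5,8,7,6,9,19,20,12,4,21,17,1,15,3,10,11,14,22,23],[0,16,2,18,13,5,8,7,6,9,19,20,12,4,21,17,1,15,3,10,11,14,22,23]),
   ([0,4,3,8,13,5,6,7,2,12,20,11,16,1,19,21,9,10,18,23,17,22,15,14],[0,13,8,2,1,5,6,7,3,16,17,11,9,4,23,22,12,20,18,14,10,15,21,19]),
   ([0,13,6,3,9,5,2,7,18,4,21,17,12,1,14,15,16,11,8,22,23,10,19,20],[0,13,6,3,9,5,2,7,18,4,21,17,12,1,14,15,16,11,8,22,23,10,19,20]),
   ([0,16,6,8,1,5,18,7,2,4,22,23,12,9,10,11,13,15,3,21,17,14,19,20],[0,4,8,18,9,5,2,7,3,13,14,15,12,16,21,17,1,20,6,22,23,19,10,11]),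
   ([0,1,3,18,16,5,8,7,2,4,23,22,9,12,15,20,13,10,6,21,19,14,17,11],[0,1,8,2,9,5,18,7,6,12,17,23,13,16,21,14,4,22,3,20,15,19,11,10])]]

/-- The test for one table entry. -/
def goodEntry (j k : ℕ) (e : List ℕ × List ℕ) : Bool :=
  checkM24 e.1 e.2 && (applyMask e.2 d0 == d0) && (e.1.getD 0 0 == 0) &&
    ((List.range j).all fun i => e.1.getD (coBase.getD i 0) 0 == coBase.getD i 0) &&
    (e.1.getD (coBase.getD j 0) 0 == k)

/-- The test for the whole table. -/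
def checkTable : Bool :=
  (List.range 3).all fun j => (List.range 24).all fun k =>
    d0.testBit k || (coBase.take j).contains k ||
      goodEntry j k ((table.getD j []).getD k ([], []))

theorem checkTable_true : checkTable = true := by decide +kernel

/-- The base points as an embedding. -/
def coEmb : Fin 3 ↪ GolayPt where
  toFun i := dec (coBase.getD i.val 0)
  inj' := by decide

theorem enc_coEmb (i : Fin 3) : enc (coEmb i) = coBase.getD i.val 0 := by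
  revert i; decide

/-- The stabilizer of the standard dodecad and of the point `0` in `M24`. -/
abbrev G1 : Subgroup (Equiv.Perm GolayPt) :=
  G0 ⊓ MulAction.stabilizer (Equiv.Perm GolayPt) (dec 0)

/-- The complement of the standard dodecad. -/
def coSet : Set GolayPt := {q | q ∉ maskSet d0}

theorem chain_G1 (j : Fin 3) (q : GolayPt) (hqd : q ∈ coSet)
    (hq : ∀ i, i < j → q ≠ coEmb i) :
    ∃ g ∈ G1, (∀ i, i < j → g (coEmb i) = coEmb i) ∧ g (coEmb j) = q := by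
  have h := checkTable_true
  unfold checkTable at h
  rw [List.all_eq_true] at h
  have h1 := h j.val (List.mem_range.mpr j.isLt)
  rw [List.all_eq_true] at h1
  have h2 := h1 (enc q) (List.mem_range.mpr (enc_lt q))
  rw [Bool.or_eq_true, Bool.or_eq_true] at h2
  rcases h2 with (h2 | h2) | h2
  · exfalso
    exact hqd ((mem_maskSet _ _).mpr h2)
  · exfalso
    rw [List.contains_iff_mem, List.mem_take_iff_getElem] at h2
    obtain ⟨i, hi, hi2⟩ := h2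
    have hij : i < j.val := (lt_min_iff.mp hi).1
    have hi3 : i < 3 := lt_trans hij j.isLt
    apply hq ⟨i, hi3⟩ hij
    apply enc_injective
    rw [enc_coEmb, ← hi2]
    simp [List.getD_eq_getElem?_getD, List.getElem?_eq_getElem (lt_min_iff.mp hi).2]
  · unfold goodEntry at h2
    simp only [Bool.and_eq_true, List.all_eq_true, beq_iff_eq] at h2
    obtain ⟨⟨⟨⟨hc, hd⟩, h0⟩, hfix⟩, hmap⟩ := h2
    obtain ⟨g, hg, hgp, hgD⟩ := exists_smul_of_checkM24 hc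
    refine ⟨g, ⟨⟨hg, ?_⟩, ?_⟩, fun i hi => ?_, ?_⟩
    · show g • maskSet d0 = maskSet d0
      rw [hgD, hd]
    · show g (dec 0) = dec 0
      rw [hgp, enc_dec 0 (by norm_num), h0]
    · have := hfix i.val (List.mem_range.mpr hi)
      rw [hgp, enc_coEmb, this, ← enc_coEmb, dec_enc]
    · rw [hgp, enc_coEmb, hmap, dec_enc]

theorem G1_invariant (g : Equiv.Perm GolayPt) (hg : g ∈ G1) (s : GolayPt) (hs : s ∈ coSet) :
    g s ∈ coSet := by
  intro hcon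
  apply hs
  have hinv : g⁻¹ ∈ G0 := G0.inv_mem hg.1
  have := G0_invariant g⁻¹ hinv (g s) (Finset.mem_coe.mpr hcon)
  simpa using this

/-- 3-transitivity on the complement, for the standard dodecad and the point `0`. -/
theorem exists_map_std (x y : Fin 3 ↪ GolayPt) (hx : ∀ i, x i ∉ maskSet d0)
    (hy : ∀ i, y i ∉ maskSet d0) : ∃ g ∈ G1, ∀ i, g (x i) = y i := by
  obtain ⟨g, hg, hgx⟩ := chain_exists_on G1 coSet G1_invariant 3 coEmb chain_G1 x hx 3 le_rfl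
  obtain ⟨g', hg', hgy⟩ := chain_exists_on G1 coSet G1_invariant 3 coEmb chain_G1 y hy 3 le_rfl
  refine ⟨g' * g⁻¹, G1.mul_mem hg' (G1.inv_mem hg), fun i => ?_⟩
  rw [← hgx i i.isLt, ← hgy i i.isLt]
  simp

theorem zero_mem : dec 0 ∈ maskSet d0 := by
  rw [mem_maskSet]; decide

/-- The stabiliser of a dodecad and a point on it is 3-transitive on the complementary dodecad. -/
theorem result (d : Finset Cfsg.GolayPt) (hd : d ∈ Cfsg.dodecads) (p : Cfsg.GolayPt) (hp : p ∈ d) (x y : Fin 3 ↪ Cfsg.GolayPt) (hx : ∀ i, x i ∉ d) (hy : ∀ i, y i ∉ d) : ∃ g ∈ MulAction.stabilizer Cfsg.M24 d ⊓ MulAction.stabilizer Cfsg.M24 p, ∀ i, (g : Equiv.Perm Cfsg.GolayPt) (x i) = y i := by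
  -- move (standard dodecad, 0) to (d, p)
  obtain ⟨u1, hu1⟩ := Cfsg.Agent.S0368.result (maskSet d0) d d0_mem hd
  have hu1d : (u1 : Equiv.Perm GolayPt) • maskSet d0 = d := hu1
  have hp' : (u1 : Equiv.Perm GolayPt)⁻¹ p ∈ maskSet d0 := by
    rw [← hu1d, Finset.mem_smul_finset] at hp
    obtain ⟨q, hq, rfl⟩ := hp
    show (u1 : Equiv.Perm GolayPt)⁻¹ ((u1 : Equiv.Perm GolayPt) q) ∈ maskSet d0
    simpa using hq
  -- an element of the standard stabilizer mapping `0` to `u1⁻¹ p`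
  have hinj : ∀ r : GolayPt, Function.Injective (fun _ : Fin 1 => r) :=
    fun r i j _ => Subsingleton.elim i j
  obtain ⟨g0, hg0, hg0d, hg0p⟩ := Cfsg.Agent.S0388.exists_map_le (maskSet d0) d0_mem 1
    (by norm_num) ⟨fun _ => dec 0, hinj _⟩ ⟨fun _ => (u1 : Equiv.Perm GolayPt)⁻¹ p, hinj _⟩
    (fun _ => zero_mem) (fun _ => hp')
  have hg0p' : g0 (dec 0) = (u1 : Equiv.Perm GolayPt)⁻¹ p := hg0p 0
  let u : Equiv.Perm GolayPt := (u1 : Equiv.Perm GolayPt) * g0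
  have hu : u ∈ M24 := M24.mul_mem u1.2 hg0
  have hud : u • maskSet d0 = d := by
    show ((u1 : Equiv.Perm GolayPt) * g0) • maskSet d0 = d
    rw [mul_smul, hg0d, hu1d]
  have hup : u (dec 0) = p := by
    show (u1 : Equiv.Perm GolayPt) (g0 (dec 0)) = p
    rw [hg0p']
    simp
  have hco : ∀ q, q ∉ d → u⁻¹ q ∉ maskSet d0 := by
    intro q hq hcon
    apply hq
    rw [← hud]
    have := Finset.smul_mem_smul_finset (a := u) hcon
    simpa using this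
  let x' : Fin 3 ↪ GolayPt := x.trans (u⁻¹).toEmbedding
  let y' : Fin 3 ↪ GolayPt := y.trans (u⁻¹).toEmbedding
  obtain ⟨g, hg, hgxy⟩ := exists_map_std x' y' (fun i => hco _ (hx i)) (fun i => hco _ (hy i))
  have hgM : g ∈ M24 := hg.1.1
  have hgd : g • maskSet d0 = maskSet d0 := hg.1.2
  have hg0' : g (dec 0) = dec 0 := hg.2
  have hmem : u * g * u⁻¹ ∈ M24 := M24.mul_mem (M24.mul_mem hu hgM) (M24.inv_mem hu)
  refine ⟨⟨u * g * u⁻¹, hmem⟩, ⟨?_, ?_⟩, fun i => ?_⟩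
  · show (u * g * u⁻¹) • d = d
    rw [mul_smul, mul_smul, ← hud, inv_smul_smul, hgd]
  · show (u * g * u⁻¹) p = p
    rw [← hup]
    simp [hg0']
  · show u (g (u⁻¹ (x i))) = y i
    have h1 : g (u⁻¹ (x i)) = u⁻¹ (y i) := hgxy i
    rw [h1]
    simp

end Cfsg.Agent.S0389
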