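import Cfsg.Statements.S5620
import Cfsg.Agent.S0372
import Cfsg.Agent.S0384
import Cfsg.Agent.S0389
import Cfsg.Agent.Lib.Helper26_M24Act
import Cfsg.Agent.Lib.Helper7_Bits
import Cfsg.Agent.Lib.Helper7_Base

set_option autoImplicit false
open scoped Pointwise
open Cfsg

namespace Cfsg.Agent.S5620

open Cfsg.Agent.Lib.Helper7_Bits Cfsg.Agent.Lib.Helper7_Base

/-- The dodecad of squares. -/
abbrev D : Finset GolayPt := Spor.squareDodecad

theorem D_eq : D = maskSet Cfsg.Agent.S0384.d0 := by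
  show support₂ (qrWord 0) = support₂ (toWord Cfsg.Agent.S0384.d0)
  rw [← toWord_qrMask (0 : ZMod 23)]
  rfl

theorem D_mem : D ∈ dodecads := by
  rw [D_eq]
  exact Cfsg.Agent.S0384.d0_mem

theorem projInv_D : projInv • D = Finset.univ \ D := by
  decide

theorem none_not_mem : (none : GolayPt) ∉ D := by decide

theorem zero_mem : (some 0 : GolayPt) ∈ D := by decide

theorem projInv_zero : projInv (some 0) = none := by decide

theorem exists_two : ∀ a : GolayPt, a ∈ D → ∃ b c : GolayPt, b ∈ D ∧ c ∈ D ∧ a ≠ b ∧ a ≠ c ∧ b ≠ c := by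
  decide

theorem coD_mem : Finset.univ \ D ∈ dodecads := by
  rw [← projInv_D]
  exact Cfsg.Agent.Lib.Helper26_Golay.smul_mem_dodecads Cfsg.Agent.S0372.result D_mem

/-- Stabilising a set is the same as stabilising its complement. -/
theorem smul_compl_iff (x : Equiv.Perm GolayPt) (S : Finset GolayPt) :
    x • (Finset.univ \ S) = Finset.univ \ S ↔ x • S = S := by
  have key : ∀ (y : Equiv.Perm GolayPt) (T : Finset GolayPt), y • T = T →
      y • (Finset.univ \ T) = Finset.univ \ T := by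
    intro y T h
    ext p
    rw [Finset.mem_smul_finset]
    simp only [Finset.mem_sdiff, Finset.mem_univ, true_and]
    constructor
    · rintro ⟨q, hq, rfl⟩ hcon
      apply hq
      rw [← h] at hcon
      rw [Finset.mem_smul_finset] at hcon
      obtain ⟨r, hr, hrq⟩ := hcon
      have : r = q := y.injective hrq
      rw [← this]
      exact hr
    · intro hp
      refine ⟨y⁻¹ p, ?_, by simp⟩
      intro hcon
      apply hp
      have := Finset.smul_mem_smul_finset (a := y) hcon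
      rw [h] at this
      simpa using this
  constructor
  · intro h
    have := key x _ h
    simpa using this
  · exact key x S

/-- The point stabiliser in `M12` of a point outside the dodecad. -/
abbrev H' : Subgroup (Equiv.Perm GolayPt) :=
  Spor.M12 ⊓ MulAction.stabilizer (Equiv.Perm GolayPt) (none : GolayPt)

theorem mem_M12_iff (x : Equiv.Perm GolayPt) : x ∈ Spor.M12 ↔ x ∈ M24 ∧ x • D = D := by
  constructor
  · rintro ⟨h1, h2⟩
    exact ⟨h1, h2⟩
  · rintro ⟨h1, h2⟩
    exact ⟨h1, h2⟩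

/-- An embedding of `Fin 3` from three distinct points. -/
def emb3 (a b c : GolayPt) (hab : a ≠ b) (hac : a ≠ c) (hbc : b ≠ c) : Fin 3 ↪ GolayPt where
  toFun := ![a, b, c]
  inj' := by
    intro i j h
    fin_cases i <;> fin_cases j <;> simp_all

theorem mem_M11_iff (x : Equiv.Perm GolayPt) :
    x ∈ Spor.M11 ↔ x ∈ M24 ∧ x • D = D ∧ x (some 0) = some 0 := by
  unfold Spor.M11
  rw [Subgroup.mem_inf, MulAction.mem_stabilizer_iff, mem_M12_iff]
  tauto

theorem mem_H'_iff (x : Equiv.Perm GolayPt) :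
    x ∈ H' ↔ x ∈ M24 ∧ x • D = D ∧ x none = none := by
  rw [Subgroup.mem_inf, MulAction.mem_stabilizer_iff, mem_M12_iff]
  tauto

theorem conj_projInv : MulAut.conj projInv • Spor.M11 = H' := by
  ext x
  rw [Subgroup.mem_pointwise_smul_iff_inv_smul_mem, mem_M11_iff, mem_H'_iff]
  have hx : (MulAut.conj projInv)⁻¹ • x = projInv⁻¹ * x * projInv := by
    rw [MulAut.smul_def, MulAut.conj_inv_apply]
  rw [hx]
  have hpM := Cfsg.Agent.S0372.result
  constructor
  · rintro ⟨h1, h2, h3⟩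
    refine ⟨?_, ?_, ?_⟩
    · have : x = projInv * (projInv⁻¹ * x * projInv) * projInv⁻¹ := by group
      rw [this]
      exact M24.mul_mem (M24.mul_mem hpM h1) (M24.inv_mem hpM)
    · rw [← smul_compl_iff, ← projInv_D]
      rw [mul_smul, mul_smul, inv_smul_eq_iff] at h2
      exact h2
    · have : projInv⁻¹ (x (projInv (some 0))) = some 0 := h3
      rw [Equiv.Perm.inv_eq_iff_eq, projInv_zero] at this
      exact this
  · rintro ⟨h1, h2, h3⟩
    refine ⟨M24.mul_mem (M24.mul_mem (M24.inv_mem hpM) h1) hpM, ?_, ?_⟩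
    · rw [mul_smul, mul_smul, inv_smul_eq_iff, projInv_D, smul_compl_iff]
      exact h2
    · show projInv⁻¹ (x (projInv (some 0))) = some 0
      rw [Equiv.Perm.inv_eq_iff_eq, projInv_zero, h3]

/-- `H'` moves every point of the dodecad. -/
theorem H'_moves (a : GolayPt) (ha : a ∈ D) : ∃ h ∈ H', h a ≠ a := by
  obtain ⟨b, c, hb, hc, hab, hac, hbc⟩ := exists_two a ha
  let x : Fin 3 ↪ GolayPt := emb3 a b c hab hac hbc
  let y : Fin 3 ↪ GolayPt := emb3 b c a hbc hab.symm hac.symm
  have hnot : ∀ p, p ∈ D → p ∉ Finset.univ \ D := by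
    intro p hp hcon
    exact (Finset.mem_sdiff.mp hcon).2 hp
  obtain ⟨g, hg, hgxy⟩ := Cfsg.Agent.S0389.result (Finset.univ \ D) coD_mem none
    (Finset.mem_sdiff.mpr ⟨Finset.mem_univ _, none_not_mem⟩) x y
    (by
      intro i
      fin_cases i
      · exact hnot _ ha
      · exact hnot _ hb
      · exact hnot _ hc)
    (by
      intro i
      fin_cases i
      · exact hnot _ hb
      · exact hnot _ hc
      · exact hnot _ ha)
  refine ⟨(g : Equiv.Perm GolayPt), ?_, ?_⟩
  · rw [mem_H'_iff]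
    refine ⟨g.2, ?_, ?_⟩
    · rw [← smul_compl_iff]
      exact hg.1
    · exact hg.2
  · have := hgxy 0
    have h0 : (g : Equiv.Perm GolayPt) a = b := this
    rw [h0]
    exact hab.symm

/-- The two classes of `M11` in `M12`. -/
theorem result : Nonempty (↥(Cfsg.Spor.M12 ⊓ MulAction.stabilizer (Equiv.Perm Cfsg.GolayPt) (none : Cfsg.GolayPt)) ≃* ↥Cfsg.Spor.M11) ∧ (¬ ∃ k ∈ Cfsg.Spor.M12, MulAut.conj k • Cfsg.Spor.M11 = Cfsg.Spor.M12 ⊓ MulAction.stabilizer (Equiv.Perm Cfsg.GolayPt) (none : Cfsg.GolayPt)) ∧ ∃ g ∈ Cfsg.M24, g • Cfsg.Spor.squareDodecad = Finset.univ \ Cfsg.Spor.squareDodecad ∧ MulAut.conj g • Cfsg.Spor.M11 = Cfsg.Spor.M12 ⊓ MulAction.stabilizer (Equiv.Perm Cfsg.GolayPt) (none : Cfsg.GolayPt) := by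
  refine ⟨?_, ?_, ?_⟩
  · have e1 : ↥Spor.M11 ≃* ↥(MulAut.conj projInv • Spor.M11) :=
      Subgroup.equivSMul (MulAut.conj projInv) Spor.M11
    have e2 : ↥(MulAut.conj projInv • Spor.M11) ≃* ↥H' := MulEquiv.subgroupCongr conj_projInv
    exact ⟨(e1.trans e2).symm⟩
  · rintro ⟨k, hk, hconj⟩
    obtain ⟨hk1, hk2⟩ := (mem_M12_iff k).mp hk
    have ha : k (some 0) ∈ D := by
      have := Finset.smul_mem_smul_finset (a := k) zero_mem
      rw [hk2] at this
      exact this
    obtain ⟨h, hh, hmove⟩ := H'_moves (k (some 0)) ha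
    apply hmove
    have hh' : h ∈ MulAut.conj k • Spor.M11 := by
      rw [hconj]; exact hh
    rw [Subgroup.mem_smul_pointwise_iff_exists] at hh'
    obtain ⟨s, hs, rfl⟩ := hh'
    obtain ⟨-, -, hs0⟩ := (mem_M11_iff s).mp hs
    show (k * s * k⁻¹) (k (some 0)) = k (some 0)
    simp [hs0]
  · exact ⟨projInv, Cfsg.Agent.S0372.result, projInv_D, conj_projInv⟩

end Cfsg.Agent.S5620
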