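import Cfsg.Statements.S2034
import Cfsg.Agent.Lib.Helper27_OutM11
import Cfsg.Agent.Lib.Lead_StemLocal

set_option autoImplicit false
open Cfsg
open Cfsg.Agent.Lib.Helper26_Golay
open Cfsg.Agent.Lib.Helper27_EnumGroup
open Cfsg.Agent.Lib.Helper27_OutM11
open Cfsg.Agent.Lib.Helper66_Stem
open Cfsg.Agent.Lib.Helper66_StemTools
open Cfsg.Agent.Lib.Lead_StemLocal
open scoped commutatorElement

namespace Cfsg.Agent.S2034

/-! ### The abstract argument -/

section abstract

variable {Γ G : Type*} [Group Γ] [Group G]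

/-- transfer into the preimage of a cyclic subgroup of prime order -/
theorem pow_eq_one_of_prime [Finite G] (σ : Γ →* G) (hσ : IsStemExtension σ) (p : ℕ)
    [hp : Fact p.Prime] (u : G) (hu : u ^ p = 1) (hu1 : u ≠ 1) (a : Γ) (ha : a ∈ σ.ker) :
    a ^ (Nat.card G / p) = 1 := by
  obtain ⟨v, rfl⟩ := hσ.1 u
  have hcl : Subgroup.closure (σ '' ({v} : Set Γ)) = Subgroup.zpowers (σ v) := by
    rw [Set.image_singleton, Subgroup.zpowers_eq_closure]
  have hcard : Nat.card ↥(Subgroup.zpowers (σ v)) = p := by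
    rw [Nat.card_zpowers]; exact orderOf_eq_prime hu hu1
  have hidx : (Subgroup.zpowers (σ v)).index = Nat.card G / p := by
    have := Subgroup.card_mul_index (Subgroup.zpowers (σ v))
    rw [hcard] at this
    rw [← this, Nat.mul_div_cancel_left _ hp.out.pos]
  have h := pow_index_eq_one_of_commute σ hσ ({v} : Set Γ)
    (by
      intro a ha b hb
      rw [Set.mem_singleton_iff] at ha hb
      rw [ha, hb])
    (by
      rw [hcl]
      exact Subgroup.index_ne_zero_of_finite) a ha
  rwa [hcl, hidx] at h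

/-- the lifts of two commuting elements of order three commute, if some element centralises the
first and inverts the second -/
theorem lifts_commute (σ : Γ →* G) (hσ : IsStemExtension σ) (x y t : Γ)
    (hx3 : σ x ^ 3 = 1) (hy3 : σ y ^ 3 = 1) (hxy : σ x * σ y = σ y * σ x)
    (htx : σ t * σ x = σ x * σ t) (hty : σ t * σ y = σ y ^ 2 * σ t) : x * y = y * x := by
  have hc := hσ.2.1
  rw [← commutatorElement_eq_one_iff_mul_comm]
  set c := ⁅x, y⁆ with hcdef
  have hck : c ∈ σ.ker := by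
    rw [MonoidHom.mem_ker, hcdef, map_commutatorElement, commutatorElement_eq_one_iff_mul_comm]
    exact hxy
  have hcc : c ∈ Subgroup.center Γ := hc hck
  -- conjugating by `t`
  have h1 : ⁅x, y⁻¹⁆ = c := by
    have e1 : t * c * t⁻¹ = c := by
      rw [(Subgroup.mem_center_iff.mp hcc t)]; group
    have e2 : t * c * t⁻¹ = ⁅t * x * t⁻¹, t * y * t⁻¹⁆ := by
      rw [hcdef]; simp only [commutatorElement_def]; group
    rw [← e1, e2]
    symm
    apply commutatorElement_congr_of_central σ hc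
    · rw [map_mul, map_mul, map_inv, htx]; group
    · rw [map_mul, map_mul, map_inv, map_inv, hty]
      have : (σ y)⁻¹ = σ y ^ 2 := by
        rw [inv_eq_iff_mul_eq_one, ← pow_succ', hy3]
      rw [this]; group
  have h2 : ⁅x, y⁻¹⁆ * c = 1 := by
    have := commutatorElement_mul_right_of_central x y⁻¹ y hcc
    rw [inv_mul_cancel, commutatorElement_one_right] at this
    exact this.symm
  rw [h1] at h2
  -- the cube of `c`
  have h3 : c * c * c = 1 := by
    have e1 : ⁅x * x, y⁆ = c * c := commutatorElement_mul_left_of_central x x y hcc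
    have e2 : ⁅x * x * x, y⁆ = c * c * c := by
      rw [commutatorElement_mul_left_of_central (x * x) x y hcc, e1]
    rw [← e2, commutatorElement_eq_one_iff_mul_comm]
    have hk : x * x * x ∈ σ.ker := by
      rw [MonoidHom.mem_ker, map_mul, map_mul, ← hx3, pow_succ, pow_two]
    exact (Subgroup.mem_center_iff.mp (hc hk) y).symm
  rw [h2, one_mul] at h3
  exact h3

/-- transfer into the preimage of an elementary abelian subgroup of order nine -/
theorem pow_eq_one_of_nine [Finite G] (σ : Γ →* G) (hσ : IsStemExtension σ) (x y t : G)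
    (hx3 : x ^ 3 = 1) (hx1 : x ≠ 1) (hy3 : y ^ 3 = 1) (hy2 : y ^ 2 ≠ 1) (hxy : x * y = y * x)
    (htx : t * x = x * t) (hty : t * y = y ^ 2 * t) (a : Γ) (ha : a ∈ σ.ker) :
    a ^ (Nat.card G / 9) = 1 := by
  obtain ⟨x', rfl⟩ := hσ.1 x
  obtain ⟨y', rfl⟩ := hσ.1 y
  obtain ⟨t', rfl⟩ := hσ.1 t
  have hcomm := lifts_commute σ hσ x' y' t' hx3 hy3 hxy htx hty
  have hcl : Subgroup.closure (σ '' ({x', y'} : Set Γ)) =
      Subgroup.closure ({σ x', σ y'} : Set G) := by
    rw [Set.image_pair]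
  -- `y` is not a power of `x`
  have hyx : σ y' ∉ Subgroup.zpowers (σ x') := by
    intro hmem
    obtain ⟨i, hi⟩ := Subgroup.mem_zpowers_iff.mp hmem
    have h1 : σ t' * σ y' = σ y' * σ t' := by
      rw [← hi]
      exact ((Commute.zpow_right (show Commute (σ t') (σ x') from htx) i)).eq
    rw [hty] at h1
    have h2 : σ y' ^ 2 = σ y' := mul_right_cancel h1
    apply hy2
    have h3 : σ y' = 1 := by
      have : σ y' ^ 2 = σ y' * 1 := by rw [mul_one]; exact h2
      rw [pow_two] at this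
      exact mul_left_cancel this
    rw [h3, one_pow]
  have : Fact (Nat.Prime 3) := ⟨by norm_num⟩
  have hdvd : 3 ^ 2 ∣ Nat.card ↥(Subgroup.closure ({σ x', σ y'} : Set G)) :=
    sq_dvd_card_closure_pair 3 (σ x') (σ y') hx3 hy3 hx1 hxy hyx
  have h := pow_index_eq_one_of_commute σ hσ ({x', y'} : Set Γ)
    (by
      rintro a (rfl | ha) b (rfl | hb)
      · rfl
      · rw [Set.mem_singleton_iff] at hb; subst hb; exact hcomm
      · rw [Set.mem_singleton_iff] at ha; subst ha; exact hcomm.symm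
      · rw [Set.mem_singleton_iff] at ha hb; subst ha; subst hb; rfl)
    (by
      rw [hcl]
      exact Subgroup.index_ne_zero_of_finite) a ha
  rw [hcl] at h
  have hmul := Subgroup.card_mul_index (Subgroup.closure ({σ x', σ y'} : Set G))
  obtain ⟨m, hm⟩ := hdvd
  have hidx : (Subgroup.closure ({σ x', σ y'} : Set G)).index ∣ Nat.card G / 9 := by
    rw [hm] at hmul
    have e : Nat.card G / 9 = m * (Subgroup.closure ({σ x', σ y'} : Set G)).index := by
      rw [← hmul]
      rw [show (3 : ℕ) ^ 2 * m * (Subgroup.closure ({σ x', σ y'} : Set G)).index =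
        9 * (m * (Subgroup.closure ({σ x', σ y'} : Set G)).index) by ring]
      exact Nat.mul_div_cancel_left _ (by norm_num)
    rw [e]
    exact Dvd.intro_left _ rfl
  obtain ⟨k, hk⟩ := hidx
  rw [hk, pow_mul, h, one_pow]

/-- transfer into the preimage of a semidihedral subgroup of order sixteen -/
theorem pow_eq_one_of_sixteen [Finite G] [Finite Γ] (σ : Γ →* G) (hσ : IsStemExtension σ)
    (r s : G) (hr8 : r ^ 8 = 1) (hr4 : r ^ 4 ≠ 1) (hs2 : s * s = 1) (hsr : s * r = r ^ 3 * s)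
    (a : Γ) (ha : a ∈ σ.ker) : a ^ (Nat.card G / 16) = 1 := by
  have : Fact (Nat.Prime 2) := ⟨by norm_num⟩
  have hord : orderOf r = 8 := by
    have := orderOf_eq_prime_pow (p := 2) (n := 2) (x := r) (by norm_num; exact hr4)
      (by norm_num; exact hr8)
    norm_num at this
    exact this
  have hconj : s * r * s⁻¹ = r ^ 3 := by rw [hsr]; group
  have hsN : s ∉ Subgroup.zpowers r := by
    intro hmem
    obtain ⟨i, hi⟩ := Subgroup.mem_zpowers_iff.mp hmem
    have h1 : s * r = r * s := by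
      rw [← hi]
      exact ((Commute.refl r).zpow_left i).eq
    rw [hsr] at h1
    have h2 : r ^ 3 = r := mul_right_cancel h1
    have h3 : r ^ 2 = 1 := by
      have : r * r ^ 2 = r * 1 := by rw [mul_one, ← pow_succ']; exact h2
      exact mul_left_cancel this
    apply hr4
    rw [show 4 = 2 * 2 from rfl, pow_mul, h3, one_pow]
  set S := Subgroup.closure ({r, s} : Set G) with hS
  have hcardS : Nat.card ↥S = 16 := by
    rw [hS, card_closure_pair r s (by rw [hs2]; exact Subgroup.one_mem _)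
      (by rw [hconj]; exact Subgroup.pow_mem _ (Subgroup.mem_zpowers r) 3) hsN, hord]
  have hrS : r ∈ S := Subgroup.subset_closure (by simp)
  have hsS : s ∈ S := Subgroup.subset_closure (by simp)
  have hidx : S.index = Nat.card G / 16 := by
    have := Subgroup.card_mul_index S
    rw [hcardS] at this
    rw [← this, Nat.mul_div_cancel_left _ (by norm_num)]
  rw [← hidx]
  apply pow_index_eq_one_of_inf σ hσ S Subgroup.index_ne_zero_of_finite _ a ha
  -- the central extension of `S`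
  obtain ⟨r', hr'⟩ := hσ.1 r
  obtain ⟨s', hs'⟩ := hσ.1 s
  have hr'S : r' ∈ S.comap σ := by rw [Subgroup.mem_comap, hr']; exact hrS
  have hs'S : s' ∈ S.comap σ := by rw [Subgroup.mem_comap, hs']; exact hsS
  have hZmem : ∀ z : ↥(S.comap σ), z ∈ (σ.subgroupComap S).ker ↔ (z : Γ) ∈ σ.ker := by
    intro z
    rw [MonoidHom.mem_ker, MonoidHom.mem_ker]
    constructor
    · intro h; exact congrArg Subtype.val h
    · intro h; exact Subtype.ext h
  have hker : ∀ z : Γ, z ∈ σ.ker → ∃ hz : z ∈ S.comap σ,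
      (⟨z, hz⟩ : ↥(S.comap σ)) ∈ (σ.subgroupComap S).ker := by
    intro z hz
    have hz' : z ∈ S.comap σ := by
      rw [Subgroup.mem_comap, MonoidHom.mem_ker.mp hz]; exact S.one_mem
    exact ⟨hz', (hZmem _).mpr hz⟩
  apply inf_commutator_eq_bot_of_semidihedral (σ.subgroupComap S).ker _ ⟨r', hr'S⟩ ⟨s', hs'S⟩
  · -- generation
    apply closure_union_ker_eq_top (σ.subgroupComap S)
    rw [Set.image_pair]
    have e1 : (σ.subgroupComap S) ⟨r', hr'S⟩ = ⟨r, hrS⟩ := Subtype.ext hr'
    have e2 : (σ.subgroupComap S) ⟨s', hs'S⟩ = ⟨s, hsS⟩ := Subtype.ext hs'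
    rw [e1, e2]
    exact closure_subtype_eq_top S r s hrS hsS (fun g hg => hg)
  · -- the conjugation relation
    have hz : (r' ^ 3)⁻¹ * (s' * r' * s'⁻¹) ∈ σ.ker := by
      rw [MonoidHom.mem_ker, map_mul, map_inv, map_pow, map_mul, map_mul, map_inv, hr', hs',
        hconj, inv_mul_cancel]
    obtain ⟨hz1, hz2⟩ := hker _ hz
    refine ⟨_, hz2, ?_⟩
    apply Subtype.ext
    show s' * r' * s'⁻¹ = r' ^ 3 * ((r' ^ 3)⁻¹ * (s' * r' * s'⁻¹))
    group
  · -- the square of the second generator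
    rw [hZmem]
    show s' * s' ∈ σ.ker
    rw [MonoidHom.mem_ker, map_mul, hs', hs2]
  · -- the order of the first generator modulo the kernel
    intro i hi
    rw [hZmem] at hi
    have h1 : (((⟨r', hr'S⟩ : ↥(S.comap σ)) ^ i : ↥(S.comap σ)) : Γ) = r' ^ i := by
      simp
    rw [h1, MonoidHom.mem_ker, map_zpow, hr'] at hi
    have := orderOf_dvd_iff_zpow_eq_one.mpr hi
    rw [hord] at this
    exact_mod_cast this
  · -- the kernel is central
    intro z hz
    rw [hZmem] at hz
    rw [Subgroup.mem_center_iff]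
    intro g
    apply Subtype.ext
    exact Subgroup.mem_center_iff.mp (hσ.2.1 hz) g

/-- the kernel of a stem extension of a group of order 7920 with the local structure of the
Mathieu group of degree eleven is trivial -/
theorem ker_eq_bot_of_local [Finite G] [Finite Γ] (σ : Γ →* G) (hσ : IsStemExtension σ)
    (hcard : Nat.card G = 7920) (r s x y t u v : G)
    (hr8 : r ^ 8 = 1) (hr4 : r ^ 4 ≠ 1) (hs2 : s * s = 1) (hsr : s * r = r ^ 3 * s)
    (hx3 : x ^ 3 = 1) (hx1 : x ≠ 1) (hy3 : y ^ 3 = 1) (hy2 : y ^ 2 ≠ 1) (hxy : x * y = y * x)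
    (htx : t * x = x * t) (hty : t * y = y ^ 2 * t)
    (hu5 : u ^ 5 = 1) (hu1 : u ≠ 1) (hv11 : v ^ 11 = 1) (hv1 : v ≠ 1) : σ.ker = ⊥ := by
  rw [eq_bot_iff]
  intro a ha
  rw [Subgroup.mem_bot]
  have : Fact (Nat.Prime 5) := ⟨by norm_num⟩
  have : Fact (Nat.Prime 11) := ⟨by norm_num⟩
  have h5 := pow_eq_one_of_prime σ hσ 5 u hu5 hu1 a ha
  have h11 := pow_eq_one_of_prime σ hσ 11 v hv11 hv1 a ha
  have h9 := pow_eq_one_of_nine σ hσ x y t hx3 hx1 hy3 hy2 hxy htx hty a ha
  have h16 := pow_eq_one_of_sixteen σ hσ r s hr8 hr4 hs2 hsr a ha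
  rw [hcard] at h5 h11 h9 h16
  have d5 := orderOf_dvd_of_pow_eq_one h5
  have d11 := orderOf_dvd_of_pow_eq_one h11
  have d9 := orderOf_dvd_of_pow_eq_one h9
  have d16 := orderOf_dvd_of_pow_eq_one h16
  have d := Nat.dvd_gcd (Nat.dvd_gcd d5 d11) (Nat.dvd_gcd d9 d16)
  norm_num at d
  exact d

end abstract

/-! ### The elements of the group -/

/-- an element of order eight -/
def TR : ℕ := 0x2ae9153670abcc4b9c2370ac943240
/-- an involution conjugating it to its cube -/
def TS : ℕ := 0xb5e279a6b07a9a65ba43a30a440440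
/-- an element of order three -/
def TX : ℕ := 0x9d2af3ca30b15237288cb896d404c0
/-- another element of order three commuting with it -/
def TY : ℕ := 0xbbd569cab0a158274466391680b520
/-- an involution centralising the first and inverting the second -/
def TT : ℕ := 0xbaeae9c1522d18db4464399e848820
/-- an element of order five -/
def TU : ℕ := 0x3dd54b1a309964dab84c7a16120d20
/-- an element of order eleven -/
def TV : ℕ := 0x59ef38c2cda38892bc4ca8d41448c0

theorem tables_in : inG TR = true ∧ inG TS = true ∧ inG TX = true ∧ inG TY = true ∧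
    inG TT = true ∧ inG TU = true ∧ inG TV = true := by decide +kernel

theorem table_checks :
    (∀ x < 24, iterN (imgF TR) 8 x = x) ∧ (∃ x < 24, iterN (imgF TR) 4 x ≠ x) ∧
    (∀ x < 24, imgF TS (imgF TS x) = x) ∧
    (∀ x < 24, imgF TS (imgF TR x) = iterN (imgF TR) 3 (imgF TS x)) ∧
    (∀ x < 24, iterN (imgF TX) 3 x = x) ∧ (∃ x < 24, imgF TX x ≠ x) ∧
    (∀ x < 24, iterN (imgF TY) 3 x = x) ∧ (∃ x < 24, iterN (imgF TY) 2 x ≠ x) ∧
    (∀ x < 24, imgF TX (imgF TY x) = imgF TY (imgF TX x)) ∧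
    (∀ x < 24, imgF TT (imgF TX x) = imgF TX (imgF TT x)) ∧
    (∀ x < 24, imgF TT (imgF TY x) = iterN (imgF TY) 2 (imgF TT x)) ∧
    (∀ x < 24, iterN (imgF TU) 5 x = x) ∧ (∃ x < 24, imgF TU x ≠ x) ∧
    (∀ x < 24, iterN (imgF TV) 11 x = x) ∧ (∃ x < 24, imgF TV x ≠ x) := by
  decide +kernel

theorem repF_imgF {g : Equiv.Perm GolayPt} {T : ℕ} (h : Represents g T) : RepF g (imgF T) :=
  repF_of_represents h

theorem pow_eq_one_of_table {g : Equiv.Perm GolayPt} {T : ℕ} (h : Represents g T) (n : ℕ)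
    (hc : ∀ x < 24, iterN (imgF T) n x = x) : g ^ n = 1 :=
  eq_of_repF (repF_pow (repF_imgF h) n) repF_one hc

theorem pow_ne_one_of_table {g : Equiv.Perm GolayPt} {T : ℕ} (h : Represents g T) (n : ℕ)
    (hc : ∃ x < 24, iterN (imgF T) n x ≠ x) : g ^ n ≠ 1 := by
  intro h1
  obtain ⟨x, hx, hne⟩ := hc
  exact hne (repF_apply_eq (repF_pow (repF_imgF h) n) repF_one h1 x hx)

theorem ne_one_of_table {g : Equiv.Perm GolayPt} {T : ℕ} (h : Represents g T)
    (hc : ∃ x < 24, imgF T x ≠ x) : g ≠ 1 := by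
  intro h1
  obtain ⟨x, hx, hne⟩ := hc
  exact hne (repF_apply_eq (repF_imgF h) repF_one h1 x hx)

theorem exists_elements : ∃ r s x y t u v : ↥Spor.M11,
    r ^ 8 = 1 ∧ r ^ 4 ≠ 1 ∧ s * s = 1 ∧ s * r = r ^ 3 * s ∧
    x ^ 3 = 1 ∧ x ≠ 1 ∧ y ^ 3 = 1 ∧ y ^ 2 ≠ 1 ∧ x * y = y * x ∧ t * x = x * t ∧
    t * y = y ^ 2 * t ∧ u ^ 5 = 1 ∧ u ≠ 1 ∧ v ^ 11 = 1 ∧ v ≠ 1 := by
  obtain ⟨i1, i2, i3, i4, i5, i6, i7⟩ := tables_in
  obtain ⟨r, hr, hR⟩ := exists_of_inG i1
  obtain ⟨s, hs, hS⟩ := exists_of_inG i2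
  obtain ⟨x, hx, hX⟩ := exists_of_inG i3
  obtain ⟨y, hy, hY⟩ := exists_of_inG i4
  obtain ⟨t, ht, hT⟩ := exists_of_inG i5
  obtain ⟨u, hu, hU⟩ := exists_of_inG i6
  obtain ⟨v, hv, hV⟩ := exists_of_inG i7
  obtain ⟨c1, c2, c3, c4, c5, c6, c7, c8, c9, c10, c11, c12, c13, c14, c15⟩ := table_checks
  refine ⟨⟨r, hr⟩, ⟨s, hs⟩, ⟨x, hx⟩, ⟨y, hy⟩, ⟨t, ht⟩, ⟨u, hu⟩, ⟨v, hv⟩, ?_, ?_, ?_, ?_, ?_, ?_,
    ?_, ?_, ?_, ?_, ?_, ?_, ?_, ?_, ?_⟩
  · exact Subtype.ext (pow_eq_one_of_table hR 8 c1)
  · intro h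
    exact pow_ne_one_of_table hR 4 c2 (congrArg Subtype.val h)
  · exact Subtype.ext (eq_of_repF (repF_mul (repF_imgF hS) (repF_imgF hS)) repF_one c3)
  · exact Subtype.ext (eq_of_repF (repF_mul (repF_imgF hS) (repF_imgF hR))
      (repF_mul (repF_pow (repF_imgF hR) 3) (repF_imgF hS)) c4)
  · exact Subtype.ext (pow_eq_one_of_table hX 3 c5)
  · intro h
    exact ne_one_of_table hX c6 (congrArg Subtype.val h)
  · exact Subtype.ext (pow_eq_one_of_table hY 3 c7)
  · intro h
    exact pow_ne_one_of_table hY 2 c8 (congrArg Subtype.val h)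
  · exact Subtype.ext (eq_of_repF (repF_mul (repF_imgF hX) (repF_imgF hY))
      (repF_mul (repF_imgF hY) (repF_imgF hX)) c9)
  · exact Subtype.ext (eq_of_repF (repF_mul (repF_imgF hT) (repF_imgF hX))
      (repF_mul (repF_imgF hX) (repF_imgF hT)) c10)
  · exact Subtype.ext (eq_of_repF (repF_mul (repF_imgF hT) (repF_imgF hY))
      (repF_mul (repF_pow (repF_imgF hY) 2) (repF_imgF hT)) c11)
  · exact Subtype.ext (pow_eq_one_of_table hU 5 c12)
  · intro h
    exact ne_one_of_table hU c13 (congrArg Subtype.val h)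
  · exact Subtype.ext (pow_eq_one_of_table hV 11 c14)
  · intro h
    exact ne_one_of_table hV c15 (congrArg Subtype.val h)

/-- The Schur multiplier of the Mathieu group M₁₁ (the stabiliser of a dodecad and one of its points in the automorphism group of the length-24 binary code) is trivial; here the Schur multiplier is described through stem extensions, as in the definitions: surjective homomorphisms onto the group from a finite group, whose kernel is central in that finite group and contained in that finite group's commutator subgroup. -/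
theorem result : Cfsg.HasCyclicSchurMultiplier ↥Cfsg.Spor.M11 1 := by
  classical
  have hfin : Finite ↥Cfsg.Spor.M11 := Nat.finite_of_card_ne_zero (by rw [card_M11]; norm_num)
  apply hasCyclicSchurMultiplier_one
  intro Γ _ _ σ hσ
  obtain ⟨r, s, x, y, t, u, v, h1, h2, h3, h4, h5, h6, h7, h8, h9, h10, h11, h12, h13, h14, h15⟩ :=
    exists_elements
  exact ker_eq_bot_of_local σ hσ card_M11 r s x y t u v h1 h2 h3 h4 h5 h6 h7 h8 h9 h10 h11 h12 h13
    h14 h15

end Cfsg.Agent.S2034
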