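import Cfsg.Statements.S0378
import Cfsg.Agent.S0364

set_option autoImplicit false
open Cfsg

namespace Cfsg.Agent.S0378

theorem card_golayPt : Nat.card GolayPt = 24 := by
  rw [Nat.card_eq_fintype_card]; decide

theorem fixing_pair (p q : GolayPt) :
    fixingSubgroup M24 ({p, q} : Set GolayPt) =
      MulAction.stabilizer M24 p ⊓ MulAction.stabilizer M24 q := by
  ext g
  rw [mem_fixingSubgroup_iff, Subgroup.mem_inf, MulAction.mem_stabilizer_iff,
    MulAction.mem_stabilizer_iff]
  constructor
  · intro h
    exact ⟨h p (by simp), h q (by simp)⟩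
  · rintro ⟨hp, hq⟩ y hy
    rcases hy with rfl | rfl
    · exact hp
    · exact hq

/-- A two-point stabiliser in the group of the length-24 code has order 443520 = 2^7·3^2·5·7·11. -/
theorem result (p q : Cfsg.GolayPt) (hpq : p ≠ q) : Nat.card ↥(MulAction.stabilizer Cfsg.M24 p ⊓ MulAction.stabilizer Cfsg.M24 q) = 443520 := by
  have h5 := Cfsg.Agent.S0366.result
  have h2 : MulAction.IsMultiplyPretransitive M24 GolayPt 2 :=
    MulAction.isMultiplyPretransitive_of_le (n := 5) (by norm_num) (by rw [card_golayPt]; norm_num)
  have hs : ({p, q} : Set GolayPt).ncard = 2 := Set.ncard_pair hpq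
  have h := MulAction.IsMultiplyPretransitive.index_of_fixingSubgroup_mul h2 hs
  rw [card_golayPt, fixing_pair] at h
  have h22 : (24 - 2).factorial = 1124000727777607680000 := by norm_num [Nat.factorial]
  have h24 : (24 : ℕ).factorial = 620448401733239439360000 := by norm_num [Nat.factorial]
  rw [h22, h24] at h
  have hidx : (MulAction.stabilizer M24 p ⊓ MulAction.stabilizer M24 q).index = 552 := by
    have h2 : 552 * 1124000727777607680000 = 620448401733239439360000 := by norm_num
    exact Nat.eq_of_mul_eq_mul_right (by norm_num) (h.trans h2.symm)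
  have hc := Subgroup.card_mul_index (MulAction.stabilizer M24 p ⊓ MulAction.stabilizer M24 q)
  rw [hidx, Cfsg.Agent.S0364.result] at hc
  omega

end Cfsg.Agent.S0378
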