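import Cfsg.Statements.S2738

set_option autoImplicit false
open Cfsg

namespace Cfsg.Agent.S2738

open Matrix
open scoped Pointwise

theorem units_pow_three {F : Type*} [Field F] [Fintype F] (hF : Fintype.card F = 4) (u : Fˣ) : u ^ 3 = 1 := by
  classical
  have h := pow_card_eq_one (G := Fˣ) (x := u)
  rw [Fintype.card_units, hF] at h
  simpa using h

theorem pow_three_eq_one {F : Type*} [Field F] [Fintype F] (hF : Fintype.card F = 4) (w : F) (hw : w ≠ 0) :
    w ^ 3 = 1 := by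
  have := units_pow_three hF (Units.mk0 w hw)
  have h2 := congrArg Units.val this
  simpa using h2

theorem exists_omega {F : Type*} [Field F] [Fintype F] (hF : Fintype.card F = 4) :
    ∃ w : F, w ≠ 0 ∧ w ≠ 1 := by
  classical
  by_contra hcon
  have hcon' : ∀ w : F, w ≠ 0 → w = 1 := by
    intro w hw
    by_contra h1
    exact hcon ⟨w, hw, h1⟩
  have hsub : (Finset.univ : Finset F) ⊆ {0, 1} := by
    intro x _
    by_cases hx : x = 0
    · simp [hx]
    · simp [hcon' x hx]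
  have := Finset.card_le_card hsub
  rw [Finset.card_univ, hF] at this
  have h2 : ({0, 1} : Finset F).card ≤ 2 := Finset.card_le_two
  omega

/-- the diagonal matrix diag(1, w, w²) -/
def matA {F : Type*} [Field F] (w : F) (hw : w ^ 3 = 1) : Matrix.SpecialLinearGroup (Fin 3) F :=
  ⟨!![1, 0, 0; 0, w, 0; 0, 0, w ^ 2], by
    rw [Matrix.det_fin_three]; simp; rw [← hw]; ring⟩

/-- the cyclic permutation matrix -/
def matB (F : Type*) [Field F] : Matrix.SpecialLinearGroup (Fin 3) F :=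
  ⟨!![0, 1, 0; 0, 0, 1; 1, 0, 0], by
    rw [Matrix.det_fin_three]; simp⟩

/-- the scalar matrix w -/
def matC {F : Type*} [Field F] (w : F) (hw : w ^ 3 = 1) : Matrix.SpecialLinearGroup (Fin 3) F :=
  ⟨!![w, 0, 0; 0, w, 0; 0, 0, w], by
    rw [Matrix.det_fin_three]; simp; rw [← hw]; ring⟩

theorem mat_rel {F : Type*} [Field F] (w : F) (hw : w ^ 3 = 1) :
    (!![0, 1, 0; 0, 0, 1; 1, 0, 0] : Matrix (Fin 3) (Fin 3) F) * !![1, 0, 0; 0, w, 0; 0, 0, w ^ 2] =
      !![w, 0, 0; 0, w, 0; 0, 0, w] * (!![1, 0, 0; 0, w, 0; 0, 0, w ^ 2] * !![0, 1, 0; 0, 0, 1; 1, 0, 0]) := by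
  ext i j
  fin_cases i <;> fin_cases j <;> simp [Matrix.mul_apply, Fin.sum_univ_three]
  · ring
  · rw [← hw]; ring

theorem matB_mul_matA {F : Type*} [Field F] (w : F) (hw : w ^ 3 = 1) :
    matB F * matA w hw = matC w hw * (matA w hw * matB F) := by
  apply Subtype.ext
  rw [Matrix.SpecialLinearGroup.coe_mul, Matrix.SpecialLinearGroup.coe_mul, Matrix.SpecialLinearGroup.coe_mul]
  exact mat_rel w hw

theorem matC_mem_center {F : Type*} [Field F] (w : F) (hw : w ^ 3 = 1) :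
    matC w hw ∈ Subgroup.center (Matrix.SpecialLinearGroup (Fin 3) F) := by
  rw [Matrix.SpecialLinearGroup.mem_center_iff]
  refine ⟨w, by simpa using hw, ?_⟩
  ext i j
  fin_cases i <;> fin_cases j <;> simp [matC, Matrix.scalar_apply]

theorem matC_ne_one {F : Type*} [Field F] (w : F) (hw : w ^ 3 = 1) (h1 : w ≠ 1) :
    matC w hw ≠ 1 := by
  intro h
  have := congrArg (fun M : Matrix.SpecialLinearGroup (Fin 3) F => (M : Matrix (Fin 3) (Fin 3) F) 0 0) h
  simp [matC] at this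
  exact h1 this

theorem card_center {F : Type*} [Field F] [Fintype F] (hF : Fintype.card F = 4) :
    Nat.card ↥(Subgroup.center (Matrix.SpecialLinearGroup (Fin 3) F)) = 3 := by
  classical
  have e := Matrix.SpecialLinearGroup.center_equiv_rootsOfUnity' (n := Fin 3) (R := F) 0
  rw [Nat.card_congr e.toEquiv]
  have htop : rootsOfUnity (Fintype.card (Fin 3)) F = ⊤ := by
    rw [eq_top_iff]
    intro u _
    rw [mem_rootsOfUnity]
    simpa using units_pow_three hF u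
  rw [htop]
  rw [Nat.card_congr (Subgroup.topEquiv (G := Fˣ)).toEquiv, Nat.card_eq_fintype_card, Fintype.card_units, hF]

/-- The special linear group SL(3, 4) has centre of order 3 and does not split over it: no subgroup is a complement to the centre (so SL(3, 4) is a non-split central extension of PSL(3, 4) by a group of order 3). -/
theorem result (F : Type*) [Field F] [Fintype F] (hF : Fintype.card F = 4) : Nat.card ↥(Subgroup.center (Matrix.SpecialLinearGroup (Fin 3) F)) = 3 ∧ ¬ ∃ K : Subgroup (Matrix.SpecialLinearGroup (Fin 3) F), Subgroup.IsComplement' (Subgroup.center (Matrix.SpecialLinearGroup (Fin 3) F)) K := by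
  refine ⟨card_center hF, ?_⟩
  rintro ⟨K, hK⟩
  obtain ⟨w, hw0, hw1⟩ := exists_omega hF
  have hw := pow_three_eq_one hF w hw0
  have hmul := hK.mul_eq
  have hdecomp : ∀ g : Matrix.SpecialLinearGroup (Fin 3) F,
      ∃ z ∈ Subgroup.center (Matrix.SpecialLinearGroup (Fin 3) F), ∃ k ∈ K, g = z * k := by
    intro g
    have : g ∈ ((Subgroup.center (Matrix.SpecialLinearGroup (Fin 3) F) : Set (Matrix.SpecialLinearGroup (Fin 3) F)) *
        (K : Set (Matrix.SpecialLinearGroup (Fin 3) F))) := by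
      rw [hmul]; trivial
    obtain ⟨z, hz, k, hk, rfl⟩ := this
    exact ⟨z, hz, k, hk, rfl⟩
  obtain ⟨z₁, hz₁, k₁, hk₁, ha⟩ := hdecomp (matA w hw)
  obtain ⟨z₂, hz₂, k₂, hk₂, hb⟩ := hdecomp (matB F)
  have hrel := matB_mul_matA w hw
  rw [ha, hb] at hrel
  have c1 := Subgroup.mem_center_iff.mp hz₁
  have c2 := Subgroup.mem_center_iff.mp hz₂
  have hcK : matC w hw = k₂ * k₁ * k₂⁻¹ * k₁⁻¹ := by
    have h3 : matC w hw = (z₂ * k₂ * (z₁ * k₁)) * (z₁ * k₁ * (z₂ * k₂))⁻¹ := by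
      rw [hrel]; group
    rw [h3]
    have e1 : z₂ * k₂ * (z₁ * k₁) = z₁ * z₂ * (k₂ * k₁) := by
      calc z₂ * k₂ * (z₁ * k₁) = z₂ * (k₂ * z₁) * k₁ := by group
        _ = z₂ * (z₁ * k₂) * k₁ := by rw [c1 k₂]
        _ = (z₂ * z₁) * (k₂ * k₁) := by group
        _ = z₁ * z₂ * (k₂ * k₁) := by rw [c1 z₂]
    have e2 : z₁ * k₁ * (z₂ * k₂) = z₁ * z₂ * (k₁ * k₂) := by
      calc z₁ * k₁ * (z₂ * k₂) = z₁ * (k₁ * z₂) * k₂ := by group
        _ = z₁ * (z₂ * k₁) * k₂ := by rw [c2 k₁]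
        _ = z₁ * z₂ * (k₁ * k₂) := by group
    rw [e1, e2]
    have cZ : ∀ g, g * (z₁ * z₂) = (z₁ * z₂) * g :=
      Subgroup.mem_center_iff.mp (Subgroup.mul_mem _ hz₁ hz₂)
    calc z₁ * z₂ * (k₂ * k₁) * (z₁ * z₂ * (k₁ * k₂))⁻¹
        = ((z₁ * z₂) * (k₂ * k₁ * (k₁ * k₂)⁻¹)) * (z₁ * z₂)⁻¹ := by group
      _ = ((k₂ * k₁ * (k₁ * k₂)⁻¹) * (z₁ * z₂)) * (z₁ * z₂)⁻¹ := by rw [cZ]
      _ = k₂ * k₁ * k₂⁻¹ * k₁⁻¹ := by group
  have hcK' : matC w hw ∈ K := by
    rw [hcK]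
    exact K.mul_mem (K.mul_mem (K.mul_mem hk₂ hk₁) (K.inv_mem hk₂)) (K.inv_mem hk₁)
  have hdisj := hK.disjoint
  have : matC w hw ∈ Subgroup.center (Matrix.SpecialLinearGroup (Fin 3) F) ⊓ K := ⟨matC_mem_center w hw, hcK'⟩
  rw [hdisj.eq_bot] at this
  exact matC_ne_one w hw hw1 (Subgroup.mem_bot.mp this)

end Cfsg.Agent.S2738
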