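import Cfsg.Statements.S2739
import Cfsg.Agent.S2738
import Cfsg.Agent.Lib.Helper46_Mat3

set_option autoImplicit false
open scoped Pointwise
open Cfsg

namespace Cfsg.Agent.S2739

open Matrix Cfsg.Agent.Lib.Helper46_Mat3

section LinAlg

variable {F : Type*} [Field F]

theorem nonscalar_smul {x : Matrix (Fin 3) (Fin 3) F} (hns : ∀ c : F, x ≠ c • (1 : Matrix (Fin 3) (Fin 3) F))
    {a b : F} (h : a • x = b • (1 : Matrix (Fin 3) (Fin 3) F)) : a = 0 ∧ b = 0 := by
  by_cases ha : a = 0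
  · subst ha
    rw [zero_smul] at h
    refine ⟨rfl, ?_⟩
    have := congrFun (congrFun h 0) 0
    simpa using this.symm
  · exfalso
    apply hns (a⁻¹ * b)
    calc x = a⁻¹ • (a • x) := by rw [smul_smul, inv_mul_cancel₀ ha, one_smul]
      _ = (a⁻¹ * b) • (1 : Matrix (Fin 3) (Fin 3) F) := by rw [h, smul_smul]

theorem exists_eigvec {x : Matrix (Fin 3) (Fin 3) F} (htr : tr3 x = 0) (he2 : e2 x = 0)
    (hdet : x.det = 1) (μ : F) (hμ : μ ^ 3 = 1) :
    ∃ v : Fin 3 → F, v ≠ 0 ∧ x *ᵥ v = μ • v := by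
  have hd : (μ • (1 : Matrix (Fin 3) (Fin 3) F) - x).det = 0 := by
    rw [det_smul_one_sub, htr, he2, hdet, hμ]; ring
  obtain ⟨v, hv, hv0⟩ := Matrix.exists_mulVec_eq_zero_iff.mpr hd
  refine ⟨v, hv, ?_⟩
  rw [Matrix.sub_mulVec, Matrix.smul_mulVec, Matrix.one_mulVec, sub_eq_zero] at hv0
  exact hv0.symm

/-- A non-scalar `3 × 3` matrix of determinant one whose cube is a nonzero scalar cannot satisfy a
quadratic equation (over a field of characteristic two whose nonzero elements are cube roots of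
unity). -/
theorem no_quadratic (h2 : (2 : F) = 0) (hcube : ∀ a : F, a ≠ 0 → a ^ 3 = 1)
    {x : Matrix (Fin 3) (Fin 3) F} (hns : ∀ c : F, x ≠ c • (1 : Matrix (Fin 3) (Fin 3) F))
    (hdet : x.det = 1) {α β lam : F} (hlam : lam ≠ 0)
    (hq : x * x = α • x + β • (1 : Matrix (Fin 3) (Fin 3) F))
    (h3 : x * x * x = lam • (1 : Matrix (Fin 3) (Fin 3) F)) : False := by
  -- x³ = (α² + β) x + αβ
  have e1 : x * x * x = (α * α + β) • x + (α * β) • (1 : Matrix (Fin 3) (Fin 3) F) := by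
    rw [hq, add_mul, smul_mul_assoc, smul_mul_assoc, one_mul, hq, smul_add, smul_smul, smul_smul,
      add_smul]
    abel
  have e2' : (α * α + β) • x = (lam - α * β) • (1 : Matrix (Fin 3) (Fin 3) F) := by
    rw [sub_smul, ← h3, e1]; abel
  obtain ⟨hβ, hl⟩ := nonscalar_smul hns e2'
  have hα : α ≠ 0 := by
    rintro rfl
    apply hlam
    have : lam = 0 := by linear_combination hl
    exact this
  have hα3 := hcube α hα
  -- Cayley–Hamilton
  have ch := cayley3 x
  rw [h3, hq, hdet] at ch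
  have e3 : (tr3 x * α - e2 x) • x =
      (lam - tr3 x * β - 1) • (1 : Matrix (Fin 3) (Fin 3) F) := by
    rw [sub_smul, sub_smul, sub_smul, ch, smul_add, smul_smul, smul_smul]
    abel
  obtain ⟨h5, h6⟩ := nonscalar_smul hns e3
  have hβ' : β = α * α := by linear_combination hβ - α * α * h2
  have hlam1 : lam = 1 := by
    have : lam = α * β := by linear_combination hl
    rw [this, hβ']
    linear_combination hα3
  have htr : tr3 x = 0 := by
    have h7 : tr3 x * (α * α) = 0 := by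
      rw [hβ', hlam1] at h6
      linear_combination -h6
    rcases mul_eq_zero.mp h7 with h | h
    · exact h
    · exact absurd (mul_self_eq_zero.mp h) hα
  have he2 : e2 x = 0 := by
    rw [htr] at h5
    linear_combination -h5
  obtain ⟨v, hv, hxv⟩ := exists_eigvec htr he2 hdet α hα3
  have hxx : (x * x) *ᵥ v = (α * α) • v := by
    rw [← Matrix.mulVec_mulVec, hxv, Matrix.mulVec_smul, hxv, smul_smul]
  rw [hq, Matrix.add_mulVec, Matrix.smul_mulVec, Matrix.smul_mulVec, Matrix.one_mulVec, hxv,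
    smul_smul, hβ'] at hxx
  have h8 : (α * α) • v = 0 := by
    have : (α * α) • v + (α * α) • v = (α * α) • v := hxx
    have h9 : (α * α) • v + (α * α) • v = 0 := by
      rw [← add_smul, ← two_mul, h2, zero_mul, zero_smul]
    rw [h9] at this
    exact this.symm
  rcases smul_eq_zero.mp h8 with h | h
  · exact hα (mul_self_eq_zero.mp h)
  · exact hv h

/-- The characteristic polynomial of a non-scalar `x` of determinant one with scalar cube is
`t³ - 1`. -/
theorem charpoly_data (h2 : (2 : F) = 0) (hcube : ∀ a : F, a ≠ 0 → a ^ 3 = 1)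
    {x : Matrix (Fin 3) (Fin 3) F} (hns : ∀ c : F, x ≠ c • (1 : Matrix (Fin 3) (Fin 3) F))
    (hdet : x.det = 1) {lam : F} (hlam : lam ≠ 0)
    (h3 : x * x * x = lam • (1 : Matrix (Fin 3) (Fin 3) F)) :
    tr3 x = 0 ∧ e2 x = 0 := by
  have ch := cayley3 x
  rw [h3, hdet] at ch
  by_cases htr : tr3 x = 0
  · refine ⟨htr, ?_⟩
    rw [htr, zero_smul, zero_sub] at ch
    have e3 : (e2 x) • x = (1 - lam) • (1 : Matrix (Fin 3) (Fin 3) F) := by
      rw [sub_smul, ch]; abel
    exact (nonscalar_smul hns e3).1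
  · exfalso
    have hq : x * x = ((tr3 x)⁻¹ * e2 x) • x +
        ((tr3 x)⁻¹ * (lam - 1)) • (1 : Matrix (Fin 3) (Fin 3) F) := by
      have e4 : tr3 x • (x * x) = e2 x • x + (lam - 1) • (1 : Matrix (Fin 3) (Fin 3) F) := by
        rw [sub_smul, ch]; abel
      calc x * x = (tr3 x)⁻¹ • (tr3 x • (x * x)) := by
            rw [smul_smul, inv_mul_cancel₀ htr, one_smul]
        _ = _ := by rw [e4, smul_add, smul_smul, smul_smul]
    exact no_quadratic h2 hcube hns hdet hlam hq h3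

/-- From eigenvectors for `1, ω, ω²` to a conjugating matrix of determinant one. -/
theorem exists_conj (h2 : (2 : F) = 0) (ω : F) (hω : ω ^ 2 + ω + 1 = 0)
    {x : Matrix (Fin 3) (Fin 3) F} (v0 v1 v2 : Fin 3 → F) (hv0 : v0 ≠ 0) (hv1 : v1 ≠ 0)
    (hv2 : v2 ≠ 0) (hx0 : x *ᵥ v0 = (1 : F) • v0) (hx1 : x *ᵥ v1 = ω • v1)
    (hx2 : x *ᵥ v2 = (ω ^ 2) • v2) :
    ∃ g : Matrix (Fin 3) (Fin 3) F, g.det = 1 ∧
      x * g = g * Matrix.diagonal ![1, ω, ω ^ 2] := by
  set g₀ : Matrix (Fin 3) (Fin 3) F := Matrix.of fun r c => ![v0, v1, v2] c r with hg₀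
  set D : Matrix (Fin 3) (Fin 3) F := Matrix.diagonal ![1, ω, ω ^ 2] with hD
  have hxg : x * g₀ = g₀ * D := by
    ext r c
    rw [Matrix.mul_diagonal]
    have e0 := congrFun hx0 r
    have e1 := congrFun hx1 r
    have e2 := congrFun hx2 r
    simp only [Matrix.mulVec, dotProduct, Fin.sum_univ_three, Pi.smul_apply, smul_eq_mul] at e0 e1 e2
    fin_cases c
    · simp only [Matrix.mul_apply, Fin.sum_univ_three, hg₀, Matrix.of_apply]
      simpa using e0
    · simp only [Matrix.mul_apply, Fin.sum_univ_three, hg₀, Matrix.of_apply]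
      simp only [Fin.mk_one, Matrix.cons_val_one, Matrix.cons_val_zero]
      rw [e1]; ring
    · simp only [Matrix.mul_apply, Fin.sum_univ_three, hg₀, Matrix.of_apply]
      simp only [Fin.reduceFinMk, Matrix.cons_val_two, Matrix.tail_cons, Matrix.head_cons]
      rw [e2]; ring
  have hdet : g₀.det ≠ 0 := by
    intro hd
    obtain ⟨c, hc, hc0⟩ := Matrix.exists_mulVec_eq_zero_iff.mpr hd
    have hc1 : g₀ *ᵥ (D *ᵥ c) = 0 := by
      rw [Matrix.mulVec_mulVec, ← hxg, ← Matrix.mulVec_mulVec, hc0, Matrix.mulVec_zero]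
    have hc2 : g₀ *ᵥ (D *ᵥ (D *ᵥ c)) = 0 := by
      rw [Matrix.mulVec_mulVec, ← hxg, ← Matrix.mulVec_mulVec, hc1, Matrix.mulVec_zero]
    have key : ∀ r : Fin 3, c 0 * v0 r = 0 ∧ c 1 * v1 r = 0 ∧ c 2 * v2 r = 0 := by
      intro r
      have a0 := congrFun hc0 r
      have a1 := congrFun hc1 r
      have a2 := congrFun hc2 r
      simp only [Matrix.mulVec, dotProduct, Fin.sum_univ_three, hg₀, hD, Matrix.of_apply,
        Matrix.diagonal_apply, Pi.zero_apply] at a0 a1 a2
      simp at a0 a1 a2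
      refine ⟨?_, ?_, ?_⟩
      · linear_combination a0 + a1 + a2 - (c 0 * v0 r) * h2 - (c 1 * v1 r) * hω
          - (c 2 * v2 r) * (1 + ω ^ 2 - ω) * hω
      · linear_combination a0 + ω ^ 2 * a1 + ω * a2 - (c 0 * v0 r) * hω
          - (ω ^ 3 * (c 1 * v1 r)) * h2 - (c 2 * v2 r) * (ω ^ 3 - ω + 1) * hω
      · linear_combination a0 + ω * a1 + ω ^ 2 * a2 - (c 0 * v0 r) * hω
          - (c 1 * v1 r) * (1 + ω ^ 2 - ω) * hω - (c 2 * v2 r) * h2
          - (c 2 * v2 r) * ((ω - 1) * (ω ^ 3 + 2)) * hω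
    have hcz : ∀ (w : Fin 3 → F) (a : F), w ≠ 0 → (∀ r, a * w r = 0) → a = 0 := by
      intro w a hw h
      by_contra ha
      apply hw
      funext r
      rcases mul_eq_zero.mp (h r) with h' | h'
      · exact absurd h' ha
      · exact h'
    apply hc
    funext j
    fin_cases j
    · exact hcz v0 (c 0) hv0 (fun r => (key r).1)
    · exact hcz v1 (c 1) hv1 (fun r => (key r).2.1)
    · exact hcz v2 (c 2) hv2 (fun r => (key r).2.2)
  set s : Matrix (Fin 3) (Fin 3) F := Matrix.diagonal ![(g₀.det)⁻¹, 1, 1] with hs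
  refine ⟨g₀ * s, ?_, ?_⟩
  · rw [Matrix.det_mul, hs, Matrix.det_diagonal, Fin.prod_univ_three]
    simp [hdet]
  · have hcomm : D * s = s * D := by
      rw [hD, hs, Matrix.diagonal_mul_diagonal, Matrix.diagonal_mul_diagonal]
      congr 1
      funext i
      ring
    rw [← Matrix.mul_assoc, hxg, Matrix.mul_assoc, hcomm, ← Matrix.mul_assoc]

end LinAlg

section Grp

variable {F : Type*} [Field F] [Fintype F]

theorem two_eq_zero (hF : Fintype.card F = 4) : (2 : F) = 0 := by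
  have h4 : ((Fintype.card F : ℕ) : F) = 0 := Nat.cast_card_eq_zero F
  rw [hF] at h4
  have h5 : (2 : F) * 2 = 0 := by
    have : ((4 : ℕ) : F) = 2 * 2 := by norm_num
    rw [← this]; exact h4
  exact mul_self_eq_zero.mp h5

theorem omega_rel (hF : Fintype.card F = 4) (ω : F) (hω0 : ω ≠ 0) (hω1 : ω ≠ 1) :
    ω ^ 2 + ω + 1 = 0 := by
  have h3 := Cfsg.Agent.S2738.pow_three_eq_one hF ω hω0
  have h : (ω - 1) * (ω ^ 2 + ω + 1) = 0 := by linear_combination h3
  rcases mul_eq_zero.mp h with h' | h'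
  · exact absurd (sub_eq_zero.mp h') hω1
  · exact h'

/-- typed constructor for elements of `SL₃` -/
def mkSL3 (g : Matrix (Fin 3) (Fin 3) F) (h : g.det = 1) : Matrix.SpecialLinearGroup (Fin 3) F :=
  ⟨g, h⟩

omit [Fintype F] in
theorem coe_mkSL3 (g : Matrix (Fin 3) (Fin 3) F) (h : g.det = 1) :
    ((mkSL3 g h : Matrix.SpecialLinearGroup (Fin 3) F) : Matrix (Fin 3) (Fin 3) F) = g := rfl

omit [Fintype F] in
theorem matA_coe (ω : F) (hw : ω ^ 3 = 1) :
    ((Cfsg.Agent.S2738.matA ω hw : Matrix.SpecialLinearGroup (Fin 3) F) : Matrix (Fin 3) (Fin 3) F) =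
      Matrix.diagonal ![1, ω, ω ^ 2] := by
  ext i j
  fin_cases i <;> fin_cases j <;> simp [Cfsg.Agent.S2738.matA]

/-- Normal form: a noncentral element of `SL₃(4)` with central cube is conjugate to
`diag(1, ω, ω²)`. -/
theorem normal_form (hF : Fintype.card F = 4) (ω : F) (hω0 : ω ≠ 0) (hω1 : ω ≠ 1)
    (hw : ω ^ 3 = 1) (x : Matrix.SpecialLinearGroup (Fin 3) F)
    (hxc : x ∉ Subgroup.center (Matrix.SpecialLinearGroup (Fin 3) F))
    (hx3 : x ^ 3 ∈ Subgroup.center (Matrix.SpecialLinearGroup (Fin 3) F)) :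
    ∃ g : Matrix.SpecialLinearGroup (Fin 3) F, x * g = g * Cfsg.Agent.S2738.matA ω hw := by
  have h2 := two_eq_zero hF
  have hω := omega_rel hF ω hω0 hω1
  have hcube : ∀ a : F, a ≠ 0 → a ^ 3 = 1 := Cfsg.Agent.S2738.pow_three_eq_one hF
  rw [Matrix.SpecialLinearGroup.mem_center_iff] at hx3
  obtain ⟨lam, hlam3, hlam⟩ := hx3
  have hlam0 : lam ≠ 0 := by
    rintro rfl
    simp at hlam3
  have h3 : (x : Matrix (Fin 3) (Fin 3) F) * x * x = lam • (1 : Matrix (Fin 3) (Fin 3) F) := by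
    have : ((x ^ 3 : Matrix.SpecialLinearGroup (Fin 3) F) : Matrix (Fin 3) (Fin 3) F) =
        (x : Matrix (Fin 3) (Fin 3) F) * x * x := by
      rw [Matrix.SpecialLinearGroup.coe_pow, pow_succ, pow_two]
    rw [← this, ← hlam, Matrix.smul_one_eq_diagonal]
    rfl
  have hns : ∀ c : F, (x : Matrix (Fin 3) (Fin 3) F) ≠ c • (1 : Matrix (Fin 3) (Fin 3) F) := by
    intro c hc
    apply hxc
    rw [Matrix.SpecialLinearGroup.mem_center_iff]
    refine ⟨c, ?_, ?_⟩
    · have hd := x.det_coe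
      rw [hc, Matrix.det_smul, Matrix.det_one, mul_one] at hd
      exact hd
    · rw [hc, Matrix.smul_one_eq_diagonal]
      rfl
  obtain ⟨htr, he2⟩ := charpoly_data h2 hcube hns x.det_coe hlam0 h3
  obtain ⟨v0, hv0, hx0⟩ := exists_eigvec htr he2 x.det_coe 1 (one_pow 3)
  obtain ⟨v1, hv1, hx1⟩ := exists_eigvec htr he2 x.det_coe ω hw
  obtain ⟨v2, hv2, hx2⟩ := exists_eigvec htr he2 x.det_coe (ω ^ 2) (by rw [← pow_mul, mul_comm, pow_mul, hw, one_pow])
  obtain ⟨g, hgdet, hg⟩ := exists_conj h2 ω hω v0 v1 v2 hv0 hv1 hv2 hx0 hx1 hx2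
  refine ⟨mkSL3 g hgdet, ?_⟩
  apply Subtype.ext
  rw [Matrix.SpecialLinearGroup.coe_mul, Matrix.SpecialLinearGroup.coe_mul, matA_coe, coe_mkSL3]
  exact hg

omit [Fintype F] in
/-- A subgroup of order three of `PSL₃(4)` is generated by the image of a noncentral element with
central cube. -/
theorem exists_gen (X : Subgroup (Matrix.ProjectiveSpecialLinearGroup (Fin 3) F))
    (hX : Nat.card ↥X = 3) :
    ∃ x : Matrix.SpecialLinearGroup (Fin 3) F,
      x ∉ Subgroup.center (Matrix.SpecialLinearGroup (Fin 3) F) ∧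
      x ^ 3 ∈ Subgroup.center (Matrix.SpecialLinearGroup (Fin 3) F) ∧
      X = Subgroup.zpowers (QuotientGroup.mk x : Matrix.ProjectiveSpecialLinearGroup (Fin 3) F) := by
  have hne : X ≠ ⊥ := by
    intro h
    rw [h, Subgroup.card_bot] at hX
    omega
  obtain ⟨⟨xb, hxb⟩, hxb1⟩ := (Subgroup.ne_bot_iff_exists_ne_one).mp hne
  have hxb1' : xb ≠ 1 := fun h => hxb1 (Subtype.ext h)
  have hle : Subgroup.zpowers xb ≤ X := by
    rw [Subgroup.zpowers_le]; exact hxb
  have hfin : Finite ↥X := Nat.finite_of_card_ne_zero (by rw [hX]; norm_num)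
  have hdvd : Nat.card (Subgroup.zpowers xb) ∣ 3 := by
    have := Subgroup.card_dvd_of_le hle
    rwa [hX] at this
  have hcard : Nat.card (Subgroup.zpowers xb) = 3 := by
    rcases (Nat.dvd_prime Nat.prime_three).mp hdvd with h | h
    · exfalso
      apply hxb1'
      have := Subgroup.card_eq_one.mp h
      rw [Subgroup.zpowers_eq_bot] at this
      exact this
    · exact h
  have heq : Subgroup.zpowers xb = X :=
    Subgroup.eq_of_le_of_card_ge hle (by rw [hcard, hX])
  obtain ⟨x, rfl⟩ := QuotientGroup.mk_surjective xb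
  refine ⟨x, ?_, ?_, heq.symm⟩
  · intro hc
    apply hxb1'
    exact (QuotientGroup.eq_one_iff x).mpr hc
  · rw [← QuotientGroup.eq_one_iff, QuotientGroup.mk_pow]
    rw [Nat.card_zpowers] at hcard
    have := pow_orderOf_eq_one (QuotientGroup.mk x : Matrix.ProjectiveSpecialLinearGroup (Fin 3) F)
    rw [hcard] at this
    exact this

end Grp

/-- In the projective special linear group PSL(3, 4) all subgroups of order 3 are conjugate. -/
theorem result (F : Type*) [Field F] [Fintype F] (hF : Fintype.card F = 4) (X Y : Subgroup (Matrix.ProjectiveSpecialLinearGroup (Fin 3) F)) (hX : Nat.card ↥X = 3) (hY : Nat.card ↥Y = 3) : ∃ g : Matrix.ProjectiveSpecialLinearGroup (Fin 3) F, MulAut.conj g • X = Y := by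
  obtain ⟨ω, hω0, hω1⟩ := Cfsg.Agent.S2738.exists_omega hF
  have hw := Cfsg.Agent.S2738.pow_three_eq_one hF ω hω0
  obtain ⟨x, hxc, hx3, rfl⟩ := exists_gen X hX
  obtain ⟨y, hyc, hy3, rfl⟩ := exists_gen Y hY
  obtain ⟨gx, hgx⟩ := normal_form hF ω hω0 hω1 hw x hxc hx3
  obtain ⟨gy, hgy⟩ := normal_form hF ω hω0 hω1 hw y hyc hy3
  have hconj : (gy * gx⁻¹) * x * (gy * gx⁻¹)⁻¹ = y := by
    have e1 : x = gx * Cfsg.Agent.S2738.matA ω hw * gx⁻¹ := by
      rw [← hgx]; group
    have e2 : y = gy * Cfsg.Agent.S2738.matA ω hw * gy⁻¹ := by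
      rw [← hgy]; group
    rw [e2, e1]; group
  refine ⟨QuotientGroup.mk (gy * gx⁻¹), ?_⟩
  rw [Subgroup.pointwise_smul_def]
  change Subgroup.map (MulAut.conj (QuotientGroup.mk (gy * gx⁻¹))).toMonoidHom _ = _
  rw [MonoidHom.map_zpowers]
  congr 1
  rw [← hconj]
  simp only [MulEquiv.toMonoidHom_eq_coe, MonoidHom.coe_coe, MulAut.conj_apply, QuotientGroup.mk_mul,
    QuotientGroup.mk_inv]

end Cfsg.Agent.S2739
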