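import Cfsg.Statements.S2550
import Cfsg.Agent.S2739
import Cfsg.Agent.Lib.Helper5_PSLCard

set_option autoImplicit false
open scoped Pointwise
open Cfsg

namespace Cfsg.Agent.S2550

open Matrix

section Card

theorem card_PSL42 {F : Type*} [Field F] [Fintype F] (hF : Fintype.card F = 2) :
    Nat.card (Matrix.ProjectiveSpecialLinearGroup (Fin 4) F) = 20160 := by
  have h1 := Cfsg.Agent.Lib.Helper5_PSLCard.card_PSL_mul (F := F) 4 (by norm_num)
  have h2 := Cfsg.Agent.Lib.Helper5_SLCard.card_GL_eq_card_SL_mul (F := F) 4 (by norm_num)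
  have h3 := Matrix.card_GL_field (𝔽 := F) (n := 4)
  rw [hF] at h1 h2 h3
  rw [Fin.prod_univ_four] at h3
  norm_num at h1 h2 h3
  omega

theorem card_PSL34 {K : Type*} [Field K] [Fintype K] (hK : Fintype.card K = 4) :
    Nat.card (Matrix.ProjectiveSpecialLinearGroup (Fin 3) K) = 20160 := by
  have h1 := Cfsg.Agent.Lib.Helper5_PSLCard.card_PSL_mul (F := K) 3 (by norm_num)
  have h2 := Cfsg.Agent.Lib.Helper5_SLCard.card_GL_eq_card_SL_mul (F := K) 3 (by norm_num)
  have h3 := Matrix.card_GL_field (𝔽 := K) (n := 3)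
  rw [hK] at h1 h2 h3
  rw [Fin.prod_univ_three] at h3
  norm_num at h1 h2 h3
  omega

end Card

section NonIso

variable {F : Type*} [Field F] [Fintype F]

theorem two_eq_zero (hF : Fintype.card F = 2) : (2 : F) = 0 := by
  have h : ((Fintype.card F : ℕ) : F) = 0 := Nat.cast_card_eq_zero F
  rw [hF] at h
  exact_mod_cast h

theorem zero_or_one (hF : Fintype.card F = 2) (a : F) : a = 0 ∨ a = 1 := by
  have h := FiniteField.pow_card a
  rw [hF] at h
  have h' : a * (a - 1) = 0 := by linear_combination h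
  rcases mul_eq_zero.mp h' with h1 | h1
  · exact Or.inl h1
  · exact Or.inr (sub_eq_zero.mp h1)

/-- `diag(C, 1, 1)` with `C` the companion matrix of `t² + t + 1` -/
def M1 (F : Type*) [Field F] : Matrix (Fin 4) (Fin 4) F :=
  !![0, 1, 0, 0; 1, 1, 0, 0; 0, 0, 1, 0; 0, 0, 0, 1]

/-- `diag(C, C)` -/
def M2 (F : Type*) [Field F] : Matrix (Fin 4) (Fin 4) F :=
  !![0, 1, 0, 0; 1, 1, 0, 0; 0, 0, 0, 1; 0, 0, 1, 1]

omit [Fintype F] in
theorem M1_cube (h2 : (2 : F) = 0) : M1 F * M1 F * M1 F = 1 := by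
  have h2' : (1 : F) + 1 = 0 := by rw [one_add_one_eq_two]; exact h2
  ext i j
  fin_cases i <;> fin_cases j <;>
    simp [M1, Matrix.mul_apply, Fin.sum_univ_four, h2']

omit [Fintype F] in
theorem M2_cube (h2 : (2 : F) = 0) : M2 F * M2 F * M2 F = 1 := by
  have h2' : (1 : F) + 1 = 0 := by rw [one_add_one_eq_two]; exact h2
  ext i j
  fin_cases i <;> fin_cases j <;>
    simp [M2, Matrix.mul_apply, Fin.sum_univ_four, h2']

theorem det_of_cube (hF : Fintype.card F = 2) (M : Matrix (Fin 4) (Fin 4) F) (h : M * M * M = 1) :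
    M.det = 1 := by
  rcases zero_or_one hF M.det with h0 | h1
  · exfalso
    have := congrArg Matrix.det h
    rw [Matrix.det_mul, Matrix.det_mul, h0, Matrix.det_one] at this
    simp at this
  · exact h1

/-- typed constructor -/
def mkSL4 (M : Matrix (Fin 4) (Fin 4) F) (h : M.det = 1) : Matrix.SpecialLinearGroup (Fin 4) F :=
  ⟨M, h⟩

omit [Fintype F] in
theorem coe_mkSL4 (M : Matrix (Fin 4) (Fin 4) F) (h : M.det = 1) :
    ((mkSL4 M h : Matrix.SpecialLinearGroup (Fin 4) F) : Matrix (Fin 4) (Fin 4) F) = M := rfl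

theorem center_trivial (hF : Fintype.card F = 2) (z : Matrix.SpecialLinearGroup (Fin 4) F)
    (hz : z ∈ Subgroup.center (Matrix.SpecialLinearGroup (Fin 4) F)) : z = 1 := by
  rw [Matrix.SpecialLinearGroup.mem_center_iff] at hz
  obtain ⟨r, hr, hrz⟩ := hz
  rcases zero_or_one hF r with h0 | h1
  · subst h0
    simp at hr
  · subst h1
    apply Subtype.ext
    rw [← hrz]
    simp

omit [Fintype F] in
/-- `M2` has no nonzero fixed vector. -/
theorem M2_fix (w : Fin 4 → F) (hw : M2 F *ᵥ w = w) : w = 0 := by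
  have e0 := congrFun hw 0
  have e1 := congrFun hw 1
  have e2 := congrFun hw 2
  have e3 := congrFun hw 3
  simp [M2, Matrix.mulVec, dotProduct, Fin.sum_univ_four] at e0 e1 e2 e3
  funext i
  fin_cases i
  · show w 0 = 0
    linear_combination e1
  · show w 1 = 0
    linear_combination e0 + e1
  · show w 2 = 0
    linear_combination e3
  · show w 3 = 0
    linear_combination e2 + e3

omit [Fintype F] in
theorem M1_fix : M1 F *ᵥ (Pi.single 2 1 : Fin 4 → F) = Pi.single 2 1 := by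
  funext i
  fin_cases i <;> simp [M1, Matrix.mulVec, dotProduct, Pi.single_apply]

/-- the two elements of order three -/
noncomputable def m1 (hF : Fintype.card F = 2) : Matrix.SpecialLinearGroup (Fin 4) F :=
  mkSL4 (M1 F) (det_of_cube hF _ (M1_cube (two_eq_zero hF)))

noncomputable def m2 (hF : Fintype.card F = 2) : Matrix.SpecialLinearGroup (Fin 4) F :=
  mkSL4 (M2 F) (det_of_cube hF _ (M2_cube (two_eq_zero hF)))

theorem m1_pow (hF : Fintype.card F = 2) : m1 hF ^ 3 = 1 := by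
  apply Subtype.ext
  rw [Matrix.SpecialLinearGroup.coe_pow, pow_succ, pow_two]
  exact M1_cube (two_eq_zero hF)

theorem m2_pow (hF : Fintype.card F = 2) : m2 hF ^ 3 = 1 := by
  apply Subtype.ext
  rw [Matrix.SpecialLinearGroup.coe_pow, pow_succ, pow_two]
  exact M2_cube (two_eq_zero hF)

theorem m1_ne_one (hF : Fintype.card F = 2) : m1 hF ≠ 1 := by
  intro h
  have := congrArg (fun M : Matrix.SpecialLinearGroup (Fin 4) F => (M : Matrix (Fin 4) (Fin 4) F) 0 0) h
  simp [m1, coe_mkSL4, M1] at this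

theorem m2_ne_one (hF : Fintype.card F = 2) : m2 hF ≠ 1 := by
  intro h
  have := congrArg (fun M : Matrix.SpecialLinearGroup (Fin 4) F => (M : Matrix (Fin 4) (Fin 4) F) 0 0) h
  simp [m2, coe_mkSL4, M2] at this

theorem mk_eq_iff (hF : Fintype.card F = 2) (a b : Matrix.SpecialLinearGroup (Fin 4) F) :
    (QuotientGroup.mk a : Matrix.ProjectiveSpecialLinearGroup (Fin 4) F) = QuotientGroup.mk b ↔
      a = b := by
  constructor
  · intro h
    rw [QuotientGroup.eq] at h
    have := center_trivial hF _ h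
    calc a = a * (a⁻¹ * b) := by rw [this, mul_one]
      _ = b := by group
  · rintro rfl; rfl

theorem orderOf_mk (hF : Fintype.card F = 2) (m : Matrix.SpecialLinearGroup (Fin 4) F)
    (h3 : m ^ 3 = 1) (h1 : m ≠ 1) :
    orderOf (QuotientGroup.mk m : Matrix.ProjectiveSpecialLinearGroup (Fin 4) F) = 3 := by
  have : Fact (Nat.Prime 3) := ⟨Nat.prime_three⟩
  apply orderOf_eq_prime
  · rw [← QuotientGroup.mk_pow, h3]; rfl
  · intro h
    apply h1
    exact (mk_eq_iff hF m 1).mp h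

/-- conjugates of `m1` have a nonzero fixed vector -/
theorem conj_fix (hF : Fintype.card F = 2) (g : Matrix.SpecialLinearGroup (Fin 4) F) :
    ∃ w : Fin 4 → F, w ≠ 0 ∧
      ((g * m1 hF * g⁻¹ : Matrix.SpecialLinearGroup (Fin 4) F) : Matrix (Fin 4) (Fin 4) F) *ᵥ w = w := by
  refine ⟨(g : Matrix (Fin 4) (Fin 4) F) *ᵥ (Pi.single 2 1), ?_, ?_⟩
  · intro h0
    have h1 : ((g⁻¹ * g : Matrix.SpecialLinearGroup (Fin 4) F) : Matrix (Fin 4) (Fin 4) F) *ᵥ
        (Pi.single 2 1 : Fin 4 → F) = 0 := by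
      rw [Matrix.SpecialLinearGroup.coe_mul, ← Matrix.mulVec_mulVec, h0, Matrix.mulVec_zero]
    rw [inv_mul_cancel, Matrix.SpecialLinearGroup.coe_one, Matrix.one_mulVec] at h1
    have := congrFun h1 2
    simp at this
  · rw [Matrix.mulVec_mulVec, ← Matrix.SpecialLinearGroup.coe_mul]
    have : g * m1 hF * g⁻¹ * g = g * m1 hF := by group
    rw [this, Matrix.SpecialLinearGroup.coe_mul, ← Matrix.mulVec_mulVec]
    congr 1
    exact M1_fix

theorem not_conj (hF : Fintype.card F = 2) (g : Matrix.ProjectiveSpecialLinearGroup (Fin 4) F) :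
    g * QuotientGroup.mk (m1 hF) * g⁻¹ ∉
      Subgroup.zpowers (QuotientGroup.mk (m2 hF) : Matrix.ProjectiveSpecialLinearGroup (Fin 4) F) := by
  intro hmem
  obtain ⟨g, rfl⟩ := QuotientGroup.mk_surjective g
  obtain ⟨k, hk⟩ := Subgroup.mem_zpowers_iff.mp hmem
  have ho := orderOf_mk hF (m2 hF) (m2_pow hF) (m2_ne_one hF)
  have hk' := zpow_mod_orderOf (QuotientGroup.mk (m2 hF) : Matrix.ProjectiveSpecialLinearGroup (Fin 4) F) k
  rw [ho] at hk'
  rw [← hk'] at hk
  simp only [Nat.cast_ofNat] at hk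
  have hnn : 0 ≤ k % 3 := Int.emod_nonneg k (by norm_num)
  have hlt : k % 3 < 3 := Int.emod_lt_of_pos k (by norm_num)
  obtain ⟨w, hw0, hw⟩ := conj_fix hF g
  obtain ⟨j, hj⟩ := Int.eq_ofNat_of_zero_le hnn
  rw [hj, zpow_natCast, ← QuotientGroup.mk_pow, ← QuotientGroup.mk_inv, ← QuotientGroup.mk_mul,
    ← QuotientGroup.mk_mul, mk_eq_iff hF] at hk
  have hj3 : j < 3 := by omega
  rw [← hk] at hw
  interval_cases j
  · rw [pow_zero, Matrix.SpecialLinearGroup.coe_one, Matrix.one_mulVec] at hw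
    -- trivial fixed vector statement: need another contradiction: g m1 g⁻¹ = 1
    have h1 : m1 hF = 1 := by
      have : g * m1 hF * g⁻¹ = 1 := by rw [← hk, pow_zero]
      calc m1 hF = g⁻¹ * (g * m1 hF * g⁻¹) * g := by group
        _ = 1 := by rw [this]; group
    exact m1_ne_one hF h1
  · rw [pow_one] at hw
    exact hw0 (M2_fix w hw)
  · rw [pow_two, Matrix.SpecialLinearGroup.coe_mul, ← Matrix.mulVec_mulVec] at hw
    apply hw0
    apply M2_fix
    have hc := M2_cube (two_eq_zero hF)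
    calc M2 F *ᵥ w = M2 F *ᵥ ((m2 hF : Matrix (Fin 4) (Fin 4) F) *ᵥ ((m2 hF : Matrix (Fin 4) (Fin 4) F) *ᵥ w)) := by rw [hw]
      _ = (M2 F * M2 F * M2 F) *ᵥ w := by
          rw [Matrix.mulVec_mulVec, Matrix.mulVec_mulVec]; rfl
      _ = w := by rw [hc, Matrix.one_mulVec]

end NonIso

/-- Let F be a field with 2 elements and K a field with 4 elements. PSL_4(F) and PSL_3(K) have the same order (20160) but are not isomorphic. -/
theorem result {F K : Type*} [Field F] [Fintype F] [Field K] [Fintype K] (hF : Fintype.card F = 2) (hK : Fintype.card K = 4) : Nat.card (Matrix.ProjectiveSpecialLinearGroup (Fin 4) F) = Nat.card (Matrix.ProjectiveSpecialLinearGroup (Fin 3) K) ∧ ¬ Nonempty (Matrix.ProjectiveSpecialLinearGroup (Fin 4) F ≃* Matrix.ProjectiveSpecialLinearGroup (Fin 3) K) := by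
  refine ⟨by rw [card_PSL42 hF, card_PSL34 hK], ?_⟩
  rintro ⟨e⟩
  set x1 : Matrix.ProjectiveSpecialLinearGroup (Fin 4) F := QuotientGroup.mk (m1 hF) with hx1
  set x2 : Matrix.ProjectiveSpecialLinearGroup (Fin 4) F := QuotientGroup.mk (m2 hF) with hx2
  have hc1 : Nat.card (Subgroup.zpowers (e x1)) = 3 := by
    rw [Nat.card_zpowers, MulEquiv.orderOf_eq]
    exact orderOf_mk hF _ (m1_pow hF) (m1_ne_one hF)
  have hc2 : Nat.card (Subgroup.zpowers (e x2)) = 3 := by
    rw [Nat.card_zpowers, MulEquiv.orderOf_eq]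
    exact orderOf_mk hF _ (m2_pow hF) (m2_ne_one hF)
  obtain ⟨h, hh⟩ := Cfsg.Agent.S2739.result K hK _ _ hc1 hc2
  have hmem : h * e x1 * h⁻¹ ∈ Subgroup.zpowers (e x2) := by
    rw [← hh]
    have := Subgroup.smul_mem_pointwise_smul (e x1) (MulAut.conj h) (Subgroup.zpowers (e x1))
      (Subgroup.mem_zpowers _)
    simpa [MulAut.smul_def] using this
  obtain ⟨k, hk⟩ := Subgroup.mem_zpowers_iff.mp hmem
  apply not_conj hF (e.symm h)
  rw [Subgroup.mem_zpowers_iff]
  refine ⟨k, ?_⟩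
  apply e.injective
  rw [map_zpow, hk, map_mul, map_mul, map_inv, e.apply_symm_apply]

end Cfsg.Agent.S2550
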