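import Cfsg.Statements.S1600
import Cfsg.Agent.S0384
import Cfsg.Agent.Lib.Helper27_M12Three

set_option autoImplicit false
open scoped Pointwise
open Cfsg

namespace Cfsg.Agent.S1600

open Cfsg.Agent.Lib.Helper26_Golay Cfsg.Agent.Lib.Helper27_M12Three

/-- a duplicate-free list of five points as an embedding -/
def embOfList (l : List GolayPt) (hl : l.Nodup) (h5 : l.length = 5) : Fin 5 ↪ GolayPt :=
  ⟨fun i => l.get (Fin.cast h5.symm i), fun i j h => by
    have := (List.nodup_iff_injective_get.1 hl) h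
    exact Fin.cast_injective _ this⟩

theorem embOfList_mem (l : List GolayPt) (hl : l.Nodup) (h5 : l.length = 5) (i : Fin 5) :
    embOfList l hl h5 i ∈ l := List.get_mem _ _

/-- the group in the statement -/
abbrev Stab3 (d : Finset GolayPt) (p q r : GolayPt) : Subgroup ↥M24 :=
  MulAction.stabilizer M24 d ⊓ MulAction.stabilizer M24 p ⊓ MulAction.stabilizer M24 q ⊓
    MulAction.stabilizer M24 r

theorem mem_Stab3 {d : Finset GolayPt} {p q r : GolayPt} {g : ↥M24} :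
    g ∈ Stab3 d p q r ↔ (g : Equiv.Perm GolayPt) • d = d ∧ (g : Equiv.Perm GolayPt) p = p ∧
      (g : Equiv.Perm GolayPt) q = q ∧ (g : Equiv.Perm GolayPt) r = r := by
  simp only [Stab3, Subgroup.mem_inf, MulAction.mem_stabilizer_iff, and_assoc]
  rfl

theorem apply_mem {g : Equiv.Perm GolayPt} {d : Finset GolayPt} (hg : g • d = d) {x : GolayPt}
    (hx : x ∈ d) : g x ∈ d := by
  have := Finset.smul_mem_smul_finset (a := g) hx
  rwa [hg] at this

theorem card_Stab3 (d : Finset GolayPt) (hd : d ∈ dodecads) (p q r : GolayPt) (hp : p ∈ d)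
    (hq : q ∈ d) (hr : r ∈ d) (hpq : p ≠ q) (hpr : p ≠ r) (hqr : q ≠ r) :
    Nat.card ↥(Stab3 d p q r) = 72 := by
  classical
  set d' : Finset GolayPt := ((d.erase p).erase q).erase r with hd'
  have hcard : d'.card = 9 := by
    rw [hd', Finset.card_erase_of_mem, Finset.card_erase_of_mem, Finset.card_erase_of_mem hp,
      hd.2]
    · exact Finset.mem_erase.2 ⟨hpq.symm, hq⟩
    · exact Finset.mem_erase.2 ⟨hqr.symm, Finset.mem_erase.2 ⟨hpr.symm, hr⟩⟩
  have mem_d' : ∀ x, x ∈ d' ↔ x ≠ r ∧ x ≠ q ∧ x ≠ p ∧ x ∈ d := by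
    intro x; simp only [hd', Finset.mem_erase]
  obtain ⟨s₀, hs₀⟩ : d'.Nonempty := Finset.card_pos.1 (by omega)
  obtain ⟨t₀, ht₀⟩ : (d'.erase s₀).Nonempty :=
    Finset.card_pos.1 (by rw [Finset.card_erase_of_mem hs₀]; omega)
  obtain ⟨hts, ht₀'⟩ := Finset.mem_erase.1 ht₀
  obtain ⟨hs1, hs2, hs3, hs4⟩ := (mem_d' s₀).1 hs₀
  obtain ⟨ht1, ht2, ht3, ht4⟩ := (mem_d' t₀).1 ht₀'
  -- embeddings
  have nodup_of : ∀ s t : GolayPt, s ∈ d' → t ∈ d' → s ≠ t → [p, q, r, s, t].Nodup := by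
    intro s t hs ht hst
    obtain ⟨a1, a2, a3, _⟩ := (mem_d' s).1 hs
    obtain ⟨b1, b2, b3, _⟩ := (mem_d' t).1 ht
    simp only [List.nodup_cons, List.mem_cons, List.not_mem_nil, or_false, not_or,
      List.nodup_nil, and_true, not_false_eq_true]
    exact ⟨⟨hpq, hpr, a3.symm, b3.symm⟩, ⟨hqr, a2.symm, b2.symm⟩, ⟨a1.symm, b1.symm⟩, hst⟩
  have emb_mem : ∀ (s t : GolayPt) (hs : s ∈ d') (ht : t ∈ d') (hst : s ≠ t) (i : Fin 5),
      embOfList [p, q, r, s, t] (nodup_of s t hs ht hst) rfl i ∈ d := by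
    intro s t hs ht hst i
    have := embOfList_mem [p, q, r, s, t] (nodup_of s t hs ht hst) rfl i
    simp only [List.mem_cons, List.not_mem_nil, or_false] at this
    rcases this with h | h | h | h | h <;> rw [h]
    · exact hp
    · exact hq
    · exact hr
    · exact ((mem_d' s).1 hs).2.2.2
    · exact ((mem_d' t).1 ht).2.2.2
  let x₀ := embOfList [p, q, r, s₀, t₀] (nodup_of s₀ t₀ hs₀ ht₀' hts.symm) rfl
  have hx₀ : ∀ i, x₀ i ∈ d := emb_mem s₀ t₀ hs₀ ht₀' hts.symm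
  -- the map to pairs
  have img_mem : ∀ (g : ↥M24), g ∈ Stab3 d p q r → ∀ x ∈ d', (g : Equiv.Perm GolayPt) x ∈ d' := by
    intro g hg x hx
    obtain ⟨g1, g2, g3, g4⟩ := mem_Stab3.1 hg
    obtain ⟨a1, a2, a3, a4⟩ := (mem_d' x).1 hx
    rw [mem_d']
    refine ⟨?_, ?_, ?_, apply_mem g1 a4⟩
    · intro h; rw [← g4] at h; exact a1 ((g : Equiv.Perm GolayPt).injective h)
    · intro h; rw [← g3] at h; exact a2 ((g : Equiv.Perm GolayPt).injective h)
    · intro h; rw [← g2] at h; exact a3 ((g : Equiv.Perm GolayPt).injective h)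
  let f : ↥(Stab3 d p q r) → {z : GolayPt × GolayPt // z ∈ d'.offDiag} := fun g =>
    ⟨(((g : ↥M24) : Equiv.Perm GolayPt) s₀, ((g : ↥M24) : Equiv.Perm GolayPt) t₀), by
      rw [Finset.mem_offDiag]
      exact ⟨img_mem g.1 g.2 s₀ hs₀, img_mem g.1 g.2 t₀ ht₀',
        fun h => hts.symm (((g : ↥M24) : Equiv.Perm GolayPt).injective h)⟩⟩
  have hf : Function.Bijective f := by
    constructor
    · intro g g' hgg
      have h1 : ((g : ↥M24) : Equiv.Perm GolayPt) s₀ = ((g' : ↥M24) : Equiv.Perm GolayPt) s₀ :=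
        congrArg (fun z : {z : GolayPt × GolayPt // z ∈ d'.offDiag} => z.1.1) hgg
      have h2 : ((g : ↥M24) : Equiv.Perm GolayPt) t₀ = ((g' : ↥M24) : Equiv.Perm GolayPt) t₀ :=
        congrArg (fun z : {z : GolayPt × GolayPt // z ∈ d'.offDiag} => z.1.2) hgg
      obtain ⟨a1, a2, a3, a4⟩ := mem_Stab3.1 g.2
      obtain ⟨b1, b2, b3, b4⟩ := mem_Stab3.1 g'.2
      let y : Fin 5 ↪ GolayPt := x₀.trans ((g : ↥M24) : Equiv.Perm GolayPt).toEmbedding
      have hy : ∀ i, y i ∈ d := fun i => apply_mem a1 (hx₀ i)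
      obtain ⟨k, -, hk⟩ := Cfsg.Agent.S0384.result d hd x₀ y hx₀ hy
      have e1 := hk ⟨g.1, MulAction.mem_stabilizer_iff.2 a1⟩ (fun i => rfl)
      have e2 := hk ⟨g'.1, MulAction.mem_stabilizer_iff.2 b1⟩ (by
        intro i
        show ((g' : ↥M24) : Equiv.Perm GolayPt) (x₀ i) = ((g : ↥M24) : Equiv.Perm GolayPt) (x₀ i)
        fin_cases i
        · show ((g' : ↥M24) : Equiv.Perm GolayPt) p = ((g : ↥M24) : Equiv.Perm GolayPt) p
          rw [a2, b2]
        · show ((g' : ↥M24) : Equiv.Perm GolayPt) q = ((g : ↥M24) : Equiv.Perm GolayPt) q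
          rw [a3, b3]
        · show ((g' : ↥M24) : Equiv.Perm GolayPt) r = ((g : ↥M24) : Equiv.Perm GolayPt) r
          rw [a4, b4]
        · exact h1.symm
        · exact h2.symm)
      apply Subtype.ext
      have := congrArg Subtype.val (e1.trans e2.symm)
      exact this
    · rintro ⟨⟨s, t⟩, hst⟩
      rw [Finset.mem_offDiag] at hst
      obtain ⟨hs, ht, hne⟩ := hst
      let y := embOfList [p, q, r, s, t] (nodup_of s t hs ht hne) rfl
      obtain ⟨k, hk, -⟩ := Cfsg.Agent.S0384.result d hd x₀ y hx₀ (emb_mem s t hs ht hne)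
      have k1 : ((k : ↥M24) : Equiv.Perm GolayPt) • d = d := MulAction.mem_stabilizer_iff.1 k.2
      have hkS : (k : ↥M24) ∈ Stab3 d p q r :=
        mem_Stab3.2 ⟨k1, hk 0, hk 1, hk 2⟩
      refine ⟨⟨k.1, hkS⟩, ?_⟩
      apply Subtype.ext
      exact Prod.ext (hk 3) (hk 4)
  rw [Nat.card_congr (Equiv.ofBijective f hf), Nat.card_eq_fintype_card, Fintype.card_coe,
    Finset.offDiag_card, hcard]

/-- conjugating the standard configuration -/
theorem exists_conj (d : Finset GolayPt) (hd : d ∈ dodecads) (p q r : GolayPt) (hp : p ∈ d)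
    (hq : q ∈ d) (hr : r ∈ d) (hpq : p ≠ q) (hpr : p ≠ r) (hqr : q ≠ r) :
    ∃ g ∈ M24, g • dod0 = d ∧ g (pt 0) = p ∧ g (pt 2) = q ∧ g (pt 3) = r := by
  classical
  obtain ⟨h, hh, rfl⟩ := exists_smul_dod0_eq hd
  -- two further points
  set d' : Finset GolayPt := (((h • dod0).erase p).erase q).erase r with hd'
  have mem_d' : ∀ x, x ∈ d' ↔ x ≠ r ∧ x ≠ q ∧ x ≠ p ∧ x ∈ h • dod0 := by
    intro x; simp only [hd', Finset.mem_erase]
  have hcard : d'.card = 9 := by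
    rw [hd', Finset.card_erase_of_mem, Finset.card_erase_of_mem, Finset.card_erase_of_mem hp,
      hd.2]
    · exact Finset.mem_erase.2 ⟨hpq.symm, hq⟩
    · exact Finset.mem_erase.2 ⟨hqr.symm, Finset.mem_erase.2 ⟨hpr.symm, hr⟩⟩
  obtain ⟨s, hs⟩ : d'.Nonempty := Finset.card_pos.1 (by omega)
  obtain ⟨t, ht⟩ : (d'.erase s).Nonempty :=
    Finset.card_pos.1 (by rw [Finset.card_erase_of_mem hs]; omega)
  obtain ⟨hts, ht'⟩ := Finset.mem_erase.1 ht
  obtain ⟨a1, a2, a3, a4⟩ := (mem_d' s).1 hs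
  obtain ⟨b1, b2, b3, b4⟩ := (mem_d' t).1 ht'
  have hy : [p, q, r, s, t].Nodup := by
    simp only [List.nodup_cons, List.mem_cons, List.not_mem_nil, or_false, not_or,
      List.nodup_nil, and_true, not_false_eq_true]
    exact ⟨⟨hpq, hpr, a3.symm, b3.symm⟩, ⟨hqr, a2.symm, b2.symm⟩, ⟨a1.symm, b1.symm⟩, hts.symm⟩
  -- images of five standard points
  have hx : [h (pt 0), h (pt 2), h (pt 3), h (pt 12), h (pt 14)].Nodup := by
    have : [pt 0, pt 2, pt 3, pt 12, pt 14].Nodup := by decide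
    exact (List.Nodup.map h.injective this)
  have std_mem : ∀ z ∈ [pt 0, pt 2, pt 3, pt 12, pt 14], z ∈ dod0 := by
    intro z hz
    rw [← testBit_enc_idx, Cfsg.Agent.Lib.Helper27_Quartets.enc_dod0']
    revert z
    decide
  let x := embOfList _ hx rfl
  let y := embOfList _ hy rfl
  have hxm : ∀ i, x i ∈ h • dod0 := by
    intro i
    have := embOfList_mem _ hx rfl i
    simp only [List.mem_cons, List.not_mem_nil, or_false] at this
    rcases this with e | e | e | e | e <;> rw [e] <;>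
      exact Finset.smul_mem_smul_finset (a := h) (std_mem _ (by simp))
  have hym : ∀ i, y i ∈ h • dod0 := by
    intro i
    have := embOfList_mem _ hy rfl i
    simp only [List.mem_cons, List.not_mem_nil, or_false] at this
    rcases this with e | e | e | e | e <;> rw [e]
    · exact hp
    · exact hq
    · exact hr
    · exact a4
    · exact b4
  obtain ⟨k, hk, hkd, hkxy⟩ := Cfsg.Agent.S0384.exists_map (h • dod0) hd x y hxm hym
  refine ⟨k * h, M24.mul_mem hk hh, ?_, hkxy 0, hkxy 1, hkxy 2⟩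
  rw [mul_smul, hkd]

theorem result (d : Finset Cfsg.GolayPt) (hd : d ∈ Cfsg.dodecads) (p q r : Cfsg.GolayPt) (hp : p ∈ d) (hq : q ∈ d) (hr : r ∈ d) (hpq : p ≠ q) (hpr : p ≠ r) (hqr : q ≠ r) : Nat.card ↥(MulAction.stabilizer Cfsg.M24 d ⊓ MulAction.stabilizer Cfsg.M24 p ⊓ MulAction.stabilizer Cfsg.M24 q ⊓ MulAction.stabilizer Cfsg.M24 r) = 72 ∧ ∀ x ∉ d, ∀ y ∉ d, ∃ g ∈ (MulAction.stabilizer Cfsg.M24 d ⊓ MulAction.stabilizer Cfsg.M24 p ⊓ MulAction.stabilizer Cfsg.M24 q ⊓ MulAction.stabilizer Cfsg.M24 r), ((g : ↥Cfsg.M24) : Equiv.Perm Cfsg.GolayPt) x = y := by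
  refine ⟨card_Stab3 d hd p q r hp hq hr hpq hpr hqr, ?_⟩
  intro x hx y hy
  obtain ⟨g, hg, rfl, rfl, rfl, rfl⟩ := exists_conj d hd p q r hp hq hr hpq hpr hqr
  have hx' : g⁻¹ x ∉ dod0 := by
    intro h
    apply hx
    have := Finset.smul_mem_smul_finset (a := g) h
    simpa using this
  have hy' : g⁻¹ y ∉ dod0 := by
    intro h
    apply hy
    have := Finset.smul_mem_smul_finset (a := g) h
    simpa using this
  obtain ⟨σ, hσ, hσxy⟩ := exists_map_out hx' hy'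
  obtain ⟨s1, s2, s3, s4, s5⟩ := mem_S0.1 hσ
  refine ⟨⟨g * σ * g⁻¹, M24.mul_mem (M24.mul_mem hg s1) (M24.inv_mem hg)⟩, ?_, ?_⟩
  · apply mem_Stab3.2
    refine ⟨?_, ?_, ?_, ?_⟩
    · show (g * σ * g⁻¹) • g • dod0 = g • dod0
      rw [mul_smul, mul_smul, inv_smul_smul, s2]
    · show (g * σ * g⁻¹) (g (pt 0)) = g (pt 0)
      simp [s3]
    · show (g * σ * g⁻¹) (g (pt 2)) = g (pt 2)
      simp [s4]
    · show (g * σ * g⁻¹) (g (pt 3)) = g (pt 3)
      simp [s5]
  · show g (σ (g⁻¹ x)) = y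
    rw [hσxy]
    simp

end Cfsg.Agent.S1600
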