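import Cfsg.Statements.S5961
import Cfsg.Agent.Lib.Helper99_SpNec
import Cfsg.Agent.Lib.Helper99_SpElt
import Cfsg.Agent.Lib.Helper99_SpDecCount
import Cfsg.Agent.Lib.Helper99_SympPlanes

set_option autoImplicit false
open scoped MatrixGroups
open Cfsg

namespace Cfsg.Agent.S5961

open Module
open Cfsg.Agent.Lib.Helper40_SpBasic Cfsg.Agent.Lib.Helper94_Bridge
  Cfsg.Agent.Lib.Helper99_DecompCount Cfsg.Agent.Lib.Helper99_SpDecCount
  Cfsg.Agent.Lib.Helper99_SpAtoms Cfsg.Agent.Lib.Helper99_SpOrth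
  Cfsg.Agent.Lib.Helper99_SpNec Cfsg.Agent.Lib.Helper99_SpElt
  Cfsg.Agent.Lib.Helper99_PrimeOrderSL Cfsg.Agent.Lib.Helper99_SympPlanes

section aux

variable {F : Type*} [Field F]

theorem ndOn_iff {V : Type*} [AddCommGroup V] [Module F V] (B : LinearMap.BilinForm F V)
    (Z : Submodule F V) : NDOn B Z ↔ ∀ u ∈ Z, u ≠ 0 → ∃ v ∈ Z, B u v ≠ 0 := by
  constructor
  · intro h u hu hu0
    by_contra hcon
    apply hu0
    apply h u hu
    intro y hy
    by_contra hne
    exact hcon ⟨y, hy, hne⟩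
  · intro h x hx hxy
    by_contra hx0
    obtain ⟨v, hv, hne⟩ := h x hx hx0
    exact hne (hxy v hv)

theorem isODec_iff {d t a : ℕ} (ht : 2 ≤ t) (ha : 1 ≤ a)
    (D : Fin t → Submodule F (Fin d ⊕ Fin d → F)) :
    (Cfsg.Geo.IsMDecomposition a D ∧
      (∀ j, ∀ u ∈ D j, u ≠ 0 → ∃ v ∈ D j, Cfsg.sympForm d F u v ≠ 0) ∧
      (∀ j j', j ≠ j' → ∀ u ∈ D j, ∀ v ∈ D j', Cfsg.sympForm d F u v = 0)) ↔
    IsODec (Bsymp d F) a D := by
  constructor
  · rintro ⟨h1, h2, h3⟩
    refine ⟨⟨h1.finrank_eq, h1.indep, h1.iSup_eq_top⟩,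
      fun j => (ndOn_iff _ _).2 (fun u hu hu0 => ?_), fun j j' hjj' u hu v hv => ?_⟩
    · obtain ⟨v, hv, hne⟩ := h2 j u hu hu0
      exact ⟨v, hv, by rwa [Bsymp_apply]⟩
    · rw [Bsymp_apply]
      exact h3 j j' hjj' u hu v hv
  · rintro ⟨h1, h2, h3⟩
    refine ⟨⟨ht, ha, h1.1, h1.2.1, h1.2.2⟩, fun j u hu hu0 => ?_, fun j j' hjj' u hu v hv => ?_⟩
    · obtain ⟨v, hv, hne⟩ := (ndOn_iff _ _).1 (h2 j) u hu hu0
      exact ⟨v, hv, by rwa [Bsymp_apply] at hne⟩
    · rw [← Bsymp_apply]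
      exact h3 j j' hjj' u hu v hv

theorem Bsymp_iso {d : ℕ} {A : Matrix (Fin d ⊕ Fin d) (Fin d ⊕ Fin d) F}
    (hA : A ∈ Matrix.symplecticGroup (Fin d) F) (u v : Fin d ⊕ Fin d → F) :
    Bsymp d F (Matrix.toLin' A u) (Matrix.toLin' A v) = Bsymp d F u v := by
  rw [Bsymp_apply, Bsymp_apply, Matrix.toLin'_apply, Matrix.toLin'_apply]
  exact Cfsg.Agent.Lib.Helper13_Symp.sympForm_mulVec_mulVec_of_mem d hA u v

/-- a scalar symplectic matrix has square one. -/
theorem sq_eq_one_of_smul_mem {d : ℕ} (hd : 1 ≤ d) (z : F)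
    (h : z • (1 : Matrix (Fin d ⊕ Fin d) (Fin d ⊕ Fin d) F) ∈ Matrix.symplecticGroup (Fin d) F) :
    z * z = 1 := by
  obtain ⟨v, hv⟩ : ∃ v : Fin d ⊕ Fin d → F, v ≠ 0 := ⟨fun _ => 1, fun h => by
    have := congrFun h (Sum.inl ⟨0, by omega⟩)
    simp at this⟩
  have hex : ∃ w, Bsymp d F v w ≠ 0 := by
    by_contra hcon
    apply hv
    apply (Bsymp_nondegenerate (F := F) d).1 v
    intro y
    by_contra hne
    exact hcon ⟨y, hne⟩
  obtain ⟨w, hw⟩ := hex
  have h1 := Bsymp_iso h v w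
  have h2 : ∀ y : Fin d ⊕ Fin d → F,
      Matrix.toLin' (z • (1 : Matrix (Fin d ⊕ Fin d) (Fin d ⊕ Fin d) F)) y = z • y := by
    intro y
    rw [Matrix.toLin'_apply, Matrix.smul_mulVec, Matrix.one_mulVec]
  rw [h2, h2] at h1
  simp only [map_smul, LinearMap.smul_apply, smul_eq_mul] at h1
  rw [← mul_assoc] at h1
  exact mul_right_cancel₀ hw (h1.trans (one_mul _).symm)

/-- the isometry of order `r` attached to a symplectic matrix with scalar `r`-th power. -/
theorem isoData_of_mem {d r : ℕ} (hd : 1 ≤ d) (hr : Odd r)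
    (x : Matrix (Fin d ⊕ Fin d) (Fin d ⊕ Fin d) F) (hx : x ∈ Matrix.symplecticGroup (Fin d) F)
    (z : F) (hz : x ^ r = z • (1 : Matrix (Fin d ⊕ Fin d) (Fin d ⊕ Fin d) F)) :
    z ≠ 0 ∧ IsoData (Bsymp d F)
      (z • (Matrix.toLin' x : Module.End F (Fin d ⊕ Fin d → F))) r := by
  have hxr : x ^ r ∈ Matrix.symplecticGroup (Fin d) F :=
    (Matrix.symplecticGroup (Fin d) F).pow_mem hx r
  rw [hz] at hxr
  have hzz : z * z = 1 := sq_eq_one_of_smul_mem hd z hxr
  have hz0 : z ≠ 0 := by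
    rintro rfl
    rw [mul_zero] at hzz
    exact zero_ne_one hzz
  obtain ⟨k, hk⟩ := hr
  have hzr : z ^ r * z = 1 := by
    rw [← pow_succ, hk]
    have : 2 * k + 1 + 1 = 2 * (k + 1) := by ring
    rw [this, pow_mul, pow_two, hzz, one_pow]
  refine ⟨hz0, ⟨fun v => Bsymp_isAlt d v, ?_, ?_, by omega⟩⟩
  · intro u v
    simp only [LinearMap.smul_apply, map_smul, smul_eq_mul]
    rw [← mul_assoc, hzz, one_mul]
    exact Bsymp_iso hx u v
  · rw [smul_pow]
    have h1 : (Matrix.toLin' x : Module.End F (Fin d ⊕ Fin d → F)) ^ r =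
        z • (1 : Module.End F (Fin d ⊕ Fin d → F)) := by
      rw [← Matrix.toLin'_pow, hz, map_smul, Matrix.toLin'_one]
      rfl
    rw [h1, smul_smul, hzr, one_smul]

end aux

/-- Elements of odd prime order of PSp_n(q) and imprimitive subgroups. Here `T = PSp_n(q)`, `n = 2d ≥ 4`, `(n, q) ≠ (4, 2)`, realised through the symplectic matrices over the field `F` with `q` elements and the standard alternating form; `n = a·t` with `a` even and `t ≥ 2`, and Ω is the (nonempty) set of orthogonal decompositions of `F^n` into `t` nondegenerate subspaces of dimension `a` (unordered; counted as ordered ones divided by `t!`), whose stabilizers are the imprimitive subgroups of type Sp_a(q) ≀ S_t (maximality is not assumed); an element of `T` of prime order `r` (a symplectic matrix `x` with `x^r` scalar, `x` not scalar) fixes a point of Ω when it permutes the summands of some such decomposition. Let `r ≠ p` be an odd prime dividing the number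 of such decompositions, let `i` be the multiplicative order of `q` modulo `r`, `c = i` if `i` is even and `c = 2i` if `i` is odd, and write `k = n mod c`, `ℓ = a mod c`. Then every element of `T` of order `r` stabilizes such a decomposition if and only if `c ≤ a` and `k = t·ℓ`. -/
theorem result {F : Type*} [Field F] [Fintype F] {p : ℕ} [Fact p.Prime] [CharP F p] {q : ℕ} (hq : Fintype.card F = q)
    (d : ℕ) (hd : 2 ≤ d) (hT : (d, q) ≠ (2, 2))
    (a t : ℕ) (hat : 2 * d = a * t) (ha : 2 ≤ a) (hae : Even a) (ht : 2 ≤ t)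
    (r : ℕ) [Fact r.Prime] (hr2 : r ≠ 2) (hrp : r ≠ p) (hΩ : r ∣ Nat.card {D : Fin t → Submodule F (Fin d ⊕ Fin d → F) // (Cfsg.Geo.IsMDecomposition a D ∧ (∀ j, ∀ u ∈ D j, u ≠ 0 → ∃ v ∈ D j, Cfsg.sympForm d F u v ≠ 0) ∧
          (∀ j j', j ≠ j' → ∀ u ∈ D j, ∀ v ∈ D j', Cfsg.sympForm d F u v = 0))} / Nat.factorial t)
    (i c : ℕ) (hi : i = orderOf (q : ZMod r)) (hc : c = if Even i then i else 2 * i) :
    (∀ x : ↥(Matrix.symplecticGroup (Fin d) F),
      (∃ z : F, ((x ^ r : ↥(Matrix.symplecticGroup (Fin d) F)) : Matrix (Fin d ⊕ Fin d) (Fin d ⊕ Fin d) F) = z • (1 : Matrix (Fin d ⊕ Fin d) (Fin d ⊕ Fin d) F)) →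
      (∀ z : F, (x : Matrix (Fin d ⊕ Fin d) (Fin d ⊕ Fin d) F) ≠ z • (1 : Matrix (Fin d ⊕ Fin d) (Fin d ⊕ Fin d) F)) →
      ∃ D : Fin t → Submodule F (Fin d ⊕ Fin d → F), (Cfsg.Geo.IsMDecomposition a D ∧ (∀ j, ∀ u ∈ D j, u ≠ 0 → ∃ v ∈ D j, Cfsg.sympForm d F u v ≠ 0) ∧
          (∀ j j', j ≠ j' → ∀ u ∈ D j, ∀ v ∈ D j', Cfsg.sympForm d F u v = 0)) ∧
        ∃ σ : Equiv.Perm (Fin t), ∀ j, (D j).map (Matrix.toLin' (x : Matrix (Fin d ⊕ Fin d) (Fin d ⊕ Fin d) F)) = D (σ j)) ↔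
    (c ≤ a ∧ (2 * d) % c = t * (a % c)) := by
  classical
  have hr : r.Prime := Fact.out
  subst hq
  have hcA : c = atomDim F r := by
    rw [hc, hi]
    rfl
  subst hcA
  have hfin : finrank F (Fin d ⊕ Fin d → F) = 2 * d := by
    rw [Module.finrank_pi, Fintype.card_sum, Fintype.card_fin, two_mul]
  have hdim : finrank F (Fin d ⊕ Fin d → F) = t * a := by rw [hfin, hat, mul_comm]
  have hB : (Bsymp d F).Nondegenerate := Bsymp_nondegenerate d
  have hrodd : Odd r := hr.odd_of_ne_two hr2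
  have hcpos : 0 < atomDim F r :=
    atomDim_pos (Cfsg.Agent.Lib.Helper40_PrimeOrderClasses.exists_cyclotomic_factors
      (F := F) p r hr hrp).1
  constructor
  · intro hL
    obtain ⟨a', ha'⟩ := hae
    have ha2 : a = 2 * a' := by omega
    have hD₀ : Nonempty (ODecs (Bsymp d F) t a) := by
      have hnd : NonDeg (Bsymp d F) ⊤ := by
        intro w _ hw0
        by_contra hcon
        apply hw0
        apply hB.1 w
        intro y
        by_contra hne
        exact hcon ⟨y, trivial, hne⟩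
      obtain ⟨D, hD1, hD2, hD3, hD4, hD5, -⟩ :=
        exists_orthogonal_decomposition (Bsymp d F) (fun v => Bsymp_isAlt d v) hnd
          (1 : Module.End F (Fin d ⊕ Fin d → F)) 1 one_ne_zero
          (fun v => by rw [Module.End.one_apply, Module.End.one_apply, one_smul])
          (fun u v => rfl) a' t (by rw [hfin, hat, ha2])
      exact ⟨⟨D, ⟨fun j => by rw [hD1 j, ha2], hD2, hD3⟩, fun j => (ndOn_iff _ _).2 (hD4 j), hD5⟩⟩
    obtain ⟨D₀⟩ := hD₀
    have hΩ' : r ∣ Nat.card (ODecs (Bsymp d F) t a) / Nat.factorial t := by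
      have e : {D : Fin t → Submodule F (Fin d ⊕ Fin d → F) //
          (Cfsg.Geo.IsMDecomposition a D ∧
            (∀ j, ∀ u ∈ D j, u ≠ 0 → ∃ v ∈ D j, Cfsg.sympForm d F u v ≠ 0) ∧
            (∀ j j', j ≠ j' → ∀ u ∈ D j, ∀ v ∈ D j', Cfsg.sympForm d F u v = 0))} ≃
            ODecs (Bsymp d F) t a := Equiv.subtypeEquivRight (isODec_iff ht (by omega))
      rwa [Nat.card_congr e] at hΩ
    have hcn : atomDim F r ≤ 2 * d :=
      atomDim_le_of_dvd (p := p) d t a a' ha2 (by omega) D₀ hr hrp hΩ'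
    have hmain := nec (B := Bsymp d F) (p := p) hr hr2 hrp a t ha hdim
      (by rw [hfin]; exact hcn) ?_
    · rwa [hfin] at hmain
    intro s hs1 hsc
    rw [hfin] at hsc
    obtain ⟨A, hA, hAr, hAfix⟩ := exists_elt (p := p) d hr hr2 hrp s hsc
    have hsc1 : 1 ≤ s * atomDim F r := Nat.mul_pos hs1 hcpos
    have hnonscalar : ∀ z : F, A ≠ z • (1 : Matrix (Fin d ⊕ Fin d) (Fin d ⊕ Fin d) F) := by
      intro z hAz
      have hzz : z * z = 1 := sq_eq_one_of_smul_mem (by omega) z (hAz ▸ hA)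
      have hzr : z ^ r = 1 := by
        rw [hAz, smul_pow, one_pow] at hAr
        have := congrFun (congrFun hAr (Sum.inl ⟨0, by omega⟩)) (Sum.inl ⟨0, by omega⟩)
        simpa using this
      obtain ⟨k, hk⟩ := hrodd
      have hz1 : z = 1 := by
        rw [hk, pow_succ, pow_mul, pow_two, hzz, one_pow, one_mul] at hzr
        exact hzr
      rw [hz1, one_smul] at hAz
      rw [hAz, Matrix.toLin'_one] at hAfix
      have htop : Module.End.eigenspace (LinearMap.id : Module.End F (Fin d ⊕ Fin d → F)) 1 = ⊤ := by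
        rw [eq_top_iff]
        intro v _
        rw [Module.End.mem_eigenspace_iff, one_smul]
        rfl
      rw [htop, finrank_top, hfin] at hAfix
      omega
    obtain ⟨D, hD, σ, hσ⟩ := hL ⟨A, hA⟩ ⟨1, by rw [one_smul]; exact hAr⟩ hnonscalar
    have hOD := (isODec_iff ht (by omega) D).1 hD
    have hisoA := (isoData_of_mem (by omega) hrodd A hA 1 (by rw [one_smul]; exact hAr)).2
    rw [one_smul] at hisoA
    exact ⟨Matrix.toLin' A, hisoA, by rw [hfin]; exact hAfix, D, hOD.1, hOD.2.1, σ, hσ⟩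
  · rintro ⟨-, hmod⟩ x ⟨z, hz⟩ -
    obtain ⟨hz0, hiso⟩ := isoData_of_mem (by omega) hrodd x.1 x.2 z hz
    obtain ⟨D, hD1, hD2, hD3, hD4⟩ := exists_orth_dec (p := p) hiso hB hr hr2 hrp a t hae hdim
      (by rw [hfin]; exact hmod)
    have hDec := isDec_of_orth hiso.skew D hD2 hD3 hD4 hdim
    refine ⟨D, (isODec_iff ht (by omega) D).2 ⟨hDec, hD2, hD4⟩, 1, fun j => ?_⟩
    rw [Equiv.Perm.one_apply]
    have hmap : (D j).map (Matrix.toLin' (x : Matrix (Fin d ⊕ Fin d) (Fin d ⊕ Fin d) F)) =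
        (D j).map (z • (Matrix.toLin' (x : Matrix (Fin d ⊕ Fin d) (Fin d ⊕ Fin d) F) :
          Module.End F (Fin d ⊕ Fin d → F))) := (Submodule.map_smul _ _ z hz0).symm
    rw [hmap]
    apply Submodule.eq_of_le_of_finrank_eq
    · rintro _ ⟨v, hv, rfl⟩
      exact hD1 j v hv
    · exact (Submodule.equivMapOfInjective _ hiso.injective _).symm.finrank_eq

end Cfsg.Agent.S5961
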