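import Cfsg.Statements.S2678

set_option autoImplicit false
open Cfsg Matrix
open scoped Kronecker

namespace Cfsg.Agent.S2678


theorem exists_hom {K F : Type*} [Field K] [Fintype K] [Field F] [Fintype F] {q : ℕ}
    (hK : Fintype.card K = q ^ 2) (hF : Fintype.card F = q) : Nonempty (F →+* K) := by
  classical
  obtain ⟨p, hp⟩ := CharP.exists F
  have : Fact p.Prime := ⟨CharP.char_is_prime F p⟩
  let L := FiniteField.Extension F p 2
  have : Fintype L := Fintype.ofFinite L
  have hcard : Fintype.card L = q ^ 2 := by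
    rw [Fintype.card_eq_nat_card, FiniteField.natCard_extension, ← Fintype.card_eq_nat_card, hF]
  let e : L ≃+* K := FiniteField.ringEquivOfCardEq (hcard.trans hK.symm)
  exact ⟨(e : L →+* K).comp (algebraMap F L)⟩

theorem trace_sum_repr {F K : Type*} [Field F] [Field K] [Algebra F K] (b : Module.Basis (Fin 2) F K)
    (y : K) (t : Fin 2) :
    ∑ u, b.repr y u * Algebra.trace F K (b u * b t) = Algebra.trace F K (y * b t) := by
  conv_rhs => rw [← b.sum_repr y, Finset.sum_mul, map_sum]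
  simp [smul_mul_assoc, map_smul]

theorem leftMul_transpose_trace {F K : Type*} [Field F] [Field K] [Algebra F K]
    (b : Module.Basis (Fin 2) F K) (x : K) :
    (Algebra.leftMulMatrix b x)ᵀ * Algebra.traceMatrix F b =
      Algebra.traceMatrix F b * Algebra.leftMulMatrix b x := by
  ext s t
  simp only [Matrix.mul_apply, Matrix.transpose_apply, Algebra.traceMatrix_apply,
    Algebra.traceForm_apply, Algebra.leftMulMatrix_eq_repr_mul]
  rw [trace_sum_repr b (x * b s) t]
  have : ∀ u, Algebra.trace F K (b s * b u) * b.repr (x * b t) u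
      = b.repr (x * b t) u * Algebra.trace F K (b u * b s) := by
    intro u; rw [mul_comm (b s) (b u), mul_comm]
  simp only [this]
  rw [trace_sum_repr b (x * b t) s]
  congr 1
  ring

theorem traceMatrix_symm {F K : Type*} [Field F] [Field K] [Algebra F K]
    (b : Module.Basis (Fin 2) F K) : (Algebra.traceMatrix F b)ᵀ = Algebra.traceMatrix F b := by
  ext s t
  simp only [Matrix.transpose_apply, Algebra.traceMatrix_apply, Algebra.traceForm_apply, mul_comm]

theorem traceMatrix_det {F K : Type*} [Field F] [Finite F] [Field K] [Algebra F K]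
    (b : Module.Basis (Fin 2) F K) : (Algebra.traceMatrix F b).det ≠ 0 := by
  have : FiniteDimensional F K := b.finiteDimensional_of_finite
  rw [Algebra.traceMatrix_of_basis]
  exact det_traceForm_ne_zero b



section level1
variable {F K : Type*} [Field F] [Field K] [Algebra F K] (b : Module.Basis (Fin 2) F K)
variable {I : Type*} [Fintype I] [DecidableEq I]

noncomputable def Psi : Matrix I I K →+* Matrix (I × Fin 2) (I × Fin 2) F :=
  (Matrix.compRingEquiv I (Fin 2) F).toRingHom.comp (Algebra.leftMulMatrix b).toRingHom.mapMatrix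

theorem Psi_apply (A : Matrix I I K) (i j : I) (s t : Fin 2) :
    Psi b A (i, s) (j, t) = Algebra.leftMulMatrix b (A i j) s t := by
  simp [Psi, Matrix.compRingEquiv_apply, Matrix.comp_apply]

theorem Psi_injective : Function.Injective (Psi (I := I) b) := by
  intro A B h
  ext i j
  apply Algebra.leftMulMatrix_injective b
  ext s t
  rw [← Psi_apply, ← Psi_apply, h]

theorem Psi_transpose (A : Matrix I I K) :
    (Psi b A)ᵀ * ((1 : Matrix I I F) ⊗ₖ Algebra.traceMatrix F b) =
      ((1 : Matrix I I F) ⊗ₖ Algebra.traceMatrix F b) * Psi b Aᵀ := by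
  ext ⟨i, s⟩ ⟨j, t⟩
  simp only [Matrix.mul_apply, Fintype.sum_prod_type, Matrix.transpose_apply, Psi_apply,
    Matrix.kroneckerMap_apply, Matrix.one_apply]
  have h := congrFun (congrFun (leftMul_transpose_trace b (A j i)) s) t
  simp only [Matrix.mul_apply, Matrix.transpose_apply] at h
  simp only [ite_mul, one_mul, zero_mul, mul_ite, mul_zero]
  rw [Finset.sum_comm]
  simp only [Finset.sum_ite_eq, Finset.sum_ite_eq', Finset.mem_univ, if_true]
  rw [h]
  simp [Finset.sum_ite_eq, Finset.sum_ite_eq']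

theorem Psi_map (M : Matrix I I F) :
    Psi b (M.map (algebraMap F K)) = M ⊗ₖ (1 : Matrix (Fin 2) (Fin 2) F) := by
  ext ⟨i, s⟩ ⟨j, t⟩
  rw [Psi_apply, Matrix.map_apply, AlgHom.commutes, Matrix.kroneckerMap_apply,
    Matrix.algebraMap_matrix_apply]
  simp [Matrix.one_apply]

end level1



theorem twist {n : Type*} [Fintype n] [DecidableEq n] {R : Type*} [CommRing R]
    (Ds Ds' : Matrix n n R) (hsymm : Dsᵀ = Ds) (h1 : Ds * Ds' = 1)
    (B : Matrix (n ⊕ n) (n ⊕ n) R)
    (hB : Bᵀ * fromBlocks 0 (-Ds) Ds 0 * B = fromBlocks 0 (-Ds) Ds 0) :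
    fromBlocks 1 0 0 Ds * B * fromBlocks 1 0 0 Ds' ∈ symplecticGroup n R := by
  rw [SymplecticGroup.mem_iff']
  set P : Matrix (n ⊕ n) (n ⊕ n) R := fromBlocks 1 0 0 Ds with hP
  set P' : Matrix (n ⊕ n) (n ⊕ n) R := fromBlocks 1 0 0 Ds' with hP'
  have hPP' : P * P' = 1 := by
    simp [hP, hP', fromBlocks_multiply, h1, fromBlocks_one]
  have hJ : Pᵀ * J n R * P = fromBlocks 0 (-Ds) Ds 0 := by
    simp [hP, J, fromBlocks_transpose, fromBlocks_multiply, hsymm]
  calc (P * B * P')ᵀ * J n R * (P * B * P') = P'ᵀ * (Bᵀ * (Pᵀ * J n R * P) * B) * P' := by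
        simp only [Matrix.transpose_mul, Matrix.mul_assoc]
    _ = P'ᵀ * (Pᵀ * J n R * P) * P' := by rw [hJ, hB]
    _ = (P * P')ᵀ * J n R * (P * P') := by simp only [Matrix.transpose_mul, Matrix.mul_assoc]
    _ = J n R := by rw [hPP']; simp

section assembly
variable {F K : Type*} [Field F] [Finite F] [Field K] [Algebra F K] (b : Module.Basis (Fin 2) F K)
variable {l n : Type*} [Fintype l] [DecidableEq l] [Fintype n] [DecidableEq n] (e : l × Fin 2 ≃ n)

def eps : (l ⊕ l) × Fin 2 ≃ n ⊕ n :=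
  (Equiv.sumProdDistrib l l (Fin 2)).trans (Equiv.sumCongr e e)

noncomputable def Ds : Matrix n n F :=
  ((1 : Matrix l l F) ⊗ₖ Algebra.traceMatrix F b).submatrix e.symm e.symm

noncomputable def Ds' : Matrix n n F :=
  ((1 : Matrix l l F) ⊗ₖ (Algebra.traceMatrix F b)⁻¹).submatrix e.symm e.symm

omit [Finite F] in
theorem Ds_symm : (Ds b e)ᵀ = Ds b e := by
  rw [Ds, Matrix.transpose_submatrix, ← Matrix.kroneckerMap_transpose, Matrix.transpose_one,
    traceMatrix_symm]

theorem Ds_mul : Ds b e * Ds' b e = 1 := by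
  rw [Ds, Ds', Matrix.submatrix_mul_equiv, ← Matrix.mul_kronecker_mul, Matrix.mul_one,
    Matrix.mul_nonsing_inv _ (isUnit_iff_ne_zero.2 (traceMatrix_det b)), Matrix.one_kronecker_one,
    Matrix.submatrix_one_equiv]

theorem Ds'_mul : Ds' b e * Ds b e = 1 := by
  rw [Ds, Ds', Matrix.submatrix_mul_equiv, ← Matrix.mul_kronecker_mul, Matrix.mul_one,
    Matrix.nonsing_inv_mul _ (isUnit_iff_ne_zero.2 (traceMatrix_det b)), Matrix.one_kronecker_one,
    Matrix.submatrix_one_equiv]

noncomputable def G : Matrix (l ⊕ l) (l ⊕ l) K →+* Matrix (n ⊕ n) (n ⊕ n) F :=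
  ((Matrix.reindexAlgEquiv F F (eps e)).toRingEquiv.toRingHom).comp (Psi b)

omit [Finite F] in
theorem G_apply (A : Matrix (l ⊕ l) (l ⊕ l) K) :
    G b e A = (Psi b A).submatrix (eps e).symm (eps e).symm := by
  simp [G, Matrix.reindex_apply]

omit [Finite F] in
theorem G_injective : Function.Injective (G (l := l) b e) := by
  intro A B h
  rw [G_apply, G_apply] at h
  apply Psi_injective b
  have := congrArg (fun M => M.submatrix (eps e) (eps e)) h
  simpa using this

omit [Finite F] in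
theorem Jd_eq : ((J l F) ⊗ₖ Algebra.traceMatrix F b).submatrix (eps e).symm (eps e).symm
    = fromBlocks 0 (-Ds b e) (Ds b e) 0 := by
  ext x y
  rcases x with u | u <;> rcases y with v | v <;>
    simp [eps, Ds, J, Matrix.kroneckerMap_apply, Matrix.one_apply]

theorem G_symp (A : Matrix (l ⊕ l) (l ⊕ l) K) (hA : Aᵀ * J l K * A = J l K) :
    (G b e A)ᵀ * fromBlocks 0 (-Ds b e) (Ds b e) 0 * G b e A = fromBlocks 0 (-Ds b e) (Ds b e) 0 := by
  have h1 : Psi b Aᵀ * Psi b (J l K) * Psi b A = Psi b (J l K) := by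
    rw [← map_mul, ← map_mul, hA]
  have hJ : Psi b (J l K) = (J l F) ⊗ₖ (1 : Matrix (Fin 2) (Fin 2) F) := by
    rw [← Psi_map b (J l F), Matrix.map_J]
  have h2 : (Psi b A)ᵀ * ((J l F) ⊗ₖ Algebra.traceMatrix F b) * Psi b A
      = (J l F) ⊗ₖ Algebra.traceMatrix F b := by
    have hD : ((1 : Matrix (l ⊕ l) (l ⊕ l) F) ⊗ₖ Algebra.traceMatrix F b) *
        ((J l F) ⊗ₖ (1 : Matrix (Fin 2) (Fin 2) F)) = (J l F) ⊗ₖ Algebra.traceMatrix F b := by
      rw [← Matrix.mul_kronecker_mul, Matrix.one_mul, Matrix.mul_one]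
    rw [← hD, ← Matrix.mul_assoc, Psi_transpose, ← hJ, Matrix.mul_assoc, Matrix.mul_assoc,
      ← Matrix.mul_assoc (Psi b Aᵀ), h1]
  have h3 := congrArg (fun M => M.submatrix (eps e).symm (eps e).symm) h2
  simp only at h3
  rw [← Matrix.submatrix_mul_equiv _ _ _ (eps e).symm, ← Matrix.submatrix_mul_equiv _ _ _ (eps e).symm,
    Jd_eq, ← Matrix.transpose_submatrix, ← G_apply] at h3
  exact h3

noncomputable def phi : ↥(symplecticGroup l K) →* ↥(symplecticGroup n F) where
  toFun A := ⟨fromBlocks 1 0 0 (Ds b e) * G b e A.1 * fromBlocks 1 0 0 (Ds' b e),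
    twist (Ds b e) (Ds' b e) (Ds_symm b e) (Ds_mul b e) _
      (G_symp b e A.1 (SymplecticGroup.mem_iff'.1 A.2))⟩
  map_one' := by
    apply Subtype.ext
    simp [fromBlocks_multiply, Ds_mul, fromBlocks_one]
  map_mul' A B := by
    apply Subtype.ext
    have hPP : fromBlocks 1 0 0 (Ds' b e) * fromBlocks 1 0 0 (Ds b e) = (1 : Matrix (n ⊕ n) (n ⊕ n) F) := by
      simp [fromBlocks_multiply, Ds'_mul, fromBlocks_one]
    simp only [Submonoid.coe_mul, map_mul]
    calc fromBlocks 1 0 0 (Ds b e) * (G b e A.1 * G b e B.1) * fromBlocks 1 0 0 (Ds' b e)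
        = fromBlocks 1 0 0 (Ds b e) * G b e A.1 * 1 * G b e B.1 * fromBlocks 1 0 0 (Ds' b e) := by
          simp only [Matrix.mul_one, Matrix.mul_assoc]
      _ = _ := by rw [← hPP]; simp only [Matrix.mul_assoc]

theorem phi_injective : Function.Injective (phi (l := l) b e) := by
  intro A B h
  have h1 := congrArg Subtype.val h
  simp only [phi, MonoidHom.coe_mk, OneHom.coe_mk] at h1
  have hPP : fromBlocks 1 0 0 (Ds' b e) * fromBlocks 1 0 0 (Ds b e) = (1 : Matrix (n ⊕ n) (n ⊕ n) F) := by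
    simp [fromBlocks_multiply, Ds'_mul, fromBlocks_one]
  have hPP' : fromBlocks 1 0 0 (Ds b e) * fromBlocks 1 0 0 (Ds' b e) = (1 : Matrix (n ⊕ n) (n ⊕ n) F) := by
    simp [fromBlocks_multiply, Ds_mul, fromBlocks_one]
  have h2 := congrArg (fun M => fromBlocks 1 0 0 (Ds' b e) * M * fromBlocks 1 0 0 (Ds b e)) h1
  have key : ∀ X : Matrix (n ⊕ n) (n ⊕ n) F, fromBlocks 1 0 0 (Ds' b e) *
      (fromBlocks 1 0 0 (Ds b e) * X * fromBlocks 1 0 0 (Ds' b e)) * fromBlocks 1 0 0 (Ds b e) = X := by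
    intro X
    calc _ = (fromBlocks 1 0 0 (Ds' b e) * fromBlocks 1 0 0 (Ds b e)) * X *
        (fromBlocks 1 0 0 (Ds' b e) * fromBlocks 1 0 0 (Ds b e)) := by simp only [Matrix.mul_assoc]
      _ = X := by rw [hPP]; simp
  rw [key, key] at h2
  exact Subtype.ext (G_injective b e h2)

end assembly


/-- Field-extension embedding of symplectic groups. -/
theorem result {K F : Type*} [Field K] [Fintype K] [Field F] [Fintype F] {q : ℕ} (hK : Fintype.card K = q ^ 2) (hF : Fintype.card F = q) (a : ℕ) : ∃ φ : ↥(Matrix.symplecticGroup (Fin a) K) →* ↥(Matrix.symplecticGroup (Fin (2 * a)) F), Function.Injective φ := by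
  classical
  obtain ⟨ι⟩ := exists_hom hK hF
  letI : Algebra F K := ι.toAlgebra
  have hfin : Module.finrank F K = 2 := by
    have h := Module.card_eq_pow_finrank (K := F) (V := K)
    rw [hK, hF] at h
    have hq : 1 < q := by rw [← hF]; exact Fintype.one_lt_card
    exact (Nat.pow_right_injective hq h).symm
  let b : Module.Basis (Fin 2) F K := Module.finBasisOfFinrankEq F K hfin
  let e : Fin a × Fin 2 ≃ Fin (2 * a) := finProdFinEquiv.trans (finCongr (mul_comm a 2))
  exact ⟨phi b e, phi_injective b e⟩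

end Cfsg.Agent.S2678
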