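import Mathlib
import Cfsg.Agent.S2678
import Cfsg.Agent.Lib.Helper5_SUCenter
import Cfsg.Agent.Lib.Helper5_PSLCard
import Cfsg.Statements.S0281

set_option autoImplicit false
open Cfsg

namespace Cfsg.Agent.S0281

set_option linter.unusedSectionVars false
set_option linter.unusedVariables false

open Matrix Cfsg.Agent.Lib.Helper13_Herm Cfsg.Agent.Lib.Helper5_HermCount Cfsg.Agent.Lib.Helper5_GUOrder
  Cfsg.Agent.Lib.Helper5_SUOrder Cfsg.Agent.Lib.Helper5_SUCenter

variable {F : Type*} [Field F] [Fintype F] {q : ℕ}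

lemma hermForm_eq_dotProduct (hF : Fintype.card F = q ^ 2) {n : ℕ} (u v : Fin n → F) :
    Cfsg.hermForm n F q u v = u ⬝ᵥ ((powQ hF) ∘ v) := rfl

lemma isU_of_transpose_mul_map (hF : Fintype.card F = q ^ 2) {n : ℕ} {M : Matrix (Fin n) (Fin n) F}
    (h : Mᵀ * (powQ hF).mapMatrix M = 1) : IsU n q M := by
  intro u v
  rw [hermForm_eq_dotProduct hF, hermForm_eq_dotProduct hF]
  have h1 : (powQ hF) ∘ (M *ᵥ v) = ((powQ hF).mapMatrix M) *ᵥ ((powQ hF) ∘ v) := by
    ext i
    exact RingHom.map_mulVec (powQ hF) M v i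
  rw [h1, ← Matrix.vecMul_transpose, ← Matrix.dotProduct_mulVec, Matrix.mulVec_mulVec, h, Matrix.one_mulVec]

/-- the matrix `θ J₂` -/
def Bmat (θ : F) : Matrix (Fin 2) (Fin 2) F := !![0, θ; -θ, 0]

omit [Fintype F] in
lemma transpose_mul_Bmat_mul (θ : F) (G : Matrix (Fin 2) (Fin 2) F) (hdet : G.det = 1) :
    Gᵀ * Bmat θ * G = Bmat θ := by
  rw [Matrix.det_fin_two] at hdet
  ext i j
  fin_cases i <;> fin_cases j <;>
    simp [Bmat, Matrix.mul_apply, Fin.sum_univ_two]
  · ring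
  · linear_combination θ * hdet
  · linear_combination -θ * hdet
  · ring

/-- the change of basis matrix -/
def Pmat (c lam t : F) : Matrix (Fin 2) (Fin 2) F := !![1, t; c, t * lam * c]

lemma Pmat_spec (hF : Fintype.card F = q ^ 2) (c lam t θ : F) (hc : c * c ^ q = -1) (hl : lam * lam ^ q = 1)
    (ht : t ^ q * (1 - lam ^ q) = θ) (hθ : θ ^ q = -θ) :
    (Pmat c lam t)ᵀ * (powQ hF).mapMatrix (Pmat c lam t) = Bmat θ := by
  have hθ' : t * (1 - lam) = -θ := by
    rw [← hθ, ← ht, mul_pow, pow_q_pow_q hF, sub_pow_q hF, one_pow, pow_q_pow_q hF]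
  ext i j
  fin_cases i <;> fin_cases j <;>
    simp [Bmat, Pmat, Matrix.mul_apply, Fin.sum_univ_two, powQ, mul_pow]
  · linear_combination hc
  · linear_combination ht + (t ^ q * lam ^ q) * hc
  · linear_combination hθ' + (t * lam) * hc
  · linear_combination (t * t ^ q * lam * lam ^ q) * hc - (t * t ^ q) * hl

lemma conj_unitary (hF : Fintype.card F = q ^ 2) {n : ℕ} (P Q G B : Matrix (Fin n) (Fin n) F) (hPQ : P * Q = 1)
    (hP : Pᵀ * (powQ hF).mapMatrix P = B) (hG : Gᵀ * B * (powQ hF).mapMatrix G = B) :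
    (P * G * Q)ᵀ * (powQ hF).mapMatrix (P * G * Q) = 1 := by
  calc (P * G * Q)ᵀ * (powQ hF).mapMatrix (P * G * Q)
      = Qᵀ * (Gᵀ * (Pᵀ * (powQ hF).mapMatrix P) * (powQ hF).mapMatrix G) * (powQ hF).mapMatrix Q := by
        simp only [Matrix.transpose_mul, map_mul, Matrix.mul_assoc]
    _ = Qᵀ * (Pᵀ * (powQ hF).mapMatrix P) * (powQ hF).mapMatrix Q := by rw [hP, hG]
    _ = (P * Q)ᵀ * (powQ hF).mapMatrix (P * Q) := by
        simp only [Matrix.transpose_mul, map_mul, Matrix.mul_assoc]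
    _ = 1 := by rw [hPQ]; simp

lemma exists_Pmat (hF : Fintype.card F = q ^ 2) :
    ∃ (P Q : Matrix (Fin 2) (Fin 2) F) (θ : F), P * Q = 1 ∧ Q * P = 1 ∧
      Pᵀ * (powQ hF).mapMatrix P = Bmat θ := by
  obtain ⟨c, hc⟩ := exists_norm_neg_one hF
  obtain ⟨lam, hl, hl1⟩ := exists_norm_one_ne_one hF
  obtain ⟨θ, hθ0, hθ⟩ := exists_trace_zero hF
  have hc0 : c ≠ 0 := by rintro rfl; simp at hc
  have hlq : lam ^ q ≠ 1 := by
    intro h; rw [h, mul_one] at hl; exact hl1 hl
  have hlq' : 1 - lam ^ q ≠ 0 := sub_ne_zero.mpr (Ne.symm hlq)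
  set t := (θ / (1 - lam ^ q)) ^ q with ht
  have htq : t ^ q * (1 - lam ^ q) = θ := by
    rw [ht, pow_q_pow_q hF, div_mul_cancel₀ _ hlq']
  have ht0 : t ≠ 0 := by
    intro h0
    rw [h0, zero_pow (by have := two_le_q hF; omega), zero_mul] at htq
    exact hθ0 htq.symm
  have hdet : IsUnit (Pmat c lam t).det := by
    rw [isUnit_iff_ne_zero, Matrix.det_fin_two]
    simp only [Pmat, Matrix.of_apply, Matrix.cons_val', Matrix.cons_val_zero, Matrix.cons_val_one,
      Matrix.cons_val_fin_one]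
    have : 1 * (t * lam * c) - t * c = t * c * (lam - 1) := by ring
    rw [this]
    exact mul_ne_zero (mul_ne_zero ht0 hc0) (sub_ne_zero.mpr hl1)
  refine ⟨Pmat c lam t, (Pmat c lam t)⁻¹, θ, Matrix.mul_nonsing_inv _ hdet, Matrix.nonsing_inv_mul _ hdet, ?_⟩
  exact Pmat_spec hF c lam t θ hc hl htq (eq_neg_of_add_eq_zero_right hθ)


/-- SU_2(q) is isomorphic to SL_2(q). -/
theorem result {F K : Type*} [Field F] [Fintype F] [Field K] [Fintype K] {q : ℕ} (hF : Fintype.card F = q ^ 2) (hK : Fintype.card K = q) : Nonempty (Cfsg.SU 2 F q ≃* Matrix.SpecialLinearGroup (Fin 2) K) := by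
  obtain ⟨ι⟩ := Cfsg.Agent.S2678.exists_hom hF hK
  obtain ⟨P, Q, θ, hPQ, hQP, hP⟩ := exists_Pmat hF
  have hfix : ∀ x : K, (ι x) ^ q = ι x := by
    intro x; rw [← map_pow, ← hK, FiniteField.pow_card]
  have hbar : ∀ g : Matrix (Fin 2) (Fin 2) K, (powQ hF).mapMatrix (ι.mapMatrix g) = ι.mapMatrix g := by
    intro g; ext i j; exact hfix (g i j)
  have hU : ∀ g : Matrix.SpecialLinearGroup (Fin 2) K, IsU 2 q (P * ι.mapMatrix g.1 * Q) := by
    intro g
    apply isU_of_transpose_mul_map hF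
    apply conj_unitary hF P Q _ (Bmat θ) hPQ hP
    rw [hbar]
    apply transpose_mul_Bmat_mul
    rw [← RingHom.map_det, g.2, map_one]
  have hdet : ∀ g : Matrix.SpecialLinearGroup (Fin 2) K, (P * ι.mapMatrix g.1 * Q).det = 1 := by
    intro g
    rw [Matrix.det_mul, Matrix.det_mul, ← RingHom.map_det, g.2, map_one, mul_one, ← Matrix.det_mul, hPQ,
      Matrix.det_one]
  let ψ : Matrix.SpecialLinearGroup (Fin 2) K →* Cfsg.SU 2 F q :=
    { toFun := fun g => mkSU _ (hU g) (hdet g)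
      map_one' := by
        apply Subtype.ext; apply Subtype.ext
        show P * ι.mapMatrix (1 : Matrix.SpecialLinearGroup (Fin 2) K).1 * Q = 1
        rw [Matrix.SpecialLinearGroup.coe_one, map_one, Matrix.mul_one, hPQ]
      map_mul' := fun g h => by
        apply Subtype.ext; apply Subtype.ext
        show P * ι.mapMatrix (g * h).1 * Q = (P * ι.mapMatrix g.1 * Q) * (P * ι.mapMatrix h.1 * Q)
        rw [Matrix.SpecialLinearGroup.coe_mul, map_mul]
        calc P * (ι.mapMatrix g.1 * ι.mapMatrix h.1) * Q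
            = P * ι.mapMatrix g.1 * (1 : Matrix (Fin 2) (Fin 2) F) * ι.mapMatrix h.1 * Q := by
              simp only [Matrix.mul_one, Matrix.mul_assoc]
          _ = (P * ι.mapMatrix g.1 * Q) * (P * ι.mapMatrix h.1 * Q) := by
              rw [← hQP]; simp only [Matrix.mul_assoc] }
  have hinj : Function.Injective ψ := by
    intro g h hgh
    have h1 : P * ι.mapMatrix g.1 * Q = P * ι.mapMatrix h.1 * Q := by
      have := congrArg (fun s : Cfsg.SU 2 F q => (s.1 : Matrix (Fin 2) (Fin 2) F)) hgh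
      exact this
    have h2 : ι.mapMatrix g.1 = ι.mapMatrix h.1 := by
      calc ι.mapMatrix g.1 = (Q * P) * ι.mapMatrix g.1 * (Q * P) := by rw [hQP, Matrix.one_mul, Matrix.mul_one]
        _ = Q * (P * ι.mapMatrix g.1 * Q) * P := by simp only [Matrix.mul_assoc]
        _ = Q * (P * ι.mapMatrix h.1 * Q) * P := by rw [h1]
        _ = (Q * P) * ι.mapMatrix h.1 * (Q * P) := by simp only [Matrix.mul_assoc]
        _ = ι.mapMatrix h.1 := by rw [hQP, Matrix.one_mul, Matrix.mul_one]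
    apply Subtype.ext
    ext i j
    have := congrFun (congrFun h2 i) j
    exact ι.injective this
  have hq2 := two_le_q hF
  have hcard : Nat.card (Matrix.SpecialLinearGroup (Fin 2) K) = Nat.card (Cfsg.SU 2 F q) := by
    have h1 := card_SU hF 2 (by norm_num)
    rw [Cfsg.Agent.Lib.Helper5_PSLCard.card_SL_two, hK]
    norm_num [Finset.prod_range_succ] at h1
    have h2 : q ^ 2 - 1 = (q + 1) * (q - 1) := by
      obtain ⟨k, rfl⟩ : ∃ k, q = k + 1 := ⟨q - 1, by omega⟩
      have : (k + 1) ^ 2 = (k + 1 + 1) * k + 1 := by ring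
      rw [this, Nat.add_sub_cancel, Nat.add_sub_cancel]
    have h3 : (q + 1) * Nat.card (Cfsg.SU 2 F q) = (q + 1) * (q * (q ^ 2 - 1)) := by
      rw [h1]; ring
    exact (Nat.eq_of_mul_eq_mul_left (by omega) h3).symm
  have : Finite (Cfsg.SU 2 F q) := Nat.finite_of_card_ne_zero (by
    rw [← hcard, Cfsg.Agent.Lib.Helper5_PSLCard.card_SL_two, hK]
    have : 0 < q ^ 2 - 1 := by
      have : 4 ≤ q ^ 2 := by nlinarith
      omega
    positivity)
  have hbij : Function.Bijective ψ := by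
    rw [Nat.bijective_iff_injective_and_card]
    exact ⟨hinj, hcard⟩
  exact ⟨(MulEquiv.ofBijective ψ hbij).symm⟩

end Cfsg.Agent.S0281
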