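import Cfsg.Statements.S0806
import Cfsg.Agent.S0799
import Cfsg.Agent.Lib.Helper50_DkOrders

set_option autoImplicit false
open Cfsg

namespace Cfsg.Agent.S0806

open Cfsg.Agent.Lib.Helper50_DkOrders

/-- the order bound in the subfield case -/
theorem subfield_bound {r m q d : ℕ} (hr : 2 ≤ r) (hm : 2 ≤ m) (hq : r ^ m = q) (hd : d ≤ 2) :
    r * (r ^ 2 - 1) * d ≤ q * (q - 1) := by
  have h1 : r ^ 2 ≤ q := by
    rw [← hq]
    exact Nat.pow_le_pow_right (by omega) hm
  have h2 : r ^ 2 * (r ^ 2 - 1) ≤ q * (q - 1) := Nat.mul_le_mul h1 (by omega)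
  have h3 : r * (r ^ 2 - 1) * d ≤ r * (r ^ 2 - 1) * 2 := Nat.mul_le_mul_left _ hd
  have h4 : r * (r ^ 2 - 1) * 2 ≤ r ^ 2 * (r ^ 2 - 1) := by
    have : r * 2 ≤ r ^ 2 := by nlinarith
    calc r * (r ^ 2 - 1) * 2 = r * 2 * (r ^ 2 - 1) := by ring
      _ ≤ r ^ 2 * (r ^ 2 - 1) := Nat.mul_le_mul_right _ this
  omega

/-- Minimal index (Galois): if q ∉ {2, 3, 5, 7, 9, 11} then every proper subgroup of PSL_2(q) has index ≥ q + 1, and some subgroup has index exactly q + 1. -/
theorem result {F : Type*} [Field F] [Fintype F] {q : ℕ} (hF : Fintype.card F = q) (hq : q ∉ ({2, 3, 5, 7, 9, 11} : Finset ℕ)) : (∀ H : Subgroup (Matrix.ProjectiveSpecialLinearGroup (Fin 2) F), H ≠ ⊤ → q + 1 ≤ H.index) ∧ ∃ H : Subgroup (Matrix.ProjectiveSpecialLinearGroup (Fin 2) F), H.index = q + 1 := by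
  subst hF
  classical
  obtain ⟨p, hchar⟩ := CharP.exists F
  have hp : p.Prime := (CharP.char_is_prime_or_zero F p).resolve_right
    (fun h0 => by
      subst h0
      have := CharP.charP_to_charZero F
      exact not_finite F)
  have : Fact p.Prime := ⟨hp⟩
  have hq2 : 2 ≤ Fintype.card F := Fintype.one_lt_card
  simp only [Finset.mem_insert, Finset.mem_singleton, not_or] at hq
  obtain ⟨hq2', hq3, hq5, hq7, hq9, hq11⟩ := hq
  have hq4 : 4 ≤ Fintype.card F := by omega
  refine ⟨?_, Bb, index_Bb⟩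
  intro H hH
  have hd2 : Nat.gcd 2 (Fintype.card F - 1) ≤ 2 := Nat.gcd_le_left _ (by norm_num)
  have hdpos : 0 < Nat.gcd 2 (Fintype.card F - 1) := Nat.gcd_pos_of_pos_left _ (by norm_num)
  have hcardG := card_PSL2 (F := F)
  have hHdvd : Nat.card H ∣ Nat.card (Matrix.ProjectiveSpecialLinearGroup (Fin 2) F) :=
    Subgroup.card_subgroup_dvd_card H
  have hHne : Nat.card H ≠ Nat.card (Matrix.ProjectiveSpecialLinearGroup (Fin 2) F) :=
    fun h => hH (Subgroup.eq_top_of_card_eq H h)
  apply le_index_of_card_le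
  -- bound for cyclic / dihedral
  have hk_bound : ∀ k : ℕ, (k ∣ (Fintype.card F + 1) / Nat.gcd 2 (Fintype.card F - 1) ∨
      k ∣ (Fintype.card F - 1) / Nat.gcd 2 (Fintype.card F - 1)) →
      k * Nat.gcd 2 (Fintype.card F - 1) ≤ Fintype.card F + 1 := by
    intro k hk
    rcases hk with hk | hk
    · have hpos : 0 < (Fintype.card F + 1) / Nat.gcd 2 (Fintype.card F - 1) :=
        Nat.div_pos (by omega) hdpos
      have h1 := Nat.le_of_dvd hpos hk
      calc k * Nat.gcd 2 (Fintype.card F - 1)
          ≤ (Fintype.card F + 1) / Nat.gcd 2 (Fintype.card F - 1) *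
            Nat.gcd 2 (Fintype.card F - 1) := Nat.mul_le_mul_right _ h1
        _ ≤ Fintype.card F + 1 := Nat.div_mul_le_self _ _
    · have hpos : 0 < (Fintype.card F - 1) / Nat.gcd 2 (Fintype.card F - 1) :=
        Nat.div_pos (by omega) hdpos
      have h1 := Nat.le_of_dvd hpos hk
      calc k * Nat.gcd 2 (Fintype.card F - 1)
          ≤ (Fintype.card F - 1) / Nat.gcd 2 (Fintype.card F - 1) *
            Nat.gcd 2 (Fintype.card F - 1) := Nat.mul_le_mul_right _ h1
        _ ≤ Fintype.card F - 1 := Nat.div_mul_le_self _ _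
        _ ≤ Fintype.card F + 1 := by omega
  have hqq : 2 * (Fintype.card F + 1) ≤ Fintype.card F * (Fintype.card F - 1) := by
    obtain ⟨k, hk⟩ : ∃ k, Fintype.card F = k + 4 := ⟨Fintype.card F - 4, by omega⟩
    rw [hk, show k + 4 - 1 = k + 3 by omega]
    nlinarith
  -- small orders
  have hsmall : ∀ n : ℕ, (n = 12 ∨ n = 24 ∨ n = 60) → Nat.card H = n →
      Nat.card H * Nat.gcd 2 (Fintype.card F - 1) ≤ Fintype.card F * (Fintype.card F - 1) := by
    intro n hn hHn
    by_cases h12 : 12 ≤ Fintype.card F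
    · have : 132 ≤ Fintype.card F * (Fintype.card F - 1) := by
        have : 11 ≤ Fintype.card F - 1 := by omega
        calc 132 = 12 * 11 := by norm_num
          _ ≤ Fintype.card F * (Fintype.card F - 1) := Nat.mul_le_mul h12 this
      have h60 : Nat.card H ≤ 60 := by rcases hn with h | h | h <;> omega
      calc Nat.card H * Nat.gcd 2 (Fintype.card F - 1) ≤ 60 * 2 := Nat.mul_le_mul h60 hd2
        _ ≤ Fintype.card F * (Fintype.card F - 1) := by omega
    · push Not at h12
      rw [hHn] at hHdvd hHne ⊢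
      generalize Fintype.card F = q at *
      have hq' : q = 4 ∨ q = 6 ∨ q = 8 ∨ q = 10 := by omega
      rcases hq' with rfl | rfl | rfl | rfl
      · have hG : Nat.card (Matrix.ProjectiveSpecialLinearGroup (Fin 2) F) = 60 := by
          have : Nat.gcd 2 (4 - 1) = 1 := by norm_num
          rw [this] at hcardG
          omega
        rw [hG] at hHdvd hHne
        rcases hn with rfl | rfl | rfl
        · norm_num
        · exact absurd hHdvd (by norm_num)
        · exact absurd rfl hHne
      · have hG : Nat.card (Matrix.ProjectiveSpecialLinearGroup (Fin 2) F) = 210 := by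
          have : Nat.gcd 2 (6 - 1) = 1 := by norm_num
          rw [this] at hcardG
          omega
        rw [hG] at hHdvd
        rcases hn with rfl | rfl | rfl
        · norm_num
        · norm_num
        · exact absurd hHdvd (by norm_num)
      · have hG : Nat.card (Matrix.ProjectiveSpecialLinearGroup (Fin 2) F) = 504 := by
          have : Nat.gcd 2 (8 - 1) = 1 := by norm_num
          rw [this] at hcardG
          omega
        rw [hG] at hHdvd
        rcases hn with rfl | rfl | rfl
        · norm_num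
        · norm_num
        · exact absurd hHdvd (by norm_num)
      · rcases hn with rfl | rfl | rfl <;> norm_num
  rcases Cfsg.Agent.S0799.result (F := F) rfl p H with ⟨k, hk, ⟨-, hc⟩ | ⟨⟨e⟩⟩⟩ | ⟨P, K, hK, ⟨e⟩⟩ |
    ⟨⟨e⟩⟩ | ⟨⟨e⟩⟩ | ⟨⟨e⟩⟩ | ⟨K, i1, i2, m, hm, ⟨⟨e⟩⟩ | ⟨⟨e⟩⟩⟩
  · -- cyclic
    rw [hc]
    have := hk_bound k hk
    omega
  · -- dihedral
    have hc : Nat.card H = 2 * k := by
      rw [Nat.card_congr e.toEquiv, DihedralGroup.nat_card]
    rw [hc]
    have := hk_bound k hk
    calc 2 * k * Nat.gcd 2 (Fintype.card F - 1) = 2 * (k * Nat.gcd 2 (Fintype.card F - 1)) := by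
          ring
      _ ≤ 2 * (Fintype.card F + 1) := Nat.mul_le_mul_left _ this
      _ ≤ _ := hqq
  · -- Borel
    have hc : Nat.card H = Nat.card K := Nat.card_congr e.toEquiv
    rw [hc]
    exact Nat.le_of_dvd (Nat.mul_pos (by omega) (by omega))
      (card_mul_le_of_le_normalizer p P K hK)
  · exact hsmall 12 (Or.inl rfl) (by rw [Nat.card_congr e.toEquiv, card_A4])
  · exact hsmall 24 (Or.inr (Or.inl rfl)) (by rw [Nat.card_congr e.toEquiv, card_S4])
  · exact hsmall 60 (Or.inr (Or.inr rfl)) (by rw [Nat.card_congr e.toEquiv, card_A5])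
  · -- PSL2(K)
    have hr : 2 ≤ Fintype.card K := Fintype.one_lt_card
    have hc : Nat.card H * Nat.gcd 2 (Fintype.card K - 1) =
        Fintype.card K * (Fintype.card K ^ 2 - 1) := by
      rw [Nat.card_congr e.toEquiv]
      exact card_PSL2 (F := K)
    have hm0 : m ≠ 0 := by
      rintro rfl
      rw [pow_zero] at hm
      omega
    by_cases hm1 : m = 1
    · subst hm1
      rw [pow_one] at hm
      exfalso
      apply hHne
      rw [hm] at hc
      have := hc.trans hcardG.symm
      exact Nat.eq_of_mul_eq_mul_right hdpos this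
    · have hm2 : 2 ≤ m := by omega
      have hb := subfield_bound hr hm2 hm hd2
      have hle : Nat.card H ≤ Fintype.card K * (Fintype.card K ^ 2 - 1) := by
        rw [← hc]
        exact Nat.le_mul_of_pos_right _ (Nat.gcd_pos_of_pos_left _ (by norm_num))
      exact le_trans (Nat.mul_le_mul_right _ hle) hb
  · -- PGL2(K)
    have hr : 2 ≤ Fintype.card K := Fintype.one_lt_card
    have hc : Nat.card H = Fintype.card K * (Fintype.card K ^ 2 - 1) := by
      rw [Nat.card_congr e.toEquiv]
      exact card_PGL2 (F := K)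
    have hm0 : m ≠ 0 := by
      rintro rfl
      rw [pow_zero] at hm
      omega
    by_cases hm1 : m = 1
    · subst hm1
      rw [pow_one] at hm
      exfalso
      rw [hm, ← hcardG] at hc
      have hle : Nat.card H ≤ Nat.card (Matrix.ProjectiveSpecialLinearGroup (Fin 2) F) :=
        Nat.le_of_dvd Nat.card_pos hHdvd
      have hge : Nat.card (Matrix.ProjectiveSpecialLinearGroup (Fin 2) F) ≤ Nat.card H := by
        rw [hc]
        exact Nat.le_mul_of_pos_right _ hdpos
      exact hHne (le_antisymm hle hge)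
    · have hm2 : 2 ≤ m := by omega
      have hb := subfield_bound hr hm2 hm hd2
      rw [hc]
      exact hb

end Cfsg.Agent.S0806
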