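import Cfsg.Statements.S1696
import Cfsg.Agent.S1687
import Cfsg.Agent.Lib.Helper28_Fi22Order
import Cfsg.Agent.Lib.Helper28_Fi22W0
import Cfsg.Agent.Lib.Helper28_Fi22Fix
import Cfsg.Agent.Lib.Helper28_Iwasawa
set_option autoImplicit false
set_option linter.constructorNameAsVariable false
open Cfsg
namespace Cfsg.Agent.S1696

open Cfsg.Spor Cfsg.Agent.Lib.Helper28_CosetPerm Cfsg.Agent.Lib.Helper28_Fi22Order
  Cfsg.Agent.Lib.Helper28_Iwasawa

/-- the presented group -/
abbrev G : Type := PresentedGroup RELS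

/-- generator images -/
abbrev gen (x : Fi22.Gen) : G := PresentedGroup.of x

theorem all_nodes (x : Fi22.Gen) : x ∈ coxNodes Fi22.edges := by
  cases x <;> decide

theorem cox_rel (x y : Fi22.Gen) : (gen x * gen y) ^ coxLabel Fi22.edges x y = 1 := by
  have h : (FreeGroup.of x * FreeGroup.of y) ^ coxLabel Fi22.edges x y ∈ RELS :=
    Or.inl ⟨x, all_nodes x, y, all_nodes y, rfl⟩
  have := PresentedGroup.one_of_mem h
  simpa [PresentedGroup.of] using this

theorem gen_sq (x : Fi22.Gen) : gen x * gen x = 1 := by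
  have h := cox_rel x x
  have h1 : coxLabel Fi22.edges x x = 1 := by simp [coxLabel]
  rwa [h1, pow_one] at h

theorem gen_inv (x : Fi22.Gen) : (gen x)⁻¹ = gen x :=
  inv_eq_of_mul_eq_one_left (gen_sq x)

theorem gen_comm (x y : Fi22.Gen) (h2 : coxLabel Fi22.edges x y = 2) :
    gen x * gen y = gen y * gen x := by
  have h := cox_rel x y
  rw [h2, pow_two] at h
  -- x y x y = 1
  have : gen x * gen y = (gen y)⁻¹ * (gen x)⁻¹ := by
    rw [← mul_inv_rev]
    exact eq_inv_of_mul_eq_one_left h
  rw [this, gen_inv, gen_inv]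

theorem gen_braid (x y : Fi22.Gen) (h3 : coxLabel Fi22.edges x y = 3) :
    gen y = (gen x * gen y) * gen x * (gen x * gen y)⁻¹ := by
  have h := cox_rel x y
  rw [h3] at h
  rw [mul_inv_rev, gen_inv, gen_inv]
  -- (xy)^3 = 1
  have h' : gen x * gen y * (gen x * gen y) * (gen x * gen y) = 1 := by
    rw [← h, pow_succ, pow_two]
  have : gen x * gen y * gen x * (gen y * gen x) * gen y = 1 := by
    rw [← h']; group
  have h2 : gen x * gen y * gen x * (gen y * gen x) = (gen y)⁻¹ := eq_inv_of_mul_eq_one_left this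
  rw [h2, gen_inv]

/-! ### perfectness -/

/-- image of a generator in the abelianization -/
noncomputable def ab (x : Fi22.Gen) : Abelianization G := Abelianization.of (gen x)

theorem ab_sq (x : Fi22.Gen) : ab x * ab x = 1 := by
  have := congrArg (Abelianization.of (G := G)) (gen_sq x)
  simpa [ab] using this

theorem ab_eq_of_three (x y : Fi22.Gen) (h3 : coxLabel Fi22.edges x y = 3) : ab x = ab y := by
  have h := cox_rel x y
  rw [h3] at h
  have h' := congrArg (Abelianization.of (G := G)) h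
  simp only [map_pow, map_mul, map_one] at h'
  change (ab x * ab y) ^ 3 = 1 at h'
  have hx := ab_sq x
  have hy := ab_sq y
  have : (ab x * ab y) ^ 3 = (ab x * ab x) * (ab y * ab y) * (ab x * ab y) := by
    rw [pow_succ, pow_two]
    simp only [mul_assoc, mul_comm, mul_left_comm]
  rw [this, hx, hy, one_mul, one_mul] at h'
  have : ab x * ab y = ab y * ab y := by rw [h', hy]
  exact mul_right_cancel this

theorem ab_eq_a (x : Fi22.Gen) : ab x = ab Fi22.Gen.a := by
  have hb : ab .a = ab .b := ab_eq_of_three _ _ (by decide)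
  have hc : ab .b = ab .c := ab_eq_of_three _ _ (by decide)
  have hd : ab .c = ab .d := ab_eq_of_three _ _ (by decide)
  have he : ab .d = ab .e := ab_eq_of_three _ _ (by decide)
  have hh : ab .d = ab .h := ab_eq_of_three _ _ (by decide)
  have hf : ab .e = ab .f := ab_eq_of_three _ _ (by decide)
  have hg : ab .f = ab .g := ab_eq_of_three _ _ (by decide)
  have hi : ab .h = ab .i := ab_eq_of_three _ _ (by decide)
  cases x
  · rfl
  · rw [← hb]
  · rw [← hc, ← hb]
  · rw [← hd, ← hc, ← hb]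
  · rw [← he, ← hd, ← hc, ← hb]
  · rw [← hf, ← he, ← hd, ← hc, ← hb]
  · rw [← hg, ← hf, ← he, ← hd, ← hc, ← hb]
  · rw [← hh, ← hd, ← hc, ← hb]
  · rw [← hi, ← hh, ← hd, ← hc, ← hb]

theorem ab_a_eq_one : ab Fi22.Gen.a = 1 := by
  have hmem : (Fi22.a * Fi22.b * Fi22.c * Fi22.d * Fi22.e * Fi22.f * Fi22.h) ^ 9 ∈ RELS :=
    Or.inr (by simp [Fi22.extra])
  have h := PresentedGroup.one_of_mem hmem
  have h' := congrArg (Abelianization.of (G := G)) h
  simp only [map_pow, map_mul, map_one] at h'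
  change (ab .a * ab .b * ab .c * ab .d * ab .e * ab .f * ab .h) ^ 9 = 1 at h'
  rw [ab_eq_a .b, ab_eq_a .c, ab_eq_a .d, ab_eq_a .e, ab_eq_a .f, ab_eq_a .h] at h'
  set t := ab Fi22.Gen.a with ht
  have hsq : t * t = 1 := ab_sq _
  have h7 : t * t * t * t * t * t * t = t := by
    rw [hsq, one_mul, hsq, one_mul, hsq, one_mul]
  rw [h7] at h'
  have h9 : t ^ 9 = t := by
    have : t ^ 9 = (t * t) * (t * t) * (t * t) * (t * t) * t := by
      simp only [pow_succ, pow_zero, one_mul, mul_assoc]
    rw [this, hsq]; simp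
  rw [h9] at h'
  exact h'

theorem perfect : commutator G = ⊤ := by
  rw [← Abelianization.ker_of]
  have : (Abelianization.of : G →* Abelianization G) = 1 := by
    apply PresentedGroup.ext
    intro x
    change ab x = 1
    rw [ab_eq_a, ab_a_eq_one]
  rw [this]
  exact MonoidHom.ker_one

/-! ### conjugates of `a` generate -/

theorem normalClosure_a : Subgroup.normalClosure ((Subgroup.zpowers (gen .a) : Subgroup G) : Set G) = ⊤ := by
  set N := Subgroup.normalClosure ((Subgroup.zpowers (gen .a) : Subgroup G) : Set G) with hN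
  have hnormal : N.Normal := Subgroup.normalClosure_normal
  have ha : gen .a ∈ N := Subgroup.subset_normalClosure (Subgroup.mem_zpowers _)
  have step : ∀ x y : Fi22.Gen, coxLabel Fi22.edges x y = 3 → gen x ∈ N → gen y ∈ N := by
    intro x y h3 hx
    rw [gen_braid x y h3]
    exact hnormal.conj_mem _ hx _
  have hb := step .a .b (by decide) ha
  have hc := step .b .c (by decide) hb
  have hd := step .c .d (by decide) hc
  have he := step .d .e (by decide) hd
  have hh := step .d .h (by decide) hd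
  have hf := step .e .f (by decide) he
  have hg := step .f .g (by decide) hf
  have hi := step .h .i (by decide) hh
  rw [eq_top_iff, ← PresentedGroup.closure_range_of RELS, Subgroup.closure_le]
  rintro _ ⟨x, rfl⟩
  cases x <;> assumption

/-! ### the maximal subgroup `H = 2.U6(2)` -/

/-- the generating set of `H` -/
abbrev SH : Set (FreeGroup Fi22.Gen) :=
  {Cfsg.Spor.Fi22.a, Cfsg.Spor.Fi22.c, Cfsg.Spor.Fi22.d, Cfsg.Spor.Fi22.e, Cfsg.Spor.Fi22.f, Cfsg.Spor.Fi22.g, Cfsg.Spor.Fi22.h, Cfsg.Spor.Fi22.i, (Cfsg.Spor.Fi22.a * Cfsg.Spor.Fi22.b * Cfsg.Spor.Fi22.c * Cfsg.Spor.Fi22.d * Cfsg.Spor.Fi22.e * Cfsg.Spor.Fi22.h) ^ 5}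

/-- the subgroup `H` -/
abbrev H : Subgroup G := (Subgroup.closure SH).map (PresentedGroup.mk RELS)

theorem H_max : ∀ K : Subgroup G, H ≤ K → K = H ∨ K = ⊤ := by
  obtain ⟨hidx, q₁, q₂, h1, h2⟩ := Cfsg.Agent.S1687.result
  change H.index = 3510 at hidx
  change (MulAction.orbit H q₁).ncard = 693 at h1
  change (MulAction.orbit H q₂).ncard = 2816 at h2
  have h0 : (MulAction.orbit H (((1 : G) : G ⧸ H))).ncard = 1 := by
    rw [orbit_base]; exact Set.ncard_singleton _
  have hm : ∀ i : Fin 3, (MulAction.orbit H ((![(((1 : G) : G ⧸ H)), q₁, q₂] : Fin 3 → G ⧸ H) i)).ncard =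
      (![1, 693, 2816] : Fin 3 → ℕ) i := by
    intro i
    fin_cases i
    · exact h0
    · exact h1
    · exact h2
  have hminj : Function.Injective (![1, 693, 2816] : Fin 3 → ℕ) := by decide
  apply maximal_of_suborbits H (r := 2) ![(((1 : G) : G ⧸ H)), q₁, q₂] rfl ![1, 693, 2816] hm
  · intro i j hij heq
    have hc := congrArg Set.ncard heq
    rw [hm i, hm j] at hc
    exact hij (hminj hc)
  · rw [hidx]; simp [Fin.sum_univ_succ]
  · rw [hidx]; norm_num
  · rw [hidx]; decide

/-! ### `H` centralizes `a` -/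

theorem w0_comm : PresentedGroup.mk RELS ((Fi22.a * Fi22.b * Fi22.c * Fi22.d * Fi22.e * Fi22.h) ^ 5) * gen .a =
    gen .a * PresentedGroup.mk RELS ((Fi22.a * Fi22.b * Fi22.c * Fi22.d * Fi22.e * Fi22.h) ^ 5) := by
  have hu : (FreeGroup.mk Cfsg.Agent.Lib.Helper28_Fi22W0.u : FreeGroup Fi22.Gen) =
      (Fi22.a * Fi22.b * Fi22.c * Fi22.d * Fi22.e * Fi22.h) ^ 5 * Fi22.a *
        ((Fi22.a * Fi22.b * Fi22.c * Fi22.d * Fi22.e * Fi22.h) ^ 5)⁻¹ * Fi22.a⁻¹ := by
    decide
  have h1 : PresentedGroup.mk RELS (FreeGroup.mk Cfsg.Agent.Lib.Helper28_Fi22W0.u) = 1 := by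
    apply eq_one_of_act
    · show psi _ _ (PresentedGroup.mk RELS _) = 1
      rw [psi_mk]
      exact Cfsg.Agent.Lib.Helper28_Fi22W0.trivS1687
    · show psi _ _ (PresentedGroup.mk RELS _) = 1
      rw [psi_mk]
      exact Cfsg.Agent.Lib.Helper28_Fi22W0.trivS1685
  rw [hu, map_mul, map_mul, map_mul, map_inv, map_inv] at h1
  have h2 := mul_inv_eq_one.mp h1
  have h3 := mul_inv_eq_iff_eq_mul.mp h2
  exact h3

theorem H_le_centralizer : H ≤ Subgroup.centralizer {gen .a} := by
  rw [Subgroup.map_le_iff_le_comap, Subgroup.closure_le]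
  intro s hs
  simp only [SH, Set.mem_insert_iff, Set.mem_singleton_iff] at hs
  show PresentedGroup.mk RELS s ∈ Subgroup.centralizer {gen .a}
  rw [Subgroup.mem_centralizer_iff]
  intro x hx
  rw [Set.mem_singleton_iff] at hx
  subst hx
  rcases hs with rfl | rfl | rfl | rfl | rfl | rfl | rfl | rfl | rfl
  · rfl
  · exact gen_comm .a .c (by decide)
  · exact gen_comm .a .d (by decide)
  · exact gen_comm .a .e (by decide)
  · exact gen_comm .a .f (by decide)
  · exact gen_comm .a .g (by decide)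
  · exact gen_comm .a .h (by decide)
  · exact gen_comm .a .i (by decide)
  · exact w0_comm.symm

theorem H_norm : ∀ h ∈ H, ∀ x ∈ Subgroup.zpowers (gen .a), h * x * h⁻¹ ∈ Subgroup.zpowers (gen .a) := by
  intro h hh x hx
  have hc := H_le_centralizer hh
  rw [Subgroup.mem_centralizer_iff] at hc
  have hcomm : gen .a * h = h * gen .a := hc _ rfl
  obtain ⟨k, rfl⟩ := hx
  have : h * gen .a ^ k * h⁻¹ = gen .a ^ k := by
    rw [mul_inv_eq_iff_eq_mul]
    exact ((Commute.zpow_left (show Commute (gen .a) h from hcomm) k).eq).symm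
  rw [this]
  exact Subgroup.zpow_mem_zpowers _ _

/-! ### a normal subgroup inside `H` is trivial -/

/-- A central element fixing the base point of a transitive action acts trivially. -/
theorem central_trivial {n : ℕ} [NeZero n] (ρ : G →* Equiv.Perm (Fin n))
    (htrans : ∀ x : Fin n, ∃ g : G, ρ g 0 = x) (z : G) (hz : ∀ g : G, g * z = z * g)
    (h0 : ρ z 0 = 0) : ρ z = 1 := by
  ext x
  obtain ⟨g, rfl⟩ := htrans x
  rw [← Equiv.Perm.mul_apply, ← map_mul, ← hz g, map_mul, Equiv.Perm.mul_apply, h0]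
  rfl

theorem transX : ∀ x : Fin 3510, ∃ g : G, rhoX g 0 = x := by
  intro x
  obtain ⟨w, hw⟩ := Cfsg.Agent.Lib.Helper28_S1687.verified.htrans x
  exact ⟨PresentedGroup.mk RELS w, hw⟩

theorem transY : ∀ x : Fin 14080, ∃ g : G, rhoY g 0 = x := by
  intro x
  obtain ⟨w, hw⟩ := Cfsg.Agent.Lib.Helper28_S1685.verified.htrans x
  exact ⟨PresentedGroup.mk RELS w, hw⟩

theorem H_fix : ∀ h ∈ H, rhoX h 0 = 0 := by
  intro h hh
  have := map_closure_le_stabilizer (perm Cfsg.Agent.Lib.Helper28_S1687.verified.hv)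
    Cfsg.Agent.Lib.Helper28_S1687.verified.hrel SH Cfsg.Agent.Lib.Helper28_S1687.verified.hsub hh
  exact this

theorem normal_le_H_eq_bot (N : Subgroup G) [hN : N.Normal] (hNH : N ≤ H) : N = ⊥ := by
  rw [Subgroup.eq_bot_iff_forall]
  intro z hz
  -- `z` commutes with all conjugates of `a`, hence is central
  have hcent : ∀ g : G, g * z = z * g := by
    have hle : (⊤ : Subgroup G) ≤ Subgroup.centralizer {z} := by
      rw [← normalClosure_a]
      unfold Subgroup.normalClosure
      rw [Subgroup.closure_le]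
      intro x hx
      rw [Group.mem_conjugatesOfSet_iff] at hx
      obtain ⟨y, hy, hyx⟩ := hx
      rw [isConj_iff] at hyx
      obtain ⟨c, rfl⟩ := hyx
      obtain ⟨k, rfl⟩ := hy
      -- c⁻¹ z c ∈ N ≤ H commutes with a
      have hz' : c⁻¹ * z * c⁻¹⁻¹ ∈ N := hN.conj_mem z hz c⁻¹
      have hc := H_le_centralizer (hNH hz')
      rw [Subgroup.mem_centralizer_iff] at hc
      have hcomm : Commute (gen .a) (c⁻¹ * z * c⁻¹⁻¹) := hc _ rfl
      have hk : Commute (gen .a ^ k) (c⁻¹ * z * c⁻¹⁻¹) := Commute.zpow_left hcomm k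
      show c * gen .a ^ k * c⁻¹ ∈ Subgroup.centralizer {z}
      rw [Subgroup.mem_centralizer_iff]
      intro w hw
      rw [Set.mem_singleton_iff] at hw
      subst hw
      have e := hk.eq
      -- rearrange
      have : w * (c * gen .a ^ k * c⁻¹) = c * ((c⁻¹ * w * c⁻¹⁻¹) * gen .a ^ k) * c⁻¹ := by group
      rw [this, ← e]
      group
    intro g
    have := hle (Subgroup.mem_top g)
    rw [Subgroup.mem_centralizer_iff] at this
    exact (this z rfl).symm
  apply eq_one_of_act
  · exact central_trivial rhoX transX z hcent (H_fix z (hNH hz))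
  · apply central_trivial rhoY transY z hcent
    -- the point `rhoY z 0` is fixed by `b, …, i`
    set y : Fin 14080 := rhoY z 0 with hy
    have hfix : ∀ a ∈ Cfsg.Agent.Lib.Helper28_Fi22Fix.ls,
        nxt 262143 (Cfsg.Agent.Lib.Helper28_S1685.col a true) ((y : ℕ) * 18) = (y : ℕ) * 18 := by
      intro a ha
      have hv := Cfsg.Agent.Lib.Helper28_S1685.verified.hv
      have ha0 : rhoY (gen a) 0 = 0 := by
        show FreeGroup.lift (perm Cfsg.Agent.Lib.Helper28_S1685.verified.hv) (FreeGroup.of a) 0 = 0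
        apply Cfsg.Agent.Lib.Helper28_S1685.verified.hsub
        simp only [Cfsg.Agent.Lib.Helper28_Fi22Fix.ls, List.mem_cons, List.not_mem_nil, or_false] at ha
        simp only [Set.mem_insert_iff, Set.mem_singleton_iff]
        rcases ha with rfl | rfl | rfl | rfl | rfl | rfl | rfl | rfl <;> decide
      have hay : rhoY (gen a) y = y := by
        rw [hy, ← Equiv.Perm.mul_apply, ← map_mul, hcent (gen a), map_mul, Equiv.Perm.mul_apply, ha0]
      have hperm : perm hv a y = y := hay
      have hinv : (perm hv a).symm y = y := by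
        rw [Equiv.symm_apply_eq]; exact hperm.symm
      have hstep : stepFin hv a true y = y := hinv
      have := stepFin_spec hv a true y
      rw [hstep] at this
      exact this
    have := Cfsg.Agent.Lib.Helper28_Fi22Fix.unique_fixed y y.2 hfix
    exact Fin.ext this

/-! ### the result -/

theorem result : Cfsg.IsFi22 Cfsg.Spor.Fi22 := by
  refine ⟨?_, card_eq⟩
  have hnt : Nontrivial G := by
    rw [← Finite.one_lt_card_iff_nontrivial, card_eq]
    norm_num
  refine ⟨fun N hN => ?_⟩
  rcases normal_le_or_eq_top H (Subgroup.zpowers (gen .a)) H_max (Subgroup.zpowers_isMulCommutative _)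
    H_norm normalClosure_a perfect N with h | h
  · exact Or.inl (normal_le_H_eq_bot N h)
  · exact Or.inr h

end Cfsg.Agent.S1696
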