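import Mathlib
import Cfsg.Statements.S0046
-- import your own Cfsg.Agent.* helpers here

set_option autoImplicit false
set_option linter.style.haveILetI false
open Cfsg

namespace Cfsg.Agent.S0046

universe u

section
variable {G : Type u} [Group G]

/-- nonidentity elements conjugate into `M` -/
def conjUnion (M : Subgroup G) : Set G := {x : G | x ≠ 1 ∧ ∃ g : G, g⁻¹ * x * g ∈ M}

theorem card_ne_one (M : Subgroup G) [Finite M] : Nat.card {m : M // m ≠ 1} = Nat.card M - 1 := by
  classical
  haveI := Fintype.ofFinite M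
  rw [Nat.card_eq_fintype_card, Nat.card_eq_fintype_card, Fintype.card_subtype_compl,
    Fintype.card_subtype_eq]

theorem ncard_conjUnion [Finite G] (M : Subgroup G)
    (hTI : ∀ g : G, g ∉ M → ∀ x ∈ M, g * x * g⁻¹ ∈ M → x = 1) :
    (conjUnion M).ncard = M.index * (Nat.card M - 1) := by
  classical
  rw [← _root_.Nat.card_coe_set_eq, ← card_ne_one M, Subgroup.index_eq_card, ← Nat.card_prod]
  symm
  let f : (G ⧸ M) × {m : M // m ≠ 1} → conjUnion M := fun qm =>
    ⟨qm.1.out * (qm.2.1 : G) * qm.1.out⁻¹, by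
      refine ⟨?_, qm.1.out, ?_⟩
      · intro h
        apply qm.2.2
        have h1 : (qm.2.1 : G) = qm.1.out⁻¹ * (qm.1.out * (qm.2.1 : G) * qm.1.out⁻¹) * qm.1.out := by group
        rw [h, mul_one, inv_mul_cancel] at h1
        exact Subtype.ext h1
      · have h1 : qm.1.out⁻¹ * (qm.1.out * (qm.2.1 : G) * qm.1.out⁻¹) * qm.1.out = (qm.2.1 : G) := by group
        rw [h1]
        exact qm.2.1.2⟩
  apply Nat.card_congr
  refine Equiv.ofBijective f ⟨?_, ?_⟩
  · rintro ⟨q, m⟩ ⟨q', m'⟩ hqq
    have h0 : q.out * (m.1 : G) * q.out⁻¹ = q'.out * (m'.1 : G) * q'.out⁻¹ := congrArg Subtype.val hqq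
    have h1 : (q'.out⁻¹ * q.out) * (m.1 : G) * (q'.out⁻¹ * q.out)⁻¹ = (m'.1 : G) := by
      have : q'.out⁻¹ * (q.out * (m.1 : G) * q.out⁻¹) * q'.out = (m'.1 : G) := by
        rw [h0]; group
      rw [← this]; group
    have h2 : q'.out⁻¹ * q.out ∈ M := by
      by_contra hne
      have := hTI _ hne (m.1 : G) m.1.2 (by rw [h1]; exact m'.1.2)
      exact m.2 (Subtype.ext this)
    have h3 : q' = q := by
      rw [← QuotientGroup.out_eq' q', ← QuotientGroup.out_eq' q]
      exact QuotientGroup.eq.mpr h2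
    subst h3
    have h4 : (m.1 : G) = (m'.1 : G) := by
      have := h1
      simpa using this
    have h5 : m = m' := Subtype.ext (Subtype.ext h4)
    rw [h5]
  · rintro ⟨x, hx1, g, hg⟩
    -- g = out(q) * m0
    set q : G ⧸ M := (g : G ⧸ M) with hq
    have hm0 : q.out⁻¹ * g ∈ M := by
      have : ((q.out : G) : G ⧸ M) = (g : G ⧸ M) := QuotientGroup.out_eq' q
      exact QuotientGroup.eq.mp this
    set m0 : G := q.out⁻¹ * g with hm0def
    have hx : x = q.out * (m0 * (g⁻¹ * x * g) * m0⁻¹) * q.out⁻¹ := by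
      rw [hm0def]; group
    have hmem : m0 * (g⁻¹ * x * g) * m0⁻¹ ∈ M := M.mul_mem (M.mul_mem hm0 hg) (M.inv_mem hm0)
    have hne : (⟨m0 * (g⁻¹ * x * g) * m0⁻¹, hmem⟩ : M) ≠ 1 := by
      intro h
      have h' : m0 * (g⁻¹ * x * g) * m0⁻¹ = 1 := congrArg Subtype.val h
      rw [h'] at hx
      apply hx1
      rw [hx]; group
    refine ⟨(q, ⟨⟨_, hmem⟩, hne⟩), ?_⟩
    apply Subtype.ext
    exact hx.symm


/-- In a nilpotent subgroup `M`, a proper subgroup `D` is normalised by some element of `M` outside `D`. -/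
theorem exists_normalizing (M D : Subgroup G) (hM : Group.IsNilpotent M) (hDM : D ≤ M) (hne : D ≠ M) :
    ∃ x ∈ M, x ∉ D ∧ x ∈ Subgroup.normalizer (D : Set G) := by
  have hlt : D.subgroupOf M < ⊤ := by
    rw [lt_top_iff_ne_top, Ne, Subgroup.subgroupOf_eq_top]
    intro h
    exact hne (le_antisymm hDM h)
  have hnc := (Group.normalizerCondition_of_isNilpotent (G := M)) (D.subgroupOf M) hlt
  obtain ⟨x, hxN, hxD⟩ := SetLike.exists_of_lt hnc
  refine ⟨(x : G), x.2, ?_, ?_⟩
  · intro h
    exact hxD (Subgroup.mem_subgroupOf.mpr h)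
  · rw [Subgroup.mem_normalizer_iff]
    rw [Subgroup.mem_normalizer_iff] at hxN
    intro d
    constructor
    · intro hd
      have := (hxN ⟨d, hDM hd⟩).mp (Subgroup.mem_subgroupOf.mpr hd)
      exact Subgroup.mem_subgroupOf.mp this
    · intro hd
      have hdM : d ∈ M := by
        have h1 : (x : G) * d * (x : G)⁻¹ ∈ M := hDM hd
        have := M.mul_mem (M.mul_mem (M.inv_mem x.2) h1) x.2
        simpa [mul_assoc] using this
      have := (hxN ⟨d, hdM⟩).mpr (Subgroup.mem_subgroupOf.mpr hd)
      exact Subgroup.mem_subgroupOf.mp this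

theorem coatoms_inf_eq_bot [Finite G]
    (hsimple : ∀ N : Subgroup G, N.Normal → N = ⊥ ∨ N = ⊤)
    (h : ∀ M : Subgroup G, IsCoatom M → Group.IsNilpotent M) :
    ∀ M1 M2 : Subgroup G, IsCoatom M1 → IsCoatom M2 → M1 ≠ M2 → M1 ⊓ M2 = ⊥ := by
  classical
  intro A B hA hB hAB
  let T := {p : Subgroup G × Subgroup G // IsCoatom p.1 ∧ IsCoatom p.2 ∧ p.1 ≠ p.2}
  haveI : Nonempty T := ⟨⟨(A, B), hA, hB, hAB⟩⟩
  obtain ⟨⟨⟨M1, M2⟩, h1, h2, h12⟩, hmax⟩ := Finite.exists_max
    (fun p : T => Nat.card ((p.1.1 ⊓ p.1.2 : Subgroup G)))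
  simp only at h1 h2 h12 hmax
  set D : Subgroup G := M1 ⊓ M2 with hD
  have hDbot : D = ⊥ := by
    by_contra hDne
    have hNtop : Subgroup.normalizer (D : Set G) ≠ ⊤ := by
      intro htop
      have hn : D.Normal := Subgroup.normalizer_eq_top_iff.mp htop
      rcases hsimple D hn with h0 | h0
      · exact hDne h0
      · apply h1.1
        rw [eq_top_iff, ← h0]
        exact inf_le_left
    obtain ⟨M3, hM3, hle3⟩ := (eq_top_or_exists_le_coatom (Subgroup.normalizer (D : Set G))).resolve_left hNtop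
    have hDM3 : D ≤ M3 := le_trans Subgroup.le_normalizer hle3
    have key : ∀ M : Subgroup G, IsCoatom M → D ≤ M → D ≠ M →
        (∀ p : T, Nat.card (p.1.1 ⊓ p.1.2 : Subgroup G) ≤ Nat.card D) → M3 = M := by
      intro M hM hDM hDneM hmx
      by_contra hne
      obtain ⟨x, hxM, hxD, hxN⟩ := exists_normalizing M D (h M hM) hDM hDneM
      have hle : D ≤ M3 ⊓ M := le_inf hDM3 hDM
      have hcard := hmx ⟨(M3, M), hM3, hM, hne⟩
      simp only at hcard
      have heq := Subgroup.eq_of_le_of_card_ge hle hcard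
      apply hxD
      rw [heq]
      exact ⟨hle3 hxN, hxM⟩
    have hD1 : D ≠ M1 := by
      intro h0
      apply h12
      have : M1 ≤ M2 := by
        rw [← h0]; exact inf_le_right
      exact h1.le_iff_eq h2.1 |>.mp this |>.symm ▸ rfl
    have hD2 : D ≠ M2 := by
      intro h0
      apply h12
      have : M2 ≤ M1 := by
        rw [← h0]; exact inf_le_left
      exact (h2.le_iff_eq h1.1 |>.mp this)
    have e1 := key M1 h1 inf_le_left hD1 (fun p => hmax p)
    have e2 := key M2 h2 inf_le_right hD2 (fun p => hmax p)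
    exact h12 (e1.symm.trans e2)
  have := hmax ⟨(A, B), hA, hB, hAB⟩
  simp only at this
  rw [hDbot, Subgroup.card_bot] at this
  have hpos : 0 < Nat.card (A ⊓ B : Subgroup G) := Nat.card_pos
  exact Subgroup.card_eq_one.mp (by omega)


/-- the simple non-abelian case is impossible -/
theorem simple_case [Finite G]
    (hsimple : ∀ N : Subgroup G, N.Normal → N = ⊥ ∨ N = ⊤)
    (hnc : ¬ ∀ a b : G, a * b = b * a)
    (h : ∀ M : Subgroup G, IsCoatom M → Group.IsNilpotent M) : False := by
  classical
  have hA := coatoms_inf_eq_bot hsimple h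
  -- every nonidentity element lies in a coatom
  have hcoatom : ∀ x : G, ∃ M : Subgroup G, IsCoatom M ∧ x ∈ M := by
    intro x
    have hne : Subgroup.zpowers x ≠ ⊤ := by
      intro htop
      apply hnc
      intro a b
      have ha : a ∈ Subgroup.zpowers x := htop ▸ Subgroup.mem_top a
      have hb : b ∈ Subgroup.zpowers x := htop ▸ Subgroup.mem_top b
      obtain ⟨i, rfl⟩ := Subgroup.mem_zpowers_iff.mp ha
      obtain ⟨j, rfl⟩ := Subgroup.mem_zpowers_iff.mp hb
      rw [← zpow_add, ← zpow_add, add_comm]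
    obtain ⟨M, hM, hle⟩ := (eq_top_or_exists_le_coatom (Subgroup.zpowers x)).resolve_left hne
    exact ⟨M, hM, hle (Subgroup.mem_zpowers x)⟩
  -- the TI property of a nontrivial coatom
  have hTI : ∀ M : Subgroup G, IsCoatom M → M ≠ ⊥ →
      ∀ g : G, g ∉ M → ∀ x ∈ M, g * x * g⁻¹ ∈ M → x = 1 := by
    intro M hM hMbot g hg x hx hgx
    set M' : Subgroup G := Subgroup.comap ((MulAut.conj g : G ≃* G) : G →* G) M with hM'
    have hM'co : IsCoatom M' := (Subgroup.isCoatom_comap (MulAut.conj g : G ≃* G)).mpr hM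
    have hmem : ∀ y, y ∈ M' ↔ g * y * g⁻¹ ∈ M := by
      intro y
      rw [hM', Subgroup.mem_comap]
      simp [MulAut.conj_apply]
    have hne : M' ≠ M := by
      intro heq
      have hgN : g ∈ Subgroup.normalizer (M : Set G) := by
        rw [Subgroup.mem_normalizer_iff]
        intro y
        rw [← hmem, heq]
      have hNM : Subgroup.normalizer (M : Set G) = M ∨ Subgroup.normalizer (M : Set G) = ⊤ := by
        by_cases htop : Subgroup.normalizer (M : Set G) = ⊤
        · exact Or.inr htop
        · left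
          exact ((hM.le_iff_eq htop).mp Subgroup.le_normalizer)
      rcases hNM with h0 | h0
      · rw [h0] at hgN; exact hg hgN
      · have hn : M.Normal := Subgroup.normalizer_eq_top_iff.mp h0
        rcases hsimple M hn with h1 | h1
        · exact hMbot h1
        · exact hM.1 h1
    have hinf := hA M' M hM'co hM hne
    have : x ∈ M' ⊓ M := ⟨(hmem x).mpr hgx, hx⟩
    rw [hinf] at this
    exact Subgroup.mem_bot.mp this
  -- a first coatom
  obtain ⟨a, b, hab⟩ : ∃ a b : G, a * b ≠ b * a := by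
    by_contra hcon
    push Not at hcon
    exact hnc hcon
  have ha1 : a ≠ 1 := by
    rintro rfl
    simp at hab
  obtain ⟨M, hM, haM⟩ := hcoatom a
  have hMbot : M ≠ ⊥ := by
    intro h0
    rw [h0] at haM
    exact ha1 (Subgroup.mem_bot.mp haM)
  have hcard : ∀ M : Subgroup G, IsCoatom M → M ≠ ⊥ →
      2 * M.index ≤ Nat.card G ∧ (conjUnion M).ncard + M.index = Nat.card G := by
    intro M hM hMbot
    have h1 := ncard_conjUnion M (hTI M hM hMbot)
    have h2 : Nat.card M * M.index = Nat.card G := Subgroup.card_mul_index M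
    have h3 : 2 ≤ Nat.card M := by
      have : Nat.card M ≠ 1 := fun h0 => hMbot (Subgroup.card_eq_one.mp h0)
      have : 0 < Nat.card M := Nat.card_pos
      omega
    constructor
    · calc 2 * M.index ≤ Nat.card M * M.index := Nat.mul_le_mul_right _ h3
        _ = Nat.card G := h2
    · rw [h1, ← h2]
      have : Nat.card M = (Nat.card M - 1) + 1 := by omega
      conv_rhs => rw [this]
      ring
  obtain ⟨hM2, hMc⟩ := hcard M hM hMbot
  have hidx : 2 ≤ M.index := by
    have h1 : M.index ≠ 1 := fun h0 => hM.1 (Subgroup.index_eq_one.mp h0)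
    have h0 : M.index ≠ 0 := Subgroup.index_ne_zero_of_finite
    omega
  -- an element outside the conjugates of `M`
  have hex : ∃ x : G, x ≠ 1 ∧ x ∉ conjUnion M := by
    by_contra hcon
    push Not at hcon
    have hsub : ({1}ᶜ : Set G) ⊆ conjUnion M := fun x hx => hcon x hx
    have h1 := Set.ncard_le_ncard hsub (Set.toFinite _)
    have h2 : ({1}ᶜ : Set G).ncard = Nat.card G - 1 := by
      rw [Set.ncard_compl, Set.ncard_singleton]
    omega
  obtain ⟨x', hx'1, hx'U⟩ := hex
  obtain ⟨M', hM', hx'M'⟩ := hcoatom x'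
  have hM'bot : M' ≠ ⊥ := by
    intro h0
    rw [h0] at hx'M'
    exact hx'1 (Subgroup.mem_bot.mp hx'M')
  obtain ⟨hM'2, hM'c⟩ := hcard M' hM' hM'bot
  -- the two unions are disjoint
  have hdisj : Disjoint (conjUnion M) (conjUnion M') := by
    rw [Set.disjoint_left]
    rintro y ⟨hy1, g, hg⟩ ⟨_, k, hk⟩
    -- coatoms `g M g⁻¹` and `k M' k⁻¹`
    set A : Subgroup G := Subgroup.comap ((MulAut.conj g⁻¹ : G ≃* G) : G →* G) M with hAdef
    set B : Subgroup G := Subgroup.comap ((MulAut.conj k⁻¹ : G ≃* G) : G →* G) M' with hBdef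
    have hAco : IsCoatom A := (Subgroup.isCoatom_comap (MulAut.conj g⁻¹ : G ≃* G)).mpr hM
    have hBco : IsCoatom B := (Subgroup.isCoatom_comap (MulAut.conj k⁻¹ : G ≃* G)).mpr hM'
    have hAmem : ∀ z, z ∈ A ↔ g⁻¹ * z * g ∈ M := by
      intro z
      rw [hAdef, Subgroup.mem_comap]
      simp
    have hBmem : ∀ z, z ∈ B ↔ k⁻¹ * z * k ∈ M' := by
      intro z
      rw [hBdef, Subgroup.mem_comap]
      simp [MulAut.conj_apply]
    have hAB : A ≠ B := by
      intro heq
      apply hx'U
      refine ⟨hx'1, k⁻¹ * g, ?_⟩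
      -- x' ∈ M' so k x' k⁻¹ ∈ B = A
      have h1 : k * x' * k⁻¹ ∈ B := by
        rw [hBmem]
        have : k⁻¹ * (k * x' * k⁻¹) * k = x' := by group
        rw [this]; exact hx'M'
      rw [← heq, hAmem] at h1
      have h2 : (k⁻¹ * g)⁻¹ * x' * (k⁻¹ * g) = g⁻¹ * (k * x' * k⁻¹) * g := by group
      rw [h2]; exact h1
    have hinf := hA A B hAco hBco hAB
    have : y ∈ A ⊓ B := ⟨(hAmem y).mpr hg, (hBmem y).mpr hk⟩
    rw [hinf] at this
    exact hy1 (Subgroup.mem_bot.mp this)
  have hunion : (conjUnion M ∪ conjUnion M').ncard = (conjUnion M).ncard + (conjUnion M').ncard :=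
    Set.ncard_union_eq hdisj (Set.toFinite _) (Set.toFinite _)
  have hsub : conjUnion M ∪ conjUnion M' ⊆ ({1}ᶜ : Set G) := by
    intro y hy
    rcases hy with hy | hy
    · exact hy.1
    · exact hy.1
  have h1 := Set.ncard_le_ncard hsub (Set.toFinite _)
  have h2 : ({1}ᶜ : Set G).ncard = Nat.card G - 1 := by
    rw [Set.ncard_compl, Set.ncard_singleton]
  have hpos : 0 < Nat.card G := Nat.card_pos
  omega


end

theorem main : ∀ (n : ℕ) (G : Type u) [Group G] [Finite G], Nat.card G = n →
    (∀ M : Subgroup G, IsCoatom M → Group.IsNilpotent M) → Group.IsSolvable G := by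
  intro n
  induction n using Nat.strong_induction_on with
  | _ n ih =>
    intro G _ _ hn h
    by_cases hsimple : ∀ N : Subgroup G, N.Normal → N = ⊥ ∨ N = ⊤
    · by_cases hc : ∀ a b : G, a * b = b * a
      · exact Group.isSolvable_of_comm hc
      · exact (simple_case hsimple hc h).elim
    · push Not at hsimple
      obtain ⟨N, hNn, hNbot, hNtop⟩ := hsimple
      haveI := hNn
      -- `N` is solvable
      obtain ⟨M, hM, hNM⟩ := (eq_top_or_exists_le_coatom N).resolve_left hNtop
      haveI : Group.IsNilpotent M := h M hM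
      haveI : Group.IsSolvable M := inferInstance
      haveI : Group.IsSolvable N :=
        Group.isSolvable_of_isSolvable_injective (Subgroup.inclusion_injective hNM)
      -- `G ⧸ N` is solvable by induction
      have hcardlt : Nat.card (G ⧸ N) < n := by
        rw [← hn, ← Subgroup.index_eq_card, ← Subgroup.card_mul_index N]
        have h2 : 2 ≤ Nat.card N := by
          have : Nat.card N ≠ 1 := fun h0 => hNbot (Subgroup.card_eq_one.mp h0)
          have : 0 < Nat.card N := Nat.card_pos
          omega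
        have h0 : 0 < N.index := Nat.pos_of_ne_zero Subgroup.index_ne_zero_of_finite
        nlinarith
      haveI : Group.IsSolvable (G ⧸ N) := by
        apply ih _ hcardlt (G ⧸ N) rfl
        intro K hK
        have hKco : IsCoatom (K.comap (QuotientGroup.mk' N)) :=
          Subgroup.isCoatom_comap_of_surjective (QuotientGroup.mk'_surjective N) hK
        haveI : Group.IsNilpotent (K.comap (QuotientGroup.mk' N)) := h _ hKco
        have hmap : (K.comap (QuotientGroup.mk' N)).map (QuotientGroup.mk' N) = K :=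
          Subgroup.map_comap_eq_self_of_surjective (QuotientGroup.mk'_surjective N) K
        have hsurj := MonoidHom.subgroupMap_surjective (QuotientGroup.mk' N) (K.comap (QuotientGroup.mk' N))
        have hnil : Group.IsNilpotent ((K.comap (QuotientGroup.mk' N)).map (QuotientGroup.mk' N)) :=
          Group.nilpotent_of_surjective _ hsurj
        rw [hmap] at hnil
        exact hnil
      exact Group.isSolvable_of_ker_le_range N.subtype (QuotientGroup.mk' N) (by simp)


/-- Schmidt's Theorem on minimal non-nilpotent groups: a finite group in which every maximal subgroup is nilpotent is solvable. -/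
theorem result {G : Type*} [Group G] [Finite G]
    (h : ∀ M : Subgroup G, IsCoatom M → Group.IsNilpotent M) : Group.IsSolvable G := by
  exact main _ G rfl h

end Cfsg.Agent.S0046
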