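import Cfsg.Statements.S1459
import Cfsg.Agent.Lib.Helper76_Transfer
import Cfsg.Agent.Lib.Helper32_Nilpotent
import Cfsg.Agent.Lib.Helper76_PGroup

set_option autoImplicit false
open Cfsg

namespace Cfsg.Agent.S1459

open scoped commutatorElement

variable {G : Type*} [Group G]

/-- `H` normalizes `⁅H, K⁆` (elementwise form). -/
theorem conj_mem_comm (H K : Subgroup G) (h' : G) (hh' : h' ∈ H) (n : G) (hn : n ∈ ⁅H, K⁆) :
    h' * n * h'⁻¹ ∈ ⁅H, K⁆ := by
  rw [Subgroup.commutator_def] at hn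
  induction hn using Subgroup.closure_induction with
  | mem g hg =>
    obtain ⟨a, ha, b, hb, rfl⟩ := hg
    have e : h' * ⁅a, b⁆ * h'⁻¹ = ⁅h' * a, b⁆ * ⁅h', b⁆⁻¹ := by
      simp only [commutatorElement_def]; group
    rw [e]
    exact Subgroup.mul_mem _ (Subgroup.commutator_mem_commutator (H.mul_mem hh' ha) hb)
      (Subgroup.inv_mem _ (Subgroup.commutator_mem_commutator hh' hb))
  | one => simp
  | mul x y _ _ hx hy =>
    have e : h' * (x * y) * h'⁻¹ = (h' * x * h'⁻¹) * (h' * y * h'⁻¹) := by group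
    rw [e]; exact Subgroup.mul_mem _ hx hy
  | inv x _ hx =>
    have e : h' * x⁻¹ * h'⁻¹ = (h' * x * h'⁻¹)⁻¹ := by group
    rw [e]; exact Subgroup.inv_mem _ hx

theorem le_normalizer_comm (H K : Subgroup G) :
    H ≤ Subgroup.normalizer ((⁅H, K⁆ : Subgroup G) : Set G) := by
  intro h' hh'
  rw [Subgroup.mem_normalizer_iff]
  intro n
  constructor
  · exact conj_mem_comm H K h' hh' n
  · intro hn
    have := conj_mem_comm H K h'⁻¹ (H.inv_mem hh') _ hn
    have e : h'⁻¹ * (h' * n * h'⁻¹) * h'⁻¹⁻¹ = n := by group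
    rwa [e] at this

/-- An element whose order divides two coprime numbers is trivial. -/
theorem eq_one_of_pow_coprime {A : Type*} [Group A] (x : A) (m n : ℕ) (hm : x ^ m = 1)
    (hn : x ^ n = 1) (h : m.Coprime n) : x = 1 := by
  have h1 := orderOf_dvd_of_pow_eq_one hm
  have h2 := orderOf_dvd_of_pow_eq_one hn
  exact orderOf_eq_one_iff.mp (Nat.eq_one_of_dvd_coprimes h h1 h2)


/-- Every element is `k * h` with `k ∈ K`, `h ∈ H`. -/
theorem exists_mul_of_compl (H K : Subgroup G) (hc : Subgroup.IsComplement' H K) (g : G) :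
    ∃ h ∈ H, ∃ k ∈ K, g = h * k := by
  obtain ⟨⟨⟨h, hh⟩, ⟨k, hk⟩⟩, e⟩ := hc.2 g
  exact ⟨h, hh, k, hk, e.symm⟩

theorem centralizer_part [Finite G] (H K : Subgroup G)
    (hcop : (Nat.card H).Coprime H.index) (hc : Subgroup.IsComplement' H K)
    (hle : H ≤ commutator G) :
    H ⊓ Subgroup.centralizer (K : Set G) ≤ ⁅H, H⁆ := by
  intro c hc'
  rw [Subgroup.mem_inf] at hc'
  obtain ⟨hcH, hcK⟩ := hc'
  let ϕ : H →* Abelianization H := Abelianization.of
  have key : ∀ (k : ℕ) (g₀ : G) (hk : g₀⁻¹ * c ^ k * g₀ ∈ H),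
      ϕ ⟨g₀⁻¹ * c ^ k * g₀, hk⟩ / (ϕ ⟨c, hcH⟩) ^ k ∈ (⊥ : Subgroup (Abelianization H)) := by
    intro k g₀ hk
    obtain ⟨k₀, hk₀, h₀, hh₀, e⟩ := exists_mul_of_compl K H hc.symm g₀
    have hcomm : k₀⁻¹ * c ^ k * k₀ = c ^ k := by
      have h1 : k₀ * c = c * k₀ := (Subgroup.mem_centralizer_iff.mp hcK k₀ hk₀)
      have h2 : Commute k₀ (c ^ k) := (show Commute k₀ c from h1).pow_right k
      calc k₀⁻¹ * c ^ k * k₀ = k₀⁻¹ * (c ^ k * k₀) := by group
        _ = k₀⁻¹ * (k₀ * c ^ k) := by rw [h2.eq]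
        _ = c ^ k := by group
    have e2 : (⟨g₀⁻¹ * c ^ k * g₀, hk⟩ : H) = (⟨h₀, hh₀⟩ : H)⁻¹ * (⟨c, hcH⟩ : H) ^ k * ⟨h₀, hh₀⟩ := by
      apply Subtype.ext
      simp only [Subgroup.coe_mul, Subgroup.coe_inv, Subgroup.coe_pow]
      rw [e]
      calc (k₀ * h₀)⁻¹ * c ^ k * (k₀ * h₀) = h₀⁻¹ * (k₀⁻¹ * c ^ k * k₀) * h₀ := by group
        _ = h₀⁻¹ * c ^ k * h₀ := by rw [hcomm]
    rw [Subgroup.mem_bot, e2, map_mul, map_mul, map_inv, map_pow]
    rw [mul_comm, ← mul_assoc, mul_inv_cancel, one_mul, div_self']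
  have hV := Cfsg.Agent.Lib.Helper76_Transfer.transfer_div_pow_mem ϕ ⊥ c (ϕ ⟨c, hcH⟩) key
  rw [Subgroup.mem_bot, div_eq_one] at hV
  have hV1 : MonoidHom.transfer ϕ c = 1 :=
    MonoidHom.mem_ker.mp (Abelianization.commutator_subset_ker _ (hle hcH))
  rw [hV1] at hV
  have h2 : (ϕ ⟨c, hcH⟩) ^ Nat.card H = 1 := by
    rw [← map_pow, pow_card_eq_one', map_one]
  have h3 : ϕ ⟨c, hcH⟩ = 1 := eq_one_of_pow_coprime _ _ _ h2 hV.symm hcop
  have h4 : (⟨c, hcH⟩ : H) ∈ commutator H := by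
    rw [← Abelianization.ker_of]; exact MonoidHom.mem_ker.mpr h3
  rw [← Subgroup.map_subtype_commutator]
  exact ⟨⟨c, hcH⟩, h4, rfl⟩


theorem eq_comm_part [Finite G] [Group.IsSolvable G] (H K : Subgroup G) (hHn : H.Normal)
    (hcop : (Nat.card H).Coprime H.index) (hc : Subgroup.IsComplement' H K)
    (hle : H ≤ commutator G) :
    H = ⁅H, K⁆ := by
  have hNH : ⁅H, K⁆ ≤ H := Subgroup.commutator_le_left H K
  refine le_antisymm ?_ hNH
  have hnorm : ((⁅H, K⁆ : Subgroup G).subgroupOf H).Normal :=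
    (Subgroup.normal_subgroupOf_iff_le_normalizer hNH).mpr (le_normalizer_comm H K)
  let N' : Subgroup H := (⁅H, K⁆ : Subgroup G).subgroupOf H
  let ϕ : H →* Abelianization (H ⧸ N') := Abelianization.of.comp (QuotientGroup.mk' N')
  have hϕ : ∀ h : H, ϕ h = 1 := by
    intro h
    have key : ∀ (k : ℕ) (g₀ : G) (hk : g₀⁻¹ * (h : G) ^ k * g₀ ∈ H),
        ϕ ⟨g₀⁻¹ * (h : G) ^ k * g₀, hk⟩ / (ϕ h) ^ k
          ∈ (⊥ : Subgroup (Abelianization (H ⧸ N'))) := by
      intro k g₀ hk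
      obtain ⟨h₀, hh₀, k₀, hk₀, e⟩ := exists_mul_of_compl H K hc g₀
      -- y = h₀⁻¹ h^k h₀
      have hy : h₀⁻¹ * (h : G) ^ k * h₀ ∈ H :=
        H.mul_mem (H.mul_mem (H.inv_mem hh₀) (H.pow_mem h.2 k)) hh₀
      have e1 : (QuotientGroup.mk' N') ⟨g₀⁻¹ * (h : G) ^ k * g₀, hk⟩ =
          (QuotientGroup.mk' N') ⟨h₀⁻¹ * (h : G) ^ k * h₀, hy⟩ := by
        rw [QuotientGroup.mk'_apply, QuotientGroup.mk'_apply, eq_comm, QuotientGroup.eq]
        show _ ∈ (⁅H, K⁆ : Subgroup G).subgroupOf H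
        rw [Subgroup.mem_subgroupOf]
        simp only [Subgroup.coe_mul, Subgroup.coe_inv]
        rw [e]
        have e3 : (h₀⁻¹ * (h : G) ^ k * h₀)⁻¹ * ((h₀ * k₀)⁻¹ * (h : G) ^ k * (h₀ * k₀)) =
            ⁅(h₀⁻¹ * (h : G) ^ k * h₀)⁻¹, k₀⁻¹⁆ := by
          simp only [commutatorElement_def]; group
        rw [e3]
        exact Subgroup.commutator_mem_commutator (H.inv_mem hy) (K.inv_mem hk₀)
      have e2 : (⟨h₀⁻¹ * (h : G) ^ k * h₀, hy⟩ : H) = (⟨h₀, hh₀⟩ : H)⁻¹ * h ^ k * ⟨h₀, hh₀⟩ := by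
        apply Subtype.ext
        simp only [Subgroup.coe_mul, Subgroup.coe_inv, Subgroup.coe_pow]
      have e4 : ϕ ⟨g₀⁻¹ * (h : G) ^ k * g₀, hk⟩ = ϕ ⟨h₀⁻¹ * (h : G) ^ k * h₀, hy⟩ := by
        show Abelianization.of ((QuotientGroup.mk' N') _) = Abelianization.of ((QuotientGroup.mk' N') _)
        rw [e1]
      rw [Subgroup.mem_bot, e4, e2, map_mul, map_mul, map_inv, map_pow]
      rw [mul_comm, ← mul_assoc, mul_inv_cancel, one_mul, div_self']
    have hV := Cfsg.Agent.Lib.Helper76_Transfer.transfer_div_pow_mem ϕ ⊥ (h : G) (ϕ h) key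
    rw [Subgroup.mem_bot, div_eq_one] at hV
    have hV1 : MonoidHom.transfer ϕ (h : G) = 1 :=
      MonoidHom.mem_ker.mp (Abelianization.commutator_subset_ker _ (hle h.2))
    rw [hV1] at hV
    have h2 : (ϕ h) ^ Nat.card H = 1 := by
      rw [← map_pow, pow_card_eq_one', map_one]
    exact eq_one_of_pow_coprime _ _ _ h2 hV.symm hcop
  -- the quotient is perfect and solvable, hence trivial
  have htop : commutator (H ⧸ N') = ⊤ := by
    rw [eq_top_iff]
    intro q _
    obtain ⟨h, rfl⟩ := QuotientGroup.mk_surjective q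
    rw [← Abelianization.ker_of]
    exact MonoidHom.mem_ker.mpr (hϕ h)
  have hsub : Subsingleton (H ⧸ N') := by
    by_contra hns
    rw [not_subsingleton_iff_nontrivial] at hns
    exact (Group.IsSolvable.commutator_lt_top_of_nontrivial (H ⧸ N')).ne htop
  have hN'top : N' = ⊤ := QuotientGroup.subgroup_eq_top_of_subsingleton N' hsub
  intro x hx
  have : (⟨x, hx⟩ : H) ∈ N' := by rw [hN'top]; exact Subgroup.mem_top _
  exact Subgroup.mem_subgroupOf.mp this


/-- A nilpotent normal subgroup `N` of a finite group has a `p`-complement that is normal in the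
whole group. -/
theorem exists_normal_p_compl [Finite G] (N : Subgroup G) [hNn : N.Normal]
    (hN : Group.IsNilpotent N) (p : ℕ) [hp : Fact p.Prime] :
    ∃ Q : Subgroup G, Q.Normal ∧ Q ≤ N ∧ (Nat.card Q).Coprime p ∧ ∃ a, Q.relIndex N = p ^ a := by
  classical
  let P : Sylow p N := default
  have hPn : (P : Subgroup N).Normal :=
    (Group.isNilpotent_of_finite_tfae (G := N)).out 0 3 rfl rfl |>.mp hN p hp P
  have hcopP : (Nat.card (P : Subgroup N)).Coprime (P : Subgroup N).index := P.card_coprime_index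
  obtain ⟨Q₀, hQ₀⟩ := Subgroup.exists_right_complement'_of_coprime hcopP
  obtain ⟨a, ha⟩ := IsPGroup.iff_card.mp P.isPGroup'
  have hidx : Q₀.index = p ^ a := by rw [hQ₀.index_eq_card, ha]
  have hcardQ₀ : (Nat.card Q₀).Coprime (Nat.card (P : Subgroup N)) := by
    rw [← hQ₀.symm.index_eq_card]; exact hcopP.symm
  have hcardQ₀p : (Nat.card Q₀).Coprime p := by
    by_cases ha0 : a = 0
    · -- P trivial
      have : (P : Subgroup N).index = Nat.card N := by
        have h1 := (P : Subgroup N).card_mul_index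
        rw [ha, ha0, pow_zero, one_mul] at h1; exact h1
      rw [← hQ₀.symm.index_eq_card]
      have h2 := P.not_dvd_index
      exact (Nat.Prime.coprime_iff_not_dvd hp.out).mpr h2 |>.symm
    · rw [ha] at hcardQ₀
      exact (Nat.coprime_pow_right_iff (Nat.pos_of_ne_zero ha0) _ _).mp hcardQ₀
  refine ⟨Q₀.map N.subtype, ?_, ?_, ?_, a, ?_⟩
  · -- normality
    constructor
    intro x hx g
    obtain ⟨y, hy, rfl⟩ := hx
    have hwN : g * (y : G) * g⁻¹ ∈ N := hNn.conj_mem _ y.2 g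
    obtain ⟨⟨⟨u, hu⟩, ⟨v, hv⟩⟩, e⟩ := hQ₀.2 ⟨g * (y : G) * g⁻¹, hwN⟩
    simp only at e
    have hym : y ^ Nat.card Q₀ = 1 := by
      have := pow_card_eq_one' (G := Q₀) (x := ⟨y, hy⟩)
      exact congrArg Subtype.val this
    have hvm : v ^ Nat.card Q₀ = 1 := by
      have := pow_card_eq_one' (G := Q₀) (x := ⟨v, hv⟩)
      exact congrArg Subtype.val this
    have hup : u ^ Nat.card (P : Subgroup N) = 1 := by
      have := pow_card_eq_one' (G := (P : Subgroup N)) (x := ⟨u, hu⟩)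
      exact congrArg Subtype.val this
    have hwm : (⟨g * (y : G) * g⁻¹, hwN⟩ : N) ^ Nat.card Q₀ = 1 := by
      apply Subtype.ext
      simp only [Subgroup.coe_pow, Subgroup.coe_one]
      rw [conj_pow]
      have : ((y : G)) ^ Nat.card Q₀ = 1 := by
        have := congrArg Subtype.val hym
        simpa using this
      rw [this]; group
    have hcomm : Commute u v :=
      Cfsg.Agent.Lib.Helper32_Nilpotent.commute_of_coprime_pow_eq_one N u v _ _ hup hvm hcardQ₀.symm
    have hum : u ^ Nat.card Q₀ = 1 := by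
      have h1 : (u * v) ^ Nat.card Q₀ = u ^ Nat.card Q₀ * v ^ Nat.card Q₀ := hcomm.mul_pow _
      rw [e, hwm, hvm, mul_one] at h1
      exact h1.symm
    have hu1 : u = 1 := eq_one_of_pow_coprime u _ _ hum hup hcardQ₀
    rw [hu1, one_mul] at e
    refine ⟨v, hv, ?_⟩
    rw [e]
    rfl
  · rintro x ⟨y, _, rfl⟩
    exact y.2
  · rw [Nat.card_congr (Q₀.equivMapOfInjective N.subtype N.subtype_injective).symm.toEquiv]
    exact hcardQ₀p
  · rw [Subgroup.relIndex, Subgroup.subgroupOf,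
      Subgroup.comap_map_eq_self_of_injective N.subtype_injective]
    exact hidx


theorem coprime_of_nilpotent_commutator [Finite G] (hnil : Group.IsNilpotent ↥(commutator G))
    (p : ℕ) (hp : p.Prime) (hidxp : (commutator G).index = p) :
    (Nat.card ↥(commutator G)).Coprime p := by
  have : Fact p.Prime := ⟨hp⟩
  obtain ⟨Q, hQn, hQN, hQcop, a, hQa⟩ := exists_normal_p_compl (commutator G) hnil p
  have hcardQuot : Nat.card (G ⧸ Q) = p ^ (a + 1) := by
    rw [← Subgroup.index_eq_card, ← Subgroup.relIndex_mul_index hQN, hQa, hidxp, pow_succ]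
  have hpg : IsPGroup p (G ⧸ Q) := IsPGroup.of_card hcardQuot
  have : Group.IsNilpotent (G ⧸ Q) := hpg.isNilpotent
  have hcomm : commutator (G ⧸ Q) = (commutator G).map (QuotientGroup.mk' Q) := by
    rw [commutator_def, commutator_def, Subgroup.map_commutator,
      Subgroup.map_top_of_surjective _ (QuotientGroup.mk'_surjective Q)]
  have hidx : (commutator (G ⧸ Q)).index = p := by
    rw [hcomm, Subgroup.index_map_eq _ (QuotientGroup.mk'_surjective Q)
      (by rw [QuotientGroup.ker_mk']; exact hQN)]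
    exact hidxp
  have hcyc : IsCyclic ((G ⧸ Q) ⧸ commutator (G ⧸ Q)) :=
    isCyclic_of_prime_card (p := p) (by rw [← Subgroup.index_eq_card]; exact hidx)
  have hbot := Cfsg.Agent.Lib.Helper76_PGroup.commutator_eq_bot_of_isCyclic_abelianization hcyc
  rw [hcomm, Subgroup.map_eq_bot_iff, QuotientGroup.ker_mk'] at hbot
  have hEq : commutator G = Q := le_antisymm hbot hQN
  rw [hEq]
  exact hQcop

/-- Let G be a finite solvable group. (a) If H is a normal subgroup of order coprime to its index, K is a complement to H, and H ≤ G', then H = [H, K] and H ∩ C_G(K) ≤ [H, H]. (b) If G' is nilpotent and has prime index in G, then the order of G' is coprime to its index and G' = [G, K] (the subgroup generated by commutators of elements of G with elements of K) for every complement K of G'. -/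
theorem result {G : Type*} [Group G] [Finite G] [Group.IsSolvable G] :
    (∀ (H K : Subgroup G), H.Normal → (Nat.card H).Coprime H.index → Subgroup.IsComplement' H K → H ≤ commutator G →
        H = ⁅H, K⁆ ∧ H ⊓ Subgroup.centralizer (K : Set G) ≤ ⁅H, H⁆) ∧
      (Group.IsNilpotent ↥(commutator G) → (commutator G).index.Prime →
        (Nat.card ↥(commutator G)).Coprime (commutator G).index ∧
        ∀ K : Subgroup G, Subgroup.IsComplement' (commutator G) K → commutator G = ⁅(⊤ : Subgroup G), K⁆) := by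
  refine ⟨fun H K hHn hcop hc hle =>
    ⟨eq_comm_part H K hHn hcop hc hle, centralizer_part H K hcop hc hle⟩, ?_⟩
  intro hnil hp
  have hcop := coprime_of_nilpotent_commutator hnil _ hp rfl
  refine ⟨hcop, fun K hK => ?_⟩
  have h1 := eq_comm_part (commutator G) K inferInstance hcop hK le_rfl
  refine le_antisymm ?_ ?_
  · calc commutator G = ⁅commutator G, K⁆ := h1
      _ ≤ ⁅(⊤ : Subgroup G), K⁆ := Subgroup.commutator_mono le_top le_rfl
  · calc ⁅(⊤ : Subgroup G), K⁆ ≤ ⁅(⊤ : Subgroup G), ⊤⁆ := Subgroup.commutator_mono le_rfl le_top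
      _ = commutator G := (commutator_def G).symm

end Cfsg.Agent.S1459
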