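import Cfsg.Statements.S0581
import Mathlib
import Cfsg.Agent.Lib.Helper34_Sylow
import Cfsg.Agent.Lib.Helper32_Nilpotent
import Cfsg.Agent.S0046
import Cfsg.Agent.S1459

set_option autoImplicit false
open Pointwise
open Cfsg

namespace Cfsg.Agent.S0581

open scoped commutatorElement
open Cfsg.Agent.Lib.Helper34_Sylow

universe u

section Nilp

variable {G : Type u} [Group G]

theorem lcs_mono {S T : Subgroup G} (h : S ≤ T) (n : ℕ) :
    S.lowerCentralSeries n ≤ T.lowerCentralSeries n := by
  induction n with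
  | zero => exact h
  | succ n ih =>
    rw [Subgroup.lowerCentralSeries_succ, Subgroup.lowerCentralSeries_succ]
    exact Subgroup.commutator_mono ih h

theorem nilpotent_of_le {S T : Subgroup G} (h : S ≤ T) (hT : Group.IsNilpotent T) :
    Group.IsNilpotent S := by
  rw [Subgroup.isNilpotent_iff_lowerCentralSeries] at hT ⊢
  obtain ⟨n, hn⟩ := hT
  exact ⟨n, le_bot_iff.1 (hn ▸ lcs_mono h n)⟩

theorem nilpotent_cj (x : G) {H : Subgroup G} (hH : Group.IsNilpotent H) :
    Group.IsNilpotent (cj x H) := by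
  rw [Subgroup.isNilpotent_iff_lowerCentralSeries] at hH ⊢
  obtain ⟨n, hn⟩ := hH
  refine ⟨n, ?_⟩
  rw [cj, ← Subgroup.map_lowerCentralSeries, hn, Subgroup.map_bot]

theorem nilpotent_map_subtype {K : Subgroup G} (M : Subgroup K) :
    Group.IsNilpotent M ↔ Group.IsNilpotent (M.map K.subtype) := by
  rw [Subgroup.isNilpotent_iff_lowerCentralSeries, Subgroup.isNilpotent_iff_lowerCentralSeries]
  constructor
  · rintro ⟨n, hn⟩
    exact ⟨n, by rw [← Subgroup.map_lowerCentralSeries, hn, Subgroup.map_bot]⟩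
  · rintro ⟨n, hn⟩
    refine ⟨n, ?_⟩
    rw [← Subgroup.map_lowerCentralSeries] at hn
    exact (Subgroup.map_eq_bot_iff_of_injective _ K.subtype_injective).1 hn

end Nilp

/-- A nontrivial finite solvable group has a normal subgroup of prime index. -/
theorem exists_normal_prime_index (K : Type*) [Group K] [Finite K] [Nontrivial K]
    [hs : Group.IsSolvable K] : ∃ (M : Subgroup K) (q : ℕ), M.Normal ∧ q.Prime ∧ M.index = q := by
  have hlt : commutator K < ⊤ := Group.IsSolvable.commutator_lt_top_of_nontrivial K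
  obtain ⟨M, hM, hle⟩ := (eq_top_or_exists_le_coatom (commutator K)).resolve_left hlt.ne
  have hMn : M.Normal := by
    refine ⟨fun x hx g => ?_⟩
    have : g * x * g⁻¹ = ⁅g, x⁆ * x := by rw [commutatorElement_def]; group
    rw [this]
    exact M.mul_mem (hle (Subgroup.commutator_mem_commutator (Subgroup.mem_top g)
      (Subgroup.mem_top x))) hx
  have hidx1 : M.index ≠ 1 := fun h => hM.1 (Subgroup.index_eq_one.1 h)
  obtain ⟨q, hq, hqd⟩ := Nat.exists_prime_and_dvd hidx1
  have hqf : Fact q.Prime := ⟨hq⟩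
  have hqd' : q ∣ Nat.card (K ⧸ M) := by rwa [← Subgroup.index_eq_card]
  obtain ⟨x, hx⟩ := exists_prime_orderOf_dvd_card' q hqd'
  have hMT : M ≤ (Subgroup.zpowers x).comap (QuotientGroup.mk' M) := by
    intro m hm
    rw [Subgroup.mem_comap, QuotientGroup.mk'_apply, (QuotientGroup.eq_one_iff m).2 hm]
    exact one_mem _
  have hne : (Subgroup.zpowers x).comap (QuotientGroup.mk' M) ≠ M := by
    intro h
    obtain ⟨y, rfl⟩ := QuotientGroup.mk_surjective x
    have hy : y ∈ (Subgroup.zpowers (y : K ⧸ M)).comap (QuotientGroup.mk' M) :=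
      Subgroup.mem_zpowers _
    rw [h] at hy
    have : (y : K ⧸ M) = 1 := (QuotientGroup.eq_one_iff y).2 hy
    rw [this, orderOf_one] at hx
    exact hq.one_lt.ne hx
  have hT : (Subgroup.zpowers x).comap (QuotientGroup.mk' M) = ⊤ :=
    hM.2 _ (lt_of_le_of_ne hMT (Ne.symm hne))
  have hz : Subgroup.zpowers x = ⊤ := by
    rw [eq_top_iff]
    intro z _
    obtain ⟨y, rfl⟩ := QuotientGroup.mk_surjective z
    have : y ∈ (Subgroup.zpowers x).comap (QuotientGroup.mk' M) := hT ▸ Subgroup.mem_top y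
    exact this
  refine ⟨M, q, hMn, hq, ?_⟩
  have h1 := Nat.card_zpowers x
  rw [hz, Subgroup.card_top, hx] at h1
  rw [Subgroup.index_eq_card, h1]

section Main

variable {G : Type u} [Group G] [Finite G]

omit [Finite G] in
theorem index_cj (g : G) (H : Subgroup G) : (cj g H).index = H.index :=
  Subgroup.index_map_equiv H (MulAut.conj g)

omit [Finite G] in
theorem pow_card_of_mem {S : Subgroup G} {a : G} (ha : a ∈ S) : a ^ Nat.card S = 1 := by
  have h := congrArg Subtype.val (pow_card_eq_one' (x := (⟨a, ha⟩ : S)))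
  rwa [Subgroup.coe_pow, Subgroup.coe_one] at h

/-- The key step of Wielandt's argument. -/
theorem step (T K L : Subgroup G) (q : ℕ) [hq : Fact q.Prime] (hT : Group.IsNilpotent T)
    (hTHall : (Nat.card T).Coprime T.index) (hqT : q ∣ Nat.card T)
    (hLn : K ≤ Subgroup.normalizer (L : Set G)) (hLT : L ≤ T)
    (hLq : (Nat.card L).Coprime q) (hidx : ∃ a, L.relIndex K = q ^ a) :
    ∃ x : G, K ≤ cj x T := by
  obtain ⟨R₀⟩ : Nonempty (Sylow q T) := inferInstance
  have hRT : (R₀ : Subgroup T).map T.subtype ≤ T := Subgroup.map_subtype_le _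
  have hRq : IsPGroup q ((R₀ : Subgroup T).map T.subtype) := R₀.2.map T.subtype
  have hRidx : ¬ q ∣ ((R₀ : Subgroup T).map T.subtype).index := by
    rw [Subgroup.index_map_subtype]
    intro h
    rcases (Nat.Prime.dvd_mul hq.out).1 h with h | h
    · exact R₀.not_dvd_index h
    · have := Nat.dvd_gcd hqT h
      rw [hTHall.gcd_eq_one] at this
      exact hq.out.one_lt.ne' (Nat.dvd_one.1 this)
  obtain ⟨k, hk⟩ := (IsPGroup.iff_card (p := q)).1 hRq
  have hcop : (Nat.card ((R₀ : Subgroup T).map T.subtype)).Coprime (Nat.card L) := by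
    rw [hk]; exact Nat.Coprime.pow_left k hLq.symm
  -- R centralizes L
  have hRN : (R₀ : Subgroup T).map T.subtype ≤ Subgroup.normalizer (L : Set G) := by
    refine le_trans ?_ (Subgroup.centralizer_le_normalizer (L : Set G))
    intro a ha
    rw [Subgroup.mem_centralizer_iff]
    intro b hb
    have h1 : (⟨a, hRT ha⟩ : T) ^ Nat.card ((R₀ : Subgroup T).map T.subtype) = 1 := by
      apply Subtype.ext
      rw [Subgroup.coe_pow, Subgroup.coe_one]
      exact pow_card_of_mem ha
    have h2 : (⟨b, hLT hb⟩ : T) ^ Nat.card L = 1 := by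
      apply Subtype.ext
      rw [Subgroup.coe_pow, Subgroup.coe_one]
      exact pow_card_of_mem hb
    have hc := Cfsg.Agent.Lib.Helper32_Nilpotent.commute_of_coprime_pow_eq_one T
      (⟨a, hRT ha⟩ : T) (⟨b, hLT hb⟩ : T) _ _ h1 h2 hcop
    have := congrArg Subtype.val hc.eq
    simpa using this.symm
  obtain ⟨Q₀⟩ : Nonempty (Sylow q K) := inferInstance
  have hQK : (Q₀ : Subgroup K).map K.subtype ≤ K := Subgroup.map_subtype_le _
  have hQq : IsPGroup q ((Q₀ : Subgroup K).map K.subtype) := Q₀.2.map K.subtype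
  have hidxRN : ¬ q ∣ ((R₀ : Subgroup T).map T.subtype).relIndex
      (Subgroup.normalizer (L : Set G)) :=
    fun h => hRidx (h.trans (Subgroup.relIndex_dvd_index_of_le hRN))
  obtain ⟨x, hxN, hx⟩ := exists_cj_le_of_relIndex hRq hidxRN (hQK.trans hLn) hQq
  refine ⟨x⁻¹, ?_⟩
  have hQ : (Q₀ : Subgroup K).map K.subtype ≤ cj x⁻¹ T :=
    (cj_le_iff.1 hx).trans (cj_mono hRT)
  have hL : L ≤ cj x⁻¹ T := by
    have : cj x⁻¹ L = L :=
      cj_eq_self_of_mem_normalizer ((Subgroup.normalizer (L : Set G)).inv_mem hxN)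
    rw [← this]; exact cj_mono hLT
  -- K ≤ Q ⊔ L
  have htop : (Q₀ : Subgroup K) ⊔ L.subgroupOf K = ⊤ := by
    rw [← Subgroup.index_eq_one]
    obtain ⟨a, ha⟩ := hidx
    have h1 : ((Q₀ : Subgroup K) ⊔ L.subgroupOf K).index ∣ q ^ a := by
      rw [← ha]
      exact Subgroup.index_dvd_of_le le_sup_right
    obtain ⟨j, _, hj⟩ := (Nat.dvd_prime_pow hq.out).1 h1
    rcases Nat.eq_zero_or_pos j with h0 | hpos
    · rw [hj, h0, pow_zero]
    · exfalso
      apply Q₀.not_dvd_index
      have h2 : q ∣ ((Q₀ : Subgroup K) ⊔ L.subgroupOf K).index := by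
        rw [hj]; exact dvd_pow_self q hpos.ne'
      exact h2.trans (Subgroup.index_dvd_of_le le_sup_left)
  intro y hy
  have hmem : (⟨y, hy⟩ : K) ∈ (Q₀ : Subgroup K) ⊔ L.subgroupOf K := by
    rw [htop]; exact Subgroup.mem_top _
  have h3 : y ∈ ((Q₀ : Subgroup K) ⊔ L.subgroupOf K).map K.subtype := ⟨_, hmem, rfl⟩
  rw [Subgroup.map_sup, Subgroup.subgroupOf_map_subtype] at h3
  exact (sup_le hQ (inf_le_left.trans hL)) h3

theorem main (H : Subgroup G) (hH : Group.IsNilpotent H)
    (hHall : (Nat.card H).Coprime H.index) :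
    ∀ (n : ℕ) (K : Subgroup G), Nat.card K = n →
      (∀ p : ℕ, p.Prime → p ∣ Nat.card K → p ∣ Nat.card H) → ∃ x : G, K ≤ cj x H := by
  intro n
  induction n using Nat.strong_induction_on with
  | _ n ih =>
    intro K hKn hK
    by_cases hK1 : K = ⊥
    · exact ⟨1, by rw [hK1]; exact bot_le⟩
    have hprop : ∀ S : Subgroup G, S ≤ K → S ≠ K → ∃ x, S ≤ cj x H := by
      intro S hSK hne
      have hlt : Nat.card S < n := by
        rw [← hKn]
        exact lt_of_le_of_ne (Subgroup.card_le_of_le hSK)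
          (fun h => hne (Subgroup.eq_of_le_of_card_ge hSK h.ge))
      exact ih _ hlt S rfl (fun p hp hpS => hK p hp (hpS.trans (Subgroup.card_dvd_of_le hSK)))
    have hnilp : ∀ S : Subgroup G, S ≤ K → S ≠ K → Group.IsNilpotent S := by
      intro S hSK hne
      obtain ⟨x, hx⟩ := hprop S hSK hne
      exact nilpotent_of_le hx (nilpotent_cj x hH)
    have hmapne : ∀ M : Subgroup K, M ≠ ⊤ → M.map K.subtype ≠ K := by
      intro M hM h
      apply hM
      rw [eq_top_iff]
      intro k _
      have : (k : G) ∈ M.map K.subtype := by rw [h]; exact k.2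
      obtain ⟨m, hm, hmk⟩ := this
      have : m = k := Subtype.ext hmk
      exact this ▸ hm
    have hsolv : Group.IsSolvable K := by
      apply Cfsg.Agent.S0046.main (Nat.card K) K rfl
      intro M hM
      rw [nilpotent_map_subtype]
      exact hnilp _ (Subgroup.map_subtype_le M) (hmapne M hM.1)
    have hnt : Nontrivial K := (Subgroup.nontrivial_iff_ne_bot K).2 hK1
    obtain ⟨M, q, hMn, hq, hMidx⟩ := exists_normal_prime_index K
    have hqf : Fact q.Prime := ⟨hq⟩
    have hMtop : M ≠ ⊤ := by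
      intro h
      rw [h, Subgroup.index_top] at hMidx
      exact hq.one_lt.ne hMidx
    have hMnil : Group.IsNilpotent M := by
      rw [nilpotent_map_subtype]
      exact hnilp _ (Subgroup.map_subtype_le M) (hmapne M hMtop)
    obtain ⟨L, hLn, hLM, hLq, a, ha⟩ := Cfsg.Agent.S1459.exists_normal_p_compl M hMnil q
    have hLtop : L ≠ ⊤ := fun h => hMtop (top_le_iff.1 (h ▸ hLM))
    obtain ⟨g, hg⟩ := hprop (L.map K.subtype) (Subgroup.map_subtype_le L) (hmapne L hLtop)
    have hqK : q ∣ Nat.card K := hMidx ▸ M.index_dvd_card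
    have hqH : q ∣ Nat.card H := hK q hq hqK
    have hsub : (L.map K.subtype).subgroupOf K = L := by
      unfold Subgroup.subgroupOf
      exact Subgroup.comap_map_eq_self_of_injective K.subtype_injective L
    obtain ⟨x, hx⟩ := step (cj g H) K (L.map K.subtype) q (nilpotent_cj g hH)
      (by rw [card_cj, index_cj]; exact hHall) (by rw [card_cj]; exact hqH)
      (by
        rw [← Subgroup.normal_subgroupOf_iff_le_normalizer (Subgroup.map_subtype_le L), hsub]
        exact hLn)
      hg (by rw [Subgroup.card_subtype]; exact hLq)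
      ⟨a + 1, by
        rw [Subgroup.relIndex, hsub, ← Subgroup.relIndex_mul_index hLM, ha, hMidx, pow_succ]⟩
    exact ⟨x * g, by rw [cj_mul]; exact hx⟩

end Main

/-- Let H be a nilpotent subgroup of a finite group G whose order is coprime to its index, and K a subgroup every prime divisor of whose order divides the order of H. Then K lies in some conjugate of H. -/
theorem result {G : Type*} [Group G] [Finite G] (H K : Subgroup G) (hH : Group.IsNilpotent H) (hHall : (Nat.card H).Coprime H.index) (hK : ∀ p : ℕ, p.Prime → p ∣ Nat.card K → p ∣ Nat.card H) : ∃ x : G, K ≤ MulAut.conj x • H := by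
  obtain ⟨x, hx⟩ := main H hH hHall (Nat.card K) K rfl hK
  exact ⟨x, hx⟩

end Cfsg.Agent.S0581
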