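import Cfsg.Statements.S1425
import Cfsg.Agent.S1403
import Cfsg.Agent.S1444
import Cfsg.Agent.S1416
import Cfsg.Agent.S1417
import Cfsg.Agent.Lib.Helper47_BG1215
-- import your own Cfsg.Agent.* helpers here

set_option autoImplicit false
open Cfsg

namespace Cfsg.Agent.S1425

/-- Let G be a minimal simple group of odd order, M a maximal subgroup and Y a nontrivial subgroup of G all of whose prime divisors lie in σ(M). Then gYg⁻¹ ≤ M_σ for some g ∈ G. -/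
theorem result {G : Type*} [Group G] [Finite G] (hG : Cfsg.IsMinSimpleOddOrder G)
    (M : Subgroup G) (hM : IsCoatom M) (Y : Subgroup G) (hY1 : Y ≠ ⊥) (hY : ∀ p : ℕ, p.Prime → p ∣ Nat.card Y → p ∈ Cfsg.sigma M) :
    ∃ g : G, Y.map (MulAut.conj g).toMonoidHom ≤ Cfsg.sigmaCore M := by
  have hU : Cfsg.Agent.Lib.Helper49_Sigma.UniqHyp G := fun K hK h1 h3 => Cfsg.Agent.S1403.result hG K hK h1 h3
  have h44 : Cfsg.Agent.Lib.Helper70_BG106.H1444 := fun X _ _ _ hodd H R R₀ _ hHall hR hR₀ hR₀p hZ q _ =>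
    Cfsg.Agent.S1444.result hodd H R R₀ hHall hR hR₀ hR₀p hZ q
  have hC : Cfsg.Agent.Lib.Helper73_BG12.CentHyp G := fun M hM p _ A hAM hAe hA2 =>
    (Cfsg.Agent.S1416.result hG M hM p A ⟨hAM, hAe, hA2⟩).1
  have h17 : Cfsg.Agent.Lib.Helper47_BG1214b.Tau2Hyp G := fun M hM p _ hp A hAM hAe hA2 => by
    obtain ⟨h1, h2, h3, h4, h5, -⟩ := Cfsg.Agent.S1417.result hG M hM p hp A ⟨hAM, hAe, hA2⟩
    exact ⟨h1, fun P => (h2 P).1, h3, h4, h5⟩
  exact Cfsg.Agent.Lib.Helper47_BG1215.sigma_Jsub hG hU h44 hC h17 M hM Y hY1 hY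

end Cfsg.Agent.S1425
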