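-- Statement S5639: the subfield group is maximal in SL_n(F) (prime degree subfield, n ≥ 13).
import Cfsg.Statements.S5639
import Cfsg.Agent.Lib.Helper98_MonoG
import Cfsg.Agent.Lib.Helper98_MonoTop
import Cfsg.Agent.Lib.Helper98_SubfBase
import Cfsg.Agent.Lib.Helper98_SubfU
import Cfsg.Agent.Lib.Helper98_SubfTS
import Cfsg.Agent.Lib.Helper98_SubfInv

set_option autoImplicit false
set_option linter.style.haveILetI false
open Cfsg

namespace Cfsg.Agent.S5639

open Cfsg.Agent.Lib.Helper98_MonoG Cfsg.Agent.Lib.Helper98_MonoTop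
  Cfsg.Agent.Lib.Helper98_SubfBase Cfsg.Agent.Lib.Helper98_SubfU
  Cfsg.Agent.Lib.Helper98_SubfTS Cfsg.Agent.Lib.Helper98_SubfInv

/-- the degree of `F` over `F₀` -/
lemma finrank_eq {F : Type*} [Field F] [Fintype F] (F₀ : Subfield F) (r : ℕ)
    (hcard : Fintype.card F = Nat.card F₀ ^ r) : Module.finrank F₀ F = r := by
  classical
  letI : Fintype F₀ := Fintype.ofFinite F₀
  have h1 := Module.card_eq_pow_finrank (K := F₀) (V := F)
  rw [hcard, Nat.card_eq_fintype_card] at h1
  have h2 : 2 ≤ Fintype.card F₀ := Fintype.one_lt_card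
  exact (Nat.pow_right_injective h2 h1).symm

/-- square roots of elements of `F₀` lie in `F₀` when the degree is an odd prime -/
lemma sq_mem {F : Type*} [Field F] [Fintype F] (F₀ : Subfield F)
    (hp : (Module.finrank F₀ F).Prime) (h2 : Module.finrank F₀ F ≠ 2) (ν : F)
    (h : ν * ν ∈ F₀) : ν ∈ F₀ := by
  classical
  haveI := Subalgebra.isSimpleOrder_of_finrank_prime F₀ F hp
  let S : Subalgebra F₀ F :=
    { carrier := {x | ∃ a b : F, a ∈ F₀ ∧ b ∈ F₀ ∧ x = a + b * ν}
      mul_mem' := by
        rintro x y ⟨a, b, ha, hb, rfl⟩ ⟨a', b', ha', hb', rfl⟩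
        refine ⟨a * a' + b * b' * (ν * ν), a * b' + a' * b,
          F₀.add_mem (F₀.mul_mem ha ha') (F₀.mul_mem (F₀.mul_mem hb hb') h),
          F₀.add_mem (F₀.mul_mem ha hb') (F₀.mul_mem ha' hb), ?_⟩
        ring
      add_mem' := by
        rintro x y ⟨a, b, ha, hb, rfl⟩ ⟨a', b', ha', hb', rfl⟩
        exact ⟨a + a', b + b', F₀.add_mem ha ha', F₀.add_mem hb hb', by ring⟩
      algebraMap_mem' := fun r => ⟨r, 0, r.2, F₀.zero_mem, by simp; rfl⟩ }
  have hνS : ν ∈ S := ⟨0, 1, F₀.zero_mem, F₀.one_mem, by ring⟩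
  rcases eq_bot_or_eq_top S with hb | ht
  · rw [hb, Algebra.mem_bot] at hνS
    obtain ⟨r, hr⟩ := hνS
    rw [← hr]
    exact r.2
  · exfalso
    have hspan : Submodule.span F₀ (({1, ν} : Finset F) : Set F) = ⊤ := by
      rw [Submodule.eq_top_iff']
      intro x
      have hx : x ∈ S := by rw [ht]; exact Algebra.mem_top
      obtain ⟨a, b, ha, hb, rfl⟩ := hx
      apply Submodule.add_mem
      · have : a = (⟨a, ha⟩ : F₀) • (1 : F) := by
          rw [Subfield.smul_def, smul_eq_mul, mul_one]
        rw [this]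
        exact Submodule.smul_mem _ _ (Submodule.subset_span (by simp))
      · have : b * ν = (⟨b, hb⟩ : F₀) • ν := by
          rw [Subfield.smul_def, smul_eq_mul]
        rw [this]
        exact Submodule.smul_mem _ _ (Submodule.subset_span (by simp))
    have h3 := finrank_span_finset_le_card (R := F₀) ({1, ν} : Finset F)
    unfold Set.finrank at h3
    rw [hspan, finrank_top] at h3
    have h4 : ({1, ν} : Finset F).card ≤ 2 := Finset.card_le_two
    have h5 := hp.two_le
    omega

/-- For a finite field F, a subfield F₀ with |F| = |F₀| ^ r for a prime r, and n ≥ 13, the subfield group (the conjugate by any P of the product of GL_n(F₀) with the non-zero scalars of F, intersected with SL_n(F)) is a maximal subgroup of SL_n(F). -/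
theorem result {F : Type*} [Field F] [Fintype F] (n : ℕ) (hn : 13 ≤ n) (F₀ : Subfield F) (r : ℕ) (hr : r.Prime) (hcard : Fintype.card F = Nat.card F₀ ^ r) (P : Matrix.GeneralLinearGroup (Fin n) F) : Cfsg.Geo.IsMaximalIn (Cfsg.Geo.specialLinear (Fin n) F) (Cfsg.Geo.subfieldSubgroup F₀ P ⊓ Cfsg.Geo.specialLinear (Fin n) F) := by
  classical
  apply maximal_of_standard P
  have hfin : Module.finrank F₀ F = r := finrank_eq F₀ r hcard
  have hp : (Module.finrank F₀ F).Prime := by rw [hfin]; exact hr
  have hn3 : 3 ≤ Fintype.card (Fin n) := by rw [Fintype.card_fin]; omega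
  set i0 : Fin n := ⟨0, by omega⟩ with hi0
  set i1 : Fin n := ⟨1, by omega⟩ with hi1
  have h01 : i0 ≠ i1 := by simp [hi0, hi1, Fin.ext_iff]
  constructor
  · refine lt_of_le_of_ne inf_le_right ?_
    intro heq
    -- an element of `F` outside `F₀`
    obtain ⟨c, hc⟩ : ∃ c : F, c ∉ F₀ := by
      by_contra hcon
      push Not at hcon
      have htop : F₀ = ⊤ := by
        ext x
        simp [hcon x]
      have h1 : Nat.card F₀ = Fintype.card F := by
        rw [htop, ← Nat.card_eq_fintype_card]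
        exact Nat.card_congr Subfield.topEquiv.toEquiv
      have h2 : 2 ≤ Nat.card F₀ := by
        rw [h1]
        exact Fintype.one_lt_card
      rw [← h1] at hcard
      have h3 : Nat.card F₀ ^ 1 = Nat.card F₀ ^ r := by rw [pow_one]; exact hcard
      have := Nat.pow_right_injective h2 h3
      exact hr.one_lt.ne this
    have hdetE : ((1 : Matrix (Fin n) (Fin n) F) + Matrix.single i0 i1 c).det = 1 :=
      Matrix.det_transvection_of_ne i0 i1 h01 c
    set E : GL (Fin n) F := Matrix.GeneralLinearGroup.mkOfDetNeZero (1 + Matrix.single i0 i1 c)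
      (by rw [hdetE]; exact one_ne_zero) with hE
    have hEv : (E : Matrix (Fin n) (Fin n) F) = 1 + Matrix.single i0 i1 c := rfl
    have hE1 : E ∈ Cfsg.Geo.specialLinear (Fin n) F := (mem_SL_iff _).mpr (by rw [hEv, hdetE])
    rw [← heq] at hE1
    obtain ⟨ν, hν, hA⟩ := hE1.1
    have e1 := hA i0 i0
    have e2 := hA i0 i1
    rw [hEv, Matrix.smul_apply, Matrix.add_apply, Matrix.one_apply_eq, Matrix.single_apply,
      if_neg (fun h => h01 h.2.symm), add_zero, smul_eq_mul, mul_one] at e1
    rw [hEv, Matrix.smul_apply, Matrix.add_apply, Matrix.one_apply_ne h01, Matrix.single_apply,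
      if_pos ⟨rfl, rfl⟩, zero_add, smul_eq_mul] at e2
    apply hc
    have := F₀.mul_mem (F₀.inv_mem e1) e2
    rwa [← mul_assoc, inv_mul_cancel₀ hν, one_mul] at this
  · intro M hHM hMS
    have hR : HypR F₀ M :=
      ⟨fun g hg => (mem_SL_iff g).mp (hMS hg),
        fun g hrat hdet => hHM ⟨hrat.prat, (mem_SL_iff g).mpr hdet⟩⟩
    by_cases hirr : ∃ i j : Fin n, i ≠ j ∧ ∃ c : F, c ∉ F₀ ∧ InK M (1 + Matrix.single i j c)
    · right
      obtain ⟨i, j, hij, c, hc, hE⟩ := hirr
      exact le_antisymm hMS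
        (fun g hg => sl_le_of_irrational hR hn3 hp hij hc hE g ((mem_SL_iff g).mp hg))
    · left
      have hS : HypS F₀ M := by
        refine ⟨hR, fun i j hij c hpc => ?_⟩
        by_contra hc
        exact hirr ⟨i, j, hij, c, hc, pc_single.mp hpc⟩
      have hdeg : Module.finrank F₀ F < n ∨ ∀ ν : F, ν * ν ∈ F₀ → ν ∈ F₀ := by
        by_cases h2 : Module.finrank F₀ F = 2
        · left; omega
        · right; exact sq_mem F₀ hp h2
      have hle := le_PR (by omega : 7 ≤ n) hS hdeg
      exact le_antisymm (fun g hg => ⟨hle g hg, hMS hg⟩) hHM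

end Cfsg.Agent.S5639
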