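import Cfsg.Statements.S5886
import Cfsg.Agent.Lib.Helper98_ExtDefs
import Cfsg.Agent.Lib.Helper98_ExtBridge
import Cfsg.Agent.Lib.Helper30_AschMax
import Cfsg.Agent.Lib.Helper98_ExtMain
import Cfsg.Agent.Lib.Helper70_Ext_DET
import Cfsg.Agent.Lib.Helper59_Ext_S5b

set_option autoImplicit false
open Cfsg

namespace Cfsg.Agent.S5886

open Matrix Cfsg.Geo Cfsg.Agent.Lib.Helper98_ExtDefs Cfsg.Agent.Lib.Helper98_ExtBridge

theorem isField_of {F : Type*} [Field F] {n r : ℕ} (hn : 0 < n)
    {K : Subalgebra F (Matrix (Fin n) (Fin n) F)} (hK : Cfsg.Geo.IsFieldSubalgebra r K) :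
    IsField ↥K := by
  have : Nonempty (Fin n) := ⟨⟨0, hn⟩⟩
  exact
    { exists_pair_ne := ⟨0, 1, fun h => by
        have h1 : ((0 : ↥K) : Matrix (Fin n) (Fin n) F) = ((1 : ↥K) : Matrix (Fin n) (Fin n) F) :=
          congrArg Subtype.val h
        rw [ZeroMemClass.coe_zero, OneMemClass.coe_one] at h1
        exact zero_ne_one h1⟩
      mul_comm := fun x y => Subtype.ext (hK.comm x.1 x.2 y.1 y.2)
      mul_inv_cancel := fun {a} ha => by
        obtain ⟨y, hy, hxy⟩ := hK.inv a.1 a.2 (fun h => ha (Subtype.ext h))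
        exact ⟨⟨y, hy⟩, Subtype.ext hxy⟩ }

/-- Let F be a finite field, n a positive integer and r a prime that divides n with r < n. Let K be a subalgebra of the algebra of n × n matrices over F which is a field of degree r over F (commutative, every non-zero element invertible, of dimension r over F; it contains the scalars). Then the normaliser N of K in GL_n(F) — the invertible F-linear maps that are semilinear over the field K, a group of type ΓL_{n/r}(F_{q^r}) for |F| = q — is a maximal subgroup of GL_n(F), and N ∩ SL_n(F) is a maximal subgroup of SL_n(F). No lower bound on n is assumed. -/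
theorem result {F : Type*} [Field F]
    [Fintype F] (n r : ℕ) (hr : r.Prime) (hrn : r ∣ n) (hlt : r < n) (K : Subalgebra F (Matrix (Fin n) (Fin n) F))
    (hK : Cfsg.Geo.IsFieldSubalgebra r K) :
    IsCoatom (Cfsg.Geo.subalgebraNormalizer K) ∧
      Cfsg.Geo.IsMaximalIn (Cfsg.Geo.specialLinear (Fin n) F)
        (Cfsg.Geo.subalgebraNormalizer K ⊓ Cfsg.Geo.specialLinear (Fin n) F) := by
  classical
  have hr2 : 2 ≤ r := hr.two_le
  have hn0 : 0 < n := by omega
  have hn4 : 4 ≤ n := by
    obtain ⟨m, rfl⟩ := hrn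
    have : 2 ≤ m := by
      by_contra h
      push Not at h
      interval_cases m <;> omega
    nlinarith
  letI : Field ↥K := (isField_of hn0 hK).toField
  have hfr : Module.finrank F ↥K = r := hK.finrank_eq
  have hfrp : (Module.finrank F ↥K).Prime := by rw [hfr]; exact hr
  have hm : 2 ≤ Module.finrank ↥K (Fin n → F) := by
    have h3 := Module.finrank_mul_finrank F ↥K (Fin n → F)
    rw [hfr, Module.finrank_fin_fun] at h3
    by_contra h
    push Not at h
    interval_cases hm' : Module.finrank ↥K (Fin n → F) <;> omega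
  haveI : Finite ↥K := Finite.of_injective (fun x : ↥K => x.1) Subtype.val_injective
  haveI : Module.Finite ↥K (Fin n → F) := Module.Finite.of_restrictScalars_finite F ↥K _
  have hKL : ∀ k : Matrix (Fin n) (Fin n) F, k ∈ K ↔ ∃ x : ↥K, ∀ v : Fin n → F, k *ᵥ v = x • v := by
    intro k
    constructor
    · intro hk
      exact ⟨⟨k, hk⟩, fun v => rfl⟩
    · rintro ⟨x, hx⟩
      have : k = x.1 := by
        rw [Matrix.ext_iff_mulVec]
        intro v
        rw [hx v]
        rfl
      rw [this]
      exact x.2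
  -- semilinear maps come from the normaliser
  have hnorm : ∀ e : (Fin n → F) ≃ₗ[F] (Fin n → F), IsSemilin F ↥K (Fin n → F) e →
      (glE n F).symm e ∈ subalgebraNormalizer K := by
    intro e he
    apply mem_normalizer_of_isSemilin K hKL
    rw [MulEquiv.apply_symm_apply]
    exact he
  have hdetE : ∀ e : (Fin n → F) ≃ₗ[F] (Fin n → F),
      (((glE n F).symm e : GL (Fin n) F) : Matrix (Fin n) (Fin n) F).det
        = ((LinearEquiv.det e : Fˣ) : F) := by
    intro e
    rw [← det_glE, MulEquiv.apply_symm_apply]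
  have hlin : ∀ e : (Fin n → F) ≃ₗ[F] (Fin n → F),
      (∀ (k : ↥K) (x : Fin n → F), e (k • x) = k • e x) → IsSemilin F ↥K (Fin n → F) e :=
    fun e he => ⟨RingEquiv.refl _, fun k v => he k v⟩
  -- the main lemma in matrix form
  have key : ∀ M : Subgroup (GL (Fin n) F),
      subalgebraNormalizer K ⊓ specialLinear (Fin n) F ≤ M →
      ∀ g₀ ∈ M, g₀ ∉ subalgebraNormalizer K → specialLinear (Fin n) F ≤ M := by
    intro M hHM g₀ hg₀ hg₀N
    apply sl_le_of_allTv (by omega) M
    have hmemM : ∀ e : (Fin n → F) ≃ₗ[F] (Fin n → F), IsSemilin F ↥K (Fin n → F) e →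
        ((LinearEquiv.det e : Fˣ) : F) = 1 → e ∈ M.map (glE n F).toMonoidHom := by
      intro e he hdet
      rw [mem_map_glE_iff]
      apply hHM
      refine ⟨hnorm e he, ?_⟩
      show (glE n F).symm e ∈ specialLinear (Fin n) F
      rw [mem_specialLinear_iff, hdetE, hdet]
    apply Cfsg.Agent.Lib.Helper98_ExtMain.main_abstract hfrp hm (M.map (glE n F).toMonoidHom)
    · intro χ w hχ
      obtain ⟨g', hg', hdet, hl⟩ := Cfsg.Agent.Lib.Helper70_Ext_DET.DET_ktv (F := F) χ w hχ
      exact ⟨g', hmemM g' (hlin g' hl) (by rw [hdet]; rfl), hg'⟩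
    · intro χ w κ hχ hκ
      have hκ0 : κ ≠ 0 := by
        rintro rfl
        rw [Algebra.norm_zero] at hκ
        exact zero_ne_one hκ
      obtain ⟨g', hg', hdet, hl⟩ := Cfsg.Agent.Lib.Helper70_Ext_DET.DET_kdil (F := F) χ w κ hχ hκ0
      exact ⟨g', hmemM g' (hlin g' hl) (by rw [hdet, hκ]), hg'⟩
    · intro hq e he
      apply hmemM e he
      have hsub : Subsingleton Fˣ := by
        rw [← Fintype.card_le_one_iff_subsingleton, Fintype.card_units]
        rw [Nat.card_eq_fintype_card] at hq
        omega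
      rw [Subsingleton.elim (LinearEquiv.det e) 1]
      rfl
    · exact ⟨g₀, hg₀, rfl⟩
    · intro hsl
      apply hg₀N
      have := hnorm _ hsl
      rwa [show (glE n F).symm ((glE n F).toMonoidHom g₀) = g₀ from (glE n F).symm_apply_apply g₀] at this
  -- `SL` is not contained in the normaliser
  have hnot : ¬ specialLinear (Fin n) F ≤ subalgebraNormalizer K :=
    Cfsg.Agent.Lib.Helper30_AschMax.not_le_subalgebraNormalizer (by omega) (by omega) hK
  -- determinants of the normaliser
  have hdetN : ∀ c : Fˣ, ∃ h ∈ subalgebraNormalizer K, (h : Matrix (Fin n) (Fin n) F).det = c := by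
    intro c
    obtain ⟨κ, hκ⟩ := FiniteField.norm_surjective F ↥K (c : F)
    have hκ0 : κ ≠ 0 := by
      rintro rfl
      rw [Algebra.norm_zero] at hκ
      exact c.ne_zero hκ.symm
    obtain ⟨w, hw⟩ : ∃ w : Fin n → F, w ≠ 0 := ⟨fun _ => 1, fun h => by
      have := congrFun h ⟨0, hn0⟩
      simp at this⟩
    obtain ⟨χ, -, hχ⟩ := Cfsg.Agent.Lib.Helper59_Ext_S5b.exists_functional
      (⊥ : Submodule ↥K (Fin n → F)) w (by rw [Submodule.mem_bot]; exact hw) 1
    obtain ⟨g', hg', hdet, hl⟩ := Cfsg.Agent.Lib.Helper70_Ext_DET.DET_kdil (F := F) χ w κ hχ hκ0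
    refine ⟨(glE n F).symm g', hnorm g' (hlin g' hl), ?_⟩
    rw [hdetE, hdet, hκ]
  constructor
  · -- coatom
    refine ⟨?_, ?_⟩
    · intro htop
      apply hnot
      rw [htop]
      exact le_top
    · intro M hlt
      obtain ⟨g₀, hg₀M, hg₀N⟩ := SetLike.exists_of_lt hlt
      have hSL : specialLinear (Fin n) F ≤ M := key M (inf_le_left.trans hlt.le) g₀ hg₀M hg₀N
      rw [eq_top_iff]
      intro g _
      obtain ⟨h, hhN, hdet⟩ := hdetN (Matrix.GeneralLinearGroup.det g)
      have hdet' : Matrix.GeneralLinearGroup.det h = Matrix.GeneralLinearGroup.det g := by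
        apply Units.ext
        rw [Matrix.GeneralLinearGroup.val_det_apply]
        exact hdet
      have h1 : g * h⁻¹ ∈ specialLinear (Fin n) F := by
        unfold specialLinear
        rw [MonoidHom.mem_ker, map_mul, map_inv, hdet', mul_inv_cancel]
      have h2 : g * h⁻¹ * h ∈ M := M.mul_mem (hSL h1) (hlt.le hhN)
      rwa [inv_mul_cancel_right] at h2
  · -- maximal in `SL`
    refine ⟨?_, ?_⟩
    · refine lt_of_le_of_ne inf_le_right ?_
      intro heq
      apply hnot
      rw [← heq]
      exact inf_le_left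
    · intro M hHM hMS
      by_cases hMN : M ≤ subalgebraNormalizer K
      · left
        exact le_antisymm (le_inf hMN hMS) hHM
      · right
        obtain ⟨g₀, hg₀M, hg₀N⟩ := SetLike.not_le_iff_exists.mp hMN
        exact le_antisymm hMS (key M hHM g₀ hg₀M hg₀N)


end Cfsg.Agent.S5886
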