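import Cfsg.Statements.S5635
import Cfsg.Agent.Lib.Helper98_Decomp
-- import your own Cfsg.Agent.* helpers here

set_option autoImplicit false
open Cfsg

namespace Cfsg.Agent.S5635

open Cfsg.Agent.Lib.Helper98_Decomp Matrix

section Alg

variable {F : Type*} [Field F] [Fintype F]

lemma card_cast_zero : ((Fintype.card F : ℕ) : F) = 0 := FiniteField.cast_card_eq_zero F

lemma two_le_card : 2 ≤ Fintype.card F := Fintype.one_lt_card

/-- the key identity behind the weight-preserving element, for `q ∈ {2,3,4}` -/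
lemma alg_sum {ι : Type*} (I : Finset ι) (hI : I.card = 4) (c : ι → F) (hq : Fintype.card F ≤ 4) :
    ∑ i ∈ I, (c i + ∑ k ∈ I, c k) ^ (Fintype.card F - 1) = ∑ i ∈ I, (c i) ^ (Fintype.card F - 1) := by
  have hq2 := two_le_card (F := F)
  have hcast := card_cast_zero (F := F)
  set s := ∑ k ∈ I, c k with hs
  obtain h | h | h : Fintype.card F = 2 ∨ Fintype.card F = 3 ∨ Fintype.card F = 4 := by omega
  · rw [h] at hcast ⊢
    have h2 : (2 : F) = 0 := by exact_mod_cast hcast
    simp only [Nat.add_one_sub_one, pow_one]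
    rw [Finset.sum_add_distrib, Finset.sum_const, hI, ← hs, nsmul_eq_mul]
    push_cast
    linear_combination (2 * s) * h2
  · rw [h] at hcast ⊢
    have h3 : (3 : F) = 0 := by exact_mod_cast hcast
    have e : ∀ i, (c i + s) ^ (3 - 1) = c i ^ (3 - 1) + 2 * s * c i + s ^ 2 := by
      intro i; ring
    simp only [e]
    rw [Finset.sum_add_distrib, Finset.sum_add_distrib, ← Finset.mul_sum, Finset.sum_const, hI, ← hs,
      nsmul_eq_mul]
    push_cast
    linear_combination (2 * s ^ 2) * h3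
  · rw [h] at hcast ⊢
    have h4 : (4 : F) = 0 := by exact_mod_cast hcast
    have h2 : (2 : F) = 0 := by
      have : (2 : F) * 2 = 0 := by linear_combination h4
      exact mul_self_eq_zero.mp this
    have : CharP F 2 := CharTwo.of_one_ne_zero_of_two_eq_zero one_ne_zero h2
    have : Fact (Nat.Prime 2) := ⟨Nat.prime_two⟩
    have hsq : s ^ 2 = ∑ i ∈ I, c i ^ 2 := sum_pow_char 2 I c
    have e : ∀ i, (c i + s) ^ (4 - 1) = c i ^ (4 - 1) + 3 * s * c i ^ 2 + 3 * s ^ 2 * c i + s ^ 3 := by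
      intro i; ring
    simp only [e]
    rw [Finset.sum_add_distrib, Finset.sum_add_distrib, Finset.sum_add_distrib, ← Finset.mul_sum,
      ← Finset.mul_sum, Finset.sum_const, hI, ← hs, ← hsq, nsmul_eq_mul]
    push_cast
    linear_combination (5 * s ^ 3) * h2

lemma five_ne_zero (hq : Fintype.card F ≤ 4) : (1 : F) + 4 ≠ 0 := by
  have hq2 := two_le_card (F := F)
  have hcast := card_cast_zero (F := F)
  intro h5
  apply one_ne_zero (α := F)
  obtain h | h | h : Fintype.card F = 2 ∨ Fintype.card F = 3 ∨ Fintype.card F = 4 := by omega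
  · rw [h] at hcast
    have h2 : (2 : F) = 0 := by exact_mod_cast hcast
    linear_combination h5 - 2 * h2
  · rw [h] at hcast
    have h3 : (3 : F) = 0 := by exact_mod_cast hcast
    linear_combination 2 * h3 - h5
  · rw [h] at hcast
    have h4 : (4 : F) = 0 := by exact_mod_cast hcast
    linear_combination h5 - h4

lemma twentyfive (hq : Fintype.card F ≤ 4) : ((1 : F) + 4) * (1 + 4) = 1 := by
  have hq2 := two_le_card (F := F)
  have hcast := card_cast_zero (F := F)
  obtain h | h | h : Fintype.card F = 2 ∨ Fintype.card F = 3 ∨ Fintype.card F = 4 := by omega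
  · rw [h] at hcast
    have h2 : (2 : F) = 0 := by exact_mod_cast hcast
    linear_combination 12 * h2
  · rw [h] at hcast
    have h3 : (3 : F) = 0 := by exact_mod_cast hcast
    linear_combination 8 * h3
  · rw [h] at hcast
    have h4 : (4 : F) = 0 := by exact_mod_cast hcast
    linear_combination 6 * h4

end Alg

section One

variable {F : Type*} [Field F] [Fintype F] {n t : ℕ} {D : Fin t → Submodule F (Fin n → F)}
  (hD : Cfsg.Geo.IsMDecomposition 1 D)

lemma wtF_one (x : Fin n → F) :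
    wtF hD x = ∑ i, (co hD i 0 x) ^ (Fintype.card F - 1) := by
  rw [wtF_eq_sum]
  apply Finset.sum_congr rfl
  intro i _
  by_cases h : co hD i 0 x = 0
  · rw [if_neg, h, zero_pow]
    · have := two_le_card (F := F)
      omega
    · rintro ⟨j, hj⟩
      have hj0 : j = 0 := Subsingleton.elim _ _
      subst hj0
      exact hj h
  · rw [if_pos ⟨0, h⟩, FiniteField.pow_card_sub_one_eq_one _ h]

lemma T_one_preserves (hq : Fintype.card F ≤ 4) (I : Finset (Fin t)) (hI : I.card = 4)
    (hne : 1 + psiI hD I 0 (uI hD I 0) ≠ 0) :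
    r1GL (uI hD I 0) (psiI hD I 0) hne ∈ preserver (wtF hD) := by
  rw [mem_preserver]
  intro x
  rw [r1GL_coe, r1_mulVec, wtF_one, wtF_one]
  simp only [map_add, map_smul, co_uI, smul_eq_mul]
  rw [← Finset.sum_add_sum_compl I, ← Finset.sum_add_sum_compl I (fun i => (co hD i 0 x) ^ (Fintype.card F - 1))]
  congr 1
  · rw [psiI_apply]
    rw [← alg_sum I hI (fun i => co hD i 0 x) hq]
    apply Finset.sum_congr rfl
    intro i hi
    rw [if_pos ⟨hi, trivial⟩, mul_one]
  · apply Finset.sum_congr rfl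
    intro i hi
    rw [Finset.mem_compl] at hi
    rw [if_neg (fun h => hi h.1), mul_zero, add_zero]

omit [Fintype F] in
lemma kv_one (I J : Finset (Fin t)) (hIJ : Disjoint I J)
    (hneI : 1 + psiI hD I 0 (uI hD I 0) ≠ 0) (hneJ : 1 + psiI hD J 0 (uI hD J 0) ≠ 0)
    {i₀ : Fin t} (hi₀ : i₀ ∈ I) :
    ((r1GL (uI hD I 0) (psiI hD I 0) hneI * r1GL (uI hD J 0) (psiI hD J 0) hneJ : GL (Fin n) F) :
      Matrix (Fin n) (Fin n) F) *ᵥ bas hD ⟨i₀, 0⟩ = bas hD ⟨i₀, 0⟩ + uI hD I 0 := by
  have hi₀J : i₀ ∉ J := Finset.disjoint_left.mp hIJ hi₀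
  have e1 : r1 (uI hD J 0) (psiI hD J 0) *ᵥ bas hD ⟨i₀, 0⟩ = bas hD ⟨i₀, 0⟩ := by
    rw [r1_mulVec, psiI_bas, if_neg (fun h => hi₀J h.1), zero_smul, add_zero]
  rw [Units.val_mul, ← Matrix.mulVec_mulVec, r1GL_coe, r1GL_coe, e1, r1_mulVec, psiI_bas,
    if_pos ⟨hi₀, rfl⟩, one_smul]

include hD in
theorem case_one (hn : 13 ≤ n) (hq : Fintype.card F ≤ 4) :
    ∃ K : Subgroup (GL (Fin n) F),
      Cfsg.Geo.decompositionStabilizer D ⊓ Cfsg.Geo.specialLinear (Fin n) F < K ∧
        K < Cfsg.Geo.specialLinear (Fin n) F := by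
  have htn : t * 1 = n := card_eq hD
  have ht : 13 ≤ t := by omega
  obtain ⟨I, -, hI⟩ := Finset.exists_subset_card_eq (s := (Finset.univ : Finset (Fin t))) (n := 4)
    (by rw [Finset.card_univ, Fintype.card_fin]; omega)
  obtain ⟨J, hJsub, hJ⟩ := Finset.exists_subset_card_eq (s := Iᶜ) (n := 4)
    (by rw [Finset.card_compl, Fintype.card_fin, hI]; omega)
  have hIJ : Disjoint I J := by
    rw [Finset.disjoint_left]
    intro a haI haJ
    have := hJsub haJ
    rw [Finset.mem_compl] at this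
    exact this haI
  obtain ⟨i₀, hi₀, i₁, hi₁, i₂, hi₂, h01, h02, h12⟩ := Finset.two_lt_card.mp (by rw [hI]; norm_num : 2 < I.card)
  have hneI : 1 + psiI hD I 0 (uI hD I 0) ≠ 0 := by
    rw [psiI_uI, if_pos rfl, hI]
    push_cast
    exact five_ne_zero hq
  have hneJ : 1 + psiI hD J 0 (uI hD J 0) ≠ 0 := by
    rw [psiI_uI, if_pos rfl, hJ]
    push_cast
    exact five_ne_zero hq
  refine ⟨preserver (wtF hD) ⊓ Cfsg.Geo.specialLinear (Fin n) F, ?_, ?_⟩
  · rw [SetLike.lt_iff_le_and_exists]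
    refine ⟨inf_le_inf_right _ (stab_le_preserver hD), ?_⟩
    refine ⟨r1GL (uI hD I 0) (psiI hD I 0) hneI * r1GL (uI hD J 0) (psiI hD J 0) hneJ, ?_, ?_⟩
    · refine Subgroup.mem_inf.mpr
        ⟨mul_mem (T_one_preserves hD hq I hI hneI) (T_one_preserves hD hq J hJ hneJ), ?_⟩
      rw [mem_specialLinear_iff, Units.val_mul, Matrix.det_mul, r1GL_coe, r1GL_coe, r1_det, r1_det,
        psiI_uI, psiI_uI, if_pos rfl, if_pos rfl, hI, hJ]
      push_cast
      exact twentyfive hq
    · intro hmem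
      refine not_mem_stab hD (bas_mem hD i₀ 0) (j₁ := 0) (j₂ := 0) h12 ?_ ?_ (Subgroup.mem_inf.mp hmem).1
      · rw [kv_one hD I J hIJ hneI hneJ hi₀, map_add, co_bas, co_uI, if_neg (fun h => h01 h.1),
          if_pos ⟨hi₁, rfl⟩, zero_add]
        exact one_ne_zero
      · rw [kv_one hD I J hIJ hneI hneJ hi₀, map_add, co_bas, co_uI, if_neg (fun h => h02 h.1),
          if_pos ⟨hi₂, rfl⟩, zero_add]
        exact one_ne_zero
  · rw [SetLike.lt_iff_le_and_exists]
    refine ⟨inf_le_right, ?_⟩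
    obtain ⟨h, hSL, hnot⟩ := exists_not_preserver hD h01 0
    exact ⟨h, hSL, fun hmem => hnot (Subgroup.mem_inf.mp hmem).1⟩

end One

section Two

variable {F : Type*} [Field F] [Fintype F] {n t : ℕ} {D : Fin t → Submodule F (Fin n → F)}
  (hD : Cfsg.Geo.IsMDecomposition 2 D)

lemma eq_zero_or_one (hq : Fintype.card F = 2) (a : F) : a = 0 ∨ a = 1 := by
  by_cases h : a = 0
  · left; exact h
  · right
    have := FiniteField.pow_card_sub_one_eq_one a h
    rw [hq] at this
    simpa using this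

lemma two_eq_zero (hq : Fintype.card F = 2) : (2 : F) = 0 := by
  have := card_cast_zero (F := F)
  rw [hq] at this
  exact_mod_cast this

lemma wtF_two (hq : Fintype.card F = 2) (x : Fin n → F) :
    wtF hD x = ∑ i, (co hD i 0 x + co hD i 0 x * co hD i 1 x + co hD i 1 x) := by
  rw [wtF_eq_sum]
  apply Finset.sum_congr rfl
  intro i _
  have h2 := two_eq_zero hq
  have key : (∃ j, co hD i j x ≠ 0) ↔ (co hD i 0 x ≠ 0 ∨ co hD i 1 x ≠ 0) := Fin.exists_fin_two
  split_ifs with h
  · rw [key] at h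
    rcases eq_zero_or_one hq (co hD i 0 x) with h0 | h0 <;>
      rcases eq_zero_or_one hq (co hD i 1 x) with h1 | h1 <;> rw [h0, h1] at h ⊢
    · simp at h
    · simp
    · simp
    · linear_combination (-1 : F) * h2
  · rw [key] at h
    push Not at h
    rw [h.1, h.2]
    simp

lemma alg_two (hq : Fintype.card F = 2) {ι : Type*} (I : Finset ι) (hI : I.card = 3) (a b : ι → F) :
    ∑ i ∈ I, ((a i + ∑ k ∈ I, b k) + (a i + ∑ k ∈ I, b k) * b i + b i)
      = ∑ i ∈ I, (a i + a i * b i + b i) := by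
  have h2 := two_eq_zero hq
  set s := ∑ k ∈ I, b k with hs
  have e : ∀ i, (a i + s) + (a i + s) * b i + b i = (a i + a i * b i + b i) + s + s * b i := by
    intro i; ring
  simp only [e]
  rw [Finset.sum_add_distrib, Finset.sum_add_distrib, Finset.sum_const, hI, ← Finset.mul_sum, ← hs,
    nsmul_eq_mul]
  push_cast
  have hss : s * s = s := by
    rcases eq_zero_or_one hq s with h | h <;> rw [h] <;> simp
  linear_combination hss + (2 * s) * h2

lemma T_two_preserves (hq : Fintype.card F = 2) (I : Finset (Fin t)) (hI : I.card = 3)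
    (hne : 1 + psiI hD I 1 (uI hD I 0) ≠ 0) :
    r1GL (uI hD I 0) (psiI hD I 1) hne ∈ preserver (wtF hD) := by
  rw [mem_preserver]
  intro x
  have c0 : ∀ i, co hD i 0 (uI hD I 0) = if i ∈ I then 1 else 0 := by
    intro i; rw [co_uI]; simp
  have c1 : ∀ i, co hD i 1 (uI hD I 0) = 0 := by
    intro i; rw [co_uI]; simp
  rw [r1GL_coe, r1_mulVec, wtF_two hD hq, wtF_two hD hq]
  simp only [map_add, map_smul, c0, c1, smul_eq_mul, mul_zero, add_zero]
  rw [← Finset.sum_add_sum_compl I, ← Finset.sum_add_sum_compl I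
    (fun i => co hD i 0 x + co hD i 0 x * co hD i 1 x + co hD i 1 x)]
  congr 1
  · rw [psiI_apply]
    rw [← alg_two hq I hI (fun i => co hD i 0 x) (fun i => co hD i 1 x)]
    apply Finset.sum_congr rfl
    intro i hi
    rw [if_pos hi, mul_one]
  · apply Finset.sum_congr rfl
    intro i hi
    rw [Finset.mem_compl] at hi
    rw [if_neg hi, mul_zero, add_zero]

include hD in
theorem case_two (hn : 13 ≤ n) (hq : Fintype.card F = 2) :
    ∃ K : Subgroup (GL (Fin n) F),
      Cfsg.Geo.decompositionStabilizer D ⊓ Cfsg.Geo.specialLinear (Fin n) F < K ∧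
        K < Cfsg.Geo.specialLinear (Fin n) F := by
  have htn : t * 2 = n := card_eq hD
  have ht : 7 ≤ t := by omega
  obtain ⟨I, -, hI⟩ := Finset.exists_subset_card_eq (s := (Finset.univ : Finset (Fin t))) (n := 3)
    (by rw [Finset.card_univ, Fintype.card_fin]; omega)
  obtain ⟨i₁, hi₁, i₂, hi₂, h12⟩ := Finset.one_lt_card.mp (by rw [hI]; norm_num : 1 < I.card)
  have h01 : (0 : Fin 2) ≠ 1 := by decide
  have hpu : psiI hD I 1 (uI hD I 0) = 0 := by
    rw [psiI_uI, if_neg h01]
  have hne : 1 + psiI hD I 1 (uI hD I 0) ≠ 0 := by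
    rw [hpu, add_zero]
    exact one_ne_zero
  have hkv : ((r1GL (uI hD I 0) (psiI hD I 1) hne : GL (Fin n) F) : Matrix (Fin n) (Fin n) F) *ᵥ
      bas hD ⟨i₁, 1⟩ = bas hD ⟨i₁, 1⟩ + uI hD I 0 := by
    rw [r1GL_coe, r1_mulVec, psiI_bas, if_pos ⟨hi₁, rfl⟩, one_smul]
  refine ⟨preserver (wtF hD) ⊓ Cfsg.Geo.specialLinear (Fin n) F, ?_, ?_⟩
  · rw [SetLike.lt_iff_le_and_exists]
    refine ⟨inf_le_inf_right _ (stab_le_preserver hD), ?_⟩
    refine ⟨r1GL (uI hD I 0) (psiI hD I 1) hne, ?_, ?_⟩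
    · refine Subgroup.mem_inf.mpr ⟨T_two_preserves hD hq I hI hne, ?_⟩
      rw [mem_specialLinear_iff, r1GL_coe, r1_det, hpu, add_zero]
    · intro hmem
      refine not_mem_stab hD (bas_mem hD i₁ 1) (j₁ := 0) (j₂ := 0) h12 ?_ ?_ (Subgroup.mem_inf.mp hmem).1
      · rw [hkv, map_add, co_bas, co_uI, if_neg (fun h => h01 h.2.symm),
          if_pos ⟨hi₁, rfl⟩, zero_add]
        exact one_ne_zero
      · rw [hkv, map_add, co_bas, co_uI, if_neg (fun h => h01 h.2.symm),
          if_pos ⟨hi₂, rfl⟩, zero_add]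
        exact one_ne_zero
  · rw [SetLike.lt_iff_le_and_exists]
    refine ⟨inf_le_right, ?_⟩
    obtain ⟨h, hSL, hnot⟩ := exists_not_preserver hD h12 0
    exact ⟨h, hSL, fun hmem => hnot (Subgroup.mem_inf.mp hmem).1⟩

end Two

/-- For a finite field F with q elements and n ≥ 13, let D be a decomposition of F^n into t ≥ 2 independent subspaces of equal dimension m spanning F^n, where m = 1 and q ≤ 4, or m = 2 and q = 2. Then the elements of SL_n(F) permuting the members of D form a subgroup that is not maximal: some subgroup lies strictly between it and SL_n(F). -/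
theorem result {F : Type*} [Field F] [Fintype F] (n : ℕ) (hn : 13 ≤ n) {t : ℕ} (m : ℕ) (D : Fin t → Submodule F (Fin n → F)) (hD : Cfsg.Geo.IsMDecomposition m D) (h : (m = 1 ∧ Fintype.card F ≤ 4) ∨ (m = 2 ∧ Fintype.card F = 2)) : ∃ K : Subgroup (Matrix.GeneralLinearGroup (Fin n) F), Cfsg.Geo.decompositionStabilizer D ⊓ Cfsg.Geo.specialLinear (Fin n) F < K ∧ K < Cfsg.Geo.specialLinear (Fin n) F := by
  rcases h with ⟨rfl, hq⟩ | ⟨rfl, hq⟩
  · exact case_one hD hn hq
  · exact case_two hD hn hq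

end Cfsg.Agent.S5635
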