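import Cfsg.Statements.S5638

set_option autoImplicit false
open Cfsg

namespace Cfsg.Agent.S5638

open scoped Matrix Kronecker MatrixGroups

variable {F : Type*} [Field F]

/-- The matrix `ω = [[0,1],[1,1]]`. -/
def omegaMat (F : Type*) [Field F] : Matrix (Fin 2) (Fin 2) F := !![0, 1; 1, 1]

/-- `ω` as an element of `GL₂`. -/
noncomputable def omegaGL (F : Type*) [Field F] : GL (Fin 2) F :=
  Matrix.GeneralLinearGroup.mkOfDetNeZero (omegaMat F) (by simp [omegaMat, Matrix.det_fin_two])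

/-- `a ↦ a ⊗ 1` as a monoid hom. -/
def kronLeft (m : ℕ) (F : Type*) [Field F] :
    Matrix (Fin 2) (Fin 2) F →* Matrix (Fin 2 × Fin m) (Fin 2 × Fin m) F where
  toFun a := a ⊗ₖ (1 : Matrix (Fin m) (Fin m) F)
  map_one' := Matrix.one_kronecker_one
  map_mul' a b := by rw [← Matrix.mul_kronecker_mul, mul_one]

/-- `b ↦ 1 ⊗ b` as a monoid hom. -/
def kronRight (m : ℕ) (F : Type*) [Field F] :
    Matrix (Fin m) (Fin m) F →* Matrix (Fin 2 × Fin m) (Fin 2 × Fin m) F where
  toFun b := (1 : Matrix (Fin 2) (Fin 2) F) ⊗ₖ b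
  map_one' := Matrix.one_kronecker_one
  map_mul' a b := by rw [← Matrix.mul_kronecker_mul, mul_one]

lemma kronLeft_apply (m : ℕ) (a : Matrix (Fin 2) (Fin 2) F) :
    kronLeft m F a = a ⊗ₖ (1 : Matrix (Fin m) (Fin m) F) := rfl

lemma kronRight_apply (m : ℕ) (b : Matrix (Fin m) (Fin m) F) :
    kronRight m F b = (1 : Matrix (Fin 2) (Fin 2) F) ⊗ₖ b := rfl

lemma kron_comm (m : ℕ) (a : Matrix (Fin 2) (Fin 2) F) (b : Matrix (Fin m) (Fin m) F) :
    kronRight m F b * kronLeft m F a = kronLeft m F a * kronRight m F b := by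
  rw [kronLeft_apply, kronRight_apply, ← Matrix.mul_kronecker_mul, ← Matrix.mul_kronecker_mul,
    one_mul, mul_one, one_mul, mul_one]

lemma kron_mul (m : ℕ) (a : Matrix (Fin 2) (Fin 2) F) (b : Matrix (Fin m) (Fin m) F) :
    kronLeft m F a * kronRight m F b = a ⊗ₖ b := by
  rw [kronLeft_apply, kronRight_apply, ← Matrix.mul_kronecker_mul, one_mul, mul_one]

/-- The element `W = ω ⊗ 1`. -/
noncomputable def wGL (m : ℕ) (F : Type*) [Field F] : GL (Fin 2 × Fin m) F :=
  Units.map (kronLeft m F) (omegaGL F)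

lemma two_eq_zero_of_card [Fintype F] (hq : Fintype.card F = 2) : (2 : F) = 0 := by
  have := FiniteField.cast_card_eq_zero F
  rw [hq] at this
  exact_mod_cast this

lemma omega_pow_three [Fintype F] (hq : Fintype.card F = 2) : omegaGL F ^ 3 = 1 := by
  have h2 := two_eq_zero_of_card hq
  apply Units.ext
  rw [Units.val_pow_eq_pow_val]
  show (omegaMat F) ^ 3 = 1
  ext i j
  fin_cases i <;> fin_cases j <;>
    simp [pow_succ, Matrix.mul_apply, Fin.sum_univ_two, omegaMat] <;> linear_combination h2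

lemma omega_ne_one : omegaGL F ≠ 1 := by
  intro h
  have := congrArg (fun g : GL (Fin 2) F => (g : Matrix (Fin 2) (Fin 2) F) 0 0) h
  simp [omegaGL, omegaMat] at this

lemma orderOf_omega [Fintype F] (hq : Fintype.card F = 2) : orderOf (omegaGL F) = 3 :=
  orderOf_eq_prime (omega_pow_three hq) omega_ne_one

lemma card_GL2 [Fintype F] (hq : Fintype.card F = 2) : Nat.card (GL (Fin 2) F) = 6 := by
  rw [Matrix.card_GL_field, hq]
  simp [Fin.prod_univ_two]

lemma zpowers_omega_normal [Fintype F] (hq : Fintype.card F = 2) :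
    (Subgroup.zpowers (omegaGL F)).Normal := by
  apply Subgroup.normal_of_index_eq_two
  have h1 := Subgroup.index_mul_card (Subgroup.zpowers (omegaGL F))
  rw [Nat.card_zpowers, orderOf_omega hq, card_GL2 hq] at h1
  omega

lemma kron_le_normalizer [Fintype F] (hq : Fintype.card F = 2) (m : ℕ) :
    Cfsg.Geo.kroneckerSubgroup 2 m F ≤ Subgroup.normalizer (Subgroup.zpowers (wGL m F) : Set _) := by
  have hN := zpowers_omega_normal hq
  rw [Subgroup.le_normalizer_iff]
  intro g hg z hz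
  obtain ⟨a, b, hab⟩ := hg
  have hz' : z ∈ (Subgroup.zpowers (omegaGL F)).map (Units.map (kronLeft m F)) := by
    rw [MonoidHom.map_zpowers]; exact hz
  obtain ⟨c, hc, rfl⟩ := hz'
  have hg' : g = Units.map (kronLeft m F) a * Units.map (kronRight m F) b := by
    apply Units.ext
    rw [Units.val_mul, hab, Units.coe_map, Units.coe_map]
    exact (kron_mul m _ _).symm
  have hcomm : Units.map (kronRight m F) b * Units.map (kronLeft m F) c
      = Units.map (kronLeft m F) c * Units.map (kronRight m F) b := by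
    apply Units.ext
    rw [Units.val_mul, Units.val_mul, Units.coe_map, Units.coe_map]
    exact kron_comm m _ _
  have hconj : g * Units.map (kronLeft m F) c * g⁻¹ = Units.map (kronLeft m F) (a * c * a⁻¹) := by
    rw [hg', map_mul, map_mul, map_inv, mul_inv_rev, mul_assoc _ (Units.map (kronRight m F) b), hcomm]
    group
  rw [hconj]
  have hW : Subgroup.zpowers (wGL m F)
      = (Subgroup.zpowers (omegaGL F)).map (Units.map (kronLeft m F)) := by
    rw [MonoidHom.map_zpowers]; rfl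
  rw [hW]
  exact Subgroup.mem_map_of_mem _ (hN.conj_mem c hc a)

/-- `1 + N` as a unit when `N * N = 0`. -/
def unipotent {ι : Type} [Fintype ι] [DecidableEq ι] (N : Matrix ι ι F) (hN : N * N = 0) : GL ι F :=
  ⟨1 + N, 1 - N, by
      have : (1 + N) * (1 - N) = 1 - N * N := by noncomm_ring
      rw [this, hN, sub_zero], by
      have : (1 - N) * (1 + N) = 1 - N * N := by noncomm_ring
      rw [this, hN, sub_zero]⟩

lemma unipotent_val {ι : Type} [Fintype ι] [DecidableEq ι] (N : Matrix ι ι F) (hN : N * N = 0) :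
    ((unipotent N hN : GL ι F) : Matrix ι ι F) = 1 + N := rfl

/-- the elementary matrix `E₀₁` of size `k+2`. -/
def eMat (k : ℕ) (F : Type*) [Field F] : Matrix (Fin (k + 2)) (Fin (k + 2)) F := Matrix.single 0 1 1

lemma eMat_mul_self (k : ℕ) : eMat k F * eMat k F = 0 := by
  unfold eMat
  apply Matrix.single_mul_single_of_ne
  simp

lemma kron_eMat_mul_self (k : ℕ) (A : Matrix (Fin 2) (Fin 2) F) :
    (A ⊗ₖ eMat k F) * (A ⊗ₖ eMat k F) = 0 := by
  rw [← Matrix.mul_kronecker_mul, eMat_mul_self, Matrix.kronecker_zero]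

/-- the element of the normalizer not in the Kronecker subgroup. -/
def gIn (k : ℕ) (F : Type*) [Field F] : GL (Fin 2 × Fin (k + 2)) F :=
  unipotent (omegaMat F ⊗ₖ eMat k F) (kron_eMat_mul_self k _)

/-- the element outside the normalizer. -/
def gOut (k : ℕ) (F : Type*) [Field F] : GL (Fin 2 × Fin (k + 2)) F :=
  unipotent ((Matrix.single 0 1 1 : Matrix (Fin 2) (Fin 2) F) ⊗ₖ eMat k F) (kron_eMat_mul_self k _)

lemma wGL_val (m : ℕ) : ((wGL m F : GL (Fin 2 × Fin m) F) : Matrix _ _ F)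
    = omegaMat F ⊗ₖ (1 : Matrix (Fin m) (Fin m) F) := rfl

lemma gIn_mem_normalizer (k : ℕ) :
    gIn k F ∈ Subgroup.normalizer (Subgroup.zpowers (wGL (k + 2) F) : Set _) := by
  apply Subgroup.centralizer_le_normalizer
  rw [Subgroup.mem_centralizer_iff]
  intro h hh
  obtain ⟨j, rfl⟩ := Subgroup.mem_zpowers_iff.1 hh
  have hc : Commute (wGL (k + 2) F) (gIn k F) := by
    apply Units.ext
    rw [Units.val_mul, Units.val_mul, wGL_val]
    show _ * (1 + _) = (1 + _) * _
    rw [mul_add, add_mul, mul_one, one_mul, ← Matrix.mul_kronecker_mul, ← Matrix.mul_kronecker_mul,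
      mul_one, one_mul]
  exact (hc.zpow_left j).eq

lemma gIn_not_mem_kron (k : ℕ) : gIn k F ∉ Cfsg.Geo.kroneckerSubgroup 2 (k + 2) F := by
  rintro ⟨a, b, hab⟩
  have hv : ((gIn k F : GL _ F) : Matrix _ _ F) = 1 + omegaMat F ⊗ₖ eMat k F := rfl
  rw [hv] at hab
  have e1 := congrFun (congrFun hab (0, 0)) (0, 0)
  have e2 := congrFun (congrFun hab (0, 0)) (1, 0)
  have e3 := congrFun (congrFun hab (0, 0)) (1, 1)
  simp [Matrix.kroneckerMap_apply, eMat, omegaMat] at e1 e2 e3
  rcases e2 with h | h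
  · rw [h, zero_mul] at e3; exact one_ne_zero e3
  · rw [h, mul_zero] at e1; exact one_ne_zero e1

lemma gOut_not_mem_normalizer (k : ℕ) :
    gOut k F ∉ Subgroup.normalizer (Subgroup.zpowers (wGL (k + 2) F) : Set _) := by
  intro hmem
  have h1 : gOut k F * wGL (k + 2) F * (gOut k F)⁻¹ ∈ Subgroup.zpowers (wGL (k + 2) F) :=
    (hmem (wGL (k + 2) F)).1 (Subgroup.mem_zpowers _)
  have hle : Subgroup.zpowers (wGL (k + 2) F) ≤ (Units.map (kronLeft (k + 2) F)).range := by
    rw [Subgroup.zpowers_le]; exact ⟨omegaGL F, rfl⟩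
  obtain ⟨c, hc⟩ := hle h1
  rw [eq_mul_inv_iff_mul_eq] at hc
  have hc' := congrArg (fun g : GL (Fin 2 × Fin (k + 2)) F =>
    (g : Matrix (Fin 2 × Fin (k + 2)) (Fin 2 × Fin (k + 2)) F)) hc
  simp only [Units.val_mul, Units.coe_map, wGL_val] at hc'
  have hv : ((gOut k F : GL _ F) : Matrix _ _ F)
      = 1 + (Matrix.single 0 1 1 : Matrix (Fin 2) (Fin 2) F) ⊗ₖ eMat k F := rfl
  rw [hv, kronLeft_apply, mul_add, add_mul, mul_one, one_mul, ← Matrix.mul_kronecker_mul,
    ← Matrix.mul_kronecker_mul, mul_one, one_mul] at hc'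
  have e1 := congrFun (congrFun hc' (0, 0)) (0, 1)
  simp [Matrix.kroneckerMap_apply, eMat, omegaMat, Matrix.mul_apply, Fin.sum_univ_two] at e1

lemma key [Fintype F] (hq : Fintype.card F = 2) (k : ℕ) :
    ∃ K' : Subgroup (GL (Fin 2 × Fin (k + 2)) F),
      Cfsg.Geo.kroneckerSubgroup 2 (k + 2) F < K' ∧ K' < ⊤ := by
  refine ⟨Subgroup.normalizer (Subgroup.zpowers (wGL (k + 2) F) : Set _), ?_, ?_⟩
  · refine lt_of_le_of_ne (kron_le_normalizer hq (k + 2)) ?_
    intro h
    exact gIn_not_mem_kron k (h ▸ gIn_mem_normalizer k)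
  · rw [lt_top_iff_ne_top]
    intro h
    exact gOut_not_mem_normalizer k (h ▸ Subgroup.mem_top _)

lemma specialLinear_eq_top [Fintype F] (hq : Fintype.card F = 2) (n : ℕ) :
    Cfsg.Geo.specialLinear (Fin n) F = ⊤ := by
  have hsub : Subsingleton Fˣ := by
    classical
    rw [← Fintype.card_le_one_iff_subsingleton, Fintype.card_units, hq]
  rw [eq_top_iff]
  intro g _
  unfold Cfsg.Geo.specialLinear
  rw [MonoidHom.mem_ker]
  exact Subsingleton.elim _ _

/-- Over the field with 2 elements, for n = 2 n₂ ≥ 13, the stabiliser in SL_n of a tensor decomposition with factors of dimensions 2 and n₂ (the conjugate by any P of the Kronecker-product subgroup transported along any bijection Fin n ≃ Fin 2 × Fin n₂, intersected with SL_n) is not a maximal subgroup: some subgroup lies strictly between it and SL_n. -/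
theorem result {F : Type*} [Field F] [Fintype F] (n : ℕ) (hn : 13 ≤ n) (hq : Fintype.card F = 2) (n₂ : ℕ) (e : Fin n ≃ Fin 2 × Fin n₂) (P : Matrix.GeneralLinearGroup (Fin n) F) : ∃ K : Subgroup (Matrix.GeneralLinearGroup (Fin n) F), Cfsg.Geo.tensorProductSubgroup 2 n₂ e P ⊓ Cfsg.Geo.specialLinear (Fin n) F < K ∧ K < Cfsg.Geo.specialLinear (Fin n) F := by
  have hcard : n = 2 * n₂ := by simpa using Fintype.card_congr e
  obtain ⟨k, rfl⟩ : ∃ k, n₂ = k + 2 := ⟨n₂ - 2, by omega⟩
  rw [specialLinear_eq_top hq, inf_top_eq]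
  let φ : GL (Fin 2 × Fin (k + 2)) F ≃* GL (Fin n) F :=
    (Cfsg.Geo.glReindex e.symm).trans (MulAut.conj P)
  have hT : Cfsg.Geo.tensorProductSubgroup 2 (k + 2) e P
      = (Cfsg.Geo.kroneckerSubgroup 2 (k + 2) F).map φ.toMonoidHom := by
    unfold Cfsg.Geo.tensorProductSubgroup
    rw [Subgroup.map_map]
    rfl
  obtain ⟨K', h1, h2⟩ := key hq k
  refine ⟨K'.map φ.toMonoidHom, ?_, ?_⟩
  · rw [hT]
    exact (Subgroup.map_lt_map_iff_of_injective φ.injective).2 h1
  · have htop : (⊤ : Subgroup (GL (Fin n) F)) = (⊤ : Subgroup _).map φ.toMonoidHom :=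
      (Subgroup.map_top_of_surjective φ.toMonoidHom φ.surjective).symm
    rw [htop]
    exact (Subgroup.map_lt_map_iff_of_injective φ.injective).2 h2

end Cfsg.Agent.S5638
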