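import Cfsg.Statements.S1447
import Cfsg.Agent.Lib.Helper2_Metacyclic
import Cfsg.Agent.Lib.Helper2_Coprime
import Cfsg.Agent.Lib.Helper24_CoprimeAction
-- import your own Cfsg.Agent.* helpers here

set_option autoImplicit false
open Cfsg

namespace Cfsg.Agent.S1447

open Cfsg.Agent.Lib.Helper2_Metacyclic Cfsg.Agent.Lib.Helper24_CoprimeAction

open scoped commutatorElement

/-- `[R, A]` is normalized by `R`. -/
theorem le_normalizer_commutator {G : Type*} [Group G] (R A : Subgroup G) :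
    R ≤ Subgroup.normalizer ((⁅R, A⁆ : Subgroup G) : Set G) := by
  have key : ∀ r' ∈ R, ∀ x ∈ ⁅R, A⁆, r' * x * r'⁻¹ ∈ ⁅R, A⁆ := by
    intro r' hr' x hx
    have hle : ⁅R, A⁆ ≤ (⁅R, A⁆ : Subgroup G).comap (MulAut.conj r').toMonoidHom := by
      rw [Subgroup.commutator_le]
      intro r hr a ha
      show r' * ⁅r, a⁆ * r'⁻¹ ∈ ⁅R, A⁆
      have h1 : r' * ⁅r, a⁆ * r'⁻¹ = ⁅r' * r, a⁆ * ⁅r', a⁆⁻¹ := by
        simp only [commutatorElement_def]; group
      rw [h1]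
      exact Subgroup.mul_mem _ (Subgroup.commutator_mem_commutator (R.mul_mem hr' hr) ha)
        (Subgroup.inv_mem _ (Subgroup.commutator_mem_commutator hr' ha))
    exact hle hx
  intro r' hr'
  rw [Subgroup.mem_normalizer_iff]
  intro x
  constructor
  · exact key r' hr' x
  · intro hx
    have := key r'⁻¹ (R.inv_mem hr') _ hx
    simpa [mul_assoc] using this

/-- Let G be a finite group, p an odd prime, R a metacyclic p-subgroup and A a subgroup of order coprime to p normalizing R. Then [R, A] is abelian; R is generated by [R, A] and R ∩ C_G(A), which meet trivially; and if R is non-abelian and A does not centralize R, then [R, A] and R ∩ C_G(A) are nontrivial cyclic groups and [R, R] ≤ [R, A]. -/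
theorem result {G : Type*} [Group G] [Finite G] (p : ℕ) [Fact p.Prime] (hp : p ≠ 2) (R A : Subgroup G) (hR : IsPGroup p R) (hRm : Cfsg.IsMetacyclic R)
    (hA : (A ≤ Subgroup.normalizer (R : Set G))) (hcop : (Nat.card A).Coprime p) :
    IsMulCommutative ↥⁅R, A⁆ ∧ ⁅R, A⁆ ⊔ (R ⊓ Subgroup.centralizer (A : Set G)) = R ∧ ⁅R, A⁆ ⊓ (R ⊓ Subgroup.centralizer (A : Set G)) = ⊥ ∧
      (¬ IsMulCommutative R → ¬ A ≤ Subgroup.centralizer (R : Set G) →
        ⁅R, A⁆ ≠ ⊥ ∧ IsCyclic ↥⁅R, A⁆ ∧ (R ⊓ Subgroup.centralizer (A : Set G)) ≠ ⊥ ∧ IsCyclic ↥(R ⊓ Subgroup.centralizer (A : Set G)) ∧ ⁅R, R⁆ ≤ ⁅R, A⁆) := by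
  have hpP : p.Prime := Fact.out
  set Q : Subgroup G := ⁅R, A⁆ with hQdef
  set C : Subgroup G := R ⊓ Subgroup.centralizer (A : Set G) with hCdef
  have hQR : Q ≤ R := commutator_le_of_le_normalizer R A hA
  have hAQ : A ≤ Subgroup.normalizer (Q : Set G) := fun a ha =>
    mem_normalizer_commutator R A (hA ha) (Subgroup.le_normalizer ha)
  have hRQ : R ≤ Subgroup.normalizer (Q : Set G) := le_normalizer_commutator R A
  have hcopR : (Nat.card ↥A).Coprime (Nat.card ↥R) := by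
    obtain ⟨n, hn⟩ := IsPGroup.iff_card.mp hR
    rw [hn]
    exact Nat.Coprime.pow_right _ hcop
  have hsolv : Group.IsSolvable ↥R := by
    have : Group.IsNilpotent ↥R := hR.isNilpotent
    infer_instance
  -- the decomposition
  have hdec : ∀ r ∈ R, ∃ d ∈ Q, ∃ c ∈ C, r = d * c := fun r hr =>
    coprime_decomp A R hA hcopR (Or.inr hsolv) hr
  have hsup : Q ⊔ C = R := by
    apply le_antisymm (sup_le hQR inf_le_left)
    intro r hr
    obtain ⟨d, hd, c, hc, rfl⟩ := hdec r hr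
    exact Subgroup.mul_mem _ ((le_sup_left : Q ≤ Q ⊔ C) hd) ((le_sup_right : C ≤ Q ⊔ C) hc)
  -- `[Q, A] = Q`
  have hQA : ⁅Q, A⁆ = Q := by
    apply le_antisymm (commutator_le_of_le_normalizer Q A hAQ)
    rw [hQdef, Subgroup.commutator_le]
    intro r hr a ha
    obtain ⟨d, hd, c, hc, rfl⟩ := hdec r hr
    have hca : a * c = c * a := (Subgroup.mem_centralizer_iff.mp hc.2) a ha
    have h1 : ⁅d * c, a⁆ = ⁅d, a⁆ := by
      rw [commutatorElement_def, commutatorElement_def]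
      calc d * c * a * (d * c)⁻¹ * a⁻¹ = d * (c * a) * c⁻¹ * d⁻¹ * a⁻¹ := by group
        _ = d * (a * c) * c⁻¹ * d⁻¹ * a⁻¹ := by rw [hca]
        _ = d * a * d⁻¹ * a⁻¹ := by group
    rw [h1]
    exact Subgroup.commutator_mem_commutator hd ha
  -- `Q` is abelian
  have hQp : IsPGroup p ↥Q := hR.to_le hQR
  have hQm : Cfsg.IsMetacyclic ↥Q := isMetacyclic_of_le hQR hRm
  let ρ : ↥A →* MulAut ↥Q := Cfsg.Agent.Lib.Helper2_Coprime.conjAut Q A hAQ
  have hfix : Subgroup.closure {x : ↥Q | ∃ (γ : ↥A) (g : ↥Q), x = ρ γ g * g⁻¹} = ⊤ := by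
    rw [eq_top_iff]
    have hle : ⁅Q, A⁆ ≤
        (Subgroup.closure {x : ↥Q | ∃ (γ : ↥A) (g : ↥Q), x = ρ γ g * g⁻¹}).map Q.subtype := by
      rw [Subgroup.commutator_le]
      intro g hg a ha
      have h1 : ⁅g, a⁆ = (⁅a, g⁆)⁻¹ := (commutatorElement_inv a g).symm
      rw [h1]
      apply Subgroup.inv_mem
      refine ⟨ρ ⟨a, ha⟩ ⟨g, hg⟩ * (⟨g, hg⟩ : ↥Q)⁻¹, Subgroup.subset_closure ⟨⟨a, ha⟩, ⟨g, hg⟩, rfl⟩, ?_⟩
      rw [commutatorElement_def]
      rfl
    rw [hQA] at hle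
    intro x _
    obtain ⟨y, hy, hyx⟩ := hle x.2
    have : y = x := Subtype.ext hyx
    rw [← this]
    exact hy
  have hQcomm : ∀ a b : ↥Q, a * b = b * a :=
    comm_of_fixedPointFree hp hQp hQm hcop ρ hfix
  have hQc : IsMulCommutative ↥Q := ⟨⟨hQcomm⟩⟩
  -- trivial intersection
  have hinf : Q ⊓ C = ⊥ := by
    have hcopQ : (Nat.card ↥A).Coprime (Nat.card ↥Q) :=
      Nat.Coprime.coprime_dvd_right (Subgroup.card_dvd_of_le hQR) hcopR
    have h1 := Cfsg.Agent.Lib.Helper2_Coprime.commutator_inf_centralizer_eq_bot Q A hAQ hcopQ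
    rw [hQA] at h1
    rw [eq_bot_iff, ← h1]
    intro x hx
    have hxQ : x ∈ Q := (Subgroup.mem_inf.mp hx).1
    have hxC : x ∈ C := (Subgroup.mem_inf.mp hx).2
    exact Subgroup.mem_inf.mpr ⟨hxQ, Subgroup.mem_inf.mpr ⟨hxQ, (Subgroup.mem_inf.mp hxC).2⟩⟩
  refine ⟨hQc, hsup, hinf, ?_⟩
  intro hRna hAnc
  have hQne : Q ≠ ⊥ := by
    intro hb
    apply hAnc
    rw [hQdef, Subgroup.commutator_eq_bot_iff_le_centralizer] at hb
    exact Subgroup.le_centralizer_iff.mp hb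
  have hCne : C ≠ ⊥ := by
    intro hb
    apply hRna
    rw [hb, sup_bot_eq] at hsup
    rw [← hsup]
    exact hQc
  have hCR : C ≤ R := inf_le_left
  have hCp : IsPGroup p ↥C := hR.to_le hCR
  have hQcyc : IsCyclic ↥Q := by
    by_contra hnc
    obtain ⟨c, hcC, hc1, hcp⟩ := exists_pow_eq_one_of_ne_bot hCp hCne
    have hcQ : c ∈ Q := mem_of_pow_eq_one_of_not_isCyclic hp hQR hR hRm hnc c (hCR hcC) hcp
    have : c ∈ Q ⊓ C := Subgroup.mem_inf.mpr ⟨hcQ, hcC⟩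
    rw [hinf, Subgroup.mem_bot] at this
    exact hc1 this
  have hCcyc : IsCyclic ↥C := by
    by_contra hnc
    obtain ⟨c, hcQ, hc1, hcp⟩ := exists_pow_eq_one_of_ne_bot hQp hQne
    have hcC : c ∈ C := mem_of_pow_eq_one_of_not_isCyclic hp hCR hR hRm hnc c (hQR hcQ) hcp
    have : c ∈ Q ⊓ C := Subgroup.mem_inf.mpr ⟨hcQ, hcC⟩
    rw [hinf, Subgroup.mem_bot] at this
    exact hc1 this
  refine ⟨hQne, hQcyc, hCne, hCcyc, ?_⟩
  -- `R' ≤ Q`
  have hNn : (Q.subgroupOf R).Normal :=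
    (Subgroup.normal_subgroupOf_iff_le_normalizer hQR).mpr hRQ
  have hHc : IsMulCommutative ↥(C.subgroupOf R) := by
    refine ⟨⟨fun a b => ?_⟩⟩
    have hcc : IsMulCommutative ↥C := ⟨⟨fun x y => (IsCyclic.commGroup (α := ↥C)).mul_comm x y⟩⟩
    have h1 : (⟨(a : G), a.2⟩ : ↥C) * ⟨(b : G), b.2⟩ = ⟨(b : G), b.2⟩ * ⟨(a : G), a.2⟩ :=
      hcc.is_comm.comm _ _
    have h2 : ((a : ↥R) : G) * ((b : ↥R) : G) = ((b : ↥R) : G) * ((a : ↥R) : G) :=
      congrArg Subtype.val h1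
    exact Subtype.ext (Subtype.ext h2)
  have htop : Q.subgroupOf R ⊔ C.subgroupOf R = ⊤ := by
    rw [← Subgroup.subgroupOf_sup hQR hCR, hsup, Subgroup.subgroupOf_self]
  have hle := Subgroup.Normal.commutator_le_of_self_sup_commutative_eq_top htop hHc
  have h1 : ⁅R, R⁆ = (commutator ↥R).map R.subtype := by
    rw [commutator_def, Subgroup.map_commutator, ← MonoidHom.range_eq_map, Subgroup.range_subtype]
  rw [h1]
  intro x hx
  obtain ⟨y, hy, rfl⟩ := hx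
  exact hle hy

end Cfsg.Agent.S1447
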