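import Cfsg.Statements.S4189
import Cfsg.Agent.S4207
import Cfsg.Agent.Lib.Helper1_Frattini
import Cfsg.Agent.Lib.Helper70_Regular

set_option autoImplicit false
open Cfsg

namespace Cfsg.Agent.S4189
open scoped commutatorElement

variable {P : Type*} [Group P]

theorem eq_bot_of_le_commutator [Group.IsNilpotent P] (H : Subgroup P) (h : H ≤ ⁅H, (⊤ : Subgroup P)⁆) :
    H = ⊥ := by
  obtain ⟨n, hn⟩ := Subgroup.nilpotent_iff_lowerCentralSeries.mp (inferInstance : Group.IsNilpotent P)
  have key : ∀ k, H ≤ (⊤ : Subgroup P).lowerCentralSeries k := by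
    intro k
    induction k with
    | zero => rw [Subgroup.lowerCentralSeries_zero]; exact le_top
    | succ k ih =>
      rw [Subgroup.lowerCentralSeries_succ]
      exact h.trans (Subgroup.commutator_mono ih le_rfl)
  rw [eq_bot_iff, ← hn]
  exact key n

/-- The set of elements commuting with `c` modulo a normal subgroup `L`. -/
def centMod (L : Subgroup P) [L.Normal] (c : P) : Subgroup P :=
  (Subgroup.centralizer {(QuotientGroup.mk' L c)}).comap (QuotientGroup.mk' L)

theorem mem_centMod (L : Subgroup P) [L.Normal] (c g : P) : g ∈ centMod L c ↔ ⁅c, g⁆ ∈ L := by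
  unfold centMod
  rw [Subgroup.mem_comap, Subgroup.mem_centralizer_singleton_iff, ← QuotientGroup.eq_one_iff,
    commutatorElement_def]
  simp only [QuotientGroup.mk'_apply, QuotientGroup.mk_mul, QuotientGroup.mk_inv]
  constructor
  · intro h
    rw [mul_inv_eq_one, mul_inv_eq_iff_eq_mul]
    exact h.symm
  · intro h
    rw [mul_inv_eq_one, mul_inv_eq_iff_eq_mul] at h
    exact h.symm

/-- automorphisms inducing the identity on the Frattini quotient -/
def fratKer (P : Type*) [Group P] : Subgroup (MulAut P) where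
  carrier := {α | ∀ x, α x * x⁻¹ ∈ frattini P}
  one_mem' := fun x => by simp
  mul_mem' := by
    intro α β hα hβ x
    have h1 := hα (β x)
    have h2 := hβ x
    have : (α * β) x * x⁻¹ = (α (β x) * (β x)⁻¹) * (β x * x⁻¹) := by
      rw [MulAut.mul_apply]; group
    rw [this]
    exact Subgroup.mul_mem _ h1 h2
  inv_mem' := by
    intro α hα x
    have h1 := hα (α⁻¹ x)
    rw [MulAut.apply_inv_self] at h1
    have := Subgroup.inv_mem _ h1
    rwa [mul_inv_rev, inv_inv] at this

theorem exists_odd_aut [Finite P] (haut : ¬ IsPGroup 2 (MulAut P)) :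
    ∃ α : MulAut P, Odd (orderOf α) ∧ orderOf α ≠ 1 := by
  have : Finite (MulAut P) := inferInstance
  unfold IsPGroup at haut
  push Not at haut
  obtain ⟨β, hβ⟩ := haut
  have ho : orderOf β ≠ 0 := (orderOf_pos β).ne'
  obtain ⟨k, m, hm, hkm⟩ := Nat.exists_eq_two_pow_mul_odd ho
  refine ⟨β ^ 2 ^ k, ?_, ?_⟩
  · have : orderOf (β ^ 2 ^ k) = m := by
      rw [orderOf_pow_of_dvd (pow_ne_zero _ two_ne_zero) (hkm ▸ Dvd.intro _ rfl), hkm]
      exact Nat.mul_div_cancel_left m (pow_pos two_pos k)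
    rw [this]; exact hm
  · intro h
    rw [orderOf_eq_one_iff] at h
    exact hβ k h

theorem not_mem_fratKer [Finite P] (hP : IsPGroup 2 P) (α : MulAut P) (hodd : Odd (orderOf α))
    (hne : orderOf α ≠ 1) : α ∉ fratKer P := by
  intro hα
  have : Fact (Nat.Prime 2) := ⟨Nat.prime_two⟩
  obtain ⟨n, hn⟩ := IsPGroup.iff_card.mp hP
  have hidx : (frattini P).index ∣ 2 ^ n := hn ▸ Subgroup.index_dvd_card _
  obtain ⟨r, _, hr⟩ := (Nat.dvd_prime_pow Nat.prime_two).mp hidx
  have hK := Cfsg.Agent.S4207.result hn hr (fratKer P) (fun a ha => ha)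
  have h1 : orderOf (⟨α, hα⟩ : fratKer P) ∣ Nat.card (fratKer P) := orderOf_dvd_natCard _
  have h2 : orderOf (⟨α, hα⟩ : fratKer P) = orderOf α := Subgroup.orderOf_mk α hα
  rw [h2] at h1
  have h3 := h1.trans hK
  obtain ⟨j, _, hj⟩ := (Nat.dvd_prime_pow Nat.prime_two).mp h3
  rw [hj] at hodd hne
  rcases j with _ | j
  · exact hne (pow_zero 2)
  · rw [pow_succ] at hodd
    exact (Nat.not_even_iff_odd.mpr hodd) (even_two.mul_left _)

theorem eq_top_of_sup_eq_top [Finite P] {N : Subgroup P} (hN : N ≤ frattini P) (H : Subgroup P)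
    (h : H ⊔ N = ⊤) : H = ⊤ := by
  apply frattini_nongenerating
  rw [eq_top_iff, ← h]
  exact sup_le_sup_left hN H

theorem not_isCyclic_quot [Finite P] {N : Subgroup P} [N.Normal] (hN : N ≤ frattini P)
    (hna : ¬ IsMulCommutative P) : ¬ IsCyclic (P ⧸ N) := by
  intro hc
  obtain ⟨g, hg⟩ := hc.exists_generator
  obtain ⟨g0, rfl⟩ := QuotientGroup.mk_surjective g
  have htop : Subgroup.zpowers g0 = ⊤ := by
    apply eq_top_of_sup_eq_top hN
    rw [eq_top_iff]
    intro u _
    obtain ⟨k, hk⟩ := Subgroup.mem_zpowers_iff.mp (hg (QuotientGroup.mk u))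
    rw [← QuotientGroup.mk_zpow] at hk
    have h1 : (g0 ^ k)⁻¹ * u ∈ N := QuotientGroup.eq.mp hk
    have h2 : u = g0 ^ k * ((g0 ^ k)⁻¹ * u) := by group
    rw [h2]
    exact Subgroup.mul_mem_sup (Subgroup.zpow_mem_zpowers g0 k) h1
  apply hna
  refine ⟨⟨fun a b => ?_⟩⟩
  have ha : a ∈ Subgroup.zpowers g0 := by rw [htop]; trivial
  have hb : b ∈ Subgroup.zpowers g0 := by rw [htop]; trivial
  obtain ⟨i, rfl⟩ := Subgroup.mem_zpowers_iff.mp ha
  obtain ⟨j, rfl⟩ := Subgroup.mem_zpowers_iff.mp hb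
  exact zpow_mul_comm g0 i j

theorem sq_mem_of_index_four {N : Subgroup P} [N.Normal] (h4 : N.index = 4)
    (hnc : ¬ IsCyclic (P ⧸ N)) (u : P) : u ^ 2 ∈ N := by
  have hcard : Nat.card (P ⧸ N) = 4 := by rw [← Subgroup.index_eq_card]; exact h4
  have : Finite (P ⧸ N) := Nat.finite_of_card_ne_zero (by rw [hcard]; norm_num)
  rw [← QuotientGroup.eq_one_iff, QuotientGroup.mk_pow]
  set q : P ⧸ N := QuotientGroup.mk u
  have hdvd : orderOf q ∣ 4 := hcard ▸ orderOf_dvd_natCard q
  have hne : orderOf q ≠ 4 := by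
    intro h
    exact hnc (isCyclic_of_orderOf_eq_card q (by rw [h, hcard]))
  have h2 : orderOf q ∣ 2 := by
    have : orderOf q ∈ Nat.divisors 4 := Nat.mem_divisors.mpr ⟨hdvd, by norm_num⟩
    have h4d : Nat.divisors 4 = {1, 2, 4} := by decide
    rw [h4d] at this
    simp only [Finset.mem_insert, Finset.mem_singleton] at this
    rcases this with h | h | h
    · rw [h]; norm_num
    · rw [h]
    · exact absurd h hne
  exact orderOf_dvd_iff_pow_eq_one.mp h2

theorem cosets_of_index_four {N : Subgroup P} [N.Normal] (h4 : N.index = 4)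
    (hsq : ∀ u : P, u ^ 2 ∈ N) (x y : P) (hx : x ∉ N) (hy : y ∉ N) (hxy : x⁻¹ * y ∉ N) (u : P) :
    u ∈ N ∨ x⁻¹ * u ∈ N ∨ y⁻¹ * u ∈ N ∨ (x * y)⁻¹ * u ∈ N := by
  classical
  have hcard : Nat.card (P ⧸ N) = 4 := by rw [← Subgroup.index_eq_card]; exact h4
  have : Finite (P ⧸ N) := Nat.finite_of_card_ne_zero (by rw [hcard]; norm_num)
  have : Fintype (P ⧸ N) := Fintype.ofFinite _
  set X : P ⧸ N := QuotientGroup.mk x with hX
  set Y : P ⧸ N := QuotientGroup.mk y with hY
  have hX1 : X ≠ 1 := fun h => hx ((QuotientGroup.eq_one_iff x).mp h)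
  have hY1 : Y ≠ 1 := fun h => hy ((QuotientGroup.eq_one_iff y).mp h)
  have hXY : X ≠ Y := fun h => hxy (QuotientGroup.eq.mp h)
  have hXX : X * X = 1 := by
    rw [hX, ← QuotientGroup.mk_mul, QuotientGroup.eq_one_iff, ← sq]; exact hsq x
  have hS : ({1, X, Y, X * Y} : Finset (P ⧸ N)) = Finset.univ := by
    apply Finset.eq_univ_of_card
    rw [← Nat.card_eq_fintype_card, hcard]
    have h1 : (1 : P ⧸ N) ∉ ({X, Y, X * Y} : Finset (P ⧸ N)) := by
      simp only [Finset.mem_insert, Finset.mem_singleton, not_or]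
      refine ⟨fun h => hX1 h.symm, fun h => hY1 h.symm, fun h => ?_⟩
      apply hXY
      calc X = X * (X * Y) := by rw [← h, mul_one]
        _ = (X * X) * Y := by group
        _ = Y := by rw [hXX, one_mul]
    have h2 : X ∉ ({Y, X * Y} : Finset (P ⧸ N)) := by
      simp only [Finset.mem_insert, Finset.mem_singleton, not_or]
      refine ⟨hXY, fun h => hY1 ?_⟩
      exact (mul_eq_left.mp h.symm)
    have h3 : Y ∉ ({X * Y} : Finset (P ⧸ N)) := by
      simp only [Finset.mem_singleton]
      intro h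
      exact hX1 (mul_eq_right.mp h.symm)
    rw [Finset.card_insert_of_notMem h1, Finset.card_insert_of_notMem h2,
      Finset.card_insert_of_notMem h3, Finset.card_singleton]
  have hu : (QuotientGroup.mk u : P ⧸ N) ∈ ({1, X, Y, X * Y} : Finset (P ⧸ N)) := by
    rw [hS]; exact Finset.mem_univ _
  simp only [Finset.mem_insert, Finset.mem_singleton] at hu
  rcases hu with h | h | h | h
  · left; exact (QuotientGroup.eq_one_iff u).mp h
  · right; left; exact QuotientGroup.eq.mp h.symm
  · right; right; left; exact QuotientGroup.eq.mp h.symm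
  · right; right; right
    rw [hX, hY, ← QuotientGroup.mk_mul] at h
    exact QuotientGroup.eq.mp h.symm

/-- third term of the lower central series -/
def gamma3 (P : Type*) [Group P] : Subgroup P := ⁅commutator P, (⊤ : Subgroup P)⁆

instance gamma3_normal : (gamma3 P).Normal := by
  unfold gamma3; infer_instance

instance gamma3_char : (gamma3 P).Characteristic := by
  unfold gamma3; infer_instance

theorem central_mod (d : P) (hd : d ∈ commutator P) (g : P) :
    (QuotientGroup.mk' (gamma3 P) d) * (QuotientGroup.mk' (gamma3 P) g) =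
      (QuotientGroup.mk' (gamma3 P) g) * (QuotientGroup.mk' (gamma3 P) d) := by
  have h : ⁅d, g⁆ ∈ gamma3 P := Subgroup.commutator_mem_commutator hd (Subgroup.mem_top g)
  rw [← QuotientGroup.eq_one_iff, ← QuotientGroup.mk'_apply, map_commutatorElement,
    commutatorElement_eq_one_iff_mul_comm] at h
  exact h

theorem commutator_le_sup (x y : P) (hgen : Subgroup.closure {x, y} = (⊤ : Subgroup P)) :
    commutator P ≤ Subgroup.zpowers ⁅x, y⁆ ⊔ gamma3 P := by
  set R := Subgroup.zpowers ⁅x, y⁆ ⊔ gamma3 P with hR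
  have hc : ⁅x, y⁆ ∈ commutator P :=
    Subgroup.commutator_mem_commutator (Subgroup.mem_top x) (Subgroup.mem_top y)
  have hRN : R ≤ commutator P := by
    rw [hR]
    apply sup_le
    · rw [Subgroup.zpowers_le]; exact hc
    · unfold gamma3
      exact Subgroup.commutator_le_left _ _
  have hRnormal : R.Normal := by
    constructor
    intro r hr g
    have h1 : ⁅g, r⁆ ∈ gamma3 P := by
      unfold gamma3
      rw [Subgroup.commutator_comm]
      exact Subgroup.commutator_mem_commutator (Subgroup.mem_top g) (hRN hr)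
    have h2 : g * r * g⁻¹ = ⁅g, r⁆ * r := by rw [commutatorElement_def]; group
    rw [h2]
    exact R.mul_mem (Subgroup.mem_sup_right h1) hr
  refine (Cfsg.Agent.Lib.Helper70_Regular.commutator_le_normalClosure x y hgen).trans ?_
  apply Subgroup.normalClosure_le_normal
  rw [Set.singleton_subset_iff]
  exact Subgroup.mem_sup_left (Subgroup.mem_zpowers _)

theorem comm_sq_identity {Q : Type*} [Group Q] (X Y : Q) :
    ⁅X ^ 2, Y⁆ = (X * ⁅X, Y⁆ * X⁻¹) * ⁅X, Y⁆ := by
  rw [commutatorElement_def, commutatorElement_def, sq]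
  group

theorem comm_sq (x y : P) (hx : x ^ 2 ∈ commutator P) :
    (QuotientGroup.mk' (gamma3 P) ⁅x, y⁆) ^ 2 = 1 := by
  set π := QuotientGroup.mk' (gamma3 P) with hπ
  have hc : ⁅x, y⁆ ∈ commutator P :=
    Subgroup.commutator_mem_commutator (Subgroup.mem_top x) (Subgroup.mem_top y)
  have h1 : π ⁅x ^ 2, y⁆ = 1 := by
    rw [hπ, QuotientGroup.mk'_apply, QuotientGroup.eq_one_iff]
    exact Subgroup.commutator_mem_commutator hx (Subgroup.mem_top y)
  have hC := central_mod ⁅x, y⁆ hc x
  rw [← hπ] at hC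
  have h2 : π ⁅x ^ 2, y⁆ = (π x * π ⁅x, y⁆ * (π x)⁻¹) * π ⁅x, y⁆ := by
    rw [map_commutatorElement, map_commutatorElement, map_pow]
    exact comm_sq_identity _ _
  rw [← hC, mul_inv_cancel_right] at h2
  rw [sq, ← h2, h1]

theorem mem_cases (x y : P) (hgen : Subgroup.closure {x, y} = (⊤ : Subgroup P))
    (hx : x ^ 2 ∈ commutator P) (d : P) (hd : d ∈ commutator P) :
    QuotientGroup.mk' (gamma3 P) d = 1 ∨
      QuotientGroup.mk' (gamma3 P) d = QuotientGroup.mk' (gamma3 P) ⁅x, y⁆ := by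
  have h1 := commutator_le_sup x y hgen hd
  obtain ⟨a, ha, b, hb, rfl⟩ := Subgroup.mem_sup_of_normal_right.mp h1
  obtain ⟨k, rfl⟩ := Subgroup.mem_zpowers_iff.mp ha
  have hb1 : QuotientGroup.mk' (gamma3 P) b = 1 := by
    rw [QuotientGroup.mk'_apply, QuotientGroup.eq_one_iff]; exact hb
  rw [map_mul, hb1, mul_one, map_zpow]
  have hsq := comm_sq x y hx
  rcases Int.even_or_odd' k with ⟨j, hj | hj⟩
  · left
    rw [hj, zpow_mul, zpow_two, ← sq, hsq, one_zpow]
  · right
    rw [hj, zpow_add, zpow_mul, zpow_two, ← sq, hsq, one_zpow, one_mul, zpow_one]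

theorem char_mem (H : Subgroup P) [hH : H.Characteristic] (α : MulAut P) (d : P) :
    α d ∈ H ↔ d ∈ H := by
  have h := hH.fixed α
  conv_rhs => rw [← h]
  rfl

theorem aut_mod (x y : P) (hgen : Subgroup.closure {x, y} = (⊤ : Subgroup P))
    (hx : x ^ 2 ∈ commutator P) (α : MulAut P) (d : P) (hd : d ∈ commutator P) :
    QuotientGroup.mk' (gamma3 P) (α d) = QuotientGroup.mk' (gamma3 P) d := by
  have hαd : α d ∈ commutator P := (char_mem (commutator P) α d).mpr hd
  have h1 : QuotientGroup.mk' (gamma3 P) (α d) = 1 ↔ QuotientGroup.mk' (gamma3 P) d = 1 := by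
    rw [QuotientGroup.mk'_apply, QuotientGroup.mk'_apply, QuotientGroup.eq_one_iff,
      QuotientGroup.eq_one_iff]
    exact char_mem (gamma3 P) α d
  rcases mem_cases x y hgen hx d hd with h | h
  · rw [h, h1.mpr h]
  · rcases mem_cases x y hgen hx (α d) hαd with h' | h'
    · rw [h', h1.mp h']
    · rw [h, h']

theorem squares_mod [Group.IsNilpotent P] (hna : ¬ IsMulCommutative P) (α : MulAut P) (x y z : P)
    (hy : y = α x) (hz : z = α y)
    (hgen : Subgroup.closure {x, y} = (⊤ : Subgroup P)) (hsq : ∀ u : P, u ^ 2 ∈ commutator P)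
    (hzN : (x * y)⁻¹ * z ∈ commutator P) :
    QuotientGroup.mk' (gamma3 P) (x ^ 2) = QuotientGroup.mk' (gamma3 P) ⁅x, y⁆ ∧
    QuotientGroup.mk' (gamma3 P) (y ^ 2) = QuotientGroup.mk' (gamma3 P) ⁅x, y⁆ ∧
    QuotientGroup.mk' (gamma3 P) ((x * y) ^ 2) = QuotientGroup.mk' (gamma3 P) ⁅x, y⁆ := by
  set π := QuotientGroup.mk' (gamma3 P) with hπ
  have hy2 : π (y ^ 2) = π (x ^ 2) := by
    rw [hy, ← map_pow]
    exact aut_mod x y hgen (hsq x) α _ (hsq x)
  have hz2 : π (z ^ 2) = π (y ^ 2) := by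
    rw [hz, ← map_pow]
    exact aut_mod x y hgen (hsq x) α _ (hsq y)
  have hC2 := comm_sq x y (hsq x)
  rw [← hπ] at hC2
  have hxy2 : π (z ^ 2) = π ((x * y) ^ 2) := by
    set d := (x * y)⁻¹ * z with hd
    have hzd : z = (x * y) * d := by rw [hd]; group
    have hcen := central_mod d hzN (x * y)
    rw [← hπ] at hcen
    have hd2 : π d ^ 2 = 1 := by
      rcases mem_cases x y hgen (hsq x) d hzN with h | h
      · rw [← hπ] at h; rw [h, one_pow]
      · rw [← hπ] at h; rw [h, hC2]
    rw [hzd, map_pow, map_pow, map_mul (f := π) (x * y) d]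
    rw [sq, sq] at *
    calc π (x * y) * π d * (π (x * y) * π d) = π (x * y) * (π d * π (x * y)) * π d := by group
      _ = π (x * y) * π (x * y) * (π d * π d) := by rw [hcen]; group
      _ = π (x * y) * π (x * y) := by rw [hd2, mul_one]
  -- now the case distinction
  rcases mem_cases x y hgen (hsq x) (x ^ 2) (hsq x) with h | h
  · exfalso
    rw [← hπ] at h
    have hX : π x * π x = 1 := by rw [← map_mul, ← sq]; exact h
    have hY : π y * π y = 1 := by rw [← map_mul, ← sq, hy2]; exact h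
    have hXY : π x * π y * (π x * π y) = 1 := by
      rw [← map_mul, ← map_mul, ← sq, ← hxy2, hz2, hy2]; exact h
    have hXi : (π x)⁻¹ = π x := inv_eq_of_mul_eq_one_right hX
    have hYi : (π y)⁻¹ = π y := inv_eq_of_mul_eq_one_right hY
    have hC : π ⁅x, y⁆ = 1 := by
      rw [map_commutatorElement, commutatorElement_def, hXi, hYi]
      rw [← hXY]; group
    have hcM : ⁅x, y⁆ ∈ gamma3 P := by
      rw [hπ, QuotientGroup.mk'_apply, QuotientGroup.eq_one_iff] at hC
      exact hC
    have hle : commutator P ≤ gamma3 P := by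
      refine (commutator_le_sup x y hgen).trans (sup_le ?_ le_rfl)
      rw [Subgroup.zpowers_le]; exact hcM
    have := eq_bot_of_le_commutator (commutator P) hle
    exact hna ((commutator_eq_bot_iff P).mp this)
  · rw [← hπ] at h
    refine ⟨h, hy2.trans h, ?_⟩
    rw [← hxy2, hz2, hy2]; exact h

/-- The preimage of the centre of the quotient by `L`. -/
def centerMod (L : Subgroup P) [L.Normal] : Subgroup P :=
  (Subgroup.center (P ⧸ L)).comap (QuotientGroup.mk' L)

theorem mem_centerMod (L : Subgroup P) [L.Normal] (u : P) :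
    u ∈ centerMod L ↔ ∀ g, ⁅u, g⁆ ∈ L := by
  unfold centerMod
  rw [Subgroup.mem_comap, Subgroup.mem_center_iff]
  constructor
  · intro h g
    rw [← QuotientGroup.eq_one_iff, ← QuotientGroup.mk'_apply, map_commutatorElement,
      commutatorElement_eq_one_iff_mul_comm]
    exact (h _).symm
  · intro h q
    obtain ⟨g, rfl⟩ := QuotientGroup.mk'_surjective L q
    have := h g
    rw [← QuotientGroup.eq_one_iff, ← QuotientGroup.mk'_apply, map_commutatorElement,
      commutatorElement_eq_one_iff_mul_comm] at this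
    exact this.symm

theorem comm_identity (s w x : P) (h : Commute s x) : ⁅s * w, x⁆ = s * ⁅w, x⁆ * s⁻¹ := by
  rw [commutatorElement_def, commutatorElement_def]
  have h1 : s⁻¹ * x⁻¹ = x⁻¹ * s⁻¹ := (h.inv_inv).eq
  calc s * w * x * (s * w)⁻¹ * x⁻¹ = s * w * x * w⁻¹ * (s⁻¹ * x⁻¹) := by group
    _ = s * (w * x * w⁻¹ * x⁻¹) * s⁻¹ := by rw [h1]; group

theorem comm_mem_of_sq (x y : P)
    (hx : QuotientGroup.mk' (gamma3 P) (x ^ 2) = QuotientGroup.mk' (gamma3 P) ⁅x, y⁆) :
    ⁅⁅x, y⁆, x⁆ ∈ ⁅gamma3 P, (⊤ : Subgroup P)⁆ := by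
  have hw : (x ^ 2)⁻¹ * ⁅x, y⁆ ∈ gamma3 P := QuotientGroup.eq.mp hx
  set w := (x ^ 2)⁻¹ * ⁅x, y⁆ with hw'
  have hc : ⁅x, y⁆ = x ^ 2 * w := by rw [hw']; group
  rw [hc, comm_identity (x ^ 2) w x ((Commute.refl x).pow_left 2)]
  have hLn : (⁅gamma3 P, (⊤ : Subgroup P)⁆).Normal := inferInstance
  exact hLn.conj_mem _ (Subgroup.commutator_mem_commutator hw (Subgroup.mem_top x)) _

theorem comm_mem_of_sq' (x y : P)
    (hy : QuotientGroup.mk' (gamma3 P) (y ^ 2) = QuotientGroup.mk' (gamma3 P) ⁅x, y⁆) :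
    ⁅⁅x, y⁆, y⁆ ∈ ⁅gamma3 P, (⊤ : Subgroup P)⁆ := by
  have hw : (y ^ 2)⁻¹ * ⁅x, y⁆ ∈ gamma3 P := QuotientGroup.eq.mp hy
  set w := (y ^ 2)⁻¹ * ⁅x, y⁆ with hw'
  have hc : ⁅x, y⁆ = y ^ 2 * w := by rw [hw']; group
  rw [hc, comm_identity (y ^ 2) w y ((Commute.refl y).pow_left 2)]
  have hLn : (⁅gamma3 P, (⊤ : Subgroup P)⁆).Normal := inferInstance
  exact hLn.conj_mem _ (Subgroup.commutator_mem_commutator hw (Subgroup.mem_top y)) _

theorem gamma3_le (x y : P) (hgen : Subgroup.closure {x, y} = (⊤ : Subgroup P))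
    (hx : QuotientGroup.mk' (gamma3 P) (x ^ 2) = QuotientGroup.mk' (gamma3 P) ⁅x, y⁆)
    (hy : QuotientGroup.mk' (gamma3 P) (y ^ 2) = QuotientGroup.mk' (gamma3 P) ⁅x, y⁆) :
    gamma3 P ≤ ⁅gamma3 P, (⊤ : Subgroup P)⁆ := by
  set L := ⁅gamma3 P, (⊤ : Subgroup P)⁆ with hL
  have hcent : centMod L ⁅x, y⁆ = ⊤ := by
    rw [eq_top_iff]
    refine hgen.symm.le.trans ?_
    rw [Subgroup.closure_le]
    intro g hg
    rw [Set.mem_insert_iff, Set.mem_singleton_iff] at hg
    rcases hg with h | h
    · rw [h]; exact (mem_centMod L _ _).mpr (comm_mem_of_sq x y hx)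
    · rw [h]; exact (mem_centMod L _ _).mpr (comm_mem_of_sq' x y hy)
  have hcZ : ⁅x, y⁆ ∈ centerMod L := by
    rw [mem_centerMod]
    intro g
    rw [← mem_centMod, hcent]; trivial
  have hMZ : gamma3 P ≤ centerMod L := by
    intro b hb
    rw [mem_centerMod]
    intro g
    exact Subgroup.commutator_mem_commutator hb (Subgroup.mem_top g)
  have hNZ : commutator P ≤ centerMod L := by
    refine (commutator_le_sup x y hgen).trans (sup_le ?_ hMZ)
    rw [Subgroup.zpowers_le]; exact hcZ
  conv_lhs => unfold gamma3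
  rw [Subgroup.commutator_le]
  intro d hd g _
  exact (mem_centerMod L d).mp (hNZ hd) g

/-- Recognition of the quaternion group of order 8. -/
theorem quaternion_iso [Finite P] (x y : P) (hgen : Subgroup.closure {x, y} = (⊤ : Subgroup P))
    (hx4 : x ^ 4 = 1) (hy : y ^ 2 = x ^ 2) (hyx : y * x * y⁻¹ = x⁻¹)
    (hcard : Nat.card P = 8) : Nonempty (P ≃* QuaternionGroup 2) := by
  classical
  let e : ZMod (2 * 2) → P := fun i => x ^ i.val
  have he_add : ∀ i j, e (i + j) = e i * e j := by
    intro i j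
    show x ^ (i + j).val = x ^ i.val * x ^ j.val
    rw [ZMod.val_add, ← pow_add]
    exact (pow_eq_pow_mod _ hx4).symm
  have he_zero : e 0 = 1 := by
    show x ^ (0 : ZMod (2 * 2)).val = 1
    rw [ZMod.val_zero, pow_zero]
  have he_neg : ∀ i, e (-i) = (e i)⁻¹ := by
    intro i
    rw [eq_inv_iff_mul_eq_one, ← he_add, neg_add_cancel, he_zero]
  have he_sub : ∀ i j, e (i - j) = e i * (e j)⁻¹ := by
    intro i j
    rw [sub_eq_add_neg, he_add, he_neg]
  have he_two : e ((2 : ℕ) : ZMod (2 * 2)) = x ^ 2 := by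
    show x ^ (((2 : ℕ) : ZMod (2 * 2))).val = x ^ 2
    rfl
  have hcomm : ∀ i j, Commute (e i) (e j) := fun i j => (Commute.refl x).pow_pow _ _
  have hcomm2 : ∀ i, Commute (x ^ 2) (e i) := fun i => (Commute.refl x).pow_pow _ _
  have hconj : ∀ i, y * e i * y⁻¹ = (e i)⁻¹ := by
    intro i
    show y * x ^ i.val * y⁻¹ = (x ^ i.val)⁻¹
    rw [← conj_pow, hyx, inv_pow]
  let f : QuaternionGroup 2 → P := fun g =>
    match g with
    | QuaternionGroup.a i => e i
    | QuaternionGroup.xa i => y * e i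
  have hf_mul : ∀ g h, f (g * h) = f g * f h := by
    rintro (i | i) (j | j)
    · show e (i + j) = e i * e j
      exact he_add i j
    · show y * e (j - i) = e i * (y * e j)
      rw [he_sub]
      have h1 : y * (e i)⁻¹ = e i * y := by
        have h0 : y * (e i)⁻¹ * y⁻¹ = e i := by
          have h00 : y * (e i)⁻¹ * y⁻¹ = (y * e i * y⁻¹)⁻¹ := by group
          rw [h00, hconj i, inv_inv]
        calc y * (e i)⁻¹ = (y * (e i)⁻¹ * y⁻¹) * y := by group
          _ = e i * y := by rw [h0]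
      calc y * (e j * (e i)⁻¹) = y * ((e i)⁻¹ * e j) := by rw [((hcomm i j).inv_left).eq]
        _ = (y * (e i)⁻¹) * e j := by group
        _ = e i * (y * e j) := by rw [h1]; group
    · show y * e (i + j) = y * e i * e j
      rw [he_add, mul_assoc]
    · show e (((2 : ℕ) : ZMod (2 * 2)) + j - i) = y * e i * (y * e j)
      rw [he_sub, he_add, he_two]
      have h1 : y * e i * y = (e i)⁻¹ * x ^ 2 := by
        have := hconj i
        calc y * e i * y = (y * e i * y⁻¹) * y ^ 2 := by group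
          _ = (e i)⁻¹ * x ^ 2 := by rw [this, hy]
      calc x ^ 2 * e j * (e i)⁻¹ = (e i)⁻¹ * (x ^ 2 * e j) :=
            ((((hcomm2 i).mul_left (hcomm j i)).inv_right).eq).symm ▸ rfl
        _ = ((e i)⁻¹ * x ^ 2) * e j := by group
        _ = y * e i * (y * e j) := by rw [← h1]; group
  let F : QuaternionGroup 2 →* P := MonoidHom.mk' f hf_mul
  have hsurj : Function.Surjective F := by
    rw [← MonoidHom.range_eq_top, eq_top_iff, ← hgen, Subgroup.closure_le]
    intro g hg
    rw [Set.mem_insert_iff, Set.mem_singleton_iff] at hg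
    rcases hg with h | h
    · refine ⟨QuaternionGroup.a 1, ?_⟩
      show x ^ (1 : ZMod (2 * 2)).val = g
      have : (1 : ZMod (2 * 2)).val = 1 := rfl
      rw [this, pow_one, h]
    · refine ⟨QuaternionGroup.xa 0, ?_⟩
      show y * e 0 = g
      rw [he_zero, mul_one, h]
  have hbij : Function.Bijective F := by
    apply Function.Surjective.bijective_of_nat_card_le hsurj
    rw [hcard, Nat.card_eq_fintype_card, QuaternionGroup.card]
  exact ⟨(MulEquiv.ofBijective F hbij).symm⟩


/-- the automorphisms fixing the coset `x N` of a characteristic subgroup `N` -/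
def cosetStab (N : Subgroup P) [N.Characteristic] (x : P) : Subgroup (MulAut P) where
  carrier := {γ | x⁻¹ * γ x ∈ N}
  one_mem' := by simp
  mul_mem' := by
    intro γ δ hγ hδ
    have h1 : γ (x⁻¹ * δ x) ∈ N := (char_mem N γ _).mpr hδ
    have h2 : x⁻¹ * (γ * δ) x = (x⁻¹ * γ x) * γ (x⁻¹ * δ x) := by
      rw [MulAut.mul_apply, map_mul, map_inv]; group
    show x⁻¹ * (γ * δ) x ∈ N
    rw [h2]
    exact N.mul_mem hγ h1
  inv_mem' := by
    intro γ hγ
    show x⁻¹ * γ⁻¹ x ∈ N
    rw [← char_mem N γ, map_mul, map_inv, MulAut.apply_inv_self]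
    have := N.inv_mem hγ
    rwa [mul_inv_rev, inv_inv] at this

theorem closure_pair_eq_top [Finite P] {N : Subgroup P} [N.Normal] (hN : N ≤ frattini P)
    (x y : P) (hcos : ∀ u : P, u ∈ N ∨ x⁻¹ * u ∈ N ∨ y⁻¹ * u ∈ N ∨ (x * y)⁻¹ * u ∈ N) :
    Subgroup.closure {x, y} = (⊤ : Subgroup P) := by
  apply eq_top_of_sup_eq_top hN
  rw [eq_top_iff]
  intro u _
  have hx : x ∈ Subgroup.closure ({x, y} : Set P) := Subgroup.subset_closure (by simp)
  have hy : y ∈ Subgroup.closure ({x, y} : Set P) := Subgroup.subset_closure (by simp)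
  rcases hcos u with h | h | h | h
  · exact Subgroup.mem_sup_right h
  · have : u = x * (x⁻¹ * u) := by group
    rw [this]; exact Subgroup.mul_mem_sup hx h
  · have : u = y * (y⁻¹ * u) := by group
    rw [this]; exact Subgroup.mul_mem_sup hy h
  · have : u = (x * y) * ((x * y)⁻¹ * u) := by group
    rw [this]; exact Subgroup.mul_mem_sup (Subgroup.mul_mem _ hx hy) h

theorem eq_of_mk_eq {M : Subgroup P} [M.Normal] (hM : M = ⊥) {u v : P}
    (h : QuotientGroup.mk' M u = QuotientGroup.mk' M v) : u = v := by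
  have h1 : u⁻¹ * v ∈ M := QuotientGroup.eq.mp h
  rw [hM, Subgroup.mem_bot, inv_mul_eq_one] at h1
  exact h1

/-- Let P be a finite non-abelian 2-group whose commutator subgroup has index 4 and whose automorphism group is not a 2-group (some automorphism has order that is not a power of 2). Then P is isomorphic to the quaternion group of order 8. -/
theorem result {P : Type*} [Group P] [Finite P] (hP : IsPGroup 2 P) (hna : ¬ IsMulCommutative P) (h4 : (commutator P).index = 4) (haut : ¬ IsPGroup 2 (MulAut P)) : Nonempty (P ≃* QuaternionGroup 2) := by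
  classical
  have : Fact (Nat.Prime 2) := ⟨Nat.prime_two⟩
  have hnil : Group.IsNilpotent P := hP.isNilpotent
  have hNΦ : commutator P ≤ frattini P :=
    Cfsg.Agent.Lib.Helper1_Frattini.commutator_le_frattini_of_isPGroup hP
  have hNnormal : (commutator P).Normal := inferInstance
  have hnc : ¬ IsCyclic (P ⧸ commutator P) := not_isCyclic_quot hNΦ hna
  have hsq : ∀ u : P, u ^ 2 ∈ commutator P := sq_mem_of_index_four h4 hnc
  obtain ⟨α, hodd, hne⟩ := exists_odd_aut haut
  have hαK := not_mem_fratKer hP α hodd hne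
  have hex : ∃ x, α x * x⁻¹ ∉ frattini P := by
    by_contra h
    push Not at h
    exact hαK h
  obtain ⟨x, hx⟩ := hex
  have hxN' : α x * x⁻¹ ∉ commutator P := fun h => hx (hNΦ h)
  have hxN : x ∉ commutator P := by
    intro h
    apply hxN'
    exact Subgroup.mul_mem _ ((char_mem _ α x).mpr h) (Subgroup.inv_mem _ h)
  have hyN : α x ∉ commutator P := fun h => hxN ((char_mem _ α x).mp h)
  have hxyN : x⁻¹ * α x ∉ commutator P := by
    intro h
    apply hxN'
    have h1 := hNnormal.conj_mem _ h x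
    have h2 : x * (x⁻¹ * α x) * x⁻¹ = α x * x⁻¹ := by group
    rwa [h2] at h1
  have hcos := cosets_of_index_four h4 hsq x (α x) hxN hyN hxyN
  have hgen : Subgroup.closure {x, α x} = (⊤ : Subgroup P) := closure_pair_eq_top hNΦ x (α x) hcos
  have hzN : (x * α x)⁻¹ * α (α x) ∈ commutator P := by
    rcases hcos (α (α x)) with h | h | h | h
    · exfalso; exact hyN ((char_mem _ α (α x)).mp h)
    · exfalso
      -- the automorphism would swap two cosets, impossible as its order is odd
      have h2 : α * α ∈ cosetStab (commutator P) x := h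
      obtain ⟨k, hk⟩ := hodd
      have h3 : (α * α) ^ (k + 1) ∈ cosetStab (commutator P) x := Subgroup.pow_mem _ h2 _
      have h4 : (α * α) ^ (k + 1) = α := by
        rw [← sq, ← pow_mul]
        have : 2 * (k + 1) = orderOf α + 1 := by omega
        rw [this, pow_succ, pow_orderOf_eq_one, one_mul]
      rw [h4] at h3
      exact hxyN h3
    · exfalso
      apply hxyN
      rw [← char_mem _ α, map_mul, map_inv]; exact h
    · exact h
  obtain ⟨h1, h2, h3⟩ := squares_mod hna α x (α x) (α (α x)) rfl rfl hgen hsq hzN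
  have hML := gamma3_le x (α x) hgen h1 h2
  have hM : gamma3 P = ⊥ := eq_bot_of_le_commutator _ hML
  set y := α x with hy
  set c := ⁅x, y⁆ with hc
  have e1 : x ^ 2 = c := eq_of_mk_eq hM h1
  have e2 : y ^ 2 = c := eq_of_mk_eq hM h2
  have e3 : (x * y) ^ 2 = c := eq_of_mk_eq hM h3
  have e4 : c ^ 2 = 1 := by
    apply eq_of_mk_eq hM
    rw [map_pow, map_one]
    exact comm_sq x y (hsq x)
  have hNle : commutator P ≤ Subgroup.zpowers c := by
    have := commutator_le_sup x y hgen
    rwa [hM, sup_bot_eq] at this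
  have hc1 : c ≠ 1 := by
    intro h
    apply hna
    rw [← commutator_eq_bot_iff, eq_bot_iff]
    refine hNle.trans ?_
    rw [h, Subgroup.zpowers_one_eq_bot]
  have hNeq : commutator P = Subgroup.zpowers c := by
    apply le_antisymm hNle
    rw [Subgroup.zpowers_le]
    exact Subgroup.commutator_mem_commutator (Subgroup.mem_top x) (Subgroup.mem_top y)
  have hcardN : Nat.card (commutator P) = 2 := by
    rw [hNeq, Nat.card_zpowers]
    exact orderOf_eq_prime e4 hc1
  have hcard : Nat.card P = 8 := by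
    rw [← Subgroup.card_mul_index (commutator P), hcardN, h4]
  have hx4 : x ^ 4 = 1 := by
    have : x ^ 4 = (x ^ 2) ^ 2 := by rw [← pow_mul]
    rw [this, e1, e4]
  have hy2 : y ^ 2 = x ^ 2 := by rw [e1, e2]
  have hyx : y * x * y⁻¹ = x⁻¹ := by
    have h5 : (x * y) * (x * y) = x * x := by rw [← sq, ← sq, e3, e1]
    have h6 : y * (x * y) = x := by
      have : x * (y * (x * y)) = x * x := by rw [← h5]; group
      exact mul_left_cancel this
    have h7 : y * y = x * x := by rw [← sq, ← sq]; exact hy2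
    calc y * x * y⁻¹ = (y * (x * y)) * (y * y)⁻¹ := by group
      _ = x * (x * x)⁻¹ := by rw [h6, h7]
      _ = x⁻¹ := by group
  exact quaternion_iso x y hgen hx4 hy2 hyx hcard

end Cfsg.Agent.S4189
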