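import Cfsg.Statements.S0261
import Cfsg.Agent.Lib.Helper50_UniqueInv2
import Cfsg.Agent.Lib.Helper41_SL2
import Cfsg.Agent.Lib.Helper41_SL2Order4
import Cfsg.Agent.Lib.Helper5_PSLCard

set_option autoImplicit false
open Cfsg

namespace Cfsg.Agent.S0261

open Cfsg.Agent.Lib.Helper41_SL2 Cfsg.Agent.Lib.Helper41_SL2Order4

theorem val2_aux (q : ℕ) (hq : Odd q) (hq3 : 3 ≤ q) :
    (q * (q ^ 2 - 1)).factorization 2 = (q - 1).factorization 2 + (q + 1).factorization 2 ∧
    1 ≤ (q - 1).factorization 2 ∧ 1 ≤ (q + 1).factorization 2 := by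
  have hfac : q ^ 2 - 1 = (q - 1) * (q + 1) := by
    obtain ⟨k, rfl⟩ : ∃ k, q = k + 1 := ⟨q - 1, by omega⟩
    have e : (k + 1) ^ 2 = (k + 1 - 1) * (k + 1 + 1) + 1 := by
      simp only [Nat.add_sub_cancel]
      ring
    rw [e, Nat.add_sub_cancel]
  have h0 : q ≠ 0 := by omega
  have h1 : q - 1 ≠ 0 := by omega
  have h2 : q + 1 ≠ 0 := by omega
  have hq2 : ¬ 2 ∣ q := by
    rcases hq with ⟨k, hk⟩; omega
  refine ⟨?_, ?_, ?_⟩
  · rw [hfac, Nat.factorization_mul h0 (Nat.mul_ne_zero h1 h2), Nat.factorization_mul h1 h2]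
    simp only [Finsupp.coe_add, Pi.add_apply]
    rw [Nat.factorization_eq_zero_of_not_dvd hq2]
    omega
  · apply (Nat.prime_two.dvd_iff_one_le_factorization h1).1
    rcases hq with ⟨k, hk⟩; omega
  · apply (Nat.prime_two.dvd_iff_one_le_factorization h2).1
    rcases hq with ⟨k, hk⟩; omega

theorem val2_not_dvd (q : ℕ) (hq : Odd q) (hq3 : 3 ≤ q) :
    ¬ 2 ^ ((q * (q ^ 2 - 1)).factorization 2) ∣ q - 1 ∧
    ¬ 2 ^ ((q * (q ^ 2 - 1)).factorization 2) ∣ q + 1 ∧
    4 ∣ 2 ^ ((q * (q ^ 2 - 1)).factorization 2) := by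
  obtain ⟨hv, h1, h2⟩ := val2_aux q hq hq3
  have hn1 : q - 1 ≠ 0 := by omega
  have hn2 : q + 1 ≠ 0 := by omega
  refine ⟨?_, ?_, ?_⟩
  · rw [Nat.prime_two.pow_dvd_iff_le_factorization hn1]; omega
  · rw [Nat.prime_two.pow_dvd_iff_le_factorization hn2]; omega
  · have : (4 : ℕ) = 2 ^ 2 := by norm_num
    rw [this]
    exact pow_dvd_pow 2 (by omega)

variable {F : Type*} [Field F]

abbrev SL2 (F : Type*) [Field F] := Matrix.SpecialLinearGroup (Fin 2) F

theorem two_ne_zero_of_odd [Fintype F] (hodd : Odd (Fintype.card F)) : (2 : F) ≠ 0 := by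
  apply Ring.two_ne_zero
  intro h
  have := FiniteField.even_card_iff_char_two.1 h
  rcases hodd with ⟨k, hk⟩
  omega

/-- If the image of `x` in `PSL₂` has `n`-th power one then `x ^ (2n) = 1`. -/
theorem pow_two_mul_eq_one (x : SL2 F) (n : ℕ)
    (h : (QuotientGroup.mk x : Matrix.ProjectiveSpecialLinearGroup (Fin 2) F) ^ n = 1) :
    x ^ (2 * n) = 1 := by
  rw [← QuotientGroup.mk_pow, QuotientGroup.eq_one_iff] at h
  obtain ⟨c, hc2, hc⟩ := scalar_of_mem_center _ h
  rw [mul_comm, pow_mul, pow_two]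
  apply Subtype.ext
  rw [Matrix.SpecialLinearGroup.coe_mul, hc, Matrix.smul_mul, Matrix.mul_smul, Matrix.mul_one,
    smul_smul, ← sq, hc2, one_smul, Matrix.SpecialLinearGroup.coe_one]

/-- Element orders in `SL₂(q)`, `q` odd: they divide `2p`, `q - 1` or `q + 1`. -/
theorem orderOf_dvd_cases [Fintype F] (hodd : Odd (Fintype.card F)) (p : ℕ) [Fact p.Prime]
    [CharP F p] (x : SL2 F) :
    orderOf x ∣ 2 * p ∨ orderOf x ∣ Fintype.card F - 1 ∨ orderOf x ∣ Fintype.card F + 1 := by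
  have hq : 2 ≤ Fintype.card F := Fintype.one_lt_card
  have hg : Nat.gcd 2 (Fintype.card F - 1) = 2 := by
    apply Nat.gcd_eq_left
    rcases hodd with ⟨k, hk⟩; omega
  rcases psl2_pow_cases p x with h | h | h
  · left
    exact orderOf_dvd_of_pow_eq_one (pow_two_mul_eq_one x _ h)
  · right; left
    rw [hg] at h
    have := orderOf_dvd_of_pow_eq_one (pow_two_mul_eq_one x _ h)
    rwa [Nat.mul_div_cancel' (by rcases hodd with ⟨k, hk⟩; omega)] at this
  · right; right
    rw [hg] at h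
    have := orderOf_dvd_of_pow_eq_one (pow_two_mul_eq_one x _ h)
    rwa [Nat.mul_div_cancel' (by rcases hodd with ⟨k, hk⟩; omega)] at this

theorem uniqueInvolution [Fintype F] (hodd : Odd (Fintype.card F))
    (P : Subgroup (SL2 F)) : Cfsg.Agent.Lib.Helper50_UniqueInv.UniqueInvolution P := by
  have h2 := two_ne_zero_of_odd hodd
  have key : ∀ u : P, u ^ 2 = 1 → u ≠ 1 →
      ((u : SL2 F) : Matrix (Fin 2) (Fin 2) F) = -1 := by
    intro u hu hu1
    have h1 : (u : SL2 F) * (u : SL2 F) = 1 := by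
      have := congrArg (fun y : P => (y : SL2 F)) hu
      simpa [pow_two] using this
    rcases coe_eq_one_or_neg_one_of_mul_self h2 _ h1 with h | h
    · exfalso
      apply hu1
      apply Subtype.ext
      apply Subtype.ext
      rw [h]; rfl
    · exact h
  intro u v hu hv hu1 hv1
  apply Subtype.ext
  apply Subtype.ext
  rw [key u hu hu1, key v hv hv1]

/-- Sylow `2`-subgroups of `SL₂(q)`, `q` odd, are not cyclic. -/
theorem not_isCyclic [Fintype F] (hodd : Odd (Fintype.card F)) (P : Sylow 2 (SL2 F)) :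
    ¬ IsCyclic P := by
  intro hcyc
  have hq3 : 3 ≤ Fintype.card F := by
    have hq : 2 ≤ Fintype.card F := Fintype.one_lt_card
    rcases hodd with ⟨k, hk⟩; omega
  obtain ⟨p, hp⟩ := CharP.exists F
  have hpp : Fact p.Prime := ⟨CharP.char_is_prime F p⟩
  have hp2 : p ≠ 2 := by
    rintro rfl
    exact two_ne_zero_of_odd hodd (CharTwo.two_eq_zero)
  obtain ⟨g, hg⟩ := IsCyclic.exists_ofOrder_eq_natCard (α := P)
  have hcard : Nat.card P = 2 ^ (Fintype.card F * (Fintype.card F ^ 2 - 1)).factorization 2 := by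
    rw [Sylow.card_eq_multiplicity, Cfsg.Agent.Lib.Helper5_PSLCard.card_SL_two]
  rw [hcard, ← Subgroup.orderOf_coe] at hg
  obtain ⟨hn1, hn2, h4⟩ := val2_not_dvd (Fintype.card F) hodd hq3
  rcases orderOf_dvd_cases hodd p (g : SL2 F) with h | h | h
  · rw [hg] at h
    have h1 : 4 ∣ 2 * p := dvd_trans h4 h
    have h2 : 2 ∣ p := by omega
    exact hp2 ((Nat.prime_dvd_prime_iff_eq Nat.prime_two hpp.out).1 h2).symm
  · rw [hg] at h; exact hn1 h
  · rw [hg] at h; exact hn2 h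

/-- For q odd, the Sylow 2-subgroups of SL_2(q) are generalised quaternion. -/
theorem result {F : Type*} [Field F] [Fintype F] (hF : Odd (Fintype.card F)) (P : Sylow 2 (Matrix.SpecialLinearGroup (Fin 2) F)) : ∃ k : ℕ, 1 ≤ k ∧ Nonempty ((P : Subgroup (Matrix.SpecialLinearGroup (Fin 2) F)) ≃* QuaternionGroup (2 ^ k)) := by
  rcases Cfsg.Agent.Lib.Helper50_UniqueInv2.isCyclic_or_quaternion P.isPGroup'
    (uniqueInvolution hF P) with h | h
  · exact absurd h (not_isCyclic hF P)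
  · exact h

end Cfsg.Agent.S0261
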