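import Cfsg.Statements.S0080
import Mathlib.GroupTheory.Focal

set_option autoImplicit false
open Cfsg

namespace Cfsg.Agent.S0080

open Subgroup

open scoped IsMulCommutative in
theorem commutator_le_ker_transferFocal {G : Type*} [Group G] [Finite G] (H : Subgroup G) :
    commutator G ≤ H.transferFocal.ker :=
  Abelianization.commutator_subset_ker H.transferFocal

/-- When the index of H is prime to the order of H/H', the focal subgroup of H is G' ∩ H, and H/(G' ∩ H) has a normal complement. -/
theorem result {G : Type*} [Group G] [Finite G] (H : Subgroup G) (h : Nat.Coprime H.index (⁅H, H⁆.relIndex H)) : Subgroup.focalSubgroup H = commutator G ⊓ H ∧ ∃ N : Subgroup G, N.Normal ∧ N ⊓ H = commutator G ⊓ H ∧ N ⊔ H = ⊤ := by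
  -- the order of `H / H*` is prime to the index of `H`
  have hcard : Nat.card (H ⧸ H.focalSubgroupOf) = (H.focalSubgroup).relIndex H := rfl
  have hdvd : (H.focalSubgroup).relIndex H ∣ ⁅H, H⁆.relIndex H :=
    relIndex_dvd_of_le_left H H.commutator_le_focalSubgroup
  have hcop : (Nat.card (H ⧸ H.focalSubgroupOf)).Coprime H.index := by
    rw [hcard]
    exact (Nat.Coprime.coprime_dvd_right hdvd h).symm
  have hbij : Function.Bijective (fun y : H ⧸ H.focalSubgroupOf => y ^ H.index) :=
    (powCoprime hcop).bijective
  -- the transfer restricted to `H`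
  have hV : ∀ x : H, H.transferFocal (x : G) = (x : H ⧸ H.focalSubgroupOf) ^ H.index :=
    H.transferFocal_eq_pow
  have hsurj : ∀ y : H ⧸ H.focalSubgroupOf, ∃ x : H, H.transferFocal (x : G) = y := by
    intro y
    obtain ⟨z, rfl⟩ := hbij.2 y
    obtain ⟨x, rfl⟩ := QuotientGroup.mk_surjective z
    exact ⟨x, hV x⟩
  have hker : H.transferFocal.ker ⊓ H = H.focalSubgroup := by
    ext x
    constructor
    · rintro ⟨hx1, hx2⟩
      have h1 : H.transferFocal x = 1 := hx1
      have h2 := hV ⟨x, hx2⟩
      rw [h2] at h1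
      have h3 : ((⟨x, hx2⟩ : H) : H ⧸ H.focalSubgroupOf) = 1 := by
        apply hbij.1
        simpa using h1
      rw [QuotientGroup.eq_one_iff] at h3
      exact h3
    · intro hx
      have hxH : x ∈ H := H.focalSubgroup_le hx
      refine ⟨?_, hxH⟩
      show H.transferFocal x = 1
      have h2 := hV ⟨x, hxH⟩
      have h3 : ((⟨x, hxH⟩ : H) : H ⧸ H.focalSubgroupOf) = 1 := by
        rw [QuotientGroup.eq_one_iff]
        exact hx
      rw [h3, one_pow] at h2
      exact h2
  have hle : commutator G ≤ H.transferFocal.ker := commutator_le_ker_transferFocal H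
  have hfoc : Subgroup.focalSubgroup H = commutator G ⊓ H := by
    apply le_antisymm
    · exact le_inf H.focalSubgroup_le_commutator H.focalSubgroup_le
    · rw [← hker]
      exact inf_le_inf_right _ hle
  refine ⟨hfoc, H.transferFocal.ker, inferInstance, by rw [hker, hfoc], ?_⟩
  rw [eq_top_iff]
  intro g _
  obtain ⟨x, hx⟩ := hsurj (H.transferFocal g)
  have h1 : g * (x : G)⁻¹ ∈ H.transferFocal.ker := by
    rw [MonoidHom.mem_ker, map_mul, map_inv, hx, mul_inv_cancel]
  have : g = (g * (x : G)⁻¹) * x := by simp
  rw [this]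
  exact mul_mem (mem_sup_left h1) (mem_sup_right x.2)

end Cfsg.Agent.S0080
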