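import Cfsg.Statements.S2336
import Cfsg.Agent.Lib.Helper81_Transvection
import Cfsg.Agent.Lib.Helper81_ScalarOrbitals
import Cfsg.Agent.Lib.Helper81_Rank
import Cfsg.Agent.Lib.Helper81_Centralizer
import Cfsg.Agent.Lib.Helper81_PermChar
import Cfsg.Agent.Lib.Helper75_CharArith
import Cfsg.Agent.Lib.Helper80_CharBasic
import Cfsg.Agent.Lib.Helper3_CharBridge
import Cfsg.Agent.Lib.Helper3_CharOrtho
import Cfsg.Agent.Lib.Helper3_CharComplete

set_option autoImplicit false
open Cfsg

namespace Cfsg.Agent.S2336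


open scoped ComplexConjugate
open MulAction Module Submodule
open Cfsg.Agent.Lib.Helper81_Transvection Cfsg.Agent.Lib.Helper81_ScalarOrbitals
  Cfsg.Agent.Lib.Helper81_Rank Cfsg.Agent.Lib.Helper81_Centralizer
  Cfsg.Agent.Lib.Helper81_PermChar
  Cfsg.Agent.Lib.Helper3_CharBridge Cfsg.Agent.Lib.Helper3_CharOrtho
  Cfsg.Agent.Lib.Helper3_CharComplete Cfsg.Agent.Lib.Helper75_CharArith
  Cfsg.Agent.Lib.Helper80_CharBasic

/-! ### A multiplicity-free character as a sum of distinct irreducibles -/

section Assembly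

variable {G : Type*} [Group G] [Fintype G]

theorem multFree_decomp {π : G → ℂ} (hπ : Cfsg.IsCharacter G π)
    (h1 : Cfsg.classInner π (fun _ => 1) = 1)
    (hmf : ∀ χ : G → ℂ, Cfsg.IsIrrCharacter G χ →
      Cfsg.classInner π χ = 0 ∨ Cfsg.classInner π χ = 1)
    (r : ℕ) (hr : Cfsg.classInner π π = ((r + 1 : ℕ) : ℂ)) :
    ∃ χ : Fin r → (G → ℂ), (∀ i, Cfsg.IsIrrCharacter G (χ i)) ∧ Function.Injective χ ∧
      ∀ g, π g = 1 + ∑ i, χ i g := by
  classical
  obtain ⟨m, hm, hsum⟩ := exists_multiplicities hπ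
  have hm01 : ∀ χ : Cfsg.IrrCharacter G, m χ = 0 ∨ m χ = 1 := by
    intro χ
    rcases hmf χ.1 χ.2 with h | h
    · left
      have := hm χ
      rw [h] at this
      exact_mod_cast this.symm
    · right
      have := hm χ
      rw [h] at this
      exact_mod_cast this.symm
  have hmone : m (oneIrr G) = 1 := by
    have := hm (oneIrr G)
    have h2 : Cfsg.classInner π ((oneIrr G : Cfsg.IrrCharacter G) : G → ℂ) = 1 := h1
    rw [h2] at this
    exact_mod_cast this.symm
  set T : Finset (Cfsg.IrrCharacter G) :=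
    Finset.univ.filter (fun χ => m χ = 1 ∧ χ ≠ oneIrr G) with hT
  -- the sum of `m`
  have hsq : ∀ χ : Cfsg.IrrCharacter G, m χ ^ 2 = m χ := by
    intro χ
    rcases hm01 χ with h | h <;> rw [h] <;> norm_num
  have hsum_m : ∑ χ : Cfsg.IrrCharacter G, m χ = r + 1 := by
    have h := classInner_self_eq_sum (isClassFunction_of_isCharacter hπ)
    rw [hr] at h
    simp only [hm, Complex.conj_natCast] at h
    have h2 : ((r + 1 : ℕ) : ℂ) = ((∑ χ : Cfsg.IrrCharacter G, m χ : ℕ) : ℂ) := by
      rw [h]; push_cast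
      refine Finset.sum_congr rfl fun χ _ => ?_
      have := hsq χ
      rw [← sq]
      exact_mod_cast this
    exact_mod_cast h2.symm
  have hm_ind : ∀ χ : Cfsg.IrrCharacter G, m χ = if m χ = 1 then 1 else 0 := by
    intro χ
    rcases hm01 χ with h | h <;> simp [h]
  have hcardT : T.card = r := by
    have h3 : ∑ χ : Cfsg.IrrCharacter G, m χ =
        (Finset.univ.filter (fun χ : Cfsg.IrrCharacter G => m χ = 1)).card := by
      rw [Finset.card_filter]
      exact Finset.sum_congr rfl fun χ _ => hm_ind χ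
    have h4 : Finset.univ.filter (fun χ : Cfsg.IrrCharacter G => m χ = 1) =
        insert (oneIrr G) T := by
      ext χ
      simp only [Finset.mem_filter, Finset.mem_univ, true_and, Finset.mem_insert, hT]
      constructor
      · intro h
        by_cases hχ : χ = oneIrr G
        · left; exact hχ
        · right; exact ⟨h, hχ⟩
      · rintro (h | h)
        · rw [h]; exact hmone
        · exact h.1
    have h5 : oneIrr G ∉ T := by
      simp [hT]
    rw [h4, Finset.card_insert_of_notMem h5] at h3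
    omega
  let e : T ≃ Fin r := Finset.equivFinOfCardEq hcardT
  refine ⟨fun i => ((e.symm i : T) : Cfsg.IrrCharacter G).1, fun i => (e.symm i).1.2, ?_, ?_⟩
  · intro i j hij
    have h1 : ((e.symm i : T) : Cfsg.IrrCharacter G) = ((e.symm j : T) : Cfsg.IrrCharacter G) :=
      Subtype.ext hij
    have h2 : e.symm i = e.symm j := Subtype.ext h1
    exact e.symm.injective h2
  · intro g
    have h6 := congrFun hsum g
    rw [Finset.sum_apply] at h6
    simp only [Pi.smul_apply, smul_eq_mul] at h6
    rw [h6]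
    have h7 : ∀ χ : Cfsg.IrrCharacter G, (m χ : ℂ) * (χ : G → ℂ) g =
        if m χ = 1 then (χ : G → ℂ) g else 0 := by
      intro χ
      rcases hm01 χ with h | h <;> simp [h]
    simp only [h7]
    rw [← Finset.sum_filter]
    have h4 : Finset.univ.filter (fun χ : Cfsg.IrrCharacter G => m χ = 1) =
        insert (oneIrr G) T := by
      ext χ
      simp only [Finset.mem_filter, Finset.mem_univ, true_and, Finset.mem_insert, hT]
      constructor
      · intro h
        by_cases hχ : χ = oneIrr G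
        · left; exact hχ
        · right; exact ⟨h, hχ⟩
      · rintro (h | h)
        · rw [h]; exact hmone
        · exact h.1
    have h5 : oneIrr G ∉ T := by
      simp [hT]
    rw [h4, Finset.sum_insert h5]
    congr 1
    rw [← Finset.sum_coe_sort T]
    exact Fintype.sum_equiv e _ _ (fun x => by simp)

end Assembly

/-! ### Non-zero vectors -/

/-- the non-zero vectors of `Fin n → F` -/
def NZ (F : Type*) [Field F] (n : ℕ) : Type _ := {v : Fin n → F // v ≠ 0}

section NZ

variable {F : Type*} [Field F] {n : ℕ}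

noncomputable instance instFintypeNZ [Fintype F] : Fintype (NZ F n) := by
  classical
  exact inferInstanceAs (Fintype {v : Fin n → F // v ≠ 0})

noncomputable instance instDecEqNZ : DecidableEq (NZ F n) := Classical.decEq _

instance instMulActionSLNZ : MulAction (Matrix.SpecialLinearGroup (Fin n) F) (NZ F n) where
  smul g x := ⟨g • x.1, (smul_ne_zero_iff_ne g).mpr x.2⟩
  one_smul _ := Subtype.ext (one_smul _ _)
  mul_smul _ _ _ := Subtype.ext (mul_smul _ _ _)

instance instMulActionUnitsNZ : MulAction Fˣ (NZ F n) where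
  smul c x := ⟨c • x.1, (smul_ne_zero_iff_ne c).mpr x.2⟩
  one_smul _ := Subtype.ext (one_smul _ _)
  mul_smul _ _ _ := Subtype.ext (mul_smul _ _ _)

theorem sl_smul_val (g : Matrix.SpecialLinearGroup (Fin n) F) (x : NZ F n) :
    (g • x).1 = (g : Matrix (Fin n) (Fin n) F).mulVec x.1 := rfl

theorem units_smul_val (c : Fˣ) (x : NZ F n) : (c • x).1 = (c : F) • x.1 := rfl

instance instSMulCommNZ : SMulCommClass (Matrix.SpecialLinearGroup (Fin n) F) Fˣ (NZ F n) where
  smul_comm g c x := Subtype.ext (by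
    show g • ((c : F) • x.1) = (c : F) • (g • x.1)
    exact smul_comm g (c : F) x.1)

theorem free_units (c : Fˣ) (x : NZ F n) (h : c • x = x) : c = 1 := by
  have h1 : (c : F) • x.1 = x.1 := congrArg Subtype.val h
  have h2 : ((c : F) - 1) • x.1 = 0 := by rw [sub_smul, h1, one_smul, sub_self]
  rcases smul_eq_zero.mp h2 with h3 | h3
  · exact Units.ext (by rw [Units.val_one]; exact sub_eq_zero.mp h3)
  · exact absurd h3 x.2

theorem not_mem_span_of_not_mem_orbit {x y : NZ F n} (h : y ∉ orbit Fˣ x) :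
    y.1 ∉ span F {x.1} := by
  intro hy
  obtain ⟨a, ha⟩ := Submodule.mem_span_singleton.mp hy
  have ha0 : a ≠ 0 := by
    rintro rfl
    rw [zero_smul] at ha
    exact y.2 ha.symm
  exact h ⟨Units.mk0 a ha0, Subtype.ext ha⟩

/-- transfer from the abstract special linear group to the matrix group -/
theorem exists_matrix_sl (g' : SpecialLinearGroup F (Fin n → F)) :
    ∃ g : Matrix.SpecialLinearGroup (Fin n) F, ∀ v : Fin n → F,
      (g : Matrix (Fin n) (Fin n) F).mulVec v = g' v := by
  refine ⟨Matrix.SpecialLinearGroup.toLin'_equiv.symm g', fun v => ?_⟩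
  show (LinearMap.toMatrix' (g' : (Fin n → F) →ₗ[F] (Fin n → F))).mulVec v = g' v
  rw [LinearMap.toMatrix'_mulVec]
  rfl

theorem finrank_span_singleton_le' (a : Fin n → F) : finrank F (span F {a}) ≤ 1 := by
  have h := finrank_span_le_card (R := F) ({a} : Set (Fin n → F))
  simpa using h

theorem exists_not_mem_of_finrank_lt (W : Submodule F (Fin n → F)) (h : finrank F W < n) :
    ∃ z, z ∉ W := by
  by_contra hcon
  push Not at hcon
  have : W = ⊤ := Submodule.eq_top_iff'.mpr hcon
  rw [this, finrank_top, Module.finrank_fin_fun] at h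
  exact lt_irrefl _ h

theorem finrank_span_sup_span_le (a b : Fin n → F) :
    finrank F (span F {a} ⊔ span F {b} : Submodule F (Fin n → F)) ≤ 2 := by
  have h1 := Submodule.finrank_add_le_finrank_add_finrank (span F {a}) (span F {b})
  have h2 : finrank F (span F {a}) ≤ 1 := finrank_span_singleton_le' a
  have h3 : finrank F (span F {b}) ≤ 1 := finrank_span_singleton_le' b
  omega

theorem pretransitive_sl (hn : 2 ≤ n) :
    IsPretransitive (Matrix.SpecialLinearGroup (Fin n) F) (NZ F n) := by
  refine ⟨fun x y => ?_⟩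
  have hx : x.1 ∉ (⊥ : Submodule F (Fin n → F)) := by
    rw [Submodule.mem_bot]; exact x.2
  have hy : y.1 ∉ (⊥ : Submodule F (Fin n → F)) := by
    rw [Submodule.mem_bot]; exact y.2
  have hz : ∃ z, z ∉ (⊥ : Submodule F (Fin n → F)) ⊔ span F {x.1} := by
    apply exists_not_mem_of_finrank_lt
    rw [bot_sup_eq]
    have := finrank_span_singleton_le' x.1
    omega
  obtain ⟨g', -, hg'⟩ := exists_sl_map ⊥ hx hy hz
  obtain ⟨g, hg⟩ := exists_matrix_sl g'
  exact ⟨g, Subtype.ext (by rw [sl_smul_val, hg, hg'])⟩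

theorem two_transitive_sl (hn : 3 ≤ n) (x y x' y' : NZ F n) (hy : y ∉ orbit Fˣ x)
    (hy' : y' ∉ orbit Fˣ x') :
    ∃ g : Matrix.SpecialLinearGroup (Fin n) F, g • x = x' ∧ g • y = y' := by
  have hys := not_mem_span_of_not_mem_orbit hy
  have hys' := not_mem_span_of_not_mem_orbit hy'
  -- first move `x` to `x'`
  have hx : x.1 ∉ (⊥ : Submodule F (Fin n → F)) := by
    rw [Submodule.mem_bot]; exact x.2
  have hx' : x'.1 ∉ (⊥ : Submodule F (Fin n → F)) := by
    rw [Submodule.mem_bot]; exact x'.2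
  have hz : ∃ z, z ∉ (⊥ : Submodule F (Fin n → F)) ⊔ span F {x.1} := by
    rw [bot_sup_eq]; exact ⟨y.1, hys⟩
  obtain ⟨g₁, -, hg₁⟩ := exists_sl_map ⊥ hx hx' hz
  -- the image of `y`
  have hy₁ : g₁ y.1 ∉ span F {x'.1} := by
    intro h
    obtain ⟨a, ha⟩ := Submodule.mem_span_singleton.mp h
    apply hys
    rw [Submodule.mem_span_singleton]
    refine ⟨a, ?_⟩
    have h1 : g₁ (a • x.1) = g₁ y.1 := by
      rw [← ha, ← hg₁]
      exact map_smul g₁.1 a x.1
    exact g₁.1.injective h1
  have hz₂ : ∃ z, z ∉ span F {x'.1} ⊔ span F {g₁ y.1} := by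
    apply exists_not_mem_of_finrank_lt
    have := finrank_span_sup_span_le x'.1 (g₁ y.1)
    omega
  obtain ⟨g₂, hg₂p, hg₂⟩ := exists_sl_map (span F {x'.1}) hy₁ hys' hz₂
  obtain ⟨g, hg⟩ := exists_matrix_sl (g₂ * g₁)
  refine ⟨g, Subtype.ext ?_, Subtype.ext ?_⟩
  · rw [sl_smul_val, hg]
    show g₂ (g₁ x.1) = x'.1
    rw [hg₁]
    exact hg₂p _ (Submodule.mem_span_singleton_self _)
  · rw [sl_smul_val, hg]
    show g₂ (g₁ y.1) = y'.1
    exact hg₂

end NZ

/-- Let F be a finite field with q elements and n ≥ 3. The permutation character of SL_n(F) on the non-zero vectors of F^n (the function sending a matrix to the number of non-zero vectors it fixes) is the sum of the principal character and q − 1 pairwise distinct irreducible complex characters. -/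
theorem result {F : Type*} [Field F] [Fintype F] [DecidableEq F] (n : ℕ) (hn : 3 ≤ n) :
    ∃ χ : Fin (Fintype.card F - 1) → (Matrix.SpecialLinearGroup (Fin n) F → ℂ),
      (∀ i, Cfsg.IsIrrCharacter (Matrix.SpecialLinearGroup (Fin n) F) (χ i)) ∧ Function.Injective χ ∧
      ∀ g : Matrix.SpecialLinearGroup (Fin n) F,
        (Nat.card {v : Fin n → F // v ≠ 0 ∧ (g : Matrix (Fin n) (Fin n) F).mulVec v = v} : ℂ) = 1 + ∑ i, χ i g := by
  classical
  have hn0 : 0 < n := by omega
  have hn1 : 1 < n := by omega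
  set i0 : Fin n := ⟨0, hn0⟩ with hi0
  set i1 : Fin n := ⟨1, hn1⟩ with hi1
  have hi01 : i1 ≠ i0 := by
    intro h
    have := congrArg Fin.val h
    simp [hi0, hi1] at this
  let x₀ : NZ F n := ⟨Pi.single i0 1, fun h => by
    have := congrFun h i0
    simp at this⟩
  let y₀ : NZ F n := ⟨Pi.single i1 1, fun h => by
    have := congrFun h i1
    simp at this⟩
  have hy₀ : y₀ ∉ orbit Fˣ x₀ := by
    intro h
    obtain ⟨c, hc⟩ := mem_orbit_iff.mp h
    have h1 : (c : F) • (Pi.single i0 1 : Fin n → F) = Pi.single i1 1 := congrArg Subtype.val hc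
    have h2 := congrFun h1 i1
    simp [Pi.single_apply, hi01] at h2
  have hpt : IsPretransitive (Matrix.SpecialLinearGroup (Fin n) F) (NZ F n) :=
    pretransitive_sl (by omega)
  have hne : Nonempty (NZ F n) := ⟨x₀⟩
  set π : Matrix.SpecialLinearGroup (Fin n) F → ℂ :=
    fun g => (Nat.card (fixedBy (NZ F n) g) : ℂ) with hπ
  have hchar : Cfsg.IsCharacter (Matrix.SpecialLinearGroup (Fin n) F) π := isCharacter_perm
  have h1 : Cfsg.classInner π (fun _ => 1) = 1 := classInner_perm_one
  have hPchar : (Cfsg.permRep ℂ (Matrix.SpecialLinearGroup (Fin n) F) (NZ F n)).character = π :=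
    funext fun g => permRep_character g
  have hmf : ∀ χ : Matrix.SpecialLinearGroup (Fin n) F → ℂ,
      Cfsg.IsIrrCharacter (Matrix.SpecialLinearGroup (Fin n) F) χ →
      Cfsg.classInner π χ = 0 ∨ Cfsg.classInner π χ = 1 := by
    intro χ hχ
    rw [← hPchar]
    refine multFree_of_comm _ (fun S T hS hT => ?_) χ hχ
    exact comm (C := Fˣ) free_units (two_transitive_sl hn) x₀ y₀ hy₀ S T hS hT
  have hr : Cfsg.classInner π π = ((Fintype.card F - 1 + 1 : ℕ) : ℂ) := by
    rw [hπ, rank_eq_classInner x₀,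
      card_orbits (C := Fˣ) free_units (two_transitive_sl hn) x₀ y₀ hy₀, Fintype.card_units]
  obtain ⟨χ, hχirr, hχinj, hχsum⟩ := multFree_decomp hchar h1 hmf (Fintype.card F - 1) hr
  refine ⟨χ, hχirr, hχinj, fun g => ?_⟩
  rw [← hχsum g, hπ]
  congr 1
  refine Nat.card_congr ?_
  exact
    { toFun := fun v => ⟨⟨v.1, v.2.1⟩, Subtype.ext v.2.2⟩
      invFun := fun x => ⟨x.1.1, x.1.2, congrArg Subtype.val x.2⟩
      left_inv := fun v => rfl
      right_inv := fun x => rfl }

end Cfsg.Agent.S2336
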