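import Mathlib
import Cfsg.Statements.S4408
import Cfsg.Agent.Lib.Helper24_Coprime
import Cfsg.Agent.Lib.Helper55_Fitting

set_option autoImplicit false
open Cfsg

namespace Cfsg.Agent.S4408

variable {G : Type*} [Group G]

theorem inv_eq_self_of_sq {s : G} (hs : s * s = 1) : s⁻¹ = s :=
  inv_eq_of_mul_eq_one_left hs

/-- The commutator of an involution `s` with `x` is inverted by `s`. -/
theorem conj_comm_eq_inv (s x : G) (hs : s * s = 1) :
    s * (s * x * s⁻¹ * x⁻¹) * s⁻¹ = (s * x * s⁻¹ * x⁻¹)⁻¹ := by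
  have hs' : s⁻¹ = s := inv_eq_self_of_sq hs
  have h2 : s * (s * x * s⁻¹ * x⁻¹) * s⁻¹ = (s * s) * x * s⁻¹ * x⁻¹ * s⁻¹ := by group
  rw [h2, hs, one_mul]
  have h3 : (s * x * s⁻¹ * x⁻¹)⁻¹ = x * s * x⁻¹ * s⁻¹ := by group
  rw [h3]
  conv_lhs => rw [hs']
  conv_rhs => rw [hs']

/-- Eigen-element lemma: commuting involutions acting on an abelian section `H / B`
have a common "eigenvector" outside `B`. -/
theorem exists_eigen (A : Finset G) : ∀ (H B : Subgroup G), B ≤ H →
    (∀ x ∈ H, ∀ y ∈ H, x * y * x⁻¹ * y⁻¹ ∈ B) → (∀ s ∈ A, s * s = 1) →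
    (∀ s ∈ A, ∀ r ∈ A, s * r = r * s) → (∀ s ∈ A, ∀ x ∈ H, s * x * s⁻¹ ∈ H) →
    (∀ s ∈ A, ∀ x ∈ B, s * x * s⁻¹ ∈ B) → (∃ x ∈ H, x ∉ B) →
    ∃ x ∈ H, x ∉ B ∧ ∀ s ∈ A, (s * x * s⁻¹ * x⁻¹ ∈ B ∨ s * x * s⁻¹ * x ∈ B) := by
  classical
  induction A using Finset.induction_on with
  | empty =>
    intro H B _ _ _ _ _ _ hex
    obtain ⟨x, hx, hxB⟩ := hex
    exact ⟨x, hx, hxB, by simp⟩
  | insert s A hsA ih =>
    intro H B hBH hcomm hsq hab hH hB hex
    have hsq' : ∀ r ∈ A, r * r = 1 := fun r hr => hsq r (Finset.mem_insert_of_mem hr)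
    have hab' : ∀ r ∈ A, ∀ r' ∈ A, r * r' = r' * r := fun r hr r' hr' =>
      hab r (Finset.mem_insert_of_mem hr) r' (Finset.mem_insert_of_mem hr')
    have hss : s * s = 1 := hsq s (Finset.mem_insert_self s A)
    have hsH : ∀ x ∈ H, s * x * s⁻¹ ∈ H := hH s (Finset.mem_insert_self s A)
    have hsB : ∀ x ∈ B, s * x * s⁻¹ ∈ B := hB s (Finset.mem_insert_self s A)
    -- `B` is normal in `H`
    have hnorm : ∀ h ∈ H, ∀ b ∈ B, h * b * h⁻¹ ∈ B := by
      intro h hh b hb
      have h1 := hcomm h hh b (hBH hb)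
      have : h * b * h⁻¹ = (h * b * h⁻¹ * b⁻¹) * b := by group
      rw [this]
      exact B.mul_mem h1 hb
    by_cases htriv : ∀ x ∈ H, s * x * s⁻¹ * x⁻¹ ∈ B
    · obtain ⟨x, hx, hxB, hxA⟩ := ih H B hBH hcomm hsq' hab'
        (fun r hr => hH r (Finset.mem_insert_of_mem hr))
        (fun r hr => hB r (Finset.mem_insert_of_mem hr)) hex
      refine ⟨x, hx, hxB, ?_⟩
      intro r hr
      rcases Finset.mem_insert.mp hr with rfl | hr
      · exact Or.inl (htriv x hx)
      · exact hxA r hr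
    · push Not at htriv
      obtain ⟨x₀, hx₀H, hx₀⟩ := htriv
      let H' : Subgroup G :=
        { carrier := {x | x ∈ H ∧ s * x * s⁻¹ * x ∈ B}
          one_mem' := ⟨H.one_mem, by simp⟩
          mul_mem' := by
            rintro x y ⟨hx, hxs⟩ ⟨hy, hys⟩
            refine ⟨H.mul_mem hx hy, ?_⟩
            have hY : s * y * s⁻¹ ∈ H := hsH y hy
            have hc := hcomm x⁻¹ (H.inv_mem hx) (s * y * s⁻¹) hY
            have : s * (x * y) * s⁻¹ * (x * y)
                = (s * x * s⁻¹ * x) * (x⁻¹ * (s * y * s⁻¹) * x⁻¹⁻¹ * (s * y * s⁻¹)⁻¹)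
                  * (s * y * s⁻¹ * y) := by group
            rw [this]
            exact B.mul_mem (B.mul_mem hxs hc) hys
          inv_mem' := by
            rintro x ⟨hx, hxs⟩
            refine ⟨H.inv_mem hx, ?_⟩
            have h1 := hnorm x hx _ hxs
            have : s * x⁻¹ * s⁻¹ * x⁻¹ = (x * (s * x * s⁻¹ * x) * x⁻¹)⁻¹ := by group
            rw [this]
            exact B.inv_mem h1 }
      have hH'mem : ∀ x, x ∈ H' ↔ x ∈ H ∧ s * x * s⁻¹ * x ∈ B := fun x => Iff.rfl
      have hBH' : B ≤ H' := fun b hb => (hH'mem b).2 ⟨hBH hb, B.mul_mem (hsB b hb) hb⟩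
      have hH'H : H' ≤ H := fun x hx => ((hH'mem x).1 hx).1
      have hu : s * x₀ * s⁻¹ * x₀⁻¹ ∈ H' := by
        rw [hH'mem]
        refine ⟨H.mul_mem (hsH x₀ hx₀H) (H.inv_mem hx₀H), ?_⟩
        rw [conj_comm_eq_inv s x₀ hss, inv_mul_cancel]
        exact B.one_mem
      have hinv : ∀ r ∈ A, ∀ x ∈ H', r * x * r⁻¹ ∈ H' := by
        intro r hr x hx
        rw [hH'mem] at hx ⊢
        refine ⟨hH r (Finset.mem_insert_of_mem hr) x hx.1, ?_⟩
        have hrs : s * r = r * s := hab s (Finset.mem_insert_self s A) r (Finset.mem_insert_of_mem hr)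
        have hrs' : s⁻¹ * r = r * s⁻¹ := by
          rw [inv_eq_self_of_sq hss]; exact hrs
        have hrs'' : s * r⁻¹ = r⁻¹ * s := by
          rw [eq_inv_mul_iff_mul_eq, ← mul_assoc, ← hrs, mul_assoc, mul_inv_cancel, mul_one]
        have : s * (r * x * r⁻¹) * s⁻¹ * (r * x * r⁻¹) = r * (s * x * s⁻¹ * x) * r⁻¹ := by
          calc s * (r * x * r⁻¹) * s⁻¹ * (r * x * r⁻¹)
              = (s * r) * x * r⁻¹ * (s⁻¹ * r) * x * r⁻¹ := by group
            _ = (r * s) * x * r⁻¹ * (r * s⁻¹) * x * r⁻¹ := by rw [hrs, hrs']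
            _ = r * (s * x * s⁻¹ * x) * r⁻¹ := by group
        rw [this]
        exact hB r (Finset.mem_insert_of_mem hr) _ hx.2
      obtain ⟨x, hx, hxB, hxA⟩ := ih H' B hBH'
        (fun x hx y hy => hcomm x (hH'H hx) y (hH'H hy)) hsq' hab' hinv
        (fun r hr => hB r (Finset.mem_insert_of_mem hr)) ⟨_, hu, hx₀⟩
      refine ⟨x, hH'H hx, hxB, ?_⟩
      intro r hr
      rcases Finset.mem_insert.mp hr with rfl | hr
      · exact Or.inr ((hH'mem x).1 hx).2
      · exact hxA r hr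

/-- conjugation-invariance under a subgroup gives normalizer containment -/
theorem le_normalizer_of_conj_mem {I K : Subgroup G}
    (h : ∀ s ∈ I, ∀ x ∈ K, s * x * s⁻¹ ∈ K) : I ≤ Subgroup.normalizer (K : Set G) := by
  intro s hs
  rw [Subgroup.mem_normalizer_iff]
  intro x
  constructor
  · exact fun hx => h s hs x hx
  · intro hx
    have := h s⁻¹ (I.inv_mem hs) _ hx
    have e : s⁻¹ * (s * x * s⁻¹) * s⁻¹⁻¹ = x := by group
    rwa [e] at this

/-- `B ⊔ ⟨x⟩` is abelian when `B` is and `x` centralizes `B`. -/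
theorem comm_sup_zpowers (B : Subgroup G) (x : G) (hB : ∀ a ∈ B, ∀ b ∈ B, a * b = b * a)
    (hx : ∀ b ∈ B, x * b = b * x) :
    ∀ a ∈ B ⊔ Subgroup.zpowers x, ∀ b ∈ B ⊔ Subgroup.zpowers x, a * b = b * a := by
  have h1 : B ⊔ Subgroup.zpowers x ≤ Subgroup.centralizer {x} := by
    refine sup_le ?_ ?_
    · intro b hb
      rw [Subgroup.mem_centralizer_singleton_iff]
      exact (hx b hb).symm
    · rw [Subgroup.zpowers_le, Subgroup.mem_centralizer_singleton_iff]
  have h2 : B ⊔ Subgroup.zpowers x ≤ Subgroup.centralizer (B : Set G) := by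
    refine sup_le ?_ ?_
    · intro b hb
      rw [Subgroup.mem_centralizer_iff]
      intro c hc
      exact hB c hc b hb
    · rw [Subgroup.zpowers_le, Subgroup.mem_centralizer_iff]
      intro c hc
      exact (hx c hc).symm
  intro a ha
  have h3 : B ⊔ Subgroup.zpowers x ≤ Subgroup.centralizer {a} := by
    refine sup_le ?_ ?_
    · intro b hb
      rw [Subgroup.mem_centralizer_singleton_iff]
      have := h2 ha
      rw [Subgroup.mem_centralizer_iff] at this
      exact this b hb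
    · rw [Subgroup.zpowers_le, Subgroup.mem_centralizer_singleton_iff]
      have := h1 ha
      rw [Subgroup.mem_centralizer_singleton_iff] at this
      exact this.symm
  intro b hb
  have := h3 hb
  rw [Subgroup.mem_centralizer_singleton_iff] at this
  exact this.symm

/-- An `I`-invariant abelian subgroup of `F`. -/
def Good (F I B : Subgroup G) : Prop :=
  B ≤ F ∧ (∀ a ∈ B, ∀ b ∈ B, a * b = b * a) ∧ (∀ s ∈ I, ∀ x ∈ B, s * x * s⁻¹ ∈ B)

theorem exists_selfCentralizing [Finite G] [Group.IsSolvable G] (F I : Subgroup G)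
    (hFI : ∀ s ∈ I, ∀ x ∈ F, s * x * s⁻¹ ∈ F) (hI2 : ∀ s ∈ I, s * s = 1)
    (hIab : ∀ s ∈ I, ∀ r ∈ I, s * r = r * s) :
    ∃ B, Good F I B ∧ ∀ x ∈ F, (∀ b ∈ B, x * b = b * x) → x ∈ B := by
  classical
  obtain ⟨B, hBgood, hBmax⟩ := Set.exists_max_image {B : Subgroup G | Good F I B}
    (fun B => Nat.card B) (Set.toFinite _)
    ⟨⊥, bot_le, by simp, by simp⟩
  refine ⟨B, hBgood, ?_⟩
  obtain ⟨hBF, hBab, hBI⟩ := hBgood
  by_contra hcon
  push Not at hcon
  obtain ⟨x₀, hx₀F, hx₀B, hx₀⟩ := hcon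
  -- the family of I-invariant subgroups of C_F(B) not inside B
  let 𝓗 : Set (Subgroup G) := {H | H ≤ F ⊓ Subgroup.centralizer (B : Set G) ∧
    (∀ s ∈ I, ∀ x ∈ H, s * x * s⁻¹ ∈ H) ∧ ¬ H ≤ B}
  have hCinv : ∀ s ∈ I, ∀ x ∈ F ⊓ Subgroup.centralizer (B : Set G),
      s * x * s⁻¹ ∈ F ⊓ Subgroup.centralizer (B : Set G) := by
    intro s hs x hx
    rw [Subgroup.mem_inf] at hx ⊢
    refine ⟨hFI s hs x hx.1, ?_⟩
    rw [Subgroup.mem_centralizer_iff]
    intro b hb
    have hb' : s⁻¹ * b * s⁻¹⁻¹ ∈ B := hBI s⁻¹ (I.inv_mem hs) b hb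
    have hx2 := hx.2
    rw [Subgroup.mem_centralizer_iff] at hx2
    have h3 := hx2 _ hb'
    calc b * (s * x * s⁻¹) = s * ((s⁻¹ * b * s⁻¹⁻¹) * x) * s⁻¹ := by group
      _ = s * (x * (s⁻¹ * b * s⁻¹⁻¹)) * s⁻¹ := by rw [h3]
      _ = s * x * s⁻¹ * b := by group
  have hCmem : F ⊓ Subgroup.centralizer (B : Set G) ∈ 𝓗 := by
    refine ⟨le_rfl, hCinv, ?_⟩
    intro hle
    apply hx₀
    apply hle
    rw [Subgroup.mem_inf]
    refine ⟨hx₀F, ?_⟩
    rw [Subgroup.mem_centralizer_iff]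
    intro b hb
    exact (hx₀B b hb).symm
  obtain ⟨H, hH𝓗, hHmin⟩ := Set.exists_min_image 𝓗 (fun H => Nat.card H) (Set.toFinite _)
    ⟨_, hCmem⟩
  obtain ⟨hHC, hHI, hHB⟩ := hH𝓗
  -- the derived subgroup of H lies in B
  have hder : ⁅H, H⁆ ≤ B := by
    by_contra hnot
    have hle : ⁅H, H⁆ ≤ H := Subgroup.commutator_le_self H
    have hmem : ⁅H, H⁆ ∈ 𝓗 := by
      refine ⟨hle.trans hHC, ?_, hnot⟩
      intro s hs x hx
      have hmap : (⁅H, H⁆).map (MulAut.conj s).toMonoidHom ≤ ⁅H, H⁆ := by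
        rw [Subgroup.map_commutator]
        have : H.map (MulAut.conj s).toMonoidHom ≤ H := by
          rintro _ ⟨y, hy, rfl⟩
          simpa using hHI s hs y hy
        exact Subgroup.commutator_mono this this
      have := hmap (Subgroup.mem_map_of_mem _ hx)
      simpa using this
    have h1 := hHmin _ hmem
    have h2 : ⁅H, H⁆ = H := Subgroup.eq_of_le_of_card_ge hle h1
    -- contradiction with solvability
    have hnt : Nontrivial H := by
      rw [Subgroup.nontrivial_iff_ne_bot]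
      rintro rfl
      exact hHB bot_le
    have h3 := Group.IsSolvable.commutator_lt_top_of_nontrivial H
    have h4 : (commutator H).map H.subtype = ⁅H, H⁆ := by
      rw [Subgroup.map_subtype_commutator]
    rw [h2] at h4
    have h5 : commutator H = ⊤ := by
      apply Subgroup.map_injective H.subtype_injective
      rw [h4, ← MonoidHom.range_eq_map, Subgroup.range_subtype]
    exact (ne_of_lt h3) h5
  -- apply the eigen lemma to (H, H ⊓ B)
  have hne : ∃ x ∈ H, x ∉ H ⊓ B := by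
    by_contra hno
    push Not at hno
    exact hHB (fun x hx => (hno x hx).2)
  obtain ⟨x, hxH, hxB, hxeig⟩ := exists_eigen (Set.toFinite (I : Set G)).toFinset H (H ⊓ B)
    inf_le_left
    (fun x hx y hy => by
      refine ⟨?_, ?_⟩
      · exact H.mul_mem (H.mul_mem (H.mul_mem hx hy) (H.inv_mem hx)) (H.inv_mem hy)
      · apply hder
        have := Subgroup.commutator_mem_commutator hx hy
        rwa [commutatorElement_def] at this)
    (fun s hs => hI2 s (by simpa using hs))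
    (fun s hs r hr => hIab s (by simpa using hs) r (by simpa using hr))
    (fun s hs x hx => hHI s (by simpa using hs) x hx)
    (fun s hs x hx => ⟨hHI s (by simpa using hs) x hx.1, hBI s (by simpa using hs) x hx.2⟩)
    hne
  have hxB' : x ∉ B := fun h => hxB ⟨hxH, h⟩
  have hxC := Subgroup.mem_inf.mp (hHC hxH)
  have hxcent : ∀ b ∈ B, x * b = b * x := by
    intro b hb
    have := hxC.2
    rw [Subgroup.mem_centralizer_iff] at this
    exact (this b hb).symm
  -- the bigger subgroup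
  have hgood' : Good F I (B ⊔ Subgroup.zpowers x) := by
    refine ⟨sup_le hBF (by rw [Subgroup.zpowers_le]; exact hxC.1),
      comm_sup_zpowers B x hBab hxcent, ?_⟩
    intro s hs
    have hle : B ⊔ Subgroup.zpowers x ≤
        (B ⊔ Subgroup.zpowers x).comap (MulAut.conj s).toMonoidHom := by
      refine sup_le ?_ ?_
      · intro b hb
        rw [Subgroup.mem_comap]
        have : (MulAut.conj s).toMonoidHom b = s * b * s⁻¹ := by simp
        rw [this]
        exact (le_sup_left : B ≤ B ⊔ Subgroup.zpowers x) (hBI s hs b hb)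
      · rw [Subgroup.zpowers_le, Subgroup.mem_comap]
        have : (MulAut.conj s).toMonoidHom x = s * x * s⁻¹ := by simp
        rw [this]
        have hxz : x ∈ B ⊔ Subgroup.zpowers x :=
          (le_sup_right : Subgroup.zpowers x ≤ B ⊔ Subgroup.zpowers x)
            (Subgroup.mem_zpowers x)
        rcases hxeig s (by simpa using hs) with h | h
        · have e : s * x * s⁻¹ = (s * x * s⁻¹ * x⁻¹) * x := by group
          rw [e]
          exact Subgroup.mul_mem _ ((le_sup_left : B ≤ B ⊔ Subgroup.zpowers x) h.2) hxz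
        · have e : s * x * s⁻¹ = (s * x * s⁻¹ * x) * x⁻¹ := by group
          rw [e]
          exact Subgroup.mul_mem _ ((le_sup_left : B ≤ B ⊔ Subgroup.zpowers x) h.2)
            (Subgroup.inv_mem _ hxz)
    intro y hy
    have := hle hy
    rw [Subgroup.mem_comap] at this
    simpa using this
  have hcard := hBmax _ hgood'
  have heq : B = B ⊔ Subgroup.zpowers x :=
    Subgroup.eq_of_le_of_card_ge le_sup_left hcard
  apply hxB'
  rw [heq]
  exact (le_sup_right : Subgroup.zpowers x ≤ B ⊔ Subgroup.zpowers x) (Subgroup.mem_zpowers x)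

/-- `|H ⊔ K| = |H| |K|` for elementwise commuting subgroups with trivial intersection. -/
theorem card_sup_of_commute [Finite G] {H K : Subgroup G}
    (hc : ∀ h ∈ H, ∀ k ∈ K, h * k = k * h) (hd : H ⊓ K = ⊥) :
    Nat.card ↥(H ⊔ K) = Nat.card ↥H * Nat.card ↥K := by
  have hcomm : ∀ (a : ↥H) (b : ↥K), Commute (H.subtype a) (K.subtype b) :=
    fun a b => hc a a.2 b b.2
  have hrange : (MonoidHom.noncommCoprod H.subtype K.subtype hcomm).range = H ⊔ K := by
    rw [MonoidHom.noncommCoprod_range, Subgroup.range_subtype, Subgroup.range_subtype]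
  have hinj : Function.Injective (MonoidHom.noncommCoprod H.subtype K.subtype hcomm) := by
    rw [MonoidHom.noncommCoprod_injective]
    refine ⟨Subgroup.subtype_injective _, Subgroup.subtype_injective _, ?_⟩
    rw [Subgroup.range_subtype, Subgroup.range_subtype, disjoint_iff]
    exact hd
  rw [← hrange, ← Nat.card_congr (MonoidHom.ofInjective hinj).toEquiv, Nat.card_prod]

/-- Faithfulness: an involution centralizing a self-centralizing subgroup of the (odd order)
Fitting subgroup of a solvable group is trivial. -/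
theorem eq_one_of_centralizes {S : Type*} [Group S] [Finite S] [Group.IsSolvable S]
    (hF : Odd (Nat.card ↥(Cfsg.fittingSubgroup S))) (B : Subgroup S)
    (hBF : B ≤ Cfsg.fittingSubgroup S)
    (hself : ∀ x ∈ Cfsg.fittingSubgroup S, (∀ b ∈ B, x * b = b * x) → x ∈ B)
    (t : S) (ht : t * t = 1) (htB : ∀ b ∈ B, t * b = b * t) : t = 1 := by
  have hnil : Group.IsNilpotent ↥(Cfsg.fittingSubgroup S) :=
    Cfsg.Agent.Lib.Helper1_Cores.fittingSubgroup_isNilpotent
  have hnorm : (Cfsg.fittingSubgroup S).Normal :=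
    Cfsg.Agent.Lib.Helper1_Cores.fittingSubgroup_normal
  have hord : orderOf t ∣ 2 := orderOf_dvd_of_pow_eq_one (by rw [pow_two]; exact ht)
  have hcop : (orderOf t).Coprime (Nat.card ↥(Cfsg.fittingSubgroup S)) :=
    Nat.Coprime.coprime_dvd_left hord (Nat.coprime_two_left.mpr hF)
  have h1 : ∀ x ∈ Cfsg.fittingSubgroup S, t * x = x * t :=
    Cfsg.Agent.Lib.Helper24_Coprime.centralizes_of_nilpotent (Cfsg.fittingSubgroup S) hnil t
      (fun x hx => hnorm.conj_mem x hx t) hcop (B : Set S) hBF htB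
      (fun x hx hxB => htB x (hself x hx hxB))
  have h2 : t ∈ Subgroup.centralizer (Cfsg.fittingSubgroup S : Set S) := by
    rw [Subgroup.mem_centralizer_iff]
    intro x hx
    exact (h1 x hx).symm
  have h3 : t ∈ Cfsg.fittingSubgroup S :=
    Cfsg.Agent.Lib.Helper55_Fitting.centralizer_fittingSubgroup_le h2
  have h4 : orderOf t ∣ Nat.card ↥(Cfsg.fittingSubgroup S) :=
    Subgroup.orderOf_dvd_natCard _ h3
  have h5 : orderOf t = 1 := by
    have := Nat.dvd_gcd hord h4
    have hg : Nat.gcd 2 (Nat.card ↥(Cfsg.fittingSubgroup S)) = 1 :=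
      Nat.coprime_two_left.mpr hF
    rw [hg] at this
    exact Nat.dvd_one.mp this
  exact orderOf_eq_one_iff.mp h5

theorem eq_one_of_sq_of_odd [Finite G] {B : Subgroup G} (hB : Odd (Nat.card ↥B)) {z : G}
    (hz : z ∈ B) (h2 : z * z = 1) : z = 1 := by
  have h1 : orderOf z ∣ 2 := orderOf_dvd_of_pow_eq_one (by rw [pow_two]; exact h2)
  have h3 : orderOf z ∣ Nat.card ↥B := Subgroup.orderOf_dvd_natCard _ hz
  have := Nat.dvd_gcd h1 h3
  have hg : Nat.gcd 2 (Nat.card ↥B) = 1 := Nat.coprime_two_left.mpr hB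
  rw [hg] at this
  exact orderOf_eq_one_iff.mp (Nat.dvd_one.mp this)

/-- The stage-`k` configuration. -/
def Stage (I B : Subgroup G) (n k : ℕ) : Prop :=
  ∃ g : Fin k → G, (∀ i, g i ∈ B) ∧ (∀ i, (orderOf (g i)).Prime) ∧
    (∀ i, ∀ s ∈ I, s * g i * s⁻¹ = g i ∨ s * g i * s⁻¹ = (g i)⁻¹) ∧
    Nat.card ↥(⨆ i, Subgroup.zpowers (g i)) = ∏ i, orderOf (g i) ∧
    Nat.card ↥(I ⊓ Subgroup.centralizer (Set.range g)) * 2 ^ k = 2 ^ n

theorem stage_succ [Finite G] (I B : Subgroup G) (n k : ℕ) (hk : k < n)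
    (hBab : ∀ a ∈ B, ∀ b ∈ B, a * b = b * a) (hBI : ∀ s ∈ I, ∀ x ∈ B, s * x * s⁻¹ ∈ B)
    (hBodd : Odd (Nat.card ↥B)) (hI2 : ∀ s ∈ I, s * s = 1)
    (hIab : ∀ s ∈ I, ∀ r ∈ I, s * r = r * s)
    (hfaith : ∀ t ∈ I, (∀ b ∈ B, t * b = b * t) → t = 1)
    (h : Stage I B n k) : Stage I B n (k + 1) := by
  classical
  obtain ⟨g, hgB, hgp, hgeig, hcard, hK⟩ := h
  set A : Subgroup G := ⨆ i, Subgroup.zpowers (g i) with hA
  set K : Subgroup G := I ⊓ Subgroup.centralizer (Set.range g) with hKdef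
  have hAB : A ≤ B := iSup_le fun i => by rw [Subgroup.zpowers_le]; exact hgB i
  have hKcard : Nat.card ↥K = 2 ^ (n - k) := by
    have h1 : (2 : ℕ) ^ n = 2 ^ (n - k) * 2 ^ k := by
      rw [← pow_add, Nat.sub_add_cancel hk.le]
    rw [h1] at hK
    exact Nat.eq_of_mul_eq_mul_right (by positivity) hK
  have hK1 : 1 < Nat.card ↥K := by
    rw [hKcard]
    exact Nat.one_lt_two_pow (by omega)
  have hKbot : K ≠ ⊥ := by
    intro h
    rw [h, Subgroup.card_bot] at hK1
    exact lt_irrefl _ hK1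
  obtain ⟨⟨t, htK⟩, ht1⟩ := (Subgroup.ne_bot_iff_exists_ne_one).mp hKbot
  have ht1' : t ≠ 1 := fun h => ht1 (Subtype.ext h)
  have htI : t ∈ I := (Subgroup.mem_inf.mp htK).1
  have htg : ∀ i, g i * t = t * g i := by
    intro i
    have := (Subgroup.mem_inf.mp htK).2
    rw [Subgroup.mem_centralizer_iff] at this
    exact this (g i) ⟨i, rfl⟩
  have htt : t * t = 1 := hI2 t htI
  have htinv : t⁻¹ = t := inv_eq_self_of_sq htt
  -- t does not centralize B
  have hnc : ¬ ∀ b ∈ B, t * b = b * t := fun h => ht1' (hfaith t htI h)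
  push Not at hnc
  obtain ⟨b, hbB, hb⟩ := hnc
  -- the subgroup of inverted elements
  let Q : Subgroup G :=
    { carrier := {x | x ∈ B ∧ t * x * t⁻¹ = x⁻¹}
      one_mem' := ⟨B.one_mem, by simp⟩
      mul_mem' := by
        rintro x y ⟨hx, hxt⟩ ⟨hy, hyt⟩
        refine ⟨B.mul_mem hx hy, ?_⟩
        have e : t * (x * y) * t⁻¹ = (t * x * t⁻¹) * (t * y * t⁻¹) := by group
        rw [e, hxt, hyt, hBab x hx y hy, mul_inv_rev]
      inv_mem' := by
        rintro x ⟨hx, hxt⟩
        refine ⟨B.inv_mem hx, ?_⟩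
        have e : t * x⁻¹ * t⁻¹ = (t * x * t⁻¹)⁻¹ := by group
        rw [e, hxt] }
  have hQmem : ∀ x, x ∈ Q ↔ x ∈ B ∧ t * x * t⁻¹ = x⁻¹ := fun x => Iff.rfl
  have huQ : t * b * t⁻¹ * b⁻¹ ∈ Q := by
    rw [hQmem]
    exact ⟨B.mul_mem (hBI t htI b hbB) (B.inv_mem hbB), conj_comm_eq_inv t b htt⟩
  have hu1 : t * b * t⁻¹ * b⁻¹ ≠ 1 := by
    intro h
    apply hb
    have : t * b * t⁻¹ = b := by
      rw [mul_inv_eq_one] at h
      exact h
    calc t * b = (t * b * t⁻¹) * t := by group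
      _ = b * t := by rw [this]
  have hQI : ∀ s ∈ I, ∀ x ∈ Q, s * x * s⁻¹ ∈ Q := by
    intro s hs x hx
    rw [hQmem] at hx ⊢
    refine ⟨hBI s hs x hx.1, ?_⟩
    have hst : t * s = s * t := hIab t htI s hs
    have hst' : s⁻¹ * t⁻¹ = t⁻¹ * s⁻¹ := by
      rw [← mul_inv_rev, ← mul_inv_rev, hst]
    calc t * (s * x * s⁻¹) * t⁻¹ = (t * s) * x * (s⁻¹ * t⁻¹) := by group
      _ = (s * t) * x * (t⁻¹ * s⁻¹) := by rw [hst, hst']
      _ = s * (t * x * t⁻¹) * s⁻¹ := by group
      _ = s * x⁻¹ * s⁻¹ := by rw [hx.2]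
      _ = (s * x * s⁻¹)⁻¹ := by group
  obtain ⟨x, hxQ, hx1, hxeig⟩ := exists_eigen (Set.toFinite (I : Set G)).toFinset Q ⊥ bot_le
    (fun x hx y hy => by
      rw [Subgroup.mem_bot]
      have := hBab x ((hQmem x).1 hx).1 y ((hQmem y).1 hy).1
      rw [this]; group)
    (fun s hs => hI2 s (by simpa using hs))
    (fun s hs r hr => hIab s (by simpa using hs) r (by simpa using hr))
    (fun s hs x hx => hQI s (by simpa using hs) x hx)
    (fun s _ x hx => by
      rw [Subgroup.mem_bot] at hx ⊢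
      rw [hx]; group)
    ⟨_, huQ, by rw [Subgroup.mem_bot]; exact hu1⟩
  rw [Subgroup.mem_bot] at hx1
  -- a prime order power
  have hox : orderOf x ≠ 1 := fun h => hx1 (orderOf_eq_one_iff.mp h)
  have hpp : (orderOf x).minFac.Prime := Nat.minFac_prime hox
  have hpd : (orderOf x).minFac ∣ orderOf x := Nat.minFac_dvd _
  have hopos : 0 < orderOf x := orderOf_pos x
  set m := orderOf x / (orderOf x).minFac with hm
  have hm0 : m ≠ 0 := by
    rw [hm]
    exact (Nat.div_pos (Nat.le_of_dvd hopos hpd) hpp.pos).ne'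
  have hmd : m ∣ orderOf x := Nat.div_dvd_of_dvd hpd
  have hoy : orderOf (x ^ m) = (orderOf x).minFac := by
    rw [orderOf_pow_of_dvd hm0 hmd, hm, Nat.div_div_self hpd hopos.ne']
  have hyQ : x ^ m ∈ Q := Q.pow_mem hxQ m
  have hyB : x ^ m ∈ B := ((hQmem _).1 hyQ).1
  have hyt : t * x ^ m * t⁻¹ = (x ^ m)⁻¹ := ((hQmem _).1 hyQ).2
  have hyeig : ∀ s ∈ I, s * x ^ m * s⁻¹ = x ^ m ∨ s * x ^ m * s⁻¹ = (x ^ m)⁻¹ := by
    intro s hs
    rcases hxeig s (by simpa using hs) with h | h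
    · left
      rw [Subgroup.mem_bot, mul_inv_eq_one] at h
      rw [← conj_pow, h]
    · right
      rw [Subgroup.mem_bot, mul_eq_one_iff_eq_inv] at h
      rw [← conj_pow, h, inv_pow]
  have hy1 : x ^ m ≠ 1 := by
    intro h
    rw [h, orderOf_one] at hoy
    exact hpp.one_lt.ne hoy
  have hyy : x ^ m * x ^ m ≠ 1 := fun h => hy1 (eq_one_of_sq_of_odd hBodd hyB h)
  -- the new family
  refine ⟨Fin.cons (x ^ m) g, ?_, ?_, ?_, ?_, ?_⟩
  · intro i
    refine Fin.cases ?_ (fun j => ?_) i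
    · simpa using hyB
    · simpa using hgB j
  · intro i
    refine Fin.cases ?_ (fun j => ?_) i
    · simp only [Fin.cons_zero]; rw [hoy]; exact hpp
    · simpa using hgp j
  · intro i
    refine Fin.cases ?_ (fun j => ?_) i
    · simpa using hyeig
    · simpa using hgeig j
  · have hsup : (⨆ i, Subgroup.zpowers ((Fin.cons (x ^ m) g : Fin (k + 1) → G) i))
        = Subgroup.zpowers (x ^ m) ⊔ A := by
      apply le_antisymm
      · refine iSup_le fun i => ?_
        refine Fin.cases ?_ (fun j => ?_) i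
        · simp only [Fin.cons_zero]; exact le_sup_left
        · simp only [Fin.cons_succ]
          exact le_trans (le_iSup (fun i => Subgroup.zpowers (g i)) j) le_sup_right
      · refine sup_le ?_ (iSup_le fun j => ?_)
        · have := le_iSup (fun i => Subgroup.zpowers ((Fin.cons (x ^ m) g : Fin (k + 1) → G) i)) 0
          simpa using this
        · have := le_iSup (fun i => Subgroup.zpowers ((Fin.cons (x ^ m) g : Fin (k + 1) → G) i))
            j.succ
          simpa using this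
    rw [hsup]
    have hAt : A ≤ Subgroup.centralizer {t} := by
      refine iSup_le fun i => ?_
      rw [Subgroup.zpowers_le, Subgroup.mem_centralizer_singleton_iff]
      exact htg i
    have hzy : Subgroup.zpowers (x ^ m) ≤ Q := by
      rw [Subgroup.zpowers_le]; exact hyQ
    have hdisj : Subgroup.zpowers (x ^ m) ⊓ A = ⊥ := by
      rw [eq_bot_iff]
      intro z hz
      rw [Subgroup.mem_inf] at hz
      rw [Subgroup.mem_bot]
      have h1 := ((hQmem z).1 (hzy hz.1))
      have h2 := hAt hz.2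
      rw [Subgroup.mem_centralizer_singleton_iff] at h2
      have h3 : t * z * t⁻¹ = z := by rw [← h2]; group
      have h4 : z = z⁻¹ := h3.symm.trans h1.2
      apply eq_one_of_sq_of_odd hBodd h1.1
      calc z * z = z * z⁻¹ := by rw [← h4]
        _ = 1 := mul_inv_cancel z
    rw [card_sup_of_commute
      (fun a ha c hc => hBab a ((hQmem a).1 (hzy ha)).1 c (hAB hc)) hdisj,
      Nat.card_zpowers, hcard, Fin.prod_univ_succ]
    simp
  · -- the index computation
    set K' : Subgroup G :=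
      I ⊓ Subgroup.centralizer (Set.range (Fin.cons (x ^ m) g : Fin (k + 1) → G)) with hK'
    have hK'mem : ∀ z, z ∈ K' ↔ z ∈ K ∧ x ^ m * z = z * x ^ m := by
      intro z
      rw [hK', hKdef, Fin.range_cons]
      simp only [Subgroup.mem_inf, Subgroup.mem_centralizer_iff, Set.forall_mem_insert]
      tauto
    have hK'K : K' ≤ K := fun z hz => ((hK'mem z).1 hz).1
    have hrel : K'.relIndex K = 2 := by
      rw [Subgroup.relIndex_eq_two_iff_exists_notMem_and']
      refine ⟨t, htK, ?_, ?_⟩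
      · intro h
        have h1 := ((hK'mem t).1 h).2
        apply hyy
        have h2 : t * x ^ m * t⁻¹ = x ^ m := by rw [← h1]; group
        have h3 : x ^ m = (x ^ m)⁻¹ := h2.symm.trans hyt
        calc x ^ m * x ^ m = x ^ m * (x ^ m)⁻¹ := by rw [← h3]
          _ = 1 := mul_inv_cancel _
      · intro c hc
        have hcI : c ∈ I := (Subgroup.mem_inf.mp hc).1
        rcases hyeig c hcI with h | h
        · right
          rw [hK'mem]
          refine ⟨hc, ?_⟩
          calc x ^ m * c = (c * x ^ m * c⁻¹)  * c := by rw [h]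
            _ = c * x ^ m := by group
        · left
          rw [hK'mem]
          refine ⟨K.mul_mem htK hc, ?_⟩
          have h5 : (t * c) * x ^ m * (t * c)⁻¹ = x ^ m := by
            calc (t * c) * x ^ m * (t * c)⁻¹ = t * (c * x ^ m * c⁻¹) * t⁻¹ := by group
              _ = t * (x ^ m)⁻¹ * t⁻¹ := by rw [h]
              _ = (t * x ^ m * t⁻¹)⁻¹ := by group
              _ = x ^ m := by rw [hyt, inv_inv]
          calc x ^ m * (t * c) = ((t * c) * x ^ m * (t * c)⁻¹) * (t * c) := by rw [h5]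
            _ = t * c * x ^ m := by group
    have hmul : Nat.card ↥K' * 2 = Nat.card ↥K := by
      have := Subgroup.relIndex_mul_relIndex ⊥ K' K bot_le hK'K
      rw [Subgroup.relIndex_bot_left, Subgroup.relIndex_bot_left, hrel] at this
      exact this
    calc Nat.card ↥K' * 2 ^ (k + 1) = (Nat.card ↥K' * 2) * 2 ^ k := by ring
      _ = Nat.card ↥K * 2 ^ k := by rw [hmul]
      _ = 2 ^ n := hK

theorem stage_all [Finite G] (I B : Subgroup G) (n : ℕ) (hIn : Nat.card ↥I = 2 ^ n)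
    (hBab : ∀ a ∈ B, ∀ b ∈ B, a * b = b * a) (hBI : ∀ s ∈ I, ∀ x ∈ B, s * x * s⁻¹ ∈ B)
    (hBodd : Odd (Nat.card ↥B)) (hI2 : ∀ s ∈ I, s * s = 1)
    (hIab : ∀ s ∈ I, ∀ r ∈ I, s * r = r * s)
    (hfaith : ∀ t ∈ I, (∀ b ∈ B, t * b = b * t) → t = 1) :
    ∀ k, k ≤ n → Stage I B n k := by
  intro k
  induction k with
  | zero =>
    intro _
    refine ⟨Fin.elim0, fun i => i.elim0, fun i => i.elim0, fun i => i.elim0, ?_, ?_⟩
    · rw [iSup_of_empty, Subgroup.card_bot]
      simp
    · have : I ⊓ Subgroup.centralizer (Set.range (Fin.elim0 : Fin 0 → G)) = I := by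
        ext z
        simp [Subgroup.mem_centralizer_iff]
      rw [this, hIn]
      simp
  | succ k ih =>
    intro hk
    exact stage_succ I B n k (by omega) hBab hBI hBodd hI2 hIab hfaith (ih (by omega))

/-- Let S be a finite solvable group whose Fitting subgroup F(S) has odd order, and let I be an elementary abelian 2-subgroup of S of order 2ⁿ with n ≥ 1. Then F(S) contains subgroups A₁, …, Aₙ of prime order, each normalized by I, pairwise commuting and generating a subgroup A of order |A₁|⋯|Aₙ| (their internal direct product), such that no non-identity element of I centralizes A. -/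
theorem result {S : Type*} [Group S] [Finite S]
    [Group.IsSolvable S] (hF : Odd (Nat.card ↥(Cfsg.fittingSubgroup S)))
    (I : Subgroup S) (hI : Cfsg.IsElementaryAbelian 2 I) (n : ℕ) (hn : 1 ≤ n) (hIn : Nat.card ↥I = 2 ^ n) :
    ∃ f : Fin n → Subgroup S, (∀ i, (Nat.card ↥(f i)).Prime) ∧ (∀ i, f i ≤ Cfsg.fittingSubgroup S) ∧
      (∀ i, I ≤ Subgroup.normalizer ((f i) : Set S)) ∧ (∀ i j, i ≠ j → ∀ a ∈ f i, ∀ b ∈ f j, a * b = b * a) ∧
      Nat.card ↥(⨆ i, f i) = ∏ i, Nat.card ↥(f i) ∧ I ⊓ Subgroup.centralizer ((⨆ i, f i : Subgroup S) : Set S) = ⊥ := by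
  classical
  have hnorm : (Cfsg.fittingSubgroup S).Normal :=
    Cfsg.Agent.Lib.Helper1_Cores.fittingSubgroup_normal
  obtain ⟨hIcomm, hIexp⟩ := hI
  have hI2 : ∀ s ∈ I, s * s = 1 := fun s hs => by
    have := hIexp s hs
    rwa [pow_two] at this
  have hIab : ∀ s ∈ I, ∀ r ∈ I, s * r = r * s := by
    intro s hs r hr
    have := hIcomm.is_comm.comm (⟨s, hs⟩ : ↥I) ⟨r, hr⟩
    exact congrArg Subtype.val this
  obtain ⟨B, ⟨hBF, hBab, hBI⟩, hself⟩ := exists_selfCentralizing (Cfsg.fittingSubgroup S) I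
    (fun s _ x hx => hnorm.conj_mem x hx s) hI2 hIab
  have hBodd : Odd (Nat.card ↥B) :=
    Odd.of_dvd_nat hF (Subgroup.card_dvd_of_le hBF)
  have hfaith : ∀ t ∈ I, (∀ b ∈ B, t * b = b * t) → t = 1 :=
    fun t ht htB => eq_one_of_centralizes hF B hBF hself t (hI2 t ht) htB
  obtain ⟨g, hgB, hgp, hgeig, hcard, hK⟩ :=
    stage_all I B n hIn hBab hBI hBodd hI2 hIab hfaith n le_rfl
  refine ⟨fun i => Subgroup.zpowers (g i), ?_, ?_, ?_, ?_, ?_, ?_⟩
  · intro i
    rw [Nat.card_zpowers]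
    exact hgp i
  · intro i
    rw [Subgroup.zpowers_le]
    exact hBF (hgB i)
  · intro i
    apply le_normalizer_of_conj_mem
    intro s hs z hz
    obtain ⟨j, rfl⟩ := Subgroup.mem_zpowers_iff.mp hz
    rw [← conj_zpow]
    rcases hgeig i s hs with h | h
    · rw [h]; exact Subgroup.zpow_mem_zpowers _ _
    · rw [h]; exact Subgroup.zpow_mem _ (Subgroup.inv_mem _ (Subgroup.mem_zpowers _)) _
  · intro i j _ a ha b hb
    have haB : a ∈ B := (Subgroup.zpowers_le.mpr (hgB i)) ha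
    have hbB : b ∈ B := (Subgroup.zpowers_le.mpr (hgB j)) hb
    exact hBab a haB b hbB
  · rw [hcard]
    refine Finset.prod_congr rfl fun i _ => ?_
    rw [Nat.card_zpowers]
  · have hK1 : Nat.card ↥(I ⊓ Subgroup.centralizer (Set.range g)) = 1 := by
      have h2 : (0 : ℕ) < 2 ^ n := by positivity
      have : Nat.card ↥(I ⊓ Subgroup.centralizer (Set.range g)) * 2 ^ n = 1 * 2 ^ n := by
        rw [hK, one_mul]
      exact Nat.eq_of_mul_eq_mul_right h2 this
    have hbot : I ⊓ Subgroup.centralizer (Set.range g) = ⊥ := Subgroup.card_eq_one.mp hK1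
    rw [eq_bot_iff, ← hbot]
    refine inf_le_inf_left I (Subgroup.centralizer_le ?_)
    rintro _ ⟨i, rfl⟩
    exact (le_iSup (fun i => Subgroup.zpowers (g i)) i) (Subgroup.mem_zpowers (g i))

end Cfsg.Agent.S4408
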