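import Cfsg.Statements.S1470
-- import your own Cfsg.Agent.* helpers here

set_option autoImplicit false
open Cfsg

namespace Cfsg.Agent.S1470

section helpers

theorem key (p q : ℕ) [Fact p.Prime] [Fact q.Prime] {L : Type*} [Field L] [Algebra (ZMod p) L]
    [FiniteDimensional (ZMod p) L] [IsGalois (ZMod p) L] [CharP L p]
    (hfr : Module.finrank (ZMod p) L = q)
    (hinv : ∀ a ∈ {a : L | Algebra.norm (ZMod p) a = 1 ∧ Algebra.norm (ZMod p) (2 - a) = 1}, a⁻¹ ∈ {a : L | Algebra.norm (ZMod p) a = 1 ∧ Algebra.norm (ZMod p) (2 - a) = 1})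
    (h2 : 2 ≤ Set.ncard {a : L | Algebra.norm (ZMod p) a = 1 ∧ Algebra.norm (ZMod p) (2 - a) = 1}) :
    p ≤ q := by
  classical
  have hpp : p.Prime := Fact.out
  have hqp : q.Prime := Fact.out
  set E : Set L := {a : L | Algebra.norm (ZMod p) a = 1 ∧ Algebra.norm (ZMod p) (2 - a) = 1} with hE
  -- elements of E are nonzero
  have hne0 : ∀ a ∈ E, a ≠ 0 := by
    rintro a ⟨ha, -⟩ rfl
    rw [Algebra.norm_zero] at ha
    exact zero_ne_one ha
  -- E closed under a ↦ 2 - a
  have hsymm : ∀ a ∈ E, 2 - a ∈ E := by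
    rintro a ⟨ha1, ha2⟩
    refine ⟨ha2, ?_⟩
    rw [sub_sub_cancel]; exact ha1
  have hphi : ∀ a ∈ E, 2 - a⁻¹ ∈ E := fun a ha => hsymm _ (hinv a ha)
  -- pick a ≠ 1
  obtain ⟨a, haE, ha1⟩ := Set.exists_ne_of_one_lt_ncard (show 1 < E.ncard by omega) (1 : L)
  set c : L := (a - 1)⁻¹ with hc
  have hc0 : c ≠ 0 := inv_ne_zero (sub_ne_zero.mpr ha1)
  -- the chain
  have hchain : ∀ k : ℕ, c + k ≠ 0 ∧ 1 + (c + k)⁻¹ ∈ E := by
    intro k
    induction k with
    | zero =>
      refine ⟨by simpa using hc0, ?_⟩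
      have : 1 + (c + ((0 : ℕ) : L))⁻¹ = a := by
        rw [Nat.cast_zero, add_zero, hc, inv_inv]; ring
      rw [this]; exact haE
    | succ k ih =>
      obtain ⟨h1, h2⟩ := ih
      have hb0 := hne0 _ h2
      have hb : 1 + (c + (k : L))⁻¹ = (c + k + 1) / (c + k) := by
        field_simp
      have h3 : c + (k : L) + 1 ≠ 0 := by
        intro h
        apply hb0
        rw [hb, h, zero_div]
      have h3' : c + ((k + 1 : ℕ) : L) ≠ 0 := by
        push_cast
        rw [← add_assoc]; exact h3
      refine ⟨h3', ?_⟩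
      have := hphi _ h2
      have e : 2 - (1 + (c + (k : L))⁻¹)⁻¹ = 1 + (c + ((k + 1 : ℕ) : L))⁻¹ := by
        rw [hb]
        push_cast
        rw [← add_assoc]
        field_simp
        ring
      rw [e] at this
      exact this
  -- norms are constant
  have hnorm_step : ∀ k : ℕ, Algebra.norm (ZMod p) (c + ((k + 1 : ℕ) : L)) = Algebra.norm (ZMod p) (c + (k : L)) := by
    intro k
    obtain ⟨h1, h2⟩ := hchain k
    have hb : (1 + (c + (k : L))⁻¹) * (c + k) = c + ((k + 1 : ℕ) : L) := by
      push_cast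
      field_simp
      ring
    rw [← hb, map_mul, h2.1, one_mul]
  have hnorm : ∀ k : ℕ, Algebra.norm (ZMod p) (c + (k : L)) = Algebra.norm (ZMod p) c := by
    intro k
    induction k with
    | zero => simp
    | succ k ih => rw [hnorm_step, ih]
  -- the polynomial
  set Q : Polynomial L := ∏ σ : L ≃ₐ[ZMod p] L, (Polynomial.X + Polynomial.C (σ c)) with hQ
  have hQdeg : Q.natDegree = q := by
    rw [hQ, Polynomial.natDegree_prod_of_monic _ _ (fun σ _ => Polynomial.monic_X_add_C _)]
    simp only [Polynomial.natDegree_X_add_C, Finset.sum_const, smul_eq_mul, mul_one, Finset.card_univ]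
    rw [← Nat.card_eq_fintype_card, IsGalois.card_aut_eq_finrank, hfr]
  have hQeval : ∀ k : ℕ, Polynomial.eval (k : L) Q = algebraMap (ZMod p) L (Algebra.norm (ZMod p) c) := by
    intro k
    rw [← hnorm k, Algebra.norm_eq_prod_automorphisms, hQ, Polynomial.eval_prod]
    apply Finset.prod_congr rfl
    intro σ _
    rw [Polynomial.eval_add, Polynomial.eval_X, Polynomial.eval_C, map_add, map_natCast, add_comm]
  set R : Polynomial L := Q - Polynomial.C (algebraMap (ZMod p) L (Algebra.norm (ZMod p) c)) with hR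
  have hRdeg : R.natDegree = q := by rw [hR, Polynomial.natDegree_sub_C, hQdeg]
  have hR0 : R ≠ 0 := by
    intro h
    rw [h, Polynomial.natDegree_zero] at hRdeg
    exact hqp.ne_zero hRdeg.symm
  have hroots : ((Finset.range p).image (Nat.cast : ℕ → L)).val ⊆ R.roots := by
    intro x hx
    rw [Finset.mem_val, Finset.mem_image] at hx
    obtain ⟨k, -, rfl⟩ := hx
    rw [Polynomial.mem_roots hR0, Polynomial.IsRoot, hR, Polynomial.eval_sub, Polynomial.eval_C, hQeval, sub_self]
  have hcard : ((Finset.range p).image (Nat.cast : ℕ → L)).card = p := by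
    rw [Finset.card_image_of_injOn, Finset.card_range]
    have := CharP.natCast_injOn_Iio L p
    intro x hx y hy hxy
    exact this (by simpa using hx) (by simpa using hy) hxy
  have := Polynomial.card_le_degree_of_subset_roots hroots
  rw [hcard, hRdeg] at this
  exact this

end helpers

/-- Let p and q be odd primes with (p^q − 1)/(p − 1) coprime to p − 1, and let E be the set of elements a of the field with p ^ q elements whose norm to the prime field is 1 and for which 2 − a also has norm 1. If a⁻¹ ∈ E for every a ∈ E and E has at least two elements, then p ≤ q. -/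
theorem result (p q : ℕ) [Fact p.Prime] [Fact q.Prime] (hp : p ≠ 2) (hq : q ≠ 2) (hA : Nat.Coprime ((p ^ q - 1) / (p - 1)) (p - 1))
    (hinv : ∀ a ∈ {a : GaloisField p q | Algebra.norm (ZMod p) a = 1 ∧ Algebra.norm (ZMod p) (2 - a) = 1}, a⁻¹ ∈ {a : GaloisField p q | Algebra.norm (ZMod p) a = 1 ∧ Algebra.norm (ZMod p) (2 - a) = 1})
    (h2 : 2 ≤ Set.ncard {a : GaloisField p q | Algebra.norm (ZMod p) a = 1 ∧ Algebra.norm (ZMod p) (2 - a) = 1}) :
    p ≤ q := by
  have hqp : q.Prime := Fact.out
  exact key p q (GaloisField.finrank p hqp.ne_zero) hinv h2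

end Cfsg.Agent.S1470
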