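import Cfsg.Statements.S1471
-- import your own Cfsg.Agent.* helpers here
import Cfsg.Agent.Lib.Helper45_NormPairB
import Cfsg.Agent.Lib.Helper45_NormPairC

set_option autoImplicit false
open Cfsg

namespace Cfsg.Agent.S1471

/-- Let p and q be odd primes with (p^q − 1)/(p − 1) coprime to p − 1. Then there are at least two elements a of the field with p ^ q elements such that both a and 2 − a have norm 1 to the prime field. -/
theorem result (p q : ℕ) [Fact p.Prime] [Fact q.Prime] (hp : p ≠ 2) (hq : q ≠ 2) (hA : Nat.Coprime ((p ^ q - 1) / (p - 1)) (p - 1)) :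
    2 ≤ Set.ncard {a : GaloisField p q | Algebra.norm (ZMod p) a = 1 ∧ Algebra.norm (ZMod p) (2 - a) = 1} := by
  classical
  have hqp : q.Prime := Fact.out
  have hpp : p.Prime := Fact.out
  have hfin : Fintype (GaloisField p q) := Fintype.ofFinite _
  have hset : {a : GaloisField p q | Algebra.norm (ZMod p) a = 1 ∧ Algebra.norm (ZMod p) (2 - a) = 1} =
      ↑(Cfsg.Agent.Lib.Helper45_NormPairB.pairSet p (L := GaloisField p q)) := by
    ext a
    simp [Cfsg.Agent.Lib.Helper45_NormPairB.pairSet]
  rw [hset, Set.ncard_coe_finset]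
  by_cases h3 : q = 3
  · subst h3
    exact Cfsg.Agent.Lib.Helper45_NormPairC.two_le_card_pairSet_cubic p
      (GaloisField.finrank p (by norm_num))
  · have hq4 : 4 ≤ q := by
      have h2 := hqp.two_le
      by_contra hlt
      have : q = 2 ∨ q = 3 := by omega
      rcases this with h | h
      · exact hq h
      · exact h3 h
    apply Cfsg.Agent.Lib.Helper45_NormPairB.two_le_card_pairSet p hp
    rw [← Nat.card_eq_fintype_card, GaloisField.card p q hqp.ne_zero]
    exact Nat.pow_le_pow_right hpp.pos hq4

end Cfsg.Agent.S1471
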