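import Cfsg.Statements.S2800
import Cfsg.Agent.S0108
import Cfsg.Agent.Lib.Helper72_AbelianJ
import Cfsg.Agent.Lib.Helper72_ThompsonStructure
import Cfsg.Agent.Lib.Helper72_TwoCase

set_option autoImplicit false
open Cfsg

namespace Cfsg.Agent.S2800

open Cfsg.Agent.Lib.Helper34_NPC Cfsg.Agent.Lib.Helper35_FrobeniusNPC
  Cfsg.Agent.Lib.Helper72_NPCReduction Cfsg.Agent.Lib.Helper72_ThompsonStructure
  Cfsg.Agent.Lib.Helper72_AbelianJ Cfsg.Agent.Lib.Helper72_Quadratic
  Cfsg.Agent.Lib.Helper51_Offender Cfsg.Agent.S0108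

universe u

open scoped commutatorElement

/-- the class of groups: `p` odd, or `S₄`-free -/
def CS (p : ℕ) : ∀ (X : Type u) [Group X], Prop :=
  fun X _ => p ≠ 2 ∨ ¬ Cfsg.Involves (Equiv.Perm (Fin 4)) X

/-- the terminal configuration is contradictory for odd `p` and for `S₄`-free groups -/
theorem terminal {p : ℕ} [Fact p.Prime] : Terminal.{u} p JA ZF (CS p) := by
  intro X _ _ hCX T hco hcen hq _ hyp
  by_contra hnot
  obtain ⟨hyp1, hyp2⟩ := hyp
  rw [inducedFunctor_ZF] at hyp2
  rw [inducedFunctor_JA] at hyp1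
  obtain ⟨V, K, m, hVn, hVc, hVp, hCV, hKn, hRK, hm, hKm, hKc, stepF⟩ :=
    terminal_structure T hco hcen hq hyp2 hnot
  have hRn : (Cfsg.pCore p X).Normal := Cfsg.pCore_normal p X
  set R := Cfsg.pCore p X with hR
  have hRp : IsPGroup p R := Cfsg.Agent.Lib.Helper76_PSolvable.pCore_isPGroup p
  have hRT : R ≤ (T : Subgroup X) := hRp.le_sylow_of_normal T
  have hVR : V ≤ R := by
    intro v hv
    rw [← hCV, Subgroup.mem_centralizer_iff]
    intro w hw
    exact hVc w hw v hv
  -- `J_A(T) ≰ R`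
  have hJR : ¬ Cfsg.thompsonSubgroupAOf (T : Subgroup X) ≤ R := by
    intro hle
    apply hnot
    set U : Subgroup (T : Subgroup X) := R.subgroupOf (T : Subgroup X) with hU
    have hUJ : Cfsg.thompsonSubgroupA (T : Subgroup X) ≤ U := by
      intro y hy
      rw [hU, Subgroup.mem_subgroupOf]
      exact hle ⟨y, hy, rfl⟩
    have h1 := thompsonSubgroupAOf_eq_of_le (G := (T : Subgroup X)) U hUJ
    have h2 := inducedFunctor_map (isCharPFunctor_JA (p := p)) (T : Subgroup X).subtype U
      (T.2.to_subgroup U) (fun x _ hx => by simpa using hx)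
    have h3 : U.map (T : Subgroup X).subtype = R := by
      rw [hU, Subgroup.subgroupOf_map_subtype, inf_eq_left.mpr hRT]
    rw [h3, inducedFunctor_JA, inducedFunctor_JA, h1] at h2
    have h4 : Cfsg.thompsonSubgroupAOf (T : Subgroup X) = Cfsg.inducedFunctor JA R := by
      rw [inducedFunctor_JA, h2]; rfl
    have h5 := normalizer_le_normalizer_inducedFunctor (isCharPFunctor_JA (p := p)) R hRp
    rw [← h4, Subgroup.normalizer_eq_top_iff.mpr hRn] at h5
    have h6 : Subgroup.normalizer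
        ((Cfsg.thompsonSubgroupAOf (T : Subgroup X) : Subgroup X) : Set X) = ⊤ :=
      top_le_iff.mp h5
    exact hasNPC_top_iff.mp (hasNPC_of_eq h6 hyp1)
  -- an abelian subgroup of largest order not contained in `R`
  have hA : ∃ A' ∈ Cfsg.maxAbelianSubgroups (T : Subgroup X),
      ¬ A'.map (T : Subgroup X).subtype ≤ R := by
    by_contra hcon
    push Not at hcon
    apply hJR
    unfold Cfsg.thompsonSubgroupAOf Cfsg.thompsonSubgroupA
    rw [Subgroup.map_le_iff_le_comap]
    apply sSup_le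
    intro A hA
    rw [← Subgroup.map_le_iff_le_comap]
    exact hcon A hA
  obtain ⟨A', hA'max, hA'R⟩ := hA
  set A : Subgroup X := A'.map (T : Subgroup X).subtype with hAdef
  have hAmax : IsMaxAbIn (T : Subgroup X) A := isMaxAbIn_map hA'max
  have hV : IsMulCommutative V := ⟨⟨fun a b => Subtype.ext (hVc a a.2 b b.2)⟩⟩
  obtain ⟨Q, hQA, hQq, hQR, hQoff⟩ := quad_offender (p := p) hV (hVR.trans hRT) T.2 hAmax
    (by rw [hCV]; exact hA'R)
  rw [hCV] at hQR hQoff
  have hQT : Q ≤ (T : Subgroup X) := hQA.trans hAmax.1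
  by_cases hp2 : p = 2
  · -- the case `p = 2`
    have hS4 : ¬ Cfsg.Involves (Equiv.Perm (Fin 4)) X := hCX.resolve_left (not_not.mpr hp2)
    apply hS4
    subst hp2
    exact Cfsg.Agent.Lib.Helper72_TwoCase.involves_S4_of_offender R V K (T : Subgroup X) hRp T.2
      hRT hVc hVp hCV m (Nat.coprime_two_right.mp hm) hKm hKc stepF Q hQT hQq hQR hQoff
  · -- the case `p` odd
    obtain ⟨x, hxQ, hxR⟩ := SetLike.not_le_iff_exists.mp hQR
    apply hxR
    apply stepF x (hQT hxQ)
    have hKx : ∀ k ∈ K, x⁻¹ * k * x ∈ K := by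
      intro k hk
      have := hKn.conj_mem k hk x⁻¹
      simpa using this
    have hKc' : ∀ k₁ ∈ K, ∀ k₂ ∈ K,
        k₁ * k₂ * k₁⁻¹ * k₂⁻¹ ∈ Subgroup.centralizer (V : Set X) := by
      intro k₁ h₁ k₂ h₂
      rw [hCV]; exact hKc k₁ h₁ k₂ h₂
    have hpow : ∀ k ∈ K, k ^ m ∈ Subgroup.centralizer (V : Set X) := by
      intro k hk
      rw [hCV]; exact hKm k hk
    have hxq : ∀ v ∈ V, x * (x * v * x⁻¹ * v⁻¹) = (x * v * x⁻¹ * v⁻¹) * x := by
      intro v hv
      have h1 := hQq v hv x hxQ x hxQ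
      rw [commutatorElement_eq_one_iff_mul_comm, commutatorElement_def] at h1
      -- `h1 : (v x v⁻¹ x⁻¹) x = x (v x v⁻¹ x⁻¹)`
      have h2 : x * v * x⁻¹ * v⁻¹ = (v * x * v⁻¹ * x⁻¹)⁻¹ := by group
      rw [h2]
      have h3 : Commute x (v * x * v⁻¹ * x⁻¹) := h1.symm
      exact h3.inv_right
    have key := commutator_mem_centralizer_of_quadratic hp2 V hVc hVp x hxq K hKx hKc' m hm hpow
    intro k hk
    rw [← hCV]
    exact key k hk

theorem CS_sub {p : ℕ} (X : Type u) [Group X] (M : Subgroup X) (h : CS p X) : CS p M := by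
  rcases h with h | h
  · exact Or.inl h
  · exact Or.inr (fun hM => h (involves_of_subgroup M hM))

theorem CS_quot {p : ℕ} (X : Type u) [Group X] (N : Subgroup X) [N.Normal] (h : CS p X) :
    CS p (X ⧸ N) := by
  rcases h with h | h
  · exact Or.inl h
  · exact Or.inr (fun hM => h (involves_of_surjective (QuotientGroup.mk' N)
      (QuotientGroup.mk'_surjective N) hM))

/-- Let S be a Sylow p-subgroup of the finite group G and J(S) the subgroup generated by the abelian subgroups of S of largest order. Suppose p is odd, or the symmetric group of degree 4 is not involved in G. If both C_G(Z(S)) and N_G(J(S)) have normal p-complements, then G has a normal p-complement. -/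
theorem result {G : Type*} [Group G] [Finite G] {p : ℕ} [Fact p.Prime] (S : Sylow p G) (h : p ≠ 2 ∨ ¬ Cfsg.Involves (Equiv.Perm (Fin 4)) G) (hC : Cfsg.HasNormalPComplement p ↥(Subgroup.centralizer (((S : Subgroup G) ⊓ Subgroup.centralizer ((S : Subgroup G) : Set G) : Subgroup G) : Set G))) (hN : Cfsg.HasNormalPComplement p ↥(Subgroup.normalizer ((Cfsg.thompsonSubgroupAOf (S : Subgroup G)) : Set G))) : Cfsg.HasNormalPComplement p G := by
  rw [Cfsg.Agent.S0072.hasNPC_iff] at hC hN ⊢
  refine main isCharPFunctor_JA isCharPFunctor_ZF (CS p) (fun X _ M hX => CS_sub X M hX)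
    (fun X _ N _ hX => CS_quot X N hX) terminal _ G rfl h S ⟨?_, ?_⟩
  · rw [inducedFunctor_JA]; exact hN
  · rw [inducedFunctor_ZF]; exact hC

end Cfsg.Agent.S2800
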