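import Cfsg.Statements.S5675
import Cfsg.Agent.Lib.Helper94_OrthReflBridge
import Cfsg.Agent.Lib.Helper44_StdForms
import Cfsg.Agent.Lib.Helper44_FinSq

set_option autoImplicit false
open Cfsg

namespace Cfsg.Agent.S5675

open Cfsg.Agent.Lib.Helper44_StdForms

/-- The standard odd-dimensional quadratic form is non-degenerate over a field in which `2 ≠ 0`. -/
theorem quadFormOdd_nondeg {F : Type*} [Field F] (h2 : (2 : F) ≠ 0) (m : ℕ) :
    Cfsg.Geo.IsNondegenerateQuadraticForm (Cfsg.quadFormOdd m F) := by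
  classical
  have hN : (QuadraticMap.polarBilin (qfOdd m F)).Nondegenerate := by
    refine (LinearMap.BilinForm.nondegenerate_iff_det_ne_zero
      (Pi.basisFun F (Unit ⊕ (Fin m ⊕ Fin m)))).mpr ?_
    have : LinearMap.BilinForm.toMatrix (Pi.basisFun F (Unit ⊕ (Fin m ⊕ Fin m)))
        (QuadraticMap.polarBilin (qfOdd m F))
        = Matrix.of (fun i j : Unit ⊕ (Fin m ⊕ Fin m) =>
            QuadraticMap.polar (Cfsg.quadFormOdd m F) (Pi.single i 1) (Pi.single j 1)) := by
      ext i j
      simp [LinearMap.BilinForm.toMatrix_apply, coe_qfOdd]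
    rw [this, det_gram_quadFormOdd]
    exact mul_ne_zero h2 (pow_ne_zero _ (neg_ne_zero.mpr one_ne_zero))
  have hpol : ∀ u v, QuadraticMap.polar (Cfsg.quadFormOdd m F) u v =
      QuadraticMap.polarBilin (qfOdd m F) u v := by
    intro u v
    rw [QuadraticMap.polarBilin_apply_apply, coe_qfOdd]
  refine ⟨?_, ⟨?_, ?_, ?_, ?_⟩, ?_⟩
  · intro c v
    rw [← coe_qfOdd, QuadraticMap.map_smul, smul_eq_mul, sq]
  · intro x y v
    rw [hpol, hpol, hpol, map_add, LinearMap.add_apply]
  · intro c x v
    rw [hpol, hpol, map_smul, LinearMap.smul_apply, smul_eq_mul]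
  · intro v x y
    rw [hpol, hpol, hpol, map_add]
  · intro c v x
    rw [hpol, hpol, map_smul, smul_eq_mul]
  · intro v hv
    constructor
    · by_contra hcon
      push Not at hcon
      apply hv
      apply hN.2 v
      intro x
      rw [← hpol]
      exact hcon x
    · by_contra hcon
      push Not at hcon
      apply hv
      apply hN.1 v
      intro x
      rw [← hpol]
      exact hcon x

/-- Let F be a finite field of odd order q, m ≥ 6, Q the standard quadratic form on F^(2m+1) and Ω the commutator subgroup of its isometry group. Let W be a non-zero subspace of even dimension on which the polar form of Q is non-degenerate; exclude the case q = 3, dim W = 2 with Q vanishing on some line of W (a plus-type plane). Then the elements of Ω stabilising W (equivalently, stabilising its orthogonal complement, of odd dimension) form a maximal subgroup of Ω. -/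
theorem result {F : Type*} [Field F] [Fintype F] (hodd : Odd (Fintype.card F)) (m : ℕ) (hm : 6 ≤ m) (W : Submodule F (Unit ⊕ (Fin m ⊕ Fin m) → F)) (hW0 : W ≠ ⊥) (hev : Even (Module.finrank F W)) (hW : Cfsg.Geo.IsNondegenerateOn (QuadraticMap.polar (Cfsg.quadFormOdd m F)) W) (hex : ¬ (Fintype.card F = 3 ∧ Module.finrank F W = 2 ∧ Cfsg.Geo.IsPlusTypeOn (Cfsg.quadFormOdd m F) W)) : Cfsg.Geo.IsMaximalIn (Cfsg.Geo.omegaGL (Cfsg.quadFormOdd m F)) (Cfsg.Geo.subspaceStabilizer W ⊓ Cfsg.Geo.omegaGL (Cfsg.quadFormOdd m F)) := by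
  classical
  have h2 : (2 : F) ≠ 0 := Cfsg.Agent.Lib.Helper44_FinSq.two_ne_zero_of_odd_card hodd
  have hQ := quadFormOdd_nondeg h2 m
  have hcard : Fintype.card (Unit ⊕ (Fin m ⊕ Fin m)) = 2 * m + 1 := by
    simp [Fintype.card_sum]; ring
  have hfrV : Module.finrank F (Unit ⊕ (Fin m ⊕ Fin m) → F) = 2 * m + 1 := by
    rw [Module.finrank_pi, hcard]
  obtain ⟨r, hr⟩ := hev
  apply Cfsg.Agent.Lib.Helper94_OrthReflBridge.nondeg_maximal (Cfsg.quadFormOdd m F) hQ
    (fun h => absurd h h2) (by rw [hcard]; omega) W hW0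
  · intro h
    rw [h, finrank_top, hfrV] at hr
    omega
  · rw [hcard]
    omega
  · exact hW
  · rintro ⟨hq3, U, hU2, hUnd, hUp, hUW | ⟨-, hsum⟩⟩
    · apply hex
      refine ⟨?_, by rw [← hUW]; exact hU2, by rw [← hUW]; exact hUp⟩
      have h1 : 1 < Fintype.card F := Fintype.one_lt_card
      obtain ⟨k, hk⟩ := hodd
      omega
    · rw [hcard] at hsum
      omega

end Cfsg.Agent.S5675
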