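import Cfsg.Statements.S5674
import Cfsg.Agent.Lib.Helper94_Bridge
import Cfsg.Agent.Lib.Helper94_OrthBridge
import Cfsg.Agent.Lib.Helper94_OrthSiegel
import Cfsg.Agent.Lib.Helper94_OrthPara
import Cfsg.Agent.Lib.Helper94_OrthSiegelBridge
import Cfsg.Agent.Lib.Helper44_StdForms
import Cfsg.Agent.Lib.Helper44_FinSq

set_option autoImplicit false
open Cfsg

namespace Cfsg.Agent.S5674

open Cfsg.Agent.Lib.Helper94_Symp Cfsg.Agent.Lib.Helper94_Bridge Cfsg.Agent.Lib.Helper94_OrthSmall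
  Cfsg.Agent.Lib.Helper94_OrthBridge Cfsg.Agent.Lib.Helper94_OrthSiegel
  Cfsg.Agent.Lib.Helper94_OrthPara Cfsg.Agent.Lib.Helper94_OrthSiegelBridge
  Cfsg.Agent.Lib.Helper44_StdForms

/-- Let F be a finite field of odd order, m ≥ 6, Q the standard quadratic form x₀² + Σ x_i y_i on F^(2m+1) and Ω the commutator subgroup of its isometry group inside GL_(2m+1)(F). The elements of Ω stabilising a non-zero subspace on which Q vanishes form a maximal subgroup of Ω. -/
theorem result {F : Type*} [Field F] [Fintype F] (hodd : Odd (Fintype.card F)) (m : ℕ) (hm : 6 ≤ m) (W : Submodule F (Unit ⊕ (Fin m ⊕ Fin m) → F)) (hW0 : W ≠ ⊥) (hW : Cfsg.Geo.IsTotallySingularQuad (Cfsg.quadFormOdd m F) W) : Cfsg.Geo.IsMaximalIn (Cfsg.Geo.omegaGL (Cfsg.quadFormOdd m F)) (Cfsg.Geo.subspaceStabilizer W ⊓ Cfsg.Geo.omegaGL (Cfsg.quadFormOdd m F)) := by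
  classical
  have h2 : (2 : F) ≠ 0 := Cfsg.Agent.Lib.Helper44_FinSq.two_ne_zero_of_odd_card hodd
  have h21 : (2 : F) ≠ 1 := by
    intro h
    have : (1 : F) = 0 := by linear_combination h
    exact one_ne_zero this
  rw [← coe_qfOdd] at hW ⊢
  have hQ : (QuadraticMap.polarBilin (qfOdd m F)).Nondegenerate := by
    refine (LinearMap.BilinForm.nondegenerate_iff_det_ne_zero
      (Pi.basisFun F (Unit ⊕ (Fin m ⊕ Fin m)))).mpr ?_
    have : LinearMap.BilinForm.toMatrix (Pi.basisFun F (Unit ⊕ (Fin m ⊕ Fin m)))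
        (QuadraticMap.polarBilin (qfOdd m F))
        = Matrix.of (fun i j : Unit ⊕ (Fin m ⊕ Fin m) =>
            QuadraticMap.polar (Cfsg.quadFormOdd m F) (Pi.single i 1) (Pi.single j 1)) := by
      ext i j
      simp [LinearMap.BilinForm.toMatrix_apply, coe_qfOdd]
    rw [this, det_gram_quadFormOdd]
    exact mul_ne_zero h2 (pow_ne_zero _ (neg_ne_zero.mpr one_ne_zero))
  have hcard : Fintype.card (Unit ⊕ (Fin m ⊕ Fin m)) = 2 * m + 1 := by
    simp [Fintype.card_sum]; ring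
  have hfr : Module.finrank F (Unit ⊕ (Fin m ⊕ Fin m) → F) = 2 * m + 1 := by
    rw [Module.finrank_pi, hcard]
  rw [subspaceStabilizer_eq, omegaGL_eq, ← Subgroup.comap_inf]
  apply isMaximalIn_comap
  exact maximal_stab_ts (⇑(qfOdd m F)) (QuadraticMap.polarBilin (qfOdd m F)) (hQs_of _) (hQp_of _)
    hQ _ (Subgroup.commutator_le_self _)
    (fun u z hu huz => sieg_mem_commutator _ _ (hQs_of _) (hQp_of _) hQ h2 h21 hu huz)
    (fun M hM => commutator_le_closure_sieg h2 (qfOdd m F) hQ (by rw [hcard]; omega) M hM)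
    (by rw [hfr]; omega) W hW0 hW
    (hex_of_dim _ _ (hQs_of _) (hQp_of _) hQ W hW (by rw [hfr]; omega))

end Cfsg.Agent.S5674
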