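import Cfsg.Statements.S3803
import Cfsg.Agent.Lib.Helper86_Coprime2
-- import your own Cfsg.Agent.* helpers here

set_option autoImplicit false
open Cfsg

namespace Cfsg.Agent.S3803

open Cfsg.Agent.Lib.Helper86_Coprime2

/-- Let P be a 2-subgroup and A a subgroup of odd order of a finite group, with A normalizing P. Let D ≤ P with 1 < |D| < |P|. If every subgroup of P of order |D|, and also every subgroup of P of order 4 in case |D| = 2, is normalized by A, then A centralizes P. -/
theorem result {X : Type*} [Group X] [Finite X] (P A D : Subgroup X) (hP : IsPGroup 2 P) (hA : Odd (Nat.card A))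
    (hAP : A ≤ Subgroup.normalizer (P : Set X)) (hDP : D ≤ P) (hD1 : 1 < Nat.card D) (hD2 : Nat.card D < Nat.card P)
    (hinv : ∀ E : Subgroup X, E ≤ P → (Nat.card E = Nat.card D ∨ (Nat.card D = 2 ∧ Nat.card E = 4)) → A ≤ Subgroup.normalizer (E : Set X)) :
    A ≤ Subgroup.centralizer (P : Set X) := by
  classical
  have hp2 : Fact (Nat.Prime 2) := ⟨Nat.prime_two⟩
  intro a haA
  apply mem_of_prime_pow_mem (Subgroup.centralizer (P : Set X)) (orderOf a) a rfl (orderOf_pos a)
  rintro b hb ⟨q, k, hq, hbq⟩
  have hbA : b ∈ A := Subgroup.zpowers_le.mpr haA hb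
  have hq' : Fact q.Prime := ⟨hq⟩
  -- `b` has odd order
  have hbodd : Odd (orderOf b) := by
    have h1 : orderOf b ∣ Nat.card A := by
      have := orderOf_dvd_natCard (⟨b, hbA⟩ : A)
      rwa [Subgroup.orderOf_mk] at this
    exact Odd.of_dvd_nat hA h1
  have hbcop : (orderOf b).Coprime 2 := Nat.coprime_two_right.mpr hbodd
  -- normalization in elementwise form
  have hnorm : ∀ E : Subgroup X, E ≤ P →
      (Nat.card E = Nat.card D ∨ (Nat.card D = 2 ∧ Nat.card E = 4)) → ∀ x ∈ E, b * x * b⁻¹ ∈ E := by
    intro E hE hcard x hx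
    exact (Subgroup.mem_normalizer_iff.mp (hinv E hE hcard hbA) x).mp hx
  have hbP : ∀ x ∈ P, b * x * b⁻¹ ∈ P := by
    intro x hx
    exact (Subgroup.mem_normalizer_iff.mp (hAP hbA) x).mp hx
  -- reduce to `k ≠ 0`
  rcases Nat.eq_zero_or_pos k with hk0 | hkpos
  · rw [hk0, pow_zero, orderOf_eq_one_iff] at hbq
    rw [hbq]; exact Subgroup.one_mem _
  have hq2 : q ≠ 2 := by
    rintro rfl
    rw [hbq] at hbodd
    have : Even (2 ^ k) := (Nat.even_pow' hkpos.ne').mpr even_two
    exact (Nat.not_odd_iff_even.mpr this) hbodd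
  have hbpow : b ^ (q ^ k) = 1 := by rw [← hbq]; exact pow_orderOf_eq_one b
  -- the orders
  obtain ⟨m, hm⟩ := hP.exists_card_eq
  obtain ⟨d, hd⟩ := (hP.to_le hDP).exists_card_eq
  have hd1 : 1 ≤ d := by
    rcases Nat.eq_zero_or_pos d with h | h
    · rw [h, pow_zero] at hd; omega
    · exact h
  have hdm : d < m := by
    rw [hd, hm] at hD2
    exact (Nat.pow_lt_pow_iff_right (by norm_num)).mp hD2
  -- Step 1: `b` centralizes every element of order dividing four
  have hΩ : ∀ y ∈ P, y ^ 4 = 1 → b * y = y * b := by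
    intro y hyP hy4
    have hYP : Subgroup.zpowers y ≤ P := Subgroup.zpowers_le.mpr hyP
    obtain ⟨t, ht2, hty⟩ := (Nat.dvd_prime_pow Nat.prime_two).mp
      (orderOf_dvd_of_pow_eq_one (by rw [show (2 : ℕ) ^ 2 = 4 by norm_num]; exact hy4) :
        orderOf y ∣ 2 ^ 2)
    have hYcard : Nat.card (Subgroup.zpowers y) = 2 ^ t := by rw [Nat.card_zpowers, hty]
    by_cases hd1' : d = 1
    · -- `|D| = 2`
      subst hd1'
      rw [pow_one] at hd
      have ht : t = 0 ∨ t = 1 ∨ t = 2 := by omega
      rcases ht with rfl | rfl | rfl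
      · rw [pow_zero, orderOf_eq_one_iff] at hty
        rw [hty]; simp
      · apply commute_of_conj_mem_zpowers b y hbodd hy4
        exact hnorm _ hYP (Or.inl (by rw [hYcard, hd, pow_one])) y (Subgroup.mem_zpowers y)
      · apply commute_of_conj_mem_zpowers b y hbodd hy4
        exact hnorm _ hYP (Or.inr ⟨hd, by rw [hYcard]; norm_num⟩) y (Subgroup.mem_zpowers y)
    · have hd2 : 2 ≤ d := by omega
      obtain ⟨E, hYE, hEP, hEcard⟩ := exists_between (p := 2) (Subgroup.zpowers y) P hYP hYcard
        (by omega : t ≤ d) (by rw [hm]; exact pow_dvd_pow 2 hdm.le)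
      obtain ⟨F, hEF, hFP, hFcard⟩ := exists_between (p := 2) E P hEP hEcard
        (by omega : d ≤ d + 1) (by rw [hm]; exact pow_dvd_pow 2 hdm)
      have hyE : y ∈ E := hYE (Subgroup.mem_zpowers y)
      have hEnorm : ∀ x ∈ E, b * x * b⁻¹ ∈ E := hnorm E hEP (Or.inl (by rw [hEcard, hd]))
      by_cases hFc : IsCyclic F
      · -- `E` is cyclic, so `⟨y⟩` is `b`-invariant
        have hEc : IsCyclic E := Subgroup.isCyclic_of_le hEF
        apply commute_of_conj_mem_zpowers b y hbodd hy4
        have hg : (⟨b * y * b⁻¹, hEnorm y hyE⟩ : E) ∈ Subgroup.zpowers (⟨y, hyE⟩ : E) := by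
          apply Cfsg.Agent.Lib.Helper50_UniqueInv.mem_of_pow_card_eq_one
          rw [Nat.card_zpowers, Subgroup.orderOf_mk]
          apply Subtype.ext
          rw [Subgroup.coe_pow, Subgroup.coe_one]
          show (b * y * b⁻¹) ^ orderOf y = 1
          rw [conj_pow, pow_orderOf_eq_one]; group
        obtain ⟨i, hi⟩ := Subgroup.mem_zpowers_iff.mp hg
        rw [Subgroup.mem_zpowers_iff]
        refine ⟨i, ?_⟩
        have := congrArg Subtype.val hi
        rw [Subgroup.coe_zpow] at this
        exact this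
      · -- `F` is not cyclic: `b` normalizes all its maximal subgroups
        have hF2 : IsPGroup 2 F := hP.to_le hFP
        have hM : ∀ M : Subgroup X, M ≤ F → 2 * Nat.card M = Nat.card F →
            ∀ x ∈ M, b * x * b⁻¹ ∈ M := by
          intro M hMF hMcard
          apply hnorm M (hMF.trans hFP)
          left
          rw [hFcard, pow_succ'] at hMcard
          rw [hd]; omega
        have hFa : ∀ x ∈ F, b * x * b⁻¹ ∈ F := by
          intro x hxF
          have hxF' : Subgroup.zpowers x ≤ F := Subgroup.zpowers_le.mpr hxF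
          obtain ⟨s, hs⟩ := (hF2.to_le hxF').exists_card_eq
          have hsd : s ≤ d := by
            by_contra hcon
            push Not at hcon
            apply hFc
            have hle : Nat.card F ≤ Nat.card (Subgroup.zpowers x) := by
              rw [hFcard, hs]; exact Nat.pow_le_pow_right (by norm_num) hcon
            have : Subgroup.zpowers x = F := Subgroup.eq_of_le_of_card_ge hxF' hle
            rw [← this]; infer_instance
          obtain ⟨M, hxM, hMF, hMcard⟩ := exists_between (p := 2) (Subgroup.zpowers x) F hxF' hs hsd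
            (by rw [hFcard]; exact pow_dvd_pow 2 (by omega))
          have := hM M hMF (by rw [hMcard, hFcard, pow_succ']) x (hxM (Subgroup.mem_zpowers x))
          exact hMF this
        exact centralizes_of_normalizes_index_two b hq2 hbpow F hF2 hFa hM y (hEF hyE)
  -- Step 2: the Omega_2 lemma
  have hall := centralizes_two_group_of_centralizes_omega2 b hbcop P hP hbP hΩ
  rw [Subgroup.mem_centralizer_iff]
  intro x hx
  exact (hall x hx).symm

end Cfsg.Agent.S3803
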