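import Cfsg.Statements.S0081
import Cfsg.Agent.Lib.Helper84_Tate
import Cfsg.Agent.Lib.Helper1_Frattini
import Cfsg.Agent.Lib.Helper35_FrobeniusNPC
import Cfsg.Agent.S0072

set_option autoImplicit false
open Cfsg

namespace Cfsg.Agent.S0081

open Cfsg.Agent.Lib.Helper35_FrobeniusNPC Cfsg.Agent.Lib.Helper84_Tate
open scoped Pointwise

/-- Homomorphisms from `P` to commutative groups of exponent `p` extend to `P N` when `N ∩ P ≤ Φ(P)`. -/
theorem ext_of_inf_le_frattini {G : Type*} [Group G] [Finite G] {p : ℕ} [Fact p.Prime] (P : Sylow p G)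
    (N : Subgroup G) [N.Normal]
    (h : N ⊓ (P : Subgroup G) ≤ (frattini P).map (P : Subgroup G).subtype)
    (A : Type*) [CommGroup A]
    (δ : ↥(P.subtype (le_sup_left : (P : Subgroup G) ≤ (P : Subgroup G) ⊔ N)) →* A)
    (hA : ∀ a : A, a ^ p = 1) :
    ∃ δ' : ↥((P : Subgroup G) ⊔ N) →* A,
      ∀ x : ↥(P.subtype (le_sup_left : (P : Subgroup G) ≤ (P : Subgroup G) ⊔ N)), δ' x = δ x := by
  have hP₁ : ∀ y : ↥((P : Subgroup G) ⊔ N),
      y ∈ P.subtype (le_sup_left : (P : Subgroup G) ≤ (P : Subgroup G) ⊔ N) ↔ (y : G) ∈ (P : Subgroup G) := by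
    intro y
    show y ∈ ((P.subtype (le_sup_left : (P : Subgroup G) ≤ (P : Subgroup G) ⊔ N) : Sylow p _) : Subgroup _) ↔ _
    rw [Sylow.coe_subtype, Subgroup.mem_subgroupOf]
  -- the inclusion of `P` into the Sylow subgroup of `P N`
  let e : ↥(P : Subgroup G) →* ↥(P.subtype (le_sup_left : (P : Subgroup G) ≤ (P : Subgroup G) ⊔ N)) :=
    { toFun := fun x => ⟨⟨(x : G), le_sup_left (a := (P : Subgroup G)) x.2⟩, (hP₁ _).2 x.2⟩
      map_one' := rfl
      map_mul' := fun _ _ => rfl }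
  have hfr : frattini ↥(P : Subgroup G) ≤ (δ.comp e).ker := by
    apply Cfsg.Agent.Lib.Helper1_Frattini.frattini_le_of_elementary_quotient (p := p)
    · exact Abelianization.commutator_subset_ker _
    · intro x
      rw [MonoidHom.mem_ker, map_pow]
      exact hA _
  let ψ : ↥(P.subtype (le_sup_left : (P : Subgroup G) ≤ (P : Subgroup G) ⊔ N)) →*
      ↥((P : Subgroup G) ⊔ N) ⧸ N.subgroupOf ((P : Subgroup G) ⊔ N) :=
    (QuotientGroup.mk' (N.subgroupOf ((P : Subgroup G) ⊔ N))).comp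
      (P.subtype (le_sup_left : (P : Subgroup G) ≤ (P : Subgroup G) ⊔ N) : Subgroup ↥((P : Subgroup G) ⊔ N)).subtype
  have hψ : Function.Surjective ψ := by
    intro y
    obtain ⟨y, rfl⟩ := QuotientGroup.mk_surjective y
    have hy : (y : G) ∈ ((P : Subgroup G) : Set G) * (N : Set G) := by
      rw [← Subgroup.mul_normal]
      exact y.2
    obtain ⟨x, hx, n, hn, hxn⟩ := Set.mem_mul.1 hy
    refine ⟨⟨⟨x, le_sup_left (a := (P : Subgroup G)) hx⟩, (hP₁ _).2 hx⟩, ?_⟩
    show QuotientGroup.mk _ = QuotientGroup.mk y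
    rw [QuotientGroup.eq, Subgroup.mem_subgroupOf]
    show x⁻¹ * (y : G) ∈ N
    rw [← hxn, inv_mul_cancel_left]
    exact hn
  have hker : ψ.ker ≤ δ.ker := by
    intro x hx
    rw [MonoidHom.mem_ker] at hx ⊢
    have h1 : ((x : ↥((P : Subgroup G) ⊔ N)) : G) ∈ N := by
      have h2 : (x : ↥((P : Subgroup G) ⊔ N)) ∈ N.subgroupOf ((P : Subgroup G) ⊔ N) :=
        (QuotientGroup.eq_one_iff _).1 hx
      exact Subgroup.mem_subgroupOf.1 h2
    have h3 : ((x : ↥((P : Subgroup G) ⊔ N)) : G) ∈ (P : Subgroup G) := (hP₁ _).1 x.2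
    obtain ⟨y, hy, hyx⟩ := h ⟨h1, h3⟩
    have h4 : e y = x := Subtype.ext (Subtype.ext hyx)
    have h5 := hfr hy
    rw [MonoidHom.mem_ker, MonoidHom.comp_apply, h4] at h5
    exact h5
  refine ⟨(MonoidHom.liftOfSurjective ψ hψ ⟨δ, hker⟩).comp
    (QuotientGroup.mk' (N.subgroupOf ((P : Subgroup G) ⊔ N))), fun x => ?_⟩
  exact MonoidHom.liftOfRightInverse_comp_apply ψ (Function.surjInv hψ) (Function.rightInverse_surjInv hψ) ⟨δ, hker⟩ x

/-- If a normal subgroup meets a Sylow p-subgroup P inside the Frattini subgroup of P, then it has a normal p-complement. -/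
theorem result {G : Type*} [Group G] [Finite G] {p : ℕ} [Fact p.Prime] (P : Sylow p G) (N : Subgroup G) [N.Normal] (h : N ⊓ (P : Subgroup G) ≤ (frattini P).map (P : Subgroup G).subtype) : Cfsg.HasNormalPComplement p N := by
  rw [Cfsg.Agent.S0072.hasNPC_iff]
  have hH : HasNPC p ↥((P : Subgroup G) ⊔ N) :=
    hasNPC_of_ext (P.subtype le_sup_left) (fun A _ δ hA => ext_of_inf_le_frattini P N h A δ hA)
  have h1 := hasNPC_subgroup hH (N.subgroupOf ((P : Subgroup G) ⊔ N))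
  obtain ⟨K, hKn, hKc, n, hKi⟩ := h1
  let e : ↥(N.subgroupOf ((P : Subgroup G) ⊔ N)) ≃* ↥N := Subgroup.subgroupOfEquivOfLe le_sup_right
  refine ⟨K.map e.toMonoidHom, hKn.map _ e.surjective, ?_, n, ?_⟩
  · rw [Subgroup.card_map_of_injective e.injective]
    exact hKc
  · rw [Subgroup.index_map_of_bijective e.bijective]
    exact hKi

end Cfsg.Agent.S0081
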