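import Cfsg.Statements.S0734

set_option autoImplicit false
open Cfsg

namespace Cfsg.Agent.S0734

/-- Higman's criterion for primitivity: a transitive action on a finite set is primitive if and only if every non-trivial orbital graph (edges = images of a fixed pair of distinct points) is connected. -/
theorem result {G : Type*} [Group G] {Ω : Type*} [Finite Ω] [MulAction G Ω] [MulAction.IsPretransitive G Ω] [Nontrivial Ω] : MulAction.IsPreprimitive G Ω ↔ ∀ a b : Ω, a ≠ b → (SimpleGraph.fromRel fun x y : Ω => ∃ g : G, g • a = x ∧ g • b = y).Connected := by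
  constructor
  · intro hprim a b hab
    obtain ⟨Γ, hΓ⟩ : ∃ Γ : SimpleGraph Ω,
      Γ = SimpleGraph.fromRel fun x y : Ω => ∃ g : G, g • a = x ∧ g • b = y := ⟨_, rfl⟩
    rw [← hΓ]
    have hadj : ∀ (g : G) (x y : Ω), Γ.Adj x y → Γ.Adj (g • x) (g • y) := by
      intro g x y h
      rw [hΓ, SimpleGraph.fromRel_adj] at h ⊢
      obtain ⟨hxy, h | h⟩ := h
      · obtain ⟨k, rfl, rfl⟩ := h
        exact ⟨fun e => hxy (MulAction.injective g e),
          Or.inl ⟨g * k, mul_smul _ _ _, mul_smul _ _ _⟩⟩
      · obtain ⟨k, rfl, rfl⟩ := h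
        exact ⟨fun e => hxy (MulAction.injective g e),
          Or.inr ⟨g * k, mul_smul _ _ _, mul_smul _ _ _⟩⟩
    have hreach : ∀ (g : G) (x y : Ω), Γ.Reachable x y → Γ.Reachable (g • x) (g • y) := by
      intro g x y h
      exact h.map (⟨fun z => g • z, fun {x y} h => hadj g x y h⟩ : Γ →g Γ)
    let C : Set Ω := {x | Γ.Reachable a x}
    have hC : MulAction.IsBlock G C := by
      rw [MulAction.isBlock_iff_smul_eq_of_mem]
      intro g x hx hgx
      have hx' : Γ.Reachable a x := hx
      have hgx' : Γ.Reachable a (g • x) := hgx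
      have h1 : Γ.Reachable a (g • a) := hgx'.trans (hreach g _ _ hx').symm
      ext y
      constructor
      · rintro ⟨z, hz, rfl⟩
        exact h1.trans (hreach g _ _ hz)
      · intro hy
        refine ⟨g⁻¹ • y, ?_, smul_inv_smul g y⟩
        have h2 : Γ.Reachable (g⁻¹ • (g • a)) (g⁻¹ • a) := hreach g⁻¹ _ _ h1.symm
        rw [inv_smul_smul] at h2
        exact h2.trans (hreach g⁻¹ _ _ hy)
    have htriv := hprim.isTrivialBlock_of_isBlock hC
    have hab_adj : Γ.Adj a b := by
      rw [hΓ, SimpleGraph.fromRel_adj]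
      exact ⟨hab, Or.inl ⟨1, one_smul _ _, one_smul _ _⟩⟩
    rcases htriv with hsub | huniv
    · exact absurd (hsub (show a ∈ C from SimpleGraph.Reachable.refl a)
        (show b ∈ C from hab_adj.reachable)) hab
    · have : Nonempty Ω := ⟨a⟩
      refine ⟨?_⟩
      intro x y
      have hx : x ∈ C := huniv ▸ Set.mem_univ x
      have hy : y ∈ C := huniv ▸ Set.mem_univ y
      exact (SimpleGraph.Reachable.symm hx).trans hy
  · intro h
    refine ⟨?_⟩
    intro B hB
    by_cases hsub : B.Subsingleton
    · exact Or.inl hsub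
    · right
      rw [Set.not_subsingleton_iff] at hsub
      obtain ⟨a, ha, b, hb, hab⟩ := hsub
      have hconn := h a b hab
      obtain ⟨Γ, hΓ⟩ : ∃ Γ : SimpleGraph Ω,
        Γ = SimpleGraph.fromRel fun x y : Ω => ∃ g : G, g • a = x ∧ g • b = y := ⟨_, rfl⟩
      rw [← hΓ] at hconn
      have hrel : ∀ x y : Ω, (∃ g : G, g • a = x ∧ g • b = y) → (x ∈ B ↔ y ∈ B) := by
        rintro x y ⟨g, rfl, rfl⟩
        constructor
        · intro hx
          have := hB.smul_eq_of_mem ha hx
          rw [← this]
          exact Set.smul_mem_smul_set hb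
        · intro hy
          have := hB.smul_eq_of_mem hb hy
          rw [← this]
          exact Set.smul_mem_smul_set ha
      have hadj : ∀ x y : Ω, Γ.Adj x y → (x ∈ B ↔ y ∈ B) := by
        intro x y hxy
        rw [hΓ, SimpleGraph.fromRel_adj] at hxy
        obtain ⟨-, h | h⟩ := hxy
        · exact hrel x y h
        · exact (hrel y x h).symm
      have hwalk : ∀ x y : Ω, Γ.Walk x y → (x ∈ B ↔ y ∈ B) := by
        intro x y w
        induction w with
        | nil => exact Iff.rfl
        | cons h p ih => exact (hadj _ _ h).trans ih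
      ext x
      simp only [Set.mem_univ, iff_true]
      obtain ⟨w⟩ := hconn.preconnected a x
      exact (hwalk a x w).1 ha

end Cfsg.Agent.S0734
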