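import Cfsg.Statements.S1023
import Cfsg.Agent.Lib.Helper36_ChevDataG2
import Cfsg.Agent.Lib.Helper36_ChevDataB2
import Cfsg.Agent.Lib.Helper36_ChevDataD4
import Cfsg.Agent.Lib.Helper36_ChevDataF4
import Cfsg.Agent.Lib.Helper36_ChevDataE6
import Cfsg.Agent.Lib.Helper36_ChevDataE7Add
import Cfsg.Agent.Lib.Helper36_ChevDataE8Add

set_option autoImplicit false
open Cfsg

namespace Cfsg.Agent.S1023

open Cfsg.Lie Cfsg.Lie.ChevalleyDatum Cfsg.Agent.Lib.Helper36_ChevCoeff Cfsg.Agent.Lib.Helper36_ChevAdd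

/-- The seven tabulated data pass the checks of the chain lengths and of the additivity relations. -/
theorem data_facts (D : ChevalleyDatum)
    (hD : D ∈ [chevG2, chevB2, chevD4, chevF4, chevE6, chevE7, chevE8]) :
    ChainLenOK D ∧ AddOK D := by
  simp only [List.mem_cons, List.not_mem_nil, or_false] at hD
  rcases hD with rfl | rfl | rfl | rfl | rfl | rfl | rfl
  · exact ⟨Cfsg.Agent.Lib.Helper36_ChevDataG2.lenOK, Cfsg.Agent.Lib.Helper36_ChevDataG2.addOK⟩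
  · exact ⟨Cfsg.Agent.Lib.Helper36_ChevDataB2.lenOK, Cfsg.Agent.Lib.Helper36_ChevDataB2.addOK⟩
  · exact ⟨Cfsg.Agent.Lib.Helper36_ChevDataD4.lenOK, Cfsg.Agent.Lib.Helper36_ChevDataD4.addOK⟩
  · exact ⟨Cfsg.Agent.Lib.Helper36_ChevDataF4.lenOK, Cfsg.Agent.Lib.Helper36_ChevDataF4.addOK⟩
  · exact ⟨Cfsg.Agent.Lib.Helper36_ChevDataE6.lenOK, Cfsg.Agent.Lib.Helper36_ChevDataE6.addOK⟩
  · exact ⟨Cfsg.Agent.Lib.Helper36_ChevDataE7Add.lenOK, Cfsg.Agent.Lib.Helper36_ChevDataE7Add.addOK⟩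
  · exact ⟨Cfsg.Agent.Lib.Helper36_ChevDataE8Add.lenOK, Cfsg.Agent.Lib.Helper36_ChevDataE8Add.addOK⟩

/-- Additivity of root elements: for every type G₂, B₂, D₄, F₄, E₆, E₇, E₈ and every root `r`, `x_r(t₁) x_r(t₂) = x_r(t₁ + t₂)` as matrices. -/
theorem result {F : Type*} [Field F] (D : Cfsg.Lie.ChevalleyDatum) (hD : D ∈ [Cfsg.Lie.chevG2, Cfsg.Lie.chevB2, Cfsg.Lie.chevD4, Cfsg.Lie.chevF4, Cfsg.Lie.chevE6, Cfsg.Lie.chevE7, Cfsg.Lie.chevE8]) (r : ℕ) (hr : r < D.nroots) (t₁ t₂ : F) :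
    D.x F r t₁ * D.x F r t₂ = D.x F r (t₁ + t₂) := by
  obtain ⟨hlen, hadd⟩ := data_facts D hD
  exact x_add D hlen hadd F r t₁ t₂

end Cfsg.Agent.S1023
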