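import Cfsg.Statements.S1033
import Cfsg.Agent.Lib.Helper36_ChevDataG2H
import Cfsg.Agent.Lib.Helper36_ChevDataB2H
import Cfsg.Agent.Lib.Helper36_ChevDataD4H
import Cfsg.Agent.Lib.Helper36_ChevDataF4H
import Cfsg.Agent.Lib.Helper36_ChevDataE6H
import Cfsg.Agent.Lib.Helper36_ChevDataE7Add
import Cfsg.Agent.Lib.Helper36_ChevDataE7NL
import Cfsg.Agent.Lib.Helper36_ChevDataE7H
import Cfsg.Agent.Lib.Helper36_ChevDataE8Add
import Cfsg.Agent.Lib.Helper36_ChevDataE8NL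
import Cfsg.Agent.Lib.Helper36_ChevDataE8H

set_option autoImplicit false
open Cfsg

namespace Cfsg.Agent.S1033

open Cfsg.Lie Cfsg.Lie.ChevalleyDatum Cfsg.Agent.Lib.Helper36_ChevCoeff Cfsg.Agent.Lib.Helper36_ChevAdd
  Cfsg.Agent.Lib.Helper36_ChevWeyl Cfsg.Agent.Lib.Helper36_ChevH

/-- The seven tabulated data pass the table checks for `n_p(c)` and `h_p(c)`, `p` fundamental. -/
theorem data_facts (D : ChevalleyDatum)
    (hD : D ∈ [chevG2, chevB2, chevD4, chevF4, chevE6, chevE7, chevE8]) :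
    ChainLenOK D ∧ AddOK D ∧ SimpleOK D ∧ ∃ (Nl : NLits), NLitOK D Nl ∧
      ∀ i < D.rank, nCheck D 12 i (Nl.getD i ([], [])).1 = true ∧ hCheck D 12 i (Nl.getD i ([], [])).1 = true := by
  simp only [List.mem_cons, List.not_mem_nil, or_false] at hD
  rcases hD with rfl | rfl | rfl | rfl | rfl | rfl | rfl
  · exact ⟨Cfsg.Agent.Lib.Helper36_ChevDataG2.lenOK, Cfsg.Agent.Lib.Helper36_ChevDataG2.addOK, Cfsg.Agent.Lib.Helper36_ChevDataG2.simpleOK, _, Cfsg.Agent.Lib.Helper36_ChevDataG2.nLitOK, Cfsg.Agent.Lib.Helper36_ChevDataG2H.hOK⟩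
  · exact ⟨Cfsg.Agent.Lib.Helper36_ChevDataB2.lenOK, Cfsg.Agent.Lib.Helper36_ChevDataB2.addOK, Cfsg.Agent.Lib.Helper36_ChevDataB2.simpleOK, _, Cfsg.Agent.Lib.Helper36_ChevDataB2.nLitOK, Cfsg.Agent.Lib.Helper36_ChevDataB2H.hOK⟩
  · exact ⟨Cfsg.Agent.Lib.Helper36_ChevDataD4.lenOK, Cfsg.Agent.Lib.Helper36_ChevDataD4.addOK, Cfsg.Agent.Lib.Helper36_ChevDataD4.simpleOK, _, Cfsg.Agent.Lib.Helper36_ChevDataD4.nLitOK, Cfsg.Agent.Lib.Helper36_ChevDataD4H.hOK⟩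
  · exact ⟨Cfsg.Agent.Lib.Helper36_ChevDataF4.lenOK, Cfsg.Agent.Lib.Helper36_ChevDataF4.addOK, Cfsg.Agent.Lib.Helper36_ChevDataF4.simpleOK, _, Cfsg.Agent.Lib.Helper36_ChevDataF4.nLitOK, Cfsg.Agent.Lib.Helper36_ChevDataF4H.hOK⟩
  · exact ⟨Cfsg.Agent.Lib.Helper36_ChevDataE6.lenOK, Cfsg.Agent.Lib.Helper36_ChevDataE6.addOK, Cfsg.Agent.Lib.Helper36_ChevDataE6.simpleOK, _, Cfsg.Agent.Lib.Helper36_ChevDataE6.nLitOK, Cfsg.Agent.Lib.Helper36_ChevDataE6H.hOK⟩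
  · exact ⟨Cfsg.Agent.Lib.Helper36_ChevDataE7Add.lenOK, Cfsg.Agent.Lib.Helper36_ChevDataE7Add.addOK, Cfsg.Agent.Lib.Helper36_ChevDataE7Lits.simpleOK, _, Cfsg.Agent.Lib.Helper36_ChevDataE7NL.nLitOK, Cfsg.Agent.Lib.Helper36_ChevDataE7H.hOK⟩
  · exact ⟨Cfsg.Agent.Lib.Helper36_ChevDataE8Add.lenOK, Cfsg.Agent.Lib.Helper36_ChevDataE8Add.addOK, Cfsg.Agent.Lib.Helper36_ChevDataE8Lits.simpleOK, _, Cfsg.Agent.Lib.Helper36_ChevDataE8NL.nLitOK, Cfsg.Agent.Lib.Helper36_ChevDataE8H.hOK⟩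

/-- `h_p(c)` (for a fundamental root `p = p_{i+1}` and `c ≠ 0`) is diagonal: it fixes each `h_{p_j}` and scales `e_s` by `c^{A_{p,s}}`. -/
theorem result {F : Type*} [Field F] (D : Cfsg.Lie.ChevalleyDatum) (hD : D ∈ [Cfsg.Lie.chevG2, Cfsg.Lie.chevB2, Cfsg.Lie.chevD4, Cfsg.Lie.chevF4, Cfsg.Lie.chevE6, Cfsg.Lie.chevE7, Cfsg.Lie.chevE8]) (i : ℕ) (hi : i < D.rank) (c : F) (hc : c ≠ 0) :
    D.hMat F (D.simple i) c = Matrix.diagonal (Sum.elim (fun _ => (1 : F)) (fun s : Fin D.nroots => c ^ (D.cartan i s))) := by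
  obtain ⟨hlen, hadd, hsimple, Nl, hNl, hchk⟩ := data_facts D hD
  obtain ⟨h1, h2⟩ := hchk i hi
  rw [hMat_eq_Dg D hlen hadd hsimple F 12 i hi _ _ (hNl i hi) h1 h2 c hc, Dg_inv_eq]

end Cfsg.Agent.S1033
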