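import Cfsg.Statements.S1032
import Cfsg.Agent.S1033
import Cfsg.Agent.Lib.Helper36_ChevDataG2CA
import Cfsg.Agent.Lib.Helper36_ChevDataB2CA
import Cfsg.Agent.Lib.Helper36_ChevDataD4CA
import Cfsg.Agent.Lib.Helper36_ChevDataF4CA
import Cfsg.Agent.Lib.Helper36_ChevDataE6CA
import Cfsg.Agent.Lib.Helper36_ChevDataE7CA
import Cfsg.Agent.Lib.Helper36_ChevDataE8CA

set_option autoImplicit false
open Cfsg

namespace Cfsg.Agent.S1032

open Cfsg.Lie Cfsg.Lie.ChevalleyDatum Cfsg.Agent.Lib.Helper36_ChevCoeff Cfsg.Agent.Lib.Helper36_ChevAdd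
  Cfsg.Agent.Lib.Helper36_ChevWeyl Cfsg.Agent.Lib.Helper36_ChevH Cfsg.Agent.Lib.Helper36_ChevHConj
  Cfsg.Agent.Lib.Helper36_ChevTables

/-- The seven tabulated data pass the check of the additivity of the Cartan integers. -/
theorem cartanAddOK_of_mem (D : ChevalleyDatum)
    (hD : D ∈ [chevG2, chevB2, chevD4, chevF4, chevE6, chevE7, chevE8]) : CartanAddOK D := by
  simp only [List.mem_cons, List.not_mem_nil, or_false] at hD
  rcases hD with rfl | rfl | rfl | rfl | rfl | rfl | rfl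
  · exact Cfsg.Agent.Lib.Helper36_ChevDataG2CA.cartanAddOK
  · exact Cfsg.Agent.Lib.Helper36_ChevDataB2CA.cartanAddOK
  · exact Cfsg.Agent.Lib.Helper36_ChevDataD4CA.cartanAddOK
  · exact Cfsg.Agent.Lib.Helper36_ChevDataF4CA.cartanAddOK
  · exact Cfsg.Agent.Lib.Helper36_ChevDataE6CA.cartanAddOK
  · exact Cfsg.Agent.Lib.Helper36_ChevDataE7CA.cartanAddOK
  · exact Cfsg.Agent.Lib.Helper36_ChevDataE8CA.cartanAddOK

/-- For a fundamental root `p`, a root `s` and `c ≠ 0`: `h_p(c) x_s(t) h_p(c)⁻¹ = x_s(c^{A_{p,s}} t)`, stated as `h_p(c) x_s(t) = x_s(c^{A_{p,s}} t) h_p(c)`. -/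
theorem result {F : Type*} [Field F] (D : Cfsg.Lie.ChevalleyDatum) (hD : D ∈ [Cfsg.Lie.chevG2, Cfsg.Lie.chevB2, Cfsg.Lie.chevD4, Cfsg.Lie.chevF4, Cfsg.Lie.chevE6, Cfsg.Lie.chevE7, Cfsg.Lie.chevE8]) (i s : ℕ) (hi : i < D.rank) (hs : s < D.nroots) (c : F) (hc : c ≠ 0) (t : F) :
    D.hMat F (D.simple i) c * D.x F s t = D.x F s (c ^ (D.cartan i s) * t) * D.hMat F (D.simple i) c := by
  have hh : D.hMat F (D.simple i) c = Dg D F i c⁻¹ := by
    rw [Cfsg.Agent.S1033.result D hD i hi c hc, Dg_inv_eq]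
  exact h_mul_x D (chainOK_of_mem D hD) (cartanAddOK_of_mem D hD) F i hi c hc hh s hs t

end Cfsg.Agent.S1032
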