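import Cfsg.Statements.S1990
import Cfsg.Agent.S2005
import Cfsg.Agent.Lib.Helper34_PStable
import Cfsg.Agent.Lib.Helper34_PStableConfig
import Cfsg.Agent.Lib.Helper1_Cores

set_option autoImplicit false
universe u
open Cfsg

namespace Cfsg.Agent.S1990

open Cfsg.Agent.Lib.Helper34_NPC Cfsg.Agent.Lib.Helper35_FrobeniusNPC
  Cfsg.Agent.Lib.Helper34_PStable Cfsg.Agent.Lib.Helper34_PStableConfig

/-- if `W(T)` controls strong fusion and `C(O_p) ≤ O_p`, then `W(T)` is normal -/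
theorem normal_of_controlsStrongFusion {p : ℕ} [Fact p.Prime]
    {W : ∀ (Q : Type u) [Group Q], Subgroup Q} (hW : Cfsg.IsCharPFunctor.{u} p W)
    {Y : Type u} [Group Y] [Finite Y]
    (hcen : Subgroup.centralizer ((Cfsg.pCore p Y : Subgroup Y) : Set Y) ≤ Cfsg.pCore p Y)
    (T : Sylow p Y)
    (h : Cfsg.ControlsStrongFusion p (Cfsg.inducedFunctor (G := Y) W (T : Subgroup Y))) :
    (Cfsg.inducedFunctor (G := Y) W (T : Subgroup Y)).Normal := by
  obtain ⟨T', _, hctl⟩ := h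
  set U := Cfsg.inducedFunctor (G := Y) W (T : Subgroup Y) with hU
  have hQn : (Cfsg.pCore p Y).Normal := Cfsg.Agent.Lib.Helper1_Cores.pCore_normal p
  have hQT' : Cfsg.pCore p Y ≤ (T' : Subgroup Y) := Cfsg.Agent.Lib.Helper1_Cores.pCore_le_sylow p T'
  have hQT : Cfsg.pCore p Y ≤ (T : Subgroup Y) := Cfsg.Agent.Lib.Helper1_Cores.pCore_le_sylow p T
  have hTN : (T : Subgroup Y) ≤ Subgroup.normalizer (U : Set Y) :=
    Subgroup.le_normalizer.trans (normalizer_le_normalizer_inducedFunctor hW _ T.2)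
  obtain ⟨_, hA⟩ := hctl ((Cfsg.pCore p Y : Subgroup Y) : Set Y) (fun x hx => hQT' hx)
  rw [← Subgroup.normalizer_eq_top_iff, eq_top_iff]
  intro g _
  have himg : (fun a => g * a * g⁻¹) '' ((Cfsg.pCore p Y : Subgroup Y) : Set Y) ⊆
      ((T' : Subgroup Y) : Set Y) := by
    rintro _ ⟨a, ha, rfl⟩
    exact hQT' (hQn.conj_mem a ha g)
  obtain ⟨x, hx, hxa⟩ := hA g himg
  have hc : x⁻¹ * g ∈ Subgroup.centralizer ((Cfsg.pCore p Y : Subgroup Y) : Set Y) := by
    rw [Subgroup.mem_centralizer_iff]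
    intro a ha
    have := hxa a ha
    calc a * (x⁻¹ * g) = x⁻¹ * (x * a * x⁻¹) * g := by group
      _ = x⁻¹ * (g * a * g⁻¹) * g := by rw [this]
      _ = x⁻¹ * g * a := by group
  have h1 : x⁻¹ * g ∈ Subgroup.normalizer (U : Set Y) := hTN (hQT (hcen hc))
  have : g = x * (x⁻¹ * g) := by group
  rw [this]
  exact Subgroup.mul_mem _ hx h1

/-- Let p be an odd prime, G a finite group with Sylow p-subgroup S, and W an isomorphism-invariant p-group functor (W assigns to every group Q a subgroup W(Q), nontrivial whenever Q is a nontrivial finite p-group, and every isomorphism from a finite p-group Q onto a group R carries W(Q) onto W(R)). Suppose N_G(W(S)) has a normal p-complement, and W(T) controls strong fusion in every section G* = K/R of G all of whose sections are p-stable in the normalizer form, for every Sylow p-subgroup T of G*. Then G has a normal p-complement. -/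
theorem result {G : Type u} [Group G] [Finite G] {p : ℕ} [Fact p.Prime] (hp : p ≠ 2) (W : ∀ (Q : Type u) [Group Q], Subgroup Q) (hW : Cfsg.IsCharPFunctor.{u} p W) (S : Sylow p G) (hN : Cfsg.HasNormalPComplement p ↥(Subgroup.normalizer ((Cfsg.inducedFunctor (G := G) W (S : Subgroup G) : Subgroup G) : Set G))) (hctl : ∀ (K R : Subgroup G) [hR : (R.subgroupOf K).Normal], (∀ (K' R' : Subgroup (↥K ⧸ R.subgroupOf K)) [hR' : (R'.subgroupOf K').Normal], Cfsg.IsNormalizerPStable p (↥K' ⧸ R'.subgroupOf K')) → ∀ T : Sylow p (↥K ⧸ R.subgroupOf K), Cfsg.ControlsStrongFusion p (Cfsg.inducedFunctor (G := (↥K ⧸ R.subgroupOf K)) W (T : Subgroup (↥K ⧸ R.subgroupOf K)))) : Cfsg.HasNormalPComplement p G := by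
  rw [Cfsg.Agent.S0072.hasNPC_iff] at hN ⊢
  refine Cfsg.Agent.S2005.main hW _ G rfl S hN ?_
  intro X _ hX
  obtain ⟨K, R, hn, ⟨e⟩⟩ := hX
  have hfin : Finite (↥K ⧸ R.subgroupOf K) := inferInstance
  refine Loc.of_equiv hW e ?_
  intro hcen hnpc T hT
  rw [Cfsg.Agent.S0072.hasNPC_iff] at hnpc
  obtain ⟨N, hNn, hNc, hNi⟩ := hnpc
  have hQn : (Cfsg.pCore p (↥K ⧸ R.subgroupOf K)).Normal :=
    Cfsg.Agent.Lib.Helper1_Cores.pCore_normal p
  have hQp : IsPGroup p (Cfsg.pCore p (↥K ⧸ R.subgroupOf K)) :=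
    Cfsg.Agent.Lib.Helper1_Cores.pCore_isPGroup p
  have hpqp := pqp_of_coatom (Cfsg.pCore p (↥K ⧸ R.subgroupOf K)) hQp N hNc hNi T hT
  have hC : HasPQP p (↥K ⧸ R.subgroupOf K) := ⟨_, _, hpqp⟩
  have hst : ∀ (K' R' : Subgroup (↥K ⧸ R.subgroupOf K)) [hR' : (R'.subgroupOf K').Normal],
      Cfsg.IsNormalizerPStable p (↥K' ⧸ R'.subgroupOf K') := by
    intro K' R' hR'
    obtain ⟨Q₁, K₁, h₁⟩ := hC.section K' R'
    exact isNormalizerPStable hp h₁
  exact normal_of_controlsStrongFusion hW hcen T (hctl K R hst T)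


end Cfsg.Agent.S1990
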