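import Cfsg.Statements.S2007
import Mathlib.GroupTheory.Transfer

set_option autoImplicit false
open Cfsg

namespace Cfsg.Agent.S2007

open Subgroup
open scoped Pointwise

/-- The normalizer of `T` normalizes the centralizer of `T`. -/
theorem conj_mem_centralizer {G : Type*} [Group G] (T : Subgroup G) {n c : G}
    (hn : n ∈ normalizer (T : Set G)) (hc : c ∈ centralizer (T : Set G)) :
    n * c * n⁻¹ ∈ centralizer (T : Set G) := by
  rw [mem_centralizer_iff] at hc ⊢
  intro t ht
  have ht' : n⁻¹ * t * n ∈ T := by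
    have := (mem_normalizer_iff'.mp (Subgroup.inv_mem _ hn) t)
    -- use the standard characterisation
    have h2 := (mem_normalizer_iff.mp (Subgroup.inv_mem _ hn) t).mp ht
    simpa using h2
  have := hc (n⁻¹ * t * n) ht'
  calc t * (n * c * n⁻¹) = n * ((n⁻¹ * t * n) * c) * n⁻¹ := by group
    _ = n * (c * (n⁻¹ * t * n)) * n⁻¹ := by rw [this]
    _ = n * c * n⁻¹ * t := by group

theorem result {G : Type*} [Group G] [Finite G] {p : ℕ} [Fact p.Prime] (S : Sylow p G) (T : Subgroup G) (hTS : T ≤ (S : Subgroup G)) (hTn : (S : Subgroup G) ≤ Subgroup.normalizer ((T : Subgroup G) : Set G)) (hC : (S : Subgroup G) ⊓ Subgroup.centralizer ((T : Subgroup G) : Set G) ≤ T) (hN : ∀ g ∈ Subgroup.normalizer ((T : Subgroup G) : Set G), (orderOf g).Coprime p → g ∈ Subgroup.centralizer ((T : Subgroup G) : Set G)) : Cfsg.HasNormalPComplement p ↥(Subgroup.normalizer ((T : Subgroup G) : Set G)) := by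
  classical
  have hp : p.Prime := Fact.out
  set N : Subgroup G := normalizer (T : Set G) with hNdef
  set C : Subgroup G := centralizer (T : Set G) with hCdef
  have hCN : C ≤ N := by
    intro c hc
    rw [hNdef, mem_normalizer_iff]
    intro t
    rw [hCdef, mem_centralizer_iff] at hc
    constructor
    · intro ht
      have := hc t ht
      have h2 : c * t * c⁻¹ = t := by rw [← this]; group
      rw [h2]; exact ht
    · intro ht
      have := hc _ ht
      -- c t c⁻¹ ∈ T and commutes with c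
      have h2 : t = c * t * c⁻¹ := by
        calc t = c⁻¹ * (c * t * c⁻¹ * c) := by group
          _ = c⁻¹ * (c * (c * t * c⁻¹)) := by rw [this]
          _ = c * t * c⁻¹ := by group
      rw [h2]; exact ht
  -- the Sylow subgroup of N coming from S
  let SN : Sylow p N := S.subtype hTn
  -- every p-element of C commutes with every element of C
  have hcentral : ∀ x ∈ C, (∃ k : ℕ, x ^ (p ^ k) = 1) → ∀ c ∈ C, c * x = x * c := by
    intro x hx ⟨k, hk⟩ c hc
    have hxN : x ∈ N := hCN hx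
    -- the cyclic subgroup generated by x in N is a p-group
    have hpg : IsPGroup p (zpowers (⟨x, hxN⟩ : N)) := by
      rw [IsPGroup.iff_orderOf]  
      intro y
      obtain ⟨y, hy⟩ := y
      obtain ⟨m, rfl⟩ := mem_zpowers_iff.mp hy
      have h1 : ((⟨x, hxN⟩ : N) ^ m) ^ (p ^ k) = 1 := by
        rw [← zpow_natCast, ← zpow_mul, mul_comm, zpow_mul, zpow_natCast]
        have : (⟨x, hxN⟩ : N) ^ (p ^ k) = 1 := Subtype.ext (by simpa using hk)
        rw [this, one_zpow]
      have h2 : orderOf (⟨(⟨x, hxN⟩ : N) ^ m, hy⟩ : zpowers (⟨x, hxN⟩ : N)) ∣ p ^ k := by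
        apply orderOf_dvd_of_pow_eq_one
        exact Subtype.ext h1
      obtain ⟨j, _, hj⟩ := (Nat.dvd_prime_pow hp).mp h2
      exact ⟨j, hj⟩
    obtain ⟨Q, hQ⟩ := hpg.exists_le_sylow
    obtain ⟨n, hn⟩ := MulAction.exists_smul_eq N Q SN
    -- n x n⁻¹ ∈ S
    have h1 : (n : G) * x * (n : G)⁻¹ ∈ (S : Subgroup G) := by
      have hxQ : (⟨x, hxN⟩ : N) ∈ Q := hQ (mem_zpowers _)
      have h2 : n * ⟨x, hxN⟩ * n⁻¹ ∈ (n • Q : Sylow p N) := by
        have h2' : MulAut.conj n • (⟨x, hxN⟩ : N) ∈ MulAut.conj n • (Q : Subgroup N) :=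
          Subgroup.smul_mem_pointwise_smul _ _ _ hxQ
        exact h2'
      rw [hn] at h2
      have h3 : n * ⟨x, hxN⟩ * n⁻¹ ∈ (S : Subgroup G).subgroupOf N := by
        have := Sylow.coe_subtype (P := S) hTn
        rw [← this]; exact h2
      rw [mem_subgroupOf] at h3
      simpa using h3
    have h2 : (n : G) * x * (n : G)⁻¹ ∈ C := conj_mem_centralizer T n.2 hx
    have h3 : (n : G) * x * (n : G)⁻¹ ∈ T := hC (mem_inf.mpr ⟨h1, h2⟩)
    -- c' = n c n⁻¹ ∈ C commutes with n x n⁻¹ ∈ T
    have h4 : (n : G) * c * (n : G)⁻¹ ∈ C := conj_mem_centralizer T n.2 hc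
    rw [hCdef, mem_centralizer_iff] at h4
    have h5 := h4 _ h3
    -- h5 : (n x n⁻¹) * (n c n⁻¹) = (n c n⁻¹) * (n x n⁻¹)
    calc c * x = (n : G)⁻¹ * ((n : G) * c * (n : G)⁻¹ * ((n : G) * x * (n : G)⁻¹)) * n := by group
      _ = (n : G)⁻¹ * ((n : G) * x * (n : G)⁻¹ * ((n : G) * c * (n : G)⁻¹)) * n := by rw [h5]
      _ = x * c := by group
  -- a Sylow p-subgroup of C with N_C(P) ≤ C_C(P)
  let Pc : Sylow p C := default
  have hPc : normalizer (Pc : Set C) ≤ centralizer (Pc : Set C) := by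
    intro g _
    rw [mem_centralizer_iff]
    intro y hy
    obtain ⟨k, hk⟩ := (Pc.2 ⟨y, hy⟩)
    have hk' : (y : G) ^ (p ^ k) = 1 := by
      have := congrArg (fun z : Pc => ((z : C) : G)) hk
      simpa using this
    have := hcentral (y : G) y.2 ⟨k, hk'⟩ (g : G) g.2
    exact Subtype.ext this.symm
  let K0 : Subgroup C := (MonoidHom.transferSylow Pc hPc).ker
  have hK0compl : IsComplement' K0 Pc := MonoidHom.ker_transferSylow_isComplement' Pc hPc
  have hK0card : ¬ p ∣ Nat.card K0 := MonoidHom.not_dvd_card_ker_transferSylow Pc hPc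
  have hK0mem : ∀ c : C, (orderOf c).Coprime p → c ∈ K0 := by
    intro c hc
    rw [MonoidHom.mem_ker]
    have h1 : orderOf (MonoidHom.transferSylow Pc hPc c) ∣ orderOf c := orderOf_map_dvd _ c
    obtain ⟨k, hk⟩ := (IsPGroup.iff_orderOf.mp Pc.2) (MonoidHom.transferSylow Pc hPc c)
    have h2 : (orderOf (MonoidHom.transferSylow Pc hPc c)).Coprime p :=
      Nat.Coprime.coprime_dvd_left h1 hc
    rw [hk] at h2
    have : k = 0 := by
      by_contra hk0
      have := (Nat.coprime_pow_left_iff (Nat.pos_of_ne_zero hk0) p p).mp h2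
      exact hp.one_lt.ne' ((Nat.coprime_self p).mp this)
    rw [this, pow_zero] at hk
    exact orderOf_eq_one_iff.mp hk
  have hK0ord : ∀ c ∈ K0, (orderOf c).Coprime p := by
    intro c hc
    have h1 : orderOf (⟨c, hc⟩ : K0) ∣ Nat.card K0 := orderOf_dvd_natCard _
    have h2 : orderOf (⟨c, hc⟩ : K0) = orderOf c := by
      rw [← Subgroup.orderOf_coe]
    rw [h2] at h1
    exact Nat.Coprime.coprime_dvd_left h1 ((Nat.Prime.coprime_iff_not_dvd hp).mpr hK0card).symm
  -- K as a subgroup of N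
  let ι : C →* N := Subgroup.inclusion hCN
  have hι : Function.Injective ι := Subgroup.inclusion_injective hCN
  let KN : Subgroup N := K0.map ι
  have hKNcard : Nat.card KN = Nat.card K0 := Subgroup.card_map_of_injective hι
  have hKNmem : ∀ g : N, (orderOf g).Coprime p → g ∈ KN := by
    intro g hg
    have hgG : (orderOf (g : G)).Coprime p := by rwa [Subgroup.orderOf_coe]
    have hgC : (g : G) ∈ C := hN g g.2 hgG
    refine ⟨⟨g, hgC⟩, hK0mem _ ?_, Subtype.ext rfl⟩
    have : orderOf (⟨(g : G), hgC⟩ : C) = orderOf (g : G) := by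
      rw [← Subgroup.orderOf_coe]
    rwa [this]
  have hKNord : ∀ g ∈ KN, (orderOf g).Coprime p := by
    rintro _ ⟨c, hc, rfl⟩
    rw [orderOf_injective ι hι]
    exact hK0ord c hc
  have hKNnormal : KN.Normal := by
    refine ⟨fun k hk n => hKNmem _ ?_⟩
    have : orderOf (n * k * n⁻¹) = orderOf k := by
      have := orderOf_injective (MulAut.conj n).toMonoidHom (MulAut.conj n).injective k
      simpa [MulAut.conj_apply] using this
    rw [this]
    exact hKNord k hk
  -- the quotient N ⧸ KN is a p-group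
  have hquot : IsPGroup p (N ⧸ KN) := by
    intro q
    obtain ⟨g, rfl⟩ := QuotientGroup.mk_surjective q
    have hg0 : orderOf g ≠ 0 := (orderOf_pos g).ne'
    obtain ⟨e, m, hm, hem⟩ := Nat.exists_eq_pow_mul_and_not_dvd hg0 p hp.one_lt.ne'
    refine ⟨e, ?_⟩
    rw [← QuotientGroup.mk_pow, QuotientGroup.eq_one_iff]
    apply hKNmem
    have hpe : p ^ e ≠ 0 := pow_ne_zero _ hp.pos.ne'
    rw [orderOf_pow_of_dvd hpe ⟨m, hem⟩, hem, Nat.mul_div_cancel_left m (Nat.pos_of_ne_zero hpe)]
    exact ((Nat.Prime.coprime_iff_not_dvd hp).mpr hm).symm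
  obtain ⟨b, hb⟩ := IsPGroup.iff_card.mp hquot
  have hindex : KN.index = p ^ b := by rw [Subgroup.index_eq_card]; exact hb
  -- arithmetic
  have hKNcop : (Nat.card KN).Coprime p := by
    rw [hKNcard]; exact ((Nat.Prime.coprime_iff_not_dvd hp).mpr hK0card).symm
  obtain ⟨a, ha⟩ := IsPGroup.iff_card.mp SN.2
  have h1 : Nat.card KN * p ^ b = Nat.card N := by rw [← hindex]; exact KN.card_mul_index
  have h2 : Nat.card SN * (SN : Subgroup N).index = Nat.card N := (SN : Subgroup N).card_mul_index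
  have h3 : ¬ p ∣ (SN : Subgroup N).index := SN.not_dvd_index
  have hab : a = b := by
    have e1 : Nat.card KN * p ^ b = p ^ a * (SN : Subgroup N).index := by rw [h1, ← h2, ha]
    have hcop2 : (p ^ a).Coprime (Nat.card KN) := (Nat.Coprime.pow_right a hKNcop).symm
    have hcop3 : (p ^ b).Coprime (SN : Subgroup N).index :=
      Nat.Coprime.pow_left b ((Nat.Prime.coprime_iff_not_dvd hp).mpr h3)
    have d1 : p ^ a ∣ p ^ b := by
      have : p ^ a ∣ Nat.card KN * p ^ b := ⟨_, e1⟩
      exact hcop2.dvd_of_dvd_mul_left this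
    have d2 : p ^ b ∣ p ^ a := by
      have : p ^ b ∣ p ^ a * (SN : Subgroup N).index := ⟨Nat.card KN, by rw [← e1, mul_comm]⟩
      exact hcop3.dvd_of_dvd_mul_right this
    have l1 := (Nat.pow_dvd_pow_iff_le_right hp.one_lt).mp d1
    have l2 := (Nat.pow_dvd_pow_iff_le_right hp.one_lt).mp d2
    omega
  refine ⟨SN, KN, hKNnormal, ?_⟩
  apply isComplement'_of_coprime
  · rw [ha, hab]; exact h1
  · rw [ha]; exact Nat.Coprime.pow_right a hKNcop

end Cfsg.Agent.S2007
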