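import Cfsg.Statements.S0329
import Cfsg.Agent.Lib.Helper37_SzStruct
-- import your own Cfsg.Agent.* helpers here

set_option autoImplicit false
open Cfsg

namespace Cfsg.Agent.S0329

open Cfsg.Agent.Helper37Sz

/-- The stabiliser in the Suzuki group of the ovoid point spanned by `(1,0,0,0)` has order `q² (q - 1)`. -/
theorem result {F : Type*} [Field F] [Fintype F] {m : ℕ} (hm : 1 ≤ m)
    (hF : Fintype.card F = 2 ^ (2 * m + 1)) :
    Nat.card (MulAction.stabilizer (Cfsg.Sz F m) (Cfsg.suzukiPointInfinity F)) =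
      (2 ^ (2 * m + 1)) ^ 2 * (2 ^ (2 * m + 1) - 1) := by
  classical
  have h2 : (2 : F) = 0 := two_eq_zero_of_card hF
  set S : F →+* F := sgHom F m h2 with hSd
  have hSdef : ∀ z, S z = z ^ 2 ^ (m + 1) := fun z => sgHom_apply m h2 z
  have hS : ∀ z, S (S z) = z ^ 2 := fun z => sgHom_sgHom hF h2 z
  -- the parametrisation
  have hmemSz : ∀ (a b : F) (t : Fˣ), uSL S a b * hSL S t ∈ Cfsg.Sz F m := fun a b t =>
    (Cfsg.Sz F m).mul_mem (uSL_mem h2 hS hSdef a b) (hSL_mem hS hSdef t)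
  have hmemStab : ∀ (a b : F) (t : Fˣ),
      (⟨uSL S a b * hSL S t, hmemSz a b t⟩ : Cfsg.Sz F m) ∈
        MulAction.stabilizer (Cfsg.Sz F m) (Cfsg.suzukiPointInfinity F) := by
    intro a b t
    rw [MulAction.mem_stabilizer_iff]
    show (uSL S a b * hSL S t) • Cfsg.suzukiPointInfinity F = _
    rw [smul_inf_eq_iff]
    exact ⟨_, uh_mulVec_pInf a b t⟩
  let Φ : F × F × Fˣ → MulAction.stabilizer (Cfsg.Sz F m) (Cfsg.suzukiPointInfinity F) :=
    fun x => ⟨⟨uSL S x.1 x.2.1 * hSL S x.2.2, hmemSz _ _ _⟩, hmemStab _ _ _⟩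
  have hΦ : Function.Bijective Φ := by
    constructor
    · rintro ⟨a, b, t⟩ ⟨a', b', t'⟩ h
      have h1 : uSL S a b * hSL S t = uSL S a' b' * hSL S t' :=
        congrArg (fun x : MulAction.stabilizer (Cfsg.Sz F m) (Cfsg.suzukiPointInfinity F) =>
          ((x : Cfsg.Sz F m) : Matrix.SpecialLinearGroup (Fin 4) F)) h
      obtain ⟨rfl, rfl, rfl⟩ := uh_injective h2 hS h1
      rfl
    · rintro ⟨⟨g, hg⟩, hstab⟩
      rw [MulAction.mem_stabilizer_iff] at hstab
      have hstab' : g • Cfsg.suzukiPointInfinity F = Cfsg.suzukiPointInfinity F := hstab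
      rw [smul_inf_eq_iff] at hstab'
      obtain ⟨c, hc⟩ := hstab'
      obtain ⟨a, b, t, rfl⟩ := stab_inf_struct hm hF h2 hS hSdef hg hc
      exact ⟨(a, b, t), rfl⟩
  rw [← Nat.card_congr (Equiv.ofBijective Φ hΦ), Nat.card_prod, Nat.card_prod, Nat.card_units,
    Nat.card_eq_fintype_card, hF]
  ring

end Cfsg.Agent.S0329
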