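import Cfsg.Statements.S0324
import Cfsg.Agent.Lib.Helper37_SzTrans
import Cfsg.Agent.S0326
import Cfsg.Agent.S0329
-- import your own Cfsg.Agent.* helpers here

set_option autoImplicit false
open Cfsg

namespace Cfsg.Agent.S0324

open Cfsg.Agent.Helper37Sz

/-- The Suzuki group over a field with `q = 2^(2m+1)` elements, `m ≥ 1`, has order `q² (q² + 1) (q - 1)`. -/
theorem result {F : Type*} [Field F] [Fintype F] {m : ℕ} (hm : 1 ≤ m)
    (hF : Fintype.card F = 2 ^ (2 * m + 1)) :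
    Nat.card (Cfsg.Sz F m) = (2 ^ (2 * m + 1)) ^ 2 * ((2 ^ (2 * m + 1)) ^ 2 + 1) * (2 ^ (2 * m + 1) - 1) := by
  classical
  have h2 : (2 : F) = 0 := two_eq_zero_of_card hF
  set S : F →+* F := sgHom F m h2 with hSd
  have hSdef : ∀ z, S z = z ^ 2 ^ (m + 1) := fun z => sgHom_apply m h2 z
  have hS : ∀ z, S (S z) = z ^ 2 := fun z => sgHom_sgHom hF h2 z
  have horb := orbit_inf_eq (F := F) (m := m) h2 hS hSdef
  have h1 := Nat.card_congr (MulAction.orbitEquivQuotientStabilizer (Cfsg.Sz F m)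
    (Cfsg.suzukiPointInfinity F))
  have h3 := Subgroup.card_eq_card_quotient_mul_card_subgroup
    (MulAction.stabilizer (Cfsg.Sz F m) (Cfsg.suzukiPointInfinity F))
  rw [← h1, horb, Cfsg.Agent.S0326.result, Cfsg.Agent.S0329.result hm hF, hF] at h3
  rw [h3]
  ring

end Cfsg.Agent.S0324
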