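import Cfsg.Statements.S0331
import Cfsg.Agent.Lib.Helper6_SzCent

set_option autoImplicit false
open Cfsg

namespace Cfsg.Agent.S0331

open Cfsg.Agent.Helper37Sz Cfsg.Agent.Lib.Helper6_SzCent

/-- For every odd prime `p` the Sylow `p`-subgroups of the Suzuki group are cyclic. -/
theorem result {F : Type*} [Field F] [Fintype F] {m : ℕ} (hm : 1 ≤ m)
    (hF : Fintype.card F = 2 ^ (2 * m + 1)) {p : ℕ} [Fact p.Prime] (hp : p ≠ 2)
    (P : Sylow p (Cfsg.Sz F m)) : IsCyclic P := by
  classical
  have h2 : (2 : F) = 0 := two_eq_zero_of_card hF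
  set S : F →+* F := sgHom F m h2 with hSd
  have hSdef : ∀ z, S z = z ^ 2 ^ (m + 1) := fun z => sgHom_apply m h2 z
  have hS : ∀ z, S (S z) = z ^ 2 := fun z => sgHom_sgHom hF h2 z
  have hpp : p.Prime := Fact.out
  haveI : Finite (Cfsg.suzukiOvoid F m) := (Set.toFinite _).to_subtype
  by_cases hpq : p ∣ Fintype.card F ^ 2 + 1
  · -- `P` centralises an element of order `p`, whose centraliser is cyclic
    by_cases htriv : Nontrivial P
    · have hPG : IsPGroup p P := P.isPGroup'
      haveI := hPG.center_nontrivial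
      have hcz : IsPGroup p (Subgroup.center P) := hPG.to_subgroup _
      obtain ⟨n, hn0, hn⟩ := hcz.nontrivial_iff_card.mp inferInstance
      have hdvd : p ∣ Nat.card (Subgroup.center P) := hn.symm ▸ dvd_pow_self _ (ne_of_gt hn0)
      obtain ⟨z, hz⟩ := exists_prime_orderOf_dvd_card' p hdvd
      set x : Cfsg.Sz F m := ((z : P) : Cfsg.Sz F m) with hx
      have hxo : orderOf x = p := by
        rw [hx, Subgroup.orderOf_coe, Subgroup.orderOf_coe, hz]
      haveI := isCyclic_centralizer_of_orderOf_prime hp hpq x hxo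
      refine Subgroup.isCyclic_of_le (H' := Subgroup.centralizer ({x} : Set (Cfsg.Sz F m))) ?_
      intro c hc
      rw [Subgroup.mem_centralizer_iff]
      intro y hy
      rw [Set.mem_singleton_iff] at hy
      rw [hy]
      have hzc := z.2
      rw [Subgroup.mem_center_iff] at hzc
      have := hzc ⟨c, hc⟩
      exact (congrArg Subtype.val this).symm
    · rw [not_nontrivial_iff_subsingleton] at htriv
      exact isCyclic_of_subsingleton
  · -- `P` fixes two points, so it is conjugate into the torus
    have hPG : IsPGroup p P := P.isPGroup'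
    have hcard := hPG.card_modEq_card_fixedPoints (Cfsg.suzukiOvoid F m)
    rw [Cfsg.Agent.S0326.result] at hcard
    have hne0 : Nat.card (MulAction.fixedPoints P (Cfsg.suzukiOvoid F m)) ≠ 0 := by
      intro h
      rw [h] at hcard
      exact hpq ((Nat.modEq_zero_iff_dvd).1 hcard)
    have hne1 : Nat.card (MulAction.fixedPoints P (Cfsg.suzukiOvoid F m)) ≠ 1 := by
      intro h
      rw [h] at hcard
      have h3 : p ∣ Fintype.card F ^ 2 := by
        have := (Nat.modEq_iff_dvd' (by omega)).1 hcard.symm
        simpa using this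
      rw [hF] at h3
      have h4 := hpp.dvd_of_dvd_pow (hpp.dvd_of_dvd_pow h3)
      exact hp ((Nat.prime_dvd_prime_iff_eq hpp Nat.prime_two).1 h4)
    have hlt : 1 < Nat.card (MulAction.fixedPoints P (Cfsg.suzukiOvoid F m)) := by omega
    rw [Finite.one_lt_card_iff_nontrivial] at hlt
    obtain ⟨⟨a, ha⟩, ⟨b, hb⟩, hab⟩ := exists_pair_ne (MulAction.fixedPoints P (Cfsg.suzukiOvoid F m))
    have hab' : a ≠ b := fun h => hab (Subtype.ext h)
    rw [MulAction.mem_fixedPoints] at ha hb
    obtain ⟨k, hka, hkb⟩ := exists_smul_pair h2 hS hSdef hab'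
    have key : ∀ x : P, ∃ s : Fˣ, k * (x : Cfsg.Sz F m) * k⁻¹ = hQ hS hSdef s := by
      intro x
      have h1 : (k * (x : Cfsg.Sz F m) * k⁻¹) • ptInf F m = ptInf F m := by
        rw [← hka, ← mul_smul, inv_mul_cancel_right, mul_smul]
        congr 1
        exact ha x
      have h0 : (k * (x : Cfsg.Sz F m) * k⁻¹) • ptAff hSdef 0 0 = ptAff hSdef 0 0 := by
        rw [← hkb, ← mul_smul, inv_mul_cancel_right, mul_smul]
        congr 1
        exact hb x
      exact fix_two_eq_hQ hm hF h2 hS hSdef h1 h0
    -- the torus as a subgroup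
    let hQhom : Fˣ →* Cfsg.Sz F m :=
      { toFun := hQ hS hSdef
        map_one' := hQ_one hS hSdef
        map_mul' := fun t t' => (hQ_mul hS hSdef t t').symm }
    haveI : IsCyclic hQhom.range :=
      isCyclic_of_surjective hQhom.rangeRestrict hQhom.rangeRestrict_surjective
    let ψ : P →* hQhom.range :=
      { toFun := fun x => ⟨k * (x : Cfsg.Sz F m) * k⁻¹, by
          obtain ⟨s, hs⟩ := key x
          exact ⟨s, hs.symm⟩⟩
        map_one' := by
          apply Subtype.ext
          simp
        map_mul' := fun x y => by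
          apply Subtype.ext
          simp }
    have hψ : Function.Injective ψ := by
      intro x y hxy
      have h1 : k * (x : Cfsg.Sz F m) * k⁻¹ = k * (y : Cfsg.Sz F m) * k⁻¹ :=
        congrArg Subtype.val hxy
      exact Subtype.ext (mul_left_cancel (mul_right_cancel h1))
    exact isCyclic_of_injective ψ hψ

end Cfsg.Agent.S0331
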