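import Cfsg.Statements.S0327
import Cfsg.Agent.Lib.Helper37_SzZass
-- import your own Cfsg.Agent.* helpers here

set_option autoImplicit false
open Cfsg

namespace Cfsg.Agent.S0327

open Cfsg.Agent.Helper37Sz

/-- The Suzuki group (`m ≥ 1`) is a Zassenhaus group on the `q² + 1` points of the Suzuki–Tits ovoid. -/
theorem result {F : Type*} [Field F] [Fintype F] {m : ℕ} (hm : 1 ≤ m)
    (hF : Fintype.card F = 2 ^ (2 * m + 1)) :
    Cfsg.IsZassenhausGroup (Cfsg.Sz F m) (Cfsg.suzukiOvoid F m) := by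
  classical
  have h2 : (2 : F) = 0 := two_eq_zero_of_card hF
  set S : F →+* F := sgHom F m h2 with hSd
  have hSdef : ∀ z, S z = z ^ 2 ^ (m + 1) := fun z => sgHom_apply m h2 z
  have hS : ∀ z, S (S z) = z ^ 2 := fun z => sgHom_sgHom hF h2 z
  have hq : 2 < Fintype.card F := by
    rw [hF]
    calc 2 = 2 ^ 1 := by norm_num
      _ < 2 ^ (2 * m + 1) := Nat.pow_lt_pow_right (by norm_num) (by omega)
  obtain ⟨τ, hτ0, hτ⟩ := exists_S_ne hS hq
  have hτ1 : τ ≠ 1 := by
    rintro rfl
    exact hτ (map_one S)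
  -- three distinct points
  have h01 : ptAff hSdef (0 : F) 0 ≠ ptAff hSdef 1 0 := by
    intro h
    exact zero_ne_one (ptAff_inj hSdef h).1
  have hthree : ∀ g : Cfsg.Sz F m, (∀ p : Cfsg.suzukiOvoid F m, g • p = p) → g = 1 := by
    intro g hg
    exact three_pt_trivial hm hF h2 hS hSdef g (ptAff_ne_ptInf hSdef 0 0).symm h01
      (ptAff_ne_ptInf hSdef 1 0).symm (hg _) (hg _) (hg _)
  refine ⟨⟨?_⟩, ?_, ?_, ?_, ?_⟩
  · -- faithful
    intro g₁ g₂ h
    have : g₂⁻¹ * g₁ = 1 := by
      apply hthree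
      intro p
      rw [mul_smul, h p, ← mul_smul, inv_mul_cancel, one_smul]
    calc g₁ = g₂ * (g₂⁻¹ * g₁) := by group
      _ = g₂ := by rw [this, mul_one]
  · -- 2-transitive
    rw [MulAction.is_two_pretransitive_iff]
    intro a b c d hab hcd
    obtain ⟨g₁, h1a, h1b⟩ := exists_smul_pair h2 hS hSdef hab
    obtain ⟨g₂, h2c, h2d⟩ := exists_smul_pair h2 hS hSdef hcd
    refine ⟨g₂⁻¹ * g₁, ?_, ?_⟩
    · rw [mul_smul, h1a, ← h2c, ← mul_smul, inv_mul_cancel, one_smul]
    · rw [mul_smul, h1b, ← h2d, ← mul_smul, inv_mul_cancel, one_smul]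
  · -- three-point stabilisers are trivial
    intro g a b c hab hbc hac ha hb hc
    exact three_pt_trivial hm hF h2 hS hSdef g hab hbc hac ha hb hc
  · -- a non-identity element fixing two points
    refine ⟨hQ hS hSdef (Units.mk0 τ hτ0), ?_, ptInf F m, ptAff hSdef 0 0,
      (ptAff_ne_ptInf hSdef 0 0).symm, hQ_smul_ptInf hS hSdef _, ?_⟩
    · intro h
      have h1 : hSL S (Units.mk0 τ hτ0) = hSL S 1 := by
        rw [hSL_one]
        exact congrArg Subtype.val h
      have := hSL_injective h1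
      exact hτ1 (congrArg Units.val this)
    · rw [hQ_smul_ptAff, mul_zero, mul_zero]
  · -- no regular normal subgroup
    intro N hN htrans
    exact no_regular_normal hm hF h2 hS hSdef N hN htrans

end Cfsg.Agent.S0327
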