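-- Statement S0254: PSL_2(9) is isomorphic to A_6.
import Cfsg.Statements.S0254
import Cfsg.Agent.S0243
import Cfsg.Agent.Lib.Helper61_TableHom
import Cfsg.Agent.Lib.Helper61_PSL29Table

set_option autoImplicit false
open Cfsg

namespace Cfsg.Agent.S0254

open Matrix Cfsg.Agent.Lib.Helper61_TableHom Cfsg.Agent.Lib.Helper61_F9
  Cfsg.Agent.Lib.Helper61_PSL29Table

local notation "G9" => SpecialLinearGroup (Fin 2) F9

theorem det_entries (g : G9) : g.1 0 0 * g.1 1 1 - g.1 0 1 * g.1 1 0 = 1 := by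
  have := g.2
  rwa [Matrix.det_fin_two] at this

theorem det_entries' (g : G9) : g.1 1 1 * g.1 0 0 - -g.1 0 1 * -g.1 1 0 = 1 := by
  have := det_entries g
  rw [neg_mul_neg, mul_comm (g.1 1 1)]
  exact this

/-- The underlying map of the isomorphism. -/
def φ (g : G9) : Equiv.Perm (Fin 6) where
  toFun := dig (look (g.1 0 0) (g.1 0 1) (g.1 1 0) (g.1 1 1))
  invFun := dig (look (g.1 1 1) (-g.1 0 1) (-g.1 1 0) (g.1 0 0))
  left_inv := inv_check _ _ _ _ (det_entries g)
  right_inv := by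
    have := inv_check _ _ _ _ (det_entries' g)
    rw [neg_neg, neg_neg] at this
    exact this

theorem φ_apply (g : G9) (i : Fin 6) :
    φ g i = dig (look (g.1 0 0) (g.1 0 1) (g.1 1 0) (g.1 1 1)) i := rfl

def U (x : F9) : G9 := ⟨!![1, x; 0, 1], by simp [Matrix.det_fin_two_of]⟩
def L (x : F9) : G9 := ⟨!![1, 0; x, 1], by simp [Matrix.det_fin_two_of]⟩

theorem U_val (x : F9) : (U x).1 = !![1, x; 0, 1] := rfl
theorem L_val (x : F9) : (L x).1 = !![1, 0; x, 1] := rfl

theorem eta2 (M : Matrix (Fin 2) (Fin 2) F9) : M = !![M 0 0, M 0 1; M 1 0, M 1 1] := by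
  ext i j; fin_cases i <;> fin_cases j <;> rfl

theorem φ_one : φ 1 = 1 := by
  ext i
  rw [φ_apply]
  have h00 : (1 : G9).1 0 0 = 1 := by simp
  have h01 : (1 : G9).1 0 1 = 0 := by simp
  have h10 : (1 : G9).1 1 0 = 0 := by simp
  have h11 : (1 : G9).1 1 1 = 1 := by simp
  rw [h00, h01, h10, h11, look_one, dig_one]
  rfl

theorem φ_mul_U (g : G9) (x : F9) : φ (g * U x) = φ g * φ (U x) := by
  ext i
  rw [Equiv.Perm.mul_apply, φ_apply, φ_apply, φ_apply]
  have h := (gen_check _ _ _ _ (det_entries g) x).1 i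
  have hm : (g * U x).1 = !![g.1 0 0, g.1 0 0 * x + g.1 0 1; g.1 1 0, g.1 1 0 * x + g.1 1 1] := by
    rw [Matrix.SpecialLinearGroup.coe_mul, U_val]
    conv_lhs => rw [eta2 g.1]
    rw [Matrix.mul_fin_two]
    simp
  rw [hm, U_val]
  simp only [Matrix.of_apply, Matrix.cons_val', Matrix.cons_val_zero, Matrix.cons_val_one,
    Matrix.cons_val_fin_one]
  rw [h]

theorem φ_mul_L (g : G9) (x : F9) : φ (g * L x) = φ g * φ (L x) := by
  ext i
  rw [Equiv.Perm.mul_apply, φ_apply, φ_apply, φ_apply]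
  have h := (gen_check _ _ _ _ (det_entries g) x).2 i
  have hm : (g * L x).1 = !![g.1 0 0 + g.1 0 1 * x, g.1 0 1; g.1 1 0 + g.1 1 1 * x, g.1 1 1] := by
    rw [Matrix.SpecialLinearGroup.coe_mul, L_val]
    conv_lhs => rw [eta2 g.1]
    rw [Matrix.mul_fin_two]
    simp
  rw [hm, L_val]
  simp only [Matrix.of_apply, Matrix.cons_val', Matrix.cons_val_zero, Matrix.cons_val_one,
    Matrix.cons_val_fin_one]
  rw [h]

def gens : Set G9 := Set.range U ∪ Set.range L

theorem mem_closure_of_ne_zero (h : G9) (hc : h.1 1 0 ≠ 0) : h ∈ Subgroup.closure gens := by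
  obtain ⟨x, y, h1, h2, h3⟩ := decomp _ _ _ _ (det_entries h) hc
  have : h = U x * L (h.1 1 0) * U y := by
    apply Subtype.ext
    rw [Matrix.SpecialLinearGroup.coe_mul, Matrix.SpecialLinearGroup.coe_mul, U_val, L_val, U_val,
      Matrix.mul_fin_two, Matrix.mul_fin_two]
    conv_lhs => rw [eta2 h.1]
    rw [← h1, ← h2, ← h3]
    simp
  rw [this]
  refine mul_mem (mul_mem ?_ ?_) ?_
  · exact Subgroup.subset_closure (Or.inl ⟨x, rfl⟩)
  · exact Subgroup.subset_closure (Or.inr ⟨_, rfl⟩)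
  · exact Subgroup.subset_closure (Or.inl ⟨y, rfl⟩)

theorem closure_gens : Subgroup.closure gens = ⊤ := by
  rw [eq_top_iff]
  intro h _
  by_cases hc : h.1 1 0 = 0
  · have hd := det_entries h
    rw [hc, mul_zero, sub_zero] at hd
    have ha : h.1 0 0 ≠ 0 := by
      intro h0; rw [h0, zero_mul] at hd; exact zero_ne_one hd
    have h2 : (L 1 * h) ∈ Subgroup.closure gens := by
      apply mem_closure_of_ne_zero
      have : (L 1 * h).1 1 0 = h.1 0 0 + h.1 1 0 := by
        rw [Matrix.SpecialLinearGroup.coe_mul, L_val]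
        simp [Matrix.mul_apply, Fin.sum_univ_two]
      rw [this, hc, add_zero]; exact ha
    have h3 : (L 1)⁻¹ ∈ Subgroup.closure gens :=
      inv_mem (Subgroup.subset_closure (Or.inr ⟨1, rfl⟩))
    have := mul_mem h3 h2
    rwa [inv_mul_cancel_left] at this
  · exact mem_closure_of_ne_zero h hc

theorem φ_mul (g h : G9) : φ (g * h) = φ g * φ h := by
  refine map_mul_of_closure φ gens closure_gens φ_one ?_ g h
  rintro g s (⟨x, rfl⟩ | ⟨x, rfl⟩)
  · exact φ_mul_U g x
  · exact φ_mul_L g x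

def φhom : G9 →* Equiv.Perm (Fin 6) := MonoidHom.mk' φ φ_mul

theorem φhom_ker : φhom.ker = Subgroup.center G9 := by
  ext g
  rw [MonoidHom.mem_ker, Matrix.SpecialLinearGroup.mem_center_iff]
  constructor
  · intro h
    have h1 : ∀ i, dig (look (g.1 0 0) (g.1 0 1) (g.1 1 0) (g.1 1 1)) i = i := by
      intro i
      have : φ g = 1 := h
      rw [← φ_apply, this]; rfl
    rcases ker_check _ _ _ _ (det_entries g) h1 with ⟨a, b, c, d⟩ | ⟨a, b, c, d⟩
    · refine ⟨1, one_pow _, ?_⟩
      rw [eta2 g.1, a, b, c, d]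
      ext i j; fin_cases i <;> fin_cases j <;> simp
    · refine ⟨-1, by simp, ?_⟩
      rw [eta2 g.1, a, b, c, d]
      ext i j; fin_cases i <;> fin_cases j <;> simp
  · rintro ⟨r, hr, hg⟩
    have hr2 : r ^ 2 = 1 := by simpa using hr
    have e00 : g.1 0 0 = r := by rw [← hg]; simp
    have e01 : g.1 0 1 = 0 := by rw [← hg]; simp
    have e10 : g.1 1 0 = 0 := by rw [← hg]; simp
    have e11 : g.1 1 1 = r := by rw [← hg]; simp
    change φ g = 1
    ext i
    rw [φ_apply, e00, e01, e10, e11]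
    rcases sq_eq_one9 r hr2 with rfl | rfl
    · rw [look_one, dig_one]; rfl
    · rw [look_neg_one, dig_one]; rfl

theorem sign_eq_one_of_cube {σ : Equiv.Perm (Fin 6)} (h : σ ^ 3 = 1) : Equiv.Perm.sign σ = 1 := by
  have h3 : (Equiv.Perm.sign σ) ^ 3 = 1 := by rw [← map_pow, h, map_one]
  rcases Int.units_eq_one_or (Equiv.Perm.sign σ) with h1 | h1
  · exact h1
  · rw [h1] at h3; exact absurd h3 (by decide)

theorem φ_U_cube (x : F9) : φ (U x) ^ 3 = 1 := by
  ext i
  rw [pow_succ, pow_two, Equiv.Perm.mul_apply, Equiv.Perm.mul_apply, φ_apply, φ_apply, φ_apply,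
    U_val]
  simp only [Matrix.of_apply, Matrix.cons_val', Matrix.cons_val_zero, Matrix.cons_val_one,
    Matrix.cons_val_fin_one]
  rw [(cube_check x i).1]; rfl

theorem φ_L_cube (x : F9) : φ (L x) ^ 3 = 1 := by
  ext i
  rw [pow_succ, pow_two, Equiv.Perm.mul_apply, Equiv.Perm.mul_apply, φ_apply, φ_apply, φ_apply,
    L_val]
  simp only [Matrix.of_apply, Matrix.cons_val', Matrix.cons_val_zero, Matrix.cons_val_one,
    Matrix.cons_val_fin_one]
  rw [(cube_check x i).2]; rfl

theorem sign_φ (g : G9) : Equiv.Perm.sign (φ g) = 1 := by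
  have hle : Subgroup.closure gens ≤ (Equiv.Perm.sign.comp φhom).ker := by
    rw [Subgroup.closure_le]
    rintro s (⟨x, rfl⟩ | ⟨x, rfl⟩)
    · exact sign_eq_one_of_cube (φ_U_cube x)
    · exact sign_eq_one_of_cube (φ_L_cube x)
  rw [closure_gens] at hle
  exact hle (Subgroup.mem_top g)

/-- The homomorphism to `A₆`. -/
def φalt : G9 →* alternatingGroup (Fin 6) :=
  φhom.codRestrict (alternatingGroup (Fin 6)) (fun g => Equiv.Perm.mem_alternatingGroup.2 (sign_φ g))

theorem φalt_ker : φalt.ker = Subgroup.center G9 := by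
  rw [← φhom_ker]
  exact MonoidHom.ker_codRestrict _ _ _

theorem card_psl : Nat.card (ProjectiveSpecialLinearGroup (Fin 2) F9) = 360 := by
  have h := Cfsg.Agent.S0243.result (F := F9) (q := 9) F9.card 2 le_rfl
  rw [Fin.prod_univ_two] at h
  generalize Nat.card (ProjectiveSpecialLinearGroup (Fin 2) F9) = n at h ⊢
  norm_num at h
  omega

theorem card_alt : Nat.card (alternatingGroup (Fin 6)) = 360 := by
  have := two_mul_card_alternatingGroup (α := Fin 6)
  rw [Fintype.card_perm, Fintype.card_fin] at this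
  rw [Nat.card_eq_fintype_card]
  have h6 : Nat.factorial 6 = 720 := by decide
  omega

/-- PSL_2(9) is isomorphic to A_6. -/
theorem result {F : Type*} [Field F] [Fintype F] (hF : Fintype.card F = 9) : Nonempty (Matrix.ProjectiveSpecialLinearGroup (Fin 2) F ≃* alternatingGroup (Fin 6)) := by
  let ψ : ProjectiveSpecialLinearGroup (Fin 2) F9 →* alternatingGroup (Fin 6) :=
    (QuotientGroup.kerLift φalt).comp
      (QuotientGroup.quotientMulEquivOfEq φalt_ker.symm).toMonoidHom
  have hinj : Function.Injective ψ :=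
    (QuotientGroup.kerLift_injective φalt).comp (MulEquiv.injective _)
  have hbij : Function.Bijective ψ := by
    apply Function.Injective.bijective_of_nat_card_le hinj
    rw [card_psl, card_alt]
  exact ⟨(pslEquiv (ringEquivF9 hF)).trans (MulEquiv.ofBijective ψ hbij)⟩

end Cfsg.Agent.S0254
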