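import Cfsg.Statements.S1611
import Cfsg.Agent.Lib.Helper27_HexAut

set_option autoImplicit false
open Cfsg

namespace Cfsg.Agent.S1611

open Cfsg.Agent.Lib.Helper27_Hexacode Cfsg.Agent.Lib.Helper27_HexAut

section
variable {F : Type*} [Field F] [Fintype F] [DecidableEq F]

/-- the permutation parts of the monomial automorphisms, as a subgroup -/
def permParts (ω : F) : Subgroup (Equiv.Perm (Fin 6)) where
  carrier := {σ | ∃ c : Fin 6 → Fˣ, Pres ω σ c}
  one_mem' := ⟨_, pres_one ω⟩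
  mul_mem' := by
    rintro σ τ ⟨c, hc⟩ ⟨d, hd⟩
    exact ⟨_, pres_mul hc hd⟩
  inv_mem' := by
    rintro σ ⟨c, hc⟩
    exact ⟨_, pres_inv hc⟩

omit [DecidableEq F] in
theorem mem_permParts (ω : F) (σ : Equiv.Perm (Fin 6)) :
    σ ∈ permParts ω ↔ ∃ c : Fin 6 → Fˣ, Pres ω σ c := Iff.rfl

theorem alt_le (hF : Fintype.card F = 4) {ω : F} (hω : ω ^ 2 + ω + 1 = 0) :
    alternatingGroup (Fin 6) ≤ permParts ω := by
  rw [← Equiv.Perm.closure_three_cycles_eq_alternating, Subgroup.closure_le]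
  intro g hg
  have hg3 : g.IsThreeCycle := hg
  have hne : g.support.Nonempty := by
    rw [Finset.nonempty_iff_ne_empty, Ne, Equiv.Perm.support_eq_empty_iff]
    exact hg3.isCycle.ne_one
  obtain ⟨a, ha⟩ := hne
  have hdec := hg3.eq_swap_mul_swap_iff_mem_support.2 ha
  have hnd := hg3.nodup_iff_mem_support.2 ha
  simp only [List.nodup_cons, List.mem_cons, List.not_mem_nil, or_false,
    not_or, not_false_eq_true, List.nodup_nil, and_true] at hnd
  obtain ⟨⟨h1, h2⟩, h3⟩ := hnd
  rw [Equiv.swap_comm a (g a)] at hdec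
  show g ∈ permParts ω
  rw [hdec]
  exact three_pres hF hω (g a) a (g (g a)) (Ne.symm h1) h3 h2

theorem permParts_eq (hF : Fintype.card F = 4) {ω : F} (hω : ω ^ 2 + ω + 1 = 0) :
    permParts ω = alternatingGroup (Fin 6) := by
  apply le_antisymm _ (alt_le hF hω)
  intro σ hσ
  rw [Equiv.Perm.mem_alternatingGroup]
  rcases Int.units_eq_one_or (Equiv.Perm.sign σ) with h | h
  · exact h
  · exfalso
    have hs : Equiv.swap (0 : Fin 6) 1 * σ ∈ alternatingGroup (Fin 6) := by
      rw [Equiv.Perm.mem_alternatingGroup, map_mul, h, Equiv.Perm.sign_swap (by decide)]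
      rfl
    have h1 := alt_le hF hω hs
    have h2 : Equiv.swap (0 : Fin 6) 1 ∈ permParts ω := by
      have := (permParts ω).mul_mem h1 ((permParts ω).inv_mem hσ)
      rwa [mul_inv_cancel_right] at this
    obtain ⟨c, hc⟩ := h2
    exact swap_not_pres hF hω c hc

omit [DecidableEq F] in
/-- the quotient vector of two coefficient vectors for the same permutation preserves the code -/
theorem pres_div {ω : F} {σ : Equiv.Perm (Fin 6)} {c d : Fin 6 → Fˣ} (hc : Pres ω σ c) (hd : Pres ω σ d) :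
    Pres ω 1 (fun i => c i * (d i)⁻¹) := by
  have h := pres_mul hc (pres_inv hd)
  have h1 : σ * σ⁻¹ = 1 := mul_inv_cancel σ
  have h2 : (fun i => c i * invCoef σ d (σ.symm i)) = fun i => c i * (d i)⁻¹ := by
    funext i
    simp only [invCoef, Equiv.apply_symm_apply]
  rwa [h1, h2] at h

theorem card_units_eq (hF : Fintype.card F = 4) : Nat.card Fˣ = 3 := by
  rw [Nat.card_eq_fintype_card, Fintype.card_units, hF]

theorem card_alt : Nat.card ↥(alternatingGroup (Fin 6)) = 360 := by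
  have h := two_mul_nat_card_alternatingGroup (α := Fin 6)
  rw [Nat.card_eq_fintype_card (α := Equiv.Perm (Fin 6)), Fintype.card_perm, Fintype.card_fin] at h
  have : Nat.factorial 6 = 720 := by decide
  omega

theorem card_aut (hF : Fintype.card F = 4) {ω : F} (hω : ω ^ 2 + ω + 1 = 0) :
    Nat.card {f : Equiv.Perm (Fin 6) × (Fin 6 → Fˣ) // (∀ x ∈ Cfsg.hexacode F ω, Cfsg.monomialMap f.1 f.2 x ∈ Cfsg.hexacode F ω)} = 1080 := by
  classical
  have hV := permParts_eq hF hω
  have hex : ∀ σ : ↥(alternatingGroup (Fin 6)), ∃ c : Fin 6 → Fˣ, Pres ω σ.1 c := by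
    intro σ
    have : σ.1 ∈ permParts ω := by rw [hV]; exact σ.2
    exact this
  choose c0 hc0 using hex
  let e : {f : Equiv.Perm (Fin 6) × (Fin 6 → Fˣ) // (∀ x ∈ Cfsg.hexacode F ω, Cfsg.monomialMap f.1 f.2 x ∈ Cfsg.hexacode F ω)} ≃
      ↥(alternatingGroup (Fin 6)) × Fˣ :=
    { toFun := fun f =>
        (⟨f.1.1, by rw [← hV]; exact ⟨f.1.2, f.2⟩⟩,
          f.1.2 0 * (c0 ⟨f.1.1, by rw [← hV]; exact ⟨f.1.2, f.2⟩⟩ 0)⁻¹)
      invFun := fun p => ⟨(p.1.1, fun i => p.2 * c0 p.1 i), pres_smul (hc0 p.1) p.2⟩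
      left_inv := by
        rintro ⟨⟨σ, c⟩, hf⟩
        have hσ : σ ∈ alternatingGroup (Fin 6) := by rw [← hV]; exact ⟨c, hf⟩
        have hconst := diag_const hF hω _ (pres_div (show Pres ω σ c from hf) (hc0 ⟨σ, hσ⟩))
        apply Subtype.ext
        apply Prod.ext
        · rfl
        · funext i
          have := hconst i 0
          simp only at this ⊢
          rw [← this, inv_mul_cancel_right]
      right_inv := by
        rintro ⟨σ, l⟩
        apply Prod.ext
        · rfl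
        · simp only [mul_inv_cancel_right] }
  rw [Nat.card_congr e, Nat.card_prod, card_alt, card_units_eq hF]

end

/-- The monomial automorphism group of the hexacode has order 1080: its diagonal part is the scalars and its permutation parts form the alternating group of degree 6. -/
theorem result (F : Type*) [Field F] [Fintype F] [DecidableEq F] (hF : Fintype.card F = 4) (ω : F) (hω : ω ^ 2 + ω + 1 = 0) : Nat.card {f : Equiv.Perm (Fin 6) × (Fin 6 → Fˣ) // (∀ x ∈ Cfsg.hexacode F ω, Cfsg.monomialMap f.1 f.2 x ∈ Cfsg.hexacode F ω)} = 1080 ∧ (∀ c : Fin 6 → Fˣ, (∀ x ∈ Cfsg.hexacode F ω, Cfsg.monomialMap 1 c x ∈ Cfsg.hexacode F ω) → ∀ i j, c i = c j) ∧ {σ : Equiv.Perm (Fin 6) | ∃ c : Fin 6 → Fˣ, (∀ x ∈ Cfsg.hexacode F ω, Cfsg.monomialMap σ c x ∈ Cfsg.hexacode F ω)} = (alternatingGroup (Fin 6) : Set (Equiv.Perm (Fin 6))) := by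
  refine ⟨card_aut hF hω, fun c hc => diag_const hF hω c hc, ?_⟩
  have := permParts_eq hF hω
  exact congrArg (fun H : Subgroup (Equiv.Perm (Fin 6)) => (H : Set (Equiv.Perm (Fin 6)))) this

end Cfsg.Agent.S1611
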