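import Cfsg.Statements.S1038
import Cfsg.Agent.Lib.Helper36_ChevTorusAll

set_option autoImplicit false
open Cfsg

namespace Cfsg.Agent.S1038

open Cfsg.Lie Cfsg.Agent.Lib.Helper36_ChevTorus Cfsg.Agent.Lib.Helper36_ChevTorusAll
  Cfsg.Agent.Lib.Helper36_ChevHAll

/-- The diagonal subgroup `H` is a normal subgroup of the monomial subgroup `N`. -/
theorem result {F : Type*} [Field F] (D : Cfsg.Lie.ChevalleyDatum) (hD : D ∈ [Cfsg.Lie.chevG2, Cfsg.Lie.chevB2, Cfsg.Lie.chevD4, Cfsg.Lie.chevF4, Cfsg.Lie.chevE6, Cfsg.Lie.chevE7, Cfsg.Lie.chevE8]) : ((D.diagonalSubgroup F).subgroupOf (D.monomialSubgroup F)).Normal := by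
  have hf := facts_of_mem D hD F
  have hle : D.diagonalSubgroup F ≤ D.monomialSubgroup F := le_sup_left
  rw [Subgroup.normal_subgroupOf_iff_le_normalizer hle]
  unfold ChevalleyDatum.monomialSubgroup
  apply sup_le Subgroup.le_normalizer
  rw [Subgroup.closure_le]
  rintro g ⟨r, hr, hg⟩
  rw [SetLike.mem_coe, Subgroup.mem_normalizer_iff]
  obtain ⟨-, hN⟩ := hf.goodN r hr
  have hginv : ((g⁻¹ : GL D.Idx F) : Matrix D.Idx D.Idx F) = D.nMat F r (-1) := by
    have h1 : (g : Matrix D.Idx D.Idx F) * D.nMat F r (-1) = 1 := by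
      rw [hg]
      exact nMat_mul_neg D hf.hlen hf.hadd F r 1
    calc ((g⁻¹ : GL D.Idx F) : Matrix D.Idx D.Idx F)
        = ((g⁻¹ : GL D.Idx F) : Matrix D.Idx D.Idx F) * ((g : Matrix D.Idx D.Idx F) * D.nMat F r (-1)) := by
          rw [h1, mul_one]
      _ = (((g⁻¹ : GL D.Idx F) : Matrix D.Idx D.Idx F) * (g : Matrix D.Idx D.Idx F)) * D.nMat F r (-1) := by
          rw [mul_assoc]
      _ = D.nMat F r (-1) := by rw [Units.inv_mul, one_mul]
  intro h
  constructor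
  · intro hh
    obtain ⟨u, rfl⟩ := (hf.mem_diag h).mp hh
    obtain ⟨u', hu'⟩ := hN 1 (Or.inl rfl) u
    rw [hf.mem_diag]
    refine ⟨u', ?_⟩
    rw [mul_inv_eq_iff_eq_mul]
    apply Units.ext
    rw [Units.val_mul, Units.val_mul, hg, torusGL_coe, torusGL_coe, hu']
  · intro hh
    obtain ⟨u, hu⟩ := (hf.mem_diag _).mp hh
    obtain ⟨u', hu'⟩ := hN (-1) (Or.inr rfl) u
    rw [hf.mem_diag]
    refine ⟨u', ?_⟩
    have e : h = g⁻¹ * torusGL D F (chi D F u) * g := by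
      rw [← hu]
      group
    rw [e]
    apply Units.ext
    rw [Units.val_mul, Units.val_mul, hginv, hg, torusGL_coe, torusGL_coe, hu', Matrix.mul_assoc]
    have := nMat_neg_mul D hf.hlen hf.hadd F r 1
    rw [this, Matrix.mul_one]

end Cfsg.Agent.S1038
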