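import Cfsg.Statements.S0007
import Mathlib

set_option autoImplicit false
open Pointwise
open Cfsg

namespace Cfsg.Agent.S0007

open Subgroup MulAction

theorem index_inf {G : Type*} [Group G] [Finite G] (H K : Subgroup G)
    (h : H.index.Coprime K.index) : (H ⊓ K).index = H.index * K.index := by
  apply le_antisymm (index_inf_le)
  apply Nat.le_of_dvd (Nat.pos_of_ne_zero index_ne_zero_of_finite)
  exact h.mul_dvd_of_dvd_of_dvd (index_dvd_of_le inf_le_left) (index_dvd_of_le inf_le_right)

theorem prod_eq {G : Type*} [Group G] [Finite G] (H K : Subgroup G)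
    (h : H.index.Coprime K.index) (g : G) : ∃ x ∈ H, ∃ y ∈ K, g = x * y := by
  -- `H` acts on `G ⧸ K`; the orbit of the base point is everything by counting.
  have h1 : (H ⊓ K).relIndex H = K.relIndex H := inf_relIndex_left H K
  have h2 : (H ⊓ K).relIndex H * H.index = (H ⊓ K).index := relIndex_mul_index inf_le_left
  rw [index_inf H K h, h1, mul_comm] at h2
  have hHpos : 0 < H.index := Nat.pos_of_ne_zero index_ne_zero_of_finite
  have h3 : K.relIndex H = K.index := Nat.eq_of_mul_eq_mul_left hHpos h2
  -- stabilizer of the base point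
  have hst : stabilizer H ((1 : G) : G ⧸ K) = K.subgroupOf H := by
    ext x
    rw [mem_stabilizer_iff, mem_subgroupOf]
    change (((x : G) * 1 : G) : G ⧸ K) = _ ↔ _
    rw [mul_one, QuotientGroup.eq]
    simp
  have h4 : (orbit H ((1 : G) : G ⧸ K)).ncard = K.index := by
    rw [← index_stabilizer, hst]
    exact h3
  have h5 : orbit H ((1 : G) : G ⧸ K) = Set.univ := by
    rw [Set.eq_univ_iff_ncard, h4, index_eq_card]
  have h6 : ((g : G) : G ⧸ K) ∈ orbit H ((1 : G) : G ⧸ K) := by rw [h5]; trivial
  obtain ⟨x, hx⟩ := h6
  change (((x : G) * 1 : G) : G ⧸ K) = _ at hx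
  rw [mul_one, QuotientGroup.eq] at hx
  exact ⟨x, x.2, (x : G)⁻¹ * g, hx, by group⟩

/-- Subgroups of coprime index: the intersection has index equal to the product of the indices, and every element is a product of an element of the first subgroup and an element of the second. -/
theorem result {G : Type*} [Group G] [Finite G] (H K : Subgroup G)
    (h : H.index.Coprime K.index) :
    (H ⊓ K).index = H.index * K.index ∧ ∀ g : G, ∃ x ∈ H, ∃ y ∈ K, g = x * y :=
  ⟨index_inf H K h, prod_eq H K h⟩

end Cfsg.Agent.S0007
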