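import Cfsg.Statements.S0561
import Cfsg.Agent.S0004
import Cfsg.Agent.S0005
import Cfsg.Agent.S0007
import Cfsg.Agent.Lib.Helper76_PGroup
import Mathlib

/-!
# Products of conjugates of normal Hall subgroups of the factors (helper76)

`G = HK` solvable, `A ⊴ H`, `B ⊴ K` Hall subgroups of `G`.  Put `m = lcm(|A|, |B|)`; it is a Hall
divisor of `|G|`.  A Hall subgroup `S` of order `m` containing `A^x` can be moved (using `G = K^y H^x`
and the normality of `A` in `H`, `B` in `K`) so that it contains both `A^x` and `B^y`; inside `S`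
the two subgroups have coprime indices, so `S = A^x B^y` (S0007).
-/

set_option autoImplicit false
open Pointwise
open Cfsg

namespace Cfsg.Agent.S0561

theorem lcm_div_coprime (a b : ℕ) (ha : 0 < a) (hb : 0 < b) :
    (Nat.lcm a b / a).Coprime (Nat.lcm a b / b) := by
  obtain ⟨a₁, b₁, hc, h1, h2⟩ := Nat.exists_coprime a b
  have hg : 0 < Nat.gcd a b := Nat.gcd_pos_of_pos_left b ha
  have h3 := Nat.gcd_mul_lcm a b
  generalize Nat.gcd a b = g at h1 h2 hg h3
  generalize Nat.lcm a b = l at h3 ⊢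
  subst h1 h2
  have hl : l = a₁ * b₁ * g := by
    have h4 : g * l = g * (a₁ * b₁ * g) := by rw [h3]; ring
    exact Nat.eq_of_mul_eq_mul_left hg h4
  have e1 : l / (a₁ * g) = b₁ := by
    rw [hl, show a₁ * b₁ * g = b₁ * (a₁ * g) by ring]
    exact Nat.mul_div_cancel _ ha
  have e2 : l / (b₁ * g) = a₁ := by
    rw [hl, show a₁ * b₁ * g = a₁ * (b₁ * g) by ring]
    exact Nat.mul_div_cancel _ hb
  rw [e1, e2]
  exact hc.symm

variable {G : Type*} [Group G]

theorem card_conj_smul (g : G) (A : Subgroup G) :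
    Nat.card ↥(MulAut.conj g • A) = Nat.card A :=
  (Nat.card_congr (Subgroup.equivSMul (MulAut.conj g) A).toEquiv).symm

/-- `conj (x * h) • A = conj x • A` when `h` normalises `A`. -/
theorem conj_mul_smul_of_normalizes (A : Subgroup G) (x h : G)
    (hh : ∀ a ∈ A, h * a * h⁻¹ ∈ A) (hh' : ∀ a ∈ A, h⁻¹ * a * h ∈ A) :
    MulAut.conj (x * h) • A = MulAut.conj x • A := by
  have h1 : MulAut.conj h • A = A := by
    ext t
    rw [Subgroup.mem_pointwise_smul_iff_inv_smul_mem, ← map_inv, MulAut.smul_def,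
      MulAut.conj_apply, inv_inv]
    constructor
    · intro ht
      have := hh _ ht
      simpa [mul_assoc] using this
    · intro ht
      exact hh' t ht
  rw [map_mul, mul_smul, h1]

/-- Let the finite solvable group G be the product HK of subgroups, and let A be normal in H and B normal in K, where A and B are Hall subgroups of G (order coprime to index). Then for all x, y the product set of xAx⁻¹ and yBy⁻¹ is a subgroup of G. -/
theorem result {G : Type*} [Group G] [Finite G] [Group.IsSolvable G] (H K A B : Subgroup G) (hHK : ∀ g : G, ∃ h ∈ H, ∃ k ∈ K, g = h * k) (hA : A ≤ H) (hAn : (A.subgroupOf H).Normal) (hB : B ≤ K) (hBn : (B.subgroupOf K).Normal) (hAh : (Nat.card A).Coprime A.index) (hBh : (Nat.card B).Coprime B.index) (x y : G) : ∃ S : Subgroup G, (S : Set G) = ((MulAut.conj x • A : Subgroup G) : Set G) * ((MulAut.conj y • B : Subgroup G) : Set G) := by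
  -- elementwise normality
  have hAn' : ∀ h ∈ H, ∀ a ∈ A, h * a * h⁻¹ ∈ A := by
    intro h hh a ha
    have := hAn.conj_mem ⟨a, hA ha⟩ (Subgroup.mem_subgroupOf.mpr ha) ⟨h, hh⟩
    exact Subgroup.mem_subgroupOf.mp this
  have hBn' : ∀ k ∈ K, ∀ b ∈ B, k * b * k⁻¹ ∈ B := by
    intro k hk b hb
    have := hBn.conj_mem ⟨b, hB hb⟩ (Subgroup.mem_subgroupOf.mpr hb) ⟨k, hk⟩
    exact Subgroup.mem_subgroupOf.mp this
  -- `G = K H`
  have hKH : ∀ g : G, ∃ k ∈ K, ∃ h ∈ H, g = k * h := by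
    intro g
    obtain ⟨h, hh, k, hk, hg⟩ := hHK g⁻¹
    refine ⟨k⁻¹, K.inv_mem hk, h⁻¹, H.inv_mem hh, ?_⟩
    rw [← mul_inv_rev, ← hg, inv_inv]
  -- arithmetic
  set a := Nat.card A with ha_def
  set b := Nat.card B with hb_def
  have ha0 : 0 < a := Nat.card_pos
  have hb0 : 0 < b := Nat.card_pos
  have haN : a ∣ Nat.card G := Subgroup.card_subgroup_dvd_card A
  have hbN : b ∣ Nat.card G := Subgroup.card_subgroup_dvd_card B
  have hmN : Nat.lcm a b ∣ Nat.card G := Nat.lcm_dvd haN hbN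
  have hG : Nat.card G = Nat.lcm a b * (Nat.card G / Nat.lcm a b) :=
    (Nat.mul_div_cancel' hmN).symm
  have hAi : A.index = Nat.card G / a := by
    rw [← A.card_mul_index, Nat.mul_div_cancel_left _ ha0]
  have hBi : B.index = Nat.card G / b := by
    rw [← B.card_mul_index, Nat.mul_div_cancel_left _ hb0]
  have han : a.Coprime (Nat.card G / Nat.lcm a b) := by
    rw [hAi] at hAh
    exact Nat.Coprime.coprime_dvd_right (Nat.div_dvd_div_left hmN (Nat.dvd_lcm_left a b)) hAh
  have hbn : b.Coprime (Nat.card G / Nat.lcm a b) := by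
    rw [hBi] at hBh
    exact Nat.Coprime.coprime_dvd_right (Nat.div_dvd_div_left hmN (Nat.dvd_lcm_right a b)) hBh
  have hmn : (Nat.lcm a b).Coprime (Nat.card G / Nat.lcm a b) :=
    Nat.Coprime.coprime_dvd_left (Nat.lcm_dvd_mul a b) (Nat.Coprime.mul_left han hbn)
  -- Hall subgroups of order `m` containing the two conjugates
  obtain ⟨S, hS, hAS⟩ := Cfsg.Agent.S0005.result _ _ hG hmn (MulAut.conj x • A)
    (by rw [card_conj_smul]; exact han)
  obtain ⟨S', hS', hBS'⟩ := Cfsg.Agent.S0005.result _ _ hG hmn (MulAut.conj y • B)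
    (by rw [card_conj_smul]; exact hbn)
  obtain ⟨g, hg⟩ := Cfsg.Agent.S0004.result _ _ hG hmn S S' hS hS'
  -- `g = (y k y⁻¹) (x h x⁻¹)`
  obtain ⟨k₀, hk₀, h₀, hh₀, e₀⟩ := hKH (y⁻¹ * x)
  obtain ⟨k₁, hk₁, h₁, hh₁, e₁⟩ := hKH (y⁻¹ * g * x)
  have hgdec : g = (y * (k₁ * k₀⁻¹) * y⁻¹) * (x * (h₀⁻¹ * h₁) * x⁻¹) := by
    have e2 : g = y * (y⁻¹ * g * x) * x⁻¹ := by group
    have e3 : y * (k₁ * k₀⁻¹) * y⁻¹ * (x * (h₀⁻¹ * h₁) * x⁻¹)
        = y * k₁ * k₀⁻¹ * (y⁻¹ * x) * h₀⁻¹ * h₁ * x⁻¹ := by group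
    rw [e3, e₀]
    rw [e₁] at e2
    rw [e2]; group
  set k := k₁ * k₀⁻¹ with hk_def
  set h := h₀⁻¹ * h₁ with hh_def
  have hk : k ∈ K := K.mul_mem hk₁ (K.inv_mem hk₀)
  have hh : h ∈ H := H.mul_mem (H.inv_mem hh₀) hh₁
  -- the common Hall subgroup
  have hA1 : MulAut.conj x • A ≤ MulAut.conj (x * h * x⁻¹) • S := by
    have e : MulAut.conj (x * h * x⁻¹) • (MulAut.conj x • A) = MulAut.conj x • A := by
      rw [← mul_smul, ← map_mul, inv_mul_cancel_right]
      exact conj_mul_smul_of_normalizes A x h (hAn' h hh)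
        (fun t ht => by simpa using hAn' h⁻¹ (H.inv_mem hh) t ht)
    rw [← e]
    exact Subgroup.pointwise_smul_le_pointwise_smul_iff.mpr hAS
  have hB1 : MulAut.conj y • B ≤ MulAut.conj (x * h * x⁻¹) • S := by
    have e : MulAut.conj (y * k⁻¹ * y⁻¹) • (MulAut.conj y • B) = MulAut.conj y • B := by
      rw [← mul_smul, ← map_mul, inv_mul_cancel_right]
      exact conj_mul_smul_of_normalizes B y k⁻¹ (hBn' k⁻¹ (K.inv_mem hk))
        (fun t ht => by simpa using hBn' k hk t ht)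
    have e' : MulAut.conj (y * k⁻¹ * y⁻¹) • S' = MulAut.conj (x * h * x⁻¹) • S := by
      rw [← hg, hgdec, ← mul_smul, ← map_mul]
      congr 2
      group
    rw [← e, ← e']
    exact Subgroup.pointwise_smul_le_pointwise_smul_iff.mpr hBS'
  set T := MulAut.conj (x * h * x⁻¹) • S with hT_def
  have hT : Nat.card T = Nat.lcm a b := by rw [hT_def, card_conj_smul, hS]
  -- coprime indices inside `T`
  have hiA : ((MulAut.conj x • A).subgroupOf T).index = Nat.lcm a b / a := by
    have h1 := Cfsg.Agent.Lib.Helper76_PGroup.card_mul_relIndex_of_le _ _ hA1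
    rw [card_conj_smul, hT] at h1
    rw [← Subgroup.relIndex, ← h1, Nat.mul_div_cancel_left _ ha0]
  have hiB : ((MulAut.conj y • B).subgroupOf T).index = Nat.lcm a b / b := by
    have h1 := Cfsg.Agent.Lib.Helper76_PGroup.card_mul_relIndex_of_le _ _ hB1
    rw [card_conj_smul, hT] at h1
    rw [← Subgroup.relIndex, ← h1, Nat.mul_div_cancel_left _ hb0]
  have hcop : ((MulAut.conj x • A).subgroupOf T).index.Coprime
      ((MulAut.conj y • B).subgroupOf T).index := by
    rw [hiA, hiB]; exact lcm_div_coprime a b ha0 hb0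
  obtain ⟨-, hfac⟩ := Cfsg.Agent.S0007.result _ _ hcop
  refine ⟨T, ?_⟩
  ext t
  constructor
  · intro ht
    obtain ⟨u, hu, v, hv, huv⟩ := hfac ⟨t, ht⟩
    refine Set.mem_mul.mpr ⟨u, Subgroup.mem_subgroupOf.mp hu, v, Subgroup.mem_subgroupOf.mp hv, ?_⟩
    exact (congrArg Subtype.val huv).symm
  · intro ht
    obtain ⟨u, hu, v, hv, rfl⟩ := Set.mem_mul.mp ht
    exact T.mul_mem (hA1 hu) (hB1 hv)

end Cfsg.Agent.S0561
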