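import Cfsg.Statements.S0562
import Mathlib

set_option autoImplicit false
open Cfsg

namespace Cfsg.Agent.S0562

/-- In a finite group, a subgroup contained in one of its conjugates equals it. -/
theorem map_conj_eq_of_le {G : Type*} [Group G] [Finite G] (J : Subgroup G) (k : G)
    (h : J ≤ J.map (MulAut.conj k).toMonoidHom) : J.map (MulAut.conj k).toMonoidHom = J := by
  symm
  apply Subgroup.eq_of_le_of_card_ge h
  rw [Subgroup.card_map_of_injective (MulAut.conj k).injective]

/-- Let the finite group G be the product HK of subgroups, A normal in H, B normal in K, and L the normalizer of the subgroup generated by A and B. Then every element of L is a product of an element of L ∩ H and an element of L ∩ K. -/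
theorem result {G : Type*} [Group G] [Finite G] (H K A B : Subgroup G) (hHK : ∀ g : G, ∃ h ∈ H, ∃ k ∈ K, g = h * k) (hA : A ≤ H) (hAn : (A.subgroupOf H).Normal) (hB : B ≤ K) (hBn : (B.subgroupOf K).Normal) : ∀ g ∈ Subgroup.normalizer ((A ⊔ B : Subgroup G) : Set G), ∃ h ∈ Subgroup.normalizer ((A ⊔ B : Subgroup G) : Set G) ⊓ H, ∃ k ∈ Subgroup.normalizer ((A ⊔ B : Subgroup G) : Set G) ⊓ K, g = h * k := by
  intro g hg
  obtain ⟨h, hh, k, hk, rfl⟩ := hHK g
  -- conjugation by elements of H fixes A, by elements of K fixes B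
  have hAconj : ∀ x ∈ H, A ≤ A.map (MulAut.conj x).toMonoidHom := by
    intro x hx a ha
    refine ⟨x⁻¹ * a * x, ?_, by simp [MulAut.conj_apply, mul_assoc]⟩
    have := hAn.conj_mem ⟨a, hA ha⟩ (by simpa [Subgroup.mem_subgroupOf] using ha) ⟨x⁻¹, H.inv_mem hx⟩
    simpa [Subgroup.mem_subgroupOf] using this
  have hBconj : ∀ x ∈ K, B ≤ B.map (MulAut.conj x).toMonoidHom := by
    intro x hx a ha
    refine ⟨x⁻¹ * a * x, ?_, by simp [MulAut.conj_apply, mul_assoc]⟩
    have := hBn.conj_mem ⟨a, hB ha⟩ (by simpa [Subgroup.mem_subgroupOf] using ha) ⟨x⁻¹, K.inv_mem hx⟩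
    simpa [Subgroup.mem_subgroupOf] using this
  set J : Subgroup G := A ⊔ B with hJ
  have hgJ : J.map (MulAut.conj (h * k)).toMonoidHom = J :=
    Subgroup.mem_normalizer_iff_map_conj_eq.mp hg
  -- J.map (conj k) = J.map (conj h⁻¹)
  have hkh : J.map (MulAut.conj k).toMonoidHom = J.map (MulAut.conj h⁻¹).toMonoidHom := by
    conv_rhs => rw [← hgJ]
    rw [Subgroup.map_map]
    congr 1
    ext x
    simp [MulAut.conj_apply, mul_assoc]
  have hle : J ≤ J.map (MulAut.conj k).toMonoidHom := by
    rw [hJ]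
    apply sup_le
    · rw [hkh]
      exact (hAconj h⁻¹ (H.inv_mem hh)).trans (Subgroup.map_mono le_sup_left)
    · exact (hBconj k hk).trans (Subgroup.map_mono le_sup_right)
  have hkN : k ∈ Subgroup.normalizer (J : Set G) :=
    Subgroup.mem_normalizer_iff_map_conj_eq.mpr (map_conj_eq_of_le J k hle)
  have hhN : h ∈ Subgroup.normalizer (J : Set G) := by
    have : h = (h * k) * k⁻¹ := by group
    rw [this]
    exact Subgroup.mul_mem _ hg (Subgroup.inv_mem _ hkN)
  exact ⟨h, ⟨hhN, hh⟩, k, ⟨hkN, hk⟩, rfl⟩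

end Cfsg.Agent.S0562
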