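import Mathlib
import Cfsg.Statements.S0566
-- import your own Cfsg.Agent.* helpers here

set_option autoImplicit false
open Pointwise
open Cfsg

namespace Cfsg.Agent.S0566

section helpers

variable {G : Type*} [Group G]

/-- `K * A ⊆ A * K`, elementwise. -/
def Perm (A K : Subgroup G) : Prop :=
  ∀ k ∈ K, ∀ a ∈ A, ∃ a' ∈ A, ∃ k' ∈ K, k * a = a' * k'

theorem perm_of_eq {A K S : Subgroup G} (h : (S : Set G) = (A : Set G) * (K : Set G)) :
    Perm A K := by
  intro k hk a ha
  have hkS : k ∈ (S : Set G) := by rw [h]; exact ⟨1, A.one_mem, k, hk, one_mul k⟩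
  have haS : a ∈ (S : Set G) := by rw [h]; exact ⟨a, ha, 1, K.one_mem, mul_one a⟩
  have : k * a ∈ (S : Set G) := S.mul_mem hkS haS
  rw [h] at this
  obtain ⟨a', ha', k', hk', e⟩ := this
  exact ⟨a', ha', k', hk', e.symm⟩

/-- If `K * A ⊆ A * K` then `A * K` is a subgroup. -/
def permSubgroup (A K : Subgroup G) (h : Perm A K) : Subgroup G where
  carrier := (A : Set G) * (K : Set G)
  mul_mem' := by
    rintro _ _ ⟨a, ha, k, hk, rfl⟩ ⟨a', ha', k', hk', rfl⟩
    obtain ⟨a'', ha'', k'', hk'', e⟩ := h k hk a' ha'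
    refine ⟨a * a'', A.mul_mem ha ha'', k'' * k', K.mul_mem hk'' hk', ?_⟩
    show a * a'' * (k'' * k') = a * k * (a' * k')
    calc a * a'' * (k'' * k') = a * (a'' * k'') * k' := by group
      _ = a * (k * a') * k' := by rw [e]
      _ = a * k * (a' * k') := by group
  one_mem' := ⟨1, A.one_mem, 1, K.one_mem, mul_one 1⟩
  inv_mem' := by
    rintro _ ⟨a, ha, k, hk, rfl⟩
    obtain ⟨a', ha', k', hk', e⟩ := h k⁻¹ (K.inv_mem hk) a⁻¹ (A.inv_mem ha)
    refine ⟨a', ha', k', hk', ?_⟩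
    show a' * k' = (a * k)⁻¹
    rw [← e, mul_inv_rev]

theorem perm_sup {A K₁ K₂ : Subgroup G} (h₁ : Perm A K₁) (h₂ : Perm A K₂) :
    Perm A (K₁ ⊔ K₂) := by
  have gen : ∀ K : Subgroup G, Perm A K → K ≤ K₁ ⊔ K₂ → ∀ g ∈ K,
      (∀ a ∈ A, ∃ a' ∈ A, ∃ k' ∈ K₁ ⊔ K₂, g * a = a' * k') ∧
      (∀ a ∈ A, ∃ a' ∈ A, ∃ k' ∈ K₁ ⊔ K₂, a * g = k' * a') := by
    intro K hK hle g hg
    constructor
    · intro a ha
      obtain ⟨a', ha', k', hk', e⟩ := hK g hg a ha
      exact ⟨a', ha', k', hle hk', e⟩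
    · intro a ha
      obtain ⟨a', ha', k', hk', e⟩ := hK g⁻¹ (K.inv_mem hg) a⁻¹ (A.inv_mem ha)
      refine ⟨a'⁻¹, A.inv_mem ha', k'⁻¹, (K₁ ⊔ K₂).inv_mem (hle hk'), ?_⟩
      rw [← mul_inv_rev, ← e]; group
  have key : ∀ g ∈ K₁ ⊔ K₂,
      (∀ a ∈ A, ∃ a' ∈ A, ∃ k' ∈ K₁ ⊔ K₂, g * a = a' * k') ∧
      (∀ a ∈ A, ∃ a' ∈ A, ∃ k' ∈ K₁ ⊔ K₂, a * g = k' * a') := by
    intro g hg
    rw [← Subgroup.closure_eq K₁, ← Subgroup.closure_eq K₂, ← Subgroup.closure_union] at hg
    induction hg using Subgroup.closure_induction with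
    | mem x hx =>
      rcases hx with hx | hx
      · exact gen K₁ h₁ le_sup_left x hx
      · exact gen K₂ h₂ le_sup_right x hx
    | one =>
      exact ⟨fun a ha => ⟨a, ha, 1, Subgroup.one_mem _, by group⟩,
        fun a ha => ⟨a, ha, 1, Subgroup.one_mem _, by group⟩⟩
    | mul x y _ _ hx hy =>
      constructor
      · intro a ha
        obtain ⟨a', ha', k', hk', e⟩ := hy.1 a ha
        obtain ⟨a'', ha'', k'', hk'', e'⟩ := hx.1 a' ha'
        refine ⟨a'', ha'', k'' * k', Subgroup.mul_mem _ hk'' hk', ?_⟩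
        calc x * y * a = x * (y * a) := by group
          _ = x * (a' * k') := by rw [e]
          _ = (x * a') * k' := by group
          _ = (a'' * k'') * k' := by rw [e']
          _ = a'' * (k'' * k') := by group
      · intro a ha
        obtain ⟨a', ha', k', hk', e⟩ := hx.2 a ha
        obtain ⟨a'', ha'', k'', hk'', e'⟩ := hy.2 a' ha'
        refine ⟨a'', ha'', k' * k'', Subgroup.mul_mem _ hk' hk'', ?_⟩
        calc a * (x * y) = (a * x) * y := by group
          _ = (k' * a') * y := by rw [e]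
          _ = k' * (a' * y) := by group
          _ = k' * (k'' * a'') := by rw [e']
          _ = k' * k'' * a'' := by group
    | inv x _ hx =>
      constructor
      · intro a ha
        obtain ⟨a', ha', k', hk', e⟩ := hx.2 a⁻¹ (A.inv_mem ha)
        refine ⟨a'⁻¹, A.inv_mem ha', k'⁻¹, Subgroup.inv_mem _ hk', ?_⟩
        rw [← mul_inv_rev, ← e]; group
      · intro a ha
        obtain ⟨a', ha', k', hk', e⟩ := hx.1 a⁻¹ (A.inv_mem ha)
        refine ⟨a'⁻¹, A.inv_mem ha', k'⁻¹, Subgroup.inv_mem _ hk', ?_⟩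
        rw [← mul_inv_rev, ← e]; group
  exact fun k hk => (key k hk).1

theorem mem_normalizer_iff_smul (g : G) (H : Subgroup G) :
    g ∈ Subgroup.normalizer (H : Set G) ↔ MulAut.conj g • H = H := by
  rw [Subgroup.mem_normalizer_iff_map_conj_eq]
  rfl

theorem card_conj_smul (g : G) (H : Subgroup G) :
    Nat.card (MulAut.conj g • H : Subgroup G) = Nat.card H := by
  rw [Subgroup.pointwise_smul_def]
  exact Subgroup.card_map_of_injective (MulAut.conj g).injective

theorem conj_smul_smul (x y : G) (H : Subgroup G) :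
    MulAut.conj y • MulAut.conj x • H = MulAut.conj (y * x) • H := by
  rw [smul_smul, ← map_mul]

theorem mem_conj_smul {x g : G} {H : Subgroup G} :
    g ∈ MulAut.conj x • H ↔ x⁻¹ * g * x ∈ H := by
  rw [Subgroup.mem_pointwise_smul_iff_inv_smul_mem, ← map_inv, MulAut.smul_def,
    MulAut.conj_apply, inv_inv]

theorem aux [Finite G] (A : Subgroup G) : ∀ (n : ℕ) (B : Subgroup G),
    Nat.card G - Nat.card B = n →
    (∀ x : G, ∃ S : Subgroup G, S ≠ ⊤ ∧
      (S : Set G) = (A : Set G) * ((MulAut.conj x • B : Subgroup G) : Set G)) →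
    ∃ N : Subgroup G, N.Normal ∧ N ≠ ⊤ ∧ (A ≤ N ∨ B ≤ N) := by
  intro n
  induction n using Nat.strong_induction_on with
  | _ n ih =>
  intro B hn h
  by_cases hN : ∀ x : G, A ≤ Subgroup.normalizer ((MulAut.conj x • B : Subgroup G) : Set G)
  · by_cases hB : Subgroup.normalizer (B : Set G) = ⊤
    · refine ⟨B, Subgroup.normalizer_eq_top_iff.mp hB, ?_, Or.inr le_rfl⟩
      obtain ⟨S, hS, hSe⟩ := h 1
      intro hBt
      apply hS
      rw [eq_top_iff, ← hBt]
      intro b hb
      have : b ∈ (S : Set G) := by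
        rw [hSe]
        exact ⟨1, A.one_mem, b, by simpa using hb, one_mul b⟩
      exact this
    · refine ⟨(Subgroup.normalizer (B : Set G)).normalCore, inferInstance, ?_, Or.inl ?_⟩
      · intro ht
        apply hB
        rw [eq_top_iff, ← ht]
        exact Subgroup.normalCore_le _
      · intro a ha b
        have h1 := hN b⁻¹ ha
        rw [mem_normalizer_iff_smul, conj_smul_smul] at h1
        rw [mem_normalizer_iff_smul]
        have h2 : MulAut.conj b • MulAut.conj (a * b⁻¹) • B = MulAut.conj b • MulAut.conj b⁻¹ • B := by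
          rw [h1]
        rw [conj_smul_smul, conj_smul_smul, mul_inv_cancel, map_one, one_smul, ← mul_assoc] at h2
        exact h2
  · push Not at hN
    obtain ⟨x, hx⟩ := hN
    obtain ⟨a, haA, haN⟩ := SetLike.not_le_iff_exists.mp hx
    obtain ⟨B', hB'⟩ : ∃ B' : Subgroup G, B' = MulAut.conj x • B := ⟨_, rfl⟩
    rw [← hB'] at haN
    obtain ⟨B₁, hB₁⟩ : ∃ B₁ : Subgroup G, B₁ = B' ⊔ MulAut.conj a • B' := ⟨_, rfl⟩
    have hcardB' : Nat.card B' = Nat.card B := by rw [hB', card_conj_smul]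
    have hlt : Nat.card B < Nat.card B₁ := by
      rw [← hcardB']
      by_contra hle
      push Not at hle
      have hle' : B' ≤ B₁ := by rw [hB₁]; exact le_sup_left
      have heq : B' = B₁ := Subgroup.eq_of_le_of_card_ge hle' hle
      apply haN
      rw [mem_normalizer_iff_smul]
      have h2 : MulAut.conj a • B' ≤ B' := by
        calc MulAut.conj a • B' ≤ B₁ := by rw [hB₁]; exact le_sup_right
          _ = B' := heq.symm
      exact Subgroup.eq_of_le_of_card_ge h2 (by rw [card_conj_smul])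
    -- the subgroup `S₀ = A * B'`
    obtain ⟨S₀, hS₀t, hS₀⟩ := h x
    rw [← hB'] at hS₀
    have hAS₀ : A ≤ S₀ := by
      intro y hy
      have : y ∈ (S₀ : Set G) := by rw [hS₀]; exact ⟨y, hy, 1, B'.one_mem, mul_one y⟩
      exact this
    have hB'S₀ : B' ≤ S₀ := by
      intro y hy
      have : y ∈ (S₀ : Set G) := by rw [hS₀]; exact ⟨1, A.one_mem, y, hy, one_mul y⟩
      exact this
    have hB₁S₀ : B₁ ≤ S₀ := by
      rw [hB₁]
      apply sup_le hB'S₀
      intro y hy
      rw [mem_conj_smul] at hy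
      have h3 := S₀.mul_mem (S₀.mul_mem (hAS₀ haA) (hB'S₀ hy)) (S₀.inv_mem (hAS₀ haA))
      have : a * (a⁻¹ * y * a) * a⁻¹ = y := by group
      rwa [this] at h3
    have hperm : ∀ z : G, Perm A (MulAut.conj z • B) := by
      intro z
      obtain ⟨S, -, hS⟩ := h z
      exact perm_of_eq hS
    have hB₁' : ∀ y : G, ∃ S : Subgroup G, S ≠ ⊤ ∧
        (S : Set G) = (A : Set G) * ((MulAut.conj y • B₁ : Subgroup G) : Set G) := by
      intro y
      have hp : Perm A (MulAut.conj y • B₁) := by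
        rw [hB₁, Subgroup.smul_sup, hB', conj_smul_smul, conj_smul_smul, conj_smul_smul]
        exact perm_sup (hperm _) (hperm _)
      refine ⟨permSubgroup A _ hp, ?_, rfl⟩
      intro htop
      have hy : y⁻¹ ∈ permSubgroup A _ hp := by rw [htop]; trivial
      obtain ⟨a₁, ha₁, j, hj, e⟩ := hy
      have hj' : y⁻¹ * j * y ∈ S₀ := hB₁S₀ (mem_conj_smul.mp hj)
      have hyS : y ∈ S₀ := by
        have h4 := S₀.mul_mem (S₀.inv_mem (hAS₀ ha₁)) (S₀.inv_mem hj')
        have : a₁⁻¹ * (y⁻¹ * j * y)⁻¹ = y := by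
          have hj2 : j = a₁⁻¹ * y⁻¹ := by rw [← e]; group
          rw [hj2]; group
        rwa [this] at h4
      apply hS₀t
      rw [eq_top_iff]
      intro g _
      have hg : g ∈ permSubgroup A _ hp := by rw [htop]; trivial
      obtain ⟨a₂, ha₂, j₂, hj₂, e₂⟩ := hg
      have hj₂' : y⁻¹ * j₂ * y ∈ S₀ := hB₁S₀ (mem_conj_smul.mp hj₂)
      have h5 := S₀.mul_mem (hAS₀ ha₂)
        (S₀.mul_mem (S₀.mul_mem hyS hj₂') (S₀.inv_mem hyS))
      have : a₂ * (y * (y⁻¹ * j₂ * y) * y⁻¹) = g := by rw [← e₂]; group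
      rwa [this] at h5
    have hcard₁ := Subgroup.card_le_card_group B₁
    obtain ⟨N, hNn, hNt, hor⟩ := ih (Nat.card G - Nat.card B₁) (by omega) B₁ rfl hB₁'
    refine ⟨N, hNn, hNt, hor.imp id ?_⟩
    intro hB₁N b hb
    have hxb : x * b * x⁻¹ ∈ B' := by
      rw [hB', mem_conj_smul]
      have : x⁻¹ * (x * b * x⁻¹) * x = b := by group
      rwa [this]
    have h6 : x * b * x⁻¹ ∈ N := hB₁N (by rw [hB₁]; exact Subgroup.mem_sup_left hxb)
    have h7 := hNn.conj_mem _ h6 x⁻¹
    have : x⁻¹ * (x * b * x⁻¹) * x⁻¹⁻¹ = b := by group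
    rwa [this] at h7

end helpers

/-- Let A and B be nontrivial subgroups of a finite group G such that for every x the product set of A and xBx⁻¹ is a proper subgroup of G. Then there is a proper normal subgroup of G containing A or containing B. -/
theorem result {G : Type*} [Group G] [Finite G] (A B : Subgroup G) (hA : A ≠ ⊥) (hB : B ≠ ⊥) (h : ∀ x : G, ∃ S : Subgroup G, S ≠ ⊤ ∧ (S : Set G) = (A : Set G) * ((MulAut.conj x • B : Subgroup G) : Set G)) : ∃ N : Subgroup G, N.Normal ∧ N ≠ ⊤ ∧ (A ≤ N ∨ B ≤ N) := by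
  exact aux A _ B rfl h

end Cfsg.Agent.S0566
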