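import Cfsg.Statements.S0560
import Mathlib

set_option autoImplicit false
open Pointwise
open Cfsg

namespace Cfsg.Agent.S0560

/-- Product criterion: for `A ≤ T`, `T ⊆ A·B` iff `|A : A ∩ B| = |T : T ∩ B|`. -/
theorem prod_iff {G : Type*} [Group G] [Finite G] (A T B : Subgroup G) (hAT : A ≤ T) :
    (∀ t ∈ T, ∃ a ∈ A, ∃ b ∈ B, t = a * b) ↔ B.relIndex A = B.relIndex T := by
  have hf := (Subgroup.quotientSubgroupOfEmbeddingOfLE B hAT).injective
  constructor
  · intro h
    have hs : Function.Surjective (Subgroup.quotientSubgroupOfEmbeddingOfLE B hAT) := by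
      intro q
      induction q using QuotientGroup.induction_on with
      | H t =>
        obtain ⟨a, ha, b, hb, hab⟩ := h t.1 t.2
        refine ⟨QuotientGroup.mk ⟨a, ha⟩, ?_⟩
        rw [Subgroup.quotientSubgroupOfEmbeddingOfLE_apply_mk, QuotientGroup.eq,
          Subgroup.mem_subgroupOf]
        have : b = a⁻¹ * t.1 := by rw [hab]; group
        simpa [this] using hb
    exact Nat.card_congr (Equiv.ofBijective _ ⟨hf, hs⟩)
  · intro h t ht
    have hs : Function.Surjective (Subgroup.quotientSubgroupOfEmbeddingOfLE B hAT) := by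
      have hb : Function.Bijective (Subgroup.quotientSubgroupOfEmbeddingOfLE B hAT) := by
        rw [Nat.bijective_iff_injective_and_card]
        exact ⟨hf, h⟩
      exact hb.2
    obtain ⟨q, hq⟩ := hs (QuotientGroup.mk ⟨t, ht⟩)
    induction q using QuotientGroup.induction_on with
    | H a =>
      rw [Subgroup.quotientSubgroupOfEmbeddingOfLE_apply_mk, QuotientGroup.eq,
        Subgroup.mem_subgroupOf] at hq
      refine ⟨a.1, a.2, a.1⁻¹ * t, by simpa using hq, by group⟩

theorem index_eq_of_prod {G : Type*} [Group G] [Finite G] (H K : Subgroup G)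
    (hHK : ∀ g : G, ∃ h ∈ H, ∃ k ∈ K, g = h * k) : K.relIndex H = K.index := by
  have := (prod_iff H ⊤ K le_top).1 (fun t _ => hHK t)
  rw [this, Subgroup.relIndex_top_right]

theorem relIndex_map_subtype' {G : Type*} [Group G] (H : Subgroup G) (P : Subgroup H) :
    (P.map H.subtype).relIndex H = P.index := by
  unfold Subgroup.relIndex Subgroup.subgroupOf
  rw [Subgroup.comap_map_eq_self_of_injective H.subtype_injective]

/-- Numeric core. -/
theorem relIndex_eq {G : Type*} [Group G] [Finite G] (p : ℕ) [Fact p.Prime]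
    (H K P Q R : Subgroup G)
    (hPH : P ≤ H) (hQK : Q ≤ K) (hPR : P ≤ R) (hQR : Q ≤ R)
    (hP : ¬ p ∣ P.relIndex H) (hQ : ¬ p ∣ Q.relIndex K) (hR : IsPGroup p R)
    (hHK : K.relIndex H = K.index) : Q.relIndex P = Q.relIndex R := by
  obtain ⟨n, hn⟩ : ∃ n, Q.relIndex R = p ^ n := hR.index (Q.subgroupOf R)
  have hp : p.Prime := Fact.out
  have hcop1 : (Q.relIndex R).Coprime (Q.relIndex K) := by
    rw [hn]; exact Nat.Coprime.pow_left n ((Nat.Prime.coprime_iff_not_dvd hp).2 hQ)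
  have hcop2 : (Q.relIndex R).Coprime (P.relIndex H) := by
    rw [hn]; exact Nat.Coprime.pow_left n ((Nat.Prime.coprime_iff_not_dvd hp).2 hP)
  have h1 : Q.relIndex R * R.index = Q.relIndex K * K.index := by
    rw [Subgroup.relIndex_mul_index hQR, Subgroup.relIndex_mul_index hQK]
  have h2 : Q.relIndex R ∣ K.index := by
    have : Q.relIndex R ∣ Q.relIndex K * K.index := ⟨R.index, h1.symm⟩
    exact hcop1.dvd_of_dvd_mul_left this
  have h3 : K.relIndex H ∣ (P ⊓ Q).relIndex H := by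
    rw [← Subgroup.inf_relIndex_left H K,
      ← Subgroup.relIndex_mul_relIndex (P ⊓ Q) (H ⊓ K) H (inf_le_inf hPH hQK) inf_le_left]
    exact dvd_mul_left _ _
  have h4 : (P ⊓ Q).relIndex H = Q.relIndex P * P.relIndex H := by
    rw [← Subgroup.relIndex_mul_relIndex (P ⊓ Q) P H inf_le_left hPH, Subgroup.inf_relIndex_left]
  have h5 : Q.relIndex R ∣ Q.relIndex P := by
    have : Q.relIndex R ∣ Q.relIndex P * P.relIndex H := by
      rw [← h4]; exact (hHK ▸ h2).trans h3
    exact hcop2.dvd_of_dvd_mul_right this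
  have hpos : ∀ A B : Subgroup G, 0 < A.relIndex B := fun A B => Nat.pos_of_ne_zero
    Subgroup.FiniteIndex.index_ne_zero
  have h6 : Q.relIndex P ≤ Q.relIndex R := Subgroup.relIndex_le_of_le_right hPR (hpos _ _).ne'
  have h7 : Q.relIndex R ≤ Q.relIndex P := Nat.le_of_dvd (hpos _ _) h5
  omega

/-- Let the finite group G be the product HK of two subgroups and p a prime. Then there are Sylow p-subgroups P of H and Q of K and a Sylow p-subgroup R of G whose underlying set is the product set of P and Q. -/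
theorem result {G : Type*} [Group G] [Finite G] (H K : Subgroup G) (hHK : ∀ g : G, ∃ h ∈ H, ∃ k ∈ K, g = h * k) (p : ℕ) [Fact p.Prime] : ∃ (P : Sylow p H) (Q : Sylow p K) (R : Sylow p G), ((R : Subgroup G) : Set G) = (((P : Subgroup H).map H.subtype : Subgroup G) : Set G) * (((Q : Subgroup K).map K.subtype : Subgroup G) : Set G) := by
  have hp : p.Prime := Fact.out
  obtain ⟨P₀⟩ : Nonempty (Sylow p H) := inferInstance
  obtain ⟨Q₀⟩ : Nonempty (Sylow p K) := inferInstance
  have hP₀ : IsPGroup p ((P₀ : Subgroup H).map H.subtype) := P₀.2.map H.subtype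
  have hQ₀ : IsPGroup p ((Q₀ : Subgroup K).map K.subtype) := Q₀.2.map K.subtype
  obtain ⟨R₁, hR₁⟩ := hP₀.exists_le_sylow
  obtain ⟨R₂, hR₂⟩ := hQ₀.exists_le_sylow
  obtain ⟨g, hg⟩ := MulAction.exists_smul_eq G R₂ R₁
  obtain ⟨h, hh, k, hk, hgk⟩ := hHK g
  refine ⟨(⟨h, hh⟩ : H)⁻¹ • P₀, (⟨k, hk⟩ : K) • Q₀, h⁻¹ • R₁, ?_⟩
  have hPR : (((⟨h, hh⟩ : H)⁻¹ • P₀ : Sylow p H) : Subgroup H).map H.subtype
      ≤ ((h⁻¹ • R₁ : Sylow p G) : Subgroup G) := by
    rintro x ⟨y, hy, rfl⟩
    rw [Sylow.coe_subgroup_smul] at hy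
    rw [SetLike.mem_coe, Subgroup.mem_pointwise_smul_iff_inv_smul_mem] at hy
    rw [Sylow.coe_subgroup_smul, Subgroup.mem_pointwise_smul_iff_inv_smul_mem]
    have : H.subtype ((MulAut.conj (⟨h, hh⟩ : H)⁻¹)⁻¹ • y) ∈ (R₁ : Subgroup G) :=
      hR₁ ⟨_, hy, rfl⟩
    simpa [MulAut.smul_def] using this
  have hQR : (((⟨k, hk⟩ : K) • Q₀ : Sylow p K) : Subgroup K).map K.subtype
      ≤ ((h⁻¹ • R₁ : Sylow p G) : Subgroup G) := by
    rintro x ⟨y, hy, rfl⟩
    rw [Sylow.coe_subgroup_smul] at hy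
    rw [SetLike.mem_coe, Subgroup.mem_pointwise_smul_iff_inv_smul_mem] at hy
    rw [Sylow.coe_subgroup_smul, Subgroup.mem_pointwise_smul_iff_inv_smul_mem]
    have h1 : K.subtype ((MulAut.conj (⟨k, hk⟩ : K))⁻¹ • y) ∈ (R₂ : Subgroup G) :=
      hR₂ ⟨_, hy, rfl⟩
    have h2 : MulAut.conj g • K.subtype ((MulAut.conj (⟨k, hk⟩ : K))⁻¹ • y)
        ∈ ((g • R₂ : Sylow p G) : Subgroup G) := by
      rw [Sylow.coe_subgroup_smul]
      exact Subgroup.smul_mem_pointwise_smul _ _ _ h1
    rw [hg] at h2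
    have h3 : MulAut.conj g • K.subtype ((MulAut.conj (⟨k, hk⟩ : K))⁻¹ • y)
        = (MulAut.conj h⁻¹)⁻¹ • K.subtype y := by
      simp only [MulAut.smul_def, hgk, MulAut.conj_apply, MulAut.conj_inv_apply, map_mul,
        map_inv, Subgroup.subtype_apply, inv_inv, MulAut.mul_apply]
      group
    rw [← h3]
    exact h2
  ext x
  constructor
  · intro hx
    have hidx := index_eq_of_prod H K hHK
    have hrel := relIndex_eq p H K _ _ _ (Subgroup.map_subtype_le _) (Subgroup.map_subtype_le _)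
      hPR hQR (by rw [relIndex_map_subtype']; exact Sylow.not_dvd_index _)
      (by rw [relIndex_map_subtype']; exact Sylow.not_dvd_index _) (h⁻¹ • R₁ : Sylow p G).2 hidx
    obtain ⟨a, ha, b, hb, hab⟩ := (prod_iff _ _ _ hPR).2 hrel x hx
    exact hab ▸ Set.mul_mem_mul ha hb
  · rintro ⟨a, ha, b, hb, rfl⟩
    exact mul_mem (hPR ha) (hQR hb)

end Cfsg.Agent.S0560
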