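import Cfsg.Statements.S0557
import Mathlib
import Cfsg.Agent.S0560

set_option autoImplicit false
open Cfsg

namespace Cfsg.Agent.S0557

open scoped commutatorElement
open scoped IsMulCommutative

/-- Focal subgroup theorem for Hall subgroups. -/
theorem hall_focal {G : Type*} [Group G] [Finite G] (H : Subgroup G)
    (hHall : (Nat.card H).Coprime H.index) :
    H.transferFocal.ker ⊓ H = H.focalSubgroup ∧
      (∀ g : G, ∃ a ∈ H.transferFocal.ker, ∃ b ∈ H, g = a * b) := by
  have hcop : (Nat.card (H ⧸ H.focalSubgroupOf)).Coprime H.index :=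
    Nat.Coprime.coprime_dvd_left (Subgroup.card_quotient_dvd_card _) hHall
  have hV : ∀ x : H, H.transferFocal x = powCoprime hcop (x : H ⧸ H.focalSubgroupOf) := by
    intro x
    rw [Subgroup.transferFocal_eq_pow]
    rfl
  constructor
  · ext g
    rw [Subgroup.mem_inf, MonoidHom.mem_ker]
    constructor
    · rintro ⟨h1, h2⟩
      have := hV ⟨g, h2⟩
      rw [h1] at this
      have h3 : powCoprime hcop ((⟨g, h2⟩ : H) : H ⧸ H.focalSubgroupOf) = powCoprime hcop 1 := by
        rw [← this]
        simp [powCoprime]
      have h4 := (powCoprime hcop).injective h3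
      rw [QuotientGroup.eq_one_iff, Subgroup.focalSubgroupOf_def, Subgroup.mem_subgroupOf] at h4
      exact h4
    · intro hg
      have h2 : g ∈ H := H.focalSubgroup_le hg
      refine ⟨?_, h2⟩
      have := hV ⟨g, h2⟩
      change H.transferFocal g = _ at this
      rw [this]
      have h4 : ((⟨g, h2⟩ : H) : H ⧸ H.focalSubgroupOf) = 1 := by
        rw [QuotientGroup.eq_one_iff, Subgroup.focalSubgroupOf_def, Subgroup.mem_subgroupOf]
        exact hg
      rw [h4]
      simp [powCoprime]
  · intro g
    obtain ⟨x, hx⟩ := QuotientGroup.mk_surjective ((powCoprime hcop).symm (H.transferFocal g))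
    have h1 : H.transferFocal (x : G) = H.transferFocal g := by
      rw [hV x, hx, Equiv.apply_symm_apply]
    refine ⟨g * (x : G)⁻¹, ?_, x, x.2, by group⟩
    rw [MonoidHom.mem_ker, map_mul, map_inv, h1, mul_inv_cancel]

theorem focal_mono {G : Type*} [Group G] {K L : Subgroup G} (h : K ≤ L) :
    K.focalSubgroup ≤ L.focalSubgroup := by
  rw [Subgroup.focalSubgroup_def, Subgroup.focalSubgroup_def]
  apply Subgroup.closure_mono
  rintro g ⟨hg, x, hx, u, rfl⟩
  exact ⟨h hg, x, h hx, u, rfl⟩

theorem focal_iter_mono {G : Type*} [Group G] (n : ℕ) {K L : Subgroup G} (h : K ≤ L) :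
    (fun K : Subgroup G => Subgroup.focalSubgroup K)^[n] K
      ≤ (fun K : Subgroup G => Subgroup.focalSubgroup K)^[n] L := by
  induction n generalizing K L with
  | zero => exact h
  | succ n ih =>
    rw [Function.iterate_succ_apply, Function.iterate_succ_apply]
    exact ih (focal_mono h)

theorem map_focal_le {G : Type*} [Group G] (M : Subgroup G) (K : Subgroup M) :
    (K.focalSubgroup).map M.subtype ≤ (K.map M.subtype).focalSubgroup := by
  rw [Subgroup.focalSubgroup_def, MonoidHom.map_closure, Subgroup.closure_le]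
  rintro _ ⟨g, ⟨hg, x, hx, u, rfl⟩, rfl⟩
  apply Subgroup.subset_closure
  refine ⟨⟨_, hg, rfl⟩, x, ⟨x, hx, rfl⟩, u, ?_⟩
  simp [commutatorElement_def]

theorem map_focal_iter_le {G : Type*} [Group G] (M : Subgroup G) (n : ℕ) (K : Subgroup M) :
    ((fun K : Subgroup M => Subgroup.focalSubgroup K)^[n] K).map M.subtype
      ≤ (fun K : Subgroup G => Subgroup.focalSubgroup K)^[n] (K.map M.subtype) := by
  induction n generalizing K with
  | zero => exact le_rfl
  | succ n ih =>
    rw [Function.iterate_succ_apply, Function.iterate_succ_apply]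
    exact (ih _).trans (focal_iter_mono n (map_focal_le M K))

/-- A normal subgroup contains every subgroup of order coprime to its index. -/
theorem le_of_coprime_index {G : Type*} [Group G] [Finite G] (N T : Subgroup G) [N.Normal]
    (h : (Nat.card T).Coprime N.index) : T ≤ N := by
  intro t ht
  rw [← QuotientGroup.eq_one_iff (N := N), ← orderOf_eq_one_iff]
  have h1 : orderOf (t : G ⧸ N) ∣ Nat.card T := by
    have h3 : orderOf (t : G ⧸ N) ∣ orderOf t := orderOf_map_dvd (QuotientGroup.mk' N) t
    have h2 : orderOf t ∣ Nat.card T := by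
      have := orderOf_dvd_natCard (⟨t, ht⟩ : T)
      rwa [Subgroup.orderOf_mk] at this
    exact h3.trans h2
  have h2 : orderOf (t : G ⧸ N) ∣ N.index := by
    rw [Subgroup.index_eq_card]; exact orderOf_dvd_natCard _
  have := Nat.dvd_gcd h1 h2
  rw [h.gcd_eq_one] at this
  exact Nat.dvd_one.1 this

theorem main {G : Type*} [Group G] [Finite G] (n : ℕ) (H : Subgroup G)
    (hHall : (Nat.card H).Coprime H.index)
    (hfoc : (fun K : Subgroup G => Subgroup.focalSubgroup K)^[n] H = ⊥) :
    ∃ N : Subgroup G, N.Normal ∧ Subgroup.IsComplement' N H := by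
  induction n generalizing G with
  | zero =>
    simp only [Function.iterate_zero, id_eq] at hfoc
    subst hfoc
    exact ⟨⊤, inferInstance, Subgroup.isComplement'_top_bot⟩
  | succ n ih =>
    rw [Function.iterate_succ_apply] at hfoc
    obtain ⟨h1, h2⟩ := hall_focal H hHall
    set G₁ := H.transferFocal.ker with hG₁
    have hle : H.focalSubgroup ≤ G₁ := by rw [← h1]; exact inf_le_left
    set H₁ : Subgroup G₁ := H.focalSubgroup.subgroupOf G₁ with hH₁
    have hmap : H₁.map G₁.subtype = H.focalSubgroup := Subgroup.map_subgroupOf_eq_of_le hle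
    have hidx : H₁.index = H.index := by
      change (H.focalSubgroup).relIndex G₁ = _
      rw [← h1, Subgroup.inf_relIndex_left]
      exact Cfsg.Agent.S0560.index_eq_of_prod G₁ H h2
    have hcard : Nat.card H₁ ∣ Nat.card H := by
      rw [← Subgroup.card_subtype G₁ H₁, hmap]
      exact Subgroup.card_dvd_of_le H.focalSubgroup_le
    have hHall₁ : (Nat.card H₁).Coprime H₁.index := by
      rw [hidx]; exact Nat.Coprime.coprime_dvd_left hcard hHall
    have hfoc₁ : (fun K : Subgroup G₁ => Subgroup.focalSubgroup K)^[n] H₁ = ⊥ := by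
      have := map_focal_iter_le G₁ n H₁
      rw [hmap, hfoc, le_bot_iff] at this
      exact (Subgroup.map_eq_bot_iff_of_injective _ G₁.subtype_injective).1 this
    obtain ⟨N₁, hN₁, hc⟩ := ih H₁ hHall₁ hfoc₁
    have hcN₁ : Nat.card N₁ = H.index := by rw [← hidx, hc.index_eq_card]
    have hiN₁ : N₁.index = Nat.card H₁ := hc.symm.index_eq_card
    have hcN : Nat.card (N₁.map G₁.subtype) = H.index := by
      rw [Subgroup.card_subtype, hcN₁]
    refine ⟨N₁.map G₁.subtype, ⟨fun x hx g => ?_⟩, ?_⟩
    · -- conjugate of N inside G₁ has coprime order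
      set T : Subgroup G := (N₁.map G₁.subtype).map (MulAut.conj g).toMonoidHom with hT
      have hTG₁ : T ≤ G₁ := by
        rintro _ ⟨y, ⟨z, hz, rfl⟩, rfl⟩
        have : (MulAut.conj g).toMonoidHom (G₁.subtype z) = g * z * g⁻¹ := by simp
        rw [this]
        exact (inferInstance : G₁.Normal).conj_mem _ z.2 g
      have hcT : Nat.card (T.subgroupOf G₁) = H.index := by
        rw [← Subgroup.card_subtype,
          Subgroup.map_subgroupOf_eq_of_le hTG₁, hT,
          Subgroup.card_map_of_injective (MulAut.conj g).injective, hcN]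
      have hTN : T.subgroupOf G₁ ≤ N₁ := by
        apply le_of_coprime_index
        rw [hcT, hiN₁]
        exact (Nat.Coprime.coprime_dvd_left hcard hHall).symm
      have hxT : g * x * g⁻¹ ∈ T := ⟨x, hx, by simp⟩
      have := hTN (show (⟨g * x * g⁻¹, hTG₁ hxT⟩ : G₁) ∈ T.subgroupOf G₁ from hxT)
      exact ⟨_, this, rfl⟩
    · apply Subgroup.isComplement'_of_coprime
      · rw [hcN]; exact H.index_mul_card
      · rw [hcN]; exact hHall.symm

/-- Let H be a subgroup of a finite group G with order coprime to its index. If iterating the focal-subgroup construction starting from H reaches the trivial subgroup after finitely many steps, then H has a normal complement in G. -/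
theorem result {G : Type*} [Group G] [Finite G] (H : Subgroup G) (hHall : (Nat.card H).Coprime H.index) (n : ℕ) (hfoc : (fun K : Subgroup G => Subgroup.focalSubgroup K)^[n] H = ⊥) : ∃ N : Subgroup G, N.Normal ∧ Subgroup.IsComplement' N H := by
  exact main n H hHall hfoc

end Cfsg.Agent.S0557
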