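import Cfsg.Statements.S0558
import Mathlib
import Cfsg.Agent.S0557
import Cfsg.Agent.Lib.Helper34_Sylow

set_option autoImplicit false
open Cfsg

namespace Cfsg.Agent.S0558

open scoped commutatorElement
open Cfsg.Agent.Lib.Helper34_Sylow

/-- `g` normalizes `Q` as soon as it conjugates `Q` into itself (finite case). -/
theorem mem_normalizer_of_cj_le {G : Type*} [Group G] [Finite G] {g : G} {Q : Subgroup G}
    (h : cj g Q ≤ Q) : g ∈ Subgroup.normalizer (Q : Set G) := by
  have heq : cj g Q = Q := Subgroup.eq_of_le_of_card_ge h (by rw [card_cj])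
  rw [Subgroup.mem_normalizer_iff]
  intro x
  constructor
  · intro hx
    rw [← heq]
    exact conj_mem_cj hx
  · intro hx
    rw [← heq, mem_cj] at hx
    have : g⁻¹ * (g * x * g⁻¹) * g = x := by group
    rwa [this] at hx

section

variable {G : Type*} [Group G] [Finite G] (H : Subgroup G)
  (hnorm : ∀ p : ℕ, p.Prime → p ∣ Nat.card H → ∀ P : Sylow p H,
    Subgroup.normalizer (((P : Subgroup H).map H.subtype : Subgroup G) : Set G) = H)

include hnorm

/-- Step A: a Sylow subgroup of `H` has `p'`-index in `G`. -/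
theorem not_dvd_index {p : ℕ} [hp : Fact p.Prime] (hpH : p ∣ Nat.card H) (P : Sylow p H) :
    ¬ p ∣ ((P : Subgroup H).map H.subtype).index := by
  intro hdvd
  set PG := (P : Subgroup H).map H.subtype with hPG
  have hcard : Nat.card PG = p ^ (Nat.card H).factorization p := by
    rw [hPG, Subgroup.card_subtype, Sylow.card_eq_multiplicity]
  have h1 : p ^ ((Nat.card H).factorization p + 1) ∣ Nat.card G := by
    rw [← PG.card_mul_index, hcard, pow_succ]
    exact Nat.mul_dvd_mul_left _ hdvd
  have h2 := Sylow.prime_dvd_card_quotient_normalizer h1 hcard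
  change p ∣ PG.relIndex (Subgroup.normalizer (PG : Set G)) at h2
  rw [hnorm p hp.out hpH P, hPG, Cfsg.Agent.S0560.relIndex_map_subtype'] at h2
  exact Sylow.not_dvd_index P h2

omit [Finite G] in
/-- Sylow subgroups of `H` are normal in `H`. -/
theorem sylow_normal {p : ℕ} [hp : Fact p.Prime] (hpH : p ∣ Nat.card H) (P : Sylow p H) :
    (P : Subgroup H).Normal := by
  refine ⟨fun x hx h => ?_⟩
  have hh : (h : G) ∈ Subgroup.normalizer
      (((P : Subgroup H).map H.subtype : Subgroup G) : Set G) := by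
    rw [hnorm p hp.out hpH P]; exact h.2
  rw [Subgroup.mem_normalizer_iff] at hh
  have := (hh x).1 ⟨x, hx, rfl⟩
  obtain ⟨y, hy, hyx⟩ := this
  have : y = h * x * h⁻¹ := Subtype.ext (by simpa using hyx)
  rwa [← this]

omit [Finite G] in
/-- Step B: elements of Sylow subgroups of `H` for different primes commute. -/
theorem sylow_commute {p q : ℕ} [hp : Fact p.Prime] [hq : Fact q.Prime] (hpq : p ≠ q)
    (hpH : p ∣ Nat.card H) (hqH : q ∣ Nat.card H) (P : Sylow p H) (Q : Sylow q H)
    {x y : G} (hx : x ∈ (P : Subgroup H).map H.subtype) (hy : y ∈ (Q : Subgroup H).map H.subtype) :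
    x * y = y * x := by
  obtain ⟨x', hx', rfl⟩ := hx
  obtain ⟨y', hy', rfl⟩ := hy
  have hPn := sylow_normal H hnorm hpH P
  have hQn := sylow_normal H hnorm hqH Q
  have hdis : Disjoint (P : Subgroup H) (Q : Subgroup H) := IsPGroup.disjoint_of_ne p q hpq _ _ P.2 Q.2
  have := Subgroup.commute_of_normal_of_disjoint _ _ hPn hQn hdis x' y' hx' hy'
  have h2 := congrArg H.subtype this.eq
  simpa using h2

/-- `H` is nilpotent. -/
theorem nilpotent : Group.IsNilpotent H := by
  apply ((Group.isNilpotent_of_finite_tfae (G := H)).out 3 0).1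
  intro p hp P
  by_cases hpH : p ∣ Nat.card H
  · exact sylow_normal H hnorm hpH P
  · have : (P : Subgroup H) = ⊥ := by
      rw [← Subgroup.card_eq_one, Sylow.card_eq_multiplicity,
        Nat.factorization_eq_zero_of_not_dvd hpH, pow_zero]
    rw [this]; infer_instance

variable (hnot : ∀ p : ℕ, p.Prime → ∀ P : Sylow p G, (P : Subgroup G) ≠ H)

include hnot

/-- Step D: `H` is not of prime power order. -/
theorem exists_other_prime {p : ℕ} [hp : Fact p.Prime] (hpH : p ∣ Nat.card H) :
    ∃ q : ℕ, q.Prime ∧ q ≠ p ∧ q ∣ Nat.card H := by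
  by_contra hcon
  push Not at hcon
  have hpow : Nat.card H = p ^ (Nat.card H).primeFactorsList.length :=
    Nat.eq_prime_pow_of_unique_prime_dvd Nat.card_pos.ne'
      (fun {d} hd hdH => by by_contra hne; exact hcon d hd hne hdH)
  have hHp : IsPGroup p H := IsPGroup.of_card hpow
  obtain ⟨P⟩ : Nonempty (Sylow p H) := inferInstance
  have hPtop : (P : Subgroup H) = ⊤ := by
    have : IsPGroup p (⊤ : Subgroup H) := hHp.to_subgroup _
    exact (P.3 this le_top).symm
  have hPG : (P : Subgroup H).map H.subtype = H := by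
    rw [hPtop, ← MonoidHom.range_eq_map, Subgroup.range_subtype]
  have hidx := not_dvd_index H hnorm hpH P
  rw [hPG] at hidx
  exact hnot p hp.out (hHp.toSylow hidx) (IsPGroup.toSylow_coe _ _)

/-- Step C: control of fusion. -/
theorem fusion {p : ℕ} [hp : Fact p.Prime] (hpH : p ∣ Nat.card H) (P : Sylow p H) {a : G} (u : G)
    (ha : a ∈ (P : Subgroup H).map H.subtype)
    (ha' : u * a * u⁻¹ ∈ (P : Subgroup H).map H.subtype) :
    ∃ h ∈ H, h * a * h⁻¹ = u * a * u⁻¹ := by
  obtain ⟨q, hq, hqp, hqH⟩ := exists_other_prime H hnorm hnot hpH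
  have : Fact q.Prime := ⟨hq⟩
  obtain ⟨Q⟩ : Nonempty (Sylow q H) := inferInstance
  have hQC : (Q : Subgroup H).map H.subtype ≤ Subgroup.centralizer ({u * a * u⁻¹} : Set G) := by
    intro y hy
    rw [Subgroup.mem_centralizer_iff]
    intro z hz
    rw [Set.mem_singleton_iff] at hz
    rw [hz]
    exact sylow_commute H hnorm hqp.symm hpH hqH P Q ha' hy
  have hQuC : cj u ((Q : Subgroup H).map H.subtype)
      ≤ Subgroup.centralizer ({u * a * u⁻¹} : Set G) := by
    intro y hy
    rw [mem_cj] at hy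
    rw [Subgroup.mem_centralizer_iff]
    intro z hz
    rw [Set.mem_singleton_iff] at hz
    rw [hz]
    have := sylow_commute H hnorm hqp.symm hpH hqH P Q ha hy
    calc u * a * u⁻¹ * y = u * (a * (u⁻¹ * y * u)) * u⁻¹ := by group
      _ = u * ((u⁻¹ * y * u) * a) * u⁻¹ := by rw [this]
      _ = y * (u * a * u⁻¹) := by group
  have hQp : IsPGroup q ((Q : Subgroup H).map H.subtype) := Q.2.map H.subtype
  have hidx : ¬ q ∣ ((Q : Subgroup H).map H.subtype).relIndex
      (Subgroup.centralizer ({u * a * u⁻¹} : Set G)) := fun hd =>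
    not_dvd_index H hnorm hqH Q (hd.trans (Subgroup.relIndex_dvd_index_of_le hQC))
  obtain ⟨c, hc, hcle⟩ := exists_cj_le_of_relIndex hQp hidx hQuC (isPGroup_cj hQp)
  rw [← cj_mul] at hcle
  have hnormz := mem_normalizer_of_cj_le hcle
  rw [hnorm q hq hqH Q] at hnormz
  refine ⟨c * u, hnormz, ?_⟩
  rw [Subgroup.mem_centralizer_iff] at hc
  have := hc (u * a * u⁻¹) rfl
  calc c * u * a * (c * u)⁻¹ = c * (u * a * u⁻¹) * c⁻¹ := by group
    _ = (u * a * u⁻¹) * c * c⁻¹ := by rw [this]
    _ = u * a * u⁻¹ := by group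

/-- Step F: focal subgroups of subgroups of a Sylow subgroup of `H`. -/
theorem focal_le_commutator {p : ℕ} [hp : Fact p.Prime] (hpH : p ∣ Nat.card H) (P : Sylow p H)
    (K : Subgroup G) (hK : K ≤ (P : Subgroup H).map H.subtype) :
    K.focalSubgroup ≤ ⁅K, H⁆ := by
  rw [Subgroup.focalSubgroup_def, Subgroup.closure_le]
  rintro g ⟨hg, x, hx, u, rfl⟩
  have ha : x⁻¹ ∈ (P : Subgroup H).map H.subtype := hK (K.inv_mem hx)
  have ha' : u * x⁻¹ * u⁻¹ ∈ (P : Subgroup H).map H.subtype := by
    have : u * x⁻¹ * u⁻¹ = x⁻¹ * ⁅x, u⁆ := by rw [commutatorElement_def]; group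
    rw [this]; exact hK (K.mul_mem (K.inv_mem hx) hg)
  obtain ⟨h, hh, heq⟩ := fusion H hnorm hnot hpH P u ha ha'
  have : ⁅x, u⁆ = ⁅x, h⁆ := by
    rw [commutatorElement_def, commutatorElement_def]
    calc x * u * x⁻¹ * u⁻¹ = x * (u * x⁻¹ * u⁻¹) := by group
      _ = x * (h * x⁻¹ * h⁻¹) := by rw [heq]
      _ = x * h * x⁻¹ * h⁻¹ := by group
  rw [SetLike.mem_coe, this]
  exact Subgroup.commutator_mem_commutator hx hh

theorem focal_iter_le {p : ℕ} [hp : Fact p.Prime] (hpH : p ∣ Nat.card H) (P : Sylow p H) (n : ℕ) :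
    (fun K : Subgroup G => Subgroup.focalSubgroup K)^[n] ((P : Subgroup H).map H.subtype)
      ≤ ((P : Subgroup H).map H.subtype) ⊓ H.lowerCentralSeries n := by
  induction n with
  | zero =>
    simp only [Function.iterate_zero, id_eq, Subgroup.lowerCentralSeries_zero]
    exact le_inf le_rfl (Subgroup.map_subtype_le _)
  | succ n ih =>
    rw [Function.iterate_succ_apply']
    have h1 := le_trans ih inf_le_left
    have h2 := le_trans ih inf_le_right
    refine le_inf ((Subgroup.focalSubgroup_le _).trans h1) ?_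
    refine (focal_le_commutator H hnorm hnot hpH P _ h1).trans ?_
    rw [Subgroup.lowerCentralSeries_succ]
    exact Subgroup.commutator_mono h2 le_rfl

theorem exists_p_complement {p : ℕ} [hp : Fact p.Prime] (hpH : p ∣ Nat.card H) :
    ∃ N : Subgroup G, N.Normal ∧ N.index = p ^ (Nat.card H).factorization p ∧
      ¬ p ∣ Nat.card N := by
  obtain ⟨P⟩ : Nonempty (Sylow p H) := inferInstance
  have hnil := nilpotent H hnorm
  obtain ⟨n, hn⟩ := (Subgroup.isNilpotent_iff_lowerCentralSeries H).1 hnil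
  have hfoc : (fun K : Subgroup G => Subgroup.focalSubgroup K)^[n]
      ((P : Subgroup H).map H.subtype) = ⊥ := by
    have := focal_iter_le H hnorm hnot hpH P n
    rw [hn, inf_bot_eq, le_bot_iff] at this; exact this
  have hcard : Nat.card ((P : Subgroup H).map H.subtype) = p ^ (Nat.card H).factorization p := by
    rw [Subgroup.card_subtype, Sylow.card_eq_multiplicity]
  have hidx := not_dvd_index H hnorm hpH P
  have hHall : (Nat.card ((P : Subgroup H).map H.subtype)).Coprime
      ((P : Subgroup H).map H.subtype).index := by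
    rw [hcard]; exact Nat.Coprime.pow_left _ ((Nat.Prime.coprime_iff_not_dvd hp.out).2 hidx)
  obtain ⟨N, hN, hc⟩ := Cfsg.Agent.S0557.main n _ hHall hfoc
  refine ⟨N, hN, ?_, ?_⟩
  · rw [hc.symm.index_eq_card, hcard]
  · rw [← hc.index_eq_card]; exact hidx

end

/-- Let H be a subgroup of a finite group G that is not a Sylow subgroup of G for any prime, and suppose that for every prime p dividing the order of H and every Sylow p-subgroup P of H the normalizer of P in G is exactly H. Then some normal subgroup of G is a complement to H. -/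
theorem result {G : Type*} [Group G] [Finite G] (H : Subgroup G) (hnot : ∀ p : ℕ, p.Prime → ∀ P : Sylow p G, (P : Subgroup G) ≠ H) (hnorm : ∀ p : ℕ, p.Prime → p ∣ Nat.card H → ∀ P : Sylow p H, Subgroup.normalizer (((P : Subgroup H).map H.subtype : Subgroup G) : Set G) = H) : ∃ N : Subgroup G, N.Normal ∧ Subgroup.IsComplement' N H := by
  classical
  have key : ∀ p : (Nat.card H).primeFactors, ∃ N : Subgroup G, N.Normal ∧
      N.index = (p : ℕ) ^ (Nat.card H).factorization p ∧ ¬ (p : ℕ) ∣ Nat.card N := by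
    intro p
    have hp : (p : ℕ).Prime := Nat.prime_of_mem_primeFactors p.2
    have : Fact (p : ℕ).Prime := ⟨hp⟩
    exact exists_p_complement H hnorm hnot (Nat.dvd_of_mem_primeFactors p.2)
  choose N hN1 hN2 hN3 using key
  have hMn : (⨅ p, N p).Normal := Subgroup.normal_iInf_normal hN1
  have hMle : (⨅ p, N p).index ≤ Nat.card H := by
    calc (⨅ p, N p).index ≤ ∏ p, (N p).index := Subgroup.index_iInf_le _
      _ = ∏ p : (Nat.card H).primeFactors, (p : ℕ) ^ (Nat.card H).factorization p := by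
        simp only [hN2]
      _ = Nat.card H := by
        rw [Finset.prod_coe_sort (Nat.card H).primeFactors
          (fun p => p ^ (Nat.card H).factorization p)]
        exact Nat.prod_factorization_pow_eq_self Nat.card_pos.ne'
  have hdisj : Disjoint (⨅ p, N p) H := by
    rw [Subgroup.disjoint_def]
    intro x hxM hxH
    by_contra hx1
    have ho : orderOf x ≠ 1 := fun h => hx1 (orderOf_eq_one_iff.1 h)
    obtain ⟨p, hp, hpx⟩ := Nat.exists_prime_and_dvd ho
    have hxH' : orderOf x ∣ Nat.card H := by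
      have := orderOf_dvd_natCard (⟨x, hxH⟩ : H); rwa [Subgroup.orderOf_mk] at this
    have hpmem : p ∈ (Nat.card H).primeFactors :=
      Nat.mem_primeFactors.2 ⟨hp, hpx.trans hxH', Nat.card_pos.ne'⟩
    have hxN : x ∈ N ⟨p, hpmem⟩ := (Subgroup.mem_iInf.1 hxM) ⟨p, hpmem⟩
    have : orderOf x ∣ Nat.card (N ⟨p, hpmem⟩) := by
      have := orderOf_dvd_natCard (⟨x, hxN⟩ : N ⟨p, hpmem⟩); rwa [Subgroup.orderOf_mk] at this
    exact hN3 ⟨p, hpmem⟩ (hpx.trans this)
  have hdvd : Nat.card H ∣ (⨅ p, N p).index := by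
    have h1 : (⨅ p, N p).relIndex H ∣ (⨅ p, N p).index :=
      Subgroup.relIndex_dvd_index_of_normal _ H
    have h2 : (⨅ p, N p).relIndex H = Nat.card H := by
      rw [Subgroup.relIndex, Subgroup.subgroupOf_eq_bot.2 hdisj, Subgroup.index_bot]
    rwa [h2] at h1
  have hidx : (⨅ p, N p).index = Nat.card H :=
    le_antisymm hMle (Nat.le_of_dvd (Nat.pos_of_ne_zero Subgroup.FiniteIndex.index_ne_zero) hdvd)
  refine ⟨⨅ p, N p, hMn, Subgroup.isComplement'_of_card_mul_and_disjoint ?_ hdisj⟩
  have := (⨅ p, N p).card_mul_index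
  rw [hidx] at this
  exact this

end Cfsg.Agent.S0558
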