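import Cfsg.Statements.S4331
import Cfsg.Agent.Lib.Helper1_Cores

set_option autoImplicit false
open Cfsg

namespace Cfsg.Agent.S4331

/-! The example is `AΓL(1,9) = 3^2 : SD_16` of order 144, with `A` generated by the Frobenius map. -/

/-- semidihedral group of order 16, as the semilinear maps `x ↦ ω^i x` and `x ↦ ω^i x^3` of `F_9` -/
inductive SD : Type
  | r : ZMod 8 → SD
  | sr : ZMod 8 → SD
  deriving DecidableEq, Fintype

namespace SD

def mul : SD → SD → SD
  | r i, r j => r (i + j)
  | r i, sr j => sr (i + j)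
  | sr i, r j => sr (i + 3 * j)
  | sr i, sr j => r (i + 3 * j)

def inv : SD → SD
  | r i => r (-i)
  | sr i => sr (5 * i)

instance : Mul SD := ⟨mul⟩
instance : One SD := ⟨r 0⟩
instance : Inv SD := ⟨inv⟩

set_option maxRecDepth 100000 in
theorem mul_assoc' : ∀ a b c : SD, a * b * c = a * (b * c) := by decide

theorem one_mul' : ∀ a : SD, 1 * a = a := by decide
theorem mul_one' : ∀ a : SD, a * 1 = a := by decide
theorem inv_mul' : ∀ a : SD, a⁻¹ * a = 1 := by decide

instance : Group SD where
  mul_assoc := mul_assoc'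
  one_mul := one_mul'
  mul_one := mul_one'
  inv_mul_cancel := inv_mul'

theorem card_eq : Nat.card SD = 2 ^ 4 := by
  rw [Nat.card_eq_fintype_card]
  decide

end SD

abbrev V : Type := ZMod 3 × ZMod 3

/-- multiplication by `ω = 1 + i` on `F_9 = F_3[i]` -/
def R (v : V) : V := (v.1 - v.2, v.1 + v.2)
/-- Frobenius -/
def S (v : V) : V := (v.1, -v.2)

def act : SD → V → V
  | SD.r i, v => R^[i.val] v
  | SD.sr i, v => R^[i.val] (S v)

set_option maxRecDepth 100000 in
theorem act_mul : ∀ (h h' : SD) (v : V), act (h * h') v = act h (act h' v) := by decide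

set_option maxRecDepth 100000 in
theorem act_add : ∀ (h : SD) (v w : V), act h (v + w) = act h v + act h w := by decide

theorem act_one : ∀ v : V, act 1 v = v := by decide

theorem act_zero : ∀ h : SD, act h 0 = 0 := by decide

@[ext]
structure AG : Type where
  v : V
  h : SD
  deriving DecidableEq, Fintype

namespace AG

instance : Mul AG := ⟨fun x y => ⟨x.v + act x.h y.v, x.h * y.h⟩⟩
instance : One AG := ⟨⟨0, 1⟩⟩
instance : Inv AG := ⟨fun x => ⟨- act x.h⁻¹ x.v, x.h⁻¹⟩⟩

theorem mul_v (x y : AG) : (x * y).v = x.v + act x.h y.v := rfl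
theorem mul_h (x y : AG) : (x * y).h = x.h * y.h := rfl
theorem one_v : (1 : AG).v = 0 := rfl
theorem one_h : (1 : AG).h = 1 := rfl
theorem inv_v (x : AG) : (x⁻¹).v = - act x.h⁻¹ x.v := rfl
theorem inv_h (x : AG) : (x⁻¹).h = x.h⁻¹ := rfl

instance : Group AG where
  mul_assoc x y z := by
    ext1
    · simp only [mul_v, mul_h, act_add, act_mul, add_assoc]
    · simp only [mul_h, mul_assoc]
  one_mul x := by
    ext1
    · simp only [mul_v, one_v, one_h, act_one, zero_add]
    · simp only [mul_h, one_h, one_mul]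
  mul_one x := by
    ext1
    · simp only [mul_v, one_v, act_zero, add_zero]
    · simp only [mul_h, one_h, mul_one]
  inv_mul_cancel x := by
    ext1
    · simp only [mul_v, inv_v, inv_h, one_v, neg_add_cancel]
    · simp only [mul_h, inv_h, one_h, inv_mul_cancel]

/-- the Frobenius map -/
def a : AG := ⟨0, SD.sr 0⟩

/-- a translation inverted by `a` -/
def t : AG := ⟨(0, 1), 1⟩

def P (g : AG) : Prop := g * a = a * g ∨ g.v = 0

instance : DecidablePred P := fun g => by unfold P; infer_instance

set_option maxRecDepth 1000000 in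
theorem key : ∀ c : AG, ∃ k : AG, P (k * c * k⁻¹) := by decide

/-- the projection onto `SD` -/
def proj : AG →* SD where
  toFun x := x.h
  map_one' := rfl
  map_mul' _ _ := rfl

set_option maxRecDepth 1000000 in
theorem ker_comm : ∀ x y : AG, x.h = 1 → y.h = 1 → x * y = y * x := by
  intro x y hx hy
  ext1
  · simp only [mul_v, hx, hy, act_one, add_comm]
  · simp only [mul_h, hx, hy]

/-- the point stabilizer, a Sylow 2-subgroup -/
def T : Subgroup AG where
  carrier := {g | g.v = 0}
  mul_mem' := by
    intro x y hx hy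
    show (x * y).v = 0
    have hx' : x.v = 0 := hx
    have hy' : y.v = 0 := hy
    rw [mul_v, hx', hy', act_zero, add_zero]
  one_mem' := rfl
  inv_mem' := by
    intro x hx
    show (x⁻¹).v = 0
    have hx' : x.v = 0 := hx
    rw [inv_v, hx', act_zero, neg_zero]

theorem mem_T {g : AG} : g ∈ T ↔ g.v = 0 := Iff.rfl

set_option maxRecDepth 1000000 in
theorem pow_T : ∀ g : AG, g.v = 0 → g ^ 2 ^ 4 = 1 := by decide

theorem a_ne_one : a ≠ 1 := by decide
theorem a_sq : a ^ 2 = 1 := by decide
theorem x_ne_one : a * (t * a * t⁻¹) ≠ 1 := by decide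
theorem x_cube : (a * (t * a * t⁻¹)) ^ 3 = 1 := by decide

end AG

open Subgroup

/-- in a finite nilpotent group every subgroup is subnormal -/
theorem isSubnormal_of_isNilpotent {G : Type*} [Group G] [Finite G] [Group.IsNilpotent G]
    (H : Subgroup G) : H.IsSubnormal := by
  have hnc : NormalizerCondition G := Group.normalizerCondition_of_isNilpotent
  induction' hn : H.index using Nat.strong_induction_on with n ih generalizing H
  by_cases hH : H = ⊤
  · rw [hH]; exact IsSubnormal.top
  · have hlt : H < normalizer (H : Set G) := hnc H (lt_top_iff_ne_top.mpr hH)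
    have h1 : (normalizer (H : Set G)).index < n := by
      rw [← hn]
      exact Subgroup.index_strictAnti hlt
    have h2 := ih _ h1 (normalizer (H : Set G)) rfl
    exact IsSubnormal.step H (normalizer (H : Set G)) hlt.le h2 Subgroup.normal_in_normalizer

theorem result :
    ∃ (G : Type) (_ : Group G) (_ : Finite G) (A : Subgroup G), Group.IsSolvable G ∧ Nat.card A = 2 ∧
      (∀ c : G, ∃ g : G, IsConj c g ∧ (A.subgroupOf (A ⊔ Subgroup.zpowers g)).IsSubnormal) ∧
      ¬ A ≤ Cfsg.pCore 2 G := by
  have h2 : Fact (Nat.Prime 2) := ⟨Nat.prime_two⟩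
  refine ⟨AG, inferInstance, inferInstance, Subgroup.zpowers AG.a, ?_, ?_, ?_, ?_⟩
  · -- solvable
    have hSD : Group.IsSolvable SD := by
      have hp : IsPGroup 2 SD := IsPGroup.of_card SD.card_eq
      have := hp.isNilpotent
      infer_instance
    have hker : Group.IsSolvable AG.proj.ker := by
      apply Group.isSolvable_of_comm
      rintro ⟨x, hx⟩ ⟨y, hy⟩
      apply Subtype.ext
      exact AG.ker_comm x y (MonoidHom.mem_ker.mp hx) (MonoidHom.mem_ker.mp hy)
    exact Group.isSolvable_of_ker_le_range AG.proj.ker.subtype AG.proj (by simp)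
  · rw [Nat.card_zpowers]
    exact orderOf_eq_prime AG.a_sq AG.a_ne_one
  · intro c
    obtain ⟨k, hk⟩ := AG.key c
    refine ⟨k * c * k⁻¹, isConj_iff.mpr ⟨k, rfl⟩, ?_⟩
    generalize k * c * k⁻¹ = g at hk
    rcases hk with hk | hk
    · -- `g` commutes with `a`: `A` is normal in the join
      apply Subgroup.Normal.isSubnormal
      rw [Subgroup.normal_subgroupOf_iff_le_normalizer le_sup_left]
      apply sup_le
      · exact Subgroup.le_normalizer
      · rw [Subgroup.zpowers_le]
        have hc : g ∈ Subgroup.centralizer ((Subgroup.zpowers AG.a : Subgroup AG) : Set AG) := by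
          rw [Subgroup.mem_centralizer_iff]
          intro h hh
          obtain ⟨n, rfl⟩ := Subgroup.mem_zpowers_iff.mp hh
          exact ((Commute.zpow_left (show Commute AG.a g from hk.symm) n)).eq
        exact Subgroup.centralizer_le_normalizer _ hc
    · -- `g` lies in the 2-group `T`
      have hAT : Subgroup.zpowers AG.a ≤ AG.T := by
        rw [Subgroup.zpowers_le]
        exact (rfl : AG.a.v = 0)
      have hKT : Subgroup.zpowers AG.a ⊔ Subgroup.zpowers g ≤ AG.T := by
        apply sup_le hAT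
        rw [Subgroup.zpowers_le]
        exact hk
      have hTp : IsPGroup 2 AG.T := by
        rintro ⟨x, hx⟩
        refine ⟨4, ?_⟩
        apply Subtype.ext
        rw [Subgroup.coe_pow]
        exact AG.pow_T x hx
      have hTn : Group.IsNilpotent AG.T := hTp.isNilpotent
      have h1 : ((Subgroup.zpowers AG.a).subgroupOf AG.T).IsSubnormal :=
        isSubnormal_of_isNilpotent _
      have h2 : (Subgroup.zpowers AG.a).subgroupOf (Subgroup.zpowers AG.a ⊔ Subgroup.zpowers g) =
          ((Subgroup.zpowers AG.a).subgroupOf AG.T).comap (Subgroup.inclusion hKT) := by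
        ext x
        simp [Subgroup.mem_subgroupOf]
      rw [h2]
      exact h1.comap _
  · intro hA
    have hQn : (Cfsg.pCore 2 AG).Normal := Cfsg.Agent.Lib.Helper1_Cores.pCore_normal 2
    have hQp : IsPGroup 2 (Cfsg.pCore 2 AG) := Cfsg.Agent.Lib.Helper1_Cores.pCore_isPGroup 2
    have ha : AG.a ∈ Cfsg.pCore 2 AG := hA (Subgroup.mem_zpowers AG.a)
    have hx : AG.a * (AG.t * AG.a * AG.t⁻¹) ∈ Cfsg.pCore 2 AG :=
      Subgroup.mul_mem _ ha (hQn.conj_mem _ ha _)
    obtain ⟨k, hk⟩ := hQp ⟨_, hx⟩
    have hk' : (AG.a * (AG.t * AG.a * AG.t⁻¹)) ^ 2 ^ k = 1 := by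
      have := congrArg Subtype.val hk
      simpa using this
    have h1 : orderOf (AG.a * (AG.t * AG.a * AG.t⁻¹)) ∣ 2 ^ k := orderOf_dvd_of_pow_eq_one hk'
    have h3 : orderOf (AG.a * (AG.t * AG.a * AG.t⁻¹)) ∣ 3 := orderOf_dvd_of_pow_eq_one AG.x_cube
    have hcop : Nat.Coprime (2 ^ k) 3 := Nat.Coprime.pow_left k (by norm_num)
    have h4 : orderOf (AG.a * (AG.t * AG.a * AG.t⁻¹)) = 1 :=
      Nat.eq_one_of_dvd_coprimes hcop h1 h3
    exact AG.x_ne_one (orderOf_eq_one_iff.mp h4)

end Cfsg.Agent.S4331
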