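import Cfsg.Statements.S2428
import Cfsg.Agent.Lib.Helper41_Dicyclic

set_option autoImplicit false
open Cfsg

namespace Cfsg.Agent.S2428

open Cfsg.Agent.Lib.Helper41_Dicyclic

variable {F : Type*} [Field F]

abbrev SL2 (F : Type*) [Field F] := Matrix.SpecialLinearGroup (Fin 2) F

theorem det_eq (g : SL2 F) :
    (g : Matrix (Fin 2) (Fin 2) F) 0 0 * (g : Matrix (Fin 2) (Fin 2) F) 1 1 -
      (g : Matrix (Fin 2) (Fin 2) F) 0 1 * (g : Matrix (Fin 2) (Fin 2) F) 1 0 = 1 := by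
  have := g.2
  rw [Matrix.det_fin_two] at this
  exact this

theorem mul_entry (g h : SL2 F) (i j : Fin 2) :
    ((g * h : SL2 F) : Matrix (Fin 2) (Fin 2) F) i j =
      (g : Matrix (Fin 2) (Fin 2) F) i 0 * (h : Matrix (Fin 2) (Fin 2) F) 0 j +
      (g : Matrix (Fin 2) (Fin 2) F) i 1 * (h : Matrix (Fin 2) (Fin 2) F) 1 j := by
  rw [Matrix.SpecialLinearGroup.coe_mul, Matrix.mul_apply, Fin.sum_univ_two]

theorem inv_entry (g : SL2 F) :
    ((g⁻¹ : SL2 F) : Matrix (Fin 2) (Fin 2) F) 0 0 = (g : Matrix (Fin 2) (Fin 2) F) 1 1 ∧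
    ((g⁻¹ : SL2 F) : Matrix (Fin 2) (Fin 2) F) 0 1 = -(g : Matrix (Fin 2) (Fin 2) F) 0 1 ∧
    ((g⁻¹ : SL2 F) : Matrix (Fin 2) (Fin 2) F) 1 0 = -(g : Matrix (Fin 2) (Fin 2) F) 1 0 ∧
    ((g⁻¹ : SL2 F) : Matrix (Fin 2) (Fin 2) F) 1 1 = (g : Matrix (Fin 2) (Fin 2) F) 0 0 := by
  rw [Matrix.SpecialLinearGroup.coe_inv, Matrix.adjugate_fin_two]
  simp

theorem ext2 (g h : SL2 F)
    (h00 : (g : Matrix (Fin 2) (Fin 2) F) 0 0 = (h : Matrix (Fin 2) (Fin 2) F) 0 0)
    (h01 : (g : Matrix (Fin 2) (Fin 2) F) 0 1 = (h : Matrix (Fin 2) (Fin 2) F) 0 1)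
    (h10 : (g : Matrix (Fin 2) (Fin 2) F) 1 0 = (h : Matrix (Fin 2) (Fin 2) F) 1 0)
    (h11 : (g : Matrix (Fin 2) (Fin 2) F) 1 1 = (h : Matrix (Fin 2) (Fin 2) F) 1 1) : g = h := by
  apply Matrix.SpecialLinearGroup.ext
  intro i j
  fin_cases i <;> fin_cases j <;> assumption

/-- The diagonal subgroup. -/
def diagSub (F : Type*) [Field F] : Subgroup (SL2 F) where
  carrier := {g | (g : Matrix (Fin 2) (Fin 2) F) 0 1 = 0 ∧ (g : Matrix (Fin 2) (Fin 2) F) 1 0 = 0}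
  one_mem' := by simp
  mul_mem' := by
    rintro g h ⟨hg1, hg2⟩ ⟨hh1, hh2⟩
    refine ⟨?_, ?_⟩
    · rw [mul_entry, hg1, hh1]; ring
    · rw [mul_entry, hg2, hh2]; ring
  inv_mem' := by
    rintro g ⟨hg1, hg2⟩
    obtain ⟨-, h01, h10, -⟩ := inv_entry g
    exact ⟨by rw [h01, hg1, neg_zero], by rw [h10, hg2, neg_zero]⟩

theorem mem_diagSub (g : SL2 F) : g ∈ diagSub F ↔
    ((g : Matrix (Fin 2) (Fin 2) F) 0 1 = 0 ∧ (g : Matrix (Fin 2) (Fin 2) F) 1 0 = 0) := Iff.rfl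

/-- minus the identity -/
def negOne (F : Type*) [Field F] : SL2 F := ⟨!![-1, 0; 0, -1], by simp [Matrix.det_fin_two]⟩

/-- Weyl element -/
def weyl (F : Type*) [Field F] : SL2 F := ⟨!![0, 1; -1, 0], by simp [Matrix.det_fin_two]⟩

theorem centralizer_eq (d : SL2 F) (hd01 : (d : Matrix (Fin 2) (Fin 2) F) 0 1 = 0)
    (hd10 : (d : Matrix (Fin 2) (Fin 2) F) 1 0 = 0)
    (hda : (d : Matrix (Fin 2) (Fin 2) F) 0 0 ^ 2 ≠ 1) :
    Subgroup.centralizer ({d} : Set (SL2 F)) = diagSub F := by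
  have hdet := det_eq d
  rw [hd01, zero_mul, sub_zero] at hdet
  have hne : (d : Matrix (Fin 2) (Fin 2) F) 0 0 ≠ (d : Matrix (Fin 2) (Fin 2) F) 1 1 := by
    intro h
    apply hda
    rw [sq]
    nth_rewrite 2 [h]
    exact hdet
  ext g
  rw [Subgroup.mem_centralizer_iff, mem_diagSub]
  constructor
  · intro h
    have h1 := h d rfl
    have e01 := congrArg (fun m : SL2 F => (m : Matrix (Fin 2) (Fin 2) F) 0 1) h1
    have e10 := congrArg (fun m : SL2 F => (m : Matrix (Fin 2) (Fin 2) F) 1 0) h1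
    simp only [mul_entry, hd01, hd10, zero_mul, mul_zero, add_zero, zero_add] at e01 e10
    constructor
    · have : ((d : Matrix (Fin 2) (Fin 2) F) 0 0 - (d : Matrix (Fin 2) (Fin 2) F) 1 1) *
          (g : Matrix (Fin 2) (Fin 2) F) 0 1 = 0 := by
        rw [sub_mul, e01]; ring
      rcases mul_eq_zero.1 this with h | h
      · exact absurd (sub_eq_zero.1 h) hne
      · exact h
    · have : ((d : Matrix (Fin 2) (Fin 2) F) 0 0 - (d : Matrix (Fin 2) (Fin 2) F) 1 1) *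
          (g : Matrix (Fin 2) (Fin 2) F) 1 0 = 0 := by
        rw [sub_mul, mul_comm _ ((g : Matrix (Fin 2) (Fin 2) F) 1 0), ← e10]; ring
      rcases mul_eq_zero.1 this with h | h
      · exact absurd (sub_eq_zero.1 h) hne
      · exact h
  · rintro ⟨hg1, hg2⟩ h rfl
    apply ext2 <;> simp only [mul_entry, hd01, hd10, hg1, hg2] <;> ring

theorem card_diagSub [Fintype F] : Nat.card (diagSub F) = Fintype.card F - 1 := by
  rw [← Nat.card_eq_fintype_card (α := F), ← Nat.card_units]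
  have hne : ∀ g : diagSub F, ((g : SL2 F) : Matrix (Fin 2) (Fin 2) F) 0 0 ≠ 0 := by
    rintro ⟨g, hg1, hg2⟩ h
    have := det_eq g
    simp only at h
    rw [h, hg1] at this
    simp at this
  let f : diagSub F → Fˣ := fun g => Units.mk0 _ (hne g)
  apply Nat.card_congr (Equiv.ofBijective f ⟨?_, ?_⟩)
  · rintro ⟨g, hg1, hg2⟩ ⟨h, hh1, hh2⟩ hgh
    have h00 : (g : Matrix (Fin 2) (Fin 2) F) 0 0 = (h : Matrix (Fin 2) (Fin 2) F) 0 0 := by
      simpa [f] using congrArg Units.val hgh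
    apply Subtype.ext
    simp only
    have dg := det_eq g
    have dh := det_eq h
    rw [hg1, zero_mul, sub_zero] at dg
    rw [hh1, zero_mul, sub_zero] at dh
    have hg0 : (g : Matrix (Fin 2) (Fin 2) F) 0 0 ≠ 0 := by
      intro h0; rw [h0, zero_mul] at dg; exact zero_ne_one dg
    apply ext2 _ _ h00 (by rw [hg1, hh1]) (by rw [hg2, hh2])
    apply mul_left_cancel₀ hg0
    rw [dg, h00, dh]
  · intro u
    refine ⟨⟨⟨!![(u : F), 0; 0, ((u⁻¹ : Fˣ) : F)], by simp [Matrix.det_fin_two]⟩, by simp, by simp⟩, ?_⟩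
    apply Units.ext
    simp [f]

theorem two_ne_zero_of_odd [Fintype F] (hodd : Odd (Fintype.card F)) : (2 : F) ≠ 0 := by
  apply Ring.two_ne_zero
  intro h
  have := FiniteField.even_card_iff_char_two.1 h
  rcases hodd with ⟨k, hk⟩
  omega

theorem mem_normalizer_cases (d : SL2 F) (hd : d ∈ diagSub F)
    (hne : (d : Matrix (Fin 2) (Fin 2) F) 0 0 ≠ (d : Matrix (Fin 2) (Fin 2) F) 1 1)
    (g : SL2 F) (hg : g ∈ Subgroup.normalizer ((diagSub F : Subgroup (SL2 F)) : Set (SL2 F))) :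
    g ∈ diagSub F ∨
      ((g : Matrix (Fin 2) (Fin 2) F) 0 0 = 0 ∧ (g : Matrix (Fin 2) (Fin 2) F) 1 1 = 0) := by
  have h1 := (Subgroup.mem_normalizer_iff.1 hg d).1 hd
  obtain ⟨hd01, hd10⟩ := hd
  obtain ⟨i00, i01, i10, i11⟩ := inv_entry g
  obtain ⟨e01, e10⟩ := h1
  simp only [mul_entry, hd01, hd10, mul_zero, add_zero, zero_add, i00, i01, i10, i11]
    at e01 e10
  have hdet := det_eq g
  have hsub : (d : Matrix (Fin 2) (Fin 2) F) 0 0 - (d : Matrix (Fin 2) (Fin 2) F) 1 1 ≠ 0 :=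
    sub_ne_zero.2 hne
  have hpq : (g : Matrix (Fin 2) (Fin 2) F) 0 0 * (g : Matrix (Fin 2) (Fin 2) F) 0 1 = 0 := by
    have : ((d : Matrix (Fin 2) (Fin 2) F) 0 0 - (d : Matrix (Fin 2) (Fin 2) F) 1 1) *
        ((g : Matrix (Fin 2) (Fin 2) F) 0 0 * (g : Matrix (Fin 2) (Fin 2) F) 0 1) = 0 := by
      linear_combination -e01
    exact (mul_eq_zero.1 this).resolve_left hsub
  have hrs : (g : Matrix (Fin 2) (Fin 2) F) 1 0 * (g : Matrix (Fin 2) (Fin 2) F) 1 1 = 0 := by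
    have : ((d : Matrix (Fin 2) (Fin 2) F) 0 0 - (d : Matrix (Fin 2) (Fin 2) F) 1 1) *
        ((g : Matrix (Fin 2) (Fin 2) F) 1 0 * (g : Matrix (Fin 2) (Fin 2) F) 1 1) = 0 := by
      linear_combination e10
    exact (mul_eq_zero.1 this).resolve_left hsub
  by_cases hp : (g : Matrix (Fin 2) (Fin 2) F) 0 0 = 0
  · right
    refine ⟨hp, ?_⟩
    rw [hp, zero_mul, zero_sub] at hdet
    have hr : (g : Matrix (Fin 2) (Fin 2) F) 1 0 ≠ 0 := by
      intro h0; rw [h0, mul_zero, neg_zero] at hdet; exact zero_ne_one hdet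
    exact (mul_eq_zero.1 hrs).resolve_left hr
  · left
    have hq := (mul_eq_zero.1 hpq).resolve_left hp
    refine ⟨hq, ?_⟩
    rw [hq, zero_mul, sub_zero] at hdet
    have hs : (g : Matrix (Fin 2) (Fin 2) F) 1 1 ≠ 0 := by
      intro h0; rw [h0, mul_zero] at hdet; exact zero_ne_one hdet
    exact (mul_eq_zero.1 hrs).resolve_right hs

theorem weyl_mem_normalizer :
    weyl F ∈ Subgroup.normalizer ((diagSub F : Subgroup (SL2 F)) : Set (SL2 F)) := by
  rw [Subgroup.mem_normalizer_iff]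
  intro t
  obtain ⟨i00, i01, i10, i11⟩ := inv_entry (weyl F)
  simp only [mem_diagSub, mul_entry, i00, i01, i10, i11]
  simp [weyl]
  tauto

theorem weyl_not_mem : weyl F ∉ diagSub F := by
  rintro ⟨h, -⟩
  simp [weyl] at h

theorem antidiag_mul_self (g : SL2 F) (h00 : (g : Matrix (Fin 2) (Fin 2) F) 0 0 = 0)
    (h11 : (g : Matrix (Fin 2) (Fin 2) F) 1 1 = 0) : g * g = negOne F := by
  have hdet := det_eq g
  rw [h00, zero_mul, zero_sub] at hdet
  apply ext2 <;> simp only [mul_entry, h00, h11] <;> simp [negOne]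
  · linear_combination -hdet
  · linear_combination -hdet

theorem result {F : Type*} [Field F] [Fintype F] (hodd : Odd (Fintype.card F))
    (d : Matrix.SpecialLinearGroup (Fin 2) F) (hd01 : (d : Matrix (Fin 2) (Fin 2) F) 0 1 = 0) (hd10 : (d : Matrix (Fin 2) (Fin 2) F) 1 0 = 0) (hda : (d : Matrix (Fin 2) (Fin 2) F) 0 0 ^ 2 ≠ 1) :
    (∀ g : Matrix.SpecialLinearGroup (Fin 2) F, g ∈ Subgroup.centralizer ({d} : Set (Matrix.SpecialLinearGroup (Fin 2) F)) ↔ ((g : Matrix (Fin 2) (Fin 2) F) 0 1 = 0 ∧ (g : Matrix (Fin 2) (Fin 2) F) 1 0 = 0)) ∧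
    Nat.card (Subgroup.normalizer ((Subgroup.centralizer ({d} : Set (Matrix.SpecialLinearGroup (Fin 2) F))) : Set (Matrix.SpecialLinearGroup (Fin 2) F))) = 2 * (Fintype.card F - 1) ∧
    Nat.card (ConjClasses (Subgroup.normalizer ((Subgroup.centralizer ({d} : Set (Matrix.SpecialLinearGroup (Fin 2) F))) : Set (Matrix.SpecialLinearGroup (Fin 2) F)))) = (Fintype.card F + 5) / 2 ∧
    ∀ g : Matrix.SpecialLinearGroup (Fin 2) F, g ∈ Subgroup.normalizer ((Subgroup.centralizer ({d} : Set (Matrix.SpecialLinearGroup (Fin 2) F))) : Set (Matrix.SpecialLinearGroup (Fin 2) F)) →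
      g ∉ Subgroup.centralizer ({d} : Set (Matrix.SpecialLinearGroup (Fin 2) F)) → ((g * g) : Matrix (Fin 2) (Fin 2) F) = -1 := by
  have hC := centralizer_eq d hd01 hd10 hda
  rw [hC]
  have h2 : (2 : F) ≠ 0 := two_ne_zero_of_odd hodd
  have hdD : d ∈ diagSub F := ⟨hd01, hd10⟩
  have hdet := det_eq d
  rw [hd01, zero_mul, sub_zero] at hdet
  have hne : (d : Matrix (Fin 2) (Fin 2) F) 0 0 ≠ (d : Matrix (Fin 2) (Fin 2) F) 1 1 := by
    intro h
    apply hda
    rw [sq]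
    nth_rewrite 2 [h]
    exact hdet
  have hanti : ∀ x ∈ Subgroup.normalizer ((diagSub F : Subgroup (SL2 F)) : Set (SL2 F)),
      x ∉ diagSub F → ((x : Matrix (Fin 2) (Fin 2) F) 0 0 = 0 ∧
        (x : Matrix (Fin 2) (Fin 2) F) 1 1 = 0) := by
    intro x hx hxD
    exact (mem_normalizer_cases d hdD hne x hx).resolve_left hxD
  have key := normalizer_dicyclic (diagSub F) (negOne F) ?_ ?_ ?_
    ⟨weyl F, weyl_mem_normalizer, weyl_not_mem⟩ ?_ ?_ ?_
  · obtain ⟨k1, k2⟩ := key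
    rw [card_diagSub] at k1 k2
    have hq : 1 ≤ Fintype.card F := Fintype.card_pos
    have k3 : ∀ k : ℕ, 2 * k = Fintype.card F - 1 + 6 → k = (Fintype.card F + 5) / 2 := by
      intro k hk; omega
    refine ⟨fun g => mem_diagSub g, k1, k3 _ k2, ?_⟩
    intro g hgN hgT
    obtain ⟨h00, h11⟩ := hanti g hgN hgT
    have := antidiag_mul_self g h00 h11
    rw [← Matrix.SpecialLinearGroup.coe_mul, this]
    ext i j
    fin_cases i <;> fin_cases j <;> simp [negOne]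
  · -- abelian
    rintro a ⟨ha1, ha2⟩ b ⟨hb1, hb2⟩
    apply ext2 <;> simp only [mul_entry, ha1, ha2, hb1, hb2] <;> ring
  · -- -1 ∈ T
    constructor <;> simp [negOne]
  · -- -1 ≠ 1
    intro h
    have := congrArg (fun m : SL2 F => (m : Matrix (Fin 2) (Fin 2) F) 0 0) h
    simp [negOne] at this
    apply h2
    linear_combination -this
  · -- product of two antidiagonals
    intro x hx y hy hxD hyD
    obtain ⟨x00, x11⟩ := hanti x hx hxD
    obtain ⟨y00, y11⟩ := hanti y hy hyD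
    constructor <;> simp only [mul_entry, x00, x11, y00, y11] <;> ring
  · intro x hx hxD
    obtain ⟨x00, x11⟩ := hanti x hx hxD
    exact antidiag_mul_self x x00 x11
  · rintro t ⟨t01, t10⟩ htt
    have e00 := congrArg (fun m : SL2 F => (m : Matrix (Fin 2) (Fin 2) F) 0 0) htt
    simp only [mul_entry, t01, t10, zero_mul, add_zero, Matrix.SpecialLinearGroup.coe_one,
      Matrix.one_apply_eq] at e00
    have hdt := det_eq t
    rw [t01, zero_mul, sub_zero] at hdt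
    have : ((t : Matrix (Fin 2) (Fin 2) F) 0 0 - 1) * ((t : Matrix (Fin 2) (Fin 2) F) 0 0 + 1) = 0 := by
      linear_combination e00
    rcases mul_eq_zero.1 this with h | h
    · left
      have h00 : (t : Matrix (Fin 2) (Fin 2) F) 0 0 = 1 := sub_eq_zero.1 h
      rw [h00, one_mul] at hdt
      apply ext2 <;> simp [h00, hdt, t01, t10]
    · right
      have h00 : (t : Matrix (Fin 2) (Fin 2) F) 0 0 = -1 := eq_neg_of_add_eq_zero_left h
      rw [h00] at hdt
      have h11 : (t : Matrix (Fin 2) (Fin 2) F) 1 1 = -1 := by linear_combination -hdt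
      apply ext2 <;> simp [negOne, h00, h11, t01, t10]

end Cfsg.Agent.S2428
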