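import Cfsg.Statements.S0809
import Cfsg.Agent.S2428
import Cfsg.Agent.Lib.Helper41_SL2Torus
import Cfsg.Agent.Lib.Helper41_SylowTorus
import Cfsg.Agent.Lib.Helper41_SL2Order4

set_option autoImplicit false
open Cfsg

namespace Cfsg.Agent.S0809

open Cfsg.Agent.Lib.Helper41_SL2 Cfsg.Agent.Lib.Helper41_SL2Torus
  Cfsg.Agent.Lib.Helper41_SylowTorus Cfsg.Agent.Lib.Helper41_SL2Order4

variable {F : Type*} [Field F]

abbrev SL2 (F : Type*) [Field F] := Matrix.SpecialLinearGroup (Fin 2) F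

/-- the diagonal element `diag(i, -i)` -/
def dElt (i : F) (hi : i * i = -1) : SL2 F :=
  ⟨!![i, 0; 0, -i], by rw [Matrix.det_fin_two]; simp; linear_combination -hi⟩

theorem dElt_mem (i : F) (hi : i * i = -1) : dElt i hi ∈ S2428.diagSub F := by
  constructor <;> simp [dElt]

theorem trace_dElt (i : F) (hi : i * i = -1) :
    Matrix.trace ((dElt i hi : SL2 F) : Matrix (Fin 2) (Fin 2) F) = 0 := by
  rw [Matrix.trace_fin_two]; simp [dElt]

/-- conjugates of `diag(i,-i)` inside the diagonal torus are `d` or `d⁻¹` -/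
theorem conj_dElt_mem_zpowers (i : F) (hi : i * i = -1) (n : SL2 F)
    (hn : n ∈ Subgroup.normalizer ((S2428.diagSub F : Subgroup (SL2 F)) : Set (SL2 F))) :
    n * dElt i hi * n⁻¹ ∈ Subgroup.zpowers (dElt i hi) := by
  have he : n * dElt i hi * n⁻¹ ∈ S2428.diagSub F :=
    (Subgroup.mem_normalizer_iff.1 hn _).1 (dElt_mem i hi)
  have htr : Matrix.trace ((n * dElt i hi * n⁻¹ : SL2 F) : Matrix (Fin 2) (Fin 2) F) = 0 := by
    rw [Cfsg.Agent.Lib.Helper41_SL2Torus.trace_conj, trace_dElt]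
  set e := n * dElt i hi * n⁻¹ with he_def
  obtain ⟨e01, e10⟩ := he
  have hdet := S2428.det_eq e
  rw [e01, zero_mul, sub_zero] at hdet
  rw [Matrix.trace_fin_two] at htr
  have h11 : (e : Matrix (Fin 2) (Fin 2) F) 1 1 = -(e : Matrix (Fin 2) (Fin 2) F) 0 0 := by
    linear_combination htr
  have hsq : ((e : Matrix (Fin 2) (Fin 2) F) 0 0 - i) * ((e : Matrix (Fin 2) (Fin 2) F) 0 0 + i) = 0 := by
    rw [h11] at hdet
    linear_combination -hdet - hi
  rcases mul_eq_zero.1 hsq with h | h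
  · have h00 : (e : Matrix (Fin 2) (Fin 2) F) 0 0 = i := sub_eq_zero.1 h
    have : e = dElt i hi := by
      apply S2428.ext2 <;> simp [dElt, h00, h11, e01, e10]
    rw [this]; exact Subgroup.mem_zpowers _
  · have h00 : (e : Matrix (Fin 2) (Fin 2) F) 0 0 = -i := eq_neg_of_add_eq_zero_left h
    have : e = (dElt i hi)⁻¹ := by
      obtain ⟨i00, i01, i10, i11⟩ := S2428.inv_entry (dElt i hi)
      apply S2428.ext2 <;> simp only [i00, i01, i10, i11, h00, h11, e01, e10] <;> simp [dElt]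
    rw [this]; exact Subgroup.inv_mem _ (Subgroup.mem_zpowers _)

theorem card_normalizer_split [Fintype F] (hodd : Odd (Fintype.card F)) (i : F) (hi : i * i = -1) :
    Nat.card (Subgroup.normalizer ((Subgroup.zpowers (dElt i hi) : Subgroup (SL2 F)) : Set (SL2 F))) =
      2 * (Fintype.card F - 1) := by
  have h2 : (2 : F) ≠ 0 := two_ne_zero_of_odd hodd
  have hda : ((dElt i hi : SL2 F) : Matrix (Fin 2) (Fin 2) F) 0 0 ^ 2 ≠ 1 := by
    have : ((dElt i hi : SL2 F) : Matrix (Fin 2) (Fin 2) F) 0 0 = i := by simp [dElt]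
    rw [this, sq, hi]
    intro h
    apply h2
    linear_combination -h
  have hC := S2428.centralizer_eq (dElt i hi) (dElt_mem i hi).1 (dElt_mem i hi).2 hda
  rw [normalizer_zpowers_eq (dElt i hi) (S2428.diagSub F) hC (conj_dElt_mem_zpowers i hi)]
  have := (S2428.result hodd (dElt i hi) (dElt_mem i hi).1 (dElt_mem i hi).2 hda).2.1
  rw [hC] at this
  exact this

theorem card_normalizer_nonsplit [Fintype F] (hodd : Odd (Fintype.card F)) (a : F)
    [Fact (∀ r : F, r ^ 2 ≠ a + 1 * r)] (z : QuadraticAlgebra F a 1)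
    (hz : QuadraticAlgebra.norm z = 1) (htr : QuadraticAlgebra.trace z = 0) :
    Nat.card (Subgroup.normalizer ((Subgroup.zpowers (torusElt a 1 z hz) : Subgroup (SL2 F)) :
      Set (SL2 F))) = 2 * (Fintype.card F + 1) := by
  have h2 : (2 : F) ≠ 0 := two_ne_zero_of_odd hodd
  have hcoe : ((torusElt a 1 z hz : SL2 F) : Matrix (Fin 2) (Fin 2) F) = toMat a 1 z := rfl
  have htr' : Matrix.trace ((torusElt a 1 z hz : SL2 F) : Matrix (Fin 2) (Fin 2) F) = 0 := by
    rw [hcoe, trace_toMat, htr]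
  have h1 : ((torusElt a 1 z hz : SL2 F) : Matrix (Fin 2) (Fin 2) F) ≠ 1 := by
    intro h
    rw [h, Matrix.trace_one, Fintype.card_fin] at htr'
    apply h2; exact_mod_cast htr'
  have h1' : ((torusElt a 1 z hz : SL2 F) : Matrix (Fin 2) (Fin 2) F) ≠ -1 := by
    intro h
    rw [h, Matrix.trace_neg, Matrix.trace_one, Fintype.card_fin] at htr'
    apply h2
    have : ((2 : ℕ) : F) = 0 := neg_eq_zero.1 htr'
    exact_mod_cast this
  obtain ⟨hz1, hz2⟩ := ne_one_of_coe_ne a 1 _ z hcoe h1 h1'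
  have him := im_ne_zero_of_ne a 1 z hz hz1 hz2
  have hC := centralizer_eq a 1 (torusElt a 1 z hz) (torusElt_mem a 1 z hz) h1 h1'
  rw [normalizer_zpowers_eq (torusElt a 1 z hz) (nsTorus a 1) hC ?_]
  · exact (normalizer_nsTorus_odd a 1 hodd).1
  · intro n hn
    rcases normalizer_cases a 1 z hz him n hn with h | h
    · have := nsTorus_comm a 1 n (torusElt a 1 z hz) h (torusElt_mem a 1 z hz)
      rw [this, mul_inv_cancel_right]
      exact Subgroup.mem_zpowers _
    · have : n * torusElt a 1 z hz * n⁻¹ = (torusElt a 1 z hz)⁻¹ := by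
        rw [mul_inv_eq_iff_eq_mul]
        apply Subtype.ext
        rw [Matrix.SpecialLinearGroup.coe_mul, Matrix.SpecialLinearGroup.coe_mul,
          Matrix.SpecialLinearGroup.coe_inv, hcoe, adjugate_toMat]
        exact h
      rw [this]
      exact Subgroup.inv_mem _ (Subgroup.mem_zpowers _)

theorem trace_zero_of_orderOf_two (h2 : (2 : F) ≠ 0) (g : SL2 F)
    (hx : orderOf (QuotientGroup.mk g : Matrix.ProjectiveSpecialLinearGroup (Fin 2) F) = 2) :
    Matrix.trace (g : Matrix (Fin 2) (Fin 2) F) = 0 := by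
  have h1 := pow_orderOf_eq_one (QuotientGroup.mk g : Matrix.ProjectiveSpecialLinearGroup (Fin 2) F)
  rw [hx, pow_two, ← QuotientGroup.mk_mul, QuotientGroup.eq_one_iff] at h1
  obtain ⟨c, hc2, hc⟩ := scalar_of_mem_center _ h1
  have hne : (QuotientGroup.mk g : Matrix.ProjectiveSpecialLinearGroup (Fin 2) F) ≠ 1 := by
    intro h
    rw [h, orderOf_one] at hx
    omega
  have hcc : (c - 1) * (c + 1) = 0 := by linear_combination hc2
  rcases mul_eq_zero.1 hcc with h | h
  · exfalso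
    apply hne
    rw [QuotientGroup.eq_one_iff]
    have hgg : g * g = 1 := by
      apply Subtype.ext
      rw [hc, sub_eq_zero.1 h, one_smul, Matrix.SpecialLinearGroup.coe_one]
    rcases coe_eq_one_or_neg_one_of_mul_self h2 g hgg with h' | h'
    · exact mem_center_of_scalar g 1 (by rw [h', one_smul])
    · exact mem_center_of_scalar g (-1) (by rw [h', neg_smul, one_smul])
  · apply trace_eq_zero_of_mul_self
    rw [← Matrix.SpecialLinearGroup.coe_mul, hc, eq_neg_of_add_eq_zero_left h, neg_smul, one_smul]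

theorem result {F : Type*} [Field F] [Fintype F] {q : ℕ} (hF : Fintype.card F = q) (hodd : Odd q) (A : Subgroup (Matrix.SpecialLinearGroup (Fin 2) F)) (hA : Nat.card A = 4) : (∀ B : Subgroup (Matrix.SpecialLinearGroup (Fin 2) F), Nat.card B = 4 → ∃ g : Matrix.SpecialLinearGroup (Fin 2) F, B = A.map (MulAut.conj g).toMonoidHom) ∧ (q % 4 = 1 → Nat.card ↥(Subgroup.normalizer (A : Set (Matrix.SpecialLinearGroup (Fin 2) F))) = 2 * (q - 1)) ∧ (q % 4 = 3 → Nat.card ↥(Subgroup.normalizer (A : Set (Matrix.SpecialLinearGroup (Fin 2) F))) = 2 * (q + 1)) ∧ (∀ x y : Matrix.ProjectiveSpecialLinearGroup (Fin 2) F, orderOf x = 2 → orderOf y = 2 → IsConj x y) := by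
  subst hF
  have h2 : (2 : F) ≠ 0 := two_ne_zero_of_odd hodd
  obtain ⟨g, hAg, hgg⟩ := exists_gen_of_card_four h2 A hA
  have htrg := trace_eq_zero_of_mul_self g hgg
  refine ⟨?_, ?_, ?_, ?_⟩
  · intro B hB
    obtain ⟨h, hBh, hhh⟩ := exists_gen_of_card_four h2 B hB
    have htrh := trace_eq_zero_of_mul_self h hhh
    obtain ⟨U, hU⟩ := conj_of_trace_zero h2 h g htrh htrg
    refine ⟨U, ?_⟩
    rw [hBh, hAg, MonoidHom.map_zpowers, hU]
    rfl
  · intro hq
    have hsq : IsSquare (-1 : F) := FiniteField.isSquare_neg_one_iff.2 (by omega)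
    obtain ⟨i, hi⟩ := hsq
    obtain ⟨U, hU⟩ := conj_of_trace_zero h2 g (dElt i hi.symm) htrg (trace_dElt i hi.symm)
    have hAd : A = (Subgroup.zpowers (dElt i hi.symm)).map (MulAut.conj U).toMonoidHom := by
      rw [hAg, MonoidHom.map_zpowers, hU]
      rfl
    rw [hAd, normalizer_map_conj, card_map_conj, card_normalizer_split hodd]
  · intro hq
    have hnsq : ¬ IsSquare (-1 : F) := by
      rw [FiniteField.isSquare_neg_one_iff]; omega
    obtain ⟨a, ha⟩ := exists_no_root (F := F)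
    have : Fact (∀ r : F, r ^ 2 ≠ a + 1 * r) := ⟨ha⟩
    obtain ⟨z, hz, htr⟩ := exists_norm_one_trace a 1 (0 : F) (by
      intro r hr
      apply hnsq
      exact ⟨r, by linear_combination -hr⟩)
    have htr' : Matrix.trace ((torusElt a 1 z hz : SL2 F) : Matrix (Fin 2) (Fin 2) F) = 0 := by
      rw [← htr, ← trace_toMat]; rfl
    obtain ⟨U, hU⟩ := conj_of_trace_zero h2 g (torusElt a 1 z hz) htrg htr'
    have hAd : A = (Subgroup.zpowers (torusElt a 1 z hz)).map (MulAut.conj U).toMonoidHom := by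
      rw [hAg, MonoidHom.map_zpowers, hU]
      rfl
    rw [hAd, normalizer_map_conj, card_map_conj, card_normalizer_nonsplit hodd a z hz htr]
  · intro x y hx hy
    obtain ⟨gx, rfl⟩ := QuotientGroup.mk_surjective x
    obtain ⟨gy, rfl⟩ := QuotientGroup.mk_surjective y
    have h1 := trace_zero_of_orderOf_two h2 gx hx
    have h1' := trace_zero_of_orderOf_two h2 gy hy
    obtain ⟨U, hU⟩ := conj_of_trace_zero h2 gy gx h1' h1
    rw [isConj_iff]
    refine ⟨QuotientGroup.mk U, ?_⟩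
    rw [hU, QuotientGroup.mk_mul, QuotientGroup.mk_mul, QuotientGroup.mk_inv]

end Cfsg.Agent.S0809
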