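import Cfsg.Statements.S0335
import Mathlib
-- import your own Cfsg.Agent.* helpers here

set_option autoImplicit false
open Cfsg

namespace Cfsg.Agent.S0335

section Core

variable {F : Type*} [Field F] (S : F →+* F)

/-- the Suzuki form `x y + x^(σ+2) + y^σ` -/
def sf (x y : F) : F := x * y + S x * x ^ 2 + S y

variable {S}

theorem sf_aniso (h2 : (2 : F) = 0) (hS : ∀ z, S (S z) = z ^ 2) {x y : F}
    (h : sf S x y = 0) : x = 0 ∧ y = 0 := by
  unfold sf at h
  by_cases hx : x = 0
  · subst hx
    simp at h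
    exact ⟨rfl, h⟩
  · exfalso
    have hSx : S x ≠ 0 := by simpa using hx
    set z := y / (x * S x) with hz
    have hy : y = z * (x * S x) := by
      rw [hz]; field_simp
    have hSy : S y = S z * (S x * x ^ 2) := by
      rw [hy, map_mul, map_mul, hS]
    rw [hSy, hy] at h
    have h1 : x ^ 2 * S x * (z + 1 + S z) = 0 := by
      rw [← h]; ring
    have h3 : z + 1 + S z = 0 := by
      rcases mul_eq_zero.1 h1 with h | h
      · exfalso
        rcases mul_eq_zero.1 h with h | h
        · exact hx (pow_eq_zero_iff (two_ne_zero) |>.1 h)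
        · exact hSx h
      · exact h
    have h4 : S z = z + 1 := by
      have : S z = -(z + 1) := by linear_combination h3
      rw [this]
      linear_combination (-(z + 1)) * h2
    have h5 : z ^ 2 = z := by
      rw [← hS z, h4, map_add, map_one, h4]
      linear_combination h2
    have h6 : z = 0 ∨ z = 1 := by
      have : z * (z - 1) = 0 := by linear_combination h5
      rcases mul_eq_zero.1 this with h | h
      · exact Or.inl h
      · exact Or.inr (by linear_combination h)
    rcases h6 with h | h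
    · rw [h] at h4; simp at h4
    · rw [h] at h4
      simp at h4


/-- the inversion identity -/
theorem sf_inv (h2 : (2 : F) = 0) (hS : ∀ z, S (S z) = z ^ 2) {x y : F}
    (hf : sf S x y ≠ 0) : sf S (y / sf S x y) (x / sf S x y) = 1 / sf S x y := by
  have hSf : S (sf S x y) ≠ 0 := by simpa using hf
  have hSfe : S (sf S x y) = S x * S y + x ^ 2 * S x ^ 2 + y ^ 2 := by
    unfold sf
    rw [map_add, map_add, map_mul, map_mul, map_pow, hS, hS]
  have key : x * y * S (sf S x y) + y ^ 2 * S y + S x * (sf S x y) ^ 2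
      = sf S x y * S (sf S x y) := by
    rw [hSfe]
    unfold sf
    rw [← sub_eq_zero]
    ring_nf
    simp [h2]
  set f := sf S x y with hfdef
  have : sf S (y / f) (x / f) = (x * y * S f + y ^ 2 * S y + S x * f ^ 2) / (f ^ 2 * S f) := by
    unfold sf
    rw [map_div₀, map_div₀]
    field_simp
  rw [this, key]
  field_simp


/-- a line meets the affine part of the ovoid in at most two points -/
theorem sf_collinear (h2 : (2 : F) = 0) (hS : ∀ z, S (S z) = z ^ 2) {x y u v t : F}
    (huv : ¬(u = 0 ∧ v = 0))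
    (h : sf S (x + t * u) (y + t * v) = sf S x y + t * (sf S (x + u) (y + v) + sf S x y)) :
    t = 0 ∨ t = 1 := by
  set v' := v + S x * u with hv'
  have hneg : ∀ a : F, -a = a := by
    intro a
    linear_combination (-a) * h2
  have id1 : sf S (x + t * u) (y + t * v) + sf S x y
      + t * (sf S (x + u) (y + v) + sf S x y) = sf S (t * u) (t * v') + t * sf S u v' := by
    rw [hv']
    unfold sf
    simp only [map_add, map_mul, hS]
    have h4 : (4 : F) = 0 := by linear_combination 2 * h2
    rw [← sub_eq_zero]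
    ring_nf
    simp [h2, h4]
  have h3 : sf S (t * u) (t * v') = t * sf S u v' := by
    have : sf S (t * u) (t * v') + t * sf S u v' = 0 := by
      rw [← id1, h]
      linear_combination (sf S x y + t * (sf S (x + u) (y + v) + sf S x y)) * h2
    have h4 : sf S (t * u) (t * v') = -(t * sf S u v') := by linear_combination this
    rw [h4, hneg]
  have hF0 : sf S u v' ≠ 0 := by
    intro h0
    obtain ⟨hu, hv0⟩ := sf_aniso h2 hS h0
    apply huv
    refine ⟨hu, ?_⟩
    rw [hv', hu, mul_zero, add_zero] at hv0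
    exact hv0
  by_cases ht : t = 0
  · exact Or.inl ht
  · right
    have hne : sf S (t * u) (t * v') ≠ 0 := by
      rw [h3]; exact mul_ne_zero ht hF0
    have i1 := sf_inv h2 hS hF0
    have i2 := sf_inv h2 hS hne
    rw [h3] at i2
    have e1 : t * v' / (t * sf S u v') = v' / sf S u v' := by field_simp
    have e2 : t * u / (t * sf S u v') = u / sf S u v' := by field_simp
    rw [e1, e2, i1] at i2
    field_simp at i2
    exact i2


theorem lin_one_inf {x₁ y₁ x₂ y₂ f₁ f₂ : F} (hne : ¬(x₁ = x₂ ∧ y₁ = y₂)) (α β γ : F)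
    (h : α • (![1, 0, 0, 0] : Fin 4 → F) + β • ![f₁, y₁, x₁, 1] + γ • ![f₂, y₂, x₂, 1] = 0) :
    α = 0 ∧ β = 0 ∧ γ = 0 := by
  have e0 := congrFun h 0
  have e1 := congrFun h 1
  have e2 := congrFun h 2
  have e3 := congrFun h 3
  simp at e0 e1 e2 e3
  have hβ : β = -γ := by linear_combination e3
  have hγ : γ = 0 := by
    by_contra hγ
    apply hne
    constructor
    · have : γ * (x₂ - x₁) = 0 := by rw [hβ] at e2; linear_combination e2
      rcases mul_eq_zero.1 this with h | h
      · exact absurd h hγ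
      · linear_combination -h
    · have : γ * (y₂ - y₁) = 0 := by rw [hβ] at e1; linear_combination e1
      rcases mul_eq_zero.1 this with h | h
      · exact absurd h hγ
      · linear_combination -h
  have hβ0 : β = 0 := by rw [hβ, hγ, neg_zero]
  refine ⟨?_, hβ0, hγ⟩
  rw [hβ0, hγ] at e0
  simpa using e0

theorem lin_three_aff (h2 : (2 : F) = 0) (hS : ∀ z, S (S z) = z ^ 2)
    {x₁ y₁ x₂ y₂ x₃ y₃ : F} (h12 : ¬(x₁ = x₂ ∧ y₁ = y₂)) (h13 : ¬(x₁ = x₃ ∧ y₁ = y₃))
    (h23 : ¬(x₂ = x₃ ∧ y₂ = y₃)) (α β γ : F)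
    (h : α • (![sf S x₁ y₁, y₁, x₁, 1] : Fin 4 → F) + β • ![sf S x₂ y₂, y₂, x₂, 1]
      + γ • ![sf S x₃ y₃, y₃, x₃, 1] = 0) :
    α = 0 ∧ β = 0 ∧ γ = 0 := by
  have e0 := congrFun h 0
  have e1 := congrFun h 1
  have e2 := congrFun h 2
  have e3 := congrFun h 3
  simp at e0 e1 e2 e3
  have hα : α = -β - γ := by linear_combination e3
  by_cases hγ : γ = 0
  · have hβ : β = 0 := by
      by_contra hβ
      apply h12
      rw [hα, hγ] at e1 e2
      constructor
      · have : β * (x₂ - x₁) = 0 := by linear_combination e2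
        rcases mul_eq_zero.1 this with h | h
        · exact absurd h hβ
        · linear_combination -h
      · have : β * (y₂ - y₁) = 0 := by linear_combination e1
        rcases mul_eq_zero.1 this with h | h
        · exact absurd h hβ
        · linear_combination -h
    refine ⟨?_, hβ, hγ⟩
    rw [hα, hβ, hγ]; simp
  · exfalso
    set t := -β / γ with ht
    have hβt : β = -(t * γ) := by rw [ht]; field_simp
    have hx : x₃ = x₁ + t * (x₂ - x₁) := by
      have : γ * (x₃ - (x₁ + t * (x₂ - x₁))) = 0 := by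
        rw [hα, hβt] at e2; linear_combination e2
      rcases mul_eq_zero.1 this with h | h
      · exact absurd h hγ
      · linear_combination h
    have hy : y₃ = y₁ + t * (y₂ - y₁) := by
      have : γ * (y₃ - (y₁ + t * (y₂ - y₁))) = 0 := by
        rw [hα, hβt] at e1; linear_combination e1
      rcases mul_eq_zero.1 this with h | h
      · exact absurd h hγ
      · linear_combination h
    have hf : sf S x₃ y₃ = sf S x₁ y₁ + t * (sf S x₂ y₂ - sf S x₁ y₁) := by
      have : γ * (sf S x₃ y₃ - (sf S x₁ y₁ + t * (sf S x₂ y₂ - sf S x₁ y₁))) = 0 := by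
        rw [hα, hβt] at e0; linear_combination e0
      rcases mul_eq_zero.1 this with h | h
      · exact absurd h hγ
      · linear_combination h
    have hneg : ∀ a : F, -a = a := by
      intro a
      linear_combination (-a) * h2
    have huv : ¬(x₂ - x₁ = 0 ∧ y₂ - y₁ = 0) := by
      rintro ⟨ha, hb⟩
      exact h12 ⟨by linear_combination -ha, by linear_combination -hb⟩
    have hcol : sf S (x₁ + t * (x₂ - x₁)) (y₁ + t * (y₂ - y₁)) = sf S x₁ y₁
        + t * (sf S (x₁ + (x₂ - x₁)) (y₁ + (y₂ - y₁)) + sf S x₁ y₁) := by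
      rw [← hx, ← hy, hf]
      have e1 : x₁ + (x₂ - x₁) = x₂ := by ring
      have e2 : y₁ + (y₂ - y₁) = y₂ := by ring
      rw [e1, e2, sub_eq_add_neg, hneg]
    rcases sf_collinear h2 hS huv hcol with h0 | h1
    · apply h13
      rw [hx, hy, h0]
      constructor <;> ring
    · apply h23
      rw [hx, hy, h1]
      constructor <;> ring

end Core

/-- The Suzuki–Tits point set is an ovoid: any three distinct points of it are projectively independent
(no line of projective 3-space meets it in more than two points). -/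
theorem result {F : Type*} [Field F] [Fintype F] {m : ℕ} (hm : 1 ≤ m)
    (hF : Fintype.card F = 2 ^ (2 * m + 1)) (p : Fin 3 ↪ Cfsg.suzukiOvoid F m) :
    Projectivization.Independent (fun i => (p i : Projectivization F (Fin 4 → F))) := by
  classical
  have hcard : ((2 ^ (2 * m + 1) : ℕ) : F) = 0 := by
    rw [← hF]; exact FiniteField.cast_card_eq_zero F
  have h2 : (2 : F) = 0 := by
    have : (2 : F) ^ (2 * m + 1) = 0 := by exact_mod_cast hcard
    exact (pow_eq_zero_iff (by omega)).1 this
  have : CharP F 2 := CharTwo.of_one_ne_zero_of_two_eq_zero one_ne_zero h2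
  let S : F →+* F := iterateFrobenius F 2 (m + 1)
  have hSdef : ∀ z, S z = z ^ 2 ^ (m + 1) := fun z => rfl
  have hS : ∀ z, S (S z) = z ^ 2 := by
    intro z
    rw [hSdef, hSdef, ← pow_mul]
    have : 2 ^ (m + 1) * 2 ^ (m + 1) = 2 ^ (2 * m + 1) * 2 := by ring
    rw [this, pow_mul, ← hF, FiniteField.pow_card]
  have hmem := fun i => (p i).2
  choose v hv hpv hshape using hmem
  have hshape' : ∀ i, v i = ![1, 0, 0, 0] ∨ ∃ x y : F, v i = ![sf S x y, y, x, 1] := by
    intro i
    rcases hshape i with h | ⟨x, y, h⟩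
    · exact Or.inl h
    · refine Or.inr ⟨x, y, ?_⟩
      rw [h]
      unfold sf
      rw [hSdef, hSdef, pow_add]
  have hinj : ∀ i j, v i = v j → i = j := by
    intro i j hij
    apply p.injective
    apply Subtype.ext
    rw [hpv i, hpv j]
    congr 1
  have hfun : (fun i => ((p i : Cfsg.suzukiOvoid F m) : Projectivization F (Fin 4 → F)))
      = fun i => Projectivization.mk F (v i) (hv i) := funext hpv
  rw [hfun]
  apply Projectivization.Independent.mk
  rw [Fintype.linearIndependent_iff]
  intro c hc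
  rw [Fin.sum_univ_three] at hc
  have hne : ∀ {i j : Fin 3} {x y x' y' : F}, i ≠ j → v i = ![sf S x y, y, x, 1] →
      v j = ![sf S x' y', y', x', 1] → ¬(x = x' ∧ y = y') := by
    rintro i j x y x' y' hij hi hj ⟨rfl, rfl⟩
    exact hij (hinj i j (hi.trans hj.symm))
  have hfin : c 0 = 0 ∧ c 1 = 0 ∧ c 2 = 0 := by
    rcases hshape' 0 with h0 | ⟨x0, y0, h0⟩ <;> rcases hshape' 1 with h1 | ⟨x1, y1, h1⟩ <;>
      rcases hshape' 2 with h2' | ⟨x2, y2, h2'⟩
    · exact absurd (hinj 0 1 (h0.trans h1.symm)) (by decide)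
    · exact absurd (hinj 0 1 (h0.trans h1.symm)) (by decide)
    · exact absurd (hinj 0 2 (h0.trans h2'.symm)) (by decide)
    · rw [h0, h1, h2'] at hc
      exact lin_one_inf (hne (by decide) h1 h2') _ _ _ hc
    · exact absurd (hinj 1 2 (h1.trans h2'.symm)) (by decide)
    · rw [h0, h1, h2'] at hc
      have hc' : c 1 • (![1, 0, 0, 0] : Fin 4 → F) + c 0 • ![sf S x0 y0, y0, x0, 1]
          + c 2 • ![sf S x2 y2, y2, x2, 1] = 0 := by
        rw [← hc]; abel
      obtain ⟨a, b, d⟩ := lin_one_inf (hne (by decide) h0 h2') _ _ _ hc'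
      exact ⟨b, a, d⟩
    · rw [h0, h1, h2'] at hc
      have hc' : c 2 • (![1, 0, 0, 0] : Fin 4 → F) + c 0 • ![sf S x0 y0, y0, x0, 1]
          + c 1 • ![sf S x1 y1, y1, x1, 1] = 0 := by
        rw [← hc]; abel
      obtain ⟨a, b, d⟩ := lin_one_inf (hne (by decide) h0 h1) _ _ _ hc'
      exact ⟨b, d, a⟩
    · rw [h0, h1, h2'] at hc
      exact lin_three_aff h2 hS (hne (by decide) h0 h1) (hne (by decide) h0 h2')
        (hne (by decide) h1 h2') _ _ _ hc
  intro i
  fin_cases i
  · exact hfin.1
  · exact hfin.2.1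
  · exact hfin.2.2

end Cfsg.Agent.S0335
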