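import Cfsg.Statements.S2240
import Cfsg.Agent.Lib.Helper37_SzMax

set_option autoImplicit false
open Cfsg

namespace Cfsg.Agent.S2240

open Cfsg.Agent.Helper37Sz

section Aux

variable {F : Type*} [Field F] [Fintype F] {S : F →+* F} {m : ℕ}

/-- conjugation of a central element of `Q` by an element of the stabiliser of `∞` -/
theorem conj_uQ_zero (h2 : (2 : F) = 0) (hS : ∀ z, S (S z) = z ^ 2)
    (hSdef : ∀ z, S z = z ^ 2 ^ (m + 1)) (a b : F) (t : Fˣ) (k : F) :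
    (uQ h2 hS hSdef a b * hQ hS hSdef t) * uQ h2 hS hSdef 0 k
        * (uQ h2 hS hSdef a b * hQ hS hSdef t)⁻¹
      = uQ (m := m) h2 hS hSdef 0 (S (t : F) ^ 2 * (t : F) ^ 2 * k) := by
  rw [mul_inv_eq_iff_eq_mul, mul_assoc, hQ_mul_uQ, ← mul_assoc (uQ h2 hS hSdef a b),
    ← mul_assoc (uQ h2 hS hSdef 0 _), uQ_mul, uQ_mul]
  congr 2
  · ring
  · simp only [map_zero]; ring

/-- every nonzero scalar is of the form `(S t * t) ^ 2` -/
theorem exists_lam (h2 : (2 : F) = 0) (hS : ∀ z, S (S z) = z ^ 2) {l : F} (hl : l ≠ 0) :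
    ∃ t : Fˣ, S (t : F) ^ 2 * (t : F) ^ 2 = l := by
  have : CharP F 2 := CharTwo.of_one_ne_zero_of_two_eq_zero one_ne_zero h2
  obtain ⟨s, hs⟩ := FiniteField.isSquare_of_char_two (ringChar.eq F 2) l
  have hs0 : s ≠ 0 := by
    rintro rfl
    rw [mul_zero] at hs
    exact hl hs
  have hSs : S s ≠ 0 := by simpa using hs0
  refine ⟨Units.mk0 (S s / s) (div_ne_zero hSs hs0), ?_⟩
  show S (S s / s) ^ 2 * (S s / s) ^ 2 = l
  rw [map_div₀, hS, hs]
  field_simp

/-- an element of `Q` of order at most two is central -/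
theorem uQ_sq_eq_one (h2 : (2 : F) = 0) (hS : ∀ z, S (S z) = z ^ 2)
    (hSdef : ∀ z, S z = z ^ 2 ^ (m + 1)) {a b : F}
    (h : uQ (m := m) h2 hS hSdef a b * uQ h2 hS hSdef a b = 1) : a = 0 := by
  rw [uQ_mul, ← uQ_zero h2 hS hSdef] at h
  obtain ⟨-, e2⟩ := uQ_inj h2 hS hSdef h
  by_contra ha
  have hSa : S a ≠ 0 := by simpa using ha
  have : S a * a = 0 := by linear_combination e2 - b * h2
  rcases mul_eq_zero.1 this with h | h
  · exact hSa h
  · exact ha h

theorem uQ_zero_add (h2 : (2 : F) = 0) (hS : ∀ z, S (S z) = z ^ 2)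
    (hSdef : ∀ z, S z = z ^ 2 ^ (m + 1)) (c d : F) :
    uQ (m := m) h2 hS hSdef 0 c * uQ h2 hS hSdef 0 d = uQ h2 hS hSdef 0 (c + d) := by
  rw [uQ_mul, map_zero, zero_mul, add_zero, add_zero]

theorem uQ_zero_inv (h2 : (2 : F) = 0) (hS : ∀ z, S (S z) = z ^ 2)
    (hSdef : ∀ z, S z = z ^ 2 ^ (m + 1)) (c : F) :
    (uQ (m := m) h2 hS hSdef 0 c)⁻¹ = uQ h2 hS hSdef 0 c :=
  inv_eq_of_mul_eq_one_left (uQ_zero_involution h2 hS hSdef c)

theorem uQ_zero_ne_one (h2 : (2 : F) = 0) (hS : ∀ z, S (S z) = z ^ 2)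
    (hSdef : ∀ z, S z = z ^ 2 ^ (m + 1)) {c : F} (hc : c ≠ 0) :
    uQ (m := m) h2 hS hSdef 0 c ≠ 1 := by
  intro h
  rw [← uQ_zero h2 hS hSdef] at h
  exact hc (uQ_inj h2 hS hSdef h).2

end Aux

section Main

variable {F : Type*} [Field F] [Fintype F] {S : F →+* F} {m : ℕ}

theorem pow_two_dvd_aux {n d : ℕ} (h : 2 ^ n - 1 ∣ 2 ^ d - 1) : n ∣ d := by
  have h1 := Nat.pow_sub_one_gcd_pow_sub_one 2 n d
  rw [Nat.gcd_eq_left h] at h1
  have h2 : 2 ^ n = 2 ^ (n.gcd d) := by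
    have e1 : 1 ≤ 2 ^ n := Nat.one_le_two_pow
    have e2 : 1 ≤ 2 ^ (n.gcd d) := Nat.one_le_two_pow
    omega
  have h3 : n = n.gcd d := Nat.pow_right_injective (le_refl 2) h2
  rw [h3]
  exact Nat.gcd_dvd_right n d

theorem forward (hm : 1 ≤ m) (hF : Fintype.card F = 2 ^ (2 * m + 1)) (h2 : (2 : F) = 0)
    (hS : ∀ z, S (S z) = z ^ 2) (hSdef : ∀ z, S z = z ^ 2 ^ (m + 1)) (n : ℕ) (hn : 2 ≤ n)
    (E : Subgroup (Cfsg.Sz F m)) (hE : Cfsg.IsElementaryAbelian 2 E) (hcard : Nat.card E = 2 ^ n)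
    (hTI : ∀ x : Cfsg.Sz F m, E ⊓ E.map (MulAut.conj x).toMonoidHom ≠ ⊥ →
      x ∈ Subgroup.normalizer (E : Set (Cfsg.Sz F m))) : n ∣ 2 * m + 1 := by
  classical
  have hp : IsPGroup 2 E := by
    intro x
    refine ⟨1, ?_⟩
    apply Subtype.ext
    have := hE.2 x.1 x.2
    simpa using this
  obtain ⟨P, hP⟩ := hp.exists_le_sylow
  obtain ⟨g, φ, hφ, hφval, -⟩ := sylow_two_param hm hF h2 hS hSdef P
  have hform : ∀ e ∈ E, ∃ c : F, e = g * uQ h2 hS hSdef 0 c * g⁻¹ := by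
    intro e he
    obtain ⟨⟨a, b⟩, hab⟩ := hφ.2 ⟨e, hP he⟩
    have hval : e = g * uQ h2 hS hSdef a b * g⁻¹ := by rw [← hφval a b, hab]
    have hsq : uQ h2 hS hSdef a b * uQ h2 hS hSdef a b = 1 := by
      have e1 : uQ h2 hS hSdef a b = g⁻¹ * e * g := by rw [hval]; group
      have e2 : e * e = 1 := by
        have := hE.2 e he
        rwa [pow_two] at this
      rw [e1]
      have : g⁻¹ * e * g * (g⁻¹ * e * g) = g⁻¹ * (e * e) * g := by group
      rw [this, e2]; group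
    have ha := uQ_sq_eq_one h2 hS hSdef hsq
    subst ha
    exact ⟨b, hval⟩
  obtain ⟨f, hf⟩ : ∃ f : F → Cfsg.Sz F m, ∀ c, f c = g * uQ h2 hS hSdef 0 c * g⁻¹ :=
    ⟨fun c => g * uQ h2 hS hSdef 0 c * g⁻¹, fun _ => rfl⟩
  have hfinj : Function.Injective f := by
    intro c d h
    rw [hf, hf] at h
    have h' : uQ h2 hS hSdef 0 c = uQ h2 hS hSdef 0 d := by
      have := congrArg (fun y => g⁻¹ * y * g) h
      simpa [mul_assoc] using this
    exact (uQ_inj h2 hS hSdef h').2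
  obtain ⟨A, hA⟩ : ∃ A : Set F, ∀ c, c ∈ A ↔ f c ∈ E := ⟨{c | f c ∈ E}, fun _ => Iff.rfl⟩
  have hAE : f '' A = (E : Set (Cfsg.Sz F m)) := by
    ext y
    constructor
    · rintro ⟨c, hc, rfl⟩
      exact (hA c).1 hc
    · intro hy
      obtain ⟨c, hc⟩ := hform y hy
      refine ⟨c, (hA c).2 ?_, ?_⟩
      · rw [hf, ← hc]; exact hy
      · rw [hf, ← hc]
  have hAcard : A.ncard = 2 ^ n := by
    rw [← Set.ncard_image_of_injective A hfinj, hAE, ← Nat.card_coe_set_eq]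
    exact hcard
  have hconj : ∀ (t : Fˣ) (c : F), (g * hQ hS hSdef t * g⁻¹) * f c * (g * hQ hS hSdef t * g⁻¹)⁻¹
      = f (S (t : F) ^ 2 * (t : F) ^ 2 * c) := by
    intro t c
    have := conj_uQ_zero h2 hS hSdef 0 0 t c
    rw [uQ_zero, one_mul] at this
    rw [hf, hf, ← this]
    group
  have h0A : (0 : F) ∈ A := by
    rw [hA, hf, uQ_zero, mul_one, mul_inv_cancel]
    exact E.one_mem
  obtain ⟨e₀, he₀A, he₀⟩ : ∃ e₀ ∈ A, e₀ ≠ 0 := by
    by_contra hcon
    push Not at hcon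
    have hsub : A ⊆ {0} := fun c hc => hcon c hc
    have := Set.ncard_le_ncard hsub (Set.finite_singleton 0)
    rw [hAcard, Set.ncard_singleton] at this
    have : 2 ^ 2 ≤ 2 ^ n := Nat.pow_le_pow_right (by norm_num) hn
    omega
  have hkey : ∀ e ∈ A, e ≠ 0 → ∀ c ∈ A, e / e₀ * c ∈ A := by
    intro e heA he c hc
    obtain ⟨t, ht⟩ := exists_lam h2 hS (div_ne_zero he he₀)
    have hxE : g * hQ hS hSdef t * g⁻¹ ∈ Subgroup.normalizer (E : Set (Cfsg.Sz F m)) := by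
      apply hTI
      rw [Subgroup.ne_bot_iff_exists_ne_one]
      refine ⟨⟨f e, ?_⟩, ?_⟩
      · rw [Subgroup.mem_inf]
        refine ⟨(hA e).1 heA, ?_⟩
        rw [Subgroup.mem_map]
        refine ⟨f e₀, (hA e₀).1 he₀A, ?_⟩
        show (g * hQ hS hSdef t * g⁻¹) * f e₀ * (g * hQ hS hSdef t * g⁻¹)⁻¹ = f e
        rw [hconj, ht]
        congr 1
        field_simp
      · intro h
        have h1 : f e = 1 := congrArg Subtype.val h
        have h0 : f 0 = 1 := by rw [hf, uQ_zero, mul_one, mul_inv_cancel]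
        exact he (hfinj (h1.trans h0.symm))
    rw [Subgroup.mem_normalizer_iff] at hxE
    have := (hxE (f c)).1 ((hA c).1 hc)
    rw [hconj, ht] at this
    exact (hA _).2 this
  -- the multiplier group
  let Hm : Submonoid Fˣ :=
    { carrier := {l | ∀ c ∈ A, (l : F) * c ∈ A}
      mul_mem' := by
        intro l l' hl hl' c hc
        rw [Units.val_mul, mul_assoc]
        exact hl _ (hl' c hc)
      one_mem' := by
        intro c hc
        rw [Units.val_one, one_mul]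
        exact hc }
  let H : Subgroup Fˣ :=
    { Hm with
      inv_mem' := by
        intro l hl
        have hpos : 0 < orderOf l := orderOf_pos l
        have : l⁻¹ = l ^ (orderOf l - 1) := by
          apply inv_eq_of_mul_eq_one_right
          rw [← pow_succ', Nat.sub_add_cancel hpos, pow_orderOf_eq_one]
        rw [this]
        exact Hm.pow_mem hl _ }
  have hHmem : ∀ l : Fˣ, l ∈ H ↔ ∀ c ∈ A, (l : F) * c ∈ A := fun _ => Iff.rfl
  have himage : (fun l : Fˣ => (l : F) * e₀) '' (H : Set Fˣ) = A \ {0} := by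
    ext y
    constructor
    · rintro ⟨l, hl, rfl⟩
      exact ⟨hl e₀ he₀A, mul_ne_zero l.ne_zero he₀⟩
    · rintro ⟨hyA, hy0⟩
      have hy0' : y ≠ 0 := hy0
      refine ⟨Units.mk0 (y / e₀) (div_ne_zero hy0' he₀), ?_, ?_⟩
      · intro c hc
        exact hkey y hyA hy0' c hc
      · show y / e₀ * e₀ = y
        field_simp
  have hinj : Function.Injective (fun l : Fˣ => (l : F) * e₀) := by
    intro l l' h
    exact Units.ext (mul_right_cancel₀ he₀ h)
  have hHcard : Nat.card H = 2 ^ n - 1 := by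
    rw [show Nat.card H = (H : Set Fˣ).ncard from Nat.card_coe_set_eq _,
      ← Set.ncard_image_of_injective _ hinj, himage, Set.ncard_sdiff_singleton_of_mem h0A, hAcard]
  have hdvd : Nat.card H ∣ Nat.card Fˣ := Subgroup.card_subgroup_dvd_card H
  rw [hHcard, Nat.card_units, Nat.card_eq_fintype_card, hF] at hdvd
  exact pow_two_dvd_aux hdvd

theorem card_fixed_pow (hF : Fintype.card F = 2 ^ (2 * m + 1)) {n : ℕ}
    (hn : n ∣ 2 * m + 1) : {c : F | c ^ 2 ^ n = c}.ncard = 2 ^ n := by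
  classical
  have hn0 : 0 < n := Nat.pos_of_dvd_of_pos hn (by omega)
  have h1n : 1 ≤ 2 ^ n := Nat.one_le_two_pow
  obtain ⟨H', hH'⟩ : ∃ H' : Subgroup Fˣ, H' = (powMonoidHom (2 ^ n - 1) : Fˣ →* Fˣ).ker := ⟨_, rfl⟩
  have hH'card : Nat.card H' = 2 ^ n - 1 := by
    rw [hH', IsCyclic.card_powMonoidHom_ker, Nat.card_units, Nat.card_eq_fintype_card, hF,
      Nat.pow_sub_one_gcd_pow_sub_one, Nat.gcd_eq_right hn]
  have hmemH' : ∀ l : Fˣ, l ∈ H' ↔ l ^ (2 ^ n - 1) = 1 := by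
    intro l
    rw [hH', MonoidHom.mem_ker, powMonoidHom_apply]
  have hset : {c : F | c ^ 2 ^ n = c} = insert 0 ((fun l : Fˣ => (l : F)) '' (H' : Set Fˣ)) := by
    ext c
    constructor
    · intro hc
      by_cases hc0 : c = 0
      · left; exact hc0
      · right
        refine ⟨Units.mk0 c hc0, ?_, rfl⟩
        show Units.mk0 c hc0 ∈ H'
        rw [hmemH']
        apply Units.ext
        rw [Units.val_pow_eq_pow_val, Units.val_one, Units.val_mk0]
        have hc' : c ^ 2 ^ n = c := hc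
        have e : c ^ (2 ^ n - 1) * c = c := by
          rw [← pow_succ, Nat.sub_add_cancel h1n, hc']
        exact mul_right_cancel₀ hc0 (e.trans (one_mul c).symm)
    · rintro (hc | ⟨l, hl, rfl⟩)
      · rw [Set.mem_singleton_iff.1 hc]
        show (0 : F) ^ 2 ^ n = 0
        exact zero_pow (by positivity)
      · have hl' : l ^ (2 ^ n - 1) = 1 := (hmemH' l).1 hl
        show (l : F) ^ 2 ^ n = (l : F)
        have : (l : F) ^ (2 ^ n - 1) = 1 := by
          rw [← Units.val_pow_eq_pow_val, hl', Units.val_one]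
        calc (l : F) ^ 2 ^ n = (l : F) ^ (2 ^ n - 1 + 1) := by rw [Nat.sub_add_cancel h1n]
          _ = (l : F) := by rw [pow_succ, this, one_mul]
  have hnotin : (0 : F) ∉ (fun l : Fˣ => (l : F)) '' (H' : Set Fˣ) := by
    rintro ⟨l, -, hl⟩
    exact l.ne_zero hl
  rw [hset, Set.ncard_insert_of_notMem hnotin (Set.toFinite _),
    Set.ncard_image_of_injective _ Units.val_injective, ← Nat.card_coe_set_eq]
  have : Nat.card (H' : Set Fˣ) = Nat.card H' := rfl
  rw [this, hH'card, Nat.sub_add_cancel h1n]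

theorem backward (hm : 1 ≤ m) (hF : Fintype.card F = 2 ^ (2 * m + 1)) (h2 : (2 : F) = 0)
    (hS : ∀ z, S (S z) = z ^ 2) (hSdef : ∀ z, S z = z ^ 2 ^ (m + 1)) (n : ℕ)
    (hn : n ∣ 2 * m + 1) :
    ∃ E : Subgroup (Cfsg.Sz F m), Cfsg.IsElementaryAbelian 2 E ∧ Nat.card E = 2 ^ n ∧
      ∀ x : Cfsg.Sz F m, E ⊓ E.map (MulAut.conj x).toMonoidHom ≠ ⊥ →
        x ∈ Subgroup.normalizer (E : Set (Cfsg.Sz F m)) := by
  classical
  have hchar : CharP F 2 := CharTwo.of_one_ne_zero_of_two_eq_zero one_ne_zero h2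
  have hprime : Fact (Nat.Prime 2) := ⟨Nat.prime_two⟩
  let E : Subgroup (Cfsg.Sz F m) :=
    { carrier := {y | ∃ c : F, c ^ 2 ^ n = c ∧ y = uQ h2 hS hSdef 0 c}
      mul_mem' := by
        rintro x y ⟨c, hc, rfl⟩ ⟨d, hd, rfl⟩
        refine ⟨c + d, ?_, uQ_zero_add h2 hS hSdef c d⟩
        rw [add_pow_char_pow, hc, hd]
      one_mem' := ⟨0, zero_pow (by positivity), (uQ_zero h2 hS hSdef).symm⟩
      inv_mem' := by
        rintro x ⟨c, hc, rfl⟩
        exact ⟨c, hc, uQ_zero_inv h2 hS hSdef c⟩ }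
  have hEmem : ∀ y, y ∈ E ↔ ∃ c : F, c ^ 2 ^ n = c ∧ y = uQ h2 hS hSdef 0 c := fun _ => Iff.rfl
  refine ⟨E, ⟨⟨⟨?_⟩⟩, ?_⟩, ?_, ?_⟩
  · rintro ⟨x, c, hc, rfl⟩ ⟨y, d, hd, rfl⟩
    apply Subtype.ext
    show uQ h2 hS hSdef 0 c * uQ h2 hS hSdef 0 d = uQ h2 hS hSdef 0 d * uQ h2 hS hSdef 0 c
    rw [uQ_zero_add, uQ_zero_add, add_comm]
  · rintro a ⟨c, hc, rfl⟩
    rw [pow_two]
    exact uQ_zero_involution h2 hS hSdef c
  · have himg : (E : Set (Cfsg.Sz F m))
        = (fun c : F => uQ (m := m) h2 hS hSdef 0 c) '' {c : F | c ^ 2 ^ n = c} := by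
      ext y
      constructor
      · rintro ⟨c, hc, rfl⟩
        exact ⟨c, hc, rfl⟩
      · rintro ⟨c, hc, rfl⟩
        exact ⟨c, hc, rfl⟩
    have hinj : Function.Injective (fun c : F => uQ (m := m) h2 hS hSdef 0 c) := by
      intro c d h
      exact (uQ_inj h2 hS hSdef h).2
    rw [show Nat.card E = (E : Set (Cfsg.Sz F m)).ncard from Nat.card_coe_set_eq _, himg,
      Set.ncard_image_of_injective _ hinj, card_fixed_pow hF hn]
  · intro x hx
    rw [Subgroup.ne_bot_iff_exists_ne_one] at hx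
    obtain ⟨⟨e, he⟩, hne⟩ := hx
    rw [Subgroup.mem_inf] at he
    obtain ⟨⟨c, hc, hec⟩, he2⟩ := he
    rw [Subgroup.mem_map] at he2
    obtain ⟨e', ⟨c', hc', rfl⟩, hee'⟩ := he2
    have hee'' : x * uQ h2 hS hSdef 0 c' * x⁻¹ = e := hee'
    have hc0 : c ≠ 0 := by
      rintro rfl
      apply hne
      apply Subtype.ext
      show e = 1
      rw [hec, uQ_zero]
    have hc'0 : c' ≠ 0 := by
      rintro rfl
      apply hne
      apply Subtype.ext
      show e = 1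
      rw [← hee'', uQ_zero, mul_one, mul_inv_cancel]
    -- `x` fixes `∞`
    have hxfix : x • ptInf F m = ptInf F m := by
      apply uQ_zero_fix h2 hS hSdef hc0
      rw [← hec, ← hee'', mul_smul, mul_smul, inv_smul_smul, uQ_smul_ptInf]
    obtain ⟨a, b, t, rfl⟩ := stab_inf_Q hm hF h2 hS hSdef hxfix
    obtain ⟨l, hl⟩ : ∃ l : F, l = S (t : F) ^ 2 * (t : F) ^ 2 := ⟨_, rfl⟩
    have hconj : ∀ k : F, (uQ h2 hS hSdef a b * hQ hS hSdef t) * uQ h2 hS hSdef 0 k
        * (uQ h2 hS hSdef a b * hQ hS hSdef t)⁻¹ = uQ (m := m) h2 hS hSdef 0 (l * k) := by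
      intro k
      rw [hl]
      exact conj_uQ_zero h2 hS hSdef a b t k
    have ht0 : (t : F) ≠ 0 := t.ne_zero
    have hSt0 : S (t : F) ≠ 0 := by simp
    have hl0 : l ≠ 0 := by
      rw [hl]; exact mul_ne_zero (pow_ne_zero _ hSt0) (pow_ne_zero _ ht0)
    have hlc : l * c' = c := by
      rw [hconj, hec] at hee''
      exact (uQ_inj h2 hS hSdef hee'').2
    have hlK : l ^ 2 ^ n = l := by
      have : l = c / c' := by
        rw [← hlc]; field_simp
      rw [this, div_pow, hc, hc']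
    rw [Subgroup.mem_normalizer_iff]
    intro y
    constructor
    · rintro ⟨k, hk, rfl⟩
      rw [hconj]
      exact ⟨l * k, by rw [mul_pow, hlK, hk], rfl⟩
    · rintro ⟨k, hk, hyk⟩
      refine ⟨l⁻¹ * k, by rw [mul_pow, inv_pow, hlK, hk], ?_⟩
      have h1 := hconj (l⁻¹ * k)
      rw [mul_inv_cancel_left₀ hl0, ← hyk] at h1
      -- cancel the conjugation
      have h3 : uQ h2 hS hSdef 0 (l⁻¹ * k) = y := by
        have := congrArg (fun z => (uQ h2 hS hSdef a b * hQ hS hSdef t)⁻¹ * z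
          * (uQ h2 hS hSdef a b * hQ hS hSdef t)) h1
        simpa [mul_assoc] using this
      exact h3.symm

end Main

/-- Elementary abelian TI-subgroups of the Suzuki group: let q = 2^(2m+1) with m ≥ 1, the group realised as the stabiliser in SL₄ of the Suzuki–Tits ovoid, and n ≥ 2. There is an elementary abelian 2-subgroup E of order 2^n that is a TI-subgroup (every conjugate of E meeting E nontrivially is E itself) if and only if n divides 2m + 1. -/
theorem result {F : Type*} [Field F] [Fintype F] {m : ℕ} (hm : 1 ≤ m) (hF : Fintype.card F = 2 ^ (2 * m + 1)) (n : ℕ) (hn : 2 ≤ n) :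
    (∃ E : Subgroup ↥(Cfsg.Sz F m), Cfsg.IsElementaryAbelian 2 E ∧ Nat.card ↥E = 2 ^ n ∧
      ∀ x : ↥(Cfsg.Sz F m), E ⊓ E.map (MulAut.conj x).toMonoidHom ≠ ⊥ → x ∈ Subgroup.normalizer (E : Set ↥(Cfsg.Sz F m))) ↔ n ∣ 2 * m + 1 := by
  have h2 := two_eq_zero_of_card hF
  have hSdef : ∀ z, sgHom F m h2 z = z ^ 2 ^ (m + 1) := fun z => sgHom_apply m h2 z
  have hS : ∀ z, sgHom F m h2 (sgHom F m h2 z) = z ^ 2 := fun z => sgHom_sgHom hF h2 z
  constructor
  · rintro ⟨E, hE, hcard, hTI⟩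
    exact forward hm hF h2 hS hSdef n hn E hE hcard hTI
  · intro hdvd
    exact backward hm hF h2 hS hSdef n hdvd

end Cfsg.Agent.S2240
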