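-- Statement S0744: constant stabiliser orders force `(k-1)`-transitivity.
import Cfsg.Statements.S0744
import Cfsg.Agent.Lib.Helper59_Derangements2

set_option autoImplicit false
open Cfsg

namespace Cfsg.Agent.S0744

open MulAction Cfsg.Agent.Lib.Helper59_Derangements2

section Aux

set_option linter.unusedSectionVars false

variable {α : Type*} [Fintype α] [DecidableEq α] (G : Subgroup (Equiv.Perm α))

/-- The pointwise stabiliser of a finset, as a subgroup of `G`. -/
abbrev K (A : Finset α) : Subgroup G := fixingSubgroup G (A : Set α)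

theorem mem_K {A : Finset α} {g : G} : g ∈ K G A ↔ ∀ a ∈ A, g • a = a := by
  unfold K
  rw [mem_fixingSubgroup_iff]
  simp only [Finset.mem_coe]

theorem K_anti {A B : Finset α} (h : A ⊆ B) : K G B ≤ K G A := by
  intro g hg
  rw [mem_K] at hg ⊢
  exact fun a ha => hg a (h ha)

theorem smul_notMem {A : Finset α} {g : G} (hg : g ∈ K G A) {a : α} (ha : a ∉ A) :
    g • a ∉ A := by
  intro h
  rw [mem_K] at hg
  have h2 := hg _ h
  have h3 : g • a = a := smul_left_cancel g h2
  exact ha (h3 ▸ h)

/-- Orbit-stabiliser for the pointwise stabilisers. -/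
theorem orbit_mul (B : Finset α) (γ : α) :
    (orbit (K G B) γ).ncard * Nat.card (K G (insert γ B)) = Nat.card (K G B) := by
  have h1 := (stabilizer (K G B) γ).index_mul_card
  rw [index_stabilizer] at h1
  rw [← h1]
  congr 1
  have : (stabilizer (K G B) γ).map (K G B).subtype = K G (insert γ B) := by
    ext g
    rw [Subgroup.mem_map, mem_K]
    constructor
    · rintro ⟨h, hh, rfl⟩
      intro a ha
      rw [Finset.mem_insert] at ha
      rcases ha with rfl | ha
      · exact hh
      · exact (mem_K G).1 h.2 a ha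
    · intro hg
      refine ⟨⟨g, ?_⟩, ?_, rfl⟩
      · rw [mem_K]
        intro a ha
        exact hg a (Finset.mem_insert_of_mem ha)
      · rw [mem_stabilizer_iff]
        exact hg γ (Finset.mem_insert_self _ _)
  rw [← this]
  exact Subgroup.card_map_of_injective (K G B).subtype_injective

/-- `Tr A`: the pointwise stabiliser of `A` is transitive on the complement of `A`. -/
def Tr (A : Finset α) : Prop :=
  ∀ β γ : α, β ∉ A → γ ∉ A → ∃ g ∈ K G A, g • β = γ

/-- Key step: if all orbits of the pointwise stabilisers of `(j+1)`-sets outside that set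
have the same size `d > 1`, the pointwise stabilisers of `j`-sets are transitive outside. -/
theorem tr_of_half (j d : ℕ) (hd : 1 < d)
    (h : ∀ B : Finset α, B.card = j + 1 → ∀ γ ∉ B, (orbit (K G B) γ).ncard = d)
    (A : Finset α) (hA : A.card = j) : Tr G A := by
  intro γ β hγ hβ
  by_contra hcon
  -- the orbit of γ under K_A
  set S : Finset α := (Set.toFinite (orbit (K G A) γ)).toFinset with hS
  have hmemS : ∀ x, x ∈ S ↔ ∃ g ∈ K G A, g • γ = x := by
    intro x
    rw [hS, Set.Finite.mem_toFinset, mem_orbit_iff]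
    constructor
    · rintro ⟨g, rfl⟩
      exact ⟨g.1, g.2, rfl⟩
    · rintro ⟨g, hg, rfl⟩
      exact ⟨⟨g, hg⟩, rfl⟩
  have hβS : β ∉ S := by
    rw [hmemS]
    exact hcon
  have hγS : γ ∈ S := by
    rw [hmemS]
    exact ⟨1, one_mem _, one_smul _ _⟩
  have hSA : ∀ x ∈ S, x ∉ A := by
    intro x hx
    rw [hmemS] at hx
    obtain ⟨g, hg, rfl⟩ := hx
    exact smul_notMem G hg hγ
  have hinv : ∀ g ∈ K G A, ∀ x ∈ S, g • x ∈ S := by
    intro g hg x hx
    rw [hmemS] at hx ⊢
    obtain ⟨g', hg', rfl⟩ := hx
    exact ⟨g * g', mul_mem hg hg', mul_smul _ _ _⟩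
  -- d divides |S|
  have h1 : d ∣ S.card := by
    apply dvd_card_of_invariant (H := K G (insert β A)) S
    · intro g x hx
      exact hinv g.1 (K_anti G (Finset.subset_insert _ _) g.2) x hx
    · intro x hx
      rw [h (insert β A) (by rw [Finset.card_insert_of_notMem hβ, hA]) x]
      rw [Finset.mem_insert, not_or]
      refine ⟨?_, hSA x hx⟩
      rintro rfl
      exact hβS hx
  -- d divides |S| - 1
  have h2 : d ∣ (S.erase γ).card := by
    apply dvd_card_of_invariant (H := K G (insert γ A)) (S.erase γ)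
    · intro g x hx
      rw [Finset.mem_erase] at hx ⊢
      refine ⟨?_, hinv g.1 (K_anti G (Finset.subset_insert _ _) g.2) x hx.2⟩
      intro hgx
      apply hx.1
      have hgγ : g.1 • γ = γ := (mem_K G).1 g.2 γ (Finset.mem_insert_self _ _)
      have : g.1 • x = g.1 • γ := by rw [hgγ]; exact hgx
      exact smul_left_cancel _ this
    · intro x hx
      rw [Finset.mem_erase] at hx
      rw [h (insert γ A) (by rw [Finset.card_insert_of_notMem hγ, hA]) x]
      rw [Finset.mem_insert, not_or]
      exact ⟨hx.1, hSA x hx.2⟩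
  rw [Finset.card_erase_of_mem hγS] at h2
  have hpos : 0 < S.card := Finset.card_pos.2 ⟨γ, hγS⟩
  have h3 : d ∣ 1 := by
    have := (Nat.dvd_sub h1 h2)
    rwa [show S.card - (S.card - 1) = 1 by omega] at this
  have := Nat.le_of_dvd one_pos h3
  omega

/-- Transitivity outside passes from `j`-sets to all smaller sets. -/
theorem tr_of_le (j : ℕ) (hj : j + 2 ≤ Fintype.card α)
    (h : ∀ A : Finset α, A.card = j → Tr G A) :
    ∀ t : ℕ, ∀ A : Finset α, A.card + t = j → Tr G A := by
  intro t
  induction t with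
  | zero => intro A hA; exact h A (by omega)
  | succ t ih =>
    intro A hA β γ hβ hγ
    have hlt : (insert β (insert γ A)).card < (Finset.univ : Finset α).card := by
      rw [Finset.card_univ]
      have h1 := Finset.card_insert_le β (insert γ A)
      have h2 := Finset.card_insert_le γ A
      omega
    obtain ⟨δ, -, hδ⟩ := Finset.exists_mem_notMem_of_card_lt_card hlt
    rw [Finset.mem_insert, Finset.mem_insert, not_or, not_or] at hδ
    obtain ⟨hδβ, hδγ, hδA⟩ := hδ
    have := ih (insert δ A) (by rw [Finset.card_insert_of_notMem hδA]; omega) β γ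
      (by rw [Finset.mem_insert, not_or]; exact ⟨fun h => hδβ h.symm, hβ⟩)
      (by rw [Finset.mem_insert, not_or]; exact ⟨fun h => hδγ h.symm, hγ⟩)
    obtain ⟨g, hg, hgβ⟩ := this
    exact ⟨g, K_anti G (Finset.subset_insert _ _) hg, hgβ⟩

/-- Multiple transitivity on tuples avoiding `A`. -/
theorem multi (j : ℕ) (h : ∀ A : Finset α, A.card ≤ j → Tr G A) :
    ∀ i : ℕ, ∀ A : Finset α, A.card + i ≤ j + 1 → ∀ x y : Fin i → α,
      Function.Injective x → Function.Injective y → (∀ t, x t ∉ A) → (∀ t, y t ∉ A) →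
      ∃ g ∈ K G A, ∀ t, g • x t = y t := by
  intro i
  induction i with
  | zero =>
    intro A _ x y _ _ _ _
    exact ⟨1, one_mem _, fun t => t.elim0⟩
  | succ i ih =>
    intro A hA x y hx hy hxA hyA
    obtain ⟨g₁, hg₁, h0⟩ := h A (by omega) (x 0) (y 0) (hxA 0) (hyA 0)
    have hy0 : y 0 ∉ A := hyA 0
    obtain ⟨g₂, hg₂, hs⟩ := ih (insert (y 0) A)
      (by rw [Finset.card_insert_of_notMem hy0]; omega)
      (fun t => g₁ • x t.succ) (fun t => y t.succ)
      (by
        intro s t hst
        have := hx (smul_left_cancel g₁ hst)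
        exact Fin.succ_injective _ this)
      (by
        intro s t hst
        exact Fin.succ_injective _ (hy hst))
      (by
        intro t
        rw [Finset.mem_insert, not_or]
        refine ⟨?_, smul_notMem G hg₁ (hxA _)⟩
        rw [← h0]
        intro hh
        have := hx (smul_left_cancel g₁ hh)
        exact Fin.succ_ne_zero _ this)
      (by
        intro t
        rw [Finset.mem_insert, not_or]
        refine ⟨?_, hyA _⟩
        intro hh
        exact Fin.succ_ne_zero _ (hy hh))
    refine ⟨g₂ * g₁, mul_mem (K_anti G (Finset.subset_insert _ _) hg₂) hg₁, ?_⟩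
    intro t
    rw [mul_smul]
    refine Fin.cases ?_ (fun s => ?_) t
    · rw [h0]
      exact (mem_K G).1 hg₂ _ (Finset.mem_insert_self _ _)
    · exact hs s

end Aux

/-- If for some `k > 1` the pointwise stabilisers of all `(k-1)`-subsets have the same order `> 1` and those of all `k`-subsets have the same order, then the group is `(k-1)`-transitive. -/
theorem result {α : Type*} [Fintype α] [DecidableEq α] (G : Subgroup (Equiv.Perm α)) {k : ℕ} (hk : 1 < k) (hkn : k ≤ Fintype.card α) (l m : ℕ) (hl : 1 < l) (hkm1 : ∀ s : Finset α, s.card = k - 1 → Nat.card (fixingSubgroup G (s : Set α)) = l) (hkm : ∀ s : Finset α, s.card = k → Nat.card (fixingSubgroup G (s : Set α)) = m) : MulAction.IsMultiplyPretransitive G α (k - 1) := by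
  obtain ⟨j, rfl⟩ : ∃ j, k = j + 2 := ⟨k - 2, by omega⟩
  have hk1 : j + 2 - 1 = j + 1 := rfl
  rw [hk1] at hkm1 ⊢
  -- orbit sizes
  have horb : ∀ B : Finset α, B.card = j + 1 → ∀ γ ∉ B,
      (orbit (K G B) γ).ncard * m = l := by
    intro B hB γ hγ
    have := orbit_mul G B γ
    rw [hkm1 B hB, hkm (insert γ B) (by rw [Finset.card_insert_of_notMem hγ, hB])] at this
    exact this
  -- a set of size j+1 and a moved point
  obtain ⟨B₀, -, hB₀⟩ := Finset.exists_subset_card_eq
    (show j + 1 ≤ (Finset.univ : Finset α).card by rw [Finset.card_univ]; omega)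
  have hcard : 1 < Nat.card (K G B₀) := by rw [hkm1 B₀ hB₀]; exact hl
  have : Finite (K G B₀) := Nat.finite_of_card_ne_zero (by omega)
  rw [Finite.one_lt_card_iff_nontrivial] at hcard
  obtain ⟨g, hg⟩ := exists_ne (1 : K G B₀)
  have hmove : ∃ γ : α, g • γ ≠ γ := by
    by_contra hcon
    push Not at hcon
    apply hg
    apply Subtype.ext
    apply Subtype.ext
    ext a
    exact hcon a
  obtain ⟨γ₀, hγ₀⟩ := hmove
  have hγ₀B : γ₀ ∉ B₀ := by
    intro hmem
    exact hγ₀ ((mem_K G).1 g.2 γ₀ hmem)
  set d := (orbit (K G B₀) γ₀).ncard with hd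
  have hd1 : 1 < d := by
    rw [hd, Set.one_lt_ncard_iff]
    exact ⟨g • γ₀, γ₀, mem_orbit _ _, mem_orbit_self _, hγ₀⟩
  have hdm : d * m = l := horb B₀ hB₀ γ₀ hγ₀B
  have hm : 0 < m := by
    rcases Nat.eq_zero_or_pos m with rfl | h
    · omega
    · exact h
  have hall : ∀ B : Finset α, B.card = j + 1 → ∀ γ ∉ B, (orbit (K G B) γ).ncard = d := by
    intro B hB γ hγ
    have := horb B hB γ hγ
    rw [← hdm] at this
    exact Nat.eq_of_mul_eq_mul_right hm this
  have hTr := tr_of_half G j d hd1 hall
  have hTr' : ∀ A : Finset α, A.card ≤ j → Tr G A := by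
    intro A hA
    exact tr_of_le G j hkn hTr (j - A.card) A (by omega)
  have hmulti := multi G j hTr' (j + 1) ∅ (by simp)
  rw [isMultiplyPretransitive_iff]
  intro x y
  obtain ⟨g, -, hg⟩ := hmulti x y x.injective y.injective (by simp) (by simp)
  refine ⟨g, ?_⟩
  ext t
  exact hg t

end Cfsg.Agent.S0744
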