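import Mathlib
import Cfsg.Statements.S4652
import Cfsg.Agent.Lib.Helper78_LocalRing
import Cfsg.Agent.Lib.Helper78_CharFacts
import Cfsg.Agent.Lib.Helper80_CharBasic

set_option autoImplicit false
open Cfsg

namespace Cfsg.Agent.S4652

open Cfsg.Agent.Lib.Helper78_LocalRing Cfsg.Agent.Lib.Helper78_CharFacts
  Cfsg.Agent.Lib.Helper80_CharBasic

open scoped ComplexConjugate

/-- The centralizer of a conjugate is the conjugate of the centralizer. -/
theorem centralizer_conj {G : Type*} [Group G] (g h : G) :
    Subgroup.centralizer ({h * g * h⁻¹} : Set G) =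
      (Subgroup.centralizer ({g} : Set G)).map (MulAut.conj h).toMonoidHom := by
  ext x
  rw [Subgroup.mem_centralizer_iff, Subgroup.mem_map]
  constructor
  · intro hx
    refine ⟨h⁻¹ * x * h, ?_, by simp [mul_assoc]⟩
    rw [Subgroup.mem_centralizer_iff]
    intro y hy
    rw [Set.mem_singleton_iff] at hy
    subst hy
    have := hx (h * y * h⁻¹) (Set.mem_singleton _)
    calc y * (h⁻¹ * x * h) = h⁻¹ * (h * y * h⁻¹ * x) * h := by group
      _ = h⁻¹ * (x * (h * y * h⁻¹)) * h := by rw [this]
      _ = h⁻¹ * x * h * y := by group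
  · rintro ⟨c, hc, rfl⟩ y hy
    rw [Set.mem_singleton_iff] at hy
    subst hy
    have := (Subgroup.mem_centralizer_iff.mp hc) g (Set.mem_singleton _)
    simp only [MulEquiv.coe_toMonoidHom, MulAut.conj_apply]
    calc h * g * h⁻¹ * (h * c * h⁻¹) = h * (g * c) * h⁻¹ := by group
      _ = h * (c * g) * h⁻¹ := by rw [this]
      _ = h * c * h⁻¹ * (h * g * h⁻¹) := by group

theorem index_centralizer_conj {G : Type*} [Group G] (g h : G) :
    (Subgroup.centralizer ({h * g * h⁻¹} : Set G)).index =
      (Subgroup.centralizer ({g} : Set G)).index := by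
  rw [centralizer_conj]
  exact Subgroup.index_map_equiv _ (MulAut.conj h)

theorem irr_conj' {G : Type*} [Group G] (χ : IrrCharacter G) (g h : G) :
    (χ : G → ℂ) (h * g * h⁻¹) = (χ : G → ℂ) g := by
  obtain ⟨n, ρ, -, hρ⟩ := χ.2
  rw [← hρ]
  exact Representation.char_conj ρ g h

/-- Defect classes are invariant under conjugation. -/
theorem isDefectClass_conj {G : Type*} [Group G] (M : Ideal AlgInt) (B : Set (IrrCharacter G))
    (g h : G) (hg : IsDefectClass M B g) : IsDefectClass M B (h * g * h⁻¹) := by
  have hb : blockCoeff B (h * g * h⁻¹) = blockCoeff B g := by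
    unfold blockCoeff
    congr 1
    refine finsum_congr fun χ => ?_
    refine finsum_congr fun _ => ?_
    rw [irr_conj']
  have hc : ∀ χ : IrrCharacter G,
      centralChar (χ : G → ℂ) (h * g * h⁻¹) = centralChar (χ : G → ℂ) g := by
    intro χ
    unfold centralChar
    rw [index_centralizer_conj, irr_conj']
  refine ⟨?_, ?_, ?_⟩
  · rw [hb]; exact hg.1
  · rw [hb]; exact hg.2.1
  · intro χ hχ
    rw [hc]
    exact hg.2.2 χ hχ

/-- Fix a prime p and a maximal ideal M of the algebraic integers containing p. The defect groups of the principal p-block of a finite group G are exactly the Sylow p-subgroups of G: a subgroup D is a defect group of the principal block if and only if D is a Sylow p-subgroup. -/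
theorem result {G : Type*} [Group G] [Fintype G] (p : ℕ) [Fact p.Prime] (M : Ideal Cfsg.AlgInt) (hM : Cfsg.IsPModular p M) (D : Subgroup G) : Cfsg.IsDefectGroup p M (Cfsg.principalBlock M G) D ↔ ∃ S : Sylow p G, (S : Subgroup G) = D := by
  have hMp : M.IsPrime := isPrime_of_isPModular hM
  have hpp : p.Prime := Fact.out
  -- the principal character lies in the principal block
  have h1mem : oneIrr G ∈ principalBlock M G := by
    change SameBlock M (fun _ : G => (1 : ℂ)) (fun _ : G => (1 : ℂ))
    exact sameBlock_refl hMp _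
  have hB0 : IsPBlock M (principalBlock M G) := ⟨oneIrr G, rfl⟩
  -- for a defect class `g` of the principal block, `p ∤ |G : C_G(g)|`
  have hidx : ∀ g : G, IsDefectClass M (principalBlock M G) g →
      ¬ p ∣ (Subgroup.centralizer ({g} : Set G)).index := by
    intro g hg hdvd
    apply hg.2.2 (oneIrr G) h1mem
    have : centralChar ((oneIrr G : IrrCharacter G) : G → ℂ) g =
        ((Subgroup.centralizer ({g} : Set G)).index : ℂ) := by
      unfold centralChar oneIrr
      simp
    rw [this, memLocalIdeal_natCast_iff hM]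
    exact hdvd
  constructor
  · rintro ⟨g, hg, P, rfl⟩
    have hnd := hidx g hg
    have hDp : IsPGroup p ((P : Subgroup (Subgroup.centralizer ({g} : Set G))).map
        (Subgroup.centralizer ({g} : Set G)).subtype) := P.isPGroup'.map _
    have hDidx : ¬ p ∣ ((P : Subgroup (Subgroup.centralizer ({g} : Set G))).map
        (Subgroup.centralizer ({g} : Set G)).subtype).index := by
      rw [Subgroup.index_map_subtype]
      exact hpp.not_dvd_mul P.not_dvd_index hnd
    exact ⟨hDp.toSylow hDidx, IsPGroup.toSylow_coe hDp hDidx⟩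
  · rintro ⟨S, rfl⟩
    obtain ⟨g, hg⟩ := exists_isDefectClass' hMp hB0
    have hnd := hidx g hg
    -- a Sylow subgroup of `C_G(g)` is a Sylow subgroup of `G`
    obtain ⟨P⟩ : Nonempty (Sylow p (Subgroup.centralizer ({g} : Set G))) := inferInstance
    have hDp : IsPGroup p ((P : Subgroup (Subgroup.centralizer ({g} : Set G))).map
        (Subgroup.centralizer ({g} : Set G)).subtype) := P.isPGroup'.map _
    have hDidx : ¬ p ∣ ((P : Subgroup (Subgroup.centralizer ({g} : Set G))).map
        (Subgroup.centralizer ({g} : Set G)).subtype).index := by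
      rw [Subgroup.index_map_subtype]
      exact hpp.not_dvd_mul P.not_dvd_index hnd
    set S' : Sylow p G := hDp.toSylow hDidx with hS'
    have hS'le : (S' : Subgroup G) ≤ Subgroup.centralizer ({g} : Set G) := by
      rw [hS', IsPGroup.toSylow_coe]
      exact Subgroup.map_subtype_le _
    obtain ⟨h, hh⟩ := MulAction.exists_smul_eq G S' S
    -- `S = h S' h⁻¹ ≤ C_G(h g h⁻¹)`
    refine ⟨h * g * h⁻¹, isDefectClass_conj M _ g h hg, ?_⟩
    have hSle : (S : Subgroup G) ≤ Subgroup.centralizer ({h * g * h⁻¹} : Set G) := by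
      rw [← hh, Sylow.coe_subgroup_smul, centralizer_conj]
      intro x hx
      rw [Subgroup.mem_pointwise_smul_iff_inv_smul_mem] at hx
      refine ⟨_, hS'le hx, ?_⟩
      simp only [MulAut.smul_def, MulAut.conj_inv_apply, MulEquiv.coe_toMonoidHom,
        MulAut.conj_apply]
      group
    have hSp : IsPGroup p ((S : Subgroup G).subgroupOf
        (Subgroup.centralizer ({h * g * h⁻¹} : Set G))) := S.isPGroup'.comap_subtype
    have hSidx : ¬ p ∣ ((S : Subgroup G).subgroupOf
        (Subgroup.centralizer ({h * g * h⁻¹} : Set G))).index := by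
      intro hd
      apply S.not_dvd_index
      have := Subgroup.relIndex_mul_index hSle
      rw [← this]
      exact Dvd.dvd.mul_right hd _
    refine ⟨hSp.toSylow hSidx, ?_⟩
    rw [IsPGroup.toSylow_coe, Subgroup.subgroupOf_map_subtype, inf_of_le_left hSle]

end Cfsg.Agent.S4652
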