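import Cfsg.Statements.S2329

set_option autoImplicit false
open Cfsg

namespace Cfsg.Agent.S2329

open Matrix

/-- A 2x2 matrix with zero trace and determinant squares to zero. -/
theorem sq_zero_of_tr_det {F : Type*} [Field F] (N : Matrix (Fin 2) (Fin 2) F)
    (ht : N 0 0 + N 1 1 = 0) (hd : N 0 0 * N 1 1 - N 0 1 * N 1 0 = 0) : N * N = 0 := by
  have h11 : N 1 1 = - N 0 0 := by linear_combination ht
  ext i j
  fin_cases i <;> fin_cases j <;> simp [Matrix.mul_apply, Fin.sum_univ_two, h11] at hd ⊢ <;>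
    first | linear_combination (-1 : F) * hd | linear_combination (0 : F) * hd

/-- The standard transvection. -/
noncomputable def u (F : Type*) [Field F] : Matrix.GeneralLinearGroup (Fin 2) F :=
  Matrix.GeneralLinearGroup.mkOfDetNeZero !![1, 1; 0, 1] (by simp [Matrix.det_fin_two])

theorem conj_u_of_nilp {F : Type*} [Field F] (g : Matrix.GeneralLinearGroup (Fin 2) F)
    (hN0 : (g : Matrix (Fin 2) (Fin 2) F) ≠ 1)
    (hN2 : ((g : Matrix (Fin 2) (Fin 2) F) - 1) * ((g : Matrix (Fin 2) (Fin 2) F) - 1) = 0) :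
    IsConj g (u F) := by
  rw [isConj_comm, isConj_iff]
  set M : Matrix (Fin 2) (Fin 2) F := (g : Matrix (Fin 2) (Fin 2) F) with hM
  have e00 := congrFun (congrFun hN2 0) 0
  have e01 := congrFun (congrFun hN2 0) 1
  have e10 := congrFun (congrFun hN2 1) 0
  have e11 := congrFun (congrFun hN2 1) 1
  simp [Matrix.mul_apply, Fin.sum_univ_two] at e00 e01 e10 e11
  by_cases hc : M 1 0 = 0
  · by_cases hb : M 0 1 = 0
    · exfalso
      apply hN0
      rw [hc] at e00 e11
      simp at e00 e11
      ext i j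
      fin_cases i <;> fin_cases j <;> simp
      · linear_combination e00
      · exact hb
      · exact hc
      · linear_combination e11
    · refine ⟨Matrix.GeneralLinearGroup.mkOfDetNeZero !![M 0 1, 0; M 1 1 - 1, 1]
        (by simpa [Matrix.det_fin_two] using hb), ?_⟩
      rw [mul_inv_eq_iff_eq_mul]
      apply Units.ext
      simp only [Units.val_mul]
      change (!![M 0 1, 0; M 1 1 - 1, 1] : Matrix (Fin 2) (Fin 2) F) * !![1, 1; 0, 1] = M * !![M 0 1, 0; M 1 1 - 1, 1]
      ext i j
      fin_cases i <;> fin_cases j <;> simp [Matrix.mul_apply, Fin.sum_univ_two]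
      · linear_combination (-1 : F) * e01
      · rw [hc] at e11 ⊢
        linear_combination (-1 : F) * e11
  · refine ⟨Matrix.GeneralLinearGroup.mkOfDetNeZero !![M 0 0 - 1, 1; M 1 0, 0]
        (by simpa [Matrix.det_fin_two] using hc), ?_⟩
    rw [mul_inv_eq_iff_eq_mul]
    apply Units.ext
    simp only [Units.val_mul]
    change (!![M 0 0 - 1, 1; M 1 0, 0] : Matrix (Fin 2) (Fin 2) F) * !![1, 1; 0, 1] = M * !![M 0 0 - 1, 1; M 1 0, 0]
    ext i j
    fin_cases i <;> fin_cases j <;> simp [Matrix.mul_apply, Fin.sum_univ_two]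
    · linear_combination (-1 : F) * e00
    · linear_combination (-1 : F) * e10

theorem nilp_of_order {F : Type*} [Field F] (p : ℕ) [Fact p.Prime] [CharP F p]
    (g : Matrix.GeneralLinearGroup (Fin 2) F) (hg : orderOf g = p) :
    (g : Matrix (Fin 2) (Fin 2) F) ≠ 1 ∧
    ((g : Matrix (Fin 2) (Fin 2) F) - 1) * ((g : Matrix (Fin 2) (Fin 2) F) - 1) = 0 := by
  have hp : p.Prime := Fact.out
  have hg1 : g ≠ 1 := by
    intro h
    rw [h, orderOf_one] at hg
    exact hp.ne_one hg.symm
  have hM1 : (g : Matrix (Fin 2) (Fin 2) F) ≠ 1 := by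
    intro h
    apply hg1
    apply Units.ext
    simpa using h
  refine ⟨hM1, ?_⟩
  set M : Matrix (Fin 2) (Fin 2) F := (g : Matrix (Fin 2) (Fin 2) F) with hM
  have hgp : g ^ p = 1 := by rw [← hg]; exact pow_orderOf_eq_one g
  have hMp : M ^ p = 1 := by
    have := congrArg (fun x : Matrix.GeneralLinearGroup (Fin 2) F => (x : Matrix (Fin 2) (Fin 2) F)) hgp
    simpa using this
  have hNp : (M - 1) ^ p = 0 := by
    rw [sub_pow_char_of_commute (p := p) (h := Commute.one_right M), hMp, one_pow, sub_self]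
  have hnil : IsNilpotent (M - 1) := ⟨p, hNp⟩
  have htr : (M - 1).trace = 0 := (Matrix.isNilpotent_trace_of_isNilpotent hnil).eq_zero
  have hdet : (M - 1).det = 0 := by
    have : IsNilpotent (M - 1).det := by
      obtain ⟨k, hk⟩ := hnil
      exact ⟨k, by rw [← Matrix.det_pow, hk]; simp⟩
    exact this.eq_zero
  apply sq_zero_of_tr_det
  · rw [Matrix.trace_fin_two] at htr
    simpa using htr
  · rw [Matrix.det_fin_two] at hdet
    simpa using hdet

theorem result {F : Type*} [Field F] [Fintype F] (p : ℕ) [Fact p.Prime] [CharP F p] (g h : Matrix.GeneralLinearGroup (Fin 2) F)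
    (hg : orderOf g = p) (hh : orderOf h = p) : IsConj g h := by
  obtain ⟨hg1, hg2⟩ := nilp_of_order p g hg
  obtain ⟨hh1, hh2⟩ := nilp_of_order p h hh
  exact (conj_u_of_nilp g hg1 hg2).trans (conj_u_of_nilp h hh1 hh2).symm

end Cfsg.Agent.S2329
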