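import Cfsg.Statements.S2325
import Cfsg.Agent.Lib.Helper39_SL2

set_option autoImplicit false
open Cfsg

namespace Cfsg.Agent.S2325

open Matrix Polynomial Cfsg.Agent.Lib.Helper39_GL2 Cfsg.Agent.Lib.Helper39_SL2

variable {F : Type*} [Field F]

/-- The twisted companion matrix. -/
def companionTw (t e : F) : Matrix (Fin 2) (Fin 2) F := !![0, -e⁻¹; e, t]

theorem companionTw_det (t e : F) (he : e ≠ 0) : (companionTw t e).det = 1 := by
  simp [companionTw, Matrix.det_fin_two, he]

@[simp] theorem companionTw_trace (t e : F) : (companionTw t e).trace = t := by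
  simp [companionTw, Matrix.trace_fin_two]

/-- Similar by a matrix of square determinant implies conjugate in `SL₂`. -/
theorem isConj_of_similar_sq (g h : Matrix.SpecialLinearGroup (Fin 2) F)
    (P : Matrix (Fin 2) (Fin 2) F) (s : F) (hs : s ≠ 0) (hP : P.det = s ^ 2)
    (hgh : (g : Matrix (Fin 2) (Fin 2) F) * P = P * (h : Matrix (Fin 2) (Fin 2) F)) : IsConj g h := by
  refine isConj_of_mul_eq g h (s⁻¹ • P) ?_ ?_
  · rw [Matrix.det_smul, hP]
    simp
    field_simp
  · rw [Matrix.mul_smul, Matrix.smul_mul, hgh]

theorem two_ne_zero_of_odd [Fintype F] (hodd : Odd (Fintype.card F)) : (2 : F) ≠ 0 := by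
  intro h
  have : CharP F 2 := CharTwo.of_one_ne_zero_of_two_eq_zero one_ne_zero h
  have hchar : ringChar F = 2 := ringChar.eq F 2
  have := FiniteField.even_card_of_char_two hchar
  rcases hodd with ⟨k, hk⟩
  omega

/-- The binary form `x² + t x y + y²` is universal over a finite field of odd order if `t² ≠ 4`. -/
theorem universal_form [Fintype F] (hodd : Odd (Fintype.card F)) (t : F) (ht : t ^ 2 ≠ 4)
    (e : F) : ∃ x y : F, x ^ 2 + t * x * y + y ^ 2 = e := by
  have h2 : (2 : F) ≠ 0 := two_ne_zero_of_odd hodd
  have h4 : (4 : F) ≠ 0 := by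
    have : (4 : F) = 2 * 2 := by norm_num
    rw [this]; exact mul_ne_zero h2 h2
  set c : F := 1 - t ^ 2 / 4 with hc
  have hc0 : c ≠ 0 := by
    intro h
    apply ht
    rw [hc] at h
    field_simp at h
    linear_combination (-1 : F) * h
  have hcard : Fintype.card F % 2 = 1 := Nat.odd_iff.1 hodd
  obtain ⟨a, b, hab⟩ := FiniteField.exists_root_sum_quadratic (R := F)
    (f := (X : F[X]) ^ 2) (g := C c * X ^ 2 + C 0 * X + C (-e))
    (degree_X_pow 2) (degree_quadratic hc0) hcard
  simp at hab
  refine ⟨a - t / 2 * b, b, ?_⟩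
  rw [hc] at hab
  field_simp at hab ⊢
  linear_combination hab

/-- The twisted companion matrix as an element of `SL₂`. -/
noncomputable def companionTwSL (t e : F) (he : e ≠ 0) : Matrix.SpecialLinearGroup (Fin 2) F :=
  ⟨companionTw t e, companionTw_det t e he⟩

theorem companionTwSL_val (t e : F) (he : e ≠ 0) :
    ((companionTwSL t e he : Matrix.SpecialLinearGroup (Fin 2) F) : Matrix (Fin 2) (Fin 2) F) =
      companionTw t e := rfl

/-- If the companion matrix of trace `±2` is `SL₂`-conjugate to its twist by `e`, `e` is a square. -/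
theorem isSquare_of_isConj_tw (t e : F) (he : e ≠ 0) (ht : t = 2 ∨ t = -2)
    (hc : IsConj (companionSL t) (companionTwSL t e he)) : IsSquare e := by
  obtain ⟨Q, hQ, hQC⟩ := exists_of_isConj hc
  rw [companionSL_val, companionTwSL_val] at hQC
  have e00 := congrFun (congrFun hQC 0) 0
  have e10 := congrFun (congrFun hQC 1) 0
  simp [companion, companionTw, Matrix.mul_apply, Fin.sum_univ_two] at e00 e10
  rw [Matrix.det_fin_two] at hQ
  rw [e00, e10] at hQ
  rcases ht with rfl | rfl
  · refine ⟨e * Q 0 0 + Q 1 0, ?_⟩
    field_simp at hQ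
    linear_combination (-1 : F) * hQ
  · refine ⟨e * Q 0 0 - Q 1 0, ?_⟩
    field_simp at hQ
    linear_combination (-1 : F) * hQ

theorem eq_of_isConj_of_isScalar_SL {g h : Matrix.SpecialLinearGroup (Fin 2) F} (hc : IsConj g h)
    (hg : IsScalar (g : Matrix (Fin 2) (Fin 2) F)) : g = h := by
  have := Cfsg.Agent.Lib.Helper39_GL2.eq_of_isConj_of_isScalar
    (Matrix.SpecialLinearGroup.toGL.map_isConj hc) (by simpa using hg)
  exact Matrix.SpecialLinearGroup.toGL_injective this

/-- The product of two non-squares of a finite field is a square. -/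
theorem isSquare_mul_of_not_isSquare [Fintype F] {a b : F} (ha : ¬ IsSquare a) (hb : ¬ IsSquare b) :
    IsSquare (a * b) := by
  classical
  have ha0 : a ≠ 0 := by rintro rfl; exact ha IsSquare.zero
  have hb0 : b ≠ 0 := by rintro rfl; exact hb IsSquare.zero
  rw [← quadraticChar_one_iff_isSquare (mul_ne_zero ha0 hb0), map_mul,
    quadraticChar_neg_one_iff_not_isSquare.2 ha, quadraticChar_neg_one_iff_not_isSquare.2 hb]
  norm_num

/-- The central element `-1` of `SL₂`. -/
def negOne : Matrix.SpecialLinearGroup (Fin 2) F :=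
  ⟨!![-1, 0; 0, -1], by simp [Matrix.det_fin_two]⟩

theorem negOne_val : ((negOne : Matrix.SpecialLinearGroup (Fin 2) F) : Matrix (Fin 2) (Fin 2) F) =
    !![-1, 0; 0, -1] := rfl

/-- The sign `±2`. -/
def sgn (s : Bool) : F := if s then 2 else -2

/-- Representatives of the conjugacy classes of `SL₂` in odd characteristic. -/
noncomputable def rep (e : F) (he : e ≠ 0) :
    Bool ⊕ {t : F // t ^ 2 ≠ 4} ⊕ (Bool × Bool) → Matrix.SpecialLinearGroup (Fin 2) F
  | Sum.inl s => if s then 1 else negOne
  | Sum.inr (Sum.inl t) => companionSL t.1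
  | Sum.inr (Sum.inr (s, r)) => if r then companionSL (sgn s) else companionTwSL (sgn s) e he

theorem rep_inl_isScalar (e : F) (he : e ≠ 0) (s : Bool) :
    IsScalar ((rep e he (Sum.inl s) : Matrix.SpecialLinearGroup (Fin 2) F) : Matrix (Fin 2) (Fin 2) F) := by
  cases s <;> simp [rep, IsScalar, negOne_val]

theorem rep_inr_10 (e : F) (he : e ≠ 0) (x : {t : F // t ^ 2 ≠ 4} ⊕ (Bool × Bool)) :
    ((rep e he (Sum.inr x) : Matrix.SpecialLinearGroup (Fin 2) F) : Matrix (Fin 2) (Fin 2) F) 1 0 ≠ 0 := by
  rcases x with t | ⟨s, r⟩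
  · simp [rep, companion]
  · cases r <;> simp [rep, companion, companionTwSL_val, companionTw, he]

theorem rep_inl_10 (e : F) (he : e ≠ 0) (s : Bool) :
    ((rep e he (Sum.inl s) : Matrix.SpecialLinearGroup (Fin 2) F) : Matrix (Fin 2) (Fin 2) F) 1 0 = 0 :=
  (rep_inl_isScalar e he s).2.1

theorem rep_inr_inr_trace (e : F) (he : e ≠ 0) (s r : Bool) :
    ((rep e he (Sum.inr (Sum.inr (s, r))) : Matrix.SpecialLinearGroup (Fin 2) F) :
      Matrix (Fin 2) (Fin 2) F).trace = sgn s := by
  cases r <;> simp [rep, companionTwSL_val]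

theorem sgn_sq (s : Bool) : (sgn s : F) ^ 2 = 4 := by
  cases s <;> simp [sgn] <;> norm_num

theorem sgn_injective (h2 : (2 : F) ≠ 0) : Function.Injective (sgn : Bool → F) := by
  intro s s' h
  cases s <;> cases s' <;> simp [sgn] at h ⊢
  · apply h2
    have : (2 : F) * 2 = 0 := by linear_combination (-1 : F) * h
    exact mul_self_eq_zero.1 this
  · apply h2
    have : (2 : F) * 2 = 0 := by linear_combination h
    exact mul_self_eq_zero.1 this

theorem rep_injective [Fintype F] (hodd : Odd (Fintype.card F)) (e : F) (he : e ≠ 0) (hns : ¬ IsSquare e) :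
    Function.Injective (fun x => ConjClasses.mk (rep e he x)) := by
  have h2 : (2 : F) ≠ 0 := two_ne_zero_of_odd hodd
  intro x y hxy
  simp only [ConjClasses.mk_eq_mk_iff_isConj] at hxy
  rcases x with s | x <;> rcases y with s' | y
  · have h := eq_of_isConj_of_isScalar_SL hxy (rep_inl_isScalar e he s)
    have h3 := congrArg (fun g : Matrix.SpecialLinearGroup (Fin 2) F => (g : Matrix (Fin 2) (Fin 2) F) 0 0) h
    cases s <;> cases s' <;> simp [rep, negOne_val] at h3 ⊢
    · exfalso; apply h2; linear_combination (-1 : F) * h3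
    · exfalso; apply h2; linear_combination h3
  · exfalso
    have h := eq_of_isConj_of_isScalar_SL hxy (rep_inl_isScalar e he s)
    have h3 := congrArg (fun g : Matrix.SpecialLinearGroup (Fin 2) F => (g : Matrix (Fin 2) (Fin 2) F) 1 0) h
    simp only [rep_inl_10] at h3
    exact rep_inr_10 e he y h3.symm
  · exfalso
    have h := eq_of_isConj_of_isScalar_SL hxy.symm (rep_inl_isScalar e he s')
    have h3 := congrArg (fun g : Matrix.SpecialLinearGroup (Fin 2) F => (g : Matrix (Fin 2) (Fin 2) F) 1 0) h
    simp only [rep_inl_10] at h3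
    exact rep_inr_10 e he x h3.symm
  · have htr := trace_eq_of_isConj hxy
    rcases x with t | ⟨s, r⟩ <;> rcases y with t' | ⟨s', r'⟩
    · simp only [rep, companionSL_val, companion_trace] at htr
      rw [Subtype.ext htr]
    · exfalso
      rw [rep_inr_inr_trace] at htr
      simp only [rep, companionSL_val, companion_trace] at htr
      apply t.2
      rw [htr, sgn_sq]
    · exfalso
      rw [rep_inr_inr_trace] at htr
      simp only [rep, companionSL_val, companion_trace] at htr
      apply t'.2
      rw [← htr, sgn_sq]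
    · rw [rep_inr_inr_trace, rep_inr_inr_trace] at htr
      have hs : s = s' := sgn_injective h2 htr
      subst hs
      have hsg : (sgn s : F) = 2 ∨ (sgn s : F) = -2 := by cases s <;> simp [sgn]
      cases r <;> cases r'
      · rfl
      · exfalso
        simp only [rep] at hxy
        exact hns (isSquare_of_isConj_tw _ e he hsg (by simpa using hxy.symm))
      · exfalso
        simp only [rep] at hxy
        exact hns (isSquare_of_isConj_tw _ e he hsg (by simpa using hxy))
      · rfl

theorem companion_mul_diag (t e : F) (he : e ≠ 0) :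
    companion t 1 * !![1, 0; 0, e⁻¹] = !![1, 0; 0, e⁻¹] * companionTw t e := by
  ext i j
  fin_cases i <;> fin_cases j <;>
    simp [companion, companionTw, Matrix.mul_apply, Fin.sum_univ_two, he, mul_comm]

theorem rep_inl_true (e : F) (he : e ≠ 0) : rep e he (Sum.inl true) = 1 := rfl
theorem rep_inl_false (e : F) (he : e ≠ 0) : rep e he (Sum.inl false) = negOne := rfl
theorem rep_inr_inr_true (e : F) (he : e ≠ 0) (s : Bool) :
    rep e he (Sum.inr (Sum.inr (s, true))) = companionSL (sgn s) := rfl
theorem rep_inr_inr_false (e : F) (he : e ≠ 0) (s : Bool) :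
    rep e he (Sum.inr (Sum.inr (s, false))) = companionTwSL (sgn s) e he := rfl
theorem sgn_true : (sgn true : F) = 2 := rfl
theorem sgn_false : (sgn false : F) = -2 := rfl

theorem rep_surjective [Fintype F] (hodd : Odd (Fintype.card F)) (e : F) (he : e ≠ 0) (hns : ¬ IsSquare e) :
    Function.Surjective (fun x => ConjClasses.mk (rep e he x)) := by
  have h2 : (2 : F) ≠ 0 := two_ne_zero_of_odd hodd
  intro c
  obtain ⟨g, rfl⟩ := ConjClasses.exists_rep c
  by_cases hg : IsScalar (g : Matrix (Fin 2) (Fin 2) F)
  · obtain ⟨a, ha⟩ := (isScalar_iff _).1 hg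
    have hdet : (g : Matrix (Fin 2) (Fin 2) F).det = 1 := g.2
    rw [ha] at hdet
    simp at hdet
    rcases hdet with h | h
    · refine ⟨Sum.inl true, ?_⟩
      simp only [rep_inl_true]
      congr 1
      apply Subtype.ext
      rw [ha, h]
      simp
    · refine ⟨Sum.inl false, ?_⟩
      simp only [rep_inl_false]
      congr 1
      apply Subtype.ext
      rw [ha, h, negOne_val]
      ext i j
      fin_cases i <;> fin_cases j <;> simp
  · set t : F := (g : Matrix (Fin 2) (Fin 2) F).trace with ht
    by_cases ht4 : t ^ 2 = 4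
    · have hts : ∃ s : Bool, t = sgn s := by
        have : (t - 2) * (t + 2) = 0 := by linear_combination ht4
        rcases mul_eq_zero.1 this with h | h
        · exact ⟨true, by rw [sgn_true]; linear_combination h⟩
        · exact ⟨false, by rw [sgn_false]; linear_combination h⟩
      obtain ⟨s, hs⟩ := hts
      obtain ⟨P, hP, hMP⟩ := exists_conj_companion _ hg
      have hdet : (g : Matrix (Fin 2) (Fin 2) F).det = 1 := g.2
      rw [hdet, ← ht, hs] at hMP
      by_cases hsq : IsSquare P.det
      · obtain ⟨w, hw⟩ := hsq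
        have hw0 : w ≠ 0 := by rintro rfl; apply hP; simpa using hw
        refine ⟨Sum.inr (Sum.inr (s, true)), ?_⟩
        simp only [rep_inr_inr_true, ConjClasses.mk_eq_mk_iff_isConj]
        apply IsConj.symm
        exact isConj_of_similar_sq g _ P w hw0 (by rw [hw]; ring) (by simpa using hMP)
      · obtain ⟨w, hw⟩ := isSquare_mul_of_not_isSquare hsq hns
        have hw0 : w ≠ 0 := by
          rintro rfl
          have : P.det * e = 0 := by simpa using hw
          exact (mul_ne_zero hP he) this
        refine ⟨Sum.inr (Sum.inr (s, false)), ?_⟩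
        simp only [rep_inr_inr_false, ConjClasses.mk_eq_mk_iff_isConj]
        apply IsConj.symm
        refine isConj_of_similar_sq g _ (P * !![1, 0; 0, e⁻¹]) (w * e⁻¹) (mul_ne_zero hw0 (inv_ne_zero he)) ?_ ?_
        · rw [Matrix.det_mul]
          simp only [Matrix.det_fin_two_of]
          have hPd : P.det = w * w * e⁻¹ := by rw [← hw]; field_simp
          rw [hPd]
          ring
        · rw [← Matrix.mul_assoc, hMP, Matrix.mul_assoc, companion_mul_diag _ _ he, companionTwSL_val,
            Matrix.mul_assoc]
    · refine ⟨Sum.inr (Sum.inl ⟨t, ht4⟩), ?_⟩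
      simp only [rep, ConjClasses.mk_eq_mk_iff_isConj]
      apply IsConj.symm
      apply isConj_companionSL g hg
      intro e' _
      exact universal_form hodd t ht4 e'

theorem card_index [Fintype F] (hodd : Odd (Fintype.card F)) :
    Nat.card (Bool ⊕ {t : F // t ^ 2 ≠ 4} ⊕ (Bool × Bool)) = Fintype.card F + 4 := by
  classical
  have h2 : (2 : F) ≠ 0 := two_ne_zero_of_odd hodd
  have hset : Fintype.card {t : F // t ^ 2 = 4} = 2 := by
    have : (Finset.univ.filter (fun t : F => t ^ 2 = 4)) = {2, -2} := by
      ext t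
      simp only [Finset.mem_filter, Finset.mem_univ, true_and, Finset.mem_insert, Finset.mem_singleton]
      constructor
      · intro h
        have : (t - 2) * (t + 2) = 0 := by linear_combination h
        rcases mul_eq_zero.1 this with h | h
        · left; linear_combination h
        · right; linear_combination h
      · rintro (rfl | rfl) <;> norm_num
    rw [Fintype.card_subtype, this, Finset.card_pair]
    intro h
    apply h2
    have : (2 : F) * 2 = 0 := by linear_combination h
    exact mul_self_eq_zero.1 this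
  have hcompl : Fintype.card {t : F // t ^ 2 ≠ 4} = Fintype.card F - 2 := by
    rw [Fintype.card_subtype_compl, hset]
  have hq : 3 ≤ Fintype.card F := by
    have := Fintype.one_lt_card (α := F)
    rcases hodd with ⟨k, hk⟩
    omega
  rw [Nat.card_eq_fintype_card]
  simp only [Fintype.card_sum, Fintype.card_bool, Fintype.card_prod, hcompl]
  omega

theorem result {F : Type*} [Field F] [Fintype F] (hodd : Odd (Fintype.card F)) :
    Nat.card (ConjClasses (Matrix.SpecialLinearGroup (Fin 2) F)) = Fintype.card F + 4 := by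
  have h2 : (2 : F) ≠ 0 := two_ne_zero_of_odd hodd
  have hchar : ringChar F ≠ 2 := by
    intro h
    have := FiniteField.even_card_of_char_two h
    rcases hodd with ⟨k, hk⟩
    omega
  obtain ⟨e, hns⟩ := FiniteField.exists_nonsquare hchar
  have he : e ≠ 0 := by rintro rfl; exact hns IsSquare.zero
  rw [← Nat.card_eq_of_bijective _ ⟨rep_injective hodd e he hns, rep_surjective hodd e he hns⟩]
  exact card_index hodd

end Cfsg.Agent.S2325
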