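import Cfsg.Statements.S2310
import Cfsg.Agent.Lib.Helper39_GL2Char

set_option autoImplicit false
open Cfsg

namespace Cfsg.Agent.S2310

open Cfsg.Agent.Lib.Helper39_GL2Char

theorem result {F : Type*} [Field F] [Fintype F] (hq : 3 ≤ Fintype.card F) (χ : Matrix.GeneralLinearGroup (Fin 2) F → ℂ) (hχ : Cfsg.IsIrrCharacter (Matrix.GeneralLinearGroup (Fin 2) F) χ)
    (u : Matrix.GeneralLinearGroup (Fin 2) F) (hu : (u : Matrix (Fin 2) (Fin 2) F) = !![1, 1; 0, 1]) :
    (χ 1 = 1 → χ u = 1) ∧ (χ 1 = (Fintype.card F : ℂ) + 1 → χ u = 1) ∧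
    (χ 1 = (Fintype.card F : ℂ) - 1 → χ u = -1) ∧ (χ 1 = (Fintype.card F : ℂ) → χ u = 0) := by
  classical
  have hu' : u = uMat (1 : F) := by
    apply Units.ext
    rw [hu, uMat_val]
  subst hu'
  obtain ⟨a, b, h1, h2⟩ := restrict_U χ
    (Cfsg.Agent.Lib.Helper3_CharBridge.isCharacter_of_isIrrCharacter hχ)
  obtain ⟨Q, hQ⟩ : ∃ Q : ℕ, Fintype.card F = Q + 1 := ⟨Fintype.card F - 1, by omega⟩
  have hQ2 : 2 ≤ Q := by omega
  have hQc : (Fintype.card F : ℂ) - 1 = (Q : ℂ) := by rw [hQ]; push_cast; ring
  rw [hQc] at h1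
  have h1' : χ 1 = ((a + Q * b : ℕ) : ℂ) := by rw [h1]; push_cast; ring
  -- if b = 0 the character is linear
  have hb0 : b = 0 → a + Q * b = 1 := by
    intro hb
    have h3 : χ (uMat (1 : F)) = χ 1 := by
      rw [h2, h1, hb]; simp
    have h4 := degree_one_of_trivial_on_u χ hχ h3
    rw [h1'] at h4
    exact_mod_cast h4
  have hnb := norm_bound χ hχ
  rw [h2] at *
  refine ⟨?_, ?_, ?_, ?_⟩
  · intro h
    rw [h1'] at h
    have h' : a + Q * b = 1 := by exact_mod_cast h
    have hb : b = 0 := by
      by_contra hb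
      have : 1 ≤ b := Nat.one_le_iff_ne_zero.2 hb
      nlinarith
    subst hb
    have ha : a = 1 := by omega
    subst ha
    simp
  · intro h
    have hc : (Fintype.card F : ℂ) + 1 = ((Q + 2 : ℕ) : ℂ) := by rw [hQ]; push_cast; ring
    rw [h1', hc] at h
    have h' : a + Q * b = Q + 2 := by exact_mod_cast h
    have hb : b = 1 ∨ (b = 2 ∧ Q = 2 ∧ a = 0) := by
      rcases Nat.lt_or_ge b 1 with hb | hb
      · have hb0' : b = 0 := by omega
        have := hb0 hb0'
        omega
      · rcases Nat.lt_or_ge b 2 with hb2 | hb2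
        · left; omega
        · right
          rcases Nat.lt_or_ge b 3 with hb3 | hb3
          · have : b = 2 := by omega
            subst this
            refine ⟨rfl, ?_, ?_⟩ <;> nlinarith
          · exfalso; nlinarith
    rcases hb with hb | ⟨hb, hQ2', ha⟩
    · subst hb
      have ha : a = 2 := by nlinarith
      subst ha
      norm_num
    · exfalso
      subst hb; subst ha; subst hQ2'
      have hq3 : (Fintype.card F : ℝ) = 3 := by rw [hQ]; norm_num
      rw [h1', hq3] at hnb
      norm_num at hnb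
  · intro h
    rw [h1', hQc] at h
    have h' : a + Q * b = Q := by exact_mod_cast h
    have hb : b = 1 := by
      rcases Nat.lt_or_ge b 1 with hb | hb
      · have hb0' : b = 0 := by omega
        have := hb0 hb0'
        omega
      · rcases Nat.lt_or_ge b 2 with hb2 | hb2
        · omega
        · exfalso; nlinarith
    subst hb
    have ha : a = 0 := by nlinarith
    subst ha
    norm_num
  · intro h
    have hc : (Fintype.card F : ℂ) = ((Q + 1 : ℕ) : ℂ) := by rw [hQ]
    rw [h1', hc] at h
    have h' : a + Q * b = Q + 1 := by exact_mod_cast h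
    have hb : b = 1 := by
      rcases Nat.lt_or_ge b 1 with hb | hb
      · have hb0' : b = 0 := by omega
        have := hb0 hb0'
        omega
      · rcases Nat.lt_or_ge b 2 with hb2 | hb2
        · omega
        · exfalso; nlinarith
    subst hb
    have ha : a = 1 := by nlinarith
    subst ha
    norm_num

end Cfsg.Agent.S2310
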