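import Cfsg.Statements.S2330
import Cfsg.Agent.Lib.Helper39_GL2

set_option autoImplicit false
open Cfsg

namespace Cfsg.Agent.S2330

open Matrix Cfsg.Agent.Lib.Helper39_GL2

variable {F : Type*} [Field F]

/-- Representatives of the conjugacy classes of `GL₂`. -/
noncomputable def rep : Fˣ ⊕ (F × Fˣ) → GL (Fin 2) F
  | Sum.inl a => Matrix.GeneralLinearGroup.mkOfDetNeZero ((a : F) • (1 : Matrix (Fin 2) (Fin 2) F))
      (by simp)
  | Sum.inr (t, d) => Matrix.GeneralLinearGroup.mkOfDetNeZero (companion t (d : F)) (by simp)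

theorem rep_inl_val (a : Fˣ) : ((rep (Sum.inl a) : GL (Fin 2) F) : Matrix (Fin 2) (Fin 2) F) =
    (a : F) • (1 : Matrix (Fin 2) (Fin 2) F) := rfl

theorem rep_inr_val (t : F) (d : Fˣ) : ((rep (Sum.inr (t, d)) : GL (Fin 2) F) : Matrix (Fin 2) (Fin 2) F) =
    companion t (d : F) := rfl

theorem rep_bijective : Function.Bijective (fun x : Fˣ ⊕ (F × Fˣ) => ConjClasses.mk (rep x)) := by
  constructor
  · intro x y hxy
    simp only [ConjClasses.mk_eq_mk_iff_isConj] at hxy
    rcases x with a | ⟨t, d⟩ <;> rcases y with b | ⟨t', d'⟩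
    · have h := eq_of_isConj_of_isScalar hxy ((isScalar_iff _).2 ⟨a, rep_inl_val a⟩)
      have h2 := congrArg (fun g : GL (Fin 2) F => (g : Matrix (Fin 2) (Fin 2) F) 0 0) h
      simp [rep_inl_val] at h2
      rw [Units.ext h2]
    · exfalso
      have h := eq_of_isConj_of_isScalar hxy ((isScalar_iff _).2 ⟨a, rep_inl_val a⟩)
      have h2 := congrArg (fun g : GL (Fin 2) F => (g : Matrix (Fin 2) (Fin 2) F) 1 0) h
      simp [rep_inl_val, rep_inr_val, companion] at h2
    · exfalso
      have h := eq_of_isConj_of_isScalar hxy.symm ((isScalar_iff _).2 ⟨b, rep_inl_val b⟩)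
      have h2 := congrArg (fun g : GL (Fin 2) F => (g : Matrix (Fin 2) (Fin 2) F) 1 0) h
      simp [rep_inl_val, rep_inr_val, companion] at h2
    · have h1 := trace_eq_of_isConj hxy
      have h2 := det_eq_of_isConj hxy
      simp only [rep_inr_val, companion_trace, companion_det] at h1 h2
      rw [h1, Units.ext h2]
  · intro c
    obtain ⟨g, rfl⟩ := ConjClasses.exists_rep c
    by_cases hg : IsScalar (g : Matrix (Fin 2) (Fin 2) F)
    · obtain ⟨a, ha⟩ := (isScalar_iff _).1 hg
      have ha0 : a ≠ 0 := by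
        rintro rfl
        have := g.det_ne_zero
        rw [ha] at this
        simp at this
      refine ⟨Sum.inl (Units.mk0 a ha0), ?_⟩
      simp only
      congr 1
      apply Units.ext
      rw [rep_inl_val, ha]
      simp
    · obtain ⟨P, hP, hMP⟩ := exists_conj_companion _ hg
      have hd : (g : Matrix (Fin 2) (Fin 2) F).det ≠ 0 := g.det_ne_zero
      refine ⟨Sum.inr ((g : Matrix (Fin 2) (Fin 2) F).trace, Units.mk0 _ hd), ?_⟩
      simp only [ConjClasses.mk_eq_mk_iff_isConj]
      apply IsConj.symm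
      apply isConj_of_mul_eq _ _ P hP
      rw [rep_inr_val]
      exact hMP

theorem result {F : Type*} [Field F] [Fintype F] :
    Nat.card (ConjClasses (Matrix.GeneralLinearGroup (Fin 2) F)) = Fintype.card F ^ 2 - 1 := by
  rw [← Nat.card_eq_of_bijective _ (rep_bijective (F := F))]
  rw [Nat.card_sum, Nat.card_prod, Nat.card_units, Nat.card_eq_fintype_card]
  have h1 : 1 ≤ Fintype.card F := Fintype.card_pos
  obtain ⟨n, hn⟩ : ∃ n, Fintype.card F = n + 1 := ⟨Fintype.card F - 1, by omega⟩
  rw [hn]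
  simp only [Nat.add_sub_cancel]
  have : (n + 1) ^ 2 = n + (n + 1) * n + 1 := by ring
  rw [this]
  simp

end Cfsg.Agent.S2330
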