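import Cfsg.Statements.S2430
import Cfsg.Agent.S2428
import Cfsg.Agent.Lib.Helper41_SL2Torus
import Cfsg.Agent.Lib.Helper41_SylowTorus
import Cfsg.Agent.Lib.Helper5_PSLCard

set_option autoImplicit false
open Cfsg

namespace Cfsg.Agent.S2430

open Cfsg.Agent.Lib.Helper41_SL2 Cfsg.Agent.Lib.Helper41_SL2Torus
  Cfsg.Agent.Lib.Helper41_SylowTorus

theorem val_aux (q ℓ : ℕ) (hq : 2 ≤ q) (hℓ : ℓ.Prime) (hℓ2 : ℓ ≠ 2) :
    (ℓ ∣ q - 1 → (q * (q ^ 2 - 1)).factorization ℓ = (q - 1).factorization ℓ) ∧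
    (ℓ ∣ q + 1 → (q * (q ^ 2 - 1)).factorization ℓ = (q + 1).factorization ℓ) := by
  have hfac : q ^ 2 - 1 = (q - 1) * (q + 1) := by
    obtain ⟨k, rfl⟩ : ∃ k, q = k + 1 := ⟨q - 1, by omega⟩
    have e : (k + 1) ^ 2 = (k + 1 - 1) * (k + 1 + 1) + 1 := by
      simp only [Nat.add_sub_cancel]
      ring
    rw [e, Nat.add_sub_cancel]
  have h0 : q ≠ 0 := by omega
  have h1 : q - 1 ≠ 0 := by omega
  have h2 : q + 1 ≠ 0 := by omega
  have hnot2 : ¬ ℓ ∣ 2 := by
    intro h
    have := (Nat.prime_dvd_prime_iff_eq hℓ Nat.prime_two).1 h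
    exact hℓ2 this
  rw [hfac, Nat.factorization_mul h0 (Nat.mul_ne_zero h1 h2), Nat.factorization_mul h1 h2]
  simp only [Finsupp.coe_add, Pi.add_apply]
  constructor
  · intro h
    have hq0 : ¬ ℓ ∣ q := by
      intro h'
      have := Nat.dvd_sub h' h
      rw [show q - (q - 1) = 1 by omega] at this
      exact hℓ.one_lt.ne' (Nat.dvd_one.1 this)
    have hq1 : ¬ ℓ ∣ q + 1 := by
      intro h'
      have := Nat.dvd_sub h' h
      rw [show q + 1 - (q - 1) = 2 by omega] at this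
      exact hnot2 this
    rw [Nat.factorization_eq_zero_of_not_dvd hq0, Nat.factorization_eq_zero_of_not_dvd hq1]
    omega
  · intro h
    have hq0 : ¬ ℓ ∣ q := by
      intro h'
      have := Nat.dvd_sub h h'
      rw [show q + 1 - q = 1 by omega] at this
      exact hℓ.one_lt.ne' (Nat.dvd_one.1 this)
    have hq1 : ¬ ℓ ∣ q - 1 := by
      intro h'
      have := Nat.dvd_sub h h'
      rw [show q + 1 - (q - 1) = 2 by omega] at this
      exact hnot2 this
    rw [Nat.factorization_eq_zero_of_not_dvd hq0, Nat.factorization_eq_zero_of_not_dvd hq1]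
    omega

variable {F : Type*} [Field F]

abbrev SL2 (F : Type*) [Field F] := Matrix.SpecialLinearGroup (Fin 2) F

/-- An element of odd prime order does not square to one. -/
theorem mul_self_ne_one {G : Type*} [Group G] (g : G) (ℓ : ℕ) (hℓ : ℓ.Prime) (hℓ2 : ℓ ≠ 2)
    (hg : orderOf g = ℓ) : g * g ≠ 1 := by
  intro h
  have h1 : orderOf g ∣ 2 := orderOf_dvd_of_pow_eq_one (by rw [pow_two, h])
  rw [hg] at h1
  exact hℓ2 ((Nat.prime_dvd_prime_iff_eq hℓ Nat.prime_two).1 h1)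

theorem diagSub_comm (x y : SL2 F) (hx : x ∈ S2428.diagSub F) (hy : y ∈ S2428.diagSub F) :
    x * y = y * x := by
  obtain ⟨ha1, ha2⟩ := hx
  obtain ⟨hb1, hb2⟩ := hy
  apply S2428.ext2 <;> simp only [S2428.mul_entry, ha1, ha2, hb1, hb2] <;> ring

theorem isCyclic_diagSub [Finite F] : IsCyclic (S2428.diagSub F) := by
  let f : S2428.diagSub F →* F :=
    { toFun := fun g => ((g : SL2 F) : Matrix (Fin 2) (Fin 2) F) 0 0
      map_one' := by simp
      map_mul' := by
        rintro ⟨g, hg1, hg2⟩ ⟨h, hh1, hh2⟩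
        simp only [Subgroup.coe_mul]
        rw [S2428.mul_entry, hg1, zero_mul, add_zero] }
  apply isCyclic_of_injective_ringHom f
  rintro ⟨g, hg1, hg2⟩ ⟨h, hh1, hh2⟩ hgh
  have h00 : (g : Matrix (Fin 2) (Fin 2) F) 0 0 = (h : Matrix (Fin 2) (Fin 2) F) 0 0 := hgh
  apply Subtype.ext
  simp only
  have dg := S2428.det_eq g
  have dh := S2428.det_eq h
  rw [hg1, zero_mul, sub_zero] at dg
  rw [hh1, zero_mul, sub_zero] at dh
  have hg0 : (g : Matrix (Fin 2) (Fin 2) F) 0 0 ≠ 0 := by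
    intro h0; rw [h0, zero_mul] at dg; exact zero_ne_one dg
  apply S2428.ext2 _ _ h00 (by rw [hg1, hh1]) (by rw [hg2, hh2])
  apply mul_left_cancel₀ hg0
  rw [dg, h00, dh]

/-- A diagonal element of odd prime order has `a² ≠ 1`. -/
theorem sq_ne_one_of_orderOf (g : SL2 F) (hg : g ∈ S2428.diagSub F) (ℓ : ℕ) (hℓ : ℓ.Prime)
    (hℓ2 : ℓ ≠ 2) (hord : orderOf g = ℓ) : (g : Matrix (Fin 2) (Fin 2) F) 0 0 ^ 2 ≠ 1 := by
  intro h
  apply mul_self_ne_one g ℓ hℓ hℓ2 hord
  obtain ⟨h01, h10⟩ := hg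
  have dg := S2428.det_eq g
  rw [h01, zero_mul, sub_zero] at dg
  have h11 : (g : Matrix (Fin 2) (Fin 2) F) 1 1 = (g : Matrix (Fin 2) (Fin 2) F) 0 0 := by
    have hg0 : (g : Matrix (Fin 2) (Fin 2) F) 0 0 ≠ 0 := by
      intro h0; rw [h0, zero_mul] at dg; exact zero_ne_one dg
    apply mul_left_cancel₀ hg0
    rw [dg, ← sq, h]
  apply S2428.ext2 <;> simp only [S2428.mul_entry, h01, h10, h11] <;> simp
  · rw [← sq, h]
  · rw [← sq, h]

theorem result {F : Type*} [Field F] [Fintype F] (hodd : Odd (Fintype.card F)) (ℓ : ℕ) [Fact ℓ.Prime] (hℓ : ℓ ≠ 2)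
    (P : Sylow ℓ (Matrix.SpecialLinearGroup (Fin 2) F)) :
    (ℓ ∣ Fintype.card F - 1 →
      Nat.card (Subgroup.centralizer ((P : Subgroup (Matrix.SpecialLinearGroup (Fin 2) F)) : Set (Matrix.SpecialLinearGroup (Fin 2) F))) = Fintype.card F - 1 ∧
      IsCyclic (Subgroup.centralizer ((P : Subgroup (Matrix.SpecialLinearGroup (Fin 2) F)) : Set (Matrix.SpecialLinearGroup (Fin 2) F))) ∧
      Nat.card (Subgroup.normalizer ((P : Subgroup (Matrix.SpecialLinearGroup (Fin 2) F)) : Set (Matrix.SpecialLinearGroup (Fin 2) F))) = 2 * (Fintype.card F - 1)) ∧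
    (ℓ ∣ Fintype.card F + 1 →
      Nat.card (Subgroup.centralizer ((P : Subgroup (Matrix.SpecialLinearGroup (Fin 2) F)) : Set (Matrix.SpecialLinearGroup (Fin 2) F))) = Fintype.card F + 1 ∧
      IsCyclic (Subgroup.centralizer ((P : Subgroup (Matrix.SpecialLinearGroup (Fin 2) F)) : Set (Matrix.SpecialLinearGroup (Fin 2) F))) ∧
      Nat.card (Subgroup.normalizer ((P : Subgroup (Matrix.SpecialLinearGroup (Fin 2) F)) : Set (Matrix.SpecialLinearGroup (Fin 2) F))) = 2 * (Fintype.card F + 1)) := by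
  have hℓp : ℓ.Prime := Fact.out
  have hq : 2 ≤ Fintype.card F := Fintype.one_lt_card
  have hcardG := Cfsg.Agent.Lib.Helper5_PSLCard.card_SL_two (F := F)
  obtain ⟨hv1, hv2⟩ := val_aux (Fintype.card F) ℓ hq hℓp hℓ
  constructor
  · intro hdvd
    have hcT : Nat.card (S2428.diagSub F) = Fintype.card F - 1 := S2428.card_diagSub
    -- an element of order ℓ in the diagonal torus
    obtain ⟨d, hd⟩ := exists_prime_orderOf_dvd_card' (G := S2428.diagSub F) ℓ (by rw [hcT]; exact hdvd)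
    have hdord : orderOf (d : SL2 F) = ℓ := by rw [Subgroup.orderOf_coe]; exact hd
    have hda := sq_ne_one_of_orderOf (d : SL2 F) d.2 ℓ hℓp hℓ hdord
    have hNT : Nat.card (Subgroup.normalizer ((S2428.diagSub F : Subgroup (SL2 F)) : Set (SL2 F))) =
        2 * (Fintype.card F - 1) := by
      have := (S2428.result hodd (d : SL2 F) d.2.1 d.2.2 hda).2.1
      rw [S2428.centralizer_eq (d : SL2 F) d.2.1 d.2.2 hda] at this
      exact this
    obtain ⟨x, hx1, hx2⟩ := sylow_centralizer_normalizer (S2428.diagSub F) ℓ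
      (fun a ha b hb => diagSub_comm a b ha hb)
      (by rw [hcardG, hcT]; exact hv1 hdvd) (by rw [hcT]; exact hdvd)
      (fun g hg hgord => S2428.centralizer_eq g hg.1 hg.2
        (sq_ne_one_of_orderOf g hg ℓ hℓp hℓ hgord)) P
    rw [hx1, hx2, card_map_conj, card_map_conj, hcT, hNT]
    have := isCyclic_diagSub (F := F)
    exact ⟨rfl, isCyclic_map_conj x _, rfl⟩
  · intro hdvd
    obtain ⟨a, ha⟩ := exists_no_root (F := F)
    have : Fact (∀ r : F, r ^ 2 ≠ a + 1 * r) := ⟨ha⟩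
    have hcT : Nat.card (nsTorus a 1) = Fintype.card F + 1 := card_nsTorus a 1
    have hNT := (normalizer_nsTorus_odd a 1 hodd).1
    obtain ⟨x, hx1, hx2⟩ := sylow_centralizer_normalizer (nsTorus a 1) ℓ
      (fun x hx y hy => nsTorus_comm a 1 x y hx hy)
      (by rw [hcardG, hcT]; exact hv2 hdvd) (by rw [hcT]; exact hdvd)
      (fun g hg hgord => by
        apply centralizer_eq a 1 g hg
        · intro h1
          have : g = 1 := Subtype.ext (by rw [h1, Matrix.SpecialLinearGroup.coe_one])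
          rw [this, orderOf_one] at hgord
          exact hℓp.one_lt.ne hgord
        · intro h1
          apply mul_self_ne_one g ℓ hℓp hℓ hgord
          apply Subtype.ext
          rw [Matrix.SpecialLinearGroup.coe_mul, h1, Matrix.SpecialLinearGroup.coe_one]
          simp) P
    rw [hx1, hx2, card_map_conj, card_map_conj, hcT, hNT]
    have := isCyclic_nsTorus a 1
    exact ⟨rfl, isCyclic_map_conj x _, rfl⟩

end Cfsg.Agent.S2430
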