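import Cfsg.Statements.S2431
import Cfsg.Agent.S0261
import Cfsg.Agent.S4065
import Cfsg.Agent.S5112

set_option autoImplicit false
set_option linter.unusedSectionVars false
open Cfsg

namespace Cfsg.Agent.S2431

open Cfsg.Agent.Lib.Helper41_SL2 Cfsg.Agent.Lib.Helper41_SL2Order4

theorem fact2_eq (n j : ℕ) (hn : n ≠ 0) (h1 : 2 ^ j ∣ n) (h2 : ¬ 2 ^ (j + 1) ∣ n) :
    n.factorization 2 = j := by
  have a := (Nat.prime_two.pow_dvd_iff_le_factorization hn).1 h1
  have b : ¬ (j + 1 ≤ n.factorization 2) := fun h =>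
    h2 ((Nat.prime_two.pow_dvd_iff_le_factorization hn).2 h)
  omega

theorem val2_mod8 (q : ℕ) (hq3 : 3 ≤ q) :
    ((q % 8 = 1 ∨ q % 8 = 7) → 4 ≤ (q - 1).factorization 2 + (q + 1).factorization 2) ∧
    ((q % 8 = 3 ∨ q % 8 = 5) → (q - 1).factorization 2 + (q + 1).factorization 2 = 3) := by
  have hn1 : q - 1 ≠ 0 := by omega
  have hn2 : q + 1 ≠ 0 := by omega
  constructor
  · rintro (h | h)
    · have a := (Nat.prime_two.pow_dvd_iff_le_factorization hn1).1 (show 2 ^ 3 ∣ q - 1 by norm_num; omega)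
      have b := (Nat.prime_two.pow_dvd_iff_le_factorization hn2).1 (show 2 ^ 1 ∣ q + 1 by norm_num; omega)
      omega
    · have a := (Nat.prime_two.pow_dvd_iff_le_factorization hn1).1 (show 2 ^ 1 ∣ q - 1 by norm_num; omega)
      have b := (Nat.prime_two.pow_dvd_iff_le_factorization hn2).1 (show 2 ^ 3 ∣ q + 1 by norm_num; omega)
      omega
  · rintro (h | h)
    · rw [fact2_eq (q - 1) 1 hn1 (by norm_num; omega) (by norm_num; omega),
        fact2_eq (q + 1) 2 hn2 (by norm_num; omega) (by norm_num; omega)]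
    · rw [fact2_eq (q - 1) 2 hn1 (by norm_num; omega) (by norm_num; omega),
        fact2_eq (q + 1) 1 hn2 (by norm_num; omega) (by norm_num; omega)]

variable {F : Type*} [Field F]

abbrev SL2 (F : Type*) [Field F] := Matrix.SpecialLinearGroup (Fin 2) F

/-- An element of `SL₂` commuting with two non-commuting elements is central. -/
theorem mem_center_of_commute (c g h : SL2 F) (hg : g * c = c * g) (hh : h * c = c * h)
    (hgh : g * h ≠ h * g) : c ∈ Subgroup.center (SL2 F) := by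
  by_cases hx : ((c : Matrix (Fin 2) (Fin 2) F) 0 1 = 0 ∧ (c : Matrix (Fin 2) (Fin 2) F) 1 0 = 0 ∧
      (c : Matrix (Fin 2) (Fin 2) F) 0 0 - (c : Matrix (Fin 2) (Fin 2) F) 1 1 = 0)
  · obtain ⟨h01, h10, h00⟩ := hx
    apply mem_center_of_scalar c ((c : Matrix (Fin 2) (Fin 2) F) 0 0)
    ext i j
    fin_cases i <;> fin_cases j <;> simp [h01, h10, (sub_eq_zero.1 h00).symm]
  · exfalso
    apply hgh
    have hg' := congrArg (fun y : SL2 F => (y : Matrix (Fin 2) (Fin 2) F)) hg
    have hh' := congrArg (fun y : SL2 F => (y : Matrix (Fin 2) (Fin 2) F)) hh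
    simp only [Matrix.SpecialLinearGroup.coe_mul] at hg' hh'
    have := Cfsg.Agent.S4065.comm_of_comm_nonscalar (c : Matrix (Fin 2) (Fin 2) F) g h hx hg' hh'
    apply Subtype.ext
    simpa only [Matrix.SpecialLinearGroup.coe_mul] using this

/-- Two non-commuting elements in a Sylow 2-subgroup. -/
theorem exists_not_commute [Fintype F] (hodd : Odd (Fintype.card F)) (S : Sylow 2 (SL2 F)) :
    ∃ g ∈ (S : Subgroup (SL2 F)), ∃ h ∈ (S : Subgroup (SL2 F)), g * h ≠ h * g := by
  obtain ⟨k, hk, ⟨e⟩⟩ := S0261.result hodd S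
  refine ⟨(e.symm (QuaternionGroup.a 1) : S), (e.symm (QuaternionGroup.a 1)).2,
    (e.symm (QuaternionGroup.xa 0) : S), (e.symm (QuaternionGroup.xa 0)).2, ?_⟩
  intro h
  have h1 : e.symm (QuaternionGroup.a 1) * e.symm (QuaternionGroup.xa 0) =
      e.symm (QuaternionGroup.xa 0) * e.symm (QuaternionGroup.a 1) := Subtype.ext h
  rw [← map_mul, ← map_mul, e.symm.injective.eq_iff, QuaternionGroup.a_mul_xa,
    QuaternionGroup.xa_mul_a] at h1
  have h2 : (0 - 1 : ZMod (2 * 2 ^ k)) = 0 + 1 := by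
    injection h1
  have h3 : ((2 : ℕ) : ZMod (2 * 2 ^ k)) = 0 := by
    push_cast
    linear_combination -h2
  rw [ZMod.natCast_eq_zero_iff] at h3
  have h4 : 2 * 2 ^ k ≤ 2 := Nat.le_of_dvd (by norm_num) h3
  have h5 : 2 ^ 1 ≤ 2 ^ k := Nat.pow_le_pow_right (by norm_num) hk
  omega

theorem centralizer_eq_center [Fintype F] (hodd : Odd (Fintype.card F)) (S : Sylow 2 (SL2 F)) :
    Subgroup.centralizer ((S : Subgroup (SL2 F)) : Set (SL2 F)) = Subgroup.center (SL2 F) := by
  apply le_antisymm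
  · intro c hc
    obtain ⟨g, hg, h, hh, hgh⟩ := exists_not_commute hodd S
    rw [Subgroup.mem_centralizer_iff] at hc
    exact mem_center_of_commute c g h (hc g hg) (hc h hh) hgh
  · exact Subgroup.center_le_centralizer _

section sylowgen

variable {G : Type*} [Group G]

/-- A `p`-element normalizing a Sylow `p`-subgroup lies in it. -/
theorem mem_sylow_of_mem_normalizer {p : ℕ} [Fact p.Prime] (S : Sylow p G) (x : G)
    (hx : x ∈ Subgroup.normalizer ((S : Subgroup G) : Set G)) (j : ℕ) (hxp : x ^ (p ^ j) = 1) :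
    x ∈ (S : Subgroup G) := by
  have hZ : IsPGroup p (Subgroup.zpowers x) := by
    rintro ⟨y, hy⟩
    obtain ⟨i, rfl⟩ := Subgroup.mem_zpowers_iff.1 hy
    refine ⟨j, ?_⟩
    apply Subtype.ext
    simp only [Subgroup.coe_pow, Subgroup.coe_one]
    rw [← zpow_natCast, ← zpow_mul, mul_comm, zpow_mul, zpow_natCast, hxp, one_zpow]
  have hle : Subgroup.zpowers x ≤ Subgroup.normalizer ((S : Subgroup G) : Set G) := by
    rw [Subgroup.zpowers_le]; exact hx
  have hsup := IsPGroup.to_sup_of_normal_right' hZ S.isPGroup' hle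
  have := S.is_maximal' hsup le_sup_right
  have h1 : x ∈ Subgroup.zpowers x ⊔ (S : Subgroup G) :=
    (le_sup_left : Subgroup.zpowers x ≤ _) (Subgroup.mem_zpowers x)
  rw [this] at h1
  exact h1

end sylowgen

/-- If `Aut(S)` is a `2`-group then `N(S) = S` for a Sylow `2`-subgroup `S` of `SL₂(q)`. -/
theorem normalizer_eq_of_isPGroup_mulAut [Fintype F] (hodd : Odd (Fintype.card F))
    (S : Sylow 2 (SL2 F)) (hAut : IsPGroup 2 (MulAut (S : Subgroup (SL2 F)))) :
    Subgroup.normalizer ((S : Subgroup (SL2 F)) : Set (SL2 F)) = (S : Subgroup (SL2 F)) := by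
  apply le_antisymm
  · intro x hx
    obtain ⟨j, hj⟩ := hAut ((S : Subgroup (SL2 F)).normalizerMonoidHom ⟨x, hx⟩)
    rw [← map_pow, ← MonoidHom.mem_ker, Subgroup.normalizerMonoidHom_ker,
      Subgroup.mem_subgroupOf] at hj
    simp only [Subgroup.coe_pow] at hj
    rw [centralizer_eq_center hodd S] at hj
    obtain ⟨c, hc2, hc⟩ := scalar_of_mem_center _ hj
    apply mem_sylow_of_mem_normalizer S x hx (j + 1)
    rw [pow_succ, pow_mul, pow_two]
    apply Subtype.ext
    rw [Matrix.SpecialLinearGroup.coe_mul, hc, Matrix.smul_mul, Matrix.mul_smul, Matrix.mul_one,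
      smul_smul, ← sq, hc2, one_smul, Matrix.SpecialLinearGroup.coe_one]
  · exact Subgroup.le_normalizer

theorem card_sylow [Fintype F] (hodd : Odd (Fintype.card F)) (S : Sylow 2 (SL2 F)) :
    Nat.card S = 2 ^ ((Fintype.card F - 1).factorization 2 +
      (Fintype.card F + 1).factorization 2) := by
  have hq3 : 3 ≤ Fintype.card F := by
    have hq : 2 ≤ Fintype.card F := Fintype.one_lt_card
    rcases hodd with ⟨k, hk⟩; omega
  rw [Sylow.card_eq_multiplicity, Cfsg.Agent.Lib.Helper5_PSLCard.card_SL_two,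
    (S0261.val2_aux _ hodd hq3).1]

theorem normalizer_eq_self [Fintype F] (hodd : Odd (Fintype.card F)) (S : Sylow 2 (SL2 F))
    (hq : Fintype.card F % 8 = 1 ∨ Fintype.card F % 8 = 7) :
    Subgroup.normalizer ((S : Subgroup (SL2 F)) : Set (SL2 F)) = (S : Subgroup (SL2 F)) := by
  have hq3 : 3 ≤ Fintype.card F := by
    have hq : 2 ≤ Fintype.card F := Fintype.one_lt_card
    rcases hodd with ⟨k, hk⟩; omega
  obtain ⟨k, hk, ⟨e⟩⟩ := S0261.result hodd S
  have hv := (val2_mod8 _ hq3).1 hq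
  have hcard := card_sylow hodd S
  have : NeZero (2 ^ k) := ⟨by positivity⟩
  rw [Nat.card_congr e.toEquiv, Nat.card_eq_fintype_card, QuaternionGroup.card] at hcard
  have hk2 : 2 ≤ k := by
    have h1 : 4 * 2 ^ k = 2 ^ (k + 2) := by rw [pow_add]; ring
    rw [h1] at hcard
    have := Nat.pow_right_injective (le_refl 2) hcard
    omega
  apply normalizer_eq_of_isPGroup_mulAut hodd S
  exact Cfsg.Agent.S5112.isPGroup_mulAut_quaternion (k + 2) (by omega) e

section q8facts

open QuaternionGroup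

theorem d1 : (a 1 : QuaternionGroup 2) * a 1 ≠ 1 := by decide
theorem d2 : ((a 1 : QuaternionGroup 2) * a 1) * (a 1 * a 1) = 1 := by decide
theorem d3 : (xa 0 : QuaternionGroup 2) * xa 0 = a 1 * a 1 := by decide
theorem d4 : (a 1 : QuaternionGroup 2) * xa 0 * a 1 = xa 0 := by decide
theorem d4' : (xa 0 : QuaternionGroup 2) * a 1 = (a 1)⁻¹ * xa 0 := by decide
theorem d5 : ∀ g : QuaternionGroup 2, ∃ i : Fin 4, ∃ j : Fin 2,
    g = a 1 ^ (i : ℕ) * xa 0 ^ (j : ℕ) := by decide
theorem d6 : ∀ g : QuaternionGroup 2, g * a 1 ≠ xa 0 * g := by decide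
theorem d7 : ∀ g : QuaternionGroup 2, g ^ 4 = 1 := by decide
theorem d8 : Fintype.card {g : QuaternionGroup 2 // g * g ≠ 1} = 6 := by decide
theorem d9 : Fintype.card {g : QuaternionGroup 2 // g * a 1 = a 1 * g} = 4 := by decide
theorem d10 : (a 1 : QuaternionGroup 2) * xa 0 ≠ xa 0 * a 1 := by decide

end q8facts

theorem quat_unit (I J : Matrix (Fin 2) (Fin 2) F) (c : F) (hc : c + c = 1)
    (hI : I * I = -1) (hJ : J * J = -1) (hJI : J * I = -(I * J)) :
    (c • (1 + I + J + I * J)) * I = J * (c • (1 + I + J + I * J)) ∧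
    (c • (1 + I + J + I * J)) * J = (I * J) * (c • (1 + I + J + I * J)) ∧
    (c • (1 + I + J + I * J)) * (c • (1 + I + J + I * J)) = c • (1 + I + J + I * J) - 1 ∧
    I * J * (I * J) = -1 := by
  have e1 : I * J * I = J := by
    rw [mul_assoc, hJI, mul_neg, ← mul_assoc, hI, neg_mul, one_mul, neg_neg]
  have e2 : J * (I * J) = I := by
    rw [← mul_assoc, hJI, neg_mul, mul_assoc, hJ, mul_neg, mul_one, neg_neg]
  have e3 : I * J * (I * J) = -1 := by rw [mul_assoc, e2, hI]
  have e4 : I * (I * J) = -J := by rw [← mul_assoc, hI, neg_mul, one_mul]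
  have e5 : I * J * J = -I := by rw [mul_assoc, hJ, mul_neg, mul_one]
  refine ⟨?_, ?_, ?_, e3⟩
  · rw [smul_mul_assoc, mul_smul_comm]
    congr 1
    simp only [add_mul, mul_add, one_mul, mul_one, hI, hJ, hJI, e1, e2]
    abel
  · rw [smul_mul_assoc, mul_smul_comm]
    congr 1
    simp only [add_mul, mul_add, one_mul, mul_one, hJ, e1, e3, e5]
    abel
  · rw [smul_mul_assoc, mul_smul_comm]
    simp only [add_mul, mul_add, one_mul, mul_one, hI, hJ, hJI, e1, e2, e3, e4, e5]
    have h2 : (1 + I + J + I * J + (I + -1 + -(I * J) + J) + (J + I * J + -1 + -I) +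
        (I * J + -J + I + -1)) = (2 : F) • (-1 + I + J + I * J) := by
      rw [two_smul]; abel
    rw [h2, smul_smul, smul_smul]
    have h3 : c * c * 2 = c := by linear_combination c * hc
    rw [h3]
    have h4 : c • (1 + I + J + I * J) - 1 =
        c • (-1 + I + J + I * J) + ((c + c) • (1 : Matrix (Fin 2) (Fin 2) F) - 1) := by
      rw [add_smul]; simp only [smul_add, smul_neg]; abel
    rw [h4, hc, one_smul, sub_self, add_zero]

theorem det_eq_one_of (U : Matrix (Fin 2) (Fin 2) F) (hUU : U * U = U - 1)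
    (htr : Matrix.trace U = 1) : U.det = 1 := by
  rw [Matrix.det_fin_two]
  have h00 := congrFun (congrFun hUU 0) 0
  simp only [Matrix.mul_apply, Fin.sum_univ_two, Matrix.sub_apply, Matrix.one_apply_eq] at h00
  rw [Matrix.trace_fin_two] at htr
  linear_combination U 0 0 * htr - h00

section q8

open QuaternionGroup

variable [Fintype F] (S : Sylow 2 (SL2 F)) (e : (S : Subgroup (SL2 F)) ≃* QuaternionGroup 2)

/-- the element `i` of the quaternion Sylow subgroup -/
noncomputable def Ii : SL2 F := ((e.symm (a 1) : (S : Subgroup (SL2 F))) : SL2 F)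

/-- the element `j` of the quaternion Sylow subgroup -/
noncomputable def Jj : SL2 F := ((e.symm (xa 0) : (S : Subgroup (SL2 F))) : SL2 F)

theorem Ii_mem : Ii S e ∈ (S : Subgroup (SL2 F)) := (e.symm (a 1)).2

theorem Jj_mem : Jj S e ∈ (S : Subgroup (SL2 F)) := (e.symm (xa 0)).2

/-- transfer of an equation from `Q₈` -/
theorem coe_symm_mul (g h : QuaternionGroup 2) :
    ((e.symm (g * h) : (S : Subgroup (SL2 F))) : SL2 F) =
      ((e.symm g : (S : Subgroup (SL2 F))) : SL2 F) * ((e.symm h : (S : Subgroup (SL2 F))) : SL2 F) := by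
  rw [map_mul]; rfl

theorem coe_symm_injective (g h : QuaternionGroup 2)
    (hgh : ((e.symm g : (S : Subgroup (SL2 F))) : SL2 F) = ((e.symm h : (S : Subgroup (SL2 F))) : SL2 F)) :
    g = h := e.symm.injective (Subtype.ext hgh)

theorem Ii_mul_Jj_ne : Ii S e * Jj S e ≠ Jj S e * Ii S e := by
  intro h
  unfold Ii Jj at h
  rw [← coe_symm_mul, ← coe_symm_mul] at h
  exact d10 (coe_symm_injective S e _ _ h)

theorem Ii_Jj_Ii : Ii S e * Jj S e * Ii S e = Jj S e := by
  unfold Ii Jj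
  rw [← coe_symm_mul, ← coe_symm_mul, d4]

theorem Jj_semiconj : SemiconjBy (Jj S e) (Ii S e) (Ii S e)⁻¹ := by
  unfold SemiconjBy
  have h := Ii_Jj_Ii S e
  rw [eq_inv_mul_iff_mul_eq, ← mul_assoc]
  exact h

variable (hodd : Odd (Fintype.card F))

include hodd in
theorem Ii_sq : (Ii S e : Matrix (Fin 2) (Fin 2) F) * (Ii S e : Matrix (Fin 2) (Fin 2) F) = -1 := by
  have h2 := S0261.two_ne_zero_of_odd hodd
  have h1 : Ii S e * Ii S e ≠ 1 := by
    intro h
    unfold Ii at h
    rw [← coe_symm_mul] at h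
    have : ((e.symm 1 : (S : Subgroup (SL2 F))) : SL2 F) = 1 := by rw [map_one]; rfl
    rw [← this] at h
    exact d1 (coe_symm_injective S e _ _ h)
  have h4 : (Ii S e * Ii S e) * (Ii S e * Ii S e) = 1 := by
    unfold Ii
    rw [← coe_symm_mul, ← coe_symm_mul, d2, map_one]; rfl
  rcases coe_eq_one_or_neg_one_of_mul_self h2 _ h4 with h | h
  · exfalso; apply h1; apply Subtype.ext; rw [h, Matrix.SpecialLinearGroup.coe_one]
  · rw [← Matrix.SpecialLinearGroup.coe_mul]; exact h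

include hodd in
theorem Jj_sq : (Jj S e : Matrix (Fin 2) (Fin 2) F) * (Jj S e : Matrix (Fin 2) (Fin 2) F) = -1 := by
  have h : Jj S e * Jj S e = Ii S e * Ii S e := by
    unfold Ii Jj
    rw [← coe_symm_mul, ← coe_symm_mul, d3]
  rw [← Matrix.SpecialLinearGroup.coe_mul, h, Matrix.SpecialLinearGroup.coe_mul, Ii_sq S e hodd]

include hodd in
theorem Jj_Ii : (Jj S e : Matrix (Fin 2) (Fin 2) F) * (Ii S e : Matrix (Fin 2) (Fin 2) F) =
    -((Ii S e : Matrix (Fin 2) (Fin 2) F) * (Jj S e : Matrix (Fin 2) (Fin 2) F)) := by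
  have h := congrArg (fun y : SL2 F => (y : Matrix (Fin 2) (Fin 2) F)) (Ii_Jj_Ii S e)
  simp only [Matrix.SpecialLinearGroup.coe_mul] at h
  have h1 : (Ii S e : Matrix (Fin 2) (Fin 2) F) * ((Ii S e : Matrix (Fin 2) (Fin 2) F) *
      (Jj S e : Matrix (Fin 2) (Fin 2) F) * (Ii S e : Matrix (Fin 2) (Fin 2) F)) =
      (Ii S e : Matrix (Fin 2) (Fin 2) F) * (Jj S e : Matrix (Fin 2) (Fin 2) F) := by rw [h]
  rw [← Matrix.mul_assoc, ← Matrix.mul_assoc, Ii_sq S e hodd, neg_mul, one_mul, neg_mul] at h1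
  rw [← h1, neg_neg]

end q8

section q8b

open QuaternionGroup

variable [Fintype F] (S : Sylow 2 (SL2 F)) (e : (S : Subgroup (SL2 F)) ≃* QuaternionGroup 2)
  (hodd : Odd (Fintype.card F))

/-- every element of `S` is `i^a j^b` -/
theorem exists_eq_pow_mul (h : SL2 F) (hh : h ∈ (S : Subgroup (SL2 F))) :
    ∃ i j : ℕ, h = Ii S e ^ i * Jj S e ^ j := by
  obtain ⟨i, j, hg⟩ := d5 (e ⟨h, hh⟩)
  refine ⟨i, j, ?_⟩
  have h1 : (⟨h, hh⟩ : (S : Subgroup (SL2 F))) = e.symm (a 1 ^ (i : ℕ) * xa 0 ^ (j : ℕ)) := by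
    rw [← hg, e.symm_apply_apply]
  have h2 := congrArg (fun y : (S : Subgroup (SL2 F)) => (y : SL2 F)) h1
  simp only [map_mul, map_pow, Subgroup.coe_mul, Subgroup.coe_pow] at h2
  exact h2

include hodd e in
/-- the extra element of order `6` normalizing `S` -/
theorem exists_normalizer_not_mem :
    ∃ x : SL2 F, x ∈ Subgroup.normalizer ((S : Subgroup (SL2 F)) : Set (SL2 F)) ∧
      x ∉ (S : Subgroup (SL2 F)) := by
  have h2 := S0261.two_ne_zero_of_odd hodd
  have hc : (2⁻¹ : F) + 2⁻¹ = 1 := by field_simp; norm_num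
  obtain ⟨hUI, hUJ, hUU, hKK⟩ := quat_unit (Ii S e : Matrix (Fin 2) (Fin 2) F)
    (Jj S e : Matrix (Fin 2) (Fin 2) F) 2⁻¹ hc (Ii_sq S e hodd) (Jj_sq S e hodd) (Jj_Ii S e hodd)
  set U : Matrix (Fin 2) (Fin 2) F := (2⁻¹ : F) • (1 + (Ii S e : Matrix (Fin 2) (Fin 2) F) +
    (Jj S e : Matrix (Fin 2) (Fin 2) F) +
    (Ii S e : Matrix (Fin 2) (Fin 2) F) * (Jj S e : Matrix (Fin 2) (Fin 2) F)) with hU
  have htrI := trace_eq_zero_of_mul_self (Ii S e) (Ii_sq S e hodd)
  have htrJ := trace_eq_zero_of_mul_self (Jj S e) (Jj_sq S e hodd)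
  have htrK := trace_eq_zero_of_mul_self (Ii S e * Jj S e)
    (by rw [Matrix.SpecialLinearGroup.coe_mul]; exact hKK)
  rw [Matrix.SpecialLinearGroup.coe_mul] at htrK
  have htr : Matrix.trace U = 1 := by
    rw [hU, Matrix.trace_smul, Matrix.trace_add, Matrix.trace_add, Matrix.trace_add, htrI, htrJ,
      htrK, Matrix.trace_one, Fintype.card_fin]
    simp
    field_simp
  have hdet : U.det = 1 := det_eq_one_of U hUU htr
  set x : SL2 F := ⟨U, hdet⟩ with hx
  have hxI : x * Ii S e = Jj S e * x := Subtype.ext hUI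
  have hxJ : x * Jj S e = (Ii S e * Jj S e) * x := by
    apply Subtype.ext
    rw [Matrix.SpecialLinearGroup.coe_mul, Matrix.SpecialLinearGroup.coe_mul,
      Matrix.SpecialLinearGroup.coe_mul]
    exact hUJ
  have hxI' : x * Ii S e * x⁻¹ = Jj S e := by rw [hxI, mul_inv_cancel_right]
  have hxJ' : x * Jj S e * x⁻¹ = Ii S e * Jj S e := by rw [hxJ, mul_inv_cancel_right]
  refine ⟨x, ?_, ?_⟩
  · apply Subgroup.mem_normalizer_fintype
    intro h hh
    change h ∈ (S : Subgroup (SL2 F)) at hh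
    change x * h * x⁻¹ ∈ (S : Subgroup (SL2 F))
    obtain ⟨i, j, rfl⟩ := exists_eq_pow_mul S e h hh
    have : x * (Ii S e ^ i * Jj S e ^ j) * x⁻¹ =
        (x * Ii S e * x⁻¹) ^ i * (x * Jj S e * x⁻¹) ^ j := by
      rw [conj_pow, conj_pow]; group
    rw [this, hxI', hxJ']
    exact Subgroup.mul_mem _ (Subgroup.pow_mem _ (Jj_mem S e) i)
      (Subgroup.pow_mem _ (Subgroup.mul_mem _ (Ii_mem S e) (Jj_mem S e)) j)
  · intro hxS
    have h1 : (⟨x, hxS⟩ : (S : Subgroup (SL2 F))) * e.symm (a 1) =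
        e.symm (xa 0) * ⟨x, hxS⟩ := Subtype.ext hxI
    have h3 := congrArg e h1
    rw [map_mul, map_mul, e.apply_symm_apply, e.apply_symm_apply] at h3
    exact d6 _ h3

end q8b

section q8c

open QuaternionGroup

variable [Fintype F] (S : Sylow 2 (SL2 F)) (e : (S : Subgroup (SL2 F)) ≃* QuaternionGroup 2)
  (hodd : Odd (Fintype.card F))

theorem center_mul_self (z : SL2 F) (hz : z ∈ Subgroup.center (SL2 F)) : z * z = 1 := by
  obtain ⟨c, hc2, hc⟩ := scalar_of_mem_center _ hz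
  apply Subtype.ext
  rw [Matrix.SpecialLinearGroup.coe_mul, hc, Matrix.smul_mul, Matrix.mul_smul, Matrix.mul_one,
    smul_smul, ← sq, hc2, one_smul, Matrix.SpecialLinearGroup.coe_one]

theorem commute_of_commute (c g h : SL2 F) (hc : c ∉ Subgroup.center (SL2 F))
    (hg : g * c = c * g) (hh : h * c = c * h) : g * h = h * g := by
  by_contra hgh
  exact hc (mem_center_of_commute c g h hg hh hgh)

theorem Ii_not_mem_center : Ii S e ∉ Subgroup.center (SL2 F) := by
  intro h
  rw [Subgroup.mem_center_iff] at h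
  exact Ii_mul_Jj_ne S e (h (Jj S e)).symm

include e in
theorem pow_four_eq_one (c : SL2 F) (hc : c ∈ (S : Subgroup (SL2 F))) : c ^ 4 = 1 := by
  have h1 := d7 (e ⟨c, hc⟩)
  rw [← map_pow, ← map_one e] at h1
  have h2 := e.injective h1
  have h3 := congrArg (fun y : (S : Subgroup (SL2 F)) => (y : SL2 F)) h2
  simpa using h3

/-- elements of `N(S)` commuting with `i` lie in `S` -/
theorem mem_of_commute_Ii (n : SL2 F)
    (hn : n ∈ Subgroup.normalizer ((S : Subgroup (SL2 F)) : Set (SL2 F)))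
    (hnI : n * Ii S e = Ii S e * n) : n ∈ (S : Subgroup (SL2 F)) := by
  set c := n * Jj S e * n⁻¹ * (Jj S e)⁻¹ with hc
  have hcS : c ∈ (S : Subgroup (SL2 F)) :=
    Subgroup.mul_mem _ ((Subgroup.mem_normalizer_iff.1 hn (Jj S e)).1 (Jj_mem S e))
      (Subgroup.inv_mem _ (Jj_mem S e))
  have hsn : SemiconjBy n (Ii S e) (Ii S e) := hnI
  have hsJ : SemiconjBy (Jj S e) (Ii S e) (Ii S e)⁻¹ := Jj_semiconj S e
  have h3 : SemiconjBy (Jj S e) (Ii S e)⁻¹ (Ii S e) := by
    have := hsJ.inv_right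
    rwa [inv_inv] at this
  have h1 : SemiconjBy (Jj S e)⁻¹ (Ii S e) (Ii S e)⁻¹ := h3.inv_symm_left
  have h2 : SemiconjBy n⁻¹ (Ii S e)⁻¹ (Ii S e)⁻¹ := hsn.inv_right.inv_symm_left
  have hcI : SemiconjBy c (Ii S e) (Ii S e) := ((hsn.mul_left h3).mul_left h2).mul_left h1
  have hnc : n * c = c * n :=
    commute_of_commute (Ii S e) n c (Ii_not_mem_center S e) hnI hcI
  have hconj : n * Jj S e * n⁻¹ = c * Jj S e := by rw [hc]; group
  have hpow : ∀ m : ℕ, n ^ m * Jj S e * (n ^ m)⁻¹ = c ^ m * Jj S e := by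
    intro m
    induction m with
    | zero => simp
    | succ m ih =>
      have hcm : n * c ^ m = c ^ m * n := (Commute.pow_right (show Commute n c from hnc) m).eq
      calc n ^ (m + 1) * Jj S e * (n ^ (m + 1))⁻¹
          = n * (n ^ m * Jj S e * (n ^ m)⁻¹) * n⁻¹ := by rw [pow_succ']; group
        _ = n * (c ^ m * Jj S e) * n⁻¹ := by rw [ih]
        _ = (n * c ^ m) * Jj S e * n⁻¹ := by group
        _ = c ^ m * (n * Jj S e * n⁻¹) := by rw [hcm]; group
        _ = c ^ (m + 1) * Jj S e := by rw [hconj, pow_succ]; group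
  have h4 := hpow 4
  rw [pow_four_eq_one S e c hcS, one_mul, mul_inv_eq_iff_eq_mul] at h4
  have h5 : Ii S e * n ^ 4 = n ^ 4 * Ii S e :=
    ((Commute.pow_left (show Commute n (Ii S e) from hnI) 4).eq).symm
  have h6 := mem_center_of_commute (n ^ 4) (Ii S e) (Jj S e) h5 h4.symm (Ii_mul_Jj_ne S e)
  have h7 := center_mul_self _ h6
  apply mem_sylow_of_mem_normalizer S n hn 3
  rw [← h7, ← pow_add]
  norm_num

end q8c

section q8d

open QuaternionGroup

variable [Fintype F] (S : Sylow 2 (SL2 F)) (e : (S : Subgroup (SL2 F)) ≃* QuaternionGroup 2)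
  (hodd : Odd (Fintype.card F))

theorem smul_coe (n : Subgroup.normalizer ((S : Subgroup (SL2 F)) : Set (SL2 F)))
    (h : (S : Subgroup (SL2 F))) :
    ((n • h : (S : Subgroup (SL2 F))) : SL2 F) = (n : SL2 F) * (h : SL2 F) * (n : SL2 F)⁻¹ := rfl

theorem Ii_mul_self_ne_one : Ii S e * Ii S e ≠ 1 := by
  intro h
  unfold Ii at h
  rw [← coe_symm_mul] at h
  have : ((e.symm 1 : (S : Subgroup (SL2 F))) : SL2 F) = 1 := by rw [map_one]; rfl
  rw [← this] at h
  exact d1 (coe_symm_injective S e _ _ h)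

theorem card_orbit_le :
    Nat.card (MulAction.orbit (Subgroup.normalizer ((S : Subgroup (SL2 F)) : Set (SL2 F)))
      (e.symm (a 1))) ≤ 6 := by
  have h6 : Nat.card {g : QuaternionGroup 2 // g * g ≠ 1} = 6 := by
    rw [Nat.card_eq_fintype_card]; exact d8
  rw [← h6]
  have hmem : ∀ h : MulAction.orbit (Subgroup.normalizer ((S : Subgroup (SL2 F)) : Set (SL2 F)))
      (e.symm (a 1)), e h.1 * e h.1 ≠ 1 := by
    rintro ⟨h, n, rfl⟩ hh
    rw [← map_mul, ← map_one e] at hh
    have h1 := e.injective hh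
    have h2 := congrArg (fun y : (S : Subgroup (SL2 F)) => (y : SL2 F)) h1
    simp only [Subgroup.coe_mul, Subgroup.coe_one] at h2
    change (n • e.symm (a 1) : (S : Subgroup (SL2 F))).1 * (n • e.symm (a 1) : (S : Subgroup (SL2 F))).1 = 1 at h2
    rw [smul_coe] at h2
    apply Ii_mul_self_ne_one S e
    have h3 : (n : SL2 F) * (Ii S e * Ii S e) * (n : SL2 F)⁻¹ = 1 := by
      rw [← h2]; unfold Ii; group
    rw [mul_inv_eq_one] at h3
    exact mul_left_cancel (h3.trans (mul_one _).symm)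
  apply Nat.card_le_card_of_injective (fun h => (⟨e h.1, hmem h⟩ : {g : QuaternionGroup 2 // g * g ≠ 1}))
  intro h1 h2 h12
  simp only [Subtype.mk.injEq] at h12
  exact Subtype.ext (e.injective h12)

theorem card_stabilizer_le :
    Nat.card (MulAction.stabilizer (Subgroup.normalizer ((S : Subgroup (SL2 F)) : Set (SL2 F)))
      (e.symm (a 1))) ≤ 4 := by
  have h4 : Nat.card {g : QuaternionGroup 2 // g * a 1 = a 1 * g} = 4 := by
    rw [Nat.card_eq_fintype_card]; exact d9
  rw [← h4]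
  have hcomm : ∀ n : MulAction.stabilizer (Subgroup.normalizer ((S : Subgroup (SL2 F)) : Set (SL2 F)))
      (e.symm (a 1)), ((n : Subgroup.normalizer ((S : Subgroup (SL2 F)) : Set (SL2 F))) : SL2 F) * Ii S e =
        Ii S e * ((n : Subgroup.normalizer ((S : Subgroup (SL2 F)) : Set (SL2 F))) : SL2 F) := by
    rintro ⟨n, hn⟩
    rw [MulAction.mem_stabilizer_iff] at hn
    have h1 := congrArg (fun y : (S : Subgroup (SL2 F)) => (y : SL2 F)) hn
    simp only [smul_coe] at h1
    rw [mul_inv_eq_iff_eq_mul] at h1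
    exact h1
  have hmem : ∀ n : MulAction.stabilizer (Subgroup.normalizer ((S : Subgroup (SL2 F)) : Set (SL2 F)))
      (e.symm (a 1)), ((n : Subgroup.normalizer ((S : Subgroup (SL2 F)) : Set (SL2 F))) : SL2 F) ∈
        (S : Subgroup (SL2 F)) := fun n => mem_of_commute_Ii S e _ n.1.2 (hcomm n)
  have hprop : ∀ n : MulAction.stabilizer (Subgroup.normalizer ((S : Subgroup (SL2 F)) : Set (SL2 F)))
      (e.symm (a 1)), e ⟨_, hmem n⟩ * a 1 = a 1 * e ⟨_, hmem n⟩ := by
    intro n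
    have h1 : (⟨_, hmem n⟩ : (S : Subgroup (SL2 F))) * e.symm (a 1) =
        e.symm (a 1) * ⟨_, hmem n⟩ := Subtype.ext (hcomm n)
    have h2 := congrArg e h1
    rwa [map_mul, map_mul, e.apply_symm_apply] at h2
  apply Nat.card_le_card_of_injective
    (fun n => (⟨e ⟨_, hmem n⟩, hprop n⟩ : {g : QuaternionGroup 2 // g * a 1 = a 1 * g}))
  intro n1 n2 h12
  simp only [Subtype.mk.injEq] at h12
  have := e.injective h12
  simp only [Subtype.mk.injEq] at this
  exact Subtype.ext (Subtype.ext this)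

end q8d

section q8e

open QuaternionGroup

variable [Fintype F] (S : Sylow 2 (SL2 F)) (e : (S : Subgroup (SL2 F)) ≃* QuaternionGroup 2)
  (hodd : Odd (Fintype.card F))

include hodd e in
theorem card_normalizer_q8 :
    Nat.card (Subgroup.normalizer ((S : Subgroup (SL2 F)) : Set (SL2 F))) = 24 := by
  have hos := Nat.card_congr (MulAction.orbitProdStabilizerEquivGroup
    (Subgroup.normalizer ((S : Subgroup (SL2 F)) : Set (SL2 F))) (e.symm (a 1)))
  rw [Nat.card_prod] at hos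
  have h1 := card_orbit_le S e
  have h2 := card_stabilizer_le S e
  have hle : Nat.card (Subgroup.normalizer ((S : Subgroup (SL2 F)) : Set (SL2 F))) ≤ 24 := by
    rw [← hos]
    calc _ ≤ 6 * 4 := Nat.mul_le_mul h1 h2
      _ = 24 := by norm_num
  have hS : Nat.card (S : Subgroup (SL2 F)) = 8 := by
    rw [Nat.card_congr e.toEquiv, Nat.card_eq_fintype_card, QuaternionGroup.card]
  have hSN : (S : Subgroup (SL2 F)) ≤ Subgroup.normalizer ((S : Subgroup (SL2 F)) : Set (SL2 F)) :=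
    Subgroup.le_normalizer
  have hdvd : 8 ∣ Nat.card (Subgroup.normalizer ((S : Subgroup (SL2 F)) : Set (SL2 F))) := by
    rw [← hS]; exact Subgroup.card_dvd_of_le hSN
  have hpos : 0 < Nat.card (Subgroup.normalizer ((S : Subgroup (SL2 F)) : Set (SL2 F))) :=
    Nat.card_pos
  obtain ⟨x, hxN, hxS⟩ := exists_normalizer_not_mem S e hodd
  have hne8 : Nat.card (Subgroup.normalizer ((S : Subgroup (SL2 F)) : Set (SL2 F))) ≠ 8 := by
    intro h
    have := Subgroup.eq_of_le_of_card_ge hSN (by rw [h, hS])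
    apply hxS
    rw [this]; exact hxN
  have hne16 : Nat.card (Subgroup.normalizer ((S : Subgroup (SL2 F)) : Set (SL2 F))) ≠ 16 := by
    intro h
    have hp : IsPGroup 2 (Subgroup.normalizer ((S : Subgroup (SL2 F)) : Set (SL2 F))) :=
      IsPGroup.of_card (n := 4) (by rw [h]; norm_num)
    have := S.is_maximal' hp hSN
    apply hxS
    rw [← this]; exact hxN
  omega

end q8e

theorem result {F : Type*} [Field F] [Fintype F] (hodd : Odd (Fintype.card F)) (S : Sylow 2 (Matrix.SpecialLinearGroup (Fin 2) F)) :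
    Subgroup.centralizer ((S : Subgroup (Matrix.SpecialLinearGroup (Fin 2) F)) : Set (Matrix.SpecialLinearGroup (Fin 2) F)) = Subgroup.center (Matrix.SpecialLinearGroup (Fin 2) F) ∧
    ((Fintype.card F % 8 = 1 ∨ Fintype.card F % 8 = 7) →
      Subgroup.normalizer ((S : Subgroup (Matrix.SpecialLinearGroup (Fin 2) F)) : Set (Matrix.SpecialLinearGroup (Fin 2) F)) = (S : Subgroup (Matrix.SpecialLinearGroup (Fin 2) F))) ∧
    ((Fintype.card F % 8 = 3 ∨ Fintype.card F % 8 = 5) →
      Nat.card (Subgroup.normalizer ((S : Subgroup (Matrix.SpecialLinearGroup (Fin 2) F)) : Set (Matrix.SpecialLinearGroup (Fin 2) F))) = 3 * Nat.card S) := by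
  refine ⟨centralizer_eq_center hodd S, normalizer_eq_self hodd S, ?_⟩
  intro hq
  have hq3 : 3 ≤ Fintype.card F := by
    have hq : 2 ≤ Fintype.card F := Fintype.one_lt_card
    rcases hodd with ⟨k, hk⟩; omega
  obtain ⟨k, hk, ⟨e⟩⟩ := S0261.result hodd S
  have hcard := card_sylow hodd S
  rw [(val2_mod8 _ hq3).2 hq] at hcard
  have hcard' := hcard
  have : NeZero (2 ^ k) := ⟨by positivity⟩
  rw [Nat.card_congr e.toEquiv, Nat.card_eq_fintype_card, QuaternionGroup.card] at hcard'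
  have hk1 : k = 1 := by
    have h1 : 4 * 2 ^ k = 2 ^ (k + 2) := by rw [pow_add]; ring
    rw [h1] at hcard'
    have := Nat.pow_right_injective (le_refl 2) hcard'
    omega
  subst hk1
  have e2 : (S : Subgroup (Matrix.SpecialLinearGroup (Fin 2) F)) ≃* QuaternionGroup 2 := e
  rw [card_normalizer_q8 S e2 hodd]
  change 24 = 3 * Nat.card (S : Subgroup (Matrix.SpecialLinearGroup (Fin 2) F))
  rw [hcard]
  norm_num

end Cfsg.Agent.S2431
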