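-- Statement S0956: Green's theorem, defect groups are Sylow intersections (helper79).
import Cfsg.Statements.S0956
import Cfsg.Agent.Lib.Helper79_GreenNormal
import Cfsg.Agent.Lib.Helper78_FirstMain
import Cfsg.Agent.Lib.Helper78_MinMax

set_option autoImplicit false
open Cfsg

namespace Cfsg.Agent.S0956

open Cfsg.Agent.Lib.Helper79_GreenNormal Cfsg.Agent.Lib.Helper78_MinMax

/-- Let D be a defect group of a block of the finite group G (relative to a maximal ideal M of the algebraic integers containing the prime p) and P a Sylow p-subgroup containing D. Then there is an element x of order prime to p such that D is a Sylow p-subgroup of the centralizer of x and D = P ∩ x P x⁻¹. -/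
theorem result {G : Type*} [Group G] [Finite G] (p : ℕ) [Fact p.Prime] (M : Ideal Cfsg.AlgInt) (hM : Cfsg.IsPModular p M) (B : Set (Cfsg.IrrCharacter G)) (hB : Cfsg.IsPBlock M B) (D : Subgroup G) (hD : Cfsg.IsDefectGroup p M B D) (P : Sylow p G) (hDP : D ≤ P) : ∃ x : G, ¬ p ∣ orderOf x ∧ (∃ S : Sylow p (Subgroup.centralizer ({x} : Set G)), (S : Subgroup (Subgroup.centralizer ({x} : Set G))).map (Subgroup.centralizer ({x} : Set G)).subtype = D) ∧ (P : Subgroup G) ⊓ (P : Subgroup G).map (MulAut.conj x).toMonoidHom = D := by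
  classical
  have hDp : IsPGroup p D := by
    obtain ⟨g₀, -, S₀, hS₀⟩ := hD
    rw [hS₀]
    exact isPGroup_map_sylow _ S₀
  set N : Subgroup G := Subgroup.normalizer (D : Set G) with hN
  obtain ⟨b, hb, hDb, -⟩ :=
    Cfsg.Agent.Lib.Helper78_FirstMain.firstMain_exists_block hM D hDp hB hD
  have hDN : D ≤ N := Subgroup.le_normalizer
  -- a Sylow `p`-subgroup of `N` containing `P ∩ N`
  have hPNp : IsPGroup p (((P : Subgroup G) ⊓ N).subgroupOf N) := by
    have h1 : IsPGroup p ((P : Subgroup G) ⊓ N : Subgroup G) := P.isPGroup'.to_le inf_le_left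
    exact h1.comap_of_injective N.subtype N.subtype_injective
  obtain ⟨P₁, hP₁⟩ := hPNp.exists_le_sylow
  have hnorm : (D.subgroupOf N).Normal := Subgroup.normal_in_normalizer
  obtain ⟨y, hyreg, hyQ, hymm, hyD⟩ := green_normal hM hb (D.subgroupOf N) hDb P₁
  have hyN : (y : G) ∈ N := y.2
  -- conjugation by `y` preserves `D`
  have hyconj : ∀ d ∈ D, (y : G)⁻¹ * d * (y : G) ∈ D := by
    intro d hd
    have h1 : (y : G)⁻¹ ∈ N := N.inv_mem hyN
    have h2 := (Subgroup.mem_normalizer_iff.1 h1 d).1 hd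
    rwa [inv_inv] at h2
  -- key: elements of `N` lying in `P` are in `P₁`
  have hmemP₁ : ∀ v : N, (v : G) ∈ (P : Subgroup G) → v ∈ (P₁ : Subgroup N) := by
    intro v hv
    apply hP₁
    rw [Subgroup.mem_subgroupOf]
    exact ⟨hv, v.2⟩
  refine ⟨(y : G), ?_, ?_, ?_⟩
  · rw [Subgroup.orderOf_coe]
    exact hyreg
  · -- `D` is a Sylow `p`-subgroup of `C_G(y)`
    have hDC : D ≤ Subgroup.centralizer ({(y : G)} : Set G) := by
      intro d hd
      have h1 : (⟨d, hDN hd⟩ : N) ∈ D.subgroupOf N := by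
        rw [Subgroup.mem_subgroupOf]
        exact hd
      have h2 := hyD h1
      rw [Subgroup.mem_centralizer_iff] at h2 ⊢
      intro h hh
      rw [Set.mem_singleton_iff] at hh
      subst hh
      have h3 := h2 y (Set.mem_singleton y)
      exact congrArg Subtype.val h3
    set C : Subgroup G := Subgroup.centralizer ({(y : G)} : Set G) with hC
    have hDCp : IsPGroup p (D.subgroupOf C) :=
      hDp.comap_of_injective C.subtype C.subtype_injective
    obtain ⟨S, hS⟩ := hDCp.exists_le_sylow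
    refine ⟨S, ?_⟩
    set S' : Subgroup G := (S : Subgroup C).map C.subtype with hS'
    have hS'p : IsPGroup p S' := isPGroup_map_sylow _ S
    have hS'C : S' ≤ C := map_sylow_le _ S
    have hDS' : D ≤ S' := by
      intro d hd
      refine ⟨⟨d, hDC hd⟩, hS ?_, rfl⟩
      rw [Subgroup.mem_subgroupOf]
      exact hd
    refine le_antisymm ?_ hDS'
    by_contra hne
    obtain ⟨v, hvS, hvN, hvD⟩ := exists_normalizing_not_mem hS'p hDS' hne
    -- the `p`-subgroup `(S' ⊓ N)` of `C_N(y)`
    have hT : IsPGroup p ((S' ⊓ N).subgroupOf N) := by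
      have h1 : IsPGroup p (S' ⊓ N : Subgroup G) := hS'p.to_le inf_le_left
      exact h1.comap_of_injective N.subtype N.subtype_injective
    have hTy : (S' ⊓ N).subgroupOf N ≤ Subgroup.centralizer ({y} : Set N) := by
      intro t ht
      rw [Subgroup.mem_subgroupOf] at ht
      have h1 : (t : G) ∈ C := hS'C ht.1
      rw [hC, Subgroup.mem_centralizer_iff] at h1
      rw [Subgroup.mem_centralizer_iff]
      intro h hh
      rw [Set.mem_singleton_iff] at hh
      subst hh
      exact Subtype.ext (h1 (h : G) (Set.mem_singleton _))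
    have h2 := hymm _ hT hTy
    have h3 : (⟨v, hvN⟩ : N) ∈ (S' ⊓ N).subgroupOf N := by
      rw [Subgroup.mem_subgroupOf]
      exact ⟨hvS, hvN⟩
    have h4 := h2 h3
    rw [Subgroup.mem_subgroupOf] at h4
    exact hvD h4
  · -- `P ∩ y P y⁻¹ = D`
    set Q : Subgroup G := (P : Subgroup G) ⊓ (P : Subgroup G).map (MulAut.conj (y : G)).toMonoidHom
      with hQ
    have hQp : IsPGroup p Q := P.isPGroup'.to_le inf_le_left
    have hDQ : D ≤ Q := by
      intro d hd
      refine Subgroup.mem_inf.2 ⟨hDP hd, ?_⟩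
      rw [mem_map_conj_iff]
      exact hDP (hyconj d hd)
    refine le_antisymm ?_ hDQ
    by_contra hne
    obtain ⟨v, hvQ, hvN, hvD⟩ := exists_normalizing_not_mem hQp hDQ hne
    have hvP : v ∈ (P : Subgroup G) := hvQ.1
    have hvP' : (y : G)⁻¹ * v * (y : G) ∈ (P : Subgroup G) :=
      (mem_map_conj_iff _ _ _).1 hvQ.2
    have h1 : (⟨v, hvN⟩ : N) ∈ (P₁ : Subgroup N) := hmemP₁ _ hvP
    have h2 : y⁻¹ * (⟨v, hvN⟩ : N) * y ∈ (P₁ : Subgroup N) := by
      apply hmemP₁
      simpa using hvP'
    have h3 : (⟨v, hvN⟩ : N) ∈ (P₁ : Subgroup N) ⊓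
        (P₁ : Subgroup N).map (MulAut.conj y).toMonoidHom := by
      refine Subgroup.mem_inf.2 ⟨h1, ?_⟩
      rw [mem_map_conj_iff]
      exact h2
    rw [hyQ, Subgroup.mem_subgroupOf] at h3
    exact hvD h3

end Cfsg.Agent.S0956
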