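import Cfsg.Statements.S0427
import Cfsg.Agent.Lib.Helper8_S3622

set_option autoImplicit false
open Cfsg

namespace Cfsg.Agent.S0427

open Finset Cfsg.Agent.Lib.Helper8_S3622

/-- transfer of cardinalities from sets of vertices of the block graph to finsets of blocks -/
theorem card_set_eq {α : Type*} [DecidableEq α] {B : Set (Finset α)} [Fintype B] (S : Set ↥B)
    [Fintype S] (Q : Finset α → Prop) [DecidablePred Q] (hS : ∀ w : ↥B, w ∈ S ↔ Q w.1) :
    Fintype.card S = #{c ∈ B.toFinset | Q c} := by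
  have e : S ≃ ↥({c ∈ B.toFinset | Q c} : Finset (Finset α)) :=
    { toFun := fun w => ⟨w.1.1, mem_filter.mpr ⟨Set.mem_toFinset.mpr w.1.2, (hS w.1).mp w.2⟩⟩
      invFun := fun c => ⟨⟨c.1, Set.mem_toFinset.mp (mem_filter.mp c.2).1⟩,
        (hS _).mpr (mem_filter.mp c.2).2⟩
      left_inv := fun w => rfl
      right_inv := fun c => rfl }
  rw [Fintype.card_congr e, Fintype.card_coe]

theorem isS3622_of {α : Type*} [Fintype α] [DecidableEq α] (hα : Fintype.card α = 22)
    {B : Set (Finset α)} (hB : Cfsg.IsSteinerSystem 3 6 B) [Fintype B] : IsS3622 B.toFinset where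
  card_univ := hα
  card_block := fun b hb => hB.1 b (Set.mem_toFinset.mp hb)
  unique := fun s hs => by
    obtain ⟨b, hb, hu⟩ := hB.2 s hs
    exact ⟨b, ⟨Set.mem_toFinset.mpr hb.1, hb.2⟩, fun c hc => hu c ⟨Set.mem_toFinset.mp hc.1, hc.2⟩⟩

theorem adj_iff {α : Type*} {B : Set (Finset α)} (v w : ↥B) :
    (Cfsg.blockGraph B).Adj v w ↔ v ≠ w ∧ Disjoint v.1 w.1 := by
  unfold Cfsg.blockGraph
  rw [SimpleGraph.fromRel_adj]
  constructor
  · rintro ⟨h1, h2 | h2⟩
    · exact ⟨h1, h2⟩
    · exact ⟨h1, h2.symm⟩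
  · rintro ⟨h1, h2⟩
    exact ⟨h1, Or.inl h2⟩

/-- The block graph (adjacent = disjoint) of an S(3, 6, 22) is strongly regular with parameters (77, 16, 0, 4). -/
theorem result {α : Type*} [Fintype α] (hα : Fintype.card α = 22) {B : Set (Finset α)} (hB : Cfsg.IsSteinerSystem 3 6 B) [Fintype B] [DecidableRel (Cfsg.blockGraph B).Adj] : (Cfsg.blockGraph B).IsSRGWith 77 16 0 4 := by
  classical
  have h := isS3622_of hα hB
  have hmem : ∀ v : ↥B, v.1 ∈ B.toFinset := fun v => Set.mem_toFinset.mpr v.2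
  have hadj : ∀ v w : ↥B, (Cfsg.blockGraph B).Adj v w ↔ Disjoint v.1 w.1 := by
    intro v w
    rw [adj_iff]
    constructor
    · exact fun h => h.2
    · intro hd
      refine ⟨?_, hd⟩
      rintro rfl
      exact not_disjoint_self h (hmem v) hd
  refine ⟨?_, ?_, ?_, ?_⟩
  · rw [← Set.toFinset_card, card_blocks h]
  · intro v
    rw [← SimpleGraph.card_neighborSet_eq_degree]
    rw [card_set_eq _ (fun c => Disjoint v.1 c)]
    · exact card_disjoint h (hmem v)
    · intro w
      rw [SimpleGraph.mem_neighborSet, hadj]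
  · intro v w hvw
    rw [card_set_eq _ (fun c => Disjoint v.1 c ∧ Disjoint w.1 c)]
    · exact card_disjoint_both_of_disjoint h (hmem v) (hmem w) ((hadj v w).mp hvw)
    · intro u
      rw [SimpleGraph.mem_commonNeighbors, hadj, hadj]
  · intro v w hne hvw
    rw [card_set_eq _ (fun c => Disjoint v.1 c ∧ Disjoint w.1 c)]
    · apply card_disjoint_both_of_meet h (hmem v) (hmem w)
      · intro hvw'
        exact hne (Subtype.ext hvw')
      · rw [← hadj]; exact hvw
    · intro u
      rw [SimpleGraph.mem_commonNeighbors, hadj, hadj]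

end Cfsg.Agent.S0427
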