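import Cfsg.Statements.S0428
import Cfsg.Agent.S0427

set_option autoImplicit false
open Cfsg

namespace Cfsg.Agent.S0428

open Finset Cfsg.Agent.Lib.Helper8_S3622

/-- counting a set of vertices of the point-block graph -/
theorem card_pb {α : Type*} [Fintype α] [DecidableEq α] {B : Set (Finset α)} [Fintype B]
    (S : Set (Option (α ⊕ ↥B))) [Fintype S] (P0 : Prop) [Decidable P0] (PA : α → Prop)
    [DecidablePred PA] (Q : Finset α → Prop) [DecidablePred Q] (h0 : none ∈ S ↔ P0)
    (hA : ∀ a, some (Sum.inl a) ∈ S ↔ PA a) (hQ : ∀ w : ↥B, some (Sum.inr w) ∈ S ↔ Q w.1) :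
    Fintype.card S = (if P0 then 1 else 0) + #{a | PA a} + #{c ∈ B.toFinset | Q c} := by
  classical
  rw [Fintype.card_of_subtype (univ.filter (· ∈ S)) (by simp)]
  rw [card_filter, Fintype.sum_option, Fintype.sum_sum_type]
  have e1 : (if none ∈ S then 1 else 0) = (if P0 then 1 else 0) := by
    by_cases hp : P0
    · rw [if_pos hp, if_pos (h0.mpr hp)]
    · rw [if_neg hp, if_neg (fun hh => hp (h0.mp hh))]
  have e2 : ∑ a : α, (if some (Sum.inl a) ∈ S then 1 else 0) = #{a | PA a} := by
    rw [card_filter]
    apply sum_congr rfl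
    intro a _
    by_cases hp : PA a
    · rw [if_pos hp, if_pos ((hA a).mpr hp)]
    · rw [if_neg hp, if_neg (fun hh => hp ((hA a).mp hh))]
  have e3 : ∑ w : ↥B, (if some (Sum.inr w) ∈ S then 1 else 0) = #{c ∈ B.toFinset | Q c} := by
    rw [← card_filter]
    have := Cfsg.Agent.S0427.card_set_eq (B := B) {w : ↥B | some (Sum.inr w) ∈ S} Q
      (fun w => by rw [Set.mem_setOf_eq]; exact hQ w)
    rw [← this]
    rw [Fintype.card_of_subtype (univ.filter fun w : ↥B => some (Sum.inr w) ∈ S) (by simp)]
  rw [e1, e2, e3, add_assoc]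

section adj
variable {α : Type*} (B : Set (Finset α))

theorem adj_none_none : ¬ (Cfsg.pointBlockGraph B).Adj none none := by
  simp [Cfsg.pointBlockGraph, SimpleGraph.fromRel_adj]

theorem adj_none_pt (a : α) : (Cfsg.pointBlockGraph B).Adj none (some (Sum.inl a)) := by
  simp [Cfsg.pointBlockGraph, SimpleGraph.fromRel_adj, Cfsg.pointBlockRel]

theorem adj_none_bl (b : ↥B) : ¬ (Cfsg.pointBlockGraph B).Adj none (some (Sum.inr b)) := by
  simp [Cfsg.pointBlockGraph, SimpleGraph.fromRel_adj, Cfsg.pointBlockRel]

theorem adj_pt_none (a : α) : (Cfsg.pointBlockGraph B).Adj (some (Sum.inl a)) none :=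
  (adj_none_pt B a).symm

theorem adj_pt_pt (a a' : α) :
    ¬ (Cfsg.pointBlockGraph B).Adj (some (Sum.inl a)) (some (Sum.inl a')) := by
  simp [Cfsg.pointBlockGraph, SimpleGraph.fromRel_adj, Cfsg.pointBlockRel]

theorem adj_pt_bl (a : α) (b : ↥B) :
    (Cfsg.pointBlockGraph B).Adj (some (Sum.inl a)) (some (Sum.inr b)) ↔ a ∈ b.1 := by
  simp [Cfsg.pointBlockGraph, SimpleGraph.fromRel_adj, Cfsg.pointBlockRel]

theorem adj_bl_none (b : ↥B) : ¬ (Cfsg.pointBlockGraph B).Adj (some (Sum.inr b)) none :=
  fun h => adj_none_bl B b h.symm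

theorem adj_bl_pt (a : α) (b : ↥B) :
    (Cfsg.pointBlockGraph B).Adj (some (Sum.inr b)) (some (Sum.inl a)) ↔ a ∈ b.1 := by
  rw [SimpleGraph.adj_comm, adj_pt_bl]

theorem adj_bl_bl (b c : ↥B) :
    (Cfsg.pointBlockGraph B).Adj (some (Sum.inr b)) (some (Sum.inr c)) ↔
      b ≠ c ∧ Disjoint b.1 c.1 := by
  simp only [Cfsg.pointBlockGraph, SimpleGraph.fromRel_adj, Cfsg.pointBlockRel, ne_eq,
    Option.some.injEq, Sum.inr.injEq]
  constructor
  · rintro ⟨h1, h2 | h2⟩
    · exact ⟨h1, h2⟩
    · exact ⟨h1, h2.symm⟩
  · rintro ⟨h1, h2⟩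
    exact ⟨h1, Or.inl h2⟩

end adj

/-- The point-block graph of an S(3, 6, 22) is strongly regular with parameters (100, 22, 0, 6). -/
theorem result {α : Type*} [Fintype α] (hα : Fintype.card α = 22) {B : Set (Finset α)} (hB : Cfsg.IsSteinerSystem 3 6 B) [Fintype B] [DecidableRel (Cfsg.pointBlockGraph B).Adj] : (Cfsg.pointBlockGraph B).IsSRGWith 100 22 0 6 := by
  classical
  have h := Cfsg.Agent.S0427.isS3622_of hα hB
  have hmem : ∀ v : ↥B, v.1 ∈ B.toFinset := fun v => Set.mem_toFinset.mpr v.2
  have hbb : ∀ b c : ↥B, (Cfsg.pointBlockGraph B).Adj (some (Sum.inr b)) (some (Sum.inr c)) ↔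
      Disjoint b.1 c.1 := by
    intro b c
    rw [adj_bl_bl]
    constructor
    · exact fun hh => hh.2
    · intro hd
      refine ⟨?_, hd⟩
      rintro rfl
      exact not_disjoint_self h (hmem b) hd
  have hdegpt : ∀ a : α, #{c ∈ B.toFinset | a ∈ c} = 21 := by
    intro a
    rw [← deg_point h a, deg]
    congr 1
    ext d
    simp only [mem_filter, singleton_subset_iff]
  have hcardb : ∀ b : ↥B, #{x : α | x ∈ b.1} = 6 := by
    intro b
    rw [filter_univ_mem, h.card_block b.1 (hmem b)]
  refine ⟨?_, ?_, ?_, ?_⟩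
  · rw [Fintype.card_option, Fintype.card_sum, hα, ← Set.toFinset_card, card_blocks h]
  · intro v
    rw [← SimpleGraph.card_neighborSet_eq_degree]
    rcases v with _ | a | b
    · rw [card_pb _ False (fun _ => True) (fun _ => False)]
      · simp [hα]
      · rw [SimpleGraph.mem_neighborSet]; exact iff_false_intro (adj_none_none B)
      · intro a; rw [SimpleGraph.mem_neighborSet]; exact iff_true_intro (adj_none_pt B a)
      · intro w; rw [SimpleGraph.mem_neighborSet]; exact iff_false_intro (adj_none_bl B w)
    · rw [card_pb _ True (fun _ => False) (fun c => a ∈ c)]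
      · rw [hdegpt]; simp
      · rw [SimpleGraph.mem_neighborSet]; exact iff_true_intro (adj_pt_none B a)
      · intro x; rw [SimpleGraph.mem_neighborSet]; exact iff_false_intro (adj_pt_pt B a x)
      · intro w; rw [SimpleGraph.mem_neighborSet]; exact adj_pt_bl B a w
    · rw [card_pb _ False (fun x => x ∈ b.1) (fun c => Disjoint b.1 c)]
      · rw [hcardb, card_disjoint h (hmem b)]; simp
      · rw [SimpleGraph.mem_neighborSet]; exact iff_false_intro (adj_bl_none B b)
      · intro x; rw [SimpleGraph.mem_neighborSet]; exact adj_bl_pt B x b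
      · intro w; rw [SimpleGraph.mem_neighborSet]; exact hbb b w
  · intro v w hvw
    rcases v with _ | a | b <;> rcases w with _ | a' | c
    · exact absurd hvw (adj_none_none B)
    · rw [card_pb _ False (fun _ => False) (fun _ => False)]
      · simp
      · rw [SimpleGraph.mem_commonNeighbors]
        exact iff_false_intro (fun hh => adj_none_none B hh.1)
      · intro x; rw [SimpleGraph.mem_commonNeighbors]
        exact iff_false_intro (fun hh => adj_pt_pt B a' x hh.2)
      · intro u; rw [SimpleGraph.mem_commonNeighbors]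
        exact iff_false_intro (fun hh => adj_none_bl B u hh.1)
    · exact absurd hvw (adj_none_bl B c)
    · rw [card_pb _ False (fun _ => False) (fun _ => False)]
      · simp
      · rw [SimpleGraph.mem_commonNeighbors]
        exact iff_false_intro (fun hh => adj_none_none B hh.2)
      · intro x; rw [SimpleGraph.mem_commonNeighbors]
        exact iff_false_intro (fun hh => adj_pt_pt B a x hh.1)
      · intro u; rw [SimpleGraph.mem_commonNeighbors]
        exact iff_false_intro (fun hh => adj_none_bl B u hh.2)
    · exact absurd hvw (adj_pt_pt B a a')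
    · have hac : a ∈ c.1 := (adj_pt_bl B a c).mp hvw
      rw [card_pb _ False (fun _ => False) (fun _ => False)]
      · simp
      · rw [SimpleGraph.mem_commonNeighbors]
        exact iff_false_intro (fun hh => adj_bl_none B c hh.2)
      · intro x; rw [SimpleGraph.mem_commonNeighbors]
        exact iff_false_intro (fun hh => adj_pt_pt B a x hh.1)
      · intro u; rw [SimpleGraph.mem_commonNeighbors]
        refine iff_false_intro (fun hh => ?_)
        have h1 : a ∈ u.1 := (adj_pt_bl B a u).mp hh.1
        have h2 : Disjoint c.1 u.1 := (hbb c u).mp hh.2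
        exact (disjoint_left.mp h2) hac h1
    · exact absurd hvw (adj_bl_none B b)
    · have hab : a' ∈ b.1 := (adj_bl_pt B a' b).mp hvw
      rw [card_pb _ False (fun _ => False) (fun _ => False)]
      · simp
      · rw [SimpleGraph.mem_commonNeighbors]
        exact iff_false_intro (fun hh => adj_bl_none B b hh.1)
      · intro x; rw [SimpleGraph.mem_commonNeighbors]
        exact iff_false_intro (fun hh => adj_pt_pt B a' x hh.2)
      · intro u; rw [SimpleGraph.mem_commonNeighbors]
        refine iff_false_intro (fun hh => ?_)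
        have h1 : a' ∈ u.1 := (adj_pt_bl B a' u).mp hh.2
        have h2 : Disjoint b.1 u.1 := (hbb b u).mp hh.1
        exact (disjoint_left.mp h2) hab h1
    · have hd : Disjoint b.1 c.1 := (hbb b c).mp hvw
      rw [card_pb _ False (fun _ => False) (fun d => Disjoint b.1 d ∧ Disjoint c.1 d)]
      · rw [card_disjoint_both_of_disjoint h (hmem b) (hmem c) hd]; simp
      · rw [SimpleGraph.mem_commonNeighbors]
        exact iff_false_intro (fun hh => adj_bl_none B b hh.1)
      · intro x; rw [SimpleGraph.mem_commonNeighbors]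
        refine iff_false_intro (fun hh => ?_)
        have h1 : x ∈ b.1 := (adj_bl_pt B x b).mp hh.1
        have h2 : x ∈ c.1 := (adj_bl_pt B x c).mp hh.2
        exact (disjoint_left.mp hd) h1 h2
      · intro u; rw [SimpleGraph.mem_commonNeighbors, hbb, hbb]
  · intro v w hne hvw
    rcases v with _ | a | b <;> rcases w with _ | a' | c
    · exact absurd rfl hne
    · exact absurd (adj_none_pt B a') hvw
    · rw [card_pb _ False (fun x => x ∈ c.1) (fun _ => False)]
      · rw [hcardb]; simp
      · rw [SimpleGraph.mem_commonNeighbors]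
        exact iff_false_intro (fun hh => adj_none_none B hh.1)
      · intro x; rw [SimpleGraph.mem_commonNeighbors]
        exact ⟨fun hh => (adj_bl_pt B x c).mp hh.2, fun hh => ⟨adj_none_pt B x, (adj_bl_pt B x c).mpr hh⟩⟩
      · intro u; rw [SimpleGraph.mem_commonNeighbors]
        exact iff_false_intro (fun hh => adj_none_bl B u hh.1)
    · exact absurd (adj_pt_none B a) hvw
    · have haa : a ≠ a' := fun hh => hne (by rw [hh])
      rw [card_pb _ True (fun _ => False) (fun d => a ∈ d ∧ a' ∈ d)]
      · have := deg_pair h {a, a'} (card_pair haa)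
        rw [deg] at this
        have e : {d ∈ B.toFinset | a ∈ d ∧ a' ∈ d} = {d ∈ B.toFinset | {a, a'} ⊆ d} := by
          ext d
          simp only [mem_filter, insert_subset_iff, singleton_subset_iff]
        rw [e, this]; simp
      · rw [SimpleGraph.mem_commonNeighbors]
        exact iff_true_intro ⟨adj_pt_none B a, adj_pt_none B a'⟩
      · intro x; rw [SimpleGraph.mem_commonNeighbors]
        exact iff_false_intro (fun hh => adj_pt_pt B a x hh.1)
      · intro u; rw [SimpleGraph.mem_commonNeighbors, adj_pt_bl, adj_pt_bl]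
    · have hac : a ∉ c.1 := fun hh => hvw ((adj_pt_bl B a c).mpr hh)
      rw [card_pb _ False (fun _ => False) (fun d => a ∈ d ∧ Disjoint c.1 d)]
      · rw [card_disjoint_through h (hmem c) hac]; simp
      · rw [SimpleGraph.mem_commonNeighbors]
        exact iff_false_intro (fun hh => adj_bl_none B c hh.2)
      · intro x; rw [SimpleGraph.mem_commonNeighbors]
        exact iff_false_intro (fun hh => adj_pt_pt B a x hh.1)
      · intro u; rw [SimpleGraph.mem_commonNeighbors, adj_pt_bl, hbb]
    · rw [card_pb _ False (fun x => x ∈ b.1) (fun _ => False)]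
      · rw [hcardb]; simp
      · rw [SimpleGraph.mem_commonNeighbors]
        exact iff_false_intro (fun hh => adj_none_none B hh.2)
      · intro x; rw [SimpleGraph.mem_commonNeighbors]
        exact ⟨fun hh => (adj_bl_pt B x b).mp hh.1, fun hh => ⟨(adj_bl_pt B x b).mpr hh, adj_none_pt B x⟩⟩
      · intro u; rw [SimpleGraph.mem_commonNeighbors]
        exact iff_false_intro (fun hh => adj_none_bl B u hh.2)
    · have hab : a' ∉ b.1 := fun hh => hvw ((adj_bl_pt B a' b).mpr hh)
      rw [card_pb _ False (fun _ => False) (fun d => a' ∈ d ∧ Disjoint b.1 d)]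
      · rw [card_disjoint_through h (hmem b) hab]; simp
      · rw [SimpleGraph.mem_commonNeighbors]
        exact iff_false_intro (fun hh => adj_bl_none B b hh.1)
      · intro x; rw [SimpleGraph.mem_commonNeighbors]
        exact iff_false_intro (fun hh => adj_pt_pt B a' x hh.2)
      · intro u; rw [SimpleGraph.mem_commonNeighbors, adj_pt_bl, hbb, and_comm]
    · have hbc : b.1 ≠ c.1 := fun hh => hne (by rw [Subtype.ext hh])
      have hnd : ¬ Disjoint b.1 c.1 := fun hh => hvw ((hbb b c).mpr hh)
      rw [card_pb _ False (fun x => x ∈ b.1 ∧ x ∈ c.1) (fun d => Disjoint b.1 d ∧ Disjoint c.1 d)]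
      · rw [card_disjoint_both_of_meet h (hmem b) (hmem c) hbc hnd]
        have e : #{x : α | x ∈ b.1 ∧ x ∈ c.1} = #(b.1 ∩ c.1) := by
          congr 1
          ext x
          simp only [mem_filter, mem_univ, true_and, mem_inter]
        rw [e, inter_card h (hmem b) (hmem c) hbc, if_neg hnd]; simp
      · rw [SimpleGraph.mem_commonNeighbors]
        exact iff_false_intro (fun hh => adj_bl_none B b hh.1)
      · intro x; rw [SimpleGraph.mem_commonNeighbors, adj_bl_pt, adj_bl_pt]
      · intro u; rw [SimpleGraph.mem_commonNeighbors, hbb, hbb]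

end Cfsg.Agent.S0428
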