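import Cfsg.Statements.S2475
import Cfsg.Agent.Lib.Helper41_SL2

set_option autoImplicit false
open Cfsg

namespace Cfsg.Agent.S2475

open Cfsg.Agent.Lib.Helper41_SL2

theorem result {F : Type*} [Field F] [Fintype F] (p : ℕ) [Fact p.Prime] [CharP F p] (h4 : 4 ≤ Fintype.card F) :
    Set.range (orderOf : Matrix.ProjectiveSpecialLinearGroup (Fin 2) F → ℕ) =
      {m : ℕ | m ∣ p ∨ m ∣ (Fintype.card F - 1) / Nat.gcd 2 (Fintype.card F - 1) ∨ m ∣ (Fintype.card F + 1) / Nat.gcd 2 (Fintype.card F - 1)} := by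
  have hp : p.Prime := Fact.out
  set q := Fintype.card F with hq
  ext m
  simp only [Set.mem_range, Set.mem_ofPred_eq]
  constructor
  · rintro ⟨g, rfl⟩
    obtain ⟨A, rfl⟩ := QuotientGroup.mk_surjective g
    rcases psl2_pow_cases p A with h | h | h
    · exact Or.inl (orderOf_dvd_of_pow_eq_one h)
    · exact Or.inr (Or.inl (orderOf_dvd_of_pow_eq_one h))
    · exact Or.inr (Or.inr (orderOf_dvd_of_pow_eq_one h))
  · intro h
    have key : ∀ X : ℕ, X ≠ 0 →
        (∃ g : Matrix.ProjectiveSpecialLinearGroup (Fin 2) F, orderOf g = X) → m ∣ X →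
        ∃ g : Matrix.ProjectiveSpecialLinearGroup (Fin 2) F, orderOf g = m := by
      rintro X hX ⟨g, rfl⟩ hm
      exact ⟨g ^ (orderOf g / m), orderOf_pow_orderOf_div hX hm⟩
    have hdivpos : ∀ N : ℕ, 0 < N → N / Nat.gcd 2 N ≠ 0 := by
      intro N hN
      have h1 : Nat.gcd 2 N ≤ N := Nat.le_of_dvd hN (Nat.gcd_dvd_right 2 N)
      have h2 : 0 < Nat.gcd 2 N := Nat.gcd_pos_of_pos_right 2 hN
      exact (Nat.div_pos h1 h2).ne'
    rcases h with h | h | h
    · exact key p hp.ne_zero ⟨_, orderOf_unip p⟩ h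
    · obtain ⟨x, hx⟩ := IsCyclic.exists_ofOrder_eq_natCard (α := Fˣ)
      rw [Nat.card_units, Nat.card_eq_fintype_card, ← hq] at hx
      refine key _ (hdivpos (q - 1) (by omega)) ⟨QuotientGroup.mk (diagElt x), ?_⟩ h
      apply orderOf_eq_of_forall_pow
      intro n
      rw [diagElt_psl_pow_iff, ← orderOf_dvd_iff_pow_eq_one, hx, dvd_two_mul_iff]
    · obtain ⟨a, ha⟩ := exists_no_root (F := F)
      have : Fact (∀ r : F, r ^ 2 ≠ a + 1 * r) := ⟨ha⟩
      obtain ⟨z, hz, hzo⟩ := exists_norm_one_orderOf (F := F) (a := a) (b := 1)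
      have hgcd : Nat.gcd 2 (q + 1) = Nat.gcd 2 (q - 1) := by
        have : q + 1 = (q - 1) + 2 := by omega
        rw [this, Nat.gcd_add_self_right]
      rw [← hgcd] at h
      refine key _ (hdivpos (q + 1) (by omega)) ⟨QuotientGroup.mk (torusElt a 1 z hz), ?_⟩ h
      apply orderOf_eq_of_forall_pow
      intro n
      rw [torusElt_psl_pow_iff, ← orderOf_dvd_iff_pow_eq_one, hzo, ← hq, dvd_two_mul_iff]

end Cfsg.Agent.S2475
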