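import Cfsg.Statements.S3707

set_option autoImplicit false
open Cfsg

namespace Cfsg.Agent.S3707

open MulAction
open scoped Pointwise
open Classical
set_option linter.unusedSectionVars false
set_option linter.style.haveILetI false

section core
variable (G : Type*) {Ω : Type*} [Group G] [MulAction G Ω] [Fintype Ω]
variable (a : Ω) (B : Set Ω)

/-- `x` and `y` lie in a common translate `g • B` with `g • a = β`. -/
def R (β x y : Ω) : Prop := ∃ g : G, g • a = β ∧ g⁻¹ • x ∈ B ∧ g⁻¹ • y ∈ B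

variable {G a B}

theorem R_symm {β x y : Ω} (h : R G a B β x y) : R G a B β y x := by
  obtain ⟨g, h1, h2, h3⟩ := h
  exact ⟨g, h1, h3, h2⟩

theorem R_smul {β x y : Ω} (k : G) (h : R G a B β x y) : R G a B (k • β) (k • x) (k • y) := by
  obtain ⟨g, h1, h2, h3⟩ := h
  refine ⟨k * g, by rw [mul_smul, h1], ?_, ?_⟩
  · rw [mul_inv_rev, mul_smul, inv_smul_smul]; exact h2
  · rw [mul_inv_rev, mul_smul, inv_smul_smul]; exact h3

theorem R_ne (haB : a ∉ B) {β x y : Ω} (h : R G a B β x y) : x ≠ β := by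
  obtain ⟨g, h1, h2, _⟩ := h
  intro hx
  apply haB
  rw [hx, ← h1, inv_smul_smul] at h2
  exact h2

variable (hblk : ∀ g : G, g • a = a → ∀ u ∈ B, g • u ∈ B → ∀ v ∈ B, g • v ∈ B)
include hblk

theorem R_of {β x y : Ω} (g : G) (hg : g • a = β) (hx : g⁻¹ • x ∈ B) (h : R G a B β x y) :
    g⁻¹ • y ∈ B := by
  obtain ⟨g', h1, h2, h3⟩ := h
  have hfix : (g⁻¹ * g') • a = a := by rw [mul_smul, h1, ← hg, inv_smul_smul]
  have hu : (g⁻¹ * g') • (g'⁻¹ • x) ∈ B := by
    rw [mul_smul, smul_inv_smul]; exact hx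
  have := hblk (g⁻¹ * g') hfix _ h2 hu _ h3
  rwa [mul_smul, smul_inv_smul] at this

theorem R_trans {β x y z : Ω} (h1 : R G a B β x y) (h2 : R G a B β y z) : R G a B β x z := by
  obtain ⟨g, hg, hx, hy⟩ := h1
  exact ⟨g, hg, hx, R_of hblk g hg hy h2⟩

omit hblk in
theorem R_refl (h2 : ∀ x y x' y' : Ω, x ≠ y → x' ≠ y' → ∃ g : G, g • x = x' ∧ g • y = y')
    (haB : a ∉ B) (hBne : B.Nonempty) {β x : Ω} (hx : x ≠ β) : R G a B β x x := by
  obtain ⟨b0, hb0⟩ := hBne
  have hab0 : a ≠ b0 := fun h => haB (h ▸ hb0)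
  obtain ⟨g, hg1, hg2⟩ := h2 a b0 β x hab0 hx.symm
  refine ⟨g, hg1, ?_, ?_⟩ <;> · rw [← hg2, inv_smul_smul]; exact hb0

theorem card_class (h2 : ∀ x y x' y' : Ω, x ≠ y → x' ≠ y' → ∃ g : G, g • x = x' ∧ g • y = y')
    (haB : a ∉ B) (hBne : B.Nonempty) {β x : Ω} (hx : x ≠ β) :
    (Finset.univ.filter (fun y => R G a B β x y)).card = (Finset.univ.filter (fun y => y ∈ B)).card := by
  obtain ⟨g, hg, hgx, _⟩ := R_refl h2 haB hBne hx
  have : Finset.univ.filter (fun y => R G a B β x y)
      = (Finset.univ.filter (fun y => y ∈ B)).image (fun y => g • y) := by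
    ext y
    simp only [Finset.mem_filter, Finset.mem_univ, true_and, Finset.mem_image]
    constructor
    · intro h
      exact ⟨g⁻¹ • y, R_of hblk g hg hgx h, smul_inv_smul g y⟩
    · rintro ⟨u, hu, rfl⟩
      exact ⟨g, hg, hgx, by rwa [inv_smul_smul]⟩
  rw [this, Finset.card_image_of_injective _ (MulAction.injective g)]

/-- the number of base points `β` for which `x, y` are related is `b - 1` -/
theorem card_T (h2 : ∀ x y x' y' : Ω, x ≠ y → x' ≠ y' → ∃ g : G, g • x = x' ∧ g • y = y')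
    (haB : a ∉ B) (hBne : B.Nonempty) {x y0 : Ω} (hxy : x ≠ y0) :
    (Finset.univ.filter (fun β => R G a B β x y0)).card = (Finset.univ.filter (fun y => y ∈ B)).card - 1 := by
  set b := (Finset.univ.filter (fun y => y ∈ B)).card with hb
  set S : Finset Ω := Finset.univ.erase x with hS
  have hbip := Finset.sum_card_bipartiteAbove_eq_sum_card_bipartiteBelow (s := S) (t := S)
    (fun y β => R G a B β x y)
  simp only [Finset.bipartiteAbove, Finset.bipartiteBelow] at hbip
  -- right side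
  have hR : ∀ β ∈ S, (S.filter (fun y => R G a B β x y)).card = b - 1 := by
    intro β hβ
    have hxβ : x ≠ β := by
      rw [hS, Finset.mem_erase] at hβ; exact hβ.1.symm
    have : S.filter (fun y => R G a B β x y) = (Finset.univ.filter (fun y => R G a B β x y)).erase x := by
      ext y
      simp only [hS, Finset.mem_filter, Finset.mem_erase, Finset.mem_univ, true_and, and_true]
    rw [this, Finset.card_erase_of_mem, card_class hblk h2 haB hBne hxβ]
    simp only [Finset.mem_filter, Finset.mem_univ, true_and]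
    exact R_refl h2 haB hBne hxβ
  -- left side
  have hL : ∀ y ∈ S, (S.filter (fun β => R G a B β x y)).card
      = (Finset.univ.filter (fun β => R G a B β x y0)).card := by
    intro y hy
    have hxy' : x ≠ y := by
      rw [hS, Finset.mem_erase] at hy; exact hy.1.symm
    obtain ⟨g, hgx, hgy⟩ := h2 x y0 x y hxy hxy'
    have : S.filter (fun β => R G a B β x y)
        = (Finset.univ.filter (fun β => R G a B β x y0)).image (fun β => g • β) := by
      ext β
      simp only [hS, Finset.mem_filter, Finset.mem_erase, Finset.mem_univ, true_and, and_true,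
        Finset.mem_image]
      constructor
      · rintro ⟨_, h⟩
        refine ⟨g⁻¹ • β, ?_, smul_inv_smul g β⟩
        have hgx' : g⁻¹ • x = x := by rw [inv_smul_eq_iff, hgx]
        have hgy' : g⁻¹ • y = y0 := by rw [inv_smul_eq_iff, hgy]
        have := R_smul g⁻¹ h
        rwa [hgx', hgy'] at this
      · rintro ⟨β', h, rfl⟩
        have := R_smul g h
        rw [hgx, hgy] at this
        exact ⟨(R_ne haB this).symm, this⟩
    rw [this, Finset.card_image_of_injective _ (MulAction.injective g)]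
  rw [Finset.sum_congr rfl hL, Finset.sum_congr rfl hR, Finset.sum_const, Finset.sum_const,
    smul_eq_mul, smul_eq_mul] at hbip
  have hSpos : 0 < S.card := by
    apply Finset.card_pos.mpr
    exact ⟨y0, by rw [hS, Finset.mem_erase]; exact ⟨hxy.symm, Finset.mem_univ _⟩⟩
  exact Nat.eq_of_mul_eq_mul_left hSpos hbip

/-- the core contradiction -/
theorem core (h2 : ∀ x y x' y' : Ω, x ≠ y → x' ≠ y' → ∃ g : G, g • x = x' ∧ g • y = y')
    (haB : a ∉ B) (hb2 : 2 ≤ (Finset.univ.filter (fun y => y ∈ B)).card)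
    (hbn : 2 * (Finset.univ.filter (fun y => y ∈ B)).card + 1 ≤ Fintype.card Ω)
    (Γ : Finset Ω) (hm2 : 2 ≤ Γ.card) (hmn : 2 * Γ.card ≤ Fintype.card Ω)
    (hK : ∀ x ∈ Γ, ∀ y ∈ Γ, ∃ g : G, (∀ z ∉ Γ, g • z = z) ∧ g • x = y) : False := by
  set b := (Finset.univ.filter (fun y => y ∈ B)).card with hb
  have hBne : B.Nonempty := by
    have : 0 < b := by omega
    obtain ⟨u, hu⟩ := Finset.card_pos.mp this
    exact ⟨u, (Finset.mem_filter.mp hu).2⟩
  obtain ⟨x, hxΓ⟩ : Γ.Nonempty := Finset.card_pos.mp (by omega)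
  set Δ : Finset Ω := Finset.univ \ Γ with hΔ
  have hΔcard : Δ.card = Fintype.card Ω - Γ.card := by
    rw [hΔ, Finset.card_sdiff_of_subset (Finset.subset_univ _), Finset.card_univ]
  have hbip := Finset.sum_card_bipartiteAbove_eq_sum_card_bipartiteBelow (s := Δ) (t := Γ.erase x)
    (fun β y => R G a B β x y)
  simp only [Finset.bipartiteAbove, Finset.bipartiteBelow] at hbip
  -- upper bound
  have hU : ∀ y ∈ Γ.erase x, (Δ.filter (fun β => R G a B β x y)).card ≤ b - 1 := by
    intro y hy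
    have hxy : x ≠ y := (Finset.mem_erase.mp hy).1.symm
    rw [← card_T hblk h2 haB hBne hxy]
    exact Finset.card_le_card (Finset.filter_subset_filter _ (Finset.subset_univ _))
  -- lower bound
  have hLow : ∀ β ∈ Δ, min (Γ.card - 1) (b - 1) ≤ ((Γ.erase x).filter (fun y => R G a B β x y)).card := by
    intro β hβ
    have hβΓ : β ∉ Γ := by
      rw [hΔ, Finset.mem_sdiff] at hβ; exact hβ.2
    have hxβ : x ≠ β := fun h => hβΓ (h ▸ hxΓ)
    by_cases hsub : ∀ y, R G a B β x y → y ∈ Γ
    · -- class inside Γ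
      have : (Γ.erase x).filter (fun y => R G a B β x y)
          = (Finset.univ.filter (fun y => R G a B β x y)).erase x := by
        ext y
        simp only [Finset.mem_filter, Finset.mem_erase, Finset.mem_univ, true_and]
        constructor
        · rintro ⟨⟨h1, _⟩, h3⟩; exact ⟨h1, h3⟩
        · rintro ⟨h1, h3⟩; exact ⟨⟨h1, hsub y h3⟩, h3⟩
      rw [this, Finset.card_erase_of_mem, card_class hblk h2 haB hBne hxβ]
      · exact min_le_right _ _
      · simp only [Finset.mem_filter, Finset.mem_univ, true_and]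
        exact R_refl h2 haB hBne hxβ
    · -- Γ inside class
      push Not at hsub
      obtain ⟨δ, hδR, hδΓ⟩ := hsub
      have hall : ∀ x' ∈ Γ, R G a B β x x' := by
        intro x' hx'
        obtain ⟨k, hkfix, hkx⟩ := hK x hxΓ x' hx'
        have h1 := R_smul k hδR
        rw [hkfix β hβΓ, hkx, hkfix δ hδΓ] at h1
        exact R_trans hblk hδR (R_symm h1)
      have : (Γ.erase x).filter (fun y => R G a B β x y) = Γ.erase x := by
        apply Finset.filter_true_of_mem
        intro y hy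
        exact hall y (Finset.mem_of_mem_erase hy)
      rw [this, Finset.card_erase_of_mem hxΓ]
      exact min_le_left _ _
  have h1 : Δ.card * min (Γ.card - 1) (b - 1) ≤ (Γ.card - 1) * (b - 1) := by
    calc Δ.card * min (Γ.card - 1) (b - 1) = ∑ β ∈ Δ, min (Γ.card - 1) (b - 1) := by
          rw [Finset.sum_const, smul_eq_mul]
      _ ≤ ∑ β ∈ Δ, ((Γ.erase x).filter (fun y => R G a B β x y)).card := Finset.sum_le_sum hLow
      _ = ∑ y ∈ Γ.erase x, (Δ.filter (fun β => R G a B β x y)).card := hbip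
      _ ≤ ∑ y ∈ Γ.erase x, (b - 1) := Finset.sum_le_sum hU
      _ = (Γ.card - 1) * (b - 1) := by
          rw [Finset.sum_const, smul_eq_mul, Finset.card_erase_of_mem hxΓ]
  rw [hΔcard] at h1
  set m := Γ.card with hm
  set n := Fintype.card Ω with hn
  rcases le_total (m - 1) (b - 1) with hle | hle
  · rw [min_eq_left hle] at h1
    have hpos : 0 < m - 1 := by omega
    have h3 : n - m ≤ b - 1 := by
      rw [mul_comm] at h1
      exact Nat.le_of_mul_le_mul_left h1 hpos
    omega
  · rw [min_eq_right hle] at h1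
    have hpos : 0 < b - 1 := by omega
    have h3 : n - m ≤ m - 1 := Nat.le_of_mul_le_mul_right h1 hpos
    omega

end core

section wrap
variable {G Ω : Type*} [Group G] [MulAction G Ω] [Finite Ω]

/-- the fixing subgroup of the complement of a Jordan set is transitive on it -/
theorem pretransitive_fixing (Γ : Set Ω)
    (htr : ∀ x ∈ Γ, ∀ y ∈ Γ, ∃ g : G, (∀ z ∉ Γ, g • z = z) ∧ g • x = y) :
    IsPretransitive (fixingSubgroup G Γᶜ) (SubMulAction.ofFixingSubgroup G Γᶜ) := by
  constructor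
  intro x y
  have hx : (x : Ω) ∈ Γ := by
    have := x.2
    rw [SubMulAction.mem_ofFixingSubgroup_iff] at this
    simpa using this
  have hy : (y : Ω) ∈ Γ := by
    have := y.2
    rw [SubMulAction.mem_ofFixingSubgroup_iff] at this
    simpa using this
  obtain ⟨g, hg1, hg2⟩ := htr x hx y hy
  refine ⟨⟨g, ?_⟩, ?_⟩
  · rw [mem_fixingSubgroup_iff]
    intro z hz
    exact hg1 z hz
  · apply Subtype.ext
    exact hg2

/-- two-transitivity in elementary form -/
theorem two_trans_elem (h2 : IsMultiplyPretransitive G Ω 2) :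
    ∀ x y x' y' : Ω, x ≠ y → x' ≠ y' → ∃ g : G, g • x = x' ∧ g • y = y' := by
  intro x y x' y' hxy hxy'
  rw [is_two_pretransitive_iff] at h2
  exact h2 hxy hxy'

/-- step 1: a primitive group with a proper Jordan set (of size at least 2) is 2-transitive -/
theorem step1 (hprim : IsPreprimitive G Ω) (Γ : Set Ω) (h1 : 1 < Γ.ncard)
    (h2 : Γ.ncard < Nat.card Ω)
    (htr : ∀ x ∈ Γ, ∀ y ∈ Γ, ∃ g : G, (∀ z ∉ Γ, g • z = z) ∧ g • x = y) :
    IsMultiplyPretransitive G Ω 2 := by
  have hc : Γᶜ.ncard = Nat.card Ω - Γ.ncard := Set.ncard_compl Γ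
  have hsn : Γᶜ.ncard = (Γᶜ.ncard - 1) + 1 := by omega
  have hsn' : (Γᶜ.ncard - 1) + 2 < Nat.card Ω := by omega
  exact hprim.is_two_pretransitive hsn hsn' (pretransitive_fixing Γ htr)

theorem card_filter_mem [Fintype Ω] (s : Set Ω) :
    (Finset.univ.filter (fun y => y ∈ s)).card = s.ncard := by
  rw [← Set.ncard_coe_finset]
  congr 1
  ext y
  simp

/-- step 2: the point stabilizer is primitive on the remaining points -/
theorem step2 (h2 : IsMultiplyPretransitive G Ω 2) (Γ : Set Ω) (h1 : 1 < Γ.ncard)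
    (h2' : 2 * Γ.ncard ≤ Nat.card Ω)
    (htr : ∀ x ∈ Γ, ∀ y ∈ Γ, ∃ g : G, (∀ z ∉ Γ, g • z = z) ∧ g • x = y) (a : Ω) :
    IsPreprimitive (stabilizer G a) (SubMulAction.ofStabilizer G a) := by
  haveI : IsPretransitive G Ω := isPretransitive_of_is_two_pretransitive
  haveI : IsPretransitive (stabilizer G a) (SubMulAction.ofStabilizer G a) := by
    rw [← is_one_pretransitive_iff, ← SubMulAction.ofStabilizer.isMultiplyPretransitive]
    exact h2
  refine ⟨?_⟩
  intro B' hB'
  by_contra hnt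
  unfold IsTrivialBlock at hnt
  push Not at hnt
  obtain ⟨hns, hnu⟩ := hnt
  letI : Fintype Ω := Fintype.ofFinite Ω
  have hblk : ∀ g : G, g • a = a → ∀ u ∈ Subtype.val '' B', g • u ∈ Subtype.val '' B' →
      ∀ v ∈ Subtype.val '' B', g • v ∈ Subtype.val '' B' := by
    rintro g hg _ ⟨u, hu, rfl⟩ ⟨u', hu', hgu⟩ _ ⟨v, hv, rfl⟩
    have hgu' : (⟨g, hg⟩ : stabilizer G a) • u ∈ B' := by
      have : (⟨g, hg⟩ : stabilizer G a) • u = u' := by
        apply Subtype.ext
        exact hgu.symm
      rw [this]; exact hu'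
    have heq : (⟨g, hg⟩ : stabilizer G a) • B' = B' :=
      (isBlock_iff_smul_eq_of_mem.mp hB') hu hgu'
    have hv' : (⟨g, hg⟩ : stabilizer G a) • v ∈ B' := by
      rw [← heq]
      exact Set.smul_mem_smul_set hv
    exact ⟨_, hv', rfl⟩
  have haB : a ∉ Subtype.val '' B' := by
    rintro ⟨u, _, hu⟩
    have := u.2
    rw [SubMulAction.mem_ofStabilizer_iff] at this
    exact this hu
  have hcardB : (Finset.univ.filter (fun y => y ∈ Subtype.val '' B')).card = B'.ncard := by
    rw [card_filter_mem, Set.ncard_image_of_injective _ Subtype.val_injective]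
  have hb2 : 2 ≤ (Finset.univ.filter (fun y => y ∈ Subtype.val '' B')).card := by
    rw [hcardB]
    exact Set.one_lt_ncard_iff_nontrivial.mpr hns
  have hbn : 2 * (Finset.univ.filter (fun y => y ∈ Subtype.val '' B')).card + 1 ≤ Fintype.card Ω := by
    rw [hcardB]
    have h3 : ¬ Nat.card (SubMulAction.ofStabilizer G a) < B'.ncard * 2 := fun h =>
      hnu (hB'.eq_univ_of_card_lt h)
    have h4 := SubMulAction.nat_card_ofStabilizer_add_one_eq G a
    rw [Nat.card_eq_fintype_card (α := Ω)] at h4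
    omega
  set Γf : Finset Ω := Finset.univ.filter (fun y => y ∈ Γ) with hΓf
  have hΓcard : Γf.card = Γ.ncard := card_filter_mem Γ
  refine core hblk (two_trans_elem h2) haB hb2 hbn Γf (by omega) ?_ ?_
  · rw [hΓcard, ← Nat.card_eq_fintype_card]; exact h2'
  · intro x hx y hy
    simp only [hΓf, Finset.mem_filter, Finset.mem_univ, true_and] at hx hy
    obtain ⟨g, hg1, hg2⟩ := htr x hx y hy
    refine ⟨g, ?_, hg2⟩
    intro z hz
    apply hg1
    simpa [hΓf] using hz

/-- final step -/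
theorem step3 (hprim : IsPreprimitive G Ω) (Γ : Set Ω) (h1 : 1 < Γ.ncard)
    (h2 : 2 * Γ.ncard ≤ Nat.card Ω)
    (htr : ∀ x ∈ Γ, ∀ y ∈ Γ, ∃ g : G, (∀ z ∉ Γ, g • z = z) ∧ g • x = y) :
    IsMultiplyPretransitive G Ω 3 := by
  have hpos : 0 < Nat.card Ω := by omega
  have h2t : IsMultiplyPretransitive G Ω 2 := step1 hprim Γ h1 (by omega) htr
  haveI : IsPretransitive G Ω := isPretransitive_of_is_two_pretransitive
  -- choose a point outside Γ
  have hc : Γᶜ.ncard = Nat.card Ω - Γ.ncard := Set.ncard_compl Γ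
  have hcpos : 0 < Γᶜ.ncard := by omega
  obtain ⟨a, ha⟩ := (Set.ncard_pos (Γᶜ).toFinite).mp hcpos
  have ha' : a ∉ Γ := ha
  have hprim' := step2 h2t Γ h1 h2 htr a
  rw [SubMulAction.ofStabilizer.isMultiplyPretransitive (n := 2) (a := a)]
  -- the Jordan set inside the complement of a
  set Γ' : Set (SubMulAction.ofStabilizer G a) := Subtype.val ⁻¹' Γ with hΓ'
  have hΓ'card : Γ'.ncard = Γ.ncard := by
    rw [hΓ']
    apply Set.ncard_preimage_of_injective_subset_range Subtype.val_injective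
    intro x hx
    refine ⟨⟨x, ?_⟩, rfl⟩
    rw [SubMulAction.mem_ofStabilizer_iff]
    intro h
    exact ha' (h ▸ hx)
  have hcard' := SubMulAction.nat_card_ofStabilizer_add_one_eq G a
  apply step1 hprim' Γ' (by omega) (by omega)
  intro x hx y hy
  obtain ⟨g, hg1, hg2⟩ := htr x.1 hx y.1 hy
  have hga : g • a = a := hg1 a ha'
  refine ⟨⟨g, hga⟩, ?_, ?_⟩
  · intro z hz
    apply Subtype.ext
    exact hg1 z.1 hz
  · apply Subtype.ext
    exact hg2

end wrap

/-- Let G be a finite primitive permutation group on Ω of degree n and Γ ⊂ Ω a subset with 1 < #Γ ≤ n/2 such that the pointwise stabilizer of Ω ∖ Γ is transitive on Γ. Then G is 3-transitive on Ω. -/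
theorem result {G Ω : Type*} [Group G] [Finite G] [MulAction G Ω] [FaithfulSMul G Ω] [Finite Ω] (hprim : MulAction.IsPreprimitive G Ω) (Γ : Set Ω) (h1 : 1 < Γ.ncard) (h2 : 2 * Γ.ncard ≤ Nat.card Ω) (htr : ∀ x ∈ Γ, ∀ y ∈ Γ, ∃ g : G, (∀ z ∉ Γ, g • z = z) ∧ g • x = y) : MulAction.IsMultiplyPretransitive G Ω 3 :=
  step3 hprim Γ h1 h2 htr

end Cfsg.Agent.S3707
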