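import Cfsg.Statements.S5959
import Cfsg.Agent.Lib.Helper43_JordanSum
import Cfsg.Agent.Lib.Helper43_Jordan4

set_option autoImplicit false
open scoped MatrixGroups
open Cfsg

namespace Cfsg.Agent.S5959

open Module Polynomial
open Cfsg.Agent.Lib.Helper43_Jordan

section aux

universe u

variable {F : Type u} [Field F]

/-- in characteristic `p`, `(T - 1)^(p-1) = 1 + T + ... + T^(p-1)` -/
theorem sub_one_pow_pred {V : Type*} [AddCommGroup V] [Module F V] (p : ℕ) [Fact p.Prime]
    [CharP F p] (T : End F V) : (T - 1) ^ (p - 1) = ∑ i ∈ Finset.range p, T ^ i := by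
  have hpp : p.Prime := Fact.out
  have hpoly : ((X : F[X]) - 1) ^ (p - 1) = ∑ i ∈ Finset.range p, (X : F[X]) ^ i := by
    have hne : (X : F[X]) - 1 ≠ 0 := by
      have := X_sub_C_ne_zero (1 : F)
      rwa [map_one] at this
    apply mul_left_cancel₀ hne
    rw [mul_geom_sum, ← pow_succ', Nat.sub_add_cancel hpp.one_le, sub_pow_char, one_pow]
  have := congrArg (Polynomial.aeval T) hpoly
  simpa using this

variable {V : Type u} [AddCommGroup V] [Module F V] [FiniteDimensional F V]

/-- the number of blocks of the largest possible size is the rank of the corresponding power -/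
theorem count_eq_finrank_range (N : End F V) (hN : IsNilpotent N) (p : ℕ) (hp : 1 ≤ p)
    (hle : ∀ a ∈ jtype N, a ≤ p) :
    Multiset.count p (jtype N) = finrank F (LinearMap.range (N ^ (p - 1))) := by
  classical
  obtain ⟨ι, hι, d, b, hd, hb, hj⟩ := jtype_spec N hN
  rw [hb.finrank_range_pow, hj, count_map_eq_blockCount, blockCount, Fintype.card_subtype,
    Finset.card_filter]
  apply Finset.sum_congr rfl
  intro i _
  have h1 : d i ≤ p := by
    apply hle
    rw [hj]
    exact Multiset.mem_map_of_mem d (Finset.mem_univ_val i)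
  have h2 := hd i
  split_ifs with h
  · omega
  · omega

/-- the Jordan type of a nilpotent endomorphism splits along a decomposition into invariant
subspaces -/
theorem jtype_of_isCompl (N : End F V) (hN : IsNilpotent N) (D W : Submodule F V)
    (hDW : IsCompl D W) (hD : ∀ v ∈ D, N v ∈ D) (hW : ∀ v ∈ W, N v ∈ W) :
    jtype N = jtype (N.restrict hD) + jtype (N.restrict hW) := by
  have hnD : IsNilpotent (N.restrict hD) := Module.End.isNilpotent.restrict hD hN
  have hnW : IsNilpotent (N.restrict hW) := Module.End.isNilpotent.restrict hW hN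
  rw [← jtype_prodMap hnD hnW]
  symm
  rw [jtype_eq_iff _ (isNilpotent_prodMap hnD hnW) _ hN]
  refine ⟨Submodule.prodEquivOfIsCompl D W hDW, ?_⟩
  rintro ⟨x, y⟩
  rw [Submodule.coe_prodEquivOfIsCompl', LinearMap.prodMap_apply,
    Submodule.coe_prodEquivOfIsCompl', map_add]
  rfl

end aux

/-- Elements of order `p` of PSL_n(q) and imprimitive subgroups: a necessary condition. Here `T = PSL_n(F)` for a field `F` with `q = p^f` elements (`n ≥ 2`, `(n, q) ≠ (2, 2), (2, 3)`), `n = a·t` with `t ≥ 2`, and Ω is the set of direct-sum decompositions of `F^n` into `t` subspaces of dimension `a` (unordered; their number is the number of ordered ones divided by `t!`), whose stabilizers are the imprimitive subgroups of type GL_a(q) ≀ S_t (maximal except in some small cases; maximality is not assumed); an element of `T` of prime order `r` (a matrix `x` of determinant 1 with `x^r` scalar, `x` not scalar) fixes a point of Ω when it permutes the summands of some such decomposition. Suppose `p > 2` divides the number of such decompositions. If every element of `T`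 of order `p` stabilizes such a decomposition, then every partition of `n` into parts of size at most `p` in which the part `p` occurs fewer than `a` times contains (as a sub-multiset) a partition of `a`. -/
theorem result {F : Type*} [Field F] [Fintype F] {p : ℕ} [Fact p.Prime] [CharP F p] {q : ℕ} (hq : Fintype.card F = q)
    (n a t : ℕ) (hn : 2 ≤ n) (hT : (n, q) ≠ (2, 2) ∧ (n, q) ≠ (2, 3)) (hat : n = a * t) (ha : 1 ≤ a) (ht : 2 ≤ t)
    (hp : 2 < p) (hΩ : p ∣ Nat.card {D : Fin t → Submodule F (Fin n → F) // Cfsg.Geo.IsMDecomposition a D} / Nat.factorial t)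
    (h : ∀ x : Matrix.SpecialLinearGroup (Fin n) F,
      (∃ z : F, ((x ^ p : Matrix.SpecialLinearGroup (Fin n) F) : Matrix (Fin n) (Fin n) F) = z • (1 : Matrix (Fin n) (Fin n) F)) →
      (∀ z : F, (x : Matrix (Fin n) (Fin n) F) ≠ z • (1 : Matrix (Fin n) (Fin n) F)) →
      ∃ D : Fin t → Submodule F (Fin n → F), Cfsg.Geo.IsMDecomposition a D ∧
        ∃ σ : Equiv.Perm (Fin t), ∀ j, (D j).map (Matrix.toLin' (x : Matrix (Fin n) (Fin n) F)) = D (σ j)) :
    (∀ μ : Multiset ℕ, (∀ b ∈ μ, 0 < b ∧ b ≤ p) → μ.sum = n → μ.count p < a → ∃ ν : Multiset ℕ, ν ≤ μ ∧ ν.sum = a) := by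
  classical
  have hpp : p.Prime := Fact.out
  intro μ hμ1 hμ2 hμ3
  by_cases hall : ∀ b ∈ μ, b ≤ 1
  · have h1 : ∀ b ∈ μ, b = 1 := fun b hb => by
      have := hall b hb
      have := (hμ1 b hb).1
      omega
    have h2 := Multiset.eq_replicate_card.2 h1
    have h3 : Multiset.card μ = n := by
      have := hμ2
      rw [h2, Multiset.sum_replicate, smul_eq_mul, mul_one] at this
      exact this
    refine ⟨Multiset.replicate a 1, ?_, ?_⟩
    · rw [h2, h3, Multiset.replicate_le_replicate, hat]
      exact Nat.le_mul_of_pos_right a (by omega)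
    · rw [Multiset.sum_replicate, smul_eq_mul, mul_one]
  · have hfr : finrank F (Fin n → F) = n := Module.finrank_fin_fun F
    obtain ⟨N, hN, hNμ⟩ := exists_jtype_eq (F := F) (V := Fin n → F) μ
      (fun b hb => (hμ1 b hb).1) (by rw [hμ2, hfr])
    have hNp : N ^ p = 0 := by
      rw [pow_eq_zero_iff_jtype _ hN, hNμ]
      exact fun b hb => (hμ1 b hb).2
    have hN1 : N ≠ 0 := by
      intro h0
      apply hall
      have : N ^ 1 = 0 := by rw [pow_one, h0]
      rw [pow_eq_zero_iff_jtype _ hN, hNμ] at this
      exact this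
    set M : Matrix (Fin n) (Fin n) F := LinearMap.toMatrix' N with hM
    have hMN : Matrix.toLin' M = N := Matrix.toLin'_toMatrix' N
    have hMp : M ^ p = 0 := by
      apply Matrix.toLin'.injective
      rw [Matrix.toLin'_pow, hMN, hNp, map_zero]
    have hxp : (1 + M) ^ p = 1 := by
      have := sub_one_pow_char_pow (F := F) p (1 + M) 1
      rw [pow_one, add_sub_cancel_left, hMp] at this
      exact sub_eq_zero.1 this.symm
    have hdet : (1 + M).det = 1 := by
      have h1 : (1 + M).det ^ p = 1 := by rw [← Matrix.det_pow, hxp, Matrix.det_one]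
      have h2 : ((1 + M).det - 1) ^ p = 0 := by rw [sub_pow_char, h1, one_pow, sub_self]
      exact sub_eq_zero.1 ((pow_eq_zero_iff hpp.ne_zero).1 h2)
    let x : Matrix.SpecialLinearGroup (Fin n) F := ⟨1 + M, hdet⟩
    have hx1 : ∃ z : F, ((x ^ p : Matrix.SpecialLinearGroup (Fin n) F) :
        Matrix (Fin n) (Fin n) F) = z • (1 : Matrix (Fin n) (Fin n) F) := by
      refine ⟨1, ?_⟩
      rw [Matrix.SpecialLinearGroup.coe_pow, one_smul]
      exact hxp
    have hx2 : ∀ z : F, (x : Matrix (Fin n) (Fin n) F) ≠
        z • (1 : Matrix (Fin n) (Fin n) F) := by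
      intro z hz
      have hz1 : (1 : Matrix (Fin n) (Fin n) F) + M = z • 1 := hz
      have hz' : M = (z - 1) • (1 : Matrix (Fin n) (Fin n) F) := by
        rw [sub_smul, one_smul, ← hz1, add_sub_cancel_left]
      have hz0 : (z - 1) ^ p = 0 := by
        have := hMp
        rw [hz', _root_.smul_pow, one_pow] at this
        have h00 := congrFun (congrFun this ⟨0, by omega⟩) ⟨0, by omega⟩
        simpa using h00
      have hz2 : z - 1 = 0 := (pow_eq_zero_iff hpp.ne_zero).1 hz0
      apply hN1
      rw [← hMN, hz', hz2, zero_smul, map_zero]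
    obtain ⟨D, hD, σ, hσ⟩ := h x hx1 hx2
    set T : End F (Fin n → F) := Matrix.toLin' (1 + M) with hTdef
    have hσ' : ∀ j, (D j).map T = D (σ j) := hσ
    have hTN : T = 1 + N := by
      rw [hTdef, map_add, Matrix.toLin'_one, hMN]
      rfl
    have hNT : N = T - 1 := by rw [hTN, add_sub_cancel_left]
    have hTp : T ^ p = 1 := by
      rw [hTdef, ← Matrix.toLin'_pow, hxp, Matrix.toLin'_one]
      rfl
    have hpow : ∀ (i : ℕ) (j : Fin t), (D j).map (T ^ i) = D ((σ ^ i) j) := by
      intro i
      induction i with
      | zero =>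
        intro j
        rw [pow_zero, pow_zero, Module.End.one_eq_id, Submodule.map_id, Equiv.Perm.one_apply]
      | succ i ih =>
        intro j
        rw [pow_succ', Module.End.mul_eq_comp, Submodule.map_comp, ih, hσ', pow_succ',
          Equiv.Perm.mul_apply]
    have hmem : ∀ (i : ℕ) (j : Fin t) (v : Fin n → F), v ∈ D j → (T ^ i) v ∈ D ((σ ^ i) j) := by
      intro i j v hv
      rw [← hpow]
      exact Submodule.mem_map_of_mem hv
    have hle_W : ∀ j₀ j : Fin t, j ≠ j₀ → D j ≤ ⨆ (k) (_ : k ≠ j₀), D k :=
      fun j₀ j hj => le_iSup₂ (f := fun k (_ : k ≠ j₀) => D k) j hj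
    have hDinj : ∀ i j : Fin t, D i = D j → i = j := by
      intro i j hij
      by_contra hne
      have h1 := hD.indep i
      have h2 : D i ≤ ⨆ (k) (_ : k ≠ i), D k := by
        rw [hij]
        exact hle_W i j (Ne.symm hne)
      have h3 : D i = ⊥ := by
        rw [eq_bot_iff]
        exact h1 le_rfl h2
      have h4 := hD.finrank_eq i
      rw [h3, finrank_bot] at h4
      omega
    have hσp : ∀ j, (σ ^ p) j = j := by
      intro j
      apply hDinj
      rw [← hpow, hTp, Module.End.one_eq_id, Submodule.map_id]
    by_cases hfix : ∃ j, σ j = j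
    · obtain ⟨j₀, hj₀⟩ := hfix
      set W : Submodule F (Fin n → F) := ⨆ (k) (_ : k ≠ j₀), D k with hW
      have hDW : IsCompl (D j₀) W := by
        refine ⟨hD.indep j₀, codisjoint_iff.2 ?_⟩
        rw [hW, ← iSup_split_single]
        exact hD.iSup_eq_top
      have hTD : ∀ v ∈ D j₀, T v ∈ D j₀ := by
        intro v hv
        have : T v ∈ (D j₀).map T := Submodule.mem_map_of_mem hv
        rwa [hσ', hj₀] at this
      have hND : ∀ v ∈ D j₀, N v ∈ D j₀ := by
        intro v hv
        rw [hNT, LinearMap.sub_apply, Module.End.one_apply]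
        exact (D j₀).sub_mem (hTD v hv) hv
      have hTW : ∀ v ∈ W, T v ∈ W := by
        intro v hv
        have h1 : T v ∈ W.map T := Submodule.mem_map_of_mem hv
        have h2 : W.map T ≤ W := by
          rw [hW, Submodule.map_iSup]
          apply iSup_le
          intro j
          rw [Submodule.map_iSup]
          apply iSup_le
          intro hj
          rw [hσ']
          apply hle_W
          intro h'
          apply hj
          apply σ.injective
          rw [h', hj₀]
        exact h2 h1
      have hNW : ∀ v ∈ W, N v ∈ W := by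
        intro v hv
        rw [hNT, LinearMap.sub_apply, Module.End.one_apply]
        exact W.sub_mem (hTW v hv) hv
      have hsplit := jtype_of_isCompl N hN (D j₀) W hDW hND hNW
      refine ⟨jtype (N.restrict hND), ?_, ?_⟩
      · rw [← hNμ, hsplit]
        exact Multiset.le_add_right _ _
      · rw [jtype_sum _ (Module.End.isNilpotent.restrict hND hN)]
        exact hD.finrank_eq j₀
    · exfalso
      have hfix' : ∀ j, σ j ≠ j := fun j hj => hfix ⟨j, hj⟩
      let j₀ : Fin t := ⟨0, by omega⟩
      have hne : ∀ i : ℕ, 0 < i → i < p → (σ ^ i) j₀ ≠ j₀ := by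
        intro i hi0 hip hij
        have hcop : Nat.Coprime i p :=
          ((Nat.Prime.coprime_iff_not_dvd hpp).2 (Nat.not_dvd_of_pos_of_lt hi0 hip)).symm
        obtain ⟨m, -, hm⟩ := Nat.exists_mul_mod_eq_one_of_coprime hcop hpp.one_lt
        have h1 : ∀ k : ℕ, ((σ ^ i) ^ k) j₀ = j₀ := by
          intro k
          induction k with
          | zero => rw [pow_zero, Equiv.Perm.one_apply]
          | succ k ih => rw [pow_succ, Equiv.Perm.mul_apply, hij, ih]
        have h2 : ∀ k : ℕ, ((σ ^ p) ^ k) = 1 := by
          intro k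
          have : σ ^ p = 1 := Equiv.ext hσp
          rw [this, one_pow]
        have h3 : σ ^ (i * m) = σ := by
          have h4 : i * m = p * (i * m / p) + 1 := by
            have := Nat.div_add_mod (i * m) p
            omega
          rw [h4, pow_succ, pow_mul, h2, one_mul]
        have h5 := h1 m
        rw [← pow_mul, h3] at h5
        exact hfix' j₀ h5
      set W : Submodule F (Fin n → F) := ⨆ (k) (_ : k ≠ j₀), D k with hW
      have hS : N ^ (p - 1) = ∑ i ∈ Finset.range p, T ^ i := by
        rw [hNT]
        exact sub_one_pow_pred p T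
      have hinj : ∀ v ∈ D j₀, (∑ i ∈ Finset.range p, T ^ i) v = 0 → v = 0 := by
        intro v hv hSv
        have hp1 : p = (p - 1) + 1 := (Nat.sub_add_cancel hpp.one_le).symm
        rw [hp1, Finset.sum_range_succ', LinearMap.add_apply, pow_zero, Module.End.one_apply,
          LinearMap.sum_apply] at hSv
        have hw : ∑ i ∈ Finset.range (p - 1), (T ^ (i + 1)) v ∈ W := by
          apply Submodule.sum_mem
          intro i hi
          rw [Finset.mem_range] at hi
          exact hle_W j₀ _ (hne (i + 1) (by omega) (by omega)) (hmem (i + 1) j₀ v hv)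
        have hvW : v ∈ W := by
          have : v = -∑ i ∈ Finset.range (p - 1), (T ^ (i + 1)) v :=
            eq_neg_of_add_eq_zero_right hSv
          rw [this]
          exact W.neg_mem hw
        exact Submodule.disjoint_def.1 (hD.indep j₀) v hv hvW
      have hrank : a ≤ finrank F (LinearMap.range (∑ i ∈ Finset.range p, T ^ i)) := by
        set S : End F (Fin n → F) := ∑ i ∈ Finset.range p, T ^ i with hSdef
        have hfinj : Function.Injective (S.domRestrict (D j₀)) := by
          rw [← LinearMap.ker_eq_bot, LinearMap.ker_eq_bot']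
          intro v hv
          apply Subtype.ext
          exact hinj v.1 v.2 hv
        have h1 := LinearMap.finrank_range_of_inj hfinj
        rw [hD.finrank_eq j₀] at h1
        rw [← h1]
        apply Submodule.finrank_mono
        rintro _ ⟨v, rfl⟩
        exact ⟨v.1, rfl⟩
      have hcount := count_eq_finrank_range N hN p hpp.one_le
        (by rw [hNμ]; exact fun b hb => (hμ1 b hb).2)
      rw [hNμ, hS] at hcount
      omega

end Cfsg.Agent.S5959
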