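import Cfsg.Statements.S0775
import Cfsg.Agent.Lib.Helper13_IsoFrames
import Cfsg.Agent.Lib.Helper13_Symp
import Cfsg.Agent.Lib.Helper94_Bridge
import Cfsg.Agent.Lib.Helper5_SpOrder
import Cfsg.Agent.S0749

set_option autoImplicit false
open Cfsg

namespace Cfsg.Agent.S0775

open Matrix Module Submodule Cfsg.Agent.Lib.Helper94_Bridge Cfsg.Agent.Lib.Helper13_IsoFrames

section
variable {F : Type*} [Field F] {m k : ℕ}

theorem exists_sp_map (b b' : Fin k → (Fin m ⊕ Fin m → F))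
    (hb : IsoFrame (Bsymp m F) k b) (hb' : IsoFrame (Bsymp m F) k b') :
    ∃ g : Matrix.symplecticGroup (Fin m) F, ∀ i, g.1 *ᵥ b i = b' i := by
  set X := span F (Set.range b) with hX
  set Y := span F (Set.range b') with hY
  let bX : Basis (Fin k) F X := Basis.span hb.1
  let bY : Basis (Fin k) F Y := Basis.span hb'.1
  let φ : X ≃ₗ[F] Y := bX.equiv bY (Equiv.refl _)
  have hφ : ∀ x x' : X, Bsymp m F (φ x : Fin m ⊕ Fin m → F) (φ x' : Fin m ⊕ Fin m → F) =
      Bsymp m F (x : Fin m ⊕ Fin m → F) (x' : Fin m ⊕ Fin m → F) := by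
    intro x x'
    rw [form_zero_of_span hb'.2 (φ x).2 (φ x').2, form_zero_of_span hb.2 x.2 x'.2]
  obtain ⟨g, hg1, hg2⟩ := Cfsg.Agent.S0749.result (Bsymp m F) (Bsymp_nondegenerate m)
    (Bsymp_isAlt m) X Y φ hφ
  refine ⟨⟨LinearMap.toMatrix' (g : (Fin m ⊕ Fin m → F) →ₗ[F] (Fin m ⊕ Fin m → F)), ?_⟩, ?_⟩
  · apply Cfsg.Agent.Lib.Helper13_Symp.mem_symplecticGroup_of_preserves
    intro u v
    rw [LinearMap.toMatrix'_mulVec, LinearMap.toMatrix'_mulVec, ← Bsymp_apply, ← Bsymp_apply]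
    exact hg1 u v
  · intro i
    show LinearMap.toMatrix' (g : (Fin m ⊕ Fin m → F) →ₗ[F] (Fin m ⊕ Fin m → F)) *ᵥ b i = b' i
    rw [LinearMap.toMatrix'_mulVec]
    have h1 : (bX i : Fin m ⊕ Fin m → F) = b i := congrArg Subtype.val (Basis.span_apply hb.1 i)
    have h2 : (bY i : Fin m ⊕ Fin m → F) = b' i := congrArg Subtype.val (Basis.span_apply hb'.1 i)
    have h3 := hg2 (bX i)
    rw [h1] at h3
    rw [LinearEquiv.coe_coe, h3]
    show ((bX.equiv bY (Equiv.refl _) (bX i) : Y) : Fin m ⊕ Fin m → F) = b' i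
    rw [Basis.equiv_apply, Equiv.refl_apply, h2]

/-- frames, as a type synonym carrying the action of the symplectic group -/
abbrev Fr (m k : ℕ) (F : Type*) := Fin k → (Fin m ⊕ Fin m → F)

instance : MulAction (Matrix.symplecticGroup (Fin m) F) (Fr m k F) where
  smul g b := fun i => g.1 *ᵥ b i
  one_smul b := by
    funext i
    exact Matrix.one_mulVec _
  mul_smul g h b := by
    funext i
    show (g.1 * h.1) *ᵥ b i = g.1 *ᵥ (h.1 *ᵥ b i)
    rw [Matrix.mulVec_mulVec]

theorem smul_apply (g : Matrix.symplecticGroup (Fin m) F) (b : Fr m k F) (i : Fin k) :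
    (g • b) i = g.1 *ᵥ b i := rfl

theorem coe_inv_mul (g : Matrix.symplecticGroup (Fin m) F) : g⁻¹.1 * g.1 = 1 := by
  have : (g⁻¹ * g : Matrix.symplecticGroup (Fin m) F).1 = 1 := by
    rw [inv_mul_cancel]
    rfl
  exact this

theorem mulVec_injective (g : Matrix.symplecticGroup (Fin m) F) :
    Function.Injective (fun v : Fin m ⊕ Fin m → F => g.1 *ᵥ v) := by
  intro u v h
  have h1 := congrArg (fun x => g⁻¹.1 *ᵥ x) h
  simpa [Matrix.mulVec_mulVec, coe_inv_mul] using h1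

theorem linearIndependent_smul (g : Matrix.symplecticGroup (Fin m) F) (b : Fr m k F)
    (hb : LinearIndependent F (b : Fin k → (Fin m ⊕ Fin m → F))) :
    LinearIndependent F ((g • b : Fr m k F) : Fin k → (Fin m ⊕ Fin m → F)) := by
  have h1 : ((g • b : Fr m k F) : Fin k → (Fin m ⊕ Fin m → F)) = Matrix.toLin' g.1 ∘ b := by
    funext i
    rw [smul_apply, Function.comp_apply, Matrix.toLin'_apply]
  rw [h1]
  apply hb.map'
  rw [LinearMap.ker_eq_bot]
  intro u v h
  rw [Matrix.toLin'_apply, Matrix.toLin'_apply] at h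
  exact mulVec_injective g h

theorem isoFrame_smul (g : Matrix.symplecticGroup (Fin m) F) (b : Fr m k F)
    (hb : IsoFrame (Bsymp m F) k b) : IsoFrame (Bsymp m F) k (g • b : Fr m k F) := by
  refine ⟨linearIndependent_smul g b hb.1, fun i j => ?_⟩
  rw [smul_apply, smul_apply, Bsymp_apply,
    Cfsg.Agent.Lib.Helper13_Symp.sympForm_mulVec_mulVec_of_mem m g.2, ← Bsymp_apply]
  exact hb.2 i j

theorem orbit_eq (b₀ : Fr m k F) (hb₀ : IsoFrame (Bsymp m F) k b₀) :
    MulAction.orbit (Matrix.symplecticGroup (Fin m) F) b₀ =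
      {b : Fr m k F | IsoFrame (Bsymp m F) k b} := by
  ext b
  constructor
  · rintro ⟨g, rfl⟩
    exact isoFrame_smul g b₀ hb₀
  · intro hb
    obtain ⟨g, hg⟩ := exists_sp_map b₀ b hb₀ hb
    exact ⟨g, funext hg⟩

/-- the stabiliser of `W` -/
abbrev HW (W : Submodule F (Fin m ⊕ Fin m → F)) : Subgroup (Matrix.symplecticGroup (Fin m) F) :=
  Cfsg.stabilizing (Cfsg.spToMat m F) (W : Set (Fin m ⊕ Fin m → F))

theorem mem_HW_of_smul (W : Submodule F (Fin m ⊕ Fin m → F))
    (g : Matrix.symplecticGroup (Fin m) F) (b b' : Fr m k F)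
    (hb : span F (Set.range b) = W) (hb' : span F (Set.range b') = W) (h : g • b = b') :
    g ∈ HW W := by
  have hmap : W.map (Matrix.toLin' g.1) = W := by
    conv_lhs => rw [← hb]
    rw [Submodule.map_span, ← Set.range_comp, ← hb', ← h]
    congr 2
  intro v
  show v ∈ W ↔ g.1 *ᵥ v ∈ W
  constructor
  · intro hv
    have h1 : Matrix.toLin' g.1 v ∈ W.map (Matrix.toLin' g.1) := Submodule.mem_map_of_mem hv
    rw [hmap, Matrix.toLin'_apply] at h1
    exact h1
  · intro hv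
    rw [← hmap] at hv
    obtain ⟨w, hw, hwv⟩ := hv
    rw [Matrix.toLin'_apply] at hwv
    have := mulVec_injective g hwv
    rw [← this]
    exact hw

theorem span_eq_of_frame (W : Submodule F (Fin m ⊕ Fin m → F)) (b : Fr m k F)
    (hb : LinearIndependent F (b : Fin k → (Fin m ⊕ Fin m → F))) (hbW : ∀ i, b i ∈ W)
    (hk : finrank F W = k) : span F (Set.range b) = W := by
  apply Submodule.eq_of_le_of_finrank_eq
  · rw [span_le]
    rintro _ ⟨i, rfl⟩
    exact hbW i
  · rw [finrank_span_eq_card hb, Fintype.card_fin, hk]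

theorem orbit_HW_eq (W : Submodule F (Fin m ⊕ Fin m → F)) (hk : finrank F W = k)
    (hW : ∀ u ∈ W, ∀ v ∈ W, Cfsg.sympForm m F u v = 0) (b₀ : Fr m k F)
    (hb₀ : LinearIndependent F (b₀ : Fin k → (Fin m ⊕ Fin m → F))) (hb₀W : ∀ i, b₀ i ∈ W) :
    MulAction.orbit ↥(HW W) b₀ =
      {b : Fr m k F | LinearIndependent F (b : Fin k → (Fin m ⊕ Fin m → F)) ∧ ∀ i, b i ∈ W} := by
  ext b
  constructor
  · rintro ⟨h, rfl⟩
    refine ⟨linearIndependent_smul h.1 b₀ hb₀, fun i => ?_⟩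
    exact (h.2 (b₀ i)).mp (hb₀W i)
  · rintro ⟨hb, hbW⟩
    have hf₀ : IsoFrame (Bsymp m F) k b₀ :=
      ⟨hb₀, fun i j => by rw [Bsymp_apply]; exact hW _ (hb₀W i) _ (hb₀W j)⟩
    have hf : IsoFrame (Bsymp m F) k b :=
      ⟨hb, fun i j => by rw [Bsymp_apply]; exact hW _ (hbW i) _ (hbW j)⟩
    obtain ⟨g, hg⟩ := exists_sp_map b₀ b hf₀ hf
    have hgb : g • b₀ = b := funext hg
    have hgH : g ∈ HW W := mem_HW_of_smul W g b₀ b (span_eq_of_frame W b₀ hb₀ hb₀W hk)
      (span_eq_of_frame W b hb hbW hk) hgb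
    exact ⟨⟨g, hgH⟩, hgb⟩

theorem card_stabilizer_HW (W : Submodule F (Fin m ⊕ Fin m → F)) (b₀ : Fr m k F)
    (hspan : span F (Set.range b₀) = W) :
    Nat.card (MulAction.stabilizer ↥(HW W) b₀) =
      Nat.card (MulAction.stabilizer (Matrix.symplecticGroup (Fin m) F) b₀) := by
  have hle : MulAction.stabilizer (Matrix.symplecticGroup (Fin m) F) b₀ ≤ HW W := by
    intro g hg
    exact mem_HW_of_smul W g b₀ b₀ hspan hspan hg
  have h1 : MulAction.stabilizer ↥(HW W) b₀ =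
      (MulAction.stabilizer (Matrix.symplecticGroup (Fin m) F) b₀).subgroupOf (HW W) := by
    ext h
    rfl
  rw [h1]
  exact Nat.card_congr (Subgroup.subgroupOfEquivOfLe hle).toEquiv

/-- frames inside `W` are linearly independent families of `W` -/
def basesEquiv (W : Submodule F (Fin m ⊕ Fin m → F)) :
    {b : Fr m k F // LinearIndependent F (b : Fin k → (Fin m ⊕ Fin m → F)) ∧ ∀ i, b i ∈ W} ≃
      {s : Fin k → W // LinearIndependent F s} where
  toFun b := ⟨fun i => ⟨b.1 i, b.2.2 i⟩, LinearIndependent.of_comp W.subtype b.2.1⟩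
  invFun s := ⟨fun i => (s.1 i : Fin m ⊕ Fin m → F),
    s.2.map' W.subtype (Submodule.ker_subtype W), fun i => (s.1 i).2⟩
  left_inv _ := rfl
  right_inv _ := rfl

theorem card_bases [Fintype F] (W : Submodule F (Fin m ⊕ Fin m → F)) (hk : finrank F W = k) :
    Nat.card {b : Fr m k F // LinearIndependent F (b : Fin k → (Fin m ⊕ Fin m → F)) ∧
      ∀ i, b i ∈ W} = ∏ i : Fin k, (Fintype.card F ^ k - Fintype.card F ^ (i : ℕ)) := by
  have : Finite W := Module.finite_of_finite F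
  rw [Nat.card_congr (basesEquiv W), card_linearIndependent (le_of_eq hk.symm), hk]

theorem key_count [Fintype F] (W : Submodule F (Fin m ⊕ Fin m → F)) (hk : finrank F W = k)
    (hW : ∀ u ∈ W, ∀ v ∈ W, Cfsg.sympForm m F u v = 0) :
    Nat.card ↥(HW W) *
      ∏ i ∈ Finset.range k, (Fintype.card F ^ (2 * m - i) - Fintype.card F ^ i) =
    (∏ i : Fin k, (Fintype.card F ^ k - Fintype.card F ^ (i : ℕ))) *
      Nat.card (Matrix.symplecticGroup (Fin m) F) := by
  classical
  let bW : Basis (Fin k) F W := Module.finBasisOfFinrankEq F W hk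
  let b₀ : Fr m k F := fun i => (bW i : Fin m ⊕ Fin m → F)
  have hb₀ : LinearIndependent F (b₀ : Fin k → (Fin m ⊕ Fin m → F)) :=
    bW.linearIndependent.map' W.subtype (Submodule.ker_subtype W)
  have hb₀W : ∀ i, b₀ i ∈ W := fun i => (bW i).2
  have hf₀ : IsoFrame (Bsymp m F) k b₀ :=
    ⟨hb₀, fun i j => by rw [Bsymp_apply]; exact hW _ (hb₀W i) _ (hb₀W j)⟩
  have hspan := span_eq_of_frame W b₀ hb₀ hb₀W hk
  have hG := Nat.card_congr
    (MulAction.orbitProdStabilizerEquivGroup (Matrix.symplecticGroup (Fin m) F) b₀)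
  have hH := Nat.card_congr (MulAction.orbitProdStabilizerEquivGroup ↥(HW W) b₀)
  rw [Nat.card_prod] at hG hH
  rw [card_stabilizer_HW W b₀ hspan] at hH
  have hX : Nat.card (MulAction.orbit (Matrix.symplecticGroup (Fin m) F) b₀) =
      ∏ i ∈ Finset.range k, (Fintype.card F ^ (2 * m - i) - Fintype.card F ^ i) := by
    rw [orbit_eq b₀ hf₀]
    have h1 := card_isoFrames (B := Bsymp m F) (Bsymp_nondegenerate m) (Bsymp_isAlt m) k
    have h2 : finrank F (Fin m ⊕ Fin m → F) = 2 * m := by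
      rw [Module.finrank_fintype_fun_eq_card, Fintype.card_sum, Fintype.card_fin]
      ring
    rw [h2] at h1
    exact h1
  have hY : Nat.card (MulAction.orbit ↥(HW W) b₀) =
      ∏ i : Fin k, (Fintype.card F ^ k - Fintype.card F ^ (i : ℕ)) := by
    rw [orbit_HW_eq W hk hW b₀ hb₀ hb₀W]
    exact card_bases W hk
  have hG' : (∏ i ∈ Finset.range k, (Fintype.card F ^ (2 * m - i) - Fintype.card F ^ i)) *
      Nat.card (MulAction.stabilizer (Matrix.symplecticGroup (Fin m) F) b₀) =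
      Nat.card (Matrix.symplecticGroup (Fin m) F) := by
    rw [← hX]
    exact hG
  have hH' : (∏ i : Fin k, (Fintype.card F ^ k - Fintype.card F ^ (i : ℕ))) *
      Nat.card (MulAction.stabilizer (Matrix.symplecticGroup (Fin m) F) b₀) =
      Nat.card ↥(HW W) := by
    rw [← hY]
    exact hH
  rw [← hH', ← hG']
  ring

end

theorem arith (q m : ℕ) : ∀ k, k ≤ m →
    q ^ (k * (k + 1) / 2 + 2 * k * (m - k)) *
      (q ^ ((m - k) ^ 2) * ∏ i ∈ Finset.range (m - k), (q ^ (2 * (i + 1)) - 1)) *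
        ∏ i ∈ Finset.range k, (q ^ (2 * m - i) - q ^ i) =
    q ^ (m ^ 2) * ∏ i ∈ Finset.range m, (q ^ (2 * (i + 1)) - 1) := by
  intro k
  induction k with
  | zero =>
    intro _
    simp
  | succ k ih =>
    intro hk
    have ih' := ih (by omega)
    obtain ⟨d, rfl⟩ := Nat.exists_eq_add_of_le hk
    have h1 : k + 1 + d - (k + 1) = d := by omega
    have h2 : k + 1 + d - k = d + 1 := by omega
    rw [h2] at ih'
    rw [h1]
    rw [← ih', Finset.prod_range_succ (fun i => q ^ (2 * (k + 1 + d) - i) - q ^ i),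
      Finset.prod_range_succ (fun i => q ^ (2 * (i + 1)) - 1)]
    have hexp : (k + 1) * (k + 1 + 1) / 2 = k * (k + 1) / 2 + (k + 1) := by
      have : (k + 1) * (k + 1 + 1) = k * (k + 1) + 2 * (k + 1) := by ring
      rw [this, Nat.add_mul_div_left _ _ (by norm_num : 0 < 2)]
    have hfac : q ^ (2 * (k + 1 + d) - k) - q ^ k = q ^ k * (q ^ (2 * (d + 1)) - 1) := by
      have : 2 * (k + 1 + d) - k = k + 2 * (d + 1) := by omega
      rw [this, Nat.mul_sub, mul_one, pow_add]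
    rw [hexp, hfac]
    ring


theorem result {F : Type*} [Field F] [Fintype F] {q : ℕ} (hF : Fintype.card F = q) (m k : ℕ) (hk : k ≤ m) (W : Submodule F (Fin m ⊕ Fin m → F)) (hWk : Module.finrank F W = k) (hW : ∀ u ∈ W, ∀ v ∈ W, Cfsg.sympForm m F u v = 0) : Nat.card ↥(Cfsg.stabilizing (Cfsg.spToMat m F) (W : Set (Fin m ⊕ Fin m → F))) = q ^ (k * (k + 1) / 2 + 2 * k * (m - k)) * (q ^ ((m - k) ^ 2) * ∏ i ∈ Finset.range (m - k), (q ^ (2 * (i + 1)) - 1)) * ∏ i : Fin k, (q ^ k - q ^ (i : ℕ)) := by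
  subst hF
  have hq : 1 < Fintype.card F := Fintype.one_lt_card
  have h1 := key_count W hWk hW
  rw [Cfsg.Agent.Lib.Helper5_SpOrder.card_sp rfl m] at h1
  have h2 := arith (Fintype.card F) m k hk
  have hP : 0 < ∏ i ∈ Finset.range k,
      (Fintype.card F ^ (2 * m - i) - Fintype.card F ^ i) := by
    apply Finset.prod_pos
    intro i hi
    rw [Finset.mem_range] at hi
    have : Fintype.card F ^ i < Fintype.card F ^ (2 * m - i) :=
      Nat.pow_lt_pow_right hq (by omega)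
    omega
  apply Nat.eq_of_mul_eq_mul_right hP
  rw [h1, ← h2]
  ring

end Cfsg.Agent.S0775
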