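import Cfsg.Statements.S5301
import Cfsg.Agent.Lib.Helper87_Normal
import Cfsg.Agent.Lib.Helper84_FusionEssential

set_option autoImplicit false
universe u
open Cfsg

namespace Cfsg.Agent.S5301

open Cfsg.FusionSystem

/-- A fully automized and receptive subgroup is fully normalized (the converse of the Roberts–Shpectorov
characterization; it needs no saturation). -/
theorem isFullyNormalized_of_isFullyAutomized_of_isReceptive {Ω : Type*} [Group Ω] {S : Subgroup Ω} [Finite S]
    {p : ℕ} [Fact p.Prime] (hS : IsPGroup p S)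
    (F : FusionSystem S) {R : Subgroup Ω} (hRa : F.IsFullyAutomized p R) (hRr : F.IsReceptive R) :
    F.IsFullyNormalized R := by
  refine ⟨hRa.1, fun Q hQ => ?_⟩
  obtain ⟨φ, hφ, hφN, -⟩ := Cfsg.Agent.Lib.Helper84_FusionSat.exists_normalizer_map hS F hRa hRr
    (Cfsg.Agent.Lib.Helper84_Fusion.isConj_symm F hQ)
  have hinj := F.injective_of_mem hφ
  have hle : normalizerIn S R ≤ S := inf_le_left
  have : Finite (normalizerIn S R) :=
    Finite.of_injective (Subgroup.inclusion hle) (Subgroup.inclusion_injective hle)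
  exact Nat.card_le_card_of_injective (fun x => (⟨φ x, hφN x⟩ : normalizerIn S R))
    (fun x y h => hinj (congrArg Subtype.val h))

/-- Let F be a saturated fusion system over a finite p-group S. If for every subgroup P of S that is fully normalized, centric and radical in F the automorphism group that F induces on P has a normal Sylow p-subgroup, then S is normal in F. -/
theorem result {Ω : Type u} [Group Ω] {S : Subgroup Ω} [Finite S] (p : ℕ) [Fact p.Prime] (hS : IsPGroup p S)
    (F : Cfsg.FusionSystem S) (hF : F.IsSaturated p)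
    (hcl : ∀ P : Subgroup Ω, F.IsFullyNormalized P → F.IsCentric P → F.IsRadical p P →
      ∃ R : Sylow p ↥(F.autGroup P), (R : Subgroup ↥(F.autGroup P)).Normal) :
    F.IsNormal S := by
  have hSS : F.StronglyClosed S :=
    ⟨le_rfl, fun R _ φ hφ x => Cfsg.Agent.Lib.Helper87_Alperin.hom_mem F hφ x⟩
  refine Cfsg.Agent.Lib.Helper87_Normal.isNormal_of_le_frc F hS hF hSS ?_
  intro R hRa hRr hRc hRrad
  have hRS : R ≤ S := hRa.1
  have hfinR : Finite R := Finite.of_injective (Subgroup.inclusion hRS) (Subgroup.inclusion_injective hRS)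
  have hfn := isFullyNormalized_of_isFullyAutomized_of_isReceptive hS F hRa hRr
  obtain ⟨P0, hP0⟩ := hcl R hfn hRc hRrad
  obtain ⟨-, T, hT⟩ := hRa
  have hTP0 : T = P0 := by
    obtain ⟨g, hg⟩ := MulAction.exists_smul_eq (F.autGroup R) P0 T
    rw [← hg]
    exact Sylow.smul_eq_of_normal
  by_contra hne
  have hlt : R < S := lt_of_le_of_ne hRS (fun h => hne (h ▸ le_rfl))
  obtain ⟨g, hgN, hgR⟩ := Cfsg.Agent.Lib.Helper84_FusionAlperin.exists_mem_normalizerIn_not_mem hS hlt
  apply hgR
  refine Cfsg.Agent.Lib.Helper84_FusionEssential.mem_of_normalizerMonoidHom_mem_inn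
    (hRc.2 R (Cfsg.Agent.Lib.Helper84_Fusion.isConj_refl F hRS)) hgN.1 hRS hgN.2 ?_
  rw [← hRrad.2]
  have h1 : R.normalizerMonoidHom ⟨g, hgN.2⟩ ∈ autInducedBy S R :=
    Cfsg.Agent.Lib.Helper84_FusionSat.normalizerMonoidHom_mem_autInducedBy hgN.1 hgN.2
  have h2 : R.normalizerMonoidHom ⟨g, hgN.2⟩ ∈ F.autGroup R :=
    Cfsg.Agent.Lib.Helper85_Fusion.autInducedBy_le_autGroup F hRS h1
  refine ⟨⟨_, h2⟩, ?_, rfl⟩
  have h3 : (⟨_, h2⟩ : F.autGroup R) ∈ (T : Subgroup (F.autGroup R)) := by
    rw [hT, Subgroup.mem_subgroupOf]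
    exact h1
  rw [hTP0] at h3
  exact Cfsg.Agent.Lib.Helper87_Alperin2.le_pCore' hP0 P0.2 h3

end Cfsg.Agent.S5301
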