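import Cfsg.Statements.S5087
import Cfsg.Agent.Lib.Helper84_FusionNormal
import Cfsg.Agent.S5080

set_option autoImplicit false
open Cfsg

namespace Cfsg.Agent.S5087

open Cfsg.FusionSystem Cfsg.Agent.Lib.Helper85_Fusion Cfsg.Agent.Lib.Helper84_FusionNormal
  Cfsg.Agent.Lib.Helper84_FusionEssential

/-- In a saturated fusion system over a finite p-group S, a subgroup Q is normal in the system if and only if every subgroup P that equals S or is essential contains Q and every element of Aut_F(P) maps Q onto itself. -/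
theorem result {Ω : Type*} [Group Ω] {S : Subgroup Ω} [Finite S] (p : ℕ) [Fact p.Prime] (hS : IsPGroup p S) (F : Cfsg.FusionSystem S) (hF : F.IsSaturated p) (Q : Subgroup Ω) : F.IsNormal Q ↔ ∀ P : Subgroup Ω, (P = S ∨ F.IsEssential p P) → (Q ≤ P ∧ ∀ α ∈ F.autGroup P, (Q.subgroupOf P).map α.toMonoidHom = Q.subgroupOf P) := by
  constructor
  · intro hQ P hP
    have hQP : Q ≤ P := by
      rcases hP with rfl | hP
      · exact hQ.1
      · exact IsNormal.le_of_isCentric_of_isRadical hS hQ hP.1
          (Cfsg.Agent.S5080.result p hS F hF P hP)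
    have hPS : P ≤ S := by
      rcases hP with rfl | hP
      · exact le_rfl
      · exact hP.1.1
    refine ⟨hQP, fun α hα => ?_⟩
    have hα' := (mem_autGroup_iff F hPS α).1 hα
    obtain ⟨ψ, hψ, hext, himg⟩ := hQ.2 P _ hα'
    ext y
    constructor
    · rintro ⟨x, hx, rfl⟩
      rw [Subgroup.mem_subgroupOf]
      have h1 := hext x
      show ((α x : P) : Ω) ∈ Q
      have h2 : ((α x : P) : Ω) = ψ (Subgroup.inclusion le_sup_left x) := h1.symm
      rw [h2]
      exact apply_mem_of_map_eq ψ himg x (Subgroup.mem_subgroupOf.1 hx) _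
    · intro hy
      rw [Subgroup.mem_subgroupOf] at hy
      obtain ⟨z, hzQ, hzD, hzy⟩ := exists_of_map_eq ψ himg y hy
      have h1 := hext ⟨z, hQP hzQ⟩
      refine ⟨⟨z, hQP hzQ⟩, Subgroup.mem_subgroupOf.2 hzQ, ?_⟩
      apply Subtype.ext
      show ((α ⟨z, hQP hzQ⟩ : P) : Ω) = y
      rw [← hzy]
      exact h1.symm
  · intro h
    exact isNormal_of_autStabilizes hS F hF Q h

end Cfsg.Agent.S5087
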