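import Cfsg.Statements.S5187
import Cfsg.Agent.Lib.Helper88_AbelianEssential
import Cfsg.Agent.S5080

set_option autoImplicit false
universe u
open Cfsg

namespace Cfsg.Agent.S5187

/-- Let F be a saturated fusion system over a finite p-group S and H an abelian essential subgroup that can be generated by two elements (its Frattini quotient has order at most p²). Then H is elementary abelian of order p², or p ≤ 3 and H is homocyclic of rank two, that is isomorphic to C_{pᵏ} × C_{pᵏ} for some k. -/
theorem result {Ω : Type u} [Group Ω] {S : Subgroup Ω} [Finite S] (p : ℕ) [Fact p.Prime] (hS : IsPGroup p S)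
    (F : Cfsg.FusionSystem S) (hF : F.IsSaturated p) (H : Subgroup Ω) (hH : F.IsEssential p H) (hab : IsMulCommutative ↥H) (hrk : (frattini ↥H).index ≤ p ^ 2) :
    (Cfsg.IsElementaryAbelian p H ∧ Nat.card H = p ^ 2) ∨
      (p ≤ 3 ∧ ∃ k : ℕ, Nonempty (↥H ≃* Multiplicative (ZMod (p ^ k) × ZMod (p ^ k)))) := by
  have hrad := Cfsg.Agent.S5080.result p hS F hF H hH
  obtain ⟨hcen, -, hnorm, E, hE⟩ := hH
  have hHS : H ≤ S := hcen.1
  have : Finite H := Finite.of_injective (Subgroup.inclusion hHS) (Subgroup.inclusion_injective hHS)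
  have hP : IsPGroup p H := hS.to_le hHS
  rcases Cfsg.Agent.Lib.Helper88_AbelianEssential.abelian_essential (P := ↥H)
    (fun x y => hab.is_comm.comm x y) hP (F.autGroup H) hrad.2 hE.1 hrk with h | h
  · left
    exact ⟨⟨hab, fun a ha => congrArg Subtype.val (h.1 ⟨a, ha⟩)⟩, h.2⟩
  · right
    exact h

end Cfsg.Agent.S5187
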