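import Cfsg.Statements.S5254
import Cfsg.Agent.Lib.Helper87_IndexP
import Cfsg.Agent.Lib.Helper87_IndexP2
import Cfsg.Agent.Lib.Helper84_Fusion

set_option autoImplicit false
open Cfsg

namespace Cfsg.Agent.S5254

/-- Let p be an odd prime, S a finite nonabelian p-group with a unique abelian subgroup A of index p, and F a saturated fusion system over S. Then every F-essential subgroup P is A, or Z(S)⟨x⟩ for some x ∈ S outside A, or (when the second centre Z₂(S) lies in A) Z₂(S)⟨x⟩ for some x ∈ S outside A; and P has index p in its normalizer in S. -/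
theorem result {Ω : Type*} [Group Ω] {S : Subgroup Ω} [Finite S] (p : ℕ) [Fact p.Prime] (hS : IsPGroup p S) (F : Cfsg.FusionSystem S) (hF : F.IsSaturated p) (hp : p ≠ 2) (hna : ¬ IsMulCommutative ↥S) (A : Subgroup Ω) (hA : A ≤ S ∧ IsMulCommutative ↥A ∧ (A.subgroupOf S).index = p) (huniq : ∀ B : Subgroup Ω, B ≤ S → IsMulCommutative ↥B → (B.subgroupOf S).index = p → B = A) (P : Subgroup Ω) (hP : F.IsEssential p P) : (P = A ∨ (∃ x ∈ S, x ∉ A ∧ P = (S ⊓ Subgroup.centralizer (S : Set Ω)) ⊔ Subgroup.zpowers x) ∨ (((upperCentralSeries ↥S 2).map S.subtype) ≤ A ∧ ∃ x ∈ S, x ∉ A ∧ P = ((upperCentralSeries ↥S 2).map S.subtype) ⊔ Subgroup.zpowers x)) ∧ (P.subgroupOf (S ⊓ Subgroup.normalizer (P : Set Ω))).index = p := by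
  classical
  have hab := Cfsg.Agent.Lib.Helper87_IndexP.abIdx_of_hyp hna hA huniq
  have hPS : P ≤ S := hP.1.1
  by_cases hPA : P = A
  · refine ⟨Or.inl hPA, ?_⟩
    subst hPA
    have h1 : S ⊓ Subgroup.normalizer (P : Set Ω) = S := inf_eq_left.mpr hab.le_normalizer
    rw [h1]
    exact hA.2.2
  · -- `P` is not contained in `A`
    have hcen : Cfsg.FusionSystem.centralizerIn S P ≤ P :=
      hP.1.2 P (Cfsg.Agent.Lib.Helper84_Fusion.isConj_refl F hPS)
    have hnle : ¬ P ≤ A := by
      intro hle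
      apply hPA
      apply le_antisymm hle
      intro a ha
      apply hcen
      refine ⟨hab.le ha, ?_⟩
      show a ∈ Subgroup.centralizer (P : Set Ω)
      rw [Subgroup.mem_centralizer_iff]
      intro y hy
      exact hab.ab y (hle hy) a ha
    obtain ⟨x, hxP, hxA⟩ := SetLike.not_le_iff_exists.1 hnle
    have hctx : Cfsg.Agent.Lib.Helper87_IndexP2.Ctx p S A F P x := ⟨hS, hF, hab, hP, hxP, hxA⟩
    refine ⟨Or.inr ?_, ?_⟩
    · rcases hctx.shape with h1 | h1
      · exact Or.inl ⟨x, hPS hxP, hxA, h1⟩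
      · exact Or.inr ⟨hctx.Z2_le, x, hPS hxP, hxA, h1⟩
    · have hfin : Finite (S ⊓ Subgroup.normalizer (P : Set Ω) : Subgroup Ω) :=
        Finite.of_injective (Subgroup.inclusion (inf_le_left : S ⊓ Subgroup.normalizer (P : Set Ω) ≤ S))
          (Subgroup.inclusion_injective _)
      have hle : P ≤ S ⊓ Subgroup.normalizer (P : Set Ω) := le_inf hPS Subgroup.le_normalizer
      rw [Cfsg.Agent.Lib.Helper87_IndexP.index_subgroupOf_eq_iff hle]
      exact hctx.card_N_eq

end Cfsg.Agent.S5254
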