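import Cfsg.Statements.S4341
import Cfsg.Agent.Lib.Helper72_SylowNum
import Cfsg.Agent.S4309

set_option autoImplicit false
open Cfsg
open scoped Pointwise

namespace Cfsg.Agent.S4341

open Cfsg.Agent.Lib.Helper72_SylowNum

section
variable {X : Type*} [Group X] [Finite X] {p : ℕ} [Fact p.Prime]

/-- a `p`-group has exactly one Sylow `p`-subgroup -/
theorem card_sylow_of_isPGroup (hX : IsPGroup p X) : Nat.card (Sylow p X) = 1 := by
  have : Subsingleton (Sylow p X) := by
    constructor
    intro A B
    apply Sylow.ext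
    have hA : (A : Subgroup X) = ⊤ := (A.is_maximal' (hX.to_subgroup ⊤) le_top).symm
    have hB : (B : Subgroup X) = ⊤ := (B.is_maximal' (hX.to_subgroup ⊤) le_top).symm
    rw [hA, hB]
  exact Nat.card_unique

/-- quotient by a normal `p`-subgroup does not change the number of Sylow `p`-subgroups -/
theorem card_sylow_quotient_pgroup (D : Subgroup X) [D.Normal] (hD : IsPGroup p D) :
    Nat.card (Sylow p (X ⧸ D)) = Nat.card (Sylow p X) := by
  obtain ⟨P⟩ : Nonempty (Sylow p X) := inferInstance
  have h1 := card_sylow_eq_mul P D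
  have hDP : D ≤ (P : Subgroup X) := hD.le_sylow_of_normal P
  have h2 : (Subgroup.normalizer ((P : Subgroup X) : Set X)).relIndex D = 1 := by
    rw [Subgroup.relIndex_eq_one]
    exact hDP.trans Subgroup.le_normalizer
  rw [h1, h2, mul_one]

/-- if `X = P K'` with `K'` normal then `n_p(X) = |K' : N_{K'}(P)|` -/
theorem card_sylow_of_forall_pow_mem (P : Sylow p X) (K' : Subgroup X) [K'.Normal]
    (h : ∀ x : X, ∃ k : ℕ, x ^ p ^ k ∈ K') :
    Nat.card (Sylow p X) = (Subgroup.normalizer ((P : Subgroup X) : Set X)).relIndex K' := by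
  have h1 := card_sylow_eq_mul P K'
  have hq : IsPGroup p (X ⧸ K') := by
    intro y
    obtain ⟨x, rfl⟩ := QuotientGroup.mk_surjective y
    obtain ⟨k, hk⟩ := h x
    refine ⟨k, ?_⟩
    rw [← QuotientGroup.mk_pow]
    exact (QuotientGroup.eq_one_iff _).mpr hk
  rw [h1, card_sylow_of_isPGroup hq, one_mul]

end

theorem result {G : Type*} [Group G] [Finite G]
    (p : ℕ) [Fact p.Prime] (K : Subgroup G) [K.Normal] (P : Sylow p G) (N : Subgroup G)
    (hN : N = ((P : Subgroup G) ⊔ K) ⊓ Subgroup.normalizer (((P : Subgroup G) ⊓ K : Subgroup G) : Set G))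
    [hn : (((P : Subgroup G) ⊓ K).subgroupOf N).Normal] :
    Nat.card (Sylow p G) =
      Nat.card (Sylow p (G ⧸ K)) * Nat.card (Sylow p K) * Nat.card (Sylow p (N ⧸ ((P : Subgroup G) ⊓ K).subgroupOf N)) := by
  set A := Subgroup.normalizer ((P : Subgroup G) : Set G) with hA
  set D := (P : Subgroup G) ⊓ K with hD
  set B := Subgroup.normalizer (D : Set G) with hB
  have hAB : A ≤ B := by
    intro g hg
    rw [hB, Subgroup.mem_set_normalizer_iff]
    rw [hA, Subgroup.mem_set_normalizer_iff] at hg
    intro h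
    simp only [hD, Subgroup.coe_inf, Set.mem_inter_iff, SetLike.mem_coe]
    have hK : h ∈ K ↔ g * h * g⁻¹ ∈ K := by
      constructor
      · intro hh; exact (inferInstance : K.Normal).conj_mem h hh g
      · intro hh
        have := (inferInstance : K.Normal).conj_mem _ hh g⁻¹
        simpa [mul_assoc] using this
    rw [← hK]
    have := hg h
    simp only [SetLike.mem_coe] at this
    rw [this]
  -- (1)
  have h1 : Nat.card (Sylow p G) = Nat.card (Sylow p (G ⧸ K)) * A.relIndex K :=
    card_sylow_eq_mul P K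
  -- (2)
  have h2 : A.relIndex K = B.relIndex K * A.relIndex (B ⊓ K) := by
    have e1 : (A ⊓ K).relIndex (B ⊓ K) * (B ⊓ K).relIndex K = (A ⊓ K).relIndex K :=
      Subgroup.relIndex_mul_relIndex _ _ _ (inf_le_inf_right K hAB) inf_le_right
    rw [Subgroup.inf_relIndex_right, Subgroup.inf_relIndex_right] at e1
    have e2 : (A ⊓ K).relIndex (B ⊓ K) = A.relIndex (B ⊓ K) := by
      rw [← Subgroup.inf_relIndex_right A (B ⊓ K)]
      congr 1
      rw [← inf_assoc, inf_of_le_left hAB]
    rw [← e1, e2, mul_comm]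
  -- (3)
  have h3 : B.relIndex K = Nat.card (Sylow p K) := by
    have hDp : IsPGroup p (D.subgroupOf K) := (P.2.to_le inf_le_left).comap_subtype
    have hDi : ¬ p ∣ (D.subgroupOf K).index := by
      have e : (D.subgroupOf K).index = (P : Subgroup G).relIndex K := by
        show D.relIndex K = _
        rw [hD, Subgroup.inf_relIndex_right]
      rw [e]
      intro hdvd
      exact P.not_dvd_index
        (hdvd.trans (Cfsg.Agent.S4309.relIndex_dvd_index_of_normal_right (P : Subgroup G) K))
    have hc := (hDp.toSylow hDi).card_eq_index_normalizer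
    rw [hc]
    have e : ((hDp.toSylow hDi : Sylow p K) : Set K) = ((D.subgroupOf K : Subgroup K) : Set K) := by
      rw [← Sylow.coe_coe, IsPGroup.toSylow_coe]
    rw [e, ← Subgroup.subgroupOf_normalizer_eq (inf_le_right : D ≤ K)]
    rfl
  -- (4)
  have hPN : (P : Subgroup G) ≤ N := by
    rw [hN]
    exact le_inf le_sup_left (Subgroup.le_normalizer.trans hAB)
  have h4 : A.relIndex (B ⊓ K) = Nat.card (Sylow p N) := by
    have hpow : ∀ x : N, ∃ k : ℕ, x ^ p ^ k ∈ K.subgroupOf N := by
      intro x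
      have hle : N ≤ (P : Subgroup G) ⊔ K := by rw [hN]; exact inf_le_left
      have hx : (x : G) ∈ (P : Subgroup G) ⊔ K := hle x.2
      obtain ⟨k, hk⟩ := exists_pow_mem (P : Subgroup G) P.2 K (x : G) hx
      refine ⟨k, ?_⟩
      rw [Subgroup.mem_subgroupOf]
      simpa using hk
    have hc := card_sylow_of_forall_pow_mem (P.subtype hPN) (K.subgroupOf N) hpow
    rw [hc]
    rw [Sylow.coe_subtype, ← Subgroup.subgroupOf_normalizer_eq hPN, ← Subgroup.inf_subgroupOf_right K N,
      Subgroup.relIndex_subgroupOf inf_le_right]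
    congr 1
    rw [hN, ← inf_assoc, inf_of_le_left (le_sup_right : K ≤ (P : Subgroup G) ⊔ K), inf_comm]
  -- (5)
  have h5 : Nat.card (Sylow p (N ⧸ D.subgroupOf N)) = Nat.card (Sylow p N) :=
    card_sylow_quotient_pgroup (D.subgroupOf N) (P.2.to_le inf_le_left).comap_subtype
  rw [h1, h2, h3, h4, h5, mul_assoc]

end Cfsg.Agent.S4341
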