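import Cfsg.Statements.S4303
import Cfsg.Agent.S4341
import Cfsg.Agent.S0025
import Cfsg.Agent.Lib.Helper10_ConjAction
import Mathlib

set_option autoImplicit false
open Cfsg

namespace Cfsg.Agent.S4303

universe u

open Subgroup

/-- an admissible factor -/
def Good (p : ℕ) (m : ℕ) : Prop :=
  (IsPrimePow m ∧ m % p = 1) ∨
    ∃ (S : Type u) (_ : Group S) (_ : Finite S), IsSimpleGroup S ∧ m = Nat.card (Sylow p S)

/-- a product of admissible factors -/
def GP (p : ℕ) (n : ℕ) : Prop := ∃ l : List ℕ, l.prod = n ∧ ∀ m ∈ l, Good.{u} p m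

theorem GP_one (p : ℕ) : GP.{u} p 1 := ⟨[], rfl, by simp⟩

theorem GP_mul {p a b : ℕ} (ha : GP.{u} p a) (hb : GP.{u} p b) : GP.{u} p (a * b) := by
  obtain ⟨la, ha1, ha2⟩ := ha
  obtain ⟨lb, hb1, hb2⟩ := hb
  refine ⟨la ++ lb, by rw [List.prod_append, ha1, hb1], ?_⟩
  intro m hm
  rcases List.mem_append.1 hm with h | h
  · exact ha2 m h
  · exact hb2 m h

theorem GP_of_good {p m : ℕ} (h : Good.{u} p m) : GP.{u} p m :=
  ⟨[m], by simp, by simpa using h⟩

/-- a number all of whose full prime-power parts are ≡ 1 mod p -/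
theorem GP_of_factors (p m : ℕ) (hm : m ≠ 0)
    (h : ∀ q : ℕ, q.Prime → q ∣ m → q ^ (m.factorization q) % p = 1) : GP.{u} p m := by
  refine ⟨m.primeFactors.toList.map (fun q => q ^ m.factorization q), ?_, ?_⟩
  · rw [Finset.prod_map_toList]
    have := Nat.prod_factorization_pow_eq_self hm
    rw [Finsupp.prod, Nat.support_factorization] at this
    exact this
  · intro x hx
    rw [List.mem_map] at hx
    obtain ⟨q, hq, rfl⟩ := hx
    rw [Finset.mem_toList, Nat.mem_primeFactors] at hq
    left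
    refine ⟨⟨q, m.factorization q, hq.1.prime, ?_, rfl⟩, h q hq.1 hq.2.1⟩
    exact (hq.1.factorization_pos_of_dvd hm hq.2.1)

variable {G : Type u} [Group G] [Finite G]

theorem relIndex_sup_eq (H K : Subgroup G) [K.Normal] : H.relIndex (H ⊔ K) = H.relIndex K := by
  have h1 : Nat.card (H ⊔ K : Subgroup G) = Nat.card K * K.relIndex H := by
    rw [← relIndex_sup_right H K, ← relIndex_bot_left, ← relIndex_bot_left,
      relIndex_mul_relIndex _ _ _ bot_le le_sup_right]
  have h2 : Nat.card H = Nat.card (H ⊓ K : Subgroup G) * K.relIndex H := by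
    rw [← inf_relIndex_right K H, ← relIndex_bot_left, ← relIndex_bot_left, inf_comm,
      relIndex_mul_relIndex _ _ _ bot_le inf_le_right]
  have h3 : Nat.card (H ⊔ K : Subgroup G) = Nat.card H * H.relIndex (H ⊔ K) := by
    rw [← relIndex_bot_left, ← relIndex_bot_left, relIndex_mul_relIndex _ _ _ bot_le le_sup_left]
  have h4 : Nat.card K = Nat.card (H ⊓ K : Subgroup G) * H.relIndex K := by
    rw [← inf_relIndex_right H K, ← relIndex_bot_left, ← relIndex_bot_left,
      relIndex_mul_relIndex _ _ _ bot_le inf_le_right]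
  have h5 : Nat.card (H ⊓ K : Subgroup G) * K.relIndex H * H.relIndex (H ⊔ K)
      = Nat.card (H ⊓ K : Subgroup G) * K.relIndex H * H.relIndex K := by
    calc Nat.card (H ⊓ K : Subgroup G) * K.relIndex H * H.relIndex (H ⊔ K)
        = Nat.card H * H.relIndex (H ⊔ K) := by rw [← h2]
      _ = Nat.card (H ⊔ K : Subgroup G) := h3.symm
      _ = Nat.card K * K.relIndex H := h1
      _ = Nat.card (H ⊓ K : Subgroup G) * H.relIndex K * K.relIndex H := by rw [← h4]
      _ = Nat.card (H ⊓ K : Subgroup G) * K.relIndex H * H.relIndex K := by ring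
  have hpos : 0 < Nat.card (H ⊓ K : Subgroup G) * K.relIndex H := by
    rw [← h2]; exact Nat.card_pos
  exact Nat.eq_of_mul_eq_mul_left hpos h5

/-- `G = K P` with `K` a normal `p'`-subgroup: the Sylow number is a product of prime powers ≡ 1. -/
theorem coprime_case (p : ℕ) [hp : Fact p.Prime] (K : Subgroup G) [hKn : K.Normal]
    (hK : ¬ p ∣ Nat.card K) (P : Sylow p G) (hPK : (P : Subgroup G) ⊔ K = ⊤) :
    GP.{u} p (Nat.card (Sylow p G)) := by
  have hPp : IsPGroup p (P : Subgroup G) := P.isPGroup'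
  -- P ⊓ K = ⊥
  have hPKbot : (P : Subgroup G) ⊓ K = ⊥ := by
    rw [eq_bot_iff]
    intro x hx
    rw [mem_bot]
    obtain ⟨k, hk⟩ := hPp ⟨x, hx.1⟩
    have hk' : x ^ p ^ k = 1 := by
      have := congrArg Subtype.val hk
      simpa using this
    have h1 : orderOf x ∣ p ^ k := orderOf_dvd_of_pow_eq_one hk'
    have h2 : orderOf x ∣ Nat.card K := by
      have := orderOf_dvd_natCard (⟨x, hx.2⟩ : K)
      rwa [Subgroup.orderOf_mk] at this
    have hcop : (p ^ k).Coprime (Nat.card K) :=
      Nat.Coprime.pow_left _ ((Nat.Prime.coprime_iff_not_dvd hp.out).2 hK)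
    have h3 : orderOf x = 1 := Nat.eq_one_of_dvd_coprimes hcop h1 h2
    exact orderOf_eq_one_iff.1 h3
  -- elements of N_K(P) centralize P
  have hcent : ∀ c ∈ normalizer ((P : Subgroup G) : Set G) ⊓ K, ∀ x ∈ (P : Subgroup G), c * x = x * c := by
    intro c hc x hx
    have h1 : c * x * c⁻¹ * x⁻¹ ∈ (P : Subgroup G) ⊓ K := by
      constructor
      · exact (P : Subgroup G).mul_mem ((mem_normalizer_iff.1 hc.1 x).1 hx) ((P : Subgroup G).inv_mem hx)
      · have : c * x * c⁻¹ * x⁻¹ = c * (x * c⁻¹ * x⁻¹) := by group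
        rw [this]
        exact K.mul_mem hc.2 (hKn.conj_mem _ (K.inv_mem hc.2) x)
    rw [hPKbot, mem_bot] at h1
    have h2 : c * x * c⁻¹ * x⁻¹ * x * c = 1 * x * c := by rw [h1]
    have e : c * x * c⁻¹ * x⁻¹ * x * c = c * x := by group
    rw [e, one_mul] at h2
    exact h2
  set m := Nat.card (Sylow p G) with hm
  have hm1 : m = (normalizer ((P : Subgroup G) : Set G)).relIndex K := by
    rw [hm, P.card_eq_index_normalizer, ← relIndex_sup_eq, ← relIndex_top_right]
    congr 1
    symm
    rw [eq_top_iff, ← hPK]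
    exact sup_le_sup_right le_normalizer K
  have hm0 : m ≠ 0 := Nat.card_pos.ne'
  have hcardK : Nat.card K = Nat.card (normalizer ((P : Subgroup G) : Set G) ⊓ K : Subgroup G) * m := by
    rw [hm1, ← inf_relIndex_right, ← relIndex_bot_left, ← relIndex_bot_left,
      relIndex_mul_relIndex _ _ _ bot_le inf_le_right]
  apply GP_of_factors p m hm0
  intro q hq hqm
  have hqf : Fact q.Prime := ⟨hq⟩
  have hqK : q ∣ Nat.card K := hcardK ▸ Dvd.dvd.mul_left hqm _
  have hqp : q ≠ p := by
    rintro rfl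
    exact hK hqK
  -- Sylow q-subgroup of C
  set C : Subgroup G := normalizer ((P : Subgroup G) : Set G) ⊓ K with hC
  obtain ⟨R⟩ : Nonempty (Sylow q C) := inferInstance
  set R' : Subgroup G := (R : Subgroup C).map C.subtype with hR'
  have hR'C : R' ≤ C := by
    rintro _ ⟨x, -, rfl⟩
    exact x.2
  have hR'q : IsPGroup q R' := R.isPGroup'.map _
  have hPR' : (P : Subgroup G) ≤ normalizer (R' : Set G) := by
    intro x hx
    rw [mem_normalizer_iff]
    intro h
    constructor
    · intro hh
      have h1 := hcent h (hR'C hh) x hx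
      have : x * h * x⁻¹ = h := by rw [← h1]; group
      rw [this]; exact hh
    · intro hh
      have h1 := hcent _ (hR'C hh) x hx
      have : h = x * h * x⁻¹ := by
        have h2 : x⁻¹ * (x * h * x⁻¹ * x) = x⁻¹ * (x * (x * h * x⁻¹)) := by rw [h1]
        have e1 : x⁻¹ * (x * h * x⁻¹ * x) = h := by group
        have e2 : x⁻¹ * (x * (x * h * x⁻¹)) = x * h * x⁻¹ := by group
        rw [e1, e2] at h2
        exact h2
      rw [this]; exact hh
  have hPKn : (P : Subgroup G) ≤ normalizer (K : Set G) := by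
    rw [normalizer_eq_top]; exact le_top
  have hcop : (Nat.card (P : Subgroup G)).Coprime (Nat.card K) := by
    obtain ⟨k, hk⟩ := IsPGroup.iff_card.1 hPp
    rw [hk]
    exact Nat.Coprime.pow_left _ ((Nat.Prime.coprime_iff_not_dvd hp.out).2 hK)
  have hsolv : Group.IsSolvable (P : Subgroup G) := by
    have := hPp.isNilpotent
    infer_instance
  obtain ⟨Q, hRQ, hPQ⟩ := Cfsg.Agent.S0025.result (P : Subgroup G) K hPKn hcop (Or.inl hsolv) q R'
    (hR'C.trans inf_le_right) hR'q hPR'
  set Q' : Subgroup G := (Q : Subgroup K).map K.subtype with hQ'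
  have hQ'K : Q' ≤ K := by
    rintro _ ⟨x, -, rfl⟩
    exact x.2
  have hmod := Cfsg.Agent.Lib.Helper10_ConjAction.card_modEq_card_centralizer (P : Subgroup G) Q' hPp hPQ
  -- Q' ⊓ C_G(P) = R'
  have hQR : Q' ⊓ centralizer ((P : Subgroup G) : Set G) = R' := by
    apply le_antisymm
    · intro x hx
      have hxC : x ∈ C := Subgroup.mem_inf.2 ⟨centralizer_le_normalizer _ hx.2, hQ'K hx.1⟩
      -- the q-subgroup (Q' ⊓ cent P) of C contains R, so equals R
      have hle : (Q' ⊓ centralizer ((P : Subgroup G) : Set G)) ≤ C := by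
        intro y hy
        exact Subgroup.mem_inf.2 ⟨centralizer_le_normalizer _ hy.2, hQ'K hy.1⟩
      have hqg : IsPGroup q ((Q' ⊓ centralizer ((P : Subgroup G) : Set G)).subgroupOf C) := by
        have h1 : IsPGroup q Q' := Q.isPGroup'.map _
        have h2 : IsPGroup q (Q' ⊓ centralizer ((P : Subgroup G) : Set G) : Subgroup G) := h1.to_le inf_le_left
        exact h2.comap_subtype
      have hRle : (R : Subgroup C) ≤ (Q' ⊓ centralizer ((P : Subgroup G) : Set G)).subgroupOf C := by
        intro r hr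
        rw [mem_subgroupOf]
        have hr' : (r : G) ∈ R' := ⟨r, hr, rfl⟩
        refine Subgroup.mem_inf.2 ⟨hRQ hr', ?_⟩
        rw [Subgroup.mem_centralizer_iff]
        intro y hy
        exact (hcent _ (hR'C hr') y hy).symm
      have heq := R.is_maximal' hqg hRle
      have hx' : (⟨x, hxC⟩ : C) ∈ (Q' ⊓ centralizer ((P : Subgroup G) : Set G)).subgroupOf C := by
        rw [mem_subgroupOf]; exact hx
      rw [heq] at hx'
      exact ⟨⟨x, hxC⟩, hx', rfl⟩
    · intro x hx
      refine Subgroup.mem_inf.2 ⟨hRQ hx, ?_⟩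
      rw [Subgroup.mem_centralizer_iff]
      intro y hy
      exact (hcent _ (hR'C hx) y hy).symm
  rw [hQR] at hmod
  have hcQ : Nat.card Q' = q ^ (Nat.card K).factorization q := by
    rw [hQ', card_map_of_injective Subtype.coe_injective]
    exact Q.card_eq_multiplicity
  have hcR : Nat.card R' = q ^ (Nat.card C).factorization q := by
    rw [hR', card_map_of_injective Subtype.coe_injective]
    exact R.card_eq_multiplicity
  rw [hcQ, hcR, hcardK, Nat.factorization_mul Nat.card_pos.ne' hm0, Finsupp.add_apply, pow_add] at hmod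
  have hcop2 : Nat.gcd p (q ^ (Nat.card C).factorization q) = 1 := by
    apply Nat.Coprime.pow_right
    exact (Nat.coprime_primes hp.out hq).2 hqp.symm
  have h7 : q ^ (Nat.card C).factorization q * q ^ m.factorization q
      ≡ q ^ (Nat.card C).factorization q * 1 [MOD p] := by
    rw [mul_one]; exact hmod
  have h8 := Nat.ModEq.cancel_left_of_coprime hcop2 h7
  have h9 : q ^ m.factorization q % p = 1 % p := h8
  rw [h9]
  exact Nat.mod_eq_of_lt hp.out.one_lt

omit [Finite G] in
theorem card_quot_lt' [Finite G] (K : Subgroup G) [K.Normal] (hK : K ≠ ⊥) : Nat.card (G ⧸ K) < Nat.card G := by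
  rw [← index_eq_card, ← card_mul_index K]
  have h1 : 1 < Nat.card K := (one_lt_card_iff_ne_bot K).2 hK
  have h2 : 0 < K.index := Nat.pos_of_ne_zero index_ne_zero_of_finite
  nlinarith

theorem card_lt_of_ne_top (K : Subgroup G) (hK : K ≠ ⊤) : Nat.card K < Nat.card G := by
  apply lt_of_le_of_ne (card_le_card_group K)
  intro h
  exact hK ((card_eq_iff_eq_top K).1 h)

open scoped Pointwise in
theorem not_dvd_card_of_inf_bot (p : ℕ) [hp : Fact p.Prime] (K : Subgroup G) [hKn : K.Normal]
    (P : Sylow p G) (h : (P : Subgroup G) ⊓ K = ⊥) : ¬ p ∣ Nat.card K := by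
  intro hd
  obtain ⟨x, hx⟩ := exists_prime_orderOf_dvd_card' (G := K) p hd
  have hxo : orderOf (x : G) = p := by rw [Subgroup.orderOf_coe, hx]
  have hpg : IsPGroup p (zpowers (x : G)) := by
    apply IsPGroup.of_card (n := 1)
    rw [Nat.card_zpowers, hxo, pow_one]
  obtain ⟨Q, hQ⟩ := hpg.exists_le_sylow
  obtain ⟨g, hg⟩ := MulAction.exists_smul_eq G P Q
  have hxQ : (x : G) ∈ (Q : Subgroup G) := hQ (mem_zpowers _)
  rw [← hg, Sylow.coe_subgroup_smul, Subgroup.mem_smul_pointwise_iff_exists] at hxQ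
  obtain ⟨s, hs, hse⟩ := hxQ
  have hse' : g * s * g⁻¹ = (x : G) := by
    rw [← hse]; simp [MulAut.smul_def]
  have hsK : s ∈ K := by
    have : s = g⁻¹ * (x : G) * g⁻¹⁻¹ := by rw [← hse']; group
    rw [this]
    exact hKn.conj_mem _ x.2 _
  have hs1 : s ∈ (P : Subgroup G) ⊓ K := ⟨hs, hsK⟩
  rw [h, mem_bot] at hs1
  rw [hs1] at hse'
  have hx1 : (x : G) = 1 := by rw [← hse']; group
  rw [hx1, orderOf_one] at hxo
  exact hp.out.one_lt.ne hxo

theorem main (p : ℕ) [hp : Fact p.Prime] : ∀ n : ℕ, ∀ (G : Type u) [Group G] [Finite G],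
    Nat.card G = n → GP.{u} p (Nat.card (Sylow p G)) := by
  intro n
  induction n using Nat.strong_induction_on with
  | _ n ih =>
  intro G _ _ hn
  by_cases hs : IsSimpleGroup G
  · exact GP_of_good (Or.inr ⟨G, inferInstance, inferInstance, hs, rfl⟩)
  by_cases htriv : Subsingleton G
  · have h1 : Nat.card (Sylow p G) = 1 := by
      obtain ⟨P⟩ : Nonempty (Sylow p G) := inferInstance
      have hd := P.card_dvd_index
      have h2 : (P : Subgroup G).index = 1 := by
        have : Nat.card G = 1 := Nat.card_eq_one_iff_unique.2 ⟨htriv, ⟨1⟩⟩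
        have h3 := card_mul_index (P : Subgroup G)
        rw [this] at h3
        exact Nat.eq_one_of_mul_eq_one_left h3
      rw [h2] at hd
      exact Nat.dvd_one.1 hd
    rw [h1]; exact GP_one p
  rw [not_subsingleton_iff_nontrivial] at htriv
  have hex : ∃ K : Subgroup G, K.Normal ∧ K ≠ ⊥ ∧ K ≠ ⊤ := by
    by_contra hcon
    push Not at hcon
    apply hs
    rw [isSimpleGroup_iff]
    refine ⟨htriv, fun H hH => ?_⟩
    by_cases h : H = ⊥
    · exact Or.inl h
    · exact Or.inr (hcon H hH h)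
  obtain ⟨K, hKn, hK1, hK2⟩ := hex
  obtain ⟨P⟩ : Nonempty (Sylow p G) := inferInstance
  by_cases hcase : (P : Subgroup G) ⊓ K = ⊥ ∧ (P : Subgroup G) ⊔ K = ⊤
  · exact coprime_case p K (not_dvd_card_of_inf_bot p K P hcase.1) P hcase.2
  · set N : Subgroup G := ((P : Subgroup G) ⊔ K) ⊓
      normalizer (((P : Subgroup G) ⊓ K : Subgroup G) : Set G) with hN
    have hle : (P : Subgroup G) ⊓ K ≤ N := le_inf (inf_le_left.trans le_sup_left) le_normalizer
    have hnorm : (((P : Subgroup G) ⊓ K).subgroupOf N).Normal :=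
      (normal_subgroupOf_iff_le_normalizer hle).2 inf_le_right
    have hformula := Cfsg.Agent.S4341.result p K P N hN
    rw [hformula]
    have hcT : Nat.card (N ⧸ ((P : Subgroup G) ⊓ K).subgroupOf N) < n := by
      rw [← index_eq_card, ← hn]
      have e1 : Nat.card N = Nat.card ((P : Subgroup G) ⊓ K : Subgroup G) * ((P : Subgroup G) ⊓ K).relIndex N := by
        rw [← relIndex_bot_left, ← relIndex_bot_left, relIndex_mul_relIndex _ _ _ bot_le hle]
      have e2 : (((P : Subgroup G) ⊓ K).subgroupOf N).index = ((P : Subgroup G) ⊓ K).relIndex N := rfl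
      rw [e2]
      have hNle : Nat.card N ≤ Nat.card G := card_le_card_group N
      have hpos : 0 < ((P : Subgroup G) ⊓ K).relIndex N := by
        rcases Nat.eq_zero_or_pos (((P : Subgroup G) ⊓ K).relIndex N) with h | h
        · rw [h, mul_zero] at e1
          exact absurd e1 Nat.card_pos.ne'
        · exact h
      by_cases hb : (P : Subgroup G) ⊓ K = ⊥
      · have ht : (P : Subgroup G) ⊔ K ≠ ⊤ := fun h => hcase ⟨hb, h⟩
        have h1 : Nat.card N < Nat.card G :=
          lt_of_le_of_lt (card_le_of_le inf_le_left) (card_lt_of_ne_top _ ht)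
        have h2 : 1 ≤ Nat.card ((P : Subgroup G) ⊓ K : Subgroup G) := Nat.card_pos
        nlinarith
      · have h1 : 1 < Nat.card ((P : Subgroup G) ⊓ K : Subgroup G) := (one_lt_card_iff_ne_bot _).2 hb
        nlinarith
    apply GP_mul (GP_mul ?_ ?_) ?_
    · exact ih _ (hn ▸ card_quot_lt' K hK1) (G ⧸ K) rfl
    · exact ih _ (hn ▸ card_lt_of_ne_top K hK2) K rfl
    · exact ih _ hcT _ rfl

/-- For a finite group `G` and a prime `p`, the number of Sylow `p`-subgroups of `G` is a product of natural numbers each of which is either a prime power congruent to 1 modulo `p` or the number of Sylow `p`-subgroups of some finite simple group. -/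
theorem result {G : Type u} [Group G] [Finite G]
    (p : ℕ) [Fact p.Prime] :
    ∃ l : List ℕ, l.prod = Nat.card (Sylow p G) ∧
      ∀ m ∈ l, (IsPrimePow m ∧ m % p = 1) ∨
        ∃ (S : Type u) (_ : Group S) (_ : Finite S), IsSimpleGroup S ∧ m = Nat.card (Sylow p S) :=
  main p _ G rfl

end Cfsg.Agent.S4303
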