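import Cfsg.Statements.S1035
import Cfsg.Agent.Lib.Helper36_ChevDataG2HO
import Cfsg.Agent.Lib.Helper36_ChevDataF4HO
import Cfsg.Agent.Lib.Helper36_ChevDataE8HO
import Cfsg.Agent.Lib.Helper36_ChevDataE6HO
import Cfsg.Agent.Lib.Helper36_ChevDataE7HO
import Cfsg.Agent.Lib.Helper36_ChevDataB2HO
import Cfsg.Agent.Lib.Helper36_ChevDataD4HO

set_option autoImplicit false
open Cfsg

namespace Cfsg.Agent.S1035

open Cfsg.Lie

/-- `d · |H| = (q - 1)^rank` over a field with `q` elements, with `d = 1` (G₂, F₄, E₈), `gcd(3, q-1)` (E₆), `gcd(2, q-1)` (E₇, B₂), `gcd(2, q-1)²` (D₄). -/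
theorem result {F : Type*} [Field F] [Fintype F] {q : ℕ} (hq : Fintype.card F = q)
    (p : Cfsg.Lie.ChevalleyDatum × ℕ)
    (hp : p ∈ [(Cfsg.Lie.chevG2, 1), (Cfsg.Lie.chevF4, 1), (Cfsg.Lie.chevE8, 1), (Cfsg.Lie.chevE6, Nat.gcd 3 (q - 1)),
      (Cfsg.Lie.chevE7, Nat.gcd 2 (q - 1)), (Cfsg.Lie.chevB2, Nat.gcd 2 (q - 1)), (Cfsg.Lie.chevD4, Nat.gcd 2 (q - 1) ^ 2)]) :
    p.2 * Nat.card (p.1.diagonalSubgroup F) = (q - 1) ^ p.1.rank := by
  subst hq
  simp only [List.mem_cons, List.not_mem_nil, or_false] at hp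
  rcases hp with rfl | rfl | rfl | rfl | rfl | rfl | rfl
  · have h := Cfsg.Agent.Lib.Helper36_ChevDataG2HO.card_diag F
    have e : (∏ k : Fin 2, (Fintype.card F - 1).gcd (Cfsg.Agent.Lib.Helper36_ChevDataG2HO.diagD k)) =
        1 := by
      simp [Fin.prod_univ_succ, Cfsg.Agent.Lib.Helper36_ChevDataG2HO.diagD, Nat.gcd_comm, pow_two]
    exact (congrArg (fun x => x * Nat.card (chevG2.diagonalSubgroup F)) e).symm.trans h
  · have h := Cfsg.Agent.Lib.Helper36_ChevDataF4HO.card_diag F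
    have e : (∏ k : Fin 4, (Fintype.card F - 1).gcd (Cfsg.Agent.Lib.Helper36_ChevDataF4HO.diagD k)) =
        1 := by
      simp [Fin.prod_univ_succ, Cfsg.Agent.Lib.Helper36_ChevDataF4HO.diagD, Nat.gcd_comm, pow_two]
    exact (congrArg (fun x => x * Nat.card (chevF4.diagonalSubgroup F)) e).symm.trans h
  · have h := Cfsg.Agent.Lib.Helper36_ChevDataE8HO.card_diag F
    have e : (∏ k : Fin 8, (Fintype.card F - 1).gcd (Cfsg.Agent.Lib.Helper36_ChevDataE8HO.diagD k)) =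
        1 := by
      simp [Fin.prod_univ_succ, Cfsg.Agent.Lib.Helper36_ChevDataE8HO.diagD, Nat.gcd_comm, pow_two]
    exact (congrArg (fun x => x * Nat.card (chevE8.diagonalSubgroup F)) e).symm.trans h
  · have h := Cfsg.Agent.Lib.Helper36_ChevDataE6HO.card_diag F
    have e : (∏ k : Fin 6, (Fintype.card F - 1).gcd (Cfsg.Agent.Lib.Helper36_ChevDataE6HO.diagD k)) =
        Nat.gcd 3 (Fintype.card F - 1) := by
      simp [Fin.prod_univ_succ, Cfsg.Agent.Lib.Helper36_ChevDataE6HO.diagD, Nat.gcd_comm, pow_two]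
    exact (congrArg (fun x => x * Nat.card (chevE6.diagonalSubgroup F)) e).symm.trans h
  · have h := Cfsg.Agent.Lib.Helper36_ChevDataE7HO.card_diag F
    have e : (∏ k : Fin 7, (Fintype.card F - 1).gcd (Cfsg.Agent.Lib.Helper36_ChevDataE7HO.diagD k)) =
        Nat.gcd 2 (Fintype.card F - 1) := by
      simp [Fin.prod_univ_succ, Cfsg.Agent.Lib.Helper36_ChevDataE7HO.diagD, Nat.gcd_comm, pow_two]
    exact (congrArg (fun x => x * Nat.card (chevE7.diagonalSubgroup F)) e).symm.trans h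
  · have h := Cfsg.Agent.Lib.Helper36_ChevDataB2HO.card_diag F
    have e : (∏ k : Fin 2, (Fintype.card F - 1).gcd (Cfsg.Agent.Lib.Helper36_ChevDataB2HO.diagD k)) =
        Nat.gcd 2 (Fintype.card F - 1) := by
      simp [Fin.prod_univ_succ, Cfsg.Agent.Lib.Helper36_ChevDataB2HO.diagD, Nat.gcd_comm, pow_two]
    exact (congrArg (fun x => x * Nat.card (chevB2.diagonalSubgroup F)) e).symm.trans h
  · have h := Cfsg.Agent.Lib.Helper36_ChevDataD4HO.card_diag F
    have e : (∏ k : Fin 4, (Fintype.card F - 1).gcd (Cfsg.Agent.Lib.Helper36_ChevDataD4HO.diagD k)) =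
        Nat.gcd 2 (Fintype.card F - 1) ^ 2 := by
      simp [Fin.prod_univ_succ, Cfsg.Agent.Lib.Helper36_ChevDataD4HO.diagD, Nat.gcd_comm, pow_two]
    exact (congrArg (fun x => x * Nat.card (chevD4.diagonalSubgroup F)) e).symm.trans h

end Cfsg.Agent.S1035
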