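import Cfsg.Statements.S1062
import Cfsg.Agent.S1035
import Cfsg.Agent.Lib.Helper36_ChevOrderAll
import Cfsg.Agent.Lib.Helper36_ChevDataF4LitOK
import Cfsg.Agent.Lib.Helper36_ChevDataF4Wc

set_option autoImplicit false
open Cfsg

namespace Cfsg.Agent.S1062

/-- `|F₄(q)| = q²⁴ (q² - 1)(q⁶ - 1)(q⁸ - 1)(q¹² - 1)`. -/
theorem result {F : Type*} [Field F] [Fintype F] {q : ℕ} (hq : Fintype.card F = q) : Nat.card ↥(Cfsg.Lie.chevF4.group F) = q ^ 24 * (q ^ 2 - 1) * (q ^ 6 - 1) * (q ^ 8 - 1) * (q ^ 12 - 1) := by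
  subst hq
  have hd : (1) * Nat.card (Cfsg.Lie.chevF4.diagonalSubgroup F) =
      (Fintype.card F - 1) ^ Cfsg.Lie.chevF4.rank :=
    Cfsg.Agent.S1035.result (F := F) rfl (Cfsg.Lie.chevF4, 1) (by simp)
  have h := Cfsg.Agent.Lib.Helper36_ChevOrderAll.order_main (F := F) Cfsg.Lie.chevF4 (by simp)
    Cfsg.Agent.Lib.Helper36_ChevDataF4Lit.lit Cfsg.Agent.Lib.Helper36_ChevDataF4Lit.wf
    Cfsg.Agent.Lib.Helper36_ChevDataF4LitOK.litOK Cfsg.Agent.Lib.Helper36_ChevDataF4LitOK.noZero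
    [2, 6, 8, 12] (fun q hq => Cfsg.Agent.Lib.Helper36_ChevDataF4Wc.poin q hq) (1) hd
  have hN : Cfsg.Lie.chevF4.nroots / 2 = 24 := by decide
  rw [hN] at h
  simpa [mul_assoc] using h

end Cfsg.Agent.S1062
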