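import Cfsg.Statements.S0497
import Mathlib
import Cfsg.Agent.Lib.Helper55_Ord360
import Cfsg.Agent.Lib.Helper55_D8Final
import Cfsg.Agent.Lib.Helper55_D8Gen360
import Cfsg.Agent.Lib.Helper55_AltRecog
import Cfsg.Agent.Lib.Helper42_PSL211Ex

set_option autoImplicit false
open Cfsg

namespace Cfsg.Agent.S0497

/-- A simple group of order 360 is isomorphic to the alternating group of degree 6. -/
theorem result {G : Type*} [Group G] [Finite G] [IsSimpleGroup G]
    (h : Nat.card G = 360) : Nonempty (G ≃* alternatingGroup (Fin 6)) := by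
  obtain ⟨t, ht, ⟨e⟩⟩ := Cfsg.Agent.Lib.Helper55_Ord360.exists_dihedral_centralizer h
  have hperf : commutator G = ⊤ := Cfsg.Agent.Lib.Helper55_D8Final.commutator_eq_top e
  obtain ⟨g₀, g₁, r0, r1, r2, hne⟩ :=
    Cfsg.Agent.Lib.Helper55_D8Gen360.exists_gens e hperf ht h
  obtain ⟨φ, hφ, -, -⟩ := Cfsg.Agent.Lib.Helper42_PSL211Ex.exists_A5_of_rel g₀ g₁ r0 r1 r2 hne
  exact Cfsg.Agent.Lib.Helper55_AltRecog.nonempty_equiv_A6 h φ hφ

end Cfsg.Agent.S0497
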