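import Cfsg.Statements.S3341
import Cfsg.Agent.S0497
import Cfsg.Agent.Lib.Helper30_ThreePQ
import Cfsg.Agent.Lib.Helper25_INV_Common
import Cfsg.Agent.Lib.Helper6_A6Defs
import Cfsg.Agent.Lib.Helper2_A6_ORB
import Cfsg.Agent.Lib.Helper60_A6_E1
import Cfsg.Agent.Lib.Helper63_A6_E2
import Cfsg.Agent.Lib.Helper10_A6_DATA4
import Cfsg.Agent.Lib.Helper89_A6_FIX9
import Cfsg.Agent.Lib.Helper52_A6_SQ4
import Cfsg.Agent.Lib.Helper73_A6_EQS4
import Cfsg.Agent.Lib.Helper52_A6_ARITH4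

set_option autoImplicit false
open Cfsg

namespace Cfsg.Agent.S3341

open Cfsg.Agent.Lib.Helper80_CharBasic Cfsg.Agent.Lib.Helper6_A6Defs

/-- the standing hypotheses from the statement -/
theorem hyp_of {G : Type*} [Group G] [Finite G]
    (P : Sylow 3 G) (S : Subgroup G) (hSP : S = P) (hcomm : IsMulCommutative S) (hexp : ∀ a ∈ S, a ^ 3 = 1)
    (hcard : Nat.card S = 9)
    (hcent : ∀ s ∈ S, s ≠ 1 → Subgroup.centralizer ({s} : Set G) = S) : Hyp G S := by
  refine ⟨hcard, ?_, hexp, hcent, ?_⟩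
  · intro a ha b hb
    have := hcomm.is_comm.comm (⟨a, ha⟩ : S) ⟨b, hb⟩
    exact congrArg Subtype.val this
  · intro x hx
    have : Fact (Nat.Prime 3) := ⟨by norm_num⟩
    have hp : IsPGroup 3 (Subgroup.zpowers x) := by
      apply IsPGroup.of_card (n := 1)
      rw [Nat.card_zpowers, hx]; norm_num
    obtain ⟨Q, hQ⟩ := hp.exists_le_sylow
    obtain ⟨g, hg⟩ := MulAction.exists_smul_eq G Q P
    refine ⟨g, ?_⟩
    rw [hSP, ← hg]
    rw [Sylow.coe_subgroup_smul, Subgroup.mem_pointwise_smul_iff_inv_smul_mem]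
    have hxQ : x ∈ (Q : Subgroup G) := hQ (Subgroup.mem_zpowers x)
    simpa [MulAut.smul_def, mul_assoc] using hxQ

theorem result {G : Type*} [Group G] [Finite G] [IsSimpleGroup G]
    (P : Sylow 3 G) (S : Subgroup G) (hSP : S = P) (hcomm : IsMulCommutative S) (hexp : ∀ a ∈ S, a ^ 3 = 1)
    (hcard : Nat.card S = 9)
    (hclasses : ∃ a b : G, orderOf a = 3 ∧ orderOf b = 3 ∧ ∀ g : G, g * a * g⁻¹ ≠ b)
    (hcent : ∀ s ∈ S, s ≠ 1 → Subgroup.centralizer ({s} : Set G) = S) :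
    Nonempty (G ≃* alternatingGroup (Fin 6)) := by
  classical
  have h : Hyp G S := hyp_of P S hSP hcomm hexp hcard hcent
  -- G is perfect
  have hperf : commutator G = ⊤ := by
    apply Cfsg.Agent.Lib.Helper25_INV_Common.perfect_of_not_prime
    intro hp
    have h9 : 9 ∣ Nat.card G := by
      rw [← hcard]; exact Subgroup.card_subgroup_dvd_card S
    rcases (Nat.dvd_prime hp).mp h9 with h1 | h1
    · omega
    · rw [← h1] at hp; norm_num at hp
  rcases Cfsg.Agent.Lib.Helper2_A6_ORB.fusion_cases h with hN | h2 | ⟨s, s', h4⟩ | h8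
  · exact absurd hN (Cfsg.Agent.Lib.Helper60_A6_E1.normalizer_ne h P hSP)
  · exact (Cfsg.Agent.Lib.Helper63_A6_E2.fus2_false h h2 hperf).elim
  · obtain ⟨D⟩ := Cfsg.Agent.Lib.Helper10_A6_DATA4.exists_data4 h h4
    have hcong := Cfsg.Agent.Lib.Helper89_A6_FIX9.cong_data4 h h4 D
    have hsq := Cfsg.Agent.Lib.Helper52_A6_SQ4.sq_le4 D
    have heq := Cfsg.Agent.Lib.Helper73_A6_EQS4.eqs4 h h4 D
    have hxpos : ∀ j, 0 < D.x j := by
      intro j
      obtain ⟨n, hn, hn1⟩ := irr_apply_one (D.X j)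
      have : (D.x j : ℂ) = n := by rw [← D.X_one j, hn1]
      have : D.x j = n := by exact_mod_cast this
      omega
    have hdpos : 0 < D.d := by
      obtain ⟨n, hn, hn1⟩ := irr_apply_one D.Λ₁
      have : (D.d : ℂ) = n := by rw [← D.Λ₁_one, hn1]
      have : D.d = n := by exact_mod_cast this
      omega
    have hx1 : ∀ j, D.x j ≠ 1 := by
      intro j hj
      apply (D.X_ne j).1
      apply Cfsg.Agent.Lib.Helper30_ThreePQ.eq_one_of_linear hperf
      rw [D.X_one j, hj]; simp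
    have h36 : 36 ∣ Nat.card G := by
      rw [← h4.cardN]
      exact Subgroup.card_subgroup_dvd_card _
    have hg : Nat.card G = 360 :=
      Cfsg.Agent.Lib.Helper52_A6_ARITH4.arith4 (Nat.card G) D.x D.c D.d D.ε D.hc D.hε hx1 hxpos hdpos hcong.1 hcong.2 D.deg h36 hsq heq.1 heq.2
    exact Cfsg.Agent.S0497.result hg
  · exfalso
    obtain ⟨a, b, ha, hb, hab⟩ := hclasses
    obtain ⟨g₁, hg₁⟩ := h.syl a ha
    obtain ⟨g₂, hg₂⟩ := h.syl b hb
    have ha1 : g₁ * a * g₁⁻¹ ≠ 1 := by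
      intro hc
      have : a = 1 := by
        have := congrArg (fun z => g₁⁻¹ * z * g₁) hc
        simpa [mul_assoc] using this
      rw [this] at ha; simp at ha
    have hb1 : g₂ * b * g₂⁻¹ ≠ 1 := by
      intro hc
      have : b = 1 := by
        have := congrArg (fun z => g₂⁻¹ * z * g₂) hc
        simpa [mul_assoc] using this
      rw [this] at hb; simp at hb
    have hc := h8 _ hg₁ ha1 _ hg₂ hb1
    obtain ⟨c, hc⟩ := isConj_iff.mp hc
    apply hab (g₂⁻¹ * c * g₁)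
    have : c * (g₁ * a * g₁⁻¹) * c⁻¹ = g₂ * b * g₂⁻¹ := hc
    calc g₂⁻¹ * c * g₁ * a * (g₂⁻¹ * c * g₁)⁻¹
        = g₂⁻¹ * (c * (g₁ * a * g₁⁻¹) * c⁻¹) * g₂ := by group
      _ = g₂⁻¹ * (g₂ * b * g₂⁻¹) * g₂ := by rw [this]
      _ = b := by group

end Cfsg.Agent.S3341
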