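import Cfsg.Statements.S1217

set_option autoImplicit false
open Cfsg

namespace Cfsg.Agent.S1217

open scoped Pointwise MatrixGroups

section general
variable {G : Type*} [Group G]

theorem exists_orderOf_eq [Finite G] [IsCyclic G] (d : ℕ) (hd : d ∣ Nat.card G) :
    ∃ g : G, orderOf g = d := by
  obtain ⟨g, hg⟩ := IsCyclic.exists_ofOrder_eq_natCard (α := G)
  have hN : 0 < Nat.card G := Nat.card_pos
  obtain ⟨e, he⟩ := hd
  have he0 : e ≠ 0 := by
    rintro rfl
    simp at he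
    omega
  refine ⟨g ^ e, ?_⟩
  rw [orderOf_pow_of_dvd he0 (by rw [hg, he]; exact dvd_mul_left e d), hg, he]
  exact Nat.mul_div_cancel d (Nat.pos_of_ne_zero he0)

theorem mem_normalizer_of_invol (H : Subgroup G) (y : G) (hy : y * y = 1)
    (h : ∀ a ∈ H, y * a * y⁻¹ ∈ H) : y ∈ Subgroup.normalizer (H : Set G) := by
  rw [Subgroup.mem_set_normalizer_iff]
  intro a
  refine ⟨h a, fun ha => ?_⟩
  have hyinv : y⁻¹ = y := inv_eq_of_mul_eq_one_right hy
  have h2 := h _ ha
  have e : y * (y * a * y⁻¹) * y⁻¹ = a := by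
    rw [hyinv]
    calc y * (y * a * y) * y = (y * y) * a * (y * y) := by group
      _ = a := by rw [hy]; simp
  rwa [e] at h2

theorem exists_embedding [Finite G] (p : ℕ) [Fact p.Prime] (W : Subgroup G) (hW : IsPGroup p W)
    (P : Sylow p G) : ∃ φ : W →* (P : Subgroup G), Function.Injective φ := by
  obtain ⟨Q, hQ⟩ := hW.exists_le_sylow
  obtain ⟨g, hg⟩ := MulAction.exists_smul_eq G Q P
  have hmap : W.map (MulAut.conj g).toMonoidHom ≤ (P : Subgroup G) := by
    rintro _ ⟨w, hw, rfl⟩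
    rw [← hg, Sylow.coe_subgroup_smul, Subgroup.mem_pointwise_smul_iff_inv_smul_mem]
    simp only [MulEquiv.coe_toMonoidHom, MulAut.conj_apply, MulAut.smul_def, MulAut.conj_inv_apply]
    have : g⁻¹ * (g * w * g⁻¹) * g = w := by group
    rw [this]
    exact hQ hw
  let e := W.equivMapOfInjective (MulAut.conj g).toMonoidHom (MulAut.conj g).injective
  refine ⟨(Subgroup.inclusion hmap).comp e.toMonoidHom, ?_⟩
  exact (Subgroup.inclusion_injective hmap).comp e.injective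

theorem mem_normalizer_of_map (H : Subgroup G) (g : G)
    (h : H.map (MulAut.conj g).toMonoidHom = H) : g ∈ Subgroup.normalizer (H : Set G) :=
  Subgroup.mem_normalizer_iff_map_conj_eq.mpr h

theorem map_conj_zpowers (g a : G) :
    (Subgroup.zpowers a).map (MulAut.conj g).toMonoidHom = Subgroup.zpowers (g * a * g⁻¹) := by
  rw [MonoidHom.map_zpowers]
  rfl

theorem isPGroup_zpowers (x : G) (n : ℕ) (hx : orderOf x = 2 ^ n) :
    IsPGroup 2 (Subgroup.zpowers x) := by
  apply IsPGroup.of_card (n := n)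
  rw [Nat.card_zpowers, hx]

end general

section transport
variable {S T : Type*} [Group S] [Group T]

theorem isWreathed_of (φ : S →* T) (hφ : Function.Injective φ) (n : ℕ) (hn : 2 ≤ n)
    (hcard : Nat.card T = 2 ^ (2 * n + 1)) (x y z : S) (hx : orderOf x = 2 ^ n)
    (hxy : x * y = y * x) (hint : Subgroup.zpowers x ⊓ Subgroup.zpowers y = ⊥)
    (hz : orderOf z = 2) (hzx : z * x * z⁻¹ = y) : Cfsg.IsWreathed T := by
  refine ⟨n, hn, hcard, φ x, φ y, φ z, ?_, ?_, ?_, ?_, ?_⟩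
  · rw [orderOf_injective φ hφ, hx]
  · rw [← map_mul, ← map_mul, hxy]
  · rw [eq_bot_iff]
    intro t ht
    obtain ⟨⟨i, hi⟩, ⟨j, hj⟩⟩ := ht
    simp only at hi hj
    rw [← map_zpow] at hi hj
    have hij : x ^ i = y ^ j := hφ (hi.trans hj.symm)
    have hmem : x ^ i ∈ Subgroup.zpowers x ⊓ Subgroup.zpowers y :=
      ⟨⟨i, rfl⟩, ⟨j, hij.symm⟩⟩
    rw [hint, Subgroup.mem_bot] at hmem
    rw [Subgroup.mem_bot, ← hi, hmem, map_one]
  · rw [orderOf_injective φ hφ, hz]
  · rw [← map_inv, ← map_mul, ← map_mul, hzx]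

theorem isQuasiDihedral_of (φ : S →* T) (hφ : Function.Injective φ) (n : ℕ) (hn : 3 ≤ n)
    (hcard : Nat.card T = 2 ^ (n + 1)) (x y : S) (hx : orderOf x = 2 ^ n)
    (hy : orderOf y = 2) (hyx : y * x * y⁻¹ = x ^ (2 ^ (n - 1) - 1)) : Cfsg.IsQuasiDihedral T := by
  refine ⟨n, hn, hcard, φ x, φ y, ?_, ?_, ?_⟩
  · rw [orderOf_injective φ hφ, hx]
  · rw [orderOf_injective φ hφ, hy]
  · rw [← map_inv, ← map_mul, ← map_mul, hyx, map_pow]

end transport

section gl2
variable {F : Type*} [Field F]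

/-- diagonal matrices as a homomorphism -/
noncomputable def dg : (Fin 2 → Fˣ) →* GL (Fin 2) F :=
  (Units.map (Matrix.diagonalRingHom (Fin 2) F).toMonoidHom).comp
    (MulEquiv.piUnits (ι := Fin 2) (M := fun _ => F)).symm.toMonoidHom

theorem dg_coe (v : Fin 2 → Fˣ) :
    ((dg v : GL (Fin 2) F) : Matrix (Fin 2) (Fin 2) F) = Matrix.diagonal (fun i => (v i : F)) := rfl

theorem dg_injective : Function.Injective (dg : (Fin 2 → Fˣ) →* GL (Fin 2) F) := by
  intro v w h
  have h1 : Matrix.diagonal (fun i => (v i : F)) = Matrix.diagonal (fun i => (w i : F)) := by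
    rw [← dg_coe, ← dg_coe, h]
  have h2 := Matrix.diagonal_injective h1
  funext i
  exact Units.ext (congrFun h2 i)

theorem diagonal_eq (d : Fin 2 → F) :
    Matrix.diagonal d = !![d 0, 0; 0, d 1] := by
  ext i j
  fin_cases i <;> fin_cases j <;> simp

/-- the swap matrix -/
def swMat : Matrix (Fin 2) (Fin 2) F := !![0, 1; 1, 0]

theorem swMat_mul_self : (swMat : Matrix (Fin 2) (Fin 2) F) * swMat = 1 := by
  ext i j
  fin_cases i <;> fin_cases j <;> simp [swMat, Matrix.mul_apply, Fin.sum_univ_two]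

def sw : GL (Fin 2) F := ⟨swMat, swMat, swMat_mul_self, swMat_mul_self⟩

theorem sw_mul_self : (sw : GL (Fin 2) F) * sw = 1 := Units.ext swMat_mul_self

theorem sw_ne_one : (sw : GL (Fin 2) F) ≠ 1 := by
  intro h
  have h1 : ((sw : GL (Fin 2) F) : Matrix (Fin 2) (Fin 2) F) 0 0 = (1 : Matrix (Fin 2) (Fin 2) F) 0 0 := by
    rw [h]; rfl
  simp [sw, swMat] at h1

theorem orderOf_sw : orderOf (sw : GL (Fin 2) F) = 2 := by
  apply orderOf_eq_prime
  · rw [pow_two]; exact sw_mul_self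
  · exact sw_ne_one

theorem sw_conj (v : Fin 2 → Fˣ) :
    (sw : GL (Fin 2) F) * dg v * sw⁻¹ = dg (fun i => v (Equiv.swap 0 1 i)) := by
  have hinv : (sw : GL (Fin 2) F)⁻¹ = sw := inv_eq_of_mul_eq_one_right sw_mul_self
  rw [hinv]
  apply Units.ext
  rw [Units.val_mul, Units.val_mul, dg_coe, dg_coe, diagonal_eq, diagonal_eq]
  show (swMat : Matrix (Fin 2) (Fin 2) F) * _ * swMat = _
  rw [swMat, Matrix.mul_fin_two, Matrix.mul_fin_two]
  simp

end gl2

section wrappers
variable {G T : Type*} [Group G] [Group T]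

theorem isWreathed_of' (W : Subgroup G) (φ : W →* T) (hφ : Function.Injective φ) (n : ℕ)
    (hn : 2 ≤ n) (hcard : Nat.card T = 2 ^ (2 * n + 1)) (x y z : G) (hxW : x ∈ W) (hyW : y ∈ W)
    (hzW : z ∈ W) (hx : orderOf x = 2 ^ n)
    (hxy : x * y = y * x) (hint : Subgroup.zpowers x ⊓ Subgroup.zpowers y = ⊥)
    (hz : orderOf z = 2) (hzx : z * x * z⁻¹ = y) : Cfsg.IsWreathed T := by
  refine isWreathed_of φ hφ n hn hcard ⟨x, hxW⟩ ⟨y, hyW⟩ ⟨z, hzW⟩ ?_ ?_ ?_ ?_ ?_
  · rw [Subgroup.orderOf_mk, hx]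
  · exact Subtype.ext hxy
  · rw [eq_bot_iff]
    intro t ht
    obtain ⟨⟨i, hi⟩, ⟨j, hj⟩⟩ := ht
    simp only at hi hj
    have hi' : x ^ i = (t : G) := by rw [← hi]; simp
    have hj' : y ^ j = (t : G) := by rw [← hj]; simp
    have hmem : (t : G) ∈ Subgroup.zpowers x ⊓ Subgroup.zpowers y := ⟨⟨i, hi'⟩, ⟨j, hj'⟩⟩
    rw [hint, Subgroup.mem_bot] at hmem
    rw [Subgroup.mem_bot]
    exact Subtype.ext hmem
  · rw [Subgroup.orderOf_mk, hz]
  · exact Subtype.ext hzx

theorem isQuasiDihedral_of' (W : Subgroup G) (φ : W →* T) (hφ : Function.Injective φ) (n : ℕ)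
    (hn : 3 ≤ n) (hcard : Nat.card T = 2 ^ (n + 1)) (x y : G) (hxW : x ∈ W) (hyW : y ∈ W)
    (hx : orderOf x = 2 ^ n) (hy : orderOf y = 2) (hyx : y * x * y⁻¹ = x ^ (2 ^ (n - 1) - 1)) :
    Cfsg.IsQuasiDihedral T := by
  refine isQuasiDihedral_of φ hφ n hn hcard ⟨x, hxW⟩ ⟨y, hyW⟩ ?_ ?_ ?_
  · rw [Subgroup.orderOf_mk, hx]
  · rw [Subgroup.orderOf_mk, hy]
  · exact Subtype.ext hyx

end wrappers

section arith

theorem fact_aux (A B : ℕ) (hA : A ≠ 0) (hB : ¬ 2 ∣ B) :
    (A ^ 2 * (2 * B)).factorization 2 = 2 * A.factorization 2 + 1 := by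
  have hB0 : B ≠ 0 := by rintro rfl; simp at hB
  rw [Nat.factorization_mul (by positivity) (by positivity), Nat.factorization_pow,
    Nat.factorization_mul (by norm_num) hB0]
  simp only [Finsupp.coe_add, Finsupp.coe_smul, Pi.add_apply, Pi.smul_apply, smul_eq_mul]
  rw [Nat.Prime.factorization_self Nat.prime_two, Nat.factorization_eq_zero_of_not_dvd hB]

theorem fact_case_one (q : ℕ) (hq : q % 4 = 1) (hq1 : 1 < q) :
    ∃ n : ℕ, 2 ≤ n ∧ 2 ^ n ∣ q - 1 ∧
      ((q ^ 2 - 1) * (q ^ 2 - q)).factorization 2 = 2 * n + 1 := by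
  obtain ⟨k, rfl⟩ : ∃ k, q = 4 * k + 1 := ⟨q / 4, by omega⟩
  have hk : k ≠ 0 := by rintro rfl; omega
  have h1 : (4 * k + 1) ^ 2 - 1 = 4 * k * (2 * (2 * k + 1)) := by
    rw [Nat.sub_eq_iff_eq_add (by nlinarith)]; ring
  have h2 : (4 * k + 1) ^ 2 - (4 * k + 1) = (4 * k + 1) * (4 * k) := by
    rw [Nat.sub_eq_iff_eq_add (by nlinarith)]; ring
  have h3 : 4 * k + 1 - 1 = 4 * k := by omega
  refine ⟨(4 * k).factorization 2, ?_, ?_, ?_⟩
  · apply (Nat.Prime.pow_dvd_iff_le_factorization Nat.prime_two (by omega)).mp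
    exact ⟨k, by ring⟩
  · rw [h3]; exact Nat.ordProj_dvd _ _
  · rw [h1, h2]
    have e : 4 * k * (2 * (2 * k + 1)) * ((4 * k + 1) * (4 * k)) =
        (4 * k) ^ 2 * (2 * ((2 * k + 1) * (4 * k + 1))) := by ring
    rw [e]
    apply fact_aux _ _ (by omega)
    intro hd
    rcases (Nat.Prime.dvd_mul Nat.prime_two).mp hd with h | h <;> omega

theorem fact_aux2 (A B : ℕ) (hA : A ≠ 0) (hB : ¬ 2 ∣ B) :
    (A * (2 ^ 2 * B)).factorization 2 = A.factorization 2 + 2 := by
  have hB0 : B ≠ 0 := by rintro rfl; simp at hB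
  rw [Nat.factorization_mul hA (by positivity), Nat.factorization_mul (by norm_num) hB0,
    Nat.factorization_pow]
  simp only [Finsupp.coe_add, Finsupp.coe_smul, Pi.add_apply, Pi.smul_apply, smul_eq_mul]
  rw [Nat.Prime.factorization_self Nat.prime_two, Nat.factorization_eq_zero_of_not_dvd hB]

theorem fact_case_three (q : ℕ) (hq : q % 4 = 3) :
    ∃ m : ℕ, 2 ≤ m ∧ 2 ^ (m + 1) ∣ q ^ 2 - 1 ∧
      ((q ^ 2 - 1) * (q ^ 2 - q)).factorization 2 = m + 2 ∧
      q ≡ 2 ^ m - 1 [MOD 2 ^ (m + 1)] := by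
  obtain ⟨k, rfl⟩ : ∃ k, q = 4 * k + 3 := ⟨q / 4, by omega⟩
  have h1 : (4 * k + 3) ^ 2 - 1 = 4 * (k + 1) * (2 * (2 * k + 1)) := by
    rw [Nat.sub_eq_iff_eq_add (Nat.one_le_pow _ _ (by omega))]; ring
  have h2 : (4 * k + 3) ^ 2 - (4 * k + 3) = (4 * k + 3) * (2 * (2 * k + 1)) := by
    rw [Nat.sub_eq_iff_eq_add (Nat.le_self_pow (by norm_num) _)]; ring
  have hA0 : 4 * (k + 1) ≠ 0 := by omega
  set m := (4 * (k + 1)).factorization 2 with hm
  have hdvd : 2 ^ m ∣ 4 * (k + 1) := Nat.ordProj_dvd _ _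
  refine ⟨m, ?_, ?_, ?_, ?_⟩
  · apply (Nat.Prime.pow_dvd_iff_le_factorization Nat.prime_two hA0).mp
    exact ⟨k + 1, by ring⟩
  · rw [h1, pow_succ]
    exact Nat.mul_dvd_mul hdvd (dvd_mul_right 2 _)
  · rw [h1, h2]
    have e : 4 * (k + 1) * (2 * (2 * k + 1)) * ((4 * k + 3) * (2 * (2 * k + 1))) =
        (4 * (k + 1)) * (2 ^ 2 * ((2 * k + 1) ^ 2 * (4 * k + 3))) := by ring
    rw [e]
    apply fact_aux2 _ _ hA0
    intro hd
    rcases (Nat.Prime.dvd_mul Nat.prime_two).mp hd with h | h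
    · have := Nat.Prime.dvd_of_dvd_pow Nat.prime_two h
      omega
    · omega
  · -- q + 1 = 2^m * c with c odd
    have hc := Nat.ordProj_mul_ordCompl_eq_self (4 * (k + 1)) 2
    have hodd : ¬ 2 ∣ (4 * (k + 1)) / 2 ^ m := Nat.not_dvd_ordCompl Nat.prime_two hA0
    set c := (4 * (k + 1)) / 2 ^ m with hcdef
    obtain ⟨e, he⟩ : ∃ e, c = 2 * e + 1 := ⟨c / 2, by omega⟩
    have hpos : 1 ≤ 2 ^ m := Nat.one_le_two_pow
    have hq' : 4 * k + 3 = 2 ^ (m + 1) * e + (2 ^ m - 1) := by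
      have : 4 * (k + 1) = 2 ^ m * (2 * e + 1) := by rw [← he]; exact hc.symm
      have h3 : 2 ^ (m + 1) * e = 2 ^ m * (2 * e) := by rw [pow_succ]; ring
      rw [h3]
      have h4 : 2 ^ m * (2 * e + 1) = 2 ^ m * (2 * e) + 2 ^ m := by ring
      omega
    rw [hq']
    unfold Nat.ModEq
    rw [Nat.mul_add_mod]

end arith

section caseone
variable {F : Type*} [Field F] [Fintype F]

theorem card_GL2 : Nat.card (GL (Fin 2) F) =
    (Fintype.card F ^ 2 - 1) * (Fintype.card F ^ 2 - Fintype.card F) := by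
  rw [Matrix.card_GL_field, Fin.prod_univ_two]
  simp

theorem case_one (P : Sylow 2 (GL (Fin 2) F)) (h : Fintype.card F % 4 = 1) :
    Cfsg.IsWreathed (P : Subgroup (GL (Fin 2) F)) := by
  obtain ⟨n, hn2, hdvd, hfact⟩ := fact_case_one (Fintype.card F) h Fintype.one_lt_card
  have hcardP : Nat.card (P : Subgroup (GL (Fin 2) F)) = 2 ^ (2 * n + 1) := by
    rw [Sylow.card_eq_multiplicity, card_GL2, hfact]
  obtain ⟨ζ, hζ⟩ := exists_orderOf_eq (G := Fˣ) (2 ^ n)
    (by rw [Nat.card_units, Nat.card_eq_fintype_card]; exact hdvd)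
  set x : GL (Fin 2) F := dg (Pi.mulSingle 0 ζ) with hxdef
  set y : GL (Fin 2) F := dg (Pi.mulSingle 1 ζ) with hydef
  have hx : orderOf x = 2 ^ n := by
    rw [hxdef, orderOf_injective dg dg_injective, ← hζ]
    exact orderOf_injective (MonoidHom.mulSingle (fun _ : Fin 2 => Fˣ) 0) (Pi.mulSingle_injective (M := fun _ : Fin 2 => Fˣ) 0) ζ
  have hy : orderOf y = 2 ^ n := by
    rw [hydef, orderOf_injective dg dg_injective, ← hζ]
    exact orderOf_injective (MonoidHom.mulSingle (fun _ : Fin 2 => Fˣ) 1) (Pi.mulSingle_injective (M := fun _ : Fin 2 => Fˣ) 1) ζ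
  have hxy : x * y = y * x := by
    rw [hxdef, hydef, ← map_mul, ← map_mul, mul_comm]
  have hzx : sw * x * sw⁻¹ = y := by
    rw [hxdef, sw_conj, hydef]
    congr 1
    funext i
    fin_cases i <;> simp
  have hzy : sw * y * sw⁻¹ = x := by
    rw [hydef, sw_conj, hxdef]
    congr 1
    funext i
    fin_cases i <;> simp
  have hint : Subgroup.zpowers x ⊓ Subgroup.zpowers y = ⊥ := by
    rw [eq_bot_iff]
    intro t ht
    obtain ⟨⟨i, hi⟩, ⟨j, hj⟩⟩ := ht
    simp only at hi hj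
    rw [hxdef, ← map_zpow] at hi
    rw [hydef, ← map_zpow] at hj
    have hij : (Pi.mulSingle 0 ζ : Fin 2 → Fˣ) ^ i = (Pi.mulSingle 1 ζ : Fin 2 → Fˣ) ^ j :=
      dg_injective (hi.trans hj.symm)
    have h0 : ζ ^ i = 1 := by
      have := congrFun hij 0
      simpa using this
    have h1 : (Pi.mulSingle 0 ζ : Fin 2 → Fˣ) ^ i = 1 := by
      funext k
      fin_cases k
      · simpa using h0
      · simp
    rw [Subgroup.mem_bot, ← hi, h1, map_one]
  -- the 2-subgroup
  have hxn : x ∈ Subgroup.normalizer ((Subgroup.zpowers y : Subgroup (GL (Fin 2) F)) : Set (GL (Fin 2) F)) := by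
    apply mem_normalizer_of_map
    rw [map_conj_zpowers, hxy, mul_inv_cancel_right]
  have hA : IsPGroup 2 (Subgroup.zpowers x ⊔ Subgroup.zpowers y : Subgroup (GL (Fin 2) F)) := by
    apply IsPGroup.to_sup_of_normal_right' (isPGroup_zpowers x n hx) (isPGroup_zpowers y n hy)
    rw [Subgroup.zpowers_le]
    exact hxn
  have hzn : sw ∈ Subgroup.normalizer
      ((Subgroup.zpowers x ⊔ Subgroup.zpowers y : Subgroup (GL (Fin 2) F)) : Set (GL (Fin 2) F)) := by
    apply mem_normalizer_of_map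
    rw [Subgroup.map_sup, map_conj_zpowers, map_conj_zpowers, hzx, hzy, sup_comm]
  have hW : IsPGroup 2 (Subgroup.zpowers (sw : GL (Fin 2) F) ⊔
      (Subgroup.zpowers x ⊔ Subgroup.zpowers y) : Subgroup (GL (Fin 2) F)) := by
    apply IsPGroup.to_sup_of_normal_right' (isPGroup_zpowers sw 1 (by simpa using orderOf_sw)) hA
    rw [Subgroup.zpowers_le]
    exact hzn
  obtain ⟨φ, hφ⟩ := exists_embedding 2 _ hW P
  exact isWreathed_of' _ φ hφ n hn2 hcardP x y sw
    (le_sup_right (α := Subgroup (GL (Fin 2) F)) (le_sup_left (α := Subgroup (GL (Fin 2) F)) (Subgroup.mem_zpowers x)))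
    (le_sup_right (α := Subgroup (GL (Fin 2) F)) (le_sup_right (α := Subgroup (GL (Fin 2) F)) (Subgroup.mem_zpowers y)))
    (le_sup_left (α := Subgroup (GL (Fin 2) F)) (Subgroup.mem_zpowers sw))
    hx hxy hint orderOf_sw hzx

end caseone

section casethree
variable {F : Type*} [Field F] [Fintype F]

open Polynomial in
theorem irreducible_X_sq_add_one (h : Fintype.card F % 4 = 3) :
    Irreducible (X ^ 2 + 1 : F[X]) := by
  have hm : (X ^ 2 + 1 : F[X]).Monic := by
    have := monic_X_pow_add_C (R := F) (1 : F) (n := 2) (by norm_num)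
    simpa using this
  have hd : (X ^ 2 + 1 : F[X]).natDegree = 2 := by
    have := natDegree_X_pow_add_C (R := F) (n := 2) (r := 1)
    simpa using this
  rw [hm.irreducible_iff_roots_eq_zero_of_degree_le_three (by rw [hd]) (by rw [hd]; norm_num)]
  apply Multiset.eq_zero_of_forall_notMem
  intro a ha
  rw [mem_roots hm.ne_zero] at ha
  have h0 : a ^ 2 + 1 = 0 := by simpa [IsRoot] using ha
  have hsq : IsSquare (-1 : F) := ⟨a, by linear_combination (-1 : F) * h0⟩
  rw [FiniteField.isSquare_neg_one_iff] at hsq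
  exact hsq h

theorem singer (K : Type*) [Field K] [Algebra F K] [Finite K] (h2 : Module.finrank F K = 2)
    (ζ : Kˣ) :
    ∃ x y : GL (Fin 2) F, orderOf x = orderOf ζ ∧ y * y = 1 ∧
      y * x * y⁻¹ = x ^ (Fintype.card F) := by
  have : Module.Finite F K := Module.Finite.of_finite
  let b : Module.Basis (Fin 2) F K := Module.finBasisOfFinrankEq F K h2
  let L := Algebra.leftMulMatrix b
  let φ : Kˣ →* GL (Fin 2) F := Units.map (L.toRingHom.toMonoidHom)
  have hφ : Function.Injective φ := Units.map_injective (Algebra.leftMulMatrix_injective b)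
  let σ := FiniteField.frobeniusAlgHom F K
  let Y : Matrix (Fin 2) (Fin 2) F := LinearMap.toMatrix b b σ.toLinearMap
  have hcardK : Nat.card K = Fintype.card F ^ 2 := by
    rw [Module.natCard_eq_pow_finrank (K := F) (V := K), h2, Nat.card_eq_fintype_card]
  have hσσ : ∀ k : K, σ (σ k) = k := by
    intro k
    let _ : Fintype K := Fintype.ofFinite K
    have h3 : Fintype.card K = Fintype.card F ^ 2 := by rw [← Nat.card_eq_fintype_card, hcardK]
    show (k ^ Fintype.card F) ^ Fintype.card F = k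
    rw [← pow_mul, ← pow_two, ← h3, FiniteField.pow_card]
  have hYY : Y * Y = 1 := by
    rw [← LinearMap.toMatrix_comp]
    have : σ.toLinearMap ∘ₗ σ.toLinearMap = LinearMap.id := by
      ext k
      simp [hσσ]
    rw [this, LinearMap.toMatrix_id]
  have hYL : ∀ k : K, Y * L k = L (σ k) * Y := by
    intro k
    show Y * Algebra.leftMulMatrix b k = Algebra.leftMulMatrix b (σ k) * Y
    rw [Algebra.leftMulMatrix_apply, Algebra.leftMulMatrix_apply, ← LinearMap.toMatrix_comp,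
      ← LinearMap.toMatrix_comp]
    congr 1
    ext t
    simp [map_mul]
  let y : GL (Fin 2) F := ⟨Y, Y, hYY, hYY⟩
  have hyy : y * y = 1 := Units.ext hYY
  refine ⟨φ ζ, y, orderOf_injective φ hφ ζ, hyy, ?_⟩
  have hinv : y⁻¹ = y := inv_eq_of_mul_eq_one_right hyy
  rw [hinv]
  apply Units.ext
  rw [Units.val_mul, Units.val_mul, Units.val_pow_eq_pow_val]
  show Y * L (ζ : K) * Y = (L (ζ : K)) ^ Fintype.card F
  rw [hYL, mul_assoc, hYY, mul_one, ← map_pow]
  rfl

open Polynomial in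
theorem case_three (P : Sylow 2 (GL (Fin 2) F)) (h : Fintype.card F % 4 = 3) :
    Cfsg.IsQuasiDihedral (P : Subgroup (GL (Fin 2) F)) := by
  obtain ⟨m, hm2, hdvd, hfact, hmod⟩ := fact_case_three (Fintype.card F) h
  have hcardP : Nat.card (P : Subgroup (GL (Fin 2) F)) = 2 ^ ((m + 1) + 1) := by
    rw [Sylow.card_eq_multiplicity, card_GL2, hfact]
  -- the quadratic extension
  have hirr : Irreducible (X ^ 2 + 1 : F[X]) := irreducible_X_sq_add_one h
  have : Fact (Irreducible (X ^ 2 + 1 : F[X])) := ⟨hirr⟩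
  have hd : (X ^ 2 + 1 : F[X]).natDegree = 2 := by
    have := natDegree_X_pow_add_C (R := F) (n := 2) (r := 1)
    simpa using this
  have hf0 : (X ^ 2 + 1 : F[X]) ≠ 0 := hirr.ne_zero
  let K := AdjoinRoot (X ^ 2 + 1 : F[X])
  have hrank : Module.finrank F K = 2 := by
    rw [(AdjoinRoot.powerBasis hf0).finrank, AdjoinRoot.powerBasis_dim, hd]
  have hfinmod : Module.Finite F K := (AdjoinRoot.powerBasis hf0).finite
  have hfinK : Finite K := Module.finite_of_finite F
  have hcardK : Nat.card K = Fintype.card F ^ 2 := by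
    rw [Module.natCard_eq_pow_finrank (K := F) (V := K), hrank, Nat.card_eq_fintype_card]
  obtain ⟨ζ, hζ⟩ := exists_orderOf_eq (G := Kˣ) (2 ^ (m + 1))
    (by rw [Nat.card_units, hcardK]; exact hdvd)
  obtain ⟨x, y, hx, hyy, hyx⟩ := singer (F := F) K hrank ζ
  rw [hζ] at hx
  have hyx' : y * x * y⁻¹ = x ^ (2 ^ ((m + 1) - 1) - 1) := by
    rw [hyx, Nat.add_sub_cancel, pow_eq_pow_iff_modEq, hx]
    exact hmod
  have hy1 : y ≠ 1 := by
    rintro rfl
    rw [one_mul, inv_one, mul_one, Nat.add_sub_cancel] at hyx'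
    have h3 : x ^ 1 = x ^ (2 ^ m - 1) := by rw [pow_one]; exact hyx'
    rw [pow_eq_pow_iff_modEq, hx] at h3
    have h4 : 2 ^ m < 2 ^ (m + 1) := Nat.pow_lt_pow_right (by norm_num) (by omega)
    have h5 : 4 ≤ 2 ^ m := by
      calc 4 = 2 ^ 2 := by norm_num
        _ ≤ 2 ^ m := Nat.pow_le_pow_right (by norm_num) hm2
    unfold Nat.ModEq at h3
    rw [Nat.mod_eq_of_lt (by omega), Nat.mod_eq_of_lt (by omega)] at h3
    omega
  have hy : orderOf y = 2 := by
    apply orderOf_eq_prime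
    · rw [pow_two]; exact hyy
    · exact hy1
  have hyn : y ∈ Subgroup.normalizer
      ((Subgroup.zpowers x : Subgroup (GL (Fin 2) F)) : Set (GL (Fin 2) F)) := by
    apply mem_normalizer_of_invol _ y hyy
    rintro a ⟨j, rfl⟩
    rw [← conj_zpow, hyx]
    exact Subgroup.zpow_mem _ (Subgroup.pow_mem _ (Subgroup.mem_zpowers x) _) j
  have hW : IsPGroup 2 (Subgroup.zpowers y ⊔ Subgroup.zpowers x : Subgroup (GL (Fin 2) F)) := by
    apply IsPGroup.to_sup_of_normal_right' (isPGroup_zpowers y 1 (by simpa using hy))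
      (isPGroup_zpowers x (m + 1) hx)
    rw [Subgroup.zpowers_le]
    exact hyn
  obtain ⟨φ, hφ⟩ := exists_embedding 2 _ hW P
  exact isQuasiDihedral_of' _ φ hφ (m + 1) (by omega) hcardP x y
    (le_sup_right (α := Subgroup (GL (Fin 2) F)) (Subgroup.mem_zpowers x))
    (le_sup_left (α := Subgroup (GL (Fin 2) F)) (Subgroup.mem_zpowers y))
    hx hy hyx'

end casethree

/-- Let F be a finite field with q elements and P a Sylow 2-subgroup of GL_2(F). If q ≡ 3 (mod 4) then P is quasi-dihedral, and if q ≡ 1 (mod 4) then P is wreathed. -/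
theorem result {F : Type*} [Field F] [Fintype F] (P : Sylow 2 (GL (Fin 2) F)) : (Fintype.card F % 4 = 3 → Cfsg.IsQuasiDihedral (P : Subgroup (GL (Fin 2) F))) ∧ (Fintype.card F % 4 = 1 → Cfsg.IsWreathed (P : Subgroup (GL (Fin 2) F))) :=
  ⟨case_three P, case_one P⟩

end Cfsg.Agent.S1217
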