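import Cfsg.Statements.S2824
import Cfsg.Agent.Lib.Helper47_TL2

set_option autoImplicit false
open Cfsg
open Cfsg.Agent.Lib.Helper47_PLocal Cfsg.Agent.Lib.Helper47_PReduced Cfsg.Agent.Lib.Helper47_SubAPI
  Cfsg.Agent.Lib.Helper47_YL Cfsg.Agent.Lib.Helper47_TL Cfsg.Agent.Lib.Helper47_TL2

namespace Cfsg.Agent.S2824

/-- Let H be a finite group, p a prime, T a Sylow p-subgroup, L and M subgroups of characteristic p containing T, Y_L the largest p-reduced normal subgroup of L and T₀ = C_T(Y_L). If M·C_H(Y_L) = L·C_H(Y_L), then L* := N_M(T₀) has Y_{L*} = Y_L and L·C_H(Y_L) = L*·C_H(Y_L). -/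
theorem result {H : Type*} [Group H] [Finite H] {p : ℕ} [Fact p.Prime] (T : Sylow p H) (L M : Subgroup H) (hTL : (T : Subgroup H) ≤ L) (hTM : (T : Subgroup H) ≤ M) (hL : Subgroup.centralizer (Cfsg.pCore p ↥L : Set ↥L) ≤ Cfsg.pCore p ↥L) (hM : Subgroup.centralizer (Cfsg.pCore p ↥M : Set ↥M) ≤ Cfsg.pCore p ↥M) (T₀ : Subgroup H) (hT₀ : T₀ = (T : Subgroup H) ⊓ Subgroup.centralizer (((Cfsg.largestPReducedOf p L) : Subgroup H) : Set H)) (hfac : M ⊔ Subgroup.centralizer (((Cfsg.largestPReducedOf p L) : Subgroup H) : Set H) = L ⊔ Subgroup.centralizer (((Cfsg.largestPReducedOf p L) : Subgroup H) : Set H)) (Ls : Subgroup H) (hLs : Ls = M ⊓ Subgroup.normalizer ((T₀ : Subgroup H) : Set H)) : (Cfsg.largestPReducedOf p Ls) = (Cfsg.largestPReducedOf p L) ∧ L ⊔ Subgroup.centralizer (((Cfsg.largestPReducedOf p L) : Subgroup H) : Set H) = Ls ⊔ Subgroup.centralizer (((Cfsg.largestPReducedOf p L) : Subgroup H) : Set H) := by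
  have hY := pRedIn_largestPReducedOf (G := H) p L
  have hYeq := largestPReducedOf_eq_omegaOne_center T L hTL hL
  set Y : Subgroup H := Cfsg.largestPReducedOf p L with hYdef
  set C : Subgroup H := Subgroup.centralizer (Y : Set H) with hC
  subst hT₀
  subst hLs
  set T₀ : Subgroup H := (T : Subgroup H) ⊓ C with hT₀
  have hNYC : Subgroup.normalizer (Y : Set H) ≤ Subgroup.normalizer (C : Set H) :=
    normalizer_le_normalizer_centralizer Y
  have hCNY : C ≤ Subgroup.normalizer (Y : Set H) := Subgroup.centralizer_le_normalizer _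
  have hLNY : L ≤ Subgroup.normalizer (Y : Set H) := hY.2.1
  have hMNY : M ≤ Subgroup.normalizer (Y : Set H) :=
    le_sup_left.trans (hfac ▸ sup_le hLNY hCNY)
  have hMNC : M ≤ Subgroup.normalizer (C : Set H) := hMNY.trans hNYC
  have hTNT₀ : (T : Subgroup H) ≤ Subgroup.normalizer (T₀ : Set H) :=
    (le_inf Subgroup.le_normalizer (hTM.trans hMNC)).trans (normalizer_inf_le_normalizer_inf _ _)
  have hTLs : (T : Subgroup H) ≤ M ⊓ Subgroup.normalizer (T₀ : Set H) := le_inf hTM hTNT₀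
  have hT₀Ls : T₀ ≤ M ⊓ Subgroup.normalizer (T₀ : Set H) := inf_le_left.trans hTLs
  have hT₀p : IsPGroup p T₀ := T.isPGroup'.to_le inf_le_left
  -- second claim
  have hsup : L ⊔ C = (M ⊓ Subgroup.normalizer (T₀ : Set H)) ⊔ C := by
    rw [← hfac]
    apply le_antisymm
    · exact sup_le (le_inf_normalizer_sup_of_le_normalizer T M C hTM hMNC) le_sup_right
    · exact sup_le_sup_right inf_le_left _
  -- `Y ≤ T₀`
  have hYT : Y ≤ (T : Subgroup H) := (PRedIn.le_pCoreOf hY).trans (pCoreOf_le_sylow T hTL)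
  have hYC : Y ≤ C := by
    intro y hy
    rw [hC, Subgroup.mem_centralizer_iff]
    intro z hz
    have := hY.2.2.1.1
    exact congrArg Subtype.val (mul_comm' (⟨z, hz⟩ : Y) ⟨y, hy⟩)
  have hYT₀ : Y ≤ T₀ := le_inf hYT hYC
  refine ⟨le_antisymm ?_ ?_, hsup⟩
  · -- `Y_{L*} ≤ Ω₁Z(T₀) = Y_L`
    have hYs := pRedIn_largestPReducedOf (G := H) p (M ⊓ Subgroup.normalizer (T₀ : Set H))
    have hT₀Q : T₀ ≤ Cfsg.pCoreOf p (M ⊓ Subgroup.normalizer (T₀ : Set H)) :=
      Cfsg.Agent.Lib.Helper47_SubAPI.le_pCoreOf hT₀Ls inf_le_right hT₀p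
    intro y hy
    have h1 := omegaOne_le p _ (largestPReducedOf_le_omegaOne_center_pCoreOf _ hy)
    have hyT : y ∈ (T : Subgroup H) := pCoreOf_le_sylow T hTLs h1.1
    have hycT₀ : y ∈ Subgroup.centralizer (T₀ : Set H) := Subgroup.centralizer_le hT₀Q h1.2
    have hyC : y ∈ C := Subgroup.centralizer_le hYT₀ hycT₀
    rw [hYeq]
    exact Subgroup.subset_closure ⟨⟨⟨hyT, hyC⟩, hycT₀⟩, hYs.2.2.1.2 y hy⟩
  · -- `Y_L ≤ Y_{L*}`
    have h1 : PRedIn p (M ⊓ Subgroup.normalizer (T₀ : Set H)) Y :=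
      PRedIn.of_sup_centralizer_eq hY (hYT₀.trans hT₀Ls) hsup.symm
    exact PRedIn.le_largestPReducedOf h1

end Cfsg.Agent.S2824
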