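import Cfsg.Statements.S2826
import Cfsg.Agent.Lib.Helper47_Avg

set_option autoImplicit false
open Cfsg
open Cfsg.Agent.Lib.Helper47_PLocal Cfsg.Agent.Lib.Helper47_PReduced Cfsg.Agent.Lib.Helper47_SubAPI
  Cfsg.Agent.Lib.Helper47_YL Cfsg.Agent.Lib.Helper47_TL Cfsg.Agent.Lib.Helper47_TL2
  Cfsg.Agent.Lib.Helper47_Avg

namespace Cfsg.Agent.S2826

/-- Let H be a finite group of characteristic p, T a Sylow p-subgroup, and V a normal elementary abelian p-subgroup of H containing Ω₁(Z(T)). Then C_H(Ω₁(Z(T))) = C_H([V, O^p(H)] ∩ Ω₁(Z(T))), O^p(H) being generated by the elements of order prime to p. -/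
theorem result {H : Type*} [Group H] [Finite H] {p : ℕ} [Fact p.Prime] (hH : Subgroup.centralizer (Cfsg.pCore p H : Set H) ≤ Cfsg.pCore p H) (T : Sylow p H) (V : Subgroup H) [V.Normal] (hV : Cfsg.IsElementaryAbelian p V) (hZV : (Cfsg.omegaOne p ((T : Subgroup H) ⊓ Subgroup.centralizer (((T : Subgroup H) : Subgroup H) : Set H))) ≤ V) : Subgroup.centralizer ((Cfsg.omegaOne p ((T : Subgroup H) ⊓ Subgroup.centralizer (((T : Subgroup H) : Subgroup H) : Set H))) : Set H) = Subgroup.centralizer (((⁅V, Cfsg.pResidual p H⁆ ⊓ (Cfsg.omegaOne p ((T : Subgroup H) ⊓ Subgroup.centralizer (((T : Subgroup H) : Subgroup H) : Set H)))) : Subgroup H) : Set H) := by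
  set Z₀ : Subgroup H := Cfsg.omegaOne p ((T : Subgroup H) ⊓
    Subgroup.centralizer (((T : Subgroup H) : Subgroup H) : Set H)) with hZ₀
  set Z : Subgroup H := Subgroup.normalClosure (Z₀ : Set H) with hZ
  have hZV' : Z ≤ V := Subgroup.normalClosure_le_normal hZV
  have hZel : Cfsg.IsElementaryAbelian p Z := isElementaryAbelian_of_le hV hZV'
  have hZ₀Z : Z₀ ≤ Z := Subgroup.le_normalClosure
  have hZ₀T : Z₀ ≤ Subgroup.centralizer ((T : Subgroup H) : Set H) :=
    omegaOne_center_le_centralizer _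
  obtain ⟨hA, -⟩ := normalClosure_decomp T Z hZel Z₀ hZ₀Z hZ₀T le_rfl
  have hKn : (Cfsg.pResidual p H).Normal := Cfsg.Agent.Lib.Helper47_PClosed.pResidual_normal p H
  have hWn : (⁅Z, Cfsg.pResidual p H⁆).Normal := Subgroup.commutator_normal _ _
  apply le_antisymm
  · exact Subgroup.centralizer_le inf_le_right
  · intro g hg
    rw [Subgroup.mem_centralizer_iff] at hg ⊢
    intro z₀ hz₀
    have h1 : z₀ ∈ (Z ⊓ Subgroup.center H) ⊔ ⁅Z, Cfsg.pResidual p H⁆ := hA ▸ hZ₀Z hz₀
    obtain ⟨c, ⟨hcZ, hcc⟩, w, hw, rfl⟩ := Subgroup.mem_sup_of_normal_right.mp h1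
    have hcT : c ∈ (T : Subgroup H) := by
      apply pCore_le_sylow T
      apply hH
      rw [Subgroup.mem_centralizer_iff]
      intro x _
      exact (Subgroup.mem_center_iff.mp hcc x)
    have hcCT : c ∈ Subgroup.centralizer ((T : Subgroup H) : Set H) := by
      rw [Subgroup.mem_centralizer_iff]
      intro x _
      exact (Subgroup.mem_center_iff.mp hcc x)
    have hcZ₀ : c ∈ Z₀ := Subgroup.subset_closure ⟨⟨hcT, hcCT⟩, hZel.2 c hcZ⟩
    have hwZ₀ : w ∈ Z₀ := by
      have : w = c⁻¹ * (c * w) := by group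
      rw [this]
      exact Z₀.mul_mem (Z₀.inv_mem hcZ₀) hz₀
    have hwV : w ∈ ⁅V, Cfsg.pResidual p H⁆ := Subgroup.commutator_mono hZV' le_rfl hw
    have h2 := hg w ⟨hwV, hwZ₀⟩
    have h3 := Subgroup.mem_center_iff.mp hcc g
    calc c * w * g = c * (w * g) := by group
      _ = c * (g * w) := by rw [h2]
      _ = (c * g) * w := by group
      _ = (g * c) * w := by rw [h3]
      _ = g * (c * w) := by group

end Cfsg.Agent.S2826
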