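import Cfsg.Statements.S0182
import Mathlib
import Cfsg.Agent.Lib.Helper31_CAGroup
import Cfsg.Agent.Lib.Helper31_CAMain

set_option autoImplicit false
open Cfsg

namespace Cfsg.Agent.S0182

open Subgroup Cfsg.Agent.Lib.Helper31_CAGroup in
/-- A simple nonabelian CA-group of odd order does not exist. -/
theorem no_simple {G : Type*} [Group G] [Finite G] [IsSimpleGroup G] (hodd : Odd (Nat.card G))
    (hCA : CA G) (hnc : ∃ a b : G, a * b ≠ b * a) : False := by
  classical
  -- the index set: orders of centralizers of nonidentity elements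
  let ι := {n : Fin (Nat.card G + 1) // ∃ x : G, x ≠ 1 ∧ Nat.card (centralizer ({x} : Set G)) = n}
  have hx : ∀ i : ι, ∃ x : G, x ≠ 1 ∧ Nat.card (centralizer ({x} : Set G)) = i.1 := fun i => i.2
  choose x hx1 hxc using hx
  have hnt : Nontrivial G := by
    obtain ⟨a, b, hab⟩ := hnc
    exact ⟨⟨a * b, b * a, hab⟩⟩
  have hidx : ∀ g : G, g ≠ 1 → ∃ i : ι, Nat.card (centralizer ({g} : Set G)) = i.1 := by
    intro g hg
    have hle : Nat.card (centralizer ({g} : Set G)) < Nat.card G + 1 :=
      Nat.lt_succ_of_le (Subgroup.card_le_card_group _)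
    exact ⟨⟨⟨_, hle⟩, g, hg, rfl⟩, rfl⟩
  have hne : Nonempty ι := by
    obtain ⟨g, hg⟩ := exists_ne (1 : G)
    obtain ⟨i, -⟩ := hidx g hg
    exact ⟨i⟩
  have hmem : ∀ g : G, g ∈ centralizer ({g} : Set G) := fun g =>
    mem_centralizer_singleton_iff.mpr rfl
  have hcard1 : ∀ g : G, g ≠ 1 → Nat.card (centralizer ({g} : Set G)) ≠ 1 := by
    intro g hg h1
    have := hmem g
    rw [Subgroup.card_eq_one.mp h1, Subgroup.mem_bot] at this
    exact hg this
  have hconjcard : ∀ {u v : G} (g : G),
      (∀ w, w ∈ centralizer ({u} : Set G) ↔ g * w * g⁻¹ ∈ centralizer ({v} : Set G)) →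
      Nat.card (centralizer ({u} : Set G)) = Nat.card (centralizer ({v} : Set G)) := by
    intro u v g h
    exact Nat.card_congr (Equiv.subtypeEquiv (MulAut.conj g).toEquiv (fun w => by
      simpa [MulAut.conj_apply] using h w))
  refine Cfsg.Agent.Lib.Helper31_CAMain.no_abelian_partition hodd
    (fun i : ι => centralizer ({x i} : Set G)) ?_ ?_ ?_ ?_ ?_ ?_ ?_
  · intro i h
    have := hmem (x i)
    rw [h, Subgroup.mem_bot] at this
    exact hx1 i this
  · intro i
    exact hCA.lt_normalizer hnc (hx1 i)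
  · intro i a ha b hb
    exact hCA (x i) (hx1 i) a ha b hb
  · intro i k hk hk1
    exact (hCA.centralizer_eq_of_mem (hx1 i) hk1 hk).le
  · intro i g hg k hk hgk
    exact hCA.ti (hx1 i) g hg k hk hgk
  · intro i j hij
    by_contra hnc'
    obtain ⟨g, hg⟩ := hCA.coprime_or_conj (hx1 i) (hx1 j) hnc'
    have := hconjcard g hg
    rw [hxc i, hxc j] at this
    exact hij (Subtype.ext (Fin.ext this))
  · intro g hg
    obtain ⟨i, hi⟩ := hidx g hg
    have hnc' : ¬ Nat.Coprime (Nat.card (centralizer ({g} : Set G)))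
        (Nat.card (centralizer ({x i} : Set G))) := by
      rw [hxc i, ← hi, Nat.coprime_self]
      exact hcard1 g hg
    obtain ⟨h, hh⟩ := hCA.coprime_or_conj hg (hx1 i) hnc'
    exact ⟨i, h, (hh g).mp (hmem g)⟩

open Subgroup Cfsg.Agent.Lib.Helper31_CAGroup in
/-- Suzuki's CA theorem by induction on the order. -/
theorem main : ∀ (n : ℕ) (G : Type*) [Group G] [Finite G], Nat.card G = n →
    Odd (Nat.card G) → CA G → Group.IsSolvable G := by
  intro n
  induction n using Nat.strong_induction_on with
  | _ n ih =>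
    intro G _ _ hn hodd hCA
    have IH : ∀ K : Subgroup G, K ≠ ⊤ → Group.IsSolvable K := by
      intro K hK
      have hlt : Nat.card K < n := by
        rw [← hn]
        by_contra hcon
        exact hK (Subgroup.eq_top_of_card_eq K (le_antisymm (Subgroup.card_le_card_group K)
          (not_lt.mp hcon)))
      exact ih _ hlt K rfl (Odd.of_dvd_nat hodd (Subgroup.card_subgroup_dvd_card K))
        (hCA.subgroup K)
    by_cases hab : ∀ a b : G, a * b = b * a
    · exact Group.isSolvable_of_comm hab
    by_cases hs : ∃ N : Subgroup G, N.Normal ∧ N ≠ ⊥ ∧ N ≠ ⊤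
    · obtain ⟨N, hN, hN1, hN2⟩ := hs
      exact hCA.isSolvable_of_normal IH N hN1 hN2
    · exfalso
      push Not at hab hs
      obtain ⟨a, b, hab⟩ := hab
      have hnt : Nontrivial G := ⟨⟨a * b, b * a, hab⟩⟩
      have hsimple : IsSimpleGroup G :=
        ⟨fun N hN => by
          by_contra hcon
          push Not at hcon
          exact hcon.2 (hs N hN hcon.1)⟩
      exact no_simple hodd hCA ⟨a, b, hab⟩

/-- The CA-Theorem for odd order: a finite group of odd order in which every non-identity element has an abelian centralizer is solvable. -/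
theorem result {G : Type*} [Group G] [Finite G] (hodd : Odd (Nat.card G)) (hCA : ∀ x : G, x ≠ 1 → ∀ a ∈ Subgroup.centralizer ({x} : Set G), ∀ b ∈ Subgroup.centralizer ({x} : Set G), a * b = b * a) : Group.IsSolvable G := by
  exact main _ G rfl hodd hCA

end Cfsg.Agent.S0182
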