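import Cfsg.Statements.S2202
import Cfsg.Agent.Lib.Helper37_AbInv_NoBad
import Cfsg.Agent.Lib.Helper37_AbInv_Split

set_option autoImplicit false
open Cfsg

namespace Cfsg.Agent.S2202

open Cfsg.Agent.Lib.Helper37_AbInv

/-- The odd part of the centre is commutative. -/
private theorem oddCenter_comm {G : Type*} [Group G] (a b : ↥(oddCenter G)) : a * b = b * a := by
  apply Subtype.ext
  have h := Subgroup.mem_center_iff.mp a.2.1 (b : G)
  simpa using h.symm

/-- Finite groups in which the centralizer of every involution is abelian. Let G be a finite group of even order in which the centralizer of every element of order 2 is abelian. Then the Sylow 2-subgroups of G are cyclic, or a Sylow 2-subgroup of G is normal, or G is isomorphic to the direct product of SL₂(F) for a finite field F of characteristic two and an abelian group of odd order. -/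
theorem result {G : Type*} [Group G] [Finite G] (heven : Even (Nat.card G)) (h : ∀ t : G, orderOf t = 2 → IsMulCommutative ↥(Subgroup.centralizer ({t} : Set G))) :
    (∀ P : Sylow 2 G, IsCyclic ↥P) ∨ (∀ P : Sylow 2 G, (P : Subgroup G).Normal) ∨
    (∃ (F : Type) (_ : Field F) (_ : Fintype F) (A : Type) (_ : CommGroup A) (_ : Finite A), CharP F 2 ∧ Odd (Nat.card A) ∧ Nonempty (G ≃* Matrix.SpecialLinearGroup (Fin 2) F × A)) := by
  classical
  by_cases hcyc : ∀ P : Sylow 2 G, IsCyclic ↥P
  · exact Or.inl hcyc
  by_cases hnor : ∀ P : Sylow 2 G, (P : Subgroup G).Normal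
  · exact Or.inr (Or.inl hnor)
  refine Or.inr (Or.inr ?_)
  push Not at hcyc hnor
  obtain ⟨T, hnc⟩ := hcyc
  obtain ⟨P, hPn⟩ := hnor
  have hnc' : ¬ IsCyclic ↥(T : Subgroup G) := hnc
  have hnn : ¬ (T : Subgroup G).Normal := by
    intro hT
    apply hPn
    obtain ⟨g, hg⟩ := MulAction.exists_smul_eq G T P
    have h1 : g • T = T := Sylow.smul_eq_of_normal
    rw [← hg, h1]
    exact hT
  have hab : AbCent G := h
  have hD : Dich T := dich_of_abCent hab T hnc' hnn
  obtain ⟨F, hF, hFin, hchar, ⟨e⟩⟩ := quotient_mulEquiv_SL hab T hnc' hnn hD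
  obtain ⟨X, h1, h2⟩ := exists_complement_oddCenter hab T hnc' hnn
    (fun a ha hodd => odd_cen_mem_center hab T hnc' hnn hD ha hodd)
    (fun a ha => sq_eq_one_of_mem_sylow hab T hnc' hnn hD ha)
    (index_nrm hab T hnc' hnn hD)
    (fun x y hx hy => commutator_mem_sylow hab T hnc' hnn hD hx hy)
  obtain ⟨e2⟩ := nonempty_mulEquiv_prod_of_complement h1 h2
  let _inst : CommGroup ↥(oddCenter G) :=
    { (inferInstance : Group ↥(oddCenter G)) with mul_comm := oddCenter_comm }
  have hodd : Odd (Nat.card (Shrink.{0} ↥(oddCenter G))) := by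
    rw [Nat.card_congr (equivShrink.{0} ↥(oddCenter G)).symm]
    exact odd_card_oddCenter
  exact ⟨F, hF, hFin, Shrink.{0} ↥(oddCenter G), inferInstance, inferInstance, hchar, hodd,
    ⟨e2.trans (MulEquiv.prodCongr e (Shrink.mulEquiv.{0} (α := ↥(oddCenter G))).symm)⟩⟩

end Cfsg.Agent.S2202
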