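import Cfsg.Statements.S1018
import Cfsg.Agent.Lib.Helper17_Sylow

set_option autoImplicit false
open Cfsg

namespace Cfsg.Agent.S1018

open Cfsg.Agent.Lib.Helper17_Sylow Subgroup

/-- `g • P = P'` in terms of membership of a generator, when Sylow subgroups have order `p`. -/
theorem smul_eq_iff_mem {G : Type*} [Group G] [Finite G] {p : ℕ} [Fact p.Prime]
    (hcard : ∀ Q : Sylow p G, Nat.card (Q : Subgroup G) = p) (P P' : Sylow p G) (y : G)
    (hy : orderOf y = p) (hP' : (P' : Subgroup G) = zpowers y) (g : G) :
    g • P = P' ↔ g⁻¹ * y * g ∈ (P : Subgroup G) := by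
  rw [← mem_smul_sylow]
  constructor
  · intro h
    rw [h, hP']; exact mem_zpowers y
  · intro h
    apply Sylow.ext
    rw [hP']
    exact sylow_eq_zpowers (g • P) (hcard _) y h hy

/-- Let P be a Sylow p-subgroup of order p of a finite group G, and consider the action of G on the left cosets of the normalizer N of P. Then every element of order p fixes exactly one coset, and an element of N that does not centralize P fixes at most as many cosets as there are orbits of P. -/
theorem result {G : Type*} [Group G] [Finite G] (p : ℕ) [Fact p.Prime] (P : Sylow p G) (hP : Nat.card ↥(P : Subgroup G) = p) : (∀ y : G, orderOf y = p → Nat.card (MulAction.fixedBy (G ⧸ Subgroup.normalizer ((P : Subgroup G) : Set G)) y) = 1) ∧ ∀ x : G, x ∈ Subgroup.normalizer ((P : Subgroup G) : Set G) → x ∉ Subgroup.centralizer ((P : Subgroup G) : Set G) → Nat.card (MulAction.fixedBy (G ⧸ Subgroup.normalizer ((P : Subgroup G) : Set G)) x) ≤ Nat.card (MulAction.orbitRel.Quotient ↥(P : Subgroup G) (G ⧸ Subgroup.normalizer ((P : Subgroup G) : Set G))) := by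
  classical
  have hp : p.Prime := Fact.out
  have hcard : ∀ Q : Sylow p G, Nat.card (Q : Subgroup G) = p := by
    intro Q
    rw [Sylow.card_eq_multiplicity] at hP ⊢
    exact hP
  -- key: an element of order p fixing the coset of g forces g • P to contain it
  have hfixmem : ∀ (w g : G), orderOf w = p →
      (w • (QuotientGroup.mk g : G ⧸ normalizer ((P : Subgroup G) : Set G)) = QuotientGroup.mk g ↔
        g⁻¹ * w * g ∈ (P : Subgroup G)) := by
    intro w g hw
    rw [MulAction.Quotient.smul_mk, smul_eq_mul, QuotientGroup.eq]
    have e1 : (w * g)⁻¹ * g = (g⁻¹ * w * g)⁻¹ := by group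
    rw [e1, inv_mem_iff]
    constructor
    · intro h
      apply mem_sylow_of_mem_normalizer P _ _ h
      have : g⁻¹ * w * g = g⁻¹ * w * (g⁻¹)⁻¹ := by group
      rw [this, orderOf_conj', hw]
    · intro h
      exact Subgroup.le_normalizer h
  constructor
  · intro y hy
    obtain ⟨P', hP'⟩ := exists_sylow_eq_zpowers hcard y hy
    obtain ⟨h, hh⟩ := MulAction.exists_smul_eq G P P'
    have h1 := card_fixedBy_mul (normalizer ((P : Subgroup G) : Set G)) y
    have h2 : Nat.card {g : G // g⁻¹ * y * g ∈ normalizer ((P : Subgroup G) : Set G)} =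
        Nat.card (normalizer ((P : Subgroup G) : Set G)) := by
      apply Nat.card_congr
      refine
        { toFun := fun g => ⟨h⁻¹ * g.1, ?_⟩
          invFun := fun n => ⟨h * n.1, ?_⟩
          left_inv := fun g => by apply Subtype.ext; simp
          right_inv := fun n => by apply Subtype.ext; simp }
      · have hg : g.1⁻¹ * y * g.1 ∈ (P : Subgroup G) := by
          apply mem_sylow_of_mem_normalizer P _ _ g.2
          have : g.1⁻¹ * y * g.1 = g.1⁻¹ * y * (g.1⁻¹)⁻¹ := by group
          rw [this, orderOf_conj', hy]
        have h3 : g.1 • P = P' := (smul_eq_iff_mem hcard P P' y hy hP' g.1).mpr hg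
        rw [← smul_eq_iff_mem_normalizer', mul_smul, h3, ← hh, inv_smul_smul]
      · have h3 : (h * n.1) • P = P' := by
          rw [mul_smul, smul_eq_iff_mem_normalizer'.mpr n.2, hh]
        exact Subgroup.le_normalizer ((smul_eq_iff_mem hcard P P' y hy hP' _).mp h3)
    rw [h2] at h1
    have hNpos : 0 < Nat.card (normalizer ((P : Subgroup G) : Set G)) := Nat.card_pos
    have : Nat.card (normalizer ((P : Subgroup G) : Set G)) * 1 =
        Nat.card (normalizer ((P : Subgroup G) : Set G)) *
          Nat.card (MulAction.fixedBy (G ⧸ normalizer ((P : Subgroup G) : Set G)) y) := by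
      rw [mul_one]; exact h1
    exact (Nat.eq_of_mul_eq_mul_left hNpos this).symm
  · intro x hxN hxC
    -- a nontrivial element of P fixes only the trivial coset
    have hfix1 : ∀ (w : G), w ∈ (P : Subgroup G) → w ≠ 1 →
        ∀ a : G ⧸ normalizer ((P : Subgroup G) : Set G), w • a = a →
        a = QuotientGroup.mk 1 := by
      intro w hwP hw1 a ha
      induction a using QuotientGroup.induction_on with
      | H g =>
        have hwo : orderOf w = p := by
          have h1 : orderOf w ∣ p := by
            have := orderOf_dvd_natCard (⟨w, hwP⟩ : (P : Subgroup G))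
            rwa [Subgroup.orderOf_mk, hP] at this
          rcases (Nat.dvd_prime hp).mp h1 with h | h
          · exact absurd (orderOf_eq_one_iff.mp h) hw1
          · exact h
        have h2 := (hfixmem w g hwo).mp ha
        have hPz := sylow_eq_zpowers P hP w hwP hwo
        have h3 : g • P = P := (smul_eq_iff_mem hcard P P w hwo hPz g).mpr h2
        rw [QuotientGroup.eq, mul_one, inv_mem_iff]
        exact smul_eq_iff_mem_normalizer'.mp h3
    have hinj : Function.Injective (fun a : MulAction.fixedBy (G ⧸ normalizer ((P : Subgroup G) : Set G)) x =>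
        (Quotient.mk'' a.1 : MulAction.orbitRel.Quotient ↥(P : Subgroup G)
          (G ⧸ normalizer ((P : Subgroup G) : Set G)))) := by
      intro a b hab
      have hab' : (MulAction.orbitRel ↥(P : Subgroup G) _) a.1 b.1 := Quotient.exact' hab
      rw [MulAction.orbitRel_apply] at hab'
      obtain ⟨u, hu⟩ := hab'
      -- u • b = a
      by_contra hne
      have hne' : a.1 ≠ b.1 := fun h => hne (Subtype.ext h)
      have hu' : (u : G) • b.1 = a.1 := hu
      have ha : x • a.1 = a.1 := a.2
      have hb : x • b.1 = b.1 := b.2
      -- w = x⁻¹ u⁻¹ x u fixes b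
      have hwb : (x⁻¹ * (u : G)⁻¹ * x * (u : G)) • b.1 = b.1 := by
        rw [mul_smul, hu', mul_smul, ha, mul_smul, ← hu', inv_smul_smul, ← hb, inv_smul_smul, hb]
      have hwP : x⁻¹ * (u : G)⁻¹ * x * (u : G) ∈ (P : Subgroup G) := by
        have h1 : x⁻¹ * (u : G)⁻¹ * (x⁻¹)⁻¹ ∈ (P : Subgroup G) :=
          (Subgroup.mem_normalizer_iff.mp (inv_mem hxN) _).mp (inv_mem u.2)
        rw [inv_inv] at h1
        exact mul_mem h1 u.2
      by_cases hw1 : x⁻¹ * (u : G)⁻¹ * x * (u : G) = 1
      · -- x commutes with u, a generator of P
        apply hxC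
        have hu1 : (u : G) ≠ 1 := by
          intro h
          apply hne'
          rw [← hu', h, one_smul]
        have huo : orderOf (u : G) = p := by
          have h1 : orderOf (u : G) ∣ p := by
            have := orderOf_dvd_natCard u
            rwa [← Subgroup.orderOf_coe, hP] at this
          rcases (Nat.dvd_prime hp).mp h1 with h | h
          · exact absurd (orderOf_eq_one_iff.mp h) hu1
          · exact h
        have hPz := sylow_eq_zpowers P hP (u : G) u.2 huo
        have hcomm : Commute (u : G) x := by
          unfold Commute SemiconjBy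
          have : x * (u : G) = (u : G) * x * (x⁻¹ * (u : G)⁻¹ * x * (u : G)) := by group
          rw [this, hw1, mul_one]
        rw [Subgroup.mem_centralizer_iff]
        intro v hv
        rw [SetLike.mem_coe, hPz] at hv
        obtain ⟨k, rfl⟩ := Subgroup.mem_zpowers_iff.mp hv
        exact (hcomm.zpow_left k)
      · have hb1 := hfix1 _ hwP hw1 b.1 hwb
        apply hne'
        rw [← hu', hb1, MulAction.Quotient.smul_mk, smul_eq_mul, mul_one, QuotientGroup.eq, mul_one,
          inv_mem_iff]
        exact Subgroup.le_normalizer u.2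
    exact Nat.card_le_card_of_injective _ hinj

end Cfsg.Agent.S1018
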