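import Cfsg.Statements.S4089
import Cfsg.Agent.Lib.Helper22_Cores
import Cfsg.Agent.Lib.Helper93_LES

set_option autoImplicit false
open Cfsg

namespace Cfsg.Agent.S4089

open Cfsg.Agent.Lib

variable {G : Type*} [Group G]

/-- In a finite nilpotent group every subgroup is subnormal. -/
theorem isSubnormal_of_nilp {X : Type*} [Group X] [Finite X] [Group.IsNilpotent X]
    (H : Subgroup X) : H.IsSubnormal := by
  have hnc : NormalizerCondition X := Group.normalizerCondition_of_isNilpotent
  induction' hn : H.index using Nat.strong_induction_on with n ih generalizing H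
  by_cases hH : H = ⊤
  · rw [hH]; exact Subgroup.IsSubnormal.top
  · have hlt : H < Subgroup.normalizer (H : Set X) := hnc H (lt_top_iff_ne_top.mpr hH)
    have h1 : (Subgroup.normalizer (H : Set X)).index < n := by
      rw [← hn]
      exact Subgroup.index_strictAnti hlt
    have h2 := ih _ h1 (Subgroup.normalizer (H : Set X)) rfl
    exact Subgroup.IsSubnormal.step H (Subgroup.normalizer (H : Set X)) hlt.le h2
      Subgroup.normal_in_normalizer

/-- The image in `G` of a normal subgroup of `X ≤ G` is normalized by `X`. -/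
theorem le_normalizer_map_subtype (X : Subgroup G) (N : Subgroup X) [hN : N.Normal] :
    X ≤ Subgroup.normalizer ((N.map X.subtype : Subgroup G) : Set G) := by
  have h1 := Subgroup.le_normalizer_map (H := N) X.subtype
  rw [Subgroup.normalizer_eq_top, ← MonoidHom.range_eq_map, Subgroup.range_subtype] at h1
  exact h1

/-- forward direction of the key characterization -/
theorem exists_of_sn [Finite G] (p : ℕ) [Fact p.Prime] (H : Subgroup G) (hH : IsPGroup p H) (g : G)
    (h : (H.subgroupOf (H ⊔ Subgroup.zpowers g)).IsSubnormal) :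
    ∃ R : Subgroup G, H ≤ R ∧ IsPGroup p R ∧ g ∈ Subgroup.normalizer (R : Set G) := by
  set X := H ⊔ Subgroup.zpowers g with hX
  have hle : H.subgroupOf X ≤ pCore p X :=
    Helper22_Cores.le_pCore_of_isSubnormal p h (hH.comap_subtype)
  refine ⟨(pCore p X).map X.subtype, ?_, ?_, ?_⟩
  · intro x hx
    have hxX : x ∈ X := (le_sup_left : H ≤ X) hx
    exact ⟨⟨x, hxX⟩, hle (Subgroup.mem_subgroupOf.mpr hx), rfl⟩
  · exact (Helper93_LES.pCore_isPGroup p X).map _
  · have hn : (pCore p X).Normal := Helper93_LES.pCore_normal p X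
    exact le_normalizer_map_subtype X (pCore p X)
      (Subgroup.mem_sup_right (Subgroup.mem_zpowers g))

/-- backward direction of the key characterization -/
theorem sn_of_exists [Finite G] (p : ℕ) [Fact p.Prime] (H : Subgroup G) (g : G)
    (R : Subgroup G) (hHR : H ≤ R) (hR : IsPGroup p R)
    (hg : g ∈ Subgroup.normalizer (R : Set G)) :
    (H.subgroupOf (H ⊔ Subgroup.zpowers g)).IsSubnormal := by
  set X := H ⊔ Subgroup.zpowers g with hX
  have hXN : X ≤ Subgroup.normalizer (R : Set G) := by
    apply sup_le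
    · exact hHR.trans Subgroup.le_normalizer
    · rw [Subgroup.zpowers_le]; exact hg
  have hN : (R.subgroupOf X).Normal := Subgroup.normal_subgroupOf_of_le_normalizer hXN
  have hNp : IsPGroup p (R.subgroupOf X) := hR.comap_subtype
  have hnil : Group.IsNilpotent (R.subgroupOf X) := hNp.isNilpotent
  have hle : H.subgroupOf X ≤ R.subgroupOf X := fun x hx =>
    Subgroup.mem_subgroupOf.mpr (hHR (Subgroup.mem_subgroupOf.mp hx))
  exact Subgroup.IsSubnormal.trans hle (isSubnormal_of_nilp _) hN.isSubnormal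

theorem sn_iff [Finite G] (p : ℕ) [Fact p.Prime] (H : Subgroup G) (hH : IsPGroup p H) (g : G) :
    (H.subgroupOf (H ⊔ Subgroup.zpowers g)).IsSubnormal ↔
    ∃ R : Subgroup G, H ≤ R ∧ IsPGroup p R ∧ g ∈ Subgroup.normalizer (R : Set G) :=
  ⟨exists_of_sn p H hH g, fun ⟨R, h1, h2, h3⟩ => sn_of_exists p H g R h1 h2 h3⟩

/-- `O_p(N_G(R))` as a subgroup of `G`. -/
abbrev rad (p : ℕ) (R : Subgroup G) : Subgroup G :=
  (Cfsg.pCore p (Subgroup.normalizer (R : Set G))).map (Subgroup.normalizer (R : Set G)).subtype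

theorem le_rad (p : ℕ) (R : Subgroup G) (hR : IsPGroup p R) : R ≤ rad p R := by
  intro x hx
  have hxN : x ∈ Subgroup.normalizer (R : Set G) := Subgroup.le_normalizer hx
  have hn : (R.subgroupOf (Subgroup.normalizer (R : Set G))).Normal :=
    Subgroup.normal_in_normalizer
  have hle := Helper93_LES.le_pCore p (R.subgroupOf (Subgroup.normalizer (R : Set G))) hn
    hR.comap_subtype
  exact ⟨⟨x, hxN⟩, hle (Subgroup.mem_subgroupOf.mpr hx), rfl⟩

theorem rad_isPGroup (p : ℕ) [Fact p.Prime] (R : Subgroup G) : IsPGroup p (rad p R) :=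
  (Helper93_LES.pCore_isPGroup p _).map _

theorem normalizer_le_normalizer_rad (p : ℕ) (R : Subgroup G) :
    Subgroup.normalizer (R : Set G) ≤ Subgroup.normalizer ((rad p R : Subgroup G) : Set G) := by
  have hn : (pCore p (Subgroup.normalizer (R : Set G))).Normal := Helper93_LES.pCore_normal p _
  exact le_normalizer_map_subtype _ _

/-- The intersection of the Sylow `p`-subgroups containing `H`. -/
abbrev sylInt (p : ℕ) (H : Subgroup G) : Subgroup G :=
  sInf {K : Subgroup G | ∃ Q : Sylow p G, H ≤ (Q : Subgroup G) ∧ K = (Q : Subgroup G)}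

theorem le_sylInt (p : ℕ) (H : Subgroup G) : H ≤ sylInt p H := by
  apply le_sInf
  rintro K ⟨Q, hQ, rfl⟩
  exact hQ

theorem sylInt_isPGroup [Finite G] (p : ℕ) [Fact p.Prime] (H : Subgroup G) (hH : IsPGroup p H) :
    IsPGroup p (sylInt p H) := by
  obtain ⟨Q, hQ⟩ := hH.exists_le_sylow
  have : sylInt p H ≤ (Q : Subgroup G) := sInf_le ⟨Q, hQ, rfl⟩
  exact Q.isPGroup'.to_le this

theorem sylInt_mono (p : ℕ) {H R : Subgroup G} (h : H ≤ R) : sylInt p H ≤ sylInt p R := by
  apply sInf_le_sInf
  rintro K ⟨Q, hQ, rfl⟩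
  exact ⟨Q, h.trans hQ, rfl⟩

open scoped Pointwise in
theorem conj_mem_sylInt (p : ℕ) (R : Subgroup G) (g : G)
    (hg : g ∈ Subgroup.normalizer (R : Set G)) (x : G) (hx : x ∈ sylInt p R) :
    g * x * g⁻¹ ∈ sylInt p R := by
  rw [Subgroup.mem_sInf]
  rintro K ⟨Q, hQ, rfl⟩
  -- the Sylow subgroup `g⁻¹ Q g` contains `R`
  have hR' : R ≤ ((g⁻¹ • Q : Sylow p G) : Subgroup G) := by
    intro r hr
    rw [Sylow.coe_subgroup_smul, Subgroup.mem_pointwise_smul_iff_inv_smul_mem]
    simp only [MulAut.smul_def, MulAut.conj_inv_apply, inv_inv]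
    exact hQ ((Subgroup.mem_set_normalizer_iff.mp hg r).mp hr)
  have hx' : x ∈ ((g⁻¹ • Q : Sylow p G) : Subgroup G) :=
    (Subgroup.mem_sInf.mp hx) _ ⟨g⁻¹ • Q, hR', rfl⟩
  rw [Sylow.coe_subgroup_smul, Subgroup.mem_pointwise_smul_iff_inv_smul_mem] at hx'
  simpa only [MulAut.smul_def, MulAut.conj_inv_apply, inv_inv] using hx'

theorem mem_normalizer_sylInt (p : ℕ) (R : Subgroup G) (g : G)
    (hg : g ∈ Subgroup.normalizer (R : Set G)) :
    g ∈ Subgroup.normalizer ((sylInt p R : Subgroup G) : Set G) := by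
  rw [Subgroup.mem_set_normalizer_iff]
  intro x
  constructor
  · exact conj_mem_sylInt p R g hg x
  · intro hx
    have h := conj_mem_sylInt p R g⁻¹ (inv_mem hg) _ hx
    have he : g⁻¹ * (g * x * g⁻¹) * g⁻¹⁻¹ = x := by group
    rwa [he] at h

/-- Let G be a finite group, p a prime and H a p-subgroup of G. Then the set of elements g of G such that H is subnormal in the subgroup generated by H and g is the union of the normalizers N_G(R) over the subgroups R of G containing H with R = O_p(N_G(R)); and this set does not change when H is replaced by the intersection of all Sylow p-subgroups of G containing H. -/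
theorem result {G : Type*} [Group G] [Finite G] (p : ℕ) [Fact p.Prime]
    (H : Subgroup G) (hH : IsPGroup p H) :
    {g : G | ((H).subgroupOf (H ⊔ Subgroup.zpowers g)).IsSubnormal} =
      {g : G | ∃ R : Subgroup G, H ≤ R ∧ (Cfsg.pCore p (Subgroup.normalizer (R : Set G))).map (Subgroup.normalizer (R : Set G)).subtype = R ∧ g ∈ Subgroup.normalizer (R : Set G)} ∧
    ∀ g : G, (((H).subgroupOf (H ⊔ Subgroup.zpowers g)).IsSubnormal ↔
      (((sInf {K : Subgroup G | ∃ Q : Sylow p G, H ≤ (Q : Subgroup G) ∧ K = (Q : Subgroup G)})).subgroupOf ((sInf {K : Subgroup G | ∃ Q : Sylow p G, H ≤ (Q : Subgroup G) ∧ K = (Q : Subgroup G)}) ⊔ Subgroup.zpowers g)).IsSubnormal) := by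
  refine ⟨?_, ?_⟩
  · ext g
    simp only [Set.mem_ofPred_eq]
    constructor
    · intro h
      obtain ⟨R0, h1, h2, h3⟩ := exists_of_sn p H hH g h
      -- choose a maximal such `R`
      let S : Set (Subgroup G) :=
        {R | H ≤ R ∧ IsPGroup p R ∧ g ∈ Subgroup.normalizer (R : Set G)}
      have hne : S.Nonempty := ⟨R0, h1, h2, h3⟩
      obtain ⟨R, hRS, hmax⟩ := (wellFounded_gt (α := Subgroup G)).has_min S hne
      obtain ⟨hHR, hRp, hgR⟩ := hRS
      have hR'S : rad p R ∈ S :=
        ⟨hHR.trans (le_rad p R hRp), rad_isPGroup p R, normalizer_le_normalizer_rad p R hgR⟩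
      have hle : R ≤ rad p R := le_rad p R hRp
      have heq : rad p R = R := by
        by_contra hne'
        exact hmax _ hR'S (lt_of_le_of_ne hle (Ne.symm hne'))
      exact ⟨R, hHR, heq, hgR⟩
    · rintro ⟨R, hHR, heq, hgR⟩
      have hRp : IsPGroup p R := by
        rw [← heq]; exact rad_isPGroup p R
      exact sn_of_exists p H g R hHR hRp hgR
  · intro g
    have hIp : IsPGroup p (sylInt p H) := sylInt_isPGroup p H hH
    constructor
    · intro h
      obtain ⟨R, h1, h2, h3⟩ := exists_of_sn p H hH g h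
      exact sn_of_exists p (sylInt p H) g (sylInt p R) (sylInt_mono p h1)
        (sylInt_isPGroup p R h2) (mem_normalizer_sylInt p R g h3)
    · intro h
      obtain ⟨R, h1, h2, h3⟩ := exists_of_sn p (sylInt p H) hIp g h
      exact sn_of_exists p H g R ((le_sylInt p H).trans h1) h2 h3

end Cfsg.Agent.S4089
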