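import Cfsg.Statements.S2842
import Cfsg.Agent.Lib.Helper49_CharP5
import Cfsg.Agent.Lib.Helper47_WeaklyClosed

set_option autoImplicit false
open Cfsg
open Cfsg.Agent.Lib.Helper49_CharP
open scoped commutatorElement

namespace Cfsg.Agent.S2842

variable {H : Type*} [Group H]

/-- The elements acting trivially on `D₀ / (D₀ ⊓ P)` (in both directions). -/
def stabSub (D₀ P : Subgroup H) : Subgroup H where
  carrier := {g | (∀ r ∈ D₀, g * r * g⁻¹ * r⁻¹ ∈ D₀ ⊓ P) ∧ (∀ r ∈ D₀, g⁻¹ * r * g * r⁻¹ ∈ D₀ ⊓ P)}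
  one_mem' := by
    constructor <;> intro r _ <;> simp [one_mem]
  inv_mem' := by
    rintro g ⟨h1, h2⟩
    refine ⟨fun r hr => ?_, fun r hr => ?_⟩
    · simpa using h2 r hr
    · simpa using h1 r hr
  mul_mem' := by
    rintro g h ⟨hg1, hg2⟩ ⟨hh1, hh2⟩
    have hle : D₀ ⊓ P ≤ D₀ := inf_le_left
    refine ⟨fun r hr => ?_, fun r hr => ?_⟩
    · have h1 := hh1 r hr
      have hr1 : h * r * h⁻¹ ∈ D₀ := by
        have : h * r * h⁻¹ = (h * r * h⁻¹ * r⁻¹) * r := by group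
        rw [this]; exact mul_mem (hle h1) hr
      have h2 := hg1 _ hr1
      have e : g * h * r * (g * h)⁻¹ * r⁻¹ =
          (g * (h * r * h⁻¹) * g⁻¹ * (h * r * h⁻¹)⁻¹) * (h * r * h⁻¹ * r⁻¹) := by group
      rw [e]; exact mul_mem h2 h1
    · have h1 := hg2 r hr
      have hr1 : g⁻¹ * r * g ∈ D₀ := by
        have : g⁻¹ * r * g = (g⁻¹ * r * g * r⁻¹) * r := by group
        rw [this]; exact mul_mem (hle h1) hr
      have h2 := hh2 _ hr1
      have e : (g * h)⁻¹ * r * (g * h) * r⁻¹ =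
          (h⁻¹ * (g⁻¹ * r * g) * h * (g⁻¹ * r * g)⁻¹) * (g⁻¹ * r * g * r⁻¹) := by group
      rw [e]; exact mul_mem h2 h1

theorem mem_stabSub {D₀ P : Subgroup H} {g : H} :
    g ∈ stabSub D₀ P ↔ (∀ r ∈ D₀, g * r * g⁻¹ * r⁻¹ ∈ D₀ ⊓ P) ∧
      (∀ r ∈ D₀, g⁻¹ * r * g * r⁻¹ ∈ D₀ ⊓ P) := Iff.rfl

/-- Elements of `D` normalizing `D₀` and centralizing `P` normalize the stabilizer subgroup. -/
theorem conj_mem_stabSub {D₀ P : Subgroup H} {d g : H}
    (hdD₀' : ∀ r ∈ D₀, d⁻¹ * r * d ∈ D₀)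
    (hdP : ∀ c ∈ P, d * c = c * d) (hg : g ∈ stabSub D₀ P) : d * g * d⁻¹ ∈ stabSub D₀ P := by
  rw [mem_stabSub] at hg ⊢
  have key : ∀ c ∈ D₀ ⊓ P, d * c * d⁻¹ = c := by
    intro c hc
    rw [hdP c hc.2]; group
  refine ⟨fun r hr => ?_, fun r hr => ?_⟩
  · have h1 := hg.1 _ (hdD₀' r hr)
    have e : d * g * d⁻¹ * r * (d * g * d⁻¹)⁻¹ * r⁻¹ =
        d * (g * (d⁻¹ * r * d) * g⁻¹ * (d⁻¹ * r * d)⁻¹) * d⁻¹ := by group
    rw [e, key _ h1]; exact h1
  · have h1 := hg.2 _ (hdD₀' r hr)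
    have e : (d * g * d⁻¹)⁻¹ * r * (d * g * d⁻¹) * r⁻¹ =
        d * (g⁻¹ * (d⁻¹ * r * d) * g * (d⁻¹ * r * d)⁻¹) * d⁻¹ := by group
    rw [e, key _ h1]; exact h1

/-- The core of the argument: if `D = C_H(O_p(L))` has characteristic `p`, the three conclusions
hold. -/
theorem core [Finite H] {p : ℕ} [Fact p.Prime] (Q : Subgroup H) (hQp : IsPGroup p ↥Q)
    (hwc : Cfsg.IsWeaklyClosedSubgroup p Q)
    (hCQ : Subgroup.centralizer ((Q : Subgroup H) : Set H) ≤ Q) (L : Subgroup H) (hQL : Q ≤ L)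
    (hD : IsCharP p ↥(Subgroup.centralizer ((pCoreOf p L : Subgroup H) : Set H))) :
    ⁅Q, Subgroup.centralizer ((pCoreOf p L : Subgroup H) : Set H)⁆ ≤ Q ⊓ pCoreOf p L ∧
    IsPGroup p ↥(Subgroup.centralizer ((pCoreOf p L : Subgroup H) : Set H)) ∧
    IsCharP p ↥L := by
  classical
  set P : Subgroup H := pCoreOf p L with hP
  set D : Subgroup H := Subgroup.centralizer (P : Set H) with hDdef
  set D₀ : Subgroup H := pCoreOf p D with hD₀
  have hPp : IsPGroup p ↥P := pCoreOf_isPGroup L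
  have hD₀p : IsPGroup p ↥D₀ := pCoreOf_isPGroup D
  have hD₀D : D₀ ≤ D := pCoreOf_le D
  have hPL : P ≤ L := pCoreOf_le L
  -- `L` normalizes `P`, `D`, `D₀`
  have hLP : L ≤ Subgroup.normalizer (P : Set H) :=
    le_normalizer_of_conj_mem (fun l hl r hr => conj_mem_pCoreOf (Subgroup.le_normalizer hl) hr)
  have hLD : L ≤ Subgroup.normalizer (D : Set H) :=
    le_trans hLP (normalizer_le_normalizer_centralizer P)
  have hLD₀ : L ≤ Subgroup.normalizer (D₀ : Set H) :=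
    le_normalizer_of_conj_mem (fun l hl r hr => conj_mem_pCoreOf (hLD hl) hr)
  have hDD₀ : D ≤ Subgroup.normalizer (D₀ : Set H) :=
    le_normalizer_of_conj_mem (fun d hd r hr => conj_mem_pCoreOf (Subgroup.le_normalizer hd) hr)
  have hDP : ∀ d ∈ D, ∀ c ∈ P, d * c = c * d := fun d hd c hc =>
    ((Subgroup.mem_centralizer_iff.mp hd) c hc).symm
  -- `D₀ ∩ L ≤ P`
  have hD₀L : D₀ ⊓ L ≤ P := by
    apply le_pCoreOf inf_le_right (hD₀p.to_le inf_le_left)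
    apply le_normalizer_of_conj_mem
    intro l hl z hz
    have hz' := Subgroup.mem_inf.mp hz
    exact Subgroup.mem_inf.mpr ⟨(Subgroup.mem_normalizer_iff.mp (hLD₀ hl) z).mp hz'.1,
      L.mul_mem (L.mul_mem hl hz'.2) (L.inv_mem hl)⟩
  -- `D₀` normalizes `Q`
  have hQD₀ : Q ≤ Subgroup.normalizer (D₀ : Set H) := le_trans hQL hLD₀
  have hD₀Qp : IsPGroup p ↥(D₀ ⊔ Q) := IsPGroup.to_sup_of_normal_left' hD₀p hQp hQD₀
  have hD₀NQ : D₀ ≤ Subgroup.normalizer (Q : Set H) := by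
    have h1 := Cfsg.Agent.Lib.Helper47_WeaklyClosed.wc_normalizer_le hQp hwc hD₀Qp le_sup_right
    exact le_trans (le_trans le_sup_left Subgroup.le_normalizer) h1
  -- `Q` lies in the stabilizer subgroup
  have hQst : Q ≤ stabSub D₀ P := by
    intro q hq
    have key : ∀ q ∈ Q, ∀ r ∈ D₀, q * r * q⁻¹ * r⁻¹ ∈ D₀ ⊓ P := by
      intro q hq r hr
      have h1 : q * r * q⁻¹ ∈ D₀ := (Subgroup.mem_normalizer_iff.mp (hQD₀ hq) r).mp hr
      have h2 : q * r * q⁻¹ * r⁻¹ ∈ D₀ := mul_mem h1 (inv_mem hr)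
      have h3 : r * q⁻¹ * r⁻¹ ∈ Q :=
        (Subgroup.mem_normalizer_iff.mp (hD₀NQ hr) q⁻¹).mp (inv_mem hq)
      have h4 : q * r * q⁻¹ * r⁻¹ ∈ Q := by
        have : q * r * q⁻¹ * r⁻¹ = q * (r * q⁻¹ * r⁻¹) := by group
        rw [this]; exact mul_mem hq h3
      exact ⟨h2, hD₀L ⟨h2, hQL h4⟩⟩
    rw [mem_stabSub]
    refine ⟨key q hq, fun r hr => ?_⟩
    have := key q⁻¹ (inv_mem hq) r hr
    simpa using this
  -- the `p`-group `X₀ = St ∩ D`
  have hX₀p : IsPGroup p ↥(stabSub D₀ P ⊓ D) := by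
    apply isPGroup_of_forall_coprime_eq_one
    intro g hg hgo
    have hgD : g ∈ D := hg.2
    have hcomm : ∀ r ∈ D₀, Commute g r := by
      intro r hr
      have h1 := (mem_stabSub.mp hg.1).1 r hr
      -- c := g r g⁻¹ r⁻¹ ∈ D₀ ∩ P commutes with r and g
      set c : H := g * r * g⁻¹ * r⁻¹ with hc
      have hrc : r * c = c * r := hDP r (hD₀D hr) c h1.2
      have hgc : g * c = c * g := hDP g hgD c h1.2
      have hconj : g * r * g⁻¹ = r * c := by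
        rw [hrc, hc]; group
      exact commute_of_coprime_of_conj_eq_mul (p := p) g r c hgo hconj hgc
        (orderOf_eq_pow_of_mem hPp h1.2)
    have hgD₀ : g ∈ D₀ := by
      apply (isCharP_subgroup_iff D).mp hD
      refine Subgroup.mem_inf.mpr ⟨hgD, ?_⟩
      rw [Subgroup.mem_centralizer_iff]
      intro r hr
      exact ((hcomm r hr).eq).symm
    exact eq_one_of_coprime_of_mem hD₀p hgD₀ hgo
  have hDst : ∀ d ∈ D, ∀ g ∈ stabSub D₀ P, d * g * d⁻¹ ∈ stabSub D₀ P := by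
    intro d hd g hg
    apply conj_mem_stabSub _ (hDP d hd) hg
    intro r hr
    exact (Subgroup.mem_normalizer_iff''.mp (hDD₀ hd) r).mp hr
  have hX₀le : stabSub D₀ P ⊓ D ≤ D₀ := by
    apply le_pCoreOf inf_le_right hX₀p
    apply le_normalizer_of_conj_mem
    intro d hd z hz
    have hz' := Subgroup.mem_inf.mp hz
    exact Subgroup.mem_inf.mpr ⟨hDst d hd z hz'.1, D.mul_mem (D.mul_mem hd hz'.2) (D.inv_mem hd)⟩
  -- `Q` normalizes `D`
  have hQD : Q ≤ Subgroup.normalizer (D : Set H) := le_trans hQL hLD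
  -- key membership: `d q d⁻¹ q⁻¹ ∈ D₀` for `d ∈ D`, `q ∈ Q`
  have hkey : ∀ d ∈ D, ∀ q ∈ Q, d * q * d⁻¹ * q⁻¹ ∈ D₀ := by
    intro d hd q hq
    apply hX₀le
    refine Subgroup.mem_inf.mpr ⟨?_, ?_⟩
    · exact (stabSub D₀ P).mul_mem (hDst d hd q (hQst hq)) ((stabSub D₀ P).inv_mem (hQst hq))
    · have h1 : q * d⁻¹ * q⁻¹ ∈ D :=
        (Subgroup.mem_normalizer_iff.mp (hQD hq) d⁻¹).mp (inv_mem hd)
      have : d * q * d⁻¹ * q⁻¹ = d * (q * d⁻¹ * q⁻¹) := by group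
      rw [this]; exact mul_mem hd h1
  -- `D` normalizes `Q`
  obtain ⟨T, hT⟩ := hD₀Qp.exists_le_sylow
  have hQT : Q ≤ (T : Subgroup H) := le_trans le_sup_right hT
  have hwcT := Cfsg.Agent.Lib.Helper47_WeaklyClosed.wc_in_of_wc hQp hwc T hQT
  have hDNQ : D ≤ Subgroup.normalizer (Q : Set H) := by
    intro d hd
    rw [Cfsg.Agent.Lib.Helper47_Conj.mem_normalizer_iff_map_conj_eq']
    apply hwcT.2
    rintro _ ⟨q, hq, rfl⟩
    simp only [MulEquiv.coe_toMonoidHom, MulAut.conj_apply]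
    have : d * q * d⁻¹ = (d * q * d⁻¹ * q⁻¹) * q := by group
    rw [this]
    exact hT (mul_mem ((le_sup_left : D₀ ≤ D₀ ⊔ Q) (hkey d hd q hq))
      ((le_sup_right : Q ≤ D₀ ⊔ Q) hq))
  -- (a)
  have ha : ⁅Q, D⁆ ≤ Q ⊓ P := by
    rw [Subgroup.commutator_le]
    intro q hq d hd
    -- ⁅q, d⁆ = q d q⁻¹ d⁻¹
    have h1 : ⁅q, d⁆ ∈ Q := by
      have h2 : d * q⁻¹ * d⁻¹ ∈ Q :=
        (Subgroup.mem_normalizer_iff.mp (hDNQ hd) q⁻¹).mp (inv_mem hq)
      have : ⁅q, d⁆ = q * (d * q⁻¹ * d⁻¹) := by rw [commutatorElement_def]; group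
      rw [this]; exact mul_mem hq h2
    have h3 : ⁅q, d⁆ ∈ D₀ := by
      have h4 := hkey d hd q⁻¹ (inv_mem hq)
      have h5 : q * (d * q⁻¹ * d⁻¹ * q⁻¹⁻¹) * q⁻¹ ∈ D₀ :=
        (Subgroup.mem_normalizer_iff.mp (hQD₀ hq) _).mp h4
      have : ⁅q, d⁆ = q * (d * q⁻¹ * d⁻¹ * q⁻¹⁻¹) * q⁻¹ := by
        rw [commutatorElement_def]; group
      rw [this]; exact h5
    exact ⟨h1, hD₀L ⟨h3, hQL h1⟩⟩
  -- (b)
  have hb : IsPGroup p ↥D := by
    apply isPGroup_of_forall_coprime_eq_one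
    intro x hx hxo
    have hxQ : x ∈ Subgroup.centralizer (Q : Set H) := by
      rw [Subgroup.mem_centralizer_iff]
      intro q hq
      set c : H := q⁻¹ * x * q * x⁻¹ with hc
      have hcP : c ∈ P := by
        have h1 : ⁅q⁻¹, x⁆ ∈ ⁅Q, D⁆ := Subgroup.commutator_mem_commutator (inv_mem hq) hx
        have h2 : ⁅q⁻¹, x⁆ = c := by rw [commutatorElement_def, hc]; group
        rw [← h2]
        exact (ha h1).2
      have hxc : Commute x c := hDP x hx c hcP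
      have := commute_of_coprime_of_conj_eq_mul (p := p) x q c hxo (by rw [hc]; group) hxc
        (orderOf_eq_pow_of_mem hPp hcP)
      exact this.eq.symm
    exact eq_one_of_coprime_of_mem hQp (hCQ hxQ) hxo
  refine ⟨ha, hb, ?_⟩
  -- (c)
  rw [isCharP_subgroup_iff]
  apply le_pCoreOf inf_le_left (hb.to_le inf_le_right)
  apply le_normalizer_of_conj_mem
  intro l hl z hz
  have hz' := Subgroup.mem_inf.mp hz
  exact Subgroup.mem_inf.mpr ⟨L.mul_mem (L.mul_mem hl hz'.1) (L.inv_mem hl),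
    (Subgroup.mem_normalizer_iff.mp (hLD hl) z).mp hz'.2⟩

theorem result {H : Type*} [Group H] [Finite H] {p : ℕ} [Fact p.Prime] (Q : Subgroup H) (hQp : IsPGroup p ↥Q) (hQ1 : Q ≠ ⊥) (hwc : Cfsg.IsWeaklyClosedSubgroup p Q) (hCQ : Subgroup.centralizer ((Q : Subgroup H) : Set H) ≤ Q) (L : Subgroup H) (hQL : Q ≤ L) (hyp : Subgroup.centralizer (Cfsg.pCore p H : Set H) ≤ Cfsg.pCore p H ∨ ∃ y : H, y ≠ 1 ∧ y ∈ (Cfsg.pCoreOf p L) ⊓ Subgroup.centralizer ((Q : Subgroup H) : Set H) ∧ Subgroup.centralizer (Cfsg.pCore p ↥(Subgroup.centralizer ({y} : Set H)) : Set ↥(Subgroup.centralizer ({y} : Set H))) ≤ Cfsg.pCore p ↥(Subgroup.centralizer ({y} : Set H))) : ⁅Q, Subgroup.centralizer (((Cfsg.pCoreOf p L) : Subgroup H) : Set H)⁆ ≤ Q ⊓ (Cfsg.pCoreOf p L) ∧ IsPGroup p ↥(Subgroup.centralizer (((Cfsg.pCoreOf p L) : Subgroup H) : Set H)) ∧ Subgroup.centralizer (Cfsg.pCore p ↥L : Set ↥L) ≤ Cfsg.pCore p ↥L := by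
  have _h := hQ1
  have hPp : IsPGroup p ↥(pCoreOf p L) := pCoreOf_isPGroup L
  have hD : IsCharP p ↥(Subgroup.centralizer ((pCoreOf p L : Subgroup H) : Set H)) := by
    rcases hyp with h | ⟨y, _, hy, hC⟩
    · have h1 : IsCharP p ↥(⊤ : Subgroup H) := IsCharP.of_mulEquiv Subgroup.topEquiv.symm h
      have h2 := h1.inf_centralizer hPp (by
        rw [Subgroup.normalizer_eq_top_iff.mpr (inferInstance : (⊤ : Subgroup H).Normal)]
        exact le_top)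
      rw [top_inf_eq] at h2
      exact h2
    · exact IsCharP.centralizer_of_mem hPp hy.1 hC
  exact core Q hQp hwc hCQ L hQL hD

end Cfsg.Agent.S2842
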