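import Cfsg.Statements.S2845
import Cfsg.Agent.S2842
import Cfsg.Agent.Lib.Helper47_Large
import Cfsg.Agent.Lib.Helper32_PGroup

set_option autoImplicit false
open Cfsg
open Cfsg.Agent.Lib.Helper49_CharP
open Cfsg.Agent.Lib.Helper47_Large Cfsg.Agent.Lib.Helper47_Conj

namespace Cfsg.Agent.S2845

variable {H : Type*} [Group H]

theorem pCoreOf_ne_bot_iff {p : ℕ} (L : Subgroup H) : pCoreOf p L ≠ ⊥ ↔ pCore p ↥L ≠ ⊥ := by
  unfold pCoreOf
  rw [Ne, Ne, Subgroup.map_eq_bot_iff_of_injective _ L.subtype_injective]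

/-- Main lemma: overgroups `L` of a large `p`-subgroup with `O_p(L) ≠ 1` have characteristic `p`
and `C_H(O_p(L))` is a `p`-group. -/
theorem main [Finite H] {p : ℕ} [Fact p.Prime] (Q : Subgroup H) (hQp : IsPGroup p ↥Q)
    (hQ1 : Q ≠ ⊥) (hL : Cfsg.IsLarge Q) (L : Subgroup H) (hQL : Q ≤ L)
    (hP1 : pCoreOf p L ≠ ⊥) :
    IsPGroup p ↥(Subgroup.centralizer ((pCoreOf p L : Subgroup H) : Set H)) ∧ IsCharP p ↥L := by
  classical
  set P : Subgroup H := pCoreOf p L with hP
  have hPp : IsPGroup p ↥P := pCoreOf_isPGroup L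
  have hQP : Q ≤ Subgroup.normalizer (P : Set H) :=
    le_normalizer_of_conj_mem (fun q hq r hr =>
      conj_mem_pCoreOf (Subgroup.le_normalizer (hQL hq)) hr)
  set T : Subgroup H := P ⊔ Q with hT
  have hTp : IsPGroup p ↥T := IsPGroup.to_sup_of_normal_left' hPp hQp hQP
  have hTN : T ≤ Subgroup.normalizer (P : Set H) := sup_le Subgroup.le_normalizer hQP
  have hPn : (P.subgroupOf T).Normal :=
    (Subgroup.normal_subgroupOf_iff_le_normalizer le_sup_left).mpr hTN
  have hPne : P.subgroupOf T ≠ ⊥ := by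
    intro h
    apply hP1
    have := Subgroup.map_subgroupOf_eq_of_le (le_sup_left : P ≤ T)
    rw [h, Subgroup.map_bot] at this
    exact this.symm
  obtain ⟨z, hzP, hzc, hz1⟩ :=
    Cfsg.Agent.Lib.Helper32_PGroup.exists_mem_center_of_normal hTp (P.subgroupOf T) hPne
  set y : H := (z : H) with hy
  have hyP : y ∈ P := Subgroup.mem_subgroupOf.mp hzP
  have hy1 : y ≠ 1 := fun h => hz1 (Subtype.ext h)
  have hyQ : ∀ q ∈ Q, q * y = y * q := by
    intro q hq
    have := Subgroup.mem_center_iff.mp hzc ⟨q, (le_sup_right : Q ≤ T) hq⟩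
    exact congrArg Subtype.val this
  have hyCQ : y ∈ Subgroup.centralizer (Q : Set H) := by
    rw [Subgroup.mem_centralizer_iff]
    intro q hq
    exact hyQ q hq
  -- the centralizer of `y` has characteristic `p`
  set E : Subgroup H := Subgroup.centralizer ({y} : Set H) with hE
  have hQE : Q ≤ E := by
    intro q hq
    rw [hE, Subgroup.mem_centralizer_iff]
    intro w hw
    rw [Set.mem_singleton_iff] at hw
    rw [hw]; exact (hyQ q hq).symm
  have hEN : E ≤ Subgroup.normalizer (Q : Set H) := by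
    have hU : Subgroup.zpowers y ≤ Subgroup.centralizer (Q : Set H) := by
      rw [Subgroup.zpowers_le]; exact hyCQ
    have hU1 : Subgroup.zpowers y ≠ ⊥ := by
      rw [Ne, Subgroup.zpowers_eq_bot]; exact hy1
    have h1 := hL.2 _ hU hU1
    refine le_trans ?_ h1
    have e : Subgroup.centralizer ((Subgroup.zpowers y : Subgroup H) : Set H) = E := by
      rw [hE, Subgroup.zpowers_eq_closure, Subgroup.centralizer_closure]
    rw [← e]
    exact Subgroup.centralizer_le_normalizer _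
  have hQE' : Q ≤ pCoreOf p E := le_pCoreOf hQE hQp hEN
  have hEchar : IsCharP p ↥E := by
    rw [isCharP_subgroup_iff]
    refine le_trans inf_le_right ?_
    refine le_trans (Subgroup.centralizer_le (by exact_mod_cast hQE')) ?_
    exact le_trans hL.1 hQE'
  have hD : IsCharP p ↥(Subgroup.centralizer ((pCoreOf p L : Subgroup H) : Set H)) :=
    IsCharP.centralizer_of_mem hPp hyP hEchar
  have hwc := IsLarge.isWeaklyClosedSubgroup hQp hQ1 hL
  have := Cfsg.Agent.S2842.core Q hQp hwc hL.1 L hQL hD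
  exact ⟨this.2.1, this.2.2⟩

/-- Some conjugate of the `p`-subgroup `Q` lies in the Sylow subgroup `T`. -/
theorem exists_conj_le_sylow [Finite H] {p : ℕ} [Fact p.Prime] (Q : Subgroup H)
    (hQp : IsPGroup p ↥Q) (T : Sylow p H) :
    ∃ g : H, Q.map (MulAut.conj g).toMonoidHom ≤ (T : Subgroup H) := by
  obtain ⟨T', hT'⟩ := hQp.exists_le_sylow
  obtain ⟨g, hg⟩ := MulAction.exists_smul_eq H T' T
  refine ⟨g, ?_⟩
  rw [← hg, sylow_smul_eq_map_conj]
  exact Subgroup.map_mono hT'

/-- For a parabolic subgroup `R`: a large conjugate inside, then the main lemma. -/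
theorem main_parabolic [Finite H] {p : ℕ} [Fact p.Prime] (Q : Subgroup H) (hQp : IsPGroup p ↥Q)
    (hQ1 : Q ≠ ⊥) (hL : Cfsg.IsLarge Q) (R : Subgroup H) (hR : Cfsg.IsParabolic p R)
    (hP1 : pCoreOf p R ≠ ⊥) :
    Subgroup.centralizer ((pCoreOf p R : Subgroup H) : Set H) ≤ pCoreOf p R ∧ IsCharP p ↥R := by
  obtain ⟨T, hTR⟩ := hR
  obtain ⟨g, hg⟩ := exists_conj_le_sylow Q hQp T
  set Q' : Subgroup H := Q.map (MulAut.conj g).toMonoidHom with hQ'
  have hQ'p : IsPGroup p ↥Q' := hQp.map _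
  have hQ'1 : Q' ≠ ⊥ := by
    intro h
    apply hQ1
    have := (map_conj_eq_iff g Q ⊥).mp h
    rw [this, Subgroup.map_bot]
  have hQ'L : Cfsg.IsLarge Q' := IsLarge.map_conj hL g
  obtain ⟨hDp, hchar⟩ := main Q' hQ'p hQ'1 hQ'L R (le_trans hg hTR) hP1
  refine ⟨?_, hchar⟩
  set D : Subgroup H := Subgroup.centralizer ((pCoreOf p R : Subgroup H) : Set H) with hD
  have hRP : R ≤ Subgroup.normalizer ((pCoreOf p R : Subgroup H) : Set H) :=
    le_normalizer_of_conj_mem (fun l hl r hr => conj_mem_pCoreOf (Subgroup.le_normalizer hl) hr)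
  have hRD : R ≤ Subgroup.normalizer (D : Set H) :=
    le_trans hRP (normalizer_le_normalizer_centralizer _)
  have hsup : IsPGroup p ↥(D ⊔ (T : Subgroup H)) :=
    IsPGroup.to_sup_of_normal_left' hDp T.isPGroup' (le_trans hTR hRD)
  have heq := T.is_maximal' hsup le_sup_right
  have hDT : D ≤ (T : Subgroup H) := by
    rw [← heq]; exact le_sup_left
  exact le_pCoreOf (le_trans hDT hTR) hDp hRD

theorem result {H : Type*} [Group H] [Finite H] {p : ℕ} [Fact p.Prime] (Q : Subgroup H) (hQp : IsPGroup p ↥Q) (hQ1 : Q ≠ ⊥) (hL : Cfsg.IsLarge Q) : (∀ L : Subgroup H, Q ≤ L → Cfsg.pCore p ↥L ≠ ⊥ → IsPGroup p ↥(Subgroup.centralizer (((Cfsg.pCoreOf p L) : Subgroup H) : Set H)) ∧ Subgroup.centralizer (Cfsg.pCore p ↥L : Set ↥L) ≤ Cfsg.pCore p ↥L ∧ (Cfsg.weakClosure Q L = Q ∨ Subgroup.centralizer (((Cfsg.weakClosure Q L) : Subgroup H) : Set H) = ⊥)) ∧ (∀ R : Subgroup H, Cfsg.IsParabolic p R → Cfsg.pCore p ↥R ≠ ⊥ → Subgroup.centralizer (((Cfsg.pCoreOf p R) : Subgroup H)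 : Set H) ≤ (Cfsg.pCoreOf p R)) ∧ Cfsg.IsOfParabolicCharacteristic p H := by
  refine ⟨?_, ?_, ?_⟩
  · intro L hQL hL1
    obtain ⟨h1, h2⟩ := main Q hQp hQ1 hL L hQL ((pCoreOf_ne_bot_iff L).mpr hL1)
    refine ⟨h1, h2, ?_⟩
    by_cases hall : ∀ g : H, Q.map (MulAut.conj g).toMonoidHom ≤ L →
        Q.map (MulAut.conj g).toMonoidHom = Q
    · left
      unfold weakClosure
      apply le_antisymm
      · exact iSup_le (fun g => (hall g.1 g.2).le)
      · have h1L : Q.map (MulAut.conj (1 : H)).toMonoidHom ≤ L := by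
          rw [map_conj_one]; exact hQL
        refine le_trans ?_ (le_iSup (fun g : {g : H // Q.map (MulAut.conj g).toMonoidHom ≤ L} =>
          Q.map (MulAut.conj (g : H)).toMonoidHom) ⟨1, h1L⟩)
        rw [map_conj_one]
    · right
      push Not at hall
      obtain ⟨g, hgL, hgne⟩ := hall
      have hgN : g ∉ Subgroup.normalizer (Q : Set H) := by
        rw [mem_normalizer_iff_map_conj_eq']; exact hgne
      have hbot := IsLarge.centralizer_inf_eq_bot hQp hQ1 hL hgN
      rw [eq_bot_iff, ← hbot]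
      have h1L : Q.map (MulAut.conj (1 : H)).toMonoidHom ≤ L := by
        rw [map_conj_one]; exact hQL
      have hQW : Q ≤ weakClosure Q L := by
        unfold weakClosure
        refine le_trans ?_ (le_iSup (fun g : {g : H // Q.map (MulAut.conj g).toMonoidHom ≤ L} =>
          Q.map (MulAut.conj (g : H)).toMonoidHom) ⟨1, h1L⟩)
        rw [map_conj_one]
      have hQgW : Q.map (MulAut.conj g).toMonoidHom ≤ weakClosure Q L := by
        unfold weakClosure
        exact le_iSup (fun g : {g : H // Q.map (MulAut.conj g).toMonoidHom ≤ L} =>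
          Q.map (MulAut.conj (g : H)).toMonoidHom) ⟨g, hgL⟩
      exact le_inf (Subgroup.centralizer_le (by exact_mod_cast hQW))
        (Subgroup.centralizer_le (by exact_mod_cast hQgW))
  · intro R hR hR1
    exact (main_parabolic Q hQp hQ1 hL R hR ((pCoreOf_ne_bot_iff R).mpr hR1)).1
  · intro R' hR'p hR'1 hpar
    have hR'le : R' ≤ pCoreOf p (Subgroup.normalizer (R' : Set H)) :=
      le_pCoreOf Subgroup.le_normalizer hR'p le_rfl
    have hne : pCoreOf p (Subgroup.normalizer (R' : Set H)) ≠ ⊥ := by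
      intro h
      apply hR'1
      rw [h] at hR'le
      exact le_bot_iff.mp hR'le
    exact (main_parabolic Q hQp hQ1 hL _ hpar hne).2

end Cfsg.Agent.S2845
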