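import Cfsg.Statements.S2238
import Mathlib
import Cfsg.Agent.Lib.Helper6_SzPartition
import Cfsg.Agent.Lib.Helper6_SzToriClass
import Cfsg.Agent.Lib.Helper6_SzTori
import Cfsg.Agent.Lib.Helper6_SzCent
import Cfsg.Agent.Lib.Helper37_SzMax

set_option autoImplicit false
open Cfsg

namespace Cfsg.Agent.S2238

open Cfsg.Agent.Helper37Sz Cfsg.Agent.Lib.Helper6_SzTori Cfsg.Agent.Lib.Helper6_SzPartition
open Cfsg.Agent.Lib.Helper6_SzToriClass

/-- the arithmetic of `q = 2 r²`, `r = 2^m ≥ 2` -/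
theorem arith_r {m : ℕ} (hm : 1 ≤ m) :
    ∃ r : ℕ, 2 ≤ r ∧ 2 ^ (2 * m + 1) = 2 * (r * r) ∧ 2 ^ (m + 1) = 2 * r ∧ r = 2 ^ m := by
  refine ⟨2 ^ m, ?_, ?_, ?_, rfl⟩
  · calc 2 = 2 ^ 1 := by norm_num
      _ ≤ 2 ^ m := Nat.pow_le_pow_right (by norm_num) hm
  · rw [pow_succ, mul_comm 2 m, pow_mul]; ring
  · rw [pow_succ]; ring

/-- the three orders are odd -/
theorem odd_of_mem {m n : ℕ} (hm : 1 ≤ m)
    (hn : n ∈ ({2 ^ (2 * m + 1) - 1, 2 ^ (2 * m + 1) + 2 ^ (m + 1) + 1,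
      2 ^ (2 * m + 1) - 2 ^ (m + 1) + 1} : Set ℕ)) : ¬ 2 ∣ n := by
  obtain ⟨r, hr, hq, hr2, -⟩ := arith_r hm
  have hrr : 2 * r ≤ r * r := Nat.mul_le_mul_right r hr
  rw [hq, hr2] at hn
  simp only [Set.mem_insert_iff, Set.mem_singleton_iff] at hn
  rcases hn with rfl | rfl | rfl <;> omega

/-- divisibility among the three orders: `q - 1` -/
theorem eq_of_dvd_qm1 {m n : ℕ} (hm : 1 ≤ m)
    (hn : n ∈ ({2 ^ (2 * m + 1) - 1, 2 ^ (2 * m + 1) + 2 ^ (m + 1) + 1,
      2 ^ (2 * m + 1) - 2 ^ (m + 1) + 1} : Set ℕ)) (hd : n ∣ 2 ^ (2 * m + 1) - 1) :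
    n = 2 ^ (2 * m + 1) - 1 := by
  obtain ⟨r, hr, hq, hr2, -⟩ := arith_r hm
  have hrr : 2 * r ≤ r * r := Nat.mul_le_mul_right r hr
  rw [hq, hr2] at hn
  rw [hq] at hd ⊢
  simp only [Set.mem_insert_iff, Set.mem_singleton_iff] at hn
  rcases hn with rfl | rfl | rfl
  · rfl
  · exfalso
    have := Nat.le_of_dvd (by omega) hd
    omega
  · exfalso
    -- B ∣ q - 1 = B + (2r - 2)
    have h1 : 2 * (r * r) - 1 = (2 * (r * r) - 2 * r + 1) + (2 * r - 2) := by omega
    rw [h1] at hd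
    have h2 : 2 * (r * r) - 2 * r + 1 ∣ 2 * r - 2 := (Nat.dvd_add_right (dvd_refl _)).1 hd
    have := Nat.le_of_dvd (by omega) h2
    omega

/-- divisibility among the three orders: `q ± 2r + 1` -/
theorem eq_of_dvd_torus {m n t : ℕ} (hm : 1 ≤ m)
    (hn : n ∈ ({2 ^ (2 * m + 1) - 1, 2 ^ (2 * m + 1) + 2 ^ (m + 1) + 1,
      2 ^ (2 * m + 1) - 2 ^ (m + 1) + 1} : Set ℕ))
    (ht : t = 2 ^ (2 * m + 1) + 2 ^ (m + 1) + 1 ∨ t = 2 ^ (2 * m + 1) - 2 ^ (m + 1) + 1)
    (hd : n ∣ t) : n = t := by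
  obtain ⟨r, hr, hq, hr2, hrm⟩ := arith_r hm
  have hrr : 2 * r ≤ r * r := Nat.mul_le_mul_right r hr
  have hodd := odd_of_mem hm hn
  rw [hq, hr2] at hn ht
  simp only [Set.mem_insert_iff, Set.mem_singleton_iff] at hn
  rcases ht with rfl | rfl <;> rcases hn with rfl | rfl | rfl
  · exfalso
    -- q - 1 ∣ A = (q - 1) + (2r + 2)
    have h1 : 2 * (r * r) + 2 * r + 1 = (2 * (r * r) - 1) + (2 * r + 2) := by omega
    rw [h1] at hd
    have h2 : 2 * (r * r) - 1 ∣ 2 * r + 2 := (Nat.dvd_add_right (dvd_refl _)).1 hd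
    have := Nat.le_of_dvd (by omega) h2
    have h3 : 3 * r ≤ r * r + r := by nlinarith
    nlinarith
  · rfl
  · exfalso
    -- B ∣ A = B + 4r
    have h1 : 2 * (r * r) + 2 * r + 1 = (2 * (r * r) - 2 * r + 1) + 4 * r := by omega
    rw [h1] at hd
    have h2 : 2 * (r * r) - 2 * r + 1 ∣ 4 * r := (Nat.dvd_add_right (dvd_refl _)).1 hd
    have h3 : 4 * r = 2 ^ (m + 2) := by rw [hrm]; ring
    rw [h3] at h2
    obtain ⟨j, -, hj⟩ := (Nat.dvd_prime_pow Nat.prime_two).1 h2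
    rcases Nat.eq_zero_or_pos j with rfl | hjpos
    · rw [pow_zero] at hj
      omega
    · apply hodd
      rw [hj]
      exact dvd_pow_self 2 (by omega)
  · exfalso
    have := Nat.le_of_dvd (by omega) hd
    omega
  · exfalso
    have := Nat.le_of_dvd (by omega) hd
    omega
  · rfl

variable {F : Type*} [Field F] [Fintype F] {m : ℕ}

/-- a non-identity element of a Sylow 2-subgroup has even order -/
theorem two_dvd_orderOf_of_mem_sylow (P : Sylow 2 (Cfsg.Sz F m)) {g : Cfsg.Sz F m} (hg : g ≠ 1)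
    (hgP : g ∈ P) : 2 ∣ orderOf g := by
  obtain ⟨k, hk⟩ := P.isPGroup' ⟨g, hgP⟩
  have hk' : g ^ 2 ^ k = 1 := by
    have := congrArg Subtype.val hk
    simpa using this
  have hd : orderOf g ∣ 2 ^ k := orderOf_dvd_of_pow_eq_one hk'
  obtain ⟨j, -, hj⟩ := (Nat.dvd_prime_pow Nat.prime_two).1 hd
  rcases Nat.eq_zero_or_pos j with rfl | hjpos
  · rw [pow_zero] at hj
    exact absurd (orderOf_eq_one_iff.1 hj) hg
  · rw [hj]
    exact dvd_pow_self 2 (by omega)

/-- the order of an element of a subgroup divides the order of the subgroup -/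
theorem orderOf_dvd_card_of_mem (U : Subgroup (Cfsg.Sz F m)) {g : Cfsg.Sz F m} (hg : g ∈ U) :
    orderOf g ∣ Nat.card U := by
  have h := orderOf_dvd_natCard (⟨g, hg⟩ : U)
  rwa [← Subgroup.orderOf_coe] at h

/-- elements of a cyclic subgroup commute -/
theorem comm_of_isCyclic (U : Subgroup (Cfsg.Sz F m)) (hU : IsCyclic U) {c g : Cfsg.Sz F m}
    (hc : c ∈ U) (hg : g ∈ U) : c * g = g * c := by
  have := IsCyclic.commGroup.mul_comm (⟨c, hc⟩ : U) ⟨g, hg⟩
  exact congrArg Subtype.val this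

/-- The partition of the Suzuki group: with q = 2^(2m+1), m ≥ 1, r = 2^m and the Suzuki group realised as the stabiliser in SL₄ of the Suzuki–Tits ovoid, every non-identity element lies in exactly one subgroup that is either a Sylow 2-subgroup or a cyclic subgroup of order q − 1, q + 2r + 1 or q − 2r + 1. -/
theorem result {F : Type*} [Field F] [Fintype F] {m : ℕ} (hm : 1 ≤ m) (hF : Fintype.card F = 2 ^ (2 * m + 1)) (g : ↥(Cfsg.Sz F m)) (hg : g ≠ 1) :
    ∃! U : Subgroup ↥(Cfsg.Sz F m), ((∃ P : Sylow 2 ↥(Cfsg.Sz F m), U = (P : Subgroup ↥(Cfsg.Sz F m))) ∨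
      (IsCyclic ↥U ∧ Nat.card ↥U ∈ ({2 ^ (2 * m + 1) - 1, 2 ^ (2 * m + 1) + 2 ^ (m + 1) + 1, 2 ^ (2 * m + 1) - 2 ^ (m + 1) + 1} : Set ℕ))) ∧ g ∈ U := by
  classical
  haveI : Finite (Cfsg.Sz F m) := inferInstance
  by_cases hfpf : Fpf g
  · -- `g` is fixed-point-free: the torus of `g`
    have hcyc : IsCyclic (torus g) := Cfsg.Agent.Lib.Helper6_SzCent.isCyclic_centralizer_of_no_fixed hm hF hfpf
    have hcard := card_torus_cases hm hF hfpf
    refine ⟨torus g, ⟨Or.inr ⟨hcyc, ?_⟩, self_mem_torus g⟩, ?_⟩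
    · simp only [Set.mem_insert_iff, Set.mem_singleton_iff]
      rcases hcard with h | h
      · right; left; exact h
      · right; right; exact h
    · rintro U' ⟨hU', hgU'⟩
      rcases hU' with ⟨P, rfl⟩ | ⟨hU'c, hU'n⟩
      · exact absurd (two_dvd_orderOf_of_mem_sylow P hg hgU') (hfpf.odd_order hm hF)
      · have hle : U' ≤ torus g := fun c hc => mem_torus_iff.2 (comm_of_isCyclic U' hU'c hc hgU')
        have hdvd : Nat.card U' ∣ Nat.card (torus g) := Subgroup.card_dvd_of_le hle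
        have heq := eq_of_dvd_torus hm hU'n hcard hdvd
        exact Subgroup.eq_of_le_of_card_ge hle (le_of_eq heq.symm)
  · -- `g` has a fixed point
    have hex : ∃ a : Cfsg.suzukiOvoid F m, g • a = a := by
      by_contra hne
      apply hfpf
      intro a ha
      exact hne ⟨a, ha⟩
    obtain ⟨a, ha⟩ := hex
    by_cases htwo : ∃ b : Cfsg.suzukiOvoid F m, b ≠ a ∧ g • b = b
    · -- two fixed points
      obtain ⟨b, hba, hb⟩ := htwo
      have hab : a ≠ b := fun h => hba h.symm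
      have hgT : g ∈ twoPt a b := mem_twoPt.2 ⟨ha, hb⟩
      have hcardT := card_twoPt hm hF hab
      have hodd : ¬ 2 ∣ orderOf g := by
        intro h
        have h1 := orderOf_dvd_card_of_mem (twoPt a b) hgT
        rw [hcardT] at h1
        exact odd_of_mem hm (n := 2 ^ (2 * m + 1) - 1) (by simp) (dvd_trans h h1)
      refine ⟨twoPt a b, ⟨Or.inr ⟨isCyclic_twoPt hm hF hab, ?_⟩, hgT⟩, ?_⟩
      · rw [hcardT]; simp
      · rintro U' ⟨hU', hgU'⟩
        rcases hU' with ⟨P, rfl⟩ | ⟨hU'c, hU'n⟩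
        · exact absurd (two_dvd_orderOf_of_mem_sylow P hg hgU') hodd
        · have hle : U' ≤ twoPt a b := fun c hc =>
            centralizer_le_twoPt hm hF hab hgT hg (comm_of_isCyclic U' hU'c hc hgU')
          have hdvd : Nat.card U' ∣ Nat.card (twoPt a b) := Subgroup.card_dvd_of_le hle
          rw [hcardT] at hdvd
          have heq := eq_of_dvd_qm1 hm hU'n hdvd
          exact Subgroup.eq_of_le_of_card_ge hle (le_of_eq (by rw [hcardT, heq]))
    · -- exactly one fixed point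
      have huniq : ∀ b : Cfsg.suzukiOvoid F m, g • b = b → b = a := by
        intro b hb
        by_contra hne
        exact htwo ⟨b, hne, hb⟩
      have h2 : (2 : F) = 0 := two_eq_zero_of_card hF
      have hSdef : ∀ z, (sgHom F m h2) z = z ^ 2 ^ (m + 1) := fun z => sgHom_apply m h2 z
      have hS : ∀ z, (sgHom F m h2) ((sgHom F m h2) z) = z ^ 2 := fun z => sgHom_sgHom hF h2 z
      have hg4 : g ^ 4 = 1 :=
        Cfsg.Agent.Lib.Helper6_SzCent.pow_four_of_one_fixed hm hF h2 hS hSdef ha huniq rfl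
      have hord : orderOf g ∣ 2 ^ 2 := orderOf_dvd_of_pow_eq_one (by simpa using hg4)
      have heven : 2 ∣ orderOf g := by
        obtain ⟨j, -, hj⟩ := (Nat.dvd_prime_pow Nat.prime_two).1 hord
        rcases Nat.eq_zero_or_pos j with rfl | hjpos
        · rw [pow_zero] at hj
          exact absurd (orderOf_eq_one_iff.1 hj) hg
        · rw [hj]
          exact dvd_pow_self 2 (by omega)
      have hpg : IsPGroup 2 (Subgroup.zpowers g) := by
        rw [IsPGroup.iff_card, Nat.card_zpowers]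
        obtain ⟨j, -, hj⟩ := (Nat.dvd_prime_pow Nat.prime_two).1 hord
        exact ⟨j, hj⟩
      obtain ⟨P, hP⟩ := hpg.exists_le_sylow
      have hgP : g ∈ P := hP (Subgroup.mem_zpowers g)
      refine ⟨(P : Subgroup (Cfsg.Sz F m)), ⟨Or.inl ⟨P, rfl⟩, hgP⟩, ?_⟩
      rintro U' ⟨hU', hgU'⟩
      rcases hU' with ⟨P', rfl⟩ | ⟨hU'c, hU'n⟩
      · rw [sylow_eq_of_mem hm hF P' P hg hgU' hgP]
      · exfalso
        exact odd_of_mem hm hU'n (dvd_trans heven (orderOf_dvd_card_of_mem U' hgU'))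

end Cfsg.Agent.S2238
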