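import Cfsg.Statements.S0338
import Cfsg.Agent.Lib.Helper6_Zassenhaus

set_option autoImplicit false
open Cfsg

namespace Cfsg.Agent.S0338

open Cfsg.Agent.Lib.Helper6_Zassenhaus MulAction

section
variable {G Ω : Type*} [Group G] [MulAction G Ω] [Finite Ω]

theorem isPGroup_zpowers {t : G} (ht : t * t = 1) : IsPGroup 2 (Subgroup.zpowers t) := by
  rintro ⟨g, hg⟩
  refine ⟨1, ?_⟩
  obtain ⟨i, rfl⟩ := Subgroup.mem_zpowers_iff.1 hg
  apply Subtype.ext
  show (t ^ i) ^ 2 ^ 1 = 1
  rw [pow_one, ← zpow_natCast, ← zpow_mul, mul_comm, zpow_mul]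
  have : t ^ (2 : ℤ) = 1 := by
    rw [show (2 : ℤ) = ((2 : ℕ) : ℤ) from rfl, zpow_natCast, pow_two, ht]
  simp [this]

omit [Finite Ω] in
theorem mem_fixed_zpowers {t : G} (x : Ω) :
    x ∈ fixedPoints (Subgroup.zpowers t) Ω ↔ t • x = x := by
  constructor
  · intro h
    exact h ⟨t, Subgroup.mem_zpowers t⟩
  · rintro h ⟨g, hg⟩
    obtain ⟨i, rfl⟩ := Subgroup.mem_zpowers_iff.1 hg
    show t ^ i • x = x
    have : t ∈ stabilizer G x := h
    exact (stabilizer G x).zpow_mem this i

/-- an involution on a set of odd size has a fixed point -/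
theorem exists_fixed_of_odd {t : G} (ht : t * t = 1) (hodd : Odd (Nat.card Ω)) :
    ∃ x : Ω, t • x = x := by
  have : Fact (Nat.Prime 2) := ⟨Nat.prime_two⟩
  have h := (isPGroup_zpowers ht).card_modEq_card_fixedPoints Ω
  by_contra hcon
  push Not at hcon
  have hempty : IsEmpty (fixedPoints (Subgroup.zpowers t) Ω) := by
    constructor
    rintro ⟨x, hx⟩
    exact hcon x ((mem_fixed_zpowers x).1 hx)
  have h0 : Nat.card (fixedPoints (Subgroup.zpowers t) Ω) = 0 := Nat.card_of_isEmpty
  rw [h0] at h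
  have := Nat.odd_iff.1 hodd
  have h' : Nat.card Ω % 2 = 0 % 2 := h
  omega

/-- an involution with exactly two fixed points acts on a set of even size -/
theorem even_of_two_fixed {t : G} (ht : t * t = 1) {a b : Ω} (hab : a ≠ b) (ha : t • a = a)
    (hb : t • b = b) (hc : ∀ c, c ≠ a → c ≠ b → t • c ≠ c) : Even (Nat.card Ω) := by
  classical
  have : Fact (Nat.Prime 2) := ⟨Nat.prime_two⟩
  have h := (isPGroup_zpowers ht).card_modEq_card_fixedPoints Ω
  have hset : fixedPoints (Subgroup.zpowers t) Ω = {a, b} := by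
    ext x
    rw [mem_fixed_zpowers]
    simp only [Set.mem_insert_iff, Set.mem_singleton_iff]
    constructor
    · intro hx
      by_contra hne
      push Not at hne
      exact hc x hne.1 hne.2 hx
    · rintro (rfl | rfl)
      · exact ha
      · exact hb
  have hcard : Nat.card (fixedPoints (Subgroup.zpowers t) Ω) = 2 := by
    rw [hset, Nat.card_coe_set_eq, Set.ncard_pair hab]
  rw [hcard] at h
  have h' : Nat.card Ω % 2 = 2 % 2 := h
  exact Nat.even_iff.2 (by omega)

end

section
variable {G Ω : Type*} [Group G] [MulAction G Ω] [Finite Ω]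
  (hZ : Cfsg.IsZassenhausGroup G Ω) (hodd : Odd (Nat.card Ω))
include hZ hodd

/-- every involution lies in every non-trivial normal subgroup -/
theorem invol_mem (M : Subgroup G) [M.Normal] (hM : M ≠ ⊥) {t : G} (ht : t * t = 1) : t ∈ M := by
  have hz := zhyp_of_isZassenhausGroup hZ
  by_cases ht1 : t = 1
  · rw [ht1]; exact M.one_mem
  obtain ⟨c, hc⟩ := exists_fixed_of_odd ht hodd
  obtain ⟨K, hK, _⟩ := exists_K hz c
  apply K_le_normal hZ M hM c K hK
  rw [← SetLike.mem_coe, hK]
  refine ⟨hc, Or.inr ?_⟩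
  intro c' hc' hfix
  have heven := even_of_two_fixed ht (Ne.symm hc') hc hfix
    (fun d hd1 hd2 => ne_of_fix hz ht1 (Ne.symm hc') hc hfix hd1 hd2)
  exact (Nat.not_even_iff_odd.2 hodd) heven

/-- two-point stabilisers have odd order -/
theorem odd_card_two_point (a b : Ω) (hab : a ≠ b) :
    Odd (Nat.card ↥(stabilizer G a ⊓ stabilizer G b)) := by
  have hz := zhyp_of_isZassenhausGroup hZ
  have hfin : Finite G := finite_of_finite hz
  by_contra hne
  rw [Nat.not_odd_iff_even] at hne
  have : Fact (Nat.Prime 2) := ⟨Nat.prime_two⟩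
  obtain ⟨s, hs⟩ := exists_prime_orderOf_dvd_card' (G := ↥(stabilizer G a ⊓ stabilizer G b)) 2
    (even_iff_two_dvd.1 hne)
  have hs2 : (s : G) * (s : G) = 1 := by
    have : s ^ 2 = 1 := by rw [← hs]; exact pow_orderOf_eq_one s
    have := congrArg Subtype.val this
    simpa [pow_two] using this
  have hs1 : (s : G) ≠ 1 := by
    intro h
    have : s = 1 := Subtype.ext h
    rw [this, orderOf_one] at hs
    omega
  obtain ⟨hsa, hsb⟩ := Subgroup.mem_inf.1 s.2
  rw [mem_stabilizer_iff] at hsa hsb
  have heven := even_of_two_fixed hs2 hab hsa hsb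
    (fun d hd1 hd2 => ne_of_fix hz hs1 hab hsa hsb hd1 hd2)
  exact (Nat.not_even_iff_odd.2 hodd) heven

end

/-- A Zassenhaus group of odd degree is a simple group. -/
theorem result {G Ω : Type*} [Group G] [MulAction G Ω] [Fintype Ω]
    (hZ : Cfsg.IsZassenhausGroup G Ω) (hodd : Odd (Fintype.card Ω)) : IsSimpleGroup G := by
  classical
  have hz := zhyp_of_isZassenhausGroup hZ
  have hfin : Finite G := finite_of_finite hz
  have hodd' : Odd (Nat.card Ω) := by rw [Nat.card_eq_fintype_card]; exact hodd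
  obtain ⟨g₀, hg₀, -⟩ := hz.fix
  have : Nontrivial G := ⟨⟨g₀, 1, hg₀⟩⟩
  refine ⟨fun M hMn => ?_⟩
  by_cases hM : M = ⊥
  · exact Or.inl hM
  right
  have := hMn
  -- two-point stabilisers lie in `M`
  have hH : ∀ a b : Ω, a ≠ b → ∀ h : G, h • a = a → h • b = b → h ∈ M := by
    intro a b hab
    set H := stabilizer G a ⊓ stabilizer G b with hHdef
    have memH : ∀ x : G, x ∈ H ↔ x • a = a ∧ x • b = b := by
      intro x
      rw [hHdef, Subgroup.mem_inf, mem_stabilizer_iff, mem_stabilizer_iff]
    obtain ⟨m, hm⟩ := odd_card_two_point hZ hodd' a b hab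
    obtain ⟨g, hga, hgb⟩ := hz.two hab hab.symm
    have hggH : g * g ∈ H := by
      rw [memH]
      exact ⟨by rw [mul_smul, hga, hgb], by rw [mul_smul, hgb, hga]⟩
    have hpow : (g * g) ^ (2 * m + 1) = 1 := by
      have := pow_card_eq_one' (G := H) (x := ⟨g * g, hggH⟩)
      rw [hm] at this
      exact congrArg Subtype.val this
    have hpowH : ∀ j : ℕ, (g * g) ^ j ∈ H := fun j => H.pow_mem hggH j
    set t := (g * g) ^ m * g with ht
    have htt : t * t = 1 := by
      have h1 : (g * g) ^ m * g = g * (g * g) ^ m := by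
        have : Commute (g * g) g := by
          show g * g * g = g * (g * g)
          rw [mul_assoc]
        exact (this.pow_left m).eq
      calc t * t = (g * g) ^ m * g * (g * (g * g) ^ m) := by rw [ht, ← h1]
        _ = (g * g) ^ m * (g * g) * (g * g) ^ m := by group
        _ = (g * g) ^ (2 * m + 1) := by rw [← pow_succ, ← pow_add]; congr 1; omega
        _ = 1 := hpow
    have hta : t • a = b := by
      rw [ht, mul_smul, hga]
      exact ((memH _).1 (hpowH m)).2
    have htb : t • b = a := by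
      rw [ht, mul_smul, hgb]
      exact ((memH _).1 (hpowH m)).1
    have htinv : t⁻¹ = t := inv_eq_of_mul_eq_one_right htt
    have ht1 : t ≠ 1 := by
      intro h
      rw [h, one_smul] at hta
      exact hab hta
    have htM : t ∈ M := invol_mem hZ hodd' M hM htt
    -- the unique fixed point of `t`
    obtain ⟨c, hc⟩ := exists_fixed_of_odd htt hodd'
    have hca : c ≠ a := by
      intro h
      rw [h, hta] at hc
      exact hab hc.symm
    have hcb : c ≠ b := by
      intro h
      rw [h, htb] at hc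
      exact hab hc
    have hcuniq : ∀ d : Ω, t • d = d → d = c := by
      intro d hd
      by_contra hdc
      have heven := even_of_two_fixed htt (Ne.symm hdc) hc hd
        (fun e he1 he2 => ne_of_fix hz ht1 (Ne.symm hdc) hc hd he1 he2)
      exact (Nat.not_even_iff_odd.2 hodd') heven
    -- `t` normalises `H`
    have hnorm : ∀ x ∈ H, t * x * t⁻¹ ∈ H := by
      intro x hx
      rw [memH] at hx ⊢
      rw [htinv]
      exact ⟨by rw [mul_smul, mul_smul, hta, hx.2, htb], by rw [mul_smul, mul_smul, htb, hx.1, hta]⟩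
    let f : H → H := fun x => ⟨(x : G)⁻¹ * (t * (x : G) * t⁻¹), H.mul_mem (H.inv_mem x.2) (hnorm _ x.2)⟩
    have hinj : Function.Injective f := by
      intro x y hxy
      have e : (x : G)⁻¹ * (t * (x : G) * t⁻¹) = (y : G)⁻¹ * (t * (y : G) * t⁻¹) :=
        congrArg Subtype.val hxy
      set u : G := (y : G) * (x : G)⁻¹ with hu
      have huH : u ∈ H := H.mul_mem y.2 (H.inv_mem x.2)
      have hcomm : t * u = u * t := by
        have e2 : (y : G) * (x : G)⁻¹ = t * (y : G) * t⁻¹ * (t * (x : G) * t⁻¹)⁻¹ := by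
          have := congrArg (fun z => (y : G) * z * (t * (x : G) * t⁻¹)⁻¹) e
          rw [show (y : G) * ((x : G)⁻¹ * (t * (x : G) * t⁻¹)) * (t * (x : G) * t⁻¹)⁻¹ =
            (y : G) * (x : G)⁻¹ by group] at this
          rw [this]; group
        have e3 : u = t * u * t⁻¹ := by
          rw [hu]
          conv_lhs => rw [e2]
          group
        calc t * u = t * u * t⁻¹ * t := by group
          _ = u * t := by rw [← e3]
      have huc : u • c = c := by
        apply hcuniq
        rw [← mul_smul, hcomm, mul_smul, hc]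
      have hu1 : u = 1 :=
        hz.three u a b c hab hcb.symm hca.symm ((memH u).1 huH).1 ((memH u).1 huH).2 huc
      apply Subtype.ext
      have : (y : G) = u * (x : G) := by rw [hu]; group
      rw [this, hu1, one_mul]
    have hsurj : Function.Surjective f := Finite.injective_iff_surjective.1 hinj
    intro h hha hhb
    obtain ⟨x, hx⟩ := hsurj ⟨h, (memH h).2 ⟨hha, hhb⟩⟩
    have e : (x : G)⁻¹ * (t * (x : G) * t⁻¹) = h := congrArg Subtype.val hx
    rw [← e]
    have : (x : G)⁻¹ * (t * (x : G) * t⁻¹) = ((x : G)⁻¹ * t * (x : G)⁻¹⁻¹) * t⁻¹ := by group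
    rw [this]
    exact M.mul_mem (hMn.conj_mem t htM _) (M.inv_mem htM)
  -- point stabilisers lie in `M`
  have hGa : ∀ a : Ω, ∀ g : G, g • a = a → g ∈ M := by
    intro a g hga
    obtain ⟨b, hba⟩ : ∃ b : Ω, b ≠ a := by
      obtain ⟨g, _, a', b', hab', _, _⟩ := hz.fix
      by_cases h : a' = a
      · exact ⟨b', fun hb => hab' (h.trans hb.symm)⟩
      · exact ⟨a', h⟩
    obtain ⟨K, hK, hKtr⟩ := exists_K hz a
    have hKM := K_le_normal hZ M hM a K hK
    have hgb : g • b ≠ a := by
      intro h
      apply hba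
      have : g • b = g • a := by rw [h, hga]
      exact smul_left_cancel _ this
    obtain ⟨k, hk, hkb⟩ := hKtr b (g • b) hba hgb
    have hka : k • a = a := by
      have : k ∈ (K : Set G) := hk
      rw [hK] at this
      exact this.1
    have h1 : k⁻¹ * g ∈ M := by
      apply hH a b hba.symm
      · rw [mul_smul, hga, inv_smul_eq_iff, hka]
      · rw [mul_smul, inv_smul_eq_iff, hkb]
    have : g = k * (k⁻¹ * g) := by group
    rw [this]
    exact M.mul_mem (hKM hk) h1
  rw [eq_top_iff]
  intro g _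
  obtain ⟨a⟩ : Nonempty Ω := by
    obtain ⟨g, _, a', _⟩ := hz.fix
    exact ⟨a'⟩
  obtain ⟨m, hm, hma⟩ := normal_transitive hz M hM a (g • a)
  have h1 : m⁻¹ * g ∈ M := hGa a _ (by rw [mul_smul, inv_smul_eq_iff, hma])
  have : g = m * (m⁻¹ * g) := by group
  rw [this]
  exact M.mul_mem hm h1

end Cfsg.Agent.S0338
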