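import Cfsg.Statements.S0325
import Cfsg.Agent.S0326
import Cfsg.Agent.S0327
import Cfsg.Agent.S0338

set_option autoImplicit false
open Cfsg

namespace Cfsg.Agent.S0325

/-- The Suzuki group over a field with `2^(2m+1)` elements, `m ≥ 1`, is a simple group. -/
theorem result {F : Type*} [Field F] [Fintype F] {m : ℕ} (hm : 1 ≤ m)
    (hF : Fintype.card F = 2 ^ (2 * m + 1)) :
    IsSimpleGroup (Cfsg.Sz F m) := by
  classical
  haveI : Finite (Cfsg.suzukiOvoid F m) := Set.toFinite _ |>.to_subtype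
  letI : Fintype (Cfsg.suzukiOvoid F m) := Fintype.ofFinite _
  refine Cfsg.Agent.S0338.result (Cfsg.Agent.S0327.result hm hF) ?_
  rw [← Nat.card_eq_fintype_card, Cfsg.Agent.S0326.result, hF]
  refine Even.add_one ?_
  rw [Nat.even_pow]
  refine ⟨?_, two_ne_zero⟩
  rw [Nat.even_pow]
  exact ⟨even_two, by omega⟩

end Cfsg.Agent.S0325
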