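import Cfsg.Statements.S2241
import Cfsg.Agent.Lib.Helper37_SzConj
-- import your own Cfsg.Agent.* helpers here

set_option autoImplicit false
open Cfsg

namespace Cfsg.Agent.S2241

open Cfsg.Agent.Helper37Sz

/-- Real 2-elements of the Suzuki group: with q = 2^(2m+1), m ≥ 1, and the group realised as the stabiliser in SL₄ of the Suzuki–Tits ovoid, a non-identity element of a Sylow 2-subgroup is conjugate to its inverse if and only if it is an involution; in particular no element of order 4 is conjugate to its inverse. -/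
theorem result {F : Type*} [Field F] [Fintype F] {m : ℕ} (hm : 1 ≤ m) (hF : Fintype.card F = 2 ^ (2 * m + 1)) (P : Sylow 2 ↥(Cfsg.Sz F m)) (g : ↥(Cfsg.Sz F m)) (hg : g ∈ (P : Subgroup ↥(Cfsg.Sz F m))) (h1 : g ≠ 1) :
    IsConj g g⁻¹ ↔ orderOf g = 2 := by
  classical
  have h2 : (2 : F) = 0 := two_eq_zero_of_card hF
  set S : F →+* F := sgHom F m h2 with hSd
  have hSdef : ∀ z, S z = z ^ 2 ^ (m + 1) := fun z => sgHom_apply m h2 z
  have hS : ∀ z, S (S z) = z ^ 2 := fun z => sgHom_sgHom hF h2 z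
  constructor
  · intro hconj
    by_contra hord
    obtain ⟨x₀, φ, hφ, hφval, -⟩ := sylow_two_param hm hF h2 hS hSdef P
    obtain ⟨⟨a, b⟩, hab⟩ := hφ.2 ⟨g, hg⟩
    have hgval : g = x₀ * uQ h2 hS hSdef a b * x₀⁻¹ := by
      rw [← hφval a b, hab]
    have ha : a ≠ 0 := by
      rintro rfl
      apply hord
      have hsq : g ^ 2 = 1 := by
        rw [hgval, pow_two]
        have : x₀ * uQ h2 hS hSdef 0 b * x₀⁻¹ * (x₀ * uQ h2 hS hSdef 0 b * x₀⁻¹)
            = x₀ * (uQ h2 hS hSdef 0 b * uQ h2 hS hSdef 0 b) * x₀⁻¹ := by group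
        rw [this, uQ_mul]
        have hb : b + b + S 0 * 0 = 0 := by
          rw [map_zero, mul_zero, add_zero]; linear_combination b * h2
        rw [hb, add_zero]
        have : uQ h2 hS hSdef (0 : F) 0 = 1 := Subtype.ext uSL_zero
        rw [this]; group
      exact orderOf_eq_prime hsq h1
    obtain ⟨c, hc⟩ := isConj_iff.1 hconj
    -- conjugate back
    set y : Cfsg.Sz F m := x₀⁻¹ * c * x₀ with hy
    have hyconj : y * uQ h2 hS hSdef a b * y⁻¹ = (uQ h2 hS hSdef a b)⁻¹ := by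
      have e1 : uQ h2 hS hSdef a b = x₀⁻¹ * g * x₀ := by rw [hgval]; group
      rw [e1, hy]
      have : x₀⁻¹ * c * x₀ * (x₀⁻¹ * g * x₀) * (x₀⁻¹ * c * x₀)⁻¹ = x₀⁻¹ * (c * g * c⁻¹) * x₀ := by
        group
      rw [this, hc]; group
    have hyconj' : (y : Matrix.SpecialLinearGroup (Fin 4) F) * uSL S a b
        * (y : Matrix.SpecialLinearGroup (Fin 4) F)⁻¹ = (uSL S a b)⁻¹ :=
      congrArg Subtype.val hyconj
    exact not_conj_inv hm hF h2 hS hSdef ha y.2 hyconj'
  · intro hord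
    have : g⁻¹ = g := by
      have h3 : g ^ 2 = 1 := by rw [← hord]; exact pow_orderOf_eq_one g
      rw [inv_eq_iff_mul_eq_one, ← pow_two, h3]
    rw [this]

end Cfsg.Agent.S2241
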