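import Cfsg.Statements.S3868
import Cfsg.Agent.Lib.Helper64_MinNon
import Cfsg.Agent.Lib.Helper34_Fusion
import Mathlib

set_option autoImplicit false
set_option linter.unusedSectionVars false
open Cfsg

namespace Cfsg.Agent.S3868

open Subgroup
open Cfsg.Agent.S3869 (mem_normalizer_of_conj_mem)
open Cfsg.Agent.Lib.Helper24_CoprimeAction (exists_mul_of_mem_sup)

variable {G : Type*} [Group G] [Finite G] {p : ℕ} [hp : Fact p.Prime]

/-- a `p`-subgroup of `N(P)` lies in the Sylow `p`-subgroup `P` -/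
theorem le_sylow_of_le_normalizer (P : Sylow p G) {R : Subgroup G} (hR : IsPGroup p R)
    (hRN : R ≤ normalizer ((P : Subgroup G) : Set G)) : R ≤ (P : Subgroup G) := by
  have h3 := IsPGroup.to_sup_of_normal_right' hR P.2 hRN
  have h4 := P.is_maximal' h3 le_sup_right
  rw [← h4]
  exact le_sup_left

/-- conjugates of a subgroup, elementwise -/
theorem conj_le_of_normal {K : Subgroup G} (hK : K.Normal) {R : Subgroup G} (hRK : R ≤ K) (g : G) :
    R.map (MulAut.conj g).toMonoidHom ≤ K := by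
  rintro _ ⟨r, hr, rfl⟩
  exact hK.conj_mem r (hRK hr) g

/-- if `P ≤ K ≤ N(P)` with `K ⊴ G` then `P ⊴ G` -/
theorem normal_of_le_normalizer (P : Sylow p G) {K : Subgroup G} (hK : K.Normal)
    (hPK : (P : Subgroup G) ≤ K) (hKN : K ≤ normalizer ((P : Subgroup G) : Set G)) :
    (P : Subgroup G).Normal := by
  rw [← normalizer_eq_top_iff, eq_top_iff]
  intro g _
  apply mem_normalizer_of_conj_mem
  intro y hy
  have h1 : (P : Subgroup G).map (MulAut.conj g).toMonoidHom ≤ (P : Subgroup G) :=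
    le_sylow_of_le_normalizer P (P.2.map _) ((conj_le_of_normal hK hPK g).trans hKN)
  exact h1 ⟨y, hy, rfl⟩

/-- `p`-closed subgroups containing `P` normalize it -/
theorem le_normalizer_of_isPClosed (P : Sylow p G) {K : Subgroup G} (hPK : (P : Subgroup G) ≤ K)
    (hcl : Cfsg.IsPClosed p ↥K) : K ≤ normalizer ((P : Subgroup G) : Set G) := by
  rw [← normal_subgroupOf_iff_le_normalizer hPK, ← Sylow.coe_subtype P hPK]
  exact hcl _

/-- if `G ⧸ Z` is `p`-closed then `P ⊔ Z` is normal -/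
theorem sup_normal_of_quotient (P : Sylow p G) (Z : Subgroup G) [Z.Normal]
    (hcl : Cfsg.IsPClosed p (G ⧸ Z)) : ((P : Subgroup G) ⊔ Z).Normal := by
  have h1 := hcl (P.mapSurjective (QuotientGroup.mk'_surjective Z))
  rw [Sylow.coe_mapSurjective] at h1
  have h2 : (((P : Subgroup G).map (QuotientGroup.mk' Z)).comap (QuotientGroup.mk' Z)) =
      (P : Subgroup G) ⊔ Z := by
    rw [comap_map_eq, QuotientGroup.ker_mk']
  rw [← h2]
  exact Subgroup.Normal.comap h1 _

/-- existence of a minimal normal subgroup below a nontrivial normal subgroup -/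
theorem exists_minimal_normal (H : Subgroup G) (hHn : H.Normal) (hH1 : H ≠ ⊥) :
    ∃ N : Subgroup G, N.Normal ∧ N ≠ ⊥ ∧ N ≤ H ∧
      ∀ B : Subgroup G, B.Normal → B ≤ N → B = ⊥ ∨ B = N := by
  let S : Set (Subgroup G) := {M | M.Normal ∧ M ≠ ⊥ ∧ M ≤ H}
  have hne : S.Nonempty := ⟨H, hHn, hH1, le_rfl⟩
  obtain ⟨N, hNS, hNmin⟩ := (measure (fun M : Subgroup G => Nat.card M)).wf.has_min S hne
  refine ⟨N, hNS.1, hNS.2.1, hNS.2.2, ?_⟩
  intro B hBn hBN
  by_cases hB1 : B = ⊥
  · exact Or.inl hB1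
  · right
    have hBS : B ∈ S := ⟨hBn, hB1, hBN.trans hNS.2.2⟩
    have h1 := hNmin B hBS
    exact eq_of_le_of_card_ge hBN (not_lt.mp h1)

theorem result {G : Type*} [Group G] [Finite G] {p : ℕ} [Fact p.Prime]
    (hnc : ¬ Cfsg.IsPClosed p G) (hsub : ∀ H : Subgroup G, H ≠ ⊤ → Cfsg.IsPClosed p ↥H)
    (hquo : ∀ (N : Subgroup G) [N.Normal], N ≠ ⊥ → Cfsg.IsPClosed p (G ⧸ N)) (hns : ¬ IsSimpleGroup G) :
    ∃ q : ℕ, q.Prime ∧ q ≠ p ∧ Nat.card G = p * q ^ orderOf (q : ZMod p) ∧
      ∃ A : Subgroup G, A.Normal ∧ Nat.card ↥A = q ^ orderOf (q : ZMod p) ∧ Cfsg.IsElementaryAbelian q A ∧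
        ∀ B : Subgroup G, B.Normal → B ≤ A → B = ⊥ ∨ B = A := by
  unfold Cfsg.IsPClosed at hnc
  push Not at hnc
  obtain ⟨P, hPn⟩ := hnc
  -- a proper nontrivial normal subgroup
  have hex : ∃ H : Subgroup G, H.Normal ∧ H ≠ ⊥ ∧ H ≠ ⊤ := by
    by_contra hcon
    push Not at hcon
    apply hns
    have hnt : Nontrivial G := by
      by_contra hnt
      rw [not_nontrivial_iff_subsingleton] at hnt
      apply hPn
      have : (P : Subgroup G) = ⊤ := Subsingleton.elim _ _
      rw [this]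
      infer_instance
    exact ⟨fun H hH => by
      by_cases h : H = ⊥
      · exact Or.inl h
      · exact Or.inr (hcon H hH h)⟩
  obtain ⟨H, hHn, hH1, hHtop⟩ := hex
  obtain ⟨N, hNn, hN1, hNH, hmin⟩ := exists_minimal_normal H hHn hH1
  have hNtop : N ≠ ⊤ := fun h => hHtop (eq_top_iff.mpr (h ▸ hNH))
  -- P ⊔ N = ⊤
  have hsup : (P : Subgroup G) ⊔ N = ⊤ := by
    by_contra hK
    have hKn : ((P : Subgroup G) ⊔ N).Normal := sup_normal_of_quotient P N (hquo N hN1)
    exact hPn (normal_of_le_normalizer P hKn le_sup_left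
      (le_normalizer_of_isPClosed P le_sup_left (hsub _ hK)))
  -- P ⊓ N = ⊥
  have hPN : (P : Subgroup G) ⊓ N = ⊥ := by
    have hcl := hsub N hNtop
    have h1 := hcl (Cfsg.Agent.Lib.Helper32_Sylow.sylowInfNormal P N)
    rw [Cfsg.Agent.Lib.Helper32_Sylow.coe_sylowInfNormal,
      normal_subgroupOf_iff_le_normalizer inf_le_right] at h1
    have hidx := Cfsg.Agent.Lib.Helper32_Sylow.not_dvd_relIndex_inf_normal P N
    have hn : ((P : Subgroup G) ⊓ N).Normal := by
      rw [← normalizer_eq_top_iff, eq_top_iff]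
      intro g _
      apply mem_normalizer_of_conj_mem
      intro y hy
      set R := ((P : Subgroup G) ⊓ N).map (MulAut.conj g).toMonoidHom with hR
      have hRN : R ≤ N := conj_le_of_normal hNn inf_le_right g
      have hRp : IsPGroup p R := (P.2.to_le inf_le_left).map _
      have h2 : IsPGroup p (R ⊔ ((P : Subgroup G) ⊓ N) : Subgroup G) :=
        IsPGroup.to_sup_of_normal_right' hRp (P.2.to_le inf_le_left) (hRN.trans h1)
      have h3 := Cfsg.Agent.Lib.Helper34_Fusion.le_of_relIndex (le_sup_right)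
        (sup_le hRN inf_le_right) h2 hidx
      exact h3 (le_sup_left (a := R) ⟨y, hy, rfl⟩)
    rcases hmin _ hn inf_le_right with h | h
    · exact h
    · exfalso
      apply hPn
      have hNP : N ≤ (P : Subgroup G) := by rw [← h]; exact inf_le_left
      rw [sup_eq_left.mpr hNP] at hsup
      rw [hsup]
      infer_instance
  apply Cfsg.Agent.Lib.Helper64_MinNon.structure_thm P N hPN hsup hPn hmin
  · -- H1
    intro K hPK hK
    exact le_normalizer_of_isPClosed P hPK (hsub K hK)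
  · -- H2
    intro P₀ hP₀
    have hP₀N : P₀ ≤ normalizer (N : Set G) := by rw [normalizer_eq_top]; exact le_top
    have hK : N ⊔ P₀ ≠ ⊤ := by
      intro hK
      apply hP₀.not_ge
      intro y hy
      have hy' : y ∈ N ⊔ P₀ := by rw [hK]; trivial
      obtain ⟨n, hn, y₀, hy₀, hny⟩ := exists_mul_of_mem_sup P₀ N hP₀N hy'
      have hnP : n ∈ (P : Subgroup G) ⊓ N := by
        refine ⟨?_, hn⟩
        have : n = y * y₀⁻¹ := by rw [hny]; group
        rw [this]
        exact (P : Subgroup G).mul_mem hy ((P : Subgroup G).inv_mem (hP₀.le hy₀))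
      rw [hPN, mem_bot] at hnP
      rw [hny, hnP, one_mul]
      exact hy₀
    have hcl := hsub _ hK
    have hP₀p : IsPGroup p (P₀.subgroupOf (N ⊔ P₀)) := (P.2.to_le hP₀.le).comap_subtype
    obtain ⟨S', hS'⟩ := hP₀p.exists_le_sylow
    have hS'n := hcl S'
    -- the image of S' in G is P₀
    have hS'eq : (S' : Subgroup ↥(N ⊔ P₀)) = P₀.subgroupOf (N ⊔ P₀) := by
      apply le_antisymm _ hS'
      intro s hs
      rw [mem_subgroupOf]
      obtain ⟨n, hn, y₀, hy₀, hny⟩ := exists_mul_of_mem_sup P₀ N hP₀N s.2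
      have hy₀' : (⟨y₀, le_sup_right (a := N) hy₀⟩ : ↥(N ⊔ P₀)) ∈ (S' : Subgroup ↥(N ⊔ P₀)) :=
        hS' (mem_subgroupOf.mpr hy₀)
      have hn' : (⟨n, le_sup_left (b := P₀) hn⟩ : ↥(N ⊔ P₀)) ∈ (S' : Subgroup ↥(N ⊔ P₀)) := by
        have : (⟨n, le_sup_left (b := P₀) hn⟩ : ↥(N ⊔ P₀)) = s * (⟨y₀, le_sup_right (a := N) hy₀⟩ : ↥(N ⊔ P₀))⁻¹ := by
          apply Subtype.ext
          simp only [coe_mul, InvMemClass.coe_inv]
          rw [hny]; group
        rw [this]
        exact mul_mem hs (inv_mem hy₀')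
      -- n is a p-element of the p'-group N
      obtain ⟨k, hk⟩ := S'.2 ⟨_, hn'⟩
      have hk' : n ^ (p ^ k) = 1 := by
        have := congrArg (fun z : (S' : Subgroup ↥(N ⊔ P₀)) => ((z : ↥(N ⊔ P₀)) : G)) hk
        simpa using this
      have hn1 : n = 1 := by
        have h1 : orderOf n ∣ p ^ k := orderOf_dvd_of_pow_eq_one hk'
        have h2 : orderOf n ∣ Nat.card N := by
          have := orderOf_dvd_natCard (⟨n, hn⟩ : N)
          rwa [Subgroup.orderOf_mk] at this
        have h3 : orderOf n ∣ Nat.gcd (p ^ k) (Nat.card N) := Nat.dvd_gcd h1 h2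
        have h4 : Nat.gcd (p ^ k) (Nat.card N) = 1 :=
          Nat.Coprime.pow_left k ((Nat.Prime.coprime_iff_not_dvd Fact.out).mpr
            (Cfsg.Agent.Lib.Helper64_MinNon.not_dvd_card P N hPN))
        rw [h4, Nat.dvd_one, orderOf_eq_one_iff] at h3
        exact h3
      rw [hny, hn1, one_mul]
      exact hy₀
    rw [hS'eq, normal_subgroupOf_iff_le_normalizer le_sup_right] at hS'n
    exact le_sup_left.trans hS'n
  · -- H3
    intro Z hZn hZP
    by_contra hZ1
    have h1 := sup_normal_of_quotient P Z (hquo Z hZ1)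
    rw [sup_eq_left.mpr hZP] at h1
    exact hPn h1

end Cfsg.Agent.S3868
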