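import Cfsg.Statements.S4457
import Cfsg.Agent.Lib.Helper74_TwoDegD
import Cfsg.Agent.Lib.Helper80_CharBasic
import Cfsg.Agent.Lib.Helper3_Ito

set_option autoImplicit false
open Cfsg

namespace Cfsg.Agent.S4457

open Cfsg.Agent.Lib

/-- the degree as a natural number -/
theorem charDegree_eq {G : Type*} [Group G] (χ : Cfsg.IrrCharacter G) :
    (χ : G → ℂ) 1 = (Cfsg.charDegree (χ : G → ℂ) : ℂ) := by
  obtain ⟨d, -, hd⟩ := Helper80_CharBasic.irr_apply_one χ
  unfold Cfsg.charDegree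
  rw [hd]
  simp

/-- Itô's theorem for characters -/
theorem ito_char {G : Type*} [Group G] [Finite G] (χ : Cfsg.IrrCharacter G) (d : ℕ)
    (hd : (χ : G → ℂ) 1 = d) (A : Subgroup G) [A.Normal]
    (hab : ∀ a ∈ A, ∀ b ∈ A, a * b = b * a) : d ∣ A.index := by
  obtain ⟨n, ρ, hirr, hρ⟩ := χ.2
  have := hirr
  have h1 := Helper3_Ito.ito ρ A hab
  have h2 : Module.finrank ℂ (Fin n → ℂ) = n := by simp
  have h3 : (χ : G → ℂ) 1 = n := by
    rw [← hρ, Representation.char_one]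
    simp
  have h4 : d = n := by
    rw [h3] at hd
    exact_mod_cast hd.symm
  rw [h4]
  rw [h2] at h1
  exact h1

/-- the nilpotent case -/
theorem nilpotent_case {G : Type*} [Group G] [Finite G] (hnil : Group.IsNilpotent G) (m : ℕ)
    (hcd : ∀ χ : Cfsg.IrrCharacter G, (χ : G → ℂ) 1 = 1 ∨ (χ : G → ℂ) 1 = m)
    (hm : ∃ χ : Cfsg.IrrCharacter G, (χ : G → ℂ) 1 = m) (hm1 : m ≠ 1) :
    ∃ p e : ℕ, p.Prime ∧ m = p ^ e ∧ ∃ P A : Subgroup G, P.Normal ∧ A.Normal ∧ IsPGroup p P ∧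
      (∀ a ∈ A, ∀ b ∈ A, a * b = b * a) ∧ P ⊓ A = ⊥ ∧ P ⊔ A = ⊤ := by
  classical
  have : Fintype G := Fintype.ofFinite G
  obtain ⟨χ₀, hχ₀⟩ := hm
  obtain ⟨p, hp, hpm⟩ := Nat.exists_prime_and_dvd hm1
  have : Fact p.Prime := ⟨hp⟩
  set A : Subgroup G := Cfsg.pResidual p G with hA
  have hAn : A.Normal := Helper47_PClosed.pResidual_normal p G
  have hpA : ¬ p ∣ Nat.card A := by
    refine Helper59_Thompson.not_dvd_card_pResidual p ?_
    intro χ hχ d hd hd1
    rcases hcd ⟨χ, hχ⟩ with h | h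
    · exfalso
      apply hd1
      have : (d : ℂ) = 1 := by rw [← hd]; exact h
      exact_mod_cast this
    · have : (d : ℂ) = m := by rw [← hd]; exact h
      have hdm : d = m := by exact_mod_cast this
      rw [hdm]
      exact hpm
  have hpg : IsPGroup p (G ⧸ A) := Helper47_PClosed.isPGroup_quotient_pResidual
  obtain ⟨k, hk⟩ := hpg.exists_card_eq
  have hAidx : A.index = p ^ k := by rw [Subgroup.index_eq_card]; exact hk
  obtain ⟨P⟩ : Nonempty (Sylow p G) := inferInstance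
  have hPn : (P : Subgroup G).Normal := by
    have := (Group.isNilpotent_of_finite_tfae (G := G)).out 0 3 rfl rfl |>.mp hnil
    exact this p inferInstance P
  have hPidx : ¬ p ∣ (P : Subgroup G).index := P.not_dvd_index
  -- `G/P` is abelian
  have hQab : ∀ a b : G ⧸ (P : Subgroup G), a * b = b * a := by
    apply Helper59_CliffordDeg.commute_of_all_linear
    intro θ
    have hθ' := Helper57_FrobNorm.isIrrCharacter_comp_surjective
      (QuotientGroup.mk' (P : Subgroup G)) (QuotientGroup.mk'_surjective _) θ.2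
    rcases hcd ⟨_, hθ'⟩ with h | h
    · have h1 : (θ : G ⧸ (P : Subgroup G) → ℂ) ((QuotientGroup.mk' (P : Subgroup G)) 1) = 1 := h
      rw [map_one] at h1
      exact h1
    · exfalso
      have h1 : (θ : G ⧸ (P : Subgroup G) → ℂ) ((QuotientGroup.mk' (P : Subgroup G)) 1) = m := h
      rw [map_one] at h1
      have h2 := Helper74_TwoDegS.degree_dvd_card θ m h1
      rw [← Subgroup.index_eq_card] at h2
      exact hPidx (hpm.trans h2)
  have hcop : (Nat.card (P : Subgroup G)).Coprime (Nat.card A) := by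
    obtain ⟨j, hj⟩ := P.2.exists_card_eq
    rw [hj]
    apply Nat.Coprime.pow_left
    exact (Nat.Prime.coprime_iff_not_dvd hp).mpr hpA
  have hinf : (P : Subgroup G) ⊓ A = ⊥ := (Subgroup.disjoint_of_coprime_natCard hcop).eq_bot
  have hAab : ∀ a ∈ A, ∀ b ∈ A, a * b = b * a := by
    intro a ha b hb
    have h1 := hQab (QuotientGroup.mk a) (QuotientGroup.mk b)
    rw [← QuotientGroup.mk_mul, ← QuotientGroup.mk_mul, QuotientGroup.eq] at h1
    have h2 : (a * b)⁻¹ * (b * a) ∈ (P : Subgroup G) ⊓ A :=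
      ⟨h1, A.mul_mem (A.inv_mem (A.mul_mem ha hb)) (A.mul_mem hb ha)⟩
    rw [hinf, Subgroup.mem_bot] at h2
    exact (inv_mul_eq_one.mp h2)
  have hsup : (P : Subgroup G) ⊔ A = ⊤ := by
    rw [← Subgroup.index_eq_one]
    have h1 : ((P : Subgroup G) ⊔ A).index ∣ (P : Subgroup G).index :=
      Subgroup.index_dvd_of_le le_sup_left
    have h2 : ((P : Subgroup G) ⊔ A).index ∣ p ^ k := by
      rw [← hAidx]
      exact Subgroup.index_dvd_of_le le_sup_right
    obtain ⟨j, -, hj⟩ := (Nat.dvd_prime_pow hp).mp h2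
    rw [hj] at h1 ⊢
    rcases Nat.eq_zero_or_pos j with h0 | h0
    · rw [h0, pow_zero]
    · exfalso
      exact hPidx ((dvd_pow_self p h0.ne').trans h1)
  have hmdvd : m ∣ p ^ k := by
    rw [← hAidx]
    exact ito_char χ₀ m hχ₀ A hAab
  obtain ⟨e, -, he⟩ := (Nat.dvd_prime_pow hp).mp hmdvd
  exact ⟨p, e, hp, he, P, A, hPn, hAn, P.2, hAab, hinf, hsup⟩

/-- Let G be a finite group whose irreducible character degrees are exactly 1 and m (m ≠ 1). Then either G has an abelian normal subgroup of index m, or m is a power of a prime p and G is the direct product of a p-group and an abelian group: there are normal subgroups P and A with P a p-group, A abelian, P ⊓ A = 1 and P ⊔ A = G. -/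
theorem result {G : Type*} [Group G] [Finite G] (m : ℕ) (hcd : ∀ χ : Cfsg.IrrCharacter G, Cfsg.charDegree (χ : G → ℂ) = 1 ∨ Cfsg.charDegree (χ : G → ℂ) = m) (hm : ∃ χ : Cfsg.IrrCharacter G, Cfsg.charDegree (χ : G → ℂ) = m) (hm1 : m ≠ 1) : (∃ A : Subgroup G, A.Normal ∧ (∀ a ∈ A, ∀ b ∈ A, a * b = b * a) ∧ A.index = m) ∨ ∃ p e : ℕ, p.Prime ∧ m = p ^ e ∧ ∃ P A : Subgroup G, P.Normal ∧ A.Normal ∧ IsPGroup p P ∧ (∀ a ∈ A, ∀ b ∈ A, a * b = b * a) ∧ P ⊓ A = ⊥ ∧ P ⊔ A = ⊤ := by
  classical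
  have : Fintype G := Fintype.ofFinite G
  have hcd' : ∀ χ : Cfsg.IrrCharacter G, (χ : G → ℂ) 1 = 1 ∨ (χ : G → ℂ) 1 = m := by
    intro χ
    rw [charDegree_eq χ]
    rcases hcd χ with h | h
    · left
      rw [h]
      simp
    · right
      rw [h]
  by_cases hnil : Group.IsNilpotent G
  · right
    refine nilpotent_case hnil m hcd' ?_ hm1
    obtain ⟨χ, hχ⟩ := hm
    exact ⟨χ, by rw [charDegree_eq χ, hχ]⟩
  · left
    have hsolv : Group.IsSolvable G := Helper74_TwoDegS.isSolvable_of_twoDeg m hcd'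
    obtain ⟨K, N, hKn, hNn, hKN, hne, hab, hcop, hfpf, hidx, habq⟩ :=
      Helper74_TwoDegD.good_of_twoDeg (Nat.card G) G rfl hsolv hnil m hcd'
    have hcd'' : ∀ χ : IrrCharacter G, (χ : G → ℂ) 1 = 1 ∨ (χ : G → ℂ) 1 = (N.index : ℂ) := by
      rw [hidx]
      exact hcd'
    have hlin := Helper74_TwoDegC.all_linear K N hKN hne hab hcop hfpf hcd''
    have hNab : ∀ a b : N, a * b = b * a := Helper59_CliffordDeg.commute_of_all_linear hlin
    exact ⟨N, hNn, fun a ha b hb => congrArg Subtype.val (hNab ⟨a, ha⟩ ⟨b, hb⟩), hidx⟩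

end Cfsg.Agent.S4457
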