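import Cfsg.Statements.S2940

set_option autoImplicit false
open Cfsg

namespace Cfsg.Agent.S2940

open scoped Pointwise

/-- Let S be a Sylow p-subgroup of the finite group G and G₁, G₂ subgroups containing S with G = G₁G₂. Then for every g ∈ G there is a Sylow p-subgroup U of G with S ∩ S^g ≤ U ≤ G₁ ∩ G₂^g (conjugates taken as X^g = g⁻¹Xg). -/
theorem result {G : Type*} [Group G] [Finite G] {p : ℕ} [Fact p.Prime] (S : Sylow p G) (G₁ G₂ : Subgroup G) (h1 : (S : Subgroup G) ≤ G₁) (h2 : (S : Subgroup G) ≤ G₂) (hfact : ∀ g : G, ∃ g₁ ∈ G₁, ∃ g₂ ∈ G₂, g = g₁ * g₂) (g : G) : ∃ U : Sylow p G, (S : Subgroup G) ⊓ Cfsg.subgroupConjRight g (S : Subgroup G) ≤ (U : Subgroup G) ∧ (U : Subgroup G) ≤ G₁ ⊓ Cfsg.subgroupConjRight g G₂ := by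
  classical
  obtain ⟨g₁, hg₁, g₂, hg₂, hg⟩ := hfact g⁻¹
  set H : Subgroup G := G₁ ⊓ Cfsg.subgroupConjRight g G₂ with hH
  -- the conjugate of G₂ by g is the conjugate by g₁
  have hconj : Cfsg.subgroupConjRight g G₂ = G₂.map (MulAut.conj g₁).toMonoidHom := by
    unfold Cfsg.subgroupConjRight
    rw [hg]
    ext x
    simp only [Subgroup.mem_map, MulEquiv.coe_toMonoidHom, MulAut.conj_apply]
    constructor
    · rintro ⟨y, hy, rfl⟩
      refine ⟨g₂ * y * g₂⁻¹, G₂.mul_mem (G₂.mul_mem hg₂ hy) (G₂.inv_mem hg₂), ?_⟩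
      simp [mul_assoc]
    · rintro ⟨y, hy, rfl⟩
      refine ⟨g₂⁻¹ * y * g₂, G₂.mul_mem (G₂.mul_mem (G₂.inv_mem hg₂) hy) hg₂, ?_⟩
      simp [mul_assoc]
  -- a Sylow subgroup of G inside H
  set S' : Sylow p G := g₁ • S with hS'
  have hS'H : (S' : Subgroup G) ≤ H := by
    intro x hx
    rw [hS', Sylow.coe_subgroup_smul] at hx
    have hx' := Subgroup.mem_pointwise_smul_iff_inv_smul_mem.mp hx
    obtain ⟨y, hy, rfl⟩ : ∃ y, y ∈ (S : Subgroup G) ∧ x = MulAut.conj g₁ • y :=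
      ⟨(MulAut.conj g₁)⁻¹ • x, hx', (smul_inv_smul _ _).symm⟩
    have hyS : y ∈ (S : Subgroup G) := hy
    rw [hH, hconj]
    refine ⟨?_, ?_⟩
    · simp only [MulAut.smul_def, MulAut.conj_apply]
      exact G₁.mul_mem (G₁.mul_mem hg₁ (h1 hyS)) (G₁.inv_mem hg₁)
    · exact ⟨y, h2 hyS, by simp [MulAut.smul_def]⟩
  -- the intersection is a p-subgroup of H
  set P₀ : Subgroup G := (S : Subgroup G) ⊓ Cfsg.subgroupConjRight g (S : Subgroup G) with hP₀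
  have hP₀H : P₀ ≤ H := by
    intro x hx
    refine ⟨h1 hx.1, ?_⟩
    obtain ⟨y, hy, rfl⟩ := hx.2
    exact ⟨y, h2 hy, rfl⟩
  have hP₀p : IsPGroup p (P₀.subgroupOf H) := by
    have : IsPGroup p P₀ := S.isPGroup'.to_le inf_le_left
    exact this.comap_subtype
  obtain ⟨Q, hQ⟩ := hP₀p.exists_le_sylow
  obtain ⟨h, hh⟩ := MulAction.exists_smul_eq H (S'.subtype hS'H) Q
  refine ⟨h • S', ?_, Sylow.smul_le hS'H h⟩
  intro x hx
  have hxH : x ∈ H := hP₀H hx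
  have hxQ : (⟨x, hxH⟩ : H) ∈ (Q : Subgroup H) := hQ (by simpa [Subgroup.mem_subgroupOf] using hx)
  rw [← hh] at hxQ
  have hsm := Sylow.smul_subtype hS'H h
  rw [hsm, Sylow.coe_subtype, Subgroup.mem_subgroupOf] at hxQ
  exact hxQ

end Cfsg.Agent.S2940
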