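import Mathlib
import Cfsg.Statements.S4464
import Cfsg.Agent.Lib.Helper81_CharOrth2
import Cfsg.Agent.Lib.Helper75_CharArith
import Cfsg.Agent.Lib.Helper75_LinChar
import Cfsg.Agent.Lib.Helper77_BlockBasics
import Cfsg.Agent.Lib.Helper3_CharColumn
-- import your own Cfsg.Agent.* helpers here

set_option autoImplicit false
set_option linter.style.haveILetI false
open Cfsg

namespace Cfsg.Agent.S4464

open Cfsg
open scoped ComplexConjugate
open Cfsg.Agent.Lib.Helper75_CharArith Cfsg.Agent.Lib.Helper77_BlockBasics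
  Cfsg.Agent.Lib.Helper75_LinChar Cfsg.Agent.Lib.Helper3_CharBridge
  Cfsg.Agent.Lib.Helper3_CharOrtho

/-- The sum of a character over the group is `|H|` times a natural number. -/
theorem sum_character_eq {H : Type*} [Group H] [Fintype H] {θ : H → ℂ} (hθ : IsCharacter H θ) :
    ∃ m : ℕ, ∑ h : H, θ h = (Nat.card H : ℂ) * m := by
  obtain ⟨m, hm⟩ := classInner_isCharacter_nat hθ (isLin_one (G := H)).1
  refine ⟨m, ?_⟩
  unfold classInner at hm
  simp only [map_one, mul_one] at hm
  have hH : (Nat.card H : ℂ) ≠ 0 := by exact_mod_cast (Nat.card_pos).ne'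
  rw [← hm]; field_simp

/-- The trivial character as an irreducible character. -/
noncomputable def triv (H : Type*) [Group H] [Fintype H] : IrrCharacter H :=
  ⟨fun _ => 1, (isLin_one (G := H)).irr⟩

theorem sum_subgroup_ne_zero {H : Type*} [Group H] [Fintype H] {θ : H → ℂ}
    (hθ : IsCharacter H θ) (K : Subgroup H) [Fintype K] (h : ∑ x : H, θ x ≠ 0) :
    ∑ k : K, θ k ≠ 0 := by
  classical
  obtain ⟨m, hm, hsum⟩ := exists_multiplicities hθ
  have hH : (Nat.card H : ℂ) ≠ 0 := by exact_mod_cast (Nat.card_pos).ne'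
  have hK : (Nat.card K : ℂ) ≠ 0 := by exact_mod_cast (Nat.card_pos).ne'
  have hmt : m (triv H) ≠ 0 := by
    intro h0
    apply h
    have h1 := hm (triv H)
    unfold classInner at h1
    rw [h0] at h1
    simp only [triv, map_one, mul_one, Nat.cast_zero] at h1
    rcases mul_eq_zero.mp h1 with h2 | h2
    · exact absurd (inv_eq_zero.mp h2) hH
    · exact h2
  have hk : ∀ φ : IrrCharacter H, ∃ k : ℕ,
      ∑ x : K, (φ : H → ℂ) x = (Nat.card K : ℂ) * k := fun φ =>
    sum_character_eq (isCharacter_restrict K (isCharacter_of_isIrrCharacter φ.2))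
  choose k hk using hk
  have hkt : k (triv H) = 1 := by
    have h1 := hk (triv H)
    simp only [triv, Finset.sum_const, Finset.card_univ, nsmul_eq_mul, mul_one] at h1
    rw [← Nat.card_eq_fintype_card] at h1
    have h2 : (k (triv H) : ℂ) = 1 := by
      field_simp at h1
      exact h1.symm
    exact_mod_cast h2
  have hexp : ∑ x : K, θ x = (Nat.card K : ℂ) * ((∑ φ : IrrCharacter H, m φ * k φ : ℕ) : ℂ) := by
    have h1 : ∀ x : K, θ x = ∑ φ : IrrCharacter H, (m φ : ℂ) * (φ : H → ℂ) x := by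
      intro x
      have := congrFun hsum (x : H)
      simp only [Finset.sum_apply, Pi.smul_apply, smul_eq_mul] at this
      exact this
    simp_rw [h1]
    rw [Finset.sum_comm]
    simp_rw [← Finset.mul_sum, hk]
    push_cast
    rw [Finset.mul_sum]
    refine Finset.sum_congr rfl fun φ _ => ?_
    ring
  rw [hexp]
  have hpos : 0 < ∑ φ : IrrCharacter H, m φ * k φ :=
    lt_of_lt_of_le (by rw [hkt]; simpa using Nat.pos_of_ne_zero hmt)
      (Finset.single_le_sum (f := fun φ => m φ * k φ) (fun _ _ => Nat.zero_le _)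
        (Finset.mem_univ (triv H)))
  exact mul_ne_zero hK (by exact_mod_cast hpos.ne')

theorem card_subtype_eq_sum {α : Type*} [Fintype α] (q : α → Prop) [DecidablePred q] :
    (Nat.card {a : α // q a} : ℂ) = ∑ a : α, if q a then (1 : ℂ) else 0 := by
  rw [Nat.card_eq_fintype_card, Fintype.card_subtype, Finset.sum_boole]

/-- Mixed orbit-counting identity from the second orthogonality relation. -/
theorem sum_mul_sum_eq {G : Type*} [Group G] [Fintype G] (A B : Subgroup G) [Fintype A]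
    [Fintype B] :
    ∑ χ : IrrCharacter G, (∑ a : A, (χ : G → ℂ) a) * (∑ b : B, (χ : G → ℂ) b) =
      ∑ c : G, (Nat.card {a : A // c * (a : G) * c⁻¹ ∈ B} : ℂ) := by
  classical
  have hinv : ∀ χ : IrrCharacter G, ∑ b : B, (χ : G → ℂ) b = ∑ b : B, (χ : G → ℂ) ((b : G))⁻¹ := by
    intro χ
    rw [← Equiv.sum_comp (Equiv.inv B)]
    refine Finset.sum_congr rfl fun b _ => ?_
    simp
  simp_rw [hinv, Finset.sum_mul_sum]
  rw [Finset.sum_comm]
  have h2 : ∀ a : A, ∑ χ : IrrCharacter G, ∑ b : B, (χ : G → ℂ) a * (χ : G → ℂ) ((b : G))⁻¹ =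
      ∑ c : G, ∑ b : B, if c * (a : G) * c⁻¹ = (b : G) then (1 : ℂ) else 0 := by
    intro a
    rw [Finset.sum_comm]
    rw [Finset.sum_comm (γ := G)]
    refine Finset.sum_congr rfl fun b _ => ?_
    rw [Cfsg.Agent.Lib.Helper81_CharOrth2.second_orthogonality (a : G) (b : G)]
    exact card_subtype_eq_sum _
  simp_rw [h2]
  rw [Finset.sum_comm]
  refine Finset.sum_congr rfl fun c _ => ?_
  rw [card_subtype_eq_sum]
  refine Finset.sum_congr rfl fun a _ => ?_
  split_ifs with hmem
  · rw [Finset.sum_eq_single (⟨c * (a : G) * c⁻¹, hmem⟩ : B)]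
    · simp
    · intro b _ hb
      rw [if_neg]
      intro h
      apply hb
      exact Subtype.ext h.symm
    · intro h; exact absurd (Finset.mem_univ _) h
  · apply Finset.sum_eq_zero
    intro b _
    rw [if_neg]
    intro h
    apply hmem
    rw [h]; exact b.2

/-- If all irreducible character degrees of `G` are less than `p`, every `p`-subgroup of `G`
is abelian. -/
theorem comm_of_degrees_lt {G : Type*} [Group G] [Fintype G] (p : ℕ) (hp : p.Prime)
    (hb : ∀ χ : IrrCharacter G, charDegree (χ : G → ℂ) < p) (P : Subgroup G)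
    (hP : IsPGroup p P) : ∀ x ∈ P, ∀ y ∈ P, x * y = y * x := by
  classical
  haveI : Fact p.Prime := ⟨hp⟩
  letI : Fintype P := Fintype.ofFinite P
  intro x hx y hy
  have key : ∀ χ : IrrCharacter G,
      (χ : G → ℂ) (x * y * x⁻¹ * y⁻¹) = (χ : G → ℂ) 1 := by
    intro χ
    have hres : IsCharacter P (fun h : P => (χ : G → ℂ) h) :=
      isCharacter_restrict P (isCharacter_of_isIrrCharacter χ.2)
    obtain ⟨m, hm, hsum⟩ := exists_multiplicities hres
    have h1 := congrFun hsum 1
    simp only [Finset.sum_apply, Pi.smul_apply, smul_eq_mul] at h1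
    have h1' : (χ : G → ℂ) 1 = ∑ ψ : IrrCharacter P, (m ψ : ℂ) * (ψ : P → ℂ) 1 := h1
    have hdeg : charDegree (χ : G → ℂ) = ∑ ψ : IrrCharacter P, m ψ * charDegree (ψ : P → ℂ) := by
      have h2 : (charDegree (χ : G → ℂ) : ℂ) =
          ((∑ ψ : IrrCharacter P, m ψ * charDegree (ψ : P → ℂ) : ℕ) : ℂ) := by
        rw [← apply_one_eq_charDegree χ, h1']
        push_cast
        refine Finset.sum_congr rfl fun ψ _ => ?_
        rw [apply_one_eq_charDegree ψ]
      exact_mod_cast h2
    have hlin : ∀ ψ : IrrCharacter P, m ψ ≠ 0 → IsLin P (ψ : P → ℂ) := by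
      intro ψ hmψ
      have hle : charDegree (ψ : P → ℂ) ≤ charDegree (χ : G → ℂ) := by
        rw [hdeg]
        calc charDegree (ψ : P → ℂ) ≤ m ψ * charDegree (ψ : P → ℂ) :=
              Nat.le_mul_of_pos_left _ (Nat.pos_of_ne_zero hmψ)
          _ ≤ _ := Finset.single_le_sum (f := fun ψ : IrrCharacter P => m ψ * charDegree (ψ : P → ℂ))
              (fun _ _ => Nat.zero_le _) (Finset.mem_univ ψ)
      have hlt : charDegree (ψ : P → ℂ) < p := lt_of_le_of_lt hle (hb χ)
      have hd := charDegree_dvd_card ψ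
      obtain ⟨n, hn⟩ := IsPGroup.iff_card.mp hP
      rw [hn] at hd
      obtain ⟨j, _, hj⟩ := (Nat.dvd_prime_pow hp).mp hd
      have hψ1 : charDegree (ψ : P → ℂ) = 1 := by
        rcases Nat.eq_zero_or_pos j with hj0 | hj0
        · rw [hj, hj0, pow_zero]
        · exfalso
          have : p ≤ p ^ j := Nat.le_self_pow hj0.ne' p
          omega
      refine ⟨isCharacter_of_isIrrCharacter ψ.2, ?_⟩
      rw [apply_one_eq_charDegree ψ, hψ1]; simp
    have hx' := congrFun hsum (⟨x, hx⟩ * ⟨y, hy⟩ * (⟨x, hx⟩ : P)⁻¹ * (⟨y, hy⟩ : P)⁻¹)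
    simp only [Finset.sum_apply, Pi.smul_apply, smul_eq_mul] at hx'
    have hx'' : (χ : G → ℂ) (x * y * x⁻¹ * y⁻¹) =
        ∑ ψ : IrrCharacter P, (m ψ : ℂ) *
          (ψ : P → ℂ) (⟨x, hx⟩ * ⟨y, hy⟩ * (⟨x, hx⟩ : P)⁻¹ * (⟨y, hy⟩ : P)⁻¹) := hx'
    rw [hx'', h1']
    refine Finset.sum_congr rfl fun ψ _ => ?_
    by_cases h0 : m ψ = 0
    · rw [h0]; simp
    · have hL := hlin ψ h0
      rw [hL.map_mul, hL.map_mul, hL.map_mul, hL.map_inv, hL.map_inv, hL.2]
      have h1 := hL.ne_zero ⟨x, hx⟩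
      have h2 := hL.ne_zero ⟨y, hy⟩
      field_simp
  have hconj : IsConj (x * y * x⁻¹ * y⁻¹) 1 :=
    (Cfsg.Agent.Lib.Helper3_CharColumn.isConj_iff_forall_irr _ _).mpr key
  have h1 : x * y * x⁻¹ * y⁻¹ = 1 := isConj_one_right.mp hconj.symm
  calc x * y = (x * y * x⁻¹ * y⁻¹) * (y * x) := by group
    _ = y * x := by rw [h1, one_mul]

/-- Counting: for `c` in the normalizer of the Sylow subgroup `P`. -/
theorem card_conj_mem_of_mem {G : Type*} [Group G] [Finite G] (p : ℕ) [Fact p.Prime]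
    (P : Sylow p G) (c : G) (hc : c ∈ Subgroup.normalizer ((P : Subgroup G) : Set G)) :
    Nat.card {a : Subgroup.normalizer ((P : Subgroup G) : Set G) // c * (a : G) * c⁻¹ ∈ (P : Subgroup G)} =
      Nat.card (P : Subgroup G) := by
  refine Nat.card_congr ⟨fun a => ⟨(a.1 : G), ?_⟩, fun b => ⟨⟨(b : G), Subgroup.le_normalizer b.2⟩, ?_⟩,
    ?_, ?_⟩
  · exact ((Subgroup.mem_normalizer_iff.mp hc) _).mpr a.2
  · exact ((Subgroup.mem_normalizer_iff.mp hc) _).mp b.2
  · intro a; rfl
  · intro b; rfl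

/-- Counting: for `c` outside the normalizer of the Sylow subgroup `P`. -/
theorem card_conj_mem_of_not_mem {G : Type*} [Group G] [Finite G] (p : ℕ) [Fact p.Prime]
    (P : Sylow p G) (c : G) (hc : c ∉ Subgroup.normalizer ((P : Subgroup G) : Set G)) :
    Nat.card {a : Subgroup.normalizer ((P : Subgroup G) : Set G) // c * (a : G) * c⁻¹ ∈ (P : Subgroup G)} * p ≤
      Nat.card (P : Subgroup G) := by
  have hp : p.Prime := Fact.out
  set Q : Sylow p G := c⁻¹ • P with hQ
  have hmemQ : ∀ a : G, a ∈ (Q : Subgroup G) ↔ c * a * c⁻¹ ∈ (P : Subgroup G) := by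
    intro a
    rw [hQ, Sylow.coe_subgroup_smul, Subgroup.mem_pointwise_smul_iff_inv_smul_mem]
    simp [MulAut.smul_def]
  have hcard : Nat.card {a : Subgroup.normalizer ((P : Subgroup G) : Set G) // c * (a : G) * c⁻¹ ∈ (P : Subgroup G)} =
      Nat.card ((Q : Subgroup G) ⊓ Subgroup.normalizer ((P : Subgroup G) : Set G) : Subgroup G) := by
    refine Nat.card_congr ⟨fun a => ⟨(a.1 : G), ⟨(hmemQ _).mpr a.2, a.1.2⟩⟩,
      fun b => ⟨⟨(b : G), b.2.2⟩, (hmemQ _).mp b.2.1⟩, ?_, ?_⟩
    · intro a; rfl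
    · intro b; rfl
  have hinf : (Q : Subgroup G) ⊓ Subgroup.normalizer ((P : Subgroup G) : Set G) =
      (Q : Subgroup G) ⊓ (P : Subgroup G) := IsPGroup.inf_normalizer_sylow Q.isPGroup' P
  rw [hcard, hinf]
  have hle : (Q : Subgroup G) ⊓ (P : Subgroup G) ≤ (P : Subgroup G) := inf_le_right
  have hne : (Q : Subgroup G) ⊓ (P : Subgroup G) ≠ (P : Subgroup G) := by
    intro h
    have hPQ : (P : Subgroup G) ≤ (Q : Subgroup G) := by
      rw [← h]; exact inf_le_left
    have h1 : (Q : Subgroup G) = (P : Subgroup G) := P.is_maximal' Q.isPGroup' hPQ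
    have h2 : Q = P := Sylow.ext h1
    rw [hQ, Sylow.smul_eq_iff_mem_normalizer] at h2
    exact hc (by simpa using (Subgroup.inv_mem _ h2))
  obtain ⟨n, hn⟩ := IsPGroup.iff_card.mp P.isPGroup'
  have hdvd := Subgroup.card_dvd_of_le hle
  rw [hn] at hdvd ⊢
  obtain ⟨j, hjn, hj⟩ := (Nat.dvd_prime_pow hp).mp hdvd
  rw [hj]
  have hjn' : j ≠ n := by
    intro hjn'
    apply hne
    apply Subgroup.eq_of_le_of_card_ge hle
    rw [hj, hn, hjn']
  have hlt : j + 1 ≤ n := by omega
  calc p ^ j * p = p ^ (j + 1) := (pow_succ p j).symm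
    _ ≤ p ^ n := Nat.pow_le_pow_right hp.pos hlt

theorem charDegree_triv (H : Type*) [Group H] [Fintype H] :
    charDegree ((triv H : IrrCharacter H) : H → ℂ) = 1 := by
  have h := apply_one_eq_charDegree (triv H)
  have h1 : ((triv H : IrrCharacter H) : H → ℂ) 1 = 1 := rfl
  rw [h1] at h
  exact_mod_cast h.symm

/-- If all irreducible character degrees are less than `p`, a Sylow `p`-subgroup is normal. -/
theorem normal_of_degrees_lt {G : Type*} [Group G] [Fintype G] (p : ℕ) [Fact p.Prime]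
    (hb : ∀ χ : IrrCharacter G, charDegree (χ : G → ℂ) < p) (P : Sylow p G) :
    (P : Subgroup G).Normal := by
  classical
  by_contra hnot
  have hp : p.Prime := Fact.out
  obtain ⟨N, hNdef⟩ : ∃ N : Subgroup G, N = Subgroup.normalizer ((P : Subgroup G) : Set G) :=
    ⟨_, rfl⟩
  have hNtop : N ≠ ⊤ := fun h => hnot (Subgroup.normalizer_eq_top_iff.mp (hNdef ▸ h))
  have hPN : (P : Subgroup G) ≤ N := hNdef ▸ Subgroup.le_normalizer
  letI : Fintype N := Fintype.ofFinite N
  letI : Fintype (P : Subgroup G) := Fintype.ofFinite _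
  have hNpos : 0 < Nat.card N := Nat.card_pos
  have hPpos : 0 < Nat.card (P : Subgroup G) := Nat.card_pos
  have hNC : (Nat.card N : ℂ) ≠ 0 := by exact_mod_cast hNpos.ne'
  have hPC : (Nat.card (P : Subgroup G) : ℂ) ≠ 0 := by exact_mod_cast hPpos.ne'
  -- multiplicities
  have hm : ∀ χ : IrrCharacter G, ∃ m : ℕ,
      ∑ a : N, (χ : G → ℂ) a = (Nat.card N : ℂ) * m := fun χ =>
    sum_character_eq (isCharacter_restrict N (isCharacter_of_isIrrCharacter χ.2))
  choose m hm using hm
  have hk : ∀ χ : IrrCharacter G, ∃ k : ℕ,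
      ∑ b : (P : Subgroup G), (χ : G → ℂ) b = (Nat.card (P : Subgroup G) : ℂ) * k := fun χ =>
    sum_character_eq (isCharacter_restrict (P : Subgroup G) (isCharacter_of_isIrrCharacter χ.2))
  choose k hk using hk
  have hmono : ∀ χ : IrrCharacter G, m χ ≠ 0 → k χ ≠ 0 := by
    intro χ hmχ hkχ
    letI : Fintype ((P : Subgroup G).subgroupOf N) := Fintype.ofFinite _
    have h1 : ∑ x : N, (fun n : N => (χ : G → ℂ) n) x ≠ 0 := by
      rw [hm χ]
      exact mul_ne_zero hNC (by exact_mod_cast hmχ)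
    have h2 := sum_subgroup_ne_zero
      (isCharacter_restrict N (isCharacter_of_isIrrCharacter χ.2))
      ((P : Subgroup G).subgroupOf N) h1
    apply h2
    have h3 : ∑ x : (P : Subgroup G).subgroupOf N, (χ : G → ℂ) ((x : N) : G) =
        ∑ b : (P : Subgroup G), (χ : G → ℂ) b := by
      refine Fintype.sum_equiv (Subgroup.subgroupOfEquivOfLe hPN).toEquiv _ _ ?_
      intro x
      rfl
    rw [h3, hk χ, hkχ]
    simp
  -- trivial character
  have hmt : m (triv G) = 1 := by
    have h1 := hm (triv G)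
    simp only [triv, Finset.sum_const, Finset.card_univ, nsmul_eq_mul, mul_one] at h1
    rw [← Nat.card_eq_fintype_card] at h1
    have h2 : (m (triv G) : ℂ) = 1 := by
      field_simp at h1
      exact h1.symm
    exact_mod_cast h2
  have hkt : k (triv G) = 1 := by
    have h1 := hk (triv G)
    simp only [triv, Finset.sum_const, Finset.card_univ, nsmul_eq_mul, mul_one] at h1
    rw [← Nat.card_eq_fintype_card] at h1
    have h2 : (k (triv G) : ℂ) = 1 := by
      field_simp at h1
      exact h1.symm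
    exact_mod_cast h2
  -- identity 1
  have hI1 : (∑ χ : IrrCharacter G, charDegree (χ : G → ℂ) * m χ) * Nat.card N = Nat.card G := by
    letI : Fintype (⊥ : Subgroup G) := Fintype.ofFinite _
    have h1 := sum_mul_sum_eq N (⊥ : Subgroup G)
    have h2 : ∀ c : G,
        Nat.card {a : N // c * (a : G) * c⁻¹ ∈ (⊥ : Subgroup G)} = 1 := by
      intro c
      rw [Nat.card_eq_one_iff_unique]
      refine ⟨⟨fun a b => ?_⟩, ⟨⟨1, by simp⟩⟩⟩
      have ha := Subgroup.mem_bot.mp a.2
      have hb' := Subgroup.mem_bot.mp b.2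
      have ha1 : ((a : N) : G) = 1 := by
        calc ((a : N) : G) = c⁻¹ * (c * ((a : N) : G) * c⁻¹) * c := by group
          _ = 1 := by rw [ha]; group
      have hb1 : ((b : N) : G) = 1 := by
        calc ((b : N) : G) = c⁻¹ * (c * ((b : N) : G) * c⁻¹) * c := by group
          _ = 1 := by rw [hb']; group
      apply Subtype.ext
      apply Subtype.ext
      rw [ha1, hb1]
    have h3 : ∀ χ : IrrCharacter G, ∑ b : (⊥ : Subgroup G), (χ : G → ℂ) b =
        (charDegree (χ : G → ℂ) : ℂ) := by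
      intro χ
      rw [Fintype.sum_eq_single (1 : (⊥ : Subgroup G))]
      · rw [OneMemClass.coe_one, apply_one_eq_charDegree χ]
      · intro x hx
        exact absurd (Subsingleton.elim x 1) hx
    simp_rw [h2, h3, hm] at h1
    have h4 : ((∑ χ : IrrCharacter G, charDegree (χ : G → ℂ) * m χ) * Nat.card N : ℕ) =
        (Nat.card G : ℂ) := by
      push_cast
      rw [Finset.sum_mul]
      simp only [Nat.cast_one, Finset.sum_const, Finset.card_univ, nsmul_eq_mul, mul_one] at h1
      rw [Nat.card_eq_fintype_card (α := G), ← h1]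
      refine Finset.sum_congr rfl fun χ _ => ?_
      ring
    exact_mod_cast h4
  -- identity 2
  obtain ⟨T, hT⟩ : ∃ T : G → ℕ, ∀ c : G, T c =
      Nat.card {a : N // c * (a : G) * c⁻¹ ∈ (P : Subgroup G)} := ⟨_, fun _ => rfl⟩
  have hI2 : (∑ χ : IrrCharacter G, m χ * k χ) * (Nat.card N * Nat.card (P : Subgroup G)) =
      ∑ c : G, T c := by
    have h1 := sum_mul_sum_eq N (P : Subgroup G)
    simp_rw [hm, hk, ← hT] at h1
    have h4 : ((∑ χ : IrrCharacter G, m χ * k χ) * (Nat.card N * Nat.card (P : Subgroup G)) : ℕ) =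
        ((∑ c : G, T c : ℕ) : ℂ) := by
      push_cast
      rw [Finset.sum_mul, ← h1]
      refine Finset.sum_congr rfl fun χ _ => ?_
      ring
    exact_mod_cast h4
  have hTle : ∀ c : G, T c * p ≤
      if c ∈ N then Nat.card (P : Subgroup G) * p else Nat.card (P : Subgroup G) := by
    intro c
    subst hNdef
    split_ifs with hc
    · rw [hT c, card_conj_mem_of_mem p P c hc]
    · rw [hT c]; exact card_conj_mem_of_not_mem p P c hc
  have hsum_le : (∑ c : G, T c) * p ≤
      Nat.card N * (Nat.card (P : Subgroup G) * p) +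
        (Nat.card G - Nat.card N) * Nat.card (P : Subgroup G) := by
    rw [Finset.sum_mul]
    refine le_trans (Finset.sum_le_sum fun c _ => hTle c) ?_
    rw [Finset.sum_ite, Finset.sum_const, Finset.sum_const, smul_eq_mul, smul_eq_mul]
    have h1 : (Finset.univ.filter (fun c : G => c ∈ N)).card = Nat.card N := by
      rw [Nat.card_eq_fintype_card, Fintype.card_subtype]
    have h2 : (Finset.univ.filter (fun c : G => ¬ c ∈ N)).card = Nat.card G - Nat.card N := by
      have := Finset.card_filter_add_card_filter_not (s := (Finset.univ : Finset G))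
        (fun c : G => c ∈ N)
      rw [h1, Finset.card_univ, ← Nat.card_eq_fintype_card] at this
      omega
    rw [h1, h2]
  -- index
  obtain ⟨i, hi⟩ : ∃ i : ℕ, i = N.index := ⟨_, rfl⟩
  have hGi : Nat.card N * i = Nat.card G := hi ▸ Subgroup.card_mul_index N
  have hi2 : 2 ≤ i := by
    have h0 : i ≠ 0 := hi ▸ Subgroup.index_ne_zero_of_finite
    have h1 : i ≠ 1 := fun h => hNtop (Subgroup.index_eq_one.mp (hi ▸ h))
    omega
  obtain ⟨S1, hS1⟩ : ∃ S1 : ℕ, S1 = ∑ χ : IrrCharacter G, charDegree (χ : G → ℂ) * m χ :=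
    ⟨_, rfl⟩
  obtain ⟨S2, hS2⟩ : ∃ S2 : ℕ, S2 = ∑ χ : IrrCharacter G, m χ * k χ := ⟨_, rfl⟩
  rw [← hS1] at hI1
  rw [← hS2] at hI2
  have hS1i : S1 = i := by
    have : Nat.card N * S1 = Nat.card N * i := by rw [hGi, mul_comm, hI1]
    exact Nat.eq_of_mul_eq_mul_left hNpos this
  have hS2le : S2 * p + 1 ≤ p + i := by
    rw [← hI2, ← hGi] at hsum_le
    have h1 : Nat.card N * i - Nat.card N = Nat.card N * (i - 1) := by
      rw [Nat.mul_sub, mul_one]
    rw [h1] at hsum_le
    have h2 : S2 * p * (Nat.card N * Nat.card (P : Subgroup G)) ≤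
        (p + (i - 1)) * (Nat.card N * Nat.card (P : Subgroup G)) := by
      calc S2 * p * (Nat.card N * Nat.card (P : Subgroup G))
          = S2 * (Nat.card N * Nat.card (P : Subgroup G)) * p := by ring
        _ ≤ _ := hsum_le
        _ = (p + (i - 1)) * (Nat.card N * Nat.card (P : Subgroup G)) := by ring
    have h3 := Nat.le_of_mul_le_mul_right h2 (Nat.mul_pos hNpos hPpos)
    omega
  have hpt : ∀ χ : IrrCharacter G, charDegree (χ : G → ℂ) * m χ +
      (if χ = triv G then p - 2 else 0) ≤ (p - 1) * (m χ * k χ) := by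
    intro χ
    split_ifs with hχ
    · rw [hχ, charDegree_triv, hmt, hkt]
      have := hp.two_le
      omega
    · rw [add_zero]
      have h1 : charDegree (χ : G → ℂ) ≤ p - 1 := by have := hb χ; omega
      by_cases h0 : m χ = 0
      · rw [h0]; simp
      · have h2 : 1 ≤ k χ := Nat.pos_of_ne_zero (hmono χ h0)
        calc charDegree (χ : G → ℂ) * m χ ≤ (p - 1) * (m χ * 1) := by
              rw [mul_one]; exact Nat.mul_le_mul_right _ h1
          _ ≤ (p - 1) * (m χ * k χ) :=
              Nat.mul_le_mul_left _ (Nat.mul_le_mul_left _ h2)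
  have hsum : S1 + (p - 2) ≤ (p - 1) * S2 := by
    have h1 := Finset.sum_le_sum (s := (Finset.univ : Finset (IrrCharacter G)))
      (fun χ _ => hpt χ)
    rw [Finset.sum_add_distrib, Finset.sum_ite_eq' Finset.univ (triv G), if_pos (Finset.mem_univ _),
      ← Finset.mul_sum, ← hS1, ← hS2] at h1
    exact h1
  have hp2 := hp.two_le
  rw [hS1i] at hsum
  obtain ⟨r, hr⟩ : ∃ r : ℕ, p = r + 2 := ⟨p - 2, by omega⟩
  subst hr
  simp only [Nat.add_sub_cancel] at hsum
  have hr1 : r + 2 - 1 = r + 1 := by omega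
  rw [hr1] at hsum
  nlinarith [Nat.mul_le_mul_left (r + 1) hS2le, Nat.mul_le_mul_left (r + 2) hsum]


/-- Let p be a prime and G a finite group all of whose irreducible character degrees are less than p. Then G has a normal abelian Sylow p-subgroup. -/
theorem result {G : Type*} [Group G] [Finite G] (p : ℕ) (hp : p.Prime) (hb : ∀ χ : Cfsg.IrrCharacter G, Cfsg.charDegree (χ : G → ℂ) < p) : ∃ P : Subgroup G, P.Normal ∧ (∀ x ∈ P, ∀ y ∈ P, x * y = y * x) ∧ IsPGroup p P ∧ ¬ p ∣ P.index := by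
  classical
  letI : Fintype G := Fintype.ofFinite G
  haveI : Fact p.Prime := ⟨hp⟩
  obtain ⟨P⟩ : Nonempty (Sylow p G) := inferInstance
  exact ⟨(P : Subgroup G), normal_of_degrees_lt p hb P,
    comm_of_degrees_lt p hp hb (P : Subgroup G) P.isPGroup', P.isPGroup', P.not_dvd_index⟩

end Cfsg.Agent.S4464
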