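import Mathlib
import Cfsg.Agent.S0827
import Cfsg.Agent.Lib.Helper17_Sylow
import Cfsg.Agent.Lib.Helper13_Herm
import Cfsg.Agent.Lib.Helper5_GUOrder
import Cfsg.Agent.Lib.Helper5_SUOrder
import Cfsg.Agent.Lib.Helper5_SUCenter
import Cfsg.Statements.S1141

set_option autoImplicit false
set_option linter.unusedSectionVars false
open Cfsg

namespace Cfsg.Agent.S1141

/-! ## The parameter group `{(b, c) : c + σ c = b σ b}` with `(b,c)(b',c') = (b+b', c+c'+σ b b')` -/

section PSdef

/-- the unipotent parameter group (a Sylow 2-subgroup of `SU₃(q)`), for an involutive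
automorphism `σ` of a field of characteristic two -/
@[ext]
structure PS {F : Type*} [Field F] (σ : F →+* F) where
  /-- first parameter -/
  b : F
  /-- second parameter -/
  c : F
  /-- the defining relation -/
  h : c + σ c = b * σ b

variable {F : Type*} [Field F] [CharP F 2] {σ : F →+* F} [hσ : Fact (∀ x : F, σ (σ x) = x)]

namespace PS

instance : Mul (PS σ) := ⟨fun p p' =>
  ⟨p.b + p'.b, p.c + p'.c + σ p.b * p'.b, by
    have h := p.h
    have h' := p'.h
    have e := hσ.out p.b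
    simp only [map_add, map_mul, e]
    grind⟩⟩

instance : One (PS σ) := ⟨⟨0, 0, by simp⟩⟩

instance : Inv (PS σ) := ⟨fun p =>
  ⟨p.b, p.c + p.b * σ p.b, by
    have h := p.h
    have e := hσ.out p.b
    simp only [map_add, map_mul, e]
    grind⟩⟩

theorem mul_b (p p' : PS σ) : (p * p').b = p.b + p'.b := rfl
theorem mul_c (p p' : PS σ) : (p * p').c = p.c + p'.c + σ p.b * p'.b := rfl
theorem one_b : (1 : PS σ).b = 0 := rfl
theorem one_c : (1 : PS σ).c = 0 := rfl
theorem inv_b (p : PS σ) : (p⁻¹).b = p.b := rfl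
theorem inv_c (p : PS σ) : (p⁻¹).c = p.c + p.b * σ p.b := rfl

instance : Group (PS σ) := Group.ofLeftAxioms
  (by
    intro a b c
    apply PS.ext
    · simp only [mul_b]; ring
    · simp only [mul_c, mul_b, map_add]; grind)
  (by
    intro a
    apply PS.ext
    · simp only [mul_b, one_b, zero_add]
    · simp only [mul_c, one_b, one_c, map_zero]; ring)
  (by
    intro a
    apply PS.ext
    · simp only [mul_b, inv_b, one_b]; grind
    · simp only [mul_c, inv_b, inv_c, one_c]; grind)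

end PS

end PSdef

/-! ## The matrices -/

section matrices

open Matrix Cfsg.Agent.Lib.Helper5_GUOrder Cfsg.Agent.Lib.Helper5_SUOrder
  Cfsg.Agent.Lib.Helper5_SUCenter

variable {F : Type*} [Field F] [CharP F 2] {σ : F →+* F} [hσ : Fact (∀ x : F, σ (σ x) = x)]

/-- the unipotent matrix with parameters `(b, c)` and `a = σ b`, written in the orthonormal basis:
in the basis `e = (1,1,0)`, `w = (1,1,1)`, `f = (0,1,1)` it is `e ↦ e`, `w ↦ w + a e`,
`f ↦ f + b w + c e`. -/
def Mmat (a b c : F) : Matrix (Fin 3) (Fin 3) F :=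
  !![1 + (a + b + c), a + b + c, a;
     a + b + c, 1 + (a + b + c), a;
     b, b, 1]

theorem Mmat_mul (a b c a' b' c' : F) :
    Mmat a b c * Mmat a' b' c' = Mmat (a + a') (b + b') (c + c' + a * b') := by
  ext i j
  fin_cases i <;> fin_cases j <;>
    simp [Mmat, Matrix.mul_apply, Fin.sum_univ_three] <;> grind

theorem Mmat_det (a b c : F) : (Mmat a b c).det = 1 := by
  rw [Matrix.det_fin_three]
  simp [Mmat]
  grind

theorem Mmat_isU (b c : F) (h : c + σ c = b * σ b) :
    (Mmat (σ b) b c)ᵀ * (Mmat (σ b) b c).map σ = 1 := by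
  have e := hσ.out b
  ext i j
  fin_cases i <;> fin_cases j <;>
    simp [Mmat, Matrix.mul_apply, Fin.sum_univ_three, e] <;> grind

end matrices

/-! ## Structure of the parameter group -/

section structure_

variable {F : Type*} [Field F] [CharP F 2] {σ : F →+* F} [hσ : Fact (∀ x : F, σ (σ x) = x)]

theorem fix_of_add_eq_zero {x : F} (h : x + σ x = 0) : σ x = x := by grind

theorem eq_of_mul_self_eq {x y : F} (h : x * x = y * y) : x = y := by
  have h1 : (x + y) ^ 2 = 0 := by grind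
  have h2 : x + y = 0 := pow_eq_zero_iff (by norm_num) |>.mp h1
  grind

namespace PS

/-- the fixed field of `σ` -/
abbrev K (σ : F →+* F) : Type _ := {k : F // σ k = k}

/-- the element with first parameter `b`, second parameter in the coset `k + b σ b τ` -/
def mkOf (τ : F) (hτ : τ + σ τ = 1) (b k : F) (hk : σ k = k) : PS σ :=
  ⟨b, k + b * σ b * τ, by
    have e := hσ.out b
    simp only [map_add, map_mul, e, hk]
    grind⟩

theorem mul_self_b (p : PS σ) : (p * p).b = 0 := by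
  rw [mul_b]; grind

theorem mul_self_eq_one_of_b (p : PS σ) (hp : p.b = 0) : p * p = 1 := by
  apply PS.ext
  · rw [mul_b, hp, one_b, add_zero]
  · rw [mul_c, hp, one_c]; grind

theorem b_eq_zero_of_mul_self (p : PS σ) (hp : p * p = 1) : p.b = 0 := by
  have h := congrArg PS.c hp
  rw [mul_c, one_c] at h
  have h5 : σ p.b * p.b = 0 := by grind
  rcases mul_eq_zero.mp h5 with h6 | h6
  · exact (map_eq_zero σ).mp h6
  · exact h6

theorem pow_four (p : PS σ) : p ^ (2 ^ 2) = 1 := by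
  have : p ^ (2 ^ 2) = (p * p) * (p * p) := by
    rw [show (2 : ℕ) ^ 2 = 4 by norm_num, pow_succ, pow_succ, pow_succ, pow_one]
    simp only [mul_assoc]
  rw [this]
  exact mul_self_eq_one_of_b _ (mul_self_b p)

theorem isPGroup : IsPGroup 2 (PS σ) := fun p => ⟨2, pow_four p⟩

theorem mem_center_iff (τ : F) (hτ : τ + σ τ = 1) (t : F) (ht : σ t ≠ t) (p : PS σ) :
    p ∈ Subgroup.center (PS σ) ↔ p.b = 0 := by
  rw [Subgroup.mem_center_iff]
  constructor
  · intro h
    have h1 := congrArg PS.c (h (mkOf τ hτ (p.b * t) 0 (by simp)))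
    rw [mul_c, mul_c] at h1
    have hb : (mkOf τ hτ (p.b * t) 0 (by simp)).b = p.b * t := rfl
    rw [hb, map_mul] at h1
    have h2 : (p.b * σ p.b) * (σ t - t) = 0 := by grind
    rcases mul_eq_zero.mp h2 with h3 | h3
    · rcases mul_eq_zero.mp h3 with h4 | h4
      · exact h4
      · exact (map_eq_zero σ).mp h4
    · exact absurd (sub_eq_zero.mp h3) ht
  · intro hp g
    apply PS.ext
    · rw [mul_b, mul_b, add_comm]
    · rw [mul_c, mul_c, hp, map_zero]; ring

theorem exists_not_commute (τ : F) (hτ : τ + σ τ = 1) (t : F) (ht : σ t ≠ t) :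
    ∃ x y : PS σ, x * y ≠ y * x := by
  refine ⟨mkOf τ hτ 1 0 (by simp), mkOf τ hτ t 0 (by simp), fun h => ht ?_⟩
  have h1 := congrArg PS.c h
  rw [mul_c, mul_c] at h1
  have hb1 : (mkOf τ hτ 1 0 (by simp)).b = 1 := rfl
  have hb2 : (mkOf τ hτ t 0 (by simp)).b = t := rfl
  rw [hb1, hb2, map_one] at h1
  grind

/-- `PS σ` is in bijection with `F × K` -/
def equivProd (τ : F) (hτ : τ + σ τ = 1) : PS σ ≃ F × K σ where
  toFun p := (p.b, ⟨p.c + p.b * σ p.b * τ, by
    have h := p.h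
    have e := hσ.out p.b
    simp only [map_add, map_mul, e]
    grind⟩)
  invFun x := mkOf τ hτ x.1 x.2.1 x.2.2
  left_inv p := by
    apply PS.ext
    · rfl
    · show (p.c + p.b * σ p.b * τ) + p.b * σ p.b * τ = p.c
      grind
  right_inv x := by
    apply Prod.ext
    · rfl
    · apply Subtype.ext
      show (x.2.1 + x.1 * σ x.1 * τ) + x.1 * σ x.1 * τ = x.2.1
      grind

/-- the central elements are in bijection with `K` -/
def centerEquiv : {p : PS σ // p.b = 0} ≃ K σ where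
  toFun p := ⟨p.1.c, by
    have h := p.1.h
    rw [p.2] at h
    grind⟩
  invFun k := ⟨⟨0, k.1, by have := k.2; grind⟩, rfl⟩
  left_inv p := by
    apply Subtype.ext
    apply PS.ext
    · exact p.2.symm
    · rfl
  right_inv k := rfl

/-- involutions are the non-trivial elements with `b = 0` -/
theorem involution_iff (p : PS σ) : (p ≠ 1 ∧ p * p = 1) ↔ (p.b = 0 ∧ p.c ≠ 0) := by
  constructor
  · rintro ⟨h1, h2⟩
    have hb := b_eq_zero_of_mul_self p h2
    refine ⟨hb, fun hc => h1 (PS.ext hb hc)⟩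
  · rintro ⟨hb, hc⟩
    refine ⟨fun h => hc ?_, mul_self_eq_one_of_b p hb⟩
    rw [h]; rfl

theorem fix_c_of_b (p : PS σ) (hb : p.b = 0) : σ p.c = p.c := by
  have h := p.h
  rw [hb] at h
  grind

end PS

end structure_

/-! ## The cyclic group of automorphisms -/

section aut

variable {F : Type*} [Field F] [CharP F 2] {σ : F →+* F} [hσ : Fact (∀ x : F, σ (σ x) = x)]

/-- the units fixed by `σ` -/
def Kx (σ : F →+* F) : Subgroup Fˣ where
  carrier := {u | σ (u : F) = u}
  mul_mem' := by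
    intro a b ha hb
    have ha' : σ (a : F) = a := ha
    have hb' : σ (b : F) = b := hb
    show σ ((a * b : Fˣ) : F) = ((a * b : Fˣ) : F)
    rw [Units.val_mul, map_mul, ha', hb']
  one_mem' := by
    show σ ((1 : Fˣ) : F) = ((1 : Fˣ) : F)
    simp
  inv_mem' := by
    intro a ha
    have ha' : σ (a : F) = a := ha
    show σ ((a⁻¹ : Fˣ) : F) = ((a⁻¹ : Fˣ) : F)
    rw [Units.val_inv_eq_inv_val, map_inv₀, ha']

theorem Kx_fix (u : Kx σ) : σ ((u : Fˣ) : F) = ((u : Fˣ) : F) := u.2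

namespace PS

/-- scaling `(b, c) ↦ (l b, l² c)` -/
def scale (l : F) (hl : σ l = l) (p : PS σ) : PS σ :=
  ⟨l * p.b, l * l * p.c, by
    have h := p.h
    simp only [map_mul, hl]
    grind⟩

theorem scale_b (l : F) (hl : σ l = l) (p : PS σ) : (scale l hl p).b = l * p.b := rfl
theorem scale_c (l : F) (hl : σ l = l) (p : PS σ) : (scale l hl p).c = l * l * p.c := rfl

theorem scale_mul (l : F) (hl : σ l = l) (p p' : PS σ) :
    scale l hl (p * p') = scale l hl p * scale l hl p' := by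
  apply PS.ext
  · simp only [scale_b, mul_b]; ring
  · simp only [scale_c, scale_b, mul_c, map_mul, hl]; ring

theorem scale_scale (l m : F) (hl : σ l = l) (hm : σ m = m) (hlm : σ (l * m) = l * m) (p : PS σ) :
    scale l hl (scale m hm p) = scale (l * m) hlm p := by
  apply PS.ext
  · simp only [scale_b]; ring
  · simp only [scale_c]; ring

theorem scale_one (h1 : σ (1 : F) = 1) (p : PS σ) : scale 1 h1 p = p := by
  apply PS.ext
  · simp only [scale_b]; ring
  · simp only [scale_c]; ring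

theorem scale_scale_of_mul_eq_one (l m : F) (hl : σ l = l) (hm : σ m = m) (hlm : l * m = 1)
    (p : PS σ) : scale l hl (scale m hm p) = p := by
  rw [scale_scale l m hl hm (by rw [hlm, map_one])]
  apply PS.ext
  · simp only [scale_b, hlm, one_mul]
  · simp only [scale_c, hlm, one_mul]

/-- the automorphism attached to a fixed unit -/
def phi (u : Kx σ) : PS σ ≃* PS σ where
  toFun := scale ((u : Fˣ) : F) (Kx_fix u)
  invFun := scale ((u⁻¹ : Kx σ) : Fˣ) (Kx_fix u⁻¹)
  left_inv p := by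
    apply scale_scale_of_mul_eq_one
    rw [← Units.val_mul, ← Subgroup.coe_mul, inv_mul_cancel, Subgroup.coe_one, Units.val_one]
  right_inv p := by
    apply scale_scale_of_mul_eq_one
    rw [← Units.val_mul, ← Subgroup.coe_mul, mul_inv_cancel, Subgroup.coe_one, Units.val_one]
  map_mul' := scale_mul _ _

theorem phi_apply (u : Kx σ) (p : PS σ) : phi u p = scale ((u : Fˣ) : F) (Kx_fix u) p := rfl

/-- the homomorphism from the fixed units to the automorphism group -/
def Phi : Kx σ →* MulAut (PS σ) where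
  toFun := phi
  map_one' := by
    apply MulEquiv.ext
    intro p
    show scale _ (Kx_fix 1) p = p
    apply PS.ext
    · simp [scale_b]
    · simp [scale_c]
  map_mul' u v := by
    apply MulEquiv.ext
    intro p
    show scale _ (Kx_fix (u * v)) p = scale _ (Kx_fix u) (scale _ (Kx_fix v) p)
    apply PS.ext
    · simp only [scale_b, Subgroup.coe_mul, Units.val_mul]; ring
    · simp only [scale_c, Subgroup.coe_mul, Units.val_mul]; ring

theorem Phi_apply (u : Kx σ) (p : PS σ) : Phi u p = scale ((u : Fˣ) : F) (Kx_fix u) p := rfl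

theorem regular [Finite F] (x y : PS σ) (hx1 : x ≠ 1) (hx2 : x * x = 1) (hy1 : y ≠ 1)
    (hy2 : y * y = 1) :
    ∃! k : (Phi (σ := σ)).range, (k : MulAut (PS σ)) x = y := by
  obtain ⟨hxb, hxc⟩ := (involution_iff x).mp ⟨hx1, hx2⟩
  obtain ⟨hyb, hyc⟩ := (involution_iff y).mp ⟨hy1, hy2⟩
  have hxσ := fix_c_of_b x hxb
  have hyσ := fix_c_of_b y hyb
  obtain ⟨μ, hμ⟩ := isSquare_of_charTwo' (y.c / x.c)
  have hμ0 : μ ≠ 0 := by
    rintro rfl
    rw [mul_zero] at hμ
    rcases div_eq_zero_iff.mp hμ with h | h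
    · exact hyc h
    · exact hxc h
  have hμσ : σ μ = μ := by
    apply eq_of_mul_self_eq
    rw [← map_mul, ← hμ, map_div₀, hxσ, hyσ]
  let u : Kx σ := ⟨Units.mk0 μ hμ0, hμσ⟩
  refine ⟨⟨Phi u, u, rfl⟩, ?_, ?_⟩
  · show scale μ hμσ x = y
    apply PS.ext
    · rw [scale_b, hxb, hyb, mul_zero]
    · rw [scale_c, ← hμ, div_mul_cancel₀ _ hxc]
  · rintro ⟨k, v, rfl⟩ hk
    have hk' : Phi v x = y := hk
    apply Subtype.ext
    show Phi v = Phi u
    congr 1
    apply Subtype.ext
    apply Units.ext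
    apply eq_of_mul_self_eq
    show ((v : Fˣ) : F) * ((v : Fˣ) : F) = μ * μ
    have h1 := congrArg PS.c hk'
    rw [Phi_apply, scale_c] at h1
    rw [← hμ, ← h1, mul_div_cancel_right₀ _ hxc]

theorem isSuzuki [Finite F] (τ : F) (hτ : τ + σ τ = 1) (t : F) (ht : σ t ≠ t) (k : F)
    (hk : σ k = k) (hk0 : k ≠ 0) (hk1 : k ≠ 1) : Cfsg.IsSuzukiTwoGroup (PS σ) := by
  have : Finite (PS σ) := Finite.of_equiv _ (equivProd τ hτ).symm
  refine ⟨this, isPGroup, exists_not_commute τ hτ t ht, ?_, ?_⟩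
  · refine ⟨⟨0, 1, by simp; grind⟩, ⟨0, k, by simp [hk]; grind⟩, ?_, ?_, ?_, ?_, ?_⟩
    · intro h
      exact hk1 (congrArg PS.c h).symm
    · intro h
      exact one_ne_zero (congrArg PS.c h)
    · exact mul_self_eq_one_of_b _ rfl
    · intro h
      exact hk0 (congrArg PS.c h)
    · exact mul_self_eq_one_of_b _ rfl
  · refine ⟨(Phi (σ := σ)).range, ?_, regular⟩
    exact isCyclic_of_surjective (Phi (σ := σ)).rangeRestrict (Phi (σ := σ)).rangeRestrict_surjective

end PS

end aut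

/-! ## Counting the fixed field, and transfer along isomorphisms -/

section count

variable {F : Type*} [Field F] [CharP F 2] {σ : F →+* F} [hσ : Fact (∀ x : F, σ (σ x) = x)]

theorem card_K_ge [Fintype F] {q : ℕ} (hF : Fintype.card F = q ^ 2) : q ≤ Nat.card (PS.K σ) := by
  let T : F →+ F := AddMonoidHom.id F + (σ : F →+ F)
  have hT : ∀ x, T x = x + σ x := fun x => rfl
  have hker : ∀ x, x ∈ T.ker ↔ σ x = x := by
    intro x
    rw [AddMonoidHom.mem_ker, hT]
    constructor
    · exact fix_of_add_eq_zero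
    · intro h; rw [h]; exact CharTwo.add_self_eq_zero x
  have hrange : ∀ y ∈ T.range, σ y = y := by
    rintro y ⟨x, rfl⟩
    rw [hT, map_add, hσ.out x, add_comm]
  have h1 : Nat.card T.ker * Nat.card T.range = Nat.card F := by
    rw [← AddSubgroup.index_ker, AddSubgroup.card_mul_index]
  have h2 : Nat.card T.ker = Nat.card (PS.K σ) := Nat.card_congr (Equiv.subtypeEquivRight hker)
  have h3 : Nat.card T.range ≤ Nat.card (PS.K σ) :=
    Nat.card_le_card_of_injective (fun y => (⟨y.1, hrange y.1 y.2⟩ : PS.K σ)) (by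
      intro y y' h
      have h' : y.1 = y'.1 := congrArg (fun k : PS.K σ => k.1) h
      exact Subtype.ext h')
  rw [Nat.card_eq_fintype_card (α := F), hF, h2] at h1
  by_contra hlt
  rw [not_le] at hlt
  have : Nat.card (PS.K σ) * Nat.card T.range < q * q := by
    calc Nat.card (PS.K σ) * Nat.card T.range ≤ Nat.card (PS.K σ) * Nat.card (PS.K σ) :=
          Nat.mul_le_mul_left _ h3
      _ < q * q := Nat.mul_self_lt_mul_self hlt
  rw [h1] at this
  nlinarith

theorem isSuzukiTwoGroup_of_mulEquiv {P Q : Type*} [Group P] [Group Q] (e : Q ≃* P)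
    (h : Cfsg.IsSuzukiTwoGroup P) : Cfsg.IsSuzukiTwoGroup Q := by
  obtain ⟨hfin, hp, ⟨x, y, hxy⟩, ⟨a, b, hab, ha1, ha2, hb1, hb2⟩, K, hK, hreg⟩ := h
  refine ⟨Finite.of_equiv P e.symm.toEquiv, hp.of_equiv e.symm, ⟨e.symm x, e.symm y, ?_⟩,
    ⟨e.symm a, e.symm b, ?_, ?_, ?_, ?_, ?_⟩,
    K.map (MulAut.congr e.symm).toMonoidHom, ?_, ?_⟩
  · intro h
    apply hxy
    have := congrArg e h
    simpa using this
  · exact fun h => hab (e.symm.injective h)
  · exact fun h => ha1 (by simpa using congrArg e h)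
  · rw [← map_mul, ha2, map_one]
  · exact fun h => hb1 (by simpa using congrArg e h)
  · rw [← map_mul, hb2, map_one]
  · exact isCyclic_of_surjective ((MulAut.congr e.symm).subgroupMap K)
      ((MulAut.congr e.symm).subgroupMap K).surjective
  · intro x y hx1 hx2 hy1 hy2
    have hx1' : e x ≠ 1 := fun h => hx1 (by simpa using congrArg e.symm h)
    have hy1' : e y ≠ 1 := fun h => hy1 (by simpa using congrArg e.symm h)
    have hx2' : e x * e x = 1 := by rw [← map_mul, hx2, map_one]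
    have hy2' : e y * e y = 1 := by rw [← map_mul, hy2, map_one]
    obtain ⟨k, hk, huniq⟩ := hreg (e x) (e y) hx1' hx2' hy1' hy2'
    refine ⟨⟨MulAut.congr e.symm k, Subgroup.mem_map_of_mem _ k.2⟩, ?_, ?_⟩
    · show e.symm ((k : MulAut P) (e x)) = y
      rw [hk]; simp
    · rintro ⟨k', k0, hk0, rfl⟩ hk'
      have h1 : e.symm (k0 (e x)) = y := hk'
      have h2 : k0 (e x) = e y := by rw [← h1]; simp
      have h3 := huniq ⟨k0, hk0⟩ h2
      subst h3
      rfl


end count

/-! ## The embedding into `PSU₃(q)` -/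

section SU

open Matrix Cfsg.Agent.Lib.Helper5_GUOrder Cfsg.Agent.Lib.Helper5_SUOrder
  Cfsg.Agent.Lib.Helper5_SUCenter Cfsg.Agent.Lib.Helper13_Herm

variable {F : Type*} [Field F] [Fintype F] {n : ℕ}

theorem two_eq_zero (hn : 1 ≤ n) (hF : Fintype.card F = (2 ^ n) ^ 2) : (2 : F) = 0 := by
  have h := Nat.cast_card_eq_zero F
  rw [hF] at h
  push_cast at h
  have h1 : (2 : F) ^ n = 0 := pow_eq_zero_iff (by norm_num) |>.mp h
  exact pow_eq_zero_iff (by omega) |>.mp h1

theorem charP_two (hn : 1 ≤ n) (hF : Fintype.card F = (2 ^ n) ^ 2) : CharP F 2 :=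
  CharTwo.of_one_ne_zero_of_two_eq_zero one_ne_zero (two_eq_zero hn hF)

theorem powQ_powQ (hF : Fintype.card F = (2 ^ n) ^ 2) (x : F) : powQ hF (powQ hF x) = x :=
  pow_q_pow_q hF x

theorem powQ_apply (hF : Fintype.card F = (2 ^ n) ^ 2) (x : F) : powQ hF x = x ^ (2 ^ n) := rfl

variable [CharP F 2] (hF : Fintype.card F = (2 ^ n) ^ 2)
  [hσ : Fact (∀ x : F, powQ hF (powQ hF x) = x)]

/-- the element of `SU₃(q)` with parameters `p` -/
def mSU (p : PS (powQ hF)) : Cfsg.SU 3 F (2 ^ n) :=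
  ⟨⟨Mmat (powQ hF p.b) p.b p.c, Mmat_det _ _ _⟩,
    (Cfsg.Agent.Lib.Helper5_SUOrder.mem_SU_iff _).mpr
      (Cfsg.Agent.S0827.isU_of_transpose_mul_map hF _ (Mmat_isU (σ := powQ hF) _ _ p.h))⟩

theorem mSU_val (p : PS (powQ hF)) :
    ((mSU hF p).1 : Matrix (Fin 3) (Fin 3) F) = Mmat (powQ hF p.b) p.b p.c := rfl

/-- the homomorphism `PS →* SU₃(q)` -/
def mHom : PS (powQ hF) →* Cfsg.SU 3 F (2 ^ n) :=
  MonoidHom.mk' (mSU hF) (by
    intro p p'
    apply Subtype.ext
    apply Subtype.ext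
    show Mmat _ _ _ = Mmat _ _ _ * Mmat _ _ _
    rw [Mmat_mul, PS.mul_b, PS.mul_c, map_add])

/-- the homomorphism `PS →* PSU₃(q)` -/
def muHom : PS (powQ hF) →* Cfsg.PSU 3 F (2 ^ n) :=
  (QuotientGroup.mk' (Subgroup.center (Cfsg.SU 3 F (2 ^ n)))).comp (mHom hF)

theorem muHom_injective : Function.Injective (muHom (F := F) hF) := by
  rw [injective_iff_map_eq_one]
  intro p hp
  have h1 : mHom hF p ∈ Subgroup.center (Cfsg.SU 3 F (2 ^ n)) :=
    (QuotientGroup.eq_one_iff _).mp hp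
  have hb : p.b = 0 := by
    have := center_offdiag hF _ h1 2 0 (by decide)
    simpa [mHom, mSU, Mmat] using this
  have hc : p.c = 0 := by
    have := center_offdiag hF _ h1 0 1 (by decide)
    simpa [mHom, mSU, Mmat, hb] using this
  exact PS.ext hb hc

end SU

/-! ## The order of `PSU₃(2ⁿ)` -/

section order

open Cfsg.Agent.Lib.Helper5_SUCenter

theorem card_PSU_two_part {F : Type*} [Field F] [Fintype F] {n : ℕ} (hn : 1 ≤ n)
    (hF : Fintype.card F = (2 ^ n) ^ 2) :
    ∃ m, Nat.card (Cfsg.PSU 3 F (2 ^ n)) = 2 ^ (3 * n) * m ∧ ¬ 2 ∣ m := by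
  have hcard := card_PSU hF 3 (by norm_num)
  generalize hq : 2 ^ n = q at hcard ⊢
  have hprod : ∏ i ∈ Finset.range 3, (if Even i then q ^ (i + 1) + 1 else q ^ (i + 1) - 1)
      = (q + 1) * (q ^ 2 - 1) * (q ^ 3 + 1) := by
    simp [Finset.prod_range_succ]
  rw [hprod, show 3 * (3 - 1) / 2 = 3 by norm_num] at hcard
  have hq3 : q ^ 3 = 2 ^ (3 * n) := by rw [← hq, ← pow_mul, mul_comm]
  have hq2 : 2 ∣ q := by rw [← hq]; exact dvd_pow_self 2 (by omega)
  have hd : Nat.gcd 3 (q + 1) ∣ 3 := Nat.gcd_dvd_left _ _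
  have hodd1 : ¬ 2 ∣ (q + 1) := by omega
  have hodd2 : ¬ 2 ∣ (q ^ 2 - 1) := by
    have h1 : 2 ∣ q ^ 2 := dvd_pow hq2 (by norm_num)
    have h2 : 1 ≤ q ^ 2 := Nat.one_le_pow _ _ (by rw [← hq]; positivity)
    omega
  have hodd3 : ¬ 2 ∣ (q ^ 3 + 1) := by
    have h1 : 2 ∣ q ^ 3 := dvd_pow hq2 (by norm_num)
    omega
  have hoddd : ¬ 2 ∣ Nat.gcd 3 (q + 1) := fun h => by
    have := dvd_trans h hd
    norm_num at this
  have hcop : Nat.Coprime (2 ^ (3 * n)) (Nat.gcd 3 (q + 1) * (q + 1)) := by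
    apply Nat.Coprime.pow_left
    rw [Nat.Prime.coprime_iff_not_dvd Nat.prime_two]
    intro h
    rcases (Nat.Prime.dvd_mul Nat.prime_two).mp h with h | h
    exacts [hoddd h, hodd1 h]
  have hdvd : 2 ^ (3 * n) ∣ Nat.card (Cfsg.PSU 3 F q) := by
    apply hcop.dvd_of_dvd_mul_left
    rw [← hq3, mul_assoc, hcard]
    exact dvd_mul_right _ _
  obtain ⟨m, hm⟩ := hdvd
  refine ⟨m, hm, fun h2 => ?_⟩
  rw [hm, ← hq3] at hcard
  have hq3pos : 0 < q ^ 3 := by rw [← hq]; positivity
  have hq1pos : 0 < q + 1 := by positivity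
  have h3 : Nat.gcd 3 (q + 1) * m = (q ^ 2 - 1) * (q ^ 3 + 1) := by
    apply Nat.eq_of_mul_eq_mul_left (Nat.mul_pos hq3pos hq1pos)
    calc q ^ 3 * (q + 1) * (Nat.gcd 3 (q + 1) * m)
        = Nat.gcd 3 (q + 1) * ((q + 1) * (q ^ 3 * m)) := by ring
      _ = q ^ 3 * (q + 1) * ((q ^ 2 - 1) * (q ^ 3 + 1)) := by rw [hcard]; ring
  have : 2 ∣ (q ^ 2 - 1) * (q ^ 3 + 1) := by rw [← h3]; exact dvd_mul_of_dvd_right h2 _
  rcases (Nat.Prime.dvd_mul Nat.prime_two).mp this with h | h
  exacts [hodd2 h, hodd3 h]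

end order

open Cfsg.Agent.Lib.Helper5_SUOrder Cfsg.Agent.Lib.Helper5_SUCenter in
/-- Let `q = 2^n ≥ 4` and `|F| = q²`. A Sylow 2-subgroup `S` of `PSU₃(q)` has order `q³`, its centre has order `q`, and `S` is a Suzuki 2-group. -/
theorem result {F : Type*} [Field F] [Fintype F] {n : ℕ} (hn : 2 ≤ n)
    (hF : Fintype.card F = (2 ^ n) ^ 2) (S : Sylow 2 (Cfsg.PSU 3 F (2 ^ n))) :
    Nat.card S = (2 ^ n) ^ 3 ∧ Nat.card (Subgroup.center ↥(S : Subgroup (Cfsg.PSU 3 F (2 ^ n)))) = 2 ^ n ∧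
      Cfsg.IsSuzukiTwoGroup ↥(S : Subgroup (Cfsg.PSU 3 F (2 ^ n))) := by
  classical
  have := charP_two (by omega) hF
  have hσ : Fact (∀ x : F, powQ hF (powQ hF x) = x) := ⟨powQ_powQ hF⟩
  have : Fact (Nat.Prime 2) := ⟨Nat.prime_two⟩
  -- an element moved by `σ` and an element of trace one
  obtain ⟨t, ht⟩ := exists_pow_q_ne hF
  have ht' : powQ hF t ≠ t := ht
  have hu : t + powQ hF t ≠ 0 := fun h => ht' (fix_of_add_eq_zero h)
  have hτ : (t / (t + powQ hF t)) + powQ hF (t / (t + powQ hF t)) = 1 := by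
    rw [map_div₀, map_add, hσ.out t, add_comm (powQ hF t) t, ← add_div, div_self hu]
  generalize t / (t + powQ hF t) = τ at hτ
  -- the order of the group
  obtain ⟨m, hm, hm2⟩ := card_PSU_two_part (by omega) hF
  have hq3 : (2 ^ n) ^ 3 = 2 ^ (3 * n) := by rw [← pow_mul, mul_comm]
  have : Finite (Cfsg.PSU 3 F (2 ^ n)) := Nat.finite_of_card_ne_zero (by
    rw [hm]
    intro h
    rcases mul_eq_zero.mp h with h | h
    · exact absurd h (by positivity)
    · exact hm2 (h ▸ dvd_zero 2))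
  have hScard : ∀ Q : Sylow 2 (Cfsg.PSU 3 F (2 ^ n)),
      Nat.card (Q : Subgroup (Cfsg.PSU 3 F (2 ^ n))) = (2 ^ n) ^ 3 := by
    intro Q
    rw [Cfsg.Agent.Lib.Helper17_Sylow.card_sylow_eq_pow hm hm2 Q, hq3]
  -- the order of the parameter group
  have hKge : 2 ^ n ≤ Nat.card (PS.K (powQ hF)) := card_K_ge hF
  have hPcard : Nat.card (PS (powQ hF)) = (2 ^ n) ^ 2 * Nat.card (PS.K (powQ hF)) := by
    rw [Nat.card_congr (PS.equivProd τ hτ), Nat.card_prod, Nat.card_eq_fintype_card (α := F), hF]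
  have hPge : (2 ^ n) ^ 3 ≤ Nat.card (PS (powQ hF)) := by
    rw [hPcard, pow_succ _ 2]
    exact Nat.mul_le_mul_left _ hKge
  -- the image of the parameter group is a Sylow 2-subgroup
  have hμ := muHom_injective (F := F) hF
  have hT : IsPGroup 2 (muHom (F := F) hF).range :=
    PS.isPGroup.of_surjective (muHom hF).rangeRestrict (muHom hF).rangeRestrict_surjective
  obtain ⟨Q, hQ⟩ := hT.exists_le_sylow
  have hTQ : (muHom (F := F) hF).range = (Q : Subgroup (Cfsg.PSU 3 F (2 ^ n))) := by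
    apply Subgroup.eq_of_le_of_card_ge hQ
    rw [hScard Q, Nat.card_congr (MonoidHom.ofInjective hμ).symm.toEquiv]
    exact hPge
  let e : (S : Subgroup (Cfsg.PSU 3 F (2 ^ n))) ≃* PS (powQ hF) :=
    (Sylow.equiv S Q).trans ((MulEquiv.subgroupCongr hTQ.symm).trans
      (MonoidHom.ofInjective hμ).symm)
  -- the order of the fixed field
  have hK : Nat.card (PS.K (powQ hF)) = 2 ^ n := by
    have h1 : Nat.card (PS (powQ hF)) = (2 ^ n) ^ 3 := by
      rw [← Nat.card_congr e.toEquiv, hScard S]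
    rw [hPcard, pow_succ _ 2] at h1
    exact Nat.eq_of_mul_eq_mul_left (by positivity) h1
  -- a fixed element other than `0`, `1`
  obtain ⟨k, hk, hk0, hk1⟩ : ∃ k : F, powQ hF k = k ∧ k ≠ 0 ∧ k ≠ 1 := by
    by_contra hcon
    push Not at hcon
    have hle : Nat.card (PS.K (powQ hF)) ≤ Nat.card Bool := by
      apply Nat.card_le_card_of_injective (fun k : PS.K (powQ hF) => decide (k.1 = 0))
      intro k k' h
      apply Subtype.ext
      have h' : decide (k.1 = 0) = decide (k'.1 = 0) := h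
      by_cases h0 : k.1 = 0
      · have : k'.1 = 0 := by simpa [h0] using h'
        rw [h0, this]
      · have h0' : ¬ k'.1 = 0 := by simpa [h0] using h'
        rw [hcon k.1 k.2 h0, hcon k'.1 k'.2 h0']
    rw [hK, Nat.card_eq_fintype_card, Fintype.card_bool] at hle
    have : 2 ^ 2 ≤ 2 ^ n := Nat.pow_le_pow_right (by norm_num) hn
    omega
  -- the centre
  have hZ : ∀ x : (S : Subgroup (Cfsg.PSU 3 F (2 ^ n))),
      x ∈ Subgroup.center (S : Subgroup (Cfsg.PSU 3 F (2 ^ n))) ↔ (e x).b = 0 := by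
    intro x
    rw [← PS.mem_center_iff τ hτ t ht', Subgroup.mem_center_iff, Subgroup.mem_center_iff]
    constructor
    · intro h g
      have h1 := congrArg e (h (e.symm g))
      simpa using h1
    · intro h y
      apply e.injective
      rw [map_mul, map_mul]
      exact h (e y)
  refine ⟨hScard S, ?_, isSuzukiTwoGroup_of_mulEquiv e (PS.isSuzuki τ hτ t ht' k hk hk0 hk1)⟩
  exact (Nat.card_congr
    ((Equiv.subtypeEquiv e.toEquiv (fun x => hZ x)).trans PS.centerEquiv)).trans hK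

end Cfsg.Agent.S1141
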