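import Mathlib
import Cfsg.Agent.S1141
import Cfsg.Agent.Lib.Helper17_Sylow
import Cfsg.Agent.Lib.Helper5_SUOrder
import Cfsg.Agent.Lib.Helper5_SUCenter
import Cfsg.Statements.S3315

set_option autoImplicit false
set_option linter.unusedSectionVars false
open Cfsg

namespace Cfsg.Agent.S3315

open Cfsg.Agent.S1141

/-! ## Character sums with values `±1` -/

section charsum

/-- the sign character on `ZMod 2` -/
def sgn (a : ZMod 2) : ℤ := if a = 0 then 1 else -1

theorem sgn_add (a b : ZMod 2) : sgn (a + b) = sgn a * sgn b := by revert a b; decide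

theorem sgn_zero : sgn 0 = 1 := rfl

theorem sgn_one : sgn 1 = -1 := rfl

theorem sgn_ge (a : ZMod 2) : -1 ≤ sgn a := by revert a; decide

theorem eq_one_of_ne_zero {a : ZMod 2} (h : a ≠ 0) : a = 1 := by revert a; decide

theorem sum_sgn_eq_zero {G : Type*} [AddGroup G] [Fintype G] (h : G →+ ZMod 2) (g₀ : G)
    (hg : h g₀ ≠ 0) : ∑ g, sgn (h g) = 0 := by
  have h1 : h g₀ = 1 := eq_one_of_ne_zero hg
  have : ∑ g, sgn (h g) = - ∑ g, sgn (h g) := by
    calc ∑ g, sgn (h g) = ∑ g, sgn (h (g + g₀)) :=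
          (Equiv.sum_comp (Equiv.addRight g₀) (fun g => sgn (h g))).symm
      _ = ∑ g, - sgn (h g) := by
          apply Finset.sum_congr rfl
          intro g _
          rw [map_add, sgn_add, h1, sgn_one]; ring
      _ = - ∑ g, sgn (h g) := Finset.sum_neg_distrib _
  linarith

theorem sum_sgn_of_forall_zero {G : Type*} [AddGroup G] [Fintype G] (h : G →+ ZMod 2)
    (h0 : ∀ g, h g = 0) : ∑ g, sgn (h g) = Fintype.card G := by
  simp [h0, sgn_zero]

end charsum

/-! ## The fixed field and the norm form -/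

section normform

variable {F : Type*} [Field F] [Fintype F] [CharP F 2] {σ : F →+* F}
  [hσ : Fact (∀ x : F, σ (σ x) = x)]

/-- the fixed points of `σ` as an additive subgroup -/
def fixAdd (σ : F →+* F) : AddSubgroup F where
  carrier := {k | σ k = k}
  add_mem' := by
    intro a b ha hb
    have ha' : σ a = a := ha
    have hb' : σ b = b := hb
    show σ (a + b) = a + b
    rw [map_add, ha', hb']
  zero_mem' := map_zero σ
  neg_mem' := by
    intro a ha
    have ha' : σ a = a := ha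
    show σ (-a) = -a
    rw [map_neg, ha']

theorem mem_fixAdd (k : F) : k ∈ fixAdd σ ↔ σ k = k := Iff.rfl

theorem card_fixAdd (τ : F) (hτ : τ + σ τ = 1) {q : ℕ} (hF : Fintype.card F = q ^ 2) :
    Nat.card (fixAdd σ) = q := by
  let T : F →+ F := AddMonoidHom.id F + (σ : F →+ F)
  have hT : ∀ x, T x = x + σ x := fun x => rfl
  have hker : T.ker = fixAdd σ := by
    ext x
    rw [AddMonoidHom.mem_ker, hT, mem_fixAdd]
    constructor
    · exact fix_of_add_eq_zero
    · intro h; rw [h]; exact CharTwo.add_self_eq_zero x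
  have hrange : T.range = fixAdd σ := by
    ext y
    rw [mem_fixAdd]
    constructor
    · rintro ⟨x, rfl⟩
      rw [hT, map_add, hσ.out x, add_comm]
    · intro hy
      refine ⟨τ * y, ?_⟩
      rw [hT, map_mul, hy, ← add_mul, hτ, one_mul]
  have h1 : Nat.card T.ker * Nat.card T.range = Nat.card F := by
    rw [← AddSubgroup.index_ker, AddSubgroup.card_mul_index]
  rw [hker, hrange, Nat.card_eq_fintype_card (α := F), hF, ← pow_two] at h1
  exact Nat.pow_left_injective (by norm_num) h1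

theorem two_le_q {q : ℕ} (hF : Fintype.card F = q ^ 2) : 2 ≤ q := by
  have h1 : 1 < Fintype.card F := Fintype.one_lt_card
  rw [hF] at h1
  by_contra h
  have : q ≤ 1 := by omega
  have : q ^ 2 ≤ 1 ^ 2 := Nat.pow_le_pow_left this 2
  omega

/-- the Gauss sum of the norm form: the quadratic form `ψ ∘ N` is of minus type -/
theorem norm_sum (τ : F) (hτ : τ + σ τ = 1) {q : ℕ} (hF : Fintype.card F = q ^ 2)
    (ψ : F →+ ZMod 2) (c₀ : F) (hc₀ : σ c₀ = c₀) (hψ : ψ c₀ ≠ 0) :
    ∑ v : F, sgn (ψ (v * σ v)) = -(q : ℤ) := by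
  classical
  have hK := card_fixAdd τ hτ hF
  have : Fintype (fixAdd σ) := Fintype.ofFinite _
  have hK' : Fintype.card (fixAdd σ) = q := by rw [← Nat.card_eq_fintype_card, hK]
  have hq2 := two_le_q hF
  generalize hS : ∑ v : F, sgn (ψ (v * σ v)) = S
  -- the double sum, first way
  have hD1 : ∑ k : fixAdd σ, ∑ v : F, sgn (ψ ((k.1 * v) * σ (k.1 * v)))
      = (q : ℤ) ^ 2 + ((q : ℤ) - 1) * S := by
    have key : ∀ k : fixAdd σ, ∑ v : F, sgn (ψ ((k.1 * v) * σ (k.1 * v)))
        = S + (if k = 0 then (q : ℤ) ^ 2 - S else 0) := by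
      intro k
      by_cases hk : k = 0
      · rw [if_pos hk, hk]
        simp only [ZeroMemClass.coe_zero, zero_mul, map_zero, sgn_zero, Finset.sum_const,
          Finset.card_univ, hF]
        ring
      · rw [if_neg hk, add_zero, ← hS]
        have hk' : (k.1 : F) ≠ 0 := fun h => hk (Subtype.ext h)
        exact Equiv.sum_comp (Equiv.mulLeft₀ k.1 hk') (fun v => sgn (ψ (v * σ v)))
    rw [Finset.sum_congr rfl (fun k _ => key k), Finset.sum_add_distrib, Finset.sum_ite_eq',
      if_pos (Finset.mem_univ _), Finset.sum_const, Finset.card_univ, hK']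
    simp only [nsmul_eq_mul]
    ring
  -- the double sum, second way
  have hD2 : ∑ k : fixAdd σ, ∑ v : F, sgn (ψ ((k.1 * v) * σ (k.1 * v))) = (q : ℤ) := by
    rw [Finset.sum_comm]
    have key : ∀ v : F, ∑ k : fixAdd σ, sgn (ψ ((k.1 * v) * σ (k.1 * v)))
        = if v = 0 then (q : ℤ) else 0 := by
      intro v
      by_cases hv : v = 0
      · rw [if_pos hv, hv]
        simp only [mul_zero, map_zero, sgn_zero, Finset.sum_const, Finset.card_univ, hK']
        simp
      · rw [if_neg hv]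
        have ha0 : v * σ v ≠ 0 := mul_ne_zero hv ((map_ne_zero σ).mpr hv)
        have haσ : σ (v * σ v) = v * σ v := by rw [map_mul, hσ.out v, mul_comm]
        let e : fixAdd σ → fixAdd σ := fun k => ⟨k.1 * k.1 * (v * σ v), by
          rw [mem_fixAdd, map_mul, map_mul, haσ, (mem_fixAdd _).mp k.2]⟩
        have he : Function.Injective e := by
          intro k k' h
          have h1 : k.1 * k.1 * (v * σ v) = k'.1 * k'.1 * (v * σ v) :=
            congrArg (fun x : fixAdd σ => x.1) h
          have h2 := mul_right_cancel₀ ha0 h1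
          exact Subtype.ext (eq_of_mul_self_eq h2)
        have heb : Function.Bijective e := Finite.injective_iff_bijective.mp he
        have h3 : ∀ k : fixAdd σ, sgn (ψ ((k.1 * v) * σ (k.1 * v)))
            = sgn ((ψ.comp (fixAdd σ).subtype) (e k)) := by
          intro k
          show _ = sgn (ψ (k.1 * k.1 * (v * σ v)))
          have h4 : σ (k.1 * v) = k.1 * σ v := by rw [map_mul, (mem_fixAdd _).mp k.2]
          rw [h4]
          congr 2
          ring
        rw [Finset.sum_congr rfl (fun k _ => h3 k),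
          heb.sum_comp (fun c => sgn ((ψ.comp (fixAdd σ).subtype) c))]
        exact sum_sgn_eq_zero (ψ.comp (fixAdd σ).subtype) ⟨c₀, hc₀⟩ hψ
    rw [Finset.sum_congr rfl (fun v _ => key v), Finset.sum_ite_eq', if_pos (Finset.mem_univ _)]
  rw [hD1] at hD2
  have h1 : ((q : ℤ) - 1) * (S + q) = 0 := by linear_combination hD2
  have h2 : ((q : ℤ) - 1) ≠ 0 := by
    have : (2 : ℤ) ≤ q := by exact_mod_cast hq2
    omega
  rcases mul_eq_zero.mp h1 with h | h
  · exact absurd h h2
  · linarith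

/-- the polar form of the norm form, as an additive map in the second variable -/
def polar (σ : F →+* F) (ψ : F →+ ZMod 2) (v : F) : F →+ ZMod 2 :=
  ψ.comp ((AddMonoidHom.mulLeft v).comp (σ : F →+ F) + AddMonoidHom.mulLeft (σ v))

theorem polar_apply (ψ : F →+ ZMod 2) (v w : F) :
    polar σ ψ v w = ψ (v * σ w + σ v * w) := rfl

theorem polar_comm (ψ : F →+ ZMod 2) (v w : F) : polar σ ψ v w = polar σ ψ w v := by
  rw [polar_apply, polar_apply]
  congr 1
  ring

theorem norm_add (ψ : F →+ ZMod 2) (v w : F) :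
    ψ ((v + w) * σ (v + w)) = ψ (v * σ v) + ψ (w * σ w) + polar σ ψ v w := by
  rw [polar_apply, ← map_add, ← map_add, map_add σ]
  congr 1
  ring

/-- a subgroup of order at least `q` on which the form `ψ ∘ N` vanishes forces `ψ` to vanish on
the fixed field: the form `ψ ∘ N` has Witt index `n - 1`. -/
theorem no_singular_subspace (τ : F) (hτ : τ + σ τ = 1) {q : ℕ} (hF : Fintype.card F = q ^ 2)
    (W : AddSubgroup F) (hW : q ≤ Nat.card W) (ψ : F →+ ZMod 2)
    (hψW : ∀ w ∈ W, ψ (w * σ w) = 0) : ∀ c : F, σ c = c → ψ c = 0 := by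
  classical
  by_contra hcon
  push Not at hcon
  obtain ⟨c₀, hc₀, hψ⟩ := hcon
  have hq2 := two_le_q hF
  have hS := norm_sum τ hτ hF ψ c₀ hc₀ hψ
  have : Fintype W := Fintype.ofFinite _
  have hWc : Nat.card W = Fintype.card W := Nat.card_eq_fintype_card
  -- `W` is totally isotropic
  have hiso : ∀ w₁ ∈ W, ∀ w₂ ∈ W, polar σ ψ w₁ w₂ = 0 := by
    intro w₁ h₁ w₂ h₂
    have h := norm_add (σ := σ) ψ w₁ w₂
    rw [hψW _ (W.add_mem h₁ h₂), hψW _ h₁, hψW _ h₂, zero_add, zero_add] at h
    exact h.symm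
  -- the inner sums
  have hinner : ∀ v : F, ∑ w : W, sgn (polar σ ψ v w.1)
      = if (∀ w ∈ W, polar σ ψ v w = 0) then (Fintype.card W : ℤ) else 0 := by
    intro v
    by_cases hv : ∀ w ∈ W, polar σ ψ v w = 0
    · rw [if_pos hv]
      exact sum_sgn_of_forall_zero ((polar σ ψ v).comp W.subtype) (fun w => hv w.1 w.2)
    · rw [if_neg hv]
      push Not at hv
      obtain ⟨w, hw, hvw⟩ := hv
      exact sum_sgn_eq_zero ((polar σ ψ v).comp W.subtype) ⟨w, hw⟩ hvw
  -- nondegeneracy
  have hnondeg : ∀ w : F, ∑ v : F, sgn (polar σ ψ v w) = if w = 0 then (q : ℤ) ^ 2 else 0 := by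
    intro w
    by_cases hw : w = 0
    · rw [if_pos hw, hw]
      have : ∀ v : F, polar σ ψ v 0 = 0 := fun v => map_zero _
      simp only [this, sgn_zero, Finset.sum_const, Finset.card_univ, hF]
      simp
    · rw [if_neg hw]
      have h1 : ∀ v : F, polar σ ψ v w = polar σ ψ w v := fun v => polar_comm ψ v w
      rw [Finset.sum_congr rfl (fun v _ => by rw [h1 v])]
      apply sum_sgn_eq_zero (polar σ ψ w) (τ * c₀ / σ w)
      rw [polar_apply]
      have hσw : σ w ≠ 0 := (map_ne_zero σ).mpr hw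
      have e1 : σ w * (τ * c₀ / σ w) = τ * c₀ := by field_simp
      have e2 : w * σ (τ * c₀ / σ w) = σ τ * c₀ := by
        rw [map_div₀, map_mul, hσ.out w, hc₀]
        field_simp
      rw [e1, e2, ← add_mul, add_comm (σ τ) τ, hτ, one_mul]
      exact hψ
  -- the orthogonal complement has `q² / |W|` elements
  have hpair : (Fintype.card W : ℤ) *
      ((Finset.univ.filter (fun v : F => ∀ w ∈ W, polar σ ψ v w = 0)).card : ℤ) = (q : ℤ) ^ 2 := by
    have h1 : ∑ v : F, ∑ w : W, sgn (polar σ ψ v w.1) = (Fintype.card W : ℤ) *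
        ((Finset.univ.filter (fun v : F => ∀ w ∈ W, polar σ ψ v w = 0)).card : ℤ) := by
      rw [Finset.sum_congr rfl (fun v _ => hinner v), ← Finset.sum_filter, Finset.sum_const]
      simp only [nsmul_eq_mul]
      ring
    have h2 : ∑ v : F, ∑ w : W, sgn (polar σ ψ v w.1) = (q : ℤ) ^ 2 := by
      rw [Finset.sum_comm, Finset.sum_congr rfl (fun w _ => hnondeg w.1)]
      have h3 : ∀ w : W, (if (w : F) = 0 then (q : ℤ) ^ 2 else 0)
          = if w = 0 then (q : ℤ) ^ 2 else 0 := by
        intro w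
        by_cases hw : w = 0
        · have hw' : (w : F) = 0 := by rw [hw]; rfl
          rw [if_pos hw, if_pos hw']
        · have hw' : ¬ ((w : F) = 0) := fun h => hw (Subtype.ext h)
          rw [if_neg hw, if_neg hw']
      rw [Finset.sum_congr rfl (fun w _ => h3 w), Finset.sum_ite_eq', if_pos (Finset.mem_univ _)]
    rw [← h1, h2]
  -- the Gauss sum localises on the orthogonal complement
  have hloc : (Fintype.card W : ℤ) * (-(q : ℤ)) = (Fintype.card W : ℤ) *
      ∑ v ∈ Finset.univ.filter (fun v : F => ∀ w ∈ W, polar σ ψ v w = 0), sgn (ψ (v * σ v)) := by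
    have h1 : ∑ w : W, ∑ v : F, sgn (ψ ((v + w.1) * σ (v + w.1)))
        = (Fintype.card W : ℤ) * (-(q : ℤ)) := by
      have : ∀ w : W, ∑ v : F, sgn (ψ ((v + w.1) * σ (v + w.1))) = -(q : ℤ) := by
        intro w
        rw [← hS]
        exact Equiv.sum_comp (Equiv.addRight w.1) (fun v => sgn (ψ (v * σ v)))
      rw [Finset.sum_congr rfl (fun w _ => this w), Finset.sum_const, Finset.card_univ]
      simp only [nsmul_eq_mul]
    have h2 : ∑ w : W, ∑ v : F, sgn (ψ ((v + w.1) * σ (v + w.1)))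
        = (Fintype.card W : ℤ) *
          ∑ v ∈ Finset.univ.filter (fun v : F => ∀ w ∈ W, polar σ ψ v w = 0),
            sgn (ψ (v * σ v)) := by
      rw [Finset.sum_comm]
      have : ∀ v : F, ∑ w : W, sgn (ψ ((v + w.1) * σ (v + w.1)))
          = sgn (ψ (v * σ v)) * ∑ w : W, sgn (polar σ ψ v w.1) := by
        intro v
        rw [Finset.mul_sum]
        apply Finset.sum_congr rfl
        intro w _
        rw [norm_add, hψW w.1 w.2, add_zero, sgn_add]
      rw [Finset.sum_congr rfl (fun v _ => this v), Finset.sum_congr rfl (fun v _ => by rw [hinner v]),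
        Finset.mul_sum, Finset.sum_filter]
      apply Finset.sum_congr rfl
      intro v _
      split_ifs <;> ring
    rw [← h1, h2]
  -- bounds
  have hWpos : 0 < Fintype.card W := Fintype.card_pos
  have hloc' : -(q : ℤ) = ∑ v ∈ Finset.univ.filter (fun v : F => ∀ w ∈ W, polar σ ψ v w = 0),
      sgn (ψ (v * σ v)) := by
    have h0 : (Fintype.card W : ℤ) ≠ 0 := by exact_mod_cast hWpos.ne'
    exact mul_left_cancel₀ h0 hloc
  generalize hP : Finset.univ.filter (fun v : F => ∀ w ∈ W, polar σ ψ v w = 0) = P at hpair hloc'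
  have h0P : (0 : F) ∈ P := by
    rw [← hP, Finset.mem_filter]
    refine ⟨Finset.mem_univ _, fun w _ => ?_⟩
    rw [polar_comm]
    exact map_zero _
  have hPle : (P.card : ℤ) ≤ q := by
    have hWq : (q : ℤ) ≤ Fintype.card W := by rw [hWc] at hW; exact_mod_cast hW
    have hq0 : (0 : ℤ) < q := by exact_mod_cast (by omega : 0 < q)
    by_contra hlt
    rw [not_le] at hlt
    have : (q : ℤ) * q < (Fintype.card W : ℤ) * P.card := by
      calc (q : ℤ) * q < q * P.card := by nlinarith
        _ ≤ (Fintype.card W : ℤ) * P.card := by nlinarith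
    nlinarith
  have hsum : (2 : ℤ) - P.card ≤ ∑ v ∈ P, sgn (ψ (v * σ v)) := by
    rw [← Finset.add_sum_erase P _ h0P]
    have h1 : sgn (ψ ((0 : F) * σ 0)) = 1 := by rw [zero_mul, map_zero]; rfl
    have h2 : ∑ v ∈ P.erase 0, (-1 : ℤ) ≤ ∑ v ∈ P.erase 0, sgn (ψ (v * σ v)) :=
      Finset.sum_le_sum (fun v _ => sgn_ge _)
    rw [Finset.sum_const, Finset.card_erase_of_mem h0P] at h2
    have h3 : 1 ≤ P.card := Finset.card_pos.mpr ⟨0, h0P⟩
    rw [h1]
    simp only [nsmul_eq_mul] at h2
    push_cast [h3] at h2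
    linarith
  rw [← hloc'] at hsum
  linarith

end normform

/-! ## Automorphisms with inner square fix the centre -/

section autom

variable {F : Type*} [Field F] [Fintype F] [CharP F 2] {σ : F →+* F}
  [hσ : Fact (∀ x : F, σ (σ x) = x)]

theorem exists_functional (d : F) (hd : d ≠ 0) : ∃ ψ₀ : F →+ ZMod 2, ψ₀ d ≠ 0 := by
  let _ := ZMod.algebra F 2
  obtain ⟨f, hf⟩ := Module.Projective.exists_dual_ne_zero (ZMod 2) hd
  exact ⟨f.toAddMonoidHom, hf⟩

/-- the central element with second coordinate the trace of `x` -/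
def cz (σ : F →+* F) [hσ : Fact (∀ x : F, σ (σ x) = x)] (x : F) : PS σ :=
  ⟨0, x + σ x, by
    rw [map_add, hσ.out x]
    grind⟩

theorem cz_b (x : F) : (cz σ x).b = 0 := rfl
theorem cz_c (x : F) : (cz σ x).c = x + σ x := rfl

theorem cz_add (x y : F) : cz σ (x + y) = cz σ x * cz σ y := by
  apply PS.ext
  · rw [PS.mul_b, cz_b, cz_b, cz_b, add_zero]
  · rw [PS.mul_c, cz_c, cz_c, cz_c, cz_b, map_add, map_zero, zero_mul]
    ring

theorem eq_cz (τ : F) (hτ : τ + σ τ = 1) (p : PS σ) (hp : p.b = 0) : p = cz σ (τ * p.c) := by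
  apply PS.ext
  · rw [hp, cz_b]
  · rw [cz_c, map_mul, PS.fix_c_of_b p hp, ← add_mul, hτ, one_mul]

theorem conj_b (g p : PS σ) : (g * p * g⁻¹).b = p.b := by
  rw [PS.mul_b, PS.mul_b, PS.inv_b]
  grind

theorem apply_b_eq_zero_iff (τ : F) (hτ : τ + σ τ = 1) (t : F) (ht : σ t ≠ t)
    (α : PS σ ≃* PS σ) (p : PS σ) : (α p).b = 0 ↔ p.b = 0 := by
  rw [← PS.mem_center_iff τ hτ t ht, ← PS.mem_center_iff τ hτ t ht, Subgroup.mem_center_iff,
    Subgroup.mem_center_iff]
  constructor
  · intro h g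
    have h1 := h (α g)
    rw [← map_mul, ← map_mul] at h1
    exact α.injective h1
  · intro h g
    have h1 := congrArg α (h (α.symm g))
    rw [map_mul, map_mul, α.apply_symm_apply] at h1
    exact h1

theorem aut_fixes_center (τ : F) (hτ : τ + σ τ = 1) (t : F) (ht : σ t ≠ t) {q : ℕ}
    (hF : Fintype.card F = q ^ 2) (α : PS σ ≃* PS σ) (hα2 : ∀ p, (α (α p)).b = p.b) :
    ∀ p : PS σ, p.b = 0 → α p = p := by
  classical
  have hcen := apply_b_eq_zero_iff τ hτ t ht α
  -- the induced map on the quotient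
  let m : F → PS σ := fun b => PS.mkOf τ hτ b 0 (map_zero σ)
  have hmb : ∀ b, (m b).b = b := fun b => rfl
  let A : F → F := fun b => (α (m b)).b
  have hA1 : ∀ p : PS σ, (α p).b = A p.b := by
    intro p
    have hz : ((m p.b)⁻¹ * p).b = 0 := by
      rw [PS.mul_b, PS.inv_b, hmb]
      exact CharTwo.add_self_eq_zero _
    have hp : p = m p.b * ((m p.b)⁻¹ * p) := by group
    conv_lhs => rw [hp]
    rw [map_mul, PS.mul_b, (hcen _).mpr hz, add_zero]
  have hAadd : ∀ b b', A (b + b') = A b + A b' := by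
    intro b b'
    have h1 : (m b * m b').b = b + b' := rfl
    have h2 := hA1 (m b * m b')
    rw [h1, map_mul, PS.mul_b] at h2
    exact h2.symm
  have hAA : ∀ b, A (A b) = b := by
    intro b
    have h1 := hA1 (α (m b))
    rw [hα2] at h1
    exact h1.symm
  -- the fixed points of the induced map
  let T : F →+ F := AddMonoidHom.mk' (fun b => b + A b) (by
    intro b b'
    show b + b' + A (b + b') = b + A b + (b' + A b')
    rw [hAadd]; ring)
  have hT : ∀ b, T b = b + A b := fun b => rfl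
  have hTT : ∀ b, T (T b) = 0 := by
    intro b
    rw [hT, hT, hAadd, hAA]
    grind
  have hWcard : q ≤ Nat.card T.ker := by
    have h1 : Nat.card T.ker * Nat.card T.range = Nat.card F := by
      rw [← AddSubgroup.index_ker, AddSubgroup.card_mul_index]
    have h2 : Nat.card T.range ≤ Nat.card T.ker :=
      Nat.card_le_card_of_injective (fun y => (⟨y.1, by
        obtain ⟨x, hx⟩ := y.2
        rw [AddMonoidHom.mem_ker, ← hx]
        exact hTT x⟩ : T.ker)) (by
        intro y y' h
        have h' : y.1 = y'.1 := congrArg (fun k : T.ker => k.1) h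
        exact Subtype.ext h')
    rw [Nat.card_eq_fintype_card (α := F), hF] at h1
    by_contra hlt
    rw [not_le] at hlt
    have : Nat.card T.ker * Nat.card T.range < q * q := by
      calc Nat.card T.ker * Nat.card T.range ≤ Nat.card T.ker * Nat.card T.ker :=
            Nat.mul_le_mul_left _ h2
        _ < q * q := Nat.mul_self_lt_mul_self hlt
    rw [h1] at this
    nlinarith
  have hWfix : ∀ w ∈ T.ker, A w = w := by
    intro w hw
    rw [AddMonoidHom.mem_ker, hT] at hw
    grind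
  -- the defect map on the centre
  let D : F →+ F := AddMonoidHom.mk' (fun x => (α (cz σ x)).c + (x + σ x)) (by
    intro x y
    show (α (cz σ (x + y))).c + (x + y + σ (x + y))
      = (α (cz σ x)).c + (x + σ x) + ((α (cz σ y)).c + (y + σ y))
    rw [cz_add, map_mul, PS.mul_c, (hcen _).mpr (cz_b x), map_zero, zero_mul, map_add]
    ring)
  have hD : ∀ x, D x = (α (cz σ x)).c + (x + σ x) := fun x => rfl
  have hDN : ∀ w ∈ T.ker, D (τ * (w * σ w)) = 0 := by
    intro w hw
    have hN : σ (w * σ w) = w * σ w := by rw [map_mul, hσ.out w, mul_comm]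
    have h1 : cz σ (τ * (w * σ w)) = m w * m w := by
      apply PS.ext
      · rw [cz_b, PS.mul_b, hmb]; exact (CharTwo.add_self_eq_zero _).symm
      · rw [cz_c, PS.mul_c, hmb, map_mul, hN, ← add_mul, hτ, one_mul]
        grind
    have h2 : (α (m w * m w)).c = w * σ w := by
      rw [map_mul, PS.mul_c, hA1 (m w), hmb, hWfix w hw]
      grind
    rw [hD, h1, h2, map_mul, hN, ← add_mul, hτ, one_mul]
    exact CharTwo.add_self_eq_zero _
  intro p hp
  by_contra hne
  have hd : D (τ * p.c) ≠ 0 := by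
    intro h0
    apply hne
    have h1 : p = cz σ (τ * p.c) := eq_cz τ hτ p hp
    apply PS.ext
    · rw [(hcen p).mpr hp, hp]
    · rw [hD, ← h1, map_mul, PS.fix_c_of_b p hp, ← add_mul, hτ, one_mul] at h0
      grind
  obtain ⟨ψ₀, hψ₀⟩ := exists_functional _ hd
  let ψ : F →+ ZMod 2 := ψ₀.comp (D.comp (AddMonoidHom.mulLeft τ))
  have hψ : ∀ c, ψ c = ψ₀ (D (τ * c)) := fun c => rfl
  have h1 := no_singular_subspace τ hτ hF T.ker hWcard ψ (by
    intro w hw
    rw [hψ, hDN w hw, map_zero]) p.c (PS.fix_c_of_b p hp)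
  rw [hψ] at h1
  exact hψ₀ h1

end autom

/-! ## The Sylow 2-subgroups of `SU₃(2ⁿ)` -/

section SUpart

open Cfsg.Agent.Lib.Helper5_SUOrder Cfsg.Agent.Lib.Helper5_SUCenter

theorem card_SU_two_part {F : Type*} [Field F] [Fintype F] {n : ℕ} (hn : 1 ≤ n)
    (hF : Fintype.card F = (2 ^ n) ^ 2) :
    ∃ m, Nat.card (Cfsg.SU 3 F (2 ^ n)) = 2 ^ (3 * n) * m ∧ ¬ 2 ∣ m := by
  have hcard := card_SU hF 3 (by norm_num)
  generalize hq : 2 ^ n = q at hcard ⊢
  have hprod : ∏ i ∈ Finset.range 3, (if Even i then q ^ (i + 1) + 1 else q ^ (i + 1) - 1)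
      = (q + 1) * (q ^ 2 - 1) * (q ^ 3 + 1) := by
    simp [Finset.prod_range_succ]
  rw [hprod, show 3 * (3 - 1) / 2 = 3 by norm_num] at hcard
  have hq3 : q ^ 3 = 2 ^ (3 * n) := by rw [← hq, ← pow_mul, mul_comm]
  have hq2 : 2 ∣ q := by rw [← hq]; exact dvd_pow_self 2 (by omega)
  have hodd1 : ¬ 2 ∣ (q + 1) := by omega
  have hodd2 : ¬ 2 ∣ (q ^ 2 - 1) := by
    have h1 : 2 ∣ q ^ 2 := dvd_pow hq2 (by norm_num)
    have h2 : 1 ≤ q ^ 2 := Nat.one_le_pow _ _ (by rw [← hq]; positivity)
    omega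
  have hodd3 : ¬ 2 ∣ (q ^ 3 + 1) := by
    have h1 : 2 ∣ q ^ 3 := dvd_pow hq2 (by norm_num)
    omega
  have hcop : Nat.Coprime (2 ^ (3 * n)) (q + 1) := by
    apply Nat.Coprime.pow_left
    rw [Nat.Prime.coprime_iff_not_dvd Nat.prime_two]
    exact hodd1
  have hdvd : 2 ^ (3 * n) ∣ Nat.card (Cfsg.SU 3 F q) := by
    apply hcop.dvd_of_dvd_mul_left
    rw [← hq3, hcard]
    exact dvd_mul_right _ _
  obtain ⟨m, hm⟩ := hdvd
  refine ⟨m, hm, fun h2 => ?_⟩
  rw [hm, ← hq3] at hcard
  have hq3pos : 0 < q ^ 3 := by rw [← hq]; positivity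
  have hq1pos : 0 < q + 1 := by positivity
  have h3 : m = (q ^ 2 - 1) * (q ^ 3 + 1) := by
    apply Nat.eq_of_mul_eq_mul_left (Nat.mul_pos hq3pos hq1pos)
    calc q ^ 3 * (q + 1) * m = (q + 1) * (q ^ 3 * m) := by ring
      _ = q ^ 3 * (q + 1) * ((q ^ 2 - 1) * (q ^ 3 + 1)) := by rw [hcard]; ring
  rw [h3] at h2
  rcases (Nat.Prime.dvd_mul Nat.prime_two).mp h2 with h | h
  exacts [hodd2 h, hodd3 h]

variable {F : Type*} [Field F] [Fintype F] {n : ℕ} [CharP F 2]
  (hF : Fintype.card F = (2 ^ n) ^ 2) [hσ : Fact (∀ x : F, powQ hF (powQ hF x) = x)]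

theorem mHom_injective : Function.Injective (mHom (F := F) hF) := by
  intro p p' h
  have h1 : Mmat (powQ hF p.b) p.b p.c = Mmat (powQ hF p'.b) p'.b p'.c :=
    congrArg (fun s : Cfsg.SU 3 F (2 ^ n) => ((s.1 : Matrix (Fin 3) (Fin 3) F))) h
  have hb : p.b = p'.b := by
    have := congrFun (congrFun h1 2) 0
    simpa [Mmat] using this
  have hs : powQ hF p.b + p.b + p.c = powQ hF p'.b + p'.b + p'.c := by
    have := congrFun (congrFun h1 0) 1
    simpa [Mmat] using this
  apply PS.ext hb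
  rw [hb] at hs
  exact add_left_cancel hs

/-- every Sylow 2-subgroup of `SU₃(2ⁿ)` is isomorphic to the parameter group -/
theorem exists_equiv (hn : 1 ≤ n) (τ : F) (hτ : τ + powQ hF τ = 1)
    (P : Sylow 2 (Cfsg.SU 3 F (2 ^ n))) :
    Nonempty ((P : Subgroup (Cfsg.SU 3 F (2 ^ n))) ≃* PS (powQ hF)) := by
  classical
  have : Fact (Nat.Prime 2) := ⟨Nat.prime_two⟩
  obtain ⟨m, hm, hm2⟩ := card_SU_two_part hn hF
  have hq3 : (2 ^ n) ^ 3 = 2 ^ (3 * n) := by rw [← pow_mul, mul_comm]
  have : Finite (Cfsg.SU 3 F (2 ^ n)) := Nat.finite_of_card_ne_zero (by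
    rw [hm]
    intro h
    rcases mul_eq_zero.mp h with h | h
    · exact absurd h (by positivity)
    · exact hm2 (h ▸ dvd_zero 2))
  have hScard : ∀ Q : Sylow 2 (Cfsg.SU 3 F (2 ^ n)),
      Nat.card (Q : Subgroup (Cfsg.SU 3 F (2 ^ n))) = (2 ^ n) ^ 3 := by
    intro Q
    rw [Cfsg.Agent.Lib.Helper17_Sylow.card_sylow_eq_pow hm hm2 Q, hq3]
  have hKge : 2 ^ n ≤ Nat.card (PS.K (powQ hF)) := card_K_ge hF
  have hPcard : Nat.card (PS (powQ hF)) = (2 ^ n) ^ 2 * Nat.card (PS.K (powQ hF)) := by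
    rw [Nat.card_congr (PS.equivProd τ hτ), Nat.card_prod, Nat.card_eq_fintype_card (α := F), hF]
  have hPge : (2 ^ n) ^ 3 ≤ Nat.card (PS (powQ hF)) := by
    rw [hPcard, pow_succ _ 2]
    exact Nat.mul_le_mul_left _ hKge
  have hμ := mHom_injective (F := F) hF
  have hT : IsPGroup 2 (mHom (F := F) hF).range :=
    PS.isPGroup.of_surjective (mHom hF).rangeRestrict (mHom hF).rangeRestrict_surjective
  obtain ⟨Q, hQ⟩ := hT.exists_le_sylow
  have hTQ : (mHom (F := F) hF).range = (Q : Subgroup (Cfsg.SU 3 F (2 ^ n))) := by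
    apply Subgroup.eq_of_le_of_card_ge hQ
    rw [hScard Q, Nat.card_congr (MonoidHom.ofInjective hμ).symm.toEquiv]
    exact hPge
  exact ⟨(Sylow.equiv P Q).trans ((MulEquiv.subgroupCongr hTQ.symm).trans
      (MonoidHom.ofInjective hμ).symm)⟩

end SUpart

open Cfsg.Agent.Lib.Helper5_SUOrder Cfsg.Agent.Lib.Helper5_SUCenter in
/-- Let S be a Sylow 2-subgroup of SU₃(2ⁿ), n ≥ 2 (realised over the field with 4ⁿ elements). If a finite 2-group R contains a subgroup S' of index 2 isomorphic to S, then the centre of S' is contained in the centre of R. -/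
theorem result {R : Type*} [Group R] [Finite R]
    (hR : IsPGroup 2 R) (n : ℕ) (hn : 2 ≤ n) {F : Type*} [Field F] [Fintype F] (hF : Fintype.card F = 4 ^ n)
    (P : Sylow 2 ↥(Cfsg.SU 3 F (2 ^ n))) (S' : Subgroup R) (hS : Nonempty (↥S' ≃* ↥(P : Subgroup ↥(Cfsg.SU 3 F (2 ^ n)))))
    (hidx : S'.index = 2) :
    (Subgroup.center ↥S').map S'.subtype ≤ Subgroup.center R := by
  classical
  have hF' : Fintype.card F = (2 ^ n) ^ 2 := by
    rw [hF, show (4 : ℕ) = 2 ^ 2 by norm_num, ← pow_mul, ← pow_mul, mul_comm]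
  have := charP_two (by omega) hF'
  have hσ : Fact (∀ x : F, powQ hF' (powQ hF' x) = x) := ⟨powQ_powQ hF'⟩
  obtain ⟨t, ht⟩ := exists_pow_q_ne hF'
  have ht' : powQ hF' t ≠ t := ht
  have hu : t + powQ hF' t ≠ 0 := fun h => ht' (fix_of_add_eq_zero h)
  have hτ : (t / (t + powQ hF' t)) + powQ hF' (t / (t + powQ hF' t)) = 1 := by
    rw [map_div₀, map_add, hσ.out t, add_comm (powQ hF' t) t, ← add_div, div_self hu]
  generalize t / (t + powQ hF' t) = τ at hτ
  obtain ⟨e0⟩ := exists_equiv hF' (by omega) τ hτ P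
  obtain ⟨e1⟩ := hS
  let e : S' ≃* PS (powQ hF') := e1.trans e0
  have hnorm : S'.Normal := Subgroup.normal_of_index_eq_two hidx
  rintro x ⟨z, hz, rfl⟩
  rw [Subgroup.mem_center_iff]
  intro g
  by_cases hg : g ∈ S'
  · have h1 := (Subgroup.mem_center_iff.mp hz) ⟨g, hg⟩
    exact congrArg (fun y : S' => (y : R)) h1
  · -- conjugation by `g` as an automorphism of the parameter group
    let α : PS (powQ hF') ≃* PS (powQ hF') :=
      e.symm.trans ((MulAut.conjNormal g : MulAut S').trans e)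
    have hα : ∀ p, α p = e (MulAut.conjNormal g (e.symm p)) := fun p => rfl
    have hgg : g * g ∈ S' := Subgroup.mul_self_mem_of_index_two hidx g
    have hα2 : ∀ p, (α (α p)).b = p.b := by
      intro p
      rw [hα, hα, e.symm_apply_apply]
      have h1 : MulAut.conjNormal g (MulAut.conjNormal g (e.symm p))
          = (⟨g * g, hgg⟩ : S') * e.symm p * (⟨g * g, hgg⟩ : S')⁻¹ := by
        apply Subtype.ext
        rw [MulAut.conjNormal_apply, MulAut.conjNormal_apply]
        push_cast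
        group
      rw [h1, map_mul, map_mul, map_inv, e.apply_symm_apply]
      exact conj_b _ _
    have hzb : (e z).b = 0 := by
      rw [← PS.mem_center_iff τ hτ t ht', Subgroup.mem_center_iff]
      intro y
      have h1 := congrArg e ((Subgroup.mem_center_iff.mp hz) (e.symm y))
      rw [map_mul, map_mul, e.apply_symm_apply] at h1
      exact h1
    have h2 := aut_fixes_center τ hτ t ht' hF' α hα2 (e z) hzb
    rw [hα, e.symm_apply_apply] at h2
    have h3 := e.injective h2
    have h4 := congrArg (fun y : S' => (y : R)) h3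
    simp only [MulAut.conjNormal_apply] at h4
    show g * (z : R) = (z : R) * g
    calc g * (z : R) = (g * (z : R) * g⁻¹) * g := by group
      _ = (z : R) * g := by rw [h4]

end Cfsg.Agent.S3315
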