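import Mathlib
import Cfsg.Agent.S1141
import Cfsg.Agent.S3315
import Cfsg.Agent.Lib.Helper17_Sylow
import Cfsg.Agent.Lib.Helper5_SUOrder
import Cfsg.Agent.Lib.Helper5_SUCenter
import Cfsg.Statements.S3156

set_option autoImplicit false
set_option linter.unusedSectionVars false
open Cfsg

namespace Cfsg.Agent.S3156

open Cfsg.Agent.S1141 Cfsg.Agent.S3315

/-! ## The Sylow 2-subgroups of `PSU₃(2ⁿ)` -/

section PSUpart

open Cfsg.Agent.Lib.Helper5_SUOrder Cfsg.Agent.Lib.Helper5_SUCenter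

variable {F : Type*} [Field F] [Fintype F] {n : ℕ} [CharP F 2]
  (hF : Fintype.card F = (2 ^ n) ^ 2) [hσ : Fact (∀ x : F, powQ hF (powQ hF x) = x)]

/-- every Sylow 2-subgroup of `PSU₃(2ⁿ)` is isomorphic to the parameter group -/
theorem exists_equiv_PSU (hn : 1 ≤ n) (τ : F) (hτ : τ + powQ hF τ = 1)
    (P : Sylow 2 (Cfsg.PSU 3 F (2 ^ n))) :
    Nonempty ((P : Subgroup (Cfsg.PSU 3 F (2 ^ n))) ≃* PS (powQ hF)) := by
  classical
  have : Fact (Nat.Prime 2) := ⟨Nat.prime_two⟩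
  obtain ⟨m, hm, hm2⟩ := card_PSU_two_part hn hF
  have hq3 : (2 ^ n) ^ 3 = 2 ^ (3 * n) := by rw [← pow_mul, mul_comm]
  have : Finite (Cfsg.PSU 3 F (2 ^ n)) := Nat.finite_of_card_ne_zero (by
    rw [hm]
    intro h
    rcases mul_eq_zero.mp h with h | h
    · exact absurd h (by positivity)
    · exact hm2 (h ▸ dvd_zero 2))
  have hScard : ∀ Q : Sylow 2 (Cfsg.PSU 3 F (2 ^ n)),
      Nat.card (Q : Subgroup (Cfsg.PSU 3 F (2 ^ n))) = (2 ^ n) ^ 3 := by
    intro Q
    rw [Cfsg.Agent.Lib.Helper17_Sylow.card_sylow_eq_pow hm hm2 Q, hq3]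
  have hKge : 2 ^ n ≤ Nat.card (PS.K (powQ hF)) := card_K_ge hF
  have hPcard : Nat.card (PS (powQ hF)) = (2 ^ n) ^ 2 * Nat.card (PS.K (powQ hF)) := by
    rw [Nat.card_congr (PS.equivProd τ hτ), Nat.card_prod, Nat.card_eq_fintype_card (α := F), hF]
  have hPge : (2 ^ n) ^ 3 ≤ Nat.card (PS (powQ hF)) := by
    rw [hPcard, pow_succ _ 2]
    exact Nat.mul_le_mul_left _ hKge
  have hμ := muHom_injective (F := F) hF
  have hT : IsPGroup 2 (muHom (F := F) hF).range :=
    PS.isPGroup.of_surjective (muHom hF).rangeRestrict (muHom hF).rangeRestrict_surjective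
  obtain ⟨Q, hQ⟩ := hT.exists_le_sylow
  have hTQ : (muHom (F := F) hF).range = (Q : Subgroup (Cfsg.PSU 3 F (2 ^ n))) := by
    apply Subgroup.eq_of_le_of_card_ge hQ
    rw [hScard Q, Nat.card_congr (MonoidHom.ofInjective hμ).symm.toEquiv]
    exact hPge
  exact ⟨(Sylow.equiv P Q).trans ((MulEquiv.subgroupCongr hTQ.symm).trans
      (MonoidHom.ofInjective hμ).symm)⟩

end PSUpart

/-! ## Automorphisms of order three -/

section autom

variable {F : Type*} [Field F] [Fintype F] [CharP F 2] {σ : F →+* F}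
  [hσ : Fact (∀ x : F, σ (σ x) = x)]

/-- the additive map induced by an automorphism on the first coordinate -/
theorem exists_induced (τ : F) (hτ : τ + σ τ = 1) (t : F) (ht : σ t ≠ t) (α : PS σ ≃* PS σ) :
    ∃ A : F →+ F, ∀ p : PS σ, (α p).b = A p.b := by
  have hcen := apply_b_eq_zero_iff τ hτ t ht α
  let m : F → PS σ := fun b => PS.mkOf τ hτ b 0 (map_zero σ)
  have hmb : ∀ b, (m b).b = b := fun b => rfl
  have hA1 : ∀ p : PS σ, (α p).b = (α (m p.b)).b := by
    intro p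
    have hz : ((m p.b)⁻¹ * p).b = 0 := by
      rw [PS.mul_b, PS.inv_b, hmb]
      exact CharTwo.add_self_eq_zero _
    have hp : p = m p.b * ((m p.b)⁻¹ * p) := by group
    conv_lhs => rw [hp]
    rw [map_mul, PS.mul_b, (hcen _).mpr hz, add_zero]
  refine ⟨AddMonoidHom.mk' (fun b => (α (m b)).b) ?_, hA1⟩
  intro b b'
  have h1 : (m b * m b').b = b + b' := rfl
  have h2 := hA1 (m b * m b')
  rw [h1, map_mul, PS.mul_b] at h2
  exact h2.symm

theorem no_fifth_roots {x y : F} (h1 : y ^ 5 = x ^ 5) (h2 : (x + y) ^ 5 = x ^ 5) : x = 0 := by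
  by_contra hx
  have e1 : x * (x ^ 4 + x ^ 3 * y + y ^ 4) = 0 := by grind
  have e1' : x ^ 4 + x ^ 3 * y + y ^ 4 = 0 := (mul_eq_zero.mp e1).resolve_left hx
  have e2 : x ^ 3 * (x ^ 2 + x * y + y ^ 2) = 0 := by grind
  have e2' : x ^ 2 + x * y + y ^ 2 = 0 := (mul_eq_zero.mp e2).resolve_left (pow_ne_zero 3 hx)
  have e3 : y ^ 3 = x ^ 3 := by grind
  have e4 : x ^ 3 * ((y + x) ^ 2) = 0 := by grind
  have e4' : (y + x) ^ 2 = 0 := (mul_eq_zero.mp e4).resolve_left (pow_ne_zero 3 hx)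
  have e5 : y + x = 0 := pow_eq_zero_iff (by norm_num) |>.mp e4'
  have e6 : x ^ 2 = 0 := by grind
  exact hx (pow_eq_zero_iff (by norm_num) |>.mp e6)

/-- in the automorphism group of the Sylow 2-subgroup of `PSU₃(4)`, an element of order dividing
three inverted by an involution is trivial -/
theorem order_three_trivial (τ : F) (hτ : τ + σ τ = 1) (t : F) (ht : σ t ≠ t)
    (hF : Fintype.card F = 4 ^ 2) (hpow : ∀ x : F, σ x = x ^ 4) (ρ θ : MulAut (PS σ))
    (hρ3 : ρ ^ 3 = 1) (hθ2 : θ * θ = 1) (hconj : θ * ρ * θ⁻¹ = ρ⁻¹) : ρ = 1 := by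
  have hρ3' : ∀ p, ρ (ρ (ρ p)) = p := by
    intro p
    have := congrArg (fun a : MulAut (PS σ) => a p) hρ3
    simpa [pow_succ, MulAut.mul_apply] using this
  -- the involution fixes the centre
  have hθZ : ∀ p : PS σ, p.b = 0 → θ p = p := by
    apply aut_fixes_center τ hτ t ht hF θ
    intro p
    have := congrArg (fun a : MulAut (PS σ) => a p) hθ2
    have h1 : θ (θ p) = p := by simpa [MulAut.mul_apply] using this
    rw [h1]
  -- hence so does `ρ`
  have hρZ : ∀ p : PS σ, p.b = 0 → ρ p = p := by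
    intro z hz
    have hρz : (ρ z).b = 0 := (apply_b_eq_zero_iff τ hτ t ht ρ z).mpr hz
    have h1 := congrArg (fun a : MulAut (PS σ) => a z) hconj
    simp only [MulAut.mul_apply] at h1
    have h2 : θ⁻¹ z = z := by
      rw [MulAut.inv_apply, MulEquiv.symm_apply_eq, hθZ z hz]
    rw [h2, hθZ (ρ z) hρz] at h1
    have h3 : ρ (ρ z) = z := by
      rw [h1, MulAut.apply_inv_self]
    have h4 := hρ3' z
    rw [h3] at h4
    exact h4
  -- the induced map
  obtain ⟨A, hA⟩ := exists_induced τ hτ t ht ρ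
  let m : F → PS σ := fun b => PS.mkOf τ hτ b 0 (map_zero σ)
  have hmb : ∀ b, (m b).b = b := fun b => rfl
  have hA3 : ∀ b, A (A (A b)) = b := by
    intro b
    have h1 := congrArg PS.b (hρ3' (m b))
    rw [hA, hA, hA, hmb] at h1
    exact h1
  have hAN : ∀ b, (A b) ^ 5 = b ^ 5 := by
    intro b
    have h1 : (m b * m b).b = 0 := by rw [PS.mul_b, hmb]; exact CharTwo.add_self_eq_zero _
    have h2 := congrArg PS.c (hρZ (m b * m b) h1)
    rw [map_mul, PS.mul_c, PS.mul_c, hA, hmb, hpow, hpow] at h2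
    grind
  -- the induced map is trivial
  have hAid : ∀ b, A b = b := by
    intro b
    have hd : A (A (A b + b)) = A (A b + b) + (A b + b) := by
      simp only [map_add, hA3]
      grind
    have h1 := hAN (A b + b)
    have h2 := hAN (A (A b + b))
    rw [hd, h1] at h2
    have h3 := no_fifth_roots h1 (by rw [add_comm]; exact h2)
    grind
  -- so `ρ` has order at most two
  have hρ2 : ∀ p, ρ (ρ p) = p := by
    intro p
    have hz' : (p⁻¹ * ρ p).b = 0 := by
      rw [PS.mul_b, PS.inv_b, hA, hAid]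
      exact CharTwo.add_self_eq_zero _
    obtain ⟨z, hz, h1⟩ : ∃ z : PS σ, z.b = 0 ∧ ρ p = p * z := ⟨p⁻¹ * ρ p, hz', by group⟩
    rw [h1, map_mul, h1, hρZ z hz, mul_assoc, PS.mul_self_eq_one_of_b z hz, mul_one]
  apply MulEquiv.ext
  intro p
  have h1 := hρ3' p
  rw [hρ2] at h1
  exact h1

end autom

open Cfsg.Agent.Lib.Helper5_SUOrder Cfsg.Agent.Lib.Helper5_SUCenter in
/-- If a finite group T is isomorphic to a Sylow 2-subgroup of the projective special unitary group of dimension 3 with parameter 4 (realised over the field with 16 elements), then no subgroup of the automorphism group of T is isomorphic to the symmetric group of degree 3. -/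
theorem result {T : Type*} [Group T] [Finite T] (hT : (∃ (F : Type) (_ : Field F) (_ : Fintype F), Fintype.card F = 16 ∧ ∃ S : Sylow 2 (Cfsg.PSU 3 F 4), Nonempty (T ≃* ↥(S : Subgroup (Cfsg.PSU 3 F 4))))) (H : Subgroup (MulAut T)) : ¬ Nonempty (↥H ≃* Equiv.Perm (Fin 3)) := by
  classical
  obtain ⟨F, _, _, hF16, S, ⟨e1⟩⟩ := hT
  rintro ⟨f⟩
  have hF' : Fintype.card F = (2 ^ 2) ^ 2 := by rw [hF16]; norm_num
  have := charP_two (n := 2) (by norm_num) hF'
  have hσ : Fact (∀ x : F, powQ hF' (powQ hF' x) = x) := ⟨powQ_powQ hF'⟩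
  obtain ⟨t, ht⟩ := exists_pow_q_ne hF'
  have ht' : powQ hF' t ≠ t := ht
  have hu : t + powQ hF' t ≠ 0 := fun h => ht' (fix_of_add_eq_zero h)
  have hτ : (t / (t + powQ hF' t)) + powQ hF' (t / (t + powQ hF' t)) = 1 := by
    rw [map_div₀, map_add, hσ.out t, add_comm (powQ hF' t) t, ← add_div, div_self hu]
  generalize t / (t + powQ hF' t) = τ at hτ
  obtain ⟨e0⟩ := exists_equiv_PSU hF' (by norm_num) τ hτ S
  let e : T ≃* PS (powQ hF') := e1.trans e0
  -- generators of the symmetric group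
  have r1 : (finRotate 3 : Equiv.Perm (Fin 3)) ^ 3 = 1 := by decide
  have r2 : (Equiv.swap (0 : Fin 3) 1) * (Equiv.swap (0 : Fin 3) 1) = 1 := by decide
  have r3 : (Equiv.swap (0 : Fin 3) 1) * (finRotate 3 : Equiv.Perm (Fin 3))
      * (Equiv.swap (0 : Fin 3) 1)⁻¹ = (finRotate 3 : Equiv.Perm (Fin 3))⁻¹ := by decide
  have r4 : (finRotate 3 : Equiv.Perm (Fin 3)) ≠ 1 := by decide
  let ψ : Equiv.Perm (Fin 3) →* MulAut (PS (powQ hF')) :=
    (MulAut.congr e).toMonoidHom.comp (H.subtype.comp f.symm.toMonoidHom)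
  have hψinj : Function.Injective ψ := by
    intro a b hab
    have h1 : (MulAut.congr e) ((f.symm a : H) : MulAut T)
        = (MulAut.congr e) ((f.symm b : H) : MulAut T) := hab
    have h2 := (MulAut.congr e).injective h1
    exact f.symm.injective (Subtype.ext h2)
  have q1 : ψ (finRotate 3) ^ 3 = 1 := by rw [← map_pow, r1, map_one]
  have q2 : ψ (Equiv.swap (0 : Fin 3) 1) * ψ (Equiv.swap (0 : Fin 3) 1) = 1 := by
    rw [← map_mul, r2, map_one]
  have q3 : ψ (Equiv.swap (0 : Fin 3) 1) * ψ (finRotate 3) * (ψ (Equiv.swap (0 : Fin 3) 1))⁻¹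
      = (ψ (finRotate 3))⁻¹ := by
    rw [← map_inv, ← map_mul, ← map_mul, r3, map_inv]
  have h := order_three_trivial τ hτ t ht' (by rw [hF16]; norm_num)
    (fun x => by show x ^ (2 ^ 2) = x ^ 4; norm_num) (ψ (finRotate 3))
    (ψ (Equiv.swap (0 : Fin 3) 1)) q1 q2 q3
  exact r4 (hψinj (h.trans (map_one ψ).symm))

end Cfsg.Agent.S3156
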