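-- Statement S3779: the Higman–Kreknin–Kostrikin class bound.
import Cfsg.Statements.S3779
import Cfsg.Agent.S0033
import Cfsg.Agent.Lib.Helper9_LieGrp4

set_option autoImplicit false
open Cfsg

namespace Cfsg.Agent.S3779

open Cfsg.Agent.Lib.Helper9_KK Cfsg.Agent.Lib.Helper9_LieGrp

/-- Let G be a finite group with an automorphism of prime order p fixing only the identity. Then G is nilpotent; if p = 2 then G is abelian, if p = 3 then G has class at most 2, and in general the class of G is at most ξ = 1 + (p−1) + (p−1)² + ⋯ + (p−1)^(n−1) with n = 2^(p−1) − 1 (the Higman–Kreknin–Kostrikin bound). -/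
theorem result {G : Type*} [Group G] [Finite G] {p : ℕ} (hp : p.Prime) (α : MulAut G) (hα : orderOf α = p) (hfpf : ∀ g : G, α g = g → g = 1) : (p = 2 → (⊤ : Subgroup G).lowerCentralSeries 1 = ⊥) ∧ (p = 3 → (⊤ : Subgroup G).lowerCentralSeries 2 = ⊥) ∧ (⊤ : Subgroup G).lowerCentralSeries (Finset.sum (Finset.range (2 ^ (p - 1) - 1)) (fun i => (p - 1) ^ i)) = ⊥ := by
  have : Fact p.Prime := ⟨hp⟩
  have hpow : α ^ p = 1 := by rw [← hα]; exact pow_orderOf_eq_one α
  have hiter0 : ∀ (n : ℕ) (g : G), (α ^ n) g = (α^[n]) g := by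
    intro n
    induction n with
    | zero => intro g; rfl
    | succ n ih =>
      intro g
      rw [pow_succ, MulAut.mul_apply, ih, Function.iterate_succ_apply]
  have hiter : ∀ g, (α^[p]) g = g := by
    intro g
    rw [← hiter0 p g, hpow]
    rfl
  have hnil : Group.IsNilpotent G :=
    Cfsg.Agent.S0033.result α (fun g hg => hfpf g hg) p hp hα
  refine ⟨?_, ?_, ?_⟩
  · intro h2
    subst h2
    have h := lcs_eq_bot_of_fpf (G := G) (p := 2) _ (fun L' _ E => hkk E) α hfpf hiter
    simpa using h
  · intro h3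
    subst h3
    exact lcs_eq_bot_of_fpf (G := G) (p := 3) 2 (fun L' _ E => lcT_three E) α hfpf hiter
  · exact lcs_eq_bot_of_fpf (G := G) (p := p) _ (fun L' _ E => hkk E) α hfpf hiter

end Cfsg.Agent.S3779
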