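import Mathlib
import Cfsg.Statements.S3335
import Cfsg.Agent.S2530

set_option autoImplicit false
open Cfsg

namespace Cfsg.Agent.S3335

open Equiv

/-! ### The presented group -/

/-- the relations of the statement, with `k` generators -/
def rels (k : ℕ) : Set (FreeGroup (Fin k)) :=
  {g : FreeGroup (Fin k) | ∃ i : Fin k, i.val = 0 ∧ g = FreeGroup.of i ^ 3} ∪
   {g | ∃ i : Fin k, 1 ≤ i.val ∧ g = FreeGroup.of i ^ 2} ∪
   {g | ∃ i j : Fin k, j.val = i.val + 1 ∧ g = (FreeGroup.of i * FreeGroup.of j) ^ 3} ∪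
   {g | ∃ i j : Fin k, i.val + 1 < j.val ∧ g = (FreeGroup.of i * FreeGroup.of j) ^ 2}

/-- the presented group -/
abbrev G (k : ℕ) : Type := PresentedGroup (rels k)

/-- the generators -/
def x {k : ℕ} (i : Fin k) : G k := PresentedGroup.of i

theorem x_cube {k : ℕ} (i : Fin k) (h : i.val = 0) : x i ^ 3 = 1 := by
  have hm : FreeGroup.of i ^ 3 ∈ rels k := Or.inl (Or.inl (Or.inl ⟨i, h, rfl⟩))
  have := PresentedGroup.one_of_mem hm
  rwa [map_pow] at this

theorem x_sq {k : ℕ} (i : Fin k) (h : 1 ≤ i.val) : x i ^ 2 = 1 := by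
  have hm : FreeGroup.of i ^ 2 ∈ rels k := Or.inl (Or.inl (Or.inr ⟨i, h, rfl⟩))
  have := PresentedGroup.one_of_mem hm
  rwa [map_pow] at this

theorem x_adj {k : ℕ} (i j : Fin k) (h : j.val = i.val + 1) : (x i * x j) ^ 3 = 1 := by
  have hm : (FreeGroup.of i * FreeGroup.of j) ^ 3 ∈ rels k := Or.inl (Or.inr ⟨i, j, h, rfl⟩)
  have := PresentedGroup.one_of_mem hm
  rwa [map_pow, map_mul] at this

theorem x_far {k : ℕ} (i j : Fin k) (h : i.val + 1 < j.val) : (x i * x j) ^ 2 = 1 := by
  have hm : (FreeGroup.of i * FreeGroup.of j) ^ 2 ∈ rels k := Or.inr ⟨i, j, h, rfl⟩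
  have := PresentedGroup.one_of_mem hm
  rwa [map_pow, map_mul] at this

/-- homomorphisms out of the presented group -/
def liftG {k : ℕ} {H : Type*} [Group H] (f : Fin k → H)
    (c1 : ∀ i : Fin k, i.val = 0 → f i ^ 3 = 1)
    (c2 : ∀ i : Fin k, 1 ≤ i.val → f i ^ 2 = 1)
    (c3 : ∀ i j : Fin k, j.val = i.val + 1 → (f i * f j) ^ 3 = 1)
    (c4 : ∀ i j : Fin k, i.val + 1 < j.val → (f i * f j) ^ 2 = 1) : G k →* H :=
  PresentedGroup.toGroup (f := f) (by
    rintro r (((⟨i, h, rfl⟩ | ⟨i, h, rfl⟩) | ⟨i, j, h, rfl⟩) | ⟨i, j, h, rfl⟩)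
    · rw [map_pow, FreeGroup.lift_apply_of]; exact c1 i h
    · rw [map_pow, FreeGroup.lift_apply_of]; exact c2 i h
    · rw [map_pow, map_mul, FreeGroup.lift_apply_of, FreeGroup.lift_apply_of]; exact c3 i j h
    · rw [map_pow, map_mul, FreeGroup.lift_apply_of, FreeGroup.lift_apply_of]; exact c4 i j h)

theorem liftG_x {k : ℕ} {H : Type*} [Group H] (f : Fin k → H)
    (c1 : ∀ i : Fin k, i.val = 0 → f i ^ 3 = 1)
    (c2 : ∀ i : Fin k, 1 ≤ i.val → f i ^ 2 = 1)
    (c3 : ∀ i j : Fin k, j.val = i.val + 1 → (f i * f j) ^ 3 = 1)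
    (c4 : ∀ i j : Fin k, i.val + 1 < j.val → (f i * f j) ^ 2 = 1) (i : Fin k) :
    liftG f c1 c2 c3 c4 (x i) = f i :=
  PresentedGroup.toGroup.of _

theorem hom_ext_x {k : ℕ} {H : Type*} [Group H] {φ ψ : G k →* H}
    (h : ∀ i : Fin k, φ (x i) = ψ (x i)) : φ = ψ :=
  PresentedGroup.ext h

/-! ### generic group computations -/

theorem pow_swap {H : Type*} [Group H] (a b : H) (N : ℕ) (h : (a * b) ^ N = 1) :
    (b * a) ^ N = 1 := by
  have : b * a = a⁻¹ * (a * b) * a := by group
  rw [this]
  have h2 : (a⁻¹ * (a * b) * a) ^ N = a⁻¹ * (a * b) ^ N * a := by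
    have := conj_pow (a := a⁻¹) (b := a * b) (i := N)
    rw [inv_inv] at this
    exact this
  rw [h2, h]
  group

/-- L1 -/
theorem inv_mul_pow_of_right_invol {H : Type*} [Group H] (a b : H) (N : ℕ)
    (h : (a * b) ^ N = 1) (hb : b ^ 2 = 1) : (a⁻¹ * b) ^ N = 1 := by
  have hb' : b⁻¹ = b := by
    rw [inv_eq_iff_mul_eq_one, ← pow_two]; exact hb
  have h1 : a⁻¹ * b = (b * a)⁻¹ := by rw [mul_inv_rev, hb']
  rw [h1, inv_pow, pow_swap a b N h, inv_one]

/-- L2 -/
theorem inv_mul_pow_of_left_invol {H : Type*} [Group H] (a b : H) (N : ℕ)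
    (h : (b * a) ^ N = 1) (ha : a ^ 2 = 1) : (a⁻¹ * b) ^ N = 1 := by
  have ha' : a⁻¹ = a := by
    rw [inv_eq_iff_mul_eq_one, ← pow_two]; exact ha
  rw [ha']
  exact pow_swap b a N h

theorem comm_of_sq {H : Type*} [Group H] (a b : H) (ha : a * a = 1) (hb : b * b = 1)
    (h : (a * b) ^ 2 = 1) : a * b = b * a := by
  have ha' : a⁻¹ = a := inv_eq_of_mul_eq_one_left ha
  have hb' : b⁻¹ = b := inv_eq_of_mul_eq_one_left hb
  have h1 : a * b = (a * b)⁻¹ := by
    rw [eq_inv_iff_mul_eq_one, ← pow_two]; exact h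
  rw [h1, mul_inv_rev, ha', hb']

theorem braid_of_cube {H : Type*} [Group H] (a b : H) (ha : a * a = 1) (hb : b * b = 1)
    (h : (a * b) ^ 3 = 1) : a * b * a = b * a * b := by
  have ha' : a⁻¹ = a := inv_eq_of_mul_eq_one_left ha
  have hb' : b⁻¹ = b := inv_eq_of_mul_eq_one_left hb
  have h1 : a * b * a = (b * a * b)⁻¹ := by
    rw [eq_inv_iff_mul_eq_one]
    rw [pow_succ, pow_two] at h
    simpa [mul_assoc] using h
  rw [h1, mul_inv_rev, mul_inv_rev, ha', hb', mul_assoc]

/-! ### the inverting automorphism -/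

theorem x_invol {k : ℕ} (i : Fin k) (h : 1 ≤ i.val) : (x i)⁻¹ = x i := by
  rw [inv_eq_iff_mul_eq_one, ← pow_two]; exact x_sq i h

/-- the endomorphism inverting every generator -/
def tauHom (k : ℕ) : G k →* G k :=
  liftG (fun i => (x i)⁻¹)
    (fun i h => by rw [inv_pow, x_cube i h, inv_one])
    (fun i h => by rw [inv_pow, x_sq i h, inv_one])
    (fun i j h => by
      have h1 : (x i)⁻¹ * (x j)⁻¹ = (x j * x i)⁻¹ := by rw [mul_inv_rev]
      rw [h1, inv_pow, pow_swap _ _ _ (x_adj i j h), inv_one])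
    (fun i j h => by
      have h1 : (x i)⁻¹ * (x j)⁻¹ = (x j * x i)⁻¹ := by rw [mul_inv_rev]
      rw [h1, inv_pow, pow_swap _ _ _ (x_far i j h), inv_one])

theorem tauHom_x {k : ℕ} (i : Fin k) : tauHom k (x i) = (x i)⁻¹ := liftG_x _ _ _ _ _ i

theorem tauHom_tauHom {k : ℕ} (g : G k) : tauHom k (tauHom k g) = g := by
  have : (tauHom k).comp (tauHom k) = MonoidHom.id _ := by
    apply hom_ext_x
    intro i
    rw [MonoidHom.comp_apply, tauHom_x, map_inv, tauHom_x, inv_inv, MonoidHom.id_apply]
  exact DFunLike.congr_fun this g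

/-- the inverting automorphism -/
def tau (k : ℕ) : MulAut (G k) where
  toFun := tauHom k
  invFun := tauHom k
  left_inv := tauHom_tauHom
  right_inv := tauHom_tauHom
  map_mul' := map_mul _

theorem tau_apply {k : ℕ} (g : G k) : tau k g = tauHom k g := rfl

theorem tau_x {k : ℕ} (i : Fin k) : tau k (x i) = (x i)⁻¹ := tauHom_x i

theorem tau_mul_tau (k : ℕ) : tau k * tau k = 1 := by
  ext g
  rw [MulAut.mul_apply, tau_apply, tau_apply, tauHom_tauHom, MulAut.one_apply]

/-- `(x i)⁻¹ * x j` has the order prescribed by the Coxeter matrix of type `A` -/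
theorem xinv_mul_adj {k : ℕ} (i j : Fin k) (h : j.val = i.val + 1 ∨ i.val = j.val + 1) :
    ((x i)⁻¹ * x j) ^ 3 = 1 := by
  rcases h with h | h
  · exact inv_mul_pow_of_right_invol _ _ _ (x_adj i j h) (x_sq j (by omega))
  · exact inv_mul_pow_of_left_invol _ _ _ (x_adj j i h) (x_sq i (by omega))

theorem xinv_mul_far {k : ℕ} (i j : Fin k) (h : i.val + 1 < j.val ∨ j.val + 1 < i.val) :
    ((x i)⁻¹ * x j) ^ 2 = 1 := by
  rcases h with h | h
  · exact inv_mul_pow_of_right_invol _ _ _ (x_far i j h) (x_sq j (by omega))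
  · exact inv_mul_pow_of_left_invol _ _ _ (x_far j i h) (x_sq i (by omega))

theorem rel_abac {H : Type*} [Group H] (a b c : H) (ha : a * a = 1) (hb : b * b = 1)
    (hc : c * c = 1) (hab : (a * b) ^ 3 = 1) (hbc : (b * c) ^ 3 = 1) (hac : (a * c) ^ 2 = 1) :
    (a * b * (a * c)) ^ 3 = 1 := by
  have hb' : b⁻¹ = b := inv_eq_of_mul_eq_one_left hb
  have hc' : c⁻¹ = c := inv_eq_of_mul_eq_one_left hc
  have hbr : a * b * a = b * a * b := braid_of_cube a b ha hb hab
  have hbr2 : b * c * b = c * b * c := braid_of_cube b c hb hc hbc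
  have hcom : a * c = c * a := comm_of_sq a c ha hc hac
  have key : a * b * (a * c) = (b * c) * (a * b) * (b * c)⁻¹ := by
    rw [mul_inv_rev, hb', hc']
    calc a * b * (a * c) = (a * b * a) * c := by group
      _ = (b * a * b) * c := by rw [hbr]
      _ = b * a * (c * c) * b * c := by rw [hc, mul_one]
      _ = b * (a * c) * (c * b * c) := by group
      _ = b * (c * a) * (b * c * b) := by rw [hcom, hbr2]
      _ = b * c * (a * b) * (c * b) := by group
  rw [key, conj_pow, hab, mul_one, mul_inv_cancel]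

theorem rel_abad {H : Type*} [Group H] (a b d : H) (ha : a * a = 1) (hb : b * b = 1)
    (hd : d * d = 1) (had : (a * d) ^ 2 = 1) (hbd : (b * d) ^ 2 = 1) :
    (a * b * (a * d)) ^ 2 = 1 := by
  have h1 : Commute a d := comm_of_sq a d ha hd had
  have h2 : Commute b d := comm_of_sq b d hb hd hbd
  have h3 : Commute (a * b * a) d := (h1.mul_left h2).mul_left h1
  have h4 : a * b * (a * d) = (a * b * a) * d := by group
  rw [h4, h3.mul_pow, pow_two d, hd, mul_one, pow_two]
  calc a * b * a * (a * b * a) = a * b * (a * a) * b * a := by group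
    _ = a * (b * b) * a := by rw [ha, mul_one]; group
    _ = 1 := by rw [hb, mul_one, ha]

/-! ### the Coxeter system -/

section Cox

variable {m : ℕ} {W : Type*} [Group W] (cs : CoxeterSystem (CoxeterMatrix.A (m + 2)) W)

theorem s0_si_cube (i : Fin (m + 1)) (h : i.val = 0) :
    (cs.simple 0 * cs.simple i.succ) ^ 3 = 1 := by
  have h1 := cs.simple_mul_simple_pow 0 i.succ
  rw [Cfsg.Agent.S2530.A_apply, if_neg (Fin.succ_ne_zero i).symm,
    if_pos (by right; simp [h])] at h1
  exact h1

theorem s0_si_sq (i : Fin (m + 1)) (h : 1 ≤ i.val) :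
    (cs.simple 0 * cs.simple i.succ) ^ 2 = 1 := by
  have h1 := cs.simple_mul_simple_pow 0 i.succ
  rw [Cfsg.Agent.S2530.A_apply, if_neg (Fin.succ_ne_zero i).symm,
    if_neg (by simp only [Fin.val_succ, Fin.val_zero]; omega)] at h1
  exact h1

theorem ss_adj (i j : Fin (m + 1)) (h : j.val = i.val + 1) :
    (cs.simple i.succ * cs.simple j.succ) ^ 3 = 1 := by
  have h1 := cs.simple_mul_simple_pow i.succ j.succ
  have hne : i.succ ≠ j.succ := by
    intro h'; rw [Fin.succ_inj] at h'; rw [h'] at h; omega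
  rw [Cfsg.Agent.S2530.A_apply, if_neg hne,
    if_pos (by simp only [Fin.val_succ]; omega)] at h1
  exact h1

theorem ss_far (i j : Fin (m + 1)) (h : i.val + 1 < j.val) :
    (cs.simple i.succ * cs.simple j.succ) ^ 2 = 1 := by
  have h1 := cs.simple_mul_simple_pow i.succ j.succ
  have hne : i.succ ≠ j.succ := by
    intro h'; rw [Fin.succ_inj] at h'; rw [h'] at h; omega
  rw [Cfsg.Agent.S2530.A_apply, if_neg hne,
    if_neg (by simp only [Fin.val_succ]; omega)] at h1
  exact h1

/-- the action of `W` on the presented group through the inverting automorphism -/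
noncomputable def phi : W →* MulAut (G (m + 1)) :=
  cs.lift ⟨fun _ => tau (m + 1), fun _ _ => by
    show (tau (m + 1) * tau (m + 1)) ^ _ = 1
    rw [tau_mul_tau, one_pow]⟩

theorem phi_simple (i : Fin (m + 2)) : phi cs (cs.simple i) = tau (m + 1) :=
  cs.lift_apply_simple _ i

/-- first components of the Coxeter generators in the semidirect product -/
def y : Fin (m + 2) → G (m + 1) := Fin.cases 1 (fun i => (x i)⁻¹)

theorem y_zero : y (0 : Fin (m + 2)) = 1 := rfl

theorem y_succ (i : Fin (m + 1)) : y i.succ = (x i)⁻¹ := rfl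

theorem tau_y (k : Fin (m + 2)) : tau (m + 1) (y k) = (y k)⁻¹ := by
  refine Fin.cases ?_ (fun i => ?_) k
  · rw [y_zero, map_one, inv_one]
  · rw [y_succ, map_inv, tau_x]

theorem y_rel (k l : Fin (m + 2)) : (y k * (y l)⁻¹) ^ (CoxeterMatrix.A (m + 2) k l) = 1 := by
  rw [Cfsg.Agent.S2530.A_apply]
  refine Fin.cases ?_ (fun i => ?_) k <;> refine Fin.cases ?_ (fun j => ?_) l
  · simp [y_zero]
  · rw [y_zero, y_succ, inv_inv, one_mul, if_neg (Fin.succ_ne_zero j).symm]
    by_cases hj : j.val = 0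
    · rw [if_pos (by right; simp [hj])]; exact x_cube j hj
    · rw [if_neg (by simp only [Fin.val_succ, Fin.val_zero]; omega)]; exact x_sq j (by omega)
  · rw [y_zero, y_succ, inv_one, mul_one, if_neg (Fin.succ_ne_zero i), inv_pow]
    by_cases hi : i.val = 0
    · rw [if_pos (by left; simp [hi]), x_cube i hi, inv_one]
    · rw [if_neg (by simp only [Fin.val_succ, Fin.val_zero]; omega), x_sq i (by omega), inv_one]
  · rw [y_succ, y_succ, inv_inv]
    by_cases hij : i = j
    · subst hij; rw [if_pos rfl, inv_mul_cancel, one_pow]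
    · rw [if_neg (by rw [Fin.succ_inj]; exact hij)]
      have hne : i.val ≠ j.val := fun h => hij (Fin.ext h)
      by_cases hadj : j.val = i.val + 1 ∨ i.val = j.val + 1
      · rw [if_pos (by simp only [Fin.val_succ]; omega)]
        exact xinv_mul_adj i j hadj
      · rw [if_neg (by simp only [Fin.val_succ]; omega)]
        exact xinv_mul_far i j (by omega)

/-- the Coxeter generators in the semidirect product -/
def f (k : Fin (m + 2)) : G (m + 1) ⋊[phi cs] W := ⟨y k, cs.simple k⟩

theorem pow_of_phi_one (g : G (m + 1)) (u : W) (hu : phi cs u = 1) (N : ℕ) :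
    (⟨g, u⟩ : G (m + 1) ⋊[phi cs] W) ^ N = ⟨g ^ N, u ^ N⟩ := by
  induction N with
  | zero => rw [pow_zero, pow_zero, pow_zero]; rfl
  | succ n ih =>
    rw [pow_succ, ih, pow_succ, pow_succ]
    ext
    · rw [SemidirectProduct.mul_left]
      show g ^ n * (phi cs (u ^ n)) g = g ^ n * g
      rw [map_pow, hu, one_pow, MulAut.one_apply]
    · rfl

theorem f_liftable : (CoxeterMatrix.A (m + 2)).IsLiftable (f cs) := by
  intro k l
  have h1 : f cs k * f cs l = ⟨y k * (y l)⁻¹, cs.simple k * cs.simple l⟩ := by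
    ext
    · rw [SemidirectProduct.mul_left]
      show y k * (phi cs (cs.simple k)) (y l) = _
      rw [phi_simple, tau_y]
    · rfl
  rw [h1, pow_of_phi_one cs _ _ (by rw [map_mul, phi_simple, phi_simple, tau_mul_tau]), y_rel,
    cs.simple_mul_simple_pow]
  rfl

/-- the section of the semidirect product -/
noncomputable def L2 : W →* G (m + 1) ⋊[phi cs] W := cs.lift ⟨f cs, f_liftable cs⟩

theorem L2_simple (k : Fin (m + 2)) : L2 cs (cs.simple k) = f cs k := cs.lift_apply_simple _ k

theorem L2_right (w : W) : (L2 cs w).right = w := by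
  have : (SemidirectProduct.rightHom.comp (L2 cs)) = MonoidHom.id W := by
    apply cs.ext_simple
    intro i
    rw [MonoidHom.comp_apply, L2_simple]; rfl
  exact DFunLike.congr_fun this w

end Cox

section Cox2

variable {m : ℕ} {W : Type*} [Group W] (cs : CoxeterSystem (CoxeterMatrix.A (m + 2)) W)

theorem s_comm0 (i : Fin (m + 1)) (h : 1 ≤ i.val) :
    cs.simple 0 * cs.simple i.succ = cs.simple i.succ * cs.simple 0 :=
  comm_of_sq _ _ (cs.simple_mul_simple_self 0) (cs.simple_mul_simple_self i.succ) (s0_si_sq cs i h)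

theorem s0s_mul (i j : Fin (m + 1)) (h : 1 ≤ i.val) :
    cs.simple 0 * cs.simple i.succ * (cs.simple 0 * cs.simple j.succ) =
      cs.simple i.succ * cs.simple j.succ := by
  rw [s_comm0 cs i h]
  calc cs.simple i.succ * cs.simple 0 * (cs.simple 0 * cs.simple j.succ)
      = cs.simple i.succ * (cs.simple 0 * cs.simple 0) * cs.simple j.succ := by group
    _ = cs.simple i.succ * cs.simple j.succ := by rw [cs.simple_mul_simple_self, mul_one]

/-- the map to the Coxeter group -/
noncomputable def pi : G (m + 1) →* W :=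
  liftG (fun i => cs.simple 0 * cs.simple i.succ)
    (fun i h => s0_si_cube cs i h)
    (fun i h => s0_si_sq cs i h)
    (fun i j h => by
      by_cases hi : 1 ≤ i.val
      · rw [s0s_mul cs i j hi]; exact ss_adj cs i j h
      · exact rel_abac _ _ _ (cs.simple_mul_simple_self 0) (cs.simple_mul_simple_self _)
          (cs.simple_mul_simple_self _) (s0_si_cube cs i (by omega)) (ss_adj cs i j h)
          (s0_si_sq cs j (by omega)))
    (fun i j h => by
      by_cases hi : 1 ≤ i.val
      · rw [s0s_mul cs i j hi]; exact ss_far cs i j h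
      · exact rel_abad _ _ _ (cs.simple_mul_simple_self 0) (cs.simple_mul_simple_self _)
          (cs.simple_mul_simple_self _) (s0_si_sq cs j (by omega)) (ss_far cs i j h))

theorem pi_x (i : Fin (m + 1)) : pi cs (x i) = cs.simple 0 * cs.simple i.succ :=
  liftG_x _ _ _ _ _ i

/-- every simple reflection goes to the first one -/
noncomputable def f2 : W →* W :=
  cs.lift ⟨fun _ => cs.simple 0, fun _ _ => by
    show (cs.simple 0 * cs.simple 0) ^ _ = 1
    rw [cs.simple_mul_simple_self, one_pow]⟩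

theorem f2_simple (i : Fin (m + 2)) : f2 cs (cs.simple i) = cs.simple 0 :=
  cs.lift_apply_simple _ i

theorem pi_tau (g : G (m + 1)) :
    pi cs (tau (m + 1) g) = cs.simple 0 * pi cs g * (cs.simple 0)⁻¹ := by
  have : (pi cs).comp (tau (m + 1)).toMonoidHom =
      (MulAut.conj (cs.simple 0)).toMonoidHom.comp (pi cs) := by
    apply hom_ext_x
    intro i
    simp only [MonoidHom.comp_apply, MulEquiv.coe_toMonoidHom, MulAut.conj_apply]
    rw [tau_x, map_inv, pi_x, mul_inv_rev, cs.inv_simple, cs.inv_simple, ← mul_assoc,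
      cs.simple_mul_simple_self, one_mul]
  exact DFunLike.congr_fun this g

theorem pi_phi (w : W) :
    ∀ g : G (m + 1), pi cs (phi cs w g) = f2 cs w * pi cs g * (f2 cs w)⁻¹ := by
  refine cs.simple_induction
    (p := fun w => ∀ g : G (m + 1), pi cs (phi cs w g) = f2 cs w * pi cs g * (f2 cs w)⁻¹)
    w ?_ ?_ ?_
  · intro i g
    rw [phi_simple, f2_simple, pi_tau]
  · intro g
    rw [map_one, map_one, MulAut.one_apply, one_mul, inv_one, mul_one]
  · intro w w' hw hw' g
    rw [map_mul, MulAut.mul_apply, hw, hw', map_mul, mul_inv_rev]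
    group

/-- the retraction of the semidirect product -/
noncomputable def Pi2 : G (m + 1) ⋊[phi cs] W →* W :=
  SemidirectProduct.lift (pi cs) (f2 cs) (fun w => MonoidHom.ext fun g => by
    simp only [MonoidHom.comp_apply, MulEquiv.coe_toMonoidHom, MulAut.conj_apply]
    exact pi_phi cs w g)

theorem Pi2_apply (z : G (m + 1) ⋊[phi cs] W) : Pi2 cs z = pi cs z.left * f2 cs z.right := rfl

theorem Pi2_L2 (w : W) : Pi2 cs (L2 cs w) = w := by
  have : (Pi2 cs).comp (L2 cs) = MonoidHom.id W := by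
    apply cs.ext_simple
    intro k
    rw [MonoidHom.comp_apply, L2_simple, Pi2_apply, MonoidHom.id_apply]
    show pi cs (y k) * f2 cs (cs.simple k) = cs.simple k
    rw [f2_simple]
    refine Fin.cases ?_ (fun i => ?_) k
    · rw [y_zero, map_one, one_mul]
    · rw [y_succ, map_inv, pi_x, mul_inv_rev, cs.inv_simple, cs.inv_simple, mul_assoc,
        cs.simple_mul_simple_self, mul_one]
  exact DFunLike.congr_fun this w

theorem phi_pi (g : G (m + 1)) : phi cs (pi cs g) = 1 := by
  have : (phi cs).comp (pi cs) = 1 := by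
    apply hom_ext_x
    intro i
    rw [MonoidHom.comp_apply, pi_x, map_mul, phi_simple, phi_simple, tau_mul_tau]
    rfl
  exact DFunLike.congr_fun this g

/-- the graph of `pi` -/
noncomputable def kappa : G (m + 1) →* G (m + 1) ⋊[phi cs] W where
  toFun g := ⟨g, pi cs g⟩
  map_one' := by
    ext
    · rfl
    · exact map_one (pi cs)
  map_mul' a b := by
    ext
    · rw [SemidirectProduct.mul_left]
      show a * b = a * (phi cs (pi cs a)) b
      rw [phi_pi]
      rfl
    · exact map_mul (pi cs) a b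

theorem kappa_left (g : G (m + 1)) : (kappa cs g).left = g := rfl

theorem L2_pi (g : G (m + 1)) : L2 cs (pi cs g) = kappa cs g := by
  have : (L2 cs).comp (pi cs) = kappa cs := by
    apply hom_ext_x
    intro i
    rw [MonoidHom.comp_apply, pi_x, map_mul, L2_simple, L2_simple]
    ext
    · rw [SemidirectProduct.mul_left]
      show y 0 * (phi cs (cs.simple 0)) (y i.succ) = x i
      rw [phi_simple, tau_y, y_zero, y_succ, inv_inv, one_mul]
    · show cs.simple 0 * cs.simple i.succ = pi cs (x i)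
      rw [pi_x]
  exact DFunLike.congr_fun this g

theorem pi_injective : Function.Injective (pi cs) := by
  intro a b h
  have h1 : kappa cs a = kappa cs b := by rw [← L2_pi, ← L2_pi, h]
  have := congrArg (fun z => z.left) h1
  exact this

theorem mem_range_pi (w : W) (h : f2 cs w = 1) : ∃ g, pi cs g = w := by
  refine ⟨(L2 cs w).left, ?_⟩
  have h1 := Pi2_L2 cs w
  rw [Pi2_apply, L2_right, h, mul_one] at h1
  exact h1

theorem f2_cases (w : W) : f2 cs w = 1 ∨ f2 cs w = cs.simple 0 := by
  refine cs.simple_induction_right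
    (p := fun w => f2 cs w = 1 ∨ f2 cs w = cs.simple 0) w (Or.inl (map_one _)) ?_
  intro w i ih
  rw [map_mul, f2_simple]
  rcases ih with h | h
  · right; rw [h, one_mul]
  · left; rw [h, cs.simple_mul_simple_self]

end Cox2

theorem main (m : ℕ) : Nonempty (G (m + 1) ≃* alternatingGroup (Fin (m + 3))) := by
  obtain ⟨cs, hcs⟩ := Cfsg.Agent.S2530.result (m + 2)
  have hsign : ∀ i : Fin (m + 2), Perm.sign (cs.simple i) = -1 := by
    intro i
    rw [hcs]
    apply Perm.sign_swap
    intro h
    have := congrArg Fin.val h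
    simp at this
  have hmem : ∀ g, pi cs g ∈ alternatingGroup (Fin (m + 3)) := by
    intro g
    rw [Perm.mem_alternatingGroup]
    have : (Perm.sign).comp (pi cs) = 1 := by
      apply hom_ext_x
      intro i
      rw [MonoidHom.comp_apply, pi_x, map_mul, hsign, hsign]
      rfl
    exact DFunLike.congr_fun this g
  have hsurj : ∀ w ∈ alternatingGroup (Fin (m + 3)), ∃ g, pi cs g = w := by
    intro w hw
    rw [Perm.mem_alternatingGroup] at hw
    have hs2 : Perm.sign (f2 cs w) = Perm.sign w := by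
      have : (Perm.sign).comp (f2 cs) = Perm.sign := by
        apply cs.ext_simple
        intro i
        rw [MonoidHom.comp_apply, f2_simple, hsign, hsign]
      exact DFunLike.congr_fun this w
    rcases f2_cases cs w with h | h
    · exact mem_range_pi cs w h
    · rw [h, hsign, hw] at hs2
      exact absurd hs2 (by decide)
  refine ⟨MulEquiv.ofBijective
    ((pi cs).codRestrict (alternatingGroup (Fin (m + 3))) hmem) ⟨?_, ?_⟩⟩
  · intro a b h
    apply pi_injective cs
    exact congrArg Subtype.val h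
  · rintro ⟨w, hw⟩
    obtain ⟨g, hg⟩ := hsurj w hw
    exact ⟨g, Subtype.ext hg⟩

/-- A presentation of the alternating group of degree n ≥ 3 on generators x_1, …, x_{n−2} (indexed here by 0, …, n−3): the first generator cubes to 1, every other generator squares to 1, the product of two consecutive generators has order dividing 3, and the product of two generators at distance at least 2 has order dividing 2. The group so presented is isomorphic to the alternating group of degree n. -/
theorem result (n : ℕ) (hn : 3 ≤ n) :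
    Nonempty (PresentedGroup
      ({g : FreeGroup (Fin (n - 2)) | ∃ i : Fin (n - 2), i.val = 0 ∧ g = FreeGroup.of i ^ 3} ∪
       {g | ∃ i : Fin (n - 2), 1 ≤ i.val ∧ g = FreeGroup.of i ^ 2} ∪
       {g | ∃ i j : Fin (n - 2), j.val = i.val + 1 ∧ g = (FreeGroup.of i * FreeGroup.of j) ^ 3} ∪
       {g | ∃ i j : Fin (n - 2), i.val + 1 < j.val ∧ g = (FreeGroup.of i * FreeGroup.of j) ^ 2})
      ≃* alternatingGroup (Fin n)) := by
  obtain ⟨m, rfl⟩ : ∃ m, n = m + 3 := ⟨n - 3, by omega⟩
  exact main m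

end Cfsg.Agent.S3335
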