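import Cfsg.Statements.S0802
import Cfsg.Agent.Lib.Helper41_SL2
import Cfsg.Agent.Lib.Helper41_SL2Triple
import Cfsg.Agent.Lib.Helper41_SL2Char2
import Cfsg.Agent.S3335

set_option autoImplicit false
open Cfsg

namespace Cfsg.Agent.S0802

set_option maxRecDepth 100000 in
/-- A nontrivial normal subgroup of `A₄` contains every element of order at most two. -/
theorem a4_fact : ∀ g : alternatingGroup (Fin 4), g ≠ 1 → ∀ t : alternatingGroup (Fin 4), t ^ 2 = 1 →
    ∃ a : alternatingGroup (Fin 4), t = 1 ∨ t = a * g * a⁻¹ ∨ t = g * (a * g * a⁻¹)⁻¹ := by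
  decide

set_option maxRecDepth 100000 in
/-- Two commuting involutions of `A₄` permuted by an element of order three. -/
theorem a4_elts : ∃ a b t : alternatingGroup (Fin 4), a * a = 1 ∧ b * b = 1 ∧ a ≠ 1 ∧ b ≠ 1 ∧
    a * b = b * a ∧ b * t = t * a ∧ t * t * t = 1 ∧ t ≠ 1 := by
  decide

/-- `2 ^ n - 1 = 3 k + 1` for odd `n`. -/
theorem two_pow_odd (n : ℕ) (hn : Odd n) : ∃ k, 2 ^ n - 1 = 3 * k + 1 := by
  obtain ⟨j, rfl⟩ := hn
  have h1 : (2 ^ (2 * j + 1)) % 3 = 2 := by
    rw [pow_succ, pow_mul, Nat.mul_mod, Nat.pow_mod]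
    norm_num
  have h2 : 0 < 2 ^ (2 * j + 1) := by positivity
  refine ⟨(2 ^ (2 * j + 1) - 1) / 3, ?_⟩
  generalize 2 ^ (2 * j + 1) = N at h1 h2 ⊢
  omega

/-- `3 ∣ 2 ^ n - 1` for even `n`. -/
theorem three_dvd_two_pow_even (n : ℕ) (hn : Even n) : 3 ∣ 2 ^ n - 1 := by
  obtain ⟨j, rfl⟩ := hn
  have h1 : (2 ^ (j + j)) % 3 = 1 := by
    rw [← two_mul, pow_mul, Nat.pow_mod]
    norm_num
  have h2 : 0 < 2 ^ (j + j) := by positivity
  generalize 2 ^ (j + j) = N at h1 h2 ⊢
  omega

/-- In a finite field of order `2 ^ n` with `n` odd, the only cube root of unity is `1`. -/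
theorem eq_one_of_cube {F : Type*} [Field F] [Fintype F] (n : ℕ) (hn : Odd n)
    (hF : Fintype.card F = 2 ^ n) (μ : F) (hμ : μ ^ 3 = 1) : μ = 1 := by
  have hμ0 : μ ≠ 0 := by
    rintro rfl
    norm_num at hμ
  have h1 := FiniteField.pow_card_sub_one_eq_one μ hμ0
  obtain ⟨k, hk⟩ := two_pow_odd n hn
  rw [hF, hk, pow_succ, pow_mul, hμ, one_pow, one_mul] at h1
  exact h1

/-- In a finite field of order `2 ^ n` with `n` even there is a primitive cube root of unity. -/
theorem exists_omega {F : Type*} [Field F] [Fintype F] (n : ℕ) (hn : Even n)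
    (hF : Fintype.card F = 2 ^ n) : ∃ ω : F, ω ^ 2 + ω + 1 = 0 := by
  classical
  have : Fact (Nat.Prime 3) := ⟨by norm_num⟩
  have hc : Nat.card Fˣ = 2 ^ n - 1 := by
    rw [Nat.card_eq_fintype_card, Fintype.card_units, hF]
  obtain ⟨u, hu⟩ := exists_prime_orderOf_dvd_card' (G := Fˣ) 3 (by
    rw [hc]; exact three_dvd_two_pow_even n hn)
  have h3 : (u : F) ^ 3 = 1 := by
    have := pow_orderOf_eq_one u
    rw [hu] at this
    have := congrArg Units.val this
    simpa using this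
  have h1 : (u : F) ≠ 1 := by
    intro h
    have : u = 1 := Units.ext h
    rw [this, orderOf_one] at hu
    norm_num at hu
  refine ⟨u, ?_⟩
  have : ((u : F) - 1) * ((u : F) ^ 2 + u + 1) = 0 := by linear_combination h3
  rcases mul_eq_zero.mp this with h | h
  · exact absurd (sub_eq_zero.mp h) h1
  · exact h

open Matrix in
/-- In characteristic two with `|F| = 2 ^ n`, `n` odd, `SL₂(F)` contains no copy of `A₄`. -/
theorem no_a4_char_two {F : Type*} [Field F] [Fintype F] (n : ℕ) (hn : Odd n)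
    (hF : Fintype.card F = 2 ^ n) (h2 : (2 : F) = 0)
    (θ : alternatingGroup (Fin 4) →* Matrix.SpecialLinearGroup (Fin 2) F)
    (hθ : Function.Injective θ) : False := by
  obtain ⟨a, b, t, haa, hbb, ha1, hb1, hab, hbt, httt, ht1⟩ := a4_elts
  have hAA : θ a * θ a = 1 := by rw [← map_mul, haa, map_one]
  have hBB : θ b * θ b = 1 := by rw [← map_mul, hbb, map_one]
  have hA1 : θ a ≠ 1 := fun h => ha1 (hθ (h.trans (map_one θ).symm))
  have hB1 : θ b ≠ 1 := fun h => hb1 (hθ (h.trans (map_one θ).symm))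
  have hT1 : θ t ≠ 1 := fun h => ht1 (hθ (h.trans (map_one θ).symm))
  have hAB : θ a * θ b = θ b * θ a := by rw [← map_mul, hab, map_mul]
  have hBT : θ b * θ t = θ t * θ a := by rw [← map_mul, hbt, map_mul]
  have hTTT : θ t * θ t * θ t = 1 := by rw [← map_mul, ← map_mul, httt, map_one]
  set A := θ a
  set B := θ b
  set T := θ t
  obtain ⟨v, hv, hAv⟩ := Cfsg.Agent.Lib.Helper41_SL2Char2.exists_fixed_of_trace h2 A
    (Cfsg.Agent.Lib.Helper41_SL2Char2.trace_eq_zero_of_mul_self h2 A hAA)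
  have smul_cancel : ∀ c : F, c • v = v → c = 1 := by
    intro c hc
    have : (c - 1) • v = 0 := by rw [sub_smul, one_smul, hc, sub_self]
    rcases smul_eq_zero.mp this with h | h
    · exact sub_eq_zero.mp h
    · exact absurd h hv
  -- B fixes v
  have hABv : (A : Matrix (Fin 2) (Fin 2) F) *ᵥ ((B : Matrix (Fin 2) (Fin 2) F) *ᵥ v)
      = (B : Matrix (Fin 2) (Fin 2) F) *ᵥ v := by
    rw [Matrix.mulVec_mulVec, ← Matrix.SpecialLinearGroup.coe_mul, hAB,
      Matrix.SpecialLinearGroup.coe_mul, ← Matrix.mulVec_mulVec, hAv]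
  obtain ⟨c, hc⟩ := Cfsg.Agent.Lib.Helper41_SL2Char2.fixed_line A hA1 v _ hv hAv hABv
  have hBv : (B : Matrix (Fin 2) (Fin 2) F) *ᵥ v = v := by
    have h1 : (B : Matrix (Fin 2) (Fin 2) F) *ᵥ ((B : Matrix (Fin 2) (Fin 2) F) *ᵥ v) = v := by
      rw [Matrix.mulVec_mulVec, ← Matrix.SpecialLinearGroup.coe_mul, hBB,
        Matrix.SpecialLinearGroup.coe_one, Matrix.one_mulVec]
    rw [hc, Matrix.mulVec_smul, hc, smul_smul] at h1
    have hc2 : c ^ 2 = 1 := by rw [pow_two]; exact smul_cancel _ h1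
    rw [hc, Cfsg.Agent.Lib.Helper41_SL2Char2.eq_one_of_sq h2 c hc2, one_smul]
  -- T maps v into the fixed line of B
  have hBTv : (B : Matrix (Fin 2) (Fin 2) F) *ᵥ ((T : Matrix (Fin 2) (Fin 2) F) *ᵥ v)
      = (T : Matrix (Fin 2) (Fin 2) F) *ᵥ v := by
    rw [Matrix.mulVec_mulVec, ← Matrix.SpecialLinearGroup.coe_mul, hBT,
      Matrix.SpecialLinearGroup.coe_mul, ← Matrix.mulVec_mulVec, hAv]
  obtain ⟨μ, hμ⟩ := Cfsg.Agent.Lib.Helper41_SL2Char2.fixed_line B hB1 v _ hv hBv hBTv
  have hμ3 : μ ^ 3 = 1 := by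
    have h1 : (T : Matrix (Fin 2) (Fin 2) F) *ᵥ ((T : Matrix (Fin 2) (Fin 2) F) *ᵥ
        ((T : Matrix (Fin 2) (Fin 2) F) *ᵥ v)) = v := by
      rw [Matrix.mulVec_mulVec, Matrix.mulVec_mulVec, ← Matrix.SpecialLinearGroup.coe_mul,
        ← Matrix.SpecialLinearGroup.coe_mul, hTTT, Matrix.SpecialLinearGroup.coe_one,
        Matrix.one_mulVec]
    rw [hμ, Matrix.mulVec_smul, hμ, Matrix.mulVec_smul, Matrix.mulVec_smul, hμ, smul_smul,
      smul_smul] at h1
    have := smul_cancel _ h1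
    rw [← this]; ring
  have hμ1 := eq_one_of_cube n hn hF μ hμ3
  rw [hμ1, one_smul] at hμ
  have hTT := Cfsg.Agent.Lib.Helper41_SL2Char2.mul_self_of_fixed h2 T v hv hμ
  rw [hTT, one_mul] at hTTT
  exact hT1 hTTT

/-- PSL_2(p^n) has a subgroup isomorphic to A_4 if and only if it is not the case that p = 2 and n is odd. -/
theorem result {F : Type*} [Field F] [Fintype F] (p n : ℕ) [Fact p.Prime] [CharP F p] (hF : Fintype.card F = p ^ n) : (∃ H : Subgroup (Matrix.ProjectiveSpecialLinearGroup (Fin 2) F), Nonempty (H ≃* alternatingGroup (Fin 4))) ↔ ¬ (p = 2 ∧ Odd n) := by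
  classical
  have hp : p.Prime := Fact.out
  constructor
  · rintro ⟨H, ⟨e⟩⟩ ⟨hp2, hn⟩
    subst hp2
    have h2 : (2 : F) = 0 := by
      have := CharP.cast_eq_zero F 2
      exact_mod_cast this
    have hbij : Function.Bijective (QuotientGroup.mk' (Subgroup.center
        (Matrix.SpecialLinearGroup (Fin 2) F))) :=
      ⟨Cfsg.Agent.Lib.Helper41_SL2Char2.mk_injective h2, QuotientGroup.mk'_surjective _⟩
    let E := MulEquiv.ofBijective _ hbij
    let θ : alternatingGroup (Fin 4) →* Matrix.SpecialLinearGroup (Fin 2) F :=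
      (E.symm.toMonoidHom.comp H.subtype).comp e.symm.toMonoidHom
    have hθ : Function.Injective θ := by
      intro x y hxy
      have h1 : E.symm (H.subtype (e.symm x)) = E.symm (H.subtype (e.symm y)) := hxy
      exact e.symm.injective (H.subtype_injective (E.symm.injective h1))
    exact no_a4_char_two n hn hF h2 θ hθ
  · intro hpn
    -- a point of the conic
    obtain ⟨a, b, hab⟩ : ∃ a b : F, a ^ 2 - 1 * a + 1 + (b ^ 2 + 1 * b) = 0 := by
      by_cases h2 : (2 : F) = 0
      · have hp2 : p = 2 := by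
          have h := (CharP.cast_eq_zero_iff F p 2).mp (by exact_mod_cast h2)
          exact (Nat.prime_dvd_prime_iff_eq hp Nat.prime_two).mp h
        have hn : Even n := by
          rw [← Nat.not_odd_iff_even]
          intro ho
          exact hpn ⟨hp2, ho⟩
        rw [hp2] at hF
        obtain ⟨ω, hω⟩ := exists_omega n hn hF
        exact ⟨ω, 0, by linear_combination hω - ω * h2⟩
      · exact Cfsg.Agent.Lib.Helper41_SL2Triple.exists_sol_of_odd 1 1 h2
    obtain ⟨U, V, hUc, hU, hV, hUV⟩ :=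
      Cfsg.Agent.Lib.Helper41_SL2Triple.exists_pair_of_sol 1 1 a b hab
    set g₀ : Matrix.ProjectiveSpecialLinearGroup (Fin 2) F := QuotientGroup.mk V with hg₀
    set g₁ : Matrix.ProjectiveSpecialLinearGroup (Fin 2) F := QuotientGroup.mk U with hg₁
    have r0 : g₀ ^ 3 = 1 := by
      apply Cfsg.Agent.Lib.Helper41_SL2Triple.mk_pow_three_of_trace
      rw [hV, one_pow]
    have r1 : g₁ ^ 2 = 1 := Cfsg.Agent.Lib.Helper41_SL2Triple.mk_pow_two_of_trace U hU
    have r2 : (g₀ * g₁) ^ 3 = 1 := by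
      rw [hg₀, hg₁, ← QuotientGroup.mk_mul]
      apply Cfsg.Agent.Lib.Helper41_SL2Triple.mk_pow_three_of_trace
      rw [Matrix.SpecialLinearGroup.coe_mul, Matrix.trace_mul_comm,
        ← Matrix.SpecialLinearGroup.coe_mul, hUV, one_pow]
    have hg1ne : g₁ ≠ 1 := by
      intro h1
      rw [hg₁, QuotientGroup.eq_one_iff] at h1
      exact Cfsg.Agent.Lib.Helper41_SL2Triple.not_mem_center_of_coe U hUc h1
    let f : Fin 2 → Matrix.ProjectiveSpecialLinearGroup (Fin 2) F := ![g₀, g₁]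
    have c1 : ∀ i : Fin 2, i.val = 0 → f i ^ 3 = 1 := by
      intro i hi
      have : i = 0 := Fin.ext hi
      subst this
      exact r0
    have c2 : ∀ i : Fin 2, 1 ≤ i.val → f i ^ 2 = 1 := by
      intro i hi
      have : i = 1 := by apply Fin.ext; have := i.2; simp only [Fin.val_one]; omega
      subst this
      exact r1
    have c3 : ∀ i j : Fin 2, j.val = i.val + 1 → (f i * f j) ^ 3 = 1 := by
      intro i j hij
      have hi : i = 0 := by apply Fin.ext; have := j.2; simp only [Fin.val_zero]; omega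
      have hj : j = 1 := by apply Fin.ext; have := j.2; simp only [Fin.val_one]; omega
      subst hi; subst hj
      exact r2
    have c4 : ∀ i j : Fin 2, i.val + 1 < j.val → (f i * f j) ^ 2 = 1 := by
      intro i j hij
      have := j.2
      omega
    obtain ⟨e⟩ := Cfsg.Agent.S3335.main 1
    have e' : Cfsg.Agent.S3335.G 2 ≃* alternatingGroup (Fin 4) := e
    let ψ := Cfsg.Agent.S3335.liftG f c1 c2 c3 c4
    let φ : alternatingGroup (Fin 4) →* Matrix.ProjectiveSpecialLinearGroup (Fin 2) F :=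
      ψ.comp e'.symm.toMonoidHom
    have hφt : φ (e' (Cfsg.Agent.S3335.x 1)) = g₁ := by
      show ψ (e'.symm (e' (Cfsg.Agent.S3335.x 1))) = g₁
      rw [MulEquiv.symm_apply_apply]
      exact Cfsg.Agent.S3335.liftG_x f c1 c2 c3 c4 1
    have ht2 : (e' (Cfsg.Agent.S3335.x 1)) ^ 2 = 1 := by
      rw [← map_pow, Cfsg.Agent.S3335.x_sq 1 (by simp), map_one]
    have hinj : Function.Injective φ := by
      rw [injective_iff_map_eq_one]
      intro g hg
      by_contra hg1
      obtain ⟨a, h | h | h⟩ := a4_fact g hg1 _ ht2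
      · apply hg1ne
        rw [← hφt, h, map_one]
      · apply hg1ne
        rw [← hφt, h, map_mul, map_mul, hg, mul_one, ← map_mul, mul_inv_cancel, map_one]
      · apply hg1ne
        rw [← hφt, h, map_mul, map_inv, map_mul, map_mul, hg, mul_one, ← map_mul, mul_inv_cancel,
          map_one, inv_one, one_mul]
    exact ⟨φ.range, ⟨(MonoidHom.ofInjective hinj).symm⟩⟩

end Cfsg.Agent.S0802
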