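import Cfsg.Statements.S5940
import Cfsg.Agent.S0802
import Cfsg.Agent.Lib.Helper99_PSL2Prime

set_option autoImplicit false
open Cfsg

namespace Cfsg.Agent.S5940

open scoped MatrixGroups commutatorElement
open Cfsg.Agent.Lib.Helper99_PSL2Prime

/-- the 3-cycle `(0 1 2)` in `A₄` -/
def c3 : alternatingGroup (Fin 4) :=
  ⟨Equiv.swap (0 : Fin 4) 1 * Equiv.swap (1 : Fin 4) 2, Equiv.Perm.mem_alternatingGroup.2 (by decide)⟩

/-- the 3-cycle `(0 1 3)` in `A₄` -/
def c3' : alternatingGroup (Fin 4) :=
  ⟨Equiv.swap (0 : Fin 4) 1 * Equiv.swap (1 : Fin 4) 3, Equiv.Perm.mem_alternatingGroup.2 (by decide)⟩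

theorem alt_comm_pow2 : ⁅c3, c3'⁆ ^ 2 = 1 := by decide

theorem alt_comm_ne : ⁅c3, c3'⁆ ≠ 1 := by decide

theorem alt_sq_not_comm : ¬ Commute (c3 ^ 2) (c3' ^ 2) := by
  unfold Commute SemiconjBy
  decide

/-- Let p ≥ 5 be a prime with p ≡ ±3 (mod 8) and p ≢ ±1 (mod 10), and F a field with p elements. Then PSL_2(F) has a maximal subgroup isomorphic to the alternating group A_4. -/
theorem result {F : Type*} [Field F] [Fintype F] (p : ℕ) [Fact p.Prime] (hF : Fintype.card F = p) (h5 : 5 ≤ p) (h8 : p % 8 = 3 ∨ p % 8 = 5) (h10 : p % 10 ≠ 1 ∧ p % 10 ≠ 9) : ∃ H : Subgroup (Matrix.ProjectiveSpecialLinearGroup (Fin 2) F), IsCoatom H ∧ Nonempty (H ≃* alternatingGroup (Fin 4)) := by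
  classical
  have hpp : p.Prime := Fact.out
  have : CharP F p := charP_of_card p hF
  have hp2 : p ≠ 2 := by omega
  obtain ⟨H, ⟨e⟩⟩ := (Cfsg.Agent.S0802.result p 1 (by rw [hF, pow_one])).2
    (fun h => hp2 h.1)
  have hcardH : Nat.card H = 12 := by
    rw [Nat.card_congr e.toEquiv, Nat.card_eq_fintype_card]
    decide
  have hcardG := card_PSL2_prime p hp2 hF
  have hbig : 120 ≤ p * (p ^ 2 - 1) := by
    have h25 : 5 ^ 2 ≤ p ^ 2 := Nat.pow_le_pow_left h5 2
    calc 120 = 5 * (5 ^ 2 - 1) := by norm_num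
      _ ≤ p * (p ^ 2 - 1) := Nat.mul_le_mul h5 (by omega)
  refine ⟨H, ⟨?_, fun M hHM => ?_⟩, ⟨e⟩⟩
  · rintro rfl
    have : Nat.card (⊤ : Subgroup PSL(2, F)) = Nat.card PSL(2, F) := Subgroup.card_top
    omega
  · rcases psl2_cases p hp2 hF M with h | h | h | h
    · exact h
    · exfalso
      have h1 := transfer_comm_pow hHM.le e p h c3 c3'
      have h3 := alt_comm_pow2
      have hne := alt_comm_ne
      have hd1 := orderOf_dvd_of_pow_eq_one h1
      have hd3 := orderOf_dvd_of_pow_eq_one h3
      have hco : Nat.Coprime p 2 := (Nat.coprime_primes hpp Nat.prime_two).2 hp2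
      have := Nat.dvd_gcd hd1 hd3
      rw [hco.gcd_eq_one, Nat.dvd_one, orderOf_eq_one_iff] at this
      exact hne this
    · exfalso
      exact alt_sq_not_comm (transfer_sq_comm hHM.le e h c3 c3')
    · have hdvd : Nat.card H ∣ Nat.card M := Subgroup.card_dvd_of_le hHM.le
      have hne : Nat.card H ≠ Nat.card M := by
        intro heq
        exact hHM.ne (Subgroup.eq_of_le_of_card_ge hHM.le heq.ge)
      have hMG : Nat.card M ∣ Nat.card PSL(2, F) := Subgroup.card_subgroup_dvd_card M
      rw [hcardH] at hdvd hne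
      have hodd : p % 2 = 1 := by omega
      rcases h with h | h | h
      · exfalso; omega
      · exfalso
        rw [h] at hMG
        obtain ⟨k, hk⟩ := hMG
        have h9 : p ^ 2 % 16 = 9 := by
          have : p % 16 = 3 ∨ p % 16 = 11 ∨ p % 16 = 5 ∨ p % 16 = 13 := by omega
          rcases this with h | h | h | h <;> simp [Nat.pow_mod, h]
        have h8' : (p ^ 2 - 1) % 16 = 8 := by omega
        have hm : (p * (p ^ 2 - 1)) % 16 = 8 := by
          have : p % 16 = 3 ∨ p % 16 = 11 ∨ p % 16 = 5 ∨ p % 16 = 13 := by omega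
          rw [Nat.mul_mod, h8']
          rcases this with h | h | h | h <;> simp [h]
        omega
      · rw [h] at hMG
        obtain ⟨k, hk⟩ := hMG
        have hcases : p % 10 = 3 ∨ p % 10 = 5 ∨ p % 10 = 7 := by omega
        rcases hcases with hc | hc | hc
        · exfalso
          have h4 : p ^ 2 % 5 = 4 := by
            have : p % 5 = 3 := by omega
            simp [Nat.pow_mod, this]
          have h3' : (p ^ 2 - 1) % 5 = 3 := by
            have : 1 ≤ p ^ 2 := Nat.one_le_pow _ _ (by omega)
            omega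
          have hm : (p * (p ^ 2 - 1)) % 5 = 4 := by
            have : p % 5 = 3 := by omega
            rw [Nat.mul_mod, h3', this]
          omega
        · -- `p = 5`
          have hp5 : p = 5 := by
            have : 5 ∣ p := by omega
            exact ((Nat.prime_dvd_prime_iff_eq Nat.prime_five hpp).1 this).symm
          subst hp5
          have hG : Nat.card PSL(2, F) = 60 := by
            have : 5 * (5 ^ 2 - 1) = 120 := by norm_num
            omega
          apply Subgroup.eq_top_of_card_eq
          rw [h, hG]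
        · exfalso
          have h4 : p ^ 2 % 5 = 4 := by
            have : p % 5 = 2 := by omega
            simp [Nat.pow_mod, this]
          have h3' : (p ^ 2 - 1) % 5 = 3 := by
            have : 1 ≤ p ^ 2 := Nat.one_le_pow _ _ (by omega)
            omega
          have hm : (p * (p ^ 2 - 1)) % 5 = 1 := by
            have : p % 5 = 2 := by omega
            rw [Nat.mul_mod, h3', this]
          omega

end Cfsg.Agent.S5940
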