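import Cfsg.Statements.S2401
import Cfsg.Agent.Lib.Helper66_StMain

set_option autoImplicit false
open Cfsg

namespace Cfsg.Agent.S2401

open Cfsg.Agent.Lib.Helper66_StCalc Matrix

/-- the index type of the generators -/
abbrev Idx (n : ℕ) := {ij : Fin n × Fin n // ij.1 ≠ ij.2}

/-- the relators of the statement -/
def relsS (n : ℕ) (K : Type*) [Field K] : Set (FreeGroup (Idx n × K)) :=
  ({g : FreeGroup ({ij : Fin n × Fin n // ij.1 ≠ ij.2} × K) | ∃ (a : {ij : Fin n × Fin n // ij.1 ≠ ij.2}) (t u : K),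
            g = FreeGroup.of (a, t) * FreeGroup.of (a, u) * (FreeGroup.of (a, t + u))⁻¹} ∪
          {g | ∃ (a b : {ij : Fin n × Fin n // ij.1 ≠ ij.2}) (t u : K), a.1.1 ≠ b.1.2 ∧ a.1.2 ≠ b.1.1 ∧
            g = FreeGroup.of (a, t) * FreeGroup.of (b, u) * (FreeGroup.of (a, t))⁻¹ * (FreeGroup.of (b, u))⁻¹} ∪
          {g | ∃ (a b : {ij : Fin n × Fin n // ij.1 ≠ ij.2}) (h : a.1.1 ≠ b.1.2) (t u : K), a.1.2 = b.1.1 ∧
            g = FreeGroup.of (a, t) * FreeGroup.of (b, u) * (FreeGroup.of (a, t))⁻¹ * (FreeGroup.of (b, u))⁻¹ *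
              (FreeGroup.of (⟨(a.1.1, b.1.2), h⟩, t * u))⁻¹})

variable {K : Type*} [Field K] (n : ℕ)

/-- the images of the generators -/
def f₀ (K : Type*) [Field K] (n : ℕ) (p : Idx n × K) : Matrix.SpecialLinearGroup (Fin n) K :=
  Matrix.SpecialLinearGroup.transvection p.1.2 p.2

theorem f₀_eq (a : Idx n) (t : K) : f₀ K n (a, t) = TT (Fin n) K a.1.1 a.1.2 t :=
  (TT_of_ne a.2 t).symm

theorem lift_relsS : ∀ r ∈ relsS n K, FreeGroup.lift (f₀ K n) r = 1 := by
  have hT := stRelAB_TT (ι := Fin n) (K := K)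
  rintro r ((⟨a, t, u, rfl⟩ | ⟨a, b, t, u, h1, h2, rfl⟩) | ⟨a, b, h, t, u, h2, rfl⟩)
  · simp only [map_mul, map_inv, FreeGroup.lift_apply_of, f₀_eq]
    rw [hT.add, mul_inv_cancel]
  · simp only [map_mul, map_inv, FreeGroup.lift_apply_of, f₀_eq]
    rw [hT.comm _ _ _ _ t u a.2 b.2 h1 h2]
    group
  · simp only [map_mul, map_inv, FreeGroup.lift_apply_of, f₀_eq]
    obtain ⟨⟨a1, a2⟩, ha⟩ := a
    obtain ⟨⟨b1, b2⟩, hb⟩ := b
    simp only at h h2 ha hb ⊢
    subst h2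
    rw [hT.comm3 a1 a2 b2 t u ha hb h, mul_inv_cancel]

/-- the natural map -/
def e₀ (K : Type*) [Field K] (n : ℕ) : PresentedGroup (relsS n K) →* Matrix.SpecialLinearGroup (Fin n) K :=
  PresentedGroup.toGroup (lift_relsS n)

theorem e₀_of (a : Idx n) (t : K) :
    e₀ K n (PresentedGroup.of (a, t)) = Matrix.SpecialLinearGroup.transvection a.2 t :=
  PresentedGroup.toGroup.of (lift_relsS n)

/-- the root elements of the presented group -/
def x₀ (K : Type*) [Field K] (n : ℕ) (i j : Fin n) (t : K) : PresentedGroup (relsS n K) :=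
  if h : i ≠ j then PresentedGroup.of (⟨(i, j), h⟩, t) else 1

theorem x₀_of_ne {i j : Fin n} (hij : i ≠ j) (t : K) :
    x₀ K n i j t = PresentedGroup.of (⟨(i, j), hij⟩, t) := by
  unfold x₀
  rw [dif_pos hij]

theorem x₀_diag (i : Fin n) (t : K) : x₀ K n i i t = 1 := by
  unfold x₀
  rw [dif_neg (fun h => h rfl)]

theorem stRelAB_x₀ : StRelAB (x₀ K n) := by
  have key : ∀ r ∈ relsS n K, PresentedGroup.mk (relsS n K) r = 1 :=
    fun r hr => PresentedGroup.one_of_mem hr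
  have mk_of : ∀ p : Idx n × K, PresentedGroup.mk (relsS n K) (FreeGroup.of p) =
      PresentedGroup.of p := fun p => rfl
  refine ⟨?_, ?_, ?_, ?_⟩
  · intro i t
    exact x₀_diag n i t
  · intro i j t u
    by_cases hij : i = j
    · subst hij
      rw [x₀_diag, x₀_diag, x₀_diag, one_mul]
    · rw [x₀_of_ne n hij, x₀_of_ne n hij, x₀_of_ne n hij]
      have := key _ (Or.inl (Or.inl ⟨⟨(i, j), hij⟩, t, u, rfl⟩))
      simp only [map_mul, map_inv, mk_of] at this
      exact mul_inv_eq_one.mp this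
  · intro i j k l t u hij hkl hil hjk
    rw [x₀_of_ne n hij, x₀_of_ne n hkl]
    have := key _ (Or.inl (Or.inr ⟨⟨(i, j), hij⟩, ⟨(k, l), hkl⟩, t, u, hil, hjk, rfl⟩))
    simp only [map_mul, map_inv, mk_of] at this
    rw [mul_inv_eq_one, mul_inv_eq_iff_eq_mul] at this
    exact this
  · intro i j l t u hij hjl hil
    rw [x₀_of_ne n hij, x₀_of_ne n hjl, x₀_of_ne n hil]
    have := key _ (Or.inr ⟨⟨(i, j), hij⟩, ⟨(j, l), hjl⟩, hil, t, u, rfl, rfl⟩)
    simp only [map_mul, map_inv, mk_of] at this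
    exact mul_inv_eq_one.mp this

theorem stRel_x₀ (hn : 3 ≤ n) : StRel (x₀ K n) := by
  refine { toStRelAB := stRelAB_x₀ n, rank1 := ?_ }
  intro i j t u hij ht
  obtain ⟨k, -, hk⟩ := Finset.exists_mem_notMem_of_card_lt_card
    (s := ({i, j} : Finset (Fin n))) (t := Finset.univ) (by
      rw [Finset.card_univ, Fintype.card_fin]
      exact lt_of_le_of_lt (Finset.card_le_two) (by omega))
  rw [Finset.mem_insert, Finset.mem_singleton, not_or] at hk
  have := (stRelAB_x₀ (K := K) n).rank1_of_third i j k t u hij (Ne.symm hk.1) (Ne.symm hk.2) ht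
  rw [MulAut.conj_apply] at this
  exact this

theorem x₀_closure : Subgroup.closure {g | ∃ i j t, g = x₀ K n i j t} = ⊤ := by
  rw [eq_top_iff, ← PresentedGroup.closure_range_of (relsS n K), Subgroup.closure_le]
  rintro _ ⟨⟨a, t⟩, rfl⟩
  apply Subgroup.subset_closure
  refine ⟨a.1.1, a.1.2, t, ?_⟩
  rw [x₀_of_ne n a.2]

theorem e₀_x₀ (i j : Fin n) (t : K) : e₀ K n (x₀ K n i j t) = TT (Fin n) K i j t := by
  by_cases hij : i = j
  · subst hij
    rw [x₀_diag, TT_diag, map_one]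
  · rw [x₀_of_ne n hij, e₀_of, TT_of_ne hij]

theorem e₀_bijective [Finite K] (hn : 3 ≤ n) : Function.Bijective (e₀ K n) := by
  have : Nontrivial (Fin n) := Fin.nontrivial_iff_two_le.mpr (by omega)
  constructor
  · exact injective_of_stRel K (Fin n) (by rw [Fintype.card_fin]; omega) (stRel_x₀ n hn)
      (x₀_closure n) (e₀ K n) (e₀_x₀ n)
  · intro A
    refine Cfsg.Agent.Lib.Helper5_SLGen.transvection_induction
      (fun A => ∃ g, e₀ K n g = A) ?_ ?_ A
    · intro i j hij c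
      exact ⟨PresentedGroup.of (⟨(i, j), hij⟩, c), e₀_of n _ c⟩
    · rintro A B ⟨g, rfl⟩ ⟨g', rfl⟩
      exact ⟨g * g', map_mul _ _ _⟩

theorem main [Finite K] (hn : 3 ≤ n) :
    ∃ e : PresentedGroup (relsS n K) ≃* Matrix.SpecialLinearGroup (Fin n) K,
      ∀ (a : Idx n) (t : K), ((e (PresentedGroup.of (a, t)) : Matrix (Fin n) (Fin n) K)) =
        Matrix.transvection a.1.1 a.1.2 t := by
  refine ⟨MulEquiv.ofBijective (e₀ K n) (e₀_bijective n hn), ?_⟩
  intro a t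
  rw [MulEquiv.ofBijective_apply, e₀_of, Matrix.SpecialLinearGroup.transvection_coe]
  rfl

/-- The Steinberg presentation of `SL_n` over a finite field for `n ≥ 3`: the group generated by symbols `x_ij(t)` (`i ≠ j`, `t` in the field) subject to `x_ij(t) x_ij(u) = x_ij(t + u)` and, for `i ≠ l`, `x_ij(t) x_kl(u) x_ij(t)⁻¹ x_kl(u)⁻¹ = x_il(tu)` if `j = k` and `= 1` if `j ≠ k`, is isomorphic to `SL_n` by an isomorphism sending `x_ij(t)` to the elementary matrix `1 + t E_ij`. -/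
theorem result {K : Type*} [Field K] [Finite K] (n : ℕ) (hn : 3 ≤ n) :
    ∃ e : PresentedGroup
        ({g : FreeGroup ({ij : Fin n × Fin n // ij.1 ≠ ij.2} × K) | ∃ (a : {ij : Fin n × Fin n // ij.1 ≠ ij.2}) (t u : K),
            g = FreeGroup.of (a, t) * FreeGroup.of (a, u) * (FreeGroup.of (a, t + u))⁻¹} ∪
          {g | ∃ (a b : {ij : Fin n × Fin n // ij.1 ≠ ij.2}) (t u : K), a.1.1 ≠ b.1.2 ∧ a.1.2 ≠ b.1.1 ∧
            g = FreeGroup.of (a, t) * FreeGroup.of (b, u) * (FreeGroup.of (a, t))⁻¹ * (FreeGroup.of (b, u))⁻¹} ∪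
          {g | ∃ (a b : {ij : Fin n × Fin n // ij.1 ≠ ij.2}) (h : a.1.1 ≠ b.1.2) (t u : K), a.1.2 = b.1.1 ∧
            g = FreeGroup.of (a, t) * FreeGroup.of (b, u) * (FreeGroup.of (a, t))⁻¹ * (FreeGroup.of (b, u))⁻¹ *
              (FreeGroup.of (⟨(a.1.1, b.1.2), h⟩, t * u))⁻¹}) ≃* Matrix.SpecialLinearGroup (Fin n) K,
      ∀ (a : {ij : Fin n × Fin n // ij.1 ≠ ij.2}) (t : K), ((e (PresentedGroup.of (a, t)) : Matrix (Fin n) (Fin n) K)) = Matrix.transvection a.1.1 a.1.2 t := by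
  exact main n hn

end Cfsg.Agent.S2401
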