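import Cfsg.Statements.S0292
import Cfsg.Agent.Lib.Helper44_POmegaCard
import Cfsg.Agent.Lib.Helper44_StdForms
import Cfsg.Agent.S0286

set_option autoImplicit false
open Cfsg

namespace Cfsg.Agent.S0292

open Module Cfsg.Agent.Lib.Helper44_Orth Cfsg.Agent.Lib.Helper44_Refl Cfsg.Agent.Lib.Helper44_Spinor
  Cfsg.Agent.Lib.Helper44_StdForms Cfsg.Agent.Lib.Helper44_Center Cfsg.Agent.Lib.Helper44_Index
  Cfsg.Agent.Lib.Helper44_POmegaCard Cfsg.Agent.Lib.Helper44_OmegaOdd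

/-- 2 |PΩ_{2m+1}(q)| = q^(m^2) prod_{i=1}^{m} (q^(2i) - 1), for q odd and m at least 3 (type B_m). -/
theorem result {F : Type*} [Field F] [Fintype F] {q : ℕ} (hF : Fintype.card F = q) (hodd : Odd q) (m : ℕ) (hm : 3 ≤ m) : 2 * Nat.card (Cfsg.POmega F (Cfsg.quadFormOdd m F)) = q ^ (m ^ 2) * ∏ i ∈ Finset.range m, (q ^ (2 * (i + 1)) - 1) := by
  classical
  have hodd' : Odd (Fintype.card F) := by rw [hF]; exact hodd
  have h2 : (2 : F) ≠ 0 := Cfsg.Agent.Lib.Helper44_FinSq.two_ne_zero_of_odd_card hodd'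
  have hO := Cfsg.Agent.S0286.result hF hodd m
  rw [← coe_qfOdd] at hO ⊢
  have hQ : (QuadraticMap.polarBilin (qfOdd m F)).Nondegenerate := by
    refine (LinearMap.BilinForm.nondegenerate_iff_det_ne_zero
      (Pi.basisFun F (Unit ⊕ (Fin m ⊕ Fin m)))).mpr ?_
    have : LinearMap.BilinForm.toMatrix (Pi.basisFun F (Unit ⊕ (Fin m ⊕ Fin m)))
        (QuadraticMap.polarBilin (qfOdd m F))
        = Matrix.of (fun i j : Unit ⊕ (Fin m ⊕ Fin m) =>
            QuadraticMap.polar (Cfsg.quadFormOdd m F) (Pi.single i 1) (Pi.single j 1)) := by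
      ext i j
      simp [LinearMap.BilinForm.toMatrix_apply, coe_qfOdd]
    rw [this, det_gram_quadFormOdd]
    exact mul_ne_zero h2 (pow_ne_zero _ (neg_ne_zero.mpr one_ne_zero))
  have hcard : Fintype.card (Unit ⊕ (Fin m ⊕ Fin m)) = 2 * m + 1 := by
    simp [Fintype.card_sum]; ring
  have hex : Fintype.card F ≠ 2 ∨ Fintype.card (Unit ⊕ (Fin m ⊕ Fin m)) ≠ 4 := by
    right; rw [hcard]; omega
  have hidx := index_omega_odd h2 (qfOdd m F) hQ (by rw [hcard]; omega)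
  -- the hyperbolic pair and the anisotropic vector
  set i0 : Fin m := ⟨0, by omega⟩
  set e : Unit ⊕ (Fin m ⊕ Fin m) → F := Pi.single (Sum.inr (Sum.inl i0)) 1 with he'
  set f : Unit ⊕ (Fin m ⊕ Fin m) → F := Pi.single (Sum.inr (Sum.inr i0)) 1 with hf'
  set w₀ : Unit ⊕ (Fin m ⊕ Fin m) → F := Pi.single (Sum.inl ()) 1 with hw'
  have he : qfOdd m F e = 0 := by
    rw [coe_qfOdd, Cfsg.quadFormOdd, he']
    simp
  have hf : qfOdd m F f = 0 := by
    rw [coe_qfOdd, Cfsg.quadFormOdd, hf']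
    simp
  have hw₀ : qfOdd m F w₀ ≠ 0 := by
    rw [coe_qfOdd, Cfsg.quadFormOdd, hw']
    simp
  have hef : QuadraticMap.polar (⇑(qfOdd m F)) e f = 1 := by
    rw [coe_qfOdd, polar_quadFormOdd, he', hf']
    simp [Pi.single_apply]
  have hew : QuadraticMap.polar (⇑(qfOdd m F)) e w₀ = 0 := by
    rw [coe_qfOdd, polar_quadFormOdd, he', hw']
    simp [Pi.single_apply]
  have hfw : QuadraticMap.polar (⇑(qfOdd m F)) f w₀ = 0 := by
    rw [coe_qfOdd, polar_quadFormOdd, hf', hw']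
    simp [Pi.single_apply]
  have hcent := fun z₀ hz₀ => centralizer_omega (qfOdd m F) hQ hex (by rw [hcard]; omega)
    he hf hef hw₀ hew hfw z₀ hz₀
  have hneg : negOne (qfOdd m F) ∉ Cfsg.Omega F (⇑(qfOdd m F)) := by
    intro hmem
    have hdet := ((mem_omega_iff_det_theta h2 (qfOdd m F) hQ _).mp hmem).1
    rw [negOne_coe, Matrix.det_neg, Matrix.det_one, mul_one, hcard, pow_succ, pow_mul] at hdet
    simp only [even_two, Even.neg_pow, one_pow, one_mul] at hdet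
    apply h2
    have : (1 : F) + 1 = 0 := by nth_rewrite 1 [← hdet]; ring
    rw [← this]; ring
  have hc1 := card_center_eq_one (qfOdd m F) hcent (Or.inr hneg)
  have hmul := card_pomega_mul (⇑(qfOdd m F))
  rw [hc1, hidx, hO] at hmul
  have h3 : 2 * q ^ (m ^ 2) * ∏ i ∈ Finset.range m, (q ^ (2 * (i + 1)) - 1)
      = 2 * (q ^ (m ^ 2) * ∏ i ∈ Finset.range m, (q ^ (2 * (i + 1)) - 1)) := by ring
  rw [h3] at hmul
  omega

end Cfsg.Agent.S0292
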