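import Cfsg.Statements.S5396
import Cfsg.Agent.Lib.Helper1_Frattini
import Cfsg.Agent.Lib.Helper48_Extraspecial

set_option autoImplicit false
open Cfsg

namespace Cfsg.Agent.S5396

open scoped commutatorElement

/-- the bilinear form whose diagonal is the quadratic form `∑ (aᵢ bᵢ + eᵢ (aᵢ² + bᵢ²))` -/
def β {n : ℕ} (e : Fin n → ZMod 2) (v w : Fin n → ZMod 2 × ZMod 2) : ZMod 2 :=
  ∑ i, ((v i).1 * (w i).2 + e i * ((v i).1 * (w i).1 + (v i).2 * (w i).2))

section form
variable {n : ℕ} (e : Fin n → ZMod 2)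

theorem β_add_left (u v w : Fin n → ZMod 2 × ZMod 2) : β e (u + v) w = β e u w + β e v w := by
  unfold β
  rw [← Finset.sum_add_distrib]
  apply Finset.sum_congr rfl
  intro i _
  simp only [Pi.add_apply, Prod.fst_add, Prod.snd_add]
  ring

theorem β_add_right (u v w : Fin n → ZMod 2 × ZMod 2) : β e u (v + w) = β e u v + β e u w := by
  unfold β
  rw [← Finset.sum_add_distrib]
  apply Finset.sum_congr rfl
  intro i _
  simp only [Pi.add_apply, Prod.fst_add, Prod.snd_add]
  ring

theorem β_zero_left (w : Fin n → ZMod 2 × ZMod 2) : β e 0 w = 0 := by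
  unfold β
  simp

theorem β_zero_right (w : Fin n → ZMod 2 × ZMod 2) : β e w 0 = 0 := by
  unfold β
  simp

theorem β_neg_left (v w : Fin n → ZMod 2 × ZMod 2) : β e (-v) w = -β e v w := by
  have h := β_add_left e (-v) v w
  rw [neg_add_cancel, β_zero_left] at h
  exact eq_neg_of_add_eq_zero_left h.symm

end form

/-- the extraspecial group of order `2^(2n+1)` attached to the quadratic form
`∑ (aᵢ bᵢ + eᵢ (aᵢ² + bᵢ²))` -/
@[ext] structure ES (n : ℕ) (e : Fin n → ZMod 2) where
  v : Fin n → ZMod 2 × ZMod 2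
  c : ZMod 2

namespace ES
variable {n : ℕ} {e : Fin n → ZMod 2}

instance : Mul (ES n e) := ⟨fun x y => ⟨x.v + y.v, x.c + y.c + β e x.v y.v⟩⟩
instance : One (ES n e) := ⟨⟨0, 0⟩⟩
instance : Inv (ES n e) := ⟨fun x => ⟨-x.v, -x.c + β e x.v x.v⟩⟩

@[simp] theorem mul_v (x y : ES n e) : (x * y).v = x.v + y.v := rfl
@[simp] theorem mul_c (x y : ES n e) : (x * y).c = x.c + y.c + β e x.v y.v := rfl
@[simp] theorem one_v : (1 : ES n e).v = 0 := rfl
@[simp] theorem one_c : (1 : ES n e).c = 0 := rfl
@[simp] theorem inv_v (x : ES n e) : (x⁻¹).v = -x.v := rfl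
@[simp] theorem inv_c (x : ES n e) : (x⁻¹).c = -x.c + β e x.v x.v := rfl

instance : Group (ES n e) where
  mul_assoc x y z := by
    ext1
    · simp [add_assoc]
    · simp only [mul_c, mul_v, β_add_left, β_add_right]
      ring
  one_mul x := by ext1 <;> simp [β_zero_left]
  mul_one x := by ext1 <;> simp [β_zero_right]
  inv_mul_cancel x := by
    ext1
    · simp
    · simp only [mul_c, inv_c, inv_v, one_c, β_neg_left]
      ring

/-- the underlying set -/
def equivProd : ES n e ≃ (Fin n → ZMod 2 × ZMod 2) × ZMod 2 where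
  toFun x := (x.v, x.c)
  invFun t := ⟨t.1, t.2⟩
  left_inv _ := rfl
  right_inv _ := rfl

theorem card : Nat.card (ES n e) = 2 ^ (2 * n + 1) := by
  rw [Nat.card_congr equivProd, Nat.card_prod, Nat.card_fun, Nat.card_prod, Nat.card_fin,
    Nat.card_zmod]
  rw [pow_succ, pow_mul]
  norm_num

instance : Finite (ES n e) := Finite.of_equiv _ equivProd.symm

theorem add_self_zmod2 : ∀ t : ZMod 2, t + t = 0 := by decide

theorem add_self_v (v : Fin n → ZMod 2 × ZMod 2) : v + v = 0 := by
  funext i
  ext <;> simp [add_self_zmod2]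

theorem sq_v (x : ES n e) : (x ^ 2).v = 0 := by
  rw [pow_two, mul_v, add_self_v]

theorem sq_c (x : ES n e) : (x ^ 2).c = β e x.v x.v := by
  rw [pow_two, mul_c, add_self_zmod2, zero_add]

/-- the alternating form `β v w - β w v` evaluated on basis vectors -/
theorem β_single_right₂ (v : Fin n → ZMod 2 × ZMod 2) (i : Fin n) :
    β e v (Pi.single i (0, 1)) - β e (Pi.single i (0, 1)) v = (v i).1 := by
  unfold β
  rw [← Finset.sum_sub_distrib, Finset.sum_eq_single i]
  · simp
  · intro j _ hj
    simp [Pi.single_eq_of_ne hj]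
  · intro h; exact absurd (Finset.mem_univ i) h

theorem β_single_right₁ (v : Fin n → ZMod 2 × ZMod 2) (i : Fin n) :
    β e (Pi.single i (1, 0)) v - β e v (Pi.single i (1, 0)) = (v i).2 := by
  unfold β
  rw [← Finset.sum_sub_distrib, Finset.sum_eq_single i]
  · simp
  · intro j _ hj
    simp [Pi.single_eq_of_ne hj]
  · intro h; exact absurd (Finset.mem_univ i) h

theorem mem_center_iff (x : ES n e) : x ∈ Subgroup.center (ES n e) ↔ x.v = 0 := by
  rw [Subgroup.mem_center_iff]
  constructor
  · intro h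
    funext i
    ext
    · have h1 := congrArg ES.c (h ⟨Pi.single i (0, 1), 0⟩)
      simp only [mul_c] at h1
      have h2 := β_single_right₂ (e := e) x.v i
      rw [← h2]
      simp only [Pi.zero_apply, Prod.fst_zero]
      have : β e (Pi.single i (0, 1)) x.v = β e x.v (Pi.single i (0, 1)) := by
        have := h1
        ring_nf at this
        linear_combination this
      rw [this, sub_self]
    · have h1 := congrArg ES.c (h ⟨Pi.single i (1, 0), 0⟩)
      simp only [mul_c] at h1
      have h2 := β_single_right₁ (e := e) x.v i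
      rw [← h2]
      simp only [Pi.zero_apply, Prod.snd_zero]
      have : β e (Pi.single i (1, 0)) x.v = β e x.v (Pi.single i (1, 0)) := by
        linear_combination h1
      rw [this, sub_self]
  · intro hv y
    ext1
    · simp [hv]
    · simp only [mul_c, hv, β_zero_left, β_zero_right]
      ring

/-- the centre is in bijection with `ZMod 2` -/
def centerEquiv : Subgroup.center (ES n e) ≃ ZMod 2 where
  toFun x := x.1.c
  invFun c := ⟨⟨0, c⟩, (mem_center_iff _).2 rfl⟩
  left_inv x := by
    have hv := (mem_center_iff x.1).1 x.2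
    apply Subtype.ext
    ext1
    · exact hv.symm
    · rfl
  right_inv _ := rfl

theorem card_center : Nat.card (Subgroup.center (ES n e)) = 2 := by
  rw [Nat.card_congr centerEquiv, Nat.card_zmod]

theorem commutator_mem_center (x y : ES n e) : ⁅x, y⁆ ∈ Subgroup.center (ES n e) := by
  rw [mem_center_iff, commutatorElement_def]
  simp

theorem commutator_le_center : commutator (ES n e) ≤ Subgroup.center (ES n e) := by
  rw [commutator_def, Subgroup.commutator_le]
  intro x _ y _
  exact commutator_mem_center x y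

theorem isPGroup : IsPGroup 2 (ES n e) := by
  have : Fact (Nat.Prime 2) := ⟨Nat.prime_two⟩
  exact IsPGroup.of_card card

theorem commutator_ne_bot (hn : 1 ≤ n) : commutator (ES n e) ≠ ⊥ := by
  intro hbot
  let i : Fin n := ⟨0, hn⟩
  let x : ES n e := ⟨Pi.single i (1, 0), 0⟩
  let y : ES n e := ⟨Pi.single i (0, 1), 0⟩
  have h1 : ⁅x, y⁆ ∈ commutator (ES n e) := by
    rw [commutator_def]
    exact Subgroup.commutator_mem_commutator (Subgroup.mem_top _) (Subgroup.mem_top _)
  rw [hbot, Subgroup.mem_bot, commutatorElement_eq_one_iff_mul_comm] at h1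
  have h2 := congrArg ES.c h1
  simp only [mul_c, x, y] at h2
  have h3 := β_single_right₁ (e := e) (Pi.single i (0, 1)) i
  simp only [Pi.single_eq_same] at h3
  have : (1 : ZMod 2) = 0 := by
    rw [← h3]
    linear_combination h2
  exact one_ne_zero this

theorem commutator_eq_center (hn : 1 ≤ n) : commutator (ES n e) = Subgroup.center (ES n e) := by
  have hle := commutator_le_center (n := n) (e := e)
  have hdvd : Nat.card (commutator (ES n e)) ∣ 2 := by
    have := Subgroup.card_dvd_of_le hle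
    rwa [card_center] at this
  rcases (Nat.dvd_prime Nat.prime_two).1 hdvd with h | h
  · exact absurd (Subgroup.card_eq_one.1 h) (commutator_ne_bot hn)
  · exact Subgroup.eq_of_le_of_card_ge hle (by rw [h, card_center])

theorem frattini_eq_center (hn : 1 ≤ n) : frattini (ES n e) = Subgroup.center (ES n e) := by
  have : Fact (Nat.Prime 2) := ⟨Nat.prime_two⟩
  apply le_antisymm
  · apply Cfsg.Agent.Lib.Helper1_Frattini.frattini_le_of_elementary_quotient (p := 2) _
      commutator_le_center
    intro x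
    rw [mem_center_iff, sq_v]
  · rw [← commutator_eq_center hn]
    exact Cfsg.Agent.Lib.Helper1_Frattini.commutator_le_frattini_of_isPGroup isPGroup

theorem isExtraspecial (hn : 1 ≤ n) : Cfsg.IsExtraspecial 2 (ES n e) :=
  ⟨⟨isPGroup, frattini_eq_center hn, commutator_eq_center hn⟩, card_center⟩

open Cfsg.Agent.Lib.Helper48_Extraspecial in
/-- abelian subgroups have order at most `2^(n+1)` -/
theorem card_le_of_comm (A : Subgroup (ES n e)) (hA : IsMulCommutative A) :
    Nat.card A ≤ 2 ^ (n + 1) := by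
  have h1 := card_centralizer_mul_card_le (E := ES n e) commutator_mem_center card_center A
  have hAle : A ≤ Subgroup.centralizer (A : Set (ES n e)) :=
    Subgroup.le_centralizer_iff_isMulCommutative.mpr hA
  have h2 : Nat.card A ≤ Nat.card (Subgroup.centralizer (A : Set (ES n e))) :=
    Subgroup.card_le_of_le hAle
  rw [card] at h1
  by_contra hcon
  push Not at hcon
  have h3 : 2 ^ (n + 1) * 2 ^ (n + 1) < Nat.card A * Nat.card A := Nat.mul_self_lt_mul_self hcon
  have h4 : Nat.card A * Nat.card A ≤ 2 * 2 ^ (2 * n + 1) :=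
    (Nat.mul_le_mul_right _ h2).trans h1
  have h5 : 2 * 2 ^ (2 * n + 1) = 2 ^ (n + 1) * 2 ^ (n + 1) := by
    rw [← pow_succ', ← pow_add]; congr 1; omega
  omega

open Cfsg.Agent.Lib.Helper48_Extraspecial in
/-- the number of solutions of `x² = 1` when there is an elementary abelian subgroup of order
`2^(n+1)` -/
theorem card_sq_of_plus (A : Subgroup (ES n e)) (hA : Cfsg.IsElementaryAbelian 2 A)
    (hcard : Nat.card A = 2 ^ (n + 1)) :
    2 * Nat.card {x : ES n e // x ^ 2 = 1} = 2 ^ (2 * n + 1) + 2 ^ (n + 1) := by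
  have hAle : A ≤ Subgroup.centralizer (A : Set (ES n e)) :=
    Subgroup.le_centralizer_iff_isMulCommutative.mpr hA.1
  have hAC : Subgroup.centralizer (A : Set (ES n e)) = A := by
    symm
    apply Subgroup.eq_of_le_of_card_ge hAle
    have h1 := card_centralizer_mul_card_le (E := ES n e) commutator_mem_center card_center A
    rw [hcard, card] at h1
    rw [hcard]
    have h2 : 2 * 2 ^ (2 * n + 1) = 2 ^ (n + 1) * 2 ^ (n + 1) := by
      rw [← pow_succ', ← pow_add]; congr 1; omega
    rw [h2] at h1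
    exact Nat.le_of_mul_le_mul_right h1 (by positivity)
  have := two_mul_card_sq_eq_one (E := ES n e) commutator_mem_center card_center A hA.2 hAC
  rw [card, hcard] at this
  exact this

/-! ### the standard elementary abelian subgroup -/

/-- the subgroup of the elements with `aᵢ = 0` and `eᵢ bᵢ = 0` for all `i` -/
def stdSub (n : ℕ) (e : Fin n → ZMod 2) : Subgroup (ES n e) where
  carrier := {x | ∀ i, (x.v i).1 = 0 ∧ e i * (x.v i).2 = 0}
  mul_mem' := by
    intro x y hx hy i
    simp only [mul_v, Pi.add_apply, Prod.fst_add, Prod.snd_add, (hx i).1, (hy i).1, add_zero,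
      mul_add, (hx i).2, (hy i).2, and_self]
  one_mem' := by
    intro i
    simp
  inv_mem' := by
    intro x hx i
    simp only [inv_v, Pi.neg_apply, Prod.fst_neg, Prod.snd_neg, (hx i).1, neg_zero, mul_neg,
      (hx i).2, and_self]

theorem mem_stdSub (x : ES n e) :
    x ∈ stdSub n e ↔ ∀ i, (x.v i).1 = 0 ∧ e i * (x.v i).2 = 0 := Iff.rfl

theorem β_stdSub {x y : ES n e} (hx : x ∈ stdSub n e) (hy : y ∈ stdSub n e) :
    β e x.v y.v = 0 := by
  unfold β
  apply Finset.sum_eq_zero
  intro i _
  rw [(hx i).1, (hy i).1, zero_mul, mul_zero, zero_add, zero_add, ← mul_assoc, (hx i).2, zero_mul]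

theorem stdSub_elementary : Cfsg.IsElementaryAbelian 2 (stdSub n e) := by
  constructor
  · rw [← Subgroup.le_centralizer_iff_isMulCommutative]
    intro x hx
    rw [Subgroup.mem_centralizer_iff]
    intro y hy
    ext1
    · simp [add_comm]
    · simp only [mul_c, β_stdSub hx hy, β_stdSub hy hx, add_zero]
      ring
  · intro x hx
    ext1
    · rw [sq_v]; rfl
    · rw [sq_c, β_stdSub hx hx]; rfl

theorem card_coord : ∀ t : ZMod 2,
    Fintype.card {p : ZMod 2 × ZMod 2 // p.1 = 0 ∧ t * p.2 = 0} = if t = 0 then 2 else 1 := by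
  decide

/-- the elements of the standard subgroup, coordinate by coordinate -/
def stdEquiv : stdSub n e ≃
    {v : Fin n → ZMod 2 × ZMod 2 // ∀ i, (fun p : ZMod 2 × ZMod 2 => p.1 = 0 ∧ e i * p.2 = 0) (v i)} ×
      ZMod 2 where
  toFun x := (⟨x.1.v, x.2⟩, x.1.c)
  invFun t := ⟨⟨t.1.1, t.2⟩, t.1.2⟩
  left_inv _ := rfl
  right_inv _ := rfl

theorem card_stdSub :
    Nat.card (stdSub n e) = (∏ i, if e i = 0 then 2 else 1) * 2 := by
  rw [Nat.card_congr stdEquiv, Nat.card_prod, Nat.card_zmod,
    Nat.card_congr (Equiv.subtypePiEquivPi (β := fun _ : Fin n => ZMod 2 × ZMod 2)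
      (p := fun i p => p.1 = 0 ∧ e i * p.2 = 0)), Nat.card_pi]
  congr 1
  apply Finset.prod_congr rfl
  intro i _
  rw [Nat.card_eq_fintype_card, card_coord]

/-! ### counting the solutions of `x² = 1` by a character sum -/

/-- the sign character of `ZMod 2` -/
def χ (t : ZMod 2) : ℤ := if t = 0 then 1 else -1

theorem χ_add : ∀ s t : ZMod 2, χ (s + t) = χ s * χ t := by decide

theorem χ_sum {ι : Type*} (s : Finset ι) (f : ι → ZMod 2) :
    χ (∑ i ∈ s, f i) = ∏ i ∈ s, χ (f i) := by
  induction s using Finset.cons_induction with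
  | empty => rfl
  | cons a s ha ih => rw [Finset.sum_cons, Finset.prod_cons, χ_add, ih]

theorem coord_sum : ∀ t : ZMod 2,
    ∑ p : ZMod 2 × ZMod 2, χ (p.1 * p.2 + t * (p.1 * p.1 + p.2 * p.2)) =
      if t = 0 then 2 else -2 := by decide

theorem char_sum : ∑ v : Fin n → ZMod 2 × ZMod 2, χ (β e v v) =
    ∏ i, (if e i = 0 then (2 : ℤ) else -2) := by
  unfold β
  simp_rw [χ_sum]
  have h := Finset.prod_univ_sum (fun _ : Fin n => (Finset.univ : Finset (ZMod 2 × ZMod 2)))
    (fun i p => χ (p.1 * p.2 + e i * (p.1 * p.1 + p.2 * p.2)))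
  rw [Fintype.piFinset_univ] at h
  rw [← h]
  apply Finset.prod_congr rfl
  intro i _
  exact coord_sum (e i)

theorem two_mul_card_zero :
    2 * (Fintype.card {v : Fin n → ZMod 2 × ZMod 2 // β e v v = 0} : ℤ) =
      4 ^ n + ∏ i, (if e i = 0 then (2 : ℤ) else -2) := by
  rw [← char_sum]
  have h1 : ∀ v : Fin n → ZMod 2 × ZMod 2, χ (β e v v) =
      2 * (if β e v v = 0 then (1 : ℤ) else 0) - 1 := by
    intro v
    unfold χ
    split_ifs <;> norm_num
  simp_rw [h1]
  rw [Finset.sum_sub_distrib, ← Finset.mul_sum, Finset.sum_boole, Finset.sum_const,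
    Finset.card_univ, Fintype.card_subtype]
  have h2 : Fintype.card (Fin n → ZMod 2 × ZMod 2) = 4 ^ n := by
    rw [Fintype.card_fun, Fintype.card_prod, ZMod.card, Fintype.card_fin]
  rw [h2]
  ring

theorem sq_eq_one_iff (x : ES n e) : x ^ 2 = 1 ↔ β e x.v x.v = 0 := by
  rw [ES.ext_iff, sq_v, sq_c]
  simp

/-- the solutions of `x² = 1` -/
def sqEquiv : {x : ES n e // x ^ 2 = 1} ≃ {v : Fin n → ZMod 2 × ZMod 2 // β e v v = 0} × ZMod 2
    where
  toFun x := (⟨x.1.v, (sq_eq_one_iff x.1).mp x.2⟩, x.1.c)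
  invFun t := ⟨⟨t.1.1, t.2⟩, (sq_eq_one_iff _).mpr t.1.2⟩
  left_inv _ := rfl
  right_inv _ := rfl

theorem card_sq_eq_one :
    (Nat.card {x : ES n e // x ^ 2 = 1} : ℤ) =
      4 ^ n + ∏ i, (if e i = 0 then (2 : ℤ) else -2) := by
  rw [Nat.card_congr sqEquiv, Nat.card_prod, Nat.card_zmod, Nat.card_eq_fintype_card,
    ← two_mul_card_zero]
  push_cast
  ring

/-! ### the two types -/

theorem prod_single {M : Type*} [CommMonoid M] (i0 : Fin n) (X Y : M) :
    ∏ i, (if (Pi.single i0 (1 : ZMod 2) : Fin n → ZMod 2) i = 0 then X else Y) =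
      Y * X ^ (n - 1) := by
  rw [← Finset.mul_prod_erase Finset.univ _ (Finset.mem_univ i0)]
  congr 1
  · simp
  · rw [Finset.prod_congr rfl (g := fun _ => X)]
    · rw [Finset.prod_const, Finset.card_erase_of_mem (Finset.mem_univ i0), Finset.card_univ,
        Fintype.card_fin]
    · intro i hi
      rw [Pi.single_eq_of_ne (Finset.ne_of_mem_erase hi), if_pos rfl]

end ES


open ES in
theorem rank_plus (n : ℕ) :
    sSup {k : ℕ | ∃ A : Subgroup (ES n 0), Cfsg.IsElementaryAbelian 2 A ∧ Nat.card A = 2 ^ k} =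
      n + 1 := by
  apply IsGreatest.csSup_eq
  constructor
  · refine ⟨stdSub n 0, stdSub_elementary, ?_⟩
    rw [card_stdSub]
    simp [pow_succ]
  · rintro k ⟨A, hA, hk⟩
    have := card_le_of_comm A hA.1
    rw [hk] at this
    exact (Nat.pow_le_pow_iff_right (by norm_num)).mp this

open ES in
theorem rank_minus (n : ℕ) (hn : 1 ≤ n) :
    sSup {k : ℕ | ∃ A : Subgroup (ES n (Pi.single ⟨0, hn⟩ 1)),
      Cfsg.IsElementaryAbelian 2 A ∧ Nat.card A = 2 ^ k} = n := by
  apply IsGreatest.csSup_eq
  constructor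
  · refine ⟨stdSub n _, stdSub_elementary, ?_⟩
    rw [card_stdSub, prod_single, one_mul, ← pow_succ]
    congr 1
    omega
  · rintro k ⟨A, hA, hk⟩
    have h1 := card_le_of_comm A hA.1
    rw [hk] at h1
    have h2 : k ≤ n + 1 := (Nat.pow_le_pow_iff_right (by norm_num)).mp h1
    by_contra hcon
    have hk' : k = n + 1 := by omega
    rw [hk'] at hk
    have h3 := card_sq_of_plus A hA hk
    have h4 := card_sq_eq_one (n := n) (e := Pi.single ⟨0, hn⟩ 1)
    rw [prod_single] at h4
    have h5 : (2 : ℤ) * (Nat.card {x : ES n (Pi.single ⟨0, hn⟩ 1) // x ^ 2 = 1} : ℤ) =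
        2 ^ (2 * n + 1) + 2 ^ (n + 1) := by exact_mod_cast h3
    rw [h4] at h5
    have h6 : (2 : ℤ) ^ (2 * n + 1) = 2 * 4 ^ n := by
      rw [pow_succ, pow_mul]; norm_num; ring
    have h7 : (2 : ℤ) ^ (n + 1) = 4 * 2 ^ (n - 1) := by
      obtain ⟨m, rfl⟩ : ∃ m, n = m + 1 := ⟨n - 1, by omega⟩
      simp [pow_succ]; ring
    have h8 : (0 : ℤ) < 2 ^ (n - 1) := by positivity
    rw [h6, h7] at h5
    linarith

/-- For every n ≥ 1 there exist finite extraspecial 2-groups of order 2^(2n+1) whose 2-rank (the largest rank of an elementary abelian subgroup) is n, and ones whose 2-rank is n + 1 (so for each such order there are two non-isomorphic extraspecial 2-groups, told apart by their 2-rank). -/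
theorem result (n : ℕ) (hn : 1 ≤ n) : ∀ r ∈ ({n, n + 1} : Set ℕ), ∃ (E : Type) (_ : Group E) (_ : Finite E), Cfsg.IsExtraspecial 2 E ∧ Nat.card E = 2 ^ (2 * n + 1) ∧ sSup {k : ℕ | ∃ A : Subgroup E, Cfsg.IsElementaryAbelian 2 A ∧ Nat.card A = 2 ^ k} = r := by
  intro r hr
  rcases hr with rfl | hr
  · exact ⟨ES r (Pi.single ⟨0, hn⟩ 1), inferInstance, inferInstance, ES.isExtraspecial hn, ES.card,
      rank_minus r hn⟩
  · rw [Set.mem_singleton_iff] at hr
    subst hr
    exact ⟨ES n 0, inferInstance, inferInstance, ES.isExtraspecial hn, ES.card, rank_plus n⟩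

end Cfsg.Agent.S5396
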