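import Cfsg.Statements.S3908
import Cfsg.Agent.Lib.Helper86_PGroupMisc
-- import your own Cfsg.Agent.* helpers here

set_option autoImplicit false
open Cfsg

namespace Cfsg.Agent.S3908

open Cfsg.Agent.Lib.Helper86_PGroupMisc

/-- Let G be a finite group in which any two abelian subgroups of the same order are conjugate. Then a Sylow 2-subgroup of G is cyclic, elementary abelian or generalized quaternion, and for an odd prime p a Sylow p-subgroup of G is cyclic or has exponent dividing p. -/
theorem result {G : Type*} [Group G] [Finite G] (hB : ∀ A B : Subgroup G, IsMulCommutative ↥A → IsMulCommutative ↥B → Nat.card ↥A = Nat.card ↥B → ∃ g : G, B = A.map (MulAut.conj g).toMonoidHom) :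
    (∀ P : Sylow 2 G, IsCyclic ↥(P : Subgroup G) ∨ Cfsg.IsElementaryAbelian 2 (P : Subgroup G) ∨ ∃ k : ℕ, Nonempty (↥(P : Subgroup G) ≃* QuaternionGroup (2 ^ k))) ∧
    ∀ (p : ℕ) [Fact p.Prime], p ≠ 2 → ∀ P : Sylow p G, IsCyclic ↥(P : Subgroup G) ∨ ∀ x ∈ (P : Subgroup G), x ^ p = 1 := by
  have hiso : ∀ A B : Subgroup G, IsMulCommutative A → IsMulCommutative B →
      Nat.card A = Nat.card B → Nonempty (A ≃* B) := by
    intro A B hA hB' hcard
    obtain ⟨g, rfl⟩ := hB A B hA hB' hcard
    exact ⟨(MulAut.conj g).subgroupMap A⟩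
  constructor
  · intro P
    rcases sylow_of_abelian_iso P hiso with h | h | ⟨_, n, h⟩
    · right; left
      refine ⟨?_, h⟩
      apply IsMulCommutative.of_setLike_mul_comm
      intro a ha b hb
      have h1 := h a ha
      have h2 := h b hb
      have h3 := h (a * b) (Subgroup.mul_mem _ ha hb)
      have ha' : a⁻¹ = a := by
        rw [inv_eq_iff_mul_eq_one, ← pow_two]; exact h1
      have hb' : b⁻¹ = b := by
        rw [inv_eq_iff_mul_eq_one, ← pow_two]; exact h2
      have hab' : (a * b)⁻¹ = a * b := by
        rw [inv_eq_iff_mul_eq_one, ← pow_two]; exact h3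
      rw [← hab', mul_inv_rev, ha', hb']
    · left; exact h
    · right; right; exact ⟨n, h⟩
  · intro p _ hp2 P
    rcases sylow_of_abelian_iso P hiso with h | h | ⟨h2, _⟩
    · right; exact h
    · left; exact h
    · exact absurd h2 hp2

end Cfsg.Agent.S3908
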