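import Cfsg.Statements.S3909

set_option autoImplicit false
open Cfsg

namespace Cfsg.Agent.S3909

/-- In a group where equal-order abelian subgroups are conjugate, a normal subgroup containing
an element of the order of `a` contains `a`. -/
theorem part1 {G : Type*} [Group G] [Finite G] (hB : ∀ A B : Subgroup G, IsMulCommutative ↥A → IsMulCommutative ↥B → Nat.card ↥A = Nat.card ↥B → ∃ g : G, B = A.map (MulAut.conj g).toMonoidHom) (M : Subgroup G) [M.Normal]
    (a : G) (h : ∃ m ∈ M, orderOf m = orderOf a) : a ∈ M := by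
  obtain ⟨m, hm, hord⟩ := h
  obtain ⟨g, hg⟩ := hB (Subgroup.zpowers m) (Subgroup.zpowers a) inferInstance inferInstance
    (by rw [Nat.card_zpowers, Nat.card_zpowers, hord])
  have ha : a ∈ (Subgroup.zpowers m).map (MulAut.conj g).toMonoidHom := by
    rw [← hg]; exact Subgroup.mem_zpowers a
  obtain ⟨x, hx, rfl⟩ := Subgroup.mem_map.mp ha
  have hxM : x ∈ M := (Subgroup.zpowers_le.mpr hm) hx
  simpa [MulAut.conj_apply] using ‹M.Normal›.conj_mem x hxM g

/-- Let G be a finite group in which any two abelian subgroups of the same order are conjugate. Let M be a normal subgroup of G. If M contains an element of the same order as a ∈ G, then a ∈ M; and if M is elementary abelian of order p^t with p prime and t ≥ 2, then M is the unique Sylow p-subgroup of G. -/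
theorem result {G : Type*} [Group G] [Finite G] (hB : ∀ A B : Subgroup G, IsMulCommutative ↥A → IsMulCommutative ↥B → Nat.card ↥A = Nat.card ↥B → ∃ g : G, B = A.map (MulAut.conj g).toMonoidHom) (M : Subgroup G) [M.Normal] :
    (∀ a : G, (∃ m ∈ M, orderOf m = orderOf a) → a ∈ M) ∧
    ∀ (p t : ℕ) [Fact p.Prime], 2 ≤ t → Nat.card ↥M = p ^ t → Cfsg.IsElementaryAbelian p M → ∀ P : Sylow p G, (P : Subgroup G) = M := by
  refine ⟨part1 hB M, ?_⟩
  intro p t hpf ht hcard hel P
  have hp : p.Prime := hpf.out
  obtain ⟨hcomm, hexp⟩ := hel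
  -- M is a p-group
  have hMp : IsPGroup p M := IsPGroup.of_card hcard
  -- M ≤ P
  have hMP : M ≤ (P : Subgroup G) := by
    obtain ⟨Q, hQ⟩ := hMp.exists_le_sylow
    obtain ⟨g, hg⟩ := MulAction.exists_smul_eq G Q P
    intro x hx
    rw [← hg]
    rw [Sylow.coe_subgroup_smul, Subgroup.mem_pointwise_smul_iff_inv_smul_mem]
    apply hQ
    simpa [MulAut.smul_def, MulAut.conj_apply] using ‹M.Normal›.conj_mem x hx g⁻¹
  -- M has an element of order p
  have hpdvd : p ∣ Nat.card M := by
    rw [hcard]; exact dvd_pow_self p (by omega)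
  obtain ⟨m0, hm0⟩ := exists_prime_orderOf_dvd_card' p hpdvd
  have hm0' : orderOf (m0 : G) = p := by
    rw [Subgroup.orderOf_coe]; exact hm0
  -- M has a subgroup of order p^2
  have hp2 : p ^ 2 ≤ Nat.card M := by
    rw [hcard]; exact Nat.pow_le_pow_right hp.pos ht
  obtain ⟨E', hE'⟩ := Sylow.exists_subgroup_card_pow_prime_of_le_card hp hMp hp2
  -- E := image of E' in G
  set E : Subgroup G := E'.map M.subtype with hE
  have hEcard : Nat.card E = p ^ 2 := by
    rw [hE, Subgroup.card_map_of_injective M.subtype_injective]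
    exact hE'
  have hEM : E ≤ M := Subgroup.map_subtype_le E'
  have hEcomm : IsMulCommutative E := by
    refine ⟨⟨fun a b => ?_⟩⟩
    have := mul_comm' (⟨a.1, hEM a.2⟩ : M) ⟨b.1, hEM b.2⟩
    apply Subtype.ext
    have h2 := congrArg Subtype.val this
    simpa using h2
  apply le_antisymm _ hMP
  intro x hx
  -- order of x is p^k
  obtain ⟨k, hk⟩ := (IsPGroup.iff_orderOf.mp P.isPGroup') ⟨x, hx⟩
  rw [Subgroup.orderOf_mk] at hk
  rcases Nat.lt_or_ge k 2 with hk2 | hk2
  · interval_cases k
    · simp at hk; rw [hk]; exact M.one_mem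
    · apply part1 hB M x ⟨m0, m0.2, ?_⟩
      rw [hm0', hk, pow_one]
  · exfalso
    -- y = x^(p^(k-2)) has order p^2
    set y := x ^ p ^ (k - 2) with hy
    have hyord : orderOf y = p ^ 2 := by
      rw [hy, orderOf_pow' _ (pow_ne_zero _ hp.ne_zero), hk]
      rw [Nat.gcd_eq_right (pow_dvd_pow p (by omega))]
      rw [Nat.pow_div (by omega) hp.pos]
      congr 1; omega
    obtain ⟨g, hg⟩ := hB E (Subgroup.zpowers y) hEcomm inferInstance
      (by rw [Nat.card_zpowers, hyord, hEcard])
    have hyE : y ∈ E.map (MulAut.conj g).toMonoidHom := by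
      rw [← hg]; exact Subgroup.mem_zpowers y
    obtain ⟨e, he, hey⟩ := Subgroup.mem_map.mp hyE
    have hep : e ^ p = 1 := hexp e (hEM he)
    have hyp : y ^ p = 1 := by
      rw [← hey, ← map_pow, hep, map_one]
    have := orderOf_dvd_of_pow_eq_one hyp
    rw [hyord] at this
    have h2 : p ^ 2 ≤ p := Nat.le_of_dvd hp.pos this
    have : p < p ^ 2 := by
      calc p = p ^ 1 := (pow_one p).symm
        _ < p ^ 2 := Nat.pow_lt_pow_right hp.one_lt (by omega)
    omega

end Cfsg.Agent.S3909
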