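import Cfsg.Statements.S5664
import Cfsg.Agent.Lib.Helper98_ExtDefs
import Cfsg.Agent.Lib.Helper29_SpExtDefs
import Cfsg.Agent.Lib.Helper29_SpExtTrace
import Cfsg.Agent.Lib.Helper29_SpExtBridge
import Cfsg.Agent.Lib.Helper29_SpExtMain
import Cfsg.Agent.Lib.Helper94_Bridge
import Cfsg.Agent.Lib.Helper67_SpAschMax

set_option autoImplicit false
open Cfsg

namespace Cfsg.Agent.S5664

open Matrix Cfsg.Geo Cfsg.Agent.Lib.Helper98_ExtDefs Cfsg.Agent.Lib.Helper29_SpExtDefs
  Cfsg.Agent.Lib.Helper29_SpExtBridge Cfsg.Agent.Lib.Helper29_SpExtTrace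
  Cfsg.Agent.Lib.Helper94_Bridge

theorem isField_of {F : Type*} [Field F] {ι : Type} [Fintype ι] [DecidableEq ι] [Nonempty ι]
    {r : ℕ} {K : Subalgebra F (Matrix ι ι F)} (hK : Cfsg.Geo.IsFieldSubalgebra r K) :
    IsField ↥K :=
  { exists_pair_ne := ⟨0, 1, fun h => by
      have h1 : ((0 : ↥K) : Matrix ι ι F) = ((1 : ↥K) : Matrix ι ι F) := congrArg Subtype.val h
      rw [ZeroMemClass.coe_zero, OneMemClass.coe_one] at h1
      exact zero_ne_one h1⟩
    mul_comm := fun x y => Subtype.ext (hK.comm x.1 x.2 y.1 y.2)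
    mul_inv_cancel := fun {a} ha => by
      obtain ⟨y, hy, hxy⟩ := hK.inv a.1 a.2 (fun h => ha (Subtype.ext h))
      exact ⟨⟨y, hy⟩, Subtype.ext hxy⟩ }

/-- For a finite field F and m ≥ 7, let K be a subfield of the algebra of 2m × 2m matrices over F containing the scalars, of prime degree r over F, whose elements k are self-adjoint for the standard alternating form f on F^(2m) (f(k u, v) = f(u, k v)) and satisfy f(k v, v) = 0 for all v. Then the elements of Sp_2m(F) normalising K form a maximal subgroup of Sp_2m(F). -/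
theorem result {F : Type*} [Field F] [Fintype F] (m : ℕ) (hm : 7 ≤ m) (r : ℕ) (hr : r.Prime) (K : Subalgebra F (Matrix (Fin m ⊕ Fin m) (Fin m ⊕ Fin m) F)) (hK : Cfsg.Geo.IsFieldSubalgebra r K) (hsa : Cfsg.Geo.IsSelfAdjointFor (Cfsg.sympForm m F) K) (halt : ∀ k ∈ K, ∀ v : (Fin m ⊕ Fin m → F), Cfsg.sympForm m F (Matrix.mulVec k v) v = 0) : Cfsg.Geo.IsMaximalIn (Cfsg.spGL m F) (Cfsg.Geo.subalgebraNormalizer K ⊓ Cfsg.spGL m F) := by
  classical
  have hr2 : 2 ≤ r := hr.two_le
  haveI : Nonempty (Fin m ⊕ Fin m) := ⟨Sum.inl ⟨0, by omega⟩⟩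
  letI : Field ↥K := (isField_of hK).toField
  have hfr : Module.finrank F ↥K = r := hK.finrank_eq
  have hfrp : (Module.finrank F ↥K).Prime := by rw [hfr]; exact hr
  haveI : Finite ↥K := Finite.of_injective (fun x : ↥K => x.1) Subtype.val_injective
  haveI : Module.Finite ↥K (Fin m ⊕ Fin m → F) := Module.Finite.of_restrictScalars_finite F ↥K _
  -- dimensions
  have hdim : r * Module.finrank ↥K (Fin m ⊕ Fin m → F) = 2 * m := by
    have h3 := Module.finrank_mul_finrank F ↥K (Fin m ⊕ Fin m → F)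
    rw [hfr, Module.finrank_fintype_fun_eq_card, Fintype.card_sum, Fintype.card_fin] at h3
    omega
  have hmK : 2 ≤ Module.finrank ↥K (Fin m ⊕ Fin m → F) := by
    by_contra h
    push Not at h
    interval_cases hm' : Module.finrank ↥K (Fin m ⊕ Fin m → F)
    · omega
    · rw [mul_one] at hdim
      rw [hdim] at hr
      have := (Nat.prime_mul_iff.mp hr)
      omega
  have h22 : Nat.card F = 2 → Module.finrank F ↥K = 2 →
      3 ≤ Module.finrank ↥K (Fin m ⊕ Fin m → F) := by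
    intro _ h2
    rw [hfr] at h2
    rw [h2] at hdim
    omega
  have hKL : ∀ k : Matrix (Fin m ⊕ Fin m) (Fin m ⊕ Fin m) F,
      k ∈ K ↔ ∃ x : ↥K, ∀ v : Fin m ⊕ Fin m → F, k *ᵥ v = x • v := by
    intro k
    constructor
    · intro hk
      exact ⟨⟨k, hk⟩, fun v => rfl⟩
    · rintro ⟨x, hx⟩
      have : k = x.1 := by
        rw [Matrix.ext_iff_mulVec]
        intro v
        rw [hx v]
        rfl
      rw [this]
      exact x.2
  -- the `K`-form
  have hsa' : ∀ (k : ↥K) (u v : Fin m ⊕ Fin m → F), Bsymp m F (k • u) v = Bsymp m F u (k • v) := by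
    intro k u v
    rw [Bsymp_apply, Bsymp_apply]
    exact hsa k.1 k.2 u v
  have halt' : ∀ (k : ↥K) (v : Fin m ⊕ Fin m → F), Bsymp m F (k • v) v = 0 := by
    intro k v
    rw [Bsymp_apply]
    exact halt k.1 k.2 v
  set B : LinearMap.BilinForm ↥K (Fin m ⊕ Fin m → F) := trB (Bsymp m F) hsa' with hB
  have Balt : B.IsAlt := trB_isAlt (Bsymp m F) hsa' halt'
  have Bnd : B.Nondegenerate := trB_nondegenerate (Bsymp m F) hsa' halt' (Bsymp_nondegenerate m).1
  have hfB : ∀ u v : Fin m ⊕ Fin m → F, fF F B u v = Cfsg.sympForm m F u v := by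
    intro u v
    rw [hB, fF_trB, Bsymp_apply]
  -- the main lemma in matrix form
  have key : ∀ M : Subgroup (GL (Fin m ⊕ Fin m) F),
      subalgebraNormalizer K ⊓ Cfsg.spGL m F ≤ M → M ≤ Cfsg.spGL m F →
      ∀ g₀ ∈ M, g₀ ∉ subalgebraNormalizer K → Cfsg.spGL m F ≤ M := by
    intro M hHM hMS g₀ hg₀ hg₀N
    apply spGL_le_of_tv
    have hall : AllFtv F B (M.map (glEquiv (Fin m ⊕ Fin m) F).toMonoidHom) := by
      apply Cfsg.Agent.Lib.Helper29_SpExtMain.main_abstract hfrp hmK h22 B Balt Bnd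
        (M.map (glEquiv (Fin m ⊕ Fin m) F).toMonoidHom) ?_ ?_
        (glEquiv (Fin m ⊕ Fin m) F g₀) ⟨g₀, hg₀, rfl⟩ ?_
      · -- `M` preserves `f`
        rintro e ⟨g, hg, rfl⟩ x y
        rw [hfB, hfB]
        show Cfsg.sympForm m F (glEquiv (Fin m ⊕ Fin m) F g x) (glEquiv (Fin m ⊕ Fin m) F g y) = _
        rw [glEquiv_apply, glEquiv_apply]
        exact hMS hg x y
      · -- `Sp(V, B) ≤ M`
        intro g hg
        refine ⟨g.restrictScalars F, ?_, fun x => rfl⟩
        rw [mem_map_glEquiv_iff]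
        apply hHM
        refine ⟨?_, ?_⟩
        · apply mem_normalizer_of_isSemilin K hKL
          rw [MulEquiv.apply_symm_apply]
          exact ⟨RingEquiv.refl _, fun k v => g.map_smul k v⟩
        · show _ ∈ Cfsg.spGL m F
          rw [Cfsg.Agent.Lib.Helper67_SpAschMax.mem_spGL_iff]
          intro x y
          rw [glEquiv_symm_mulVec, glEquiv_symm_mulVec, ← hfB, ← hfB]
          show Algebra.trace F ↥K (B (g x) (g y)) = Algebra.trace F ↥K (B x y)
          rw [hg]
      · intro hsl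
        exact hg₀N (mem_normalizer_of_isSemilin K hKL g₀ hsl)
    intro a v
    obtain ⟨g, hg, hgx⟩ := (hasMap_map_iff M _).mp (hall a v)
    exact ⟨g, hg, fun x => by rw [hgx x, hfB]⟩
  -- properness
  have hnot : ¬ Cfsg.spGL m F ≤ subalgebraNormalizer K :=
    Cfsg.Agent.Lib.Helper67_SpAschMax.not_le_subalgebraNormalizer (by omega) (by omega) hK
  refine ⟨?_, ?_⟩
  · refine lt_of_le_of_ne inf_le_right ?_
    intro heq
    apply hnot
    rw [← heq]
    exact inf_le_left
  · intro M hHM hMS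
    by_cases hMN : M ≤ subalgebraNormalizer K
    · left
      exact le_antisymm (le_inf hMN hMS) hHM
    · right
      obtain ⟨g₀, hg₀M, hg₀N⟩ := SetLike.not_le_iff_exists.mp hMN
      exact le_antisymm hMS (key M hHM hMS g₀ hg₀M hg₀N)

end Cfsg.Agent.S5664
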