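import Cfsg.Statements.S5650
import Cfsg.Agent.Lib.Helper94_Symp
import Cfsg.Agent.Lib.Helper94_Bridge
import Cfsg.Agent.Lib.Helper94_SubfieldBridge
import Cfsg.Agent.Lib.Helper38_SpSub2
import Cfsg.Agent.Lib.Helper38_SpSub9
import Cfsg.Agent.Lib.Helper38_SpSubBridge

set_option autoImplicit false
set_option linter.style.haveILetI false
open Cfsg

namespace Cfsg.Agent.S5650

open Cfsg.Agent.Lib.Helper94_Symp Cfsg.Agent.Lib.Helper94_Bridge
  Cfsg.Agent.Lib.Helper94_SubfieldBridge Cfsg.Agent.Lib.Helper38_SpSub2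
  Cfsg.Agent.Lib.Helper38_SpSub9 Cfsg.Agent.Lib.Helper38_SpSubBridge

/-- the degree of `F` over `F₀` -/
lemma finrank_eq' {F : Type*} [Field F] [Fintype F] (F₀ : Subfield F) (r : ℕ)
    (hcard : Fintype.card F = Nat.card F₀ ^ r) : Module.finrank F₀ F = r := by
  classical
  letI : Fintype F₀ := Fintype.ofFinite F₀
  have h1 := Module.card_eq_pow_finrank (K := F₀) (V := F)
  rw [hcard, Nat.card_eq_fintype_card] at h1
  have h2 : 2 ≤ Fintype.card F₀ := Fintype.one_lt_card
  exact (Nat.pow_right_injective h2 h1).symm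

lemma comap_symm_comap' {G G' : Type*} [Group G] [Group G'] (e : G ≃* G') (H : Subgroup G) :
    (H.comap e.symm.toMonoidHom).comap e.toMonoidHom = H := by
  ext g
  simp

/-- For a finite field F, a subfield F₀ with |F| = |F₀| ^ r for a prime r, and m ≥ 7, let P be an invertible matrix and ζ a non-zero scalar such that ζ times the standard alternating form takes values in F₀ on the F₀-span of the columns of P. Then the elements of Sp_2m(F) lying in the subfield group of P (the conjugate by P of the product of GL_2m(F₀) with the scalars) form a maximal subgroup of Sp_2m(F). -/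
theorem result {F : Type*} [Field F] [Fintype F] (m : ℕ) (hm : 7 ≤ m) (F₀ : Subfield F) (r : ℕ) (hr : r.Prime) (hcard : Fintype.card F = Nat.card F₀ ^ r) (P : Matrix.GeneralLinearGroup (Fin m ⊕ Fin m) F) (ζ : F) (hζ : ζ ≠ 0) (hP : Cfsg.Geo.IsFormRationalStructure (Cfsg.sympForm m F) F₀ ζ P) : Cfsg.Geo.IsMaximalIn (Cfsg.spGL m F) (Cfsg.Geo.subfieldSubgroup F₀ P ⊓ Cfsg.spGL m F) := by
  classical
  have hfin : Module.finrank F₀ F = r := finrank_eq' F₀ r hcard
  have hp : (Module.finrank F₀ F).Prime := by rw [hfin]; exact hr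
  have hBalt : (ζ • Bsymp m F).IsAlt := isAlt_smul (Bsymp_isAlt m) ζ
  have hBN : (ζ • Bsymp m F).Nondegenerate := by
    have hN := Bsymp_nondegenerate (F := F) m
    constructor
    · intro x hx
      apply hN.1 x
      intro y
      have := hx y
      simp only [LinearMap.smul_apply, smul_eq_mul] at this
      rcases mul_eq_zero.mp this with h | h
      · exact absurd h hζ
      · exact h
    · intro y hy
      apply hN.2 y
      intro x
      have := hy x
      simp only [LinearMap.smul_apply, smul_eq_mul] at this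
      rcases mul_eq_zero.mp this with h | h
      · exact absurd h hζ
      · exact h
  have hrat : ∀ u v : Fin m ⊕ Fin m → F₀,
      (ζ • Bsymp m F) ((P : Matrix (Fin m ⊕ Fin m) (Fin m ⊕ Fin m) F).mulVec (cv F₀ u))
        ((P : Matrix (Fin m ⊕ Fin m) (Fin m ⊕ Fin m) F).mulVec (cv F₀ v)) ∈ F₀ := by
    intro u v
    simp only [LinearMap.smul_apply, smul_eq_mul, Bsymp_apply]
    exact hP _ _ (cv_mem F₀ u) (cv_mem F₀ v)
  obtain ⟨m', b, hcount, hbs, hratV⟩ := exists_rat_basis F₀ P (ζ • Bsymp m F) hBalt hBN hrat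
  have hm' : 6 ≤ Fintype.card (Fin m') := by
    simp only [Fintype.card_sum, Fintype.card_fin] at hcount
    rw [Fintype.card_fin]
    omega
  let S : Subgroup ((Fin m ⊕ Fin m → F) ≃ₗ[F] (Fin m ⊕ Fin m → F)) :=
    (Cfsg.Geo.subfieldSubgroup F₀ P).comap (glEquiv (Fin m ⊕ Fin m) F).symm.toMonoidHom
  have hSeq : Cfsg.Geo.subfieldSubgroup F₀ P = S.comap (glEquiv (Fin m ⊕ Fin m) F).toMonoidHom :=
    (comap_symm_comap' (glEquiv (Fin m ⊕ Fin m) F) _).symm
  rw [hSeq, spGL_eq, ← Subgroup.comap_inf]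
  apply isMaximalIn_comap
  rw [← isoGroup_smul (Bsymp m F) hζ]
  apply maximal_rat hBalt hbs ?_ hm' hp
  intro g
  have key : ∀ x, (((glEquiv (Fin m ⊕ Fin m) F).symm g :
      Matrix.GeneralLinearGroup (Fin m ⊕ Fin m) F) :
      Matrix (Fin m ⊕ Fin m) (Fin m ⊕ Fin m) F).mulVec x = g x := by
    intro x
    rw [← glEquiv_apply, MulEquiv.apply_symm_apply]
  show (glEquiv (Fin m ⊕ Fin m) F).symm g ∈ Cfsg.Geo.subfieldSubgroup F₀ P ↔ _
  rw [mem_subfieldSubgroup_iff]
  simp only [key]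
  constructor
  · rintro ⟨μ, hμ, h⟩
    refine ⟨μ, hμ, fun v hv => ?_⟩
    obtain ⟨w, hw, hgw⟩ := h v ((hratV v).mpr hv)
    exact ⟨w, (hratV w).mp hw, hgw⟩
  · rintro ⟨μ, hμ, h⟩
    refine ⟨μ, hμ, fun v hv => ?_⟩
    obtain ⟨w, hw, hgw⟩ := h v ((hratV v).mp hv)
    exact ⟨w, (hratV w).mpr hw, hgw⟩

end Cfsg.Agent.S5650
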