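import Mathlib
import Cfsg.Statements.S1339
import Cfsg.Agent.Lib.Helper23_CharP
import Cfsg.Agent.Lib.Helper1_Cores

set_option autoImplicit false
set_option linter.unusedSectionVars false
open Cfsg

namespace Cfsg.Agent.S1339

open Matrix

section
variable {F : Type*} [Field F] [Fintype F] {n : ℕ}

lemma eq_zero_or_one (hF : Fintype.card F = 2) (x : F) : x = 0 ∨ x = 1 := by
  classical
  by_contra h
  push Not at h
  have hsub : ({0, 1, x} : Finset F) ⊆ Finset.univ := Finset.subset_univ _
  have hc : ({0, 1, x} : Finset F).card = 3 := by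
    rw [Finset.card_insert_of_notMem, Finset.card_insert_of_notMem, Finset.card_singleton]
    · simp [Ne.symm h.2]
    · simp [Ne.symm h.1]
  have := Finset.card_le_card hsub
  rw [hc, Finset.card_univ, hF] at this
  omega

lemma two_eq_zero (hF : Fintype.card F = 2) : (2 : F) = 0 := by
  have := FiniteField.cast_card_eq_zero F
  rw [hF] at this
  exact_mod_cast this

/-- the matrix conditions for commuting with the transvection `1 + E_ij` -/
lemma comm_iff (hF : Fintype.card F = 2) {i j : Fin n} (hij : i ≠ j) (g : Matrix (Fin n) (Fin n) F)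
    (hdet : g.det = 1) (h : Matrix.transvection i j (1 : F) * g = g * Matrix.transvection i j 1) :
    (∀ k, g k i = if k = i then 1 else 0) ∧ (∀ l, g j l = if l = j then 1 else 0) := by
  have h1 : Matrix.single i j (1 : F) * g = g * Matrix.single i j 1 := by
    unfold Matrix.transvection at h
    rw [Matrix.add_mul, Matrix.mul_add, Matrix.one_mul, Matrix.mul_one] at h
    exact add_left_cancel h
  have e1 : ∀ k l, (Matrix.single i j (1 : F) * g) k l = if k = i then g j l else 0 := by
    intro k l
    by_cases hk : k = i
    · subst hk; simp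
    · simp [hk]
  have e2 : ∀ k l, (g * Matrix.single i j (1 : F)) k l = if l = j then g k i else 0 := by
    intro k l
    by_cases hl : l = j
    · subst hl; simp
    · simp [hl]
  have ent : ∀ k l, (if k = i then g j l else 0) = (if l = j then g k i else 0) := by
    intro k l
    rw [← e1, ← e2, h1]
  have hcol : ∀ k, k ≠ i → g k i = 0 := by
    intro k hk
    have := ent k j
    simpa [hk] using this.symm
  have hrow : ∀ l, l ≠ j → g j l = 0 := by
    intro l hl
    have := ent i l
    simpa [hl] using this
  have hdiag : g j j = g i i := by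
    have := ent i j
    simpa using this
  have hii : g i i = 1 := by
    rcases eq_zero_or_one hF (g i i) with h0 | h0
    · exfalso
      have : g.det = 0 := by
        apply Matrix.det_eq_zero_of_column_eq_zero i
        intro k
        by_cases hk : k = i
        · rw [hk, h0]
        · exact hcol k hk
      rw [hdet] at this
      exact one_ne_zero this
    · exact h0
  refine ⟨fun k => ?_, fun l => ?_⟩
  · by_cases hk : k = i
    · rw [if_pos hk, hk, hii]
    · rw [if_neg hk, hcol k hk]
  · by_cases hl : l = j
    · rw [if_pos hl, hl, hdiag, hii]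
    · rw [if_neg hl, hrow l hl]

/-- products of matrices whose rows other than `i` are standard -/
lemma rows_mul {i : Fin n} (g h : Matrix (Fin n) (Fin n) F)
    (hg : ∀ k l, k ≠ i → g k l = if k = l then 1 else 0) (k l : Fin n) (hk : k ≠ i) :
    (g * h) k l = h k l := by
  rw [Matrix.mul_apply]
  simp [hg k _ hk]

lemma sq_eq_one (hF : Fintype.card F = 2) {i : Fin n} (g : Matrix (Fin n) (Fin n) F)
    (hg : ∀ k l, k ≠ i → g k l = if k = l then 1 else 0) (hii : g i i = 1) : g * g = 1 := by
  ext k l
  by_cases hk : k = i
  · subst hk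
    rw [Matrix.mul_apply]
    have h1 : ∀ m, g k m * g m l = if m = k then g k l else (if m = l then g k m else 0) := by
      intro m
      by_cases hm : m = k
      · subst hm; rw [if_pos rfl, hii, one_mul]
      · rw [if_neg hm, hg m l hm]
        by_cases hml : m = l
        · rw [if_pos hml, if_pos hml, mul_one]
        · rw [if_neg hml, if_neg hml, mul_zero]
    simp_rw [h1]
    by_cases hkl : k = l
    · subst hkl
      have : ∀ m, (if m = k then g k k else (if m = k then g k m else 0)) = if m = k then g k k else 0 := by
        intro m; by_cases hm : m = k <;> simp [hm]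
      simp_rw [this]
      simp [hii]
    · have : ∀ m, (if m = k then g k l else (if m = l then g k m else 0)) =
          (if m = k then g k l else 0) + (if m = l then g k m else 0) := by
        intro m
        by_cases hm : m = k
        · subst hm; simp [hkl]
        · simp [hm]
      simp_rw [this]
      rw [Finset.sum_add_distrib]
      simp only [Finset.sum_ite_eq', Finset.mem_univ, if_true]
      rw [Matrix.one_apply_ne hkl]
      have h2 := two_eq_zero hF
      linear_combination g k l * h2
  · rw [rows_mul g g hg k l hk, hg k l hk, Matrix.one_apply]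

end

/-- Let F be a field with 2 elements, n ≥ 3, and t ∈ SL(n, F) a transvection (t = 1 + E_{ij}, i ≠ j). Then the generalized Fitting subgroup of C(t) is O_2(C(t)). -/
theorem result {F : Type*} [Field F] [Fintype F] [DecidableEq F] (hF : Fintype.card F = 2) (n : ℕ) (hn : 3 ≤ n) (i j : Fin n) (hij : i ≠ j) (t : Matrix.SpecialLinearGroup (Fin n) F) (ht : (t : Matrix (Fin n) (Fin n) F) = Matrix.transvection i j 1) : Cfsg.generalizedFittingSubgroup ↥(Subgroup.centralizer ({t} : Set (Matrix.SpecialLinearGroup (Fin n) F))) = Cfsg.pCore 2 ↥(Subgroup.centralizer ({t} : Set (Matrix.SpecialLinearGroup (Fin n) F))) := by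
  have : Fact (Nat.Prime 2) := ⟨Nat.prime_two⟩
  rw [← Cfsg.Agent.Lib.Helper23_CharP.isCharP_iff_generalizedFitting_eq]
  set C := Subgroup.centralizer ({t} : Set (Matrix.SpecialLinearGroup (Fin n) F)) with hC
  -- elements of `C`
  have hCmem : ∀ x : ↥C, (∀ k, x.1.1 k i = if k = i then 1 else 0) ∧ (∀ l, x.1.1 j l = if l = j then 1 else 0) := by
    intro x
    have hx := Subgroup.mem_centralizer_iff.mp x.2 t rfl
    have hx' : t.1 * x.1.1 = x.1.1 * t.1 := congrArg (fun y : SpecialLinearGroup (Fin n) F => y.1) hx
    rw [ht] at hx'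
    exact comm_iff hF hij x.1.1 x.1.2 hx'
  -- the normal 2-subgroup
  let Q : Subgroup ↥C :=
    { carrier := {x | ∀ k l, k ≠ i → x.1.1 k l = if k = l then 1 else 0}
      one_mem' := by
        intro k l _
        show (1 : Matrix (Fin n) (Fin n) F) k l = _
        rw [Matrix.one_apply]
      mul_mem' := by
        intro x y hx hy k l hk
        show (x.1.1 * y.1.1) k l = _
        rw [rows_mul _ _ hx k l hk, hy k l hk]
      inv_mem' := by
        intro x hx
        have hii : x.1.1 i i = 1 := by simpa using (hCmem x).1 i
        have hsq : x * x = 1 := by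
          apply Subtype.ext
          apply Subtype.ext
          show x.1.1 * x.1.1 = 1
          exact sq_eq_one hF _ hx hii
        have : x⁻¹ = x := inv_eq_of_mul_eq_one_left hsq
        rw [this]
        exact hx }
  have hQmem : ∀ x : ↥C, x ∈ Q ↔ ∀ k l, k ≠ i → x.1.1 k l = if k = l then 1 else 0 := fun x => Iff.rfl
  have hQp : IsPGroup 2 ↥Q := by
    intro x
    refine ⟨1, ?_⟩
    have hii : x.1.1.1 i i = 1 := by simpa using (hCmem x.1).1 i
    apply Subtype.ext
    apply Subtype.ext
    apply Subtype.ext
    show (x.1.1 ^ (2 ^ 1)).1 = 1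
    rw [pow_one, pow_two]
    exact sq_eq_one hF _ x.2 hii
  have hQn : Q.Normal := by
    constructor
    intro x hx c
    rw [hQmem] at hx ⊢
    intro k l hk
    show (c.1.1 * x.1.1 * (c⁻¹).1.1) k l = _
    -- rows `k ≠ i` of `c * x` agree with rows of `c`
    have h1 : ∀ m, (c.1.1 * x.1.1) k m = c.1.1 k m := by
      intro m
      rw [Matrix.mul_apply]
      have hcki : c.1.1 k i = 0 := by simpa [hk] using (hCmem c).1 k
      have : ∀ r, c.1.1 k r * x.1.1 r m = if r = m then c.1.1 k m else 0 := by
        intro r
        by_cases hr : r = i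
        · subst hr
          rw [hcki, zero_mul]
          by_cases hrm : r = m
          · rw [if_pos hrm, ← hrm, hcki]
          · rw [if_neg hrm]
        · rw [hx r m hr]
          by_cases hrm : r = m
          · rw [if_pos hrm, if_pos hrm, mul_one, hrm]
          · rw [if_neg hrm, if_neg hrm, mul_zero]
      simp_rw [this]
      simp
    have h2 : (c.1.1 * x.1.1 * (c⁻¹).1.1) k l = (c.1.1 * (c⁻¹).1.1) k l := by
      rw [Matrix.mul_apply, Matrix.mul_apply]
      simp_rw [h1]
    rw [h2]
    have h3 : c.1.1 * (c⁻¹).1.1 = 1 :=
      congrArg (fun y : ↥C => y.1.1) (mul_inv_cancel c)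
    rw [h3, Matrix.one_apply]
  have hQle : Q ≤ Cfsg.pCore 2 ↥C := Cfsg.Agent.Lib.Helper1_Cores.le_pCore hQn hQp
  -- the centralizer of `Q` lies in `Q`
  show Subgroup.centralizer (Cfsg.pCore 2 ↥C : Set ↥C) ≤ Cfsg.pCore 2 ↥C
  intro x hx
  apply hQle
  rw [hQmem]
  intro k l hk
  by_cases hkj : k = j
  · subst hkj
    rw [(hCmem x).2 l]
    by_cases hkl : k = l
    · rw [if_pos hkl, if_pos hkl.symm]
    · rw [if_neg hkl, if_neg (Ne.symm hkl)]
  · -- the transvection `1 + E_ik` lies in `Q`
    have hik : i ≠ k := Ne.symm hk
    let q0 : SpecialLinearGroup (Fin n) F := SpecialLinearGroup.transvection hik 1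
    have hq0coe : q0.1 = Matrix.transvection i k 1 := rfl
    have hq0C : q0 ∈ C := by
      rw [hC, Subgroup.mem_centralizer_iff]
      intro y hy
      rw [Set.mem_singleton_iff] at hy
      subst hy
      apply Subtype.ext
      show y.1 * q0.1 = q0.1 * y.1
      rw [ht, hq0coe]
      unfold Matrix.transvection
      have e1 : Matrix.single i j (1 : F) * Matrix.single i k (1 : F) = 0 :=
        Matrix.single_mul_single_of_ne _ _ _ _ (Ne.symm hij) _
      have e2 : Matrix.single i k (1 : F) * Matrix.single i j (1 : F) = 0 :=
        Matrix.single_mul_single_of_ne _ _ _ _ (Ne.symm hik) _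
      simp only [add_mul, mul_add, one_mul, mul_one, e1, e2]
      abel
    have hq0Q : (⟨q0, hq0C⟩ : ↥C) ∈ Q := by
      rw [hQmem]
      intro r s hr
      show q0.1 r s = _
      rw [hq0coe]
      unfold Matrix.transvection
      have e3 : Matrix.single i k (1 : F) r s = 0 := by
        rw [Matrix.single_apply, if_neg (fun h => hr h.1.symm)]
      rw [Matrix.add_apply, Matrix.one_apply, e3, add_zero]
    have hcomm := Subgroup.mem_centralizer_iff.mp hx ⟨q0, hq0C⟩ (hQle hq0Q)
    have hcomm' : q0.1 * x.1.1 = x.1.1 * q0.1 :=
      congrArg (fun y : ↥C => y.1.1) hcomm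
    rw [hq0coe] at hcomm'
    unfold Matrix.transvection at hcomm'
    rw [Matrix.add_mul, Matrix.mul_add, Matrix.one_mul, Matrix.mul_one] at hcomm'
    have h4 : Matrix.single i k (1 : F) * x.1.1 = x.1.1 * Matrix.single i k 1 := add_left_cancel hcomm'
    have e5 : ∀ (g : Matrix (Fin n) (Fin n) F) (a b : Fin n),
        (Matrix.single i k (1 : F) * g) a b = if a = i then g k b else 0 := by
      intro g a b
      by_cases ha : a = i
      · subst ha; simp
      · simp [ha]
    have e6 : ∀ (g : Matrix (Fin n) (Fin n) F) (a b : Fin n),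
        (g * Matrix.single i k (1 : F)) a b = if b = k then g a i else 0 := by
      intro g a b
      by_cases hb : b = k
      · subst hb; simp
      · simp [hb]
    have h5 := congrFun (congrFun h4 i) l
    rw [e5, e6, if_pos rfl] at h5
    have hii : x.1.1 i i = 1 := by simpa using (hCmem x).1 i
    by_cases hkl : k = l
    · subst hkl
      rw [if_pos rfl, hii] at h5
      rw [if_pos rfl]
      exact h5
    · rw [if_neg (Ne.symm hkl)] at h5
      rw [if_neg hkl]
      exact h5

end Cfsg.Agent.S1339
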