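import Mathlib
import Cfsg.Statements.S0302
import Cfsg.Agent.Lib.Helper5_OmegaCenter
import Cfsg.Agent.Lib.Helper5_OmegaIndex
import Cfsg.Agent.Lib.Helper5_Klein
import Cfsg.Agent.Lib.Helper5_SLCard
import Cfsg.Agent.Lib.Helper5_SLGen
import Cfsg.Agent.Lib.Helper44_StdForms
import Cfsg.Agent.Lib.Helper44_Orth
import Cfsg.Agent.S0287
import Cfsg.Agent.S0294

set_option autoImplicit false
set_option linter.unusedSimpArgs false
open Cfsg

namespace Cfsg.Agent.S0302

open Matrix Cfsg.Agent.Lib.Helper5_OmegaCenter Cfsg.Agent.Lib.Helper5_OmegaIndex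
  Cfsg.Agent.Lib.Helper44_StdForms Cfsg.Agent.Lib.Helper5_Klein

section
variable {F : Type*} [Field F]

def e1 : I6 → F := Pi.single (Sum.inl 0) 1
def f1 : I6 → F := Pi.single (Sum.inr 0) 1
def e2 : I6 → F := Pi.single (Sum.inl 1) 1
def f2 : I6 → F := Pi.single (Sum.inr 1) 1
def s0 : I6 → F := Pi.single (Sum.inl 2) 1 + Pi.single (Sum.inr 2) 1

lemma polar_pl (x y : I6 → F) : QuadraticMap.polar (⇑(qfPlus 3 F)) x y =
    (x (Sum.inl 0) * y (Sum.inr 0) + y (Sum.inl 0) * x (Sum.inr 0)) +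
    (x (Sum.inl 1) * y (Sum.inr 1) + y (Sum.inl 1) * x (Sum.inr 1)) +
    (x (Sum.inl 2) * y (Sum.inr 2) + y (Sum.inl 2) * x (Sum.inr 2)) := by
  rw [coe_qfPlus, polar_quadFormPlus, Fin.sum_univ_three]

lemma Q_pl (x : I6 → F) : qfPlus 3 F x =
    x (Sum.inl 0) * x (Sum.inr 0) + x (Sum.inl 1) * x (Sum.inr 1) + x (Sum.inl 2) * x (Sum.inr 2) := by
  rw [coe_qfPlus]
  simp [Cfsg.quadFormPlus, Fin.sum_univ_three]

lemma star6 : Star (qfPlus 3 F) (e1 : I6 → F) f1 := by
  refine star_of_second_pair (qfPlus 3 F) (Cfsg.Agent.S0287.nondeg_qfPlus 3) (e₂ := e2) (f₂ := f2) (s₀ := s0)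
    ?_ ?_ ?_ ?_ ?_ ?_ ?_ ?_ ?_ ?_ ?_ ?_ ?_ ?_ ?_
  all_goals first
    | (rw [Q_pl]; simp [e1, f1, e2, f2, s0])
    | (rw [polar_pl]; simp [e1, f1, e2, f2, s0])

lemma ns6 : NS (qfPlus 3 F) (e1 : I6 → F) f1 s0 := by
  refine ⟨?_, ?_, ?_⟩
  · rw [polar_pl]; simp [e1, f1, e2, f2, s0]
  · rw [polar_pl]; simp [e1, f1, e2, f2, s0]
  · rw [Q_pl]; simp [e1, f1, e2, f2, s0]

lemma L_scalar (g : SpecialLinearGroup (Fin 4) F) (r : F)
    (hg : g.1 = r • (1 : Matrix (Fin 4) (Fin 4) F)) (v : I6 → F) :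
    L g v = (r * r) • v := by
  rw [Cfsg.Agent.Lib.Helper5_Klein.L_apply, conjT_apply]
  have : (g : Matrix (Fin 4) (Fin 4) F) * alt v * (g : Matrix (Fin 4) (Fin 4) F)ᵀ = (r * r) • alt v := by
    show g.1 * alt v * g.1ᵀ = _
    rw [hg, Matrix.transpose_smul, Matrix.transpose_one, Matrix.smul_mul, Matrix.one_mul,
      Matrix.mul_smul, Matrix.mul_one, smul_smul]
  rw [this, map_smul, coords_alt]

lemma center_scalar (g : SpecialLinearGroup (Fin 4) F)
    (hg : g ∈ Subgroup.center (SpecialLinearGroup (Fin 4) F)) :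
    ∃ r : F, g.1 = r • (1 : Matrix (Fin 4) (Fin 4) F) := by
  rw [Matrix.SpecialLinearGroup.mem_center_iff] at hg
  obtain ⟨r, _, hr⟩ := hg
  refine ⟨r, ?_⟩
  rw [← hr, Matrix.smul_one_eq_diagonal]
  rfl

lemma L_of_ker (g : SpecialLinearGroup (Fin 4) F) (hg : g ∈ (rho (F := F)).ker) (v : I6 → F) :
    L g v = v := by
  rw [← rho_mulVec, MonoidHom.mem_ker.mp hg]
  show (1 : Matrix I6 I6 F) *ᵥ v = v
  rw [Matrix.one_mulVec]

lemma ker_rho_scalar (g : SpecialLinearGroup (Fin 4) F) (hg : g ∈ (rho (F := F)).ker) :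
    ∃ r : F, r * r = 1 ∧ g.1 = r • (1 : Matrix (Fin 4) (Fin 4) F) := by
  have hL := L_of_ker g hg
  have hc := mem_center_of_L_scalar g 1 (fun v => by rw [hL, one_smul])
  obtain ⟨r, hr⟩ := center_scalar g hc
  refine ⟨r, ?_, hr⟩
  have h1 := hL e1
  rw [L_scalar g r hr] at h1
  have h2 := congrFun h1 (Sum.inl 0)
  simpa [e1] using h2

lemma card_ker_le_two [Fintype F] : Nat.card (rho (F := F)).ker ≤ 2 := by
  classical
  have hinj : Function.Injective
      (fun g : (rho (F := F)).ker => (⟨g.1.1 0 0, by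
        obtain ⟨r, hr, hg⟩ := ker_rho_scalar g.1 g.2
        rw [hg]
        have h2 : (r - 1) * (r + 1) = 0 := by linear_combination hr
        rcases mul_eq_zero.mp h2 with h | h
        · simp [sub_eq_zero.mp h]
        · simp [eq_neg_of_add_eq_zero_left h]⟩ : ↥({1, -1} : Finset F))) := by
    intro g h hgh
    have h0 : g.1.1 0 0 = h.1.1 0 0 := congrArg Subtype.val hgh
    obtain ⟨r, _, hg⟩ := ker_rho_scalar g.1 g.2
    obtain ⟨r', _, hh⟩ := ker_rho_scalar h.1 h.2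
    apply Subtype.ext
    apply Subtype.ext
    rw [hg, hh] at h0 ⊢
    simp at h0
    rw [h0]
  calc Nat.card (rho (F := F)).ker ≤ Nat.card ↥({1, -1} : Finset F) := Nat.card_le_card_of_injective _ hinj
    _ = ({1, -1} : Finset F).card := by rw [Nat.card_eq_fintype_card, Fintype.card_coe]
    _ ≤ 2 := Finset.card_le_two

lemma ker_eq_bot_of_two (h2 : (2 : F) = 0) : (rho (F := F)).ker = ⊥ := by
  rw [eq_bot_iff]
  intro g hg
  rw [Subgroup.mem_bot]
  obtain ⟨r, hr, hgr⟩ := ker_rho_scalar g hg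
  have h3 : (r - 1) * (r - 1) = 0 := by linear_combination hr + (1 - r) * h2
  have h4 : r = 1 := by
    rcases mul_eq_zero.mp h3 with h | h <;> exact sub_eq_zero.mp h
  apply Subtype.ext
  rw [hgr, h4, one_smul]
  rfl

lemma arithSL (q S : ℕ) (hq : 2 ≤ q)
    (h : S * (q - 1) = ∏ i : Fin 4, (q ^ 4 - q ^ (i : ℕ))) :
    S = q ^ 6 * (q ^ 4 - 1) * (q ^ 3 - 1) * (q ^ 2 - 1) := by
  have hq1 : 0 < q - 1 := by omega
  apply Nat.eq_of_mul_eq_mul_right hq1
  rw [h, Fin.prod_univ_four]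
  have h0 : q ^ 0 ≤ q ^ 4 := Nat.pow_le_pow_right (by omega) (by norm_num)
  have h1 : q ^ 1 ≤ q ^ 4 := Nat.pow_le_pow_right (by omega) (by norm_num)
  have h2 : q ^ 2 ≤ q ^ 4 := Nat.pow_le_pow_right (by omega) (by norm_num)
  have h3 : q ^ 3 ≤ q ^ 4 := Nat.pow_le_pow_right (by omega) (by norm_num)
  have k4 : 1 ≤ q ^ 4 := Nat.one_le_pow _ _ (by omega)
  have k3 : 1 ≤ q ^ 3 := Nat.one_le_pow _ _ (by omega)
  have k2 : 1 ≤ q ^ 2 := Nat.one_le_pow _ _ (by omega)
  have k1 : 1 ≤ q := by omega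
  simp only [Fin.val_zero, Fin.val_one, Fin.val_two]
  have e3 : ((3 : Fin 4) : ℕ) = 3 := rfl
  rw [e3]
  zify [h0, h1, h2, h3, k4, k3, k2, k1]
  ring

end

/-- PΩ^+_6(q) is isomorphic to PSL_4(q). -/
theorem result {F : Type*} [Field F] [Fintype F] : Nonempty (Cfsg.POmega F (Cfsg.quadFormPlus 3 F) ≃* Matrix.ProjectiveSpecialLinearGroup (Fin 4) F) := by
  classical
  have hcardO := Cfsg.Agent.S0287.card_plus (F := F) 2
  rw [← coe_qfPlus 3 F] at hcardO ⊢
  set Q := qfPlus 3 F with hQdef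
  have hnd := Cfsg.Agent.S0287.nondeg_qfPlus (F := F) 3
  have hQ := Cfsg.Agent.S0294.nondegenerate_of_hnd Q hnd
  -- the image of the Klein representation lies in Ω
  have hle : (rho (F := F)).range ≤ Cfsg.Omega F (⇑Q) := by
    rintro _ ⟨g, rfl⟩
    have hg : g ∈ commutator (SpecialLinearGroup (Fin 4) F) := by
      rw [Cfsg.Agent.Lib.Helper5_SLGen.commutator_eq_top_of_three_le_card (by simp)]
      trivial
    exact Cfsg.Agent.Lib.Helper44_Orth.map_mem_commutator rho hg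
  have hq : 2 ≤ Fintype.card F := Fintype.one_lt_card
  have hSL : Nat.card (SpecialLinearGroup (Fin 4) F) =
      Fintype.card F ^ 6 * (Fintype.card F ^ 4 - 1) * (Fintype.card F ^ 3 - 1) * (Fintype.card F ^ 2 - 1) := by
    apply arithSL _ _ hq
    rw [← Cfsg.Agent.Lib.Helper5_SLCard.card_GL_eq_card_SL_mul 4 (by norm_num), Matrix.card_GL_field]
  have hker := Subgroup.card_eq_card_quotient_mul_card_subgroup (rho (F := F)).ker
  rw [Nat.card_congr (QuotientGroup.quotientKerEquivRange (rho (F := F))).toEquiv, hSL] at hker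
  have hmul := Subgroup.card_mul_index (Cfsg.Omega F (⇑Q))
  rw [hcardO] at hmul
  have hN : 2 * Fintype.card F ^ ((2 + 1) * 2) * (Fintype.card F ^ (2 + 1) - 1)
        * ∏ i ∈ Finset.range 2, (Fintype.card F ^ (2 * (i + 1)) - 1) =
      2 * (Fintype.card F ^ 6 * (Fintype.card F ^ 4 - 1) * (Fintype.card F ^ 3 - 1) * (Fintype.card F ^ 2 - 1)) := by
    simp only [Finset.prod_range_succ, Finset.prod_range_zero]
    norm_num
    ring
  rw [hN] at hmul
  have hcard : Nat.card ↥(Cfsg.Omega F (⇑Q)) ≤ Nat.card ↥(rho (F := F)).range := by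
    generalize Fintype.card F ^ 6 * (Fintype.card F ^ 4 - 1) * (Fintype.card F ^ 3 - 1) * (Fintype.card F ^ 2 - 1) = N at hmul hker
    by_cases h2 : (2 : F) = 0
    · have hidx := index_omega_two h2 Q hQ (Or.inr (by simp)) (v := s0) (by rw [Q_pl]; simp [s0])
      rw [hidx] at hmul
      rw [ker_eq_bot_of_two h2, Subgroup.card_bot, mul_one] at hker
      omega
    · have hidx := index_omega_odd h2 Q hQ (by simp)
      rw [hidx] at hmul
      have h3 : Nat.card ↥(rho (F := F)).range * Nat.card ↥(rho (F := F)).ker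
          ≤ Nat.card ↥(rho (F := F)).range * 2 := Nat.mul_le_mul_left _ card_ker_le_two
      omega
  have heq : (rho (F := F)).range = Cfsg.Omega F (⇑Q) := Subgroup.eq_of_le_of_card_ge hle hcard
  -- the induced map onto PΩ
  let ρ' : SpecialLinearGroup (Fin 4) F →* ↥(Cfsg.Omega F (⇑Q)) :=
    (rho (F := F)).codRestrict (Cfsg.Omega F (⇑Q)) (fun g => hle ⟨g, rfl⟩)
  have hsurjρ : Function.Surjective ρ' := by
    intro ω
    have : ω.1 ∈ (rho (F := F)).range := by rw [heq]; exact ω.2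
    obtain ⟨g, hg⟩ := this
    exact ⟨g, Subtype.ext hg⟩
  let φ : SpecialLinearGroup (Fin 4) F →* Cfsg.POmega F (⇑Q) :=
    (QuotientGroup.mk' (Subgroup.center ↥(Cfsg.Omega F (⇑Q)))).comp ρ'
  have hsurj : Function.Surjective φ :=
    (QuotientGroup.mk'_surjective _).comp hsurjρ
  have hkerφ : φ.ker = Subgroup.center (SpecialLinearGroup (Fin 4) F) := by
    ext g
    rw [MonoidHom.mem_ker]
    show (QuotientGroup.mk (ρ' g) : Cfsg.POmega F (⇑Q)) = 1 ↔ _
    rw [QuotientGroup.eq_one_iff]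
    constructor
    · intro h
      have hpm := center_omega_pm Q hnd (e := e1) (f := f1) (by rw [Q_pl]; simp [e1]) (by rw [Q_pl]; simp [f1])
        (by rw [polar_pl]; simp [e1, f1]) star6 ns6 (ρ' g) h
      have hmat : ∀ v, L g v = ((rho g : Matrix.GeneralLinearGroup I6 F) : Matrix I6 I6 F) *ᵥ v :=
        fun v => (rho_mulVec g v).symm
      rcases hpm with h1 | h1
      · refine mem_center_of_L_scalar g 1 (fun v => ?_)
        rw [hmat v]
        have : ((rho g : Matrix.GeneralLinearGroup I6 F) : Matrix I6 I6 F) = 1 := h1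
        rw [this, Matrix.one_mulVec, one_smul]
      · refine mem_center_of_L_scalar g (-1) (fun v => ?_)
        rw [hmat v]
        have : ((rho g : Matrix.GeneralLinearGroup I6 F) : Matrix I6 I6 F) = -1 := h1
        rw [this, Matrix.neg_mulVec, Matrix.one_mulVec, neg_smul, one_smul]
    · intro hg
      rw [Subgroup.mem_center_iff]
      intro ω
      obtain ⟨h, rfl⟩ := hsurjρ ω
      rw [← map_mul, ← map_mul, Subgroup.mem_center_iff.mp hg h]
  exact ⟨(QuotientGroup.quotientKerEquivOfSurjective φ hsurj).symm.trans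
    (QuotientGroup.quotientMulEquivOfEq hkerφ)⟩

end Cfsg.Agent.S0302
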