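import Cfsg.Statements.S4443
import Cfsg.Agent.Lib.Helper78_LocalRing
import Cfsg.Agent.Lib.Helper78_CharFacts
import Cfsg.Agent.Lib.Helper79_Residue
import Cfsg.Agent.Lib.Helper79_RankTools
import Cfsg.Agent.Lib.Helper79_RobinsonFormula
import Cfsg.Agent.Lib.Helper79_RobinsonTerm
import Cfsg.Agent.Lib.Helper79_RobinsonMain

set_option autoImplicit false
open Cfsg

namespace Cfsg.Agent.S4443

open Cfsg.Agent.Lib.Helper78_LocalRing Cfsg.Agent.Lib.Helper78_CharFacts
  Cfsg.Agent.Lib.Helper79_Residue Cfsg.Agent.Lib.Helper79_RankTools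
  Cfsg.Agent.Lib.Helper79_RobinsonFormula Cfsg.Agent.Lib.Helper79_RobinsonTerm
  Cfsg.Agent.Lib.Helper79_RobinsonMain

open scoped Matrix

/-- Robinson's theorem for a family of representatives of the `p`-regular classes with defect group
`D`: the number of blocks with defect group `D` is the rank over the residue field of the matrix of
pair counts divided by `p ^ (a - d)`. -/
theorem rank_eq_card {G : Type*} [Group G] [Fintype G] {p : ℕ} [Fact p.Prime]
    {M : Ideal Cfsg.AlgInt} [hmax : M.IsMaximal] (hM : Cfsg.IsPModular p M) (D : Subgroup G)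
    (S : Sylow p G) {ι : Type*} [Fintype ι] [DecidableEq ι] (x : ι → G)
    (hxS : ∀ i, HasSylow p D (x i))
    (hinj : ∀ i j, IsConj (x i) (x j) → i = j)
    (hall : ∀ g : G, ¬ p ∣ orderOf g → HasSylow p D g → ∃ i, IsConj (x i) g)
    [Fintype (GoodBlock p M D)] :
    (Matrix.of fun i j : ι => redFun M ((pairCount (S : Subgroup G) (x i) (x j) : ℂ) /
      (p : ℂ) ^ ((Nat.card G).factorization p - (Nat.card D).factorization p))).rank =
      Fintype.card (GoodBlock p M D) := by
  classical
  have hMp := hmax.isPrime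
  set k := (Nat.card G).factorization p - (Nat.card D).factorization p with hk
  have hne : ∀ B : GoodBlock p M D, ∃ χ, χ ∈ B.1 := fun B => isPBlock_nonempty hMp B.2.1
  choose rep hrep using hne
  set Ω : Matrix (GoodBlock p M D) ι (ResField M) :=
    fun B j => redFun M (centralChar (rep B : G → ℂ) (x j)) with hΩ
  set Ω' : Matrix (GoodBlock p M D) ι (ResField M) :=
    fun B i => redFun M (centralChar (rep B : G → ℂ) (x i)⁻¹) with hΩ'
  set u : GoodBlock p M D → ResField M :=
    fun B => redFun M (blockCoeff B.1 1 / (p : ℂ) ^ k) with hu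
  set C : Matrix ι (GoodBlock p M D) (ResField M) :=
    fun j B => redFun M (blockCoeff B.1 (x j)) with hC
  set C' : Matrix ι (GoodBlock p M D) (ResField M) :=
    fun i B => redFun M (blockCoeff B.1 (x i)⁻¹) with hC'
  have hu0 : ∀ B, u B ≠ 0 := fun B =>
    redFun_ne_zero (blockCoeff_one_div hM B.2.1 B.2.2).1 (blockCoeff_one_div hM B.2.1 B.2.2).2
  -- right inverses
  have hright : ∀ (y : ι → G), (∀ i j, IsConj (y i) (y j) → i = j) →
      (∀ g : G, ¬ p ∣ orderOf g → HasSylow p D g → ∃ i, IsConj (y i) g) →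
      (Matrix.of fun (B : GoodBlock p M D) (j : ι) =>
        redFun M (centralChar (rep B : G → ℂ) (y j))) *
      (Matrix.of fun (j : ι) (B : GoodBlock p M D) => redFun M (blockCoeff B.1 (y j))) = 1 := by
    intro y hy1 hy2
    ext B' B
    rw [Matrix.mul_apply]
    simp only [Matrix.of_apply]
    have h1 := sum_blockCoeff_mul_centralChar hM D B B' (hrep B') y hy1 hy2
    have hR : ∀ i ∈ (Finset.univ : Finset ι),
        MemLocalRing M (blockCoeff B.1 (y i) * centralChar (rep B' : G → ℂ) (y i)) :=
      fun i _ => memLocalRing_mul hMp (osima_block' hMp B.2.1 _) (memLocalRing_centralChar hMp _ _)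
    have hR2 : MemLocalRing M (if B = B' then (1 : ℂ) else 0) := by
      split_ifs
      · exact memLocalRing_one hMp
      · exact memLocalRing_zero hMp
    have h2 := redFun_eq_of_sub (memLocalRing_sum hMp _ _ hR) hR2 h1
    rw [redFun_sum _ _ hR] at h2
    have h3 : ∑ i, redFun M (centralChar (rep B' : G → ℂ) (y i)) * redFun M (blockCoeff B.1 (y i)) =
        ∑ i, redFun M (blockCoeff B.1 (y i) * centralChar (rep B' : G → ℂ) (y i)) := by
      refine Finset.sum_congr rfl fun i _ => ?_
      rw [redFun_mul (osima_block' hMp B.2.1 _) (memLocalRing_centralChar hMp _ _), mul_comm]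
    rw [h3, h2, Matrix.one_apply]
    by_cases hBB : B = B'
    · rw [if_pos hBB, if_pos hBB.symm, redFun_one]
    · rw [if_neg hBB, if_neg (fun h => hBB h.symm), redFun_zero]
  have hΩC : Ω * C = 1 := hright x hinj hall
  have hΩC' : Ω' * C' = 1 := by
    refine hright (fun i => (x i)⁻¹) ?_ ?_
    · intro i j hij
      exact hinj i j ((isConj_inv_inv_iff _ _).mp hij)
    · intro g hg hgS
      have hg' : ¬ p ∣ orderOf g⁻¹ := by rwa [orderOf_inv]
      obtain ⟨i, hi⟩ := hall g⁻¹ hg' hgS.inv
      refine ⟨i, ?_⟩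
      have := (isConj_inv_inv_iff (x i) g⁻¹).mpr hi
      rwa [inv_inv] at this
  -- the matrix identity
  have hmat : (Matrix.of fun i j : ι => redFun M ((pairCount (S : Subgroup G) (x i) (x j) : ℂ) /
      (p : ℂ) ^ k)) = Ω'ᵀ * Matrix.diagonal u * Ω := by
    ext i j
    rw [transpose_mul_diag_mul_apply]
    simp only [Matrix.of_apply]
    have h1 := main_congruence hM S D (hxS i) (hxS j) rep hrep
    have hR : ∀ B ∈ (Finset.univ : Finset (GoodBlock p M D)),
        MemLocalRing M (blockCoeff B.1 1 / (p : ℂ) ^ k * centralChar (rep B : G → ℂ) (x j) *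
          centralChar (rep B : G → ℂ) (x i)⁻¹) := fun B _ =>
      memLocalRing_mul hMp (memLocalRing_mul hMp (blockCoeff_one_div hM B.2.1 B.2.2).1
        (memLocalRing_centralChar hMp _ _)) (memLocalRing_centralChar hMp _ _)
    have h2 := redFun_eq_of_sub (memLocalRing_pairCount_div hM S D (hxS i) (hxS j))
      (memLocalRing_sum hMp _ _ hR) h1
    rw [h2, redFun_sum _ _ hR]
    refine Finset.sum_congr rfl fun B _ => ?_
    rw [redFun_mul (memLocalRing_mul hMp (blockCoeff_one_div hM B.2.1 B.2.2).1
        (memLocalRing_centralChar hMp _ _)) (memLocalRing_centralChar hMp _ _),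
      redFun_mul (blockCoeff_one_div hM B.2.1 B.2.2).1 (memLocalRing_centralChar hMp _ _)]
    show u B * Ω B j * Ω' B i = Ω' B i * u B * Ω B j
    ring
  rw [hmat]
  exact rank_transpose_mul_diag_mul Ω Ω' u hu0 C C' hΩC hΩC'

/-- Let D be a normal p-subgroup of the finite group G, of order p^d, let p^a be the p-part of the order of G, and fix a Sylow p-subgroup S and a maximal ideal M of the algebraic integers containing p. Index by a finite type ι (via an injective map K) exactly the conjugacy classes of p-regular elements x of G for which D is a Sylow p-subgroup of C_G(x). For classes K_i, K_j let ω(i, j) be the number of pairs (y, z) ∈ K_i × K_j with z y⁻¹ ∈ S; this number is divisible by p^(a−d). Then the number of p-blocks of G having D as a defect group equals the rank over ℤ/pℤ of the matrix with (i, j) entry ω(i, j)/p^(a−d) reduced modulo p. -/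
theorem result {G : Type*} [Group G] [Finite G] (p : ℕ) [Fact p.Prime] (M : Ideal Cfsg.AlgInt) (hM : Cfsg.IsPModular p M) (D : Subgroup G) [D.Normal] (hD : IsPGroup p D) (S : Sylow p G) {ι : Type*} [Fintype ι] [DecidableEq ι] (K : ι → ConjClasses G) (hKinj : Function.Injective K) (hK : ∀ C : ConjClasses G, (∃ i, K i = C) ↔ ∃ x ∈ C.carrier, ¬ p ∣ orderOf x ∧ ∃ Q : Sylow p (Subgroup.centralizer ({x} : Set G)), (Q : Subgroup (Subgroup.centralizer ({x} : Set G))).map (Subgroup.centralizer ({x} : Set G)).subtype = D) : Nat.card {B : Set (Cfsg.IrrCharacter G) // Cfsg.IsPBlock M B ∧ Cfsg.IsDefectGroup p M B D} = (Matrix.of fun i j : ι => ((Nat.card {yz : G × G // yz.1 ∈ (K i).carrier ∧ yz.2 ∈ (K j).carrier ∧ yz.2 * yz.1⁻¹ ∈ (S : Subgroup G)} / p ^ ((Nat.card G).factorization p - (Nat.card D).factorization p) : ℕ) : ZMod p)).rank := by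
  classical
  haveI := Fintype.ofFinite G
  haveI hmax : M.IsMaximal := hM.2.1
  have hMp := hmax.isPrime
  haveI : Fintype (GoodBlock p M D) := Fintype.ofFinite _
  haveI : CharP (ResField M) p := charP_resField hM
  -- representatives
  have hrepr : ∀ i, ∃ x ∈ (K i).carrier, ¬ p ∣ orderOf x ∧
      ∃ Q : Sylow p (Subgroup.centralizer ({x} : Set G)),
        (Q : Subgroup (Subgroup.centralizer ({x} : Set G))).map
          (Subgroup.centralizer ({x} : Set G)).subtype = D := fun i => (hK (K i)).mp ⟨i, rfl⟩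
  choose x hxK hxreg hxQ using hrepr
  have hxS : ∀ i, HasSylow p D (x i) := fun i => hasSylow_of_exists (hxQ i)
  have hxmk : ∀ i, ConjClasses.mk (x i) = K i := fun i =>
    ConjClasses.mem_carrier_iff_mk_eq.mp (hxK i)
  have hinj : ∀ i j, IsConj (x i) (x j) → i = j := by
    intro i j hij
    apply hKinj
    rw [← hxmk i, ← hxmk j]
    exact ConjClasses.mk_eq_mk_iff_isConj.mpr hij
  have hall : ∀ g : G, ¬ p ∣ orderOf g → HasSylow p D g → ∃ i, IsConj (x i) g := by
    intro g hg hgS
    obtain ⟨i, hi⟩ := (hK (ConjClasses.mk g)).mpr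
      ⟨g, ConjClasses.mem_carrier_mk, hg, exists_of_hasSylow hgS⟩
    refine ⟨i, ?_⟩
    rw [← ConjClasses.mk_eq_mk_iff_isConj, hxmk i, hi]
  set k := (Nat.card G).factorization p - (Nat.card D).factorization p with hk
  -- the counts
  have hcount : ∀ i j, Nat.card {yz : G × G // yz.1 ∈ (K i).carrier ∧ yz.2 ∈ (K j).carrier ∧
      yz.2 * yz.1⁻¹ ∈ (S : Subgroup G)} = pairCount (S : Subgroup G) (x i) (x j) := by
    intro i j
    unfold pairCount
    refine Nat.card_congr (Equiv.subtypeEquivRight fun yz => ?_)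
    have h1 : ∀ (l : ι) (g : G), g ∈ (K l).carrier ↔ IsConj (x l) g := by
      intro l g
      rw [ConjClasses.mem_carrier_iff_mk_eq, ← hxmk l, ConjClasses.mk_eq_mk_iff_isConj]
      exact ⟨IsConj.symm, IsConj.symm⟩
    rw [h1 i, h1 j]
  have hdvd : ∀ i j, p ^ k ∣ pairCount (S : Subgroup G) (x i) (x j) := fun i j =>
    pow_dvd_of_memLocalRing_div hM k _ (memLocalRing_pairCount_div hM S D (hxS i) (hxS j))
  rw [Nat.card_eq_fintype_card, ← rank_eq_card hM D S x hxS hinj hall]
  set f : ZMod p →+* ResField M := ZMod.castHom (dvd_refl p) (ResField M) with hf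
  rw [← rank_map_field f]
  congr 1
  ext i j
  simp only [Matrix.map_apply, Matrix.of_apply]
  rw [map_natCast, hcount i j, ← redFun_natCast]
  congr 1
  have hp0 : (p : ℂ) ≠ 0 := by
    have hp : p.Prime := Fact.out
    exact_mod_cast hp.ne_zero
  rw [Nat.cast_div (hdvd i j) (by exact_mod_cast pow_ne_zero k hp0)]
  push_cast
  rfl

end Cfsg.Agent.S4443
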