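import Cfsg.Statements.S4487
import Cfsg.Agent.Lib.Helper77_RegClasses
import Cfsg.Agent.Lib.Helper78_CentralNil
import Cfsg.Agent.Lib.Helper1_Cores

set_option autoImplicit false
open Cfsg

namespace Cfsg.Agent.S4487

/-- Let G be a finite group and p a prime such that G has no non-trivial normal subgroup of order prime to p and C_G(O_p(G)) ≤ O_p(G). Then G has a single p-block: any two irreducible characters lie in the same block relative to every maximal ideal M of the algebraic integers containing p. -/
theorem result {G : Type*} [Group G] [Finite G] (p : ℕ) [Fact p.Prime] (M : Ideal Cfsg.AlgInt) (hM : Cfsg.IsPModular p M) (hcore : Cfsg.pPrimeCore p G = ⊥) (hconstr : Subgroup.centralizer ((Cfsg.pCore p G) : Set G) ≤ Cfsg.pCore p G) (χ ψ : Cfsg.IrrCharacter G) : Cfsg.SameBlock M (χ : G → ℂ) (ψ : G → ℂ) := by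
  classical
  have hp : p.Prime := hM.1
  have hMp : M.IsPrime := hM.2.1.isPrime
  apply Cfsg.Agent.Lib.Helper77_RegClasses.sameBlock_of_forall_reg hM
  intro g hg
  by_cases hg1 : g = 1
  · subst hg1
    have h1 : ∀ θ : IrrCharacter G, centralChar (θ : G → ℂ) 1 = 1 := by
      intro θ
      unfold centralChar
      have hc : Subgroup.centralizer ({1} : Set G) = ⊤ := by
        rw [eq_top_iff]
        intro x _
        rw [Subgroup.mem_centralizer_iff]
        intro y hy
        rw [Set.mem_singleton_iff] at hy
        rw [hy, one_mul, mul_one]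
      rw [hc, Subgroup.index_top]
      obtain ⟨n, hn, hθ1⟩ := Cfsg.Agent.Lib.Helper80_CharBasic.irr_apply_one θ
      have : (θ : G → ℂ) 1 ≠ 0 := by rw [hθ1]; exact_mod_cast hn.ne'
      rw [Nat.cast_one, one_mul, div_self this]
    rw [h1 χ, h1 ψ, sub_self]
    exact Cfsg.Agent.Lib.Helper78_LocalRing.memLocalIdeal_zero hMp
  · have hQn : (pCore p G).Normal := Cfsg.Agent.Lib.Helper1_Cores.pCore_normal p
    have hQp : IsPGroup p (pCore p G) := Cfsg.Agent.Lib.Helper1_Cores.pCore_isPGroup p
    have hdis : ∀ x : G, IsConj g x → x ∉ Subgroup.centralizer ((pCore p G) : Set G) := by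
      intro x hx hxc
      have hxQ : x ∈ pCore p G := hconstr hxc
      obtain ⟨k, hk⟩ := hQp ⟨x, hxQ⟩
      have hord : orderOf x ∣ p ^ k := by
        rw [orderOf_dvd_iff_pow_eq_one]
        simpa using congrArg Subtype.val hk
      obtain ⟨c, hc⟩ := isConj_iff.mp hx
      have hox : orderOf x = orderOf g := by
        rw [← hc]
        exact (MulAut.conj c).orderOf_eq g
      rw [hox] at hord
      obtain ⟨i, _, hi⟩ := (Nat.dvd_prime_pow hp).mp hord
      have hi0 : i = 0 := by
        by_contra hne
        exact hg (by rw [hi]; exact dvd_pow_self p hne)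
      rw [hi0, pow_zero, orderOf_eq_one_iff] at hi
      exact hg1 hi
    have h1 := Cfsg.Agent.Lib.Helper78_CentralNil.memLocalIdeal_centralChar_of_disjoint hM
      (pCore p G) hQp χ.2 g hdis
    have h2 := Cfsg.Agent.Lib.Helper78_CentralNil.memLocalIdeal_centralChar_of_disjoint hM
      (pCore p G) hQp ψ.2 g hdis
    exact Cfsg.Agent.Lib.Helper78_LocalRing.memLocalIdeal_sub hMp h1 h2

end Cfsg.Agent.S4487
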