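-- Statement S0255: PSL_2(7) is isomorphic to PSL_3(2).
import Cfsg.Statements.S0255
import Cfsg.Agent.Lib.Helper61_TableHom
import Cfsg.Agent.Lib.Helper61_PSL27Table

set_option autoImplicit false
open Cfsg

namespace Cfsg.Agent.S0255

open Matrix Cfsg.Agent.Lib.Helper61_TableHom Cfsg.Agent.Lib.Helper61_PSL27Table

local notation "G7" => SpecialLinearGroup (Fin 2) (ZMod 7)
local notation "G2" => SpecialLinearGroup (Fin 3) (ZMod 2)

theorem det_entries (g : G7) : g.1 0 0 * g.1 1 1 - g.1 0 1 * g.1 1 0 = 1 := by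
  have := g.2
  rwa [Matrix.det_fin_two] at this

/-- The underlying map of the isomorphism. -/
def φ (g : G7) : G2 :=
  ⟨dec (look (g.1 0 0) (g.1 0 1) (g.1 1 0) (g.1 1 1)), by
    rw [det3_eq]; exact det_look _ _ _ _ (det_entries g)⟩

theorem φ_val (g : G7) : (φ g).1 = dec (look (g.1 0 0) (g.1 0 1) (g.1 1 0) (g.1 1 1)) := rfl

def U (x : ZMod 7) : G7 := ⟨!![1, x; 0, 1], by simp [Matrix.det_fin_two_of]⟩
def L (x : ZMod 7) : G7 := ⟨!![1, 0; x, 1], by simp [Matrix.det_fin_two_of]⟩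

theorem U_val (x : ZMod 7) : (U x).1 = !![1, x; 0, 1] := rfl
theorem L_val (x : ZMod 7) : (L x).1 = !![1, 0; x, 1] := rfl

theorem eta2 (M : Matrix (Fin 2) (Fin 2) (ZMod 7)) : M = !![M 0 0, M 0 1; M 1 0, M 1 1] := by
  ext i j; fin_cases i <;> fin_cases j <;> rfl

theorem φ_one : φ 1 = 1 := by
  have : (φ 1).1 = 1 := by
    rw [φ_val]
    have h00 : (1 : G7).1 0 0 = 1 := by simp
    have h01 : (1 : G7).1 0 1 = 0 := by simp
    have h10 : (1 : G7).1 1 0 = 0 := by simp
    have h11 : (1 : G7).1 1 1 = 1 := by simp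
    rw [h00, h01, h10, h11, look_one, dec_one]
  exact Subtype.ext this

theorem φ_mul_U (g : G7) (x : ZMod 7) : φ (g * U x) = φ g * φ (U x) := by
  have key : (φ (g * U x)).1 = (φ g).1 * (φ (U x)).1 := by
    rw [φ_val, φ_val, φ_val]
    have h := (gen_check _ _ _ _ (det_entries g) x).1
    have hm : (g * U x).1 = !![g.1 0 0, g.1 0 0 * x + g.1 0 1; g.1 1 0, g.1 1 0 * x + g.1 1 1] := by
      rw [Matrix.SpecialLinearGroup.coe_mul, U_val]
      conv_lhs => rw [eta2 g.1]
      rw [Matrix.mul_fin_two]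
      simp
    rw [hm, U_val]
    simp only [Matrix.of_apply, Matrix.cons_val', Matrix.cons_val_zero, Matrix.cons_val_one,
      Matrix.cons_val_fin_one]
    exact h.symm
  exact Subtype.ext key

theorem φ_mul_L (g : G7) (x : ZMod 7) : φ (g * L x) = φ g * φ (L x) := by
  have key : (φ (g * L x)).1 = (φ g).1 * (φ (L x)).1 := by
    rw [φ_val, φ_val, φ_val]
    have h := (gen_check _ _ _ _ (det_entries g) x).2
    have hm : (g * L x).1 = !![g.1 0 0 + g.1 0 1 * x, g.1 0 1; g.1 1 0 + g.1 1 1 * x, g.1 1 1] := by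
      rw [Matrix.SpecialLinearGroup.coe_mul, L_val]
      conv_lhs => rw [eta2 g.1]
      rw [Matrix.mul_fin_two]
      simp
    rw [hm, L_val]
    simp only [Matrix.of_apply, Matrix.cons_val', Matrix.cons_val_zero, Matrix.cons_val_one,
      Matrix.cons_val_fin_one]
    exact h.symm
  exact Subtype.ext key

def gens : Set G7 := Set.range U ∪ Set.range L

theorem mem_closure_of_ne_zero (h : G7) (hc : h.1 1 0 ≠ 0) : h ∈ Subgroup.closure gens := by
  obtain ⟨x, y, h1, h2, h3⟩ := decomp _ _ _ _ (det_entries h) hc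
  have : h = U x * L (h.1 1 0) * U y := by
    apply Subtype.ext
    rw [Matrix.SpecialLinearGroup.coe_mul, Matrix.SpecialLinearGroup.coe_mul, U_val, L_val, U_val,
      Matrix.mul_fin_two, Matrix.mul_fin_two]
    conv_lhs => rw [eta2 h.1]
    rw [← h1, ← h2, ← h3]
    simp
  rw [this]
  refine mul_mem (mul_mem ?_ ?_) ?_
  · exact Subgroup.subset_closure (Or.inl ⟨x, rfl⟩)
  · exact Subgroup.subset_closure (Or.inr ⟨_, rfl⟩)
  · exact Subgroup.subset_closure (Or.inl ⟨y, rfl⟩)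

theorem closure_gens : Subgroup.closure gens = ⊤ := by
  rw [eq_top_iff]
  intro h _
  by_cases hc : h.1 1 0 = 0
  · have hd := det_entries h
    rw [hc, mul_zero, sub_zero] at hd
    have ha : h.1 0 0 ≠ 0 := by
      intro h0; rw [h0, zero_mul] at hd; exact absurd hd (by decide)
    have h2 : (L 1 * h) ∈ Subgroup.closure gens := by
      apply mem_closure_of_ne_zero
      have : (L 1 * h).1 1 0 = h.1 0 0 + h.1 1 0 := by
        rw [Matrix.SpecialLinearGroup.coe_mul, L_val]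
        simp [Matrix.mul_apply, Fin.sum_univ_two]
      rw [this, hc, add_zero]; exact ha
    have h3 : (L 1)⁻¹ ∈ Subgroup.closure gens :=
      inv_mem (Subgroup.subset_closure (Or.inr ⟨1, rfl⟩))
    have := mul_mem h3 h2
    rwa [inv_mul_cancel_left] at this
  · exact mem_closure_of_ne_zero h hc

theorem φ_mul (g h : G7) : φ (g * h) = φ g * φ h := by
  refine map_mul_of_closure φ gens closure_gens φ_one ?_ g h
  rintro g s (⟨x, rfl⟩ | ⟨x, rfl⟩)
  · exact φ_mul_U g x
  · exact φ_mul_L g x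

def φhom : G7 →* G2 := MonoidHom.mk' φ φ_mul

set_option maxRecDepth 100000 in
theorem ker_check' : ∀ a b c d : ZMod 7, a * d - b * c = 1 → dec (look a b c d) = 1 →
    (a = 1 ∧ b = 0 ∧ c = 0 ∧ d = 1) ∨ (a = 6 ∧ b = 0 ∧ c = 0 ∧ d = 6) := by
  decide +kernel

theorem sq_eq_one7 : ∀ r : ZMod 7, r ^ 2 = 1 → r = 1 ∨ r = 6 := by decide

theorem φhom_ker : φhom.ker = Subgroup.center G7 := by
  ext g
  rw [MonoidHom.mem_ker, Matrix.SpecialLinearGroup.mem_center_iff]
  constructor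
  · intro h
    have h1 : (φ g).1 = 1 := by
      have : φ g = 1 := h
      rw [this]; rfl
    rw [φ_val] at h1
    rcases ker_check' _ _ _ _ (det_entries g) h1 with ⟨a, b, c, d⟩ | ⟨a, b, c, d⟩
    · refine ⟨1, one_pow _, ?_⟩
      rw [eta2 g.1, a, b, c, d]
      ext i j; fin_cases i <;> fin_cases j <;> simp
    · refine ⟨6, by decide, ?_⟩
      rw [eta2 g.1, a, b, c, d]
      ext i j; fin_cases i <;> fin_cases j <;> simp
  · rintro ⟨r, hr, hg⟩
    have hr2 : r ^ 2 = 1 := by simpa using hr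
    have e00 : g.1 0 0 = r := by rw [← hg]; simp
    have e01 : g.1 0 1 = 0 := by rw [← hg]; simp
    have e10 : g.1 1 0 = 0 := by rw [← hg]; simp
    have e11 : g.1 1 1 = r := by rw [← hg]; simp
    have : (φ g).1 = 1 := by
      rw [φ_val, e00, e01, e10, e11]
      rcases sq_eq_one7 r hr2 with rfl | rfl
      · rw [look_one, dec_one]
      · rw [look_neg_one, dec_one]
    exact Subtype.ext this

theorem eta3 (M : Matrix (Fin 3) (Fin 3) (ZMod 2)) :
    M = !![M 0 0, M 0 1, M 0 2; M 1 0, M 1 1, M 1 2; M 2 0, M 2 1, M 2 2] := by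
  ext i j; fin_cases i <;> fin_cases j <;> rfl

theorem φhom_surj : Function.Surjective φhom := by
  intro M
  have hdet : det3 !![M.1 0 0, M.1 0 1, M.1 0 2; M.1 1 0, M.1 1 1, M.1 1 2;
      M.1 2 0, M.1 2 1, M.1 2 2] = 1 := by
    rw [← eta3, ← det3_eq]; exact M.2
  obtain ⟨a, b, c, d, hdet', hl⟩ := surj_check _ _ _ _ _ _ _ _ _ hdet
  refine ⟨⟨!![a, b; c, d], by rw [Matrix.det_fin_two_of]; exact hdet'⟩, ?_⟩
  apply Subtype.ext
  change dec (look a b c d) = M.1
  rw [hl, dec_code, ← eta3]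

theorem center_G2 : Subgroup.center G2 = ⊥ := by
  rw [eq_bot_iff]
  intro g hg
  rw [Matrix.SpecialLinearGroup.mem_center_iff] at hg
  obtain ⟨r, hr, hg⟩ := hg
  have key : ∀ r : ZMod 2, r ^ Fintype.card (Fin 3) = 1 → r = 1 := by decide
  have := key r hr
  rw [Subgroup.mem_bot]
  apply Subtype.ext
  rw [← hg, this]
  simp

/-- PSL_2(7) is isomorphic to PSL_3(2). -/
theorem result {F K : Type*} [Field F] [Fintype F] [Field K] [Fintype K] (hF : Fintype.card F = 7) (hK : Fintype.card K = 2) : Nonempty (Matrix.ProjectiveSpecialLinearGroup (Fin 2) F ≃* Matrix.ProjectiveSpecialLinearGroup (Fin 3) K) := by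
  have : Fact (Nat.Prime 7) := ⟨by norm_num⟩
  have : Fact (Nat.Prime 2) := ⟨Nat.prime_two⟩
  have e7 : ZMod 7 ≃+* F := ZMod.ringEquivOfPrime F (by norm_num) hF
  have e2 : ZMod 2 ≃+* K := ZMod.ringEquivOfPrime K Nat.prime_two hK
  exact ⟨(((pslEquiv e7.symm).trans (pslEquivOfKer φhom φhom_ker φhom_surj)).trans
    (pslEquivSLOfCenter center_G2).symm).trans (pslEquiv e2)⟩

end Cfsg.Agent.S0255
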