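-- Statement S1897: PSU_3(3) contains a subgroup isomorphic to PSL_2(7).
import Cfsg.Statements.S1897
import Cfsg.Agent.S0255
import Cfsg.Agent.Lib.Helper13_SU
import Cfsg.Agent.Lib.Helper61_SUTransfer
import Cfsg.Agent.Lib.Helper61_L27U33Table

set_option autoImplicit false
open Cfsg

namespace Cfsg.Agent.S1897

open Matrix Cfsg.Agent.Lib.Helper61_TableHom Cfsg.Agent.Lib.Helper61_F9
  Cfsg.Agent.Lib.Helper61_L27U33Table Cfsg.Agent.Lib.Helper61_SUTransfer

local notation "G7" => SpecialLinearGroup (Fin 2) (ZMod 7)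
local notation "G9" => SpecialLinearGroup (Fin 3) F9

open Cfsg.Agent.S0255 (det_entries U L U_val L_val eta2 gens closure_gens)

/-- The underlying map. -/
def φ (g : G7) : G9 :=
  ⟨dec (look (g.1 0 0) (g.1 0 1) (g.1 1 0) (g.1 1 1)), by
    rw [det3_eq]; exact (unitary_check _ _ _ _ (det_entries g)).2⟩

theorem φ_val (g : G7) : (φ g).1 = dec (look (g.1 0 0) (g.1 0 1) (g.1 1 0) (g.1 1 1)) := rfl

theorem φ_one : φ 1 = 1 := by
  have : (φ 1).1 = 1 := by
    rw [φ_val]
    have h00 : (1 : G7).1 0 0 = 1 := by simp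
    have h01 : (1 : G7).1 0 1 = 0 := by simp
    have h10 : (1 : G7).1 1 0 = 0 := by simp
    have h11 : (1 : G7).1 1 1 = 1 := by simp
    rw [h00, h01, h10, h11, look_one, dec_one]
  exact Subtype.ext this

theorem φ_mul_U (g : G7) (x : ZMod 7) : φ (g * U x) = φ g * φ (U x) := by
  have key : (φ (g * U x)).1 = (φ g).1 * (φ (U x)).1 := by
    rw [φ_val, φ_val, φ_val]
    have h := (gen_check _ _ _ _ (det_entries g) x).1
    have hm : (g * U x).1 = !![g.1 0 0, g.1 0 0 * x + g.1 0 1; g.1 1 0, g.1 1 0 * x + g.1 1 1] := by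
      rw [Matrix.SpecialLinearGroup.coe_mul, U_val]
      conv_lhs => rw [eta2 g.1]
      rw [Matrix.mul_fin_two]
      simp
    rw [hm, U_val]
    simp only [Matrix.of_apply, Matrix.cons_val', Matrix.cons_val_zero, Matrix.cons_val_one,
      Matrix.cons_val_fin_one]
    rw [← mul3_eq]
    exact h.symm
  exact Subtype.ext key

theorem φ_mul_L (g : G7) (x : ZMod 7) : φ (g * L x) = φ g * φ (L x) := by
  have key : (φ (g * L x)).1 = (φ g).1 * (φ (L x)).1 := by
    rw [φ_val, φ_val, φ_val]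
    have h := (gen_check _ _ _ _ (det_entries g) x).2
    have hm : (g * L x).1 = !![g.1 0 0 + g.1 0 1 * x, g.1 0 1; g.1 1 0 + g.1 1 1 * x, g.1 1 1] := by
      rw [Matrix.SpecialLinearGroup.coe_mul, L_val]
      conv_lhs => rw [eta2 g.1]
      rw [Matrix.mul_fin_two]
      simp
    rw [hm, L_val]
    simp only [Matrix.of_apply, Matrix.cons_val', Matrix.cons_val_zero, Matrix.cons_val_one,
      Matrix.cons_val_fin_one]
    rw [← mul3_eq]
    exact h.symm
  exact Subtype.ext key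

theorem φ_mul (g h : G7) : φ (g * h) = φ g * φ h := by
  refine map_mul_of_closure φ gens closure_gens φ_one ?_ g h
  rintro g s (⟨x, rfl⟩ | ⟨x, rfl⟩)
  · exact φ_mul_U g x
  · exact φ_mul_L g x

theorem frob_add : ∀ x y : F9, (x + y) ^ 3 = x ^ 3 + y ^ 3 := by decide +kernel

theorem φ_mem_SU (g : G7) : φ g ∈ Cfsg.SU 3 F9 3 := by
  rw [mem_SU_iff]
  intro u v
  have H := (unitary_check _ _ _ _ (det_entries g)).1
  rw [← φ_val] at H
  generalize (φ g).1 = M at H
  have h00 := H 0 0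
  have h01 := H 0 1
  have h02 := H 0 2
  have h10 := H 1 0
  have h11 := H 1 1
  have h12 := H 1 2
  have h20 := H 2 0
  have h21 := H 2 1
  have h22 := H 2 2
  simp only [Fin.isValue, if_true, Fin.reduceEq, if_false] at h00 h01 h02 h10 h11 h12 h20 h21 h22
  unfold Cfsg.hermForm
  simp only [Matrix.mulVec, dotProduct, Fin.sum_univ_three, frob_add, mul_pow]
  linear_combination (u 0 * v 0 ^ 3) * h00 + (u 0 * v 1 ^ 3) * h01 + (u 0 * v 2 ^ 3) * h02 +
    (u 1 * v 0 ^ 3) * h10 + (u 1 * v 1 ^ 3) * h11 + (u 1 * v 2 ^ 3) * h12 +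
    (u 2 * v 0 ^ 3) * h20 + (u 2 * v 1 ^ 3) * h21 + (u 2 * v 2 ^ 3) * h22

/-- The homomorphism `SL₂(ℤ/7) → SU₃(3)`. -/
def φSU : G7 →* ↥(Cfsg.SU 3 F9 3) :=
  (MonoidHom.mk' φ φ_mul).codRestrict (Cfsg.SU 3 F9 3) φ_mem_SU

theorem φSU_val (g : G7) : (φSU g).1 = φ g := rfl

theorem sq_eq_one7 : ∀ r : ZMod 7, r ^ 2 = 1 → r = 1 ∨ r = 6 := by decide

theorem φSU_ker : φSU.ker = Subgroup.center G7 := by
  ext g
  rw [MonoidHom.mem_ker, Matrix.SpecialLinearGroup.mem_center_iff]
  constructor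
  · intro h
    have h1 : (φ g).1 = 1 := by
      have : φ g = 1 := by
        have := congrArg Subtype.val h
        exact this
      rw [this]; rfl
    rw [φ_val] at h1
    rcases ker_check _ _ _ _ (det_entries g) h1 with ⟨a, b, c, d⟩ | ⟨a, b, c, d⟩
    · refine ⟨1, one_pow _, ?_⟩
      rw [eta2 g.1, a, b, c, d]
      ext i j; fin_cases i <;> fin_cases j <;> simp
    · refine ⟨6, by decide, ?_⟩
      rw [eta2 g.1, a, b, c, d]
      ext i j; fin_cases i <;> fin_cases j <;> simp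
  · rintro ⟨r, hr, hg⟩
    have hr2 : r ^ 2 = 1 := by simpa using hr
    have e00 : g.1 0 0 = r := by rw [← hg]; simp
    have e01 : g.1 0 1 = 0 := by rw [← hg]; simp
    have e10 : g.1 1 0 = 0 := by rw [← hg]; simp
    have e11 : g.1 1 1 = r := by rw [← hg]; simp
    have : (φ g).1 = 1 := by
      rw [φ_val, e00, e01, e10, e11]
      rcases sq_eq_one7 r hr2 with rfl | rfl
      · rw [look_one, dec_one]
      · rw [look_neg_one, dec_one]
    apply Subtype.ext
    apply Subtype.ext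
    exact this

theorem center_SU : Subgroup.center ↥(Cfsg.SU 3 F9 3) = ⊥ := by
  have h := Cfsg.Agent.Lib.Helper13_SU.card_center (F := F9) (q := 3) (n := 3)
    (by rw [F9.card]; norm_num) (by norm_num)
  have h1 : Nat.card (Subgroup.center ↥(Cfsg.SU 3 F9 3)) = 1 := by rw [h]; norm_num
  exact Subgroup.card_eq_one.1 h1

/-- The induced homomorphism to `PSU₃(3)`. -/
noncomputable def φP : G7 →* Cfsg.PSU 3 F9 3 :=
  (QuotientGroup.mk' (Subgroup.center ↥(Cfsg.SU 3 F9 3))).comp φSU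

theorem φP_ker : φP.ker = Subgroup.center G7 := by
  rw [← φSU_ker]
  ext g
  rw [MonoidHom.mem_ker, MonoidHom.mem_ker]
  show (QuotientGroup.mk (φSU g) : Cfsg.PSU 3 F9 3) = 1 ↔ _
  rw [QuotientGroup.eq_one_iff, center_SU, Subgroup.mem_bot]

/-- The projective special unitary group PSU₃(3) (realised over the field with 9 elements) has a subgroup isomorphic to PSL₂(7). -/
theorem result {F : Type*} [Field F] [Fintype F] (hF : Fintype.card F = 9)
    {K : Type*} [Field K] [Fintype K] (hK : Fintype.card K = 7) :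
    ∃ H : Subgroup (Cfsg.PSU 3 F 3), Nonempty (H ≃* Matrix.ProjectiveSpecialLinearGroup (Fin 2) K) := by
  have : Fact (Nat.Prime 7) := ⟨by norm_num⟩
  have e7 : ZMod 7 ≃+* K := ZMod.ringEquivOfPrime K (by norm_num) hK
  have e9 : F ≃+* F9 := ringEquivF9 hF
  let E : Cfsg.PSU 3 F9 3 ≃* Cfsg.PSU 3 F 3 := psuEquiv e9.symm
  refine ⟨φP.range.map E.toMonoidHom, ⟨?_⟩⟩
  have e1 : ↥(φP.range.map E.toMonoidHom) ≃* ↥φP.range := (E.subgroupMap φP.range).symm
  have e2 : ↥φP.range ≃* G7 ⧸ φP.ker := (QuotientGroup.quotientKerEquivRange φP).symm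
  have e3 : G7 ⧸ φP.ker ≃* ProjectiveSpecialLinearGroup (Fin 2) (ZMod 7) :=
    QuotientGroup.quotientMulEquivOfEq φP_ker
  exact ((e1.trans e2).trans e3).trans (pslEquiv e7)

end Cfsg.Agent.S1897
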