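import Mathlib
import Cfsg.Statements.S0301
import Cfsg.Agent.Lib.Helper5_OmegaCenter
import Cfsg.Agent.Lib.Helper5_OmegaIndex
import Cfsg.Agent.Lib.Helper5_Klein
import Cfsg.Agent.Lib.Helper5_KleinSp
import Cfsg.Agent.Lib.Helper5_SpPerfect
import Cfsg.Agent.Lib.Helper5_SpOrder
import Cfsg.Agent.Lib.Helper44_StdForms
import Cfsg.Agent.Lib.Helper44_Orth
import Cfsg.Agent.S0286
import Cfsg.Agent.S0294

set_option autoImplicit false
set_option linter.unusedSimpArgs false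
open Cfsg

namespace Cfsg.Agent.S0301

open Matrix Cfsg.Agent.Lib.Helper5_OmegaCenter Cfsg.Agent.Lib.Helper5_OmegaIndex
  Cfsg.Agent.Lib.Helper44_StdForms Cfsg.Agent.Lib.Helper5_KleinSp Cfsg.Agent.Lib.Helper44_OmegaOdd

section
variable {F : Type*} [Field F]

def e1 : I5 → F := Pi.single (Sum.inr (Sum.inl 0)) 1
def f1 : I5 → F := Pi.single (Sum.inr (Sum.inr 0)) 1
def e2 : I5 → F := Pi.single (Sum.inr (Sum.inl 1)) 1
def f2 : I5 → F := Pi.single (Sum.inr (Sum.inr 1)) 1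
def s0 : I5 → F := Pi.single (Sum.inl ()) 1

lemma polar_od (x y : I5 → F) : QuadraticMap.polar (⇑(qfOdd 2 F)) x y =
    2 * x (Sum.inl ()) * y (Sum.inl ()) +
    ((x (Sum.inr (Sum.inl 0)) * y (Sum.inr (Sum.inr 0)) + y (Sum.inr (Sum.inl 0)) * x (Sum.inr (Sum.inr 0))) +
    (x (Sum.inr (Sum.inl 1)) * y (Sum.inr (Sum.inr 1)) + y (Sum.inr (Sum.inl 1)) * x (Sum.inr (Sum.inr 1)))) := by
  rw [coe_qfOdd, polar_quadFormOdd, Fin.sum_univ_two]

lemma Q_od (x : I5 → F) : qfOdd 2 F x =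
    x (Sum.inl ()) ^ 2 + (x (Sum.inr (Sum.inl 0)) * x (Sum.inr (Sum.inr 0)) +
      x (Sum.inr (Sum.inl 1)) * x (Sum.inr (Sum.inr 1))) := by
  rw [coe_qfOdd]
  simp [Cfsg.quadFormOdd, Fin.sum_univ_two]

lemma star5 (h2 : (2 : F) ≠ 0) : Star (qfOdd 2 F) (e1 : I5 → F) f1 := by
  refine star_of_second_pair (qfOdd 2 F) (Cfsg.Agent.S0286.nondeg_qfOdd h2 2) (e₂ := e2) (f₂ := f2) (s₀ := s0)
    ?_ ?_ ?_ ?_ ?_ ?_ ?_ ?_ ?_ ?_ ?_ ?_ ?_ ?_ ?_
  all_goals first
    | (rw [Q_od]; simp [e1, f1, e2, f2, s0])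
    | (rw [polar_od]; simp [e1, f1, e2, f2, s0])

lemma ns5 : NS (qfOdd 2 F) (e1 : I5 → F) f1 s0 := by
  refine ⟨?_, ?_, ?_⟩
  · rw [polar_od]; simp [e1, f1, e2, f2, s0]
  · rw [polar_od]; simp [e1, f1, e2, f2, s0]
  · rw [Q_od]; simp [e1, f1, e2, f2, s0]

end

/-- PΩ_5(q) is isomorphic to PSp_4(q) for q odd. -/
theorem result {F : Type*} [Field F] [Fintype F] (hodd : Odd (Fintype.card F)) : Nonempty (Cfsg.POmega F (Cfsg.quadFormOdd 2 F) ≃* Cfsg.PSp 2 F) := by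
  classical
  have h2 : (2 : F) ≠ 0 := Cfsg.Agent.S0286.two_ne_zero_of_odd hodd
  have hcardO := Cfsg.Agent.S0286.card_odd hodd 2
  rw [← coe_qfOdd 2 F] at hcardO ⊢
  set Q := qfOdd 2 F with hQdef
  have hnd := Cfsg.Agent.S0286.nondeg_qfOdd h2 2
  have hQ := Cfsg.Agent.S0294.nondegenerate_of_hnd Q hnd
  have hq3 : 3 ≤ Fintype.card F := by
    have h1 : 2 ≤ Fintype.card F := Fintype.one_lt_card
    have h3 : Fintype.card F % 2 = 1 := Nat.odd_iff.mp hodd
    omega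
  -- the image lies in Ω
  have hle : (rho5 (F := F)).range ≤ Cfsg.Omega F (⇑Q) := by
    rintro _ ⟨g, rfl⟩
    have hg : g ∈ commutator (symplecticGroup (Fin 2) F) := by
      rw [Cfsg.Agent.Lib.Helper5_SpPerfect.sp_perfect 2 (Or.inr (Or.inl ⟨rfl, hq3⟩))]
      trivial
    exact Cfsg.Agent.Lib.Helper44_Orth.map_mem_commutator rho5 hg
  have hSp := Cfsg.Agent.Lib.Helper5_SpOrder.card_sp (F := F) rfl 2
  have hker := Subgroup.card_eq_card_quotient_mul_card_subgroup (rho5 (F := F)).ker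
  rw [Nat.card_congr (QuotientGroup.quotientKerEquivRange (rho5 (F := F))).toEquiv, hSp] at hker
  have hmul := Subgroup.card_mul_index (Cfsg.Omega F (⇑Q))
  have hidx := index_omega_odd h2 Q hQ (by simp)
  rw [hcardO, hidx] at hmul
  have hcard : Nat.card ↥(Cfsg.Omega F (⇑Q)) ≤ Nat.card ↥(rho5 (F := F)).range := by
    have h3 : Nat.card ↥(rho5 (F := F)).range * Nat.card ↥(rho5 (F := F)).ker
        ≤ Nat.card ↥(rho5 (F := F)).range * 2 := Nat.mul_le_mul_left _ (card_ker_rho5_le_two h2)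
    have h4 : 2 * Fintype.card F ^ 2 ^ 2 * ∏ i ∈ Finset.range 2, (Fintype.card F ^ (2 * (i + 1)) - 1)
        = 2 * (Fintype.card F ^ 2 ^ 2 * ∏ i ∈ Finset.range 2, (Fintype.card F ^ (2 * (i + 1)) - 1)) := by ring
    rw [h4] at hmul
    generalize Fintype.card F ^ 2 ^ 2 * ∏ i ∈ Finset.range 2, (Fintype.card F ^ (2 * (i + 1)) - 1) = N at hmul hker
    omega
  have heq : (rho5 (F := F)).range = Cfsg.Omega F (⇑Q) := Subgroup.eq_of_le_of_card_ge hle hcard
  -- the centre of Ω is trivial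
  have hneg : ∀ z : ↥(Cfsg.Omega F (⇑Q)),
      ((z : ↥(Cfsg.isometryGroup F (⇑Q))) : Matrix.GeneralLinearGroup I5 F).1 = -1 → z = 1 := by
    intro z hz
    exfalso
    have hdet := ((mem_omega_iff_det_theta h2 Q hQ z.1).mp z.2).1
    have hz' : ((z.1.1 : Matrix.GeneralLinearGroup I5 F) : Matrix I5 I5 F) = -1 := hz
    rw [hz', Matrix.det_neg, Matrix.det_one, mul_one] at hdet
    simp only [Fintype.card_sum, Fintype.card_unit, Fintype.card_fin] at hdet
    norm_num at hdet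
    apply h2
    linear_combination -hdet
  have hcenΩ : Subgroup.center ↥(Cfsg.Omega F (⇑Q)) = ⊥ :=
    center_omega_eq_bot Q hnd (e := e1) (f := f1) (by rw [Q_od]; simp [e1]) (by rw [Q_od]; simp [f1])
      (by rw [polar_od]; simp [e1, f1]) (star5 h2) ns5 hneg
  -- the induced map onto PΩ
  let ρ' : symplecticGroup (Fin 2) F →* ↥(Cfsg.Omega F (⇑Q)) :=
    (rho5 (F := F)).codRestrict (Cfsg.Omega F (⇑Q)) (fun g => hle ⟨g, rfl⟩)
  have hsurjρ : Function.Surjective ρ' := by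
    intro ω
    have : ω.1 ∈ (rho5 (F := F)).range := by rw [heq]; exact ω.2
    obtain ⟨g, hg⟩ := this
    exact ⟨g, Subtype.ext hg⟩
  let φ : symplecticGroup (Fin 2) F →* Cfsg.POmega F (⇑Q) :=
    (QuotientGroup.mk' (Subgroup.center ↥(Cfsg.Omega F (⇑Q)))).comp ρ'
  have hsurj : Function.Surjective φ :=
    (QuotientGroup.mk'_surjective _).comp hsurjρ
  have hkerφ : φ.ker = Subgroup.center (symplecticGroup (Fin 2) F) := by
    ext g
    rw [MonoidHom.mem_ker]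
    show (QuotientGroup.mk (ρ' g) : Cfsg.POmega F (⇑Q)) = 1 ↔ _
    rw [QuotientGroup.eq_one_iff]
    constructor
    · intro h
      rw [hcenΩ, Subgroup.mem_bot] at h
      apply ker_rho5_le_center h2
      rw [MonoidHom.mem_ker]
      exact congrArg Subtype.val h
    · intro hg
      rw [Subgroup.mem_center_iff]
      intro ω
      obtain ⟨h, rfl⟩ := hsurjρ ω
      rw [← map_mul, ← map_mul, Subgroup.mem_center_iff.mp hg h]
  exact ⟨(QuotientGroup.quotientKerEquivOfSurjective φ hsurj).symm.trans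
    (QuotientGroup.quotientMulEquivOfEq hkerφ)⟩

end Cfsg.Agent.S0301
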