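import Cfsg.Statements.S0611
import Cfsg.Agent.Lib.Helper62_Offender

set_option autoImplicit false
open Cfsg

namespace Cfsg.Agent.S0611

open Cfsg.Agent.Lib.Helper62_Offender

/-- Minimal nontrivially-acting best offenders in such a faithful group have order p, commutator [V, B] of order p and fixed points of index p. -/
theorem result {G : Type*} [Group G] [Finite G] {p : ℕ} [Fact p.Prime] (V H : Subgroup G) (hV : Cfsg.IsElementaryAbelian p V) (hHV : H ≤ Subgroup.normalizer (V : Set G)) (hf : H ⊓ Subgroup.centralizer (V : Set G) = ⊥) (hS1 : Subgroup.centralizer (Cfsg.pPrimeCore p ↥H : Set ↥H) ≤ Cfsg.pPrimeCore p ↥H) (hS3 : H = ⨆ A : {A : Subgroup G // A ≤ H ∧ Cfsg.IsBestOffenderOn p V A}, (A : Subgroup G)) (hH1 : H ≠ ⊥) (A : Subgroup G) (hAH : A ≤ H) (hA : Cfsg.IsBestOffenderOn p V A) (hAV : ⁅V, A⁆ ≠ ⊥) (hmin : ∀ B : Subgroup G, B ≤ A → Cfsg.IsBestOffenderOn p V B → ⁅V, B⁆ ≠ ⊥ → B = A) : Nat.card A = p ∧ Nat.card ↥(⁅V, A⁆) = p ∧ ((V ⊓ Subgroup.centralizer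 (A : Set G))).relIndex V = p := by
  have hp := (Fact.out : p.Prime)
  have hA1 : A ≠ ⊥ := by
    rintro rfl
    apply hAV
    rw [eq_bot_iff, Subgroup.commutator_le]
    intro v _ g hg
    rw [Subgroup.mem_bot] at hg
    rw [hg, commutatorElement_one_right]
    exact Subgroup.one_mem _
  obtain ⟨A₀, hA₀A, hA₀, hu, hy⟩ := key_lemma V H hV hHV hf hS1 A hAH hA hA1
  have hpos : 0 < Nat.card A₀ := Nat.card_pos
  have hA₀ne : A₀ ≠ A := by
    intro h
    rw [h] at hu
    have : 1 * Nat.card A < p * Nat.card A := Nat.mul_lt_mul_of_pos_right hp.one_lt Nat.card_pos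
    omega
  have hVA₀ : ⁅V, A₀⁆ = ⊥ := by
    by_contra h
    exact hA₀ne (hmin A₀ hA₀A hA₀ h)
  have hA₀bot : A₀ = ⊥ := by
    rw [eq_bot_iff, ← hf]
    refine le_inf (le_trans hA₀A hAH) ?_
    rw [Subgroup.commutator_eq_bot_iff_le_centralizer] at hVA₀
    exact Subgroup.le_centralizer_iff.mp hVA₀
  have hcardA : Nat.card A = p := by
    rw [hu, hA₀bot, Subgroup.card_bot, mul_one]
  have hcentbot : Subgroup.centralizer (((⊥ : Subgroup G) : Subgroup G) : Set G) = ⊤ := by
    rw [Subgroup.coe_bot, Subgroup.centralizer_eq_top_iff_subset]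
    simp
  rw [hA₀bot, hcentbot, inf_top_eq] at hy
  have hrel : (V ⊓ Subgroup.centralizer (A : Set G)).relIndex V = p := by
    have h1 := Subgroup.relIndex_mul_relIndex (⊥ : Subgroup G)
      (V ⊓ Subgroup.centralizer (A : Set G)) V bot_le inf_le_left
    rw [Subgroup.relIndex_bot_left, Subgroup.relIndex_bot_left, hy] at h1
    have hwpos : 0 < Nat.card ↥(V ⊓ Subgroup.centralizer (A : Set G)) := Nat.card_pos
    have h2 : Nat.card ↥(V ⊓ Subgroup.centralizer (A : Set G)) *
        (V ⊓ Subgroup.centralizer (A : Set G)).relIndex V =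
        Nat.card ↥(V ⊓ Subgroup.centralizer (A : Set G)) * p := by rw [h1]; ring
    exact Nat.eq_of_mul_eq_mul_left hwpos h2
  refine ⟨hcardA, ?_, hrel⟩
  -- `A = ⟨a⟩`
  obtain ⟨a, haA, ha1⟩ : ∃ a ∈ A, a ≠ 1 := by
    by_contra hcon
    push Not at hcon
    exact hA1 (eq_bot_iff.mpr fun x hx => Subgroup.mem_bot.mpr (hcon x hx))
  have hAz : A = Subgroup.zpowers a := by
    apply le_antisymm
    · intro x hx
      have h1 : (⟨x, hx⟩ : A) ∈ Subgroup.zpowers (⟨a, haA⟩ : A) :=
        mem_zpowers_of_prime_card (G := A) hcardA (g := ⟨a, haA⟩)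
          (fun h => ha1 (congrArg Subtype.val h))
      obtain ⟨k, hk⟩ := Subgroup.mem_zpowers_iff.mp h1
      refine Subgroup.mem_zpowers_iff.mpr ⟨k, ?_⟩
      have := congrArg Subtype.val hk
      simpa using this
    · exact Subgroup.zpowers_le.mpr haA
  have hVc : ∀ x ∈ V, ∀ y ∈ V, x * y = y * x := by
    intro x hx y hy
    have := hV.1
    have h := mul_comm' (⟨x, hx⟩ : V) ⟨y, hy⟩
    exact congrArg Subtype.val h
  have haN : a ∈ Subgroup.normalizer (V : Set G) := hHV (hAH haA)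
  have hCa : Subgroup.centralizer (A : Set G) = Subgroup.centralizer {a} := by
    rw [hAz]
    exact Cfsg.Agent.S3755.centralizer_zpowers_eq a
  rw [hAz, card_commutator_zpowers V hVc a haN, ← hCa]
  exact hrel

end Cfsg.Agent.S0611
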