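import Cfsg.Statements.S0612
import Cfsg.Agent.Lib.Helper62_Offender
import Cfsg.Agent.Lib.Helper25_CyclicDual

set_option autoImplicit false
open Cfsg

namespace Cfsg.Agent.S0612

open Cfsg.Agent.Lib.Helper62_Offender

section

variable {G : Type*} [Group G] [Finite G] {p : ℕ} [Fact p.Prime]

/-- the decomposition property -/
def Decomp (p : ℕ) (V A : Subgroup G) : Prop :=
  ∃ (k : ℕ) (B : Fin k → Subgroup G), (∀ i, B i ≤ A ∧ Cfsg.IsBestOffenderOn p V (B i) ∧
    ⁅V, B i⁆ ≠ ⊥ ∧ ∀ C : Subgroup G, C ≤ B i → Cfsg.IsBestOffenderOn p V C → ⁅V, C⁆ ≠ ⊥ →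
      C = B i) ∧ iSupIndep B ∧ ⨆ i, B i = A

omit [Finite G] [Fact p.Prime] in
theorem decomp_bot (V : Subgroup G) : Decomp p V ⊥ := by
  refine ⟨0, fun i => i.elim0, fun i => i.elim0, ?_, ?_⟩
  · intro i; exact i.elim0
  · simp

omit [Finite G] [Fact p.Prime] in
theorem decomp_extend (V A₁ B : Subgroup G) (h1 : Decomp p V A₁)
    (hB : Cfsg.IsBestOffenderOn p V B) (hBV : ⁅V, B⁆ ≠ ⊥)
    (hBmin : ∀ C : Subgroup G, C ≤ B → Cfsg.IsBestOffenderOn p V C → ⁅V, C⁆ ≠ ⊥ → C = B)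
    (hdisj : A₁ ⊓ B = ⊥) (hcomm : ∀ x ∈ A₁, ∀ y ∈ B, x * y = y * x) :
    Decomp p V (A₁ ⊔ B) := by
  obtain ⟨k, B', hB', hind, hsup⟩ := h1
  have hB'le : ∀ j, B' j ≤ A₁ := fun j => by rw [← hsup]; exact le_iSup B' j
  refine ⟨k + 1, Fin.snoc (α := fun _ => Subgroup G) B' B, ?_, ?_, ?_⟩
  · intro i
    refine Fin.lastCases ?_ (fun j => ?_) i
    · rw [Fin.snoc_last]
      exact ⟨le_sup_right, hB, hBV, hBmin⟩
    · rw [Fin.snoc_castSucc]
      exact ⟨le_trans (hB' j).1 le_sup_left, (hB' j).2⟩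
  · intro i
    refine Fin.lastCases ?_ (fun j => ?_) i
    · rw [Fin.snoc_last]
      have hle : (⨆ (j : Fin (k + 1)) (_ : j ≠ Fin.last k),
          Fin.snoc (α := fun _ => Subgroup G) B' B j) ≤ A₁ := by
        refine iSup₂_le fun j hj => ?_
        revert hj
        refine Fin.lastCases ?_ (fun j' => ?_) j
        · intro h; exact absurd rfl h
        · intro _
          rw [Fin.snoc_castSucc]
          exact hB'le j'
      rw [disjoint_iff, eq_bot_iff, ← hdisj]
      exact le_inf (le_trans inf_le_right hle) inf_le_left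
    · rw [Fin.snoc_castSucc]
      set R : Subgroup G := ⨆ (j' : Fin k) (_ : j' ≠ j), B' j' with hR
      have hRle : R ≤ A₁ := iSup₂_le fun j' _ => hB'le j'
      have hle : (⨆ (i : Fin (k + 1)) (_ : i ≠ j.castSucc),
          Fin.snoc (α := fun _ => Subgroup G) B' B i) ≤ R ⊔ B := by
        refine iSup₂_le fun i hi => ?_
        revert hi
        refine Fin.lastCases ?_ (fun j' => ?_) i
        · intro _
          rw [Fin.snoc_last]
          exact le_sup_right
        · intro hne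
          rw [Fin.snoc_castSucc]
          have hne' : j' ≠ j := fun h => hne (by rw [h])
          exact le_trans (le_iSup₂ (f := fun (j' : Fin k) (_ : j' ≠ j) => B' j') j' hne')
            le_sup_left
      have hjR : Disjoint (B' j) R := hind j
      rw [disjoint_iff, eq_bot_iff]
      intro x hx
      have hx1 : x ∈ B' j := hx.1
      have hx2 : x ∈ R ⊔ B := hle hx.2
      have hBR : B ≤ Subgroup.normalizer (R : Set G) := by
        intro b hb
        apply Subgroup.centralizer_le_normalizer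
        rw [Subgroup.mem_centralizer_iff]
        intro r hr
        exact hcomm r (hRle hr) b hb
      obtain ⟨r, hr, b, hb, hrb⟩ :=
        Cfsg.Agent.Lib.Helper24_CoprimeAction.exists_mul_of_mem_sup B R hBR hx2
      have hb1 : b ∈ A₁ ⊓ B := by
        refine ⟨?_, hb⟩
        have : b = r⁻¹ * x := by rw [hrb]; group
        rw [this]
        exact A₁.mul_mem (A₁.inv_mem (hRle hr)) (hB'le j hx1)
      rw [hdisj, Subgroup.mem_bot] at hb1
      rw [hb1, mul_one] at hrb
      have : x ∈ B' j ⊓ R := ⟨hx1, by rw [hrb]; exact hr⟩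
      rw [disjoint_iff] at hjR
      rw [hjR] at this
      exact this
  · apply le_antisymm
    · refine iSup_le fun i => ?_
      refine Fin.lastCases ?_ (fun j => ?_) i
      · rw [Fin.snoc_last]; exact le_sup_right
      · rw [Fin.snoc_castSucc]; exact le_trans (hB'le j) le_sup_left
    · refine sup_le ?_ ?_
      · rw [← hsup]
        refine iSup_le fun j => ?_
        refine le_trans ?_ (le_iSup _ j.castSucc)
        rw [Fin.snoc_castSucc]
      · refine le_trans ?_ (le_iSup _ (Fin.last k))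
        rw [Fin.snoc_last]

theorem main (V H : Subgroup G) (hV : Cfsg.IsElementaryAbelian p V)
    (hHV : H ≤ Subgroup.normalizer (V : Set G))
    (hf : H ⊓ Subgroup.centralizer (V : Set G) = ⊥)
    (hS1 : Subgroup.centralizer (Cfsg.pPrimeCore p ↥H : Set ↥H) ≤ Cfsg.pPrimeCore p ↥H) :
    ∀ n : ℕ, ∀ A : Subgroup G, Nat.card A = n → A ≤ H → Cfsg.IsBestOffenderOn p V A →
      Decomp p V A := by
  classical
  intro n
  induction n using Nat.strong_induction_on with
  | _ n ih =>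
  intro A hAn hAH hA
  by_cases hA1 : A = ⊥
  · rw [hA1]; exact decomp_bot V
  have hp := (Fact.out : p.Prime)
  obtain ⟨A₁, hA₁A, hA₁, hu, -⟩ := key_lemma V H hV hHV hf hS1 A hAH hA hA1
  have hA₁pos : 0 < Nat.card A₁ := Nat.card_pos
  have hA₁lt : Nat.card A₁ < Nat.card A := by
    rw [hu]
    calc Nat.card A₁ = 1 * Nat.card A₁ := (one_mul _).symm
      _ < p * Nat.card A₁ := Nat.mul_lt_mul_of_pos_right hp.one_lt hA₁pos
  -- a minimal best offender `B ≤ A` not inside `A₁`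
  set 𝔅 : Set (Subgroup G) := {B | B ≤ A ∧ Cfsg.IsBestOffenderOn p V B ∧ ¬ B ≤ A₁} with h𝔅
  have hA𝔅 : A ∈ 𝔅 := by
    refine ⟨le_rfl, hA, fun h => ?_⟩
    have := Subgroup.card_le_of_le h
    omega
  obtain ⟨B, ⟨hBA, hB, hBA₁⟩, hBmin⟩ :=
    Set.exists_min_image 𝔅 (fun B => Nat.card B) (Set.toFinite _) ⟨A, hA𝔅⟩
  have hB1 : B ≠ ⊥ := by
    rintro rfl
    exact hBA₁ bot_le
  have hBH : B ≤ H := le_trans hBA hAH
  -- `B ∩ A₁ = 1`
  have hdisj : A₁ ⊓ B = ⊥ := by
    by_contra hD1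
    set D : Subgroup G := A₁ ⊓ B with hD
    obtain ⟨B₀, hB₀B, hB₀, huB, -, hDB₀⟩ :=
      key_lemma' V H hV hHV hf hS1 B hBH hB D inf_le_right hD1
    have hB₀pos : 0 < Nat.card B₀ := Nat.card_pos
    have hB₀A₁ : B₀ ≤ A₁ := by
      by_contra h
      have h1 := hBmin B₀ ⟨le_trans hB₀B hBA, hB₀, h⟩
      have h2 : Nat.card B₀ < Nat.card B := by
        rw [huB]
        calc Nat.card B₀ = 1 * Nat.card B₀ := (one_mul _).symm
          _ < p * Nat.card B₀ := Nat.mul_lt_mul_of_pos_right hp.one_lt hB₀pos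
      omega
    have hB₀D : B₀ ≤ D := le_inf hB₀A₁ hB₀B
    have h1 : Nat.card B₀ ∣ Nat.card D := Subgroup.card_dvd_of_le hB₀D
    have h2 : Nat.card D ∣ Nat.card B := Subgroup.card_dvd_of_le inf_le_right
    obtain ⟨m, hm⟩ := h1
    rw [hm, huB, mul_comm p] at h2
    have h3 : m ∣ p := Nat.dvd_of_mul_dvd_mul_left hB₀pos h2
    rcases (Nat.dvd_prime hp).mp h3 with rfl | rfl
    · rw [mul_one] at hm
      have : B₀ = D := Subgroup.eq_of_le_of_card_ge hB₀D hm.le
      exact hDB₀ this.ge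
    · have h4 : Nat.card B ≤ Nat.card D := by rw [hm, huB, mul_comm]
      have : D = B := Subgroup.eq_of_le_of_card_ge inf_le_right h4
      apply hBA₁
      rw [← this]
      exact inf_le_left
  have hcomm : ∀ x ∈ A₁, ∀ y ∈ B, x * y = y * x := fun x hx y hy =>
    offender_comm V H hf hAH hA (hA₁A hx) (hBA hy)
  -- `A = A₁ × B`
  have hcard : Nat.card ↥(A₁ ⊔ B) = Nat.card A₁ * Nat.card B :=
    Cfsg.Agent.Lib.Helper25_CyclicDual.card_sup_of_commute A₁ B hdisj hcomm
  have hsupA : A₁ ⊔ B ≤ A := sup_le hA₁A hBA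
  have hBp : IsPGroup p B := offender_isPGroup V H hf hBH hB
  have hBcard : Nat.card B = p := by
    have h1 : Nat.card ↥(A₁ ⊔ B) ≤ Nat.card A := Subgroup.card_le_of_le hsupA
    rw [hcard, hu, mul_comm p] at h1
    have h2 : Nat.card B ≤ p := Nat.le_of_mul_le_mul_left h1 hA₁pos
    rcases hBp.card_eq_or_dvd with h3 | h3
    · exact absurd (Subgroup.card_eq_one.mp h3) hB1
    · exact le_antisymm h2 (Nat.le_of_dvd Nat.card_pos h3)
  have hAeq : A₁ ⊔ B = A := by
    apply Subgroup.eq_of_le_of_card_ge hsupA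
    rw [hcard, hBcard, hu, mul_comm]
  -- `B` is minimal
  have hBV : ⁅V, B⁆ ≠ ⊥ := by
    intro h
    apply hB1
    rw [eq_bot_iff, ← hf]
    refine le_inf hBH ?_
    rw [Subgroup.commutator_eq_bot_iff_le_centralizer] at h
    exact Subgroup.le_centralizer_iff.mp h
  have hBminimal : ∀ C : Subgroup G, C ≤ B → Cfsg.IsBestOffenderOn p V C → ⁅V, C⁆ ≠ ⊥ →
      C = B := by
    intro C hCB _ hCV
    have h1 : Nat.card C ∣ Nat.card B := Subgroup.card_dvd_of_le hCB
    rw [hBcard] at h1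
    rcases (Nat.dvd_prime hp).mp h1 with h2 | h2
    · exfalso
      apply hCV
      rw [Subgroup.card_eq_one.mp h2, eq_bot_iff, Subgroup.commutator_le]
      intro v _ g hg
      rw [Subgroup.mem_bot] at hg
      rw [hg, commutatorElement_one_right]
      exact Subgroup.one_mem _
    · exact Subgroup.eq_of_le_of_card_ge hCB (by rw [h2, hBcard])
  have hih := ih (Nat.card A₁) (by omega) A₁ rfl (le_trans hA₁A hAH) hA₁
  rw [← hAeq]
  exact decomp_extend V A₁ B hih hB hBV hBminimal hdisj hcomm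

end

/-- In such a faithful group every nontrivial best offender decomposes as a direct product of minimal nontrivially-acting best offenders. -/
theorem result {G : Type*} [Group G] [Finite G] {p : ℕ} [Fact p.Prime] (V H : Subgroup G) (hV : Cfsg.IsElementaryAbelian p V) (hHV : H ≤ Subgroup.normalizer (V : Set G)) (hf : H ⊓ Subgroup.centralizer (V : Set G) = ⊥) (hS1 : Subgroup.centralizer (Cfsg.pPrimeCore p ↥H : Set ↥H) ≤ Cfsg.pPrimeCore p ↥H) (hS3 : H = ⨆ A : {A : Subgroup G // A ≤ H ∧ Cfsg.IsBestOffenderOn p V A}, (A : Subgroup G)) (hH1 : H ≠ ⊥) (A : Subgroup G) (hAH : A ≤ H) (hA : Cfsg.IsBestOffenderOn p V A) (hA1 : A ≠ ⊥) : ∃ (k : ℕ) (B : Fin k → Subgroup G), (∀ i, B i ≤ A ∧ Cfsg.IsBestOffenderOn p V (B i) ∧ ⁅V, B i⁆ ≠ ⊥ ∧ ∀ C : Subgroup G, C ≤ B i → Cfsg.IsBestOffenderOn p V C → ⁅V, C⁆ ≠ ⊥ → C = B i) ∧ iSupIndep B ∧ ⨆ i, B i = A :=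
  main V H hV hHV hf hS1 _ A rfl hAH hA

end Cfsg.Agent.S0612
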