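import Cfsg.Statements.S0391
import Cfsg.Agent.Lib.Helper26_GolaySets
import Cfsg.Agent.Lib.Helper7_Leech
import Cfsg.Agent.Lib.Helper8_GolayEven

set_option autoImplicit false
open Cfsg

namespace Cfsg.Agent.S0391

open Cfsg.Agent.Lib.Helper7_Leech Cfsg.Agent.Lib.Helper7_M24 Cfsg.Agent.Lib.Helper8_GolayEven

theorem card_univ_pt : (Finset.univ : Finset GolayPt).card = 24 := by decide

theorem sq_ge_one {a : ℤ} (h : a ≠ 0) : 1 ≤ a ^ 2 := by
  have h0 : 0 ≤ a ^ 2 := sq_nonneg a
  by_contra hlt
  have : a ^ 2 = 0 := by omega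
  exact h ((pow_eq_zero_iff (two_ne_zero)).mp this)

/-- weight of an indicator word -/
theorem hammingNorm_indWord (P : GolayPt → Prop) [DecidablePred P] :
    hammingNorm (indWord P) = (Finset.univ.filter P).card := by
  rw [← support₂_indWord]
  rfl

theorem odd_case (x : GolayPt → ℤ) (m : ℤ) (hm : m % 2 = 1) (h1 : ∀ i, x i ≡ m [ZMOD 2])
    (h2 : ∑ i, x i ≡ 4 * m [ZMOD 8])
    (h3 : indWord (fun i => x i ≡ 1 [ZMOD 4]) ∈ golayCode) : 32 ≤ sqNorm x := by
  unfold sqNorm
  have hodd : ∀ i, x i % 2 = 1 := by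
    intro i
    have := h1 i
    unfold Int.ModEq at this
    omega
  have hge1 : ∀ i, 1 ≤ x i ^ 2 := by
    intro i
    apply sq_ge_one
    intro h
    have := hodd i
    rw [h] at this
    simp at this
  by_cases hbig : ∃ j, 9 ≤ x j ^ 2
  · obtain ⟨j, hj⟩ := hbig
    rw [← Finset.add_sum_erase Finset.univ _ (Finset.mem_univ j)]
    have : (23 : ℤ) ≤ ∑ i ∈ Finset.univ.erase j, x i ^ 2 := by
      calc (23 : ℤ) = ∑ i ∈ Finset.univ.erase j, (1 : ℤ) := by
            rw [Finset.sum_const, Finset.card_erase_of_mem (Finset.mem_univ j), card_univ_pt]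
            norm_num
        _ ≤ ∑ i ∈ Finset.univ.erase j, x i ^ 2 := Finset.sum_le_sum (fun i _ => hge1 i)
    omega
  · exfalso
    have hbig : ∀ j, x j ^ 2 < 9 := fun j => not_le.mp (fun h => hbig ⟨j, h⟩)
    have hpm : ∀ i, x i = 1 ∨ x i = -1 := by
      intro i
      have hlt := hbig i
      have ho := hodd i
      have hu : x i < 3 := by nlinarith
      have hl : -3 < x i := by nlinarith
      omega
    -- sum in terms of the support
    set S := Finset.univ.filter (fun i => x i ≡ 1 [ZMOD 4]) with hS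
    have hsum : ∑ i, x i = 2 * (S.card : ℤ) - 24 := by
      have : ∀ i, x i = (if x i ≡ 1 [ZMOD 4] then (2 : ℤ) else 0) - 1 := by
        intro i
        rcases hpm i with h | h
        · rw [if_pos (by rw [h])]; rw [h]; norm_num
        · rw [if_neg (by rw [h]; unfold Int.ModEq; omega)]; rw [h]; norm_num
      calc ∑ i, x i = ∑ i, ((if x i ≡ 1 [ZMOD 4] then (2 : ℤ) else 0) - 1) :=
            Finset.sum_congr rfl (fun i _ => this i)
        _ = 2 * (S.card : ℤ) - 24 := by
            rw [Finset.sum_sub_distrib, Finset.sum_ite, Finset.sum_const, Finset.sum_const_zero,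
              Finset.sum_const, card_univ_pt, ← hS]
            simp
            ring
    have h4 : 4 ∣ S.card := by
      have := four_dvd_card _ h3
      rwa [support₂_indWord] at this
    obtain ⟨s, hs⟩ := h4
    rw [hsum, hs] at h2
    unfold Int.ModEq at h2
    push_cast at h2
    omega

theorem even_case (x : GolayPt → ℤ) (h0 : x ≠ 0) (m : ℤ) (hm : m % 2 = 0) (h1 : ∀ i, x i ≡ m [ZMOD 2])
    (h2 : ∑ i, x i ≡ 4 * m [ZMOD 8])
    (h3 : indWord (fun i => x i ≡ 2 [ZMOD 4]) ∈ golayCode) : 32 ≤ sqNorm x := by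
  unfold sqNorm
  have heven : ∀ i, x i % 2 = 0 := by
    intro i
    have := h1 i
    unfold Int.ModEq at this
    omega
  set S := Finset.univ.filter (fun i => x i ≡ 2 [ZMOD 4]) with hS
  have hw : S.card = 0 ∨ S.card = 8 ∨ S.card = 12 ∨ S.card = 16 ∨ S.card = 24 := by
    have hmem : S ∈ supports (golayCode : Set (GolayPt → ZMod 2)) :=
      (filter_mem_supports_iff _).mpr h3
    rcases Cfsg.Agent.Lib.Helper26_Golay.card_of_mem_supports hmem with h | h | h | h | h
    · left; rw [h]; rfl
    · right; left; exact h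
    · right; right; left; exact h
    · right; right; right; left; exact h
    · right; right; right; right; rw [h]; exact card_univ_pt
  have hnn : ∀ i, 0 ≤ x i ^ 2 := fun i => sq_nonneg _
  by_cases hS0 : S.card = 0
  · -- all coordinates divisible by 4
    have h4 : ∀ i, x i % 4 = 0 := by
      intro i
      have hi : i ∉ S := by
        rw [Finset.card_eq_zero] at hS0
        rw [hS0]; exact Finset.notMem_empty i
      rw [hS, Finset.mem_filter] at hi
      simp only [Finset.mem_univ, true_and] at hi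
      unfold Int.ModEq at hi
      have := heven i
      omega
    have hex : ∃ j, x j ≠ 0 := by
      by_contra hcon
      apply h0
      funext i
      by_contra hne
      exact hcon ⟨i, hne⟩
    obtain ⟨j, hj⟩ := hex
    have hj16 : 16 ≤ x j ^ 2 := by
      have := h4 j
      have hcases : 4 ≤ x j ∨ x j ≤ -4 := by omega
      rcases hcases with h | h <;> nlinarith
    by_cases hk : ∃ k, k ≠ j ∧ x k ≠ 0
    · obtain ⟨k, hkj, hk0⟩ := hk
      have hk16 : 16 ≤ x k ^ 2 := by
        have := h4 k
        have hcases : 4 ≤ x k ∨ x k ≤ -4 := by omega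
        rcases hcases with h | h <;> nlinarith
      rw [← Finset.add_sum_erase Finset.univ _ (Finset.mem_univ j)]
      have hkmem : k ∈ Finset.univ.erase j := Finset.mem_erase.mpr ⟨hkj, Finset.mem_univ k⟩
      rw [← Finset.add_sum_erase _ _ hkmem]
      have : 0 ≤ ∑ i ∈ (Finset.univ.erase j).erase k, x i ^ 2 :=
        Finset.sum_nonneg (fun i _ => hnn i)
      omega
    · have hk : ∀ k, k ≠ j → x k = 0 := by
        intro k hkj
        by_contra hne
        exact hk ⟨k, hkj, hne⟩
      have hsum : ∑ i, x i = x j := by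
        rw [← Finset.add_sum_erase Finset.univ _ (Finset.mem_univ j)]
        have : ∑ i ∈ Finset.univ.erase j, x i = 0 := by
          apply Finset.sum_eq_zero
          intro i hi
          exact hk i (Finset.ne_of_mem_erase hi)
        rw [this, add_zero]
      rw [hsum] at h2
      unfold Int.ModEq at h2
      have h8 : x j % 8 = 0 := by omega
      have hj64 : 64 ≤ x j ^ 2 := by
        have hcases : 8 ≤ x j ∨ x j ≤ -8 := by omega
        rcases hcases with h | h <;> nlinarith
      rw [← Finset.add_sum_erase Finset.univ _ (Finset.mem_univ j)]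
      have : 0 ≤ ∑ i ∈ Finset.univ.erase j, x i ^ 2 := Finset.sum_nonneg (fun i _ => hnn i)
      omega
  · have h8 : 8 ≤ S.card := by omega
    have hsub : ∑ i ∈ S, x i ^ 2 ≤ ∑ i, x i ^ 2 :=
      Finset.sum_le_sum_of_subset_of_nonneg (Finset.subset_univ S) (fun i _ _ => hnn i)
    have hS4 : ∑ i ∈ S, (4 : ℤ) ≤ ∑ i ∈ S, x i ^ 2 := by
      apply Finset.sum_le_sum
      intro i hi
      rw [hS, Finset.mem_filter] at hi
      have := hi.2
      unfold Int.ModEq at this
      have hcases : 2 ≤ x i ∨ x i ≤ -2 := by omega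
      rcases hcases with h | h <;> nlinarith
    rw [Finset.sum_const] at hS4
    simp at hS4
    have : (8 : ℤ) ≤ (S.card : ℤ) := by exact_mod_cast h8
    omega

theorem result (x : Cfsg.GolayPt → ℤ) (hx : x ∈ Cfsg.leechLattice) (h0 : x ≠ 0) : 32 ≤ Cfsg.sqNorm x := by
  rw [mem_leechLattice_iff, mem_leechSet_iff] at hx
  obtain ⟨m, h1, h2, h3⟩ := hx
  have hm : m % 2 = 0 ∨ m % 2 = 1 := by omega
  rcases hm with hm | hm
  · exact even_case x h0 m hm h1 h2 (h3 2)
  · exact odd_case x m hm h1 h2 (h3 1)

end Cfsg.Agent.S0391
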