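import Cfsg.Statements.S0392
import Cfsg.Agent.Lib.Helper7_Leech
import Cfsg.Agent.Lib.Helper7_Code

set_option autoImplicit false
open Cfsg

namespace Cfsg.Agent.S0392

open Cfsg.Agent.Lib.Helper7_M24 Cfsg.Agent.Lib.Helper7_Code Cfsg.Agent.Lib.Helper7_Leech

/-- The number of points satisfying `P` is divisible by 4 when the indicator word of `P` is a
code word. -/
theorem four_dvd_count (P : GolayPt → Prop) [DecidablePred P] (h : indWord P ∈ golayCode) :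
    (4 : ℤ) ∣ ∑ i, (if P i then 1 else 0 : ℤ) := by
  rw [Finset.sum_boole, ← support₂_indWord]
  rcases weight_mem _ h with h | h | h | h | h <;> rw [h] <;> norm_num

theorem sq_even_aux (a : ℤ) (ha : a ≡ 0 [ZMOD 2]) :
    a ^ 2 ≡ 4 * (if a ≡ 2 [ZMOD 4] then 1 else 0) [ZMOD 16] := by
  have h1 : a = 4 * (a / 4) + a % 4 := (Int.mul_ediv_add_emod a 4).symm
  have h2 : a % 4 = 0 ∨ a % 4 = 2 := by
    unfold Int.ModEq at ha; omega
  rcases h2 with h2 | h2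
  · have hc : ¬ a ≡ 2 [ZMOD 4] := by unfold Int.ModEq; omega
    rw [if_neg hc, h1, h2]
    apply Int.modEq_iff_dvd.mpr
    exact ⟨-(a / 4) ^ 2, by ring⟩
  · have hc : a ≡ 2 [ZMOD 4] := by unfold Int.ModEq; omega
    rw [if_pos hc, h1, h2]
    apply Int.modEq_iff_dvd.mpr
    exact ⟨-((a / 4) ^ 2 + a / 4), by ring⟩

theorem sq_odd_aux (a : ℤ) (ha : a ≡ 1 [ZMOD 2]) :
    a ^ 2 ≡ 2 * a + 15 * (if a ≡ 1 [ZMOD 4] then 1 else 0) + 3 * (if a ≡ 3 [ZMOD 4] then 1 else 0)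
      [ZMOD 16] := by
  have h1 : a = 8 * (a / 8) + a % 8 := (Int.mul_ediv_add_emod a 8).symm
  have h2 : a % 8 = 1 ∨ a % 8 = 3 ∨ a % 8 = 5 ∨ a % 8 = 7 := by
    unfold Int.ModEq at ha; omega
  rcases h2 with h2 | h2 | h2 | h2
  · have hc1 : a ≡ 1 [ZMOD 4] := by unfold Int.ModEq; omega
    have hc3 : ¬ a ≡ 3 [ZMOD 4] := by unfold Int.ModEq; omega
    rw [if_pos hc1, if_neg hc3, h1, h2]
    apply Int.modEq_iff_dvd.mpr
    exact ⟨-(4 * (a / 8) ^ 2) + 1, by ring⟩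
  · have hc1 : ¬ a ≡ 1 [ZMOD 4] := by unfold Int.ModEq; omega
    have hc3 : a ≡ 3 [ZMOD 4] := by unfold Int.ModEq; omega
    rw [if_neg hc1, if_pos hc3, h1, h2]
    apply Int.modEq_iff_dvd.mpr
    exact ⟨-(4 * (a / 8) ^ 2 + 2 * (a / 8)), by ring⟩
  · have hc1 : a ≡ 1 [ZMOD 4] := by unfold Int.ModEq; omega
    have hc3 : ¬ a ≡ 3 [ZMOD 4] := by unfold Int.ModEq; omega
    rw [if_pos hc1, if_neg hc3, h1, h2]
    apply Int.modEq_iff_dvd.mpr
    exact ⟨-(4 * (a / 8) ^ 2 + 4 * (a / 8)), by ring⟩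
  · have hc1 : ¬ a ≡ 1 [ZMOD 4] := by unfold Int.ModEq; omega
    have hc3 : a ≡ 3 [ZMOD 4] := by unfold Int.ModEq; omega
    rw [if_neg hc1, if_pos hc3, h1, h2]
    apply Int.modEq_iff_dvd.mpr
    exact ⟨-(4 * (a / 8) ^ 2 + 6 * (a / 8) + 2), by ring⟩

theorem one_or_three_aux (a : ℤ) (ha : a ≡ 1 [ZMOD 2]) :
    (if a ≡ 1 [ZMOD 4] then 1 else 0 : ℤ) + (if a ≡ 3 [ZMOD 4] then 1 else 0) = 1 := by
  have h2 : a % 4 = 1 ∨ a % 4 = 3 := by
    unfold Int.ModEq at ha; omega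
  rcases h2 with h2 | h2
  · have hc1 : a ≡ 1 [ZMOD 4] := by unfold Int.ModEq; omega
    have hc3 : ¬ a ≡ 3 [ZMOD 4] := by unfold Int.ModEq; omega
    rw [if_pos hc1, if_neg hc3]; rfl
  · have hc1 : ¬ a ≡ 1 [ZMOD 4] := by unfold Int.ModEq; omega
    have hc3 : a ≡ 3 [ZMOD 4] := by unfold Int.ModEq; omega
    rw [if_neg hc1, if_pos hc3]; rfl

/-- Sum of squares of every lattice vector is divisible by 16 (even lattice at scale 1/8). -/
theorem result (x : Cfsg.GolayPt → ℤ) (hx : x ∈ Cfsg.leechLattice) : (16 : ℤ) ∣ Cfsg.sqNorm x := by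
  rw [mem_leechLattice_iff, mem_leechSet_iff] at hx
  obtain ⟨m, h1, h2, h3⟩ := hx
  unfold sqNorm
  apply Int.modEq_zero_iff_dvd.mp
  have hm : m % 2 = 0 ∨ m % 2 = 1 := by omega
  rcases hm with hm | hm
  · -- even case
    have hsum : ∑ i, x i ^ 2 ≡ ∑ i, 4 * (if x i ≡ 2 [ZMOD 4] then 1 else 0 : ℤ) [ZMOD 16] := by
      apply Int.ModEq.sum
      intro i _
      apply sq_even_aux
      have := h1 i
      unfold Int.ModEq at this ⊢
      omega
    refine hsum.trans ?_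
    rw [← Finset.mul_sum]
    obtain ⟨c, hc⟩ := four_dvd_count (fun i => x i ≡ 2 [ZMOD 4]) (h3 2)
    rw [hc]
    apply Int.modEq_zero_iff_dvd.mpr
    exact ⟨c, by ring⟩
  · -- odd case
    have hodd : ∀ i, x i ≡ 1 [ZMOD 2] := by
      intro i
      have := h1 i
      unfold Int.ModEq at this ⊢
      omega
    have hsum : ∑ i, x i ^ 2 ≡ ∑ i, (2 * x i + 15 * (if x i ≡ 1 [ZMOD 4] then 1 else 0 : ℤ)
        + 3 * (if x i ≡ 3 [ZMOD 4] then 1 else 0 : ℤ)) [ZMOD 16] := by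
      apply Int.ModEq.sum
      intro i _
      exact sq_odd_aux _ (hodd i)
    refine hsum.trans ?_
    rw [Finset.sum_add_distrib, Finset.sum_add_distrib, ← Finset.mul_sum, ← Finset.mul_sum,
      ← Finset.mul_sum]
    have h13 : ∑ i, (if x i ≡ 1 [ZMOD 4] then 1 else 0 : ℤ) +
        ∑ i, (if x i ≡ 3 [ZMOD 4] then 1 else 0 : ℤ) = 24 := by
      rw [← Finset.sum_add_distrib]
      rw [Finset.sum_congr rfl (fun i _ => one_or_three_aux (x i) (hodd i))]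
      simp
    obtain ⟨c, hc⟩ := four_dvd_count (fun i => x i ≡ 1 [ZMOD 4]) (h3 1)
    have h3' : ∑ i, (if x i ≡ 3 [ZMOD 4] then 1 else 0 : ℤ) = 24 - 4 * c := by
      rw [← hc]; linarith
    rw [h3', hc]
    have hs : (∑ i, x i) % 8 = 4 := by
      unfold Int.ModEq at h2
      omega
    apply Int.modEq_zero_iff_dvd.mpr
    have : ∑ i, x i = 8 * ((∑ i, x i) / 8) + 4 := by
      have := Int.mul_ediv_add_emod (∑ i, x i) 8
      omega
    rw [this]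
    exact ⟨(∑ i, x i) / 8 + 3 * c + 5, by ring⟩

end Cfsg.Agent.S0392
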