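import Cfsg.Statements.S0393
import Cfsg.Agent.S0394

set_option autoImplicit false
open Cfsg

namespace Cfsg.Agent.S0393

open Cfsg.Agent.Lib.Helper7_M24 Cfsg.Agent.Lib.Helper7_Leech Cfsg.Agent.Lib.Helper92_LeechParity

/-- Reduction modulo 2. -/
def red : (GolayPt → ℤ) →+ (GolayPt → ZMod 2) :=
  AddMonoidHom.mk' (fun x i => (x i : ZMod 2)) (by
    intro a b; funext i; simp only [Pi.add_apply]; push_cast; rfl)

theorem red_apply (x : GolayPt → ℤ) (i : GolayPt) : red x i = (x i : ZMod 2) := rfl

theorem red_surjective : Function.Surjective red := by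
  intro w
  refine ⟨fun i => ((w i).val : ℤ), ?_⟩
  funext i
  rw [red_apply, Int.cast_natCast, ZMod.natCast_zmod_val]

/-- The coordinate sum modulo 4. -/
def sum4 : (GolayPt → ℤ) →+ ZMod 4 :=
  AddMonoidHom.mk' (fun x => ((∑ i, x i : ℤ) : ZMod 4)) (by
    intro a b
    simp only [Pi.add_apply, Finset.sum_add_distrib]
    push_cast; rfl)

theorem sum4_apply (x : GolayPt → ℤ) : sum4 x = ((∑ i, x i : ℤ) : ZMod 4) := rfl

/-- Doubling. -/
def dbl : (GolayPt → ℤ) →+ (GolayPt → ℤ) :=
  AddMonoidHom.mk' (fun x i => 2 * x i) (by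
    intro a b; funext i; simp only [Pi.add_apply]; ring)

theorem dbl_apply (x : GolayPt → ℤ) (i : GolayPt) : dbl x i = 2 * x i := rfl

theorem dbl_injective : Function.Injective dbl := by
  intro a b h
  funext i
  have := congrFun h i
  rw [dbl_apply, dbl_apply] at this
  omega

/-- The parity of the coordinate at the extra point. -/
def par : (GolayPt → ℤ) →+ ZMod 2 :=
  AddMonoidHom.mk' (fun x => (x none : ZMod 2)) (by
    intro a b; simp only [Pi.add_apply]; push_cast; rfl)

theorem par_apply (x : GolayPt → ℤ) : par x = (x none : ZMod 2) := rfl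

/-! ### the integer vectors whose reduction is a code word -/

def K1 : AddSubgroup (GolayPt → ℤ) := golayCode.toAddSubgroup.comap red

theorem mem_K1 (y : GolayPt → ℤ) : y ∈ K1 ↔ red y ∈ golayCode := Iff.rfl

theorem card_F24 : Nat.card (GolayPt → ZMod 2) = 2 ^ 24 := by
  rw [Nat.card_eq_fintype_card, Fintype.card_fun, ZMod.card, Cfsg.Agent.S0394.card_golayPt]

theorem K1_index : K1.index = 2 ^ 12 := by
  unfold K1
  rw [AddSubgroup.index_comap_of_surjective _ red_surjective]
  have h := AddSubgroup.index_mul_card golayCode.toAddSubgroup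
  have hc : Nat.card ↥golayCode.toAddSubgroup = 4096 :=
    Cfsg.Agent.Lib.Helper27_GolayLike.card_golayCode
  rw [hc, card_F24] at h
  have h' : golayCode.toAddSubgroup.index * 4096 = 4096 * 4096 := by rw [h]; norm_num
  rw [Nat.eq_of_mul_eq_mul_right (by norm_num) h']; norm_num

theorem even_sum_of_mem_K1 (y : GolayPt → ℤ) (hy : y ∈ K1) : 2 ∣ ∑ i, y i := by
  rw [mem_K1] at hy
  have h := Cfsg.Agent.Lib.Helper8_GolayEven.golay_orth (red y) 1 hy one_mem
  have h' : ((∑ i, y i : ℤ) : ZMod 2) = 0 := by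
    rw [← h]
    push_cast
    apply Finset.sum_congr rfl
    intro i _
    rw [Pi.one_apply, mul_one, red_apply]
  exact (ZMod.intCast_zmod_eq_zero_iff_dvd _ 2).mp h'

/-! ### the sum condition -/

def K2 : AddSubgroup (GolayPt → ℤ) := sum4.ker ⊓ K1

/-- The subgroup `{0, 2}` of `ZMod 4`. -/
def T4 : AddSubgroup (ZMod 4) where
  carrier := {a | a = 0 ∨ a = 2}
  zero_mem' := Or.inl rfl
  add_mem' := by
    rintro a b (rfl | rfl) (rfl | rfl)
    · left; rfl
    · right; rfl
    · right; rfl
    · left; rfl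
  neg_mem' := by
    rintro a (rfl | rfl)
    · left; rfl
    · right; rfl

theorem T4_card : Nat.card T4 = 2 := by
  have e : ↥T4 = {a : ZMod 4 // a = 0 ∨ a = 2} := rfl
  rw [e, Nat.card_eq_fintype_card]
  rfl

theorem map_sum4_K1 : K1.map sum4 = T4 := by
  ext a
  rw [AddSubgroup.mem_map]
  constructor
  · rintro ⟨y, hy, rfl⟩
    obtain ⟨q, hq⟩ := even_sum_of_mem_K1 y hy
    rw [sum4_apply, hq]
    have h2 : q % 2 = 0 ∨ q % 2 = 1 := by omega
    rcases h2 with h2 | h2
    · left
      obtain ⟨r, hr⟩ : ∃ r, q = 2 * r := ⟨q / 2, by omega⟩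
      rw [hr, ← mul_assoc]
      push_cast
      have : (4 : ZMod 4) = 0 := by decide
      rw [this, zero_mul]
    · right
      obtain ⟨r, hr⟩ : ∃ r, q = 2 * r + 1 := ⟨q / 2, by omega⟩
      rw [hr, mul_add, ← mul_assoc, mul_one]
      push_cast
      have : (4 : ZMod 4) = 0 := by decide
      rw [this, zero_mul, zero_add]
  · rintro (rfl | rfl)
    · exact ⟨0, K1.zero_mem, map_zero _⟩
    · refine ⟨fun i => if i = none then 2 else 0, ?_, ?_⟩
      · rw [mem_K1]
        have : red (fun i => if i = none then 2 else 0) = 0 := by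
          funext i
          rw [red_apply]
          by_cases h : i = none
          · rw [if_pos h]; rfl
          · rw [if_neg h]; rfl
        rw [this]; exact golayCode.zero_mem
      · rw [sum4_apply, Finset.sum_ite_eq' Finset.univ none, if_pos (Finset.mem_univ _)]
        rfl

theorem K2_index : K2.index = 2 ^ 13 := by
  have h1 : K2.relIndex K1 = 2 := by
    unfold K2
    rw [AddSubgroup.inf_relIndex_right, AddSubgroup.relIndex_ker, map_sum4_K1, T4_card]
  have h2 := AddSubgroup.relIndex_mul_index (H := K2) (K := K1) inf_le_right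
  rw [h1, K1_index] at h2
  rw [← h2]; rfl

/-! ### doubling -/

theorem range_dbl : dbl.range = red.ker := by
  ext x
  rw [AddMonoidHom.mem_range, AddMonoidHom.mem_ker]
  constructor
  · rintro ⟨y, rfl⟩
    funext i
    rw [red_apply, dbl_apply]
    push_cast
    have : (2 : ZMod 2) = 0 := by decide
    rw [this, zero_mul]; rfl
  · intro h
    refine ⟨fun i => x i / 2, ?_⟩
    funext i
    rw [dbl_apply]
    have hi := congrFun h i
    rw [red_apply, Pi.zero_apply, ZMod.intCast_zmod_eq_zero_iff_dvd] at hi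
    have hi' : (2 : ℤ) ∣ x i := by exact_mod_cast hi
    omega

theorem range_dbl_index : dbl.range.index = 2 ^ 24 := by
  rw [range_dbl, AddSubgroup.index_ker, AddMonoidHom.range_eq_top.mpr red_surjective,
    AddSubgroup.card_top, card_F24]

/-- The even vectors of the lattice. -/
def Leven : AddSubgroup (GolayPt → ℤ) := K2.map dbl

theorem Leven_index : Leven.index = 2 ^ 37 := by
  unfold Leven
  rw [AddSubgroup.index_map_of_injective K2 dbl_injective, K2_index, range_dbl_index]
  norm_num

theorem red_eq_indWord (y : GolayPt → ℤ) :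
    red y = indWord (fun i => dbl y i ≡ 2 [ZMOD 4]) := by
  funext i
  rw [red_apply]
  unfold indWord
  beta_reduce
  rw [dbl_apply]
  by_cases h : 2 * y i ≡ 2 [ZMOD 4]
  · rw [if_pos h]
    unfold Int.ModEq at h
    obtain ⟨r, hr⟩ : ∃ r, y i = 2 * r + 1 := ⟨y i / 2, by omega⟩
    rw [hr]
    push_cast
    have : (2 : ZMod 2) = 0 := by decide
    rw [this, zero_mul, zero_add]
  · rw [if_neg h]
    unfold Int.ModEq at h
    obtain ⟨r, hr⟩ : ∃ r, y i = 2 * r := ⟨y i / 2, by omega⟩
    rw [hr]
    push_cast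
    have : (2 : ZMod 2) = 0 := by decide
    rw [this, zero_mul]

theorem sum_dbl (y : GolayPt → ℤ) : ∑ i, dbl y i = 2 * ∑ i, y i := by
  rw [Finset.mul_sum]
  rfl

theorem mem_K2 (y : GolayPt → ℤ) : y ∈ K2 ↔ (4 ∣ ∑ i, y i) ∧ red y ∈ golayCode := by
  unfold K2
  rw [AddSubgroup.mem_inf, AddMonoidHom.mem_ker, sum4_apply, mem_K1]
  have : (((∑ i, y i : ℤ) : ZMod 4) = 0) ↔ (4 : ℤ) ∣ ∑ i, y i := by
    rw [ZMod.intCast_zmod_eq_zero_iff_dvd]; norm_num
  rw [this]

theorem Leven_eq : Leven = leechLattice ⊓ par.ker := by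
  ext x
  unfold Leven
  rw [AddSubgroup.mem_map, AddSubgroup.mem_inf, mem_leechLattice_iff, AddMonoidHom.mem_ker]
  constructor
  · rintro ⟨y, hy, rfl⟩
    rw [mem_K2] at hy
    constructor
    · apply mem_of_even
      · intro i; exact ⟨y i, rfl⟩
      · rw [← red_eq_indWord]; exact hy.2
      · rw [sum_dbl]
        obtain ⟨q, hq⟩ := hy.1
        exact ⟨q, by rw [hq]; ring⟩
    · rw [par_apply, dbl_apply]
      push_cast
      have : (2 : ZMod 2) = 0 := by decide
      rw [this, zero_mul]
  · rintro ⟨hx, hp⟩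
    rw [par_apply, ZMod.intCast_zmod_eq_zero_iff_dvd] at hp
    have hp' : (2 : ℤ) ∣ x none := by exact_mod_cast hp
    rcases even_or_odd_of_mem x hx with ⟨h2, hC, hs⟩ | ⟨h2, _, _⟩
    · have hxy : dbl (fun i => x i / 2) = x := by
        funext i
        rw [dbl_apply]
        have := h2 i
        omega
      refine ⟨fun i => x i / 2, ?_, hxy⟩
      rw [mem_K2]
      constructor
      · have := sum_dbl (fun i => x i / 2)
        rw [hxy] at this
        omega
      · rw [red_eq_indWord, hxy]; exact hC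
    · exact absurd hp' (h2 none)

/-! ### the parity hom on the lattice -/

theorem map_par : leechLattice.map par = ⊤ := by
  rw [eq_top_iff]
  intro a _
  rw [AddSubgroup.mem_map]
  rcases Cfsg.Agent.S0394.zmod2_cases a with rfl | rfl
  · exact ⟨0, leechLattice.zero_mem, map_zero _⟩
  · refine ⟨Cfsg.Agent.S0394.fO none 1, ?_, ?_⟩
    · rw [mem_leechLattice_iff]
      exact Cfsg.Agent.S0394.fO_mem none 1 one_mem
    · rw [par_apply]
      rcases Cfsg.Agent.S0394.fO_cases none 1 none with ⟨_, _, e⟩ | ⟨_, _, e⟩ | ⟨_, _, e⟩ | ⟨_, _, e⟩ <;>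
        rw [e] <;> rfl

theorem main : leechLattice.index = 2 ^ 36 := by
  have h1 : Leven.relIndex leechLattice = 2 := by
    rw [Leven_eq, inf_comm, AddSubgroup.inf_relIndex_right, AddSubgroup.relIndex_ker, map_par,
      AddSubgroup.card_top, Nat.card_zmod]
  have h2 := AddSubgroup.relIndex_mul_index (H := Leven) (K := leechLattice)
    (by rw [Leven_eq]; exact inf_le_left)
  rw [h1, Leven_index] at h2
  have h3 : (2 : ℕ) ^ 37 = 2 * 2 ^ 36 := by norm_num
  rw [h3] at h2
  exact Nat.eq_of_mul_eq_mul_left (by norm_num) h2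

theorem result : Cfsg.leechLattice.index = 2 ^ 36 := main

end Cfsg.Agent.S0393
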