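import Cfsg.Statements.S5408
import Cfsg.Agent.Lib.Helper63_MonsterForm
import Cfsg.Agent.Lib.Helper92_Monomial
import Cfsg.Agent.Lib.Helper7_Bits

set_option autoImplicit false
set_option linter.unusedSectionVars false
open Cfsg

namespace Cfsg.Agent.S5408

open Cfsg.Agent.Lib.Helper89_ESClass Cfsg.Agent.Lib.Helper63_ESForm
open Cfsg.Agent.Lib.Helper63_MonsterForm Cfsg.Agent.Lib.Helper92_Monomial
open Cfsg.Agent.Lib.Helper7_Bits

/-! ### explicit lattice vectors -/

/-- `(0, -4, -4, 0, ...)`: `-4` at the residues `0` and `1`. -/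
def vY : GolayPt → ℤ := fun p => if p = some 0 ∨ p = some 1 then -4 else 0

/-- `(-3, 1, ..., 1)`: `-3` at the extra point. -/
def vZ : GolayPt → ℤ := fun p => if p = none then -3 else 1

/-- `(8, 0, ..., 0)`: `8` at the extra point. -/
def vE : GolayPt → ℤ := fun p => if p = none then 8 else 0

theorem vY_mem : vY ∈ leechSet :=
  Spor.mem_leechSet_of_const_mod_four vY 0 0 (by decide) (by decide) (by decide)

theorem vZ_mem : vZ ∈ leechSet :=
  Spor.mem_leechSet_of_const_mod_four vZ 1 1 (by decide) (by decide) (by decide)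

theorem vE_mem : vE ∈ leechSet :=
  Spor.mem_leechSet_of_const_mod_four vE 0 0 (by decide) (by decide) (by decide)

def lY : leechLattice := ⟨vY, AddSubgroup.subset_closure vY_mem⟩
def lZ : leechLattice := ⟨vZ, AddSubgroup.subset_closure vZ_mem⟩
def lE : leechLattice := ⟨vE, AddSubgroup.subset_closure vE_mem⟩

/-- the basis of the totally singular subspace: `8 e_∞` and `4 e_∞ - 4 e_j` for `j = 12, ..., 22`. -/
def bRaw (i : Fin 12) : GolayPt → ℤ := fun p =>
  if i = 0 then (if p = none then 8 else 0)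
  else if p = none then 4 else if p = some ((11 + i.val : ℕ) : ZMod 23) then -4 else 0

theorem bRaw_mod : ∀ (i : Fin 12) (p : GolayPt), bRaw i p ≡ 0 [ZMOD 4] := by decide

theorem bRaw_sum : ∀ i : Fin 12, ∑ p, bRaw i p ≡ 4 * 0 [ZMOD 8] := by decide

theorem bRaw_mem (i : Fin 12) : bRaw i ∈ leechSet :=
  Spor.mem_leechSet_of_const_mod_four (bRaw i) 0 0 (by decide) (bRaw_mod i) (bRaw_sum i)

def bL (i : Fin 12) : leechLattice := ⟨bRaw i, AddSubgroup.subset_closure (bRaw_mem i)⟩

theorem bRaw_norm : ∀ i : Fin 12, i ≠ 0 → sqNorm (bRaw i) = 32 := by decide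

theorem bRaw_sub_norm : ∀ i j : Fin 12, i ≠ j → sqNorm (bRaw i - bRaw j) = 32 := by decide

theorem bL_zero : bL 0 = lE := by
  apply Subtype.ext
  funext p
  simp [bL, lE, bRaw, vE]

/-- masks of the code words of the systematic basis with pivots `12, ..., 22` -/
def cw (k : Fin 12) : ℕ :=
  [0, 5279, 10558, 18147, 36294, 69395, 133817, 262637, 525274, 1050548, 2101096, 4196943].getD k.val 0

theorem cw_basis : ∀ k : Fin 12, k ≠ 0 → (11 + k.val, cw k) ∈ basis := by decide

/-- the dual vectors -/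
def lamRaw (k : Fin 12) : GolayPt → ℤ := if k = 0 then vZ else twoInd (toWord (cw k))

theorem lamRaw_mem (k : Fin 12) : lamRaw k ∈ leechLattice := by
  unfold lamRaw
  split_ifs with h
  · exact AddSubgroup.subset_closure vZ_mem
  · exact AddSubgroup.subset_closure (twoInd_mem _ (basis_mem _ (cw_basis k h)))

set_option maxRecDepth 100000 in
theorem dots : ∀ i k : Fin 12, dotInt (bRaw i) (lamRaw k) % 16 = if i = k then 8 else 0 := by
  decide


/-! ### the pairing with the dual vectors -/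

/-- inner product with a fixed vector, modulo 16 -/
def dotHom (l : GolayPt → ℤ) : leechLattice →+ ZMod 16 where
  toFun x := ((dotInt (x : GolayPt → ℤ) l : ℤ) : ZMod 16)
  map_zero' := by simp [dotInt]
  map_add' x y := by
    rw [AddSubgroup.coe_add, dotInt_add_left]
    push_cast
    rfl

theorem dotHom_two (l : GolayPt → ℤ) (hl : l ∈ leechLattice) (w : leechLattice) :
    dotHom l (w + w) = 0 := by
  rw [map_add]
  obtain ⟨m, hm⟩ := eight_dvd_dot (w : GolayPt → ℤ) l w.2 hl
  show ((dotInt (w : GolayPt → ℤ) l : ℤ) : ZMod 16) + ((dotInt (w : GolayPt → ℤ) l : ℤ) : ZMod 16) = 0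
  rw [hm]
  push_cast
  have h16 : (16 : ZMod 16) = 0 := by decide
  calc (8 * (m : ZMod 16) + 8 * (m : ZMod 16)) = 16 * (m : ZMod 16) := by ring
    _ = 0 := by rw [h16, zero_mul]

theorem dotHom_b (i k : Fin 12) : dotHom (lamRaw k) (bL i) = if i = k then 8 else 0 := by
  show ((dotInt (bRaw i) (lamRaw k) : ℤ) : ZMod 16) = _
  have h1 : ((dotInt (bRaw i) (lamRaw k) : ℤ) : ZMod 16) =
      ((dotInt (bRaw i) (lamRaw k) % ((16 : ℕ) : ℤ) : ℤ) : ZMod 16) := by
    rw [ZMod.intCast_mod]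
  rw [h1]
  have h2 := dots i k
  have h3 : ((16 : ℕ) : ℤ) = 16 := by norm_num
  rw [h3, h2]
  split_ifs <;> simp

/-- the sum of the basis vectors selected by `s` -/
def θ (s : Fin 12 → Bool) : leechLattice := ∑ i, if s i then bL i else 0

theorem dotHom_θ (s : Fin 12 → Bool) (k : Fin 12) :
    dotHom (lamRaw k) (θ s) = if s k then 8 else 0 := by
  unfold θ
  rw [map_sum, Finset.sum_eq_single k]
  · cases s k
    · simp
    · simp [dotHom_b]
  · intro i _ hik
    cases s i
    · simp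
    · simp [dotHom_b, hik]
  · intro h
    exact absurd (Finset.mem_univ k) h

/-- the sublattice spanned by the twelve vectors -/
def L0 : AddSubgroup leechLattice := AddSubgroup.closure (Set.range bL)

theorem θ_mem (s : Fin 12 → Bool) : θ s ∈ L0 := by
  unfold θ
  apply AddSubgroup.sum_mem
  intro i _
  cases s i
  · exact L0.zero_mem
  · exact AddSubgroup.subset_closure ⟨i, rfl⟩

section main

variable {G : Type*} [Group G] {z : G} {Q : Subgroup (Subgroup.centralizer ({z} : Set G))}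
  [Q.Normal] {e : (Subgroup.centralizer ({z} : Set G)) ⧸ Q ≃* Spor.Co1}
  {ψ : leechLattice → Q ⧸ Subgroup.center Q} {t : Q}

/-- `ψ` as an additive homomorphism -/
noncomputable def ψhom (hψ : IsLeechModTwoIso Q e ψ) :
    leechLattice →+ Additive (Q ⧸ Subgroup.center Q) :=
  AddMonoidHom.mk' (fun v => Additive.ofMul (ψ v)) (fun v w => by rw [hψ.1]; rfl)

theorem ψ_zero (hψ : IsLeechModTwoIso Q e ψ) : ψ 0 = 1 := (ψhom hψ).map_zero

theorem ψ_neg (hψ : IsLeechModTwoIso Q e ψ) (v : leechLattice) : ψ (-v) = (ψ v)⁻¹ :=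
  (ψhom hψ).map_neg v

theorem ψ_sub (hψ : IsLeechModTwoIso Q e ψ) (v w : leechLattice) : ψ (v - w) = ψ v / ψ w :=
  (ψhom hψ).map_sub v w

theorem θ_inj (hψ : IsLeechModTwoIso Q e ψ) {s s' : Fin 12 → Bool} (h : ψ (θ s) = ψ (θ s')) :
    s = s' := by
  have h1 : ψ (θ s - θ s') = 1 := by rw [ψ_sub hψ, h, div_self']
  obtain ⟨w, hw⟩ := (hψ.2.2.1 _).1 h1
  funext k
  have h2 : dotHom (lamRaw k) (θ s) = dotHom (lamRaw k) (θ s') := by
    have h3 : θ s = θ s' + (w + w) := by rw [← hw]; abel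
    rw [h3, map_add, dotHom_two _ (lamRaw_mem k), add_zero]
  rw [dotHom_θ, dotHom_θ] at h2
  have h8 : (8 : ZMod 16) ≠ 0 := by decide
  cases hs : s k <;> cases hs' : s' k
  · rfl
  · rw [hs, hs'] at h2; simp at h2; exact absurd h2.symm h8
  · rw [hs, hs'] at h2; simp at h2; exact absurd h2 h8
  · rfl

variable (hE : IsES2 Q t) (hψ : IsLeechModTwoIso Q e ψ)
include hE hψ

theorem F_U : F ψ Spor.leechU = 0 := by
  have h := seven hE hψ Spor.leechU lY lZ
  rw [F_32 hE hψ (Spor.leechU + lY + lZ) (by decide), F_32 hE hψ (Spor.leechU + lY) (by decide),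
    F_48 hE hψ (Spor.leechU + lZ) (by decide), F_48 hE hψ (lY + lZ) (by decide),
    F_32 hE hψ lY (by decide), F_32 hE hψ lZ (by decide)] at h
  generalize F ψ Spor.leechU = a at h ⊢
  generalize F ψ Spor.leechV = b at h
  revert a b
  decide

theorem F_E : F ψ lE = 0 := by
  have h := seven hE hψ Spor.leechU Spor.leechU' lZ
  have hUU : Spor.leechU + Spor.leechU' = lE := by
    apply Subtype.ext
    funext p
    revert p
    decide
  rw [hUU, F_48 hE hψ (lE + lZ) (by decide), F_48 hE hψ (Spor.leechU + lZ) (by decide),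
    F_32 hE hψ (Spor.leechU' + lZ) (by decide), F_32 hE hψ Spor.leechU' (by decide),
    F_32 hE hψ lZ (by decide)] at h
  generalize F ψ lE = c at h ⊢
  generalize F ψ Spor.leechU = a at h
  generalize F ψ Spor.leechV = b at h
  revert a b c
  decide

theorem F_b (i : Fin 12) : F ψ (bL i) = 0 := by
  by_cases hi : i = 0
  · rw [hi, bL_zero]; exact F_E hE hψ
  · rw [F_32 hE hψ (bL i) (bRaw_norm i hi)]; exact F_U hE hψ

theorem B_b (i j : Fin 12) : B ψ (bL i) (bL j) = 0 := by
  by_cases hij : i = j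
  · rw [hij]; exact B_self _
  · have h := F_sub hE hψ (bL i) (bL j)
    rw [F_b hE hψ, F_b hE hψ, F_32 hE hψ (bL i - bL j) (bRaw_sub_norm i j hij), F_U hE hψ] at h
    simpa using h.symm

theorem B_L0_gen (j : Fin 12) : ∀ x ∈ L0, B ψ x (bL j) = 0 := by
  intro x hx
  induction hx using AddSubgroup.closure_induction with
  | mem y hy =>
    obtain ⟨i, rfl⟩ := hy
    exact B_b hE hψ i j
  | zero => exact B_zero_left hE hψ _
  | add y y' _ _ ih ih' => rw [B_add_left hE hψ, ih, ih', add_zero]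
  | neg y _ ih => rw [B_neg_left hE hψ, ih]

theorem B_L0 : ∀ x ∈ L0, ∀ y ∈ L0, B ψ x y = 0 := by
  intro x hx y hy
  induction hy using AddSubgroup.closure_induction with
  | mem y hy =>
    obtain ⟨i, rfl⟩ := hy
    exact B_L0_gen hE hψ i x hx
  | zero => exact B_zero_right hE hψ _
  | add y y' _ _ ih ih' => rw [B_add_right hE hψ, ih, ih', add_zero]
  | neg y _ ih => rw [B_neg_right hE hψ, ih]

theorem F_L0 : ∀ x ∈ L0, F ψ x = 0 := by
  intro x hx
  induction hx using AddSubgroup.closure_induction with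
  | mem y hy =>
    obtain ⟨i, rfl⟩ := hy
    exact F_b hE hψ i
  | zero => exact F_zero hE hψ
  | add y y' hy hy' ih ih' => rw [F_add hE hψ, ih, ih', B_L0 hE hψ y hy y' hy', add_zero, add_zero]
  | neg y _ ih => rw [F_neg hE hψ, ih]


/-- the preimage in `Q` of the image of `L0` -/
def Esub (hψ : IsLeechModTwoIso Q e ψ) : Subgroup Q where
  carrier := {q | ∃ x ∈ L0, ψ x = QuotientGroup.mk q}
  one_mem' := ⟨0, L0.zero_mem, ψ_zero hψ⟩
  mul_mem' := by
    rintro a b ⟨x, hx, hxa⟩ ⟨y, hy, hyb⟩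
    exact ⟨x + y, L0.add_mem hx hy, by rw [hψ.1, hxa, hyb]; rfl⟩
  inv_mem' := by
    rintro a ⟨x, hx, hxa⟩
    exact ⟨-x, L0.neg_mem hx, by rw [ψ_neg hψ, hxa]; rfl⟩

theorem Esub_sq (a : Q) (ha : a ∈ Esub hψ) : a ^ 2 = 1 := by
  obtain ⟨x, hx, hxa⟩ := ha
  have h := F_L0 hE hψ x hx
  rw [F_eq hE hxa, sqv_eq_zero_iff] at h
  rw [pow_two, h]

theorem Esub_comm (a b : Q) (ha : a ∈ Esub hψ) (hb : b ∈ Esub hψ) : a * b = b * a := by
  obtain ⟨x, hx, hxa⟩ := ha
  obtain ⟨y, hy, hyb⟩ := hb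
  have h := B_L0 hE hψ x hx y hy
  rw [B_eq hE hxa hyb, cmv_eq_zero_iff] at h
  exact h

theorem card_Esub (hc : Nat.card (Subgroup.center Q) = 2) [Finite Q] :
    2 ^ 13 ≤ Nat.card (Esub hψ) := by
  let Φ : (Fin 12 → Bool) × Subgroup.center Q → Esub hψ := fun sc =>
    ⟨lft ψ (θ sc.1) * (sc.2 : Q), θ sc.1, θ_mem sc.1, by
      rw [QuotientGroup.mk_mul, mk_lft, (QuotientGroup.eq_one_iff _).2 sc.2.2, mul_one]⟩
  have hΦ : Function.Injective Φ := by
    rintro ⟨s, c⟩ ⟨s', c'⟩ h
    have h1 : lft ψ (θ s) * (c : Q) = lft ψ (θ s') * (c' : Q) := congrArg Subtype.val h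
    have h2 : ψ (θ s) = ψ (θ s') := by
      have := congrArg (QuotientGroup.mk : Q → Q ⧸ Subgroup.center Q) h1
      rwa [QuotientGroup.mk_mul, QuotientGroup.mk_mul, mk_lft, mk_lft,
        (QuotientGroup.eq_one_iff _).2 c.2, (QuotientGroup.eq_one_iff _).2 c'.2, mul_one,
        mul_one] at this
    have h3 : s = s' := θ_inj hψ h2
    subst h3
    have h4 : (c : Q) = c' := mul_left_cancel h1
    rw [Subtype.ext h4]
  have h5 := Nat.card_le_card_of_injective Φ hΦ
  have h6 : Nat.card ((Fin 12 → Bool) × Subgroup.center Q) = 2 ^ 13 := by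
    rw [Nat.card_prod, hc, Nat.card_eq_fintype_card]
    simp
  rw [h6] at h5
  exact h5

end main

/-- Let G be a finite group of Monster type at the involution z with Q the extraspecial normal subgroup of order 2^25 of C = C_G(z) (so C/Q is identified with the first Conway group with Q modulo its centre the Leech lattice modulo 2, and z is not weakly closed in Q). Then Q is of plus type: it contains an elementary abelian subgroup of order 2^13. -/
theorem result {G : Type*} [Group G] [Finite G] (z : G) (Q : Subgroup (Subgroup.centralizer ({z} : Set G))) [Q.Normal] (hM : Cfsg.IsOfMonsterType z Q) : ∃ E : Subgroup Q, Cfsg.IsElementaryAbelian 2 E ∧ Nat.card E = 2 ^ 13 := by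
  obtain ⟨⟨-, -, hes, -, -⟩, e, ψ, hψ⟩ := hM
  obtain ⟨t, hE⟩ := isES2_of_isExtraspecial hes
  have hle := card_Esub hE hψ hes.2
  obtain ⟨H', hH'le, hH'card⟩ :=
    Sylow.exists_subgroup_le_card_pow_prime_of_le_card Nat.prime_two hes.1.1 hle
  refine ⟨H', ⟨⟨⟨fun a b => Subtype.ext ?_⟩⟩, fun a ha => ?_⟩, hH'card⟩
  · exact Esub_comm hE hψ (a : Q) (b : Q) (hH'le a.2) (hH'le b.2)
  · exact Esub_sq hE hψ a (hH'le ha)

end Cfsg.Agent.S5408
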