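import Cfsg.Statements.S5593
import Cfsg.Agent.S0400
import Cfsg.Agent.S1576
import Cfsg.Agent.Lib.Helper92_OrthPairs

/-!
Transitivity on the classes modulo twice the lattice of the vectors of sum of squares 64.

Such a vector `z` is congruent to 48 vectors of the same sum of squares; one of them, `y`, is
neither `z` nor `-z`, hence orthogonal to `z`, and `z = (z + y)/2 + (z - y)/2` is a sum of two
orthogonal minimal vectors.  Transitivity on the minimal vectors (`S0400`) and of the stabiliser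
of a minimal vector on the pairs of opposite minimal vectors orthogonal to it (`S1576`) then
move such a sum to any other one, up to the sign of the second summand, which does not change
the class.
-/

set_option autoImplicit false
open scoped Pointwise
open Cfsg

namespace Cfsg.Agent.S5593

open Cfsg.Agent.Lib.Helper92_LeechMod2 Cfsg.Agent.Lib.Helper92_Monomial
  Cfsg.Agent.Lib.Helper92_Co0Order Cfsg.Agent.Lib.Helper92_OrthPairs
open Cfsg.Agent.S5546 (Lam)

/-- A vector of sum of squares 64 is the sum of two orthogonal minimal vectors. -/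
theorem split (z : Lam) (hz : sqNorm (z : GolayPt → ℤ) = 64) :
    ∃ v w : Lam, sqNorm (v : GolayPt → ℤ) = 32 ∧ sqNorm (w : GolayPt → ℤ) = 32 ∧
      dotInt (v : GolayPt → ℤ) (w : GolayPt → ℤ) = 0 ∧ z = v + w := by
  have h48 := card_class_64 z.1 z.2 hz
  have hex : ∃ y, (y ∈ leechLattice ∧ sqNorm y = 64 ∧ ∃ t ∈ leechLattice, z.1 - y = 2 • t) ∧
      y ≠ z.1 ∧ y ≠ -z.1 := by
    by_contra hcon
    have hsub : {y : GolayPt → ℤ | y ∈ leechLattice ∧ sqNorm y = 64 ∧
        ∃ t ∈ leechLattice, z.1 - y = 2 • t} ⊆ ({z.1, -z.1} : Set (GolayPt → ℤ)) := by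
      intro y hy
      by_contra hy'
      apply hcon
      refine ⟨y, hy, ?_, ?_⟩
      · intro h; exact hy' (by rw [h]; exact Set.mem_insert _ _)
      · intro h; exact hy' (by rw [h]; exact Set.mem_insert_of_mem _ rfl)
    have hle := Set.ncard_le_ncard hsub (Set.toFinite _)
    have h2 : ({z.1, -z.1} : Set (GolayPt → ℤ)).ncard ≤ 2 := by
      have := Set.ncard_insert_le z.1 ({-z.1} : Set (GolayPt → ℤ))
      rw [Set.ncard_singleton] at this
      exact this
    rw [h48] at hle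
    omega
  obtain ⟨y, ⟨hy, hyn, t, ht, hzy⟩, hne1, hne2⟩ := hex
  obtain ⟨_, _, hdot⟩ := claimA z.1 y z.2 hy (by rw [hz]) (by rw [hyn]) ⟨t, ht, hzy⟩ hne1 hne2
  have hz' : z.1 = (y + t) + t := by
    have : z.1 = 2 • t + y := by rw [← hzy]; abel
    rw [this, two_smul]; abel
  have hsub := sqNorm_sub' z.1 y
  rw [hzy, Cfsg.Agent.S5551.sqNorm_two_smul, hz, hyn, hdot] at hsub
  have hadd := sqNorm_add' z.1 y
  have hzy2 : z.1 + y = 2 • (y + t) := by
    rw [hz', two_smul]; abel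
  rw [hzy2, Cfsg.Agent.S5551.sqNorm_two_smul, hz, hyn, hdot] at hadd
  have hsum := sqNorm_add' (y + t) t
  rw [← hz', hz] at hsum
  refine ⟨⟨y + t, leechLattice.add_mem hy ht⟩, ⟨t, ht⟩, ?_, ?_, ?_, Subtype.ext hz'⟩
  · show sqNorm (y + t) = 32
    omega
  · show sqNorm t = 32
    omega
  · show dotInt (y + t) t = 0
    omega

/-- The automorphisms preserve the coordinate dot product. -/
theorem dot_smul (g : ↥Co0) (a b : Lam) :
    dotInt ((g • a : Lam) : GolayPt → ℤ) ((g • b : Lam) : GolayPt → ℤ) =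
      dotInt (a : GolayPt → ℤ) (b : GolayPt → ℤ) := by
  have h1 := sqNorm_add' ((g • a : Lam) : GolayPt → ℤ) ((g • b : Lam) : GolayPt → ℤ)
  have h2 := sqNorm_add' (a : GolayPt → ℤ) (b : GolayPt → ℤ)
  have h3 : sqNorm (((g • a : Lam) : GolayPt → ℤ) + ((g • b : Lam) : GolayPt → ℤ)) =
      sqNorm ((a : GolayPt → ℤ) + (b : GolayPt → ℤ)) := by
    have := sqNorm_smul g (a + b)
    rw [smul_add'] at this
    exact this
  rw [h3, sqNorm_smul, sqNorm_smul] at h1
  omega

theorem result (v w : ↥Cfsg.leechLattice) (hv : Cfsg.sqNorm (v : Cfsg.GolayPt → ℤ) = 64) (hw : Cfsg.sqNorm (w : Cfsg.GolayPt → ℤ) = 64) :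
    ∃ g : ↥Cfsg.Co0, ∃ z ∈ Cfsg.leechLattice, ((g • v : ↥Cfsg.leechLattice) : Cfsg.GolayPt → ℤ) - (w : Cfsg.GolayPt → ℤ) = 2 • z := by
  obtain ⟨a, b, ha, hb, hab, rfl⟩ := split v hv
  obtain ⟨a', b', ha', hb', hab', rfl⟩ := split w hw
  obtain ⟨g₁, hg₁⟩ := Cfsg.Agent.S0400.result a a' ha ha'
  have hb1 : sqNorm ((g₁ • b : Lam) : GolayPt → ℤ) = 32 := by rw [sqNorm_smul]; exact hb
  have hd1 : dotInt (a' : GolayPt → ℤ) ((g₁ • b : Lam) : GolayPt → ℤ) = 0 := by
    rw [← hg₁, dot_smul]; exact hab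
  obtain ⟨g₂, hg₂, hcase⟩ := Cfsg.Agent.S1576.result a' (g₁ • b) b' ha' hb1 hb' hd1 hab'
  have hg : (g₂ * g₁) • (a + b) = a' + g₂ • (g₁ • b) := by
    rw [mul_smul, smul_add', smul_add', hg₁, hg₂]
  refine ⟨g₂ * g₁, ?_⟩
  rcases hcase with h | h
  · refine ⟨0, leechLattice.zero_mem, ?_⟩
    rw [hg, h, sub_self, smul_zero]
  · refine ⟨-(b' : GolayPt → ℤ), leechLattice.neg_mem b'.2, ?_⟩
    rw [hg, h]
    show (a' : GolayPt → ℤ) + -(b' : GolayPt → ℤ) - ((a' : GolayPt → ℤ) + (b' : GolayPt → ℤ)) =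
      2 • -(b' : GolayPt → ℤ)
    rw [two_smul]; abel

end Cfsg.Agent.S5593
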