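import Cfsg.Statements.S0398
import Cfsg.Agent.Lib.Helper92_Monomial
import Cfsg.Agent.S5548
import Cfsg.Agent.S5546

set_option autoImplicit false
open Cfsg
open scoped Pointwise

namespace Cfsg.Agent.S0398

open Cfsg.Agent.Lib.Helper7_M24 Cfsg.Agent.Lib.Helper92_Monomial
open Cfsg.Agent.S5546 (vec8 e8 eight_smul_eq eight_smul_map addHom addHom_apply Lam)

/-! ### separating code words -/

theorem sep (i j : GolayPt) (hij : i ≠ j) : ∃ u ∈ golayCode, u j = 1 ∧ u i = 0 := by
  obtain ⟨σ, hσ, h1, h2⟩ := S5548.two_trans (some 0) none j i (by decide) (fun h => hij h.symm)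
  refine ⟨permWord σ (qrWord 0), permWord_mem_of_mem_M24 hσ (qrWord_mem 0), ?_, ?_⟩
  · rw [permWord_apply, ← h1, Equiv.symm_apply_apply]
    decide
  · rw [permWord_apply, ← h2, Equiv.symm_apply_apply]
    decide

/-! ### the special elements on the vectors `8 e_i` -/

theorem vec8_apply (i k : GolayPt) : vec8 i k = if k = i then 8 else 0 := rfl

/-- A sign change at a code word not containing `i` fixes `8 e_i`. -/
theorem flip_e8 (u : GolayPt → ZMod 2) (hu : u ∈ golayCode) (i : GolayPt) (hi : u i = 0) :
    monoPerm 1 (M24.one_mem) u hu (e8 i) = e8 i := by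
  apply Subtype.ext
  rw [monoPerm_apply]
  funext k
  show signedPerm 1 (support₂ u) (vec8 i) k = vec8 i k
  unfold signedPerm
  by_cases hk : k ∈ support₂ u
  · rw [if_pos hk]
    have hki : k ≠ i := by
      intro h
      rw [h, mem_support₂, hi] at hk
      exact absurd hk (by decide)
    have : (1 : Equiv.Perm GolayPt).symm k = k := rfl
    rw [this, vec8_apply, if_neg hki, neg_zero]
  · rw [if_neg hk]
    rfl

/-- A coordinate permutation maps `8 e_i` to `8 e_{σ i}`. -/
theorem perm_e8 (σ : Equiv.Perm GolayPt) (hσ : σ ∈ M24) (i : GolayPt) :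
    monoPerm σ hσ 0 golayCode.zero_mem (e8 i) = e8 (σ i) := by
  apply Subtype.ext
  rw [monoPerm_apply]
  funext k
  show signedPerm σ (support₂ 0) (vec8 i) k = vec8 (σ i) k
  unfold signedPerm
  have hk : k ∉ support₂ (0 : GolayPt → ZMod 2) := by
    rw [mem_support₂]; simp
  rw [if_neg hk, vec8_apply, vec8_apply]
  by_cases h : k = σ i
  · rw [if_pos h, if_pos]
    rw [h, Equiv.symm_apply_apply]
  · rw [if_neg h, if_neg]
    intro h2
    apply h
    rw [← h2, Equiv.apply_symm_apply]

/-! ### central elements -/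

/-- `z` commutes with every element of `Co0`. -/
def Central (z : Equiv.Perm Lam) : Prop := ∀ g ∈ Co0, ∀ v : Lam, z (g v) = g (z v)

theorem map_neg_of_mem (g : Equiv.Perm Lam) (hg : g ∈ Co0) (v : Lam) : g (-v) = -g v := by
  have := map_neg (addHom g hg) v
  simpa [addHom_apply] using this

theorem map_zsmul_of_mem (g : Equiv.Perm Lam) (hg : g ∈ Co0) (n : ℤ) (v : Lam) :
    g (n • v) = n • g v := by
  have := map_zsmul (addHom g hg) n v
  simpa [addHom_apply] using this

theorem sqNorm_vec8 (i : GolayPt) : sqNorm (vec8 i) = 64 := by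
  unfold sqNorm
  rw [Finset.sum_eq_single i]
  · rw [vec8_apply, if_pos rfl]; norm_num
  · intro k _ hk
    rw [vec8_apply, if_neg hk]; norm_num
  · intro h; exact absurd (Finset.mem_univ i) h

/-- A central element maps `8 e_i` to `± 8 e_i`. -/
theorem central_e8 (z : Equiv.Perm Lam) (hz : z ∈ Co0) (hc : Central z) (i : GolayPt) :
    z (e8 i) = e8 i ∨ z (e8 i) = -e8 i := by
  have hoff : ∀ j, j ≠ i → (z (e8 i)).1 j = 0 := by
    intro j hj
    obtain ⟨u, hu, huj, hui⟩ := sep i j (fun h => hj h.symm)
    have h1 := hc _ (monoPerm_mem_Co0 1 M24.one_mem u hu) (e8 i)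
    rw [flip_e8 u hu i hui] at h1
    have h2 := congrArg (fun w : Lam => w.1 j) h1
    simp only [monoPerm_apply] at h2
    have hj' : j ∈ support₂ u := (mem_support₂ u j).mpr huj
    have h3 : signedPerm 1 (support₂ u) (z (e8 i)).1 j = -(z (e8 i)).1 j := by
      unfold signedPerm
      rw [if_pos hj']
      rfl
    rw [h3] at h2
    omega
  have hn : sqNorm (z (e8 i)).1 = 64 := by
    rw [hz.2, ← sqNorm_vec8 i]; rfl
  have hsq : (z (e8 i)).1 i ^ 2 = 64 := by
    unfold sqNorm at hn
    rw [Finset.sum_eq_single i] at hn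
    · exact hn
    · intro k _ hk
      rw [hoff k hk]; norm_num
    · intro h; exact absurd (Finset.mem_univ i) h
  have hi : (z (e8 i)).1 i = 8 ∨ (z (e8 i)).1 i = -8 := by
    have h1 : ((z (e8 i)).1 i - 8) * ((z (e8 i)).1 i + 8) = 0 := by ring_nf; omega
    rcases mul_eq_zero.mp h1 with h | h
    · left; omega
    · right; omega
  rcases hi with hi | hi
  · left
    apply Subtype.ext
    funext k
    by_cases hk : k = i
    · rw [hk, hi]; show (8 : ℤ) = vec8 i i; rw [vec8_apply, if_pos rfl]
    · rw [hoff k hk]; show (0 : ℤ) = vec8 i k; rw [vec8_apply, if_neg hk]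
  · right
    apply Subtype.ext
    funext k
    show (z (e8 i)).1 k = -(vec8 i k)
    by_cases hk : k = i
    · rw [hk, hi, vec8_apply, if_pos rfl]
    · rw [hoff k hk, vec8_apply, if_neg hk, neg_zero]

theorem e8_ne_neg (i : GolayPt) : e8 i ≠ -e8 i := by
  intro h
  have := congrArg (fun w : Lam => w.1 i) h
  simp only [AddSubgroup.coe_neg, Pi.neg_apply] at this
  have h2 : (e8 i).1 i = 8 := by show vec8 i i = 8; rw [vec8_apply, if_pos rfl]
  rw [h2] at this
  omega

/-- The sign is the same at all points. -/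
theorem central_sign (z : Equiv.Perm Lam) (hz : z ∈ Co0) (hc : Central z) :
    (∀ i, z (e8 i) = e8 i) ∨ (∀ i, z (e8 i) = -e8 i) := by
  have key : ∀ i i', z (e8 i) = e8 i → z (e8 i') = e8 i' := by
    intro i i' h
    obtain ⟨σ, hσ, hσi⟩ := S5548.one_trans i i'
    have h1 := hc _ (monoPerm_mem_Co0 σ hσ 0 golayCode.zero_mem) (e8 i)
    rw [perm_e8, h, perm_e8, hσi] at h1
    exact h1
  have key' : ∀ i i', z (e8 i) = -e8 i → z (e8 i') = -e8 i' := by
    intro i i' h
    obtain ⟨σ, hσ, hσi⟩ := S5548.one_trans i i'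
    have h1 := hc _ (monoPerm_mem_Co0 σ hσ 0 golayCode.zero_mem) (e8 i)
    rw [perm_e8, h, map_neg_of_mem _ (monoPerm_mem_Co0 σ hσ 0 golayCode.zero_mem), perm_e8,
      hσi] at h1
    exact h1
  rcases central_e8 z hz hc none with h | h
  · left; intro i; exact key none i h
  · right; intro i; exact key' none i h

theorem eq_of_eight_smul (v w : Lam) (h : (8 : ℤ) • v = (8 : ℤ) • w) : v = w := by
  apply Subtype.ext
  funext k
  have h3 := congrArg (fun u : Lam => u.1 k) h
  simp only [AddSubgroup.coe_zsmul, Pi.smul_apply, smul_eq_mul] at h3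
  omega

/-- A central element is the identity or the negation. -/
theorem central_cases (z : Equiv.Perm Lam) (hz : z ∈ Co0) (hc : Central z) :
    (∀ v, z v = v) ∨ (∀ v, z v = -v) := by
  rcases central_sign z hz hc with h | h
  · left
    intro v
    apply eq_of_eight_smul
    rw [eight_smul_map z hz v, eight_smul_eq v]
    apply Finset.sum_congr rfl
    intro i _
    rw [h i]
  · right
    intro v
    apply eq_of_eight_smul
    rw [eight_smul_map z hz v, smul_neg, eight_smul_eq v, ← Finset.sum_neg_distrib]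
    apply Finset.sum_congr rfl
    intro i _
    rw [h i, smul_neg]

/-! ### the negation -/

/-- Negation of lattice vectors. -/
def negPerm : Equiv.Perm Lam := Equiv.neg Lam

theorem negPerm_apply (v : Lam) : negPerm v = -v := rfl

theorem negPerm_mem : negPerm ∈ Co0 := by
  constructor
  · intro v w
    rw [negPerm_apply, negPerm_apply, negPerm_apply, neg_add]
  · intro v
    rw [negPerm_apply]
    unfold sqNorm
    apply Finset.sum_congr rfl
    intro i _
    simp only [AddSubgroup.coe_neg, Pi.neg_apply]
    ring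

/-- Negation as an element of the group. -/
def negElt : ↥Co0 := ⟨negPerm, negPerm_mem⟩

theorem negElt_ne_one : negElt ≠ 1 := by
  intro h
  have h1 : negPerm = 1 := congrArg Subtype.val h
  have h2 := congrArg (fun g : Equiv.Perm Lam => g (e8 none)) h1
  simp only [negPerm_apply, Equiv.Perm.one_apply] at h2
  exact e8_ne_neg none h2.symm

theorem negElt_mem_center : negElt ∈ Subgroup.center ↥Co0 := by
  rw [Subgroup.mem_center_iff]
  intro g
  apply Subtype.ext
  apply Equiv.ext
  intro v
  show g.1 (negPerm v) = negPerm (g.1 v)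
  rw [negPerm_apply, negPerm_apply, map_neg_of_mem g.1 g.2]

theorem center_cases (z : ↥Co0) (hz : z ∈ Subgroup.center ↥Co0) : z = 1 ∨ z = negElt := by
  have hc : Central z.1 := by
    intro g hg v
    have := (Subgroup.mem_center_iff.mp hz) ⟨g, hg⟩
    have h1 := congrArg (fun w : ↥Co0 => w.1 v) this
    exact h1.symm
  rcases central_cases z.1 z.2 hc with h | h
  · left
    apply Subtype.ext
    apply Equiv.ext
    intro v
    exact h v
  · right
    apply Subtype.ext
    apply Equiv.ext
    intro v
    exact h v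

/-- The centre of the lattice's automorphism group has order 2. -/
theorem result : Nat.card (Subgroup.center Cfsg.Co0) = 2 := by
  rw [Nat.card_eq_two_iff]
  refine ⟨⟨1, Subgroup.one_mem _⟩, ⟨negElt, negElt_mem_center⟩, ?_, ?_⟩
  · intro h
    exact negElt_ne_one (congrArg Subtype.val h).symm
  · ext z
    simp only [Set.mem_insert_iff, Set.mem_singleton_iff, Set.mem_univ, iff_true]
    rcases center_cases z.1 z.2 with h | h
    · left; exact Subtype.ext h
    · right; exact Subtype.ext h

end Cfsg.Agent.S0398
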