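import Cfsg.Statements.S0402
import Cfsg.Agent.Lib.Helper92_Co2Simple

/-!
The stabiliser of a minimal vector of the rank-24 lattice in its automorphism group is simple of
order `42305421312000`.

By transitivity on the minimal vectors (`S0400`) it is enough to treat `v0 = 4 e_4 - 4 e_13`.
The order is the order of the whole group (`S0397`) divided by the number `196560` of minimal
vectors.  Simplicity: the monomial subgroup `N2 = 2^10 : M22 : 2` of the stabiliser `T0` is
maximal (Lagrange arithmetic on the five classes of minimal vectors orthogonal to `v0`, as for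
`S1572`) and contains no nontrivial normal subgroup of `T0`; conjugating sign changes by the
non-monomial automorphism `ξ` of helper7 shows that the normal closure of the sign changes
contains `N2`, hence is `T0`; the module `2^10` has no trivial quotient; and `M22` is simple
(`S0379`).  Then the variant `Helper92_Co2Iwasawa.normal_eq_top` of Iwasawa's criterion applies.
-/

set_option autoImplicit false
open Cfsg

namespace Cfsg.Agent.S0402

open Cfsg.Agent.Lib.Helper92_MaxN Cfsg.Agent.Lib.Helper92_Co2
open Cfsg.Agent.Lib.Helper26_Leech (v0_norm)
open Cfsg.Agent.Lib.Helper26_Co2 (v0L)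

/-- Stabiliser of a minimal vector is simple of order 42305421312000. -/
theorem result (v : Cfsg.leechLattice) (hv : Cfsg.sqNorm (v : Cfsg.GolayPt → ℤ) = 32) : Cfsg.IsCo2 (MulAction.stabilizer Cfsg.Co0 v) := by
  obtain ⟨g, hg⟩ := Cfsg.Agent.S0400.result v0L v v0_norm hv
  have e : ↥T0 ≃* ↥(MulAction.stabilizer ↥Co0 v) :=
    MulAction.stabilizerEquivStabilizer (G := ↥Co0) (g := g) hg.symm
  haveI := T0_simple
  exact ⟨e.symm.isSimpleGroup, by rw [← Nat.card_congr e.toEquiv]; exact T0_card⟩

end Cfsg.Agent.S0402
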