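import Cfsg.Statements.S1571
import Cfsg.Agent.Lib.Helper92_Monomial
import Cfsg.Agent.Lib.Helper27_GolayLike
import Cfsg.Agent.S0364
import Cfsg.Agent.S5546

set_option autoImplicit false
open scoped Pointwise
open Cfsg

namespace Cfsg.Agent.S1571

open Cfsg.Agent.Lib.Helper7_M24 Cfsg.Agent.Lib.Helper7_Leech Cfsg.Agent.Lib.Helper92_Monomial
open Cfsg.Agent.S5546 (vec8 e8 eight_smul_eq eight_smul_map addHom addHom_apply Lam)

/-! ### elements preserving the standard cross are signed permutations -/

theorem vec8_apply (i k : GolayPt) : vec8 i k = if k = i then 8 else 0 := rfl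

theorem vec8_eq_single (i : GolayPt) : vec8 i = Pi.single i 8 := by
  funext k
  rw [vec8_apply, Pi.single_apply]

theorem vec8_mem_stdCross (i : GolayPt) : (e8 i).1 ∈ stdCross :=
  ⟨i, 8, Or.inl rfl, vec8_eq_single i⟩

theorem map_neg_of_mem (g : Equiv.Perm Lam) (hg : g ∈ Co0) (v : Lam) : g (-v) = -g v := by
  have := map_neg (addHom g hg) v
  simpa [addHom_apply] using this

theorem exists_signedPerm (g : Equiv.Perm Lam) (hg : g ∈ Co0)
    (hP : ∀ v : Lam, v.1 ∈ stdCross → (g v).1 ∈ stdCross) :
    ∃ σ : Equiv.Perm GolayPt, ∃ c : Finset GolayPt, ∀ v : Lam, (g v).1 = signedPerm σ c v.1 := by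
  have h : ∀ i, ∃ (j : GolayPt) (s : ℤ), (s = 8 ∨ s = -8) ∧ (g (e8 i)).1 = Pi.single j s :=
    fun i => hP (e8 i) (vec8_mem_stdCross i)
  choose τ s hs hτ using h
  -- `τ` is injective
  have hinj : Function.Injective τ := by
    intro i i' hii
    by_contra hne
    have h1 := hτ i
    have h2 := hτ i'
    rw [← hii] at h2
    have hcase : s i' = s i ∨ s i' = -s i := by
      rcases hs i with h | h <;> rcases hs i' with h' | h' <;> rw [h, h'] <;> norm_num
    rcases hcase with hc | hc
    · have : g (e8 i) = g (e8 i') := by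
        apply Subtype.ext; rw [h1, h2, hc]
      have h3 := g.injective this
      have h4 := congrArg (fun w : Lam => w.1 i) h3
      have e1 : (e8 i).1 i = 8 := by show vec8 i i = 8; rw [vec8_apply, if_pos rfl]
      have e2 : (e8 i').1 i = 0 := by show vec8 i' i = 0; rw [vec8_apply, if_neg hne]
      simp only [e1, e2] at h4
      omega
    · have : g (e8 i') = g (-e8 i) := by
        rw [map_neg_of_mem g hg]
        apply Subtype.ext
        rw [AddSubgroup.coe_neg, h1, h2, hc]
        funext k
        simp only [Pi.single_apply, Pi.neg_apply]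
        split_ifs <;> simp
      have h3 := g.injective this
      have h4 := congrArg (fun w : Lam => w.1 i) h3
      have e1 : (e8 i).1 i = 8 := by show vec8 i i = 8; rw [vec8_apply, if_pos rfl]
      have e2 : (e8 i').1 i = 0 := by show vec8 i' i = 0; rw [vec8_apply, if_neg hne]
      simp only [AddSubgroup.coe_neg, Pi.neg_apply, e1, e2] at h4
      omega
  let σ : Equiv.Perm GolayPt := Equiv.ofBijective τ (Finite.injective_iff_bijective.mp hinj)
  have hσ : ∀ i, σ i = τ i := fun i => rfl
  refine ⟨σ, Finset.univ.filter (fun j => s (σ.symm j) = -8), fun v => ?_⟩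
  funext j
  have h8 := congrArg (fun w : Lam => w.1 j) (eight_smul_map g hg v)
  simp only [AddSubgroup.coe_zsmul, AddSubgroup.val_finsetSum, Pi.smul_apply, smul_eq_mul,
    Finset.sum_apply] at h8
  have hsum : ∑ i, v.1 i * (g (e8 i)).1 j = v.1 (σ.symm j) * s (σ.symm j) := by
    rw [Finset.sum_eq_single (σ.symm j)]
    · rw [hτ (σ.symm j), Pi.single_apply, if_pos]
      rw [← hσ, Equiv.apply_symm_apply]
    · intro i _ hi
      rw [hτ i, Pi.single_apply, if_neg, mul_zero]
      intro hj
      apply hi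
      rw [hj, ← hσ, Equiv.symm_apply_apply]
    · intro h; exact absurd (Finset.mem_univ _) h
  rw [hsum] at h8
  unfold signedPerm
  by_cases hc : s (σ.symm j) = -8
  · have hjc : j ∈ Finset.univ.filter (fun j => s (σ.symm j) = -8) := by
      rw [Finset.mem_filter]; exact ⟨Finset.mem_univ _, hc⟩
    rw [if_pos hjc]
    rw [hc] at h8
    omega
  · have hjc : j ∉ Finset.univ.filter (fun j => s (σ.symm j) = -8) := by
      rw [Finset.mem_filter]; exact fun h => hc h.2
    rw [if_neg hjc]
    have : s (σ.symm j) = 8 := by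
      rcases hs (σ.symm j) with h | h
      · exact h
      · exact absurd h hc
    rw [this] at h8
    omega

/-! ### a signed permutation preserving the lattice is monomial for the code -/

theorem sigma_mem (σ : Equiv.Perm GolayPt) (c : Finset GolayPt)
    (h : ∀ x : GolayPt → ℤ, x ∈ leechSet → signedPerm σ c x ∈ leechSet) :
    σ ∈ M24 ∧ c ∈ supports (golayCode : Set (GolayPt → ZMod 2)) := by
  constructor
  · apply mem_M24_of_forall
    intro u hu
    have h1 := h _ (twoInd_mem u hu)
    rw [mem_leechSet_iff] at h1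
    obtain ⟨m, _, _, h3⟩ := h1
    have h2 := h3 2
    have : indWord (fun i => signedPerm σ c (twoInd u) i ≡ 2 [ZMOD 4]) = permWord σ u := by
      funext i
      rw [permWord_apply]
      unfold indWord
      rcases zmod2_cases (u (σ.symm i)) with hu0 | hu1
      · rw [hu0, if_neg]
        show ¬ signedPerm σ c (twoInd u) i ≡ 2 [ZMOD 4]
        unfold signedPerm
        rw [twoInd_of_zero hu0]
        split_ifs <;> decide
      · rw [hu1, if_pos]
        show signedPerm σ c (twoInd u) i ≡ 2 [ZMOD 4]
        unfold signedPerm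
        rw [twoInd_of_one hu1]
        split_ifs <;> decide
    rw [this] at h2
    exact h2
  · have h1 := h _ Spor.vecV_mem_leechSet
    rw [mem_leechSet_iff] at h1
    obtain ⟨m, _, _, h3⟩ := h1
    have h2 := h3 1
    rw [← filter_mem_supports_iff] at h2
    have : Finset.univ.filter (fun i => signedPerm σ c Spor.vecV i ≡ 1 [ZMOD 4]) = c := by
      ext i
      rw [Finset.mem_filter]
      simp only [Finset.mem_univ, true_and]
      unfold signedPerm Spor.vecV
      by_cases hi : i ∈ c
      · rw [if_pos hi]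
        constructor
        · intro _; exact hi
        · intro _
          split_ifs <;> decide
      · rw [if_neg hi]
        constructor
        · intro hmod
          exfalso
          split_ifs at hmod <;> revert hmod <;> decide
        · intro h; exact absurd h hi
    rw [this] at h2
    exact h2

/-- Elements of the group preserving the standard cross. -/
def P (g : ↥Co0) : Prop :=
  ∀ v : ↥leechLattice, (v : GolayPt → ℤ) ∈ stdCross → ((g • v : ↥leechLattice) : GolayPt → ℤ) ∈ stdCross

theorem smul_def' (g : ↥Co0) (v : Lam) : g • v = g.1 v := rfl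

theorem part1 (g : ↥Co0) (hg : P g) :
    ∃ σ ∈ M24, ∃ u ∈ golayCode, ∀ v : Lam, (g.1 v).1 = signedPerm σ (support₂ u) v.1 := by
  obtain ⟨σ, c, hσc⟩ := exists_signedPerm g.1 g.2 hg
  have hmem : ∀ x : GolayPt → ℤ, x ∈ leechSet → signedPerm σ c x ∈ leechSet := by
    intro x hx
    have hxL : x ∈ leechLattice := (mem_leechLattice_iff x).mpr hx
    have := hσc ⟨x, hxL⟩
    rw [← this, ← mem_leechLattice_iff]
    exact (g.1 ⟨x, hxL⟩).2
  obtain ⟨hσ, u, hu, huc⟩ := sigma_mem σ c hmem
  refine ⟨σ, hσ, u, hu, fun v => ?_⟩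
  rw [huc]
  exact hσc v

/-! ### counting -/

theorem signedPerm_single (σ : Equiv.Perm GolayPt) (c : Finset GolayPt) (i : GolayPt) (s : ℤ) :
    signedPerm σ c (Pi.single i s) = Pi.single (σ i) (if σ i ∈ c then -s else s) := by
  funext k
  unfold signedPerm
  by_cases hk : k = σ i
  · rw [hk, Equiv.symm_apply_apply, Pi.single_eq_same, Pi.single_eq_same]
  · have h1 : σ.symm k ≠ i := by
      intro h; apply hk; rw [← h, Equiv.apply_symm_apply]
    rw [Pi.single_eq_of_ne h1, Pi.single_eq_of_ne hk]
    split_ifs <;> simp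

/-- The monomial elements, as elements of the stabilizer of the standard cross. -/
def Φ (p : ↥M24 × ↥golayCode) : {g : ↥Co0 // P g} :=
  ⟨⟨monoPerm p.1.1 p.1.2 p.2.1 p.2.2, monoPerm_mem_Co0 p.1.1 p.1.2 p.2.1 p.2.2⟩, by
    intro v hv
    obtain ⟨i, s, hs, hvs⟩ := hv
    show ((monoPerm p.1.1 p.1.2 p.2.1 p.2.2 v : leechLattice) : GolayPt → ℤ) ∈ stdCross
    rw [monoPerm_apply, hvs, signedPerm_single]
    refine ⟨p.1.1 i, _, ?_, rfl⟩
    split_ifs <;> rcases hs with h | h <;> rw [h] <;> norm_num⟩

theorem Φ_apply (p : ↥M24 × ↥golayCode) (v : Lam) :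
    (((Φ p).1.1 v : Lam) : GolayPt → ℤ) = signedPerm p.1.1 (support₂ p.2.1) v.1 := rfl

theorem Φ_injective : Function.Injective Φ := by
  intro p q hpq
  have hv : ∀ v : Lam, signedPerm p.1.1 (support₂ p.2.1) v.1 = signedPerm q.1.1 (support₂ q.2.1) v.1 := by
    intro v
    rw [← Φ_apply, ← Φ_apply, hpq]
  have hσ : ∀ i, p.1.1 i = q.1.1 i := by
    intro i
    have h1 := hv (e8 i)
    have e : (e8 i).1 = Pi.single i 8 := vec8_eq_single i
    rw [e, signedPerm_single, signedPerm_single] at h1
    by_contra hne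
    have h2 := congrFun h1 (p.1.1 i)
    rw [Pi.single_eq_same, Pi.single_eq_of_ne hne] at h2
    split_ifs at h2 <;> omega
  have hσ' : p.1 = q.1 := Subtype.ext (Equiv.ext hσ)
  have hu : p.2 = q.2 := by
    apply Subtype.ext
    apply support₂_injective
    ext j
    have h1 := hv (e8 (p.1.1.symm j))
    have e : (e8 (p.1.1.symm j)).1 = Pi.single (p.1.1.symm j) 8 := vec8_eq_single _
    rw [e, signedPerm_single, signedPerm_single, ← hσ, Equiv.apply_symm_apply] at h1
    have h2 := congrFun h1 j
    rw [Pi.single_eq_same, Pi.single_eq_same] at h2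
    constructor
    · intro hj
      rw [if_pos hj] at h2
      by_contra hj'
      rw [if_neg hj'] at h2
      omega
    · intro hj
      rw [if_pos hj] at h2
      by_contra hj'
      rw [if_neg hj'] at h2
      omega
  exact Prod.ext hσ' hu

theorem Φ_surjective : Function.Surjective Φ := by
  intro g
  obtain ⟨σ, hσ, u, hu, h⟩ := part1 g.1 g.2
  refine ⟨(⟨σ, hσ⟩, ⟨u, hu⟩), ?_⟩
  apply Subtype.ext
  apply Subtype.ext
  apply Equiv.ext
  intro v
  apply Subtype.ext
  rw [Φ_apply]
  exact (h v).symm

theorem card_stab : Nat.card {g : ↥Co0 // P g} = 4096 * 244823040 := by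
  rw [← Nat.card_congr (Equiv.ofBijective Φ ⟨Φ_injective, Φ_surjective⟩), Nat.card_prod,
    Cfsg.Agent.S0364.result, Cfsg.Agent.Lib.Helper27_GolayLike.card_golayCode, mul_comm]

/-- The stabiliser of the standard cross in the automorphism group of the lattice is the monomial group of the code: each of its elements acts as a signed permutation with permutation part in the code's group and sign set a codeword, and it has order 4096 · 244823040. -/
theorem result : (∀ g : ↥Cfsg.Co0, (∀ v : ↥Cfsg.leechLattice, (v : Cfsg.GolayPt → ℤ) ∈ Cfsg.stdCross → ((g • v : ↥Cfsg.leechLattice) : Cfsg.GolayPt → ℤ) ∈ Cfsg.stdCross) → ∃ f ∈ Cfsg.golayMonomialMaps, ∀ v : ↥Cfsg.leechLattice, ((g • v : ↥Cfsg.leechLattice) : Cfsg.GolayPt → ℤ) = f (v : Cfsg.GolayPt → ℤ)) ∧ Nat.card {g : ↥Cfsg.Co0 // (∀ v : ↥Cfsg.leechLattice, (v : Cfsg.GolayPt → ℤ) ∈ Cfsg.stdCross → ((g • v : ↥Cfsg.leechLattice) : Cfsg.GolayPt → ℤ) ∈ Cfsg.stdCross)} = 4096 * 244823040 := by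
  refine ⟨fun g hg => ?_, card_stab⟩
  obtain ⟨σ, hσ, u, hu, h⟩ := part1 g hg
  exact ⟨signedPerm σ (support₂ u), ⟨σ, hσ, support₂ u, ⟨u, hu, rfl⟩, rfl⟩, h⟩

end Cfsg.Agent.S1571
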