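import Cfsg.Statements.S0377
import Cfsg.Agent.S0376
import Cfsg.Agent.Lib.Helper7_Simple

set_option autoImplicit false
open Cfsg

namespace Cfsg.Agent.S0377

open MulAction Cfsg.Agent.Lib.Helper7_Simple

/-- The stabiliser of a point acts faithfully on the other points. -/
instance faithful_ofStabilizer (p : GolayPt) :
    FaithfulSMul (stabilizer M24 p) (SubMulAction.ofStabilizer M24 p) where
  eq_of_smul_eq_smul := by
    intro g h hgh
    apply Subtype.ext
    apply Subtype.ext
    apply Equiv.ext
    intro x
    by_cases hx : x = p
    · rw [hx]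
      have hg : (g : M24) • p = p := g.2
      have hh : (h : M24) • p = p := h.2
      exact hg.trans hh.symm
    · have := hgh ⟨x, hx⟩
      exact congrArg Subtype.val this

theorem card_golayPt : Nat.card GolayPt = 24 := by
  rw [Nat.card_eq_fintype_card]; decide

theorem fact23 : Fact (Nat.Prime 23) := ⟨by norm_num⟩

attribute [local instance] fact23

theorem arith (k n : ℕ) (hk : k ∣ 23 - 1) (h : n * (23 * k) = 23 * 443520) (hn : n % 23 = 1) :
    k = 11 := by
  have hk22 : k ≤ 22 := Nat.le_of_dvd (by norm_num) hk
  have hk0 : 0 < k := Nat.pos_of_dvd_of_pos hk (by norm_num)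
  interval_cases k <;> omega

/-- A point stabiliser in the group of the length-24 code is simple. -/
theorem result (p : Cfsg.GolayPt) : IsSimpleGroup (MulAction.stabilizer Cfsg.M24 p) := by
  have h5 := Cfsg.Agent.S0366.result
  have h2 : IsMultiplyPretransitive M24 GolayPt 2 :=
    isMultiplyPretransitive_of_le (n := 5) (by norm_num) (by rw [card_golayPt]; norm_num)
  haveI : IsPretransitive M24 GolayPt := isPretransitive_of_is_two_pretransitive
  have h1 : IsMultiplyPretransitive (stabilizer M24 p) (SubMulAction.ofStabilizer M24 p) 1 :=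
    SubMulAction.ofStabilizer.isMultiplyPretransitive.mp h2
  haveI : IsPretransitive (stabilizer M24 p) (SubMulAction.ofStabilizer M24 p) :=
    is_one_pretransitive_iff.mp h1
  have hα : Nat.card (SubMulAction.ofStabilizer M24 p) = 23 := by
    rw [SubMulAction.nat_card_ofStabilizer_eq, card_golayPt]
  have hG : Nat.card (stabilizer M24 p) = 23 * 443520 := by
    rw [Cfsg.Agent.S0376.result]
  exact isSimpleGroup_of_prime_degree (α := SubMulAction.ofStabilizer M24 p) (p := 23)
    (t := 443520) (q := 11) (by norm_num) hG (by norm_num) (by norm_num) hα arith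

end Cfsg.Agent.S0377
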