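import Cfsg.Statements.S0365
import Cfsg.Agent.S0377

set_option autoImplicit false
open Cfsg

namespace Cfsg.Agent.S0365

open MulAction Cfsg.Agent.Lib.Helper7_Simple

/-- The permutation group preserving the length-24 code is simple. -/
theorem result : IsSimpleGroup Cfsg.M24 := by
  have h5 := Cfsg.Agent.S0366.result
  haveI h2 : IsMultiplyPretransitive M24 GolayPt 2 :=
    isMultiplyPretransitive_of_le (n := 5) (by norm_num)
      (by rw [Cfsg.Agent.S0377.card_golayPt]; norm_num)
  exact isSimpleGroup_of_two_pretransitive (G := M24) (α := GolayPt) none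
    (Cfsg.Agent.S0377.result none) (r := 2) (s := 3) (by norm_num) (by norm_num) (by norm_num)
    (by rw [Cfsg.Agent.S0377.card_golayPt]; norm_num)
    (by rw [Cfsg.Agent.S0377.card_golayPt]; norm_num)

end Cfsg.Agent.S0365
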