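import Cfsg.Statements.S5553
import Cfsg.Agent.S0358
import Cfsg.Agent.Lib.Helper7_Leech
import Cfsg.Agent.Lib.Helper8_GolayEven
import Cfsg.Prelude.Def_Spor_Conway

set_option autoImplicit false
open Cfsg

namespace Cfsg.Agent.S5553

open Cfsg.Agent.Lib.Helper7_Leech Cfsg.Agent.Lib.Helper7_M24 Cfsg.Agent.Lib.Helper8_GolayEven

theorem two_zmod2 : (2 : ZMod 2) = 0 := by decide

/-- The second binary digit of an integer, as an element of `ZMod 2`. -/
theorem cast_half (a : ℤ) :
    ((a / 2 : ℤ) : ZMod 2) = if a % 4 = 2 ∨ a % 4 = 3 then 1 else 0 := by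
  have h4 : a % 4 = 0 ∨ a % 4 = 1 ∨ a % 4 = 2 ∨ a % 4 = 3 := by omega
  have h : a / 2 = 2 * (a / 4) + (a % 4) / 2 := by omega
  rw [h]
  push_cast
  rw [two_zmod2, zero_mul, zero_add]
  rcases h4 with h | h | h | h <;> rw [h] <;> simp

/-- The word of second binary digits. -/
def bit1Word (x : GolayPt → ℤ) : GolayPt → ZMod 2 := fun i => ((x i / 2 : ℤ) : ZMod 2)

theorem bit1Word_mem {x : GolayPt → ℤ} (hx : x ∈ leechSet) : bit1Word x ∈ golayCode := by
  rw [mem_leechSet_iff] at hx
  obtain ⟨m, -, -, h3⟩ := hx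
  have : bit1Word x = indWord (fun i => x i ≡ 2 [ZMOD 4]) + indWord (fun i => x i ≡ 3 [ZMOD 4]) := by
    funext i
    simp only [bit1Word, indWord, Pi.add_apply, cast_half, Int.ModEq]
    have h4 : x i % 4 = 0 ∨ x i % 4 = 1 ∨ x i % 4 = 2 ∨ x i % 4 = 3 := by omega
    rcases h4 with h | h | h | h <;> simp [h]
  rw [this]
  exact golayCode.add_mem (h3 2) (h3 3)

theorem bit1Word_add (x y : GolayPt → ℤ) (m m' : ℤ) (hx : ∀ i, x i ≡ m [ZMOD 2])
    (hy : ∀ i, y i ≡ m' [ZMOD 2]) :
    bit1Word (x + y) = bit1Word x + bit1Word y +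
      (if m % 2 = 1 ∧ m' % 2 = 1 then (1 : GolayPt → ZMod 2) else 0) := by
  funext i
  have h1 := hx i
  have h2 := hy i
  unfold Int.ModEq at h1 h2
  simp only [bit1Word, Pi.add_apply]
  by_cases hc : m % 2 = 1 ∧ m' % 2 = 1
  · rw [if_pos hc]
    have : (x i + y i) / 2 = x i / 2 + y i / 2 + 1 := by omega
    rw [this]; push_cast; rfl
  · rw [if_neg hc]
    have : (x i + y i) / 2 = x i / 2 + y i / 2 := by omega
    rw [this]; push_cast; simp

/-- The all-ones word as an element of the code. -/
def oneC : ↥golayCode := ⟨1, Submodule.subset_span (Set.mem_union_right _ rfl)⟩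

/-- The subgroup `{0, 1}` of the code. -/
def T : AddSubgroup ↥golayCode := AddSubgroup.zmultiples oneC

theorem add_self_code (w : ↥golayCode) : w + w = 0 := by
  rw [← two_smul (ZMod 2) w, two_zmod2, zero_smul]

theorem mem_T_iff (w : ↥golayCode) : w ∈ T ↔ w = 0 ∨ w = oneC := by
  unfold T
  rw [AddSubgroup.mem_zmultiples_iff]
  constructor
  · rintro ⟨k, rfl⟩
    rcases Int.even_or_odd k with ⟨j, hj⟩ | ⟨j, hj⟩
    · left
      rw [hj, add_smul]
      exact add_self_code _
    · right
      rw [hj, add_smul, one_smul, mul_smul, two_smul, add_self_code, zero_add]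
  · rintro (h | h)
    · exact ⟨0, by rw [h, zero_smul]⟩
    · exact ⟨1, by rw [h, one_smul]⟩

theorem parity_of_mem {x : GolayPt → ℤ} (hx : x ∈ leechSet) :
    ∃ m : ℤ, (∀ i, x i ≡ m [ZMOD 2]) ∧ (∑ i, x i ≡ 4 * m [ZMOD 8]) := by
  rw [mem_leechSet_iff] at hx
  obtain ⟨m, h1, h2, -⟩ := hx
  exact ⟨m, h1, h2⟩

theorem mem_set_of_mem (x : ↥leechLattice) : (x : GolayPt → ℤ) ∈ leechSet :=
  (mem_leechLattice_iff _).mp x.2

theorem zmod2_id1 : ∀ a b : ZMod 2, -(a + b + 1) + (a + b) = 1 := by decide
theorem zmod2_id0 : ∀ a b : ZMod 2, -(a + b) + (a + b) = 0 := by decide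

/-- The class of the second-digit word modulo the all-ones word. -/
noncomputable def Psi : ↥leechLattice →+ (↥golayCode ⧸ T) :=
  AddMonoidHom.mk' (fun x => QuotientAddGroup.mk ⟨bit1Word x.1, bit1Word_mem (mem_set_of_mem x)⟩) (by
    intro x y
    obtain ⟨m, hm, -⟩ := parity_of_mem (mem_set_of_mem x)
    obtain ⟨m', hm', -⟩ := parity_of_mem (mem_set_of_mem y)
    rw [← QuotientAddGroup.mk_add, QuotientAddGroup.eq, mem_T_iff]
    have h := bit1Word_add x.1 y.1 m m' hm hm'
    by_cases hc : m % 2 = 1 ∧ m' % 2 = 1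
    · right
      rw [if_pos hc] at h
      apply Subtype.ext
      simp only [AddSubgroup.coe_add, Submodule.coe_add, Submodule.coe_neg, oneC]
      rw [h]
      funext i
      simp only [Pi.add_apply, Pi.neg_apply, Pi.one_apply]
      exact zmod2_id1 _ _
    · left
      rw [if_neg hc, add_zero] at h
      apply Subtype.ext
      simp only [AddSubgroup.coe_add, Submodule.coe_add, Submodule.coe_neg, Submodule.coe_zero]
      rw [h]
      funext i
      simp only [Pi.add_apply, Pi.neg_apply, Pi.zero_apply]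
      exact zmod2_id0 _ _)

/-- Parity of a lattice vector. -/
def Par : ↥leechLattice →+ ZMod 2 where
  toFun x := ((x.1 none : ℤ) : ZMod 2)
  map_zero' := by simp
  map_add' x y := by simp

noncomputable def Phi : ↥leechLattice →+ ZMod 2 × (↥golayCode ⧸ T) := Par.prod Psi

theorem Phi_apply (x : ↥leechLattice) : Phi x = (Par x, Psi x) := rfl

theorem Psi_apply (x : ↥leechLattice) :
    Psi x = QuotientAddGroup.mk ⟨bit1Word x.1, bit1Word_mem (mem_set_of_mem x)⟩ := rfl

theorem Par_apply (x : ↥leechLattice) : Par x = ((x.1 none : ℤ) : ZMod 2) := rfl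

/-- Every element of the target has order dividing 2. -/
theorem target_add_self (t : ZMod 2 × (↥golayCode ⧸ T)) : t + t = 0 := by
  obtain ⟨a, q⟩ := t
  refine Prod.ext ?_ ?_
  · simp only [Prod.fst_add, Prod.fst_zero]
    revert a; decide
  · simp only [Prod.snd_add, Prod.snd_zero]
    induction q using QuotientAddGroup.induction_on with
    | H w =>
      rw [← QuotientAddGroup.mk_add, add_self_code]
      rfl

/-- The lift `2 * w` of a code word. -/
def lift2 (w : GolayPt → ZMod 2) : GolayPt → ℤ := fun i => if w i = 1 then 2 else 0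

theorem zmod2_cases (a : ZMod 2) : a = 0 ∨ a = 1 := by revert a; decide

theorem lift2_mem (w : GolayPt → ZMod 2) (hw : w ∈ golayCode) : lift2 w ∈ leechSet := by
  rw [mem_leechSet_iff]
  refine ⟨0, ?_, ?_, ?_⟩
  · intro i
    unfold lift2 Int.ModEq
    split_ifs <;> simp
  · -- sum is 2 * card support
    have hsum : ∑ i, lift2 w i = 2 * ((support₂ w).card : ℤ) := by
      unfold lift2
      rw [Finset.sum_ite, Finset.sum_const, Finset.sum_const_zero, add_zero]
      have : (Finset.univ.filter fun i => w i = 1) = support₂ w := by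
        ext i; rw [mem_support₂]; simp
      rw [this]
      simp
      ring
    rw [hsum]
    obtain ⟨k, hk⟩ := four_dvd_card w hw
    rw [hk]
    unfold Int.ModEq
    push_cast
    omega
  · intro k
    have hone : (1 : GolayPt → ZMod 2) ∈ golayCode := Submodule.subset_span (Set.mem_union_right _ rfl)
    have hpt : ∀ i, indWord (fun i => lift2 w i ≡ k [ZMOD 4]) i =
        if k % 4 = 0 then 1 + w i else if k % 4 = 2 then w i else 0 := by
      intro i
      show (if lift2 w i ≡ k [ZMOD 4] then (1 : ZMod 2) else 0) = _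
      rcases zmod2_cases (w i) with h | h
      · have hl : lift2 w i = 0 := by simp [lift2, h]
        rw [hl, h]
        by_cases h0 : k % 4 = 0
        · rw [if_pos h0, if_pos (by unfold Int.ModEq; omega)]; simp
        · rw [if_neg h0, if_neg (by unfold Int.ModEq; omega)]
          split_ifs <;> rfl
      · have hl : lift2 w i = 2 := by simp [lift2, h]
        rw [hl, h]
        by_cases h0 : k % 4 = 0
        · rw [if_pos h0, if_neg (by unfold Int.ModEq; omega)]; decide
        · rw [if_neg h0]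
          by_cases h2 : k % 4 = 2
          · rw [if_pos h2, if_pos (by unfold Int.ModEq; omega)]
          · rw [if_neg h2, if_neg (by unfold Int.ModEq; omega)]
    by_cases h0 : k % 4 = 0
    · have : indWord (fun i => lift2 w i ≡ k [ZMOD 4]) = 1 + w := by
        funext i; rw [hpt, if_pos h0]; rfl
      rw [this]
      exact golayCode.add_mem hone hw
    · by_cases h2 : k % 4 = 2
      · have : indWord (fun i => lift2 w i ≡ k [ZMOD 4]) = w := by
          funext i; rw [hpt, if_neg h0, if_pos h2]
        rw [this]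
        exact hw
      · have : indWord (fun i => lift2 w i ≡ k [ZMOD 4]) = 0 := by
          funext i; rw [hpt, if_neg h0, if_neg h2]; rfl
        rw [this]
        exact golayCode.zero_mem

theorem bit1Word_lift2 (w : GolayPt → ZMod 2) : bit1Word (lift2 w) = w := by
  funext i
  simp only [bit1Word, lift2]
  rcases zmod2_cases (w i) with h | h <;> rw [h] <;> simp

theorem Phi_surjective : Function.Surjective Phi := by
  rintro ⟨a, q⟩
  obtain ⟨w, rfl⟩ := QuotientAddGroup.mk_surjective q
  -- the even lift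
  let x0 : ↥leechLattice := ⟨lift2 w.1, (mem_leechLattice_iff _).mpr (lift2_mem w.1 w.2)⟩
  have hx0 : Phi x0 = (0, QuotientAddGroup.mk w) := by
    rw [Phi_apply]
    refine Prod.ext ?_ ?_
    · show ((lift2 w.1 none : ℤ) : ZMod 2) = 0
      unfold lift2
      split_ifs
      · exact two_zmod2
      · simp
    · show Psi x0 = QuotientAddGroup.mk w
      rw [Psi_apply]
      congr 1
      apply Subtype.ext
      exact bit1Word_lift2 w.1
  have ho : Phi Spor.leechV = (1, 0) := by
    rw [Phi_apply]
    refine Prod.ext ?_ ?_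
    · show ((Spor.vecV none : ℤ) : ZMod 2) = 1
      simp [Spor.vecV]
      decide
    · show Psi Spor.leechV = 0
      rw [Psi_apply, QuotientAddGroup.eq_zero_iff, mem_T_iff]
      right
      apply Subtype.ext
      show bit1Word Spor.vecV = 1
      funext i
      simp only [bit1Word, Spor.vecV, Pi.one_apply]
      split_ifs <;> decide
  rcases zmod2_cases a with h | h
  · exact ⟨x0, by rw [hx0, h]⟩
  · refine ⟨x0 + Spor.leechV, ?_⟩
    rw [map_add, hx0, ho, h]
    simp

theorem card_T : Nat.card ↥T = 2 := by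
  unfold T
  rw [Nat.card_zmultiples]
  haveI : Fact (Nat.Prime 2) := ⟨Nat.prime_two⟩
  apply addOrderOf_eq_prime
  · rw [two_smul]; exact add_self_code _
  · intro h
    have := congrArg (fun w : ↥golayCode => (w : GolayPt → ZMod 2) none) h
    simp [oneC] at this

theorem card_code : Nat.card ↥golayCode = 2 ^ 12 := by
  rw [Module.natCard_eq_pow_finrank (K := ZMod 2), Cfsg.Agent.S0358.result]
  simp

theorem index_T : T.index = 2 ^ 11 := by
  have h := AddSubgroup.card_mul_index T
  rw [card_T, card_code] at h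
  omega

theorem card_target : Nat.card (ZMod 2 × (↥golayCode ⧸ T)) = 2 ^ 12 := by
  rw [Nat.card_prod, ← AddSubgroup.index_eq_card, index_T]
  simp

theorem index_ker : Phi.ker.index = 2 ^ 12 := by
  rw [AddSubgroup.index_ker, AddMonoidHom.range_eq_top.mpr Phi_surjective]
  rw [← card_target]
  exact Nat.card_congr (AddSubgroup.topEquiv.toEquiv)

/-- divisibility of the norm on the kernel -/
theorem norm_of_ker (x : ↥leechLattice) (hx : x ∈ Phi.ker) : (32 : ℤ) ∣ sqNorm (x : GolayPt → ℤ) := by
  rw [AddMonoidHom.mem_ker, Phi_apply] at hx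
  have h1 : Par x = 0 := congrArg Prod.fst hx
  have h2 : Psi x = 0 := congrArg Prod.snd hx
  rw [Psi_apply, QuotientAddGroup.eq_zero_iff, mem_T_iff] at h2
  rw [Par_apply] at h1
  obtain ⟨m, hm, hsum⟩ := parity_of_mem (mem_set_of_mem x)
  have hnone : (x.1 none) % 2 = 0 := by
    have := (ZMod.intCast_zmod_eq_zero_iff_dvd (x.1 none) 2).mp h1
    omega
  have hmeven : m % 2 = 0 := by
    have := hm none
    unfold Int.ModEq at this
    omega
  have heven : ∀ i, x.1 i % 2 = 0 := by
    intro i
    have := hm i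
    unfold Int.ModEq at this
    omega
  have hcard : (Finset.univ : Finset GolayPt).card = 24 := by decide
  unfold sqNorm
  rcases h2 with h2 | h2
  · -- all coordinates divisible by 4
    have h4 : ∀ i, x.1 i % 4 = 0 := by
      intro i
      have := congrArg (fun w : ↥golayCode => (w : GolayPt → ZMod 2) i) h2
      simp only [bit1Word, Submodule.coe_zero, Pi.zero_apply, cast_half] at this
      have he := heven i
      by_contra hne
      rw [if_pos (by omega)] at this
      exact one_ne_zero this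
    have hterm : ∀ i ∈ (Finset.univ : Finset GolayPt), (32 : ℤ) ∣ x.1 i ^ 2 - 4 * x.1 i := by
      intro i _
      obtain ⟨z, hz⟩ : (4 : ℤ) ∣ x.1 i := Int.dvd_of_emod_eq_zero (h4 i)
      rw [hz]
      rcases Int.even_or_odd z with ⟨k, hk⟩ | ⟨k, hk⟩
      · exact ⟨k * (2 * k - 1), by rw [hk]; ring⟩
      · exact ⟨k * (2 * k + 1), by rw [hk]; ring⟩
    have hsplit : ∑ i, x.1 i ^ 2 = ∑ i, (x.1 i ^ 2 - 4 * x.1 i) + 4 * ∑ i, x.1 i := by
      rw [Finset.mul_sum, ← Finset.sum_add_distrib]
      apply Finset.sum_congr rfl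
      intro i _; ring
    rw [hsplit]
    apply dvd_add (Finset.dvd_sum hterm)
    unfold Int.ModEq at hsum
    have : (8 : ℤ) ∣ ∑ i, x.1 i := by
      apply Int.dvd_of_emod_eq_zero
      omega
    obtain ⟨t, ht⟩ := this
    exact ⟨t, by rw [ht]; ring⟩
  · -- all coordinates congruent to 2 mod 4
    have h4 : ∀ i, x.1 i % 4 = 2 := by
      intro i
      have := congrArg (fun w : ↥golayCode => (w : GolayPt → ZMod 2) i) h2
      simp only [bit1Word, oneC, Pi.one_apply, cast_half] at this
      have he := heven i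
      by_contra hne
      rw [if_neg (by omega)] at this
      exact zero_ne_one this
    have hterm : ∀ i ∈ (Finset.univ : Finset GolayPt), (32 : ℤ) ∣ x.1 i ^ 2 - 4 := by
      intro i _
      obtain ⟨z, hz⟩ : (4 : ℤ) ∣ x.1 i - 2 := by
        apply Int.dvd_of_emod_eq_zero
        have := h4 i
        omega
      have hx : x.1 i = 4 * z + 2 := by linarith
      rw [hx]
      rcases Int.even_or_odd z with ⟨k, hk⟩ | ⟨k, hk⟩
      · exact ⟨k * (2 * k + 1), by rw [hk]; ring⟩
      · exact ⟨(k + 1) * (2 * k + 1), by rw [hk]; ring⟩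
    have hsplit : ∑ i, x.1 i ^ 2 = ∑ i, (x.1 i ^ 2 - 4) + 96 := by
      rw [Finset.sum_sub_distrib, Finset.sum_const, hcard]
      simp
    rw [hsplit]
    exact dvd_add (Finset.dvd_sum hterm) ⟨3, by norm_num⟩

theorem result : ∃ A : AddSubgroup (Cfsg.GolayPt → ℤ), A ≤ Cfsg.leechLattice ∧ (∀ v ∈ Cfsg.leechLattice, (2 : ℤ) • v ∈ A) ∧ (A.addSubgroupOf Cfsg.leechLattice).index = 2 ^ 12 ∧ ∀ v ∈ A, (32 : ℤ) ∣ Cfsg.sqNorm v := by
  refine ⟨Phi.ker.map leechLattice.subtype, AddSubgroup.map_subtype_le _, ?_, ?_, ?_⟩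
  · intro v hv
    refine ⟨⟨v, hv⟩ + ⟨v, hv⟩, ?_, ?_⟩
    · rw [SetLike.mem_coe, AddMonoidHom.mem_ker, map_add]
      exact target_add_self _
    · simp [two_smul]
  · have : (Phi.ker.map leechLattice.subtype).addSubgroupOf leechLattice = Phi.ker := by
      unfold AddSubgroup.addSubgroupOf
      exact AddSubgroup.comap_map_eq_self_of_injective leechLattice.subtype_injective _
    rw [this]
    exact index_ker
  · rintro v ⟨x, hx, rfl⟩
    exact norm_of_ker x hx

end Cfsg.Agent.S5553
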