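import Cfsg.Statements.S5407
import Cfsg.Agent.Lib.Helper63_MonsterCls

set_option autoImplicit false
open Cfsg

namespace Cfsg.Agent.S5407

open Cfsg.Agent.Lib.Helper89_ESClass Cfsg.Agent.Lib.Helper63_ESForm
open Cfsg.Agent.Lib.Helper63_MonsterForm Cfsg.Agent.Lib.Helper63_MonsterConj
open Cfsg.Agent.Lib.Helper63_MonsterKey Cfsg.Agent.Lib.Helper63_MonsterCls

/-- a vector of squared length 64 is not twice a lattice vector -/
theorem not_double (v w : leechLattice) (hv : sqNorm (v : GolayPt → ℤ) = 64) (h : v = w + w) :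
    False := by
  have h1 : (v : GolayPt → ℤ) = 2 • (w : GolayPt → ℤ) := by
    rw [h, AddSubgroup.coe_add, two_nsmul]
  rw [h1, Cfsg.Agent.S5551.sqNorm_two_smul] at hv
  have hw0 : (w : GolayPt → ℤ) ≠ 0 := by
    intro h0
    rw [h0] at hv
    simp [sqNorm] at hv
  have := Cfsg.Agent.S0391.result (w : GolayPt → ℤ) w.2 hw0
  omega

/-- the full statement with the hypotheses unpacked -/
theorem main {G : Type*} [Group G] [Finite G] {z : G}
    {Q : Subgroup (Subgroup.centralizer ({z} : Set G))} [Q.Normal]
    (hS : IsExtraspecialCentralizerSetting z Q 12)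
    {e : (Subgroup.centralizer ({z} : Set G)) ⧸ Q ≃* Spor.Co1}
    {ψ : leechLattice → Q ⧸ Subgroup.center Q} (hψ : IsLeechModTwoIso Q e ψ) (x : Q) :
    (IsConj z ((x : Subgroup.centralizer ({z} : Set G)) : G) ∧
      ((x : Subgroup.centralizer ({z} : Set G)) : G) ≠ z) ↔
    ∃ v : leechLattice, sqNorm (v : GolayPt → ℤ) = 64 ∧ ψ v = QuotientGroup.mk x := by
  obtain ⟨hz, hF, hes, hcard, gw, ⟨hq, hqQ⟩, hgz⟩ := hS
  have hcard' : Nat.card Q = 2 ^ 25 := by rw [hcard]
  have hE := isES2_zQ hz hF hes
  constructor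
  · rintro ⟨hconj, hxz⟩
    obtain ⟨g, hg⟩ := isConj_iff.1 hconj
    exact conj_type_four hz hF hes hcard' hψ x g hg hxz
  · rintro ⟨v, hv, hxv⟩
    -- the given conjugate of `z` in `Q`
    let s0 : Q := ⟨⟨gw * z * gw⁻¹, hq⟩, hqQ⟩
    have hs0 : gw * z * gw⁻¹ = ((s0 : Subgroup.centralizer ({z} : Set G)) : G) := rfl
    obtain ⟨v0, hv0, hs0v⟩ := conj_type_four hz hF hes hcard' hψ s0 gw hs0 hgz
    obtain ⟨g0, u, hu, hgu⟩ := Cfsg.Agent.S5593.result v0 v hv0 hv
    obtain ⟨h, hh⟩ := conj_of_congr hz hF hes hcard' hψ hu hgu hs0v hxv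
      (conj_noncentral hz hF hes hcard' hψ s0 gw hs0 hgz)
    have hh' : (h : G) * (gw * z * gw⁻¹) * (h : G)⁻¹ =
        ((x : Subgroup.centralizer ({z} : Set G)) : G) := by
      have := congrArg (fun c : Subgroup.centralizer ({z} : Set G) => (c : G)) hh
      simpa using this
    constructor
    · rw [isConj_iff]
      refine ⟨(h : G) * gw, ?_⟩
      rw [← hh']
      group
    · intro hxz
      have hx : x = zQ hF := by
        apply Subtype.ext
        apply Subtype.ext
        exact hxz
      have h1 : ψ v = 1 := by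
        rw [hxv, mk_eq_one_iff_central, hx]
        exact zQ_central hF
      obtain ⟨w, hw⟩ := (hψ.2.2.1 v).1 h1
      exact not_double v w hv hw

/-- Let G be a finite group of Monster type at the involution z with Q the extraspecial normal subgroup of order 2^25 of C = C_G(z) (so C/Q is identified with the first Conway group with Q modulo its centre the Leech lattice modulo 2, and z is not weakly closed in Q). Then under any such identification ψ of the Leech lattice modulo 2 with Q modulo its centre, an element x of Q is a conjugate of z other than z exactly when x modulo the centre is the image under ψ of a lattice vector of squared length 64 in the coordinates used here, that is, of norm 8 in the customary normalisation in which the minimal vectors have norm 4 (twice the minimal norm). -/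
theorem result {G : Type*} [Group G] [Finite G] (z : G) (Q : Subgroup (Subgroup.centralizer ({z} : Set G))) [Q.Normal] (hM : Cfsg.IsOfMonsterType z Q) (e : (Subgroup.centralizer ({z} : Set G)) ⧸ Q ≃* Cfsg.Spor.Co1) (ψ : Cfsg.leechLattice → Q ⧸ Subgroup.center Q) (hψ : Cfsg.IsLeechModTwoIso Q e ψ) (x : Q) : (IsConj z ((x : Subgroup.centralizer ({z} : Set G)) : G) ∧ ((x : Subgroup.centralizer ({z} : Set G)) : G) ≠ z) ↔ ∃ v : Cfsg.leechLattice, Cfsg.sqNorm (v : Cfsg.GolayPt → ℤ) = 64 ∧ ψ v = QuotientGroup.mk x := by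
  exact main hM.1 hψ x

end Cfsg.Agent.S5407
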