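import Cfsg.Statements.S5411
import Cfsg.Agent.Lib.Helper63_MonsterCls
import Cfsg.Agent.S5407

set_option autoImplicit false
open Cfsg

namespace Cfsg.Agent.S5411

open Cfsg.Agent.Lib.Helper89_ESClass Cfsg.Agent.Lib.Helper63_ESForm
open Cfsg.Agent.Lib.Helper63_MonsterForm Cfsg.Agent.Lib.Helper63_MonsterConj
open Cfsg.Agent.Lib.Helper63_MonsterKey Cfsg.Agent.Lib.Helper63_MonsterCls

/-- an involution of `Q` not conjugate to `z` maps to the class of a minimal vector -/
theorem type_two {G : Type*} [Group G] [Finite G] {z : G}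
    {Q : Subgroup (Subgroup.centralizer ({z} : Set G))} [Q.Normal]
    (hS : IsExtraspecialCentralizerSetting z Q 12)
    {e : (Subgroup.centralizer ({z} : Set G)) ⧸ Q ≃* Spor.Co1}
    {ψ : leechLattice → Q ⧸ Subgroup.center Q} (hψ : IsLeechModTwoIso Q e ψ) (x : Q)
    (hx2 : orderOf ((x : Subgroup.centralizer ({z} : Set G)) : G) = 2)
    (hx : ¬ IsConj z ((x : Subgroup.centralizer ({z} : Set G)) : G)) :
    (¬ ∀ k : Q, x * k = k * x) ∧
    ∃ v : leechLattice, sqNorm (v : GolayPt → ℤ) = 32 ∧ ψ v = QuotientGroup.mk x := by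
  have hS' := hS
  obtain ⟨hz, hF, hes, hcard, -⟩ := hS
  have hcard' : Nat.card Q = 2 ^ 25 := by rw [hcard]
  have hE := isES2_zQ hz hF hes
  have hsq : x * x = 1 := by
    apply Subtype.ext
    apply Subtype.ext
    show ((x : Subgroup.centralizer ({z} : Set G)) : G) * x = 1
    rw [← pow_two, ← hx2]
    exact pow_orderOf_eq_one _
  have hnc : ¬ ∀ k : Q, x * k = k * x := by
    intro hc
    rcases (hE.center x).1 hc with h | h
    · have h1 : ((x : Subgroup.centralizer ({z} : Set G)) : G) = 1 := by rw [h]; rfl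
      rw [h1, orderOf_one] at hx2
      omega
    · apply hx
      have h1 : ((x : Subgroup.centralizer ({z} : Set G)) : G) = z := by rw [h]; rfl
      rw [h1]
  refine ⟨hnc, ?_⟩
  obtain ⟨v, hv, h | h⟩ := classify hE hψ hcard' x hsq hnc
  · exact ⟨v, h, hv⟩
  · exfalso
    exact hx ((Cfsg.Agent.S5407.main hS' hψ x).2 ⟨v, h, hv⟩).1

/-- Let G be a finite group of Monster type at the involution z with Q the extraspecial normal subgroup of order 2^25 of C = C_G(z) (so C/Q is identified with the first Conway group with Q modulo its centre the Leech lattice modulo 2, and z is not weakly closed in Q). Then C acts transitively by conjugation on the involutions of Q that are not conjugate to z in G. -/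
theorem result {G : Type*} [Group G] [Finite G] (z : G) (Q : Subgroup (Subgroup.centralizer ({z} : Set G))) [Q.Normal] (hM : Cfsg.IsOfMonsterType z Q) (s t : G) (hsQ : ∃ hsc : s ∈ Subgroup.centralizer ({z} : Set G), (⟨s, hsc⟩ : Subgroup.centralizer ({z} : Set G)) ∈ Q) (htQ : ∃ htc : t ∈ Subgroup.centralizer ({z} : Set G), (⟨t, htc⟩ : Subgroup.centralizer ({z} : Set G)) ∈ Q) (hs2 : orderOf s = 2) (ht2 : orderOf t = 2) (hs : ¬ IsConj z s) (ht : ¬ IsConj z t) : ∃ h ∈ Subgroup.centralizer ({z} : Set G), h * s * h⁻¹ = t := by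
  obtain ⟨hS, e, ψ, hψ⟩ := hM
  obtain ⟨hsc, hsQ⟩ := hsQ
  obtain ⟨htc, htQ⟩ := htQ
  let sQ : Q := ⟨⟨s, hsc⟩, hsQ⟩
  let tQ : Q := ⟨⟨t, htc⟩, htQ⟩
  obtain ⟨hnc, v, hv, hsv⟩ := type_two hS hψ sQ hs2 hs
  obtain ⟨-, w, hw, htw⟩ := type_two hS hψ tQ ht2 ht
  obtain ⟨g0, hg0⟩ := Cfsg.Agent.S0400.result v w hv hw
  have hS' := hS
  obtain ⟨hz, hF, hes, hcard, -⟩ := hS
  have hcard' : Nat.card Q = 2 ^ 25 := by rw [hcard]
  have hgu : ((g0 • v : leechLattice) : GolayPt → ℤ) - (w : GolayPt → ℤ) =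
      2 • (0 : GolayPt → ℤ) := by
    rw [hg0]
    simp
  obtain ⟨h, hh⟩ := conj_of_congr hz hF hes hcard' hψ (leechLattice.zero_mem) hgu hsv htw hnc
  refine ⟨(h : G), h.2, ?_⟩
  have := congrArg (fun c : Subgroup.centralizer ({z} : Set G) => (c : G)) hh
  simpa using this

end Cfsg.Agent.S5411
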