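import Mathlib
import Cfsg.Statements.S1784
import Cfsg.Agent.Lib.Helper21_FStar
import Cfsg.Agent.Lib.Helper29_Local
import Cfsg.Agent.Lib.Helper1_Frattini

set_option autoImplicit false
open Cfsg

namespace Cfsg.Agent.S1784

section abstract
variable {G : Type*} [Group G]

/-- the `±1`-valued commutation symbol -/
noncomputable def chi (x y : G) : ℤ := by
  classical
  exact if x * y = y * x then 1 else -1

theorem chi_eq_one {x y : G} (h : x * y = y * x) : chi x y = 1 := by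
  unfold chi; simp [h]

theorem chi_eq_neg_one {x y : G} (h : x * y ≠ y * x) : chi x y = -1 := by
  unfold chi; simp [h]

theorem chi_eq_one_iff {x y : G} : chi x y = 1 ↔ x * y = y * x := by
  constructor
  · intro h
    by_contra hne
    rw [chi_eq_neg_one hne] at h
    omega
  · exact chi_eq_one

theorem chi_symm (x y : G) : chi x y = chi y x := by
  by_cases h : x * y = y * x
  · rw [chi_eq_one h, chi_eq_one h.symm]
  · rw [chi_eq_neg_one h, chi_eq_neg_one (fun h' => h h'.symm)]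

theorem chi_inv_right (x y : G) : chi x y⁻¹ = chi x y := by
  by_cases h : x * y = y * x
  · have h' : x * y⁻¹ = y⁻¹ * x := by
      have := congrArg (fun w => y⁻¹ * w * y⁻¹) h
      simpa [mul_assoc] using this.symm
    rw [chi_eq_one h, chi_eq_one h']
  · have h' : x * y⁻¹ ≠ y⁻¹ * x := by
      intro h'
      apply h
      have := congrArg (fun w => y * w * y) h'
      simpa [mul_assoc] using this.symm
    rw [chi_eq_neg_one h, chi_eq_neg_one h']

theorem chi_conj (a x y : G) : chi (a * x * a⁻¹) (a * y * a⁻¹) = chi x y := by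
  by_cases h : x * y = y * x
  · have h' : (a * x * a⁻¹) * (a * y * a⁻¹) = (a * y * a⁻¹) * (a * x * a⁻¹) := by
      calc (a * x * a⁻¹) * (a * y * a⁻¹) = a * (x * y) * a⁻¹ := by group
        _ = a * (y * x) * a⁻¹ := by rw [h]
        _ = _ := by group
    rw [chi_eq_one h, chi_eq_one h']
  · have h' : (a * x * a⁻¹) * (a * y * a⁻¹) ≠ (a * y * a⁻¹) * (a * x * a⁻¹) := by
      intro h'
      apply h
      have e1 : x * y = a⁻¹ * ((a * x * a⁻¹) * (a * y * a⁻¹)) * a := by group
      have e2 : y * x = a⁻¹ * ((a * y * a⁻¹) * (a * x * a⁻¹)) * a := by group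
      rw [e1, e2, h']
    rw [chi_eq_neg_one h, chi_eq_neg_one h']

/-- The extraspecial-like hypotheses on a subgroup `Q` with central involution `z`. -/
structure ES (Q : Subgroup G) (z : G) : Prop where
  z_ne : z ≠ 1
  z_sq : z * z = 1
  z_mem : z ∈ Q
  z_comm : ∀ q ∈ Q, z * q = q * z
  cen : ∀ x ∈ Q, (∀ y ∈ Q, x * y = y * x) → x = 1 ∨ x = z
  comm : ∀ x ∈ Q, ∀ y ∈ Q, x * y = y * x ∨ x * y = z * (y * x)

theorem ES.ne_of_twist {Q : Subgroup G} {z : G} (h : ES Q z) {x y : G} (hxy : x * y = z * (y * x)) :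
    x * y ≠ y * x := by
  intro h'
  rw [h'] at hxy
  apply h.z_ne
  have := mul_right_cancel (b := y * x) (a := 1) (c := z) (by rw [one_mul]; exact hxy)
  exact this.symm

theorem ES.chi_mul {Q : Subgroup G} {z : G} (h : ES Q z) {x y y' : G} (hx : x ∈ Q) (hy : y ∈ Q)
    (hy' : y' ∈ Q) : chi x (y * y') = chi x y * chi x y' := by
  rcases h.comm x hx y hy with h1 | h1 <;> rcases h.comm x hx y' hy' with h2 | h2
  · have h3 : x * (y * y') = (y * y') * x := by
      rw [← mul_assoc, h1, mul_assoc, h2, mul_assoc]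
    rw [chi_eq_one h1, chi_eq_one h2, chi_eq_one h3]; rfl
  · have h3 : x * (y * y') = z * ((y * y') * x) := by
      calc x * (y * y') = (x * y) * y' := by group
        _ = (y * x) * y' := by rw [h1]
        _ = y * (x * y') := by group
        _ = y * (z * (y' * x)) := by rw [h2]
        _ = (y * z) * (y' * x) := by group
        _ = (z * y) * (y' * x) := by rw [h.z_comm y hy]
        _ = z * ((y * y') * x) := by group
    rw [chi_eq_one h1, chi_eq_neg_one (h.ne_of_twist h2), chi_eq_neg_one (h.ne_of_twist h3)]; rfl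
  · have h3 : x * (y * y') = z * ((y * y') * x) := by
      calc x * (y * y') = (x * y) * y' := by group
        _ = z * (y * x) * y' := by rw [h1]
        _ = z * y * (x * y') := by group
        _ = z * y * (y' * x) := by rw [h2]
        _ = z * ((y * y') * x) := by group
    rw [chi_eq_neg_one (h.ne_of_twist h1), chi_eq_one h2, chi_eq_neg_one (h.ne_of_twist h3)]; rfl
  · have h3 : x * (y * y') = (y * y') * x := by
      calc x * (y * y') = (x * y) * y' := by group
        _ = z * (y * x) * y' := by rw [h1]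
        _ = z * y * (x * y') := by group
        _ = z * y * (z * (y' * x)) := by rw [h2]
        _ = (z * y) * z * (y' * x) := by group
        _ = (y * z) * z * (y' * x) := by rw [h.z_comm y hy]
        _ = y * (z * z) * (y' * x) := by group
        _ = (y * y') * x := by rw [h.z_sq]; group
    rw [chi_eq_neg_one (h.ne_of_twist h1), chi_eq_neg_one (h.ne_of_twist h2), chi_eq_one h3]; rfl


theorem sum_eq_zero_of_twist (s : Finset G) (f : G → ℤ) (h₀ : G)
    (hs : ∀ h, h ∈ s ↔ h₀ * h ∈ s) (hf : ∀ h ∈ s, f (h₀ * h) = - f h) : ∑ h ∈ s, f h = 0 := by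
  have h1 : ∑ h ∈ s, f (h₀ * h) = ∑ h ∈ s, f h :=
    Finset.sum_equiv (Equiv.mulLeft h₀) (fun h => by simpa using hs h) (fun _ _ => rfl)
  have h2 : ∑ h ∈ s, f (h₀ * h) = - ∑ h ∈ s, f h := by
    rw [← Finset.sum_neg_distrib]
    exact Finset.sum_congr rfl hf
  linarith

/-- `χ(x, ·)` sums to zero over a subgroup `U ≤ Q` containing an element not commuting with `x`. -/
theorem ES.sum_chi_eq_zero [Fintype G] {Q : Subgroup G} {z : G} (h : ES Q z) (U : Subgroup G)
    (hUQ : U ≤ Q) (s : Finset G) (hs : ∀ g, g ∈ s ↔ g ∈ U) {x u₀ : G} (hx : x ∈ Q) (hu₀ : u₀ ∈ U)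
    (hne : x * u₀ ≠ u₀ * x) : ∑ u ∈ s, chi x u = 0 := by
  apply sum_eq_zero_of_twist s (fun u => chi x u) u₀
  · intro g
    rw [hs, hs]
    exact (U.mul_mem_cancel_left hu₀).symm
  · intro u hu
    rw [hs] at hu
    show chi x (u₀ * u) = - chi x u
    rw [h.chi_mul hx (hUQ hu₀) (hUQ hu), chi_eq_neg_one hne]
    ring

/-- Duality in an extraspecial 2-group: `|C_Q(U)| · |U| = 2 |Q|` for `Z ≤ U ≤ Q`. -/
theorem ES.dual [Finite G] {Q : Subgroup G} {z : G} (h : ES Q z) (U : Subgroup G)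
    (hzU : z ∈ U) (hUQ : U ≤ Q) :
    Nat.card ↥(Q ⊓ Subgroup.centralizer (U : Set G)) * Nat.card ↥U = 2 * Nat.card ↥Q := by
  classical
  letI : Fintype G := Fintype.ofFinite G
  set sQ : Finset G := Finset.univ.filter (· ∈ Q) with hsQ
  set sU : Finset G := Finset.univ.filter (· ∈ U) with hsU
  set sW : Finset G := Finset.univ.filter (· ∈ Q ⊓ Subgroup.centralizer (U : Set G)) with hsW
  have hmQ : ∀ g, g ∈ sQ ↔ g ∈ Q := fun g => by simp [hsQ]
  have hmU : ∀ g, g ∈ sU ↔ g ∈ U := fun g => by simp [hsU]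
  have hmW : ∀ g, g ∈ sW ↔ g ∈ Q ⊓ Subgroup.centralizer (U : Set G) := fun g => by simp [hsW]
  have cQ : Nat.card ↥Q = sQ.card := by
    rw [Nat.card_eq_fintype_card, Fintype.card_subtype]
  have cU : Nat.card ↥U = sU.card := by
    rw [Nat.card_eq_fintype_card, Fintype.card_subtype]
  have cW : Nat.card ↥(Q ⊓ Subgroup.centralizer (U : Set G)) = sW.card := by
    rw [Nat.card_eq_fintype_card, Fintype.card_subtype]
  -- first evaluation: sum over `u` first
  have e1 : ∑ u ∈ sU, ∑ q ∈ sQ, chi u q = 2 * (sQ.card : ℤ) := by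
    have hin : ∀ u ∈ sU, ∑ q ∈ sQ, chi u q = if (u = 1 ∨ u = z) then (sQ.card : ℤ) else 0 := by
      intro u hu
      rw [hmU] at hu
      by_cases hz : u = 1 ∨ u = z
      · rw [if_pos hz]
        have : ∀ q ∈ sQ, chi u q = 1 := by
          intro q hq
          rw [hmQ] at hq
          apply chi_eq_one
          rcases hz with rfl | rfl
          · simp
          · exact h.z_comm q hq
        rw [Finset.sum_congr rfl this]
        simp
      · rw [if_neg hz]
        have : ¬ ∀ y ∈ Q, u * y = y * u := fun hall => hz (h.cen u (hUQ hu) hall)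
        push Not at this
        obtain ⟨q₀, hq₀, hne⟩ := this
        exact h.sum_chi_eq_zero Q le_rfl sQ hmQ (hUQ hu) hq₀ hne
    rw [Finset.sum_congr rfl hin, Finset.sum_ite, Finset.sum_const_zero, add_zero, Finset.sum_const]
    have hfil : sU.filter (fun u => u = 1 ∨ u = z) = {1, z} := by
      ext g
      simp only [Finset.mem_filter, Finset.mem_insert, Finset.mem_singleton, hmU]
      constructor
      · exact fun hg => hg.2
      · rintro (rfl | rfl)
        · exact ⟨U.one_mem, Or.inl rfl⟩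
        · exact ⟨hzU, Or.inr rfl⟩
    rw [hfil, Finset.card_pair (Ne.symm h.z_ne)]
    simp
  -- second evaluation: sum over `q` first
  have e2 : ∑ q ∈ sQ, ∑ u ∈ sU, chi u q = (sW.card : ℤ) * (sU.card : ℤ) := by
    have hin : ∀ q ∈ sQ, ∑ u ∈ sU, chi u q =
        if q ∈ Subgroup.centralizer (U : Set G) then (sU.card : ℤ) else 0 := by
      intro q hq
      rw [hmQ] at hq
      by_cases hc : q ∈ Subgroup.centralizer (U : Set G)
      · rw [if_pos hc]
        have : ∀ u ∈ sU, chi u q = 1 := by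
          intro u hu
          rw [hmU] at hu
          exact chi_eq_one (Subgroup.mem_centralizer_iff.mp hc u hu)
        rw [Finset.sum_congr rfl this]
        simp
      · rw [if_neg hc]
        rw [Subgroup.mem_centralizer_iff] at hc
        push Not at hc
        obtain ⟨u₀, hu₀, hne⟩ := hc
        have := h.sum_chi_eq_zero U hUQ sU hmU hq hu₀ (fun h' => hne h'.symm)
        rw [← this]
        exact Finset.sum_congr rfl (fun u _ => chi_symm u q)
    rw [Finset.sum_congr rfl hin, Finset.sum_ite, Finset.sum_const_zero, add_zero, Finset.sum_const]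
    have hfil : sQ.filter (fun q => q ∈ Subgroup.centralizer (U : Set G)) = sW := by
      ext g
      simp only [Finset.mem_filter, hmQ, hmW, Subgroup.mem_inf]
    rw [hfil]
    simp
  rw [Finset.sum_comm, e1] at e2
  rw [cQ, cU, cW]
  exact_mod_cast e2.symm


/-- Abstract form of part (a). -/
theorem main_a [Finite G] {Q : Subgroup G} {z : G} (h : ES Q z) (Q₀ : Subgroup G) (α : G)
    (hsq : ∀ x ∈ Q, x * x = 1 ∨ x * x = z)
    (hαN : ∀ q ∈ Q, α * q * α⁻¹ ∈ Q) (hα2 : α * α = 1) (hαz : α * z = z * α)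
    (hαne : ∃ q ∈ Q, α * q ≠ q * α)
    (hQ₀ : ∀ q, q ∈ Q₀ ↔ q ∈ Q ∧ (α * q * α⁻¹ * q⁻¹ = 1 ∨ α * q * α⁻¹ * q⁻¹ = z)) :
    Subgroup.closure ((fun q => α * q * α⁻¹ * q⁻¹) '' (Q : Set G)) =
      (Subgroup.center ↥Q₀).map Q₀.subtype := by
  set φ : G → G := fun q => α * q * α⁻¹ * q⁻¹ with hφ
  set D : Subgroup G := Subgroup.closure (φ '' (Q : Set G)) with hD
  have hαinv : α⁻¹ = α := inv_eq_of_mul_eq_one_left hα2
  have hzinv : z⁻¹ = z := inv_eq_of_mul_eq_one_left h.z_sq
  have hφQ : ∀ q ∈ Q, φ q ∈ Q := fun q hq => Q.mul_mem (hαN q hq) (Q.inv_mem hq)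
  have hφD : ∀ q ∈ Q, φ q ∈ D := fun q hq => Subgroup.subset_closure ⟨q, hq, rfl⟩
  have hDQ : D ≤ Q := by
    rw [hD, Subgroup.closure_le]
    rintro _ ⟨q, hq, rfl⟩
    exact hφQ q hq
  have hQ₀Q : Q₀ ≤ Q := fun q hq => ((hQ₀ q).mp hq).1
  -- `α` inverts `φ q`
  have hinvert : ∀ q, α * φ q * α⁻¹ = (φ q)⁻¹ := by
    intro q
    simp only [hφ]
    rw [hαinv]
    calc α * (α * q * α * q⁻¹) * α = (α * α) * q * α * q⁻¹ * α := by group
      _ = q * α * q⁻¹ * α := by rw [hα2]; group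
      _ = q * α * q⁻¹ * α⁻¹ := by rw [hαinv]
      _ = (α * q * α * q⁻¹)⁻¹ := by
        rw [mul_inv_rev, mul_inv_rev, mul_inv_rev, inv_inv, hαinv]; group
  have hφQ₀ : ∀ q ∈ Q, φ q ∈ Q₀ := by
    intro q hq
    rw [hQ₀]
    refine ⟨hφQ q hq, ?_⟩
    have e : α * φ q * α⁻¹ * (φ q)⁻¹ = (φ q * φ q)⁻¹ := by
      rw [hinvert]; exact (mul_inv_rev _ _).symm
    rw [e]
    rcases hsq _ (hφQ q hq) with h1 | h1
    · left; rw [h1, inv_one]
    · right; rw [h1, hzinv]
  have hDQ₀ : D ≤ Q₀ := by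
    rw [hD, Subgroup.closure_le]
    rintro _ ⟨q, hq, rfl⟩
    exact hφQ₀ q hq
  -- the adjointness identity
  have hadj : ∀ q ∈ Q, ∀ q₀ ∈ Q, chi (φ q) q₀ = chi q (φ q₀) := by
    intro q hq q₀ hq₀
    have e1 : chi (φ q) q₀ = chi q₀ (α * q * α⁻¹) * chi q₀ q := by
      rw [chi_symm]
      show chi q₀ (α * q * α⁻¹ * q⁻¹) = _
      rw [h.chi_mul hq₀ (hαN q hq) (Q.inv_mem hq), chi_inv_right]
    have e2 : chi q (φ q₀) = chi q (α * q₀ * α⁻¹) * chi q q₀ := by
      show chi q (α * q₀ * α⁻¹ * q₀⁻¹) = _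
      rw [h.chi_mul hq (hαN q₀ hq₀) (Q.inv_mem hq₀), chi_inv_right]
    have e3 : chi q₀ (α * q * α⁻¹) = chi q (α * q₀ * α⁻¹) := by
      have := chi_conj α q₀ (α * q * α⁻¹)
      have e4 : α * (α * q * α⁻¹) * α⁻¹ = q := by
        rw [hαinv]
        calc α * (α * q * α) * α = (α * α) * q * (α * α) := by group
          _ = q := by rw [hα2]; group
      rw [e4] at this
      rw [← this, chi_symm]
    rw [e1, e2, e3, chi_symm q₀ q]
  have hzcen : ∀ q ∈ Q, ∀ w, (w = 1 ∨ w = z) → q * w = w * q := by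
    rintro q hq w (rfl | rfl)
    · simp
    · exact (h.z_comm q hq).symm
  -- `D` centralizes `Q₀`
  have hDC : D ≤ Subgroup.centralizer (Q₀ : Set G) := by
    rw [hD, Subgroup.closure_le]
    rintro _ ⟨q, hq, rfl⟩
    rw [SetLike.mem_coe, Subgroup.mem_centralizer_iff]
    intro q₀ hq₀
    have hq₀' := (hQ₀ q₀).mp hq₀
    have h1 : chi q (φ q₀) = 1 := chi_eq_one (hzcen q hq _ hq₀'.2)
    rw [← hadj q hq q₀ hq₀'.1] at h1
    exact (chi_eq_one_iff.mp h1).symm
  -- `Q ⊓ C(D) = Q₀`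
  have hCD : Q ⊓ Subgroup.centralizer (D : Set G) = Q₀ := by
    apply le_antisymm
    · rintro q₀ ⟨hq₀, hc⟩
      rw [hQ₀]
      refine ⟨hq₀, ?_⟩
      apply h.cen (φ q₀) (hφQ q₀ hq₀)
      intro y hy
      have h1 : chi (φ y) q₀ = 1 :=
        chi_eq_one (Subgroup.mem_centralizer_iff.mp hc (φ y) (hφD y hy))
      rw [hadj y hy q₀ hq₀] at h1
      exact (chi_eq_one_iff.mp h1).symm
    · exact le_inf hQ₀Q (Subgroup.le_centralizer_iff.mp hDC)
  -- `z ∈ D`
  have hDnorm : ∀ q' ∈ Q, ∀ q ∈ Q, q' * φ q * q'⁻¹ ∈ D := by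
    intro q' hq' q hq
    have e : q' * φ q * q'⁻¹ = (φ q')⁻¹ * φ (q' * q) := by
      simp only [hφ]; group
    rw [e]
    exact D.mul_mem (D.inv_mem (hφD q' hq')) (hφD _ (Q.mul_mem hq' hq))
  have hzD : z ∈ D := by
    obtain ⟨q, hq, hne⟩ := hαne
    have hd1 : φ q ≠ 1 := by
      intro h1
      apply hne
      have : α * q * α⁻¹ * q⁻¹ = 1 := h1
      have := congrArg (fun w => w * q * α) this
      simpa [mul_assoc] using this
    by_cases hcen : ∀ y ∈ Q, φ q * y = y * φ q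
    · rcases h.cen _ (hφQ q hq) hcen with h1 | h1
      · exact absurd h1 hd1
      · rw [← h1]; exact hφD q hq
    · push Not at hcen
      obtain ⟨y, hy, hyne⟩ := hcen
      rcases h.comm y hy _ (hφQ q hq) with h1 | h1
      · exact absurd h1.symm hyne
      · have h2 : y * φ q * y⁻¹ * (φ q)⁻¹ = z := by
          rw [h1]; group
        rw [← h2]
        exact D.mul_mem (hDnorm y hy q hq) (D.inv_mem (hφD q hq))
  have hzQ₀ : z ∈ Q₀ := hDQ₀ hzD
  -- counting
  have d1 := h.dual D hzD hDQ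
  have d2 := h.dual Q₀ hzQ₀ hQ₀Q
  rw [hCD] at d1
  set W : Subgroup G := Q ⊓ Subgroup.centralizer (Q₀ : Set G) with hW
  have hcard : Nat.card ↥W = Nat.card ↥D := by
    have hpos : 0 < Nat.card ↥Q₀ := Nat.card_pos
    have : Nat.card ↥W * Nat.card ↥Q₀ = Nat.card ↥D * Nat.card ↥Q₀ := by
      rw [d2, mul_comm (Nat.card ↥D), d1]
    exact Nat.eq_of_mul_eq_mul_right hpos this
  have hDW : D ≤ W := le_inf hDQ hDC
  have hDeqW : D = W := Subgroup.eq_of_le_of_card_ge hDW hcard.le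
  -- the centre of `Q₀`
  have hZW : (Subgroup.center ↥Q₀).map Q₀.subtype ≤ W := by
    rintro _ ⟨x, hx, rfl⟩
    refine ⟨hQ₀Q x.2, ?_⟩
    change (x : G) ∈ Subgroup.centralizer (Q₀ : Set G)
    rw [Subgroup.mem_centralizer_iff]
    intro y hy
    have := (Subgroup.mem_center_iff.mp hx) ⟨y, hy⟩
    exact congrArg Subtype.val this
  have hDZ : D ≤ (Subgroup.center ↥Q₀).map Q₀.subtype := by
    intro d hd
    refine ⟨⟨d, hDQ₀ hd⟩, ?_, rfl⟩
    change (⟨d, hDQ₀ hd⟩ : ↥Q₀) ∈ Subgroup.center ↥Q₀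
    rw [Subgroup.mem_center_iff]
    intro y
    apply Subtype.ext
    exact (Subgroup.mem_centralizer_iff.mp (hDC hd)) y y.2
  apply le_antisymm hDZ
  rw [hDeqW]
  exact hZW

end abstract


theorem mem_zpowers_of_sq {G : Type*} [Group G] {z w : G} (hz2 : z * z = 1) :
    w ∈ Subgroup.zpowers z ↔ w = 1 ∨ w = z := by
  constructor
  · intro hw
    obtain ⟨k, rfl⟩ := Subgroup.mem_zpowers_iff.mp hw
    rcases Int.even_or_odd' k with ⟨m, rfl | rfl⟩
    · left
      rw [zpow_mul, zpow_ofNat, pow_two, hz2, one_zpow]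
    · right
      rw [zpow_add, zpow_mul, zpow_ofNat, pow_two, hz2, one_zpow, one_mul, zpow_one]
  · rintro (rfl | rfl)
    · exact Subgroup.one_mem _
    · exact Subgroup.mem_zpowers _

theorem result {G : Type*} [Group G] [Finite G] (z : G) (hz : orderOf z = 2) (hQ : Cfsg.IsOfSymplecticType ↥(Cfsg.generalizedFittingSubgroup ↥(Subgroup.centralizer ({z} : Set G)))) (hE : Cfsg.IsExtraspecial 2 ↥(Cfsg.generalizedFittingSubgroup ↥(Subgroup.centralizer ({z} : Set G))))
    (α : G) (hα : orderOf α = 2) (hαC : α ∈ Subgroup.centralizer ({z} : Set G)) (hαQ : α ∉ (Cfsg.generalizedFittingSubgroup ↥(Subgroup.centralizer ({z} : Set G))).map (Subgroup.centralizer ({z} : Set G)).subtype)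
    (Q₀ : Subgroup G) (hQ₀ : ∀ q : G, q ∈ Q₀ ↔ (q ∈ (Cfsg.generalizedFittingSubgroup ↥(Subgroup.centralizer ({z} : Set G))).map (Subgroup.centralizer ({z} : Set G)).subtype ∧ α * q * α⁻¹ * q⁻¹ ∈ Subgroup.zpowers z)) :
    Subgroup.closure ((fun q : G => α * q * α⁻¹ * q⁻¹) '' ((Cfsg.generalizedFittingSubgroup ↥(Subgroup.centralizer ({z} : Set G))).map (Subgroup.centralizer ({z} : Set G)).subtype : Set G)) = (Subgroup.center ↥Q₀).map Q₀.subtype ∧
      (¬ Q₀ ≤ ((Cfsg.generalizedFittingSubgroup ↥(Subgroup.centralizer ({z} : Set G))).map (Subgroup.centralizer ({z} : Set G)).subtype ⊓ Subgroup.centralizer ({α} : Set G)) ⊔ Subgroup.zpowers z →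
        ∃ q ∈ (Cfsg.generalizedFittingSubgroup ↥(Subgroup.centralizer ({z} : Set G))).map (Subgroup.centralizer ({z} : Set G)).subtype, q * α * q⁻¹ = α * z) := by
  classical
  have : Fact (Nat.Prime 2) := ⟨Nat.prime_two⟩
  set C : Subgroup G := Subgroup.centralizer ({z} : Set G) with hC
  set F : Subgroup ↥C := Cfsg.generalizedFittingSubgroup ↥C with hF
  set Q : Subgroup G := F.map C.subtype with hQdef
  have hz2 : z * z = 1 := by rw [← pow_two, ← hz, pow_orderOf_eq_one]
  have hz1 : z ≠ 1 := by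
    rintro rfl
    rw [orderOf_one] at hz
    omega
  have hα2 : α * α = 1 := by rw [← pow_two, ← hα, pow_orderOf_eq_one]
  have hzinv : z⁻¹ = z := inv_eq_of_mul_eq_one_left hz2
  have hCz : ∀ c ∈ C, z * c = c * z := by
    intro c hc
    exact (Subgroup.mem_centralizer_iff.mp hc z rfl)
  have hFn : F.Normal := Cfsg.Agent.Lib.Helper29_Local.generalizedFittingSubgroup_normal ↥C
  have hcent : Subgroup.centralizer (F : Set ↥C) ≤ F :=
    Cfsg.Agent.Lib.Helper21_FStar.centralizer_generalizedFitting_le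
  -- `z` as an element of `C`, `F`
  set zC : ↥C := ⟨z, by rw [hC, Subgroup.mem_centralizer_iff]; rintro _ rfl; rfl⟩ with hzC
  have hzCc : ∀ c : ↥C, zC * c = c * zC := fun c => Subtype.ext (hCz c c.2)
  have hzF : zC ∈ F := by
    apply hcent
    rw [Subgroup.mem_centralizer_iff]
    intro c _
    exact (hzCc c).symm
  set zF : ↥F := ⟨zC, hzF⟩ with hzFdef
  have hzFcen : zF ∈ Subgroup.center ↥F := by
    rw [Subgroup.mem_center_iff]
    intro y
    exact Subtype.ext (hzCc y.1).symm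
  have hzF1 : zF ≠ 1 := by
    intro h
    apply hz1
    have h' : ((zF : ↥C) : G) = ((1 : ↥F) : ↥C) := congrArg (fun w : ↥F => ((w : ↥C) : G)) h
    exact h'
  obtain ⟨⟨hP, hfrat, hcomm⟩, hcard⟩ := hE
  -- the centre of `F` is `{1, zF}`
  have hcen : ∀ x : ↥F, x ∈ Subgroup.center ↥F → x = 1 ∨ x = zF := by
    intro x hx
    by_contra hno
    push Not at hno
    obtain ⟨y, -, hy⟩ := (Nat.card_eq_two_iff' (1 : ↥(Subgroup.center ↥F))).mp hcard
    have h1 := hy ⟨x, hx⟩ (fun h => hno.1 (congrArg Subtype.val h))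
    have h2 := hy ⟨zF, hzFcen⟩ (fun h => hzF1 (congrArg Subtype.val h))
    apply hno.2
    have := h1.trans h2.symm
    exact congrArg Subtype.val this
  have hcommF : ∀ x y : ↥F, x * y = y * x ∨ x * y = zF * (y * x) := by
    intro x y
    have h1 : x * y * x⁻¹ * y⁻¹ ∈ commutator ↥F := by
      rw [commutator_def]
      have := Subgroup.commutator_mem_commutator (Subgroup.mem_top x) (Subgroup.mem_top y)
      rwa [commutatorElement_def] at this
    rw [hcomm] at h1
    rcases hcen _ h1 with h2 | h2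
    · left
      have := congrArg (fun w => w * y * x) h2
      simpa [mul_assoc] using this
    · right
      have := congrArg (fun w => w * y * x) h2
      simpa [mul_assoc] using this
  have hsqF : ∀ x : ↥F, x * x = 1 ∨ x * x = zF := by
    intro x
    have h1 : x ^ 2 ∈ frattini ↥F :=
      Cfsg.Agent.Lib.Helper1_Frattini.pow_mem_frattini_of_isPGroup hP x
    rw [hfrat, pow_two] at h1
    exact hcen _ h1
  -- transfer to `G`
  let ι : ↥F →* G := C.subtype.comp F.subtype
  have hιinj : Function.Injective ι := fun a b hab => Subtype.ext (Subtype.ext hab)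
  have hιz : ι zF = z := rfl
  have hQι : ∀ q, q ∈ Q ↔ ∃ x : ↥F, ι x = q := by
    intro q
    constructor
    · rintro ⟨c, hc, rfl⟩
      exact ⟨⟨c, hc⟩, rfl⟩
    · rintro ⟨x, rfl⟩
      exact ⟨x.1, x.2, rfl⟩
  have hQC : Q ≤ C := by
    rintro _ ⟨c, -, rfl⟩
    exact c.2
  have hES : ES Q z := by
    refine ⟨hz1, hz2, (hQι z).mpr ⟨zF, hιz⟩, fun q hq => hCz q (hQC hq), ?_, ?_⟩
    · intro x hx hall
      obtain ⟨x', rfl⟩ := (hQι x).mp hx
      have hx'c : x' ∈ Subgroup.center ↥F := by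
        rw [Subgroup.mem_center_iff]
        intro y
        apply hιinj
        rw [map_mul, map_mul]
        exact (hall (ι y) ((hQι _).mpr ⟨y, rfl⟩)).symm
      rcases hcen x' hx'c with h | h
      · left; rw [h, map_one]
      · right; rw [h, hιz]
    · intro x hx y hy
      obtain ⟨x', rfl⟩ := (hQι x).mp hx
      obtain ⟨y', rfl⟩ := (hQι y).mp hy
      rcases hcommF x' y' with h | h
      · left
        rw [← map_mul, ← map_mul, h]
      · right
        rw [← map_mul, h, map_mul, map_mul, hιz]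
  have hsq : ∀ x ∈ Q, x * x = 1 ∨ x * x = z := by
    intro x hx
    obtain ⟨x', rfl⟩ := (hQι x).mp hx
    rcases hsqF x' with h | h
    · left; rw [← map_mul, h, map_one]
    · right; rw [← map_mul, h, hιz]
  set αC : ↥C := ⟨α, hαC⟩ with hαCdef
  have hαN : ∀ q ∈ Q, α * q * α⁻¹ ∈ Q := by
    rintro _ ⟨c, hc, rfl⟩
    exact ⟨αC * c * αC⁻¹, hFn.conj_mem c hc αC, rfl⟩
  have hαne : ∃ q ∈ Q, α * q ≠ q * α := by
    by_contra hno
    push Not at hno
    apply hαQ
    refine ⟨αC, ?_, rfl⟩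
    apply hcent
    rw [Subgroup.mem_centralizer_iff]
    intro c hc
    apply Subtype.ext
    exact (hno c ⟨c, hc, rfl⟩).symm
  have hQ₀' : ∀ q, q ∈ Q₀ ↔ q ∈ Q ∧ (α * q * α⁻¹ * q⁻¹ = 1 ∨ α * q * α⁻¹ * q⁻¹ = z) := by
    intro q
    rw [hQ₀ q, mem_zpowers_of_sq hz2]
  refine ⟨main_a hES Q₀ α hsq hαN hα2 (hCz α hαC).symm hαne hQ₀', ?_⟩
  intro hnle
  obtain ⟨q, hq₀, hqn⟩ := SetLike.not_le_iff_exists.mp hnle
  obtain ⟨hqQ, hφ⟩ := (hQ₀' q).mp hq₀
  refine ⟨q, hqQ, ?_⟩
  rcases hφ with h1 | h1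
  · exfalso
    apply hqn
    apply (le_sup_left : Q ⊓ Subgroup.centralizer ({α} : Set G) ≤ _)
    refine ⟨hqQ, ?_⟩
    change q ∈ Subgroup.centralizer ({α} : Set G)
    rw [Subgroup.mem_centralizer_iff]
    intro a ha
    rw [Set.mem_singleton_iff.mp ha]
    have := congrArg (fun w => w * q * α) h1
    simpa [mul_assoc] using this
  · have hαinv : α⁻¹ = α := inv_eq_of_mul_eq_one_left hα2
    have e : q * α * q⁻¹ = (α * q * α⁻¹ * q⁻¹)⁻¹ * α := by
      rw [hαinv]
      calc q * α * q⁻¹ = q * α * q⁻¹ * (α * α) := by rw [hα2, mul_one]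
        _ = (α * q * α * q⁻¹)⁻¹ * α := by
          rw [mul_inv_rev, mul_inv_rev, mul_inv_rev, inv_inv, hαinv]; group
    rw [e, h1, hzinv]
    exact hCz α hαC

end Cfsg.Agent.S1784
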