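-- Statement S0633: Hall–Higman Theorem B (general p-solvable form).
import Mathlib
import Cfsg.Statements.S0633
import Cfsg.Agent.Lib.Helper64_HHBOuter
import Cfsg.Agent.Lib.Helper71_HHB

set_option autoImplicit false
open Cfsg

namespace Cfsg.Agent.S0633

open Cfsg.Agent.Lib.Helper64_HHBOuter

/-- Theorem B of Hall and Higman on the minimal polynomial of a p-element of order p^n in a p-solvable linear group on a nonzero vector space in characteristic p with no nontrivial normal p-subgroup: its degree is p^n, except when some p^n₀ - 1 (n₀ ≤ n) is a power of a prime q for which the Sylow q-subgroups are non-abelian, in which case the degree is at least p^(n-n₀)(p^n₀ - 1). -/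
theorem result {F : Type*} [Field F] {p : ℕ} [Fact p.Prime] [CharP F p] {V : Type*} [AddCommGroup V] [Module F V] [FiniteDimensional F V] [Nontrivial V] (H : Subgroup (V ≃ₗ[F] V)) [Finite H] (hsol : Cfsg.IsPSolvable p H) (hOp : Cfsg.pCore p H = ⊥) (x : V ≃ₗ[F] V) (hx : x ∈ H) (n : ℕ) (hn : orderOf x = p ^ n) (r : ℕ) (hr : minpoly F (x : Module.End F V) = (Polynomial.X - 1) ^ r) : r = p ^ n ∨ ∃ n₀ q m : ℕ, 1 ≤ n₀ ∧ n₀ ≤ n ∧ q.Prime ∧ 1 ≤ m ∧ p ^ n₀ - 1 = q ^ m ∧ (∀ Q : Sylow q H, ¬ IsMulCommutative Q) ∧ p ^ (n - n₀) * (p ^ n₀ - 1) ≤ r := by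
  classical
  have hpp : p.Prime := Fact.out
  -- powers of `x` as endomorphisms
  have hpowE : ∀ k : ℕ, ((x ^ k : V ≃ₗ[F] V) : Module.End F V) = (x : Module.End F V) ^ k := by
    intro k
    exact map_pow (LinearEquiv.automorphismGroup.toLinearMapMonoidHom (R := F) (M := V)) x k
  have hxpn : (x : Module.End F V) ^ p ^ n = 1 := by
    rw [← hpowE, ← hn, pow_orderOf_eq_one]; rfl
  -- `r ≤ p ^ n`
  have hrle : r ≤ p ^ n := by
    apply le_of_pow_eq_zero _ r hr
    rw [sub_one_pow_char_pow' p, hxpn, sub_self]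
  have hlt : ∀ j : ℕ, ((x : Module.End F V) - 1) ^ j ≠ 0 → j < r :=
    fun j => (pow_ne_zero_iff_lt _ r hr j).mp
  cases n with
  | zero =>
    left
    have h0 : ((x : Module.End F V) - 1) ^ 0 ≠ 0 := by
      rw [pow_zero]; exact one_ne_zero
    have := hlt 0 h0
    rw [pow_zero] at hrle ⊢
    omega
  | succ n =>
    have hxo : orderOf (⟨x, hx⟩ : H) = p ^ (n + 1) := by
      rw [← hn, ← Subgroup.orderOf_coe]
    obtain ⟨q, hq, hpq, Q, hQ, hinv, g, hg, hcomm⟩ := exists_q_subgroup p hsol hOp ⟨x, hx⟩ n hxo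
    have hqf : Fact q.Prime := ⟨hq⟩
    -- base change
    let K := AlgebraicClosure F
    let b := Module.finBasis F V
    let Ψ : H →* _ := (bcGL (K := K) b).comp H.subtype
    have hΨ : Function.Injective Ψ := by
      intro u v huv
      exact Subtype.ext (bcGL_injective b huv)
    have hcharK : CharP K p :=
      charP_of_injective_algebraMap (algebraMap F K).injective p
    have hfin : Finite (Q.map Ψ) := by
      have : Finite Q := inferInstance
      exact Finite.of_surjective (fun a : Q => (⟨Ψ a, a, a.2, rfl⟩ : Q.map Ψ))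
        (by rintro ⟨_, a, ha, rfl⟩; exact ⟨⟨a, ha⟩, rfl⟩)
    have hΨx : Ψ ⟨x, hx⟩ = bcGL (K := K) b x := rfl
    have h1 : (Ψ ⟨x, hx⟩) ^ p ^ (n + 1) = 1 := by
      rw [← map_pow, ← hxo, pow_orderOf_eq_one, map_one]
    have h2 : ∀ g ∈ Q.map Ψ, Ψ ⟨x, hx⟩ * g * (Ψ ⟨x, hx⟩)⁻¹ ∈ Q.map Ψ := by
      rintro _ ⟨a, ha, rfl⟩
      refine ⟨⟨x, hx⟩ * a * (⟨x, hx⟩ : H)⁻¹, hinv a ha, ?_⟩
      simp only [map_mul, map_inv]
    have h3 : ∃ g ∈ Q.map Ψ, ¬ Commute ((Ψ ⟨x, hx⟩) ^ p ^ n) g := by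
      refine ⟨Ψ g, ⟨g, hg, rfl⟩, ?_⟩
      intro hc
      apply hcomm
      have : Ψ ((⟨x, hx⟩ : H) ^ p ^ n * g) = Ψ (g * (⟨x, hx⟩ : H) ^ p ^ n) := by
        rw [map_mul, map_mul, map_pow]; exact hc.eq
      exact hΨ this
    -- transfer of nonvanishing
    have htr : ∀ j : ℕ, (((Ψ ⟨x, hx⟩ : (Fin (Module.finrank F V) → K) ≃ₗ[K] _) :
        Module.End K (Fin (Module.finrank F V) → K)) - 1) ^ j ≠ 0 → j < r := by
      intro j hj
      apply hlt j
      intro h0
      apply hj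
      rw [hΨx, bcGL_coe, ← map_one (bcEnd (K := K) b), ← map_sub, ← map_pow, h0, map_zero]
    rcases Cfsg.Agent.Lib.Helper71_HHB.core p q hpq n (Ψ ⟨x, hx⟩) h1 (Q.map Ψ) (hQ.map Ψ) h2 h3
      with hA | ⟨n₀, m, hn₀1, hn₀n, hm, hpm, hnc, hB⟩
    · left
      have := htr _ hA
      have hpos : 0 < p ^ (n + 1) := pow_pos hpp.pos _
      omega
    · right
      refine ⟨n₀, q, m, hn₀1, hn₀n, hq, hm, hpm, ?_, ?_⟩
      · intro S
        exact sylow_not_comm Q hQ (not_comm_of_map Ψ Q hnc) S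
      · have := htr _ hB
        omega
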