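import Cfsg.Statements.S3880
import Cfsg.Agent.Lib.Helper64_Metacyclic
import Mathlib

set_option autoImplicit false
open Cfsg

namespace Cfsg.Agent.S3880

open Cfsg.Agent.Lib.Helper64_Metacyclic

/-- the key equivalence: `L` abelian iff `|L| ≤ |G : G'|`. -/
theorem key {G : Type*} [Group G] [Finite G] {p : ℕ} [Fact p.Prime] (hp : p ≠ 2)
    (hG : IsPGroup p G) (hmc : Cfsg.IsMetacyclic G) (L : Subgroup G) :
    IsMulCommutative ↥L ↔ Nat.card ↥L ≤ (commutator G).index := by
  classical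
  have hpp : p.Prime := Fact.out
  obtain ⟨A, hAn, hAc, hQc⟩ := hmc
  obtain ⟨⟨a, haA⟩, ha⟩ := hAc.exists_generator
  have hApow : ∀ x ∈ A, ∃ i : ℕ, a ^ i = x := by
    intro x hx
    have h1 := ha ⟨x, hx⟩
    rw [← mem_powers_iff_mem_zpowers, Submonoid.mem_powers_iff] at h1
    obtain ⟨i, hi⟩ := h1
    exact ⟨i, by simpa using congrArg Subtype.val hi⟩
  obtain ⟨q, hq⟩ := hQc.exists_generator
  obtain ⟨b, rfl⟩ := QuotientGroup.mk_surjective q
  have hgen : A ⊔ Subgroup.zpowers b = ⊤ := by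
    rw [eq_top_iff]
    intro g _
    obtain ⟨k, hk⟩ := Subgroup.mem_zpowers_iff.mp (hq (g : G ⧸ A))
    have h1 : (b ^ k)⁻¹ * g ∈ A := by
      rw [← QuotientGroup.eq]
      simpa using hk
    have h2 : g = b ^ k * ((b ^ k)⁻¹ * g) := by group
    rw [h2]
    exact Subgroup.mul_mem _ (Subgroup.mem_sup_right (Subgroup.zpow_mem_zpowers b k))
      (Subgroup.mem_sup_left h1)
  have hψa : b * a * b⁻¹ * a⁻¹ ∈ A := A.mul_mem (hAn.conj_mem a haA b) (A.inv_mem haA)
  obtain ⟨w, hw⟩ := hApow _ hψa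
  -- orders
  obtain ⟨m, hm⟩ : ∃ m, orderOf a = p ^ m := by
    obtain ⟨k, hk⟩ := hG a
    obtain ⟨m, -, hm⟩ := (Nat.dvd_prime_pow hpp).mp (orderOf_dvd_of_pow_eq_one hk)
    exact ⟨m, hm⟩
  have hAz : A = Subgroup.zpowers a := by
    apply le_antisymm
    · intro x hx
      obtain ⟨i, rfl⟩ := hApow x hx
      exact Subgroup.pow_mem _ (Subgroup.mem_zpowers a) i
    · rw [Subgroup.zpowers_le]; exact haA
  have hcardA : Nat.card A = p ^ m := by rw [hAz, Nat.card_zpowers, hm]
  -- the generator of `L ⊓ A`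
  have hBle : L ⊓ A ≤ Subgroup.zpowers a := hAz ▸ inf_le_right
  obtain ⟨n, hn⟩ := (Subgroup.le_zpowers_iff a (L ⊓ A)).mp hBle
  set x := a ^ n with hx
  have hxA : x ∈ A := A.pow_mem haA n
  have hxL : x ∈ L := by
    have : x ∈ L ⊓ A := by rw [hn]; exact Subgroup.mem_zpowers x
    exact this.1
  obtain ⟨m', hm'⟩ : ∃ m', orderOf x = p ^ m' := by
    obtain ⟨k, hk⟩ := hG x
    obtain ⟨m', -, hm'⟩ := (Nat.dvd_prime_pow hpp).mp (orderOf_dvd_of_pow_eq_one hk)
    exact ⟨m', hm'⟩
  have hcardB : Nat.card (L ⊓ A : Subgroup G) = p ^ m' := by rw [hn, Nat.card_zpowers, hm']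
  have hm'm : m' ≤ m := by
    have h1 : orderOf x ∣ orderOf a := orderOf_pow_dvd n
    rw [hm, hm'] at h1
    exact (Nat.pow_dvd_pow_iff_le_right hpp.one_lt).mp h1
  set Z : Subgroup G := Subgroup.centralizer ({x} : Set G) with hZ
  have hAZ : A ≤ Z := le_centralizer A a haA hApow hxA
  -- Claim 1: `L` abelian iff `L ≤ Z`
  have claim1 : IsMulCommutative ↥L ↔ L ≤ Z := by
    constructor
    · intro hL l hl
      rw [hZ, Subgroup.mem_centralizer_singleton_iff]
      exact congrArg Subtype.val (mul_comm' (⟨l, hl⟩ : L) ⟨x, hxL⟩)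
    · intro hLZ
      let f : L →* G ⧸ A := (QuotientGroup.mk' A).comp L.subtype
      have hker : f.ker ≤ Subgroup.center L := by
        intro y hy
        rw [MonoidHom.mem_ker] at hy
        have hyA : (y : G) ∈ A := by
          have : ((y : G) : G ⧸ A) = 1 := hy
          exact (QuotientGroup.eq_one_iff (y : G)).mp this
        have hyB : (y : G) ∈ L ⊓ A := ⟨y.2, hyA⟩
        rw [hn] at hyB
        obtain ⟨k, hk⟩ := Subgroup.mem_zpowers_iff.mp hyB
        rw [Subgroup.mem_center_iff]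
        intro l
        apply Subtype.ext
        show (l : G) * (y : G) = (y : G) * (l : G)
        have hl : (l : G) * x = x * (l : G) := by
          have := hLZ l.2
          rwa [hZ, Subgroup.mem_centralizer_singleton_iff] at this
        rw [← hk]
        exact (Commute.zpow_right (show Commute (l : G) x from hl) k).eq
      exact MonoidHom.isMulCommutative_of_isCyclic_of_ker_le_center f hker
  -- Claim 2: `L ≤ Z` iff `|L ⊔ A| ≤ |Z|`
  have claim2 : L ≤ Z ↔ Nat.card (L ⊔ A : Subgroup G) ≤ Nat.card Z := by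
    constructor
    · intro h
      exact Subgroup.card_le_of_le (sup_le h hAZ)
    · intro h
      exact le_sup_left.trans (le_of_card_le_of_le hG A (L ⊔ A) Z le_sup_right hAZ h)
  -- product formula
  have hprod : Nat.card L * Nat.card A = Nat.card (L ⊔ A : Subgroup G) * Nat.card (L ⊓ A : Subgroup G) := by
    have h1 : A.relIndex (L ⊔ A) = A.relIndex L := Subgroup.relIndex_sup_right L A
    have h2 : A.relIndex (L ⊔ A) * Nat.card A = Nat.card (L ⊔ A : Subgroup G) := by
      rw [Subgroup.relIndex, ← Nat.card_congr (Subgroup.subgroupOfEquivOfLe (le_sup_right : A ≤ L ⊔ A)).toEquiv]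
      exact Subgroup.index_mul_card _
    have h3 : (L ⊓ A).relIndex L * Nat.card (L ⊓ A : Subgroup G) = Nat.card L := by
      rw [Subgroup.relIndex, ← Nat.card_congr (Subgroup.subgroupOfEquivOfLe (inf_le_left : L ⊓ A ≤ L)).toEquiv]
      exact Subgroup.index_mul_card _
    have h4 : (L ⊓ A).relIndex L = A.relIndex L := by
      rw [inf_comm]; exact Subgroup.inf_relIndex_right A L
    rw [← h2, ← h3, h1, h4]; ring
  -- numerics
  have hidxZ := index_centralizer_eq A a b w haA hApow hgen hw hp hG hxA hm'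
  have hcardC := card_centralizer_eq A a b w haA hApow hgen hw hp hG
  have hidxC := index_centralizer_eq A a b w haA hApow hgen hw hp hG haA hm
  obtain ⟨s, hsm, hs⟩ := (Nat.dvd_prime_pow hpp).mp (Nat.gcd_dvd_left (p ^ m) w)
  have hgcd' : Nat.gcd (p ^ m') w = p ^ (min m' s) := by
    have e1 : Nat.gcd (p ^ m') w = Nat.gcd (p ^ m') (Nat.gcd (p ^ m) w) := by
      rw [← Nat.gcd_assoc, Nat.gcd_eq_left (pow_dvd_pow p hm'm)]
    rw [e1, hs]
    rcases le_total m' s with h | h
    · rw [min_eq_left h, Nat.gcd_eq_left (pow_dvd_pow p h)]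
    · rw [min_eq_right h, Nat.gcd_eq_right (pow_dvd_pow p h)]
  rw [hgcd'] at hidxZ
  rw [hs] at hidxC
  have hidxZ' : Z.index = p ^ (m' - min m' s) := by
    rw [hidxZ, Nat.pow_div (min_le_left _ _) hpp.pos]
  have hidxC' : (Subgroup.centralizer ({a} : Set G)).index = p ^ (m - s) := by
    rw [hidxC, Nat.pow_div hsm hpp.pos]
  set N := Nat.card G with hN
  have eZ : Nat.card Z * p ^ (m' - min m' s) = N := by
    rw [← hidxZ']; exact Subgroup.card_mul_index Z
  have eC : (commutator G).index * p ^ (m - s) = N := by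
    rw [← hcardC, ← hidxC']; exact Subgroup.card_mul_index _
  have hXle : Nat.card (L ⊔ A : Subgroup G) ≤ N := Subgroup.card_le_card_group _
  rw [hcardA, hcardB] at hprod
  rw [claim1, claim2]
  have hpos : ∀ k : ℕ, 0 < p ^ k := fun k => pow_pos hpp.pos k
  -- abbreviations
  set X := Nat.card (L ⊔ A : Subgroup G) with hXdef
  set l := Nat.card L with hl
  set c := (commutator G).index with hc
  set z := Nat.card Z with hz
  -- l * p^m = X * p^m'
  rcases le_total s m' with hsm' | hsm'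
  · -- min = s
    rw [min_eq_right hsm'] at eZ
    -- X ≤ z ↔ X * p^(m'-s) ≤ N ↔ X * p^m' ≤ N * p^s ↔ l * p^m ≤ N * p^s ↔ l * p^(m-s) ≤ N ↔ l ≤ c
    have a1 : X ≤ z ↔ X * p ^ (m' - s) ≤ N := by
      rw [← eZ]; exact (Nat.mul_le_mul_right_iff (hpos _)).symm
    have a2 : l ≤ c ↔ l * p ^ (m - s) ≤ N := by
      rw [← eC]; exact (Nat.mul_le_mul_right_iff (hpos _)).symm
    have a3 : X * p ^ (m' - s) ≤ N ↔ X * p ^ (m' - s) * p ^ s ≤ N * p ^ s :=
      (Nat.mul_le_mul_right_iff (hpos _)).symm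
    have a4 : l * p ^ (m - s) ≤ N ↔ l * p ^ (m - s) * p ^ s ≤ N * p ^ s :=
      (Nat.mul_le_mul_right_iff (hpos _)).symm
    have a5 : X * p ^ (m' - s) * p ^ s = l * p ^ (m - s) * p ^ s := by
      rw [mul_assoc, ← pow_add, Nat.sub_add_cancel hsm', mul_assoc, ← pow_add,
        Nat.sub_add_cancel hsm, hprod]
    rw [a1, a2, a3, a4, a5]
  · -- min = m'
    rw [min_eq_left hsm', Nat.sub_self, pow_zero, mul_one] at eZ
    have a1 : X ≤ z := by rw [eZ]; exact hXle
    have a2 : l ≤ c ↔ l * p ^ (m - s) ≤ N := by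
      rw [← eC]; exact (Nat.mul_le_mul_right_iff (hpos _)).symm
    have a4 : l * p ^ (m - s) ≤ N ↔ l * p ^ (m - s) * p ^ s ≤ N * p ^ s :=
      (Nat.mul_le_mul_right_iff (hpos _)).symm
    have a5 : l * p ^ (m - s) * p ^ s = X * p ^ m' := by
      rw [mul_assoc, ← pow_add, Nat.sub_add_cancel hsm, hprod]
    have a6 : X * p ^ m' ≤ N * p ^ s :=
      Nat.mul_le_mul hXle (Nat.pow_le_pow_right hpp.pos hsm')
    constructor
    · intro _
      rw [a2, a4, a5]; exact a6
    · intro _; exact a1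

/-- Let p be an odd prime and G a finite metacyclic p-group (G has a cyclic normal subgroup with cyclic quotient). Then a subgroup L of G is abelian if and only if |L| ≤ |G : G'|, and L is a maximal abelian subgroup of G if and only if |L| = |G : G'|. -/
theorem result {G : Type*} [Group G] [Finite G] {p : ℕ} [Fact p.Prime] (hp : p ≠ 2) (hG : IsPGroup p G) (hmc : Cfsg.IsMetacyclic G) (L : Subgroup G) :
    (IsMulCommutative ↥L ↔ Nat.card ↥L ≤ (commutator G).index) ∧
      (Maximal (fun K : Subgroup G => IsMulCommutative ↥K) L ↔ Nat.card ↥L = (commutator G).index) := by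
  have hpp : p.Prime := Fact.out
  refine ⟨key hp hG hmc L, ?_⟩
  constructor
  · intro hmax
    have hle := (key hp hG hmc L).mp hmax.1
    by_contra hne
    have hlt : Nat.card L < (commutator G).index := lt_of_le_of_ne hle hne
    obtain ⟨n, hn⟩ := IsPGroup.iff_card.mp hG
    obtain ⟨l, hl⟩ := IsPGroup.iff_card.mp (hG.to_subgroup L)
    obtain ⟨e, -, he⟩ := (Nat.dvd_prime_pow hpp).mp
      (hn ▸ Subgroup.index_dvd_card (commutator G))
    rw [hl, he] at hlt
    have hle' : l + 1 ≤ e := (Nat.pow_lt_pow_iff_right hpp.one_lt).mp hlt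
    have hdvd : p ^ (l + 1) ∣ Nat.card G := by
      have h1 : p ^ (l + 1) ∣ p ^ e := pow_dvd_pow p hle'
      exact h1.trans (he ▸ Subgroup.index_dvd_card (commutator G))
    obtain ⟨K, hK, hLK⟩ := Sylow.exists_subgroup_card_pow_prime_le p hdvd L hl (Nat.le_succ l)
    have hKc : IsMulCommutative ↥K := by
      rw [key hp hG hmc K, hK, he]
      exact Nat.pow_le_pow_right hpp.pos hle'
    have hKL : K ≤ L := hmax.2 hKc hLK
    have := Subgroup.card_le_of_le hKL
    rw [hK, hl] at this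
    have h2 : p ^ l < p ^ (l + 1) := Nat.pow_lt_pow_right hpp.one_lt (Nat.lt_succ_self l)
    omega
  · intro heq
    refine ⟨(key hp hG hmc L).mpr heq.le, ?_⟩
    intro K hK hLK
    have h1 := (key hp hG hmc K).mp hK
    rw [← heq] at h1
    exact (Subgroup.eq_of_le_of_card_ge hLK h1).ge

end Cfsg.Agent.S3880
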