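-- Statement S3895: k₂(G) > |P|/2 iff G has a normal 2-complement and k(P) > |P|/2.
-- Proof: via the Z*-theorem (S0215) extended to arbitrary 2-elements; see Lib/Helper4_TwoClasses.
import Cfsg.Statements.S3895
import Cfsg.Agent.Lib.Helper4_TwoClasses
import Cfsg.Agent.Lib.Helper35_FrobeniusNPC

set_option autoImplicit false
open Cfsg

namespace Cfsg.Agent.S3895

open Cfsg.Agent.Lib.Helper4_TwoClasses Cfsg.Agent.Lib.Helper35_FrobeniusNPC

/-- Let G be a finite group with Sylow 2-subgroup P, and write k₂(G) for the number of conjugacy classes of G consisting of 2-elements (elements of 2-power order, the identity included). Then k₂(G) > |P|/2 if and only if G has a normal 2-complement and P has more than |P|/2 conjugacy classes. -/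
theorem result {G : Type*} [Group G] [Finite G] (P : Sylow 2 G) :
    Nat.card ↥(P : Subgroup G) < 2 * Nat.card {c : ConjClasses G // ∀ x ∈ c.carrier, ∃ k : ℕ, orderOf x = 2 ^ k} ↔
      Cfsg.HasNormalPComplement 2 G ∧ Nat.card ↥(P : Subgroup G) < 2 * Nat.card (ConjClasses ↥(P : Subgroup G)) := by
  have : Fact (Nat.Prime 2) := ⟨Nat.prime_two⟩
  constructor
  · intro h
    obtain ⟨K, hKn, hKc, n, hKi⟩ := hasNPC_of_many P h
    refine ⟨⟨P, K, hKn, isComplement'_of_npc hKc hKi P⟩, ?_⟩
    have h1 : Nat.card {c : ConjClasses G // ∀ x ∈ c.carrier, ∃ k : ℕ, orderOf x = 2 ^ k} ≤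
        Nat.card (ConjClasses ↥(P : Subgroup G)) := card_K2_le_card_conjClasses P
    omega
  · rintro ⟨⟨P', N, hN, hc⟩, h2⟩
    have hnpc : HasNPC 2 G := hasNPC_of_isComplement' hN P' hc
    have h1 : Nat.card (ConjClasses ↥(P : Subgroup G)) ≤
        Nat.card {c : ConjClasses G // ∀ x ∈ c.carrier, ∃ k : ℕ, orderOf x = 2 ^ k} :=
      card_conjClasses_le_card_K2 (frobHyp_of_hasNPC hnpc) P
    omega

end Cfsg.Agent.S3895
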