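import Cfsg.Statements.S0228
import Cfsg.Agent.Lib.Helper17_Sylow
import Cfsg.Agent.Lib.Helper5_PSLCard
import Cfsg.Agent.Lib.Helper4_InvPairs

set_option autoImplicit false
open Cfsg

namespace Cfsg.Agent.S0228

open Cfsg.Agent.Lib.Helper17_Sylow Cfsg.Agent.Lib.Helper4_InvPairs

/-- case A: a non-normal subgroup of order 3 in a group of order 12 gives `A₄`. -/
theorem iso_of_not_normal {G : Type*} [Group G] [Finite G] (hG : Nat.card G = 12)
    (P : Subgroup G) (hP : Nat.card P = 3) (hn : ¬ P.Normal) :
    Nonempty (G ≃* alternatingGroup (Fin 4)) := by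
  have hcore : P.normalCore = ⊥ := by
    have hle := P.normalCore_le
    have hdvd := Subgroup.card_dvd_of_le hle
    rw [hP] at hdvd
    rcases (Nat.dvd_prime Nat.prime_three).mp hdvd with h | h
    · exact Subgroup.card_eq_one.mp h
    · exfalso
      apply hn
      have : P.normalCore = P := Subgroup.eq_of_le_of_card_ge hle (by rw [h, hP])
      rw [← this]
      exact P.normalCore_normal
  have hinj : Function.Injective (MulAction.toPermHom G (G ⧸ P)) := by
    rw [← MonoidHom.ker_eq_bot_iff, ← Subgroup.normalCore_eq_ker]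
    exact hcore
  have hidx : P.index = 4 := by
    have := Subgroup.card_mul_index P
    rw [hP, hG] at this
    omega
  have hcard : Nat.card (G ⧸ P) = 4 := hidx
  have : Finite (G ⧸ P) := Nat.finite_of_card_ne_zero (by rw [hcard]; norm_num)
  let e : (G ⧸ P) ≃ Fin 4 := Finite.equivFinOfCardEq hcard
  let f : G →* Equiv.Perm (Fin 4) :=
    (e.permCongrHom.toMonoidHom).comp (MulAction.toPermHom G (G ⧸ P))
  have hf : Function.Injective f := by
    intro a b hab
    apply hinj
    exact e.permCongrHom.injective hab
  exact Cfsg.Agent.Lib.Helper5_PSLCard.mulEquiv_alternatingGroup_of_injective f hf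
    (by rw [hG]; rfl)

/-- case B: a normal subgroup of order 3 in a group of order 12 yields a central involution. -/
theorem exists_central_involution {G : Type*} [Group G] [Finite G] (hG : Nat.card G = 12)
    (P : Subgroup G) (hP : Nat.card P = 3) (hn : P.Normal) :
    ∃ z : G, orderOf z = 2 ∧ z ∈ Subgroup.center G := by
  haveI : Fact (Nat.Prime 3) := ⟨Nat.prime_three⟩
  haveI : Fact (Nat.Prime 2) := ⟨Nat.prime_two⟩
  set C := Subgroup.centralizer (P : Set G) with hC
  -- index of C divides 2
  have hidx : C.index ∣ 2 := by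
    have h := relIndex_centralizer_normalizer_dvd_pred (p := 3) P hP
    rw [Subgroup.normalizer_eq_top, Subgroup.relIndex_top_right] at h
    exact h
  -- Sylow 2-subgroup of order 4
  obtain ⟨S⟩ : Nonempty (Sylow 2 G) := inferInstance
  have hS : Nat.card (S : Subgroup G) = 2 ^ 2 :=
    card_sylow_eq_pow (p := 2) (k := 2) (m := 3) (by rw [hG]; norm_num) (by decide) S
  have hScomm : ∀ a b : (S : Subgroup G), a * b = b * a :=
    (IsPGroup.isMulCommutative_of_card_eq_prime_sq hS).is_comm.comm
  -- S ⊓ C is nontrivial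
  have hSC : (S : Subgroup G) ⊓ C ≠ ⊥ := by
    intro hbot
    -- then S injects into G ⧸ C
    have hinj : Function.Injective (fun s : (S : Subgroup G) => ((s : G) : G ⧸ C)) := by
      intro a b hab
      have h1 : (a : G)⁻¹ * (b : G) ∈ C := QuotientGroup.eq.mp hab
      have h2 : (a : G)⁻¹ * (b : G) ∈ (S : Subgroup G) ⊓ C :=
        ⟨(S : Subgroup G).mul_mem ((S : Subgroup G).inv_mem a.2) b.2, h1⟩
      rw [hbot, Subgroup.mem_bot] at h2
      ext
      have : (b : G) = (a : G) := by
        have := congrArg (fun w => (a : G) * w) h2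
        simpa using this
      exact this.symm
    have hidxpos : C.index ≠ 0 := by
      intro h0; rw [h0] at hidx; omega
    have h3 := Nat.card_le_card_of_injective _ hinj
    rw [hS] at h3
    have h4 : Nat.card (G ⧸ C) = C.index := rfl
    have h5 := Nat.le_of_dvd (by norm_num) hidx
    omega
  -- an involution in S ⊓ C
  have hp2 : IsPGroup 2 ((S : Subgroup G) ⊓ C : Subgroup G) :=
    S.isPGroup'.to_le inf_le_left
  obtain ⟨z, hz⟩ : ∃ z : ((S : Subgroup G) ⊓ C : Subgroup G), orderOf z = 2 := by
    obtain ⟨n, hn⟩ := IsPGroup.iff_card.mp hp2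
    have hn0 : n ≠ 0 := by
      rintro rfl
      rw [pow_zero] at hn
      exact hSC (Subgroup.card_eq_one.mp hn)
    exact exists_prime_orderOf_dvd_card' 2 (by rw [hn]; exact dvd_pow_self 2 hn0)
  have hzord : orderOf (z : G) = 2 := by rw [Subgroup.orderOf_coe]; exact hz
  have hzS : (z : G) ∈ (S : Subgroup G) := z.2.1
  have hzC : (z : G) ∈ C := z.2.2
  refine ⟨z, hzord, ?_⟩
  -- the centralizer of z contains S and P
  have hSle : (S : Subgroup G) ≤ Subgroup.centralizer ({(z : G)} : Set G) := by
    intro s hs
    rw [Subgroup.mem_centralizer_iff]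
    intro y hy
    rw [Set.mem_singleton_iff] at hy
    subst hy
    have := hScomm ⟨z, hzS⟩ ⟨s, hs⟩
    exact congrArg Subtype.val this
  have hPle : P ≤ Subgroup.centralizer ({(z : G)} : Set G) := by
    intro x hx
    rw [Subgroup.mem_centralizer_iff]
    intro y hy
    rw [Set.mem_singleton_iff] at hy
    subst hy
    have hzC' : (z : G) ∈ Subgroup.centralizer (P : Set G) := hzC
    rw [Subgroup.mem_centralizer_iff] at hzC'
    exact (hzC' x hx).symm
  have h4 : 4 ∣ Nat.card (Subgroup.centralizer ({(z : G)} : Set G)) := by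
    have := Subgroup.card_dvd_of_le hSle
    rwa [hS] at this
  have h3 : 3 ∣ Nat.card (Subgroup.centralizer ({(z : G)} : Set G)) := by
    have := Subgroup.card_dvd_of_le hPle
    rwa [hP] at this
  have h12 : 12 ∣ Nat.card (Subgroup.centralizer ({(z : G)} : Set G)) := by
    have : Nat.Coprime 4 3 := by decide
    exact this.mul_dvd_of_dvd_of_dvd h4 h3
  have htop : Subgroup.centralizer ({(z : G)} : Set G) = ⊤ := by
    apply Subgroup.eq_top_of_card_eq
    have hle := Subgroup.card_le_card_group (Subgroup.centralizer ({(z : G)} : Set G))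
    rw [hG] at hle ⊢
    have := Nat.le_of_dvd Nat.card_pos h12
    omega
  rw [Subgroup.mem_center_iff]
  intro g
  have : g ∈ Subgroup.centralizer ({(z : G)} : Set G) := by rw [htop]; trivial
  rw [Subgroup.mem_centralizer_iff] at this
  exact (this z rfl).symm

/-- A group of order 12 in which no involution is central is isomorphic to the alternating group on four letters. -/
theorem result {G : Type*} [Group G] [Finite G] (hG : Nat.card G = 12) (hz : ∀ z : G, orderOf z = 2 → z ∉ Subgroup.center G) : Nonempty (G ≃* alternatingGroup (Fin 4)) := by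
  haveI : Fact (Nat.Prime 3) := ⟨Nat.prime_three⟩
  obtain ⟨P⟩ : Nonempty (Sylow 3 G) := inferInstance
  have hP : Nat.card (P : Subgroup G) = 3 ^ 1 :=
    card_sylow_eq_pow (p := 3) (k := 1) (m := 4) (by rw [hG]; norm_num) (by decide) P
  rw [pow_one] at hP
  by_cases hn : (P : Subgroup G).Normal
  · exfalso
    obtain ⟨z, hzord, hzc⟩ := exists_central_involution hG P hP hn
    exact hz z hzord hzc
  · exact iso_of_not_normal hG P hP hn

end Cfsg.Agent.S0228
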