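import Cfsg.Statements.S0040
import Mathlib
import Cfsg.Agent.Lib.Helper1_FPF
import Cfsg.Agent.S0016

set_option autoImplicit false
open Cfsg

namespace Cfsg.Agent.S0040

/-- Sylow subgroups of Frobenius complements: if H complements a nontrivial normal subgroup K and every nonidentity element of H has trivial centraliser in K, then each Sylow subgroup of H is cyclic or isomorphic to a generalized quaternion group. -/
theorem result {G : Type*} [Group G] [Finite G] (K H : Subgroup G) [K.Normal]
    (hc : Subgroup.IsComplement' K H) (hK : K ≠ ⊥) (hfpf : ∀ h ∈ H, h ≠ 1 → K ⊓ Subgroup.centralizer {h} = ⊥)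
    (p : ℕ) [Fact p.Prime] (P : Sylow p H) :
    IsCyclic P ∨ ∃ n : ℕ, Nonempty (P ≃* QuaternionGroup (2 ^ n)) := by
  classical
  have hHK : H ≤ Subgroup.normalizer (K : Set G) := by
    rw [Subgroup.normalizer_eq_top]; exact le_top
  have hp := (Fact.out : p.Prime)
  have hP : IsPGroup p P := P.isPGroup'
  set ι : P →* G := H.subtype.comp (P : Subgroup H).subtype with hι
  have hιinj : Function.Injective ι :=
    (Subgroup.subtype_injective H).comp (Subgroup.subtype_injective _)
  have hιH : ∀ x : P, ι x ∈ H := fun x => (x : H).2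
  have huniq : ∀ B1 B2 : Subgroup P, Nat.card B1 = p → Nat.card B2 = p → B1 = B2 := by
    intro B1 B2 h1 h2
    --  is nontrivial
    have hB1 : B1 ≠ ⊥ := B1.one_lt_card_iff_ne_bot.mp (by rw [h1]; exact hp.one_lt)
    obtain ⟨⟨b1, hb1⟩, hb1ne⟩ := (Subgroup.ne_bot_iff_exists_ne_one).mp hB1
    have hb1ne' : b1 ≠ 1 := fun h => hb1ne (Subtype.ext h)
    have hnt : Nontrivial P := nontrivial_of_ne b1 1 hb1ne'
    have hcnt : Nontrivial (Subgroup.center P) := hP.center_nontrivial
    have hpc : p ∣ Nat.card (Subgroup.center P) := by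
      rcases (hP.to_subgroup (Subgroup.center P)).card_eq_or_dvd with h | h
      · exact absurd h (Finite.one_lt_card (α := Subgroup.center P)).ne'
      · exact h
    obtain ⟨z, hz⟩ := exists_prime_orderOf_dvd_card' p hpc
    have hzord : orderOf (z : P) = p := by rw [Subgroup.orderOf_coe]; exact hz
    have hpH : p ∣ Nat.card H := by
      have h3 : p ∣ Nat.card P := by
        have h4 := orderOf_dvd_natCard (z : P)
        rwa [hzord] at h4
      exact h3.trans (Subgroup.card_subgroup_dvd_card (P : Subgroup H))
    have hcop := Cfsg.Agent.Lib.Helper1_FPF.not_dvd_card_of_fpf H K hHK hfpf hpH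
    have claim : ∀ B : Subgroup P, Nat.card B = p → (z : P) ∈ B := by
      intro B hB
      by_contra hzB
      have hBne : B ≠ ⊥ := B.one_lt_card_iff_ne_bot.mp (by rw [hB]; exact hp.one_lt)
      obtain ⟨⟨b, hb⟩, hbne⟩ := (Subgroup.ne_bot_iff_exists_ne_one).mp hBne
      have hbne' : b ≠ 1 := fun h => hbne (Subtype.ext h)
      have hzp : (z : P) ^ p = 1 := by
        have h4 := pow_orderOf_eq_one (z : P)
        rwa [hzord] at h4
      have hbp : b ^ p = 1 := by
        have h3 : (⟨b, hb⟩ : B) ^ Nat.card B = 1 := pow_card_eq_one'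
        rw [hB] at h3
        simpa using congrArg Subtype.val h3
      have hcomm : (z : P) * b = b * z := (Subgroup.mem_center_iff.mp z.2 b).symm
      have hle := Cfsg.Agent.Lib.Helper48_Generation.le_of_centralizers_le (p := p) K hcop
        (ι z) (ι b) (hHK (hιH _)) (hHK (hιH _))
        (by rw [← map_pow, hzp, map_one]) (by rw [← map_pow, hbp, map_one])
        (by rw [← map_mul, ← map_mul, hcomm]) ⊥
        (hfpf _ (hιH b) (fun h => hbne' (hιinj (by rw [h, map_one])))).le
        (fun i => by
          refine (hfpf _ (H.mul_mem (hιH _) (H.pow_mem (hιH _) i)) ?_).le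
          intro h
          apply hzB
          have h3 : (z : P) * b ^ i = 1 := hιinj (by rw [map_mul, map_pow, h, map_one])
          rw [eq_inv_of_mul_eq_one_left h3]
          exact B.inv_mem (B.pow_mem hb i))
      exact hK (le_bot_iff.mp hle)
    have heq : ∀ B : Subgroup P, Nat.card B = p → Subgroup.zpowers (z : P) = B := by
      intro B hB
      apply Subgroup.eq_of_le_of_card_ge (Subgroup.zpowers_le.mpr (claim B hB))
      rw [hB, Nat.card_zpowers, hzord]
    rw [← heq B1 h1, ← heq B2 h2]
  rcases Cfsg.Agent.S0016.result p hP huniq with h | ⟨_, h⟩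
  · left; exact h
  · right; exact h

end Cfsg.Agent.S0040
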