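import Cfsg.Statements.S0042
import Cfsg.Agent.Lib.Helper1_Thompson
import Cfsg.Agent.Lib.Helper6_Frobenius
import Cfsg.Agent.Lib.Helper1_Transport

set_option autoImplicit false
open Cfsg
open scoped Pointwise

namespace Cfsg.Agent.S0042

/-- In a finite Frobenius group, the Frobenius kernel is (the carrier of) a normal subgroup which is nilpotent. -/
theorem result {G : Type*} [Group G] [Finite G] (H : Subgroup G) (hH : Cfsg.IsFrobeniusComplement H) :
    ∃ N : Subgroup G, (N : Set G) = Cfsg.frobeniusKernel H ∧ N.Normal ∧ Group.IsNilpotent N := by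
  classical
  obtain ⟨N, hNset, hNn, hNH⟩ := Cfsg.Agent.Lib.Helper6_Frobenius.exists_kernel H hH
  refine ⟨N, hNset, hNn, ?_⟩
  have hH1 : H ≠ ⊥ := hH.1
  have hcard : Nat.card H ≠ 1 := fun h => hH1 (Subgroup.card_eq_one.mp h)
  have hr : (Nat.card H).minFac.Prime := Nat.minFac_prime hcard
  have : Fact (Nat.card H).minFac.Prime := ⟨hr⟩
  obtain ⟨h, hh⟩ := exists_prime_orderOf_dvd_card' (Nat.card H).minFac (Nat.minFac_dvd _)
  have hh1 : (h : G) ≠ 1 := by
    intro h0
    have : h = 1 := Subtype.ext h0
    rw [this, orderOf_one] at hh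
    exact hr.one_lt.ne hh
  have hhr : (h : G) ^ (Nat.card H).minFac = 1 := by
    have := pow_orderOf_eq_one h
    rw [hh] at this
    have h2 := congrArg Subtype.val this
    rwa [SubgroupClass.coe_pow, OneMemClass.coe_one] at h2
  apply Cfsg.Agent.Lib.Helper1_Thompson.thompson hr (MulAut.conjNormal (h : G) : N ≃* N)
  constructor
  · intro n hn
    have h1 : (h : G) * n * (h : G)⁻¹ = n := by
      have := congrArg Subtype.val hn
      rwa [MulAut.conjNormal_apply] at this
    by_contra hn1
    have hnH : (n : G) ∉ H := by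
      intro hmem
      have h2 : (n : G) ∈ N ⊓ H := Subgroup.mem_inf.mpr ⟨n.2, hmem⟩
      rw [hNH.disjoint.eq_bot, Subgroup.mem_bot] at h2
      exact hn1 (Subtype.ext h2)
    have h2 := hH.2.2 (n : G) hnH
    have h3 : (h : G) ∈ H ⊓ (MulAut.conj (n : G) • H) := by
      refine Subgroup.mem_inf.mpr ⟨h.2, ?_⟩
      rw [Cfsg.Agent.Lib.Helper1_Transport.mem_conj_smul_iff]
      have h4 : (n : G)⁻¹ * h * n = h := by
        calc (n : G)⁻¹ * h * n = (n : G)⁻¹ * ((h : G) * n * (h : G)⁻¹) * h := by group
          _ = h := by rw [h1]; group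
      rw [h4]
      exact h.2
    rw [h2, Subgroup.mem_bot] at h3
    exact hh1 h3
  · intro n
    have hiter : ∀ k : ℕ, (((MulAut.conjNormal (h : G) : N ≃* N)^[k] n : N) : G) =
        (h : G) ^ k * n * ((h : G) ^ k)⁻¹ := by
      intro k
      induction k with
      | zero => simp
      | succ k ih =>
        rw [Function.iterate_succ_apply', MulAut.conjNormal_apply, ih, pow_succ']
        group
    apply Subtype.ext
    rw [hiter, hhr]
    group

end Cfsg.Agent.S0042
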