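import Cfsg.Statements.S3997
import Mathlib

set_option autoImplicit false
open Cfsg

namespace Cfsg.Agent.S3997

/-- in a finite group, a normal Sylow `p`-subgroup is exactly the set of `p`-elements -/
theorem pElements_eq_of_normal {K : Type*} [Group K] [Finite K] (p : ℕ) [Fact p.Prime]
    (P : Sylow p K) (hP : (P : Subgroup K).Normal) :
    {k : K | ∃ a : ℕ, orderOf k = p ^ a} = ((P : Subgroup K) : Set K) := by
  ext k
  constructor
  · rintro ⟨a, ha⟩
    have hz : IsPGroup p (Subgroup.zpowers k) := by
      apply IsPGroup.of_card (n := a)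
      rw [Nat.card_zpowers, ha]
    obtain ⟨Q, hQ⟩ := hz.exists_le_sylow
    have : Subsingleton (Sylow p K) := by
      have := Sylow.unique_of_normal P hP
      infer_instance
    have hQP : Q = P := Subsingleton.elim _ _
    rw [hQP] at hQ
    exact hQ (Subgroup.mem_zpowers k)
  · intro hk
    have := (IsPGroup.iff_orderOf.mp P.isPGroup') ⟨k, hk⟩
    obtain ⟨a, ha⟩ := this
    refine ⟨a, ?_⟩
    rw [← ha, Subgroup.orderOf_mk]

/-- if the number of `p`-elements equals the order of a Sylow `p`-subgroup, it is normal -/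
theorem normal_of_card_pElements {K : Type*} [Group K] [Finite K] (p : ℕ) [Fact p.Prime]
    (P : Sylow p K)
    (h : Nat.card {k : K // ∃ a : ℕ, orderOf k = p ^ a} = Nat.card (P : Subgroup K)) :
    (P : Subgroup K).Normal := by
  have hsub : ((P : Subgroup K) : Set K) ⊆ {k : K | ∃ a : ℕ, orderOf k = p ^ a} := by
    intro k hk
    have := (IsPGroup.iff_orderOf.mp P.isPGroup') ⟨k, hk⟩
    obtain ⟨a, ha⟩ := this
    refine ⟨a, ?_⟩
    rw [← ha, Subgroup.orderOf_mk]
  have heq : ((P : Subgroup K) : Set K) = {k : K | ∃ a : ℕ, orderOf k = p ^ a} := by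
    apply Set.eq_of_subset_of_ncard_le hsub _ (Set.toFinite _)
    rw [← Nat.card_coe_set_eq, ← Nat.card_coe_set_eq]
    exact h.le
  constructor
  intro n hn g
  have h1 : n ∈ ((P : Subgroup K) : Set K) := hn
  rw [heq] at h1
  obtain ⟨a, ha⟩ := h1
  have h2 : g * n * g⁻¹ ∈ {k : K | ∃ a : ℕ, orderOf k = p ^ a} := by
    refine ⟨a, ?_⟩
    rw [← ha]
    have := orderOf_injective (MulAut.conj g).toMonoidHom (MulAut.conj g).injective n
    simpa using this
  rw [← heq] at h2
  exact h2

/-- Let G and H be finite groups with the same order type: for every m they have the same number of elements of order m. If G is nilpotent then so is H. -/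
theorem result {G H : Type*} [Group G] [Finite G] [Group H] [Finite H] (hT : (∀ m : ℕ, Nat.card {g : G // orderOf g = m} = Nat.card {h : H // orderOf h = m})) (hG : Group.IsNilpotent G) :
    Group.IsNilpotent H := by
  -- an order preserving bijection
  have hequiv : ∀ m : ℕ, Nonempty ({g : G // orderOf g = m} ≃ {h : H // orderOf h = m}) :=
    fun m => Finite.card_eq.mp (hT m)
  let e : G ≃ H :=
    ((Equiv.sigmaFiberEquiv (orderOf : G → ℕ)).symm.trans
      (Equiv.sigmaCongrRight fun m => (hequiv m).some)).trans (Equiv.sigmaFiberEquiv (orderOf : H → ℕ))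
  have he : ∀ g : G, orderOf (e g) = orderOf g := by
    intro g
    simp only [e, Equiv.trans_apply, Equiv.sigmaFiberEquiv, Equiv.coe_fn_symm_mk, Equiv.coe_fn_mk,
      Equiv.sigmaCongrRight_apply]
    exact ((hequiv (orderOf g)).some ⟨g, rfl⟩).2
  have hcard : Nat.card G = Nat.card H := Nat.card_congr e
  refine (Group.isNilpotent_of_finite_tfae (G := H)).out 0 3 rfl rfl |>.mpr ?_
  intro p hp P
  have := hp
  apply normal_of_card_pElements p P
  obtain ⟨S⟩ : Nonempty (Sylow p G) := inferInstance
  have hS : (S : Subgroup G).Normal :=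
    (Group.isNilpotent_of_finite_tfae (G := G)).out 0 3 rfl rfl |>.mp hG p hp S
  have h1 := pElements_eq_of_normal p S hS
  have h2 : Nat.card {k : H // ∃ a : ℕ, orderOf k = p ^ a} = Nat.card {k : G // ∃ a : ℕ, orderOf k = p ^ a} := by
    apply Nat.card_congr
    exact (e.subtypeEquiv (fun g => by rw [he])).symm
  rw [h2]
  have h3 : Nat.card {k : G // ∃ a : ℕ, orderOf k = p ^ a} = Nat.card (S : Subgroup G) := by
    have : {k : G // ∃ a : ℕ, orderOf k = p ^ a} = ↥({k : G | ∃ a : ℕ, orderOf k = p ^ a}) := rfl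
    rw [this, h1]
    rfl
  rw [h3, S.card_eq_multiplicity, P.card_eq_multiplicity, hcard]
end Cfsg.Agent.S3997
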