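import Cfsg.Statements.S3962
import Mathlib

set_option autoImplicit false
open Cfsg

namespace Cfsg.Agent.S3962

/-- Let `G` be a perfect group and `π : G →* Q` a surjective homomorphism whose kernel is central. Then `π` maps the centre of `G` onto the centre of `Q`. Taking `π` to be the map to `G ⧸ Z(G)` shows that the central quotient of a perfect group has trivial centre. -/
theorem result {G Q : Type*} [Group G] [Group Q] (hG : Group.IsPerfect G) (π : G →* Q) (hπ : Function.Surjective π) (hker : π.ker ≤ Subgroup.center G) : (Subgroup.center G).map π = Subgroup.center Q := by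
  apply le_antisymm
  · rintro _ ⟨g, hg, rfl⟩
    rw [Subgroup.mem_center_iff]
    intro q
    obtain ⟨h, rfl⟩ := hπ q
    rw [← map_mul, ← map_mul]
    congr 1
    exact (Subgroup.mem_center_iff.mp hg h)
  · intro q hq
    obtain ⟨g, rfl⟩ := hπ q
    refine ⟨g, ?_, rfl⟩
    -- every commutator [g,h] lies in the kernel, hence in the centre
    have hc : ∀ h : G, g * h * g⁻¹ * h⁻¹ ∈ Subgroup.center G := by
      intro h
      apply hker
      rw [MonoidHom.mem_ker]
      have := Subgroup.mem_center_iff.mp hq (π h)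
      simp only [map_mul, map_inv]
      rw [← this]
      group
    -- h ↦ [g,h] is a homomorphism into the centre
    obtain ⟨φ, hφdef⟩ : ∃ φ : G →* Subgroup.center G, ∀ h, (φ h : G) = g * h * g⁻¹ * h⁻¹ := by
      refine ⟨{ toFun := fun h => ⟨g * h * g⁻¹ * h⁻¹, hc h⟩, map_one' := ?_, map_mul' := ?_ }, fun h => rfl⟩
      · apply Subtype.ext
        simp
      · intro a b
        apply Subtype.ext
        have hb := Subgroup.mem_center_iff.mp (hc b)
        show g * (a * b) * g⁻¹ * (a * b)⁻¹ = (g * a * g⁻¹ * a⁻¹) * (g * b * g⁻¹ * b⁻¹)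
        have h1 : g * (a * b) * g⁻¹ * (a * b)⁻¹ = g * a * g⁻¹ * (g * b * g⁻¹ * b⁻¹) * a⁻¹ := by
          group
        rw [h1]
        have h2 := hb a⁻¹
        calc g * a * g⁻¹ * (g * b * g⁻¹ * b⁻¹) * a⁻¹
            = g * a * g⁻¹ * ((g * b * g⁻¹ * b⁻¹) * a⁻¹) := by group
          _ = g * a * g⁻¹ * (a⁻¹ * (g * b * g⁻¹ * b⁻¹)) := by rw [h2]
          _ = (g * a * g⁻¹ * a⁻¹) * (g * b * g⁻¹ * b⁻¹) := by group
    have hφ : commutator G ≤ φ.ker := by
      rw [commutator_eq_closure, Subgroup.closure_le]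
      rintro x ⟨a, b, rfl⟩
      rw [SetLike.mem_coe, MonoidHom.mem_ker, commutatorElement_def, map_mul, map_mul, map_mul,
        map_inv, map_inv]
      apply Subtype.ext
      have hcomm := Subgroup.mem_center_iff.mp (φ a).2 (φ b)
      show (φ a : G) * (φ b : G) * (φ a : G)⁻¹ * (φ b : G)⁻¹ = 1
      rw [← hcomm]
      group
    rw [Group.isPerfect_def.mp hG] at hφ
    rw [SetLike.mem_coe, Subgroup.mem_center_iff]
    intro h
    have h1 : φ h = 1 := MonoidHom.mem_ker.mp (hφ (Subgroup.mem_top h))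
    have h2 : g * h * g⁻¹ * h⁻¹ = 1 := by rw [← hφdef, h1]; rfl
    have h3 : g * h = h * g := by
      have : g * h * g⁻¹ * h⁻¹ * (h * g) = 1 * (h * g) := by rw [h2]
      simpa [mul_assoc] using this
    exact h3.symm
end Cfsg.Agent.S3962
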