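import Cfsg.Statements.S2679

set_option autoImplicit false
open Cfsg Polynomial Matrix

namespace Cfsg.Agent.S2679


theorem exists_embedding {F K : Type*} [Field F] [Fintype F] [Field K] [Fintype K] {q : ℕ}
    (hF : Fintype.card F = q) (hK : Fintype.card K = q ^ 2) (a c : F)
    (hac : ∀ z₁ z₂ : F, z₁ ^ 2 + a * z₁ * z₂ + c * z₂ ^ 2 = 0 → z₁ = 0 ∧ z₂ = 0) :
    ∃ (ι : F →+* K) (ω ω' : K), ω + ω' = - ι a ∧ ω * ω' = ι c ∧ ω ≠ ω' := by
  classical
  set f : F[X] := X ^ 2 + C a * X + C c with hf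
  have hdeg : f.natDegree = 2 := by
    rw [hf]; compute_degree!
  have hmonic : f.Monic := by
    rw [hf]; monicity!
  have hroot : ∀ x, ¬ IsRoot f x := by
    intro x hx
    have : x ^ 2 + a * x * 1 + c * 1 ^ 2 = 0 := by
      have := hx
      simp only [hf, IsRoot.def, eval_add, eval_pow, eval_X, eval_mul, eval_C] at this
      linear_combination this
    exact one_ne_zero (hac x 1 this).2
  have hirr : Irreducible f :=
    irreducible_of_degree_le_three_of_not_isRoot (by rw [hdeg]; decide) hroot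
  have : Fact (Irreducible f) := ⟨hirr⟩
  have hf0 : f ≠ 0 := hmonic.ne_zero
  have : Module.Finite F (AdjoinRoot f) := (AdjoinRoot.powerBasis hf0).finite
  have : Finite (AdjoinRoot f) := Module.finite_of_finite F
  have : Fintype (AdjoinRoot f) := Fintype.ofFinite _
  have hcard : Fintype.card (AdjoinRoot f) = q ^ 2 := by
    have h1 : Module.finrank F (AdjoinRoot f) = 2 := by
      rw [(AdjoinRoot.powerBasis hf0).finrank, AdjoinRoot.powerBasis_dim, hdeg]
    rw [Module.card_eq_pow_finrank (K := F) (V := AdjoinRoot f), h1, hF]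
  let e : AdjoinRoot f ≃+* K := FiniteField.ringEquivOfCardEq (hcard.trans hK.symm)
  let ι : F →+* K := (e : AdjoinRoot f →+* K).comp (AdjoinRoot.of f)
  let ω : K := e (AdjoinRoot.root f)
  have hω : ω ^ 2 + ι a * ω + ι c = 0 := by
    have h0 : (AdjoinRoot.root f) ^ 2 + AdjoinRoot.of f a * AdjoinRoot.root f + AdjoinRoot.of f c = 0 := by
      have := AdjoinRoot.eval₂_root f
      simpa [hf, eval₂_add, eval₂_mul, eval₂_pow] using this
    have := congrArg e h0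
    simpa [map_add, map_mul, map_pow, ι, ω] using this
  refine ⟨ι, ω, - ι a - ω, by ring, by linear_combination -hω, ?_⟩
  intro heq
  have hsep : f.Separable := PerfectField.separable_of_irreducible hirr
  have hsepK : (f.map ι).Separable := hsep.map
  have hfac : f.map ι = (X - C ω) * (X - C ω) := by
    have h1 : f.map ι = X ^ 2 + C (ι a) * X + C (ι c) := by
      simp [hf, Polynomial.map_add, Polynomial.map_mul, Polynomial.map_pow]
    rw [h1]
    have h2 : ι a = - (ω + ω) := by linear_combination heq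
    have h3 : ι c = ω * ω := by linear_combination hω - ω * h2
    rw [h2, h3]
    simp only [C_neg, C_add, C_mul]
    ring
  have hsq := hsepK.squarefree
  rw [hfac] at hsq
  exact Polynomial.not_isUnit_X_sub_C ω (hsq _ (dvd_refl _))



section general
variable {n : Type} [Fintype n] [DecidableEq n]

theorem alt_of_forall {R : Type*} [CommRing R] (N : Matrix n n R)
    (h : ∀ v : n → R, v ⬝ᵥ N *ᵥ v = 0) : (∀ j, N j j = 0) ∧ (∀ j k, N j k + N k j = 0) := by
  have h1 : ∀ j, N j j = 0 := by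
    intro j
    have := h (Pi.single j 1)
    simpa using this
  refine ⟨h1, fun j k => ?_⟩
  have := h (Pi.single j 1 + Pi.single k 1)
  simp only [Matrix.mulVec_add, add_dotProduct, dotProduct_add, Matrix.mulVec_single_one,
    single_one_dotProduct, Matrix.col_apply, h1] at this
  simp at this
  linear_combination this

theorem forall_of_alt {R : Type*} [CommRing R] (N : Matrix n n R)
    (h1 : ∀ j, N j j = 0) (h2 : ∀ j k, N j k + N k j = 0) (v : n → R) : v ⬝ᵥ N *ᵥ v = 0 := by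
  simp only [dotProduct, Matrix.mulVec, Finset.mul_sum]
  rw [← Finset.sum_product']
  apply Finset.sum_ninvolution (fun p => p.swap)
  · rintro ⟨j, k⟩
    simp only [Prod.swap_prod_mk]
    linear_combination (v j * v k) * h2 j k
  · rintro ⟨j, k⟩ hne heq
    simp only [Prod.swap_prod_mk, Prod.mk.injEq] at heq
    obtain ⟨rfl, -⟩ := heq
    apply hne
    simp [h1]
  · simp
  · simp

theorem quad_conj {R : Type*} [CommRing R] (g M : Matrix n n R) (u : n → R) :
    (g *ᵥ u) ⬝ᵥ M *ᵥ (g *ᵥ u) - u ⬝ᵥ M *ᵥ u = u ⬝ᵥ (gᵀ * M * g - M) *ᵥ u := by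
  rw [Matrix.sub_mulVec, dotProduct_sub, ← Matrix.mulVec_mulVec, ← Matrix.mulVec_mulVec,
    Matrix.dotProduct_mulVec u gᵀ, Matrix.vecMul_transpose]

theorem base_change {F K : Type*} [Field F] [Field K] (ι : F →+* K) (M g : Matrix n n F)
    (h : ∀ u : n → F, (g *ᵥ u) ⬝ᵥ M *ᵥ (g *ᵥ u) = u ⬝ᵥ M *ᵥ u) (w : n → K) :
    (g.map ι *ᵥ w) ⬝ᵥ M.map ι *ᵥ (g.map ι *ᵥ w) = w ⬝ᵥ M.map ι *ᵥ w := by
  have hN : ∀ u : n → F, u ⬝ᵥ (gᵀ * M * g - M) *ᵥ u = 0 := by
    intro u; rw [← quad_conj, h u, sub_self]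
  obtain ⟨a1, a2⟩ := alt_of_forall _ hN
  have hmap : (g.map ι)ᵀ * M.map ι * g.map ι - M.map ι = (gᵀ * M * g - M).map ι := by
    rw [Matrix.map_sub (f := ι) (fun a b => map_sub ι a b), Matrix.map_mul, Matrix.map_mul,
      Matrix.transpose_map]
  have := forall_of_alt ((gᵀ * M * g - M).map ι) (fun j => by rw [Matrix.map_apply, a1, map_zero])
    (fun j k => by rw [Matrix.map_apply, Matrix.map_apply, ← map_add, a2, map_zero]) w
  rw [← hmap, ← quad_conj] at this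
  exact sub_eq_zero.1 this

end general



theorem mem_iso {ι : Type} [Fintype ι] [DecidableEq ι] {F : Type*} [Field F] (Q : (ι → F) → F)
    (g : GL ι F) : g ∈ isometryGroup F Q ↔ ∀ u, Q ((g : Matrix ι ι F) *ᵥ u) = Q u := by
  constructor
  · intro h u; exact h u u
  · intro h u _; exact h u

/-- transport of isometry groups along an invertible matrix -/
theorem transport {ι₁ ι₂ : Type} [Fintype ι₁] [DecidableEq ι₁] [Fintype ι₂] [DecidableEq ι₂]
    {K : Type*} [Field K] (Q₁ : (ι₁ → K) → K) (Q₂ : (ι₂ → K) → K)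
    (P : Matrix ι₂ ι₁ K) (P' : Matrix ι₁ ι₂ K) (h1 : P * P' = 1) (h2 : P' * P = 1)
    (hQ : ∀ u, Q₂ (P *ᵥ u) = Q₁ u) :
    ∃ φ : ↥(isometryGroup K Q₁) →* ↥(isometryGroup K Q₂), Function.Injective φ := by
  have hcancel : ∀ A B : Matrix ι₁ ι₁ K, (P * A * P') * (P * B * P') = P * (A * B) * P' := by
    intro A B
    calc (P * A * P') * (P * B * P') = P * A * (P' * P) * B * P' := by
          simp only [Matrix.mul_assoc]
      _ = P * (A * B) * P' := by rw [h2]; simp only [Matrix.mul_assoc, Matrix.one_mul]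
  let ψ : GL ι₁ K →* GL ι₂ K :=
    { toFun := fun g => ⟨P * (g : Matrix ι₁ ι₁ K) * P', P * ((g⁻¹ : GL ι₁ K) : Matrix ι₁ ι₁ K) * P',
        by rw [hcancel, ← Units.val_mul, mul_inv_cancel, Units.val_one, Matrix.mul_one, h1],
        by rw [hcancel, ← Units.val_mul, inv_mul_cancel, Units.val_one, Matrix.mul_one, h1]⟩
      map_one' := by
        apply Units.ext
        simp [h1]
      map_mul' := by
        intro g h
        apply Units.ext
        simp only [Units.val_mul]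
        rw [hcancel] }
  have hψ : ∀ g : GL ι₁ K, ((ψ g : GL ι₂ K) : Matrix ι₂ ι₂ K) = P * (g : Matrix ι₁ ι₁ K) * P' :=
    fun g => rfl
  have hψinj : Function.Injective ψ := by
    intro g h hgh
    have := congrArg (fun x : GL ι₂ K => P' * (x : Matrix ι₂ ι₂ K) * P) hgh
    simp only [hψ] at this
    apply Units.ext
    have e : ∀ A : Matrix ι₁ ι₁ K, P' * (P * A * P') * P = A := by
      intro A
      calc P' * (P * A * P') * P = (P' * P) * A * (P' * P) := by simp only [Matrix.mul_assoc]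
        _ = A := by rw [h2]; simp
    rwa [e, e] at this
  have hmem : ∀ g : ↥(isometryGroup K Q₁), ψ (g : GL ι₁ K) ∈ isometryGroup K Q₂ := by
    intro g
    rw [mem_iso]
    intro w
    have hg := (mem_iso Q₁ (g : GL ι₁ K)).1 g.2
    have hw : w = P *ᵥ (P' *ᵥ w) := by rw [Matrix.mulVec_mulVec, h1, Matrix.one_mulVec]
    rw [hψ, ← Matrix.mulVec_mulVec, ← Matrix.mulVec_mulVec, hQ, hg]
    conv_rhs => rw [hw]
    rw [hQ]
  refine ⟨(ψ.comp (isometryGroup K Q₁).subtype).codRestrict (isometryGroup K Q₂) hmem, ?_⟩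
  intro g h hgh
  have := congrArg Subtype.val hgh
  exact Subtype.ext (hψinj this)

theorem base_change_hom {n : Type} [Fintype n] [DecidableEq n] {F K : Type*} [Field F] [Field K]
    (ι : F →+* K) (M : Matrix n n F) (Q : (n → F) → F) (QK : (n → K) → K)
    (hQ : ∀ u, Q u = u ⬝ᵥ M *ᵥ u) (hQK : ∀ w, QK w = w ⬝ᵥ M.map ι *ᵥ w)
    (bc : ∀ (g : Matrix n n F), (∀ u : n → F, (g *ᵥ u) ⬝ᵥ M *ᵥ (g *ᵥ u) = u ⬝ᵥ M *ᵥ u) →
      ∀ w : n → K, (g.map ι *ᵥ w) ⬝ᵥ M.map ι *ᵥ (g.map ι *ᵥ w) = w ⬝ᵥ M.map ι *ᵥ w) :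
    ∃ φ : ↥(isometryGroup F Q) →* ↥(isometryGroup K QK), Function.Injective φ := by
  let ψ : GL n F →* GL n K := Matrix.GeneralLinearGroup.map ι
  have hψ : ∀ g : GL n F, ((ψ g : GL n K) : Matrix n n K) = (g : Matrix n n F).map ι := by
    intro g; ext i j; simp [ψ, Matrix.GeneralLinearGroup.map_apply]
  have hψinj : Function.Injective ψ := by
    intro g h hgh
    have := congrArg (fun x : GL n K => (x : Matrix n n K)) hgh
    simp only [hψ] at this
    apply Units.ext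
    exact Matrix.map_injective ι.injective this
  have hmem : ∀ g : ↥(isometryGroup F Q), ψ (g : GL n F) ∈ isometryGroup K QK := by
    intro g
    rw [mem_iso]
    intro w
    have hg := (mem_iso Q (g : GL n F)).1 g.2
    rw [hψ, hQK, hQK]
    apply bc
    intro u
    rw [← hQ, ← hQ, hg]
  refine ⟨(ψ.comp (isometryGroup F Q).subtype).codRestrict (isometryGroup K QK) hmem, ?_⟩
  intro g h hgh
  have := congrArg Subtype.val hgh
  exact Subtype.ext (hψinj this)



def Mminus (n : ℕ) (F : Type*) [Field F] (a c : F) :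
    Matrix ((Fin n ⊕ Fin n) ⊕ Fin 2) ((Fin n ⊕ Fin n) ⊕ Fin 2) F :=
  Matrix.fromBlocks (Matrix.fromBlocks 0 1 0 0) 0 0 !![1, a; 0, c]

theorem quadFormMinus_eq (n : ℕ) (F : Type*) [Field F] (a c : F)
    (u : (Fin n ⊕ Fin n) ⊕ Fin 2 → F) :
    quadFormMinus n F a c u = u ⬝ᵥ Mminus n F a c *ᵥ u := by
  simp only [quadFormMinus, Mminus, dotProduct, Matrix.mulVec, Fintype.sum_sum_type,
    Matrix.fromBlocks_apply₁₁, Matrix.fromBlocks_apply₁₂, Matrix.fromBlocks_apply₂₁,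
    Matrix.fromBlocks_apply₂₂, Matrix.zero_apply, Matrix.one_apply, Fin.sum_univ_two]
  simp
  ring

theorem Mminus_map (n : ℕ) {F K : Type*} [Field F] [Field K] (ι : F →+* K) (a c : F) :
    (Mminus n F a c).map ι = Mminus n K (ι a) (ι c) := by
  simp only [Mminus, Matrix.fromBlocks_map]
  congr 1
  · congr 1 <;> simp
  · simp
  · simp
  · ext i j; fin_cases i <;> fin_cases j <;> simp



def Qmid (n : ℕ) (K : Type*) [Field K] (u : (Fin n ⊕ Fin n) ⊕ Fin 2 → K) : K :=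
  (∑ i : Fin n, u (.inl (.inl i)) * u (.inl (.inr i))) + u (.inr 0) * u (.inr 1)

def P0 (n : ℕ) (K : Type*) [Field K] (ω ω' : K) :
    Matrix ((Fin n ⊕ Fin n) ⊕ Fin 2) ((Fin n ⊕ Fin n) ⊕ Fin 2) K :=
  Matrix.fromBlocks 1 0 0 !![1, -ω; 1, -ω']

def P0' (n : ℕ) (K : Type*) [Field K] (ω ω' : K) :
    Matrix ((Fin n ⊕ Fin n) ⊕ Fin 2) ((Fin n ⊕ Fin n) ⊕ Fin 2) K :=
  Matrix.fromBlocks 1 0 0 ((ω - ω')⁻¹ • !![-ω', ω; -1, 1])

theorem P0_mul (n : ℕ) (K : Type*) [Field K] (ω ω' : K) (h : ω ≠ ω') :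
    P0 n K ω ω' * P0' n K ω ω' = 1 := by
  have hne : ω - ω' ≠ 0 := sub_ne_zero.2 h
  have hB : !![1, -ω; 1, -ω'] * ((ω - ω')⁻¹ • !![-ω', ω; -1, 1]) = 1 := by
    ext i j
    fin_cases i <;> fin_cases j <;> simp [Matrix.mul_apply, Fin.sum_univ_two] <;> field_simp <;> ring
  rw [P0, P0', Matrix.fromBlocks_multiply, hB]
  simp [Matrix.fromBlocks_one]

theorem P0'_mul (n : ℕ) (K : Type*) [Field K] (ω ω' : K) (h : ω ≠ ω') :
    P0' n K ω ω' * P0 n K ω ω' = 1 := by
  have hne : ω - ω' ≠ 0 := sub_ne_zero.2 h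
  have hB : ((ω - ω')⁻¹ • !![-ω', ω; -1, 1]) * !![1, -ω; 1, -ω'] = 1 := by
    ext i j
    fin_cases i <;> fin_cases j <;> simp [Matrix.mul_apply, Fin.sum_univ_two] <;> field_simp <;> ring
  rw [P0, P0', Matrix.fromBlocks_multiply, hB]
  simp [Matrix.fromBlocks_one]

theorem Qmid_P0 (n : ℕ) (K : Type*) [Field K] (ω ω' a c : K) (h1 : ω + ω' = -a) (h2 : ω * ω' = c)
    (u : (Fin n ⊕ Fin n) ⊕ Fin 2 → K) :
    Qmid n K (P0 n K ω ω' *ᵥ u) = quadFormMinus n K a c u := by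
  simp only [Qmid, quadFormMinus, P0, Matrix.mulVec, dotProduct, Fintype.sum_sum_type,
    Matrix.fromBlocks_apply₁₁, Matrix.fromBlocks_apply₁₂, Matrix.fromBlocks_apply₂₁,
    Matrix.fromBlocks_apply₂₂, Matrix.zero_apply, Matrix.one_apply, Fin.sum_univ_two]
  simp
  have ha : a = -(ω + ω') := by rw [h1]; ring
  rw [ha, ← h2]
  ring




def eps (n : ℕ) : Fin (n + 1) ⊕ Fin (n + 1) ≃ (Fin n ⊕ Fin n) ⊕ Fin 2 where
  toFun := Sum.elim (Fin.lastCases (Sum.inr 0) (fun j => Sum.inl (Sum.inl j)))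
    (Fin.lastCases (Sum.inr 1) (fun j => Sum.inl (Sum.inr j)))
  invFun := Sum.elim (Sum.elim (fun j => Sum.inl j.castSucc) (fun j => Sum.inr j.castSucc))
    (fun t => if t = 0 then Sum.inl (Fin.last n) else Sum.inr (Fin.last n))
  left_inv := by
    rintro (j | j) <;> refine Fin.lastCases ?_ (fun j => ?_) j <;> simp
  right_inv := by
    rintro ((j | j) | t)
    · simp
    · simp
    · fin_cases t <;> simp

def P1 (n : ℕ) (K : Type*) [Field K] :
    Matrix (Fin (n + 1) ⊕ Fin (n + 1)) ((Fin n ⊕ Fin n) ⊕ Fin 2) K :=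
  (1 : Matrix ((Fin n ⊕ Fin n) ⊕ Fin 2) ((Fin n ⊕ Fin n) ⊕ Fin 2) K).submatrix (eps n) id

def P1' (n : ℕ) (K : Type*) [Field K] :
    Matrix ((Fin n ⊕ Fin n) ⊕ Fin 2) (Fin (n + 1) ⊕ Fin (n + 1)) K :=
  (1 : Matrix ((Fin n ⊕ Fin n) ⊕ Fin 2) ((Fin n ⊕ Fin n) ⊕ Fin 2) K).submatrix id (eps n)

theorem P1_mul (n : ℕ) (K : Type*) [Field K] : P1 n K * P1' n K = 1 := by
  ext i j
  simp [P1, P1', Matrix.mul_apply, Matrix.one_apply]

theorem P1'_mul (n : ℕ) (K : Type*) [Field K] : P1' n K * P1 n K = 1 := by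
  rw [P1, P1', Matrix.submatrix_mul_equiv, Matrix.mul_one, Matrix.submatrix_id_id]

theorem P1_mulVec (n : ℕ) (K : Type*) [Field K] (u : (Fin n ⊕ Fin n) ⊕ Fin 2 → K) :
    P1 n K *ᵥ u = u ∘ eps n := by
  ext i
  simp [P1, Matrix.mulVec, dotProduct, Matrix.one_apply]

theorem plus_P1 (n : ℕ) (K : Type*) [Field K] (u : (Fin n ⊕ Fin n) ⊕ Fin 2 → K) :
    quadFormPlus (n + 1) K (P1 n K *ᵥ u) = Qmid n K u := by
  rw [P1_mulVec]
  simp [quadFormPlus, Qmid, Fin.sum_univ_castSucc, eps]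


/-- An elliptic orthogonal group embeds in the hyperbolic orthogonal group of the same dimension over the quadratic extension. -/
theorem result {F K : Type*} [Field F] [Fintype F] [Field K] [Fintype K] {q : ℕ} (hF : Fintype.card F = q) (hK : Fintype.card K = q ^ 2) {m : ℕ} (hm : 1 ≤ m) (a c : F) (hac : ∀ z₁ z₂ : F, z₁ ^ 2 + a * z₁ * z₂ + c * z₂ ^ 2 = 0 → z₁ = 0 ∧ z₂ = 0) : ∃ φ : ↥(Cfsg.isometryGroup F (Cfsg.quadFormMinus (m - 1) F a c)) →* ↥(Cfsg.isometryGroup K (Cfsg.quadFormPlus m K)), Function.Injective φ := by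
  obtain ⟨n, rfl⟩ : ∃ n, m = n + 1 := ⟨m - 1, by omega⟩
  change ∃ φ : ↥(Cfsg.isometryGroup F (Cfsg.quadFormMinus n F a c)) →* ↥(Cfsg.isometryGroup K (Cfsg.quadFormPlus (n + 1) K)), Function.Injective φ
  obtain ⟨ι, ω, ω', h1, h2, hne⟩ := exists_embedding hF hK a c hac
  obtain ⟨φ₁, hφ₁⟩ := base_change_hom ι (Mminus n F a c) (quadFormMinus n F a c)
    (quadFormMinus n K (ι a) (ι c)) (quadFormMinus_eq n F a c)
    (fun w => by rw [Mminus_map, quadFormMinus_eq]) (fun g hg w => base_change ι _ g hg w)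
  obtain ⟨φ₂, hφ₂⟩ := transport (quadFormMinus n K (ι a) (ι c)) (Qmid n K) (P0 n K ω ω') (P0' n K ω ω')
    (P0_mul n K ω ω' hne) (P0'_mul n K ω ω' hne) (Qmid_P0 n K ω ω' (ι a) (ι c) h1 h2)
  obtain ⟨φ₃, hφ₃⟩ := transport (Qmid n K) (quadFormPlus (n + 1) K) (P1 n K) (P1' n K)
    (P1_mul n K) (P1'_mul n K) (plus_P1 n K)
  exact ⟨(φ₃.comp φ₂).comp φ₁, (hφ₃.comp hφ₂).comp hφ₁⟩

end Cfsg.Agent.S2679
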