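import Cfsg.Statements.S0580
import Mathlib

set_option autoImplicit false
open Cfsg

namespace Cfsg.Agent.S0580

/-- If `M` contains the normalizer of a Sylow `p`-subgroup, then `|G : M| ≡ 1 mod p`. -/
theorem index_modEq_one {G : Type*} [Group G] [Finite G] {p : ℕ} [Fact p.Prime] (P : Sylow p G)
    (M : Subgroup G) (hM : Subgroup.normalizer ((P : Subgroup G) : Set G) ≤ M) :
    M.index ≡ 1 [MOD p] := by
  have hPM : (P : Subgroup G) ≤ M := Subgroup.le_normalizer.trans hM
  let P' : Sylow p M := P.subtype hPM
  have h1 : Nat.card (Sylow p M) ≡ 1 [MOD p] := card_sylow_modEq_one p M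
  have h2 : Nat.card (Sylow p G) ≡ 1 [MOD p] := card_sylow_modEq_one p G
  rw [Sylow.card_eq_index_normalizer P'] at h1
  rw [Sylow.card_eq_index_normalizer P] at h2
  have h3 : (Subgroup.normalizer ((P' : Subgroup M) : Set M)).index =
      (Subgroup.normalizer ((P : Subgroup G) : Set G)).relIndex M := by
    rw [Subgroup.relIndex, Subgroup.subgroupOf_normalizer_eq hPM]
    rfl
  have h1' : (Subgroup.normalizer ((P' : Subgroup M) : Set M)).index ≡ 1 [MOD p] := h1
  rw [h3] at h1'
  have h2' : (Subgroup.normalizer ((P : Subgroup G) : Set G)).index ≡ 1 [MOD p] := h2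
  clear h1 h2
  rename' h1' => h1, h2' => h2
  rw [← Subgroup.relIndex_mul_index hM] at h2
  calc M.index = 1 * M.index := (one_mul _).symm
    _ ≡ (Subgroup.normalizer ((P : Subgroup G) : Set G)).relIndex M * M.index [MOD p] :=
        (h1.symm).mul_right _
    _ ≡ 1 [MOD p] := h2

/-- the hypothesis passes to quotients -/
theorem hyp_quotient {G : Type*} [Group G] (h : ∀ M : Subgroup G, IsCoatom M → M.index.Prime)
    (N : Subgroup G) [N.Normal] : ∀ M : Subgroup (G ⧸ N), IsCoatom M → M.index.Prime := by
  intro M hM
  have hs : Function.Surjective (QuotientGroup.mk' N) := QuotientGroup.mk'_surjective N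
  have := h _ (Subgroup.isCoatom_comap_of_surjective hs hM)
  rwa [Subgroup.index_comap_of_surjective M hs] at this

theorem aux (n : ℕ) : ∀ (G : Type*) [Group G] [Finite G], Nat.card G = n →
    (∀ M : Subgroup G, IsCoatom M → M.index.Prime) → Group.IsSolvable G := by
  induction n using Nat.strong_induction_on with
  | _ n ih =>
    intro G _ _ hn h
    by_cases htriv : Nat.card G = 1
    · have : Subsingleton G := (Nat.card_eq_one_iff_unique.mp htriv).1
      infer_instance
    -- the largest prime divisor p of |G|
    have hne : (Nat.card G).primeFactors.Nonempty := by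
      rw [Nat.nonempty_primeFactors]
      have := Nat.card_pos (α := G)
      omega
    set p := (Nat.card G).primeFactors.max' hne with hp
    have hpmem : p ∈ (Nat.card G).primeFactors := Finset.max'_mem _ hne
    have hpp : p.Prime := Nat.prime_of_mem_primeFactors hpmem
    have hpdvd : p ∣ Nat.card G := Nat.dvd_of_mem_primeFactors hpmem
    have hpmax : ∀ q, q.Prime → q ∣ Nat.card G → q ≤ p := by
      intro q hq hqd
      apply Finset.le_max'
      exact Nat.mem_primeFactors.mpr ⟨hq, hqd, Nat.card_pos.ne'⟩
    have : Fact p.Prime := ⟨hpp⟩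
    obtain ⟨P⟩ : Nonempty (Sylow p G) := inferInstance
    -- P is normal
    have hPn : (P : Subgroup G).Normal := by
      rw [← Subgroup.normalizer_eq_top_iff]
      by_contra hnt
      obtain ⟨M, hM, hle⟩ := (eq_top_or_exists_le_coatom (Subgroup.normalizer ((P : Subgroup G) : Set G))).resolve_left hnt
      have hq := h M hM
      have hmod := index_modEq_one P M hle
      have hqd : M.index ∣ Nat.card G := Subgroup.index_dvd_card M
      have hqp : M.index ≤ p := hpmax _ hq hqd
      -- M.index ≡ 1 mod p and 1 < M.index ≤ p: contradiction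
      have h1 : 1 < M.index := hq.one_lt
      rcases Nat.lt_or_ge M.index p with hlt | hge
      · have : M.index % p = 1 % p := hmod
        rw [Nat.mod_eq_of_lt hlt, Nat.mod_eq_of_lt hpp.one_lt] at this
        omega
      · have heq : M.index = p := le_antisymm hqp hge
        have : M.index % p = 1 % p := hmod
        rw [heq, Nat.mod_self, Nat.mod_eq_of_lt hpp.one_lt] at this
        omega
    -- the quotient
    have hPne : (P : Subgroup G) ≠ ⊥ := P.ne_bot_of_dvd_card hpdvd
    have hcardlt : Nat.card (G ⧸ (P : Subgroup G)) < n := by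
      rw [← hn, Subgroup.card_eq_card_quotient_mul_card_subgroup (P : Subgroup G)]
      have h1 : 1 < Nat.card (P : Subgroup G) := by
        rw [Subgroup.one_lt_card_iff_ne_bot]; exact hPne
      have h2 : 0 < Nat.card (G ⧸ (P : Subgroup G)) := Nat.card_pos
      nlinarith
    have hQs : Group.IsSolvable (G ⧸ (P : Subgroup G)) :=
      ih _ hcardlt (G ⧸ (P : Subgroup G)) rfl (hyp_quotient h (P : Subgroup G))
    have hPs : Group.IsSolvable (P : Subgroup G) := by
      have := P.2.isNilpotent
      infer_instance
    apply Group.isSolvable_of_ker_le_range (P : Subgroup G).subtype (QuotientGroup.mk' (P : Subgroup G))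
    rw [QuotientGroup.ker_mk', Subgroup.range_subtype]

/-- If every maximal subgroup of a finite group has prime index, then the group is solvable. -/
theorem result {G : Type*} [Group G] [Finite G] (h : ∀ M : Subgroup G, IsCoatom M → M.index.Prime) : Group.IsSolvable G :=
  aux (Nat.card G) G rfl h

end Cfsg.Agent.S0580
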