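import Mathlib
import Cfsg.Statements.S0299
import Cfsg.Agent.Lib.Helper5_OmegaCenter
import Cfsg.Agent.Lib.Helper5_OmegaIndex
import Cfsg.Agent.Lib.Helper5_O4Plus
import Cfsg.Agent.Lib.Helper5_PSLCard
import Cfsg.Agent.Lib.Helper44_StdForms
import Cfsg.Agent.Lib.Helper44_Orth
import Cfsg.Agent.S0287
import Cfsg.Agent.S0294

set_option autoImplicit false
set_option linter.unusedSimpArgs false
open Cfsg

namespace Cfsg.Agent.S0299

open Matrix Cfsg.Agent.Lib.Helper5_OmegaCenter Cfsg.Agent.Lib.Helper5_OmegaIndex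
  Cfsg.Agent.Lib.Helper44_StdForms Cfsg.Agent.Lib.Helper5_O4Plus

section
variable {F : Type*} [Field F]

def e1 : I4 → F := Pi.single (Sum.inl 0) 1
def f1 : I4 → F := Pi.single (Sum.inr 0) 1
def e2 : I4 → F := Pi.single (Sum.inl 1) 1
def f2 : I4 → F := Pi.single (Sum.inr 1) 1

lemma polar_pl (x y : I4 → F) : QuadraticMap.polar (⇑(qfPlus 2 F)) x y =
    (x (Sum.inl 0) * y (Sum.inr 0) + y (Sum.inl 0) * x (Sum.inr 0)) +
    (x (Sum.inl 1) * y (Sum.inr 1) + y (Sum.inl 1) * x (Sum.inr 1)) := by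
  rw [coe_qfPlus, polar_quadFormPlus, Fin.sum_univ_two]

lemma Q_pl (x : I4 → F) : qfPlus 2 F x =
    x (Sum.inl 0) * x (Sum.inr 0) + x (Sum.inl 1) * x (Sum.inr 1) := by
  rw [coe_qfPlus]
  simp [Cfsg.quadFormPlus, Fin.sum_univ_two]

lemma exists_ne_zero_one [Fintype F] (hF : 3 ≤ Fintype.card F) : ∃ t : F, t ≠ 0 ∧ t ≠ 1 := by
  classical
  by_contra hcon
  push Not at hcon
  have hsub : (Finset.univ : Finset F) ⊆ {0, 1} := by
    intro a _
    by_cases ha : a = 0
    · simp [ha]
    · simp [hcon a ha]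
  have := Finset.card_le_card hsub
  have h3 : ({0, 1} : Finset F).card ≤ 2 := Finset.card_le_two
  rw [Finset.card_univ] at this
  omega

lemma ns4 (t : F) (ht : t ≠ 0) : NS (qfPlus 2 F) (e1 : I4 → F) f1 (e2 + t • f2) := by
  refine ⟨?_, ?_, ?_⟩
  · rw [polar_pl]; simp [e1, f1, e2, f2]
  · rw [polar_pl]; simp [e1, f1, e2, f2]
  · rw [Q_pl]; simp [e1, f1, e2, f2, ht]

lemma star4 [Fintype F] (hF : 3 ≤ Fintype.card F) : Star (qfPlus 2 F) (e1 : I4 → F) f1 := by
  intro x hxe hxf hx
  obtain ⟨t, ht0, ht1⟩ := exists_ne_zero_one hF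
  have h1 := hx _ (ns4 1 one_ne_zero)
  have h2 := hx _ (ns4 t ht0)
  rw [polar_pl] at hxe hxf h1 h2
  simp [e1, f1, e2, f2] at hxe hxf h1 h2
  have h3 : x (Sum.inl 1) * (t - 1) = 0 := by linear_combination h2 - h1
  have h4 : x (Sum.inl 1) = 0 := by
    rcases mul_eq_zero.mp h3 with h | h
    · exact h
    · exact absurd (sub_eq_zero.mp h) ht1
  have h5 : x (Sum.inr 1) = 0 := by linear_combination h1 - h4
  ext i
  rcases i with i | i <;> fin_cases i
  · exact hxf
  · exact h4
  · exact hxe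
  · exact h5

end

/-- PΩ^+_4(q) is isomorphic to PSL_2(q) x PSL_2(q) for q at least 3. -/
theorem result {F : Type*} [Field F] [Fintype F] (hF : 3 ≤ Fintype.card F) : Nonempty (Cfsg.POmega F (Cfsg.quadFormPlus 2 F) ≃* Matrix.ProjectiveSpecialLinearGroup (Fin 2) F × Matrix.ProjectiveSpecialLinearGroup (Fin 2) F) := by
  classical
  have hcardO := Cfsg.Agent.S0287.card_plus (F := F) 1
  rw [← coe_qfPlus 2 F] at hcardO ⊢
  set Q := qfPlus 2 F with hQdef
  have hnd := Cfsg.Agent.S0287.nondeg_qfPlus (F := F) 2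
  have hQ := Cfsg.Agent.S0294.nondegenerate_of_hnd Q hnd
  have hle : (rho4 (F := F)).range ≤ Cfsg.Omega F (⇑Q) := by
    rintro _ ⟨g, rfl⟩
    exact rho4_mem_omega hF hQ g
  have hSL := Cfsg.Agent.Lib.Helper5_PSLCard.card_SL_two (F := F)
  have hG : Nat.card (SpecialLinearGroup (Fin 2) F × SpecialLinearGroup (Fin 2) F) =
      (Fintype.card F * (Fintype.card F ^ 2 - 1)) * (Fintype.card F * (Fintype.card F ^ 2 - 1)) := by
    rw [Nat.card_prod, hSL]
  have hker := Subgroup.card_eq_card_quotient_mul_card_subgroup (rho4 (F := F)).ker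
  rw [Nat.card_congr (QuotientGroup.quotientKerEquivRange (rho4 (F := F))).toEquiv, hG] at hker
  have hmul := Subgroup.card_mul_index (Cfsg.Omega F (⇑Q))
  rw [hcardO] at hmul
  have hN : 2 * Fintype.card F ^ ((1 + 1) * 1) * (Fintype.card F ^ (1 + 1) - 1)
        * ∏ i ∈ Finset.range 1, (Fintype.card F ^ (2 * (i + 1)) - 1) =
      2 * ((Fintype.card F * (Fintype.card F ^ 2 - 1)) * (Fintype.card F * (Fintype.card F ^ 2 - 1))) := by
    simp only [Finset.prod_range_succ, Finset.prod_range_zero]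
    norm_num
    ring
  rw [hN] at hmul
  have hcard : Nat.card ↥(Cfsg.Omega F (⇑Q)) ≤ Nat.card ↥(rho4 (F := F)).range := by
    generalize (Fintype.card F * (Fintype.card F ^ 2 - 1)) * (Fintype.card F * (Fintype.card F ^ 2 - 1)) = N at hmul hker
    by_cases h2 : (2 : F) = 0
    · have hidx := index_omega_two h2 Q hQ (Or.inl (by omega)) (v := e2 + (1 : F) • f2) (ns4 1 one_ne_zero).2.2
      rw [hidx] at hmul
      rw [ker_rho4_eq_bot_of_two h2, Subgroup.card_bot, mul_one] at hker
      omega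
    · have hidx := index_omega_odd h2 Q hQ (by simp)
      rw [hidx] at hmul
      have h3 : Nat.card ↥(rho4 (F := F)).range * Nat.card ↥(rho4 (F := F)).ker
          ≤ Nat.card ↥(rho4 (F := F)).range * 2 := Nat.mul_le_mul_left _ card_ker_rho4_le_two
      omega
  have heq : (rho4 (F := F)).range = Cfsg.Omega F (⇑Q) := Subgroup.eq_of_le_of_card_ge hle hcard
  -- the induced map onto PΩ
  let ρ' : SpecialLinearGroup (Fin 2) F × SpecialLinearGroup (Fin 2) F →* ↥(Cfsg.Omega F (⇑Q)) :=
    (rho4 (F := F)).codRestrict (Cfsg.Omega F (⇑Q)) (fun g => hle ⟨g, rfl⟩)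
  have hsurjρ : Function.Surjective ρ' := by
    intro ω
    have : ω.1 ∈ (rho4 (F := F)).range := by rw [heq]; exact ω.2
    obtain ⟨g, hg⟩ := this
    exact ⟨g, Subtype.ext hg⟩
  let φ : SpecialLinearGroup (Fin 2) F × SpecialLinearGroup (Fin 2) F →* Cfsg.POmega F (⇑Q) :=
    (QuotientGroup.mk' (Subgroup.center ↥(Cfsg.Omega F (⇑Q)))).comp ρ'
  have hsurj : Function.Surjective φ :=
    (QuotientGroup.mk'_surjective _).comp hsurjρ
  have hkerφ : φ.ker = Subgroup.center (SpecialLinearGroup (Fin 2) F × SpecialLinearGroup (Fin 2) F) := by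
    ext g
    rw [MonoidHom.mem_ker]
    show (QuotientGroup.mk (ρ' g) : Cfsg.POmega F (⇑Q)) = 1 ↔ _
    rw [QuotientGroup.eq_one_iff]
    constructor
    · intro h
      have hpm := center_omega_pm Q hnd (e := e1) (f := f1) (by rw [Q_pl]; simp [e1]) (by rw [Q_pl]; simp [f1])
        (by rw [polar_pl]; simp [e1, f1]) (star4 hF) (ns4 1 one_ne_zero) (ρ' g) h
      have hmat : ∀ v, L g v = ((rho4 g : Matrix.GeneralLinearGroup I4 F) : Matrix I4 I4 F) *ᵥ v :=
        fun v => (rho4_mulVec g v).symm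
      have hcen : g.1 ∈ Subgroup.center (SpecialLinearGroup (Fin 2) F) ∧
          g.2 ∈ Subgroup.center (SpecialLinearGroup (Fin 2) F) := by
        rcases hpm with h1 | h1
        · refine (mem_center_of_L_scalar g 1 one_ne_zero (fun v => ?_)).2
          rw [hmat v]
          have : ((rho4 g : Matrix.GeneralLinearGroup I4 F) : Matrix I4 I4 F) = 1 := h1
          rw [this, Matrix.one_mulVec, one_smul]
        · refine (mem_center_of_L_scalar g (-1) (neg_ne_zero.mpr one_ne_zero) (fun v => ?_)).2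
          rw [hmat v]
          have : ((rho4 g : Matrix.GeneralLinearGroup I4 F) : Matrix I4 I4 F) = -1 := h1
          rw [this, Matrix.neg_mulVec, Matrix.one_mulVec, neg_smul, one_smul]
      rw [Subgroup.mem_center_iff]
      intro k
      exact Prod.ext (Subgroup.mem_center_iff.mp hcen.1 k.1) (Subgroup.mem_center_iff.mp hcen.2 k.2)
    · intro hg
      rw [Subgroup.mem_center_iff]
      intro ω
      obtain ⟨h, rfl⟩ := hsurjρ ω
      rw [← map_mul, ← map_mul, Subgroup.mem_center_iff.mp hg h]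
  -- the quotient of the product by its centre
  let ψ : SpecialLinearGroup (Fin 2) F × SpecialLinearGroup (Fin 2) F →*
      Matrix.ProjectiveSpecialLinearGroup (Fin 2) F × Matrix.ProjectiveSpecialLinearGroup (Fin 2) F :=
    MonoidHom.prodMap (QuotientGroup.mk' (Subgroup.center (SpecialLinearGroup (Fin 2) F)))
      (QuotientGroup.mk' (Subgroup.center (SpecialLinearGroup (Fin 2) F)))
  have hsurjψ : Function.Surjective ψ :=
    Function.Surjective.prodMap (QuotientGroup.mk'_surjective _) (QuotientGroup.mk'_surjective _)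
  have hkerψ : ψ.ker = Subgroup.center (SpecialLinearGroup (Fin 2) F × SpecialLinearGroup (Fin 2) F) := by
    ext g
    rw [MonoidHom.mem_ker]
    show ((QuotientGroup.mk g.1 : Matrix.ProjectiveSpecialLinearGroup (Fin 2) F),
      (QuotientGroup.mk g.2 : Matrix.ProjectiveSpecialLinearGroup (Fin 2) F)) = 1 ↔ _
    rw [Prod.mk_eq_one, QuotientGroup.eq_one_iff, QuotientGroup.eq_one_iff]
    constructor
    · intro hcen
      rw [Subgroup.mem_center_iff]
      intro k
      exact Prod.ext (Subgroup.mem_center_iff.mp hcen.1 k.1) (Subgroup.mem_center_iff.mp hcen.2 k.2)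
    · intro hg
      rw [Subgroup.mem_center_iff] at hg
      refine ⟨?_, ?_⟩
      · rw [Subgroup.mem_center_iff]
        intro k
        exact congrArg Prod.fst (hg (k, 1))
      · rw [Subgroup.mem_center_iff]
        intro k
        exact congrArg Prod.snd (hg (1, k))
  exact ⟨(QuotientGroup.quotientKerEquivOfSurjective φ hsurj).symm.trans
    ((QuotientGroup.quotientMulEquivOfEq (hkerφ.trans hkerψ.symm)).trans
      (QuotientGroup.quotientKerEquivOfSurjective ψ hsurjψ))⟩

end Cfsg.Agent.S0299
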