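-- Statement S0577: Schmidt groups: G / Q' is minimal non-abelian.
import Cfsg.Statements.S0577
import Cfsg.Agent.Lib.Helper35_PGroupAut

set_option autoImplicit false
open Cfsg

namespace Cfsg.Agent.S0577

open Cfsg.Agent.Lib.Helper35_FrobeniusNPC Cfsg.Agent.Lib.Helper35_FrobeniusCor
  Cfsg.Agent.Lib.Helper35_PGroupAut Subgroup
open scoped commutatorElement Pointwise

section aux

variable {G : Type*} [Group G] [Finite G]

/-- a normal Sylow `p`-subgroup contains all `p`-elements -/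
theorem mem_of_normal_sylow {p : ℕ} [Fact p.Prime] (S : Sylow p G)
    (hS : (S : Subgroup G).Normal) {a : G} {k : ℕ} (ha : a ^ p ^ k = 1) : a ∈ S := by
  have hz : IsPGroup p (Subgroup.zpowers a) := by
    rintro ⟨y, hy⟩
    obtain ⟨i, rfl⟩ := Subgroup.mem_zpowers_iff.mp hy
    refine ⟨k, ?_⟩
    apply Subtype.ext
    change (a ^ i) ^ p ^ k = 1
    rw [← zpow_natCast, ← zpow_mul, mul_comm, zpow_mul, zpow_natCast, ha, one_zpow]
  obtain ⟨S', hS'⟩ := hz.exists_le_sylow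
  obtain ⟨g, hg⟩ := MulAction.exists_smul_eq G S S'
  have : S' = S := by rw [← hg, Sylow.smul_eq_of_normal]
  rw [← this]
  exact hS' (Subgroup.mem_zpowers a)

theorem sylow_eq_of_normal {p : ℕ} [Fact p.Prime] (S S' : Sylow p G)
    (hS : (S : Subgroup G).Normal) : S' = S := by
  obtain ⟨g, hg⟩ := MulAction.exists_smul_eq G S S'
  rw [← hg, Sylow.smul_eq_of_normal]

/-- finite nilpotent groups have normal `s`-complements -/
theorem hasNPC_of_isNilpotent {K : Type*} [Group K] [Finite K] [Group.IsNilpotent K] (s : ℕ)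
    [Fact s.Prime] : HasNPC s K := by
  apply hasNPC_of_frobHyp
  intro Q₁ hQ₁ g _ hgo
  rw [Subgroup.mem_centralizer_iff]
  intro x hx
  obtain ⟨k, hk⟩ := hQ₁ ⟨x, hx⟩
  have hxk : x ^ s ^ k = 1 := by
    have := congrArg Subtype.val hk
    simpa using this
  exact (commute_of_coprime_of_isNilpotent hgo hxk).eq.symm

/-- if two subgroups generating `G` commute elementwise, the first being commutative and the second a
`q`-group, then `G` is nilpotent -/
theorem isNilpotent_of_commute {q : ℕ} [Fact q.Prime] (A B : Subgroup G) [B.Normal]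
    (hA : ∀ a ∈ A, ∀ a' ∈ A, a * a' = a' * a) (hB : IsPGroup q B) (hAB : A ⊔ B = ⊤)
    (hc : ∀ a ∈ A, ∀ b ∈ B, a * b = b * a) : Group.IsNilpotent G := by
  have hAc : A ≤ Subgroup.center G := by
    intro a ha
    rw [Subgroup.mem_center_iff]
    intro g
    have hg : g ∈ A ⊔ B := hAB ▸ Subgroup.mem_top g
    obtain ⟨a', ha', b, hb, rfl⟩ := Subgroup.mem_sup_of_normal_right.mp hg
    calc a' * b * a = a' * (b * a) := by group
      _ = a' * (a * b) := by rw [hc a ha b hb]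
      _ = (a' * a) * b := by group
      _ = (a * a') * b := by rw [hA a ha a' ha']
      _ = a * (a' * b) := by group
  have hpg : IsPGroup q (G ⧸ Subgroup.center G) := by
    intro x
    obtain ⟨g, rfl⟩ := QuotientGroup.mk_surjective x
    have hg : g ∈ A ⊔ B := hAB ▸ Subgroup.mem_top g
    obtain ⟨a, ha, b, hb, rfl⟩ := Subgroup.mem_sup_of_normal_right.mp hg
    obtain ⟨k, hk⟩ := hB ⟨b, hb⟩
    refine ⟨k, ?_⟩
    have hbk : b ^ q ^ k = 1 := by
      have := congrArg Subtype.val hk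
      simpa using this
    have h1 : ((a * b : G) : G ⧸ Subgroup.center G) = (b : G ⧸ Subgroup.center G) := by
      rw [QuotientGroup.mk_mul, (QuotientGroup.eq_one_iff a).mpr (hAc ha), one_mul]
    rw [h1, ← QuotientGroup.mk_pow, hbk, QuotientGroup.mk_one]
  have : Group.IsNilpotent (G ⧸ Subgroup.center G) := hpg.isNilpotent
  exact Group.of_quotient_center_nilpotent this

/-- structure of a Schmidt group with a given normal Sylow `q`-subgroup `Q`: a commutative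
`q'`-subgroup `A` with `A ⊔ Q = ⊤` -/
theorem schmidt_structure (hG : Cfsg.IsMinimalNonNilpotent G) (q : ℕ) [hqp : Fact q.Prime]
    (hq : q ∣ Nat.card G) (Q : Sylow q G) (hQ : (Q : Subgroup G).Normal) :
    ∃ A : Subgroup G, (∀ a ∈ A, ∀ a' ∈ A, a * a' = a' * a) ∧ A ⊔ (Q : Subgroup G) = ⊤ ∧
      (Nat.card ↥A).Coprime q := by
  obtain ⟨p₀, q₀, hp₀, hq₀, hne, P₀, Q₀, hcyc, hQ₀n, hsup⟩ := Cfsg.Agent.S0536.result hG
  have : Fact p₀.Prime := ⟨hp₀⟩
  have : Fact q₀.Prime := ⟨hq₀⟩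
  have hP₀comm : ∀ a ∈ (P₀ : Subgroup G), ∀ a' ∈ (P₀ : Subgroup G), a * a' = a' * a := by
    intro a ha a' ha'
    have hc : IsMulCommutative ↥(P₀ : Subgroup G) := IsCyclic.isMulCommutative
    have := hc.is_comm.comm (⟨a, ha⟩ : ↥(P₀ : Subgroup G)) ⟨a', ha'⟩
    exact congrArg Subtype.val this
  by_cases hqq : q = q₀
  · subst hqq
    have hQQ : Q₀ = Q := sylow_eq_of_normal Q Q₀ hQ
    refine ⟨P₀, hP₀comm, by rw [← hQQ]; exact hsup, ?_⟩
    obtain ⟨n, hn⟩ := (IsPGroup.iff_card (p := p₀)).mp P₀.2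
    rw [hn]
    exact Nat.Coprime.pow_left n ((Nat.coprime_primes hp₀ hqp.out).mpr hne)
  · exfalso
    -- `|G| = |P₀| |Q₀|`
    have hdisj : Disjoint (P₀ : Subgroup G) (Q₀ : Subgroup G) :=
      IsPGroup.disjoint_of_ne p₀ q₀ hne _ _ P₀.2 Q₀.2
    have hmul : ((P₀ : Subgroup G) : Set G) * ((Q₀ : Subgroup G) : Set G) = Set.univ := by
      rw [← Subgroup.mul_normal, hsup, Subgroup.coe_top]
    have hcompl : IsComplement' (P₀ : Subgroup G) (Q₀ : Subgroup G) :=
      isComplement'_of_disjoint_and_mul_eq_univ hdisj hmul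
    obtain ⟨a, ha⟩ := (IsPGroup.iff_card (p := p₀)).mp P₀.2
    obtain ⟨b, hb⟩ := (IsPGroup.iff_card (p := q₀)).mp Q₀.2
    have hcard : Nat.card G = p₀ ^ a * q₀ ^ b := by rw [← hcompl.card_mul_card, ha, hb]
    have hqp₀ : q = p₀ := by
      rw [hcard] at hq
      rcases (Nat.Prime.dvd_mul hqp.out).mp hq with h | h
      · exact (Nat.prime_dvd_prime_iff_eq hqp.out hp₀).mp (hqp.out.dvd_of_dvd_pow h)
      · exact absurd ((Nat.prime_dvd_prime_iff_eq hqp.out hq₀).mp (hqp.out.dvd_of_dvd_pow h)) hqq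
    subst hqp₀
    have hPQ : P₀ = Q := sylow_eq_of_normal Q P₀ hQ
    have hPn : (P₀ : Subgroup G).Normal := hPQ ▸ hQ
    apply hG.1
    apply isNilpotent_of_commute (q := q₀) (P₀ : Subgroup G) (Q₀ : Subgroup G) hP₀comm Q₀.2 hsup
    intro x hx y hy
    exact (Subgroup.commute_of_normal_of_disjoint _ _ hPn hQ₀n hdisj x y hx hy).eq

omit [Finite G] in
/-- commutator of products of mutually commuting pairs -/
theorem commutator_mul_mul {u₁ u₂ w₁ w₂ : G} (h11 : Commute w₁ u₁) (h12 : Commute w₁ u₂)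
    (h21 : Commute w₂ u₁) (h22 : Commute w₂ u₂) :
    ⁅u₁ * w₁, u₂ * w₂⁆ = ⁅u₁, u₂⁆ * ⁅w₁, w₂⁆ := by
  have hW1 : Commute (w₁ * w₂ * w₁⁻¹) u₁⁻¹ :=
    ((h11.mul_left h21).mul_left h11.inv_left).inv_right
  have hW2 : Commute (w₁ * w₂ * w₁⁻¹ * w₂⁻¹) u₂⁻¹ :=
    (((h12.mul_left h22).mul_left h12.inv_left).mul_left h22.inv_left).inv_right
  simp only [commutatorElement_def, mul_inv_rev]
  calc u₁ * w₁ * (u₂ * w₂) * (w₁⁻¹ * u₁⁻¹) * (w₂⁻¹ * u₂⁻¹)
      = u₁ * (w₁ * u₂) * w₂ * w₁⁻¹ * u₁⁻¹ * w₂⁻¹ * u₂⁻¹ := by group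
    _ = u₁ * (u₂ * w₁) * w₂ * w₁⁻¹ * u₁⁻¹ * w₂⁻¹ * u₂⁻¹ := by rw [h12.eq]
    _ = u₁ * u₂ * ((w₁ * w₂ * w₁⁻¹) * u₁⁻¹) * w₂⁻¹ * u₂⁻¹ := by group
    _ = u₁ * u₂ * (u₁⁻¹ * (w₁ * w₂ * w₁⁻¹)) * w₂⁻¹ * u₂⁻¹ := by rw [hW1.eq]
    _ = u₁ * u₂ * u₁⁻¹ * ((w₁ * w₂ * w₁⁻¹ * w₂⁻¹) * u₂⁻¹) := by group
    _ = u₁ * u₂ * u₁⁻¹ * (u₂⁻¹ * (w₁ * w₂ * w₁⁻¹ * w₂⁻¹)) := by rw [hW2.eq]
    _ = u₁ * u₂ * u₁⁻¹ * u₂⁻¹ * (w₁ * w₂ * w₁⁻¹ * w₂⁻¹) := by group

end aux

/-- Let G be a finite minimal non-nilpotent group and Q a normal Sylow q-subgroup of G, and let D be the commutator subgroup of Q regarded in G (a normal subgroup). Then G modulo D is non-abelian and all its proper subgroups are abelian. -/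
theorem result {G : Type*} [Group G] [Finite G] (hG : Cfsg.IsMinimalNonNilpotent G) (q : ℕ) [Fact q.Prime] (hq : q ∣ Nat.card G) (Q : Sylow q G) (hQ : (Q : Subgroup G).Normal) (D : Subgroup G) [D.Normal] (hD : D = (commutator ↥(Q : Subgroup G)).map (Q : Subgroup G).subtype) : ¬ IsMulCommutative (G ⧸ D) ∧ ∀ K : Subgroup (G ⧸ D), K ≠ ⊤ → IsMulCommutative K := by
  classical
  have hqp : q.Prime := Fact.out
  have hDeq : D = ⁅(Q : Subgroup G), (Q : Subgroup G)⁆ :=
    hD.trans (Subgroup.map_subtype_commutator _)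
  obtain ⟨A, hAc, hAQ, hAq⟩ := schmidt_structure hG q hq Q hQ
  have hQn : (Q : Subgroup G).Normal := hQ
  have hDQ : D ≤ (Q : Subgroup G) := by
    rw [hDeq]; exact Subgroup.commutator_le_left _ _
  -- every `q`-element of `Q` has `q`-power order
  have hQpow : ∀ b ∈ (Q : Subgroup G), ∃ k : ℕ, b ^ q ^ k = 1 := by
    intro b hb
    obtain ⟨k, hk⟩ := Q.2 ⟨b, hb⟩
    exact ⟨k, by simpa using congrArg Subtype.val hk⟩
  -- all commutators lie in `Q`
  have hF2 : ∀ x y : G, ⁅x, y⁆ ∈ (Q : Subgroup G) := by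
    intro x y
    have hx : x ∈ A ⊔ (Q : Subgroup G) := hAQ ▸ Subgroup.mem_top x
    have hy : y ∈ A ⊔ (Q : Subgroup G) := hAQ ▸ Subgroup.mem_top y
    obtain ⟨a₁, ha₁, b₁, hb₁, rfl⟩ := Subgroup.mem_sup_of_normal_right.mp hx
    obtain ⟨a₂, ha₂, b₂, hb₂, rfl⟩ := Subgroup.mem_sup_of_normal_right.mp hy
    rw [← QuotientGroup.eq_one_iff]
    have e1 : ((a₁ * b₁ : G) : G ⧸ (Q : Subgroup G)) = (a₁ : G ⧸ (Q : Subgroup G)) := by
      rw [QuotientGroup.mk_mul, (QuotientGroup.eq_one_iff b₁).mpr hb₁, mul_one]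
    have e2 : ((a₂ * b₂ : G) : G ⧸ (Q : Subgroup G)) = (a₂ : G ⧸ (Q : Subgroup G)) := by
      rw [QuotientGroup.mk_mul, (QuotientGroup.eq_one_iff b₂).mpr hb₂, mul_one]
    have e3 : ((⁅a₁ * b₁, a₂ * b₂⁆ : G) : G ⧸ (Q : Subgroup G)) =
        ⁅((a₁ * b₁ : G) : G ⧸ (Q : Subgroup G)), ((a₂ * b₂ : G) : G ⧸ (Q : Subgroup G))⁆ := by
      simp [commutatorElement_def]
    rw [e3, e1, e2, commutatorElement_eq_one_iff_commute]
    change (a₁ : G ⧸ (Q : Subgroup G)) * a₂ = a₂ * a₁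
    rw [← QuotientGroup.mk_mul, ← QuotientGroup.mk_mul, hAc a₁ ha₁ a₂ ha₂]
  constructor
  · -- `G ⧸ D` is not commutative
    intro hcomm
    have hcD : ∀ x y : G, ⁅x, y⁆ ∈ D := by
      intro x y
      rw [← QuotientGroup.eq_one_iff]
      have e3 : ((⁅x, y⁆ : G) : G ⧸ D) = ⁅(x : G ⧸ D), (y : G ⧸ D)⁆ := by
        simp [commutatorElement_def]
      rw [e3, commutatorElement_eq_one_iff_commute]
      exact hcomm.is_comm.comm _ _
    -- `D < Q`
    have hQne : (Q : Subgroup G) ≠ ⊥ := by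
      intro hbot
      have h1 := Q.dvd_card_of_dvd_card hq
      rw [hbot, Subgroup.card_bot] at h1
      exact hqp.one_lt.ne' (Nat.dvd_one.mp h1)
    have hlt := commutator_lt_of_ne_bot Q.2 hQne
    rw [← hDeq] at hlt
    obtain ⟨x₀, hx₀Q, hx₀D⟩ := SetLike.exists_of_lt hlt
    apply hG.1
    apply isNilpotent_of_commute (q := q) A (Q : Subgroup G) hAc Q.2 hAQ
    intro a ha b hb
    have hao : (orderOf a).Coprime q := by
      have h1 := orderOf_dvd_natCard (⟨a, ha⟩ : ↥A)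
      rw [Subgroup.orderOf_mk] at h1
      exact Nat.Coprime.coprime_dvd_left h1 hAq
    -- `a` centralizes `D`
    have haD : ∀ d ∈ D, Commute a d := by
      intro d hd
      set K : Subgroup G := D ⊔ Subgroup.zpowers a with hKdef
      have hK : K ≠ ⊤ := by
        intro hKtop
        have hx : x₀ ∈ D ⊔ Subgroup.zpowers a := by rw [← hKdef, hKtop]; exact Subgroup.mem_top _
        obtain ⟨d', hd', z, hz, hdz⟩ := Subgroup.mem_sup_of_normal_left.mp hx
        have hzQ : z ∈ (Q : Subgroup G) := by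
          have : z = d'⁻¹ * x₀ := by rw [← hdz]; group
          rw [this]
          exact mul_mem (inv_mem (hDQ hd')) hx₀Q
        have hz1 : z = 1 := by
          rw [← orderOf_eq_one_iff]
          obtain ⟨k, hk⟩ := hQpow z hzQ
          have h1 : orderOf z ∣ q ^ k := orderOf_dvd_of_pow_eq_one hk
          have h2 : orderOf z ∣ orderOf a := by
            obtain ⟨i, rfl⟩ := Subgroup.mem_zpowers_iff.mp hz
            exact orderOf_dvd_of_pow_eq_one (by
              rw [← zpow_natCast, ← zpow_mul, mul_comm, zpow_mul, zpow_natCast,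
                pow_orderOf_eq_one, one_zpow])
          exact Nat.eq_one_of_dvd_coprimes (Nat.Coprime.pow_right k hao) h2 h1
        rw [hz1, mul_one] at hdz
        exact hx₀D (hdz ▸ hd')
      have hnil : Group.IsNilpotent ↥K := hG.2 K hK
      have haK : a ∈ K := (le_sup_right : Subgroup.zpowers a ≤ K) (Subgroup.mem_zpowers a)
      have hdK : d ∈ K := (le_sup_left : D ≤ K) hd
      obtain ⟨k, hk⟩ := hQpow d (hDQ hd)
      have h1 : (orderOf (⟨a, haK⟩ : ↥K)).Coprime q := by rw [Subgroup.orderOf_mk]; exact hao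
      have h2 : (⟨d, hdK⟩ : ↥K) ^ q ^ k = 1 := Subtype.ext (by simpa using hk)
      have := commute_of_coprime_of_isNilpotent h1 h2
      exact congrArg Subtype.val this.eq
    -- stability
    have hcb : b⁻¹ * (a * b * a⁻¹) ∈ D := by
      have : b⁻¹ * (a * b * a⁻¹) = ⁅b⁻¹, a⁆ := by rw [commutatorElement_def]; group
      rw [this]; exact hcD _ _
    have hconj : a * b * a⁻¹ = b * (b⁻¹ * (a * b * a⁻¹)) := by group
    exact (commute_of_conj_eq_mul hconj (haD _ hcb)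
      (orderOf_coprime_of_mem Q.2 hao (hDQ hcb))).eq
  · -- proper subgroups of `G ⧸ D` are commutative
    intro K hK
    set K' : Subgroup G := K.comap (QuotientGroup.mk' D) with hK'def
    have hK' : K' ≠ ⊤ := by
      intro htop
      apply hK
      rw [eq_top_iff]
      intro x _
      obtain ⟨g, rfl⟩ := QuotientGroup.mk_surjective x
      have : g ∈ K' := htop ▸ Subgroup.mem_top g
      exact this
    have hnil : Group.IsNilpotent ↥K' := hG.2 K' hK'
    -- commutators of elements of `K'` lie in `D`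
    have key : ∀ x ∈ K', ∀ y ∈ K', ⁅x, y⁆ ∈ D := by
      intro x hx y hy
      obtain ⟨u₁, w₁, hX, ⟨k₁, hu₁⟩, hw₁, -⟩ :=
        exists_pPart_decomp (p := q) (⟨x, hx⟩ : ↥K') (orderOf_pos _).ne'
      obtain ⟨u₂, w₂, hY, ⟨k₂, hu₂⟩, hw₂, -⟩ :=
        exists_pPart_decomp (p := q) (⟨y, hy⟩ : ↥K') (orderOf_pos _).ne'
      have h11 : Commute w₁ u₁ := commute_of_coprime_of_isNilpotent hw₁ hu₁
      have h12 : Commute w₁ u₂ := commute_of_coprime_of_isNilpotent hw₁ hu₂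
      have h21 : Commute w₂ u₁ := commute_of_coprime_of_isNilpotent hw₂ hu₁
      have h22 : Commute w₂ u₂ := commute_of_coprime_of_isNilpotent hw₂ hu₂
      have hcomm := commutator_mul_mul h11 h12 h21 h22
      rw [← hX, ← hY] at hcomm
      -- the `q'`-parts commute
      obtain ⟨N, hNn, hNc, n, hNi⟩ := hasNPC_of_isNilpotent (K := ↥K') q
      have hw₁N : w₁ ∈ N := mem_of_coprime_order N hNi hw₁
      have hw₂N : w₂ ∈ N := mem_of_coprime_order N hNi hw₂
      have hcN : ⁅w₁, w₂⁆ ∈ N := by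
        rw [commutatorElement_def]
        exact mul_mem (mul_mem (mul_mem hw₁N hw₂N) (inv_mem hw₁N)) (inv_mem hw₂N)
      have hc1 : ⁅w₁, w₂⁆ = 1 := by
        rw [← orderOf_eq_one_iff]
        have h1 : orderOf ⁅w₁, w₂⁆ ∣ Nat.card ↥N := by
          have := orderOf_dvd_natCard (⟨_, hcN⟩ : ↥N)
          rwa [Subgroup.orderOf_mk] at this
        have hcQ : ((⁅w₁, w₂⁆ : ↥K') : G) ∈ (Q : Subgroup G) := by
          have : ((⁅w₁, w₂⁆ : ↥K') : G) = ⁅(w₁ : G), (w₂ : G)⁆ := by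
            simp [commutatorElement_def]
          rw [this]; exact hF2 _ _
        obtain ⟨k, hk⟩ := hQpow _ hcQ
        have h2 : orderOf ⁅w₁, w₂⁆ ∣ q ^ k := by
          apply orderOf_dvd_of_pow_eq_one
          apply Subtype.ext
          simpa using hk
        exact Nat.eq_one_of_dvd_coprimes (Nat.Coprime.pow_right k hNc) h1 h2
      rw [hc1, mul_one] at hcomm
      -- the `q`-parts lie in `Q`
      have hu₁Q : ((u₁ : ↥K') : G) ∈ (Q : Subgroup G) :=
        mem_of_normal_sylow Q hQ (k := k₁) (by simpa using congrArg Subtype.val hu₁)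
      have hu₂Q : ((u₂ : ↥K') : G) ∈ (Q : Subgroup G) :=
        mem_of_normal_sylow Q hQ (k := k₂) (by simpa using congrArg Subtype.val hu₂)
      have hfin : ⁅x, y⁆ = ⁅((u₁ : ↥K') : G), ((u₂ : ↥K') : G)⁆ := by
        have := congrArg (fun t : ↥K' => (t : G)) hcomm
        simpa [commutatorElement_def] using this
      rw [hfin, hDeq]
      exact Subgroup.commutator_mem_commutator hu₁Q hu₂Q
    refine ⟨⟨fun u v => ?_⟩⟩
    obtain ⟨x, hx⟩ := QuotientGroup.mk_surjective (u : G ⧸ D)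
    obtain ⟨y, hy⟩ := QuotientGroup.mk_surjective (v : G ⧸ D)
    have hxK : x ∈ K' := by
      change (QuotientGroup.mk x : G ⧸ D) ∈ K
      rw [hx]; exact u.2
    have hyK : y ∈ K' := by
      change (QuotientGroup.mk y : G ⧸ D) ∈ K
      rw [hy]; exact v.2
    apply Subtype.ext
    change (u : G ⧸ D) * v = v * u
    rw [← hx, ← hy, ← QuotientGroup.mk_mul, ← QuotientGroup.mk_mul, QuotientGroup.eq]
    have : (x * y)⁻¹ * (y * x) = ⁅y⁻¹, x⁻¹⁆ := by rw [commutatorElement_def]; group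
    rw [this]
    exact key _ (inv_mem hyK) _ (inv_mem hxK)

end Cfsg.Agent.S0577
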