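-- Statement S0256: PSL_4(2) is isomorphic to A_8.
import Cfsg.Statements.S0256
import Cfsg.Agent.S0243
import Cfsg.Agent.Lib.Helper61_TableHom
import Cfsg.Agent.Lib.Helper61_PSL42Table

set_option autoImplicit false
open Cfsg

namespace Cfsg.Agent.S0256

open Matrix Cfsg.Agent.Lib.Helper61_TableHom Cfsg.Agent.Lib.Helper61_PSL42Table

local notation "M4" => Matrix (Fin 4) (Fin 4) (ZMod 2)
local notation "G" => SpecialLinearGroup (Fin 4) (ZMod 2)

/-- Table value of a matrix. -/
noncomputable def lk (M : M4) : ℕ := look (enc (M 0)) (enc (M 1)) (enc (M 2)) (enc (M 3))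

/-- The map on `Fin 8` attached to a matrix. -/
noncomputable def ρ (M : M4) : Fin 8 → Fin 8 := dig (lk M)


theorem digits8 (d0 d1 d2 d3 d4 d5 d6 d7 : ℕ) (h0 : d0 < 8) (h1 : d1 < 8) (h2 : d2 < 8)
    (h3 : d3 < 8) (h4 : d4 < 8) (h5 : d5 < 8) (h6 : d6 < 8) (h7 : d7 < 8) (N : ℕ)
    (hN : N = d0 + d1 * 8 + d2 * 64 + d3 * 512 + d4 * 4096 + d5 * 32768 + d6 * 262144 +
      d7 * 2097152) :
    N / 1 % 8 = d0 ∧ N / 8 % 8 = d1 ∧ N / 64 % 8 = d2 ∧ N / 512 % 8 = d3 ∧ N / 4096 % 8 = d4 ∧
      N / 32768 % 8 = d5 ∧ N / 262144 % 8 = d6 ∧ N / 2097152 % 8 = d7 := by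
  subst hN
  omega

theorem dig_comp (n m : ℕ) (k : Fin 8) : dig (comp n m) k = dig n (dig m k) := by
  have key := digits8 _ _ _ _ _ _ _ _ (Nat.mod_lt (n / 8 ^ (m % 8)) (by norm_num : 0 < 8))
    (Nat.mod_lt (n / 8 ^ (m / 8 % 8)) (by norm_num : 0 < 8))
    (Nat.mod_lt (n / 8 ^ (m / 64 % 8)) (by norm_num : 0 < 8))
    (Nat.mod_lt (n / 8 ^ (m / 512 % 8)) (by norm_num : 0 < 8))
    (Nat.mod_lt (n / 8 ^ (m / 4096 % 8)) (by norm_num : 0 < 8))
    (Nat.mod_lt (n / 8 ^ (m / 32768 % 8)) (by norm_num : 0 < 8))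
    (Nat.mod_lt (n / 8 ^ (m / 262144 % 8)) (by norm_num : 0 < 8))
    (Nat.mod_lt (n / 8 ^ (m / 2097152 % 8)) (by norm_num : 0 < 8)) (comp n m) rfl
  obtain ⟨k0, k1, k2, k3, k4, k5, k6, k7⟩ := key
  apply Fin.ext
  obtain ⟨k, hk⟩ := k
  show (comp n m / 8 ^ k) % 8 = (n / 8 ^ ((m / 8 ^ k) % 8)) % 8
  interval_cases k
  · rw [show (8 : ℕ) ^ 0 = 1 from rfl, k0, Nat.div_one]
  · rw [show (8 : ℕ) ^ 1 = 8 from rfl, k1]
  · rw [show (8 : ℕ) ^ 2 = 64 from rfl, k2]
  · rw [show (8 : ℕ) ^ 3 = 512 from rfl, k3]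
  · rw [show (8 : ℕ) ^ 4 = 4096 from rfl, k4]
  · rw [show (8 : ℕ) ^ 5 = 32768 from rfl, k5]
  · rw [show (8 : ℕ) ^ 6 = 262144 from rfl, k6]
  · rw [show (8 : ℕ) ^ 7 = 2097152 from rfl, k7]

theorem eq_idcode (n : ℕ) (hn : n < 16777216) (h : ∀ k, dig n k = k) : n = 16434824 := by
  have h0 := congrArg Fin.val (h 0)
  have h1 := congrArg Fin.val (h 1)
  have h2 := congrArg Fin.val (h 2)
  have h3 := congrArg Fin.val (h 3)
  have h4 := congrArg Fin.val (h 4)
  have h5 := congrArg Fin.val (h 5)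
  have h6 := congrArg Fin.val (h 6)
  have h7 := congrArg Fin.val (h 7)
  simp only [dig] at h0 h1 h2 h3 h4 h5 h6 h7
  norm_num at h0 h1 h2 h3 h4 h5 h6 h7
  omega

theorem eta4 (x : Fin 4 → ZMod 2) : x = ![x 0, x 1, x 2, x 3] := by
  funext l; fin_cases l <;> rfl

theorem enc_lt' (x : Fin 4 → ZMod 2) : enc x < 16 := by
  rw [eta4 x]; exact enc_lt _ _ _ _

theorem enc_rowop' (x : Fin 4 → ZMod 2) (i j : Fin 4) (h : i ≠ j) :
    enc (fun l => x l + if l = j then x i else 0) = rowop i j (enc x) := by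
  have := enc_rowop (x 0) (x 1) (x 2) (x 3) i j h
  rwa [← eta4 x] at this

theorem mul_transvection_row (M : M4) (i j : Fin 4) (a : Fin 4) :
    (M * transvection i j 1 : M4) a = fun l => M a l + if l = j then M a i else 0 := by
  funext l
  by_cases hl : l = j
  · subst hl
    rw [mul_transvection_apply_same, if_pos rfl, one_mul]
  · rw [mul_transvection_apply_of_ne _ _ _ _ hl, if_neg hl, add_zero]

theorem enc_mul_transvection (M : M4) (i j : Fin 4) (h : i ≠ j) (a : Fin 4) :
    enc ((M * transvection i j 1 : M4) a) = rowop i j (enc (M a)) := by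
  rw [mul_transvection_row, enc_rowop' _ i j h]

theorem enc_one_0 : enc ((1 : M4) 0) = 1 := by decide +kernel
theorem enc_one_1 : enc ((1 : M4) 1) = 2 := by decide +kernel
theorem enc_one_2 : enc ((1 : M4) 2) = 4 := by decide +kernel
theorem enc_one_3 : enc ((1 : M4) 3) = 8 := by decide +kernel

theorem lk_one : lk 1 = 16434824 := by
  rw [lk, enc_one_0, enc_one_1, enc_one_2, enc_one_3, look_one]

theorem ρ_one : ρ 1 = id := by
  funext k
  rw [ρ, lk_one, dig_one]; rfl

theorem lk_transvection (i j : Fin 4) (h : i ≠ j) :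
    lk (transvection i j 1) = look (rowop i j 1) (rowop i j 2) (rowop i j 4) (rowop i j 8) := by
  have : (transvection i j 1 : M4) = 1 * transvection i j 1 := (Matrix.one_mul _).symm
  rw [lk, this, enc_mul_transvection _ i j h, enc_mul_transvection _ i j h,
    enc_mul_transvection _ i j h, enc_mul_transvection _ i j h, enc_one_0, enc_one_1, enc_one_2,
    enc_one_3]

/-- One step: right multiplication by an elementary transvection. -/
theorem step (M : M4) (hM : lk M ≠ 0) (i j : Fin 4) (h : i ≠ j) :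
    lk (M * transvection i j 1) ≠ 0 ∧
      ρ (M * transvection i j 1) = ρ M ∘ ρ (transvection i j 1) := by
  have key := gen_check ⟨enc (M 0), enc_lt' _⟩ ⟨enc (M 1), enc_lt' _⟩ ⟨enc (M 2), enc_lt' _⟩
    ⟨enc (M 3), enc_lt' _⟩ hM i j h
  have e : lk (M * transvection i j 1) =
      look (rowop i j (enc (M 0))) (rowop i j (enc (M 1))) (rowop i j (enc (M 2)))
        (rowop i j (enc (M 3))) := by
    rw [lk, enc_mul_transvection _ i j h, enc_mul_transvection _ i j h,
      enc_mul_transvection _ i j h, enc_mul_transvection _ i j h]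
  refine ⟨by rw [e]; exact key.1, ?_⟩
  funext k
  rw [Function.comp_apply, ρ, ρ, ρ, e, lk_transvection i j h, ← dig_comp]
  exact congrArg (fun n => dig n k) key.2

theorem step' (M : M4) (hM : lk M ≠ 0) (t : TransvectionStruct (Fin 4) (ZMod 2)) :
    lk (M * t.toMatrix) ≠ 0 ∧ ρ (M * t.toMatrix) = ρ M ∘ ρ t.toMatrix := by
  obtain ⟨i, j, hij, c⟩ := t
  rw [TransvectionStruct.toMatrix_mk]
  have hc : c = 0 ∨ c = 1 := by revert c; decide
  rcases hc with rfl | rfl
  · rw [transvection_zero, Matrix.mul_one, ρ_one]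
    exact ⟨hM, rfl⟩
  · exact step M hM i j hij

theorem lk_one_ne : lk (1 : M4) ≠ 0 := by rw [lk_one]; norm_num

/-- Multiplicativity against products of transvections. -/
theorem steps (L : List (TransvectionStruct (Fin 4) (ZMod 2))) :
    ∀ M : M4, lk M ≠ 0 → lk (M * (L.map TransvectionStruct.toMatrix).prod) ≠ 0 ∧
      ρ (M * (L.map TransvectionStruct.toMatrix).prod) =
        ρ M ∘ ρ (L.map TransvectionStruct.toMatrix).prod := by
  induction L with
  | nil =>
    intro M hM
    rw [List.map_nil, List.prod_nil, Matrix.mul_one, ρ_one]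
    exact ⟨hM, rfl⟩
  | cons t L ih =>
    intro M hM
    rw [List.map_cons, List.prod_cons, ← Matrix.mul_assoc]
    obtain ⟨h1, h2⟩ := step' M hM t
    obtain ⟨h3, h4⟩ := ih _ h1
    have ht := step' 1 lk_one_ne t
    rw [Matrix.one_mul] at ht
    obtain ⟨h5, h6⟩ := ih _ ht.1
    refine ⟨h3, ?_⟩
    rw [h4, h2, h6, Function.comp_assoc]

theorem exists_list (g : G) : ∃ L : List (TransvectionStruct (Fin 4) (ZMod 2)),
    g.1 = (L.map TransvectionStruct.toMatrix).prod := by
  obtain ⟨L, L', D, h⟩ := Pivot.exists_list_transvec_mul_diagonal_mul_list_transvec g.1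
  have hdet : (g.1).det = 1 := g.2
  rw [h, det_mul, det_mul, TransvectionStruct.det_toMatrix_prod,
    TransvectionStruct.det_toMatrix_prod, one_mul, mul_one, det_diagonal] at hdet
  have hD : ∀ i, D i = 1 := by
    intro i
    have hne : D i ≠ 0 := by
      intro h0
      have : ∏ i, D i = 0 := Finset.prod_eq_zero (Finset.mem_univ i) h0
      rw [this] at hdet
      exact absurd hdet (by decide)
    revert hne
    generalize D i = d
    revert d; decide
  have hD' : diagonal D = (1 : M4) := by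
    rw [← diagonal_one]; congr 1; funext i; exact hD i
  refine ⟨L ++ L', ?_⟩
  rw [h, hD', Matrix.mul_one, List.map_append, List.prod_append]

theorem valid (g : G) : lk g.1 ≠ 0 := by
  obtain ⟨L, hL⟩ := exists_list g
  have := (steps L 1 lk_one_ne).1
  rwa [Matrix.one_mul, ← hL] at this

theorem ρ_mul (g h : G) : ρ (g * h).1 = ρ g.1 ∘ ρ h.1 := by
  obtain ⟨L, hL⟩ := exists_list h
  have := (steps L g.1 (valid g)).2
  rw [Matrix.SpecialLinearGroup.coe_mul, hL]
  exact this

theorem ρ_one' : ρ (1 : G).1 = id := ρ_one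

theorem ρ_bij (g : G) : Function.Bijective (ρ g.1) := by
  have h1 : ρ g.1 ∘ ρ g⁻¹.1 = id := by rw [← ρ_mul, mul_inv_cancel, ρ_one']
  have h2 : ρ g⁻¹.1 ∘ ρ g.1 = id := by rw [← ρ_mul, inv_mul_cancel, ρ_one']
  exact ⟨Function.LeftInverse.injective (congrFun h2), Function.RightInverse.surjective (congrFun h1)⟩

/-- The underlying map of the isomorphism. -/
noncomputable def φ (g : G) : Equiv.Perm (Fin 8) := Equiv.ofBijective (ρ g.1) (ρ_bij g)

theorem φ_apply (g : G) (k : Fin 8) : φ g k = ρ g.1 k := rfl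

noncomputable def φhom : G →* Equiv.Perm (Fin 8) :=
  MonoidHom.mk' φ (fun g h => by
    ext k
    rw [Equiv.Perm.mul_apply, φ_apply, φ_apply, φ_apply, ρ_mul]; rfl)

theorem lk_lt (M : M4) : lk M < 16777216 := by
  unfold lk look
  exact Nat.lt_succ_of_le Nat.and_le_right

theorem φhom_ker : φhom.ker = ⊥ := by
  rw [eq_bot_iff]
  intro g hg
  rw [MonoidHom.mem_ker] at hg
  have h1 : ∀ k, dig (lk g.1) k = k := by
    intro k
    have : φ g = 1 := hg
    rw [← ρ, ← φ_apply, this]; rfl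
  have h2 := eq_idcode _ (lk_lt g.1) h1
  obtain ⟨e0, e1, e2, e3⟩ := ker_check ⟨enc (g.1 0), enc_lt' _⟩ ⟨enc (g.1 1), enc_lt' _⟩
    ⟨enc (g.1 2), enc_lt' _⟩ ⟨enc (g.1 3), enc_lt' _⟩ h2
  have f0 : enc (g.1 0) = 2 ^ (0 : Fin 4).val := congrArg Fin.val e0
  have f1 : enc (g.1 1) = 2 ^ (1 : Fin 4).val := congrArg Fin.val e1
  have f2 : enc (g.1 2) = 2 ^ (2 : Fin 4).val := congrArg Fin.val e2
  have f3 : enc (g.1 3) = 2 ^ (3 : Fin 4).val := congrArg Fin.val e3
  have row : ∀ (a : Fin 4), enc (g.1 a) = 2 ^ a.val → ∀ l, g.1 a l = if l = a then 1 else 0 := by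
    intro a ha l
    have := enc_unit (g.1 a 0) (g.1 a 1) (g.1 a 2) (g.1 a 3) a (by rw [← eta4]; exact ha) l
    rwa [← eta4] at this
  rw [Subgroup.mem_bot]
  apply Subtype.ext
  ext a l
  have hal : g.1 a l = if l = a then 1 else 0 := by
    fin_cases a
    · exact row 0 f0 l
    · exact row 1 f1 l
    · exact row 2 f2 l
    · exact row 3 f3 l
  rw [hal, Matrix.SpecialLinearGroup.coe_one, Matrix.one_apply]
  by_cases h : l = a
  · rw [if_pos h, if_pos h.symm]
  · rw [if_neg h, if_neg (Ne.symm h)]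

theorem center_G : Subgroup.center G = ⊥ := by
  rw [eq_bot_iff]
  intro g hg
  rw [Matrix.SpecialLinearGroup.mem_center_iff] at hg
  obtain ⟨r, hr, hg⟩ := hg
  have key : ∀ r : ZMod 2, r ^ Fintype.card (Fin 4) = 1 → r = 1 := by decide
  have := key r hr
  rw [Subgroup.mem_bot]
  apply Subtype.ext
  rw [← hg, this]
  simp

/-- A transvection as an element of `SL₄(ℤ/2)`. -/
def tSL (t : TransvectionStruct (Fin 4) (ZMod 2)) : G := ⟨t.toMatrix, t.det⟩

theorem prod_tSL (L : List (TransvectionStruct (Fin 4) (ZMod 2))) :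
    ((L.map tSL).prod).1 = (L.map TransvectionStruct.toMatrix).prod := by
  induction L with
  | nil => rfl
  | cons t L ih =>
    rw [List.map_cons, List.prod_cons, Matrix.SpecialLinearGroup.coe_mul, ih, List.map_cons,
      List.prod_cons]
    rfl

set_option maxRecDepth 100000 in
theorem comm_transvection : ∀ i j : Fin 4, i ≠ j → ∃ k : Fin 4, k ≠ i ∧ k ≠ j ∧
    (transvection i j 1 : M4) =
      transvection i k 1 * transvection k j 1 * transvection i k 1 * transvection k j 1 := by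
  decide +kernel

theorem sign_tSL (t : TransvectionStruct (Fin 4) (ZMod 2)) :
    Equiv.Perm.sign (φhom (tSL t)) = 1 := by
  obtain ⟨i, j, hij, c⟩ := t
  have hc : c = 0 ∨ c = 1 := by revert c; decide
  rcases hc with rfl | rfl
  · have : tSL ⟨i, j, hij, 0⟩ = 1 := by
      apply Subtype.ext
      show (transvection i j (0 : ZMod 2) : M4) = (1 : M4)
      exact transvection_zero i j
    rw [this, map_one, map_one]
  · obtain ⟨k, hki, hkj, hk⟩ := comm_transvection i j hij
    have : tSL ⟨i, j, hij, 1⟩ =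
        tSL ⟨i, k, hki.symm, 1⟩ * tSL ⟨k, j, hkj, 1⟩ * tSL ⟨i, k, hki.symm, 1⟩ *
          tSL ⟨k, j, hkj, 1⟩ := by
      apply Subtype.ext
      rw [Matrix.SpecialLinearGroup.coe_mul, Matrix.SpecialLinearGroup.coe_mul,
        Matrix.SpecialLinearGroup.coe_mul]
      exact hk
    rw [this, map_mul, map_mul, map_mul, map_mul, map_mul, map_mul]
    generalize Equiv.Perm.sign (φhom (tSL ⟨i, k, hki.symm, 1⟩)) = a
    generalize Equiv.Perm.sign (φhom (tSL ⟨k, j, hkj, 1⟩)) = b
    rw [mul_assoc, mul_assoc, ← mul_assoc a b]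
    exact Int.units_mul_self _

theorem sign_φ (g : G) : Equiv.Perm.sign (φhom g) = 1 := by
  obtain ⟨L, hL⟩ := exists_list g
  have hg : g = (L.map tSL).prod := by
    apply Subtype.ext
    rw [prod_tSL]; exact hL
  rw [hg, map_list_prod, map_list_prod]
  apply List.prod_eq_one
  intro x hx
  rw [List.map_map, List.map_map, List.mem_map] at hx
  obtain ⟨t, _, rfl⟩ := hx
  exact sign_tSL t

/-- The homomorphism to `A₈`. -/
noncomputable def φalt : G →* alternatingGroup (Fin 8) :=
  φhom.codRestrict (alternatingGroup (Fin 8)) (fun g => Equiv.Perm.mem_alternatingGroup.2 (sign_φ g))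

theorem φalt_ker : φalt.ker = Subgroup.center G := by
  rw [center_G, ← φhom_ker]
  exact MonoidHom.ker_codRestrict _ _ _

theorem card_psl : Nat.card (ProjectiveSpecialLinearGroup (Fin 4) (ZMod 2)) = 20160 := by
  have h := Cfsg.Agent.S0243.result (F := ZMod 2) (q := 2) (ZMod.card 2) 4 (by norm_num)
  rw [Fin.prod_univ_four] at h
  generalize Nat.card (ProjectiveSpecialLinearGroup (Fin 4) (ZMod 2)) = n at h ⊢
  norm_num at h
  omega

theorem card_alt : Nat.card (alternatingGroup (Fin 8)) = 20160 := by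
  have := two_mul_card_alternatingGroup (α := Fin 8)
  rw [Fintype.card_perm, Fintype.card_fin] at this
  rw [Nat.card_eq_fintype_card]
  have h8 : Nat.factorial 8 = 40320 := by decide
  omega

/-- PSL_4(2) is isomorphic to A_8. -/
theorem result {F : Type*} [Field F] [Fintype F] (hF : Fintype.card F = 2) : Nonempty (Matrix.ProjectiveSpecialLinearGroup (Fin 4) F ≃* alternatingGroup (Fin 8)) := by
  have : Fact (Nat.Prime 2) := ⟨Nat.prime_two⟩
  have e2 : ZMod 2 ≃+* F := ZMod.ringEquivOfPrime F Nat.prime_two hF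
  let ψ : ProjectiveSpecialLinearGroup (Fin 4) (ZMod 2) →* alternatingGroup (Fin 8) :=
    (QuotientGroup.kerLift φalt).comp
      (QuotientGroup.quotientMulEquivOfEq φalt_ker.symm).toMonoidHom
  have hinj : Function.Injective ψ :=
    (QuotientGroup.kerLift_injective φalt).comp (MulEquiv.injective _)
  have hbij : Function.Bijective ψ := by
    apply Function.Injective.bijective_of_nat_card_le hinj
    rw [card_psl, card_alt]
  exact ⟨(pslEquiv e2.symm).trans (MulEquiv.ofBijective ψ hbij)⟩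

end Cfsg.Agent.S0256
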