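import Cfsg.Statements.S5086
import Cfsg.Agent.Lib.Helper84_FusionNormal
import Cfsg.Agent.S5080

set_option autoImplicit false
open Cfsg

namespace Cfsg.Agent.S5086

open Cfsg.FusionSystem Cfsg.Agent.Lib.Helper85_Fusion Cfsg.Agent.Lib.Helper84_FusionNormal
  Cfsg.Agent.Lib.Helper84_FusionEssential

/-- A strongly closed subgroup `Q ≤ P` is stabilized by `Aut_F(P)`. -/
theorem autStabilizes_of_stronglyClosed {Ω : Type*} [Group Ω] {S : Subgroup Ω} (F : FusionSystem S)
    {Q P : Subgroup Ω} (hQ : F.StronglyClosed Q) (hQP : Q ≤ P) (hPS : P ≤ S) :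
    AutStabilizes F Q P := by
  have key : ∀ α ∈ F.autGroup P, ∀ x : P, (x : Ω) ∈ Q → ((α x : P) : Ω) ∈ Q := by
    intro α hα x hx
    have hα' := (mem_autGroup_iff F hPS α).1 hα
    have h1 := restrict_mem F hQP hα'
    exact hQ.2 Q le_rfl _ h1 ⟨x, hx⟩
  intro α hα
  ext y
  constructor
  · rintro ⟨x, hx, rfl⟩
    exact Subgroup.mem_subgroupOf.2 (key α hα x (Subgroup.mem_subgroupOf.1 hx))
  · intro hy
    refine ⟨α⁻¹ y, ?_, by simp⟩
    exact Subgroup.mem_subgroupOf.2
      (key α⁻¹ (Subgroup.inv_mem _ hα) y (Subgroup.mem_subgroupOf.1 hy))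

/-- In a saturated fusion system over a finite p-group, a subgroup Q is normal in the system if and only if Q is strongly closed in the system and is contained in every centric-radical subgroup. -/
theorem result {Ω : Type*} [Group Ω] {S : Subgroup Ω} [Finite S] (p : ℕ) [Fact p.Prime] (hS : IsPGroup p S) (F : Cfsg.FusionSystem S) (hF : F.IsSaturated p) (Q : Subgroup Ω) : F.IsNormal Q ↔ (F.StronglyClosed Q ∧ ∀ P : Subgroup Ω, F.IsCentric P → F.IsRadical p P → Q ≤ P) := by
  constructor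
  · intro hQ
    exact ⟨IsNormal.stronglyClosed hQ,
      fun P hc hr => IsNormal.le_of_isCentric_of_isRadical hS hQ hc hr⟩
  · rintro ⟨hsc, hcr⟩
    apply isNormal_of_autStabilizes hS F hF Q
    rintro P (rfl | hP)
    · exact ⟨hsc.1, autStabilizes_of_stronglyClosed F hsc hsc.1 le_rfl⟩
    · have hQP : Q ≤ P := hcr P hP.1 (Cfsg.Agent.S5080.result p hS F hF P hP)
      exact ⟨hQP, autStabilizes_of_stronglyClosed F hsc hQP hP.1.1⟩

end Cfsg.Agent.S5086
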