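import Cfsg.Statements.S5085
import Cfsg.Agent.Lib.Helper84_Fusion

set_option autoImplicit false
open Cfsg

namespace Cfsg.Agent.S5085

open Cfsg.FusionSystem Cfsg.Agent.Lib.Helper84_Fusion

/-- An injective hom on `R` mapping `Q ≤ R` onto `Q` induces an automorphism of `Q`. -/
theorem exists_aut_of_map_eq {Ω : Type*} [Group Ω] {R Q : Subgroup Ω} (hQR : Q ≤ R) (ψ : R →* Ω)
    (hinj : Function.Injective ψ) (hmap : (Q.subgroupOf R).map ψ = Q) :
    ∃ α : Q ≃* Q, ∀ x : Q, (α x : Ω) = ψ (Subgroup.inclusion hQR x) := by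
  have hmem : ∀ x : Q, ψ (Subgroup.inclusion hQR x) ∈ Q := by
    intro x
    have : ψ (Subgroup.inclusion hQR x) ∈ (Q.subgroupOf R).map ψ :=
      ⟨Subgroup.inclusion hQR x, by simp [Subgroup.mem_subgroupOf], rfl⟩
    rwa [hmap] at this
  let f : Q →* Q := (ψ.comp (Subgroup.inclusion hQR)).codRestrict Q hmem
  have hf : Function.Bijective f := by
    constructor
    · intro a b hab
      have h1 : ψ (Subgroup.inclusion hQR a) = ψ (Subgroup.inclusion hQR b) :=
        congrArg (fun s : Q => (s : Ω)) hab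
      exact Subgroup.inclusion_injective hQR (hinj h1)
    · intro y
      have hy : (y : Ω) ∈ (Q.subgroupOf R).map ψ := by rw [hmap]; exact y.2
      obtain ⟨x, hx, hxy⟩ := hy
      rw [SetLike.mem_coe, Subgroup.mem_subgroupOf] at hx
      refine ⟨⟨x, hx⟩, Subtype.ext ?_⟩
      show ψ (Subgroup.inclusion hQR ⟨x, hx⟩) = y
      rw [← hxy]
      rfl
  exact ⟨MulEquiv.ofBijective f hf, fun x => rfl⟩

/-- In any fusion system, a characteristic subgroup of a subgroup that is normal in the system is itself normal in the system. -/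
theorem result {Ω : Type*} [Group Ω] {S : Subgroup Ω} (F : Cfsg.FusionSystem S) (Q U : Subgroup Ω) (hQ : F.IsNormal Q) (hUQ : U ≤ Q) (hU : (U.subgroupOf Q).Characteristic) : F.IsNormal U := by
  obtain ⟨hQS, hext⟩ := hQ
  refine ⟨hUQ.trans hQS, fun P φ hφ => ?_⟩
  obtain ⟨ψ, hψ, hψφ, hψQ⟩ := hext P φ hφ
  have hle : P ⊔ U ≤ P ⊔ Q := sup_le_sup_left hUQ P
  refine ⟨ψ.comp (Subgroup.inclusion hle), restrict_mem F hψ hle, fun x => hψφ x, ?_⟩
  obtain ⟨α, hα⟩ := exists_aut_of_map_eq (le_sup_right : Q ≤ P ⊔ Q) ψ (F.injective_of_mem hψ) hψQ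
  have hfix : (U.subgroupOf Q).map α.toMonoidHom = U.subgroupOf Q :=
    (Subgroup.characteristic_iff_map_eq.mp hU) α
  ext y
  constructor
  · rintro ⟨x, hx, rfl⟩
    rw [SetLike.mem_coe, Subgroup.mem_subgroupOf] at hx
    have hxU : (⟨(x : Ω), hUQ hx⟩ : Q) ∈ U.subgroupOf Q := by
      rw [Subgroup.mem_subgroupOf]; exact hx
    have h2 : α ⟨(x : Ω), hUQ hx⟩ ∈ (U.subgroupOf Q).map α.toMonoidHom := ⟨_, hxU, rfl⟩
    rw [hfix, Subgroup.mem_subgroupOf, hα] at h2
    exact h2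
  · intro hy
    have hyU : (⟨y, hUQ hy⟩ : Q) ∈ U.subgroupOf Q := by
      rw [Subgroup.mem_subgroupOf]; exact hy
    rw [← hfix] at hyU
    obtain ⟨x, hx, hxy⟩ := hyU
    rw [SetLike.mem_coe, Subgroup.mem_subgroupOf] at hx
    have hxy' : (α x : Ω) = y := congrArg (fun s : Q => (s : Ω)) hxy
    rw [hα] at hxy'
    refine ⟨⟨(x : Ω), (le_sup_right : U ≤ P ⊔ U) hx⟩, ?_, ?_⟩
    · rw [SetLike.mem_coe, Subgroup.mem_subgroupOf]; exact hx
    · rw [← hxy']; rfl

end Cfsg.Agent.S5085
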