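import Cfsg.Statements.S5088
import Cfsg.Agent.Lib.Helper84_FusionSeries
import Cfsg.Agent.S5085
import Cfsg.Agent.S5086

set_option autoImplicit false
open Cfsg

namespace Cfsg.Agent.S5088

open Cfsg.FusionSystem Cfsg.Agent.Lib.Helper85_Fusion Cfsg.Agent.Lib.Helper84_FusionNormal
  Cfsg.Agent.Lib.Helper84_FusionSeries Cfsg.Agent.Lib.Helper84_FusionRS
open scoped commutatorElement

/-- In a saturated fusion system over a finite p-group, a subgroup Q is normal in the system if and only if there is a chain of subgroups 1 = Q₀ ≤ Q₁ ≤ ⋯ ≤ Qₙ = Q such that each Qᵢ with i ≥ 1 is strongly closed in the system and [Q, Qᵢ] ≤ Qᵢ₋₁. -/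
theorem result {Ω : Type*} [Group Ω] {S : Subgroup Ω} [Finite S] (p : ℕ) [Fact p.Prime] (hS : IsPGroup p S) (F : Cfsg.FusionSystem S) (hF : F.IsSaturated p) (Q : Subgroup Ω) : F.IsNormal Q ↔ ∃ (n : ℕ) (Qs : Fin (n + 1) → Subgroup Ω), Qs 0 = ⊥ ∧ Qs (Fin.last n) = Q ∧ Monotone Qs ∧ ∀ i : Fin n, F.StronglyClosed (Qs i.succ) ∧ ⁅Q, Qs i.succ⁆ ≤ Qs (Fin.castSucc i) := by
  constructor
  · intro hQ
    have hQS : Q ≤ S := hQ.1
    have : Finite Q := finite_of_le_S hQS
    have hnil : Group.IsNilpotent Q := (hS.to_le hQS).isNilpotent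
    obtain ⟨n, hn⟩ := hnil.nilpotent'
    refine ⟨n, fun i => (Subgroup.upperCentralSeries Q i).map Q.subtype, ?_, ?_, ?_, ?_⟩
    · show (Subgroup.upperCentralSeries Q ((0 : Fin (n + 1)) : ℕ)).map Q.subtype = ⊥
      rw [Fin.val_zero, Subgroup.upperCentralSeries_zero, Subgroup.map_bot]
    · show (Subgroup.upperCentralSeries Q ((Fin.last n : Fin (n + 1)) : ℕ)).map Q.subtype = Q
      rw [Fin.val_last, hn, ← MonoidHom.range_eq_map, Subgroup.range_subtype]
    · intro i j hij
      exact Subgroup.map_mono (Subgroup.upperCentralSeries_mono Q (Fin.le_def.1 hij))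
    · intro i
      constructor
      · apply IsNormal.stronglyClosed
        apply Cfsg.Agent.S5085.result F Q _ hQ (Subgroup.map_subtype_le _)
        show (((Subgroup.upperCentralSeries Q (i.succ : ℕ)).map Q.subtype).comap
          Q.subtype).Characteristic
        rw [Subgroup.comap_map_eq_self_of_injective (Subgroup.subtype_injective _)]
        infer_instance
      · rw [Subgroup.commutator_le]
        rintro g hg _ ⟨z, hz, rfl⟩
        refine ⟨⁅(⟨g, hg⟩ : Q), z⁆, ?_, rfl⟩
        have hz' : z ∈ Subgroup.upperCentralSeries Q ((i : ℕ) + 1) := hz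
        rw [Subgroup.mem_upperCentralSeries_succ_iff] at hz'
        have := (Subgroup.upperCentralSeries Q (i : ℕ)).inv_mem (hz' ⟨g, hg⟩)
        rw [commutatorElement_inv] at this
        exact this
  · rintro ⟨n, Qs, h0, hlast, hmono, hQs⟩
    -- every member of the chain is strongly closed
    have hsc : ∀ j : Fin (n + 1), F.StronglyClosed (Qs j) := by
      intro j
      induction j using Fin.cases with
      | zero => rw [h0]; exact stronglyClosed_bot F
      | succ i => exact (hQs i).1
    have hQsc : F.StronglyClosed Q := hlast ▸ hsc (Fin.last n)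
    have hQS : Q ≤ S := hQsc.1
    have hQn := stronglyClosed_le_normalizer hQsc
    rw [Cfsg.Agent.S5086.result p hS F hF Q]
    refine ⟨hQsc, fun P hPc hPr => ?_⟩
    let c : ℕ → Subgroup Ω := fun j => if h : j ≤ n then Qs ⟨j, Nat.lt_succ_of_le h⟩ else S
    have hc_le : ∀ j (h : j ≤ n), c j = Qs ⟨j, Nat.lt_succ_of_le h⟩ := fun j h => dif_pos h
    have hc_gt : ∀ j, ¬ j ≤ n → c j = S := fun j h => dif_neg h
    have hcn : c n = Q := by rw [hc_le n le_rfl]; exact hlast
    refine le_of_series hS c ?_ ?_ ?_ ?_ (hc_gt (n + 1) (by omega)) hQS hQn hPc hPr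
    · rw [hc_le 0 (Nat.zero_le n)]; exact h0
    · intro j
      by_cases h1 : j + 1 ≤ n
      · rw [hc_le j (by omega), hc_le (j + 1) h1]
        exact hmono (Fin.le_def.2 (Nat.le_succ j))
      · rw [hc_gt (j + 1) h1]
        by_cases h2 : j ≤ n
        · rw [hc_le j h2]; exact (hsc _).1
        · rw [hc_gt j h2]
    · intro j
      by_cases h : j ≤ n
      · rw [hc_le j h]; exact hsc _
      · rw [hc_gt j h]; exact stronglyClosed_S F
    · intro j
      by_cases h1 : j + 1 ≤ n
      · rw [hc_le j (by omega), hc_le (j + 1) h1]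
        exact (hQs ⟨j, h1⟩).2
      · rw [hc_gt (j + 1) h1]
        by_cases h2 : j ≤ n
        · have hjn : j = n := by omega
          subst hjn
          rw [hcn]
          rw [Subgroup.commutator_le]
          intro g hg s hs
          have h3 : s * g⁻¹ * s⁻¹ ∈ Q :=
            (Subgroup.mem_normalizer_iff.1 (hQn hs) g⁻¹).1 (Q.inv_mem hg)
          have := Q.mul_mem hg h3
          rw [commutatorElement_def]
          convert this using 1
          group
        · rw [hc_gt j h2]
          rw [Subgroup.commutator_le]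
          intro g hg s hs
          rw [commutatorElement_def]
          exact S.mul_mem (S.mul_mem (S.mul_mem (hQS hg) hs) (S.inv_mem (hQS hg))) (S.inv_mem hs)

end Cfsg.Agent.S5088
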