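import Cfsg.Statements.S5128
import Cfsg.Agent.Lib.Helper87_ModT

set_option autoImplicit false
open Cfsg

namespace Cfsg.Agent.S5128

open Cfsg.FusionSystem Cfsg.Agent.Lib Cfsg.Agent.Lib.Helper87_Alperin Cfsg.Agent.Lib.Helper87_Alperin2
  Cfsg.Agent.Lib.Helper87_Normal Cfsg.Agent.Lib.Helper87_ModT

/-- In a saturated fusion system over a finite p-group S, the product of two strongly closed subgroups is strongly closed. -/
theorem result {Ω : Type*} [Group Ω] {S : Subgroup Ω} [Finite S] (p : ℕ) [Fact p.Prime] (hS : IsPGroup p S) (F : Cfsg.FusionSystem S) (hF : F.IsSaturated p) (T₁ T₂ : Subgroup Ω) (h₁ : F.StronglyClosed T₁) (h₂ : F.StronglyClosed T₂) : F.StronglyClosed (T₁ ⊔ T₂) := by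
  have hT₁S : T₁ ≤ S := h₁.1
  have hT₂S : T₂ ≤ S := h₂.1
  have hnorm₁ : S ≤ Subgroup.normalizer (T₁ : Set Ω) := stronglyClosed_le_normalizer h₁
  have hnorm₂ : S ≤ Subgroup.normalizer (T₂ : Set Ω) := stronglyClosed_le_normalizer h₂
  refine ⟨sup_le hT₁S hT₂S, fun R hR φ hφ x => ?_⟩
  have hRS : R ≤ S := hom_le F hφ
  obtain ⟨g, hg, hgφ⟩ := exists_lift F hS hF h₁ (isMapOn_extHom F hφ)
  -- decompose `x = t₂ * t₁`
  have hx : (x : Ω) ∈ T₂ ⊔ T₁ := by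
    rw [sup_comm]
    exact hR x.2
  obtain ⟨t₂, ht₂, t₁, ht₁, hxt⟩ := (mem_sup_iff_exists_mul (hT₂S.trans hnorm₁) _).1 hx
  have ht₁D : t₁ ∈ R ⊔ T₁ := le_sup_right (a := R) ht₁
  have hxD : (x : Ω) ∈ R ⊔ T₁ := le_sup_left (b := T₁) x.2
  have ht₂D : t₂ ∈ R ⊔ T₁ := by
    have h1 : t₂ = (x : Ω) * t₁⁻¹ := by
      rw [hxt]
      group
    rw [h1]
    exact (R ⊔ T₁).mul_mem hxD ((R ⊔ T₁).inv_mem ht₁D)
  have hgx : g (x : Ω) ∈ T₁ ⊔ T₂ := by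
    rw [hxt, hg.map_mul ht₂D ht₁D]
    exact (T₁ ⊔ T₂).mul_mem
      (le_sup_right (a := T₁) (IsMapOn.mem_stronglyClosed h₂ hg ht₂D ht₂))
      (le_sup_left (b := T₂) (IsMapOn.mem_stronglyClosed h₁ hg ht₁D ht₁))
  have h3 := hgφ x x.2
  rw [extHom_coe] at h3
  have h4 : φ x = g (x : Ω) * ((φ x)⁻¹ * g (x : Ω))⁻¹ := by group
  rw [h4]
  exact (T₁ ⊔ T₂).mul_mem hgx ((T₁ ⊔ T₂).inv_mem (le_sup_left (b := T₂) h3))

end Cfsg.Agent.S5128
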