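import Cfsg.Statements.S5191
-- import your own Cfsg.Agent.* helpers here

set_option autoImplicit false
open Cfsg

namespace Cfsg.Agent.S5191

/-- General form: for any normal subgroup `N` of a finite group `G`, a Sylow `p`-subgroup `S` and `P ≤ S`,
if `g₀ P g₀⁻¹ ≤ S ⊔ N` then some `n ∈ N` has `n g₀ P g₀⁻¹ n⁻¹ ≤ S`. -/
theorem lift_aux {G : Type*} [Group G] [Finite G] {p : ℕ} [Fact p.Prime]
    (N : Subgroup G) [N.Normal] (S : Sylow p G) (P : Subgroup G) (hP : P ≤ (S : Subgroup G))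
    (g₀ : G) (hQ : ∀ x ∈ P, g₀ * x * g₀⁻¹ ∈ (S : Subgroup G) ⊔ N) :
    ∃ n ∈ N, ∀ x ∈ P, n * (g₀ * x * g₀⁻¹) * n⁻¹ ∈ (S : Subgroup G) := by
  classical
  set H : Subgroup G := (S : Subgroup G) ⊔ N with hH
  have hSH : (S : Subgroup G) ≤ H := le_sup_left
  -- the conjugate Q of P
  set Q : Subgroup G := P.map (MulAut.conj g₀).toMonoidHom with hQdef
  have hQH : Q ≤ H := by
    rintro _ ⟨x, hx, rfl⟩
    exact hQ x hx
  have hPp : IsPGroup p P := S.isPGroup'.to_le hP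
  have hQp : IsPGroup p Q := hPp.map _
  -- Q as a subgroup of H
  have hQ'p : IsPGroup p (Q.subgroupOf H) := by
    have : IsPGroup p (Q.subgroupOf H) :=
      hQp.comap_of_injective H.subtype (Subgroup.subtype_injective H)
    exact this
  obtain ⟨R, hR⟩ := hQ'p.exists_le_sylow
  let S' : Sylow p H := S.subtype hSH
  obtain ⟨h, hh⟩ := MulAction.exists_smul_eq H R S'
  -- h ∈ H, write h = s * n
  have hmem : (h : G) ∈ (S : Subgroup G) ⊔ N := h.2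
  rw [Subgroup.mem_sup_of_normal_right] at hmem
  obtain ⟨s, hs, n, hn, hsn⟩ := hmem
  refine ⟨n, hn, fun x hx => ?_⟩
  -- the element y = g₀ x g₀⁻¹ ∈ Q ≤ H
  have hyQ : g₀ * x * g₀⁻¹ ∈ Q := ⟨x, hx, rfl⟩
  have hyH : g₀ * x * g₀⁻¹ ∈ H := hQH hyQ
  have hyR : (⟨g₀ * x * g₀⁻¹, hyH⟩ : H) ∈ (R : Subgroup H) := hR (by
    rw [Subgroup.mem_subgroupOf]; exact hyQ)
  have hyS' : h * ⟨g₀ * x * g₀⁻¹, hyH⟩ * h⁻¹ ∈ (S' : Subgroup H) := by
    rw [← hh]
    rw [Sylow.coe_subgroup_smul, Subgroup.mem_pointwise_smul_iff_inv_smul_mem] 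
    simp only [MulAut.smul_def, MulAut.conj_inv_apply]
    have : h⁻¹ * (h * ⟨g₀ * x * g₀⁻¹, hyH⟩ * h⁻¹) * h = ⟨g₀ * x * g₀⁻¹, hyH⟩ := by group
    rw [this]; exact hyR
  have hyS : (h : G) * (g₀ * x * g₀⁻¹) * (h : G)⁻¹ ∈ (S : Subgroup G) := by
    have := hyS'
    rw [Sylow.coe_subtype, Subgroup.mem_subgroupOf] at this
    simpa using this
  -- now h = s * n so n y n⁻¹ = s⁻¹ (h y h⁻¹) s ∈ S
  have : n * (g₀ * x * g₀⁻¹) * n⁻¹ = s⁻¹ * ((h : G) * (g₀ * x * g₀⁻¹) * (h : G)⁻¹) * s := by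
    rw [← hsn]; group
  rw [this]
  exact (S : Subgroup G).mul_mem ((S : Subgroup G).mul_mem ((S : Subgroup G).inv_mem hs) hyS) hs

/-- Fusion in a finite group G and in its quotient by O_{p'}(G) agree. Let S be a Sylow p-subgroup of G, N = O_{p'}(G) and P ≤ S. If an element of G/N conjugates the image of P into the image of S, then some element g of G conjugates P into S and induces the same map on P modulo N. (Together with the injectivity of S → G/N this says that g ↦ gN induces an isomorphism of the fusion system of G on S with that of G/N on SN/N.) -/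
theorem result {G : Type*} [Group G] [Finite G] {p : ℕ} [Fact p.Prime]
    [hN : (Cfsg.pPrimeCore p G).Normal] (S : Sylow p G) (P : Subgroup G) (hP : P ≤ (S : Subgroup G))
    (γ : G ⧸ Cfsg.pPrimeCore p G)
    (hγ : ∀ x ∈ P, γ * QuotientGroup.mk x * γ⁻¹ ∈ ((S : Subgroup G).map (QuotientGroup.mk' (Cfsg.pPrimeCore p G)))) :
    ∃ g : G, ∀ x ∈ P, g * x * g⁻¹ ∈ S ∧
      (QuotientGroup.mk (g * x * g⁻¹) : G ⧸ Cfsg.pPrimeCore p G) = γ * QuotientGroup.mk x * γ⁻¹ := by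
  obtain ⟨g₀, rfl⟩ := QuotientGroup.mk_surjective γ
  have hQ : ∀ x ∈ P, g₀ * x * g₀⁻¹ ∈ (S : Subgroup G) ⊔ Cfsg.pPrimeCore p G := by
    intro x hx
    obtain ⟨s, hs, hsx⟩ := hγ x hx
    -- mk s = mk (g₀ x g₀⁻¹)
    have h1 : (QuotientGroup.mk s : G ⧸ Cfsg.pPrimeCore p G) = QuotientGroup.mk (g₀ * x * g₀⁻¹) := by
      simpa using hsx
    rw [QuotientGroup.eq] at h1
    have h2 : g₀ * x * g₀⁻¹ = s * (s⁻¹ * (g₀ * x * g₀⁻¹)) := by group
    rw [h2]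
    exact Subgroup.mul_mem_sup hs h1
  obtain ⟨n, hn, hnS⟩ := lift_aux (Cfsg.pPrimeCore p G) S P hP g₀ hQ
  refine ⟨n * g₀, fun x hx => ⟨?_, ?_⟩⟩
  · have : n * g₀ * x * (n * g₀)⁻¹ = n * (g₀ * x * g₀⁻¹) * n⁻¹ := by group
    rw [this]; exact hnS x hx
  · have hn1 : (QuotientGroup.mk n : G ⧸ Cfsg.pPrimeCore p G) = 1 :=
      (QuotientGroup.eq_one_iff n).mpr hn
    simp only [QuotientGroup.mk_mul, QuotientGroup.mk_inv, hn1, one_mul, mul_inv_rev, inv_one, mul_one]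

end Cfsg.Agent.S5191
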