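import Cfsg.Statements.S5098
import Cfsg.Agent.Lib.Helper84_KNormalizer5

set_option autoImplicit false
open Cfsg

namespace Cfsg.Agent.S5098

open Cfsg.FusionSystem Cfsg.Agent.Lib.Helper85_Fusion Cfsg.Agent.Lib.Helper84_FusionSat
  Cfsg.Agent.Lib.Helper84_FusionRS Cfsg.Agent.Lib.Helper84_FusionAlperin
  Cfsg.Agent.Lib.Helper84_KNormalizer

/-- For `K = ⊤` the `K`-normalizer is the normalizer. -/
theorem NK_top {Ω : Type*} [Group Ω] {S : Subgroup Ω} (F : FusionSystem S) {Q : Subgroup Ω}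
    {φ : Q →* Ω} (hφ : φ ∈ F.Hom Q) : NK S Q ⊤ φ = normalizerIn S φ.range := by
  set e := isoOfRange φ (F.injective_of_mem hφ) rfl with he
  ext g
  constructor
  · rintro ⟨hgS, κ, -, hg⟩
    refine ⟨hgS, ?_⟩
    apply mem_normalizer_of_aut (MulAut.congr e κ) g
    intro y
    show φ (κ (e.symm y)) = _
    rw [← hg, apply_isoOfRange_symm]
  · rintro ⟨hgS, hgN⟩
    refine ⟨hgS, MulAut.congr e.symm (φ.range.normalizerMonoidHom ⟨g, hgN⟩), Subgroup.mem_top _,
      fun x => ?_⟩
    show g * φ x * g⁻¹ = φ (e.symm (φ.range.normalizerMonoidHom ⟨g, hgN⟩ (e x)))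
    rw [apply_isoOfRange_symm]
    rfl

/-- If F is a saturated fusion system over a finite p-group S and Q is fully normalized in F, then the normalizer system N_F(Q) is a saturated fusion system over N_S(Q). -/
theorem result {Ω : Type*} [Group Ω] {S : Subgroup Ω} [Finite S] (p : ℕ) [Fact p.Prime] (hS : IsPGroup p S) (F : Cfsg.FusionSystem S) (hF : F.IsSaturated p) (Q : Subgroup Ω) (hQ : F.IsFullyNormalized Q) (E : Cfsg.FusionSystem (Cfsg.FusionSystem.normalizerIn S Q)) (hE : F.IsNormalizerSystem Q E) : E.IsSaturated p := by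
  have hQS : Q ≤ S := hQ.1
  apply isSaturated_of_isKNormalizerSystem (K := (⊤ : Subgroup (MulAut Q))) hS hF hQS
  · intro φ hφ
    rw [NK_top F hφ, NK_top F (subtype_mem F hQS), Subgroup.range_subtype]
    exact hQ.2 φ.range ⟨φ, hφ, rfl⟩
  · constructor
    · intro g
      constructor
      · rintro ⟨hgS, hgN⟩
        exact ⟨hgS, Q.normalizerMonoidHom ⟨g, hgN⟩, Subgroup.mem_top _, fun x => rfl⟩
      · rintro ⟨hgS, κ, -, hκ⟩
        exact ⟨hgS, mem_normalizer_of_aut κ g (fun x => (hκ x).symm)⟩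
    · intro P φ
      rw [hE P]
      constructor
      · rintro ⟨hφ, hPN, hφN, ψ, hψ, hext, himg⟩
        refine ⟨hφ, hPN, hφN, ψ, hψ, hext, ?_⟩
        have hr : (ψ.comp (Subgroup.inclusion (le_sup_right : Q ≤ P ⊔ Q))).range = Q := by
          rw [range_comp_inclusion]
          exact himg
        have hinj : Function.Injective (ψ.comp (Subgroup.inclusion (le_sup_right : Q ≤ P ⊔ Q))) :=
          (F.injective_of_mem hψ).comp (Subgroup.inclusion_injective _)
        exact ⟨isoOfRange _ hinj hr, Subgroup.mem_top _, fun x => rfl⟩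
      · rintro ⟨hφ, hPN, hφN, ψ, hψ, hext, κ, -, hκ⟩
        refine ⟨hφ, hPN, hφN, ψ, hψ, hext, ?_⟩
        rw [map_subgroupOf_eq_range_of_ext le_sup_right (Q.subtype.comp κ.toMonoidHom) ψ hκ,
          range_subtype_comp_equiv]

end Cfsg.Agent.S5098
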