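import Cfsg.Statements.S5102
import Cfsg.Agent.Lib.Helper85_Fusion

set_option autoImplicit false
open Cfsg

namespace Cfsg.Agent.S5102

/-- A normal p-subgroup of a finite group G is normal in the fusion system of G on a Sylow p-subgroup. -/
theorem result {G : Type*} [Group G] [Finite G] (p : ℕ) [Fact p.Prime] (S : Sylow p G) (R : Subgroup G) [R.Normal] (hR : IsPGroup p R) : (Cfsg.groupFusionSystem (S : Subgroup G)).IsNormal R := by
  have hRS : R ≤ S := hR.le_sylow_of_normal S
  have hn : R.Normal := inferInstance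
  refine ⟨hRS, ?_⟩
  rintro P φ ⟨hPS, hφS, g, hg⟩
  have hle : P ⊔ R ≤ (S : Subgroup G).comap (MulAut.conj g).toMonoidHom := by
    refine sup_le ?_ ?_
    · intro y hy
      have h1 := hφS ⟨y, hy⟩
      rw [hg] at h1
      exact h1
    · intro y hy
      exact hRS (hn.conj_mem y hy g)
  refine ⟨conjHom (P ⊔ R) g, ⟨sup_le hPS hRS, fun x => hle x.2, g, fun x => rfl⟩, ?_, ?_⟩
  · intro x
    rw [hg]
    rfl
  · ext y
    rw [Cfsg.Agent.Lib.Helper85_Fusion.mem_map_subgroupOf]
    constructor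
    · rintro ⟨z, hz, hD, rfl⟩
      exact hn.conj_mem z hz g
    · intro hy
      have h1 : g⁻¹ * y * g ∈ R := by
        have := hn.conj_mem y hy g⁻¹
        rwa [inv_inv] at this
      refine ⟨g⁻¹ * y * g, h1, (le_sup_right : R ≤ P ⊔ R) h1, ?_⟩
      show g * (g⁻¹ * y * g) * g⁻¹ = y
      group

end Cfsg.Agent.S5102
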