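import Cfsg.Statements.S5103
import Cfsg.Agent.Lib.Helper85_Transport
import Cfsg.Agent.Lib.Helper1_Cores
import Cfsg.Agent.S5102

set_option autoImplicit false
open Cfsg

namespace Cfsg.Agent.S5103

open Cfsg.Agent.Lib

/-- A fusion system over a finite p-group that has a model (a finite group realizing it on a Sylow p-subgroup with self-centralizing largest normal p-subgroup) is constrained. -/
theorem result {Ω : Type*} [Group Ω] {S : Subgroup Ω} [Finite S] (p : ℕ) [Fact p.Prime] (hS : IsPGroup p S) (F : Cfsg.FusionSystem S) {G : Type*} [Group G] (ι : S →* G) (hG : F.IsModel p G ι) : F.IsConstrained p := by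
  obtain ⟨hfin, hreal, ⟨T, hT⟩, hcent⟩ := hG
  haveI := hfin
  apply (Helper85_Transport.corr_of_isRealizedBy hreal).isConstrained
  rw [← hT]
  refine ⟨Helper85_GroupFusion.group_isSaturated T, pCore p G, ?_, ?_⟩
  · haveI : (pCore p G).Normal := Helper1_Cores.pCore_normal p
    exact Cfsg.Agent.S5102.result p T (pCore p G) (Helper1_Cores.pCore_isPGroup p)
  · refine ⟨Helper1_Cores.pCore_le_sylow p T, fun Q hQ => ?_⟩
    obtain ⟨-, -, g, rfl⟩ := (Helper85_GroupFusion.group_isConj_iff _ _ _).1 hQ
    have hn : (pCore p G).Normal := Helper1_Cores.pCore_normal p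
    have heq : Helper85_GroupFusion.conjSub g (pCore p G) = pCore p G := by
      apply le_antisymm
      · rintro _ ⟨x, hx, rfl⟩
        exact hn.conj_mem x hx g
      · intro x hx
        refine ⟨g⁻¹ * x * g, ?_, ?_⟩
        · have := hn.conj_mem x hx g⁻¹
          rwa [inv_inv] at this
        · show g * (g⁻¹ * x * g) * g⁻¹ = x
          group
    rw [heq]
    intro x hx
    exact hcent hx.2

end Cfsg.Agent.S5103
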