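import Cfsg.Statements.S5132
import Cfsg.Agent.Lib.Helper84_Fusion
import Mathlib

set_option autoImplicit false
open Cfsg Cfsg.FusionSystem

namespace Cfsg.Agent.S5132

open Cfsg.Agent.Lib.Helper84_Fusion

variable {Ω : Type*} [Group Ω] {S : Subgroup Ω}

theorem mem_pre {Ω' : Type*} [Group Ω'] (θ : S →* Ω') (P' : Subgroup Ω') (y : Ω) :
    y ∈ preimageAlong θ P' ↔ ∃ h : y ∈ S, θ ⟨y, h⟩ ∈ P' := by
  unfold preimageAlong
  constructor
  · rintro ⟨s, hs, rfl⟩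
    exact ⟨s.2, hs⟩
  · rintro ⟨h, hy⟩
    exact ⟨⟨y, h⟩, hy, rfl⟩

theorem pre_le {Ω' : Type*} [Group Ω'] (θ : S →* Ω') (P' : Subgroup Ω') :
    preimageAlong θ P' ≤ S := fun y hy => ((mem_pre θ P' y).1 hy).1

theorem sc_mem_iff (F : FusionSystem S) {S₀ : Subgroup Ω} (hS₀ : F.StronglyClosed S₀)
    {P : Subgroup Ω} {φ : P →* Ω} (hφ : φ ∈ F.Hom P) (x : P) : φ x ∈ S₀ ↔ (x : Ω) ∈ S₀ := by
  constructor
  · intro h
    obtain ⟨ψ, hψ, hinv⟩ := F.inv_mem hφ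
    have hr := restrict_mem F hψ (inf_le_left : φ.range ⊓ S₀ ≤ φ.range)
    have h1 := hS₀.2 (φ.range ⊓ S₀) inf_le_right _ hr ⟨φ x, ⟨⟨x, rfl⟩, h⟩⟩
    have e : (ψ.comp (Subgroup.inclusion (inf_le_left : φ.range ⊓ S₀ ≤ φ.range)))
        ⟨φ x, ⟨⟨x, rfl⟩, h⟩⟩ = (x : Ω) := hinv x
    rw [e] at h1; exact h1
  · intro h
    have hr := restrict_mem F hφ (inf_le_left : P ⊓ S₀ ≤ P)
    exact hS₀.2 (P ⊓ S₀) inf_le_right _ hr ⟨x, ⟨x.2, h⟩⟩

theorem sc_le_range [Finite S] (F : FusionSystem S) {S₀ : Subgroup Ω} (hS₀ : F.StronglyClosed S₀)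
    {P : Subgroup Ω} {φ : P →* Ω} (hφ : φ ∈ F.Hom P) (hle : S₀ ≤ P) : S₀ ≤ φ.range := by
  have hfin : Finite S₀ :=
    Finite.of_injective (Subgroup.inclusion hS₀.1) (Subgroup.inclusion_injective _)
  let f : S₀ → S₀ := fun x => ⟨φ ⟨x, hle x.2⟩, (sc_mem_iff F hS₀ hφ _).2 x.2⟩
  have hf : Function.Injective f := by
    intro x y hxy
    have h1 : φ ⟨x, hle x.2⟩ = φ ⟨y, hle y.2⟩ := congrArg Subtype.val hxy
    have h2 := F.injective_of_mem hφ h1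
    exact Subtype.ext (Subtype.mk.inj h2)
  have hs := Finite.injective_iff_surjective.1 hf
  intro y hy
  obtain ⟨x, hx⟩ := hs ⟨y, hy⟩
  exact ⟨⟨x, hle x.2⟩, congrArg Subtype.val hx⟩

/-- Let F be a fusion system over a finite p-group S and S₀ a subgroup strongly closed in F (so S₀ is normal in S; the normality of S₀ ∩ S in S is supplied as an instance hypothesis so that the quotient can be written). Then the factor system F/S₀ exists: there is a fusion system over S/S₀ whose maps with source a subgroup P' of S/S₀ are exactly the homomorphisms induced along the quotient map by the maps of F whose source is the full preimage of P' in S. -/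
theorem result {Ω : Type*} [Group Ω] {S : Subgroup Ω} [Finite S] (p : ℕ) [Fact p.Prime] (hS : IsPGroup p S) (F : Cfsg.FusionSystem S) (S₀ : Subgroup Ω) (hS₀ : F.StronglyClosed S₀) [(S₀.subgroupOf S).Normal] : ∃ E : Cfsg.FusionSystem (⊤ : Subgroup (S ⧸ S₀.subgroupOf S)), F.IsFactorSystem S₀ (QuotientGroup.mk' (S₀.subgroupOf S)) E := by
  set θ : S →* S ⧸ S₀.subgroupOf S := QuotientGroup.mk' (S₀.subgroupOf S) with hθ
  have hker : ∀ s : S, θ s = 1 ↔ (s : Ω) ∈ S₀ := by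
    intro s
    rw [hθ, QuotientGroup.mk'_apply, QuotientGroup.eq_one_iff, Subgroup.mem_subgroupOf]
  have hsurj : Function.Surjective θ := QuotientGroup.mk'_surjective _
  have hS₀pre : ∀ P' : Subgroup (S ⧸ S₀.subgroupOf S), S₀ ≤ preimageAlong θ P' := by
    intro P' y hy
    rw [mem_pre]
    refine ⟨hS₀.1 hy, ?_⟩
    rw [(hker ⟨y, hS₀.1 hy⟩).2 hy]
    exact P'.one_mem
  -- every element of P' comes from the preimage
  have hlift : ∀ (P' : Subgroup (S ⧸ S₀.subgroupOf S)) (y' : P'),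
      ∃ (x : Ω) (hx : x ∈ S), θ ⟨x, hx⟩ = y' := by
    intro P' y'
    obtain ⟨s, hs⟩ := hsurj y'
    exact ⟨s, s.2, hs⟩
  have hinj : ∀ (P' : Subgroup (S ⧸ S₀.subgroupOf S)) (φ' : P' →* S ⧸ S₀.subgroupOf S),
      (∃ φ ∈ F.Hom (preimageAlong θ P'), InducedAlong θ φ φ') → Function.Injective φ' := by
    rintro P' φ' ⟨φ, hφ, hP, hφS, hP', hind⟩
    rw [injective_iff_map_eq_one]
    intro y' hy'
    obtain ⟨x, hx, hxy⟩ := hlift P' y'
    have hxpre : x ∈ preimageAlong θ P' := (mem_pre θ P' x).2 ⟨hx, hxy ▸ y'.2⟩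
    have h1 := hind ⟨x, hxpre⟩
    have e1 : (⟨θ ⟨x, hP hxpre⟩, hP' ⟨x, hxpre⟩⟩ : P') = y' := Subtype.ext hxy
    rw [e1, hy'] at h1
    have h2 : φ ⟨x, hxpre⟩ ∈ S₀ := (hker _).1 h1.symm
    have h3 : x ∈ S₀ := (sc_mem_iff F hS₀ hφ ⟨x, hxpre⟩).1 h2
    have h4 : θ ⟨x, hx⟩ = 1 := (hker _).2 h3
    apply Subtype.ext
    rw [← hxy, h4]; rfl
  refine ⟨⟨fun P' => {φ' | ∃ φ ∈ F.Hom (preimageAlong θ P'), InducedAlong θ φ φ'},
    ?_, ?_, ?_, ?_, ?_⟩, hS₀.1, hker, ?_, ?_⟩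
  · -- le_of_mem
    intro P' φ' _
    exact ⟨le_top, fun _ => Subgroup.mem_top _⟩
  · -- injective
    exact fun {P'} {φ'} h => hinj P' φ' h
  · -- conj
    intro P' g _ _
    obtain ⟨s, rfl⟩ := hsurj g
    refine ⟨conjHom (preimageAlong θ P') s, F.conj_mem (pre_le θ P') s.2, pre_le θ P', ?_, ?_, ?_⟩
    · intro x
      rw [conjHom_apply]
      exact S.mul_mem (S.mul_mem s.2 (pre_le θ P' x.2)) (S.inv_mem s.2)
    · intro x
      exact ((mem_pre θ P' x).1 x.2).2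
    · intro x
      rw [conjHom_apply]
      have : (⟨conjHom (preimageAlong θ P') s x, by
          rw [conjHom_apply]
          exact S.mul_mem (S.mul_mem s.2 (pre_le θ P' x.2)) (S.inv_mem s.2)⟩ : S)
          = s * ⟨x, pre_le θ P' x.2⟩ * s⁻¹ := by
        apply Subtype.ext
        simp [conjHom_apply]
      rw [this, map_mul, map_mul, map_inv]
  · -- comp
    rintro P' Q' φ' ψ' ⟨φ, hφ, hP, hφS, hP', hind⟩ ⟨ψ, hψ, hQ, hψS, hQ', hind'⟩ h
    have h2 : ∀ x : preimageAlong θ P', φ x ∈ preimageAlong θ Q' := by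
      intro x
      rw [mem_pre]
      refine ⟨hφS x, ?_⟩
      rw [← hind x]
      exact h _
    refine ⟨ψ.comp (φ.codRestrict _ h2), F.comp_mem hφ hψ h2, hP, ?_, hP', ?_⟩
    · intro x
      exact hψS _
    · intro x
      have e1 : (φ'.codRestrict Q' h) ⟨θ ⟨x, hP x.2⟩, hP' x⟩
          = ⟨θ ⟨φ x, hφS x⟩, hQ' ⟨φ x, h2 x⟩⟩ := by
        apply Subtype.ext
        exact hind x
      show ψ' ((φ'.codRestrict Q' h) ⟨θ ⟨x, hP x.2⟩, hP' x⟩) = _
      rw [e1]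
      exact hind' ⟨φ x, h2 x⟩
  · -- inverse
    rintro P' φ' ⟨φ, hφ, hP, hφS, hP', hind⟩
    have hinj' := hinj P' φ' ⟨φ, hφ, hP, hφS, hP', hind⟩
    have hQ : φ.range = preimageAlong θ φ'.range := by
      ext y
      constructor
      · rintro ⟨x, rfl⟩
        rw [mem_pre]
        refine ⟨hφS x, ?_⟩
        rw [← hind x]
        exact ⟨_, rfl⟩
      · intro hy
        rw [mem_pre] at hy
        obtain ⟨hyS, x', hx'⟩ := hy
        obtain ⟨x, hx, hxy⟩ := hlift P' x'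
        have hxpre : x ∈ preimageAlong θ P' := (mem_pre θ P' x).2 ⟨hx, hxy ▸ x'.2⟩
        have h1 := hind ⟨x, hxpre⟩
        have e1 : (⟨θ ⟨x, hP hxpre⟩, hP' ⟨x, hxpre⟩⟩ : P') = x' := Subtype.ext hxy
        rw [e1, hx'] at h1
        -- θ y = θ (φ x)
        have h2 : θ (⟨φ ⟨x, hxpre⟩, hφS _⟩⁻¹ * ⟨y, hyS⟩) = 1 := by
          rw [map_mul, map_inv, h1, inv_mul_cancel]
        have h3 : (φ ⟨x, hxpre⟩)⁻¹ * y ∈ S₀ := (hker _).1 h2
        obtain ⟨k, hk⟩ := sc_le_range F hS₀ hφ (hS₀pre P') h3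
        refine ⟨⟨x, hxpre⟩ * k, ?_⟩
        rw [map_mul, hk]; group
    obtain ⟨ψ, hψ, hψr, hψinv, -⟩ := exists_inverse F hφ hQ
    have hsymm : ∀ x : P', (MonoidHom.ofInjective hinj').symm ⟨φ' x, ⟨x, rfl⟩⟩ = x := by
      intro x
      rw [MulEquiv.symm_apply_eq]
      apply Subtype.ext
      rw [MonoidHom.ofInjective_apply]
    refine ⟨P'.subtype.comp (MonoidHom.ofInjective hinj').symm.toMonoidHom,
      ⟨ψ, hψ, pre_le θ _, fun y => (F.le_of_mem hψ).2 y, fun y => ((mem_pre θ _ y).1 y.2).2, ?_⟩,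
      ?_⟩
    · rintro ⟨y, hy⟩
      have hy2 : y ∈ φ.range := by rw [hQ]; exact hy
      obtain ⟨x, rfl⟩ := hy2
      have e2 : (⟨ψ ⟨φ x, hy⟩, (F.le_of_mem hψ).2 ⟨φ x, hy⟩⟩ : S) = ⟨x, hP x.2⟩ :=
        Subtype.ext (hψinv x hy)
      rw [e2]
      have e3 : (⟨θ ⟨φ x, pre_le θ _ hy⟩, ((mem_pre θ _ (φ x)).1 hy).2⟩ : φ'.range)
          = ⟨φ' ⟨θ ⟨x, hP x.2⟩, hP' x⟩, ⟨_, rfl⟩⟩ := Subtype.ext (hind x).symm
      show ((MonoidHom.ofInjective hinj').symm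
        (⟨θ ⟨φ x, pre_le θ _ hy⟩, ((mem_pre θ _ (φ x)).1 hy).2⟩ : φ'.range) : S ⧸ S₀.subgroupOf S) = _
      rw [e3, hsymm]
    · intro x
      show ((MonoidHom.ofInjective hinj').symm ⟨φ' x, ⟨x, rfl⟩⟩ : S ⧸ S₀.subgroupOf S) = x
      rw [hsymm]
  · -- range
    rw [MonoidHom.range_eq_top]
    exact hsurj
  · intro P' φ'
    constructor
    · intro h
      exact ⟨le_top, h⟩
    · intro h
      exact h.2

end Cfsg.Agent.S5132
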