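import Cfsg.Statements.S5133
import Cfsg.Agent.S5111
import Cfsg.Agent.S5131
import Cfsg.Agent.S5132
import Cfsg.Agent.Lib.Helper87_Factor
import Cfsg.Agent.Lib.Helper85_Transport

set_option autoImplicit false
set_option linter.style.haveILetI false
open Cfsg

namespace Cfsg.Agent.S5133

open Cfsg.FusionSystem Cfsg.Agent.Lib
open Cfsg.Agent.Lib.Helper87_Alperin (IsMapOn extFun extHom)
open Cfsg.Agent.Lib.Helper87_Factor (extOn extOn_apply extOn_coe extOn_mul extOn_one extOn_inv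
  mem_preimageAlong preimageAlong_le mem_imageAlong extOn_mem_imageAlong)

section
variable {Ω : Type*} [Group Ω] {S : Subgroup Ω} {Ω' : Type*} [Group Ω'] {S' : Subgroup Ω'}

theorem extOn_conj (α : S →* Ω') {g x : Ω} (hg : g ∈ S) (hx : x ∈ S) :
    extOn α (g * x * g⁻¹) = extOn α g * extOn α x * (extOn α g)⁻¹ := by
  rw [extOn_mul α (S.mul_mem hg hx) (S.inv_mem hg), extOn_mul α hg hx, extOn_inv α hg]

/-- Surjectivity of `α` onto `S'`, in terms of `extOn`. -/
theorem exists_extOn_eq {α : S →* Ω'} (hr : α.range = S') {y : Ω'} (hy : y ∈ S') :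
    ∃ x ∈ S, extOn α x = y := by
  rw [← hr] at hy
  obtain ⟨s, rfl⟩ := hy
  exact ⟨s, s.2, extOn_coe α s⟩

theorem extOn_mem_range {α : S →* Ω'} (hr : α.range = S') {x : Ω} (hx : x ∈ S) : extOn α x ∈ S' := by
  rw [← hr, extOn_apply α hx]
  exact ⟨_, rfl⟩

/-- The image of the full preimage. -/
theorem imageAlong_preimageAlong {α : S →* Ω'} (hr : α.range = S') {P' : Subgroup Ω'} (hP' : P' ≤ S') :
    imageAlong α (preimageAlong α P') = P' := by
  ext y
  rw [mem_imageAlong]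
  constructor
  · rintro ⟨x, -, hx, rfl⟩
    exact ((mem_preimageAlong α P' x).1 hx).2
  · intro hy
    obtain ⟨x, hxS, rfl⟩ := exists_extOn_eq hr (hP' hy)
    exact ⟨x, hxS, (mem_preimageAlong α P' x).2 ⟨hxS, hy⟩, rfl⟩

/-- The kernel, as a subgroup of the ambient group. -/
theorem mem_ker_map (α : S →* Ω') (x : Ω) : x ∈ (α.ker).map S.subtype ↔ x ∈ S ∧ extOn α x = 1 := by
  constructor
  · rintro ⟨s, hs, rfl⟩
    exact ⟨s.2, by
      show extOn α (s : Ω) = 1
      rw [extOn_coe]; exact hs⟩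
  · rintro ⟨hx, h⟩
    refine ⟨⟨x, hx⟩, ?_, rfl⟩
    rw [extOn_apply α hx] at h
    exact h

theorem ker_le_preimageAlong (α : S →* Ω') (P' : Subgroup Ω') :
    (α.ker).map S.subtype ≤ preimageAlong α P' := by
  intro x hx
  obtain ⟨hxS, h1⟩ := (mem_ker_map α x).1 hx
  rw [mem_preimageAlong]
  exact ⟨hxS, h1 ▸ P'.one_mem⟩

theorem extOn_eq_iff' (α : S →* Ω') {x y : Ω} (hx : x ∈ S) (hy : y ∈ S) :
    extOn α x = extOn α y ↔ x⁻¹ * y ∈ (α.ker).map S.subtype := by
  rw [mem_ker_map, extOn_mul α (S.inv_mem hx) hy, extOn_inv α hx, inv_mul_eq_one]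
  exact ⟨fun h => ⟨S.mul_mem (S.inv_mem hx) hy, h⟩, fun h => h.2⟩

/-- Cardinality of full preimages. -/
theorem card_preimageAlong [Finite S] {α : S →* Ω'} (hr : α.range = S') {A' : Subgroup Ω'} (hA' : A' ≤ S') :
    Nat.card (preimageAlong α A') * Nat.card S' = Nat.card S * Nat.card A' := by
  have h1 : Nat.card (preimageAlong α A') = Nat.card (A'.comap α) := by
    unfold preimageAlong
    exact Subgroup.card_map_of_injective S.subtype_injective
  have h2 : (A'.comap α).index = A'.relIndex S' := by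
    rw [Subgroup.index_comap, hr]
  have h3 := Subgroup.card_mul_index (A'.comap α)
  haveI : Finite S' := by
    rw [← hr]
    exact Finite.of_surjective α.rangeRestrict α.rangeRestrict_surjective
  have h4 : Nat.card A' * A'.relIndex S' = Nat.card S' := by
    rw [Subgroup.relIndex, ← Subgroup.card_mul_index (A'.subgroupOf S')]
    congr 1
    exact (Nat.card_congr (Subgroup.subgroupOfEquivOfLe hA').toEquiv).symm
  rw [h1, ← h3, ← h4, h2]
  ring

theorem card_preimageAlong_le [Finite S] {α : S →* Ω'} (hr : α.range = S') {A' B' : Subgroup Ω'}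
    (hA' : A' ≤ S') (hB' : B' ≤ S') (h : Nat.card A' ≤ Nat.card B') :
    Nat.card (preimageAlong α A') ≤ Nat.card (preimageAlong α B') := by
  have h1 := card_preimageAlong hr hA'
  have h2 := card_preimageAlong hr hB'
  haveI : Finite S' := by
    rw [← hr]
    exact Finite.of_surjective α.rangeRestrict α.rangeRestrict_surjective
  have hpos : 0 < Nat.card S' := Nat.card_pos
  have h3 : Nat.card (preimageAlong α A') * Nat.card S' ≤ Nat.card (preimageAlong α B') * Nat.card S' := by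
    rw [h1, h2]
    exact Nat.mul_le_mul_left _ h
  exact Nat.le_of_mul_le_mul_right h3 hpos

/-! ### Inducing and lifting maps -/

theorem exists_induced_map {F : FusionSystem S} {F' : FusionSystem S'} {α : S →* Ω'}
    (hα : F.IsMorphism F' α) {P : Subgroup Ω} {f : Ω → Ω} (hf : IsMapOn F P f) :
    ∃ f' : Ω' → Ω', IsMapOn F' (imageAlong α P) f' ∧ ∀ x ∈ P, f' (extOn α x) = extOn α (f x) := by
  obtain ⟨φ, hφ, hφf⟩ := hf
  obtain ⟨φ', hφ', hind⟩ := hα.2 P φ hφ
  obtain ⟨hP, hφS, h⟩ := Helper87_Factor.extOn_of_inducedAlong hind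
  refine ⟨extHom φ', Helper87_Alperin.isMapOn_extHom F' hφ', fun x hx => ?_⟩
  have hx' := extOn_mem_imageAlong α hP hx
  rw [Helper87_Alperin.extHom_apply φ' hx', h ⟨x, hx⟩ hx', hφf]

theorem exists_lift_map {F : FusionSystem S} {F' : FusionSystem S'} {α : S →* Ω'}
    (hα : F.IsSurjectiveMorphism F' α) {P' : Subgroup Ω'} (hP' : P' ≤ S') {f' : Ω' → Ω'}
    (hf' : IsMapOn F' P' f') :
    ∃ f : Ω → Ω, IsMapOn F (preimageAlong α P') f ∧
      ∀ x ∈ preimageAlong α P', f' (extOn α x) = extOn α (f x) := by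
  obtain ⟨φ', hφ', hφ'f⟩ := hf'
  obtain ⟨φ, hφ, hind⟩ := hα.2.2 P' hP' φ' hφ'
  obtain ⟨hP, hφS, h⟩ := Helper87_Factor.extOn_of_inducedAlong hind
  refine ⟨extHom φ, Helper87_Alperin.isMapOn_extHom F hφ, fun x hx => ?_⟩
  have hx' : extOn α x ∈ P' := ((mem_preimageAlong α P' x).1 hx).2
  rw [Helper87_Alperin.extHom_apply φ hx, ← h ⟨x, hx⟩ hx', hφ'f]

theorem isMapOn_mem_sc_iff {F : FusionSystem S} {K : Subgroup Ω} (hK : F.StronglyClosed K)
    {P : Subgroup Ω} {f : Ω → Ω} (hf : IsMapOn F P f) {x : Ω} (hx : x ∈ P) : f x ∈ K ↔ x ∈ K := by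
  obtain ⟨φ, hφ, hφf⟩ := hf
  rw [← hφf ⟨x, hx⟩]
  exact Cfsg.Agent.S5132.sc_mem_iff F hK hφ ⟨x, hx⟩

theorem sc_le_image [Finite S] {F : FusionSystem S} {K : Subgroup Ω} (hK : F.StronglyClosed K)
    {P : Subgroup Ω} {f : Ω → Ω} (hf : IsMapOn F P f) (hKP : K ≤ P) {k : Ω} (hk : k ∈ K) :
    ∃ x ∈ P, f x = k := by
  obtain ⟨φ, hφ, hφf⟩ := hf
  obtain ⟨x, hx⟩ := Cfsg.Agent.S5132.sc_le_range F hK hφ hKP hk
  exact ⟨x, x.2, (hφf x).symm.trans hx⟩

/-- The image of a full preimage under a map inducing `f'` is the full preimage of the image. -/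
theorem image_eq_preimage [Finite S] {F : FusionSystem S} {α : S →* Ω'} (hr : α.range = S')
    (hK : F.StronglyClosed ((α.ker).map S.subtype)) {P' : Subgroup Ω'} (hP' : P' ≤ S')
    {f : Ω → Ω} {f' : Ω' → Ω'} (hf : IsMapOn F (preimageAlong α P') f)
    (hind : ∀ x ∈ preimageAlong α P', f' (extOn α x) = extOn α (f x)) {Q' : Subgroup Ω'}
    (hQ' : ∀ y, y ∈ Q' ↔ ∃ z ∈ P', f' z = y) (y : Ω) :
    y ∈ preimageAlong α Q' ↔ ∃ x ∈ preimageAlong α P', f x = y := by
  constructor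
  · intro hy
    obtain ⟨hyS, hyQ⟩ := (mem_preimageAlong α Q' y).1 hy
    obtain ⟨z, hz, hzy⟩ := (hQ' _).1 hyQ
    obtain ⟨x, hxS, rfl⟩ := exists_extOn_eq hr (hP' hz)
    have hxP : x ∈ preimageAlong α P' := (mem_preimageAlong α P' x).2 ⟨hxS, hz⟩
    rw [hind x hxP] at hzy
    have hk : (f x)⁻¹ * y ∈ (α.ker).map S.subtype := (extOn_eq_iff' α (hf.mem hxP) hyS).1 hzy
    obtain ⟨w, hw, hwk⟩ := sc_le_image hK hf (ker_le_preimageAlong α P') hk
    refine ⟨x * w, Subgroup.mul_mem _ hxP hw, ?_⟩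
    rw [hf.map_mul hxP hw, hwk]
    group
  · rintro ⟨x, hx, rfl⟩
    rw [mem_preimageAlong]
    refine ⟨hf.mem hx, ?_⟩
    rw [← hind x hx]
    exact (hQ' _).2 ⟨_, ((mem_preimageAlong α P' x).1 hx).2, rfl⟩

/-! ### Normalizers -/

theorem mem_normalizer_of_conj_mem' {G : Type*} [Group G] {H : Subgroup G} [Finite H] {g : G}
    (h : ∀ y ∈ H, g * y * g⁻¹ ∈ H) : g ∈ Subgroup.normalizer (H : Set G) :=
  Cfsg.Agent.S5111.mem_normalizer_of_conj_mem h

theorem preimageAlong_normalizerIn [Finite S] {α : S →* Ω'} (hr : α.range = S') {P' : Subgroup Ω'}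
    (hP' : P' ≤ S') :
    preimageAlong α (normalizerIn S' P') = normalizerIn S (preimageAlong α P') := by
  haveI : Finite S' := by
    rw [← hr]
    exact Finite.of_surjective α.rangeRestrict α.rangeRestrict_surjective
  haveI : Finite P' := Helper84_FusionRS.finite_of_le_S hP'
  haveI : Finite (preimageAlong α P') := Helper84_FusionRS.finite_of_le_S (preimageAlong_le α P')
  ext g
  rw [mem_preimageAlong]
  constructor
  · rintro ⟨hgS, hgS', hN⟩
    refine ⟨hgS, mem_normalizer_of_conj_mem' ?_⟩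
    intro x hx
    obtain ⟨hxS, hxP⟩ := (mem_preimageAlong α P' x).1 hx
    rw [mem_preimageAlong]
    refine ⟨S.mul_mem (S.mul_mem hgS hxS) (S.inv_mem hgS), ?_⟩
    rw [extOn_conj α hgS hxS]
    exact ((Subgroup.mem_normalizer_iff.1 hN) _).1 hxP
  · rintro ⟨hgS, hgN⟩
    refine ⟨hgS, extOn_mem_range hr hgS, mem_normalizer_of_conj_mem' ?_⟩
    intro y hy
    obtain ⟨x, hxS, rfl⟩ := exists_extOn_eq hr (hP' hy)
    have hxP : x ∈ preimageAlong α P' := (mem_preimageAlong α P' x).2 ⟨hxS, hy⟩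
    rw [← extOn_conj α hgS hxS]
    exact ((mem_preimageAlong α P' _).1 (((Subgroup.mem_normalizer_iff.1 hgN) _).1 hxP)).2


/-! ### Fully normalized subgroups -/

theorem isFullyNormalized_preimage [Finite S] {F : FusionSystem S} {F' : FusionSystem S'} {α : S →* Ω'}
    (hα : F.IsSurjectiveMorphism F' α) (hK : F.StronglyClosed ((α.ker).map S.subtype))
    {P' : Subgroup Ω'} (hP' : F'.IsFullyNormalized P') :
    F.IsFullyNormalized (preimageAlong α P') := by
  have hr : α.range = S' := hα.2.1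
  have hP'S : P' ≤ S' := hP'.1
  refine ⟨preimageAlong_le α P', fun Q hQ => ?_⟩
  obtain ⟨f, hf, hQmem⟩ := (Helper85_Transport.isConj_iff_isMapOn F _ Q).1 hQ
  obtain ⟨f', hf', hind⟩ := exists_induced_map hα.1 hf
  rw [imageAlong_preimageAlong hr hP'S] at hf'
  obtain ⟨φ', hφ', hφ'f⟩ := id hf'
  have hQ'mem : ∀ y, y ∈ φ'.range ↔ ∃ z ∈ P', f' z = y := by
    intro y
    constructor
    · rintro ⟨z, rfl⟩
      exact ⟨z, z.2, (hφ'f z).symm⟩
    · rintro ⟨z, hz, rfl⟩
      exact ⟨⟨z, hz⟩, hφ'f _⟩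
  have hconj : F'.IsConj P' φ'.range := ⟨φ', hφ', rfl⟩
  have hQ'S : φ'.range ≤ S' := Helper85_Fusion.range_le F' hφ'
  have hQeq : Q = preimageAlong α φ'.range := by
    ext y
    rw [image_eq_preimage hr hK hP'S hf hind hQ'mem y, hQmem]
  have hcard := hP'.2 _ hconj
  rw [hQeq, ← preimageAlong_normalizerIn hr hQ'S, ← preimageAlong_normalizerIn hr hP'S]
  exact card_preimageAlong_le hr inf_le_left inf_le_left hcard


/-! ### The top group is fully automized in the image -/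

theorem preimageAlong_self {α : S →* Ω'} (hr : α.range = S') : preimageAlong α S' = S := by
  ext x
  rw [mem_preimageAlong]
  exact ⟨fun h => h.1, fun h => ⟨h, extOn_mem_range hr h⟩⟩

theorem isFullyAutomized_top [Finite S] {p : ℕ} [Fact p.Prime] (hS : IsPGroup p S)
    {F : FusionSystem S} {F' : FusionSystem S'} {α : S →* Ω'} (hF : F.IsSaturated p)
    (hα : F.IsSurjectiveMorphism F' α) : F'.IsFullyAutomized p S' := by
  classical
  have hr : α.range = S' := hα.2.1
  haveI : Finite S' := by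
    rw [← hr]
    exact Finite.of_surjective α.rangeRestrict α.rangeRestrict_surjective
  have hS' : IsPGroup p S' := by
    rw [← hr]
    exact hS.of_surjective α.rangeRestrict α.rangeRestrict_surjective
  apply Helper84_FusionRS.isFullyAutomized_of_isSylowIn F' le_rfl
  by_contra hns
  obtain ⟨β', hβ'A, hβ'T, -, k, hk⟩ := Cfsg.Agent.S5111.exists_normalizing (p := p)
    (Helper85_Fusion.autInducedBy_le_autGroup F' le_rfl)
    (Helper84_FusionSat.isPGroup_autInducedBy hS' S') hns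
  apply hβ'T
  -- lift `β'`
  have hβ'map : IsMapOn F' S' (extFun β') := (Helper87_Alperin.mem_autGroup_iff F' le_rfl β').1 hβ'A
  obtain ⟨f, hf, hind⟩ := exists_lift_map hα le_rfl hβ'map
  rw [preimageAlong_self hr] at hf hind
  obtain ⟨β₀, hβ₀, hβ₀f⟩ := Cfsg.Agent.S5111.exists_aut_of_isMapOn hf (fun x hx => hf.mem hx)
  obtain ⟨n, ⟨j, hj⟩, hn⟩ := Cfsg.Agent.S5111.exists_pow_trick p β₀ k
  have hpow : ∀ m : ℕ, ∀ x : S, extOn α (((β₀ ^ m) x : S) : Ω) =
      (((β' ^ m) ⟨extOn α (x : Ω), extOn_mem_range hr x.2⟩ : S') : Ω') := by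
    intro m
    induction m with
    | zero => intro x; simp
    | succ m ih =>
      intro x
      rw [pow_succ, pow_succ, MulAut.mul_apply, MulAut.mul_apply, ih]
      congr 2
      apply Subtype.ext
      show extOn α ((β₀ x : S) : Ω) = ((β' ⟨extOn α (x : Ω), _⟩ : S') : Ω')
      rw [hβ₀f, ← hind _ x.2, Helper87_Alperin.extFun_apply β' (extOn_mem_range hr x.2)]
  have hβ'n : β' ^ n = β' := by
    rw [pow_eq_pow_mod n hk, hn, ← pow_eq_pow_mod 1 hk, pow_one]
  -- `β₀ ^ n` is inner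
  have hSfa : F.IsFullyAutomized p S :=
    Helper84_FusionRS.IsSaturated.isFullyAutomized hS hF (Cfsg.Agent.S5111.isFullyNormalized_self F)
  have hsyl := Helper84_FusionSat.isSylowIn_of_isFullyAutomized F hSfa
  have hzp : IsPGroup p (Subgroup.zpowers (β₀ ^ n)) := by
    rintro ⟨y, hy⟩
    obtain ⟨i, rfl⟩ := Subgroup.mem_zpowers_iff.1 hy
    refine ⟨j, Subtype.ext ?_⟩
    show ((β₀ ^ n) ^ i) ^ (p ^ j) = 1
    rw [← zpow_natCast, ← zpow_mul, mul_comm, zpow_mul, zpow_natCast, hj, one_zpow]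
  obtain ⟨γ, hγ, hγc⟩ := hsyl.exists_conj_le (K := Subgroup.zpowers (β₀ ^ n))
    (by rw [Subgroup.zpowers_le]; exact Subgroup.pow_mem _ hβ₀ n) hzp
  obtain ⟨s, hs, hsγ⟩ := (Helper85_Fusion.mem_autInducedBy_iff S S _).1
    (hγc _ (Subgroup.mem_zpowers _))
  have hβs : ∀ x : S, (β₀ ^ n) x = (γ⁻¹ ⟨s, hs⟩) * x * (γ⁻¹ ⟨s, hs⟩)⁻¹ := by
    intro x
    have h1 := hsγ (γ x)
    simp only [MulAut.mul_apply, MulAut.inv_apply_self] at h1
    have h2 : γ ((β₀ ^ n) x) = ⟨s, hs⟩ * γ x * ⟨s, hs⟩⁻¹ := Subtype.ext h1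
    have h3 : (β₀ ^ n) x = γ⁻¹ (⟨s, hs⟩ * γ x * ⟨s, hs⟩⁻¹) := by
      rw [← h2, MulAut.inv_apply_self]
    rw [h3, map_mul, map_mul, map_inv, MulAut.inv_apply_self]
  rw [Helper85_Fusion.mem_autInducedBy_iff]
  refine ⟨extOn α ((γ⁻¹ ⟨s, hs⟩ : S) : Ω), extOn_mem_range hr (γ⁻¹ ⟨s, hs⟩).2, fun y => ?_⟩
  obtain ⟨x, hxS, hxy⟩ := exists_extOn_eq hr y.2
  have h4 := hpow n ⟨x, hxS⟩
  rw [hβ'n, hβs] at h4
  have h5 : (⟨extOn α x, extOn_mem_range hr hxS⟩ : S') = y := Subtype.ext hxy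
  rw [h5] at h4
  rw [← h4, ← hxy]
  exact extOn_conj α (γ⁻¹ ⟨s, hs⟩).2 hxS


/-! ### Fully normalized subgroups of the image are receptive -/

theorem preimageAlong_mono (α : S →* Ω') {A' B' : Subgroup Ω'} (h : A' ≤ B') :
    preimageAlong α A' ≤ preimageAlong α B' := by
  intro x hx
  rw [mem_preimageAlong] at hx ⊢
  exact ⟨hx.1, h hx.2⟩

/-- The automorphisms in `Aut_F(P)` inducing the identity along `α`. -/
def kerAut (F : FusionSystem S) (α : S →* Ω') (P : Subgroup Ω) : Subgroup (MulAut P) where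
  carrier := {β | β ∈ F.autGroup P ∧ ∀ z : P, extOn α ((β z : P) : Ω) = extOn α (z : Ω)}
  mul_mem' := by
    rintro β γ ⟨hβ, hβ2⟩ ⟨hγ, hγ2⟩
    refine ⟨Subgroup.mul_mem _ hβ hγ, fun z => ?_⟩
    rw [MulAut.mul_apply, hβ2, hγ2]
  one_mem' := ⟨Subgroup.one_mem _, fun z => rfl⟩
  inv_mem' := by
    rintro β ⟨hβ, hβ2⟩
    refine ⟨Subgroup.inv_mem _ hβ, fun z => ?_⟩
    have := hβ2 (β⁻¹ z)
    rw [MulAut.apply_inv_self] at this
    exact this.symm

theorem mem_kerAut (F : FusionSystem S) (α : S →* Ω') (P : Subgroup Ω) (β : MulAut P) :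
    β ∈ kerAut F α P ↔ β ∈ F.autGroup P ∧ ∀ z : P, extOn α ((β z : P) : Ω) = extOn α (z : Ω) :=
  Iff.rfl

theorem autInducedBy_le_normalizer_kerAut (F : FusionSystem S) (α : S →* Ω') {P : Subgroup Ω} [Finite P]
    (hP : P ≤ S) :
    autInducedBy S P ≤ Subgroup.normalizer ((kerAut F α P : Subgroup (MulAut P)) : Set (MulAut P)) := by
  intro t ht
  haveI : Finite (MulAut P) := inferInstance
  apply mem_normalizer_of_conj_mem'
  rintro β ⟨hβ, hβ2⟩
  have htA : t ∈ F.autGroup P := Helper85_Fusion.autInducedBy_le_autGroup F hP ht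
  refine ⟨Subgroup.mul_mem _ (Subgroup.mul_mem _ htA hβ) (Subgroup.inv_mem _ htA), fun z => ?_⟩
  obtain ⟨s, hs, hst⟩ := (Helper85_Fusion.mem_autInducedBy_iff S P t).1 ht
  rw [MulAut.mul_apply, MulAut.mul_apply, hst]
  have h1 := hβ2 (t⁻¹ z)
  have h2 := hst (t⁻¹ z)
  rw [MulAut.apply_inv_self] at h2
  rw [extOn_conj α hs (hP (β (t⁻¹ z)).2), h1, ← extOn_conj α hs (hP (t⁻¹ z).2), ← h2]

theorem isReceptive_of_isFullyNormalized [Finite S] {p : ℕ} [Fact p.Prime] (hS : IsPGroup p S)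
    {F : FusionSystem S} {F' : FusionSystem S'} {α : S →* Ω'} (hF : F.IsSaturated p)
    (hα : F.IsSurjectiveMorphism F' α) (hK : F.StronglyClosed ((α.ker).map S.subtype))
    {P' : Subgroup Ω'} (hP' : F'.IsFullyNormalized P') : F'.IsReceptive P' := by
  classical
  have hr : α.range = S' := hα.2.1
  haveI : Finite S' := by
    rw [← hr]
    exact Finite.of_surjective α.rangeRestrict α.rangeRestrict_surjective
  have hP'S : P' ≤ S' := hP'.1
  have hPn : F.IsFullyNormalized (preimageAlong α P') := isFullyNormalized_preimage hα hK hP'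
  have hPa : F.IsFullyAutomized p (preimageAlong α P') :=
    Helper84_FusionRS.IsSaturated.isFullyAutomized hS hF hPn
  have hPr : F.IsReceptive (preimageAlong α P') :=
    Helper84_FusionRS.IsSaturated.isReceptive_of_isFullyNormalized hS hF hPn
  have hPS : preimageAlong α P' ≤ S := preimageAlong_le α P'
  haveI : Finite (preimageAlong α P') := Helper84_FusionRS.finite_of_le_S hPS
  refine ⟨hP'S, fun Q' φ' hφ' hrange => ?_⟩
  have hQ'S : Q' ≤ S' := Helper85_Fusion.source_le F' hφ'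
  have hQS : preimageAlong α Q' ≤ S := preimageAlong_le α Q'
  -- lift `φ'`
  obtain ⟨f, hf, hind⟩ := exists_lift_map hα hQ'S (Helper87_Alperin.isMapOn_extHom F' hφ')
  have hP'mem : ∀ y, y ∈ P' ↔ ∃ z ∈ Q', extHom φ' z = y := by
    intro y
    rw [← hrange]
    constructor
    · rintro ⟨z, rfl⟩
      exact ⟨z, z.2, Helper87_Alperin.extHom_coe φ' z⟩
    · rintro ⟨z, hz, rfl⟩
      exact ⟨⟨z, hz⟩, (Helper87_Alperin.extHom_apply φ' hz).symm⟩
  have hfP : ∀ y, y ∈ preimageAlong α P' ↔ ∃ x ∈ preimageAlong α Q', f x = y :=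
    image_eq_preimage hr hK hQ'S hf hind hP'mem
  obtain ⟨φ, hφ, hφf⟩ := id hf
  have hφr : φ.range = preimageAlong α P' := by
    ext y
    rw [hfP]
    constructor
    · rintro ⟨x, rfl⟩
      exact ⟨x, x.2, (hφf x).symm⟩
    · rintro ⟨x, hx, rfl⟩
      exact ⟨⟨x, hx⟩, hφf _⟩
  set e := Helper84_FusionSat.isoOfRange φ (F.injective_of_mem hφ) hφr with he_def
  have he : Helper84_FusionRS.IsIso F e := Helper84_FusionRS.isIso_isoOfRange F hφ hφr
  have hecoe : ∀ x : preimageAlong α Q', ((e x : preimageAlong α P') : Ω) = f x := fun x =>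
    (Helper84_FusionSat.coe_isoOfRange φ (F.injective_of_mem hφ) hφr x).trans (hφf x)
  -- the extender and its preimage
  have hN'le : extender S' Q' φ' ≤ normalizerIn S' Q' := Helper84_FusionRS.extender_le_normalizerIn φ'
  have hN'S : extender S' Q' φ' ≤ S' := hN'le.trans inf_le_left
  have hNle : preimageAlong α (extender S' Q' φ') ≤ normalizerIn S (preimageAlong α Q') := by
    rw [← preimageAlong_normalizerIn hr hQ'S]
    exact preimageAlong_mono α hN'le
  -- key claim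
  have hkey : ∀ g ∈ preimageAlong α (extender S' Q' φ'),
      ∃ h ∈ normalizerIn S (preimageAlong α P'), ∀ x ∈ preimageAlong α Q',
        extOn α (f (g * x * g⁻¹)) = extOn α (h * f x * h⁻¹) := by
    intro g hg
    obtain ⟨hgS, hgN'⟩ := (mem_preimageAlong α _ g).1 hg
    obtain ⟨h', hh'N, hh'⟩ := Helper84_FusionRS.exists_normalizerIn_of_mem_extender φ' hrange hgN'
    obtain ⟨h, hhS, rfl⟩ := exists_extOn_eq hr hh'N.1
    have hhN : h ∈ normalizerIn S (preimageAlong α P') := by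
      rw [← preimageAlong_normalizerIn hr hP'S, mem_preimageAlong]
      exact ⟨hhS, hh'N⟩
    refine ⟨h, hhN, fun x hx => ?_⟩
    obtain ⟨hxS, hxQ'⟩ := (mem_preimageAlong α Q' x).1 hx
    have hgx : g * x * g⁻¹ ∈ preimageAlong α Q' :=
      Helper87_Alperin.conj_mem_of_mem_normalizerIn (hNle hg) hx
    have hgxQ' : extOn α g * extOn α x * (extOn α g)⁻¹ ∈ Q' := by
      rw [← extOn_conj α hgS hxS]
      exact ((mem_preimageAlong α Q' _).1 hgx).2
    have h1 := hh' ⟨extOn α x, hxQ'⟩ hgxQ'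
    rw [← hind _ hgx, extOn_conj α hgS hxS, Helper87_Alperin.extHom_apply φ' hgxQ', h1,
      extOn_conj α hhS (hf.mem hx), ← hind _ hx, Helper87_Alperin.extHom_apply φ' hxQ']
  -- the `p`-subgroup `X = φ Aut_N(Q) φ⁻¹` of `Aut_F(P)`
  have hNS : preimageAlong α (extender S' Q' φ') ≤ S := preimageAlong_le α _
  have hTA : autInducedBy S (preimageAlong α P') ≤ F.autGroup (preimageAlong α P') :=
    Helper85_Fusion.autInducedBy_le_autGroup F hPS
  have hTnorm := autInducedBy_le_normalizer_kerAut F α hPS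
  have hXp : IsPGroup p ((autInducedBy (preimageAlong α (extender S' Q' φ')) (preimageAlong α Q')).map
      (MulAut.congr e).toMonoidHom) :=
    (Helper84_FusionSat.isPGroup_autInducedBy (hS.to_le hNS) _).map _
  have hcongrA : ∀ c ∈ autInducedBy (preimageAlong α (extender S' Q' φ')) (preimageAlong α Q'),
      MulAut.congr e c ∈ F.autGroup (preimageAlong α P') := by
    intro c hc
    obtain ⟨g, hg, hgc⟩ := (Helper85_Fusion.mem_autInducedBy_iff _ _ c).1 hc
    have hcS : c ∈ autInducedBy S (preimageAlong α Q') :=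
      (Helper85_Fusion.mem_autInducedBy_iff _ _ c).2 ⟨g, hNS hg, hgc⟩
    exact he.congr_mem_autGroup (Helper85_Fusion.autInducedBy_le_autGroup F hQS hcS)
  have hXle : (autInducedBy (preimageAlong α (extender S' Q' φ')) (preimageAlong α Q')).map
      (MulAut.congr e).toMonoidHom ≤
      autInducedBy S (preimageAlong α P') ⊔ kerAut F α (preimageAlong α P') := by
    rintro _ ⟨c, hc, rfl⟩
    obtain ⟨g, hg, hgc⟩ := (Helper85_Fusion.mem_autInducedBy_iff _ _ c).1 hc
    obtain ⟨h, hhN, hh⟩ := hkey g hg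
    have ht : (preimageAlong α P').normalizerMonoidHom ⟨h, hhN.2⟩ ∈
        autInducedBy S (preimageAlong α P') :=
      Helper84_FusionSat.normalizerMonoidHom_mem_autInducedBy hhN.1 hhN.2
    have hsplit : (MulAut.congr e).toMonoidHom c =
        (MulAut.congr e c * ((preimageAlong α P').normalizerMonoidHom ⟨h, hhN.2⟩)⁻¹) *
          (preimageAlong α P').normalizerMonoidHom ⟨h, hhN.2⟩ := by
      rw [inv_mul_cancel_right]
      rfl
    rw [hsplit]
    refine Subgroup.mul_mem _ (Subgroup.mem_sup_right ?_) (Subgroup.mem_sup_left ht)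
    refine ⟨Subgroup.mul_mem _ (hcongrA c hc) (Subgroup.inv_mem _ (hTA ht)), fun z => ?_⟩
    rw [MulAut.mul_apply]
    set w := ((preimageAlong α P').normalizerMonoidHom ⟨h, hhN.2⟩)⁻¹ z with hw
    have hz : z = (preimageAlong α P').normalizerMonoidHom ⟨h, hhN.2⟩ w := by
      rw [hw, MulAut.apply_inv_self]
    have h1 : ((MulAut.congr e c w : preimageAlong α P') : Ω) =
        f (g * ((e.symm w : preimageAlong α Q') : Ω) * g⁻¹) := by
      show ((e (c (e.symm w)) : preimageAlong α P') : Ω) = _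
      rw [hecoe, hgc]
    have h2 : f ((e.symm w : preimageAlong α Q') : Ω) = (w : Ω) := by
      rw [← hecoe, MulEquiv.apply_symm_apply]
    rw [h1, hh _ (e.symm w).2, h2, hz]
    rfl
  -- Sylow conjugation inside `Aut_S(P) · ker`
  have hsyl := Helper84_FusionSat.isSylowIn_of_isFullyAutomized F hPa
  have hMA : autInducedBy S (preimageAlong α P') ⊔ kerAut F α (preimageAlong α P') ≤
      F.autGroup (preimageAlong α P') := sup_le hTA (fun β hβ => hβ.1)
  have hsylM := hsyl.mono (le_sup_left : autInducedBy S (preimageAlong α P') ≤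
    autInducedBy S (preimageAlong α P') ⊔ kerAut F α (preimageAlong α P')) hMA
  obtain ⟨m, hm, hmX⟩ := hsylM.exists_conj_le hXle hXp
  have hm2 : m ∈ ((autInducedBy S (preimageAlong α P') ⊔ kerAut F α (preimageAlong α P') :
      Subgroup (MulAut (preimageAlong α P'))) : Set (MulAut (preimageAlong α P'))) := hm
  rw [Subgroup.coe_mul_of_left_le_normalizer_right _ _ hTnorm] at hm2
  obtain ⟨t, ht, χ, hχ, rfl⟩ := hm2
  have hχX : ∀ x ∈ (autInducedBy (preimageAlong α (extender S' Q' φ')) (preimageAlong α Q')).map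
      (MulAut.congr e).toMonoidHom, χ * x * χ⁻¹ ∈ autInducedBy S (preimageAlong α P') := by
    intro x hx
    have h1 := hmX x hx
    have h2 : χ * x * χ⁻¹ = t⁻¹ * (t * χ * x * (t * χ)⁻¹) * t := by group
    rw [h2]
    exact Subgroup.mul_mem _ (Subgroup.mul_mem _ (Subgroup.inv_mem _ ht) h1) ht
  obtain ⟨hχA, hχker⟩ := hχ
  -- the corrected lift `φ₂ = χ ∘ φ`
  have hf₂ : IsMapOn F (preimageAlong α Q') (extFun χ ∘ f) :=
    hf.comp ((Helper87_Alperin.mem_autGroup_iff F hPS χ).1 hχA)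
      (fun x hx => (hfP _).2 ⟨x, hx, rfl⟩)
  obtain ⟨φ₂, hφ₂, hφ₂f⟩ := hf₂
  have hφ₂val : ∀ x : preimageAlong α Q', φ₂ x = ((χ (e x) : preimageAlong α P') : Ω) := by
    intro x
    rw [hφ₂f, Function.comp_apply, ← hecoe, Helper87_Alperin.extFun_coe]
  have hφ₂r : φ₂.range = preimageAlong α P' := by
    ext y
    constructor
    · rintro ⟨x, rfl⟩
      rw [hφ₂val]
      exact (χ (e x)).2
    · intro hy
      refine ⟨e.symm (χ⁻¹ ⟨y, hy⟩), ?_⟩
      rw [hφ₂val]
      simp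
  have hφ₂ind : ∀ x : preimageAlong α Q', extOn α (φ₂ x) = extHom φ' (extOn α (x : Ω)) := by
    intro x
    rw [hφ₂val, hχker, hecoe, hind _ x.2]
  -- `N ≤ N_{φ₂}`
  have hNext : preimageAlong α (extender S' Q' φ') ≤ extender S (preimageAlong α Q') φ₂ := by
    intro g hg
    have hgN := hNle hg
    rw [Helper84_FusionRS.mem_extender_iff]
    refine ⟨hgN.1, hgN.2, ?_⟩
    have hc : (preimageAlong α Q').normalizerMonoidHom ⟨g, hgN.2⟩ ∈
        autInducedBy (preimageAlong α (extender S' Q' φ')) (preimageAlong α Q') :=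
      (Helper85_Fusion.mem_autInducedBy_iff _ _ _).2 ⟨g, hg, fun _ => rfl⟩
    have h1 := hχX _ ⟨_, hc, rfl⟩
    obtain ⟨s, hs, hsx⟩ := (Helper85_Fusion.mem_autInducedBy_iff _ _ _).1 h1
    refine ⟨s, hs, fun x hx => ?_⟩
    have h2 := hsx (χ (e x))
    simp only [MulAut.mul_apply, MulAut.inv_apply_self] at h2
    rw [hφ₂val, hφ₂val, ← h2]
    show ((χ (e ⟨g * (x : Ω) * g⁻¹, hx⟩) : preimageAlong α P') : Ω) =
      ((χ (e ((preimageAlong α Q').normalizerMonoidHom ⟨g, hgN.2⟩ (e.symm (e x)))) :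
        preimageAlong α P') : Ω)
    rw [MulEquiv.symm_apply_apply]
    rfl
  -- extend by receptivity and push down
  obtain ⟨ψ, hψ, hψφ₂⟩ := hPr.2 _ φ₂ hφ₂ hφ₂r
  have hψN : IsMapOn F (preimageAlong α (extender S' Q' φ')) (extHom ψ) :=
    (Helper87_Alperin.isMapOn_extHom F hψ).mono hNext
  obtain ⟨ψ'f, hψ', hindψ⟩ := exists_induced_map hα.1 hψN
  rw [imageAlong_preimageAlong hr hN'S] at hψ'
  obtain ⟨ψ', hψ'mem, hψ'f⟩ := hψ'
  refine ⟨ψ', hψ'mem, fun y hyQ' hyN' => ?_⟩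
  obtain ⟨x, hxS, rfl⟩ := exists_extOn_eq hr (hQ'S hyQ')
  have hxQ : x ∈ preimageAlong α Q' := (mem_preimageAlong α Q' x).2 ⟨hxS, hyQ'⟩
  have hxN : x ∈ preimageAlong α (extender S' Q' φ') := (mem_preimageAlong α _ x).2 ⟨hxS, hyN'⟩
  rw [hψ'f, hindψ x hxN, Helper87_Alperin.extHom_apply ψ (hNext hxN), hψφ₂ x hxQ (hNext hxN),
    hφ₂ind ⟨x, hxQ⟩, Helper87_Alperin.extHom_apply φ' hyQ']


end

/-- Let F be a saturated fusion system over a finite p-group S, F' a fusion system over S', and α : S → S' a surjective morphism of fusion systems from F to F' (α maps S onto S' and every map of F' with source P' ≤ S' is induced along α by a map of F on the full preimage of P'). Then F' is saturated. -/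
theorem result {Ω : Type*} [Group Ω] {S : Subgroup Ω} [Finite S] (p : ℕ) [Fact p.Prime] (hS : IsPGroup p S) (F : Cfsg.FusionSystem S) (hF : F.IsSaturated p) {Ω' : Type*} [Group Ω'] {S' : Subgroup Ω'} (F' : Cfsg.FusionSystem S') (α : S →* Ω') (hα : F.IsSurjectiveMorphism F' α) : F'.IsSaturated p := by
  have hr : α.range = S' := hα.2.1
  haveI : Finite S' := by
    rw [← hr]
    exact Finite.of_surjective α.rangeRestrict α.rangeRestrict_surjective
  have hS' : IsPGroup p S' := by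
    rw [← hr]
    exact hS.of_surjective α.rangeRestrict α.rangeRestrict_surjective
  have hK := Cfsg.Agent.S5131.result p hS F F' α hα.1
  rw [Cfsg.Agent.S5111.result p hS' F']
  exact ⟨isFullyAutomized_top hS hF hα,
    fun P' hP' => isReceptive_of_isFullyNormalized hS hF hα hK hP'⟩

end Cfsg.Agent.S5133
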