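import Cfsg.Statements.S5134
import Cfsg.Agent.Lib.Helper87_Factor

set_option autoImplicit false
open Cfsg

namespace Cfsg.Agent.S5134

open Cfsg.FusionSystem Cfsg.Agent.Lib Cfsg.Agent.Lib.Helper87_Alperin Cfsg.Agent.Lib.Helper87_Alperin2
  Cfsg.Agent.Lib.Helper87_Normal Cfsg.Agent.Lib.Helper87_ModT Cfsg.Agent.Lib.Helper87_Factor

/-- Let F be a saturated fusion system over a finite p-group S, S₀ a subgroup strongly closed in F, and E the factor system of F modulo S₀ read through θ (a homomorphism on S with kernel S₀ and image the group of E). Then θ is a surjective morphism of fusion systems from F onto E: in particular every map of F, and not only the maps whose source contains S₀, induces along θ a map of E. -/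
theorem result {Ω : Type*} [Group Ω] {S : Subgroup Ω} [Finite S] (p : ℕ) [Fact p.Prime] (hS : IsPGroup p S) (F : Cfsg.FusionSystem S) (hF : F.IsSaturated p) (S₀ : Subgroup Ω) (hS₀ : F.StronglyClosed S₀) {Ω' : Type*} [Group Ω'] {S' : Subgroup Ω'} (θ : S →* Ω') (E : Cfsg.FusionSystem S') (hE : F.IsFactorSystem S₀ θ E) : F.IsSurjectiveMorphism E θ := by
  have hE' := hE
  obtain ⟨hTS, hker, hrange, hEhom⟩ := hE'
  refine ⟨⟨fun s => ?_, fun P φ hφ => ?_⟩, hrange, fun P' _ φ' hφ' => ?_⟩
  · rw [← hrange]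
    exact ⟨s, rfl⟩
  · obtain ⟨φ', hφ'E, hφ'⟩ := exists_induced_hom F hS hF hS₀ hE hφ
    have hP : P ≤ S := hom_le F hφ
    exact ⟨φ', hφ'E, inducedAlong_of_extOn hP (hom_mem F hφ)
      (fun x => extOn_mem_imageAlong θ hP x.2) (fun x => hφ' x _)⟩
  · exact ((hEhom P' φ').1 hφ').2

end Cfsg.Agent.S5134
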