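import Cfsg.Statements.S5118
import Cfsg.Agent.Lib.Helper85_Transport

set_option autoImplicit false
set_option linter.style.haveILetI false
open Cfsg

namespace Cfsg.Agent.S5118

open Cfsg.FusionSystem Cfsg.Agent.Lib Cfsg.Agent.Lib.Helper85_GroupFusion

section
variable {G : Type*} [Group G]

theorem normal_mem_conj_iff {H : Subgroup G} (hn : H.Normal) (s x : G) : x ∈ H ↔ s * x * s⁻¹ ∈ H := by
  constructor
  · intro hx
    exact hn.conj_mem x hx s
  · intro hx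
    have := hn.conj_mem _ hx s⁻¹
    have h2 : s⁻¹ * (s * x * s⁻¹) * s⁻¹⁻¹ = x := by group
    rwa [h2] at this

theorem le_normalizer_inf_normal {A H : Subgroup G} (hn : H.Normal) :
    Subgroup.normalizer (A : Set G) ≤ Subgroup.normalizer ((A ⊓ H : Subgroup G) : Set G) := by
  intro s hs
  rw [Subgroup.mem_normalizer_iff] at hs ⊢
  intro x
  rw [Subgroup.mem_inf, Subgroup.mem_inf, ← hs x, ← normal_mem_conj_iff hn]

theorem exists_extension_elt [Finite G] {p : ℕ} [Fact p.Prime] (S : Sylow p G) (H : Subgroup G)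
    (hn : H.Normal) (h : G) (hhH : h ∈ H)
    (hhN : h ∈ Subgroup.normalizer (((S : Subgroup G) ⊓ H : Subgroup G) : Set G)) :
    ∃ c ∈ H, c ∈ Subgroup.centralizer (((S : Subgroup G) ⊓ H : Subgroup G) : Set G) ∧
      c * h ∈ Subgroup.normalizer ((((S : Subgroup G) ⊓ H) ⊔
        centralizerIn (S : Subgroup G) ((S : Subgroup G) ⊓ H) : Subgroup G) : Set G) := by
  set T : Subgroup G := (S : Subgroup G) ⊓ H with hT
  set N : Subgroup G := Subgroup.normalizer (T : Set G) with hN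
  set C : Subgroup G := Subgroup.centralizer (T : Set G) with hC
  set D : Subgroup G := T ⊔ centralizerIn (S : Subgroup G) T with hD
  have hTS : T ≤ S := inf_le_left
  have hCS : centralizerIn (S : Subgroup G) T ≤ S := inf_le_left
  have hDS : D ≤ S := sup_le hTS hCS
  -- (a)
  have hSN : (S : Subgroup G) ≤ N :=
    (Subgroup.le_normalizer).trans (le_normalizer_inf_normal hn)
  have hNC : N ≤ Subgroup.normalizer (C : Set G) := normalizer_le_normalizer_centralizer T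
  have hTN : T ≤ N := Subgroup.le_normalizer
  have hCN : C ≤ N := Subgroup.centralizer_le_normalizer _
  have hM₁N : T ⊔ C ≤ N := sup_le hTN hCN
  have hNM₁ : N ≤ Subgroup.normalizer ((T ⊔ C : Subgroup G) : Set G) := by
    refine le_trans ?_ (Subgroup.normalizer_inf_normalizer_le_normalizer_sup T C)
    exact le_inf le_rfl hNC
  have hsylN : IsSylowIn p (S : Subgroup G) N := isSylowIn_of_sylow_le S hSN
  have hsylM₁ : IsSylowIn p ((S : Subgroup G) ⊓ (T ⊔ C)) (T ⊔ C) :=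
    hsylN.inf_normal hSN hM₁N hNM₁
  -- Dedekind
  have hded : (S : Subgroup G) ⊓ (T ⊔ C) = D := by
    apply le_antisymm
    · intro x hx
      have hx2 : x ∈ ((T ⊔ C : Subgroup G) : Set G) := hx.2
      rw [Subgroup.coe_mul_of_left_le_normalizer_right T C (hTN.trans hNC)] at hx2
      obtain ⟨t, ht, c, hc, rfl⟩ := hx2
      have hcS : c ∈ (S : Subgroup G) := by
        have : c = t⁻¹ * (t * c) := by group
        rw [this]
        exact Subgroup.mul_mem _ (Subgroup.inv_mem _ (hTS ht)) hx.1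
      exact Subgroup.mul_mem _ (Subgroup.mem_sup_left ht) (Subgroup.mem_sup_right ⟨hcS, hc⟩)
    · exact le_inf hDS (sup_le_sup_left inf_le_right T)
  rw [hded] at hsylM₁
  -- the subgroup `M = C_H(T) D`
  have hCHN : N ≤ Subgroup.normalizer ((C ⊓ H : Subgroup G) : Set G) :=
    hNC.trans (le_normalizer_inf_normal hn)
  have hDM₁ : D ≤ T ⊔ C := sup_le_sup_left inf_le_right T
  have hMM₁ : D ⊔ (C ⊓ H) ≤ T ⊔ C := sup_le hDM₁ (inf_le_left.trans le_sup_right)
  have hsylM : IsSylowIn p D (D ⊔ (C ⊓ H)) := hsylM₁.of_le hDM₁ le_sup_left hMM₁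
  -- `h D h⁻¹ ≤ M`
  have hconj : conjSub h D ≤ D ⊔ (C ⊓ H) := by
    rw [hD, conjSub_sup]
    refine sup_le ?_ ?_
    · rw [conjSub_eq_of_mem_normalizer hhN]
      exact le_sup_left.trans le_sup_left
    · rintro _ ⟨x, hx, rfl⟩
      show h * x * h⁻¹ ∈ _
      have h1 : h * x * h⁻¹ = (h * x * h⁻¹ * x⁻¹) * x := by group
      rw [h1]
      refine Subgroup.mul_mem _ (Subgroup.mem_sup_right ⟨?_, ?_⟩)
        (Subgroup.mem_sup_left (Subgroup.mem_sup_right hx))
      · have hxC : x ∈ C := hx.2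
        have h2 : h * x * h⁻¹ ∈ C :=
          (Subgroup.mem_normalizer_iff.1 (hNC hhN) x).1 hxC
        exact Subgroup.mul_mem _ h2 (Subgroup.inv_mem _ hxC)
      · have h3 : h * x * h⁻¹ * x⁻¹ = h * (x * h⁻¹ * x⁻¹) := by group
        rw [h3]
        exact Subgroup.mul_mem _ hhH (hn.conj_mem _ (Subgroup.inv_mem _ hhH) x)
  have hDp : IsPGroup p D := S.isPGroup'.to_le hDS
  obtain ⟨m, hm, hmD⟩ := hsylM.exists_conj_le hconj (isPGroup_conjSub h hDp)
  have hDnorm : D ≤ Subgroup.normalizer ((C ⊓ H : Subgroup G) : Set G) :=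
    (hDS.trans hSN).trans hCHN
  have hm2 : m ∈ ((D ⊔ (C ⊓ H) : Subgroup G) : Set G) := hm
  rw [Subgroup.coe_mul_of_left_le_normalizer_right D (C ⊓ H) hDnorm] at hm2
  obtain ⟨d, hd, c, hc, rfl⟩ := hm2
  refine ⟨c, hc.2, hc.1, ?_⟩
  apply mem_normalizer_of_conjSub_le
  rw [← conjSub_conjSub]
  rw [← conjSub_conjSub, conjSub_le_iff] at hmD
  refine hmD.trans ?_
  exact conjSub_le_self_of_mem (Subgroup.inv_mem _ hd)


end

/-- For a finite group G with Sylow p-subgroup S and a normal subgroup H, the fusion system of H on S ∩ H is a normal subsystem of the fusion system of G on S. -/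
theorem result {G : Type*} [Group G] [Finite G] (p : ℕ) [Fact p.Prime] (S : Sylow p G) (H : Subgroup G) [H.Normal] : (Cfsg.fusionSystemOfSubgroup H ((S : Subgroup G) ⊓ H) inf_le_right).IsNormalIn (Cfsg.groupFusionSystem (S : Subgroup G)) p := by
  classical
  have hn : H.Normal := inferInstance
  have hsylH : IsSylowIn p ((S : Subgroup G) ⊓ H) H :=
    (isSylowIn_of_sylow_le S le_top).inf_normal le_top le_top Subgroup.le_normalizer_of_normal
  obtain ⟨R, hR⟩ := hsylH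
  have hTS : (S : Subgroup G) ⊓ H ≤ S := inf_le_left
  refine ⟨⟨Helper85_Transport.subgroup_isSaturated H _ inf_le_right R hR, group_isSaturated S,
    ?_, ?_, ?_, ?_⟩, ?_⟩
  · -- subsystem
    rintro P φ ⟨hP, hφT, g, -, hg⟩
    exact ⟨hP.trans inf_le_left, fun x => (hφT x).1, g, hg⟩
  · -- strongly closed
    refine ⟨inf_le_left, ?_⟩
    rintro Q hQ φ ⟨hQS, hφS, g, hg⟩ x
    refine ⟨hφS x, ?_⟩
    rw [hg]
    exact hn.conj_mem _ (hQ x.2).2 g
  · -- invariance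
    rintro P hPT φ ⟨-, hφT, h, hhH, hh⟩ α hα
    obtain ⟨g, hg⟩ := (group_mem_autGroup_iff hTS α).1 hα
    have hP'mem : ∀ y ∈ (P.subgroupOf ((S : Subgroup G) ⊓ H)).map
        (((S : Subgroup G) ⊓ H).subtype.comp α.toMonoidHom),
        ∃ (x : G) (hx : x ∈ P), y = g * x * g⁻¹ := by
      rintro _ ⟨⟨x, hxT⟩, hx, rfl⟩
      exact ⟨x, Subgroup.mem_subgroupOf.1 hx, hg _⟩
    refine ⟨conjHom _ (g * h * g⁻¹), ⟨?_, ?_, g * h * g⁻¹, hn.conj_mem h hhH g, fun _ => rfl⟩, ?_⟩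
    · rintro _ ⟨x, -, rfl⟩
      exact (α x).2
    · rintro ⟨y, hy⟩
      obtain ⟨x, hx, rfl⟩ := hP'mem y hy
      show g * h * g⁻¹ * (g * x * g⁻¹) * (g * h * g⁻¹)⁻¹ ∈ (S : Subgroup G) ⊓ H
      have h1 : g * h * g⁻¹ * (g * x * g⁻¹) * (g * h * g⁻¹)⁻¹ = g * (h * x * h⁻¹) * g⁻¹ := by group
      have h2 := hh ⟨x, hx⟩
      have h3 := hg ⟨φ ⟨x, hx⟩, hφT _⟩
      rw [h1, ← h2, ← h3]
      exact (α _).2
    · intro x hφx hαx
      show g * h * g⁻¹ * ((α ⟨x, hPT x.2⟩ : ↥((S : Subgroup G) ⊓ H)) : G) * (g * h * g⁻¹)⁻¹ =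
        ((α ⟨φ x, hφx⟩ : ↥((S : Subgroup G) ⊓ H)) : G)
      rw [hg, hg]
      show g * h * g⁻¹ * (g * (x : G) * g⁻¹) * (g * h * g⁻¹)⁻¹ = g * φ x * g⁻¹
      rw [hh]
      group
  · -- Frattini condition
    rintro P hPT φ ⟨hPS, hφS, g, hg⟩
    have hfr : Subgroup.normalizer ((((S : Subgroup G) ⊓ H : Subgroup G)) : Set G) ⊔ H = ⊤ := by
      have := Sylow.normalizer_sup_eq_top R
      rwa [hR, Subgroup.subgroupOf_map_subtype, inf_eq_left.2 inf_le_right] at this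
    have hg' : g ∈ Subgroup.normalizer ((((S : Subgroup G) ⊓ H : Subgroup G)) : Set G) ⊔ H := by
      rw [hfr]; exact Subgroup.mem_top g
    obtain ⟨n, hnN, h, hhH, rfl⟩ := Subgroup.mem_sup_of_normal_right.1 hg'
    refine ⟨((S : Subgroup G) ⊓ H).normalizerMonoidHom ⟨n, hnN⟩,
      (group_mem_autGroup_iff hTS _).2 ⟨n, fun x => rfl⟩, conjHom P h,
      ⟨hPT, ?_, h, hhH, fun _ => rfl⟩, ?_⟩
    · intro x
      show h * (x : G) * h⁻¹ ∈ (S : Subgroup G) ⊓ H
      have h1 : n * h * (x : G) * (n * h)⁻¹ ∈ (S : Subgroup G) ⊓ H :=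
        ⟨by rw [← hg]; exact hφS x, hn.conj_mem _ (hPT x.2).2 _⟩
      have h2 : h * (x : G) * h⁻¹ = n⁻¹ * (n * h * (x : G) * (n * h)⁻¹) * n⁻¹⁻¹ := by group
      rw [h2]
      exact (Subgroup.mem_normalizer_iff.1 (Subgroup.inv_mem _ hnN) _).1 h1
    · intro x hx
      rw [hg]
      show n * h * (x : G) * (n * h)⁻¹ = n * (h * (x : G) * h⁻¹) * n⁻¹
      group
  · -- extension condition
    intro α hα
    rw [Helper85_Fusion.mem_autGroup_iff _ le_rfl] at hα
    obtain ⟨-, -, h, hhH, hh⟩ := hα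
    have hh' : ∀ x : ↥((S : Subgroup G) ⊓ H),
        ((α x : ↥((S : Subgroup G) ⊓ H)) : G) = h * (x : G) * h⁻¹ := hh
    have hhN : h ∈ Subgroup.normalizer ((((S : Subgroup G) ⊓ H : Subgroup G)) : Set G) :=
      mem_normalizer_of_aut α h hh'
    obtain ⟨c, hcH, hcC, hgN⟩ := exists_extension_elt S H hn h hhH hhN
    have hDS : ((S : Subgroup G) ⊓ H) ⊔ centralizerIn (S : Subgroup G) ((S : Subgroup G) ⊓ H) ≤ S :=
      sup_le inf_le_left inf_le_left
    refine ⟨Subgroup.normalizerMonoidHom _ ⟨c * h, hgN⟩,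
      (group_mem_autGroup_iff hDS _).2 ⟨c * h, fun _ => rfl⟩, ?_, ?_⟩
    · intro x
      show c * h * (x : G) * (c * h)⁻¹ = ((α x : ↥((S : Subgroup G) ⊓ H)) : G)
      rw [hh' x]
      have h1 : h * (x : G) * h⁻¹ ∈ (S : Subgroup G) ⊓ H := hh' x ▸ (α x).2
      have h2 := (Subgroup.mem_centralizer_iff.1 hcC) _ h1
      calc c * h * (x : G) * (c * h)⁻¹ = c * (h * (x : G) * h⁻¹) * c⁻¹ := by group
        _ = (h * (x : G) * h⁻¹) * c * c⁻¹ := by rw [h2]
        _ = h * (x : G) * h⁻¹ := by group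
    · intro c₀ hc₀
      show (c₀ : G)⁻¹ * (c * h * (c₀ : G) * (c * h)⁻¹) ∈
        ((S : Subgroup G) ⊓ H) ⊓ Subgroup.centralizer ((((S : Subgroup G) ⊓ H : Subgroup G)) : Set G)
      have hgNT : c * h ∈ Subgroup.normalizer ((((S : Subgroup G) ⊓ H : Subgroup G)) : Set G) :=
        Subgroup.mul_mem _ (Subgroup.centralizer_le_normalizer _ hcC) hhN
      have hβ : c * h * (c₀ : G) * (c * h)⁻¹ ∈
          ((S : Subgroup G) ⊓ H) ⊔ centralizerIn (S : Subgroup G) ((S : Subgroup G) ⊓ H) :=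
        (Subgroup.mem_normalizer_iff.1 hgN _).1 c₀.2
      refine ⟨⟨?_, ?_⟩, ?_⟩
      · exact Subgroup.mul_mem _ (Subgroup.inv_mem _ hc₀.1) (hDS hβ)
      · have h3 : (c₀ : G)⁻¹ * (c * h * (c₀ : G) * (c * h)⁻¹) =
            ((c₀ : G)⁻¹ * (c * h) * (c₀ : G)⁻¹⁻¹) * (c * h)⁻¹ := by group
        rw [h3]
        exact Subgroup.mul_mem _ (hn.conj_mem _ (Subgroup.mul_mem _ hcH hhH) _)
          (Subgroup.inv_mem _ (Subgroup.mul_mem _ hcH hhH))
      · refine Subgroup.mul_mem _ (Subgroup.inv_mem _ hc₀.2) ?_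
        exact (Subgroup.mem_normalizer_iff.1
          (normalizer_le_normalizer_centralizer _ hgNT) _).1 hc₀.2

end Cfsg.Agent.S5118
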