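import Mathlib
import Cfsg.Statements.S3195
import Cfsg.Agent.S0199
import Cfsg.Agent.Lib.Helper4_Dihedral
import Cfsg.Agent.Lib.Helper53_Klein

set_option autoImplicit false
open Cfsg

namespace Cfsg.Agent.S3195

open Cfsg.Agent.Lib.Helper4_Dihedral Cfsg.Agent.Lib.Helper53_Klein

variable {G : Type*} [Group G]

/-- `⟨t, s⟩` is a `2`-group when `(t s)^(2^e) = 1`, for involutions `t`, `s`. -/
theorem isPGroup_closure_pair {t s : G} (ht : t * t = 1) (hs : s * s = 1) (e : ℕ)
    (h : (t * s) ^ (2 ^ e) = 1) : IsPGroup 2 ↥(Subgroup.closure ({t, s} : Set G)) := by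
  rintro ⟨d, hd⟩
  rw [mem_closure_iff ht hs] at hd
  obtain ⟨k, rfl | rfl⟩ := hd
  · refine ⟨e, Subtype.ext ?_⟩
    show ((t * s) ^ k) ^ (2 ^ e) = 1
    rw [← zpow_natCast, ← zpow_mul, mul_comm, zpow_mul, zpow_natCast, h, one_zpow]
  · refine ⟨1, Subtype.ext ?_⟩
    show (t * (t * s) ^ k) ^ (2 ^ 1) = 1
    rw [pow_one, pow_two]
    exact refl_mul_self ht hs k

/-- An involution outside `O₂(G)` inverts a nontrivial element of odd order
(Baer–Suzuki). -/
theorem exists_inverted_odd [Finite G] {t : G} (ht : t * t = 1) (hnot : t ∉ Cfsg.pCore 2 G) :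
    ∃ (u : G) (k : ℕ), Odd k ∧ u ^ k = 1 ∧ u ≠ 1 ∧ t * u * t = u⁻¹ := by
  haveI : Fact (Nat.Prime 2) := ⟨Nat.prime_two⟩
  by_contra hcon
  push Not at hcon
  apply hnot
  have hX : IsPGroup 2 ↥(Subgroup.zpowers t) := by
    rintro ⟨z, hz⟩
    obtain ⟨i, rfl⟩ := Subgroup.mem_zpowers_iff.mp hz
    refine ⟨1, Subtype.ext ?_⟩
    show (t ^ i) ^ (2 ^ 1) = 1
    rw [pow_one, ← zpow_natCast, ← zpow_mul, mul_comm, zpow_mul, zpow_natCast, pow_two, ht,
      one_zpow]
  obtain ⟨N, hN, hN2, hXN⟩ := Cfsg.Agent.S0199.result (Subgroup.zpowers t) hX (by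
    intro g
    set s := g * t * g⁻¹ with hsdef
    have hs : s * s = 1 := by
      rw [hsdef]
      calc g * t * g⁻¹ * (g * t * g⁻¹) = g * (t * t) * g⁻¹ := by group
        _ = 1 := by rw [ht]; group
    set r := t * s with hr
    have hn : orderOf r ≠ 0 := (orderOf_pos r).ne'
    obtain ⟨e, k0, hk0, hn_eq⟩ := Nat.exists_eq_two_pow_mul_odd hn
    have hk1 : k0 = 1 := by
      by_contra hne
      refine hcon (r ^ (2 ^ (e + 1))) k0 hk0 ?_ ?_ ?_
      · rw [← pow_mul]
        have : 2 ^ (e + 1) * k0 = orderOf r * 2 := by rw [hn_eq]; ring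
        rw [this, pow_mul, pow_orderOf_eq_one, one_pow]
      · intro h1
        have hdvd : orderOf r ∣ 2 ^ (e + 1) := orderOf_dvd_of_pow_eq_one h1
        rw [hn_eq, pow_succ] at hdvd
        have h2 : k0 ∣ 2 := (Nat.mul_dvd_mul_iff_left (by positivity)).mp hdvd
        have h3 : k0 ≤ 2 := Nat.le_of_dvd (by norm_num) h2
        obtain ⟨q, hq⟩ := hk0
        omega
      · have := conj_rot_zpow ht hs ((2 ^ (e + 1) : ℕ) : ℤ)
        rw [zpow_natCast] at this
        exact this
    have hr2 : r ^ (2 ^ e) = 1 := by
      have : orderOf r = 2 ^ e := by rw [hn_eq, hk1, mul_one]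
      rw [← this, pow_orderOf_eq_one]
    refine (isPGroup_closure_pair ht hs e hr2).to_le (sup_le ?_ ?_)
    · rw [Subgroup.zpowers_le]
      exact Subgroup.subset_closure (by simp)
    · rw [Subgroup.map_le_iff_le_comap, Subgroup.zpowers_le, Subgroup.mem_comap]
      exact Subgroup.subset_closure (by simp [hsdef, MulAut.conj_apply]))
  have hle : N ≤ Cfsg.pCore 2 G := le_sSup ⟨hN, hN2⟩
  exact hle (hXN (Subgroup.mem_zpowers t))

/-- `x` is a conjugate of the involution `t` with `t x` of odd order, not `1`. -/
structure OP (t x : G) : Prop where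
  tt : t * t = 1
  xx : x * x = 1
  nc : t * x ≠ x * t
  conj : ∃ j : ℕ, (t * x) ^ j * t * ((t * x) ^ j)⁻¹ = x
  odd : ∃ k : ℕ, Odd k ∧ (t * x) ^ k = 1

theorem OP.of_inverted {t u : G} {k : ℕ} (ht : t * t = 1) (hk : Odd k) (huk : u ^ k = 1)
    (hu1 : u ≠ 1) (hinv : t * u * t = u⁻¹) : OP t (t * u) := by
  have htu : t * (t * u) = u := by rw [← mul_assoc, ht, one_mul]
  have htinv : t⁻¹ = t := inv_eq_of_mul_eq_one_right ht
  have hpow : ∀ i : ℕ, t * u ^ i * t = (u ^ i)⁻¹ := by
    intro i
    have h1 : t * u ^ i * t⁻¹ = (t * u * t⁻¹) ^ i := (conj_pow).symm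
    rw [htinv, hinv, inv_pow] at h1
    exact h1
  refine ⟨ht, ?_, ?_, ?_, ?_⟩
  · calc t * u * (t * u) = (t * u * t) * u := by group
      _ = 1 := by rw [hinv]; group
  · rw [htu]
    intro h
    -- u = t u t = u⁻¹
    have h2 : u = u⁻¹ := by
      calc u = t * u * t := by rw [← h]
        _ = u⁻¹ := hinv
    have h3 : u * u = 1 := by
      calc u * u = u * u⁻¹ := by rw [← h2]
        _ = 1 := mul_inv_cancel u
    apply hu1
    obtain ⟨q, hq⟩ := hk
    rw [hq, pow_succ, pow_mul, pow_two, h3, one_pow, one_mul] at huk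
    exact huk
  · obtain ⟨q, hq⟩ := hk
    refine ⟨q, ?_⟩
    rw [htu]
    -- u^q t u^-q = u^(2q) t = u⁻¹ t = t u
    have h1 : u ^ q * t * (u ^ q)⁻¹ = u ^ q * u ^ q * t := by
      have := hpow q
      calc u ^ q * t * (u ^ q)⁻¹ = u ^ q * t * (t * u ^ q * t) := by rw [this]
        _ = u ^ q * (t * t) * u ^ q * t := by group
        _ = u ^ q * u ^ q * t := by rw [ht, mul_one]
    have h2 : u ^ q * u ^ q = u⁻¹ := by
      rw [← pow_add]
      have : u ^ (q + q) * u = 1 := by
        rw [← pow_succ]
        have : q + q + 1 = k := by omega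
        rw [this, huk]
      exact eq_inv_of_mul_eq_one_left this
    rw [h1, h2, ← hinv]
    calc t * u * t * t = t * u * (t * t) := by group
      _ = t * u := by rw [ht, mul_one]
  · exact ⟨k, hk, by rw [htu]; exact huk⟩

/-- an odd power of an involution -/
theorem pow_odd_of_mul_self {z : G} (hz : z * z = 1) {n : ℕ} (hn : Odd n) : z ^ n = z := by
  obtain ⟨q, hq⟩ := hn
  rw [hq, pow_succ, pow_mul, pow_two, hz, one_pow, one_mul]

/-- The two "mutual" odd pairs are contradictory. -/
theorem mutual_false {A : Subgroup G}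
    (HH : ∀ t ∈ A, t ≠ 1 → ∀ g : G, ∃ s ∈ A, s ≠ 1 ∧ s * (g * t * g⁻¹) = (g * t * g⁻¹) * s)
    {a b : G} (haA : a ∈ A) (hbA : b ∈ A) (ha1 : a ≠ 1) (hb1 : b ≠ 1) (hab1 : a * b ≠ 1)
    (hab : a * b = b * a)
    (hA4 : ∀ s ∈ A, s = 1 ∨ s = a ∨ s = b ∨ s = a * b)
    {x y : G} (hx : OP a x) (hy : OP b y) (hxb : x * b = b * x) (hya : y * a = a * y) :
    False := by
  have haa := hx.tt
  have hbb := hy.tt
  have hxx := hx.xx
  have hyy := hy.xx
  obtain ⟨j, hj⟩ := hx.conj
  obtain ⟨j', hj'⟩ := hy.conj
  set d := (a * x) ^ j with hd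
  set d' := (b * y) ^ j' with hd'
  -- commutations
  have hdb : Commute d b := by
    apply Commute.pow_left
    exact Commute.mul_left hab hxb
  have hd'a : Commute d' a := by
    apply Commute.pow_left
    exact Commute.mul_left hab.symm hya
  -- general transport of HH
  have key : ∀ t ∈ A, t ≠ 1 → ∀ (e f : G), ∃ s ∈ A, s ≠ 1 ∧
      (f * s * f⁻¹) * (e * t * e⁻¹) = (e * t * e⁻¹) * (f * s * f⁻¹) := by
    intro t htA ht1 e f
    obtain ⟨s, hsA, hs1, hs⟩ := HH t htA ht1 (f⁻¹ * e)
    refine ⟨s, hsA, hs1, ?_⟩
    have h1 : f⁻¹ * e * t * (f⁻¹ * e)⁻¹ = f⁻¹ * (e * t * e⁻¹) * f := by group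
    rw [h1] at hs
    calc f * s * f⁻¹ * (e * t * e⁻¹) = f * (s * (f⁻¹ * (e * t * e⁻¹) * f)) * f⁻¹ := by group
      _ = f * ((f⁻¹ * (e * t * e⁻¹) * f) * s) * f⁻¹ := by rw [hs]
      _ = e * t * e⁻¹ * (f * s * f⁻¹) := by group
  have hdc : d * (a * b) * d⁻¹ = x * b := by
    calc d * (a * b) * d⁻¹ = (d * a * d⁻¹) * (d * b * d⁻¹) := by group
      _ = x * b := by rw [hj, hdb.eq]; group
  have hd'c : d' * (a * b) * d'⁻¹ = a * y := by
    calc d' * (a * b) * d'⁻¹ = (d' * a * d'⁻¹) * (d' * b * d'⁻¹) := by group
      _ = a * y := by rw [hj', hd'a.eq]; group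
  -- (*) y commutes with x or x b
  have hstar : x * y = y * x ∨ (x * b) * y = y * (x * b) := by
    obtain ⟨s, hsA, hs1, hs⟩ := key b hbA hb1 d' d
    rw [hj'] at hs
    rcases hA4 s hsA with rfl | rfl | rfl | rfl
    · exact absurd rfl hs1
    · left; rw [hj] at hs; exact hs
    · exfalso
      apply hy.nc
      have : d * s * d⁻¹ = s := by rw [hdb.eq]; group
      rw [this] at hs
      exact hs
    · right; rw [hdc] at hs; exact hs
  -- (**) x commutes with y or y a
  have hstar' : y * x = x * y ∨ (a * y) * x = x * (a * y) := by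
    obtain ⟨s, hsA, hs1, hs⟩ := key a haA ha1 d d'
    rw [hj] at hs
    rcases hA4 s hsA with rfl | rfl | rfl | rfl
    · exact absurd rfl hs1
    · exfalso
      apply hx.nc
      have : d' * s * d'⁻¹ = s := by rw [hd'a.eq]; group
      rw [this] at hs
      exact hs
    · left; rw [hj'] at hs; exact hs
    · right; rw [hd'c] at hs; exact hs
  by_cases hxy : x * y = y * x
  · -- sub-case 1
    have hdy : Commute d y := by
      apply Commute.pow_left
      exact Commute.mul_left hya.symm hxy
    have hd'x : Commute d' x := by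
      apply Commute.pow_left
      exact Commute.mul_left hxb.symm hxy.symm
    have hga : (d * d') * a * (d * d')⁻¹ = x := by
      calc (d * d') * a * (d * d')⁻¹ = d * (d' * a * d'⁻¹) * d⁻¹ := by group
        _ = d * a * d⁻¹ := by rw [hd'a.eq]; group
        _ = x := hj
    have hgb : (d * d') * b * (d * d')⁻¹ = y := by
      calc (d * d') * b * (d * d')⁻¹ = d * (d' * b * d'⁻¹) * d⁻¹ := by group
        _ = d * y * d⁻¹ := by rw [hj']
        _ = y := by rw [hdy.eq]; group
    have hgc : (d * d') * (a * b) * (d * d')⁻¹ = x * y := by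
      calc (d * d') * (a * b) * (d * d')⁻¹
          = ((d * d') * a * (d * d')⁻¹) * ((d * d') * b * (d * d')⁻¹) := by group
        _ = x * y := by rw [hga, hgb]
    obtain ⟨s, hsA, hs1, hs⟩ := HH (a * b) (A.mul_mem haA hbA) hab1 (d * d')
    rw [hgc] at hs
    rcases hA4 s hsA with rfl | rfl | rfl | rfl
    · exact hs1 rfl
    · -- s commutes with x y and y, so with x
      apply hx.nc
      have h1 : s * x * y = x * s * y := by
        calc s * x * y = s * (x * y) := by group
          _ = x * y * s := hs
          _ = x * (y * s) := by group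
          _ = x * (s * y) := by rw [hya]
          _ = x * s * y := by group
      exact mul_right_cancel h1
    · apply hy.nc
      have h1 : x * (s * y) = x * (y * s) := by
        calc x * (s * y) = (x * s) * y := by group
          _ = (s * x) * y := by rw [hxb]
          _ = s * (x * y) := by group
          _ = x * y * s := hs
          _ = x * (y * s) := by group
      exact mul_left_cancel h1
    · -- (ab)(xy) = (xy)(ab) gives (ax)^2 = (yb)^2
      obtain ⟨k, hk, hkk⟩ := hx.odd
      have hxa_inv : (a * x)⁻¹ = x * a := by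
        rw [mul_inv_rev, inv_eq_of_mul_eq_one_right hxx, inv_eq_of_mul_eq_one_right haa]
      have hby_inv : (b * y)⁻¹ = y * b := by
        rw [mul_inv_rev, inv_eq_of_mul_eq_one_right hyy, inv_eq_of_mul_eq_one_right hbb]
      have e1 : a * x * (b * y) = x * a * (y * b) := by
        calc a * x * (b * y) = a * (x * b) * y := by group
          _ = a * (b * x) * y := by rw [hxb]
          _ = a * b * (x * y) := by group
          _ = x * y * (a * b) := hs
          _ = x * (y * a) * b := by group
          _ = x * (a * y) * b := by rw [hya]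
          _ = x * a * (y * b) := by group
      -- u^2 = u'^-2
      have e2 : (a * x) * (a * x) = (y * b) * (y * b) := by
        have : (x * a)⁻¹ * (a * x * (b * y)) * (b * y)⁻¹ = (x * a)⁻¹ * (x * a * (y * b)) * (b * y)⁻¹ := by
          rw [e1]
        have hxa' : (x * a)⁻¹ = a * x := by rw [← hxa_inv, inv_inv]
        rw [hxa', hby_inv] at this
        calc (a * x) * (a * x) = a * x * (a * x * (b * y)) * (y * b) := by
              have : b * y * (y * b) = 1 := by
                calc b * y * (y * b) = b * (y * y) * b := by group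
                  _ = 1 := by rw [hyy, mul_one, hbb]
              calc (a * x) * (a * x) = a * x * (a * x) * 1 := by rw [mul_one]
                _ = a * x * (a * x) * (b * y * (y * b)) := by rw [this]
                _ = a * x * (a * x * (b * y)) * (y * b) := by group
          _ = a * x * (x * a * (y * b)) * (y * b) := this
          _ = (y * b) * (y * b) := by
              have : a * x * (x * a) = 1 := by
                calc a * x * (x * a) = a * (x * x) * a := by group
                  _ = 1 := by rw [hxx, mul_one, haa]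
              calc a * x * (x * a * (y * b)) * (y * b) = (a * x * (x * a)) * (y * b) * (y * b) := by
                    group
                _ = (y * b) * (y * b) := by rw [this, one_mul]
      -- a commutes with y b, inverts a x
      have e3 : a * ((y * b) * (y * b)) * a = (y * b) * (y * b) := by
        have hc : Commute a (y * b) := Commute.mul_right hya.symm hab
        calc a * ((y * b) * (y * b)) * a = (a * (y * b)) * (y * b) * a := by group
          _ = ((y * b) * a) * (y * b) * a := by rw [hc.eq]
          _ = (y * b) * (a * (y * b)) * a := by group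
          _ = (y * b) * ((y * b) * a) * a := by rw [hc.eq]
          _ = (y * b) * (y * b) * (a * a) := by group
          _ = (y * b) * (y * b) := by rw [haa, mul_one]
      have e4 : a * ((a * x) * (a * x)) * a = (x * a) * (x * a) := by
        calc a * ((a * x) * (a * x)) * a = (a * a) * x * a * x * a := by group
          _ = (x * a) * (x * a) := by rw [haa, one_mul]; group
      rw [← e2, e4] at e3
      -- (x a)^2 = (a x)^2, so (a x)^4 = 1
      have e5 : (a * x) ^ 4 = 1 := by
        have : (a * x) ^ 4 = (a * x) * (a * x) * ((a * x) * (a * x)) := by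
          rw [pow_succ, pow_succ, pow_succ, pow_one]; group
        rw [this]
        nth_rewrite 2 [← e3]
        calc a * x * (a * x) * (x * a * (x * a)) = a * x * (a * (x * x) * a) * x * a := by group
          _ = a * x * (a * a) * x * a := by rw [hxx, mul_one]
          _ = a * (x * x) * a := by rw [haa, mul_one]; group
          _ = 1 := by rw [hxx, mul_one, haa]
      have hord1 : orderOf (a * x) ∣ 4 := orderOf_dvd_of_pow_eq_one e5
      have hord2 : orderOf (a * x) ∣ k := orderOf_dvd_of_pow_eq_one hkk
      have hcop : Nat.Coprime 4 k := by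
        have : Nat.Coprime 2 k := Nat.coprime_two_left.mpr hk
        exact Nat.Coprime.pow_left 2 this
      have hone : orderOf (a * x) = 1 := Nat.eq_one_of_dvd_coprimes hcop hord1 hord2
      rw [orderOf_eq_one_iff] at hone
      -- a x = 1 → x = a
      apply hx.nc
      have hxa : x = a := by
        have : a * x = a * a := by rw [hone, haa]
        exact mul_left_cancel this
      rw [hxa]
  · -- sub-case 2
    have h1 : (x * b) * y = y * (x * b) := hstar.resolve_left hxy
    have h2 : (a * y) * x = x * (a * y) := hstar'.resolve_left (fun h => hxy h.symm)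
    obtain ⟨k, hk, hkk⟩ := hx.odd
    obtain ⟨k', hk', hkk'⟩ := hy.odd
    have hn : Odd (k * k') := hk.mul hk'
    -- x y = (x b) (b y)
    have e1 : x * y = (x * b) * (b * y) := by
      calc x * y = x * (b * b) * y := by rw [hbb, mul_one]
        _ = (x * b) * (b * y) := by group
    have c1 : Commute (x * b) (b * y) := by
      apply Commute.mul_right
      · show (x * b) * b = b * (x * b)
        calc (x * b) * b = (b * x) * b := by rw [hxb]
          _ = b * (x * b) := by group
      · exact h1
    have p1 : (x * y) ^ (k * k') = x * b := by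
      rw [e1, c1.mul_pow]
      have hxb2 : (x * b) * (x * b) = 1 := by
        calc (x * b) * (x * b) = x * (b * x) * b := by group
          _ = x * (x * b) * b := by rw [hxb]
          _ = (x * x) * (b * b) := by group
          _ = 1 := by rw [hxx, hbb, one_mul]
      rw [pow_odd_of_mul_self hxb2 hn, mul_comm k k', pow_mul, hkk', one_pow, mul_one]
    -- x y = (a y) (x a)
    have e2 : x * y = (a * y) * (x * a) := by
      calc x * y = x * (a * a) * y := by rw [haa, mul_one]
        _ = x * a * (a * y) := by group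
        _ = x * a * (y * a) := by rw [hya]
        _ = x * (a * y) * a := by group
        _ = ((a * y) * x) * a := by rw [h2]
        _ = (a * y) * (x * a) := by group
    have c2 : Commute (a * y) (x * a) := by
      apply Commute.mul_right
      · exact h2
      · show (a * y) * a = a * (a * y)
        calc (a * y) * a = a * (y * a) := by group
          _ = a * (a * y) := by rw [hya]
    have hxak : (x * a) ^ k = 1 := by
      have : x * a = (a * x)⁻¹ := by
        rw [mul_inv_rev, inv_eq_of_mul_eq_one_right hxx, inv_eq_of_mul_eq_one_right haa]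
      rw [this, inv_pow, hkk, inv_one]
    have p2 : (x * y) ^ (k * k') = a * y := by
      rw [e2, c2.mul_pow]
      have hay2 : (a * y) * (a * y) = 1 := by
        calc (a * y) * (a * y) = a * (y * a) * y := by group
          _ = a * (a * y) * y := by rw [hya]
          _ = (a * a) * (y * y) := by group
          _ = 1 := by rw [haa, hyy, one_mul]
      rw [pow_odd_of_mul_self hay2 hn, pow_mul, hxak, one_pow, mul_one]
    have e3 : x * b = a * y := p1.symm.trans p2
    -- (x b) commutes with b, so (a y) commutes with b, so y commutes with b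
    apply hy.nc
    have h3 : (a * y) * b = b * (a * y) := by
      rw [← e3]
      calc (x * b) * b = (b * x) * b := by rw [hxb]
        _ = b * (x * b) := by group
    have h4 : a * (y * b) = a * (b * y) := by
      calc a * (y * b) = (a * y) * b := by group
        _ = b * (a * y) := h3
        _ = (b * a) * y := by group
        _ = (a * b) * y := by rw [hab]
        _ = a * (b * y) := by group
    exact (mul_left_cancel h4).symm

/-- Let A be a Klein four-subgroup of a finite group G. If every G-conjugate of every involution of A commutes with some involution of A (its centralizer meets A nontrivially), then A meets the largest normal 2-subgroup O₂(G) nontrivially. -/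
theorem result {G : Type*} [Group G] [Finite G]
    (A : Subgroup G) (hA : IsKleinFour ↥A)
    (h : ∀ a ∈ A, a ≠ 1 → ∀ g : G, A ⊓ Subgroup.centralizer ({g * a * g⁻¹} : Set G) ≠ ⊥) :
    A ⊓ Cfsg.pCore 2 G ≠ ⊥ := by
  classical
  intro hbot
  haveI := hA
  -- reformulate the hypothesis
  have HH : ∀ t ∈ A, t ≠ 1 → ∀ g : G, ∃ s ∈ A, s ≠ 1 ∧
      s * (g * t * g⁻¹) = (g * t * g⁻¹) * s := by
    intro t htA ht1 g
    obtain ⟨⟨s, hs⟩, hs1⟩ := (Subgroup.ne_bot_iff_exists_ne_one).mp (h t htA ht1 g)
    refine ⟨s, hs.1, fun h0 => hs1 (Subtype.ext h0), ?_⟩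
    have := Subgroup.mem_centralizer_iff.mp hs.2 (g * t * g⁻¹) rfl
    exact this.symm
  have hsq : ∀ s ∈ A, s * s = 1 := by
    intro s hs
    exact congrArg Subtype.val (IsKleinFour.mul_self (⟨s, hs⟩ : ↥A))
  have hcomm : ∀ s ∈ A, ∀ t ∈ A, s * t = t * s := by
    intro s hs t ht
    exact congrArg Subtype.val
      ((IsKleinFour.isMulCommutative (G := ↥A)).is_comm.comm (⟨s, hs⟩ : ↥A) ⟨t, ht⟩)
  have hnot : ∀ s ∈ A, s ≠ 1 → s ∉ Cfsg.pCore 2 G := by
    intro s hs hs1 hcore
    have : s ∈ A ⊓ Cfsg.pCore 2 G := ⟨hs, hcore⟩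
    rw [hbot, Subgroup.mem_bot] at this
    exact hs1 this
  -- pick a
  haveI : Finite ↥A := inferInstance
  have hcard : Nat.card ↥A = 4 := IsKleinFour.card_four
  obtain ⟨a, haA, ha⟩ := exists_mem_not_mem_finset A ({1} : Finset G) (by
    rw [Finset.card_singleton, hcard]; norm_num)
  have ha1 : a ≠ 1 := by simpa using ha
  have haa := hsq a haA
  obtain ⟨u, k, hk, huk, hu1, hinv⟩ := exists_inverted_odd haa (hnot a haA ha1)
  have hx : OP a (a * u) := OP.of_inverted haa hk huk hu1 hinv
  obtain ⟨j, hj⟩ := hx.conj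
  obtain ⟨b, hbA, hb1, hb⟩ := HH a haA ha1 ((a * (a * u)) ^ j)
  rw [hj] at hb
  have hba : b ≠ a := by
    intro hba
    rw [hba] at hb
    exact hx.nc hb
  have hbb := hsq b hbA
  have hab := hcomm a haA b hbA
  -- A = {1, a, b, ab}
  have hfour : four a b haa hbb hab = A := by
    apply Subgroup.eq_of_le_of_card_ge (four_le haA hbA)
    rw [hcard, (isKleinFour_four ha1 hb1 (Ne.symm hba)).card_four]
  have hA4 : ∀ s ∈ A, s = 1 ∨ s = a ∨ s = b ∨ s = a * b := by
    intro s hs
    rw [← hfour] at hs
    exact mem_four.mp hs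
  have hab1 : a * b ≠ 1 := by
    intro h0
    apply hba
    have : a * b = a * a := by rw [h0, haa]
    exact mul_left_cancel this
  -- second odd pair
  obtain ⟨u', k', hk', huk', hu1', hinv'⟩ := exists_inverted_odd hbb (hnot b hbA hb1)
  have hy : OP b (b * u') := OP.of_inverted hbb hk' huk' hu1' hinv'
  obtain ⟨j', hj'⟩ := hy.conj
  obtain ⟨s, hsA, hs1, hs⟩ := HH b hbA hb1 ((b * (b * u')) ^ j')
  rw [hj'] at hs
  set x := a * u with hxdef
  set y := b * u' with hydef
  rcases hA4 s hsA with rfl | rfl | rfl | rfl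
  · exact hs1 rfl
  · -- y commutes with a: mutual (a, b)
    exact mutual_false HH haA hbA ha1 hb1 hab1 hab hA4 hx hy hb.symm hs.symm
  · exact hy.nc hs
  · -- y commutes with c = a b: mutual (c, b) with x̃ = x b
    have hxb : x * b = b * x := hb.symm
    have hcx : (a * b) * (x * b) = a * x := by
      calc (a * b) * (x * b) = a * (b * x) * b := by group
        _ = a * (x * b) * b := by rw [hxb]
        _ = a * x * (b * b) := by group
        _ = a * x := by rw [hbb, mul_one]
    have hxc : (x * b) * (a * b) = x * a := by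
      calc (x * b) * (a * b) = x * (b * a) * b := by group
        _ = x * (a * b) * b := by rw [hab]
        _ = x * a * (b * b) := by group
        _ = x * a := by rw [hbb, mul_one]
    have hx' : OP (a * b) (x * b) := by
      refine ⟨?_, ?_, ?_, ?_, ?_⟩
      · calc (a * b) * (a * b) = a * (b * a) * b := by group
          _ = a * (a * b) * b := by rw [hab]
          _ = (a * a) * (b * b) := by group
          _ = 1 := by rw [haa, hbb, one_mul]
      · calc (x * b) * (x * b) = x * (b * x) * b := by group
          _ = x * (x * b) * b := by rw [hxb]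
          _ = (x * x) * (b * b) := by group
          _ = 1 := by rw [hx.xx, hbb, one_mul]
      · rw [hcx, hxc]; exact hx.nc
      · refine ⟨j, ?_⟩
        rw [hcx]
        have hdb : Commute ((a * x) ^ j) b := by
          apply Commute.pow_left
          exact Commute.mul_left hab hxb
        calc (a * x) ^ j * (a * b) * ((a * x) ^ j)⁻¹
            = ((a * x) ^ j * a * ((a * x) ^ j)⁻¹) * ((a * x) ^ j * b * ((a * x) ^ j)⁻¹) := by group
          _ = x * b := by rw [hj, hdb.eq]; group
      · obtain ⟨k0, hk0, hkk0⟩ := hx.odd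
        exact ⟨k0, hk0, by rw [hcx]; exact hkk0⟩
    have hA4' : ∀ s ∈ A, s = 1 ∨ s = a * b ∨ s = b ∨ s = a * b * b := by
      intro s hs
      have : a * b * b = a := by rw [mul_assoc, hbb, mul_one]
      rw [this]
      rcases hA4 s hs with h0 | h0 | h0 | h0
      · exact Or.inl h0
      · exact Or.inr (Or.inr (Or.inr h0))
      · exact Or.inr (Or.inr (Or.inl h0))
      · exact Or.inr (Or.inl h0)
    have hcb1 : a * b * b ≠ 1 := by
      rw [mul_assoc, hbb, mul_one]; exact ha1
    have hcb : a * b * b = b * (a * b) := by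
      calc a * b * b = (b * a) * b := by rw [hab]
        _ = b * (a * b) := by group
    have hxbb : (x * b) * b = b * (x * b) := by
      calc (x * b) * b = (b * x) * b := by rw [hxb]
        _ = b * (x * b) := by group
    exact mutual_false HH (A.mul_mem haA hbA) hbA hab1 hb1 hcb1 hcb hA4' hx' hy hxbb hs.symm

end Cfsg.Agent.S3195
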