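import Cfsg.Statements.S2566
import Cfsg.Agent.Lib.Helper61_IsometryTransfer

set_option autoImplicit false
open Cfsg

namespace Cfsg.Agent.S2566

open Matrix Cfsg.Agent.Lib.Helper61_IsometryTransfer

abbrev K := ZMod 2
abbrev ι := Fin 2 ⊕ Fin 2
abbrev S3 := Equiv.Perm (Fin 3)

/-- The coordinates: a vector `(x₁, x₂ | y₁, y₂)` is the `2 × 2` matrix `[[x₁, x₂], [y₂, y₁]]`, whose
determinant is the quadratic form. -/
def pos : ι → Fin 2 × Fin 2
  | .inl 0 => (0, 0)
  | .inl 1 => (0, 1)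
  | .inr 0 => (1, 1)
  | .inr 1 => (1, 0)

def R3 : Fin 3 → Fin 2 → K := ![![1, 0], ![1, 1], ![0, 1]]
def P3 : Fin 2 → Fin 3 → K := ![![1, 0, 0], ![0, 0, 1]]

/-- `S₃ ≅ GL₂(2)` via the sum-zero subspace of `K³`. -/
def p (σ : S3) : Fin 2 → Fin 2 → K :=
  fun i j => ∑ a : Fin 3, P3 i a * R3 (σ⁻¹ a) j

/-- left multiplication by `p σ` on `2 × 2` matrices. -/
def Amat (σ : S3) : Matrix ι ι K :=
  Matrix.of fun i j => if (pos j).2 = (pos i).2 then p σ (pos i).1 (pos j).1 else 0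

/-- right multiplication by the transpose of `p τ` on `2 × 2` matrices. -/
def Bmat (τ : S3) : Matrix ι ι K :=
  Matrix.of fun i j => if (pos j).1 = (pos i).1 then p τ (pos i).2 (pos j).2 else 0

/-- transposition of `2 × 2` matrices. -/
def gmat : Matrix ι ι K :=
  Matrix.of fun i j => if (pos j).1 = (pos i).2 ∧ (pos j).2 = (pos i).1 then 1 else 0

def Ψmat (x : S3 × S3 × Fin 2) : Matrix ι ι K :=
  Amat x.1 * Bmat x.2.1 * (if x.2.2 = 0 then 1 else gmat)

abbrev Q : (ι → K) → K := Cfsg.quadFormPlus 2 K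

set_option maxRecDepth 100000 in
theorem Amat_mul : ∀ σ τ : S3, Amat (σ * τ) = Amat σ * Amat τ := by decide +kernel
set_option maxRecDepth 100000 in
theorem Bmat_mul : ∀ σ τ : S3, Bmat (σ * τ) = Bmat σ * Bmat τ := by decide +kernel
set_option maxRecDepth 100000 in
theorem Amat_one : Amat 1 = 1 := by decide +kernel
set_option maxRecDepth 100000 in
theorem Bmat_one : Bmat 1 = 1 := by decide +kernel
set_option maxRecDepth 100000 in
theorem gmat_mul : gmat * gmat = 1 := by decide +kernel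
set_option maxRecDepth 100000 in
theorem Amat_pres : ∀ σ : S3, ∀ u : ι → K, Q (Amat σ *ᵥ u) = Q u := by decide +kernel
set_option maxRecDepth 100000 in
theorem Bmat_pres : ∀ σ : S3, ∀ u : ι → K, Q (Bmat σ *ᵥ u) = Q u := by decide +kernel
set_option maxRecDepth 100000 in
theorem gmat_pres : ∀ u : ι → K, Q (gmat *ᵥ u) = Q u := by decide +kernel
set_option maxRecDepth 100000 in
theorem AB_comm : ∀ σ τ : S3, Amat σ * Bmat τ = Bmat τ * Amat σ := by decide +kernel
set_option maxRecDepth 100000 in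
theorem g_conj : ∀ σ : S3, gmat * Amat σ * gmat = Bmat σ := by decide +kernel
set_option maxRecDepth 100000 in
theorem Ψmat_inj : ∀ x y : S3 × S3 × Fin 2, Ψmat x = Ψmat y → x = y := by decide +kernel

def cols (c0 c1 c2 c3 : ι → K) : Matrix ι ι K :=
  Matrix.of fun i j => match j with
    | .inl 0 => c0 i
    | .inl 1 => c1 i
    | .inr 0 => c2 i
    | .inr 1 => c3 i

set_option maxRecDepth 100000 in
set_option synthInstance.maxSize 2000 in
set_option synthInstance.maxHeartbeats 400000 in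
theorem Ψmat_surj : ∀ c0 : ι → K, Q c0 = 0 → ∀ c1 : ι → K, (Q c1 = 0 ∧ Q (c0 + c1) = 0) →
    ∀ c2 : ι → K, (Q c2 = 0 ∧ Q (c0 + c2) = 1 ∧ Q (c1 + c2) = 0) →
    ∀ c3 : ι → K, (Q c3 = 0 ∧ Q (c0 + c3) = 0 ∧ Q (c1 + c3) = 1 ∧ Q (c2 + c3) = 0) →
    ∃ x : S3 × S3 × Fin 2, cols c0 c1 c2 c3 = Ψmat x := by
  decide +kernel

abbrev O := isometryGroup K Q

theorem Ψmat_pres (x : S3 × S3 × Fin 2) : ∀ u : ι → K, Q (Ψmat x *ᵥ u) = Q u := by
  intro u
  unfold Ψmat
  by_cases h : x.2.2 = 0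
  · rw [if_pos h, Matrix.mul_one, ← Matrix.mulVec_mulVec, Amat_pres, Bmat_pres]
  · rw [if_neg h, ← Matrix.mulVec_mulVec, ← Matrix.mulVec_mulVec, Amat_pres, Bmat_pres, gmat_pres]

/-- `Amat σ` as an element of the isometry group. -/
def ψA : S3 →* O where
  toFun σ := ⟨⟨Amat σ, Amat σ⁻¹, by rw [← Amat_mul, mul_inv_cancel, Amat_one],
    by rw [← Amat_mul, inv_mul_cancel, Amat_one]⟩, (mem_isometryGroup_iff Q _).2 (Amat_pres σ)⟩
  map_one' := by
    apply Subtype.ext; apply Units.ext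
    exact Amat_one
  map_mul' σ τ := by
    apply Subtype.ext; apply Units.ext
    exact Amat_mul σ τ

/-- `Bmat σ` as an element of the isometry group. -/
def ψB : S3 →* O where
  toFun σ := ⟨⟨Bmat σ, Bmat σ⁻¹, by rw [← Bmat_mul, mul_inv_cancel, Bmat_one],
    by rw [← Bmat_mul, inv_mul_cancel, Bmat_one]⟩, (mem_isometryGroup_iff Q _).2 (Bmat_pres σ)⟩
  map_one' := by
    apply Subtype.ext; apply Units.ext
    exact Bmat_one
  map_mul' σ τ := by
    apply Subtype.ext; apply Units.ext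
    exact Bmat_mul σ τ

/-- the transposition as an element of the isometry group. -/
def g : O := ⟨⟨gmat, gmat, gmat_mul, gmat_mul⟩, (mem_isometryGroup_iff Q _).2 gmat_pres⟩

/-- coercion to matrices -/
def toMat (x : O) : Matrix ι ι K := ((x : Matrix.GeneralLinearGroup ι K) : Matrix ι ι K)

theorem toMat_injective : Function.Injective toMat := by
  intro x y h
  apply Subtype.ext; apply Units.ext
  exact h

theorem toMat_mul (x y : O) : toMat (x * y) = toMat x * toMat y := rfl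
theorem toMat_one : toMat 1 = 1 := rfl
theorem toMat_ψA (σ : S3) : toMat (ψA σ) = Amat σ := rfl
theorem toMat_ψB (σ : S3) : toMat (ψB σ) = Bmat σ := rfl
theorem toMat_g : toMat g = gmat := rfl

theorem g_inv : g⁻¹ = g := by
  rw [inv_eq_iff_mul_eq_one]
  apply toMat_injective
  rw [toMat_mul, toMat_g, gmat_mul, toMat_one]

theorem comm (σ τ : S3) : ψA σ * ψB τ = ψB τ * ψA σ := by
  apply toMat_injective
  rw [toMat_mul, toMat_mul, toMat_ψA, toMat_ψB, AB_comm]

/-- the bijection `S₃ × S₃ × C₂ → O⁺₄(2)`. -/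
def Ψ (x : S3 × S3 × Fin 2) : O := ψA x.1 * ψB x.2.1 * (if x.2.2 = 0 then 1 else g)

theorem toMat_Ψ (x : S3 × S3 × Fin 2) : toMat (Ψ x) = Ψmat x := by
  unfold Ψ Ψmat
  rw [toMat_mul, toMat_mul, toMat_ψA, toMat_ψB]
  by_cases h : x.2.2 = 0
  · rw [if_pos h, if_pos h, toMat_one]
  · rw [if_neg h, if_neg h, toMat_g]

theorem Ψ_injective : Function.Injective Ψ := by
  intro x y h
  apply Ψmat_inj
  rw [← toMat_Ψ, ← toMat_Ψ, h]

abbrev e0 : ι → K := Pi.single (.inl 0) 1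
abbrev e1 : ι → K := Pi.single (.inl 1) 1
abbrev e2 : ι → K := Pi.single (.inr 0) 1
abbrev e3 : ι → K := Pi.single (.inr 1) 1

theorem Q_e0 : Q e0 = 0 := by decide +kernel
theorem Q_e1 : Q e1 = 0 := by decide +kernel
theorem Q_e2 : Q e2 = 0 := by decide +kernel
theorem Q_e3 : Q e3 = 0 := by decide +kernel
theorem Q_e01 : Q (e0 + e1) = 0 := by decide +kernel
theorem Q_e02 : Q (e0 + e2) = 1 := by decide +kernel
theorem Q_e03 : Q (e0 + e3) = 0 := by decide +kernel
theorem Q_e12 : Q (e1 + e2) = 0 := by decide +kernel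
theorem Q_e13 : Q (e1 + e3) = 1 := by decide +kernel
theorem Q_e23 : Q (e2 + e3) = 0 := by decide +kernel

theorem Ψ_surjective : Function.Surjective Ψ := by
  intro x
  obtain ⟨M, hM⟩ : ∃ M : Matrix ι ι K, M = toMat x := ⟨_, rfl⟩
  have hpres : ∀ u, Q (M *ᵥ u) = Q u := by
    rw [hM]
    exact (mem_isometryGroup_iff Q _).1 x.2
  have hcols : M = cols (M *ᵥ e0) (M *ᵥ e1) (M *ᵥ e2) (M *ᵥ e3) := by
    ext i j
    rcases j with j | j
    · fin_cases j
      · simp [cols, e0]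
      · simp [cols, e1]
    · fin_cases j
      · simp [cols, e2]
      · simp [cols, e3]
  have h0 : Q (M *ᵥ e0) = 0 := by rw [hpres, Q_e0]
  have h1 : Q (M *ᵥ e1) = 0 := by rw [hpres, Q_e1]
  have h2 : Q (M *ᵥ e2) = 0 := by rw [hpres, Q_e2]
  have h3 : Q (M *ᵥ e3) = 0 := by rw [hpres, Q_e3]
  have h01 : Q (M *ᵥ e0 + M *ᵥ e1) = 0 := by rw [← Matrix.mulVec_add, hpres, Q_e01]
  have h02 : Q (M *ᵥ e0 + M *ᵥ e2) = 1 := by rw [← Matrix.mulVec_add, hpres, Q_e02]
  have h03 : Q (M *ᵥ e0 + M *ᵥ e3) = 0 := by rw [← Matrix.mulVec_add, hpres, Q_e03]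
  have h12 : Q (M *ᵥ e1 + M *ᵥ e2) = 0 := by rw [← Matrix.mulVec_add, hpres, Q_e12]
  have h13 : Q (M *ᵥ e1 + M *ᵥ e3) = 1 := by rw [← Matrix.mulVec_add, hpres, Q_e13]
  have h23 : Q (M *ᵥ e2 + M *ᵥ e3) = 0 := by rw [← Matrix.mulVec_add, hpres, Q_e23]
  obtain ⟨y, hy⟩ := Ψmat_surj _ h0 _ ⟨h1, h01⟩ _ ⟨h2, h02, h12⟩ _ ⟨h3, h03, h13, h23⟩
  refine ⟨y, ?_⟩
  apply toMat_injective
  rw [toMat_Ψ, ← hy, ← hcols, hM]

theorem card_O : Nat.card O = 72 := by
  rw [← Nat.card_congr (Equiv.ofBijective Ψ ⟨Ψ_injective, Ψ_surjective⟩)]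
  simp [Nat.card_eq_fintype_card, Fintype.card_perm, Nat.factorial]

theorem ψA_injective : Function.Injective ψA := by
  intro σ τ h
  have : Ψ (σ, 1, 0) = Ψ (τ, 1, 0) := by simp [Ψ, h]
  have := Ψ_injective this
  simpa using this

theorem ψB_injective : Function.Injective ψB := by
  intro σ τ h
  have : Ψ (1, σ, 0) = Ψ (1, τ, 0) := by simp [Ψ, h]
  have := Ψ_injective this
  simpa using this

/-- the product hom `S₃ × S₃ → O`. -/
def ψAB : S3 × S3 →* O :=
  ψA.noncommCoprod ψB (fun σ τ => (show Commute (ψA σ) (ψB τ) from comm σ τ))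

theorem ψAB_apply (x : S3 × S3) : ψAB x = Ψ (x.1, x.2, 0) := by
  simp [ψAB, Ψ, MonoidHom.noncommCoprod_apply]

theorem ψAB_injective : Function.Injective ψAB := by
  intro x y h
  rw [ψAB_apply, ψAB_apply] at h
  have := Ψ_injective h
  simp only [Prod.mk.injEq, and_true] at this
  exact Prod.ext this.1 this.2

/-- The full orthogonal group of the plus-type form x₁y₁ + x₂y₂ in dimension 4 over the field of two elements has order 72 and is isomorphic to the wreath product of the symmetric group of degree 3 by a group of order 2: it has a normal subgroup isomorphic to the direct product of two symmetric groups of degree 3, of index 2, whose two direct factors are interchanged by conjugation by some element. -/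
theorem result :
    Nat.card ↥(Cfsg.isometryGroup (ZMod 2) (Cfsg.quadFormPlus 2 (ZMod 2))) = 72 ∧
    ∃ (A B : Subgroup ↥(Cfsg.isometryGroup (ZMod 2) (Cfsg.quadFormPlus 2 (ZMod 2)))),
      Nonempty (↥A ≃* Equiv.Perm (Fin 3)) ∧ Nonempty (↥B ≃* Equiv.Perm (Fin 3)) ∧ A ⊓ B = ⊥ ∧ (∀ a ∈ A, ∀ b ∈ B, a * b = b * a) ∧
      (A ⊔ B).index = 2 ∧ ∃ g : ↥(Cfsg.isometryGroup (ZMod 2) (Cfsg.quadFormPlus 2 (ZMod 2))), A.map (MulAut.conj g).toMonoidHom = B := by
  refine ⟨card_O, ψA.range, ψB.range, ⟨(MonoidHom.ofInjective ψA_injective).symm⟩,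
    ⟨(MonoidHom.ofInjective ψB_injective).symm⟩, ?_, ?_, ?_, g, ?_⟩
  · rw [eq_bot_iff]
    rintro x ⟨⟨σ, rfl⟩, ⟨τ, hτ⟩⟩
    have h : Ψ (σ, 1, 0) = Ψ (1, τ, 0) := by simp [Ψ, hτ]
    have := Ψ_injective h
    simp only [Prod.mk.injEq, and_true] at this
    rw [Subgroup.mem_bot, this.1, map_one]
  · rintro a ⟨σ, rfl⟩ b ⟨τ, rfl⟩
    exact comm σ τ
  · have hsup : ψA.range ⊔ ψB.range = ψAB.range := by
      rw [ψAB, MonoidHom.noncommCoprod_range]
    have hcard : Nat.card (ψAB.range) = 36 := by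
      rw [← Nat.card_congr (MonoidHom.ofInjective ψAB_injective).toEquiv]
      simp [Nat.card_eq_fintype_card, Fintype.card_perm, Nat.factorial]
    have h := Subgroup.index_mul_card (ψA.range ⊔ ψB.range)
    rw [hsup, hcard, card_O] at h
    rw [hsup]
    omega
  · ext y
    simp only [Subgroup.mem_map, MonoidHom.mem_range, MulEquiv.coe_toMonoidHom, MulAut.conj_apply]
    constructor
    · rintro ⟨x, ⟨σ, rfl⟩, rfl⟩
      refine ⟨σ, ?_⟩
      apply toMat_injective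
      rw [g_inv, toMat_mul, toMat_mul, toMat_g, toMat_ψA, toMat_ψB, g_conj]
    · rintro ⟨σ, rfl⟩
      refine ⟨ψA σ, ⟨σ, rfl⟩, ?_⟩
      apply toMat_injective
      rw [g_inv, toMat_mul, toMat_mul, toMat_g, toMat_ψA, toMat_ψB, g_conj]

end Cfsg.Agent.S2566
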