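import Cfsg.Statements.S1428
import Cfsg.Agent.S1416
import Cfsg.Agent.S1417
import Cfsg.Agent.S1418
import Cfsg.Agent.Lib.Helper39_BG134d
import Cfsg.Agent.Lib.Helper35_BG131c

set_option autoImplicit false
open Cfsg

namespace Cfsg.Agent.S1428

/-- Let G be a minimal simple group of odd order, M a maximal subgroup, E a complement to M_σ in M, p ∈ τ₁(M), P ≤ E a subgroup of order p, and R a subgroup of prime order of E ∩ C_G(P). Then M_σ ∩ C_G(P) ≤ M_σ ∩ C_G(R). -/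
theorem result {G : Type*} [Group G] [Finite G] (hG : Cfsg.IsMinSimpleOddOrder G)
    (M : Subgroup G) (hM : IsCoatom M) (E : Subgroup G) (hE : Cfsg.IsComplIn E (Cfsg.sigmaCore M) M) (p : ℕ) (hp : p ∈ Cfsg.tau1 M) (P : Subgroup G) (hPE : P ≤ E) (hP : Nat.card P = p)
    (R : Subgroup G) (hRE : R ≤ E ⊓ Subgroup.centralizer (P : Set G)) (hR : (Nat.card R).Prime) :
    Cfsg.sigmaCore M ⊓ Subgroup.centralizer (P : Set G) ≤ Cfsg.sigmaCore M ⊓ Subgroup.centralizer (R : Set G) := by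
  have hC : Cfsg.Agent.Lib.Helper73_BG12.CentHyp G := fun M hM p _ A hAM hAe hA2 =>
    (Cfsg.Agent.S1416.result hG M hM p A ⟨hAM, hAe, hA2⟩).1
  have h17 : Cfsg.Agent.Lib.Helper79_BG141.Hyp1417 G := fun M hM p _ hp A hA =>
    Cfsg.Agent.S1417.result hG M hM p hp A hA
  have h18 : Cfsg.Agent.Lib.Helper76_BG13c.Hyp1418a G := fun M hM E hE p _ hp A hAE hAe hA2 =>
    (Cfsg.Agent.S1418.result hG M hM E hE p hp A ⟨hAE, hAe, hA2⟩).1.1
  have hrk : Cfsg.Agent.Lib.Helper39_BG134c.HRank G := by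
    intro M E P R p r hA hNC H hH hNP hpH hrH hncj
    have : Fact p.Prime := ⟨hA.pp⟩
    exact Cfsg.Agent.Lib.Helper35_BG131c.not_pRankLE_of_not_le_centralizer hG hA.hM hA.hE hA.hp
      hA.hPE hA.hP hA.hRE hA.hRP hA.hR hA.hr hNC hH hNP hpH hrH hncj
  exact Cfsg.Agent.Lib.Helper39_BG134d.statement_S1428' hG hC h17 h18 hrk
    ⟨hM, hE, hp, hPE, hP, hRE.trans inf_le_left, hRE.trans inf_le_right, rfl, hR⟩

end Cfsg.Agent.S1428
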