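import Cfsg.Statements.S4447
import Cfsg.Agent.Lib.Helper74_Glauberman
import Cfsg.Agent.Lib.Helper75_Clifford
import Cfsg.Agent.Lib.Helper80_CharBasic

set_option autoImplicit false
open Cfsg

namespace Cfsg.Agent.S4447


open Cfsg.Agent.Lib
open scoped ComplexConjugate

section Aux

/-- Pulling an irreducible character back along an isomorphism gives an irreducible character. -/
theorem isIrr_comp_equiv {K N : Type*} [Group K] [Group N] [Fintype K] [Fintype N] (e : K ≃* N)
    {θ : N → ℂ} (hθ : Cfsg.IsIrrCharacter N θ) : Cfsg.IsIrrCharacter K (fun k => θ (e k)) := by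
  have hchar : Cfsg.IsCharacter K (fun k => θ (e k)) :=
    Helper75_CharArith.isCharacter_comp e.toMonoidHom
      (Helper3_CharBridge.isCharacter_of_isIrrCharacter hθ)
  apply Helper75_CharArith.isIrrCharacter_of_classInner_self hchar
  have h1 := Helper3_CharOrtho.classInner_self_of_isIrrCharacter hθ
  unfold Cfsg.classInner at h1 ⊢
  rw [← h1, Nat.card_congr e.toEquiv]
  congr 1
  exact Fintype.sum_equiv e.toEquiv _ _ (fun k => rfl)

/-- inner products are invariant under isomorphisms -/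
theorem classInner_comp_equiv {K N : Type*} [Group K] [Group N] [Fintype K] [Fintype N]
    (e : K ≃* N) (α β : N → ℂ) :
    Cfsg.classInner (fun k => α (e k)) (fun k => β (e k)) = Cfsg.classInner α β := by
  unfold Cfsg.classInner
  rw [Nat.card_congr e.toEquiv]
  congr 1
  exact Fintype.sum_equiv e.toEquiv _ _ (fun k => rfl)

variable {Γ : Type*} [Group Γ]

/-- conjugation by an element of the normalizer, as an automorphism of `N` -/
def cAut (N : Subgroup Γ) (t : Γ) (ht : t ∈ Subgroup.normalizer (N : Set Γ)) : N ≃* N where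
  toFun n := ⟨t * n * t⁻¹, (Subgroup.mem_normalizer_iff.mp ht n).mp n.2⟩
  invFun n := ⟨t⁻¹ * n * t, by
    rw [Subgroup.mem_normalizer_iff.mp ht (t⁻¹ * n * t)]
    have : t * (t⁻¹ * ↑n * t) * t⁻¹ = n := by group
    rw [this]; exact n.2⟩
  left_inv n := by ext; simp [mul_assoc]
  right_inv n := by ext; simp [mul_assoc]
  map_mul' a b := by ext; simp [mul_assoc]

theorem cAut_symm_apply (N : Subgroup Γ) (t : Γ) (ht : t ∈ Subgroup.normalizer (N : Set Γ))
    (n : N) : (((cAut N t ht).symm n : N) : Γ) = t⁻¹ * n * t := rfl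

/-- functions on `Γ` with the conjugation action -/
@[ext] structure CF (Γ : Type*) where
  /-- the underlying function -/
  fn : Γ → ℂ

instance : MulAction Γ (CF Γ) where
  smul t f := ⟨fun x => f.fn (t⁻¹ * x * t)⟩
  one_smul f := by
    ext x
    show f.fn (1⁻¹ * x * 1) = f.fn x
    simp
  mul_smul a b f := by
    ext x
    show f.fn ((a * b)⁻¹ * x * (a * b)) = f.fn (b⁻¹ * (a⁻¹ * x * a) * b)
    congr 1
    group

theorem CF_smul_apply (t : Γ) (f : CF Γ) (x : Γ) : (t • f).fn x = f.fn (t⁻¹ * x * t) := rfl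

/-- the conjugation action on an extension by zero -/
theorem smul_extendByZero (N : Subgroup Γ) (t : Γ) (ht : t ∈ Subgroup.normalizer (N : Set Γ))
    (θ : N → ℂ) :
    (t • (⟨Cfsg.extendByZero N θ⟩ : CF Γ)) =
      (⟨Cfsg.extendByZero N (fun n => θ ((cAut N t ht).symm n))⟩ : CF Γ) := by
  ext x
  rw [CF_smul_apply]
  dsimp only
  by_cases hx : x ∈ N
  · have hx' : t⁻¹ * x * t ∈ N := ((cAut N t ht).symm ⟨x, hx⟩).2
    rw [Helper75_Induced.extendByZero_of_mem N θ hx',
      Helper75_Induced.extendByZero_of_mem N _ hx]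
    rfl
  · have hx' : t⁻¹ * x * t ∉ N := by
      intro h
      apply hx
      have := ((cAut N t ht) ⟨_, h⟩).2
      have e : t * (t⁻¹ * x * t) * t⁻¹ = x := by group
      simpa [cAut, e] using this
    rw [Helper75_Induced.extendByZero_of_not_mem N θ hx',
      Helper75_Induced.extendByZero_of_not_mem N _ hx]

theorem extendByZero_injective (N : Subgroup Γ) (θ₁ θ₂ : N → ℂ)
    (h : Cfsg.extendByZero N θ₁ = Cfsg.extendByZero N θ₂) : θ₁ = θ₂ := by
  funext n
  have := congrFun h (n : Γ)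
  rwa [Helper75_Induced.extendByZero_coe, Helper75_Induced.extendByZero_coe] at this

/-- membership in the normalizer from one-sided conjugation stability of a subgroup -/
theorem mem_normalizer_of_conj (N T : Subgroup Γ) (h : ∀ t ∈ T, ∀ n ∈ N, t * n * t⁻¹ ∈ N)
    (t : Γ) (ht : t ∈ T) : t ∈ Subgroup.normalizer (N : Set Γ) := by
  rw [Subgroup.mem_normalizer_iff]
  intro n
  constructor
  · intro hn
    exact h t ht n hn
  · intro hn
    have := h t⁻¹ (T.inv_mem ht) _ hn
    have e : t⁻¹ * (t * n * t⁻¹) * t⁻¹⁻¹ = n := by group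
    rwa [e] at this

/-- the set of (extensions by zero of) irreducible constituents -/
def constSet [Fintype Γ] (N : Subgroup Γ) [Fintype N] (ψ : N → ℂ) : Set (CF Γ) :=
  {y | ∃ θ : Cfsg.IrrCharacter N, Cfsg.classInner ψ (θ : N → ℂ) ≠ 0 ∧
    y = ⟨Cfsg.extendByZero N (θ : N → ℂ)⟩}

theorem smul_mem_constSet [Fintype Γ] (N : Subgroup Γ) [Fintype N] (ψ : N → ℂ) (t : Γ)
    (ht : t ∈ Subgroup.normalizer (N : Set Γ))
    (hψ : ∀ n : N, ψ ((cAut N t ht).symm n) = ψ n) (y : CF Γ) (hy : y ∈ constSet N ψ) :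
    t • y ∈ constSet N ψ := by
  obtain ⟨θ, hθ, rfl⟩ := hy
  refine ⟨⟨fun n => (θ : N → ℂ) ((cAut N t ht).symm n), isIrr_comp_equiv _ θ.2⟩, ?_, ?_⟩
  · have h1 := classInner_comp_equiv (cAut N t ht).symm ψ (θ : N → ℂ)
    have h2 : (fun k => ψ ((cAut N t ht).symm k)) = ψ := funext hψ
    rw [h2] at h1
    show Cfsg.classInner ψ (fun n => (θ : N → ℂ) ((cAut N t ht).symm n)) ≠ 0
    rw [h1]
    exact hθ
  · exact smul_extendByZero N t ht _

end Aux

/-- Inside a finite group Γ let S normalise G and also normalise a normal subgroup N of G, with the order of S coprime to the index of N in G and S or G/N solvable. Then for every S-invariant irreducible character χ of G, the restriction of χ to N has an S-invariant irreducible constituent. -/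
theorem result {Γ : Type*} [Group Γ] [Fintype Γ] (G S N : Subgroup Γ) [Fintype G] [Fintype N] (hnorm : ∀ s ∈ S, ∀ g ∈ G, s * g * s⁻¹ ∈ G) (hNG : N ≤ G) [hNn : (N.subgroupOf G).Normal] (hNS : ∀ s ∈ S, ∀ n ∈ N, s * n * s⁻¹ ∈ N) (hcop : (N.relIndex G).Coprime (Nat.card S)) (hsolv : Group.IsSolvable S ∨ Group.IsSolvable (G ⧸ N.subgroupOf G)) (χ : Cfsg.IrrCharacter G) (hinv : (∀ s ∈ S, ∀ g g' : G, (g' : Γ) = s * g * s⁻¹ → (χ : G → ℂ) g' = (χ : G → ℂ) g)) : ∃ θ : Cfsg.IrrCharacter N, Cfsg.classInner (fun n : N => (χ : G → ℂ) ⟨n, hNG n.2⟩) (θ : N → ℂ) ≠ 0 ∧ (∀ s ∈ S, ∀ g g' : N, (g' : Γ) = s * g * s⁻¹ → (θ : N → ℂ) g' = (θ : N → ℂ) g) := by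
  classical
  set ψ : N → ℂ := fun n : N => (χ : G → ℂ) ⟨n, hNG n.2⟩ with hψdef
  have hχcf : Cfsg.IsClassFunction G (χ : G → ℂ) :=
    Helper3_CharBridge.isClassFunction_of_isIrrCharacter χ.2
  -- `G` normalises `N`
  have hGN : ∀ g ∈ G, ∀ n ∈ N, g * n * g⁻¹ ∈ N := by
    intro g hg n hn
    have := hNn.conj_mem (⟨n, hNG hn⟩ : G)
      (by simpa [Subgroup.mem_subgroupOf] using hn) ⟨g, hg⟩
    simpa [Subgroup.mem_subgroupOf] using this
  have hGnorm : ∀ g ∈ G, g ∈ Subgroup.normalizer (N : Set Γ) :=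
    fun g hg => mem_normalizer_of_conj N G hGN g hg
  have hSnorm : ∀ s ∈ S, s ∈ Subgroup.normalizer (N : Set Γ) :=
    fun s hs => mem_normalizer_of_conj N S hNS s hs
  -- invariance of `ψ`
  have hψG : ∀ g (hg : g ∈ G), ∀ n : N, ψ ((cAut N g (hGnorm g hg)).symm n) = ψ n := by
    intro g hg n
    have := hχcf ⟨n, hNG n.2⟩ ⟨g, hg⟩⁻¹
    show (χ : G → ℂ) _ = (χ : G → ℂ) _
    rw [← this]
    refine congrArg _ (Subtype.ext ?_)
    simp [cAut_symm_apply]
  have hψS : ∀ s (hs : s ∈ S), ∀ n : N, ψ ((cAut N s (hSnorm s hs)).symm n) = ψ n := by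
    intro s hs n
    apply hinv s⁻¹ (S.inv_mem hs)
    simp [cAut_symm_apply]
  -- nonemptiness
  have hψchar : Cfsg.IsCharacter N ψ := by
    have := Helper75_CharArith.isCharacter_comp (Subgroup.inclusion hNG)
      (Helper3_CharBridge.isCharacter_of_isIrrCharacter χ.2)
    exact this
  have hne : (constSet N ψ).Nonempty := by
    obtain ⟨a, ha, hsum⟩ := Helper75_CharArith.exists_multiplicities hψchar
    by_contra hemp
    have hall : ∀ θ : Cfsg.IrrCharacter N, Cfsg.classInner ψ (θ : N → ℂ) = 0 := by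
      intro θ
      by_contra h
      exact hemp ⟨_, θ, h, rfl⟩
    have hzero : ψ = 0 := by
      rw [hsum]
      apply Finset.sum_eq_zero
      intro θ _
      have h1 := ha θ
      rw [hall θ] at h1
      have : a θ = 0 := by exact_mod_cast h1.symm
      rw [this]
      simp
    obtain ⟨n, hnpos, h1⟩ := Helper80_CharBasic.irr_apply_one χ
    have h2 : ψ 1 = (χ : G → ℂ) 1 := rfl
    rw [hzero] at h2
    have hn0 : (n : ℂ) = 0 := by rw [← h1, ← h2]; rfl
    have hn : n = 0 := by exact_mod_cast hn0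
    omega
  -- apply Glauberman's lemma
  obtain ⟨y, hyY, hyS⟩ := Helper74_Glauberman.glauberman_rel (X := CF Γ) G S N hnorm hcop hsolv
    (constSet N ψ) hne
    (fun g hg y hy => smul_mem_constSet N ψ g (hGnorm g hg) (hψG g hg) y hy)
    (fun s hs y hy => smul_mem_constSet N ψ s (hSnorm s hs) (hψS s hs) y hy)
    (by
      rintro n hn y ⟨θ, hθ, rfl⟩
      rw [smul_extendByZero N n (hGnorm n (hNG hn))]
      congr 1
      congr 1
      funext m
      have hcf := Helper3_CharBridge.isClassFunction_of_isIrrCharacter θ.2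
      have := hcf m (⟨n, hn⟩ : N)⁻¹
      rw [← this]
      refine congrArg _ (Subtype.ext ?_)
      simp [cAut_symm_apply])
    (by
      rintro y ⟨θ₁, hθ₁, rfl⟩ y' ⟨θ₂, hθ₂, rfl⟩
      -- transport to `N.subgroupOf G`
      let e : N.subgroupOf G ≃* N := Subgroup.subgroupOfEquivOfLe hNG
      have hres : Helper75_Clifford.res (N.subgroupOf G) (χ : G → ℂ) = fun k => ψ (e k) := by
        funext k
        rfl
      have hi₁ : Cfsg.IsIrrCharacter (N.subgroupOf G) (fun k => (θ₁ : N → ℂ) (e k)) :=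
        isIrr_comp_equiv e θ₁.2
      have hi₂ : Cfsg.IsIrrCharacter (N.subgroupOf G) (fun k => (θ₂ : N → ℂ) (e k)) :=
        isIrr_comp_equiv e θ₂.2
      have hc₁ : Cfsg.classInner (Helper75_Clifford.res (N.subgroupOf G) (χ : G → ℂ))
          (fun k => (θ₁ : N → ℂ) (e k)) ≠ 0 := by
        rw [hres, classInner_comp_equiv e]
        exact hθ₁
      have hc₂ : Cfsg.classInner (Helper75_Clifford.res (N.subgroupOf G) (χ : G → ℂ))
          (fun k => (θ₂ : N → ℂ) (e k)) ≠ 0 := by
        rw [hres, classInner_comp_equiv e]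
        exact hθ₂
      obtain ⟨g, hg⟩ := Helper75_Clifford.exists_conj_of_constituent (N.subgroupOf G) hNn χ.2
        hi₁ hi₂ hc₁ hc₂
      refine ⟨(g : Γ)⁻¹, G.inv_mem g.2, ?_⟩
      rw [smul_extendByZero N _ (hGnorm _ (G.inv_mem g.2))]
      congr 1
      congr 1
      funext m
      have := congrFun hg (e.symm m)
      rw [Helper75_Clifford.conjFun_apply] at this
      simp only [MulEquiv.apply_symm_apply] at this
      rw [this]
      refine congrArg _ (Subtype.ext ?_)
      simp [cAut_symm_apply, e])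
  obtain ⟨θ, hθ, rfl⟩ := hyY
  refine ⟨θ, hθ, ?_⟩
  intro s hs g g' hgg'
  have h1 := hyS s⁻¹ (S.inv_mem hs)
  rw [smul_extendByZero N _ (hSnorm _ (S.inv_mem hs))] at h1
  have h1' : Cfsg.extendByZero N (fun n => (θ : N → ℂ) ((cAut N s⁻¹ (hSnorm _ (S.inv_mem hs))).symm n))
      = Cfsg.extendByZero N (θ : N → ℂ) := congrArg CF.fn h1
  have h2 := extendByZero_injective N _ _ h1'
  have h3 := congrFun h2 g
  rw [← h3]
  refine congrArg _ (Subtype.ext ?_)
  simp [cAut_symm_apply, hgg']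

end Cfsg.Agent.S4447
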