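import Cfsg.Statements.S0862
import Cfsg.Agent.Lib.Helper75_Gallagher
import Cfsg.Agent.Lib.Helper75_DetChar

set_option autoImplicit false
open Cfsg

namespace Cfsg.Agent.S0862

theorem pow_eq_pow_of_modEq {z : ℂ} {k a b : ℕ} (hz : z ^ k = 1) (h : a ≡ b [MOD k]) :
    z ^ a = z ^ b := by
  have h' : a % k = b % k := h
  rw [← Nat.mod_add_div a k, ← Nat.mod_add_div b k, pow_add, pow_add, pow_mul, pow_mul, hz,
    one_pow, one_pow, h']

theorem exists_inv_mod {k d : ℕ} (hk : k ≠ 0) (hcop : Nat.Coprime k d) :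
    ∃ d' : ℕ, d * d' ≡ 1 [MOD k] := by
  have : NeZero k := ⟨hk⟩
  let u := ZMod.unitOfCoprime d hcop.symm
  refine ⟨((u⁻¹ : (ZMod k)ˣ) : ZMod k).val, ?_⟩
  rw [← ZMod.natCast_eq_natCast_iff]
  push_cast
  rw [ZMod.natCast_zmod_val]
  exact u.mul_inv


open Cfsg.Agent.Lib.Helper3_CharBridge Cfsg.Agent.Lib.Helper3_CharOrtho
  Cfsg.Agent.Lib.Helper75_Clifford Cfsg.Agent.Lib.Helper75_LinChar
  Cfsg.Agent.Lib.Helper75_DetChar Cfsg.Agent.Lib.Helper75_Gallagher in
/-- Let N be a normal subgroup of the finite group G and ϑ an irreducible character of N of degree d coprime to the index of N, which is the restriction of some irreducible character of G. Let μ be a character of G of degree 1 whose restriction to N is the determinantal character of ϑ. Then there is exactly one irreducible character χ of G restricting to ϑ whose determinantal character is μ. -/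
theorem result {G : Type*} [Group G] [Finite G] (N : Subgroup G) [N.Normal] (ϑ : N → ℂ) (hϑ : Cfsg.IsIrrCharacter N ϑ) (d : ℕ) (hd : ϑ 1 = d) (hcop : Nat.Coprime N.index d) (hext : ∃ η : G → ℂ, Cfsg.IsIrrCharacter G η ∧ (∀ n : N, η n = ϑ n)) (μ : G → ℂ) (hμ : Cfsg.IsCharacter G μ ∧ μ 1 = 1) (hμN : ∀ n : N, μ n = Cfsg.detChar ϑ n) : ∃! χ : G → ℂ, Cfsg.IsIrrCharacter G χ ∧ (∀ n : N, χ n = ϑ n) ∧ Cfsg.detChar χ = μ := by
  classical
  have : Fintype G := Fintype.ofFinite G
  obtain ⟨η, hη, hηN⟩ := hext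
  have hηres : (fun n : N => η n) = ϑ := funext hηN
  have hηc : Cfsg.IsCharacter G η := isCharacter_of_isIrrCharacter hη
  have hη1 : η 1 = d := by
    have := hηN 1
    rw [← hd, ← this]
    rfl
  set δ := Cfsg.detChar η with hδdef
  have hδ : IsLin G δ := isCharacter_detChar hηc
  have hδN : ∀ n : N, δ n = Cfsg.detChar ϑ n := by
    intro n
    have h1 := detChar_res N hηc
    rw [hηres] at h1
    exact (congrFun h1 n).symm
  have hμlin : IsLin G μ := hμ
  set ν : G → ℂ := μ * fun g => (δ g)⁻¹ with hνdef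
  have hν : IsLin G ν := hμlin.mul hδ.inv
  have hνN : ∀ n : N, ν n = 1 := by
    intro n
    show μ n * (δ n)⁻¹ = 1
    rw [hμN n, ← hδN n]
    exact mul_inv_cancel₀ (hδ.ne_zero _)
  have hk : N.index ≠ 0 := Subgroup.index_ne_zero_of_finite
  obtain ⟨d', hd'⟩ := exists_inv_mod hk hcop
  have hpow : ∀ (β : G → ℂ), IsLin G β → (∀ n : N, β n = 1) → ∀ g, (β g ^ d) ^ d' = β g := by
    intro β hβ hβN g
    rw [← pow_mul]
    have := pow_eq_pow_of_modEq (hβ.pow_index_eq_one N hβN g) hd'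
    rw [this, pow_one]
  set lam : G → ℂ := ν ^ d' with hlamdef
  have hlam : IsLin G lam := hν.pow d'
  have hlamN : ∀ n : N, lam n = 1 := by
    intro n
    show ν n ^ d' = 1
    rw [hνN n, one_pow]
  have hlamd : lam ^ d = ν := by
    funext g
    show (ν g ^ d') ^ d = ν g
    rw [← pow_mul, mul_comm, pow_mul]
    exact hpow ν hν hνN g
  have hdet : ∀ β : G → ℂ, IsLin G β → Cfsg.detChar (β * η) = β ^ d * δ := fun β hβ =>
    detChar_linear_mul hβ.1 hβ.2 hηc d hη1
  have hνδ : ν * δ = μ := by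
    funext g
    show μ g * (δ g)⁻¹ * δ g = μ g
    rw [mul_assoc, inv_mul_cancel₀ (hδ.ne_zero g), mul_one]
  refine ⟨lam * η, ⟨hlam.mul_irr hη, ?_, ?_⟩, ?_⟩
  · intro n
    show lam n * η n = ϑ n
    rw [hlamN n, one_mul, hηN n]
  · rw [hdet lam hlam, hlamd, hνδ]
  · rintro χ' ⟨hχ', hχ'N, hχ'det⟩
    have hηNirr : Cfsg.IsIrrCharacter N (fun n : N => η n) := by rw [hηres]; exact hϑ
    obtain ⟨β, hβ, hβN, rfl⟩ := exists_lin_of_extensions N hη hχ' hηNirr
      (fun n => by rw [hχ'N n, hηN n])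
    have h1 : β ^ d * δ = ν * δ := by rw [← hdet β hβ, hχ'det, hνδ]
    have h2 : β ^ d = ν := by
      funext g
      have := congrFun h1 g
      simp only [Pi.mul_apply] at this
      exact mul_right_cancel₀ (hδ.ne_zero g) this
    have h3 : β = lam := by
      funext g
      rw [← hpow β hβ hβN g, ← hpow lam hlam hlamN g]
      have e1 : β g ^ d = ν g := congrFun h2 g
      have e2 : lam g ^ d = ν g := congrFun hlamd g
      rw [e1, e2]
    rw [h3]

end Cfsg.Agent.S0862
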