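import Mathlib
import Cfsg.Statements.S0866
import Cfsg.Agent.Lib.Helper80_ExtSylow
import Cfsg.Agent.Lib.Helper75_ExtendSolvable
import Cfsg.Agent.Lib.Helper75_DetChar

set_option autoImplicit false
open Cfsg

namespace Cfsg.Agent.S0866

open Cfsg.Agent.Lib.Helper3_CharBridge Cfsg.Agent.Lib.Helper75_DetChar
  Cfsg.Agent.Lib.Helper75_ExtendSolvable Cfsg.Agent.Lib.Helper75_Induced

/-- the preimage of a Sylow subgroup of the quotient has a `p`-group as quotient, so solvable -/
theorem isSolvable_sylow_preimage {G : Type*} [Group G] [Finite G] (N : Subgroup G) [hN : N.Normal]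
    (p : ℕ) [hp : Fact p.Prime] (Q : Sylow p (G ⧸ N)) :
    Group.IsSolvable
      (↥((Q : Subgroup (G ⧸ N)).comap (QuotientGroup.mk' N)) ⧸
        N.subgroupOf ((Q : Subgroup (G ⧸ N)).comap (QuotientGroup.mk' N))) := by
  set M := (Q : Subgroup (G ⧸ N)).comap (QuotientGroup.mk' N) with hM
  have hpg : IsPGroup p (↥M ⧸ N.subgroupOf M) := by
    intro x
    obtain ⟨m, rfl⟩ := QuotientGroup.mk_surjective x
    have hmQ : QuotientGroup.mk' N (m : G) ∈ (Q : Subgroup (G ⧸ N)) := m.2
    obtain ⟨k, hk⟩ := Q.2 ⟨_, hmQ⟩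
    refine ⟨k, ?_⟩
    have h1 : (QuotientGroup.mk' N (m : G)) ^ p ^ k = 1 := by
      have := congrArg Subtype.val hk
      simpa using this
    rw [← QuotientGroup.mk_pow, QuotientGroup.eq_one_iff, Subgroup.mem_subgroupOf,
      Subgroup.coe_pow]
    rw [← map_pow, QuotientGroup.mk'_apply, QuotientGroup.eq_one_iff] at h1
    exact h1
  have : Group.IsNilpotent (↥M ⧸ N.subgroupOf M) := hpg.isNilpotent
  infer_instance

/-- Let N be a normal subgroup of the finite group G and ϑ an irreducible character of N, invariant under conjugation by G, of degree d coprime to the index of N. Then ϑ is the restriction of an irreducible character of G if and only if the determinantal character of ϑ is the restriction of a character of G of degree 1. -/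
theorem result {G : Type*} [Group G] [Finite G] (N : Subgroup G) [hN : N.Normal] (ϑ : N → ℂ) (hϑ : Cfsg.IsIrrCharacter N ϑ) (hinv : ∀ (g : G) (n : N), ϑ ⟨g * n * g⁻¹, hN.conj_mem (n : G) n.2 g⟩ = ϑ n) (d : ℕ) (hd : ϑ 1 = d) (hcop : Nat.Coprime N.index d) : (∃ χ : G → ℂ, Cfsg.IsIrrCharacter G χ ∧ (∀ n : N, χ n = ϑ n)) ↔ ∃ μ : G → ℂ, Cfsg.IsCharacter G μ ∧ μ 1 = 1 ∧ ∀ n : N, μ n = Cfsg.detChar ϑ n := by
  constructor
  · rintro ⟨χ, hχ, hχN⟩
    have hχc : Cfsg.IsCharacter G χ := isCharacter_of_isIrrCharacter hχ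
    refine ⟨Cfsg.detChar χ, (isCharacter_detChar hχc).1, (isCharacter_detChar hχc).2, ?_⟩
    intro n
    have h1 := detChar_res N hχc
    have h2 : (fun n : N => χ n) = ϑ := funext hχN
    rw [h2] at h1
    exact (congrFun h1 n).symm
  · rintro ⟨μ, hμ, hμ1, hμN⟩
    apply Cfsg.Agent.Lib.Helper80_ExtSylow.exists_extension_of_coprime_indices N ϑ hϑ hinv
    intro p hp
    haveI : Fact p.Prime := ⟨hp⟩
    let Q : Sylow p (G ⧸ N) := default
    set M := (Q : Subgroup (G ⧸ N)).comap (QuotientGroup.mk' N) with hM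
    have hNM : N ≤ M := by
      intro n hn
      show QuotientGroup.mk' N n ∈ (Q : Subgroup (G ⧸ N))
      have : QuotientGroup.mk' N n = 1 := by
        rw [QuotientGroup.mk'_apply, QuotientGroup.eq_one_iff]
        exact hn
      rw [this]
      exact Subgroup.one_mem _
    have hidx : M.index = (Q : Subgroup (G ⧸ N)).index :=
      Subgroup.index_comap_of_surjective _ (QuotientGroup.mk'_surjective N)
    have hcopM : Nat.Coprime M.index p := by
      rw [hidx]
      exact ((Nat.Prime.coprime_iff_not_dvd hp).mpr Q.not_dvd_index).symm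
    obtain ⟨h1, h2, h3, h4, h5, h6⟩ :=
      transport_hyps N M hNM ϑ hϑ hinv d hd hcop μ ⟨hμ, hμ1⟩ hμN
    obtain ⟨χ', hχ'irr, hχ'N⟩ := exists_extension_of_solvable (N.subgroupOf M)
      (isSolvable_sylow_preimage N p Q) (resSubgroupOf N M ϑ) h1 h2 d h3 h4
      (fun x : M => μ x) h5 h6
    refine ⟨M, hNM, χ', hcopM, hχ'irr, fun n => ?_⟩
    exact hχ'N ⟨⟨n, hNM n.2⟩, Subgroup.mem_subgroupOf.mpr n.2⟩

end Cfsg.Agent.S0866
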