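import Mathlib
import Cfsg.Statements.S0867
import Cfsg.Agent.S0866
import Cfsg.Agent.S0862
import Cfsg.Agent.S0864
import Cfsg.Agent.Lib.Helper75_ExtendCoprime

set_option autoImplicit false
open Cfsg

namespace Cfsg.Agent.S0867

open Cfsg.Agent.Lib.Helper3_CharBridge Cfsg.Agent.Lib.Helper75_DetChar
  Cfsg.Agent.Lib.Helper75_LinChar Cfsg.Agent.Lib.Helper75_ExtendCoprime

/-- an invariant linear character of `N ⊴ G` whose order `o` is coprime to the index extends to a
linear character of `G` whose `o`-th power is trivial -/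
theorem exists_lin_extension {G : Type*} [Group G] [Finite G] (N : Subgroup G) [hN : N.Normal]
    (lam : N → ℂ) (hlam : IsLin N lam)
    (hinv : ∀ (g : G) (n : N), lam ⟨g * n * g⁻¹, hN.conj_mem (n : G) n.2 g⟩ = lam n)
    (hcop : Nat.Coprime N.index (orderOf lam)) :
    ∃ μ : G → ℂ, IsLin G μ ∧ (∀ n : N, μ n = lam n) ∧ ∀ g : G, μ g ^ orderOf lam = 1 := by
  set o := orderOf lam with ho
  have ho0 : o ≠ 0 := by
    have h1 : lam ^ Nat.card N = 1 := by
      funext n
      rw [Pi.pow_apply]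
      exact hlam.pow_card_eq_one n
    have h2 : o ∣ Nat.card N := orderOf_dvd_of_pow_eq_one h1
    intro h0
    rw [h0, zero_dvd_iff] at h2
    exact Nat.card_pos.ne' h2
  have hlamo : ∀ n : N, lam n ^ o = 1 := by
    intro n
    have := pow_orderOf_eq_one lam
    exact congrFun this n
  obtain ⟨μ₀, hμ₀c, hμ₀1, hμ₀N⟩ := Cfsg.Agent.S0864.result N lam hlam hinv (by
    intro p hp hpo
    refine ⟨N, le_refl N, lam, ?_, ⟨0, ?_⟩, hlam.1, hlam.2, fun n => rfl⟩
    · exact Nat.Coprime.coprime_dvd_right hpo hcop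
    · rw [Subgroup.relIndex_self, pow_zero])
  have hμ₀ : IsLin G μ₀ := ⟨hμ₀c, hμ₀1⟩
  obtain ⟨m', hm'⟩ := Cfsg.Agent.S0862.exists_inv_mod ho0 hcop.symm
  set t := N.index * m' with ht
  refine ⟨μ₀ ^ t, hμ₀.pow t, fun n => ?_, fun g => ?_⟩
  · rw [Pi.pow_apply, hμ₀N n]
    have := Cfsg.Agent.S0862.pow_eq_pow_of_modEq (hlamo n) hm'
    rw [this, pow_one]
  · rw [Pi.pow_apply, ← pow_mul, ht, mul_comm (N.index * m') o, ← mul_assoc, pow_mul, pow_mul]
    have hν : IsLin G (μ₀ ^ o) := hμ₀.pow o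
    have hνN : ∀ n : N, (μ₀ ^ o) n = 1 := by
      intro n
      rw [Pi.pow_apply, hμ₀N n, hlamo n]
    have := hν.pow_index_eq_one N hνN g
    rw [Pi.pow_apply] at this
    rw [this, one_pow]

open Cfsg.Agent.Lib.Helper3_CharBridge Cfsg.Agent.Lib.Helper75_DetChar
  Cfsg.Agent.Lib.Helper75_LinChar Cfsg.Agent.Lib.Helper75_ExtendCoprime in
/-- Let N be a normal subgroup of the finite group G and ϑ an irreducible character of N of degree d, invariant under conjugation by G, such that the index of N is coprime to the product of d and the determinantal order of ϑ. Then there is an irreducible character χ of G restricting to ϑ whose determinantal order equals that of ϑ, and χ is the only irreducible character of G restricting to ϑ whose determinantal order is coprime to the index of N. -/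
theorem result {G : Type*} [Group G] [Finite G] (N : Subgroup G) [hN : N.Normal] (ϑ : N → ℂ) (hϑ : Cfsg.IsIrrCharacter N ϑ) (hinv : ∀ (g : G) (n : N), ϑ ⟨g * n * g⁻¹, hN.conj_mem (n : G) n.2 g⟩ = ϑ n) (d : ℕ) (hd : ϑ 1 = d) (hcop : Nat.Coprime N.index (Cfsg.detOrder ϑ * d)) : ∃ χ : G → ℂ, (Cfsg.IsIrrCharacter G χ ∧ (∀ n : N, χ n = ϑ n) ∧ Cfsg.detOrder χ = Cfsg.detOrder ϑ) ∧ ∀ χ' : G → ℂ, Cfsg.IsIrrCharacter G χ' → (∀ n : N, χ' n = ϑ n) → Nat.Coprime N.index (Cfsg.detOrder χ') → χ' = χ := by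
  have hϑc : Cfsg.IsCharacter N ϑ := isCharacter_of_isIrrCharacter hϑ
  set lam := Cfsg.detChar ϑ with hlamdef
  have hlam : IsLin N lam := isCharacter_detChar hϑc
  have hlaminv := detChar_invariant N hϑc hinv
  have hcopo : Nat.Coprime N.index (orderOf lam) := Nat.Coprime.coprime_mul_right_right hcop
  have hcopd : Nat.Coprime N.index d := Nat.Coprime.coprime_mul_left_right hcop
  set o := orderOf lam with ho
  obtain ⟨μ, hμ, hμN, hμo⟩ := exists_lin_extension N lam hlam hlaminv hcopo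
  have hext : ∃ η : G → ℂ, Cfsg.IsIrrCharacter G η ∧ (∀ n : N, η n = ϑ n) :=
    (Cfsg.Agent.S0866.result N ϑ hϑ hinv d hd hcopd).mpr ⟨μ, hμ.1, hμ.2, hμN⟩
  obtain ⟨χ, ⟨hχirr, hχN, hχdet⟩, huniq⟩ :=
    Cfsg.Agent.S0862.result N ϑ hϑ d hd hcopd hext μ hμ hμN
  have hordμ : orderOf μ = o := by
    apply Nat.dvd_antisymm
    · apply orderOf_dvd_of_pow_eq_one
      funext g
      rw [Pi.pow_apply]
      exact hμo g
    · apply orderOf_dvd_of_pow_eq_one
      funext n
      rw [Pi.pow_apply, ← hμN n]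
      have := pow_orderOf_eq_one μ
      have h2 := congrFun this (n : G)
      rw [Pi.pow_apply] at h2
      exact h2
  refine ⟨χ, ⟨hχirr, hχN, ?_⟩, ?_⟩
  · show orderOf (Cfsg.detChar χ) = orderOf (Cfsg.detChar ϑ)
    rw [hχdet, hordμ]
  · intro χ' hχ'irr hχ'N hcop'
    apply huniq
    refine ⟨hχ'irr, hχ'N, ?_⟩
    have hχ'c : Cfsg.IsCharacter G χ' := isCharacter_of_isIrrCharacter hχ'irr
    set μ' := Cfsg.detChar χ' with hμ'def
    have hμ' : IsLin G μ' := isCharacter_detChar hχ'c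
    have hμ'N : ∀ n : N, μ' n = lam n := by
      intro n
      have h1 := detChar_res N hχ'c
      have h2 : (fun n : N => χ' n) = ϑ := funext hχ'N
      rw [h2] at h1
      exact (congrFun h1 n).symm
    set o' := orderOf μ' with ho'
    have hcop'' : Nat.Coprime N.index o' := hcop'
    funext g
    -- the ratio
    have hρ : IsLin G (μ' * fun g => (μ g)⁻¹) := hμ'.mul hμ.inv
    have hρN : ∀ n : N, (μ' * fun g => (μ g)⁻¹) n = 1 := by
      intro n
      rw [Pi.mul_apply, hμ'N n, hμN n]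
      exact mul_inv_cancel₀ (hlam.ne_zero n)
    have h1 := hρ.pow_index_eq_one N hρN g
    have hμ'o : μ' g ^ o' = 1 := by
      have h3 := congrFun (pow_orderOf_eq_one μ') g
      rw [Pi.pow_apply] at h3
      exact h3
    have h2a : μ' g ^ (o' * o) = 1 := by rw [pow_mul, hμ'o, one_pow]
    have h2b : μ g ^ (o' * o) = 1 := by rw [mul_comm, pow_mul, hμo g, one_pow]
    have h2 : (μ' * fun g => (μ g)⁻¹) g ^ (o' * o) = 1 := by
      rw [Pi.mul_apply, mul_pow, inv_pow, h2a, h2b, inv_one, mul_one]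
    have h4 := pow_gcd_eq_one.mpr ⟨h1, h2⟩
    have h5 : Nat.gcd N.index (o' * o) = 1 := Nat.Coprime.mul_right hcop'' hcopo
    rw [h5, pow_one, Pi.mul_apply] at h4
    have hμg : μ g ≠ 0 := hμ.ne_zero g
    field_simp at h4
    exact h4

end Cfsg.Agent.S0867
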