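import Cfsg.Statements.S0995
import Cfsg.Agent.Lib.Helper17_Sylow

set_option autoImplicit false
open Cfsg

namespace Cfsg.Agent.S0995

open Cfsg.Agent.Lib.Helper17_Sylow Subgroup

/-- If `z` has prime order `p` and is self-centralizing, all Sylow `p`-subgroups have order `p`. -/
theorem card_sylow_of_self_centralizing {G : Type*} [Group G] [Finite G] (p : ℕ) [hp : Fact p.Prime]
    (z : G) (hz : orderOf z = p) (hC : centralizer ({z} : Set G) = zpowers z) (Q : Sylow p G) :
    Nat.card (Q : Subgroup G) = p := by
  have hpg : IsPGroup p (zpowers z) := by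
    apply IsPGroup.of_card (n := 1)
    rw [Nat.card_zpowers, hz, pow_one]
  obtain ⟨P', hle⟩ := hpg.exists_le_sylow
  have hzP : z ∈ (P' : Subgroup G) := hle (mem_zpowers z)
  have hz1 : z ≠ 1 := by
    intro h; rw [h, orderOf_one] at hz; exact hp.out.one_lt.ne hz
  have hnt : Nontrivial (P' : Subgroup G) := ⟨⟨⟨z, hzP⟩, 1, fun h => hz1 (congrArg Subtype.val h)⟩⟩
  have hcn : Nontrivial (center (P' : Subgroup G)) := IsPGroup.center_nontrivial P'.2
  obtain ⟨c, hc1⟩ := exists_ne (1 : center (P' : Subgroup G))
  have hc1' : ((c : (P' : Subgroup G)) : G) ≠ 1 := by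
    intro h
    apply hc1
    apply Subtype.ext
    apply Subtype.ext
    exact h
  have hcz : ((c : (P' : Subgroup G)) : G) ∈ zpowers z := by
    rw [← hC, Subgroup.mem_centralizer_iff]
    intro y hy
    rw [Set.mem_singleton_iff] at hy
    subst hy
    have := (Subgroup.mem_center_iff.mp c.2) ⟨y, hzP⟩
    exact congrArg Subtype.val this
  have hcc := centralizer_eq_of_mem_zpowers z _ hz hcz hc1'
  have hP'le : (P' : Subgroup G) ≤ zpowers z := by
    intro y hy
    rw [← hC, ← hcc, Subgroup.mem_centralizer_iff]
    intro w hw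
    rw [Set.mem_singleton_iff] at hw
    subst hw
    have := (Subgroup.mem_center_iff.mp c.2) ⟨y, hy⟩
    exact (congrArg Subtype.val this).symm
  have hP'card : Nat.card (P' : Subgroup G) = p := by
    rw [le_antisymm hP'le hle, Nat.card_zpowers, hz]
  rw [Sylow.card_eq_multiplicity] at hP'card ⊢
  exact hP'card

/-- Every element of order `p` has centralizer of order `p`. -/
theorem card_centralizer_of_orderOf {G : Type*} [Group G] [Finite G] (p : ℕ) [hp : Fact p.Prime]
    (z : G) (hz : orderOf z = p) (hC : centralizer ({z} : Set G) = zpowers z) (g : G)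
    (hg : orderOf g = p) : Nat.card (centralizer ({g} : Set G)) = p := by
  have hcard := card_sylow_of_self_centralizing p z hz hC
  obtain ⟨P, hP⟩ := exists_sylow_eq_zpowers hcard z hz
  obtain ⟨P', hP'⟩ := exists_sylow_eq_zpowers hcard g hg
  obtain ⟨h, hh⟩ := MulAction.exists_smul_eq G P P'
  have hg1 : g ≠ 1 := by
    intro h; rw [h, orderOf_one] at hg; exact hp.out.one_lt.ne hg
  have h1 : g ∈ ((h • P : Sylow p G) : Subgroup G) := by
    rw [hh, hP']; exact mem_zpowers g
  rw [mem_smul_sylow, hP] at h1
  have hw1 : h⁻¹ * g * h ≠ 1 := by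
    intro h2
    apply hg1
    have : g = h * (h⁻¹ * g * h) * h⁻¹ := by group
    rw [this, h2]; group
  have h2 := centralizer_eq_of_mem_zpowers z _ hz h1 hw1
  rw [← card_centralizer_conj g h, h2, hC, Nat.card_zpowers, hz]

/-- Let G be a finite perfect group containing an element z of prime order p whose centralizer is the cyclic group it generates. Let t be the number of conjugacy classes of elements of order p. Then t divides p - 1, the number of Sylow p-subgroups has the form 1 + n * p, and |G| * t = (p - 1) * p * (1 + n * p). -/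
theorem result {G : Type*} [Group G] [Finite G] (hperf : commutator G = ⊤) (p : ℕ) [Fact p.Prime] (z : G) (hz : orderOf z = p) (hC : Subgroup.centralizer ({z} : Set G) = Subgroup.zpowers z) : ∃ n t : ℕ, t = Nat.card {c : ConjClasses G // ∃ g : G, ConjClasses.mk g = c ∧ orderOf g = p} ∧ t ∣ p - 1 ∧ Nat.card (Sylow p G) = 1 + n * p ∧ Nat.card G * t = (p - 1) * p * (1 + n * p) := by
  classical
  have hp : p.Prime := Fact.out
  have hcard := card_sylow_of_self_centralizing p z hz hC
  have hcount := card_orderOf_eq_prime hcard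
  -- n
  have hmod := card_sylow_modEq_one p G
  have hnpos : 0 < Nat.card (Sylow p G) := Nat.card_pos
  obtain ⟨n, hn⟩ : ∃ n, Nat.card (Sylow p G) = 1 + n * p := by
    have h1 := (Nat.modEq_iff_dvd' hnpos).mp hmod.symm
    obtain ⟨k, hk⟩ := h1
    exact ⟨k, by rw [mul_comm]; omega⟩
  -- class sizes
  have hcl : ∀ g : G, orderOf g = p → Nat.card {y : G // IsConj g y} * p = Nat.card G := by
    intro g hg
    have := card_centralizer_mul_card_conj g
    rw [card_centralizer_of_orderOf p z hz hC g hg] at this
    rw [mul_comm]; exact this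
  have hpG : p ∣ Nat.card G := ⟨_, (hcl z hz).symm.trans (mul_comm _ _)⟩
  obtain ⟨s, hs⟩ := hpG
  have hcl' : ∀ g : G, orderOf g = p → Nat.card {y : G // IsConj g y} = s := by
    intro g hg
    have := hcl g hg
    rw [hs, mul_comm] at this
    exact Nat.eq_of_mul_eq_mul_left hp.pos this
  -- fibres of the class map
  let f : {g : G // orderOf g = p} →
      {c : ConjClasses G // ∃ g : G, ConjClasses.mk g = c ∧ orderOf g = p} :=
    fun g => ⟨ConjClasses.mk g.1, g.1, rfl, g.2⟩
  have hfib : ∀ c : {c : ConjClasses G // ∃ g : G, ConjClasses.mk g = c ∧ orderOf g = p},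
      Nat.card {g : {g : G // orderOf g = p} // f g = c} = s := by
    rintro ⟨c, g₀, rfl, hg₀⟩
    rw [← hcl' g₀ hg₀]
    apply Nat.card_congr
    refine
      { toFun := fun g => ⟨g.1.1, ?_⟩
        invFun := fun y => ⟨⟨y.1, ?_⟩, ?_⟩
        left_inv := fun g => rfl
        right_inv := fun y => rfl }
    · have := congrArg Subtype.val g.2
      exact (ConjClasses.mk_eq_mk_iff_isConj.mp this).symm
    · rw [orderOf_of_isConj y.2, hg₀]
    · apply Subtype.ext
      exact (ConjClasses.mk_eq_mk_iff_isConj.mpr y.2).symm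
  have hXT := card_eq_mul_of_fibers f s hfib
  rw [hcount] at hXT
  set t := Nat.card {c : ConjClasses G // ∃ g : G, ConjClasses.mk g = c ∧ orderOf g = p} with ht
  refine ⟨n, t, rfl, ?_, hn, ?_⟩
  · -- t ∣ p - 1
    obtain ⟨P, hP⟩ := exists_sylow_eq_zpowers hcard z hz
    have hNC := relIndex_centralizer_normalizer_dvd_pred (P : Subgroup G) (hcard P)
    have hCP : centralizer ((P : Subgroup G) : Set G) = zpowers z := by
      rw [hP, Subgroup.zpowers_eq_closure, Subgroup.centralizer_closure, hC,
        Subgroup.zpowers_eq_closure]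
    have hCN : centralizer ((P : Subgroup G) : Set G) ≤ normalizer ((P : Subgroup G) : Set G) :=
      Subgroup.centralizer_le_normalizer _
    have h1 := card_mul_relIndex_of_le hCN
    have hcardC : Nat.card (centralizer ((P : Subgroup G) : Set G)) = p := by
      rw [hCP, Nat.card_zpowers, hz]
    rw [hcardC] at h1
    have h2 := card_normalizer_mul_card_sylow P
    rw [← h1, hs] at h2
    set m := (centralizer ((P : Subgroup G) : Set G)).relIndex (normalizer ((P : Subgroup G) : Set G))
    -- p * m * n_p = p * s
    have h3 : m * Nat.card (Sylow p G) = s := by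
      apply Nat.eq_of_mul_eq_mul_left hp.pos
      rw [← h2]; ring
    rw [← h3] at hXT
    have h4 : p - 1 = m * t := by
      apply Nat.eq_of_mul_eq_mul_left hnpos
      rw [hXT]; ring
    exact ⟨m, by rw [h4, mul_comm]⟩
  · rw [← hn, hs]
    calc p * s * t = p * (s * t) := by ring
      _ = p * (Nat.card (Sylow p G) * (p - 1)) := by rw [hXT]
      _ = (p - 1) * p * Nat.card (Sylow p G) := by ring

end Cfsg.Agent.S0995
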