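import Cfsg.Statements.S3824
import Cfsg.Agent.Lib.Helper3_CharBurnside
import Cfsg.Agent.Lib.Helper1_Cores

set_option autoImplicit false
open Cfsg

namespace Cfsg.Agent.S3824

universe u

/-- The property: some abelian subgroup has `2`-power index. -/
def HasAb (G : Type u) [Group G] : Prop :=
  ∃ A : Subgroup G, (∀ a ∈ A, ∀ b ∈ A, a * b = b * a) ∧ ∃ k : ℕ, A.index = 2 ^ k

/-- For `N` normal, `|N : N ∩ A|` divides `|G : A|`. -/
theorem relIndex_dvd_index_of_normal_right {G : Type u} [Group G] [Finite G] (A N : Subgroup G)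
    [N.Normal] : A.relIndex N ∣ A.index := by
  have h1 : Nat.card (A ⊔ N : Subgroup G) = Nat.card N * N.relIndex A :=
    Cfsg.Agent.Lib.Helper1_Cores.card_sup_eq A N
  have h2 : Nat.card N = Nat.card (A ⊓ N : Subgroup G) * A.relIndex N := by
    rw [← Subgroup.inf_relIndex_right, ← Subgroup.relIndex_bot_left, ← Subgroup.relIndex_bot_left]
    exact (Subgroup.relIndex_mul_relIndex ⊥ (A ⊓ N) N bot_le inf_le_right).symm
  have h3 : Nat.card A = Nat.card (A ⊓ N : Subgroup G) * N.relIndex A := by
    rw [← Subgroup.inf_relIndex_left, ← Subgroup.relIndex_bot_left, ← Subgroup.relIndex_bot_left]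
    exact (Subgroup.relIndex_mul_relIndex ⊥ (A ⊓ N) A bot_le inf_le_left).symm
  have h4 : Nat.card (A ⊔ N : Subgroup G) = Nat.card A * A.relIndex N := by
    rw [h1, h2, h3]; ring
  have h5 : Nat.card (A ⊔ N : Subgroup G) * (A ⊔ N).index = Nat.card G := Subgroup.card_mul_index _
  have h6 : Nat.card A * A.index = Nat.card G := Subgroup.card_mul_index _
  have h7 : Nat.card A * (A.relIndex N * (A ⊔ N).index) = Nat.card A * A.index := by
    rw [h6, ← h5, h4]; ring
  have h8 : A.relIndex N * (A ⊔ N).index = A.index :=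
    Nat.eq_of_mul_eq_mul_left Nat.card_pos h7
  exact Dvd.intro _ h8

theorem hasAb_normal {G : Type u} [Group G] [Finite G] (h : HasAb G) (N : Subgroup G) [N.Normal] :
    HasAb N := by
  obtain ⟨A, hA, k, hk⟩ := h
  refine ⟨A.subgroupOf N, ?_, ?_⟩
  · intro a ha b hb
    apply Subtype.ext
    exact hA a ha b hb
  · have h1 : (A.subgroupOf N).index = A.relIndex N := rfl
    have h2 : A.relIndex N ∣ A.index := relIndex_dvd_index_of_normal_right A N
    rw [h1]
    rw [hk] at h2
    obtain ⟨j, _, hj⟩ := (Nat.dvd_prime_pow Nat.prime_two).mp h2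
    exact ⟨j, hj⟩

theorem hasAb_quotient {G : Type u} [Group G] [Finite G] (h : HasAb G) (N : Subgroup G) [N.Normal] :
    HasAb (G ⧸ N) := by
  obtain ⟨A, hA, k, hk⟩ := h
  refine ⟨A.map (QuotientGroup.mk' N), ?_, ?_⟩
  · rintro _ ⟨a, ha, rfl⟩ _ ⟨b, hb, rfl⟩
    rw [← map_mul, ← map_mul, hA a ha b hb]
  · have h2 : (A.map (QuotientGroup.mk' N)).index ∣ A.index :=
      Subgroup.index_map_dvd A (QuotientGroup.mk'_surjective N)
    rw [hk] at h2
    obtain ⟨j, _, hj⟩ := (Nat.dvd_prime_pow Nat.prime_two).mp h2
    exact ⟨j, hj⟩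

theorem solvable_aux : ∀ (n : ℕ) (G : Type u) [Group G] [Finite G], Nat.card G = n → HasAb G →
    Group.IsSolvable G := by
  intro n
  induction n using Nat.strong_induction_on with
  | _ n ih =>
  intro G _ _ hn hab
  classical
  by_cases hsimple : ∃ N : Subgroup G, N.Normal ∧ N ≠ ⊥ ∧ N ≠ ⊤
  · obtain ⟨N, hN, hNbot, hNtop⟩ := hsimple
    have hNlt : Nat.card N < n := by
      rw [← hn]
      apply lt_of_le_of_ne (Subgroup.card_le_card_group N)
      intro h
      exact hNtop (Subgroup.card_eq_iff_eq_top N |>.mp h)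
    have hQlt : Nat.card (G ⧸ N) < n := by
      rw [← hn, ← Subgroup.card_mul_index N, ← Subgroup.index_eq_card]
      have h1 : 1 < Nat.card N := by
        rw [Subgroup.one_lt_card_iff_ne_bot]; exact hNbot
      have h2 : 0 < N.index := Nat.pos_of_ne_zero Subgroup.index_ne_zero_of_finite
      nlinarith
    have s1 : Group.IsSolvable N := ih _ hNlt N rfl (hasAb_normal hab N)
    have s2 : Group.IsSolvable (G ⧸ N) := ih _ hQlt (G ⧸ N) rfl (hasAb_quotient hab N)
    refine Group.isSolvable_of_ker_le_range N.subtype (QuotientGroup.mk' N) ?_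
    rw [QuotientGroup.ker_mk', Subgroup.range_subtype]
  · push Not at hsimple
    by_cases htriv : Subsingleton G
    · exact inferInstance
    · rw [not_subsingleton_iff_nontrivial] at htriv
      have hS : IsSimpleGroup G := by
        refine { exists_pair_ne := htriv.exists_pair_ne, eq_bot_or_eq_top_of_normal := ?_ }
        intro N hN
        by_cases hb : N = ⊥
        · left; exact hb
        · right; exact hsimple N hN hb
      obtain ⟨A, hA, k, hk⟩ := hab
      by_cases hAbot : A = ⊥
      · -- `G` is a `2`-group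
        rw [hAbot, Subgroup.index_bot] at hk
        have : Fact (Nat.Prime 2) := ⟨Nat.prime_two⟩
        have h2 : IsPGroup 2 G := IsPGroup.of_card hk
        have := h2.isNilpotent
        exact inferInstance
      · obtain ⟨a0, ha0A, ha1'⟩ := (A.bot_or_exists_ne_one).resolve_left hAbot
        set a : A := ⟨a0, ha0A⟩ with hadef
        have hle : A ≤ Subgroup.centralizer ({(a : G)} : Set G) := by
          intro b hb
          rw [Subgroup.mem_centralizer_singleton_iff]
          first
            | exact hA b hb a a.2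
            | exact hA a a.2 b hb
        have hdvd : (Subgroup.centralizer ({(a : G)} : Set G)).index ∣ A.index :=
          Subgroup.index_dvd_of_le hle
        rw [hk] at hdvd
        obtain ⟨j, _, hj⟩ := (Nat.dvd_prime_pow Nat.prime_two).mp hdvd
        let _ : Fintype G := Fintype.ofFinite G
        have hprime := Cfsg.Agent.Lib.Helper3_CharBurnside.prime_card_of_simple_of_prime_power_class
          (G := G) 2 j Nat.prime_two (a : G) ha1' hj
        have : Fact (Nat.card G).Prime := ⟨hprime⟩
        have hc : IsCyclic G := isCyclic_of_prime_card rfl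
        exact Group.isSolvable_of_comm (fun x y => IsCyclic.commGroup.mul_comm x y)

/-- Every finite group having an abelian subgroup whose index is a power of 2 is solvable. -/
theorem result {G : Type*} [Group G] [Finite G]
    (A : Subgroup G) (hA : IsMulCommutative A) (hidx : ∃ k : ℕ, A.index = 2 ^ k) : Group.IsSolvable G := by
  refine solvable_aux _ G rfl ⟨A, ?_, hidx⟩
  intro a ha b hb
  have := hA.is_comm.comm ⟨a, ha⟩ ⟨b, hb⟩
  exact congrArg Subtype.val this

end Cfsg.Agent.S3824
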