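import Cfsg.Statements.S0006
import Cfsg.Agent.S3824
import Cfsg.Agent.Lib.Helper1_Hall

set_option autoImplicit false
open Cfsg

namespace Cfsg.Agent.S0006

universe u

/-- If `|A : A ∩ B| = |G : B|` then `G = A B`. -/
theorem exists_mul_of_relIndex_eq {G : Type*} [Group G] [Finite G] (A B : Subgroup G)
    (h : B.relIndex A = B.index) (g : G) : ∃ a ∈ A, ∃ b ∈ B, g = a * b := by
  have hstab : MulAction.stabilizer A ((1 : G) : G ⧸ B) = B.subgroupOf A := by
    ext a
    rw [MulAction.mem_stabilizer_iff, Subgroup.mem_subgroupOf]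
    show (((a : G) * 1 : G) : G ⧸ B) = ((1 : G) : G ⧸ B) ↔ _
    rw [QuotientGroup.eq]
    constructor
    · intro h1
      have : (a : G)⁻¹ ∈ B := by simpa using h1
      simpa using B.inv_mem this
    · intro h1
      simpa using B.inv_mem h1
  have hcard : (MulAction.orbit A ((1 : G) : G ⧸ B)).ncard = Nat.card (G ⧸ B) := by
    rw [← MulAction.index_stabilizer, hstab, ← Subgroup.index_eq_card, ← h]
    rfl
  have huniv : MulAction.orbit A ((1 : G) : G ⧸ B) = Set.univ := by
    apply Set.eq_of_subset_of_ncard_le (Set.subset_univ _) _ Set.finite_univ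
    rw [Set.ncard_univ, hcard]
  have hg : ((g : G) : G ⧸ B) ∈ MulAction.orbit A ((1 : G) : G ⧸ B) := by
    rw [huniv]; trivial
  obtain ⟨a, ha⟩ := hg
  have ha' : (((a : G) * 1 : G) : G ⧸ B) = ((g : G) : G ⧸ B) := ha
  rw [QuotientGroup.eq] at ha'
  refine ⟨a, a.2, ((a : G) * 1)⁻¹ * g, ha', ?_⟩
  group

/-- Arithmetic: the `p`-adic valuation of `c * p ^ b` with `c` prime to `p`. -/
theorem factorization_of_eq {p : ℕ} (hp : p.Prime) (c b n : ℕ) (h : c * p ^ b = n)
    (hc : c.Coprime p) : n.factorization p = b := by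
  have hc0 : c ≠ 0 := by
    rintro rfl
    rw [Nat.coprime_zero_left] at hc
    exact hp.one_lt.ne' hc
  rw [← h, Nat.factorization_mul hc0 (pow_ne_zero _ hp.ne_zero), Finsupp.add_apply,
    Nat.factorization_eq_zero_of_not_dvd, zero_add, Nat.factorization_pow, Finsupp.smul_apply,
    hp.factorization_self, smul_eq_mul, mul_one]
  intro hd
  exact hp.one_lt.ne' (Nat.eq_one_of_dvd_coprimes hc hd dvd_rfl)

/-- Arithmetic: the `q`-adic valuation is unchanged by a factor `p ^ b`, `p ≠ q`. -/
theorem factorization_of_eq' {p q : ℕ} (hp : p.Prime) (hq : q.Prime) (hpq : p ≠ q) (c b n : ℕ)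
    (h : c * p ^ b = n) (hn : n ≠ 0) : n.factorization q = c.factorization q := by
  have hc0 : c ≠ 0 := by
    rintro rfl
    rw [zero_mul] at h
    exact hn h.symm
  rw [← h, Nat.factorization_mul hc0 (pow_ne_zero _ hp.ne_zero), Finsupp.add_apply,
    Nat.factorization_pow, Finsupp.smul_apply, smul_eq_mul]
  have : p.factorization q = 0 := by
    apply Nat.factorization_eq_zero_of_not_dvd
    intro hd
    exact hpq ((Nat.prime_dvd_prime_iff_eq hq hp).mp hd).symm
  rw [this, mul_zero, add_zero]

/-- A subgroup of index the full `p`-part has order prime to `p`. -/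
theorem card_coprime_of_index {G : Type*} [Group G] [Finite G] {p : ℕ} (hp : p.Prime)
    (H : Subgroup G) (hH : H.index = p ^ (Nat.card G).factorization p) : (Nat.card H).Coprime p := by
  have h1 : Nat.card H * H.index = Nat.card G := Subgroup.card_mul_index H
  have hpos : Nat.card G ≠ 0 := Nat.card_pos.ne'
  have h2 : Nat.card H = Nat.card G / p ^ (Nat.card G).factorization p := by
    rw [hH] at h1
    exact (Nat.div_eq_of_eq_mul_left (pow_pos hp.pos _) h1.symm).symm
  rw [h2]
  exact (Nat.coprime_ordCompl hp hpos).symm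

/-- The hypothesis of the theorem. -/
def HasComplements (G : Type u) [Group G] : Prop :=
  ∀ p : ℕ, p.Prime → ∃ H : Subgroup G, H.index = p ^ (Nat.card G).factorization p

theorem hasComplements_quotient {G : Type u} [Group G] [Finite G] (h : HasComplements G)
    (N : Subgroup G) [N.Normal] : HasComplements (G ⧸ N) := by
  intro p hp
  obtain ⟨H, hH⟩ := h p hp
  refine ⟨H.map (QuotientGroup.mk' N), ?_⟩
  have h1 : (H.map (QuotientGroup.mk' N)).index ∣ H.index :=
    Subgroup.index_map_dvd H (QuotientGroup.mk'_surjective N)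
  rw [hH] at h1
  obtain ⟨b, _, hb⟩ := (Nat.dvd_prime_pow hp).mp h1
  have h2 : (Nat.card (H.map (QuotientGroup.mk' N))).Coprime p :=
    Nat.Coprime.coprime_dvd_left (Subgroup.card_map_dvd H _) (card_coprime_of_index hp H hH)
  have h3 : Nat.card (H.map (QuotientGroup.mk' N)) * (H.map (QuotientGroup.mk' N)).index =
      Nat.card (G ⧸ N) := Subgroup.card_mul_index _
  rw [hb] at h3
  rw [hb, factorization_of_eq hp _ b _ h3 h2]

/-- Relative index of a `q`-complement in a `p`-complement. -/
theorem relIndex_complement {G : Type u} [Group G] [Finite G] {p q : ℕ} (hp : p.Prime)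
    (hq : q.Prime) (hpq : p ≠ q) (Hp Hq : Subgroup G)
    (hHp : Hp.index = p ^ (Nat.card G).factorization p)
    (hHq : Hq.index = q ^ (Nat.card G).factorization q) :
    Hq.relIndex Hp = q ^ (Nat.card G).factorization q := by
  have h1 : (Hp ⊓ Hq).relIndex Hp * Hp.index = (Hp ⊓ Hq).index :=
    Subgroup.relIndex_mul_index inf_le_left
  have h2 : (Hp ⊓ Hq).relIndex Hq * Hq.index = (Hp ⊓ Hq).index :=
    Subgroup.relIndex_mul_index inf_le_right
  rw [Subgroup.inf_relIndex_left] at h1
  rw [Subgroup.inf_relIndex_right] at h2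
  have h3 : Hq.relIndex Hp * Hp.index = Hp.relIndex Hq * Hq.index := h1.trans h2.symm
  have hcop : (q ^ (Nat.card G).factorization q).Coprime (p ^ (Nat.card G).factorization p) :=
    Nat.Coprime.pow _ _ ((Nat.coprime_primes hq hp).mpr hpq.symm)
  have hdvd : q ^ (Nat.card G).factorization q ∣ Hq.relIndex Hp := by
    have : q ^ (Nat.card G).factorization q ∣ Hq.relIndex Hp * p ^ (Nat.card G).factorization p := by
      rw [← hHp, h3, hHq]
      exact Dvd.intro_left _ rfl
    exact hcop.dvd_of_dvd_mul_right this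
  have hle : Hq.relIndex Hp ≤ q ^ (Nat.card G).factorization q := by
    rw [← hHq, ← Subgroup.relIndex_top_right]
    apply Subgroup.relIndex_le_of_le_right le_top
    rw [Subgroup.relIndex_top_right]
    exact Subgroup.index_ne_zero_of_finite
  have hpos : 0 < Hq.relIndex Hp := by
    rw [Nat.pos_iff_ne_zero]
    intro h0
    have : (Hq.subgroupOf Hp).index = 0 := h0
    exact Subgroup.index_ne_zero_of_finite this
  exact le_antisymm hle (Nat.le_of_dvd hpos hdvd)

theorem hasComplements_complement {G : Type u} [Group G] [Finite G] (h : HasComplements G)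
    {p : ℕ} (hp : p.Prime) (Hp : Subgroup G)
    (hHp : Hp.index = p ^ (Nat.card G).factorization p) : HasComplements Hp := by
  intro q hq
  have hcard : Nat.card Hp * p ^ (Nat.card G).factorization p = Nat.card G := by
    rw [← hHp]; exact Subgroup.card_mul_index Hp
  by_cases hpq : p = q
  · subst hpq
    refine ⟨⊤, ?_⟩
    rw [Subgroup.index_top]
    have h1 : (Nat.card Hp).factorization p = 0 := by
      apply Nat.factorization_eq_zero_of_not_dvd
      intro hd
      have hc := card_coprime_of_index hp Hp hHp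
      exact hp.one_lt.ne' (Nat.eq_one_of_dvd_coprimes hc hd dvd_rfl)
    rw [h1, pow_zero]
  · obtain ⟨Hq, hHq⟩ := h q hq
    refine ⟨Hq.subgroupOf Hp, ?_⟩
    have h1 : (Hq.subgroupOf Hp).index = Hq.relIndex Hp := rfl
    rw [h1, relIndex_complement hp hq hpq Hp Hq hHp hHq]
    congr 1
    exact factorization_of_eq' hp hq hpq _ _ _ hcard Nat.card_pos.ne'

theorem solvable_aux : ∀ (n : ℕ) (G : Type u) [Group G] [Finite G], Nat.card G = n →
    HasComplements G → Group.IsSolvable G := by
  intro n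
  induction n using Nat.strong_induction_on with
  | _ n ih =>
  intro G _ _ hn hG
  by_cases htwo : ∃ p q : ℕ, p.Prime ∧ q.Prime ∧ ∀ r : ℕ, r.Prime → r ∣ Nat.card G → r = p ∨ r = q
  · obtain ⟨p, q, hp, hq, hpq⟩ := htwo
    exact Cfsg.Agent.Lib.Helper3_CharBurnside.isSolvable_of_two_primes p q hp hq _ G rfl hpq
  · push Not at htwo
    -- a first prime
    obtain ⟨p₁, hp₁, hp₁dvd, -, -⟩ := htwo 2 2 Nat.prime_two Nat.prime_two
    obtain ⟨H₁, hH₁⟩ := hG p₁ hp₁
    have hGpos : Nat.card G ≠ 0 := Nat.card_pos.ne'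
    have ha₁ : 0 < (Nat.card G).factorization p₁ :=
      hp₁.factorization_pos_of_dvd hGpos hp₁dvd
    have hcard₁ : Nat.card H₁ * p₁ ^ (Nat.card G).factorization p₁ = Nat.card G := by
      rw [← hH₁]; exact Subgroup.card_mul_index H₁
    -- complements are proper, hence solvable
    have hproper : ∀ (p : ℕ) (hp : p.Prime) (hpd : p ∣ Nat.card G) (H : Subgroup G),
        H.index = p ^ (Nat.card G).factorization p → Group.IsSolvable H := by
      intro p hp hpd H hH
      have ha : 0 < (Nat.card G).factorization p := hp.factorization_pos_of_dvd hGpos hpd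
      have hlt : Nat.card H < n := by
        rw [← hn, ← Subgroup.card_mul_index H, hH]
        have h1 : 1 < p ^ (Nat.card G).factorization p := Nat.one_lt_pow ha.ne' hp.one_lt
        have h2 : 0 < Nat.card H := Nat.card_pos
        nlinarith
      exact ih _ hlt H rfl (hasComplements_complement hG hp H hH)
    have hsolv₁ : Group.IsSolvable H₁ := hproper p₁ hp₁ hp₁dvd H₁ hH₁
    -- a second prime, dividing `|H₁|`
    obtain ⟨p₂, hp₂, hp₂dvd, hp₂ne, -⟩ := htwo p₁ p₁ hp₁ hp₁
    have hp₂H : p₂ ∣ Nat.card H₁ := by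
      have : p₂ ∣ Nat.card H₁ * p₁ ^ (Nat.card G).factorization p₁ := by rw [hcard₁]; exact hp₂dvd
      rcases (Nat.Prime.dvd_mul hp₂).mp this with h | h
      · exact h
      · exact absurd ((Nat.prime_dvd_prime_iff_eq hp₂ hp₁).mp (hp₂.dvd_of_dvd_pow h)) hp₂ne
    have hnt : Nontrivial H₁ := by
      rw [← Finite.one_lt_card_iff_nontrivial]
      exact lt_of_lt_of_le hp₂.one_lt (Nat.le_of_dvd Nat.card_pos hp₂H)
    obtain ⟨M, r, hMn, hMbot, -, hr, hMr⟩ :=
      Cfsg.Agent.Lib.Helper1_Hall.exists_normal_abelian_pSubgroup (Q := H₁) hsolv₁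
    -- a third prime
    obtain ⟨p₃, hp₃, hp₃dvd, hp₃ne₁, hp₃ner⟩ := htwo p₁ r hp₁ hr
    obtain ⟨H₃, hH₃⟩ := hG p₃ hp₃
    have hsolv₃ : Group.IsSolvable H₃ := hproper p₃ hp₃ hp₃dvd H₃ hH₃
    have hrel : H₃.relIndex H₁ = p₃ ^ (Nat.card G).factorization p₃ :=
      relIndex_complement hp₁ hp₃ (Ne.symm hp₃ne₁) H₁ H₃ hH₁ hH₃
    -- `M ≤ H₃`
    have hMle : M ≤ H₃.subgroupOf H₁ := by
      rw [← Subgroup.relIndex_eq_one]
      have h1 : (H₃.subgroupOf H₁).relIndex M ∣ (H₃.subgroupOf H₁).index :=
        Cfsg.Agent.S3824.relIndex_dvd_index_of_normal_right _ M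
      have h2 : (H₃.subgroupOf H₁).index = p₃ ^ (Nat.card G).factorization p₃ := hrel
      rw [h2] at h1
      have h3 : (H₃.subgroupOf H₁).relIndex M ∣ Nat.card M := Subgroup.relIndex_dvd_card _ _
      have : Fact r.Prime := ⟨hr⟩
      obtain ⟨k, hk⟩ := IsPGroup.iff_card.mp hMr
      rw [hk] at h3
      have hcop : (p₃ ^ (Nat.card G).factorization p₃).Coprime (r ^ k) :=
        Nat.Coprime.pow _ _ ((Nat.coprime_primes hp₃ hr).mpr hp₃ner)
      exact Nat.eq_one_of_dvd_coprimes hcop h1 h3
    -- `G = H₃ H₁`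
    have hfac : ∀ g : G, ∃ a ∈ H₃, ∃ b ∈ H₁, g = a * b := by
      intro g
      have hrel' : H₃.relIndex H₁ = H₃.index := by rw [hrel, hH₃]
      obtain ⟨b, hb, a, ha, hg⟩ := exists_mul_of_relIndex_eq H₁ H₃ hrel' g⁻¹
      refine ⟨a⁻¹, H₃.inv_mem ha, b⁻¹, H₁.inv_mem hb, ?_⟩
      rw [← mul_inv_rev, ← hg, inv_inv]
    -- the normal core of `H₃` contains `M`
    have hMcore : M.map H₁.subtype ≤ H₃.normalCore := by
      rintro _ ⟨x, hx, rfl⟩
      show ∀ g : G, g * H₁.subtype x * g⁻¹ ∈ H₃
      intro g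
      obtain ⟨a, ha, b, hb, rfl⟩ := hfac g
      have h1 : (⟨b, hb⟩ : H₁) * x * (⟨b, hb⟩ : H₁)⁻¹ ∈ M := hMn.conj_mem x hx ⟨b, hb⟩
      have h2 := hMle h1
      rw [Subgroup.mem_subgroupOf] at h2
      have h3 : b * (x : G) * b⁻¹ ∈ H₃ := by simpa using h2
      have : a * b * H₁.subtype x * (a * b)⁻¹ = a * (b * (x : G) * b⁻¹) * a⁻¹ := by
        simp only [Subgroup.subtype_apply]; group
      rw [this]
      exact H₃.mul_mem (H₃.mul_mem ha h3) (H₃.inv_mem ha)
    set K := H₃.normalCore with hK
    have hKn : K.Normal := Subgroup.normalCore_normal H₃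
    have hKbot : K ≠ ⊥ := by
      intro h0
      apply hMbot
      rw [h0, le_bot_iff] at hMcore
      exact (Subgroup.map_eq_bot_iff_of_injective M H₁.subtype_injective).mp hMcore
    have hKsolv : Group.IsSolvable K :=
      Group.isSolvable_of_isSolvable_injective (Subgroup.inclusion_injective (Subgroup.normalCore_le H₃))
    have hQlt : Nat.card (G ⧸ K) < n := by
      rw [← hn, ← Subgroup.card_mul_index K, ← Subgroup.index_eq_card]
      have h1 : 1 < Nat.card K := by
        rw [Subgroup.one_lt_card_iff_ne_bot]; exact hKbot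
      have h2 : 0 < K.index := Nat.pos_of_ne_zero Subgroup.index_ne_zero_of_finite
      nlinarith
    have hQsolv : Group.IsSolvable (G ⧸ K) := ih _ hQlt (G ⧸ K) rfl (hasComplements_quotient hG K)
    refine Group.isSolvable_of_ker_le_range K.subtype (QuotientGroup.mk' K) ?_
    rw [QuotientGroup.ker_mk', Subgroup.range_subtype]

/-- Converse of Hall's Theorem: if for every prime p a finite group has a subgroup of index equal to the p-part of the group order (a Hall p-complement), then the group is solvable. -/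
theorem result {G : Type*} [Group G] [Finite G]
    (h : ∀ p : ℕ, p.Prime → ∃ H : Subgroup G, H.index = p ^ (Nat.card G).factorization p) :
    Group.IsSolvable G :=
  solvable_aux _ G rfl h

end Cfsg.Agent.S0006
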