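import Mathlib
import Cfsg.Statements.S4014
-- import your own Cfsg.Agent.* helpers here

set_option autoImplicit false
open Cfsg

namespace Cfsg.Agent.S4014

universe u v

/-- The derived series of `P` from the first term on is the derived series of `P'`. -/
theorem derivedSeries_succ_eq_map {P : Type*} [Group P] (k : ℕ) :
    derivedSeries P (k + 1) = (derivedSeries (commutator P) k).map (commutator P).subtype := by
  induction k with
  | zero =>
    rw [derivedSeries_zero, ← MonoidHom.range_eq_map, Subgroup.range_subtype]
    rfl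
  | succ k ih =>
    rw [derivedSeries_succ, ih, derivedSeries_succ, Subgroup.map_commutator]

/-- In a `p`-group, a proper subgroup lies in a normal subgroup of index `p`. -/
theorem exists_normal_index_prime {P : Type*} [Group P] [Finite P] {p : ℕ} [hp : Fact p.Prime]
    (hP : IsPGroup p P) (S : Subgroup P) (hS : S ≠ ⊤) :
    ∃ M : Subgroup P, S ≤ M ∧ M.Normal ∧ M.index = p := by
  obtain ⟨m, hm⟩ := IsPGroup.iff_card.1 hP
  obtain ⟨s, hs⟩ := IsPGroup.iff_card.1 (hP.to_subgroup S)
  have hsm : s < m := by
    have h1 : Nat.card S < Nat.card P := by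
      by_contra h
      push Not at h
      apply hS
      exact Subgroup.eq_top_of_card_eq S (le_antisymm (Subgroup.card_le_card_group S) h)
    rw [hs, hm] at h1
    exact (Nat.pow_lt_pow_iff_right hp.out.one_lt).1 h1
  obtain ⟨M, hMcard, hSM⟩ := Sylow.exists_subgroup_card_pow_prime_le p
    (show p ^ (m - 1) ∣ Nat.card P by rw [hm]; exact pow_dvd_pow p (Nat.sub_le m 1)) S hs
    (by omega)
  have hidx : M.index = p := by
    have h1 := Subgroup.card_mul_index M
    rw [hMcard, hm] at h1
    have h2 : p ^ m = p ^ (m - 1) * p := by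
      rw [← pow_succ]; congr 1; omega
    rw [h2] at h1
    exact Nat.eq_of_mul_eq_mul_left (pow_pos hp.out.pos _) h1
  refine ⟨M, hSM, ?_, hidx⟩
  apply Subgroup.normal_of_index_eq_minFac_card
  rw [hidx, hm, Nat.Prime.pow_minFac hp.out (by omega)]

/-- A normal subgroup of prime index contains the commutator subgroup. -/
theorem commutator_le_of_index_prime {P : Type*} [Group P] {p : ℕ} [hp : Fact p.Prime]
    (M : Subgroup P) [M.Normal] (hM : M.index = p) : commutator P ≤ M := by
  have hcard : Nat.card (P ⧸ M) = p := by rw [← Subgroup.index_eq_card, hM]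
  have hcyc : IsCyclic (P ⧸ M) := isCyclic_of_prime_card hcard
  rw [commutator_def, Subgroup.commutator_le]
  intro a _ b _
  rw [← QuotientGroup.eq_one_iff, commutatorElement_def]
  have hcomm := (IsCyclic.isMulCommutative (α := P ⧸ M)).is_comm.comm
    (QuotientGroup.mk' M a) (QuotientGroup.mk' M b)
  change QuotientGroup.mk' M (a * b * a⁻¹ * b⁻¹) = 1
  rw [map_mul, map_mul, map_mul, map_inv, map_inv, hcomm]
  group

/-- **Upper bound.** If all orbits of the `p`-group `P` on `α` have size at most `p ^ k`, then the
`k`-th derived subgroup of `P` acts trivially. -/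
theorem derivedSeries_smul_eq (p : ℕ) [hp : Fact p.Prime] : ∀ k : ℕ, ∀ (P : Type u) [Group P]
    [Finite P], IsPGroup p P → ∀ (α : Type v) [MulAction P α],
    (∀ a : α, (MulAction.orbit P a).ncard ≤ p ^ k) →
    ∀ g ∈ derivedSeries P k, ∀ a : α, g • a = a := by
  intro k
  induction k with
  | zero =>
    intro P _ _ _ α _ horb g _ a
    have h1 : (MulAction.orbit P a).ncard ≤ 1 := by simpa using horb a
    have hfin : (MulAction.orbit P a).Finite := Set.finite_range _
    have h2 := (Set.ncard_le_one hfin).1 h1 (g • a) (MulAction.mem_orbit a g) a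
      (MulAction.mem_orbit_self a)
    exact h2
  | succ k ih =>
    intro P _ _ hP α _ horb g hg a
    rw [derivedSeries_succ_eq_map] at hg
    obtain ⟨g', hg', rfl⟩ := hg
    have horb' : ∀ b : α, (MulAction.orbit (commutator P) b).ncard ≤ p ^ k := by
      intro b
      set S := MulAction.stabilizer P b with hS
      by_cases hST : S = ⊤
      · have h1 : MulAction.orbit (commutator P) b ⊆ {b} := by
          rintro _ ⟨x, rfl⟩
          have : (x : P) ∈ S := by rw [hST]; exact Subgroup.mem_top _
          exact MulAction.mem_stabilizer_iff.1 this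
        calc (MulAction.orbit (commutator P) b).ncard ≤ ({b} : Set α).ncard :=
              Set.ncard_le_ncard h1 (Set.finite_singleton b)
          _ = 1 := Set.ncard_singleton b
          _ ≤ p ^ k := Nat.one_le_pow _ _ hp.out.pos
      · obtain ⟨M, hSM, hMN, hMidx⟩ := exists_normal_index_prime hP S hST
        have hcomm : commutator P ≤ M := commutator_le_of_index_prime M hMidx
        have h1 : MulAction.orbit (commutator P) b ⊆ MulAction.orbit M b := by
          rintro _ ⟨x, rfl⟩
          exact ⟨⟨(x : P), hcomm x.2⟩, rfl⟩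
        have hfin : (MulAction.orbit M b).Finite := Set.finite_range _
        have h2 : (MulAction.orbit M b).ncard = S.relIndex M := by
          rw [← MulAction.index_stabilizer]
          have key : S.subgroupOf M = MulAction.stabilizer M b := by
            ext; rfl
          rw [Subgroup.relIndex, key]
        have h3 : S.relIndex M * M.index = S.index := Subgroup.relIndex_mul_index hSM
        have h4 : S.index = (MulAction.orbit P b).ncard := MulAction.index_stabilizer P b
        have h5 : S.relIndex M * p ≤ p ^ k * p := by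
          rw [← hMidx, h3, h4, hMidx, ← pow_succ]
          exact horb b
        calc (MulAction.orbit (commutator P) b).ncard ≤ (MulAction.orbit M b).ncard :=
              Set.ncard_le_ncard h1 hfin
          _ = S.relIndex M := h2
          _ ≤ p ^ k := Nat.le_of_mul_le_mul_right h5 hp.out.pos
    exact ih (commutator P) (hP.to_subgroup _) α horb' g' hg' a

/-- The upper bound for `p`-subgroups of `Perm (Fin n)`. -/
theorem derivedSeries_log_eq_bot (p : ℕ) [hp : Fact p.Prime] (n : ℕ)
    (P : Subgroup (Equiv.Perm (Fin n))) (hP : IsPGroup p P) :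
    derivedSeries P (Nat.log p n) = ⊥ := by
  rw [eq_bot_iff]
  intro g hg
  rw [Subgroup.mem_bot]
  have horb : ∀ a : Fin n, (MulAction.orbit P a).ncard ≤ p ^ Nat.log p n := by
    intro a
    have h1 : (MulAction.orbit P a).ncard ∣ Nat.card P := by
      rw [← MulAction.index_stabilizer]
      exact Subgroup.index_dvd_card _
    obtain ⟨m, hm⟩ := IsPGroup.iff_card.1 hP
    rw [hm] at h1
    obtain ⟨j, -, hj⟩ := (Nat.dvd_prime_pow hp.out).1 h1
    have h2 : (MulAction.orbit P a).ncard ≤ n := by
      calc (MulAction.orbit P a).ncard ≤ (Set.univ : Set (Fin n)).ncard :=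
            Set.ncard_le_ncard (Set.subset_univ _) Set.finite_univ
        _ = n := by rw [Set.ncard_univ, Nat.card_fin]
    rw [hj] at h2 ⊢
    exact Nat.pow_le_pow_right hp.out.pos (Nat.le_log_of_pow_le hp.out.one_lt h2)
  have h := derivedSeries_smul_eq p (Nat.log p n) P hP (Fin n) horb g hg
  apply Subtype.ext
  apply Equiv.ext
  intro a
  exact h a

section Wreath

open RegularWreathProduct
open scoped commutatorElement

/-- The derived length goes up by one in a regular wreath product with a nontrivial abelian
group. -/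
theorem derivedSeries_wreath_ne_bot {D Q : Type*} [Group D] [CommGroup Q] [Nontrivial Q] (j : ℕ)
    (h : derivedSeries D j ≠ ⊥) : derivedSeries (D ≀ᵣ Q) (j + 1) ≠ ⊥ := by
  classical
  set W' := commutator (D ≀ᵣ Q) with hW'
  have hker : W' ≤ (rightHom : D ≀ᵣ Q →* Q).ker := Abelianization.commutator_subset_ker _
  have hright : ∀ w : W', (w : D ≀ᵣ Q).right = 1 := fun w => hker w.2
  let φ : W' →* D :=
    { toFun := fun w => (w : D ≀ᵣ Q).left 1
      map_one' := rfl
      map_mul' := by
        intro a b
        change ((a : D ≀ᵣ Q) * (b : D ≀ᵣ Q)).left 1 = _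
        rw [mul_left, Pi.mul_apply, hright a]
        simp }
  have hφ : Function.Surjective φ := by
    intro d
    obtain ⟨q, hq⟩ := exists_ne (1 : Q)
    let b : D ≀ᵣ Q := ⟨Pi.mulSingle 1 d, 1⟩
    let c : D ≀ᵣ Q := inl q
    have hmem : ⁅b, c⁆ ∈ W' := by
      rw [hW', commutator_def]
      exact Subgroup.commutator_mem_commutator (Subgroup.mem_top _) (Subgroup.mem_top _)
    refine ⟨⟨⁅b, c⁆, hmem⟩, ?_⟩
    change (⁅b, c⁆ : D ≀ᵣ Q).left 1 = d
    rw [commutatorElement_def]
    simp only [mul_left, mul_right, inv_left, inv_right, Pi.mul_apply, b, c, left_inl, right_inl,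
      Pi.one_apply, Pi.inv_apply, inv_one, one_mul, mul_one, Pi.mulSingle_eq_same]
    have hq' : q⁻¹ ≠ 1 := by simpa using hq
    simp [hq']
  have h1 : (derivedSeries W' j).map φ = derivedSeries D j := map_derivedSeries_eq hφ j
  have h2 : derivedSeries W' j ≠ ⊥ := by
    intro h0
    rw [h0, Subgroup.map_bot] at h1
    exact h h1.symm
  rw [derivedSeries_succ_eq_map]
  intro h0
  apply h2
  rw [← Subgroup.map_eq_bot_iff_of_injective _ (Subgroup.subtype_injective W')]
  exact h0

end Wreath

section Iterated

/-- The iterated wreath product of `k + 1` copies of a nontrivial abelian group has derived length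
at least `k + 1`. -/
theorem derivedSeries_iterated_ne_bot (C : Type u) [CommGroup C] [Nontrivial C] :
    ∀ k : ℕ, derivedSeries (IteratedWreathProduct C (k + 1)) k ≠ ⊥ := by
  intro k
  induction k with
  | zero =>
    rw [derivedSeries_zero]
    obtain ⟨q, hq⟩ := exists_ne (1 : C)
    have hnt : Nontrivial (IteratedWreathProduct C 1) := by
      refine ⟨⟨(RegularWreathProduct.inl q : IteratedWreathProduct C 0 ≀ᵣ C), 1, ?_⟩⟩
      intro h
      apply hq
      have := congrArg RegularWreathProduct.right h
      exact this
    exact top_ne_bot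
  | succ k ih =>
    exact derivedSeries_wreath_ne_bot (D := IteratedWreathProduct C (k + 1)) (Q := C) k ih

end Iterated

/-- Let p be a prime, n ≥ 1, and P a Sylow p-subgroup of the symmetric group on n letters. Then the derived length of P is exactly k = ⌊log_p n⌋ (the largest k with p^k ≤ n): the k-th derived subgroup of P is trivial and, when k ≥ 1, the (k−1)-st is not. -/
theorem result (p : ℕ) [Fact p.Prime] (n : ℕ) (hn : 1 ≤ n) (P : Sylow p (Equiv.Perm (Fin n))) : derivedSeries ↥(P : Subgroup (Equiv.Perm (Fin n))) (Nat.log p n) = ⊥ ∧ (1 ≤ Nat.log p n → derivedSeries ↥(P : Subgroup (Equiv.Perm (Fin n))) (Nat.log p n - 1) ≠ ⊥) := by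
  classical
  have hp : p.Prime := Fact.out
  refine ⟨derivedSeries_log_eq_bot p n P P.isPGroup', fun hk => ?_⟩
  obtain ⟨k, hk'⟩ : ∃ k, Nat.log p n = k + 1 := ⟨Nat.log p n - 1, by omega⟩
  rw [hk', Nat.add_sub_cancel]
  have hpk : p ^ (k + 1) ≤ n := by
    rw [← hk']; exact Nat.pow_log_le_self p (by omega)
  have hne : NeZero p := ⟨hp.ne_zero⟩
  -- the cyclic group of order `p`
  let C := Multiplicative (ZMod p)
  have hCcard : Nat.card C = p := by
    change Nat.card (Multiplicative (ZMod p)) = p
    rw [Nat.card_eq_fintype_card, Fintype.card_multiplicative, ZMod.card]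
  have hCnt : Nontrivial C := by
    have : 1 < Nat.card C := by rw [hCcard]; exact hp.one_lt
    exact (Finite.one_lt_card_iff_nontrivial).1 this
  -- the embedding into `Perm (Fin n)`
  have hcardfun : Nat.card (Fin (k + 1) → C) = p ^ (k + 1) := by
    rw [Nat.card_fun, Nat.card_fin, hCcard]
  have : Fintype (Fin (k + 1) → C) := Fintype.ofFinite _
  obtain ⟨ι⟩ : Nonempty ((Fin (k + 1) → C) ↪ Fin n) := by
    apply Function.Embedding.nonempty_of_card_le
    rw [← Nat.card_eq_fintype_card, hcardfun, Fintype.card_fin]
    exact hpk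
  let e : (Fin (k + 1) → C) ≃ {x : Fin n // x ∈ Set.range ι} := Equiv.ofInjective ι ι.injective
  let F : IteratedWreathProduct C (k + 1) →* Equiv.Perm (Fin n) :=
    (Equiv.Perm.extendDomainHom e).comp (iteratedWreathToPermHom C (k + 1))
  have hF : Function.Injective F :=
    (Equiv.Perm.extendDomainHom_injective e).comp (iteratedWreathToPermHomInj C (k + 1))
  -- the image is a `p`-group, contained in a Sylow subgroup
  have hIW : IsPGroup p (IteratedWreathProduct C (k + 1)) := by
    apply IsPGroup.of_card (n := ∑ i ∈ Finset.range (k + 1), p ^ i)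
    rw [IteratedWreathProduct.card, hCcard]
  have hrange : IsPGroup p F.range := by
    rw [MonoidHom.range_eq_map]
    exact (hIW.to_subgroup ⊤).map F
  obtain ⟨Q, hQ⟩ := hrange.exists_le_sylow
  let F' : IteratedWreathProduct C (k + 1) →* (Q : Subgroup (Equiv.Perm (Fin n))) :=
    F.codRestrict (Q : Subgroup (Equiv.Perm (Fin n))) (fun x => hQ ⟨x, rfl⟩)
  have hF' : Function.Injective F' := by
    intro x y hxy
    apply hF
    exact congrArg Subtype.val hxy
  have hQne : derivedSeries (Q : Subgroup (Equiv.Perm (Fin n))) k ≠ ⊥ := by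
    intro h0
    have h1 := map_derivedSeries_le_derivedSeries F' k
    rw [h0, le_bot_iff, Subgroup.map_eq_bot_iff_of_injective _ hF'] at h1
    exact derivedSeries_iterated_ne_bot C k h1
  -- transport to `P`
  let ε : (Q : Subgroup (Equiv.Perm (Fin n))) ≃* (P : Subgroup (Equiv.Perm (Fin n))) := Q.equiv P
  intro h0
  have h1 := map_derivedSeries_eq (f := ε.toMonoidHom) ε.surjective k
  rw [h0, Subgroup.map_eq_bot_iff_of_injective _ ε.injective] at h1
  exact hQne h1

end Cfsg.Agent.S4014
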