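import Cfsg.Statements.S0965
import Cfsg.Agent.Lib.Helper16_Cover
import Mathlib

set_option autoImplicit false
open Cfsg

namespace Cfsg.Agent.S0965

open Cfsg.Agent.Lib.Helper16_Cover Cfsg.Agent.Lib.Helper16_Orbit Cfsg.Agent.Lib.Helper16_Clifford
  Cfsg.Agent.Lib.Helper78_LocalRing Cfsg.Agent.Lib.Helper78_Osima
  Cfsg.Agent.Lib.Helper78_CentralChar

/-- Let N be a normal subgroup of the finite group G and let B, b be blocks of G and of N relative to a maximal ideal M of the algebraic integers containing the prime p. Then some χ ∈ B has a constituent in b on restriction to N if and only if, for all χ ∈ B, θ ∈ b and n ∈ N, the central character of χ at n is congruent modulo the local ideal at M to the sum of θ m / θ 1 over the elements m ∈ N conjugate in G to n. -/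
theorem result {G : Type*} [Group G] [Fintype G] (p : ℕ) [Fact p.Prime] (M : Ideal Cfsg.AlgInt) (hM : Cfsg.IsPModular p M) (N : Subgroup G) [N.Normal] [Fintype N] (B : Set (Cfsg.IrrCharacter G)) (hB : Cfsg.IsPBlock M B) (b : Set (Cfsg.IrrCharacter N)) (hb : Cfsg.IsPBlock M b) : (∃ χ ∈ B, ∃ θ ∈ b, Cfsg.classInner (fun n : N => (χ : G → ℂ) n) (θ : N → ℂ) ≠ 0) ↔ ∀ χ ∈ B, ∀ θ ∈ b, ∀ n : N, Cfsg.MemLocalIdeal M (Cfsg.centralChar (χ : G → ℂ) (n : G) - Cfsg.inducedCentralChar N (θ : N → ℂ) (n : G)) := by
  classical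
  have hMp := isPrime_of_isPModular hM
  constructor
  · rintro ⟨χ₀, hχ₀, θ₀, hθ₀, hcon⟩ χ hχ θ hθ n
    have h1 : MemLocalIdeal M (centralChar (χ : G → ℂ) (n : G) - centralChar (χ₀ : G → ℂ) (n : G)) :=
      isPBlock_sameBlock hMp hB hχ hχ₀ (n : G)
    have h2 : centralChar (χ₀ : G → ℂ) (n : G) = inducedCentralChar N (θ₀ : N → ℂ) (n : G) :=
      (Cfsg.Agent.S0963.result N χ₀ θ₀).mp hcon n
    -- the indicator of the `G`-class of `n` inside `N`
    set Fn : N → ℂ := fun m => if IsConj (n : G) (m : G) then 1 else 0 with hFn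
    have hFc : IsClassFunction N Fn := by
      intro m h
      simp only [hFn]
      have : IsConj (n : G) ((h * m * h⁻¹ : N) : G) ↔ IsConj (n : G) (m : G) := by
        have e : ((h * m * h⁻¹ : N) : G) = (h : G) * (m : G) * (h : G)⁻¹ := by simp
        rw [e]
        exact isConj_conj_iff _ _ _
      rw [if_congr this rfl rfl]
    have hFR : ∀ m, MemLocalRing M (Fn m) := by
      intro m
      simp only [hFn]
      split_ifs
      · exact memLocalRing_one hMp
      · exact memLocalRing_zero hMp
    have hind : ∀ φ : N → ℂ, inducedCentralChar N φ (n : G) = omega φ Fn := by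
      intro φ
      rw [inducedCentralChar_eq_sum]
      unfold omega
      congr 1
      refine Finset.sum_congr rfl fun m _ => ?_
      simp only [hFn]
      split_ifs <;> simp
    have h3 : MemLocalIdeal M (inducedCentralChar N (θ₀ : N → ℂ) (n : G)
        - inducedCentralChar N (θ : N → ℂ) (n : G)) := by
      rw [hind, hind]
      exact memLocalIdeal_omega_sub hMp (isIrrCharacter_isClassFunction θ₀.2)
        (isIrrCharacter_isClassFunction θ.2) (isPBlock_sameBlock hMp hb hθ₀ hθ) hFc hFR
    have e : centralChar (χ : G → ℂ) (n : G) - inducedCentralChar N (θ : N → ℂ) (n : G)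
        = (centralChar (χ : G → ℂ) (n : G) - centralChar (χ₀ : G → ℂ) (n : G))
          + (inducedCentralChar N (θ₀ : N → ℂ) (n : G)
            - inducedCentralChar N (θ : N → ℂ) (n : G)) := by
      rw [h2]; ring
    rw [e]
    exact memLocalIdeal_add hMp h1 h3
  · intro H
    obtain ⟨χ, hχ⟩ := isPBlock_nonempty hMp hB
    obtain ⟨θ, hθ⟩ := isPBlock_nonempty hMp hb
    have hR := memLocalIdeal_omega_extZero_sub_of_congr N hMp (χ : G → ℂ)
      (isIrrCharacter_isClassFunction χ.2) (θ : N → ℂ) (H χ hχ θ hθ) (covF N b) (cj_covF N b)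
      (covF_memLocalRing N hMp hb)
    rw [omega_covF, Set.indicator_of_mem (subset_gClosure N b hθ)] at hR
    obtain ⟨ψ, hψ⟩ := Cfsg.Agent.S0921.exists_constituent N χ
    rw [omega_extZero_eq N χ ψ hψ _ (cj_covF N b), omega_covF] at hR
    have hψS : ψ ∈ gClosure N b := by
      by_contra hψS
      rw [Set.indicator_of_notMem hψS, zero_sub] at hR
      have := memLocalIdeal_neg hR
      rw [neg_neg] at this
      exact not_memLocalIdeal_one hMp this
    obtain ⟨x, θ', hθ', h⟩ := hψS
    refine ⟨χ, hχ, θ', hθ', ?_⟩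
    rw [← Cfsg.Agent.S0921.classInner_cj N χ x (θ' : N → ℂ), ← h]
    exact hψ

end Cfsg.Agent.S0965
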