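import Mathlib
import Cfsg.Statements.S4873
import Cfsg.Agent.Lib.Helper79_NormalKer
import Cfsg.Agent.Lib.Helper79_FrobSchur
import Cfsg.Agent.Lib.Helper75_CharProd
import Cfsg.Agent.Lib.Helper75_IndChar
import Cfsg.Agent.Lib.Helper79_CharVals
import Cfsg.Agent.Lib.Helper80_CharBasic
import Cfsg.Agent.Lib.Helper81_CharOrth
-- import your own Cfsg.Agent.* helpers here

set_option autoImplicit false
set_option linter.style.haveILetI false
set_option linter.unusedSectionVars false
open Cfsg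

namespace Cfsg.Agent.S4873

open Cfsg.Agent.Lib.Helper3_CharBridge Cfsg.Agent.Lib.Helper3_CharOrtho
  Cfsg.Agent.Lib.Helper75_CharArith Cfsg.Agent.Lib.Helper75_Induced
  Cfsg.Agent.Lib.Helper75_Clifford Cfsg.Agent.Lib.Helper75_CharProd
  Cfsg.Agent.Lib.Helper75_IndChar Cfsg.Agent.Lib.Helper79_NormalKer
  Cfsg.Agent.Lib.Helper80_CharBasic
open scoped ComplexConjugate

section aux

variable {G : Type*} [Group G] [Fintype G]



/-- The Frobenius–Schur indicator of an irreducible character is `0`, `1` or `-1`. -/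
theorem nu_trichotomy (χ : IrrCharacter G) :
    (Nat.card G : ℂ)⁻¹ * ∑ g : G, (χ : G → ℂ) (g * g) = 0 ∨
    (Nat.card G : ℂ)⁻¹ * ∑ g : G, (χ : G → ℂ) (g * g) = 1 ∨
    (Nat.card G : ℂ)⁻¹ * ∑ g : G, (χ : G → ℂ) (g * g) = -1 := by
  obtain ⟨n, ρ, hρ, hχρ⟩ := χ.2
  haveI := hρ
  have htri := Cfsg.Agent.Lib.Helper79_FrobSchur.indicator_trichotomy ρ
  rw [hχρ] at htri
  exact htri

/-- An irreducible character with nonzero indicator is real valued. -/
theorem real_of_nu_ne_zero (χ : IrrCharacter G)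
    (h : (Nat.card G : ℂ)⁻¹ * ∑ g : G, (χ : G → ℂ) (g * g) ≠ 0) (g : G) :
    conj ((χ : G → ℂ) g) = (χ : G → ℂ) g := by
  obtain ⟨n, ρ, hρ, hχρ⟩ := χ.2
  haveI := hρ
  have hzero := Cfsg.Agent.Lib.Helper79_FrobSchur.indicator_eq_zero_iff ρ
  rw [hχρ] at hzero
  have him : ((χ : G → ℂ) g).im = 0 := by
    by_contra hne
    exact h (hzero.2 ⟨g, hne⟩)
  exact Complex.conj_eq_iff_im.2 him

/-- A real valued irreducible character has nonzero indicator. -/
theorem nu_ne_zero_of_real (χ : IrrCharacter G)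
    (hreal : ∀ g : G, conj ((χ : G → ℂ) g) = (χ : G → ℂ) g) :
    (Nat.card G : ℂ)⁻¹ * ∑ g : G, (χ : G → ℂ) (g * g) ≠ 0 := by
  obtain ⟨n, ρ, hρ, hχρ⟩ := χ.2
  haveI := hρ
  have hzero := Cfsg.Agent.Lib.Helper79_FrobSchur.indicator_eq_zero_iff ρ
  rw [hχρ] at hzero
  intro h0
  obtain ⟨s, hs⟩ := hzero.1 h0
  exact hs (Complex.conj_eq_iff_im.1 (hreal s))

/-- The sum of a non-principal irreducible character over the group vanishes. -/
theorem sum_irr_eq_zero (χ : IrrCharacter G) (hχ : χ ≠ oneIrr G) :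
    ∑ g : G, (χ : G → ℂ) g = 0 := by
  have h := Cfsg.Agent.Lib.Helper81_CharOrth.sum_irr_mul_irr_inv_of_ne χ.2 (oneIrr G).2
    (fun h => hχ (Subtype.ext h))
  simpa [oneIrr] using h

/-- In a group with a normal subgroup of odd index, an element whose square lies in the
subgroup lies in the subgroup. -/
theorem mem_of_sq_mem (N : Subgroup G) [N.Normal] (hodd : Odd N.index) {g : G}
    (hg : g * g ∈ N) : g ∈ N := by
  have hcop : (Nat.card (G ⧸ N)).Coprime 2 := by
    rw [← Subgroup.index_eq_card]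
    exact Nat.coprime_two_right.2 hodd
  have h1 : (powCoprime hcop) (QuotientGroup.mk g : G ⧸ N) = (powCoprime hcop) 1 := by
    simp only [powCoprime, Equiv.coe_fn_mk, one_pow]
    rw [pow_two, ← QuotientGroup.mk_mul]
    exact (QuotientGroup.eq_one_iff _).2 hg
  exact (QuotientGroup.eq_one_iff g).1 ((powCoprime hcop).injective h1)

/-- A real valued irreducible character with a nonzero sum over a normal subgroup of odd index
is the principal character. -/
theorem eq_one_of_real_of_sum_ne_zero (N : Subgroup G) [N.Normal] [Fintype N]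
    (hodd : Odd N.index) (θ : IrrCharacter G)
    (hreal : ∀ g : G, conj ((θ : G → ℂ) g) = (θ : G → ℂ) g)
    (hsum : ∑ n : N, (θ : G → ℂ) n ≠ 0) : θ = oneIrr G := by
  by_contra hne
  have hconst : ∀ (g k : G), k ∈ N → (θ : G → ℂ) (g * k) = (θ : G → ℂ) g := by
    obtain ⟨n, ρ, hρ, hχ⟩ := θ.2
    haveI := hρ
    rw [← hχ] at hsum ⊢
    obtain ⟨v, hv, hfix⟩ := exists_fixed_of_sum_ne_zero ρ N hsum
    intro g k hk
    exact char_mul_of_fixed ρ N v hv hfix g hk
  have h4 := sum_sq_eq_sum_of_odd_index N hodd (θ : G → ℂ) hconst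
  apply nu_ne_zero_of_real θ hreal
  rw [h4, sum_irr_eq_zero θ hne, mul_zero]

/-- The indicator of a function induced from a normal subgroup of odd index. -/
theorem nu_indFun (N : Subgroup G) [N.Normal] [Fintype N] (hodd : Odd N.index) (φ : N → ℂ) :
    (Nat.card G : ℂ)⁻¹ * ∑ g : G, indFun N φ (g * g) =
      (Nat.card N : ℂ)⁻¹ * ∑ n : N, φ (n * n) := by
  have hG : (Nat.card G : ℂ) ≠ 0 := by exact_mod_cast Nat.card_pos.ne'
  -- the squares, extended by zero
  have hext : ∀ g : G, extendByZero N φ (g * g) = extendByZero N (fun n : N => φ (n * n)) g := by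
    intro g
    by_cases hg : g ∈ N
    · rw [extendByZero_of_mem N φ (N.mul_mem hg hg), extendByZero_of_mem N _ hg]
      rfl
    · rw [extendByZero_of_not_mem N _ hg,
        extendByZero_of_not_mem N φ (fun h => hg (mem_of_sq_mem N hodd h))]
  have hinner : ∀ x : G, ∑ g : G, extendByZero N φ (x⁻¹ * (g * g) * x) =
      ∑ n : N, φ (n * n) := by
    intro x
    rw [← sum_extendByZero N (fun n : N => φ (n * n))]
    refine Fintype.sum_equiv (MulAut.conj x⁻¹).toEquiv _ _ (fun g => ?_)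
    rw [← hext]
    simp only [MulEquiv.toEquiv_eq_coe, EquivLike.coe_coe, MulAut.conj_apply, inv_inv]
    congr 1
    group
  calc (Nat.card G : ℂ)⁻¹ * ∑ g : G, indFun N φ (g * g)
      = (Nat.card G : ℂ)⁻¹ * ∑ g : G, (Nat.card N : ℂ)⁻¹ *
          ∑ x : G, extendByZero N φ (x⁻¹ * (g * g) * x) := by
        congr 1
    _ = (Nat.card G : ℂ)⁻¹ * ((Nat.card N : ℂ)⁻¹ *
          ∑ x : G, ∑ g : G, extendByZero N φ (x⁻¹ * (g * g) * x)) := by
        rw [← Finset.mul_sum, Finset.sum_comm]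
    _ = (Nat.card G : ℂ)⁻¹ * ((Nat.card N : ℂ)⁻¹ * ∑ _x : G, ∑ n : N, φ (n * n)) := by
        congr 2
        exact Finset.sum_congr rfl (fun x _ => hinner x)
    _ = (Nat.card N : ℂ)⁻¹ * ∑ n : N, φ (n * n) := by
        rw [Finset.sum_const, Finset.card_univ, nsmul_eq_mul, ← Nat.card_eq_fintype_card]
        field_simp

/-- The complex conjugate of an irreducible character. -/
noncomputable def conjI (θ : IrrCharacter G) : IrrCharacter G :=
  ⟨fun g => conj ((θ : G → ℂ) g), isIrrCharacter_conj θ.2⟩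

theorem conjI_conjI (θ : IrrCharacter G) : conjI (conjI θ) = θ := by
  apply Subtype.ext
  funext g
  simp [conjI]

theorem conjI_eq_self_iff (θ : IrrCharacter G) :
    conjI θ = θ ↔ ∀ g : G, conj ((θ : G → ℂ) g) = (θ : G → ℂ) g := by
  constructor
  · intro h g
    exact congrFun (congrArg Subtype.val h) g
  · intro h
    apply Subtype.ext
    funext g
    exact h g

theorem conjI_oneIrr : conjI (oneIrr G) = oneIrr G := by
  apply Subtype.ext
  funext g
  simp [conjI, oneIrr]

/-- **Parity lemma**: for real valued irreducible characters `χ, ψ` of `G` and a normal subgroup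
`N` of odd index, `[χ_N, ψ_N] ≡ [χ, ψ] (mod 2)`. -/
theorem parity (N : Subgroup G) [N.Normal] [Fintype N] (hodd : Odd N.index)
    (χ ψ : IrrCharacter G)
    (hχ : ∀ g : G, conj ((χ : G → ℂ) g) = (χ : G → ℂ) g)
    (hψ : ∀ g : G, conj ((ψ : G → ℂ) g) = (ψ : G → ℂ) g) :
    ∃ k : ℕ, classInner (res N (χ : G → ℂ)) (res N (ψ : G → ℂ)) =
      classInner (χ : G → ℂ) (ψ : G → ℂ) + 2 * (k : ℂ) := by
  classical
  have hN : (Nat.card N : ℂ) ≠ 0 := by exact_mod_cast Nat.card_pos.ne'
  set Θ : G → ℂ := (χ : G → ℂ) * (ψ : G → ℂ) with hΘdef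
  have hΘ : IsCharacter G Θ :=
    isCharacter_mul (isCharacter_of_isIrrCharacter χ.2) (isCharacter_of_isIrrCharacter ψ.2)
  have hΘreal : (fun g => conj (Θ g)) = Θ := by
    funext g
    simp only [hΘdef, Pi.mul_apply, map_mul, hχ g, hψ g]
  obtain ⟨b, hb, hsum⟩ := exists_multiplicities hΘ
  have hd : ∀ θ : IrrCharacter G, ∃ d : ℕ, ∑ z : N, (θ : G → ℂ) z = (Nat.card N : ℂ) * d :=
    fun θ => Cfsg.Agent.Lib.Helper79_CharVals.sum_subgroup_char
      (isCharacter_of_isIrrCharacter θ.2) N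
  choose d hd using hd
  -- symmetry of `b` and `d` under conjugation
  have hbconj : ∀ θ : IrrCharacter G, b (conjI θ) = b θ := by
    intro θ
    have h1 : classInner Θ (conjI θ : G → ℂ) = conj (classInner Θ (θ : G → ℂ)) := by
      rw [← classInner_conj_conj, hΘreal]
      rfl
    rw [hb, hb, Complex.conj_natCast] at h1
    exact_mod_cast h1
  have hdconj : ∀ θ : IrrCharacter G, d (conjI θ) = d θ := by
    intro θ
    have h1 : ∑ z : N, (conjI θ : G → ℂ) z = conj (∑ z : N, (θ : G → ℂ) z) := by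
      rw [map_sum]
      rfl
    rw [hd, hd, map_mul, Complex.conj_natCast, Complex.conj_natCast] at h1
    have h2 := mul_left_cancel₀ hN h1
    exact_mod_cast h2
  have hdone : d (oneIrr G) = 1 := by
    have h1 := hd (oneIrr G)
    simp only [oneIrr, Finset.sum_const, Finset.card_univ, nsmul_eq_mul, mul_one] at h1
    rw [← Nat.card_eq_fintype_card] at h1
    have h2 : (Nat.card N : ℂ) * 1 = (Nat.card N : ℂ) * (d (oneIrr G) : ℂ) := by
      rw [mul_one]; exact h1
    have h3 := mul_left_cancel₀ hN h2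
    exact_mod_cast h3.symm
  -- left side
  have hleft : classInner (res N (χ : G → ℂ)) (res N (ψ : G → ℂ)) =
      ((∑ θ : IrrCharacter G, b θ * d θ : ℕ) : ℂ) := by
    unfold classInner
    have h1 : ∀ n : N, res N (χ : G → ℂ) n * conj (res N (ψ : G → ℂ) n) = Θ n := by
      intro n
      rw [res_apply, res_apply, hψ]
      rfl
    rw [Finset.sum_congr rfl (fun n _ => h1 n)]
    have h2 : ∀ n : N, Θ n = ∑ θ : IrrCharacter G, (b θ : ℂ) * (θ : G → ℂ) n := by
      intro n
      conv_lhs => rw [hsum]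
      rw [Finset.sum_apply]
      rfl
    rw [Finset.sum_congr rfl (fun n _ => h2 n), Finset.sum_comm, Finset.mul_sum]
    push_cast
    refine Finset.sum_congr rfl (fun θ _ => ?_)
    rw [← Finset.mul_sum, hd]
    field_simp
  -- right side
  have hright : classInner (χ : G → ℂ) (ψ : G → ℂ) = (b (oneIrr G) : ℂ) := by
    rw [← hb]
    unfold classInner
    congr 1
    refine Finset.sum_congr rfl (fun g _ => ?_)
    rw [hψ]
    simp [oneIrr, hΘdef]
  -- the sum over the non-principal characters is even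
  have heven : (((∑ θ ∈ Finset.univ.erase (oneIrr G), b θ * d θ : ℕ) : ℕ) : ZMod 2) = 0 := by
    push_cast
    refine Finset.sum_involution (fun θ _ => conjI θ) ?_ ?_ ?_ ?_
    · intro θ _
      rw [hbconj, hdconj]
      exact CharTwo.add_self_eq_zero _
    · intro θ hθ hne hfix
      apply hne
      have hθ1 : θ ≠ oneIrr G := Finset.ne_of_mem_erase hθ
      have hreal := (conjI_eq_self_iff θ).1 hfix
      have hd0 : d θ = 0 := by
        by_contra hd0
        apply hθ1
        apply eq_one_of_real_of_sum_ne_zero N hodd θ hreal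
        rw [hd]
        exact mul_ne_zero hN (by exact_mod_cast hd0)
      rw [hd0]
      simp
    · intro θ hθ
      have hθ1 : θ ≠ oneIrr G := Finset.ne_of_mem_erase hθ
      apply Finset.mem_erase.2
      refine ⟨?_, Finset.mem_univ _⟩
      intro h
      apply hθ1
      rw [← conjI_conjI θ, h, conjI_oneIrr]
    · intro θ _
      exact conjI_conjI θ
  obtain ⟨k, hk⟩ : ∃ k : ℕ, ∑ θ ∈ Finset.univ.erase (oneIrr G), b θ * d θ = 2 * k := by
    have := (ZMod.natCast_eq_zero_iff _ 2).1 heven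
    exact this
  refine ⟨k, ?_⟩
  rw [hleft, hright, ← Finset.add_sum_erase Finset.univ _ (Finset.mem_univ (oneIrr G)), hdone, hk]
  push_cast
  ring

/-- Two real valued irreducible characters of `G` lying over the same irreducible character of a
normal subgroup of odd index coincide. -/
theorem eq_of_real_of_lying_over (N : Subgroup G) [N.Normal] [Fintype N] (hodd : Odd N.index)
    (φ : IrrCharacter N) (χ ψ : IrrCharacter G)
    (hχ : ∀ g : G, conj ((χ : G → ℂ) g) = (χ : G → ℂ) g)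
    (hψ : ∀ g : G, conj ((ψ : G → ℂ) g) = (ψ : G → ℂ) g)
    (hχφ : classInner (res N (χ : G → ℂ)) (φ : N → ℂ) ≠ 0)
    (hψφ : classInner (res N (ψ : G → ℂ)) (φ : N → ℂ) ≠ 0) : χ = ψ := by
  have hNn : N.Normal := inferInstance
  obtain ⟨m1, hm1⟩ := classInner_isCharacter_nat
    (isCharacter_res N (isCharacter_of_isIrrCharacter χ.2)) (isCharacter_of_isIrrCharacter φ.2)
  obtain ⟨m2, hm2⟩ := classInner_isCharacter_nat
    (isCharacter_res N (isCharacter_of_isIrrCharacter ψ.2)) (isCharacter_of_isIrrCharacter φ.2)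
  have hcχ := clifford N hNn χ.2 φ.2 hχφ
  have hcψ := clifford N hNn ψ.2 φ.2 hψφ
  rw [hm1] at hcχ
  rw [hm2] at hcψ
  set S : N → ℂ := ∑ᶠ θ ∈ {θ : N → ℂ | ∃ g : G, θ = conjFun N hNn (φ : N → ℂ) g}, θ with hS
  set T : ℂ := classInner S S with hT
  obtain ⟨k1, hk1⟩ := parity N hodd χ χ hχ hχ
  obtain ⟨k2, hk2⟩ := parity N hodd ψ ψ hψ hψ
  obtain ⟨k3, hk3⟩ := parity N hodd χ ψ hχ hψ
  rw [hcχ, classInner_smul_left, classInner_smul_right, Complex.conj_natCast,
    classInner_self_of_isIrrCharacter χ.2] at hk1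
  rw [hcψ, classInner_smul_left, classInner_smul_right, Complex.conj_natCast,
    classInner_self_of_isIrrCharacter ψ.2] at hk2
  rw [hcχ, hcψ, classInner_smul_left, classInner_smul_right, Complex.conj_natCast] at hk3
  by_contra hne
  have h0 : classInner (χ : G → ℂ) (ψ : G → ℂ) = 0 :=
    classInner_of_isIrrCharacter_of_ne χ.2 ψ.2 (fun h => hne (Subtype.ext h))
  rw [h0, zero_add] at hk3
  have h1 : ((2 * k3 * (2 * k3) : ℕ) : ℂ) = (((1 + 2 * k1) * (1 + 2 * k2) : ℕ) : ℂ) := by
    push_cast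
    rw [← hk3]
    have e1 : (1 + 2 * (k1 : ℂ)) = (m1 : ℂ) * ((m1 : ℂ) * T) := hk1.symm
    have e2 : (1 + 2 * (k2 : ℂ)) = (m2 : ℂ) * ((m2 : ℂ) * T) := hk2.symm
    rw [e1, e2]
    ring
  have h2 : 2 * k3 * (2 * k3) = (1 + 2 * k1) * (1 + 2 * k2) := by exact_mod_cast h1
  have h3 : 2 * k3 * (2 * k3) = 2 * (k3 * (2 * k3)) := by ring
  have h4 : (1 + 2 * k1) * (1 + 2 * k2) = 2 * (k1 + k2 + 2 * (k1 * k2)) + 1 := by ring
  omega


end aux

/-- Let N be a normal subgroup of odd index in the finite group G. Then every irreducible complex character of N with Frobenius–Schur indicator +1 lies under exactly one irreducible character of G with Frobenius–Schur indicator +1. -/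
theorem result {G : Type*} [Group G] [Finite G] (N : Subgroup G) [N.Normal] (hodd : Odd N.index) (φ : Cfsg.IrrCharacter ↥N) (hφ : (Nat.card ↥N : ℂ)⁻¹ * ∑ᶠ g : ↥N, (φ : ↥N → ℂ) (g * g) = 1) : ∃! χ : Cfsg.IrrCharacter G, (Nat.card G : ℂ)⁻¹ * ∑ᶠ g : G, (χ : G → ℂ) (g * g) = 1 ∧ (∑ᶠ n : ↥N, (χ : G → ℂ) n * (starRingEnd ℂ) ((φ : ↥N → ℂ) n)) ≠ 0 := by
  classical
  haveI : Fintype G := Fintype.ofFinite G
  haveI : Fintype N := Fintype.ofFinite N
  simp only [finsum_eq_sum_of_fintype] at hφ ⊢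
  have hN : (Nat.card N : ℂ) ≠ 0 := by exact_mod_cast Nat.card_pos.ne'
  set Φ : G → ℂ := indFun N (φ : N → ℂ) with hΦdef
  have hΦ : IsCharacter G Φ := isCharacter_indFun N (isCharacter_of_isIrrCharacter φ.2)
  obtain ⟨a, ha, hsumΦ⟩ := exists_multiplicities hΦ
  set nu : IrrCharacter G → ℂ :=
    fun χ => (Nat.card G : ℂ)⁻¹ * ∑ g : G, (χ : G → ℂ) (g * g) with hnu
  -- the indicator of `Φ`
  have hnuΦ : ∑ χ : IrrCharacter G, (a χ : ℂ) * nu χ = 1 := by
    rw [← hφ, ← nu_indFun N hodd (φ : N → ℂ)]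
    have h1 : ∀ g : G, Φ (g * g) = ∑ χ : IrrCharacter G, (a χ : ℂ) * (χ : G → ℂ) (g * g) := by
      intro g
      conv_lhs => rw [hsumΦ]
      rw [Finset.sum_apply]
      rfl
    rw [Finset.sum_congr rfl (fun g _ => h1 g), Finset.sum_comm, Finset.mul_sum]
    refine Finset.sum_congr rfl (fun χ _ => ?_)
    rw [hnu, ← Finset.mul_sum]
    ring
  -- multiplicities through restriction
  have hares : ∀ χ : IrrCharacter G,
      classInner (res N (χ : G → ℂ)) (φ : N → ℂ) = (a χ : ℂ) := by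
    intro χ
    have h1 := frobenius_reciprocity N (φ : N → ℂ) (χ : G → ℂ)
      (isClassFunction_of_isIrrCharacter χ.2)
    rw [ha] at h1
    have h2 : classInner (res N (χ : G → ℂ)) (φ : N → ℂ) =
        conj (classInner (φ : N → ℂ) (fun h : N => (χ : G → ℂ) h)) := by
      rw [classInner_conj_symm]
      rfl
    rw [h2, ← h1, Complex.conj_natCast]
  have hstat : ∀ χ : IrrCharacter G,
      ∑ n : N, (χ : G → ℂ) n * conj ((φ : N → ℂ) n) = (Nat.card N : ℂ) * (a χ : ℂ) := by
    intro χ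
    have h1 := hares χ
    unfold classInner at h1
    rw [← h1]
    field_simp
    rfl
  -- uniqueness of a real character over `φ`
  have huniq : ∀ χ ψ : IrrCharacter G, nu χ ≠ 0 → a χ ≠ 0 → nu ψ ≠ 0 → a ψ ≠ 0 → χ = ψ := by
    intro χ ψ hχν hχa hψν hψa
    apply eq_of_real_of_lying_over N hodd φ χ ψ (real_of_nu_ne_zero χ hχν)
      (real_of_nu_ne_zero ψ hψν)
    · rw [hares]; exact_mod_cast hχa
    · rw [hares]; exact_mod_cast hψa
  -- a character with nonzero contribution
  obtain ⟨χ₀, -, hχ₀⟩ : ∃ χ ∈ Finset.univ, (a χ : ℂ) * nu χ ≠ 0 := by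
    apply Finset.exists_ne_zero_of_sum_ne_zero
    rw [hnuΦ]
    exact one_ne_zero
  have hχ₀a : a χ₀ ≠ 0 := by
    intro h
    apply hχ₀
    rw [h]
    simp
  have hχ₀ν : nu χ₀ ≠ 0 := right_ne_zero_of_mul hχ₀
  have hsingle : (a χ₀ : ℂ) * nu χ₀ = 1 := by
    rw [← hnuΦ]
    symm
    apply Finset.sum_eq_single χ₀
    · intro χ _ hne
      by_contra h
      apply hne
      refine huniq χ χ₀ (right_ne_zero_of_mul h) ?_ hχ₀ν hχ₀a
      intro h0
      apply h
      rw [h0]
      simp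
    · intro h
      exact absurd (Finset.mem_univ _) h
  have hν1 : nu χ₀ = 1 := by
    rcases nu_trichotomy χ₀ with h | h | h
    · exact absurd h hχ₀ν
    · exact h
    · exfalso
      have h' : nu χ₀ = -1 := h
      rw [h'] at hsingle
      have h5 : ((a χ₀ + 1 : ℕ) : ℂ) = 0 := by
        push_cast
        linear_combination -hsingle
      exact absurd (by exact_mod_cast h5) (Nat.succ_ne_zero (a χ₀))
  refine ⟨χ₀, ⟨hν1, ?_⟩, ?_⟩
  · rw [hstat]
    exact mul_ne_zero hN (by exact_mod_cast hχ₀a)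
  · rintro χ ⟨h1, h2⟩
    refine huniq χ χ₀ ?_ ?_ hχ₀ν hχ₀a
    · have : nu χ = 1 := h1
      rw [this]
      exact one_ne_zero
    · intro h0
      apply h2
      rw [hstat, h0]
      simp

end Cfsg.Agent.S4873
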