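import Mathlib
import Cfsg.Statements.S4872
-- import your own Cfsg.Agent.* helpers here
import Cfsg.Agent.Lib.Helper77_OddInv
import Cfsg.Agent.Lib.Helper77_BlockBasics
import Cfsg.Agent.Lib.Helper79_CharVals
import Cfsg.Agent.Lib.Helper75_CharProd
import Cfsg.Agent.Lib.Helper75_IndChar
import Cfsg.Agent.Lib.Helper75_Clifford
import Cfsg.Agent.Lib.Helper80_CharBasic
import Cfsg.Agent.Lib.Helper80_RelDegree
import Cfsg.Agent.Lib.Helper81_CharOrth
import Cfsg.Agent.S4478

set_option autoImplicit false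
set_option linter.style.haveILetI false
set_option linter.unusedSectionVars false
open Cfsg

namespace Cfsg.Agent.S4872

open Cfsg.Agent.Lib.Helper3_CharBridge Cfsg.Agent.Lib.Helper3_CharOrtho
  Cfsg.Agent.Lib.Helper75_CharArith Cfsg.Agent.Lib.Helper75_Induced
  Cfsg.Agent.Lib.Helper75_Clifford Cfsg.Agent.Lib.Helper75_CharProd
  Cfsg.Agent.Lib.Helper75_IndChar
  Cfsg.Agent.Lib.Helper80_CharBasic
open scoped ComplexConjugate

section aux

variable {G : Type*} [Group G] [Fintype G]

/-- The complex conjugate of an irreducible character. -/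
noncomputable def conjI (θ : IrrCharacter G) : IrrCharacter G :=
  ⟨fun g => conj ((θ : G → ℂ) g), isIrrCharacter_conj θ.2⟩

theorem conjI_conjI (θ : IrrCharacter G) : conjI (conjI θ) = θ := by
  apply Subtype.ext
  funext g
  simp [conjI]

theorem conjI_eq_self_iff (θ : IrrCharacter G) :
    conjI θ = θ ↔ ∀ g : G, conj ((θ : G → ℂ) g) = (θ : G → ℂ) g := by
  constructor
  · intro h g
    exact congrFun (congrArg Subtype.val h) g
  · intro h
    apply Subtype.ext
    funext g
    exact h g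

/-- The induced character of a `2`-defect-zero character vanishes on nontrivial `2`-elements. -/
theorem indFun_eq_zero (N : Subgroup G) [N.Normal] [Fintype N] (φ : IrrCharacter N)
    (hdef : 2 ^ (Nat.card N).factorization 2 ∣ charDegree (φ : N → ℂ)) (z : G) (hz1 : z ≠ 1)
    (hz : ∃ k : ℕ, orderOf z = 2 ^ k) : indFun N (φ : N → ℂ) z = 0 := by
  rw [indFun_apply]
  have h0 : ∀ x : G, extendByZero N (φ : N → ℂ) (x⁻¹ * z * x) = 0 := by
    intro x
    by_cases hx : x⁻¹ * z * x ∈ N
    · rw [extendByZero_of_mem N _ hx]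
      apply Cfsg.Agent.S4478.vanish φ 2 Nat.prime_two hdef
      obtain ⟨k, hk⟩ := hz
      have ho : orderOf (⟨x⁻¹ * z * x, hx⟩ : N) = orderOf z := by
        rw [← Subgroup.orderOf_coe]
        simp only
        have : x⁻¹ * z * x = (MulAut.conj x⁻¹) z := by simp
        rw [this, MulEquiv.orderOf_eq]
      rw [ho, hk]
      have hk0 : k ≠ 0 := by
        rintro rfl
        rw [pow_zero, orderOf_eq_one_iff] at hk
        exact hz1 hk
      exact dvd_pow_self 2 hk0
    · exact extendByZero_of_not_mem N _ hx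
  rw [Finset.sum_eq_zero (fun x _ => h0 x), mul_zero]

/-- invariance of the multiplicity under complex conjugation -/
theorem mult_conj (N : Subgroup G) (hNn : N.Normal) [Fintype N] (φ : IrrCharacter N)
    (g : G) (hg : conjFun N hNn (φ : N → ℂ) g = fun n => conj ((φ : N → ℂ) n))
    (χ : IrrCharacter G) :
    classInner (res N (conjI χ : G → ℂ)) (φ : N → ℂ) =
      conj (classInner (res N (χ : G → ℂ)) (φ : N → ℂ)) := by
  have h1 : classInner (res N (χ : G → ℂ)) (φ : N → ℂ) =
      classInner (res N (χ : G → ℂ)) (fun n => conj ((φ : N → ℂ) n)) := by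
    rw [← hg]
    have h2 : res N (χ : G → ℂ) = conjFun N hNn (res N (χ : G → ℂ)) g :=
      (conjFun_restrict N hNn (isClassFunction_of_isIrrCharacter χ.2) g).symm
    conv_rhs => rw [h2]
    exact (classInner_conjFun N hNn _ _ g).symm
  rw [h1, ← classInner_conj_conj]
  congr 1
  funext n
  simp

/-- the parity argument -/
theorem exists_fixed_odd {ι : Type*} [Fintype ι] [DecidableEq ι] (σ : ι → ι)
    (hσ : ∀ i, σ (σ i) = i) (f : ι → ℕ) (hf : ∀ i, f (σ i) = f i)
    (hodd : Odd (∑ i, f i)) : ∃ i, σ i = i ∧ Odd (f i) := by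
  by_contra hcon
  push Not at hcon
  have heven : ((∑ i, f i : ℕ) : ZMod 2) = 0 := by
    push_cast
    refine Finset.sum_involution (fun i _ => σ i) ?_ ?_ ?_ ?_
    · intro i _
      rw [hf]
      exact CharTwo.add_self_eq_zero _
    · intro i _ hne hfix
      apply hne
      have := hcon i hfix
      rw [Nat.not_odd_iff_even] at this
      exact (ZMod.natCast_eq_zero_iff_even).2 this
    · intro i _
      exact Finset.mem_univ _
    · intro i _
      exact hσ i
  have h2 : 2 ∣ ∑ i, f i := (ZMod.natCast_eq_zero_iff _ 2).1 heven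
  rw [← even_iff_two_dvd] at h2
  exact (Nat.not_even_iff_odd.2 hodd) h2

end aux

/-- Let N be a normal subgroup of the finite group G with G/N a 2-group, and let φ be an irreducible complex character of N of 2-defect zero (the 2-part of #N divides φ(1)) whose complex conjugate is G-conjugate to φ. Then some irreducible character of G with Frobenius–Schur indicator +1 contains φ with multiplicity exactly one on restriction to N. -/
theorem result {G : Type*} [Group G] [Finite G] (N : Subgroup G) [N.Normal] (h2 : IsPGroup 2 (G ⧸ N)) (φ : Cfsg.IrrCharacter ↥N) (hdef : 2 ^ (Nat.card ↥N).factorization 2 ∣ Cfsg.charDegree (φ : ↥N → ℂ)) (hconj : ∃ g : G, ∀ n n' : ↥N, (n' : G) = g * (n : G) * g⁻¹ → (φ : ↥N → ℂ) n' = (starRingEnd ℂ) ((φ : ↥N → ℂ) n)) : ∃ χ : Cfsg.IrrCharacter G, (Nat.card G : ℂ)⁻¹ * ∑ᶠ g : G, (χ : G → ℂ) (g * g) = 1 ∧ (Nat.card ↥N : ℂ)⁻¹ * ∑ᶠ n : ↥N, (χ : G → ℂ) n * (starRingEnd ℂ) ((φ : ↥N → ℂ) n) = 1 := by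
  classical
  haveI : Fintype G := Fintype.ofFinite G
  haveI : Fintype N := Fintype.ofFinite N
  simp only [finsum_eq_sum_of_fintype]
  have hNn : N.Normal := inferInstance
  have hNne : (Nat.card N : ℂ) ≠ 0 := by exact_mod_cast Nat.card_pos.ne'
  haveI : Fact (Nat.Prime 2) := ⟨Nat.prime_two⟩
  let P : Sylow 2 G := default
  haveI : Fintype (P : Subgroup G) := Fintype.ofFinite _
  have hPne : (Nat.card (P : Subgroup G) : ℂ) ≠ 0 := by exact_mod_cast Nat.card_pos.ne'
  obtain ⟨g, hg⟩ := hconj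
  have hgφ : conjFun N hNn (φ : N → ℂ) g = fun n => conj ((φ : N → ℂ) n) := by
    funext n
    rw [conjFun_apply]
    exact hg n ⟨g * n * g⁻¹, hNn.conj_mem n n.2 g⟩ rfl
  set Φ : G → ℂ := indFun N (φ : N → ℂ) with hΦdef
  have hΦ : IsCharacter G Φ := isCharacter_indFun N (isCharacter_of_isIrrCharacter φ.2)
  obtain ⟨a, ha, hsumΦ⟩ := exists_multiplicities hΦ
  -- multiplicities through restriction
  have hares : ∀ χ : IrrCharacter G,
      classInner (res N (χ : G → ℂ)) (φ : N → ℂ) = (a χ : ℂ) := by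
    intro χ
    have h1 := frobenius_reciprocity N (φ : N → ℂ) (χ : G → ℂ)
      (isClassFunction_of_isIrrCharacter χ.2)
    rw [ha] at h1
    have h2 : classInner (res N (χ : G → ℂ)) (φ : N → ℂ) =
        conj (classInner (φ : N → ℂ) (fun h : N => (χ : G → ℂ) h)) := by
      rw [classInner_conj_symm]
      rfl
    rw [h2, ← h1, Complex.conj_natCast]
  have hd : ∀ χ : IrrCharacter G, ∃ d : ℕ,
      ∑ z : (P : Subgroup G), (χ : G → ℂ) z = (Nat.card (P : Subgroup G) : ℂ) * d :=
    fun χ => Cfsg.Agent.Lib.Helper79_CharVals.sum_subgroup_char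
      (isCharacter_of_isIrrCharacter χ.2) (P : Subgroup G)
  choose d hd using hd
  -- symmetry under complex conjugation
  have haconj : ∀ χ : IrrCharacter G, a (conjI χ) = a χ := by
    intro χ
    have h1 := mult_conj N hNn φ g hgφ χ
    rw [hares, hares, Complex.conj_natCast] at h1
    exact_mod_cast h1
  have hdconj : ∀ χ : IrrCharacter G, d (conjI χ) = d χ := by
    intro χ
    have h1 : ∑ z : (P : Subgroup G), (conjI χ : G → ℂ) z =
        conj (∑ z : (P : Subgroup G), (χ : G → ℂ) z) := by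
      rw [map_sum]
      rfl
    rw [hd, hd, map_mul, Complex.conj_natCast, Complex.conj_natCast] at h1
    have h2 := mul_left_cancel₀ hPne h1
    exact_mod_cast h2
  -- the sum of `Φ` over `P`
  have hΦP : ∑ z : (P : Subgroup G), Φ z = Φ 1 := by
    rw [Finset.sum_eq_single (1 : (P : Subgroup G))]
    · rfl
    · intro z _ hz
      apply indFun_eq_zero N φ hdef
      · intro h
        apply hz
        exact Subtype.ext h
      · obtain ⟨k, hk⟩ := (IsPGroup.iff_orderOf.1 P.2) z
        exact ⟨k, by rw [← hk, Subgroup.orderOf_coe]⟩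
    · intro h
      exact absurd (Finset.mem_univ _) h
  have hΦP' : ∑ z : (P : Subgroup G), Φ z =
      (Nat.card (P : Subgroup G) : ℂ) * ((∑ χ : IrrCharacter G, a χ * d χ : ℕ) : ℂ) := by
    have h1 : ∀ z : (P : Subgroup G), Φ z = ∑ χ : IrrCharacter G, (a χ : ℂ) * (χ : G → ℂ) z := by
      intro z
      conv_lhs => rw [hsumΦ]
      rw [Finset.sum_apply]
      rfl
    rw [Finset.sum_congr rfl (fun z _ => h1 z), Finset.sum_comm]
    push_cast
    rw [Finset.mul_sum]
    refine Finset.sum_congr rfl (fun χ _ => ?_)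
    rw [← Finset.mul_sum, hd]
    ring
  -- arithmetic
  set S : ℕ := ∑ χ : IrrCharacter G, a χ * d χ with hS
  set ν : ℕ := (Nat.card N).factorization 2 with hν
  set dφ : ℕ := charDegree (φ : N → ℂ) with hdφ
  have hφ1 : (φ : N → ℂ) 1 = (dφ : ℂ) := Cfsg.Agent.Lib.Helper77_BlockBasics.apply_one_eq_charDegree φ
  have hdφdvd : dφ ∣ Nat.card N := Cfsg.Agent.Lib.Helper77_BlockBasics.charDegree_dvd_card φ
  obtain ⟨k, hk⟩ := IsPGroup.iff_card.1 h2
  have hidx : N.index = 2 ^ k := by rw [Subgroup.index_eq_card]; exact hk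
  have hcardG : Nat.card G = Nat.card N * 2 ^ k := by
    rw [← hidx]; exact (Subgroup.card_mul_index N).symm
  have hcardP : Nat.card (P : Subgroup G) = 2 ^ (ν + k) := by
    rw [Sylow.card_eq_multiplicity, hcardG,
      Nat.factorization_mul Nat.card_pos.ne' (pow_ne_zero _ two_ne_zero)]
    simp [hν, Nat.Prime.factorization_self Nat.prime_two]
  have hSeq : 2 ^ ν * S = dφ := by
    have h1 : (Nat.card (P : Subgroup G) : ℂ) * (S : ℂ) =
        (Nat.card N : ℂ)⁻¹ * (Nat.card G : ℂ) * (dφ : ℂ) := by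
      rw [← hΦP', hΦP, hΦdef, indFun_one, hφ1]
    rw [hcardP, hcardG] at h1
    have h2 : ((2 ^ (ν + k) * S : ℕ) : ℂ) = ((2 ^ k * dφ : ℕ) : ℂ) := by
      have h1' := h1
      push_cast at h1' ⊢
      rw [h1']
      field_simp
    have h3 : 2 ^ (ν + k) * S = 2 ^ k * dφ := by exact_mod_cast h2
    have h4 : 2 ^ k * (2 ^ ν * S) = 2 ^ k * dφ := by rw [← h3, pow_add]; ring
    exact Nat.eq_of_mul_eq_mul_left (pow_pos two_pos k) h4
  have hSodd : Odd S := by
    rw [← Nat.not_even_iff_odd]
    intro hev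
    obtain ⟨r, hr⟩ := hev
    have h1 : 2 ^ (ν + 1) ∣ Nat.card N := by
      refine dvd_trans ?_ hdφdvd
      rw [← hSeq, hr, pow_succ]
      exact ⟨r, by ring⟩
    exact Nat.pow_succ_factorization_not_dvd Nat.card_pos.ne' Nat.prime_two h1
  -- a real character with odd multiplicities
  obtain ⟨χ, hχfix, hχodd⟩ := exists_fixed_odd (conjI (G := G)) conjI_conjI
    (fun χ => a χ * d χ) (fun χ => by simp only [haconj, hdconj]) hSodd
  have hχreal := (conjI_eq_self_iff χ).1 hχfix
  have haodd : Odd (a χ) := (Nat.odd_mul.1 hχodd).1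
  have hdodd : Odd (d χ) := (Nat.odd_mul.1 hχodd).2
  refine ⟨χ, ?_, ?_⟩
  · -- the indicator
    obtain ⟨n, ρ, hρ, hχρ⟩ := χ.2
    haveI := hρ
    have hreal : ∀ x : G, (ρ.character x).im = 0 := by
      intro x
      rw [hχρ]
      exact Complex.conj_eq_iff_im.1 (hχreal x)
    have hfr : Module.finrank ℂ (Representation.invariants (ρ.comp (P : Subgroup G).subtype)) =
        d χ := by
      have : Invertible (Nat.card (P : Subgroup G) : ℂ) := invertibleOfNonzero hPne
      have h := Representation.card_inv_mul_sum_char_eq_finrank (ρ.comp (P : Subgroup G).subtype)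
      have h3 : ∑ z : (P : Subgroup G),
          Representation.character (ρ.comp (P : Subgroup G).subtype) z =
          (Nat.card (P : Subgroup G) : ℂ) * d χ := by
        rw [← hd χ, ← hχρ]
        rfl
      rw [h3, ← mul_assoc, inv_mul_cancel₀ hPne, one_mul] at h
      exact_mod_cast h.symm
    have := Cfsg.Agent.Lib.Helper77_OddInv.fsInd_eq_one_of_odd_invariants ρ hreal
      (P : Subgroup G) (by rw [hfr]; exact hdodd)
    rw [hχρ] at this
    exact this
  · -- the multiplicity
    have hcl : (Nat.card N : ℂ)⁻¹ * ∑ n : N, (χ : G → ℂ) n * conj ((φ : N → ℂ) n) = (a χ : ℂ) := by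
      rw [← hares χ]
      rfl
    rw [hcl]
    have ha0 : a χ ≠ 0 := by
      rintro h0
      rw [h0] at haodd
      exact (Nat.not_odd_iff_even.2 Even.zero) haodd
    have hcon : classInner (res N (χ : G → ℂ)) (φ : N → ℂ) ≠ 0 := by
      rw [hares]; exact_mod_cast ha0
    -- Clifford
    have hcl := clifford N hNn χ.2 φ.2 hcon
    rw [hares] at hcl
    set A : Set (N → ℂ) := {ψ : N → ℂ | ∃ x : G, ψ = conjFun N hNn (φ : N → ℂ) x} with hA
    have hAfin : A.Finite := by
      have : A ⊆ Set.range (fun x : G => conjFun N hNn (φ : N → ℂ) x) := by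
        rintro ψ ⟨x, rfl⟩
        exact ⟨x, rfl⟩
      exact (Set.finite_range _).subset this
    have hval : (∑ᶠ ψ ∈ A, ψ) 1 = (hAfin.toFinset.card : ℂ) * (dφ : ℂ) := by
      rw [finsum_mem_eq_finite_toFinset_sum _ hAfin, Finset.sum_apply]
      rw [Finset.sum_congr rfl (g := fun _ => (dφ : ℂ))]
      · rw [Finset.sum_const, nsmul_eq_mul]
      · intro ψ hψ
        rw [Set.Finite.mem_toFinset] at hψ
        obtain ⟨x, rfl⟩ := hψ
        rw [conjFun_apply, ← hφ1]
        have h1 : (⟨x * ((1 : N) : G) * x⁻¹, hNn.conj_mem _ (1 : N).2 x⟩ : N) = 1 := by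
          apply Subtype.ext
          simp
        rw [h1]
    obtain ⟨c, hc0, hc, -⟩ := Cfsg.Agent.Lib.Helper79_CharVals.irr_degree χ.2
    have hχ1 : (χ : G → ℂ) 1 = (a χ : ℂ) * ((hAfin.toFinset.card : ℂ) * (dφ : ℂ)) := by
      have := congrFun hcl (1 : N)
      rw [res_apply] at this
      rw [← hval]
      exact this
    obtain ⟨e, he, hediv⟩ := Cfsg.Agent.Lib.Helper80_RelDegree.rel_degree_dvd N (χ : G → ℂ) χ.2
      (φ : N → ℂ) φ.2 hcon c dφ hc hφ1
    have hdφ0 : dφ ≠ 0 := (Cfsg.Agent.Lib.Helper77_BlockBasics.charDegree_pos φ).ne'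
    have h5 : a χ * hAfin.toFinset.card = e := by
      have h6 : ((a χ * hAfin.toFinset.card * dφ : ℕ) : ℂ) = ((e * dφ : ℕ) : ℂ) := by
        rw [← he]
        push_cast
        rw [← hc, hχ1]
        ring
      have h7 : a χ * hAfin.toFinset.card * dφ = e * dφ := by exact_mod_cast h6
      exact Nat.eq_of_mul_eq_mul_right (Nat.pos_of_ne_zero hdφ0) h7
    have h8 : a χ ∣ 2 ^ k := by
      rw [← hidx]
      exact dvd_trans ⟨_, h5.symm⟩ hediv
    obtain ⟨j, -, hj⟩ := (Nat.dvd_prime_pow Nat.prime_two).1 h8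
    have hj0 : j = 0 := by
      by_contra hj0
      rw [hj] at haodd
      exact (Nat.not_odd_iff_even.2 ((Nat.even_pow' hj0).2 even_two)) haodd
    rw [hj, hj0]
    simp

end Cfsg.Agent.S4872
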