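-- Statement S4740 (helper79).
import Cfsg.Statements.S4740
import Cfsg.Agent.Lib.Helper79_ClassConst
import Cfsg.Agent.Lib.Helper79_CharVals
import Cfsg.Agent.Lib.Helper80_CharBasic

set_option autoImplicit false
open Cfsg

namespace Cfsg.Agent.S4740

open Cfsg.Agent.Lib.Helper79_ClassAlgebra2 Cfsg.Agent.Lib.Helper81_CharBasic
  Cfsg.Agent.Lib.Helper81_CharOrth Cfsg.Agent.Lib.Helper79_ClassConst
  Cfsg.Agent.Lib.Helper79_CharVals

/-- The count at the identity: pairs `(g, h)` with `g x g⁻¹ * h x h⁻¹ = 1`, for an involution `x`. -/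
theorem prodCount_one {G : Type*} [Group G] [Fintype G] [DecidableEq G] (x : G) (hx : x * x = 1) :
    prodCount x x 1 =
      (Fintype.card G : ℂ) * (Nat.card ↥(Subgroup.centralizer ({x} : Set G)) : ℂ) := by
  classical
  unfold prodCount
  have hinner : ∀ g : G, (∑ h : G, if g * x * g⁻¹ * (h * x * h⁻¹) = 1 then (1 : ℂ) else 0) =
      (Nat.card ↥(Subgroup.centralizer ({x} : Set G)) : ℂ) := by
    intro g
    have hxinv : x⁻¹ = x := inv_eq_of_mul_eq_one_left hx
    have h1 : (∑ h : G, if g * x * g⁻¹ * (h * x * h⁻¹) = 1 then (1 : ℂ) else 0) =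
        ∑ k : G, if k ∈ Subgroup.centralizer ({x} : Set G) then (1 : ℂ) else 0 := by
      refine Fintype.sum_equiv (Equiv.mulLeft g⁻¹) _ _ (fun h => ?_)
      simp only [Equiv.coe_mulLeft, Subgroup.mem_centralizer_iff, Set.mem_singleton_iff,
        forall_eq]
      have : (g * x * g⁻¹ * (h * x * h⁻¹) = 1) ↔ (x * (g⁻¹ * h) = g⁻¹ * h * x) := by
        constructor
        · intro h2
          have h3 : h * x * h⁻¹ = g * x * g⁻¹ := by
            have := eq_inv_of_mul_eq_one_right h2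
            rw [this]; simp [mul_inv_rev, hxinv, mul_assoc]
          calc x * (g⁻¹ * h) = g⁻¹ * (g * x * g⁻¹) * h := by group
            _ = g⁻¹ * (h * x * h⁻¹) * h := by rw [h3]
            _ = g⁻¹ * h * x := by group
        · intro h2
          have h3 : h * x * h⁻¹ = g * x * g⁻¹ := by
            calc h * x * h⁻¹ = g * (g⁻¹ * h * x) * h⁻¹ := by group
              _ = g * (x * (g⁻¹ * h)) * h⁻¹ := by rw [h2]
              _ = g * x * g⁻¹ := by group
          rw [h3]
          calc g * x * g⁻¹ * (g * x * g⁻¹) = g * (x * x) * g⁻¹ := by group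
            _ = 1 := by rw [hx]; group
      exact if_congr this rfl rfl
    rw [h1, Finset.sum_boole]
    rw [Nat.card_eq_fintype_card, Fintype.card_subtype]
  simp only [hinner, Finset.sum_const, Finset.card_univ, nsmul_eq_mul]

/-- Let p be an odd prime, G a finite group of even order, x an involution of G and P a subgroup of G of order p ^ c such that no conjugate of x inverts a non-identity element of P. If p ^ a is the p-part of the order of C_G(x), then some irreducible character of G has degree divisible by p ^ (c - a). -/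
theorem result {G : Type*} [Group G] [Finite G] (p : ℕ) [Fact p.Prime] (hp2 : p ≠ 2) (hG : Even (Nat.card G)) (x : G) (hx : orderOf x = 2) (P : Subgroup G) (c : ℕ) (hP : Nat.card ↥P = p ^ c) (hinv : ∀ g : G, IsConj x g → ∀ z ∈ P, z ≠ 1 → g * z * g⁻¹ ≠ z⁻¹) (a : ℕ) (ha : (Nat.card ↥(Subgroup.centralizer ({x} : Set G))).factorization p = a) : ∃ χ : Cfsg.IrrCharacter G, p ^ (c - a) ∣ Cfsg.charDegree (χ : G → ℂ) := by
  classical
  haveI := Fintype.ofFinite G
  haveI := Fintype.ofFinite (IrrCharacter G)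
  have hpp : p.Prime := Fact.out
  by_cases hca : c ≤ a
  · refine ⟨Cfsg.Agent.Lib.Helper80_CharBasic.oneIrr G, ?_⟩
    rw [Nat.sub_eq_zero_of_le hca, pow_zero]
    exact one_dvd _
  push Not at hca
  by_contra hcon
  push Not at hcon
  have hxx : x * x = 1 := by
    have := pow_orderOf_eq_one x
    rwa [hx, pow_two] at this
  have hxinv : x⁻¹ = x := inv_eq_of_mul_eq_one_left hxx
  have hcard : (Fintype.card G : ℂ) ≠ 0 := by exact_mod_cast Fintype.card_ne_zero
  -- data attached to each irreducible character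
  have hdeg : ∀ χ : IrrCharacter G, ∃ n : ℕ, 0 < n ∧ (χ : G → ℂ) 1 = n ∧ charDegree (χ : G → ℂ) = n :=
    fun χ => irr_degree χ.2
  choose n hnpos hn1 hncd using hdeg
  have hint : ∀ χ : IrrCharacter G, ∃ k : ℤ, (χ : G → ℂ) x = k :=
    fun χ => char_int_of_orderOf_two (IsIrrCharacter.isCharacter χ.2) hx
  choose k hk using hint
  have hsumP : ∀ χ : IrrCharacter G, ∃ d : ℕ, ∑ z : P, (χ : G → ℂ) z = (Nat.card P : ℂ) * d :=
    fun χ => sum_subgroup_char (IsIrrCharacter.isCharacter χ.2) P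
  choose m hm using hsumP
  -- vanishing of the count on `P \ {1}`
  have hzero : ∀ z : P, (z : G) ≠ 1 → prodCount x x (z : G) = 0 := by
    intro z hz
    unfold prodCount
    refine Finset.sum_eq_zero fun g _ => Finset.sum_eq_zero fun h _ => ?_
    rw [if_neg]
    intro heq
    obtain ⟨s, hs⟩ : ∃ s, s = g * x * g⁻¹ := ⟨_, rfl⟩
    obtain ⟨t, ht⟩ : ∃ t, t = h * x * h⁻¹ := ⟨_, rfl⟩
    rw [← hs, ← ht] at heq
    have hss : s * s = 1 := by
      rw [hs]; calc g * x * g⁻¹ * (g * x * g⁻¹) = g * (x * x) * g⁻¹ := by group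
        _ = 1 := by rw [hxx]; group
    have htt : t * t = 1 := by
      rw [ht]; calc h * x * h⁻¹ * (h * x * h⁻¹) = h * (x * x) * h⁻¹ := by group
        _ = 1 := by rw [hxx]; group
    have hsinv : s⁻¹ = s := inv_eq_of_mul_eq_one_left hss
    have htinv : t⁻¹ = t := inv_eq_of_mul_eq_one_left htt
    apply hinv s (isConj_iff.2 ⟨g, hs.symm⟩) (z : G) z.2 hz
    rw [← heq, mul_inv_rev, hsinv, htinv]
    calc s * (s * t) * s = (s * s) * t * s := by group
      _ = t * s := by rw [hss, one_mul]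
  -- the main identity
  have hmain : (Nat.card ↥(Subgroup.centralizer ({x} : Set G)) : ℂ) =
      (Nat.card P : ℂ) * ∑ χ : IrrCharacter G, ((k χ : ℂ) ^ 2 * (m χ : ℂ) / (n χ : ℂ)) := by
    have h1 : ∑ z : P, prodCount x x (z : G) = prodCount x x 1 := by
      rw [Finset.sum_eq_single (1 : P)]
      · rfl
      · intro z _ hz
        exact hzero z (fun h => hz (Subtype.ext h))
      · intro h; exact absurd (Finset.mem_univ _) h
    rw [prodCount_one x hxx] at h1
    have h2 : ∑ z : P, prodCount x x (z : G) = (Fintype.card G : ℂ) *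
        ((Nat.card P : ℂ) * ∑ χ : IrrCharacter G, ((k χ : ℂ) ^ 2 * (m χ : ℂ) / (n χ : ℂ))) := by
      simp only [prodCount_eq]
      rw [← Finset.mul_sum, Finset.sum_comm]
      congr 1
      rw [Finset.mul_sum]
      refine Finset.sum_congr rfl fun χ _ => ?_
      rw [hxinv, hk χ, hn1 χ]
      have : ∑ z : P, (k χ : ℂ) * (k χ : ℂ) * (χ : G → ℂ) z / (n χ : ℂ) =
          (k χ : ℂ) * (k χ : ℂ) / (n χ : ℂ) * ∑ z : P, (χ : G → ℂ) z := by
        rw [Finset.mul_sum]
        refine Finset.sum_congr rfl fun z _ => by ring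
      rw [this, hm χ]
      ring
    rw [h2] at h1
    exact (mul_left_cancel₀ hcard h1).symm
  -- pass to the rationals
  have hmainQ : (Nat.card ↥(Subgroup.centralizer ({x} : Set G)) : ℚ) =
      (p : ℚ) ^ c * ∑ χ : IrrCharacter G, ((k χ : ℚ) ^ 2 * (m χ : ℚ) / (n χ : ℚ)) := by
    have : ((Nat.card ↥(Subgroup.centralizer ({x} : Set G)) : ℚ) : ℂ) =
      (((p : ℚ) ^ c * ∑ χ : IrrCharacter G, ((k χ : ℚ) ^ 2 * (m χ : ℚ) / (n χ : ℚ)) : ℚ) : ℂ) := by
      push_cast
      rw [hmain, hP]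
      push_cast
      rfl
    exact_mod_cast this
  -- p-adic estimate
  set e := c - a with he
  have he1 : 1 ≤ e := by omega
  have hterm : ∀ χ ∈ (Finset.univ : Finset (IrrCharacter G)),
      padicNorm p ((k χ : ℚ) ^ 2 * (m χ : ℚ) / (n χ : ℚ)) ≤ (p : ℚ) ^ ((e : ℤ) - 1) := by
    intro χ _
    have hnχ : ¬ p ^ e ∣ n χ := by
      have := hcon χ
      rwa [hncd χ] at this
    have hv : padicValNat p (n χ) < e := by
      by_contra hge
      push Not at hge
      exact hnχ ((padicValNat_dvd_iff_le (hnpos χ).ne').2 hge)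
    have hnq : (n χ : ℚ) ≠ 0 := by exact_mod_cast (hnpos χ).ne'
    rw [padicNorm.div, padicNorm.mul]
    have h1 : padicNorm p ((k χ : ℚ) ^ 2) ≤ 1 := by
      have := padicNorm.of_int (p := p) ((k χ) ^ 2)
      push_cast at this
      exact this
    have h2 : padicNorm p (m χ : ℚ) ≤ 1 := by
      exact padicNorm.of_nat (p := p) (m χ)
    have h3 : padicNorm p (n χ : ℚ) = (p : ℚ) ^ (-(padicValNat p (n χ) : ℤ)) := by
      rw [padicNorm.eq_zpow_of_nonzero hnq, padicValRat.of_nat]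
    rw [h3]
    have hp0 : (0 : ℚ) < p := by exact_mod_cast hpp.pos
    have hp1 : (1 : ℚ) ≤ p := by exact_mod_cast hpp.one_lt.le
    have h4 : padicNorm p ((k χ : ℚ) ^ 2) * padicNorm p (m χ : ℚ) ≤ 1 := by
      calc padicNorm p ((k χ : ℚ) ^ 2) * padicNorm p (m χ : ℚ) ≤ 1 * 1 :=
            mul_le_mul h1 h2 (padicNorm.nonneg _) zero_le_one
        _ = 1 := one_mul 1
    rw [zpow_neg, div_inv_eq_mul]
    calc padicNorm p ((k χ : ℚ) ^ 2) * padicNorm p (m χ : ℚ) * (p : ℚ) ^ (padicValNat p (n χ) : ℤ)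
        ≤ 1 * (p : ℚ) ^ (padicValNat p (n χ) : ℤ) :=
          mul_le_mul_of_nonneg_right h4 (zpow_nonneg hp0.le _)
      _ = (p : ℚ) ^ (padicValNat p (n χ) : ℤ) := one_mul _
      _ ≤ (p : ℚ) ^ ((e : ℤ) - 1) := zpow_le_zpow_right₀ hp1 (by omega)
  have hp0 : (0 : ℚ) < p := by exact_mod_cast hpp.pos
  have hp1 : (1 : ℚ) < p := by exact_mod_cast hpp.one_lt
  have hsum := padicNorm.sum_le' (p := p) hterm (zpow_nonneg hp0.le _)
  have hCpos : 0 < Nat.card ↥(Subgroup.centralizer ({x} : Set G)) := Nat.card_pos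
  have hCq : (Nat.card ↥(Subgroup.centralizer ({x} : Set G)) : ℚ) ≠ 0 := by
    exact_mod_cast hCpos.ne'
  have hnormC : padicNorm p (Nat.card ↥(Subgroup.centralizer ({x} : Set G)) : ℚ) =
      (p : ℚ) ^ (-(a : ℤ)) := by
    rw [padicNorm.eq_zpow_of_nonzero hCq, padicValRat.of_nat, ← ha, Nat.factorization_def _ hpp]
  have hnormR : padicNorm p ((p : ℚ) ^ c *
      ∑ χ : IrrCharacter G, ((k χ : ℚ) ^ 2 * (m χ : ℚ) / (n χ : ℚ))) ≤
      (p : ℚ) ^ (-(c : ℤ)) * (p : ℚ) ^ ((e : ℤ) - 1) := by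
    rw [padicNorm.mul]
    have : padicNorm p ((p : ℚ) ^ c) = (p : ℚ) ^ (-(c : ℤ)) := by
      have := padicNorm.padicNorm_p_of_prime (p := p)
      rw [IsAbsoluteValue.abv_pow (padicNorm p), this, inv_pow, zpow_neg, zpow_natCast]
    rw [this]
    exact mul_le_mul_of_nonneg_left hsum (zpow_nonneg hp0.le _)
  rw [← hmainQ, hnormC, ← zpow_add₀ hp0.ne'] at hnormR
  have := (zpow_le_zpow_iff_right₀ hp1).1 hnormR
  omega

end Cfsg.Agent.S4740
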