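-- Statement S4744: odd centralizers of p-elements: p-defect zero, or abelian Sylow p-subgroups
-- with normalizers of even order.
import Cfsg.Statements.S4744
import Cfsg.Agent.S4740
import Cfsg.Agent.Lib.Helper79_FpfInvolution
import Cfsg.Agent.Lib.Helper77_BlockBasics

set_option autoImplicit false
open Cfsg

namespace Cfsg.Agent.S4744

open Cfsg.Agent.Lib.Helper79_FpfInvolution
open scoped Pointwise

section aux

variable {G : Type*} [Group G] [Finite G]

theorem orderOf_conj' (t x : G) : orderOf (t * x * t⁻¹) = orderOf x := by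
  rw [← MulAut.conj_apply, MulEquiv.orderOf_eq]

theorem mem_conj_smul {g x : G} {H : Subgroup G} :
    x ∈ MulAut.conj g • H ↔ g⁻¹ * x * g ∈ H := by
  rw [Subgroup.mem_pointwise_smul_iff_inv_smul_mem, MulAut.smul_def, ← map_inv, MulAut.conj_apply,
    inv_inv]

/-- an involution commutes with no non-identity `p`-element when the centralizers of those have
odd order -/
theorem eq_one_of_commute (p : ℕ) (hC : ∀ g : G, g ≠ 1 → (∃ k : ℕ, orderOf g = p ^ k) →
    Odd (Nat.card ↥(Subgroup.centralizer ({g} : Set G)))) {g q : G} (hg : orderOf g = 2)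
    (hq : ∃ k : ℕ, orderOf q = p ^ k) (hcomm : g * q = q * g) : q = 1 := by
  by_contra hq1
  have hodd := hC q hq1 hq
  have hmem : g ∈ Subgroup.centralizer ({q} : Set G) := by
    rw [Subgroup.mem_centralizer_singleton_iff]
    exact hcomm
  have h2 : orderOf (⟨g, hmem⟩ : ↥(Subgroup.centralizer ({q} : Set G))) = 2 := by
    rw [Subgroup.orderOf_mk]; exact hg
  have h3 : 2 ∣ Nat.card ↥(Subgroup.centralizer ({q} : Set G)) := by
    rw [← h2]; exact orderOf_dvd_natCard _
  exact (Nat.not_even_iff_odd.mpr hodd) (even_iff_two_dvd.mpr h3)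

/-- elements of a subgroup of `p`-power order have `p`-power order -/
theorem orderOf_eq_pow_of_mem {p : ℕ} [Fact p.Prime] {Q : Subgroup G} (hQ : IsPGroup p ↥Q) {q : G}
    (hq : q ∈ Q) : ∃ k : ℕ, orderOf q = p ^ k := by
  obtain ⟨k, hk⟩ := (IsPGroup.iff_orderOf.mp hQ) ⟨q, hq⟩
  exact ⟨k, by rw [← hk, Subgroup.orderOf_mk]⟩

/-- The key configuration: without a character of `p`-defect zero there is a commutative Sylow
`p`-subgroup normalized by an involution. -/
theorem exists_good_sylow (p : ℕ) [Fact p.Prime] (hp2 : p ≠ 2) (hpG : p ∣ Nat.card G)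
    (h2G : 2 ∣ Nat.card G)
    (hC : ∀ g : G, g ≠ 1 → (∃ k : ℕ, orderOf g = p ^ k) →
      Odd (Nat.card ↥(Subgroup.centralizer ({g} : Set G))))
    (hno : ¬ ∃ χ : Cfsg.IrrCharacter G,
      (Cfsg.charDegree (χ : G → ℂ)).factorization p = (Nat.card G).factorization p) :
    ∃ (Q : Sylow p G) (g : G), orderOf g = 2 ∧ (∀ q ∈ Q, g * q * g⁻¹ ∈ Q) ∧
      ∀ a ∈ Q, ∀ b ∈ Q, a * b = b * a := by
  classical
  have hp : p.Prime := Fact.out
  haveI : Fact (Nat.Prime 2) := ⟨Nat.prime_two⟩
  have hG0 : Nat.card G ≠ 0 := Nat.card_pos.ne'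
  obtain ⟨x, hx⟩ := exists_prime_orderOf_dvd_card' (G := G) 2 h2G
  obtain ⟨P0⟩ : Nonempty (Sylow p G) := inferInstance
  set c := (Nat.card G).factorization p with hc
  have hP0 : Nat.card ↥(P0 : Subgroup G) = p ^ c := P0.card_eq_multiplicity
  -- Claim A
  have hA : ∃ g : G, IsConj x g ∧ ∃ z ∈ (P0 : Subgroup G), z ≠ 1 ∧ g * z * g⁻¹ = z⁻¹ := by
    by_contra hcon
    push Not at hcon
    have ha : (Nat.card ↥(Subgroup.centralizer ({x} : Set G))).factorization p = 0 := by
      apply Nat.factorization_eq_zero_of_not_dvd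
      intro hdvd
      obtain ⟨w, hw⟩ := exists_prime_orderOf_dvd_card'
        (G := ↥(Subgroup.centralizer ({x} : Set G))) p hdvd
      have hwo : orderOf (w : G) = p := by rw [Subgroup.orderOf_coe]; exact hw
      have hw1 : (w : G) = 1 := by
        refine eq_one_of_commute p hC hx ⟨1, by rw [hwo, pow_one]⟩ ?_
        exact ((Subgroup.mem_centralizer_singleton_iff).mp w.2).symm
      rw [hw1, orderOf_one] at hwo
      exact hp.one_lt.ne hwo
    obtain ⟨χ, hχ⟩ := Cfsg.Agent.S4740.result p hp2 (even_iff_two_dvd.mpr h2G) x hx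
      (P0 : Subgroup G) c hP0 (fun g hg z hz hz1 => hcon g hg z hz hz1) 0 ha
    rw [Nat.sub_zero] at hχ
    apply hno
    refine ⟨χ, ?_⟩
    have hdvd := Cfsg.Agent.Lib.Helper77_BlockBasics.charDegree_dvd_card χ
    have hd0 : Cfsg.charDegree (χ : G → ℂ) ≠ 0 := by
      intro h0
      rw [h0] at hdvd
      exact hG0 (Nat.eq_zero_of_zero_dvd hdvd)
    apply le_antisymm
    · exact (Nat.factorization_le_iff_dvd hd0 hG0).mpr hdvd p
    · exact (hp.pow_dvd_iff_le_factorization hd0).mp hχ
  obtain ⟨g, hxg, z, hzP, hz1, hgz⟩ := hA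
  have hg2 : orderOf g = 2 := by
    obtain ⟨t, rfl⟩ := isConj_iff.mp hxg
    rw [← hx]
    exact orderOf_conj' t x
  have hgg : g * g = 1 := by
    have := pow_orderOf_eq_one g
    rw [hg2, sq] at this
    exact this
  have hnc : ∀ q : G, (∃ k : ℕ, orderOf q = p ^ k) → g * q = q * g → q = 1 :=
    fun q hq hcomm => eq_one_of_commute p hC hg2 hq hcomm
  have hzp : ∃ k : ℕ, orderOf z = p ^ k := orderOf_eq_pow_of_mem P0.isPGroup' hzP
  -- first invariant Sylow subgroup
  obtain ⟨Q1, hQ1C, hQ1card, hzQ1, hQ1inv⟩ :=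
    exists_invariant_sylow_centralizer p hgg hgz hzp (hC z hz1 hzp)
  have hQ1p : IsPGroup p ↥Q1 := IsPGroup.of_card hQ1card
  have hQ1invert : ∀ q ∈ Q1, g * q * g⁻¹ = q⁻¹ :=
    inverts_of_invariant hgg Q1 hQ1inv (fun q hq => hnc q (orderOf_eq_pow_of_mem hQ1p hq))
  obtain ⟨P2, hP2⟩ := hQ1p.exists_le_sylow
  -- a non-identity central element of `P2`
  have hP2card : Nat.card ↥(P2 : Subgroup G) = p ^ c := P2.card_eq_multiplicity
  have hc0 : c ≠ 0 := by
    rw [hc]
    exact (Nat.Prime.factorization_pos_of_dvd hp hG0 hpG).ne'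
  haveI : Nontrivial ↥(P2 : Subgroup G) := by
    rw [← Finite.one_lt_card_iff_nontrivial, hP2card]
    exact Nat.one_lt_pow hc0 hp.one_lt
  haveI := P2.isPGroup'.center_nontrivial
  obtain ⟨⟨w', hw'c⟩, hw'1⟩ := exists_ne (1 : ↥(Subgroup.center ↥(P2 : Subgroup G)))
  set w : G := (w' : G) with hw
  have hw1 : w ≠ 1 := by
    intro h
    apply hw'1
    apply Subtype.ext
    apply Subtype.ext
    exact h
  have hwP2 : w ∈ (P2 : Subgroup G) := w'.2
  have hwcomm : ∀ y ∈ (P2 : Subgroup G), y * w = w * y := by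
    intro y hy
    have := (Subgroup.mem_center_iff.mp hw'c) ⟨y, hy⟩
    exact congrArg Subtype.val this
  have hwp : ∃ k : ℕ, orderOf w = p ^ k := orderOf_eq_pow_of_mem P2.isPGroup' hwP2
  -- `w ∈ Q1`
  have hwQ1 : w ∈ Q1 := by
    set R : Subgroup G := (P2 : Subgroup G) ⊓ Subgroup.centralizer ({z} : Set G) with hR
    have hRp : IsPGroup p ↥R := P2.isPGroup'.to_le inf_le_left
    obtain ⟨j, hj⟩ := IsPGroup.iff_card.mp hRp
    have hRdvd : Nat.card ↥R ∣ Nat.card ↥(Subgroup.centralizer ({z} : Set G)) :=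
      Subgroup.card_dvd_of_le inf_le_right
    have hCz0 : Nat.card ↥(Subgroup.centralizer ({z} : Set G)) ≠ 0 := Nat.card_pos.ne'
    have hjle : j ≤ (Nat.card ↥(Subgroup.centralizer ({z} : Set G))).factorization p := by
      rw [hj] at hRdvd
      exact (hp.pow_dvd_iff_le_factorization hCz0).mp hRdvd
    have hle : Q1 ≤ R := le_inf hP2 hQ1C
    have hcardle : Nat.card ↥R ≤ Nat.card ↥Q1 := by
      rw [hj, hQ1card]
      exact Nat.pow_le_pow_right hp.pos hjle
    have hEq : Q1 = R := Subgroup.eq_of_le_of_card_ge hle hcardle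
    rw [hEq, hR]
    refine ⟨hwP2, ?_⟩
    show w ∈ Subgroup.centralizer ({z} : Set G)
    rw [Subgroup.mem_centralizer_singleton_iff]
    exact (hwcomm z (hP2 hzQ1)).symm
  have hgw : g * w * g⁻¹ = w⁻¹ := hQ1invert w hwQ1
  -- second invariant Sylow subgroup
  obtain ⟨Q3, hQ3C, hQ3card, -, hQ3inv⟩ :=
    exists_invariant_sylow_centralizer p hgg hgw hwp (hC w hw1 hwp)
  have hfac : (Nat.card ↥(Subgroup.centralizer ({w} : Set G))).factorization p = c := by
    have hCw0 : Nat.card ↥(Subgroup.centralizer ({w} : Set G)) ≠ 0 := Nat.card_pos.ne'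
    apply le_antisymm
    · exact (Nat.factorization_le_iff_dvd hCw0 hG0).mpr (Subgroup.card_subgroup_dvd_card _) p
    · have hle : (P2 : Subgroup G) ≤ Subgroup.centralizer ({w} : Set G) := by
        intro y hy
        rw [Subgroup.mem_centralizer_singleton_iff]
        exact hwcomm y hy
      have := Subgroup.card_dvd_of_le hle
      rw [hP2card] at this
      exact (hp.pow_dvd_iff_le_factorization hCw0).mp this
  rw [hfac] at hQ3card
  have hQ3p : IsPGroup p ↥Q3 := IsPGroup.of_card hQ3card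
  have hQ3invert : ∀ q ∈ Q3, g * q * g⁻¹ = q⁻¹ :=
    inverts_of_invariant hgg Q3 hQ3inv (fun q hq => hnc q (orderOf_eq_pow_of_mem hQ3p hq))
  refine ⟨Sylow.ofCard Q3 hQ3card, g, hg2, ?_, ?_⟩
  · intro q hq
    exact hQ3inv q hq
  · intro a ha b hb
    exact commute_of_inverts Q3 hQ3invert ha hb

end aux

/-- Let p be an odd prime and G a finite group of even order divisible by p in which the centralizer of every non-identity p-element has odd order. Then either G has an irreducible character of p-defect zero, or the normalizer of every Sylow p-subgroup P of G has even order and P is abelian. -/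
theorem result {G : Type*} [Group G] [Finite G] (p : ℕ) [Fact p.Prime] (hp2 : p ≠ 2) (hpG : p ∣ Nat.card G) (h2G : 2 ∣ Nat.card G) (hC : ∀ g : G, g ≠ 1 → (∃ k : ℕ, orderOf g = p ^ k) → Odd (Nat.card ↥(Subgroup.centralizer ({g} : Set G)))) : (∃ χ : Cfsg.IrrCharacter G, (Cfsg.charDegree (χ : G → ℂ)).factorization p = (Nat.card G).factorization p) ∨ ∀ P : Sylow p G, Even (Nat.card ↥(Subgroup.normalizer ((P : Subgroup G) : Set G))) ∧ IsMulCommutative ↥(P : Subgroup G) := by
  classical
  by_cases hno : ∃ χ : Cfsg.IrrCharacter G,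
      (Cfsg.charDegree (χ : G → ℂ)).factorization p = (Nat.card G).factorization p
  · exact Or.inl hno
  right
  obtain ⟨Q, g, hg2, hQinv, hQcomm⟩ := exists_good_sylow p hp2 hpG h2G hC hno
  intro P
  obtain ⟨h, hh⟩ := MulAction.exists_smul_eq G Q P
  have hmem : ∀ y : G, y ∈ (P : Subgroup G) ↔ h⁻¹ * y * h ∈ (Q : Subgroup G) := by
    intro y
    rw [← hh, Sylow.smul_def, Sylow.pointwise_smul_def]
    exact mem_conj_smul
  have hgg : g * g = 1 := by
    have := pow_orderOf_eq_one g
    rw [hg2, sq] at this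
    exact this
  constructor
  · -- the involution `h g h⁻¹` normalizes `P`
    set g' : G := h * g * h⁻¹ with hg'
    have hg'2 : orderOf g' = 2 := by rw [hg', orderOf_conj', hg2]
    have hnorm : g' ∈ Subgroup.normalizer ((P : Subgroup G) : Set G) := by
      rw [Subgroup.mem_normalizer_iff]
      intro y
      have key : h⁻¹ * (g' * y * g'⁻¹) * h = g * (h⁻¹ * y * h) * g⁻¹ := by
        rw [hg']; group
      constructor
      · intro hy
        rw [hmem, key]
        exact hQinv _ ((hmem y).mp hy)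
      · intro hy
        rw [hmem, key] at hy
        rw [hmem]
        have := hQinv _ hy
        rwa [conj_conj_of_mul_self hgg] at this
    have h2 : orderOf (⟨g', hnorm⟩ : ↥(Subgroup.normalizer ((P : Subgroup G) : Set G))) = 2 := by
      rw [Subgroup.orderOf_mk]; exact hg'2
    rw [even_iff_two_dvd, ← h2]
    exact orderOf_dvd_natCard _
  · refine ⟨⟨fun a b => Subtype.ext ?_⟩⟩
    have ha := (hmem a).mp a.2
    have hb := (hmem b).mp b.2
    have := hQcomm _ ha _ hb
    simp only [Subgroup.coe_mul]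
    calc (a : G) * b = h * ((h⁻¹ * a * h) * (h⁻¹ * b * h)) * h⁻¹ := by group
      _ = h * ((h⁻¹ * b * h) * (h⁻¹ * a * h)) * h⁻¹ := by rw [this]
      _ = b * a := by group

end Cfsg.Agent.S4744
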