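import Cfsg.Statements.S1567
import Cfsg.Agent.Lib.Helper7_LeechGen
import Cfsg.Agent.Lib.Helper93_Code24b
import Cfsg.Agent.Lib.Helper27_GolayLike
import Cfsg.Agent.S0394

set_option autoImplicit false
open Cfsg

namespace Cfsg.Agent.S1567

open Cfsg.Agent.Lib.Helper7_M24 Cfsg.Agent.Lib.Helper7_Leech Cfsg.Agent.Lib.Helper92_LeechParity
open Cfsg.Agent.Lib.Helper92_Monomial Cfsg.Agent.Lib.Helper7_LeechGen
open Cfsg.Agent.S0394 Cfsg.Agent.S0393

/-- The minimal vectors. -/
def Min : Set (GolayPt → ℤ) := {x | x ∈ leechLattice ∧ sqNorm x = 32}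

/-- The subgroup they generate. -/
def M : AddSubgroup (GolayPt → ℤ) := AddSubgroup.closure Min

theorem sgn_four_min (P N : Finset GolayPt) (hP : P.card = 2) (hN : N ⊆ P) : sgn 4 P N ∈ M := by
  apply AddSubgroup.subset_closure
  refine ⟨(mem_leechLattice_iff _).mpr (sgn_four_mem P N hP hN), ?_⟩
  rw [sqNorm_sgn, hP]; rfl

theorem sgn_two_min (P : Finset GolayPt) (hP : P ∈ octads) : sgn 2 P ∅ ∈ M := by
  apply AddSubgroup.subset_closure
  refine ⟨(mem_leechLattice_iff _).mpr
    (sgn_two_mem P ∅ hP (Finset.empty_subset _) (by rw [Finset.card_empty]; exact ⟨0, rfl⟩)), ?_⟩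
  rw [sqNorm_sgn, hP.2]; rfl

theorem u0_min : u0 ∈ M := by
  apply AddSubgroup.subset_closure
  exact ⟨u0_mem, sqNorm_fO none 1⟩

theorem eDiff_min (i : GolayPt) : eDiff i ∈ M := by
  by_cases hi : i = none
  · have : eDiff i = 0 := by
      funext j
      unfold eDiff
      rw [hi]
      simp
    rw [this]; exact M.zero_mem
  · have : eDiff i = sgn 4 {i, none} {none} := by
      funext j
      unfold eDiff sgn
      by_cases h1 : j = i
      · subst h1
        simp [hi]
      · by_cases h2 : j = none
        · subst h2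
          simp [h1]
        · simp [h1, h2]
    rw [this]
    apply sgn_four_min
    · rw [Finset.card_pair hi]
    · intro j hj
      rw [Finset.mem_singleton] at hj
      rw [hj]; simp

theorem e8_min : e8 ∈ M := by
  have hne : (none : GolayPt) ≠ some 0 := by decide
  have : e8 = sgn 4 {none, some 0} ∅ + sgn 4 {none, some 0} {some 0} := by
    funext j
    rw [Pi.add_apply]
    unfold e8 sgn
    by_cases h1 : j = none
    · subst h1
      simp
    · by_cases h2 : j = some 0
      · subst h2
        simp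
      · simp [h1, h2]
  rw [this]
  apply M.add_mem
  · exact sgn_four_min _ _ (Finset.card_pair hne) (Finset.empty_subset _)
  · apply sgn_four_min _ _ (Finset.card_pair hne)
    intro j hj
    rw [Finset.mem_singleton] at hj
    rw [hj]; simp

/-- Four times the indicator of a set of even size lies in `M`. -/
theorem four_ind_min (T : Finset GolayPt) (hT : Even T.card) :
    dbl (dbl (fun j => if j ∈ T then (1 : ℤ) else 0)) ∈ M := by
  obtain ⟨s, hs⟩ := hT
  have hsum : ∑ i, (fun j => if j ∈ T then (1 : ℤ) else 0) i = 2 * (s : ℤ) := by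
    beta_reduce
    rw [sum_ind, hs]
    push_cast
    ring
  rw [four_smul_eq _ _ hsum]
  apply M.add_mem
  · apply M.sum_mem
    intro i _
    exact M.zsmul_mem (eDiff_min i) _
  · exact M.zsmul_mem e8_min _

theorem twoInd_add (c c' : GolayPt → ZMod 2) :
    twoInd (c + c') = twoInd c + twoInd c' -
      dbl (dbl (fun j => if j ∈ support₂ c ∩ support₂ c' then (1 : ℤ) else 0)) := by
  funext j
  rw [Pi.sub_apply, Pi.add_apply, dbl_apply, dbl_apply]
  rcases Cfsg.Agent.S0394.zmod2_cases (c j) with h | h <;> rcases Cfsg.Agent.S0394.zmod2_cases (c' j) with h' | h'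
  · have hm : j ∉ support₂ c ∩ support₂ c' := by
      rw [Finset.mem_inter, mem_support₂, mem_support₂, h, h']; decide
    have hs : (c + c') j = 0 := by rw [Pi.add_apply, h, h']; rfl
    rw [twoInd_of_zero hs, twoInd_of_zero h, twoInd_of_zero h', if_neg hm]; rfl
  · have hm : j ∉ support₂ c ∩ support₂ c' := by
      rw [Finset.mem_inter, mem_support₂, mem_support₂, h, h']; decide
    have hs : (c + c') j = 1 := by rw [Pi.add_apply, h, h']; rfl
    rw [twoInd_of_one hs, twoInd_of_zero h, twoInd_of_one h', if_neg hm]; rfl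
  · have hm : j ∉ support₂ c ∩ support₂ c' := by
      rw [Finset.mem_inter, mem_support₂, mem_support₂, h, h']; decide
    have hs : (c + c') j = 1 := by rw [Pi.add_apply, h, h']; rfl
    rw [twoInd_of_one hs, twoInd_of_one h, twoInd_of_zero h', if_neg hm]; rfl
  · have hm : j ∈ support₂ c ∩ support₂ c' := by
      rw [Finset.mem_inter, mem_support₂, mem_support₂, h, h']; exact ⟨rfl, rfl⟩
    have hs : (c + c') j = 0 := by rw [Pi.add_apply, h, h']; rfl
    rw [twoInd_of_zero hs, twoInd_of_one h, twoInd_of_one h', if_pos hm]; rfl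

theorem twoInd_eq_sgn (c : GolayPt → ZMod 2) : twoInd c = sgn 2 (support₂ c) ∅ := by
  funext j
  rcases Cfsg.Agent.S0394.zmod2_cases (c j) with h | h
  · rw [twoInd_of_zero h, sgn_of_notMem]
    rw [mem_support₂, h]; decide
  · rw [twoInd_of_one h, sgn_of_mem_pos ((mem_support₂ c j).mpr h) (Finset.notMem_empty j)]

theorem twoInd_zero : twoInd (0 : GolayPt → ZMod 2) = 0 := by
  funext j
  exact twoInd_of_zero rfl

/-- Twice every code word lies in `M`. -/
theorem twoInd_min (c : GolayPt → ZMod 2) (hc : c ∈ golayCode) : twoInd c ∈ M := by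
  have hspan := Cfsg.Agent.Lib.Helper93_Code24.span_octads
    Cfsg.Agent.Lib.Helper27_GolayLike.golayCode_isGolayLike
  have hc' : c ∈ Submodule.span (ZMod 2)
      {w : GolayPt → ZMod 2 | w ∈ golayCode ∧ hammingNorm w = 8} := by
    rw [hspan]; exact hc
  induction hc' using Submodule.span_induction with
  | mem w hw =>
    rw [twoInd_eq_sgn]
    exact sgn_two_min _ ⟨⟨w, hw.1, rfl⟩, hw.2⟩
  | zero => rw [twoInd_zero]; exact M.zero_mem
  | add a b ha hb iha ihb =>
    rw [hspan] at ha hb
    rw [twoInd_add]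
    apply M.sub_mem (M.add_mem (iha ha) (ihb hb))
    exact four_ind_min _ (Cfsg.Agent.Lib.Helper8_GolayEven.even_card_inter a b ha hb)
  | smul r a ha iha =>
    rw [hspan] at ha
    rcases Cfsg.Agent.S0394.zmod2_cases r with h | h
    · rw [h, zero_smul, twoInd_zero]; exact M.zero_mem
    · rw [h, one_smul]; exact iha ha

theorem main : AddSubgroup.closure {x : GolayPt → ℤ | x ∈ leechLattice ∧ sqNorm x = 32} =
    leechLattice := by
  apply le_antisymm
  · rw [AddSubgroup.closure_le]
    intro x hx
    exact hx.1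
  · apply le_of_gens M u0_min ?_ eDiff_min e8_min
    intro k
    apply twoInd_min
    rw [Cfsg.Agent.S0358.span_eq]
    exact Submodule.subset_span ⟨k, rfl⟩

theorem result : AddSubgroup.closure {x : Cfsg.GolayPt → ℤ | x ∈ Cfsg.leechLattice ∧ Cfsg.sqNorm x = 32} = Cfsg.leechLattice :=
  main

end Cfsg.Agent.S1567
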