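import Cfsg.Statements.S0379
import Cfsg.Agent.S0378
import Cfsg.Agent.S0366
import Cfsg.Agent.Lib.Helper7_Simple2
import Cfsg.Agent.Lib.Helper7_Perm
import Cfsg.Agent.Lib.Helper7_Base
import Cfsg.Agent.Lib.Helper7_Bits

set_option autoImplicit false
set_option linter.style.haveILetI false
open Cfsg

namespace Cfsg.Agent.S0379

open MulAction Cfsg.Agent.Lib.Helper7_Simple Cfsg.Agent.Lib.Helper7_Simple2
  Cfsg.Agent.Lib.Helper7_Bits Cfsg.Agent.Lib.Helper7_Perm Cfsg.Agent.Lib.Helper7_Base

/-! ### An explicit element of order 11: multiplication by 2 -/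

/-- `x ↦ 2x`. -/
def l0 : List ℕ := [0, 2, 4, 6, 8, 10, 12, 14, 16, 18, 20, 22, 1, 3, 5, 7, 9, 11, 13, 15, 17, 19, 21, 23]

/-- `x ↦ 12x`. -/
def l0' : List ℕ := [0, 12, 1, 13, 2, 14, 3, 15, 4, 16, 5, 17, 6, 18, 7, 19, 8, 20, 9, 21, 10, 22, 11, 23]

theorem chk : checkM24 l0 l0' = true := by decide +kernel

theorem chk1 : checkInv l0 l0' = true := by
  have h := chk
  unfold checkM24 at h
  rw [Bool.and_eq_true, Bool.and_eq_true] at h
  exact h.1.1

theorem chk2 : checkInv l0' l0 = true := by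
  have h := chk
  unfold checkM24 at h
  rw [Bool.and_eq_true, Bool.and_eq_true] at h
  exact h.1.2

theorem chk3 : checkCode l0' = true := by
  have h := chk
  unfold checkM24 at h
  rw [Bool.and_eq_true, Bool.and_eq_true] at h
  exact h.2

/-- Multiplication by 2, as a permutation of the 24 points. -/
def g0 : Equiv.Perm GolayPt := listPerm l0 l0' chk1 chk2

theorem g0_mem : g0 ∈ M24 := listPerm_mem_M24 l0 l0' chk1 chk2 chk3

theorem g0_fix23 : g0 (dec 23) = dec 23 := by decide

theorem g0_fix0 : g0 (dec 0) = dec 0 := by decide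

theorem g0_iter : ∀ p : GolayPt, (g0 : GolayPt → GolayPt)^[11] p = p := by decide

theorem g0_move : g0 (dec 1) ≠ dec 1 := by decide

theorem g0_pow : g0 ^ 11 = 1 := by
  apply Equiv.ext
  intro p
  rw [← Equiv.Perm.iterate_eq_pow]
  exact g0_iter p

theorem g0_ne_one : g0 ≠ 1 := by
  intro h
  apply g0_move
  rw [h]
  rfl

/-- The mask of the points `∞, 0` and the nonzero squares (the orbit of `1`). -/
def mask13 : ℕ := 8729439

theorem mask_cases : ∀ p : GolayPt, mask13.testBit (enc p) = true →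
    p = dec 23 ∨ p = dec 0 ∨ ∃ j : Fin 11, p = (g0 : GolayPt → GolayPt)^[j.val] (dec 1) := by
  decide

/-- Certificate: fixing the 13 points of `mask13` forces the identity. -/
def cert13 : List (ℕ × ℕ × ℕ) :=
  [(10, 5279, 69395), (7, 5279, 15777), (5, 10558, 18147), (11, 10558, 15777),
   (14, 18147, 21116), (15, 36294, 39257), (17, 133817, 138790), (19, 525274, 530245),
   (20, 1050548, 1053483), (21, 2101096, 2104311), (22, 4196943, 4202192)]

theorem cert13_ok : checkBase mask13 cert13 = true := by decide +kernel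

/-- An element of `M24` fixing `∞`, `0`, `1` and commuting with `g0` is trivial. -/
theorem key_std (c : Equiv.Perm GolayPt) (hc : c ∈ M24) (h23 : c (dec 23) = dec 23)
    (h0 : c (dec 0) = dec 0) (hcomm : ∀ x, c (g0 x) = g0 (c x)) (h1 : c (dec 1) = dec 1) :
    c = 1 := by
  apply checkBase_sound c hc cert13 mask13 _ cert13_ok
  intro p hp
  rw [mem_maskSet] at hp
  rcases mask_cases p hp with rfl | rfl | ⟨j, rfl⟩
  · exact h23
  · exact h0
  · have hco : Function.Commute (c : GolayPt → GolayPt) (g0 : GolayPt → GolayPt) := hcomm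
    have := (hco.iterate_right j.val).eq (dec 1)
    rw [this, h1]

/-! ### The action on the 22 remaining points -/

/-- The stabiliser of two points. -/
abbrev G2 (p q : GolayPt) : Subgroup M24 := stabilizer M24 p ⊓ stabilizer M24 q

theorem G2_fix (p q : GolayPt) (g : G2 p q) :
    ((g : M24) : Equiv.Perm GolayPt) p = p ∧ ((g : M24) : Equiv.Perm GolayPt) q = q :=
  ⟨g.2.1, g.2.2⟩

/-- The 22 points other than `p`, `q`, with the action of the stabiliser. -/
def pts (p q : GolayPt) : SubMulAction (G2 p q) GolayPt where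
  carrier := {x | x ≠ p ∧ x ≠ q}
  smul_mem' := by
    intro g x hx
    obtain ⟨hgp, hgq⟩ := G2_fix p q g
    constructor
    · intro h
      apply hx.1
      apply ((g : M24) : Equiv.Perm GolayPt).injective
      exact h.trans hgp.symm
    · intro h
      apply hx.2
      apply ((g : M24) : Equiv.Perm GolayPt).injective
      exact h.trans hgq.symm

theorem smul_pts (p q : GolayPt) (g : G2 p q) (x : pts p q) :
    ((g • x : pts p q) : GolayPt) = ((g : M24) : Equiv.Perm GolayPt) (x : GolayPt) := rfl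

instance faithful_pts (p q : GolayPt) : FaithfulSMul (G2 p q) (pts p q) where
  eq_of_smul_eq_smul := by
    intro g h hgh
    apply Subtype.ext
    apply Subtype.ext
    apply Equiv.ext
    intro x
    by_cases hx : x ≠ p ∧ x ≠ q
    · have := hgh ⟨x, hx⟩
      exact congrArg Subtype.val this
    · obtain ⟨hgp, hgq⟩ := G2_fix p q g
      obtain ⟨hhp, hhq⟩ := G2_fix p q h
      by_cases hxp : x = p
      · rw [hxp]; exact hgp.trans hhp.symm
      · have hxq : x = q := by
          by_contra hxq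
          exact hx ⟨hxp, hxq⟩
        rw [hxq]; exact hgq.trans hhq.symm

theorem card_golayPt : Nat.card GolayPt = 24 := by
  rw [Nat.card_eq_fintype_card]; decide

theorem card_pts (p q : GolayPt) (hpq : p ≠ q) : Nat.card (pts p q) = 22 := by
  classical
  have h1 : Nat.card (pts p q) = Nat.card {x : GolayPt // x ≠ p ∧ x ≠ q} := rfl
  rw [h1, Nat.card_eq_fintype_card, Fintype.card_subtype]
  have h2 : (Finset.univ.filter fun x : GolayPt => x ≠ p ∧ x ≠ q) =
      (Finset.univ.erase p).erase q := by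
    ext x
    simp only [Finset.mem_filter, Finset.mem_univ, true_and, Finset.mem_erase, and_true]
    tauto
  rw [h2, Finset.card_erase_of_mem, Finset.card_erase_of_mem (Finset.mem_univ p), Finset.card_univ]
  · decide
  · exact Finset.mem_erase.mpr ⟨hpq.symm, Finset.mem_univ q⟩

/-- An embedding of `Fin 4` from four distinct points. -/
def emb4 (a b c d : GolayPt) (hab : a ≠ b) (hc : c ≠ a ∧ c ≠ b) (hd : d ≠ a ∧ d ≠ b)
    (hcd : c ≠ d) : Fin 4 ↪ GolayPt where
  toFun := ![a, b, c, d]
  inj' := by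
    obtain ⟨hc1, hc2⟩ := hc
    obtain ⟨hd1, hd2⟩ := hd
    intro i j h
    fin_cases i <;> fin_cases j <;> simp_all

theorem two_trans (p q : GolayPt) (hpq : p ≠ q) :
    IsMultiplyPretransitive (G2 p q) (pts p q) 2 := by
  have h5 := Cfsg.Agent.S0366.result
  have h4 : IsMultiplyPretransitive M24 GolayPt 4 :=
    isMultiplyPretransitive_of_le (n := 5) (by norm_num) (by rw [card_golayPt]; norm_num)
  rw [isMultiplyPretransitive_iff]
  intro x y
  have hx01 : ((x 0 : pts p q) : GolayPt) ≠ ((x 1 : pts p q) : GolayPt) := by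
    intro h
    have := x.injective (Subtype.ext h)
    exact absurd this (by decide)
  have hy01 : ((y 0 : pts p q) : GolayPt) ≠ ((y 1 : pts p q) : GolayPt) := by
    intro h
    have := y.injective (Subtype.ext h)
    exact absurd this (by decide)
  let X := emb4 p q (x 0) (x 1) hpq (x 0).2 (x 1).2 hx01
  let Y := emb4 p q (y 0) (y 1) hpq (y 0).2 (y 1).2 hy01
  obtain ⟨g, hg⟩ := (isMultiplyPretransitive_iff.mp h4) X Y
  have hgi : ∀ i, (g : Equiv.Perm GolayPt) (X i) = Y i := fun i =>
    congrArg (fun z : Fin 4 ↪ GolayPt => z i) hg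
  have hgG : g ∈ G2 p q := ⟨hgi 0, hgi 1⟩
  refine ⟨⟨g, hgG⟩, ?_⟩
  apply Function.Embedding.ext
  intro i
  apply Subtype.ext
  fin_cases i
  · exact hgi 2
  · exact hgi 3

/-! ### The Sylow 11-normaliser -/

theorem fact11 : Fact (Nat.Prime 11) := ⟨by norm_num⟩

attribute [local instance] fact11

theorem arith (c k n : ℕ) (hc : c = 11 ∨ c = 22) (hk : k ∣ 11 - 1)
    (h : n * (c * k) = 11 * 40320) (hn : n % 11 = 1) : c * k = 11 * 5 := by
  have hk10 : k ≤ 10 := Nat.le_of_dvd (by norm_num) hk
  have hk0 : 0 < k := Nat.pos_of_dvd_of_pos hk (by norm_num)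
  rcases hc with rfl | rfl <;> interval_cases k <;> omega

/-- Two points stabiliser in the group of the length-24 code is simple. -/
theorem result (p q : Cfsg.GolayPt) (hpq : p ≠ q) : IsSimpleGroup ↥(MulAction.stabilizer Cfsg.M24 p ⊓ MulAction.stabilizer Cfsg.M24 q) := by
  -- move the standard pair of points to `(p, q)`
  have h5 := Cfsg.Agent.S0366.result
  have h2 : IsMultiplyPretransitive M24 GolayPt 2 :=
    isMultiplyPretransitive_of_le (n := 5) (by norm_num) (by rw [card_golayPt]; norm_num)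
  have hne : (dec 23 : GolayPt) ≠ dec 0 := by decide
  have h2' : ∃ g : M24, g • (dec 23 : GolayPt) = p ∧ g • (dec 0 : GolayPt) = q :=
    is_two_pretransitive_iff.mp h2 hne hpq
  obtain ⟨u, hu23, hu0⟩ := h2'
  have hu23' : (u : Equiv.Perm GolayPt) (dec 23) = p := hu23
  have hu0' : (u : Equiv.Perm GolayPt) (dec 0) = q := hu0
  have huinv23 : (u : Equiv.Perm GolayPt)⁻¹ p = dec 23 := by
    rw [Equiv.Perm.inv_eq_iff_eq, hu23']
  have huinv0 : (u : Equiv.Perm GolayPt)⁻¹ q = dec 0 := by
    rw [Equiv.Perm.inv_eq_iff_eq, hu0']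
  -- the conjugate of `g0`
  set w : Equiv.Perm GolayPt := (u : Equiv.Perm GolayPt) * g0 * (u : Equiv.Perm GolayPt)⁻¹ with hw
  have hwM : w ∈ M24 := M24.mul_mem (M24.mul_mem u.2 g0_mem) (M24.inv_mem u.2)
  have hwp : w p = p := by
    show (u : Equiv.Perm GolayPt) (g0 ((u : Equiv.Perm GolayPt)⁻¹ p)) = p
    rw [huinv23, g0_fix23, hu23']
  have hwq : w q = q := by
    show (u : Equiv.Perm GolayPt) (g0 ((u : Equiv.Perm GolayPt)⁻¹ q)) = q
    rw [huinv0, g0_fix0, hu0']
  have hword : orderOf w = 11 := by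
    apply orderOf_eq_prime
    · rw [hw, conj_pow, g0_pow]
      simp
    · intro h
      apply g0_ne_one
      have : g0 = (u : Equiv.Perm GolayPt)⁻¹ * w * (u : Equiv.Perm GolayPt) := by
        rw [hw]; group
      rw [this, h]
      simp
  let wG : G2 p q := ⟨⟨w, hwM⟩, ⟨hwp, hwq⟩⟩
  have hwG : orderOf wG = 11 := by
    rw [← Subgroup.orderOf_coe wG, ← Subgroup.orderOf_coe (wG : M24)]
    exact hword
  have hG : Nat.card (G2 p q) = 11 * 40320 := Cfsg.Agent.S0378.result p q hpq
  -- the Sylow subgroup generated by `wG`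
  have hpg : IsPGroup 11 (Subgroup.zpowers wG) :=
    IsPGroup.of_card (n := 1) (by rw [Nat.card_zpowers, hwG, pow_one])
  obtain ⟨P0, hP0⟩ := hpg.exists_le_sylow
  have hwP0 : wG ∈ (P0 : Subgroup (G2 p q)) := hP0 (Subgroup.mem_zpowers wG)
  have hP0c := sylow_card hG (by norm_num) P0
  -- the centraliser has order at most 24
  have hinj : Function.Injective
      (fun c : Subgroup.centralizer ((P0 : Subgroup (G2 p q)) : Set (G2 p q)) =>
        (((c : G2 p q) : M24) : Equiv.Perm GolayPt) ((u : Equiv.Perm GolayPt) (dec 1))) := by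
    intro c c' hcc'
    simp only at hcc'
    -- `d = c⁻¹ c'` commutes with `w`
    have hcw : (c : G2 p q) * wG = wG * (c : G2 p q) :=
      ((Subgroup.mem_centralizer_iff.mp c.2) wG hwP0).symm
    have hcw' : (c' : G2 p q) * wG = wG * (c' : G2 p q) :=
      ((Subgroup.mem_centralizer_iff.mp c'.2) wG hwP0).symm
    set cp : Equiv.Perm GolayPt := (((c : G2 p q) : M24) : Equiv.Perm GolayPt) with hcp
    set cp' : Equiv.Perm GolayPt := (((c' : G2 p q) : M24) : Equiv.Perm GolayPt) with hcp'
    have e1 : cp * w = w * cp := by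
      have := congrArg (fun z : G2 p q => ((z : M24) : Equiv.Perm GolayPt)) hcw
      exact this
    have e2 : cp' * w = w * cp' := by
      have := congrArg (fun z : G2 p q => ((z : M24) : Equiv.Perm GolayPt)) hcw'
      exact this
    set d : Equiv.Perm GolayPt := (u : Equiv.Perm GolayPt)⁻¹ * (cp⁻¹ * cp') * (u : Equiv.Perm GolayPt)
      with hd
    have hdM : d ∈ M24 :=
      M24.mul_mem (M24.mul_mem (M24.inv_mem u.2)
        (M24.mul_mem (M24.inv_mem (c : G2 p q).1.2) (c' : G2 p q).1.2)) u.2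
    have hcpp : cp p = p := (G2_fix p q c).1
    have hcpq : cp q = q := (G2_fix p q c).2
    have hcpp' : cp' p = p := (G2_fix p q c').1
    have hcpq' : cp' q = q := (G2_fix p q c').2
    have hd23 : d (dec 23) = dec 23 := by
      show (u : Equiv.Perm GolayPt)⁻¹ (cp⁻¹ (cp' ((u : Equiv.Perm GolayPt) (dec 23)))) = dec 23
      rw [hu23', hcpp', Equiv.Perm.inv_eq_iff_eq.mpr hcpp.symm, huinv23]
    have hd0 : d (dec 0) = dec 0 := by
      show (u : Equiv.Perm GolayPt)⁻¹ (cp⁻¹ (cp' ((u : Equiv.Perm GolayPt) (dec 0)))) = dec 0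
      rw [hu0', hcpq', Equiv.Perm.inv_eq_iff_eq.mpr hcpq.symm, huinv0]
    have hd1 : d (dec 1) = dec 1 := by
      show (u : Equiv.Perm GolayPt)⁻¹ (cp⁻¹ (cp' ((u : Equiv.Perm GolayPt) (dec 1)))) = dec 1
      rw [← hcc', Equiv.Perm.inv_eq_iff_eq.mpr rfl]
      simp
    have hdcomm : d * g0 = g0 * d := by
      have hg0 : g0 = (u : Equiv.Perm GolayPt)⁻¹ * w * (u : Equiv.Perm GolayPt) := by
        rw [hw]; group
      have e3 : (cp⁻¹ * cp') * w = w * (cp⁻¹ * cp') := by
        have e1' : cp⁻¹ * w = w * cp⁻¹ := by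
          rw [eq_mul_inv_iff_mul_eq, mul_assoc, ← e1, ← mul_assoc, inv_mul_cancel, one_mul]
        rw [mul_assoc, e2, ← mul_assoc, e1', mul_assoc]
      rw [hd, hg0]
      calc (u : Equiv.Perm GolayPt)⁻¹ * (cp⁻¹ * cp') * (u : Equiv.Perm GolayPt) *
            ((u : Equiv.Perm GolayPt)⁻¹ * w * (u : Equiv.Perm GolayPt))
          = (u : Equiv.Perm GolayPt)⁻¹ * ((cp⁻¹ * cp') * w) * (u : Equiv.Perm GolayPt) := by group
        _ = (u : Equiv.Perm GolayPt)⁻¹ * (w * (cp⁻¹ * cp')) * (u : Equiv.Perm GolayPt) := by rw [e3]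
        _ = _ := by group
    have hdone : d = 1 := key_std d hdM hd23 hd0
      (fun x => congrArg (fun z : Equiv.Perm GolayPt => z x) hdcomm) hd1
    have hcc : cp = cp' := by
      have : cp⁻¹ * cp' = 1 := by
        have h1 : cp⁻¹ * cp' = (u : Equiv.Perm GolayPt) * d * (u : Equiv.Perm GolayPt)⁻¹ := by
          rw [hd]; group
        rw [h1, hdone]; group
      exact (inv_mul_eq_one.mp this)
    apply Subtype.ext
    apply Subtype.ext
    apply Subtype.ext
    exact hcc
  have hcard_le : Nat.card (Subgroup.centralizer ((P0 : Subgroup (G2 p q)) : Set (G2 p q))) ≤ 24 := by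
    have := Nat.card_le_card_of_injective _ hinj
    rwa [card_golayPt] at this
  have hcard_dvd : 11 ∣ Nat.card (Subgroup.centralizer ((P0 : Subgroup (G2 p q)) : Set (G2 p q))) := by
    have hle : (P0 : Subgroup (G2 p q)) ≤
        Subgroup.centralizer ((P0 : Subgroup (G2 p q)) : Set (G2 p q)) := by
      rw [Subgroup.le_centralizer_iff_isMulCommutative]
      haveI := isCyclic_of_prime_card hP0c
      exact IsCyclic.isMulCommutative
    have := Subgroup.card_dvd_of_le hle
    rwa [hP0c] at this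
  have hcases : Nat.card (Subgroup.centralizer ((P0 : Subgroup (G2 p q)) : Set (G2 p q))) = 11 ∨
      Nat.card (Subgroup.centralizer ((P0 : Subgroup (G2 p q)) : Set (G2 p q))) = 22 := by
    have hpos : 0 < Nat.card (Subgroup.centralizer ((P0 : Subgroup (G2 p q)) : Set (G2 p q))) :=
      Nat.card_pos
    generalize Nat.card (Subgroup.centralizer ((P0 : Subgroup (G2 p q)) : Set (G2 p q))) = m at *
    obtain ⟨r, rfl⟩ := hcard_dvd
    omega
  have hnorm : Nat.card (Subgroup.normalizer ((P0 : Subgroup (G2 p q)) : Set (G2 p q))) = 11 * 5 :=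
    card_normalizer_sylow' hG (by norm_num) P0
      (fun c k n hk h hn hc => arith c k n (hc ▸ hcases) hk h hn)
  -- primitivity on the 22 points
  haveI : IsPreprimitive (G2 p q) (pts p q) :=
    isPreprimitive_of_is_two_pretransitive (two_trans p q hpq)
  have hα : Nat.card (pts p q) = 22 := card_pts p q hpq
  haveI : Nonempty (pts p q) := by
    rw [← Nat.card_pos_iff.trans ⟨fun h => h.1, fun h => ⟨h, inferInstance⟩⟩, hα]
    norm_num
  exact isSimpleGroup_of_preprimitive_sylow (α := pts p q) (p := 11) (t := 40320) (q := 5)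
    (by norm_num) hG (by norm_num) (by rw [hα]; norm_num) (by rw [hα]; norm_num) P0 hnorm

end Cfsg.Agent.S0379
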