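import Cfsg.Statements.S0414
import Cfsg.Agent.S0363
import Cfsg.Agent.S0378
import Cfsg.Agent.S0379
import Cfsg.Agent.Lib.Helper41_S22b
import Cfsg.Agent.Lib.Helper41_S22c
import Cfsg.Agent.Lib.Helper41_S22d
import Cfsg.Agent.Lib.Helper41_S22e

set_option autoImplicit false
open Cfsg

namespace Cfsg.Agent.S0414

open Cfsg.Agent.Lib.Helper41_S22b Cfsg.Agent.Lib.Helper41_S22c Cfsg.Agent.Lib.Helper41_S22d
  Cfsg.Agent.Lib.Helper41_S22e

/-- the group of the code preserves the octads -/
theorem m24_le_aut_octads : (Cfsg.M24 : Subgroup (Equiv.Perm Cfsg.GolayPt)) ≤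
    Cfsg.setSystemAut Cfsg.octads := by
  intro g hg
  apply mem_aut_of_forall_fin
  intro o ho
  refine ⟨image_mem_of_mem_aut hg ho.1, ?_⟩
  rw [Finset.card_image_of_injective _ g.injective]
  exact ho.2

theorem fix_fst {p q : Cfsg.GolayPt}
    (g : ↥(MulAction.stabilizer Cfsg.M24 p ⊓ MulAction.stabilizer Cfsg.M24 q)) :
    (g.1.1 : Equiv.Perm Cfsg.GolayPt) p = p :=
  MulAction.mem_stabilizer_iff.mp (Subgroup.mem_inf.mp g.2).1

theorem fix_snd {p q : Cfsg.GolayPt}
    (g : ↥(MulAction.stabilizer Cfsg.M24 p ⊓ MulAction.stabilizer Cfsg.M24 q)) :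
    (g.1.1 : Equiv.Perm Cfsg.GolayPt) q = q :=
  MulAction.mem_stabilizer_iff.mp (Subgroup.mem_inf.mp g.2).2

/-- the action of the two-point stabiliser on the remaining 22 points -/
def m22Hom (p q : Cfsg.GolayPt) :
    ↥(MulAction.stabilizer Cfsg.M24 p ⊓ MulAction.stabilizer Cfsg.M24 q) →*
      Equiv.Perm (Pts2 p q) where
  toFun g := restrict2 p q g.1.1 (fix_fst g) (fix_snd g)
  map_one' := by
    ext y
    rfl
  map_mul' := by
    intro g h
    ext y
    rfl

theorem m22Hom_injective (p q : Cfsg.GolayPt) : Function.Injective (m22Hom p q) := by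
  intro g h hgh
  apply Subtype.ext
  apply Subtype.ext
  exact restrict2_injective p q (fix_fst g) (fix_snd g) (fix_fst h) (fix_snd h) hgh

theorem m22Hom_mem (p q : Cfsg.GolayPt)
    (g : ↥(MulAction.stabilizer Cfsg.M24 p ⊓ MulAction.stabilizer Cfsg.M24 q)) :
    m22Hom p q g ∈ Cfsg.setSystemAut (derived2 Cfsg.octads p q) :=
  restrict2_mem_aut p q g.1.1 (fix_fst g) (fix_snd g) (m24_le_aut_octads g.1.2)

/-- Aut of an S(3, 6, 22) has order 887040, is 3-transitive, and contains a simple subgroup of index 2. -/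
theorem result {α : Type*} [Fintype α] [DecidableEq α] (hα : Fintype.card α = 22) {B : Set (Finset α)} (hB : Cfsg.IsSteinerSystem 3 6 B) : Nat.card (Cfsg.setSystemAut B) = 887040 ∧ MulAction.IsMultiplyPretransitive (Cfsg.setSystemAut B) α 3 ∧ ∃ H : Subgroup (Cfsg.setSystemAut B), H.index = 2 ∧ Cfsg.IsM22 H := by
  classical
  have hcardG := card_aut hα hB
  refine ⟨hcardG, three_transitive hα hB, ?_⟩
  have hpq : (none : Cfsg.GolayPt) ≠ some 0 := by decide
  have hB₀ : Cfsg.IsSteinerSystem 3 6 (derived2 Cfsg.octads (none : Cfsg.GolayPt) (some 0)) :=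
    derived2_steiner hpq Cfsg.Agent.S0363.result
  have hcard₀ : Fintype.card (Pts2 (none : Cfsg.GolayPt) (some 0)) = 22 :=
    card_pts2 (by decide) hpq
  obtain ⟨e, he⟩ := steiner22_unique hcard₀ hα hB₀ hB
  let J : ↥(MulAction.stabilizer Cfsg.M24 (none : Cfsg.GolayPt) ⊓
      MulAction.stabilizer Cfsg.M24 (some 0 : Cfsg.GolayPt)) →* Equiv.Perm α :=
    (Equiv.permCongrHom e).toMonoidHom.comp (m22Hom none (some 0))
  have hJmem : ∀ g, J g ∈ Cfsg.setSystemAut B := fun g =>
    permCongr_mem_aut e he (m22Hom_mem none (some 0) g)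
  have hJinj : Function.Injective (J.codRestrict (Cfsg.setSystemAut B) hJmem) := by
    intro g h hgh
    have h1 : J g = J h := congrArg Subtype.val hgh
    exact m22Hom_injective none (some 0) ((Equiv.permCongrHom e).injective h1)
  refine ⟨(J.codRestrict (Cfsg.setSystemAut B) hJmem).range, ?_, ?_, ?_⟩
  · have h1 := Subgroup.index_mul_card (J.codRestrict (Cfsg.setSystemAut B) hJmem).range
    have h2 : Nat.card ↥(J.codRestrict (Cfsg.setSystemAut B) hJmem).range = 443520 := by
      rw [← Nat.card_congr (MonoidHom.ofInjective hJinj).toEquiv]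
      exact Cfsg.Agent.S0378.result none (some 0) hpq
    rw [h2, hcardG] at h1
    omega
  · have := Cfsg.Agent.S0379.result none (some 0) hpq
    exact (MonoidHom.ofInjective hJinj).symm.isSimpleGroup
  · rw [← Nat.card_congr (MonoidHom.ofInjective hJinj).toEquiv]
    exact Cfsg.Agent.S0378.result none (some 0) hpq

end Cfsg.Agent.S0414
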