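import Cfsg.Statements.S0430
import Cfsg.Agent.Lib.Helper41_S22b
import Cfsg.Agent.Lib.Helper41_HSloc
import Cfsg.Agent.Lib.Helper41_HSloc2
import Cfsg.Agent.Lib.Helper41_HSaut

set_option autoImplicit false
open Cfsg

namespace Cfsg.Agent.S0430

/-- Uniqueness of the strongly regular graph with parameters (100, 22, 0, 6). -/
theorem result {V W : Type*} [Fintype V] [Fintype W] {G : SimpleGraph V} {H : SimpleGraph W} [DecidableRel G.Adj] [DecidableRel H.Adj] (hG : G.IsSRGWith 100 22 0 6) (hH : H.IsSRGWith 100 22 0 6) : Nonempty (G ≃g H) := by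
  classical
  have hg := Cfsg.Agent.Lib.Helper41_HSloc.isHS_of_srg G hG
  have hh := Cfsg.Agent.Lib.Helper41_HSloc.isHS_of_srg H hH
  obtain ⟨v⟩ : Nonempty V := by
    rw [← Fintype.card_pos_iff, hG.card]
    norm_num
  obtain ⟨w⟩ : Nonempty W := by
    rw [← Fintype.card_pos_iff, hH.card]
    norm_num
  obtain ⟨e, he⟩ := Cfsg.Agent.Lib.Helper41_S22b.steiner22_unique
    (Cfsg.Agent.Lib.Helper41_HSloc2.card_lpts hg v) (Cfsg.Agent.Lib.Helper41_HSloc2.card_lpts hh w)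
    (Cfsg.Agent.Lib.Helper41_HSloc2.localSys_steiner hg v)
    (Cfsg.Agent.Lib.Helper41_HSloc2.localSys_steiner hh w)
  exact ⟨((Cfsg.Agent.Lib.Helper41_HSloc2.locIso hg v).trans
    (Cfsg.Agent.Lib.Helper41_HSaut.pbgIso e he)).trans
    (Cfsg.Agent.Lib.Helper41_HSloc2.locIso hh w).symm⟩

end Cfsg.Agent.S0430
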