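import Mathlib
import Cfsg.Agent.Lib.Helper26_HSTriple

set_option autoImplicit false

namespace Cfsg.Agent.S1584

open Cfsg Cfsg.Agent.Lib.Helper26_VecCode Cfsg.Agent.Lib.Helper26_HSPair
  Cfsg.Agent.Lib.Helper26_HSTriple

theorem k1 : Cfsg.Agent.Lib.Helper26_CfgHS22.con1.k = 24 := by decide +kernel
theorem k2 : Cfsg.Agent.Lib.Helper26_CfgHS22.con2.k = -24 := by decide +kernel
theorem k3 : Cfsg.Agent.Lib.Helper26_CfgHS22.con3.k = 8 := by decide +kernel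
theorem k1' : Cfsg.Agent.Lib.Helper26_CfgHS77.con1.k = 24 := by decide +kernel
theorem k2' : Cfsg.Agent.Lib.Helper26_CfgHS77.con2.k = -24 := by decide +kernel
theorem k3' : Cfsg.Agent.Lib.Helper26_CfgHS77.con3.k = 16 := by decide +kernel

theorem result (v w x : ↥Cfsg.leechLattice) (hv : Cfsg.sqNorm (v : Cfsg.GolayPt → ℤ) = 48) (hw : Cfsg.sqNorm (w : Cfsg.GolayPt → ℤ) = 48) (hvw : Cfsg.dotInt (v : Cfsg.GolayPt → ℤ) (w : Cfsg.GolayPt → ℤ) = -32) (hx : x ∈ {x : ↥Cfsg.leechLattice | Cfsg.sqNorm (x : Cfsg.GolayPt → ℤ) = 32 ∧ Cfsg.dotInt (v : Cfsg.GolayPt → ℤ) (x : Cfsg.GolayPt → ℤ) = 24 ∧ Cfsg.dotInt (w : Cfsg.GolayPt → ℤ) (x : Cfsg.GolayPt → ℤ) = -24}) : {y : ↥Cfsg.leechLattice | y ∈ {x : ↥Cfsg.leechLattice | Cfsg.sqNorm (x : Cfsg.GolayPt → ℤ) = 32 ∧ Cfsg.dotInt (v : Cfsg.GolayPt → ℤ) (x : Cfsg.GolayPt → ℤ) = 24 ∧ Cfsg.dotInt (w : Cfsg.GolayPt → ℤ) (x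 : Cfsg.GolayPt → ℤ) = -24} ∧ Cfsg.dotInt (x : Cfsg.GolayPt → ℤ) (y : Cfsg.GolayPt → ℤ) = 8}.ncard = 22 ∧ {y : ↥Cfsg.leechLattice | y ∈ {x : ↥Cfsg.leechLattice | Cfsg.sqNorm (x : Cfsg.GolayPt → ℤ) = 32 ∧ Cfsg.dotInt (v : Cfsg.GolayPt → ℤ) (x : Cfsg.GolayPt → ℤ) = 24 ∧ Cfsg.dotInt (w : Cfsg.GolayPt → ℤ) (x : Cfsg.GolayPt → ℤ) = -24} ∧ y ≠ x ∧ Cfsg.dotInt (x : Cfsg.GolayPt → ℤ) (y : Cfsg.GolayPt → ℤ) ≠ 8}.ncard = 77 ∧ ∀ y ∈ {x : ↥Cfsg.leechLattice | Cfsg.sqNorm (x : Cfsg.GolayPt → ℤ) = 32 ∧ Cfsg.dotInt (v : Cfsg.GolayPt → ℤ) (x : Cfsg.GolayPt → ℤ) = 24 ∧ Cfsg.dotInt (w : Cfsg.GolayPt → ℤ) (x : Cfsg.GolayPt → ℤ) = -24}, ∀ y' ∈ {x : ↥Cfsg.leechLattice | Cfsg.sqNorm (x : Cfsg.GolayPt → ℤ) = 32 ∧ Cfsg.dotInt (v : Cfsg.GolayPt → ℤ) (x : Cfsg.GolayPt → ℤ) = 24 ∧ Cfsg.dotInt (w : Cfsg.GolayPt → ℤ) (x : Cfsg.GolayPt → ℤ) = -24}, y ≠ x → y' ≠ x → (Cfsg.dotInt (x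 : Cfsg.GolayPt → ℤ) (y : Cfsg.GolayPt → ℤ) = 8 ↔ Cfsg.dotInt (x : Cfsg.GolayPt → ℤ) (y' : Cfsg.GolayPt → ℤ) = 8) → ∃ g : ↥Cfsg.Co0, g • v = v ∧ g • w = w ∧ g • x = x ∧ g • y = y' := by
  obtain ⟨h, h1, h2, h3⟩ := to_std3 v w x hv hw hvw hx
  have hv1 : ((h.1 v : leechLattice) : GolayPt → ℤ) =
      vecC Cfsg.Agent.Lib.Helper26_CfgHS22.con1.a := by rw [h1, c1_eq]; rfl
  have hw1 : ((h.1 w : leechLattice) : GolayPt → ℤ) =
      vecC Cfsg.Agent.Lib.Helper26_CfgHS22.con2.a := by rw [h2, c2_eq]; rfl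
  have hx1 : ((h.1 x : leechLattice) : GolayPt → ℤ) =
      vecC Cfsg.Agent.Lib.Helper26_CfgHS22.con3.a := by rw [h3]; rfl
  have hv2 : ((h.1 v : leechLattice) : GolayPt → ℤ) =
      vecC Cfsg.Agent.Lib.Helper26_CfgHS77.con1.a := by rw [h1, c1_eq']; rfl
  have hw2 : ((h.1 w : leechLattice) : GolayPt → ℤ) =
      vecC Cfsg.Agent.Lib.Helper26_CfgHS77.con2.a := by rw [h2, c2_eq']; rfl
  have hx2 : ((h.1 x : leechLattice) : GolayPt → ℤ) =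
      vecC Cfsg.Agent.Lib.Helper26_CfgHS77.con3.a := by rw [h3, c3_eq']; rfl
  have T22 := apply_three _ _ _ 22 Cfsg.Agent.Lib.Helper26_CfgHS22.std h.1 h.2 v w x hv1 hw1 hx1
  have T77 := apply_three _ _ _ 77 Cfsg.Agent.Lib.Helper26_CfgHS77.std h.1 h.2 v w x hv2 hw2 hx2
  rw [k1, k2, k3] at T22
  rw [k1', k2', k3'] at T77
  obtain ⟨cA, tA⟩ := T22
  obtain ⟨cB, tB⟩ := T77
  have hS := (Cfsg.Agent.S1583.result v w hv hw hvw).1
  have hxx : dotInt (x : GolayPt → ℤ) (x : GolayPt → ℤ) = 32 := by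
    rw [dot_self]; exact hx.1
  have part := partition3 _ _ _ x 100 22 77 hS cA cB (by norm_num) hx
    (fun y hy => ⟨hy.1, hy.2.1, hy.2.2.1⟩) (fun y hy => ⟨hy.1, hy.2.1, hy.2.2.1⟩)
    (fun hxA => by
      have := hxA.2.2.2
      rw [hxx] at this
      norm_num at this)
    (fun hxB => by
      have := hxB.2.2.2
      rw [hxx] at this
      norm_num at this)
    (by
      rw [Set.disjoint_left]
      intro y hyA hyB
      have e1 := hyA.2.2.2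
      have e2 := hyB.2.2.2
      rw [e1] at e2
      norm_num at e2)
  refine ⟨?_, ?_, ?_⟩
  · refine Eq.trans (congrArg Set.ncard ?_) cA
    ext y
    constructor
    · rintro ⟨⟨a, b, c⟩, d⟩; exact ⟨a, b, c, d⟩
    · rintro ⟨a, b, c, d⟩; exact ⟨⟨a, b, c⟩, d⟩
  · refine Eq.trans (congrArg Set.ncard ?_) cB
    ext y
    constructor
    · rintro ⟨hy, hne, hd⟩
      rcases part y hy with rfl | hA | hB
      · exact absurd rfl hne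
      · exact absurd hA.2.2.2 hd
      · exact hB
    · rintro ⟨a, b, c, d⟩
      refine ⟨⟨a, b, c⟩, ?_, ?_⟩
      · rintro rfl
        rw [hxx] at d
        norm_num at d
      · rw [d]; norm_num
  · intro y hy y' hy' hne hne' hiff
    rcases part y hy with rfl | hA | hB
    · exact absurd rfl hne
    · rcases part y' hy' with rfl | hA' | hB'
      · exact absurd rfl hne'
      · exact tA y hA y' hA'
      · have := hiff.mp hA.2.2.2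
        rw [hB'.2.2.2] at this
        norm_num at this
    · rcases part y' hy' with rfl | hA' | hB'
      · exact absurd rfl hne'
      · have := hiff.mpr hA'.2.2.2
        rw [hB.2.2.2] at this
        norm_num at this
      · exact tB y hB y' hB'

end Cfsg.Agent.S1584
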