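import Cfsg.Statements.S3742

set_option autoImplicit false
open Cfsg

namespace Cfsg.Agent.S3742

open QuaternionGroup

/-- the quaternion group of order 8 -/
abbrev Q := QuaternionGroup 2

/-- a numbering of the elements -/
def code : Q → ℕ
  | a i => i.val
  | xa i => 4 + i.val

/-- powers with exponent in `ZMod 4` -/
def pw (u : Q) (i : ZMod (2 * 2)) : Q :=
  match i.val with
  | 0 => 1
  | 1 => u
  | 2 => u * u
  | _ => u * u * u

/-- the map determined by the images `u`, `v` of the generators `a 1`, `xa 0` -/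
def ev (u v : Q) : Q → Q
  | a i => pw u i
  | xa i => v * pw u i

/-- the action on the four diagonals, tabulated -/
def tbl : List (List (Fin 4)) :=
  [[0, 1, 2, 3],
  [0, 1, 2, 3],
  [0, 1, 2, 3],
  [0, 1, 2, 3],
  [0, 1, 2, 3],
  [0, 1, 2, 3],
  [0, 1, 2, 3],
  [0, 1, 2, 3],
  [0, 1, 2, 3],
  [0, 1, 2, 3],
  [0, 1, 2, 3],
  [0, 1, 2, 3],
  [0, 1, 2, 3],
  [3, 2, 0, 1],
  [1, 0, 3, 2],
  [2, 3, 1, 0],
  [0, 1, 2, 3],
  [0, 1, 2, 3],
  [0, 1, 2, 3],
  [0, 1, 2, 3],
  [0, 1, 2, 3],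
  [0, 1, 2, 3],
  [0, 1, 2, 3],
  [0, 1, 2, 3],
  [0, 1, 2, 3],
  [0, 1, 2, 3],
  [0, 1, 2, 3],
  [0, 1, 2, 3],
  [2, 3, 0, 1],
  [0, 1, 3, 2],
  [3, 2, 1, 0],
  [1, 0, 2, 3],
  [0, 1, 2, 3],
  [3, 1, 2, 0],
  [0, 1, 2, 3],
  [1, 3, 0, 2],
  [0, 1, 2, 3],
  [2, 0, 1, 3],
  [0, 1, 2, 3],
  [0, 2, 3, 1],
  [0, 1, 2, 3],
  [1, 2, 0, 3],
  [0, 1, 2, 3],
  [2, 1, 3, 0],
  [3, 0, 1, 2],
  [0, 1, 2, 3],
  [0, 3, 2, 1],
  [0, 1, 2, 3],
  [0, 1, 2, 3],
  [2, 0, 3, 1],
  [0, 1, 2, 3],
  [0, 2, 1, 3],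
  [0, 1, 2, 3],
  [1, 3, 2, 0],
  [0, 1, 2, 3],
  [3, 1, 0, 2],
  [0, 1, 2, 3],
  [0, 3, 1, 2],
  [0, 1, 2, 3],
  [3, 0, 2, 1],
  [1, 2, 3, 0],
  [0, 1, 2, 3],
  [2, 1, 0, 3],
  [0, 1, 2, 3]]

/-- the permutation of `Fin 4` attached to the pair `(u, v)` -/
def g (u v : Q) (k : Fin 4) : Fin 4 :=
  (tbl.getD (8 * code u + code v) []).getD k.val 0

/-- the pairs `(u, v)` that are images of the generators under an automorphism -/
def valid (u v : Q) : Prop := u * u = a 2 ∧ v * v = a 2 ∧ v ≠ u ∧ v ≠ u⁻¹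

instance (u v : Q) : Decidable (valid u v) := by
  unfold valid
  infer_instance

theorem key_mul : ∀ u v : Q, valid u v → ∀ x y : Q, ev u v (x * y) = ev u v x * ev u v y := by
  decide

theorem key_inj : ∀ u v : Q, valid u v → ∀ x y : Q, ev u v x = ev u v y → x = y := by
  decide

theorem key_comp : ∀ u v u' v' : Q, valid u v → valid u' v' →
    ∀ k : Fin 4, g (ev u v u') (ev u v v') k = g u v (g u' v' k) := by
  decide

theorem key_one : ∀ k : Fin 4, g (a 1) (xa 0) k = k := by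
  decide

theorem key_ker : ∀ u v : Q, valid u v → (∀ k : Fin 4, g u v k = k) → u = a 1 ∧ v = xa 0 := by
  decide

theorem key_surj : ∀ σ : Equiv.Perm (Fin 4), ∃ u v : Q, valid u v ∧ ∀ k : Fin 4, g u v k = σ k := by
  decide

theorem key_gen : ∀ u v : Q, ev u v (a 1) = u ∧ ev u v (xa 0) = v := by
  decide

theorem key_id : ∀ x : Q, ev (a 1) (xa 0) x = x := by
  decide

theorem key_a : ∀ i : ZMod (2 * 2), (a i : Q) = pw (a 1) i := by
  decide

theorem key_xa : ∀ i : ZMod (2 * 2), (xa i : Q) = xa 0 * pw (a 1) i := by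
  decide

theorem key_inv : ∀ x : Q, x * x = 1 → x ≠ 1 → x = a 2 := by
  decide

theorem map_pw (α : MulAut Q) (u : Q) (i : ZMod (2 * 2)) : α (pw u i) = pw (α u) i := by
  unfold pw
  split <;> simp [map_mul]

theorem ev_apply (α : MulAut Q) (x : Q) : α x = ev (α (a 1)) (α (xa 0)) x := by
  cases x with
  | a i =>
    change α (a i) = pw (α (a 1)) i
    rw [← map_pw]
    congr 1
    exact key_a i
  | xa i =>
    change α (xa i) = α (xa 0) * pw (α (a 1)) i
    rw [← map_pw, ← map_mul]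
    congr 1
    exact key_xa i

theorem map_a2 (α : MulAut Q) : α (a 2) = a 2 := by
  apply key_inv
  · rw [← map_mul]
    have : (a 2 : Q) * a 2 = 1 := by decide
    rw [this, map_one]
  · intro h
    have h2 : α (a 2) = α 1 := by rw [h, map_one]
    have := α.injective h2
    revert this
    decide

theorem valid_of (α : MulAut Q) : valid (α (a 1)) (α (xa 0)) := by
  refine ⟨?_, ?_, ?_, ?_⟩
  · rw [← map_mul]
    have : (a 1 : Q) * a 1 = a 2 := by decide
    rw [this, map_a2]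
  · rw [← map_mul]
    have : (xa 0 : Q) * xa 0 = a 2 := by decide
    rw [this, map_a2]
  · intro h
    have := α.injective h
    revert this
    decide
  · intro h
    rw [← map_inv] at h
    have := α.injective h
    revert this
    decide

/-- the action of `Aut(Q8)` on four points -/
instance act : MulAction (MulAut Q) (Fin 4) where
  smul α k := g (α (a 1)) (α (xa 0)) k
  one_smul k := key_one k
  mul_smul α β k := by
    change g ((α * β) (a 1)) ((α * β) (xa 0)) k
      = g (α (a 1)) (α (xa 0)) (g (β (a 1)) (β (xa 0)) k)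
    rw [MulAut.mul_apply, MulAut.mul_apply, ev_apply α (β (a 1)), ev_apply α (β (xa 0))]
    exact key_comp _ _ _ _ (valid_of α) (valid_of β) k

theorem smul_eq (α : MulAut Q) (k : Fin 4) : α • k = g (α (a 1)) (α (xa 0)) k := rfl

/-- the automorphism with prescribed images of the generators -/
noncomputable def aut (u v : Q) (h : valid u v) : MulAut Q :=
  MulEquiv.ofBijective (MonoidHom.mk' (ev u v) (key_mul u v h))
    ((Finite.injective_iff_bijective).mp (fun x y hxy => key_inj u v h x y hxy))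

theorem aut_apply (u v : Q) (h : valid u v) (x : Q) : aut u v h x = ev u v x := rfl

/-- The automorphism group of the quaternion group of order 8 is isomorphic to the symmetric group of degree 4. -/
theorem result : Nonempty (MulAut (QuaternionGroup 2) ≃* Equiv.Perm (Fin 4)) := by
  refine ⟨MulEquiv.ofBijective (MulAction.toPermHom (MulAut Q) (Fin 4)) ⟨?_, ?_⟩⟩
  · rw [injective_iff_map_eq_one]
    intro α hα
    have h1 : ∀ k : Fin 4, g (α (a 1)) (α (xa 0)) k = k := by
      intro k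
      rw [← smul_eq]
      have := congrArg (fun σ : Equiv.Perm (Fin 4) => σ k) hα
      simpa using this
    obtain ⟨hu, hv⟩ := key_ker _ _ (valid_of α) h1
    ext x
    rw [ev_apply α x, hu, hv, key_id]
    rfl
  · intro σ
    obtain ⟨u, v, h, hg⟩ := key_surj σ
    refine ⟨aut u v h, ?_⟩
    ext k
    rw [MulAction.toPermHom_apply, MulAction.toPerm_apply, smul_eq, aut_apply, aut_apply,
      (key_gen u v).1, (key_gen u v).2, hg]

end Cfsg.Agent.S3742
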