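import Cfsg.Statements.S4117
-- import your own Cfsg.Agent.* helpers here

set_option autoImplicit false
open Cfsg

namespace Cfsg.Agent.S4117

open scoped IsMulCommutative


/-- Two endomorphisms preserving a cyclic subgroup commute on it. -/
theorem comm_on_cyclic {G : Type*} [Group G] (H : Subgroup G) [IsCyclic H] (φ ψ : G →* G)
    (hφ : ∀ x ∈ H, φ x ∈ H) (hψ : ∀ x ∈ H, ψ x ∈ H) : ∀ x ∈ H, φ (ψ x) = ψ (φ x) := by
  obtain ⟨⟨c, hc⟩, hgen⟩ := IsCyclic.exists_generator (α := H)
  have key : ∀ y ∈ H, ∃ j : ℤ, y = c ^ j := by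
    intro y hy
    obtain ⟨j, hj⟩ := Subgroup.mem_zpowers_iff.mp (hgen ⟨y, hy⟩)
    exact ⟨j, by simpa using (congrArg Subtype.val hj).symm⟩
  obtain ⟨m, hm⟩ := key _ (hφ c hc)
  obtain ⟨n, hn⟩ := key _ (hψ c hc)
  intro x hx
  obtain ⟨j, rfl⟩ := key x hx
  simp only [map_zpow, hm, hn, ← zpow_mul]
  congr 1
  ring

/-- Vanishing of `H¹` for a coprime action on an abelian group. -/
theorem h1_vanish {A M : Type*} [Group A] [Finite A] [CommGroup M] [Finite M]
    [MulDistribMulAction A M] (hcop : (Nat.card A).Coprime (Nat.card M)) (f : A → M)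
    (hf : ∀ a b, f (a * b) = f a * a • f b) : ∃ k : M, ∀ a, f a = k⁻¹ * a • k := by
  classical
  let _ := Fintype.ofFinite A
  have h1 : ∀ a, (∏ b, f b) = f a ^ Nat.card A * a • (∏ b, f b) := by
    intro a
    calc (∏ b, f b) = ∏ b, f (a * b) := (Equiv.prod_comp (Equiv.mulLeft a) f).symm
      _ = ∏ b, (f a * a • f b) := by simp_rw [hf]
      _ = f a ^ Nat.card A * a • (∏ b, f b) := by
        rw [Finset.prod_mul_distrib, Finset.prod_const, Finset.card_univ,
          Nat.card_eq_fintype_card, Finset.smul_prod']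
  refine ⟨(powCoprime hcop.symm).symm (∏ b, f b)⁻¹, fun a => ?_⟩
  have hk : ((powCoprime hcop.symm).symm (∏ b, f b)⁻¹) ^ Nat.card A = (∏ b, f b)⁻¹ :=
    (powCoprime hcop.symm).apply_symm_apply _
  apply (powCoprime hcop.symm).injective
  show f a ^ Nat.card A = (_ * a • _) ^ Nat.card A
  rw [mul_pow, inv_pow, ← smul_pow', hk, inv_inv, smul_inv']
  exact eq_mul_inv_of_mul_eq (h1 a).symm

/-- The norm map kills `k⁻¹ * a • k`. -/
theorem norm_eq_one {A M : Type*} [Group A] [Fintype A] [CommGroup M] [MulDistribMulAction A M]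
    (k : M) (a : A) : ∏ b : A, b • (k⁻¹ * a • k) = 1 := by
  simp only [smul_mul', smul_inv', Finset.prod_mul_distrib, Finset.prod_inv_distrib, ← mul_smul]
  have h := Equiv.prod_comp (Equiv.mulRight a) (fun b => b • k)
  simp only [Equiv.coe_mulRight] at h
  rw [h]
  exact inv_mul_cancel _

/-- In a finite cyclic group, an element killed by `p` lies in the subgroup generated by any
element of order `p`. -/
theorem mem_zpowers_of_pow_eq_one {P : Type*} [Group P] [Finite P] [IsCyclic P] {p : ℕ}
    (hp : 0 < p) {x y : P} (hy : orderOf y = p) (hx : x ^ p = 1) : x ∈ Subgroup.zpowers y := by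
  classical
  let _ := Fintype.ofFinite P
  have hle := IsCyclic.card_pow_eq_one_le (α := P) hp
  have hsub : (Finset.univ.filter (fun z : P => z ∈ Subgroup.zpowers y)) ⊆
      Finset.univ.filter (fun a : P => a ^ p = 1) := by
    intro z hz
    simp only [Finset.mem_filter, Finset.mem_univ, true_and] at hz ⊢
    obtain ⟨j, rfl⟩ := Subgroup.mem_zpowers_iff.mp hz
    rw [← zpow_natCast, ← zpow_mul, mul_comm, zpow_mul, zpow_natCast, ← hy, pow_orderOf_eq_one,
      one_zpow]
  have hcard : (Finset.univ.filter (fun z : P => z ∈ Subgroup.zpowers y)).card = p := by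
    rw [← hy, ← Nat.card_zpowers, Nat.card_eq_fintype_card, Fintype.card_subtype]
  have heq := Finset.eq_of_subset_of_card_le hsub (by rw [hcard]; exact hle)
  have : x ∈ Finset.univ.filter (fun a : P => a ^ p = 1) := by simp [hx]
  rw [← heq] at this
  simpa using this

/-- Let A be a finite group acting on the finite group G by automorphisms with the orders of A and G coprime, and suppose every Sylow subgroup of G is cyclic. Then the fixed-point subgroup C_G(A) is a Hall subgroup of G (its order is coprime to its index), the subgroup [G, A] generated by the elements g⁻¹·a(g) is cyclic and normal with [G, A] ∩ C_G(A) = 1 and [G, A]·C_G(A) = G. -/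
theorem result {G A : Type*} [Group G] [Finite G] [Group A] [Finite A]
    [MulDistribMulAction A G] (hcop : (Nat.card A).Coprime (Nat.card G))
    (hcyc : ∀ (p : ℕ) [Fact p.Prime] (P : Sylow p G), IsCyclic (P : Subgroup G)) :
    (Nat.card (MulAction.fixedPoints A G : Set G)).Coprime (Nat.card G / Nat.card (MulAction.fixedPoints A G : Set G)) ∧
    IsCyclic (Subgroup.closure {y : G | ∃ (a : A) (g : G), y = g⁻¹ * a • g}) ∧
    (Subgroup.closure {y : G | ∃ (a : A) (g : G), y = g⁻¹ * a • g}).Normal ∧
    (Subgroup.closure {y : G | ∃ (a : A) (g : G), y = g⁻¹ * a • g} : Set G) ∩ MulAction.fixedPoints A G = {1} ∧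
    Subgroup.closure {y : G | ∃ (a : A) (g : G), y = g⁻¹ * a • g} ⊔ Subgroup.closure (MulAction.fixedPoints A G) = ⊤ := by
  classical
  have : IsZGroup G := ⟨fun p hp P => by have := Fact.mk hp; exact hcyc p P⟩
  set S : Set G := {y : G | ∃ (a : A) (g : G), y = g⁻¹ * a • g} with hS
  set K : Subgroup G := Subgroup.closure S with hK
  have hgenK : ∀ (a : A) (g : G), g⁻¹ * a • g ∈ K := fun a g => Subgroup.subset_closure ⟨a, g, rfl⟩
  -- `K` is normal
  have hKn : K.Normal := by
    refine ⟨fun n hn h => ?_⟩
    induction hn using Subgroup.closure_induction with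
    | mem x hx =>
      obtain ⟨a, g, rfl⟩ := hx
      have : h * (g⁻¹ * a • g) * h⁻¹
          = ((g * h⁻¹)⁻¹ * a • (g * h⁻¹)) * ((h⁻¹)⁻¹ * a • h⁻¹)⁻¹ := by
        simp only [smul_mul', smul_inv', mul_inv_rev, inv_inv]; group
      rw [this]; exact K.mul_mem (hgenK _ _) (K.inv_mem (hgenK _ _))
    | one => simp
    | mul x y _ _ hx hy =>
      have : h * (x * y) * h⁻¹ = (h * x * h⁻¹) * (h * y * h⁻¹) := by group
      rw [this]; exact K.mul_mem hx hy
    | inv x _ hx =>
      have : h * x⁻¹ * h⁻¹ = (h * x * h⁻¹)⁻¹ := by group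
      rw [this]; exact K.inv_mem hx
  -- `K` is `A`-invariant
  have hKA : ∀ (a : A) x, x ∈ K → a • x ∈ K := by
    intro a x hx
    induction hx using Subgroup.closure_induction with
    | mem x hx =>
      obtain ⟨b, g, rfl⟩ := hx
      have : a • (g⁻¹ * b • g) = (a • g)⁻¹ * (a * b * a⁻¹) • (a • g) := by
        simp only [smul_mul', smul_inv', ← mul_smul]; simp
      rw [this]; exact hgenK _ _
    | one => simp
    | mul x y _ _ hx hy => rw [smul_mul']; exact K.mul_mem hx hy
    | inv x _ hx => rw [smul_inv']; exact K.inv_mem hx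
  -- the commutator subgroup is `A`-invariant
  have hDA : ∀ (a : A) x, x ∈ commutator G → a • x ∈ commutator G := by
    intro a x hx
    have hle := (Subgroup.characteristic_iff_le_comap.mp
      (inferInstance : (commutator G).Characteristic)) (MulDistribMulAction.toMulEquiv G a)
    simpa using hle hx
  -- `K` centralizes the (cyclic) commutator subgroup
  have hDcyc : IsCyclic (commutator G) := IsZGroup.isCyclic_commutator G
  have hKcent : K ≤ Subgroup.centralizer (commutator G : Set G) := by
    rw [hK, Subgroup.closure_le]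
    rintro _ ⟨a, g, rfl⟩
    rw [SetLike.mem_coe, Subgroup.mem_centralizer_iff]
    intro z hz
    have hy : a⁻¹ • z ∈ commutator G := hDA a⁻¹ z hz
    have h1 := comm_on_cyclic (commutator G) (MulAut.conj g).toMonoidHom
      (MulDistribMulAction.toMonoidEnd A G a)
      (fun x hx => (inferInstance : (commutator G).Normal).conj_mem x hx g)
      (fun x hx => hDA a x hx) (a⁻¹ • z) hy
    have h2 : g * z * g⁻¹ = a • g * z * (a • g)⁻¹ := by
      simpa [smul_mul', smul_inv'] using h1
    calc z * (g⁻¹ * a • g) = g⁻¹ * (g * z * g⁻¹) * a • g := by group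
      _ = g⁻¹ * (a • g * z * (a • g)⁻¹) * a • g := by rw [h2]
      _ = g⁻¹ * a • g * z := by group
  -- hence `K` is abelian
  have hKcomm : IsMulCommutative K := by
    have hf : (Abelianization.of : K →* Abelianization K).ker ≤ Subgroup.center K := by
      rw [Abelianization.ker_of]
      intro w hw
      rw [Subgroup.mem_center_iff]
      intro v
      have hw1 : (w : G) ∈ commutator G := by
        have : (commutator K).map K.subtype ≤ commutator G := by
          rw [commutator_def, commutator_def, Subgroup.map_commutator]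
          exact Subgroup.commutator_mono le_top le_top
        exact this (Subgroup.mem_map_of_mem _ hw)
      exact Subtype.ext (Subgroup.mem_centralizer_iff.mp (hKcent v.2) w hw1).symm
    exact MonoidHom.isMulCommutative_of_isCyclic_of_ker_le_center Abelianization.of hf
  have hKcyc : IsCyclic K := by
    have : Group.IsNilpotent K := CommGroup.isNilpotent
    infer_instance
  -- the action of `A` on `K`
  let actK : MulDistribMulAction A K :=
    { smul := fun a x => ⟨a • x.1, hKA a x.1 x.2⟩
      one_smul := fun x => Subtype.ext (one_smul A x.1)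
      mul_smul := fun a b x => Subtype.ext (mul_smul a b x.1)
      smul_mul := fun a x y => Subtype.ext (smul_mul' a x.1 y.1)
      smul_one := fun a => Subtype.ext (smul_one a) }
  have hsmul_coe : ∀ (a : A) (x : K), ((a • x : K) : G) = a • (x : G) := fun _ _ => rfl
  have hcopK : (Nat.card A).Coprime (Nat.card K) :=
    hcop.coprime_dvd_right (Subgroup.card_subgroup_dvd_card K)
  -- every element is a product of a fixed point and an element of `K`, compatibly
  have hdecomp : ∀ g : G, ∃ k : K, (∀ a : A, g⁻¹ * a • g = (k : G)⁻¹ * a • (k : G)) ∧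
      g * (k : G)⁻¹ ∈ MulAction.fixedPoints A G := by
    intro g
    obtain ⟨k, hk⟩ := h1_vanish hcopK (fun a => (⟨g⁻¹ * a • g, hgenK a g⟩ : K)) (by
      intro a b
      apply Subtype.ext
      simp only [Subgroup.coe_mul, hsmul_coe, smul_mul', smul_inv', mul_smul]
      group)
    have hk' : ∀ a : A, g⁻¹ * a • g = (k : G)⁻¹ * a • (k : G) := by
      intro a
      have := congrArg Subtype.val (hk a)
      simpa [hsmul_coe] using this
    refine ⟨k, hk', fun a => ?_⟩
    have h3 : a • g = g * (k : G)⁻¹ * a • (k : G) := by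
      rw [mul_assoc, ← hk' a]; group
    rw [smul_mul', smul_inv', h3]; group
  -- (5)
  have h5 : K ⊔ Subgroup.closure (MulAction.fixedPoints A G) = ⊤ := by
    rw [eq_top_iff]
    intro g _
    obtain ⟨k, -, hk⟩ := hdecomp g
    have : g = g * (k : G)⁻¹ * k := by group
    rw [this]
    exact Subgroup.mul_mem _
      (Subgroup.mem_sup_right (Subgroup.subset_closure hk)) (Subgroup.mem_sup_left k.2)
  -- the norm map is trivial on `K`
  let _ := Fintype.ofFinite A
  have hnorm : ∀ x : K, ∏ b : A, b • x = 1 := by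
    let N : K →* K :=
      { toFun := fun x => ∏ b : A, b • x
        map_one' := by simp
        map_mul' := fun x y => by simp only [smul_mul', Finset.prod_mul_distrib] }
    have hle : K ≤ N.ker.map K.subtype := by
      refine (Subgroup.closure_le (N.ker.map K.subtype)).mpr ?_
      rintro _ ⟨a, g, rfl⟩
      obtain ⟨k, hk, -⟩ := hdecomp g
      refine ⟨k⁻¹ * a • k, ?_, ?_⟩
      · rw [SetLike.mem_coe, MonoidHom.mem_ker]
        exact norm_eq_one k a
      · simp [hsmul_coe, hk a]
    intro x
    obtain ⟨y, hy, hyx⟩ := hle x.2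
    have : y = x := Subtype.ext hyx
    rw [← this]
    exact hy
  -- (4)
  have h4 : (K : Set G) ∩ MulAction.fixedPoints A G = {1} := by
    ext x
    simp only [Set.mem_inter_iff, SetLike.mem_coe, Set.mem_singleton_iff]
    constructor
    · rintro ⟨hxK, hxC⟩
      have h1 := hnorm ⟨x, hxK⟩
      have h2 : ∀ b : A, b • (⟨x, hxK⟩ : K) = ⟨x, hxK⟩ := fun b => Subtype.ext (hxC b)
      simp only [h2, Finset.prod_const, Finset.card_univ] at h1
      have h3 : x ^ Fintype.card A = 1 := by
        simpa using congrArg Subtype.val h1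
      have h4 : orderOf x ∣ Nat.card A := by
        rw [Nat.card_eq_fintype_card]; exact orderOf_dvd_of_pow_eq_one h3
      have h5 : orderOf x ∣ Nat.card G := orderOf_dvd_natCard x
      have := Nat.eq_one_of_dvd_coprimes hcop h4 h5
      exact orderOf_eq_one_iff.mp this
    · rintro rfl
      exact ⟨K.one_mem, fun a => smul_one a⟩
  -- cardinalities
  set C : Subgroup G := FixedPoints.subgroup A G with hC
  have hCcoe : (C : Set G) = MulAction.fixedPoints A G := rfl
  have hcardC : Nat.card (MulAction.fixedPoints A G : Set G) = Nat.card C := rfl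
  have hdisj : Disjoint C K := by
    rw [Subgroup.disjoint_def]
    intro x hxC hxK
    have : x ∈ (K : Set G) ∩ MulAction.fixedPoints A G := ⟨hxK, hxC⟩
    rw [h4] at this
    exact this
  have hcompl : Subgroup.IsComplement' C K := by
    apply Subgroup.isComplement'_of_disjoint_and_mul_eq_univ hdisj
    rw [Set.eq_univ_iff_forall]
    intro g
    obtain ⟨k, -, hk⟩ := hdecomp g
    exact ⟨g * (k : G)⁻¹, hk, k, k.2, by group⟩
  have hcard : Nat.card C * Nat.card K = Nat.card G := hcompl.card_mul_card
  have hCpos : 0 < Nat.card C := Nat.card_pos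
  have hdiv : Nat.card G / Nat.card C = Nat.card K := by
    rw [← hcard]; exact Nat.mul_div_cancel_left _ hCpos
  have hCK : (Nat.card C).Coprime (Nat.card K) := by
    refine Nat.coprime_of_dvd ?_
    intro p hp hpC hpK
    have := Fact.mk hp
    obtain ⟨x, hx⟩ := exists_prime_orderOf_dvd_card' p hpC
    obtain ⟨y', hy'⟩ := exists_prime_orderOf_dvd_card' p hpK
    have hxp : IsPGroup p (Subgroup.zpowers (x : G)) :=
      IsPGroup.of_card (n := 1) (by rw [Nat.card_zpowers, Subgroup.orderOf_coe, hx, pow_one])
    obtain ⟨P, hP⟩ := hxp.exists_le_sylow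
    have hyp : IsPGroup p (Subgroup.zpowers (y' : G)) :=
      IsPGroup.of_card (n := 1) (by rw [Nat.card_zpowers, Subgroup.orderOf_coe, hy', pow_one])
    obtain ⟨Q, hQ⟩ := hyp.exists_le_sylow
    obtain ⟨g, hg⟩ := MulAction.exists_smul_eq G Q P
    have hyP : g * y' * g⁻¹ ∈ (P : Subgroup G) := by
      rw [← hg, Sylow.coe_subgroup_smul]
      exact Subgroup.smul_mem_pointwise_smul (y' : G) (MulAut.conj g) Q
        (hQ (Subgroup.mem_zpowers _))
    have hyK : g * y' * g⁻¹ ∈ K := hKn.conj_mem _ y'.2 g
    have hxP : (x : G) ∈ (P : Subgroup G) := hP (Subgroup.mem_zpowers _)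
    have : IsCyclic (P : Subgroup G) := hcyc p P
    have hord : orderOf (⟨g * y' * g⁻¹, hyP⟩ : (P : Subgroup G)) = p := by
      rw [← Subgroup.orderOf_coe]
      show orderOf (g * (y' : G) * g⁻¹) = p
      have h := orderOf_injective (MulAut.conj g).toMonoidHom (MulAut.conj g).injective (y' : G)
      rw [Subgroup.orderOf_coe, hy'] at h
      exact h
    have hxpow : (⟨x, hxP⟩ : (P : Subgroup G)) ^ p = 1 := by
      apply Subtype.ext
      show (x : G) ^ p = 1
      rw [← hx, ← Subgroup.orderOf_coe, pow_orderOf_eq_one]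
    have hmem := mem_zpowers_of_pow_eq_one hp.pos hord hxpow
    obtain ⟨j, hj⟩ := Subgroup.mem_zpowers_iff.mp hmem
    have hxK : (x : G) ∈ K := by
      have : (x : G) = (g * y' * g⁻¹) ^ j := by
        simpa using (congrArg Subtype.val hj).symm
      rw [this]; exact K.zpow_mem hyK j
    have hx1 : (x : G) ∈ (K : Set G) ∩ MulAction.fixedPoints A G := ⟨hxK, x.2⟩
    rw [h4] at hx1
    have : (x : G) = 1 := hx1
    rw [← Subgroup.orderOf_coe, this, orderOf_one] at hx
    exact hp.one_lt.ne hx
  refine ⟨?_, hKcyc, hKn, h4, h5⟩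
  rw [hcardC, hdiv]
  exact hCK

end Cfsg.Agent.S4117
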