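import Cfsg.Statements.S4856
import Cfsg.Agent.Lib.Helper81_CharSchur

set_option autoImplicit false
open Cfsg

namespace Cfsg.Agent.S4856

open Cfsg.Agent.Lib.Helper81_CharBasic Cfsg.Agent.Lib.Helper81_CharOrth
  Cfsg.Agent.Lib.Helper81_CharComplete Cfsg.Agent.Lib.Helper81_CharExpand
  Cfsg.Agent.Lib.Helper81_CharSchur

/-- Counting the fibres of a map against a weight. -/
theorem sum_card_fiber_mul {α β : Type*} [Fintype α] [Fintype β] [DecidableEq β] (F : α → β)
    (φ : β → ℂ) :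
    ∑ w : β, (Nat.card {p : α // F p = w} : ℂ) * φ w = ∑ p : α, φ (F p) := by
  classical
  rw [← Finset.sum_fiberwise (s := Finset.univ) (g := F) (f := fun p => φ (F p))]
  refine Finset.sum_congr rfl fun w _ => ?_
  rw [Nat.card_eq_fintype_card, Fintype.card_subtype]
  rw [Finset.sum_congr rfl (fun p hp => by rw [(Finset.mem_filter.mp hp).2] : ∀ p ∈ Finset.univ.filter (fun p => F p = w), φ (F p) = φ w)]
  rw [Finset.sum_const, nsmul_eq_mul]

/-- The number of solutions of the commutator equation, as a function of the right-hand side. -/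
noncomputable def commCount (G : Type*) [Group G] (w : G) : ℂ :=
  (Nat.card {xy : G × G // xy.1 * xy.2 * xy.1⁻¹ * xy.2⁻¹ = w} : ℂ)

theorem commCount_classFunction (G : Type*) [Group G] : IsClassFunction G (commCount G) := by
  intro w h
  unfold commCount
  congr 1
  refine Nat.card_congr ⟨fun p => ⟨(h⁻¹ * p.1.1 * h, h⁻¹ * p.1.2 * h), ?_⟩,
    fun p => ⟨(h * p.1.1 * h⁻¹, h * p.1.2 * h⁻¹), ?_⟩, ?_, ?_⟩
  · have := p.2
    simp only [mul_inv_rev, inv_inv]
    calc h⁻¹ * p.1.1 * h * (h⁻¹ * p.1.2 * h) * (h⁻¹ * (p.1.1⁻¹ * h)) * (h⁻¹ * (p.1.2⁻¹ * h))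
        = h⁻¹ * (p.1.1 * p.1.2 * p.1.1⁻¹ * p.1.2⁻¹) * h := by group
      _ = w := by rw [this]; group
  · have := p.2
    simp only [mul_inv_rev, inv_inv]
    calc h * p.1.1 * h⁻¹ * (h * p.1.2 * h⁻¹) * (h * (p.1.1⁻¹ * h⁻¹)) * (h * (p.1.2⁻¹ * h⁻¹))
        = h * (p.1.1 * p.1.2 * p.1.1⁻¹ * p.1.2⁻¹) * h⁻¹ := by group
      _ = h * w * h⁻¹ := by rw [this]
  · intro p
    apply Subtype.ext
    apply Prod.ext <;> simp <;> group
  · intro p
    apply Subtype.ext
    apply Prod.ext <;> simp <;> group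

theorem sum_commCount_mul_irr_inv {G : Type*} [Group G] [Fintype G] (χ : IrrCharacter G) :
    (∑ w : G, commCount G w * (χ : G → ℂ) w⁻¹) * (χ : G → ℂ) 1
      = (Nat.card G : ℂ) * (Nat.card G : ℂ) := by
  classical
  obtain ⟨χ, n, ρ, hρ, rfl⟩ := χ
  haveI := hρ
  unfold commCount
  rw [sum_card_fiber_mul (fun xy : G × G => xy.1 * xy.2 * xy.1⁻¹ * xy.2⁻¹)
    (fun w => ρ.character w⁻¹)]
  rw [Fintype.sum_prod_type]
  have h1 : ∀ x y : G, ρ.character (x * y * x⁻¹ * y⁻¹)⁻¹ = ρ.character (y * x * y⁻¹ * x⁻¹) := by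
    intro x y
    congr 1
    group
  simp only [h1]
  rw [Finset.sum_comm]
  have := sum_sum_char_commutator ρ
  simp only [Representation.char_one]
  exact this

/-- For an element z of a finite group G, the number of pairs (x, y) of elements with x y x⁻¹ y⁻¹ = z equals the order of G times the sum over the irreducible characters χ of χ(z)/χ(1). -/
theorem result {G : Type*} [Group G] [Finite G] (z : G) : (Nat.card {xy : G × G // xy.1 * xy.2 * xy.1⁻¹ * xy.2⁻¹ = z} : ℂ) = (Nat.card G : ℂ) * ∑ᶠ χ : Cfsg.IrrCharacter G, (χ : G → ℂ) z / (χ : G → ℂ) 1 := by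
  classical
  haveI := Fintype.ofFinite G
  haveI := Fintype.ofFinite (IrrCharacter G)
  rw [finsum_eq_sum_of_fintype]
  have hexp := classFunction_expansion_apply (commCount G) (commCount_classFunction G) z
  show commCount G z = _
  rw [hexp, Finset.mul_sum]
  refine Finset.sum_congr rfl fun χ _ => ?_
  have hχ1 : (χ : G → ℂ) 1 ≠ 0 := by
    obtain ⟨χ, n, ρ, hρ, rfl⟩ := χ
    haveI := hρ
    simp only [Representation.char_one]
    exact finrank_ne_zero_of_irreducible ρ
  have hc : (Nat.card G : ℂ) ≠ 0 := card_ne_zero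
  have key := sum_commCount_mul_irr_inv χ
  have : ∑ g : G, commCount G g * (χ : G → ℂ) g⁻¹
      = (Nat.card G : ℂ) * (Nat.card G : ℂ) / (χ : G → ℂ) 1 := by
    rw [eq_div_iff hχ1]; exact key
  rw [this]
  field_simp

end Cfsg.Agent.S4856
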