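import Cfsg.Statements.S4814
import Cfsg.Agent.Lib.Helper80_CharComplete
import Cfsg.Agent.Lib.Helper81_CharComplete
import Cfsg.Agent.Lib.Helper3_CharEigen
import Cfsg.Agent.S4856

set_option autoImplicit false
set_option linter.style.haveILetI false
open Cfsg

namespace Cfsg.Agent.S4814

open scoped ComplexConjugate
open Cfsg.Agent.Lib.Helper80_CharBasic Cfsg.Agent.Lib.Helper80_CharComplete

/-- Generalized orthogonality relation. -/
theorem gen_orthogonality {G : Type*} [Group G] [Fintype G] (χ ψ : Cfsg.IrrCharacter G) (g : G)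
    [Decidable (χ = ψ)] :
    ∑ z : G, (χ : G → ℂ) z⁻¹ * (ψ : G → ℂ) (z * g) =
      if χ = ψ then (Nat.card G : ℂ) * (ψ : G → ℂ) g / (ψ : G → ℂ) 1 else 0 := by
  classical
  obtain ⟨m, σ, hσ, hσψ⟩ := ψ.2
  haveI := hσ
  have hf : Cfsg.IsClassFunction G (fun z : G => (χ : G → ℂ) z⁻¹) := by
    intro z h
    have : (h * z * h⁻¹)⁻¹ = h * z⁻¹ * h⁻¹ := by group
    show (χ : G → ℂ) (h * z * h⁻¹)⁻¹ = (χ : G → ℂ) z⁻¹
    rw [this, irr_conj]
  obtain ⟨c, hc1, hc2⟩ :=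
    Cfsg.Agent.Lib.Helper81_CharComplete.classSum_eq_smul_id σ (fun z : G => (χ : G → ℂ) z⁻¹) hf
  have hm : 0 < m := irr_dim_pos σ hσ
  have hψ1 : (ψ : G → ℂ) 1 = (m : ℂ) := by
    rw [← hσψ, Representation.char_one]; simp
  have hmC : (m : ℂ) ≠ 0 := by exact_mod_cast hm.ne'
  -- left side is `c * ψ g`
  have hleft : ∑ z : G, (χ : G → ℂ) z⁻¹ * (ψ : G → ℂ) (z * g) = c * (ψ : G → ℂ) g := by
    have h1 := congrArg (fun T : Module.End ℂ (Fin m → ℂ) => LinearMap.trace ℂ _ (T * σ g)) hc1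
    simp only [Finset.sum_mul, map_sum, smul_mul_assoc, map_smul, smul_eq_mul] at h1
    rw [← hσψ]
    simp only [Representation.character, map_mul]
    rw [h1]
    have : (LinearMap.id : Module.End ℂ (Fin m → ℂ)) * σ g = σ g := one_mul _
    rw [this]
  rw [hleft]
  have hsum : ∑ z : G, (χ : G → ℂ) z⁻¹ * σ.character z =
      if χ = ψ then (Nat.card G : ℂ) else 0 := by
    rw [hσψ]
    split_ifs with h
    · subst h
      rw [← irr_norm χ]
      exact Finset.sum_congr rfl fun z _ => mul_comm _ _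
    · have h' : ψ ≠ χ := fun e => h e.symm
      rw [← irr_orthogonal ψ χ h']
      exact Finset.sum_congr rfl fun z _ => mul_comm _ _
  rw [hsum] at hc2
  simp only [Module.finrank_fin_fun] at hc2
  split_ifs with h
  · rw [if_pos h] at hc2
    rw [hψ1, ← hc2]
    field_simp
  · rw [if_neg h] at hc2
    have : c = 0 := by
      rcases mul_eq_zero.mp hc2 with h0 | h0
      · exact h0
      · exact absurd h0 hmC
    rw [this, zero_mul]


theorem irr_norm_le {G : Type*} [Group G] [Finite G] (χ : Cfsg.IrrCharacter G) (g : G) (n : ℕ)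
    (hn : (χ : G → ℂ) 1 = n) : ‖(χ : G → ℂ) g‖ ≤ n := by
  obtain ⟨m, σ, hσ, hσχ⟩ := χ.2
  have h1 := Cfsg.Agent.Lib.Helper3_CharEigen.norm_char_le σ g
  rw [hσχ] at h1
  have h2 : (σ.character 1 : ℂ) = (m : ℂ) := by
    rw [Representation.char_one]; simp
  rw [hσχ, hn] at h2
  have h3 : n = m := by exact_mod_cast h2
  simp only [Module.finrank_fin_fun] at h1
  rw [h3]
  exact h1

theorem result {G : Type*} [Group G] [Finite G]
    (h : ∑ᶠ χ : Cfsg.IrrCharacter G, 1 / ‖(χ : G → ℂ) 1‖ ^ 2 < (2 : ℝ)) (g : G) :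
    ∃ a b c d : G, (a * b * a⁻¹ * b⁻¹) * (c * d * c⁻¹ * d⁻¹) = g := by
  classical
  haveI := Fintype.ofFinite G
  haveI := Fintype.ofFinite (Cfsg.IrrCharacter G)
  rw [finsum_eq_sum_of_fintype] at h
  have hcard : (Nat.card G : ℂ) ≠ 0 := by exact_mod_cast Nat.card_pos.ne'
  set F : G → ℂ := fun z => ∑ χ : Cfsg.IrrCharacter G, (χ : G → ℂ) z / (χ : G → ℂ) 1 with hF
  -- nonvanishing of `F` produces commutators
  have hcnt : ∀ z : G, F z ≠ 0 → ∃ x y : G, x * y * x⁻¹ * y⁻¹ = z := by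
    intro z hz
    have h1 := Cfsg.Agent.S4856.result z
    rw [finsum_eq_sum_of_fintype] at h1
    have hne : (Nat.card {xy : G × G // xy.1 * xy.2 * xy.1⁻¹ * xy.2⁻¹ = z} : ℂ) ≠ 0 := by
      rw [h1]; exact mul_ne_zero hcard hz
    have hne' : Nat.card {xy : G × G // xy.1 * xy.2 * xy.1⁻¹ * xy.2⁻¹ = z} ≠ 0 := by
      exact_mod_cast hne
    obtain ⟨⟨⟨x, y⟩, hxy⟩⟩ := (Nat.card_pos_iff.mp (Nat.pos_of_ne_zero hne')).1
    exact ⟨x, y, hxy⟩
  -- the convolution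
  have hconv : ∑ w : G, F w⁻¹ * F (w * g) =
      (Nat.card G : ℂ) * ∑ χ : Cfsg.IrrCharacter G, (χ : G → ℂ) g / (χ : G → ℂ) 1 ^ 3 := by
    have h1 : ∀ w : G, F w⁻¹ * F (w * g) =
        ∑ χ : Cfsg.IrrCharacter G, ∑ ψ : Cfsg.IrrCharacter G,
          ((χ : G → ℂ) w⁻¹ * (ψ : G → ℂ) (w * g)) / ((χ : G → ℂ) 1 * (ψ : G → ℂ) 1) := by
      intro w
      simp only [hF, Finset.sum_mul_sum]
      refine Finset.sum_congr rfl fun χ _ => Finset.sum_congr rfl fun ψ _ => ?_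
      rw [div_mul_div_comm]
    rw [Finset.sum_congr rfl (fun w _ => h1 w), Finset.sum_comm, Finset.mul_sum]
    refine Finset.sum_congr rfl fun χ _ => ?_
    rw [Finset.sum_comm]
    have h2 : ∀ ψ : Cfsg.IrrCharacter G,
        ∑ w : G, ((χ : G → ℂ) w⁻¹ * (ψ : G → ℂ) (w * g)) / ((χ : G → ℂ) 1 * (ψ : G → ℂ) 1) =
          if χ = ψ then (Nat.card G : ℂ) * ((χ : G → ℂ) g / (χ : G → ℂ) 1 ^ 3) else 0 := by
      intro ψ
      rw [← Finset.sum_div, gen_orthogonality χ ψ g]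
      split_ifs with hχψ
      · subst hχψ
        obtain ⟨n, hn, hn1⟩ := irr_apply_one χ
        have : (n : ℂ) ≠ 0 := by exact_mod_cast hn.ne'
        rw [hn1]
        field_simp
      · rw [zero_div]
    rw [Finset.sum_congr rfl (fun ψ _ => h2 ψ), Finset.sum_ite_eq Finset.univ χ,
      if_pos (Finset.mem_univ _)]
  -- positivity of the real part
  have hpos : (∑ χ : Cfsg.IrrCharacter G, (χ : G → ℂ) g / (χ : G → ℂ) 1 ^ 3) ≠ 0 := by
    intro h0
    have hterm : ∀ χ : Cfsg.IrrCharacter G,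
        0 ≤ ((χ : G → ℂ) g / (χ : G → ℂ) 1 ^ 3).re + 1 / ‖(χ : G → ℂ) 1‖ ^ 2 := by
      intro χ
      obtain ⟨n, hn, hn1⟩ := irr_apply_one χ
      have hle := irr_norm_le χ g n hn1
      have hnR : (0 : ℝ) < n := by exact_mod_cast hn
      have hre : -(n : ℝ) ≤ ((χ : G → ℂ) g).re := by
        have := Complex.abs_re_le_norm ((χ : G → ℂ) g)
        have := neg_abs_le ((χ : G → ℂ) g).re
        linarith
      rw [hn1, Complex.norm_natCast]
      have hcast : ((n : ℂ)) ^ 3 = (((n : ℝ) ^ 3 : ℝ) : ℂ) := by push_cast; ring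
      rw [hcast, Complex.div_ofReal_re]
      have h3 : (0 : ℝ) < (n : ℝ) ^ 3 := by positivity
      have h2 : (0 : ℝ) < (n : ℝ) ^ 2 := by positivity
      have : -(n : ℝ) / (n : ℝ) ^ 3 ≤ ((χ : G → ℂ) g).re / (n : ℝ) ^ 3 :=
        div_le_div_of_nonneg_right hre h3.le
      have e : -(n : ℝ) / (n : ℝ) ^ 3 = -(1 / (n : ℝ) ^ 2) := by
        field_simp
      linarith
    have hone : ((oneIrr G : Cfsg.IrrCharacter G) : G → ℂ) g /
        ((oneIrr G : Cfsg.IrrCharacter G) : G → ℂ) 1 ^ 3 = 1 := by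
      show (1 : ℂ) / 1 ^ 3 = 1
      norm_num
    have htwo : (2 : ℝ) ≤ ∑ χ : Cfsg.IrrCharacter G,
        (((χ : G → ℂ) g / (χ : G → ℂ) 1 ^ 3).re + 1 / ‖(χ : G → ℂ) 1‖ ^ 2) := by
      have hsingle := Finset.single_le_sum (f := fun χ : Cfsg.IrrCharacter G =>
        ((χ : G → ℂ) g / (χ : G → ℂ) 1 ^ 3).re + 1 / ‖(χ : G → ℂ) 1‖ ^ 2)
        (fun χ _ => hterm χ) (Finset.mem_univ (oneIrr G))
      have e : ((((oneIrr G : Cfsg.IrrCharacter G) : G → ℂ) g /
          ((oneIrr G : Cfsg.IrrCharacter G) : G → ℂ) 1 ^ 3).re +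
          1 / ‖((oneIrr G : Cfsg.IrrCharacter G) : G → ℂ) 1‖ ^ 2) = 2 := by
        rw [hone]
        show (1 : ℂ).re + 1 / ‖(1 : ℂ)‖ ^ 2 = 2
        norm_num
      simp only [e] at hsingle
      exact hsingle
    rw [Finset.sum_add_distrib, ← Complex.re_sum, h0] at htwo
    simp only [Complex.zero_re, zero_add] at htwo
    linarith
  -- conclusion
  have hne : ∑ w : G, F w⁻¹ * F (w * g) ≠ 0 := by
    rw [hconv]; exact mul_ne_zero hcard hpos
  obtain ⟨w, _, hw⟩ := Finset.exists_ne_zero_of_sum_ne_zero hne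
  have hw1 : F w⁻¹ ≠ 0 := left_ne_zero_of_mul hw
  have hw2 : F (w * g) ≠ 0 := right_ne_zero_of_mul hw
  obtain ⟨a, b, hab⟩ := hcnt _ hw1
  obtain ⟨c, d, hcd⟩ := hcnt _ hw2
  refine ⟨a, b, c, d, ?_⟩
  rw [hab, hcd]
  group

end Cfsg.Agent.S4814
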