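import Cfsg.Statements.S4669
import Cfsg.Agent.Lib.Helper77_CentralDefect
import Cfsg.Agent.Lib.Helper77_QuotBlocks
import Cfsg.Agent.Lib.Helper77_RegProj
import Cfsg.Agent.Lib.Helper80_CharBasic
import Cfsg.Agent.Lib.Helper78_CentralChar
import Cfsg.Agent.S4667

set_option autoImplicit false
open Cfsg

namespace Cfsg.Agent.S4669

open scoped ComplexConjugate
open Cfsg.Agent.Lib.Helper77_CentralDefect Cfsg.Agent.Lib.Helper77_QuotBlocks
  Cfsg.Agent.Lib.Helper77_RegProj Cfsg.Agent.Lib.Helper78_LocalRing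

/-- Fix a prime p and a maximal ideal M of the algebraic integers containing p. If the p-block B of the finite group G has a defect group P contained in the centre of G, then B has p-regular rank one (a single irreducible Brauer character). -/
theorem result {G : Type*} [Group G] [Fintype G] (p : ℕ) [Fact p.Prime] (M : Ideal Cfsg.AlgInt) (hM : Cfsg.IsPModular p M) (B : Set (Cfsg.IrrCharacter G)) (hB : Cfsg.IsPBlock M B) (P : Subgroup G) (hD : Cfsg.IsDefectGroup p M B P) (hPZ : P ≤ Subgroup.center G) : Cfsg.blockRank p B = 1 := by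
  classical
  have hp : p.Prime := Fact.out
  have hMp : M.IsPrime := isPrime_of_isPModular hM
  have := Fintype.ofFinite P
  have hfin : Finite (IrrCharacter G) := Cfsg.Agent.Lib.Helper78_CharFacts.charFacts.finite
  have hPn : P.Normal := by
    constructor
    intro u hu g
    have := Subgroup.mem_center_iff.mp (hPZ hu) g
    have h2 : g * u * g⁻¹ = u := by rw [this]; group
    rw [h2]; exact hu
  obtain ⟨hP, hcard⟩ := card_of_isDefectGroup hM hB hD
  -- the unique member with `P` in its kernel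
  obtain ⟨θ, hθB, hθk⟩ := exists_mem_ker hM P hP hB
  have hset : {χ : IrrCharacter G | χ ∈ B ∧ P ≤ Cfsg.Agent.S4835.irrKer χ} = {θ} := by
    ext χ
    simp only [Set.mem_setOf_eq, Set.mem_singleton_iff]
    constructor
    · rintro ⟨hχB, hχk⟩
      exact (eq_of_ker_of_central_defect hM hB P hD hPZ θ χ hθB hχB hθk
        (fun u hu => (Cfsg.Agent.S4835.mem_irrKer χ u).mp (hχk hu))).symm
    · rintro rfl
      exact ⟨hθB, fun u hu => (Cfsg.Agent.S4835.mem_irrKer χ u).mpr (hθk u hu)⟩
  -- the Gram identity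
  have hgram : ∀ x : G, ¬ p ∣ orderOf x →
      ∑ᶠ χ ∈ B, (χ : G → ℂ) x * conj ((χ : G → ℂ) x) =
        (Nat.card P : ℂ) * ((Complex.normSq ((θ : G → ℂ) x) : ℝ) : ℂ) := by
    intro x hx
    rw [gram_central hM hB P hP hPZ x x hx hx, hset, finsum_mem_singleton, Complex.mul_conj]
  -- the rank formula
  have hrank := Cfsg.Agent.S4667.result p M hM B hB
  set R : Finset G := Finset.univ.filter (fun x : G => ¬ p ∣ orderOf x) with hR
  have hrank2 : (Nat.card G : ℂ) * (blockRank p B : ℂ) =
      (Nat.card P : ℂ) * ∑ x ∈ R, ((Complex.normSq ((θ : G → ℂ) x) : ℝ) : ℂ) := by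
    rw [hrank, hR, Finset.sum_filter, Finset.mul_sum]
    refine Finset.sum_congr rfl fun x _ => ?_
    split_ifs with hx
    · rw [mul_zero]
      have : ∀ χ : IrrCharacter G, pRegularPart p (χ : G → ℂ) x * (χ : G → ℂ) x⁻¹ = 0 := by
        intro χ
        rw [pRegularPart_of_sing _ hx, zero_mul]
      simp_rw [this]
      simp
    · rw [← hgram x hx]
      refine finsum_congr fun χ => finsum_congr fun _ => ?_
      rw [pRegularPart_of_reg _ hx, Cfsg.Agent.Lib.Helper80_CharBasic.irr_inv χ x]
  have hrank3 : (Nat.card G : ℝ) * (blockRank p B : ℝ) =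
      (Nat.card P : ℝ) * ∑ x ∈ R, Complex.normSq ((θ : G → ℂ) x) := by
    have : ((((Nat.card G : ℝ) * (blockRank p B : ℝ)) : ℝ) : ℂ) =
        (((Nat.card P : ℝ) * ∑ x ∈ R, Complex.normSq ((θ : G → ℂ) x) : ℝ) : ℂ) := by
      push_cast
      exact hrank2
    exact Complex.ofReal_injective this
  -- the norm of `θ`
  have hnorm : ∑ g : G, Complex.normSq ((θ : G → ℂ) g) = (Nat.card G : ℝ) := by
    have h1 := Cfsg.Agent.Lib.Helper80_CharBasic.irr_norm θ
    simp_rw [Cfsg.Agent.Lib.Helper80_CharBasic.irr_inv θ, Complex.mul_conj] at h1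
    have : ((∑ g : G, Complex.normSq ((θ : G → ℂ) g) : ℝ) : ℂ) = ((Nat.card G : ℝ) : ℂ) := by
      push_cast
      exact h1
    exact Complex.ofReal_injective this
  -- `θ` is constant on cosets of `P`
  have hθ1 : (θ : G → ℂ) 1 ≠ 0 :=
    Cfsg.Agent.Lib.Helper78_CentralChar.isIrrCharacter_one_ne_zero θ.2
  have hconst : ∀ x : G, ∀ u : P, (θ : G → ℂ) (x * (u : G)) = (θ : G → ℂ) x := by
    intro x u
    rw [irr_mul_center θ (u : G) (hPZ u.2) x, hθk u u.2]
    field_simp
  -- the inequality
  have hle : (Nat.card P : ℝ) * ∑ x ∈ R, Complex.normSq ((θ : G → ℂ) x) ≤ (Nat.card G : ℝ) := by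
    have h1 : (Nat.card P : ℝ) * ∑ x ∈ R, Complex.normSq ((θ : G → ℂ) x) =
        ∑ z ∈ R ×ˢ (Finset.univ : Finset P), Complex.normSq ((θ : G → ℂ) (z.1 * (z.2 : G))) := by
      rw [Finset.sum_product, Finset.mul_sum]
      refine Finset.sum_congr rfl fun x _ => ?_
      simp_rw [hconst x]
      rw [Finset.sum_const, Finset.card_univ, nsmul_eq_mul, Nat.card_eq_fintype_card]
    have hinj : ∀ a ∈ R ×ˢ (Finset.univ : Finset P), ∀ b ∈ R ×ˢ (Finset.univ : Finset P),
        a.1 * (a.2 : G) = b.1 * (b.2 : G) → a = b := by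
      rintro ⟨x, u⟩ ha ⟨x', u'⟩ hb hab
      simp only [Finset.mem_product, hR, Finset.mem_filter, Finset.mem_univ, true_and,
        and_true] at ha hb
      simp only at hab
      have hw : x = x' * ((u' : G) * (u : G)⁻¹) := by
        calc x = x * (u : G) * (u : G)⁻¹ := by group
          _ = x' * (u' : G) * (u : G)⁻¹ := by rw [hab]
          _ = x' * ((u' : G) * (u : G)⁻¹) := by group
      have hw1 : (u' : G) * (u : G)⁻¹ = 1 := by
        by_contra hne
        apply ha
        rw [hw]
        exact dvd_orderOf_mul_central P hP hPZ x' hb _ (P.mul_mem u'.2 (P.inv_mem u.2)) hne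
      have hu : u' = u := by
        apply Subtype.ext
        exact mul_inv_eq_one.mp hw1
      rw [hw1, mul_one] at hw
      rw [hw, hu]
    rw [h1, ← Finset.sum_image (f := fun g : G => Complex.normSq ((θ : G → ℂ) g)) hinj, ← hnorm]
    exact Finset.sum_le_sum_of_subset_of_nonneg (Finset.subset_univ _)
      (fun g _ _ => Complex.normSq_nonneg _)
  have hpos : 0 < (Nat.card P : ℝ) * ∑ x ∈ R, Complex.normSq ((θ : G → ℂ) x) := by
    apply mul_pos
    · exact_mod_cast Nat.card_pos
    · apply Finset.sum_pos'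
      · intro x _
        exact Complex.normSq_nonneg _
      · refine ⟨1, ?_, Complex.normSq_pos.mpr hθ1⟩
        rw [hR, Finset.mem_filter]
        refine ⟨Finset.mem_univ _, ?_⟩
        rw [orderOf_one]
        exact hp.one_lt.ne' ∘ Nat.dvd_one.mp
  have hGpos : (0 : ℝ) < (Nat.card G : ℝ) := by exact_mod_cast Nat.card_pos
  rw [← hrank3] at hle hpos
  have h1 : (blockRank p B : ℝ) ≤ 1 := by
    by_contra hcon
    push Not at hcon
    have := mul_lt_mul_of_pos_left hcon hGpos
    rw [mul_one] at this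
    exact absurd hle (not_le.mpr this)
  have h2 : (0 : ℝ) < (blockRank p B : ℝ) := by
    by_contra hcon
    push Not at hcon
    have := mul_nonpos_of_nonneg_of_nonpos hGpos.le hcon
    exact absurd hpos (not_lt.mpr this)
  have h1' : blockRank p B ≤ 1 := by exact_mod_cast h1
  have h2' : 0 < blockRank p B := by exact_mod_cast h2
  omega

end Cfsg.Agent.S4669
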