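import Cfsg.Statements.S0915
import Cfsg.Agent.Lib.Helper16_PBlock
import Cfsg.Agent.Lib.Helper80_CharBasic
import Cfsg.Agent.Lib.Helper1_Cores
import Cfsg.Agent.Lib.Helper76_PSolvable
import Mathlib

set_option autoImplicit false
open Cfsg

namespace Cfsg.Agent.S0915

open Cfsg.Agent.Lib.Helper16_PBlock Cfsg.Agent.Lib.Helper78_LocalRing
  Cfsg.Agent.Lib.Helper78_CentralNil Cfsg.Agent.Lib.Helper1_Cores

/-- in a `p`-solvable group with trivial `p'`-core every irreducible character is in the
principal block -/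
theorem sameBlock_one {G : Type*} [Group G] [Finite G] (p : ℕ) [Fact p.Prime]
    (M : Ideal Cfsg.AlgInt) (hM : Cfsg.IsPModular p M) (hsolv : Cfsg.IsPSolvable p G)
    (hcore : Cfsg.pPrimeCore p G = ⊥) {χ : G → ℂ} (hχ : IsIrrCharacter G χ) :
    SameBlock M χ (fun _ : G => (1 : ℂ)) := by
  have hMp := isPrime_of_isPModular hM
  have hHH := Cfsg.Agent.Lib.Helper76_PSolvable.centralizer_pCore_le p hsolv hcore
  have hQ : IsPGroup p (Cfsg.pCore p G) := pCore_isPGroup p
  intro g
  by_cases h : ∃ x : G, IsConj g x ∧ x ∈ Subgroup.centralizer (Cfsg.pCore p G : Set G)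
  · obtain ⟨x, hgx, hx⟩ := h
    have hxQ : x ∈ Cfsg.pCore p G := hHH hx
    have hgQ : g ∈ Cfsg.pCore p G := by
      obtain ⟨c, hc⟩ := isConj_iff.mp hgx.symm
      rw [← hc]
      exact (pCore_normal (G := G) p).conj_mem x hxQ c
    rw [centralChar_one]
    exact memLocalIdeal_centralChar_sub_index_of_mem hM (Cfsg.pCore p G) hQ hχ hgQ
  · push Not at h
    have h1 := memLocalIdeal_centralChar_of_disjoint hM (Cfsg.pCore p G) hQ hχ g h
    have h2 := memLocalIdeal_centralChar_of_disjoint hM (Cfsg.pCore p G) hQ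
      (Cfsg.Agent.Lib.Helper80_CharBasic.isIrrCharacter_one G) g h
    exact memLocalIdeal_sub hMp h1 h2

/-- Let G be a finite p-solvable group with trivial largest normal subgroup of order prime to p. Then any two irreducible characters of G lie in the same block relative to every maximal ideal M of the algebraic integers containing p: G has a single p-block. -/
theorem result {G : Type*} [Group G] [Finite G] (p : ℕ) [Fact p.Prime] (M : Ideal Cfsg.AlgInt) (hM : Cfsg.IsPModular p M) (hsolv : Cfsg.IsPSolvable p G) (hcore : Cfsg.pPrimeCore p G = ⊥) (χ ψ : Cfsg.IrrCharacter G) : Cfsg.SameBlock M (χ : G → ℂ) (ψ : G → ℂ) := by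
  have hMp := isPrime_of_isPModular hM
  exact sameBlock_trans hMp (sameBlock_one p M hM hsolv hcore χ.2)
    (sameBlock_symm (sameBlock_one p M hM hsolv hcore ψ.2))

end Cfsg.Agent.S0915
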