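import Mathlib
import Cfsg.Statements.S4916
import Cfsg.Agent.Lib.Helper78_CharFacts
import Cfsg.Agent.Lib.Helper78_LocalRing

set_option autoImplicit false
open Cfsg

namespace Cfsg.Agent.S4916


open scoped ComplexConjugate
open Cfsg.Agent.Lib.Helper78_LocalRing Cfsg.Agent.Lib.Helper78_CharFacts
  Cfsg.Agent.Lib.Helper78_Osima Cfsg.Agent.Lib.Helper80_CharBasic

section

variable {G : Type*} [Group G] [Finite G] (p : ℕ) (M : Ideal Cfsg.AlgInt)

theorem backward (hM : Cfsg.IsPModular p M) (hp : ¬ p ∣ Nat.card G) (χ : Cfsg.IrrCharacter G)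
    (hχ : χ ∈ Cfsg.principalBlock M G) : (χ : G → ℂ) = fun _ => (1 : ℂ) := by
  classical
  have := Fintype.ofFinite G
  have hMp := isPrime_of_isPModular hM
  by_contra hne
  have hne' : χ ≠ oneIrr G := fun h => hne (congrArg Subtype.val h)
  have horth := irr_orthogonal χ (oneIrr G) hne'
  have hsum0 : ∑ g : G, (χ : G → ℂ) g = 0 := by
    rw [← horth]
    refine Finset.sum_congr rfl (fun g _ => ?_)
    change _ = (χ : G → ℂ) g * 1
    rw [mul_one]
  obtain ⟨n, hn, hχ1⟩ := irr_apply_one χ
  have hχ1ne : (χ : G → ℂ) 1 ≠ 0 := by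
    rw [hχ1]; exact_mod_cast hn.ne'
  have hsb : Cfsg.SameBlock M (fun _ : G => (1 : ℂ)) (χ : G → ℂ) := hχ
  have hterm : ∀ g : G, MemLocalIdeal M (1 - (χ : G → ℂ) g / (χ : G → ℂ) 1) := by
    intro g
    have h1 := hsb g
    unfold Cfsg.centralChar at h1
    set k := (Subgroup.centralizer ({g} : Set G)).index with hk
    have hkdvd : k ∣ Nat.card G := Subgroup.index_dvd_card _
    have hpk : ¬ p ∣ k := fun h => hp (h.trans hkdvd)
    have hkne : (k : ℂ) ≠ 0 := by
      have : k ≠ 0 := fun h0 => hpk (h0 ▸ dvd_zero p)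
      exact_mod_cast this
    have h2 := memLocalIdeal_mul_left hMp (memLocalRing_inv_natCast hM hpk) h1
    have e : ((k : ℂ))⁻¹ * ((k : ℂ) * 1 / 1 - (k : ℂ) * (χ : G → ℂ) g / (χ : G → ℂ) 1) =
        1 - (χ : G → ℂ) g / (χ : G → ℂ) 1 := by
      field_simp
    rw [e] at h2
    exact h2
  have hS := memLocalIdeal_sum hMp Finset.univ _ (fun g _ => hterm g)
  rw [Finset.sum_sub_distrib, ← Finset.sum_div, hsum0, zero_div, sub_zero, Finset.sum_const,
    Finset.card_univ, nsmul_eq_mul, mul_one, ← Nat.card_eq_fintype_card] at hS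
  exact hp ((memLocalIdeal_natCast_iff hM _).1 hS)

omit [Finite G] in
theorem charDegree_eq {χ : G → ℂ} {n : ℕ} (h : χ 1 = n) : Cfsg.charDegree χ = n := by
  unfold Cfsg.charDegree
  rw [h]
  simp

theorem forward (hM : Cfsg.IsPModular p M)
    (H : ∀ χ : Cfsg.IrrCharacter G, χ ∈ Cfsg.principalBlock M G →
      ¬ p ∣ Cfsg.charDegree (χ : G → ℂ) → (χ : G → ℂ) = fun _ => (1 : ℂ)) :
    ¬ p ∣ Nat.card G := by
  classical
  intro hp
  have := Fintype.ofFinite G
  have := Fintype.ofFinite (IrrCharacter G)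
  have hMp := isPrime_of_isPModular hM
  have hB : Cfsg.IsPBlock M (Cfsg.principalBlock M G) := ⟨oneIrr G, rfl⟩
  have hos := osima_block' hMp hB (1 : G)
  rw [blockCoeff_eq_sum] at hos
  -- degrees
  choose d hdpos hd using fun χ : IrrCharacter G => irr_apply_one χ
  set t : IrrCharacter G → ℕ := fun χ => if χ ∈ Cfsg.principalBlock M G then d χ ^ 2 else 0 with ht
  have hsum : ∑ χ : IrrCharacter G, (Cfsg.principalBlock M G).indicator
      (fun χ : IrrCharacter G => (χ : G → ℂ) 1 * conj ((χ : G → ℂ) 1)) χ =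
      ((∑ χ : IrrCharacter G, t χ : ℕ) : ℂ) := by
    rw [Nat.cast_sum]
    refine Finset.sum_congr rfl (fun χ _ => ?_)
    by_cases hχ : χ ∈ Cfsg.principalBlock M G
    · have e : t χ = d χ ^ 2 := by simp only [ht, if_pos hχ]
      rw [Set.indicator_of_mem hχ, e, hd χ, Complex.conj_natCast]
      push_cast
      ring
    · have e : t χ = 0 := by simp only [ht, if_neg hχ]
      rw [Set.indicator_of_notMem hχ, e, Nat.cast_zero]
  rw [hsum] at hos
  -- the sum is prime to p
  have hone_mem : oneIrr G ∈ Cfsg.principalBlock M G := sameBlock_refl hMp _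
  have hd1 : d (oneIrr G) = 1 := by
    have := hd (oneIrr G)
    have h1 : ((oneIrr G : IrrCharacter G) : G → ℂ) 1 = 1 := rfl
    rw [h1] at this
    exact_mod_cast this.symm
  have hnot : ¬ p ∣ ∑ χ : IrrCharacter G, t χ := by
    rw [← Finset.add_sum_erase Finset.univ t (Finset.mem_univ (oneIrr G))]
    have h1 : t (oneIrr G) = 1 := by
      simp only [ht, if_pos hone_mem, hd1, one_pow]
    have h2 : p ∣ ∑ χ ∈ Finset.univ.erase (oneIrr G), t χ := by
      apply Finset.dvd_sum
      intro χ hχ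
      have hne : χ ≠ oneIrr G := Finset.ne_of_mem_erase hχ
      by_cases hχB : χ ∈ Cfsg.principalBlock M G
      · simp only [ht, if_pos hχB]
        have : p ∣ d χ := by
          by_contra hnd
          apply hne
          apply Subtype.ext
          apply H χ hχB
          rw [charDegree_eq (hd χ)]
          exact hnd
        exact dvd_pow this two_ne_zero
      · simp only [ht, if_neg hχB, dvd_zero]
    rw [h1]
    intro h3
    have : p ∣ 1 := (Nat.dvd_add_left h2).1 h3
    exact hM.1.one_lt.ne' (Nat.dvd_one.1 this)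
  -- conclude
  have hinv := memLocalRing_mul hMp hos (memLocalRing_inv_natCast hM hnot)
  have hs0 : ((∑ χ : IrrCharacter G, t χ : ℕ) : ℂ) ≠ 0 := by
    have : (∑ χ : IrrCharacter G, t χ) ≠ 0 := fun h0 => hnot (h0 ▸ dvd_zero p)
    exact_mod_cast this
  rw [mul_assoc, mul_inv_cancel₀ hs0, mul_one] at hinv
  have hG := (memLocalIdeal_natCast_iff hM (Nat.card G)).2 hp
  have h1 := memLocalIdeal_mul_right hMp hG hinv
  have hGne : (Nat.card G : ℂ) ≠ 0 := by
    exact_mod_cast (Nat.card_pos (α := G)).ne'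
  rw [mul_inv_cancel₀ hGne] at h1
  exact not_memLocalIdeal_one hMp h1

end



/-- Let G be a finite group, p a prime and M a maximal ideal of the algebraic integers containing p. Then the principal character is the only irreducible character of degree prime to p in the principal p-block of G if and only if p does not divide the order of G. -/
theorem result {G : Type*} [Group G] [Finite G] (p : ℕ) [Fact p.Prime] (M : Ideal Cfsg.AlgInt) (hM : Cfsg.IsPModular p M) : (∀ χ : Cfsg.IrrCharacter G, χ ∈ Cfsg.principalBlock M G → ¬ p ∣ Cfsg.charDegree (χ : G → ℂ) → (χ : G → ℂ) = fun _ => (1 : ℂ)) ↔ ¬ p ∣ Nat.card G := by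
  exact ⟨fun H => forward p M hM H, fun hp χ hχ _ => backward p M hM hp χ hχ⟩

end Cfsg.Agent.S4916
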