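import Mathlib
import Cfsg.Statements.S4736
import Cfsg.Agent.S4916
import Cfsg.Agent.S0915
import Cfsg.Agent.Lib.Helper16_Cover
import Cfsg.Agent.Lib.Helper77_QuotBlocks
import Cfsg.Agent.Lib.Helper82_ItoMichler
import Cfsg.Agent.Lib.Helper3_Ito
import Cfsg.Agent.Lib.Helper32_PSolvable
import Cfsg.Agent.Lib.Helper76_PSolvable

set_option autoImplicit false
open Cfsg

namespace Cfsg.Agent.S4736

open Cfsg.Agent.Lib.Helper78_LocalRing Cfsg.Agent.Lib.Helper82_ItoMichler

/-- the principal block of a `p'`-group consists of the principal character only -/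
theorem principal_of_pprime {N : Type*} [Group N] [Finite N] (p : ℕ) [Fact p.Prime]
    (M : Ideal Cfsg.AlgInt) (hM : Cfsg.IsPModular p M) (hN : (Nat.card N).Coprime p)
    (φ : Cfsg.IrrCharacter N) (hφ : φ ∈ Cfsg.principalBlock M N) :
    (φ : N → ℂ) = fun _ => (1 : ℂ) := by
  have hp : p.Prime := Fact.out
  have hnd : ¬ p ∣ Nat.card N := by
    intro h
    have h2 : p ∣ Nat.gcd (Nat.card N) p := Nat.dvd_gcd h dvd_rfl
    rw [hN] at h2
    exact hp.one_lt.ne' (Nat.dvd_one.1 h2)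
  refine (Cfsg.Agent.S4916.result p M hM).2 hnd φ hφ ?_
  have := Fintype.ofFinite N
  obtain ⟨n, ρ, hρ, hρφ⟩ := φ.2
  have := hρ
  have h1 : (φ : N → ℂ) 1 = (Module.finrank ℂ (Fin n → ℂ) : ℕ) := by
    rw [← hρφ, Representation.char_one]
  rw [charDegree_eq _ _ h1]
  exact fun h => hnd (h.trans (Cfsg.Agent.Lib.Helper3_CharDegree.finrank_dvd_card ρ))

/-- characters of the principal block have `O_{p'}(G)` in their kernel -/
theorem ker_of_principal {G : Type*} [Group G] [Finite G] (p : ℕ) [Fact p.Prime]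
    (M : Ideal Cfsg.AlgInt) (hM : Cfsg.IsPModular p M) (N : Subgroup G) [hN : N.Normal]
    (hNp : (Nat.card N).Coprime p) (χ : Cfsg.IrrCharacter G)
    (hχ : χ ∈ Cfsg.principalBlock M G) : ∀ u ∈ N, (χ : G → ℂ) u = (χ : G → ℂ) 1 := by
  classical
  have hMp : M.IsPrime := isPrime_of_isPModular hM
  have := Fintype.ofFinite G
  have := Fintype.ofFinite N
  set one_G := Cfsg.Agent.Lib.Helper80_CharBasic.oneIrr G with hone_G
  set one_N := Cfsg.Agent.Lib.Helper80_CharBasic.oneIrr N with hone_N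
  set b : Set (Cfsg.IrrCharacter N) := Cfsg.blockOf M (one_N : N → ℂ) with hb
  have hbB : Cfsg.IsPBlock M b := ⟨one_N, rfl⟩
  have hsb : Cfsg.SameBlock M (one_G : G → ℂ) (χ : G → ℂ) := hχ
  have h1N : one_N ∈ Cfsg.Agent.Lib.Helper16_Cover.gClosure N b :=
    Cfsg.Agent.Lib.Helper16_Cover.subset_gClosure N b (sameBlock_refl hMp _)
  have hcard0 : (Nat.card N : ℂ) ≠ 0 := by
    rw [Nat.cast_ne_zero]; exact Nat.card_pos.ne'
  have hinner : Cfsg.classInner (fun n : N => (one_G : G → ℂ) n) (one_N : N → ℂ) ≠ 0 := by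
    unfold Cfsg.classInner
    simp [hone_G, hone_N, Cfsg.Agent.Lib.Helper80_CharBasic.oneIrr]
  -- every constituent of `χ_N` is trivial
  have hconst : ∀ ψ : Cfsg.IrrCharacter N,
      Cfsg.classInner (fun n : N => (χ : G → ℂ) n) (ψ : N → ℂ) ≠ 0 → ψ = one_N := by
    intro ψ hψ
    have h2 := Cfsg.Agent.Lib.Helper16_Cover.mem_gClosure_of_sameBlock N hMp hbB hsb h1N hinner hψ
    obtain ⟨x, θ, hθ, hθψ⟩ := h2
    have hθ1 : (θ : N → ℂ) = fun _ => (1 : ℂ) := principal_of_pprime p M hM hNp θ hθ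
    apply Subtype.ext
    rw [hθψ, hθ1]
    rfl
  have hcf : Cfsg.IsClassFunction N (fun n : N => (χ : G → ℂ) n) := by
    intro n h
    exact Cfsg.Agent.Lib.Helper3_CharBridge.isClassFunction_of_isIrrCharacter χ.2 (n : G) (h : G)
  have hexp := Cfsg.Agent.Lib.Helper3_CharComplete.classFunction_eq_sum _ hcf
  have hsum : (fun n : N => (χ : G → ℂ) n) =
      Cfsg.classInner (fun n : N => (χ : G → ℂ) n) (one_N : N → ℂ) • (one_N : N → ℂ) := by
    conv_lhs => rw [hexp]
    rw [Finset.sum_eq_single one_N]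
    · intro ψ _ hne
      by_cases h0 : Cfsg.classInner (fun n : N => (χ : G → ℂ) n) (ψ : N → ℂ) = 0
      · rw [h0, zero_smul]
      · exact absurd (hconst ψ h0) hne
    · intro h; exact absurd (Finset.mem_univ _) h
  intro u hu
  have e1 := congrFun hsum ⟨u, hu⟩
  have e2 := congrFun hsum 1
  simp only [Pi.smul_apply, smul_eq_mul, hone_N, Cfsg.Agent.Lib.Helper80_CharBasic.oneIrr,
    mul_one] at e1 e2
  rw [e1]
  exact e2.symm


/-- Itô: a normal abelian subgroup of index prime to `p` forces all irreducible degrees prime to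
`p`. -/
theorem degrees_of_normal_abelian {G : Type*} [Group G] [Finite G] (p : ℕ) (Q : Subgroup G)
    [Q.Normal] (hc : ∀ x ∈ Q, ∀ y ∈ Q, x * y = y * x) (hidx : ¬ p ∣ Q.index)
    (χ : Cfsg.IrrCharacter G) : ¬ p ∣ Cfsg.charDegree (χ : G → ℂ) := by
  obtain ⟨n, ρ, hρ, hχ⟩ := χ.2
  have h1 : Module.finrank ℂ (Fin n → ℂ) ∣ Q.index := Cfsg.Agent.Lib.Helper3_Ito.ito ρ Q hc
  have h2 : (χ : G → ℂ) 1 = (Module.finrank ℂ (Fin n → ℂ) : ℕ) := by
    rw [← hχ, Representation.char_one]
  rw [charDegree_eq _ _ h2]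
  exact fun h => hidx (h.trans h1)

/-- the degree of an inflated function -/
theorem charDegree_comp_mk {G : Type*} [Group G] (N : Subgroup G) [N.Normal] (f : G ⧸ N → ℂ) :
    Cfsg.charDegree (f ∘ (QuotientGroup.mk : G → G ⧸ N)) = Cfsg.charDegree f := by
  unfold Cfsg.charDegree
  simp

/-- in the principal block, height zero means degree prime to `p` -/
theorem height_zero_iff {G : Type*} [Group G] [Finite G] (p : ℕ) [Fact p.Prime]
    (M : Ideal Cfsg.AlgInt) (hM : Cfsg.IsPModular p M) (χ : Cfsg.IrrCharacter G) :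
    Cfsg.blockHeight p (Cfsg.principalBlock M G) (χ : G → ℂ) = 0 ↔
      ¬ p ∣ Cfsg.charDegree (χ : G → ℂ) := by
  have hp : p.Prime := Fact.out
  have hMp : M.IsPrime := isPrime_of_isPModular hM
  have hone : Cfsg.Agent.Lib.Helper80_CharBasic.oneIrr G ∈ Cfsg.principalBlock M G :=
    sameBlock_refl hMp _
  have hinf : sInf ((fun ψ : Cfsg.IrrCharacter G =>
      (Cfsg.charDegree (ψ : G → ℂ)).factorization p) '' Cfsg.principalBlock M G) = 0 := by
    apply Nat.eq_zero_of_le_zero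
    apply Nat.sInf_le
    refine ⟨_, hone, ?_⟩
    have : Cfsg.charDegree ((Cfsg.Agent.Lib.Helper80_CharBasic.oneIrr G : Cfsg.IrrCharacter G) :
        G → ℂ) = 1 := by
      unfold Cfsg.charDegree
      simp [Cfsg.Agent.Lib.Helper80_CharBasic.oneIrr]
    simp only [this]
    simp
  unfold Cfsg.blockHeight
  rw [hinf, Nat.sub_zero]
  have := Fintype.ofFinite G
  obtain ⟨c, hcpos, hc⟩ := Cfsg.Agent.Lib.Helper3_CharColumn.irr_one_eq_natCast χ.2
  rw [charDegree_eq _ c hc, Nat.factorization_eq_zero_iff]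
  constructor
  · rintro (h | h | h)
    · exact absurd hp h
    · exact h
    · exact absurd h hcpos.ne'
  · intro h
    exact Or.inr (Or.inl h)

/-- Let p be a prime, M a maximal ideal of the algebraic integers containing p, and G a finite p-solvable group with Sylow p-subgroup P. Then P is abelian if and only if every irreducible character in the principal p-block of G has height zero. -/
theorem result {G : Type*} [Group G] [Finite G] (p : ℕ) [Fact p.Prime] (M : Ideal Cfsg.AlgInt) (hM : Cfsg.IsPModular p M) (hsolv : Cfsg.IsPSolvable p G) (P : Sylow p G) : IsMulCommutative P ↔ ∀ χ ∈ Cfsg.principalBlock M G, Cfsg.blockHeight p (Cfsg.principalBlock M G) (χ : G → ℂ) = 0 := by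
  classical
  have hp : p.Prime := Fact.out
  have hMp : M.IsPrime := isPrime_of_isPModular hM
  set N := Cfsg.pPrimeCore p G with hNdef
  have hNn : N.Normal := Cfsg.Agent.Lib.Helper76_PSolvable.pPrimeCore_normal p
  have hNp : (Nat.card N).Coprime p := Cfsg.Agent.Lib.Helper76_PSolvable.pPrimeCore_card_coprime p
  have hsolq : Cfsg.IsPSolvable p (G ⧸ N) :=
    Cfsg.Agent.Lib.Helper32_PSolvable.isPSolvable_quotient N hsolv
  have hcoreq : Cfsg.pPrimeCore p (G ⧸ N) = ⊥ :=
    Cfsg.Agent.Lib.Helper76_PSolvable.pPrimeCore_quotient_pPrimeCore p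
  -- the image of `P` in `G ⧸ N`
  set Pb : Subgroup (G ⧸ N) := (P : Subgroup G).map (QuotientGroup.mk' N) with hPb
  have hPbp : IsPGroup p Pb := P.isPGroup'.map _
  have hPbi : ¬ p ∣ Pb.index := fun h =>
    P.not_dvd_index (h.trans (Subgroup.index_map_dvd (P : Subgroup G)
      (QuotientGroup.mk'_surjective N)))
  have hbot : (P : Subgroup G) ⊓ N = ⊥ := by
    apply disjoint_iff.1
    apply Subgroup.disjoint_of_coprime_natCard
    obtain ⟨m, hm⟩ := IsPGroup.iff_card.1 P.isPGroup'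
    rw [hm]
    exact Nat.Coprime.pow_left m hNp.symm
  simp_rw [fun χ : Cfsg.IrrCharacter G => height_zero_iff p M hM χ]
  constructor
  · -- abelian Sylow ⇒ all degrees in the principal block prime to `p`
    intro hcomm χ hχ
    have hker := ker_of_principal p M hM N hNp χ hχ
    obtain ⟨χb, hχb⟩ := Cfsg.Agent.Lib.Helper77_QuotBlocks.exists_quot_char N χ hker
    rw [hχb, charDegree_comp_mk]
    -- `Pb = O_p(G ⧸ N)` is normal abelian of index prime to `p`
    have hPbc : ∀ x ∈ Pb, ∀ y ∈ Pb, x * y = y * x := by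
      rintro _ ⟨x, hx, rfl⟩ _ ⟨y, hy, rfl⟩
      have h1 := hcomm.is_comm.comm (⟨x, hx⟩ : (P : Subgroup G)) ⟨y, hy⟩
      have h2 : x * y = y * x := congrArg Subtype.val h1
      rw [← map_mul, ← map_mul, h2]
    set U := Cfsg.pCore p (G ⧸ N) with hU
    have hUn : U.Normal := Cfsg.Agent.Lib.Helper76_PSolvable.pCore_normal p
    have hUp : IsPGroup p U := Cfsg.Agent.Lib.Helper76_PSolvable.pCore_isPGroup p
    have hUle : U ≤ Pb := hUp.le_sylow_of_normal (hPbp.toSylow hPbi)
    have hPbU : Pb ≤ U := by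
      refine le_trans ?_ (Cfsg.Agent.Lib.Helper76_PSolvable.centralizer_pCore_le p hsolq hcoreq)
      intro x hx
      rw [Subgroup.mem_centralizer_iff]
      intro u hu
      exact hPbc u (hUle hu) x hx
    have hPbU' : Pb = U := le_antisymm hPbU hUle
    have hPbn : Pb.Normal := by rw [hPbU']; exact hUn
    exact degrees_of_normal_abelian p Pb hPbc hPbi χb
  · -- all degrees in the principal block prime to `p` ⇒ abelian Sylow
    intro hdeg
    have hdegq : ∀ χb : Cfsg.IrrCharacter (G ⧸ N),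
        ¬ p ∣ Cfsg.charDegree (χb : G ⧸ N → ℂ) := by
      intro χb
      have hirr : Cfsg.IsIrrCharacter G ((χb : G ⧸ N → ℂ) ∘ (QuotientGroup.mk : G → G ⧸ N)) :=
        Cfsg.Agent.Lib.Helper57_FrobNorm.isIrrCharacter_comp_surjective (QuotientGroup.mk' N)
          (QuotientGroup.mk'_surjective N) χb.2
      have hsb := Cfsg.Agent.S0915.result p M hM hsolq hcoreq
        (Cfsg.Agent.Lib.Helper80_CharBasic.oneIrr (G ⧸ N)) χb
      have hsb' := Cfsg.Agent.Lib.Helper77_QuotBlocks.sameBlock_comp_mk hMp N hsb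
      have hmem : (⟨_, hirr⟩ : Cfsg.IrrCharacter G) ∈ Cfsg.principalBlock M G := hsb'
      have := hdeg ⟨_, hirr⟩ hmem
      rwa [charDegree_comp_mk] at this
    obtain ⟨Q, hQn, hQc, hQp, hQi⟩ := core p (fun H _ => Cfsg.IsPSolvable p H)
      (fun H _ _ _ h => Cfsg.Agent.Lib.Helper32_PSolvable.exists_core_ne_bot h)
      (fun H _ _ K _ h => Cfsg.Agent.Lib.Helper32_PSolvable.isPSolvable_quotient K h)
      _ (G ⧸ N) rfl hsolq hdegq
    have hPbQ : Pb ≤ Q := le_of_normal_of_isPGroup Q hQp hQi Pb hPbp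
    refine ⟨⟨fun a b => ?_⟩⟩
    apply Subtype.ext
    show (a : G) * (b : G) = (b : G) * (a : G)
    have h7 : (a : G) * b * (a : G)⁻¹ * (b : G)⁻¹ ∈ N := by
      rw [← QuotientGroup.eq_one_iff]
      have ha' : (QuotientGroup.mk' N (a : G)) ∈ Q := hPbQ ⟨a, a.2, rfl⟩
      have hb' : (QuotientGroup.mk' N (b : G)) ∈ Q := hPbQ ⟨b, b.2, rfl⟩
      have h8 := hQc _ ha' _ hb'
      have : (((a : G) * b * (a : G)⁻¹ * (b : G)⁻¹ : G) : G ⧸ N) =
          QuotientGroup.mk' N a * QuotientGroup.mk' N b * (QuotientGroup.mk' N a)⁻¹ *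
            (QuotientGroup.mk' N b)⁻¹ := by simp
      rw [this, h8]
      group
    have h9 : (a : G) * b * (a : G)⁻¹ * (b : G)⁻¹ ∈ (P : Subgroup G) :=
      mul_mem (mul_mem (mul_mem a.2 b.2) (inv_mem a.2)) (inv_mem b.2)
    have h10 : (a : G) * b * (a : G)⁻¹ * (b : G)⁻¹ ∈ (P : Subgroup G) ⊓ N := ⟨h9, h7⟩
    rw [hbot, Subgroup.mem_bot] at h10
    calc (a : G) * b = (a : G) * b * (a : G)⁻¹ * (b : G)⁻¹ * (b * a) := by group
      _ = b * a := by rw [h10, one_mul]

end Cfsg.Agent.S4736
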