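import Cfsg.Statements.S5025
import Cfsg.Agent.Lib.Helper83_RootSets

set_option autoImplicit false
open Cfsg

namespace Cfsg.Agent.S5025

open Cfsg.Agent.Lib.Helper83_RankOne Cfsg.Agent.Lib.Helper83_RootSets

theorem result {G : Type*} [Group G] {S : Set (Subgroup G)} (hS : Cfsg.IsRootSubgroupSet S)
    {A B : Subgroup G} (hA : A ∈ S) (hB : B ∈ Cfsg.rankOnePartners S A) {z : G}
    (hz : z ∈ Subgroup.centralizer ((A ⊔ B : Subgroup G) : Set G)) (hz1 : z ≠ 1) :
    ∀ a ∈ A, a ≠ 1 → z * a ∉ Cfsg.rootElements S := by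
  have _ := hA
  obtain ⟨hBS, hAB⟩ := hB
  intro a ha ha1 hroot
  obtain ⟨hza1, C, hC, hzaC⟩ := hroot
  -- z commutes with every element of A ⊔ B
  have hzc : ∀ x ∈ A ⊔ B, z * x = x * z := by
    intro x hx
    exact (Subgroup.mem_centralizer_iff.mp hz x hx).symm
  have hzinv : ∀ x ∈ A ⊔ B, z⁻¹ * x = x * z⁻¹ := by
    intro x hx
    have := hzc x hx
    have e : z⁻¹ * x = z⁻¹ * (x * z) * z⁻¹ := by group
    rw [e, ← this]; group
  -- z normalizes every subgroup of A ⊔ B
  have hznorm : ∀ H : Subgroup G, H ≤ A ⊔ B → Cfsg.conjBy H z = H := by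
    intro H hH
    apply conjBy_of_mem_normalizer
    exact mem_normalizer_of_commute (fun c hc => hzc c (hH hc))
  have hznorm' : ∀ H : Subgroup G, H ≤ A ⊔ B → Cfsg.conjBy H z⁻¹ = H := by
    intro H hH
    apply conjBy_of_mem_normalizer
    exact mem_normalizer_of_commute (fun c hc => hzinv c (hH hc))
  have haN : a ∉ Subgroup.normalizer (B : Set G) := fun h =>
    ha1 (eq_one_of_mem_of_mem_normalizer hAB ha h)
  rcases hS.pair C hC B hBS with h1 | h1 | h1
  · -- C commutes with B
    rw [commutator_eq_bot_iff_commute] at h1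
    apply haN
    apply mem_normalizer_of_commute
    intro b hb
    have h2 := h1 _ hzaC b hb
    have h3 := hzinv b (Subgroup.mem_sup_right hb)
    have e : a * b = z⁻¹ * (z * a * b) := by group
    rw [e, h2]
    have e2 : z⁻¹ * (b * (z * a)) = (z⁻¹ * b) * z * a := by group
    rw [e2, h3]; group
  · -- (C, B) is a rank one pair
    obtain ⟨b', hb', _, hconj'⟩ := h1.cond_left _ hzaC hza1
    obtain ⟨b, hb, _, hconj⟩ := hAB.cond_left a ha ha1
    have e1 : Cfsg.conjBy B (z * a)⁻¹ = Cfsg.conjBy B a⁻¹ := by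
      rw [mul_inv_rev, ← conjBy_mul, hznorm' B le_sup_right]
    rw [e1, ← hconj] at hconj'
    have hCeq : C = Cfsg.conjBy A (b' * b⁻¹) := by
      rw [← conjBy_mul, ← hconj', conjBy_conjBy_inv]
    have hCmem : C ∈ Cfsg.unipotentSubgroups A B :=
      ⟨b' * b⁻¹, Subgroup.mem_sup_right (mul_mem hb' (inv_mem hb)), hCeq⟩
    have hCle : C ≤ A ⊔ B := le_sup_of_mem_unipotentSubgroups hCmem
    by_cases hCA : C = A
    · -- z ∈ A centralizes B
      rw [hCA] at hzaC
      have hzA : z ∈ A := by
        have := mul_mem hzaC (inv_mem ha)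
        simpa using this
      apply hz1
      exact eq_one_of_mem_of_mem_normalizer hAB hzA
        (mem_normalizer_of_commute (fun c hc => hzc c (Subgroup.mem_sup_right hc)))
    · have hbot := inf_normalizer_eq_bot_of_mem hAB hCmem hCA
      have hzN : z⁻¹ ∈ Subgroup.normalizer (C : Set G) :=
        mem_normalizer_of_conjBy_eq (hznorm' C hCle)
      have haN' : a ∈ Subgroup.normalizer (C : Set G) := by
        have := mul_mem hzN (Subgroup.le_normalizer hzaC)
        simpa using this
      have : a ∈ A ⊓ Subgroup.normalizer (C : Set G) := Subgroup.mem_inf.mpr ⟨ha, haN'⟩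
      rw [hbot, Subgroup.mem_bot] at this
      exact ha1 this
  · -- commutator case for (C, B)
    have h2 := conj_commute_of_commutatorCase (hS.commutative B hBS) h1 hzaC
    have e1 : Cfsg.conjBy B (z * a) = Cfsg.conjBy B a := by
      rw [← conjBy_mul]
      apply hznorm
      exact conjBy_le_of_mem le_sup_right (Subgroup.mem_sup_left ha)
    rw [e1] at h2
    exact not_commute_conjBy (Cfsg.RankOnePair_symm hAB) ha ha1 h2

end Cfsg.Agent.S5025
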