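import Cfsg.Statements.S5029
import Cfsg.Agent.Lib.Helper83_CommCase2

set_option autoImplicit false
open Cfsg
open scoped commutatorElement

namespace Cfsg.Agent.S5029

open Cfsg.Agent.Lib.Helper83_RankOne Cfsg.Agent.Lib.Helper83_RootSets
  Cfsg.Agent.Lib.Helper83_CommCase Cfsg.Agent.Lib.Helper83_CommCase2

variable {G : Type*} [Group G]

section

variable {S : Set (Subgroup G)} {A B D : Subgroup G}

/-- The members of `S` inside `A ⊔ ⁅A, B⁆`. -/
theorem membersIn_eq (hS : Cfsg.IsRootSubgroupSet S) (hA : A ∈ S) (hD : D ∈ S)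
    (hAD : Cfsg.IsRankOnePair A D) (h : Cfsg.RootCommutatorCase S A B) :
    Cfsg.membersIn S (A ⊔ ⁅A, B⁆) = (fun b : G => Cfsg.conjBy A b) '' (B : Set G) ∪ {⁅A, B⁆} := by
  ext E
  constructor
  · rintro ⟨hE, hle⟩
    by_cases hcase : ∃ e ∈ E, ∃ a ∈ A, ∃ c ∈ ⁅A, B⁆, e = a * c ∧ a ≠ 1
    · left
      obtain ⟨e, he, a, ha, c, hc, rfl, ha1⟩ := hcase
      obtain ⟨b, hb, hmem⟩ := exists_mem_conjBy h ha ha1 hc
      refine ⟨b, hb, ?_⟩
      have hne1 : a * c ≠ 1 := by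
        intro h1
        have h2 : a = c⁻¹ := eq_inv_iff_mul_eq_one.mpr h1
        have : a ∈ A ⊓ ⁅A, B⁆ := Subgroup.mem_inf.mpr ⟨ha, by rw [h2]; exact inv_mem hc⟩
        rw [inf_commutator_eq_bot hS hD hAD h, Subgroup.mem_bot] at this
        exact ha1 this
      rcases inf_eq_bot_or_eq hS (hS.conj_mem D hD b) (isRankOnePair_conj hAD b) E hE with h1 | h1
      · have : a * c ∈ Cfsg.conjBy A b ⊓ E := Subgroup.mem_inf.mpr ⟨hmem, he⟩
        rw [h1, Subgroup.mem_bot] at this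
        exact absurd this hne1
      · exact h1
    · right
      push Not at hcase
      have hEle : E ≤ ⁅A, B⁆ := by
        intro e he
        obtain ⟨a, ha, c, hc, rfl⟩ := exists_mul_of_mem_sup h (hle he)
        have := hcase _ he a ha c hc rfl
        rw [this, one_mul]; exact hc
      exact eq_of_le_commutator hS hA hD hAD h hE hEle
  · rintro (⟨b, hb, rfl⟩ | hE)
    · exact ⟨hS.conj_mem A hA b, conjBy_le_sup hb⟩
    · rw [Set.mem_singleton_iff] at hE
      rw [hE]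
      exact ⟨h.1, le_sup_right⟩

theorem isPartition (hS : Cfsg.IsRootSubgroupSet S) (hA : A ∈ S) (hD : D ∈ S)
    (hAD : Cfsg.IsRankOnePair A D) (h : Cfsg.RootCommutatorCase S A B) :
    Cfsg.IsSubgroupPartition (A ⊔ ⁅A, B⁆) (Cfsg.membersIn S (A ⊔ ⁅A, B⁆)) := by
  refine ⟨fun E hE => hE.2, ?_, ?_⟩
  · intro x hx hx1
    obtain ⟨a, ha, c, hc, rfl⟩ := exists_mul_of_mem_sup h hx
    by_cases ha1 : a = 1
    · refine ⟨⁅A, B⁆, ⟨h.1, le_sup_right⟩, ?_⟩
      rw [ha1, one_mul]; exact hc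
    · obtain ⟨b, hb, hmem⟩ := exists_mem_conjBy h ha ha1 hc
      exact ⟨Cfsg.conjBy A b, ⟨hS.conj_mem A hA b, conjBy_le_sup hb⟩, hmem⟩
  · intro E hE F hF hEF
    have key : ∀ E ∈ Cfsg.membersIn S (A ⊔ ⁅A, B⁆), ∀ F ∈ Cfsg.membersIn S (A ⊔ ⁅A, B⁆), E ≠ F →
        E ∈ (fun b : G => Cfsg.conjBy A b) '' (B : Set G) → E ⊓ F = ⊥ := by
      rintro E _ F hF hEF ⟨b, _, rfl⟩
      rcases inf_eq_bot_or_eq hS (hS.conj_mem D hD b) (isRankOnePair_conj hAD b) F hF.1 with h1 | h1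
      · exact h1
      · exact absurd h1 hEF
    have hE' := hE
    have hF' := hF
    rw [membersIn_eq hS hA hD hAD h] at hE' hF'
    rcases hE' with hE' | hE'
    · exact key E hE F hF hEF hE'
    · rcases hF' with hF' | hF'
      · rw [inf_comm]
        exact key F hF E hE (Ne.symm hEF) hF'
      · rw [Set.mem_singleton_iff] at hE' hF'
        exact absurd (hE'.trans hF'.symm) hEF

end

theorem result {G : Type*} [Group G] {S : Set (Subgroup G)} (hS : Cfsg.IsRootSubgroupSet S)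
    {A B : Subgroup G} (hA : ¬ Cfsg.IsIsolatedIn (Cfsg.FAdj S) S A) (hAS : A ∈ S) (hB : B ∈ S) (hC : ⁅A, B⁆ ∈ S) :
    Cfsg.membersIn S (A ⊔ ⁅A, B⁆) = (fun b : G => Cfsg.conjBy A b) '' (B : Set G) ∪ {⁅A, B⁆} ∧
    Cfsg.IsSubgroupPartition (A ⊔ ⁅A, B⁆) (Cfsg.membersIn S (A ⊔ ⁅A, B⁆)) ∧
    A ∈ Cfsg.linePartners S ⁅A, B⁆ ∧
    ∀ a ∈ A, a ≠ 1 → ∃ φ : ↥B ≃* ↥⁅A, B⁆, ∀ b : ↥B, (φ b : G) = a⁻¹ * (b : G)⁻¹ * a * b := by
  obtain ⟨D, hD, hAD⟩ := exists_partner hA hAS
  have h := commutatorCase_of_mem hS hAS hB hC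
  have hpart := isPartition hS hAS hD hAD h
  refine ⟨membersIn_eq hS hAS hD hAD h, hpart, ?_, ?_⟩
  · refine ⟨⟨hAS, ne_commutator hS h, ?_⟩, ?_⟩
    · rw [commutator_eq_bot_iff_commute]
      intro c hc a ha
      exact comm_left h hc ha
    · rw [sup_comm]; exact hpart
  · intro a ha ha1
    have hainv : a⁻¹ ∈ A := inv_mem ha
    have hainv1 : a⁻¹ ≠ 1 := by simpa using ha1
    -- inversion on the commutative group B
    have hBc := hS.commutative B hB
    let ι : B →* B :=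
      { toFun := fun b => b⁻¹
        map_one' := inv_one
        map_mul' := fun x y => by
          rw [mul_inv_rev]
          exact (isMulCommutative_iff.mp hBc) _ _ }
    have hιbij : Function.Bijective ι := by
      constructor
      · intro x y hxy
        exact inv_injective hxy
      · intro y
        exact ⟨y⁻¹, inv_inv y⟩
    let ψ : B →* (⁅A, B⁆ : Subgroup G) := (commHom h hainv).comp ι
    have hcbij : Function.Bijective (commHom h hainv) :=
      ⟨commHom_injective hS hAS hD hAD h hainv hainv1, commHom_surjective h hainv hainv1⟩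
    have hψbij : Function.Bijective ψ := by
      have := Function.Bijective.comp hcbij hιbij
      exact this
    refine ⟨MulEquiv.ofBijective ψ hψbij, ?_⟩
    intro b
    show ((commHom h hainv (ι b) : (⁅A, B⁆ : Subgroup G)) : G) = _
    rw [commHom_apply]
    show ⁅a⁻¹, ((b⁻¹ : B) : G)⁆ = _
    rw [commutatorElement_def, Subgroup.coe_inv, inv_inv, inv_inv]

end Cfsg.Agent.S5029
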