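import Cfsg.Statements.S5036
import Cfsg.Agent.Lib.Helper83_CommCase2

set_option autoImplicit false
open Cfsg
open scoped commutatorElement

namespace Cfsg.Agent.S5036

open Cfsg.Agent.Lib.Helper83_RankOne Cfsg.Agent.Lib.Helper83_RootSets
open Cfsg.Agent.Lib.Helper83_CommCase Cfsg.Agent.Lib.Helper83_CommCase2

variable {G : Type*} [Group G] {S : Set (Subgroup G)} {A B D : Subgroup G}

/-- In the commutator case, an element of `A` commuting with all of `B` is trivial. -/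
theorem eq_one_of_commute_all (hS : Cfsg.IsRootSubgroupSet S) (h : Cfsg.RootCommutatorCase S A B)
    {a : G} (ha : a ∈ A) (hc : ∀ b ∈ B, a * b = b * a) : a = 1 := by
  by_contra ha1
  apply hS.ne_bot _ h.1
  rw [← h.2.2.1 a ha ha1, Subgroup.closure_eq_bot_iff]
  rintro _ ⟨b, hb, rfl⟩
  rw [Set.mem_singleton_iff]
  show a * b * a⁻¹ * b⁻¹ = 1
  rw [hc b hb]
  group

theorem inf_comm_eq_bot (hS : Cfsg.IsRootSubgroupSet S) (h : Cfsg.RootCommutatorCase S A B) :
    A ⊓ ⁅A, B⁆ = ⊥ := by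
  rw [eq_bot_iff]
  intro a ha
  rw [Subgroup.mem_inf] at ha
  rw [Subgroup.mem_bot]
  exact eq_one_of_commute_all hS h ha.1 (fun b hb => comm_right h ha.2 hb)

theorem exists_ne_one_of_ne_bot {K : Subgroup G} (hK : K ≠ ⊥) : ∃ x ∈ K, x ≠ 1 := by
  by_contra hcon
  push Not at hcon
  apply hK
  rw [eq_bot_iff]
  intro x hx
  rw [Subgroup.mem_bot]
  exact hcon x hx

/-- `B` and `D` form a rank one pair. -/
theorem rankOne (hS : Cfsg.IsRootSubgroupSet S) (hA : A ∈ S) (hB : B ∈ S) (hC : ⁅A, B⁆ ∈ S)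
    (hD : D ∈ S) (hDC : ⁅D, ⁅A, B⁆⁆ = A) : Cfsg.IsRankOnePair B D := by
  have hAB : Cfsg.RootCommutatorCase S A B := commutatorCase_of_mem hS hA hB hC
  have hDCc : Cfsg.RootCommutatorCase S D ⁅A, B⁆ :=
    commutatorCase_of_mem hS hD hC (by rw [hDC]; exact hA)
  have hCD : Cfsg.RootCommutatorCase S ⁅A, B⁆ D := commutatorCase_symm hDCc
  have hAD_comm : ∀ a ∈ A, ∀ d ∈ D, a * d = d * a := by
    intro a ha d hd
    rw [← hDC] at ha
    exact comm_left hDCc ha hd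
  have hAC_comm : ∀ a ∈ A, ∀ c ∈ ⁅A, B⁆, a * c = c * a := fun a ha c hc => (comm_left hAB hc ha).symm
  have hCB_comm : ∀ c ∈ ⁅A, B⁆, ∀ b ∈ B, c * b = b * c := fun c hc b hb => comm_right hAB hc hb
  rcases hS.pair B hB D hD with h1 | h1 | hBD
  · exfalso
    rw [commutator_eq_bot_iff_commute] at h1
    apply hS.ne_bot A hA
    rw [← hDC, commutator_eq_bot_iff_commute]
    intro d hd c hc
    have hle : ⁅A, B⁆ ≤ Subgroup.centralizer ({d} : Set G) := by
      rw [Subgroup.commutator_le]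
      intro a ha b hb
      rw [Subgroup.mem_centralizer_iff]
      intro x hx
      rw [Set.mem_singleton_iff] at hx
      subst hx
      have e1 := hAD_comm a ha x hd
      have e2 := h1 b hb x hd
      rw [commutatorElement_def]
      calc x * (a * b * a⁻¹ * b⁻¹) = (x * a) * b * a⁻¹ * b⁻¹ := by group
        _ = a * (x * b) * a⁻¹ * b⁻¹ := by rw [← e1]; group
        _ = a * b * (x * a⁻¹) * b⁻¹ := by rw [← e2]; group
        _ = a * b * a⁻¹ * (x * b⁻¹) := by
          have : x * a⁻¹ = a⁻¹ * x := by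
            calc x * a⁻¹ = a⁻¹ * (a * x) * a⁻¹ := by group
              _ = a⁻¹ * x := by rw [e1]; group
          rw [this]; group
        _ = a * b * a⁻¹ * b⁻¹ * x := by
          have : x * b⁻¹ = b⁻¹ * x := by
            calc x * b⁻¹ = b⁻¹ * (b * x) * b⁻¹ := by group
              _ = b⁻¹ * x := by rw [e2]; group
          rw [this]; group
    have := (Subgroup.mem_centralizer_iff.mp (hle hc)) d (Set.mem_singleton d)
    exact this
  · exact h1
  · exfalso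
    obtain ⟨c, hc, hc1⟩ := exists_ne_one_of_ne_bot (hS.ne_bot _ hC)
    -- some d does not commute with c
    obtain ⟨d, hd, hdc⟩ : ∃ d ∈ D, d⁻¹ * c * d * c⁻¹ ≠ 1 := by
      by_contra hcon
      push Not at hcon
      apply hc1
      apply eq_one_of_commute_all hS hCD hc
      intro d hd
      have h2 := hcon d hd
      calc c * d = d * (d⁻¹ * c * d * c⁻¹) * c := by group
        _ = d * c := by rw [h2]; group
    have ha₁ : d⁻¹ * c * d * c⁻¹ ∈ A := by
      rw [← hDC]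
      have := Subgroup.commutator_mem_commutator (inv_mem hd) hc
      rwa [commutatorElement_def, inv_inv] at this
    generalize ha₁def : d⁻¹ * c * d * c⁻¹ = a₁ at ha₁ hdc
    have ha₁inv : a₁⁻¹ ≠ 1 := by simpa using hdc
    obtain ⟨b₀, hb₀, hb₀c⟩ := exists_commutator_eq hAB (inv_mem ha₁) ha₁inv hc
    rw [commutatorElement_def, inv_inv] at hb₀c
    -- b := b₀⁻¹
    have hbB : b₀⁻¹ ∈ B := inv_mem hb₀
    generalize hbdef : b₀⁻¹ = b at hbB
    have hb₀' : b₀ = b⁻¹ := by rw [← hbdef, inv_inv]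
    rw [hb₀'] at hb₀c
    rw [inv_inv] at hb₀c
    -- hb₀c : a₁⁻¹ * b⁻¹ * a₁ * b = c
    have ha₂ : d * c * d⁻¹ * c⁻¹ ∈ A := by
      rw [← hDC]
      exact Subgroup.commutator_mem_commutator hd hc
    generalize ha₂def : d * c * d⁻¹ * c⁻¹ = a₂ at ha₂
    have s1 : d⁻¹ * c * d = a₁ * c := by rw [← ha₁def]; group
    have s1' : d * c * d⁻¹ = a₂ * c := by rw [← ha₂def]; group
    have h12 : a₁ * a₂ = 1 := by
      have e1 : c = a₁ * a₂ * c := by
        calc c = d * (d⁻¹ * c * d) * d⁻¹ := by group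
          _ = d * (a₁ * c) * d⁻¹ := by rw [s1]
          _ = (d * a₁) * c * d⁻¹ := by group
          _ = (a₁ * d) * c * d⁻¹ := by rw [hAD_comm a₁ ha₁ d hd]
          _ = a₁ * (d * c * d⁻¹) := by group
          _ = a₁ * a₂ * c := by rw [s1']; group
      calc a₁ * a₂ = (a₁ * a₂ * c) * c⁻¹ := by group
        _ = 1 := by rw [← e1]; group
    have ha₂1 : a₂ ≠ 1 := by
      intro h2
      rw [h2, mul_one] at h12
      exact hdc h12
    have s2 : b⁻¹ * (a₁ * c) * b = a₁ * (c * c) := by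
      calc b⁻¹ * (a₁ * c) * b = a₁ * (a₁⁻¹ * b⁻¹ * a₁ * b) * (b⁻¹ * (c * b)) := by group
        _ = a₁ * c * (b⁻¹ * (b * c)) := by rw [hb₀c, hCB_comm c hc b hbB]
        _ = a₁ * (c * c) := by group
    have s3 : d * (a₁ * (c * c)) * d⁻¹ = a₂ * (c * c) := by
      calc d * (a₁ * (c * c)) * d⁻¹ = (d * a₁) * d⁻¹ * (d * c * d⁻¹) * (d * c * d⁻¹) := by group
        _ = (a₁ * d) * d⁻¹ * (a₂ * c) * (a₂ * c) := by rw [hAD_comm a₁ ha₁ d hd, s1']
        _ = a₁ * a₂ * (c * a₂) * c := by group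
        _ = a₁ * a₂ * (a₂ * c) * c := by rw [hAC_comm a₂ ha₂ c hc]
        _ = a₂ * (c * c) := by rw [h12]; group
    have hc₂ : a₂⁻¹ * b * a₂ * b⁻¹ ∈ ⁅A, B⁆ := by
      have := Subgroup.commutator_mem_commutator (inv_mem ha₂) hbB
      rwa [commutatorElement_def, inv_inv] at this
    generalize hc₂def : a₂⁻¹ * b * a₂ * b⁻¹ = c₂ at hc₂
    have s4 : b * (a₂ * (c * c)) * b⁻¹ = a₂ * (c₂ * (c * c)) := by
      calc b * (a₂ * (c * c)) * b⁻¹ = a₂ * (a₂⁻¹ * b * a₂ * b⁻¹) * (b * c * b⁻¹) * (b * c * b⁻¹) := by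
            group
        _ = a₂ * c₂ * c * c := by
          have : b * c * b⁻¹ = c := by rw [← hCB_comm c hc b hbB]; group
          rw [hc₂def, this]
        _ = a₂ * (c₂ * (c * c)) := by group
    have he : ⁅b, d⁆ ∈ ⁅B, D⁆ := Subgroup.commutator_mem_commutator hbB hd
    have hecomp : ⁅b, d⁆ * c * ⁅b, d⁆⁻¹ = a₂ * (c₂ * (c * c)) := by
      rw [commutatorElement_def]
      calc b * d * b⁻¹ * d⁻¹ * c * (b * d * b⁻¹ * d⁻¹)⁻¹
          = b * (d * (b⁻¹ * (d⁻¹ * c * d) * b) * d⁻¹) * b⁻¹ := by group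
        _ = a₂ * (c₂ * (c * c)) := by rw [s1, s2, s3, s4]
    apply ha₂1
    apply eq_one_of_commute_all hS hAB ha₂
    intro b' hb'
    have hcc : c₂ * (c * c) ∈ ⁅A, B⁆ := mul_mem hc₂ (mul_mem hc hc)
    have heb : ⁅b, d⁆ * b' = b' * ⁅b, d⁆ := comm_left hBD he hb'
    have h5 : (⁅b, d⁆ * c * ⁅b, d⁆⁻¹) * b' = b' * (⁅b, d⁆ * c * ⁅b, d⁆⁻¹) := by
      have heb' : ⁅b, d⁆⁻¹ * b' = b' * ⁅b, d⁆⁻¹ := by
        calc ⁅b, d⁆⁻¹ * b' = ⁅b, d⁆⁻¹ * (b' * ⁅b, d⁆) * ⁅b, d⁆⁻¹ := by group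
          _ = b' * ⁅b, d⁆⁻¹ := by rw [← heb]; group
      calc (⁅b, d⁆ * c * ⁅b, d⁆⁻¹) * b' = ⁅b, d⁆ * c * (⁅b, d⁆⁻¹ * b') := by group
        _ = ⁅b, d⁆ * (c * b') * ⁅b, d⁆⁻¹ := by rw [heb']; group
        _ = (⁅b, d⁆ * b') * c * ⁅b, d⁆⁻¹ := by rw [hCB_comm c hc b' hb']; group
        _ = b' * (⁅b, d⁆ * c * ⁅b, d⁆⁻¹) := by rw [heb]; group
    rw [hecomp] at h5
    calc a₂ * b' = (a₂ * (c₂ * (c * c))) * b' * (c₂ * (c * c))⁻¹ := by
          rw [mul_assoc a₂, mul_assoc a₂, hCB_comm _ hcc b' hb']; group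
      _ = b' * (a₂ * (c₂ * (c * c))) * (c₂ * (c * c))⁻¹ := by rw [h5]
      _ = b' * a₂ := by group


/-- The elements of `N` commuting with all of `Q`. -/
def fixN (N Q : Subgroup G) : Subgroup G := N ⊓ Subgroup.centralizer (Q : Set G)

theorem mem_fixN {N Q : Subgroup G} {y : G} : y ∈ fixN N Q ↔ y ∈ N ∧ ∀ q ∈ Q, q * y = y * q := by
  unfold fixN
  rw [Subgroup.mem_inf, Subgroup.mem_centralizer_iff]
  rfl

theorem fixN_conj {N Q : Subgroup G} {x : G} (hN : Cfsg.conjBy N x = N) :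
    fixN N (Cfsg.conjBy Q x) = Cfsg.conjBy (fixN N Q) x := by
  ext y
  rw [mem_conjBy_iff, mem_fixN, mem_fixN]
  constructor
  · rintro ⟨hy, hc⟩
    refine ⟨?_, ?_⟩
    · rw [← hN, mem_conjBy_iff] at hy
      exact hy
    · intro q hq
      have h1 := hc (x * q * x⁻¹) (conj_mem_conjBy hq x)
      calc q * (x⁻¹ * y * x) = x⁻¹ * (x * q * x⁻¹ * y) * x := by group
        _ = x⁻¹ * (y * (x * q * x⁻¹)) * x := by rw [h1]
        _ = x⁻¹ * y * x * q := by group
  · rintro ⟨hy, hc⟩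
    refine ⟨?_, ?_⟩
    · rw [← hN, mem_conjBy_iff]
      exact hy
    · intro q hq
      rw [mem_conjBy_iff] at hq
      have h1 := hc _ hq
      calc q * y = x * ((x⁻¹ * q * x) * (x⁻¹ * y * x)) * x⁻¹ := by group
        _ = x * ((x⁻¹ * y * x) * (x⁻¹ * q * x)) * x⁻¹ := by rw [h1]
        _ = y * q := by group

theorem conjBy_eq_of_commute {Q : Subgroup G} {x : G} (h : ∀ q ∈ Q, x * q = q * x) :
    Cfsg.conjBy Q x = Q := by
  ext y
  rw [mem_conjBy_iff]
  constructor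
  · intro hy
    have h1 := h _ hy
    have e : y = x⁻¹ * y * x := by
      calc y = x * (x⁻¹ * y * x) * x⁻¹ := by group
        _ = (x⁻¹ * y * x) * x * x⁻¹ := by rw [h1]
        _ = x⁻¹ * y * x := by group
    rw [e]; exact hy
  · intro hy
    have h1 := h _ hy
    have e : x⁻¹ * y * x = y := by
      calc x⁻¹ * y * x = x⁻¹ * (y * x) := by group
        _ = x⁻¹ * (x * y) := by rw [h1]
        _ = y := by group
    rw [e]; exact hy


/-- Let S be a set of abstract root subgroups of G, A, B ∈ S with C = ⁅A, B⁆ ∈ S, and D ∈ S with ⁅D, C⁆ = A. Put X = ⟨B, D⟩ and N = AC. Then B, D form a rank one pair; the conjugates of A under X are the conjugates of C under X, namely the conjugates of A by elements of B together with C, equally the conjugates of C by elements of D together with A, and they partition N; and the centralizer of N in X is central in X. -/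
theorem result {G : Type*} [Group G] {S : Set (Subgroup G)} (hS : Cfsg.IsRootSubgroupSet S)
    {A B D : Subgroup G} (hA : A ∈ S) (hB : B ∈ S) (hC : ⁅A, B⁆ ∈ S) (hD : D ∈ S) (hDC : ⁅D, ⁅A, B⁆⁆ = A) :
    Cfsg.IsRankOnePair B D ∧
    {E | ∃ x ∈ B ⊔ D, E = Cfsg.conjBy A x} = {E | ∃ x ∈ B ⊔ D, E = Cfsg.conjBy ⁅A, B⁆ x} ∧
    {E | ∃ x ∈ B ⊔ D, E = Cfsg.conjBy A x} = (fun b : G => Cfsg.conjBy A b) '' (B : Set G) ∪ {⁅A, B⁆} ∧
    {E | ∃ x ∈ B ⊔ D, E = Cfsg.conjBy A x} = (fun d : G => Cfsg.conjBy ⁅A, B⁆ d) '' (D : Set G) ∪ {A} ∧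
    Cfsg.IsSubgroupPartition (A ⊔ ⁅A, B⁆) {E | ∃ x ∈ B ⊔ D, E = Cfsg.conjBy A x} ∧
    ∀ x ∈ (B ⊔ D) ⊓ Subgroup.centralizer ((A ⊔ ⁅A, B⁆ : Subgroup G) : Set G), ∀ y ∈ B ⊔ D, x * y = y * x := by
  have hr : Cfsg.IsRankOnePair B D := rankOne hS hA hB hC hD hDC
  have hr' := Cfsg.RankOnePair_symm hr
  have hAB : Cfsg.RootCommutatorCase S A B := commutatorCase_of_mem hS hA hB hC
  have hBA : Cfsg.RootCommutatorCase S B A := commutatorCase_symm hAB
  have hDCc : Cfsg.RootCommutatorCase S D ⁅A, B⁆ :=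
    commutatorCase_of_mem hS hD hC (by rw [hDC]; exact hA)
  have hCD : Cfsg.RootCommutatorCase S ⁅A, B⁆ D := commutatorCase_symm hDCc
  have hCDeq : ⁅⁅A, B⁆, D⁆ = A := by rw [Subgroup.commutator_comm]; exact hDC
  have hAD_comm : ∀ a ∈ A, ∀ d ∈ D, a * d = d * a := by
    intro a ha d hd
    rw [← hDC] at ha
    exact comm_left hDCc ha hd
  have hAC_comm : ∀ a ∈ A, ∀ c ∈ ⁅A, B⁆, a * c = c * a := fun a ha c hc => (comm_left hAB hc ha).symm
  have hCB_comm : ∀ c ∈ ⁅A, B⁆, ∀ b ∈ B, c * b = b * c := fun c hc b hb => comm_right hAB hc hb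
  have hAC : A ⊓ ⁅A, B⁆ = ⊥ := inf_comm_eq_bot hS hAB
  -- N is invariant
  have hNle : ∀ x ∈ B ⊔ D, Cfsg.conjBy (A ⊔ ⁅A, B⁆) x ≤ A ⊔ ⁅A, B⁆ := by
    intro x hx
    induction hx using sup_induction with
    | left b hb =>
      rw [conjBy_sup]
      refine sup_le (conjBy_le_sup hb) ?_
      rw [conjBy_eq_of_commute (fun c hc => (hCB_comm c hc b hb).symm)]
      exact le_sup_right
    | right d hd =>
      rw [conjBy_sup]
      refine sup_le ?_ ?_
      · rw [conjBy_eq_of_commute (fun a ha => (hAD_comm a ha d hd).symm)]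
        exact le_sup_left
      · have h1 : Cfsg.conjBy ⁅A, B⁆ d ≤ ⁅A, B⁆ ⊔ ⁅⁅A, B⁆, D⁆ := conjBy_le_sup hd
        rw [hCDeq, sup_comm] at h1
        exact h1
    | one => rw [conjBy_one]
    | mul y z _ _ ihy ihz =>
      rw [← conjBy_mul]
      exact le_trans (conjBy_mono ihz y) ihy
  have hN : ∀ x ∈ B ⊔ D, Cfsg.conjBy (A ⊔ ⁅A, B⁆) x = A ⊔ ⁅A, B⁆ := by
    intro x hx
    apply le_antisymm (hNle x hx)
    have h1 := conjBy_mono (hNle x⁻¹ (inv_mem hx)) x
    rwa [conjBy_conjBy_inv] at h1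
  -- fixed points
  have hfixD : fixN (A ⊔ ⁅A, B⁆) D = A := by
    ext n
    rw [mem_fixN]
    constructor
    · rintro ⟨hn, hcomm⟩
      obtain ⟨a, ha, c, hc, rfl⟩ := exists_mul_of_mem_sup hAB hn
      have hc1 : c = 1 := by
        apply eq_one_of_commute_all hS hCD hc
        intro d hd
        have h1 := hcomm d hd
        calc c * d = a⁻¹ * (a * c * d) := by group
          _ = a⁻¹ * (d * (a * c)) := by rw [h1]
          _ = a⁻¹ * (d * a) * c := by group
          _ = a⁻¹ * (a * d) * c := by rw [hAD_comm a ha d hd]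
          _ = d * c := by group
      rw [hc1, mul_one]; exact ha
    · intro ha
      exact ⟨Subgroup.mem_sup_left ha, fun d hd => (hAD_comm n ha d hd).symm⟩
  have hfixB : fixN (A ⊔ ⁅A, B⁆) B = ⁅A, B⁆ := by
    ext n
    rw [mem_fixN]
    constructor
    · rintro ⟨hn, hcomm⟩
      obtain ⟨a, ha, c, hc, rfl⟩ := exists_mul_of_mem_sup hAB hn
      have ha1 : a = 1 := by
        apply eq_one_of_commute_all hS hAB ha
        intro b hb
        have h1 := hcomm b hb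
        calc a * b = (a * c) * (c⁻¹ * b) := by group
          _ = (a * c) * (b * c⁻¹) := by
            have : c⁻¹ * b = b * c⁻¹ := by
              calc c⁻¹ * b = c⁻¹ * (b * c) * c⁻¹ := by group
                _ = b * c⁻¹ := by rw [← hCB_comm c hc b hb]; group
            rw [this]
          _ = (a * c * b) * c⁻¹ := by group
          _ = (b * (a * c)) * c⁻¹ := by rw [h1]
          _ = b * a := by group
      rw [ha1, one_mul]; exact hc
    · intro hc
      exact ⟨Subgroup.mem_sup_right hc, fun b hb => (hCB_comm n hc b hb).symm⟩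
  have hconjA : ∀ x ∈ B ⊔ D, Cfsg.conjBy A x = fixN (A ⊔ ⁅A, B⁆) (Cfsg.conjBy D x) := by
    intro x hx
    rw [fixN_conj (hN x hx), hfixD]
  have hconjC : ∀ x ∈ B ⊔ D, Cfsg.conjBy ⁅A, B⁆ x = fixN (A ⊔ ⁅A, B⁆) (Cfsg.conjBy B x) := by
    intro x hx
    rw [fixN_conj (hN x hx), hfixB]
  have hΩ : Cfsg.unipotentSubgroups D B = Cfsg.unipotentSubgroups B D := unipotentSubgroups_comm hr'
  -- descriptions of the two families through Ω
  have hTA : {E | ∃ x ∈ B ⊔ D, E = Cfsg.conjBy A x} =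
      {E | ∃ P ∈ Cfsg.unipotentSubgroups B D, E = fixN (A ⊔ ⁅A, B⁆) P} := by
    ext E
    constructor
    · rintro ⟨x, hx, rfl⟩
      refine ⟨Cfsg.conjBy D x, ?_, hconjA x hx⟩
      rw [← hΩ]
      exact ⟨x, by rwa [sup_comm], rfl⟩
    · rintro ⟨P, hP, rfl⟩
      rw [← hΩ] at hP
      obtain ⟨x, hx, rfl⟩ := hP
      rw [sup_comm] at hx
      exact ⟨x, hx, (hconjA x hx).symm⟩
  have hTC : {E | ∃ x ∈ B ⊔ D, E = Cfsg.conjBy ⁅A, B⁆ x} =
      {E | ∃ P ∈ Cfsg.unipotentSubgroups B D, E = fixN (A ⊔ ⁅A, B⁆) P} := by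
    ext E
    constructor
    · rintro ⟨x, hx, rfl⟩
      exact ⟨Cfsg.conjBy B x, ⟨x, hx, rfl⟩, hconjC x hx⟩
    · rintro ⟨P, hP, rfl⟩
      obtain ⟨x, hx, rfl⟩ := hP
      exact ⟨x, hx, (hconjC x hx).symm⟩
  -- different members of Ω have different fixed points, meeting trivially
  have hdisj : ∀ P ∈ Cfsg.unipotentSubgroups B D, ∀ P' ∈ Cfsg.unipotentSubgroups B D, P ≠ P' →
      fixN (A ⊔ ⁅A, B⁆) P ⊓ fixN (A ⊔ ⁅A, B⁆) P' = ⊥ := by
    intro P hP P' hP' hne
    obtain ⟨-, hsup⟩ := isRankOnePair_of_mem hr hP hP' hne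
    rw [eq_bot_iff]
    intro y hy
    rw [Subgroup.mem_inf, mem_fixN, mem_fixN] at hy
    obtain ⟨⟨hyN, hyP⟩, -, hyP'⟩ := hy
    have hall : ∀ z ∈ P ⊔ P', z * y = y * z := by
      intro z hz
      induction hz using sup_induction with
      | left p hp => exact hyP p hp
      | right p hp => exact hyP' p hp
      | one => simp
      | mul u v _ _ ihu ihv => rw [mul_assoc, ihv, ← mul_assoc, ihu, mul_assoc]
    rw [hsup] at hall
    have h1 : y ∈ fixN (A ⊔ ⁅A, B⁆) D :=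
      mem_fixN.mpr ⟨hyN, fun d hd => hall d (Subgroup.mem_sup_right hd)⟩
    have h2 : y ∈ fixN (A ⊔ ⁅A, B⁆) B :=
      mem_fixN.mpr ⟨hyN, fun b hb => hall b (Subgroup.mem_sup_left hb)⟩
    rw [hfixD] at h1
    rw [hfixB] at h2
    rw [← hAC]
    exact Subgroup.mem_inf.mpr ⟨h1, h2⟩
  have hG3 : {E | ∃ x ∈ B ⊔ D, E = Cfsg.conjBy A x} =
      (fun b : G => Cfsg.conjBy A b) '' (B : Set G) ∪ {⁅A, B⁆} := by
    rw [hTA]
    ext E
    constructor
    · rintro ⟨P, hP, rfl⟩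
      rcases (mem_unipotentSubgroups_iff hr).mp hP with rfl | ⟨b, hb, rfl⟩
      · right
        rw [Set.mem_singleton_iff]
        exact hfixB
      · left
        exact ⟨b, hb, hconjA b (Subgroup.mem_sup_left hb)⟩
    · rintro (⟨b, hb, rfl⟩ | hE)
      · exact ⟨Cfsg.conjBy D b, conjBy_mem_unipotentSubgroups (right_mem_unipotentSubgroups hr)
          (Subgroup.mem_sup_left hb), hconjA b (Subgroup.mem_sup_left hb)⟩
      · rw [Set.mem_singleton_iff] at hE
        exact ⟨B, self_mem_unipotentSubgroups B D, by rw [hE, hfixB]⟩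
  have hG4 : {E | ∃ x ∈ B ⊔ D, E = Cfsg.conjBy A x} =
      (fun d : G => Cfsg.conjBy ⁅A, B⁆ d) '' (D : Set G) ∪ {A} := by
    rw [hTA]
    ext E
    constructor
    · rintro ⟨P, hP, rfl⟩
      rw [← hΩ] at hP
      rcases (mem_unipotentSubgroups_iff hr').mp hP with rfl | ⟨d, hd, rfl⟩
      · right
        rw [Set.mem_singleton_iff]
        exact hfixD
      · left
        exact ⟨d, hd, hconjC d (Subgroup.mem_sup_right hd)⟩
    · rintro (⟨d, hd, rfl⟩ | hE)
      · exact ⟨Cfsg.conjBy B d, conjBy_mem_unipotentSubgroups (self_mem_unipotentSubgroups B D)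
          (Subgroup.mem_sup_right hd), hconjC d (Subgroup.mem_sup_right hd)⟩
      · rw [Set.mem_singleton_iff] at hE
        exact ⟨D, right_mem_unipotentSubgroups hr, by rw [hE, hfixD]⟩
  refine ⟨hr, ?_, hG3, hG4, ?_, ?_⟩
  · rw [hTA, hTC]
  · refine ⟨?_, ?_, ?_⟩
    · rintro E ⟨x, hx, rfl⟩
      exact le_trans (conjBy_mono le_sup_left x) (hNle x hx)
    · intro n hn hn1
      obtain ⟨a, ha, c, hc, rfl⟩ := exists_mul_of_mem_sup hAB hn
      by_cases ha1 : a = 1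
      · refine ⟨⁅A, B⁆, ?_, ?_⟩
        · rw [hG3]; right; exact Set.mem_singleton _
        · rw [ha1, one_mul]; exact hc
      · obtain ⟨b, hb, hmem⟩ := exists_mem_conjBy hAB ha ha1 hc
        exact ⟨Cfsg.conjBy A b, ⟨b, Subgroup.mem_sup_left hb, rfl⟩, hmem⟩
    · intro E hE E' hE' hne
      rw [hTA] at hE hE'
      obtain ⟨P, hP, rfl⟩ := hE
      obtain ⟨P', hP', rfl⟩ := hE'
      apply hdisj P hP P' hP'
      rintro rfl
      exact hne rfl
  · intro x hx y hy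
    rw [Subgroup.mem_inf, Subgroup.mem_centralizer_iff] at hx
    obtain ⟨hxX, hxN⟩ := hx
    have hxN' : ∀ n ∈ A ⊔ ⁅A, B⁆, x * n = n * x := fun n hn => (hxN n hn).symm
    have hxinv : ∀ n ∈ A ⊔ ⁅A, B⁆, x⁻¹ * n = n * x⁻¹ := by
      intro n hn
      calc x⁻¹ * n = x⁻¹ * (n * x) * x⁻¹ := by group
        _ = n * x⁻¹ := by rw [← hxN' n hn]; group
    -- x normalizes B and D
    have hxB : Cfsg.conjBy B x = B := by
      by_contra hne
      have h1 := hdisj _ (conjBy_mem_unipotentSubgroups (self_mem_unipotentSubgroups B D) hxX) B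
        (self_mem_unipotentSubgroups B D) hne
      rw [← hconjC x hxX, hfixB,
        conjBy_eq_of_commute (fun c hc => hxN' c (Subgroup.mem_sup_right hc)), inf_idem] at h1
      exact hS.ne_bot _ hC h1
    have hxD : Cfsg.conjBy D x = D := by
      by_contra hne
      have h1 := hdisj _ (conjBy_mem_unipotentSubgroups (right_mem_unipotentSubgroups hr) hxX) D
        (right_mem_unipotentSubgroups hr) hne
      rw [← hconjA x hxX, hfixD,
        conjBy_eq_of_commute (fun a ha => hxN' a (Subgroup.mem_sup_left ha)), inf_idem] at h1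
      exact hS.ne_bot _ hA h1
    -- the commutator of x with an element z of B ⊔ D centralizes N
    have hcomm_cent : ∀ z ∈ B ⊔ D, ∀ n ∈ A ⊔ ⁅A, B⁆,
        (x * z * x⁻¹ * z⁻¹) * n = n * (x * z * x⁻¹ * z⁻¹) := by
      intro z hz n hn
      have hn' : z⁻¹ * n * z ∈ A ⊔ ⁅A, B⁆ := by
        have h1 : z⁻¹ * n * z⁻¹⁻¹ ∈ Cfsg.conjBy (A ⊔ ⁅A, B⁆) z⁻¹ := conj_mem_conjBy hn z⁻¹
        rw [hN z⁻¹ (inv_mem hz), inv_inv] at h1
        exact h1
      calc (x * z * x⁻¹ * z⁻¹) * n = x * z * (x⁻¹ * (z⁻¹ * n * z)) * z⁻¹ := by group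
        _ = x * z * ((z⁻¹ * n * z) * x⁻¹) * z⁻¹ := by rw [hxinv _ hn']
        _ = (x * n) * z * x⁻¹ * z⁻¹ := by group
        _ = (n * x) * z * x⁻¹ * z⁻¹ := by rw [hxN' n hn]
        _ = n * (x * z * x⁻¹ * z⁻¹) := by group
    have hxb : ∀ b ∈ B, x * b = b * x := by
      intro b hb
      have hu : x * b * x⁻¹ * b⁻¹ ∈ B := by
        have h1 : x * b * x⁻¹ ∈ Cfsg.conjBy B x := conj_mem_conjBy hb x
        rw [hxB] at h1
        exact mul_mem h1 (inv_mem hb)
      have hu1 : x * b * x⁻¹ * b⁻¹ = 1 := by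
        apply eq_one_of_commute_all hS hBA hu
        intro a ha
        exact hcomm_cent b (Subgroup.mem_sup_left hb) a (Subgroup.mem_sup_left ha)
      calc x * b = (x * b * x⁻¹ * b⁻¹) * (b * x) := by group
        _ = b * x := by rw [hu1, one_mul]
    have hxd : ∀ d ∈ D, x * d = d * x := by
      intro d hd
      have hu : x * d * x⁻¹ * d⁻¹ ∈ D := by
        have h1 : x * d * x⁻¹ ∈ Cfsg.conjBy D x := conj_mem_conjBy hd x
        rw [hxD] at h1
        exact mul_mem h1 (inv_mem hd)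
      have hu1 : x * d * x⁻¹ * d⁻¹ = 1 := by
        apply eq_one_of_commute_all hS hDCc hu
        intro c hc
        exact hcomm_cent d (Subgroup.mem_sup_right hd) c (Subgroup.mem_sup_right hc)
      calc x * d = (x * d * x⁻¹ * d⁻¹) * (d * x) := by group
        _ = d * x := by rw [hu1, one_mul]
    induction hy using sup_induction with
    | left b hb => exact hxb b hb
    | right d hd => exact hxd d hd
    | one => simp
    | mul u v _ _ ihu ihv => rw [← mul_assoc, ihu, mul_assoc, ihv, mul_assoc]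

end Cfsg.Agent.S5036
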