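import Cfsg.Statements.S5034
import Cfsg.Agent.S5029
import Cfsg.Agent.S5036
import Cfsg.Agent.Lib.Helper83_Relative
import Cfsg.Agent.Lib.Helper83_DLemma

set_option autoImplicit false
open Cfsg
open scoped commutatorElement

namespace Cfsg.Agent.S5034

open Cfsg.Agent.Lib.Helper83_RankOne Cfsg.Agent.Lib.Helper83_RootSets
open Cfsg.Agent.Lib.Helper83_CommCase Cfsg.Agent.Lib.Helper83_CommCase2
open Cfsg.Agent.Lib.Helper83_DLemma (not_commute_elts no_third_point conjBy_eq_of_commute)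
open Cfsg.Agent.Lib.Helper83_Relative (special_of_quadratic)
open Cfsg.Agent.S5036 (eq_one_of_commute_all exists_ne_one_of_ne_bot)

variable {G : Type*} [Group G] {S : Set (Subgroup G)}

theorem comm_conj {H K : Subgroup G} (h : ∀ x ∈ H, ∀ y ∈ K, x * y = y * x) (g : G) :
    ∀ x ∈ Cfsg.conjBy H g, ∀ y ∈ Cfsg.conjBy K g, x * y = y * x := by
  intro x hx y hy
  rw [mem_conjBy_iff] at hx hy
  have h1 := h _ hx _ hy
  calc x * y = g * ((g⁻¹ * x * g) * (g⁻¹ * y * g)) * g⁻¹ := by group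
    _ = g * ((g⁻¹ * y * g) * (g⁻¹ * x * g)) * g⁻¹ := by rw [h1]
    _ = y * x := by group

theorem commutator_conjBy (A E : Subgroup G) (g : G) :
    ⁅Cfsg.conjBy A g, Cfsg.conjBy E g⁆ = Cfsg.conjBy ⁅A, E⁆ g :=
  (Subgroup.map_commutator A E _).symm

theorem exists_mul_of_mem_sup' {H K : Subgroup G} (h : ∀ x ∈ H, ∀ y ∈ K, x * y = y * x) {x : G}
    (hx : x ∈ H ⊔ K) : ∃ u ∈ H, ∃ v ∈ K, x = u * v := by
  induction hx using sup_induction with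
  | left a ha => exact ⟨a, ha, 1, one_mem _, (mul_one a).symm⟩
  | right c hc => exact ⟨1, one_mem _, c, hc, (one_mul c).symm⟩
  | one => exact ⟨1, one_mem _, 1, one_mem _, (mul_one 1).symm⟩
  | mul y z _ _ ihy ihz =>
    obtain ⟨u₁, hu₁, v₁, hv₁, rfl⟩ := ihy
    obtain ⟨u₂, hu₂, v₂, hv₂, rfl⟩ := ihz
    refine ⟨u₁ * u₂, mul_mem hu₁ hu₂, v₁ * v₂, mul_mem hv₁ hv₂, ?_⟩
    calc u₁ * v₁ * (u₂ * v₂) = u₁ * (v₁ * u₂) * v₂ := by group
      _ = u₁ * (u₂ * v₁) * v₂ := by rw [h u₂ hu₂ v₁ hv₁]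
      _ = u₁ * u₂ * (v₁ * v₂) := by group

theorem isMulCommutative_sup {H K : Subgroup G} (hH : IsMulCommutative H) (hK : IsMulCommutative K)
    (h : ∀ x ∈ H, ∀ y ∈ K, x * y = y * x) : IsMulCommutative ↥(H ⊔ K) := by
  rw [isMulCommutative_iff]
  rintro ⟨x, hx⟩ ⟨y, hy⟩
  apply Subtype.ext
  simp only [Subgroup.coe_mul]
  obtain ⟨u₁, hu₁, v₁, hv₁, rfl⟩ := exists_mul_of_mem_sup' h hx
  obtain ⟨u₂, hu₂, v₂, hv₂, rfl⟩ := exists_mul_of_mem_sup' h hy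
  have e1 := comm_of_mem hH hu₁ hu₂
  have e2 := comm_of_mem hK hv₁ hv₂
  have e3 := h u₂ hu₂ v₁ hv₁
  have e4 := h u₁ hu₁ v₂ hv₂
  calc u₁ * v₁ * (u₂ * v₂) = u₁ * (v₁ * u₂) * v₂ := by group
    _ = u₁ * (u₂ * v₁) * v₂ := by rw [e3]
    _ = (u₁ * u₂) * (v₁ * v₂) := by group
    _ = (u₂ * u₁) * (v₂ * v₁) := by rw [e1, e2]
    _ = u₂ * (u₁ * v₂) * v₁ := by group
    _ = u₂ * (v₂ * u₁) * v₁ := by rw [e4]
    _ = u₂ * v₂ * (u₁ * v₁) := by group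

/-- In the commutator case `A ⊔ conjBy A e = A ⊔ ⁅A, E⁆` for `1 ≠ e ∈ E`. -/
theorem commutator_le_sup_conjBy {A E : Subgroup G} (h : Cfsg.RootCommutatorCase S A E) {e : G}
    (he : e ∈ E) (he1 : e ≠ 1) : ⁅A, E⁆ ≤ A ⊔ Cfsg.conjBy A e := by
  rw [← h.2.2.2 e he he1, Subgroup.closure_le]
  rintro _ ⟨a, ha, rfl⟩
  show a * e * a⁻¹ * e⁻¹ ∈ A ⊔ Cfsg.conjBy A e
  have h1 : e * a⁻¹ * e⁻¹ ∈ Cfsg.conjBy A e := conj_mem_conjBy (inv_mem ha) e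
  have e1 : a * e * a⁻¹ * e⁻¹ = a * (e * a⁻¹ * e⁻¹) := by group
  rw [e1]
  exact mul_mem (Subgroup.mem_sup_left ha) (Subgroup.mem_sup_right h1)


theorem exists_point (hS : Cfsg.IsRootSubgroupClass S) (hnd : Cfsg.IsNondegenerateRootSet S)
    {A B : Subgroup G} (hA : A ∈ S) (hB : B ∈ Cfsg.rankOnePartners S A) :
    ∃ C ∈ Cfsg.linePartners S A, C ∈ Cfsg.commutatorPartners S B := by
  have hS' := hS.1
  obtain ⟨hBS, hr⟩ := hB
  have hr' := Cfsg.RankOnePair_symm hr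
  obtain ⟨A', hA', E', hE', hc'⟩ := hnd.2.2
  obtain ⟨g, hg⟩ := hS.2.2 A' hA' A hA
  have hES : Cfsg.conjBy E' g ∈ S := hS'.conj_mem E' hE' g
  have hAE : Cfsg.RootCommutatorCase S A (Cfsg.conjBy E' g) := by
    apply commutatorCase_of_mem hS' hA hES
    rw [hg, commutator_conjBy]
    exact hS'.conj_mem _ hc'.1 g
  generalize Cfsg.conjBy E' g = E at hES hAE
  have hC₀ : ⁅A, E⁆ ∈ S := hAE.1
  have hmem := Cfsg.Agent.S5029.membersIn_eq hS' hA hBS hr hAE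
  have hpart := Cfsg.Agent.S5029.isPartition hS' hA hBS hr hAE
  have hAmem : A ∈ Cfsg.membersIn S (A ⊔ ⁅A, E⁆) := ⟨hA, le_sup_left⟩
  have hAcomm : IsMulCommutative A := hS'.commutative A hA
  have hNA : ∀ n ∈ A ⊔ ⁅A, E⁆, ∀ a ∈ A, n * a = a * n := by
    intro n hn a ha
    obtain ⟨a', ha', c, hc, rfl⟩ := exists_mul_of_mem_sup hAE hn
    have e1 := comm_of_mem hAcomm ha' ha
    have e2 := comm_left hAE hc ha
    calc a' * c * a = a' * (c * a) := by group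
      _ = a' * (a * c) := by rw [e2]
      _ = (a' * a) * c := by group
      _ = a * a' * c := by rw [e1]
      _ = a * (a' * c) := by group
  have hline : ∀ P ∈ Cfsg.membersIn S (A ⊔ ⁅A, E⁆), P ≠ A → A ⊔ P = A ⊔ ⁅A, E⁆ := by
    intro P hP hPA
    apply le_antisymm (sup_le le_sup_left hP.2)
    refine sup_le le_sup_left ?_
    rw [hmem] at hP
    rcases hP with ⟨e, he, rfl⟩ | hP
    · have he1 : e ≠ 1 := by
        rintro rfl
        exact hPA (conjBy_one A)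
      exact le_trans (commutator_le_sup_conjBy hAE he he1) (le_refl _)
    · rw [Set.mem_singleton_iff] at hP
      rw [hP]; exact le_sup_right
  have hB2 : ∀ P ∈ Cfsg.membersIn S (A ⊔ ⁅A, E⁆), P ≠ A →
      ¬ ∀ p ∈ P, ∀ b ∈ B, p * b = b * p := by
    intro P hP hPA hcomm
    obtain ⟨a, ha, ha1⟩ := exists_ne_one_left hr
    obtain ⟨p, hp, hp1⟩ := exists_ne_one_of_ne_bot (hS'.ne_bot P hP.1)
    have hAP : A ⊓ P = ⊥ := hpart.2.2 A hAmem P hP (Ne.symm hPA)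
    have hap : a * p ∈ A ⊔ ⁅A, E⁆ := mul_mem (Subgroup.mem_sup_left ha) (hP.2 hp)
    have hap1 : a * p ≠ 1 := by
      intro h1
      have h2 : p ∈ A ⊓ P := by
        refine Subgroup.mem_inf.mpr ⟨?_, hp⟩
        have : p = a⁻¹ := by
          calc p = a⁻¹ * (a * p) := by group
            _ = a⁻¹ := by rw [h1, mul_one]
        rw [this]; exact inv_mem ha
      rw [hAP, Subgroup.mem_bot] at h2
      exact hp1 h2
    obtain ⟨E₃, hE₃, hapE⟩ := hpart.2.1 (a * p) hap hap1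
    have hE₃A : E₃ ≠ A := by
      rintro rfl
      have h2 : p ∈ E₃ ⊓ P := by
        refine Subgroup.mem_inf.mpr ⟨?_, hp⟩
        have : p = a⁻¹ * (a * p) := by group
        rw [this]; exact mul_mem (inv_mem ha) hapE
      rw [hAP, Subgroup.mem_bot] at h2
      exact hp1 h2
    have hE₃le : E₃ ≤ P ⊔ A := by
      rw [sup_comm, hline P hP hPA]
      exact hE₃.2
    exact no_third_point hS' hBS hA hE₃.1 hr' hcomm (fun c hc a' ha' => hNA c (hP.2 hc) a' ha')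
      hE₃le hE₃A ha ha1 hp hapE
  -- some point other than A is in the commutator case with B
  have hB3 : ∃ P ∈ Cfsg.membersIn S (A ⊔ ⁅A, E⁆), P ≠ A ∧ ⁅B, P⁆ ∈ S := by
    by_contra hcon
    push Not at hcon
    have hall : ∀ P ∈ Cfsg.membersIn S (A ⊔ ⁅A, E⁆), Cfsg.IsRankOnePair B P := by
      intro P hP
      by_cases hPA : P = A
      · rw [hPA]; exact hr'
      · rcases hS'.pair B hBS P hP.1 with h1 | h1 | h1
        · exfalso
          apply hB2 P hP hPA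
          rw [commutator_eq_bot_iff_commute] at h1
          exact fun p hp b hb => (h1 b hb p hp).symm
        · exact h1
        · exact absurd h1.1 (hcon P hP hPA)
    obtain ⟨a₁, ha₁, ha₁1⟩ := exists_ne_one_left hr
    obtain ⟨b, hb, hb1, hconj⟩ := hr.cond_left a₁ ha₁ ha₁1
    have hC₀mem : ⁅A, E⁆ ∈ Cfsg.membersIn S (A ⊔ ⁅A, E⁆) := ⟨hC₀, le_sup_right⟩
    have hP₁ := hall _ hC₀mem
    obtain ⟨p₁, hp₁, hp₁1, hconj₁⟩ := hP₁.cond_left b hb hb1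
    -- conjBy B p₁⁻¹ = conjBy ⁅A,E⁆ b⁻¹
    have hcomm1 : ∀ x ∈ Cfsg.conjBy B a₁⁻¹, ∀ y ∈ Cfsg.conjBy B p₁⁻¹, x * y = y * x := by
      rw [← hconj, hconj₁]
      exact comm_conj (fun a ha c hc => (comm_left hAE hc ha).symm) b⁻¹
    have hcomm2 := comm_conj hcomm1 a₁
    rw [conjBy_conjBy_inv, conjBy_mul] at hcomm2
    -- n := a₁ * p₁⁻¹
    have hn : a₁ * p₁⁻¹ ∈ A ⊔ ⁅A, E⁆ :=
      mul_mem (Subgroup.mem_sup_left ha₁) (Subgroup.mem_sup_right (inv_mem hp₁))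
    have hn1 : a₁ * p₁⁻¹ ≠ 1 := by
      intro h1
      have h2 : a₁ = p₁ := by
        calc a₁ = (a₁ * p₁⁻¹) * p₁ := by group
          _ = p₁ := by rw [h1, one_mul]
      have h3 : a₁ ∈ A ⊓ ⁅A, E⁆ := Subgroup.mem_inf.mpr ⟨ha₁, by rw [h2]; exact hp₁⟩
      rw [Cfsg.Agent.S5036.inf_comm_eq_bot hS' hAE, Subgroup.mem_bot] at h3
      exact ha₁1 h3
    obtain ⟨P₂, hP₂, hnP₂⟩ := hpart.2.1 _ hn hn1
    have hP₂r := hall P₂ hP₂
    have hmem2 : Cfsg.conjBy B (a₁ * p₁⁻¹) ∈ Cfsg.unipotentSubgroups B P₂ :=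
      conjBy_mem_unipotentSubgroups (self_mem_unipotentSubgroups B P₂)
        (Subgroup.mem_sup_right hnP₂)
    have hne2 : Cfsg.conjBy B (a₁ * p₁⁻¹) ≠ B := by
      intro h5
      exact hn1 (eq_one_of_mem_of_mem_normalizer (Cfsg.RankOnePair_symm hP₂r) hnP₂
        (mem_normalizer_of_conjBy_eq h5))
    obtain ⟨hpair, -⟩ := isRankOnePair_of_mem hP₂r (self_mem_unipotentSubgroups B P₂) hmem2
      (Ne.symm hne2)
    exact not_commute hpair hcomm2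
  obtain ⟨P, hP, hPA, hBP⟩ := hB3
  refine ⟨P, ⟨⟨hP.1, hPA, ?_⟩, ?_⟩, ⟨hP.1, hBP⟩⟩
  · rw [commutator_eq_bot_iff_commute]
    exact fun a ha p hp => (hNA p (hP.2 hp) a ha).symm
  · rw [hline P hP hPA]
    exact hpart


theorem special_of_point (hS' : Cfsg.IsRootSubgroupSet S) {A B C : Subgroup G} (hA : A ∈ S)
    (hBS : B ∈ S) (hr : Cfsg.IsRankOnePair A B) (hC : C ∈ S)
    (hAC : ∀ a ∈ A, ∀ c ∈ C, a * c = c * a) (hBC : ⁅B, C⁆ ∈ S) :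
    Cfsg.IsSpecialRankOnePair A B := by
  have hr' := Cfsg.RankOnePair_symm hr
  have cBC : Cfsg.RootCommutatorCase S B C := commutatorCase_of_mem hS' hBS hC hBC
  have cCB : Cfsg.RootCommutatorCase S C B := commutatorCase_symm cBC
  have hCBeq : ⁅C, B⁆ = ⁅B, C⁆ := Subgroup.commutator_comm C B
  have hFB : ∀ ν ∈ ⁅B, C⁆, ∀ b ∈ B, ν * b = b * ν := fun ν hν b hb => comm_left cBC hν hb
  have hFC : ∀ ν ∈ ⁅B, C⁆, ∀ c ∈ C, ν * c = c * ν := fun ν hν c hc => comm_right cBC hν hc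
  obtain ⟨a, ha, ha1⟩ := exists_ne_one_left hr
  obtain ⟨c₀, hc₀, hc₀1⟩ := exists_ne_one_of_ne_bot (hS'.ne_bot C hC)
  -- injectivity for the pair (B, C) : B has the partner A
  have hinjBC : ∀ β ∈ B, β ≠ 1 → ∀ c ∈ C, β * c = c * β → c = 1 :=
    fun β hβ hβ1 c hc h => eq_one_of_commute hS' hBS hA hr' cBC hβ hβ1 hc h
  -- (A, F) is in the commutator case
  have hAF : Cfsg.RootCommutatorCase S A ⁅B, C⁆ := by
    obtain ⟨β, hβ, hβ1⟩ := exists_ne_one_right hr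
    rcases hS'.pair A hA _ hBC with h1 | h1 | h1
    · exfalso
      rw [commutator_eq_bot_iff_commute] at h1
      have hle : Cfsg.conjBy B c₀ ≤ ⁅B, C⁆ ⊔ B := by
        rw [sup_comm]
        exact conjBy_le_sup hc₀
      have hne : Cfsg.conjBy B c₀ ≠ B := conjBy_ne_of_ne_one hS' hA hr' cBC hc₀ hc₀1
      have hcb : ⁅c₀, β⁆ ∈ ⁅B, C⁆ := by
        rw [← hCBeq]
        exact Subgroup.commutator_mem_commutator hc₀ hβ
      have he : β * ⁅c₀, β⁆ ∈ Cfsg.conjBy B c₀ := by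
        have h2 : c₀ * β * c₀⁻¹ ∈ Cfsg.conjBy B c₀ := conj_mem_conjBy hβ c₀
        have e : c₀ * β * c₀⁻¹ = β * ⁅c₀, β⁆ := by
          rw [← hFB _ hcb β hβ, commutatorElement_def]; group
        rwa [e] at h2
      exact no_third_point hS' hA hBS (hS'.conj_mem B hBS c₀) hr
        (fun x hx a' ha' => (h1 a' ha' x hx).symm) hFB hle hne hβ hβ1 hcb he
    · exfalso
      have hβc : ⁅β, c₀⁆ ≠ 1 := by
        intro h2
        apply hc₀1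
        apply hinjBC β hβ hβ1 c₀ hc₀
        rw [commutatorElement_def] at h2
        calc β * c₀ = (β * c₀ * β⁻¹ * c₀⁻¹) * (c₀ * β) := by group
          _ = c₀ * β := by rw [h2, one_mul]
      have hle : Cfsg.conjBy C β ≤ C ⊔ ⁅B, C⁆ := by
        rw [← hCBeq]
        exact conjBy_le_sup hβ
      have hne : Cfsg.conjBy C β ≠ ⁅B, C⁆ := by
        intro h2
        apply hc₀1
        apply hinjBC β hβ hβ1 c₀ hc₀
        have h3 : β * c₀ * β⁻¹ ∈ ⁅B, C⁆ := by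
          rw [← h2]; exact conj_mem_conjBy hc₀ β
        have h4 := hFB _ h3 β hβ
        calc β * c₀ = β⁻¹ * (β * (β * c₀ * β⁻¹)) * β := by group
          _ = β⁻¹ * ((β * c₀ * β⁻¹) * β) * β := by rw [h4]
          _ = c₀ * β := by group
      have he : ⁅β, c₀⁆ * c₀ ∈ Cfsg.conjBy C β := by
        have h2 : β * c₀ * β⁻¹ ∈ Cfsg.conjBy C β := conj_mem_conjBy hc₀ β
        have e : β * c₀ * β⁻¹ = ⁅β, c₀⁆ * c₀ := by rw [commutatorElement_def]; group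
        rwa [e] at h2
      exact no_third_point hS' hA hBC (hS'.conj_mem C hC β) h1
        (fun c hc a' ha' => (hAC a' ha' c hc).symm) (fun c hc ν hν => (hFC ν hν c hc).symm)
        hle hne (Subgroup.commutator_mem_commutator hβ hc₀) hβc hc₀ he
    · exact h1
  have hC₁ : ⁅A, ⁅B, C⁆⁆ ∈ S := hAF.1
  have hC₁A : ∀ κ ∈ ⁅A, ⁅B, C⁆⁆, ∀ a' ∈ A, κ * a' = a' * κ := fun κ hκ a' ha' => comm_left hAF hκ ha'
  have hC₁F : ∀ κ ∈ ⁅A, ⁅B, C⁆⁆, ∀ ν ∈ ⁅B, C⁆, κ * ν = ν * κ :=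
    fun κ hκ ν hν => comm_right hAF hκ hν
  -- the partner of a
  obtain ⟨b, hb, hb1, hconj⟩ := hr.cond_left a ha ha1
  have hb₀ : b⁻¹ ∈ B := inv_mem hb
  have hb₀1 : b⁻¹ ≠ 1 := by simpa using hb1
  have hgB : Cfsg.conjBy A (a * b⁻¹) = B := by
    rw [← conjBy_mul, hconj, conjBy_conjBy_inv]
  -- the key formula
  have hkey : ∀ c ∈ C, ∀ b' ∈ B,
      b' * ⁅a, ⁅b⁻¹, c⁆⁆ * b'⁻¹ = ⁅a, ⁅b⁻¹, c⁆⁆ * ⁅c, b'⁆ := by
    intro c hc b' hb'
    have hν : ⁅b⁻¹, c⁆ ∈ ⁅B, C⁆ := Subgroup.commutator_mem_commutator hb₀ hc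
    have hκ : ⁅a, ⁅b⁻¹, c⁆⁆ ∈ ⁅A, ⁅B, C⁆⁆ := Subgroup.commutator_mem_commutator ha hν
    generalize hνdef : ⁅b⁻¹, c⁆ = ν at hν hκ
    generalize hκdef : ⁅a, ν⁆ = κ at hκ
    have hq : (a * b⁻¹) * c * (a * b⁻¹)⁻¹ = κ * ν * c := by
      have e1 : c * a⁻¹ = a⁻¹ * c := (hAC a⁻¹ (inv_mem ha) c hc).symm
      calc (a * b⁻¹) * c * (a * b⁻¹)⁻¹ = a * (b⁻¹ * c * b⁻¹⁻¹ * c⁻¹) * (c * a⁻¹) := by group
        _ = a * ν * (a⁻¹ * c) := by rw [← commutatorElement_def, hνdef, e1]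
        _ = (a * ν * a⁻¹ * ν⁻¹) * ν * c := by group
        _ = κ * ν * c := by rw [← commutatorElement_def, hκdef]
    have hqmem : (a * b⁻¹) * c * (a * b⁻¹)⁻¹ ∈ Cfsg.conjBy C (a * b⁻¹) := conj_mem_conjBy hc _
    have hb'mem : b' ∈ Cfsg.conjBy A (a * b⁻¹) := by rw [hgB]; exact hb'
    have hcomm := comm_conj (fun c' hc' a' ha' => (hAC a' ha' c' hc').symm) (a * b⁻¹) _ hqmem _ hb'mem
    rw [hq] at hcomm
    -- κ ν c b' = b' κ ν c
    have e2 : ν * b' = b' * ν := hFB ν hν b' hb'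
    have e3 : κ * ν = ν * κ := hC₁F κ hκ ν hν
    have e4 : ν * c = c * ν := hFC ν hν c hc
    have h5 : κ * c * b' = b' * κ * c := by
      have l1 : κ * ν * c * b' = ν * (κ * c * b') := by
        calc κ * ν * c * b' = (κ * ν) * c * b' := by group
          _ = (ν * κ) * c * b' := by rw [e3]
          _ = ν * (κ * c * b') := by group
      have l2 : b' * (κ * ν * c) = ν * (b' * κ * c) := by
        calc b' * (κ * ν * c) = b' * (κ * ν) * c := by group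
          _ = b' * (ν * κ) * c := by rw [e3]
          _ = (b' * ν) * κ * c := by group
          _ = (ν * b') * κ * c := by rw [e2]
          _ = ν * (b' * κ * c) := by group
      rw [l1, l2] at hcomm
      exact mul_left_cancel hcomm
    rw [commutatorElement_def]
    calc b' * κ * b'⁻¹ = (b' * κ * c) * c⁻¹ * b'⁻¹ := by group
      _ = (κ * c * b') * c⁻¹ * b'⁻¹ := by rw [h5]
      _ = κ * (c * b' * c⁻¹ * b'⁻¹) := by group
  -- B normalizes C₁ ⊔ F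
  have hBnorm : ∀ κ ∈ ⁅A, ⁅B, C⁆⁆, ∀ b' ∈ B, b' * κ * b'⁻¹ ∈ ⁅A, ⁅B, C⁆⁆ ⊔ ⁅B, C⁆ := by
    intro κ hκ b' hb'
    obtain ⟨ν, hν, hνκ⟩ := exists_commutator_eq hAF ha ha1 hκ
    obtain ⟨c, hc, hcν⟩ := exists_commutator_eq cBC hb₀ hb₀1 hν
    have h1 := hkey c hc b' hb'
    rw [hcν, hνκ] at h1
    rw [h1]
    refine mul_mem (Subgroup.mem_sup_left hκ) (Subgroup.mem_sup_right ?_)
    rw [← hCBeq]
    exact Subgroup.commutator_mem_commutator hc hb'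
  have hle : ∀ x ∈ A ⊔ B, Cfsg.conjBy (⁅A, ⁅B, C⁆⁆ ⊔ ⁅B, C⁆) x ≤ ⁅A, ⁅B, C⁆⁆ ⊔ ⁅B, C⁆ := by
    intro x hx
    induction hx using sup_induction with
    | left a' ha' =>
      rw [conjBy_sup]
      refine sup_le ?_ ?_
      · rw [conjBy_eq_of_commute (fun κ hκ => (hC₁A κ hκ a' ha').symm)]
        exact le_sup_left
      · have h1 : Cfsg.conjBy ⁅B, C⁆ a' ≤ ⁅B, C⁆ ⊔ ⁅⁅B, C⁆, A⁆ := conjBy_le_sup ha'
        rw [Subgroup.commutator_comm ⁅B, C⁆ A, sup_comm] at h1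
        exact h1
    | right b' hb' =>
      rw [conjBy_sup]
      refine sup_le ?_ ?_
      · intro x hx
        rw [mem_conjBy_iff] at hx
        have h1 := hBnorm _ hx b' hb'
        have e : b' * (b'⁻¹ * x * b') * b'⁻¹ = x := by group
        rwa [e] at h1
      · rw [conjBy_eq_of_commute (fun ν hν => (hFB ν hν b' hb').symm)]
        exact le_sup_right
    | one => rw [conjBy_one]
    | mul y z _ _ ihy ihz =>
      rw [← conjBy_mul]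
      exact le_trans (conjBy_mono ihz y) ihy
  have hNn : ∀ x ∈ A ⊔ B, ∀ n ∈ ⁅A, ⁅B, C⁆⁆ ⊔ ⁅B, C⁆, x * n * x⁻¹ ∈ ⁅A, ⁅B, C⁆⁆ ⊔ ⁅B, C⁆ :=
    fun x hx n hn => hle x hx (conj_mem_conjBy hn x)
  have hNc : IsMulCommutative ↥(⁅A, ⁅B, C⁆⁆ ⊔ ⁅B, C⁆) :=
    isMulCommutative_sup (hS'.commutative _ hC₁) (hS'.commutative _ hBC) hC₁F
  apply special_of_quadratic hr ⟨hS'.commutative A hA, hS'.commutative B hBS⟩ hNc hNn
  · intro a₁ ha₁ a' ha' n hn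
    obtain ⟨κ, hκ, ν, hν, rfl⟩ := exists_mul_of_mem_sup' hC₁F hn
    have hm : a₁ * (κ * ν) * a₁⁻¹ * (κ * ν)⁻¹ ∈ ⁅A, ⁅B, C⁆⁆ := by
      have e : a₁ * (κ * ν) * a₁⁻¹ * (κ * ν)⁻¹ = (a₁ * κ) * (a₁⁻¹ * (a₁ * ν * a₁⁻¹ * ν⁻¹)) * κ⁻¹ := by
        group
      rw [e, ← hC₁A κ hκ a₁ ha₁]
      have h1 : a₁ * ν * a₁⁻¹ * ν⁻¹ ∈ ⁅A, ⁅B, C⁆⁆ := Subgroup.commutator_mem_commutator ha₁ hν
      have h2 : a₁⁻¹ * (a₁ * ν * a₁⁻¹ * ν⁻¹) = (a₁ * ν * a₁⁻¹ * ν⁻¹) * a₁⁻¹ :=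
        (hC₁A _ h1 a₁⁻¹ (inv_mem ha₁)).symm
      rw [h2]
      have e2 : κ * a₁ * (a₁ * ν * a₁⁻¹ * ν⁻¹ * a₁⁻¹) * κ⁻¹ =
          κ * (a₁ * (a₁ * ν * a₁⁻¹ * ν⁻¹) * a₁⁻¹) * κ⁻¹ := by group
      rw [e2, ← hC₁A _ h1 a₁ ha₁]
      have e3 : κ * (a₁ * ν * a₁⁻¹ * ν⁻¹ * a₁ * a₁⁻¹) * κ⁻¹ = κ * (a₁ * ν * a₁⁻¹ * ν⁻¹) * κ⁻¹ := by
        group
      rw [e3]
      exact mul_mem (mul_mem hκ h1) (inv_mem hκ)
    generalize a₁ * (κ * ν) * a₁⁻¹ * (κ * ν)⁻¹ = m at hm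
    rw [← hC₁A m hm a' ha']
    group
  · -- the action of ⟨A, B⟩ is not quadratic
    have hν : ⁅b⁻¹, c₀⁆ ∈ ⁅B, C⁆ := Subgroup.commutator_mem_commutator hb₀ hc₀
    have hκ : ⁅a, ⁅b⁻¹, c₀⁆⁆ ∈ ⁅A, ⁅B, C⁆⁆ := Subgroup.commutator_mem_commutator ha hν
    obtain ⟨b', hb', hcb'⟩ : ∃ b' ∈ B, c₀ * b' ≠ b' * c₀ := by
      by_contra hcon
      push Not at hcon
      exact hc₀1 (eq_one_of_commute_all hS' cCB hc₀ hcon)
    refine ⟨a, Subgroup.mem_sup_left ha, b', Subgroup.mem_sup_right hb', ⁅b⁻¹, c₀⁆,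
      Subgroup.mem_sup_right hν, ?_⟩
    rw [← commutatorElement_def a, hkey c₀ hc₀ b' hb']
    intro h1
    apply hcb'
    have h2 : ⁅c₀, b'⁆ = 1 := by
      have := mul_left_cancel (a := ⁅a, ⁅b⁻¹, c₀⁆⁆) (b := ⁅c₀, b'⁆) (c := 1) (by rw [h1, mul_one])
      exact this
    rw [commutatorElement_def] at h2
    calc c₀ * b' = (c₀ * b' * c₀⁻¹ * b'⁻¹) * (b' * c₀) := by group
      _ = b' * c₀ := by rw [h2, one_mul]

/-- Let S be a non-degenerate class of abstract root subgroups of G, A ∈ S and B a rank one partner of A. Then some line partner C of A has ⁅B, C⁆ ∈ S, and the rank one pair A, B is special. -/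
theorem result {G : Type*} [Group G] {S : Set (Subgroup G)} (hS : Cfsg.IsRootSubgroupClass S) (hnd : Cfsg.IsNondegenerateRootSet S)
    {A B : Subgroup G} (hA : A ∈ S) (hB : B ∈ Cfsg.rankOnePartners S A) :
    (∃ C ∈ Cfsg.linePartners S A, C ∈ Cfsg.commutatorPartners S B) ∧ Cfsg.IsSpecialRankOnePair A B := by
  have h1 := exists_point hS hnd hA hB
  refine ⟨h1, ?_⟩
  obtain ⟨C, hCl, hCc⟩ := h1
  obtain ⟨⟨hCS, -, hAC⟩, -⟩ := hCl
  rw [commutator_eq_bot_iff_commute] at hAC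
  exact special_of_point hS.1 hA hB.1 hB.2 hCS hAC hCc.2

end Cfsg.Agent.S5034
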