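import Cfsg.Statements.S5038
import Cfsg.Agent.S5029
import Cfsg.Agent.Lib.Helper83_RankOne
import Cfsg.Agent.Lib.Helper83_RootSets
import Cfsg.Agent.Lib.Helper83_CommCase
import Cfsg.Agent.Lib.Helper83_CommCase2
import Cfsg.Agent.Lib.Helper83_DLemma
import Cfsg.Agent.Lib.Helper83_Lines

set_option autoImplicit false
open Cfsg

namespace Cfsg.Agent.S5038

open Cfsg.Agent.Lib.Helper83_RankOne Cfsg.Agent.Lib.Helper83_RootSets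
open Cfsg.Agent.Lib.Helper83_CommCase Cfsg.Agent.Lib.Helper83_CommCase2
open Cfsg.Agent.Lib.Helper83_DLemma (conjBy_eq_of_commute)
open Cfsg.Agent.Lib.Helper83_Lines

variable {G : Type*} [Group G] {S : Set (Subgroup G)}

theorem conjBy_eq_of_le {N : Subgroup G} {g : G} (h1 : Cfsg.conjBy N g ≤ N)
    (h2 : Cfsg.conjBy N g⁻¹ ≤ N) : Cfsg.conjBy N g = N := by
  apply le_antisymm h1
  have h3 := conjBy_mono h2 g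
  rwa [conjBy_conjBy_inv] at h3

/-- In the commutator case `B` normalizes the line `A ⊔ ⁅A, B⁆`. -/
theorem conjBy_line_eq {A B : Subgroup G} (h : Cfsg.RootCommutatorCase S A B) {b : G} (hb : b ∈ B) :
    Cfsg.conjBy (A ⊔ ⁅A, B⁆) b = A ⊔ ⁅A, B⁆ := by
  have key : ∀ b ∈ B, Cfsg.conjBy (A ⊔ ⁅A, B⁆) b ≤ A ⊔ ⁅A, B⁆ := by
    intro b hb
    rw [conjBy_sup]
    refine sup_le (conjBy_le_sup hb) ?_
    rw [conjBy_eq_of_commute (fun q hq => (comm_right h hq hb).symm)]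
    exact le_sup_right
  exact conjBy_eq_of_le (key b hb) (key b⁻¹ (inv_mem hb))

/-- The structure of a standard line `A ⊔ ⁅A, K⁆`: `K` normalizes it, fixes `⁅A, K⁆` and is
transitive on the other points. -/
theorem line_transitive (hS : Cfsg.IsRootSubgroupSet S) {A K : Subgroup G}
    (hiso : ¬ Cfsg.IsIsolatedIn (Cfsg.FAdj S) S A) (hA : A ∈ S) (hK : K ∈ S) (hC : ⁅A, K⁆ ∈ S) :
    K ∈ Cfsg.normalizingMembers S (A ⊔ ⁅A, K⁆) ∧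
    (∀ k ∈ K, Cfsg.conjBy ⁅A, K⁆ k = ⁅A, K⁆) ∧
    ∀ P₁ ∈ Cfsg.membersIn S (A ⊔ ⁅A, K⁆), ∀ P₂ ∈ Cfsg.membersIn S (A ⊔ ⁅A, K⁆),
      P₁ ≠ ⁅A, K⁆ → P₂ ≠ ⁅A, K⁆ → ∃ k ∈ K, Cfsg.conjBy P₁ k = P₂ := by
  have cAK := commutatorCase_of_mem hS hA hK hC
  obtain ⟨hmem, -, -, -⟩ := Cfsg.Agent.S5029.result hS hiso hA hK hC
  have hfix : ∀ k ∈ K, Cfsg.conjBy ⁅A, K⁆ k = ⁅A, K⁆ := fun k hk =>
    conjBy_eq_of_commute (fun q hq => (comm_right cAK hq hk).symm)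
  refine ⟨⟨hK, fun k hk => mem_normalizer_of_conjBy_eq (conjBy_line_eq cAK hk)⟩, hfix, ?_⟩
  intro P₁ hP₁ P₂ hP₂ h1 h2
  rw [hmem] at hP₁ hP₂
  rcases hP₁ with ⟨k₁, hk₁, rfl⟩ | hP₁
  · rcases hP₂ with ⟨k₂, hk₂, rfl⟩ | hP₂
    · refine ⟨k₂ * k₁⁻¹, mul_mem hk₂ (inv_mem hk₁), ?_⟩
      show Cfsg.conjBy (Cfsg.conjBy A k₁) (k₂ * k₁⁻¹) = Cfsg.conjBy A k₂
      rw [conjBy_mul]
      congr 1
      group
    · exact absurd (Set.mem_singleton_iff.mp hP₂) h2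
  · exact absurd (Set.mem_singleton_iff.mp hP₁) h1

theorem result {G : Type*} [Group G] {S : Set (Subgroup G)} (hS : Cfsg.IsRootSubgroupSet S)
    (hF : ∀ A ∈ S, ¬ Cfsg.IsIsolatedIn (Cfsg.FAdj S) S A) {A B : Subgroup G} (hA : A ∈ S) (hB : B ∈ Cfsg.linePartners S A) :
    ∀ C₁ ∈ Cfsg.membersIn S (A ⊔ B), ∀ C₂ ∈ Cfsg.membersIn S (A ⊔ B), ∀ D₁ ∈ Cfsg.membersIn S (A ⊔ B),
      ∀ D₂ ∈ Cfsg.membersIn S (A ⊔ B), C₁ ≠ C₂ → D₁ ≠ D₂ →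
        ∃ x ∈ ⨆ E ∈ Cfsg.normalizingMembers S (A ⊔ B), E, Cfsg.conjBy C₁ x = D₁ ∧ Cfsg.conjBy C₂ x = D₂ := by
  obtain ⟨D, hD, hAD⟩ := exists_partner (hF A hA) hA
  obtain ⟨K, hK, hC, hN⟩ := standard_line hS hA hD hAD hB
  rw [hN]
  obtain ⟨hKn, hKfix, hKtr⟩ := line_transitive hS (hF A hA) hA hK hC
  obtain ⟨-, -, hlpC, -⟩ := Cfsg.Agent.S5029.result hS (hF A hA) hA hK hC
  -- the line through C = ⁅A, K⁆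
  obtain ⟨D', hD', hCD'⟩ := exists_partner (hF _ hC) hC
  obtain ⟨K', hK', hQ, hN'⟩ := standard_line hS hC hD' hCD' hlpC
  have hN'' : A ⊔ ⁅A, K⁆ = ⁅A, K⁆ ⊔ ⁅⁅A, K⁆, K'⁆ := by rw [← hN', sup_comm]
  obtain ⟨hK'n, -, -⟩ := line_transitive hS (hF _ hC) hC hK' hQ
  rw [← hN''] at hK'n
  have cCK' := commutatorCase_of_mem hS hC hK' hQ
  -- the generated group
  have hKY : K ≤ ⨆ E ∈ Cfsg.normalizingMembers S (A ⊔ ⁅A, K⁆), E := le_iSup₂_of_le K hKn le_rfl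
  have hK'Y : K' ≤ ⨆ E ∈ Cfsg.normalizingMembers S (A ⊔ ⁅A, K⁆), E :=
    le_iSup₂_of_le K' hK'n le_rfl
  have hYnorm : ∀ x ∈ ⨆ E ∈ Cfsg.normalizingMembers S (A ⊔ ⁅A, K⁆), E,
      Cfsg.conjBy (A ⊔ ⁅A, K⁆) x = A ⊔ ⁅A, K⁆ := by
    intro x hx
    apply conjBy_of_mem_normalizer
    have hle : (⨆ E ∈ Cfsg.normalizingMembers S (A ⊔ ⁅A, K⁆), E) ≤
        Subgroup.normalizer ((A ⊔ ⁅A, K⁆ : Subgroup G) : Set G) :=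
      iSup₂_le (fun E hE => hE.2)
    exact hle hx
  have hYmem : ∀ x ∈ ⨆ E ∈ Cfsg.normalizingMembers S (A ⊔ ⁅A, K⁆), E,
      ∀ P ∈ Cfsg.membersIn S (A ⊔ ⁅A, K⁆), Cfsg.conjBy P x ∈ Cfsg.membersIn S (A ⊔ ⁅A, K⁆) := by
    intro x hx P hP
    refine ⟨hS.conj_mem P hP.1 x, ?_⟩
    have := conjBy_mono hP.2 x
    rwa [hYnorm x hx] at this
  -- K' moves C
  obtain ⟨k', hk', hk'1⟩ := Cfsg.Agent.S5036.exists_ne_one_of_ne_bot (hS.ne_bot K' hK')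
  have hmove : Cfsg.conjBy ⁅A, K⁆ k' ≠ ⁅A, K⁆ := conjBy_ne_of_ne_one hS hD' hCD' cCK' hk' hk'1
  have hCmem : ⁅A, K⁆ ∈ Cfsg.membersIn S (A ⊔ ⁅A, K⁆) := ⟨hC, le_sup_right⟩
  have hP₀ := hYmem k' (hK'Y hk') _ hCmem
  -- transitivity towards C
  have htr : ∀ P ∈ Cfsg.membersIn S (A ⊔ ⁅A, K⁆),
      ∃ x ∈ ⨆ E ∈ Cfsg.normalizingMembers S (A ⊔ ⁅A, K⁆), E, Cfsg.conjBy P x = ⁅A, K⁆ := by
    intro P hP
    by_cases hPC : P = ⁅A, K⁆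
    · exact ⟨1, one_mem _, by rw [conjBy_one, hPC]⟩
    · obtain ⟨k, hk, hk2⟩ := hKtr P hP _ hP₀ hPC hmove
      refine ⟨k'⁻¹ * k, mul_mem (inv_mem (hK'Y hk')) (hKY hk), ?_⟩
      rw [← conjBy_mul, hk2, conjBy_inv_conjBy]
  intro C₁ hC₁ C₂ hC₂ D₁ hD₁ D₂ hD₂ hC₁₂ hD₁₂
  obtain ⟨x₁, hx₁, hx₁C⟩ := htr C₁ hC₁
  obtain ⟨y₁, hy₁, hy₁C⟩ := htr D₁ hD₁
  have hP : Cfsg.conjBy C₂ x₁ ≠ ⁅A, K⁆ := by
    intro h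
    rw [← hx₁C] at h
    exact hC₁₂ (conjBy_injective h).symm
  have hP' : Cfsg.conjBy D₂ y₁ ≠ ⁅A, K⁆ := by
    intro h
    rw [← hy₁C] at h
    exact hD₁₂ (conjBy_injective h).symm
  obtain ⟨k, hk, hk2⟩ := hKtr _ (hYmem x₁ hx₁ C₂ hC₂) _ (hYmem y₁ hy₁ D₂ hD₂) hP hP'
  refine ⟨y₁⁻¹ * (k * x₁), mul_mem (inv_mem hy₁) (mul_mem (hKY hk) hx₁), ?_, ?_⟩
  · rw [← conjBy_mul, ← conjBy_mul, hx₁C, hKfix k hk, ← hy₁C, conjBy_inv_conjBy]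
  · rw [← conjBy_mul, ← conjBy_mul, hk2, conjBy_inv_conjBy]

end Cfsg.Agent.S5038
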