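import Cfsg.Statements.S5017
import Cfsg.Agent.Lib.Helper83_RankOne

set_option autoImplicit false
open Cfsg

namespace Cfsg.Agent.S5017

open Cfsg.Agent.Lib.Helper83_RankOne

theorem dichotomy {X : Type*} [Group X] {A B : Subgroup X} (h : Cfsg.IsRankOneGroup X A B)
    (N : Subgroup X) (hN : N.Normal) : N ⊔ A = ⊤ ∨ N ≤ Subgroup.center X := by
  obtain ⟨htop, hp⟩ := h
  have h1 := commute_or_sup_le hp (N := N) (by rw [htop]; exact le_top)
    (fun x _ n hn => hN.conj_mem n hn x)
  rcases h1 with h1 | h1
  · right
    intro n hn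
    rw [Subgroup.mem_center_iff]
    intro g
    exact (h1 n hn g (by rw [htop]; exact Subgroup.mem_top g)).symm
  · left
    rw [htop] at h1
    exact top_le_iff.mp h1

theorem nontrivial_quotient_center {X : Type*} [Group X] {A B : Subgroup X}
    (h : Cfsg.IsRankOneGroup X A B) : Nontrivial (X ⧸ Subgroup.center X) := by
  obtain ⟨htop, hp⟩ := h
  by_contra hnt
  rw [not_nontrivial_iff_subsingleton, QuotientGroup.subsingleton_iff] at hnt
  obtain ⟨a, ha, b, hb, hab⟩ := exists_not_commute hp
  apply hab
  have : a ∈ Subgroup.center X := by rw [hnt]; exact Subgroup.mem_top a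
  rw [Subgroup.mem_center_iff] at this
  exact (this b).symm

theorem result {X : Type*} [Group X] {A B : Subgroup X} (h : Cfsg.IsRankOneGroup X A B) :
    (∀ N : Subgroup X, N.Normal → N ⊔ A = ⊤ ∨ N ≤ Subgroup.center X) ∧
    (Group.IsPerfect X → Cfsg.IsQuasisimple X) := by
  refine ⟨dichotomy h, ?_⟩
  intro hperf
  refine ⟨hperf, ?_⟩
  have hnt := nontrivial_quotient_center h
  refine { exists_pair_ne := hnt.exists_pair_ne, eq_bot_or_eq_top_of_normal := ?_ }
  intro Mbar hMbar
  set M : Subgroup X := Mbar.comap (QuotientGroup.mk' (Subgroup.center X)) with hM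
  have hMn : M.Normal := hMbar.comap _
  rcases dichotomy h M hMn with h1 | h1
  · -- M ⊔ A = ⊤: the quotient X ⧸ M is perfect and nilpotent, so trivial
    right
    have hsurj : Function.Surjective ((QuotientGroup.mk' M).comp A.subtype) := by
      intro q
      obtain ⟨x, rfl⟩ := QuotientGroup.mk'_surjective M q
      have hx : x ∈ ((M ⊔ A : Subgroup X) : Set X) := by rw [h1]; exact Set.mem_univ x
      rw [Subgroup.normal_mul] at hx
      obtain ⟨m, hm, a, ha, rfl⟩ := hx
      refine ⟨⟨a, ha⟩, ?_⟩
      simp only [MonoidHom.coe_comp, Function.comp_apply, Subgroup.coe_subtype,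
        QuotientGroup.mk'_apply]
      rw [QuotientGroup.eq]
      have : a⁻¹ * (m * a) = a⁻¹ * m * a := by group
      rw [this]
      have := hMn.conj_mem m hm a⁻¹
      rwa [inv_inv] at this
    have hnilA : Group.IsNilpotent A := h.2.nilpotent_left
    have hnil : Group.IsNilpotent (X ⧸ M) := Group.nilpotent_of_surjective _ hsurj
    have hperfQ : Group.IsPerfect (X ⧸ M) := inferInstance
    have hss : Subsingleton (X ⧸ M) := by
      by_contra hns
      rw [not_subsingleton_iff_nontrivial] at hns
      exact Group.IsPerfect.not_isNilpotent (X ⧸ M) hnil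
    have hMtop : M = ⊤ := QuotientGroup.subsingleton_iff.mp hss
    rw [eq_top_iff]
    intro q _
    obtain ⟨x, rfl⟩ := QuotientGroup.mk'_surjective (Subgroup.center X) q
    have : x ∈ M := by rw [hMtop]; exact Subgroup.mem_top x
    exact this
  · left
    rw [eq_bot_iff]
    intro q hq
    obtain ⟨x, rfl⟩ := QuotientGroup.mk'_surjective (Subgroup.center X) q
    have hx : x ∈ M := hq
    have := h1 hx
    rw [Subgroup.mem_bot]
    exact (QuotientGroup.eq_one_iff x).mpr this

end Cfsg.Agent.S5017
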