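import Cfsg.Statements.S5020
import Cfsg.Agent.Lib.Helper83_Special
import Cfsg.Agent.S5016
import Cfsg.Agent.S5017
import Cfsg.Agent.Lib.Helper2_SL23
import Cfsg.Agent.Lib.Helper4_DihedralIso
import Cfsg.Agent.Lib.Helper29_Local

set_option autoImplicit false
open Cfsg

namespace Cfsg.Agent.S5020

open Cfsg.Agent.Lib.Helper83_RankOne
open Cfsg.Agent.Lib.Helper83_RootSets (comm_of_mem)
open Cfsg.Agent.Lib.Helper83_Special
open Cfsg.Agent.S5021 (rc rc_mul rc_one rc_of_mem rc_cancel rc_mul_of_mem Rel rc_inj exists_rel_right)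

open scoped commutatorElement

section general

variable {G : Type*} [Group G] {A B : Subgroup G}

/-- Elements fixing both `A` and `B` inside `A ⊔ B` lie in the diagonal subgroup. -/
theorem mem_diagonal {g : G} (hg : g ∈ A ⊔ B) (hA : rc A g = A) (hB : rc B g = B) :
    g⁻¹ ∈ rankOneDiagonal A B := by
  unfold rankOneDiagonal
  refine Subgroup.mem_inf.mpr ⟨Subgroup.mem_inf.mpr ⟨inv_mem hg, ?_⟩, ?_⟩
  · exact mem_normalizer_of_conjBy_eq hA
  · exact mem_normalizer_of_conjBy_eq hB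

/-- The image of the point `[u]` under `n(c)` is `[u⁻¹ w]` with `w ∈ A ∩ ⁅A, H⁆`. -/
theorem point_n' (hs : IsSpecialRankOnePair A B) {u bu c bc : G} (hu : Rel A B u bu)
    (hc : Rel A B c bc) :
    ∃ w ∈ A ⊓ ⁅A, rankOneDiagonal A B⁆, rc B (u * (c * bc⁻¹ * c)) = rc B (u⁻¹ * w) := by
  set nu := u * bu⁻¹ * u with hnu
  set nc := c * bc⁻¹ * c with hnc
  set h' := nu⁻¹ * nc with hh'
  have hA : rc A h' = A := by
    rw [hh', ← rc_mul, rc_n_inv_left hu, rc_n_right hc]
  have hB : rc B h' = B := by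
    rw [hh', ← rc_mul, rc_n_inv_right hs hu, rc_n_left hs hc]
  have hh'mem : h' ∈ A ⊔ B := mul_mem (inv_mem (n_mem hu)) (n_mem hc)
  have huA : u ∈ A := hu.1
  have hconjA : h'⁻¹ * u⁻¹ * h' ∈ A := by
    have : h'⁻¹ * u⁻¹ * h' ∈ rc A h' := by
      rw [mem_rc_iff]
      have : h' * (h'⁻¹ * u⁻¹ * h') * h'⁻¹ = u⁻¹ := by group
      rw [this]; exact inv_mem huA
    rwa [hA] at this
  refine ⟨u * (h'⁻¹ * u⁻¹ * h'), ⟨mul_mem huA hconjA, ?_⟩, ?_⟩
  · have : u * (h'⁻¹ * u⁻¹ * h') = ⁅u, h'⁻¹⁆ := by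
      rw [commutatorElement_def]; group
    rw [this]
    exact Subgroup.commutator_mem_commutator huA (mem_diagonal hh'mem hA hB)
  · have e1 : u * nc = (u * nu) * h' := by rw [hh']; group
    have e2 : u⁻¹ * (u * (h'⁻¹ * u⁻¹ * h')) = h'⁻¹ * u⁻¹ * h' := by group
    rw [e1, ← rc_mul, special_point hs hu, rc_mul, e2]
    have e3 : u⁻¹ * h' = h' * (h'⁻¹ * u⁻¹ * h') := by group
    rw [e3, ← rc_mul, hB]

/-- Main identity: `u² c ∈ A ∩ ⁅A, H⁆`. -/
theorem sq_mul_mem' (hs : IsSpecialRankOnePair A B) (hab : IsMulCommutative A) {u c : G}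
    (hu : u ∈ A) (hc : c ∈ A) (hu1 : u ≠ 1) (hc1 : c ≠ 1) (huc : u * c ≠ 1) :
    u * u * c ∈ A ⊓ ⁅A, rankOneDiagonal A B⁆ := by
  have h := hs.1
  obtain ⟨bu, hRu⟩ := exists_rel_right h hu hu1
  obtain ⟨bc, hRc⟩ := exists_rel_right h hc hc1
  have hvA : u * c ∈ A := mul_mem hu hc
  obtain ⟨bv, hRv⟩ := exists_rel_right h hvA huc
  have hRc' := Cfsg.Agent.S5021.Rel.inv hs hRc
  set n := c * bc⁻¹ * c with hn
  have hninv : c⁻¹ * (bc⁻¹)⁻¹ * c⁻¹ = n⁻¹ := by rw [hn]; group
  have hid : n = c * n⁻¹ * c * n * c := by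
    have h1 := conj_n hs hRc
    rw [← hn] at h1
    calc n = c * bc⁻¹ * c := hn
      _ = c * (n⁻¹ * c * n) * c := by rw [h1]
      _ = c * n⁻¹ * c * n * c := by group
  obtain ⟨w1, hw1, e1⟩ := point_n' hs hRu hRc
  obtain ⟨w2, hw2, e2⟩ := point_n' hs hRv hRc'
  rw [hninv] at e2
  rw [← hn] at e1
  have hw2A : w2 ∈ A := hw2.1
  have hw1A : w1 ∈ A := hw1.1
  have hxA : u⁻¹ * w2 ∈ A := mul_mem (inv_mem hu) hw2A
  have hx_eq : (u * c)⁻¹ * w2 * c = u⁻¹ * w2 := by
    have hcomm : w2 * c = c * w2 := comm_of_mem hab hw2A hc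
    have hcu : c⁻¹ * u⁻¹ = u⁻¹ * c⁻¹ := comm_of_mem hab (inv_mem hc) (inv_mem hu)
    calc (u * c)⁻¹ * w2 * c = c⁻¹ * u⁻¹ * (w2 * c) := by group
      _ = u⁻¹ * c⁻¹ * (c * w2) := by rw [hcomm, hcu]
      _ = u⁻¹ * w2 := by group
  have e3 : rc B (u * n) = rc B ((u⁻¹ * w2) * n * c) := by
    have : u * n = ((u * c) * n⁻¹) * (c * n * c) := by
      calc u * n = u * (c * n⁻¹ * c * n * c) := by rw [← hid]
        _ = ((u * c) * n⁻¹) * (c * n * c) := by group
    rw [this, ← rc_mul, e2, rc_mul]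
    have : (u * c)⁻¹ * w2 * (c * n * c) = ((u * c)⁻¹ * w2 * c) * n * c := by group
    rw [this, hx_eq]
  have hx1 : u⁻¹ * w2 ≠ 1 := by
    intro hx
    have e3' : rc B (u * n) = A := by
      rw [e3, hx, one_mul, ← rc_mul, rc_n_right hRc, rc_of_mem hc]
    have : rc (rc B u) n = rc B n := by rw [rc_mul, e3', rc_n_right hRc]
    exact rc_ne_of_ne_one h hu hu1 (rc_cancel this)
  obtain ⟨bx, hRx⟩ := exists_rel_right h hxA hx1
  obtain ⟨w3, hw3, e4⟩ := point_n' hs hRx hRc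
  rw [← hn] at e4
  have hw3A : w3 ∈ A := hw3.1
  have e5 : rc B (u⁻¹ * w1) = rc B ((u⁻¹ * w2)⁻¹ * w3 * c) := by
    rw [← e1, e3, ← rc_mul, e4, rc_mul]
  have hL : u⁻¹ * w1 ∈ A := mul_mem (inv_mem hu) hw1A
  have hR : (u⁻¹ * w2)⁻¹ * w3 * c ∈ A := mul_mem (mul_mem (inv_mem hxA) hw3A) hc
  have e6 := rc_inj (RankOnePair_symm h) hL hR e5
  have hfinal : u * u * c = w1 * w2 * w3⁻¹ := by
    have c1 : w2⁻¹ * u = u * w2⁻¹ := comm_of_mem hab (inv_mem hw2A) hu
    have c2 : w3 * c = c * w3 := comm_of_mem hab hw3A hc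
    have c3 : w2⁻¹ * c = c * w2⁻¹ := comm_of_mem hab (inv_mem hw2A) hc
    have e7 : u⁻¹ * w1 = u * c * (w2⁻¹ * w3) := by
      calc u⁻¹ * w1 = (u⁻¹ * w2)⁻¹ * w3 * c := e6
        _ = w2⁻¹ * u * (w3 * c) := by group
        _ = u * w2⁻¹ * (c * w3) := by rw [c1, c2]
        _ = u * (w2⁻¹ * c) * w3 := by group
        _ = u * (c * w2⁻¹) * w3 := by rw [c3]
        _ = u * c * (w2⁻¹ * w3) := by group
    have e8 : w1 = u * u * c * (w2⁻¹ * w3) := by
      calc w1 = u * (u⁻¹ * w1) := by group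
        _ = u * (u * c * (w2⁻¹ * w3)) := by rw [e7]
        _ = u * u * c * (w2⁻¹ * w3) := by group
    calc u * u * c = (u * u * c * (w2⁻¹ * w3)) * (w2⁻¹ * w3)⁻¹ := by group
      _ = w1 * (w2⁻¹ * w3)⁻¹ := by rw [← e8]
      _ = w1 * (w3⁻¹ * w2) := by group
      _ = w1 * (w2 * w3⁻¹) := by
          have : w3⁻¹ * w2 = w2 * w3⁻¹ := comm_of_mem hab (inv_mem hw3A) hw2A
          rw [this]
      _ = w1 * w2 * w3⁻¹ := by group
  rw [hfinal]
  exact mul_mem (mul_mem hw1 hw2) (inv_mem hw3)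

/-- With more than three elements in `A`, we get `A ≤ ⁅A, H⁆`. -/
theorem le_commutator_diagonal (hs : IsSpecialRankOnePair A B) (hab : IsMulCommutative A)
    (h3 : 3 < ENat.card A) : A ≤ ⁅A, rankOneDiagonal A B⁆ := by
  have : A ≤ A ⊓ ⁅A, rankOneDiagonal A B⁆ :=
    le_of_sq_mul_mem hab h3 (fun u hu c hc hu1 hc1 huc => sq_mul_mem' hs hab hu hc hu1 hc1 huc)
  exact this.trans inf_le_right

end general

/-- The large case. -/
theorem big_case {X : Type*} [Group X] {A B : Subgroup X} (h : Cfsg.IsRankOneGroup X A B)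
    (hs : Cfsg.IsSpecialRankOnePair A B) (hab : Cfsg.HasAbelianUnipotents A B)
    (h3 : 3 < ENat.card A) :
    commutator X ⊔ A = ⊤ ∧ Cfsg.IsQuasisimple (commutator X) ∧
      3 < ENat.card ↥(⁅A, Cfsg.rankOneDiagonal A B⁆ : Subgroup X) := by
  have htop := h.1
  have hA : A ≤ commutator X := by
    have := le_commutator hs hab.1 h3
    rwa [htop, ← commutator_def] at this
  have hB : B ≤ commutator X := by
    obtain ⟨a, ha, ha1⟩ := exists_ne_one_left h.2
    obtain ⟨b, hR⟩ := exists_rel_right h.2 ha ha1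
    have hB' := rc_n_left hs hR
    intro x hx
    rw [← hB', mem_rc_iff] at hx
    have h1 := hA hx
    have hn : (commutator X).Normal := inferInstance
    have h2 := hn.conj_mem _ h1 (a * b⁻¹ * a)⁻¹
    have e : (a * b⁻¹ * a)⁻¹ * ((a * b⁻¹ * a) * x * (a * b⁻¹ * a)⁻¹) * (a * b⁻¹ * a)⁻¹⁻¹ = x := by
      group
    rwa [e] at h2
  have hcomm : commutator X = ⊤ := by
    rw [eq_top_iff, ← htop]
    exact sup_le hA hB
  have hperf : Group.IsPerfect X := ⟨hcomm⟩
  have hq : Cfsg.IsQuasisimple X := (Cfsg.Agent.S5017.result h).2 hperf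
  refine ⟨?_, ?_, ?_⟩
  · rw [hcomm, top_sup_eq]
  · have e : X ≃* commutator X :=
      Subgroup.topEquiv.symm.trans (MulEquiv.subgroupCongr hcomm.symm)
    exact Cfsg.Agent.Lib.Helper29_Local.isQuasisimple_of_mulEquiv e hq
  · have hle := le_commutator_diagonal hs hab.1 h3
    have h1 : (A : Set X).encard ≤ ((⁅A, Cfsg.rankOneDiagonal A B⁆ : Subgroup X) : Set X).encard :=
      Set.encard_le_encard hle
    exact lt_of_lt_of_le h3 h1

section braid
variable {L : Type*} [Group L] {a d : L}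

/-- Quaternion relations from the braid relation and `a ^ 3 = 1`. -/
theorem quat_relations (ha : a ^ 3 = 1) (hb : a * d * a = d * a * d) :
    ∃ i j : L, i = a⁻¹ * d⁻¹ * a⁻¹ ∧ i ^ (2 * 2) = 1 ∧ j * j = i ^ 2 ∧ i * j * i = j ∧
      a * i * a⁻¹ = j ∧ a * j * a⁻¹ = i * j := by
  have ha2' : a⁻¹ * a⁻¹ = a := by
    have h1 : a * a * a = 1 := by rw [← ha]; simp [pow_succ]
    calc a⁻¹ * a⁻¹ = a⁻¹ * a⁻¹ * (a * a * a) := by rw [h1, mul_one]
      _ = a := by group
  have hbi : a⁻¹ * d⁻¹ * a⁻¹ = d⁻¹ * a⁻¹ * d⁻¹ := by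
    have := congrArg (fun x => x⁻¹) hb
    simp only [mul_inv_rev] at this
    rw [← mul_assoc, ← mul_assoc] at this
    exact this
  obtain ⟨i, hi⟩ : ∃ i, i = a⁻¹ * d⁻¹ * a⁻¹ := ⟨_, rfl⟩
  obtain ⟨j, hj⟩ : ∃ j, j = d⁻¹ * a := ⟨_, rfl⟩
  have h5 : a * i * a⁻¹ = j := by
    calc a * i * a⁻¹ = d⁻¹ * (a⁻¹ * a⁻¹) := by rw [hi]; group
      _ = j := by rw [ha2', hj]
  have h6 : a * j * a⁻¹ = i * j := by
    have e1 : a * j * a⁻¹ = a * d⁻¹ := by rw [hj]; group
    have e2 : i * j = a * d⁻¹ := by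
      calc i * j = a⁻¹ * (d⁻¹ * a⁻¹ * d⁻¹) * a := by rw [hi, hj]; group
        _ = a⁻¹ * (a⁻¹ * d⁻¹ * a⁻¹) * a := by rw [← hbi]
        _ = (a⁻¹ * a⁻¹) * d⁻¹ := by group
        _ = a * d⁻¹ := by rw [ha2']
    rw [e1, e2]
  have F1 : i * a = d * i := by
    calc i * a = a⁻¹ * d⁻¹ := by rw [hi]; group
      _ = d * (d⁻¹ * a⁻¹ * d⁻¹) := by group
      _ = d * i := by rw [← hbi, hi]
  have F2 : i * d = a * i := by
    calc i * d = (d⁻¹ * a⁻¹ * d⁻¹) * d := by rw [hi, hbi]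
      _ = d⁻¹ * a⁻¹ := by group
      _ = a * i := by rw [hi]; group
  have Z : i * i * a = a * (i * i) := by
    calc i * i * a = i * (i * a) := by group
      _ = i * (d * i) := by rw [F1]
      _ = (i * d) * i := by group
      _ = (a * i) * i := by rw [F2]
      _ = a * (i * i) := by group
  have h2' : j * j = i * i := by
    calc j * j = (a * i * a⁻¹) * (a * i * a⁻¹) := by rw [h5]
      _ = a * (i * i) * a⁻¹ := by group
      _ = (i * i * a) * a⁻¹ := by rw [Z]
      _ = i * i := by group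
  have h3 : i * j * i = j := by
    have e : (i * j) * (i * j) = j * j := by
      calc (i * j) * (i * j) = (a * j * a⁻¹) * (a * j * a⁻¹) := by rw [h6]
        _ = a * (j * j) * a⁻¹ := by group
        _ = a * (i * i) * a⁻¹ := by rw [h2']
        _ = (i * i * a) * a⁻¹ := by rw [Z]
        _ = i * i := by group
        _ = j * j := h2'.symm
    have e' : (i * j * i) * j = j * j := by rw [← e]; group
    exact mul_right_cancel e'
  have h1 : (i * i) * (i * i) = 1 := by
    have e : i * i = (i * i) * (i * i) * (i * i) := by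
      calc i * i = j * j := h2'.symm
        _ = (i * j * i) * (i * j * i) := by rw [h3]
        _ = i * j * (i * i) * j * i := by group
        _ = i * j * (j * j) * j * i := by rw [h2']
        _ = i * (j * j) * (j * j) * i := by group
        _ = i * (i * i) * (i * i) * i := by rw [h2']
        _ = (i * i) * (i * i) * (i * i) := by group
    have e2 : (i * i) * 1 = (i * i) * ((i * i) * (i * i)) := by
      rw [mul_one, ← mul_assoc (i * i)]; exact e
    exact (mul_left_cancel e2).symm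
  refine ⟨i, j, hi, ?_, ?_, h3, h5, h6⟩
  · rw [pow_mul, pow_two, pow_two]; exact h1
  · rw [pow_two]; exact h2'

end braid

/-! ### The small cases -/

theorem center_SL23 : ∀ x : Matrix.SpecialLinearGroup (Fin 2) (ZMod 3),
    x ∈ Subgroup.center (Matrix.SpecialLinearGroup (Fin 2) (ZMod 3)) → x = 1 ∨ x = -1 := by
  decide

theorem neg_one_mem_center : (-1 : Matrix.SpecialLinearGroup (Fin 2) (ZMod 3)) ∈
    Subgroup.center (Matrix.SpecialLinearGroup (Fin 2) (ZMod 3)) := by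
  decide

section small

variable {X : Type*} [Group X] {A B : Subgroup X}

theorem card_right (hs : IsSpecialRankOnePair A B) : Nat.card B = Nat.card A := by
  obtain ⟨a, ha, ha1⟩ := exists_ne_one_left hs.1
  obtain ⟨b, hR⟩ := exists_rel_right hs.1 ha ha1
  have hB' := rc_n_left hs hR
  rw [← hB']
  unfold rc Cfsg.conjBy
  exact Subgroup.card_map_of_injective (MulEquiv.injective _)

theorem le_of_prime_card {U : Subgroup X} {p : ℕ} [Fact p.Prime] (hc : Nat.card A = p) {a : X}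
    (ha : a ∈ A) (ha1 : a ≠ 1) (haU : a ∈ U) : A ≤ U := by
  intro x hx
  have h1 : (⟨a, ha⟩ : A) ≠ 1 := by
    intro h
    exact ha1 (congrArg Subtype.val h)
  have h2 : (⟨x, hx⟩ : A) ∈ Subgroup.zpowers (⟨a, ha⟩ : A) := mem_zpowers_of_prime_card hc h1
  obtain ⟨k, hk⟩ := Subgroup.mem_zpowers_iff.mp h2
  have h3 : a ^ k = x := by
    have := congrArg Subtype.val hk
    simpa using this
  rw [← h3]
  exact zpow_mem haU k

theorem pow_card_eq_one {p : ℕ} (hc : Nat.card A = p) {a : X} (ha : a ∈ A) : a ^ p = 1 := by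
  have := Subgroup.orderOf_dvd_natCard A ha
  rw [hc] at this
  exact orderOf_dvd_iff_pow_eq_one.mp this

theorem closure_eq_top (h : Cfsg.IsRankOneGroup X A B) (hs : IsSpecialRankOnePair A B) {p : ℕ}
    [Fact p.Prime] (hc : Nat.card A = p) {a b : X} (hR : Rel A B a b) {U : Subgroup X}
    (haU : a ∈ U) (hbU : b ∈ U) : U = ⊤ := by
  have ha1 := hR.left_ne_one h.2
  have hb1 := hR.right_ne_one h.2
  have hcB : Nat.card B = p := (card_right hs).trans hc
  rw [eq_top_iff, ← h.1]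
  exact sup_le (le_of_prime_card hc hR.1 ha1 haU) (le_of_prime_card hcB hR.2.1 hb1 hbU)

/-- The case `|A| = 2`: the group is dihedral of order six. -/
theorem dihedral_of_card_two (h : Cfsg.IsRankOneGroup X A B) (hs : IsSpecialRankOnePair A B)
    (h2 : Nat.card A = 2) : Nonempty (DihedralGroup 3 ≃* X) := by
  have : Fact (Nat.Prime 2) := ⟨Nat.prime_two⟩
  have : Fact (Nat.Prime 3) := ⟨Nat.prime_three⟩
  obtain ⟨a, ha, ha1⟩ := exists_ne_one_left h.2
  obtain ⟨b, hR⟩ := exists_rel_right h.2 ha ha1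
  have hb := hR.2.1
  have hb1 := hR.right_ne_one h.2
  have hB2 : Nat.card B = 2 := (card_right hs).trans h2
  have haa : a * a = 1 := by
    have := pow_card_eq_one h2 ha
    rwa [pow_two] at this
  have hbb : b * b = 1 := by
    have := pow_card_eq_one hB2 hb
    rwa [pow_two] at this
  have E := hR.special hs
  have hainv : a⁻¹ = a := inv_eq_of_mul_eq_one_left haa
  have hbinv : b⁻¹ = b := inv_eq_of_mul_eq_one_left hbb
  rw [hainv, hbinv] at E
  have h3 : (a * b) ^ 3 = 1 := by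
    calc (a * b) ^ 3 = a * (b * a * b) * (a * b) := by simp only [pow_succ, pow_zero]; group
      _ = a * (a * b * a) * (a * b) := by rw [E]
      _ = (a * a) * b * (a * a) * b := by group
      _ = 1 := by rw [haa, one_mul, mul_one, hbb]
  have hab1 : a * b ≠ 1 := by
    intro hab
    have hab' : a = b⁻¹ := eq_inv_of_mul_eq_one_left hab
    have haB : a ∈ B := by rw [hab']; exact inv_mem hb
    exact ha1 (eq_one_of_mem_of_mem_normalizer h.2 ha (Subgroup.le_normalizer haB))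
  have ho : orderOf (a * b) = 3 := orderOf_eq_prime h3 hab1
  have e := Cfsg.Agent.Lib.Helper4_DihedralIso.dihedralEquiv haa hbb ha1 hb1
  rw [ho] at e
  have hcl : Subgroup.closure ({a, b} : Set X) = ⊤ :=
    closure_eq_top h hs h2 hR (Subgroup.subset_closure (by simp))
      (Subgroup.subset_closure (by simp))
  exact ⟨e.trans ((MulEquiv.subgroupCongr hcl).trans Subgroup.topEquiv)⟩

/-- The case `|A| = 3`: the group is an image of `SL₂(3)`. -/
theorem surj_of_card_three (h : Cfsg.IsRankOneGroup X A B) (hs : IsSpecialRankOnePair A B)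
    (h3 : Nat.card A = 3) :
    ∃ φ : Matrix.SpecialLinearGroup (Fin 2) (ZMod 3) →* X, Function.Surjective φ := by
  have : Fact (Nat.Prime 3) := ⟨Nat.prime_three⟩
  obtain ⟨a, ha, ha1⟩ := exists_ne_one_left h.2
  obtain ⟨b, hR⟩ := exists_rel_right h.2 ha ha1
  have hb := hR.2.1
  have ha3 : a ^ 3 = 1 := pow_card_eq_one h3 ha
  have E := hR.special hs
  have hbraid : a * b⁻¹ * a = b⁻¹ * a * b⁻¹ := by
    calc a * b⁻¹ * a = a * (b⁻¹ * a * b) * b⁻¹ := by group
      _ = a * (a⁻¹ * b⁻¹ * a) * b⁻¹ := by rw [E]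
      _ = b⁻¹ * a * b⁻¹ := by group
  obtain ⟨i, j, hi, r1, r2, r3, r5, r6⟩ := quat_relations ha3 hbraid
  have hgen : Subgroup.closure ({i, j, a} : Set X) = ⊤ := by
    have haU : a ∈ Subgroup.closure ({i, j, a} : Set X) := Subgroup.subset_closure (by simp)
    have hiU : i ∈ Subgroup.closure ({i, j, a} : Set X) := Subgroup.subset_closure (by simp)
    have hbU : b ∈ Subgroup.closure ({i, j, a} : Set X) := by
      have : b = a * i * a := by rw [hi]; group
      rw [this]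
      exact mul_mem (mul_mem haU hiU) haU
    exact closure_eq_top h hs h3 hR haU hbU
  have hsurj := Cfsg.Agent.Lib.Helper2_SL23.liftM_surjective i j a r1 r2 r3 ha3 r5 r6 hgen
  refine ⟨(Cfsg.Agent.Lib.Helper2_SL23.liftM i j a r1 r2 r3 ha3 r5 r6).comp
    Cfsg.Agent.Lib.Helper2_SL23.equivSL.symm.toMonoidHom, ?_⟩
  intro x
  obtain ⟨m, hm⟩ := hsurj x
  refine ⟨Cfsg.Agent.Lib.Helper2_SL23.equivSL m, ?_⟩
  simp only [MonoidHom.comp_apply, MulEquiv.coe_toMonoidHom, MulEquiv.symm_apply_apply]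
  exact hm

/-- An image of `SL₂(3)` that is a rank one group is `SL₂(3)` or `PSL₂(3)`. -/
theorem iso_of_surj (h : Cfsg.IsRankOneGroup X A B)
    (φ : Matrix.SpecialLinearGroup (Fin 2) (ZMod 3) →* X) (hφ : Function.Surjective φ) :
    Nonempty (X ≃* Matrix.SpecialLinearGroup (Fin 2) (ZMod 3)) ∨
      Nonempty (X ≃* Matrix.ProjectiveSpecialLinearGroup (Fin 2) (ZMod 3)) := by
  have hS := Cfsg.Agent.S5016.result (ZMod 3)
  have hK : φ.ker ≤ Subgroup.center (Matrix.SpecialLinearGroup (Fin 2) (ZMod 3)) := by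
    rcases Cfsg.Agent.S5017.dichotomy hS.1 φ.ker inferInstance with h1 | h1
    · exfalso
      obtain ⟨x, -, y, -, hxy⟩ := exists_not_commute h.2
      apply hxy
      have key : ∀ z : X, ∃ l ∈ Cfsg.lowerUnipotentSL2 (ZMod 3), φ l = z := by
        intro z
        obtain ⟨g, rfl⟩ := hφ z
        have hg : g ∈ ((φ.ker ⊔ Cfsg.lowerUnipotentSL2 (ZMod 3) : Subgroup _) : Set _) := by
          rw [h1]; exact Set.mem_univ g
        rw [Subgroup.normal_mul] at hg
        obtain ⟨k, hk, l, hl, rfl⟩ := hg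
        refine ⟨l, hl, ?_⟩
        rw [map_mul, MonoidHom.mem_ker.mp hk, one_mul]
      obtain ⟨lx, hlx, rfl⟩ := key x
      obtain ⟨ly, hly, rfl⟩ := key y
      rw [← map_mul, ← map_mul, comm_of_mem hS.2.2.1 hlx hly]
    · exact h1
  by_cases hbot : φ.ker = ⊥
  · left
    have hinj : Function.Injective φ := (MonoidHom.ker_eq_bot_iff φ).mp hbot
    exact ⟨(MulEquiv.ofBijective φ ⟨hinj, hφ⟩).symm⟩
  · right
    have hKc : φ.ker = Subgroup.center (Matrix.SpecialLinearGroup (Fin 2) (ZMod 3)) := by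
      apply le_antisymm hK
      obtain ⟨x, hx, hx1⟩ : ∃ x ∈ φ.ker, x ≠ 1 := by
        by_contra hno
        push Not at hno
        apply hbot
        rw [eq_bot_iff]
        intro x hx
        rw [Subgroup.mem_bot]
        exact hno x hx
      have hxneg : x = -1 := by
        rcases center_SL23 x (hK hx) with h1 | h1
        · exact absurd h1 hx1
        · exact h1
      intro y hy
      rcases center_SL23 y hy with h1 | h1
      · rw [h1]; exact one_mem _
      · rw [h1, ← hxneg]; exact hx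
    exact ⟨(QuotientGroup.quotientKerEquivOfSurjective φ hφ).symm.trans
      (QuotientGroup.quotientMulEquivOfEq hKc)⟩

/-- The lower unitriangular subgroup of `SL₂(2)` has two elements. -/
theorem card_lower_two : Nat.card (Cfsg.lowerUnipotentSL2 (ZMod 2)) = 2 := by
  have hbij : Function.Bijective (fun t : ZMod 2 =>
      (⟨Cfsg.Agent.S5016.lowerElt t, Cfsg.Agent.S5016.lowerElt_mem t⟩ :
        Cfsg.lowerUnipotentSL2 (ZMod 2))) := by
    constructor
    · intro s t hst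
      have h1 : Cfsg.Agent.S5016.lowerElt s = Cfsg.Agent.S5016.lowerElt t :=
        congrArg Subtype.val hst
      have h2 := congrArg (fun g : Matrix.SpecialLinearGroup (Fin 2) (ZMod 2) =>
        (g : Matrix (Fin 2) (Fin 2) (ZMod 2)) 1 0) h1
      simpa [Cfsg.Agent.S5016.lowerElt_coe] using h2
    · rintro ⟨g, hg⟩
      obtain ⟨t, rfl⟩ := Cfsg.Agent.S5016.mem_lower_iff.mp hg
      exact ⟨t, rfl⟩
  rw [← Nat.card_congr (Equiv.ofBijective _ hbij), Nat.card_zmod]

end small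

/-- The small case. -/
theorem small_case {X : Type*} [Group X] {A B : Subgroup X} (h : Cfsg.IsRankOneGroup X A B)
    (hs : Cfsg.IsSpecialRankOnePair A B) (h3 : ENat.card A ≤ 3) :
    Nonempty (X ≃* Matrix.SpecialLinearGroup (Fin 2) (ZMod 2)) ∨
      Nonempty (X ≃* Matrix.SpecialLinearGroup (Fin 2) (ZMod 3)) ∨
      Nonempty (X ≃* Matrix.ProjectiveSpecialLinearGroup (Fin 2) (ZMod 3)) := by
  have hfin : Finite A := ENat.card_lt_top.mp (lt_of_le_of_lt h3 (by exact_mod_cast ENat.natCast_lt_top 3))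
  have hle : Nat.card A ≤ 3 := by
    rw [ENat.card_eq_coe_natCard] at h3
    exact_mod_cast h3
  have hgt : 1 < Nat.card A := (Subgroup.one_lt_card_iff_ne_bot A).mpr (left_ne_bot h.2)
  have hcases : Nat.card A = 2 ∨ Nat.card A = 3 := by omega
  rcases hcases with h2 | h3'
  · left
    obtain ⟨e1⟩ := dihedral_of_card_two h hs h2
    have hS := Cfsg.Agent.S5016.result (ZMod 2)
    obtain ⟨e2⟩ := dihedral_of_card_two hS.1 hS.2.1 card_lower_two
    exact ⟨e1.symm.trans e2⟩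
  · right
    obtain ⟨φ, hφ⟩ := surj_of_card_three h hs h3'
    exact iso_of_surj h φ hφ

theorem result {X : Type*} [Group X] {A B : Subgroup X} (h : Cfsg.IsRankOneGroup X A B)
    (hs : Cfsg.IsSpecialRankOnePair A B) (hab : Cfsg.HasAbelianUnipotents A B) :
    (ENat.card A ≤ 3 ∧ (Nonempty (X ≃* Matrix.SpecialLinearGroup (Fin 2) (ZMod 2)) ∨
        Nonempty (X ≃* Matrix.SpecialLinearGroup (Fin 2) (ZMod 3)) ∨
        Nonempty (X ≃* Matrix.ProjectiveSpecialLinearGroup (Fin 2) (ZMod 3)))) ∨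
    (commutator X ⊔ A = ⊤ ∧ Cfsg.IsQuasisimple (commutator X) ∧
      3 < ENat.card ↥(⁅A, Cfsg.rankOneDiagonal A B⁆ : Subgroup X)) := by
  by_cases h3 : 3 < ENat.card A
  · right
    exact big_case h hs hab h3
  · left
    have h3' : ENat.card A ≤ 3 := not_lt.mp h3
    exact ⟨h3', small_case h hs h3'⟩

end Cfsg.Agent.S5020
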