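import Cfsg.Statements.S2360
import Cfsg.Agent.Lib.Helper13_SU3Inv

set_option autoImplicit false
open Cfsg

namespace Cfsg.Agent.S2360

open Matrix Cfsg.Agent.Lib.Helper13_Herm Cfsg.Agent.Lib.Helper13_SU3Inv
  Cfsg.Agent.Lib.Helper5_SUOrder

variable {F : Type*} [Field F] [Fintype F] {q : ℕ}

/-- The underlying matrix of an element of `SU_3`. -/
def mat (x : ↥(Cfsg.SU 3 F q)) : Matrix (Fin 3) (Fin 3) F :=
  ((x.1 : Matrix.SpecialLinearGroup (Fin 3) F) : Matrix (Fin 3) (Fin 3) F)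

omit [Fintype F] in
theorem mat_mul (x y : ↥(Cfsg.SU 3 F q)) : mat (x * y) = mat x * mat y := rfl

omit [Fintype F] in
theorem mat_injective : Function.Injective (mat (F := F) (q := q)) := fun _ _ h => su_ext' h

/-- Every involution of `SU_3(q)`, `q` odd, is a reflection. -/
theorem exists_eq_refl (hF : Fintype.card F = q ^ 2) (hq : Odd q) (x : ↥(Cfsg.SU 3 F q))
    (hx : x ≠ 1) (hx2 : x * x = 1) :
    ∃ u, Cfsg.hermForm 3 F q u u = 1 ∧ mat x = refl 3 q u := by
  obtain ⟨u, hu⟩ := toInv_surjective hF hq ⟨x, hx, hx2⟩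
  refine ⟨u.1, u.2, ?_⟩
  rw [← toInv_val hF hq u, hu]
  rfl

theorem conj_all (hF : Fintype.card F = q ^ 2) (hq : Odd q) (t : ↥(Cfsg.SU 3 F q)) (ht : t ≠ 1)
    (ht2 : t * t = 1) (x : ↥(Cfsg.SU 3 F q)) (hx : x ≠ 1) (hx2 : x * x = 1) :
    ∃ g : ↥(Cfsg.SU 3 F q), g * t * g⁻¹ = x := by
  obtain ⟨u, hu, htu⟩ := exists_eq_refl hF hq t ht ht2
  obtain ⟨u', hu', hxu⟩ := exists_eq_refl hF hq x hx hx2
  obtain ⟨g, hg⟩ := exists_conj hF hu hu'
  refine ⟨g, ?_⟩
  rw [mul_inv_eq_iff_eq_mul]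
  apply mat_injective
  rw [mat_mul, mat_mul, htu, hxu]
  exact hg

theorem card_invol (hF : Fintype.card F = q ^ 2) (hq : Odd q) :
    Nat.card {x : ↥(Cfsg.SU 3 F q) // x ≠ 1 ∧ x * x = 1} = q ^ 2 * (q ^ 2 - q + 1) := by
  have h := card_Inv (F := F) hF hq
  have hq1 : q ≤ q ^ 2 := by nlinarith [two_le_q hF]
  have e : q ^ 3 + 1 = (q ^ 2 - q + 1) * (q + 1) := by
    obtain ⟨d, hd⟩ : ∃ d, q ^ 2 = q + d := ⟨q ^ 2 - q, by omega⟩
    rw [hd, Nat.add_sub_cancel_left]
    have : q ^ 3 = q * q ^ 2 := by ring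
    rw [this, hd]
    nlinarith [hd]
  rw [e, ← mul_assoc] at h
  exact Nat.eq_of_mul_eq_mul_right (by omega) h

theorem card_SU3 (hF : Fintype.card F = q ^ 2) :
    (q + 1) * Nat.card ↥(Cfsg.SU 3 F q) = q ^ 3 * ((q + 1) * (q ^ 2 - 1) * (q ^ 3 + 1)) := by
  have h := card_SU hF 3 (by norm_num)
  rw [h]
  simp [Finset.prod_range_succ]

theorem card_centralizer (hF : Fintype.card F = q ^ 2) (hq : Odd q) (t : ↥(Cfsg.SU 3 F q))
    (ht : t ≠ 1) (ht2 : t * t = 1) :
    Nat.card ↥(Subgroup.centralizer ({t} : Set ↥(Cfsg.SU 3 F q))) =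
      q * (q + 1) * (q ^ 2 - 1) := by
  classical
  obtain ⟨C, hC⟩ : ∃ C, C = Subgroup.centralizer ({t} : Set ↥(Cfsg.SU 3 F q)) := ⟨_, rfl⟩
  rw [← hC]
  let f : ↥(Cfsg.SU 3 F q) → {x : ↥(Cfsg.SU 3 F q) // x ≠ 1 ∧ x * x = 1} := fun g =>
    ⟨g * t * g⁻¹, by
      intro h
      apply ht
      have : t = g⁻¹ * (g * t * g⁻¹) * g := by group
      rw [this, h]
      group, by
      have : g * t * g⁻¹ * (g * t * g⁻¹) = g * (t * t) * g⁻¹ := by group
      rw [this, ht2]
      group⟩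
  have hf : ∀ a b, f a = f b ↔ a⁻¹ * b ∈ C := by
    intro a b
    rw [hC, Subgroup.mem_centralizer_singleton_iff]
    constructor
    · intro h
      have h1 : a * t * a⁻¹ = b * t * b⁻¹ := congrArg Subtype.val h
      have : a⁻¹ * b * t = a⁻¹ * (b * t * b⁻¹) * b := by group
      rw [this, ← h1]
      group
    · intro h
      apply Subtype.ext
      show a * t * a⁻¹ = b * t * b⁻¹
      have : b * t * b⁻¹ = a * (a⁻¹ * b * t) * b⁻¹ := by group
      rw [this, h]
      group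
  let φ : (↥(Cfsg.SU 3 F q) ⧸ C) → {x : ↥(Cfsg.SU 3 F q) // x ≠ 1 ∧ x * x = 1} :=
    Quotient.lift f (fun a b hab => (hf a b).mpr (QuotientGroup.leftRel_apply.mp hab))
  have hφ : Function.Bijective φ := by
    constructor
    · intro a b
      induction a using QuotientGroup.induction_on with
      | H a =>
        induction b using QuotientGroup.induction_on with
        | H b =>
          intro h
          exact QuotientGroup.eq.mpr ((hf a b).mp h)
    · intro x
      obtain ⟨g, hg⟩ := conj_all hF hq t ht ht2 x.1 x.2.1 x.2.2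
      exact ⟨QuotientGroup.mk g, Subtype.ext hg⟩
  have h1 := Subgroup.card_eq_card_quotient_mul_card_subgroup C
  rw [Nat.card_congr (Equiv.ofBijective φ hφ), card_invol hF hq] at h1
  have h2 := card_SU3 (F := F) hF
  have h3 := card_Inv (F := F) hF hq
  rw [h1] at h2
  have hq2 := two_le_q hF
  have hpos : 0 < q ^ 2 * (q ^ 3 + 1) := by positivity
  apply Nat.eq_of_mul_eq_mul_left hpos
  have e : q ^ 3 + 1 = (q ^ 2 - q + 1) * (q + 1) := by
    have hq1 : q ≤ q ^ 2 := by nlinarith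
    obtain ⟨d, hd⟩ : ∃ d, q ^ 2 = q + d := ⟨q ^ 2 - q, by omega⟩
    rw [hd, Nat.add_sub_cancel_left]
    have : q ^ 3 = q * q ^ 2 := by ring
    rw [this, hd]
    nlinarith [hd]
  calc q ^ 2 * (q ^ 3 + 1) * Nat.card ↥C
      = (q + 1) * (q ^ 2 * (q ^ 2 - q + 1) * Nat.card ↥C) := by rw [e]; ring
    _ = q ^ 3 * ((q + 1) * (q ^ 2 - 1) * (q ^ 3 + 1)) := h2
    _ = q ^ 2 * (q ^ 3 + 1) * (q * (q + 1) * (q ^ 2 - 1)) := by ring

theorem unique_third (hF : Fintype.card F = q ^ 2) (hq : Odd q) (t : ↥(Cfsg.SU 3 F q))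
    (ht : t ≠ 1) (ht2 : t * t = 1) (x : ↥(Cfsg.SU 3 F q)) (hx : x ≠ 1) (hx2 : x * x = 1)
    (hxt : x ≠ t) (hc : Commute t x) :
    Nat.card {y : ↥(Cfsg.SU 3 F q) //
      y ≠ 1 ∧ y * y = 1 ∧ y ≠ t ∧ y ≠ x ∧ Commute t y ∧ Commute x y} = 1 := by
  have h2 := two_ne_zero_of_odd hF hq
  obtain ⟨u, hu, htu⟩ := exists_eq_refl hF hq t ht ht2
  obtain ⟨v, hv, hxv⟩ := exists_eq_refl hF hq x hx hx2
  have huv : Cfsg.hermForm 3 F q u v = 0 := by
    apply hermForm_eq_zero_of_commute h2 hu hv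
    · rw [← htu, ← hxv]
      intro h
      exact hxt (mat_injective h).symm
    · rw [← htu, ← hxv, ← mat_mul, ← mat_mul, hc.eq]
  rw [Nat.card_eq_one_iff_unique]
  constructor
  · constructor
    rintro ⟨y, hy1, hy2, hyt, hyx, hty, hxy⟩ ⟨y', hy1', hy2', hyt', hyx', hty', hxy'⟩
    apply Subtype.ext
    show y = y'
    have key : ∀ z : ↥(Cfsg.SU 3 F q), z ≠ 1 → z * z = 1 → z ≠ t → z ≠ x → Commute t z →
        Commute x z → z = t * x := by
      intro z hz1 hz2 hzt hzx htz hxz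
      obtain ⟨w, hw, hzw⟩ := exists_eq_refl hF hq z hz1 hz2
      have huw : Cfsg.hermForm 3 F q u w = 0 := by
        apply hermForm_eq_zero_of_commute h2 hu hw
        · rw [← htu, ← hzw]
          intro h
          exact hzt (mat_injective h).symm
        · rw [← htu, ← hzw, ← mat_mul, ← mat_mul, htz.eq]
      have hvw : Cfsg.hermForm 3 F q v w = 0 := by
        apply hermForm_eq_zero_of_commute h2 hv hw
        · rw [← hxv, ← hzw]
          intro h
          exact hzx (mat_injective h).symm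
        · rw [← hxv, ← hzw, ← mat_mul, ← mat_mul, hxz.eq]
      apply mat_injective
      rw [mat_mul, htu, hxv, hzw, refl_mul_refl hF hu hv hw huv huw hvw]
    rw [key y hy1 hy2 hyt hyx hty hxy, key y' hy1' hy2' hyt' hyx' hty' hxy']
  · refine ⟨⟨t * x, ?_, ?_, ?_, ?_, ?_, ?_⟩⟩
    · intro h
      apply hxt
      have : x = t * (t * x) := by rw [← mul_assoc, ht2, one_mul]
      rw [this, h, mul_one]
    · have : t * x * (t * x) = t * (x * t) * x := by group
      rw [this, ← hc.eq, ← mul_assoc, ht2, one_mul, hx2]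
    · intro h
      apply hx
      have : x = t * (t * x) := by rw [← mul_assoc, ht2, one_mul]
      rw [this, h, ht2]
    · intro h
      apply ht
      have : t = (t * x) * x := by rw [mul_assoc, hx2, mul_one]
      rw [this, h, hx2]
    · exact (Commute.refl t).mul_right hc
    · exact hc.symm.mul_right (Commute.refl x)

/-- Let q be odd, F the field with q² elements and S = SU_3(F) (determinant-one isometries of the standard Hermitian form). Then all involutions of S are conjugate; there are exactly q²(q²−q+1) of them; the centralizer of an involution has order q(q+1)(q²−1), the order of the full unitary group of degree 2; and for two distinct commuting involutions t and x there is exactly one further involution commuting with both. -/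
theorem result {F : Type*} [Field F] [Fintype F] {q : ℕ} (hq : Odd q)
    (hF : Fintype.card F = q ^ 2) (t : ↥(Cfsg.SU 3 F q)) (ht : t ≠ 1) (ht2 : t * t = 1) :
    (∀ x : ↥(Cfsg.SU 3 F q), x ≠ 1 → x * x = 1 → ∃ g : ↥(Cfsg.SU 3 F q), g * t * g⁻¹ = x) ∧
    Nat.card {x : ↥(Cfsg.SU 3 F q) // x ≠ 1 ∧ x * x = 1} = q ^ 2 * (q ^ 2 - q + 1) ∧
    Nat.card ↥(Subgroup.centralizer ({t} : Set ↥(Cfsg.SU 3 F q))) = q * (q + 1) * (q ^ 2 - 1) ∧
    ∀ x : ↥(Cfsg.SU 3 F q), x ≠ 1 → x * x = 1 → x ≠ t → Commute t x →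
      Nat.card {y : ↥(Cfsg.SU 3 F q) // y ≠ 1 ∧ y * y = 1 ∧ y ≠ t ∧ y ≠ x ∧ Commute t y ∧ Commute x y} = 1 :=
  ⟨conj_all hF hq t ht ht2, card_invol hF hq, card_centralizer hF hq t ht ht2,
    fun x hx hx2 hxt hc => unique_third hF hq t ht ht2 x hx hx2 hxt hc⟩

end Cfsg.Agent.S2360
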