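import Cfsg.Statements.S0065

set_option autoImplicit false
open Cfsg

namespace Cfsg.Agent.S0065

/-- A nontrivial normal subgroup of a nilpotent group intersects the centre nontrivially. -/
theorem result {G : Type*} [Group G] [Finite G] [Group.IsNilpotent G]
    (N : Subgroup G) [N.Normal] (hN : N ≠ ⊥) : N ⊓ Subgroup.center G ≠ ⊥ := by
  classical
  have hex : ∃ n : ℕ, N ⊓ Subgroup.upperCentralSeries G n ≠ ⊥ := by
    obtain ⟨n, hn⟩ := Group.IsNilpotent.nilpotent (G := G)
    exact ⟨n, by rw [hn, inf_top_eq]; exact hN⟩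
  have hmin : ∀ m : ℕ, m < Nat.find hex → ¬ (N ⊓ Subgroup.upperCentralSeries G m ≠ ⊥) :=
    fun m hm => Nat.find_min hex hm
  have hspec := Nat.find_spec hex
  generalize Nat.find hex = n at hmin hspec
  cases n with
  | zero =>
    simp at hspec
  | succ m =>
    have hm : N ⊓ Subgroup.upperCentralSeries G m = ⊥ := by
      have := hmin m (by omega)
      simpa using this
    intro hbot
    apply hspec
    rw [eq_bot_iff, ← hbot]
    intro x hx
    obtain ⟨hxN, hxZ⟩ := Subgroup.mem_inf.mp hx
    refine Subgroup.mem_inf.mpr ⟨hxN, ?_⟩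
    rw [Subgroup.mem_center_iff]
    intro y
    have h1 := (Subgroup.mem_upperCentralSeries_succ_iff).mp hxZ y
    have h2 : x * y * x⁻¹ * y⁻¹ ∈ N := by
      have : y * x⁻¹ * y⁻¹ ∈ N := Subgroup.Normal.conj_mem inferInstance _ (N.inv_mem hxN) y
      have := N.mul_mem hxN this
      simpa [mul_assoc] using this
    have h3 : x * y * x⁻¹ * y⁻¹ ∈ N ⊓ Subgroup.upperCentralSeries G m :=
      Subgroup.mem_inf.mpr ⟨h2, h1⟩
    rw [hm, Subgroup.mem_bot] at h3
    have := congrArg (fun t => t * y * x) h3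
    simpa [mul_assoc] using this.symm

end Cfsg.Agent.S0065
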