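import Cfsg.Statements.S1500
import Cfsg.Agent.Lib.Helper25_DadeIso

set_option autoImplicit false
open Cfsg

namespace Cfsg.Agent.S1500

open Cfsg.Agent.Lib.Helper25_DadeIso

/-- Under the Dade hypothesis for (A, L, H), let α be a class function of L vanishing outside A. Then (i) for every class function β of L vanishing outside A, the inner product over G of the Dade images of α and β equals the inner product of α and β over L; and (ii) for every class function χ of G and every function ψ on L whose value at each a ∈ A is the average of χ over the coset a·H(a), the inner product over G of the Dade image of α with χ equals the inner product over L of α with ψ. -/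
theorem result {G : Type*} [Group G] [Fintype G] (A : Set G) (L : Subgroup G) [Fintype L] (H : G → Subgroup G) (hD : Cfsg.DadeHypothesis A L H) (α : L → ℂ) (hα : Cfsg.IsClassFunction L α) (hαA : ∀ x : L, (x : G) ∉ A → α x = 0) : (∀ β : L → ℂ, Cfsg.IsClassFunction L β → (∀ x : L, (x : G) ∉ A → β x = 0) → Cfsg.classInner (Cfsg.dadeIsometry A L H α) (Cfsg.dadeIsometry A L H β) = Cfsg.classInner α β) ∧ (∀ (χ : G → ℂ) (ψ : L → ℂ), Cfsg.IsClassFunction G χ → (∀ a : L, (a : G) ∈ A → ψ a = (Nat.card (H a) : ℂ)⁻¹ * ∑ᶠ u ∈ (H a : Set G), χ (a * u)) → Cfsg.classInner (Cfsg.dadeIsometry A L H α) χ = Cfsg.classInner α ψ) := by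
  classical
  constructor
  · intro β hβ _
    apply dade_inner A L H hD α hα hαA _ β (isClassFunction_dade A L H hD β hβ)
    intro a ha
    have h1 : ∀ u : G, Set.indicator (H (a : G) : Set G)
        (fun u => Cfsg.dadeIsometry A L H β ((a : G) * u)) u =
        Set.indicator (H (a : G) : Set G) (fun _ => β a) u := by
      intro u
      by_cases hu : u ∈ (H (a : G) : Set G)
      · rw [Set.indicator_of_mem hu, Set.indicator_of_mem hu]
        exact dade_apply A L H hD β hβ ((a : G) * u) a ha 1 u hu (by group)
      · rw [Set.indicator_of_notMem hu, Set.indicator_of_notMem hu]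
    rw [Finset.sum_congr rfl (fun u _ => h1 u)]
    have h2 : ∑ u : G, Set.indicator (H (a : G) : Set G) (fun _ => β a) u =
        (Nat.card (H (a : G)) : ℂ) * β a := by
      simp only [Set.indicator_apply]
      rw [Finset.sum_ite, Finset.sum_const_zero, add_zero, Finset.sum_const, nsmul_eq_mul]
      congr 2
      rw [Nat.card_eq_fintype_card, Fintype.card_subtype]
      rfl
    rw [h2]
    have hne : (Nat.card (H (a : G)) : ℂ) ≠ 0 := by
      exact_mod_cast (Nat.card_pos (α := H (a : G))).ne'
    field_simp
  · intro χ ψ hχ hψ
    apply dade_inner A L H hD α hα hαA χ ψ hχ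
    intro a ha
    rw [hψ a ha, finsum_mem_def, finsum_eq_sum_of_fintype]

end Cfsg.Agent.S1500
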