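import Cfsg.Statements.S5092
import Cfsg.Agent.Lib.Helper84_FusionAlperin
import Cfsg.Agent.Lib.Helper34_Sylow

set_option autoImplicit false
open Cfsg

namespace Cfsg.Agent.S5092

open scoped commutatorElement
open Cfsg.FusionSystem Cfsg.Agent.Lib.Helper85_Fusion Cfsg.Agent.Lib.Helper84_FusionRS
  Cfsg.Agent.Lib.Helper84_FusionAlperin Cfsg.Agent.Lib.Helper84_FusionSat

variable {Ω : Type*} [Group Ω] {S : Subgroup Ω}

/-- The subsystem of maps `φ` with `x⁻¹ φ(x) ∈ H` for all `x`, for a subgroup `H ≥ [S, S]`. -/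
def focalSystem (F : FusionSystem S) (H : Subgroup Ω) (hH : ⁅S, S⁆ ≤ H) : FusionSystem S where
  Hom P := {φ | φ ∈ F.Hom P ∧ ∀ x : P, (x : Ω)⁻¹ * φ x ∈ H}
  le_of_mem h := F.le_of_mem h.1
  injective_of_mem h := F.injective_of_mem h.1
  conj_mem := by
    intro P g hP hg
    refine ⟨F.conj_mem hP hg, fun x => hH ?_⟩
    have h1 : (x : Ω)⁻¹ * conjHom P g x = ⁅(x : Ω)⁻¹, g⁆ := by
      rw [conjHom_apply, commutatorElement_def, inv_inv]
      group
    rw [h1]
    exact Subgroup.commutator_mem_commutator (S.inv_mem (hP x.2)) hg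
  comp_mem := by
    rintro P Q φ ψ ⟨hφ, hφH⟩ ⟨hψ, hψH⟩ h
    refine ⟨F.comp_mem hφ hψ h, fun x => ?_⟩
    have h1 : (x : Ω)⁻¹ * (ψ.comp (φ.codRestrict Q h)) x =
        ((x : Ω)⁻¹ * φ x) * ((φ x)⁻¹ * ψ ⟨φ x, h x⟩) := by
      show (x : Ω)⁻¹ * ψ ⟨φ x, h x⟩ = _
      group
    rw [h1]
    exact H.mul_mem (hφH x) (hψH ⟨φ x, h x⟩)
  inv_mem := by
    rintro P φ ⟨hφ, hφH⟩
    obtain ⟨ψ, hψ, hψφ⟩ := F.inv_mem hφ
    refine ⟨ψ, ⟨hψ, ?_⟩, hψφ⟩
    rintro ⟨_, x, rfl⟩
    rw [hψφ x]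
    have : (φ x)⁻¹ * (x : Ω) = ((x : Ω)⁻¹ * φ x)⁻¹ := by group
    show (φ x)⁻¹ * (x : Ω) ∈ H
    rw [this]
    exact H.inv_mem (hφH x)

/-- For a saturated fusion system over a finite p-group S, the focal subgroup is the product of the hyperfocal subgroup and the derived subgroup of S. -/
theorem result {Ω : Type*} [Group Ω] {S : Subgroup Ω} [Finite S] (p : ℕ) [Fact p.Prime] (hS : IsPGroup p S) (F : Cfsg.FusionSystem S) (hF : F.IsSaturated p) : F.focalSubgroup = F.hyperfocalSubgroup p ⊔ ⁅(S : Subgroup Ω), (S : Subgroup Ω)⁆ := by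
  apply le_antisymm
  · -- focal ≤ hyperfocal ⊔ [S,S]
    set H := F.hyperfocalSubgroup p ⊔ ⁅(S : Subgroup Ω), (S : Subgroup Ω)⁆ with hHdef
    have hle : F ≤ focalSystem F H le_sup_right := by
      apply le_of_autGroup_le hS F hF
      intro R hRn α hα
      have hRS : R ≤ S := hRn.1
      have : Finite R := finite_of_le_S hRS
      rw [mem_autGroup_iff _ hRS]
      refine ⟨(mem_autGroup_iff F hRS α).1 hα, fun x => ?_⟩
      -- decompose α = γ β with γ ∈ Aut_S(R), β ∈ O^p(Aut_F(R))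
      obtain ⟨-, T₀, hT₀⟩ := IsSaturated.isFullyAutomized hS hF hRn
      obtain ⟨r, hr, m, hm, hrm⟩ := Cfsg.Agent.Lib.Helper34_Sylow.exists_mul_pResidual
        (T₀ : Subgroup (F.autGroup R)) T₀.not_dvd_index ⟨α, hα⟩
      have hrS : (r : MulAut R) ∈ autInducedBy S R := by
        have : r ∈ (autInducedBy S R).subgroupOf (F.autGroup R) := hT₀ ▸ hr
        exact Subgroup.mem_subgroupOf.1 this
      obtain ⟨s, hsS, hs⟩ := (mem_autInducedBy_iff S R _).1 hrS
      have hα_eq : α = (r : MulAut R) * (m : MulAut R) := congrArg Subtype.val hrm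
      show (x : Ω)⁻¹ * ((α x : R) : Ω) ∈ H
      have e1 : (x : Ω)⁻¹ * ((α x : R) : Ω) =
          ((x : Ω)⁻¹ * (((m : MulAut R) x : R) : Ω)) *
            ((((m : MulAut R) x : R) : Ω)⁻¹ * (((r : MulAut R) ((m : MulAut R) x) : R) : Ω)) := by
        rw [hα_eq, MulAut.mul_apply]
        group
      rw [e1]
      apply H.mul_mem
      · apply Subgroup.mem_sup_left
        apply Subgroup.subset_closure
        exact ⟨R, m, x, hRS, hm, rfl⟩
      · apply Subgroup.mem_sup_right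
        rw [hs]
        have h1 : ((((m : MulAut R) x : R) : Ω))⁻¹ * (s * (((m : MulAut R) x : R) : Ω) * s⁻¹) =
            ⁅((((m : MulAut R) x : R) : Ω))⁻¹, s⁆ := by
          rw [commutatorElement_def, inv_inv]
          group
        rw [h1]
        exact Subgroup.commutator_mem_commutator (S.inv_mem (hRS ((m : MulAut R) x).2)) hsS
    unfold focalSubgroup
    rw [Subgroup.closure_le]
    rintro y ⟨P, φ, x, hφ, rfl⟩
    exact (hle P hφ).2 x
  · apply sup_le
    · unfold hyperfocalSubgroup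
      rw [Subgroup.closure_le]
      rintro y ⟨P, α, x, hPS, -, rfl⟩
      apply Subgroup.subset_closure
      exact ⟨P, _, x, (mem_autGroup_iff F hPS α).1 α.2, rfl⟩
    · rw [Subgroup.commutator_le]
      intro a ha b hb
      apply Subgroup.subset_closure
      refine ⟨S, conjHom S b, ⟨a⁻¹, S.inv_mem ha⟩, F.conj_mem le_rfl hb, ?_⟩
      rw [conjHom_apply, commutatorElement_def]
      simp only [inv_inv]
      group

end Cfsg.Agent.S5092
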