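import Cfsg.Statements.S5104
import Cfsg.Agent.Lib.Helper84_FusionRS

set_option autoImplicit false
open Cfsg

namespace Cfsg.Agent.S5104

open Cfsg.FusionSystem Cfsg.Agent.Lib.Helper85_Fusion

/-- In a saturated fusion system over a finite p-group S, a fully centralized subgroup U with C_S(U) ≤ U is centric. -/
theorem result {Ω : Type*} [Group Ω] {S : Subgroup Ω} [Finite S] (p : ℕ) [Fact p.Prime] (hS : IsPGroup p S) (F : Cfsg.FusionSystem S) (hF : F.IsSaturated p) (U : Subgroup Ω) (hU : F.IsFullyCentralized U) (hC : Cfsg.FusionSystem.centralizerIn S U ≤ U) : F.IsCentric U := by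
  have hrec : F.IsReceptive U := Cfsg.Agent.Lib.Helper84_FusionRS.IsSaturated.isReceptive hS hF hU
  refine ⟨hU.1, fun Q hQ => ?_⟩
  obtain ⟨φ, hφ, hr⟩ := isConj_symm F hQ
  obtain ⟨ψ, hψ, hext⟩ := hrec.2 Q φ hφ hr
  have hQS : Q ≤ S := source_le F hφ
  have hQN : Q ≤ extender S Q φ :=
    Cfsg.Agent.Lib.Helper84_Fusion.le_extender S Q φ hQS (apply_mem F hφ)
  intro c hc
  have hcN : c ∈ extender S Q φ := Cfsg.Agent.Lib.Helper84_Fusion.centralizerIn_le_extender S Q φ hc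
  have hψc : ψ ⟨c, hcN⟩ ∈ centralizerIn S U := by
    refine ⟨apply_mem F hψ _, ?_⟩
    show ψ ⟨c, hcN⟩ ∈ Subgroup.centralizer (U : Set Ω)
    rw [Subgroup.mem_centralizer_iff]
    intro u hu
    rw [← hr] at hu
    obtain ⟨q, rfl⟩ := hu
    rw [← hext q q.2 (hQN q.2), ← map_mul, ← map_mul]
    congr 1
    apply Subtype.ext
    exact (Subgroup.mem_centralizer_iff.1 hc.2) q q.2
  have hψcU : ψ ⟨c, hcN⟩ ∈ U := hC hψc
  rw [← hr] at hψcU
  obtain ⟨q, hq⟩ := hψcU
  rw [← hext q q.2 (hQN q.2)] at hq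
  have := F.injective_of_mem hψ hq
  have h2 : (q : Ω) = c := congrArg Subtype.val this
  rw [← h2]
  exact q.2

end Cfsg.Agent.S5104
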