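-- Statement S5110: saturation criterion of Broto–Castellana–Grodal–Levi–Oliver (helper85).
import Cfsg.Statements.S5110
import Cfsg.Agent.Lib.Helper85_SatCrit12

set_option autoImplicit false
open Cfsg

namespace Cfsg.Agent.S5110

open Cfsg.Agent.Lib.Helper85_SatCrit12 Cfsg.Agent.Lib.Helper84_Fusion

/-- Induction on the number of subgroups of `S` outside `ℋ`: enlarge `ℋ` by one conjugacy class of maximal
order at a time. -/
theorem aux {Ω : Type*} [Group Ω] {S : Subgroup Ω} [Finite S] (p : ℕ) [Fact p.Prime]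
    (hS : IsPGroup p S) (F : Cfsg.FusionSystem S) :
    ∀ (n : ℕ) (ℋ : Set (Subgroup Ω)), Set.ncard {P : Subgroup Ω | P ≤ S ∧ P ∉ ℋ} = n →
      (∀ P ∈ ℋ, ∀ Q, F.IsConj P Q → Q ∈ ℋ) →
      (∀ P ∈ ℋ, ∃ Q, F.IsConj P Q ∧ F.IsFullyAutomized p Q ∧ F.IsReceptive Q) →
      (∀ E : Cfsg.FusionSystem S, (∀ P ∈ ℋ, F.Hom P ⊆ E.Hom P) → F ≤ E) →
      (∀ P : Subgroup Ω, F.IsCentric P → P ∉ ℋ → ∃ Q, F.IsConj P Q ∧
        ¬ (Cfsg.autInducedBy S Q ⊓ (Cfsg.pCore p ↥(F.autGroup Q)).map (F.autGroup Q).subtype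
          ≤ Cfsg.Inn Q)) →
      F.IsSaturated p := by
  intro n
  induction n using Nat.strong_induction_on with
  | _ n ih =>
  intro ℋ hn hℋconj hsat hgen hstar
  have hfin : {P : Subgroup Ω | P ≤ S ∧ P ∉ ℋ}.Finite :=
    (Cfsg.Agent.Lib.Helper85_Fusion.finite_subgroups_le S).subset (fun P hP => hP.1)
  by_cases hempty : {P : Subgroup Ω | P ≤ S ∧ P ∉ ℋ} = ∅
  · intro P hP
    have hPℋ : P ∈ ℋ := by
      by_contra h
      have hmem : P ∈ {P : Subgroup Ω | P ≤ S ∧ P ∉ ℋ} := ⟨hP, h⟩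
      rw [hempty] at hmem
      exact hmem
    exact hsat P hPℋ
  · have hne : {P : Subgroup Ω | P ≤ S ∧ P ∉ ℋ}.Nonempty := Set.nonempty_iff_ne_empty.2 hempty
    obtain ⟨P₁, hP₁, hP₁max⟩ :=
      Set.exists_max_image _ (fun P : Subgroup Ω => Nat.card P) hfin hne
    have hmax : ∀ R, R ≤ S → Nat.card P₁ < Nat.card R → R ∈ ℋ := by
      intro R hR hlt
      by_contra h
      exact absurd (hP₁max R ⟨hR, h⟩) (not_le.2 hlt)
    obtain ⟨Q₁, hQ₁, hQ₁fa, hQ₁rec⟩ :=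
      class_step hS F ℋ hℋconj hsat hgen hstar hP₁.1 hP₁.2 hmax
    refine ih _ ?_ (ℋ ∪ {Q | F.IsConj P₁ Q}) rfl ?_ ?_ ?_ ?_
    · rw [← hn]
      apply Set.ncard_lt_ncard _ hfin
      refine ⟨fun P hP => ⟨hP.1, fun h => hP.2 (Or.inl h)⟩, fun hsub => ?_⟩
      have h1 := hsub hP₁
      exact h1.2 (Or.inr (isConj_refl F hP₁.1))
    · rintro P (hP | hP) Q hQ
      · exact Or.inl (hℋconj P hP Q hQ)
      · exact Or.inr (isConj_trans F hP hQ)
    · rintro P (hP | hP)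
      · exact hsat P hP
      · exact ⟨Q₁, isConj_trans F (isConj_symm F hP) hQ₁, hQ₁fa, hQ₁rec⟩
    · intro E hE
      exact hgen E (fun P hP => hE P (Or.inl hP))
    · intro P hc hP
      exact hstar P hc (fun h => hP (Or.inl h))

/-- Saturation criterion: let F be a fusion system over a finite p-group S and H a family of subgroups of S closed under conjugacy in F, such that every conjugacy class inside H contains a fully automized receptive member, F is the smallest fusion system over S containing all its maps with source in H, and every centric subgroup outside H is conjugate in F to some P for which Aut_S(P) ∩ O_p(Aut_F(P)) is not contained in Inn(P). Then F is saturated. -/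
theorem result {Ω : Type*} [Group Ω] {S : Subgroup Ω} [Finite S] (p : ℕ) [Fact p.Prime] (hS : IsPGroup p S) (F : Cfsg.FusionSystem S) (ℋ : Set (Subgroup Ω)) (hℋS : ∀ P ∈ ℋ, P ≤ S) (hℋconj : ∀ P ∈ ℋ, ∀ Q, F.IsConj P Q → Q ∈ ℋ) (hsat : ∀ P ∈ ℋ, ∃ Q, F.IsConj P Q ∧ F.IsFullyAutomized p Q ∧ F.IsReceptive Q) (hgen : ∀ E : Cfsg.FusionSystem S, (∀ P ∈ ℋ, F.Hom P ⊆ E.Hom P) → F ≤ E) (hstar : ∀ P : Subgroup Ω, F.IsCentric P → P ∉ ℋ → ∃ Q, F.IsConj P Q ∧ ¬ (Cfsg.autInducedBy S Q ⊓ (Cfsg.pCore p ↥(F.autGroup Q)).map (F.autGroup Q).subtype ≤ Cfsg.Inn Q)) : F.IsSaturated p := by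
  exact aux p hS F _ ℋ rfl hℋconj hsat hgen hstar

end Cfsg.Agent.S5110
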