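import Cfsg.Statements.S5291
import Cfsg.Agent.Lib.Helper88_Invariant

set_option autoImplicit false
open Cfsg

namespace Cfsg.Agent.S5291

open Cfsg.FusionSystem Cfsg.Agent.Lib.Helper87_Alperin Cfsg.Agent.Lib.Helper88_Centric
  Cfsg.Agent.Lib.Helper88_Centric2 Cfsg.Agent.Lib.Helper88_Invariant

/-- Let F be a saturated fusion system over a finite p-group S and E a weakly normal subsystem of F over a subgroup T. Suppose a subgroup R of T is normal in E (E = N_E(R)), and let R* be the subgroup of T generated by the images of R under all maps of F with source R. Then R* is normal in F (F = N_F(R*)). -/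
theorem result {Ω : Type*} [Group Ω] {S : Subgroup Ω} [Finite S] (p : ℕ) [Fact p.Prime] (hS : IsPGroup p S)
    (F : Cfsg.FusionSystem S) (hF : F.IsSaturated p)
    {T : Subgroup Ω} (E : Cfsg.FusionSystem T) (hE : E.IsWeaklyNormalIn F p)
    (R : Subgroup Ω) (hR : E.IsNormal R) :
    F.IsNormal (Subgroup.closure {x : Ω | ∃ φ ∈ F.Hom R, ∃ r : R, x = φ r}) := by
  obtain ⟨hEsat, -, hEF⟩ := hE
  obtain ⟨hsub, hsc, hinvc, hfr⟩ := hEF
  have hTS : T ≤ S := hsc.1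
  have hfinT : Finite T := Finite.of_injective (Subgroup.inclusion hTS) (Subgroup.inclusion_injective hTS)
  have hRT : R ≤ T := hR.1
  have hRS : R ≤ S := hRT.trans hTS
  have hRsc : E.StronglyClosed R := Cfsg.Agent.Lib.Helper85_FusionNormal.stronglyClosed_of_isNormal hR
  -- the family of images of `R` under `Aut_F(T)`
  set 𝒩 : Set (Subgroup Ω) := {N | ∃ α ∈ F.autGroup T, IsImage R (extFun α) N} with h𝒩
  have h𝒩T : ∀ N ∈ 𝒩, N ≤ T := by
    rintro N ⟨α, -, hN⟩ y hy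
    obtain ⟨x, hx, rfl⟩ := (hN y).1 hy
    exact extFun_mem α (hRT hx)
  have h𝒩fin : 𝒩.Finite := (Cfsg.Agent.Lib.Helper85_Fusion.finite_subgroups_le T).subset h𝒩T
  have hnormal : E.IsNormal (sSup 𝒩) := by
    refine Cfsg.Agent.Lib.Helper85_Fusion.sSup_induction_of_finite (fun Q => E.IsNormal Q) 𝒩 h𝒩fin
      (Cfsg.Agent.Lib.Helper85_Fusion.isNormal_bot E)
      (fun a b ha hb => Cfsg.Agent.Lib.Helper85_Fusion.isNormal_sup E ha hb) ?_
    rintro N ⟨α, hα, hN⟩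
    exact isNormal_transport hS hEsat hTS ⟨hsub, hsc, hinvc, hfr⟩ hα hR hN
  -- the subgroup of the statement is the join of the family
  have heq : Subgroup.closure {x : Ω | ∃ φ ∈ F.Hom R, ∃ r : R, x = φ r} = sSup 𝒩 := by
    apply le_antisymm
    · rw [Subgroup.closure_le]
      rintro x ⟨φ, hφ, r, rfl⟩
      obtain ⟨α, hα, φ₀, hφ₀, hφα⟩ := hfr R hRT φ hφ
      have hr : φ₀ r ∈ R := hRsc.2 R le_rfl φ₀ hφ₀ r
      obtain ⟨N, hN, -⟩ := exists_isImage ((isMapOn_extFun hTS hα).mono hRT)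
      have hN𝒩 : N ∈ 𝒩 := ⟨α, hα, hN⟩
      apply le_sSup hN𝒩
      rw [hφα r (hRT hr), ← extFun_apply α (hRT hr)]
      exact hN.mem hr
    · apply sSup_le
      rintro N ⟨α, hα, hN⟩ y hy
      obtain ⟨x, hx, rfl⟩ := (hN y).1 hy
      obtain ⟨φ, hφ, hφα⟩ := (isMapOn_extFun hTS hα).mono hRT
      exact Subgroup.subset_closure ⟨φ, hφ, ⟨x, hx⟩, (hφα ⟨x, hx⟩).symm⟩
  obtain ⟨N, hNdef⟩ : ∃ N : Subgroup Ω, N = sSup 𝒩 := ⟨_, rfl⟩
  rw [heq, ← hNdef]
  rw [← hNdef] at hnormal heq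
  have hNT : N ≤ T := hnormal.1
  have hNS : N ≤ S := hNT.trans hTS
  -- invariance of `N` under `Aut_F(T)`
  have hNinv : ∀ α ∈ F.autGroup T, ∀ x ∈ N, extFun α x ∈ N := by
    intro α hα x hx
    have hle : Subgroup.closure {x : Ω | ∃ φ ∈ F.Hom R, ∃ r : R, x = φ r} ≤
        ((N.subgroupOf T).comap α.toMonoidHom).map T.subtype := by
      rw [Subgroup.closure_le]
      rintro x ⟨φ, hφ, r, rfl⟩
      have hxT : φ r ∈ T := hsc.2 R hRT φ hφ r
      refine ⟨⟨φ r, hxT⟩, ?_, rfl⟩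
      rw [SetLike.mem_coe, Subgroup.mem_comap, Subgroup.mem_subgroupOf, ← heq]
      have hcomp : IsMapOn F R (extFun α ∘ extHom φ) :=
        (isMapOn_extHom F hφ).comp (isMapOn_extFun hTS hα) (fun y hy => by
          rw [extHom_apply φ hy]
          exact hsc.2 R hRT φ hφ _)
      obtain ⟨ψ, hψ, hψc⟩ := hcomp
      refine Subgroup.subset_closure ⟨ψ, hψ, r, ?_⟩
      rw [hψc r, Function.comp_apply, extHom_coe, extFun_apply α hxT]
      rfl
    rw [← heq] at hx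
    obtain ⟨z, hz, rfl⟩ := hle hx
    rw [SetLike.mem_coe, Subgroup.mem_comap, Subgroup.mem_subgroupOf] at hz
    rw [Subgroup.coe_subtype, extFun_coe]
    exact hz
  -- conclusion via the extension criterion
  rw [Cfsg.Agent.S5106.result p hS F hF N hNS]
  intro P hPN φ hφ
  obtain ⟨α, hα, φ₀, hφ₀, hφα⟩ := hfr P (hPN.trans hNT) φ hφ
  obtain ⟨β, hβ, hβφ₀⟩ := Cfsg.Agent.Lib.Helper85_FusionNormal.exists_aut_of_isNormal hnormal hPN hφ₀
  have hβE : IsMapOn E N (extFun β) := (mem_autGroup_iff E hNT β).1 hβ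
  have hβF : IsMapOn F N (extFun β) := by
    obtain ⟨χ, hχ, h⟩ := hβE
    exact ⟨χ, hsub N hχ, h⟩
  have hcomp : IsMapOn F N (extFun α ∘ extFun β) :=
    hβF.comp (isMapOn_extFun hTS hα) (fun x hx => hNT (extFun_mem β hx))
  obtain ⟨γ, hγ, hγc⟩ := exists_aut_of_isMapOn hcomp (fun x hx => hNinv α hα _ (extFun_mem β hx))
  refine ⟨γ, hγ, fun x => ?_⟩
  have hxN : (x : Ω) ∈ N := hPN x.2
  have h1 : ((β ⟨(x : Ω), hxN⟩ : N) : Ω) = φ₀ x := hβφ₀ x
  have h2 : φ₀ x ∈ T := by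
    rw [← h1]
    exact hNT (β _).2
  show ((γ ⟨(x : Ω), hxN⟩ : N) : Ω) = φ x
  rw [hγc, hφα x h2]
  show extFun α (extFun β (x : Ω)) = _
  rw [extFun_apply β hxN, h1, extFun_apply α h2]

end Cfsg.Agent.S5291
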