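import Cfsg.Statements.S5121
import Cfsg.Agent.Lib.Helper85_ConstrainedNormal4

set_option autoImplicit false
open Cfsg

namespace Cfsg.Agent.S5121

open Cfsg.FusionSystem Cfsg.Agent.Lib.Helper87_Alperin Cfsg.Agent.Lib.Helper88_Centric
  Cfsg.Agent.Lib.Helper85_ConstrainedNormal Cfsg.Agent.Lib.Helper85_GroupFusion

variable {G : Type*} [Group G] [Finite G] {p : ℕ} [Fact p.Prime] {S : Sylow p G} {T : Subgroup G}
  {E : FusionSystem T}

/-- A normal subgroup of `G` having `T` as a Sylow `p`-subgroup meets `O_p(G)` inside `T`. -/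
theorem inf_Q_le_T {H₁ : Subgroup G} (hn : H₁.Normal) (hsyl : IsSylowIn p T H₁) :
    H₁ ⊓ pCore p G ≤ T := by
  have hp : IsPGroup p ↥(H₁ ⊓ pCore p G) := (Lib.Helper1_Cores.pCore_isPGroup p).to_le inf_le_right
  obtain ⟨k, -, hk⟩ := hsyl.exists_conj_le (inf_le_left : H₁ ⊓ pCore p G ≤ H₁) hp
  intro y hy
  have hy' : k⁻¹ * y * k ∈ H₁ ⊓ pCore p G := by
    obtain ⟨h1, h2⟩ := Subgroup.mem_inf.1 hy
    refine Subgroup.mem_inf.2 ⟨?_, Q_conj' h2⟩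
    have := hn.conj_mem y h1 k⁻¹
    rwa [inv_inv] at this
  have h3 : k * (k⁻¹ * y * k) * k⁻¹ ∈ T := hk (conj_mem_conjSub hy')
  have e : k * (k⁻¹ * y * k) * k⁻¹ = y := by group
  rwa [e] at h3

/-- Elements of such a normal subgroup centralize `Q/Q₀`. -/
theorem inC_of_mem {H₁ : Subgroup G} (hn : H₁.Normal) (hsyl : IsSylowIn p T H₁) {x : G} (hx : x ∈ H₁) :
    InCQ p T x := by
  intro q hq
  have h1 : x * q * x⁻¹ * q⁻¹ ∈ H₁ := by
    have e : x * q * x⁻¹ * q⁻¹ = x * (q * x⁻¹ * q⁻¹) := by group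
    rw [e]
    exact H₁.mul_mem hx (hn.conj_mem _ (H₁.inv_mem hx) q)
  have h2 : x * q * x⁻¹ * q⁻¹ ∈ pCore p G := Subgroup.mul_mem _ (Q_conj hq) (Subgroup.inv_mem _ hq)
  exact Subgroup.mem_inf.2 ⟨inf_Q_le_T hn hsyl (Subgroup.mem_inf.2 ⟨h1, h2⟩), h2⟩

/-- Uniqueness, one inclusion: if the fusion system of `H₂` on `T` is contained in that of `H₁` (on the
subgroup `Q₀`), then `H₂ ≤ H₁`. -/
theorem le_of_hom_le (h : Setting p S T E) {H₁ H₂ : Subgroup G} (hn₁ : H₁.Normal) (hn₂ : H₂.Normal)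
    (hT₁ : T ≤ H₁) (hT₂ : T ≤ H₂) (hs₁ : IsSylowIn p T H₁) (hs₂ : IsSylowIn p T H₂)
    (hle : ∀ f : G → G, IsMapOn (fusionSystemOfSubgroup H₂ T hT₂) (T ⊓ pCore p G) f →
      IsMapOn (fusionSystemOfSubgroup H₁ T hT₁) (T ⊓ pCore p G) f) : H₂ ≤ H₁ := by
  -- every element of `H₂` is an element of `H₁` times an element of `W`
  have hkey : ∀ x ∈ H₂, ∃ x₁ ∈ H₁, x₁⁻¹ * x ∈ h.W := by
    intro x hx
    have hm : IsMapOn (fusionSystemOfSubgroup H₂ T hT₂) (T ⊓ pCore p G) (fun y => x * y * x⁻¹) :=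
      (isMapOn_subgroup_iff hT₂).2 ⟨inf_le_left, x, hx, fun y hy =>
        ⟨rfl, (Subgroup.mem_inf.1 (h.Q0_conj hy)).1⟩⟩
    obtain ⟨-, x₁, hx₁, hx₁x⟩ := (isMapOn_subgroup_iff hT₁).1 (hle _ hm)
    refine ⟨x₁, hx₁, h.inC_mul (h.inC_inv (inC_of_mem hn₁ hs₁ hx₁)) (inC_of_mem hn₂ hs₂ hx), fun y hy => ?_⟩
    have h1 : x * y * x⁻¹ = x₁ * y * x₁⁻¹ := (hx₁x y hy).1
    calc x₁⁻¹ * x * y * (x₁⁻¹ * x)⁻¹ = x₁⁻¹ * (x * y * x⁻¹) * x₁ := by group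
      _ = x₁⁻¹ * (x₁ * y * x₁⁻¹) * x₁ := by rw [h1]
      _ = y := by group
  intro x hx
  obtain ⟨i, j, hij, ⟨k, hik⟩, hjcop⟩ := exists_pow_decomp (p := p) x (orderOf_pos x).ne'
  rw [hij]
  apply H₁.mul_mem
  · -- the `p`-part is conjugate into `T`
    have hz : x ^ i ∈ H₂ := H₂.pow_mem hx i
    have hzp : IsPGroup p (Subgroup.zpowers (x ^ i)) := by
      rintro ⟨γ, hγ⟩
      obtain ⟨n, rfl⟩ := Subgroup.mem_zpowers_iff.1 hγ
      refine ⟨k, Subtype.ext ?_⟩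
      show ((x ^ i) ^ n) ^ p ^ k = 1
      rw [← zpow_natCast, ← zpow_mul, mul_comm, zpow_mul, zpow_natCast, hik, one_zpow]
    obtain ⟨c, hc, hcz⟩ := hs₂.exists_conj_le ((Subgroup.zpowers_le).2 hz) hzp
    have h1 : c * x ^ i * c⁻¹ ∈ H₁ := hT₁ (hcz (conj_mem_conjSub (Subgroup.mem_zpowers _)))
    have h2 := hn₁.conj_mem _ h1 c⁻¹
    have e : c⁻¹ * (c * x ^ i * c⁻¹) * c⁻¹⁻¹ = x ^ i := by group
    rwa [e] at h2
  · -- the `p'`-part lies in `H₁ W`, and `W` is a `p`-group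
    obtain ⟨y₁, hy₁, hd⟩ := hkey _ (H₂.pow_mem hx j)
    obtain ⟨k', hk'⟩ := h.W_isPGroup ⟨_, hd⟩
    have hk'' : (y₁⁻¹ * x ^ j) ^ p ^ k' = 1 := by
      have := congrArg Subtype.val hk'
      simpa using this
    have := hn₁
    have e1 : (QuotientGroup.mk (x ^ j) : G ⧸ H₁) = QuotientGroup.mk (y₁⁻¹ * x ^ j) := by
      rw [QuotientGroup.mk_mul, QuotientGroup.mk_inv, (QuotientGroup.eq_one_iff y₁).2 hy₁]
      simp
    have e2 : (QuotientGroup.mk (x ^ j) : G ⧸ H₁) ^ p ^ k' = 1 := by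
      rw [e1, ← QuotientGroup.mk_pow, hk'']
      rfl
    have e3 : (QuotientGroup.mk (x ^ j) : G ⧸ H₁) ^ orderOf (x ^ j) = 1 := by
      rw [← QuotientGroup.mk_pow, pow_orderOf_eq_one]
      rfl
    have h5 : orderOf (QuotientGroup.mk (x ^ j) : G ⧸ H₁) = 1 :=
      Nat.eq_one_of_dvd_coprimes (hjcop.pow_right k') (orderOf_dvd_of_pow_eq_one e3)
        (orderOf_dvd_of_pow_eq_one e2)
    exact (QuotientGroup.eq_one_iff _).1 (orderOf_eq_one_iff.1 h5)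

/-- Let G be a finite group with Sylow p-subgroup S and C_G(O_p(G)) ≤ O_p(G). For every subgroup T ≤ S and every normal subsystem E over T of the fusion system of G on S there is exactly one normal subgroup H of G containing T as a Sylow p-subgroup whose fusion system on T is E. -/
theorem result {G : Type*} [Group G] [Finite G] (p : ℕ) [Fact p.Prime] (S : Sylow p G) (hG : Subgroup.centralizer ((Cfsg.pCore p G : Subgroup G) : Set G) ≤ Cfsg.pCore p G) (T : Subgroup G) (hTS : T ≤ S) (E : Cfsg.FusionSystem T) (hE : E.IsNormalIn (Cfsg.groupFusionSystem (S : Subgroup G)) p) : ∃ H : Subgroup G, (∃ hTH : T ≤ H, H.Normal ∧ (∃ R : Sylow p H, (R : Subgroup H) = T.subgroupOf H) ∧ ∀ P : Subgroup G, E.Hom P = (Cfsg.fusionSystemOfSubgroup H T hTH).Hom P) ∧ ∀ H' : Subgroup G, (∃ hTH' : T ≤ H', H'.Normal ∧ (∃ R : Sylow p H', (R : Subgroup H') = T.subgroupOf H') ∧ ∀ P : Subgroup G, E.Hom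 P = (Cfsg.fusionSystemOfSubgroup H' T hTH').Hom P) → H' = H := by
  have h : Setting p S T E := ⟨hG, hTS, hE⟩
  refine ⟨h.H, ⟨h.T_le_H, h.H_normal, h.isSylowIn_T_H, h.hom_eq⟩, ?_⟩
  rintro H' ⟨hTH', hn', hs', hhom'⟩
  have key : ∀ (H₁ H₂ : Subgroup G) (hT₁ : T ≤ H₁) (hT₂ : T ≤ H₂),
      (∀ P : Subgroup G, E.Hom P = (fusionSystemOfSubgroup H₁ T hT₁).Hom P) →
      (∀ P : Subgroup G, E.Hom P = (fusionSystemOfSubgroup H₂ T hT₂).Hom P) →
      ∀ f : G → G, IsMapOn (fusionSystemOfSubgroup H₂ T hT₂) (T ⊓ pCore p G) f →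
        IsMapOn (fusionSystemOfSubgroup H₁ T hT₁) (T ⊓ pCore p G) f := by
    intro H₁ H₂ hT₁ hT₂ h₁ h₂ f hf
    unfold IsMapOn at hf ⊢
    rw [← h₁]
    rw [← h₂] at hf
    exact hf
  apply le_antisymm
  · exact le_of_hom_le h h.H_normal hn' h.T_le_H hTH' h.isSylowIn_T_H hs'
      (key _ _ h.T_le_H hTH' h.hom_eq hhom')
  · exact le_of_hom_le h hn' h.H_normal hTH' h.T_le_H hs' h.isSylowIn_T_H
      (key _ _ hTH' h.T_le_H hhom' h.hom_eq)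

end Cfsg.Agent.S5121
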