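import Cfsg.Statements.S5099
import Cfsg.Agent.Lib.Helper84_KNormalizer5

set_option autoImplicit false
open Cfsg

namespace Cfsg.Agent.S5099

open Cfsg.FusionSystem Cfsg.Agent.Lib.Helper85_Fusion Cfsg.Agent.Lib.Helper84_FusionSat
  Cfsg.Agent.Lib.Helper84_FusionRS Cfsg.Agent.Lib.Helper84_FusionAlperin
  Cfsg.Agent.Lib.Helper84_KNormalizer

/-- For `K = ⊥` the `K`-normalizer is the centralizer. -/
theorem NK_bot {Ω : Type*} [Group Ω] {S : Subgroup Ω} {Q : Subgroup Ω}
    (φ : Q →* Ω) : NK S Q ⊥ φ = centralizerIn S φ.range := by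
  apply le_antisymm
  · rintro g ⟨hgS, κ, hκ, hg⟩
    rw [Subgroup.mem_bot] at hκ
    subst hκ
    refine ⟨hgS, ?_⟩
    rintro _ ⟨x, rfl⟩
    have := hg x
    rw [MulAut.one_apply] at this
    calc φ x * g = (g * φ x * g⁻¹) * g := by rw [this]
      _ = g * φ x := by group
  · exact centralizerIn_le_NK Q ⊥ φ

/-- If F is a saturated fusion system over a finite p-group S and Q is fully centralized in F, then the centralizer system C_F(Q) is a saturated fusion system over C_S(Q). -/
theorem result {Ω : Type*} [Group Ω] {S : Subgroup Ω} [Finite S] (p : ℕ) [Fact p.Prime] (hS : IsPGroup p S) (F : Cfsg.FusionSystem S) (hF : F.IsSaturated p) (Q : Subgroup Ω) (hQ : F.IsFullyCentralized Q) (E : Cfsg.FusionSystem (Cfsg.FusionSystem.centralizerIn S Q)) (hE : F.IsCentralizerSystem Q E) : E.IsSaturated p := by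
  have hQS : Q ≤ S := hQ.1
  apply isSaturated_of_isKNormalizerSystem (K := (⊥ : Subgroup (MulAut Q))) hS hF hQS
  · intro φ hφ
    rw [NK_bot φ, NK_bot Q.subtype, Subgroup.range_subtype]
    exact hQ.2 φ.range ⟨φ, hφ, rfl⟩
  · constructor
    · intro g
      constructor
      · rintro ⟨hgS, hgC⟩
        refine ⟨hgS, 1, Subgroup.one_mem _, fun x => ?_⟩
        have := hgC x x.2
        rw [MulAut.one_apply, ← this]
        group
      · rintro ⟨hgS, κ, hκ, hg⟩
        rw [Subgroup.mem_bot] at hκ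
        subst hκ
        refine ⟨hgS, ?_⟩
        intro x hx
        have := hg ⟨x, hx⟩
        rw [MulAut.one_apply] at this
        simp only at this
        calc x * g = (g * x * g⁻¹) * g := by rw [this]
          _ = g * x := by group
    · intro P φ
      rw [hE P]
      constructor
      · rintro ⟨hφ, hPN, hφN, ψ, hψ, hext, hfix⟩
        exact ⟨hφ, hPN, hφN, ψ, hψ, hext, 1, Subgroup.one_mem _, hfix⟩
      · rintro ⟨hφ, hPN, hφN, ψ, hψ, hext, κ, hκ, hfix⟩
        rw [Subgroup.mem_bot] at hκ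
        subst hκ
        exact ⟨hφ, hPN, hφN, ψ, hψ, hext, hfix⟩

end Cfsg.Agent.S5099
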