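import Cfsg.Statements.S1949
import Cfsg.Agent.Lib.Helper33_Critical
import Cfsg.Agent.Lib.Helper2_PResidual

set_option autoImplicit false
open Cfsg

namespace Cfsg.Agent.S1949

open Cfsg.Agent.Lib.Helper33_Critical Cfsg.Agent.Lib.Helper2_PResidual

/-- Let P be a finite p-group and G a group of automorphisms of P containing the inner automorphisms. Then there is a G-invariant subgroup D of P, contained in the subgroup generated by the elements x⁻¹α(x) with x in P and α in O^p(G), of exponent dividing p when p is odd and dividing 4 when p = 2, with [D, P] ≤ Z(D), such that every automorphism in G of order prime to p that fixes D elementwise is the identity; moreover every maximal abelian subgroup A of D is normal in P and every automorphism in G fixing A elementwise has p-power order. -/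
theorem result {P : Type*} [Group P] [Finite P] {p : ℕ} [Fact p.Prime] (hP : IsPGroup p P)
    (G : Subgroup (MulAut P)) (hG : Cfsg.Inn P ≤ G) :
    ∃ D : Subgroup P,
      (∀ α ∈ G, D.map α.toMonoidHom = D) ∧
      D ≤ Subgroup.closure {y : P | ∃ α ∈ Cfsg.pResidual p ↥G, ∃ x : P, y = x⁻¹ * (α : MulAut P) x} ∧
      (∀ d ∈ D, d ^ p = 1 ∨ (p = 2 ∧ d ^ 4 = 1)) ∧
      ⁅D, (⊤ : Subgroup P)⁆ ≤ D ⊓ Subgroup.centralizer (D : Set P) ∧
      (∀ α ∈ G, (orderOf α).Coprime p → (∀ d ∈ D, α d = d) → α = 1) ∧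
      ∀ A : Subgroup P, A ≤ D → IsMulCommutative ↥A →
        (∀ B : Subgroup P, A ≤ B → B ≤ D → IsMulCommutative ↥B → B = A) →
        A.Normal ∧ ∀ α ∈ G, (∀ a ∈ A, α a = a) → ∃ k : ℕ, orderOf α = p ^ k := by
  classical
  have hp : p.Prime := Fact.out
  set Q0 : Subgroup P :=
    Subgroup.closure {y : P | ∃ α ∈ Cfsg.pResidual p ↥G, ∃ x : P, y = x⁻¹ * (α : MulAut P) x}
    with hQ0
  have hQ0inv : InvLe G Q0 := by
    intro β hβ
    have hle : Q0 ≤ Q0.comap β.toMonoidHom := by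
      rw [hQ0, Subgroup.closure_le]
      rintro y ⟨α, hα, x, rfl⟩
      rw [SetLike.mem_coe, Subgroup.mem_comap]
      apply Subgroup.subset_closure
      refine ⟨(⟨β, hβ⟩ : ↥G) * α * (⟨β, hβ⟩ : ↥G)⁻¹,
        (inferInstance : (Cfsg.pResidual p ↥G).Normal).conj_mem α hα _, β x, ?_⟩
      show β (x⁻¹ * (α : MulAut P) x) = (β x)⁻¹ * (β * (α : MulAut P) * β⁻¹) (β x)
      rw [map_mul, map_inv, MulAut.mul_apply, MulAut.mul_apply, inv_apply_apply]
    intro q hq
    exact hle hq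
  have hQ0fix : ∀ α ∈ G, (orderOf α).Coprime p → (∀ q ∈ Q0, α q = q) → α = 1 := by
    intro α hα hcop hfix
    have hmem : (⟨α, hα⟩ : ↥G) ∈ Cfsg.pResidual p ↥G := by
      apply mem_pResidual_of_coprime
      rw [Subgroup.orderOf_mk]
      exact hcop
    have h1 : ∀ c ∈ (⊤ : Subgroup P), α c = c := by
      apply fixes_of_fixes_quot α hcop ⊤ (hP.to_subgroup ⊤) (fun c _ => Subgroup.mem_top _)
      intro c _
      apply hfix
      apply Subgroup.subset_closure
      exact ⟨⟨α, hα⟩, hmem, c, rfl⟩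
    apply MulEquiv.ext
    intro x
    rw [MulAut.one_apply]
    exact h1 x (Subgroup.mem_top x)
  obtain ⟨e, hpe, hpe2, hexp⟩ : ∃ e, p ∣ e ∧ p ∣ e.choose 2 ∧
      (∀ d : P, d ^ e = 1 → d ^ p = 1 ∨ (p = 2 ∧ d ^ 4 = 1)) := by
    by_cases h2 : p = 2
    · refine ⟨4, ?_, ?_, fun d hd => Or.inr ⟨h2, hd⟩⟩
      · rw [h2]; norm_num
      · rw [h2]; decide
    · exact ⟨p, dvd_rfl, hp.dvd_choose_self (by norm_num)
        (lt_of_le_of_ne hp.two_le (Ne.symm h2)), fun d hd => Or.inl hd⟩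
  obtain ⟨D, hDinv, hDQ, hDexp, hDcomm, hDfix⟩ :=
    exists_omega_critical hP hpe hpe2 G hG Q0 hQ0inv
  have h5 : ∀ α ∈ G, (orderOf α).Coprime p → (∀ d ∈ D, α d = d) → α = 1 :=
    fun α hα hcop hfix => hQ0fix α hα hcop (hDfix α hα hcop hfix)
  refine ⟨D, fun α hα => hDinv.map_eq hα, hDQ, fun d hd => hexp d (hDexp d hd), hDcomm, h5, ?_⟩
  intro A hAD hA hmax
  exact maximal_abelian hP G D hDinv hDcomm h5 A hAD hA hmax

end Cfsg.Agent.S1949
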