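import Cfsg.Statements.S0679
import Cfsg.Agent.Lib.Helper27_Deg11Main

set_option autoImplicit false
open Cfsg

namespace Cfsg.Agent.S0679

/-- A non-solvable transitive permutation group on 11 points that does not contain the alternating group is either sharply 4-transitive (of order 7920) or isomorphic to the projective special linear group of degree 2 over the field with 11 elements. -/
theorem result {α : Type*} [Fintype α] [DecidableEq α] (hα : Fintype.card α = 11) (G : Subgroup (Equiv.Perm α)) [MulAction.IsPretransitive G α] (hG : ¬ Group.IsSolvable G) (hA : ¬ alternatingGroup α ≤ G) : (MulAction.IsMultiplyPretransitive G α 4 ∧ ∀ x : Fin 4 ↪ α, MulAction.stabilizer G x = ⊥) ∨ Nonempty (G ≃* Matrix.ProjectiveSpecialLinearGroup (Fin 2) (ZMod 11)) := by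
  classical
  obtain ⟨e, t, ht, hmap⟩ := Cfsg.Agent.Lib.Helper27_Deg11.classify hα G hG hA
  have hiso : t = 0 ∨ t = 2 →
      Nonempty (G ≃* Matrix.ProjectiveSpecialLinearGroup (Fin 2) (ZMod 11)) := by
    intro h02
    obtain ⟨E⟩ := Cfsg.Agent.Lib.Helper27_Deg11.psl_iso t h02
    have E1 := G.equivMapOfInjective
      (e.permCongrHom : Equiv.Perm α →* Equiv.Perm (Fin 11)) e.permCongrHom.injective
    rw [hmap] at E1
    exact ⟨E1.trans E⟩
  have hcases : t = 0 ∨ t = 1 ∨ t = 2 ∨ t = 3 := by omega
  rcases hcases with h | rfl | h | rfl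
  · exact Or.inr (hiso (Or.inl h))
  · left
    apply Cfsg.Agent.Lib.Helper27_Deg11.sharp_of_map e
    rw [hmap]
    exact Cfsg.Agent.Lib.Helper27_Deg11.grp1_sharp
  · exact Or.inr (hiso (Or.inr h))
  · left
    apply Cfsg.Agent.Lib.Helper27_Deg11.sharp_of_map e
    rw [hmap]
    exact Cfsg.Agent.Lib.Helper27_Deg11.grp3_sharp

end Cfsg.Agent.S0679
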