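import Cfsg.Statements.S0418
-- import your own Cfsg.Agent.* helpers here

set_option autoImplicit false
open Cfsg

namespace Cfsg.Agent.S0418

open MulAction

section general

variable {G : Type*} [Group G] {α : Type*} [MulAction G α] [FaithfulSMul G α]

/-- a nontrivial element moves some point -/
theorem exists_smul_ne {x : G} (hx : x ≠ 1) : ∃ a : α, x • a ≠ a := by
  by_contra h
  push Not at h
  exact hx (FaithfulSMul.eq_of_smul_eq_smul (α := α) (by simpa using h))

/-- a subgroup of prime order `p` acting faithfully on `p` points is transitive -/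
theorem isPretransitive_of_card_eq_prime [Finite α] {p : ℕ} (hp : p.Prime)
    (hα : Nat.card α = p) (Q : Subgroup G) (hQ : Nat.card Q = p) : IsPretransitive Q α := by
  have hex : ∃ x ∈ Q, x ≠ 1 := by
    by_contra h
    push Not at h
    have : Q = ⊥ := (Subgroup.eq_bot_iff_forall _).mpr h
    rw [this, Subgroup.card_bot] at hQ
    exact hp.one_lt.ne hQ
  obtain ⟨x, hxQ, hx1⟩ := hex
  obtain ⟨a, ha⟩ := exists_smul_ne (α := α) hx1
  rw [isPretransitive_iff_orbit_eq_univ a, Set.eq_univ_iff_ncard, hα]
  have hdvd : (orbit Q a).ncard ∣ p := by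
    rw [← index_stabilizer, ← hQ]
    exact Subgroup.index_dvd_card _
  have hlt : 1 < (orbit Q a).ncard := by
    rw [Set.one_lt_ncard (Set.toFinite _)]
    exact ⟨a, mem_orbit_self a, x • a, ⟨⟨x, hxQ⟩, rfl⟩, fun h => ha h.symm⟩
  exact ((Nat.dvd_prime hp).mp hdvd).resolve_left hlt.ne'

/-- a nontrivial normal subgroup of a transitive group of prime degree is transitive -/
theorem isPretransitive_of_normal_of_prime [IsPretransitive G α] (hp : (Nat.card α).Prime)
    (N : Subgroup G) [N.Normal] (hN : N ≠ ⊥) : IsPretransitive N α := by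
  have : IsPreprimitive G α := IsPreprimitive.of_prime_card hp
  apply IsQuasiPreprimitive.isPretransitive_of_normal (G := G)
  intro h
  apply hN
  rw [Subgroup.eq_bot_iff_forall]
  intro x hx
  by_contra hx1
  obtain ⟨a, ha⟩ := exists_smul_ne (α := α) hx1
  have : a ∈ fixedPoints N α := by rw [h]; trivial
  exact ha (this ⟨x, hx⟩)

/-- ... hence its order is divisible by the degree -/
theorem card_dvd_of_normal_of_prime [IsPretransitive G α] (hp : (Nat.card α).Prime)
    (N : Subgroup G) [N.Normal] (hN : N ≠ ⊥) : Nat.card α ∣ Nat.card N := by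
  haveI := isPretransitive_of_normal_of_prime hp N hN
  haveI : Nonempty α := (Nat.card_pos_iff.mp hp.pos).1
  obtain ⟨a⟩ := ‹Nonempty α›
  rw [← index_stabilizer_of_transitive N a]
  exact Subgroup.index_dvd_card _

/-- the centralizer of a transitive subgroup acts freely, so is no bigger than the set -/
theorem card_centralizer_le [Finite α] (Q : Subgroup G) [IsPretransitive Q α] [Nonempty α] :
    Nat.card (Subgroup.centralizer (Q : Set G)) ≤ Nat.card α := by
  obtain ⟨a⟩ := ‹Nonempty α›
  apply Nat.card_le_card_of_injective (fun c : Subgroup.centralizer (Q : Set G) => (c : G) • a)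
  intro c c' h
  simp only at h
  apply Subtype.ext
  apply FaithfulSMul.eq_of_smul_eq_smul (α := α)
  intro b
  obtain ⟨q, rfl⟩ := exists_smul_eq Q a b
  have hc : (q : G) * (c : G) = (c : G) * (q : G) := c.2 q q.2
  have hc' : (q : G) * (c' : G) = (c' : G) * (q : G) := c'.2 q q.2
  rw [Subgroup.smul_def, ← mul_smul, ← mul_smul, ← hc, ← hc', mul_smul, mul_smul, h]

end general

section sylow

variable {G : Type*} [Group G] [Finite G] {α : Type*} [MulAction G α] [FaithfulSMul G α] [Finite α]

theorem factorization_7920 : (7920 : ℕ).factorization 11 = 1 := by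
  have h11 : Nat.Prime 11 := by norm_num
  rw [show (7920 : ℕ) = 11 * 720 by norm_num, Nat.factorization_mul (by norm_num) (by norm_num)]
  rw [Finsupp.add_apply, h11.factorization_self, Nat.factorization_eq_zero_of_not_dvd (by norm_num)]

theorem fact11 : Fact (Nat.Prime 11) := ⟨by norm_num⟩

attribute [local instance] fact11

theorem sylow_card (hG : Nat.card G = 7920) (P : Sylow 11 G) : Nat.card P = 11 := by
  rw [Sylow.card_eq_multiplicity, hG, factorization_7920, pow_one]

theorem centralizer_sylow_eq (hG : Nat.card G = 7920) (hα : Nat.card α = 11) (P : Sylow 11 G) :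
    Subgroup.centralizer ((P : Subgroup G) : Set G) = P := by
  have hP := sylow_card hG P
  have h11 : Nat.Prime 11 := by norm_num
  haveI := isPretransitive_of_card_eq_prime h11 hα (P : Subgroup G) hP
  haveI : Nonempty α := (Nat.card_pos_iff.mp (by rw [hα]; norm_num)).1
  have hle : (P : Subgroup G) ≤ Subgroup.centralizer ((P : Subgroup G) : Set G) := by
    rw [Subgroup.le_centralizer_iff_isMulCommutative]
    haveI := isCyclic_of_prime_card hP
    exact IsCyclic.isMulCommutative
  refine (Subgroup.eq_of_le_of_card_ge hle ?_).symm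
  have hc := card_centralizer_le (α := α) (P : Subgroup G)
  rw [hα] at hc
  rw [hP]
  exact hc

theorem card_normalizer_sylow (hG : Nat.card G = 7920) (hα : Nat.card α = 11) (P : Sylow 11 G) :
    Nat.card (Subgroup.normalizer ((P : Subgroup G) : Set G)) = 55 := by
  have hP := sylow_card hG P
  have h1 := Subgroup.card_eq_card_quotient_mul_card_subgroup
    (P : Subgroup G).normalizerMonoidHom.ker
  rw [Nat.card_congr (QuotientGroup.quotientKerEquivRange _).toEquiv] at h1
  have h2 : Nat.card (P : Subgroup G).normalizerMonoidHom.ker = 11 := by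
    rw [Subgroup.normalizerMonoidHom_ker,
      Nat.card_congr (Subgroup.subgroupOfEquivOfLe (Subgroup.centralizer_le_normalizer _)).toEquiv,
      centralizer_sylow_eq hG hα P, hP]
  have h3 : Nat.card (P : Subgroup G).normalizerMonoidHom.range ∣ 10 := by
    have hd := Subgroup.card_subgroup_dvd_card (P : Subgroup G).normalizerMonoidHom.range
    haveI := isCyclic_of_prime_card hP
    rw [IsCyclic.card_mulAut, hP, Nat.totient_prime (by norm_num)] at hd
    exact hd
  have h4 : Nat.card (Sylow 11 G) * Nat.card (Subgroup.normalizer ((P : Subgroup G) : Set G)) =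
      7920 := by
    rw [Sylow.card_eq_index_normalizer P, ← hG]
    exact Subgroup.index_mul_card _
  have h5 := card_sylow_modEq_one 11 G
  rw [h2] at h1
  rw [h1] at h4 ⊢
  generalize Nat.card (P : Subgroup G).normalizerMonoidHom.range = k at *
  generalize Nat.card (Sylow 11 G) = n at *
  have hk : k ≤ 10 := Nat.le_of_dvd (by norm_num) h3
  have hk0 : 0 < k := Nat.pos_of_dvd_of_pos h3 (by norm_num)
  unfold Nat.ModEq at h5
  interval_cases k <;> omega

theorem isSimpleGroup_of_card [IsPretransitive G α] (hG : Nat.card G = 7920)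
    (hα : Nat.card α = 11) : IsSimpleGroup G := by
  have h11p : Nat.Prime 11 := by norm_num
  have hαp : (Nat.card α).Prime := by rw [hα]; exact h11p
  haveI : Nontrivial G := by
    rw [← Finite.one_lt_card_iff_nontrivial, hG]; norm_num
  refine ⟨fun N hN => ?_⟩
  by_cases hbot : N = ⊥
  · exact Or.inl hbot
  right
  have h11 : 11 ∣ Nat.card N := by
    rw [← hα]; exact card_dvd_of_normal_of_prime hαp N hbot
  -- a Sylow subgroup inside N
  obtain ⟨x, hx⟩ := exists_prime_orderOf_dvd_card' 11 h11
  have hx' : orderOf (x : G) = 11 := by rw [Subgroup.orderOf_coe]; exact hx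
  have hpg : IsPGroup 11 (Subgroup.zpowers (x : G)) :=
    IsPGroup.of_card (n := 1) (by rw [Nat.card_zpowers, hx', pow_one])
  obtain ⟨P, hP⟩ := hpg.exists_le_sylow
  have hPc := sylow_card hG P
  have hPeq : Subgroup.zpowers (x : G) = P :=
    Subgroup.eq_of_le_of_card_ge hP (by rw [hPc, Nat.card_zpowers, hx'])
  have hPN : (P : Subgroup G) ≤ N := by
    rw [← hPeq, Subgroup.zpowers_le]; exact x.2
  have hnorm := card_normalizer_sylow hG hα P
  have hcent := centralizer_sylow_eq hG hα P
  -- the Sylow subgroup of N
  let PN : Sylow 11 N := P.subtype hPN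
  have hPNcoe : (PN : Subgroup N) = (P : Subgroup G).subgroupOf N := Sylow.coe_subtype P hPN
  have hPNmap : (PN : Subgroup N).map N.subtype = P := by
    rw [hPNcoe, Subgroup.map_subgroupOf_eq_of_le hPN]
  have hfrat := Sylow.normalizer_sup_eq_top PN
  rw [hPNmap] at hfrat
  suffices hle : Subgroup.normalizer ((P : Subgroup G) : Set G) ≤ N by
    rw [← hfrat]; exact (sup_eq_right.mpr hle).symm
  by_cases hB : Subgroup.normalizer ((PN : Subgroup N) : Set N) ≤
      Subgroup.centralizer ((PN : Subgroup N) : Set N)
  · -- Burnside transfer: normal complement K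
    exfalso
    have hcompl : (MonoidHom.transferSylow PN hB).ker.IsComplement' PN :=
      MonoidHom.ker_transferSylow_isComplement' PN hB
    have hnd : ¬ 11 ∣ Nat.card (MonoidHom.transferSylow PN hB).ker :=
      MonoidHom.not_dvd_card_ker_transferSylow PN hB
    have hKbot : (MonoidHom.transferSylow PN hB).ker = ⊥ := by
      by_contra hKne
      haveI : IsPretransitive N α := isPretransitive_of_normal_of_prime hαp N hbot
      apply hnd
      have hd := card_dvd_of_normal_of_prime (G := N) hαp _ hKne
      rw [hα] at hd
      exact hd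
    have htop : (PN : Subgroup N) = ⊤ := by
      rw [hKbot] at hcompl
      exact Subgroup.isComplement'_bot_left.mp hcompl
    have hNP : N = P := by
      rw [← hPNmap, htop, ← MonoidHom.range_eq_map, Subgroup.range_subtype]
    have hnt : Subgroup.normalizer ((P : Subgroup G) : Set G) = ⊤ := by
      rw [← hNP]; exact Subgroup.normalizer_eq_top N
    rw [hnt, Subgroup.card_top, hG] at hnorm
    norm_num at hnorm
  · -- some y ∈ N normalizes P but does not centralize it
    rw [SetLike.not_le_iff_exists] at hB
    obtain ⟨y, hyN, hyC⟩ := hB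
    have hyN' : (y : G) ∈ Subgroup.normalizer ((P : Subgroup G) : Set G) := by
      rw [hPNcoe, ← Subgroup.subgroupOf_normalizer_eq hPN, Subgroup.mem_subgroupOf] at hyN
      exact hyN
    have hyC' : (y : G) ∉ (P : Subgroup G) := by
      intro hyP
      apply hyC
      rw [Subgroup.mem_centralizer_iff]
      intro h hh
      have hh' : (h : G) ∈ (P : Subgroup G) := by
        have : h ∈ (PN : Subgroup N) := hh
        rw [hPNcoe, Subgroup.mem_subgroupOf] at this
        exact this
      have hyc : (y : G) ∈ Subgroup.centralizer ((P : Subgroup G) : Set G) := by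
        rw [hcent]; exact hyP
      apply Subtype.ext
      exact hyc (h : G) hh'
    have hPL : (P : Subgroup G) ≤ N ⊓ Subgroup.normalizer ((P : Subgroup G) : Set G) :=
      le_inf hPN Subgroup.le_normalizer
    have hLcard : Nat.card ↥(N ⊓ Subgroup.normalizer ((P : Subgroup G) : Set G)) ∣ 55 := by
      rw [← hnorm]; exact Subgroup.card_dvd_of_le inf_le_right
    have h11L : 11 ∣ Nat.card ↥(N ⊓ Subgroup.normalizer ((P : Subgroup G) : Set G)) := by
      have hd := Subgroup.card_dvd_of_le hPL
      rw [hPc] at hd
      exact hd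
    have hne : Nat.card ↥(N ⊓ Subgroup.normalizer ((P : Subgroup G) : Set G)) ≠ 11 := by
      intro h
      have hPLeq : (P : Subgroup G) = N ⊓ Subgroup.normalizer ((P : Subgroup G) : Set G) :=
        Subgroup.eq_of_le_of_card_ge hPL (by rw [h, hPc])
      apply hyC'
      rw [hPLeq]
      exact Subgroup.mem_inf.mpr ⟨y.2, hyN'⟩
    have hL55 : Nat.card ↥(N ⊓ Subgroup.normalizer ((P : Subgroup G) : Set G)) = 55 := by
      generalize Nat.card ↥(N ⊓ Subgroup.normalizer ((P : Subgroup G) : Set G)) = l at *
      have hl := Nat.le_of_dvd (by norm_num) hLcard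
      obtain ⟨m, rfl⟩ := h11L
      have hm : m ≤ 5 := by omega
      interval_cases m <;> simp_all
    have hLeq : N ⊓ Subgroup.normalizer ((P : Subgroup G) : Set G) =
        Subgroup.normalizer ((P : Subgroup G) : Set G) :=
      Subgroup.eq_of_le_of_card_ge inf_le_right (by rw [hL55, hnorm])
    rw [← hLeq]; exact inf_le_left

end sylow

/-- A sharply 4-transitive group of degree 11 is simple of order 7920. -/
theorem result {α : Type*} [Fintype α] [DecidableEq α] (hα : Fintype.card α = 11) (G : Subgroup (Equiv.Perm α)) [MulAction.IsMultiplyPretransitive G α 4] (hsharp : ∀ x : Fin 4 ↪ α, MulAction.stabilizer G x = ⊥) : Cfsg.IsM11 G := by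
  have hα' : Nat.card α = 11 := by rw [Nat.card_eq_fintype_card, hα]
  have hcard : Nat.card G = 7920 := by
    have x : Fin 4 ↪ α := by
      have : Fintype.card (Fin 4) ≤ Fintype.card α := by rw [hα]; simp
      exact (Function.Embedding.nonempty_of_card_le this).some
    have h1 := @MulAction.index_stabilizer_of_transitive G _ _ _ x ‹_›
    rw [hsharp x, Subgroup.index_bot] at h1
    rw [h1, Nat.card_eq_fintype_card, Fintype.card_embedding_eq, hα, Fintype.card_fin]
    rfl
  haveI : MulAction.IsMultiplyPretransitive G α 1 :=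
    MulAction.isMultiplyPretransitive_of_le (n := 4) (by norm_num) (by rw [hα']; norm_num)
  haveI : MulAction.IsPretransitive G α := MulAction.is_one_pretransitive_iff.mp inferInstance
  exact ⟨isSimpleGroup_of_card (α := α) hcard hα', hcard⟩

end Cfsg.Agent.S0418
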