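import Cfsg.Statements.S5345

set_option autoImplicit false
open Cfsg

namespace Cfsg.Agent.S5345

theorem sq_of_order_two {G : Type*} [Group G] {d : G} (h : orderOf d = 2) : d * d = 1 := by
  have := pow_orderOf_eq_one d
  rw [h, pow_two] at this; exact this

/-- Two members of a set of 3-transpositions lying in a common 2-subgroup commute. -/
theorem comm_of_mem_two_group {G : Type*} [Group G] {D : Set G} (hD : Cfsg.IsThreeTranspositionSet D)
    (T : Subgroup G) (hT : IsPGroup 2 T) {d e : G} (hd : d ∈ D) (he : e ∈ D) (hdT : d ∈ T) (heT : e ∈ T) :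
    d * e = e * d := by
  have hdd : d * d = 1 := sq_of_order_two (hD.1 d hd)
  have hee : e * e = 1 := sq_of_order_two (hD.1 e he)
  have hdinv : d⁻¹ = d := inv_eq_of_mul_eq_one_right hdd
  have heinv : e⁻¹ = e := inv_eq_of_mul_eq_one_right hee
  have h2 : (d * e) ^ 2 = 1 := by
    rcases hD.2 d hd e he with h | h
    · exact h
    · obtain ⟨k, hk⟩ := hT ⟨d * e, T.mul_mem hdT heT⟩
      have hk' : (d * e) ^ (2 ^ k) = 1 := by
        have := congrArg Subtype.val hk
        simpa using this
      have h1 : orderOf (d * e) ∣ 2 ^ k := orderOf_dvd_of_pow_eq_one hk'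
      have h3 : orderOf (d * e) ∣ 3 := orderOf_dvd_of_pow_eq_one h
      have hg : orderOf (d * e) ∣ Nat.gcd 3 (2 ^ k) := Nat.dvd_gcd h3 h1
      have hcop : Nat.Coprime 3 (2 ^ k) := by
        apply Nat.Coprime.pow_right
        norm_num
      rw [hcop] at hg
      have : d * e = 1 := orderOf_eq_one_iff.mp (Nat.dvd_one.mp hg)
      rw [this, one_pow]
  rw [pow_two] at h2
  have : d * e = (d * e)⁻¹ := (inv_eq_of_mul_eq_one_right h2).symm
  rw [this, mul_inv_rev, hdinv, heinv]

/-- Let D be a conjugation-invariant generating set of 3-transpositions of a finite group G and T a Sylow 2-subgroup of G. Then the members of D lying in T generate an abelian subgroup, and their number is the width of D (the largest number of pairwise commuting members of D). -/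
theorem result {G : Type*} [Group G] [Finite G] {D : Set G} (hD : Cfsg.IsThreeTranspositionGroup D) (T : Sylow 2 G) : IsMulCommutative (Subgroup.closure {d : G | d ∈ D ∧ d ∈ T}) ∧ {d : G | d ∈ D ∧ d ∈ T}.ncard = Cfsg.commutingWidth D := by
  obtain ⟨hset, hconj, _⟩ := hD
  have hAcomm : ∀ x ∈ {d : G | d ∈ D ∧ d ∈ T}, ∀ y ∈ {d : G | d ∈ D ∧ d ∈ T}, x * y = y * x := by
    rintro x ⟨hx, hxT⟩ y ⟨hy, hyT⟩
    exact comm_of_mem_two_group hset (T : Subgroup G) T.2 hx hy hxT hyT
  refine ⟨Subgroup.isMulCommutative_closure hAcomm, ?_⟩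
  symm
  unfold Cfsg.commutingWidth
  apply IsGreatest.csSup_eq
  constructor
  · exact ⟨{d : G | d ∈ D ∧ d ∈ T}, fun x hx => hx.1, Set.toFinite _, fun a ha b hb => hAcomm a ha b hb, rfl⟩
  · rintro n ⟨E, hED, hEfin, hEcomm, rfl⟩
    -- closure E is a 2-group
    have hcl_comm : IsMulCommutative (Subgroup.closure E) :=
      Subgroup.isMulCommutative_closure (fun x hx y hy => hEcomm x hx y hy)
    have hsq : ∀ x ∈ Subgroup.closure E, x * x = 1 := by
      intro x hx
      induction hx using Subgroup.closure_induction with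
      | mem x hx => exact sq_of_order_two (hset.1 x (hED hx))
      | one => simp
      | mul x y hx hy ihx ihy =>
        have hc : x * y = y * x := by
          have := hcl_comm.is_comm.comm (⟨x, hx⟩ : Subgroup.closure E) ⟨y, hy⟩
          exact congrArg Subtype.val this
        calc x * y * (x * y) = x * (y * x) * y := by group
          _ = x * (x * y) * y := by rw [hc]
          _ = (x * x) * (y * y) := by group
          _ = 1 := by rw [ihx, ihy, one_mul]
      | inv x hx ihx =>
        have : (x * x)⁻¹ = 1 := by rw [ihx, inv_one]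
        rw [mul_inv_rev] at this; exact this
    have hp : IsPGroup 2 (Subgroup.closure E) := by
      intro x
      refine ⟨1, ?_⟩
      apply Subtype.ext
      rw [pow_one, pow_two]
      exact hsq x x.2
    obtain ⟨Q, hQ⟩ := hp.exists_le_sylow
    obtain ⟨g, hg⟩ := MulAction.exists_smul_eq G Q T
    apply Set.ncard_le_ncard_of_injOn (fun x => g * x * g⁻¹)
    · intro a ha
      refine ⟨hconj g a (hED ha), ?_⟩
      have haQ : a ∈ (Q : Subgroup G) := hQ (Subgroup.subset_closure ha)
      have : g * a * g⁻¹ ∈ ((g • Q : Sylow 2 G) : Subgroup G) := by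
        rw [Sylow.coe_subgroup_smul]
        exact Subgroup.smul_mem_pointwise_smul a (MulAut.conj g) _ haQ
      rw [hg] at this
      exact this
    · intro a _ b _ hab
      simpa using hab

end Cfsg.Agent.S5345
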