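import Mathlib
import Cfsg.Statements.S5346
import Cfsg.Agent.S5345
import Cfsg.Agent.S0215
import Cfsg.Agent.Lib.Helper1_Cores
import Cfsg.Agent.Lib.Helper89_InvolSylow

set_option autoImplicit false
open Cfsg

namespace Cfsg.Agent.S5346

open Cfsg.Agent.Lib.Helper89_InvolSylow

variable {G : Type*} [Group G]

/-- If the width is one then two commuting members are equal. -/
theorem eq_of_commute_of_width_one [Finite G] {D : Set G} (hw : Cfsg.commutingWidth D = 1)
    {a b : G} (ha : a ∈ D) (hb : b ∈ D) (hab : Commute a b) : a = b := by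
  by_contra hne
  have hbdd : BddAbove {n : ℕ | ∃ E : Set G, E ⊆ D ∧ E.Finite ∧
      (∀ a ∈ E, ∀ b ∈ E, Commute a b) ∧ E.ncard = n} := by
    refine ⟨Nat.card G, ?_⟩
    rintro n ⟨E, -, -, -, rfl⟩
    exact Set.ncard_le_card E
  have h2 : 2 ∈ {n : ℕ | ∃ E : Set G, E ⊆ D ∧ E.Finite ∧
      (∀ a ∈ E, ∀ b ∈ E, Commute a b) ∧ E.ncard = n} := by
    refine ⟨{a, b}, ?_, Set.toFinite _, ?_, Set.ncard_pair hne⟩
    · intro x hx
      simp only [Set.mem_insert_iff, Set.mem_singleton_iff] at hx
      rcases hx with rfl | rfl <;> assumption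
    · intro x hx y hy
      simp only [Set.mem_insert_iff, Set.mem_singleton_iff] at hx hy
      rcases hx with rfl | rfl <;> rcases hy with rfl | rfl
      · exact Commute.refl _
      · exact hab
      · exact hab.symm
      · exact Commute.refl _
  have h3 := le_csSup hbdd h2
  unfold Cfsg.commutingWidth at hw
  omega

/-- The group-theoretic core: if `G` is generated by a conjugation-invariant set `D` of
3-transpositions, `d ∈ D`, and `G` is the product of `⟨d⟩` with a normal subgroup of odd order,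
and `D` is the conjugacy class of `d`, then `G = T⟨d⟩` for a normal 3-subgroup `T`. -/
theorem main_lemma [Finite G] {D : Set G} (hD : Cfsg.IsThreeTranspositionGroup D) {d : G}
    (hd : d ∈ D) (N : Subgroup G) [N.Normal] (hN : Odd (Nat.card N))
    (hsup : Subgroup.zpowers d ⊔ N = ⊤) (hclass : ∀ e ∈ D, ∃ g : G, g * d * g⁻¹ = e) :
    ∃ T : Subgroup G, T.Normal ∧ IsPGroup 3 T ∧ T ⊔ Subgroup.zpowers d = ⊤ := by
  obtain ⟨⟨hord, hprod⟩, hconj, hgen⟩ := hD
  have hd2 : orderOf d = 2 := hord d hd
  have hdinv : d⁻¹ = d := inv_of_orderOf_two hd2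
  have hdN : d ∉ N := not_mem_of_odd hd2 N hN
  have hidx : N.index = 2 := index_eq_two_of_sup hd2 N hsup hdN
  -- odd primes different from 3 do not divide the index of the centralizer of `d`
  have hB : ∀ p : ℕ, p.Prime → p ≠ 2 → p ≠ 3 → ¬ p ∣ (Subgroup.centralizer {d}).index := by
    intro p hp hp2 hp3
    have : Fact p.Prime := ⟨hp⟩
    obtain ⟨P, hP⟩ := exists_sylow_normalized hd2 N hN hsup p hp2
    have hPC : (P : Subgroup G) ≤ Subgroup.centralizer {d} := by
      intro x hx
      rw [Subgroup.mem_centralizer_iff]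
      intro y hy
      rw [Set.mem_singleton_iff] at hy
      subst hy
      have h1 : y * x * y⁻¹ ∈ (P : Subgroup G) := (Subgroup.mem_set_normalizer_iff.mp hP x).mp hx
      have hk : x⁻¹ * (y * x * y⁻¹) ∈ (P : Subgroup G) := mul_mem (inv_mem hx) h1
      have hk' : x⁻¹ * (y * x * y⁻¹) = (x⁻¹ * y * x⁻¹⁻¹) * y := by rw [hdinv]; group
      have he : x⁻¹ * y * x⁻¹⁻¹ ∈ D := hconj x⁻¹ y hd
      have h23 := hprod _ he y hd
      obtain ⟨j, hj⟩ := (IsPGroup.iff_orderOf.mp P.2) ⟨_, hk⟩
      rw [Subgroup.orderOf_mk] at hj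
      have hone : x⁻¹ * (y * x * y⁻¹) = 1 := by
        rw [← orderOf_eq_one_iff]
        cases j with
        | zero => simpa using hj
        | succ j =>
          exfalso
          have hpd : p ∣ orderOf (x⁻¹ * (y * x * y⁻¹)) := by
            rw [hj]; exact dvd_pow_self p (Nat.succ_ne_zero j)
          rw [hk'] at hpd
          rcases h23 with h | h
          · have := hpd.trans (orderOf_dvd_of_pow_eq_one h)
            exact hp2 ((Nat.prime_dvd_prime_iff_eq hp Nat.prime_two).mp this)
          · have := hpd.trans (orderOf_dvd_of_pow_eq_one h)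
            exact hp3 ((Nat.prime_dvd_prime_iff_eq hp Nat.prime_three).mp this)
      have h2 : y * x * y⁻¹ = x := by
        have := congrArg (fun z => x * z) hone
        simpa using this
      calc y * x = y * x * y⁻¹ * y := by group
        _ = x * y := by rw [h2]
    intro hdvd
    exact P.not_dvd_index (hdvd.trans (Subgroup.index_dvd_of_le hPC))
  -- 2 does not divide the index of the centralizer
  have hB2 : ¬ 2 ∣ (Subgroup.centralizer {d}).index := by
    intro h2
    have hle : Subgroup.zpowers d ≤ Subgroup.centralizer {d} := by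
      rw [Subgroup.zpowers_le, Subgroup.mem_centralizer_iff]
      intro y hy
      rw [Set.mem_singleton_iff] at hy
      rw [hy]
    have h3 : 2 ∣ (Subgroup.zpowers d).index := h2.trans (Subgroup.index_dvd_of_le hle)
    have h4 : Nat.card (Subgroup.zpowers d) * (Subgroup.zpowers d).index = Nat.card G :=
      Subgroup.card_mul_index _
    have h5 : Nat.card N * N.index = Nat.card G := Subgroup.card_mul_index _
    rw [Nat.card_zpowers, hd2] at h4
    rw [hidx] at h5
    have h6 : (Subgroup.zpowers d).index = Nat.card N := by omega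
    rw [h6] at h3
    exact (Nat.not_even_iff_odd.mpr hN) (even_iff_two_dvd.mpr h3)
  -- a Sylow 3-subgroup normalized by `d`
  have : Fact (Nat.Prime 3) := ⟨Nat.prime_three⟩
  obtain ⟨T, hT⟩ := exists_sylow_normalized hd2 N hN hsup 3 (by norm_num)
  have hcop : ((T : Subgroup G) ⊔ Subgroup.zpowers d).index.Coprime
      (Subgroup.centralizer {d}).index := by
    apply Nat.coprime_of_dvd
    intro p hp hp1 hp2
    by_cases h3 : p = 3
    · subst h3
      exact T.not_dvd_index (hp1.trans (Subgroup.index_dvd_of_le le_sup_left))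
    · by_cases h2 : p = 2
      · subst h2; exact hB2 hp2
      · exact hB p hp h2 h3 hp2
  have hmem : ∀ g : G, g * d * g⁻¹ ∈ (T : Subgroup G) ⊔ Subgroup.zpowers d := by
    intro g
    obtain ⟨a, ha, b, hb, rfl⟩ := exists_mul_of_coprime_index _ _ hcop g
    have hbd : d * b = b * d := (Subgroup.mem_centralizer_iff.mp hb) d rfl
    have : a * b * d * (a * b)⁻¹ = a * d * a⁻¹ := by
      calc a * b * d * (a * b)⁻¹ = a * (b * d) * b⁻¹ * a⁻¹ := by group
        _ = a * (d * b) * b⁻¹ * a⁻¹ := by rw [hbd]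
        _ = a * d * a⁻¹ := by group
    rw [this]
    have hdH : d ∈ (T : Subgroup G) ⊔ Subgroup.zpowers d :=
      (le_sup_right : _ ≤ (T : Subgroup G) ⊔ Subgroup.zpowers d) (Subgroup.mem_zpowers d)
    exact mul_mem (mul_mem ha hdH) (inv_mem ha)
  -- hence `T ⊔ ⟨d⟩ = ⊤` and `T` is normal
  have htop : (T : Subgroup G) ⊔ Subgroup.zpowers d = ⊤ := by
    rw [eq_top_iff, ← hgen, Subgroup.closure_le]
    intro e he
    obtain ⟨g, rfl⟩ := hclass e he
    exact hmem g
  have hnorm : (T : Subgroup G).Normal := by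
    rw [← Subgroup.normalizer_eq_top_iff, eq_top_iff, ← htop, sup_le_iff]
    refine ⟨Subgroup.le_normalizer, ?_⟩
    rw [Subgroup.zpowers_le]
    exact hT
  exact ⟨T, hnorm, T.2, htop⟩

/-- Let D be a conjugation-invariant generating set of 3-transpositions of a finite group G and d a member of D. Then D has width 1 (no two different members of D commute) if and only if G is the product of the subgroup generated by d with the largest normal 3-subgroup of G. -/
theorem result {G : Type*} [Group G] [Finite G] {D : Set G} (hD : Cfsg.IsThreeTranspositionGroup D) {d : G} (hd : d ∈ D) : Cfsg.commutingWidth D = 1 ↔ Subgroup.zpowers d ⊔ Cfsg.pCore 3 G = ⊤ := by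
  have hD' := hD
  obtain ⟨⟨hord, hprod⟩, hconj, hgen⟩ := hD
  have hd2 : orderOf d = 2 := hord d hd
  have hdinv : d⁻¹ = d := inv_of_orderOf_two hd2
  have : Fact (Nat.Prime 2) := ⟨Nat.prime_two⟩
  have : Fact (Nat.Prime 3) := ⟨Nat.prime_three⟩
  have hz2 : IsPGroup 2 (Subgroup.zpowers d) := by
    apply IsPGroup.of_card (n := 1)
    rw [Nat.card_zpowers, hd2, pow_one]
  obtain ⟨S, hS⟩ := hz2.exists_le_sylow
  have hdS : d ∈ (S : Subgroup G) := hS (Subgroup.mem_zpowers d)
  constructor
  · intro hw
    have hnc : ∀ a ∈ D, ∀ b ∈ D, a * b = b * a → a = b :=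
      fun a ha b hb hab => eq_of_commute_of_width_one hw ha hb hab
    have hiso : ∀ g : G, g * d * g⁻¹ ∈ S → g * d * g⁻¹ = d := by
      intro g hg
      have hgD := hconj g d hd
      exact hnc _ hgD d hd (Cfsg.Agent.S5345.comm_of_mem_two_group ⟨hord, hprod⟩
        (S : Subgroup G) S.2 hgD hd hg hdS)
    obtain ⟨N, hNn, hNodd, hNc⟩ := Cfsg.Agent.S0215.result S d hd2 hdS hiso
    have := hNn
    have hclass : ∀ e ∈ D, ∃ g : G, g * d * g⁻¹ = e := by
      intro e he
      have he2 := hord e he
      have heinv : e⁻¹ = e := inv_of_orderOf_two he2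
      rcases hprod d hd e he with h | h
      · refine ⟨1, ?_⟩
        have hcomm : d * e = e * d := by
          have h1 : d * e = (d * e)⁻¹ := by
            rw [pow_two] at h
            exact (inv_eq_of_mul_eq_one_right h).symm
          rw [h1, mul_inv_rev, hdinv, heinv]
        have := hnc d hd e he hcomm
        simp [this]
      · refine ⟨d * e, ?_⟩
        have h3 : d * e * d * (e * d) * e = 1 := by
          rw [pow_succ, pow_two] at h
          simpa [mul_assoc] using h
        rw [mul_inv_rev, hdinv, heinv, eq_inv_of_mul_eq_one_left h3, heinv]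
    have hsup : Subgroup.zpowers d ⊔ N = ⊤ := by
      rw [eq_top_iff, ← hgen, Subgroup.closure_le]
      intro e he
      obtain ⟨g, rfl⟩ := hclass e he
      have h1 : (d * g * d⁻¹ * g⁻¹)⁻¹ ∈ N := N.inv_mem (hNc g)
      have h2 : g * d * g⁻¹ = (d * g * d⁻¹ * g⁻¹)⁻¹ * d := by group
      rw [SetLike.mem_coe, h2]
      exact mul_mem ((le_sup_right : N ≤ Subgroup.zpowers d ⊔ N) h1)
        ((le_sup_left : _ ≤ Subgroup.zpowers d ⊔ N) (Subgroup.mem_zpowers d))
    obtain ⟨T, hTn, hT3, hTtop⟩ := main_lemma hD' hd N hNodd hsup hclass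
    have hTle : T ≤ Cfsg.pCore 3 G := Cfsg.Agent.Lib.Helper1_Cores.le_pCore hTn hT3
    rw [eq_top_iff, ← hTtop, sup_le_iff]
    exact ⟨hTle.trans le_sup_right, le_sup_left⟩
  · intro htop
    have hRn : (Cfsg.pCore 3 G).Normal := Cfsg.Agent.Lib.Helper1_Cores.pCore_normal 3
    have := hRn
    have hR3 : IsPGroup 3 (Cfsg.pCore 3 G) := Cfsg.Agent.Lib.Helper1_Cores.pCore_isPGroup 3
    have hnotR : ∀ x : G, orderOf x = 2 → x ∉ Cfsg.pCore 3 G := by
      intro x hx hxR
      obtain ⟨j, hj⟩ := (IsPGroup.iff_orderOf.mp hR3) ⟨x, hxR⟩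
      rw [Subgroup.orderOf_mk, hx] at hj
      have h1 : 2 ∣ 3 ^ j := by rw [← hj]
      have h2 := Nat.Prime.dvd_of_dvd_pow Nat.prime_two h1
      omega
    have hidx : (Cfsg.pCore 3 G).index = 2 := index_eq_two_of_sup hd2 _ htop (hnotR d hd2)
    have hset : {x : G | x ∈ D ∧ x ∈ S} = {d} := by
      ext x
      simp only [Set.mem_ofPred_eq, Set.mem_singleton_iff]
      constructor
      · rintro ⟨hxD, hxS⟩
        have hx2 := hord x hxD
        have hxd : x * d ∈ Cfsg.pCore 3 G := (Subgroup.mul_mem_iff_of_index_two hidx).mpr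
          ⟨fun h => absurd h (hnotR x hx2), fun h => absurd h (hnotR d hd2)⟩
        have hxdS : x * d ∈ (S : Subgroup G) := mul_mem hxS hdS
        have hdisj : Disjoint (Cfsg.pCore 3 G) (S : Subgroup G) :=
          IsPGroup.disjoint_of_ne 3 2 (by norm_num) _ _ hR3 S.2
        have h1 : x * d = 1 := Subgroup.disjoint_def.mp hdisj hxd hxdS
        rw [← hdinv]
        exact eq_inv_of_mul_eq_one_left h1
      · rintro rfl
        exact ⟨hd, hdS⟩
    have := (Cfsg.Agent.S5345.result hD' S).2
    rw [hset, Set.ncard_singleton] at this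
    exact this.symm

end Cfsg.Agent.S5346
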