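import Cfsg.Statements.S2490
import Cfsg.Agent.Lib.Helper62_S2490_Defs
import Cfsg.Agent.Lib.Helper62_S2490_Num
import Cfsg.Agent.Lib.Helper62_S2490_B
import Cfsg.Agent.Lib.Helper62_S2490_Core144
import Cfsg.Agent.Lib.Helper62_S2490_Core45
import Cfsg.Agent.Lib.Helper88_S2490_N11
import Cfsg.Agent.Lib.Helper61_S2490_D2
import Cfsg.Agent.Lib.Helper49_S2490_S
import Cfsg.Agent.Lib.Helper10_S2490_T

set_option autoImplicit false
open Cfsg

namespace Cfsg.Agent.S2490

/-- Let G be a finite group of order 7920 = 2⁴·3²·5·11 (the order of the smallest Mathieu group) and suppose its prime graph (vertices the prime divisors of the order, distinct p, q joined when there is an element of order pq) is disconnected: the prime divisors split into two non-empty parts with no element of order pq for p in one part and q in the other. Then G is simple. -/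
theorem result {G : Type*} [Group G] [Finite G] (hord : Nat.card G = 7920)
    (hdisc : (∃ A : Set ℕ, (∃ a ∈ A, a.Prime ∧ a ∣ Nat.card G) ∧ (∃ b ∉ A, b.Prime ∧ b ∣ Nat.card G) ∧
      ∀ a ∈ A, ∀ b ∉ A, a.Prime → b.Prime → a ∣ Nat.card G → b ∣ Nat.card G → ¬ ∃ g : G, orderOf g = a * b)) :
    IsSimpleGroup G := by
  have := Cfsg.Agent.Lib.Helper62_S2490_Num.fact11
  obtain ⟨A, ⟨a, haA, hap, had⟩, ⟨b, hbA, hbp, hbd⟩, hno⟩ := hdisc
  rw [hord] at had hbd
  have hA : Cfsg.Agent.Lib.Helper62_S2490_Defs.NoMix G A :=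
    Cfsg.Agent.Lib.Helper62_S2490_Defs.noMix_of_hyp hno
  have hnt : Nontrivial G := by
    rw [← Finite.one_lt_card_iff_nontrivial, hord]; norm_num
  have hF : ∀ r : ℕ, r.Prime → ∀ Y : Subgroup G, Y.Normal → IsPGroup r Y → Y = ⊥ :=
    fun r hr Y hYn hY =>
      Cfsg.Agent.Lib.Helper62_S2490_B.no_normal_pgroup hord A hA ⟨a, haA, hap, had⟩
        ⟨b, hbA, hbp, hbd⟩ r hr Y hYn hY
  obtain ⟨s, hs, hsd, hopp⟩ : ∃ s : ℕ, s.Prime ∧ s ∣ 7920 ∧
      Cfsg.Agent.Lib.Helper62_S2490_Defs.Opp A 11 s := by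
    by_cases h11 : 11 ∈ A
    · exact ⟨b, hbp, hbd, by unfold Cfsg.Agent.Lib.Helper62_S2490_Defs.Opp; tauto⟩
    · exact ⟨a, hap, had, by unfold Cfsg.Agent.Lib.Helper62_S2490_Defs.Opp; tauto⟩
  have hN : ∀ M : Subgroup G, M.Normal → M ≠ ⊥ → 11 ∣ Nat.card M := fun M hMn hM =>
    Cfsg.Agent.Lib.Helper88_S2490_N11.N11 (hord ▸ dvd_rfl) (by rw [hord]; norm_num) A hA s hs
      (hord ▸ hsd) hopp hF M hMn hM
  obtain ⟨R, hRn, hRne, hRmin, hperf, hFR⟩ :=
    Cfsg.Agent.Lib.Helper10_S2490_T.exists_perfect_normal hF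
  have h11R : 11 ∣ Nat.card R := hN R hRn hRne
  have hRcard : Nat.card R ∣ 7920 := hord ▸ Subgroup.card_subgroup_dvd_card R
  have hidx : ¬ 11 ∣ R.index := by
    intro h
    have h1 : Nat.card R * R.index = 7920 := by rw [← hord]; exact R.card_mul_index
    have h2 : 11 * 11 ∣ 7920 := by rw [← h1]; exact Nat.mul_dvd_mul h11R h
    norm_num at h2
  have hSR : Nat.card (Sylow 11 R) = Nat.card (Sylow 11 G) :=
    Cfsg.Agent.Lib.Helper49_S2490_S.card_sylow_of_normal R hidx
  rcases Cfsg.Agent.Lib.Helper62_S2490_Num.card_sylow11_cases (H := G) (hord ▸ dvd_rfl)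
    (by rw [hord]; norm_num) with h | h | h | h
  · -- a normal Sylow 11-subgroup
    exfalso
    obtain ⟨P⟩ : Nonempty (Sylow 11 G) := inferInstance
    have hsub : Subsingleton (Sylow 11 G) := by
      rw [← Finite.card_le_one_iff_subsingleton, h]
    have hPn : (P : Subgroup G).Normal := Sylow.normal_of_subsingleton P
    have hPbot := hF 11 (by norm_num) P hPn P.isPGroup'
    have h11 : 11 ∣ Nat.card (P : Subgroup G) := P.dvd_card_of_dvd_card (by rw [hord]; norm_num)
    rw [hPbot, Subgroup.card_bot] at h11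
    norm_num at h11
  · exact (Cfsg.Agent.Lib.Helper61_S2490_D2.n12_false hord hN h).elim
  · exact (Cfsg.Agent.Lib.Helper62_S2490_Core45.core45 hRcard h11R hperf A (hA.subgroup R) s hs hsd
      hopp hFR (hSR.trans h)).elim
  · have hR7920 : Nat.card R = 7920 :=
      Cfsg.Agent.Lib.Helper62_S2490_Core144.core144 hRcard h11R hperf (hSR.trans h)
    refine ⟨fun M hMn => ?_⟩
    by_cases hM : M = ⊥
    · exact Or.inl hM
    · right
      have h1 := hRmin M hMn hM
      apply Subgroup.eq_top_of_card_eq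
      rw [hord]
      have h2 : Nat.card M ∣ 7920 := hord ▸ Subgroup.card_subgroup_dvd_card M
      have h3 := Nat.le_of_dvd (by norm_num) h2
      omega

end Cfsg.Agent.S2490
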