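import Mathlib
import Cfsg.Statements.S5351
import Cfsg.Agent.Lib.Helper89_TTClass
import Cfsg.Agent.Lib.Helper89_InvolSylow
import Cfsg.Agent.Lib.Helper1_Cores
import Cfsg.Agent.Lib.Helper21_FStar

set_option autoImplicit false
open Cfsg

namespace Cfsg.Agent.S5351

open Cfsg.Agent.Lib.Helper89_TTClass Cfsg.Agent.Lib.Helper89_InvolSylow

variable {G : Type*} [Group G]

/-- If `O_2(G)`, `O_3(G)` are central then `E(G) ≠ 1`. -/
theorem layer_ne_bot [Finite G] {D : Set G} (hD : Cfsg.IsThreeTranspositionClass D)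
    (hD2 : ∃ a ∈ D, ∃ b ∈ D, a ≠ b) (h2 : Cfsg.pCore 2 G ≤ Subgroup.center G)
    (h3 : Cfsg.pCore 3 G ≤ Subgroup.center G) : Cfsg.layer G ≠ ⊥ := by
  intro hE
  have hF : Cfsg.fittingSubgroup G ≤ Subgroup.center G := by
    rw [Cfsg.Agent.Lib.Helper1_Cores.fittingSubgroup_eq_iSup_pCore]
    apply iSup_le
    intro p
    have hp : (p : ℕ).Prime := p.2
    have hcases : (p : ℕ) = 2 ∨ (p : ℕ) = 3 ∨ 3 < (p : ℕ) := by
      have := hp.two_le
      omega
    rcases hcases with h | h | h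
    · rw [h]; exact h2
    · rw [h]; exact h3
    · exact pCore_le_center_of_gt_three hD hp h
  have hFs : Cfsg.generalizedFittingSubgroup G ≤ Subgroup.center G := by
    unfold Cfsg.generalizedFittingSubgroup
    rw [hE, bot_sup_eq]
    exact hF
  have hcent : Subgroup.centralizer (Cfsg.generalizedFittingSubgroup G : Set G) = ⊤ :=
    Subgroup.centralizer_eq_top_iff_subset.mpr hFs
  have htop : (⊤ : Subgroup G) ≤ Subgroup.center G := by
    rw [← hcent]
    exact Cfsg.Agent.Lib.Helper21_FStar.centralizer_generalizedFitting_le.trans hFs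
  obtain ⟨a, ha, b, hb, hab⟩ := hD2
  obtain ⟨g, rfl⟩ := exists_conj hD ha hb
  apply hab
  have : g * a = a * g := Subgroup.mem_center_iff.mp (htop (Subgroup.mem_top a)) g
  rw [this]
  group

/-- `O_2(G)` and `O_3(G)` are not both non-central. -/
theorem pCore_three_le_center [Finite G] {D : Set G} (hD : Cfsg.IsThreeTranspositionClass D)
    (h2 : ¬ Cfsg.pCore 2 G ≤ Subgroup.center G) : Cfsg.pCore 3 G ≤ Subgroup.center G := by
  by_contra h3
  obtain ⟨d, hd⟩ := nonempty hD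
  have hd2 := hD.1.1 d hd
  have hdd := sq_of_orderOf_two hd2
  have hdinv := inv_of_orderOf_two hd2
  have : Fact (Nat.Prime 2) := ⟨Nat.prime_two⟩
  have : Fact (Nat.Prime 3) := ⟨Nat.prime_three⟩
  have hQ2n : (Cfsg.pCore 2 G).Normal := Cfsg.Agent.Lib.Helper1_Cores.pCore_normal 2
  have hQ3n : (Cfsg.pCore 3 G).Normal := Cfsg.Agent.Lib.Helper1_Cores.pCore_normal 3
  have hex2 : ∃ a ∈ Cfsg.pCore 2 G, a⁻¹ * d * a * d ≠ 1 := by
    by_contra hcon
    push Not at hcon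
    exact h2 (le_center_of_commute hD _ hd
      (fun x hx => commute_of_comm_elt_eq_one hd2 (hcon x hx)))
  have hex3 : ∃ b ∈ Cfsg.pCore 3 G, b⁻¹ * d * b * d ≠ 1 := by
    by_contra hcon
    push Not at hcon
    exact h3 (le_center_of_commute hD _ hd
      (fun x hx => commute_of_comm_elt_eq_one hd2 (hcon x hx)))
  obtain ⟨a, ha, hxne⟩ := hex2
  obtain ⟨b, hb, hyne⟩ := hex3
  obtain ⟨hxQ, hx23⟩ := comm_elt_mem hD (Cfsg.pCore 2 G) hd ha
  obtain ⟨hyQ, hy23⟩ := comm_elt_mem hD (Cfsg.pCore 3 G) hd hb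
  have hxj : ∃ j : ℕ, orderOf (a⁻¹ * d * a * d) = 2 ^ j := by
    obtain ⟨j, hj⟩ := (IsPGroup.iff_orderOf.mp
      (Cfsg.Agent.Lib.Helper1_Cores.pCore_isPGroup (G := G) 2)) ⟨_, hxQ⟩
    rw [Subgroup.orderOf_mk] at hj
    exact ⟨j, hj⟩
  have hyj : ∃ j : ℕ, orderOf (b⁻¹ * d * b * d) = 3 ^ j := by
    obtain ⟨j, hj⟩ := (IsPGroup.iff_orderOf.mp
      (Cfsg.Agent.Lib.Helper1_Cores.pCore_isPGroup (G := G) 3)) ⟨_, hyQ⟩
    rw [Subgroup.orderOf_mk] at hj
    exact ⟨j, hj⟩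
  have hx2 : (a⁻¹ * d * a * d) ^ 2 = 1 := by
    rcases hx23 with h | h
    · exact h
    · exact absurd (eq_one_of_two_pow_of_cube hxj h) hxne
  have hy3 : (b⁻¹ * d * b * d) ^ 3 = 1 := by
    rcases hy23 with h | h
    · exact absurd (eq_one_of_three_pow_of_sq hyj h) hyne
    · exact h
  have hyi3 : (b⁻¹ * d * b * d)⁻¹ ^ 3 = 1 := by rw [inv_pow, hy3, inv_one]
  have hyi2 : (b⁻¹ * d * b * d)⁻¹ ^ 2 ≠ 1 := by
    intro h
    have e : (b⁻¹ * d * b * d)⁻¹ ^ 3 = (b⁻¹ * d * b * d)⁻¹ ^ 2 * (b⁻¹ * d * b * d)⁻¹ := pow_succ _ _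
    rw [hyi3, h, one_mul] at e
    exact hyne (inv_eq_one.mp e.symm)
  have hdisj : Disjoint (Cfsg.pCore 2 G) (Cfsg.pCore 3 G) :=
    IsPGroup.disjoint_of_ne 2 3 (by norm_num) _ _
      (Cfsg.Agent.Lib.Helper1_Cores.pCore_isPGroup 2) (Cfsg.Agent.Lib.Helper1_Cores.pCore_isPGroup 3)
  have hcomm : Commute (a⁻¹ * d * a * d) (b⁻¹ * d * b * d)⁻¹ :=
    (Subgroup.commute_of_normal_of_disjoint _ _ hQ2n hQ3n hdisj _ _ hxQ hyQ).inv_right
  have hwa : a⁻¹ * d * a ∈ D := by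
    have := conj_mem hD a⁻¹ hd
    rwa [inv_inv] at this
  have hwb : b⁻¹ * d * b ∈ D := by
    have := conj_mem hD b⁻¹ hd
    rwa [inv_inv] at this
  have heq : (a⁻¹ * d * a * d) * (b⁻¹ * d * b * d)⁻¹ = (a⁻¹ * d * a) * (b⁻¹ * d * b) := by
    rw [mul_inv_rev, mul_inv_rev, mul_inv_rev, inv_inv, hdinv]
    calc a⁻¹ * d * a * d * (d * (b⁻¹ * (d * b))) = a⁻¹ * d * a * (d * d) * (b⁻¹ * (d * b)) := by
          group
      _ = a⁻¹ * d * a * (b⁻¹ * d * b) := by rw [hdd]; group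
  have h23 := hD.1.2 _ hwa _ hwb
  rw [← heq] at h23
  rcases h23 with k2 | k3
  · rw [hcomm.mul_pow, hx2, one_mul] at k2
    exact hyi2 k2
  · rw [hcomm.mul_pow, hyi3, mul_one] at k3
    have e : (a⁻¹ * d * a * d) ^ 3 = (a⁻¹ * d * a * d) ^ 2 * (a⁻¹ * d * a * d) := pow_succ _ _
    rw [k3, hx2, one_mul] at e
    exact hxne e.symm

/-- Let D be a conjugacy class of 3-transpositions generating the finite group G, with at least two members. Then for every prime p > 3 the largest normal p-subgroup of G is central, and exactly one of the following holds: the largest normal 2-subgroup of G is not central; the largest normal 3-subgroup of G is not central; the layer of G (the product of its components) is non-trivial. -/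
theorem result {G : Type*} [Group G] [Finite G] {D : Set G} (hD : Cfsg.IsThreeTranspositionClass D) (hD2 : ∃ a ∈ D, ∃ b ∈ D, a ≠ b) : (∀ p : ℕ, p.Prime → 3 < p → Cfsg.pCore p G ≤ Subgroup.center G) ∧ ((¬ Cfsg.pCore 2 G ≤ Subgroup.center G ∧ Cfsg.pCore 3 G ≤ Subgroup.center G ∧ Cfsg.layer G = ⊥) ∨ (Cfsg.pCore 2 G ≤ Subgroup.center G ∧ ¬ Cfsg.pCore 3 G ≤ Subgroup.center G ∧ Cfsg.layer G = ⊥) ∨ (Cfsg.pCore 2 G ≤ Subgroup.center G ∧ Cfsg.pCore 3 G ≤ Subgroup.center G ∧ Cfsg.layer G ≠ ⊥)) := by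
  refine ⟨fun p hp h3 => pCore_le_center_of_gt_three hD hp h3, ?_⟩
  by_cases h2 : Cfsg.pCore 2 G ≤ Subgroup.center G
  · by_cases h3 : Cfsg.pCore 3 G ≤ Subgroup.center G
    · right; right
      exact ⟨h2, h3, layer_ne_bot hD hD2 h2 h3⟩
    · right; left
      exact ⟨h2, h3, layer_eq_bot_of_pCore_three hD h3⟩
  · left
    exact ⟨h2, pCore_three_le_center hD h2, layer_eq_bot_of_pCore_two hD h2⟩

end Cfsg.Agent.S5351
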