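import Mathlib
import Cfsg.Statements.S5352
import Cfsg.Agent.S5351
import Cfsg.Agent.Lib.Helper89_TTClass
import Cfsg.Agent.Lib.Helper89_TTQuasi
import Cfsg.Agent.Lib.Helper89_InvolSylow
import Cfsg.Agent.Lib.Helper1_Cores
import Cfsg.Agent.Lib.Helper29_Local
import Cfsg.Agent.Lib.Helper49_FStarComm

set_option autoImplicit false
open Cfsg
open scoped commutatorElement

namespace Cfsg.Agent.S5352

open Cfsg.Agent.Lib.Helper89_TTClass Cfsg.Agent.Lib.Helper89_TTQuasi
  Cfsg.Agent.Lib.Helper89_InvolSylow

variable {G : Type*} [Group G]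

/-- If `O_2(G)` and `O_3(G)` are central then `F(G) = Z(G)`. -/
theorem fittingSubgroup_eq_center [Finite G] {D : Set G} (hD : Cfsg.IsThreeTranspositionClass D)
    (h2 : Cfsg.pCore 2 G ≤ Subgroup.center G) (h3 : Cfsg.pCore 3 G ≤ Subgroup.center G) :
    Cfsg.fittingSubgroup G = Subgroup.center G := by
  apply le_antisymm _ (Cfsg.Agent.Lib.Helper29_Local.center_le_fittingSubgroup G)
  rw [Cfsg.Agent.Lib.Helper1_Cores.fittingSubgroup_eq_iSup_pCore]
  apply iSup_le
  intro p
  have hp : (p : ℕ).Prime := p.2
  have hcases : (p : ℕ) = 2 ∨ (p : ℕ) = 3 ∨ 3 < (p : ℕ) := by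
    have := hp.two_le
    omega
  rcases hcases with h | h | h
  · rw [h]; exact h2
  · rw [h]; exact h3
  · exact pCore_le_center_of_gt_three hD hp h

/-- Two involutions whose product squares to one commute. -/
theorem commute_of_sq {a b : G} (ha : orderOf a = 2) (hb : orderOf b = 2) (h : (a * b) ^ 2 = 1) :
    a * b = b * a := by
  have hainv := inv_of_orderOf_two ha
  have hbinv := inv_of_orderOf_two hb
  rw [pow_two] at h
  have h1 : a * b = (a * b)⁻¹ := (inv_eq_of_mul_eq_one_right h).symm
  rw [h1, mul_inv_rev, hainv, hbinv]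

/-- The width-one property of the image of `D` modulo a normal quasisimple subgroup `L`. -/
theorem mul_mem_of_commutator_mem [Finite G] {D : Set G} (hD : Cfsg.IsThreeTranspositionClass D)
    (L : Subgroup G) [hLn : L.Normal] (hLq : Cfsg.IsQuasisimple ↥L) {a b : G} (ha : a ∈ D)
    (hb : b ∈ D) (hab : a * b * a⁻¹ * b⁻¹ ∈ L) : a⁻¹ * b ∈ L := by
  have ha2 := hD.1.1 a ha
  have hb2 := hD.1.1 b hb
  have hainv := inv_of_orderOf_two ha2
  have hbinv := inv_of_orderOf_two hb2
  have haa := sq_of_orderOf_two ha2
  rw [hainv, hbinv] at hab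
  rw [hainv]
  have hsq : (a * b) ^ 2 ∈ L := by
    rw [pow_two]
    have : a * b * (a * b) = a * b * a * b := by group
    rw [this]; exact hab
  rcases hD.1.2 a ha b hb with h | h
  · -- commuting case
    have hcomm : a * b = b * a := commute_of_sq ha2 hb2 h
    have hex : ∃ l ∈ L, b * (l⁻¹ * a * l) ≠ (l⁻¹ * a * l) * b := by
      by_contra hcon
      push Not at hcon
      have h1 : L ≤ ⁅L, Subgroup.zpowers a⁆ := by
        apply le_of_comm_mem hD ha L hLq _ (Subgroup.commutator_le_left _ _)
          (Cfsg.Agent.Lib.Helper49_FStarComm.le_normalizer_commutator_left _ _)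
        intro l hl
        have : l⁻¹ * a * l * a = ⁅l⁻¹, a⁆ := by
          rw [commutatorElement_def, inv_inv, hainv]
        rw [this]
        exact Subgroup.commutator_mem_commutator (inv_mem hl) (Subgroup.mem_zpowers a)
      have h2 : ⁅L, Subgroup.zpowers a⁆ ≤ Subgroup.centralizer {b} := by
        apply commutator_zpowers_le ha2
        intro l hl
        rw [Subgroup.mem_centralizer_iff]
        intro y hy
        rw [Set.mem_singleton_iff] at hy
        subst hy
        have h3 := hcon l hl
        calc y * (l⁻¹ * a * l * a) = (y * (l⁻¹ * a * l)) * a := by group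
          _ = (l⁻¹ * a * l) * y * a := by rw [h3]
          _ = (l⁻¹ * a * l) * (y * a) := by group
          _ = (l⁻¹ * a * l) * (a * y) := by rw [hcomm]
          _ = l⁻¹ * a * l * a * y := by group
      have h3 : L ≤ Subgroup.center G := by
        apply le_center_of_commute hD L hb
        intro x hx
        exact (Subgroup.mem_centralizer_iff.mp (h2 (h1 hx)) b rfl).symm
      exact not_le_center_of_isQuasisimple hLq h3
    obtain ⟨l, hl, hne⟩ := hex
    have he : l⁻¹ * a * l ∈ D := by
      have := conj_mem hD l⁻¹ ha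
      rwa [inv_inv] at this
    have he2 := hD.1.1 _ he
    have h3 : ((l⁻¹ * a * l) * b) ^ 3 = 1 := by
      rcases hD.1.2 _ he b hb with k | k
      · exact absurd (commute_of_sq he2 hb2 k).symm hne
      · exact k
    -- pass to the quotient by `L`
    have hc : l⁻¹ * a * l * a ∈ L := (comm_elt_mem hD L ha hl).1
    have hmke : (QuotientGroup.mk (l⁻¹ * a * l) : G ⧸ L) = QuotientGroup.mk a := by
      have e1 : l⁻¹ * a * l = (l⁻¹ * a * l * a) * a := by rw [mul_assoc _ a a, haa, mul_one]
      rw [e1, QuotientGroup.mk_mul, (QuotientGroup.eq_one_iff _).mpr hc, one_mul]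
    have hq3 : (QuotientGroup.mk (a * b) : G ⧸ L) ^ 3 = 1 := by
      rw [QuotientGroup.mk_mul, ← hmke, ← QuotientGroup.mk_mul, ← QuotientGroup.mk_pow, h3,
        QuotientGroup.mk_one]
    have hq2 : (QuotientGroup.mk (a * b) : G ⧸ L) ^ 2 = 1 := by
      rw [← QuotientGroup.mk_pow, h, QuotientGroup.mk_one]
    have hq1 : (QuotientGroup.mk (a * b) : G ⧸ L) = 1 := by
      have e : (QuotientGroup.mk (a * b) : G ⧸ L) ^ 3 =
          (QuotientGroup.mk (a * b) : G ⧸ L) ^ 2 * QuotientGroup.mk (a * b) := pow_succ _ _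
      rw [hq3, hq2, one_mul] at e
      exact e.symm
    exact (QuotientGroup.eq_one_iff _).mp hq1
  · -- `(ab)^3 = 1`
    have : a * b = ((a * b) ^ 2)⁻¹ := by
      have e : (a * b) ^ 3 = (a * b) ^ 2 * (a * b) := pow_succ _ _
      rw [h] at e
      exact eq_inv_of_mul_eq_one_right e.symm
    rw [this]
    exact inv_mem hsq

/-- Let D be a conjugacy class of 3-transpositions generating the finite group G, with at least two members, and suppose the largest normal 2-subgroup and the largest normal 3-subgroup of G are both central. Then G has a quasisimple normal subgroup L such that the generalized Fitting subgroup of G is the product of L and the centre; and either L = G or the image of D in G/L has width 1, in the sense that two members of D whose commutator lies in L have the same image modulo L. -/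
theorem result {G : Type*} [Group G] [Finite G] {D : Set G} (hD : Cfsg.IsThreeTranspositionClass D) (hD2 : ∃ a ∈ D, ∃ b ∈ D, a ≠ b) (h2 : Cfsg.pCore 2 G ≤ Subgroup.center G) (h3 : Cfsg.pCore 3 G ≤ Subgroup.center G) : ∃ L : Subgroup G, L.Normal ∧ Cfsg.IsQuasisimple L ∧ Cfsg.generalizedFittingSubgroup G = L ⊔ Subgroup.center G ∧ (L = ⊤ ∨ ∀ a ∈ D, ∀ b ∈ D, a * b * a⁻¹ * b⁻¹ ∈ L → a⁻¹ * b ∈ L) := by
  have hE : Cfsg.layer G ≠ ⊥ := Cfsg.Agent.S5351.layer_ne_bot hD hD2 h2 h3
  have hex : ∃ L : Subgroup G, Cfsg.IsComponent L := by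
    by_contra hcon
    push Not at hcon
    apply hE
    unfold Cfsg.layer
    rw [eq_bot_iff]
    apply sSup_le
    intro K hK
    exact absurd hK (hcon K)
  obtain ⟨L, hL⟩ := hex
  have hLn : L.Normal := component_normal hD hL
  have hlayer : Cfsg.layer G = L := by
    unfold Cfsg.layer
    apply le_antisymm
    · apply sSup_le
      intro K hK
      rw [component_unique hD hK hL]
    · exact le_sSup hL
  refine ⟨L, hLn, hL.2, ?_, Or.inr ?_⟩
  · unfold Cfsg.generalizedFittingSubgroup
    rw [hlayer, fittingSubgroup_eq_center hD h2 h3]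
  · intro a ha b hb hab
    exact mul_mem_of_commutator_mem hD L hL.2 ha hb hab

end Cfsg.Agent.S5352
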