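import Cfsg.Statements.S5344

set_option autoImplicit false
open Cfsg

namespace Cfsg.Agent.S5344

section nf
variable {M : Type*} [Monoid M]

/-- normal form words in a monoid generated by a,b,c -/
def nf (a b c : M) (t : Fin 2 × Fin 3 × Fin 4) : M :=
  ![1, a] t.1 * ![1, b, b * a] t.2.1 * ![1, c, c * b, c * b * a] t.2.2

def tB : Fin 2 → Fin 3 → Fin 2 × Fin 3 := ![![(0,1),(0,0),(1,0)], ![(0,2),(1,2),(1,1)]]
def tC : Fin 3 → Fin 4 → Fin 3 × Fin 4 :=
  ![![(0,1),(0,0),(1,0),(2,0)], ![(0,2),(1,2),(1,1),(2,1)], ![(0,3),(1,3),(2,3),(2,2)]]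

def T (s : Fin 3) (t : Fin 2 × Fin 3 × Fin 4) : Fin 2 × Fin 3 × Fin 4 :=
  ![(![1, 0] t.1, t.2.1, t.2.2),
    ((tB t.1 t.2.1).1, (tB t.1 t.2.1).2, t.2.2),
    (t.1, tC t.2.1 t.2.2)] s

theorem nf_T (a b c : M) (haa : a * a = 1) (hbb : b * b = 1) (hcc : c * c = 1)
    (hbab : b * (a * b) = a * (b * a)) (hcbc : c * (b * c) = b * (c * b)) (hca : c * a = a * c)
    (s : Fin 3) (t : Fin 2 × Fin 3 × Fin 4) :
    nf a b c (T s t) = ![a, b, c] s * nf a b c t := by
  have ra : ∀ w, a * (a * w) = w := fun w => by rw [← mul_assoc, haa, one_mul]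
  have rb : ∀ w, b * (b * w) = w := fun w => by rw [← mul_assoc, hbb, one_mul]
  have rc : ∀ w, c * (c * w) = w := fun w => by rw [← mul_assoc, hcc, one_mul]
  have rbab : ∀ w, b * (a * (b * w)) = a * (b * (a * w)) := fun w => by
    calc b * (a * (b * w)) = (b * (a * b)) * w := by simp only [mul_assoc]
      _ = (a * (b * a)) * w := by rw [hbab]
      _ = _ := by simp only [mul_assoc]
  have rcbc : ∀ w, c * (b * (c * w)) = b * (c * (b * w)) := fun w => by
    calc c * (b * (c * w)) = (c * (b * c)) * w := by simp only [mul_assoc]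
      _ = (b * (c * b)) * w := by rw [hcbc]
      _ = _ := by simp only [mul_assoc]
  have rca : ∀ w, c * (a * w) = a * (c * w) := fun w => by
    rw [← mul_assoc, hca, mul_assoc]
  have hcbac : c * (b * (a * c)) = b * (c * (b * a)) := by
    calc c * (b * (a * c)) = c * (b * (c * a)) := by rw [hca]
      _ = b * (c * (b * a)) := rcbc a
  have rcbac : ∀ w, c * (b * (a * (c * w))) = b * (c * (b * (a * w))) := fun w => by
    calc c * (b * (a * (c * w))) = (c * (b * (a * c))) * w := by simp only [mul_assoc]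
      _ = (b * (c * (b * a))) * w := by rw [hcbac]
      _ = _ := by simp only [mul_assoc]
  obtain ⟨i, j, k⟩ := t
  fin_cases s <;> fin_cases i <;> fin_cases j <;> fin_cases k <;>
    simp [nf, T, tB, tC, mul_assoc, haa, hbb, hcc, hbab, hcbc, hca, ra, rb, rc, rbab, rcbc, rca, hcbac, rcbac]

end nf


open Equiv in
/-- the three adjacent transpositions of `Fin 4` -/
def gen : Fin 3 → Equiv.Perm (Fin 4) := ![Equiv.swap 0 1, Equiv.swap 1 2, Equiv.swap 2 3]

/-- normal forms in `Perm (Fin 4)` -/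
def E (t : Fin 2 × Fin 3 × Fin 4) : Equiv.Perm (Fin 4) :=
  nf (Equiv.swap (0 : Fin 4) 1) (Equiv.swap (1 : Fin 4) 2) (Equiv.swap (2 : Fin 4) 3) t

theorem E_injective : Function.Injective E := by decide

theorem E_bijective : Function.Bijective E := by
  rw [Fintype.bijective_iff_injective_and_card]
  refine ⟨E_injective, ?_⟩
  simp [Fintype.card_perm]
  rfl

/-- the normal form equivalence -/
noncomputable def Eeq : (Fin 2 × Fin 3 × Fin 4) ≃ Equiv.Perm (Fin 4) := Equiv.ofBijective E E_bijective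

theorem Eeq_apply (t : Fin 2 × Fin 3 × Fin 4) : Eeq t = E t := rfl

theorem E_T (s : Fin 3) (t : Fin 2 × Fin 3 × Fin 4) : E (T s t) = gen s * E t := by
  unfold E gen
  exact nf_T _ _ _ (by decide) (by decide) (by decide) (by decide) (by decide) (by decide) s t

theorem E_zero : E (0, 0, 0) = 1 := by decide

set_option maxRecDepth 1000000 in
theorem ker_lemma : ∀ σ : Equiv.Perm (Fin 4), σ ≠ 1 →
    ∃ τ ρ : Equiv.Perm (Fin 4),
      τ * σ * τ⁻¹ * (ρ * σ * ρ⁻¹) = Equiv.swap 0 1 * Equiv.swap 2 3 ∨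
      τ * σ * τ⁻¹ * (ρ * σ⁻¹ * ρ⁻¹) = Equiv.swap 0 1 * Equiv.swap 2 3 ∨
      τ * σ * τ⁻¹ = Equiv.swap 0 1 * Equiv.swap 2 3 := by decide

theorem gen_eq (i : Fin 3) : Equiv.swap i.castSucc i.succ = gen i := by
  fin_cases i <;> rfl

theorem sq_of_order_two {G : Type*} [Group G] {d : G} (h : orderOf d = 2) : d * d = 1 := by
  have := pow_orderOf_eq_one d
  rw [h, pow_two] at this; exact this

/-- In a set of 3-transpositions, let a, b, c be members with a and c different and commuting, while neither a nor c commutes with b (a 3-string). Then there is an injective homomorphism from the symmetric group of degree 4 into the ambient group sending the transpositions (0 1), (1 2), (2 3) to a, b, c; so a, b, c generate a copy of the symmetric group of degree 4 in which they are transpositions. -/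
theorem result {G : Type*} [Group G] {D : Set G} (hD : Cfsg.IsThreeTranspositionSet D) {a b c : G} (ha : a ∈ D) (hb : b ∈ D) (hc : c ∈ D) (hac : a ≠ c) (hac' : Commute a c) (hab : ¬ Commute a b) (hbc : ¬ Commute b c) : ∃ φ : Equiv.Perm (Fin 4) →* G, Function.Injective φ ∧ φ (Equiv.swap 0 1) = a ∧ φ (Equiv.swap 1 2) = b ∧ φ (Equiv.swap 2 3) = c := by
  have haa : a * a = 1 := sq_of_order_two (hD.1 a ha)
  have hbb : b * b = 1 := sq_of_order_two (hD.1 b hb)
  have hcc : c * c = 1 := sq_of_order_two (hD.1 c hc)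
  have hainv : a⁻¹ = a := inv_eq_of_mul_eq_one_right haa
  have hbinv : b⁻¹ = b := inv_eq_of_mul_eq_one_right hbb
  have hcinv : c⁻¹ = c := inv_eq_of_mul_eq_one_right hcc
  -- braid relations
  have braid : ∀ x y : G, x ∈ D → y ∈ D → x * x = 1 → y * y = 1 → ¬ Commute x y →
      y * (x * y) = x * (y * x) := by
    intro x y hx hy hxx hyy hnc
    have hxinv : x⁻¹ = x := inv_eq_of_mul_eq_one_right hxx
    have hyinv : y⁻¹ = y := inv_eq_of_mul_eq_one_right hyy
    rcases hD.2 x hx y hy with h | h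
    · exfalso
      apply hnc
      rw [pow_two] at h
      show x * y = y * x
      have : x * y = (x * y)⁻¹ := (inv_eq_of_mul_eq_one_right h).symm
      rw [this, mul_inv_rev, hxinv, hyinv]
    · have h3 : x * y * (x * y) * (x * y) = 1 := by
        rw [← h, pow_succ, pow_two]
      have : y * (x * y) = (x * y * x)⁻¹ := by
        symm
        apply inv_eq_of_mul_eq_one_right
        rw [← h3]; group
      rw [this, mul_inv_rev, mul_inv_rev, hxinv, hyinv]
  have hbab : b * (a * b) = a * (b * a) := braid a b ha hb haa hbb hab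
  have hcbc : c * (b * c) = b * (c * b) := braid b c hb hc hbb hcc hbc
  have hca : c * a = a * c := hac'.eq.symm
  -- the map
  let f : Equiv.Perm (Fin 4) → G := fun σ => nf a b c (Eeq.symm σ)
  have hf1 : f 1 = 1 := by
    have : Eeq.symm 1 = (0, 0, 0) := by
      rw [Equiv.symm_apply_eq, Eeq_apply, E_zero]
    show nf a b c (Eeq.symm 1) = 1
    rw [this]
    simp [nf]
  have hkey : ∀ (s : Fin 3) (σ : Equiv.Perm (Fin 4)), f (gen s * σ) = ![a, b, c] s * f σ := by
    intro s σ
    obtain ⟨t, rfl⟩ := Eeq.surjective σ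
    have h1 : Eeq.symm (gen s * Eeq t) = T s t := by
      rw [Equiv.symm_apply_eq, Eeq_apply, Eeq_apply, E_T]
    show nf a b c (Eeq.symm (gen s * Eeq t)) = ![a, b, c] s * nf a b c (Eeq.symm (Eeq t))
    rw [h1, Equiv.symm_apply_apply]
    exact nf_T a b c haa hbb hcc hbab hcbc hca s t
  have hmul : ∀ w σ : Equiv.Perm (Fin 4), f (w * σ) = f w * f σ := by
    intro w
    have hw : w ∈ Submonoid.closure (Set.range fun i : Fin 3 => Equiv.swap i.castSucc i.succ) := by
      rw [Equiv.Perm.mclosure_swap_castSucc_succ]; trivial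
    induction hw using Submonoid.closure_induction with
    | mem x hx =>
      obtain ⟨i, rfl⟩ := hx
      intro σ
      simp only [gen_eq]
      rw [hkey i σ]
      have : f (gen i) = ![a, b, c] i := by
        have := hkey i 1
        rwa [mul_one, hf1, mul_one] at this
      rw [this]
    | one =>
      intro σ
      rw [one_mul, hf1, one_mul]
    | mul x y _ _ ihx ihy =>
      intro σ
      rw [mul_assoc, ihx, ihy, ihx, mul_assoc]
  let φ : Equiv.Perm (Fin 4) →* G :=
    { toFun := f
      map_one' := hf1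
      map_mul' := hmul }
  have hφgen : ∀ s : Fin 3, φ (gen s) = ![a, b, c] s := by
    intro s
    have := hkey s 1
    rwa [mul_one, hf1, mul_one] at this
  have hφ0 : φ (Equiv.swap 0 1) = a := hφgen 0
  have hφ1 : φ (Equiv.swap 1 2) = b := hφgen 1
  have hφ2 : φ (Equiv.swap 2 3) = c := hφgen 2
  refine ⟨φ, ?_, hφ0, hφ1, hφ2⟩
  rw [injective_iff_map_eq_one]
  intro σ hσ
  by_contra hne
  have hπ : φ (Equiv.swap 0 1 * Equiv.swap 2 3) = 1 := by
    obtain ⟨τ, ρ, h | h | h⟩ := ker_lemma σ hne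
    · rw [← h]; simp [map_mul, hσ]
    · rw [← h]; simp [map_mul, map_inv, hσ]
    · rw [← h]; simp [map_mul, hσ]
  rw [map_mul, hφ0, hφ2] at hπ
  apply hac
  have : c = a⁻¹ := (inv_eq_of_mul_eq_one_right hπ).symm
  rw [this, hainv]

end Cfsg.Agent.S5344
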