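import Cfsg.Statements.S5349
import Cfsg.Agent.S5344
import Cfsg.Agent.S0199
import Cfsg.Agent.Lib.Helper8_ThreeTransp

set_option autoImplicit false
open Cfsg

namespace Cfsg.Agent.S5349

open Cfsg.Agent.Lib.Helper8_ThreeTransp

section aux

variable {G : Type*} [Group G]

theorem pcore_normal : (Cfsg.pCore 2 G).Normal := Subgroup.sSup_normal _ (fun _ h => h.1)

theorem pcore_isPGroup : IsPGroup 2 (Cfsg.pCore 2 G) :=
  Sylow.sSup_of_normal _ (fun _ h => h.2) (fun _ h => h.1)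

theorem isPGroup_zpowers {x : G} {k : ℕ} (h : x ^ (2 ^ k) = 1) : IsPGroup 2 (Subgroup.zpowers x) := by
  rintro ⟨y, hy⟩
  obtain ⟨i, rfl⟩ := Subgroup.mem_zpowers_iff.1 hy
  refine ⟨k, Subtype.ext ?_⟩
  simp only [Subgroup.coe_pow, Subgroup.coe_one]
  rw [← zpow_natCast, ← zpow_mul, mul_comm, zpow_mul, zpow_natCast, h, one_zpow]

/-- two involutions whose product has order dividing 4 generate a 2-group -/
theorem isPGroup_sup_zpowers {z z' : G} (hz : z * z = 1) (hz' : z' * z' = 1)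
    (h4 : (z * z') ^ 4 = 1) : IsPGroup 2 ↥(Subgroup.zpowers z ⊔ Subgroup.zpowers z') := by
  have hzi : z⁻¹ = z := inv_eq_of_mul_eq_one_left hz
  have hzi' : z'⁻¹ = z' := inv_eq_of_mul_eq_one_left hz'
  have h1 : IsPGroup 2 (Subgroup.zpowers z) := isPGroup_zpowers (k := 1) (by rw [pow_one, pow_two, hz])
  have h2 : IsPGroup 2 (Subgroup.zpowers (z * z')) := isPGroup_zpowers (k := 2) (by simpa using h4)
  have hconj : z * (z * z') * z⁻¹ = (z * z')⁻¹ := by
    rw [mul_inv_rev, hzi, hzi', ← mul_assoc, hz, one_mul]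
  have hn : Subgroup.zpowers z ≤ Subgroup.normalizer (Subgroup.zpowers (z * z') : Set G) := by
    rw [Subgroup.zpowers_le, Subgroup.mem_normalizer_iff]
    have hfwd : ∀ h : G, h ∈ Subgroup.zpowers (z * z') → z * h * z⁻¹ ∈ Subgroup.zpowers (z * z') := by
      intro h hh
      obtain ⟨i, rfl⟩ := Subgroup.mem_zpowers_iff.1 hh
      rw [← conj_zpow, hconj]
      exact Subgroup.zpow_mem _ (Subgroup.inv_mem _ (Subgroup.mem_zpowers _)) _
    intro h
    refine ⟨hfwd h, fun hh => ?_⟩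
    have := hfwd _ hh
    rw [hzi] at this
    have e : z * (z * h * z) * z = h := by
      rw [show z * (z * h * z) * z = (z * z) * h * (z * z) by simp only [mul_assoc], hz, one_mul, mul_one]
    rwa [e] at this
  have h3 := IsPGroup.to_sup_of_normal_right' h1 h2 hn
  refine h3.to_le (sup_le le_sup_left ?_)
  rw [Subgroup.zpowers_le]
  have hm : z⁻¹ * (z * z') ∈ Subgroup.zpowers z ⊔ Subgroup.zpowers (z * z') :=
    Subgroup.mul_mem _ (Subgroup.inv_mem _ (Subgroup.mem_sup_left (Subgroup.mem_zpowers _)))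
      (Subgroup.mem_sup_right (Subgroup.mem_zpowers _))
  rwa [inv_mul_cancel_left] at hm

/-- conjugating the "same commuting pattern" relation -/
theorem conj_pattern {D : Set G} (hconj : ∀ g : G, ∀ d ∈ D, g * d * g⁻¹ ∈ D) {d v : G}
    (hV : ∀ e ∈ D, Commute v e ↔ Commute d e) (g : G) :
    ∀ e ∈ D, Commute (g * v * g⁻¹) e ↔ Commute (g * d * g⁻¹) e := by
  intro e he
  have he' : g⁻¹ * e * g ∈ D := by simpa using hconj g⁻¹ e he
  have key : ∀ x : G, Commute (g * x * g⁻¹) e ↔ Commute x (g⁻¹ * e * g) := by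
    intro x
    constructor
    · intro h
      have h' : g * x * g⁻¹ * e = e * (g * x * g⁻¹) := h
      show x * (g⁻¹ * e * g) = g⁻¹ * e * g * x
      have : x * (g⁻¹ * e * g) = g⁻¹ * (g * x * g⁻¹ * e) * g := by group
      rw [this, h']; group
    · intro h
      have h' : x * (g⁻¹ * e * g) = g⁻¹ * e * g * x := h
      show g * x * g⁻¹ * e = e * (g * x * g⁻¹)
      have : g * x * g⁻¹ * e = g * (x * (g⁻¹ * e * g)) * g⁻¹ := by group
      rw [this, h']; group
  rw [key, key]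
  exact hV _ he'

theorem sq_mul_of_commute {a b : G} (ha : a * a = 1) (hb : b * b = 1) (h : Commute a b) :
    (a * b) * (a * b) = 1 := by
  calc a * b * (a * b) = a * (b * a) * b := by simp only [mul_assoc]
    _ = a * (a * b) * b := by rw [h.eq]
    _ = (a * a) * (b * b) := by simp only [mul_assoc]
    _ = 1 := by rw [ha, hb, one_mul]

theorem key4 {D : Set G} (hD : Cfsg.IsThreeTranspositionSet D)
    (hconj : ∀ g : G, ∀ d ∈ D, g * d * g⁻¹ ∈ D) {d v d' v' : G} (hd : d ∈ D) (hv : v ∈ D)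
    (hd' : d' ∈ D) (hv' : v' ∈ D) (hdv : d ≠ v)
    (hV : ∀ e ∈ D, Commute v e ↔ Commute d e) (hV' : ∀ e ∈ D, Commute v' e ↔ Commute d' e) :
    ((d * v) * (d' * v')) ^ 4 = 1 := by
  have sd := mem_sq hD hd
  have sv := mem_sq hD hv
  have sd' := mem_sq hD hd'
  have sv' := mem_sq hD hv'
  have cdv : Commute d v := ((hV d hd).2 (Commute.refl d)).symm
  have cdv' : Commute d' v' := ((hV' d' hd').2 (Commute.refl d')).symm
  have sz : (d * v) * (d * v) = 1 := sq_mul_of_commute sd sv cdv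
  have sz' : (d' * v') * (d' * v') = 1 := sq_mul_of_commute sd' sv' cdv'
  by_cases hc : Commute d d'
  · have c1 : Commute v d' := (hV d' hd').2 hc
    have c2 : Commute v' d := (hV' d hd).2 hc.symm
    have c3 : Commute v v' := (hV v' hv').2 c2.symm
    have cc : Commute (d * v) (d' * v') :=
      Commute.mul_left (Commute.mul_right hc c2.symm) (Commute.mul_right c1 c3)
    have : ((d * v) * (d' * v')) ^ 2 = 1 := by
      rw [pow_two]; exact sq_mul_of_commute sz sz' cc
    rw [show (4 : ℕ) = 2 * 2 by norm_num, pow_mul, this, one_pow]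
  · have hc1 : ¬ Commute d' v := fun h => hc ((hV d' hd').1 h.symm)
    obtain ⟨φ, -, h01, h12, h23⟩ := Cfsg.Agent.S5344.result hD hd hd' hv hdv cdv hc hc1
    set z := d * v with hz
    have hzi : z⁻¹ = z := inv_eq_of_mul_eq_one_left sz
    set w := z * d' * z⁻¹ with hw
    set w' := z * v' * z⁻¹ with hw'
    have hwD : w ∈ D := hconj z d' hd'
    have hwD' : w' ∈ D := hconj z v' hv'
    have hW' : ∀ e ∈ D, Commute w' e ↔ Commute w e := conj_pattern hconj hV' z
    have hwφ : w = φ (Equiv.swap 0 3) := by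
      rw [hw, hz, ← h01, ← h12, ← h23, ← map_mul, ← map_mul, ← map_inv, ← map_mul]
      congr 1
      decide
    have cw : Commute d' w := by
      rw [hwφ, ← h12]
      show φ _ * φ _ = φ _ * φ _
      rw [← map_mul, ← map_mul]
      congr 1
      decide
    have c1 : Commute v' w := (hV' w hwD).2 cw
    have c2 : Commute w' d' := (hW' d' hd').2 cw.symm
    have c3 : Commute w' v' := (hW' v' hv').2 c1.symm
    have c4 : Commute w w' := ((hW' w hwD).2 (Commute.refl w)).symm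
    have sw : w * w = 1 := mem_sq hD hwD
    have sw' : w' * w' = 1 := mem_sq hD hwD'
    have cc : Commute (w * w') (d' * v') :=
      Commute.mul_left (Commute.mul_right cw.symm c1.symm) (Commute.mul_right c2 c3)
    have e1 : (z * (d' * v')) ^ 2 = (w * w') * (d' * v') := by
      rw [pow_two, hw, hw', hzi]
      simp only [mul_assoc]
      rw [← mul_assoc z z, sz, one_mul]
    have e2 : ((w * w') * (d' * v')) ^ 2 = 1 := by
      rw [pow_two]
      exact sq_mul_of_commute (sq_mul_of_commute sw sw' c4) sz' cc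
    rw [show (4 : ℕ) = 2 * 2 by norm_num, pow_mul, e1, e2]

theorem exists_not_commute {D : Set G} (hcl : Subgroup.closure D = ⊤) {d₀ : G}
    (hD0 : D = conjugatesOf d₀) {d v : G} (hd : d ∈ D) (hv : v ∈ D) (hdv : d ≠ v) :
    ∃ e ∈ D, ¬ Commute d e := by
  by_contra h
  push Not at h
  have h1 : d ∈ Subgroup.centralizer (D : Set G) := by
    rw [Subgroup.mem_centralizer_iff]
    intro e he
    exact (h e he).symm.eq
  rw [← Subgroup.centralizer_closure, hcl] at h1
  rw [hD0] at hd hv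
  have hd' : IsConj d₀ d := hd
  have hv' : IsConj d₀ v := hv
  obtain ⟨c, hc⟩ := isConj_iff.1 (hd'.symm.trans hv')
  apply hdv
  rw [← hc]
  have : c * d = d * c := by
    rw [Subgroup.mem_centralizer_iff] at h1
    exact h1 c (Subgroup.mem_top c)
  rw [this, mul_inv_cancel_right]

theorem mem_pcore_of_pattern [Finite G] {D : Set G} (hD : Cfsg.IsThreeTranspositionSet D)
    (hconj : ∀ g : G, ∀ d ∈ D, g * d * g⁻¹ ∈ D) {d v : G} (hd : d ∈ D) (hv : v ∈ D)
    (hdv : d ≠ v) (hV : ∀ e ∈ D, Commute v e ↔ Commute d e) : d * v ∈ Cfsg.pCore 2 G := by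
  have cdv : Commute d v := ((hV d hd).2 (Commute.refl d)).symm
  have sz : (d * v) * (d * v) = 1 := sq_mul_of_commute (mem_sq hD hd) (mem_sq hD hv) cdv
  have : Fact (Nat.Prime 2) := ⟨Nat.prime_two⟩
  have hBS : ∀ g : G, IsPGroup 2 ↥(Subgroup.zpowers (d * v) ⊔
      (Subgroup.zpowers (d * v)).map (MulAut.conj g).toMonoidHom) := by
    intro g
    rw [MonoidHom.map_zpowers]
    have e : (MulAut.conj g).toMonoidHom (d * v) = (g * d * g⁻¹) * (g * v * g⁻¹) := by
      simp [MulAut.conj_apply]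
    rw [e]
    have hV' := conj_pattern hconj hV g
    have hd' := hconj g d hd
    have hv' := hconj g v hv
    have c' : Commute (g * d * g⁻¹) (g * v * g⁻¹) := ((hV' _ hd').2 (Commute.refl _)).symm
    exact isPGroup_sup_zpowers sz (sq_mul_of_commute (mem_sq hD hd') (mem_sq hD hv') c')
      (key4 hD hconj hd hv hd' hv' hdv hV hV')
  obtain ⟨N, hN, hN2, hXN⟩ := Cfsg.Agent.S0199.result (p := 2) (Subgroup.zpowers (d * v))
    (isPGroup_zpowers (k := 1) (by rw [pow_one, pow_two, sz])) hBS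
  exact (le_sSup ⟨hN, hN2⟩ : N ≤ Cfsg.pCore 2 G) (hXN (Subgroup.mem_zpowers _))

theorem commute_of_coset [Finite G] {D : Set G} (hD : Cfsg.IsThreeTranspositionSet D) {a b e : G}
    (ha : a ∈ D) (hb : b ∈ D) (he : e ∈ D) (hab : a⁻¹ * b ∈ Cfsg.pCore 2 G)
    (hc : Commute a e) : Commute b e := by
  have hN := pcore_normal (G := G)
  have hP := pcore_isPGroup (G := G)
  rcases hD.2 e he b hb with h | h
  · exact (commute_of_sq (mem_sq hD he) (mem_sq hD hb) h).symm
  · have hai := mem_inv hD ha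
    have hbi := mem_inv hD hb
    have hei := mem_inv hD he
    have h2 : (e * b) ^ 2 ∈ Cfsg.pCore 2 G := by
      have e1 : (e * b) ^ 2 = a * ((e * (a⁻¹ * b) * e⁻¹) * (a⁻¹ * b)⁻¹) * a⁻¹ := by
        have hc' : e * a = a * e := hc.symm.eq
        rw [pow_two]
        calc e * b * (e * b) = e * b * (e⁻¹ * b⁻¹) := by rw [hei, hbi]
          _ = (e * a) * (a⁻¹ * b) * e⁻¹ * (b⁻¹ * a) * a⁻¹ := by group
          _ = (a * e) * (a⁻¹ * b) * e⁻¹ * (b⁻¹ * a) * a⁻¹ := by rw [hc']
          _ = _ := by group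
      rw [e1]
      exact hN.conj_mem _ (Subgroup.mul_mem _ (hN.conj_mem _ hab e) (Subgroup.inv_mem _ hab)) a
    have h3 : e * b ∈ Cfsg.pCore 2 G := by
      have : e * b = ((e * b) ^ 2)⁻¹ := by
        rw [eq_inv_iff_mul_eq_one, ← pow_succ']
        exact h
      rw [this]
      exact Subgroup.inv_mem _ h2
    obtain ⟨k, hk⟩ := hP ⟨e * b, h3⟩
    have hk' : (e * b) ^ (2 ^ k) = 1 := by
      have := congrArg Subtype.val hk
      simpa using this
    have ho1 : orderOf (e * b) ∣ 2 ^ k := orderOf_dvd_of_pow_eq_one hk'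
    have ho2 : orderOf (e * b) ∣ 3 := orderOf_dvd_of_pow_eq_one h
    have hco : Nat.Coprime (2 ^ k) 3 := Nat.Coprime.pow_left _ (by decide)
    have ho : orderOf (e * b) = 1 := Nat.eq_one_of_dvd_coprimes hco ho1 ho2
    have h1 : e * b = 1 := orderOf_eq_one_iff.1 ho
    have : e = b := by
      rw [← hbi]; exact eq_inv_of_mul_eq_one_left h1
    rw [this]

end aux

/-- Let D be a conjugacy class of 3-transpositions generating the finite group G, with at least two members, and d a member of D. Then the set of members of D commuting with exactly the same members of D as d coincides with the set of members of D lying in the coset of d modulo the largest normal 2-subgroup of G, and also with the orbit of d under conjugation by that normal 2-subgroup. -/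
theorem result {G : Type*} [Group G] [Finite G] {D : Set G} (hD : Cfsg.IsThreeTranspositionClass D) (hD2 : ∃ a ∈ D, ∃ b ∈ D, a ≠ b) {d : G} (hd : d ∈ D) : {v : G | v ∈ D ∧ ∀ e ∈ D, Commute v e ↔ Commute d e} = {v : G | v ∈ D ∧ d⁻¹ * v ∈ Cfsg.pCore 2 G} ∧ {v : G | v ∈ D ∧ ∀ e ∈ D, Commute v e ↔ Commute d e} = {v : G | ∃ g ∈ Cfsg.pCore 2 G, v = g * d * g⁻¹} := by
  obtain ⟨hS, ⟨d₀, hd₀, hD0⟩, hcl⟩ := hD
  have hconj : ∀ g : G, ∀ x ∈ D, g * x * g⁻¹ ∈ D := by
    intro g x hx
    rw [hD0] at hx ⊢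
    have hx' : IsConj d₀ x := hx
    exact (hx'.trans (isConj_iff.2 ⟨g, rfl⟩) : IsConj d₀ (g * x * g⁻¹))
  have hN := pcore_normal (G := G)
  have hdi : d⁻¹ = d := mem_inv hS hd
  have hA : ∀ v, (v ∈ D ∧ ∀ e ∈ D, Commute v e ↔ Commute d e) →
      (v ∈ D ∧ d⁻¹ * v ∈ Cfsg.pCore 2 G) := by
    rintro v ⟨hv, hV⟩
    refine ⟨hv, ?_⟩
    by_cases hdv : d = v
    · subst hdv
      rw [inv_mul_cancel]
      exact Subgroup.one_mem _
    · rw [hdi]
      exact mem_pcore_of_pattern hS hconj hd hv hdv hV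
  have hB : ∀ v, (v ∈ D ∧ d⁻¹ * v ∈ Cfsg.pCore 2 G) →
      (v ∈ D ∧ ∀ e ∈ D, Commute v e ↔ Commute d e) := by
    rintro v ⟨hv, hz⟩
    refine ⟨hv, fun e he => ⟨fun h => ?_, fun h => ?_⟩⟩
    · refine commute_of_coset hS hv hd he ?_ h
      have : v⁻¹ * d = (d⁻¹ * v)⁻¹ := by group
      rw [this]
      exact Subgroup.inv_mem _ hz
    · exact commute_of_coset hS hd hv he hz h
  have hC : ∀ v, (v ∈ D ∧ ∀ e ∈ D, Commute v e ↔ Commute d e) →
      ∃ g ∈ Cfsg.pCore 2 G, v = g * d * g⁻¹ := by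
    rintro v ⟨hv, hV⟩
    by_cases hdv : d = v
    · exact ⟨1, Subgroup.one_mem _, by simp [hdv]⟩
    · obtain ⟨e, he, hne⟩ := exists_not_commute hcl hD0 hd hv hdv
      have cdv : Commute d v := ((hV d hd).2 (Commute.refl d)).symm
      have hne' : ¬ Commute e v := fun h => hne ((hV e he).1 h.symm)
      obtain ⟨φ, -, h01, h12, h23⟩ := Cfsg.Agent.S5344.result hS hd he hv hdv cdv hne hne'
      have hz := mem_pcore_of_pattern hS hconj hd hv hdv hV
      refine ⟨e * (d * v) * e⁻¹, hN.conj_mem _ hz e, ?_⟩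
      have hp : (Equiv.swap (1 : Fin 4) 2 * (Equiv.swap 0 1 * Equiv.swap 2 3) * (Equiv.swap 1 2)⁻¹)
          * Equiv.swap 0 1 * (Equiv.swap 1 2 * (Equiv.swap 0 1 * Equiv.swap 2 3) *
            (Equiv.swap 1 2)⁻¹)⁻¹ = Equiv.swap 2 3 := by decide
      have := congrArg φ hp
      simp only [map_mul, map_inv, h01, h12, h23] at this
      exact this.symm
  have hDd : ∀ v, (∃ g ∈ Cfsg.pCore 2 G, v = g * d * g⁻¹) →
      (v ∈ D ∧ d⁻¹ * v ∈ Cfsg.pCore 2 G) := by
    rintro v ⟨g, hg, rfl⟩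
    refine ⟨hconj g d hd, ?_⟩
    have : d⁻¹ * (g * d * g⁻¹) = (d⁻¹ * g * d⁻¹⁻¹) * g⁻¹ := by group
    rw [this]
    exact Subgroup.mul_mem _ (hN.conj_mem g hg d⁻¹) (Subgroup.inv_mem _ hg)
  refine ⟨Set.ext fun v => ⟨hA v, hB v⟩, Set.ext fun v => ⟨hC v, fun h => hB v (hDd v h)⟩⟩

end Cfsg.Agent.S5349
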