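import Mathlib
import Cfsg.Statements.S5353
import Cfsg.Agent.S5349
import Cfsg.Agent.S5352
import Cfsg.Agent.Lib.Helper89_Blocks
import Cfsg.Agent.Lib.Helper89_TTClass
import Cfsg.Agent.Lib.Helper89_TTQuasi
import Cfsg.Agent.Lib.Helper89_InvolSylow
import Cfsg.Agent.Lib.Helper21_Components
import Cfsg.Agent.Lib.Helper21_FStar
import Cfsg.Agent.Lib.Helper29_Local

set_option autoImplicit false
open Cfsg

namespace Cfsg.Agent.S5353

open Cfsg.Agent.Lib.Helper89_TTClass Cfsg.Agent.Lib.Helper89_TTQuasi
  Cfsg.Agent.Lib.Helper89_InvolSylow Cfsg.Agent.Lib.Helper89_Blocks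

variable {G : Type*} [Group G]

/-- `C_G(L) ≤ Z(G)` when `F*(G) = L Z(G)` and `F(G) = Z(G)`. -/
theorem centralizer_le_center [Finite G] {D : Set G} (hD : Cfsg.IsThreeTranspositionClass D)
    (h2 : Cfsg.pCore 2 G ≤ Subgroup.center G) (h3 : Cfsg.pCore 3 G ≤ Subgroup.center G)
    (L : Subgroup G) [hLn : L.Normal]
    (hF : Cfsg.generalizedFittingSubgroup G = L ⊔ Subgroup.center G) :
    Subgroup.centralizer (L : Set G) ≤ Subgroup.center G := by
  intro x hx
  -- `x` centralizes `F*(G)`
  have hxF : x ∈ Subgroup.centralizer (Cfsg.generalizedFittingSubgroup G : Set G) := by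
    rw [hF, Subgroup.mem_centralizer_iff]
    intro y hy
    have hy' : y ∈ ((L ⊔ Subgroup.center G : Subgroup G) : Set G) := hy
    rw [Subgroup.normal_mul, Set.mem_mul] at hy'
    obtain ⟨l, hl, z, hz, rfl⟩ := hy'
    have h1 : l * x = x * l := Subgroup.mem_centralizer_iff.mp hx l hl
    have h2 : x * z = z * x := Subgroup.mem_center_iff.mp hz x
    calc l * z * x = l * (z * x) := by group
      _ = l * (x * z) := by rw [h2]
      _ = (l * x) * z := by group
      _ = x * l * z := by rw [h1]
      _ = x * (l * z) := by group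
  have hxF' := Cfsg.Agent.Lib.Helper21_FStar.centralizer_generalizedFitting_le hxF
  rw [hF] at hxF'
  have hx' : x ∈ ((L ⊔ Subgroup.center G : Subgroup G) : Set G) := hxF'
  rw [Subgroup.normal_mul, Set.mem_mul] at hx'
  obtain ⟨l, hl, z, hz, rfl⟩ := hx'
  -- `l` is central in `L`
  have hlc : (⟨l, hl⟩ : ↥L) ∈ Subgroup.center ↥L := by
    rw [Subgroup.mem_center_iff]
    rintro ⟨m, hm⟩
    apply Subtype.ext
    have h1 : m * (l * z) = (l * z) * m := Subgroup.mem_centralizer_iff.mp hx m hm
    have h2 : m * z = z * m := Subgroup.mem_center_iff.mp hz m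
    show m * l = l * m
    have h3 : m * l * z = l * m * z := by
      calc m * l * z = m * (l * z) := by group
        _ = (l * z) * m := h1
        _ = l * (z * m) := by group
        _ = l * (m * z) := by rw [h2]
        _ = l * m * z := by group
    exact mul_right_cancel h3
  -- the centre of `L` is central in `G`
  have hN : ((Subgroup.center ↥L).map L.subtype).Normal := ConjAct.normal_of_characteristic_of_normal
  have hcomm : IsMulCommutative ↥((Subgroup.center ↥L).map L.subtype) := by
    refine ⟨⟨?_⟩⟩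
    rintro ⟨_, ⟨a, ha, rfl⟩⟩ ⟨_, ⟨b, hb, rfl⟩⟩
    apply Subtype.ext
    have := Subgroup.mem_center_iff.mp ha b
    have h4 := congrArg Subtype.val this
    exact h4.symm
  have hnil : Group.IsNilpotent ↥((Subgroup.center ↥L).map L.subtype) :=
    Cfsg.Agent.Lib.Helper29_Local.isNilpotent_of_isMulCommutative
  have hle : (Subgroup.center ↥L).map L.subtype ≤ Subgroup.center G := by
    rw [← Cfsg.Agent.S5352.fittingSubgroup_eq_center hD h2 h3]
    exact Cfsg.Agent.Lib.Helper29_Local.le_fittingSubgroup _ hnil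
  have hlG : l ∈ Subgroup.center G := hle ⟨⟨l, hl⟩, hlc, rfl⟩
  exact mul_mem hlG hz

/-- If `L` has index at most two then `L` is transitive on `D`. -/
theorem exists_conj_mem [Finite G] {D : Set G} (hD : Cfsg.IsThreeTranspositionClass D)
    (L : Subgroup G) [hLn : L.Normal] (hidx : L.index ≤ 2) {a x : G} (ha : a ∈ D) (hx : x ∈ D) :
    ∃ l ∈ L, l * a * l⁻¹ = x := by
  obtain ⟨g, rfl⟩ := exists_conj hD ha hx
  have hpos : L.index ≠ 0 := Subgroup.index_ne_zero_of_finite
  have h12 : L.index = 1 ∨ L.index = 2 := by omega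
  rcases h12 with h1 | h2
  · rw [Subgroup.index_eq_one] at h1
    exact ⟨g, h1 ▸ Subgroup.mem_top g, rfl⟩
  · by_cases hg : g ∈ L
    · exact ⟨g, hg, rfl⟩
    · have haL : a ∉ L := by
        intro haL
        have hDL : D ⊆ L := by
          intro y hy
          obtain ⟨k, rfl⟩ := exists_conj hD ha hy
          exact hLn.conj_mem a haL k
        have : (⊤ : Subgroup G) ≤ L := by
          rw [← hD.2.2, Subgroup.closure_le]; exact hDL
        exact hg (this (Subgroup.mem_top g))
      have hga : g * a ∈ L := (Subgroup.mul_mem_iff_of_index_two h2).mpr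
        ⟨fun h => absurd h hg, fun h => absurd h haL⟩
      refine ⟨g * a, hga, ?_⟩
      group

/-- If `L` has index at most two then `G` acts primitively on `D`. -/
theorem isPrimitive [Finite G] {D : Set G} (hD : Cfsg.IsThreeTranspositionClass D)
    (hD2 : ∃ a ∈ D, ∃ b ∈ D, a ≠ b) (h2 : Cfsg.pCore 2 G ≤ Subgroup.center G)
    (h3 : Cfsg.pCore 3 G ≤ Subgroup.center G) (L : Subgroup G) [hLn : L.Normal]
    (hL : Cfsg.IsQuasisimple L)
    (hF : Cfsg.generalizedFittingSubgroup G = L ⊔ Subgroup.center G) (hidx : L.index ≤ 2) :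
    Cfsg.IsPrimitiveUnderConj D := by
  refine ⟨fun a ha b hb => exists_conj hD ha hb, hD2, ?_⟩
  intro B hBD hB
  by_contra hcon
  push Not at hcon
  obtain ⟨hns, hne⟩ := hcon
  obtain ⟨a, ha, b, hb, hab⟩ := hns
  have hBlock : IsBlock B := hB
  have haD := hBD ha
  have hbD := hBD hb
  have haa := sq_of_orderOf_two (hD.1.1 a haD)
  have hKn : (Cfsg.Agent.Lib.Helper89_Blocks.blockKer B).Normal := Cfsg.Agent.Lib.Helper89_Blocks.blockKer_normal B
  have habK : a * b ∈ Cfsg.Agent.Lib.Helper89_Blocks.blockKer B := mul_mem_blockKer hD hBD hBlock ha hb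
  have hLK : ¬ L ≤ Cfsg.Agent.Lib.Helper89_Blocks.blockKer B := by
    intro hLK
    apply hne
    apply Set.Subset.antisymm hBD
    intro x hx
    obtain ⟨l, hl, rfl⟩ := exists_conj_mem hD L hidx haD hx
    have h1 := hLK hl 1
    rw [cj_one] at h1
    rw [← h1]
    exact conj_mem_cj ha
  have hKL : (Cfsg.Agent.Lib.Helper89_Blocks.blockKer B).subgroupOf L ≤ Subgroup.center ↥L := by
    rcases Cfsg.Agent.Lib.Helper21_Components.IsQuasisimple.normal_eq_top_or_le_center hL
      ((Cfsg.Agent.Lib.Helper89_Blocks.blockKer B).subgroupOf L) with h | h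
    · exact absurd (Subgroup.subgroupOf_eq_top.mp h) hLK
    · exact h
  have h1 : ⁅⁅Cfsg.Agent.Lib.Helper89_Blocks.blockKer B, L⁆, L⁆ = ⊥ := by
    rw [Subgroup.commutator_eq_bot_iff_le_centralizer]
    have hle : ⁅Cfsg.Agent.Lib.Helper89_Blocks.blockKer B, L⁆ ≤ Cfsg.Agent.Lib.Helper89_Blocks.blockKer B ⊓ L :=
      le_inf (Subgroup.commutator_le_left _ _) (Subgroup.commutator_le_right _ _)
    intro t ht
    obtain ⟨htK, htL⟩ := hle ht
    rw [Subgroup.mem_centralizer_iff]
    intro l hl
    have h4 : (⟨t, htL⟩ : ↥L) ∈ (Cfsg.Agent.Lib.Helper89_Blocks.blockKer B).subgroupOf L := by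
      rw [Subgroup.mem_subgroupOf]; exact htK
    have h5 := Subgroup.mem_center_iff.mp (hKL h4) ⟨l, hl⟩
    exact congrArg Subtype.val h5
  have hperf : ⁅L, L⁆ = L := Subgroup.isPerfect_iff.mp hL.1
  have h4 : ⁅L, Cfsg.Agent.Lib.Helper89_Blocks.blockKer B⁆ = ⊥ :=
    Cfsg.Agent.Lib.Helper21_Components.commutator_eq_bot_of_perfect hperf h1
  have h5 : Cfsg.Agent.Lib.Helper89_Blocks.blockKer B ≤ Subgroup.centralizer (L : Set G) := by
    rw [Subgroup.commutator_comm] at h4
    exact Subgroup.commutator_eq_bot_iff_le_centralizer.mp h4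
  have hz : a * b ∈ Subgroup.center G := centralizer_le_center hD h2 h3 L hF (h5 habK)
  -- `b` has the same commuting partners as `a`
  have hbz : b = a * (a * b) := by rw [← mul_assoc, haa, one_mul]
  have hW : b ∈ {v : G | v ∈ D ∧ ∀ e ∈ D, Commute v e ↔ Commute a e} := by
    refine ⟨hbD, fun e _ => ?_⟩
    have hze : (a * b) * e = e * (a * b) := (Subgroup.mem_center_iff.mp hz e).symm
    constructor
    · intro hc
      have h6 : a * (a * b) * e = e * (a * (a * b)) := by rw [← hbz]; exact hc.eq
      show a * e = e * a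
      have h7 : a * e * (a * b) = e * a * (a * b) := by
        calc a * e * (a * b) = a * (e * (a * b)) := by group
          _ = a * ((a * b) * e) := by rw [hze]
          _ = a * (a * b) * e := by group
          _ = e * (a * (a * b)) := h6
          _ = e * a * (a * b) := by group
      exact mul_right_cancel h7
    · intro hc
      rw [hbz]
      show a * (a * b) * e = e * (a * (a * b))
      calc a * (a * b) * e = a * ((a * b) * e) := by group
        _ = a * (e * (a * b)) := by rw [hze]
        _ = (a * e) * (a * b) := by group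
        _ = (e * a) * (a * b) := by rw [hc.eq]
        _ = e * (a * (a * b)) := by group
  rw [(Cfsg.Agent.S5349.result hD hD2 haD).2] at hW
  obtain ⟨g, hg, hbg⟩ := hW
  apply hab
  have hgc : g * a = a * g := Subgroup.mem_center_iff.mp (h2 hg) a |>.symm
  rw [hbg, hgc]
  group

/-- If the commuting graph is connected then `L` has index at most two. -/
theorem index_le_two_of_connected [Finite G] {D : Set G} (hD : Cfsg.IsThreeTranspositionClass D)
    (L : Subgroup G) [hLn : L.Normal] (hL : Cfsg.IsQuasisimple L)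
    (hconn : (Cfsg.commutingGraph D).Connected) : L.index ≤ 2 := by
  obtain ⟨d, hd⟩ := nonempty hD
  have key : ∀ (u v : D) (p : (Cfsg.commutingGraph D).Walk u v), (u : G)⁻¹ * (v : G) ∈ L := by
    intro u v p
    induction p with
    | nil => simp
    | @cons u' v' w' hadj p ih =>
      have h1 : (u' : G)⁻¹ * (v' : G) ∈ L := by
        unfold Cfsg.commutingGraph at hadj
        rw [SimpleGraph.fromRel_adj] at hadj
        obtain ⟨_, hc⟩ := hadj
        have hc' : Commute (u' : G) (v' : G) := by
          rcases hc with h | h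
          · exact h
          · exact h.symm
        apply Cfsg.Agent.S5352.mul_mem_of_commutator_mem hD L hL u'.2 v'.2
        have e : (u' : G) * v' * (u' : G)⁻¹ * (v' : G)⁻¹ = 1 := by rw [hc'.eq]; group
        rw [e]
        exact one_mem _
      have e : (u' : G)⁻¹ * w' = ((u' : G)⁻¹ * v') * ((v' : G)⁻¹ * w') := by group
      rw [e]
      exact mul_mem h1 ih
  have hsup : Subgroup.zpowers d ⊔ L = ⊤ := by
    rw [eq_top_iff, ← hD.2.2, Subgroup.closure_le]
    intro x hx
    obtain ⟨p⟩ := hconn.preconnected ⟨d, hd⟩ ⟨x, hx⟩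
    have h1 := key _ _ p
    have e : x = d * (d⁻¹ * x) := by group
    rw [SetLike.mem_coe, e]
    exact mul_mem ((le_sup_left : Subgroup.zpowers d ≤ _) (Subgroup.mem_zpowers d))
      ((le_sup_right : L ≤ Subgroup.zpowers d ⊔ L) h1)
  have h1 : L.relIndex (Subgroup.zpowers d ⊔ L) = L.relIndex (Subgroup.zpowers d) :=
    Subgroup.relIndex_sup_right _ _
  rw [hsup, Subgroup.relIndex_top_right] at h1
  have h4 := Subgroup.relIndex_dvd_card L (Subgroup.zpowers d)
  rw [Nat.card_zpowers, hD.1.1 d hd, ← h1] at h4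
  exact Nat.le_of_dvd (by norm_num) h4

/-- Let D be a conjugacy class of 3-transpositions generating the finite group G, with at least two members, such that the largest normal 2-subgroup and the largest normal 3-subgroup of G are central, and let L be a quasisimple normal subgroup with generalized Fitting subgroup of G equal to L times the centre. If L has index at most 2 then G acts primitively on D by conjugation; and if the commuting graph of D is connected then L has index at most 2. -/
theorem result {G : Type*} [Group G] [Finite G] {D : Set G} (hD : Cfsg.IsThreeTranspositionClass D) (hD2 : ∃ a ∈ D, ∃ b ∈ D, a ≠ b) (h2 : Cfsg.pCore 2 G ≤ Subgroup.center G) (h3 : Cfsg.pCore 3 G ≤ Subgroup.center G) (L : Subgroup G) [L.Normal] (hL : Cfsg.IsQuasisimple L) (hF : Cfsg.generalizedFittingSubgroup G = L ⊔ Subgroup.center G) : (L.index ≤ 2 → Cfsg.IsPrimitiveUnderConj D) ∧ ((Cfsg.commutingGraph D).Connected → L.index ≤ 2) :=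
  ⟨fun hidx => isPrimitive hD hD2 h2 h3 L hL hF hidx,
    fun hconn => index_le_two_of_connected hD L hL hconn⟩

end Cfsg.Agent.S5353
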