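import Mathlib
import Cfsg.Statements.S5354
import Cfsg.Agent.S5352
import Cfsg.Agent.S5353
import Cfsg.Agent.Lib.Helper89_Prim
import Cfsg.Agent.Lib.Helper89_Modules
import Cfsg.Agent.Lib.Helper89_TTClass
import Cfsg.Agent.Lib.Helper89_Theta
import Cfsg.Agent.Lib.Helper89_InvolSylow

set_option autoImplicit false
open Cfsg

namespace Cfsg.Agent.S5354

open Cfsg.Agent.Lib.Helper89_TTClass Cfsg.Agent.Lib.Helper89_Theta
  Cfsg.Agent.Lib.Helper89_InvolSylow Cfsg.Agent.Lib.Helper89_Prim
  Cfsg.Agent.Lib.Helper89_Modules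

variable {G : Type*} [Group G]

/-- The subgroup generated by the members of `D` commuting with `d` is proper. -/
theorem closure_ne_top {D : Set G} (hD : Cfsg.IsThreeTranspositionClass D)
    (hD2 : ∃ a ∈ D, ∃ b ∈ D, a ≠ b) {d : G} (hd : d ∈ D) :
    Subgroup.closure {y : G | y ∈ D ∧ Commute d y} ≠ ⊤ := by
  intro htop
  have hle : Subgroup.closure {y : G | y ∈ D ∧ Commute d y} ≤ Subgroup.centralizer {d} := by
    rw [Subgroup.closure_le]
    intro y hy
    rw [SetLike.mem_coe, Subgroup.mem_centralizer_iff]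
    intro z hz
    rw [Set.mem_singleton_iff] at hz
    rw [hz]
    exact hy.2.eq
  rw [htop] at hle
  have hdc : d ∈ Subgroup.center G := by
    rw [Subgroup.mem_center_iff]
    intro g
    have := hle (Subgroup.mem_top g)
    rw [Subgroup.mem_centralizer_iff] at this
    exact (this d rfl).symm
  obtain ⟨a, ha, b, hb, hab⟩ := hD2
  apply hab
  rw [← eq_of_mem_center hD hd ha hdc, ← eq_of_mem_center hD hd hb hdc]

/-- A subgroup containing all members of `D` commuting with `d` and one member not commuting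
with `d` is everything. -/
theorem eq_top_of_not_commute [Finite G] {D : Set G} (hD : Cfsg.IsThreeTranspositionClass D)
    (hprim : Cfsg.IsPrimitiveUnderConj D) (hconn : (Cfsg.commutingGraph D).Connected) {d : G}
    (hd : d ∈ D) (H : Subgroup G) (hle : Subgroup.closure {y : G | y ∈ D ∧ Commute d y} ≤ H)
    {a : G} (ha : a ∈ D) (haH : a ∈ H) (hnc : ¬ Commute d a) : H = ⊤ := by
  have hdH : d ∈ H := hle (Subgroup.subset_closure ⟨hd, Commute.refl d⟩)
  have hSD : {x : G | ∃ h ∈ H, x = h * d * h⁻¹} ⊆ D := by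
    rintro _ ⟨h, _, rfl⟩
    exact conj_mem hD h hd
  have hSH : {x : G | ∃ h ∈ H, x = h * d * h⁻¹} ⊆ H := by
    rintro _ ⟨h, hh, rfl⟩
    exact mul_mem (mul_mem hh hdH) (inv_mem hh)
  have hdS : d ∈ {x : G | ∃ h ∈ H, x = h * d * h⁻¹} := ⟨1, one_mem _, by group⟩
  have hdi := inv_of_orderOf_two (hD.1.1 d hd)
  have hai := inv_of_orderOf_two (hD.1.1 a ha)
  have hdd := sq_of_orderOf_two (hD.1.1 d hd)
  have haS : a ∈ {x : G | ∃ h ∈ H, x = h * d * h⁻¹} := by
    refine ⟨d * a, mul_mem hdH haH, ?_⟩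
    have hbr : d * a * d = a * d * a := braid_of_not_commute hD hd ha hnc
    rw [mul_inv_rev, hdi, hai]
    calc a = (d * d) * a * (d * d) := by rw [hdd]; group
      _ = d * (d * a * d) * d := by group
      _ = d * (a * d * a) * d := by rw [hbr]
      _ = d * a * d * (a * d) := by group
  -- members of `D` commuting with a member of `S` lie in `H`
  have hcomm : ∀ x ∈ {x : G | ∃ h ∈ H, x = h * d * h⁻¹}, ∀ y ∈ D, Commute y x → y ∈ H := by
    rintro _ ⟨h, hh, rfl⟩ y hy hc
    have h1 : h⁻¹ * y * h ∈ D := by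
      have := conj_mem hD h⁻¹ hy
      simpa using this
    have h2 : Commute d (h⁻¹ * y * h) := by
      have := (Commute.conj_iff h⁻¹).mpr hc.symm
      have e : h⁻¹ * (h * d * h⁻¹) * h⁻¹⁻¹ = d := by group
      have e' : h⁻¹ * y * h⁻¹⁻¹ = h⁻¹ * y * h := by group
      rwa [e, e'] at this
    have h3 : h⁻¹ * y * h ∈ H := hle (Subgroup.subset_closure ⟨h1, h2⟩)
    have e : y = h * (h⁻¹ * y * h) * h⁻¹ := by group
    rw [e]
    exact mul_mem (mul_mem hh h3) (inv_mem hh)
  -- `S` is a module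
  have hmod : IsModule D {x : G | ∃ h ∈ H, x = h * d * h⁻¹} := by
    intro y hy hyS x hx x' hx' hc
    have hyH : y ∈ H := hcomm x hx y hy hc
    by_contra hnc'
    apply hyS
    obtain ⟨h, hh, rfl⟩ := hx'
    have hx'D : h * d * h⁻¹ ∈ D := conj_mem hD h hd
    have hx'H : h * d * h⁻¹ ∈ H := mul_mem (mul_mem hh hdH) (inv_mem hh)
    have hbr : y * (h * d * h⁻¹) * y = (h * d * h⁻¹) * y * (h * d * h⁻¹) :=
      braid_of_not_commute hD hy hx'D hnc'
    have hyy := sq_of_orderOf_two (hD.1.1 y hy)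
    have hyi := inv_of_orderOf_two (hD.1.1 y hy)
    have hxi := inv_of_orderOf_two (hD.1.1 _ hx'D)
    have hxx := sq_of_orderOf_two (hD.1.1 _ hx'D)
    refine ⟨(h * d * h⁻¹) * y * h, mul_mem (mul_mem hx'H hyH) hh, ?_⟩
    have e : (h * d * h⁻¹) * y * h * d * ((h * d * h⁻¹) * y * h)⁻¹
        = (h * d * h⁻¹) * (y * (h * d * h⁻¹) * y⁻¹) * (h * d * h⁻¹)⁻¹ := by group
    rw [e, hyi, hbr, hxi]
    calc y = ((h * d * h⁻¹) * (h * d * h⁻¹)) * y * ((h * d * h⁻¹) * (h * d * h⁻¹)) := by
          rw [hxx]; group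
      _ = h * d * h⁻¹ * (h * d * h⁻¹ * y * (h * d * h⁻¹)) * (h * d * h⁻¹) := by group
  have hnt : {x : G | ∃ h ∈ H, x = h * d * h⁻¹}.Nontrivial := by
    refine ⟨d, hdS, a, haS, ?_⟩
    intro h
    apply hnc
    rw [← h]
  have hS : {x : G | ∃ h ∈ H, x = h * d * h⁻¹} = D :=
    module_eq_of_prim hD hprim hconn _ _ hSD hmod hnt rfl
  rw [eq_top_iff, ← hD.2.2, Subgroup.closure_le, ← hS]
  exact hSH

/-- Let D be a conjugation-invariant generating set of 3-transpositions of the finite group G on which G acts primitively by conjugation, and suppose two different members of D commute (width at least 2). Then G has a quasisimple normal subgroup L of index at most 2 with the generalized Fitting subgroup of G equal to L times the centre, the commuting graph of D is connected, and for d in D the subgroup generated by the members of D commuting with d is a maximal D-subgroup: it is proper, and every subgroup generated by members of D that contains it is either it or G. -/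
theorem result {G : Type*} [Group G] [Finite G] {D : Set G} (hD : Cfsg.IsThreeTranspositionGroup D) (hprim : Cfsg.IsPrimitiveUnderConj D) (hw : ∃ a ∈ D, ∃ b ∈ D, a ≠ b ∧ Commute a b) : (∃ L : Subgroup G, L.Normal ∧ Cfsg.IsQuasisimple L ∧ L.index ≤ 2 ∧ Cfsg.generalizedFittingSubgroup G = L ⊔ Subgroup.center G) ∧ (Cfsg.commutingGraph D).Connected ∧ ∀ d ∈ D, Subgroup.closure {y : G | y ∈ D ∧ Commute d y} ≠ ⊤ ∧ ∀ H : Subgroup G, Cfsg.IsDSubgroup D H → Subgroup.closure {y : G | y ∈ D ∧ Commute d y} ≤ H → H = Subgroup.closure {y : G | y ∈ D ∧ Commute d y} ∨ H = ⊤ := by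
  have hC : Cfsg.IsThreeTranspositionClass D := isClass_of_prim hD hprim
  have hD2 : ∃ a ∈ D, ∃ b ∈ D, a ≠ b := hprim.2.1
  have h2 := pCore_two_le_center_of_prim hC hprim
  have h3 := pCore_three_le_center_of_prim hC hprim hw
  have hconn := connected_of_prim hC hprim hw
  refine ⟨?_, hconn, ?_⟩
  · obtain ⟨L, hLn, hLq, hF, _⟩ := Cfsg.Agent.S5352.result hC hD2 h2 h3
    exact ⟨L, hLn, hLq, (Cfsg.Agent.S5353.result hC hD2 h2 h3 L hLq hF).2 hconn, hF⟩
  · intro d hd
    refine ⟨closure_ne_top hC hD2 hd, ?_⟩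
    intro H hH hle
    by_cases hall : ∀ x ∈ D, x ∈ H → Commute d x
    · left
      apply le_antisymm _ hle
      unfold Cfsg.IsDSubgroup at hH
      rw [← hH]
      apply Subgroup.closure_mono
      intro x hx
      exact ⟨hx.1, hall x hx.1 hx.2⟩
    · right
      push Not at hall
      obtain ⟨a, ha, haH, hnc⟩ := hall
      exact eq_top_of_not_commute hC hprim hconn hd H hle ha haH hnc

end Cfsg.Agent.S5354
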