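import Cfsg.Statements.S1850
import Mathlib
import Cfsg.Agent.Lib.Helper23_CharP
import Cfsg.Agent.Lib.Helper49_CharP4
import Cfsg.Agent.Lib.Helper47_SubAPI
import Cfsg.Agent.Lib.Helper33_Alperin

set_option autoImplicit false
open Cfsg

namespace Cfsg.Agent.S1850

open Cfsg.Agent.Lib.Helper33_Conj Cfsg.Agent.Lib.Helper33_Alperin Cfsg.Agent.Lib.Helper49_CharP
  Cfsg.Agent.Lib.Helper47_SubAPI

section aux
variable {G : Type*} [Group G] {p : ℕ}

/-- ambient form of characteristic `p` for a subgroup -/
def CharpIn (p : ℕ) (L : Subgroup G) : Prop :=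
  L ⊓ Subgroup.centralizer ((Cfsg.pCoreOf p L : Subgroup G) : Set G) ≤ Cfsg.pCoreOf p L

theorem charpIn_iff (L : Subgroup G) : IsCharP p ↥L ↔ CharpIn p L := charP_iff L

/-- the normalizer of `L` normalizes `O_p(L)` -/
theorem normalizer_le_normalizer_pCoreOf (L : Subgroup G) :
    Subgroup.normalizer (L : Set G) ≤
      Subgroup.normalizer ((Cfsg.pCoreOf p L : Subgroup G) : Set G) := by
  have key : ∀ g ∈ Subgroup.normalizer (L : Set G),
      cj g (Cfsg.pCoreOf p L) ≤ Cfsg.pCoreOf p L := by
    intro g hg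
    have hgL : cj g L = L := mem_normalizer_iff_cj.mp hg
    apply le_pCoreOf
    · calc cj g (Cfsg.pCoreOf p L) ≤ cj g L := cj_mono (pCoreOf_le L)
        _ = L := hgL
    · rw [← cj_normalizer]
      calc L = cj g L := hgL.symm
        _ ≤ cj g (Subgroup.normalizer ((Cfsg.pCoreOf p L : Subgroup G) : Set G)) :=
          cj_mono (le_normalizer_pCoreOf L)
    · exact isPGroup_cj (isPGroup_pCoreOf L)
  intro g hg
  rw [mem_normalizer_iff_cj]
  apply le_antisymm (key g hg)
  have h := cj_le_iff.mp (key g⁻¹ (inv_mem hg))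
  rwa [inv_inv] at h

variable [Finite G] [Fact p.Prime]

/-- the centralizer of a `p`-group acting on a group of characteristic `p` has characteristic `p` -/
theorem charpIn_inf_centralizer (H V : Subgroup G) (hH : CharpIn p H) (hV : IsPGroup p V)
    (hVH : V ≤ Subgroup.normalizer (H : Set G)) :
    CharpIn p (H ⊓ Subgroup.centralizer (V : Set G)) := by
  set Q := Cfsg.pCoreOf p H with hQ
  have hQp : IsPGroup p Q := isPGroup_pCoreOf H
  have hQH : Q ≤ H := pCoreOf_le H
  have hHQ : H ≤ Subgroup.normalizer (Q : Set G) := le_normalizer_pCoreOf H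
  have hVQ : V ≤ Subgroup.normalizer (Q : Set G) :=
    hVH.trans (normalizer_le_normalizer_pCoreOf H)
  set W := H ⊓ Subgroup.centralizer (V : Set G) with hW
  set R := Cfsg.pCoreOf p W with hR
  have hWR : W ≤ Subgroup.normalizer (R : Set G) := le_normalizer_pCoreOf W
  have ha : Q ⊓ Subgroup.centralizer (V : Set G) ≤ R := by
    apply le_pCoreOf
    · exact inf_le_inf_right _ hQH
    · refine le_trans ?_ (normalizer_inf_le_normalizer_inf Q (Subgroup.centralizer (V : Set G)))
      exact le_inf (inf_le_left.trans hHQ) (inf_le_right.trans Subgroup.le_normalizer)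
    · exact hQp.to_le inf_le_left
  have hDp : IsPGroup p ↥(W ⊓ Subgroup.centralizer (R : Set G)) := by
    apply isPGroup_of_forall_coprime_eq_one
    intro x hx hxo
    have hxH : x ∈ H := hx.1.1
    have hxV : x ∈ Subgroup.centralizer (V : Set G) := hx.1.2
    have hxR : x ∈ Subgroup.centralizer (R : Set G) := hx.2
    have hcomm : ∀ q ∈ Q, x * q = q * x := by
      refine Cfsg.Agent.Lib.Helper23_CharP.pxq Q V hQp hV hVQ x hxo ?_ ?_ ?_
      · intro q hq
        exact (Subgroup.mem_normalizer_iff.mp (hHQ hxH) q).mp hq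
      · intro b hb
        exact ((Subgroup.mem_centralizer_iff.mp hxV) b hb).symm
      · intro q hq hqV
        have hqC : q ∈ Subgroup.centralizer (V : Set G) := by
          rw [Subgroup.mem_centralizer_iff]
          intro b hb
          exact (hqV b hb).symm
        have hqR : q ∈ R := ha ⟨hq, hqC⟩
        exact ((Subgroup.mem_centralizer_iff.mp hxR) q hqR).symm
    have hxC : x ∈ Subgroup.centralizer ((Cfsg.pCoreOf p H : Subgroup G) : Set G) := by
      rw [Subgroup.mem_centralizer_iff]
      intro q hq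
      exact (hcomm q hq).symm
    have hxQ : x ∈ Q := hH ⟨hxH, hxC⟩
    exact eq_one_of_coprime_of_mem hQp hxQ hxo
  unfold CharpIn
  apply le_pCoreOf inf_le_left ?_ hDp
  refine le_trans ?_ (normalizer_inf_le_normalizer_inf W (Subgroup.centralizer (R : Set G)))
  exact le_inf Subgroup.le_normalizer (hWR.trans (normalizer_le_normalizer_centralizer R))

/-- climbing a subnormal chain inside the `p`-group `U` -/
theorem charpIn_centralizer_chain (U : Subgroup G) (hU : IsPGroup p U) :
    ∀ n : ℕ, ∀ V : Subgroup G, V ≤ U → Nat.card U - Nat.card V ≤ n →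
      CharpIn p (Subgroup.centralizer (V : Set G)) →
      CharpIn p (Subgroup.centralizer (U : Set G)) := by
  intro n
  induction n with
  | zero =>
    intro V hVU hn hV
    have : V = U := Subgroup.eq_of_le_of_card_ge hVU (by omega)
    rwa [this] at hV
  | succ n ih =>
    intro V hVU hn hV
    by_cases hVeq : V = U
    · rwa [hVeq] at hV
    have hlt : V < U := lt_of_le_of_ne hVU hVeq
    have hVV' : V < U ⊓ Subgroup.normalizer (V : Set G) := lt_inf_normalizer hU hlt
    have hV'U : U ⊓ Subgroup.normalizer (V : Set G) ≤ U := inf_le_left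
    have hV'p : IsPGroup p ↥(U ⊓ Subgroup.normalizer (V : Set G)) := hU.to_le hV'U
    have hnorm : U ⊓ Subgroup.normalizer (V : Set G) ≤
        Subgroup.normalizer ((Subgroup.centralizer (V : Set G) : Subgroup G) : Set G) :=
      inf_le_right.trans (normalizer_le_normalizer_centralizer V)
    have hA := charpIn_inf_centralizer (Subgroup.centralizer (V : Set G)) _ hV hV'p hnorm
    have heq : Subgroup.centralizer (V : Set G) ⊓
        Subgroup.centralizer ((U ⊓ Subgroup.normalizer (V : Set G) : Subgroup G) : Set G) =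
        Subgroup.centralizer ((U ⊓ Subgroup.normalizer (V : Set G) : Subgroup G) : Set G) :=
      inf_eq_right.mpr (Subgroup.centralizer_le (SetLike.coe_subset_coe.mpr hVV'.le))
    rw [heq] at hA
    refine ih _ hV'U ?_ hA
    have h1 := card_lt_of_lt hVV'
    have h2 := Subgroup.card_le_of_le hV'U
    omega

end aux

/-- Let G be a non-abelian finite simple QTKE-group and T a Sylow 2-subgroup of G. If U is a nontrivial 2-subgroup of G with U ∩ Z(T) ≠ 1, then F*(N_G(U)) = O₂(N_G(U)). -/
theorem result {G : Type*} [Group G] [Finite G] [IsSimpleGroup G]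
    (hG : ¬ IsMulCommutative G) (hQ : Cfsg.IsQTKE G) (T : Sylow 2 G) (U : Subgroup G)
    (hU : IsPGroup 2 ↥U) (hZ : U ⊓ ((T : Subgroup G) ⊓ Subgroup.centralizer ((T : Subgroup G) : Set G)) ≠ ⊥) :
    Subgroup.normalizer (U : Set G) ∈ Cfsg.calHe G := by
  have hp2 : Fact (Nat.Prime 2) := ⟨Nat.prime_two⟩
  set Z₀ := U ⊓ ((T : Subgroup G) ⊓ Subgroup.centralizer ((T : Subgroup G) : Set G)) with hZ₀
  have hZ₀p : IsPGroup 2 Z₀ := hU.to_le inf_le_left
  have hTM : (T : Subgroup G) ≤ Subgroup.normalizer (Z₀ : Set G) := by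
    intro t ht
    apply Subgroup.centralizer_le_normalizer
    rw [Subgroup.mem_centralizer_iff]
    intro z hz
    have hzc : z ∈ Subgroup.centralizer ((T : Subgroup G) : Set G) := hz.2.2
    exact ((Subgroup.mem_centralizer_iff.mp hzc) t ht).symm
  have hM : IsCharP 2 ↥(Subgroup.normalizer (Z₀ : Set G)) :=
    hQ.2.2 _ ⟨Z₀, hZ₀p, hZ, rfl⟩ ⟨T, hTM⟩
  have hCZ : IsCharP 2 ↥(Subgroup.centralizer (Z₀ : Set G)) := by
    have hle : Subgroup.centralizer (Z₀ : Set G) ≤ Subgroup.normalizer (Z₀ : Set G) :=
      Subgroup.centralizer_le_normalizer _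
    have hn : ((Subgroup.centralizer (Z₀ : Set G)).subgroupOf
        (Subgroup.normalizer (Z₀ : Set G))).Normal :=
      Subgroup.normal_subgroupOf_centralizer_normalizer _
    exact (hM.of_normal _).of_mulEquiv (Subgroup.subgroupOfEquivOfLe hle)
  have h1 : CharpIn 2 (Subgroup.centralizer (Z₀ : Set G)) := (charpIn_iff _).mp hCZ
  have h2 : CharpIn 2 (Subgroup.centralizer (U : Set G)) :=
    charpIn_centralizer_chain U hU _ Z₀ inf_le_left le_rfl h1
  have h3 : IsCharP 2 ↥(Subgroup.centralizer (U : Set G)) := (charpIn_iff _).mpr h2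
  have hCL : Subgroup.centralizer (U : Set G) ≤ Subgroup.normalizer (U : Set G) :=
    Subgroup.centralizer_le_normalizer _
  have h4 : IsCharP 2 ↥((Subgroup.centralizer (U : Set G)).subgroupOf
      (Subgroup.normalizer (U : Set G))) :=
    h3.of_mulEquiv (Subgroup.subgroupOfEquivOfLe hCL).symm
  have h5 : IsCharP 2 ↥(Subgroup.normalizer (U : Set G)) := by
    apply IsCharP.of_centralizer_le _ h4
    intro x hx
    rw [Subgroup.mem_subgroupOf, Subgroup.mem_centralizer_iff]
    intro u hu
    have huL : u ∈ Subgroup.normalizer (U : Set G) := Subgroup.le_normalizer hu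
    have hmem : (⟨u, huL⟩ : ↥(Subgroup.normalizer (U : Set G))) ∈
        pCore 2 ↥(Subgroup.normalizer (U : Set G)) := by
      have hn : (U.subgroupOf (Subgroup.normalizer (U : Set G))).Normal :=
        Subgroup.normal_in_normalizer
      exact le_pCore hn hU.comap_subtype (Subgroup.mem_subgroupOf.mpr hu)
    have := (Subgroup.mem_centralizer_iff.mp hx) ⟨u, huL⟩ hmem
    exact congrArg Subtype.val this
  show generalizedFittingSubgroup ↥(Subgroup.normalizer (U : Set G)) =
    pCore 2 ↥(Subgroup.normalizer (U : Set G))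
  exact IsCharP.generalizedFitting_eq h5

end Cfsg.Agent.S1850
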