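import Cfsg.Statements.S0590
import Mathlib

set_option autoImplicit false
open Cfsg
open scoped commutatorElement

namespace Cfsg.Agent.S0590

theorem conj_inv_of_comm {G : Type*} [Group G] (a c : G) (h : c * a = a * c) :
    a * c⁻¹ * a⁻¹ = c⁻¹ := by
  have h' : Commute c a := h
  have := h'.inv_left.eq
  rw [← this]; group

/-- Quadratic action on an elementary abelian p-group forces the acting group modulo the kernel of the action to be elementary abelian. -/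
theorem result {G : Type*} [Group G] [Finite G] {p : ℕ} [Fact p.Prime] (V H : Subgroup G) (hV : Cfsg.IsElementaryAbelian p V) (hHV : H ≤ Subgroup.normalizer (V : Set G)) (hq : ⁅⁅V, H⁆, H⁆ = ⊥) : ⁅H, H⁆ ≤ Subgroup.centralizer (V : Set G) ∧ ∀ a ∈ H, a ^ p ∈ Subgroup.centralizer (V : Set G) := by
  obtain ⟨hVc, hVp⟩ := hV
  -- V is commutative
  have hcomm : ∀ x ∈ V, ∀ y ∈ V, x * y = y * x := by
    intro x hx y hy
    have := hVc.is_comm.comm (⟨x, hx⟩ : V) ⟨y, hy⟩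
    exact congrArg Subtype.val this
  -- F1 : commutators land in V
  have F1 : ∀ v ∈ V, ∀ a ∈ H, ⁅v, a⁆ ∈ V := by
    intro v hv a ha
    have h1 : a * v⁻¹ * a⁻¹ ∈ V :=
      ((Subgroup.mem_normalizer_iff).mp (hHV ha) v⁻¹).mp (V.inv_mem hv)
    have : ⁅v, a⁆ = v * (a * v⁻¹ * a⁻¹) := by
      simp [commutatorElement_def, mul_assoc]
    rw [this]
    exact V.mul_mem hv h1
  -- F2 : commutators commute with H
  have F2 : ∀ v ∈ V, ∀ a ∈ H, ∀ b ∈ H, ⁅v, a⁆ * b = b * ⁅v, a⁆ := by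
    intro v hv a ha b hb
    have h1 : ⁅⁅v, a⁆, b⁆ ∈ ⁅⁅V, H⁆, H⁆ :=
      Subgroup.commutator_mem_commutator (Subgroup.commutator_mem_commutator hv ha) hb
    rw [hq, Subgroup.mem_bot] at h1
    exact commutatorElement_eq_one_iff_mul_comm.mp h1
  -- conjugation formula
  have F3 : ∀ v a : G, a * v * a⁻¹ = ⁅v, a⁆⁻¹ * v := by
    intro v a
    simp [commutatorElement_def, mul_assoc]
  constructor
  · rw [Subgroup.commutator_le]
    have key : ∀ a ∈ H, ∀ b ∈ H, ∀ v ∈ V, (a * b) * v * (a * b)⁻¹ = (b * a) * v * (b * a)⁻¹ := by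
      intro a ha b hb v hv
      have e1 : (a * b) * v * (a * b)⁻¹ = a * (b * v * b⁻¹) * a⁻¹ := by group
      have e2 : (b * a) * v * (b * a)⁻¹ = b * (a * v * a⁻¹) * b⁻¹ := by group
      rw [e1, e2, F3 v b, F3 v a]
      have e3 : a * (⁅v, b⁆⁻¹ * v) * a⁻¹ = (a * ⁅v, b⁆⁻¹ * a⁻¹) * (a * v * a⁻¹) := by group
      have e4 : b * (⁅v, a⁆⁻¹ * v) * b⁻¹ = (b * ⁅v, a⁆⁻¹ * b⁻¹) * (b * v * b⁻¹) := by group
      rw [e3, e4, F3 v a, F3 v b, conj_inv_of_comm a _ (F2 v hv b hb a ha),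
        conj_inv_of_comm b _ (F2 v hv a ha b hb), ← mul_assoc, ← mul_assoc]
      congr 1
      exact hcomm _ (V.inv_mem (F1 v hv b hb)) _ (V.inv_mem (F1 v hv a ha))
    intro a ha b hb
    rw [Subgroup.mem_centralizer_iff]
    intro v hv
    have := key b⁻¹ (H.inv_mem hb) a⁻¹ (H.inv_mem ha) v hv
    have h2 : v * ⁅a, b⁆ = ⁅a, b⁆ * v := by
      have h3 : v = (b⁻¹ * a⁻¹)⁻¹ * ((a⁻¹ * b⁻¹) * v * (a⁻¹ * b⁻¹)⁻¹) * (b⁻¹ * a⁻¹) := by
        rw [← this]; group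
      have h4 : ⁅a, b⁆ = (b⁻¹ * a⁻¹)⁻¹ * (a⁻¹ * b⁻¹) := by
        simp [commutatorElement_def, mul_assoc]
      rw [h4]
      conv_lhs => rw [h3]
      group
    exact h2
  · intro a ha
    rw [Subgroup.mem_centralizer_iff]
    intro v hv
    have hpow : ∀ k : ℕ, a ^ k * v * (a ^ k)⁻¹ = (⁅v, a⁆⁻¹) ^ k * v := by
      intro k
      induction k with
      | zero => simp
      | succ k ih =>
        have e1 : a ^ (k + 1) * v * (a ^ (k + 1))⁻¹ = a * (a ^ k * v * (a ^ k)⁻¹) * a⁻¹ := by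
          rw [pow_succ']; group
        rw [e1, ih]
        have e2 : a * ((⁅v, a⁆⁻¹) ^ k * v) * a⁻¹ = (a * (⁅v, a⁆⁻¹) ^ k * a⁻¹) * (a * v * a⁻¹) := by
          group
        rw [e2, F3 v a]
        have e3 : a * (⁅v, a⁆⁻¹) ^ k * a⁻¹ = (⁅v, a⁆⁻¹) ^ k := by
          have hc : Commute (⁅v, a⁆) a := F2 v hv a ha a ha
          have := (hc.inv_left.pow_left k).eq
          rw [← this]; group
        rw [e3, pow_succ, mul_assoc]
    have h1 := hpow p
    rw [inv_pow, hVp _ (F1 v hv a ha), inv_one, one_mul] at h1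
    rw [mul_inv_eq_iff_eq_mul] at h1
    exact h1.symm

end Cfsg.Agent.S0590
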