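import Cfsg.Statements.S0656
import Cfsg.Agent.Lib.Helper50_SL2Dickson
import Cfsg.Agent.Lib.Helper10_QuadPair

set_option autoImplicit false
open Cfsg

namespace Cfsg.Agent.S0656

open Cfsg.Agent.Lib.Helper10_QuadPair
open scoped commutatorElement

/-- Dickson's theorem (S0274) in the form used by `Helper10_QuadPair`. -/
theorem dicksonHyp (p : ℕ) [Fact p.Prime] (hp : p ≠ 2) : DicksonHyp p := by
  intro F _ _ _ X hX
  exact Cfsg.Agent.Lib.Helper50_SL2Dickson.dickson p hp X hX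

/-- For odd p, a faithful group on an elementary abelian p-group with no nontrivial normal p-subgroup in which some nontrivial p-element acts quadratically has a section isomorphic to SL(2, p). -/
theorem result {G : Type*} [Group G] [Finite G] {p : ℕ} [Fact p.Prime] (hp : p ≠ 2) (V H : Subgroup G) (hV : Cfsg.IsElementaryAbelian p V) (hHV : H ≤ Subgroup.normalizer (V : Set G)) (hf : H ⊓ Subgroup.centralizer (V : Set G) = ⊥) (hO : Cfsg.pCore p ↥H = ⊥) (x : G) (hxH : x ∈ H) (hx1 : x ≠ 1) (hxp : ∃ k : ℕ, orderOf x = p ^ k) (hq : ⁅⁅V, Subgroup.zpowers x⁆, Subgroup.zpowers x⁆ = ⊥) : ∃ (K L : Subgroup G) (hL : (L.subgroupOf K).Normal), K ≤ H ∧ Nonempty ((K ⧸ L.subgroupOf K) ≃* Matrix.SpecialLinearGroup (Fin 2) (ZMod p)) := by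
  obtain ⟨hVcomm, hVp⟩ := hV
  have hVc : ∀ u ∈ V, ∀ v ∈ V, u * v = v * u := by
    intro u hu v hv
    have := hVcomm.is_comm.comm (⟨u, hu⟩ : V) ⟨v, hv⟩
    exact congrArg Subtype.val this
  have hD := dicksonHyp p hp
  have hap : x ^ p = 1 := pow_p_eq_one_of_quad V H hVp hHV hf x hxH hq
  have hna : x ∉ (Cfsg.pCore p H).map H.subtype := by
    rw [hO, Subgroup.map_bot, Subgroup.mem_bot]
    exact hx1
  obtain ⟨g, hgH, hnp⟩ := exists_conj_not_pgroup H x hxH hap hna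
  have hbH : g * x * g⁻¹ ∈ H := H.mul_mem (H.mul_mem hgH hxH) (H.inv_mem hgH)
  have hH₁H : Subgroup.closure {x, g * x * g⁻¹} ≤ H := by
    rw [Subgroup.closure_le]
    intro z hz
    rcases hz with hz | hz
    · rw [hz]; exact hxH
    · have hz' : z = g * x * g⁻¹ := hz
      rw [hz']; exact hbH
  have hf₁ : Subgroup.closure {x, g * x * g⁻¹} ⊓ Subgroup.centralizer (V : Set G) = ⊥ := by
    rw [eq_bot_iff, ← hf]
    exact inf_le_inf_right _ hH₁H
  obtain ⟨m, φ, K₀, hK, ⟨e⟩⟩ := core_pair hD V (Subgroup.closure {x, g * x * g⁻¹}) hVc hVp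
    (hH₁H.trans hHV) hf₁ x (g * x * g⁻¹) rfl hq (quad_conj V x g (hHV hgH) hq) hnp
  obtain ⟨K, L, hL, hKH, ⟨e'⟩⟩ := exists_section_of_hom (Subgroup.closure {x, g * x * g⁻¹}) φ K₀ hK
  exact ⟨K, L, hL, hKH.trans hH₁H, ⟨e'.trans e⟩⟩

end Cfsg.Agent.S0656
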