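import Mathlib
import Cfsg.Statements.S0303
import Cfsg.Agent.Lib.Helper5_OmegaCenter
import Cfsg.Agent.Lib.Helper5_OmegaIndex
import Cfsg.Agent.Lib.Helper5_Klein
import Cfsg.Agent.Lib.Helper5_KleinSU
import Cfsg.Agent.Lib.Helper5_O4Minus
import Cfsg.Agent.Lib.Helper5_SUOrder
import Cfsg.Agent.Lib.Helper44_StdForms
import Cfsg.Agent.Lib.Helper44_Orth
import Cfsg.Agent.Lib.Helper61_SUTransfer
import Cfsg.Agent.S0283
import Cfsg.Agent.S0287
import Cfsg.Agent.S0288
import Cfsg.Agent.S0294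
import Cfsg.Agent.S0300
import Cfsg.Agent.S0302

set_option autoImplicit false
set_option linter.unusedSimpArgs false
open Cfsg

namespace Cfsg.Agent.S0303

open Matrix Cfsg.Agent.Lib.Helper5_OmegaCenter Cfsg.Agent.Lib.Helper5_OmegaIndex
  Cfsg.Agent.Lib.Helper44_StdForms Cfsg.Agent.Lib.Helper5_KleinSU Cfsg.Agent.Lib.Helper5_O4Minus
  Cfsg.Agent.Lib.Helper5_Klein

section
variable {F : Type*} [Field F] (a b : F)

def e1 : I6m → F := Pi.single (Sum.inl (Sum.inl 0)) 1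
def f1 : I6m → F := Pi.single (Sum.inl (Sum.inr 0)) 1
def e2 : I6m → F := Pi.single (Sum.inl (Sum.inl 1)) 1
def f2 : I6m → F := Pi.single (Sum.inl (Sum.inr 1)) 1
def s0 : I6m → F := Pi.single (Sum.inr 0) 1

lemma polar_mi (x y : I6m → F) : QuadraticMap.polar (⇑(qfMinus 2 F a b)) x y =
    ((x (Sum.inl (Sum.inl 0)) * y (Sum.inl (Sum.inr 0)) + y (Sum.inl (Sum.inl 0)) * x (Sum.inl (Sum.inr 0))) +
     (x (Sum.inl (Sum.inl 1)) * y (Sum.inl (Sum.inr 1)) + y (Sum.inl (Sum.inl 1)) * x (Sum.inl (Sum.inr 1)))) +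
    (2 * x (Sum.inr 0) * y (Sum.inr 0) + a * (x (Sum.inr 0) * y (Sum.inr 1) + y (Sum.inr 0) * x (Sum.inr 1))
      + 2 * b * x (Sum.inr 1) * y (Sum.inr 1)) := by
  rw [coe_qfMinus, polar_quadFormMinus, Fin.sum_univ_two]

lemma Q_mi (x : I6m → F) : qfMinus 2 F a b x =
    (x (Sum.inl (Sum.inl 0)) * x (Sum.inl (Sum.inr 0)) + x (Sum.inl (Sum.inl 1)) * x (Sum.inl (Sum.inr 1))) +
      (x (Sum.inr 0) ^ 2 + a * x (Sum.inr 0) * x (Sum.inr 1) + b * x (Sum.inr 1) ^ 2) := by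
  rw [coe_qfMinus]
  simp [Cfsg.quadFormMinus, Fin.sum_univ_two]

lemma star6m (hnd : ∀ x, (∀ y, QuadraticMap.polar (⇑(qfMinus 2 F a b)) x y = 0) → x = 0) :
    Star (qfMinus 2 F a b) (e1 : I6m → F) f1 := by
  refine star_of_second_pair (qfMinus 2 F a b) hnd (e₂ := e2) (f₂ := f2) (s₀ := s0)
    ?_ ?_ ?_ ?_ ?_ ?_ ?_ ?_ ?_ ?_ ?_ ?_ ?_ ?_ ?_
  all_goals first
    | (rw [Q_mi]; simp [e1, f1, e2, f2, s0])
    | (rw [polar_mi]; simp [e1, f1, e2, f2, s0])

lemma ns6m : NS (qfMinus 2 F a b) (e1 : I6m → F) f1 s0 := by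
  refine ⟨?_, ?_, ?_⟩
  · rw [polar_mi]; simp [e1, f1, e2, f2, s0]
  · rw [polar_mi]; simp [e1, f1, e2, f2, s0]
  · rw [Q_mi]; simp [e1, f1, e2, f2, s0]

end

section
variable {F : Type*} [Field F] [Fintype F] (a b : F) [hFact : Fact (∀ r : F, r ^ 2 ≠ -b + a * r)]
  (ε : KK a b) (hε : QuadraticAlgebra.norm ε = -1) (hΔ : 4 * b - a ^ 2 ≠ 0)

include hε hΔ in
lemma L_of_ker (g : ↥(Cfsg.SU 4 (KK a b) (Fintype.card F))) (hg : g ∈ (rho6 a b ε hε hΔ).ker) (v : I6 → KK a b) :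
    L g.1 v = v := by
  have h1 : ∀ u, L6 a b ε g u = (1 : F) • u := by
    intro u
    rw [← rho6_mulVec a b ε hε hΔ, MonoidHom.mem_ker.mp hg, one_smul]
    show (1 : Matrix I6m I6m F) *ᵥ u = u
    rw [Matrix.one_mulVec]
  have := L_scalar_of_L6 a b ε hε hΔ g 1 h1 v
  rwa [map_one, one_smul] at this

include hε hΔ in
lemma ker_rho6_scalar (g : ↥(Cfsg.SU 4 (KK a b) (Fintype.card F))) (hg : g ∈ (rho6 a b ε hε hΔ).ker) :
    ∃ r : KK a b, r * r = 1 ∧ g.1.1 = r • (1 : Matrix (Fin 4) (Fin 4) (KK a b)) := by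
  have hL := L_of_ker a b ε hε hΔ g hg
  have hk : g.1 ∈ (rho (F := KK a b)).ker := by
    rw [MonoidHom.mem_ker]
    apply Subtype.ext
    apply Units.ext
    show LinearMap.toMatrix' (L g.1) = 1
    have : L g.1 = LinearMap.id := LinearMap.ext hL
    rw [this, LinearMap.toMatrix'_id]
  exact Cfsg.Agent.S0302.ker_rho_scalar g.1 hk

include hε hΔ in
lemma card_ker_rho6_le_two : Nat.card (rho6 a b ε hε hΔ).ker ≤ 2 := by
  classical
  have hinj : Function.Injective
      (fun g : (rho6 a b ε hε hΔ).ker => (⟨g.1.1.1 0 0, by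
        obtain ⟨r, hr, hg⟩ := ker_rho6_scalar a b ε hε hΔ g.1 g.2
        rw [hg]
        have h2 : (r - 1) * (r + 1) = 0 := by linear_combination hr
        rcases mul_eq_zero.mp h2 with h | h
        · simp [sub_eq_zero.mp h]
        · simp [eq_neg_of_add_eq_zero_left h]⟩ : ↥({1, -1} : Finset (KK a b)))) := by
    intro g h hgh
    have h0 : g.1.1.1 0 0 = h.1.1.1 0 0 := congrArg Subtype.val hgh
    obtain ⟨r, _, hg⟩ := ker_rho6_scalar a b ε hε hΔ g.1 g.2
    obtain ⟨r', _, hh⟩ := ker_rho6_scalar a b ε hε hΔ h.1 h.2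
    apply Subtype.ext
    apply Subtype.ext
    apply Subtype.ext
    rw [hg, hh] at h0 ⊢
    simp at h0
    rw [h0]
  have : Finite ↥({1, -1} : Finset (KK a b)) := Finite.of_fintype _
  calc Nat.card (rho6 a b ε hε hΔ).ker ≤ Nat.card ↥({1, -1} : Finset (KK a b)) := Nat.card_le_card_of_injective _ hinj
    _ = ({1, -1} : Finset (KK a b)).card := by rw [Nat.card_eq_fintype_card, Fintype.card_coe]
    _ ≤ 2 := Finset.card_le_two

include hε hΔ in
lemma ker_rho6_eq_bot_of_two (h2 : (2 : F) = 0) : (rho6 a b ε hε hΔ).ker = ⊥ := by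
  rw [eq_bot_iff]
  intro g hg
  rw [Subgroup.mem_bot]
  obtain ⟨r, hr, hgr⟩ := ker_rho6_scalar a b ε hε hΔ g hg
  have h2' : (2 : KK a b) = 0 := by
    ext
    · exact (QuadraticAlgebra.re_ofNat 2).trans h2
    · exact QuadraticAlgebra.im_ofNat 2
  have h3 : (r - 1) * (r - 1) = 0 := by linear_combination hr + (1 - r) * h2'
  have h4 : r = 1 := by
    rcases mul_eq_zero.mp h3 with h | h <;> exact sub_eq_zero.mp h
  apply Subtype.ext
  apply Subtype.ext
  rw [hgr, h4, one_smul]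
  rfl

end

/-- PΩ^-_6(q) is isomorphic to PSU_4(q). -/
theorem result {F K : Type*} [Field F] [Fintype F] [Field K] [Fintype K] {q : ℕ} (hF : Fintype.card F = q) (hK : Fintype.card K = q ^ 2) (a b : F) (hab : ∀ z₁ z₂ : F, z₁ ^ 2 + a * z₁ * z₂ + b * z₂ ^ 2 = 0 → z₁ = 0 ∧ z₂ = 0) : Nonempty (Cfsg.POmega F (Cfsg.quadFormMinus 2 F a b) ≃* Cfsg.PSU 4 K q) := by
  classical
  subst hF
  have := fact_of_hab a b hab
  let _ : Fintype (KK a b) := fintypeKK a b
  have hcardKK : Fintype.card (KK a b) = Fintype.card F ^ 2 := card_KK a b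
  have hcardO := Cfsg.Agent.S0288.card_minus a b hab 2
  rw [← coe_qfMinus 2 F a b] at hcardO ⊢
  set Q := qfMinus 2 F a b with hQdef
  have hΔ := Cfsg.Agent.S0288.disc_ne_zero a b hab
  have hnd := Cfsg.Agent.S0288.nondeg_qfMinus a b hΔ 2
  have hQ := Cfsg.Agent.S0294.nondegenerate_of_hnd Q hnd
  obtain ⟨ε, hε⟩ := exists_norm_neg_one a b
  have hq : 2 ≤ Fintype.card F := Fintype.one_lt_card
  set ρ := rho6 a b ε hε hΔ with hρ
  -- the image lies in Ω
  have hle : ρ.range ≤ Cfsg.Omega F (⇑Q) := by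
    rintro _ ⟨g, rfl⟩
    have hperf := Cfsg.Agent.S0283.su_perfect hcardKK 4 (by norm_num) (by omega)
    have hg : g ∈ commutator ↥(Cfsg.SU 4 (KK a b) (Fintype.card F)) := by rw [hperf]; trivial
    exact Cfsg.Agent.Lib.Helper44_Orth.map_mem_commutator ρ hg
  have hSU := Cfsg.Agent.Lib.Helper5_SUOrder.card_SU hcardKK 4 (by norm_num)
  have hker := Subgroup.card_eq_card_quotient_mul_card_subgroup ρ.ker
  rw [Nat.card_congr (QuotientGroup.quotientKerEquivRange ρ).toEquiv] at hker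
  -- arithmetic
  have hN : ∃ N : ℕ, 0 < N ∧ Nat.card ↥(Cfsg.SU 4 (KK a b) (Fintype.card F)) = N ∧
      Nat.card ↥(Cfsg.isometryGroup F (⇑Q)) = 2 * N := by
    refine ⟨Fintype.card F ^ 6 * (Fintype.card F ^ 2 - 1) * (Fintype.card F ^ 3 + 1) * (Fintype.card F ^ 4 - 1),
      ?_, ?_, ?_⟩
    · have h1 : 4 ≤ Fintype.card F ^ 2 := by nlinarith
      have h2 : 16 ≤ Fintype.card F ^ 4 := by nlinarith
      have h3 : 0 < Fintype.card F ^ 2 - 1 := by omega
      have h4 : 0 < Fintype.card F ^ 4 - 1 := by omega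
      positivity
    · have hpos : 0 < Fintype.card F + 1 := by omega
      apply Nat.eq_of_mul_eq_mul_left hpos
      rw [hSU]
      simp only [Finset.prod_range_succ, Finset.prod_range_zero]
      norm_num
      ring
    · rw [hcardO]
      simp only [Finset.prod_range_succ, Finset.prod_range_zero]
      norm_num
      ring
  obtain ⟨N, hNpos, hSUN, hON⟩ := hN
  rw [hSUN] at hker
  have heq : ρ.range = Cfsg.Omega F (⇑Q) := by
    by_cases h2 : (2 : F) = 0
    · apply le_antisymm hle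
      apply Cfsg.Agent.S0300.commutator_le_of_index_two
      have hmul := Subgroup.card_mul_index ρ.range
      rw [hON] at hmul
      rw [hρ, ker_rho6_eq_bot_of_two a b ε hε hΔ h2, Subgroup.card_bot, mul_one] at hker
      rw [← hρ] at hker
      rw [← hker] at hmul
      nlinarith
    · have hmul := Subgroup.card_mul_index (Cfsg.Omega F (⇑Q))
      have hidx := index_omega_odd h2 Q hQ (by simp)
      rw [hON, hidx] at hmul
      have h3 : Nat.card ↥ρ.range * Nat.card ↥ρ.ker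
          ≤ Nat.card ↥ρ.range * 2 := Nat.mul_le_mul_left _ (card_ker_rho6_le_two a b ε hε hΔ)
      have hcard : Nat.card ↥(Cfsg.Omega F (⇑Q)) ≤ Nat.card ↥ρ.range := by
        omega
      exact Subgroup.eq_of_le_of_card_ge hle hcard
  -- the induced map onto PΩ
  let ρ' : ↥(Cfsg.SU 4 (KK a b) (Fintype.card F)) →* ↥(Cfsg.Omega F (⇑Q)) :=
    ρ.codRestrict (Cfsg.Omega F (⇑Q)) (fun g => hle ⟨g, rfl⟩)
  have hsurjρ : Function.Surjective ρ' := by
    intro ω
    have : ω.1 ∈ ρ.range := by rw [heq]; exact ω.2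
    obtain ⟨g, hg⟩ := this
    exact ⟨g, Subtype.ext hg⟩
  let φ : ↥(Cfsg.SU 4 (KK a b) (Fintype.card F)) →* Cfsg.POmega F (⇑Q) :=
    (QuotientGroup.mk' (Subgroup.center ↥(Cfsg.Omega F (⇑Q)))).comp ρ'
  have hsurj : Function.Surjective φ :=
    (QuotientGroup.mk'_surjective _).comp hsurjρ
  have hkerφ : φ.ker = Subgroup.center ↥(Cfsg.SU 4 (KK a b) (Fintype.card F)) := by
    ext g
    rw [MonoidHom.mem_ker]
    show (QuotientGroup.mk (ρ' g) : Cfsg.POmega F (⇑Q)) = 1 ↔ _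
    rw [QuotientGroup.eq_one_iff]
    constructor
    · intro h
      have hpm := center_omega_pm Q hnd (e := e1) (f := f1) (by rw [Q_mi]; simp [e1]) (by rw [Q_mi]; simp [f1])
        (by rw [polar_mi]; simp [e1, f1]) (star6m a b hnd) (ns6m a b) (ρ' g) h
      have hmat : ∀ u, L6 a b ε g u = ((ρ g : Matrix.GeneralLinearGroup I6m F) : Matrix I6m I6m F) *ᵥ u :=
        fun u => (rho6_mulVec a b ε hε hΔ g u).symm
      have hcen : g.1 ∈ Subgroup.center (SpecialLinearGroup (Fin 4) (KK a b)) := by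
        rcases hpm with h1 | h1
        · refine mem_center_of_L_scalar g.1 (algebraMap F (KK a b) 1) (L_scalar_of_L6 a b ε hε hΔ g 1 (fun u => ?_))
          rw [hmat u]
          have : ((ρ g : Matrix.GeneralLinearGroup I6m F) : Matrix I6m I6m F) = 1 := h1
          rw [this, Matrix.one_mulVec, one_smul]
        · refine mem_center_of_L_scalar g.1 (algebraMap F (KK a b) (-1)) (L_scalar_of_L6 a b ε hε hΔ g (-1) (fun u => ?_))
          rw [hmat u]
          have : ((ρ g : Matrix.GeneralLinearGroup I6m F) : Matrix I6m I6m F) = -1 := h1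
          rw [this, Matrix.neg_mulVec, Matrix.one_mulVec, neg_smul, one_smul]
      rw [Subgroup.mem_center_iff]
      intro k
      apply Subtype.ext
      exact Subgroup.mem_center_iff.mp hcen k.1
    · intro hg
      rw [Subgroup.mem_center_iff]
      intro ω
      obtain ⟨h, rfl⟩ := hsurjρ ω
      rw [← map_mul, ← map_mul, Subgroup.mem_center_iff.mp hg h]
  have e : KK a b ≃+* K := FiniteField.ringEquivOfCardEq (by rw [hcardKK, hK])
  exact ⟨((QuotientGroup.quotientKerEquivOfSurjective φ hsurj).symm.trans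
    (QuotientGroup.quotientMulEquivOfEq hkerφ)).trans (Cfsg.Agent.Lib.Helper61_SUTransfer.psuEquiv e)⟩

end Cfsg.Agent.S0303
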