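import Cfsg.Statements.S1581
import Cfsg.Agent.Lib.Helper91_Co3L3Thm

set_option autoImplicit false
open Cfsg

namespace Cfsg.Agent.S1581

open Cfsg.Agent.Lib.Helper7_Xi Cfsg.Agent.Lib.Helper91_LeechGlue Cfsg.Agent.Lib.Helper91_Co3L1
  Cfsg.Agent.Lib.Helper91_Co3L2 Cfsg.Agent.Lib.Helper91_Co3L3

/-- the set of `x` in inner-product form -/
def Sset (u v : leechLattice) : Set leechLattice :=
  {x | sqNorm (x : GolayPt → ℤ) = 32 ∧ dotInt (u : GolayPt → ℤ) (x : GolayPt → ℤ) = 24 ∧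
    dotInt (v : GolayPt → ℤ) (x : GolayPt → ℤ) = 16}

theorem set_eq (u v : leechLattice) (hu : sqNorm (u : GolayPt → ℤ) = 48) :
    {x : leechLattice | sqNorm (x : GolayPt → ℤ) = 32 ∧
      sqNorm ((u : GolayPt → ℤ) - (x : GolayPt → ℤ)) = 32 ∧
      dotInt (v : GolayPt → ℤ) (x : GolayPt → ℤ) = 16} = Sset u v := by
  ext x
  unfold Sset
  simp only [Set.mem_ofPred_eq]
  rw [sqNorm_sub', hu]
  constructor
  · rintro ⟨h1, h2, h3⟩
    exact ⟨h1, by omega, h3⟩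
  · rintro ⟨h1, h2, h3⟩
    exact ⟨h1, by omega, h3⟩

theorem mem_smul (g : Co0) (u v x : leechLattice) :
    x ∈ Sset u v ↔ g • x ∈ Sset (g • u) (g • v) := by
  unfold Sset
  simp only [Set.mem_ofPred_eq]
  rw [sqNorm_smul, dotInt_smul, dotInt_smul]

theorem Sset_std : Sset U0v V0v = Sstd := rfl

/-- the vectors of the set with a given inner product with `x` -/
def Aset (u v x : leechLattice) (k : ℤ) : Set leechLattice :=
  {y | y ∈ Sset u v ∧ dotInt (x : GolayPt → ℤ) (y : GolayPt → ℤ) = k}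

theorem memA_smul (g : Co0) (u v x y : leechLattice) (k : ℤ) :
    y ∈ Aset u v x k ↔ g • y ∈ Aset (g • u) (g • v) (g • x) k := by
  unfold Aset
  simp only [Set.mem_ofPred_eq]
  rw [← mem_smul g u v y, dotInt_smul]

theorem ncard_Aset (g : Co0) (u v x : leechLattice) (k : ℤ) :
    (Aset u v x k).ncard = (Aset (g • u) (g • v) (g • x) k).ncard := by
  have : Aset (g • u) (g • v) (g • x) k = (fun y => g • y) '' Aset u v x k := by
    ext y
    constructor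
    · intro hy
      refine ⟨g⁻¹ • y, ?_, smul_inv_smul g y⟩
      rw [memA_smul g, smul_inv_smul]
      exact hy
    · rintro ⟨z, hz, rfl⟩
      exact (memA_smul g u v x z k).mp hz
  rw [this, Set.ncard_image_of_injective _ (MulAction.injective g)]

theorem Aset_std (k : ℤ) : Aset U0v V0v X0v k =
    {y : leechLattice | y ∈ Sstd ∧ dotInt (vecL root2) (y : GolayPt → ℤ) = k} := rfl

theorem dotInt_self (a : GolayPt → ℤ) : dotInt a a = sqNorm a := by
  unfold dotInt sqNorm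
  apply Finset.sum_congr rfl
  intro i _
  ring

theorem dot_X0 : dotInt (vecL root2) (vecL root2) = 32 := by decide +kernel

/-- on the standard set, the inner product with `x0` is `8` or `16`, except at `x0` -/
theorem dot_cases (y : leechLattice) (hy : y ∈ Sstd) (hne : y ≠ X0v) :
    dotInt (vecL root2) (y : GolayPt → ℤ) = 8 ∨ dotInt (vecL root2) (y : GolayPt → ℤ) = 16 := by
  by_contra hcon
  rw [not_or] at hcon
  have hA8 := count3a
  have hA16 := count3b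
  set A8 := {y : leechLattice | y ∈ Sstd ∧ dotInt (vecL root2) (y : GolayPt → ℤ) = 8} with hA8d
  set A16 := {y : leechLattice | y ∈ Sstd ∧ dotInt (vecL root2) (y : GolayPt → ℤ) = 16} with hA16d
  have f8 : A8.Finite := Set.finite_of_ncard_ne_zero (by rw [hA8]; decide)
  have f16 : A16.Finite := Set.finite_of_ncard_ne_zero (by rw [hA16]; decide)
  have fS : Sstd.Finite := Set.finite_of_ncard_ne_zero (by rw [card_Sstd]; decide)
  have hdisj : Disjoint A8 A16 := by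
    rw [Set.disjoint_left]
    rintro z ⟨_, h8⟩ ⟨_, h16⟩
    rw [h8] at h16
    exact absurd h16 (by decide)
  have hsub : A8 ∪ A16 ∪ {X0v, y} ⊆ Sstd := by
    rintro z ((hz | hz) | hz)
    · exact hz.1
    · exact hz.1
    · rcases hz with rfl | rfl
      · exact X0v_mem
      · exact hy
  have hX : X0v ∉ A8 ∪ A16 := by
    rintro (⟨_, h⟩ | ⟨_, h⟩)
    · have : dotInt (vecL root2) (vecL root2) = 8 := h
      rw [dot_X0] at this; exact absurd this (by decide)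
    · have : dotInt (vecL root2) (vecL root2) = 16 := h
      rw [dot_X0] at this; exact absurd this (by decide)
  have hY : y ∉ A8 ∪ A16 := by
    rintro (⟨_, h⟩ | ⟨_, h⟩)
    · exact hcon.1 h
    · exact hcon.2 h
  have hpair : Disjoint (A8 ∪ A16) {X0v, y} := by
    rw [Set.disjoint_right]
    rintro z (rfl | rfl)
    · exact hX
    · exact hY
  have hcard : (A8 ∪ A16 ∪ {X0v, y}).ncard = 276 := by
    rw [Set.ncard_union_eq hpair (f8.union f16) (Set.toFinite _), Set.ncard_union_eq hdisj f8 f16,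
      hA8, hA16, Set.ncard_pair (Ne.symm hne)]
  have := Set.ncard_le_ncard hsub fS
  rw [hcard, card_Sstd] at this
  omega

theorem result (u v x : ↥Cfsg.leechLattice) (hu : Cfsg.sqNorm (u : Cfsg.GolayPt → ℤ) = 48) (hv : Cfsg.sqNorm (v : Cfsg.GolayPt → ℤ) = 32 ∧ Cfsg.sqNorm ((u - v) : Cfsg.GolayPt → ℤ) = 32) (hx : x ∈ {x : ↥Cfsg.leechLattice | Cfsg.sqNorm (x : Cfsg.GolayPt → ℤ) = 32 ∧ Cfsg.sqNorm ((u - x) : Cfsg.GolayPt → ℤ) = 32 ∧ Cfsg.dotInt (v : Cfsg.GolayPt → ℤ) (x : Cfsg.GolayPt → ℤ) = 16}) : {y : ↥Cfsg.leechLattice | y ∈ {x : ↥Cfsg.leechLattice | Cfsg.sqNorm (x : Cfsg.GolayPt → ℤ) = 32 ∧ Cfsg.sqNorm ((u - x) : Cfsg.GolayPt → ℤ) = 32 ∧ Cfsg.dotInt (v : Cfsg.GolayPt → ℤ) (x : Cfsg.GolayPt → ℤ) = 16} ∧ Cfsg.dotInt (x : Cfsg.GolayPt → ℤ) (y : Cfsg.GolayPt → ℤ) = 8}.ncard = 112 ∧ {y : ↥Cfsg.leechLattice | y ∈ {x : ↥Cfsg.leechLattice | Cfsg.sqNorm (x : Cfsg.GolayPt → ℤ) = 32 ∧ Cfsg.sqNorm ((u - x) : Cfsg.GolayPt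 → ℤ) = 32 ∧ Cfsg.dotInt (v : Cfsg.GolayPt → ℤ) (x : Cfsg.GolayPt → ℤ) = 16} ∧ y ≠ x ∧ Cfsg.dotInt (x : Cfsg.GolayPt → ℤ) (y : Cfsg.GolayPt → ℤ) = 16}.ncard = 162 ∧ ∀ y ∈ {x : ↥Cfsg.leechLattice | Cfsg.sqNorm (x : Cfsg.GolayPt → ℤ) = 32 ∧ Cfsg.sqNorm ((u - x) : Cfsg.GolayPt → ℤ) = 32 ∧ Cfsg.dotInt (v : Cfsg.GolayPt → ℤ) (x : Cfsg.GolayPt → ℤ) = 16}, ∀ y' ∈ {x : ↥Cfsg.leechLattice | Cfsg.sqNorm (x : Cfsg.GolayPt → ℤ) = 32 ∧ Cfsg.sqNorm ((u - x) : Cfsg.GolayPt → ℤ) = 32 ∧ Cfsg.dotInt (v : Cfsg.GolayPt → ℤ) (x : Cfsg.GolayPt → ℤ) = 16}, y ≠ x → y' ≠ x → Cfsg.dotInt (x : Cfsg.GolayPt → ℤ) (y : Cfsg.GolayPt → ℤ) = Cfsg.dotInt (x : Cfsg.GolayPt → ℤ) (y' : Cfsg.GolayPt → ℤ) → ∃ g : ↥Cfsg.Co0, g • u = u ∧ g • v = v ∧ g • x = x ∧ g • y = y' := by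
  have hd : dotInt (u : GolayPt → ℤ) (v : GolayPt → ℤ) = 24 := by
    have := sqNorm_sub' (u : GolayPt → ℤ) (v : GolayPt → ℤ)
    rw [hu, hv.1, hv.2] at this
    omega
  have hS : {x : leechLattice | sqNorm (x : GolayPt → ℤ) = 32 ∧
      sqNorm (((u - x : GolayPt → ℤ))) = 32 ∧
      dotInt (v : GolayPt → ℤ) (x : GolayPt → ℤ) = 16} = Sset u v := set_eq u v hu
  rw [hS] at hx ⊢
  obtain ⟨g, hgu, hgv, hgx⟩ := triple_std u v x hu hv.1 hd hx.1 hx.2.1 hx.2.2
  have hxx : dotInt (x : GolayPt → ℤ) (x : GolayPt → ℤ) = 32 := by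
    rw [dotInt_self]; exact hx.1
  refine ⟨?_, ?_, ?_⟩
  · show (Aset u v x 8).ncard = 112
    rw [ncard_Aset g, hgu, hgv, hgx, Aset_std]
    exact count3a
  · have : {y : leechLattice | y ∈ Sset u v ∧ y ≠ x ∧
        dotInt (x : GolayPt → ℤ) (y : GolayPt → ℤ) = 16} = Aset u v x 16 := by
      ext y
      unfold Aset
      simp only [Set.mem_ofPred_eq]
      constructor
      · rintro ⟨h1, _, h3⟩
        exact ⟨h1, h3⟩
      · rintro ⟨h1, h3⟩
        refine ⟨h1, ?_, h3⟩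
        rintro rfl
        rw [hxx] at h3
        exact absurd h3 (by decide)
    rw [this, ncard_Aset g, hgu, hgv, hgx, Aset_std]
    exact count3b
  · intro y hy y' hy' hne hne' hdot
    have h1 := (mem_smul g u v y).mp hy
    have h2 := (mem_smul g u v y').mp hy'
    rw [hgu, hgv, Sset_std] at h1 h2
    have n1 : g • y ≠ X0v := by
      rw [← hgx]
      exact fun h => hne (MulAction.injective g h)
    have n2 : g • y' ≠ X0v := by
      rw [← hgx]
      exact fun h => hne' (MulAction.injective g h)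
    have d1 : dotInt (vecL root2) ((g • y : leechLattice) : GolayPt → ℤ) =
        dotInt (x : GolayPt → ℤ) (y : GolayPt → ℤ) := by
      have := dotInt_smul g x y
      rw [hgx] at this
      exact this
    have d2 : dotInt (vecL root2) ((g • y' : leechLattice) : GolayPt → ℤ) =
        dotInt (x : GolayPt → ℤ) (y' : GolayPt → ℤ) := by
      have := dotInt_smul g x y'
      rw [hgx] at this
      exact this
    have key : ∃ h : Co0, h • U0v = U0v ∧ h • V0v = V0v ∧ h • X0v = X0v ∧ h • (g • y) = g • y' := by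
      rcases dot_cases (g • y) h1 n1 with c | c
      · exact trans3a _ _ h1 c h2 (by rw [d2, ← hdot, ← d1]; exact c)
      · exact trans3b _ _ h1 c h2 (by rw [d2, ← hdot, ← d1]; exact c)
    obtain ⟨h, hU, hV, hX, hh⟩ := key
    refine ⟨g⁻¹ * h * g, ?_, ?_, ?_, ?_⟩
    · rw [mul_smul, mul_smul, hgu, hU, ← hgu, inv_smul_smul]
    · rw [mul_smul, mul_smul, hgv, hV, ← hgv, inv_smul_smul]
    · rw [mul_smul, mul_smul, hgx, hX, ← hgx, inv_smul_smul]
    · rw [mul_smul, mul_smul, hh, inv_smul_smul]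

end Cfsg.Agent.S1581
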