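import Cfsg.Statements.S0405
import Cfsg.Agent.S1584
import Cfsg.Agent.Lib.Helper92_HSMain

/-!
The common stabiliser of two vectors of norm `48` with inner product `-32` in the automorphism
group of the rank-24 lattice is simple of order `44352000`.

All such pairs are conjugate (`Helper26_HSPair.pair_trans`), so it is enough to treat
`v1 = (5, 1, 1^22)`, `w1 = -(1, 5, 1^22)`.  Their common stabiliser `G1` is transitive on the `100`
minimal vectors with inner products `24`, `-24` (`S1583`); the stabiliser in `G1` of the point
`4 e_4 + 4 e_13` also fixes `8 e_4`, hence is monomial, and is the group of the coordinate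
permutations fixing the two points, simple of order `443520` (`S0378`, `S0379`).  By `S1584` its
orbits on the other points have sizes `22` and `77`, so the action is primitive; a proper
nontrivial normal subgroup would have order `100`, and its Sylow 5-subgroup would be a smaller
nontrivial normal subgroup (`Helper92_RankSimple`).
-/

set_option autoImplicit false
open Cfsg

namespace Cfsg.Agent.S0405

open Cfsg.Agent.Lib.Helper92_HS Cfsg.Agent.Lib.Helper92_MaxN Cfsg.Agent.Lib.Helper92_RankSimple

/-- Joint stabiliser of two vectors of sum of squares 48 with coordinate dot product −32 is simple of order 44352000. -/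
theorem result (v w : Cfsg.leechLattice) (hv : Cfsg.sqNorm (v : Cfsg.GolayPt → ℤ) = 48) (hw : Cfsg.sqNorm (w : Cfsg.GolayPt → ℤ) = 48) (hvw : Cfsg.dotInt (v : Cfsg.GolayPt → ℤ) (w : Cfsg.GolayPt → ℤ) = -32) : Cfsg.IsHS ↥(MulAction.stabilizer Cfsg.Co0 v ⊓ MulAction.stabilizer Cfsg.Co0 w) := by
  have hR : Rank3 := Cfsg.Agent.S1584.result v1L w1L bpL v1_norm w1_norm dot_v1_w1 bpL_mem
  obtain ⟨h, h1, h2⟩ := Cfsg.Agent.Lib.Helper26_HSPair.pair_trans v w v1L w1L hv hw hvw
    v1_norm w1_norm dot_v1_w1
  have h1' : h • v = v1L := h1
  have h2' : h • w = w1L := h2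
  have e : ↥(MulAction.stabilizer ↥Co0 v ⊓ MulAction.stabilizer ↥Co0 w) ≃* ↥G1 := by
    have e0 := conjInf (G := ↥Co0) h v w
    rw [h1', h2'] at e0
    exact e0
  have := G1_simple hR
  exact ⟨e.isSimpleGroup, by rw [Nat.card_congr e.toEquiv]; exact G1_card⟩

end Cfsg.Agent.S0405
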