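import Cfsg.Statements.S1573
import Cfsg.Agent.S0400
import Cfsg.Agent.Lib.Helper26_LeechDot
import Cfsg.Agent.Lib.Helper26_LeechCensus

set_option autoImplicit false
open Cfsg

namespace Cfsg.Agent.S1573

open Cfsg.Agent.Lib.Helper26_Leech

/-- Census of minimal vectors by inner product with a fixed minimal vector: 4600 have customary inner product −2, 47104 have −1, and 93150 are orthogonal. -/
theorem result (v : Cfsg.GolayPt → ℤ) (hv : v ∈ Cfsg.leechLattice) (hvn : Cfsg.sqNorm v = 32) : {w : Cfsg.GolayPt → ℤ | w ∈ Cfsg.leechLattice ∧ Cfsg.sqNorm w = 32 ∧ Cfsg.dotInt v w = -16}.ncard = 4600 ∧ {w : Cfsg.GolayPt → ℤ | w ∈ Cfsg.leechLattice ∧ Cfsg.sqNorm w = 32 ∧ Cfsg.dotInt v w = -8}.ncard = 47104 ∧ {w : Cfsg.GolayPt → ℤ | w ∈ Cfsg.leechLattice ∧ Cfsg.sqNorm w = 32 ∧ Cfsg.dotInt v w = 0}.ncard = 93150 := by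
  obtain ⟨g, hg⟩ := Cfsg.Agent.S0400.result ⟨v0, v0_mem⟩ ⟨v, hv⟩ v0_norm hvn
  have key : ∀ k : ℤ, (census v k).ncard = (census v0 k).ncard := by
    intro k
    have h1 := census_ncard_co0 g.1 g.2 ⟨v0, v0_mem⟩ k
    have h2 : ((g.1 ⟨v0, v0_mem⟩ : leechLattice) : GolayPt → ℤ) = v := by
      have : g.1 ⟨v0, v0_mem⟩ = ⟨v, hv⟩ := hg
      rw [this]
    rw [h2] at h1
    exact h1
  refine ⟨?_, ?_, ?_⟩
  · exact (key (-16)).trans census_v0_m16
  · exact (key (-8)).trans census_v0_m8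
  · exact (key 0).trans census_v0_0

end Cfsg.Agent.S1573
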