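import Mathlib
import Cfsg.Agent.Lib.Helper26_Co3Rank
import Cfsg.Agent.Lib.Helper26_VecTransfer

set_option autoImplicit false

namespace Cfsg.Agent.S1641

open Cfsg Cfsg.Agent.Lib.Helper26_VecCode Cfsg.Agent.Lib.Helper26_Co3Rank

theorem ka1 : Cfsg.Agent.Lib.Helper26_CfgC3a.con1.k = -16 := by decide +kernel
theorem ka2 : Cfsg.Agent.Lib.Helper26_CfgC3a.con2.k = 16 := by decide +kernel
theorem kb1 : Cfsg.Agent.Lib.Helper26_CfgC3b.con1.k = -16 := by decide +kernel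
theorem kb2 : Cfsg.Agent.Lib.Helper26_CfgC3b.con2.k = 8 := by decide +kernel
theorem kc1 : Cfsg.Agent.Lib.Helper26_CfgC3c.con1.k = -16 := by decide +kernel
theorem kc2 : Cfsg.Agent.Lib.Helper26_CfgC3c.con2.k = 0 := by decide +kernel
theorem kd1 : Cfsg.Agent.Lib.Helper26_CfgC3d.con1.k = -16 := by decide +kernel
theorem kd2 : Cfsg.Agent.Lib.Helper26_CfgC3d.con2.k = -8 := by decide +kernel
theorem eb1 : Cfsg.Agent.Lib.Helper26_CfgC3b.con1.a = Cfsg.Agent.Lib.Helper26_CfgC3a.con1.a := by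
  decide +kernel
theorem eb2 : Cfsg.Agent.Lib.Helper26_CfgC3b.con2.a = Cfsg.Agent.Lib.Helper26_CfgC3a.con2.a := by
  decide +kernel
theorem ec1 : Cfsg.Agent.Lib.Helper26_CfgC3c.con1.a = Cfsg.Agent.Lib.Helper26_CfgC3a.con1.a := by
  decide +kernel
theorem ec2 : Cfsg.Agent.Lib.Helper26_CfgC3c.con2.a = Cfsg.Agent.Lib.Helper26_CfgC3a.con2.a := by
  decide +kernel
theorem ed1 : Cfsg.Agent.Lib.Helper26_CfgC3d.con1.a = Cfsg.Agent.Lib.Helper26_CfgC3a.con1.a := by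
  decide +kernel
theorem ed2 : Cfsg.Agent.Lib.Helper26_CfgC3d.con2.a = Cfsg.Agent.Lib.Helper26_CfgC3a.con2.a := by
  decide +kernel

theorem dot_self (a : GolayPt → ℤ) : dotInt a a = sqNorm a := by
  unfold dotInt sqNorm
  apply Finset.sum_congr rfl
  intro i _
  ring

/-- The set cut out by the inner product `k` with `x`. -/
def Ak (u x : leechLattice) (k : ℤ) : Set leechLattice :=
  {y | sqNorm (y : GolayPt → ℤ) = 32 ∧ dotInt (u : GolayPt → ℤ) (y : GolayPt → ℤ) = -16 ∧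
    dotInt (x : GolayPt → ℤ) (y : GolayPt → ℤ) = k}

theorem Ak_inv (u x : leechLattice) (k : ℤ) (g : Co0) (hu : g • u = u) (hx : g • x = x) :
    ∀ z ∈ Ak u x k, g • z ∈ Ak u x k := by
  rintro z ⟨h1, h2, h3⟩
  exact ⟨by rw [norm_smul]; exact h1, by rw [dot_smul_fixed g u z hu]; exact h2,
    by rw [dot_smul_fixed g x z hx]; exact h3⟩

theorem Ak_sub (u x : leechLattice) (k : ℤ) : Ak u x k ⊆ {x : ↥Cfsg.leechLattice |
    Cfsg.sqNorm (x : Cfsg.GolayPt → ℤ) = 32 ∧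
    Cfsg.dotInt (u : Cfsg.GolayPt → ℤ) (x : Cfsg.GolayPt → ℤ) = -16} :=
  fun _ hy => ⟨hy.1, hy.2.1⟩

theorem Ak_disj (u x : leechLattice) (k k' : ℤ) (h : k ≠ k') : Disjoint (Ak u x k) (Ak u x k') := by
  rw [Set.disjoint_left]
  intro y h1 h2
  exact h (h1.2.2.symm.trans h2.2.2)

theorem result (u x : ↥Cfsg.leechLattice) (hu : Cfsg.sqNorm (u : Cfsg.GolayPt → ℤ) = 48) (hx : x ∈ {x : ↥Cfsg.leechLattice | Cfsg.sqNorm (x : Cfsg.GolayPt → ℤ) = 32 ∧ Cfsg.dotInt (u : Cfsg.GolayPt → ℤ) (x : Cfsg.GolayPt → ℤ) = -16}) : ∃ y₁ ∈ {x : ↥Cfsg.leechLattice | Cfsg.sqNorm (x : Cfsg.GolayPt → ℤ) = 32 ∧ Cfsg.dotInt (u : Cfsg.GolayPt → ℤ) (x : Cfsg.GolayPt → ℤ) = -16}, ∃ y₂ ∈ {x : ↥Cfsg.leechLattice | Cfsg.sqNorm (x : Cfsg.GolayPt → ℤ) = 32 ∧ Cfsg.dotInt (u : Cfsg.GolayPt → ℤ) (x : Cfsg.GolayPt → ℤ) = -16}, ∃ y₃ ∈ {x : ↥Cfsg.leechLattice | Cfsg.sqNorm (x :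 Cfsg.GolayPt → ℤ) = 32 ∧ Cfsg.dotInt (u : Cfsg.GolayPt → ℤ) (x : Cfsg.GolayPt → ℤ) = -16}, ∃ y₄ ∈ {x : ↥Cfsg.leechLattice | Cfsg.sqNorm (x : Cfsg.GolayPt → ℤ) = 32 ∧ Cfsg.dotInt (u : Cfsg.GolayPt → ℤ) (x : Cfsg.GolayPt → ℤ) = -16}, (MulAction.orbit ↥(MulAction.stabilizer ↥Cfsg.Co0 u ⊓ MulAction.stabilizer ↥Cfsg.Co0 x) y₁).ncard = 352 ∧ (MulAction.orbit ↥(MulAction.stabilizer ↥Cfsg.Co0 u ⊓ MulAction.stabilizer ↥Cfsg.Co0 x) y₂).ncard = 1100 ∧ (MulAction.orbit ↥(MulAction.stabilizer ↥Cfsg.Co0 u ⊓ MulAction.stabilizer ↥Cfsg.Co0 x) y₃).ncard = 4125 ∧ (MulAction.orbit ↥(MulAction.stabilizer ↥Cfsg.Co0 u ⊓ MulAction.stabilizer ↥Cfsg.Co0 x) y₄).ncard = 5600 ∧ {x : ↥Cfsg.leechLattice | Cfsg.sqNorm (x : Cfsg.GolayPt → ℤ) = 32 ∧ Cfsg.dotInt (u : Cfsg.GolayPt → ℤ) (x : Cfsg.GolayPt → ℤ) = -16} = {x} ∪ MulAction.orbit ↥(MulAction.stabilizer ↥Cfsg.Co0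 u ⊓ MulAction.stabilizer ↥Cfsg.Co0 x) y₁ ∪ MulAction.orbit ↥(MulAction.stabilizer ↥Cfsg.Co0 u ⊓ MulAction.stabilizer ↥Cfsg.Co0 x) y₂ ∪ MulAction.orbit ↥(MulAction.stabilizer ↥Cfsg.Co0 u ⊓ MulAction.stabilizer ↥Cfsg.Co0 x) y₃ ∪ MulAction.orbit ↥(MulAction.stabilizer ↥Cfsg.Co0 u ⊓ MulAction.stabilizer ↥Cfsg.Co0 x) y₄ := by
  obtain ⟨h, h1, h2⟩ := to_stdUX u x hu hx
  have hua : ((h.1 u : leechLattice) : GolayPt → ℤ) =
      vecC Cfsg.Agent.Lib.Helper26_CfgC3a.con1.a := by rw [h1]; rfl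
  have hxa : ((h.1 x : leechLattice) : GolayPt → ℤ) =
      vecC Cfsg.Agent.Lib.Helper26_CfgC3a.con2.a := by rw [h2]; rfl
  have Ta := apply_two _ _ 1100 Cfsg.Agent.Lib.Helper26_CfgC3a.std h.1 h.2 u x hua hxa
  have Tb := apply_two _ _ 5600 Cfsg.Agent.Lib.Helper26_CfgC3b.std h.1 h.2 u x
    (by rw [eb1]; exact hua) (by rw [eb2]; exact hxa)
  have Tc := apply_two _ _ 4125 Cfsg.Agent.Lib.Helper26_CfgC3c.std h.1 h.2 u x
    (by rw [ec1]; exact hua) (by rw [ec2]; exact hxa)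
  have Td := apply_two _ _ 352 Cfsg.Agent.Lib.Helper26_CfgC3d.std h.1 h.2 u x
    (by rw [ed1]; exact hua) (by rw [ed2]; exact hxa)
  rw [ka1, ka2] at Ta
  rw [kb1, kb2] at Tb
  rw [kc1, kc2] at Tc
  rw [kd1, kd2] at Td
  obtain ⟨ca, ta⟩ := Ta
  obtain ⟨cb, tb⟩ := Tb
  obtain ⟨cc, tc⟩ := Tc
  obtain ⟨cd, td⟩ := Td
  have ca' : (Ak u x 16).ncard = 1100 := ca
  have cb' : (Ak u x 8).ncard = 5600 := cb
  have cc' : (Ak u x 0).ncard = 4125 := cc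
  have cd' : (Ak u x (-8)).ncard = 352 := cd
  have nea : (Ak u x 16).Nonempty := Set.nonempty_of_ncard_ne_zero (by rw [ca']; norm_num)
  have neb : (Ak u x 8).Nonempty := Set.nonempty_of_ncard_ne_zero (by rw [cb']; norm_num)
  have nec : (Ak u x 0).Nonempty := Set.nonempty_of_ncard_ne_zero (by rw [cc']; norm_num)
  have ned : (Ak u x (-8)).Nonempty := Set.nonempty_of_ncard_ne_zero (by rw [cd']; norm_num)
  obtain ⟨ya, hya⟩ := nea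
  obtain ⟨yb, hyb⟩ := neb
  obtain ⟨yc, hyc⟩ := nec
  obtain ⟨yd, hyd⟩ := ned
  have oa := orbit_eq2 u x (Ak u x 16) ya hya (Ak_inv u x 16) ta
  have ob := orbit_eq2 u x (Ak u x 8) yb hyb (Ak_inv u x 8) tb
  have oc := orbit_eq2 u x (Ak u x 0) yc hyc (Ak_inv u x 0) tc
  have od := orbit_eq2 u x (Ak u x (-8)) yd hyd (Ak_inv u x (-8)) td
  have hxx : dotInt (x : GolayPt → ℤ) (x : GolayPt → ℤ) = 32 := by
    rw [dot_self]; exact hx.1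
  have hxn : ∀ k : ℤ, k ≠ 32 → x ∉ Ak u x k := by
    intro k hk hxk
    exact hk (hxk.2.2.symm.trans hxx)
  have hS := (Cfsg.Agent.S1640.result u hu).1
  have part := partition5 _ (Ak u x (-8)) (Ak u x 16) (Ak u x 0) (Ak u x 8) x 11178 352 1100 4125 5600
    hS cd' ca' cc' cb' (by norm_num) hx (Ak_sub u x _) (Ak_sub u x _) (Ak_sub u x _) (Ak_sub u x _)
    (hxn _ (by norm_num)) (hxn _ (by norm_num)) (hxn _ (by norm_num)) (hxn _ (by norm_num))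
    (Ak_disj u x _ _ (by norm_num)) (Ak_disj u x _ _ (by norm_num)) (Ak_disj u x _ _ (by norm_num))
    (Ak_disj u x _ _ (by norm_num)) (Ak_disj u x _ _ (by norm_num)) (Ak_disj u x _ _ (by norm_num))
  refine ⟨yd, Ak_sub u x _ hyd, ya, Ak_sub u x _ hya, yc, Ak_sub u x _ hyc, yb, Ak_sub u x _ hyb, ?_⟩
  rw [oa, ob, oc, od]
  exact ⟨cd', ca', cc', cb', part⟩

end Cfsg.Agent.S1641
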