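import Cfsg.Statements.S5603
import Cfsg.Agent.Lib.Helper93_S5603a

set_option autoImplicit false
open scoped Pointwise
open Cfsg

namespace Cfsg.Agent.S5603

open Cfsg.Agent.Lib.Helper26_Golay Cfsg.Agent.Lib.Helper93_M24Obj Cfsg.Agent.Lib.Helper93_S5603a

/-- A fixed-point-free element of order 3 of `M24` is conjugate to the representative. -/
theorem reduce (g : Equiv.Perm GolayPt) (hg : g ∈ M24) (h₃ : orderOf g = 3)
    (h₀ : ∀ p, g p ≠ p) :
    ∃ ε ∈ M24, Represents ε E ∧ ∃ k ∈ M24, (k * g * k⁻¹ = ε ∨ k * g * k⁻¹ = ε⁻¹) := by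
  have hg3 : g ^ 3 = 1 := by rw [← h₃]; exact pow_orderOf_eq_one g
  have hggg : ∀ p, g (g (g p)) = p := by
    intro p
    have := congrArg (fun τ : Equiv.Perm GolayPt => τ p) hg3
    simpa [pow_succ, Equiv.Perm.mul_apply] using this
  let a : GolayPt := pt 0
  have h1 : g a ≠ a := h₀ a
  have h2 : g (g a) ≠ a := by
    intro h
    have := hggg a
    rw [h] at this
    exact h1 this
  have h3 : g (g a) ≠ g a := h₀ (g a)
  obtain ⟨b, -, hb⟩ := Finset.exists_mem_notMem_of_card_lt_card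
    (s := ({a, g a, g (g a)} : Finset GolayPt)) (t := Finset.univ) (by
      refine lt_of_le_of_lt (Finset.card_le_three) ?_
      rw [Finset.card_univ]; decide)
  simp only [Finset.mem_insert, Finset.mem_singleton, not_or] at hb
  obtain ⟨hb0, hb1, hb2⟩ := hb
  have hgb0 : g b ≠ a := by
    intro h
    apply hb2
    have := hggg b
    rw [h] at this
    exact this.symm
  have hgb1 : g b ≠ g a := fun h => hb0 (g.injective h)
  have hgb2 : g b ≠ g (g a) := fun h => hb1 (g.injective h)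
  have hgbb : g b ≠ b := h₀ b
  have hinj : Function.Injective ![a, g a, g (g a), b, g b] := by
    rw [← List.nodup_ofFn]
    simp only [List.ofFn_succ, List.ofFn_zero, Matrix.cons_val_zero, Matrix.cons_val_succ,
      List.nodup_cons, List.mem_cons,
      List.not_mem_nil, or_false, not_or, List.nodup_nil, and_true, not_false_eq_true]
    refine ⟨⟨Ne.symm h1, Ne.symm h2, Ne.symm hb0, Ne.symm hgb0⟩,
      ⟨Ne.symm h3, Ne.symm hb1, Ne.symm hgb1⟩, ⟨Ne.symm hb2, Ne.symm hgb2⟩, Ne.symm hgbb⟩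
  obtain ⟨k₀, hk₀, e0, e1, e2, e3, e4⟩ := exists_map5 _ hinj
  simp only [Matrix.cons_val_zero, Matrix.cons_val_one, Matrix.cons_val] at e0 e1 e2 e3 e4
  have hg' : k₀ * g * k₀⁻¹ ∈ M24 := M24.mul_mem (M24.mul_mem hk₀ hg) (M24.inv_mem hk₀)
  have app : ∀ p q, k₀ p = q → (k₀ * g * k₀⁻¹) q = k₀ (g p) := by
    intro p q h
    rw [← h]
    simp [Equiv.Perm.mul_apply]
  obtain ⟨t23, t0, t1, t2⟩ := T0_img
  obtain ⟨ε, hε, hεT, k, hk, hconj⟩ := class_reduce4 T0 T0_in E E' rep_in inv_ok ok K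
    (fun _ => false) class_ok hg'
    (by rw [app _ _ e0, t23, e1]) (by rw [app _ _ e1, t0, e2])
    (by rw [app _ _ e2, t1, hggg, e0]) (by rw [app _ _ e3, t2, e4])
    (by
      intro f hrep
      unfold ok
      rw [Bool.and_eq_true, beq_iff_eq]
      constructor
      · apply cubeId_of_pow hrep
        rw [conj_pow', hg3, mul_one, mul_inv_cancel]
      · rw [← card_fixed_eq hrep, card_fixed_conj, Finset.card_eq_zero,
          Finset.filter_eq_empty_iff]
        intro p _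
        exact h₀ p)
  refine ⟨ε, hε, hεT, k * k₀, M24.mul_mem hk hk₀, ?_⟩
  have hmul : k * k₀ * g * (k * k₀)⁻¹ = k * (k₀ * g * k₀⁻¹) * k⁻¹ := by
    rw [mul_inv_rev]; group
  rw [hmul]
  exact hconj

theorem result (g : Equiv.Perm Cfsg.GolayPt) (hg : g ∈ Cfsg.M24) (h₃ : orderOf g = 3) (h₀ : ∀ p, g p ≠ p) : {S : Finset (Finset Cfsg.GolayPt) | S ∈ Cfsg.sextets ∧ g • S = S}.ncard = 7 ∧ {T : Finset (Finset Cfsg.GolayPt) | T ∈ Cfsg.trios ∧ g • T = T}.ncard = 15 := by
  obtain ⟨ε, hε, hεT, k, hk, hconj⟩ := reduce g hg h₃ h₀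
  refine ⟨?_, ?_⟩
  · rw [ncard_fixed_of_conj sextets (fun g hg X hX => smul_mem_sextets hg hX) hk hconj,
      ncard_fixed_sextets hεT, cnt_sext]
  · rw [ncard_fixed_of_conj trios (fun g hg X hX => smul_mem_trios hg hX) hk hconj,
      ncard_fixed_trios hεT, cnt_trio]

end Cfsg.Agent.S5603
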