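import Cfsg.Statements.S2882
import Cfsg.Agent.Lib.Helper93_S2882b
import Cfsg.Agent.S0364

set_option autoImplicit false
open scoped Pointwise
open Cfsg

namespace Cfsg.Agent.S2882

open Cfsg.Agent.Lib.Helper26_Golay Cfsg.Agent.Lib.Helper93_M24Obj Cfsg.Agent.Lib.Helper93_S2882b

/-- The subgroup of order `2 ^ 10` inside `M24`. -/
def S0' : Subgroup ↥M24 := S0.subgroupOf M24

theorem card_S0' : Nat.card ↥S0' = 1024 := by
  unfold S0'
  rw [Nat.card_congr (Subgroup.subgroupOfEquivOfLe S0_le).toEquiv, card_S0]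

theorem fact2 : (244823040 : ℕ).factorization 2 = 10 := by
  have h : (244823040 : ℕ) = 2 ^ 10 * 239085 := by norm_num
  rw [h, Nat.factorization_mul (by norm_num) (by norm_num),
    Nat.Prime.factorization_pow Nat.prime_two]
  simp [Nat.factorization_eq_zero_of_not_dvd (show ¬ 2 ∣ 239085 by norm_num)]

theorem normalizer_S0' : Subgroup.normalizer (S0' : Set ↥M24) ≤ S0' := by
  intro n hn
  rw [Subgroup.mem_normalizer_iff''] at hn
  unfold S0'
  rw [Subgroup.mem_subgroupOf]
  apply mem_of_normalizes n.2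
  intro s hs
  have hsM : s ∈ M24 := S0_le hs
  have h1 : (⟨s, hsM⟩ : ↥M24) ∈ S0' := Subgroup.mem_subgroupOf.mpr hs
  have h2 := (hn ⟨s, hsM⟩).mp h1
  exact Subgroup.mem_subgroupOf.mp h2

theorem mem_conj_smul {G : Type*} [Group G] (g x : G) (H : Subgroup G) :
    x ∈ MulAut.conj g • H ↔ g⁻¹ * x * g ∈ H := by
  rw [Subgroup.mem_pointwise_smul_iff_inv_smul_mem, MulAut.smul_def, MulAut.conj_inv_apply]

theorem normalizer_conj_le {G : Type*} [Group G] (g : G) (H : Subgroup G)
    (h : Subgroup.normalizer (H : Set G) ≤ H) :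
    Subgroup.normalizer ((MulAut.conj g • H : Subgroup G) : Set G) ≤ MulAut.conj g • H := by
  intro n hn
  rw [Subgroup.mem_normalizer_iff] at hn
  rw [mem_conj_smul]
  apply h
  rw [Subgroup.mem_normalizer_iff]
  intro y
  have := hn (g * y * g⁻¹)
  rw [mem_conj_smul, mem_conj_smul] at this
  have e1 : g⁻¹ * (g * y * g⁻¹) * g = y := by group
  have e2 : g⁻¹ * (n * (g * y * g⁻¹) * n⁻¹) * g = g⁻¹ * n * g * y * (g⁻¹ * n * g)⁻¹ := by group
  rw [e1, e2] at this
  exact this

/-- In the Mathieu group of degree 24 (realised as the automorphism group of the extended binary Golay code) every Sylow 2-subgroup is self-normalizing. -/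
theorem result (S : Sylow 2 ↥Cfsg.M24) : Subgroup.normalizer ((S : Subgroup ↥Cfsg.M24) : Set ↥Cfsg.M24) = (S : Subgroup ↥Cfsg.M24) := by
  have : Fact (Nat.Prime 2) := ⟨Nat.prime_two⟩
  let P : Sylow 2 ↥M24 := Sylow.ofCard S0' (by rw [card_S0', Cfsg.Agent.S0364.result, fact2]; norm_num)
  obtain ⟨g, hg⟩ := MulAction.exists_smul_eq ↥M24 P S
  apply le_antisymm
  · rw [← hg, Sylow.coe_subgroup_smul]
    exact normalizer_conj_le g _ normalizer_S0'
  · exact Subgroup.le_normalizer

end Cfsg.Agent.S2882
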