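import Cfsg.Statements.S0370
import Cfsg.Agent.Lib.Helper7_M24

set_option autoImplicit false
open Cfsg

namespace Cfsg.Agent.S0370

open Cfsg.Agent.Lib.Helper7_M24

theorem permWord_shift (t : ZMod 23) :
    permWord (Equiv.optionCongr (Equiv.addRight (1 : ZMod 23))) (qrWord t) = qrWord (t + 1) := by
  funext p
  cases p with
  | none => rfl
  | some x =>
    have hs : (Equiv.optionCongr (Equiv.addRight (1 : ZMod 23))).symm (some x) = some (x - 1) := by
      rw [Equiv.symm_apply_eq]
      simp
    rw [permWord_apply, hs]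
    simp only [qrWord]
    have h : (∃ r : ZMod 23, x - 1 = r ^ 2 + t) ↔ (∃ r : ZMod 23, x = r ^ 2 + (t + 1)) := by
      constructor
      · rintro ⟨r, hr⟩; exact ⟨r, by rw [← add_assoc, ← hr]; ring⟩
      · rintro ⟨r, hr⟩; exact ⟨r, by rw [hr]; ring⟩
    simp only [h]

/-- The permutation x ↦ x + 1 of the residues modulo 23, fixing the extra point, lies in the group of the length-24 code. -/
theorem result : Equiv.optionCongr (Equiv.addRight (1 : ZMod 23)) ∈ Cfsg.M24 := by
  apply mem_M24_of_gens
  intro t
  rw [permWord_shift]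
  exact qrWord_mem _

end Cfsg.Agent.S0370
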