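import Cfsg.Statements.S0371
import Cfsg.Agent.Lib.Helper7_M24

set_option autoImplicit false
open Cfsg

namespace Cfsg.Agent.S0371

open Cfsg.Agent.Lib.Helper7_M24

theorem permWord_mulSq (v : (ZMod 23)ˣ) (t : ZMod 23) :
    permWord (Equiv.optionCongr (Units.mulLeft (v * v))) (qrWord t) =
      qrWord (((v * v : (ZMod 23)ˣ) : ZMod 23) * t) := by
  funext p
  cases p with
  | none => rfl
  | some x =>
    have hs : (Equiv.optionCongr (Units.mulLeft (v * v))).symm (some x)
        = some (((v * v)⁻¹ : (ZMod 23)ˣ) * x) := by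
      rw [Equiv.symm_apply_eq]
      simp only [Equiv.optionCongr_apply, Option.map_some, Units.mulLeft_apply, Option.some.injEq]
      rw [← mul_assoc, ← Units.val_mul, mul_inv_cancel, Units.val_one, one_mul]
    rw [permWord_apply, hs]
    simp only [qrWord]
    have h : (∃ r : ZMod 23, (((v * v)⁻¹ : (ZMod 23)ˣ) : ZMod 23) * x = r ^ 2 + t) ↔
        (∃ r : ZMod 23, x = r ^ 2 + ((v * v : (ZMod 23)ˣ) : ZMod 23) * t) := by
      constructor
      · rintro ⟨r, hr⟩
        refine ⟨(v : ZMod 23) * r, ?_⟩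
        have : x = ((v * v : (ZMod 23)ˣ) : ZMod 23) * ((((v * v)⁻¹ : (ZMod 23)ˣ) : ZMod 23) * x) := by
          rw [← mul_assoc, ← Units.val_mul, mul_inv_cancel, Units.val_one, one_mul]
        rw [this, hr, Units.val_mul]
        ring
      · rintro ⟨r, hr⟩
        refine ⟨((v⁻¹ : (ZMod 23)ˣ) : ZMod 23) * r, ?_⟩
        rw [hr, mul_add, mul_inv, Units.val_mul, Units.val_mul]
        have h1 : ((v⁻¹ : (ZMod 23)ˣ) : ZMod 23) * (v : ZMod 23) = 1 := by
          rw [← Units.val_mul, inv_mul_cancel, Units.val_one]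
        calc ((v⁻¹ : (ZMod 23)ˣ) : ZMod 23) * ((v⁻¹ : (ZMod 23)ˣ) : ZMod 23) * r ^ 2 +
              ((v⁻¹ : (ZMod 23)ˣ) : ZMod 23) * ((v⁻¹ : (ZMod 23)ˣ) : ZMod 23) * ((v : ZMod 23) * (v : ZMod 23) * t)
            = (((v⁻¹ : (ZMod 23)ˣ) : ZMod 23) * r) ^ 2 +
              (((v⁻¹ : (ZMod 23)ˣ) : ZMod 23) * (v : ZMod 23)) * (((v⁻¹ : (ZMod 23)ˣ) : ZMod 23) * (v : ZMod 23)) * t := by ring
          _ = _ := by rw [h1]; ring
    simp only [h]

/-- Multiplication by a nonzero square residue modulo 23, fixing the extra point, lies in the group of the length-24 code. -/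
theorem result (u : (ZMod 23)ˣ) (hu : IsSquare u) : Equiv.optionCongr (Units.mulLeft u) ∈ Cfsg.M24 := by
  obtain ⟨v, rfl⟩ := hu
  apply mem_M24_of_gens
  intro t
  rw [permWord_mulSq]
  exact qrWord_mem _

end Cfsg.Agent.S0371
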