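import Cfsg.Statements.S5070
import Cfsg.Agent.S0765
import Cfsg.Agent.Lib.Helper13_RootSL2

set_option autoImplicit false
open Matrix
open Cfsg

namespace Cfsg.Agent.S5070

open Cfsg.Agent.Lib.Helper13_Symp Cfsg.Agent.Lib.Helper13_SympTrans
  Cfsg.Agent.Lib.Helper13_RootSL2 Cfsg.Agent.Lib.Helper83_RankOne
open scoped commutatorElement

variable {F : Type*} [Field F] {m : ℕ}

/-! ### Calculus in the symplectic group -/

theorem ext_sp {g h : Matrix.symplecticGroup (Fin m) F}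
    (H : ∀ v, (g : Matrix (Fin m ⊕ Fin m) (Fin m ⊕ Fin m) F) *ᵥ v
      = (h : Matrix (Fin m ⊕ Fin m) (Fin m ⊕ Fin m) F) *ᵥ v) : g = h :=
  Subtype.ext (Matrix.ext_iff_mulVec.mpr H)

theorem mul_mulVec (g h : Matrix.symplecticGroup (Fin m) F) (v : Fin m ⊕ Fin m → F) :
    ((g * h : Matrix.symplecticGroup (Fin m) F) : Matrix (Fin m ⊕ Fin m) (Fin m ⊕ Fin m) F) *ᵥ v
      = (g : Matrix (Fin m ⊕ Fin m) (Fin m ⊕ Fin m) F) *ᵥ
        ((h : Matrix (Fin m ⊕ Fin m) (Fin m ⊕ Fin m) F) *ᵥ v) := by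
  rw [Matrix.mulVec_mulVec]
  rfl

theorem one_mulVec' (v : Fin m ⊕ Fin m → F) :
    ((1 : Matrix.symplecticGroup (Fin m) F) : Matrix (Fin m ⊕ Fin m) (Fin m ⊕ Fin m) F) *ᵥ v
      = v := by
  rw [Submonoid.coe_one, Matrix.one_mulVec]

theorem inv_mulVec_mulVec (g : Matrix.symplecticGroup (Fin m) F) (v : Fin m ⊕ Fin m → F) :
    ((g⁻¹ : Matrix.symplecticGroup (Fin m) F) : Matrix (Fin m ⊕ Fin m) (Fin m ⊕ Fin m) F) *ᵥ
      ((g : Matrix (Fin m ⊕ Fin m) (Fin m ⊕ Fin m) F) *ᵥ v) = v := by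
  rw [← mul_mulVec, inv_mul_cancel, one_mulVec']

theorem mulVec_inv_mulVec (g : Matrix.symplecticGroup (Fin m) F) (v : Fin m ⊕ Fin m → F) :
    (g : Matrix (Fin m ⊕ Fin m) (Fin m ⊕ Fin m) F) *ᵥ
      (((g⁻¹ : Matrix.symplecticGroup (Fin m) F) : Matrix (Fin m ⊕ Fin m) (Fin m ⊕ Fin m) F) *ᵥ v)
        = v := by
  rw [← mul_mulVec, mul_inv_cancel, one_mulVec']

theorem form_mulVec (g : Matrix.symplecticGroup (Fin m) F) (u v : Fin m ⊕ Fin m → F) :
    Cfsg.sympForm m F ((g : Matrix (Fin m ⊕ Fin m) (Fin m ⊕ Fin m) F) *ᵥ u)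
      ((g : Matrix (Fin m ⊕ Fin m) (Fin m ⊕ Fin m) F) *ᵥ v) = Cfsg.sympForm m F u v :=
  sympForm_mulVec_mulVec_of_mem m g.2 u v

theorem transv_mul (p : Fin m ⊕ Fin m → F) (c c' : F) :
    transv m p c * transv m p c' = transv m p (c + c') := by
  apply ext_sp
  intro v
  rw [mul_mulVec, transv_mulVec, transv_mulVec, transv_mulVec, sympForm_add_left,
    sympForm_smul_left, sympForm_self, mul_zero, add_zero, add_assoc, ← add_smul]
  congr 2
  ring

theorem transv_zero (p : Fin m ⊕ Fin m → F) : transv m p 0 = 1 := by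
  apply ext_sp
  intro v
  rw [transv_mulVec, one_mulVec', zero_mul, zero_smul, add_zero]

theorem transv_inv (p : Fin m ⊕ Fin m → F) (c : F) : (transv m p c)⁻¹ = transv m p (-c) := by
  apply inv_eq_of_mul_eq_one_right
  rw [transv_mul, add_neg_cancel, transv_zero]

theorem conj_transv (g : Matrix.symplecticGroup (Fin m) F) (p : Fin m ⊕ Fin m → F) (c : F) :
    g * transv m p c * g⁻¹
      = transv m ((g : Matrix (Fin m ⊕ Fin m) (Fin m ⊕ Fin m) F) *ᵥ p) c := by
  apply ext_sp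
  intro v
  rw [mul_mulVec, mul_mulVec, transv_mulVec, transv_mulVec, Matrix.mulVec_add, Matrix.mulVec_smul,
    mulVec_inv_mulVec]
  congr 3
  rw [← form_mulVec g, mulVec_inv_mulVec]

theorem transv_smul (p : Fin m ⊕ Fin m → F) (l c : F) :
    transv m (l • p) c = transv m p (l * l * c) := by
  apply ext_sp
  intro v
  rw [transv_mulVec, transv_mulVec, sympForm_smul_right, smul_smul]
  congr 2
  ring

theorem transv_comm {p p' : Fin m ⊕ Fin m → F} (h : Cfsg.sympForm m F p p' = 0) (c c' : F) :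
    transv m p c * transv m p' c' = transv m p' c' * transv m p c := by
  have h' : Cfsg.sympForm m F p' p = 0 := by rw [sympForm_swap, h, neg_zero]
  apply ext_sp
  intro v
  rw [mul_mulVec, mul_mulVec, transv_mulVec, transv_mulVec, transv_mulVec, transv_mulVec]
  simp only [sympForm_add_left, sympForm_smul_left, h, h', mul_zero, add_zero]
  abel

/-! ### The transvection subgroups -/

/-- The group of symplectic transvections with centre spanned by `p`. -/
def T (m : ℕ) (p : Fin m ⊕ Fin m → F) : Subgroup ↥(Matrix.symplecticGroup (Fin m) F) :=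
  Subgroup.closure {g : ↥(Matrix.symplecticGroup (Fin m) F) | ∃ c : F, ∀ v : Fin m ⊕ Fin m → F,
    (g : Matrix (Fin m ⊕ Fin m) (Fin m ⊕ Fin m) F) *ᵥ v =
      v + (c * (v ⬝ᵥ (Matrix.J (Fin m) F *ᵥ p))) • p}

theorem mem_T_iff (p : Fin m ⊕ Fin m → F) (g : ↥(Matrix.symplecticGroup (Fin m) F)) :
    g ∈ T m p ↔ ∃ c, g = transv m p c := by
  constructor
  · intro hg
    unfold T at hg
    induction hg using Subgroup.closure_induction with
    | mem x hx =>
      obtain ⟨c, hc⟩ := hx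
      refine ⟨c, ext_sp fun v => ?_⟩
      rw [hc v, transv_mulVec]
      rfl
    | one => exact ⟨0, (transv_zero p).symm⟩
    | mul x y _ _ hx hy =>
      obtain ⟨c, rfl⟩ := hx
      obtain ⟨c', rfl⟩ := hy
      exact ⟨c + c', transv_mul p c c'⟩
    | inv x _ hx =>
      obtain ⟨c, rfl⟩ := hx
      exact ⟨-c, transv_inv p c⟩
  · rintro ⟨c, rfl⟩
    apply Subgroup.subset_closure
    refine ⟨c, fun v => ?_⟩
    rw [transv_mulVec]
    rfl

theorem transv_mem_T (p : Fin m ⊕ Fin m → F) (c : F) : transv m p c ∈ T m p :=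
  (mem_T_iff p _).mpr ⟨c, rfl⟩

theorem T_smul (p : Fin m ⊕ Fin m → F) {l : F} (hl : l ≠ 0) : T m (l • p) = T m p := by
  ext g
  rw [mem_T_iff, mem_T_iff]
  constructor
  · rintro ⟨c, rfl⟩
    exact ⟨_, transv_smul p l c⟩
  · rintro ⟨c, rfl⟩
    refine ⟨c / (l * l), ?_⟩
    rw [transv_smul]
    congr 1
    field_simp

theorem conjBy_T (p : Fin m ⊕ Fin m → F) (g : ↥(Matrix.symplecticGroup (Fin m) F)) :
    Cfsg.conjBy (T m p) g = T m ((g : Matrix (Fin m ⊕ Fin m) (Fin m ⊕ Fin m) F) *ᵥ p) := by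
  ext x
  rw [mem_conjBy_iff, mem_T_iff, mem_T_iff]
  constructor
  · rintro ⟨c, hc⟩
    refine ⟨c, ?_⟩
    rw [← conj_transv, ← hc]
    group
  · rintro ⟨c, rfl⟩
    refine ⟨c, ?_⟩
    rw [← conj_transv]
    group

theorem transv_ne_one {p : Fin m ⊕ Fin m → F} (hp : p ≠ 0) {c : F} (hc : c ≠ 0) :
    transv m p c ≠ 1 := by
  intro h
  obtain ⟨w, hw⟩ := exists_sympForm_ne_zero m hp
  have hw' : Cfsg.sympForm m F w p ≠ 0 := by
    rw [sympForm_swap]
    exact neg_ne_zero.mpr hw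
  have h1 := transv_mulVec m p c w
  rw [h, one_mulVec'] at h1
  have h2 : (c * Cfsg.sympForm m F w p) • p = 0 := by
    have := h1.symm
    rwa [add_eq_left] at this
  rcases smul_eq_zero.mp h2 with h3 | h3
  · exact mul_ne_zero hc hw' h3
  · exact hp h3

/-! ### Hyperbolic pairs give images of `SL₂(F)` -/

section Plane

variable {e f : Fin m ⊕ Fin m → F}

theorem plane_cond (hef : Cfsg.sympForm m F e f = 1) :
    rowMat (Matrix.J (Fin m) F *ᵥ f) (-(Matrix.J (Fin m) F *ᵥ e)) * colMat e f = 1 := by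
  have hfe : Cfsg.sympForm m F f e = -1 := by rw [sympForm_swap, hef]
  apply rowMat_mul_colMat
  · rw [dotProduct_comm]; exact hef
  · rw [dotProduct_comm]; exact sympForm_self m f
  · rw [neg_dotProduct, dotProduct_comm]
    show -(Cfsg.sympForm m F e e) = 0
    rw [sympForm_self, neg_zero]
  · rw [neg_dotProduct, dotProduct_comm]
    show -(Cfsg.sympForm m F f e) = 1
    rw [hfe, neg_neg]

theorem plane_mulVec (e f : Fin m ⊕ Fin m → F) (M : Matrix (Fin 2) (Fin 2) F)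
    (v : Fin m ⊕ Fin m → F) :
    planeMat (colMat e f) (rowMat (Matrix.J (Fin m) F *ᵥ f) (-(Matrix.J (Fin m) F *ᵥ e))) M *ᵥ v
      = v + ((M 0 0 - 1) * Cfsg.sympForm m F v f - M 0 1 * Cfsg.sympForm m F v e) • e
        + (M 1 0 * Cfsg.sympForm m F v f - (M 1 1 - 1) * Cfsg.sympForm m F v e) • f := by
  rw [planeMat_mulVec, neg_dotProduct, dotProduct_comm _ v, dotProduct_comm _ v]
  show _ + ((M 0 0 - 1) * Cfsg.sympForm m F v f + M 0 1 * -Cfsg.sympForm m F v e) • e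
    + (M 1 0 * Cfsg.sympForm m F v f + (M 1 1 - 1) * -Cfsg.sympForm m F v e) • f = _
  congr 3 <;> ring

theorem plane_up (e f : Fin m ⊕ Fin m → F) (s : F) :
    planeMat (colMat e f) (rowMat (Matrix.J (Fin m) F *ᵥ f) (-(Matrix.J (Fin m) F *ᵥ e)))
      ((up s : Matrix.SpecialLinearGroup (Fin 2) F) : Matrix (Fin 2) (Fin 2) F)
      = (transv m e (-s) : Matrix (Fin m ⊕ Fin m) (Fin m ⊕ Fin m) F) := by
  rw [Matrix.ext_iff_mulVec]
  intro v
  rw [plane_mulVec, transv_mulVec, up_coe]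
  simp

theorem plane_lo (e f : Fin m ⊕ Fin m → F) (s : F) :
    planeMat (colMat e f) (rowMat (Matrix.J (Fin m) F *ᵥ f) (-(Matrix.J (Fin m) F *ᵥ e)))
      ((lo s : Matrix.SpecialLinearGroup (Fin 2) F) : Matrix (Fin 2) (Fin 2) F)
      = (transv m f s : Matrix (Fin m ⊕ Fin m) (Fin m ⊕ Fin m) F) := by
  rw [Matrix.ext_iff_mulVec]
  intro v
  rw [plane_mulVec, transv_mulVec, lo_coe]
  simp

theorem plane_mem (hef : Cfsg.sympForm m F e f = 1) (M : Matrix.SpecialLinearGroup (Fin 2) F) :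
    planeMat (colMat e f) (rowMat (Matrix.J (Fin m) F *ᵥ f) (-(Matrix.J (Fin m) F *ᵥ e)))
      (M : Matrix (Fin 2) (Fin 2) F) ∈ Matrix.symplecticGroup (Fin m) F := by
  obtain ⟨x, y, z, w, rfl⟩ := exists_factor M
  simp only [Matrix.SpecialLinearGroup.coe_mul, planeMat_mul (plane_cond hef), plane_up, plane_lo]
  exact mul_mem (mul_mem (mul_mem (transv m f x).2 (transv m e (-y)).2) (transv m f z).2)
    (transv m e (-w)).2

/-- The homomorphism from `SL₂(F)` attached to a hyperbolic pair. -/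
def planeHom (hef : Cfsg.sympForm m F e f = 1) :
    Matrix.SpecialLinearGroup (Fin 2) F →* ↥(Matrix.symplecticGroup (Fin m) F) where
  toFun M := ⟨_, plane_mem hef M⟩
  map_one' := Subtype.ext (planeMat_one _ _)
  map_mul' M N := Subtype.ext (by
    rw [Submonoid.coe_mul]
    exact planeMat_mul (plane_cond hef) _ _)

theorem planeHom_up (hef : Cfsg.sympForm m F e f = 1) (s : F) :
    planeHom hef (up s) = transv m e (-s) := Subtype.ext (plane_up e f s)

theorem planeHom_lo (hef : Cfsg.sympForm m F e f = 1) (s : F) :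
    planeHom hef (lo s) = transv m f s := Subtype.ext (plane_lo e f s)

theorem planeHom_ker (hef : Cfsg.sympForm m F e f = 1) : (planeHom hef).ker = ⊥ := by
  rw [Subgroup.eq_bot_iff_forall]
  intro M hM
  rw [MonoidHom.mem_ker] at hM
  have h1 := congrArg Subtype.val hM
  have h2 : planeMat (colMat e f) (rowMat (Matrix.J (Fin m) F *ᵥ f) (-(Matrix.J (Fin m) F *ᵥ e)))
      (M : Matrix (Fin 2) (Fin 2) F) = planeMat (colMat e f)
        (rowMat (Matrix.J (Fin m) F *ᵥ f) (-(Matrix.J (Fin m) F *ᵥ e))) 1 := by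
    rw [planeMat_one]
    exact h1
  exact Subtype.ext (planeMat_injective (plane_cond hef) h2)

theorem psl2_of_hyp (hef : Cfsg.sympForm m F e f = 1) :
    Cfsg.IsPSL2PairOver F (T m e) (T m f) := by
  apply isPSL2PairOver_of_hom (planeHom hef)
  · rw [planeHom_ker]
    exact bot_le
  · apply map_upper_eq
    · intro s
      rw [planeHom_up]
      exact transv_mem_T e _
    · intro a ha
      obtain ⟨c, rfl⟩ := (mem_T_iff e a).mp ha
      exact ⟨-c, by rw [planeHom_up, neg_neg]⟩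
  · apply map_lower_eq
    · intro s
      rw [planeHom_lo]
      exact transv_mem_T f _
    · intro a ha
      obtain ⟨c, rfl⟩ := (mem_T_iff f a).mp ha
      exact ⟨c, planeHom_lo hef c⟩

end Plane

theorem psl2_of_ne {p p' : Fin m ⊕ Fin m → F} (h : Cfsg.sympForm m F p p' ≠ 0) :
    Cfsg.IsPSL2PairOver F (T m p) (T m p') := by
  have hef : Cfsg.sympForm m F p ((Cfsg.sympForm m F p p')⁻¹ • p') = 1 := by
    rw [sympForm_smul_right, inv_mul_cancel₀ h]
  have := psl2_of_hyp hef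
  rwa [T_smul p' (inv_ne_zero h)] at this

/-! ### The family -/

/-- The family of all transvection subgroups. -/
def fam (F : Type*) [Field F] (m : ℕ) : Set (Subgroup ↥(Matrix.symplecticGroup (Fin m) F)) :=
  {A | ∃ p : Fin m ⊕ Fin m → F, p ≠ 0 ∧ A = T m p}

theorem exists_common {p p' : Fin m ⊕ Fin m → F} (hp : p ≠ 0) (hp' : p' ≠ 0) :
    ∃ r, Cfsg.sympForm m F p r ≠ 0 ∧ Cfsg.sympForm m F p' r ≠ 0 := by
  obtain ⟨r₁, h₁⟩ := exists_sympForm_ne_zero m hp
  obtain ⟨r₂, h₂⟩ := exists_sympForm_ne_zero m hp'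
  by_cases h3 : Cfsg.sympForm m F p' r₁ = 0
  · by_cases h4 : Cfsg.sympForm m F p r₂ = 0
    · refine ⟨r₁ + r₂, ?_, ?_⟩
      · rw [sympForm_add_right, h4, add_zero]; exact h₁
      · rw [sympForm_add_right, h3, zero_add]; exact h₂
    · exact ⟨r₂, h4, h₂⟩
  · exact ⟨r₁, h₁, h3⟩

theorem main (F : Type*) [Field F] (m : ℕ) (hm : 0 < m) :
    Cfsg.IsRootSubgroupClass (fam F m) ∧ Cfsg.IsDegenerateRootSet (fam F m) ∧
      Cfsg.IsKRootSubgroupSet F (fam F m) ∧ Cfsg.IsConnectedFamily (Cfsg.FAdj (fam F m)) (fam F m) := by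
  apply root_class_of_pairs F
  · refine ⟨T m (Pi.single (Sum.inl ⟨0, hm⟩) 1), _, ?_, rfl⟩
    intro h
    have := congrFun h (Sum.inl ⟨0, hm⟩)
    simp at this
  · rintro A ⟨p, hp, rfl⟩ a ha b hb
    obtain ⟨c, rfl⟩ := (mem_T_iff p a).mp ha
    obtain ⟨c', rfl⟩ := (mem_T_iff p b).mp hb
    rw [transv_mul, transv_mul, add_comm]
  · rintro A ⟨p, hp, rfl⟩ h
    have h1 : transv m p 1 ∈ T m p := transv_mem_T p 1
    rw [h, Subgroup.mem_bot] at h1
    exact transv_ne_one hp one_ne_zero h1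
  · rw [eq_top_iff, ← Cfsg.Agent.S0765.result m, Subgroup.closure_le]
    rintro A ⟨w, c, hA⟩
    have hA' : A = transv m w c := Subtype.ext hA
    by_cases hw : w = 0
    · have : A = 1 := by
        rw [hA', hw]
        apply ext_sp
        intro v
        rw [transv_mulVec, one_mulVec', smul_zero, add_zero]
      rw [this]
      exact Subgroup.one_mem _
    · have h1 : T m w ≤ ⨆ B ∈ fam F m, B := le_iSup₂ (f := fun B _ => B) (T m w) ⟨w, hw, rfl⟩
      apply h1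
      rw [hA']
      exact transv_mem_T w c
  · rintro A ⟨p, hp, rfl⟩ g
    refine ⟨_, ?_, conjBy_T p g⟩
    intro h
    apply hp
    rw [← inv_mulVec_mulVec g p, h, Matrix.mulVec_zero]
  · rintro A ⟨p, hp, rfl⟩ B ⟨p', hp', rfl⟩
    by_cases h : Cfsg.sympForm m F p p' = 0
    · left
      rw [Subgroup.commutator_eq_bot_iff_le_centralizer]
      intro a ha
      rw [Subgroup.mem_centralizer_iff]
      intro b hb
      obtain ⟨c, rfl⟩ := (mem_T_iff p a).mp ha
      obtain ⟨c', rfl⟩ := (mem_T_iff p' b).mp hb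
      exact (transv_comm h c c').symm
    · right
      exact psl2_of_ne h
  · rintro A ⟨p, hp, rfl⟩ B ⟨p', hp', rfl⟩
    obtain ⟨r, h1, h2⟩ := exists_common hp hp'
    have hr : r ≠ 0 := by
      rintro rfl
      simp at h1
    have h2' : Cfsg.sympForm m F r p' ≠ 0 := by
      rw [sympForm_swap]
      exact neg_ne_zero.mpr h2
    exact Relation.ReflTransGen.tail
      (Relation.ReflTransGen.single ⟨⟨p, hp, rfl⟩, ⟨r, hr, rfl⟩, psl2_of_ne h1⟩)
      ⟨⟨r, hr, rfl⟩, ⟨p', hp', rfl⟩, psl2_of_ne h2'⟩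

/-- Let F be a field, m a natural number and V = F^{2(m+1)} with the standard non-degenerate alternating form f(u, v) = uᵀ J v. For a non-zero vector p let T(p) be the group of symplectic transvections v ↦ v + c f(v, p) p, c ∈ F. Then the subgroups T(p), p ≠ 0, generate the symplectic group Sp_{2(m+1)}(F) and form a degenerate class of abstract F-root subgroups of it (any two of them either commute elementwise or are the unipotent subgroups of a rank one group that is an image of SL₂(F) with central kernel, never the commutator case), and their graph of rank one pairs is connected. -/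
theorem result (F : Type*) [Field F] (m : ℕ) :
    Cfsg.IsRootSubgroupClass {A : Subgroup ↥(Matrix.symplecticGroup (Fin (m + 1)) F) | ∃ p : Fin (m + 1) ⊕ Fin (m + 1) → F, p ≠ 0 ∧
        A = Subgroup.closure {g : ↥(Matrix.symplecticGroup (Fin (m + 1)) F) | ∃ c : F, ∀ v : Fin (m + 1) ⊕ Fin (m + 1) → F,
          (g : Matrix (Fin (m + 1) ⊕ Fin (m + 1)) (Fin (m + 1) ⊕ Fin (m + 1)) F) *ᵥ v =
            v + (c * (v ⬝ᵥ (Matrix.J (Fin (m + 1)) F *ᵥ p))) • p}} ∧
    Cfsg.IsDegenerateRootSet {A : Subgroup ↥(Matrix.symplecticGroup (Fin (m + 1)) F) | ∃ p : Fin (m + 1) ⊕ Fin (m + 1) → F, p ≠ 0 ∧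
        A = Subgroup.closure {g : ↥(Matrix.symplecticGroup (Fin (m + 1)) F) | ∃ c : F, ∀ v : Fin (m + 1) ⊕ Fin (m + 1) → F,
          (g : Matrix (Fin (m + 1) ⊕ Fin (m + 1)) (Fin (m + 1) ⊕ Fin (m + 1)) F) *ᵥ v =
            v + (c * (v ⬝ᵥ (Matrix.J (Fin (m + 1)) F *ᵥ p))) • p}} ∧
    Cfsg.IsKRootSubgroupSet F {A : Subgroup ↥(Matrix.symplecticGroup (Fin (m + 1)) F) | ∃ p : Fin (m + 1) ⊕ Fin (m + 1) → F, p ≠ 0 ∧
        A = Subgroup.closure {g : ↥(Matrix.symplecticGroup (Fin (m + 1)) F) | ∃ c : F, ∀ v : Fin (m + 1) ⊕ Fin (m + 1) → F,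
          (g : Matrix (Fin (m + 1) ⊕ Fin (m + 1)) (Fin (m + 1) ⊕ Fin (m + 1)) F) *ᵥ v =
            v + (c * (v ⬝ᵥ (Matrix.J (Fin (m + 1)) F *ᵥ p))) • p}} ∧
    Cfsg.IsConnectedFamily (Cfsg.FAdj {A : Subgroup ↥(Matrix.symplecticGroup (Fin (m + 1)) F) | ∃ p : Fin (m + 1) ⊕ Fin (m + 1) → F, p ≠ 0 ∧
        A = Subgroup.closure {g : ↥(Matrix.symplecticGroup (Fin (m + 1)) F) | ∃ c : F, ∀ v : Fin (m + 1) ⊕ Fin (m + 1) → F,
          (g : Matrix (Fin (m + 1) ⊕ Fin (m + 1)) (Fin (m + 1) ⊕ Fin (m + 1)) F) *ᵥ v =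
            v + (c * (v ⬝ᵥ (Matrix.J (Fin (m + 1)) F *ᵥ p))) • p}})
      {A : Subgroup ↥(Matrix.symplecticGroup (Fin (m + 1)) F) | ∃ p : Fin (m + 1) ⊕ Fin (m + 1) → F, p ≠ 0 ∧
        A = Subgroup.closure {g : ↥(Matrix.symplecticGroup (Fin (m + 1)) F) | ∃ c : F, ∀ v : Fin (m + 1) ⊕ Fin (m + 1) → F,
          (g : Matrix (Fin (m + 1) ⊕ Fin (m + 1)) (Fin (m + 1) ⊕ Fin (m + 1)) F) *ᵥ v =
            v + (c * (v ⬝ᵥ (Matrix.J (Fin (m + 1)) F *ᵥ p))) • p}} := by
  exact main F (m + 1) (Nat.succ_pos m)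

end Cfsg.Agent.S5070
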