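import Cfsg.Statements.S0369
import Cfsg.Agent.Lib.Helper7_Code

set_option autoImplicit false
open Cfsg
open scoped Pointwise

namespace Cfsg.Agent.S0369

open Cfsg.Agent.Lib.Helper7_M24 Cfsg.Agent.Lib.Helper7_Bits Cfsg.Agent.Lib.Helper7_Code

/-- A linear map sending the words of a list of masks into the code sends all their
XOR-combinations into the code. -/
theorem map_spanList_mem (f : (GolayPt → ZMod 2) →ₗ[ZMod 2] (GolayPt → ZMod 2)) (L : List ℕ)
    (h : ∀ b ∈ L, f (toWord b) ∈ golayCode) : ∀ n ∈ spanList L, f (toWord n) ∈ golayCode := by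
  induction L with
  | nil =>
    intro n hn
    simp only [spanList, List.mem_singleton] at hn
    subst hn
    rw [toWord_zero, map_zero]
    exact golayCode.zero_mem
  | cons b bs ih =>
    intro n hn
    have ih' := ih fun c hc => h c (List.mem_cons_of_mem _ hc)
    simp only [spanList, List.mem_append, List.mem_map] at hn
    rcases hn with hn | ⟨x, hx, rfl⟩
    · exact ih' n hn
    · rw [toWord_xor, map_add]
      exact golayCode.add_mem (h b List.mem_cons_self) (ih' x hx)

/-- A permutation mapping the 12 basis octads into the code lies in `M24`. -/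
theorem mem_M24_of_basis (σ : Equiv.Perm GolayPt)
    (h : ∀ b ∈ basisMasks, permWord σ (toWord b) ∈ golayCode) : σ ∈ M24 := by
  apply mem_M24_of_forall
  intro w hw
  obtain ⟨n, hn, rfl⟩ := (mem_golayCode_iff w).mp hw
  exact map_spanList_mem (permWord σ) basisMasks h n hn

theorem basisMasks_weight : basisMasks.all (fun b => popcount b == 8) = true := by decide +kernel

theorem basisMasks_subset : ∀ b ∈ basisMasks, b ∈ codeMasks := by decide +kernel

/-- The 12 basis words are octads. -/
theorem basis_octad (b : ℕ) (hb : b ∈ basisMasks) : support₂ (toWord b) ∈ octads := by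
  refine ⟨⟨toWord b, ?_, rfl⟩, ?_⟩
  · exact (mem_golayCode_iff _).mpr ⟨b, basisMasks_subset b hb, rfl⟩
  · rw [card_support₂_toWord]
    have := basisMasks_weight
    rw [List.all_eq_true] at this
    exact beq_iff_eq.mp (this b hb)

/-- The group of the length-24 code coincides with the automorphism group of its octad system. -/
theorem result : Cfsg.M24 = Cfsg.setSystemAut Cfsg.octads := by
  have hfin : (octads : Set (Finset GolayPt)).Finite := Set.toFinite _
  ext σ
  constructor
  · intro hσ
    show σ ∈ MulAction.stabilizer (Equiv.Perm GolayPt) octads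
    rw [MulAction.mem_stabilizer_set_iff_smul_set_subset hfin]
    rintro _ ⟨o, ⟨⟨w, hw, rfl⟩, hc⟩, rfl⟩
    refine ⟨⟨permWord σ w, permWord_mem_of_mem_M24 hσ hw, support₂_permWord σ w⟩, ?_⟩
    show (σ • support₂ w).card = 8
    rw [Finset.card_smul_finset]
    exact hc
  · intro hσ
    have hσ' : σ • octads = octads := MulAction.mem_stabilizer_iff.mp hσ
    apply mem_M24_of_basis
    intro b hb
    have h1 : σ • support₂ (toWord b) ∈ σ • octads := Set.smul_mem_smul_set (basis_octad b hb)
    rw [hσ'] at h1
    obtain ⟨⟨w, hw, hws⟩, _⟩ := h1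
    rw [← support₂_permWord] at hws
    rw [← support₂_injective hws]
    exact hw

end Cfsg.Agent.S0369
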