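import Cfsg.Statements.S0352
import Cfsg.Agent.Lib.Helper6_Steiner

set_option autoImplicit false
open Cfsg

namespace Cfsg.Agent.S0352

open Cfsg.Agent.Lib.Helper6_Steiner

theorem pointwise : ∀ m ≤ 4, 6 * Nat.choose m 2 + 24 * Nat.choose m 4 ≤
      3 * Nat.choose m 1 + 12 * Nat.choose m 3 ∧
    (6 * Nat.choose m 2 + 24 * Nat.choose m 4 = 3 * Nat.choose m 1 + 12 * Nat.choose m 3 →
      m = 0 ∨ m = 2 ∨ m = 4) := by
  decide

/-- the intersection sums for an `S(5, 8, 24)` -/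
theorem sums {α : Type*} [Fintype α] [DecidableEq α] (hα : Fintype.card α = 24)
    {B : Set (Finset α)} (hB : Cfsg.IsSteinerSystem 5 8 B) {b : Finset α} (hb : b ∈ B) :
    (∑ c ∈ (blocks B).erase b, Nat.choose (b ∩ c).card 1 = 2016) ∧
    (∑ c ∈ (blocks B).erase b, Nat.choose (b ∩ c).card 2 = 2128) ∧
    (∑ c ∈ (blocks B).erase b, Nat.choose (b ∩ c).card 3 = 1120) ∧
    (∑ c ∈ (blocks B).erase b, Nat.choose (b ∩ c).card 4 = 280) := by
  refine ⟨?_, ?_, ?_, ?_⟩
  · rw [sum_choose_inter hB hb 1 253 (fun J _ hJ =>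
      card_blocksThrough_eq hB (j := 1) (by norm_num) (by rw [hα]; decide) (by decide) J hJ)]
    norm_num [Nat.choose]
  · rw [sum_choose_inter hB hb 2 77 (fun J _ hJ =>
      card_blocksThrough_eq hB (j := 2) (by norm_num) (by rw [hα]; decide) (by decide) J hJ)]
    norm_num [Nat.choose]
  · rw [sum_choose_inter hB hb 3 21 (fun J _ hJ =>
      card_blocksThrough_eq hB (j := 3) (by norm_num) (by rw [hα]; decide) (by decide) J hJ)]
    norm_num [Nat.choose]
  · rw [sum_choose_inter hB hb 4 5 (fun J _ hJ =>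
      card_blocksThrough_eq hB (j := 4) (by norm_num) (by rw [hα]; decide) (by decide) J hJ)]
    norm_num [Nat.choose]


/-- In a Steiner system S(5, 8, 24), two distinct blocks intersect in 0, 2 or 4 points. -/
theorem result {α : Type*} [Fintype α] [DecidableEq α] (hα : Fintype.card α = 24) {B : Set (Finset α)} (hB : Cfsg.IsSteinerSystem 5 8 B) {b c : Finset α} (hb : b ∈ B) (hc : c ∈ B) (hbc : b ≠ c) : (b ∩ c).card = 0 ∨ (b ∩ c).card = 2 ∨ (b ∩ c).card = 4 := by
  obtain ⟨h1, h2, h3, h4⟩ := sums hα hB hb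
  have hle : ∀ c ∈ (blocks B).erase b,
      6 * Nat.choose (b ∩ c).card 2 + 24 * Nat.choose (b ∩ c).card 4 ≤
        3 * Nat.choose (b ∩ c).card 1 + 12 * Nat.choose (b ∩ c).card 3 := by
    intro c hc
    rw [Finset.mem_erase, mem_blocks] at hc
    have hlt := card_inter_lt hB hb hc.2 (Ne.symm hc.1)
    exact (pointwise _ (by omega)).1
  have hsum : ∑ c ∈ (blocks B).erase b,
      (6 * Nat.choose (b ∩ c).card 2 + 24 * Nat.choose (b ∩ c).card 4) =
      ∑ c ∈ (blocks B).erase b,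
        (3 * Nat.choose (b ∩ c).card 1 + 12 * Nat.choose (b ∩ c).card 3) := by
    rw [Finset.sum_add_distrib, Finset.sum_add_distrib, ← Finset.mul_sum, ← Finset.mul_sum,
      ← Finset.mul_sum, ← Finset.mul_sum, h1, h2, h3, h4]; norm_num
  have hpt := (Finset.sum_eq_sum_iff_of_le hle).1 hsum c
    (Finset.mem_erase.2 ⟨Ne.symm hbc, mem_blocks.2 hc⟩)
  have hlt := card_inter_lt hB hb hc hbc
  exact (pointwise _ (by omega)).2 hpt

end Cfsg.Agent.S0352
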