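import Cfsg.Statements.S2639
import Cfsg.Agent.Lib.Helper94_Symp
import Cfsg.Agent.Lib.Helper94_Bridge
import Cfsg.Agent.Lib.Helper99_SpBridge

set_option autoImplicit false
open Cfsg

namespace Cfsg.Agent.S2639

open Cfsg.Agent.Lib.Helper94_Symp Cfsg.Agent.Lib.Helper94_Bridge Matrix

/-- A ring embedding of the field with `q` elements into the field with `q²` elements. -/
lemma exists_ringHom {K F : Type*} [Field K] [Fintype K] [Field F] [Fintype F] {q : ℕ}
    (hK : Fintype.card K = q ^ 2) (hF : Fintype.card F = q) : Nonempty (F →+* K) := by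
  obtain ⟨p, hp⟩ := CharP.exists F
  obtain ⟨n, hprime, hcardF⟩ := FiniteField.card F p
  haveI : Fact p.Prime := ⟨hprime⟩
  obtain ⟨p', hp'⟩ := CharP.exists K
  obtain ⟨n', hprime', hcardK⟩ := FiniteField.card K p'
  have hpp : p' = p := by
    have h1 : p' ∣ p ^ (2 * (n : ℕ)) := by
      have : p ^ (2 * (n : ℕ)) = p' ^ (n' : ℕ) := by
        rw [← hcardK, hK, ← hF, hcardF, ← pow_mul, mul_comm]
      rw [this]
      exact dvd_pow_self _ n'.ne_zero
    exact (Nat.prime_dvd_prime_iff_eq hprime' hprime).mp (hprime'.dvd_of_dvd_pow h1)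
  subst hpp
  letI := ZMod.algebra F p'
  letI := ZMod.algebra K p'
  have h1 : p' ^ Module.finrank (ZMod p') F = Fintype.card F := FiniteField.pow_finrank_eq_card p' F
  have h2 : p' ^ Module.finrank (ZMod p') K = Fintype.card K := FiniteField.pow_finrank_eq_card p' K
  have h3 : Module.finrank (ZMod p') K = 2 * Module.finrank (ZMod p') F := by
    apply Nat.pow_right_injective hprime.two_le
    simp only
    rw [h2, hK, ← hF, ← h1, ← pow_mul, mul_comm]
  obtain ⟨f⟩ := FiniteField.nonempty_algHom_of_finrank_dvd (F := ZMod p') (K := F) (L := K)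
    (by rw [h3]; exact dvd_mul_left _ _)
  exact ⟨f.toRingHom⟩


section Main

variable {K F : Type*} [Field K] [Fintype K] [Field F] [Fintype F] [Algebra F K]

local notation "β" => FiniteField.frobeniusAlgHom F K

omit [Fintype K] in
lemma beta_apply (x : K) : β x = x ^ Fintype.card F := rfl

lemma beta_beta (hK : Fintype.card K = Fintype.card F ^ 2) (x : K) : β (β x) = x := by
  rw [beta_apply, beta_apply, ← pow_mul, ← sq, ← hK, FiniteField.pow_card]

omit [Fintype K] in
lemma fixed_mem_range (x : K) (hx : β x = x) : ∃ a : F, algebraMap F K a = x := by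
  classical
  have hq : 1 < Fintype.card F := Fintype.one_lt_card
  set P : Polynomial K := Polynomial.X ^ Fintype.card F - Polynomial.X with hP
  have hP0 : P ≠ 0 := FiniteField.X_pow_card_sub_X_ne_zero K hq
  have hdeg : P.natDegree = Fintype.card F := FiniteField.X_pow_card_sub_X_natDegree_eq K hq
  have hsub : Finset.univ.image (algebraMap F K) ⊆ P.roots.toFinset := by
    intro y hy
    obtain ⟨a, -, rfl⟩ := Finset.mem_image.mp hy
    rw [Multiset.mem_toFinset, Polynomial.mem_roots hP0]
    simp [P, ← map_pow, FiniteField.pow_card]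
  have hcard : P.roots.toFinset.card ≤ (Finset.univ.image (algebraMap F K)).card := by
    rw [Finset.card_image_of_injective _ (algebraMap F K).injective, Finset.card_univ]
    calc P.roots.toFinset.card ≤ Multiset.card P.roots := Multiset.toFinset_card_le _
      _ ≤ P.natDegree := Polynomial.card_roots' P
      _ = _ := hdeg
  have heq := Finset.eq_of_subset_of_card_le hsub hcard
  have hxr : x ∈ P.roots.toFinset := by
    rw [Multiset.mem_toFinset, Polynomial.mem_roots hP0]
    rw [beta_apply] at hx
    simp [P, hx]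
  rw [← heq] at hxr
  obtain ⟨a, -, ha⟩ := Finset.mem_image.mp hxr
  exact ⟨a, ha⟩

lemma exists_not_fixed (hK : Fintype.card K = Fintype.card F ^ 2) : ∃ u : K, β u ≠ u := by
  by_contra hcon
  push Not at hcon
  have hsurj : Function.Surjective (algebraMap F K) := fun x => fixed_mem_range x (hcon x)
  have h1 : Fintype.card K ≤ Fintype.card F := Fintype.card_le_of_surjective _ hsurj
  have h2 : 1 < Fintype.card F := Fintype.one_lt_card
  rw [hK] at h1
  nlinarith

variable (m : ℕ)

/-- The hermitian form, written with the Frobenius algebra homomorphism. -/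
def hs (x y : Fin m → K) : K := ∑ i, x i * (FiniteField.frobeniusAlgHom F K) (y i)

omit [Fintype K] in
lemma hs_eq (x y : Fin m → K) :
    hs (F := F) m x y = Cfsg.hermForm m K (Fintype.card F) x y := rfl

/-- The `F`-bilinear `K`-valued form `θ h + (θ h)^q`. -/
def TT (θ : K) : (Fin m → K) →ₗ[F] (Fin m → K) →ₗ[F] K :=
  LinearMap.mk₂ F (fun x y => θ * hs (F := F) m x y + β (θ * hs (F := F) m x y))
    (by
      intro x x' y
      have : hs (F := F) m (x + x') y = hs (F := F) m x y + hs (F := F) m x' y := by
        simp only [hs, Pi.add_apply, add_mul, Finset.sum_add_distrib]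
      rw [this, mul_add, map_add]
      abel)
    (by
      intro c x y
      have : hs (F := F) m (c • x) y = algebraMap F K c * hs (F := F) m x y := by
        simp only [hs, Pi.smul_apply, Algebra.smul_def, Finset.mul_sum, mul_assoc]
      rw [this, ← mul_assoc, mul_comm θ, mul_assoc, map_mul, AlgHom.commutes, Algebra.smul_def,
        mul_add])
    (by
      intro x y y'
      have : hs (F := F) m x (y + y') = hs (F := F) m x y + hs (F := F) m x y' := by
        simp only [hs, Pi.add_apply, map_add, mul_add, Finset.sum_add_distrib]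
      rw [this, mul_add, map_add]
      abel)
    (by
      intro c x y
      have : hs (F := F) m x (c • y) = algebraMap F K c * hs (F := F) m x y := by
        simp only [hs, Pi.smul_apply, Algebra.smul_def, Finset.mul_sum]
        refine Finset.sum_congr rfl fun i _ => ?_
        rw [map_mul, AlgHom.commutes]
        ring
      rw [this, ← mul_assoc, mul_comm θ, mul_assoc, map_mul, AlgHom.commutes, Algebra.smul_def,
        mul_add])

lemma TT_apply (θ : K) (x y : Fin m → K) :
    TT (F := F) m θ x y = θ * hs (F := F) m x y + β (θ * hs (F := F) m x y) := rfl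

lemma beta_TT (hK : Fintype.card K = Fintype.card F ^ 2) (θ : K) (x y : Fin m → K) :
    β (TT (F := F) m θ x y) = TT (F := F) m θ x y := by
  rw [TT_apply, map_add, beta_beta hK, add_comm]

lemma beta_hs_self (hK : Fintype.card K = Fintype.card F ^ 2) (x : Fin m → K) :
    β (hs (F := F) m x x) = hs (F := F) m x x := by
  simp only [hs, map_sum, map_mul, beta_beta hK]
  exact Finset.sum_congr rfl fun i _ => mul_comm _ _

lemma TT_self (hK : Fintype.card K = Fintype.card F ^ 2) (θ : K) (hθ : β θ = -θ)
    (x : Fin m → K) : TT (F := F) m θ x x = 0 := by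
  rw [TT_apply, map_mul, beta_hs_self m hK, hθ]
  ring

/-- The `F`-valued form obtained from `TT` through an `F`-linear retraction `r : K → F`. -/
def BB (θ : K) (r : K →ₗ[F] F) : LinearMap.BilinForm F (Fin m → K) :=
  (TT (F := F) m θ).compr₂ r

lemma algebraMap_BB (hK : Fintype.card K = Fintype.card F ^ 2) (θ : K) (r : K →ₗ[F] F)
    (hr : ∀ a : F, r (algebraMap F K a) = a) (x y : Fin m → K) :
    algebraMap F K (BB m θ r x y) = TT (F := F) m θ x y := by
  obtain ⟨a, ha⟩ := fixed_mem_range (F := F) _ (beta_TT m hK θ x y)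
  rw [BB, LinearMap.compr₂_apply, ← ha, hr]

lemma BB_isAlt (hK : Fintype.card K = Fintype.card F ^ 2) (θ : K) (hθ : β θ = -θ)
    (r : K →ₗ[F] F) (hr : ∀ a : F, r (algebraMap F K a) = a) : (BB m θ r).IsAlt := by
  intro x
  apply (algebraMap F K).injective
  rw [algebraMap_BB m hK θ r hr, TT_self m hK θ hθ, map_zero]

lemma exists_add_beta_ne_zero (hK : Fintype.card K = Fintype.card F ^ 2) :
    ∃ z : K, z + β z ≠ 0 := by
  by_contra hcon
  push Not at hcon
  obtain ⟨u, hu⟩ := exists_not_fixed (F := F) hK
  have h1 : (1 : K) + 1 = 0 := by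
    have := hcon 1
    rwa [map_one] at this
  apply hu
  have h2 := hcon u
  have h3 : u + u = 0 := by
    calc u + u = u * (1 + 1) := by ring
      _ = 0 := by rw [h1, mul_zero]
  calc β u = β u + (u + u) := by rw [h3, add_zero]
    _ = (u + β u) + u := by ring
    _ = u := by rw [h2, zero_add]

lemma BB_separatingLeft (hK : Fintype.card K = Fintype.card F ^ 2) (θ : K) (hθ0 : θ ≠ 0)
    (r : K →ₗ[F] F) (hr : ∀ a : F, r (algebraMap F K a) = a) : (BB m θ r).SeparatingLeft := by
  intro x hx
  by_contra hx0
  obtain ⟨i, hi⟩ : ∃ i, x i ≠ 0 := by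
    by_contra hcon
    push Not at hcon
    exact hx0 (funext hcon)
  obtain ⟨z, hz⟩ := exists_add_beta_ne_zero (F := F) hK
  set w := θ * x i with hw
  have hw0 : w ≠ 0 := mul_ne_zero hθ0 hi
  set c : K := β (z / w) with hc
  have h1 := hx (Pi.single i c)
  have h2 := algebraMap_BB m hK θ r hr x (Pi.single i c)
  rw [h1, map_zero, TT_apply] at h2
  have h3 : hs (F := F) m x (Pi.single i c) = x i * β c := by
    rw [hs, Finset.sum_eq_single i]
    · rw [Pi.single_eq_same]
    · intro j _ hj
      rw [Pi.single_eq_of_ne hj, map_zero, mul_zero]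
    · intro h; exact absurd (Finset.mem_univ i) h
  rw [h3, hc, beta_beta hK, ← mul_assoc, ← hw, mul_div_cancel₀ z hw0] at h2
  exact hz h2.symm

lemma BB_nondegenerate (hK : Fintype.card K = Fintype.card F ^ 2) (θ : K) (hθ : β θ = -θ)
    (hθ0 : θ ≠ 0) (r : K →ₗ[F] F) (hr : ∀ a : F, r (algebraMap F K a) = a) :
    (BB m θ r).Nondegenerate := by
  refine ⟨BB_separatingLeft m hK θ hθ0 r hr, ?_⟩
  intro y hy
  refine BB_separatingLeft m hK θ hθ0 r hr y (fun x => ?_)
  rw [← (BB_isAlt m hK θ hθ r hr).neg_eq, hy, neg_zero]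

/-- The action of `GL_m(K)` on `K^m`, as `F`-linear automorphisms. -/
noncomputable def gLin : Matrix.GeneralLinearGroup (Fin m) K →* ((Fin m → K) ≃ₗ[F] (Fin m → K)) where
  toFun g := (glEquiv (Fin m) K g).restrictScalars F
  map_one' := by
    refine LinearEquiv.ext fun v => ?_
    simp
  map_mul' g h := by
    refine LinearEquiv.ext fun v => ?_
    simp [LinearEquiv.mul_apply, Matrix.mulVec_mulVec]

lemma gLin_apply (g : Matrix.GeneralLinearGroup (Fin m) K) (v : Fin m → K) :
    gLin (F := F) m g v = (g : Matrix (Fin m) (Fin m) K) *ᵥ v := by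
  simp [gLin]

lemma gLin_injective : Function.Injective (gLin (F := F) (K := K) m) := by
  intro g h hgh
  apply (glEquiv (Fin m) K).injective
  refine LinearEquiv.ext fun v => ?_
  have := congrArg (fun e : (Fin m → K) ≃ₗ[F] (Fin m → K) => e v) hgh
  simpa [gLin] using this

lemma gLin_mem_isoGroup (θ : K) (r : K →ₗ[F] F) (g : Matrix.GeneralLinearGroup (Fin m) K)
    (hg : g ∈ Cfsg.GU m K (Fintype.card F)) : gLin (F := F) m g ∈ isoGroup (BB m θ r) := by
  intro u v
  have h := hg u v
  rw [BB, LinearMap.compr₂_apply, LinearMap.compr₂_apply, TT_apply, TT_apply, hs_eq, hs_eq,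
    gLin_apply, gLin_apply]
  change Cfsg.hermForm m K (Fintype.card F) ((g : Matrix (Fin m) (Fin m) K) *ᵥ u)
    ((g : Matrix (Fin m) (Fin m) K) *ᵥ v) = _ at h
  rw [h]

lemma finrank_eq_two (hK : Fintype.card K = Fintype.card F ^ 2) : Module.finrank F K = 2 := by
  have h := Module.card_eq_pow_finrank (K := F) (V := K)
  rw [hK] at h
  exact (Nat.pow_right_injective (Fintype.one_lt_card (α := F)) h).symm

end Main

/-- The unitary group embeds in the symplectic group of twice the dimension over the subfield: for a field K with q² elements and a field F with q elements (isomorphic to the subfield of K of order q), there is an injective homomorphism GU_m(q) → Sp_2m(F). -/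
theorem result {K F : Type*} [Field K] [Fintype K] [Field F] [Fintype F] {q : ℕ} (hK : Fintype.card K = q ^ 2) (hF : Fintype.card F = q) (m : ℕ) : ∃ φ : ↥(Cfsg.GU m K q) →* ↥(Matrix.symplecticGroup (Fin m) F), Function.Injective φ := by
  obtain ⟨ι⟩ := exists_ringHom hK hF
  subst hF
  letI : Algebra F K := ι.toAlgebra
  have hK' : Fintype.card K = Fintype.card F ^ 2 := hK
  obtain ⟨u, hu⟩ := exists_not_fixed (F := F) hK'
  set θ : K := u - (FiniteField.frobeniusAlgHom F K) u with hθdef
  have hθ : (FiniteField.frobeniusAlgHom F K) θ = -θ := by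
    rw [hθdef, map_sub, beta_beta hK']
    ring
  have hθ0 : θ ≠ 0 := sub_ne_zero.mpr (Ne.symm hu)
  obtain ⟨r, hr⟩ := LinearMap.exists_leftInverse_of_injective (Algebra.linearMap F K)
    (LinearMap.ker_eq_bot.mpr (algebraMap F K).injective)
  have hr' : ∀ a : F, r (algebraMap F K a) = a := by
    intro a
    have := LinearMap.congr_fun hr a
    simpa using this
  have hdim : Module.finrank F (Fin m → K) = 2 * m := by
    rw [Module.finrank_pi_fintype]
    simp only [finrank_eq_two hK', Finset.sum_const, Finset.card_univ, Fintype.card_fin,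
      smul_eq_mul]
    ring
  obtain ⟨E⟩ := Cfsg.Agent.Lib.Helper99_SpBridge.nonempty_mulEquiv_symplecticGroup (BB m θ r)
    (BB_isAlt m hK' θ hθ r hr') (BB_nondegenerate m hK' θ hθ hθ0 r hr') m hdim
  refine ⟨E.toMonoidHom.comp (((gLin (F := F) m).comp (Cfsg.GU m K (Fintype.card F)).subtype).codRestrict
    (isoGroup (BB m θ r)) (fun g => gLin_mem_isoGroup m θ r g.1 g.2)), ?_⟩
  intro g h hgh
  have h1 := E.injective hgh
  have h2 := congrArg Subtype.val h1
  exact Subtype.ext (gLin_injective m h2)

end Cfsg.Agent.S2639
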