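import Cfsg.Statements.S0045
import Mathlib
import Cfsg.Agent.Lib.Helper1_Transport
import Cfsg.Agent.Lib.Helper1_SZ
import Cfsg.Agent.S0043

set_option autoImplicit false
open Pointwise
open Cfsg

namespace Cfsg.Agent.S0045

open Subgroup
open scoped Pointwise
open Cfsg.Agent.Lib.Helper1_Transport

universe u

/-- nilpotent and self-normalizing -/
def IsCarter {G : Type*} [Group G] (C : Subgroup G) : Prop :=
  Group.IsNilpotent C ∧ normalizer (C : Set G) = C

theorem mem_normalizer_of_conj_smul_eq {G : Type*} [Group G] {C : Subgroup G} {h : G}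
    (hh : MulAut.conj h • C = C) : h ∈ normalizer (C : Set G) := by
  rw [mem_normalizer_iff]
  intro x
  constructor
  · intro hx
    have : h * x * h⁻¹ ∈ MulAut.conj h • C := by
      rw [mem_conj_smul_iff]; simpa [mul_assoc] using hx
    rwa [hh] at this
  · intro hx
    rw [← hh, mem_conj_smul_iff] at hx
    simpa [mul_assoc] using hx

theorem conj_smul_eq_of_mem_normalizer {G : Type*} [Group G] {C : Subgroup G} {h : G}
    (hh : h ∈ normalizer (C : Set G)) : MulAut.conj h • C = C := by
  ext x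
  rw [mem_conj_smul_iff]
  have := (mem_normalizer_iff.mp (inv_mem hh)) x
  simpa using this.symm

theorem IsCarter.conj {G : Type*} [Group G] {C : Subgroup G} (hC : IsCarter C) (g : G) :
    IsCarter (MulAut.conj g • C) := by
  obtain ⟨h1, h2⟩ := hC
  refine ⟨?_, ?_⟩
  · exact Group.nilpotent_of_mulEquiv (equivSMul (MulAut.conj g) C)
  · ext x
    constructor
    · intro hx
      -- g⁻¹ x g normalizes C
      have h3 : g⁻¹ * x * g ∈ normalizer (C : Set G) := by
        apply mem_normalizer_of_conj_smul_eq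
        have h4 := conj_smul_eq_of_mem_normalizer hx
        have : MulAut.conj (g⁻¹ * x * g) • C = MulAut.conj g⁻¹ • (MulAut.conj x • (MulAut.conj g • C)) := by
          rw [smul_smul, smul_smul, ← map_mul, ← map_mul]
        rw [this, h4, smul_smul, ← map_mul, inv_mul_cancel, map_one, one_smul]
      rw [h2] at h3
      rw [mem_conj_smul_iff]; exact h3
    · intro hx
      rw [mem_conj_smul_iff] at hx
      have h3 : g⁻¹ * x * g ∈ normalizer (C : Set G) := by rw [h2]; exact hx
      apply mem_normalizer_of_conj_smul_eq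
      have h4 := conj_smul_eq_of_mem_normalizer h3
      have : MulAut.conj x • (MulAut.conj g • C) = MulAut.conj g • (MulAut.conj (g⁻¹ * x * g) • C) := by
        rw [smul_smul, smul_smul, ← map_mul, ← map_mul]
        congr 2
        group
      rw [this, h4]

theorem IsCarter.eq_top_of_isNilpotent {G : Type*} [Group G] [Group.IsNilpotent G] {C : Subgroup G}
    (hC : IsCarter C) : C = ⊤ := by
  by_contra h
  have := Group.normalizerCondition_of_isNilpotent (G := G) C (lt_top_iff_ne_top.mpr h)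
  rw [hC.2] at this
  exact lt_irrefl _ this

theorem IsCarter.subgroupOf {G : Type*} [Group G] {C K : Subgroup G} (hC : IsCarter C)
    (hCK : C ≤ K) : IsCarter (C.subgroupOf K) := by
  obtain ⟨h1, h2⟩ := hC
  refine ⟨Group.nilpotent_of_mulEquiv (subgroupOfEquivOfLe hCK).symm, ?_⟩
  rw [← subgroupOf_normalizer_eq hCK, h2]

theorem isCarter_top {G : Type*} [Group G] [Group.IsNilpotent G] : IsCarter (⊤ : Subgroup G) :=
  ⟨Group.nilpotent_of_mulEquiv (topEquiv (G := G)).symm, by
    rw [eq_top_iff]; exact le_normalizer⟩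

/-- A Carter subgroup of a subgroup `K`, seen in `G`. -/
theorem IsCarter.map_subtype {G : Type*} [Group G] {K : Subgroup G} {C' : Subgroup K}
    (hC : IsCarter C') :
    Group.IsNilpotent (C'.map K.subtype) ∧ C'.map K.subtype ≤ K ∧
      normalizer ((C'.map K.subtype : Subgroup G) : Set G) ⊓ K ≤ C'.map K.subtype := by
  obtain ⟨h1, h2⟩ := hC
  have hle : C'.map K.subtype ≤ K := map_subtype_le C'
  refine ⟨Group.nilpotent_of_mulEquiv (C'.equivMapOfInjective K.subtype K.subtype_injective), hle, ?_⟩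
  intro x hx
  obtain ⟨hx1, hx2⟩ := mem_inf.mp hx
  have h3 : (⟨x, hx2⟩ : K) ∈ (normalizer ((C'.map K.subtype : Subgroup G) : Set G)).subgroupOf K := by
    rw [mem_subgroupOf]; exact hx1
  have h5 : (C'.map K.subtype).subgroupOf K = C' :=
    comap_map_eq_self_of_injective K.subtype_injective C'
  rw [subgroupOf_normalizer_eq hle, h5, h2] at h3
  exact ⟨⟨x, hx2⟩, h3, rfl⟩


/-- conjugacy of Carter subgroups in all solvable groups of order less than `n` -/
def ConjBelow (n : ℕ) : Prop :=
  ∀ (H : Type u) [Group H] [Finite H] [Group.IsSolvable H], Nat.card H < n →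
    ∀ C D : Subgroup H, IsCarter C → IsCarter D → ∃ g : H, MulAut.conj g • C = D

/-- existence of Carter subgroups in all solvable groups of order less than `n` -/
def ExistsBelow (n : ℕ) : Prop :=
  ∀ (H : Type u) [Group H] [Finite H] [Group.IsSolvable H], Nat.card H < n →
    ∃ C : Subgroup H, IsCarter C

theorem card_lt_of_ne_top {G : Type*} [Group G] [Finite G] {K : Subgroup G} (hK : K ≠ ⊤) :
    Nat.card K < Nat.card G := by
  rcases lt_or_eq_of_le (Subgroup.card_le_card_group K) with h | h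
  · exact h
  · exact absurd (Subgroup.eq_top_of_card_eq K h) hK

theorem map_sup_ker {G : Type*} [Group G] (A : Subgroup G) [A.Normal] (C : Subgroup G) :
    (C ⊔ A).map (QuotientGroup.mk' A) = C.map (QuotientGroup.mk' A) := by
  rw [Subgroup.map_sup, QuotientGroup.map_mk'_self, sup_bot_eq]

/-- The image of a Carter subgroup in a quotient is a Carter subgroup. -/
theorem IsCarter.map_mk' {G : Type u} [Group G] [Finite G] [Group.IsSolvable G]
    (ih : ConjBelow.{u} (Nat.card G)) (A : Subgroup G) [A.Normal] {C : Subgroup G}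
    (hC : IsCarter C) : IsCarter (C.map (QuotientGroup.mk' A)) := by
  have hCn : Group.IsNilpotent C := hC.1
  refine ⟨Group.nilpotent_of_surjective ((QuotientGroup.mk' A).subgroupMap C)
    (MonoidHom.subgroupMap_surjective _ _), le_antisymm ?_ le_normalizer⟩
  intro gbar hg
  obtain ⟨g, rfl⟩ := QuotientGroup.mk'_surjective A gbar
  have h1 : MulAut.conj (QuotientGroup.mk' A g) • C.map (QuotientGroup.mk' A) =
      C.map (QuotientGroup.mk' A) := conj_smul_eq_of_mem_normalizer hg
  have h2 : (MulAut.conj g • C) ⊔ A = C ⊔ A := conj_sup_eq_of_map_conj A C C g h1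
  by_cases hK : C ⊔ A = ⊤
  · have : C.map (QuotientGroup.mk' A) = ⊤ := by
      rw [← map_sup_ker, hK]
      exact map_top_of_surjective _ (QuotientGroup.mk'_surjective A)
    rw [this]; trivial
  · have hlt := card_lt_of_ne_top hK
    have hCK : C ≤ C ⊔ A := le_sup_left
    have hDK : MulAut.conj g • C ≤ C ⊔ A := by rw [← h2]; exact le_sup_left
    obtain ⟨x, hx⟩ := ih ↥(C ⊔ A) hlt _ _ (hC.subgroupOf hCK) ((hC.conj g).subgroupOf hDK)
    have h3 : MulAut.conj (x : G) • C = MulAut.conj g • C := conj_of_subgroupOf hCK hDK x hx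
    have h4 : MulAut.conj (g⁻¹ * (x : G)) • C = C := by
      rw [map_mul, mul_smul, h3, smul_smul, ← map_mul, inv_mul_cancel, map_one, one_smul]
    have h5 : g⁻¹ * (x : G) ∈ C := by
      have := mem_normalizer_of_conj_smul_eq h4
      rwa [hC.2] at this
    have h6 : g ∈ C ⊔ A := by
      have : g = (x : G) * (g⁻¹ * (x : G))⁻¹ := by group
      rw [this]
      exact mul_mem x.2 (inv_mem (hCK h5))
    rw [← map_sup_ker]
    exact mem_map_of_mem _ h6

/-- If `G/A` is nilpotent for a normal `p`-subgroup `A`, then `G` has a Carter subgroup. -/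
theorem exists_isCarter_of_nilpotent_quotient {G : Type u} [Group G] [Finite G] {p : ℕ}
    [hp : Fact p.Prime] (A : Subgroup G) [A.Normal] (hA : IsPGroup p A)
    (hGA : Group.IsNilpotent (G ⧸ A)) : ∃ C : Subgroup G, IsCarter C := by
  obtain ⟨Pbar⟩ : Nonempty (Sylow p (G ⧸ A)) := inferInstance
  have hPn : (Pbar : Subgroup (G ⧸ A)).Normal := inferInstance
  set P : Subgroup G := (Pbar : Subgroup (G ⧸ A)).comap (QuotientGroup.mk' A) with hP
  have hPnorm : P.Normal := Subgroup.Normal.comap hPn _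
  have hAP : A ≤ P := by
    conv_lhs => rw [← QuotientGroup.ker_mk' A]
    exact ker_le_comap _ _
  -- `P` is a `p`-group of index prime to `p`
  obtain ⟨a, ha⟩ := IsPGroup.iff_card.mp Pbar.isPGroup'
  obtain ⟨b, hb⟩ := IsPGroup.iff_card.mp hA
  have hPcard : Nat.card P = p ^ (a + b) := by
    rw [hP, card_comap_mk', ha, hb, pow_add]
  have hPidx : ¬ p ∣ P.index := by
    rw [hP, index_comap_of_surjective _ (QuotientGroup.mk'_surjective A)]
    exact Pbar.not_dvd_index
  have hcop : (Nat.card P).Coprime P.index := by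
    rw [hPcard]
    exact Nat.Coprime.pow_left _ ((Nat.Prime.coprime_iff_not_dvd hp.out).mpr hPidx)
  obtain ⟨Q, hQ⟩ := Subgroup.exists_right_complement'_of_coprime hcop
  have hQidx : Q.index = Nat.card P := hQ.index_eq_card
  have hQcard : Nat.card Q = P.index := Cfsg.Agent.Lib.Helper1_SZ.card_eq_index_of_isComplement' P Q hQ
  have hPQ : P ⊓ Q = ⊥ := hQ.disjoint.eq_bot
  set C : Subgroup G := normalizer (Q : Set G) with hC
  have hQC : Q ≤ C := le_normalizer
  have hQ'n : (Q.subgroupOf C).Normal := Subgroup.normal_in_normalizer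
  -- the quotient `C/Q` is a `p`-group
  have hCQ : IsPGroup p (↥C ⧸ Q.subgroupOf C) := by
    have h1 : Nat.card (↥C ⧸ Q.subgroupOf C) ∣ p ^ (a + b) := by
      rw [← index_eq_card, ← hPcard, ← hQidx]
      exact relIndex_dvd_index_of_le hQC
    obtain ⟨j, -, hj⟩ := (Nat.dvd_prime_pow hp.out).mp h1
    exact IsPGroup.of_card hj
  -- `G/P` is nilpotent
  have hGP : Group.IsNilpotent (G ⧸ P) := by
    have hle : A ≤ P.comap (MonoidHom.id G) := by simpa using hAP
    apply Group.nilpotent_of_surjective (QuotientGroup.map A P (MonoidHom.id G) hle)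
    intro y
    obtain ⟨g, rfl⟩ := QuotientGroup.mk'_surjective P y
    exact ⟨QuotientGroup.mk' A g, rfl⟩
  -- elements of `C` of order prime to `p` lie in `Q`
  have key : ∀ y : G, y ∈ C → (orderOf y).Coprime p → y ∈ Q := by
    intro y hy hcop
    have h1 : orderOf (QuotientGroup.mk' (Q.subgroupOf C) ⟨y, hy⟩) ∣ orderOf y := by
      have := orderOf_map_dvd (QuotientGroup.mk' (Q.subgroupOf C)) (⟨y, hy⟩ : C)
      rwa [Subgroup.orderOf_mk] at this
    obtain ⟨j, hj⟩ := hCQ (QuotientGroup.mk' (Q.subgroupOf C) ⟨y, hy⟩)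
    have h2 : orderOf (QuotientGroup.mk' (Q.subgroupOf C) ⟨y, hy⟩) ∣ p ^ j :=
      orderOf_dvd_of_pow_eq_one hj
    have h3 : orderOf (QuotientGroup.mk' (Q.subgroupOf C) ⟨y, hy⟩) = 1 :=
      Nat.eq_one_of_dvd_coprimes (Nat.Coprime.pow_right j hcop) h1 h2
    have h4 := orderOf_eq_one_iff.mp h3
    rw [QuotientGroup.mk'_apply, QuotientGroup.eq_one_iff, mem_subgroupOf] at h4
    exact h4
  have hQord : ∀ q : G, q ∈ Q → (orderOf q).Coprime p := by
    intro q hq
    have h1 : orderOf q ∣ Nat.card Q := Subgroup.orderOf_dvd_natCard Q hq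
    rw [hQcard] at h1
    exact Nat.Coprime.coprime_dvd_left h1
      ((Nat.Prime.coprime_iff_not_dvd hp.out).mpr hPidx).symm
  refine ⟨C, ?_, le_antisymm ?_ le_normalizer⟩
  · -- nilpotent
    have : Group.IsNilpotent (↥C ⧸ Q.subgroupOf C) := hCQ.isNilpotent
    let f1 : ↥C →* G ⧸ P := (QuotientGroup.mk' P).comp C.subtype
    let f2 : ↥C →* ↥C ⧸ Q.subgroupOf C := QuotientGroup.mk' (Q.subgroupOf C)
    have hinj : Function.Injective (f1.prod f2) := by
      rw [injective_iff_map_eq_one]
      intro x hx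
      have hx1 : f1 x = 1 := congrArg Prod.fst hx
      have hx2 : f2 x = 1 := congrArg Prod.snd hx
      have h1 : (x : G) ∈ P := by
        have : QuotientGroup.mk' P (x : G) = 1 := hx1
        rwa [QuotientGroup.mk'_apply, QuotientGroup.eq_one_iff] at this
      have h2 : (x : G) ∈ Q := by
        have : QuotientGroup.mk' (Q.subgroupOf C) x = 1 := hx2
        rwa [QuotientGroup.mk'_apply, QuotientGroup.eq_one_iff, mem_subgroupOf] at this
      have h3 : (x : G) ∈ P ⊓ Q := ⟨h1, h2⟩
      rw [hPQ, mem_bot] at h3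
      exact Subtype.ext h3
    exact Group.nilpotent_of_mulEquiv (MonoidHom.ofInjective hinj).symm
  · -- self-normalizing
    intro h hh
    rw [hC, mem_normalizer_iff]
    have hh' : h⁻¹ ∈ normalizer (C : Set G) := inv_mem hh
    intro q
    constructor
    · intro hq
      apply key
      · exact (mem_normalizer_iff.mp hh q).mp (hQC hq)
      · have : orderOf (h * q * h⁻¹) = orderOf q := (MulAut.conj h).orderOf_eq q
        rw [this]
        exact hQord q hq
    · intro hq
      have h1 : h⁻¹ * (h * q * h⁻¹) * h⁻¹⁻¹ ∈ Q := by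
        apply key
        · exact (mem_normalizer_iff.mp hh' _).mp (hQC hq)
        · have : orderOf (h⁻¹ * (h * q * h⁻¹) * h⁻¹⁻¹) = orderOf (h * q * h⁻¹) :=
            (MulAut.conj h⁻¹).orderOf_eq _
          rw [this]
          exact hQord _ hq
      have h2 : h⁻¹ * (h * q * h⁻¹) * h⁻¹⁻¹ = q := by group
      rwa [h2] at h1


theorem normal_of_sup_eq_top {G : Type*} [Group G] {A C X : Subgroup G} [A.Normal]
    (hA : ∀ a ∈ A, ∀ b ∈ A, a * b = b * a) (hCA : C ⊔ A = ⊤) (hXA : X ≤ A)
    (hX : ∀ c ∈ C, ∀ x ∈ X, c * x * c⁻¹ ∈ X) : X.Normal := by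
  constructor
  intro x hx g
  have hg : g ∈ C ⊔ A := by rw [hCA]; trivial
  obtain ⟨c, hc, a, ha, rfl⟩ := mem_sup_of_normal_right.mp hg
  have h1 : c * a * x * (c * a)⁻¹ = c * (a * x * a⁻¹) * c⁻¹ := by group
  have h2 : a * x * a⁻¹ = x := by rw [hA a ha x (hXA hx)]; group
  rw [h1, h2]
  exact hX c hc x hx

theorem exists_minimal_normal {G : Type*} [Group G] [Finite G] [Nontrivial G] :
    ∃ N : Subgroup G, N.Normal ∧ N ≠ ⊥ ∧
      ∀ M : Subgroup G, M.Normal → M ≤ N → M = ⊥ ∨ M = N := by
  classical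
  have hex : ∃ k : ℕ, ∃ N : Subgroup G, N.Normal ∧ N ≠ ⊥ ∧ Nat.card N = k :=
    ⟨Nat.card (⊤ : Subgroup G), ⊤, inferInstance, top_ne_bot, rfl⟩
  obtain ⟨N, hNn, hN0, hNc⟩ := Nat.find_spec hex
  refine ⟨N, hNn, hN0, ?_⟩
  intro M hMn hMN
  by_cases hM : M = ⊥
  · exact Or.inl hM
  · right
    apply Subgroup.eq_of_le_of_card_ge hMN
    rw [hNc]
    exact Nat.find_min' hex ⟨M, hMn, hM, rfl⟩


theorem card_quotient_lt {G : Type*} [Group G] [Finite G] (Z : Subgroup G) [Z.Normal]
    (hZ : Z ≠ ⊥) : Nat.card (G ⧸ Z) < Nat.card G := by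
  have h1 : Nat.card G = Nat.card (G ⧸ Z) * Nat.card Z :=
    Subgroup.card_eq_card_quotient_mul_card_subgroup Z
  have h2 : 1 < Nat.card Z := (Subgroup.one_lt_card_iff_ne_bot Z).mpr hZ
  have h3 : 0 < Nat.card (G ⧸ Z) := Nat.card_pos
  rw [h1]
  exact (Nat.lt_mul_iff_one_lt_right h3).mpr h2

/-- Two Carter subgroups sharing a nontrivial central element of `G` are conjugate. -/
theorem conj_of_central {G : Type u} [Group G] [Finite G] [Group.IsSolvable G]
    (ih : ConjBelow.{u} (Nat.card G)) {C D : Subgroup G} (hC : IsCarter C) (hD : IsCarter D)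
    {z : G} (hzC : z ∈ C) (hz1 : z ≠ 1) (hz : ∀ g : G, g * z = z * g) :
    ∃ g : G, MulAut.conj g • C = D := by
  set Z : Subgroup G := zpowers z with hZdef
  have hZn : Z.Normal := by
    constructor
    intro x hx g
    obtain ⟨k, rfl⟩ := mem_zpowers_iff.mp hx
    have h1 : g * z ^ k = z ^ k * g := (Commute.zpow_right (show Commute g z from hz g) k).eq
    rw [h1, mul_inv_cancel_right]
    exact zpow_mem (mem_zpowers z) k
  have hZ0 : Z ≠ ⊥ := by
    intro h
    have : z ∈ Z := mem_zpowers z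
    rw [h, mem_bot] at this
    exact hz1 this
  have hlt := card_quotient_lt Z hZ0
  obtain ⟨gbar, hg⟩ := ih (G ⧸ Z) hlt _ _ (hC.map_mk' ih Z) (hD.map_mk' ih Z)
  obtain ⟨g, rfl⟩ := QuotientGroup.mk'_surjective Z gbar
  have h2 : (MulAut.conj g • C) ⊔ Z = D ⊔ Z := conj_sup_eq_of_map_conj Z C D g hg
  have hzC' : z ∈ MulAut.conj g • C := by
    rw [mem_conj_smul_iff, mul_assoc, ← hz g, inv_mul_cancel_left]
    exact hzC
  have hZle : Z ≤ MulAut.conj g • C := by
    rw [hZdef, zpowers_le]; exact hzC'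
  have hC' : IsCarter (MulAut.conj g • C) := hC.conj g
  have hDle : D ≤ MulAut.conj g • C := by
    have h3 : D ≤ D ⊔ Z := le_sup_left
    rw [← h2, sup_eq_left.mpr hZle] at h3
    exact h3
  have hnil : Group.IsNilpotent ↥(MulAut.conj g • C) := hC'.1
  have h4 : D.subgroupOf (MulAut.conj g • C) = ⊤ := (hD.subgroupOf hDle).eq_top_of_isNilpotent
  rw [subgroupOf_eq_top] at h4
  exact ⟨g, le_antisymm h4 hDle⟩


/-- Conjugacy of two Carter subgroups both supplementing a minimal normal abelian subgroup. -/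
theorem conj_of_sup_eq_top {G : Type u} [Group G] [Finite G] [Group.IsSolvable G]
    (ih : ConjBelow.{u} (Nat.card G)) (A : Subgroup G) [hAn : A.Normal] (hA0 : A ≠ ⊥)
    (hA : ∀ a ∈ A, ∀ b ∈ A, a * b = b * a)
    (hmin : ∀ M : Subgroup G, M.Normal → M ≤ A → M = ⊥ ∨ M = A)
    {C D : Subgroup G} (hC : IsCarter C) (hD : IsCarter D) (hCA : C ⊔ A = ⊤)
    (hDA : D ⊔ A = ⊤) : ∃ g : G, MulAut.conj g • C = D := by
  by_cases hnil : Group.IsNilpotent G
  · refine ⟨1, ?_⟩
    rw [hC.eq_top_of_isNilpotent, hD.eq_top_of_isNilpotent, map_one, one_smul]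
  have hCnt : Nontrivial C := by
    rw [Subgroup.nontrivial_iff_ne_bot]
    intro hCbot
    rw [hCbot, bot_sup_eq] at hCA
    apply hnil
    have hcomm : ∀ a b : G, a * b = b * a :=
      fun a b => hA a (by rw [hCA]; trivial) b (by rw [hCA]; trivial)
    let _ : CommGroup G := { ‹Group G› with mul_comm := hcomm }
    exact CommGroup.isNilpotent
  have hCn : Group.IsNilpotent C := hC.1
  obtain ⟨z', hz'c, hz'1⟩ :=
    (Subgroup.bot_or_exists_ne_one (center C)).resolve_left
      (Group.IsNilpotent.center_ne_bot (G := ↥C))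
  obtain ⟨z, hzC⟩ := z'
  have hz1 : z ≠ 1 := by
    intro h
    apply hz'1
    exact Subtype.ext h
  have hzc : ∀ c ∈ C, c * z = z * c := by
    intro c hc
    have := Subgroup.mem_center_iff.mp hz'c ⟨c, hc⟩
    simpa using congrArg Subtype.val this
  -- every commutator with `z` lies in `A`
  have hcomA : ∀ g : G, z⁻¹ * g⁻¹ * z * g ∈ A := by
    intro g
    have hg : g ∈ C ⊔ A := by rw [hCA]; trivial
    obtain ⟨c, hc, a, ha, rfl⟩ := mem_sup_of_normal_right.mp hg
    have h1 : z⁻¹ * (c * a)⁻¹ * z * (c * a) = z⁻¹ * a⁻¹ * (c⁻¹ * (c * z)) * a := by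
      rw [hzc c hc]; group
    rw [h1, inv_mul_cancel_left]
    have h2 := hAn.conj_mem _ (inv_mem ha) z⁻¹
    rw [inv_inv] at h2
    exact A.mul_mem h2 ha
  set Az : Subgroup G := A ⊓ centralizer {z} with hAz
  have hAzn : Az.Normal := by
    apply normal_of_sup_eq_top hA hCA inf_le_left
    intro c hc x hx
    obtain ⟨hx1, hx2⟩ := Subgroup.mem_inf.mp hx
    refine Subgroup.mem_inf.mpr ⟨hAn.conj_mem x hx1 c, ?_⟩
    rw [mem_centralizer_singleton_iff]
    have h1 : Commute c z := hzc c hc
    have h2 : Commute x z := mem_centralizer_singleton_iff.mp hx2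
    exact ((h1.mul_left h2).mul_left h1.inv_left).eq
  rcases hmin Az hAzn inf_le_left with hbot | htop
  swap
  · -- `z` is central in `G`
    have hAz' : A ≤ centralizer {z} := by
      rw [← htop]; exact inf_le_right
    have hz : ∀ g : G, g * z = z * g := by
      intro g
      have hg : g ∈ C ⊔ A := by rw [hCA]; trivial
      obtain ⟨c, hc, a, ha, rfl⟩ := mem_sup_of_normal_right.mp hg
      have h1 : Commute c z := hzc c hc
      have h2 : Commute a z := mem_centralizer_singleton_iff.mp (hAz' ha)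
      exact (h1.mul_left h2).eq
    exact conj_of_central ih hC hD hzC hz1 hz
  -- now `C_A(z) = 1`
  have hmemA : ∀ b : A, z⁻¹ * (b : G)⁻¹ * z * b ∈ A := fun b => hcomA b
  let f : A → A := fun b => ⟨z⁻¹ * (b : G)⁻¹ * z * b, hmemA b⟩
  have hinj : Function.Injective f := by
    intro b b' h
    have h' : z⁻¹ * (b : G)⁻¹ * z * b = z⁻¹ * (b' : G)⁻¹ * z * b' := congrArg Subtype.val h
    have h4 : (b : G)⁻¹ * z * b = (b' : G)⁻¹ * z * b' := by
      have := congrArg (fun t => z * t) h'
      simpa [mul_assoc] using this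
    have h3 : (b' : G) * (b : G)⁻¹ * z = z * ((b' : G) * (b : G)⁻¹) := by
      calc (b' : G) * (b : G)⁻¹ * z = b' * ((b : G)⁻¹ * z * b) * (b : G)⁻¹ := by group
        _ = b' * ((b' : G)⁻¹ * z * b') * (b : G)⁻¹ := by rw [h4]
        _ = z * ((b' : G) * (b : G)⁻¹) := by group
    have h5 : (b' : G) * (b : G)⁻¹ ∈ Az :=
      Subgroup.mem_inf.mpr ⟨A.mul_mem b'.2 (A.inv_mem b.2), mem_centralizer_singleton_iff.mpr h3⟩
    rw [hbot, mem_bot] at h5
    exact Subtype.ext (mul_inv_eq_one.mp h5).symm
  have hsurj : Function.Surjective f := Finite.injective_iff_surjective.mp hinj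
  have hzG : z ∈ D ⊔ A := by rw [hDA]; trivial
  obtain ⟨d, hd, a', ha', hzda⟩ := mem_sup_of_normal_right.mp hzG
  obtain ⟨b, hb⟩ := hsurj ⟨a'⁻¹, inv_mem ha'⟩
  have hb' : z⁻¹ * (b : G)⁻¹ * z * b = a'⁻¹ := congrArg Subtype.val hb
  have hbd : (b : G)⁻¹ * z * b = d := by
    have h1 : (b : G)⁻¹ * z * b = z * (z⁻¹ * (b : G)⁻¹ * z * b) := by group
    rw [h1, hb', ← hzda]; group
  have hzD' : z ∈ MulAut.conj (b : G) • D := by
    rw [mem_conj_smul_iff, hbd]; exact hd
  have hD' : IsCarter (MulAut.conj (b : G) • D) := hD.conj b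
  have hD'A : (MulAut.conj (b : G) • D) ⊔ A = ⊤ := by
    have h1 : (MulAut.conj (b : G) • D) ⊔ A = D ⊔ A := by
      apply conj_sup_eq_of_map_conj A D D b
      have : QuotientGroup.mk' A (b : G) = 1 := by
        rw [QuotientGroup.mk'_apply, QuotientGroup.eq_one_iff]; exact b.2
      rw [this, map_one, one_smul]
    rw [h1, hDA]
  set D' : Subgroup G := MulAut.conj (b : G) • D with hD'def
  have hXn : (D' ⊓ A).Normal := by
    apply normal_of_sup_eq_top hA hD'A inf_le_right
    intro c hc x hx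
    obtain ⟨hx1, hx2⟩ := Subgroup.mem_inf.mp hx
    exact Subgroup.mem_inf.mpr
      ⟨D'.mul_mem (D'.mul_mem hc hx1) (D'.inv_mem hc), hAn.conj_mem x hx2 c⟩
  rcases hmin (D' ⊓ A) hXn inf_le_right with hXbot | hXtop
  swap
  · exfalso
    have hAD' : A ≤ D' := by rw [← hXtop]; exact inf_le_left
    rw [sup_eq_left.mpr hAD'] at hD'A
    apply hnil
    have h1 : Group.IsNilpotent ↥D' := hD'.1
    rw [hD'A] at h1
    exact Group.nilpotent_of_mulEquiv Subgroup.topEquiv
  have hD'K : D' ≤ centralizer {z} := by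
    intro d' hd'
    rw [mem_centralizer_singleton_iff]
    have h1 : z⁻¹ * d'⁻¹ * z * d' ∈ D' ⊓ A :=
      Subgroup.mem_inf.mpr
        ⟨D'.mul_mem (D'.mul_mem (D'.mul_mem (D'.inv_mem hzD') (D'.inv_mem hd')) hzD') hd',
          hcomA d'⟩
    rw [hXbot, mem_bot] at h1
    calc d' * z = d' * z * (z⁻¹ * d'⁻¹ * z * d') := by rw [h1, mul_one]
      _ = z * d' := by group
  have hCK : C ≤ centralizer {z} := fun c hc => mem_centralizer_singleton_iff.mpr (hzc c hc)
  have hK : centralizer ({z} : Set G) ≠ ⊤ := by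
    intro h
    apply hA0
    rw [← hbot, hAz, h, inf_top_eq]
  obtain ⟨x, hx⟩ := ih ↥(centralizer ({z} : Set G)) (card_lt_of_ne_top hK) _ _
    (hC.subgroupOf hCK) (hD'.subgroupOf hD'K)
  have h3 : MulAut.conj (x : G) • C = D' := conj_of_subgroupOf hCK hD'K x hx
  refine ⟨(b : G)⁻¹ * x, ?_⟩
  rw [map_mul, mul_smul, h3, hD'def, smul_smul, ← map_mul, inv_mul_cancel, map_one, one_smul]


theorem main (n : ℕ) : ∀ (G : Type u) [Group G] [Finite G] [Group.IsSolvable G],
    Nat.card G = n → (∃ C : Subgroup G, IsCarter C) ∧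
      ∀ C D : Subgroup G, IsCarter C → IsCarter D → ∃ g : G, MulAut.conj g • C = D := by
  induction n using Nat.strong_induction_on with
  | _ n IH =>
  intro G _ _ _ hn
  have hconj : ConjBelow.{u} (Nat.card G) := by
    intro H _ _ _ hlt C D hC hD
    exact (IH (Nat.card H) (hn ▸ hlt) H rfl).2 C D hC hD
  have hex : ExistsBelow.{u} (Nat.card G) := by
    intro H _ _ _ hlt
    exact (IH (Nat.card H) (hn ▸ hlt) H rfl).1
  by_cases hnil : Group.IsNilpotent G
  · refine ⟨⟨⊤, isCarter_top⟩, ?_⟩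
    intro C D hC hD
    refine ⟨1, ?_⟩
    rw [hC.eq_top_of_isNilpotent, hD.eq_top_of_isNilpotent, map_one, one_smul]
  have hnt : Nontrivial G := by
    by_contra h
    rw [not_nontrivial_iff_subsingleton] at h
    exact hnil inferInstance
  obtain ⟨A, hAn, hA0, hmin⟩ := exists_minimal_normal (G := G)
  obtain ⟨hAcomm, p, hp, hexp⟩ := Cfsg.Agent.S0043.result A hA0 hmin
  have hA : ∀ a ∈ A, ∀ b ∈ A, a * b = b * a := by
    intro a ha b hb
    have := mul_comm' (⟨a, ha⟩ : A) ⟨b, hb⟩
    exact congrArg Subtype.val this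
  have : Fact p.Prime := ⟨hp⟩
  have hAp : IsPGroup p A := by
    intro a
    refine ⟨1, ?_⟩
    rw [pow_one]
    apply Subtype.ext
    simpa using hexp a a.2
  have hltA : Nat.card (G ⧸ A) < Nat.card G := card_quotient_lt A hA0
  refine ⟨?_, ?_⟩
  · -- existence
    obtain ⟨Kbar, hKbar⟩ := hex (G ⧸ A) hltA
    set K : Subgroup G := Kbar.comap (QuotientGroup.mk' A) with hK
    by_cases hKtop : K = ⊤
    · have hKbartop : Kbar = ⊤ := by
        rw [eq_top_iff]
        intro x _
        obtain ⟨g, rfl⟩ := QuotientGroup.mk'_surjective A x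
        have : g ∈ K := by rw [hKtop]; trivial
        exact this
      have hGA : Group.IsNilpotent (G ⧸ A) := by
        have h1 : Group.IsNilpotent ↥Kbar := hKbar.1
        rw [hKbartop] at h1
        exact Group.nilpotent_of_mulEquiv Subgroup.topEquiv
      exact exists_isCarter_of_nilpotent_quotient A hAp hGA
    · have hltK := card_lt_of_ne_top hKtop
      obtain ⟨C', hC'⟩ := hex ↥K hltK
      obtain ⟨hnilC, hCK, hnorm⟩ := hC'.map_subtype
      set C : Subgroup G := C'.map K.subtype with hCdef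
      have hAK : A ≤ K := by
        conv_lhs => rw [← QuotientGroup.ker_mk' A]
        exact ker_le_comap _ _
      have hle : A.subgroupOf K ≤ A.comap K.subtype := le_rfl
      let φ : ↥K ⧸ A.subgroupOf K →* G ⧸ A :=
        QuotientGroup.map (A.subgroupOf K) A K.subtype hle
      have hφinj : Function.Injective φ := by
        rw [injective_iff_map_eq_one]
        intro x hx
        obtain ⟨k, rfl⟩ := QuotientGroup.mk'_surjective _ x
        have h1 : QuotientGroup.mk' A (k : G) = 1 := hx
        rw [QuotientGroup.mk'_apply, QuotientGroup.eq_one_iff] at h1 ⊢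
        exact h1
      have hφrange : ∀ x, φ x ∈ Kbar := by
        intro x
        obtain ⟨k, rfl⟩ := QuotientGroup.mk'_surjective _ x
        exact k.2
      have hKA'nil : Group.IsNilpotent (↥K ⧸ A.subgroupOf K) := by
        have : Group.IsNilpotent ↥Kbar := hKbar.1
        let ψ : ↥K ⧸ A.subgroupOf K →* ↥Kbar := φ.codRestrict Kbar hφrange
        have hψinj : Function.Injective ψ :=
          (MonoidHom.injective_codRestrict φ Kbar hφrange).mpr hφinj
        exact Group.nilpotent_of_mulEquiv (MonoidHom.ofInjective hψinj).symm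
      have ihK : ConjBelow.{u} (Nat.card ↥K) := fun H _ _ _ hlt => hconj H (hlt.trans hltK)
      have hCbar := hC'.map_mk' ihK (A.subgroupOf K)
      have hCbartop : C'.map (QuotientGroup.mk' (A.subgroupOf K)) = ⊤ :=
        hCbar.eq_top_of_isNilpotent
      have hCAK : C ⊔ A = K := by
        have h1 : C' ⊔ A.subgroupOf K = ⊤ := by
          have := congrArg (fun S => S.comap (QuotientGroup.mk' (A.subgroupOf K))) hCbartop
          simpa [comap_map_eq, QuotientGroup.ker_mk'] using this
        have h2 := congrArg (fun S => S.map K.subtype) h1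
        simp only [Subgroup.map_sup, map_subgroupOf_eq_of_le hAK] at h2
        rw [← MonoidHom.range_eq_map, Subgroup.range_subtype] at h2
        exact h2
      refine ⟨C, hnilC, le_antisymm ?_ le_normalizer⟩
      intro g hg
      have hgK : g ∈ normalizer (K : Set G) := by
        apply mem_normalizer_of_conj_smul_eq
        rw [← hCAK, Subgroup.smul_sup, conj_smul_eq_of_mem_normalizer hg,
          conj_smul_eq_of_mem_normalizer (C := A) (by rw [normalizer_eq_top]; trivial)]
      have hKself : normalizer (K : Set G) = K := by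
        rw [hK, ← comap_normalizer_eq_of_surjective _ (QuotientGroup.mk'_surjective A), hKbar.2]
      rw [hKself] at hgK
      exact hnorm (Subgroup.mem_inf.mpr ⟨hg, hgK⟩)
  · -- conjugacy
    intro C D hC hD
    have hCbar := hC.map_mk' hconj A
    have hDbar := hD.map_mk' hconj A
    obtain ⟨gbar, hg⟩ := hconj (G ⧸ A) hltA _ _ hCbar hDbar
    obtain ⟨g, rfl⟩ := QuotientGroup.mk'_surjective A gbar
    have h2 : (MulAut.conj g • C) ⊔ A = D ⊔ A := conj_sup_eq_of_map_conj A C D g hg
    have hC1 : IsCarter (MulAut.conj g • C) := hC.conj g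
    by_cases hK : D ⊔ A = ⊤
    · obtain ⟨x, hx⟩ := conj_of_sup_eq_top hconj A hA0 hA hmin hC1 hD (h2.trans hK) hK
      refine ⟨x * g, ?_⟩
      rw [map_mul, mul_smul, hx]
    · have hlt := card_lt_of_ne_top hK
      have hCK : MulAut.conj g • C ≤ D ⊔ A := by rw [← h2]; exact le_sup_left
      have hDK : D ≤ D ⊔ A := le_sup_left
      obtain ⟨x, hx⟩ := hconj ↥(D ⊔ A) hlt _ _ (hC1.subgroupOf hCK) (hD.subgroupOf hDK)
      have h3 := conj_of_subgroupOf hCK hDK x hx
      refine ⟨(x : G) * g, ?_⟩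
      rw [map_mul, mul_smul, h3]

/-- Carter subgroups: a finite solvable group contains a nilpotent subgroup equal to its own normaliser, and all such subgroups are conjugate. -/
theorem result {G : Type*} [Group G] [Finite G] [Group.IsSolvable G] :
    (∃ C : Subgroup G, Group.IsNilpotent C ∧ Subgroup.normalizer (C : Set G) = C) ∧
    ∀ C D : Subgroup G, Group.IsNilpotent C → Subgroup.normalizer (C : Set G) = C →
      Group.IsNilpotent D → Subgroup.normalizer (D : Set G) = D → ∃ g : G, MulAut.conj g • C = D := by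
  obtain ⟨h1, h2⟩ := main (Nat.card G) G rfl
  exact ⟨h1, fun C D hC1 hC2 hD1 hD2 => h2 C D ⟨hC1, hC2⟩ ⟨hD1, hD2⟩⟩

end Cfsg.Agent.S0045
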