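import Cfsg.Statements.S0543
import Cfsg.Agent.S0004
import Cfsg.Agent.S0007

set_option autoImplicit false
open Pointwise
open Cfsg

namespace Cfsg.Agent.S0543

variable {G : Type*} [Group G]

theorem index_smul_conj (g : G) (H : Subgroup G) : (MulAut.conj g • H).index = H.index := by
  have : MulAut.conj g • H = H.map ((MulAut.conj g : G ≃* G) : G →* G) := rfl
  rw [this, Subgroup.index_map_equiv]

theorem isComplementSystem_smul (K : Nat.Primes → Subgroup G) (hK : Cfsg.IsComplementSystem K)
    (g : G) : Cfsg.IsComplementSystem (fun p => MulAut.conj g • K p) := by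
  intro p
  change (MulAut.conj g • K p).index = _
  rw [index_smul_conj]
  exact hK p

/-- The prime divisors of the index of an intersection of members of a complement system. -/
theorem prime_dvd_index_iInf [Finite G] (L : Nat.Primes → Subgroup G)
    (hL : Cfsg.IsComplementSystem L) (S : Finset Nat.Primes) :
    ∀ r : ℕ, r.Prime → r ∣ (⨅ p ∈ S, L p).index → ∃ p ∈ S, r = (p : ℕ) := by
  classical
  induction S using Finset.induction_on with
  | empty =>
    intro r hr hdvd
    simp only [Finset.notMem_empty, iInf_false, iInf_top, Subgroup.index_top] at hdvd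
    exact absurd (Nat.dvd_one.1 hdvd) hr.ne_one
  | insert q S hqS ih =>
    intro r hr hdvd
    rw [Finset.iInf_insert] at hdvd
    have hcop : (L q).index.Coprime (⨅ p ∈ S, L p).index := by
      rw [hL q]
      apply Nat.Coprime.pow_left
      rw [Nat.Prime.coprime_iff_not_dvd q.2]
      intro hq
      obtain ⟨p, hpS, hp⟩ := ih q q.2 hq
      have : q = p := Subtype.ext hp
      rw [this] at hqS
      exact hqS hpS
    rw [(Cfsg.Agent.S0007.result _ _ hcop).1] at hdvd
    rcases (Nat.Prime.dvd_mul hr).1 hdvd with h | h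
    · rw [hL q] at h
      have := hr.dvd_of_dvd_pow h
      refine ⟨q, Finset.mem_insert_self q S, ?_⟩
      exact (Nat.prime_dvd_prime_iff_eq hr q.2).1 this
    · obtain ⟨p, hpS, hp⟩ := ih r hr h
      exact ⟨p, Finset.mem_insert_of_mem hpS, hp⟩

theorem card_of_isComplementSystem [Finite G] (K : Nat.Primes → Subgroup G)
    (hK : Cfsg.IsComplementSystem K) (q : Nat.Primes) :
    Nat.card (K q) = Nat.card G / (q : ℕ) ^ (Nat.card G).factorization q := by
  have h1 : Nat.card (K q) * (K q).index = Nat.card G := Subgroup.card_mul_index _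
  rw [hK q] at h1
  exact (Nat.div_eq_of_eq_mul_left (pow_pos q.2.pos _) h1.symm).symm

theorem exists_conj_on_finset [Finite G] [Group.IsSolvable G] (K L : Nat.Primes → Subgroup G)
    (hK : Cfsg.IsComplementSystem K) (hL : Cfsg.IsComplementSystem L) (S : Finset Nat.Primes) :
    ∃ g : G, ∀ p ∈ S, MulAut.conj g • K p = L p := by
  classical
  induction S using Finset.induction_on with
  | empty => exact ⟨1, fun p hp => absurd hp (Finset.notMem_empty p)⟩
  | insert q S hqS ih =>
    obtain ⟨g₀, hg₀⟩ := ih
    -- Hall conjugacy for the `q`-complements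
    set m := Nat.card G / (q : ℕ) ^ (Nat.card G).factorization q with hm
    have hdvd : (q : ℕ) ^ (Nat.card G).factorization q ∣ Nat.card G := Nat.ordProj_dvd _ _
    have hG : Nat.card G = m * (q : ℕ) ^ (Nat.card G).factorization q :=
      (Nat.div_mul_cancel hdvd).symm
    have hcop : m.Coprime ((q : ℕ) ^ (Nat.card G).factorization q) := by
      apply Nat.Coprime.pow_right
      exact (Nat.coprime_ordCompl q.2 Nat.card_pos.ne').symm
    have hK' := isComplementSystem_smul K hK g₀
    have hc1 : Nat.card (MulAut.conj g₀ • K q : Subgroup G) = m :=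
      card_of_isComplementSystem _ hK' q
    have hc2 : Nat.card (L q) = m := card_of_isComplementSystem L hL q
    obtain ⟨h, hh⟩ := Cfsg.Agent.S0004.result m _ hG hcop _ _ hc1 hc2
    -- factor `h = y * x` with `y ∈ L q` and `x ∈ ⨅ p ∈ S, L p`
    have hcop2 : (L q).index.Coprime (⨅ p ∈ S, L p).index := by
      rw [hL q]
      apply Nat.Coprime.pow_left
      rw [Nat.Prime.coprime_iff_not_dvd q.2]
      intro hq
      obtain ⟨p, hpS, hp⟩ := prime_dvd_index_iInf L hL S q q.2 hq
      have : q = p := Subtype.ext hp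
      rw [this] at hqS
      exact hqS hpS
    obtain ⟨y, hy, x, hx, hyx⟩ := (Cfsg.Agent.S0007.result _ _ hcop2).2 h
    refine ⟨x * g₀, ?_⟩
    have hxS : ∀ p ∈ S, x ∈ L p := by
      intro p hp
      have : (⨅ p ∈ S, L p) ≤ L p := iInf₂_le p hp
      exact this hx
    intro p hp
    rw [map_mul, mul_smul]
    rcases Finset.mem_insert.1 hp with rfl | hpS
    · -- `p = q`
      rw [hyx, map_mul, mul_smul] at hh
      have h1 : MulAut.conj y⁻¹ • L p = L p :=
        Subgroup.conj_smul_eq_self_of_mem ((L p).inv_mem hy)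
      rw [eq_inv_smul_iff.2 hh, ← map_inv, h1]
    · rw [hg₀ p hpS]
      exact Subgroup.conj_smul_eq_self_of_mem (hxS p hpS)


theorem eq_top_of_not_dvd [Finite G] (K : Nat.Primes → Subgroup G)
    (hK : Cfsg.IsComplementSystem K) (p : Nat.Primes) (hp : ¬ (p : ℕ) ∣ Nat.card G) :
    K p = ⊤ := by
  rw [← Subgroup.index_eq_one, hK p, Nat.factorization_eq_zero_of_not_dvd hp, pow_zero]

theorem finite_primesDividing (n : ℕ) (hn : n ≠ 0) :
    {p : Nat.Primes | (p : ℕ) ∣ n}.Finite := by
  have h1 : {d : ℕ | d ∣ n}.Finite :=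
    (Set.finite_Iic n).subset (fun d hd => Nat.le_of_dvd (Nat.pos_of_ne_zero hn) hd)
  have h2 : {p : Nat.Primes | (p : ℕ) ∣ n} = (fun p : Nat.Primes => (p : ℕ)) ⁻¹' {d : ℕ | d ∣ n} :=
    rfl
  rw [h2]
  exact h1.preimage (Set.injOn_of_injective Nat.Primes.coe_nat_injective)

/-- In a finite solvable group any two Hall complement systems are simultaneously conjugate: one element conjugates every member of the first system to the corresponding member of the second. -/
theorem result {G : Type*} [Group G] [Finite G] [Group.IsSolvable G] (K L : Nat.Primes → Subgroup G) (hK : Cfsg.IsComplementSystem K) (hL : Cfsg.IsComplementSystem L) : ∃ g : G, ∀ p : Nat.Primes, MulAut.conj g • K p = L p := by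
  have hfin := finite_primesDividing (Nat.card G) Nat.card_pos.ne'
  obtain ⟨g, hg⟩ := exists_conj_on_finset K L hK hL hfin.toFinset
  refine ⟨g, fun p => ?_⟩
  by_cases hp : (p : ℕ) ∣ Nat.card G
  · exact hg p ((Set.Finite.mem_toFinset hfin).2 hp)
  · rw [eq_top_of_not_dvd K hK p hp, eq_top_of_not_dvd L hL p hp]
    exact Subgroup.conj_smul_eq_self_of_mem (Subgroup.mem_top g)

end Cfsg.Agent.S0543
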