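import Cfsg.Statements.S0545
import Cfsg.Agent.Lib.Helper9_SystemNormalizer

set_option autoImplicit false
open Cfsg
open Pointwise

namespace Cfsg.Agent.S0545

open Cfsg.Agent.S0543 Cfsg.Agent.Lib.Helper9_SystemNormalizer

variable {G : Type*} [Group G]

theorem conj_smul_eq_of_mem_normalizer {H : Subgroup G} {g : G}
    (hg : g ∈ Subgroup.normalizer (H : Set G)) : MulAut.conj g • H = H := by
  ext x
  rw [Subgroup.mem_pointwise_smul_iff_inv_smul_mem, ← map_inv, MulAut.smul_def, MulAut.conj_apply,
    inv_inv]
  exact ((Subgroup.mem_normalizer_iff''.1 hg) x).symm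

theorem mem_normalizer_of_conj_smul_eq {H : Subgroup G} {g : G}
    (hg : MulAut.conj g • H = H) : g ∈ Subgroup.normalizer (H : Set G) := by
  rw [Subgroup.mem_normalizer_iff'']
  intro x
  conv_lhs => rw [← hg]
  rw [Subgroup.mem_pointwise_smul_iff_inv_smul_mem, ← map_inv, MulAut.smul_def, MulAut.conj_apply,
    inv_inv]

theorem isComplementSystem_map [Finite G] (K : Nat.Primes → Subgroup G)
    (hK : Cfsg.IsComplementSystem K) (N : Subgroup G) [N.Normal] :
    Cfsg.IsComplementSystem (fun p => (K p).map (QuotientGroup.mk' N)) := by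
  intro p
  change ((K p).map (QuotientGroup.mk' N)).index = _
  have hp : (p : ℕ).Prime := p.2
  set M := K p ⊔ N with hM
  have h1 : ((K p).map (QuotientGroup.mk' N)).index = M.index := by
    rw [Subgroup.index_map, QuotientGroup.ker_mk',
      MonoidHom.range_eq_top.2 (QuotientGroup.mk'_surjective N), Subgroup.index_top, mul_one]
  have h2 : M.index ∣ (p : ℕ) ^ (Nat.card G).factorization p := by
    rw [← hK p]; exact Subgroup.index_dvd_of_le le_sup_left
  obtain ⟨b, _, hb⟩ := (Nat.dvd_prime_pow hp).1 h2
  have h3 : N.relIndex M * M.index = N.index := Subgroup.relIndex_mul_index le_sup_right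
  have h4 : N.relIndex M = N.relIndex (K p) := Subgroup.relIndex_sup_right (K p) N
  have hcardK : (Nat.card (K p)).Coprime p := by
    rw [card_of_isComplementSystem K hK p]
    exact (Nat.coprime_ordCompl hp Nat.card_pos.ne').symm
  have h5 : (N.relIndex M).Coprime p := by
    rw [h4]
    exact Nat.Coprime.coprime_dvd_left (Subgroup.relIndex_dvd_card _ _) hcardK
  have h6 : ¬ (p : ℕ) ∣ N.relIndex M := by
    intro hd
    have : (p : ℕ) ∣ 1 := by
      rw [← Nat.Coprime.gcd_eq_one h5]
      exact Nat.dvd_gcd hd dvd_rfl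
    exact hp.one_lt.ne' (Nat.dvd_one.1 this)
  have h7 : N.relIndex M ≠ 0 := by
    intro h0
    rw [h0] at h6
    exact h6 (dvd_zero _)
  have h8 : (Nat.card (G ⧸ N)).factorization p = b := by
    rw [← Subgroup.index_eq_card, ← h3, hb,
      Nat.factorization_mul h7 (pow_ne_zero _ hp.ne_zero), Finsupp.add_apply,
      Nat.factorization_eq_zero_of_not_dvd h6, hp.factorization_pow, Finsupp.single_eq_same,
      zero_add]
  rw [h1, hb, h8]

/-- Let K be a Hall complement system of a finite solvable group G and N a normal subgroup. Then the images of the K p in G modulo N form a Hall complement system of the quotient, and its system normalizer is the image of the system normalizer of K. -/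
theorem result {G : Type*} [Group G] [Finite G] [Group.IsSolvable G] (K : Nat.Primes → Subgroup G) (hK : Cfsg.IsComplementSystem K) (N : Subgroup G) [N.Normal] : Cfsg.IsComplementSystem (fun p => (K p).map (QuotientGroup.mk' N)) ∧ Cfsg.systemNormalizer (fun p => (K p).map (QuotientGroup.mk' N)) = (Cfsg.systemNormalizer K).map (QuotientGroup.mk' N) := by
  refine ⟨isComplementSystem_map K hK N, le_antisymm ?_ ?_⟩
  · intro gbar hgbar
    obtain ⟨g, rfl⟩ := QuotientGroup.mk'_surjective N gbar
    -- `g` normalizes `K p ⊔ N` for all `p`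
    have hnorm : ∀ p, g ∈ Subgroup.normalizer ((K p ⊔ N : Subgroup G) : Set G) := by
      intro p
      have h1 : QuotientGroup.mk' N g ∈
          Subgroup.normalizer (((K p).map (QuotientGroup.mk' N) : Subgroup (G ⧸ N)) : Set (G ⧸ N)) := by
        have := (Subgroup.mem_iInf.1 hgbar) p
        exact this
      have h2 : g ∈ (Subgroup.normalizer
          (((K p).map (QuotientGroup.mk' N) : Subgroup (G ⧸ N)) : Set (G ⧸ N))).comap
            (QuotientGroup.mk' N) := h1
      rw [Subgroup.comap_normalizer_eq_of_surjective _ (QuotientGroup.mk'_surjective N),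
        Subgroup.comap_map_eq, QuotientGroup.ker_mk'] at h2
      exact h2
    have hK' := isComplementSystem_smul K hK g
    have hKL : ∀ p, K p ⊔ N = MulAut.conj g • K p ⊔ N := by
      intro p
      have h1 : MulAut.conj g • (K p ⊔ N) = MulAut.conj g • K p ⊔ N := by
        rw [Subgroup.smul_sup, Subgroup.Normal.conj_smul_eq_self g N]
      have h2 : MulAut.conj g • (K p ⊔ N) = K p ⊔ N := by
        exact conj_smul_eq_of_mem_normalizer (hnorm p)
      rw [← h1, h2]
    obtain ⟨n, hnN, hn⟩ := exists_conj_mem N K _ hK hK' hKL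
    -- `n⁻¹ * g` lies in the system normalizer
    have hD : n⁻¹ * g ∈ Cfsg.systemNormalizer K := by
      apply Subgroup.mem_iInf.2
      intro p
      apply mem_normalizer_of_conj_smul_eq
      rw [map_mul, mul_smul, ← hn p, map_inv, inv_smul_smul]
    refine ⟨n⁻¹ * g, hD, ?_⟩
    rw [map_mul, map_inv]
    have : QuotientGroup.mk' N n = 1 := (QuotientGroup.eq_one_iff n).2 hnN
    rw [this, inv_one, one_mul]
  · -- the easy inclusion
    rintro _ ⟨d, hd, rfl⟩
    apply Subgroup.mem_iInf.2
    intro p
    have h1 : d ∈ Subgroup.normalizer ((K p : Subgroup G) : Set G) := (Subgroup.mem_iInf.1 hd) p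
    exact Subgroup.le_normalizer_map (QuotientGroup.mk' N) (Subgroup.mem_map_of_mem _ h1)

end Cfsg.Agent.S0545
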