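-- Statement S0252: PSL_2(4) is isomorphic to A_5.
import Cfsg.Statements.S0252
import Cfsg.Agent.S0494
import Cfsg.Agent.Lib.Helper35_PSL2Card

set_option autoImplicit false
open Cfsg

namespace Cfsg.Agent.S0252

open Cfsg.Agent.Lib.Helper35_PSL2Card in
theorem card_PSL2_four {F : Type*} [Field F] [Fintype F] (hF : Fintype.card F = 4) :
    Nat.card (Matrix.ProjectiveSpecialLinearGroup (Fin 2) F) = 60 := by
  have h1 := card_SL2_mul (F := F)
  rw [hF] at h1
  have hSL : Nat.card (Matrix.SpecialLinearGroup (Fin 2) F) = 60 := by omega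
  have h4 : ((4 : ℕ) : F) = 0 := by rw [← hF]; exact Nat.cast_card_eq_zero F
  have h2 : (2 : F) = 0 := by
    have h4' : (2 : F) * 2 = 0 := by
      have : (4 : F) = 0 := by exact_mod_cast h4
      linear_combination this
    rcases mul_eq_zero.mp h4' with h | h <;> exact h
  have h3 := card_SL2_eq_card_PSL2_mul (F := F)
  rw [card_center_SL2, card_rootsOfUnity_two_of_eq h2, hSL] at h3
  omega

/-- PSL_2 over the field with 4 elements is isomorphic to the alternating group on 5 letters. -/
theorem result {F : Type*} [Field F] [Fintype F] (hF : Fintype.card F = 4) : Nonempty (Matrix.ProjectiveSpecialLinearGroup (Fin 2) F ≃* alternatingGroup (Fin 5)) := by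
  have : IsSimpleGroup (Matrix.ProjectiveSpecialLinearGroup (Fin 2) F) :=
    Matrix.ProjectiveSpecialLinearGroup.rank_two_simple (by rw [Nat.card_eq_fintype_card]; omega)
  exact Cfsg.Agent.S0494.result (card_PSL2_four hF)

end Cfsg.Agent.S0252
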