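import Cfsg.Statements.S5160
import Cfsg.Agent.Lib.Helper84_NormalIndex
import Cfsg.Agent.Lib.Helper85_GroupFusion
import Cfsg.Agent.Lib.Helper88_Centric
import Cfsg.Agent.Lib.Helper87_Alperin

set_option autoImplicit false
open Cfsg

namespace Cfsg.Agent.S5160

open Cfsg.FusionSystem Cfsg.Agent.Lib.Helper87_Alperin Cfsg.Agent.Lib.Helper88_Centric
  Cfsg.Agent.Lib.Helper84_NormalIndex

/-- Conjugation by an element of the subgroup of `N_G(R)` generated by its `p`-elements is a map, on `R`, of every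
invariant subsystem over `S` of the fusion system of `G`, when `R` is fully normalized. -/
theorem isMapOn_conj_of_mem_closure {G : Type*} [Group G] [Finite G] {p : ℕ} [Fact p.Prime] (S : Sylow p G)
    {E : FusionSystem (S : Subgroup G)} (hEF : E.IsInvariantIn (groupFusionSystem (S : Subgroup G)))
    {R : Subgroup G} (hR : (groupFusionSystem (S : Subgroup G)).IsFullyNormalized R) {g : G}
    (hg : g ∈ Subgroup.closure {g : G | g ∈ Subgroup.normalizer (R : Set G) ∧ ∃ k : ℕ, orderOf g = p ^ k}) :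
    IsMapOn E R (fun x => g * x * g⁻¹) := by
  have hRS := hR.1
  have hF := Cfsg.Agent.Lib.Helper85_GroupFusion.group_isSaturated S
  have hle : Subgroup.closure {g : G | g ∈ Subgroup.normalizer (R : Set G) ∧ ∃ k : ℕ, orderOf g = p ^ k} ≤
      ((E.autGroup R).comap R.normalizerMonoidHom).map (Subgroup.normalizer (R : Set G)).subtype := by
    rw [Subgroup.closure_le]
    rintro g ⟨hgN, k, hk⟩
    refine ⟨⟨g, hgN⟩, ?_, rfl⟩
    show R.normalizerMonoidHom ⟨g, hgN⟩ ∈ E.autGroup R
    apply mem_autGroup_of_pow_eq_one S.2 hF hEF hR (k := k)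
    · rw [Cfsg.Agent.Lib.Helper85_GroupFusion.group_mem_autGroup_iff hRS]
      exact ⟨g, fun x => rfl⟩
    · rw [← map_pow]
      have h1 : (⟨g, hgN⟩ : Subgroup.normalizer (R : Set G)) ^ (p ^ k) = 1 := by
        apply Subtype.ext
        show g ^ (p ^ k) = 1
        rw [← hk]
        exact pow_orderOf_eq_one g
      rw [h1, map_one]
  obtain ⟨⟨g', hg'N⟩, hg'E, rfl⟩ := hle hg
  have h2 := (mem_autGroup_iff E hRS _).1 hg'E
  refine h2.congr fun x hx => ?_
  rw [extFun_apply _ hx]
  rfl

/-- Let G be a finite group with nontrivial Sylow p-subgroup S and F its fusion system on S. Suppose (a) no nontrivial proper subgroup of S is strongly closed in F, and (b) the automorphisms of S induced by G are generated by those induced, for R running over the fully normalized radical centric subgroups of F, by the subgroup of N_G(R) generated by its elements of p-power order. Then F is simple. -/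
theorem result {G : Type*} [Group G] [Finite G] (p : ℕ) [Fact p.Prime] (S : Sylow p G) (hS1 : (S : Subgroup G) ≠ ⊥) (ha : ∀ T : Subgroup G, (Cfsg.groupFusionSystem (S : Subgroup G)).StronglyClosed T → T = ⊥ ∨ T = (S : Subgroup G)) (hb : Cfsg.autInducedBy ⊤ (S : Subgroup G) = ⨆ (R : Subgroup G) (_ : (Cfsg.groupFusionSystem (S : Subgroup G)).IsFullyNormalized R ∧ (Cfsg.groupFusionSystem (S : Subgroup G)).IsRadical p R ∧ (Cfsg.groupFusionSystem (S : Subgroup G)).IsCentric R), Cfsg.autInducedBy (Subgroup.closure {g : G | g ∈ Subgroup.normalizer (R : Set G) ∧ ∃ k : ℕ, orderOf g = p ^ k}) (S : Subgroup G)) : (Cfsg.groupFusionSystem (S : Subgroup G)).IsSimple p := by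
  have hF := Cfsg.Agent.Lib.Helper85_GroupFusion.group_isSaturated S
  refine ⟨hF, hS1, ?_⟩
  intro T E hE
  obtain ⟨⟨hEsat, -, hEF⟩, -⟩ := hE
  rcases ha T hEF.2.1 with hT | hT
  · exact Or.inl hT
  · right
    subst hT
    refine ⟨rfl, ?_⟩
    apply hom_eq_of_autGroup_le hEF
    intro α hα
    -- `α` is induced by an element of `G`
    have h1 : α ∈ autInducedBy ⊤ (S : Subgroup G) := by
      obtain ⟨g, hg⟩ := (Cfsg.Agent.Lib.Helper85_GroupFusion.group_mem_autGroup_iff le_rfl α).1 hα
      exact (mem_autInducedBy_iff _ _ _).2 ⟨g, Subgroup.mem_top g, hg⟩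
    rw [hb] at h1
    refine (?_ : (⨆ (R : Subgroup G) (_ : (Cfsg.groupFusionSystem (S : Subgroup G)).IsFullyNormalized R ∧ (Cfsg.groupFusionSystem (S : Subgroup G)).IsRadical p R ∧ (Cfsg.groupFusionSystem (S : Subgroup G)).IsCentric R), Cfsg.autInducedBy (Subgroup.closure {g : G | g ∈ Subgroup.normalizer (R : Set G) ∧ ∃ k : ℕ, orderOf g = p ^ k}) (S : Subgroup G)) ≤ E.autGroup (S : Subgroup G)) h1
    refine iSup_le fun R => iSup_le fun hR => ?_
    intro β hβ
    obtain ⟨g, hg, hβg⟩ := (mem_autInducedBy_iff _ _ β).1 hβ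
    have hRS : R ≤ (S : Subgroup G) := hR.1.1
    have hβF : β ∈ (groupFusionSystem (S : Subgroup G)).autGroup (S : Subgroup G) :=
      (Cfsg.Agent.Lib.Helper85_GroupFusion.group_mem_autGroup_iff le_rfl β).2 ⟨g, hβg⟩
    have hfS : IsMapOn (groupFusionSystem (S : Subgroup G)) (S : Subgroup G) (extFun β) :=
      (mem_autGroup_iff _ le_rfl β).1 hβF
    have hfR : IsMapOn E R (extFun β) := by
      refine (isMapOn_conj_of_mem_closure S hEF hR.1 hg).congr fun x hx => ?_
      rw [extFun_apply β (hRS hx), hβg]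
    rw [mem_autGroup_iff E le_rfl]
    exact isMapOn_of_restrict_centric S.2 hF hEsat hEF.1 _ rfl hRS hR.2.2 hfS hfR

end Cfsg.Agent.S5160
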