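import Cfsg.Statements.S1123
import Cfsg.Agent.Lib.helper19_RankOne

set_option autoImplicit false
open Cfsg

namespace Cfsg.Agent.S1123

open MulAction Cfsg.Agent.Lib.helper19_RankOne

theorem result {G Ω : Type*} [Group G] [Finite G] [MulAction G Ω] {a : Ω} {t : G} {Q : Subgroup G}
    (hS : Cfsg.IsRankOneSetup G Ω a t Q) :
    ∃! p : G × G, p.1 ∈ Cfsg.involutionsIn (MulAction.stabilizer G a : Set G) ∧ p.2 ∈ Q ∧
      t * p.1 * t = p.2⁻¹ * t * p.2 := by
  have htt := hS.mul_self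
  have hti := t_inv hS
  -- the fixed point of `t`
  obtain ⟨f, hf, hfu⟩ := invol_existsUnique_fixed hS hS.ne_one hS.mul_self
  have hf' : t • f = f := hf
  have hfa : f ≠ a := by
    intro h
    rw [h] at hf'
    exact ta_ne hS hf'
  -- the element of `Q` taking `t • a` to `f`
  obtain ⟨r, hr, hru⟩ := Q_regular hS (ta_ne hS) hfa
  have hr' : (r : G) • (t • a) = f := hr
  have hrinv : (r : G)⁻¹ • f = t • a := by rw [← hr', inv_smul_smul]
  set s : G := t * ((r : G)⁻¹ * t * (r : G)) * t with hs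
  have hsa : s ∈ stabilizer G a := by
    rw [mem_stabilizer_iff, hs, mul_smul, mul_smul, mul_smul, mul_smul, hr', hf', hrinv, t_ta hS]
  have hs2 : s * s = 1 := by
    have e1 : ((r : G)⁻¹ * t * r) * ((r : G)⁻¹ * t * r) = 1 := by
      calc ((r : G)⁻¹ * t * r) * ((r : G)⁻¹ * t * r) = (r : G)⁻¹ * (t * t) * r := by group
        _ = 1 := by rw [htt]; group
    calc s * s = t * (((r : G)⁻¹ * t * r) * (t * t) * ((r : G)⁻¹ * t * r)) * t := by rw [hs]; group
      _ = 1 := by rw [htt, mul_one, e1, mul_one, htt]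
  have hs1 : s ≠ 1 := by
    intro h
    apply hS.ne_one
    have e : t = (r : G) * t * (t * ((r : G)⁻¹ * t * (r : G)) * t) * t * (r : G)⁻¹ := by
      calc t = (r : G) * ((t * t) * ((r : G)⁻¹ * t * r) * (t * t)) * (r : G)⁻¹ := by rw [htt]; group
        _ = (r : G) * t * (t * ((r : G)⁻¹ * t * (r : G)) * t) * t * (r : G)⁻¹ := by group
    rw [← hs, h] at e
    rw [e]
    calc (r : G) * t * 1 * t * (r : G)⁻¹ = (r : G) * (t * t) * (r : G)⁻¹ := by group
      _ = 1 := by rw [htt]; group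
  have hst : t * s * t = (r : G)⁻¹ * t * r := by
    rw [hs]
    calc t * (t * ((r : G)⁻¹ * t * r) * t) * t = (t * t) * ((r : G)⁻¹ * t * r) * (t * t) := by group
      _ = (r : G)⁻¹ * t * r := by rw [htt]; group
  refine ⟨(s, (r : G)), ⟨⟨hsa, hs1, hs2⟩, r.2, hst⟩, ?_⟩
  rintro ⟨s', r'⟩ ⟨⟨hs'a, hs'1, hs'2⟩, hr'Q, heq⟩
  simp only at hs'a hs'1 hs'2 hr'Q heq
  -- `r'⁻¹ • f` is fixed by `t * s' * t`, hence equals `t • a`
  have h1 : s' • (t • (r'⁻¹ • f)) = t • (r'⁻¹ • f) := by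
    have h2 : (t * s' * t) • (r'⁻¹ • f) = r'⁻¹ • f := by
      rw [heq, mul_smul, mul_smul, smul_inv_smul, hf']
    have h3 := congrArg (fun z => t • z) h2
    simp only [mul_smul] at h3
    rw [smul_smul t t, htt, one_smul] at h3
    exact h3
  have h4 : t • (r'⁻¹ • f) = a := invol_eq_a_of_fixed hS hs'a hs'1 hs'2 h1
  have h5 : r' • (t • a) = f := by
    have : r'⁻¹ • f = t • a := by
      rw [← h4, smul_smul t t, htt, one_smul]
    rw [← this, smul_inv_smul]
  have h6 : (⟨r', hr'Q⟩ : Q) = r := hru ⟨r', hr'Q⟩ h5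
  have h7 : r' = (r : G) := congrArg Subtype.val h6
  have h8 : s' = s := by
    rw [hs, ← h7, ← heq]
    calc s' = (t * t) * s' * (t * t) := by rw [htt]; group
      _ = t * (t * s' * t) * t := by group
  rw [h7, h8]

end Cfsg.Agent.S1123
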