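import Cfsg.Statements.S1124

set_option autoImplicit false
open Cfsg
open scoped Pointwise

namespace Cfsg.Agent.S1124

section aux
variable {M : Type*} [Group M]

lemma t_mul_self {t : M} (ht : orderOf t = 2) : t * t = 1 := by
  have h2 : t ^ 2 = 1 := by rw [← ht]; exact pow_orderOf_eq_one t
  rw [← pow_two]; exact h2

lemma t_inv_eq {t : M} (ht : orderOf t = 2) : t⁻¹ = t :=
  inv_eq_of_mul_eq_one_right (t_mul_self ht)

/-- in a subgroup of odd order `2k+1`, `z ^ (2k+2) = z`. -/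
lemma pow_eq_self [Finite M] {X : Subgroup M} {k : ℕ} (hk : Nat.card X = 2 * k + 1) {z : M} (hz : z ∈ X) :
    (z ^ 2) ^ (k + 1) = z := by
  have h1 : z ^ (Nat.card X) = 1 := by
    have := pow_card_eq_one' (G := X) (x := ⟨z, hz⟩)
    have h := congrArg (Subtype.val) this
    rw [Subgroup.coe_pow] at h
    exact h
  rw [← pow_mul]
  have : 2 * (k + 1) = Nat.card X + 1 := by omega
  rw [this, pow_succ, h1, one_mul]

lemma sq_pow_eq [Finite M] {X : Subgroup M} {k : ℕ} (hk : Nat.card X = 2 * k + 1) {w : M} (hw : w ∈ X) :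
    (w ^ (k + 1)) ^ 2 = w := by
  rw [← pow_mul, mul_comm, pow_mul]; exact pow_eq_self hk hw

end aux

/-- `|X| = |Y| |Z|`, `x = y z` uniquely. -/
theorem result {M : Type*} [Group M] [Finite M]
    (t : M) (ht : orderOf t = 2) (X : Subgroup M) (hodd : Odd (Nat.card X))
    (hnorm : ∀ x ∈ X, t * x * t⁻¹ ∈ X) :
    (∀ x ∈ X, ∃! p : M × M, p.1 ∈ X ⊓ Subgroup.centralizer {t} ∧ p.2 ∈ Cfsg.invertedBy X t ∧ x = p.1 * p.2) ∧
      Nat.card X = Nat.card ↥(X ⊓ Subgroup.centralizer {t}) * Nat.card (Cfsg.invertedBy X t) ∧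
      ∀ x ∈ X, MulAut.conj x • Subgroup.closure (Cfsg.invertedBy X t) = Subgroup.closure (Cfsg.invertedBy X t) := by
  obtain ⟨k, hk⟩ := hodd
  have hti : t⁻¹ = t := t_inv_eq ht
  have htt : t * t = 1 := t_mul_self ht
  -- uniqueness helper: the inverted part is determined
  have key : ∀ y z : M, y ∈ X ⊓ Subgroup.centralizer {t} → z ∈ Cfsg.invertedBy X t →
      z = ((t * (y * z) * t⁻¹)⁻¹ * (y * z)) ^ (k + 1) := by
    intro y z hy hz
    obtain ⟨hyX, hyC⟩ := hy
    obtain ⟨hzX, hzI⟩ := hz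
    have hyt : t * y = y * t := Subgroup.mem_centralizer_iff.mp hyC t rfl
    have h1 : t * (y * z) * t⁻¹ = y * z⁻¹ := by
      calc t * (y * z) * t⁻¹ = (t * y) * z * t⁻¹ := by group
        _ = y * (t * z * t⁻¹) := by rw [hyt]; group
        _ = y * z⁻¹ := by rw [hzI]
    rw [h1]
    have : (y * z⁻¹)⁻¹ * (y * z) = z ^ 2 := by rw [pow_two]; group
    rw [this, pow_eq_self hk hzX]
  have part1 : ∀ x ∈ X, ∃! p : M × M, p.1 ∈ X ⊓ Subgroup.centralizer {t} ∧ p.2 ∈ Cfsg.invertedBy X t ∧ x = p.1 * p.2 := by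
    intro x hx
    set w : M := (t * x * t⁻¹)⁻¹ * x with hw
    have hwX : w ∈ X := X.mul_mem (X.inv_mem (hnorm x hx)) hx
    have hwI : t * w * t⁻¹ = w⁻¹ := by
      rw [hw, hti]
      have e1 : t * ((t * x * t)⁻¹ * x) * t = x⁻¹ * t⁻¹ * x * t := by group
      have e2 : ((t * x * t)⁻¹ * x)⁻¹ = x⁻¹ * t * x * t := by group
      rw [e1, e2, hti]
    set z : M := w ^ (k + 1) with hz
    have hzX : z ∈ X := X.pow_mem hwX _
    have hzI : t * z * t⁻¹ = z⁻¹ := by
      rw [hz, ← inv_pow, ← hwI]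
      exact (conj_pow (a := t) (b := w) (i := k + 1)).symm
    have hz2 : z ^ 2 = w := sq_pow_eq hk hwX
    refine ⟨(x * z⁻¹, z), ⟨⟨X.mul_mem hx (X.inv_mem hzX), ?_⟩, ⟨hzX, hzI⟩, by simp⟩, ?_⟩
    · show x * z⁻¹ ∈ Subgroup.centralizer {t}
      rw [Subgroup.mem_centralizer_iff]
      intro h hh
      rw [Set.mem_singleton_iff] at hh
      subst hh
      -- h * (x z⁻¹) = (x z⁻¹) * h
      have e1 : h * (x * z⁻¹) * h⁻¹ = (h * x * h⁻¹) * z := by
        calc h * (x * z⁻¹) * h⁻¹ = (h * x * h⁻¹) * (h * z * h⁻¹)⁻¹ := by group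
          _ = (h * x * h⁻¹) * z := by rw [hzI, inv_inv]
      have e2 : (h * x * h⁻¹) * z = x * z⁻¹ := by
        have : (h * x * h⁻¹) = x * w⁻¹ := by rw [hw]; group
        rw [this, ← hz2, pow_two]; group
      have e3 : h * (x * z⁻¹) * h⁻¹ = x * z⁻¹ := e1.trans e2
      calc h * (x * z⁻¹) = (h * (x * z⁻¹) * h⁻¹) * h := by group
        _ = (x * z⁻¹) * h := by rw [e3]
    · rintro ⟨y', z'⟩ ⟨hy', hz', hxy⟩
      simp only at hy' hz' hxy
      have hz'eq : z' = z := by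
        have := key y' z' hy' hz'
        rw [← hxy] at this
        exact this
      have hy'eq : y' = x * z⁻¹ := by rw [hxy, hz'eq]; group
      rw [hy'eq, hz'eq]
  refine ⟨part1, ?_, ?_⟩
  · -- cardinality
    have hbij : Function.Bijective
        (fun p : ↥(X ⊓ Subgroup.centralizer {t}) × ↥(Cfsg.invertedBy X t) =>
          (⟨(p.1 : M) * (p.2 : M), X.mul_mem p.1.2.1 p.2.2.1⟩ : X)) := by
      constructor
      · rintro ⟨⟨y1, hy1⟩, ⟨z1, hz1⟩⟩ ⟨⟨y2, hy2⟩, ⟨z2, hz2⟩⟩ h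
        simp only [Subtype.mk.injEq] at h
        have hx : y1 * z1 ∈ X := X.mul_mem hy1.1 hz1.1
        obtain ⟨p, -, hp⟩ := part1 _ hx
        have h1 := hp (y1, z1) ⟨hy1, hz1, rfl⟩
        have h2 := hp (y2, z2) ⟨hy2, hz2, h⟩
        have := h1.trans h2.symm
        simp only [Prod.mk.injEq] at this
        obtain ⟨rfl, rfl⟩ := this
        rfl
      · rintro ⟨x, hx⟩
        obtain ⟨⟨y, z⟩, ⟨hy, hz, hxy⟩, -⟩ := part1 x hx
        exact ⟨(⟨y, hy⟩, ⟨z, hz⟩), by simp only [Subtype.mk.injEq]; exact hxy.symm⟩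
    rw [← Nat.card_prod]
    exact (Nat.card_congr (Equiv.ofBijective _ hbij)).symm
  · -- normality
    set N := Subgroup.closure (Cfsg.invertedBy X t) with hN
    have hconjY : ∀ y ∈ X ⊓ Subgroup.centralizer {t}, ∀ n ∈ N, y * n * y⁻¹ ∈ N := by
      intro y hy n hn
      have hyt : t * y = y * t := Subgroup.mem_centralizer_iff.mp hy.2 t rfl
      induction hn using Subgroup.closure_induction with
      | mem z hz =>
        apply Subgroup.subset_closure
        refine ⟨X.mul_mem (X.mul_mem hy.1 hz.1) (X.inv_mem hy.1), ?_⟩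
        have hyt' : t * y⁻¹ = y⁻¹ * t := by
          calc t * y⁻¹ = y⁻¹ * (y * t) * y⁻¹ := by group
            _ = y⁻¹ * (t * y) * y⁻¹ := by rw [hyt]
            _ = y⁻¹ * t := by group
        calc t * (y * z * y⁻¹) * t⁻¹ = (t * y) * z * y⁻¹ * t⁻¹ := by group
          _ = y * (t * z * t⁻¹) * (t * y⁻¹) * t⁻¹ := by rw [hyt]; group
          _ = y * z⁻¹ * (y⁻¹ * t) * t⁻¹ := by rw [hz.2, hyt']
          _ = (y * z * y⁻¹)⁻¹ := by group
      | one => simp
      | mul a b _ _ ha hb =>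
        have : y * (a * b) * y⁻¹ = (y * a * y⁻¹) * (y * b * y⁻¹) := by group
        rw [this]; exact N.mul_mem ha hb
      | inv a _ ha =>
        have : y * a⁻¹ * y⁻¹ = (y * a * y⁻¹)⁻¹ := by group
        rw [this]; exact N.inv_mem ha
    have hconjX : ∀ x ∈ X, ∀ n ∈ N, x * n * x⁻¹ ∈ N := by
      intro x hx n hn
      obtain ⟨⟨y, z⟩, ⟨hy, hz, hxy⟩, -⟩ := part1 x hx
      simp only at hy hz hxy
      have hzN : z ∈ N := Subgroup.subset_closure hz
      have : x * n * x⁻¹ = y * (z * n * z⁻¹) * y⁻¹ := by rw [hxy]; group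
      rw [this]
      exact hconjY y hy _ (N.mul_mem (N.mul_mem hzN hn) (N.inv_mem hzN))
    intro x hx
    ext n
    rw [Subgroup.mem_pointwise_smul_iff_inv_smul_mem]
    simp only [MulAut.smul_def, ← map_inv, MulAut.conj_apply, inv_inv]
    constructor
    · intro h
      have := hconjX x hx _ h
      have e : x * (x⁻¹ * n * x) * x⁻¹ = n := by group
      rwa [e] at this
    · intro h
      have := hconjX x⁻¹ (X.inv_mem hx) n h
      simpa using this

end Cfsg.Agent.S1124
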