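import Cfsg.Statements.S0001
import Cfsg.Agent.S0002

set_option autoImplicit false
open Cfsg
open scoped Pointwise

namespace Cfsg.Agent.S0001

universe u

/-- The pointwise conjugation action on subgroups is `Subgroup.map` along `MulAut.conj`. -/
theorem conj_smul_eq_map {G : Type*} [Group G] (g : G) (H : Subgroup G) :
    MulAut.conj g • H = H.map (MulAut.conj g).toMonoidHom := rfl

theorem map_conj_mul {G : Type*} [Group G] (g h : G) (H : Subgroup G) :
    (H.map (MulAut.conj g).toMonoidHom).map (MulAut.conj h).toMonoidHom =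
      H.map (MulAut.conj (h * g)).toMonoidHom := by
  rw [Subgroup.map_map]
  congr 1
  ext x
  simp [mul_assoc]

theorem card_map_conj {G : Type*} [Group G] (g : G) (H : Subgroup G) :
    Nat.card (H.map (MulAut.conj g).toMonoidHom) = Nat.card H :=
  Subgroup.card_map_of_injective (MulAut.conj g).injective

/-- Conjugation commutes with a homomorphism. -/
theorem map_map_conj {G Q : Type*} [Group G] [Group Q] (f : G →* Q) (g : G) (H : Subgroup G) :
    (H.map (MulAut.conj g).toMonoidHom).map f = (H.map f).map (MulAut.conj (f g)).toMonoidHom := by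
  rw [Subgroup.map_map, Subgroup.map_map]
  congr 1
  ext x
  simp

/-- Conjugacy inside a subgroup `L` gives conjugacy in `G`. -/
theorem conj_of_subgroupOf {G : Type*} [Group G] (L X Y : Subgroup G) (hX : X ≤ L) (hY : Y ≤ L)
    (l : L) (h : (X.subgroupOf L).map (MulAut.conj l).toMonoidHom = Y.subgroupOf L) :
    X.map (MulAut.conj (l : G)).toMonoidHom = Y := by
  have h1 := congrArg (Subgroup.map L.subtype) h
  rw [Subgroup.map_subgroupOf_eq_of_le hY, Subgroup.map_map] at h1
  have h2 : L.subtype.comp (MulAut.conj l).toMonoidHom =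
      (MulAut.conj (l : G)).toMonoidHom.comp L.subtype := by
    ext x; simp
  rw [h2, ← Subgroup.map_map, Subgroup.map_subgroupOf_eq_of_le hX] at h1
  exact h1

/-- Complements restrict to a subgroup containing one of the two factors. -/
theorem compl_restrict {G : Type*} [Group G] (N H M : Subgroup G)
    (h : Subgroup.IsComplement' N H) (hM : N ≤ M ∨ H ≤ M) :
    Subgroup.IsComplement' (N.subgroupOf M) (H.subgroupOf M) := by
  apply Subgroup.isComplement'_of_disjoint_and_mul_eq_univ
  · rw [disjoint_iff, eq_bot_iff]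
    intro x hx
    rw [Subgroup.mem_inf, Subgroup.mem_subgroupOf, Subgroup.mem_subgroupOf] at hx
    have : (x : G) ∈ N ⊓ H := hx
    rw [h.disjoint.eq_bot, Subgroup.mem_bot] at this
    rw [Subgroup.mem_bot]
    exact Subtype.ext this
  · rw [Set.eq_univ_iff_forall]
    intro m
    obtain ⟨⟨⟨n, hn⟩, ⟨k, hk⟩⟩, hnk⟩ := h.2 (m : G)
    simp only at hnk
    rcases hM with hM | hM
    · have hkM : k ∈ M := by
        have : k = n⁻¹ * m := by rw [← hnk]; group
        rw [this]; exact M.mul_mem (M.inv_mem (hM hn)) m.2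
      refine ⟨⟨n, hM hn⟩, ?_, ⟨k, hkM⟩, ?_, ?_⟩
      · exact Subgroup.mem_subgroupOf.mpr hn
      · exact Subgroup.mem_subgroupOf.mpr hk
      · exact Subtype.ext hnk
    · have hnM : n ∈ M := by
        have : n = m * k⁻¹ := by rw [← hnk]; group
        rw [this]; exact M.mul_mem m.2 (M.inv_mem (hM hk))
      refine ⟨⟨n, hnM⟩, ?_, ⟨k, hM hk⟩, ?_, ?_⟩
      · exact Subgroup.mem_subgroupOf.mpr hn
      · exact Subgroup.mem_subgroupOf.mpr hk
      · exact Subtype.ext hnk

/-- Complements map to complements in a quotient by a normal subgroup contained in one factor. -/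
theorem compl_map {G : Type*} [Group G] (N H M : Subgroup G) [M.Normal]
    (h : Subgroup.IsComplement' N H) (hM : M ≤ N ∨ M ≤ H) :
    Subgroup.IsComplement' (N.map (QuotientGroup.mk' M)) (H.map (QuotientGroup.mk' M)) := by
  apply Subgroup.isComplement'_of_disjoint_and_mul_eq_univ
  · rw [disjoint_iff, eq_bot_iff]
    intro x hx
    obtain ⟨⟨n, hn, rfl⟩, ⟨k, hk, hkn⟩⟩ := hx
    rw [Subgroup.mem_bot]
    have hmem : n⁻¹ * k ∈ M := by
      rw [← QuotientGroup.eq_one_iff]
      have : (QuotientGroup.mk' M) k = (QuotientGroup.mk' M) n := hkn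
      simp only [QuotientGroup.mk'_apply] at this
      rw [QuotientGroup.mk_mul, QuotientGroup.mk_inv, this]; group
    rcases hM with hM | hM
    · have hkN : k ∈ N := by
        have : k = n * (n⁻¹ * k) := by group
        rw [this]; exact N.mul_mem hn (hM hmem)
      have : k ∈ N ⊓ H := ⟨hkN, hk⟩
      rw [h.disjoint.eq_bot, Subgroup.mem_bot] at this
      rw [← hkn, this]; simp
    · have hnH : n ∈ H := by
        have : n = k * (n⁻¹ * k)⁻¹ := by group
        rw [this]; exact H.mul_mem hk (H.inv_mem (hM hmem))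
      have : n ∈ N ⊓ H := ⟨hn, hnH⟩
      rw [h.disjoint.eq_bot, Subgroup.mem_bot] at this
      rw [this]; simp
  · rw [Set.eq_univ_iff_forall]
    intro q
    obtain ⟨g, rfl⟩ := QuotientGroup.mk'_surjective M q
    obtain ⟨⟨⟨n, hn⟩, ⟨k, hk⟩⟩, hnk⟩ := h.2 g
    simp only at hnk
    refine ⟨QuotientGroup.mk' M n, ⟨n, hn, rfl⟩, QuotientGroup.mk' M k, ⟨k, hk, rfl⟩, ?_⟩
    simp only
    rw [← map_mul, hnk]

/-- The Hall condition passes to a pair of complements whose orders divide the original ones. -/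
theorem hall_of_compl {G G' : Type*} [Group G] [Group G'] [Finite G]
    (N H : Subgroup G) (hN : (Nat.card N).Coprime N.index) (h : Subgroup.IsComplement' N H)
    (N' H' : Subgroup G') (h' : Subgroup.IsComplement' N' H')
    (h1 : Nat.card N' ∣ Nat.card N) (h2 : Nat.card H' ∣ Nat.card H) :
    (Nat.card N').Coprime N'.index := by
  rw [h'.symm.index_eq_card]
  rw [h.symm.index_eq_card] at hN
  exact Nat.Coprime.coprime_dvd_left h1 (Nat.Coprime.coprime_dvd_right h2 hN)

/-- Solvability of `G ⧸ N` passes to `L ⧸ (N ∩ L)` for a subgroup `L`. -/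
theorem solvable_quot_subgroupOf {G : Type*} [Group G] (N : Subgroup G) [N.Normal] (L : Subgroup G)
    (hs : Group.IsSolvable (G ⧸ N)) : Group.IsSolvable (L ⧸ N.subgroupOf L) := by
  let f : L ⧸ N.subgroupOf L →* G ⧸ N :=
    QuotientGroup.map (N.subgroupOf L) N L.subtype (fun x hx => hx)
  have hf : Function.Injective f := by
    rw [injective_iff_map_eq_one]
    intro x hx
    obtain ⟨l, rfl⟩ := QuotientGroup.mk'_surjective (N.subgroupOf L) x
    have h1 : f (QuotientGroup.mk' _ l) = ((l : G) : G ⧸ N) := rfl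
    rw [h1, QuotientGroup.eq_one_iff] at hx
    exact (QuotientGroup.eq_one_iff l).mpr (Subgroup.mem_subgroupOf.mpr hx)
  exact Group.isSolvable_of_isSolvable_injective hf

/-- Solvability of `G ⧸ N` passes to `(G ⧸ P) ⧸ (N P / P)`. -/
theorem solvable_quot_map {G : Type*} [Group G] (N P : Subgroup G) [N.Normal] [P.Normal]
    [(N.map (QuotientGroup.mk' P)).Normal]
    (hs : Group.IsSolvable (G ⧸ N)) :
    Group.IsSolvable ((G ⧸ P) ⧸ N.map (QuotientGroup.mk' P)) := by
  let f : G ⧸ N →* (G ⧸ P) ⧸ N.map (QuotientGroup.mk' P) :=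
    QuotientGroup.map N (N.map (QuotientGroup.mk' P)) (QuotientGroup.mk' P)
      (fun x hx => Subgroup.mem_map_of_mem _ hx)
  have hf : Function.Surjective f := by
    intro y
    obtain ⟨q, rfl⟩ := QuotientGroup.mk'_surjective _ y
    obtain ⟨g, rfl⟩ := QuotientGroup.mk'_surjective P q
    exact ⟨QuotientGroup.mk' N g, rfl⟩
  exact Group.isSolvable_of_surjective hf

/-- A nontrivial finite solvable group has a nontrivial normal `p`-subgroup for some prime `p`. -/
theorem exists_normal_pgroup {Q : Type*} [Group Q] [Finite Q] [Nontrivial Q]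
    (hQ : Group.IsSolvable Q) :
    ∃ p : ℕ, p.Prime ∧ ∃ P : Subgroup Q, P.Normal ∧ IsPGroup p P ∧ P ≠ ⊥ := by
  classical
  have hex : ∃ n, derivedSeries Q n = ⊥ := hQ.solvable
  set n := Nat.find hex with hn_def
  have hn : derivedSeries Q n = ⊥ := Nat.find_spec hex
  have hn0 : n ≠ 0 := by
    intro h0
    rw [h0, derivedSeries_zero] at hn
    exact top_ne_bot hn
  obtain ⟨m, hm⟩ : ∃ m, n = m + 1 := Nat.exists_eq_succ_of_ne_zero hn0
  set A := derivedSeries Q m with hA
  have hAne : A ≠ ⊥ := Nat.find_min hex (by omega : m < n)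
  have hAcomm : ⁅A, A⁆ = ⊥ := by
    rw [← derivedSeries_succ, ← hm]; exact hn
  have hle : A ≤ Subgroup.centralizer (A : Set Q) :=
    (Subgroup.commutator_eq_bot_iff_le_centralizer).mp hAcomm
  have hcomm : ∀ a ∈ A, ∀ b ∈ A, a * b = b * a := by
    intro a ha b hb
    exact (Subgroup.mem_centralizer_iff.mp (hle hb) a ha)
  have hAn : A.Normal := derivedSeries_normal Q m
  have hcard : Nat.card A ≠ 1 := by
    rw [Ne, Subgroup.card_eq_one]; exact hAne
  set p := (Nat.card A).minFac with hp_def
  have hp : p.Prime := Nat.minFac_prime hcard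
  have : Fact p.Prime := ⟨hp⟩
  obtain ⟨z, hz⟩ := exists_prime_orderOf_dvd_card' (G := A) p (Nat.minFac_dvd _)
  -- the subgroup of elements of `A` of order dividing `p`
  let P : Subgroup Q :=
    { carrier := {x | x ∈ A ∧ x ^ p = 1}
      mul_mem' := by
        rintro x y ⟨hx, hxp⟩ ⟨hy, hyp⟩
        refine ⟨A.mul_mem hx hy, ?_⟩
        have hc : Commute x y := hcomm x hx y hy
        rw [hc.mul_pow, hxp, hyp, one_mul]
      one_mem' := ⟨A.one_mem, one_pow p⟩
      inv_mem' := by
        rintro x ⟨hx, hxp⟩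
        exact ⟨A.inv_mem hx, by rw [inv_pow, hxp, inv_one]⟩ }
  refine ⟨p, hp, P, ?_, ?_, ?_⟩
  · constructor
    rintro x ⟨hx, hxp⟩ g
    refine ⟨hAn.conj_mem x hx g, ?_⟩
    rw [conj_pow, hxp]; group
  · intro x
    refine ⟨1, ?_⟩
    have := x.2.2
    apply Subtype.ext
    simpa using this
  · intro hbot
    have hzP : (z : Q) ∈ P := by
      refine ⟨z.2, ?_⟩
      have : z ^ p = 1 := by rw [← hz]; exact pow_orderOf_eq_one z
      have := congrArg Subtype.val this
      simpa using this
    rw [hbot, Subgroup.mem_bot] at hzP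
    have hz1 : z = 1 := Subtype.ext hzP
    rw [hz1, orderOf_one] at hz
    exact hp.one_lt.ne hz

/-- A conjugate of a complement of a normal subgroup is again a complement. -/
theorem compl_conj {G : Type*} [Group G] (N H : Subgroup G) [hNn : N.Normal]
    (h : Subgroup.IsComplement' N H) (g : G) :
    Subgroup.IsComplement' N (H.map (MulAut.conj g).toMonoidHom) := by
  apply Subgroup.isComplement'_of_disjoint_and_mul_eq_univ
  · rw [disjoint_iff, eq_bot_iff]
    rintro x ⟨hxN, ⟨k, hk, rfl⟩⟩
    have hkN : k ∈ N := by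
      have h1 : g⁻¹ * (g * k * g⁻¹) * g⁻¹⁻¹ ∈ N := hNn.conj_mem _ hxN g⁻¹
      have h2 : g⁻¹ * (g * k * g⁻¹) * g⁻¹⁻¹ = k := by group
      rwa [h2] at h1
    have : k ∈ N ⊓ H := ⟨hkN, hk⟩
    rw [h.disjoint.eq_bot, Subgroup.mem_bot] at this
    rw [Subgroup.mem_bot, this]; simp
  · rw [Set.eq_univ_iff_forall]
    intro y
    obtain ⟨⟨⟨n, hn⟩, ⟨k, hk⟩⟩, hnk⟩ := h.2 (g⁻¹ * y * g)
    simp only at hnk
    refine ⟨g * n * g⁻¹, hNn.conj_mem n hn g, g * k * g⁻¹, ⟨k, hk, rfl⟩, ?_⟩
    simp only
    calc g * n * g⁻¹ * (g * k * g⁻¹) = g * (n * k) * g⁻¹ := by group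
      _ = g * (g⁻¹ * y * g) * g⁻¹ := by rw [hnk]
      _ = y := by group

/-- The inductive statement: conjugacy of complements for all groups of order `n`. -/
def SZ (n : ℕ) : Prop :=
  ∀ (G : Type u) [Group G] [Finite G], Nat.card G = n → ∀ (N : Subgroup G) [N.Normal],
    (Nat.card N).Coprime N.index → (Group.IsSolvable N ∨ Group.IsSolvable (G ⧸ N)) →
    ∀ H K : Subgroup G, Subgroup.IsComplement' N H → Subgroup.IsComplement' N K →
      ∃ g : G, H.map (MulAut.conj g).toMonoidHom = K

/-- Case of a solvable normal Hall subgroup. -/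
theorem sz_caseA (n : ℕ) (ih : ∀ m < n, SZ.{u} m) (G : Type u) [Group G] [Finite G]
    (hn : Nat.card G = n) (N : Subgroup G) [N.Normal] (hN : (Nat.card N).Coprime N.index)
    (hs : Group.IsSolvable N) (H K : Subgroup G) (hH : Subgroup.IsComplement' N H)
    (hK : Subgroup.IsComplement' N K) :
    ∃ g : G, H.map (MulAut.conj g).toMonoidHom = K := by
  by_cases hNbot : N = ⊥
  · subst hNbot
    rw [Subgroup.isComplement'_bot_left] at hH hK
    refine ⟨1, ?_⟩
    rw [hH, hK, ← top_le_iff]
    intro x _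
    exact ⟨x, Subgroup.mem_top x, by simp⟩
  set M : Subgroup G := ⁅N, N⁆ with hMdef
  have hMn : M.Normal := Subgroup.commutator_normal N N
  have hMN : M ≤ N := Subgroup.commutator_le_right N N
  have hMlt : M < N := by
    have hnt : Nontrivial N := (Subgroup.nontrivial_iff_ne_bot N).mpr hNbot
    have h1 := Group.IsSolvable.commutator_lt_top_of_nontrivial N
    have h2 : M = (commutator N).map N.subtype := by
      rw [hMdef, commutator_def, Subgroup.map_commutator, ← MonoidHom.range_eq_map,
        Subgroup.range_subtype]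
    have h3 : N = (⊤ : Subgroup N).map N.subtype := by
      rw [← MonoidHom.range_eq_map, Subgroup.range_subtype]
    rw [h2]
    conv_rhs => rw [h3]
    exact Subgroup.map_subtype_lt_map_subtype.mpr h1
  by_cases hMbot : M = ⊥
  · have hle : N ≤ Subgroup.centralizer (N : Set G) :=
      Subgroup.commutator_eq_bot_iff_le_centralizer.mp hMbot
    have : IsMulCommutative N := ⟨⟨fun a b => Subtype.ext (by
      have := Subgroup.mem_centralizer_iff.mp (hle b.2) a a.2
      simpa using this)⟩⟩
    obtain ⟨a, _, ha⟩ := Cfsg.Agent.S0002.result N hN H K hH hK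
    exact ⟨a, by rw [← conj_smul_eq_map]; exact ha⟩
  -- pass to the quotient by `M = N'`
  have hπs : Function.Surjective (QuotientGroup.mk' M) := QuotientGroup.mk'_surjective M
  have hÑn : (N.map (QuotientGroup.mk' M)).Normal :=
    Subgroup.Normal.map inferInstance (QuotientGroup.mk' M) hπs
  have hcH := compl_map N H M hH (Or.inl hMN)
  have hcK := compl_map N K M hK (Or.inl hMN)
  have hHall : (Nat.card (N.map (QuotientGroup.mk' M))).Coprime
      (N.map (QuotientGroup.mk' M)).index :=
    hall_of_compl N H hN hH _ _ hcH (Subgroup.card_map_dvd _ _) (Subgroup.card_map_dvd _ _)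
  have : IsMulCommutative (N.map (QuotientGroup.mk' M)) := ⟨⟨by
    rintro ⟨_, ⟨a, ha, rfl⟩⟩ ⟨_, ⟨b, hb, rfl⟩⟩
    apply Subtype.ext
    change (QuotientGroup.mk' M) a * (QuotientGroup.mk' M) b =
      (QuotientGroup.mk' M) b * (QuotientGroup.mk' M) a
    rw [← map_mul, ← map_mul]
    have hc : a * b * a⁻¹ * b⁻¹ ∈ M := Subgroup.commutator_mem_commutator ha hb
    have : (QuotientGroup.mk' M) (a * b * a⁻¹ * b⁻¹) = 1 :=
      (QuotientGroup.eq_one_iff _).mpr hc
    have h2 : a * b = (a * b * a⁻¹ * b⁻¹) * (b * a) := by group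
    rw [h2, map_mul, this, one_mul]⟩⟩
  obtain ⟨a, _, ha⟩ := Cfsg.Agent.S0002.result (N.map (QuotientGroup.mk' M)) hHall
    (H.map (QuotientGroup.mk' M)) (K.map (QuotientGroup.mk' M)) hcH hcK
  obtain ⟨g, rfl⟩ := hπs a
  set H' := H.map (MulAut.conj g).toMonoidHom with hH'def
  have hH'π : H'.map (QuotientGroup.mk' M) = K.map (QuotientGroup.mk' M) := by
    rw [hH'def, map_map_conj, ← conj_smul_eq_map]; exact ha
  have hH' : Subgroup.IsComplement' N H' := compl_conj N H hH g
  set L := K ⊔ M with hLdef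
  have hH'L : H' ≤ L := by
    have h1 : H' ≤ (H'.map (QuotientGroup.mk' M)).comap (QuotientGroup.mk' M) :=
      Subgroup.le_comap_map _ H'
    rw [hH'π, Subgroup.comap_map_eq, QuotientGroup.ker_mk'] at h1
    exact h1
  have hKL : K ≤ L := le_sup_left
  have hLtop : L ≠ ⊤ := by
    intro htop
    apply hMlt.not_ge
    intro x hx
    have hxL : x ∈ K ⊔ M := by rw [← hLdef, htop]; trivial
    rw [← SetLike.mem_coe, Subgroup.mul_normal] at hxL
    obtain ⟨k, hk, m, hm, hkm⟩ := hxL
    have hkm' : k * m = x := hkm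
    have hkN : k ∈ N := by
      have : k = x * m⁻¹ := by rw [← hkm']; group
      rw [this]; exact N.mul_mem hx (N.inv_mem (hMN hm))
    have : k ∈ N ⊓ K := ⟨hkN, hk⟩
    rw [hK.disjoint.eq_bot, Subgroup.mem_bot] at this
    rw [← hkm', this, one_mul]; exact hm
  have hcardL : Nat.card L < n := by
    rw [← hn]
    exact lt_of_le_of_ne (Subgroup.card_le_card_group L)
      (fun h => hLtop ((Subgroup.card_eq_iff_eq_top L).mp h))
  have hcL_K := compl_restrict N K L hK (Or.inr hKL)
  have hcL_H := compl_restrict N H' L hH' (Or.inr hH'L)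
  have hHallL : (Nat.card (N.subgroupOf L)).Coprime (N.subgroupOf L).index :=
    hall_of_compl N K hN hK _ _ hcL_K
      (Subgroup.card_comap_dvd_of_injective N L.subtype L.subtype_injective)
      (Subgroup.card_comap_dvd_of_injective K L.subtype L.subtype_injective)
  have hsolvL : Group.IsSolvable (N.subgroupOf L) := by
    let f : N.subgroupOf L →* N :=
      { toFun := fun x => ⟨(x : L), x.2⟩
        map_one' := rfl
        map_mul' := fun _ _ => rfl }
    have hf : Function.Injective f := by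
      intro x y hxy
      apply Subtype.ext; apply Subtype.ext
      exact congrArg (fun z : N => (z : G)) hxy
    exact Group.isSolvable_of_isSolvable_injective hf
  obtain ⟨l, hl⟩ := ih (Nat.card L) hcardL L rfl (N.subgroupOf L) hHallL (Or.inl hsolvL)
    (H'.subgroupOf L) (K.subgroupOf L) hcL_H hcL_K
  have hfin := conj_of_subgroupOf L H' K hH'L hKL l hl
  exact ⟨l * g, by rw [← map_conj_mul]; exact hfin⟩

/-- Variant of `conj_of_subgroupOf` without containment hypotheses. -/
theorem conj_inf_of_subgroupOf {G : Type*} [Group G] (L X Y : Subgroup G)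
    (l : L) (h : (X.subgroupOf L).map (MulAut.conj l).toMonoidHom = Y.subgroupOf L) :
    (X ⊓ L).map (MulAut.conj (l : G)).toMonoidHom = Y ⊓ L := by
  have h1 := congrArg (Subgroup.map L.subtype) h
  rw [Subgroup.subgroupOf_map_subtype, Subgroup.map_map] at h1
  have h2 : L.subtype.comp (MulAut.conj l).toMonoidHom =
      (MulAut.conj (l : G)).toMonoidHom.comp L.subtype := by
    ext x; simp
  rw [h2, ← Subgroup.map_map, Subgroup.subgroupOf_map_subtype] at h1
  exact h1

/-- A subgroup normalizes its intersection with a normal subgroup. -/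
theorem le_normalizer_inf_normal {G : Type*} [Group G] (X M : Subgroup G) [hM : M.Normal] :
    X ≤ Subgroup.normalizer ((X ⊓ M : Subgroup G) : Set G) := by
  intro h hh
  rw [Subgroup.mem_normalizer_iff]
  intro x
  constructor
  · rintro ⟨hxX, hxM⟩
    exact ⟨X.mul_mem (X.mul_mem hh hxX) (X.inv_mem hh), hM.conj_mem x hxM h⟩
  · rintro ⟨hxX, hxM⟩
    have e : x = h⁻¹ * (h * x * h⁻¹) * h⁻¹⁻¹ := by group
    constructor
    · rw [e]; exact X.mul_mem (X.mul_mem (X.inv_mem hh) hxX) (X.inv_mem (X.inv_mem hh))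
    · rw [e]; exact hM.conj_mem _ hxM h⁻¹

/-- Case of a solvable quotient. -/
theorem sz_caseB (n : ℕ) (ih : ∀ m < n, SZ.{u} m) (G : Type u) [Group G] [Finite G]
    (hn : Nat.card G = n) (N : Subgroup G) [hNn : N.Normal] (hN : (Nat.card N).Coprime N.index)
    (hs : Group.IsSolvable (G ⧸ N)) (H K : Subgroup G) (hH : Subgroup.IsComplement' N H)
    (hK : Subgroup.IsComplement' N K) :
    ∃ g : G, H.map (MulAut.conj g).toMonoidHom = K := by
  by_cases hNtop : N = ⊤
  · subst hNtop
    rw [Subgroup.isComplement'_top_left] at hH hK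
    refine ⟨1, ?_⟩
    rw [hH, hK]; simp
  have hnt : Nontrivial (G ⧸ N) := by
    rw [← Finite.one_lt_card_iff_nontrivial, ← Subgroup.index_eq_card]
    have h1 : N.index ≠ 1 := fun h => hNtop (Subgroup.index_eq_one.mp h)
    have h0 : N.index ≠ 0 := Subgroup.index_ne_zero_of_finite
    omega
  obtain ⟨p, hp, P, hPn, hPp, hPbot⟩ := exists_normal_pgroup hs
  have hpF : Fact p.Prime := ⟨hp⟩
  set M : Subgroup G := P.comap (QuotientGroup.mk' N) with hMdef
  have hMn : M.Normal := Subgroup.Normal.comap hPn _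
  have hNM : N ≤ M := by
    intro x hx
    rw [hMdef, Subgroup.mem_comap]
    have : (QuotientGroup.mk' N) x = 1 := (QuotientGroup.eq_one_iff x).mpr hx
    rw [this]; exact P.one_mem
  -- complements meet `M` in `p`-groups
  have hpel : ∀ X : Subgroup G, Subgroup.IsComplement' N X → IsPGroup p ↥(X ⊓ M) := by
    intro X hX x
    obtain ⟨k, hk⟩ := hPp ⟨(QuotientGroup.mk' N) (x : G), x.2.2⟩
    refine ⟨k, ?_⟩
    have h1 : (QuotientGroup.mk' N) ((x : G) ^ p ^ k) = 1 := by
      rw [map_pow]
      exact congrArg Subtype.val hk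
    have h2 : (x : G) ^ p ^ k ∈ N := (QuotientGroup.eq_one_iff _).mp h1
    have h3 : (x : G) ^ p ^ k ∈ N ⊓ X := ⟨h2, X.pow_mem x.2.1 _⟩
    rw [hX.disjoint.eq_bot, Subgroup.mem_bot] at h3
    apply Subtype.ext
    simpa using h3
  -- `p` does not divide `|N|`
  have hpN : ¬ p ∣ Nat.card N := by
    intro hdvd
    have hPnt : Nontrivial P := (Subgroup.nontrivial_iff_ne_bot P).mpr hPbot
    obtain ⟨k, hk0, hk⟩ := hPp.nontrivial_iff_card.mp hPnt
    have h1 : p ∣ Nat.card P := by rw [hk]; exact dvd_pow_self p (Nat.pos_iff_ne_zero.mp hk0)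
    have h2 : Nat.card P ∣ Nat.card (G ⧸ N) := Subgroup.card_subgroup_dvd_card P
    rw [← Subgroup.index_eq_card] at h2
    have h3 : p ∣ N.index := dvd_trans h1 h2
    have := Nat.eq_one_of_dvd_coprimes hN hdvd h3
    exact hp.one_lt.ne' this
  by_cases hMtop : M = ⊤
  · -- `G ⧸ N` is a `p`-group: Sylow's theorem
    have hHp : IsPGroup p H := by
      have := hpel H hH
      rwa [hMtop, inf_top_eq] at this
    have hKp : IsPGroup p K := by
      have := hpel K hK
      rwa [hMtop, inf_top_eq] at this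
    have hHi : ¬ p ∣ H.index := by rw [hH.index_eq_card]; exact hpN
    have hKi : ¬ p ∣ K.index := by rw [hK.index_eq_card]; exact hpN
    obtain ⟨g, hg⟩ := MulAction.exists_smul_eq G (hHp.toSylow hHi) (hKp.toSylow hKi)
    refine ⟨g, ?_⟩
    have := congrArg (fun S : Sylow p G => (S : Subgroup G)) hg
    simpa [Sylow.coe_subgroup_smul, conj_smul_eq_map] using this
  -- induction inside `M`
  have hcardM : Nat.card M < n := by
    rw [← hn]
    exact lt_of_le_of_ne (Subgroup.card_le_card_group M)
      (fun h => hMtop ((Subgroup.card_eq_iff_eq_top M).mp h))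
  have hcM_H := compl_restrict N H M hH (Or.inl hNM)
  have hcM_K := compl_restrict N K M hK (Or.inl hNM)
  have hHallM : (Nat.card (N.subgroupOf M)).Coprime (N.subgroupOf M).index :=
    hall_of_compl N K hN hK _ _ hcM_K
      (Subgroup.card_comap_dvd_of_injective N M.subtype M.subtype_injective)
      (Subgroup.card_comap_dvd_of_injective K M.subtype M.subtype_injective)
  obtain ⟨m, hm⟩ := ih (Nat.card M) hcardM M rfl (N.subgroupOf M) hHallM
    (Or.inr (solvable_quot_subgroupOf N M hs)) (H.subgroupOf M) (K.subgroupOf M) hcM_H hcM_K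
  have hm' := conj_inf_of_subgroupOf M H K m hm
  set H' := H.map (MulAut.conj (m : G)).toMonoidHom with hH'def
  have hH' : Subgroup.IsComplement' N H' := compl_conj N H hH m
  have hH'M : H' ⊓ M = K ⊓ M := by
    rw [← hm', Subgroup.map_inf _ _ _ (MulAut.conj (m : G)).injective]
    congr 1
    exact (Subgroup.Normal.map_conj_eq (H := M) (m : G)).symm
  set P₀ := K ⊓ M with hP₀def
  have hP₀bot : P₀ ≠ ⊥ := by
    intro hbot
    apply hPbot
    rw [eq_bot_iff]
    intro q hq
    obtain ⟨g, rfl⟩ := QuotientGroup.mk'_surjective N q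
    obtain ⟨⟨⟨a, ha⟩, ⟨k, hk⟩⟩, hak⟩ := hK.2 g
    simp only at hak
    have hqk : (QuotientGroup.mk' N) g = (QuotientGroup.mk' N) k := by
      have ha1 : (QuotientGroup.mk' N) a = 1 := (QuotientGroup.eq_one_iff a).mpr ha
      rw [← hak, map_mul, ha1, one_mul]
    have hkM : k ∈ M := by
      rw [hMdef, Subgroup.mem_comap, ← hqk]; exact hq
    have : k ∈ P₀ := ⟨hk, hkM⟩
    rw [hbot, Subgroup.mem_bot] at this
    rw [Subgroup.mem_bot, hqk, this, map_one]
  set L := Subgroup.normalizer (P₀ : Set G) with hLdef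
  have hKL : K ≤ L := le_normalizer_inf_normal K M
  have hH'L : H' ≤ L := by
    have := le_normalizer_inf_normal H' M
    rwa [hH'M] at this
  by_cases hLtop : L = ⊤
  · -- `P₀` is normal in `G`: pass to the quotient
    have hP₀n : P₀.Normal := Subgroup.normalizer_eq_top_iff.mp hLtop
    have hπs : Function.Surjective (QuotientGroup.mk' P₀) := QuotientGroup.mk'_surjective P₀
    have hÑn : (N.map (QuotientGroup.mk' P₀)).Normal :=
      Subgroup.Normal.map inferInstance (QuotientGroup.mk' P₀) hπs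
    have hP₀H' : P₀ ≤ H' := by rw [← hH'M]; exact inf_le_left
    have hcH := compl_map N H' P₀ hH' (Or.inr hP₀H')
    have hcK := compl_map N K P₀ hK (Or.inr inf_le_left)
    have hHallQ : (Nat.card (N.map (QuotientGroup.mk' P₀))).Coprime
        (N.map (QuotientGroup.mk' P₀)).index :=
      hall_of_compl N K hN hK _ _ hcK (Subgroup.card_map_dvd _ _) (Subgroup.card_map_dvd _ _)
    have hcardQ : Nat.card (G ⧸ P₀) < n := by
      rw [← hn, Subgroup.card_eq_card_quotient_mul_card_subgroup P₀]
      have h1 : 1 < Nat.card P₀ := by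
        rw [Finite.one_lt_card_iff_nontrivial]
        exact (Subgroup.nontrivial_iff_ne_bot P₀).mpr hP₀bot
      have h0 : 0 < Nat.card (G ⧸ P₀) := Nat.card_pos
      nlinarith
    obtain ⟨q, hq⟩ := ih (Nat.card (G ⧸ P₀)) hcardQ (G ⧸ P₀) rfl (N.map (QuotientGroup.mk' P₀))
      hHallQ (Or.inr (solvable_quot_map N P₀ hs)) (H'.map (QuotientGroup.mk' P₀))
      (K.map (QuotientGroup.mk' P₀)) hcH hcK
    obtain ⟨g, rfl⟩ := hπs q
    rw [← map_map_conj] at hq
    set H'' := H'.map (MulAut.conj g).toMonoidHom with hH''def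
    have hH''K : H'' ≤ K := by
      have h1 : H'' ≤ (H''.map (QuotientGroup.mk' P₀)).comap (QuotientGroup.mk' P₀) :=
        Subgroup.le_comap_map _ H''
      rw [hq, Subgroup.comap_map_eq, QuotientGroup.ker_mk'] at h1
      have h2 : K ⊔ P₀ = K := sup_eq_left.mpr inf_le_left
      rwa [h2] at h1
    have hcard : Nat.card K ≤ Nat.card H'' := by
      rw [hH''def, card_map_conj, hH'def, card_map_conj, ← hH.symm.index_eq_card,
        ← hK.symm.index_eq_card]
    have hfin : H'' = K := Subgroup.eq_of_le_of_card_ge hH''K hcard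
    exact ⟨g * m, by rw [← map_conj_mul]; exact hfin⟩
  · -- induction inside `L = N_G(P₀)`
    have hcardL : Nat.card L < n := by
      rw [← hn]
      exact lt_of_le_of_ne (Subgroup.card_le_card_group L)
        (fun h => hLtop ((Subgroup.card_eq_iff_eq_top L).mp h))
    have hcL_K := compl_restrict N K L hK (Or.inr hKL)
    have hcL_H := compl_restrict N H' L hH' (Or.inr hH'L)
    have hHallL : (Nat.card (N.subgroupOf L)).Coprime (N.subgroupOf L).index :=
      hall_of_compl N K hN hK _ _ hcL_K
        (Subgroup.card_comap_dvd_of_injective N L.subtype L.subtype_injective)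
        (Subgroup.card_comap_dvd_of_injective K L.subtype L.subtype_injective)
    obtain ⟨l, hl⟩ := ih (Nat.card L) hcardL L rfl (N.subgroupOf L) hHallL
      (Or.inr (solvable_quot_subgroupOf N L hs)) (H'.subgroupOf L) (K.subgroupOf L) hcL_H hcL_K
    have hfin := conj_of_subgroupOf L H' K hH'L hKL l hl
    exact ⟨l * m, by rw [← map_conj_mul]; exact hfin⟩

theorem sz_all : ∀ n : ℕ, SZ.{u} n := by
  intro n
  induction n using Nat.strong_induction_on with
  | _ n ih =>
    intro G _ _ hn N _ hN hsolv H K hH hK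
    rcases hsolv with hs | hs
    · exact sz_caseA n ih G hn N hN hs H K hH hK
    · exact sz_caseB n ih G hn N hN hs H K hH hK

/-- Conjugacy half of the Schur–Zassenhaus Theorem, under a solvability assumption on the normal Hall subgroup or on its quotient. -/
theorem result {G : Type*} [Group G] [Finite G] (N : Subgroup G) [N.Normal]
    (hN : (Nat.card N).Coprime N.index) (hsolv : Group.IsSolvable N ∨ Group.IsSolvable (G ⧸ N))
    (H K : Subgroup G) (hH : Subgroup.IsComplement' N H) (hK : Subgroup.IsComplement' N K) :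
    ∃ g : G, MulAut.conj g • H = K := by
  obtain ⟨g, hg⟩ := sz_all (Nat.card G) G rfl N hN hsolv H K hH hK
  exact ⟨g, by rw [conj_smul_eq_map]; exact hg⟩

end Cfsg.Agent.S0001
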