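import Cfsg.Statements.S0014
import Mathlib
import Cfsg.Agent.Lib.Helper1_Frattini
import Cfsg.Agent.Lib.Helper1_Cores

set_option autoImplicit false
open Cfsg

namespace Cfsg.Agent.S0014

open Subgroup Cfsg.Agent.Lib.Helper1_Frattini Cfsg.Agent.Lib.Helper1_Cores
open scoped commutatorElement

/-- In an elementary abelian `p`-group, adjoining an element outside `H` multiplies the order
by `p`. -/
theorem card_sup_zpowers {Q : Type*} [Group Q] [Finite Q] (hc : ∀ a b : Q, a * b = b * a)
    {p : ℕ} [hp : Fact p.Prime] (hpow : ∀ x : Q, x ^ p = 1) (H : Subgroup Q) (a : Q)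
    (ha : a ∉ H) :
    Nat.card (H ⊔ zpowers a : Subgroup Q) = p * Nat.card H := by
  have : H.Normal := ⟨fun n hn g => by rw [hc g n, mul_inv_cancel_right]; exact hn⟩
  rw [sup_comm, card_sup_eq (zpowers a) H, mul_comm]
  congr 1
  have hord : orderOf a = p := by
    have h1 : orderOf a ∣ p := orderOf_dvd_of_pow_eq_one (hpow a)
    rcases (Nat.dvd_prime hp.out).mp h1 with h | h
    · exfalso; rw [orderOf_eq_one_iff] at h; exact ha (h ▸ H.one_mem)
    · exact h
  have h2 : H.relIndex (zpowers a) ∣ p := by
    rw [← hord, ← Nat.card_zpowers]; exact relIndex_dvd_card H (zpowers a)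
  rcases (Nat.dvd_prime hp.out).mp h2 with h | h
  · exfalso; rw [relIndex_eq_one] at h; exact ha (h (mem_zpowers a))
  · exact h

theorem closure_insert_eq {G : Type*} [Group G] (a : G) (U : Set G) :
    closure (insert a U) = closure U ⊔ zpowers a := by
  rw [Set.insert_eq, Subgroup.closure_union, ← zpowers_eq_closure, sup_comm]

/-- An irredundant generating set of a finite `p`-group has exactly `n` elements. -/
theorem card_of_irredundant {G : Type*} [Group G] [Finite G] [DecidableEq G] (p n : ℕ) [hp : Fact p.Prime]
    (hG : IsPGroup p G) (hn : (frattini G).index = p ^ n) (S : Finset G)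
    (hS : closure (S : Set G) = ⊤)
    (hirr : ∀ a ∈ S, closure ((S.erase a : Finset G) : Set G) ≠ ⊤) : S.card = n := by
  set Φ := frattini G with hΦ
  set π := QuotientGroup.mk' Φ with hπ
  have hker : π.ker = Φ := QuotientGroup.ker_mk' Φ
  have hc : ∀ a b : G ⧸ Φ, a * b = b * a := by
    intro a b
    obtain ⟨a, rfl⟩ := QuotientGroup.mk_surjective a
    obtain ⟨b, rfl⟩ := QuotientGroup.mk_surjective b
    have h1 : ⁅a, b⁆ ∈ Φ :=
      commutator_le_frattini_of_isPGroup hG (commutator_mem_commutator (mem_top a) (mem_top b))
    rw [← QuotientGroup.eq_one_iff] at h1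
    simp only [commutatorElement_def, QuotientGroup.mk_mul, QuotientGroup.mk_inv] at h1
    calc (a : G ⧸ Φ) * b = ((a : G ⧸ Φ) * b * (a : G ⧸ Φ)⁻¹ * (b : G ⧸ Φ)⁻¹) * (b * a) := by group
      _ = b * a := by rw [h1, one_mul]
  have hpow : ∀ x : G ⧸ Φ, x ^ p = 1 := by
    intro x
    obtain ⟨x, rfl⟩ := QuotientGroup.mk_surjective x
    rw [← QuotientGroup.mk_pow, QuotientGroup.eq_one_iff]
    exact pow_mem_frattini_of_isPGroup hG x
  have key : ∀ U : Finset G, U ⊆ S → Nat.card (map π (closure (U : Set G))) = p ^ U.card := by
    intro U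
    induction U using Finset.induction_on with
    | empty =>
      intro _
      simp
    | insert a U haU ih =>
      intro hU
      have haS : a ∈ S := hU (Finset.mem_insert_self a U)
      have hUS : U ⊆ S.erase a := by
        intro x hx
        rw [Finset.mem_erase]
        exact ⟨fun h => haU (h ▸ hx), hU (Finset.mem_insert_of_mem hx)⟩
      have hnot : π a ∉ map π (closure (U : Set G)) := by
        intro hmem
        apply hirr a haS
        refine frattini_nongenerating (G := G) ?_
        rw [eq_top_iff, ← hS, closure_le]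
        intro x hx
        by_cases hxa : x = a
        · have h1 : a ∈ comap π (map π (closure (U : Set G))) := hmem
          rw [comap_map_eq, hker] at h1
          rw [hxa]
          refine (sup_le_sup_right (Subgroup.closure_mono ?_) Φ) h1
          exact_mod_cast hUS
        · apply (le_sup_left : closure ((S.erase a : Finset G) : Set G) ≤ _)
          apply Subgroup.subset_closure
          exact_mod_cast Finset.mem_erase.mpr ⟨hxa, hx⟩
      rw [Finset.coe_insert, closure_insert_eq, Subgroup.map_sup, MonoidHom.map_zpowers,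
        card_sup_zpowers hc hpow _ _ hnot, ih (fun x hx => hU (Finset.mem_insert_of_mem hx)),
        Finset.card_insert_of_notMem haU, pow_succ, mul_comm]
  have h1 := key S subset_rfl
  rw [hS, ← MonoidHom.range_eq_map, MonoidHom.range_eq_top.mpr (QuotientGroup.mk'_surjective Φ),
    Nat.card_congr (Subgroup.topEquiv (G := G ⧸ Φ)).toEquiv, ← index_eq_card, hn] at h1
  exact (Nat.pow_right_injective hp.out.two_le h1).symm

/-- Every generating finset contains a generating subset of size `n`. -/
theorem exists_subset_card {G : Type*} [Group G] [Finite G] (p n : ℕ) [hp : Fact p.Prime]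
    (hG : IsPGroup p G) (hn : (frattini G).index = p ^ n) :
    ∀ (k : ℕ) (S : Finset G), S.card = k → closure (S : Set G) = ⊤ →
      ∃ T : Finset G, T ⊆ S ∧ T.card = n ∧ closure (T : Set G) = ⊤ := by
  classical
  intro k
  induction k using Nat.strong_induction_on with
  | _ k ih =>
    intro S hk hS
    by_cases hirr : ∀ a ∈ S, closure ((S.erase a : Finset G) : Set G) ≠ ⊤
    · exact ⟨S, subset_rfl, card_of_irredundant p n hG hn S hS hirr, hS⟩
    · push Not at hirr
      obtain ⟨a, haS, ha⟩ := hirr
      have hlt : (S.erase a).card < k := by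
        rw [← hk]; exact Finset.card_erase_lt_of_mem haS
      obtain ⟨T, hT, hTn, hTc⟩ := ih _ hlt (S.erase a) rfl ha
      exact ⟨T, hT.trans (Finset.erase_subset a S), hTn, hTc⟩

/-- Burnside's basis Theorem: in a finite p-group whose Frattini quotient has order p ^ n, every generating set contains n elements that already generate, and no set with fewer than n elements generates. -/
theorem result {G : Type*} [Group G] [Finite G] (p n : ℕ) [Fact p.Prime]
    (hG : IsPGroup p G) (hn : (frattini G).index = p ^ n) :
    (∀ S : Finset G, Subgroup.closure (S : Set G) = ⊤ → ∃ T : Finset G, T ⊆ S ∧ T.card = n ∧ Subgroup.closure (T : Set G) = ⊤) ∧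
    (∀ T : Finset G, Subgroup.closure (T : Set G) = ⊤ → n ≤ T.card) := by
  refine ⟨fun S hS => exists_subset_card p n hG hn S.card S rfl hS, fun T hT => ?_⟩
  obtain ⟨T', hT', hn', _⟩ := exists_subset_card p n hG hn T.card T rfl hT
  rw [← hn']
  exact Finset.card_le_card hT'

end Cfsg.Agent.S0014
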