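-- Statement S0017; proof by helper1.
import Cfsg.Statements.S0017
import Mathlib
import Cfsg.Agent.Lib.Helper1_Cores
import Cfsg.Agent.Lib.Helper55_Fitting

set_option autoImplicit false
open Pointwise
open Cfsg

namespace Cfsg.Agent.S0017

open Subgroup Cfsg.Agent.Lib.Helper1_Cores

/-- In a finite solvable group whose largest normal subgroup of order prime to p is trivial, the centralizer of the p-core is contained in the p-core. -/
theorem result {G : Type*} [Group G] [Finite G] [Group.IsSolvable G] (p : ℕ) [Fact p.Prime]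
    (h : Cfsg.pPrimeCore p G = ⊥) :
    Subgroup.centralizer (Cfsg.pCore p G : Set G) ≤ Cfsg.pCore p G := by
  obtain ⟨C, hC⟩ : ∃ C : Subgroup G, C = centralizer (pCore p G : Set G) := ⟨_, rfl⟩
  rw [← hC]
  have hCn : C.Normal := by rw [hC]; exact Subgroup.normal_centralizer
  -- the Fitting subgroup of `C` maps into `O_p(G)`
  have hF : (fittingSubgroup C).map C.subtype ≤ pCore p G := by
    rw [fittingSubgroup_eq_iSup_pCore, Subgroup.map_iSup]
    refine iSup_le (fun q => ?_)
    have hq : Fact (q : ℕ).Prime := ⟨q.2⟩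
    have hn : ((pCore (q : ℕ) C).map C.subtype).Normal := inferInstance
    have hpg : IsPGroup (q : ℕ) ((pCore (q : ℕ) C).map C.subtype) := (pCore_isPGroup (q : ℕ)).map _
    by_cases hqp : (q : ℕ) = p
    · rw [hqp] at hpg hn ⊢
      exact le_pCore hn hpg
    · have hcop : (Nat.card ((pCore (q : ℕ) C).map C.subtype)).Coprime p := by
        obtain ⟨k, hk⟩ := IsPGroup.iff_card.mp hpg
        rw [hk]
        exact Nat.Coprime.pow_left _ ((Nat.coprime_primes q.2 Fact.out).mpr hqp)
      have := le_pPrimeCore hn hcop
      rw [h] at this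
      exact this.trans bot_le
  -- hence it is central in `C`
  have hcent : centralizer ((fittingSubgroup C : Subgroup C) : Set C) = ⊤ := by
    rw [eq_top_iff]
    intro c _
    rw [mem_centralizer_iff]
    intro f hf
    have hfP : (f : G) ∈ pCore p G := hF ⟨f, hf, rfl⟩
    have hc : (c : G) ∈ centralizer (pCore p G : Set G) := by rw [← hC]; exact c.2
    apply Subtype.ext
    exact (mem_centralizer_iff.mp hc) f hfP
  have hle := Cfsg.Agent.Lib.Helper55_Fitting.centralizer_fittingSubgroup_le (G := C)
  rw [hcent, top_le_iff] at hle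
  intro c hc
  have : (⟨c, hc⟩ : C) ∈ fittingSubgroup C := by rw [hle]; exact mem_top _
  exact hF ⟨⟨c, hc⟩, this, rfl⟩

end Cfsg.Agent.S0017
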