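-- Statement S0018; proof by helper1.
import Cfsg.Statements.S0018
import Mathlib
import Cfsg.Agent.S0017
import Cfsg.Agent.Lib.Helper1_Transport

set_option autoImplicit false
open Pointwise
open Cfsg

namespace Cfsg.Agent.S0018

open Subgroup Cfsg.Agent.Lib.Helper1_Cores Cfsg.Agent.Lib.Helper1_Transport

/-- The `p'`-core of `G ⧸ O_{p'}(G)` is trivial. -/
theorem pPrimeCore_quotient_eq_bot {G : Type*} [Group G] [Finite G] (p : ℕ) :
    pPrimeCore p (G ⧸ pPrimeCore p G) = ⊥ := by
  have hsurj : Function.Surjective (QuotientGroup.mk' (pPrimeCore p G)) :=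
    QuotientGroup.mk'_surjective _
  obtain ⟨Mbar, hMbar⟩ : ∃ Mbar, Mbar = pPrimeCore p (G ⧸ pPrimeCore p G) := ⟨_, rfl⟩
  rw [← hMbar]
  have hMn : Mbar.Normal := by rw [hMbar]; exact pPrimeCore_normal p
  have hMc : (Nat.card Mbar).Coprime p := by rw [hMbar]; exact pPrimeCore_card_coprime p
  have hn : (Mbar.comap (QuotientGroup.mk' (pPrimeCore p G))).Normal := hMn.comap _
  have hc : (Nat.card (Mbar.comap (QuotientGroup.mk' (pPrimeCore p G)))).Coprime p := by
    rw [card_comap_mk']
    exact Nat.Coprime.mul_left hMc (pPrimeCore_card_coprime p)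
  have hle := le_pPrimeCore hn hc
  rw [eq_bot_iff]
  intro x hx
  obtain ⟨g, rfl⟩ := hsurj x
  have hg : g ∈ pPrimeCore p G := hle hx
  rw [mem_bot]
  exact (QuotientGroup.eq_one_iff g).mpr hg

/-- A finite solvable group whose Sylow p-subgroups are abelian has p-length one: a Sylow p-subgroup together with the largest normal subgroup of order prime to p generates a normal subgroup. -/
theorem result {G : Type*} [Group G] [Finite G] [Group.IsSolvable G]
    (p : ℕ) [Fact p.Prime] (P : Sylow p G) (hP : IsMulCommutative P) :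
    ((P : Subgroup G) ⊔ Cfsg.pPrimeCore p G).Normal := by
  have hsurj : Function.Surjective (QuotientGroup.mk' (pPrimeCore p G)) :=
    QuotientGroup.mk'_surjective _
  have hbar := pPrimeCore_quotient_eq_bot (G := G) p
  have h17 := Cfsg.Agent.S0017.result (G := G ⧸ pPrimeCore p G) p hbar
  have hle : pCore p (G ⧸ pPrimeCore p G) ≤ (P : Subgroup G).map (QuotientGroup.mk' (pPrimeCore p G)) :=
    pCore_le_sylow p (P.mapSurjective hsurj)
  have hcent : (P : Subgroup G).map (QuotientGroup.mk' (pPrimeCore p G)) ≤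
      centralizer (pCore p (G ⧸ pPrimeCore p G) : Set (G ⧸ pPrimeCore p G)) := by
    rintro _ ⟨a, ha, rfl⟩
    rw [mem_centralizer_iff]
    intro y hy
    obtain ⟨b, hb, rfl⟩ := hle hy
    have hab : b * a = a * b := by
      have := (IsMulCommutative.is_comm (M := P)).comm ⟨b, hb⟩ ⟨a, ha⟩
      exact congrArg Subtype.val this
    rw [← map_mul, ← map_mul, hab]
  have heq : (P : Subgroup G).map (QuotientGroup.mk' (pPrimeCore p G)) =
      pCore p (G ⧸ pPrimeCore p G) := le_antisymm (hcent.trans h17) hle
  have hn : ((P : Subgroup G).map (QuotientGroup.mk' (pPrimeCore p G))).Normal := by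
    rw [heq]; exact pCore_normal p
  have := hn.comap (QuotientGroup.mk' (pPrimeCore p G))
  rwa [comap_map_eq, QuotientGroup.ker_mk'] at this

end Cfsg.Agent.S0018
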