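import Mathlib
import Cfsg.Statements.S0019
-- import your own Cfsg.Agent.* helpers here

set_option autoImplicit false
set_option linter.style.haveILetI false
open Cfsg

namespace Cfsg.Agent.S0019

universe u
open scoped commutatorElement

section
variable {G : Type u} [Group G]

/-- A nontrivial solvable subgroup `H` of a finite group has a nontrivial `p`-subgroup `N ≤ H` normalised by `H`. -/
theorem exists_normal_pSubgroup [Finite G] (H : Subgroup G) (hH : Group.IsSolvable H) (hne : H ≠ ⊥) :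
    ∃ (p : ℕ) (_ : p.Prime) (N : Subgroup G), N ≤ H ∧ N ≠ ⊥ ∧ IsPGroup p N ∧
      ∀ h ∈ H, ∀ n ∈ N, h * n * h⁻¹ ∈ N := by
  classical
  haveI : Nontrivial H := (Subgroup.nontrivial_iff_ne_bot H).mpr hne
  -- last nontrivial term of the derived series
  obtain ⟨k, hk⟩ := (Group.isSolvable_def H).mp hH
  have hex : ∃ n, derivedSeries H n = ⊥ := ⟨k, hk⟩
  set m := Nat.find hex with hm
  have hm0 : m ≠ 0 := by
    intro h0
    have := Nat.find_spec hex
    rw [← hm, h0, derivedSeries_zero] at this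
    exact top_ne_bot this
  obtain ⟨j, hj⟩ := Nat.exists_eq_succ_of_ne_zero hm0
  have hAne : derivedSeries H j ≠ ⊥ := by
    have := Nat.find_min hex (m := j) (by omega)
    exact this
  have hAcomm : ∀ a ∈ derivedSeries H j, ∀ b ∈ derivedSeries H j, a * b = b * a := by
    have h1 : derivedSeries H (j + 1) = ⊥ := by
      have := Nat.find_spec hex
      rwa [← hm, hj] at this
    rw [derivedSeries_succ] at h1
    intro a ha b hb
    have h2 : ⁅a, b⁆ ∈ ⁅derivedSeries H j, derivedSeries H j⁆ := Subgroup.commutator_mem_commutator ha hb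
    rw [h1, Subgroup.mem_bot] at h2
    exact (commutatorElement_eq_one_iff_mul_comm.mp h2)
  set A : Subgroup H := derivedSeries H j with hA
  have hAn : A.Normal := inferInstance
  -- a prime dividing |A|
  have hcardA : Nat.card A ≠ 1 := fun h => hAne (Subgroup.card_eq_one.mp h)
  obtain ⟨p, hp, hpA⟩ := Nat.exists_prime_and_dvd hcardA
  haveI : Fact p.Prime := ⟨hp⟩
  obtain ⟨a0, ha0⟩ := exists_prime_orderOf_dvd_card' p hpA
  -- N = elements of A of order dividing p, viewed in G
  let N : Subgroup G :=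
    { carrier := {g : G | ∃ hg : g ∈ H, (⟨g, hg⟩ : H) ∈ A ∧ g ^ p = 1}
      one_mem' := ⟨H.one_mem, A.one_mem, one_pow p⟩
      mul_mem' := by
        rintro x y ⟨hx, hxA, hxp⟩ ⟨hy, hyA, hyp⟩
        refine ⟨H.mul_mem hx hy, A.mul_mem hxA hyA, ?_⟩
        have hc : Commute x y := by
          have := hAcomm _ hxA _ hyA
          exact congrArg Subtype.val this
        rw [hc.mul_pow, hxp, hyp, one_mul]
      inv_mem' := by
        rintro x ⟨hx, hxA, hxp⟩
        exact ⟨H.inv_mem hx, A.inv_mem hxA, by rw [inv_pow, hxp, inv_one]⟩ }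
  refine ⟨p, hp, N, ?_, ?_, ?_, ?_⟩
  · rintro x ⟨hx, _, _⟩
    exact hx
  · intro hbot
    have hmem : ((a0 : H) : G) ∈ N := by
      refine ⟨(a0 : H).2, a0.2, ?_⟩
      have h1 : (a0 : H) ^ p = 1 := by
        have : a0 ^ p = 1 := by rw [← ha0]; exact pow_orderOf_eq_one a0
        exact_mod_cast congrArg Subtype.val this
      exact_mod_cast congrArg Subtype.val h1
    rw [hbot, Subgroup.mem_bot] at hmem
    have h1 : a0 = 1 := by
      apply Subtype.ext
      apply Subtype.ext
      exact hmem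
    rw [h1, orderOf_one] at ha0
    exact hp.one_lt.ne ha0
  · intro x
    refine ⟨1, ?_⟩
    obtain ⟨hx, _, hxp⟩ := x.2
    apply Subtype.ext
    simpa using hxp
  · rintro h hh n ⟨hn, hnA, hnp⟩
    refine ⟨H.mul_mem (H.mul_mem hh hn) (H.inv_mem hh), ?_, ?_⟩
    · have := hAn.conj_mem ⟨n, hn⟩ hnA ⟨h, hh⟩
      exact this
    · rw [conj_pow, hnp, mul_one, mul_inv_cancel]


/-- If `G = H₁ H₂`, `p ∤ |G : H₂|` and `N ≤ H₁` is a `p`-subgroup normalised by `H₁`,
then the normal closure of `N` lies in `H₂`. -/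
theorem normalClosure_le [Finite G] (H₁ H₂ N : Subgroup G) {p : ℕ} [Fact p.Prime]
    (h12 : ∀ g : G, ∃ x ∈ H₁, ∃ y ∈ H₂, g = x * y) (hp : ¬ p ∣ H₂.index)
    (hNp : IsPGroup p N) (hnorm : ∀ h ∈ H₁, ∀ n ∈ N, h * n * h⁻¹ ∈ N) :
    Subgroup.normalClosure (N : Set G) ≤ H₂ := by
  -- `N` fixes a coset of `H₂`
  have hcard : ¬ p ∣ Nat.card (G ⧸ H₂) := by
    rwa [← Subgroup.index_eq_card]
  obtain ⟨q, hq⟩ := hNp.nonempty_fixed_point_of_prime_not_dvd_card (G ⧸ H₂) hcard
  obtain ⟨g, rfl⟩ := QuotientGroup.mk_surjective q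
  have hfix : ∀ n ∈ N, g⁻¹ * n * g ∈ H₂ := by
    intro n hn
    have h1 : (⟨n, hn⟩ : N) • (g : G ⧸ H₂) = (g : G ⧸ H₂) := hq ⟨n, hn⟩
    have h2 : ((n * g : G) : G ⧸ H₂) = (g : G ⧸ H₂) := h1
    have h3 := QuotientGroup.eq.mp h2
    have h4 : g⁻¹ * n * g = ((n * g)⁻¹ * g)⁻¹ := by group
    rw [h4]
    exact H₂.inv_mem h3
  -- `N ≤ H₂`
  have hNH2 : N ≤ H₂ := by
    obtain ⟨x, hx, y, hy, hg⟩ := h12 g
    intro n hn
    -- n = x⁻¹ (x n x⁻¹) x
    have hn' : x * n * x⁻¹ ∈ N := hnorm x hx n hn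
    have h1 := hfix _ hn'
    rw [hg] at h1
    have h2 : n = y * ((x * y)⁻¹ * (x * n * x⁻¹) * (x * y)) * y⁻¹ := by group
    rw [h2]
    exact H₂.mul_mem (H₂.mul_mem hy h1) (H₂.inv_mem hy)
  -- conjugates
  rw [Subgroup.normalClosure, Subgroup.closure_le]
  intro z hz
  rw [Group.mem_conjugatesOfSet_iff] at hz
  obtain ⟨n, hn, hconj⟩ := hz
  obtain ⟨c, hc⟩ := isConj_iff.mp hconj
  -- c = y x with y ∈ H₂, x ∈ H₁
  obtain ⟨x, hx, y, hy, hcg⟩ := h12 c⁻¹
  have hc' : c = y⁻¹ * x⁻¹ := by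
    have : c = (c⁻¹)⁻¹ := by simp
    rw [this, hcg]; group
  have h1 : x⁻¹ * n * x ∈ N := by
    have := hnorm x⁻¹ (H₁.inv_mem hx) n hn
    simpa using this
  have h2 : z = y⁻¹ * (x⁻¹ * n * x) * y := by
    rw [← hc, hc']; group
  rw [SetLike.mem_coe, h2]
  exact H₂.mul_mem (H₂.mul_mem (H₂.inv_mem hy) (hNH2 h1)) hy

end

theorem main : ∀ (n : ℕ) (G : Type u) [Group G] [Finite G] (H₁ H₂ H₃ : Subgroup G),
    Nat.card G = n → Group.IsSolvable H₁ → Group.IsSolvable H₂ → Group.IsSolvable H₃ →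
    (∀ g : G, ∃ x ∈ H₁, ∃ y ∈ H₂, g = x * y) → (∀ g : G, ∃ x ∈ H₁, ∃ y ∈ H₃, g = x * y) →
    H₂.index.Coprime H₃.index → Group.IsSolvable G := by
  intro n
  induction n using Nat.strong_induction_on with
  | _ n ih =>
    intro G _ _ H₁ H₂ H₃ hn h₁ h₂ h₃ h12 h13 hcop
    by_cases hbot : H₁ = ⊥
    · -- `G = H₂`
      have htop : H₂ = ⊤ := by
        rw [eq_top_iff]
        intro g _
        obtain ⟨x, hx, y, hy, rfl⟩ := h12 g
        rw [hbot, Subgroup.mem_bot] at hx
        rw [hx, one_mul]; exact hy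
      have : Group.IsSolvable (⊤ : Subgroup G) := htop ▸ h₂
      exact Group.isSolvable_of_surjective (f := (⊤ : Subgroup G).subtype) (by
        intro g; exact ⟨⟨g, Subgroup.mem_top g⟩, rfl⟩)
    · obtain ⟨p, hp, N, hNH, hNne, hNp, hnorm⟩ := exists_normal_pSubgroup H₁ h₁ hbot
      haveI : Fact p.Prime := ⟨hp⟩
      -- `p` does not divide one of the two indices
      have hdiv : ¬ p ∣ H₂.index ∨ ¬ p ∣ H₃.index := by
        by_contra hcon
        push Not at hcon
        have := Nat.dvd_gcd hcon.1 hcon.2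
        rw [hcop] at this
        exact hp.one_lt.ne' (Nat.dvd_one.mp this)
      -- a nontrivial solvable normal subgroup
      have hK : ∃ K : Subgroup G, K.Normal ∧ K ≠ ⊥ ∧ Group.IsSolvable K := by
        refine ⟨Subgroup.normalClosure (N : Set G), Subgroup.normalClosure_normal, ?_, ?_⟩
        · intro h0
          apply hNne
          rw [eq_bot_iff, ← h0]
          exact Subgroup.le_normalClosure
        · rcases hdiv with hd | hd
          · have hle := normalClosure_le H₁ H₂ N h12 hd hNp hnorm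
            haveI := h₂
            exact Group.isSolvable_of_isSolvable_injective (Subgroup.inclusion_injective hle)
          · have hle := normalClosure_le H₁ H₃ N h13 hd hNp hnorm
            haveI := h₃
            exact Group.isSolvable_of_isSolvable_injective (Subgroup.inclusion_injective hle)
      obtain ⟨K, hKn, hKne, hKs⟩ := hK
      haveI := hKn
      haveI := hKs
      have hcardlt : Nat.card (G ⧸ K) < n := by
        rw [← hn, ← Subgroup.index_eq_card, ← Subgroup.card_mul_index K]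
        have h2 : 2 ≤ Nat.card K := by
          have : Nat.card K ≠ 1 := fun h0 => hKne (Subgroup.card_eq_one.mp h0)
          have : 0 < Nat.card K := Nat.card_pos
          omega
        have h0 : 0 < K.index := Nat.pos_of_ne_zero Subgroup.index_ne_zero_of_finite
        nlinarith
      have hmapsolv : ∀ H : Subgroup G, Group.IsSolvable H →
          Group.IsSolvable (H.map (QuotientGroup.mk' K)) := by
        intro H hH
        haveI := hH
        exact Group.isSolvable_of_surjective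
          (MonoidHom.subgroupMap_surjective (QuotientGroup.mk' K) H)
      have hfact : ∀ H H' : Subgroup G, (∀ g : G, ∃ x ∈ H, ∃ y ∈ H', g = x * y) →
          ∀ q : G ⧸ K, ∃ x ∈ H.map (QuotientGroup.mk' K), ∃ y ∈ H'.map (QuotientGroup.mk' K),
            q = x * y := by
        intro H H' hHH' q
        obtain ⟨g, rfl⟩ := QuotientGroup.mk_surjective q
        obtain ⟨x, hx, y, hy, rfl⟩ := hHH' g
        exact ⟨_, Subgroup.mem_map_of_mem _ hx, _, Subgroup.mem_map_of_mem _ hy, rfl⟩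
      have hcop' : (H₂.map (QuotientGroup.mk' K)).index.Coprime (H₃.map (QuotientGroup.mk' K)).index :=
        Nat.Coprime.coprime_dvd_left (Subgroup.index_map_dvd H₂ (QuotientGroup.mk'_surjective K))
          (Nat.Coprime.coprime_dvd_right (Subgroup.index_map_dvd H₃ (QuotientGroup.mk'_surjective K)) hcop)
      haveI : Group.IsSolvable (G ⧸ K) :=
        ih _ hcardlt (G ⧸ K) _ _ _ rfl (hmapsolv H₁ h₁) (hmapsolv H₂ h₂) (hmapsolv H₃ h₃)
          (hfact H₁ H₂ h12) (hfact H₁ H₃ h13) hcop'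
      exact Group.isSolvable_of_ker_le_range K.subtype (QuotientGroup.mk' K) (by simp)


/-- A finite group that factorises as H₁H₂ and as H₁H₃ with all three subgroups solvable and the indices of H₂ and H₃ coprime is solvable. -/
theorem result {G : Type*} [Group G] [Finite G] (H₁ H₂ H₃ : Subgroup G)
    (h₁ : Group.IsSolvable H₁) (h₂ : Group.IsSolvable H₂) (h₃ : Group.IsSolvable H₃)
    (h12 : ∀ g : G, ∃ x ∈ H₁, ∃ y ∈ H₂, g = x * y) (h13 : ∀ g : G, ∃ x ∈ H₁, ∃ y ∈ H₃, g = x * y)
    (hcop : H₂.index.Coprime H₃.index) : Group.IsSolvable G := by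
  exact main _ G H₁ H₂ H₃ rfl h₁ h₂ h₃ h12 h13 hcop

end Cfsg.Agent.S0019
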