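-- Statement S0020; proof by helper1.
import Cfsg.Statements.S0020
import Mathlib
import Cfsg.Agent.S0007
import Cfsg.Agent.Lib.Helper1_Hall

set_option autoImplicit false
open Pointwise
open Cfsg

namespace Cfsg.Agent.S0020

open Subgroup Cfsg.Agent.Lib.Helper1_Hall Cfsg.Agent.Lib.Helper1_Transport

universe u

section

variable {G : Type u} [Group G] [Finite G] [Group.IsSolvable G]

/-- Existence of Hall `q'`-subgroups (`q`-complements). -/
theorem exists_complement (q : ℕ) :
    ∃ K : Subgroup G, K.index = q ^ (Nat.card G).factorization q := by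
  by_cases hq : q.Prime
  · have hne : Nat.card G ≠ 0 := Nat.card_pos.ne'
    have hmn : Nat.card G = ordCompl[q] (Nat.card G) * ordProj[q] (Nat.card G) := by
      rw [mul_comm]; exact (Nat.ordProj_mul_ordCompl_eq_self _ q).symm
    have hcop : (ordCompl[q] (Nat.card G)).Coprime (ordProj[q] (Nat.card G)) :=
      (Nat.Coprime.pow_left _ (Nat.coprime_ordCompl hq hne)).symm
    obtain ⟨K, hK⟩ := hall_exists _ _ hmn hcop
    refine ⟨K, ?_⟩
    have h1 := K.card_mul_index
    rw [hK] at h1
    have hpos : 0 < ordCompl[q] (Nat.card G) := Nat.ordCompl_pos q hne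
    apply Nat.eq_of_mul_eq_mul_left hpos
    rw [h1, mul_comm]
    exact (Nat.ordProj_mul_ordCompl_eq_self _ q).symm
  · refine ⟨⊤, ?_⟩
    rw [index_top, Nat.factorization_eq_zero_of_not_prime _ hq, pow_zero]

/-- A chosen family of `q`-complements. -/
noncomputable def compl (G : Type u) [Group G] [Finite G] [Group.IsSolvable G] (q : ℕ) :
    Subgroup G :=
  (exists_complement (G := G) q).choose

theorem compl_index (q : ℕ) : (compl G q).index = q ^ (Nat.card G).factorization q :=
  (exists_complement (G := G) q).choose_spec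

/-- The index of an intersection of complements over a finite set of primes. -/
theorem index_inf_compl (s : Finset ℕ) (hs : ∀ q ∈ s, q.Prime) :
    (s.inf (compl G)).index = ∏ q ∈ s, q ^ (Nat.card G).factorization q := by
  classical
  induction s using Finset.induction_on with
  | empty => simp
  | insert a s ha ih =>
    have hs' : ∀ q ∈ s, q.Prime := fun q hq => hs q (Finset.mem_insert_of_mem hq)
    rw [Finset.inf_insert, Finset.prod_insert ha]
    have hcop : (compl G a).index.Coprime (s.inf (compl G)).index := by
      rw [ih hs', compl_index]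
      apply Nat.Coprime.prod_right
      intro q hq
      apply Nat.Coprime.pow
      have hne : a ≠ q := fun h => ha (h ▸ hq)
      exact (Nat.coprime_primes (hs a (Finset.mem_insert_self a s)) (hs' q hq)).mpr hne
    rw [(Cfsg.Agent.S0007.result _ _ hcop).1, ih hs', compl_index]

/-- The candidate Sylow `p`-subgroup: intersection of the `q`-complements for `q ≠ p`. -/
noncomputable def syl (G : Type u) [Group G] [Finite G] [Group.IsSolvable G] (p : ℕ) :
    Subgroup G :=
  (((Nat.card G).primeFactors).erase p).inf (compl G)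

omit [Group.IsSolvable G] in
theorem prime_of_mem_erase {p q : ℕ} (hq : q ∈ ((Nat.card G).primeFactors).erase p) : q.Prime :=
  Nat.prime_of_mem_primeFactors (Finset.mem_of_mem_erase hq)

theorem syl_index_mul (p : ℕ) :
    (syl G p).index * p ^ (Nat.card G).factorization p = Nat.card G := by
  have hne : Nat.card G ≠ 0 := Nat.card_pos.ne'
  rw [syl, index_inf_compl _ (fun q hq => prime_of_mem_erase hq)]
  by_cases hp : p ∈ (Nat.card G).primeFactors
  · rw [mul_comm, Finset.mul_prod_erase _ (fun q => q ^ (Nat.card G).factorization q) hp]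
    exact (Nat.prod_primeFactors_pow_factorization hne).symm
  · rw [Finset.erase_eq_of_notMem hp]
    have : (Nat.card G).factorization p = 0 := by
      rw [← Finsupp.notMem_support_iff, Nat.support_factorization]
      exact hp
    rw [this, pow_zero, mul_one]
    exact (Nat.prod_primeFactors_pow_factorization hne).symm

theorem syl_card (p : ℕ) : Nat.card (syl G p) = p ^ (Nat.card G).factorization p := by
  have h1 := (syl G p).index_mul_card
  have h2 := syl_index_mul (G := G) p
  have hpos : 0 < (syl G p).index := Nat.pos_of_ne_zero index_ne_zero_of_finite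
  apply Nat.eq_of_mul_eq_mul_left hpos
  rw [h1, h2]

/-- The intersection of the `r`-complements for `r ≠ p, q`. -/
noncomputable def syl2 (G : Type u) [Group G] [Finite G] [Group.IsSolvable G] (p q : ℕ) :
    Subgroup G :=
  ((((Nat.card G).primeFactors).erase p).erase q).inf (compl G)

theorem syl_le_syl2_left (p q : ℕ) : syl G p ≤ syl2 G p q :=
  Finset.inf_mono (Finset.erase_subset _ _)

theorem syl_le_syl2_right (p q : ℕ) : syl G q ≤ syl2 G p q := by
  apply Finset.inf_mono
  intro r hr
  rw [Finset.mem_erase] at hr ⊢
  exact ⟨hr.1, Finset.mem_of_mem_erase hr.2⟩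

theorem syl2_card (p q : ℕ) (hp : p.Prime) (hq : q.Prime) (hpq : p ≠ q) :
    Nat.card (syl2 G p q) =
      p ^ (Nat.card G).factorization p * q ^ (Nat.card G).factorization q := by
  have hne : Nat.card G ≠ 0 := Nat.card_pos.ne'
  have hidx : (syl2 G p q).index * (p ^ (Nat.card G).factorization p *
      q ^ (Nat.card G).factorization q) = Nat.card G := by
    rw [syl2, index_inf_compl _ (fun r hr => prime_of_mem_erase (Finset.mem_of_mem_erase hr))]
    have key : ∀ (t : Finset ℕ) (r : ℕ), (r ∈ t ∨ (Nat.card G).factorization r = 0) →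
        (∏ x ∈ t.erase r, x ^ (Nat.card G).factorization x) * r ^ (Nat.card G).factorization r =
          ∏ x ∈ t, x ^ (Nat.card G).factorization x := by
      intro t r hr
      by_cases hrt : r ∈ t
      · rw [mul_comm, Finset.mul_prod_erase _ (fun q => q ^ (Nat.card G).factorization q) hrt]
      · have h0 : (Nat.card G).factorization r = 0 := hr.resolve_left hrt
        rw [Finset.erase_eq_of_notMem hrt, h0, pow_zero, mul_one]
    have hmem : ∀ r : ℕ, r ∈ (Nat.card G).primeFactors ∨ (Nat.card G).factorization r = 0 := by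
      intro r
      by_cases hr : r ∈ (Nat.card G).primeFactors
      · exact Or.inl hr
      · right
        rw [← Finsupp.notMem_support_iff, Nat.support_factorization]
        exact hr
    have hq' : q ∈ ((Nat.card G).primeFactors).erase p ∨ (Nat.card G).factorization q = 0 := by
      rcases hmem q with h | h
      · exact Or.inl (Finset.mem_erase.mpr ⟨hpq.symm, h⟩)
      · exact Or.inr h
    rw [mul_comm (p ^ _) (q ^ _), ← mul_assoc, key _ q hq', key _ p (hmem p)]
    exact (Nat.prod_primeFactors_pow_factorization hne).symm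
  have h1 := (syl2 G p q).index_mul_card
  have hpos : 0 < (syl2 G p q).index := Nat.pos_of_ne_zero index_ne_zero_of_finite
  apply Nat.eq_of_mul_eq_mul_left hpos
  rw [h1, hidx]

/-- For distinct primes, every product `x * y` with `x ∈ syl p`, `y ∈ syl q` can be rewritten as
`y' * x'`. -/
theorem mul_subset (p q : ℕ) (hp : p.Prime) (hq : q.Prime) (hpq : p ≠ q) :
    (syl G p : Set G) * (syl G q : Set G) ⊆ (syl G q : Set G) * (syl G p : Set G) := by
  rintro _ ⟨x, hx, y, hy, rfl⟩
  have hxT : x ∈ syl2 G p q := syl_le_syl2_left p q hx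
  have hyT : y ∈ syl2 G p q := syl_le_syl2_right p q hy
  have hT := syl2_card (G := G) p q hp hq hpq
  -- indices inside `T`
  have hidx : ∀ (r : ℕ) (H : Subgroup G) (hH : H ≤ syl2 G p q) (m : ℕ),
      Nat.card H * m = Nat.card (syl2 G p q) → 0 < Nat.card H → (H.subgroupOf (syl2 G p q)).index = m := by
    intro r H hH m hm hpos
    have h1 := (H.subgroupOf (syl2 G p q)).card_mul_index
    rw [card_subgroupOf hH, ← hm] at h1
    exact Nat.eq_of_mul_eq_mul_left hpos h1
  have h1 := hidx 0 (syl G q) (syl_le_syl2_right p q) (p ^ (Nat.card G).factorization p)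
    (by rw [syl_card, hT, mul_comm]) Nat.card_pos
  have h2 := hidx 0 (syl G p) (syl_le_syl2_left p q) (q ^ (Nat.card G).factorization q)
    (by rw [syl_card, hT]) Nat.card_pos
  have hcop : ((syl G q).subgroupOf (syl2 G p q)).index.Coprime
      ((syl G p).subgroupOf (syl2 G p q)).index := by
    rw [h1, h2]
    exact Nat.Coprime.pow _ _ ((Nat.coprime_primes hp hq).mpr hpq)
  obtain ⟨y', hy', x', hx', hxy⟩ :=
    (Cfsg.Agent.S0007.result _ _ hcop).2 ⟨x * y, (syl2 G p q).mul_mem hxT hyT⟩
  refine ⟨y', hy', x', hx', ?_⟩
  have := congrArg Subtype.val hxy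
  exact this.symm

end

/-- A finite solvable group admits a Sylow system: Sylow subgroups, one for each prime, that pairwise permute as sets. -/
theorem result {G : Type*} [Group G] [Finite G] [Group.IsSolvable G] :
    ∃ S : (p : Nat.Primes) → Sylow (p : ℕ) G,
      ∀ p q : Nat.Primes, (S p : Set G) * (S q : Set G) = (S q : Set G) * (S p : Set G) := by
  refine ⟨fun p => haveI : Fact (p : ℕ).Prime := ⟨p.2⟩; Sylow.ofCard (syl G p) (syl_card (p : ℕ)), ?_⟩
  intro p q
  change (syl G p : Set G) * (syl G q : Set G) = (syl G q : Set G) * (syl G p : Set G)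
  by_cases hpq : (p : ℕ) = q
  · rw [hpq]
  · exact Set.Subset.antisymm (mul_subset p q p.2 q.2 hpq)
      (mul_subset q p q.2 p.2 (Ne.symm hpq))

end Cfsg.Agent.S0020
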