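import Cfsg.Statements.S0021
import Cfsg.Agent.S0006

set_option autoImplicit false
open Cfsg
open scoped Pointwise

namespace Cfsg.Agent.S0021

/-- The number of cosets of `K` met by `H` is `|H : H ∩ K|`. -/
theorem card_image_mk {G : Type*} [Group G] [Finite G] (H K : Subgroup G) :
    Nat.card ((H : Set G).image (QuotientGroup.mk : G → G ⧸ K)) = K.relIndex H := by
  have hstab : MulAction.stabilizer H ((1 : G) : G ⧸ K) = K.subgroupOf H := by
    ext a
    rw [MulAction.mem_stabilizer_iff, Subgroup.mem_subgroupOf]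
    show (((a : G) * 1 : G) : G ⧸ K) = ((1 : G) : G ⧸ K) ↔ _
    rw [QuotientGroup.eq]
    constructor
    · intro h1
      have : (a : G)⁻¹ ∈ K := by simpa using h1
      simpa using K.inv_mem this
    · intro h1
      simpa using K.inv_mem h1
  have himg : (H : Set G).image (QuotientGroup.mk : G → G ⧸ K) =
      MulAction.orbit H ((1 : G) : G ⧸ K) := by
    ext x
    constructor
    · rintro ⟨h, hh, rfl⟩
      refine ⟨⟨h, hh⟩, ?_⟩
      show (((h : G) * 1 : G) : G ⧸ K) = _
      rw [mul_one]
    · rintro ⟨a, rfl⟩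
      refine ⟨(a : G), a.2, ?_⟩
      show _ = (((a : G) * 1 : G) : G ⧸ K)
      rw [mul_one]
  rw [himg, Nat.card_coe_set_eq, ← MulAction.index_stabilizer, hstab]
  rfl

/-- Two permuting subgroups: their product set is a subgroup whose order divides the product
of the orders. -/
theorem permSup {G : Type*} [Group G] [Finite G] (H K : Subgroup G)
    (h : (H : Set G) * (K : Set G) = (K : Set G) * (H : Set G)) :
    ∃ J : Subgroup G, (J : Set G) = (H : Set G) * (K : Set G) ∧
      Nat.card J ∣ Nat.card H * Nat.card K := by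
  let J : Subgroup G :=
    { carrier := (H : Set G) * (K : Set G)
      one_mem' := ⟨1, H.one_mem, 1, K.one_mem, one_mul 1⟩
      mul_mem' := by
        rintro _ _ ⟨h₁, hh₁, k₁, hk₁, rfl⟩ ⟨h₂, hh₂, k₂, hk₂, rfl⟩
        have : k₁ * h₂ ∈ (H : Set G) * (K : Set G) := by
          rw [h]; exact ⟨k₁, hk₁, h₂, hh₂, rfl⟩
        obtain ⟨h₃, hh₃, k₃, hk₃, e0⟩ := this
        have e : h₃ * k₃ = k₁ * h₂ := e0
        refine ⟨h₁ * h₃, H.mul_mem hh₁ hh₃, k₃ * k₂, K.mul_mem hk₃ hk₂, ?_⟩
        show h₁ * h₃ * (k₃ * k₂) = h₁ * k₁ * (h₂ * k₂)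
        calc h₁ * h₃ * (k₃ * k₂) = h₁ * (h₃ * k₃) * k₂ := by group
          _ = h₁ * (k₁ * h₂) * k₂ := by rw [e]
          _ = h₁ * k₁ * (h₂ * k₂) := by group
      inv_mem' := by
        rintro _ ⟨h₁, hh₁, k₁, hk₁, rfl⟩
        show (h₁ * k₁)⁻¹ ∈ (H : Set G) * (K : Set G)
        rw [h, mul_inv_rev]
        exact ⟨k₁⁻¹, K.inv_mem hk₁, h₁⁻¹, H.inv_mem hh₁, rfl⟩ }
  refine ⟨J, rfl, ?_⟩
  have h1 : Nat.card J = Nat.card ((H : Set G) * (K : Set G) : Set G) := rfl
  rw [h1, Subgroup.card_mul_eq_card_subgroup_mul_card_quotient K (H : Set G), card_image_mk,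
    mul_comm]
  exact Nat.mul_dvd_mul_right (Subgroup.relIndex_dvd_card K H) _

/-- A finite group with a family of pairwise permuting Sylow subgroups, one for each prime, is solvable (this direction rests on Burnside's two-prime Theorem). -/
theorem result {G : Type*} [Group G] [Finite G]
    (S : (p : Nat.Primes) → Sylow (p : ℕ) G)
    (hS : ∀ p q : Nat.Primes, (S p : Set G) * (S q : Set G) = (S q : Set G) * (S p : Set G)) :
    Group.IsSolvable G := by
  classical
  -- joins of the `S q` over finite sets of primes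
  have key : ∀ F : Finset ℕ, ∃ J : Subgroup G,
      (∀ q : Nat.Primes, (q : ℕ) ∈ F → (S q : Subgroup G) ≤ J) ∧
      (∀ r : Nat.Primes, (J : Set G) * (S r : Set G) = (S r : Set G) * (J : Set G)) ∧
      (∀ p : ℕ, p.Prime → p ∣ Nat.card J → p ∈ F) := by
    intro F
    induction F using Finset.induction_on with
    | empty =>
      refine ⟨⊥, ?_, ?_, ?_⟩
      · intro q hq; simp at hq
      · intro r
        rw [Subgroup.coe_bot, Set.singleton_mul, Set.mul_singleton]
        simp
      · intro p hp hd
        rw [Subgroup.card_bot] at hd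
        exact absurd (Nat.dvd_one.mp hd) hp.one_lt.ne'
    | insert a F ha ih =>
      obtain ⟨J, hJ1, hJ2, hJ3⟩ := ih
      by_cases hap : a.Prime
      · set q : Nat.Primes := ⟨a, hap⟩ with hq
        obtain ⟨J', hJ'set, hJ'card⟩ := permSup (S q : Subgroup G) J (hJ2 q).symm
        refine ⟨J', ?_, ?_, ?_⟩
        · intro q' hq'
          rw [Finset.mem_insert] at hq'
          rcases hq' with h | h
          · have : q' = q := Subtype.ext h
            rw [this]
            intro x hx
            have : x ∈ (J' : Set G) := by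
              rw [hJ'set]; exact ⟨x, hx, 1, J.one_mem, mul_one x⟩
            exact this
          · intro x hx
            have : x ∈ (J' : Set G) := by
              rw [hJ'set]; exact ⟨1, (S q : Subgroup G).one_mem, x, hJ1 q' h hx, one_mul x⟩
            exact this
        · intro r
          rw [hJ'set]
          calc ((S q : Subgroup G) : Set G) * (J : Set G) * (S r : Set G)
              = (S q : Set G) * ((J : Set G) * (S r : Set G)) := mul_assoc _ _ _
            _ = (S q : Set G) * ((S r : Set G) * (J : Set G)) := by rw [hJ2 r]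
            _ = ((S q : Set G) * (S r : Set G)) * (J : Set G) := (mul_assoc _ _ _).symm
            _ = ((S r : Set G) * (S q : Set G)) * (J : Set G) := by rw [hS q r]
            _ = (S r : Set G) * (((S q : Subgroup G) : Set G) * (J : Set G)) := mul_assoc _ _ _
        · intro p hp hd
          rw [Finset.mem_insert]
          have h1 := hd.trans hJ'card
          rcases (Nat.Prime.dvd_mul hp).mp h1 with h | h
          · left
            have : Fact (q : ℕ).Prime := ⟨q.2⟩
            obtain ⟨k, hk⟩ := IsPGroup.iff_card.mp (S q).2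
            rw [hk] at h
            exact (Nat.prime_dvd_prime_iff_eq hp q.2).mp (hp.dvd_of_dvd_pow h)
          · right
            exact hJ3 p hp h
      · refine ⟨J, ?_, hJ2, ?_⟩
        · intro q' hq'
          rw [Finset.mem_insert] at hq'
          rcases hq' with h | h
          · exact absurd (h ▸ q'.2) hap
          · exact hJ1 q' h
        · intro p hp hd
          exact Finset.mem_insert_of_mem (hJ3 p hp hd)
  apply Cfsg.Agent.S0006.result
  intro p hp
  obtain ⟨J, hJ1, -, hJ3⟩ := key ((Nat.card G).primeFactors.erase p)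
  refine ⟨J, ?_⟩
  have hGpos : Nat.card G ≠ 0 := Nat.card_pos.ne'
  have hpJ : ¬ p ∣ Nat.card J := by
    intro hd
    have := hJ3 p hp hd
    simp at this
  have hidx0 : J.index ≠ 0 := Subgroup.index_ne_zero_of_finite
  -- the index of `J` is a power of `p`
  have hpow : ∃ b : ℕ, J.index = p ^ b := by
    refine ⟨_, Nat.eq_prime_pow_of_unique_prime_dvd hidx0 (p := p) ?_⟩
    intro q hq hqd
    by_contra hne
    have hqG : q ∣ Nat.card G := hqd.trans (Subgroup.index_dvd_card J)
    have hmem : q ∈ (Nat.card G).primeFactors.erase p := by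
      rw [Finset.mem_erase, Nat.mem_primeFactors]
      exact ⟨hne, hq, hqG, hGpos⟩
    have hle := hJ1 ⟨q, hq⟩ hmem
    have : Fact q.Prime := ⟨hq⟩
    have h1 : J.index ∣ (S ⟨q, hq⟩ : Subgroup G).index := Subgroup.index_dvd_of_le hle
    exact (S ⟨q, hq⟩).not_dvd_index (hqd.trans h1)
  obtain ⟨b, hb⟩ := hpow
  have h3 : Nat.card J * p ^ b = Nat.card G := by
    rw [← hb]; exact Subgroup.card_mul_index J
  rw [hb, Cfsg.Agent.S0006.factorization_of_eq hp _ b _ h3
    ((Nat.Prime.coprime_iff_not_dvd hp).mpr hpJ).symm]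

end Cfsg.Agent.S0021
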