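import Cfsg.Statements.S0028
import Cfsg.Agent.Lib.Helper24_Coprime

set_option autoImplicit false
open Cfsg
open Cfsg.Agent.Lib.Helper24_Coprime

namespace Cfsg.Agent.S0028

/-- Thompson's P × Q Lemma: let a p-subgroup P and a subgroup Q of order prime to p centralise each other and normalise a p-subgroup U; if every element of U fixed by P is fixed by Q, then Q centralises U. -/
theorem result {G : Type*} [Group G] [Finite G] (p : ℕ) [Fact p.Prime]
    (P Q U : Subgroup G) (hP : IsPGroup p P) (hQ : (Nat.card Q).Coprime p) (hU : IsPGroup p U)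
    (hPQ : P ≤ Subgroup.centralizer (Q : Set G))
    (hPU : P ≤ Subgroup.normalizer (U : Set G)) (hQU : Q ≤ Subgroup.normalizer (U : Set G))
    (hC : U ⊓ Subgroup.centralizer (P : Set G) ≤ Subgroup.centralizer (Q : Set G)) :
    Q ≤ Subgroup.centralizer (U : Set G) := by
  intro a ha
  have hap : (orderOf a).Coprime p :=
    Nat.Coprime.coprime_dvd_left (Subgroup.orderOf_dvd_natCard Q ha) hQ
  have hH : IsPGroup p (P ⊔ U : Subgroup G) := IsPGroup.to_sup_of_normal_right' hP hU hPU
  have hnil : Group.IsNilpotent (P ⊔ U : Subgroup G) := hH.isNilpotent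
  have hHU : ∀ h ∈ P ⊔ U, ∀ u ∈ U, h * u * h⁻¹ ∈ U := by
    intro h hh u hu
    have hle : P ⊔ U ≤ Subgroup.normalizer (U : Set G) := sup_le hPU Subgroup.le_normalizer
    exact (Subgroup.mem_normalizer_iff.mp (hle hh) u).mp hu
  have haU : ∀ x ∈ U, a * x * a⁻¹ ∈ U := fun x hx =>
    (Subgroup.mem_normalizer_iff.mp (hQU ha) x).mp hx
  have hcopU : (orderOf a).Coprime (Nat.card U) := by
    obtain ⟨k, hk⟩ := hU.exists_card_eq
    rw [hk]; exact Nat.Coprime.pow_right k hap
  have haB : ∀ b ∈ (P : Set G), a * b = b * a := by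
    intro b hb
    exact Subgroup.mem_centralizer_iff.mp (hPQ hb) a ha
  have hall := centralizes_of_nilpotent' (P ⊔ U) U hnil le_sup_right hHU a haU hcopU (P : Set G)
    (fun b hb => (le_sup_left : P ≤ P ⊔ U) hb) haB (by
      intro x hx hxP
      have hxC : x ∈ U ⊓ Subgroup.centralizer (P : Set G) := by
        refine ⟨hx, Subgroup.mem_centralizer_iff.mpr ?_⟩
        intro b hb
        exact (hxP b hb).symm
      exact Subgroup.mem_centralizer_iff.mp (hC hxC) a ha)
  refine Subgroup.mem_centralizer_iff.mpr ?_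
  intro u hu
  exact (hall u hu).symm

end Cfsg.Agent.S0028
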