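-- Statement S0031; proof by helper1.
import Cfsg.Statements.S0031
import Mathlib
import Cfsg.Agent.Lib.Helper1_Transport

set_option autoImplicit false
open Pointwise
open Cfsg

namespace Cfsg.Agent.S0031

open Cfsg.Agent.Lib.Helper1_Transport

/-- A fixed-point-free automorphism of a finite group maps some Sylow p-subgroup to itself. -/
theorem result {G : Type*} [Group G] [Finite G] (φ : G ≃* G)
    (hφ : MonoidHom.FixedPointFree (φ : G →* G)) (p : ℕ) [Fact p.Prime] :
    ∃ P : Sylow p G, (P : Subgroup G).map (φ : G →* G) = P := by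
  obtain ⟨P₀⟩ : Nonempty (Sylow p G) := inferInstance
  -- `φ P₀` is a Sylow subgroup, hence conjugate to `P₀`
  obtain ⟨g, hg⟩ := MulAction.exists_smul_eq G P₀ (φ • P₀)
  have hg' : MulAut.conj g • (P₀ : Subgroup G) = (P₀ : Subgroup G).map (φ : G →* G) := by
    have := congrArg (fun Q : Sylow p G => (Q : Subgroup G)) hg
    exact this
  -- choose `y` with `y * (φ y)⁻¹ = g⁻¹`
  obtain ⟨y, hy⟩ := hφ.commutatorMap_surjective g⁻¹
  rw [MonoidHom.commutatorMap_apply, div_eq_mul_inv] at hy
  refine ⟨y⁻¹ • P₀, ?_⟩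
  change (MulAut.conj y⁻¹ • (P₀ : Subgroup G)).map (φ : G →* G) = MulAut.conj y⁻¹ • (P₀ : Subgroup G)
  rw [map_conj_smul, ← hg', ← mul_smul, ← map_mul]
  have : (φ : G →* G) y⁻¹ * g = y⁻¹ := by
    have h1 : g = ((φ : G →* G) y) * y⁻¹ := by
      have := congrArg (·⁻¹) hy
      simpa using this.symm
    rw [h1, map_inv]; group
  rw [this]

end Cfsg.Agent.S0031
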