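-- Statement S0032; proof by helper1.
import Cfsg.Statements.S0032
import Mathlib

set_option autoImplicit false
open Pointwise
open Cfsg

namespace Cfsg.Agent.S0032

/-- If an automorphism of a finite group fixes only the identity and maps a normal subgroup N into itself, then the only cosets of N it fixes are those in N: a fixed coset xN forces x ∈ N. -/
theorem result {G : Type*} [Group G] [Finite G] (φ : G ≃* G)
    (hφ : MonoidHom.FixedPointFree (φ : G →* G)) (N : Subgroup G) [N.Normal] (hN : ∀ n ∈ N, φ n ∈ N)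
    (x : G) (hx : (φ x)⁻¹ * x ∈ N) : x ∈ N := by
  let f : N → N := fun n => ⟨(n : G) * (φ n)⁻¹, N.mul_mem n.2 (N.inv_mem (hN n n.2))⟩
  have hf : Function.Injective f := by
    intro n m hnm
    have h1 : (n : G) * (φ n)⁻¹ = (m : G) * (φ m)⁻¹ := congrArg Subtype.val hnm
    have h2 : φ ((m : G)⁻¹ * n) = (m : G)⁻¹ * n := by
      rw [map_mul, map_inv]
      have : (m : G)⁻¹ * n = (φ m)⁻¹ * φ n := by
        calc (m : G)⁻¹ * n = (m : G)⁻¹ * ((n : G) * (φ n)⁻¹) * φ n := by group
          _ = (m : G)⁻¹ * ((m : G) * (φ m)⁻¹) * φ n := by rw [h1]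
          _ = (φ m)⁻¹ * φ n := by group
      exact this.symm
    have h3 := hφ _ h2
    apply Subtype.ext
    exact (inv_mul_eq_one.mp h3).symm
  have hsurj : Function.Surjective f := Finite.surjective_of_injective hf
  have hx' : x⁻¹ * φ x ∈ N := by
    have := N.inv_mem hx
    simpa using this
  obtain ⟨n, hn⟩ := hsurj ⟨x⁻¹ * φ x, hx'⟩
  have h1 : (n : G) * (φ n)⁻¹ = x⁻¹ * φ x := congrArg Subtype.val hn
  have h2 : φ (x * n) = x * n := by
    rw [map_mul]
    calc φ x * φ n = x * (x⁻¹ * φ x) * φ n := by group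
      _ = x * ((n : G) * (φ n)⁻¹) * φ n := by rw [h1]
      _ = x * n := by group
  have h3 := hφ _ h2
  have h4 : x = (n : G)⁻¹ := eq_inv_of_mul_eq_one_left h3
  rw [h4]
  exact N.inv_mem n.2

end Cfsg.Agent.S0032
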