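import Cfsg.Statements.S0034
import Cfsg.Agent.Lib.Helper71_FrobCount

set_option autoImplicit false
open Cfsg

namespace Cfsg.Agent.S0034

theorem result {G : Type*} [Group G] [Finite G] (H : Subgroup G) (hH : Cfsg.IsFrobeniusComplement H) :
    Nat.card (Cfsg.frobeniusKernel H) = H.index ∧ H.index % Nat.card H = 1 % Nat.card H :=
  ⟨Cfsg.Agent.Lib.Helper71_FrobCount.card_frobeniusKernel H hH,
    Cfsg.Agent.Lib.Helper71_FrobCount.index_mod_card H hH⟩

end Cfsg.Agent.S0034
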