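import Cfsg.Statements.S0037
import Cfsg.Agent.Lib.Helper61_FrobConj

set_option autoImplicit false
open Pointwise
open Cfsg

namespace Cfsg.Agent.S0037

open Cfsg.Agent.Lib.Helper61_FrobConj Cfsg.Agent.Lib.Helper71_Frobenius
  Cfsg.Agent.Lib.Helper71_FrobCount

/-- A non-identity element of the smaller Frobenius complement `H₀` cannot lie in the Frobenius
kernel of `H`: its `[G : H₀]` conjugates under coset representatives would be distinct non-identity
elements of the kernel, which has only `[G : H] ≤ [G : H₀]` elements. -/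
theorem not_mem_kernel {G : Type*} [Group G] [Finite G] (H H₀ : Subgroup G)
    (hH : Cfsg.IsFrobeniusComplement H) (hH₀ : Cfsg.IsFrobeniusComplement H₀)
    (hle : Nat.card H₀ ≤ Nat.card H) (u : G) (hu : u ∈ H₀) (hu1 : u ≠ 1) :
    u ∉ Cfsg.frobeniusKernel H := by
  intro huK
  have huK' : ∀ g : G, u ∉ MulAut.conj g • H := by
    rcases huK with h | h
    · exact absurd h hu1
    · exact h
  have hmemK : ∀ t : G, t * u * t⁻¹ ∈ Cfsg.frobeniusKernel H := by
    intro t
    right
    intro g hg
    apply huK' (t⁻¹ * g)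
    rw [mem_conj_smul] at hg ⊢
    have : (t⁻¹ * g)⁻¹ * u * (t⁻¹ * g) = g⁻¹ * (t * u * t⁻¹) * g := by group
    rw [this]; exact hg
  let j : Option (G ⧸ H₀) → Cfsg.frobeniusKernel H := fun o =>
    match o with
    | none => ⟨1, one_mem_frobeniusKernel H⟩
    | some q => ⟨q.out * u * q.out⁻¹, hmemK q.out⟩
  have conj_ne : ∀ t : G, t * u * t⁻¹ ≠ 1 := by
    intro t h
    apply hu1
    have : u = t⁻¹ * (t * u * t⁻¹) * t := by group
    rw [this, h]; group
  have hj : Function.Injective j := by
    intro o o' h
    rcases o with _ | q <;> rcases o' with _ | q'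
    · rfl
    · exfalso
      have := congrArg Subtype.val h
      exact conj_ne _ this.symm
    · exfalso
      have := congrArg Subtype.val h
      exact conj_ne _ this
    · have h' : q.out * u * q.out⁻¹ = q'.out * u * q'.out⁻¹ := congrArg Subtype.val h
      have hmem : q'.out⁻¹ * q.out ∈ H₀ := by
        by_contra hnot
        have hbot := hH₀.2.2 _ hnot
        have : u ∈ H₀ ⊓ MulAut.conj (q'.out⁻¹ * q.out) • H₀ := by
          refine Subgroup.mem_inf.2 ⟨hu, ?_⟩
          rw [mem_conj_smul]
          have e : (q'.out⁻¹ * q.out)⁻¹ * u * (q'.out⁻¹ * q.out) =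
              q.out⁻¹ * (q'.out * u * q'.out⁻¹) * q.out := by
            group
          have e2 : q.out⁻¹ * (q'.out * u * q'.out⁻¹) * q.out = u := by
            rw [← h']; group
          rw [e, e2]; exact hu
        rw [hbot, Subgroup.mem_bot] at this
        exact hu1 this
      have : (q'.out : G ⧸ H₀) = (q.out : G ⧸ H₀) := QuotientGroup.eq.2 hmem
      rw [QuotientGroup.out_eq', QuotientGroup.out_eq'] at this
      rw [this]
  have hcard := Nat.card_le_card_of_injective j hj
  rw [card_frobeniusKernel H hH, Finite.card_option, ← Subgroup.index_eq_card] at hcard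
  have h1 := Subgroup.index_mul_card H
  have h2 := Subgroup.index_mul_card H₀
  have hpos : 0 < Nat.card H₀ := Nat.card_pos
  have h3 : H.index * Nat.card H₀ ≤ H₀.index * Nat.card H₀ := by
    rw [h2, ← h1]
    exact Nat.mul_le_mul_left _ hle
  have h4 : H.index ≤ H₀.index := Nat.le_of_mul_le_mul_right h3 hpos
  omega

/-- Of two Frobenius complements in one finite group, the one of smaller (or equal) order is conjugate to a subgroup of the other. -/
theorem result {G : Type*} [Group G] [Finite G] (H H₀ : Subgroup G)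
    (hH : Cfsg.IsFrobeniusComplement H) (hH₀ : Cfsg.IsFrobeniusComplement H₀) (hle : Nat.card H₀ ≤ Nat.card H) :
    ∃ g : G, MulAut.conj g • H₀ ≤ H := by
  have hfix : ∀ u ∈ H₀, u ≠ 1 → ∃ a : G ⧸ H, u • a = a := by
    intro u hu hu1
    have h := not_mem_kernel H H₀ hH hH₀ hle u hu hu1
    rw [mem_frobeniusKernel_iff, not_or] at h
    obtain ⟨-, h⟩ := h
    push Not at h
    exact h
  obtain ⟨x, hx⟩ := le_conj_of_forall_fixed H hH H₀ hfix
  refine ⟨x⁻¹, fun y hy => ?_⟩
  rw [mem_conj_smul, inv_inv] at hy
  have h1 := hx hy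
  rw [mem_conj_smul] at h1
  have : x⁻¹ * (x * y * x⁻¹) * x = y := by group
  rw [this] at h1
  exact h1

end Cfsg.Agent.S0037
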