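import Cfsg.Statements.S0038
import Mathlib
import Cfsg.Agent.Lib.Helper1_FPF
import Cfsg.Agent.Lib.Helper1_Coprime
import Cfsg.Agent.Lib.Helper1_Glauberman
import Cfsg.Agent.Lib.Helper1_Transport
import Cfsg.Agent.Lib.Helper6_Frobenius
import Cfsg.Agent.Lib.Helper71_Frobenius
import Cfsg.Agent.S0037
import Cfsg.Agent.S0144

set_option autoImplicit false
open Pointwise
open Cfsg

namespace Cfsg.Agent.S0038

open Subgroup
open Cfsg.Agent.Lib.Helper1_FPF Cfsg.Agent.Lib.Helper1_Transport Cfsg.Agent.Lib.Helper1_Coprime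
  Cfsg.Agent.Lib.Helper1_Glauberman

section

variable {G : Type*} [Group G]

/-- A Frobenius complement acts fixed-point-freely on any subgroup meeting it trivially. -/
theorem fpf_of_inf_eq_bot (H N : Subgroup G) (hH : Cfsg.IsFrobeniusComplement H)
    (hd : N ⊓ H = ⊥) : ∀ h ∈ H, h ≠ 1 → N ⊓ centralizer {h} = ⊥ := by
  intro h hh h1
  rw [eq_bot_iff]
  intro n hn
  rw [mem_inf, mem_centralizer_singleton_iff] at hn
  rw [mem_bot]
  by_contra hn1
  have hnH : n ∉ H := fun hnH => hn1 (by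
    have h2 : n ∈ N ⊓ H := mem_inf.mpr ⟨hn.1, hnH⟩
    rwa [hd, mem_bot] at h2)
  have h2 := hH.2.2 n hnH
  have h3 : h ∈ H ⊓ MulAut.conj n • H := by
    refine mem_inf.mpr ⟨hh, ?_⟩
    rw [mem_conj_smul_iff]
    have h4 : n⁻¹ * h * n = h := by
      rw [mul_assoc, ← hn.2]; group
    rw [h4]; exact hh
  rw [h2, mem_bot] at h3
  exact h1 h3

/-- The normalizer of `R` normalizes the centre `R ⊓ C(R)` of `R`. -/
theorem normalizer_le_normalizer_inf_centralizer (R : Subgroup G) :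
    normalizer (R : Set G) ≤ normalizer ((R ⊓ centralizer (R : Set G) : Subgroup G) : Set G) := by
  have key : ∀ a ∈ normalizer (R : Set G), ∀ x ∈ R ⊓ centralizer (R : Set G),
      a * x * a⁻¹ ∈ R ⊓ centralizer (R : Set G) := by
    intro a ha x hx
    rw [mem_inf] at hx
    refine mem_inf.mpr ⟨(mem_normalizer_iff.mp ha x).mp hx.1, ?_⟩
    rw [mem_centralizer_iff]
    intro t ht
    have ht' : a⁻¹ * t * a ∈ R := by
      have h1 := (mem_normalizer_iff.mp (inv_mem ha) t).mp ht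
      simpa using h1
    have hc := (mem_centralizer_iff.mp hx.2) (a⁻¹ * t * a) ht'
    calc t * (a * x * a⁻¹) = a * ((a⁻¹ * t * a) * x) * a⁻¹ := by group
      _ = a * (x * (a⁻¹ * t * a)) * a⁻¹ := by rw [hc]
      _ = a * x * a⁻¹ * t := by group
  intro a ha
  rw [mem_normalizer_iff]
  intro x
  constructor
  · exact key a ha x
  · intro hx
    have h1 := key a⁻¹ (inv_mem ha) _ hx
    have h2 : a⁻¹ * (a * x * a⁻¹) * a⁻¹⁻¹ = x := by group
    rwa [h2] at h1


variable [Finite G]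

/-- A Frobenius complement contained in another one equals it. -/
theorem eq_of_le (H H₀ : Subgroup G) (hH : Cfsg.IsFrobeniusComplement H)
    (hH₀ : Cfsg.IsFrobeniusComplement H₀) (hle : H₀ ≤ H) : H₀ = H := by
  by_contra hne
  obtain ⟨N, -, hNn, hNc⟩ := Cfsg.Agent.Lib.Helper6_Frobenius.exists_kernel H hH
  obtain ⟨N₀, -, hN₀n, hN₀c⟩ := Cfsg.Agent.Lib.Helper6_Frobenius.exists_kernel H₀ hH₀
  have hdN : N ⊓ H = ⊥ := hNc.disjoint.eq_bot
  have hdN₀ : N₀ ⊓ H₀ = ⊥ := hN₀c.disjoint.eq_bot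
  have hfpfN := fpf_of_inf_eq_bot H N hH hdN
  have hfpfN₀ := fpf_of_inf_eq_bot H₀ N₀ hH₀ hdN₀
  set M := N₀ ⊓ H with hM
  have hMH : M ≤ H := inf_le_right
  have hMne : M ≠ ⊥ := by
    intro hMbot
    apply hne
    apply le_antisymm hle
    intro h hh
    obtain ⟨⟨n, h₀⟩, hnh⟩ := hN₀c.2 h
    have hnh' : (n : G) * (h₀ : G) = h := hnh
    have hn : (n : G) ∈ M := by
      refine mem_inf.mpr ⟨n.2, ?_⟩
      have h1 : (n : G) = h * (h₀ : G)⁻¹ := by rw [← hnh']; group
      rw [h1]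
      exact H.mul_mem hh (H.inv_mem (hle h₀.2))
    rw [hMbot, mem_bot] at hn
    rw [← hnh', hn, one_mul]
    exact h₀.2
  have hH₀M : H₀ ≤ normalizer (M : Set G) := by
    intro h hh
    rw [mem_normalizer_iff]
    intro x
    simp only [hM, mem_inf]
    constructor
    · rintro ⟨h1, h2⟩
      exact ⟨hN₀n.conj_mem x h1 h, H.mul_mem (H.mul_mem (hle hh) h2) (H.inv_mem (hle hh))⟩
    · rintro ⟨h1, h2⟩
      refine ⟨?_, ?_⟩
      · have h3 := hN₀n.conj_mem _ h1 h⁻¹
        have h4 : h⁻¹ * (h * x * h⁻¹) * h⁻¹⁻¹ = x := by group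
        rwa [h4] at h3
      · have h3 := H.mul_mem (H.mul_mem (H.inv_mem (hle hh)) h2) (hle hh)
        have h4 : h⁻¹ * (h * x * h⁻¹) * h = x := by group
        rwa [h4] at h3
  -- an element `y` of prime order `q` in `H₀`
  obtain ⟨q, hq, hqd⟩ := Nat.exists_prime_and_dvd (n := Nat.card H₀)
    (fun h => hH₀.1 (card_eq_one.mp h))
  have : Fact q.Prime := ⟨hq⟩
  obtain ⟨y', hy'⟩ := exists_prime_orderOf_dvd_card' q hqd
  obtain ⟨y, hyH₀⟩ := y'
  have hyord : orderOf y = q := by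
    rw [← hy', Subgroup.orderOf_mk]
  have hy1 : y ≠ 1 := by
    intro h
    rw [h, orderOf_one] at hyord
    exact hq.ne_one hyord.symm
  set A₀ := zpowers y with hA₀
  have hA₀H₀ : A₀ ≤ H₀ := zpowers_le.mpr hyH₀
  have hA₀M : A₀ ≤ normalizer (M : Set G) := hA₀H₀.trans hH₀M
  have hfpfM : ∀ a ∈ A₀, a ≠ 1 → M ⊓ centralizer {a} = ⊥ := by
    intro a ha ha1
    rw [eq_bot_iff, ← hfpfN₀ a (hA₀H₀ ha) ha1]
    exact inf_le_inf_right _ inf_le_left
  have hcardA₀ : Nat.card A₀ = q := by rw [Nat.card_zpowers, hyord]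
  have hqM : ¬ q ∣ Nat.card M := not_dvd_card_of_fpf A₀ M hA₀M hfpfM (by rw [hcardA₀])
  have hcop : (Nat.card A₀).Coprime (Nat.card M) := by
    rw [hcardA₀]; exact (Nat.Prime.coprime_iff_not_dvd hq).mpr hqM
  -- a prime `p` dividing `|M|` and a `y`-invariant Sylow `p`-subgroup
  obtain ⟨p, hp, hpd⟩ := Nat.exists_prime_and_dvd (n := Nat.card M)
    (fun h => hMne (card_eq_one.mp h))
  have : Fact p.Prime := ⟨hp⟩
  have hpq : p ≠ q := fun h => hqM (h ▸ hpd)
  have hA₀solv : Group.IsSolvable A₀ := Group.isSolvable_of_comm (fun a b => mul_comm' a b)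
  obtain ⟨P, hP⟩ := exists_invariant_sylow A₀ M hA₀M hcop (Or.inl hA₀solv) p
  set P' := (P : Subgroup M).map M.subtype with hP'
  have hP'M : P' ≤ M := by
    rintro _ ⟨x, _, rfl⟩
    exact x.2
  have hP'p : IsPGroup p P' := P.isPGroup'.map _
  have hpP : p ∣ Nat.card P := P.dvd_card_of_dvd_card hpd
  obtain ⟨v', hv'⟩ := exists_prime_orderOf_dvd_card' p hpP
  set v : G := ((v' : M) : G) with hv
  have hvord : orderOf v = p := by
    rw [hv, Subgroup.orderOf_coe, Subgroup.orderOf_coe]; exact hv'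
  have hvP' : v ∈ P' := ⟨(v' : M), v'.2, rfl⟩
  set V := zpowers v with hV
  have hVP' : V ≤ P' := zpowers_le.mpr hvP'
  have hcardV : Nat.card V = p := by rw [Nat.card_zpowers, hvord]
  have hHN : H ≤ normalizer (N : Set G) := by
    rw [normalizer_eq_top]; exact le_top
  have hNne : N ≠ ⊥ := by
    intro hNbot
    rw [hNbot] at hNc
    exact hH.2.1 (isComplement'_bot_left.mp hNc)
  -- `y` normalizes `V`
  have hyV : y ∈ normalizer (V : Set G) := by
    rw [← conj_smul_eq_self_iff]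
    have hyP' : MulAut.conj y • P' = P' :=
      (conj_smul_eq_self_iff y P').mpr (hP (mem_zpowers y))
    apply unique_subgroup_card_prime N H hHN hNne hfpfN P' (hP'M.trans hMH) hP'p _ _ ?_ hVP' ?_
      hcardV
    · rw [← hyP']; exact pointwise_smul_le_pointwise_smul_iff.mpr hVP'
    · rw [card_conj_smul, hcardV]
  have hA₀V : A₀ ≤ normalizer (V : Set G) := zpowers_le.mpr hyV
  have hinf : A₀ ⊓ V = ⊥ := by
    rw [← card_eq_one]
    have h1 : Nat.card (A₀ ⊓ V : Subgroup G) ∣ q := hcardA₀ ▸ card_dvd_of_le inf_le_left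
    have h2 : Nat.card (A₀ ⊓ V : Subgroup G) ∣ p := hcardV ▸ card_dvd_of_le inf_le_right
    have h3 := Nat.dvd_gcd h2 h1
    rw [(Nat.coprime_primes hp hq).mpr hpq] at h3
    exact Nat.dvd_one.mp h3
  set F₁ := A₀ ⊔ V with hF₁
  have hcardF₁ : Nat.card F₁ = q * p := by
    rw [card_sup_of_le_normalizer A₀ V hA₀V hinf, hcardA₀, hcardV]
  have hF₁H : F₁ ≤ H := sup_le (hA₀H₀.trans hle) (hVP'.trans (hP'M.trans hMH))
  have hF₁solv : Group.IsSolvable F₁ :=
    Cfsg.Agent.S0144.result q p 1 1 hq hp (by rw [hcardF₁]; ring)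
  have hfpfF₁ : ∀ a ∈ F₁, a ≠ 1 → N ⊓ centralizer {a} = ⊥ := fun a ha => hfpfN a (hF₁H ha)
  have hF₁N : F₁ ≤ normalizer (N : Set G) := hF₁H.trans hHN
  have hcopF : (Nat.card F₁).Coprime (Nat.card N) := by
    rw [hcardF₁]
    apply Nat.Coprime.mul_left
    · exact (Nat.Prime.coprime_iff_not_dvd hq).mpr
        (not_dvd_card_of_fpf F₁ N hF₁N hfpfF₁ (by rw [hcardF₁]; exact dvd_mul_right q p))
    · exact (Nat.Prime.coprime_iff_not_dvd hp).mpr
        (not_dvd_card_of_fpf F₁ N hF₁N hfpfF₁ (by rw [hcardF₁]; exact dvd_mul_left p q))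
  -- an `F₁`-invariant Sylow subgroup of `N` and its centre
  obtain ⟨r, hr, hrd⟩ := Nat.exists_prime_and_dvd (n := Nat.card N)
    (fun h => hNne (card_eq_one.mp h))
  have : Fact r.Prime := ⟨hr⟩
  obtain ⟨R, hR⟩ := exists_invariant_sylow F₁ N hF₁N hcopF (Or.inl hF₁solv) r
  set R' := (R : Subgroup N).map N.subtype with hR'
  have hR'N : R' ≤ N := by
    rintro _ ⟨x, _, rfl⟩
    exact x.2
  have hR'r : IsPGroup r R' := R.isPGroup'.map _
  set W := R' ⊓ centralizer (R' : Set G) with hW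
  have hWN : W ≤ N := inf_le_left.trans hR'N
  have hWcomm : IsMulCommutative W := by
    refine ⟨⟨fun a b => Subtype.ext ?_⟩⟩
    have ha : (a : G) ∈ R' ⊓ centralizer (R' : Set G) := a.2
    have hb : (b : G) ∈ R' ⊓ centralizer (R' : Set G) := b.2
    rw [mem_inf] at ha hb
    exact mem_centralizer_iff.mp hb.2 a ha.1
  have hWne : W ≠ ⊥ := by
    have hrR : r ∣ Nat.card R := R.dvd_card_of_dvd_card hrd
    have hR'card : Nat.card R' = Nat.card R :=
      Nat.card_congr ((R : Subgroup N).equivMapOfInjective N.subtype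
        (subtype_injective N)).symm.toEquiv
    have hnt : Nontrivial R' := by
      rw [← Finite.one_lt_card_iff_nontrivial, hR'card]
      exact lt_of_lt_of_le hr.one_lt (Nat.le_of_dvd Nat.card_pos hrR)
    have hcnt : Nontrivial (Subgroup.center R') := hR'r.center_nontrivial
    obtain ⟨z, hz⟩ := exists_ne (1 : Subgroup.center R')
    intro hWbot
    have hzW : ((z : R') : G) ∈ W := by
      refine mem_inf.mpr ⟨(z : R').2, ?_⟩
      rw [mem_centralizer_iff]
      intro t ht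
      have h1 := Subgroup.mem_center_iff.mp z.2 ⟨t, ht⟩
      exact congrArg Subtype.val h1
    rw [hWbot, mem_bot] at hzW
    exact hz (Subtype.ext (Subtype.ext hzW))
  have hF₁W : F₁ ≤ normalizer (W : Set G) := hR.trans (normalizer_le_normalizer_inf_centralizer R')
  have hfpfW : ∀ a ∈ F₁, a ≠ 1 → W ⊓ centralizer {a} = ⊥ := by
    intro a ha ha1
    rw [eq_bot_iff, ← hfpfF₁ a ha ha1]
    exact inf_le_inf_right _ hWN
  have hcyc : IsCyclic F₁ := isCyclic_of_fpf_of_card F₁ W hWne hF₁W hfpfW hq hp hcardF₁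
  -- contradiction: `y` and `v` commute
  have hyF : y ∈ F₁ := (le_sup_left : A₀ ≤ F₁) (mem_zpowers y)
  have hvF : v ∈ F₁ := (le_sup_right : V ≤ F₁) (mem_zpowers v)
  have hcomm : v * y = y * v := by
    have h1 := hcyc.commGroup.mul_comm (⟨v, hvF⟩ : F₁) ⟨y, hyF⟩
    exact congrArg Subtype.val h1
  have hvM : v ∈ M ⊓ centralizer {y} := by
    refine mem_inf.mpr ⟨hP'M hvP', ?_⟩
    rw [mem_centralizer_singleton_iff]
    exact hcomm
  rw [hfpfM y (mem_zpowers y) hy1, mem_bot] at hvM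
  rw [hvM, orderOf_one] at hvord
  exact hp.ne_one hvord.symm

end

/-- All Frobenius complements of a finite group are conjugate to one another. -/
theorem result {G : Type*} [Group G] [Finite G] (H H₀ : Subgroup G)
    (hH : Cfsg.IsFrobeniusComplement H) (hH₀ : Cfsg.IsFrobeniusComplement H₀) :
    ∃ g : G, MulAut.conj g • H₀ = H := by
  have hconj : ∀ (K : Subgroup G) (g : G), Cfsg.IsFrobeniusComplement K →
      Cfsg.IsFrobeniusComplement (MulAut.conj g • K) := by
    intro K g hK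
    exact Cfsg.Agent.Lib.Helper71_Frobenius.isFrobeniusComplement_map_equiv (MulAut.conj g) K hK
  rcases le_total (Nat.card H₀) (Nat.card H) with hle | hle
  · obtain ⟨g, hg⟩ := Cfsg.Agent.S0037.result H H₀ hH hH₀ hle
    exact ⟨g, eq_of_le H _ hH (hconj H₀ g hH₀) hg⟩
  · obtain ⟨g, hg⟩ := Cfsg.Agent.S0037.result H₀ H hH₀ hH hle
    have h1 := eq_of_le H₀ _ hH₀ (hconj H g hH) hg
    refine ⟨g⁻¹, ?_⟩
    rw [← h1, ← mul_smul, ← map_mul, inv_mul_cancel, map_one, one_smul]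

end Cfsg.Agent.S0038
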