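import Cfsg.Statements.S0047
import Mathlib
-- import your own Cfsg.Agent.* helpers here

set_option autoImplicit false
open Cfsg

namespace Cfsg.Agent.S0047

open scoped commutatorElement

/-- A finite group which is the product AB of two abelian subgroups A and B is solvable. -/
theorem result {G : Type*} [Group G] [Finite G] (A B : Subgroup G)
    [IsMulCommutative A] [IsMulCommutative B] (hAB : ∀ g : G, ∃ a ∈ A, ∃ b ∈ B, g = a * b) :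
    Group.IsSolvable G := by
  classical
  -- commutativity inside A and B
  have hAc : ∀ x ∈ A, ∀ y ∈ A, x * y = y * x := by
    intro x hx y hy
    have := mul_comm' (⟨x, hx⟩ : A) ⟨y, hy⟩
    exact congrArg Subtype.val this
  have hBc : ∀ x ∈ B, ∀ y ∈ B, x * y = y * x := by
    intro x hx y hy
    have := mul_comm' (⟨x, hx⟩ : B) ⟨y, hy⟩
    exact congrArg Subtype.val this
  -- G = BA as well
  have hBA : ∀ g : G, ∃ b ∈ B, ∃ a ∈ A, g = b * a := by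
    intro g
    obtain ⟨a, ha, b, hb, h⟩ := hAB g⁻¹
    refine ⟨b⁻¹, B.inv_mem hb, a⁻¹, A.inv_mem ha, ?_⟩
    rw [← mul_inv_rev, ← h, inv_inv]
  -- the generating set of commutators
  set X : Set G := {x | ∃ a ∈ A, ∃ b ∈ B, x = ⁅a, b⁆} with hX
  -- conjugation by elements of A
  have hconjA : ∀ a1 ∈ A, ∀ a ∈ A, ∀ b ∈ B, ∃ b2 ∈ B, a1 * ⁅a, b⁆ * a1⁻¹ = ⁅a, b2⁆ ∧
      ∃ a2 ∈ A, a1 * b * a1⁻¹ = b2 * a2 := by
    intro a1 ha1 a ha b hb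
    obtain ⟨b2, hb2, a2, ha2, h⟩ := hBA (a1 * b * a1⁻¹)
    refine ⟨b2, hb2, ?_, a2, ha2, h⟩
    have e1 : a1 * ⁅a, b⁆ * a1⁻¹ = ⁅a1 * a * a1⁻¹, a1 * b * a1⁻¹⁆ := by
      simp only [commutatorElement_def]; group
    have e2 : a1 * a * a1⁻¹ = a := by
      rw [hAc a1 ha1 a ha, mul_inv_cancel_right]
    rw [e1, e2, h]
    simp only [commutatorElement_def, mul_inv_rev]
    have e3 : a2 * a⁻¹ * a2⁻¹ = a⁻¹ := by
      rw [hAc a2 ha2 a⁻¹ (A.inv_mem ha), mul_inv_cancel_right]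
    calc a * (b2 * a2) * a⁻¹ * (a2⁻¹ * b2⁻¹) = a * b2 * (a2 * a⁻¹ * a2⁻¹) * b2⁻¹ := by group
      _ = a * b2 * a⁻¹ * b2⁻¹ := by rw [e3]
  -- conjugation by elements of B
  have hconjB : ∀ b1 ∈ B, ∀ a ∈ A, ∀ b ∈ B, ∃ a3 ∈ A, b1 * ⁅a, b⁆ * b1⁻¹ = ⁅a3, b⁆ ∧
      ∃ b3 ∈ B, b1 * a * b1⁻¹ = a3 * b3 := by
    intro b1 hb1 a ha b hb
    obtain ⟨a3, ha3, b3, hb3, h⟩ := hAB (b1 * a * b1⁻¹)
    refine ⟨a3, ha3, ?_, b3, hb3, h⟩
    have e1 : b1 * ⁅a, b⁆ * b1⁻¹ = ⁅b1 * a * b1⁻¹, b1 * b * b1⁻¹⁆ := by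
      simp only [commutatorElement_def]; group
    have e2 : b1 * b * b1⁻¹ = b := by
      rw [hBc b1 hb1 b hb, mul_inv_cancel_right]
    rw [e1, e2, h]
    simp only [commutatorElement_def, mul_inv_rev]
    have e3 : b3 * b * b3⁻¹ = b := by
      rw [hBc b3 hb3 b hb, mul_inv_cancel_right]
    calc a3 * b3 * b * (b3⁻¹ * a3⁻¹) * b⁻¹ = a3 * (b3 * b * b3⁻¹) * a3⁻¹ * b⁻¹ := by group
      _ = a3 * b * a3⁻¹ * b⁻¹ := by rw [e3]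
  -- X is closed under conjugation
  have hXconj : ∀ g : G, ∀ x ∈ X, g * x * g⁻¹ ∈ X := by
    intro g x hx
    obtain ⟨a, ha, b, hb, rfl⟩ := hx
    obtain ⟨a1, ha1, b1, hb1, rfl⟩ := hAB g
    obtain ⟨a3, ha3, h3, -⟩ := hconjB b1 hb1 a ha b hb
    obtain ⟨b2, hb2, h2, -⟩ := hconjA a1 ha1 a3 ha3 b hb
    refine ⟨a3, ha3, b2, hb2, ?_⟩
    rw [← h2, ← h3]; group
  set N : Subgroup G := Subgroup.closure X with hN
  have hNnormal : N.Normal := by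
    constructor
    intro n hn g
    induction hn using Subgroup.closure_induction with
    | mem x hx => exact Subgroup.subset_closure (hXconj g x hx)
    | one => simp
    | mul x y _ _ hx hy =>
      have : g * (x * y) * g⁻¹ = (g * x * g⁻¹) * (g * y * g⁻¹) := by group
      rw [this]; exact N.mul_mem hx hy
    | inv x _ hx =>
      have : g * x⁻¹ * g⁻¹ = (g * x * g⁻¹)⁻¹ := by group
      rw [this]; exact N.inv_mem hx
  -- elements of X commute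
  have hXcomm : ∀ x ∈ X, ∀ y ∈ X, x * y = y * x := by
    intro x hx y hy
    obtain ⟨a, ha, b, hb, rfl⟩ := hx
    obtain ⟨a1, ha1, b1, hb1, rfl⟩ := hy
    -- use inverses a1⁻¹, b1⁻¹
    have ha1' := A.inv_mem ha1
    have hb1' := B.inv_mem hb1
    -- c_{a1⁻¹} c_{b1⁻¹} x = c_{b1⁻¹} c_{a1⁻¹} x
    obtain ⟨a3, ha3, h3, b3, hb3, h3'⟩ := hconjB b1⁻¹ hb1' a ha b hb
    obtain ⟨b2, hb2, h2, a2, ha2, h2'⟩ := hconjA a1⁻¹ ha1' a ha b hb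
    -- c_{a1⁻¹} ⁅a3, b⁆ = ⁅a3, b2'⟆ where a1⁻¹ b a1 = b2' a2'
    obtain ⟨b2', hb2', h4, a2', ha2', h4'⟩ := hconjA a1⁻¹ ha1' a3 ha3 b hb
    obtain ⟨a3', ha3', h5, b3', hb3', h5'⟩ := hconjB b1⁻¹ hb1' a ha b2 hb2
    -- the decompositions need not agree, so compare through the actual conjugates
    have key : a1⁻¹ * (b1⁻¹ * ⁅a, b⁆ * b1⁻¹⁻¹) * a1⁻¹⁻¹ = b1⁻¹ * (a1⁻¹ * ⁅a, b⁆ * a1⁻¹⁻¹) * b1⁻¹⁻¹ := by
      -- LHS = ⁅a3, b2'⁆ with b2' a2' = a1⁻¹ b a1 ; but also ⁅a3, ·⁆ only depends on ... use a common decomposition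
      -- choose decomposition of a1⁻¹ b a1 = b2 a2 (fixed) and b1⁻¹ a b1 = a3 b3 (fixed)
      have L : a1⁻¹ * ⁅a3, b⁆ * a1⁻¹⁻¹ = ⁅a3, b2⁆ := by
        have e1 : a1⁻¹ * ⁅a3, b⁆ * a1⁻¹⁻¹ = ⁅a1⁻¹ * a3 * a1⁻¹⁻¹, a1⁻¹ * b * a1⁻¹⁻¹⁆ := by
          simp only [commutatorElement_def]; group
        have e2 : a1⁻¹ * a3 * a1⁻¹⁻¹ = a3 := by
          rw [hAc a1⁻¹ ha1' a3 ha3, mul_inv_cancel_right]
        rw [e1, e2, h2']
        simp only [commutatorElement_def, mul_inv_rev]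
        have e3 : a2 * a3⁻¹ * a2⁻¹ = a3⁻¹ := by
          rw [hAc a2 ha2 a3⁻¹ (A.inv_mem ha3), mul_inv_cancel_right]
        calc a3 * (b2 * a2) * a3⁻¹ * (a2⁻¹ * b2⁻¹) = a3 * b2 * (a2 * a3⁻¹ * a2⁻¹) * b2⁻¹ := by group
          _ = a3 * b2 * a3⁻¹ * b2⁻¹ := by rw [e3]
      have R : b1⁻¹ * ⁅a, b2⁆ * b1⁻¹⁻¹ = ⁅a3, b2⁆ := by
        have e1 : b1⁻¹ * ⁅a, b2⁆ * b1⁻¹⁻¹ = ⁅b1⁻¹ * a * b1⁻¹⁻¹, b1⁻¹ * b2 * b1⁻¹⁻¹⁆ := by
          simp only [commutatorElement_def]; group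
        have e2 : b1⁻¹ * b2 * b1⁻¹⁻¹ = b2 := by
          rw [hBc b1⁻¹ hb1' b2 hb2, mul_inv_cancel_right]
        rw [e1, e2, h3']
        simp only [commutatorElement_def, mul_inv_rev]
        have e3 : b3 * b2 * b3⁻¹ = b2 := by
          rw [hBc b3 hb3 b2 hb2, mul_inv_cancel_right]
        calc a3 * b3 * b2 * (b3⁻¹ * a3⁻¹) * b2⁻¹ = a3 * (b3 * b2 * b3⁻¹) * a3⁻¹ * b2⁻¹ := by group
          _ = a3 * b2 * a3⁻¹ * b2⁻¹ := by rw [e3]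
      rw [h3, L, h2, R]
    -- from key: ⁅a1, b1⁆ commutes with ⁅a, b⁆
    have : ⁅a1, b1⁆ * ⁅a, b⁆ * ⁅a1, b1⁆⁻¹ = ⁅a, b⁆ := by
      have k2 : b1 * (a1 * (a1⁻¹ * (b1⁻¹ * ⁅a, b⁆ * b1⁻¹⁻¹) * a1⁻¹⁻¹) * a1⁻¹) * b1⁻¹ =
          b1 * (a1 * (b1⁻¹ * (a1⁻¹ * ⁅a, b⁆ * a1⁻¹⁻¹) * b1⁻¹⁻¹) * a1⁻¹) * b1⁻¹ := by rw [key]
      have l1 : b1 * (a1 * (a1⁻¹ * (b1⁻¹ * ⁅a, b⁆ * b1⁻¹⁻¹) * a1⁻¹⁻¹) * a1⁻¹) * b1⁻¹ = ⁅a, b⁆ := by group
      have l2 : b1 * (a1 * (b1⁻¹ * (a1⁻¹ * ⁅a, b⁆ * a1⁻¹⁻¹) * b1⁻¹⁻¹) * a1⁻¹) * b1⁻¹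
          = ⁅b1, a1⁆ * ⁅a, b⁆ * ⁅b1, a1⁆⁻¹ := by
        simp only [commutatorElement_def]; group
      rw [l1, l2] at k2
      -- ⁅b1, a1⁆ = ⁅a1, b1⁆⁻¹
      have l3 : ⁅b1, a1⁆ = ⁅a1, b1⁆⁻¹ := (commutatorElement_inv a1 b1).symm
      rw [l3, inv_inv] at k2
      -- k2 : ⁅a,b⁆ = ⁅a1,b1⁆⁻¹ * ⁅a,b⁆ * ⁅a1,b1⁆
      calc ⁅a1, b1⁆ * ⁅a, b⁆ * ⁅a1, b1⁆⁻¹ = ⁅a1, b1⁆ * (⁅a1, b1⁆⁻¹ * ⁅a, b⁆ * ⁅a1, b1⁆) * ⁅a1, b1⁆⁻¹ := by rw [← k2]
        _ = ⁅a, b⁆ := by group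
    have h6 : ⁅a1, b1⁆ * ⁅a, b⁆ = ⁅a, b⁆ * ⁅a1, b1⁆ := by
      calc ⁅a1, b1⁆ * ⁅a, b⁆ = (⁅a1, b1⁆ * ⁅a, b⁆ * ⁅a1, b1⁆⁻¹) * ⁅a1, b1⁆ := by group
        _ = ⁅a, b⁆ * ⁅a1, b1⁆ := by rw [this]
    exact h6.symm
  have hNcomm : IsMulCommutative N := Subgroup.isMulCommutative_closure hXcomm
  have hNsolv : Group.IsSolvable N := by
    apply Group.isSolvable_of_comm
    intro x y
    exact mul_comm' x y
  -- the quotient is commutative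
  have hQcomm : ∀ x y : G ⧸ N, x * y = y * x := by
    have hab : ∀ a ∈ A, ∀ b ∈ B, (QuotientGroup.mk a : G ⧸ N) * QuotientGroup.mk b = QuotientGroup.mk b * QuotientGroup.mk a := by
      intro a ha b hb
      rw [← QuotientGroup.mk_mul, ← QuotientGroup.mk_mul, QuotientGroup.eq]
      have : (a * b)⁻¹ * (b * a) = ⁅b⁻¹, a⁻¹⁆ := by
        simp only [commutatorElement_def]; group
      rw [this, ← commutatorElement_inv]
      apply N.inv_mem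
      exact Subgroup.subset_closure ⟨a⁻¹, A.inv_mem ha, b⁻¹, B.inv_mem hb, rfl⟩
    intro x y
    obtain ⟨g, rfl⟩ := QuotientGroup.mk_surjective x
    obtain ⟨h, rfl⟩ := QuotientGroup.mk_surjective y
    obtain ⟨a, ha, b, hb, rfl⟩ := hAB g
    obtain ⟨a', ha', b', hb', rfl⟩ := hAB h
    simp only [QuotientGroup.mk_mul]
    have haa : (QuotientGroup.mk a : G ⧸ N) * QuotientGroup.mk a' = QuotientGroup.mk a' * QuotientGroup.mk a := by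
      rw [← QuotientGroup.mk_mul, ← QuotientGroup.mk_mul, hAc a ha a' ha']
    have hbb : (QuotientGroup.mk b : G ⧸ N) * QuotientGroup.mk b' = QuotientGroup.mk b' * QuotientGroup.mk b := by
      rw [← QuotientGroup.mk_mul, ← QuotientGroup.mk_mul, hBc b hb b' hb']
    have h1 := hab a ha b' hb'
    have h2 := hab a' ha' b hb
    calc (QuotientGroup.mk a : G ⧸ N) * QuotientGroup.mk b * (QuotientGroup.mk a' * QuotientGroup.mk b')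
        = QuotientGroup.mk a * (QuotientGroup.mk b * QuotientGroup.mk a') * QuotientGroup.mk b' := by group
      _ = QuotientGroup.mk a * (QuotientGroup.mk a' * QuotientGroup.mk b) * QuotientGroup.mk b' := by rw [h2]
      _ = (QuotientGroup.mk a * QuotientGroup.mk a') * (QuotientGroup.mk b * QuotientGroup.mk b') := by group
      _ = (QuotientGroup.mk a' * QuotientGroup.mk a) * (QuotientGroup.mk b' * QuotientGroup.mk b) := by rw [haa, hbb]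
      _ = QuotientGroup.mk a' * (QuotientGroup.mk a * QuotientGroup.mk b') * QuotientGroup.mk b := by group
      _ = QuotientGroup.mk a' * (QuotientGroup.mk b' * QuotientGroup.mk a) * QuotientGroup.mk b := by rw [h1]
      _ = QuotientGroup.mk a' * QuotientGroup.mk b' * (QuotientGroup.mk a * QuotientGroup.mk b) := by group
  have hQsolv : Group.IsSolvable (G ⧸ N) := Group.isSolvable_of_comm hQcomm
  apply Group.isSolvable_of_ker_le_range N.subtype (QuotientGroup.mk' N)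
  rw [QuotientGroup.ker_mk', Subgroup.range_subtype]

end Cfsg.Agent.S0047
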