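-- Statement S0048; proof by helper1.
import Cfsg.Statements.S0048
import Mathlib
import Cfsg.Agent.Lib.Helper1_Frattini
import Cfsg.Agent.Lib.Helper1_Hall

set_option autoImplicit false
open Pointwise
open Cfsg

namespace Cfsg.Agent.S0048

open Subgroup Cfsg.Agent.Lib.Helper1_Frattini Cfsg.Agent.Lib.Helper1_Hall
  Cfsg.Agent.Lib.Helper1_Transport

universe u

theorem aux (n : ℕ) : ∀ (G : Type u) [Group G] [Finite G], Group.IsSolvable G → Nat.card G = n →
    ∀ M : Subgroup G, IsCoatom M → IsPrimePow M.index := by
  induction n using Nat.strong_induction_on with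
  | _ n ih =>
  intro G _ _ hsolv hn M hM
  have hnt : Nontrivial G := by
    by_contra h
    rw [not_nontrivial_iff_subsingleton] at h
    exact hM.1 (Subsingleton.elim _ _)
  obtain ⟨A, p, hAn, hAne, -, hp, hAp⟩ := exists_normal_abelian_pSubgroup hsolv
  by_cases hAM : A ≤ M
  · -- pass to the quotient
    have hsurj : Function.Surjective (QuotientGroup.mk' A) := QuotientGroup.mk'_surjective A
    have hker : (QuotientGroup.mk' A).ker ≤ M := by rw [QuotientGroup.ker_mk']; exact hAM
    have hcoatom := isCoatom_map_of_surjective hsurj hM hker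
    have hidx : (M.map (QuotientGroup.mk' A)).index = M.index := index_map_eq M hsurj hker
    have hcardA : 1 < Nat.card A := (one_lt_card_iff_ne_bot A).mpr hAne
    have hlt : Nat.card (G ⧸ A) < n := by
      rw [← hn, ← card_quotient_mul_card A]
      exact lt_mul_of_one_lt_right Nat.card_pos hcardA
    rw [← hidx]
    exact ih _ hlt (G ⧸ A) inferInstance rfl _ hcoatom
  · -- `G = M A` and the index divides `|A|`
    have hsup : M ⊔ A = ⊤ := by
      apply hM.2
      refine lt_of_le_of_ne le_sup_left ?_
      intro h
      apply hAM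
      rw [h]
      exact le_sup_right
    have h1 : Nat.card G = Nat.card A * A.relIndex M := by
      rw [← Cfsg.Agent.Lib.Helper1_Cores.card_sup_eq M A, hsup, card_top]
    have h2 : A.relIndex M * Nat.card (A ⊓ M : Subgroup G) = Nat.card M := by
      rw [← inf_relIndex_right A M, ← relIndex_bot_left, ← relIndex_bot_left (H := M), mul_comm]
      exact relIndex_mul_relIndex ⊥ (A ⊓ M) M bot_le inf_le_right
    have h3 : M.index * Nat.card (A ⊓ M : Subgroup G) = Nat.card A := by
      have h4 := M.index_mul_card
      rw [← h2, h1] at h4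
      have hpos : 0 < A.relIndex M := Nat.pos_of_ne_zero (by
        intro h0
        rw [h0, zero_mul] at h2
        exact (Nat.card_pos (α := M)).ne' h2.symm)
      apply Nat.eq_of_mul_eq_mul_left hpos
      linarith
    have hdvd : M.index ∣ Nat.card A := Dvd.intro _ h3
    have hpf : Fact p.Prime := ⟨hp⟩
    obtain ⟨k, hk⟩ := IsPGroup.iff_card.mp hAp
    rw [hk] at hdvd
    obtain ⟨j, -, hj⟩ := (Nat.dvd_prime_pow hp).mp hdvd
    have hj0 : j ≠ 0 := by
      intro h0
      rw [h0, pow_zero] at hj
      exact hM.1 (index_eq_one.mp hj)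
    rw [hj]
    exact (isPrimePow_pow_iff hj0).mpr hp.isPrimePow

/-- In a finite solvable group every maximal subgroup has index a prime power. -/
theorem result {G : Type*} [Group G] [Finite G] [Group.IsSolvable G]
    (M : Subgroup G) (hM : IsCoatom M) : IsPrimePow M.index :=
  aux _ G inferInstance rfl M hM

end Cfsg.Agent.S0048
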