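import Cfsg.Statements.S0050
import Cfsg.Agent.Lib.Helper1_Hall

set_option autoImplicit false
open Pointwise
open Cfsg

namespace Cfsg.Agent.S0050

open Subgroup Cfsg.Agent.Lib.Helper1_Transport Cfsg.Agent.Lib.Helper1_Hall

theorem conj_smul_eq_self_iff {G : Type*} [Group G] (g : G) (H : Subgroup G) :
    MulAut.conj g • H = H ↔ g ∈ normalizer (H : Set G) := by
  rw [mem_normalizer_iff_map_conj_eq]
  rfl

/-- Frattini argument for Hall subgroups: if L is a solvable normal subgroup and H a subgroup of L of order coprime to its index in L, then L together with the normaliser of H generates the whole group. -/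
theorem result {G : Type*} [Group G] [Finite G] (L : Subgroup G) [L.Normal] (hL : Group.IsSolvable L)
    (H : Subgroup G) (hHL : H ≤ L) (hHall : (Nat.card H).Coprime (H.relIndex L)) :
    L ⊔ Subgroup.normalizer (H : Set G) = ⊤ := by
  rw [eq_top_iff]
  intro g _
  have hgHL : MulAut.conj g • H ≤ L := by
    have : MulAut.conj g • H ≤ MulAut.conj g • L := pointwise_smul_le_pointwise_smul_iff.mpr hHL
    rwa [Normal.conj_smul_eq_self g L] at this
  have hcardL : Nat.card L = Nat.card H * H.relIndex L := by
    rw [← relIndex_bot_left, ← relIndex_bot_left (H := H)]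
    exact (relIndex_mul_relIndex ⊥ H L bot_le hHL).symm
  obtain ⟨l, hl⟩ := hall_conj (G := L) (Nat.card H) (H.relIndex L) hcardL hHall
    ((MulAut.conj g • H).subgroupOf L) (H.subgroupOf L)
    (by rw [card_subgroupOf hgHL, card_conj_smul]) (card_subgroupOf hHL)
  have h1 := conj_of_subgroupOf hgHL hHL l hl
  rw [← mul_smul, ← map_mul, conj_smul_eq_self_iff] at h1
  have h2 : g = (l : G)⁻¹ * ((l : G) * g) := by group
  rw [h2]
  exact mul_mem_sup (L.inv_mem l.2) h1

end Cfsg.Agent.S0050
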