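-- Statement S0053; proof by helper1.
import Cfsg.Statements.S0053
import Mathlib
import Cfsg.Agent.Lib.Helper1_Frattini

set_option autoImplicit false
open Pointwise
open Cfsg

namespace Cfsg.Agent.S0053

open Subgroup Cfsg.Agent.Lib.Helper1_Frattini

/-- An abelian minimal normal subgroup N of a finite group is complemented exactly when N is not inside the Frattini subgroup. -/
theorem result {G : Type*} [Group G] [Finite G]
    (N : Subgroup G) [N.Normal] [IsMulCommutative N] (hN : N ≠ ⊥)
    (hmin : ∀ M : Subgroup G, M.Normal → M ≤ N → M = ⊥ ∨ M = N) :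
    (∃ H : Subgroup G, Subgroup.IsComplement' N H) ↔ ¬ N ≤ frattini G := by
  constructor
  · rintro ⟨H, hH⟩ hle
    have hsup : N ⊔ H = ⊤ := hH.sup_eq_top
    have h1 : H ⊔ frattini G = ⊤ := by
      rw [eq_top_iff, ← hsup, sup_comm]
      exact sup_le_sup_left hle H
    have h2 : H = ⊤ := frattini_nongenerating h1
    rw [h2, isComplement'_top_right] at hH
    exact hN hH
  · intro hle
    rw [le_frattini_iff] at hle
    push Not at hle
    obtain ⟨M, hM, hNM⟩ := hle
    refine ⟨M, ?_⟩
    have hsup : N ⊔ M = ⊤ := by
      apply hM.2
      refine lt_of_le_of_ne le_sup_right ?_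
      intro h
      apply hNM
      rw [h]
      exact le_sup_left
    -- `N ⊓ M` is normal in `G`
    have hnorm : (N ⊓ M).Normal := by
      rw [← normalizer_eq_top_iff, eq_top_iff, ← hsup]
      apply sup_le
      · intro n hn
        rw [mem_normalizer_iff]
        intro x
        constructor
        · rintro ⟨hx1, hx2⟩
          have hc : n * x = x * n := by
            have := (IsMulCommutative.is_comm (M := N)).comm ⟨n, hn⟩ ⟨x, hx1⟩
            exact congrArg Subtype.val this
          have : n * x * n⁻¹ = x := by rw [hc]; group
          rw [this]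
          exact ⟨hx1, hx2⟩
        · rintro ⟨hx1, hx2⟩
          have hx1' : x ∈ N := by
            have := (inferInstance : N.Normal).conj_mem _ hx1 n⁻¹
            simpa [mul_assoc] using this
          have hc : n * x = x * n := by
            have := (IsMulCommutative.is_comm (M := N)).comm ⟨n, hn⟩ ⟨x, hx1'⟩
            exact congrArg Subtype.val this
          have : n * x * n⁻¹ = x := by rw [hc]; group
          rw [this] at hx2
          exact ⟨hx1', hx2⟩
      · intro m hm
        rw [mem_normalizer_iff]
        intro x
        constructor
        · rintro ⟨hx1, hx2⟩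
          exact ⟨(inferInstance : N.Normal).conj_mem _ hx1 m, M.mul_mem (M.mul_mem hm hx2) (M.inv_mem hm)⟩
        · rintro ⟨hx1, hx2⟩
          constructor
          · have := (inferInstance : N.Normal).conj_mem _ hx1 m⁻¹
            simpa [mul_assoc] using this
          · have := M.mul_mem (M.mul_mem (M.inv_mem hm) hx2) hm
            simpa [mul_assoc] using this
    have hinf : N ⊓ M = ⊥ := by
      rcases hmin _ hnorm inf_le_left with h | h
      · exact h
      · exact absurd (inf_eq_left.mp h) hNM
    apply isComplement'_of_disjoint_and_mul_eq_univ (disjoint_iff.mpr hinf)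
    rw [← normal_mul, hsup, coe_top]

end Cfsg.Agent.S0053
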