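-- Statement S0054; proof by helper1.
import Cfsg.Statements.S0054
import Mathlib

set_option autoImplicit false
open Pointwise
open Cfsg

namespace Cfsg.Agent.S0054

open Subgroup MulAction

/-- A regular normal subgroup of a finite 2-transitive group is elementary abelian: it is commutative and all its elements have order dividing one prime. -/
theorem result {G : Type*} [Group G] [Finite G]
    {X : Type*} [Nonempty X] [MulAction G X] (h2 : MulAction.IsMultiplyPretransitive G X 2)
    (N : Subgroup G) [N.Normal] (htrans : MulAction.IsPretransitive N X) (hreg : ∀ x : X, MulAction.stabilizer N x = ⊥) :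
    IsMulCommutative N ∧ ∃ p : ℕ, p.Prime ∧ ∀ n ∈ N, n ^ p = 1 := by
  obtain ⟨x₀⟩ : Nonempty X := inferInstance
  have hNn : N.Normal := inferInstance
  -- elements of `N` fixing `x₀` are trivial
  have hfix : ∀ n : G, n ∈ N → n • x₀ = x₀ → n = 1 := by
    intro n hn hnx
    have : (⟨n, hn⟩ : N) ∈ stabilizer N x₀ := hnx
    rw [hreg x₀, mem_bot] at this
    exact congrArg Subtype.val this
  -- nonidentity elements of `N` are conjugate in `G`
  have hconj : ∀ n m : G, n ∈ N → m ∈ N → n ≠ 1 → m ≠ 1 → ∃ g : G, g * n * g⁻¹ = m := by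
    intro n m hn hm hn1 hm1
    have h1 : x₀ ≠ n • x₀ := fun h => hn1 (hfix n hn h.symm)
    have h2' : x₀ ≠ m • x₀ := fun h => hm1 (hfix m hm h.symm)
    obtain ⟨g, hg1, hg2⟩ := (is_two_pretransitive_iff.mp h2) h1 h2'
    refine ⟨g, ?_⟩
    have h3 : (g * n * g⁻¹) • x₀ = m • x₀ := by
      rw [mul_smul, mul_smul]
      have : g⁻¹ • x₀ = x₀ := by rw [inv_smul_eq_iff, hg1]
      rw [this, hg2]
    have h4 : m⁻¹ * (g * n * g⁻¹) ∈ N := N.mul_mem (N.inv_mem hm) (hNn.conj_mem n hn g)
    have h5 : (m⁻¹ * (g * n * g⁻¹)) • x₀ = x₀ := by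
      rw [mul_smul, h3, inv_smul_smul]
    have h6 := hfix _ h4 h5
    calc g * n * g⁻¹ = m * (m⁻¹ * (g * n * g⁻¹)) := by group
      _ = m := by rw [h6, mul_one]
  by_cases htriv : N = ⊥
  · subst htriv
    refine ⟨⟨⟨?_⟩⟩, 2, Nat.prime_two, ?_⟩
    · intro a b
      have ha : a = 1 := Subsingleton.elim _ _
      have hb : b = 1 := Subsingleton.elim _ _
      rw [ha, hb]
    · intro n hn
      rw [mem_bot] at hn
      rw [hn, one_pow]
  · -- a prime `p` and an element of order `p`
    have hcard : Nat.card N ≠ 1 := fun h => htriv (card_eq_one.mp h)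
    obtain ⟨p, hp, hdvd⟩ := Nat.exists_prime_and_dvd hcard
    have hpf : Fact p.Prime := ⟨hp⟩
    obtain ⟨z, hz⟩ := exists_prime_orderOf_dvd_card' p hdvd
    have hz1 : (z : G) ≠ 1 := by
      intro h
      have : z = 1 := Subtype.ext h
      rw [this, orderOf_one] at hz
      exact hp.one_lt.ne hz
    have hzp : (z : G) ^ p = 1 := by
      have : z ^ p = 1 := by rw [← hz]; exact pow_orderOf_eq_one z
      exact_mod_cast congrArg Subtype.val this
    have hpow : ∀ n ∈ N, n ^ p = 1 := by
      intro n hn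
      by_cases hn1 : n = 1
      · rw [hn1, one_pow]
      · obtain ⟨g, hg⟩ := hconj z n z.2 hn hz1 hn1
        rw [← hg, conj_pow, hzp, mul_one, mul_inv_cancel]
    refine ⟨?_, p, hp, hpow⟩
    -- `N` is a `p`-group, so its center is nontrivial
    have hNp : IsPGroup p N := by
      intro n
      refine ⟨1, ?_⟩
      rw [pow_one]
      apply Subtype.ext
      simpa using hpow n n.2
    have hNnt : Nontrivial N := (nontrivial_iff_ne_bot N).mpr htriv
    have hcnt : Nontrivial (center N) := hNp.center_nontrivial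
    obtain ⟨c, hc1⟩ := exists_ne (1 : center N)
    have hc : (c : N) ∈ center N := c.2
    have hc1' : ((c : N) : G) ≠ 1 := by
      intro h
      apply hc1
      exact Subtype.ext (Subtype.ext h)
    -- every element of `N` is central in `N`
    refine ⟨⟨?_⟩⟩
    intro a b
    by_cases ha1 : (a : G) = 1
    · have : a = 1 := Subtype.ext ha1
      rw [this, one_mul, mul_one]
    · obtain ⟨g, hg⟩ := hconj ((c : N) : G) a (c : N).2 a.2 hc1' ha1
      -- `a = g c g⁻¹` commutes with `b = g (g⁻¹ b g) g⁻¹`
      have hb' : g⁻¹ * b * g ∈ N := by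
        have := hNn.conj_mem b b.2 g⁻¹
        simpa using this
      have hcomm : ((c : N) : G) * (g⁻¹ * b * g) = (g⁻¹ * b * g) * ((c : N) : G) := by
        have := (mem_center_iff.mp hc) ⟨g⁻¹ * b * g, hb'⟩
        exact (congrArg Subtype.val this).symm
      apply Subtype.ext
      change (a : G) * b = b * a
      rw [← hg]
      calc g * ((c : N) : G) * g⁻¹ * b = g * (((c : N) : G) * (g⁻¹ * b * g)) * g⁻¹ := by group
        _ = g * ((g⁻¹ * b * g) * ((c : N) : G)) * g⁻¹ := by rw [hcomm]
        _ = b * (g * ((c : N) : G) * g⁻¹) := by group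

end Cfsg.Agent.S0054
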