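-- Statement S0056; proof by helper1.
import Cfsg.Statements.S0056
import Mathlib
import Cfsg.Agent.S0055

set_option autoImplicit false
open Pointwise
open Cfsg

namespace Cfsg.Agent.S0056

open Subgroup

/-- A coprime action on an abelian group that fixes all elements of prime order is trivial. -/
theorem result {G : Type*} [Group G] [Finite G] (A V : Subgroup G) [IsMulCommutative V]
    (hAV : A ≤ Subgroup.normalizer (V : Set G)) (hcop : (Nat.card A).Coprime (Nat.card V))
    (hΩ : ∀ v ∈ V, (orderOf v).Prime → ∀ a ∈ A, a * v = v * a) : A ≤ Subgroup.centralizer (V : Set G) := by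
  obtain ⟨h1, -⟩ := Cfsg.Agent.S0055.result A V hAV hcop
  have hWV : ⁅V, A⁆ ≤ V := (le_normalizer_iff_commutator_le_left).mp hAV
  have hW : ⁅V, A⁆ = ⊥ := by
    by_contra hne
    have hcard : Nat.card (⁅V, A⁆ : Subgroup G) ≠ 1 := fun h => hne (card_eq_one.mp h)
    obtain ⟨p, hp, hdvd⟩ := Nat.exists_prime_and_dvd hcard
    have : Fact p.Prime := ⟨hp⟩
    obtain ⟨x, hx⟩ := exists_prime_orderOf_dvd_card' p hdvd
    have hx' : orderOf (x : G) = p := by rw [← hx]; exact orderOf_coe x
    have hxV : (x : G) ∈ V := hWV x.2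
    have hxC : (x : G) ∈ centralizer (A : Set G) := by
      rw [mem_centralizer_iff]
      intro a ha
      exact hΩ x hxV (by rw [hx']; exact hp) a ha
    have hmem : (x : G) ∈ (V ⊓ centralizer (A : Set G)) ⊓ ⁅V, A⁆ := ⟨⟨hxV, hxC⟩, x.2⟩
    rw [h1, mem_bot] at hmem
    rw [hmem, orderOf_one] at hx'
    exact hp.one_lt.ne hx'
  rw [commutator_comm] at hW
  exact commutator_eq_bot_iff_le_centralizer.mp hW

end Cfsg.Agent.S0056
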