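import Cfsg.Statements.S0057
import Mathlib
import Cfsg.Agent.Lib.Helper24_CoprimeAction
import Cfsg.Agent.S0026
import Cfsg.Agent.S0027
import Cfsg.Agent.S0055
-- import your own Cfsg.Agent.* helpers here

set_option autoImplicit false
open Cfsg

namespace Cfsg.Agent.S0057

open Cfsg.Agent.Lib.Helper24_CoprimeAction
open scoped commutatorElement

/-- A Sylow `p`-subgroup `P` of a finite group `K` and a subgroup `C` of index `p`
satisfy `K = P C` (elementwise form). -/
theorem exists_mul_of_index_prime {K : Type*} [Group K] [Finite K] {p : ℕ} [hp : Fact p.Prime]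
    (P : Sylow p K) (C : Subgroup K) (hC : C.index = p) (k : K) :
    ∃ x ∈ (P : Subgroup K), x⁻¹ * k ∈ C := by
  classical
  let a : K ⧸ C := ((1 : K) : K ⧸ C)
  obtain ⟨n, hn⟩ := IsPGroup.card_orbit P.isPGroup' a
  have hcard : Nat.card (K ⧸ C) = p := by rw [← Subgroup.index_eq_card]; exact hC
  rcases n with _ | n
  · exfalso
    have hPC : (P : Subgroup K) ≤ C := by
      intro x hx
      have hx1 : (⟨x, hx⟩ : (P : Subgroup K)) • a ∈ MulAction.orbit (P : Subgroup K) a :=
        MulAction.mem_orbit _ _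
      have ha : a ∈ MulAction.orbit (P : Subgroup K) a := MulAction.mem_orbit_self a
      have hss : Subsingleton (MulAction.orbit (P : Subgroup K) a) :=
        (Nat.card_eq_one_iff_unique.mp (by simpa using hn)).1
      have heq : (⟨x, hx⟩ : (P : Subgroup K)) • a = a :=
        congrArg Subtype.val (Subsingleton.elim
          (⟨_, hx1⟩ : MulAction.orbit (P : Subgroup K) a) ⟨_, ha⟩)
      have h2 : ((x * 1 : K) : K ⧸ C) = ((1 : K) : K ⧸ C) := heq
      rw [QuotientGroup.eq] at h2
      simpa using h2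
    have hdvd : C.index ∣ (P : Subgroup K).index := Subgroup.index_dvd_of_le hPC
    rw [hC] at hdvd
    exact P.not_dvd_index hdvd
  · have hge : p ≤ Nat.card (MulAction.orbit (P : Subgroup K) a) := by
      rw [hn]
      calc p = p ^ 1 := (pow_one p).symm
        _ ≤ p ^ (n + 1) := Nat.pow_le_pow_right hp.out.pos (by omega)
    have hall : MulAction.orbit (P : Subgroup K) a = Set.univ := by
      rw [Set.eq_univ_iff_ncard]
      apply le_antisymm
      · rw [← Nat.card_coe_set_eq]
        exact Nat.card_le_card_of_injective Subtype.val Subtype.val_injective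
      · rw [← Nat.card_coe_set_eq]; exact hcard.le.trans hge
    have hk : ((k : K) : K ⧸ C) ∈ MulAction.orbit (P : Subgroup K) a := by rw [hall]; trivial
    obtain ⟨⟨x, hx⟩, hxk⟩ := hk
    refine ⟨x, hx, ?_⟩
    have h2 : ((x * 1 : K) : K ⧸ C) = ((k : K) : K ⧸ C) := hxk
    rw [QuotientGroup.eq] at h2
    simpa using h2

theorem card_eq_relIndex_mul_card' {G : Type*} [Group G] {H K : Subgroup G} (h : H ≤ K) :
    Nat.card K = H.relIndex K * Nat.card H := by
  have := Subgroup.relIndex_mul_relIndex ⊥ H K bot_le h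
  rw [Subgroup.relIndex_bot_left, Subgroup.relIndex_bot_left] at this
  rw [← this, mul_comm]

/-- Under coprime action, if the centraliser of A in K has prime index p in K then the commutator subgroup [K, A] has order exactly p. -/
theorem result {G : Type*} [Group G] [Finite G] (A K : Subgroup G) (hAK : A ≤ Subgroup.normalizer (K : Set G))
    (hcop : (Nat.card A).Coprime (Nat.card K)) (hsolv : Group.IsSolvable A ∨ Group.IsSolvable K)
    (p : ℕ) (hp : p.Prime) (hidx : (K ⊓ Subgroup.centralizer (A : Set G)).relIndex K = p) :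
    Nat.card (⁅K, A⁆ : Subgroup G) = p := by
  classical
  have hpF : Fact p.Prime := ⟨hp⟩
  have hDK : ⁅K, A⁆ ≤ K := commutator_le_of_le_normalizer K A hAK
  obtain ⟨P, hPA⟩ := exists_invariant_sylow A K hAK hcop hsolv p
  -- step 2: K = P C
  have hdecomp : ∀ k ∈ K, ∃ x ∈ (P : Subgroup K).map K.subtype,
      ∃ c ∈ K ⊓ Subgroup.centralizer (A : Set G), k = x * c := by
    intro k hk
    have hidx' : ((K ⊓ Subgroup.centralizer (A : Set G)).subgroupOf K).index = p := hidx
    obtain ⟨x, hx, hxk⟩ := exists_mul_of_index_prime P _ hidx' ⟨k, hk⟩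
    refine ⟨(x : G), ⟨x, hx, rfl⟩, (x : G)⁻¹ * k, ?_, by group⟩
    exact Subgroup.mem_subgroupOf.mp hxk
  -- step 3: [K, A] ≤ P
  have hDP : ⁅K, A⁆ ≤ (P : Subgroup K).map K.subtype := by
    rw [Subgroup.commutator_le]
    intro k hk a ha
    obtain ⟨x, hx, c, hc, rfl⟩ := hdecomp k hk
    have hca : a * c = c * a := Subgroup.mem_centralizer_iff.mp hc.2 a ha
    have h1 : ⁅x * c, a⁆ = x * (a * x⁻¹ * a⁻¹) := by
      rw [commutatorElement_def]
      calc x * c * a * (x * c)⁻¹ * a⁻¹ = x * (c * a) * c⁻¹ * x⁻¹ * a⁻¹ := by group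
        _ = x * (a * c) * c⁻¹ * x⁻¹ * a⁻¹ := by rw [hca]
        _ = x * (a * x⁻¹ * a⁻¹) := by group
    rw [h1]
    exact Subgroup.mul_mem _ hx
      ((Subgroup.mem_normalizer_iff.mp (hPA ha) x⁻¹).mp (Subgroup.inv_mem _ hx))
  have hDp : IsPGroup p (⁅K, A⁆ : Subgroup G) := (P.isPGroup'.map K.subtype).to_le hDP
  -- normalizing facts
  have hAD : A ≤ Subgroup.normalizer ((⁅K, A⁆ : Subgroup G) : Set G) :=
    fun a ha => mem_normalizer_commutator K A (hAK ha) (Subgroup.le_normalizer ha)
  have hCD : K ⊓ Subgroup.centralizer (A : Set G) ≤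
      Subgroup.normalizer ((⁅K, A⁆ : Subgroup G) : Set G) :=
    fun c hc => mem_normalizer_commutator K A (Subgroup.le_normalizer hc.1)
      (Subgroup.centralizer_le_normalizer _ hc.2)
  have hsup : (K ⊓ Subgroup.centralizer (A : Set G)) ⊔ ⁅K, A⁆ = K := by
    rw [sup_comm]; exact Cfsg.Agent.S0026.result A K hAK hcop hsolv
  have hDD : ⁅⁅K, A⁆, A⁆ = ⁅K, A⁆ := Cfsg.Agent.S0027.result A K hAK hcop hsolv
  -- names
  obtain ⟨C, hCdef⟩ : ∃ C : Subgroup G, C = K ⊓ Subgroup.centralizer (A : Set G) := ⟨_, rfl⟩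
  obtain ⟨D, hDdef⟩ : ∃ D : Subgroup G, D = ⁅K, A⁆ := ⟨_, rfl⟩
  rw [← hCdef] at hidx hCD hsup
  rw [← hDdef] at hDK hDP hDp hAD hCD hsup hDD ⊢
  have hCK : C ≤ K := hCdef ▸ inf_le_left
  have hCA : C ≤ Subgroup.centralizer (A : Set G) := hCdef ▸ inf_le_right
  -- step 5: |D| = p |E|
  have hE : D ⊓ C = D ⊓ Subgroup.centralizer (A : Set G) := by
    rw [hCdef]
    apply le_antisymm
    · exact inf_le_inf_left _ inf_le_right
    · exact le_inf inf_le_left (le_inf (inf_le_left.trans hDK) inf_le_right)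
  have hrel : D.relIndex C = D.relIndex K := by
    have hN1 : (D.subgroupOf C).Normal := Subgroup.normal_subgroupOf_of_le_normalizer hCD
    have hN2 : (D.subgroupOf (C ⊔ D)).Normal :=
      Subgroup.normal_subgroupOf_sup_of_le_normalizer hCD
    have e := QuotientGroup.quotientInfEquivProdNormalizerQuotient C D hCD
    have h1 := Nat.card_congr e.toEquiv
    rw [← Subgroup.index_eq_card, ← Subgroup.index_eq_card] at h1
    have h2 : D.relIndex C = D.relIndex (C ⊔ D) := h1
    rw [h2, hsup]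
  have hK1 : Nat.card K = D.relIndex K * Nat.card D := card_eq_relIndex_mul_card' hDK
  have hK2 : Nat.card K = p * Nat.card C := by rw [card_eq_relIndex_mul_card' hCK, hidx]
  have hC1 : Nat.card C = D.relIndex C * Nat.card (D ⊓ Subgroup.centralizer (A : Set G) : Subgroup G) := by
    rw [← hE, card_eq_relIndex_mul_card' (inf_le_right : D ⊓ C ≤ C), Subgroup.inf_relIndex_right]
  have hrpos : 0 < D.relIndex K := by
    rcases Nat.eq_zero_or_pos (D.relIndex K) with h0 | h0
    · rw [h0, zero_mul] at hK1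
      exact absurd hK1 (Nat.card_pos (α := K)).ne'
    · exact h0
  have hcardD : Nat.card D = p * Nat.card (D ⊓ Subgroup.centralizer (A : Set G) : Subgroup G) := by
    have : D.relIndex K * Nat.card D =
        D.relIndex K * (p * Nat.card (D ⊓ Subgroup.centralizer (A : Set G) : Subgroup G)) := by
      rw [← hK1, hK2, hC1, hrel]; ring
    exact Nat.eq_of_mul_eq_mul_left hrpos this
  obtain ⟨E, hEdef⟩ : ∃ E : Subgroup G, E = D ⊓ Subgroup.centralizer (A : Set G) := ⟨_, rfl⟩
  rw [← hEdef] at hcardD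
  have hED : E ≤ D := hEdef ▸ inf_le_left
  have hEA : E ≤ Subgroup.centralizer (A : Set G) := hEdef ▸ inf_le_right
  -- index of E in D is p
  have hEidx : E.relIndex D = p := by
    have h1 := card_eq_relIndex_mul_card' hED
    rw [hcardD] at h1
    exact (Nat.eq_of_mul_eq_mul_right (Nat.card_pos (α := E)) h1).symm
  -- E normal in D
  obtain ⟨n, hn⟩ := IsPGroup.iff_card.mp hDp
  have hn0 : n ≠ 0 := by
    rintro rfl
    rw [pow_zero] at hn
    rw [hn] at hcardD
    have := hp.two_le
    have h3 : 0 < Nat.card E := Nat.card_pos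
    nlinarith
  have hnormal : (E.subgroupOf D).Normal := by
    apply Subgroup.normal_of_index_eq_minFac_card
    rw [hn, Nat.pow_minFac hn0, hp.minFac_eq]
    exact hEidx
  have hconj : ∀ d ∈ D, ∀ e ∈ E, d * e * d⁻¹ ∈ E := by
    intro d hd e he
    have := hnormal.conj_mem ⟨e, hED he⟩ (Subgroup.mem_subgroupOf.mpr he) ⟨d, hd⟩
    exact Subgroup.mem_subgroupOf.mp this
  -- three subgroups lemma
  have hAE : ⁅A, E⁆ = ⊥ :=
    Subgroup.commutator_eq_bot_iff_le_centralizer.mpr (Subgroup.le_centralizer_iff.mp hEA)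
  have hEA' : ⁅E, A⁆ = ⊥ := Subgroup.commutator_eq_bot_iff_le_centralizer.mpr hEA
  have h1 : ⁅⁅A, E⁆, D⁆ = ⊥ := by rw [hAE]; exact Subgroup.commutator_bot_left D
  have hEDc : ⁅E, D⁆ ≤ E := by
    rw [Subgroup.commutator_le]
    intro e he d hd
    have h2 : ⁅e, d⁆ = e * (d * e⁻¹ * d⁻¹) := by rw [commutatorElement_def]; group
    rw [h2]
    exact E.mul_mem he (hconj d hd e⁻¹ (E.inv_mem he))
  have h2 : ⁅⁅E, D⁆, A⁆ = ⊥ :=
    eq_bot_iff.mpr (le_trans (Subgroup.commutator_mono hEDc le_rfl) (le_of_eq hEA'))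
  have h3 : ⁅⁅D, A⁆, E⁆ = ⊥ := Subgroup.commutator_commutator_eq_bot_of_rotate h1 h2
  rw [hDD] at h3
  have hDcE : D ≤ Subgroup.centralizer (E : Set G) :=
    Subgroup.commutator_eq_bot_iff_le_centralizer.mp h3
  -- D abelian
  have hcyc : IsCyclic (D ⧸ E.subgroupOf D) := by
    apply isCyclic_of_prime_card (p := p)
    rw [← Subgroup.index_eq_card]
    exact hEidx
  have hker : (QuotientGroup.mk' (E.subgroupOf D)).ker ≤ Subgroup.center D := by
    rw [QuotientGroup.ker_mk']
    intro x hx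
    rw [Subgroup.mem_center_iff]
    intro g
    apply Subtype.ext
    have hxE : (x : G) ∈ E := Subgroup.mem_subgroupOf.mp hx
    exact (Subgroup.mem_centralizer_iff.mp (hDcE g.2) (x : G) hxE).symm
  have hcomm : IsMulCommutative D :=
    MonoidHom.isMulCommutative_of_isCyclic_of_ker_le_center (QuotientGroup.mk' (E.subgroupOf D)) hker
  have hcopD : (Nat.card A).Coprime (Nat.card D) :=
    Nat.Coprime.coprime_dvd_right (Subgroup.card_dvd_of_le hDK) hcop
  have hfit := (Cfsg.Agent.S0055.result A D hAD hcopD).1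
  rw [hDD, ← hEdef, inf_eq_left.mpr hED] at hfit
  rw [hcardD, hfit, Subgroup.card_bot, mul_one]

end Cfsg.Agent.S0057
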