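import Mathlib
import Cfsg.Statements.S0060
-- import your own Cfsg.Agent.* helpers here

set_option autoImplicit false
open Pointwise
open Cfsg

namespace Cfsg.Agent.S0060

theorem mem_smul_sylow {G : Type*} [Group G] {p : ℕ} (g : G) (P : Sylow p G) (x : G) :
    x ∈ ((g • P : Sylow p G) : Subgroup G) ↔ g⁻¹ * x * g ∈ (P : Subgroup G) := by
  rw [Sylow.coe_subgroup_smul, Subgroup.mem_pointwise_smul_iff_inv_smul_mem]
  simp [MulAut.smul_def]

theorem mem_conj_smul {G : Type*} [Group G] (g : G) (P : Subgroup G) (x : G) :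
    x ∈ MulAut.conj g • P ↔ g⁻¹ * x * g ∈ P := by
  rw [Subgroup.mem_pointwise_smul_iff_inv_smul_mem]
  simp [MulAut.smul_def]


/-- Brodkey's Theorem: in a finite group with abelian Sylow p-subgroups and no nontrivial normal p-subgroup, some conjugate of a Sylow p-subgroup meets it trivially. -/
theorem result {G : Type*} [Group G] [Finite G] (p : ℕ) [Fact p.Prime]
    (S : Sylow p G) (hS : IsMulCommutative S) (hOp : Cfsg.pCore p G = ⊥) :
    ∃ g : G, (S : Subgroup G) ⊓ MulAut.conj g • (S : Subgroup G) = ⊥ := by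
  classical
  -- all Sylow subgroups are abelian
  have hcomm : ∀ R : Sylow p G, ∀ a ∈ (R : Subgroup G), ∀ b ∈ (R : Subgroup G), a * b = b * a := by
    intro R a ha b hb
    obtain ⟨g, rfl⟩ := MulAction.exists_smul_eq G S R
    rw [mem_smul_sylow] at ha hb
    have h1 := hS.is_comm.comm ⟨_, ha⟩ ⟨_, hb⟩
    have h2 : g⁻¹ * a * g * (g⁻¹ * b * g) = g⁻¹ * b * g * (g⁻¹ * a * g) := congrArg Subtype.val h1
    have h3 : g * (g⁻¹ * a * g * (g⁻¹ * b * g)) * g⁻¹ = g * (g⁻¹ * b * g * (g⁻¹ * a * g)) * g⁻¹ := by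
      rw [h2]
    simpa [mul_assoc] using h3
  -- choose a pair of Sylow subgroups with minimal intersection
  obtain ⟨⟨P, Q⟩, hmin⟩ := Finite.exists_min
    (fun PQ : Sylow p G × Sylow p G => Nat.card ((PQ.1 : Subgroup G) ⊓ (PQ.2 : Subgroup G) : Subgroup G))
  simp only at hmin
  set D : Subgroup G := (P : Subgroup G) ⊓ (Q : Subgroup G) with hD
  set N : Subgroup G := Subgroup.normalizer (D : Set G) with hN
  have hPN : (P : Subgroup G) ≤ N := by
    intro x hx
    rw [hN, Subgroup.mem_normalizer_iff]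
    intro d
    constructor
    · intro hd
      have : x * d * x⁻¹ = d := by
        rw [hcomm P x hx d hd.1, mul_assoc, mul_inv_cancel, mul_one]
      rw [this]; exact hd
    · intro hd
      have hd' : x * d * x⁻¹ ∈ (P : Subgroup G) := hd.1
      have hdP : d ∈ (P : Subgroup G) := by
        have := (P : Subgroup G).mul_mem ((P : Subgroup G).mul_mem ((P : Subgroup G).inv_mem hx) hd') hx
        simpa [mul_assoc] using this
      have : x * d * x⁻¹ = d := by
        rw [hcomm P x hx d hdP, mul_assoc, mul_inv_cancel, mul_one]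
      rw [this] at hd; exact hd
  have hQN : (Q : Subgroup G) ≤ N := by
    intro x hx
    rw [hN, Subgroup.mem_normalizer_iff]
    intro d
    constructor
    · intro hd
      have : x * d * x⁻¹ = d := by
        rw [hcomm Q x hx d hd.2, mul_assoc, mul_inv_cancel, mul_one]
      rw [this]; exact hd
    · intro hd
      have hd' : x * d * x⁻¹ ∈ (Q : Subgroup G) := hd.2
      have hdQ : d ∈ (Q : Subgroup G) := by
        have := (Q : Subgroup G).mul_mem ((Q : Subgroup G).mul_mem ((Q : Subgroup G).inv_mem hx) hd') hx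
        simpa [mul_assoc] using this
      have : x * d * x⁻¹ = d := by
        rw [hcomm Q x hx d hdQ, mul_assoc, mul_inv_cancel, mul_one]
      rw [this] at hd; exact hd
  -- `D` lies in every Sylow subgroup
  have hDR : ∀ R : Sylow p G, D ≤ (R : Subgroup G) := by
    intro R
    -- the `p`-subgroup `R ⊓ N` of `N`
    have hpg : IsPGroup p (((R : Subgroup G) ⊓ N).subgroupOf N) := by
      have h1 : IsPGroup p ((R : Subgroup G) ⊓ N : Subgroup G) := R.isPGroup'.to_le inf_le_left
      exact h1.comap_subtype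
    obtain ⟨Q', hQ'⟩ := hpg.exists_le_sylow
    obtain ⟨x, hx⟩ := MulAction.exists_smul_eq N Q' (P.subtype hPN)
    -- conjugating `R ⊓ N` by `x` lands in `P`
    have hconj : ∀ r ∈ (R : Subgroup G), r ∈ N → (x : G) * r * (x : G)⁻¹ ∈ (P : Subgroup G) := by
      intro r hrR hrN
      have h1 : (⟨r, hrN⟩ : N) ∈ (Q' : Subgroup N) := hQ' (by
        rw [Subgroup.mem_subgroupOf]
        exact ⟨hrR, hrN⟩)
      have h2 : x * ⟨r, hrN⟩ * x⁻¹ ∈ ((x • Q' : Sylow p N) : Subgroup N) := by
        rw [mem_smul_sylow]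
        simpa [mul_assoc] using h1
      rw [hx, Sylow.coe_subtype, Subgroup.mem_subgroupOf] at h2
      simpa using h2
    -- `(x • R) ⊓ Q ≤ D`
    have hle : (((x : G) • R : Sylow p G) : Subgroup G) ⊓ (Q : Subgroup G) ≤ D := by
      intro y hy
      have hyN : y ∈ N := hQN hy.2
      have hy1 : (x : G)⁻¹ * y * (x : G) ∈ (R : Subgroup G) := (mem_smul_sylow _ _ _).mp hy.1
      have hy2 : (x : G)⁻¹ * y * (x : G) ∈ N :=
        N.mul_mem (N.mul_mem (N.inv_mem x.2) hyN) x.2
      have := hconj _ hy1 hy2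
      have hyP : y ∈ (P : Subgroup G) := by simpa [mul_assoc] using this
      exact ⟨hyP, hy.2⟩
    have hcard := hmin (((x : G) • R : Sylow p G), Q)
    simp only at hcard
    have heq : D = (((x : G) • R : Sylow p G) : Subgroup G) ⊓ (Q : Subgroup G) :=
      (Subgroup.eq_of_le_of_card_ge hle hcard).symm
    intro d hd
    -- `x d x⁻¹ ∈ D`
    have hxd : (x : G) * d * (x : G)⁻¹ ∈ D := by
      have hxN : (x : G) ∈ Subgroup.normalizer (D : Set G) := x.2
      rw [Subgroup.mem_normalizer_iff] at hxN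
      exact (hxN d).mp hd
    rw [heq] at hxd
    have := (mem_smul_sylow _ _ _).mp hxd.1
    simpa [mul_assoc] using this
  -- the intersection of all Sylow subgroups is a normal `p`-subgroup
  set K : Subgroup G := ⨅ R : Sylow p G, (R : Subgroup G) with hK
  have hDK : D ≤ K := le_iInf hDR
  have hKn : K.Normal := by
    constructor
    intro n hn g
    rw [hK, Subgroup.mem_iInf] at hn ⊢
    intro R
    have := hn (g⁻¹ • R)
    rw [mem_smul_sylow] at this
    simpa [mul_assoc] using this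
  have hKp : IsPGroup p K := P.isPGroup'.to_le (iInf_le _ P)
  have hKbot : K = ⊥ := by
    rw [eq_bot_iff, ← hOp]
    exact le_sSup ⟨hKn, hKp⟩
  have hDbot : D = ⊥ := by
    rw [eq_bot_iff, ← hKbot]; exact hDK
  -- translate back to `S`
  obtain ⟨a, rfl⟩ := MulAction.exists_smul_eq G S P
  obtain ⟨b, rfl⟩ := MulAction.exists_smul_eq G S Q
  refine ⟨a⁻¹ * b, ?_⟩
  rw [eq_bot_iff]
  intro y hy
  have h1 : a * y * a⁻¹ ∈ D := by
    refine Subgroup.mem_inf.mpr ⟨?_, ?_⟩
    · rw [mem_smul_sylow]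
      have h0 : y ∈ (S : Subgroup G) := hy.1
      have h00 : a⁻¹ * (a * y * a⁻¹) * a = y := by group
      rw [h00]; exact h0
    · rw [mem_smul_sylow]
      have h0 := (mem_conj_smul _ _ _).mp hy.2
      have h00 : b⁻¹ * (a * y * a⁻¹) * b = (a⁻¹ * b)⁻¹ * y * (a⁻¹ * b) := by group
      rw [h00]; exact h0
  rw [hDbot, Subgroup.mem_bot] at h1
  rw [Subgroup.mem_bot]
  have : a⁻¹ * (a * y * a⁻¹) * a = a⁻¹ * 1 * a := by rw [h1]
  simpa [mul_assoc] using this

end Cfsg.Agent.S0060
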