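import Cfsg.Statements.S0062
import Mathlib.GroupTheory.Transfer
import Mathlib.GroupTheory.Nilpotent
import Mathlib.Tactic

set_option autoImplicit false
open Cfsg

namespace Cfsg.Agent.S0062

/-- A finite group whose order is a prime power is solvable. -/
theorem solvable_of_card_pow {H : Type*} [Group H] [Finite H] (r n : ℕ) (hr : r.Prime)
    (hH : Nat.card H = r ^ n) : Group.IsSolvable H := by
  have : Fact r.Prime := ⟨hr⟩
  have h : IsPGroup r H := IsPGroup.of_card hH
  have : Group.IsNilpotent H := h.isNilpotent
  infer_instance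

/-- extension: `N` normal with `N` of order `r^a` and quotient of order `s^b`. -/
theorem solvable_of_normal {G : Type*} [Group G] [Finite G] (N : Subgroup G) [N.Normal]
    (r s a b : ℕ) (hr : r.Prime) (hs : s.Prime) (hN : Nat.card N = r ^ a)
    (hQ : Nat.card (G ⧸ N) = s ^ b) : Group.IsSolvable G := by
  have := solvable_of_card_pow r a hr hN
  have := solvable_of_card_pow s b hs hQ
  exact (Group.isSolvable_iff_subgroup_quotient N).mpr ⟨inferInstance, inferInstance⟩

/-- the key case: the number of Sylow `p`-subgroups is not `q`. -/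
theorem keyCase {G : Type*} [Group G] [Finite G] (p q : ℕ) (hp : p.Prime) (hq : q.Prime)
    (hpq : p ≠ q) (hG : Nat.card G = p ^ 2 * q ^ 2)
    (hn : Nat.card (Sylow p G) ≠ q) : Group.IsSolvable G := by
  have : Fact p.Prime := ⟨hp⟩
  have : Fact q.Prime := ⟨hq⟩
  obtain ⟨P⟩ : Nonempty (Sylow p G) := inferInstance
  have hcop : Nat.Coprime p q := (Nat.coprime_primes hp hq).mpr hpq
  have hp0 : 0 < p := hp.pos
  have hq0 : 0 < q := hq.pos
  have hp2 : 0 < p ^ 2 := by positivity
  have hq2 : 0 < q ^ 2 := by positivity
  -- the order of `P`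
  have hfac : (Nat.card G).factorization p = 2 := by
    rw [hG, Nat.factorization_mul hp2.ne' hq2.ne']
    simp [hp, hq, hpq]
  have hP : Nat.card P = p ^ 2 := by
    rw [P.card_eq_multiplicity, hfac]
  have hidx : (P : Subgroup G).index = q ^ 2 := by
    have h1 := (P : Subgroup G).card_mul_index
    rw [hP, hG] at h1
    exact Nat.eq_of_mul_eq_mul_left (by positivity) h1
  have hdvd : Nat.card (Sylow p G) ∣ q ^ 2 := hidx ▸ P.card_dvd_index
  obtain ⟨k, hk, hkn⟩ := (Nat.dvd_prime_pow hq).mp hdvd
  interval_cases k
  · -- a unique Sylow subgroup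
    rw [pow_zero] at hkn
    have : Subsingleton (Sylow p G) := (Nat.card_eq_one_iff_unique.mp hkn).1
    have : (P : Subgroup G).Normal := P.normal_of_subsingleton
    refine solvable_of_normal (P : Subgroup G) p q 2 2 hp hq hP ?_
    rw [← Subgroup.index_eq_card]; exact hidx
  · exact absurd (by simpa using hkn) hn
  · -- self-normalizing abelian Sylow subgroup: Burnside
    have hNidx : (Subgroup.normalizer (P : Set G)).index = (P : Subgroup G).index := by
      rw [← P.card_eq_index_normalizer, hkn, hidx]
    have hNP : Subgroup.normalizer (P : Set G) = (P : Subgroup G) := by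
      have hle : (P : Subgroup G) ≤ Subgroup.normalizer (P : Set G) := Subgroup.le_normalizer
      have := Subgroup.relIndex_mul_index hle
      rw [hNidx] at this
      have hidxpos : 0 < (P : Subgroup G).index := by rw [hidx]; positivity
      have hrel : (P : Subgroup G).relIndex (Subgroup.normalizer (P : Set G)) = 1 := by
        nlinarith
      exact le_antisymm (Subgroup.relIndex_eq_one.mp hrel) hle
    have hcomm : ∀ a b : P, a * b = b * a := by
      have := IsPGroup.isMulCommutative_of_card_eq_prime_sq hP
      exact fun a b => mul_comm' a b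
    have hNC : Subgroup.normalizer (P : Set G) ≤ Subgroup.centralizer (P : Set G) := by
      rw [hNP]
      intro x hx y hy
      have := hcomm ⟨y, hy⟩ ⟨x, hx⟩
      exact congrArg Subtype.val this
    have hcompl := MonoidHom.ker_transferSylow_isComplement' P hNC
    set K := (MonoidHom.transferSylow P hNC).ker with hK
    have hcard := hcompl.card_mul_card
    rw [hP, hG] at hcard
    have hKcard : Nat.card K = q ^ 2 := by
      have : Nat.card K * p ^ 2 = q ^ 2 * p ^ 2 := by rw [hcard]; ring
      exact Nat.eq_of_mul_eq_mul_right (by positivity) this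
    refine solvable_of_normal K q p 2 2 hq hp hKcard ?_
    rw [← Subgroup.index_eq_card]
    have h1 := K.card_mul_index
    rw [hKcard, hG] at h1
    have : q ^ 2 * K.index = q ^ 2 * p ^ 2 := by rw [h1]; ring
    exact Nat.eq_of_mul_eq_mul_left (by positivity) this

/-- A finite group of order p^2 * q^2 with p and q prime is solvable. -/
theorem result {G : Type*} [Group G] [Finite G] (p q : ℕ) (hp : p.Prime) (hq : q.Prime)
    (hG : Nat.card G = p ^ 2 * q ^ 2) : Group.IsSolvable G := by
  by_cases hpq : p = q
  · subst hpq
    exact solvable_of_card_pow p 4 hp (by rw [hG]; ring)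
  have : Fact p.Prime := ⟨hp⟩
  have : Fact q.Prime := ⟨hq⟩
  by_cases hn : Nat.card (Sylow p G) = q
  · -- then `q ≡ 1 mod p`, so `p < q`, so the number of Sylow `q`-subgroups is not `p`
    have h1 : Nat.card (Sylow p G) ≡ 1 [MOD p] := card_sylow_modEq_one p G
    rw [hn] at h1
    have hlt : p < q := by
      have hq1 : 1 < q := hq.one_lt
      have : p ∣ q - 1 := (Nat.modEq_iff_dvd' hq1.le).mp h1.symm
      have := Nat.le_of_dvd (by omega) this
      omega
    refine keyCase q p hq hp (Ne.symm hpq) (by rw [hG]; ring) ?_
    intro hn'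
    have h2 : Nat.card (Sylow q G) ≡ 1 [MOD q] := card_sylow_modEq_one q G
    rw [hn'] at h2
    have hp1 : 1 < p := hp.one_lt
    have : q ∣ p - 1 := (Nat.modEq_iff_dvd' hp1.le).mp h2.symm
    have := Nat.le_of_dvd (by omega) this
    omega
  · exact keyCase p q hp hq hpq hG hn

end Cfsg.Agent.S0062
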