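import Cfsg.Statements.S0063

set_option autoImplicit false
open Cfsg

namespace Cfsg.Agent.S0063

universe u

/-- order of the central quotient of a group of order `p ^ m` with `0 < m`. -/
theorem card_quotient_center (p : ℕ) [Fact p.Prime] {G : Type u} [Group G] [Finite G] (m : ℕ)
    (hm : 0 < m) (hG : Nat.card G = p ^ m) :
    ∃ k, 0 < k ∧ k ≤ m ∧ Nat.card (G ⧸ Subgroup.center G) = p ^ (m - k) := by
  have hp : p.Prime := Fact.out
  obtain ⟨k, hk0, hk⟩ := IsPGroup.card_center_eq_prime_pow hG hm
  have h1 := Subgroup.card_eq_card_quotient_mul_card_subgroup (Subgroup.center G)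
  rw [hG, hk] at h1
  have hkm : k ≤ m := by
    have : p ^ k ∣ p ^ m := ⟨_, by rw [h1, mul_comm]⟩
    exact (Nat.pow_dvd_pow_iff_le_right hp.one_lt).mp this
  refine ⟨k, hk0, hkm, ?_⟩
  have h2 : p ^ m = p ^ (m - k) * p ^ k := by rw [← pow_add, Nat.sub_add_cancel hkm]
  rw [h2] at h1
  exact (Nat.eq_of_mul_eq_mul_right (pow_pos hp.pos k) h1).symm

theorem class_le_aux (p : ℕ) [Fact p.Prime] : ∀ (m : ℕ) (G : Type u) [Group G] [Finite G],
    Nat.card G = p ^ m → Group.nilpotencyClass G ≤ m := by
  intro m
  induction m using Nat.strong_induction_on with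
  | _ m ih =>
    intro G _ _ hG
    have hnil : Group.IsNilpotent G := (IsPGroup.of_card hG).isNilpotent
    rcases Nat.eq_zero_or_pos m with rfl | hm
    · have : Subsingleton G := by
        rw [pow_zero] at hG
        exact (Nat.card_eq_one_iff_unique.mp hG).1
      rw [Group.nilpotencyClass_zero_iff_subsingleton.mpr this]
    · obtain ⟨k, hk0, hkm, hq⟩ := card_quotient_center p m hm hG
      have h1 := ih (m - k) (by omega) (G ⧸ Subgroup.center G) hq
      rw [Group.nilpotencyClass_quotient_center] at h1
      omega

theorem class_le_pred (p : ℕ) [Fact p.Prime] : ∀ (m : ℕ), 2 ≤ m → ∀ (G : Type u) [Group G] [Finite G],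
    Nat.card G = p ^ m → Group.nilpotencyClass G ≤ m - 1 := by
  intro m hm
  induction m, hm using Nat.le_induction with
  | base =>
    intro G _ _ hG
    have hnil : Group.IsNilpotent G := (IsPGroup.of_card hG).isNilpotent
    have hcomm : IsMulCommutative G := IsPGroup.isMulCommutative_of_card_eq_prime_sq hG
    rw [← Subgroup.upperCentralSeries_eq_top_iff_nilpotencyClass_le, Subgroup.upperCentralSeries_one,
      Subgroup.center_eq_top_iff]
    exact hcomm
  | succ m hm ih =>
    intro G _ _ hG
    have hnil : Group.IsNilpotent G := (IsPGroup.of_card hG).isNilpotent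
    obtain ⟨k, hk0, hkm, hq⟩ := card_quotient_center p (m + 1) (by omega) hG
    rcases Nat.lt_or_ge 1 k with hk | hk
    · have h1 := class_le_aux p (m + 1 - k) (G ⧸ Subgroup.center G) hq
      rw [Group.nilpotencyClass_quotient_center] at h1
      omega
    · have hk1 : k = 1 := by omega
      subst hk1
      have h1 := ih (G ⧸ Subgroup.center G) (by simpa using hq)
      rw [Group.nilpotencyClass_quotient_center] at h1
      omega

/-- A finite group of prime-power order p ^ m with m > 1 is nilpotent of class at most m - 1. -/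
theorem result {G : Type*} [Group G] [Finite G] (p m : ℕ) [Fact p.Prime]
    (hG : Nat.card G = p ^ m) (hm : 1 < m) : Group.nilpotencyClass G ≤ m - 1 :=
  class_le_pred p m hm G hG

end Cfsg.Agent.S0063
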