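import Cfsg.Statements.S0064

set_option autoImplicit false
open Cfsg

namespace Cfsg.Agent.S0064

open Subgroup

theorem card_lt_card_of_lt {G : Type*} [Group G] [Finite G] {H K : Subgroup G} (h : H < K) :
    Nat.card H < Nat.card K := by
  have h1 : (H : Set G) ⊂ (K : Set G) := SetLike.coe_ssubset_coe.mpr h
  have h2 := Set.ncard_lt_ncard h1 (Set.toFinite _)
  rwa [← Nat.card_coe_set_eq, ← Nat.card_coe_set_eq] at h2

theorem isSubnormal_of_normalizerCondition {G : Type*} [Group G] [Finite G]
    (hnc : NormalizerCondition G) : ∀ (n : ℕ) (H : Subgroup G), Nat.card G - Nat.card H = n →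
    H.IsSubnormal := by
  intro n
  induction n using Nat.strong_induction_on with
  | _ n ih =>
    intro H hn
    by_cases hH : H = ⊤
    · subst hH; exact IsSubnormal.top
    · have hlt : H < normalizer (H : Set G) := hnc H (lt_top_iff_ne_top.mpr hH)
      have hcard : Nat.card H < Nat.card (normalizer (H : Set G)) :=
        card_lt_card_of_lt hlt
      have hle : Nat.card (normalizer (H : Set G)) ≤ Nat.card G := Subgroup.card_le_card_group _
      have := ih (Nat.card G - Nat.card (normalizer (H : Set G))) (by omega)
        (normalizer (H : Set G)) rfl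
      exact IsSubnormal.step H _ hlt.le this inferInstance

/-- A finite group is nilpotent exactly when each of its subgroups is subnormal. -/
theorem result {G : Type*} [Group G] [Finite G] :
    Group.IsNilpotent G ↔ ∀ H : Subgroup G, H.IsSubnormal := by
  constructor
  · intro h H
    exact isSubnormal_of_normalizerCondition Group.normalizerCondition_of_isNilpotent _ H rfl
  · intro h
    apply (Group.isNilpotent_of_finite_tfae (G := G)).out 0 1 rfl rfl |>.mpr
    intro H hH
    rcases IsSubnormal.iff_eq_top_or_exists.mp (h H) with rfl | ⟨K, hHK, -, hN⟩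
    · exact absurd rfl hH.ne
    · have : K ≤ normalizer (H : Set G) :=
        (normal_subgroupOf_iff_le_normalizer hHK.le).mp hN
      exact lt_of_lt_of_le hHK this

end Cfsg.Agent.S0064
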