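import Cfsg.Statements.S0067
import Cfsg.Agent.S0199
import Cfsg.Agent.S0064
import Cfsg.Agent.Lib.Helper71_Fitting

set_option autoImplicit false
open Pointwise
open Cfsg

namespace Cfsg.Agent.S0067

open Subgroup Cfsg.Agent.Lib.Helper71_Fitting

/-- Two `p`-subgroups of a finite nilpotent subgroup `L` generate a `p`-group. -/
theorem isPGroup_sup_of_nilpotent {G : Type*} [Group G] [Finite G] {p : ℕ} [Fact p.Prime]
    (L X Y : Subgroup G) (hL : Group.IsNilpotent L) (hX : IsPGroup p X) (hY : IsPGroup p Y)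
    (hXL : X ≤ L) (hYL : Y ≤ L) : IsPGroup p (X ⊔ Y : Subgroup G) := by
  obtain ⟨Q, hQ⟩ := (hX.comap_subtype (K := L)).exists_le_sylow
  obtain ⟨Q', hQ'⟩ := (hY.comap_subtype (K := L)).exists_le_sylow
  have hQn : (Q : Subgroup L).Normal := inferInstance
  have : Subsingleton (Sylow p L) := (Sylow.unique_of_normal Q hQn).instSubsingleton
  have hQQ' : Q' = Q := Subsingleton.elim _ _
  rw [hQQ'] at hQ'
  have hp : IsPGroup p ((Q : Subgroup L).map L.subtype) := Q.2.map _
  apply hp.to_le
  apply sup_le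
  · intro x hx
    exact ⟨⟨x, hXL hx⟩, hQ (mem_subgroupOf.mpr hx), rfl⟩
  · intro y hy
    exact ⟨⟨y, hYL hy⟩, hQ' (mem_subgroupOf.mpr hy), rfl⟩

/-- If the join of a subgroup A with each of its conjugates is nilpotent, then A is subnormal in the finite group and contained in the Fitting subgroup. -/
theorem result {G : Type*} [Group G] [Finite G] (A : Subgroup G)
    (h : ∀ g : G, Group.IsNilpotent (A ⊔ MulAut.conj g • A : Subgroup G)) : A.IsSubnormal ∧ A ≤ Cfsg.fittingSubgroup G := by
  have hAF : A ≤ Cfsg.fittingSubgroup G := by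
    intro a ha
    apply mem_of_primePow_mem (Cfsg.fittingSubgroup G) a
    intro y hy p k hp hyo
    have : Fact p.Prime := ⟨hp⟩
    have hyA : y ∈ A := (zpowers_le.mpr ha) hy
    have hX : IsPGroup p (zpowers y) := by
      apply IsPGroup.of_card (n := k)
      rw [Nat.card_zpowers, hyo]
    have hXA : zpowers y ≤ A := zpowers_le.mpr hyA
    obtain ⟨N, hN, hNp, hXN⟩ := Cfsg.Agent.S0199.result (zpowers y) hX (fun g => by
      apply isPGroup_sup_of_nilpotent (A ⊔ MulAut.conj g • A) _ _ (h g) hX (hX.map _)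
      · exact hXA.trans le_sup_left
      · refine le_trans ?_ le_sup_right
        show (zpowers y).map (MulAut.conj g).toMonoidHom ≤ A.map (MulAut.conj g).toMonoidHom
        exact map_mono hXA)
    have hNF : N ≤ Cfsg.fittingSubgroup G := by
      apply le_sSup
      exact ⟨hN, hNp.isNilpotent⟩
    exact hNF (hXN (mem_zpowers y))
  refine ⟨?_, hAF⟩
  have hFnil : Group.IsNilpotent (Cfsg.fittingSubgroup G) := fittingSubgroup_isNilpotent
  have hFn : (Cfsg.fittingSubgroup G).Normal := fittingSubgroup_normal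
  have h1 : (A.subgroupOf (Cfsg.fittingSubgroup G)).IsSubnormal :=
    (Cfsg.Agent.S0064.result (G := Cfsg.fittingSubgroup G)).mp hFnil _
  exact IsSubnormal.trans hAF h1 hFn.isSubnormal

end Cfsg.Agent.S0067
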