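import Cfsg.Statements.S0068
import Mathlib.GroupTheory.FixedPointFree
import Mathlib.GroupTheory.GroupAction.ConjAct

set_option autoImplicit false
open Cfsg

namespace Cfsg.Agent.S0068

/-- Frobenius complements of even order: if H complements a nontrivial normal subgroup K, each nonidentity element of H has trivial centraliser in K, and H has even order, then H contains a unique involution s, K is abelian, and s inverts every element of K. -/
theorem result {G : Type*} [Group G] [Finite G] (K H : Subgroup G) [K.Normal]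
    (hc : Subgroup.IsComplement' K H) (hK : K ≠ ⊥) (hfpf : ∀ h ∈ H, h ≠ 1 → K ⊓ Subgroup.centralizer {h} = ⊥)
    (heven : 2 ∣ Nat.card H) :
    (∃ s ∈ H, orderOf s = 2 ∧ (∀ t ∈ H, orderOf t = 2 → t = s) ∧ ∀ k ∈ K, s * k * s⁻¹ = k⁻¹) ∧ IsMulCommutative K := by
  -- every involution of `H` acts on `K` by inversion, and `K` is commutative
  have key : ∀ s ∈ H, orderOf s = 2 →
      (∀ k ∈ K, s * k * s⁻¹ = k⁻¹) ∧ IsMulCommutative K := by
    intro s hsH hs2
    have hs1 : s ≠ 1 := by
      rintro rfl
      rw [orderOf_one] at hs2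
      omega
    have hss : s * s = 1 := by
      have := pow_orderOf_eq_one s
      rwa [hs2, pow_two] at this
    have hsinv : s⁻¹ = s := inv_eq_of_mul_eq_one_right hss
    let φ : MulAut K := MulAut.conjNormal s
    have hφ : MonoidHom.FixedPointFree φ := by
      intro k hk
      have h1 : s * (k : G) * s⁻¹ = k := by
        have := congrArg Subtype.val hk
        rwa [MulAut.conjNormal_apply] at this
      have h2 : (k : G) ∈ K ⊓ Subgroup.centralizer {s} := by
        refine ⟨k.2, ?_⟩
        show (k : G) ∈ Subgroup.centralizer {s}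
        rw [Subgroup.mem_centralizer_singleton_iff]
        have := congrArg (fun t => t * s) h1
        simpa [mul_assoc] using this.symm
      rw [hfpf s hsH hs1, Subgroup.mem_bot] at h2
      exact Subtype.ext h2
    have hinv : Function.Involutive φ := by
      intro k
      apply Subtype.ext
      rw [MulAut.conjNormal_apply, MulAut.conjNormal_apply, hsinv]
      calc s * (s * (k : G) * s) * s = (s * s) * k * (s * s) := by simp [mul_assoc]
        _ = k := by rw [hss]; simp
    refine ⟨?_, ?_⟩
    · intro k hk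
      have := congrFun (hφ.coe_eq_inv_of_involutive hinv) ⟨k, hk⟩
      have := congrArg Subtype.val this
      rwa [MulAut.conjNormal_apply] at this
    · exact ⟨⟨fun a b => hφ.commute_all_of_involutive hinv a b⟩⟩
  -- existence of an involution
  obtain ⟨⟨s, hsH⟩, hs⟩ := exists_prime_orderOf_dvd_card' (G := H) 2 heven
  have hs2 : orderOf s = 2 := by rwa [← Subgroup.orderOf_mk s hsH]
  obtain ⟨hsinv, hcomm⟩ := key s hsH hs2
  refine ⟨⟨s, hsH, hs2, ?_, hsinv⟩, hcomm⟩
  intro t htH ht2
  obtain ⟨htinv, -⟩ := key t htH ht2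
  -- `t⁻¹ * s` centralises `K`
  by_contra hne
  have hne' : t⁻¹ * s ≠ 1 := by
    intro h
    apply hne
    have := eq_of_inv_mul_eq_one h
    exact this
  have hmem : t⁻¹ * s ∈ H := H.mul_mem (H.inv_mem htH) hsH
  have hbot := hfpf _ hmem hne'
  apply hK
  rw [eq_bot_iff, ← hbot]
  intro k hk
  refine ⟨hk, ?_⟩
  show k ∈ Subgroup.centralizer {t⁻¹ * s}
  rw [Subgroup.mem_centralizer_singleton_iff]
  -- s k s⁻¹ = k⁻¹ = t k t⁻¹
  have h1 := hsinv k hk
  have h2 := htinv k hk
  have h3 : t⁻¹ * (s * k * s⁻¹) * t = k := by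
    rw [h1, ← h2]; simp [mul_assoc]
  calc k * (t⁻¹ * s) = t⁻¹ * (s * k * s⁻¹) * t * (t⁻¹ * s) := by rw [h3]
    _ = t⁻¹ * s * k := by simp [mul_assoc]

end Cfsg.Agent.S0068
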