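import Cfsg.Statements.S0069
import Cfsg.Agent.S0068
import Cfsg.Agent.S0040
import Cfsg.Agent.S0061
import Cfsg.Agent.Lib.Helper1_FPF
import Cfsg.Agent.Lib.Helper1_Coprime
import Cfsg.Agent.Lib.Helper24_Coprime
import Cfsg.Agent.Lib.Helper17_Sylow

set_option autoImplicit false
open Cfsg

namespace Cfsg.Agent.S0069

open Subgroup
open Cfsg.Agent.Lib

/-- the `pq`-lemma for fixed-point-free actions on an arbitrary (not necessarily abelian) group:
an element `z` of prime order `p` of `H` normalizing the subgroup generated by an element `y` of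
prime order `q ≠ p` of `H` commutes with `y`. -/
theorem commute_of_fpf {G : Type*} [Group G] [Finite G] (K H : Subgroup G)
    (hHK : H ≤ normalizer (K : Set G)) (hK : K ≠ ⊥)
    (hfpf : ∀ h ∈ H, h ≠ 1 → K ⊓ centralizer {h} = ⊥) {p q : ℕ} (hp : p.Prime) (hq : q.Prime)
    (hpq : p ≠ q) (z y : G) (hz : z ∈ H) (hy : y ∈ H) (hzo : orderOf z = p) (hyo : orderOf y = q)
    (hzy : z * y * z⁻¹ ∈ zpowers y) : z * y = y * z := by
  classical
  have hpf : Fact p.Prime := ⟨hp⟩
  have hqf : Fact q.Prime := ⟨hq⟩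
  have hcpq : Nat.Coprime p q := (Nat.coprime_primes hp hq).mpr hpq
  -- `z` normalizes `⟨y⟩`
  have hZY : zpowers z ≤ normalizer ((zpowers y : Subgroup G) : Set G) := by
    rw [zpowers_le]
    apply mem_normalizer_fintype
    intro n hn
    obtain ⟨i, rfl⟩ := mem_zpowers_iff.mp hn
    have : z * y ^ i * z⁻¹ = (z * y * z⁻¹) ^ i := by
      rw [conj_zpow]
    rw [this]
    exact zpow_mem hzy i
  have hd : zpowers z ⊓ zpowers y = ⊥ := by
    rw [eq_bot_iff]
    intro x hx
    have h1 : orderOf x ∣ p := hzo ▸ orderOf_dvd_of_mem_zpowers hx.1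
    have h2 : orderOf x ∣ q := hyo ▸ orderOf_dvd_of_mem_zpowers hx.2
    have h3 := Nat.dvd_gcd h1 h2
    rw [hcpq, Nat.dvd_one, orderOf_eq_one_iff] at h3
    exact mem_bot.mpr h3
  obtain ⟨A, hAdef⟩ : ∃ A : Subgroup G, A = zpowers z ⊔ zpowers y := ⟨_, rfl⟩
  have hA : Nat.card A = p * q := by
    rw [hAdef, Helper1_FPF.card_sup_of_le_normalizer _ _ hZY hd, Nat.card_zpowers,
      Nat.card_zpowers, hzo, hyo]
  have hzA : z ∈ A := hAdef ▸ (le_sup_left : zpowers z ≤ _) (mem_zpowers z)
  have hyA : y ∈ A := hAdef ▸ (le_sup_right : zpowers y ≤ _) (mem_zpowers y)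
  have hAH : A ≤ H := by
    rw [hAdef]; exact sup_le (zpowers_le.mpr hz) (zpowers_le.mpr hy)
  have hAK : A ≤ normalizer (K : Set G) := hAH.trans hHK
  have hfpfA : ∀ a ∈ A, a ≠ 1 → K ⊓ centralizer {a} = ⊥ := fun a ha => hfpf a (hAH ha)
  have hpA : p ∣ Nat.card A := hA ▸ dvd_mul_right p q
  have hqA : q ∣ Nat.card A := hA ▸ dvd_mul_left q p
  have hcop : (Nat.card A).Coprime (Nat.card K) := by
    rw [hA]
    apply Nat.Coprime.mul_left
    · exact (Nat.Prime.coprime_iff_not_dvd hp).mpr
        (Helper1_FPF.not_dvd_card_of_fpf A K hAK hfpfA hpA)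
    · exact (Nat.Prime.coprime_iff_not_dvd hq).mpr
        (Helper1_FPF.not_dvd_card_of_fpf A K hAK hfpfA hqA)
  have hsolv : Group.IsSolvable A :=
    Cfsg.Agent.S0061.result p q 1 hp hq (by rw [hA, pow_one])
  -- an `A`-invariant Sylow subgroup of `K`
  have hcardK : Nat.card K ≠ 1 := fun h => hK (card_eq_one.mp h)
  obtain ⟨r, hrdef⟩ : ∃ r, r = (Nat.card K).minFac := ⟨_, rfl⟩
  have hr : r.Prime := hrdef ▸ Nat.minFac_prime hcardK
  have hrK : r ∣ Nat.card K := hrdef ▸ Nat.minFac_dvd _
  have hrf : Fact r.Prime := ⟨hr⟩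
  obtain ⟨R, hR⟩ := Helper1_Coprime.exists_invariant_sylow A K hAK hcop (Or.inl hsolv) r
  obtain ⟨RG, hRG⟩ : ∃ RG : Subgroup G, RG = (R : Subgroup K).map K.subtype := ⟨_, rfl⟩
  rw [← hRG] at hR
  have hRGK : RG ≤ K := hRG ▸ map_subtype_le _
  have hRGp : IsPGroup r RG := hRG ▸ R.2.map _
  have hRGne : RG ≠ ⊥ := by
    intro h
    have h1 : (R : Subgroup K) = ⊥ := by
      rw [hRG] at h
      exact (map_eq_bot_iff_of_injective _ K.subtype_injective).mp h
    exact R.ne_bot_of_dvd_card hrK h1
  -- the centre of `RG`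
  obtain ⟨V, hV⟩ : ∃ V : Subgroup G, V = RG ⊓ centralizer (RG : Set G) := ⟨_, rfl⟩
  have hVK : V ≤ K := hV ▸ inf_le_left.trans hRGK
  have hVcomm : IsMulCommutative V := by
    refine ⟨⟨fun a b => Subtype.ext ?_⟩⟩
    have ha : (a : G) ∈ RG := (hV ▸ a.2 : (a : G) ∈ RG ⊓ centralizer (RG : Set G)).1
    have hb : (b : G) ∈ centralizer (RG : Set G) :=
      (hV ▸ b.2 : (b : G) ∈ RG ⊓ centralizer (RG : Set G)).2
    exact (mem_centralizer_iff.mp hb) a ha
  have hVne : V ≠ ⊥ := by
    have hnt : Nontrivial RG := (nontrivial_iff_ne_bot RG).mpr hRGne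
    have hcnt : Nontrivial (center RG) := hRGp.center_nontrivial
    obtain ⟨c, hc⟩ := exists_ne (1 : center RG)
    intro hbot
    have hcV : ((c : RG) : G) ∈ V := by
      rw [hV]
      refine mem_inf.mpr ⟨(c : RG).2, ?_⟩
      rw [mem_centralizer_iff]
      intro w hw
      have := (mem_center_iff.mp c.2) ⟨w, hw⟩
      exact congrArg Subtype.val this
    rw [hbot, mem_bot] at hcV
    apply hc
    apply Subtype.ext
    apply Subtype.ext
    exact hcV
  have hAV : A ≤ normalizer (V : Set G) := by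
    intro a ha
    apply mem_normalizer_fintype
    intro x hx
    have hx' : x ∈ RG ⊓ centralizer (RG : Set G) := hV ▸ hx
    have haR := hR ha
    rw [SetLike.mem_coe, hV]
    refine mem_inf.mpr ⟨(mem_normalizer_iff.mp haR x).mp hx'.1, ?_⟩
    rw [mem_centralizer_iff]
    intro w hw
    have hw' : a⁻¹ * w * a ∈ RG := by
      have := (mem_normalizer_iff.mp (inv_mem haR) w).mp hw
      simpa using this
    have h1 := (mem_centralizer_iff.mp hx'.2) _ hw'
    calc w * (a * x * a⁻¹) = a * ((a⁻¹ * w * a) * x) * a⁻¹ := by group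
      _ = a * (x * (a⁻¹ * w * a)) * a⁻¹ := by rw [h1]
      _ = a * x * a⁻¹ * w := by group
  have hfpfV : ∀ a ∈ A, a ≠ 1 → V ⊓ centralizer {a} = ⊥ := by
    intro a ha ha1
    rw [eq_bot_iff, ← hfpfA a ha ha1]
    exact inf_le_inf_right _ hVK
  have hcyc : IsCyclic A := Helper1_FPF.isCyclic_of_fpf_of_card A V hVne hAV hfpfV hp hq hA
  have := (IsCyclic.commGroup (α := A)).mul_comm ⟨z, hzA⟩ ⟨y, hyA⟩
  exact congrArg Subtype.val this

/-- A Frobenius complement has nontrivial centre: if H ≠ 1 complements a nontrivial normal subgroup K and every nonidentity element of H has trivial centraliser in K, then the centre of H is nontrivial. -/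
theorem result {G : Type*} [Group G] [Finite G] (K H : Subgroup G) [K.Normal]
    (hc : Subgroup.IsComplement' K H) (hK : K ≠ ⊥) (hH : H ≠ ⊥) (hfpf : ∀ h ∈ H, h ≠ 1 → K ⊓ Subgroup.centralizer {h} = ⊥) :
    Subgroup.center H ≠ ⊥ := by
  classical
  have hHK : H ≤ normalizer (K : Set G) := by
    rw [normalizer_eq_top]; exact le_top
  by_cases heven : 2 ∣ Nat.card H
  · obtain ⟨⟨s, hsH, hs2, hsu, -⟩, -⟩ := Cfsg.Agent.S0068.result K H hc hK hfpf heven
    intro hbot
    have hmem : (⟨s, hsH⟩ : H) ∈ center H := by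
      rw [mem_center_iff]
      intro g
      have h1 : (g : G) * s * (g : G)⁻¹ = s :=
        hsu _ (H.mul_mem (H.mul_mem g.2 hsH) (H.inv_mem g.2))
          (by rw [Helper17_Sylow.orderOf_conj']; exact hs2)
      apply Subtype.ext
      change (g : G) * s = s * g
      calc (g : G) * s = ((g : G) * s * (g : G)⁻¹) * g := by group
        _ = s * g := by rw [h1]
    rw [hbot, mem_bot] at hmem
    have hs1 : s = 1 := congrArg Subtype.val hmem
    rw [hs1, orderOf_one] at hs2
    omega
  · -- odd order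
    have hcard1 : Nat.card H ≠ 1 := fun h => hH (card_eq_one.mp h)
    obtain ⟨p, hpdef⟩ : ∃ p, (Nat.card H).minFac = p := ⟨_, rfl⟩
    have hp : p.Prime := hpdef ▸ Nat.minFac_prime hcard1
    have hpH : p ∣ Nat.card H := hpdef ▸ Nat.minFac_dvd _
    have hpf : Fact p.Prime := ⟨hp⟩
    obtain ⟨P⟩ : Nonempty (Sylow p H) := inferInstance
    have hPcyc : IsCyclic P := by
      rcases Cfsg.Agent.S0040.result K H hc hK hfpf p P with h | ⟨n, ⟨e⟩⟩
      · exact h
      · exfalso
        have h1 : Nat.card P = 4 * 2 ^ n := by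
          have : NeZero (2 ^ n) := ⟨by positivity⟩
          rw [Nat.card_congr e.toEquiv, Nat.card_eq_fintype_card, QuaternionGroup.card]
        have h2 : Nat.card P ∣ Nat.card H := card_subgroup_dvd_card (P : Subgroup H)
        apply heven
        refine Dvd.dvd.trans ?_ h2
        rw [h1]
        exact ⟨2 * 2 ^ n, by ring⟩
    have hMP := IsCyclic.isComplement' hpdef hPcyc
    have hNC := IsCyclic.normalizer_le_centralizer hpdef hPcyc
    obtain ⟨M, hM⟩ : ∃ M : Subgroup H, M = (MonoidHom.transferSylow P hNC).ker := ⟨_, rfl⟩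
    rw [← hM] at hMP
    have hMn : M.Normal := hM ▸ inferInstance
    -- an element of order `p` in `P`
    have hPne : (P : Subgroup H) ≠ ⊥ := P.ne_bot_of_dvd_card hpH
    have hpP : p ∣ Nat.card P := by
      rcases P.2.card_eq_or_dvd with h | h
      · exact absurd (card_eq_one.mp h) hPne
      · exact h
    obtain ⟨zP, hzP⟩ := exists_prime_orderOf_dvd_card' p hpP
    obtain ⟨zH, hzH⟩ : ∃ zH : H, zH = (zP : H) := ⟨_, rfl⟩
    obtain ⟨z, hz⟩ : ∃ z : G, z = (zH : G) := ⟨_, rfl⟩
    have hzo : orderOf z = p := by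
      rw [hz, orderOf_coe, hzH, orderOf_coe]; exact hzP
    have hzmem : z ∈ H := hz ▸ zH.2
    have hz1 : z ≠ 1 := by
      intro h
      rw [h, orderOf_one] at hzo
      exact hp.one_lt.ne hzo
    -- `z` centralizes `P`
    have hPC : (P : Subgroup H) ≤ centralizer {zH} := by
      intro x hx
      rw [mem_centralizer_iff]
      intro y hy
      rw [Set.mem_singleton_iff] at hy
      rw [hy, hzH]
      have := (IsCyclic.commGroup (α := P)).mul_comm zP ⟨x, hx⟩
      exact congrArg Subtype.val this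
    -- `z` centralizes `M`
    obtain ⟨MG, hMG⟩ : ∃ MG : Subgroup G, MG = M.map H.subtype := ⟨_, rfl⟩
    have hMGH : MG ≤ H := hMG ▸ map_subtype_le _
    have hcardMG : Nat.card MG = Nat.card M := by
      rw [hMG]; exact card_map_of_injective H.subtype_injective
    have hpM : ¬ p ∣ Nat.card M := by
      have h1 : Nat.card M = (P : Subgroup H).index := hMP.index_eq_card.symm
      rw [h1]; exact P.not_dvd_index
    have hzMG : zpowers z ≤ normalizer (MG : Set G) := by
      rw [zpowers_le]
      apply mem_normalizer_fintype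
      intro x hx
      rw [SetLike.mem_coe, hMG] at hx ⊢
      obtain ⟨m, hm, rfl⟩ := hx
      refine ⟨zH * m * zH⁻¹, hMn.conj_mem m hm zH, ?_⟩
      rw [hz]; rfl
    have hcopz : (Nat.card (zpowers z)).Coprime (Nat.card MG) := by
      rw [Nat.card_zpowers, hzo, hcardMG]
      exact (Nat.Prime.coprime_iff_not_dvd hp).mpr hpM
    have hsolvz : Group.IsSolvable (zpowers z) := inferInstance
    have hMGC : MG ≤ centralizer {z} := by
      obtain ⟨C', hC'⟩ : ∃ C' : Subgroup MG, C' = (centralizer {z}).subgroupOf MG := ⟨_, rfl⟩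
      suffices hidx : C'.index = 1 by
        have := index_eq_one.mp hidx
        rw [hC', subgroupOf_eq_top] at this
        exact this
      by_contra hne
      obtain ⟨q, hq, hqd⟩ := Nat.exists_prime_and_dvd hne
      have hqf : Fact q.Prime := ⟨hq⟩
      have hqMG : q ∣ Nat.card MG := hqd.trans (index_dvd_card C')
      have hqH : q ∣ Nat.card H := hqMG.trans (card_dvd_of_le hMGH)
      have hq2 : q ≠ 2 := by
        rintro rfl
        exact heven hqH
      have hqp : p ≠ q := by
        rintro rfl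
        rw [hcardMG] at hqMG
        exact hpM hqMG
      obtain ⟨Q, hQ⟩ := Helper1_Coprime.exists_invariant_sylow (zpowers z) MG hzMG hcopz
        (Or.inl hsolvz) q
      obtain ⟨QG, hQG⟩ : ∃ QG : Subgroup G, QG = (Q : Subgroup MG).map MG.subtype := ⟨_, rfl⟩
      rw [← hQG] at hQ
      have hQGp : IsPGroup q QG := hQG ▸ Q.2.map _
      have hQGH : QG ≤ H := (hQG ▸ map_subtype_le _ : QG ≤ MG).trans hMGH
      have hzN : z ∈ normalizer (QG : Set G) := hQ (mem_zpowers z)
      have hinv : ∀ x ∈ QG, z * x * z⁻¹ ∈ QG := fun x hx => (mem_normalizer_iff.mp hzN x).mp hx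
      have hzq : (orderOf z).Coprime q := by
        rw [hzo]; exact (Nat.coprime_primes hp hq).mpr hqp
      have hΩ : ∀ x ∈ QG, x ^ q = 1 → z * x = x * z := by
        intro x hx hxq
        by_cases hx1 : x = 1
        · rw [hx1, mul_one, one_mul]
        · have hxo : orderOf x = q := orderOf_eq_prime hxq hx1
          apply commute_of_fpf K H hHK hK hfpf hp hq hqp z x hzmem (hQGH hx) hzo hxo
          have hB : zpowers x = zpowers (z * x * z⁻¹) := by
            apply Helper1_FPF.unique_subgroup_card_prime K H hHK hK hfpf QG hQGH hQGp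
            · exact zpowers_le.mpr hx
            · exact zpowers_le.mpr (hinv x hx)
            · rw [Nat.card_zpowers, hxo]
            · rw [Nat.card_zpowers, Helper17_Sylow.orderOf_conj', hxo]
          rw [hB]
          exact mem_zpowers _
      have hcent := Helper24_Coprime.centralizes_pgroup_of_centralizes_omega q hq2 z hzq QG hQGp
        hinv hΩ
      have hQle : (Q : Subgroup MG) ≤ C' := by
        intro x hx
        rw [hC', mem_subgroupOf, mem_centralizer_iff]
        intro y hy
        rw [Set.mem_singleton_iff] at hy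
        rw [hy]
        exact hcent x (hQG ▸ ⟨x, hx, rfl⟩)
      have h3 : C'.index ∣ (Q : Subgroup MG).index := index_dvd_of_le hQle
      exact Q.not_dvd_index (hqd.trans h3)
    have hMC : M ≤ centralizer {zH} := by
      intro m hm
      rw [mem_centralizer_iff]
      intro y hy
      rw [Set.mem_singleton_iff] at hy
      rw [hy]
      have h1 : (m : G) ∈ MG := hMG ▸ ⟨m, hm, rfl⟩
      have h2 := (mem_centralizer_iff.mp (hMGC h1)) z (Set.mem_singleton z)
      apply Subtype.ext
      rw [hz] at h2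
      exact h2
    -- conclusion
    have htop : (centralizer {zH} : Subgroup H) = ⊤ := by
      rw [eq_top_iff, ← hMP.sup_eq_top]
      exact sup_le hMC hPC
    intro hbot
    have hmem : zH ∈ center H := by
      rw [mem_center_iff]
      intro g
      have hg : g ∈ centralizer {zH} := htop ▸ mem_top g
      exact ((mem_centralizer_iff.mp hg) zH (Set.mem_singleton zH)).symm
    rw [hbot, mem_bot] at hmem
    apply hz1
    rw [hz, hmem]; rfl

end Cfsg.Agent.S0069
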