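import Cfsg.Statements.S0073
import Mathlib

set_option autoImplicit false
open Cfsg

namespace Cfsg.Agent.S0073

/-- A non-abelian simple group is not a `p`-group. -/
theorem not_pgroup {G : Type*} [Group G] [Finite G] [IsSimpleGroup G]
    (hG : ∃ x y : G, x * y ≠ y * x) (p : ℕ) [Fact p.Prime] (h : IsPGroup p G) : False := by
  obtain ⟨x, y, hxy⟩ := hG
  have hnil : Group.IsNilpotent G := h.isNilpotent
  have hsol : Group.IsSolvable G := inferInstance
  exact hxy (IsSimpleGroup.comm_iff_isSolvable.2 hsol x y)

/-- A nontrivial Sylow subgroup of a non-abelian simple group has no normal complement. -/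
theorem no_normal_complement {G : Type*} [Group G] [Finite G] [IsSimpleGroup G]
    (hG : ∃ x y : G, x * y ≠ y * x) (p : ℕ) [Fact p.Prime] (P : Sylow p G)
    (hP : (P : Subgroup G) ≠ ⊥) (K : Subgroup G) [K.Normal] (hK : K.IsComplement' P) : False := by
  rcases IsSimpleGroup.eq_bot_or_eq_top_of_normal K ‹_› with h | h
  · have h1 := hK.card_mul_card
    rw [h, Subgroup.card_bot, one_mul] at h1
    have h2 : (P : Subgroup G) = ⊤ := (Subgroup.card_eq_iff_eq_top _).1 h1
    apply not_pgroup hG p
    have := P.isPGroup'
    rw [h2] at this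
    exact this.of_equiv Subgroup.topEquiv
  · have h1 := hK.card_mul_card
    rw [h, Subgroup.card_top] at h1
    have h2 : Nat.card (P : Subgroup G) = 1 := by
      have hpos : 0 < Nat.card G := Nat.card_pos
      exact Nat.eq_of_mul_eq_mul_left hpos (by rw [h1, mul_one])
    exact hP ((Subgroup.card_eq_one).1 h2)


/-- For a finite non-abelian simple group, either the cube of the least prime divisor of the order divides the order, or 12 does. -/
theorem result {G : Type*} [Group G] [Finite G] [IsSimpleGroup G] (hG : ∃ x y : G, x * y ≠ y * x) : (Nat.card G).minFac ^ 3 ∣ Nat.card G ∨ 12 ∣ Nat.card G := by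
  classical
  have hcard1 : Nat.card G ≠ 1 := by
    intro h
    obtain ⟨x, y, hxy⟩ := hG
    have := (Nat.card_eq_one_iff_unique.mp h).1
    exact hxy (Subsingleton.elim _ _)
  set p := (Nat.card G).minFac with hp
  have hpp : p.Prime := Nat.minFac_prime hcard1
  have : Fact p.Prime := ⟨hpp⟩
  have hpdvd : p ∣ Nat.card G := Nat.minFac_dvd _
  by_contra hcon
  push Not at hcon
  obtain ⟨hcon1, hcon2⟩ := hcon
  obtain ⟨P⟩ : Nonempty (Sylow p G) := inferInstance
  obtain ⟨k, hk⟩ := P.2.exists_card_eq
  have hPdvd : Nat.card (P : Subgroup G) ∣ Nat.card G := Subgroup.card_subgroup_dvd_card _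
  have hPne : (P : Subgroup G) ≠ ⊥ := P.ne_bot_of_dvd_card hpdvd
  -- k ≤ 2
  have hk2 : k ≤ 2 := by
    by_contra h
    push Not at h
    apply hcon1
    exact (pow_dvd_pow p h).trans (hk ▸ hPdvd)
  -- P is not cyclic
  have hncyc : ¬ IsCyclic (P : Subgroup G) := by
    intro hc
    have hcomp := IsCyclic.isComplement' hp.symm hc
    exact no_normal_complement hG p P hPne _ hcomp
  -- so k = 2
  have hk' : k = 2 := by
    interval_cases k
    · exfalso
      rw [pow_zero] at hk
      exact hPne (Subgroup.card_eq_one.1 hk)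
    · exfalso
      rw [pow_one] at hk
      exact hncyc (isCyclic_of_prime_card hk)
    · rfl
  subst hk'
  -- P is commutative
  have hPcomm : ∀ a b : (P : Subgroup G), a * b = b * a := by
    have := IsPGroup.isMulCommutative_of_card_eq_prime_sq hk
    exact fun a b => mul_comm' a b
  have hPC : (P : Subgroup G) ≤ Subgroup.centralizer (P : Set G) := by
    intro x hx y hy
    have := hPcomm ⟨y, hy⟩ ⟨x, hx⟩
    exact congrArg Subtype.val this
  -- N is not contained in C
  have hNC : ¬ Subgroup.normalizer (P : Set G) ≤ Subgroup.centralizer (P : Set G) := by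
    intro h
    have hcomp := MonoidHom.ker_transferSylow_isComplement' P h
    exact no_normal_complement hG p P hPne _ hcomp
  -- the image A of N in Aut P
  set f := (P : Subgroup G).normalizerMonoidHom with hf
  have hA1 : Nat.card f.range ≠ 1 := by
    intro h
    apply hNC
    intro g hg
    have hr : f.range = ⊥ := Subgroup.card_eq_one.1 h
    have hker : f.ker = ⊤ := by
      rw [MonoidHom.range_eq_bot_iff] at hr
      rw [hr]; exact MonoidHom.ker_one
    have : (⟨g, hg⟩ : Subgroup.normalizer (P : Set G)) ∈ f.ker := by rw [hker]; trivial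
    rw [hf, Subgroup.normalizerMonoidHom_ker, Subgroup.mem_subgroupOf] at this
    exact this
  obtain ⟨r, hr, hrA⟩ := Nat.exists_prime_and_dvd hA1
  have : Fact r.Prime := ⟨hr⟩
  have hrG : r ∣ Nat.card G :=
    hrA.trans ((Subgroup.card_range_dvd f).trans (Subgroup.card_subgroup_dvd_card _))
  have hrp : r ≠ p := by
    intro h
    rw [h] at hrA
    have h1 : f.ker.index = Nat.card f.range := Subgroup.index_ker f
    have h2 : ((P : Subgroup G).subgroupOf (Subgroup.normalizer (P : Set G))) ≤ f.ker := by
      rw [hf, Subgroup.normalizerMonoidHom_ker]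
      intro x hx
      rw [Subgroup.mem_subgroupOf] at hx ⊢
      exact hPC hx
    have h3 := Subgroup.index_dvd_of_le h2
    have h4 : ((P : Subgroup G).subgroupOf (Subgroup.normalizer (P : Set G))).index ∣ (P : Subgroup G).index :=
      Subgroup.relIndex_dvd_index_of_le Subgroup.le_normalizer
    exact P.not_dvd_index ((h1 ▸ hrA).trans (h3.trans h4))
  have hpr : p < r := lt_of_le_of_ne (Nat.minFac_le_of_dvd hr.two_le hrG) (Ne.symm hrp)
  obtain ⟨α, hα⟩ := exists_prime_orderOf_dvd_card' r hrA
  set α' : MulAut (P : Subgroup G) := (α : MulAut (P : Subgroup G)) with hα'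
  have hα'ord : orderOf α' = r := by rw [hα', Subgroup.orderOf_coe, hα]
  set Z := Subgroup.zpowers α' with hZ
  have hZp : IsPGroup r Z := IsPGroup.of_card (n := 1) (by rw [pow_one, Nat.card_zpowers, hα'ord])
  have hmod := hZp.card_modEq_card_fixedPoints (α := (P : Subgroup G))
  -- fixed points form a proper subgroup
  set Fix : Subgroup (P : Subgroup G) := MonoidHom.eqLocus α'.toMonoidHom (MonoidHom.id _) with hFix
  have hfix : (MulAction.fixedPoints Z (P : Subgroup G)) = (Fix : Set (P : Subgroup G)) := by
    ext x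
    constructor
    · intro hx
      exact hx ⟨α', Subgroup.mem_zpowers α'⟩
    · intro hx β
      have hst : α' ∈ MulAction.stabilizer (MulAut (P : Subgroup G)) x := by
        rw [MulAction.mem_stabilizer_iff]; exact hx
      have : (β : MulAut (P : Subgroup G)) ∈ MulAction.stabilizer (MulAut (P : Subgroup G)) x :=
        (Subgroup.zpowers_le.2 hst) β.2
      exact MulAction.mem_stabilizer_iff.1 this
  have hFixcard : Nat.card (MulAction.fixedPoints Z (P : Subgroup G)) = Nat.card Fix := by
    rw [hfix]; rfl
  have hFixdvd : Nat.card Fix ∣ p ^ 2 := hk ▸ Subgroup.card_subgroup_dvd_card Fix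
  have hFixne : Nat.card Fix ≠ p ^ 2 := by
    intro h
    have htop : Fix = ⊤ := (Subgroup.card_eq_iff_eq_top _).1 (h.trans hk.symm)
    have h1 : α' = 1 := by
      ext x
      have : x ∈ Fix := by rw [htop]; trivial
      exact congrArg Subtype.val this
    rw [h1, orderOf_one] at hα'ord
    exact hr.one_lt.ne hα'ord
  rw [hFixcard, hk] at hmod
  obtain ⟨j, hj, hje⟩ := (Nat.dvd_prime_pow hpp).1 hFixdvd
  have hp2 : 2 ≤ p := hpp.two_le
  have hr2 : p + 1 ≤ r := hpr
  interval_cases j
  · -- card Fix = 1 : r ∣ p^2 - 1
    rw [hje, pow_zero] at hmod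
    have h1 : r ∣ p ^ 2 - 1 := (Nat.modEq_iff_dvd' (by nlinarith)).1 hmod.symm
    have h2 : p ^ 2 - 1 = (p - 1) * (p + 1) := by
      have : p ^ 2 = (p - 1) * (p + 1) + 1 := by
        zify [hpp.one_le]; ring
      omega
    rw [h2] at h1
    rcases (Nat.Prime.dvd_mul hr).1 h1 with h3 | h3
    · have := Nat.le_of_dvd (by omega) h3
      omega
    · have h4 := Nat.le_of_dvd (by omega) h3
      have hreq : r = p + 1 := le_antisymm h4 hr2
      -- p and p+1 both prime → p = 2
      have hp2' : p = 2 := by
        rcases hpp.eq_two_or_odd with h | h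
        · exact h
        · exfalso
          have hreven : r % 2 = 0 := by omega
          rcases hr.eq_two_or_odd with h5 | h5 <;> omega
      apply hcon2
      have h4G : 4 ∣ Nat.card G := by
        have := hPdvd
        rw [hk, hp2'] at this
        exact this
      have h3G : 3 ∣ Nat.card G := by
        have := hrG
        rw [hreq, hp2'] at this
        exact this
      exact (Nat.Coprime.mul_dvd_of_dvd_of_dvd (by norm_num : Nat.Coprime 4 3) h4G h3G)
  · -- card Fix = p : r ∣ p^2 - p
    rw [hje, pow_one] at hmod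
    have h1 : r ∣ p ^ 2 - p := (Nat.modEq_iff_dvd' (by nlinarith)).1 hmod.symm
    have h2 : p ^ 2 - p = p * (p - 1) := by
      have : p ^ 2 = p * (p - 1) + p := by
        zify [hpp.one_le]; ring
      omega
    rw [h2] at h1
    rcases (Nat.Prime.dvd_mul hr).1 h1 with h3 | h3
    · have := Nat.le_of_dvd (by omega) h3
      omega
    · have := Nat.le_of_dvd (by omega) h3
      omega
  · exact hFixne hje

end Cfsg.Agent.S0073
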