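import Cfsg.Statements.S0076

set_option autoImplicit false
open Cfsg

namespace Cfsg.Agent.S0076

open Subgroup MulAction Sylow

theorem conj_image_eq {G : Type*} [Group G] (g : G) (X : Set G) :
    (fun y => g * y * g⁻¹) '' X = MulAut.conj g '' X := by
  ext z; simp [MulAut.conj_apply]

/-- Two P-invariant subsets of a Sylow p-subgroup P that are conjugate in G are conjugate under the normalizer of P. -/
theorem result {G : Type*} [Group G] [Finite G] {p : ℕ} [Fact p.Prime] (P : Sylow p G) (X Y : Set G) (hXP : X ⊆ P) (hYP : Y ⊆ P) (hX : ∀ x ∈ P, (fun y => x * y * x⁻¹) '' X = X) (hY : ∀ x ∈ P, (fun y => x * y * x⁻¹) '' Y = Y) (g : G) (hg : (fun y => g * y * g⁻¹) '' X = Y) : ∃ n ∈ Subgroup.normalizer (P : Set G), (fun y => n * y * n⁻¹) '' X = Y := by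
  simp only [conj_image_eq] at hX hY hg ⊢
  have h1 : (P : Subgroup G) ≤ normalizer Y := by
    intro x hx
    rw [mem_normalizer_iff_conj_image_eq]
    exact hY x hx
  have h2 : ((g • P : Sylow p G) : Subgroup G) ≤ normalizer Y := by
    rintro - ⟨z, hz, rfl⟩
    rw [mem_normalizer_iff_conj_image_eq]
    have hz' := hX z hz
    rw [← hg]
    conv_rhs => rw [← hz']
    rw [← Set.image_comp, ← Set.image_comp]
    congr 1
    ext y
    simp [MulAut.conj_apply, mul_assoc]
  obtain ⟨h, hh⟩ :=
    exists_smul_eq (normalizer Y) ((g • P).subtype h2) (P.subtype h1)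
  simp_rw [smul_subtype, Subgroup.smul_def, smul_smul] at hh
  refine ⟨h * g, smul_eq_iff_mem_normalizer.mp (subtype_injective hh), ?_⟩
  have hh' := mem_normalizer_iff_conj_image_eq.mp h.prop
  obtain ⟨h, hhN⟩ := h
  simp only at hh'
  rw [map_mul]
  calc ⇑(MulAut.conj h * MulAut.conj g) '' X = MulAut.conj h '' (MulAut.conj g '' X) := by
        rw [← Set.image_comp]; rfl
    _ = MulAut.conj h '' Y := by rw [hg]
    _ = Y := hh'

end Cfsg.Agent.S0076
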