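import Cfsg.Statements.S0077
import Cfsg.Agent.Lib.Helper2_Sylow
import Mathlib.GroupTheory.Focal

set_option autoImplicit false
open Cfsg

namespace Cfsg.Agent.S0077

open scoped commutatorElement
open Subgroup Cfsg.Agent.Lib.Helper2_Sylow

/-- If a subgroup Z of the centre of a Sylow p-subgroup P is weakly closed in P, then P meets the derived subgroup of G exactly where it meets the derived subgroup of the normalizer of Z. -/
theorem result {G : Type*} [Group G] [Finite G] {p : ℕ} [Fact p.Prime] (P : Sylow p G) (Z : Subgroup G) (hZ : Z ≤ Subgroup.centralizer (P : Set G)) (hW : Cfsg.IsWeaklyClosed Z P) : commutator G ⊓ (P : Subgroup G) = ⁅Subgroup.normalizer (Z : Set G), Subgroup.normalizer (Z : Set G)⁆ ⊓ (P : Subgroup G) := by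
  obtain ⟨hZP, hW⟩ := hW
  have key : ∀ g : G, (∀ z ∈ Z, g * z * g⁻¹ ∈ (P : Subgroup G)) → g ∈ normalizer (Z : Set G) := by
    intro g hg
    apply mem_normalizer_iff_map_conj_eq.mpr
    apply hW g
    rintro - ⟨z, hz, rfl⟩
    simpa using hg z hz
  have hPN : (P : Subgroup G) ≤ normalizer (Z : Set G) := fun x hx =>
    key x (fun z hz => mul_mem (mul_mem hx (hZP hz)) (inv_mem hx))
  have hZp : IsPGroup p Z := P.2.to_le hZP
  apply le_antisymm
  · rw [commutator_inf_eq_focalSubgroup P]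
    apply le_inf _ (focalSubgroup_le _)
    rw [focalSubgroup_def, closure_le]
    rintro g ⟨hgP, x, hxP, u, rfl⟩
    have hy : u * x⁻¹ * u⁻¹ ∈ (P : Subgroup G) := by
      have := mul_mem (inv_mem hxP) hgP
      simpa [commutatorElement_def, mul_assoc] using this
    have hZC : Z ≤ centralizer {u * x⁻¹ * u⁻¹} := by
      intro z hz
      rw [mem_centralizer_singleton_iff]
      exact (mem_centralizer_iff.mp (hZ hz) _ hy).symm
    have hBC : Z.map (MulAut.conj u).toMonoidHom ≤ centralizer {u * x⁻¹ * u⁻¹} := by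
      rintro - ⟨z, hz, rfl⟩
      rw [mem_centralizer_singleton_iff]
      have h1 : x⁻¹ * z = z * x⁻¹ := mem_centralizer_iff.mp (hZ hz) _ (inv_mem hxP)
      show u * z * u⁻¹ * (u * x⁻¹ * u⁻¹) = u * x⁻¹ * u⁻¹ * (u * z * u⁻¹)
      calc u * z * u⁻¹ * (u * x⁻¹ * u⁻¹) = u * (z * x⁻¹) * u⁻¹ := by simp [mul_assoc]
        _ = u * (x⁻¹ * z) * u⁻¹ := by rw [h1]
        _ = u * x⁻¹ * u⁻¹ * (u * z * u⁻¹) := by simp [mul_assoc]
    obtain ⟨c, hcC, Q, hZQ, hBQ⟩ := exists_mem_conj_le_sylow (p := p) _ Z _ hZp (hZp.map _) hZC hBC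
    obtain ⟨h, hh⟩ := exists_conj_sylow P Q
    have h1 : h⁻¹ ∈ normalizer (Z : Set G) :=
      key h⁻¹ (fun z hz => by
        have h5 : h⁻¹ * z * h ∈ (P : Subgroup G) := (hh z).mp (hZQ hz)
        simpa using h5)
    have h2 : h⁻¹ * c * u ∈ normalizer (Z : Set G) := key _ (fun z hz => by
      have h3 := hBQ (u * z * u⁻¹) ⟨z, hz, rfl⟩
      have h4 : h⁻¹ * (c * (u * z * u⁻¹) * c⁻¹) * h ∈ (P : Subgroup G) := (hh _).mp h3
      simpa [mul_assoc] using h4)
    have h3 : c * u ∈ normalizer (Z : Set G) := by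
      have := mul_mem (inv_mem h1) h2
      simpa [mul_assoc] using this
    have hc : u * x⁻¹ * u⁻¹ * c = c * (u * x⁻¹ * u⁻¹) := mem_centralizer_singleton_iff.mp hcC |>.symm
    have : ⁅x, u⁆ = ⁅x, c * u⁆ := by
      rw [commutatorElement_def, commutatorElement_def]
      calc x * u * x⁻¹ * u⁻¹ = x * (u * x⁻¹ * u⁻¹) := by simp [mul_assoc]
        _ = x * (u * x⁻¹ * u⁻¹ * c) * c⁻¹ := by simp [mul_assoc]
        _ = x * (c * (u * x⁻¹ * u⁻¹)) * c⁻¹ := by rw [hc]
        _ = x * (c * u) * x⁻¹ * (c * u)⁻¹ := by simp [mul_assoc]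
    rw [this]
    exact commutator_mem_commutator (hPN hxP) h3
  · apply inf_le_inf_right
    rw [_root_.commutator_def]
    exact commutator_mono le_top le_top

end Cfsg.Agent.S0077
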