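-- Statement S0078: Grün's second theorem in the O^p form (Grün II + Tate's theorem).
import Cfsg.Statements.S0078
import Cfsg.Agent.S0077
import Cfsg.Agent.Lib.Helper2_Sylow
import Cfsg.Agent.Lib.Helper2_PResidual
import Cfsg.Agent.Lib.Helper2_Tate

set_option autoImplicit false
open Cfsg

namespace Cfsg.Agent.S0078

open Subgroup Cfsg.Agent.Lib.Helper2_Sylow

/-- In a `p`-normal group the centre of a Sylow `p`-subgroup is weakly closed. -/
theorem weaklyClosed_center {G : Type*} [Group G] [Finite G] {p : ℕ} [Fact p.Prime] (P : Sylow p G)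
    (hn : ∀ Q : Sylow p G, (P : Subgroup G) ⊓ Subgroup.centralizer (P : Set G) ≤ (Q : Subgroup G) →
      (Q : Subgroup G) ⊓ Subgroup.centralizer (Q : Set G) = (P : Subgroup G) ⊓ Subgroup.centralizer (P : Set G)) :
    Cfsg.IsWeaklyClosed ((P : Subgroup G) ⊓ Subgroup.centralizer (P : Set G)) (P : Subgroup G) := by
  refine ⟨inf_le_left, fun g hg => ?_⟩
  set Z : Subgroup G := (P : Subgroup G) ⊓ Subgroup.centralizer (P : Set G) with hZdef
  -- Q = g⁻¹ P g
  let Q : Sylow p G := g⁻¹ • P
  have hQmem : ∀ x : G, x ∈ (Q : Subgroup G) ↔ g * x * g⁻¹ ∈ (P : Subgroup G) := by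
    intro x
    have := mem_smul_sylow_iff' g⁻¹ x P
    rw [inv_inv] at this
    exact this
  have hZQ : Z ≤ (Q : Subgroup G) := by
    intro z hz
    rw [hQmem]
    apply hg
    exact ⟨z, hz, by simp [MulAut.conj_apply]⟩
  have hQZ := hn Q hZQ
  have hle : Z.map (MulAut.conj g).toMonoidHom ≤ Z := by
    rintro y ⟨z, hz, rfl⟩
    have hz' : z ∈ (Q : Subgroup G) ⊓ Subgroup.centralizer (Q : Set G) := by rw [hQZ]; exact hz
    obtain ⟨hz1, hz2⟩ := hz'
    have hy : (MulAut.conj g).toMonoidHom z = g * z * g⁻¹ := by simp [MulAut.conj_apply]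
    rw [hy]
    refine ⟨(hQmem z).1 hz1, Subgroup.mem_centralizer_iff.2 ?_⟩
    intro x hx
    have hx' : g⁻¹ * x * g ∈ (Q : Subgroup G) := by
      rw [hQmem]
      have : g * (g⁻¹ * x * g) * g⁻¹ = x := by group
      rw [this]
      exact hx
    have h1 := (Subgroup.mem_centralizer_iff.1 hz2) _ hx'
    calc x * (g * z * g⁻¹) = g * ((g⁻¹ * x * g) * z) * g⁻¹ := by group
      _ = g * (z * (g⁻¹ * x * g)) * g⁻¹ := by rw [h1]
      _ = g * z * g⁻¹ * x := by group
  apply Subgroup.eq_of_le_of_card_ge hle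
  rw [Subgroup.card_map_of_injective (MulAut.conj g).injective]

/-- In a p-normal group, a Sylow p-subgroup P meets O^p(G) exactly where it meets O^p(V), for any subgroup V containing the normalizer of the centre of P. -/
theorem result {G : Type*} [Group G] [Finite G] {p : ℕ} [Fact p.Prime] (P : Sylow p G) (hn : ∀ Q : Sylow p G, (P : Subgroup G) ⊓ Subgroup.centralizer (P : Set G) ≤ (Q : Subgroup G) → (Q : Subgroup G) ⊓ Subgroup.centralizer (Q : Set G) = (P : Subgroup G) ⊓ Subgroup.centralizer (P : Set G)) (V : Subgroup G) (hV : Subgroup.normalizer (((P : Subgroup G) ⊓ Subgroup.centralizer (P : Set G) : Subgroup G) : Set G) ≤ V) : (P : Subgroup G) ⊓ Cfsg.pResidual p G = (P : Subgroup G) ⊓ (Cfsg.pResidual p V).map V.subtype := by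
  have hW := weaklyClosed_center P hn
  have hfoc0 := Cfsg.Agent.S0077.result P _ inf_le_right hW
  have hPN : (P : Subgroup G) ≤ Subgroup.normalizer (((P : Subgroup G) ⊓ Subgroup.centralizer (P : Set G) : Subgroup G) : Set G) := by
    intro x hx
    rw [Subgroup.mem_normalizer_iff]
    intro z
    constructor
    · intro hz
      have h1 := (Subgroup.mem_centralizer_iff.1 hz.2) x hx
      have h2 : x * z * x⁻¹ = z := by rw [h1]; group
      rw [h2]; exact hz
    · intro hz
      have h1 := (Subgroup.mem_centralizer_iff.1 hz.2) x⁻¹ (inv_mem hx)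
      have h3 : x * z * x⁻¹ = z := by
        calc x * z * x⁻¹ = (x * z * x⁻¹) * x⁻¹ * x := by group
          _ = x⁻¹ * (x * z * x⁻¹) * x := by rw [h1]
          _ = z := by group
      rw [← h3]; exact hz
  have hPV : (P : Subgroup G) ≤ V := hPN.trans hV
  have hfoc : (P : Subgroup G) ⊓ commutator G ≤ ⁅V, V⁆ := by
    rw [inf_comm, hfoc0]
    exact inf_le_left.trans (Subgroup.commutator_mono hV hV)
  apply le_antisymm
  · exact le_inf inf_le_left (Cfsg.Agent.Lib.Helper2_Tate.tate_general P V hPV hfoc)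
  · refine le_inf inf_le_left (inf_le_right.trans ?_)
    rw [Subgroup.map_le_iff_le_comap]
    have hdef : Cfsg.pResidual p V = Subgroup.closure {g : V | Nat.Coprime (orderOf g) p} := rfl
    rw [hdef, Subgroup.closure_le]
    intro v hv
    have hv' : Nat.Coprime (orderOf v) p := hv
    rw [SetLike.mem_coe, Subgroup.mem_comap]
    apply Cfsg.Agent.Lib.Helper2_PResidual.mem_pResidual_of_coprime
    rw [Subgroup.coe_subtype, Subgroup.orderOf_coe]
    exact hv'

end Cfsg.Agent.S0078
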