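-- Statement S0079: nilpotent Hall subgroups: normal complement iff control of fusion (Wielandt).
import Cfsg.Statements.S0079
import Cfsg.Agent.Lib.Helper35_PGroupAut

set_option autoImplicit false
open Cfsg

namespace Cfsg.Agent.S0079

open Cfsg.Agent.Lib.Helper35_FrobeniusNPC Cfsg.Agent.Lib.Helper35_PGroupAut Subgroup

section aux

variable {G : Type*} [Group G] [Finite G]

/-- a nilpotent Hall subgroup controlling its own fusion: `G` has a normal `p`-complement for every
prime `p` dividing `|H|` -/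
theorem hasNPC_of_control (H : Subgroup G) [hH : Group.IsNilpotent ↥H]
    (hHall : Nat.Coprime (Nat.card ↥H) H.index)
    (hctl : ∀ x ∈ H, ∀ y ∈ H, (∃ g : G, g * x * g⁻¹ = y) → ∃ h ∈ H, h * x * h⁻¹ = y)
    {p : ℕ} [hp : Fact p.Prime] (hpH : p ∣ Nat.card ↥H) : HasNPC p G := by
  obtain ⟨S⟩ : Nonempty (Sylow p ↥H) := inferInstance
  have hSp : IsPGroup p ((S : Subgroup ↥H).map H.subtype) := S.2.map H.subtype
  have hpi : ¬ p ∣ H.index := by
    intro hd
    have : p ∣ Nat.gcd (Nat.card ↥H) H.index := Nat.dvd_gcd hpH hd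
    rw [hHall] at this
    exact hp.out.one_lt.ne' (Nat.dvd_one.mp this)
  have hidx : ¬ p ∣ ((S : Subgroup ↥H).map H.subtype).index := by
    rw [Subgroup.index_map_subtype]
    intro hd
    rcases (Nat.Prime.dvd_mul hp.out).mp hd with h | h
    · exact S.not_dvd_index h
    · exact hpi h
  set P : Sylow p G := hSp.toSylow hidx with hP
  have hmemP : ∀ x : G, x ∈ (P : Subgroup G) ↔ ∃ hx : x ∈ H, (⟨x, hx⟩ : ↥H) ∈ S := by
    intro x
    rw [hP, IsPGroup.toSylow_coe]
    constructor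
    · rintro ⟨y, hy, rfl⟩
      exact ⟨y.2, hy⟩
    · rintro ⟨hx, hxS⟩
      exact ⟨⟨x, hx⟩, hxS, rfl⟩
  apply hasNPC_of_frobHyp
  apply frobHyp_of_control P
  intro x hx g hgx
  obtain ⟨hxH, hxS⟩ := (hmemP x).mp hx
  obtain ⟨hgH, -⟩ := (hmemP _).mp hgx
  obtain ⟨h, hh, hconj⟩ := hctl x hxH _ hgH ⟨g, rfl⟩
  -- decompose `h` (as an element of `H`)
  obtain ⟨u, w, huw, ⟨k, huk⟩, hwo, -⟩ :=
    exists_pPart_decomp (p := p) (⟨h, hh⟩ : ↥H) (orderOf_pos _).ne'
  have huS : u ∈ S := mem_sylow_of_isNilpotent S huk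
  obtain ⟨kx, hkx⟩ := S.2 ⟨⟨x, hxH⟩, hxS⟩
  have hxk : (⟨x, hxH⟩ : ↥H) ^ p ^ kx = 1 := by
    have := congrArg (fun t : ↥(S : Subgroup ↥H) => (t : ↥H)) hkx
    simpa using this
  have hwx : Commute w (⟨x, hxH⟩ : ↥H) := commute_of_coprime_of_isNilpotent hwo hxk
  refine ⟨(u : G), (hmemP _).mpr ⟨u.2, huS⟩, ?_⟩
  rw [← hconj]
  have h1 : (⟨h, hh⟩ : ↥H) * ⟨x, hxH⟩ * (⟨h, hh⟩ : ↥H)⁻¹ = u * ⟨x, hxH⟩ * u⁻¹ := by
    rw [huw]
    calc u * w * ⟨x, hxH⟩ * (u * w)⁻¹ = u * (w * ⟨x, hxH⟩) * w⁻¹ * u⁻¹ := by group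
      _ = u * (⟨x, hxH⟩ * w) * w⁻¹ * u⁻¹ := by rw [hwx.eq]
      _ = u * ⟨x, hxH⟩ * u⁻¹ := by group
  exact congrArg Subtype.val h1

end aux

/-- A nilpotent Hall subgroup has a normal complement exactly when elements of it that are conjugate in the whole group are already conjugate inside it. -/
theorem result {G : Type*} [Group G] [Finite G] (H : Subgroup G) (hH : Group.IsNilpotent H) (hHall : Nat.Coprime (Nat.card H) H.index) : (∃ N : Subgroup G, N.Normal ∧ N.IsComplement' H) ↔ ∀ x ∈ H, ∀ y ∈ H, (∃ g : G, g * x * g⁻¹ = y) → ∃ h ∈ H, h * x * h⁻¹ = y := by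
  classical
  constructor
  · rintro ⟨N, hNn, hNc⟩ x hx y hy ⟨g, hg⟩
    obtain ⟨⟨n, h⟩, hnh, -⟩ := (Subgroup.isComplement_iff_existsUnique.mp hNc) g
    refine ⟨h, h.2, ?_⟩
    have hnh' : (n : G) * h = g := hnh
    set x' := (h : G) * x * (h : G)⁻¹ with hx'
    have hx'H : x' ∈ H := mul_mem (mul_mem h.2 hx) (inv_mem h.2)
    have hy' : y = n * x' * (n : G)⁻¹ := by rw [← hg, ← hnh', hx']; group
    have h1 : y * x'⁻¹ ∈ N := by
      have : y * x'⁻¹ = n * (x' * (n : G)⁻¹ * x'⁻¹) := by rw [hy']; group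
      rw [this]
      exact mul_mem n.2 (hNn.conj_mem _ (inv_mem n.2) x')
    have h2 : y * x'⁻¹ ∈ H := mul_mem hy (inv_mem hx'H)
    have h3 : y * x'⁻¹ ∈ N ⊓ H := ⟨h1, h2⟩
    rw [hNc.disjoint.eq_bot, Subgroup.mem_bot] at h3
    exact (mul_inv_eq_one.mp h3).symm
  · intro hctl
    -- normal `p`-complements for the primes dividing `|H|`
    have hnpc : ∀ p : (Nat.card ↥H).primeFactors, HasNPC (p : ℕ) G := by
      intro p
      have : Fact (p : ℕ).Prime := ⟨Nat.prime_of_mem_primeFactors p.2⟩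
      exact hasNPC_of_control H hHall hctl (Nat.dvd_of_mem_primeFactors p.2)
    choose K hKn hKc hKi using hnpc
    choose e he using hKi
    let N : Subgroup G := ⨅ p, K p
    have hNn : N.Normal := Subgroup.normal_iInf_normal hKn
    have hn : ∀ p, (K p).Normal := hKn
    -- the index of `N` divides a product of prime powers
    let f : G →* (∀ p : (Nat.card ↥H).primeFactors, G ⧸ K p) :=
      MonoidHom.pi (fun p => QuotientGroup.mk' (K p))
    have hker : f.ker = N := by
      ext x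
      rw [MonoidHom.mem_ker, Subgroup.mem_iInf]
      constructor
      · intro hx p
        have := congrFun hx p
        exact (QuotientGroup.eq_one_iff x).mp this
      · intro hx
        funext p
        exact (QuotientGroup.eq_one_iff x).mpr (hx p)
    have hNidx : N.index ∣ ∏ p : (Nat.card ↥H).primeFactors, (p : ℕ) ^ e p := by
      rw [← hker, Subgroup.index_ker]
      have h1 : Nat.card ↥f.range ∣ Nat.card (∀ p : (Nat.card ↥H).primeFactors, G ⧸ K p) :=
        Subgroup.card_subgroup_dvd_card _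
      rw [Nat.card_pi] at h1
      have h2 : ∀ p : (Nat.card ↥H).primeFactors, Nat.card (G ⧸ K p) = (p : ℕ) ^ e p := by
        intro p; rw [← Subgroup.index_eq_card, he p]
      simp only [h2] at h1
      exact h1
    -- coprimality
    have hcop1 : Nat.Coprime (Nat.card ↥N) (Nat.card ↥H) := by
      apply Nat.Coprime.symm
      apply Nat.coprime_of_dvd
      intro q hq hqH hqN
      have hqm : q ∈ (Nat.card ↥H).primeFactors :=
        Nat.mem_primeFactors.mpr ⟨hq, hqH, Nat.card_pos.ne'⟩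
      have hle : N ≤ K ⟨q, hqm⟩ := iInf_le _ _
      have hd : q ∣ Nat.card ↥(K ⟨q, hqm⟩) := hqN.trans (Subgroup.card_dvd_of_le hle)
      have := hKc ⟨q, hqm⟩
      have h1 : q ∣ Nat.gcd (Nat.card ↥(K ⟨q, hqm⟩)) q := Nat.dvd_gcd hd dvd_rfl
      rw [this] at h1
      exact hq.one_lt.ne' (Nat.dvd_one.mp h1)
    have hcop2 : Nat.Coprime H.index N.index := by
      apply Nat.Coprime.coprime_dvd_right hNidx
      apply Nat.Coprime.prod_right
      intro p _
      apply Nat.Coprime.pow_right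
      have hpp : (p : ℕ).Prime := Nat.prime_of_mem_primeFactors p.2
      have hpd : (p : ℕ) ∣ Nat.card ↥H := Nat.dvd_of_mem_primeFactors p.2
      exact Nat.Coprime.symm (Nat.Coprime.coprime_dvd_left hpd hHall)
    have hcardN : Nat.card ↥N = H.index := by
      have e1 : N.index * Nat.card ↥N = H.index * Nat.card ↥H := by
        rw [Subgroup.index_mul_card, Subgroup.index_mul_card]
      apply Nat.dvd_antisymm
      · have : Nat.card ↥N ∣ H.index * Nat.card ↥H := ⟨N.index, by rw [← e1]; ring⟩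
        exact (Nat.Coprime.dvd_mul_right hcop1).mp this
      · have : H.index ∣ N.index * Nat.card ↥N := ⟨Nat.card ↥H, e1⟩
        exact (Nat.Coprime.dvd_mul_left hcop2).mp this
    refine ⟨N, hNn, ?_⟩
    apply Subgroup.isComplement'_of_coprime
    · rw [hcardN]; exact Subgroup.index_mul_card H
    · exact hcop1

end Cfsg.Agent.S0079
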