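import Cfsg.Statements.S0082
import Cfsg.Agent.S0075
import Cfsg.Agent.Lib.Helper2_Transfer
import Cfsg.Agent.Lib.Helper2_Coprime
import Cfsg.Agent.Lib.Helper2_PResidual
import Mathlib.GroupTheory.SpecificGroups.Cyclic

set_option autoImplicit false
open Cfsg

namespace Cfsg.Agent.S0082

open scoped commutatorElement
open Subgroup Cfsg.Agent.Lib.Helper2_Transfer Cfsg.Agent.Lib.Helper2_Coprime
  Cfsg.Agent.Lib.Helper2_PResidual

/-- In a finite cyclic group, any two elements of prime order `p` generate the same subgroup. -/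
theorem mem_zpowers_of_orderOf_eq_prime {Q : Type*} [Group Q] [Finite Q] [IsCyclic Q] {p : ℕ}
    (hp : p.Prime) (c f : Q) (hc : orderOf c = p) (hf : orderOf f = p) : f ∈ zpowers c := by
  classical
  let _ : Fintype Q := Fintype.ofFinite Q
  have hle := IsCyclic.card_pow_eq_one_le (α := Q) hp.pos
  set S := Finset.univ.filter (fun a : Q => a ^ p = 1) with hS
  have himg : (Finset.range p).image (fun i => c ^ i) ⊆ S := by
    intro x hx
    obtain ⟨i, -, rfl⟩ := Finset.mem_image.mp hx
    rw [hS, Finset.mem_filter]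
    refine ⟨Finset.mem_univ _, ?_⟩
    rw [← pow_mul, mul_comm, pow_mul, ← hc, pow_orderOf_eq_one, one_pow]
  have hcard : ((Finset.range p).image (fun i => c ^ i)).card = p := by
    rw [Finset.card_image_of_injOn, Finset.card_range]
    intro i hi j hj hij
    rw [Finset.coe_range, Set.mem_Iio] at hi hj
    rw [← hc] at hi hj
    exact pow_injOn_Iio_orderOf hi hj hij
  have heq : (Finset.range p).image (fun i => c ^ i) = S :=
    Finset.eq_of_subset_of_card_le himg (by rw [hcard]; exact hle)
  have hfS : f ∈ S := by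
    rw [hS, Finset.mem_filter]
    exact ⟨Finset.mem_univ _, by rw [← hf, pow_orderOf_eq_one]⟩
  rw [← heq] at hfS
  obtain ⟨i, -, rfl⟩ := Finset.mem_image.mp hfS
  exact pow_mem (mem_zpowers c) i

/-- a nontrivial `p`-subgroup contains an element of order `p`. -/
theorem exists_orderOf_eq_prime {G : Type*} [Group G] [Finite G] {p : ℕ} [Fact p.Prime]
    (C : Subgroup G) (hC : IsPGroup p C) (hne : C ≠ ⊥) : ∃ c ∈ C, orderOf c = p := by
  rcases hC.card_eq_or_dvd with h | h
  · exact absurd (card_eq_one.mp h) hne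
  · obtain ⟨c, hc⟩ := exists_prime_orderOf_dvd_card' (G := C) p h
    exact ⟨c, c.2, by rwa [orderOf_coe]⟩

/-- With a cyclic Sylow p-subgroup, either there is a normal p-complement or the elements of order prime to p generate the whole group. -/
theorem result {G : Type*} [Group G] [Finite G] {p : ℕ} [Fact p.Prime] (P : Sylow p G) (hP : IsCyclic P) : Cfsg.HasNormalPComplement p G ∨ Cfsg.pResidual p G = ⊤ := by
  have hp : p.Prime := Fact.out
  have hcommP : IsMulCommutative P := ⟨⟨fun a b => by
    obtain ⟨g, hg⟩ := IsCyclic.exists_generator (α := P)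
    obtain ⟨i, rfl⟩ := mem_zpowers_iff.mp (hg a)
    obtain ⟨j, rfl⟩ := mem_zpowers_iff.mp (hg b)
    exact (Commute.zpow_zpow_self g i j).eq⟩⟩
  have hcop : Nat.Coprime (Nat.card (P : Subgroup G))
      ((P : Subgroup G).relIndex (normalizer ((P : Subgroup G) : Set G))) := by
    obtain ⟨k, hk⟩ := P.2.exists_card_eq
    rw [hk]
    apply Nat.Coprime.pow_left
    apply Nat.Coprime.coprime_dvd_right (relIndex_dvd_index_of_le le_normalizer)
    exact (Nat.Prime.coprime_iff_not_dvd hp).mpr P.not_dvd_index
  obtain ⟨hinf, hsup⟩ := relative_decomposition (P : Subgroup G)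
    (normalizer ((P : Subgroup G) : Set G)) le_normalizer le_rfl hcop
  set C := ⁅(P : Subgroup G), normalizer ((P : Subgroup G) : Set G)⁆ with hCdef
  set F := (P : Subgroup G) ⊓ centralizer (normalizer ((P : Subgroup G) : Set G) : Set G) with hFdef
  have hCP : C ≤ (P : Subgroup G) := by rw [← hsup]; exact le_sup_left
  have hFP : F ≤ (P : Subgroup G) := inf_le_left
  by_cases hC : C = ⊥
  · left
    apply hasNormalPComplement_of_normalizer_le_centralizer P
    intro n hn
    rw [mem_centralizer_iff]
    intro x hx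
    have h1 : ⁅x, n⁆ ∈ C := commutator_mem_commutator hx hn
    rw [hC, mem_bot, commutatorElement_eq_one_iff_mul_comm] at h1
    exact h1
  · right
    have hF : F = ⊥ := by
      by_contra hF
      obtain ⟨c, hcC, hc⟩ := exists_orderOf_eq_prime C (P.2.to_le hCP) hC
      obtain ⟨f, hfF, hf⟩ := exists_orderOf_eq_prime F (P.2.to_le hFP) hF
      have h1 := mem_zpowers_of_orderOf_eq_prime (Q := P) hp ⟨c, hCP hcC⟩ ⟨f, hFP hfF⟩
        (by rw [Subgroup.orderOf_mk]; exact hc) (by rw [Subgroup.orderOf_mk]; exact hf)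
      obtain ⟨i, hi⟩ := mem_zpowers_iff.mp h1
      have h2 : c ^ i = f := by
        have := congrArg Subtype.val hi
        simpa using this
      have h3 : f ∈ C ⊓ F := mem_inf.mpr ⟨h2 ▸ zpow_mem hcC i, hfF⟩
      rw [hinf, mem_bot] at h3
      rw [h3, orderOf_one] at hf
      exact hp.one_lt.ne hf
    rw [hF, sup_bot_eq] at hsup
    have h1 := Cfsg.Agent.S0075.result P hcommP
    have h2 : (P : Subgroup G) ≤ pResidual p G := by
      have : (P : Subgroup G) ⊓ pResidual p G = (P : Subgroup G) := by
        rw [h1]; exact hsup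
      rw [← this]; exact inf_le_right
    rw [← sylow_sup_pResidual P]
    exact (sup_eq_right.mpr h2).symm

end Cfsg.Agent.S0082
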