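import Cfsg.Statements.S0083
import Cfsg.Agent.Lib.Helper2_Transfer

set_option autoImplicit false
open Cfsg

namespace Cfsg.Agent.S0083

open Cfsg.Agent.Lib.Helper2_Transfer

/-- For an abelian Sylow p-subgroup P, a normal p-complement exists exactly when the normalizer of P is an internal direct product of P with some subgroup. -/
theorem result {G : Type*} [Group G] [Finite G] {p : ℕ} [Fact p.Prime] (P : Sylow p G) (hP : IsMulCommutative P) : Cfsg.HasNormalPComplement p G ↔ ∃ Q : Subgroup G, Q ≤ Subgroup.centralizer (P : Set G) ∧ Q ⊓ (P : Subgroup G) = ⊥ ∧ Q ⊔ (P : Subgroup G) = Subgroup.normalizer (P : Set G) := by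
  constructor
  · intro h
    obtain ⟨N, hNn, hN⟩ := (hasNormalPComplement_iff P).mp h
    have hdisj : N ⊓ (P : Subgroup G) = ⊥ := hN.disjoint.eq_bot
    refine ⟨N ⊓ Subgroup.normalizer (P : Set G), ?_, ?_, ?_⟩
    · intro q hq x hx
      -- show x * q = q * x
      have hqN : q ∈ N := hq.1
      have hqn : q ∈ Subgroup.normalizer ((P : Subgroup G) : Set G) := hq.2
      have h1 : q * x * q⁻¹ ∈ (P : Subgroup G) := (Subgroup.mem_normalizer_iff.mp hqn x).mp hx
      have h2 : q * x * q⁻¹ * x⁻¹ ∈ (P : Subgroup G) := Subgroup.mul_mem _ h1 (Subgroup.inv_mem _ hx)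
      have h3 : q * x * q⁻¹ * x⁻¹ ∈ N := by
        have : x * q⁻¹ * x⁻¹ ∈ N := hNn.conj_mem _ (Subgroup.inv_mem _ hqN) x
        have := Subgroup.mul_mem _ hqN this
        simpa [mul_assoc] using this
      have h4 : q * x * q⁻¹ * x⁻¹ ∈ N ⊓ (P : Subgroup G) := ⟨h3, h2⟩
      rw [hdisj, Subgroup.mem_bot] at h4
      have : q * x = x * q := by
        have := congrArg (fun t => t * x * q) h4
        simpa [mul_assoc] using this
      exact this.symm
    · apply le_antisymm _ bot_le
      rw [← hdisj]
      exact inf_le_inf_right _ inf_le_left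
    · apply le_antisymm
      · exact sup_le inf_le_right (Subgroup.le_normalizer)
      · intro g hg
        have htop : g ∈ N ⊔ (P : Subgroup G) := by rw [hN.sup_eq_top]; exact Subgroup.mem_top g
        obtain ⟨n, hn, x, hx, rfl⟩ := Subgroup.mem_sup_of_normal_left.mp htop
        have hxn : x ∈ Subgroup.normalizer ((P : Subgroup G) : Set G) := Subgroup.le_normalizer hx
        have hnn : n ∈ Subgroup.normalizer ((P : Subgroup G) : Set G) := by
          have := Subgroup.mul_mem _ hg (Subgroup.inv_mem _ hxn)
          simpa using this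
        exact Subgroup.mul_mem _ (Subgroup.mem_sup_left ⟨hn, hnn⟩) (Subgroup.mem_sup_right hx)
  · rintro ⟨Q, hQc, -, hQP⟩
    apply hasNormalPComplement_of_normalizer_le_centralizer P
    rw [← hQP]
    exact sup_le hQc P.le_centralizer

end Cfsg.Agent.S0083
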