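import Cfsg.Statements.S0087
import Cfsg.Agent.Lib.Helper1_SZ
import Mathlib.GroupTheory.Transfer

set_option autoImplicit false
open Cfsg

namespace Cfsg.Agent.S0087

open Subgroup
open scoped Pointwise

universe u

theorem card_lt_of_ne_top {G : Type*} [Group G] [Finite G] {D : Subgroup G} (h : D ≠ ⊤) :
    Nat.card D < Nat.card G := by
  have h1 : (D : Set G) ⊂ Set.univ := by
    rw [Set.ssubset_univ_iff]
    intro h2
    exact h (SetLike.coe_injective (by simpa using h2))
  have h2 := Set.ncard_lt_ncard h1 (Set.toFinite _)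
  rwa [← Nat.card_coe_set_eq, Set.ncard_univ] at h2

open scoped IsMulCommutative in
/-- The transfer kernel is a normal complement as soon as `H` is an abelian Hall subgroup in which
no two distinct elements are fused. -/
theorem exists_complement_of_no_fusion {G : Type*} [Group G] [Finite G] (H : Subgroup G)
    [IsMulCommutative H] (hHall : Nat.Coprime (Nat.card H) H.index)
    (claim : ∀ x ∈ H, ∀ g : G, g⁻¹ * x * g ∈ H → g⁻¹ * x * g = x) :
    ∃ N : Subgroup G, N.Normal ∧ N.IsComplement' H := by
  let V : G →* H := MonoidHom.transfer (MonoidHom.id H)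
  have hV : ∀ (h : G) (hh : h ∈ H), ((V h : H) : G) = h ^ H.index := by
    intro h hh
    have key : ∀ (k : ℕ) (g₀ : G), g₀⁻¹ * h ^ k * g₀ ∈ H → g₀⁻¹ * h ^ k * g₀ = h ^ k :=
      fun k g₀ hk => claim (h ^ k) (pow_mem hh k) g₀ hk
    have := MonoidHom.transfer_eq_pow (MonoidHom.id H) h key
    exact congrArg Subtype.val this
  refine ⟨V.ker, inferInstance, ?_⟩
  have hbij : Function.Bijective (fun x : H => x ^ H.index) := (powCoprime hHall).bijective
  apply isComplement'_of_disjoint_and_mul_eq_univ
  · rw [disjoint_iff, eq_bot_iff]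
    intro x hx
    obtain ⟨hx1, hx2⟩ := mem_inf.mp hx
    have h1 : V x = 1 := hx1
    have h2 : (⟨x, hx2⟩ : H) ^ H.index = 1 := by
      apply Subtype.ext
      rw [Subgroup.coe_pow, Subgroup.coe_one, ← hV x hx2, h1, Subgroup.coe_one]
    have h3 : (⟨x, hx2⟩ : H) = 1 := hbij.1 (by simpa using h2)
    rw [mem_bot]
    exact congrArg Subtype.val h3
  · rw [Set.eq_univ_iff_forall]
    intro g
    obtain ⟨y, hy⟩ := hbij.2 (V g)
    have h1 : V (y : G) = V g := by
      apply Subtype.ext
      rw [hV y y.2, ← hy]
      rfl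
    refine Set.mem_mul.mpr ⟨g * (y : G)⁻¹, ?_, y, y.2, by simp⟩
    rw [SetLike.mem_coe, MonoidHom.mem_ker, map_mul, map_inv, h1, mul_inv_cancel]

theorem aux (n : ℕ) : ∀ (G : Type u) [Group G] [Finite G], Nat.card G = n →
    ∀ H : Subgroup G, Nat.Coprime (Nat.card H) H.index →
    normalizer (H : Set G) ≤ centralizer (H : Set G) →
    ∃ N : Subgroup G, N.Normal ∧ N.IsComplement' H := by
  induction n using Nat.strong_induction_on with
  | _ n ih =>
  intro G _ _ hcard H hHall hNC
  have hHcomm : IsMulCommutative H :=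
    ⟨⟨fun a b => Subtype.ext (hNC (le_normalizer b.2) a a.2)⟩⟩
  have hcomm : ∀ a ∈ H, ∀ b ∈ H, a * b = b * a := fun a ha b hb =>
    hNC (le_normalizer hb) a ha
  apply exists_complement_of_no_fusion H hHall
  intro x hx g hy
  set y := g⁻¹ * x * g with hydef
  have hgy : g * y = x * g := by rw [hydef]; group
  by_cases hD : centralizer {y} = ⊤
  · have h1 : g ∈ centralizer {y} := hD ▸ mem_top g
    rw [mem_centralizer_singleton_iff] at h1
    -- g * y = y * g
    have h2 : x * g = y * g := by rw [← hgy, h1]
    exact (mul_right_cancel h2).symm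
  · set D := centralizer {y} with hDdef
    have hDlt : Nat.card D < n := hcard ▸ card_lt_of_ne_top hD
    have hHD : H ≤ D := by
      intro h hh
      rw [hDdef, mem_centralizer_singleton_iff]
      exact hcomm h hh y hy
    -- `H2 = g⁻¹ H g`
    set H2 : Subgroup G := H.map (MulAut.conj g⁻¹).toMonoidHom with hH2def
    have hH2D : H2 ≤ D := by
      rintro - ⟨h, hh, rfl⟩
      rw [hDdef, mem_centralizer_singleton_iff]
      have h1 := hcomm h hh x hx
      simp only [MulEquiv.coe_toMonoidHom, MulAut.conj_apply, inv_inv]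
      calc g⁻¹ * h * g * y = g⁻¹ * (h * x) * g := by rw [hydef]; group
        _ = g⁻¹ * (x * h) * g := by rw [h1]
        _ = y * (g⁻¹ * h * g) := by rw [hydef]; group
    have hcardH2 : Nat.card H2 = Nat.card H :=
      card_map_of_injective (MulAut.conj g⁻¹).injective
    -- Hall in D
    have hcardHD : Nat.card (H.subgroupOf D) = Nat.card H :=
      Nat.card_congr (subgroupOfEquivOfLe hHD).toEquiv
    have hcardH2D : Nat.card (H2.subgroupOf D) = Nat.card H :=
      (Nat.card_congr (subgroupOfEquivOfLe hH2D).toEquiv).trans hcardH2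
    have hidx : (H.subgroupOf D).index ∣ H.index := relIndex_dvd_index_of_le hHD
    have hHall' : Nat.Coprime (Nat.card (H.subgroupOf D)) (H.subgroupOf D).index := by
      rw [hcardHD]
      exact Nat.Coprime.coprime_dvd_right hidx hHall
    have hNC' : normalizer ((H.subgroupOf D : Subgroup D) : Set D) ≤
        centralizer ((H.subgroupOf D : Subgroup D) : Set D) := by
      intro d hd
      have h1 : (d : G) ∈ normalizer (H : Set G) := by
        rw [mem_normalizer_iff]
        intro h
        constructor
        · intro hh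
          have := (mem_normalizer_iff.mp hd ⟨h, hHD hh⟩).mp (mem_subgroupOf.mpr hh)
          exact mem_subgroupOf.mp this
        · intro hh
          have hhD : h ∈ D := by
            have := mul_mem (mul_mem (inv_mem d.2) (hHD hh)) d.2
            simpa [mul_assoc] using this
          have := (mem_normalizer_iff.mp hd ⟨h, hhD⟩).mpr (mem_subgroupOf.mpr hh)
          exact mem_subgroupOf.mp this
      have h2 := hNC h1
      rw [mem_centralizer_iff]
      intro h hh
      apply Subtype.ext
      exact mem_centralizer_iff.mp h2 h (mem_subgroupOf.mp hh)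
    obtain ⟨K, hKn, hKc⟩ := ih (Nat.card D) hDlt D rfl (H.subgroupOf D) hHall' hNC'
    have hKidx : K.index = Nat.card (H.subgroupOf D) := hKc.symm.index_eq_card
    have hKcard : Nat.card K = (H.subgroupOf D).index := hKc.index_eq_card.symm
    have hKHall : (Nat.card K).Coprime K.index := by
      rw [hKidx, hKcard]; exact hHall'.symm
    have hsolv : Group.IsSolvable (D ⧸ K) := by
      have e : D ⧸ K ≃* H.subgroupOf D := hKc.symm.QuotientMulEquiv
      have : Group.IsSolvable (H.subgroupOf D) := Group.isSolvable_of_comm (fun a b => by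
        apply Subtype.ext; apply Subtype.ext
        exact hcomm _ (mem_subgroupOf.mp a.2) _ (mem_subgroupOf.mp b.2))
      exact Group.isSolvable_of_isSolvable_injective (f := e.toMonoidHom) e.injective
    obtain ⟨d, hd⟩ := Cfsg.Agent.Lib.Helper1_SZ.sz_conj_card K hKHall (Or.inr hsolv)
      (H.subgroupOf D) (H2.subgroupOf D) hKidx.symm (by rw [hcardH2D, hKidx, hcardHD])
    -- `g * d` normalises `H`
    have h3 : ∀ h ∈ H, (g * d) * h * (g * d)⁻¹ ∈ H := by
      intro h hh
      have h4 : MulAut.conj d • (⟨h, hHD hh⟩ : D) ∈ MulAut.conj d • H.subgroupOf D :=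
        smul_mem_pointwise_smul _ _ _ (mem_subgroupOf.mpr hh)
      rw [hd, mem_subgroupOf] at h4
      obtain ⟨h', hh', hh''⟩ := h4
      simp only [MulEquiv.coe_toMonoidHom, MulAut.conj_apply, inv_inv, MulAut.smul_def,
        Subgroup.coe_mul, Subgroup.coe_inv] at hh''
      -- g⁻¹ h' g = d h d⁻¹
      have : (g * d) * h * (g * d)⁻¹ = h' := by
        calc (g * d) * h * (g * d)⁻¹ = g * ((d : G) * h * (d : G)⁻¹) * g⁻¹ := by group
          _ = g * (g⁻¹ * h' * g) * g⁻¹ := by rw [hh'']
          _ = h' := by group
      rw [this]; exact hh'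
    have h5 : g * d ∈ normalizer (H : Set G) := by
      rw [mem_normalizer_iff_map_conj_eq]
      apply eq_of_le_of_card_ge
      · rintro - ⟨h, hh, rfl⟩
        exact h3 h hh
      · exact (card_map_of_injective (MulAut.conj (g * d)).injective).ge
    have h6 := mem_centralizer_iff.mp (hNC h5) x hx
    -- x * (g d) = (g d) * x
    have h7 : (d : G) * y = y * d := by
      have h8 : (d : G) ∈ centralizer {y} := d.2
      exact mem_centralizer_singleton_iff.mp h8
    -- y = d⁻¹ y d = (g d)⁻¹ x (g d) = x
    calc y = (d : G)⁻¹ * ((d : G) * y) := by group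
      _ = (d : G)⁻¹ * (y * d) := by rw [h7]
      _ = (g * d)⁻¹ * (x * (g * d)) := by rw [hydef]; group
      _ = (g * d)⁻¹ * ((g * d) * x) := by rw [h6]
      _ = x := by group

/-- A Hall subgroup that is central in its normalizer has a normal complement. -/
theorem result {G : Type*} [Group G] [Finite G] (H : Subgroup G) (hHall : Nat.Coprime (Nat.card H) H.index) (h : Subgroup.normalizer (H : Set G) ≤ Subgroup.centralizer (H : Set G)) : ∃ N : Subgroup G, N.Normal ∧ N.IsComplement' H :=
  aux _ G rfl H hHall h

end Cfsg.Agent.S0087
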