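import Cfsg.Statements.S0088
import Mathlib.GroupTheory.Transfer

set_option autoImplicit false
open Cfsg

namespace Cfsg.Agent.S0088

open scoped IsMulCommutative in
/-- For an abelian subgroup `H` of finite index, a central element of `H` lying in the
commutator subgroup has `index`-th power one. -/
theorem pow_index_eq_one_of_mem_center_of_mem_commutator {G : Type*} [Group G]
    (H : Subgroup G) [H.FiniteIndex] [IsMulCommutative H] (z : G) (hzZ : z ∈ Subgroup.center G)
    (hzG : z ∈ commutator G) : z ^ H.index = 1 := by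
  have key : ∀ (k : ℕ) (g₀ : G), g₀⁻¹ * z ^ k * g₀ ∈ H → g₀⁻¹ * z ^ k * g₀ = z ^ k := by
    intro k g₀ _
    have hc : z ^ k ∈ Subgroup.center G := Subgroup.pow_mem _ hzZ k
    have := Subgroup.mem_center_iff.mp hc g₀
    rw [mul_assoc, ← this, inv_mul_cancel_left]
  have h1 := MonoidHom.transfer_eq_pow (MonoidHom.id H) z key
  have h2 : MonoidHom.transfer (MonoidHom.id H) z = 1 :=
    Abelianization.commutator_subset_ker _ hzG
  rw [h2] at h1
  have := congrArg Subtype.val h1
  simpa using this.symm

/-- An abelian Hall subgroup meets G' ∩ Z(G) trivially. -/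
theorem result {G : Type*} [Group G] [Finite G] (H : Subgroup G) (hc : IsMulCommutative H) (hHall : Nat.Coprime (Nat.card H) H.index) : H ⊓ commutator G ⊓ Subgroup.center G = ⊥ := by
  rw [eq_bot_iff]
  rintro z ⟨⟨hzH, hzG⟩, hzZ⟩
  rw [Subgroup.mem_bot]
  have h1 : z ^ H.index = 1 := pow_index_eq_one_of_mem_center_of_mem_commutator H z hzZ hzG
  have h2 : z ^ Nat.card H = 1 := by
    have h := pow_card_eq_one' (G := H) (x := ⟨z, hzH⟩)
    have h' := congrArg Subtype.val h
    rw [Subgroup.coe_pow] at h'
    exact h'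
  have h3 : orderOf z ∣ H.index := orderOf_dvd_of_pow_eq_one h1
  have h4 : orderOf z ∣ Nat.card H := orderOf_dvd_of_pow_eq_one h2
  have h5 : orderOf z = 1 := Nat.eq_one_of_dvd_coprimes hHall h4 h3
  exact orderOf_eq_one_iff.mp h5

end Cfsg.Agent.S0088
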