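import Cfsg.Statements.S0089
import Cfsg.Agent.S0088

set_option autoImplicit false
open Cfsg

namespace Cfsg.Agent.S0089

/-- When all Sylow subgroups are abelian, the derived subgroup meets the centre trivially. -/
theorem result {G : Type*} [Group G] [Finite G] (h : ∀ p : ℕ, p.Prime → ∀ P : Sylow p G, IsMulCommutative P) : commutator G ⊓ Subgroup.center G = ⊥ := by
  rw [eq_bot_iff]
  rintro x ⟨hxG, hxZ⟩
  rw [Subgroup.mem_bot]
  by_contra hx1
  have hord : orderOf x ≠ 1 := fun h1 => hx1 (orderOf_eq_one_iff.mp h1)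
  obtain ⟨p, hp, hpd⟩ := Nat.exists_prime_and_dvd hord
  have : Fact p.Prime := ⟨hp⟩
  set y := x ^ (orderOf x / p) with hy
  have hyord : orderOf y = p := orderOf_pow_orderOf_div (orderOf_pos x).ne' hpd
  have hyG : y ∈ commutator G := Subgroup.pow_mem _ hxG _
  have hyZ : y ∈ Subgroup.center G := Subgroup.pow_mem _ hxZ _
  have hpg : IsPGroup p (Subgroup.zpowers y) := by
    apply IsPGroup.of_card (n := 1)
    rw [Nat.card_zpowers, hyord, pow_one]
  obtain ⟨P, hP⟩ := hpg.exists_le_sylow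
  have hyP : y ∈ (P : Subgroup G) := hP (Subgroup.mem_zpowers y)
  have hHall : Nat.Coprime (Nat.card (P : Subgroup G)) (P : Subgroup G).index := by
    obtain ⟨k, hk⟩ := P.2.exists_card_eq
    rw [hk]
    exact Nat.Coprime.pow_left k ((Nat.Prime.coprime_iff_not_dvd hp).mpr P.not_dvd_index)
  have hbot := Cfsg.Agent.S0088.result (P : Subgroup G) (h p hp P) hHall
  have hmem : y ∈ (P : Subgroup G) ⊓ commutator G ⊓ Subgroup.center G := ⟨⟨hyP, hyG⟩, hyZ⟩
  rw [hbot, Subgroup.mem_bot] at hmem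
  rw [hmem, orderOf_one] at hyord
  exact hp.one_lt.ne hyord

end Cfsg.Agent.S0089
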