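import Cfsg.Statements.S0090
import Cfsg.Agent.S0088
import Cfsg.Agent.Lib.Helper2_Coprime
import Mathlib.GroupTheory.SchurZassenhaus

set_option autoImplicit false
open Cfsg

namespace Cfsg.Agent.S0090

open Subgroup Cfsg.Agent.Lib.Helper2_Coprime
open scoped commutatorElement

/-- An abelian normal Hall subgroup A splits as the internal direct product of G' ∩ A and Z(G) ∩ A, and [A, G] = G' ∩ A. -/
theorem result {G : Type*} [Group G] [Finite G] (A : Subgroup G) [A.Normal] (hc : IsMulCommutative A) (hHall : Nat.Coprime (Nat.card A) A.index) : ⁅A, (⊤ : Subgroup G)⁆ = commutator G ⊓ A ∧ (commutator G ⊓ A) ⊓ (Subgroup.center G ⊓ A) = ⊥ ∧ (commutator G ⊓ A) ⊔ (Subgroup.center G ⊓ A) = A := by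
  obtain ⟨K, hAK⟩ := exists_right_complement'_of_coprime hHall
  have hcardK : Nat.card K = A.index := hAK.symm.index_eq_card.symm
  have hcop : Nat.Coprime (Nat.card K) (Nat.card A) := by rw [hcardK]; exact hHall.symm
  have hK : K ≤ normalizer (A : Set G) := by rw [normalizer_eq_top]; exact le_top
  have hcomm : ∀ a ∈ A, ∀ b ∈ A, a * b = b * a := fun a ha b hb => by
    have := hc.is_comm.comm ⟨a, ha⟩ ⟨b, hb⟩
    exact congrArg Subtype.val this
  have hdecomp : ∀ g : G, ∃ a ∈ A, ∃ k ∈ K, g = a * k := by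
    intro g
    have : g ∈ A ⊔ K := by rw [hAK.sup_eq_top]; exact mem_top g
    obtain ⟨a, ha, k, hk, rfl⟩ := mem_sup_of_normal_left.mp this
    exact ⟨a, ha, k, hk, rfl⟩
  have hAK_le : ⁅A, K⁆ ≤ A := commutator_le_of_le_normalizer A K hK
  -- (1)
  have h1 : ⁅A, (⊤ : Subgroup G)⁆ = ⁅A, K⁆ := by
    apply le_antisymm
    · rw [commutator_le]
      intro a ha g _
      obtain ⟨a', ha', k, hk, rfl⟩ := hdecomp g
      have h2 : ⁅a, k⁆ ∈ ⁅A, K⁆ := commutator_mem_commutator ha hk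
      have h3 : ⁅a, a' * k⁆ = a' * ⁅a, k⁆ * a'⁻¹ := by
        rw [commutatorElement_def, commutatorElement_def]
        calc a * (a' * k) * a⁻¹ * (a' * k)⁻¹ = (a * a') * k * a⁻¹ * k⁻¹ * a'⁻¹ := by
              simp [mul_assoc]
          _ = (a' * a) * k * a⁻¹ * k⁻¹ * a'⁻¹ := by rw [hcomm a ha a' ha']
          _ = a' * (a * k * a⁻¹ * k⁻¹) * a'⁻¹ := by simp [mul_assoc]
      rw [h3, hcomm a' ha' _ (hAK_le h2)]
      simpa using h2
    · exact commutator_mono le_rfl le_top
  -- (2)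
  have h2 : A ⊓ centralizer (K : Set G) = center G ⊓ A := by
    apply le_antisymm
    · intro z hz
      obtain ⟨hzA, hzK⟩ := mem_inf.mp hz
      refine mem_inf.mpr ⟨?_, hzA⟩
      rw [mem_center_iff]
      intro g
      obtain ⟨a', ha', k, hk, rfl⟩ := hdecomp g
      have hk' : k * z = z * k := mem_centralizer_iff.mp hzK k hk
      calc a' * k * z = a' * (k * z) := by rw [mul_assoc]
        _ = a' * (z * k) := by rw [hk']
        _ = (a' * z) * k := by rw [mul_assoc]
        _ = (z * a') * k := by rw [hcomm a' ha' z hzA]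
        _ = z * (a' * k) := by rw [mul_assoc]
    · intro z hz
      obtain ⟨hzZ, hzA⟩ := mem_inf.mp hz
      refine mem_inf.mpr ⟨hzA, ?_⟩
      rw [mem_centralizer_iff]
      intro k _
      exact (mem_center_iff.mp hzZ k)
  have h3 := Cfsg.Agent.S0088.result A hc hHall
  have h4 : ⁅A, K⁆ ≤ commutator G := by
    rw [_root_.commutator_def]
    exact commutator_mono le_top le_top
  have h5 : commutator G ⊓ A ≤ ⁅A, K⁆ := by
    intro x hx
    obtain ⟨hxG, hxA⟩ := mem_inf.mp hx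
    obtain ⟨c, hc', z, hz, rfl⟩ := exists_mul_of_coprime_subgroup A K hK hcop x hxA
    rw [h2] at hz
    have hzG : z ∈ commutator G := by
      have := mul_mem (inv_mem (h4 hc')) hxG
      simpa using this
    obtain ⟨hzZ, hzA⟩ := mem_inf.mp hz
    have hz1 : z ∈ A ⊓ commutator G ⊓ center G := mem_inf.mpr ⟨mem_inf.mpr ⟨hzA, hzG⟩, hzZ⟩
    rw [h3, mem_bot] at hz1
    rw [hz1, mul_one]
    exact hc'
  refine ⟨?_, ?_, ?_⟩
  · rw [h1]
    exact le_antisymm (le_inf h4 hAK_le) h5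
  · rw [eq_bot_iff, ← h3]
    intro x hx
    obtain ⟨hx1, hx2⟩ := mem_inf.mp hx
    obtain ⟨hxG, hxA⟩ := mem_inf.mp hx1
    obtain ⟨hxZ, -⟩ := mem_inf.mp hx2
    exact mem_inf.mpr ⟨mem_inf.mpr ⟨hxA, hxG⟩, hxZ⟩
  · apply le_antisymm
    · exact sup_le inf_le_right inf_le_right
    · rw [← h2]
      conv_lhs => rw [← commutator_sup_centralizer_eq A K hK hcop]
      exact sup_le_sup_right (le_inf h4 hAK_le) _

end Cfsg.Agent.S0090
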