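import Cfsg.Statements.S0091
import Mathlib.GroupTheory.Focal

set_option autoImplicit false
open Cfsg

namespace Cfsg.Agent.S0091

open scoped commutatorElement

/-- If a nontrivial Sylow p-subgroup controls its own fusion then it is not contained in the derived subgroup. -/
theorem result {G : Type*} [Group G] [Finite G] {p : ℕ} [Fact p.Prime] (P : Sylow p G) (hp : p ∣ Nat.card G) (h : ∀ x ∈ P, ∀ y ∈ P, (∃ g : G, g * x * g⁻¹ = y) → ∃ z ∈ P, z * x * z⁻¹ = y) : ¬ (P : Subgroup G) ≤ commutator G := by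
  intro hle
  have hfoc : commutator G ⊓ (P : Subgroup G) = (P : Subgroup G).focalSubgroup :=
    Subgroup.commutator_inf_eq_focalSubgroup P
  have h1 : (P : Subgroup G) ≤ (P : Subgroup G).focalSubgroup := by
    rw [← hfoc]; exact le_inf hle le_rfl
  have h2 : (P : Subgroup G).focalSubgroup ≤ ⁅(P : Subgroup G), (P : Subgroup G)⁆ := by
    rw [Subgroup.focalSubgroup_def, Subgroup.closure_le]
    rintro g ⟨hgP, x, hxP, u, rfl⟩
    -- ⁅x, u⁆ = x * u * x⁻¹ * u⁻¹
    have hconj : u * x⁻¹ * u⁻¹ ∈ (P : Subgroup G) := by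
      have := Subgroup.mul_mem _ (Subgroup.inv_mem _ hxP) hgP
      simpa [commutatorElement_def, mul_assoc] using this
    obtain ⟨z, hzP, hz⟩ := h x⁻¹ (Subgroup.inv_mem _ hxP) _ hconj ⟨u, rfl⟩
    have : ⁅x, u⁆ = ⁅x, z⁆ := by
      rw [commutatorElement_def, commutatorElement_def, mul_assoc, mul_assoc, mul_assoc, mul_assoc]
      congr 1
      rw [← mul_assoc, ← mul_assoc, hz]
    rw [this]
    exact Subgroup.commutator_mem_commutator hxP hzP
  have h3 : (P : Subgroup G) ≤ (commutator (P : Subgroup G)).map (P : Subgroup G).subtype := by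
    rw [Subgroup.map_subtype_commutator]
    exact h1.trans h2
  have hnt : Nontrivial (P : Subgroup G) := by
    have hcard : Nat.card (P : Subgroup G) ≠ 1 := by
      intro h1
      have := P.dvd_card_of_dvd_card hp
      rw [h1] at this
      exact (Fact.out : p.Prime).one_lt.ne' (Nat.dvd_one.mp this)
    rcases subsingleton_or_nontrivial (P : Subgroup G) with hs | hn
    · exact absurd (Nat.card_eq_one_iff_unique.mpr ⟨hs, ⟨1⟩⟩) hcard
    · exact hn
  have : Group.IsNilpotent (P : Subgroup G) := P.2.isNilpotent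
  have hlt : commutator (P : Subgroup G) < ⊤ := Group.IsSolvable.commutator_lt_top_of_nontrivial _
  apply hlt.ne
  rw [eq_top_iff]
  intro x _
  obtain ⟨y, hy, hyx⟩ := h3 x.2
  have : y = x := Subtype.ext hyx
  rwa [← this]

end Cfsg.Agent.S0091
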