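import Cfsg.Statements.S0096
import Cfsg.Agent.S0094

set_option autoImplicit false
open Cfsg

namespace Cfsg.Agent.S0096

open scoped commutatorElement
open Cfsg.Agent.S0094

/-- In a group of class at most two, `(x y)^n = x^n y^n [y,x]^(n choose 2)`. -/
theorem mul_pow_of_class_two {P : Type*} [Group P] (x y : P)
    (hc : ∀ a b : P, ⁅a, b⁆ ∈ Subgroup.center P) (n : ℕ) :
    (x * y) ^ n = x ^ n * y ^ n * ⁅y, x⁆ ^ (n.choose 2) := by
  induction n with
  | zero => simp
  | succ n ih =>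
    have hcc := hc y x
    have hcen : ∀ g : P, Commute ⁅y, x⁆ g := fun g => (Subgroup.mem_center_iff.mp hcc g).symm
    -- y^n * x = c^n * x * y^n
    have h1 : y ^ n * x = ⁅y, x⁆ ^ n * x * y ^ n := by
      rw [← commutator_pow_left y x hcc n, commutatorElement_def]
      group
    have h2 : x ^ n * (⁅y, x⁆ ^ n * x * y ^ n) * y = (x ^ n * x * (y ^ n * y)) * ⁅y, x⁆ ^ n := by
      calc x ^ n * (⁅y, x⁆ ^ n * x * y ^ n) * y
          = x ^ n * ⁅y, x⁆ ^ n * (x * y ^ n * y) := by simp only [mul_assoc]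
        _ = ⁅y, x⁆ ^ n * x ^ n * (x * y ^ n * y) := by
            rw [((hcen (x ^ n)).pow_left n).eq]
        _ = ⁅y, x⁆ ^ n * (x ^ n * x * (y ^ n * y)) := by simp only [mul_assoc]
        _ = (x ^ n * x * (y ^ n * y)) * ⁅y, x⁆ ^ n := ((hcen _).pow_left n).eq
    have h3 : n.succ.choose 2 = n + n.choose 2 := by
      rw [Nat.choose_succ_succ' n 1, Nat.choose_one_right]
    have h4 : ⁅y, x⁆ ^ (n + 1).choose 2 = ⁅y, x⁆ ^ n * ⁅y, x⁆ ^ n.choose 2 := by
      rw [h3, pow_add]
    rw [h4]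
    calc (x * y) ^ (n + 1) = x ^ n * y ^ n * ⁅y, x⁆ ^ n.choose 2 * (x * y) := by
          rw [pow_succ, ih]
      _ = x ^ n * y ^ n * (x * y) * ⁅y, x⁆ ^ n.choose 2 := by
          rw [mul_assoc (x ^ n * y ^ n), ((hcen (x * y)).pow_left _).eq, ← mul_assoc]
      _ = x ^ n * (y ^ n * x) * y * ⁅y, x⁆ ^ n.choose 2 := by simp only [mul_assoc]
      _ = x ^ n * (⁅y, x⁆ ^ n * x * y ^ n) * y * ⁅y, x⁆ ^ n.choose 2 := by rw [h1]
      _ = (x ^ n * x * (y ^ n * y)) * ⁅y, x⁆ ^ n * ⁅y, x⁆ ^ n.choose 2 := by rw [h2]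
      _ = x ^ (n + 1) * y ^ (n + 1) * (⁅y, x⁆ ^ n * ⁅y, x⁆ ^ n.choose 2) := by
          rw [pow_succ, pow_succ, mul_assoc]

/-- For odd p, in a p-group of class at most two the elements of order dividing p generate a subgroup of exponent dividing p. -/
theorem result {P : Type*} [Group P] [Finite P] {p : ℕ} [Fact p.Prime] (hp : p ≠ 2) (hP : IsPGroup p P) (h2 : ⁅commutator P, (⊤ : Subgroup P)⁆ = ⊥) (g : P) (hg : g ∈ Subgroup.closure {x : P | x ^ p = 1}) : g ^ p = 1 := by
  have hpp : p.Prime := Fact.out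
  have hc : ∀ a b : P, ⁅a, b⁆ ∈ Subgroup.center P := by
    intro a b
    rw [Subgroup.mem_center_iff]
    intro g
    have h1 : ⁅⁅a, b⁆, g⁆ ∈ ⁅commutator P, (⊤ : Subgroup P)⁆ :=
      Subgroup.commutator_mem_commutator
        (Subgroup.commutator_mem_commutator (Subgroup.mem_top a) (Subgroup.mem_top b))
        (Subgroup.mem_top g)
    rw [h2, Subgroup.mem_bot, commutatorElement_eq_one_iff_mul_comm] at h1
    exact h1.symm
  have hdvd : p ∣ p.choose 2 := by
    apply hpp.dvd_choose_self (by norm_num)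
    have := hpp.two_le
    omega
  induction hg using Subgroup.closure_induction with
  | mem x hx => exact hx
  | one => exact one_pow p
  | mul x y _ _ hx hy =>
    rw [mul_pow_of_class_two x y hc p, hx, hy, one_mul, one_mul]
    obtain ⟨k, hk⟩ := hdvd
    rw [hk, pow_mul, ← commutator_pow_left y x (hc y x) p, hy]
    simp
  | inv x _ hx => rw [inv_pow, hx, inv_one]

end Cfsg.Agent.S0096
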