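import Cfsg.Statements.S0097
import Cfsg.Agent.S0094
import Cfsg.Agent.S0096

set_option autoImplicit false
open Cfsg

namespace Cfsg.Agent.S0097

open scoped commutatorElement
open Cfsg.Agent.S0094 Cfsg.Agent.S0096

/-- For odd p and E extraspecial, the subgroup generated by the elements of order dividing p has exponent dividing p and index at most p. -/
theorem result {E : Type*} [Group E] [Finite E] {p : ℕ} [Fact p.Prime] (hp : p ≠ 2) (h : Cfsg.IsExtraspecial p E) : (Subgroup.closure {x : E | x ^ p = 1}).index ≤ p ∧ ∀ g ∈ Subgroup.closure {x : E | x ^ p = 1}, g ^ p = 1 := by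
  have hpp : p.Prime := Fact.out
  obtain ⟨hsp, hcard⟩ := h
  have hsp' := hsp
  obtain ⟨hP, hfr, hcomm⟩ := hsp
  have hc : ∀ a b : E, ⁅a, b⁆ ∈ Subgroup.center E := by
    intro a b
    rw [← hcomm]
    exact Subgroup.commutator_mem_commutator (Subgroup.mem_top a) (Subgroup.mem_top b)
  have h2 : ⁅commutator E, (⊤ : Subgroup E)⁆ = ⊥ := by
    rw [eq_bot_iff, Subgroup.commutator_le]
    intro a ha b _
    rw [Subgroup.mem_bot, commutatorElement_eq_one_iff_mul_comm]
    rw [hcomm] at ha
    exact (Subgroup.mem_center_iff.mp ha b).symm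
  refine ⟨?_, fun g hg => Cfsg.Agent.S0096.result hp hP h2 g hg⟩
  have hdvd : p ∣ p.choose 2 := by
    apply hpp.dvd_choose_self (by norm_num)
    have := hpp.two_le
    omega
  -- the `p`-power map is a homomorphism into the centre
  have hmul : ∀ x y : E, (x * y) ^ p = x ^ p * y ^ p := by
    intro x y
    rw [mul_pow_of_class_two x y hc p]
    obtain ⟨k, hk⟩ := hdvd
    rw [hk, pow_mul, Cfsg.Agent.S0094.result hsp' _ (hc y x), one_pow, mul_one]
  have hpow : ∀ x : E, x ^ p ∈ Subgroup.center E := by
    intro x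
    rw [← hfr]
    exact Cfsg.Agent.Lib.Helper1_Frattini.pow_mem_frattini_of_isPGroup hP x
  let φ : E →* Subgroup.center E :=
    { toFun := fun x => ⟨x ^ p, hpow x⟩
      map_one' := by ext; simp
      map_mul' := fun x y => by ext; simp [hmul x y] }
  have hker : φ.ker ≤ Subgroup.closure {x : E | x ^ p = 1} := by
    intro x hx
    apply Subgroup.subset_closure
    have := congrArg Subtype.val (MonoidHom.mem_ker.mp hx)
    exact this
  have h1 : (Subgroup.closure {x : E | x ^ p = 1}).index ∣ φ.ker.index :=
    Subgroup.index_dvd_of_le hker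
  have h3 : φ.ker.index ∣ p := by
    rw [Subgroup.index_ker, ← hcard]
    exact Subgroup.card_subgroup_dvd_card _
  exact Nat.le_of_dvd hpp.pos (h1.trans h3)

end Cfsg.Agent.S0097
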