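import Mathlib
import Cfsg.Statements.S0098
import Cfsg.Agent.Lib.Helper63_Heisenberg
import Cfsg.Agent.Lib.Helper89_HeisClass

set_option autoImplicit false
open Cfsg

namespace Cfsg.Agent.S0098

/-- For odd p, extraspecial p-groups of exponent p are determined up to isomorphism by their order. -/
theorem result {E₁ : Type*} {E₂ : Type*} [Group E₁] [Group E₂] [Finite E₁] [Finite E₂] {p : ℕ} [Fact p.Prime] (hp : p ≠ 2) (h₁ : Cfsg.IsExtraspecial p E₁) (h₂ : Cfsg.IsExtraspecial p E₂) (he₁ : Monoid.exponent E₁ = p) (he₂ : Monoid.exponent E₂ = p) (hc : Nat.card E₁ = Nat.card E₂) : Nonempty (E₁ ≃* E₂) := by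
  obtain ⟨m₁, ⟨Φ₁⟩⟩ := Cfsg.Agent.Lib.Helper89_HeisClass.exists_iso_heis h₁ he₁
  obtain ⟨m₂, ⟨Φ₂⟩⟩ := Cfsg.Agent.Lib.Helper89_HeisClass.exists_iso_heis h₂ he₂
  have c₁ := Cfsg.Agent.Lib.Helper89_HeisClass.card_eq_of_iso Φ₁
  have c₂ := Cfsg.Agent.Lib.Helper89_HeisClass.card_eq_of_iso Φ₂
  have e12 : m₁ = m₂ := Cfsg.Agent.Lib.Helper89_HeisClass.eq_of_card_eq (p := p) (by rw [← c₁, ← c₂, hc])
  subst e12
  exact ⟨Φ₁.symm.trans Φ₂⟩

end Cfsg.Agent.S0098
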