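import Mathlib
import Cfsg.Statements.S0099
import Cfsg.Agent.S5396
import Cfsg.Agent.Lib.Helper89_ESClass

set_option autoImplicit false
open Cfsg

namespace Cfsg.Agent.S0099

/-- Among three extraspecial 2-groups of equal order, some two are isomorphic. -/
theorem result {E₁ : Type*} {E₂ : Type*} {E₃ : Type*} [Group E₁] [Group E₂] [Group E₃] [Finite E₁] [Finite E₂] [Finite E₃] (h₁ : Cfsg.IsExtraspecial 2 E₁) (h₂ : Cfsg.IsExtraspecial 2 E₂) (h₃ : Cfsg.IsExtraspecial 2 E₃) (h12 : Nat.card E₁ = Nat.card E₂) (h23 : Nat.card E₂ = Nat.card E₃) : Nonempty (E₁ ≃* E₂) ∨ Nonempty (E₂ ≃* E₃) ∨ Nonempty (E₁ ≃* E₃) := by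
  obtain ⟨m₁, b₁, ⟨Φ₁⟩⟩ := Cfsg.Agent.Lib.Helper89_ESClass.exists_iso_std h₁
  obtain ⟨m₂, b₂, ⟨Φ₂⟩⟩ := Cfsg.Agent.Lib.Helper89_ESClass.exists_iso_std h₂
  obtain ⟨m₃, b₃, ⟨Φ₃⟩⟩ := Cfsg.Agent.Lib.Helper89_ESClass.exists_iso_std h₃
  have c₁ := Cfsg.Agent.Lib.Helper89_ESClass.card_eq_of_iso Φ₁
  have c₂ := Cfsg.Agent.Lib.Helper89_ESClass.card_eq_of_iso Φ₂
  have c₃ := Cfsg.Agent.Lib.Helper89_ESClass.card_eq_of_iso Φ₃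
  have e12 : m₁ = m₂ := Cfsg.Agent.Lib.Helper89_ESClass.eq_of_card_eq (by rw [← c₁, ← c₂, h12])
  have e23 : m₂ = m₃ := Cfsg.Agent.Lib.Helper89_ESClass.eq_of_card_eq (by rw [← c₂, ← c₃, h23])
  subst e12
  subst e23
  have hb : b₁ = b₂ ∨ b₂ = b₃ ∨ b₁ = b₃ := by
    cases b₁ <;> cases b₂ <;> cases b₃ <;> simp
  rcases hb with h | h | h
  · subst h
    exact Or.inl ⟨Φ₁.symm.trans Φ₂⟩
  · subst h
    exact Or.inr (Or.inl ⟨Φ₂.symm.trans Φ₃⟩)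
  · subst h
    exact Or.inr (Or.inr ⟨Φ₁.symm.trans Φ₃⟩)

end Cfsg.Agent.S0099
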