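import Cfsg.Statements.S0100
import Cfsg.Agent.Lib.Helper20_PGroupRank3

set_option autoImplicit false
open Cfsg

namespace Cfsg.Agent.S0100

/-- For odd p, a p-group without normal elementary abelian subgroups of order p^3 has p-rank at most 2. -/
theorem result {P : Type*} [Group P] [Finite P] {p : ℕ} [Fact p.Prime] (hp : p ≠ 2) (hP : IsPGroup p P) (h : ∀ A : Subgroup P, A.Normal → IsMulCommutative A → (∀ a ∈ A, a ^ p = 1) → Nat.card A ≠ p ^ 3) (E : Subgroup P) (hE : IsMulCommutative E) (hEe : ∀ e ∈ E, e ^ p = 1) : Nat.card E ≤ p ^ 2 := by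
  have hpP : p.Prime := Fact.out
  by_contra hlt
  push Not at hlt
  have hEp : IsPGroup p E := hP.to_subgroup E
  obtain ⟨k, hk⟩ := IsPGroup.iff_card.mp hEp
  have hk3 : 3 ≤ k := by
    by_contra hk2
    push Not at hk2
    have : p ^ k ≤ p ^ 2 := Nat.pow_le_pow_right hpP.pos (by omega)
    omega
  have hcard : p ^ 3 ≤ Nat.card E := by
    rw [hk]; exact Nat.pow_le_pow_right hpP.pos hk3
  have hEc : ∀ x ∈ E, ∀ y ∈ E, x * y = y * x := by
    intro x hx y hy
    exact congrArg Subtype.val (hE.is_comm.comm ⟨x, hx⟩ ⟨y, hy⟩)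
  obtain ⟨X, hXn, hXc, hXe, hXcard⟩ :=
    Cfsg.Agent.Lib.Helper20_PGroupRank3.exists_normal_rank_three hp hP E hEc hEe hcard
  refine h X hXn ⟨⟨?_⟩⟩ hXe hXcard
  intro a b
  exact Subtype.ext (hXc a.1 a.2 b.1 b.2)

end Cfsg.Agent.S0100
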