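import Cfsg.Statements.S0101
import Cfsg.Agent.Lib.Helper1_Frattini

set_option autoImplicit false
open Cfsg

namespace Cfsg.Agent.S0101

/-- In a perfect central extension, the kernel meets each Sylow p-subgroup P inside the Frattini subgroup of P. -/
theorem result {H : Type*} {G : Type*} [Group H] [Group G] [Finite H] (σ : H →* G) (hσ : Function.Surjective σ) (hc : σ.ker ≤ Subgroup.center H) (hH : commutator H = ⊤) {p : ℕ} [Fact p.Prime] (P : Sylow p H) : σ.ker ⊓ (P : Subgroup H) ≤ (frattini P).map (P : Subgroup H).subtype := by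
  intro x hx
  obtain ⟨hxk, hxP⟩ := Subgroup.mem_inf.1 hx
  have hxc : x ∈ Subgroup.center H := hc hxk
  -- the transfer into the abelianization of `P` is trivial since `H` is perfect
  have htriv : ∀ h : H, MonoidHom.transfer (Abelianization.of : ↥(P : Subgroup H) →* Abelianization ↥(P : Subgroup H)) h = 1 := by
    intro h
    have hk : commutator H ≤ (MonoidHom.transfer (Abelianization.of : ↥(P : Subgroup H) →* Abelianization ↥(P : Subgroup H))).ker :=
      Abelianization.commutator_subset_ker _
    rw [hH] at hk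
    exact MonoidHom.mem_ker.1 (hk (Subgroup.mem_top h))
  have key : ∀ (k : ℕ) (g₀ : H), g₀⁻¹ * x ^ k * g₀ ∈ (P : Subgroup H) → g₀⁻¹ * x ^ k * g₀ = x ^ k := by
    intro k g₀ _
    have hzk : x ^ k ∈ Subgroup.center H := Subgroup.pow_mem _ hxc k
    rw [mul_assoc, (Subgroup.mem_center_iff.1 hzk g₀).symm, ← mul_assoc, inv_mul_cancel, one_mul]
  have hpow := MonoidHom.transfer_eq_pow (Abelianization.of : ↥(P : Subgroup H) →* Abelianization ↥(P : Subgroup H)) x key
  rw [htriv] at hpow
  -- so `x ^ index` lies in the commutator subgroup of `P`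
  set xP : ↥(P : Subgroup H) := ⟨x, hxP⟩ with hxPdef
  have hmem : xP ^ (P : Subgroup H).index ∈ commutator ↥(P : Subgroup H) := by
    rw [← Abelianization.ker_of, MonoidHom.mem_ker]
    rw [hpow]
    congr 1
  -- the index is prime to the order of `xP`
  have hcop : ((P : Subgroup H).index).Coprime (orderOf xP) := by
    obtain ⟨k, hk⟩ := IsPGroup.iff_orderOf.1 P.2 xP
    rw [hk]
    apply Nat.Coprime.pow_right
    rw [Nat.coprime_comm]
    exact (Nat.Prime.coprime_iff_not_dvd Fact.out).2 P.not_dvd_index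
  obtain ⟨m, hm⟩ := exists_pow_eq_self_of_coprime hcop
  have hxcomm : xP ∈ commutator ↥(P : Subgroup H) := by
    rw [← hm]
    exact Subgroup.pow_mem _ hmem m
  have hfr : xP ∈ frattini ↥(P : Subgroup H) :=
    Cfsg.Agent.Lib.Helper1_Frattini.commutator_le_frattini_of_isPGroup (p := p) P.2 hxcomm
  exact Subgroup.mem_map.2 ⟨xP, hfr, rfl⟩

end Cfsg.Agent.S0101
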