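import Cfsg.Statements.S0102
-- import your own Cfsg.Agent.* helpers here

set_option autoImplicit false
open Cfsg

namespace Cfsg.Agent.S0102

/-- A finite perfect group with cyclic Sylow p-subgroups has no perfect central extension whose kernel has order divisible by p. -/
theorem result {G : Type*} {H : Type*} [Group G] [Group H] [Finite G] [Finite H] (hG : commutator G = ⊤) {p : ℕ} [Fact p.Prime] (hcyc : ∀ P : Sylow p G, IsCyclic P) (σ : H →* G) (hσ : Function.Surjective σ) (hz : σ.ker ≤ Subgroup.center H) (hH : commutator H = ⊤) : ¬ p ∣ Nat.card σ.ker := by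
  intro hdvd
  obtain ⟨z, hzord⟩ := exists_prime_orderOf_dvd_card' p hdvd
  -- `z` is an element of order `p` in the kernel
  have hzker : (z : H) ∈ σ.ker := z.2
  have hzc : (z : H) ∈ Subgroup.center H := hz hzker
  have hzordH : orderOf (z : H) = p := by rw [Subgroup.orderOf_coe]; exact hzord
  -- a Sylow subgroup containing `z`
  have hpg : IsPGroup p (Subgroup.zpowers (z : H)) := by
    apply IsPGroup.of_card (n := 1)
    rw [Nat.card_zpowers, hzordH, pow_one]
  obtain ⟨P, hP⟩ := hpg.exists_le_sylow
  have hzP : (z : H) ∈ (P : Subgroup H) := hP (Subgroup.mem_zpowers _)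
  -- the image of `P` is cyclic
  have hc : IsCyclic ↥((P : Subgroup H).map σ) := hcyc (P.mapSurjective hσ)
  -- hence `P` is commutative
  have hkc : (σ.subgroupMap (P : Subgroup H)).ker ≤ Subgroup.center ↥(P : Subgroup H) := by
    intro x hx
    rw [MonoidHom.mem_ker] at hx
    have hx1 : σ (x : H) = 1 := by
      have := congrArg Subtype.val hx
      simpa using this
    have hxc : (x : H) ∈ Subgroup.center H := hz ((MonoidHom.mem_ker).2 hx1)
    rw [Subgroup.mem_center_iff]
    intro y
    apply Subtype.ext
    simp only [Subgroup.coe_mul]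
    exact (Subgroup.mem_center_iff.1 hxc (y : H))
  have hcomm : ∀ a b : ↥(P : Subgroup H), a * b = b * a :=
    (MonoidHom.isMulCommutative_of_isCyclic_of_ker_le_center (σ.subgroupMap (P : Subgroup H)) hkc).is_comm.comm
  let _ : CommGroup ↥(P : Subgroup H) := { (inferInstance : Group ↥(P : Subgroup H)) with mul_comm := hcomm }
  -- the transfer into `P` is trivial since `H` is perfect
  have htriv : ∀ h : H, MonoidHom.transfer (MonoidHom.id ↥(P : Subgroup H)) h = 1 := by
    intro h
    have hk : commutator H ≤ (MonoidHom.transfer (MonoidHom.id ↥(P : Subgroup H))).ker :=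
      Abelianization.commutator_subset_ker _
    rw [hH] at hk
    exact MonoidHom.mem_ker.1 (hk (Subgroup.mem_top h))
  -- but it sends `z` to `z ^ index`
  have key : ∀ (k : ℕ) (g₀ : H), g₀⁻¹ * (z : H) ^ k * g₀ ∈ (P : Subgroup H) → g₀⁻¹ * (z : H) ^ k * g₀ = (z : H) ^ k := by
    intro k g₀ _
    have hzk : (z : H) ^ k ∈ Subgroup.center H := Subgroup.pow_mem _ hzc k
    rw [mul_assoc, (Subgroup.mem_center_iff.1 hzk g₀).symm, ← mul_assoc, inv_mul_cancel, one_mul]
  have hpow := MonoidHom.transfer_eq_pow (MonoidHom.id ↥(P : Subgroup H)) (z : H) key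
  rw [htriv] at hpow
  have hpow1 : (z : H) ^ (P : Subgroup H).index = 1 := by
    have := congrArg Subtype.val hpow
    simpa using this.symm
  have hdvd2 : p ∣ (P : Subgroup H).index := by
    have h := orderOf_dvd_of_pow_eq_one hpow1
    rwa [hzordH] at h
  exact P.not_dvd_index hdvd2

end Cfsg.Agent.S0102
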