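import Cfsg.Statements.S0104

set_option autoImplicit false
open Cfsg

namespace Cfsg.Agent.S0104

open Subgroup MulAction Sylow
open scoped Pointwise

theorem map_conj_le_iff {G : Type*} [Group G] (Z Q : Subgroup G) (g : G) :
    Z.map (MulAut.conj g).toMonoidHom ≤ Q ↔ Z ≤ Q.map (MulAut.conj g⁻¹).toMonoidHom := by
  constructor
  · intro h z hz
    refine ⟨g * z * g⁻¹, h ⟨z, hz, by simp [MulAut.conj_apply]⟩, ?_⟩
    simp [MulAut.conj_apply, mul_assoc]
  · rintro h - ⟨z, hz, rfl⟩
    obtain ⟨q, hq, hqz⟩ := h hz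
    have : q = g * z * g⁻¹ := by
      have := congrArg (fun t => g * t * g⁻¹) hqz
      simpa [MulAut.conj_apply, mul_assoc] using this
    simpa [MulAut.conj_apply, this] using hq

/-- A subgroup Z of a Sylow p-subgroup P that is normalized by N_G(P) is weakly closed in P exactly when it is normal in every Sylow p-subgroup containing it. -/
theorem result {G : Type*} [Group G] [Finite G] {p : ℕ} [Fact p.Prime] (P : Sylow p G) (Z : Subgroup G) (hZP : Z ≤ (P : Subgroup G)) (hZN : Subgroup.normalizer (P : Set G) ≤ Subgroup.normalizer (Z : Set G)) : Cfsg.IsWeaklyClosed Z P ↔ ∀ R : Sylow p G, Z ≤ (R : Subgroup G) → (R : Subgroup G) ≤ Subgroup.normalizer (Z : Set G) := by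
  have hPN : (P : Subgroup G) ≤ normalizer (Z : Set G) := le_trans le_normalizer hZN
  constructor
  · rintro ⟨-, hW⟩ R hZR
    obtain ⟨g, rfl⟩ := exists_smul_eq G P R
    have h1 : Z.map (MulAut.conj g⁻¹).toMonoidHom ≤ (P : Subgroup G) := by
      rw [map_conj_le_iff, inv_inv]
      exact hZR
    have h2 := hW g⁻¹ h1
    have h3 : g⁻¹ ∈ normalizer (Z : Set G) := mem_normalizer_iff_map_conj_eq.mpr h2
    have h4 : g ∈ normalizer (Z : Set G) := by simpa using inv_mem h3
    rintro - ⟨x, hx, rfl⟩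
    exact mul_mem (mul_mem h4 (hPN hx)) (inv_mem h4)
  · intro H
    refine ⟨hZP, fun g hg => ?_⟩
    have h1 : Z ≤ ((g⁻¹ • P : Sylow p G) : Subgroup G) := by
      rw [map_conj_le_iff] at hg
      exact hg
    have h2 := H _ h1
    obtain ⟨h, hh⟩ :=
      exists_smul_eq (normalizer (Z : Set G)) ((g⁻¹ • P).subtype h2) (P.subtype hPN)
    simp_rw [smul_subtype, Subgroup.smul_def, smul_smul] at hh
    have h3 : (h : G) * g⁻¹ ∈ normalizer (P : Set G) :=
      smul_eq_iff_mem_normalizer.mp (subtype_injective hh)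
    have h4 : (h : G) * g⁻¹ ∈ normalizer (Z : Set G) := hZN h3
    have h5 : g⁻¹ ∈ normalizer (Z : Set G) := by
      have := mul_mem (inv_mem h.prop) h4
      simpa using this
    have h6 : g ∈ normalizer (Z : Set G) := by simpa using inv_mem h5
    exact mem_normalizer_iff_map_conj_eq.mp h6

end Cfsg.Agent.S0104
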