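import Cfsg.Statements.S0105
import Cfsg.Agent.S0075
import Cfsg.Agent.Lib.Helper2_Coprime
import Cfsg.Agent.Lib.Helper2_PResidual

set_option autoImplicit false
open Cfsg

namespace Cfsg.Agent.S0105

open scoped commutatorElement
open Subgroup Cfsg.Agent.Lib.Helper2_Coprime Cfsg.Agent.Lib.Helper2_PResidual

/-- With an abelian Sylow p-subgroup P, some quotient of G is isomorphic to the part of P central in N_G(P). -/
theorem result {G : Type*} [Group G] [Finite G] {p : ℕ} [Fact p.Prime] (P : Sylow p G) (hP : IsMulCommutative P) : ∃ (N : Subgroup G) (hN : N.Normal), Nonempty (G ⧸ N ≃* ((P : Subgroup G) ⊓ Subgroup.centralizer (Subgroup.normalizer (P : Set G) : Set G) : Subgroup G)) := by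
  have hp : p.Prime := Fact.out
  have hcop : Nat.Coprime (Nat.card (P : Subgroup G))
      ((P : Subgroup G).relIndex (normalizer ((P : Subgroup G) : Set G))) := by
    obtain ⟨k, hk⟩ := P.2.exists_card_eq
    rw [hk]
    apply Nat.Coprime.pow_left
    apply Nat.Coprime.coprime_dvd_right (relIndex_dvd_index_of_le le_normalizer)
    exact (Nat.Prime.coprime_iff_not_dvd hp).mpr P.not_dvd_index
  obtain ⟨hinf, hsup⟩ := relative_decomposition (P : Subgroup G)
    (normalizer ((P : Subgroup G) : Set G)) le_normalizer le_rfl hcop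
  have hmul := relative_exists_mul (P : Subgroup G)
    (normalizer ((P : Subgroup G) : Set G)) le_normalizer le_rfl hcop
  have h75 : (P : Subgroup G) ⊓ pResidual p G =
      ⁅(P : Subgroup G), normalizer ((P : Subgroup G) : Set G)⁆ := Cfsg.Agent.S0075.result P hP
  refine ⟨pResidual p G, inferInstance, ⟨?_⟩⟩
  let F : Subgroup G := (P : Subgroup G) ⊓ centralizer (normalizer ((P : Subgroup G) : Set G) : Set G)
  let ψ : F →* G ⧸ pResidual p G := (QuotientGroup.mk' (pResidual p G)).comp F.subtype
  have hinj : Function.Injective ψ := by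
    rw [← MonoidHom.ker_eq_bot_iff, eq_bot_iff]
    intro f hf
    rw [MonoidHom.mem_ker] at hf
    have h1 : (f : G) ∈ pResidual p G := (QuotientGroup.eq_one_iff (f : G)).mp hf
    have h2 : (f : G) ∈ (P : Subgroup G) := (mem_inf.mp f.2).1
    have h3 : (f : G) ∈ ⁅(P : Subgroup G), normalizer ((P : Subgroup G) : Set G)⁆ := by
      rw [← h75]; exact mem_inf.mpr ⟨h2, h1⟩
    have h4 : (f : G) ∈ ⁅(P : Subgroup G), normalizer ((P : Subgroup G) : Set G)⁆ ⊓ F :=
      mem_inf.mpr ⟨h3, f.2⟩
    rw [hinf, mem_bot] at h4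
    rw [mem_bot]
    exact Subtype.ext h4
  have hsurj : Function.Surjective ψ := by
    intro x
    obtain ⟨g, rfl⟩ := QuotientGroup.mk_surjective x
    have hg : g ∈ (P : Subgroup G) ⊔ pResidual p G := by
      rw [sylow_sup_pResidual]; exact mem_top g
    obtain ⟨t, ht, r, hr, rfl⟩ := mem_sup_of_normal_right.mp hg
    obtain ⟨c, hc, z, hz, rfl⟩ := hmul t ht
    have hcR : c ∈ pResidual p G := by
      have : c ∈ (P : Subgroup G) ⊓ pResidual p G := by rw [h75]; exact hc
      exact (mem_inf.mp this).2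
    refine ⟨⟨z, hz⟩, ?_⟩
    show (QuotientGroup.mk z : G ⧸ pResidual p G) = QuotientGroup.mk (c * z * r)
    rw [QuotientGroup.mk_mul, QuotientGroup.mk_mul, (QuotientGroup.eq_one_iff c).mpr hcR,
      (QuotientGroup.eq_one_iff r).mpr hr, one_mul, mul_one]
  exact (MulEquiv.ofBijective ψ ⟨hinj, hsurj⟩).symm

end Cfsg.Agent.S0105
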