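import Cfsg.Statements.S0600
import Mathlib
import Cfsg.Agent.Lib.Helper1_Cores

set_option autoImplicit false
open Cfsg

namespace Cfsg.Agent.S0600

open Cfsg.Agent.Lib.Helper1_Cores

/-- An element whose image lies in `O_p(G/C)` is, for every Sylow `p`-subgroup `S`, a product of an
element of `S` and an element of `C`. -/
theorem exists_mul_of_mem_pCore_quotient {G : Type*} [Group G] [Finite G] {p : ℕ} [Fact p.Prime]
    (C : Subgroup G) [C.Normal] (x : G)
    (hx : (QuotientGroup.mk x : G ⧸ C) ∈ Cfsg.pCore p (G ⧸ C)) (S : Sylow p G) :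
    ∃ s ∈ (S : Subgroup G), ∃ c ∈ C, x = s * c := by
  have hπ : Function.Surjective (QuotientGroup.mk' C) := QuotientGroup.mk'_surjective C
  have h1 : Cfsg.pCore p (G ⧸ C) ≤ ((S.mapSurjective hπ : Sylow p (G ⧸ C)) : Subgroup (G ⧸ C)) :=
    pCore_le_sylow p _
  obtain ⟨s, hs, hsx⟩ := h1 hx
  refine ⟨s, hs, s⁻¹ * x, ?_, by group⟩
  rw [← QuotientGroup.eq]
  exact hsx

/-- A normal elementary abelian p-subgroup generated by the fixed points of the Sylow p-subgroups admits no nontrivial normal p-subgroup of G modulo its centralizer. -/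
theorem result {G : Type*} [Group G] [Finite G] {p : ℕ} [Fact p.Prime] (V : Subgroup G) [V.Normal] (hV : Cfsg.IsElementaryAbelian p V) (hgen : V = ⨆ S : Sylow p G, V ⊓ Subgroup.centralizer ((S : Subgroup G) : Set G)) : Cfsg.pCore p (G ⧸ Subgroup.centralizer (V : Set G)) = ⊥ := by
  rw [eq_bot_iff]
  intro xbar hx
  obtain ⟨x, rfl⟩ := QuotientGroup.mk_surjective xbar
  rw [Subgroup.mem_bot, QuotientGroup.eq_one_iff]
  have key : V ≤ Subgroup.centralizer ({x} : Set G) := by
    rw [hgen]
    apply iSup_le
    intro S v hv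
    obtain ⟨s, hs, c, hc, rfl⟩ := exists_mul_of_mem_pCore_quotient _ x hx S
    rw [Subgroup.mem_centralizer_iff]
    intro y hy
    rw [Set.mem_singleton_iff] at hy
    rw [hy]
    have h1 : s * v = v * s := (Subgroup.mem_centralizer_iff.mp hv.2) s hs
    have h2 : v * c = c * v := (Subgroup.mem_centralizer_iff.mp hc) v hv.1
    calc s * c * v = s * (c * v) := by group
      _ = s * (v * c) := by rw [h2]
      _ = (s * v) * c := by group
      _ = v * s * c := by rw [h1]
      _ = v * (s * c) := by group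
  rw [Subgroup.mem_centralizer_iff]
  intro v hv
  exact ((Subgroup.mem_centralizer_iff.mp (key hv)) x (Set.mem_singleton x)).symm

end Cfsg.Agent.S0600
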