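import Cfsg.Statements.S0601
import Mathlib
import Cfsg.Agent.S0600
import Cfsg.Agent.Lib.Helper1_Cores
import Cfsg.Agent.Lib.Helper10_Thompson

set_option autoImplicit false
open Cfsg
open scoped Pointwise

namespace Cfsg.Agent.S0601

open Cfsg.Agent.Lib.Helper1_Cores Cfsg.Agent.Lib.Helper10_Thompson

/-- When O_p(G) contains its centralizer, the normal closure of Ω₁(Z(S)) is elementary abelian and G has no nontrivial normal p-subgroup modulo its centralizer. -/
theorem result {G : Type*} [Group G] [Finite G] {p : ℕ} [Fact p.Prime] (hc : Subgroup.centralizer (Cfsg.pCore p G : Set G) ≤ Cfsg.pCore p G) : (⨆ S : Sylow p G, Cfsg.omegaOne p (((S : Subgroup G)) ⊓ Subgroup.centralizer ((S : Subgroup G) : Set G))).Normal ∧ Cfsg.IsElementaryAbelian p (⨆ S : Sylow p G, Cfsg.omegaOne p (((S : Subgroup G)) ⊓ Subgroup.centralizer ((S : Subgroup G) : Set G))) ∧ ∀ D : Subgroup G, D.Normal → Subgroup.centralizer ((⨆ S : Sylow p G, Cfsg.omegaOne p (((S : Subgroup G)) ⊓ Subgroup.centralizer ((S : Subgroup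 G) : Set G)) : Subgroup G) : Set G) ≤ D → (∃ k : ℕ, (Subgroup.centralizer ((⨆ S : Sylow p G, Cfsg.omegaOne p (((S : Subgroup G)) ⊓ Subgroup.centralizer ((S : Subgroup G) : Set G)) : Subgroup G) : Set G)).relIndex D = p ^ k) → D = Subgroup.centralizer ((⨆ S : Sylow p G, Cfsg.omegaOne p (((S : Subgroup G)) ⊓ Subgroup.centralizer ((S : Subgroup G) : Set G)) : Subgroup G) : Set G) := by
  set W : Subgroup G := ⨆ S : Sylow p G, Cfsg.omegaOne p
    (((S : Subgroup G)) ⊓ Subgroup.centralizer ((S : Subgroup G) : Set G)) with hW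
  set P : Subgroup G := pCore p G with hP
  -- generators
  have hgenP : ∀ S : Sylow p G, ∀ x, x ∈ (S : Subgroup G) ⊓ Subgroup.centralizer ((S : Subgroup G) : Set G) →
      x ∈ P ⊓ Subgroup.centralizer (P : Set G) := by
    intro S x hx
    have hPS : P ≤ (S : Subgroup G) := pCore_le_sylow p S
    have h1 : x ∈ Subgroup.centralizer (P : Set G) := Subgroup.centralizer_le hPS hx.2
    exact ⟨hc h1, h1⟩
  -- W is elementary abelian
  have hWea : IsElementaryAbelian p W := by
    have hT : IsElementaryAbelian p (Subgroup.closure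
        {x : G | x ∈ P ⊓ Subgroup.centralizer (P : Set G) ∧ x ^ p = 1}) := by
      apply isElementaryAbelian_closure
      · rintro x ⟨hx, -⟩ y ⟨hy, -⟩
        exact (Subgroup.mem_centralizer_iff.mp hy.2) x hx.1
      · rintro x ⟨-, hx⟩
        exact hx
    refine ea_mono ?_ hT
    rw [hW]
    apply iSup_le
    intro S
    unfold omegaOne
    apply Subgroup.closure_mono
    rintro x ⟨hx, hxp⟩
    exact ⟨hgenP S x hx, hxp⟩
  -- W is normal
  have hmap : ∀ g : G, W.map (MulAut.conj g).toMonoidHom ≤ W := by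
    intro g
    rw [hW, Subgroup.map_iSup]
    apply iSup_le
    intro S
    refine le_trans ?_ (le_iSup (fun S : Sylow p G => Cfsg.omegaOne p
      (((S : Subgroup G)) ⊓ Subgroup.centralizer ((S : Subgroup G) : Set G))) (g • S))
    unfold omegaOne
    rw [MonoidHom.map_closure]
    apply Subgroup.closure_mono
    rintro _ ⟨x, ⟨hx, hxp⟩, rfl⟩
    have hmem : ∀ y ∈ (S : Subgroup G), g * y * g⁻¹ ∈ ((g • S : Sylow p G) : Subgroup G) := by
      intro y hy
      rw [Sylow.coe_subgroup_smul, Subgroup.mem_pointwise_smul_iff_inv_smul_mem]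
      simpa [MulAut.conj_apply, mul_assoc] using hy
    refine ⟨⟨hmem x hx.1, ?_⟩, ?_⟩
    · change g * x * g⁻¹ ∈ Subgroup.centralizer (((g • S : Sylow p G) : Subgroup G) : Set G)
      rw [Subgroup.mem_centralizer_iff]
      intro y hy
      rw [SetLike.mem_coe, Sylow.coe_subgroup_smul, Subgroup.mem_pointwise_smul_iff_inv_smul_mem] at hy
      have hy' : g⁻¹ * y * g ∈ (S : Subgroup G) := by
        simpa [MulAut.conj_apply, mul_assoc] using hy
      have := (Subgroup.mem_centralizer_iff.mp hx.2) _ hy'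
      change y * (g * x * g⁻¹) = (g * x * g⁻¹) * y
      calc y * (g * x * g⁻¹) = g * ((g⁻¹ * y * g) * x) * g⁻¹ := by group
        _ = g * (x * (g⁻¹ * y * g)) * g⁻¹ := by rw [this]
        _ = (g * x * g⁻¹) * y := by group
    · change (g * x * g⁻¹) ^ p = 1
      rw [conj_pow, hxp]; group
  have hWn : W.Normal := by
    constructor
    intro n hn g
    exact hmap g ⟨n, hn, rfl⟩
  refine ⟨hWn, hWea, ?_⟩
  intro D hDn hCD hidx
  apply le_antisymm _ hCD
  set C : Subgroup G := Subgroup.centralizer (W : Set G) with hC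
  have hCn : C.Normal := Subgroup.normal_centralizer
  obtain ⟨k, hk⟩ := hidx
  -- D/C is a normal p-subgroup of G/C
  have hDp : IsPGroup p (D.map (QuotientGroup.mk' C)) := by
    apply IsPGroup.of_card (n := k)
    rw [← hk, ← Subgroup.relIndex_ker, QuotientGroup.ker_mk']
  have hDbn : (D.map (QuotientGroup.mk' C)).Normal :=
    hDn.map _ (QuotientGroup.mk'_surjective C)
  have hDle : D.map (QuotientGroup.mk' C) ≤ Cfsg.pCore p (G ⧸ C) := le_pCore hDbn hDp
  intro d hd
  have hdbar : (QuotientGroup.mk d : G ⧸ C) ∈ Cfsg.pCore p (G ⧸ C) :=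
    hDle (Subgroup.mem_map_of_mem _ hd)
  have key : W ≤ Subgroup.centralizer ({d} : Set G) := by
    rw [hW]
    apply iSup_le
    intro S
    unfold omegaOne
    rw [Subgroup.closure_le]
    rintro v ⟨hv, hvp⟩
    obtain ⟨s, hs, c, hcC, rfl⟩ := Cfsg.Agent.S0600.exists_mul_of_mem_pCore_quotient C d hdbar S
    rw [SetLike.mem_coe, Subgroup.mem_centralizer_iff]
    intro y hy
    rw [Set.mem_singleton_iff] at hy
    rw [hy]
    have hvW : v ∈ W := by
      rw [hW]
      refine (le_iSup (fun S : Sylow p G => Cfsg.omegaOne p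
        (((S : Subgroup G)) ⊓ Subgroup.centralizer ((S : Subgroup G) : Set G))) S) ?_
      exact Subgroup.subset_closure ⟨hv, hvp⟩
    have h1 : s * v = v * s := (Subgroup.mem_centralizer_iff.mp hv.2) s hs
    have h2 : v * c = c * v := (Subgroup.mem_centralizer_iff.mp hcC) v hvW
    calc s * c * v = s * (c * v) := by group
      _ = s * (v * c) := by rw [h2]
      _ = (s * v) * c := by group
      _ = v * s * c := by rw [h1]
      _ = v * (s * c) := by group
  rw [hC, Subgroup.mem_centralizer_iff]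
  intro v hv
  exact ((Subgroup.mem_centralizer_iff.mp (key hv)) d (Set.mem_singleton d)).symm

end Cfsg.Agent.S0601
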