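import Cfsg.Statements.S2427
import Mathlib

set_option autoImplicit false
open Cfsg

namespace Cfsg.Agent.S2427

open Matrix

/-- The group `SL₂(𝔽₃)`. -/
abbrev G := Matrix.SpecialLinearGroup (Fin 2) (ZMod 3)

set_option maxRecDepth 100000

theorem card_G : Fintype.card G = 24 := by decide +kernel

theorem closed_mul : ∀ a b : G, a ^ 4 = 1 → b ^ 4 = 1 → (a * b) ^ 4 = 1 := by decide +kernel

theorem closed_inv : ∀ a : G, a ^ 4 = 1 → a⁻¹ ^ 4 = 1 := by decide +kernel

/-- The quaternion subgroup: elements of order dividing 4. -/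
def Q : Subgroup G where
  carrier := {g | g ^ 4 = 1}
  mul_mem' := fun {a b} ha hb => closed_mul a b ha hb
  one_mem' := one_pow 4
  inv_mem' := fun {a} ha => closed_inv a ha

theorem mem_Q (g : G) : g ∈ Q ↔ g ^ 4 = 1 := Iff.rfl

instance decMemQ : DecidablePred (· ∈ Q) := fun g => decEq (g ^ 4) 1

theorem comm_mem : ∀ a b : G, (a * b * a⁻¹ * b⁻¹) ^ 4 = 1 := by decide +kernel

theorem mem_comm : ∀ g : G, g ^ 4 = 1 → ∃ a b : G, a * b * a⁻¹ * b⁻¹ = g := by decide +kernel

theorem commutator_eq_Q : commutator G = Q := by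
  apply le_antisymm
  · rw [commutator_def, Subgroup.commutator_le]
    intro a _ b _
    rw [mem_Q, commutatorElement_def]
    exact comm_mem a b
  · intro g hg
    obtain ⟨a, b, rfl⟩ := mem_comm g hg
    rw [commutator_def, ← commutatorElement_def]
    exact Subgroup.commutator_mem_commutator (Subgroup.mem_top a) (Subgroup.mem_top b)

theorem card_Q : Fintype.card Q = 8 := by
  rw [Fintype.card_subtype]
  decide +kernel

/-- The central element `-1`. -/
def z : G := ⟨!![2, 0; 0, 2], by decide⟩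

theorem center_iff : ∀ g : G, (∀ h : G, h * g = g * h) ↔ (g = 1 ∨ g = z) := by decide +kernel

theorem mem_center_iff' (g : G) : g ∈ Subgroup.center G ↔ (g = 1 ∨ g = z) := by
  rw [Subgroup.mem_center_iff]; exact center_iff g

theorem z_ne_one : z ≠ 1 := by decide +kernel

theorem card_center : Nat.card (Subgroup.center G) = 2 := by
  have : (Subgroup.center G : Set G) = {1, z} := by
    ext g
    simp only [SetLike.mem_coe, mem_center_iff', Set.mem_insert_iff, Set.mem_singleton_iff]
  rw [← SetLike.coe_sort_coe, this]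
  rw [Nat.card_eq_card_toFinset]
  simp [z_ne_one.symm]

/-- The quaternion group maps onto `Q`. -/
def I : G := ⟨!![0, 2; 1, 0], by decide⟩
def J : G := ⟨!![1, 1; 1, 2], by decide⟩

def qmap : QuaternionGroup 2 → G
  | .a i => I ^ i.val
  | .xa i => J * I ^ i.val

theorem qmap_mul : ∀ x y : QuaternionGroup 2, qmap (x * y) = qmap x * qmap y := by decide +kernel

theorem qmap_mem : ∀ x : QuaternionGroup 2, qmap x ^ 4 = 1 := by decide +kernel

theorem qmap_inj : ∀ x y : QuaternionGroup 2, qmap x = qmap y → x = y := by decide +kernel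

def qhom : QuaternionGroup 2 →* Q :=
  MonoidHom.mk' (fun x => ⟨qmap x, qmap_mem x⟩) (fun x y => Subtype.ext (qmap_mul x y))

theorem qhom_bij : Function.Bijective qhom := by
  rw [Fintype.bijective_iff_injective_and_card]
  constructor
  · intro x y h
    apply qmap_inj
    exact congrArg Subtype.val h
  · rw [QuaternionGroup.card, card_Q]

/-- conjugates of a noncentral element of `Q`, its square and `1` exhaust `Q`. -/
theorem Q_cover : ∀ g : G, g ^ 4 = 1 → ¬ (g = 1 ∨ g = z) → ∀ h : G, h ^ 4 = 1 →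
    (∃ x : G, h = x * g * x⁻¹) ∨ h = g * g ∨ h = 1 := by decide +kernel

/-- an element outside `Q` has a noncentral commutator. -/
theorem outside_comm : ∀ g : G, ¬ g ^ 4 = 1 → ∃ x : G, ¬ ((g * (x * g⁻¹ * x⁻¹)) = 1 ∨ (g * (x * g⁻¹ * x⁻¹)) = z) := by
  decide +kernel

/-- cosets of `Q` by powers of an element outside `Q` cover `G`. -/
theorem coset_cover : ∀ g : G, ¬ g ^ 4 = 1 → ∀ h : G, ∃ q : G, q ^ 4 = 1 ∧ (h = q ∨ h = g * q ∨ h = g * g * q) := by
  decide +kernel

theorem Q_le_of_mem {N : Subgroup G} (hN : N.Normal) {g : G} (hgN : g ∈ N) (hgQ : g ∈ Q)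
    (hgZ : ¬ (g = 1 ∨ g = z)) : Q ≤ N := by
  intro h hh
  rcases Q_cover g hgQ hgZ h hh with ⟨x, rfl⟩ | rfl | rfl
  · exact hN.conj_mem g hgN x
  · exact N.mul_mem hgN hgN
  · exact N.one_mem

theorem normal_classify (N : Subgroup G) (hN : N.Normal) :
    N = ⊥ ∨ N = ⊤ ∨ N = Subgroup.center G ∨ N = Q := by
  by_cases hA : ∃ g ∈ N, g ∉ Q
  · obtain ⟨g, hgN, hgQ⟩ := hA
    right; left
    obtain ⟨x, hx⟩ := outside_comm g hgQ
    have hc : g * (x * g⁻¹ * x⁻¹) ∈ N := N.mul_mem hgN (hN.conj_mem _ (N.inv_mem hgN) x)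
    have hcQ : g * (x * g⁻¹ * x⁻¹) ∈ Q := by
      have := comm_mem g x
      rw [mem_Q]
      have e : g * (x * g⁻¹ * x⁻¹) = g * x * g⁻¹ * x⁻¹ := by group
      rw [e]; exact this
    have hQN : Q ≤ N := Q_le_of_mem hN hc hcQ hx
    rw [eq_top_iff]
    intro h _
    obtain ⟨q, hq, hh⟩ := coset_cover g hgQ h
    have hqN : q ∈ N := hQN hq
    rcases hh with rfl | rfl | rfl
    · exact hqN
    · exact N.mul_mem hgN hqN
    · exact N.mul_mem (N.mul_mem hgN hgN) hqN
  · push Not at hA
    by_cases hB : ∃ g ∈ N, ¬ (g = 1 ∨ g = z)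
    · obtain ⟨g, hgN, hgZ⟩ := hB
      right; right; right
      exact le_antisymm hA (Q_le_of_mem hN hgN (hA g hgN) hgZ)
    · push Not at hB
      by_cases hz : z ∈ N
      · right; right; left
        ext g
        rw [mem_center_iff']
        constructor
        · intro hg; exact hB g hg
        · rintro (rfl | rfl)
          · exact N.one_mem
          · exact hz
      · left
        rw [eq_bot_iff]
        intro g hg
        rcases hB g hg with rfl | rfl
        · exact Subgroup.mem_bot.2 rfl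
        · exact absurd hg hz

theorem result :
    Nat.card (Matrix.SpecialLinearGroup (Fin 2) (ZMod 3)) = 24 ∧
    Nat.card (Subgroup.center (Matrix.SpecialLinearGroup (Fin 2) (ZMod 3))) = 2 ∧
    Nat.card (commutator (Matrix.SpecialLinearGroup (Fin 2) (ZMod 3))) = 8 ∧
    Nonempty (commutator (Matrix.SpecialLinearGroup (Fin 2) (ZMod 3)) ≃* QuaternionGroup 2) ∧
    (∀ P : Sylow 3 (Matrix.SpecialLinearGroup (Fin 2) (ZMod 3)),
      Subgroup.IsComplement' (commutator (Matrix.SpecialLinearGroup (Fin 2) (ZMod 3)))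
        (P : Subgroup (Matrix.SpecialLinearGroup (Fin 2) (ZMod 3)))) ∧
    ∀ N : Subgroup (Matrix.SpecialLinearGroup (Fin 2) (ZMod 3)), N.Normal →
      N = ⊥ ∨ N = ⊤ ∨ N = Subgroup.center (Matrix.SpecialLinearGroup (Fin 2) (ZMod 3)) ∨
        N = commutator (Matrix.SpecialLinearGroup (Fin 2) (ZMod 3)) := by
  have hG : Nat.card G = 24 := by rw [Nat.card_eq_fintype_card]; exact card_G
  have hQ : Nat.card Q = 8 := by rw [Nat.card_eq_fintype_card]; exact card_Q
  refine ⟨hG, card_center, ?_, ?_, ?_, ?_⟩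
  · rw [commutator_eq_Q]; exact hQ
  · rw [commutator_eq_Q]
    exact ⟨(MulEquiv.ofBijective qhom qhom_bij).symm⟩
  · intro P
    rw [commutator_eq_Q]
    have hP : Nat.card P = 3 := by
      have h1 := P.card_eq_multiplicity
      rw [hG] at h1
      have h2 : (24 : ℕ).factorization 3 = 1 := by
        have : (24 : ℕ) = 3 * 8 := by norm_num
        rw [this, Nat.factorization_mul (by norm_num) (by norm_num)]
        simp [Nat.Prime.factorization_self Nat.prime_three,
          Nat.factorization_eq_zero_of_not_dvd (show ¬ 3 ∣ 8 by norm_num)]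
      rw [h2] at h1
      simpa using h1
    apply Subgroup.isComplement'_of_coprime
    · rw [hQ, hP, hG]
    · rw [hQ, hP]; decide
  · intro N hN
    rw [commutator_eq_Q]
    exact normal_classify N hN

end Cfsg.Agent.S2427
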