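import Cfsg.Statements.S0109
import Cfsg.Agent.S0601
import Cfsg.Agent.S0607
import Cfsg.Agent.S0608
import Cfsg.Agent.S2427
import Cfsg.Agent.S5299
import Cfsg.Agent.Lib.Helper50_QuadSec
import Cfsg.Agent.Lib.Helper55_Fitting
import Cfsg.Agent.Lib.Helper51_Local
import Cfsg.Agent.Lib.Helper1_Cores
import Cfsg.Agent.Lib.Helper21_S4Core

set_option autoImplicit false
open Cfsg

namespace Cfsg.Agent.S0109

open scoped commutatorElement

/-- A nontrivial perfect group is not involved in a solvable group. -/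
theorem not_involves_of_solvable {G : Type*} [Group G] (hs : Group.IsSolvable G) {H : Type*}
    [Group H] [Nontrivial H] (hperf : commutator H = ⊤) : ¬ Cfsg.Involves H G := by
  rw [Cfsg.Agent.S5299.involves_iff]
  rintro ⟨K, f, hf⟩
  have : Group.IsSolvable H := Group.isSolvable_of_surjective hf
  exact (Group.IsSolvable.commutator_lt_top_of_nontrivial H).ne hperf

/-- The quaternion group of order 8 is not commutative. -/
theorem quaternion_not_comm : ∃ x y : QuaternionGroup 2, x * y ≠ y * x :=
  ⟨QuaternionGroup.a 1, QuaternionGroup.xa 0, by decide⟩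

/-- `SL(2,3)` is not involved in a finite group with abelian Sylow `2`-subgroups. -/
theorem not_involves_SL23 {G : Type*} [Group G] [Finite G]
    (h2 : ∀ T : Sylow 2 G, IsMulCommutative T) :
    ¬ Cfsg.Involves (Matrix.SpecialLinearGroup (Fin 2) (ZMod 3)) G := by
  rw [Cfsg.Agent.S5299.involves_iff]
  rintro ⟨K, f, hf⟩
  obtain ⟨-, -, hcard, ⟨e⟩, -, -⟩ := Cfsg.Agent.S2427.result
  set Q : Subgroup (Matrix.SpecialLinearGroup (Fin 2) (ZMod 3)) :=
    commutator (Matrix.SpecialLinearGroup (Fin 2) (ZMod 3)) with hQ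
  have hQ2 : IsPGroup 2 Q := IsPGroup.of_card (n := 3) (by rw [hcard]; norm_num)
  have : Fact (Nat.Prime 2) := ⟨Nat.prime_two⟩
  obtain ⟨S, hS2, hSmap, -⟩ := Cfsg.Agent.Lib.Helper50_QuadSec.exists_sylow_lift f hf Q hQ2
  obtain ⟨T, hT⟩ := (hS2.map K.subtype).exists_le_sylow
  have hTc := h2 T
  obtain ⟨x, y, hxy⟩ := quaternion_not_comm
  apply hxy
  obtain ⟨⟨x', hx'Q⟩, rfl⟩ := e.surjective x
  obtain ⟨⟨y', hy'Q⟩, rfl⟩ := e.surjective y
  rw [← map_mul, ← map_mul]
  congr 1
  apply Subtype.ext
  rw [← hSmap] at hx'Q hy'Q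
  obtain ⟨a, ha, rfl⟩ := hx'Q
  obtain ⟨b, hb, rfl⟩ := hy'Q
  have haT : (a : G) ∈ (T : Subgroup G) := hT ⟨a, ha, rfl⟩
  have hbT : (b : G) ∈ (T : Subgroup G) := hT ⟨b, hb, rfl⟩
  have hab : (⟨(a : G), haT⟩ : (T : Subgroup G)) * ⟨(b : G), hbT⟩ = ⟨(b : G), hbT⟩ * ⟨(a : G), haT⟩ :=
    hTc.is_comm.comm _ _
  have hab' : (a : G) * b = b * a := congrArg Subtype.val hab
  have hab'' : a * b = b * a := Subtype.ext hab'
  show f a * f b = f b * f a
  rw [← map_mul, ← map_mul, hab'']

/-- `SL(2,p)` is not involved in `G` under the hypotheses of the theorem. -/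
theorem not_involves_SL2 {G : Type*} [Group G] [Finite G] {p : ℕ} [Fact p.Prime] (hp : p ≠ 2)
    (hs : Group.IsSolvable G) (h3 : p = 3 → ∀ T : Sylow 2 G, IsMulCommutative T) :
    ¬ Cfsg.Involves (Matrix.SpecialLinearGroup (Fin 2) (ZMod p)) G := by
  by_cases hp3 : p = 3
  · subst hp3
    exact not_involves_SL23 (h3 rfl)
  · have hpp : p.Prime := Fact.out
    have h2 : (2 : ZMod p) ≠ 0 := by
      intro h
      have h' : ((2 : ℕ) : ZMod p) = 0 := by exact_mod_cast h
      rw [ZMod.natCast_eq_zero_iff] at h'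
      exact hp ((Nat.prime_dvd_prime_iff_eq hpp Nat.prime_two).1 h')
    have h4 : (2 : ZMod p) ^ 2 ≠ 1 := by
      intro h
      have h' : ((3 : ℕ) : ZMod p) = 0 := by
        have : (2 : ZMod p) ^ 2 - 1 = 0 := by rw [h, sub_self]
        push_cast
        linear_combination this
      rw [ZMod.natCast_eq_zero_iff] at h'
      exact hp3 ((Nat.prime_dvd_prime_iff_eq hpp Nat.prime_three).1 h')
    have hperf := Matrix.SL2.commutator_eq_top h2 h4
    have : Nontrivial (Matrix.SpecialLinearGroup (Fin 2) (ZMod p)) := by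
      refine ⟨⟨⟨!![1, 1; 0, 1], by simp [Matrix.det_fin_two]⟩, 1, ?_⟩⟩
      intro h
      have h1 := congrArg (fun A : Matrix.SpecialLinearGroup (Fin 2) (ZMod p) =>
        (A : Matrix (Fin 2) (Fin 2) (ZMod p)) 0 1) h
      simp at h1
    exact not_involves_of_solvable hs hperf

/-- The Thompson factorization Theorem for solvable groups states that, with p odd (and abelian Sylow 2-subgroups when p = 3) and no nontrivial normal subgroup of order prime to p, every element of G is a product of an element normalizing J(P) and an element centralizing the elements of order dividing p in the centre of P. -/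
theorem result {G : Type*} [Group G] [Finite G] {p : ℕ} [Fact p.Prime] (hp : p ≠ 2) (hs : Group.IsSolvable G) (h3 : p = 3 → ∀ T : Sylow 2 G, IsMulCommutative T) (hF : ∀ N : Subgroup G, N.Normal → Nat.Coprime (Nat.card N) p → N = ⊥) (P : Sylow p G) (g : G) : ∃ a ∈ Subgroup.normalizer (Cfsg.thompsonSubgroupOf p (P : Subgroup G) : Set G), ∃ c ∈ Subgroup.centralizer {x : G | x ∈ (P : Subgroup G) ∧ (∀ y ∈ (P : Subgroup G), x * y = y * x) ∧ x ^ p = 1}, g = a * c := by
  classical
  have hNI := not_involves_SL2 hp hs h3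
  have hO : Cfsg.pPrimeCore p G = ⊥ := by
    unfold Cfsg.pPrimeCore
    rw [sSup_eq_bot]
    rintro N ⟨hN, hc⟩
    exact hF N hN hc
  have hc := Cfsg.Agent.Lib.Helper55_Fitting.centralizer_pCore_le p hO
  obtain ⟨hWn, hWea, hWD⟩ := Cfsg.Agent.S0601.result hc
  obtain ⟨W, hW⟩ : ∃ W : Subgroup G, W = ⨆ S : Sylow p G, Cfsg.omegaOne p
    (((S : Subgroup G)) ⊓ Subgroup.centralizer ((S : Subgroup G) : Set G)) := ⟨_, rfl⟩
  rw [← hW] at hWn hWea hWD
  have hWp : IsPGroup p W := by
    intro w
    refine ⟨1, ?_⟩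
    rw [pow_one]
    exact Subtype.ext (hWea.2 w w.2)
  have hJ : Cfsg.thompsonSubgroup p G ≤ Subgroup.centralizer (W : Set G) := by
    unfold Cfsg.thompsonSubgroup
    apply sSup_le
    intro A hA
    obtain ⟨hA0, hquad, hnt⟩ := Cfsg.Agent.S0607.result W hWea A hA
    obtain ⟨A0, hA0def⟩ : ∃ A0 : Subgroup G,
      A0 = ⁅W, A⁆ ⊔ (A ⊓ Subgroup.centralizer ((⁅W, A⁆ : Subgroup G) : Set G)) := ⟨_, rfl⟩
    rw [← hA0def] at hA0 hquad hnt
    have hA0le : A0 ≤ Subgroup.centralizer (W : Set G) := by
      intro a ha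
      have hq : ⁅⁅W, Subgroup.zpowers a⁆, Subgroup.zpowers a⁆ = ⊥ := by
        rw [eq_bot_iff, ← hquad]
        have hz : Subgroup.zpowers a ≤ A0 := (Subgroup.zpowers_le).2 ha
        exact Subgroup.commutator_mono (Subgroup.commutator_mono le_rfl hz) hz
      have hNtop : Subgroup.normalizer (W : Set G) = ⊤ := Subgroup.normalizer_eq_top W
      have hnorm : a ∈ Subgroup.normalizer (W : Set G) := by rw [hNtop]; trivial
      rcases Cfsg.Agent.Lib.Helper50_QuadSec.quad_normalizer hp W hWp a hnorm hq with h | h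
      · have hmemN : ∀ x : G, x ∈ Subgroup.normalizer (W : Set G) := by
          intro x; rw [hNtop]; trivial
        have hsurj : Function.Surjective (Subgroup.normalizer (W : Set G)).subtype :=
          fun x => ⟨⟨x, hmemN x⟩, rfl⟩
        obtain ⟨D', hD'⟩ : ∃ D' : Subgroup ↥(Subgroup.normalizer (W : Set G)),
          D' = (Cfsg.pCore p (↥(Subgroup.normalizer (W : Set G)) ⧸
            (Subgroup.centralizer (W : Set G)).subgroupOf (Subgroup.normalizer (W : Set G)))).comap
            (QuotientGroup.mk' ((Subgroup.centralizer (W : Set G)).subgroupOf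
              (Subgroup.normalizer (W : Set G)))) := ⟨_, rfl⟩
        have hD'n : D'.Normal := by
          rw [hD']
          exact Subgroup.Normal.comap (Cfsg.Agent.Lib.Helper1_Cores.pCore_normal p) _
        have hDn : (D'.map (Subgroup.normalizer (W : Set G)).subtype).Normal :=
          hD'n.map _ hsurj
        have hCD : Subgroup.centralizer (W : Set G) ≤
            D'.map (Subgroup.normalizer (W : Set G)).subtype := by
          intro c hc
          refine ⟨⟨c, hmemN c⟩, ?_, rfl⟩
          rw [hD']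
          refine Subgroup.mem_comap.2 ?_
          have h1 : QuotientGroup.mk' ((Subgroup.centralizer (W : Set G)).subgroupOf
              (Subgroup.normalizer (W : Set G))) ⟨c, hmemN c⟩ = 1 := by
            rw [QuotientGroup.mk'_apply, QuotientGroup.eq_one_iff, Subgroup.mem_subgroupOf]
            exact hc
          rw [h1]
          exact one_mem _
        have hrel : ∃ k : ℕ, (Subgroup.centralizer (W : Set G)).relIndex
            (D'.map (Subgroup.normalizer (W : Set G)).subtype) = p ^ k := by
          obtain ⟨k, hk⟩ := IsPGroup.iff_card.mp (Cfsg.Agent.Lib.Helper1_Cores.pCore_isPGroup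
            (G := ↥(Subgroup.normalizer (W : Set G)) ⧸
            (Subgroup.centralizer (W : Set G)).subgroupOf (Subgroup.normalizer (W : Set G))) p)
          refine Cfsg.Agent.Lib.Helper51_Local.relIndex_eq_pow_of_forall_pow_mem hCD ?_ k ?_
          · intro d _
            have hCn : (Subgroup.centralizer (W : Set G)).Normal := inferInstance
            rw [Subgroup.normalizer_eq_top (Subgroup.centralizer (W : Set G))]
            trivial
          · rintro _ ⟨d, hd, rfl⟩
            rw [hD'] at hd
            have hd' : QuotientGroup.mk' ((Subgroup.centralizer (W : Set G)).subgroupOf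
              (Subgroup.normalizer (W : Set G))) d ∈ Cfsg.pCore p _ := hd
            have h1 : (⟨_, hd'⟩ : Cfsg.pCore p (↥(Subgroup.normalizer (W : Set G)) ⧸
              (Subgroup.centralizer (W : Set G)).subgroupOf (Subgroup.normalizer (W : Set G)))) ^
                (p ^ k) = 1 := by
              rw [← hk]; exact pow_card_eq_one'
            have h2 : (QuotientGroup.mk' ((Subgroup.centralizer (W : Set G)).subgroupOf
              (Subgroup.normalizer (W : Set G))) d) ^ (p ^ k) = 1 := congrArg Subtype.val h1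
            rw [← map_pow, QuotientGroup.mk'_apply, QuotientGroup.eq_one_iff,
              Subgroup.mem_subgroupOf] at h2
            simpa using h2
        have hDC := hWD _ hDn hCD hrel
        have haD : a ∈ D'.map (Subgroup.normalizer (W : Set G)).subtype := by
          refine ⟨⟨a, hnorm⟩, ?_, rfl⟩
          rw [hD']
          exact h
        rw [hDC] at haD
        exact haD
      · exact absurd (Cfsg.Agent.Lib.Helper21_S4Core.involves_of_subgroup' _ h) hNI
    by_contra hne
    have hWA : ⁅W, A⁆ ≠ ⊥ := by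
      intro h
      apply hne
      rw [Subgroup.commutator_eq_bot_iff_le_centralizer] at h
      exact Subgroup.le_centralizer_iff.1 h
    apply hnt hWA
    rw [Subgroup.commutator_eq_bot_iff_le_centralizer]
    exact Subgroup.le_centralizer_iff.1 hA0le
  have hTF := (Cfsg.Agent.S0608.result hO).2 (by rw [← hW]; exact hJ)
  obtain ⟨x, hx, c, hc', n, hn, hg⟩ := hTF P g⁻¹
  rw [hO, Subgroup.mem_bot] at hx
  subst hx
  refine ⟨n⁻¹, inv_mem hn, c⁻¹, ?_, ?_⟩
  · apply inv_mem
    rw [Subgroup.mem_centralizer_iff] at hc' ⊢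
    intro z hz
    apply hc'
    apply Subgroup.subset_closure
    refine ⟨⟨hz.1, ?_⟩, hz.2.2⟩
    refine Subgroup.mem_centralizer_iff.2 ?_
    intro y hy
    exact (hz.2.1 y hy).symm
  · rw [one_mul] at hg
    rw [← mul_inv_rev, ← hg, inv_inv]

end Cfsg.Agent.S0109
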