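import Cfsg.Statements.S0114
import Cfsg.Agent.Lib.Helper2_TwoMaxClassStruct
import Cfsg.Agent.Lib.Helper54_TwoGroups

set_option autoImplicit false
open Cfsg

namespace Cfsg.Agent.S0114

open Subgroup Cfsg.Agent.Lib.Helper2_MaxClass Cfsg.Agent.Lib.Helper2_TwoMaxClass

/-- The central quotient of a 2-group of maximal class is dihedral. -/
theorem result {X : Type*} [Group X] [Finite X] (n : ℕ) (hn : 3 ≤ n) (hX : Nat.card X = 2 ^ n) (hc : Group.nilpotencyClass X = n - 1) : Nonempty (X ⧸ Subgroup.center X ≃* DihedralGroup (2 ^ (n - 2))) := by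
  have : Fact (Nat.Prime 2) := ⟨Nat.prime_two⟩
  obtain ⟨a, b, hord, hidx, hb, hZC, hbb, hu⟩ := maxClass_structure n hn hX hc
  obtain ⟨hZ, hQ, hQc⟩ := maxClass_center hX hn hc
  set π := QuotientGroup.mk' (center X) with hπ
  have hπsurj : Function.Surjective π := QuotientGroup.mk'_surjective _
  have hkerπ : π.ker = center X := QuotientGroup.ker_mk' _
  have hpow : (2 : ℕ) ^ (n - 1) = 2 * 2 ^ (n - 2) := by
    rw [← pow_succ']; congr 1; omega
  -- order of `π a`
  have hordπ : orderOf (π a) = 2 ^ (n - 2) := by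
    have h1 : ((zpowers a).map π).index = 2 := by
      rw [index_map_eq _ hπsurj (by rw [hkerπ]; exact hZC), hidx]
    rw [MonoidHom.map_zpowers] at h1
    have h2 := (zpowers (π a)).card_mul_index
    rw [h1, hQ, Nat.card_zpowers, hpow, mul_comm] at h2
    exact Nat.eq_of_mul_eq_mul_left (by norm_num) h2
  apply Cfsg.Agent.Lib.Helper54_TwoGroups.nonempty_mulEquiv_dihedralGroup (2 ^ (n - 2)) (π a) (π b)
    hordπ
  · rw [← map_mul, ← MonoidHom.mem_ker, hkerπ]
    exact hbb
  · have h1 : π (b * a * b⁻¹ * a) = 1 := by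
      rw [← MonoidHom.mem_ker, hkerπ]; exact hu
    rw [map_mul, map_mul, map_mul, map_inv] at h1
    exact eq_inv_of_mul_eq_one_left h1
  · intro hmem
    obtain ⟨k, hk⟩ := mem_zpowers_iff.mp hmem
    apply hb
    have h1 : (a ^ k)⁻¹ * b ∈ center X := by
      rw [← hkerπ, MonoidHom.mem_ker, map_mul, map_inv, map_zpow, hk, inv_mul_cancel]
    have h2 := mul_mem (zpow_mem (mem_zpowers a) k) (hZC h1)
    rwa [mul_inv_cancel_left] at h2
  · rw [hQ, hpow]

end Cfsg.Agent.S0114
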