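import Cfsg.Statements.S0115
import Cfsg.Agent.Lib.Helper2_Taussky

set_option autoImplicit false
open Cfsg

namespace Cfsg.Agent.S0115

open Subgroup Cfsg.Agent.Lib.Helper2_TwoMaxClass

/-- A 2-group of order 2^n, n ≥ 3, is of maximal class exactly when its commutator quotient is a Klein four-group. -/
theorem result {X : Type*} [Group X] [Finite X] (n : ℕ) (hn : 3 ≤ n) (hX : Nat.card X = 2 ^ n) : Group.nilpotencyClass X = n - 1 ↔ IsKleinFour (X ⧸ commutator X) := by
  constructor
  · intro hc
    obtain ⟨hidx, hsq⟩ := maxClass_index_commutator n hn hX hc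
    have hcard : Nat.card (X ⧸ commutator X) = 4 := by
      rw [← Subgroup.index_eq_card, hidx]
    refine ⟨hcard, ?_⟩
    have hdvd : Monoid.exponent (X ⧸ commutator X) ∣ 2 := by
      rw [Monoid.exponent_dvd_iff_forall_pow_eq_one]
      intro y
      obtain ⟨x, rfl⟩ := QuotientGroup.mk_surjective y
      rw [pow_two, ← QuotientGroup.mk_mul, QuotientGroup.eq_one_iff]
      exact hsq x
    have hne : Monoid.exponent (X ⧸ commutator X) ≠ 1 := by
      intro h
      rw [Monoid.exp_eq_one_iff] at h
      have := Nat.card_eq_one_iff_unique.mpr ⟨h, ⟨1⟩⟩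
      omega
    rcases (Nat.dvd_prime Nat.prime_two).mp hdvd with h | h
    · exact absurd h hne
    · exact h
  · intro hK
    have hidx : (commutator X).index = 4 := by
      rw [Subgroup.index_eq_card]
      exact hK.card_four
    exact taussky n X hn hX hidx

end Cfsg.Agent.S0115
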