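import Cfsg.Statements.S2012
import Cfsg.Agent.Lib.Helper33_Alperin

set_option autoImplicit false
open Cfsg

namespace Cfsg.Agent.S2012

open Subgroup Cfsg.Agent.Lib.Helper33_Conj Cfsg.Agent.Lib.Helper33_Alperin

variable {G : Type*} [Group G] {p : ℕ}

/-- `x` is an admissible step through the Sylow subgroup `Q`: `P ∩ Q` is a tame intersection,
`x` normalizes it, and `x` is a `p`-element unless `Q = P`. -/
def Valid (P Q : Sylow p G) (x : G) : Prop :=
  x ∈ normalizer ((((P : Subgroup G) ⊓ (Q : Subgroup G)) : Subgroup G) : Set G) ∧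
  ¬ p ∣ ((P : Subgroup G) ⊓ normalizer ((((P : Subgroup G) ⊓ (Q : Subgroup G)) : Subgroup G) : Set G)).relIndex
    (normalizer ((((P : Subgroup G) ⊓ (Q : Subgroup G)) : Subgroup G) : Set G)) ∧
  ¬ p ∣ ((Q : Subgroup G) ⊓ normalizer ((((P : Subgroup G) ⊓ (Q : Subgroup G)) : Subgroup G) : Set G)).relIndex
    (normalizer ((((P : Subgroup G) ⊓ (Q : Subgroup G)) : Subgroup G) : Set G)) ∧
  ((Q : Subgroup G) = (P : Subgroup G) ∨ ∃ k : ℕ, orderOf x = p ^ k)

theorem Valid.inv {P Q : Sylow p G} {x : G} (h : Valid P Q x) : Valid P Q x⁻¹ := by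
  obtain ⟨h1, h2, h3, h4⟩ := h
  refine ⟨inv_mem h1, h2, h3, ?_⟩
  rcases h4 with h4 | ⟨k, hk⟩
  · left; exact h4
  · right; exact ⟨k, by rw [orderOf_inv]; exact hk⟩

/-- A chain of admissible steps (right conjugation `a ↦ x⁻¹ a x`), with product exactly `g`. -/
inductive Chain (P : Sylow p G) : Set G → G → Prop
  | nil (A : Set G) : Chain P A 1
  | cons (A : Set G) (Q : Sylow p G) (x g : G) : Valid P Q x →
      A ⊆ ((((P : Subgroup G) ⊓ (Q : Subgroup G)) : Subgroup G) : Set G) → Chain P (cjs x⁻¹ A) g →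
      Chain P A (x * g)

theorem Chain.restrict {P : Sylow p G} {A : Set G} {g : G} (h : Chain P A g) :
    ∀ A' : Set G, A' ⊆ A → Chain P A' g := by
  induction h with
  | nil A => intro A' _; exact Chain.nil A'
  | cons A Q x g hv hA _ ih =>
    intro A' hA'
    exact Chain.cons A' Q x g hv (hA'.trans hA) (ih _ (cjs_mono hA'))

theorem Chain.trans {P : Sylow p G} {A : Set G} {g : G} (h : Chain P A g) :
    ∀ h' : G, Chain P (cjs g⁻¹ A) h' → Chain P A (g * h') := by
  induction h with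
  | nil A => intro h' hh'; simpa [cjs_one] using hh'
  | cons A Q x g hv hA _ ih =>
    intro h' hh'
    have e : cjs (x * g)⁻¹ A = cjs g⁻¹ (cjs x⁻¹ A) := by
      rw [← cjs_mul]; congr 1; group
    rw [e] at hh'
    have := Chain.cons A Q x (g * h') hv hA (ih h' hh')
    rwa [← mul_assoc] at this

theorem Chain.single {P : Sylow p G} {A : Set G} {Q : Sylow p G} {x : G} (hv : Valid P Q x)
    (hA : A ⊆ ((((P : Subgroup G) ⊓ (Q : Subgroup G)) : Subgroup G) : Set G)) : Chain P A x := by
  have := Chain.cons A Q x 1 hv hA (Chain.nil _)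
  rwa [mul_one] at this

theorem Chain.symm {P : Sylow p G} {A : Set G} {g : G} (h : Chain P A g) :
    Chain P (cjs g⁻¹ A) g⁻¹ := by
  induction h with
  | nil A => simpa [cjs_one] using Chain.nil (P := P) A
  | cons A Q x g hv hA _ ih =>
    have e : cjs (x * g)⁻¹ A = cjs g⁻¹ (cjs x⁻¹ A) := by
      rw [← cjs_mul]; congr 1; group
    rw [e]
    have hxA : cjs x⁻¹ A ⊆ ((((P : Subgroup G) ⊓ (Q : Subgroup G)) : Subgroup G) : Set G) := by
      have h1 : cjs x⁻¹ A ⊆ cjs x⁻¹ ((((P : Subgroup G) ⊓ (Q : Subgroup G)) : Subgroup G) : Set G) :=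
        cjs_mono hA
      rw [← coe_cj, mem_normalizer_iff_cj.mp (inv_mem hv.1)] at h1
      exact h1
    have h2 : Chain P (cjs x⁻¹ A) x⁻¹ := Chain.single hv.inv hxA
    have h3 := ih.trans x⁻¹ (by rw [inv_inv, cjs_cjs_inv]; exact h2)
    rwa [← mul_inv_rev] at h3

theorem Chain.fusionRel (P : Sylow p G) : FusionRel (fun A g => Chain P A g⁻¹) where
  restrict := fun A A' g h hA => h.restrict A' hA
  trans := fun A g h h1 h2 => by
    have := h1.trans h⁻¹ (by rw [inv_inv]; exact h2)
    rwa [← mul_inv_rev] at this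
  symm := fun A g h => by
    have := h.symm
    simpa only [inv_inv] using this

/-- the shape required by the statement -/
def Fam (P : Sylow p G) (A : Set G) (g : G) : Prop :=
  ∃ (n : ℕ) (Q : Fin n → Sylow p G) (x : Fin n → G), (List.ofFn x).prod = g ∧
      (∀ i, Valid P (Q i) (x i)) ∧
      (∀ h : 0 < n, A ⊆ (((P : Subgroup G) ⊓ (Q ⟨0, h⟩ : Subgroup G) : Subgroup G) : Set G)) ∧
      ∀ (i : Fin n) (h : i.val + 1 < n),
        (fun a => (((List.ofFn x).take (i.val + 1)).prod)⁻¹ * a * ((List.ofFn x).take (i.val + 1)).prod) '' A ⊆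
          (((P : Subgroup G) ⊓ (Q ⟨i.val + 1, h⟩ : Subgroup G) : Subgroup G) : Set G)

theorem Chain.toFam {P : Sylow p G} {A : Set G} {g : G} (h : Chain P A g) : Fam P A g := by
  induction h with
  | nil A =>
    refine ⟨0, Fin.elim0, Fin.elim0, by simp, fun i => i.elim0,
      fun h => absurd h (lt_irrefl 0), fun i => i.elim0⟩
  | cons A Q₀ x₀ g hv hA _ ih =>
    obtain ⟨n, Q, x, hprod, hv', h0, hstep⟩ := ih
    refine ⟨n + 1, Fin.cons Q₀ Q, Fin.cons x₀ x, ?_, ?_, ?_, ?_⟩
    · rw [List.ofFn_succ]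
      simp only [Fin.cons_zero, Fin.cons_succ, List.prod_cons, hprod]
    · intro i
      refine Fin.cases ?_ (fun j => ?_) i
      · simpa using hv
      · simpa using hv' j
    · intro _
      exact hA
    · intro i hi
      have e1 : (⟨i.val + 1, hi⟩ : Fin (n + 1)) = Fin.succ ⟨i.val, by omega⟩ := rfl
      rw [e1, Fin.cons_succ, List.ofFn_succ]
      simp only [Fin.cons_zero, Fin.cons_succ, List.take_succ_cons, List.prod_cons]
      rintro _ ⟨a, ha, rfl⟩
      rcases Nat.eq_zero_or_pos i.val with hi0 | hipos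
      · have h00 := h0 (by omega)
        have : (⟨i.val, by omega⟩ : Fin n) = ⟨0, by omega⟩ := Fin.ext hi0
        rw [this]
        apply h00
        rw [mem_cjs]
        simp only [hi0, List.take_zero, List.prod_nil, mul_one, inv_inv]
        have : x₀ * (x₀⁻¹ * a * x₀) * x₀⁻¹ = a := by group
        rw [this]; exact ha
      · obtain ⟨j, hj⟩ : ∃ j, i.val = j + 1 := ⟨i.val - 1, by omega⟩
        have hstep' := hstep ⟨j, by omega⟩ (by simp only; omega)
        have : (⟨i.val, by omega⟩ : Fin n) = ⟨j + 1, by omega⟩ := Fin.ext hj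
        rw [this]
        apply hstep'
        refine ⟨x₀⁻¹ * a * x₀, ?_, ?_⟩
        · rw [mem_cjs]
          have : x₀⁻¹⁻¹ * (x₀⁻¹ * a * x₀) * x₀⁻¹ = a := by group
          rw [this]; exact ha
        · simp only [hj]
          group

section Main

variable [Finite G] [Fact p.Prime]

theorem relIndex_cj' (g : G) (A B : Subgroup G) : (cj g A).relIndex (cj g B) = A.relIndex B :=
  relIndex_map_map_of_injective A B (MulAut.conj g).injective

/-- the fully normalized subgroups of `P` -/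
def FN (P : Sylow p G) : Set (Subgroup G) :=
  {U | U ≤ (P : Subgroup G) ∧ ¬ p ∣ ((P : Subgroup G) ⊓ normalizer (U : Set G)).relIndex (normalizer (U : Set G))}

/-- a `p`-subgroup `V` of a subgroup `H` lies in a `p`-subgroup of `H` of index prime to `p`. -/
theorem exists_sylow_of_subgroup (H V : Subgroup G) (hVH : V ≤ H) (hV : IsPGroup p V) :
    ∃ T : Subgroup G, V ≤ T ∧ T ≤ H ∧ IsPGroup p T ∧ ¬ p ∣ T.relIndex H := by
  have hV' : IsPGroup p (V.subgroupOf H) := hV.comap_subtype
  obtain ⟨T0, hT0⟩ := hV'.exists_le_sylow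
  refine ⟨(T0 : Subgroup H).map H.subtype, ?_, map_subtype_le _, T0.2.map _, ?_⟩
  · intro v hv
    exact ⟨⟨v, hVH hv⟩, hT0 (mem_subgroupOf.mpr hv), rfl⟩
  · have : ((T0 : Subgroup H).map H.subtype).subgroupOf H = T0 :=
      comap_map_eq_self_of_injective (subtype_injective _) _
    unfold relIndex
    rw [this]
    exact T0.not_dvd_index

theorem exists_cj_le_sylow (P : Sylow p G) (V : Subgroup G) (hV : IsPGroup p V) :
    ∃ c : G, cj c V ≤ (P : Subgroup G) := by
  have hidx : ¬ p ∣ (P : Subgroup G).relIndex ⊤ := by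
    rw [relIndex_top_right]; exact P.not_dvd_index
  obtain ⟨c, _, hc⟩ := exists_cj_le_of_relIndex (p := p) (H := ⊤) le_top P.2 hidx le_top hV
  exact ⟨c, hc⟩

theorem exists_FN (P : Sylow p G) (T : Subgroup G) (hT : T ≤ (P : Subgroup G)) :
    ∃ U ∈ FN P, U ≤ (P : Subgroup G) ∧ (∃ g : G, cj g T = U) ∧
      ¬ p ∣ ((P : Subgroup G) ⊓ normalizer (U : Set G)).relIndex (normalizer (U : Set G)) := by
  obtain ⟨T0, h1, h2, h3, h4⟩ := exists_sylow_of_subgroup (p := p) (normalizer (T : Set G))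
    ((P : Subgroup G) ⊓ normalizer (T : Set G)) inf_le_right (P.2.to_le inf_le_left)
  obtain ⟨c, hc⟩ := exists_cj_le_sylow P T0 h3
  have hTT0 : T ≤ T0 := (le_inf hT le_normalizer).trans h1
  have hUP : cj c T ≤ (P : Subgroup G) := (cj_mono hTT0).trans hc
  have hidx : ¬ p ∣ ((P : Subgroup G) ⊓ normalizer ((cj c T : Subgroup G) : Set G)).relIndex
      (normalizer ((cj c T : Subgroup G) : Set G)) := by
    rw [← cj_normalizer]
    intro hdvd
    apply h4
    rw [← relIndex_cj' c T0 (normalizer (T : Set G))]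
    exact hdvd.trans (relIndex_dvd_of_le_left _ (le_inf hc (cj_mono h2)))
  exact ⟨cj c T, ⟨hUP, hidx⟩, hUP, ⟨c, rfl⟩, hidx⟩

theorem valid_self (P : Sylow p G) {m : G} (hm : m ∈ normalizer ((P : Subgroup G) : Set G)) :
    Valid P P m := by
  have e : (P : Subgroup G) ⊓ (P : Subgroup G) = P := inf_idem _
  have hidx : ¬ p ∣ ((P : Subgroup G) ⊓ normalizer ((P : Subgroup G) : Set G)).relIndex
      (normalizer ((P : Subgroup G) : Set G)) := by
    rw [inf_of_le_left le_normalizer]
    intro hdvd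
    exact P.not_dvd_index (hdvd.trans (relIndex_dvd_index_of_le le_normalizer))
  refine ⟨by rw [e]; exact hm, by rw [e]; exact hidx, by rw [e]; exact hidx, Or.inl rfl⟩

theorem cjs_coe_of_mem_normalizer {U : Subgroup G} {m : G} (hm : m ∈ normalizer (U : Set G)) :
    cjs m (U : Set G) = (U : Set G) := by
  rw [← coe_cj, mem_normalizer_iff_cj.mp hm]

/-- The local step: a `p`-element normalizing a fully normalized subgroup. -/
theorem local_pelement (P : Sylow p G) (U : Subgroup G) (hUP : U ≤ (P : Subgroup G))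
    (hUfn : ¬ p ∣ ((P : Subgroup G) ⊓ normalizer (U : Set G)).relIndex (normalizer (U : Set G)))
    (IH : ∀ Q : Subgroup G, Q ≤ (P : Subgroup G) → Nat.card U < Nat.card Q →
        ∀ g : G, cj g Q ≤ (P : Subgroup G) → Chain P (Q : Set G) g⁻¹)
    (u : G) (hu : u ∈ normalizer (U : Set G)) (hup : ∃ k : ℕ, orderOf u = p ^ k) :
    Chain P (U : Set G) u⁻¹ := by
  have hp : p.Prime := Fact.out
  have hUp : IsPGroup p U := P.2.to_le hUP
  -- the p-subgroup V = U ⊔ ⟨u⟩ of N(U)
  have hzp : IsPGroup p (zpowers u) := by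
    obtain ⟨k, hk⟩ := hup
    rw [IsPGroup.iff_card]
    exact ⟨k, by rw [Nat.card_zpowers, hk]⟩
  have hzN : zpowers u ≤ normalizer (U : Set G) := by
    rw [zpowers_le]; exact hu
  have hVp : IsPGroup p (zpowers u ⊔ U : Subgroup G) := IsPGroup.to_sup_of_normal_right' hzp hUp hzN
  have hVN : zpowers u ⊔ U ≤ normalizer (U : Set G) := sup_le hzN le_normalizer
  obtain ⟨T0, h1, h2, h3, h4⟩ := exists_sylow_of_subgroup (p := p) (normalizer (U : Set G)) _ hVN hVp
  obtain ⟨R, hR⟩ := h3.exists_le_sylow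
  have huR : u ∈ (R : Subgroup G) := hR (h1 (mem_sup_left (mem_zpowers u)))
  have hUR : U ≤ (R : Subgroup G) := (le_sup_right.trans h1).trans hR
  have hUPR : U ≤ (P : Subgroup G) ⊓ (R : Subgroup G) := le_inf hUP hUR
  rcases eq_or_lt_of_le hUPR with heq | hlt
  · -- P ∩ R = U : a single admissible step
    have hv : Valid P R u := by
      refine ⟨by rw [← heq]; exact hu, by rw [← heq]; exact hUfn, ?_, Or.inr hup⟩
      rw [← heq]
      intro hdvd
      exact h4 (hdvd.trans (relIndex_dvd_of_le_left _ (le_inf hR h2)))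
    exact Chain.single hv.inv (by rw [← heq])
  · -- P ∩ R > U : use the induction hypothesis
    set D : Subgroup G := (P : Subgroup G) ⊓ (R : Subgroup G) with hD
    obtain ⟨z, hz⟩ := sylow_cj_eq R P
    -- hz : P = cj z R
    have hDz : cj z D ≤ (P : Subgroup G) := by
      rw [hz]; exact cj_mono inf_le_right
    have hR1 : Chain P (D : Set G) z⁻¹ := IH D inf_le_left (card_lt_of_lt hlt) z hDz
    have hR2 : Chain P (U : Set G) z⁻¹ := hR1.restrict _ (fun a ha => hUPR ha)
    -- s = z u z⁻¹ ∈ P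
    have hs : z * u * z⁻¹ ∈ (P : Subgroup G) := by
      rw [hz]; exact conj_mem_cj huR
    have hv : Valid P P (z * u * z⁻¹) := valid_self P (le_normalizer hs)
    have hzU : cjs z (U : Set G) ⊆ (((P : Subgroup G) ⊓ (P : Subgroup G) : Subgroup G) : Set G) := by
      rw [inf_idem, ← coe_cj]
      exact fun a ha => hDz (cj_mono hUPR ha)
    have hR3 : Chain P (cjs z (U : Set G)) (z * u * z⁻¹)⁻¹ := Chain.single hv.inv hzU
    -- compose: first z, then s, then z⁻¹
    have FR := Chain.fusionRel P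
    have hR4 := FR.trans (U : Set G) z (z * u * z⁻¹) hR2 hR3
    have e1 : cjs (z * u * z⁻¹ * z) (U : Set G) = cjs z (U : Set G) := by
      have : z * u * z⁻¹ * z = z * u := by group
      rw [this, cjs_mul, cjs_coe_of_mem_normalizer hu]
    have hR5 := FR.symm (U : Set G) z hR2
    have hR6 := FR.trans (U : Set G) (z * u * z⁻¹ * z) z⁻¹ hR4 (by rw [e1]; exact hR5)
    have : z⁻¹ * (z * u * z⁻¹ * z) = u := by group
    rw [this] at hR6
    exact hR6

/-- The local step for an arbitrary element of `N_G(U)`, `U` fully normalized. -/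
theorem local_step (P : Sylow p G) (U : Subgroup G) (hUP : U ≤ (P : Subgroup G))
    (hUfn : ¬ p ∣ ((P : Subgroup G) ⊓ normalizer (U : Set G)).relIndex (normalizer (U : Set G)))
    (IH : ∀ Q : Subgroup G, Q ≤ (P : Subgroup G) → Nat.card U < Nat.card Q →
        ∀ g : G, cj g Q ≤ (P : Subgroup G) → Chain P (Q : Set G) g⁻¹)
    (m : G) (hm : m ∈ normalizer (U : Set G)) : Chain P (U : Set G) m⁻¹ := by
  have hp : p.Prime := Fact.out
  have FR := Chain.fusionRel P
  rcases eq_or_lt_of_le hUP with heq | hlt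
  · -- U = P
    have hm' : m ∈ normalizer ((P : Subgroup G) : Set G) := by rw [← heq]; exact hm
    have hv := valid_self P hm'
    apply Chain.single hv.inv
    rw [inf_idem, heq]
  · -- U < P
    set N : Subgroup G := normalizer (U : Set G) with hN
    set T : Subgroup G := (P : Subgroup G) ⊓ N with hT
    have hTp : IsPGroup p T := P.2.to_le inf_le_left
    -- the subgroup generated by the p-elements of N
    set K : Subgroup G := closure {u : G | u ∈ N ∧ ∃ k : ℕ, orderOf u = p ^ k} with hK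
    have hKN : K ≤ N := by
      rw [hK, closure_le]; intro u hu; exact hu.1
    have hpel : ∀ V : Subgroup G, V ≤ N → IsPGroup p V → V ≤ K := by
      intro V hVN hV v hv
      apply subset_closure
      refine ⟨hVN hv, ?_⟩
      obtain ⟨k, hk⟩ := (IsPGroup.iff_orderOf.mp hV) ⟨v, hv⟩
      exact ⟨k, by rw [← hk, ← Subgroup.orderOf_coe]⟩
    have hTK : T ≤ K := hpel T inf_le_right hTp
    -- every element of K is explained
    have hKR : ∀ k ∈ K, k ∈ N ∧ Chain P (U : Set G) k⁻¹ := by
      intro k hk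
      rw [hK] at hk
      induction hk using closure_induction with
      | mem u hu => exact ⟨hu.1, local_pelement P U hUP hUfn IH u hu.1 hu.2⟩
      | one => exact ⟨one_mem _, by simpa using Chain.nil (P := P) (U : Set G)⟩
      | mul a b _ _ iha ihb =>
        refine ⟨mul_mem iha.1 ihb.1, ?_⟩
        have := FR.trans (U : Set G) b a ihb.2 (by rw [cjs_coe_of_mem_normalizer ihb.1]; exact iha.2)
        exact this
      | inv a _ iha =>
        refine ⟨inv_mem iha.1, ?_⟩
        have := FR.symm (U : Set G) a iha.2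
        rwa [cjs_coe_of_mem_normalizer iha.1] at this
    -- conjugate cj m T back into T inside K
    have hmT : cj m T ≤ K := by
      apply hpel _ _ (isPGroup_cj hTp)
      have : cj m T ≤ cj m N := cj_mono inf_le_right
      rwa [hN, cj_normalizer, mem_normalizer_iff_cj.mp hm] at this
    have hidxK : ¬ p ∣ T.relIndex K := by
      intro hdvd
      apply hUfn
      rw [← relIndex_mul_relIndex T K N hTK hKN]
      exact hdvd.mul_right _
    obtain ⟨k, hkK, hk⟩ := exists_cj_le_of_relIndex (p := p) hTK hTp hidxK hmT (isPGroup_cj hTp)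
    -- r = k m carries T into T ≤ P
    have hTU : Nat.card U < Nat.card T := card_lt_of_lt (lt_inf_normalizer P.2 hlt)
    have hr : cj (k * m) T ≤ (P : Subgroup G) := by
      rw [cj_mul]; exact hk.trans inf_le_left
    have hR1 : Chain P (T : Set G) (k * m)⁻¹ := IH T inf_le_left hTU (k * m) hr
    have hR2 : Chain P (U : Set G) (k * m)⁻¹ :=
      hR1.restrict _ (fun a ha => le_inf hUP le_normalizer ha)
    have hkN : k ∈ N := hKN hkK
    have hkmN : k * m ∈ N := mul_mem hkN hm
    have hR3 := (hKR k⁻¹ (inv_mem hkK)).2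
    have hR4 := FR.trans (U : Set G) (k * m) k⁻¹ hR2
      (by rw [cjs_coe_of_mem_normalizer hkmN]; exact hR3)
    have : k⁻¹ * (k * m) = m := by group
    rwa [this] at hR4

theorem alperin_chain (P : Sylow p G) (Q : Subgroup G) (hQ : Q ≤ (P : Subgroup G)) (g : G)
    (hg : cj g Q ≤ (P : Subgroup G)) : Chain P (Q : Set G) g⁻¹ :=
  alperin P (FN P) (fun T hT => exists_FN P T hT) (fun A g => Chain P A g⁻¹) (Chain.fusionRel P)
    (fun U _ hUP hUfn IH m hm => local_step P U hUP hUfn IH m hm) Q hQ g hg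

end Main

/-- Alperin's fusion Theorem with the factors taken to be p-elements. -/
theorem result {G : Type*} [Group G] [Finite G] {p : ℕ} [Fact p.Prime] (P : Sylow p G) (A : Set G) (g : G) (hA : A ⊆ (P : Set G)) (hAg : (fun a => g⁻¹ * a * g) '' A ⊆ (P : Set G)) : ∃ (n : ℕ) (Q : Fin n → Sylow p G) (x : Fin n → G), (List.ofFn x).prod = g ∧ (∀ i : Fin n, x i ∈ Subgroup.normalizer ((((P : Subgroup G) ⊓ (Q i : Subgroup G)) : Subgroup G) : Set G) ∧ ¬ p ∣ ((P : Subgroup G) ⊓ Subgroup.normalizer ((((P : Subgroup G) ⊓ (Q i : Subgroup G)) : Subgroup G) : Set G)).relIndex (Subgroup.normalizer ((((P : Subgroup G) ⊓ (Q i : Subgroup G)) : Subgroup G) : Set G)) ∧ ¬ p ∣ ((Q i : Subgroup G) ⊓ Subgroup.normalizer ((((P : Subgroup G) ⊓ (Q i : Subgroup G)) : Subgroup G) : Set G)).relIndex (Subgroup.normalizer ((((P : Subgroup G) ⊓ (Q i : Subgroup G)) : Subgroup G) : Set G)) ∧ ((Q i : Subgroup G) = (P : Subgroup G) ∨ ∃ k : ℕ, orderOf (x i) = p ^ k)) ∧ (∀ h : 0 < n, A ⊆ (((P : Subgroup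 G) ⊓ (Q ⟨0, h⟩ : Subgroup G) : Subgroup G) : Set G)) ∧ ∀ i : Fin n, ∀ h : i.val + 1 < n, (fun a => (((List.ofFn x).take (i.val + 1)).prod)⁻¹ * a * ((List.ofFn x).take (i.val + 1)).prod) '' A ⊆ (((P : Subgroup G) ⊓ (Q ⟨i.val + 1, h⟩ : Subgroup G) : Subgroup G) : Set G) := by
  have h1 : Subgroup.closure A ≤ (P : Subgroup G) := (Subgroup.closure_le _).mpr hA
  have h2 : cj g⁻¹ (Subgroup.closure A) ≤ (P : Subgroup G) := by
    rw [← cjs_subset_coe_iff]
    rintro _ ⟨a, ha, rfl⟩
    apply hAg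
    exact ⟨a, ha, by simp⟩
  have h3 := alperin_chain P _ h1 g⁻¹ h2
  rw [inv_inv] at h3
  obtain ⟨n, Q, x, hprod, hv, h0, hstep⟩ := (h3.restrict A Subgroup.subset_closure).toFam
  exact ⟨n, Q, x, hprod, hv, h0, hstep⟩

end Cfsg.Agent.S2012
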