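import Cfsg.Statements.S0119
import Cfsg.Agent.S0093
import Cfsg.Agent.S0094
import Cfsg.Agent.Lib.Helper1_Frattini

set_option autoImplicit false
open Cfsg

namespace Cfsg.Agent.S0119

open Subgroup
open scoped commutatorElement

/-- Right-hand version of `S0094.commutator_pow_left`. -/
theorem commutator_pow_right {P : Type*} [Group P] (x y : P) (h : ⁅y, x⁆ ∈ Subgroup.center P)
    (n : ℕ) : ⁅x, y ^ n⁆ = ⁅x, y⁆ ^ n := by
  have h1 := Cfsg.Agent.S0094.commutator_pow_left y x h n
  rw [← commutatorElement_inv, h1, ← commutatorElement_inv y x, inv_pow]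

/-- The closure of a set stable under all automorphisms is characteristic. -/
theorem closure_characteristic {G : Type*} [Group G] (T : Set G)
    (hT : ∀ φ : G ≃* G, ∀ t ∈ T, φ t ∈ T) : (closure T).Characteristic := by
  rw [characteristic_iff_map_le]
  intro φ
  rw [MonoidHom.map_closure, closure_le]
  rintro - ⟨t, ht, rfl⟩
  exact subset_closure (hT φ t ht)

section

variable {G : Type*} [Group G]

/-- Step 1: a characteristic abelian subgroup is central. -/
theorem le_center_of_char (A : Subgroup (MulAut G))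
    (hGA : Subgroup.closure {x : G | ∃ g : G, ∃ a ∈ A, x = g⁻¹ * a g} = ⊤)
    (hchar : ∀ H : Subgroup G, H.Characteristic → IsMulCommutative H → ∀ a ∈ A, ∀ h ∈ H, a h = h)
    (H : Subgroup G) (hH : H.Characteristic) (hHc : IsMulCommutative H) : H ≤ center G := by
  have hHn : H.Normal := normal_of_characteristic H
  intro h hh
  have hle : Subgroup.closure {x : G | ∃ g : G, ∃ a ∈ A, x = g⁻¹ * a g} ≤
      centralizer {h} := by
    rw [closure_le]
    rintro x ⟨g, a, ha, rfl⟩
    rw [SetLike.mem_coe, mem_centralizer_singleton_iff]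
    have h1 : a (g * h * g⁻¹) = g * h * g⁻¹ := hchar H hH hHc a ha _ (hHn.conj_mem h hh g)
    have h2 : a h = h := hchar H hH hHc a ha h hh
    rw [map_mul, map_mul, map_inv, h2] at h1
    -- a g * h * (a g)⁻¹ = g * h * g⁻¹
    calc g⁻¹ * a g * h = g⁻¹ * (a g * h * (a g)⁻¹) * a g := by group
      _ = g⁻¹ * (g * h * g⁻¹) * a g := by rw [h1]
      _ = h * (g⁻¹ * a g) := by group
  rw [hGA] at hle
  rw [mem_center_iff]
  intro g
  have := hle (mem_top g)
  rw [mem_centralizer_singleton_iff] at this
  exact this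

end

/-- If a p'-group A of automorphisms of a p-group G satisfies G = [G, A] and acts trivially on every characteristic abelian subgroup, then G is special with centre equal to the fixed points of A. -/
theorem result {G : Type*} [Group G] [Finite G] {p : ℕ} [Fact p.Prime] (hG : IsPGroup p G) (A : Subgroup (MulAut G)) (hA : Nat.Coprime (Nat.card A) p) (hGA : Subgroup.closure {x : G | ∃ g : G, ∃ a ∈ A, x = g⁻¹ * a g} = ⊤) (hchar : ∀ H : Subgroup G, H.Characteristic → IsMulCommutative H → ∀ a ∈ A, ∀ h ∈ H, a h = h) : Cfsg.IsSpecial p G ∧ (∀ g : G, (g ∈ Subgroup.center G ↔ ∀ a ∈ A, a g = g)) := by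
  classical
  have hpp : p.Prime := Fact.out
  have hcen := le_center_of_char A hGA hchar
  -- Step 2: class at most two
  have hclass : commutator G ≤ center G := by
    obtain ⟨H, hHchar, -, hcomm, hcent⟩ := Cfsg.Agent.S0093.result hG
    have hCchar : (centralizer (H : Set G)).Characteristic := characteristic_centralizer
    have hCcomm : IsMulCommutative (centralizer (H : Set G)) := by
      rw [← le_centralizer_iff_isMulCommutative]
      exact centralizer_le hcent
    have hCle : centralizer (H : Set G) ≤ center G := hcen _ hCchar hCcomm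
    have h1 : ⁅H, (⊤ : Subgroup G)⁆ ≤ center G := hcomm.trans (inf_le_right.trans hCle)
    have h2 : ⁅⁅H, (⊤ : Subgroup G)⁆, (⊤ : Subgroup G)⁆ = ⊥ := by
      rw [commutator_eq_bot_iff_le_centralizer, coe_top, centralizer_univ]
      exact h1
    have h3 : ⁅⁅(⊤ : Subgroup G), H⁆, (⊤ : Subgroup G)⁆ = ⊥ := by
      rw [commutator_comm ⊤ H]; exact h2
    have h4 : ⁅⁅(⊤ : Subgroup G), (⊤ : Subgroup G)⁆, H⁆ = ⊥ :=
      commutator_commutator_eq_bot_of_rotate h3 h2
    rw [commutator_eq_bot_iff_le_centralizer] at h4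
    rw [_root_.commutator_def]
    exact h4.trans hCle
  have hcc : ∀ x y : G, ⁅x, y⁆ ∈ center G := fun x y =>
    hclass (by rw [_root_.commutator_def]; exact commutator_mem_commutator (mem_top x) (mem_top y))
  -- Step 3: the centre is fixed by `A`
  have hfix : ∀ g ∈ center G, ∀ a ∈ A, a g = g := by
    intro g hg a ha
    exact hchar (center G) centerCharacteristic inferInstance a ha g hg
  -- Step 4: fixed points lie in the commutator subgroup
  have hAfin : Finite A := by
    apply Nat.finite_of_card_ne_zero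
    intro h0
    rw [h0, Nat.coprime_zero_left] at hA
    exact hpp.one_lt.ne' hA
  have hfixcomm : ∀ g : G, (∀ a ∈ A, a g = g) → g ∈ commutator G := by
    intro z hz
    have : Fintype A := Fintype.ofFinite A
    let τ : G →* Abelianization G :=
      ∏ a : A, (Abelianization.of).comp ((a : MulAut G) : G ≃* G).toMonoidHom
    have hτ : ∀ x : G, τ x = ∏ a : A, Abelianization.of ((a : MulAut G) x) := by
      intro x
      simp only [τ, MonoidHom.finsetProd_apply]
      rfl
    have hker : Subgroup.closure {x : G | ∃ g : G, ∃ a ∈ A, x = g⁻¹ * a g} ≤ τ.ker := by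
      rw [closure_le]
      rintro x ⟨g, a₀, ha₀, rfl⟩
      rw [SetLike.mem_coe, MonoidHom.mem_ker, map_mul, map_inv, inv_mul_eq_one, hτ, hτ]
      exact (Fintype.prod_equiv (Equiv.mulRight (⟨a₀, ha₀⟩ : A)) _ _ (fun a => rfl)).symm
    rw [hGA] at hker
    have h1 : τ z = 1 := hker (mem_top z)
    rw [hτ] at h1
    have h2 : ∏ a : A, Abelianization.of ((a : MulAut G) z) = Abelianization.of z ^ Nat.card A := by
      rw [Nat.card_eq_fintype_card, ← Finset.card_univ, ← Finset.prod_const]
      apply Finset.prod_congr rfl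
      intro a _
      rw [hz a a.2]
    rw [h2] at h1
    obtain ⟨k, hk⟩ := hG z
    have h3 : Abelianization.of z ^ (p ^ k) = 1 := by rw [← map_pow, hk, map_one]
    have h4 : orderOf (Abelianization.of z) = 1 :=
      Nat.eq_one_of_dvd_coprimes (hA.pow_right k) (orderOf_dvd_of_pow_eq_one h1)
        (orderOf_dvd_of_pow_eq_one h3)
    rw [orderOf_eq_one_iff] at h4
    rw [← Abelianization.ker_of, MonoidHom.mem_ker]
    exact h4
  have hZeq : commutator G = center G := by
    apply le_antisymm hclass
    intro z hz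
    exact hfixcomm z (hfix z hz)
  -- Step 5: the exponent
  have hstep : ∀ e : ℕ, 1 ≤ e → (∀ x y : G, ⁅x, y⁆ ^ (p ^ (e + 1)) = 1) →
      ∀ x y : G, ⁅x, y⁆ ^ (p ^ e) = 1 := by
    intro e he hall
    set T : Set G := {u | ∃ x : G, u = x ^ (p ^ e)} with hT
    have hTchar : (closure T).Characteristic := by
      apply closure_characteristic
      rintro φ - ⟨x, rfl⟩
      exact ⟨φ x, map_pow φ x _⟩
    have hTcomm : IsMulCommutative (closure T) := by
      apply isMulCommutative_closure
      rintro - ⟨x, rfl⟩ - ⟨y, rfl⟩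
      have h1 : ⁅x ^ (p ^ e), y ^ (p ^ e)⁆ = 1 := by
        rw [Cfsg.Agent.S0094.commutator_pow_left _ _ (hcc _ _), commutator_pow_right _ _ (hcc _ _),
          ← pow_mul, ← pow_add]
        have h2 : p ^ (e + e) = p ^ (e + 1) * p ^ (e - 1) := by
          rw [← pow_add]; congr 1; omega
        rw [h2, pow_mul, hall, one_pow]
      exact (commutatorElement_eq_one_iff_mul_comm.mp h1)
    have hle := hcen _ hTchar hTcomm
    intro x y
    rw [← Cfsg.Agent.S0094.commutator_pow_left _ _ (hcc _ _)]
    rw [commutatorElement_eq_one_iff_mul_comm]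
    have hx : x ^ (p ^ e) ∈ center G := hle (subset_closure ⟨x, rfl⟩)
    exact (mem_center_iff.mp hx y).symm
  have hexp : ∀ x y : G, ⁅x, y⁆ ^ p = 1 := by
    have hdown : ∀ e : ℕ, (∀ x y : G, ⁅x, y⁆ ^ (p ^ (e + 1)) = 1) → ∀ x y : G, ⁅x, y⁆ ^ p = 1 := by
      intro e
      induction e with
      | zero => intro h x y; simpa using h x y
      | succ e ih =>
        intro h
        exact ih (hstep (e + 1) (by omega) h)
    obtain ⟨n, hn⟩ := IsPGroup.iff_card.mp hG
    apply hdown n
    intro x y
    have : ⁅x, y⁆ ^ (p ^ n) = 1 := by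
      rw [← hn]; exact pow_card_eq_one'
    rw [pow_succ, pow_mul, this, one_pow]
  have hpow : ∀ x : G, x ^ p ∈ center G := by
    intro x
    rw [mem_center_iff]
    intro y
    have h1 : ⁅x ^ p, y⁆ = 1 := by
      rw [Cfsg.Agent.S0094.commutator_pow_left _ _ (hcc _ _), hexp]
    exact (commutatorElement_eq_one_iff_mul_comm.mp h1).symm
  have hfrat : frattini G = center G := by
    apply le_antisymm
    · exact Cfsg.Agent.Lib.Helper1_Frattini.frattini_le_of_elementary_quotient (p := p)
        (center G) hclass hpow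
    · rw [← hZeq]
      exact Cfsg.Agent.Lib.Helper1_Frattini.commutator_le_frattini_of_isPGroup hG
  refine ⟨⟨hG, hfrat, hZeq⟩, ?_⟩
  intro g
  constructor
  · intro hg
    exact hfix g hg
  · intro hg
    rw [← hZeq]
    exact hfixcomm g hg

end Cfsg.Agent.S0119
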