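import Cfsg.Statements.S0120
import Cfsg.Agent.Lib.Helper24_Coprime
import Mathlib.GroupTheory.SemidirectProduct

set_option autoImplicit false
open Cfsg

namespace Cfsg.Agent.S0120

/-- For odd p, a p'-automorphism of a p-group acting trivially on the elements of order dividing p is trivial. -/
theorem result {G : Type*} [Group G] [Finite G] {p : ℕ} [Fact p.Prime] (hp : p ≠ 2) (hG : IsPGroup p G) (a : MulAut G) (ha : Nat.Coprime (orderOf a) p) (h : ∀ x : G, x ^ p = 1 → a x = x) : a = 1 := by
  classical
  let Z : Subgroup (MulAut G) := Subgroup.zpowers a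
  let φ : Z →* MulAut G := Z.subtype
  let Γ := G ⋊[φ] Z
  have hfin : Finite Γ := Finite.of_equiv _ (SemidirectProduct.equivProd (φ := φ)).symm
  let a' : Z := ⟨a, Subgroup.mem_zpowers a⟩
  let â : Γ := SemidirectProduct.inr a'
  let P : Subgroup Γ := (SemidirectProduct.inl : G →* Γ).range
  have hord : orderOf â = orderOf a := by
    rw [orderOf_injective (SemidirectProduct.inr : Z →* Γ) SemidirectProduct.inr_injective a']
    exact (orderOf_injective Z.subtype Z.subtype_injective a').symm
  have hconj : ∀ x : G, â * SemidirectProduct.inl x * â⁻¹ = SemidirectProduct.inl (a x) := by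
    intro x
    have := SemidirectProduct.inl_aut (φ := φ) a' x
    rw [map_inv] at this
    exact this.symm
  have hPp : IsPGroup p P := by
    have : IsPGroup p (⊤ : Subgroup G) := hG.to_subgroup _
    have h2 := this.map (SemidirectProduct.inl : G →* Γ)
    rwa [← MonoidHom.range_eq_map] at h2
  have key := Cfsg.Agent.Lib.Helper24_Coprime.centralizes_pgroup_of_centralizes_omega p hp â
    (by rw [hord]; exact ha) P hPp
    (by
      rintro _ ⟨x, rfl⟩
      rw [hconj]; exact ⟨a x, rfl⟩)
    (by
      rintro _ ⟨x, rfl⟩ hx
      have hx' : x ^ p = 1 := by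
        apply SemidirectProduct.inl_injective (φ := φ)
        rw [map_pow, hx, map_one]
      have := hconj x
      rw [h x hx'] at this
      calc â * SemidirectProduct.inl x = (â * SemidirectProduct.inl x * â⁻¹) * â := by
            rw [inv_mul_cancel_right]
        _ = SemidirectProduct.inl x * â := by rw [this])
  ext x
  show a x = x
  have h1 := key (SemidirectProduct.inl x) ⟨x, rfl⟩
  have h2 := hconj x
  rw [h1, mul_inv_cancel_right] at h2
  exact (SemidirectProduct.inl_injective (φ := φ) h2).symm

end Cfsg.Agent.S0120
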