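import Cfsg.Statements.S0125
import Mathlib
import Cfsg.Agent.Lib.Helper33_Alperin

set_option autoImplicit false
open Cfsg

namespace Cfsg.Agent.S0125

open Cfsg.Agent.Lib.Helper33_Conj Cfsg.Agent.Lib.Helper33_Alperin

/-- The centralizer of a self-centralizing normal subgroup A of a Sylow p-subgroup is the direct product of A with a normal p'-subgroup. -/
theorem result {G : Type*} [Group G] [Finite G] {p : ℕ} [Fact p.Prime] (R : Sylow p G) (A : Subgroup G) (hAR : A ≤ (R : Subgroup G)) (hAn : (R : Subgroup G) ≤ Subgroup.normalizer (A : Set G)) (hC : (R : Subgroup G) ⊓ Subgroup.centralizer (A : Set G) = A) : ∃ H : Subgroup G, H ≤ Subgroup.centralizer (A : Set G) ∧ Nat.Coprime (Nat.card H) p ∧ Subgroup.centralizer (A : Set G) ≤ Subgroup.normalizer (H : Set G) ∧ H ⊓ A = ⊥ ∧ H ⊔ A = Subgroup.centralizer (A : Set G) := by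
  set C := Subgroup.centralizer (A : Set G) with hCdef
  set N := Subgroup.normalizer (A : Set G) with hNdef
  have hAC : A ≤ C := by rw [← hC]; exact inf_le_right
  have hCN : C ≤ N := Subgroup.centralizer_le_normalizer _
  have hAp : IsPGroup p A := R.isPGroup'.to_le hAR
  -- `A` is a Sylow `p`-subgroup of `C`
  have hAp' : IsPGroup p (A.subgroupOf C) := hAp.comap_subtype
  obtain ⟨T, hT⟩ := hAp'.exists_le_sylow
  set TG := (T : Subgroup C).map C.subtype with hTG
  have hTGC : TG ≤ C := Subgroup.map_subtype_le _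
  have hTGp : IsPGroup p TG := T.isPGroup'.map _
  have hATG : A ≤ TG := by
    intro a ha
    exact ⟨⟨a, hAC ha⟩, hT (by rw [Subgroup.mem_subgroupOf]; exact ha), rfl⟩
  have hidx : ¬ p ∣ (R : Subgroup G).relIndex N :=
    fun h => R.not_dvd_index (h.trans (Subgroup.relIndex_dvd_index_of_le hAn))
  obtain ⟨n, hnN, hle⟩ := exists_cj_le_of_relIndex hAn R.isPGroup' hidx (hTGC.trans hCN) hTGp
  have hcjC : cj n TG ≤ C := by
    have h1 : cj n TG ≤ cj n C := cj_mono hTGC
    have h2 : cj n C = C := by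
      rw [hCdef, cj_centralizer, mem_normalizer_iff_cj.mp hnN]
    rwa [h2] at h1
  have hcjA : cj n TG ≤ A := by rw [← hC]; exact le_inf hle hcjC
  have hTGA : TG = A := by
    symm
    apply Subgroup.eq_of_le_of_card_ge hATG
    rw [← card_cj n TG]
    exact Subgroup.card_le_of_le hcjA
  have hTcoe : (T : Subgroup C) = A.subgroupOf C := by
    have : ((T : Subgroup C).map C.subtype).subgroupOf C = (T : Subgroup C) :=
      Subgroup.comap_map_eq_self_of_injective C.subtype_injective _
    rw [← this, ← hTG, hTGA]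
  -- Burnside
  have hNC : Subgroup.normalizer ((T : Subgroup C) : Set C) ≤ Subgroup.centralizer ((T : Subgroup C) : Set C) := by
    intro x _
    rw [Subgroup.mem_centralizer_iff]
    intro y hy
    have hy' : (y : G) ∈ A := by
      have : y ∈ A.subgroupOf C := by rw [← hTcoe]; exact hy
      exact Subgroup.mem_subgroupOf.mp this
    have hx : (x : G) ∈ Subgroup.centralizer (A : Set G) := x.2
    rw [Subgroup.mem_centralizer_iff] at hx
    exact Subtype.ext (hx y hy')
  have hcompl := MonoidHom.ker_transferSylow_isComplement' T hNC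
  set K := (MonoidHom.transferSylow T hNC).ker with hK
  have hKcard : ¬ p ∣ Nat.card K := MonoidHom.not_dvd_card_ker_transferSylow T hNC
  refine ⟨K.map C.subtype, Subgroup.map_subtype_le _, ?_, ?_, ?_, ?_⟩
  · rw [Subgroup.card_map_of_injective C.subtype_injective]
    exact (Nat.Coprime.symm ((Nat.Prime.coprime_iff_not_dvd Fact.out).mpr hKcard))
  · intro c hc
    rw [Subgroup.mem_normalizer_iff'']
    intro x
    have hKn : K.Normal := inferInstance
    constructor
    · rintro ⟨k, hk, rfl⟩
      refine ⟨(⟨c, hc⟩ : C)⁻¹ * k * ⟨c, hc⟩, ?_, by simp⟩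
      have := hKn.conj_mem k hk (⟨c, hc⟩ : C)⁻¹
      simpa using this
    · rintro ⟨k, hk, hkx⟩
      have hkx' : (k : G) = c⁻¹ * x * c := hkx
      have hxC : x ∈ C := by
        have : x = c * (c⁻¹ * x * c) * c⁻¹ := by group
        rw [this, ← hkx']
        exact C.mul_mem (C.mul_mem hc k.2) (C.inv_mem hc)
      refine ⟨⟨x, hxC⟩, ?_, rfl⟩
      have := hKn.conj_mem k hk (⟨c, hc⟩ : C)
      have e : (⟨c, hc⟩ : C) * k * (⟨c, hc⟩ : C)⁻¹ = ⟨x, hxC⟩ := by
        apply Subtype.ext
        simp only [Subgroup.coe_mul, Subgroup.coe_inv]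
        rw [hkx']; group
      rwa [e] at this
  · rw [Subgroup.eq_bot_iff_forall]
    rintro x ⟨⟨k, hk, rfl⟩, hxA⟩
    have hkT : k ∈ (T : Subgroup C) := by
      rw [hTcoe, Subgroup.mem_subgroupOf]; exact hxA
    have := hcompl.disjoint
    rw [Subgroup.disjoint_def] at this
    have hk1 := this hk hkT
    rw [hk1]; rfl
  · apply le_antisymm
    · exact sup_le (Subgroup.map_subtype_le _) hAC
    · intro c hc
      have hsup := hcompl.sup_eq_top
      have hmem : (⟨c, hc⟩ : C) ∈ K ⊔ (T : Subgroup C) := by rw [hsup]; trivial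
      have h1 : (K ⊔ (T : Subgroup C)).map C.subtype = K.map C.subtype ⊔ A := by
        rw [Subgroup.map_sup, ← hTG, hTGA]
      rw [← h1]
      exact ⟨⟨c, hc⟩, hmem, rfl⟩

end Cfsg.Agent.S0125
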