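import Cfsg.Statements.S0127
import Cfsg.Agent.Lib.Helper20_PGroupOdd

set_option autoImplicit false
open Cfsg

namespace Cfsg.Agent.S0127

open Cfsg.Agent.Lib.Helper20_PGroupOdd

/-- For odd p, in a non-cyclic p-group with a cyclic subgroup of index p, the elements of order dividing p generate an elementary abelian subgroup of order p^2. -/
theorem result {R : Type*} [Group R] [Finite R] {p : ℕ} [Fact p.Prime] (hp : p ≠ 2) (hR : IsPGroup p R) (hnc : ¬ IsCyclic R) (C : Subgroup R) (hC : IsCyclic C) (hCi : C.index = p) : Cfsg.IsElementaryAbelian p (Subgroup.closure {x : R | x ^ p = 1}) ∧ Nat.card (Subgroup.closure {x : R | x ^ p = 1}) = p ^ 2 := by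
  have hpP : p.Prime := Fact.out
  have hS : ¬ IsCyclic (⊤ : Subgroup R) := by
    intro hc
    apply hnc
    exact isCyclic_of_surjective (Subgroup.topEquiv : (⊤ : Subgroup R) ≃* R).toMonoidHom
      (Subgroup.topEquiv : (⊤ : Subgroup R) ≃* R).surjective
  obtain ⟨z, h, hg⟩ := exists_good hp hR ⊤ hS
  have hBn : hg.B.Normal := hg.B_normal
  have hzc : z ∈ Subgroup.center R := hg.2.2.1
  have hzp : z ^ p = 1 := hg.z_pow
  -- C is normal
  have hCn : C.Normal := by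
    obtain ⟨k, hk⟩ := IsPGroup.iff_card.mp hR
    apply Subgroup.normal_of_index_eq_minFac_card
    have hk0 : k ≠ 0 := by
      rintro rfl
      rw [pow_zero] at hk
      have h1 := C.card_mul_index
      rw [hk, hCi] at h1
      have := Nat.eq_one_of_mul_eq_one_left h1
      exact hpP.one_lt.ne' this
    rw [hCi, hk, Nat.Prime.pow_minFac hpP hk0]
  -- conjugates of elements of B differ by elements of ⟨z⟩
  have hBconj : ∀ b' ∈ hg.B, ∀ g : R, g * b' * g⁻¹ * b'⁻¹ ∈ Subgroup.zpowers z := by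
    intro b' hb' g
    obtain ⟨u, hu, v, hv, rfl⟩ := hg.mem_B_iff.mp hb'
    obtain ⟨j, rfl⟩ := Subgroup.mem_zpowers_iff.mp hv
    have huc : u ∈ Subgroup.center R := (Subgroup.zpowers_le.mpr hzc) hu
    have h1 : g * (u * h ^ j) * g⁻¹ * (u * h ^ j)⁻¹ = (g * h * g⁻¹) ^ j * (h ^ j)⁻¹ := by
      have hcu := Subgroup.mem_center_iff.mp huc
      rw [conj_zpow]
      calc g * (u * h ^ j) * g⁻¹ * (u * h ^ j)⁻¹
          = g * (u * h ^ j) * g⁻¹ * ((h ^ j)⁻¹ * u⁻¹) := by rw [mul_inv_rev]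
        _ = (g * u) * h ^ j * g⁻¹ * (h ^ j)⁻¹ * u⁻¹ := by simp only [mul_assoc]
        _ = (u * g) * h ^ j * g⁻¹ * (h ^ j)⁻¹ * u⁻¹ := by rw [hcu g]
        _ = u * (g * h ^ j * g⁻¹ * (h ^ j)⁻¹) * u⁻¹ := by simp only [mul_assoc]
        _ = (g * h ^ j * g⁻¹ * (h ^ j)⁻¹) * u * u⁻¹ := by rw [← hcu]
        _ = g * h ^ j * g⁻¹ * (h ^ j)⁻¹ := by rw [mul_inv_cancel_right]
    rw [h1]
    have h2 : g * h * g⁻¹ = (g * h * g⁻¹ * h⁻¹) * h := by group
    have hwz := hg.2.2.2.2.2.2 g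
    have hwc : g * h * g⁻¹ * h⁻¹ ∈ Subgroup.center R := (Subgroup.zpowers_le.mpr hzc) hwz
    have hcomm : Commute (g * h * g⁻¹ * h⁻¹) h := (Subgroup.mem_center_iff.mp hwc h).symm
    rw [h2, hcomm.mul_zpow, mul_inv_cancel_right]
    exact Subgroup.zpow_mem _ hwz j
  -- B * Ω ⊆ Ω
  have hBΩ : ∀ b' ∈ hg.B, ∀ x : R, x ^ p = 1 → (b' * x) ^ p = 1 := by
    intro b' hb' x hx
    have hc := hBconj b' hb' x
    have hcc : x * b' * x⁻¹ * b'⁻¹ ∈ Subgroup.center R := (Subgroup.zpowers_le.mpr hzc) hc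
    have hcp : (x * b' * x⁻¹ * b'⁻¹) ^ p = 1 := by
      obtain ⟨i, hi⟩ := Subgroup.mem_zpowers_iff.mp hc
      rw [← hi, ← zpow_natCast, ← zpow_mul, mul_comm, zpow_mul, zpow_natCast, hzp, one_zpow]
    have h1 : x * b' = (x * b' * x⁻¹ * b'⁻¹) * b' * x := by group
    have c1 : Commute (x * b' * x⁻¹ * b'⁻¹) b' := (Subgroup.mem_center_iff.mp hcc b').symm
    have c2 : Commute (x * b' * x⁻¹ * b'⁻¹) x := (Subgroup.mem_center_iff.mp hcc x).symm
    rw [mul_pow_prime_of_comm hpP hp h1 c1 c2 hcp, hg.B_exp b' hb', hx, one_mul]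
  -- every element of order dividing p lies in B
  have hΩB : ∀ x : R, x ^ p = 1 → x ∈ hg.B := by
    intro x hx
    by_contra hxB
    -- E = B ⊔ ⟨x⟩ has exponent p
    have hEexp : ∀ y ∈ hg.B ⊔ Subgroup.zpowers x, y ^ p = 1 := by
      intro y hy
      obtain ⟨b', hb', v, hv, rfl⟩ := Subgroup.mem_sup_of_normal_left.mp hy
      obtain ⟨j, rfl⟩ := Subgroup.mem_zpowers_iff.mp hv
      apply hBΩ b' hb'
      rw [← zpow_natCast, ← zpow_mul, mul_comm, zpow_mul, zpow_natCast, hx, one_zpow]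
    -- card E ≥ p ^ 3
    have hEp : IsPGroup p ↥(hg.B ⊔ Subgroup.zpowers x) := hR.to_subgroup _
    obtain ⟨k, hk⟩ := IsPGroup.iff_card.mp hEp
    have hlt : Nat.card hg.B < Nat.card ↥(hg.B ⊔ Subgroup.zpowers x) := by
      have hle : hg.B ≤ hg.B ⊔ Subgroup.zpowers x := le_sup_left
      have hne : hg.B ≠ hg.B ⊔ Subgroup.zpowers x := by
        intro h
        apply hxB
        rw [h]
        exact Subgroup.mem_sup_right (Subgroup.mem_zpowers x)
      rcases (Subgroup.card_le_of_le hle).lt_or_eq with h | h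
      · exact h
      · exact absurd (Subgroup.eq_of_le_of_card_ge hle h.ge) hne
    rw [hg.card_B, hk] at hlt
    have hk3 : 3 ≤ k := by
      by_contra hk2
      push Not at hk2
      have : p ^ k ≤ p ^ 2 := Nat.pow_le_pow_right hpP.pos (by omega)
      omega
    -- card (E ⊓ C) ≤ p
    have hDcyc : IsCyclic ↥((hg.B ⊔ Subgroup.zpowers x) ⊓ C) :=
      Subgroup.isCyclic_of_le (inf_le_right : (hg.B ⊔ Subgroup.zpowers x) ⊓ C ≤ C)
    obtain ⟨g₀, hg₀⟩ := hDcyc.exists_generator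
    have hg₀p : g₀ ^ p = 1 := by
      apply Subtype.ext
      have := hEexp g₀.1 g₀.2.1
      simpa using this
    have hDcard : Nat.card ↥((hg.B ⊔ Subgroup.zpowers x) ⊓ C) ≤ p := by
      rw [← orderOf_eq_card_of_forall_mem_zpowers hg₀]
      exact Nat.le_of_dvd hpP.pos (orderOf_dvd_of_pow_eq_one hg₀p)
    -- index
    have hrel : ((hg.B ⊔ Subgroup.zpowers x) ⊓ C).relIndex (hg.B ⊔ Subgroup.zpowers x) ∣ p := by
      rw [inf_comm, Subgroup.inf_relIndex_right]
      have := Subgroup.relIndex_dvd_index_of_normal C (hg.B ⊔ Subgroup.zpowers x)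
      rwa [hCi] at this
    have hrel' := Nat.le_of_dvd hpP.pos hrel
    have hmul := Subgroup.relIndex_mul_relIndex (⊥ : Subgroup R)
      ((hg.B ⊔ Subgroup.zpowers x) ⊓ C) (hg.B ⊔ Subgroup.zpowers x) bot_le inf_le_left
    rw [Subgroup.relIndex_bot_left, Subgroup.relIndex_bot_left, hk] at hmul
    have h3 : p ^ 3 ≤ p ^ k := Nat.pow_le_pow_right hpP.pos hk3
    have h4 : p ^ k ≤ p * p := by
      rw [← hmul]; exact Nat.mul_le_mul hDcard hrel'
    have h5 : p ^ 3 = p * p * p := by ring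
    have h6 : 2 ≤ p := hpP.two_le
    nlinarith
  have hW : Subgroup.closure {x : R | x ^ p = 1} = hg.B := by
    apply le_antisymm
    · rw [Subgroup.closure_le]
      intro x hx
      exact hΩB x hx
    · intro y hy
      exact Subgroup.subset_closure (hg.B_exp y hy)
  rw [hW]
  refine ⟨⟨⟨⟨?_⟩⟩, hg.B_exp⟩, hg.card_B⟩
  intro a b
  exact Subtype.ext (hg.B_comm a.1 a.2 b.1 b.2)

end Cfsg.Agent.S0127
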