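import Cfsg.Statements.S0129

set_option autoImplicit false
open Cfsg

namespace Cfsg.Agent.S0129

/-- iterated commutators with the whole group -/
def Cs {G : Type*} [Group G] (C : Subgroup G) : ℕ → Subgroup G
  | 0 => C
  | (i + 1) => ⁅Cs C i, (⊤ : Subgroup G)⁆

theorem Cs_le_lcs {G : Type*} [Group G] (C : Subgroup G) (i : ℕ) :
    Cs C i ≤ (⊤ : Subgroup G).lowerCentralSeries i := by
  induction i with
  | zero => exact le_top
  | succ i ih => exact Subgroup.commutator_mono ih le_rfl

theorem Cs_le {G : Type*} [Group G] (C : Subgroup G) [C.Normal] (i : ℕ) : Cs C i ≤ C := by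
  induction i with
  | zero => exact le_rfl
  | succ i ih =>
    exact (Subgroup.commutator_mono ih le_rfl).trans (Subgroup.commutator_le_left C ⊤)

/-- Lemma U: in a nilpotent group, between normal subgroups `A < C` there is `x ∈ C \ A` all of
whose commutators lie in `A`. -/
theorem exists_central_mod {G : Type*} [Group G] [hnil : Group.IsNilpotent G] (A C : Subgroup G)
    [C.Normal] (hAC : ¬ C ≤ A) :
    ∃ x ∈ C, x ∉ A ∧ ∀ g : G, g * x * g⁻¹ * x⁻¹ ∈ A := by
  classical
  obtain ⟨n, hn⟩ := Subgroup.nilpotent_iff_lowerCentralSeries.mp hnil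
  have hex : ∃ i, Cs C i ≤ A := ⟨n, (Cs_le_lcs C n).trans (hn ▸ bot_le)⟩
  have hspec := Nat.find_spec hex
  have hne0 : Nat.find hex ≠ 0 := by
    intro h0
    rw [h0] at hspec
    exact hAC hspec
  obtain ⟨j, hj⟩ := Nat.exists_eq_succ_of_ne_zero hne0
  have hjnot : ¬ Cs C j ≤ A := Nat.find_min hex (by omega)
  rw [hj] at hspec
  obtain ⟨x, hxC, hxA⟩ := SetLike.not_le_iff_exists.mp hjnot
  refine ⟨x, Cs_le C j hxC, hxA, fun g => hspec ?_⟩
  show g * x * g⁻¹ * x⁻¹ ∈ ⁅Cs C j, (⊤ : Subgroup G)⁆
  rw [Subgroup.commutator_comm]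
  exact Subgroup.commutator_mem_commutator (Subgroup.mem_top g) hxC



theorem sup_zpowers_normal {G : Type*} [Group G] (M : Subgroup G) [hM : M.Normal] (x : G)
    (hx : ∀ g : G, g * x * g⁻¹ * x⁻¹ ∈ M) : (M ⊔ Subgroup.zpowers x).Normal := by
  have key : ∀ g : G, ∀ h ∈ M ⊔ Subgroup.zpowers x, g * h * g⁻¹ ∈ M ⊔ Subgroup.zpowers x := by
    intro g h hh
    have hmap : (M ⊔ Subgroup.zpowers x).map (MulAut.conj g).toMonoidHom ≤
        M ⊔ Subgroup.zpowers x := by
      rw [Subgroup.map_sup]
      apply sup_le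
      · refine le_trans ?_ le_sup_left
        rintro _ ⟨k, hk, rfl⟩
        exact hM.conj_mem k hk g
      · rw [MonoidHom.map_zpowers, Subgroup.zpowers_le]
        have e : (MulAut.conj g).toMonoidHom x = (g * x * g⁻¹ * x⁻¹) * x := by
          simp [MulAut.conj_apply]
        rw [e]
        exact Subgroup.mul_mem_sup (hx g) (Subgroup.mem_zpowers x)
    exact hmap ⟨h, hh, rfl⟩
  exact ⟨fun h hh g => key g h hh⟩

theorem relIndex_le_card {G : Type*} [Group G] [Finite G] (M H : Subgroup G) (x : G)
    (hx : ∀ g ∈ H, g * x * g⁻¹ * x⁻¹ ∈ M) :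
    (H ⊓ Subgroup.centralizer {x}).relIndex H ≤ Nat.card M := by
  classical
  have hwd : ∀ h₁ h₂ : H, (QuotientGroup.leftRel ((H ⊓ Subgroup.centralizer {x}).subgroupOf H)) h₁ h₂ →
      (⟨(h₁ : G) * x * (h₁ : G)⁻¹ * x⁻¹, hx h₁ h₁.2⟩ : M) =
        ⟨(h₂ : G) * x * (h₂ : G)⁻¹ * x⁻¹, hx h₂ h₂.2⟩ := by
    intro h₁ h₂ h12
    rw [QuotientGroup.leftRel_apply, Subgroup.mem_subgroupOf] at h12
    have hc := (Subgroup.mem_centralizer_iff.mp h12.2) x rfl
    apply Subtype.ext
    simp only [Subgroup.coe_mul, Subgroup.coe_inv] at hc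
    show (h₁ : G) * x * (h₁ : G)⁻¹ * x⁻¹ = (h₂ : G) * x * (h₂ : G)⁻¹ * x⁻¹
    have e : (h₂ : G) * x * (h₂ : G)⁻¹ = (h₁ : G) * (((h₁ : G)⁻¹ * h₂) * x) * (h₂ : G)⁻¹ := by group
    rw [e, ← hc]
    group
  let f : H ⧸ (H ⊓ Subgroup.centralizer {x}).subgroupOf H → M := fun qq =>
    Quotient.liftOn' qq (fun h => (⟨(h : G) * x * (h : G)⁻¹ * x⁻¹, hx h h.2⟩ : M)) hwd
  have hf : Function.Injective f := by
    intro q₁ q₂
    refine Quotient.inductionOn₂' q₁ q₂ ?_
    intro h₁ h₂ h12
    have h12' : (h₁ : G) * x * (h₁ : G)⁻¹ * x⁻¹ = (h₂ : G) * x * (h₂ : G)⁻¹ * x⁻¹ :=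
      congrArg Subtype.val h12
    apply Quotient.sound'
    rw [QuotientGroup.leftRel_apply, Subgroup.mem_subgroupOf]
    refine ⟨(h₁⁻¹ * h₂).2, ?_⟩
    show ((h₁⁻¹ * h₂ : H) : G) ∈ Subgroup.centralizer {x}
    rw [Subgroup.mem_centralizer_iff]
    intro y hy
    rw [Set.mem_singleton_iff] at hy
    subst hy
    simp only [Subgroup.coe_mul, Subgroup.coe_inv]
    have h3 : (h₁ : G) * y * (h₁ : G)⁻¹ = (h₂ : G) * y * (h₂ : G)⁻¹ := mul_right_cancel h12'
    have e1 : y * ((h₁ : G)⁻¹ * h₂) = (h₁ : G)⁻¹ * ((h₁ : G) * y * (h₁ : G)⁻¹) * h₂ := by group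
    rw [e1, h3]
    group
  exact Nat.card_le_card_of_injective f hf





theorem arith1 (b : ℕ) : b + b * (b - 1) / 2 = b * (b + 1) / 2 := by
  have h : b * (b + 1) = b * (b - 1) + 2 * b := by
    cases b with
    | zero => rfl
    | succ b => simp only [Nat.add_sub_cancel]; ring
  rw [h]
  omega

theorem arith2 (a b : ℕ) (hb : b < a) : b + b * (b - 1) / 2 ≤ a * (a - 1) / 2 := by
  rw [arith1]
  apply Nat.div_le_div_right
  calc b * (b + 1) ≤ (a - 1) * a := Nat.mul_le_mul (by omega) (by omega)
    _ = a * (a - 1) := Nat.mul_comm _ _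

theorem index_centralizer_le {G : Type*} [Group G] [Finite G] {p : ℕ} [hp : Fact p.Prime]
    (hG : IsPGroup p G) :
    ∀ (a : ℕ) (N : Subgroup G), N.Normal → Nat.card N = p ^ a →
      (Subgroup.centralizer (N : Set G)).index ≤ p ^ (a * (a - 1) / 2) := by
  classical
  have hpp : p.Prime := hp.out
  intro a
  induction a using Nat.strong_induction_on with
  | _ a ih =>
    intro N hN hcard
    by_cases hbot : N = ⊥
    · subst hbot
      have : Subgroup.centralizer (((⊥ : Subgroup G) : Subgroup G) : Set G) = ⊤ := by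
        rw [Subgroup.centralizer_eq_top_iff_subset]
        intro y hy
        rw [SetLike.mem_coe, Subgroup.mem_bot] at hy
        rw [hy]
        exact Subgroup.one_mem _
      rw [this, Subgroup.index_top]
      exact Nat.one_le_pow _ _ hpp.pos
    · have hnil : Group.IsNilpotent G := hG.isNilpotent
      have hSfin : ({M : Subgroup G | M.Normal ∧ M < N} : Set (Subgroup G)).Finite := Set.toFinite _
      have hSne : ({M : Subgroup G | M.Normal ∧ M < N} : Set (Subgroup G)).Nonempty :=
        ⟨⊥, inferInstance, bot_lt_iff_ne_bot.mpr hbot⟩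
      obtain ⟨M, hM⟩ := hSfin.exists_maximal hSne
      obtain ⟨hMn, hMN⟩ := hM.prop
      obtain ⟨x, hxN, hxM, hcomm⟩ := exists_central_mod M N (not_le_of_gt hMN)
      have hM'n : (M ⊔ Subgroup.zpowers x).Normal := sup_zpowers_normal M x hcomm
      have hM'le : M ⊔ Subgroup.zpowers x ≤ N :=
        sup_le hMN.le ((Subgroup.zpowers_le).mpr hxN)
      have hsup : M ⊔ Subgroup.zpowers x = N := by
        by_contra hne
        have hlt : M ⊔ Subgroup.zpowers x < N := lt_of_le_of_ne hM'le hne
        have h1 : M ⊔ Subgroup.zpowers x ≤ M := hM.le_of_ge ⟨hM'n, hlt⟩ le_sup_left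
        exact hxM (h1 (Subgroup.mem_sup_right (Subgroup.mem_zpowers x)))
      obtain ⟨b, hb⟩ := (hG.to_subgroup M).exists_card_eq
      have hba : b < a := by
        have h1 : Nat.card M < Nat.card N := by
          by_contra hnot
          exact hMN.ne (Subgroup.eq_of_le_of_card_ge hMN.le (not_lt.mp hnot))
        rw [hb, hcard] at h1
        exact (Nat.pow_lt_pow_iff_right hpp.one_lt).mp h1
      have hIH := ih b hba M hMn hb
      have hLle : Subgroup.centralizer (M : Set G) ⊓ Subgroup.centralizer {x} ≤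
          Subgroup.centralizer (N : Set G) := by
        intro g hg
        rw [Subgroup.mem_centralizer_iff]
        intro y hy
        have hyN : y ∈ M ⊔ Subgroup.zpowers x := hsup ▸ hy
        have hle : M ⊔ Subgroup.zpowers x ≤ Subgroup.centralizer {g} := by
          apply sup_le
          · intro m hm
            rw [Subgroup.mem_centralizer_iff]
            intro z hz
            rw [Set.mem_singleton_iff] at hz
            subst hz
            exact ((Subgroup.mem_centralizer_iff.mp hg.1) m hm).symm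
          · rw [Subgroup.zpowers_le, Subgroup.mem_centralizer_iff]
            intro z hz
            rw [Set.mem_singleton_iff] at hz
            subst hz
            exact ((Subgroup.mem_centralizer_iff.mp hg.2) x rfl).symm
        have := (Subgroup.mem_centralizer_iff.mp (hle hyN)) g rfl
        exact this.symm
      have h1 : (Subgroup.centralizer (N : Set G)).index ≤
          (Subgroup.centralizer (M : Set G) ⊓ Subgroup.centralizer {x}).index :=
        Nat.le_of_dvd (Nat.pos_of_ne_zero Subgroup.index_ne_zero_of_finite)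
          (Subgroup.index_dvd_of_le hLle)
      have h2 : (Subgroup.centralizer (M : Set G) ⊓ Subgroup.centralizer {x}).relIndex
          (Subgroup.centralizer (M : Set G)) * (Subgroup.centralizer (M : Set G)).index =
          (Subgroup.centralizer (M : Set G) ⊓ Subgroup.centralizer {x}).index :=
        Subgroup.relIndex_mul_index inf_le_left
      have h3 := relIndex_le_card M (Subgroup.centralizer (M : Set G)) x (fun g _ => hcomm g)
      calc (Subgroup.centralizer (N : Set G)).index
          ≤ (Subgroup.centralizer (M : Set G) ⊓ Subgroup.centralizer {x}).index := h1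
        _ = _ := h2.symm
        _ ≤ p ^ b * p ^ (b * (b - 1) / 2) := Nat.mul_le_mul (hb ▸ h3) hIH
        _ = p ^ (b + b * (b - 1) / 2) := (pow_add _ _ _).symm
        _ ≤ p ^ (a * (a - 1) / 2) := Nat.pow_le_pow_right hpp.pos (arith2 a b hba)






/-- a maximal normal abelian subgroup of a nilpotent group is self-centralizing -/
theorem centralizer_eq_self {G : Type*} [Group G] [hnil : Group.IsNilpotent G] (A : Subgroup G)
    [hAn : A.Normal] (hA : IsMulCommutative A)
    (hmax : ∀ B : Subgroup G, B.Normal → IsMulCommutative B → A ≤ B → B = A) :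
    Subgroup.centralizer (A : Set G) = A := by
  have hle : A ≤ Subgroup.centralizer (A : Set G) :=
    Subgroup.le_centralizer_iff_isMulCommutative.mpr hA
  by_contra hne
  have hnot : ¬ Subgroup.centralizer (A : Set G) ≤ A := fun h => hne (le_antisymm h hle)
  obtain ⟨x, hxC, hxA, hcomm⟩ := exists_central_mod A (Subgroup.centralizer (A : Set G)) hnot
  have hBn : (A ⊔ Subgroup.zpowers x).Normal := sup_zpowers_normal A x hcomm
  have hBc : IsMulCommutative (A ⊔ Subgroup.zpowers x : Subgroup G) := by
    rw [← Subgroup.le_centralizer_iff_isMulCommutative]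
    have h1 : A ⊔ Subgroup.zpowers x = Subgroup.closure ((A : Set G) ∪ {x}) := by
      rw [Subgroup.closure_union, Subgroup.closure_eq, Subgroup.zpowers_eq_closure]
    have h2 : A ⊔ Subgroup.zpowers x ≤ Subgroup.centralizer ((A : Set G) ∪ {x}) := by
      apply sup_le
      · intro a ha
        rw [Subgroup.mem_centralizer_iff]
        rintro y (hy | hy)
        · exact (Subgroup.mem_centralizer_iff.mp (hle ha)) y hy
        · rw [Set.mem_singleton_iff] at hy
          subst hy
          exact ((Subgroup.mem_centralizer_iff.mp hxC) a ha).symm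
      · rw [Subgroup.zpowers_le, Subgroup.mem_centralizer_iff]
        rintro y (hy | hy)
        · exact (Subgroup.mem_centralizer_iff.mp hxC) y hy
        · rw [Set.mem_singleton_iff] at hy
          subst hy
          rfl
    conv_rhs => rw [h1, Subgroup.centralizer_closure]
    exact h2
  have := hmax _ hBn hBc le_sup_left
  exact hxA (this ▸ Subgroup.mem_sup_right (Subgroup.mem_zpowers x))

/-- The order of a p-group is bounded by p^(a(a+1)/2) when it has a maximal normal abelian subgroup of order p^a. -/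
theorem result {G : Type*} [Group G] [Finite G] {p : ℕ} [Fact p.Prime] (hG : IsPGroup p G) (A : Subgroup G) [A.Normal] (hA : IsMulCommutative A) (hmax : ∀ B : Subgroup G, B.Normal → IsMulCommutative B → A ≤ B → B = A) (a : ℕ) (ha : Nat.card A = p ^ a) : Nat.card G ≤ p ^ (a * (a + 1) / 2) := by
  have hnil : Group.IsNilpotent G := hG.isNilpotent
  have hC := centralizer_eq_self A hA hmax
  have h1 := index_centralizer_le hG a A inferInstance ha
  rw [hC] at h1
  calc Nat.card G = Nat.card A * A.index := (Subgroup.card_mul_index A).symm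
    _ ≤ p ^ a * p ^ (a * (a - 1) / 2) := by rw [ha]; exact Nat.mul_le_mul_left _ h1
    _ = p ^ (a + a * (a - 1) / 2) := (pow_add _ _ _).symm
    _ = p ^ (a * (a + 1) / 2) := by rw [arith1]

end Cfsg.Agent.S0129
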