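import Mathlib
import Cfsg.Statements.S0130

set_option autoImplicit false
open Cfsg

namespace Cfsg.Agent.S0130

variable {G : Type*} [Group G]

/-- If `y * x = x * y * c` with `c` commuting with `y`, then `y ^ m * x = x * y ^ m * c ^ m`. -/
theorem pow_mul_comm_class_two {x y c : G} (h : y * x = x * y * c) (hcy : Commute c y) (m : ℕ) :
    y ^ m * x = x * y ^ m * c ^ m := by
  induction m with
  | zero => simp
  | succ m ih =>
    have h1 : y ^ (m + 1) * x = y * (y ^ m * x) := by rw [pow_succ', mul_assoc]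
    rw [h1, ih]
    have h2 : y * (x * y ^ m * c ^ m) = (y * x) * (y ^ m * c ^ m) := by group
    rw [h2, h]
    have hc : Commute c (y ^ m) := hcy.pow_right m
    have h3 : x * y * c * (y ^ m * c ^ m) = x * y * (c * y ^ m) * c ^ m := by group
    rw [h3, hc.eq, pow_succ' y m, pow_succ' c m]
    group

/-- Class two power formula. -/
theorem mul_pow_class_two {x y c : G} (h : y * x = x * y * c) (hcx : Commute c x) (hcy : Commute c y)
    (m : ℕ) : (x * y) ^ m = x ^ m * y ^ m * c ^ (m.choose 2) := by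
  induction m with
  | zero => simp
  | succ m ih =>
    rw [pow_succ, ih]
    have hcc : Commute (c ^ (m.choose 2)) x := hcx.pow_left _
    have h1 : x ^ m * y ^ m * c ^ m.choose 2 * (x * y) = x ^ m * y ^ m * (c ^ m.choose 2 * x) * y := by
      group
    rw [h1, hcc.eq]
    have h2 : x ^ m * y ^ m * (x * c ^ m.choose 2) * y = x ^ m * (y ^ m * x) * c ^ m.choose 2 * y := by
      group
    rw [h2, pow_mul_comm_class_two h hcy m]
    have hcy2 : Commute (c ^ m.choose 2) y := hcy.pow_left _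
    have h3 : x ^ m * (x * y ^ m * c ^ m) * c ^ m.choose 2 * y
        = x ^ m * x * y ^ m * c ^ m * (c ^ m.choose 2 * y) := by group
    rw [h3, hcy2.eq]
    have hcm : Commute (c ^ m) y := hcy.pow_left _
    have h4 : x ^ m * x * y ^ m * c ^ m * (y * c ^ m.choose 2)
        = x ^ m * x * y ^ m * (c ^ m * y) * c ^ m.choose 2 := by group
    rw [h4, hcm.eq]
    have h5 : (m + 1).choose 2 = m + m.choose 2 := by
      rw [Nat.choose_succ_succ' m 1, Nat.choose_one_right]
    rw [h5, pow_succ x m, pow_succ y m, pow_add c m]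
    group


theorem mem_cent_iff {A : Subgroup G} {x : G} :
    x ∈ Subgroup.centralizer (A : Set G) ↔ ∀ a ∈ A, a * x = x * a := by
  rw [Subgroup.mem_centralizer_iff]; rfl

/-- Key step: a commutator `w` of `x` which commutes with `x` modulo `A` inherits the properties of `x`. -/
theorem key {p n : ℕ} [Fact p.Prime] (hn : p ^ n ≠ 2) (A : Subgroup G) [A.Normal]
    {x g w c : G} (hx : x ∈ Subgroup.centralizer (A : Set G)) (hxp : x ^ p ∈ A)
    (hxn : x ^ p ^ n = 1)
    (hw : g * x * g⁻¹ = w * x) (hc : c ∈ A) (hxw : x * w = w * x * c) :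
    w ∈ Subgroup.centralizer (A : Set G) ∧ w ^ p ∈ A ∧ w ^ p ^ n = 1 := by
  have hp : p.Prime := Fact.out
  have hCn : (Subgroup.centralizer (A : Set G)).Normal := inferInstance
  have hwC : w ∈ Subgroup.centralizer (A : Set G) := by
    have h1 : w = g * x * g⁻¹ * x⁻¹ := by rw [hw]; group
    rw [h1]
    exact Subgroup.mul_mem _ (hCn.conj_mem x hx g) (Subgroup.inv_mem _ hx)
  have hcx : Commute c x := (mem_cent_iff.1 hx c hc)
  have hcw : Commute c w := (mem_cent_iff.1 hwC c hc)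
  -- power formula
  have hpow : ∀ m : ℕ, g * x ^ m * g⁻¹ = w ^ m * x ^ m * c ^ (m.choose 2) := by
    intro m
    have h1 : g * x ^ m * g⁻¹ = (g * x * g⁻¹) ^ m := by
      rw [conj_pow]
    rw [h1, hw]
    exact mul_pow_class_two hxw hcw hcx m
  refine ⟨hwC, ?_, ?_⟩
  · have h1 := hpow p
    have h2 : w ^ p = g * x ^ p * g⁻¹ * (c ^ (p.choose 2))⁻¹ * (x ^ p)⁻¹ := by
      rw [h1]
      have : Commute (c ^ (p.choose 2)) (x ^ p) := (hcx.pow_left _).pow_right _
      have h3 : w ^ p * x ^ p * c ^ p.choose 2 * (c ^ p.choose 2)⁻¹ * (x ^ p)⁻¹ = w ^ p := by group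
      exact h3.symm
    rw [h2]
    refine Subgroup.mul_mem _ (Subgroup.mul_mem _ ?_ ?_) (Subgroup.inv_mem _ hxp)
    · exact ‹A.Normal›.conj_mem _ hxp g
    · exact Subgroup.inv_mem _ (Subgroup.pow_mem _ hc _)
  · -- first c ^ p = 1
    have hwp : w ^ p ∈ A := by
      have h1 := hpow p
      have h2 : w ^ p = g * x ^ p * g⁻¹ * (c ^ (p.choose 2))⁻¹ * (x ^ p)⁻¹ := by
        rw [h1]
        have h3 : w ^ p * x ^ p * c ^ p.choose 2 * (c ^ p.choose 2)⁻¹ * (x ^ p)⁻¹ = w ^ p := by
          group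
        exact h3.symm
      rw [h2]
      refine Subgroup.mul_mem _ (Subgroup.mul_mem _ ?_ ?_) (Subgroup.inv_mem _ hxp)
      · exact ‹A.Normal›.conj_mem _ hxp g
      · exact Subgroup.inv_mem _ (Subgroup.pow_mem _ hc _)
    have hcp : c ^ p = 1 := by
      -- x * w = w * x * c  gives  x ^ p ... use pow_mul_comm_class_two with y := x? we need w^p
      -- from hxw : x * w = w * x * c, get  x ^ p * w = w * x ^ p * c ^ p
      have h1 := pow_mul_comm_class_two (x := w) (y := x) (c := c) hxw hcx p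
      -- x ^ p ∈ A commutes with w ∈ C
      have h2 : x ^ p * w = w * x ^ p := mem_cent_iff.1 hwC _ hxp
      rw [h2] at h1
      have h3 : w * x ^ p * c ^ p = w * x ^ p * 1 := by rw [← h1, mul_one]
      exact mul_left_cancel h3
    have hdvd : p ∣ (p ^ n).choose 2 := hp.dvd_choose_pow (by norm_num) (fun h => hn h.symm)
    obtain ⟨t, ht⟩ := hdvd
    have h1 := hpow (p ^ n)
    rw [hxn, ht, pow_mul, hcp, one_pow] at h1
    simpa using h1.symm


/-- The preimage in `G` of the upper central series of `G ⧸ A`. -/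
def B (A : Subgroup G) [A.Normal] (k : ℕ) : Subgroup G :=
  (Subgroup.upperCentralSeries (G ⧸ A) k).comap (QuotientGroup.mk' A)

theorem B_zero (A : Subgroup G) [A.Normal] : B A 0 = A := by
  unfold B
  rw [Subgroup.upperCentralSeries_zero, MonoidHom.comap_bot, QuotientGroup.ker_mk']

theorem mem_B_succ (A : Subgroup G) [A.Normal] (k : ℕ) (x : G) :
    x ∈ B A (k + 1) ↔ ∀ g : G, x * g * x⁻¹ * g⁻¹ ∈ B A k := by
  unfold B
  rw [Subgroup.mem_comap, Subgroup.mem_upperCentralSeries_succ_iff]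
  constructor
  · intro h g
    rw [Subgroup.mem_comap]
    have := h (QuotientGroup.mk' A g)
    rw [commutatorElement_def] at this
    simpa using this
  · intro h y
    obtain ⟨g, rfl⟩ := QuotientGroup.mk'_surjective A y
    have := h g
    rw [Subgroup.mem_comap] at this
    rw [commutatorElement_def]
    simpa using this

theorem main {p n : ℕ} [Fact p.Prime] (hn : p ^ n ≠ 2) (A : Subgroup G) [A.Normal]
    (hA : IsMulCommutative A) (hAe : ∀ a ∈ A, a ^ p ^ n = 1)
    (hmax : ∀ B' : Subgroup G, B'.Normal → IsMulCommutative B' → (∀ b ∈ B', b ^ p ^ n = 1) →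
      A ≤ B' → B' = A) :
    ∀ k : ℕ, ∀ x : G, x ∈ B A k → x ∈ Subgroup.centralizer (A : Set G) → x ^ p ∈ A →
      x ^ p ^ n = 1 → x ∈ A := by
  intro k
  induction k using Nat.strong_induction_on with
  | _ k IH =>
  intro x hxB hxC hxp hxn
  rcases Nat.eq_zero_or_pos k with hk | hk
  · subst hk; rw [B_zero] at hxB; exact hxB
  obtain ⟨k', rfl⟩ : ∃ k', k = k' + 1 := ⟨k - 1, by omega⟩
  -- Claim: x commutes modulo A with every element of B j, j ≤ k'
  have claim : ∀ j : ℕ, j ≤ k' → ∀ z ∈ B A j, ∃ c ∈ A, x * z = z * x * c := by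
    intro j
    induction j with
    | zero =>
      intro _ z hz
      rw [B_zero] at hz
      exact ⟨1, A.one_mem, by rw [mul_one]; exact (mem_cent_iff.1 hxC z hz).symm⟩
    | succ j ih =>
      intro hj z hz
      have ihj := ih (by omega)
      set w := z * x * z⁻¹ * x⁻¹ with hw
      have hwB : w ∈ B A j := (mem_B_succ A j z).1 hz x
      obtain ⟨c, hc, hxw⟩ := ihj w hwB
      have hw' : z * x * z⁻¹ = w * x := by rw [hw]; group
      obtain ⟨hwC, hwp, hwn⟩ := key hn A hxC hxp hxn hw' hc hxw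
      have hwA : w ∈ A := IH j (by omega) w hwB hwC hwp hwn
      refine ⟨(z * x)⁻¹ * w⁻¹ * (z * x), ?_, ?_⟩
      · have := ‹A.Normal›.conj_mem _ (A.inv_mem hwA) (z * x)⁻¹
        simpa using this
      · rw [hw]; group
  -- now every conjugate of x is in A x
  have hconj : ∀ g : G, g * x * g⁻¹ * x⁻¹ ∈ A := by
    intro g
    set w := g * x * g⁻¹ * x⁻¹ with hw
    have hwB : w ∈ B A k' := by
      have h1 := (mem_B_succ A k' x).1 hxB g
      have h2 : w = (x * g * x⁻¹ * g⁻¹)⁻¹ := by rw [hw]; group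
      rw [h2]; exact Subgroup.inv_mem _ h1
    obtain ⟨c, hc, hxw⟩ := claim k' le_rfl w hwB
    have hw' : g * x * g⁻¹ = w * x := by rw [hw]; group
    obtain ⟨hwC, hwp, hwn⟩ := key hn A hxC hxp hxn hw' hc hxw
    exact IH k' (by omega) w hwB hwC hwp hwn
  -- the subgroup A<x>
  let π := QuotientGroup.mk' A
  have hcentral : π x ∈ Subgroup.center (G ⧸ A) := by
    rw [Subgroup.mem_center_iff]
    intro y
    obtain ⟨g, rfl⟩ := QuotientGroup.mk'_surjective A y
    have h1 : π (g * x * g⁻¹ * x⁻¹) = 1 := by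
      rw [← MonoidHom.mem_ker, QuotientGroup.ker_mk']; exact hconj g
    have h2 : π (g * x * g⁻¹ * x⁻¹) = π g * π x * (π g)⁻¹ * (π x)⁻¹ := by simp
    rw [h2] at h1
    have h3 : π g * π x = π g * π x * (π g)⁻¹ * (π x)⁻¹ * (π x * π g) := by group
    rw [h3, h1, one_mul]
  let Z := Subgroup.zpowers (π x)
  have hZn : Z.Normal := by
    refine ⟨fun z hz y => ?_⟩
    have hzc : z ∈ Subgroup.center (G ⧸ A) := by
      obtain ⟨i, rfl⟩ := Subgroup.mem_zpowers_iff.1 hz
      exact Subgroup.zpow_mem _ hcentral i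
    have : y * z * y⁻¹ = z := by
      rw [Subgroup.mem_center_iff] at hzc
      rw [hzc y]; group
    rw [this]; exact hz
  let B' := Z.comap π
  have hB'n : B'.Normal := hZn.comap π
  have hAB' : A ≤ B' := by
    intro a ha
    change π a ∈ Z
    have : π a = 1 := by rw [← MonoidHom.mem_ker, QuotientGroup.ker_mk']; exact ha
    rw [this]; exact Z.one_mem
  have hxB' : x ∈ B' := by
    change π x ∈ Z
    exact Subgroup.mem_zpowers _
  have hB'mem : ∀ b ∈ B', ∃ i : ℤ, ∃ a ∈ A, b = x ^ i * a := by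
    intro b hb
    change π b ∈ Z at hb
    obtain ⟨i, hi⟩ := Subgroup.mem_zpowers_iff.1 hb
    refine ⟨i, (x ^ i)⁻¹ * b, ?_, by group⟩
    rw [← QuotientGroup.ker_mk' A, MonoidHom.mem_ker]
    change π ((x ^ i)⁻¹ * b) = 1
    rw [map_mul, map_inv, map_zpow, hi]; group
  have hcomm_xa : ∀ a ∈ A, ∀ i : ℤ, Commute (x ^ i) a := by
    intro a ha i
    have : Commute x a := (mem_cent_iff.1 hxC a ha).symm
    exact this.zpow_left i
  have hcommA : ∀ a ∈ A, ∀ a' ∈ A, Commute a a' := by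
    intro a ha a' ha'
    have := hA.is_comm.comm (⟨a, ha⟩ : A) ⟨a', ha'⟩
    exact congrArg Subtype.val this
  have hB'c : IsMulCommutative B' := by
    refine ⟨⟨fun b b' => Subtype.ext ?_⟩⟩
    obtain ⟨i, a, ha, hb⟩ := hB'mem b.1 b.2
    obtain ⟨i', a', ha', hb'⟩ := hB'mem b'.1 b'.2
    change b.1 * b'.1 = b'.1 * b.1
    rw [hb, hb']
    have c1 : Commute (x ^ i) (x ^ i') := (Commute.refl x).zpow_zpow i i'
    have c2 := hcomm_xa a' ha' i
    have c3 := hcomm_xa a ha i'
    have c4 := hcommA a ha a' ha'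
    have : Commute (x ^ i * a) (x ^ i' * a') :=
      Commute.mul_left (Commute.mul_right c1 c2) (Commute.mul_right c3.symm c4)
    exact this.eq
  have hB'e : ∀ b ∈ B', b ^ p ^ n = 1 := by
    intro b hb
    obtain ⟨i, a, ha, rfl⟩ := hB'mem b hb
    rw [(hcomm_xa a ha i).mul_pow, hAe a ha, mul_one, ← zpow_natCast, ← zpow_mul, mul_comm,
      zpow_mul, zpow_natCast, hxn, one_zpow]
  have := hmax B' hB'n hB'c hB'e hAB'
  rw [← this]; exact hxB'

theorem result {G : Type*} [Group G] [Finite G] {p : ℕ} [Fact p.Prime] (hG : IsPGroup p G) (n : ℕ) (hn : p ^ n ≠ 2) (A : Subgroup G) [A.Normal] (hA : IsMulCommutative A) (hAe : ∀ a ∈ A, a ^ p ^ n = 1) (hmax : ∀ B : Subgroup G, B.Normal → IsMulCommutative B → (∀ b ∈ B, b ^ p ^ n = 1) → A ≤ B → B = A) (x : G) (hx : x ∈ Subgroup.centralizer (A : Set G)) (hxn : x ^ p ^ n = 1) : x ∈ A := by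
  by_contra hxA
  -- minimal k with x ^ p ^ k ∈ A
  have hex : ∃ k : ℕ, x ^ p ^ k ∈ A := ⟨n, by rw [hxn]; exact A.one_mem⟩
  classical
  let k := Nat.find hex
  have hk : x ^ p ^ k ∈ A := Nat.find_spec hex
  have hk0 : k ≠ 0 := by
    intro h0
    rw [h0, pow_zero, pow_one] at hk
    exact hxA hk
  obtain ⟨k', hk'⟩ : ∃ k', k = k' + 1 := ⟨k - 1, by omega⟩
  have hk'not : x ^ p ^ k' ∉ A := Nat.find_min hex (by omega)
  apply hk'not
  -- nilpotency of G ⧸ A
  have hQ : IsPGroup p (G ⧸ A) := hG.to_quotient A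
  have : Group.IsNilpotent (G ⧸ A) := hQ.isNilpotent
  obtain ⟨K, hK⟩ := Group.IsNilpotent.nilpotent (G := G ⧸ A)
  have hBK : B A K = ⊤ := by
    unfold B; rw [hK]; exact Subgroup.comap_top _
  refine main hn A hA hAe hmax K (x ^ p ^ k') (by rw [hBK]; exact Subgroup.mem_top _)
    (Subgroup.pow_mem _ hx _) ?_ ?_
  · rw [← pow_mul, ← pow_succ, ← hk']; exact hk
  · rw [← pow_mul, mul_comm, pow_mul, hxn, one_pow]

end Cfsg.Agent.S0130
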