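import Cfsg.Statements.S0131
import Mathlib

set_option autoImplicit false
open Cfsg

namespace Cfsg.Agent.S0131

open scoped commutatorElement

theorem of_surj (G : Type*) [Group G] : Function.Surjective (Abelianization.of : G → Abelianization G) :=
  fun x => QuotientGroup.mk_surjective x

/-- P/P' has a normal complement in G exactly when the focal subgroup G' ∩ P is as small as possible, namely P'. -/
theorem result {G : Type*} [Group G] [Finite G] {p : ℕ} [Fact p.Prime] (P : Sylow p G) : (∃ N : Subgroup G, N.Normal ∧ N ⊓ (P : Subgroup G) = ⁅(P : Subgroup G), (P : Subgroup G)⁆ ∧ N ⊔ (P : Subgroup G) = ⊤) ↔ commutator G ⊓ (P : Subgroup G) = ⁅(P : Subgroup G), (P : Subgroup G)⁆ := by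
  have hP'P : ⁅(P : Subgroup G), (P : Subgroup G)⁆ ≤ (P : Subgroup G) := by
    rw [Subgroup.commutator_le]
    intro a ha b hb
    exact (P : Subgroup G).mul_mem ((P : Subgroup G).mul_mem ((P : Subgroup G).mul_mem ha hb)
      ((P : Subgroup G).inv_mem ha)) ((P : Subgroup G).inv_mem hb)
  have hP'G : ⁅(P : Subgroup G), (P : Subgroup G)⁆ ≤ commutator G := by
    rw [commutator_def]
    exact Subgroup.commutator_mono le_top le_top
  constructor
  · rintro ⟨N, hN, hNP, hsup⟩
    have := hN
    apply le_antisymm
    · -- `G' ≤ N`
      have hGN : commutator G ≤ N := by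
        rw [commutator_def, Subgroup.commutator_le]
        intro g₁ _ g₂ _
        have key : ∀ g : G, ∃ q ∈ (P : Subgroup G), (QuotientGroup.mk g : G ⧸ N) = QuotientGroup.mk q := by
          intro g
          have hg : g ∈ N ⊔ (P : Subgroup G) := by rw [hsup]; trivial
          rw [← SetLike.mem_coe, Subgroup.normal_mul] at hg
          obtain ⟨n, hn, q, hq, rfl⟩ := hg
          refine ⟨q, hq, ?_⟩
          rw [QuotientGroup.mk_mul, (QuotientGroup.eq_one_iff n).mpr hn, one_mul]
        obtain ⟨q₁, hq₁, e₁⟩ := key g₁
        obtain ⟨q₂, hq₂, e₂⟩ := key g₂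
        rw [← QuotientGroup.eq_one_iff]
        have h1 : (QuotientGroup.mk ⁅g₁, g₂⁆ : G ⧸ N) = QuotientGroup.mk ⁅q₁, q₂⁆ := by
          simp only [commutatorElement_def, QuotientGroup.mk_mul, QuotientGroup.mk_inv, e₁, e₂]
        rw [h1, QuotientGroup.eq_one_iff]
        have : ⁅q₁, q₂⁆ ∈ ⁅(P : Subgroup G), (P : Subgroup G)⁆ :=
          Subgroup.commutator_mem_commutator hq₁ hq₂
        rw [← hNP] at this
        exact this.1
      rw [← hNP]
      exact inf_le_inf_right _ hGN
    · exact le_inf hP'G hP'P
  · intro hfoc
    set m := (P : Subgroup G).index with hm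
    have hmp : ¬ p ∣ m := P.not_dvd_index
    have hcop : Nat.Coprime m p := (Nat.Coprime.symm ((Nat.Prime.coprime_iff_not_dvd Fact.out).mpr hmp))
    obtain ⟨e, he⟩ := IsPGroup.iff_card.mp P.isPGroup'
    have hcardG : Nat.card G = p ^ e * m := by
      rw [← he, hm]; exact ((P : Subgroup G).card_mul_index).symm
    let φ : Abelianization G →* Abelianization G := powMonoidHom m
    let N : Subgroup G := φ.ker.comap Abelianization.of
    have hGN : commutator G ≤ N := by
      intro g hg
      change φ (Abelianization.of g) = 1
      have : Abelianization.of g = 1 := by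
        rw [← MonoidHom.mem_ker, Abelianization.ker_of]; exact hg
      rw [this, map_one]
    refine ⟨N, inferInstance, ?_, ?_⟩
    · apply le_antisymm
      · rintro g ⟨hgN, hgP⟩
        rw [← hfoc]
        refine ⟨?_, hgP⟩
        have h1 : (Abelianization.of g) ^ m = 1 := hgN
        have h2 : (Abelianization.of g) ^ (p ^ e) = 1 := by
          have : g ^ (p ^ e) = 1 := by
            have := pow_card_eq_one' (G := (P : Subgroup G)) (x := ⟨g, hgP⟩)
            rw [he] at this
            exact congrArg Subtype.val this
          rw [← map_pow, this, map_one]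
        have h3 : orderOf (Abelianization.of g) ∣ Nat.gcd m (p ^ e) :=
          Nat.dvd_gcd (orderOf_dvd_of_pow_eq_one h1) (orderOf_dvd_of_pow_eq_one h2)
        rw [Nat.Coprime.gcd_eq_one (Nat.Coprime.pow_right e hcop), Nat.dvd_one,
          orderOf_eq_one_iff] at h3
        have : g ∈ (Abelianization.of : G →* Abelianization G).ker := MonoidHom.mem_ker.mpr h3
        rw [Abelianization.ker_of] at this
        exact this
      · exact le_inf (hP'G.trans hGN) hP'P
    · -- index argument
      have hidxN : ∃ k, N.index = p ^ k := by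
        have h1 : N.index = φ.ker.index :=
          Subgroup.index_comap_of_surjective _ (of_surj G)
        rw [h1, Subgroup.index_ker]
        have hpg : IsPGroup p φ.range := by
          rintro ⟨x, y, rfl⟩
          refine ⟨e, ?_⟩
          apply Subtype.ext
          change (φ y) ^ (p ^ e) = 1
          change (y ^ m) ^ (p ^ e) = 1
          rw [← pow_mul, mul_comm, ← hcardG]
          obtain ⟨g, rfl⟩ := (of_surj G) y
          rw [← map_pow, pow_card_eq_one', map_one]
        exact IsPGroup.iff_card.mp hpg
      obtain ⟨k, hk⟩ := hidxN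
      have hd1 : (N ⊔ (P : Subgroup G)).index ∣ p ^ k := hk ▸ Subgroup.index_dvd_of_le le_sup_left
      have hd2 : (N ⊔ (P : Subgroup G)).index ∣ m := Subgroup.index_dvd_of_le le_sup_right
      have hone : (N ⊔ (P : Subgroup G)).index = 1 := by
        have := Nat.dvd_gcd hd1 hd2
        rw [Nat.Coprime.gcd_eq_one (Nat.Coprime.pow_left k hcop.symm), Nat.dvd_one] at this
        exact this
      exact Subgroup.index_eq_one.mp hone

end Cfsg.Agent.S0131
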