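-- Statement S0132: minimal non-p-nilpotent groups (Ito).
import Cfsg.Statements.S0132
import Cfsg.Agent.Lib.Helper35_FrobeniusCor
import Cfsg.Agent.S0072

set_option autoImplicit false
open Cfsg

namespace Cfsg.Agent.S0132

open Cfsg.Agent.Lib.Helper35_FrobeniusNPC Cfsg.Agent.Lib.Helper35_FrobeniusCor Subgroup
open scoped Pointwise

section aux

variable {G : Type*} [Group G]

/-- inside a subgroup with a normal `p`-complement, `p'`-elements normalizing a `p`-subgroup
centralize it -/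
theorem mem_centralizer_of_hasNPC_subgroup {p : ℕ} (H : Subgroup G) (hH : HasNPC p ↥H)
    {Q : Subgroup G} (hQ : IsPGroup p Q) (hQH : Q ≤ H) {h : G} (hh : h ∈ H)
    (hN : h ∈ normalizer (Q : Set G)) (hc : (orderOf h).Coprime p) :
    h ∈ centralizer (Q : Set G) := by
  have hF := frobHyp_of_hasNPC hH
  have hQ' : IsPGroup p (Q.subgroupOf H) :=
    hQ.comap_of_injective _ (Subgroup.subtype_injective _) |>.to_le le_rfl
  have hgN : (⟨h, hh⟩ : ↥H) ∈ normalizer ((Q.subgroupOf H : Subgroup ↥H) : Set ↥H) := by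
    rw [Subgroup.mem_normalizer_iff]
    intro x
    rw [Subgroup.mem_subgroupOf, Subgroup.mem_subgroupOf]
    exact (Subgroup.mem_normalizer_iff.mp hN) x
  have hgo : (orderOf (⟨h, hh⟩ : ↥H)).Coprime p := by
    rw [Subgroup.orderOf_mk]; exact hc
  have := hF _ hQ' _ hgN hgo
  rw [Subgroup.mem_centralizer_iff] at this ⊢
  intro x hx
  have h1 := this ⟨x, hQH hx⟩ (by rw [SetLike.mem_coe, Subgroup.mem_subgroupOf]; exact hx)
  exact congrArg Subtype.val h1

/-- in a finite nilpotent group a `p`-subgroup and an `r`-subgroup (`p ≠ r`) commute -/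
theorem commute_of_isNilpotent [Finite G] [hnil : Group.IsNilpotent G] {p r : ℕ} [Fact p.Prime]
    [Fact r.Prime] (hpr : p ≠ r) {Q Z : Subgroup G} (hQ : IsPGroup p Q) (hZ : IsPGroup r Z)
    {x z : G} (hx : x ∈ Q) (hz : z ∈ Z) : x * z = z * x := by
  obtain ⟨SQ, hSQ⟩ := hQ.exists_le_sylow
  obtain ⟨SZ, hSZ⟩ := hZ.exists_le_sylow
  have hdis : Disjoint (SQ : Subgroup G) (SZ : Subgroup G) :=
    IsPGroup.disjoint_of_ne p r hpr _ _ SQ.2 SZ.2
  exact (Subgroup.commute_of_normal_of_disjoint _ _ inferInstance inferInstance hdis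
    _ _ (hSQ hx) (hSZ hz)).eq

end aux

/-- A minimal non-p-nilpotent finite group is a minimal non-nilpotent group with a normal Sylow p-subgroup. -/
theorem result {G : Type*} [Group G] [Finite G] {p : ℕ} [Fact p.Prime] (h1 : ¬ Cfsg.HasNormalPComplement p G) (h2 : ∀ H : Subgroup G, H ≠ ⊤ → Cfsg.HasNormalPComplement p H) : (∀ H : Subgroup G, H ≠ ⊤ → Group.IsNilpotent H) ∧ ¬ Group.IsNilpotent G ∧ ∀ P : Sylow p G, (P : Subgroup G).Normal := by
  classical
  have hp : p.Prime := Fact.out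
  rw [Cfsg.Agent.S0072.hasNPC_iff] at h1
  have h2' : ∀ H : Subgroup G, H ≠ ⊤ → HasNPC p ↥H := fun H hH =>
    (Cfsg.Agent.S0072.hasNPC_iff p).mp (h2 H hH)
  obtain ⟨Q, r, k, h, b, c, hQ, hr, hrp, hk0, hoh, hhN, hhC, -, hb, -⟩ :=
    exists_primePow_of_not_hasNPC h1
  have : Fact r.Prime := ⟨hr⟩
  have hhc : (orderOf h).Coprime p := by
    rw [hoh]
    exact Nat.Coprime.pow_left k ((Nat.coprime_primes hr hp).mpr hrp)
  set Z : Subgroup G := Subgroup.zpowers h with hZ
  have hZcard : Nat.card Z = r ^ k := by rw [hZ, Nat.card_zpowers, hoh]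
  have hZp : IsPGroup r Z := IsPGroup.of_card hZcard
  have hhZ : h ∈ Z := Subgroup.mem_zpowers h
  -- `Q ⊔ Z = ⊤`
  have htop : Q ⊔ Z = ⊤ := by
    by_contra hne
    exact hhC (mem_centralizer_of_hasNPC_subgroup (Q ⊔ Z) (h2' _ hne) hQ le_sup_left
      ((le_sup_right : Z ≤ Q ⊔ Z) hhZ) hhN hhc)
  have hQn : Q.Normal := by
    rw [← Subgroup.normalizer_eq_top_iff, eq_top_iff, ← htop, sup_le_iff]
    refine ⟨Subgroup.le_normalizer, ?_⟩
    rw [hZ, Subgroup.zpowers_le]
    exact hhN
  have hdisj : Disjoint Q Z := IsPGroup.disjoint_of_ne p r hrp.symm _ _ hQ hZp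
  have hmul : (Q : Set G) * (Z : Set G) = Set.univ := by
    rw [← Subgroup.normal_mul, htop, Subgroup.coe_top]
  have hcompl : IsComplement' Q Z := isComplement'_of_disjoint_and_mul_eq_univ hdisj hmul
  have hQidx : Q.index = r ^ k := by rw [hcompl.symm.index_eq_card, hZcard]
  have hcardG : Nat.card G = p ^ b * r ^ k := by
    rw [← hcompl.card_mul_card, hb, hZcard]
  have hQs : ¬ p ∣ Q.index := by
    rw [hQidx]
    intro hd
    exact hrp ((Nat.prime_dvd_prime_iff_eq hp hr).mp (hp.dvd_of_dvd_pow hd)).symm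
  refine ⟨?_, ?_, ?_⟩
  · -- proper subgroups are nilpotent
    intro H hH
    apply Cfsg.Agent.S0536.isNilpotent_of_forall_hasNPC
    intro s hs
    have : Fact s.Prime := ⟨hs⟩
    have hHdvd : Nat.card ↥H ∣ p ^ b * r ^ k := hcardG ▸ Subgroup.card_subgroup_dvd_card H
    by_cases hsp : s = p
    · subst hsp; exact h2' H hH
    by_cases hsr : s = r
    · subst hsr
      refine ⟨Q.subgroupOf H, Subgroup.normal_subgroupOf, ?_, ?_⟩
      · have hQ' : IsPGroup p (Q.subgroupOf H) :=
          hQ.comap_of_injective _ (Subgroup.subtype_injective _) |>.to_le le_rfl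
        obtain ⟨m, hm⟩ := (IsPGroup.iff_card (p := p)).mp hQ'
        rw [hm]
        exact Nat.Coprime.pow_left m ((Nat.coprime_primes hp hs).mpr (Ne.symm hsp))
      · have h1 : (Q.subgroupOf H).index ∣ Q.index := Subgroup.relIndex_dvd_index_of_normal Q H
        rw [hQidx] at h1
        obtain ⟨j, -, hj⟩ := (Nat.dvd_prime_pow hs).mp h1
        exact ⟨j, hj⟩
    · refine ⟨⊤, inferInstance, ?_, 0, ?_⟩
      · rw [Subgroup.card_top]
        apply Nat.Coprime.coprime_dvd_left hHdvd
        apply Nat.Coprime.mul_left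
        · exact Nat.Coprime.pow_left b ((Nat.coprime_primes hp hs).mpr (Ne.symm hsp))
        · exact Nat.Coprime.pow_left k ((Nat.coprime_primes hr hs).mpr (Ne.symm hsr))
      · rw [Subgroup.index_top, pow_zero]
  · -- `G` is not nilpotent
    intro hnil
    apply hhC
    rw [Subgroup.mem_centralizer_iff]
    intro x hx
    exact commute_of_isNilpotent hrp.symm hQ hZp hx hhZ
  · -- the Sylow `p`-subgroup is normal
    intro P
    have hS : (hQ.toSylow hQs : Subgroup G).Normal := by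
      rw [IsPGroup.toSylow_coe]; exact hQn
    have hU : Unique (Sylow p G) := Sylow.unique_of_normal (hQ.toSylow hQs) hS
    have hPQ : P = hQ.toSylow hQs := (hU.eq_default P).trans (hU.eq_default _).symm
    rw [hPQ]; exact hS

end Cfsg.Agent.S0132
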