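import Cfsg.Statements.S0156
import Cfsg.Agent.Lib.Helper3_CharColumn
import Cfsg.Agent.S0155

set_option autoImplicit false
open Cfsg

namespace Cfsg.Agent.S0156

/-- The character of the left regular representation is the sum over the irreducible characters χ of χ 1 • χ. -/
theorem result {G : Type*} [Group G] [Fintype G] : (Representation.leftRegular ℂ G).character = ∑ᶠ χ : Cfsg.IrrCharacter G, (χ : G → ℂ) 1 • (χ : G → ℂ) := by
  classical
  rw [finsum_eq_sum_of_fintype]
  have hcf : Cfsg.IsClassFunction G (Representation.leftRegular ℂ G).character :=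
    Cfsg.Agent.Lib.Helper3_CharBridge.isClassFunction_of_isCharacter
      (Cfsg.Agent.Lib.Helper3_CharBridge.isCharacter_of_rep _)
  have h1 := Cfsg.Agent.Lib.Helper3_CharComplete.classFunction_eq_sum _ hcf
  conv_lhs => rw [h1]
  refine Finset.sum_congr rfl (fun χ _ => ?_)
  congr 1
  rw [Cfsg.classInner, Finset.sum_eq_single (1 : G)]
  · rw [Cfsg.Agent.S0155.result, if_pos rfl]
    obtain ⟨n, _, hn⟩ := Cfsg.Agent.Lib.Helper3_CharColumn.irr_one_eq_natCast χ.2
    rw [hn, Complex.conj_natCast, ← mul_assoc,
      inv_mul_cancel₀ Cfsg.Agent.Lib.Helper3_CharOrtho.card_ne_zero_complex, one_mul]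
  · intro g _ hg
    rw [Cfsg.Agent.S0155.result, if_neg hg, zero_mul]
  · intro h
    exact absurd (Finset.mem_univ _) h

end Cfsg.Agent.S0156
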