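import Cfsg.Statements.S0160
import Cfsg.Agent.S4866

set_option autoImplicit false
open Cfsg

namespace Cfsg.Agent.S0160

open Cfsg.Agent.Lib.Helper81_CharBasic Cfsg.Agent.Lib.Helper81_CharOrth
  Cfsg.Agent.Lib.Helper81_CharComplete Cfsg.Agent.Lib.Helper81_CharExpand
  Cfsg.Agent.Lib.Helper81_CharSchur Cfsg.Agent.Lib.Helper81_FrobSchur
  Cfsg.Agent.Lib.Helper81_CharOrth2 Cfsg.Agent.S4866

section

variable {G : Type*} [Group G]

/-- Character side: the number of real-valued irreducible characters, via second orthogonality. -/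
theorem card_real_irr [Fintype G] [Fintype (IrrCharacter G)] :
    (Nat.card {χ : IrrCharacter G // ∀ g : G, ((χ : G → ℂ) g).im = 0} : ℂ) * (Nat.card G : ℂ)
      = (Nat.card {p : G × G // p.2 * p.1⁻¹ * p.2⁻¹ = p.1} : ℂ) := by
  classical
  have hc : (Nat.card G : ℂ) ≠ 0 := card_ne_zero
  have h0 : Nat.card {χ : IrrCharacter G // ∀ g : G, ((χ : G → ℂ) g).im = 0}
      = Nat.card {χ : IrrCharacter G // conjIrr χ = χ} :=
    Nat.card_congr (Equiv.subtypeEquivRight fun χ => real_iff_conjIrr_eq χ)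
  have h1 : (Nat.card {χ : IrrCharacter G // conjIrr χ = χ} : ℂ)
      = ∑ χ : IrrCharacter G, if conjIrr χ = χ then (1 : ℂ) else 0 := by
    rw [Nat.card_eq_fintype_card, Fintype.card_subtype, Finset.sum_boole]
  have h2 : ∀ χ : IrrCharacter G, (if conjIrr χ = χ then (1 : ℂ) else 0)
      = (Nat.card G : ℂ)⁻¹ * ∑ g : G, (χ : G → ℂ) g⁻¹ * (χ : G → ℂ) g⁻¹ := by
    intro χ
    have := sum_irr_mul_irr_inv (conjIrr χ).2 χ.2
    have e : ∀ g : G, (conjIrr χ : G → ℂ) g = (χ : G → ℂ) g⁻¹ := fun g => rfl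
    simp only [e] at this
    rw [this]
    by_cases hχ : conjIrr χ = χ
    · rw [if_pos hχ, if_pos (congrArg Subtype.val hχ), inv_mul_cancel₀ hc]
    · rw [if_neg hχ, if_neg (fun h => hχ (Subtype.ext h)), mul_zero]
  rw [h0, h1]
  simp only [h2]
  rw [← Finset.mul_sum, Finset.sum_comm]
  have h3 : ∀ g : G, ∑ χ : IrrCharacter G, (χ : G → ℂ) g⁻¹ * (χ : G → ℂ) g⁻¹
      = (Nat.card {c : G // c * g⁻¹ * c⁻¹ = g} : ℂ) := fun g => second_orthogonality g⁻¹ g
  simp only [h3]
  rw [natCard_prod_subtype (fun (g : G) (c : G) => c * g⁻¹ * c⁻¹ = g)]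
  push_cast
  field_simp

/-- The real elements. -/
abbrev RealG (G : Type*) [Group G] : Type _ := {g : G // IsConj g⁻¹ g}

noncomputable instance mulActionRealG : MulAction G (RealG G) where
  smul x u := ⟨x * u.1 * x⁻¹, by
    obtain ⟨c, hc⟩ := isConj_iff.mp u.2
    rw [isConj_iff]
    refine ⟨x * c * x⁻¹, ?_⟩
    calc x * c * x⁻¹ * (x * u.1 * x⁻¹)⁻¹ * (x * c * x⁻¹)⁻¹
        = x * (c * u.1⁻¹ * c⁻¹) * x⁻¹ := by group
      _ = x * u.1 * x⁻¹ := by rw [hc]⟩
  one_smul u := by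
    apply Subtype.ext
    show 1 * u.1 * 1⁻¹ = u.1
    simp
  mul_smul x y u := by
    apply Subtype.ext
    show (x * y) * u.1 * (x * y)⁻¹ = x * (y * u.1 * y⁻¹) * x⁻¹
    group

theorem smul_realG_val (x : G) (u : RealG G) : (x • u).1 = x * u.1 * x⁻¹ := rfl

/-- A chosen element conjugating `u⁻¹` to `u`. -/
noncomputable def conjugator (u : RealG G) : G := Classical.choose (isConj_iff.mp u.2)

theorem conjugator_spec (u : RealG G) :
    conjugator u * u.1⁻¹ * (conjugator u)⁻¹ = u.1 :=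
  Classical.choose_spec (isConj_iff.mp u.2)

noncomputable def pairEquiv :
    {p : G × RealG G // p.1 • p.2 = p.2} ≃ {p : G × G // p.2 * p.1⁻¹ * p.2⁻¹ = p.1} where
  toFun p := ⟨(p.1.2.1, p.1.1 * conjugator p.1.2), by
    have hfix : p.1.1 * p.1.2.1 * p.1.1⁻¹ = p.1.2.1 := by
      rw [← smul_realG_val, p.2]
    have hc := conjugator_spec p.1.2
    calc p.1.1 * conjugator p.1.2 * p.1.2.1⁻¹ * (p.1.1 * conjugator p.1.2)⁻¹
        = p.1.1 * (conjugator p.1.2 * p.1.2.1⁻¹ * (conjugator p.1.2)⁻¹) * p.1.1⁻¹ := by group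
      _ = p.1.1 * p.1.2.1 * p.1.1⁻¹ := by rw [hc]
      _ = _ := hfix⟩
  invFun q :=
    ⟨(q.1.2 * (conjugator ⟨q.1.1, isConj_iff.mpr ⟨q.1.2, q.2⟩⟩)⁻¹,
      ⟨q.1.1, isConj_iff.mpr ⟨q.1.2, q.2⟩⟩), by
      apply Subtype.ext
      rw [smul_realG_val]
      have hc := conjugator_spec ⟨q.1.1, isConj_iff.mpr ⟨q.1.2, q.2⟩⟩
      simp only at hc
      set d : G := conjugator ⟨q.1.1, isConj_iff.mpr ⟨q.1.2, q.2⟩⟩ with hd
      have hc' : d⁻¹ * q.1.1 * d = q.1.1⁻¹ := by
        calc d⁻¹ * q.1.1 * d = d⁻¹ * (d * q.1.1⁻¹ * d⁻¹) * d := by rw [hc]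
          _ = q.1.1⁻¹ := by group
      calc q.1.2 * d⁻¹ * q.1.1 * (q.1.2 * d⁻¹)⁻¹
          = q.1.2 * (d⁻¹ * q.1.1 * d) * q.1.2⁻¹ := by group
        _ = q.1.2 * q.1.1⁻¹ * q.1.2⁻¹ := by rw [hc']
        _ = _ := q.2⟩
  left_inv p := by
    apply Subtype.ext
    apply Prod.ext
    · simp only [mul_inv_cancel_right]
    · rfl
  right_inv q := by
    apply Subtype.ext
    apply Prod.ext
    · rfl
    · simp only [inv_mul_cancel_right]

/-- Orbits on the real elements are the real classes. -/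
noncomputable def orbitEquiv :
    Quotient (MulAction.orbitRel G (RealG G))
      ≃ {C : ConjClasses G // ∀ g : G, ConjClasses.mk g = C → IsConj g g⁻¹} :=
  Equiv.ofBijective
    (Quotient.lift (fun u : RealG G => (⟨ConjClasses.mk u.1, by
        intro g hg
        have h1 : IsConj g u.1 := ConjClasses.mk_eq_mk_iff_isConj.mp hg
        have h2 : IsConj g⁻¹ u.1⁻¹ := by
          obtain ⟨c, hc⟩ := isConj_iff.mp h1
          exact isConj_iff.mpr ⟨c, by rw [← hc]; group⟩
        exact (h1.trans u.2.symm).trans h2.symm⟩ :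
          {C : ConjClasses G // ∀ g : G, ConjClasses.mk g = C → IsConj g g⁻¹}))
      (by
        rintro u v ⟨x, hx⟩
        apply Subtype.ext
        show ConjClasses.mk u.1 = ConjClasses.mk v.1
        apply ConjClasses.mk_eq_mk_iff_isConj.mpr
        have : x * v.1 * x⁻¹ = u.1 := congrArg Subtype.val hx
        exact (isConj_iff.mpr ⟨x, this⟩).symm))
    (by
      constructor
      · rintro ⟨u⟩ ⟨v⟩ h
        apply Quotient.sound
        have h1 : ConjClasses.mk u.1 = ConjClasses.mk v.1 := congrArg Subtype.val h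
        obtain ⟨x, hx⟩ := isConj_iff.mp (ConjClasses.mk_eq_mk_iff_isConj.mp h1)
        exact ⟨x⁻¹, by
          apply Subtype.ext
          show x⁻¹ * v.1 * x⁻¹⁻¹ = u.1
          rw [← hx]; group⟩
      · rintro ⟨C, hC⟩
        obtain ⟨g, rfl⟩ := ConjClasses.mk_surjective C
        have hg : IsConj g⁻¹ g := (hC g rfl).symm
        exact ⟨Quotient.mk _ ⟨g, hg⟩, rfl⟩)

end

/-- A finite group has as many real-valued irreducible complex characters as conjugacy classes closed under taking inverses. -/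
theorem result {G : Type*} [Group G] [Finite G] : Nat.card {χ : Cfsg.IrrCharacter G // ∀ g : G, ((χ : G → ℂ) g).im = 0} = Nat.card {C : ConjClasses G // ∀ g : G, ConjClasses.mk g = C → IsConj g g⁻¹} := by
  classical
  haveI := Fintype.ofFinite G
  haveI := Fintype.ofFinite (IrrCharacter G)
  have h1 := card_real_irr (G := G)
  have h2 : Nat.card {p : G × RealG G // p.1 • p.2 = p.2}
      = Nat.card (Quotient (MulAction.orbitRel G (RealG G))) * Nat.card G :=
    Cfsg.Agent.S4866.burnside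
  rw [Nat.card_congr pairEquiv, Nat.card_congr orbitEquiv] at h2
  rw [h2] at h1
  have hG : Nat.card G ≠ 0 := Nat.card_pos.ne'
  have h3 : Nat.card {χ : IrrCharacter G // ∀ g : G, ((χ : G → ℂ) g).im = 0} * Nat.card G
      = Nat.card {C : ConjClasses G // ∀ g : G, ConjClasses.mk g = C → IsConj g g⁻¹}
          * Nat.card G := by
    exact_mod_cast h1
  exact Nat.eq_of_mul_eq_mul_right (Nat.pos_of_ne_zero hG) h3

end Cfsg.Agent.S0160
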