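import Cfsg.Statements.S0161
import Cfsg.Agent.S0160

set_option autoImplicit false
open Cfsg

namespace Cfsg.Agent.S0161

/-- In a group of odd order an element conjugate to its inverse is trivial. -/
theorem eq_one_of_isConj_inv {G : Type*} [Group G] [Finite G] (hodd : Odd (Nat.card G)) (g : G)
    (h : IsConj g g⁻¹) : g = 1 := by
  obtain ⟨x, hx⟩ := isConj_iff.mp h
  -- x has odd order
  have hxo : Odd (orderOf x) := Odd.of_dvd_nat hodd (orderOf_dvd_natCard x)
  obtain ⟨j, hj⟩ := hxo
  have hx2 : Commute (x * x) g := by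
    show x * x * g = g * (x * x)
    have h1 : x * (x * g * x⁻¹) * x⁻¹ = g := by
      rw [hx]
      have : x * g⁻¹ * x⁻¹ = (x * g * x⁻¹)⁻¹ := by group
      rw [this, hx, inv_inv]
    calc x * x * g = x * (x * g * x⁻¹) * x⁻¹ * (x * x) := by group
      _ = g * (x * x) := by rw [h1]
  have hxpow : x = (x * x) ^ (j + 1) := by
    rw [← pow_two, ← pow_mul]
    have : 2 * (j + 1) = orderOf x + 1 := by omega
    rw [this, pow_succ, pow_orderOf_eq_one, one_mul]
  have hxg : Commute x g := by
    rw [hxpow]; exact hx2.pow_left _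
  have hgg : g = g⁻¹ := by
    have : x * g * x⁻¹ = g := by rw [hxg.eq]; group
    rw [← hx, this]
  have hg2 : g ^ 2 = 1 := by
    rw [pow_two]
    calc g * g = g * g⁻¹ := by rw [← hgg]
      _ = 1 := mul_inv_cancel g
  have hgo : Odd (orderOf g) := Odd.of_dvd_nat hodd (orderOf_dvd_natCard g)
  have hd : orderOf g ∣ 2 := orderOf_dvd_of_pow_eq_one hg2
  have : orderOf g = 1 := by
    rcases (Nat.dvd_prime Nat.prime_two).mp hd with h1 | h2
    · exact h1
    · rw [h2] at hgo; exact absurd hgo (by decide)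
  exact orderOf_eq_one_iff.mp this

/-- In a finite group of odd order, a real-valued irreducible complex character is the trivial character. -/
theorem result {G : Type*} [Group G] [Finite G] (hodd : Odd (Nat.card G)) (χ : Cfsg.IrrCharacter G) (hreal : ∀ g : G, ((χ : G → ℂ) g).im = 0) : (χ : G → ℂ) = fun _ => 1 := by
  classical
  have hcard := Cfsg.Agent.S0160.result (G := G)
  have hsub : Subsingleton {C : ConjClasses G // ∀ g : G, ConjClasses.mk g = C → IsConj g g⁻¹} := by
    constructor
    rintro ⟨C, hC⟩ ⟨D, hD⟩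
    apply Subtype.ext
    obtain ⟨g, rfl⟩ := ConjClasses.mk_surjective C
    obtain ⟨h, rfl⟩ := ConjClasses.mk_surjective D
    show ConjClasses.mk g = ConjClasses.mk h
    have e1 := eq_one_of_isConj_inv hodd g (hC g rfl)
    have e2 := eq_one_of_isConj_inv hodd h (hD h rfl)
    rw [e1, e2]
  have hle : Nat.card {χ : Cfsg.IrrCharacter G // ∀ g : G, ((χ : G → ℂ) g).im = 0} ≤ 1 := by
    rw [hcard]
    exact Finite.card_le_one_iff_subsingleton.mpr hsub
  have hsub2 : Subsingleton {χ : Cfsg.IrrCharacter G // ∀ g : G, ((χ : G → ℂ) g).im = 0} :=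
    Finite.card_le_one_iff_subsingleton.mp hle
  let one : {χ : Cfsg.IrrCharacter G // ∀ g : G, ((χ : G → ℂ) g).im = 0} :=
    ⟨Cfsg.Agent.Lib.Helper80_CharBasic.oneIrr G, fun g => by
      show ((1 : ℂ)).im = 0
      simp⟩
  have := Subsingleton.elim (⟨χ, hreal⟩ : {χ : Cfsg.IrrCharacter G // ∀ g : G, ((χ : G → ℂ) g).im = 0}) one
  have h2 := congrArg (fun z => (z.1 : G → ℂ)) this
  exact h2

end Cfsg.Agent.S0161
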