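import Cfsg.Statements.S0162
import Cfsg.Agent.S0161
import Cfsg.Agent.Lib.Helper80_CharComplete
import Cfsg.Agent.Lib.Helper3_CharDegree
import Cfsg.Agent.Lib.Helper81_CharOrth2

set_option autoImplicit false
open Cfsg

namespace Cfsg.Agent.S0162


/-- degree data of an irreducible character -/
theorem exists_degree {G : Type*} [Group G] [Finite G] (χ : Cfsg.IrrCharacter G) :
    ∃ d : ℕ, (χ : G → ℂ) 1 = (d : ℂ) ∧ d ∣ Nat.card G := by
  classical
  haveI := Fintype.ofFinite G
  obtain ⟨n, ρ, hρ, hχ⟩ := χ.2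
  haveI := hρ
  refine ⟨Module.finrank ℂ (Fin n → ℂ), ?_, Cfsg.Agent.Lib.Helper3_CharDegree.finrank_dvd_card ρ⟩
  rw [← hχ]
  exact Representation.char_one ρ

theorem zmod16_aux : ∀ x : ZMod 16, x.val % 2 = 1 → (x ^ 2 - 1) + (x ^ 2 - 1) = 0 := by
  decide

theorem odd_sq_aux (d : ℕ) (hd : Odd d) :
    (((d : ZMod 16)) ^ 2 - 1) + (((d : ZMod 16)) ^ 2 - 1) = 0 := by
  apply zmod16_aux
  rw [ZMod.val_natCast]
  obtain ⟨m, rfl⟩ := hd
  omega

/-- complex conjugation on irreducible characters -/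
noncomputable def cj {G : Type*} [Group G] [Finite G] (χ : Cfsg.IrrCharacter G) :
    Cfsg.IrrCharacter G :=
  ⟨fun g => (starRingEnd ℂ) ((χ : G → ℂ) g),
    Cfsg.Agent.Lib.Helper81_CharOrth2.isIrrCharacter_conj χ.2⟩

/-- If a finite group has odd order, its order is congruent to its number of conjugacy classes modulo 16. -/
theorem result {G : Type*} [Group G] [Finite G] (hodd : Odd (Nat.card G)) : Nat.card G ≡ Nat.card (ConjClasses G) [MOD 16] := by
  classical
  haveI := Fintype.ofFinite G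
  haveI := Fintype.ofFinite (Cfsg.IrrCharacter G)
  choose d hd1 hd2 using (exists_degree (G := G))
  have hk : Fintype.card (Cfsg.IrrCharacter G) = Nat.card (ConjClasses G) := by
    rw [← Nat.card_eq_fintype_card]
    exact Cfsg.Agent.Lib.Helper80_CharComplete.card_irr_eq_card_conjClasses
  have hsum : ∑ χ : Cfsg.IrrCharacter G, (d χ) ^ 2 = Nat.card G := by
    have h := Cfsg.Agent.Lib.Helper80_CharComplete.sum_sq_degrees (G := G)
    rw [finsum_eq_sum_of_fintype] at h
    have h2 : ((∑ χ : Cfsg.IrrCharacter G, (d χ) ^ 2 : ℕ) : ℂ) = (Nat.card G : ℂ) := by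
      rw [← h]
      push_cast
      exact Finset.sum_congr rfl fun χ _ => by rw [hd1 χ]
    exact_mod_cast h2
  have hodd_d : ∀ χ, Odd (d χ) := fun χ => Odd.of_dvd_nat hodd (hd2 χ)
  have hdcj : ∀ χ, d (cj χ) = d χ := by
    intro χ
    have h1 := hd1 (cj χ)
    have h2 : ((cj χ : Cfsg.IrrCharacter G) : G → ℂ) 1 = (starRingEnd ℂ) ((χ : G → ℂ) 1) := rfl
    rw [h2, hd1 χ, Complex.conj_natCast] at h1
    exact_mod_cast h1.symm
  have hcjcj : ∀ χ : Cfsg.IrrCharacter G, cj (cj χ) = χ := by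
    intro χ
    apply Subtype.ext
    funext g
    show (starRingEnd ℂ) ((starRingEnd ℂ) ((χ : G → ℂ) g)) = _
    simp
  have hfix : ∀ χ : Cfsg.IrrCharacter G, cj χ = χ → d χ = 1 := by
    intro χ h
    have hreal : ∀ g : G, ((χ : G → ℂ) g).im = 0 := by
      intro g
      have := congrArg (fun ψ : Cfsg.IrrCharacter G => (ψ : G → ℂ) g) h
      exact Complex.conj_eq_iff_im.mp this
    have h1 := Cfsg.Agent.S0161.result hodd χ hreal
    have h2 := hd1 χ
    rw [h1] at h2
    have h3 : ((d χ : ℕ) : ℂ) = ((1 : ℕ) : ℂ) := by rw [← h2]; simp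
    exact_mod_cast h3
  have hzero : ∑ χ : Cfsg.IrrCharacter G, (((d χ : ℕ) : ZMod 16) ^ 2 - 1) = 0 := by
    refine Finset.sum_involution (fun χ _ => cj χ) ?_ ?_ (fun _ _ => Finset.mem_univ _) ?_
    · intro χ _
      rw [hdcj]
      exact odd_sq_aux _ (hodd_d χ)
    · intro χ _ hne heq
      apply hne
      rw [hfix χ heq]
      simp
    · intro χ _
      exact hcjcj χ
  rw [← ZMod.natCast_eq_natCast_iff]
  rw [Finset.sum_sub_distrib, Finset.sum_const, Finset.card_univ, hk, sub_eq_zero] at hzero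
  rw [← hsum]
  push_cast
  rw [hzero]
  simp

end Cfsg.Agent.S0162
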