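import Cfsg.Statements.S0168
import Cfsg.Agent.Lib.Helper3_CharColumn

set_option autoImplicit false
open Cfsg

namespace Cfsg.Agent.S0168

open scoped ComplexConjugate
open Cfsg.Agent.Lib.Helper3_CharEigen Cfsg.Agent.Lib.Helper3_CharOrtho
  Cfsg.Agent.Lib.Helper3_CharColumn

/-- The Burnside–Brauer Theorem. Let χ be the character of a faithful complex representation of a finite group, taking m distinct values. Then every irreducible character has nonzero inner product with χ ^ i for some i < m. -/
theorem result {G : Type*} [Group G] [Fintype G] {V : Type*} [AddCommGroup V] [Module ℂ V] [FiniteDimensional ℂ V] (ρ : Representation ℂ G V) (hfaithful : Function.Injective ρ) (ψ : G → ℂ) (hψ : Cfsg.IsIrrCharacter G ψ) : ∃ i : ℕ, i < Nat.card (Set.range ρ.character) ∧ Cfsg.classInner (fun g => ρ.character g ^ i) ψ ≠ 0 := by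
  classical
  by_contra hcon
  push Not at hcon
  set χ := ρ.character with hχ
  set R : Finset ℂ := Finset.univ.image χ with hR
  set d : ℂ := χ 1 with hd
  have hdR : d ∈ R := Finset.mem_image.mpr ⟨1, Finset.mem_univ _, rfl⟩
  have hm : Nat.card (Set.range χ) = R.card := by
    rw [hR, ← Set.toFinset_range, Nat.card_eq_fintype_card, Set.toFinset_card]
  set P : Polynomial ℂ := Lagrange.basis R id d with hP
  have hinj : Set.InjOn (id : ℂ → ℂ) R := Function.injective_id.injOn
  have hPd : P.eval d = 1 := Lagrange.eval_basis_self hinj hdR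
  have hPa : ∀ a ∈ R, a ≠ d → P.eval a = 0 := fun a ha hne =>
    Lagrange.eval_basis_of_ne (v := id) (Ne.symm hne) ha
  have hdeg : P.natDegree = R.card - 1 := by
    have := Lagrange.degree_basis hinj hdR
    exact Polynomial.natDegree_eq_of_degree_eq_some this
  have hRpos : 0 < R.card := Finset.card_pos.mpr ⟨d, hdR⟩
  -- evaluate the sum in two ways
  have hsum1 : ∑ g : G, P.eval (χ g) * conj (ψ g) = conj (ψ 1) := by
    rw [Finset.sum_eq_single (1 : G)]
    · rw [← hd, hPd, one_mul]
    · intro g _ hg
      have hne : χ g ≠ d := by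
        intro h
        apply hg
        have h1 : ρ g = LinearMap.id :=
          (char_eq_finrank_iff ρ g).mp (h.trans (Representation.char_one ρ))
        apply hfaithful
        rw [h1, map_one]
        rfl
      rw [hPa (χ g) (Finset.mem_image.mpr ⟨g, Finset.mem_univ _, rfl⟩) hne, zero_mul]
    · intro h
      exact absurd (Finset.mem_univ _) h
  have hsum2 : ∑ g : G, P.eval (χ g) * conj (ψ g) = 0 := by
    simp_rw [Polynomial.eval_eq_sum_range, Finset.sum_mul]
    rw [Finset.sum_comm]
    refine Finset.sum_eq_zero (fun i hi => ?_)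
    have hi' : i < Nat.card (Set.range χ) := by
      rw [hm]
      have := Finset.mem_range.mp hi
      omega
    have h1 := hcon i hi'
    rw [Cfsg.classInner, mul_eq_zero] at h1
    have h2 : ∑ g : G, χ g ^ i * conj (ψ g) = 0 :=
      h1.resolve_left (inv_ne_zero card_ne_zero_complex)
    simp_rw [mul_assoc]
    rw [← Finset.mul_sum, h2, mul_zero]
  rw [hsum1] at hsum2
  obtain ⟨n, hn, hn1⟩ := irr_one_eq_natCast hψ
  rw [hn1, Complex.conj_natCast] at hsum2
  have : n = 0 := by exact_mod_cast hsum2
  omega

end Cfsg.Agent.S0168
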