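import Cfsg.Statements.S0171
import Cfsg.Agent.Lib.Helper75_BrauerPerm

set_option autoImplicit false
open Cfsg

namespace Cfsg.Agent.S0171

open Cfsg.Agent.Lib.Helper75_Induced Cfsg.Agent.Lib.Helper75_CharArith
  Cfsg.Agent.Lib.Helper75_IndChar Cfsg.Agent.Lib.Helper75_Clifford
  Cfsg.Agent.Lib.Helper75_BrauerPerm Cfsg.Agent.Lib.Helper3_CharBridge in
/-- Let G = K H with K normal, K ⊓ H trivial, and no non-identity element of H commuting with a non-identity element of K (a Frobenius group with kernel K and complement H). Then every non-principal irreducible character of K induces to an irreducible character of G. -/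
theorem result {G : Type*} [Group G] [Fintype G] (K H : Subgroup G) [K.Normal] (hKH : K ⊓ H = ⊥) (hKH' : K ⊔ H = ⊤) (hfpf : ∀ h ∈ H, h ≠ 1 → ∀ k ∈ K, h * k = k * h → k = 1) (τ : K → ℂ) (hτ : Cfsg.IsIrrCharacter K τ) (hτ1 : τ ≠ fun _ => 1) : Cfsg.IsIrrCharacter G (Cfsg.indFun K τ) := by
  classical
  have hK : K.Normal := inferInstance
  have : Fintype K := Fintype.ofFinite K
  -- a nontrivial element of `H` fixes only the trivial class of `K`
  have hclass : ∀ h ∈ H, h ≠ 1 → ∀ n : K,
      IsConj (⟨h * n * h⁻¹, hK.conj_mem n n.2 h⟩ : K) n → n = 1 := by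
    intro h hh hh1 n hconj
    obtain ⟨a, ha⟩ := isConj_iff.mp hconj.symm
    -- a * n * a⁻¹ = h n h⁻¹ in K
    have ha' : (a : G) * n * (a : G)⁻¹ = h * n * h⁻¹ := congrArg Subtype.val ha
    -- the map b ↦ b h b⁻¹ h⁻¹ on K is injective hence surjective
    let c : K → K := fun b => ⟨(b : G) * (h * (b : G)⁻¹ * h⁻¹),
      K.mul_mem b.2 (hK.conj_mem _ (K.inv_mem b.2) h)⟩
    have hinj : Function.Injective c := by
      intro b b' hbb
      have h1 : (b : G) * (h * (b : G)⁻¹ * h⁻¹) = (b' : G) * (h * (b' : G)⁻¹ * h⁻¹) :=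
        congrArg Subtype.val hbb
      have h2 : h * ((b : G)⁻¹ * (b' : G)) = ((b : G)⁻¹ * (b' : G)) * h := by
        have h3 : (b : G) * h * (b : G)⁻¹ = (b' : G) * h * (b' : G)⁻¹ := by
          have := congrArg (· * h) h1
          simpa [mul_assoc] using this
        calc h * ((b : G)⁻¹ * (b' : G)) = (b : G)⁻¹ * ((b : G) * h * (b : G)⁻¹) * (b' : G) := by group
          _ = (b : G)⁻¹ * ((b' : G) * h * (b' : G)⁻¹) * (b' : G) := by rw [h3]
          _ = ((b : G)⁻¹ * (b' : G)) * h := by group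
      have h4 := hfpf h hh hh1 _ (K.mul_mem (K.inv_mem b.2) b'.2) h2
      ext
      exact (inv_mul_eq_one.mp h4)
    obtain ⟨b, hb⟩ := (Finite.injective_iff_surjective.mp hinj) a⁻¹
    have hb' : (b : G) * (h * (b : G)⁻¹ * h⁻¹) = (a : G)⁻¹ := by
      have := congrArg Subtype.val hb
      simpa using this
    -- so a⁻¹ h = b h b⁻¹
    have h5 : (a : G)⁻¹ * h = (b : G) * h * (b : G)⁻¹ := by
      rw [← hb']; group
    -- a⁻¹ h commutes with n
    have h6 : ((a : G)⁻¹ * h) * n = n * ((a : G)⁻¹ * h) := by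
      have : h * n = (a : G) * n * (a : G)⁻¹ * h := by rw [ha']; group
      calc ((a : G)⁻¹ * h) * n = (a : G)⁻¹ * (h * n) := by group
        _ = (a : G)⁻¹ * ((a : G) * n * (a : G)⁻¹ * h) := by rw [this]
        _ = n * ((a : G)⁻¹ * h) := by group
    rw [h5] at h6
    have h7 : h * ((b : G)⁻¹ * n * (b : G)) = ((b : G)⁻¹ * n * (b : G)) * h := by
      calc h * ((b : G)⁻¹ * n * (b : G)) = (b : G)⁻¹ * (((b : G) * h * (b : G)⁻¹) * n) * (b : G) := by group
        _ = (b : G)⁻¹ * (n * ((b : G) * h * (b : G)⁻¹)) * (b : G) := by rw [h6]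
        _ = ((b : G)⁻¹ * n * (b : G)) * h := by group
    have h8 : (b : G)⁻¹ * n * (b : G) ∈ K := by
      have := hK.conj_mem n n.2 (b : G)⁻¹
      simpa using this
    have h9 := hfpf h hh hh1 _ h8 h7
    ext
    have : (n : G) = (b : G) * ((b : G)⁻¹ * n * (b : G)) * (b : G)⁻¹ := by group
    rw [this, h9]; simp
  -- the inertia group of τ is K
  have hT : ∀ g : G, g ∈ K ↔ conjFun K hK τ g = τ := by
    intro g
    constructor
    · intro hg
      exact conjFun_of_mem K hK (isClassFunction_of_isIrrCharacter hτ) ⟨g, hg⟩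
    · intro hg
      have hgtop : g ∈ K ⊔ H := by rw [hKH']; exact Subgroup.mem_top g
      obtain ⟨k, hk, h, hh, rfl⟩ := Subgroup.mem_sup_of_normal_left.mp hgtop
      rw [← conjFun_conjFun,
        conjFun_of_mem K hK (isClassFunction_of_isIrrCharacter hτ) ⟨k, hk⟩] at hg
      by_cases hh1 : h = 1
      · rw [hh1, mul_one]; exact hk
      · exact absurd (eq_one_of_conjFun_eq K hK h (hclass h hh hh1) hτ hg) hτ1
  apply isIrrCharacter_of_classInner_self
    (isCharacter_indFun K (isCharacter_of_isIrrCharacter hτ))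
  rw [classInner_indFun_self K hK hτ K hT]
  have hK0 : (Nat.card K : ℂ) ≠ 0 := by
    rw [Nat.cast_ne_zero]; exact Nat.card_pos.ne'
  exact inv_mul_cancel₀ hK0

end Cfsg.Agent.S0171
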