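import Cfsg.Statements.S0181
import Mathlib

set_option autoImplicit false
open Cfsg

namespace Cfsg.Agent.S0181

section aux

variable {G : Type*} [Group G] {V : Type*} [AddCommGroup V] [Module ℂ V]

/-- The fixed space of a normal subgroup, as a subrepresentation. -/
def fixedSub (ρ : Representation ℂ G V) (H : Subgroup G) [H.Normal] : Subrepresentation ρ where
  toSubmodule :=
    { carrier := {v | ∀ x ∈ H, ρ x v = v}
      add_mem' := by
        intro a b ha hb x hx
        rw [map_add, ha x hx, hb x hx]
      zero_mem' := by
        intro x _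
        simp
      smul_mem' := by
        intro c a ha x hx
        rw [map_smul, ha x hx] }
  apply_mem_toSubmodule := by
    intro g v hv x hx
    have h1 : g⁻¹ * x * g ∈ H := by
      have := ‹H.Normal›.conj_mem x hx g⁻¹
      simpa using this
    have h2 := hv _ h1
    have h3 : ρ x (ρ g v) = ρ g (ρ (g⁻¹ * x * g) v) := by
      rw [← Module.End.mul_apply, ← Module.End.mul_apply, ← map_mul, ← map_mul]
      congr 2
      group
    rw [h3, h2]

theorem mem_fixedSub (ρ : Representation ℂ G V) (H : Subgroup G) [H.Normal] (v : V) :
    v ∈ (fixedSub ρ H).toSubmodule ↔ ∀ x ∈ H, ρ x v = v := Iff.rfl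

end aux

/-- If H is a normal subgroup on which ρ acts non-trivially and only the identity of H commutes with g, then the character of the irreducible representation ρ is 0 at g. -/
theorem result {G : Type*} [Group G] [Finite G] {V : Type*} [AddCommGroup V] [Module ℂ V] [FiniteDimensional ℂ V] (ρ : Representation ℂ G V) [ρ.IsIrreducible] (H : Subgroup G) [H.Normal] (hker : ∃ h ∈ H, ρ h ≠ LinearMap.id) (g : G) (hg : ∀ h ∈ H, h * g = g * h → h = 1) : ρ.character g = 0 := by
  classical
  cases nonempty_fintype G
  -- Step 1: the averaging operator over `H` vanishes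
  have hfix : fixedSub ρ H = ⊥ := by
    rcases eq_bot_or_eq_top (fixedSub ρ H) with h | h
    · exact h
    · exfalso
      obtain ⟨x, hx, hne⟩ := hker
      apply hne
      ext v
      have hv : v ∈ (fixedSub ρ H).toSubmodule := by
        rw [h]; trivial
      exact hv x hx
  have he : ∑ x : H, ρ (x : G) = 0 := by
    ext v
    have hv : (∑ x : H, ρ (x : G)) v ∈ (fixedSub ρ H).toSubmodule := by
      intro y hy
      rw [LinearMap.sum_apply, map_sum]
      refine Fintype.sum_bijective (fun x : H => (⟨y, hy⟩ : H) * x)
        (Group.mulLeft_bijective _) _ _ (fun x => ?_)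
      rw [← Module.End.mul_apply, ← map_mul]
      rfl
    rw [hfix] at hv
    exact hv
  -- Step 2: every element of the coset `g H` is conjugate to `g`
  have hconj : ∀ x : H, ρ.character (g * x) = ρ.character g := by
    let ψ : H → H := fun h => ⟨g⁻¹ * h * g * (h : G)⁻¹, by
      have h1 : g⁻¹ * (h : G) * g ∈ H := by
        have := ‹H.Normal›.conj_mem h h.2 g⁻¹
        simpa using this
      exact H.mul_mem h1 (H.inv_mem h.2)⟩
    have hψinj : Function.Injective ψ := by
      intro a b hab
      have h1 : g⁻¹ * (a : G) * g * (a : G)⁻¹ = g⁻¹ * (b : G) * g * (b : G)⁻¹ :=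
        congrArg Subtype.val hab
      have h2 : ((b : G)⁻¹ * (a : G)) * g = g * ((b : G)⁻¹ * (a : G)) := by
        have h3 : (a : G) * g * (a : G)⁻¹ = (b : G) * g * (b : G)⁻¹ := by
          have := congrArg (fun t => g * t) h1
          simpa [mul_assoc] using this
        calc ((b : G)⁻¹ * (a : G)) * g = (b : G)⁻¹ * ((a : G) * g * (a : G)⁻¹) * (a : G) := by group
          _ = (b : G)⁻¹ * ((b : G) * g * (b : G)⁻¹) * (a : G) := by rw [h3]
          _ = g * ((b : G)⁻¹ * (a : G)) := by group
      have h4 := hg ((b : G)⁻¹ * (a : G)) (H.mul_mem (H.inv_mem b.2) a.2) h2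
      apply Subtype.ext
      have : (a : G) = (b : G) := by
        have := congrArg (fun t => (b : G) * t) h4
        simpa [mul_assoc] using this
      exact this
    have hψsurj : Function.Surjective ψ := Finite.surjective_of_injective hψinj
    intro x
    obtain ⟨h, hh⟩ := hψsurj x
    have h1 : g * (x : G) = (h : G) * g * (h : G)⁻¹ := by
      have : (x : G) = g⁻¹ * (h : G) * g * (h : G)⁻¹ := (congrArg Subtype.val hh).symm
      rw [this]
      group
    rw [h1, Representation.char_conj]
  -- Step 3: sum up
  have hsum : ∑ x : H, ρ.character (g * x) = 0 := by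
    have : ∑ x : H, ρ.character (g * x) =
        LinearMap.trace ℂ V (ρ g * ∑ x : H, ρ (x : G)) := by
      rw [Finset.mul_sum, map_sum]
      refine Finset.sum_congr rfl (fun x _ => ?_)
      rw [Representation.character, map_mul]
    rw [this, he, mul_zero, map_zero]
  simp_rw [hconj] at hsum
  rw [Finset.sum_const, Finset.card_univ, nsmul_eq_mul] at hsum
  rcases mul_eq_zero.mp hsum with h | h
  · exfalso
    have : (Fintype.card H : ℂ) ≠ 0 := by
      exact_mod_cast Fintype.card_ne_zero
    exact this h
  · exact h

end Cfsg.Agent.S0181
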