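import Cfsg.Statements.S0184
import Cfsg.Agent.Lib.Helper32_PGroup
import Cfsg.Agent.Lib.Helper80_CharComplete
import Cfsg.Agent.Lib.Helper79_ClassAlgebra

set_option autoImplicit false
open Cfsg

namespace Cfsg.Agent.S0184

open Cfsg.Agent.Lib.Helper32_PGroup Cfsg.Agent.Lib.Helper80_CharBasic
  Cfsg.Agent.Lib.Helper80_CharComplete Cfsg.Agent.Lib.Helper79_ClassAlgebra

open scoped ComplexConjugate

section Schur

variable {G : Type*} [Group G] {V : Type*} [AddCommGroup V] [Module ℂ V] [FiniteDimensional ℂ V]
  (ρ : Representation ℂ G V) [ρ.IsIrreducible]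

/-- Schur: a central element acts as a scalar in an irreducible complex representation. -/
theorem exists_scalar (z : G) (hz : z ∈ Subgroup.center G) :
    ∃ c : ℂ, ρ z = c • (1 : Module.End ℂ V) := by
  obtain ⟨c, hc⟩ :=
    (Representation.IsIrreducible.algebraMap_intertwiningMap_bijective_of_isAlgClosed
      (ρ := ρ)).2 (Representation.IntertwiningMap.centralMul ρ z hz)
  refine ⟨c, ?_⟩
  have h := congrArg Representation.IntertwiningMap.toLinearMap hc
  rw [Representation.IntertwiningMap.algebraMap_apply] at h
  exact h.symm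

include ρ in
theorem one_ne_zero_end : (1 : Module.End ℂ V) ≠ 0 := by
  intro h
  have h1 := finrank_ne_zero_of_irreducible ρ
  apply h1
  have h2 := congrArg (LinearMap.trace ℂ V) h
  rw [LinearMap.trace_one, map_zero] at h2
  exact h2

/-- The scalar by which a central element acts. -/
noncomputable def scalar (z : Subgroup.center G) : ℂ := Classical.choose (exists_scalar ρ z.1 z.2)

theorem scalar_spec (z : Subgroup.center G) : ρ z.1 = scalar ρ z • (1 : Module.End ℂ V) :=
  Classical.choose_spec (exists_scalar ρ z.1 z.2)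

/-- The central character as a monoid homomorphism to `ℂ`. -/
noncomputable def scalarHom : Subgroup.center G →* ℂ where
  toFun := scalar ρ
  map_one' := by
    have h := scalar_spec ρ 1
    rw [Subgroup.coe_one, map_one] at h
    have h2 : (1 : ℂ) • (1 : Module.End ℂ V) = scalar ρ 1 • (1 : Module.End ℂ V) := by
      rw [one_smul]; exact h
    exact (smul_left_injective ℂ (one_ne_zero_end ρ) h2).symm
  map_mul' a b := by
    have h := scalar_spec ρ (a * b)
    rw [Subgroup.coe_mul, map_mul, scalar_spec ρ a, scalar_spec ρ b, smul_mul_smul_comm,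
      mul_one] at h
    exact (smul_left_injective ℂ (one_ne_zero_end ρ) h).symm

theorem scalarHom_injective (hρ : Function.Injective ρ) : Function.Injective (scalarHom ρ) := by
  intro a b hab
  apply Subtype.ext
  apply hρ
  rw [scalar_spec ρ a, scalar_spec ρ b]
  change scalar ρ a = scalar ρ b at hab
  rw [hab]

end Schur

theorem mem_zpowers_of_orderOf_eq_prime {Z : Type*} [Group Z] [Finite Z] [IsCyclic Z] {p : ℕ}
    (hp : p.Prime) {a b : Z} (ha : orderOf a = p) (hb : orderOf b = p) :
    a ∈ Subgroup.zpowers b := by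
  classical
  haveI := Fintype.ofFinite Z
  by_contra hab
  have h1 := IsCyclic.card_pow_eq_one_le (α := Z) hp.pos
  have h2 : insert a ((Finset.univ : Finset Z).filter (· ∈ Subgroup.zpowers b)) ⊆
      Finset.univ.filter (fun x => x ^ p = 1) := by
    intro x hx
    rw [Finset.mem_insert] at hx
    simp only [Finset.mem_filter, Finset.mem_univ, true_and] at hx ⊢
    rcases hx with rfl | hx
    · rw [← ha]; exact pow_orderOf_eq_one _
    · obtain ⟨k, rfl⟩ := hx
      rw [← zpow_natCast, ← zpow_mul, mul_comm, zpow_mul, zpow_natCast, ← hb, pow_orderOf_eq_one,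
        one_zpow]
  have h3 := Finset.card_le_card h2
  rw [Finset.card_insert_of_notMem (by simpa using hab)] at h3
  have h4 : ((Finset.univ : Finset Z).filter (· ∈ Subgroup.zpowers b)).card = p := by
    rw [← hb, ← Nat.card_zpowers, Nat.card_eq_fintype_card, Fintype.card_subtype]
  omega


/-- A finite p-group admits a faithful irreducible complex representation if and only if its centre is cyclic. -/
theorem result {G : Type*} [Group G] [Finite G] (p : ℕ) [Fact p.Prime] (hG : IsPGroup p G) : (∃ (n : ℕ) (ρ : Representation ℂ G (Fin n → ℂ)), ρ.IsIrreducible ∧ Function.Injective ρ) ↔ IsCyclic (Subgroup.center G) := by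
  constructor
  · rintro ⟨n, ρ, hirr, hinj⟩
    haveI := hirr
    exact isCyclic_of_injective_ringHom (scalarHom ρ) (scalarHom_injective ρ hinj)
  · intro hcyc
    by_cases htriv : Subsingleton G
    · exact ⟨1, Representation.trivial ℂ G (Fin 1 → ℂ),
        isIrreducible_of_finrank_eq_one _ (by simp), Function.injective_of_subsingleton _⟩
    · rw [not_subsingleton_iff_nontrivial] at htriv
      haveI := htriv
      haveI : Nontrivial (Subgroup.center G) := hG.center_nontrivial
      have hZp : IsPGroup p (Subgroup.center G) := hG.to_subgroup _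
      obtain ⟨k, hk0, hk⟩ := hZp.nontrivial_iff_card.mp inferInstance
      have hdvd : p ∣ Nat.card (Subgroup.center G) := hk ▸ dvd_pow_self _ hk0.ne'
      obtain ⟨z₀, hz₀⟩ := exists_prime_orderOf_dvd_card' p hdvd
      have hp : p.Prime := Fact.out
      have hz₀1 : (z₀ : G) ≠ 1 := by
        intro h
        have h1 : z₀ = 1 := Subtype.ext h
        rw [h1, orderOf_one] at hz₀
        exact hp.one_lt.ne hz₀
      obtain ⟨χ, hχ⟩ : ∃ χ : IrrCharacter G, (χ : G → ℂ) z₀ ≠ (χ : G → ℂ) 1 := by
        classical
        haveI := Fintype.ofFinite G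
        haveI := Fintype.ofFinite (IrrCharacter G)
        by_contra hall
        push Not at hall
        have h1 := second_orthogonality_sum (z₀ : G) (1 : G)
        rw [if_neg (by rw [isConj_one_left]; exact hz₀1)] at h1
        have h2 := second_orthogonality_sum (1 : G) (1 : G)
        rw [if_pos (IsConj.refl _)] at h2
        simp only [hall] at h1
        rw [h1] at h2
        have h3 : (Nat.card (Subgroup.centralizer ({1} : Set G)) : ℂ) ≠ 0 := by
          exact_mod_cast Nat.card_pos.ne'
        exact h3 h2.symm
      obtain ⟨n, ρ, hirr, hρχ⟩ := χ.2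
      refine ⟨n, ρ, hirr, ?_⟩
      rw [← MonoidHom.ker_eq_bot_iff]
      by_contra hN
      have hK := normal_inf_center_ne_bot hG (MonoidHom.ker ρ) hN
      have hKp : IsPGroup p ↥(MonoidHom.ker ρ ⊓ Subgroup.center G) := hG.to_subgroup _
      haveI : Nontrivial ↥(MonoidHom.ker ρ ⊓ Subgroup.center G) :=
        (Subgroup.nontrivial_iff_ne_bot _).mpr hK
      obtain ⟨k', hk0', hk'⟩ := hKp.nontrivial_iff_card.mp inferInstance
      have hdvd' : p ∣ Nat.card ↥(MonoidHom.ker ρ ⊓ Subgroup.center G) :=
        hk' ▸ dvd_pow_self _ hk0'.ne'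
      obtain ⟨m, hm⟩ := exists_prime_orderOf_dvd_card' p hdvd'
      -- `m` as an element of the centre
      let m' : Subgroup.center G := ⟨m.1, m.2.2⟩
      have hm' : orderOf m' = p := by
        rw [← hm, ← Subgroup.orderOf_coe m', ← Subgroup.orderOf_coe m]
      have hmem := mem_zpowers_of_orderOf_eq_prime hp hz₀ hm'
      obtain ⟨j, hj⟩ := Subgroup.mem_zpowers_iff.1 hmem
      have hz₀ker : (z₀ : G) ∈ MonoidHom.ker ρ := by
        rw [← hj]
        have : ((m' ^ j : Subgroup.center G) : G) = (m.1 : G) ^ j := by
          simp [m']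
        rw [this]
        exact Subgroup.zpow_mem _ m.2.1 j
      rw [MonoidHom.mem_ker] at hz₀ker
      apply hχ
      rw [← hρχ]
      unfold Representation.character
      rw [hz₀ker, map_one ρ]

end Cfsg.Agent.S0184
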