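import Mathlib
import Cfsg.Statements.S0186
import Cfsg.Agent.Lib.Helper4_RepComm
import Cfsg.Agent.Lib.Helper78_CentralChar

set_option autoImplicit false
open Cfsg

namespace Cfsg.Agent.S0186

open Cfsg.Agent.Lib.Helper3_RepDecomp Cfsg.Agent.Lib.Helper3_CharDegree
  Cfsg.Agent.Lib.Helper4_RepComm Cfsg.Agent.Lib.Helper78_CentralChar
  Cfsg.Agent.Lib.Helper3_CharColumn Cfsg.Agent.Lib.Helper3_CharOrtho
  Cfsg.Agent.Lib.Helper3_CharComplete Cfsg.Agent.Lib.Helper3_CharBridge

/-- In a simple group with a nonabelian Sylow `p`-subgroup, every irreducible representation is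
trivial or has degree at least `p + 1`. -/
theorem degree_ge {G : Type*} [Group G] [Finite G] [IsSimpleGroup G] (p : ℕ) [Fact p.Prime]
    (P : Sylow p G) (a b : G) (ha : a ∈ P) (hb : b ∈ P) (hab : a * b ≠ b * a)
    {V : Type*} [AddCommGroup V] [Module ℂ V] [FiniteDimensional ℂ V]
    (ρ : Representation ℂ G V) [ρ.IsIrreducible] :
    (∀ g, ρ g = 1) ∨ p + 1 ≤ Module.finrank ℂ V := by
  classical
  have hp : p.Prime := Fact.out
  have hK : (MonoidHom.ker ρ).Normal := MonoidHom.normal_ker ρ
  rcases hK.eq_bot_or_eq_top with h | h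
  · right
    have hinj : Function.Injective ρ := (MonoidHom.ker_eq_bot_iff ρ).mp h
    let σ : Representation ℂ P V := MonoidHom.comp ρ (P : Subgroup G).subtype
    have hσ : ∀ x : P, σ x = ρ (x : G) := fun x => rfl
    have hσinj : Function.Injective σ := hinj.comp Subtype.val_injective
    have hne : commSub σ ≠ ⊤ := by
      intro htop
      rw [commSub_eq_top_iff] at htop
      have h1 := hσinj (htop ⟨a, ha⟩ ⟨b, hb⟩)
      exact hab (congrArg Subtype.val h1)
    obtain ⟨U, hU, W, hW, hirr, h1⟩ := exists_irreducible_sub_finrank_ne_one σ hne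
    have := hirr
    have : Fintype P := Fintype.ofFinite P
    have hdvd : Module.finrank ℂ W ∣ Nat.card P := finrank_dvd_card (subRep (subRep σ U hU) W hW)
    obtain ⟨k, hk⟩ := IsPGroup.iff_card.mp P.isPGroup'
    rw [hk] at hdvd
    obtain ⟨j, hj, hjeq⟩ := (Nat.dvd_prime_pow hp).mp hdvd
    have hj0 : j ≠ 0 := by
      rintro rfl
      exact h1 (by simpa using hjeq)
    have hpW : p ≤ Module.finrank ℂ W := by rw [hjeq]; exact Nat.le_self_pow hj0 p
    have hWV : Module.finrank ℂ W ≤ Module.finrank ℂ V :=
      (Submodule.finrank_le W).trans (Submodule.finrank_le U)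
    by_contra hlt
    have hWeq : Module.finrank ℂ W = Module.finrank ℂ V := by omega
    let ι : W →ₗ[ℂ] V := U.subtype ∘ₗ W.subtype
    have hιinj : Function.Injective ι :=
      (Submodule.subtype_injective U).comp (Submodule.subtype_injective W)
    have hιsurj : Function.Surjective ι :=
      (LinearMap.injective_iff_surjective_of_finrank_eq_finrank hWeq).mp hιinj
    have hnt : Nontrivial P := ⟨⟨⟨a, ha⟩, ⟨b, hb⟩, fun hh => hab (by
      have : a = b := congrArg Subtype.val hh
      rw [this])⟩⟩
    have hcnt : Nontrivial (Subgroup.center P) := IsPGroup.center_nontrivial P.isPGroup'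
    obtain ⟨⟨z, hz⟩, hz1⟩ := exists_ne (1 : Subgroup.center P)
    have hz1' : z ≠ 1 := fun hh => hz1 (Subtype.ext hh)
    set τ := subRep (subRep σ U hU) W hW with hτ
    obtain ⟨c, hc⟩ := exists_scalar_of_commute τ (τ z) (fun g => by
      rw [← Module.End.mul_eq_comp, ← Module.End.mul_eq_comp, ← map_mul, ← map_mul,
        Subgroup.mem_center_iff.mp hz g])
    have hρz : ρ (z : G) = c • LinearMap.id := by
      apply LinearMap.ext
      intro v
      obtain ⟨w, rfl⟩ := hιsurj v
      have h2 := congrArg (fun T : W →ₗ[ℂ] W => ι (T w)) hc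
      simp only [LinearMap.smul_apply, LinearMap.id_coe, id_eq, map_smul] at h2
      rw [LinearMap.smul_apply, LinearMap.id_apply, ← h2]
      rfl
    have hzG : (z : G) ∈ Subgroup.center G := by
      rw [Subgroup.mem_center_iff]
      intro g
      apply hinj
      rw [map_mul, map_mul, hρz]
      apply LinearMap.ext
      intro v
      simp
    have hcen : Subgroup.center G = ⊥ := by
      rcases (inferInstance : (Subgroup.center G).Normal).eq_bot_or_eq_top with h | h
      · exact h
      · exfalso
        apply hab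
        have hmem : a ∈ Subgroup.center G := h ▸ Subgroup.mem_top a
        exact (Subgroup.mem_center_iff.mp hmem b).symm
    rw [hcen, Subgroup.mem_bot] at hzG
    exact hz1' (Subtype.ext hzG)
  · left
    intro g
    have : g ∈ MonoidHom.ker ρ := h ▸ Subgroup.mem_top g
    exact MonoidHom.mem_ker.mp this

/-- Let G be a finite simple group of order n and p a prime dividing n. If G has more than n / p^2 conjugacy classes, then every Sylow p-subgroup of G is abelian. -/
theorem result {G : Type*} [Group G] [Finite G] [IsSimpleGroup G] (p : ℕ) [Fact p.Prime] (hp : p ∣ Nat.card G) (hmany : Nat.card G < p ^ 2 * Nat.card (ConjClasses G)) (P : Sylow p G) (a b : G) (ha : a ∈ P) (hb : b ∈ P) : a * b = b * a := by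
  classical
  by_contra hab
  have hpr : p.Prime := Fact.out
  have : Fintype G := Fintype.ofFinite G
  have hdeg : ∀ χ : IrrCharacter G, ∃ d : ℕ, (χ : G → ℂ) 1 = (d : ℂ) ∧
      ((χ : G → ℂ) = 1 ∨ p + 1 ≤ d) := by
    intro χ
    obtain ⟨n, ρ, hirr, hχ⟩ := χ.2
    have := hirr
    refine ⟨Module.finrank ℂ (Fin n → ℂ), ?_, ?_⟩
    · rw [← hχ]; exact Representation.char_one ρ
    · rcases degree_ge p P a b ha hb hab ρ with h | h
      · left
        have hconst : ∀ g, ρ.character g = (Module.finrank ℂ (Fin n → ℂ) : ℂ) := by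
          intro g
          rw [Representation.character, h g]
          exact LinearMap.trace_one ℂ (Fin n → ℂ)
        have hself := classInner_self_of_isIrrCharacter χ.2
        rw [← hχ, Cfsg.classInner] at hself
        simp_rw [hconst] at hself
        rw [Finset.sum_const, Finset.card_univ, nsmul_eq_mul, Complex.conj_natCast,
          ← Nat.card_eq_fintype_card] at hself
        have hG : (Nat.card G : ℂ) ≠ 0 := card_ne_zero_complex
        have h2 : ((Module.finrank ℂ (Fin n → ℂ) * Module.finrank ℂ (Fin n → ℂ) : ℕ) : ℂ) = 1 := by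
          push_cast
          field_simp at hself
          linear_combination hself
        have h3 : Module.finrank ℂ (Fin n → ℂ) * Module.finrank ℂ (Fin n → ℂ) = 1 := by
          exact_mod_cast h2
        have h4 : Module.finrank ℂ (Fin n → ℂ) = 1 := by nlinarith
        rw [← hχ]
        funext g
        rw [hconst g, h4]
        simp
      · right; exact h
  choose d hd1 hd2 using hdeg
  have hsum : ∑ χ : IrrCharacter G, (d χ) ^ 2 = Nat.card G := by
    have h1 := sum_sq_irr_one (G := G)
    simp_rw [hd1] at h1
    exact_mod_cast h1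
  have hk : Fintype.card (IrrCharacter G) = Nat.card (ConjClasses G) := by
    rw [← Nat.card_eq_fintype_card]; exact card_irr_eq_card_conjClasses
  set S := Finset.univ.filter (fun χ : IrrCharacter G => (χ : G → ℂ) ≠ 1) with hSdef
  have hS : Fintype.card (IrrCharacter G) ≤ S.card + 1 := by
    have h0 : S.card + (Finset.univ.filter
        (fun χ : IrrCharacter G => ¬ (χ : G → ℂ) ≠ 1)).card = Finset.univ.card :=
      Finset.card_filter_add_card_filter_not (s := Finset.univ)
        (fun χ : IrrCharacter G => (χ : G → ℂ) ≠ 1)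
    have h1 : (Finset.univ.filter (fun χ : IrrCharacter G => ¬ (χ : G → ℂ) ≠ 1)).card ≤ 1 := by
      rw [Finset.card_le_one]
      intro x hx y hy
      simp only [ne_eq, not_not, Finset.mem_filter, Finset.mem_univ, true_and] at hx hy
      exact Subtype.ext (hx.trans hy.symm)
    rw [Finset.card_univ] at h0
    omega
  have hlow : S.card * (p + 1) ^ 2 ≤ ∑ χ : IrrCharacter G, d χ ^ 2 := by
    calc S.card * (p + 1) ^ 2 = ∑ χ ∈ S, (p + 1) ^ 2 := by simp
      _ ≤ ∑ χ ∈ S, d χ ^ 2 := Finset.sum_le_sum (fun χ hχ => by
          have hne : (χ : G → ℂ) ≠ 1 := (Finset.mem_filter.mp hχ).2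
          rcases hd2 χ with h | h
          · exact absurd h hne
          · exact Nat.pow_le_pow_left h 2)
      _ ≤ ∑ χ : IrrCharacter G, d χ ^ 2 :=
          Finset.sum_le_sum_of_subset (Finset.subset_univ _)
  have hP3 : p ^ 3 ≤ Nat.card G := by
    obtain ⟨k, hk⟩ := IsPGroup.iff_card.mp P.isPGroup'
    have hk3 : 3 ≤ k := by
      by_contra hlt
      apply hab
      have hcomm : ∀ x y : P, x * y = y * x := by
        have hk' : k = 0 ∨ k = 1 ∨ k = 2 := by omega
        rcases hk' with rfl | rfl | rfl
        · have : Subsingleton P := (Nat.card_eq_one_iff_unique.mp (by simpa using hk)).1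
          intro x y
          rw [Subsingleton.elim x y]
        · have : IsCyclic P := isCyclic_of_prime_card (p := p) (by simpa using hk)
          intro x y
          exact IsCyclic.isMulCommutative.is_comm.comm x y
        · have := IsPGroup.isMulCommutative_of_card_eq_prime_sq (p := p) hk
          intro x y
          exact this.is_comm.comm x y
      exact congrArg Subtype.val (hcomm ⟨a, ha⟩ ⟨b, hb⟩)
    calc p ^ 3 ≤ p ^ k := Nat.pow_le_pow_right hpr.pos hk3
      _ = Nat.card P := hk.symm
      _ ≤ Nat.card G := Nat.le_of_dvd Nat.card_pos (Subgroup.card_subgroup_dvd_card _)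
  rw [hsum] at hlow
  rw [hk] at hS
  generalize Nat.card (ConjClasses G) = k at *
  generalize Nat.card G = n at *
  generalize S.card = s at *
  have hpk : p < k := by
    have : p ^ 2 * p < p ^ 2 * k := by
      calc p ^ 2 * p = p ^ 3 := by ring
        _ ≤ n := hP3
        _ < p ^ 2 * k := hmany
    exact Nat.lt_of_mul_lt_mul_left this
  have hsp : p ≤ s := by omega
  have h5 : s * (p + 1) ^ 2 < p ^ 2 * (s + 1) :=
    calc s * (p + 1) ^ 2 ≤ n := hlow
      _ < p ^ 2 * k := hmany
      _ ≤ p ^ 2 * (s + 1) := Nat.mul_le_mul_left _ hS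
  nlinarith

end Cfsg.Agent.S0186
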