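import Cfsg.Statements.S0187
import Cfsg.Agent.Lib.Helper3_CharColumn

set_option autoImplicit false
open Cfsg

namespace Cfsg.Agent.S0187

open Cfsg.Agent.Lib.Helper3_CharColumn Cfsg.Agent.Lib.Helper3_CharComplete
  Cfsg.Agent.Lib.Helper3_CharOrtho

/-- commutativity in terms of the class number -/
theorem comm_iff_card {G : Type*} [Group G] [Finite G] :
    (∀ a b : G, a * b = b * a) ↔ Nat.card (ConjClasses G) = Nat.card G := by
  have hpos : (0 : ℚ) < (Nat.card G : ℚ) := by exact_mod_cast Nat.card_pos
  have h1 : commProb G = 1 ↔ IsMulCommutative G := commProb_eq_one_iff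
  rw [commProb_def', div_eq_one_iff_eq hpos.ne'] at h1
  have h2 : ((Nat.card (ConjClasses G) : ℚ) = (Nat.card G : ℚ)) ↔
      Nat.card (ConjClasses G) = Nat.card G := Nat.cast_inj
  rw [← h2, h1]
  constructor
  · intro h
    exact ⟨⟨h⟩⟩
  · intro h a b
    exact h.is_comm.comm a b

/-- A finite group is commutative if and only if every irreducible complex character has degree 1. -/
theorem result {G : Type*} [Group G] [Finite G] : (∀ a b : G, a * b = b * a) ↔ ∀ χ : Cfsg.IrrCharacter G, (χ : G → ℂ) 1 = 1 := by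
  classical
  have : Fintype G := Fintype.ofFinite G
  rw [comm_iff_card, ← card_irr_eq_card_conjClasses]
  -- degrees as naturals
  choose d hdpos hd using fun χ : Cfsg.IrrCharacter G => irr_one_eq_natCast χ.2
  have hsum : ∑ χ : Cfsg.IrrCharacter G, (d χ) ^ 2 = Nat.card G := by
    have h := sum_sq_irr_one (G := G)
    simp_rw [hd] at h
    exact_mod_cast h
  rw [Nat.card_eq_fintype_card (α := Cfsg.IrrCharacter G), ← hsum]
  constructor
  · intro h χ
    rw [hd]
    -- sum of (d^2 - 1) = 0
    have h1 : ∑ χ : Cfsg.IrrCharacter G, ((d χ) ^ 2 - 1) = 0 := by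
      have h2 : ∑ χ : Cfsg.IrrCharacter G, (d χ) ^ 2 =
          ∑ χ : Cfsg.IrrCharacter G, (((d χ) ^ 2 - 1) + 1) := by
        refine Finset.sum_congr rfl (fun ψ _ => ?_)
        have := hdpos ψ
        have : 1 ≤ (d ψ) ^ 2 := Nat.one_le_pow _ _ this
        omega
      rw [Finset.sum_add_distrib, Finset.sum_const, Finset.card_univ, smul_eq_mul, mul_one] at h2
      omega
    have h3 := (Finset.sum_eq_zero_iff.mp h1) χ (Finset.mem_univ χ)
    have h4 : (d χ) ^ 2 ≤ 1 := by omega
    have h5 : d χ ≤ 1 := by
      by_contra hlt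
      have : 2 ≤ d χ := by omega
      nlinarith
    have := hdpos χ
    have : d χ = 1 := by omega
    rw [this]; simp
  · intro h
    have : ∀ χ : Cfsg.IrrCharacter G, d χ = 1 := by
      intro χ
      have := h χ
      rw [hd] at this
      exact_mod_cast this
    simp only [this, one_pow, Finset.sum_const, Finset.card_univ, smul_eq_mul, mul_one]

end Cfsg.Agent.S0187
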