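import Cfsg.Statements.S0189
import Cfsg.Agent.Lib.Helper75_CharArith
import Cfsg.Agent.Lib.Helper80_CharBasic

set_option autoImplicit false
open Cfsg

namespace Cfsg.Agent.S0189

open Cfsg.Agent.Lib.Helper75_CharArith Cfsg.Agent.Lib.Helper3_CharBridge

/-- If a complex character of a finite group vanishes at every non-identity element of a Sylow p-subgroup P, then |P| divides its degree. -/
theorem result {G : Type*} [Group G] [Finite G] (p : ℕ) [Fact p.Prime] (P : Sylow p G) (χ : G → ℂ) (hχ : Cfsg.IsCharacter G χ) (hvan : ∀ g : G, g ∈ P → g ≠ 1 → χ g = 0) : ∃ k : ℕ, χ 1 = (Nat.card P : ℂ) * k := by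
  classical
  have : Fintype (P : Subgroup G) := Fintype.ofFinite _
  have h1 : Cfsg.IsCharacter (P : Subgroup G) (fun h : (P : Subgroup G) => χ h) :=
    isCharacter_restrict (P : Subgroup G) hχ
  have h2 : Cfsg.IsCharacter (P : Subgroup G) (fun _ => (1 : ℂ)) :=
    isCharacter_of_isIrrCharacter (Cfsg.Agent.Lib.Helper80_CharBasic.isIrrCharacter_one _)
  obtain ⟨k, hk⟩ := classInner_isCharacter_nat h1 h2
  refine ⟨k, ?_⟩
  unfold Cfsg.classInner at hk
  have hsum : ∑ g : (P : Subgroup G), χ g * (starRingEnd ℂ) (1 : ℂ) = χ 1 := by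
    rw [Finset.sum_eq_single (1 : (P : Subgroup G))]
    · simp
    · intro b _ hb
      have : χ (b : G) = 0 := hvan b b.2 (by
        intro h
        apply hb
        ext
        exact h)
      rw [this, zero_mul]
    · intro h
      exact absurd (Finset.mem_univ _) h
  rw [hsum] at hk
  have hne : (Nat.card (P : Subgroup G) : ℂ) ≠ 0 := by
    exact_mod_cast (Nat.card_pos (α := (P : Subgroup G))).ne'
  field_simp at hk
  rw [hk]

end Cfsg.Agent.S0189
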