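import Cfsg.Statements.S0192
import Cfsg.Agent.Lib.Helper3_CharOrtho
import Cfsg.Agent.Lib.Helper80_CharBasic

set_option autoImplicit false
open Cfsg

namespace Cfsg.Agent.S0192

open Cfsg.Agent.Lib.Helper3_CharOrtho

/-- The restriction of a representation to a subgroup. -/
def resRep {G V : Type*} [Group G] [AddCommGroup V] [Module ℂ V] (ρ : Representation ℂ G V)
    (H : Subgroup G) : Representation ℂ H V :=
  MonoidHom.comp ρ H.subtype

/-- The fixed space of a subgroup `H` in a representation of `G`. -/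
noncomputable def fixedSpace {G V : Type*} [Group G] [AddCommGroup V] [Module ℂ V] (ρ : Representation ℂ G V)
    (H : Subgroup G) : Submodule ℂ V :=
  Representation.invariants (resRep ρ H)

theorem mem_fixedSpace {G V : Type*} [Group G] [AddCommGroup V] [Module ℂ V]
    (ρ : Representation ℂ G V) (H : Subgroup G) (v : V) :
    v ∈ fixedSpace ρ H ↔ ∀ h ∈ H, ρ h v = v := by
  unfold fixedSpace
  rw [Representation.mem_invariants]
  constructor
  · intro h g hg
    exact h ⟨g, hg⟩
  · intro h g
    exact h g.1 g.2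

/-- the multiplicity of the principal character in the restriction is the dimension of the
fixed space -/
theorem classInner_res_one {G V : Type*} [Group G] [AddCommGroup V] [Module ℂ V]
    [FiniteDimensional ℂ V] (ρ : Representation ℂ G V) (H : Subgroup G) [Fintype H] :
    Cfsg.classInner (fun x : H => ρ.character x) (fun _ => 1) =
      (Module.finrank ℂ (fixedSpace ρ H) : ℂ) := by
  have : Invertible (Nat.card H : ℂ) := invertibleOfNonzero card_ne_zero_complex
  have h := Representation.card_inv_mul_sum_char_eq_finrank (resRep ρ H)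
  unfold Cfsg.classInner fixedSpace
  rw [← h]
  congr 1
  refine Finset.sum_congr rfl (fun x _ => ?_)
  simp [Representation.character, resRep]

theorem fixedSpace_inf_le {G V : Type*} [Group G] [AddCommGroup V] [Module ℂ V]
    (ρ : Representation ℂ G V) (H₁ H₂ : Subgroup G) (htop : H₁ ⊔ H₂ = ⊤) :
    fixedSpace ρ H₁ ⊓ fixedSpace ρ H₂ ≤ fixedSpace ρ ⊤ := by
  intro v hv
  rw [Submodule.mem_inf, mem_fixedSpace, mem_fixedSpace] at hv
  rw [mem_fixedSpace]
  -- the stabilizer of v
  let S : Subgroup G :=
    { carrier := {g | ρ g v = v}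
      mul_mem' := by
        intro a b ha hb
        show ρ (a * b) v = v
        rw [map_mul, Module.End.mul_apply, hb, ha]
      one_mem' := by
        show ρ 1 v = v
        rw [map_one, Module.End.one_apply]
      inv_mem' := by
        intro a ha
        show ρ a⁻¹ v = v
        have ha' : ρ a v = v := ha
        calc ρ a⁻¹ v = ρ a⁻¹ (ρ a v) := by rw [ha']
          _ = (ρ a⁻¹ * ρ a) v := rfl
          _ = v := by rw [← map_mul, inv_mul_cancel, map_one, Module.End.one_apply] }
  have h1 : H₁ ≤ S := fun g hg => hv.1 g hg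
  have h2 : H₂ ≤ S := fun g hg => hv.2 g hg
  have h3 : (⊤ : Subgroup G) ≤ S := htop ▸ sup_le h1 h2
  intro g hg
  exact h3 hg

/-- Brauer's generation criterion. Let G be a finite simple group, H₁ and H₂ subgroups, and χ a non-principal irreducible character. If the multiplicity of the principal character in χ restricted to H₁ ⊓ H₂ is less than the sum of the corresponding multiplicities for H₁ and H₂, then H₁ and H₂ do not generate G. -/
theorem result {G : Type*} [Group G] [Fintype G] [IsSimpleGroup G] (H₁ H₂ : Subgroup G) [Fintype H₁] [Fintype H₂] [Fintype ↥(H₁ ⊓ H₂)] (χ : G → ℂ) (hχ : Cfsg.IsIrrCharacter G χ) (hχ1 : χ ≠ fun _ => 1) (hlt : (Cfsg.classInner (fun x : ↥(H₁ ⊓ H₂) => χ x) (fun _ => 1)).re < (Cfsg.classInner (fun x : H₁ => χ x) (fun _ => 1)).re + (Cfsg.classInner (fun x : H₂ => χ x) (fun _ => 1)).re) : H₁ ⊔ H₂ ≠ ⊤ := by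
  classical
  intro htop
  have hχ' := hχ
  obtain ⟨n, ρ, hρ, rfl⟩ := hχ
  rw [classInner_res_one ρ (H₁ ⊓ H₂), classInner_res_one ρ H₁, classInner_res_one ρ H₂] at hlt
  simp only [Complex.natCast_re] at hlt
  -- fixed space of the whole group is trivial
  have htriv : fixedSpace ρ ⊤ = ⊥ := by
    have : Fintype (⊤ : Subgroup G) := Fintype.ofFinite _
    have h1 := classInner_res_one ρ (⊤ : Subgroup G)
    have h2 : Cfsg.classInner (fun x : (⊤ : Subgroup G) => ρ.character x) (fun _ => 1) =
        Cfsg.classInner ρ.character (fun _ => 1) := by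
      unfold Cfsg.classInner
      rw [Subgroup.card_top]
      congr 1
      exact Fintype.sum_equiv (Subgroup.topEquiv (G := G)).toEquiv _ _ (fun x => rfl)
    rw [h2, classInner_of_isIrrCharacter_of_ne hχ'
      (Cfsg.Agent.Lib.Helper80_CharBasic.isIrrCharacter_one G) hχ1] at h1
    have h3 : Module.finrank ℂ (fixedSpace ρ ⊤) = 0 := by exact_mod_cast h1.symm
    exact Submodule.finrank_eq_zero.mp h3
  have hinf : fixedSpace ρ H₁ ⊓ fixedSpace ρ H₂ = ⊥ := by
    rw [eq_bot_iff, ← htriv]
    exact fixedSpace_inf_le ρ H₁ H₂ htop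
  have hsup : fixedSpace ρ H₁ ⊔ fixedSpace ρ H₂ ≤ fixedSpace ρ (H₁ ⊓ H₂) := by
    apply sup_le
    · intro v hv
      rw [mem_fixedSpace] at hv ⊢
      exact fun h hh => hv h hh.1
    · intro v hv
      rw [mem_fixedSpace] at hv ⊢
      exact fun h hh => hv h hh.2
  have hdim := Submodule.finrank_sup_add_finrank_inf_eq (fixedSpace ρ H₁) (fixedSpace ρ H₂)
  rw [hinf, finrank_bot, add_zero] at hdim
  have hle := Submodule.finrank_mono hsup
  rw [hdim] at hle
  have : ((Module.finrank ℂ (fixedSpace ρ H₁) + Module.finrank ℂ (fixedSpace ρ H₂) : ℕ) : ℝ) ≤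
      (Module.finrank ℂ (fixedSpace ρ (H₁ ⊓ H₂)) : ℝ) := by exact_mod_cast hle
  push_cast at this
  linarith

end Cfsg.Agent.S0192
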