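import Cfsg.Statements.S0196
import Mathlib

set_option autoImplicit false
open Cfsg

namespace Cfsg.Agent.S0196

/-- If all stabilizers have the same index `m`, then `m` divides the size of the set. -/
theorem dvd_card_of_stabilizer_index {N X : Type*} [Group N] [Finite N] [MulAction N X]
    [Finite X] (m : ℕ)
    (h : ∀ x : X, (MulAction.stabilizer N x).index = m) : m ∣ Nat.card X := by
  classical
  have : Fintype (Quotient (MulAction.orbitRel N X)) := Fintype.ofFinite _
  rw [Nat.card_congr (MulAction.selfEquivSigmaOrbitsQuotientStabilizer N X)]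
  rw [Nat.card_sigma]
  have : ∀ ω : Quotient (MulAction.orbitRel N X),
      Nat.card (N ⧸ MulAction.stabilizer N ω.out) = m := fun ω => h ω.out
  simp only [this, Finset.sum_const, smul_eq_mul]
  exact dvd_mul_left _ _

/-- The conjugation action of the normalizer of `A` on the non-identity elements of `A`. -/
abbrev conjAction {G : Type*} [Group G] (A : Subgroup G) :
    MulAction (Subgroup.normalizer (A : Set G)) {x : G // x ∈ A ∧ x ≠ 1} where
  smul n x := ⟨n.1 * x.1 * n.1⁻¹, (Subgroup.mem_normalizer_iff.mp n.2 x.1).mp x.2.1, by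
    intro h
    apply x.2.2
    have : x.1 = n.1⁻¹ * (n.1 * x.1 * n.1⁻¹) * n.1 := by group
    rw [this, h]; group⟩
  one_smul x := by
    apply Subtype.ext
    show (1 : G) * x.1 * (1 : G)⁻¹ = x.1
    group
  mul_smul a b x := by
    apply Subtype.ext
    show (a.1 * b.1) * x.1 * (a.1 * b.1)⁻¹ = a.1 * (b.1 * x.1 * b.1⁻¹) * a.1⁻¹
    group

theorem card_nonidentity {G : Type*} [Group G] [Finite G] (A : Subgroup G) :
    Nat.card {x : G // x ∈ A ∧ x ≠ 1} = Nat.card A - 1 := by
  classical
  have e : Option {x : G // x ∈ A ∧ x ≠ 1} ≃ A :=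
    { toFun := fun o => match o with
        | none => 1
        | some x => ⟨x.1, x.2.1⟩
      invFun := fun a => if h : a.1 = 1 then none else some ⟨a.1, a.2, h⟩
      left_inv := by
        intro o
        match o with
        | none => simp
        | some x =>
          have : x.1 ≠ 1 := x.2.2
          simp [this]
      right_inv := by
        intro a
        by_cases h : a.1 = 1
        · simp only [h, dite_true]
          ext; exact h.symm
        · simp only [h, dite_false] }
  rw [← Nat.card_congr e, Finite.card_option]
  omega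

/-- Let A be a subgroup of a finite group G that equals the centralizer of each of its non-identity elements, and let N be its normalizer. Then the index of A in N divides |A| − 1 (N/A permutes the non-identity elements of A in orbits of full length). -/
theorem result {G : Type*} [Group G] [Finite G] (A : Subgroup G) (hA : ∀ x ∈ A, x ≠ 1 → Subgroup.centralizer ({x} : Set G) = A) : (A.subgroupOf (Subgroup.normalizer (A : Set G))).index ∣ Nat.card A - 1 := by
  rw [← card_nonidentity A]
  let _ := conjAction A
  apply dvd_card_of_stabilizer_index (N := Subgroup.normalizer (A : Set G))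
  intro x
  congr 1
  ext n
  rw [MulAction.mem_stabilizer_iff, Subgroup.mem_subgroupOf]
  have hsmul : n • x = ⟨n.1 * x.1 * n.1⁻¹, (Subgroup.mem_normalizer_iff.mp n.2 x.1).mp x.2.1, by
    intro h
    apply x.2.2
    have : x.1 = n.1⁻¹ * (n.1 * x.1 * n.1⁻¹) * n.1 := by group
    rw [this, h]; group⟩ := rfl
  rw [hsmul, Subtype.ext_iff]
  simp only
  have hmem : (n.1 ∈ A) ↔ n.1 ∈ Subgroup.centralizer ({x.1} : Set G) := by
    rw [hA x.1 x.2.1 x.2.2]
  rw [hmem, Subgroup.mem_centralizer_iff]
  simp only [Set.mem_singleton_iff, forall_eq]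
  constructor
  · intro h
    calc x.1 * n.1 = (n.1 * x.1 * n.1⁻¹) * n.1 := by rw [h]
      _ = n.1 * x.1 := by group
  · intro h
    calc n.1 * x.1 * n.1⁻¹ = (x.1 * n.1) * n.1⁻¹ := by rw [h]
      _ = x.1 := by group

end Cfsg.Agent.S0196
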