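import Cfsg.Statements.S0197
import Cfsg.Agent.Lib.Helper6_GL23Defs
import Cfsg.Agent.Lib.Helper58_GL23_LOCA
import Cfsg.Agent.Lib.Helper63_GL23_LOCB
import Cfsg.Agent.Lib.Helper42_GL23_FUS
import Cfsg.Agent.Lib.Helper91_GL23_EQS
import Cfsg.Agent.Lib.Helper8_GL23_DATAEQ
import Cfsg.Agent.Lib.Helper31_GL23_ARITH
import Cfsg.Agent.Lib.Helper6_GL23_DATA
import Cfsg.Agent.Lib.Helper25_INV_Common
import Cfsg.Agent.Lib.Helper30_ThreePQ

set_option autoImplicit false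
open Cfsg

namespace Cfsg.Agent.S0197

open Cfsg.Agent.Lib.Helper80_CharBasic Cfsg.Agent.Lib.Helper6_GL23Defs
open Cfsg.Agent.Lib.Helper58_GL23_LOCA Cfsg.Agent.Lib.Helper63_GL23_LOCB Cfsg.Agent.Lib.Helper42_GL23_FUS
open Cfsg.Agent.Lib.Helper91_GL23_EQS Cfsg.Agent.Lib.Helper8_GL23_DATAEQ Cfsg.Agent.Lib.Helper31_GL23_ARITH
open Cfsg.Agent.Lib.Helper6_GL23_DATA

theorem result {G : Type*} [Group G] [Finite G] [IsSimpleGroup G] (t : G) (ht : orderOf t = 2) (e : Subgroup.centralizer ({t} : Set G) ≃* Matrix.GeneralLinearGroup (Fin 2) (ZMod 3)) : Nat.card G = 5616 ∨ Nat.card G = 7920 := by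
  classical
  obtain ⟨hA1, hA2, hA3, hA4, hA5, hA6, hA7, hA8⟩ := loc_a t ht e
  obtain ⟨hB1, hB2, hB3, hB4, hB5⟩ := loc_b t ht e
  have hloc : Loc G t (aG t e) (sG t e) :=
    ⟨ht, hA1, hA2, hA3, hA4, hA5, hA6, hA7, hA8, hB1, hB2, hB3, hB4, hB5⟩
  -- G is perfect
  have hperf : commutator G = ⊤ := by
    apply Cfsg.Agent.Lib.Helper25_INV_Common.perfect_of_not_prime
    intro hp
    have h48 : 48 ∣ Nat.card G := by
      rw [← hA5]; exact Subgroup.card_subgroup_dvd_card _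
    rcases (Nat.dvd_prime hp).mp h48 with h1 | h1
    · omega
    · rw [← h1] at hp; norm_num at hp
  have hinv := inv_conj hloc
  obtain ⟨D⟩ := exists_data hloc
  obtain ⟨h1, h2⟩ := eqs hloc hinv
  obtain ⟨e1, e2⟩ := dataeq D h1 h2
  have hσ : ∀ j, D.σ j * D.σ j = 1 := by
    intro j; rcases D.hσ j with h | h <;> rw [h] <;> norm_num
  have hne : ∀ j, D.σ j * (D.d j : ℤ) ≠ 0 := by
    intro j
    have hd := D.d_pos j
    rcases D.hσ j with h | h <;> rw [h] <;> omega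
  have key := arith (D.σ 2 * (D.d 2 : ℤ)) (D.σ 3 * (D.d 3 : ℤ)) (Nat.card G) (hne 2) (hne 3)
    (by rw [← D.deg0]; exact hne 0)
    (by
      rw [← D.deg0]
      intro h01
      -- X 0 is linear
      have hd0 : D.d 0 = 1 := by
        have hd := D.d_pos 0
        rcases D.hσ 0 with h | h <;> rw [h] at h01 <;> omega
      apply D.X_ne 0
      apply Cfsg.Agent.Lib.Helper30_ThreePQ.eq_one_of_linear hperf
      rw [D.X_one 0, hd0]; norm_num)
    (by rw [← D.deg1]; exact hne 1)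
    (by
      have h5 : D.σ 2 * (D.d 2 : ℤ) + 5 = D.σ 1 * ((D.d 1 : ℤ) + 6 * D.σ 1) := by
        have := D.deg1
        have h11 := hσ 1
        linear_combination (-1 : ℤ) * this - (6 : ℤ) * h11
      rw [h5]
      exact Dvd.dvd.mul_left D.cong _)
    (by push_cast; exact e1)
    (by push_cast; exact e2)
  exact key

end Cfsg.Agent.S0197
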