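import Cfsg.Statements.S0198
import Cfsg.Agent.S1514
import Cfsg.Agent.Lib.Helper80_CharBasic
-- import your own Cfsg.Agent.* helpers here

set_option autoImplicit false
open Cfsg

namespace Cfsg.Agent.S0198

open Cfsg.Agent.Lib.Helper3_CharOrtho Cfsg.Agent.S1514

/-- Two differences of irreducible characters with inner product 1 share exactly one side. -/
theorem share {G : Type*} [Group G] [Fintype G] {x y x' y' : G → ℂ}
    (hx : IsIrrCharacter G x) (hy : IsIrrCharacter G y) (hx' : IsIrrCharacter G x')
    (hy' : IsIrrCharacter G y') (hxy : x ≠ y) (hxy' : x' ≠ y')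
    (h : classInner (x - y) (x' - y') = 1) :
    (x = x' ∧ y ≠ y') ∨ (y = y' ∧ x ≠ x') := by
  classical
  rw [classInner_sub_left, classInner_sub_right', classInner_sub_right', classInner_irr hx hx',
    classInner_irr hx hy', classInner_irr hy hx', classInner_irr hy hy'] at h
  by_cases h1 : x = x'
  · left
    refine ⟨h1, fun h4 => ?_⟩
    have hB : ¬ x = y' := fun e => hxy (e.trans h4.symm)
    have hC : ¬ y = x' := fun e => hxy (h1.trans e.symm)
    rw [if_pos h1, if_neg hB, if_neg hC, if_pos h4] at h
    norm_num at h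
  · right
    refine ⟨?_, h1⟩
    by_contra h4
    rw [if_neg h1, if_neg h4] at h
    split_ifs at h <;> norm_num at h

/-- The isometry lemma behind exceptional characters. Let τ be a family of generalized characters of a finite group G indexed by Fin n, with τ i₀ = 0, every τ i vanishing at the identity, and inner products ⟨τ i, τ j⟩ = 2 if i = j and 1 otherwise for i, j ≠ i₀. Then there are a sign ε and pairwise distinct irreducible characters μ i with τ i = ε (μ i − μ i₀) for all i. -/
theorem result {G : Type*} [Group G] [Fintype G] (n : ℕ) (i₀ : Fin n) (τ : Fin n → (G → ℂ)) (h0 : τ i₀ = 0) (hgen : ∀ i, Cfsg.IsGeneralizedCharacter G (τ i)) (hone : ∀ i, τ i 1 = 0) (hgram : ∀ i j, i ≠ i₀ → j ≠ i₀ → Cfsg.classInner (τ i) (τ j) = if i = j then 2 else 1) : ∃ ε : ℂ, (ε = 1 ∨ ε = -1) ∧ ∃ μ : Fin n → (G → ℂ), (∀ i, Cfsg.IsIrrCharacter G (μ i)) ∧ Function.Injective μ ∧ ∀ i, τ i = ε • (μ i - μ i₀) := by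
  classical
  have hdata : ∀ i, i ≠ i₀ → ∃ x y : G → ℂ, IsIrrCharacter G x ∧ IsIrrCharacter G y ∧ x ≠ y ∧
      τ i = x - y := by
    intro i hi
    apply norm_two (τ i) (hgen i) _ (hone i)
    have := hgram i i hi hi
    simpa using this
  choose! x y hx hy hxy hτ using hdata
  have hpair : ∀ i j, i ≠ i₀ → j ≠ i₀ → i ≠ j →
      (x i = x j ∧ y i ≠ y j) ∨ (y i = y j ∧ x i ≠ x j) := by
    intro i j hi hj hij
    apply share (hx i hi) (hy i hi) (hx j hj) (hy j hj) (hxy i hi) (hxy j hj)
    rw [← hτ i hi, ← hτ j hj, hgram i j hi hj, if_neg hij]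
  by_cases hA : ∃ i j, i ≠ i₀ ∧ j ≠ i₀ ∧ i ≠ j ∧ x i = x j
  · obtain ⟨i, j, hi, hj, hij, hxij⟩ := hA
    have hyij : y i ≠ y j := by
      rcases hpair i j hi hj hij with h | h
      · exact h.2
      · exact absurd hxij h.2
    have hall : ∀ k, k ≠ i₀ → x k = x i := by
      intro k hk
      by_cases hki : k = i
      · rw [hki]
      rcases hpair k i hk hi hki with h | h
      · exact h.1
      · exfalso
        by_cases hkj : k = j
        · rw [hkj] at h; exact h.2 hxij.symm
        rcases hpair k j hk hj hkj with h' | h'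
        · exact h.2 (h'.1.trans hxij.symm)
        · exact hyij (h.1.symm.trans h'.1)
    refine ⟨-1, Or.inr rfl, fun k => if k = i₀ then x i else y k, ?_, ?_, ?_⟩
    · intro k
      by_cases hk : k = i₀
      · simp only [if_pos hk]; exact hx i hi
      · simp only [if_neg hk]; exact hy k hk
    · intro k l hkl
      by_contra hne
      by_cases hk : k = i₀
      · have hl : l ≠ i₀ := fun e => hne (hk.trans e.symm)
        simp only [if_pos hk, if_neg hl] at hkl
        exact hxy l hl ((hall l hl).trans hkl)
      · by_cases hl : l = i₀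
        · simp only [if_neg hk, if_pos hl] at hkl
          exact hxy k hk ((hall k hk).trans hkl.symm)
        · simp only [if_neg hk, if_neg hl] at hkl
          rcases hpair k l hk hl hne with h | h
          · exact h.2 hkl
          · exact h.2 ((hall k hk).trans (hall l hl).symm)
    · intro k
      by_cases hk : k = i₀
      · subst hk; simp [h0]
      · simp only [if_neg hk, if_true]
        rw [hτ k hk, hall k hk]
        ext g
        simp
  · push Not at hA
    have hys : ∀ i j, i ≠ i₀ → j ≠ i₀ → y i = y j := by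
      intro i j hi hj
      by_cases hij : i = j
      · rw [hij]
      rcases hpair i j hi hj hij with h | h
      · exact absurd h.1 (hA i j hi hj hij)
      · exact h.1
    obtain ⟨b, hb, hbk⟩ : ∃ b : G → ℂ, IsIrrCharacter G b ∧ ∀ k, k ≠ i₀ → y k = b := by
      by_cases hex : ∃ i, i ≠ i₀
      · obtain ⟨i, hi⟩ := hex
        exact ⟨y i, hy i hi, fun k hk => hys k i hk hi⟩
      · push Not at hex
        exact ⟨fun _ => 1, Cfsg.Agent.Lib.Helper80_CharBasic.isIrrCharacter_one G,
          fun k hk => absurd (hex k) hk⟩
    refine ⟨1, Or.inl rfl, fun k => if k = i₀ then b else x k, ?_, ?_, ?_⟩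
    · intro k
      by_cases hk : k = i₀
      · simp only [if_pos hk]; exact hb
      · simp only [if_neg hk]; exact hx k hk
    · intro k l hkl
      by_contra hne
      by_cases hk : k = i₀
      · have hl : l ≠ i₀ := fun e => hne (hk.trans e.symm)
        simp only [if_pos hk, if_neg hl] at hkl
        exact hxy l hl (hkl.symm.trans (hbk l hl).symm)
      · by_cases hl : l = i₀
        · simp only [if_neg hk, if_pos hl] at hkl
          exact hxy k hk (hkl.trans (hbk k hk).symm)
        · simp only [if_neg hk, if_neg hl] at hkl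
          exact hA k l hk hl hne hkl
    · intro k
      by_cases hk : k = i₀
      · subst hk; simp [h0]
      · simp only [if_neg hk, if_true]
        rw [hτ k hk, hbk k hk, one_smul]

end Cfsg.Agent.S0198
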