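import Mathlib
import Cfsg.Statements.S0200
import Cfsg.Agent.S0199

set_option autoImplicit false
open Cfsg

namespace Cfsg.Agent.S0200

/-- If `t` is an involution and `o(t * u)` is a power of two then `⟨t⟩ ⊔ ⟨u⟩` is a 2-group. -/
theorem isPGroup_sup_of_orderOf_mul {G : Type*} [Group G] [Finite G] (t u : G)
    (ht : orderOf t = 2) (hu : orderOf u = 2) (k : ℕ) (hk : orderOf (t * u) = 2 ^ k) :
    IsPGroup 2 ↥(Subgroup.zpowers t ⊔ Subgroup.zpowers u) := by
  have : Fact (Nat.Prime 2) := ⟨Nat.prime_two⟩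
  have htt : t * t = 1 := by
    have := pow_orderOf_eq_one t
    rw [ht, pow_two] at this
    exact this
  have huu : u * u = 1 := by
    have := pow_orderOf_eq_one u
    rw [hu, pow_two] at this
    exact this
  have htinv : t⁻¹ = t := inv_eq_of_mul_eq_one_left htt
  have huinv : u⁻¹ = u := inv_eq_of_mul_eq_one_left huu
  have h1 : IsPGroup 2 ↥(Subgroup.zpowers t) := by
    apply IsPGroup.of_card (n := 1)
    rw [Nat.card_zpowers, ht, pow_one]
  have h2 : IsPGroup 2 ↥(Subgroup.zpowers (t * u)) := by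
    apply IsPGroup.of_card (n := k)
    rw [Nat.card_zpowers, hk]
  have hconj : t * (t * u) * t⁻¹ = (t * u)⁻¹ := by
    rw [mul_inv_rev, htinv, huinv, ← mul_assoc t t u, htt, one_mul]
  have key : ∀ x : G, x ∈ Subgroup.zpowers (t * u) → t * x * t⁻¹ ∈ Subgroup.zpowers (t * u) := by
    intro x hx
    obtain ⟨n, rfl⟩ := Subgroup.mem_zpowers_iff.mp hx
    have : t * (t * u) ^ n * t⁻¹ = ((t * u)⁻¹) ^ n := by
      have h := map_zpow (MulAut.conj t) (t * u) n
      rw [MulAut.conj_apply, MulAut.conj_apply] at h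
      rw [h, hconj]
    rw [this]
    exact Subgroup.zpow_mem _ (Subgroup.inv_mem _ (Subgroup.mem_zpowers _)) n
  have hnorm : Subgroup.zpowers t ≤ Subgroup.normalizer (Subgroup.zpowers (t * u) : Set G) := by
    rw [Subgroup.zpowers_le]
    rw [Subgroup.mem_normalizer_iff]
    intro x
    constructor
    · exact key x
    · intro hx
      have := key _ hx
      have e : t * (t * x * t⁻¹) * t⁻¹ = x := by
        rw [htinv]
        calc t * (t * x * t) * t = (t * t) * x * (t * t) := by simp only [mul_assoc]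
          _ = x := by rw [htt, one_mul, mul_one]
      rwa [e] at this
  have h3 := IsPGroup.to_sup_of_normal_right' h1 h2 hnorm
  refine h3.to_le ?_
  rw [sup_le_iff]
  refine ⟨le_sup_left, ?_⟩
  rw [Subgroup.zpowers_le]
  have m1 : t ∈ Subgroup.zpowers t ⊔ Subgroup.zpowers (t * u) :=
    (le_sup_left : Subgroup.zpowers t ≤ _) (Subgroup.mem_zpowers t)
  have m2 : t * u ∈ Subgroup.zpowers t ⊔ Subgroup.zpowers (t * u) :=
    (le_sup_right : Subgroup.zpowers (t * u) ≤ _) (Subgroup.mem_zpowers _)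
  have m3 := Subgroup.mul_mem _ (Subgroup.inv_mem _ m1) m2
  rwa [inv_mul_cancel_left] at m3

/-- An involution lying in no normal 2-subgroup of a finite group inverts a nontrivial element of odd order (a consequence of the Baer–Suzuki Theorem). -/
theorem result {G : Type*} [Group G] [Finite G] (t : G) (ht : orderOf t = 2) (hO : ∀ N : Subgroup G, N.Normal → IsPGroup 2 N → t ∉ N) : ∃ h : G, h ≠ 1 ∧ Odd (orderOf h) ∧ t * h * t⁻¹ = h⁻¹ := by
  have : Fact (Nat.Prime 2) := ⟨Nat.prime_two⟩
  have htt : t * t = 1 := by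
    have := pow_orderOf_eq_one t
    rw [ht, pow_two] at this
    exact this
  have htinv : t⁻¹ = t := inv_eq_of_mul_eq_one_left htt
  have hX : IsPGroup 2 ↥(Subgroup.zpowers t) := by
    apply IsPGroup.of_card (n := 1)
    rw [Nat.card_zpowers, ht, pow_one]
  -- Baer–Suzuki gives a conjugate with which `t` does not generate a 2-group
  have hex : ∃ g : G, ¬ IsPGroup 2 ↥(Subgroup.zpowers t ⊔ (Subgroup.zpowers t).map (MulAut.conj g).toMonoidHom) := by
    by_contra hcon
    simp only [not_exists, not_not] at hcon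
    obtain ⟨N, hN, hNp, hle⟩ := Cfsg.Agent.S0199.result (p := 2) (Subgroup.zpowers t) hX hcon
    exact hO N hN hNp (hle (Subgroup.mem_zpowers t))
  obtain ⟨g, hg⟩ := hex
  set u : G := g * t * g⁻¹ with hu_def
  have hmap : (Subgroup.zpowers t).map (MulAut.conj g).toMonoidHom = Subgroup.zpowers u := by
    rw [MonoidHom.map_zpowers]
    simp [MulAut.conj_apply, hu_def]
  rw [hmap] at hg
  have hu : orderOf u = 2 := by
    have : u = MulAut.conj g t := by simp [MulAut.conj_apply, hu_def]
    rw [this, MulEquiv.orderOf_eq, ht]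
  have huu : u * u = 1 := by
    have := pow_orderOf_eq_one u
    rw [hu, pow_two] at this
    exact this
  have huinv : u⁻¹ = u := inv_eq_of_mul_eq_one_left huu
  -- the order of `t * u` is not a power of two
  have hne : orderOf (t * u) ≠ 0 := (orderOf_pos (t * u)).ne'
  obtain ⟨k, m, hm, hkm⟩ := Nat.exists_eq_two_pow_mul_odd hne
  have hm1 : m ≠ 1 := by
    rintro rfl
    rw [mul_one] at hkm
    exact hg (isPGroup_sup_of_orderOf_mul t u ht hu k hkm)
  have hconj : t * (t * u) * t⁻¹ = (t * u)⁻¹ := by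
    rw [mul_inv_rev, htinv, huinv, ← mul_assoc t t u, htt, one_mul]
  refine ⟨(t * u) ^ (2 ^ k), ?_, ?_, ?_⟩
  · intro h1
    have hdvd : orderOf (t * u) ∣ 2 ^ k := orderOf_dvd_of_pow_eq_one h1
    rw [hkm] at hdvd
    have hm_dvd : m ∣ 2 ^ k := Dvd.dvd.trans (Dvd.intro_left _ rfl) hdvd
    have hcop : Nat.Coprime m (2 ^ k) := (Nat.Coprime.pow_right k hm.coprime_two_right)
    exact hm1 (hcop.eq_one_of_dvd hm_dvd)
  · have hpos : (2 : ℕ) ^ k ≠ 0 := by positivity
    rw [orderOf_pow' _ hpos, hkm]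
    have hcop : Nat.Coprime m (2 ^ k) := (Nat.Coprime.pow_right k hm.coprime_two_right)
    have : Nat.gcd (2 ^ k * m) (2 ^ k) = 2 ^ k := by
      apply Nat.gcd_eq_right
      exact Dvd.intro _ rfl
    rw [this, Nat.mul_div_cancel_left _ (by positivity)]
    exact hm
  · have h := map_pow (MulAut.conj t) (t * u) (2 ^ k)
    rw [MulAut.conj_apply, MulAut.conj_apply] at h
    rw [h, hconj, inv_pow]

end Cfsg.Agent.S0200
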