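import Cfsg.Statements.S0203
import Cfsg.Agent.Lib.Helper4_KleinSylow

set_option autoImplicit false
open Cfsg

namespace Cfsg.Agent.S0203

open Cfsg.Agent.Lib.Helper4_KleinSylow

/-- If a Sylow 2-subgroup P of a finite group G is a Klein four-group, then G has three classes of involutions if and only if P has a normal complement in G. -/
theorem result {G : Type*} [Group G] [Finite G] (P : Sylow 2 G) (hP : IsKleinFour (P : Subgroup G)) : Nat.card {C : ConjClasses G // ∃ t : G, orderOf t = 2 ∧ ConjClasses.mk t = C} = 3 ↔ ∃ N : Subgroup G, N.Normal ∧ Subgroup.IsComplement' N (P : Subgroup G) := by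
  constructor
  · intro h3
    -- no fusion
    have hnf : ∀ x ∈ (P : Subgroup G), ∀ y ∈ (P : Subgroup G), IsConj x y → x = y := by
      rcases fusion_dichotomy P hP with h | ⟨a, b, ha, hb, hab, hconj⟩
      · exact h
      · have h1 := card_invClasses_of_fusion P hP a b ha hb hab hconj
        have h3' : Nat.card (InvClasses G) = 3 := h3
        omega
    have hNC : Subgroup.normalizer ((P : Subgroup G) : Set G) ≤
        Subgroup.centralizer ((P : Subgroup G) : Set G) := by
      intro n hn
      rw [Subgroup.mem_centralizer_iff]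
      intro x hx
      have hx' : x ∈ (P : Subgroup G) := hx
      have h1 : n * x * n⁻¹ ∈ (P : Subgroup G) := (Subgroup.mem_normalizer_iff.mp hn x).mp hx'
      have h2 := hnf x hx' _ h1 (isConj_iff.mpr ⟨n, rfl⟩)
      calc x * n = n * x * n⁻¹ * n := by rw [← h2]
        _ = n * x := by group
    exact ⟨_, MonoidHom.normal_ker _, MonoidHom.ker_transferSylow_isComplement' P hNC⟩
  · rintro ⟨N, hN, hc⟩
    have hidx : N.index = 2 ^ 2 := by
      rw [hc.symm.index_eq_card, klein_card P hP]; norm_num
    have hcomm : IsMulCommutative (G ⧸ N) :=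
      IsPGroup.isMulCommutative_of_card_eq_prime_sq (p := 2) hidx
    have hnf : ∀ x ∈ (P : Subgroup G), ∀ y ∈ (P : Subgroup G), IsConj x y → x = y := by
      intro x hx y hy hxy
      obtain ⟨g, hg⟩ := isConj_iff.mp hxy
      have h1 : ((y : G) : G ⧸ N) = ((x : G) : G ⧸ N) := by
        rw [← hg, QuotientGroup.mk_mul, QuotientGroup.mk_mul, QuotientGroup.mk_inv]
        rw [hcomm.is_comm.comm ((g : G) : G ⧸ N) ((x : G) : G ⧸ N), mul_assoc,
          mul_inv_cancel, mul_one]
      have h2 : y⁻¹ * x ∈ N := QuotientGroup.eq.mp h1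
      have h3 : y⁻¹ * x ∈ (P : Subgroup G) := Subgroup.mul_mem _ (Subgroup.inv_mem _ hy) hx
      have h4 : y⁻¹ * x ∈ N ⊓ (P : Subgroup G) := ⟨h2, h3⟩
      rw [hc.disjoint.eq_bot, Subgroup.mem_bot] at h4
      have := congrArg (fun w => y * w) h4
      simpa using this
    exact card_invClasses_of_no_fusion P hP hnf

end Cfsg.Agent.S0203
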