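import Cfsg.Statements.S0210
import Cfsg.Agent.Lib.Helper4_InvPairs
import Cfsg.Agent.Lib.Helper4_Dihedral

set_option autoImplicit false
open Cfsg

namespace Cfsg.Agent.S0210

open Cfsg.Agent.Lib.Helper4_InvPairs Cfsg.Agent.Lib.Helper4_Dihedral

/-- If x, y are involutions whose product has even order, no element of the subgroup generated by x and y conjugates x to y. -/
theorem result {G : Type*} [Group G] [Finite G] (x y : G) (hx : orderOf x = 2) (hy : orderOf y = 2) (heven : Even (orderOf (x * y))) (d : G) (hd : d ∈ Subgroup.closure ({x, y} : Set G)) : d * x * d⁻¹ ≠ y := by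
  have hx2 := mul_self_of_orderOf_two hx
  have hy2 := mul_self_of_orderOf_two hy
  have hyeq : y = (x * y) ^ (-1 : ℤ) * x := by
    rw [zpow_neg, zpow_one]; exact y_eq hx2 hy2
  intro hdx
  have hex : ∃ d ∈ Subgroup.closure ({x, y} : Set G), d * x * d⁻¹ = (x * y) ^ (-1 : ℤ) * x :=
    ⟨d, hd, hdx.trans hyeq⟩
  rw [conj_x_eq_iff hx2 hy2] at hex
  obtain ⟨k, hk⟩ := hex
  obtain ⟨m, hm⟩ := heven
  rw [hm] at hk
  have := hk.dvd
  push_cast at this
  have h2 : (2 : ℤ) ∣ -1 - 2 * k := Dvd.dvd.trans ⟨(m : ℤ), by ring⟩ this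
  omega

end Cfsg.Agent.S0210
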