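import Cfsg.Statements.S0211
import Cfsg.Agent.Lib.Helper4_InvPairs
import Cfsg.Agent.Lib.Helper4_Dihedral
import Cfsg.Agent.S0209

set_option autoImplicit false
open Cfsg

namespace Cfsg.Agent.S0211

open Cfsg.Agent.Lib.Helper4_InvPairs Cfsg.Agent.Lib.Helper4_Dihedral

/-- Let x, y be involutions with xy of even order n and z = (xy)^(n/2). Then xz is conjugate to x by an element of the subgroup generated by x, y if and only if 4 divides n. -/
theorem result {G : Type*} [Group G] [Finite G] (x y : G) (hx : orderOf x = 2) (hy : orderOf y = 2) (heven : Even (orderOf (x * y))) : (∃ d ∈ Subgroup.closure ({x, y} : Set G), d * x * d⁻¹ = x * (x * y) ^ (orderOf (x * y) / 2)) ↔ 4 ∣ orderOf (x * y) := by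
  have hx2 := mul_self_of_orderOf_two hx
  have hy2 := mul_self_of_orderOf_two hy
  obtain ⟨-, hcomm, -⟩ := Cfsg.Agent.S0209.result x y hx hy heven
  have e : x * (x * y) ^ (orderOf (x * y) / 2) =
      (x * y) ^ ((orderOf (x * y) / 2 : ℕ) : ℤ) * x := by
    rw [zpow_natCast]; exact hcomm.eq.symm
  rw [e, conj_x_eq_iff hx2 hy2]
  obtain ⟨m, hm⟩ := heven
  rw [hm]
  have h2 : (m + m) / 2 = m := by omega
  rw [h2]
  constructor
  · rintro ⟨k, hk⟩
    have := hk.dvd
    push_cast at this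
    have h2 : (2 : ℤ) ∣ (m : ℤ) - 2 * k := Dvd.dvd.trans ⟨(m : ℤ), by ring⟩ this
    omega
  · intro h4
    obtain ⟨j, hj⟩ : 2 ∣ m := by omega
    refine ⟨j, ?_⟩
    rw [hj]
    push_cast
    exact Int.ModEq.refl _ |>.trans (by rw [Int.modEq_iff_dvd]; exact ⟨0, by ring⟩)

end Cfsg.Agent.S0211
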