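import Mathlib
import Cfsg.Statements.S0233
import Cfsg.Agent.Lib.Helper52_Involutions

set_option autoImplicit false
open Cfsg
open Cfsg.Agent.Lib.Helper52_Involutions

namespace Cfsg.Agent.S0233

/-- the number of involutions, in the two forms used. -/
theorem natCard_involutions {G : Type*} [Group G] [Fintype G] [DecidableEq G] :
    Nat.card {t : G // orderOf t = 2} = (invs G).card := by
  rw [Nat.card_eq_fintype_card, Fintype.card_subtype]
  rfl

/-- The counting core, for a group with centre of odd order and without subgroups of index two: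
`l` is a lower bound for the indices of proper subgroups. -/
theorem core {G : Type*} [Group G] [Fintype G] [DecidableEq G]
    (hZ : Odd (Nat.card (Subgroup.center G))) (hno2 : ¬ ∃ H : Subgroup G, H.index = 2) (l : ℕ)
    (hl : ∀ H : Subgroup G, H ≠ ⊤ → l ≤ H.index) :
    2 * l * (invs G).card ^ 2 + 2 * l * (invs G).card + Fintype.card G
      ≤ Fintype.card G * (Fintype.card G + (invs G).card) := by
  apply brauer_fowler_core l
  · intro g hg
    have hne : Subgroup.centralizer ({g} : Set G) ≠ ⊤ := by
      intro htop
      have hgZ : g ∈ Subgroup.center G := by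
        rw [Subgroup.mem_center_iff]
        intro x
        have : x ∈ Subgroup.centralizer ({g} : Set G) := by rw [htop]; trivial
        exact Subgroup.mem_centralizer_singleton_iff.1 this
      have h2 : orderOf (⟨g, hgZ⟩ : Subgroup.center G) = 2 := by
        rw [← hg, ← Subgroup.orderOf_coe]
      have hdvd : 2 ∣ Nat.card (Subgroup.center G) := by
        rw [← h2]; exact orderOf_dvd_natCard _
      exact (Nat.not_even_iff_odd.2 hZ) (even_iff_two_dvd.2 hdvd)
    have h1 := hl _ hne
    have h2 := (Subgroup.centralizer ({g} : Set G)).card_mul_index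
    rw [Nat.card_eq_fintype_card (α := G)] at h2
    calc l * Nat.card (Subgroup.centralizer ({g} : Set G))
        ≤ (Subgroup.centralizer ({g} : Set G)).index * Nat.card (Subgroup.centralizer ({g} : Set G)) :=
          Nat.mul_le_mul_right _ h1
      _ = Fintype.card G := by rw [mul_comm, h2]
  · intro g hg hb
    -- a pair of involutions with product g
    have hne : ((invs G ×ˢ invs G).filter (fun p => p.1 * p.2 = g)).Nonempty := by
      rw [Finset.nonempty_iff_ne_empty]
      intro h
      apply hb
      unfold beta
      rw [h]; rfl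
    obtain ⟨p, hp⟩ := hne
    simp only [Finset.mem_filter, Finset.mem_product] at hp
    obtain ⟨⟨hu, hv⟩, huv⟩ := hp
    have hinv : p.1 * g * p.1⁻¹ = g⁻¹ := by
      rw [← huv]; exact conj_mul_of_involutions (mem_invs.1 hu) (mem_invs.1 hv)
    have hcardE := card_extCentralizer g hg p.1 hinv
    have hEne : extCentralizer g ≠ ⊤ := by
      intro htop
      apply hno2
      refine ⟨Subgroup.centralizer ({g} : Set G), ?_⟩
      have h2 := (Subgroup.centralizer ({g} : Set G)).card_mul_index
      have h3 : Nat.card (extCentralizer g) = Nat.card G := by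
        rw [htop]; exact Nat.card_congr Subgroup.topEquiv.toEquiv
      rw [← h3, hcardE, mul_comm 2] at h2
      have hpos : 0 < Nat.card (Subgroup.centralizer ({g} : Set G)) := Nat.card_pos
      exact Nat.eq_of_mul_eq_mul_left hpos h2
    have h1 := hl _ hEne
    have h2 := (extCentralizer g).card_mul_index
    rw [Nat.card_eq_fintype_card (α := G)] at h2
    calc 2 * l * Nat.card (Subgroup.centralizer ({g} : Set G))
        = l * Nat.card (extCentralizer g) := by rw [hcardE]; ring
      _ ≤ (extCentralizer g).index * Nat.card (extCentralizer g) := Nat.mul_le_mul_right _ h1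
      _ = Fintype.card G := by rw [mul_comm, h2]

theorem result {G : Type*} [Group G] [Finite G] (heven : Even (Nat.card G)) (hZ : Odd (Nat.card (Subgroup.center G))) : ∃ H : Subgroup G, H ≠ ⊤ ∧ (H.index = 2 ∨ 2 * H.index * (Nat.card {t : G // orderOf t = 2}) ^ 2 < Nat.card G * (Nat.card G + Nat.card {t : G // orderOf t = 2})) := by
  classical
  have : Fintype G := Fintype.ofFinite G
  by_cases hidx2 : ∃ H : Subgroup G, H.index = 2
  · obtain ⟨H, hH⟩ := hidx2
    refine ⟨H, ?_, Or.inl hH⟩
    rintro rfl
    simp at hH
  · -- a proper subgroup of minimal index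
    have hbot : (⊥ : Subgroup G) ≠ ⊤ := by
      intro h
      have h1 : Nat.card G = 1 := by
        rw [← Subgroup.card_top (G := G), ← h]; simp
      rw [h1] at heven
      exact absurd heven (by decide)
    have hP : ∃ k : ℕ, ∃ H : Subgroup G, H ≠ ⊤ ∧ H.index = k := ⟨_, ⊥, hbot, rfl⟩
    obtain ⟨H, hHne, hHidx⟩ := Nat.find_spec hP
    have hl : ∀ K : Subgroup G, K ≠ ⊤ → Nat.find hP ≤ K.index :=
      fun K hK => Nat.find_min' hP ⟨K, hK, rfl⟩
    have hcore := core hZ hidx2 (Nat.find hP) hl
    refine ⟨H, hHne, Or.inr ?_⟩
    rw [hHidx, natCard_involutions, Nat.card_eq_fintype_card]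
    have hpos : 0 < Fintype.card G := Fintype.card_pos
    omega

end Cfsg.Agent.S0233
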