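import Mathlib
import Cfsg.Statements.S0212
import Cfsg.Agent.Lib.Helper52_Involutions
import Cfsg.Agent.Lib.Helper52_BrauerFowler
import Cfsg.Agent.S0233

set_option autoImplicit false
open Cfsg
open Cfsg.Agent.Lib.Helper52_Involutions Cfsg.Agent.Lib.Helper52_BrauerFowler

namespace Cfsg.Agent.S0212

theorem result {G : Type*} [Group G] [Finite G] [IsSimpleGroup G] (t : G) (ht : orderOf t = 2) : Nat.card G ≤ Nat.factorial (2 * (Nat.card (Subgroup.centralizer ({t} : Set G))) ^ 2) := by
  classical
  have : Fintype G := Fintype.ofFinite G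
  set c := Nat.card (Subgroup.centralizer ({t} : Set G)) with hc
  by_cases htop : Subgroup.centralizer ({t} : Set G) = ⊤
  · have hcN : c = Nat.card G := by
      rw [hc, htop]; exact Nat.card_congr Subgroup.topEquiv.toEquiv
    rw [hcN]
    have hpos : 0 < Nat.card G := Nat.card_pos
    calc Nat.card G ≤ 2 * Nat.card G ^ 2 := by nlinarith
      _ ≤ Nat.factorial (2 * Nat.card G ^ 2) := Nat.self_le_factorial _
  · have hZ : Subgroup.center G = ⊥ := by
      rcases IsSimpleGroup.eq_bot_or_eq_top_of_normal (Subgroup.center G) inferInstance with h | h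
      · exact h
      · exfalso; apply htop
        rw [eq_top_iff]
        intro x _
        rw [Subgroup.mem_centralizer_singleton_iff]
        have : t ∈ Subgroup.center G := by rw [h]; trivial
        exact (Subgroup.mem_center_iff.1 this x)
    have hZodd : Odd (Nat.card (Subgroup.center G)) := by rw [hZ]; simp
    have hno2 : ¬ ∃ H : Subgroup G, H.index = 2 := by
      rintro ⟨H, hH⟩
      have hn := Subgroup.normal_of_index_eq_two hH
      rcases IsSimpleGroup.eq_bot_or_eq_top_of_normal H hn with h | h
      · rw [h, Subgroup.index_bot] at hH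
        apply htop
        have : Fact (Nat.Prime 2) := ⟨Nat.prime_two⟩
        have hcyc : IsCyclic G := isCyclic_of_prime_card (p := 2) hH
        rw [eq_top_iff]
        intro x _
        rw [Subgroup.mem_centralizer_singleton_iff]
        exact mul_comm' x t
      · rw [h, Subgroup.index_top] at hH; omega
    -- a proper subgroup of minimal index
    have hP : ∃ k : ℕ, ∃ H : Subgroup G, H ≠ ⊤ ∧ H.index = k := ⟨_, _, htop, rfl⟩
    obtain ⟨H, hHne, hHidx⟩ := Nat.find_spec hP
    have hl : ∀ K : Subgroup G, K ≠ ⊤ → Nat.find hP ≤ K.index :=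
      fun K hK => Nat.find_min' hP ⟨K, hK, rfl⟩
    have hcore := Cfsg.Agent.S0233.core hZodd hno2 (Nat.find hP) hl
    rw [← hHidx] at hcore
    have hNc := card_le_centralizer_mul_invs t ht
    rw [← hc] at hNc
    have hnpos : 0 < (invs G).card := Finset.card_pos.2 ⟨t, mem_invs.2 ht⟩
    set n := (invs G).card with hn
    set N := Fintype.card G with hN
    set l := H.index with hlidx
    -- 2 l < c (c+1)
    have h2l : 2 * l < c * (c + 1) := by
      have h1 : 2 * l * n ^ 2 < N * (N + n) := by
        have : 0 < N := Fintype.card_pos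
        omega
      have h2 : N * (N + n) ≤ (c * n) * (c * n + n) := by
        apply Nat.mul_le_mul hNc
        omega
      have h3 : (c * n) * (c * n + n) = c * (c + 1) * n ^ 2 := by ring
      rw [h3] at h2
      have h4 : 2 * l * n ^ 2 < c * (c + 1) * n ^ 2 := lt_of_lt_of_le h1 h2
      exact lt_of_mul_lt_mul_right h4 (Nat.zero_le _)
    have hle : l ≤ 2 * c ^ 2 := by nlinarith
    calc Nat.card G ≤ Nat.factorial H.index := card_le_factorial_index H hHne
      _ ≤ Nat.factorial (2 * c ^ 2) := Nat.factorial_le hle

end Cfsg.Agent.S0212
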