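import Mathlib
import Cfsg.Statements.S0213
import Cfsg.Agent.S1853
import Cfsg.Agent.Lib.Helper52_Involutions

set_option autoImplicit false
open Cfsg

namespace Cfsg.Agent.S0213

open Finset
open Cfsg.Agent.Lib.Helper52_Involutions

/-- class equation for one class: `|x^G| * |C(x)| = |G|`. -/
theorem card_class_mul_card_centralizer {G : Type*} [Group G] [Finite G] (x : G) :
    Nat.card {y : G // IsConj x y} * Nat.card (Subgroup.centralizer ({x} : Set G)) = Nat.card G := by
  classical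
  have : Fintype G := Fintype.ofFinite G
  have h := MulAction.card_orbit_mul_card_stabilizer_eq_card_group (ConjAct G) x
  rw [Subgroup.nat_card_centralizer_nat_card_stabilizer]
  simp only [← Nat.card_eq_fintype_card] at h
  have e : Nat.card {y : G // IsConj x y} = Nat.card (MulAction.orbit (ConjAct G) x) := by
    apply Nat.card_congr
    apply Equiv.subtypeEquivRight
    intro y
    rw [ConjAct.mem_orbit_conjAct]
    exact ⟨IsConj.symm, IsConj.symm⟩
  rw [e, h]
  rfl

/-- two involutions whose product has odd order are conjugate. -/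
theorem isConj_of_odd_orderOf_mul {G : Type*} [Group G] {u v : G} (hu : orderOf u = 2)
    (hv : orderOf v = 2) (hodd : Odd (orderOf (u * v))) : IsConj u v := by
  obtain ⟨m, hm⟩ := hodd
  have huu := mul_self_of_orderOf_two hu
  have huinv := inv_eq_self_of_orderOf_two hu
  have hc := conj_mul_of_involutions hu hv
  have e1 : u * (u * v) ^ m * u = ((u * v)⁻¹) ^ m := by
    have h := map_pow (MulAut.conj u) (u * v) m
    rw [MulAut.conj_apply, MulAut.conj_apply, hc, huinv] at h
    exact h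
  have e2 : (u * v) ^ (2 * m + 1) = 1 := by rw [← hm, pow_orderOf_eq_one]
  rw [isConj_iff]
  refine ⟨(u * v) ^ m, ?_⟩
  rw [mul_inv_eq_iff_eq_mul]
  have l : (u * v) ^ m * u = u * ((u * v)⁻¹) ^ m := by
    rw [← e1, ← mul_assoc, ← mul_assoc, huu, one_mul]
  have r : v * (u * v) ^ m = u * ((u * v) * (u * v) ^ m) := by
    rw [← mul_assoc u (u * v), ← mul_assoc u u v, huu, one_mul]
  rw [l, r, inv_pow]
  congr 1
  apply inv_eq_of_mul_eq_one_right
  rw [← pow_succ', ← pow_add]
  have : m + (m + 1) = 2 * m + 1 := by ring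
  rw [this, e2]

theorem orderOf_conj {G : Type*} [Group G] (g t : G) : orderOf (g * t * g⁻¹) = orderOf t := by
  have : g * t * g⁻¹ = MulAut.conj g t := by simp
  rw [this, MulEquiv.orderOf_eq]

theorem orderOf_of_isConj {G : Type*} [Group G] {a b : G} (h : IsConj a b) :
    orderOf b = orderOf a := by
  obtain ⟨c, rfl⟩ := isConj_iff.mp h
  exact orderOf_conj c a

theorem conj_mem_zpowers {G : Type*} [Group G] (g y h : G) (hy : y ∈ Subgroup.zpowers h) :
    g * y * g⁻¹ ∈ Subgroup.zpowers (g * h * g⁻¹) := by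
  obtain ⟨n, rfl⟩ := Subgroup.mem_zpowers_iff.mp hy
  have h1 := map_zpow (MulAut.conj g) h n
  rw [MulAut.conj_apply, MulAut.conj_apply] at h1
  rw [h1]
  exact Subgroup.zpow_mem _ (Subgroup.mem_zpowers _) n

theorem conj_mem_zpowers_iff {G : Type*} [Group G] (g y h : G) :
    g * y * g⁻¹ ∈ Subgroup.zpowers (g * h * g⁻¹) ↔ y ∈ Subgroup.zpowers h := by
  constructor
  · intro hy
    have := conj_mem_zpowers g⁻¹ _ _ hy
    have e1 : g⁻¹ * (g * y * g⁻¹) * g⁻¹⁻¹ = y := by group
    have e2 : g⁻¹ * (g * h * g⁻¹) * g⁻¹⁻¹ = h := by group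
    rwa [e1, e2] at this
  · exact conj_mem_zpowers g y h

section count
variable {G : Type*} [Group G] [Fintype G] [DecidableEq G]

/-- pairs `(u, v)` in the two classes with `y ∈ ⟨u v⟩`. -/
noncomputable def pairsOver (x₁ x₂ y : G) : Finset (G × G) :=
  univ.filter (fun p : G × G => IsConj x₁ p.1 ∧ IsConj x₂ p.2 ∧ y ∈ Subgroup.zpowers (p.1 * p.2))

theorem card_pairsOver_conj (x₁ x₂ y g : G) :
    (pairsOver x₁ x₂ (g * y * g⁻¹)).card = (pairsOver x₁ x₂ y).card := by
  symm
  apply Finset.card_equiv ((MulAut.conj g).toEquiv.prodCongr (MulAut.conj g).toEquiv)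
  intro p
  simp only [pairsOver, mem_filter, mem_univ, true_and, Equiv.prodCongr_apply,
    MulEquiv.toEquiv_eq_coe, MulEquiv.coe_toEquiv, Prod.map_fst, Prod.map_snd, MulAut.conj_apply]
  have c1 : IsConj x₁ p.1 ↔ IsConj x₁ (g * p.1 * g⁻¹) := by
    have hc : IsConj p.1 (g * p.1 * g⁻¹) := isConj_iff.mpr ⟨g, rfl⟩
    exact ⟨fun h => h.trans hc, fun h => h.trans hc.symm⟩
  have c2 : IsConj x₂ p.2 ↔ IsConj x₂ (g * p.2 * g⁻¹) := by
    have hc : IsConj p.2 (g * p.2 * g⁻¹) := isConj_iff.mpr ⟨g, rfl⟩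
    exact ⟨fun h => h.trans hc, fun h => h.trans hc.symm⟩
  have c3 : y ∈ Subgroup.zpowers (p.1 * p.2) ↔
      g * y * g⁻¹ ∈ Subgroup.zpowers (g * p.1 * g⁻¹ * (g * p.2 * g⁻¹)) := by
    have : g * p.1 * g⁻¹ * (g * p.2 * g⁻¹) = g * (p.1 * p.2) * g⁻¹ := by group
    rw [this, conj_mem_zpowers_iff]
  rw [← c1, ← c2, ← c3]

theorem card_pairsOver_of_isConj (x₁ x₂ y z : G) (h : IsConj y z) :
    (pairsOver x₁ x₂ z).card = (pairsOver x₁ x₂ y).card := by
  obtain ⟨g, rfl⟩ := isConj_iff.mp h
  exact card_pairsOver_conj x₁ x₂ y g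

theorem main_count (x₁ x₂ : G) (h₁ : orderOf x₁ = 2) (h₂ : orderOf x₂ = 2)
    (hnc : ¬ IsConj x₁ x₂) (hall : ∀ t : G, orderOf t = 2 → IsConj x₁ t ∨ IsConj x₂ t) :
    (univ.filter (fun y : G => IsConj x₁ y)).card * (univ.filter (fun y : G => IsConj x₂ y)).card =
      (univ.filter (fun y : G => IsConj x₁ y)).card * (pairsOver x₁ x₂ x₁).card +
      (univ.filter (fun y : G => IsConj x₂ y)).card * (pairsOver x₁ x₂ x₂).card := by
  set K₁ := univ.filter (fun y : G => IsConj x₁ y) with hK₁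
  set K₂ := univ.filter (fun y : G => IsConj x₂ y) with hK₂
  set P : Finset (G × G) := K₁ ×ˢ K₂ with hP
  set I : Finset G := univ.filter (fun t : G => orderOf t = 2) with hI
  have hdisj : Disjoint K₁ K₂ := by
    rw [Finset.disjoint_left]
    intro a ha1 ha2
    simp only [hK₁, hK₂, mem_filter, mem_univ, true_and] at ha1 ha2
    exact hnc (ha1.trans ha2.symm)
  have hIunion : I = K₁ ∪ K₂ := by
    ext t
    simp only [hI, hK₁, hK₂, mem_filter, mem_univ, true_and, mem_union]
    constructor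
    · exact hall t
    · rintro (h | h)
      · rw [orderOf_of_isConj h, h₁]
      · rw [orderOf_of_isConj h, h₂]
  -- double counting
  have hdc := Finset.sum_card_bipartiteAbove_eq_sum_card_bipartiteBelow (s := P) (t := I)
    (fun (p : G × G) (t : G) => t ∈ Subgroup.zpowers (p.1 * p.2))
  have hleft : ∀ p ∈ P, (I.bipartiteAbove (fun (p : G × G) (t : G) =>
      t ∈ Subgroup.zpowers (p.1 * p.2)) p).card = 1 := by
    intro p hp
    simp only [hP, hK₁, hK₂, mem_product, mem_filter, mem_univ, true_and] at hp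
    have ho1 : orderOf p.1 = 2 := by rw [orderOf_of_isConj hp.1, h₁]
    have ho2 : orderOf p.2 = 2 := by rw [orderOf_of_isConj hp.2, h₂]
    have heven : Even (orderOf (p.1 * p.2)) := by
      by_contra hne
      rw [Nat.not_even_iff_odd] at hne
      have := isConj_of_odd_orderOf_mul ho1 ho2 hne
      exact hnc ((hp.1.trans this).trans hp.2.symm)
    obtain ⟨t, ht, htu⟩ := Cfsg.Agent.S1853.unique_invol (p.1 * p.2) heven
    rw [Finset.card_eq_one]
    refine ⟨t, ?_⟩
    ext s
    simp only [Finset.bipartiteAbove, hI, mem_filter, mem_univ, true_and, mem_singleton]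
    constructor
    · intro hs
      exact htu s hs
    · rintro rfl
      exact ht
  have hright : ∀ t ∈ I, (P.bipartiteBelow (fun (p : G × G) (t : G) =>
      t ∈ Subgroup.zpowers (p.1 * p.2)) t).card = (pairsOver x₁ x₂ t).card := by
    intro t _
    congr 1
    ext p
    simp only [Finset.bipartiteBelow, pairsOver, hP, hK₁, hK₂, mem_filter, mem_product, mem_univ,
      true_and, and_assoc]
  rw [Finset.sum_congr rfl hleft, Finset.sum_congr rfl hright, hIunion,
    Finset.sum_union hdisj] at hdc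
  have s1 : ∑ t ∈ K₁, (pairsOver x₁ x₂ t).card = K₁.card * (pairsOver x₁ x₂ x₁).card := by
    apply Finset.sum_const_nat
    intro t ht
    simp only [hK₁, mem_filter, mem_univ, true_and] at ht
    exact card_pairsOver_of_isConj x₁ x₂ x₁ t ht
  have s2 : ∑ t ∈ K₂, (pairsOver x₁ x₂ t).card = K₂.card * (pairsOver x₁ x₂ x₂).card := by
    apply Finset.sum_const_nat
    intro t ht
    simp only [hK₂, mem_filter, mem_univ, true_and] at ht
    exact card_pairsOver_of_isConj x₁ x₂ x₂ t ht
  rw [s1, s2] at hdc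
  simp only [sum_const, smul_eq_mul, mul_one] at hdc
  rw [← hdc, hP, Finset.card_product]

end count

/-- Thompson Order Formula, two-class case: if every involution of the finite group G is conjugate to exactly one of the non-conjugate involutions x₁, x₂, and nᵢ is the number of pairs (u, v) with u conjugate to x₁, v conjugate to x₂ and xᵢ in the cyclic group generated by uv, then |G| = |C(x₂)| n₁ + |C(x₁)| n₂. -/
theorem result {G : Type*} [Group G] [Finite G] (x₁ x₂ : G) (h₁ : orderOf x₁ = 2) (h₂ : orderOf x₂ = 2) (hnc : ¬ IsConj x₁ x₂) (hall : ∀ t : G, orderOf t = 2 → IsConj x₁ t ∨ IsConj x₂ t) : Nat.card G = Nat.card (Subgroup.centralizer ({x₂} : Set G)) * Nat.card {p : G × G // IsConj x₁ p.1 ∧ IsConj x₂ p.2 ∧ x₁ ∈ Subgroup.zpowers (p.1 * p.2)} + Nat.card (Subgroup.centralizer ({x₁} : Set G)) * Nat.card {p : G × G // IsConj x₁ p.1 ∧ IsConj x₂ p.2 ∧ x₂ ∈ Subgroup.zpowers (p.1 * p.2)} := by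
  classical
  have : Fintype G := Fintype.ofFinite G
  have hmain := main_count x₁ x₂ h₁ h₂ hnc hall
  have hc1 := card_class_mul_card_centralizer x₁
  have hc2 := card_class_mul_card_centralizer x₂
  have k1 : Nat.card {y : G // IsConj x₁ y} = (univ.filter (fun y : G => IsConj x₁ y)).card := by
    rw [Nat.card_eq_fintype_card, Fintype.card_subtype]
  have k2 : Nat.card {y : G // IsConj x₂ y} = (univ.filter (fun y : G => IsConj x₂ y)).card := by
    rw [Nat.card_eq_fintype_card, Fintype.card_subtype]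
  have n1 : Nat.card {p : G × G // IsConj x₁ p.1 ∧ IsConj x₂ p.2 ∧ x₁ ∈ Subgroup.zpowers (p.1 * p.2)}
      = (pairsOver x₁ x₂ x₁).card := by
    rw [Nat.card_eq_fintype_card, Fintype.card_subtype, pairsOver]
  have n2 : Nat.card {p : G × G // IsConj x₁ p.1 ∧ IsConj x₂ p.2 ∧ x₂ ∈ Subgroup.zpowers (p.1 * p.2)}
      = (pairsOver x₁ x₂ x₂).card := by
    rw [Nat.card_eq_fintype_card, Fintype.card_subtype, pairsOver]
  rw [n1, n2]
  rw [k1] at hc1
  rw [k2] at hc2
  set a := (univ.filter (fun y : G => IsConj x₁ y)).card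
  set b := (univ.filter (fun y : G => IsConj x₂ y)).card
  set c₁ := Nat.card (Subgroup.centralizer ({x₁} : Set G))
  set c₂ := Nat.card (Subgroup.centralizer ({x₂} : Set G))
  set m₁ := (pairsOver x₁ x₂ x₁).card
  set m₂ := (pairsOver x₁ x₂ x₂).card
  set N := Nat.card G
  have hN : 0 < N := Nat.card_pos
  -- N * N = N * (c₂ m₁ + c₁ m₂)
  have key : N * N = N * (c₂ * m₁ + c₁ * m₂) := by
    calc N * N = (a * c₁) * (b * c₂) := by rw [hc1, hc2]
      _ = (a * b) * (c₁ * c₂) := by ring
      _ = (a * m₁ + b * m₂) * (c₁ * c₂) := by rw [hmain]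
      _ = (a * c₁) * (c₂ * m₁) + (b * c₂) * (c₁ * m₂) := by ring
      _ = N * (c₂ * m₁ + c₁ * m₂) := by rw [hc1, hc2]; ring
  exact Nat.eq_of_mul_eq_mul_left hN key

end Cfsg.Agent.S0213
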