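import Cfsg.Statements.S0214
import Cfsg.Agent.Lib.Helper4_StrEmb
import Cfsg.Agent.Lib.Helper4_Isolated

set_option autoImplicit false
open Cfsg

namespace Cfsg.Agent.S0214

open Cfsg.Agent.Lib.Helper4_StrEmb Cfsg.Agent.Lib.Helper4_InvPairs
  Cfsg.Agent.Lib.Helper4_Isolated

variable {G : Type*} [Group G]

/-- A nontrivial finite 2-group has even order. -/
theorem even_card_of_ne_bot [Finite G] (Q : Subgroup G) (hQ : IsPGroup 2 Q) (hne : Q ≠ ⊥) :
    Even (Nat.card Q) := by
  obtain ⟨n, hn⟩ := IsPGroup.iff_card.mp hQ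
  have hn0 : n ≠ 0 := by
    rintro rfl
    rw [pow_zero] at hn
    exact hne (Subgroup.card_eq_one.mp hn)
  rw [hn]
  exact (Nat.even_pow' hn0).mpr (by decide)

/-- A `p`-subgroup `Q` of a `p`-group `T` with `N_T(Q) ≤ Q` equals `T`. -/
theorem eq_of_normalizer_inf_le [Finite G] {p : ℕ} [Fact p.Prime] (T Q : Subgroup G)
    (hT : IsPGroup p T) (hQT : Q ≤ T) (h : T ⊓ Subgroup.normalizer (Q : Set G) ≤ Q) : Q = T := by
  have hnil : Group.IsNilpotent T := hT.isNilpotent
  have hnc := normalizerCondition_of_isNilpotent (G := T)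
  rw [normalizerCondition_iff_only_full_group_self_normalizing] at hnc
  have : Q.subgroupOf T = ⊤ := by
    apply hnc
    rw [← Subgroup.subgroupOf_normalizer_eq hQT]
    ext x
    rw [Subgroup.mem_subgroupOf, Subgroup.mem_subgroupOf]
    constructor
    · intro hx
      exact h ⟨x.2, hx⟩
    · intro hx
      exact Subgroup.le_normalizer hx
  rw [Subgroup.subgroupOf_eq_top] at this
  exact le_antisymm hQT this

/-- the hypothesis of the statement, transported to all nontrivial 2-subgroups of `H` -/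
theorem normalizer_le_of_hyp [Finite G] (H : Subgroup G) (P : Sylow 2 ↥H)
    (hyp : ∀ X : Subgroup ↥H, X ≤ (P : Subgroup ↥H) → X ≠ ⊥ →
      Subgroup.normalizer ((X.map H.subtype : Subgroup G) : Set G) ≤ H)
    (Q : Subgroup G) (hQH : Q ≤ H) (hQ : IsPGroup 2 Q) (hne : Q ≠ ⊥) :
    Subgroup.normalizer (Q : Set G) ≤ H := by
  have hQ' : IsPGroup 2 (Q.subgroupOf H) :=
    hQ.comap_of_injective H.subtype H.subtype_injective
  obtain ⟨P₁, hP₁⟩ := hQ'.exists_le_sylow
  obtain ⟨h, rfl⟩ := MulAction.exists_smul_eq H P P₁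
  -- X = h⁻¹ Q h inside H
  let X : Subgroup ↥H := (Q.subgroupOf H).comap (MulAut.conj h).toMonoidHom
  have hXmem : ∀ x : ↥H, x ∈ X ↔ (h : G) * x * (h : G)⁻¹ ∈ Q := by
    intro x
    show (MulAut.conj h) x ∈ Q.subgroupOf H ↔ _
    rw [Subgroup.mem_subgroupOf, MulAut.conj_apply]
    simp
  have hXP : X ≤ (P : Subgroup ↥H) := by
    intro x hx
    have h1 : (MulAut.conj h) x ∈ Q.subgroupOf H := hx
    have h2 := hP₁ h1
    have h3 := (mem_smul_sylow_iff P h _).mp h2
    rw [MulAut.conj_apply] at h3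
    have : h⁻¹ * (h * x * h⁻¹) * h = x := by group
    rwa [this] at h3
  have hXne : X ≠ ⊥ := by
    intro hbot
    apply hne
    rw [eq_bot_iff]
    intro q hq
    have hqH : q ∈ H := hQH hq
    have : (h⁻¹ * ⟨q, hqH⟩ * h : ↥H) ∈ X := by
      rw [hXmem]
      have : (h : G) * ((h⁻¹ * ⟨q, hqH⟩ * h : ↥H) : G) * (h : G)⁻¹ = q := by
        push_cast
        group
      rw [this]; exact hq
    rw [hbot, Subgroup.mem_bot] at this
    have h2 : (⟨q, hqH⟩ : ↥H) = 1 := by
      have := congrArg (fun w => h * w * h⁻¹) this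
      simpa [mul_assoc] using this
    rw [Subgroup.mem_bot]
    exact congrArg Subtype.val h2
  have hX := hyp X hXP hXne
  -- characterisation of the image of X in G
  have hX' : ∀ y : G, y ∈ X.map H.subtype ↔ (h : G) * y * (h : G)⁻¹ ∈ Q := by
    intro y
    constructor
    · rintro ⟨x, hx, rfl⟩
      exact (hXmem x).mp hx
    · intro hy
      have hyH : y ∈ H := by
        have h1 := hQH hy
        have h2 : y = (h : G)⁻¹ * ((h : G) * y * (h : G)⁻¹) * (h : G) := by group
        rw [h2]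
        exact H.mul_mem (H.mul_mem (H.inv_mem h.2) h1) h.2
      exact ⟨⟨y, hyH⟩, (hXmem _).mpr hy, rfl⟩
  intro n hn
  rw [Subgroup.mem_normalizer_iff] at hn
  have hn' : (h : G)⁻¹ * n * (h : G) ∈ Subgroup.normalizer ((X.map H.subtype : Subgroup G) : Set G) := by
    rw [Subgroup.mem_normalizer_iff]
    intro y
    rw [hX', hX']
    have e : (h : G) * ((h : G)⁻¹ * n * (h : G) * y * ((h : G)⁻¹ * n * (h : G))⁻¹) * (h : G)⁻¹ =
        n * ((h : G) * y * (h : G)⁻¹) * n⁻¹ := by group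
    rw [e]
    exact hn _
  have h1 := hX hn'
  have h2 : n = (h : G) * ((h : G)⁻¹ * n * (h : G)) * (h : G)⁻¹ := by group
  rw [h2]
  exact H.mul_mem (H.mul_mem h.2 h1) (H.inv_mem h.2)

theorem mem_cj_iff (H : Subgroup G) (g x : G) :
    x ∈ H.map (MulAut.conj g).toMonoidHom ↔ g⁻¹ * x * g ∈ H := mem_conj_iff H g x

/-- the converse direction -/
theorem stronglyEmbedded_of_hyp [Finite G] (H : Subgroup G) (hH : H ≠ ⊤) (P : Sylow 2 ↥H)
    (hP : (P : Subgroup ↥H) ≠ ⊥)
    (hyp : ∀ X : Subgroup ↥H, X ≤ (P : Subgroup ↥H) → X ≠ ⊥ →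
      Subgroup.normalizer ((X.map H.subtype : Subgroup G) : Set G) ≤ H) :
    Cfsg.IsStronglyEmbedded H := by
  have hA := normalizer_le_of_hyp H P hyp
  have hevenH : Even (Nat.card H) := by
    have h1 := even_card_of_ne_bot (P : Subgroup ↥H) P.isPGroup' hP
    rw [even_iff_two_dvd] at h1 ⊢
    exact h1.trans (Subgroup.card_subgroup_dvd_card _)
  refine ⟨hH, hevenH, ?_⟩
  intro g hgH
  rw [← Nat.not_even_iff_odd]
  intro hev
  set D : Subgroup G := H ⊓ H.map (MulAut.conj g).toMonoidHom with hD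
  -- a Sylow 2-subgroup of D
  obtain ⟨Q₀⟩ : Nonempty (Sylow 2 ↥D) := inferInstance
  set Q : Subgroup G := (Q₀ : Subgroup ↥D).map D.subtype with hQdef
  have hQD : Q ≤ D := by
    rintro _ ⟨x, -, rfl⟩
    exact x.2
  have hQp : IsPGroup 2 Q := Q₀.isPGroup'.map D.subtype
  have hQne : Q ≠ ⊥ := by
    intro hbot
    have h1 : (Q₀ : Subgroup ↥D) = ⊥ := by
      rw [eq_bot_iff]
      intro x hx
      have : (x : G) ∈ Q := ⟨x, hx, rfl⟩
      rw [hbot, Subgroup.mem_bot] at this
      rw [Subgroup.mem_bot]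
      ext
      exact this
    have h2 := Q₀.card_eq_multiplicity
    rw [h1, Subgroup.card_bot] at h2
    have h3 : (Nat.card ↥D).factorization 2 = 0 := by
      by_contra hne
      have : 2 ≤ 2 ^ (Nat.card ↥D).factorization 2 := by
        calc 2 = 2 ^ 1 := by norm_num
          _ ≤ 2 ^ (Nat.card ↥D).factorization 2 := Nat.pow_le_pow_right (by norm_num) (by omega)
      omega
    have h4 : 2 ∣ Nat.card ↥D := even_iff_two_dvd.mp hev
    have h5 := (Nat.Prime.dvd_iff_one_le_factorization Nat.prime_two Nat.card_pos.ne').mp h4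
    omega
  -- N_G(Q) ≤ D
  have hN1 : Subgroup.normalizer (Q : Set G) ≤ H := hA Q (hQD.trans inf_le_left) hQp hQne
  have hN2 : Subgroup.normalizer (Q : Set G) ≤ H.map (MulAut.conj g).toMonoidHom := by
    -- conjugate back by g⁻¹
    set Q' : Subgroup G := Q.map (MulAut.conj g⁻¹).toMonoidHom with hQ'
    have hQ'H : Q' ≤ H := by
      rintro _ ⟨q, hq, rfl⟩
      have h1 : q ∈ H.map (MulAut.conj g).toMonoidHom := (hQD hq).2
      rw [mem_cj_iff] at h1
      simpa [MulAut.conj_apply] using h1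
    have hQ'p : IsPGroup 2 Q' := hQp.map _
    have hQ'ne : Q' ≠ ⊥ := by
      intro hbot
      apply hQne
      rw [eq_bot_iff]
      intro q hq
      have : (MulAut.conj g⁻¹) q ∈ Q' := ⟨q, hq, rfl⟩
      rw [hbot, Subgroup.mem_bot] at this
      rw [Subgroup.mem_bot]
      exact (MulAut.conj g⁻¹).map_eq_one_iff.mp this
    have h1 := hA Q' hQ'H hQ'p hQ'ne
    rw [hQ', ← Subgroup.map_equiv_normalizer_eq] at h1
    intro n hn
    rw [mem_cj_iff]
    have : (MulAut.conj g⁻¹) n ∈ (Subgroup.normalizer (Q : Set G)).map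
        (MulAut.conj g⁻¹).toMonoidHom := ⟨n, hn, rfl⟩
    have h2 := h1 this
    simpa [MulAut.conj_apply] using h2
  have hND : Subgroup.normalizer (Q : Set G) ≤ D := le_inf hN1 hN2
  -- Q is a Sylow 2-subgroup of G
  obtain ⟨T, hT⟩ := hQp.exists_le_sylow
  have hQT : Q = T := by
    apply eq_of_normalizer_inf_le (p := 2) (T : Subgroup G) Q T.isPGroup' hT
    rintro x ⟨hxT, hxN⟩
    have hxD : x ∈ D := hND hxN
    have hmax := Q₀.is_maximal' (Q := ((T : Subgroup G) ⊓ D).subgroupOf D)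
      ((T.isPGroup'.to_le inf_le_left).comap_of_injective D.subtype D.subtype_injective)
      (by
        intro y hy
        rw [Subgroup.mem_subgroupOf]
        exact ⟨hT ⟨y, hy, rfl⟩, y.2⟩)
    have : (⟨x, hxD⟩ : ↥D) ∈ ((T : Subgroup G) ⊓ D).subgroupOf D := by
      rw [Subgroup.mem_subgroupOf]; exact ⟨hxT, hxD⟩
    rw [hmax] at this
    exact ⟨⟨x, hxD⟩, this, rfl⟩
  -- T ≤ H and g⁻¹ T g ≤ H
  have hTH : (T : Subgroup G) ≤ H := by rw [← hQT]; exact hQD.trans inf_le_left
  have hTg : ((g⁻¹ • T : Sylow 2 G) : Subgroup G) ≤ H := by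
    intro x hx
    have h1 := (mem_smul_sylow_iff T g⁻¹ x).mp hx
    rw [inv_inv] at h1
    have h2 : g * x * g⁻¹ ∈ H.map (MulAut.conj g).toMonoidHom := by
      have : g * x * g⁻¹ ∈ Q := by rw [hQT]; exact h1
      exact (hQD this).2
    rw [mem_cj_iff] at h2
    have : g⁻¹ * (g * x * g⁻¹) * g = x := by group
    rwa [this] at h2
  -- the two Sylow subgroups are conjugate in H
  obtain ⟨h, hh⟩ := MulAction.exists_smul_eq H (T.subtype hTH) ((g⁻¹ • T).subtype hTg)
  rw [Sylow.smul_subtype] at hh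
  have hh' : (h : G) • T = g⁻¹ • T := Sylow.subtype_injective hh
  have h3 : (g * (h : G)) • T = T := by
    rw [mul_smul, hh', smul_inv_smul]
  rw [Sylow.smul_eq_iff_mem_normalizer] at h3
  have hTne : (T : Subgroup G) ≠ ⊥ := by rw [← hQT]; exact hQne
  have h4 := hA (T : Subgroup G) hTH T.isPGroup' hTne h3
  apply hgH
  have : g = g * (h : G) * (h : G)⁻¹ := by group
  rw [this]
  exact H.mul_mem h4 (H.inv_mem h.2)

/-- Let H be a proper subgroup of the finite group G and P a nontrivial Sylow 2-subgroup of H. Then H is strongly embedded in G if and only if N_G(X) ≤ H for every nontrivial subgroup X of P. -/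
theorem result {G : Type*} [Group G] [Finite G] (H : Subgroup G) (hH : H ≠ ⊤) (P : Sylow 2 ↥H) (hP : (P : Subgroup ↥H) ≠ ⊥) : Cfsg.IsStronglyEmbedded H ↔ (∀ X : Subgroup ↥H, X ≤ (P : Subgroup ↥H) → X ≠ ⊥ → Subgroup.normalizer ((X.map H.subtype : Subgroup G) : Set G) ≤ H) := by
  constructor
  · intro hse X hXP hXne n hn
    have hX'p : IsPGroup 2 (X.map H.subtype) := (P.isPGroup'.to_le hXP).map _
    have hX'ne : X.map H.subtype ≠ ⊥ := by
      intro hbot
      apply hXne
      rw [eq_bot_iff]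
      intro x hx
      have : (x : G) ∈ X.map H.subtype := ⟨x, hx, rfl⟩
      rw [hbot, Subgroup.mem_bot] at this
      rw [Subgroup.mem_bot]
      ext
      exact this
    obtain ⟨s, hs, hsord⟩ := exists_involution_of_even _ (even_card_of_ne_bot _ hX'p hX'ne)
    have hsH : s ∈ H := by
      obtain ⟨x, -, rfl⟩ := hs
      exact x.2
    rw [Subgroup.mem_normalizer_iff] at hn
    have h1 : n * s * n⁻¹ ∈ X.map H.subtype := (hn s).mp hs
    have h2 : n * s * n⁻¹ ∈ H := by
      obtain ⟨x, -, hx⟩ := h1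
      rw [← hx]
      exact x.2
    exact mem_of_conj_mem hse s hsord hsH n h2
  · exact stronglyEmbedded_of_hyp H hH P hP

end Cfsg.Agent.S0214
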