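import Mathlib
import Cfsg.Statements.S0218

set_option autoImplicit false
open Cfsg

namespace Cfsg.Agent.S0218

open QuaternionGroup

/-- In `ZMod (2 * m)`, `2 * i = 0` forces `i = 0` or `i = m`. -/
theorem two_mul_eq_zero {m : ℕ} [NeZero m] (i : ZMod (2 * m)) (h : i + i = 0) : i = 0 ∨ i = (m : ZMod (2 * m)) := by
  have hm : 0 < m := Nat.pos_of_ne_zero (NeZero.ne m)
  have hlt : i.val < 2 * m := ZMod.val_lt i
  have h1 : ((i.val + i.val : ℕ) : ZMod (2 * m)) = 0 := by
    rw [Nat.cast_add, ZMod.natCast_zmod_val, h]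
  rw [ZMod.natCast_eq_zero_iff] at h1
  obtain ⟨k, hk⟩ := h1
  have hk' : i.val = m * k := by nlinarith
  have hk2 : k < 2 := by
    by_contra hge
    push Not at hge
    nlinarith
  interval_cases k
  · left
    have : i.val = 0 := by omega
    exact (ZMod.val_eq_zero i).mp this
  · right
    have h3 : i.val = m := by omega
    have h4 : ((i.val : ℕ) : ZMod (2 * m)) = (m : ZMod (2 * m)) := congrArg _ h3
    rw [ZMod.natCast_zmod_val] at h4
    exact h4

theorem result (n : ℕ) : Nat.card {x : QuaternionGroup (2 ^ (n + 1)) // orderOf x = 2} = 1 := by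
  have hne : NeZero (2 ^ (n + 1)) := ⟨by positivity⟩
  set m := 2 ^ (n + 1) with hm
  have hmpos : 0 < m := by positivity
  -- (m : ZMod (2m)) ≠ 0
  have hm0 : (m : ZMod (2 * m)) ≠ 0 := by
    intro h
    rw [ZMod.natCast_eq_zero_iff] at h
    have := Nat.le_of_dvd hmpos h
    omega
  have hmm : (m : ZMod (2 * m)) + m = 0 := by
    have : ((m + m : ℕ) : ZMod (2 * m)) = 0 := by
      rw [ZMod.natCast_eq_zero_iff]
      exact ⟨1, by ring⟩
    rwa [Nat.cast_add] at this
  have ha1 : (a (m : ZMod (2 * m)) : QuaternionGroup m) ≠ 1 := by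
    rw [one_def]
    intro h
    exact hm0 (a.inj h)
  have hord : orderOf (a (m : ZMod (2 * m)) : QuaternionGroup m) = 2 := by
    apply orderOf_eq_prime
    · rw [sq, a_mul_a, hmm, a_zero]
    · exact ha1
  rw [Nat.card_eq_one_iff_unique]
  refine ⟨⟨?_⟩, ⟨⟨a (m : ZMod (2 * m)), hord⟩⟩⟩
  -- uniqueness
  have key : ∀ x : QuaternionGroup m, orderOf x = 2 → x = a (m : ZMod (2 * m)) := by
    intro x hx
    have hx2 : x * x = 1 := by
      have := pow_orderOf_eq_one x
      rw [hx, sq] at this
      exact this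
    have hx1 : x ≠ 1 := by
      rintro rfl
      simp at hx
    cases x with
    | a i =>
      rw [a_mul_a, one_def] at hx2
      have := a.inj hx2
      rcases two_mul_eq_zero i this with h | h
      · exfalso; apply hx1; rw [h, a_zero]
      · rw [h]
    | xa i =>
      exfalso
      rw [orderOf_xa] at hx
      omega
  rintro ⟨x, hx⟩ ⟨y, hy⟩
  apply Subtype.ext
  change x = y
  rw [key x hx, key y hy]

end Cfsg.Agent.S0218
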