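import Cfsg.Statements.S0223
import Cfsg.Agent.Lib.Helper4_StrEmb

set_option autoImplicit false
open Cfsg

namespace Cfsg.Agent.S0223

open Cfsg.Agent.Lib.Helper4_StrEmb Cfsg.Agent.Lib.Helper4_InvPairs

/-- Let H be a proper subgroup of even order of the finite group G. Then H is strongly embedded if and only if (i) C_G(t) ≤ H for every involution t of H and (ii) H controls fusion of its involutions: involutions of H conjugate in G are conjugate in H. -/
theorem result {G : Type*} [Group G] [Finite G] (H : Subgroup G) (hH : H ≠ ⊤) (heven : Even (Nat.card H)) : Cfsg.IsStronglyEmbedded H ↔ ((∀ t ∈ H, orderOf t = 2 → Subgroup.centralizer ({t} : Set G) ≤ H) ∧ (∀ t ∈ H, ∀ s ∈ H, orderOf t = 2 → orderOf s = 2 → IsConj t s → ∃ h ∈ H, h * t * h⁻¹ = s)) := by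
  rw [iff_mem_of_conj_mem hH heven]
  constructor
  · intro h
    constructor
    · intro t htH ht c hc
      rw [Subgroup.mem_centralizer_iff] at hc
      have hct : t * c = c * t := hc t rfl
      apply h t ht htH c
      have : c * t * c⁻¹ = t := by
        rw [← hct]; group
      rw [this]; exact htH
    · intro t htH s hsH ht _ hconj
      obtain ⟨g, hg⟩ := isConj_iff.mp hconj
      exact ⟨g, h t ht htH g (by rw [hg]; exact hsH), hg⟩
  · rintro ⟨h1, h2⟩ t ht htH g hg
    have hsord : orderOf (g * t * g⁻¹) = 2 := by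
      rw [← MulAut.conj_apply, MulEquiv.orderOf_eq]; exact ht
    obtain ⟨h, hhH, hh⟩ := h2 t htH (g * t * g⁻¹) hg ht hsord (isConj_iff.mpr ⟨g, rfl⟩)
    have hc : h⁻¹ * g ∈ Subgroup.centralizer ({t} : Set G) := by
      rw [Subgroup.mem_centralizer_iff]
      intro y hy
      rw [Set.mem_singleton_iff] at hy
      subst hy
      have e : g * y = h * y * h⁻¹ * g := by
        rw [hh]; group
      calc y * (h⁻¹ * g) = h⁻¹ * (h * y * h⁻¹ * g) := by group
        _ = h⁻¹ * (g * y) := by rw [← e]
        _ = h⁻¹ * g * y := by group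
    have := h1 t htH ht hc
    have h3 := H.mul_mem hhH this
    have : h * (h⁻¹ * g) = g := by group
    rwa [this] at h3

end Cfsg.Agent.S0223
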