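import Cfsg.Statements.S0224
import Cfsg.Agent.Lib.Helper4_StrEmb

set_option autoImplicit false
open Cfsg

namespace Cfsg.Agent.S0224

open Cfsg.Agent.Lib.Helper4_StrEmb Cfsg.Agent.Lib.Helper4_InvPairs

theorem smul_mk_eq_iff {G : Type*} [Group G] (H : Subgroup G) (t g : G) (ht : orderOf t = 2) :
    t • (g : G ⧸ H) = (g : G ⧸ H) ↔ g⁻¹ * t * g ∈ H := by
  rw [MulAction.Quotient.smul_mk, QuotientGroup.eq, smul_eq_mul, mul_inv_rev,
    inv_eq_self_of_orderOf_two ht]

/-- Let H be a proper subgroup of even order of the finite group G. Then H is strongly embedded if and only if each involution of H fixes exactly one point (namely the coset H) in the action of G on the cosets of H. -/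
theorem result {G : Type*} [Group G] [Finite G] (H : Subgroup G) (hH : H ≠ ⊤) (heven : Even (Nat.card H)) : Cfsg.IsStronglyEmbedded H ↔ ∀ t ∈ H, orderOf t = 2 → Nat.card {c : G ⧸ H // t • c = c} = 1 := by
  rw [iff_mem_of_conj_mem hH heven]
  constructor
  · intro h t htH ht
    rw [Nat.card_eq_one_iff_unique]
    have hfix1 : t • ((1 : G) : G ⧸ H) = ((1 : G) : G ⧸ H) := by
      rw [smul_mk_eq_iff H t 1 ht]
      simpa using htH
    refine ⟨⟨?_⟩, ⟨⟨((1 : G) : G ⧸ H), hfix1⟩⟩⟩
    have key : ∀ c : {c : G ⧸ H // t • c = c}, c.1 = ((1 : G) : G ⧸ H) := by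
      rintro ⟨c, hc⟩
      induction c using QuotientGroup.induction_on with
      | H g =>
        rw [smul_mk_eq_iff H t g ht] at hc
        have hg : g⁻¹ ∈ H := h t ht htH g⁻¹ (by rwa [inv_inv])
        show (g : G ⧸ H) = ((1 : G) : G ⧸ H)
        rw [QuotientGroup.eq]
        simpa using H.inv_mem hg |> fun _ => hg
    intro a b
    ext
    rw [key a, key b]
  · intro h t ht htH g hg
    have hcard := h t htH ht
    rw [Nat.card_eq_one_iff_unique] at hcard
    obtain ⟨hsub, -⟩ := hcard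
    have hfix1 : t • ((1 : G) : G ⧸ H) = ((1 : G) : G ⧸ H) := by
      rw [smul_mk_eq_iff H t 1 ht]
      simpa using htH
    have hfix2 : t • ((g⁻¹ : G) : G ⧸ H) = ((g⁻¹ : G) : G ⧸ H) := by
      rw [smul_mk_eq_iff H t g⁻¹ ht, inv_inv]
      exact hg
    have := hsub.elim ⟨_, hfix1⟩ ⟨_, hfix2⟩
    have h2 : ((1 : G) : G ⧸ H) = ((g⁻¹ : G) : G ⧸ H) := congrArg Subtype.val this
    rw [QuotientGroup.eq] at h2
    have h3 : g⁻¹ ∈ H := by simpa using h2
    have := H.inv_mem h3
    rwa [inv_inv] at this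

end Cfsg.Agent.S0224
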