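import Cfsg.Statements.S0226
import Mathlib

set_option autoImplicit false
open Cfsg

namespace Cfsg.Agent.S0226

/-- In a finite group, `|G| ≡ 1 + #involutions (mod 2)`. -/
theorem card_modEq {G : Type*} [Group G] [Finite G] :
    Nat.card G ≡ Nat.card {t : G // orderOf t = 2} + 1 [MOD 2] := by
  classical
  have : Fintype G := Fintype.ofFinite G
  let f : Function.End G := fun g => g⁻¹
  have hf : f ^ 2 ^ 1 = 1 := by
    funext g
    show (f ^ 2 ^ 1) g = g
    rw [pow_one, pow_two]
    show f (f g) = g
    simp [f]
  have h := Equiv.Perm.card_fixedPoints_modEq (p := 2) (n := 1) hf
  rw [Nat.card_eq_fintype_card]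
  refine h.trans ?_
  have : Fintype.card (Function.fixedPoints f) = Nat.card {t : G // orderOf t = 2} + 1 := by
    rw [← Nat.card_eq_fintype_card]
    have e : Function.fixedPoints f ≃ Option {t : G // orderOf t = 2} :=
      { toFun := fun g => if h : g.1 = 1 then none else some ⟨g.1, by
          have hg : g.1⁻¹ = g.1 := g.2
          have h2 : g.1 ^ 2 = 1 := by
            rw [pow_two]; nth_rewrite 1 [← hg]; simp
          exact orderOf_eq_prime h2 h⟩
        invFun := fun o => match o with
          | none => ⟨1, by simp [f, Function.mem_fixedPoints, Function.IsFixedPt]⟩
          | some t => ⟨t.1, by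
              have h2 : t.1 ^ 2 = 1 := by
                have := pow_orderOf_eq_one t.1
                rwa [t.2] at this
              simp only [f, Function.mem_fixedPoints, Function.IsFixedPt]
              rw [inv_eq_iff_mul_eq_one, ← pow_two, h2]⟩
        left_inv := by
          intro g
          by_cases h : g.1 = 1
          · simp only [h, dite_true]
            ext; simp [h]
          · simp only [h, dite_false]
        right_inv := by
          intro o
          match o with
          | none => simp
          | some t =>
            have : t.1 ≠ 1 := by
              intro h1
              have := t.2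
              rw [h1, orderOf_one] at this
              omega
            simp [this] }
    rw [Nat.card_congr e, Nat.card_eq_fintype_card, Fintype.card_option, Nat.card_eq_fintype_card]
  rw [this]

/-- A finite group of even order has an odd number of involutions. -/
theorem result {G : Type*} [Group G] [Finite G] (heven : Even (Nat.card G)) : Odd (Nat.card {t : G // orderOf t = 2}) := by
  have h := card_modEq (G := G)
  have h2 : (Nat.card {t : G // orderOf t = 2} + 1) % 2 = 0 := by
    rw [← h, Nat.even_iff.mp heven]
  rw [Nat.odd_iff]
  omega

end Cfsg.Agent.S0226
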