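import Cfsg.Statements.S0229
import Cfsg.Agent.Lib.Helper4_Isolated
import Cfsg.Agent.S0208
import Cfsg.Agent.S0209
import Cfsg.Agent.S0211

set_option autoImplicit false
open Cfsg

namespace Cfsg.Agent.S0229

open Cfsg.Agent.Lib.Helper4_InvPairs Cfsg.Agent.Lib.Helper4_Dihedral
  Cfsg.Agent.Lib.Helper4_DihedralIso Cfsg.Agent.Lib.Helper4_Isolated

/-- Let t be an involution of a Sylow 2-subgroup S of a finite group G, conjugate in G to no other element of S, and let s be an involution of G not conjugate to t. Then the order of st is twice an odd number. -/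
theorem result {G : Type*} [Group G] [Finite G] (S : Sylow 2 G) (t : G) (ht : orderOf t = 2) (htS : t ∈ S) (hiso : ∀ g : G, g * t * g⁻¹ ∈ S → g * t * g⁻¹ = t) (s : G) (hs : orderOf s = 2) (hns : ¬ IsConj s t) : orderOf (s * t) % 4 = 2 := by
  have hord : orderOf (t * s) = orderOf (s * t) := by
    have : t * s = MulAut.conj t (s * t) := by
      rw [MulAut.conj_apply]; group
    rw [this, MulEquiv.orderOf_eq]
  -- not odd
  have hnodd : ¬ Odd (orderOf (s * t)) := by
    intro hodd
    obtain ⟨d, -, hd⟩ := Cfsg.Agent.S0208.result s t hs ht hodd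
    exact hns (isConj_iff.mpr ⟨d, hd⟩)
  have heven : Even (orderOf (s * t)) := Nat.not_odd_iff_even.mp hnodd
  have heven' : Even (orderOf (t * s)) := by rw [hord]; exact heven
  -- not divisible by 4
  have hn4 : ¬ 4 ∣ orderOf (s * t) := by
    intro h4
    rw [← hord] at h4
    obtain ⟨d, -, hd⟩ := (Cfsg.Agent.S0211.result t s ht hs heven').mpr h4
    obtain ⟨hz, hzt, -⟩ := Cfsg.Agent.S0209.result t s ht hs heven'
    set z := (t * s) ^ (orderOf (t * s) / 2) with hzdef
    have hconjord : orderOf (d * t * d⁻¹) = 2 := by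
      rw [← MulAut.conj_apply, MulEquiv.orderOf_eq]; exact ht
    have hcomm : Commute t (d * t * d⁻¹) := by
      rw [hd]
      exact (Commute.refl t).mul_right hzt.symm
    have hpg := isPGroup_closure_of_commute ht hconjord hcomm
    have heq := eq_of_isolated S t hiso d hpg
    rw [hd] at heq
    have hz1 : z = 1 := by
      have := congrArg (fun w => t⁻¹ * w) heq
      simpa using this
    exact ne_one_of_orderOf_two hz hz1
  rw [Nat.even_iff] at heven
  omega

end Cfsg.Agent.S0229
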