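import Cfsg.Statements.S0230
import Cfsg.Agent.Lib.Helper3_CharColumn
import Cfsg.Agent.Lib.Helper17_Sylow
import Cfsg.Agent.Lib.Helper4_InvPairs
import Cfsg.Agent.S0208
import Cfsg.Agent.S0209

set_option autoImplicit false
open Cfsg

namespace Cfsg.Agent.S0230

open Cfsg.Agent.Lib.Helper4_InvPairs

/-- number of conjugates times order of the centralizer -/
theorem card_conj_mul {G : Type*} [Group G] [Finite G] (t : G) :
    Nat.card {b : G // IsConj b t} * Nat.card (Subgroup.centralizer ({t} : Set G)) =
      Nat.card G := by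
  classical
  have : Fintype G := Fintype.ofFinite G
  rw [← Cfsg.Agent.Lib.Helper3_CharColumn.card_conjFinset_mul_card_centralizer t]
  congr 1
  rw [Nat.card_eq_fintype_card, Fintype.card_subtype]
  rfl

/-- the number of involutions commuting with `z` -/
theorem card_inv_commute_le {G : Type*} [Group G] [Finite G] (s : G) :
    Nat.card {z : G // orderOf z = 2 ∧ Commute z s} ≤
      Nat.card (Subgroup.centralizer ({s} : Set G)) - 1 := by
  rw [← Cfsg.Agent.Lib.Helper17_Sylow.card_mem_ne_one]
  apply Nat.card_le_card_of_injective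
    (fun z : {z : G // orderOf z = 2 ∧ Commute z s} =>
      (⟨z.1, by
        rw [Subgroup.mem_centralizer_iff]
        intro y hy
        rw [Set.mem_singleton_iff] at hy
        subst hy
        exact z.2.2.eq.symm, ne_one_of_orderOf_two z.2.1⟩ :
        {g : G // g ∈ Subgroup.centralizer ({s} : Set G) ∧ g ≠ 1}))
  intro a b hab
  ext
  have := congrArg Subtype.val hab
  simpa using this

theorem card_commute_ne_one_le {G : Type*} [Group G] [Finite G] (z : G) :
    Nat.card {b : G // Commute z b ∧ b ≠ 1} ≤
      Nat.card (Subgroup.centralizer ({z} : Set G)) - 1 := by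
  rw [← Cfsg.Agent.Lib.Helper17_Sylow.card_mem_ne_one]
  apply Nat.card_le_card_of_injective
    (fun b : {b : G // Commute z b ∧ b ≠ 1} =>
      (⟨b.1, by
        rw [Subgroup.mem_centralizer_iff]
        intro y hy
        rw [Set.mem_singleton_iff] at hy
        subst hy
        exact b.2.1.eq, b.2.2⟩ :
        {g : G // g ∈ Subgroup.centralizer ({z} : Set G) ∧ g ≠ 1}))
  intro a b hab
  ext
  have := congrArg Subtype.val hab
  simpa using this

/-- Let G be a finite group with two non-conjugate involutions, and let t be an involution whose centralizer has maximal order among centralizers of involutions. Then |G| < |C_G(t)|^3. -/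
theorem result {G : Type*} [Group G] [Finite G] (s t : G) (hs : orderOf s = 2) (ht : orderOf t = 2) (hnc : ¬ IsConj s t) (hmax : ∀ u : G, orderOf u = 2 → Nat.card (Subgroup.centralizer ({u} : Set G)) ≤ Nat.card (Subgroup.centralizer ({t} : Set G))) : Nat.card G < Nat.card (Subgroup.centralizer ({t} : Set G)) ^ 3 := by
  classical
  set m := Nat.card (Subgroup.centralizer ({t} : Set G)) with hm
  -- for each conjugate b of t choose the central involution of ⟨s, b⟩
  have key : ∀ b : {b : G // IsConj b t}, ∃ z : G, orderOf z = 2 ∧ Commute z s ∧ Commute z b.1 := by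
    rintro ⟨b, hb⟩
    have hbord : orderOf b = 2 := by
      obtain ⟨c, hc⟩ := isConj_iff.mp hb
      rw [← ht, ← hc, ← MulAut.conj_apply, MulEquiv.orderOf_eq]
    have hnodd : ¬ Odd (orderOf (s * b)) := by
      intro hodd
      obtain ⟨d, -, hd⟩ := Cfsg.Agent.S0208.result s b hs hbord hodd
      exact hnc ((isConj_iff.mpr ⟨d, hd⟩).trans hb)
    have heven : Even (orderOf (s * b)) := Nat.not_odd_iff_even.mp hnodd
    obtain ⟨h1, h2, h3⟩ := Cfsg.Agent.S0209.result s b hs hbord heven
    exact ⟨_, h1, h2, h3⟩
  choose zf hzf using key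
  have : Fintype {z : G // orderOf z = 2 ∧ Commute z s} := Fintype.ofFinite _
  let φ : {b : G // IsConj b t} →
      Σ z : {z : G // orderOf z = 2 ∧ Commute z s}, {b : G // Commute z.1 b ∧ b ≠ 1} :=
    fun b => ⟨⟨zf b, (hzf b).1, (hzf b).2.1⟩, ⟨b.1, (hzf b).2.2, by
      obtain ⟨c, hc⟩ := isConj_iff.mp b.2
      intro h1
      rw [h1] at hc
      simp at hc
      exact ne_one_of_orderOf_two ht hc.symm⟩⟩
  have hφ : Function.Injective φ := by
    intro a b hab
    ext
    have h1 := congrArg (fun x => (x.2 : G)) hab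
    -- avoid dependent elimination: use the projection to G
    exact h1
  have hcard := Nat.card_le_card_of_injective φ hφ
  rw [Nat.card_sigma] at hcard
  have hm2 : 2 ≤ m := by
    have h1 := card_inv_commute_le t
    have hpos : 0 < Nat.card {z : G // orderOf z = 2 ∧ Commute z t} :=
      Nat.card_pos_iff.mpr ⟨⟨⟨t, ht, Commute.refl t⟩⟩, inferInstance⟩
    omega
  have hsum : ∑ z : {z : G // orderOf z = 2 ∧ Commute z s},
      Nat.card {b : G // Commute z.1 b ∧ b ≠ 1} ≤
      ∑ _z : {z : G // orderOf z = 2 ∧ Commute z s}, (m - 1) := by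
    apply Finset.sum_le_sum
    intro z _
    have h1 := card_commute_ne_one_le z.1
    have h2 := hmax z.1 z.2.1
    omega
  rw [Finset.sum_const, Finset.card_univ, smul_eq_mul, ← Nat.card_eq_fintype_card] at hsum
  have hI : Nat.card {z : G // orderOf z = 2 ∧ Commute z s} ≤ m - 1 := by
    have h1 := card_inv_commute_le s
    have h2 := hmax s hs
    omega
  have hK : Nat.card {b : G // IsConj b t} ≤ (m - 1) * (m - 1) :=
    hcard.trans (hsum.trans (Nat.mul_le_mul_right _ hI))
  rw [← card_conj_mul t, ← hm]
  have h1 : Nat.card {b : G // IsConj b t} * m ≤ (m - 1) * (m - 1) * m :=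
    Nat.mul_le_mul_right _ hK
  have h2 : (m - 1) * (m - 1) * m < m ^ 3 := by
    obtain ⟨k, hk⟩ : ∃ k, m = k + 2 := ⟨m - 2, by omega⟩
    rw [hk]
    have : k + 2 - 1 = k + 1 := by omega
    rw [this]
    nlinarith
  omega

end Cfsg.Agent.S0230
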