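import Cfsg.Statements.S0231
import Cfsg.Agent.Lib.Helper4_Isolated
import Cfsg.Agent.S0208
import Cfsg.Agent.S0209

set_option autoImplicit false
open scoped Pointwise
open Cfsg

namespace Cfsg.Agent.S0231

open Cfsg.Agent.Lib.Helper4_InvPairs Cfsg.Agent.Lib.Helper4_Dihedral
  Cfsg.Agent.Lib.Helper4_DihedralIso Cfsg.Agent.Lib.Helper4_Isolated

/-- distinct Sylow subgroups intersect trivially under the TI hypothesis -/
theorem inf_eq_bot {G : Type*} [Group G] [Finite G] (T : Sylow 2 G)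
    (hTI : ∀ g : G, MulAut.conj g • (T : Subgroup G) ≠ T → MulAut.conj g • (T : Subgroup G) ⊓ T = ⊥)
    (S1 S2 : Sylow 2 G) (hne : S1 ≠ S2) : (S1 : Subgroup G) ⊓ S2 = ⊥ := by
  obtain ⟨a, rfl⟩ := MulAction.exists_smul_eq G T S1
  obtain ⟨b, rfl⟩ := MulAction.exists_smul_eq G T S2
  have hg : MulAut.conj (a⁻¹ * b) • (T : Subgroup G) ≠ T := by
    intro h
    apply hne
    have h1 : (a⁻¹ * b) • T = T := by
      apply Sylow.ext
      rw [Sylow.coe_subgroup_smul]; exact h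
    rw [mul_smul, inv_smul_eq_iff] at h1
    exact h1.symm
  have h2 := hTI _ hg
  rw [eq_bot_iff]
  intro x hx
  obtain ⟨hx1, hx2⟩ := hx
  have hx1' : a⁻¹ * x * a ∈ T := (mem_smul_sylow_iff T a x).mp hx1
  have hx2' : b⁻¹ * x * b ∈ T := (mem_smul_sylow_iff T b x).mp hx2
  have hmem : a⁻¹ * x * a ∈ MulAut.conj (a⁻¹ * b) • (T : Subgroup G) ⊓ T := by
    refine ⟨?_, hx1'⟩
    show a⁻¹ * x * a ∈ MulAut.conj (a⁻¹ * b) • (T : Subgroup G)
    rw [Subgroup.mem_pointwise_smul_iff_inv_smul_mem, ← map_inv, MulAut.smul_def,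
      MulAut.conj_apply]
    have : (a⁻¹ * b)⁻¹ * (a⁻¹ * x * a) * (a⁻¹ * b)⁻¹⁻¹ = b⁻¹ * x * b := by group
    rw [this]
    exact hx2'
  rw [h2, Subgroup.mem_bot] at hmem
  rw [Subgroup.mem_bot]
  have : x = a * (a⁻¹ * x * a) * a⁻¹ := by group
  rw [this, hmem]; group

theorem exists_sylow_mem {G : Type*} [Group G] [Finite G] (s : G) (hs : orderOf s = 2) :
    ∃ S : Sylow 2 G, s ∈ S := by
  have hp : IsPGroup 2 (Subgroup.zpowers s) := by
    apply IsPGroup.of_card (n := 1)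
    rw [Nat.card_zpowers, hs, pow_one]
  obtain ⟨S, hS⟩ := hp.exists_le_sylow
  exact ⟨S, hS (Subgroup.mem_zpowers s)⟩

/-- non-conjugate involutions lie in a common Sylow 2-subgroup under the TI hypothesis -/
theorem common_sylow {G : Type*} [Group G] [Finite G]
    (hTI : ∀ S1 S2 : Sylow 2 G, S1 ≠ S2 → (S1 : Subgroup G) ⊓ S2 = ⊥)
    (s t : G) (hs : orderOf s = 2) (ht : orderOf t = 2) (hnc : ¬ IsConj s t) :
    ∃ S : Sylow 2 G, s ∈ S ∧ t ∈ S := by
  have hnodd : ¬ Odd (orderOf (s * t)) := by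
    intro hodd
    obtain ⟨d, -, hd⟩ := Cfsg.Agent.S0208.result s t hs ht hodd
    exact hnc (isConj_iff.mpr ⟨d, hd⟩)
  have heven : Even (orderOf (s * t)) := Nat.not_odd_iff_even.mp hnodd
  obtain ⟨hz, hzs, hzt⟩ := Cfsg.Agent.S0209.result s t hs ht heven
  set z := (s * t) ^ (orderOf (s * t) / 2) with hzdef
  obtain ⟨S1, hS1⟩ := (isPGroup_closure_of_commute hs hz hzs.symm).exists_le_sylow
  obtain ⟨S2, hS2⟩ := (isPGroup_closure_of_commute ht hz hzt.symm).exists_le_sylow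
  have hsS1 : s ∈ S1 := hS1 (Subgroup.subset_closure (by simp))
  have hzS1 : z ∈ S1 := hS1 (Subgroup.subset_closure (by simp))
  have htS2 : t ∈ S2 := hS2 (Subgroup.subset_closure (by simp))
  have hzS2 : z ∈ S2 := hS2 (Subgroup.subset_closure (by simp))
  have heq : S1 = S2 := by
    by_contra hne
    have := hTI S1 S2 hne
    have hzmem : z ∈ (S1 : Subgroup G) ⊓ S2 := ⟨hzS1, hzS2⟩
    rw [this, Subgroup.mem_bot] at hzmem
    exact ne_one_of_orderOf_two hz hzmem
  exact ⟨S1, hsS1, heq ▸ htS2⟩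

theorem conj_of_ne_sylow {G : Type*} [Group G] [Finite G]
    (hTI : ∀ S1 S2 : Sylow 2 G, S1 ≠ S2 → (S1 : Subgroup G) ⊓ S2 = ⊥)
    (s t : G) (hs : orderOf s = 2) (ht : orderOf t = 2) (S1 S2 : Sylow 2 G) (hne : S1 ≠ S2)
    (hsS1 : s ∈ S1) (htS2 : t ∈ S2) : IsConj s t := by
  by_contra hnc
  obtain ⟨S, hsS, htS⟩ := common_sylow hTI s t hs ht hnc
  have h1 : S = S1 := by
    by_contra h
    have := hTI S S1 h
    have hmem : s ∈ (S : Subgroup G) ⊓ S1 := ⟨hsS, hsS1⟩
    rw [this, Subgroup.mem_bot] at hmem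
    exact ne_one_of_orderOf_two hs hmem
  have h2 : S = S2 := by
    by_contra h
    have := hTI S S2 h
    have hmem : t ∈ (S : Subgroup G) ⊓ S2 := ⟨htS, htS2⟩
    rw [this, Subgroup.mem_bot] at hmem
    exact ne_one_of_orderOf_two ht hmem
  exact hne (h1.symm.trans h2)

/-- Let T be a Sylow 2-subgroup of the finite group G which is not normal and which intersects every other Sylow 2-subgroup trivially. Then G has a single conjugacy class of involutions. -/
theorem result {G : Type*} [Group G] [Finite G] (T : Sylow 2 G) (hnn : ¬ (T : Subgroup G).Normal) (hTI : ∀ g : G, MulAut.conj g • (T : Subgroup G) ≠ T → MulAut.conj g • (T : Subgroup G) ⊓ T = ⊥) (s t : G) (hs : orderOf s = 2) (ht : orderOf t = 2) : IsConj s t := by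
  have hTI' := inf_eq_bot T hTI
  obtain ⟨S1, hsS1⟩ := exists_sylow_mem s hs
  obtain ⟨S2, htS2⟩ := exists_sylow_mem t ht
  by_cases hne : S1 = S2
  · subst hne
    -- find a third Sylow subgroup
    obtain ⟨S3, hS3⟩ : ∃ S3 : Sylow 2 G, S3 ≠ S1 := by
      by_contra hcon
      push Not at hcon
      have hsub : Subsingleton (Sylow 2 G) := ⟨fun a b => (hcon a).trans (hcon b).symm⟩
      exact hnn (Sylow.normal_of_subsingleton T)
    -- an involution in S3
    have hcard : Nat.card (S3 : Subgroup G) = Nat.card (S1 : Subgroup G) := by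
      rw [Sylow.card_eq_multiplicity, Sylow.card_eq_multiplicity]
    have h2 : 2 ∣ Nat.card (S3 : Subgroup G) := by
      rw [hcard]
      have h3 := orderOf_dvd_natCard (⟨s, hsS1⟩ : (S1 : Subgroup G))
      rwa [Subgroup.orderOf_mk, hs] at h3
    obtain ⟨r, hr⟩ := exists_prime_orderOf_dvd_card' 2 h2
    have hr' : orderOf (r : G) = 2 := by rw [Subgroup.orderOf_coe]; exact hr
    have h1 := conj_of_ne_sylow hTI' s r hs hr' S1 S3 hS3.symm hsS1 r.2
    have h2 := conj_of_ne_sylow hTI' (r : G) t hr' ht S3 S1 hS3 r.2 htS2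
    exact h1.trans h2
  · exact conj_of_ne_sylow hTI' s t hs ht S1 S2 hne hsS1 htS2

end Cfsg.Agent.S0231
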