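import Mathlib
import Cfsg.Statements.S0232
import Cfsg.Agent.Lib.Helper52_Involutions
import Cfsg.Agent.Lib.Helper52_BrauerFowler
import Cfsg.Agent.S0111
import Cfsg.Agent.S0233

set_option autoImplicit false
open Cfsg
open Cfsg.Agent.Lib.Helper52_Involutions Cfsg.Agent.Lib.Helper52_BrauerFowler

namespace Cfsg.Agent.S0232

/-- a group of order `2 * m` with `m` odd has a subgroup of index two. -/
theorem exists_index_two_of_card_eq_two_mul_odd {G : Type*} [Group G] [Finite G] (m : ℕ) (hm : Odd m)
    (hcard : Nat.card G = 2 * m) : ∃ H : Subgroup G, H.index = 2 := by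
  classical
  have : Fintype G := Fintype.ofFinite G
  have : Fact (Nat.Prime 2) := ⟨Nat.prime_two⟩
  obtain ⟨z, hz⟩ := exists_prime_orderOf_dvd_card' (G := G) 2 (by rw [hcard]; exact dvd_mul_right 2 m)
  set π : G →* Equiv.Perm G := MulAction.toPermHom G G with hπ
  have hσ2 : (π z) ^ 2 = 1 := by
    rw [← map_pow, ← hz, pow_orderOf_eq_one, map_one]
  have hfix : ∀ a : G, (π z) a ≠ a := by
    intro a h
    have h1 : z * a = a := h
    exact ne_one_of_orderOf_two hz (mul_eq_right.1 h1)
  have hsign : Equiv.Perm.sign (π z) = -1 := by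
    rw [Cfsg.Agent.S0111.sign_of_fixedPointFree_involution (π z) hσ2 hfix m
      (by rw [← Nat.card_eq_fintype_card, hcard])]
    exact hm.neg_one_pow
  set f : G →* ℤˣ := Equiv.Perm.sign.comp π with hf
  refine ⟨f.ker, ?_⟩
  rw [Subgroup.index_ker]
  have htop : f.range = ⊤ := by
    rw [eq_top_iff]
    intro x _
    rcases Int.units_eq_one_or x with rfl | rfl
    · exact one_mem _
    · exact ⟨z, hsign⟩
  rw [htop, Nat.card_congr Subgroup.topEquiv.toEquiv, Nat.card_eq_fintype_card, Fintype.card_units_int]

/-- the induction statement. -/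
theorem aux : ∀ (n : ℕ) (G : Type*) [Group G] [Finite G], Nat.card G = n → Even (Nat.card G) →
    2 < Nat.card G → ∃ H : Subgroup G, H ≠ ⊤ ∧ Nat.card G < (Nat.card H) ^ 3 := by
  intro n
  induction n using Nat.strong_induction_on with
  | _ n ih =>
  intro G _ _ hn heven hgt
  classical
  have : Fintype G := Fintype.ofFinite G
  have : Fact (Nat.Prime 2) := ⟨Nat.prime_two⟩
  -- subgroups of index two
  by_cases hidx2 : ∃ H : Subgroup G, H.index = 2
  · obtain ⟨H, hH⟩ := hidx2
    refine ⟨H, ?_, ?_⟩
    · rintro rfl
      simp at hH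
    · have h1 := H.card_mul_index
      rw [hH] at h1
      have h2 : 2 ≤ Nat.card H := by omega
      rw [← h1]
      nlinarith [pow_succ (Nat.card H) 2, pow_two (Nat.card H)]
  -- an involution
  obtain ⟨t, ht⟩ := exists_prime_orderOf_dvd_card' (G := G) 2 (even_iff_two_dvd.1 heven)
  by_cases hZ : Odd (Nat.card (Subgroup.center G))
  · -- centre of odd order
    set c := Nat.card (Subgroup.centralizer ({t} : Set G)) with hc
    have htop : Subgroup.centralizer ({t} : Set G) ≠ ⊤ := by
      intro htop
      have htZ : t ∈ Subgroup.center G := by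
        rw [Subgroup.mem_center_iff]
        intro x
        have : x ∈ Subgroup.centralizer ({t} : Set G) := by rw [htop]; trivial
        exact Subgroup.mem_centralizer_singleton_iff.1 this
      have h2 : orderOf (⟨t, htZ⟩ : Subgroup.center G) = 2 := by
        rw [← ht, ← Subgroup.orderOf_coe]
      have hdvd : 2 ∣ Nat.card (Subgroup.center G) := by
        rw [← h2]; exact orderOf_dvd_natCard _
      exact (Nat.not_even_iff_odd.2 hZ) (even_iff_two_dvd.2 hdvd)
    by_cases hbig : Nat.card G < c ^ 3
    · exact ⟨_, htop, hbig⟩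
    · have hc3 : c ^ 3 ≤ Nat.card G := not_lt.1 hbig
      have hP : ∃ k : ℕ, ∃ H : Subgroup G, H ≠ ⊤ ∧ H.index = k := ⟨_, _, htop, rfl⟩
      obtain ⟨H, hHne, hHidx⟩ := Nat.find_spec hP
      have hl : ∀ K : Subgroup G, K ≠ ⊤ → Nat.find hP ≤ K.index :=
        fun K hK => Nat.find_min' hP ⟨K, hK, rfl⟩
      have hcore := Cfsg.Agent.S0233.core hZ hidx2 (Nat.find hP) hl
      rw [← hHidx] at hcore
      have hNc := card_le_centralizer_mul_invs t ht
      rw [← hc] at hNc
      have hnpos : 0 < (invs G).card := Finset.card_pos.2 ⟨t, mem_invs.2 ht⟩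
      rw [← Nat.card_eq_fintype_card] at hcore hNc
      set k := (invs G).card with hk
      set N := Nat.card G with hN
      set l := H.index with hlidx
      have h2l : 2 * l < c * (c + 1) := by
        have h1 : 2 * l * k ^ 2 < N * (N + k) := by omega
        have h2 : N * (N + k) ≤ (c * k) * (c * k + k) := by
          apply Nat.mul_le_mul hNc
          omega
        have h3 : (c * k) * (c * k + k) = c * (c + 1) * k ^ 2 := by ring
        rw [h3] at h2
        have h4 : 2 * l * k ^ 2 < c * (c + 1) * k ^ 2 := lt_of_lt_of_le h1 h2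
        exact lt_of_mul_lt_mul_right h4 (Nat.zero_le _)
      have hcpos : 0 < c := Nat.card_pos
      have hlc : l < c ^ 2 := by nlinarith
      have hlpos : 0 < l := by
        rw [hlidx]
        exact Nat.pos_of_ne_zero (Subgroup.index_ne_zero_of_finite)
      refine ⟨H, hHne, ?_⟩
      have hHl : Nat.card H * l = N := H.card_mul_index
      -- l ^ 3 < N ^ 2
      have hl3 : l ^ 3 < N ^ 2 := by
        have h1 : l ^ 3 < (c ^ 2) ^ 3 := Nat.pow_lt_pow_left hlc (by norm_num)
        have h2 : (c ^ 2) ^ 3 = (c ^ 3) ^ 2 := by ring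
        have h3 : (c ^ 3) ^ 2 ≤ N ^ 2 := Nat.pow_le_pow_left hc3 2
        omega
      -- N * l^3 < N^3 = |H|^3 * l^3
      have h5 : N * l ^ 3 < (Nat.card H) ^ 3 * l ^ 3 := by
        have : (Nat.card H) ^ 3 * l ^ 3 = N ^ 3 := by rw [← hHl]; ring
        rw [this]
        have hNpos : 0 < N := by omega
        calc N * l ^ 3 < N * N ^ 2 := Nat.mul_lt_mul_of_pos_left hl3 hNpos
          _ = N ^ 3 := by ring
      exact lt_of_mul_lt_mul_right h5 (Nat.zero_le _)
  · -- a central involution
    have hZeven : 2 ∣ Nat.card (Subgroup.center G) := by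
      rw [← even_iff_two_dvd, ← Nat.not_odd_iff_even]; exact hZ
    obtain ⟨z, hz⟩ := exists_prime_orderOf_dvd_card' (G := Subgroup.center G) 2 hZeven
    have hz' : orderOf (z : G) = 2 := by rw [Subgroup.orderOf_coe]; exact hz
    set Zz : Subgroup G := Subgroup.zpowers (z : G) with hZz
    have hZzcard : Nat.card Zz = 2 := by rw [hZz, Nat.card_zpowers, hz']
    have hnorm : Zz.Normal := by
      constructor
      intro x hx g
      have hxc : x ∈ Subgroup.center G := by
        have : Zz ≤ Subgroup.center G := by
          rw [hZz, Subgroup.zpowers_le]; exact z.2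
        exact this hx
      have : g * x * g⁻¹ = x := by
        rw [Subgroup.mem_center_iff] at hxc
        rw [hxc g, mul_inv_cancel_right]
      rw [this]; exact hx
    have hQcard : Nat.card (G ⧸ Zz) * 2 = Nat.card G := by
      have := Zz.card_mul_index
      rw [hZzcard] at this
      rw [← this, Subgroup.index, mul_comm]
    -- the three cases for |G| / 2
    by_cases hsmall : Nat.card (G ⧸ Zz) ≤ 2
    · refine ⟨Zz, ?_, ?_⟩
      · intro htop
        have : Nat.card G = 2 := by
          rw [← hZzcard, htop]; exact (Nat.card_congr Subgroup.topEquiv.toEquiv).symm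
        omega
      · rw [hZzcard]; omega
    · by_cases hQodd : Odd (Nat.card (G ⧸ Zz))
      · exfalso
        exact hidx2 (exists_index_two_of_card_eq_two_mul_odd _ hQodd (by rw [← hQcard, mul_comm]))
      · have hQeven : Even (Nat.card (G ⧸ Zz)) := Nat.not_odd_iff_even.1 hQodd
        have hlt : Nat.card (G ⧸ Zz) < n := by omega
        obtain ⟨Hbar, hHbar, hHbarcard⟩ := ih _ hlt (G ⧸ Zz) rfl hQeven (by omega)
        set H : Subgroup G := Hbar.comap (QuotientGroup.mk' Zz) with hH
        have hidx : H.index = Hbar.index :=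
          Subgroup.index_comap_of_surjective Hbar (QuotientGroup.mk'_surjective Zz)
        refine ⟨H, ?_, ?_⟩
        · intro htop
          apply hHbar
          rw [← Subgroup.index_eq_one, ← hidx, htop, Subgroup.index_top]
        · have h1 := H.card_mul_index
          have h2 := Hbar.card_mul_index
          rw [hidx] at h1
          have hidxpos : 0 < Hbar.index := Nat.pos_of_ne_zero Subgroup.index_ne_zero_of_finite
          have h3 : Nat.card H = 2 * Nat.card Hbar := by
            have : Nat.card H * Hbar.index = (2 * Nat.card Hbar) * Hbar.index := by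
              rw [h1, ← hQcard, ← h2]; ring
            exact Nat.eq_of_mul_eq_mul_right hidxpos this
          rw [h3]
          have : (2 * Nat.card Hbar) ^ 3 = 8 * (Nat.card Hbar) ^ 3 := by ring
          rw [this]
          omega

theorem result {G : Type*} [Group G] [Finite G] (heven : Even (Nat.card G)) (hgt : 2 < Nat.card G) : ∃ H : Subgroup G, H ≠ ⊤ ∧ Nat.card G < (Nat.card H) ^ 3 :=
  aux _ G rfl heven hgt

end Cfsg.Agent.S0232
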