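import Mathlib
import Cfsg.Statements.S0234
import Cfsg.Agent.Lib.Helper52_Involutions
import Cfsg.Agent.S0233
import Cfsg.Agent.S0232
import Cfsg.Agent.S0991
import Cfsg.Agent.S0494

set_option autoImplicit false
open Cfsg
open Cfsg.Agent.Lib.Helper52_Involutions

namespace Cfsg.Agent.S0234

set_option maxRecDepth 100000 in
theorem a5_count :
    (Finset.univ.filter (fun t : alternatingGroup (Fin 5) => t ^ 2 = 1 ∧ t ≠ 1)).card = 15 := by
  decide

theorem a5_invs : Nat.card {t : alternatingGroup (Fin 5) // orderOf t = 2} = 15 := by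
  rw [Nat.card_eq_fintype_card, Fintype.card_subtype, ← a5_count]
  congr 1
  ext t
  simp only [Finset.mem_filter, Finset.mem_univ, true_and]
  exact orderOf_eq_prime_iff

/-- a non-abelian simple group with a proper subgroup of index `j` has order dividing `j!/2`. -/
theorem two_mul_card_dvd_factorial_index {G : Type*} [Group G] [Finite G] [IsSimpleGroup G]
    (hG : ¬ IsMulCommutative G) (H : Subgroup G) (hH : H ≠ ⊤) :
    2 * Nat.card G ∣ Nat.factorial H.index := by
  obtain ⟨f, hf⟩ := Cfsg.Agent.S0991.result hG H hH
  have h1 : Nat.card G ∣ Nat.card (alternatingGroup (Fin H.index)) :=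
    Subgroup.card_dvd_of_injective f hf
  have hne0 : H.index ≠ 0 := Subgroup.index_ne_zero_of_finite
  have hne1 : H.index ≠ 1 := fun h => hH (Subgroup.index_eq_one.mp h)
  have : Nontrivial (Fin H.index) := Fin.nontrivial_iff_two_le.mpr (by omega)
  have h2 : 2 * Nat.card (alternatingGroup (Fin H.index)) = Nat.factorial H.index := by
    rw [two_mul_nat_card_alternatingGroup, Nat.card_perm, Nat.card_eq_fintype_card,
      Fintype.card_fin]
  rw [← h2]
  exact Nat.mul_dvd_mul_left 2 h1

/-- a subgroup of prime power order `p ^ n` has index `N / p ^ n`. -/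
theorem exists_subgroup_index {G : Type*} [Group G] [Finite G] (p n j : ℕ) [Fact p.Prime]
    (hj : Nat.card G = p ^ n * j) : ∃ K : Subgroup G, K.index = j := by
  obtain ⟨K, hK⟩ := Sylow.exists_subgroup_card_pow_prime p (n := n) (G := G) ⟨j, hj⟩
  refine ⟨K, ?_⟩
  have h := K.card_mul_index
  rw [hK, hj] at h
  have hpos : 0 < p ^ n := pow_pos (Fact.out : p.Prime).pos n
  exact Nat.eq_of_mul_eq_mul_left hpos h

/-- In a finite simple group G of even order greater than 2, the number n of involutions satisfies 3n < |G|. -/
theorem result {G : Type*} [Group G] [Finite G] [IsSimpleGroup G] (heven : Even (Nat.card G)) (hgt : 2 < Nat.card G) : 3 * Nat.card {t : G // orderOf t = 2} < Nat.card G := by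
  classical
  have : Fintype G := Fintype.ofFinite G
  have : Fact (Nat.Prime 2) := ⟨Nat.prime_two⟩
  obtain ⟨t, ht⟩ := exists_prime_orderOf_dvd_card' (G := G) 2 (even_iff_two_dvd.mp heven)
  -- no subgroup of index two
  have hno2 : ¬ ∃ H : Subgroup G, H.index = 2 := by
    rintro ⟨H, hH⟩
    have hn := Subgroup.normal_of_index_eq_two hH
    rcases IsSimpleGroup.eq_bot_or_eq_top_of_normal H hn with h | h
    · rw [h, Subgroup.index_bot] at hH; omega
    · rw [h, Subgroup.index_top] at hH; omega
  -- G is not commutative
  have hG : ¬ IsMulCommutative G := by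
    intro hcomm
    have hnorm : (Subgroup.zpowers t).Normal := by
      constructor
      intro x hx g
      have : g * x * g⁻¹ = x := by
        rw [hcomm.is_comm.comm g x, mul_inv_cancel_right]
      rwa [this]
    rcases IsSimpleGroup.eq_bot_or_eq_top_of_normal _ hnorm with h | h
    · rw [Subgroup.zpowers_eq_bot] at h
      rw [h] at ht; simp at ht
    · have hc : Nat.card (Subgroup.zpowers t) = Nat.card G := by
        rw [h]; exact Nat.card_congr Subgroup.topEquiv.toEquiv
      rw [Nat.card_zpowers, ht] at hc
      omega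
  have hZ : Subgroup.center G = ⊥ := by
    rcases IsSimpleGroup.eq_bot_or_eq_top_of_normal (Subgroup.center G) inferInstance with h | h
    · exact h
    · exfalso; apply hG
      constructor
      constructor
      intro a b
      have : a ∈ Subgroup.center G := by rw [h]; trivial
      exact ((Subgroup.mem_center_iff.1 this) b).symm
  have hZodd : Odd (Nat.card (Subgroup.center G)) := by rw [hZ]; simp
  rw [Cfsg.Agent.S0233.natCard_involutions, Nat.card_eq_fintype_card]
  have hnpos : 0 < (invs G).card := Finset.card_pos.2 ⟨t, mem_invs.2 ht⟩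
  by_contra hcon
  rw [not_lt] at hcon
  -- a proper subgroup of index at most five
  have hex : ∃ H : Subgroup G, H ≠ ⊤ ∧ H.index < 6 := by
    by_contra hne
    simp only [not_exists, not_and, not_lt] at hne
    have hcore := Cfsg.Agent.S0233.core hZodd hno2 6 hne
    set n := (invs G).card with hn
    set N := Fintype.card G with hN
    have h1 : N * (N + n) ≤ (3 * n) * (3 * n + n) := Nat.mul_le_mul hcon (by omega)
    have hNpos : 0 < N := Fintype.card_pos
    nlinarith
  obtain ⟨H, hHne, hHidx⟩ := hex
  have hdvd := two_mul_card_dvd_factorial_index hG H hHne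
  have h120 : 2 * Nat.card G ∣ 120 := by
    have : Nat.factorial H.index ∣ Nat.factorial 5 := Nat.factorial_dvd_factorial (by omega)
    exact hdvd.trans this
  have h60 : Nat.card G ∣ 60 := by
    have : 2 * Nat.card G ∣ 2 * 60 := h120
    exact Nat.dvd_of_mul_dvd_mul_left (by norm_num) this
  have hle60 : Nat.card G ≤ 60 := Nat.le_of_dvd (by norm_num) h60
  rw [← Nat.card_eq_fintype_card] at hcon
  obtain ⟨m, hm⟩ := heven
  -- the possible orders
  have hcases : Nat.card G = 4 ∨ Nat.card G = 6 ∨ Nat.card G = 10 ∨ Nat.card G = 12 ∨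
      Nat.card G = 20 ∨ Nat.card G = 30 ∨ Nat.card G = 60 := by
    generalize Nat.card G = N at *
    have hm30 : m ≤ 30 := by omega
    subst hm
    interval_cases m <;> omega
  have small : ∀ (p n j : ℕ), p.Prime → Nat.card G = p ^ n * j → j ≠ 1 →
      ¬ (2 * Nat.card G ∣ Nat.factorial j) → False := by
    intro p n j hp hj hj1 hnd
    have : Fact p.Prime := ⟨hp⟩
    obtain ⟨K, hK⟩ := exists_subgroup_index p n j hj
    have hKne : K ≠ ⊤ := by
      rintro rfl
      rw [Subgroup.index_top] at hK
      exact hj1 hK.symm
    have := two_mul_card_dvd_factorial_index hG K hKne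
    rw [hK] at this
    exact hnd this
  rcases hcases with h | h | h | h | h | h | h
  · exact small 2 1 2 Nat.prime_two (by rw [h]; norm_num) (by norm_num) (by rw [h]; decide)
  · exact hno2 (Cfsg.Agent.S0232.exists_index_two_of_card_eq_two_mul_odd 3 (by decide) (by rw [h]))
  · exact hno2 (Cfsg.Agent.S0232.exists_index_two_of_card_eq_two_mul_odd 5 (by decide) (by rw [h]))
  · exact small 2 2 3 Nat.prime_two (by rw [h]; norm_num) (by norm_num) (by rw [h]; decide)
  · exact small 5 1 4 (by norm_num) (by rw [h]; norm_num) (by norm_num) (by rw [h]; decide)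
  · exact hno2 (Cfsg.Agent.S0232.exists_index_two_of_card_eq_two_mul_odd 15 (by decide) (by rw [h]))
  · obtain ⟨e⟩ := Cfsg.Agent.S0494.result h
    have hinv : Nat.card {t : G // orderOf t = 2} = 15 := by
      rw [← a5_invs]
      apply Nat.card_congr
      exact e.toEquiv.subtypeEquiv (fun t => by simp [MulEquiv.orderOf_eq])
    rw [Cfsg.Agent.S0233.natCard_involutions] at hinv
    rw [hinv, h] at hcon
    omega

end Cfsg.Agent.S0234
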