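import Cfsg.Statements.S0238
import Cfsg.Agent.Lib.Helper4_InvPairs
import Cfsg.Agent.S0236
import Cfsg.Agent.S0237

set_option autoImplicit false
open Cfsg

namespace Cfsg.Agent.S0238

open Cfsg.Agent.Lib.Helper4_InvPairs

theorem card_zero_of_not_real {G : Type*} [Group G] [Finite G] (x : G) (h : ¬ IsConj x x⁻¹) :
    Nat.card {p : G × G // orderOf p.1 = 2 ∧ orderOf p.2 = 2 ∧ p.1 * p.2 = x} = 0 := by
  rw [Nat.card_congr (pairEquiv x)]
  have : IsEmpty {t : G // orderOf t = 2 ∧ t * x * t⁻¹ = x⁻¹ ∧ t ≠ x} := by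
    constructor
    rintro ⟨t, -, ht, -⟩
    exact h (isConj_iff.mpr ⟨t, ht⟩)
  exact Nat.card_of_isEmpty

theorem card_le {G : Type*} [Group G] [Finite G] (x : G) :
    Nat.card {p : G × G // orderOf p.1 = 2 ∧ orderOf p.2 = 2 ∧ p.1 * p.2 = x} ≤
      Nat.card (Subgroup.centralizer ({x} : Set G)) := by
  by_cases h : IsConj x x⁻¹
  · rw [← Cfsg.Agent.S0237.result x h, Nat.card_congr (pairEquiv x)]
    apply Nat.card_le_card_of_injective
      (fun t : {t : G // orderOf t = 2 ∧ t * x * t⁻¹ = x⁻¹ ∧ t ≠ x} =>
        (⟨t.1, t.2.2.1⟩ : {g : G // g * x * g⁻¹ = x⁻¹}))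
    intro a b hab
    ext
    have := congrArg Subtype.val hab
    simpa using this
  · rw [card_zero_of_not_real x h]
    exact Nat.zero_le _

theorem card_add_two_le {G : Type*} [Group G] [Finite G] (x : G) (hx : orderOf x = 2) :
    Nat.card {p : G × G // orderOf p.1 = 2 ∧ orderOf p.2 = 2 ∧ p.1 * p.2 = x} + 2 ≤
      Nat.card (Subgroup.centralizer ({x} : Set G)) := by
  have h1 := Cfsg.Agent.S0236.result x hx
  have : Nat.card {p : G × G // orderOf p.1 = 2 ∧ orderOf p.2 = 2 ∧ p.1 * p.2 = x} + 2 =
      Nat.card (Option {t : G // orderOf t = 2 ∧ Commute t x}) := by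
    rw [Finite.card_option, ← h1]
  rw [this]
  apply Nat.card_le_card_of_injective
    (fun o : Option {t : G // orderOf t = 2 ∧ Commute t x} =>
      match o with
      | none => (1 : Subgroup.centralizer ({x} : Set G))
      | some t => ⟨t.1, by
          rw [Subgroup.mem_centralizer_iff]
          intro y hy
          rw [Set.mem_singleton_iff] at hy
          subst hy
          exact t.2.2.eq.symm⟩)
  intro a b hab
  match a, b with
  | none, none => rfl
  | none, some t =>
    exfalso
    have : (1 : G) = t.1 := by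
      have := congrArg Subtype.val hab
      simpa using this
    exact ne_one_of_orderOf_two t.2.1 this.symm
  | some t, none =>
    exfalso
    have : t.1 = (1 : G) := by
      have := congrArg Subtype.val hab
      simpa using this
    exact ne_one_of_orderOf_two t.2.1 this
  | some t, some s =>
    have : t.1 = s.1 := by
      have := congrArg Subtype.val hab
      simpa using this
    congr 1
    ext
    exact this

/-- For every x in a finite group G, the number c of ordered pairs (u, v) of involutions with uv = x is at most |C_G(x)|; c = 0 when x is not conjugate to x⁻¹; and c + 2 ≤ |C_G(x)| when x is an involution. -/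
theorem result {G : Type*} [Group G] [Finite G] (x : G) : Nat.card {p : G × G // orderOf p.1 = 2 ∧ orderOf p.2 = 2 ∧ p.1 * p.2 = x} ≤ Nat.card (Subgroup.centralizer ({x} : Set G)) ∧ (¬ IsConj x x⁻¹ → Nat.card {p : G × G // orderOf p.1 = 2 ∧ orderOf p.2 = 2 ∧ p.1 * p.2 = x} = 0) ∧ (orderOf x = 2 → Nat.card {p : G × G // orderOf p.1 = 2 ∧ orderOf p.2 = 2 ∧ p.1 * p.2 = x} + 2 ≤ Nat.card (Subgroup.centralizer ({x} : Set G))) :=
  ⟨card_le x, card_zero_of_not_real x, card_add_two_le x⟩

end Cfsg.Agent.S0238
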