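import Cfsg.Statements.S0239
import Mathlib

set_option autoImplicit false
open Cfsg

namespace Cfsg.Agent.S0239

/-- If some nontrivial element x of a finite group G is conjugate to x⁻¹, then |G| is even. -/
theorem result {G : Type*} [Group G] [Finite G] (x : G) (hx : x ≠ 1) (hreal : IsConj x x⁻¹) : Even (Nat.card G) := by
  by_contra hodd
  rw [Nat.not_even_iff_odd] at hodd
  obtain ⟨g, hg⟩ := isConj_iff.mp hreal
  -- g^2 commutes with x
  have hg2 : g ^ 2 * x * (g ^ 2)⁻¹ = x := by
    have : g ^ 2 * x * (g ^ 2)⁻¹ = g * (g * x * g⁻¹) * g⁻¹ := by rw [pow_two]; group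
    rw [this, hg]
    have : g * x⁻¹ * g⁻¹ = (g * x * g⁻¹)⁻¹ := by group
    rw [this, hg, inv_inv]
  -- g is a power of g^2 since order of g is odd
  have hordg : Odd (orderOf g) := by
    have := orderOf_dvd_natCard g
    exact Odd.of_dvd_nat hodd this
  obtain ⟨k, hk⟩ := hordg
  have hgpow : g = (g ^ 2) ^ (k + 1) := by
    rw [← pow_mul]
    have : 2 * (k + 1) = orderOf g + 1 := by omega
    rw [this, pow_succ, pow_orderOf_eq_one, one_mul]
  have hcomm : Commute (g ^ 2) x := by
    have : g ^ 2 * x = x * g ^ 2 := by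
      calc g ^ 2 * x = g ^ 2 * x * (g ^ 2)⁻¹ * g ^ 2 := by group
        _ = x * g ^ 2 := by rw [hg2]
    exact this
  have hcomm' : Commute g x := by
    rw [hgpow]; exact hcomm.pow_left _
  have hxx : x = x⁻¹ := by
    have : g * x * g⁻¹ = x := by
      rw [hcomm'.eq]; group
    rw [this] at hg
    exact hg
  have hx2 : x ^ 2 = 1 := by
    rw [pow_two]
    nth_rewrite 2 [hxx]
    group
  have hordx : orderOf x ∣ 2 := orderOf_dvd_of_pow_eq_one hx2
  have hordx' : Odd (orderOf x) := Odd.of_dvd_nat hodd (orderOf_dvd_natCard x)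
  have : orderOf x = 1 := by
    rcases (Nat.dvd_prime Nat.prime_two).mp hordx with h | h
    · exact h
    · rw [h] at hordx'; exact absurd hordx' (by decide)
  exact hx (orderOf_eq_one_iff.mp this)

end Cfsg.Agent.S0239
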