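import Cfsg.Statements.S0240
import Cfsg.Agent.Lib.Helper4_InvPairs

set_option autoImplicit false
open Cfsg

namespace Cfsg.Agent.S0240

open Cfsg.Agent.Lib.Helper4_InvPairs

/-- Let G be a finite group with n involutions and H a subgroup with |H|·(n+1) > |G|. Then some nontrivial h ∈ H is strongly real in G: an involution t of G satisfies t h t⁻¹ = h⁻¹. -/
theorem result {G : Type*} [Group G] [Finite G] (H : Subgroup G) (hH : Nat.card G < Nat.card H * (Nat.card {t : G // orderOf t = 2} + 1)) : ∃ h : G, h ∈ H ∧ h ≠ 1 ∧ ∃ t : G, orderOf t = 2 ∧ t * h * t⁻¹ = h⁻¹ := by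
  let e : Option {t : G // orderOf t = 2} → G := fun o =>
    match o with
    | none => 1
    | some t => t.1
  have he_inj : Function.Injective e := by
    intro a b hab
    match a, b with
    | none, none => rfl
    | none, some t =>
      exfalso; exact ne_one_of_orderOf_two t.2 hab.symm
    | some t, none =>
      exfalso; exact ne_one_of_orderOf_two t.2 hab
    | some t, some s =>
      congr 1; ext; exact hab
  have he_sq : ∀ o, e o * e o = 1 := by
    intro o
    match o with
    | none => simp [e]
    | some t => exact mul_self_of_orderOf_two t.2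
  have he_inv : ∀ o, (e o)⁻¹ = e o := by
    intro o
    rw [inv_eq_iff_mul_eq_one]; exact he_sq o
  let f : Option {t : G // orderOf t = 2} → G ⧸ H := fun o => (e o : G ⧸ H)
  have hcard : Nat.card (G ⧸ H) < Nat.card (Option {t : G // orderOf t = 2}) := by
    rw [Finite.card_option]
    have h1 := Subgroup.card_eq_card_quotient_mul_card_subgroup H
    rw [h1, mul_comm] at hH
    have hpos : 0 < Nat.card H := Nat.card_pos
    exact lt_of_mul_lt_mul_left hH (Nat.zero_le _)
  obtain ⟨a, b, hab, hfab⟩ : ∃ a b, a ≠ b ∧ f a = f b := by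
    by_contra hcon
    have hinj : Function.Injective f := by
      intro a b hfab
      by_contra hne
      exact hcon ⟨a, b, hne, hfab⟩
    have := Nat.card_le_card_of_injective f hinj
    omega
  have hmem : (e a)⁻¹ * e b ∈ H := by
    have := QuotientGroup.eq.mp hfab
    exact this
  have hne : (e a)⁻¹ * e b ≠ 1 := by
    intro h
    apply hab
    apply he_inj
    have := congrArg (fun w => e a * w) h
    simpa using this.symm
  refine ⟨(e a)⁻¹ * e b, hmem, hne, ?_⟩
  -- choose the inverting involution
  match a, b, hab, hne with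
  | none, none, hab, _ => exact absurd rfl hab
  | none, some t, _, _ =>
    refine ⟨t.1, t.2, ?_⟩
    simp only [e, inv_one, one_mul]
    rw [inv_eq_self_of_orderOf_two t.2, mul_self_of_orderOf_two t.2, one_mul]
  | some s, none, _, _ =>
    refine ⟨s.1, s.2, ?_⟩
    simp only [e, mul_one, inv_inv]
    rw [inv_eq_self_of_orderOf_two s.2, mul_self_of_orderOf_two s.2, one_mul]
  | some s, some t, _, _ =>
    refine ⟨s.1, s.2, ?_⟩
    simp only [e]
    rw [mul_inv_rev, inv_inv, inv_eq_self_of_orderOf_two s.2, inv_eq_self_of_orderOf_two t.2]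
    rw [← mul_assoc, mul_self_of_orderOf_two s.2, one_mul]

end Cfsg.Agent.S0240
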