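import Cfsg.Statements.S0241
import Cfsg.Agent.Lib.Helper4_InvPairs

set_option autoImplicit false
open Cfsg

namespace Cfsg.Agent.S0241

open Cfsg.Agent.Lib.Helper4_InvPairs

/-- If x ≠ 1 is conjugate to x⁻¹ in a finite group G and |C_G(x)| is odd, then some involution t satisfies t x t⁻¹ = x⁻¹. -/
theorem result {G : Type*} [Group G] [Finite G] (x : G) (hx : x ≠ 1) (hreal : IsConj x x⁻¹) (hodd : Odd (Nat.card (Subgroup.centralizer ({x} : Set G)))) : ∃ t : G, orderOf t = 2 ∧ t * x * t⁻¹ = x⁻¹ := by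
  obtain ⟨g, hg⟩ := isConj_iff.mp hreal
  -- g^2 commutes with x
  have hg2 : g ^ 2 * x * (g ^ 2)⁻¹ = x := by
    have : g ^ 2 * x * (g ^ 2)⁻¹ = g * (g * x * g⁻¹) * g⁻¹ := by rw [pow_two]; group
    rw [this, hg]
    have : g * x⁻¹ * g⁻¹ = (g * x * g⁻¹)⁻¹ := by group
    rw [this, hg, inv_inv]
  have hcomm : Commute (g ^ 2) x := by
    have : g ^ 2 * x = x * g ^ 2 := by
      calc g ^ 2 * x = g ^ 2 * x * (g ^ 2)⁻¹ * g ^ 2 := by group
        _ = x * g ^ 2 := by rw [hg2]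
    exact this
  have hmem : g ^ 2 ∈ Subgroup.centralizer ({x} : Set G) := by
    rw [Subgroup.mem_centralizer_iff]
    intro y hy
    rw [Set.mem_singleton_iff] at hy
    subst hy
    exact hcomm.eq.symm
  have hk : Odd (orderOf (g ^ 2)) := by
    have h1 : orderOf (⟨g ^ 2, hmem⟩ : Subgroup.centralizer ({x} : Set G)) = orderOf (g ^ 2) := by
      rw [← Subgroup.orderOf_coe]
    have h2 := orderOf_dvd_natCard (⟨g ^ 2, hmem⟩ : Subgroup.centralizer ({x} : Set G))
    rw [h1] at h2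
    exact Odd.of_dvd_nat hodd h2
  obtain ⟨j, hj⟩ := hk
  set t := g ^ (orderOf (g ^ 2)) with ht
  have htt : t * t = 1 := by
    rw [ht, ← pow_add, ← two_mul, pow_mul, pow_orderOf_eq_one]
  have htx : t * x * t⁻¹ = x⁻¹ := by
    have e : t = (g ^ 2) ^ j * g := by
      rw [ht, hj, pow_succ, pow_mul]
    have hc : Commute ((g ^ 2) ^ j) x := hcomm.pow_left j
    have hc' : Commute ((g ^ 2) ^ j) x⁻¹ := hc.inv_right
    calc t * x * t⁻¹ = (g ^ 2) ^ j * (g * x * g⁻¹) * ((g ^ 2) ^ j)⁻¹ := by rw [e]; group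
      _ = (g ^ 2) ^ j * x⁻¹ * ((g ^ 2) ^ j)⁻¹ := by rw [hg]
      _ = x⁻¹ * (g ^ 2) ^ j * ((g ^ 2) ^ j)⁻¹ := by rw [hc'.eq]
      _ = x⁻¹ := by group
  refine ⟨t, ?_, htx⟩
  apply orderOf_two_of_mul_self htt
  intro h1
  rw [h1] at htx
  simp only [one_mul, inv_one, mul_one] at htx
  have hxx : x * x = 1 := by
    nth_rewrite 1 [htx]; group
  have hox : orderOf x = 2 := orderOf_two_of_mul_self hxx hx
  have hxm : x ∈ Subgroup.centralizer ({x} : Set G) := by
    rw [Subgroup.mem_centralizer_iff]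
    intro y hy
    rw [Set.mem_singleton_iff] at hy
    subst hy
    rfl
  have h1 : orderOf (⟨x, hxm⟩ : Subgroup.centralizer ({x} : Set G)) = orderOf x := by
    rw [← Subgroup.orderOf_coe]
  have h2 := orderOf_dvd_natCard (⟨x, hxm⟩ : Subgroup.centralizer ({x} : Set G))
  rw [h1, hox] at h2
  have := Odd.of_dvd_nat hodd h2
  exact absurd this (by decide)

end Cfsg.Agent.S0241
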