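import Mathlib
import Cfsg.Agent.S0245
import Cfsg.Statements.S0247

set_option autoImplicit false
open Cfsg

namespace Cfsg.Agent.S0247

open Matrix

variable (F : Type*) [Field F]

/-- permutation matrix with `P σ *ᵥ x = x ∘ σ⁻¹` -/
def P (σ : Equiv.Perm (Fin 6)) : Matrix (Fin 6) (Fin 6) F := fun i j => if i = σ j then 1 else 0

lemma P_mul (σ τ : Equiv.Perm (Fin 6)) : P F (σ * τ) = P F σ * P F τ := by
  ext i j
  simp only [P, Matrix.mul_apply, Equiv.Perm.mul_apply]
  rw [Finset.sum_eq_single (τ j)]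
  · by_cases h : i = σ (τ j) <;> simp [h]
  · intro b _ hb
    simp [hb]
  · simp

lemma P_one : P F 1 = 1 := by
  ext i j
  by_cases h : i = j <;> simp [P, Matrix.one_apply, h]

lemma P_mulVec_one (σ : Equiv.Perm (Fin 6)) : P F σ *ᵥ (fun _ => 1) = fun _ => 1 := by
  ext i
  simp only [P, Matrix.mulVec, dotProduct, mul_one]
  rw [Finset.sum_eq_single (σ⁻¹ i)]
  · simp
  · intro b _ hb
    have : i ≠ σ b := by
      intro h; apply hb; rw [h]; simp
    simp [this]
  · simp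

lemma one_vecMul_P (σ : Equiv.Perm (Fin 6)) : (fun _ => 1) ᵥ* P F σ = fun _ => 1 := by
  ext j
  simp only [P, Matrix.vecMul, dotProduct, one_mul]
  rw [Finset.sum_eq_single (σ j)]
  · simp
  · intro b _ hb
    simp [hb]
  · simp

lemma P_transpose_mul (σ : Equiv.Perm (Fin 6)) : (P F σ)ᵀ * P F σ = 1 := by
  ext i j
  simp only [P, Matrix.mul_apply, Matrix.transpose_apply, Matrix.one_apply]
  by_cases hij : i = j
  · subst hij
    rw [Finset.sum_eq_single (σ i)]
    · simp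
    · intro b _ hb; simp [hb]
    · simp
  · simp only [hij, if_false]
    apply Finset.sum_eq_zero
    intro b _
    by_cases h1 : b = σ i
    · have : b ≠ σ j := by
        rw [h1]; intro h; exact hij (σ.injective h)
      simp [this]
    · simp [h1]

lemma vmv_zero {m n : Type*} (w : m → F) : Matrix.vecMulVec w (0 : n → F) = 0 := by
  ext i j; simp [Matrix.vecMulVec_apply]

def Smat : Matrix (Fin 6) (Fin 2 ⊕ Fin 2) F := fun i j =>
  Sum.elim (fun a => (![![1,1,0,0,0,0], ![0,0,0,1,1,0]] : Fin 2 → Fin 6 → F) a i)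
    (fun a => (![![0,1,1,0,0,0], ![0,0,0,0,1,1]] : Fin 2 → Fin 6 → F) a i) j

def Cmat : Matrix (Fin 2 ⊕ Fin 2) (Fin 6) F := fun i j =>
  Sum.elim (fun a => (![![0,1,1,0,0,0], ![0,0,0,0,1,1]] : Fin 2 → Fin 6 → F) a j)
    (fun a => (![![1,1,0,0,0,0], ![0,0,0,1,1,0]] : Fin 2 → Fin 6 → F) a j) i

def tvec : Fin 6 → F := ![1,1,1,0,0,0]
def wvec : Fin 6 → F := ![0,0,0,1,1,1]

def Mmat (σ : Equiv.Perm (Fin 6)) : Matrix (Fin 2 ⊕ Fin 2) (Fin 2 ⊕ Fin 2) F :=
  Cmat F * P F σ * Smat F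

section
variable {F}
variable (h2 : (1 : F) + 1 = 0)
include h2

lemma C_mul_S : Cmat F * Smat F = 1 := by
  ext i j
  rcases i with i | i <;> rcases j with j | j <;> fin_cases i <;> fin_cases j <;>
    simp [Cmat, Smat, Matrix.mul_apply, Fin.sum_univ_six, h2]

lemma St_mul_S : (Smat F)ᵀ * Smat F = Matrix.J (Fin 2) F := by
  have h3 : (-1 : F) = 1 := by
    rw [neg_eq_iff_add_eq_zero]; exact h2
  ext i j
  rcases i with i | i <;> rcases j with j | j <;> fin_cases i <;> fin_cases j <;>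
    simp [Smat, Matrix.mul_apply, Fin.sum_univ_six, h2, Matrix.J, h3]

lemma S_mul_C : Smat F * Cmat F = 1 + Matrix.vecMulVec (fun _ => 1) (tvec F) + Matrix.vecMulVec (wvec F) (fun _ => 1) := by
  ext i j
  rw [Matrix.add_apply, Matrix.add_apply, Matrix.vecMulVec_apply, Matrix.vecMulVec_apply, Matrix.mul_apply,
    Fintype.sum_sum_type, Fin.sum_univ_two, Fin.sum_univ_two]
  fin_cases i <;> fin_cases j <;>
    simp [Cmat, Smat, tvec, wvec, h2]

lemma C_mulVec_one : Cmat F *ᵥ (fun _ => 1) = 0 := by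
  ext i
  rcases i with i | i <;> fin_cases i <;>
    simp [Cmat, Matrix.mulVec, dotProduct, Fin.sum_univ_six, h2]

lemma one_vecMul_S : (fun _ => 1) ᵥ* Smat F = 0 := by
  ext i
  rcases i with i | i <;> fin_cases i <;>
    simp [Smat, Matrix.vecMul, dotProduct, Fin.sum_univ_six, h2]

lemma one_vecMul_PS (σ : Equiv.Perm (Fin 6)) :
    (fun _ => 1) ᵥ* (P F σ * Smat F) = 0 := by
  rw [← Matrix.vecMul_vecMul, one_vecMul_P, one_vecMul_S h2]

lemma S_mul_M (σ : Equiv.Perm (Fin 6)) :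
    Smat F * Mmat F σ = P F σ * Smat F + Matrix.vecMulVec (fun _ => 1) (tvec F ᵥ* (P F σ * Smat F)) := by
  have : Smat F * Mmat F σ = (Smat F * Cmat F) * (P F σ * Smat F) := by
    simp only [Mmat, Matrix.mul_assoc]
  rw [this, S_mul_C h2, Matrix.add_mul, Matrix.add_mul, Matrix.one_mul, Matrix.vecMulVec_mul, Matrix.vecMulVec_mul,
    one_vecMul_PS h2, vmv_zero, add_zero]

lemma M_mul (σ τ : Equiv.Perm (Fin 6)) : Mmat F (σ * τ) = Mmat F σ * Mmat F τ := by
  have : Mmat F σ * Mmat F τ = Cmat F * P F σ * (Smat F * Mmat F τ) := by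
    simp only [Mmat, Matrix.mul_assoc]
  rw [this, S_mul_M h2, Matrix.mul_add, Matrix.mul_vecMulVec, ← Matrix.mulVec_mulVec, P_mulVec_one, C_mulVec_one h2,
    Matrix.zero_vecMulVec, add_zero]
  simp only [Mmat, P_mul, Matrix.mul_assoc]

lemma M_one : Mmat F 1 = 1 := by
  rw [Mmat, P_one, Matrix.mul_one, C_mul_S h2]

lemma M_mem (σ : Equiv.Perm (Fin 6)) : Mmat F σ ∈ Matrix.symplecticGroup (Fin 2) F := by
  rw [SymplecticGroup.mem_iff', ← St_mul_S h2]
  have h6 : ((fun _ => 1 : Fin 6 → F) ⬝ᵥ fun _ => 1) = 0 := by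
    simp only [dotProduct, Fin.sum_univ_six, mul_one]
    linear_combination 3 * h2
  have : (Mmat F σ)ᵀ * ((Smat F)ᵀ * Smat F) * Mmat F σ
      = (Smat F * Mmat F σ)ᵀ * (Smat F * Mmat F σ) := by
    rw [Matrix.transpose_mul]; simp only [Matrix.mul_assoc]
  rw [this, S_mul_M h2, Matrix.transpose_add, Matrix.transpose_vecMulVec, Matrix.add_mul, Matrix.mul_add, Matrix.mul_add,
    Matrix.vecMulVec_mul_vecMulVec, h6, zero_smul, vmv_zero, Matrix.vecMulVec_mul, one_vecMul_PS h2,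
    vmv_zero, Matrix.mul_vecMulVec, Matrix.mulVec_transpose, one_vecMul_PS h2, Matrix.zero_vecMulVec,
    add_zero, add_zero, add_zero, Matrix.transpose_mul, Matrix.mul_assoc, ← Matrix.mul_assoc _ (P F σ), P_transpose_mul,
    Matrix.one_mul]

end

section
variable {F}
variable (h2 : (1 : F) + 1 = 0)

def phi : Equiv.Perm (Fin 6) →* Matrix.symplecticGroup (Fin 2) F where
  toFun σ := ⟨Mmat F σ, M_mem h2 σ⟩
  map_one' := Subtype.ext (M_one h2)
  map_mul' σ τ := Subtype.ext (M_mul h2 σ τ)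

lemma phi_injective : Function.Injective (phi h2) := by
  rw [← MonoidHom.ker_eq_bot_iff]
  by_contra hne
  have hnt : Nontrivial (phi h2).ker := (Subgroup.nontrivial_iff_ne_bot _).mpr hne
  have hle := Equiv.Perm.alternatingGroup_le_of_normal (α := Fin 6) (by simp) hnt
  have hc : (Equiv.swap (0 : Fin 6) 1 * Equiv.swap 1 2) ∈ alternatingGroup (Fin 6) := by
    rw [Equiv.Perm.mem_alternatingGroup, Equiv.Perm.sign_mul, Equiv.Perm.sign_swap (by decide), Equiv.Perm.sign_swap (by decide)]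
    rfl
  have hk := hle hc
  rw [MonoidHom.mem_ker] at hk
  have h00 := congrArg (fun g : Matrix.symplecticGroup (Fin 2) F => (g : Matrix (Fin 2 ⊕ Fin 2) (Fin 2 ⊕ Fin 2) F) (Sum.inl 0) (Sum.inl 0)) hk
  have c0 : (Equiv.swap (0 : Fin 6) 1) ((Equiv.swap (1 : Fin 6) 2) 0) = 1 := by decide
  have c1 : (Equiv.swap (0 : Fin 6) 1) 2 = 2 := by decide
  simp [phi, Mmat, Matrix.mul_apply, Fin.sum_univ_six, P, Cmat, Smat, c0, c1, h2] at h00

end


/-- Sp_4(2) is isomorphic to the symmetric group S_6. -/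
theorem result {F : Type*} [Field F] [Fintype F] (hF : Fintype.card F = 2) : Nonempty (Matrix.symplecticGroup (Fin 2) F ≃* Equiv.Perm (Fin 6)) := by
  have h2 : (1 : F) + 1 = 0 := by
    have := Nat.cast_card_eq_zero F
    rw [hF] at this
    rw [one_add_one_eq_two]; exact_mod_cast this
  have hcard : Nat.card (Matrix.symplecticGroup (Fin 2) F) = 720 := by
    rw [Cfsg.Agent.S0245.result hF 2]; norm_num [Finset.prod_range_succ]
  have hbij : Function.Bijective (phi h2) := by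
    rw [Nat.bijective_iff_injective_and_card]
    refine ⟨phi_injective h2, ?_⟩
    rw [hcard, Nat.card_eq_fintype_card, Fintype.card_perm, Fintype.card_fin]
    rfl
  exact ⟨(MulEquiv.ofBijective _ hbij).symm⟩

end Cfsg.Agent.S0247
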