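import Mathlib
import Cfsg.Agent.Lib.Helper5_PSLCard
import Cfsg.Statements.S0251

set_option autoImplicit false
open Cfsg

namespace Cfsg.Agent.S0251

/-- PSL_2(3) is isomorphic to A_4. -/
theorem result {F : Type*} [Field F] [Fintype F] (hF : Fintype.card F = 3) : Nonempty (Matrix.ProjectiveSpecialLinearGroup (Fin 2) F ≃* alternatingGroup (Fin 4)) := by
  obtain ⟨f, hf⟩ := Cfsg.Agent.Lib.Helper5_PSLCard.exists_injective_PSL2_perm (F := F) hF
  have h1 := Cfsg.Agent.Lib.Helper5_PSLCard.card_PSL_mul (F := F) 2 (by norm_num)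
  rw [Cfsg.Agent.Lib.Helper5_PSLCard.card_SL_two, hF] at h1
  have h2 : Nat.card (Matrix.ProjectiveSpecialLinearGroup (Fin 2) F) = 12 := by
    norm_num at h1
    omega
  exact Cfsg.Agent.Lib.Helper5_PSLCard.mulEquiv_alternatingGroup_of_injective f hf (by rw [h2]; rfl)

end Cfsg.Agent.S0251
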