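import Mathlib
import Cfsg.Agent.Lib.Helper5_SLGen
import Cfsg.Statements.S0264

set_option autoImplicit false
set_option linter.unusedSimpArgs false
open Cfsg

namespace Cfsg.Agent.S0264

open Matrix Matrix.SpecialLinearGroup
open scoped commutatorElement

variable {F : Type*} [Field F] {ι : Type*} [DecidableEq ι] [Fintype ι]

omit [Fintype ι] in
lemma diag_eq_single1 (i : ι) (a : F) :
    diagonal (fun k ↦ if k = i then a else 1) =
      (1 : Matrix ι ι F) + Matrix.single i i (a - 1) := by
  ext k l
  simp only [diagonal_apply, Matrix.add_apply, one_apply, single_apply]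
  grind

/-- the diagonal matrix with `a` at position `i`, as an element of `GL`. -/
noncomputable def dg (i : ι) (a : F) (ha : a ≠ 0) : GL ι F :=
  ⟨diagonal (fun k ↦ if k = i then a else 1), diagonal (fun k ↦ if k = i then a⁻¹ else 1),
    by
      rw [diagonal_mul_diagonal, ← diagonal_one]
      congr 1; funext k; by_cases hk : k = i <;> simp [hk, ha],
    by
      rw [diagonal_mul_diagonal, ← diagonal_one]
      congr 1; funext k; by_cases hk : k = i <;> simp [hk, ha]⟩

lemma commutator_dg_transvection {i j : ι} (hij : i ≠ j) (a : F) (ha : a ≠ 0) (b : F) :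
    ⁅dg i a ha, toGL (transvection hij b)⁆ = toGL (transvection hij ((a - 1) * b)) := by
  rw [commutatorElement_def, ← map_inv, transvection_inv]
  apply Units.ext
  simp only [Units.val_mul, coe_GL_coe_matrix, transvection_coe, dg, Units.inv_mk]
  rw [diag_eq_single1, diag_eq_single1]
  simp only [Matrix.transvection, mul_add, add_mul, mul_one, one_mul, single_mul_single_same,
    single_mul_single_of_ne _ _ _ _ hij, single_mul_single_of_ne _ _ _ _ hij.symm,
    zero_mul, add_zero, zero_add, mul_neg, neg_mul, mul_one, neg_neg, one_mul, mul_zero]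
  rw [Cfsg.Agent.Lib.Helper5_SLGen.single_eq_smul i i (a - 1),
    Cfsg.Agent.Lib.Helper5_SLGen.single_eq_smul i j b,
    Cfsg.Agent.Lib.Helper5_SLGen.single_eq_smul i j ((a - 1) * b),
    Cfsg.Agent.Lib.Helper5_SLGen.single_eq_smul i i (a⁻¹ - 1),
    Cfsg.Agent.Lib.Helper5_SLGen.single_eq_smul i i ((a - 1) * (a⁻¹ - 1)),
    Cfsg.Agent.Lib.Helper5_SLGen.single_eq_smul i j (-b),
    Cfsg.Agent.Lib.Helper5_SLGen.single_eq_smul i j (-((a - 1) * b)),
    Cfsg.Agent.Lib.Helper5_SLGen.single_eq_smul i j (-((a⁻¹ - 1) * b)),
    Cfsg.Agent.Lib.Helper5_SLGen.single_eq_smul i j (-((a - 1) * (a⁻¹ - 1) * b))]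
  match_scalars <;> field_simp <;> ring

theorem toGL_mem_commutator (hcard : 2 ≤ Fintype.card ι)
    (h : Fintype.card ι = 2 → ∃ a : F, a ≠ 0 ∧ a ≠ 1) (s : SpecialLinearGroup ι F) :
    toGL s ∈ commutator (GL ι F) := by
  have : Nontrivial ι := Fintype.one_lt_card_iff_nontrivial.mp (by omega)
  refine Cfsg.Agent.Lib.Helper5_SLGen.transvection_induction
    (fun s => toGL s ∈ commutator (GL ι F)) (fun i j hij c ↦ ?_) (fun A B hA hB ↦ ?_) s
  · by_cases hex : ∃ a : F, a ≠ 0 ∧ a ≠ 1
    · obtain ⟨a, ha0, ha1⟩ := hex
      have hne : a - 1 ≠ 0 := sub_ne_zero_of_ne ha1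
      have := commutator_dg_transvection hij a ha0 (c / (a - 1))
      rw [mul_div_cancel₀ c hne] at this
      show toGL (transvection hij c) ∈ commutator (GL ι F)
      rw [← this]
      exact Subgroup.commutator_mem_commutator (Subgroup.mem_top _) (Subgroup.mem_top _)
    · have h3 : 3 ≤ Fintype.card ι := by
        rcases Nat.lt_or_ge 2 (Fintype.card ι) with h' | h'
        · exact h'
        · exact absurd (h (le_antisymm h' hcard)) hex
      have hs : transvection hij c ∈ commutator (SpecialLinearGroup ι F) := by
        rw [Cfsg.Agent.Lib.Helper5_SLGen.commutator_eq_top_of_three_le_card h3]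
        exact Subgroup.mem_top _
      show toGL (transvection hij c) ∈ commutator (GL ι F)
      have := Subgroup.map_commutator (⊤ : Subgroup (SpecialLinearGroup ι F)) ⊤ (toGL : SpecialLinearGroup ι F →* GL ι F)
      have h2 : toGL (transvection hij c) ∈ Subgroup.map (toGL : SpecialLinearGroup ι F →* GL ι F) (commutator (SpecialLinearGroup ι F)) :=
        Subgroup.mem_map_of_mem _ hs
      rw [commutator_def, this] at h2
      exact Subgroup.commutator_mono le_top le_top h2
  · show toGL (A * B) ∈ commutator (GL ι F)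
    rw [map_mul]
    exact mul_mem hA hB


/-- GL_n(F)' = SL_n(F) (as the kernel of det), for every field F and every n, except n = 2 over the field of two elements. -/
theorem result {F : Type*} [Field F] (n : ℕ) (h : n = 2 → ∃ a : F, a ≠ 0 ∧ a ≠ 1) : commutator (Matrix.GeneralLinearGroup (Fin n) F) = (Matrix.GeneralLinearGroup.det : Matrix.GeneralLinearGroup (Fin n) F →* Fˣ).ker := by
  apply le_antisymm
  · exact Abelianization.commutator_subset_ker _
  · intro g hg
    rw [MonoidHom.mem_ker] at hg
    have hdet : (g : Matrix (Fin n) (Fin n) F).det = 1 := by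
      have := congrArg Units.val hg
      simpa using this
    obtain ⟨s, hs⟩ : ∃ s : SpecialLinearGroup (Fin n) F, g = toGL s := ⟨⟨g.1, hdet⟩, by ext; rfl⟩
    rw [hs]
    rcases Nat.lt_or_ge n 2 with hn | hn
    · have : Subsingleton (Fin n) := by
        interval_cases n
        · infer_instance
        · infer_instance
      have h1 : s = 1 := Subsingleton.elim _ _
      rw [h1, map_one]
      exact one_mem _
    · exact toGL_mem_commutator (by simpa using hn) (by simpa using h) _

end Cfsg.Agent.S0264
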