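import Cfsg.Statements.S0267
import Mathlib.FieldTheory.Finite.Basic
-- import your own Cfsg.Agent.* helpers here

set_option autoImplicit false
open Cfsg

namespace Cfsg.Agent.S0267

open Projectivization Matrix

/-- Two nonzero vectors of `F²` span the same line iff their cross product vanishes. -/
theorem mk_eq_mk_iff_cross {F : Type*} [Field F] (u v : Fin 2 → F) (hu : u ≠ 0) (hv : v ≠ 0) :
    Projectivization.mk F u hu = Projectivization.mk F v hv ↔ u 0 * v 1 - u 1 * v 0 = 0 := by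
  rw [mk_eq_mk_iff']
  constructor
  · rintro ⟨a, rfl⟩
    simp only [Pi.smul_apply, smul_eq_mul]
    ring
  · intro h
    by_cases hv0 : v 0 = 0
    · have hv1 : v 1 ≠ 0 := by
        intro hv1
        apply hv
        ext i
        fin_cases i <;> simp [hv0, hv1]
      refine ⟨u 1 / v 1, ?_⟩
      rw [hv0, mul_zero, sub_zero] at h
      have hu0 : u 0 = 0 := by
        rcases mul_eq_zero.mp h with h | h
        · exact h
        · exact absurd h hv1
      ext i
      fin_cases i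
      · simp [hv0, hu0]
      · simp [div_mul_cancel₀ _ hv1]
    · refine ⟨u 0 / v 0, ?_⟩
      ext i
      fin_cases i
      · simp [div_mul_cancel₀ _ hv0]
      · simp only [Fin.mk_one, Fin.isValue, Pi.smul_apply, smul_eq_mul]
        field_simp
        linear_combination h

theorem injective_vec3 {α : Type*} {a b c : α} (hab : a ≠ b) (hac : a ≠ c) (hbc : b ≠ c) :
    Function.Injective ![a, b, c] := by
  intro i j h
  fin_cases i <;> fin_cases j <;> simp_all

theorem e1_ne_zero {F : Type*} [Field F] : (![1, 0] : Fin 2 → F) ≠ 0 :=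
  fun h => one_ne_zero (congrFun h 0)

theorem e2_ne_zero {F : Type*} [Field F] : (![0, 1] : Fin 2 → F) ≠ 0 :=
  fun h => one_ne_zero (congrFun h 1)

theorem w_ne_zero {F : Type*} [Field F] (c : F) : (![1, c] : Fin 2 → F) ≠ 0 :=
  fun h => one_ne_zero (congrFun h 0)

/-- The triple of points `[1:0]`, `[0:1]`, `[1:c]` of the projective line. -/
noncomputable def stdEmb {F : Type*} [Field F] (c : F) (hc : c ≠ 0) :
    Fin 3 ↪ Projectivization F (Fin 2 → F) :=
  ⟨![Projectivization.mk F ![1, 0] e1_ne_zero, Projectivization.mk F ![0, 1] e2_ne_zero,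
      Projectivization.mk F ![1, c] (w_ne_zero c)],
    injective_vec3
      (by rw [Ne, mk_eq_mk_iff_cross]; simp)
      (by rw [Ne, mk_eq_mk_iff_cross]; simpa using hc)
      (by rw [Ne, mk_eq_mk_iff_cross]; simp)⟩

theorem forward {F : Type*} [Field F] [Fintype F]
    (h : MulAction.IsMultiplyPretransitive (Matrix.SpecialLinearGroup (Fin 2) F)
      (Projectivization F (Fin 2 → F)) 3) : ringChar F = 2 := by
  by_contra hF
  obtain ⟨n, hn⟩ := FiniteField.exists_nonsquare hF
  have hn0 : n ≠ 0 := by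
    rintro rfl
    exact hn IsSquare.zero
  obtain ⟨g, hg⟩ := h.exists_smul_eq (stdEmb 1 one_ne_zero) (stdEmb n hn0)
  have h0 := DFunLike.congr_fun hg 0
  have h1 := DFunLike.congr_fun hg 1
  have h2 := DFunLike.congr_fun hg 2
  have hdet := g.2
  rw [Matrix.det_fin_two] at hdet
  simp only [stdEmb, Function.Embedding.smul_apply, Function.Embedding.coeFn_mk, cons_val_zero,
    cons_val_one, cons_val_two, smul_mk, mk_eq_mk_iff_cross] at h0 h1 h2
  simp [Matrix.SpecialLinearGroup.smul_def, Matrix.smul_eq_mulVec, Matrix.mulVec, dotProduct,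
    Fin.sum_univ_two] at h0 h1 h2
  apply hn
  refine ⟨g.1 1 1, ?_⟩
  rw [mk_eq_mk_iff_cross] at h2
  simp [Matrix.mulVec, dotProduct, Fin.sum_univ_two, h0, h1] at h2
  rw [h1, zero_mul, sub_zero] at hdet
  linear_combination (g.1 1 1) * h2 - n * hdet

theorem exists_smul_std {F : Type*} [Field F] (hsq : ∀ a : F, IsSquare a)
    (x : Fin 3 ↪ Projectivization F (Fin 2 → F)) :
    ∃ g : Matrix.SpecialLinearGroup (Fin 2) F, g • stdEmb (1 : F) one_ne_zero = x := by
  obtain ⟨u, hu0, hxu⟩ : ∃ (u : Fin 2 → F) (hu0 : u ≠ 0), x 0 = Projectivization.mk F u hu0 :=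
    ⟨(x 0).rep, rep_nonzero _, (mk_rep _).symm⟩
  obtain ⟨v, hv0, hxv⟩ : ∃ (v : Fin 2 → F) (hv0 : v ≠ 0), x 1 = Projectivization.mk F v hv0 :=
    ⟨(x 1).rep, rep_nonzero _, (mk_rep _).symm⟩
  obtain ⟨w, hw0, hxw⟩ : ∃ (w : Fin 2 → F) (hw0 : w ≠ 0), x 2 = Projectivization.mk F w hw0 :=
    ⟨(x 2).rep, rep_nonzero _, (mk_rep _).symm⟩
  have hD : u 0 * v 1 - u 1 * v 0 ≠ 0 := by
    rw [Ne, ← mk_eq_mk_iff_cross u v hu0 hv0, ← hxu, ← hxv]
    intro h
    have := x.injective h
    revert this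
    decide
  have hA : w 0 * v 1 - w 1 * v 0 ≠ 0 := by
    rw [Ne, ← mk_eq_mk_iff_cross w v hw0 hv0, ← hxw, ← hxv]
    intro h
    have := x.injective h
    revert this
    decide
  have hB : u 0 * w 1 - u 1 * w 0 ≠ 0 := by
    rw [Ne, ← mk_eq_mk_iff_cross u w hu0 hw0, ← hxu, ← hxw]
    intro h
    have := x.injective h
    revert this
    decide
  obtain ⟨s, hs⟩ := hsq ((w 0 * v 1 - w 1 * v 0) * (u 0 * w 1 - u 1 * w 0) *
    (u 0 * v 1 - u 1 * v 0))⁻¹
  have hM : (!![s * (w 0 * v 1 - w 1 * v 0) * u 0, s * (u 0 * w 1 - u 1 * w 0) * v 0;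
      s * (w 0 * v 1 - w 1 * v 0) * u 1, s * (u 0 * w 1 - u 1 * w 0) * v 1] :
        Matrix (Fin 2) (Fin 2) F).det = 1 := by
    rw [Matrix.det_fin_two_of]
    have h1 : s * s * ((w 0 * v 1 - w 1 * v 0) * (u 0 * w 1 - u 1 * w 0) *
        (u 0 * v 1 - u 1 * v 0)) = 1 := by
      rw [← hs]
      exact inv_mul_cancel₀ (mul_ne_zero (mul_ne_zero hA hB) hD)
    linear_combination h1
  obtain ⟨g, hg⟩ : ∃ g : Matrix.SpecialLinearGroup (Fin 2) F, g.1 =
      !![s * (w 0 * v 1 - w 1 * v 0) * u 0, s * (u 0 * w 1 - u 1 * w 0) * v 0;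
      s * (w 0 * v 1 - w 1 * v 0) * u 1, s * (u 0 * w 1 - u 1 * w 0) * v 1] := ⟨⟨_, hM⟩, rfl⟩
  refine ⟨g, ?_⟩
  ext i
  rw [Function.Embedding.smul_apply]
  fin_cases i
  · show g • Projectivization.mk F ![1, 0] e1_ne_zero = x 0
    rw [smul_mk, hxu, mk_eq_mk_iff_cross]
    simp [Matrix.SpecialLinearGroup.smul_def, Matrix.smul_eq_mulVec, Matrix.mulVec, dotProduct,
      Fin.sum_univ_two, hg]
    ring
  · show g • Projectivization.mk F ![0, 1] e2_ne_zero = x 1
    rw [smul_mk, hxv, mk_eq_mk_iff_cross]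
    simp [Matrix.SpecialLinearGroup.smul_def, Matrix.smul_eq_mulVec, Matrix.mulVec, dotProduct,
      Fin.sum_univ_two, hg]
    ring
  · show g • Projectivization.mk F ![1, 1] (w_ne_zero 1) = x 2
    rw [smul_mk, hxw, mk_eq_mk_iff_cross]
    simp [Matrix.SpecialLinearGroup.smul_def, Matrix.smul_eq_mulVec, Matrix.mulVec, dotProduct,
      Fin.sum_univ_two, hg]
    ring

theorem backward {F : Type*} [Field F] [Fintype F] (hF : ringChar F = 2) :
    MulAction.IsMultiplyPretransitive (Matrix.SpecialLinearGroup (Fin 2) F)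
      (Projectivization F (Fin 2 → F)) 3 := by
  rw [MulAction.isMultiplyPretransitive_iff]
  intro x y
  obtain ⟨gx, hgx⟩ := exists_smul_std (FiniteField.isSquare_of_char_two hF) x
  obtain ⟨gy, hgy⟩ := exists_smul_std (FiniteField.isSquare_of_char_two hF) y
  refine ⟨gy * gx⁻¹, ?_⟩
  rw [← hgx, ← hgy, mul_smul, inv_smul_smul]

/-- SL_2(q) is 3-transitive on the q+1 points of the projective line if and only if q is even. -/
theorem result {F : Type*} [Field F] [Fintype F] : MulAction.IsMultiplyPretransitive (Matrix.SpecialLinearGroup (Fin 2) F) (Projectivization F (Fin 2 → F)) 3 ↔ ringChar F = 2 := by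
  exact ⟨forward, backward⟩

end Cfsg.Agent.S0267
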