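import Cfsg.Statements.S0275
import Cfsg.Agent.Lib.Helper46_GL2Odd
import Cfsg.Agent.Lib.Helper46_NatSL2b
import Cfsg.Agent.Lib.Helper50_UniqueInv2

set_option autoImplicit false
open Cfsg

namespace Cfsg.Agent.S0275


open Matrix
open scoped MatrixGroups

/-- the coercion `SL₂(F) → M₂(F)` as a monoid hom -/
def matHom (F : Type*) [Field F] : SL(2, F) →* Matrix (Fin 2) (Fin 2) F where
  toFun A := A.1
  map_one' := rfl
  map_mul' := fun _ _ => rfl

theorem matHom_injective (F : Type*) [Field F] : Function.Injective (matHom F) :=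
  fun _ _ h => Subtype.ext h

/-- In characteristic `≠ 2`, a nontrivial element of `SL₂(F)` with square one is `-1`. -/
theorem coe_eq_neg_one_of_sq {F : Type*} [Field F] (h2 : (2 : F) ≠ 0) (A : SL(2, F))
    (hA : A ^ 2 = 1) (hA1 : A ≠ 1) : (A : Matrix (Fin 2) (Fin 2) F) = -1 := by
  have hsq : (A : Matrix (Fin 2) (Fin 2) F) * (A : Matrix (Fin 2) (Fin 2) F) = 1 := by
    have := congrArg (fun B : SL(2, F) => (B : Matrix (Fin 2) (Fin 2) F)) hA
    simpa [pow_two] using this
  have hdet : A 0 0 * A 1 1 - A 0 1 * A 1 0 = 1 := by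
    have := A.det_coe
    rwa [Matrix.det_fin_two] at this
  have e00 := congrFun (congrFun hsq 0) 0
  have e01 := congrFun (congrFun hsq 0) 1
  have e10 := congrFun (congrFun hsq 1) 0
  have e11 := congrFun (congrFun hsq 1) 1
  rw [Cfsg.Agent.Lib.Helper46_GL2Odd.mul_entries] at e00 e01 e10 e11
  simp only [Matrix.one_apply_eq, Matrix.one_apply_ne, ne_eq, zero_ne_one, one_ne_zero,
    not_false_eq_true] at e00 e01 e10 e11
  have htr : A 0 0 + A 1 1 ≠ 0 := by
    intro h
    apply h2
    have hd : A 1 1 = -A 0 0 := by linear_combination h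
    rw [hd] at hdet
    linear_combination (-1 : F) * (e00 + hdet)
  have hb : A 0 1 = 0 := by
    have : A 0 1 * (A 0 0 + A 1 1) = 0 := by linear_combination e01
    exact (mul_eq_zero.mp this).resolve_right htr
  have hc : A 1 0 = 0 := by
    have : A 1 0 * (A 0 0 + A 1 1) = 0 := by linear_combination e10
    exact (mul_eq_zero.mp this).resolve_right htr
  rw [hb, zero_mul, add_zero] at e00
  rw [hb, zero_mul, sub_zero] at hdet
  have had : A 0 0 = A 1 1 := by
    have : A 0 0 * (A 0 0 - A 1 1) = 0 := by linear_combination e00 - hdet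
    rcases mul_eq_zero.mp this with h | h
    · rw [h, zero_mul] at e00
      exact absurd e00 zero_ne_one
    · exact sub_eq_zero.mp h
  have ha : A 0 0 = -1 := by
    have : (A 0 0 - 1) * (A 0 0 + 1) = 0 := by linear_combination e00
    rcases mul_eq_zero.mp this with h | h
    · exfalso
      apply hA1
      apply Subtype.ext
      ext i j
      have h1 : A 0 0 = 1 := sub_eq_zero.mp h
      fin_cases i <;> fin_cases j <;> simp
      · exact h1
      · exact hb
      · exact hc
      · rw [← had]; exact h1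
    · linear_combination h
  ext i j
  fin_cases i <;> fin_cases j <;> simp
  · exact ha
  · exact hb
  · exact hc
  · rw [← had]; exact ha

/-- If p is odd and H is a subgroup of SL_2(q), q a power of p, with more than one Sylow p-subgroup, then the Sylow 2-subgroups of H are generalised quaternion. -/
theorem result {F : Type*} [Field F] [Fintype F] (p : ℕ) [Fact p.Prime] [CharP F p] (hp : p ≠ 2) (H : Subgroup (Matrix.SpecialLinearGroup (Fin 2) F)) (hH : 1 < Nat.card (Sylow p H)) (S : Sylow 2 H) : ∃ k : ℕ, 1 ≤ k ∧ Nonempty ((S : Subgroup H) ≃* QuaternionGroup (2 ^ k)) := by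
  classical
  have hpp : p.Prime := Fact.out
  have h2F : (2 : F) ≠ 0 := Cfsg.Agent.Lib.Helper46_GL2Odd.two_ne_zero_of_char p hp
  have huniq : Cfsg.Agent.Lib.Helper50_UniqueInv.UniqueInvolution (S : Subgroup H) := by
    intro u v hu hv hu1 hv1
    have hu' : ((u : H) : SL(2, F)) ^ 2 = 1 := by
      have := congrArg (fun x : (S : Subgroup H) => ((x : H) : SL(2, F))) hu
      simpa using this
    have hv' : ((v : H) : SL(2, F)) ^ 2 = 1 := by
      have := congrArg (fun x : (S : Subgroup H) => ((x : H) : SL(2, F))) hv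
      simpa using this
    have hu1' : ((u : H) : SL(2, F)) ≠ 1 := fun h => hu1 (Subtype.ext (Subtype.ext h))
    have hv1' : ((v : H) : SL(2, F)) ≠ 1 := fun h => hv1 (Subtype.ext (Subtype.ext h))
    apply Subtype.ext
    apply Subtype.ext
    apply Subtype.ext
    rw [coe_eq_neg_one_of_sq h2F _ hu' hu1', coe_eq_neg_one_of_sq h2F _ hv' hv1']
  rcases Cfsg.Agent.Lib.Helper50_UniqueInv2.isCyclic_or_quaternion S.isPGroup' huniq with hcyc | hq
  swap
  · exact hq
  exfalso
  -- the representation
  obtain ⟨μ, hμdef⟩ : ∃ μ : H →* Matrix (Fin 2) (Fin 2) F, μ = (matHom F).comp H.subtype := ⟨_, rfl⟩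
  have hμ : Function.Injective μ := by
    rw [hμdef]
    exact (matHom_injective F).comp (Subgroup.subtype_injective _)
  have hμval : ∀ g : H, μ g = ((g : SL(2, F)) : Matrix (Fin 2) (Fin 2) F) := by
    intro g
    rw [hμdef]
    rfl
  -- normal 2-complement
  obtain ⟨N, hNn, hNodd, k, hNidx⟩ : ∃ N : Subgroup H, N.Normal ∧ Odd (Nat.card N) ∧
      ∃ k : ℕ, N.index = 2 ^ k := by
    by_cases h2 : 2 ∣ Nat.card H
    · have hmf : (Nat.card H).minFac = 2 := (Nat.minFac_eq_two_iff _).mpr h2
      refine ⟨(MonoidHom.transferSylow S (hcyc.normalizer_le_centralizer hmf)).ker, inferInstance, ?_, ?_⟩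
      · exact Nat.not_even_iff_odd.mp (fun he =>
          MonoidHom.not_dvd_card_ker_transferSylow S _ (even_iff_two_dvd.mp he))
      · have h3 := (IsCyclic.isComplement' hmf hcyc).symm.index_eq_card
        obtain ⟨k, hk⟩ := S.isPGroup'.exists_card_eq
        exact ⟨k, by rw [h3]; exact hk⟩
    · refine ⟨⊤, inferInstance, ?_, 0, by simp⟩
      rw [Subgroup.card_top]
      exact Nat.not_even_iff_odd.mp (fun he => h2 (even_iff_two_dvd.mp he))
  -- p-elements lie in N
  have hpN : ∀ (g : H) (j : ℕ), g ^ p ^ j = 1 → g ∈ N := by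
    intro g j hg
    have h1 : g ^ N.index ∈ N := Subgroup.pow_index_mem N g
    have h2 : orderOf g ∣ p ^ j := orderOf_dvd_of_pow_eq_one hg
    have h3 : (2 ^ k).Coprime (orderOf g) := by
      apply Nat.Coprime.coprime_dvd_right h2
      apply Nat.Coprime.pow
      rw [Nat.coprime_primes Nat.prime_two hpp]
      exact fun h => hp h.symm
    obtain ⟨m, hm⟩ := exists_pow_eq_self_of_coprime h3
    rw [← hm, ← hNidx]
    exact N.pow_mem h1 m
  -- N acts irreducibly
  have hirr : ∀ v : Fin 2 → F, v ≠ 0 → ∃ g : N, (μ.comp N.subtype) g *ᵥ v ∉ Submodule.span F {v} := by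
    by_contra hcon
    push Not at hcon
    obtain ⟨v, hv, hvN⟩ := hcon
    -- the stabilizer of `v`
    let U : Subgroup H :=
      { carrier := {g | μ g *ᵥ v = v}
        one_mem' := by
          show μ 1 *ᵥ v = v
          rw [map_one, Matrix.one_mulVec]
        mul_mem' := by
          intro a b ha hb
          have ha' : μ a *ᵥ v = v := ha
          have hb' : μ b *ᵥ v = v := hb
          show μ (a * b) *ᵥ v = v
          rw [map_mul, ← Matrix.mulVec_mulVec, hb', ha']
        inv_mem' := by
          intro a ha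
          have ha : μ a *ᵥ v = v := ha
          show μ a⁻¹ *ᵥ v = v
          have h1 : μ a⁻¹ *ᵥ (μ a *ᵥ v) = v := by
            rw [Matrix.mulVec_mulVec, ← map_mul, inv_mul_cancel, map_one, Matrix.one_mulVec]
          rw [ha] at h1
          exact h1 }
    have hUmem : ∀ g : H, g ∈ U ↔ μ g *ᵥ v = v := fun g => Iff.rfl
    have hUp : IsPGroup p U := by
      intro g
      refine ⟨1, ?_⟩
      have h1 : ((g : H) : SL(2, F)) ^ p = 1 :=
        Cfsg.Agent.Lib.Helper46_NatSL2.pow_char_eq_one_of_fix p _ v hv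
          (by rw [← hμval]; exact (hUmem _).mp g.2)
      apply Subtype.ext
      apply Subtype.ext
      rw [pow_one]
      simpa using h1
    have hle : ∀ P : Sylow p H, (P : Subgroup H) ≤ U := by
      intro P g hg
      obtain ⟨j, hj⟩ := P.isPGroup' ⟨g, hg⟩
      have hj' : g ^ p ^ j = 1 := by
        have := congrArg Subtype.val hj
        simpa using this
      have hgN : g ∈ N := hpN g j hj'
      obtain ⟨c, hc⟩ := Submodule.mem_span_singleton.mp (hvN ⟨g, hgN⟩)
      have hc' : μ g *ᵥ v = c • v := hc.symm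
      have hpow : ∀ m : ℕ, μ (g ^ m) *ᵥ v = c ^ m • v := by
        intro m
        induction m with
        | zero => simp
        | succ m ih =>
          rw [pow_succ, map_mul, ← Matrix.mulVec_mulVec, hc', Matrix.mulVec_smul, ih, smul_smul,
            pow_succ, mul_comm]
      have h1 := hpow (p ^ j)
      rw [hj', map_one, Matrix.one_mulVec] at h1
      have h2 : c ^ p ^ j = 1 := by
        by_contra hne
        apply hv
        have h3 : (c ^ p ^ j - 1) • v = 0 := by rw [sub_smul, one_smul, ← h1, sub_self]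
        rcases smul_eq_zero.mp h3 with h4 | h4
        · exact absurd (sub_eq_zero.mp h4) hne
        · exact h4
      have h3 : (c - 1) ^ p ^ j = 0 := by rw [sub_pow_char_pow, h2, one_pow, sub_self]
      have h4 : c = 1 := sub_eq_zero.mp (pow_eq_zero_iff (pow_ne_zero _ hpp.ne_zero) |>.mp h3)
      rw [hUmem, hc', h4, one_smul]
    have hall : ∀ P : Sylow p H, (P : Subgroup H) = U := fun P => (P.is_maximal' hUp (hle P)).symm
    have hsub : Subsingleton (Sylow p H) := ⟨fun P Q => Sylow.ext ((hall P).trans (hall Q).symm)⟩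
    have := Finite.card_le_one_iff_subsingleton.mpr hsub
    omega
  -- p divides |N|
  have hdvd : p ∣ Nat.card N := by
    have hnt : Nontrivial (Sylow p H) := Finite.one_lt_card_iff_nontrivial.mp hH
    obtain ⟨P, Q, hPQ⟩ := exists_pair_ne (Sylow p H)
    have hex : ∃ g : H, g ≠ 1 ∧ ∃ j : ℕ, g ^ p ^ j = 1 := by
      by_contra hno
      push Not at hno
      apply hPQ
      have hbot : ∀ R : Sylow p H, (R : Subgroup H) = ⊥ := by
        intro R
        rw [Subgroup.eq_bot_iff_forall]
        intro g hg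
        by_contra hg1
        obtain ⟨j, hj⟩ := R.isPGroup' ⟨g, hg⟩
        have hj' : g ^ p ^ j = 1 := by
          have := congrArg Subtype.val hj
          simpa using this
        exact hno g hg1 j hj'
      exact Sylow.ext ((hbot P).trans (hbot Q).symm)
    obtain ⟨g, hg1, j, hj⟩ := hex
    have hgN : g ∈ N := hpN g j hj
    have h1 : orderOf (⟨g, hgN⟩ : N) ∣ Nat.card N := orderOf_dvd_natCard _
    have h2 : orderOf (⟨g, hgN⟩ : N) = orderOf g := Subgroup.orderOf_mk g hgN
    have h3 : orderOf g ∣ p ^ j := orderOf_dvd_of_pow_eq_one hj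
    obtain ⟨i, hi, hi2⟩ := (Nat.dvd_prime_pow hpp).mp h3
    have hi0 : i ≠ 0 := by
      rintro rfl
      rw [pow_zero, orderOf_eq_one_iff] at hi2
      exact hg1 hi2
    rw [h2, hi2] at h1
    exact dvd_trans (dvd_pow_self p hi0) h1
  exact Cfsg.Agent.Lib.Helper46_GL2Odd.main_aux p hp (Nat.card N) ↥N (μ.comp N.subtype)
    (hμ.comp (Subgroup.subtype_injective _)) rfl hNodd hirr hdvd

end Cfsg.Agent.S0275
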