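import Mathlib
import Cfsg.Agent.Lib.Helper13_Symp
import Cfsg.Statements.S0304

set_option autoImplicit false
open Cfsg

namespace Cfsg.Agent.S0304

set_option linter.unusedSectionVars false
set_option linter.unusedVariables false

open Matrix Cfsg.Agent.Lib.Helper13_Symp

variable {F : Type*} [Field F] {m : ℕ}

/-- the hyperbolic quadratic form on `F^{2m}` -/
def Q0 (w : Fin m ⊕ Fin m → F) : F := ∑ i : Fin m, w (Sum.inl i) * w (Sum.inr i)

/-- its polar form -/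
def B0 (u w : Fin m ⊕ Fin m → F) : F := ∑ i : Fin m, (u (Sum.inl i) * w (Sum.inr i) + u (Sum.inr i) * w (Sum.inl i))

lemma Q0_add (u w : Fin m ⊕ Fin m → F) : Q0 (u + w) = Q0 u + Q0 w + B0 u w := by
  unfold Q0 B0
  rw [← Finset.sum_add_distrib, ← Finset.sum_add_distrib]
  apply Finset.sum_congr rfl
  intro i _
  simp only [Pi.add_apply]
  ring

lemma Q0_smul (c : F) (w : Fin m ⊕ Fin m → F) : Q0 (c • w) = c ^ 2 * Q0 w := by
  unfold Q0
  rw [Finset.mul_sum]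
  apply Finset.sum_congr rfl
  intro i _
  simp only [Pi.smul_apply, smul_eq_mul]
  ring

lemma Q0_single (j : Fin m ⊕ Fin m) : Q0 (Pi.single j (1 : F)) = 0 := by
  unfold Q0
  apply Finset.sum_eq_zero
  intro i _
  rcases j with j | j
  · simp [Pi.single_apply]
  · simp [Pi.single_apply]

lemma quadFormOdd_elim (a : Unit → F) (w : Fin m ⊕ Fin m → F) :
    Cfsg.quadFormOdd m F (Sum.elim a w) = (a ()) ^ 2 + Q0 w := by
  unfold Cfsg.quadFormOdd Q0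
  simp

lemma quadFormOdd_eq (v : Unit ⊕ (Fin m ⊕ Fin m) → F) :
    Cfsg.quadFormOdd m F v = (v (Sum.inl ())) ^ 2 + Q0 (v ∘ Sum.inr) := by
  unfold Cfsg.quadFormOdd Q0
  simp

lemma sympForm_eq_B0 [CharP F 2] (u w : Fin m ⊕ Fin m → F) : Cfsg.sympForm m F u w = B0 u w := by
  rw [sympForm_eq]
  unfold B0
  apply Finset.sum_congr rfl
  intro i _
  have h2 : (2 : F) = 0 := CharP.ofNat_eq_zero F 2
  linear_combination (-(u (Sum.inl i) * w (Sum.inr i))) * h2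

section char2
variable [CharP F 2]

/-- form-preserving matrices -/
def IsO (M : Matrix (Unit ⊕ (Fin m ⊕ Fin m)) (Unit ⊕ (Fin m ⊕ Fin m)) F) : Prop :=
  ∀ u, Cfsg.quadFormOdd m F (M *ᵥ u) = Cfsg.quadFormOdd m F u

lemma mem_iso_iff (g : GL (Unit ⊕ (Fin m ⊕ Fin m)) F) :
    g ∈ Cfsg.isometryGroup F (Cfsg.quadFormOdd m F) ↔ IsO (g : Matrix (Unit ⊕ (Fin m ⊕ Fin m)) (Unit ⊕ (Fin m ⊕ Fin m)) F) := by
  constructor
  · intro h u
    exact h u u
  · intro h u v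
    exact h u

/-- polar form of `quadFormOdd` in characteristic two -/
lemma polar_eq (u v : Unit ⊕ (Fin m ⊕ Fin m) → F) :
    Cfsg.quadFormOdd m F (u + v) - Cfsg.quadFormOdd m F u - Cfsg.quadFormOdd m F v
      = B0 (u ∘ Sum.inr) (v ∘ Sum.inr) := by
  rw [quadFormOdd_eq, quadFormOdd_eq, quadFormOdd_eq]
  have : (u + v) ∘ Sum.inr = u ∘ Sum.inr + v ∘ Sum.inr := rfl
  rw [this, Q0_add]
  have h2 : (2 : F) = 0 := CharP.ofNat_eq_zero F 2
  simp only [Pi.add_apply]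
  linear_combination (u (Sum.inl ()) * v (Sum.inl ())) * h2

lemma IsO.polar {M : Matrix (Unit ⊕ (Fin m ⊕ Fin m)) (Unit ⊕ (Fin m ⊕ Fin m)) F} (hM : IsO M)
    (u v : Unit ⊕ (Fin m ⊕ Fin m) → F) :
    B0 ((M *ᵥ u) ∘ Sum.inr) ((M *ᵥ v) ∘ Sum.inr) = B0 (u ∘ Sum.inr) (v ∘ Sum.inr) := by
  rw [← polar_eq, ← polar_eq, ← Matrix.mulVec_add, hM, hM, hM]

lemma B0_single_inr (u : Fin m ⊕ Fin m → F) (i : Fin m) : B0 u (Pi.single (Sum.inr i) 1) = u (Sum.inl i) := by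
  unfold B0
  rw [Finset.sum_eq_single i]
  · simp
  · intro b _ hb
    simp [Pi.single_apply, hb]
  · simp

lemma B0_single_inl (u : Fin m ⊕ Fin m → F) (i : Fin m) : B0 u (Pi.single (Sum.inl i) 1) = u (Sum.inr i) := by
  unfold B0
  rw [Finset.sum_eq_single i]
  · simp
  · intro b _ hb
    simp [Pi.single_apply, hb]
  · simp

/-- the first basis vector -/
def e0 : Unit ⊕ (Fin m ⊕ Fin m) → F := Pi.single (Sum.inl ()) 1

lemma first_col (g : GL (Unit ⊕ (Fin m ⊕ Fin m)) F)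
    (hg : IsO (g : Matrix (Unit ⊕ (Fin m ⊕ Fin m)) (Unit ⊕ (Fin m ⊕ Fin m)) F)) :
    (g : Matrix (Unit ⊕ (Fin m ⊕ Fin m)) (Unit ⊕ (Fin m ⊕ Fin m)) F) *ᵥ (e0 : Unit ⊕ (Fin m ⊕ Fin m) → F) = e0 := by
  set M := (g : Matrix (Unit ⊕ (Fin m ⊕ Fin m)) (Unit ⊕ (Fin m ⊕ Fin m)) F) with hM
  set w := M *ᵥ (e0 : Unit ⊕ (Fin m ⊕ Fin m) → F) with hw
  have he0 : (e0 : Unit ⊕ (Fin m ⊕ Fin m) → F) ∘ Sum.inr = 0 := by
    ext j; simp [e0]
  have hperp : ∀ u : Unit ⊕ (Fin m ⊕ Fin m) → F, B0 (w ∘ Sum.inr) (u ∘ Sum.inr) = 0 := by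
    intro u
    have hu : u = M *ᵥ ((g⁻¹ : GL (Unit ⊕ (Fin m ⊕ Fin m)) F).1 *ᵥ u) := by
      rw [Matrix.mulVec_mulVec, hM, ← Units.val_mul, mul_inv_cancel, Units.val_one, Matrix.one_mulVec]
    rw [hu, hw, hg.polar, he0]
    unfold B0; simp
  have hw0 : w ∘ Sum.inr = 0 := by
    ext j
    rcases j with i | i
    · have := hperp (Pi.single (Sum.inr (Sum.inr i)) 1)
      have h1 : (Pi.single (Sum.inr (Sum.inr i)) (1 : F) : Unit ⊕ (Fin m ⊕ Fin m) → F) ∘ Sum.inr = Pi.single (Sum.inr i) 1 := by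
        ext j; simp [Pi.single_apply]
      rw [h1, B0_single_inr] at this
      exact this
    · have := hperp (Pi.single (Sum.inr (Sum.inl i)) 1)
      have h1 : (Pi.single (Sum.inr (Sum.inl i)) (1 : F) : Unit ⊕ (Fin m ⊕ Fin m) → F) ∘ Sum.inr = Pi.single (Sum.inl i) 1 := by
        ext j; simp [Pi.single_apply]
      rw [h1, B0_single_inl] at this
      exact this
  have hQ : Cfsg.quadFormOdd m F w = 1 := by
    rw [hw, hg, quadFormOdd_eq, he0]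
    simp [e0, Q0]
  rw [quadFormOdd_eq, hw0] at hQ
  have hw1 : w (Sum.inl ()) = 1 := by
    have h2 : (2 : F) = 0 := CharP.ofNat_eq_zero F 2
    have h3 : (w (Sum.inl ()) - 1) ^ 2 = 0 := by
      have : Q0 (0 : Fin m ⊕ Fin m → F) = 0 := by simp [Q0]
      rw [this, add_zero] at hQ
      linear_combination hQ - (w (Sum.inl ())) * h2 + h2
    exact sub_eq_zero.mp (pow_eq_zero_iff (two_ne_zero) |>.mp h3)
  ext j
  rcases j with ⟨⟩ | j
  · rw [hw1]; simp [e0]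
  · have := congrFun hw0 j
    simp only [Function.comp_apply, Pi.zero_apply] at this
    rw [this]; simp [e0]

end char2

section char2
variable [CharP F 2]

lemma blocks_of_first_col (M : Matrix (Unit ⊕ (Fin m ⊕ Fin m)) (Unit ⊕ (Fin m ⊕ Fin m)) F)
    (h : M *ᵥ (e0 : Unit ⊕ (Fin m ⊕ Fin m) → F) = e0) : M.toBlocks₁₁ = 1 ∧ M.toBlocks₂₁ = 0 := by
  rw [e0, Matrix.mulVec_single_one] at h
  constructor
  · ext i j
    have := congrFun h (Sum.inl ())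
    simpa [Matrix.toBlocks₁₁] using this
  · ext i j
    have := congrFun h (Sum.inr i)
    simpa [Matrix.toBlocks₂₁] using this

lemma fromBlocks_mulVec_elim (ρ : Matrix Unit (Fin m ⊕ Fin m) F) (A : Matrix (Fin m ⊕ Fin m) (Fin m ⊕ Fin m) F)
    (v : Unit ⊕ (Fin m ⊕ Fin m) → F) :
    (fromBlocks 1 ρ 0 A) *ᵥ v = Sum.elim (v ∘ Sum.inl + ρ *ᵥ (v ∘ Sum.inr)) (A *ᵥ (v ∘ Sum.inr)) := by
  rw [Matrix.fromBlocks_mulVec]
  simp

lemma isO_fromBlocks_iff (ρ : Matrix Unit (Fin m ⊕ Fin m) F) (A : Matrix (Fin m ⊕ Fin m) (Fin m ⊕ Fin m) F) :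
    IsO (fromBlocks 1 ρ 0 A) ↔ ∀ w : Fin m ⊕ Fin m → F, ((ρ *ᵥ w) ()) ^ 2 + Q0 (A *ᵥ w) = Q0 w := by
  have h2 : (2 : F) = 0 := CharP.ofNat_eq_zero F 2
  constructor
  · intro h w
    have := h (Sum.elim 0 w)
    rw [fromBlocks_mulVec_elim, quadFormOdd_elim, quadFormOdd_elim] at this
    simpa using this
  · intro h v
    rw [fromBlocks_mulVec_elim, quadFormOdd_elim, quadFormOdd_eq]
    have := h (v ∘ Sum.inr)
    simp only [Pi.add_apply, Function.comp_apply]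
    linear_combination this + (v (Sum.inl ()) * (ρ *ᵥ (v ∘ Sum.inr)) ()) * h2

lemma mem_sp_of_isO (ρ : Matrix Unit (Fin m ⊕ Fin m) F) (A : Matrix (Fin m ⊕ Fin m) (Fin m ⊕ Fin m) F)
    (h : IsO (fromBlocks 1 ρ 0 A)) : A ∈ Matrix.symplecticGroup (Fin m) F := by
  apply mem_symplecticGroup_of_preserves
  intro u v
  rw [sympForm_eq_B0, sympForm_eq_B0]
  have := h.polar (Sum.elim 0 u) (Sum.elim 0 v)
  rw [fromBlocks_mulVec_elim, fromBlocks_mulVec_elim] at this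
  simpa using this

end char2

section main
variable [Fintype F] [CharP F 2]

lemma eq_fromBlocks (g : Cfsg.isometryGroup F (Cfsg.quadFormOdd m F)) :
    (g.1 : Matrix (Unit ⊕ (Fin m ⊕ Fin m)) (Unit ⊕ (Fin m ⊕ Fin m)) F)
      = fromBlocks 1 (g.1 : Matrix (Unit ⊕ (Fin m ⊕ Fin m)) (Unit ⊕ (Fin m ⊕ Fin m)) F).toBlocks₁₂ 0
          (g.1 : Matrix (Unit ⊕ (Fin m ⊕ Fin m)) (Unit ⊕ (Fin m ⊕ Fin m)) F).toBlocks₂₂ := by
  obtain ⟨h1, h2⟩ := blocks_of_first_col _ (first_col g.1 ((mem_iso_iff g.1).mp g.2))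
  conv_lhs => rw [← Matrix.fromBlocks_toBlocks (g.1 : Matrix (Unit ⊕ (Fin m ⊕ Fin m)) (Unit ⊕ (Fin m ⊕ Fin m)) F), h1, h2]

lemma isO_blocks (g : Cfsg.isometryGroup F (Cfsg.quadFormOdd m F)) :
    IsO (fromBlocks 1 (g.1 : Matrix (Unit ⊕ (Fin m ⊕ Fin m)) (Unit ⊕ (Fin m ⊕ Fin m)) F).toBlocks₁₂ 0
          (g.1 : Matrix (Unit ⊕ (Fin m ⊕ Fin m)) (Unit ⊕ (Fin m ⊕ Fin m)) F).toBlocks₂₂) := by
  rw [← eq_fromBlocks]; exact (mem_iso_iff g.1).mp g.2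

/-- the projection to the symplectic group -/
def Phi : Cfsg.isometryGroup F (Cfsg.quadFormOdd m F) →* Matrix.symplecticGroup (Fin m) F where
  toFun g := ⟨(g.1 : Matrix (Unit ⊕ (Fin m ⊕ Fin m)) (Unit ⊕ (Fin m ⊕ Fin m)) F).toBlocks₂₂,
    mem_sp_of_isO _ _ (isO_blocks g)⟩
  map_one' := by
    apply Subtype.ext
    show (1 : Matrix (Unit ⊕ (Fin m ⊕ Fin m)) (Unit ⊕ (Fin m ⊕ Fin m)) F).toBlocks₂₂ = 1
    rw [← Matrix.fromBlocks_one, Matrix.toBlocks_fromBlocks₂₂]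
  map_mul' g h := by
    apply Subtype.ext
    show ((g.1 : Matrix (Unit ⊕ (Fin m ⊕ Fin m)) (Unit ⊕ (Fin m ⊕ Fin m)) F) *
        (h.1 : Matrix (Unit ⊕ (Fin m ⊕ Fin m)) (Unit ⊕ (Fin m ⊕ Fin m)) F)).toBlocks₂₂ =
      (g.1 : Matrix (Unit ⊕ (Fin m ⊕ Fin m)) (Unit ⊕ (Fin m ⊕ Fin m)) F).toBlocks₂₂ *
        (h.1 : Matrix (Unit ⊕ (Fin m ⊕ Fin m)) (Unit ⊕ (Fin m ⊕ Fin m)) F).toBlocks₂₂
    conv_lhs => rw [eq_fromBlocks g, eq_fromBlocks h, Matrix.fromBlocks_multiply, Matrix.toBlocks_fromBlocks₂₂]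
    simp

lemma Phi_injective : Function.Injective (Phi (F := F) (m := m)) := by
  rw [injective_iff_map_eq_one]
  intro g hg
  have hA : (g.1 : Matrix (Unit ⊕ (Fin m ⊕ Fin m)) (Unit ⊕ (Fin m ⊕ Fin m)) F).toBlocks₂₂ = 1 :=
    congrArg Subtype.val hg
  have hO := (isO_fromBlocks_iff _ _).mp (isO_blocks g)
  rw [hA] at hO
  have hρ : (g.1 : Matrix (Unit ⊕ (Fin m ⊕ Fin m)) (Unit ⊕ (Fin m ⊕ Fin m)) F).toBlocks₁₂ = 0 := by
    ext i j
    have := hO (Pi.single j 1)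
    rw [Matrix.one_mulVec, add_eq_right, Matrix.mulVec_single_one] at this
    have h3 := pow_eq_zero_iff (two_ne_zero) |>.mp this
    simpa using h3
  apply Subtype.ext
  apply Units.ext
  rw [eq_fromBlocks g, hA, hρ]
  exact Matrix.fromBlocks_one

/-- square root in a finite field of characteristic two -/
noncomputable def sqrt2 : F ≃+* F := (frobeniusEquiv F 2).symm

lemma sqrt2_sq (x : F) : (sqrt2 x) ^ 2 = x := frobeniusEquiv_symm_pow_p F 2 x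

lemma sqrt2_sq' (x : F) : sqrt2 (x ^ 2) = x := by
  have h : (frobeniusEquiv F 2) x = x ^ 2 := frobeniusEquiv_apply F 2 x
  rw [← h]
  exact (frobeniusEquiv F 2).symm_apply_apply x

/-- the linear form `w ↦ sqrt (Q0 w + Q0 (A w))` -/
noncomputable def rhoLin (A : Matrix (Fin m ⊕ Fin m) (Fin m ⊕ Fin m) F) (hA : A ∈ Matrix.symplecticGroup (Fin m) F) :
    (Fin m ⊕ Fin m → F) →ₗ[F] F where
  toFun w := sqrt2 (Q0 w + Q0 (A *ᵥ w))
  map_add' u w := by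
    rw [← map_add]
    congr 1
    have h2 : (2 : F) = 0 := CharP.ofNat_eq_zero F 2
    have hB : B0 (A *ᵥ u) (A *ᵥ w) = B0 u w := by
      rw [← sympForm_eq_B0, ← sympForm_eq_B0, sympForm_mulVec_mulVec_of_mem m hA]
    rw [Matrix.mulVec_add, Q0_add, Q0_add, hB]
    linear_combination (B0 u w) * h2
  map_smul' c w := by
    rw [Matrix.mulVec_smul, Q0_smul, Q0_smul, ← mul_add, map_mul, sqrt2_sq']
    rfl

lemma rhoLin_sq (A : Matrix (Fin m ⊕ Fin m) (Fin m ⊕ Fin m) F) (hA : A ∈ Matrix.symplecticGroup (Fin m) F)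
    (w : Fin m ⊕ Fin m → F) : (rhoLin A hA w) ^ 2 = Q0 w + Q0 (A *ᵥ w) := sqrt2_sq _

/-- the row vector -/
noncomputable def rhoMat (A : Matrix (Fin m ⊕ Fin m) (Fin m ⊕ Fin m) F) (hA : A ∈ Matrix.symplecticGroup (Fin m) F) :
    Matrix Unit (Fin m ⊕ Fin m) F := Matrix.of fun _ j => rhoLin A hA (Pi.single j 1)

lemma rhoMat_mulVec (A : Matrix (Fin m ⊕ Fin m) (Fin m ⊕ Fin m) F) (hA : A ∈ Matrix.symplecticGroup (Fin m) F)
    (w : Fin m ⊕ Fin m → F) : (rhoMat A hA *ᵥ w) () = rhoLin A hA w := by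
  rw [LinearMap.pi_apply_eq_sum_univ (rhoLin A hA) w]
  simp only [Matrix.mulVec, dotProduct, rhoMat, Matrix.of_apply, smul_eq_mul]
  apply Finset.sum_congr rfl
  intro j _
  rw [mul_comm]
  congr 2
  ext k
  simp [Pi.single_apply, eq_comm]

lemma Phi_surjective : Function.Surjective (Phi (F := F) (m := m)) := by
  intro A
  have h2 : (2 : F) = 0 := CharP.ofNat_eq_zero F 2
  have hO : IsO (fromBlocks 1 (rhoMat A.1 A.2) 0 A.1) := by
    rw [isO_fromBlocks_iff]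
    intro w
    rw [rhoMat_mulVec, rhoLin_sq]
    linear_combination (Q0 (A.1 *ᵥ w)) * h2
  have hdet : IsUnit (fromBlocks 1 (rhoMat A.1 A.2) 0 A.1).det := by
    rw [Matrix.det_fromBlocks_zero₂₁, Matrix.det_one, one_mul]
    exact SymplecticGroup.symplectic_det A.2
  refine ⟨⟨Matrix.GeneralLinearGroup.mk'' _ hdet, (mem_iso_iff _).mpr hO⟩, ?_⟩
  apply Subtype.ext
  show (fromBlocks 1 (rhoMat A.1 A.2) 0 A.1).toBlocks₂₂ = A.1
  exact Matrix.toBlocks_fromBlocks₂₂ _ _ _ _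

end main


/-- In characteristic 2, O_{2m+1}(q) is isomorphic to Sp_{2m}(q). -/
theorem result {F : Type*} [Field F] [Fintype F] [CharP F 2] (m : ℕ) : Nonempty (Cfsg.isometryGroup F (Cfsg.quadFormOdd m F) ≃* Matrix.symplecticGroup (Fin m) F) := by
  exact ⟨MulEquiv.ofBijective Phi ⟨Phi_injective, Phi_surjective⟩⟩

end Cfsg.Agent.S0304
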