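import Cfsg.Statements.S0305


set_option autoImplicit false
set_option linter.unusedSectionVars false
open Cfsg

namespace Cfsg.Agent.S0305

open Matrix

section
variable {F : Type*} [Field F]

/-- the index type of the hyperbolic plane -/
abbrev I2 : Type := Fin 1 ⊕ Fin 1

/-- the `2 × 2` matrix with the given entries -/
def M (p q r s : F) : Matrix I2 I2 F := Matrix.of fun i j =>
  match i, j with
  | .inl _, .inl _ => p
  | .inl _, .inr _ => q
  | .inr _, .inl _ => r
  | .inr _, .inr _ => s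

theorem M_mul (p q r s p' q' r' s' : F) :
    M p q r s * M p' q' r' s' =
      M (p * p' + q * r') (p * q' + q * s') (r * p' + s * r') (r * q' + s * s') := by
  ext i j
  rcases i with i | i <;> rcases j with j | j <;>
    simp [M, Matrix.mul_apply, Fintype.sum_sum_type]

theorem M_one : (1 : Matrix I2 I2 F) = M 1 0 0 1 := by
  ext i j
  rcases i with i | i <;> rcases j with j | j <;>
    simp [M, Matrix.one_apply, Subsingleton.elim i j]

theorem M_eta (A : Matrix I2 I2 F) :
    A = M (A (.inl 0) (.inl 0)) (A (.inl 0) (.inr 0)) (A (.inr 0) (.inl 0)) (A (.inr 0) (.inr 0)) := by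
  ext i j
  rcases i with i | i <;> rcases j with j | j <;>
    simp [M, Subsingleton.elim i 0, Subsingleton.elim j 0]

theorem M_inj {p q r s p' q' r' s' : F} (h : M p q r s = M p' q' r' s') :
    p = p' ∧ q = q' ∧ r = r' ∧ s = s' := by
  refine ⟨?_, ?_, ?_, ?_⟩
  · simpa [M] using congrFun (congrFun h (.inl 0)) (.inl 0)
  · simpa [M] using congrFun (congrFun h (.inl 0)) (.inr 0)
  · simpa [M] using congrFun (congrFun h (.inr 0)) (.inl 0)
  · simpa [M] using congrFun (congrFun h (.inr 0)) (.inr 0)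

theorem quad_apply (v : I2 → F) : Cfsg.quadFormPlus 1 F v = v (.inl 0) * v (.inr 0) := by
  simp [Cfsg.quadFormPlus]

theorem M_mulVec (p q r s : F) (v : I2 → F) :
    Cfsg.quadFormPlus 1 F (M p q r s *ᵥ v) =
      (p * v (.inl 0) + q * v (.inr 0)) * (r * v (.inl 0) + s * v (.inr 0)) := by
  rw [quad_apply]
  simp [M, Matrix.mulVec, dotProduct, Fintype.sum_sum_type]

/-- the vector `(x, y)` -/
def vec (x y : F) : I2 → F := Sum.elim (fun _ => x) (fun _ => y)

theorem mem_iso_iff (g : GL I2 F) :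
    g ∈ Cfsg.isometryGroup F (Cfsg.quadFormPlus 1 F) ↔
      ∀ x y : F, (g.val (.inl 0) (.inl 0) * x + g.val (.inl 0) (.inr 0) * y) *
        (g.val (.inr 0) (.inl 0) * x + g.val (.inr 0) (.inr 0) * y) = x * y := by
  constructor
  · intro h x y
    have h1 : Cfsg.quadFormPlus 1 F (g.val *ᵥ vec x y) = Cfsg.quadFormPlus 1 F (vec x y) :=
      h (vec x y) 0
    rw [M_eta g.val, M_mulVec, quad_apply] at h1
    simpa [vec] using h1
  · intro h u v
    show Cfsg.quadFormPlus 1 F (g.val *ᵥ u) = Cfsg.quadFormPlus 1 F u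
    rw [M_eta g.val, M_mulVec, quad_apply]
    exact h _ _

theorem classify {p q r s : F} :
    (∀ x y : F, (p * x + q * y) * (r * x + s * y) = x * y) ↔
      (q = 0 ∧ r = 0 ∧ p * s = 1) ∨ (p = 0 ∧ s = 0 ∧ q * r = 1) := by
  constructor
  · intro h
    have h1 : p * r = 0 := by simpa using h 1 0
    have h2 : q * s = 0 := by simpa using h 0 1
    have h3 : p * s + q * r = 1 := by
      have := h 1 1
      simp only [mul_one] at this
      linear_combination this - h1 - h2
    by_cases hp : p = 0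
    · right
      subst hp
      have hqr : q * r = 1 := by simpa using h3
      have hq : q ≠ 0 := by
        rintro rfl; simp at hqr
      exact ⟨rfl, (mul_eq_zero.1 h2).resolve_left hq, hqr⟩
    · left
      have hr : r = 0 := (mul_eq_zero.1 h1).resolve_left hp
      subst hr
      have hps : p * s = 1 := by simpa using h3
      have hs : s ≠ 0 := by
        rintro rfl; simp at hps
      exact ⟨(mul_eq_zero.1 h2).resolve_right hs, rfl, hps⟩
  · rintro (⟨rfl, rfl, h⟩ | ⟨rfl, rfl, h⟩) x y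
    · linear_combination (x * y) * h
    · linear_combination (x * y) * h

/-- the diagonal isometry -/
def Dg (a : Fˣ) : GL I2 F :=
  ⟨M a.val 0 0 a.inv, M a.inv 0 0 a.val,
    by rw [M_mul, M_one]; simp, by rw [M_mul, M_one]; simp⟩

/-- the antidiagonal isometry -/
def Ag (a : Fˣ) : GL I2 F :=
  ⟨M 0 a.val a.inv 0, M 0 a.val a.inv 0,
    by rw [M_mul, M_one]; simp, by rw [M_mul, M_one]; simp⟩

theorem Dg_mul_Dg (a b : Fˣ) : Dg a * Dg b = Dg (a * b) := by
  apply Units.ext
  show M _ _ _ _ * M _ _ _ _ = M _ _ _ _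
  rw [M_mul]
  simp [mul_comm]

theorem Dg_mul_Ag (a b : Fˣ) : Dg a * Ag b = Ag (a * b) := by
  apply Units.ext
  show M _ _ _ _ * M _ _ _ _ = M _ _ _ _
  rw [M_mul]
  simp [mul_comm]

theorem Ag_mul_Dg (a b : Fˣ) : Ag a * Dg b = Ag (a * b⁻¹) := by
  apply Units.ext
  show M _ _ _ _ * M _ _ _ _ = M _ _ _ _
  rw [M_mul]
  simp [mul_comm]

theorem Ag_mul_Ag (a b : Fˣ) : Ag a * Ag b = Dg (a * b⁻¹) := by
  apply Units.ext
  show M _ _ _ _ * M _ _ _ _ = M _ _ _ _
  rw [M_mul]
  simp [mul_comm]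

theorem Dg_one : Dg (1 : Fˣ) = 1 := by
  apply Units.ext
  show M _ _ _ _ = 1
  rw [M_one]; simp

theorem Dg_mem (a : Fˣ) : Dg a ∈ Cfsg.isometryGroup F (Cfsg.quadFormPlus 1 F) := by
  rw [mem_iso_iff]
  show ∀ x y : F, (M a.val 0 0 a.inv (.inl 0) (.inl 0) * x + M a.val 0 0 a.inv (.inl 0) (.inr 0) * y) *
    (M a.val 0 0 a.inv (.inr 0) (.inl 0) * x + M a.val 0 0 a.inv (.inr 0) (.inr 0) * y) = x * y
  simp only [M, Matrix.of_apply]
  exact classify.2 (Or.inl ⟨rfl, rfl, a.val_inv⟩)

theorem Ag_mem (a : Fˣ) : Ag a ∈ Cfsg.isometryGroup F (Cfsg.quadFormPlus 1 F) := by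
  rw [mem_iso_iff]
  show ∀ x y : F, (M 0 a.val a.inv 0 (.inl 0) (.inl 0) * x + M 0 a.val a.inv 0 (.inl 0) (.inr 0) * y) *
    (M 0 a.val a.inv 0 (.inr 0) (.inl 0) * x + M 0 a.val a.inv 0 (.inr 0) (.inr 0) * y) = x * y
  simp only [M, Matrix.of_apply]
  exact classify.2 (Or.inr ⟨rfl, rfl, a.val_inv⟩)

theorem eq_Dg_or_Ag {g : GL I2 F} (hg : g ∈ Cfsg.isometryGroup F (Cfsg.quadFormPlus 1 F)) :
    (∃ a : Fˣ, g = Dg a) ∨ (∃ a : Fˣ, g = Ag a) := by
  rw [mem_iso_iff, classify] at hg
  rcases hg with ⟨hq, hr, hps⟩ | ⟨hp, hs, hqr⟩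
  · left
    refine ⟨⟨_, _, hps, by rw [mul_comm]; exact hps⟩, ?_⟩
    apply Units.ext
    show g.val = M _ _ _ _
    conv_lhs => rw [M_eta g.val, hq, hr]
  · right
    refine ⟨⟨_, _, hqr, by rw [mul_comm]; exact hqr⟩, ?_⟩
    apply Units.ext
    show g.val = M _ _ _ _
    conv_lhs => rw [M_eta g.val, hp, hs]

theorem Dg_injective : Function.Injective (Dg (F := F)) := by
  intro a b h
  have h1 : (Dg a).val = (Dg b).val := congrArg Units.val h
  exact Units.ext (M_inj h1).1

theorem Ag_injective : Function.Injective (Ag (F := F)) := by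
  intro a b h
  have h1 : (Ag a).val = (Ag b).val := congrArg Units.val h
  exact Units.ext (M_inj h1).2.1

theorem Dg_ne_Ag (a b : Fˣ) : Dg a ≠ Ag b := by
  intro h
  have h1 : (Dg a).val = (Ag b).val := congrArg Units.val h
  exact a.ne_zero (M_inj h1).1

end

section
variable {F : Type*} [Field F] [Fintype F]

/-- the map from the dihedral group, for an isomorphism `e` of `ZMod N` with the units -/
def psi0 {N : ℕ} (e : Multiplicative (ZMod N) ≃* Fˣ) : DihedralGroup N → GL I2 F
  | .r i => Dg (e (Multiplicative.ofAdd i))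
  | .sr i => Ag (e (Multiplicative.ofAdd (-i)))

theorem psi0_mul {N : ℕ} (e : Multiplicative (ZMod N) ≃* Fˣ) (x y : DihedralGroup N) :
    psi0 e (x * y) = psi0 e x * psi0 e y := by
  rcases x with i | i <;> rcases y with j | j
  · rw [DihedralGroup.r_mul_r]
    simp only [psi0]
    rw [Dg_mul_Dg, ← map_mul, ← ofAdd_add]
  · rw [DihedralGroup.r_mul_sr]
    simp only [psi0]
    rw [Dg_mul_Ag, ← map_mul, ← ofAdd_add]
    congr 3; ring
  · rw [DihedralGroup.sr_mul_r]
    simp only [psi0]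
    rw [Ag_mul_Dg, ← map_inv, ← map_mul, ← ofAdd_neg, ← ofAdd_add]
    congr 3; ring
  · rw [DihedralGroup.sr_mul_sr]
    simp only [psi0]
    rw [Ag_mul_Ag, ← map_inv, ← map_mul, ← ofAdd_neg, ← ofAdd_add]
    congr 3; ring

theorem main (F : Type*) [Field F] [Fintype F] :
    Nonempty (Cfsg.isometryGroup F (Cfsg.quadFormPlus 1 F) ≃* DihedralGroup (Nat.card Fˣ)) := by
  let e : Multiplicative (ZMod (Nat.card Fˣ)) ≃* Fˣ := zmodCyclicMulEquiv inferInstance
  let ψ₁ : DihedralGroup (Nat.card Fˣ) →* GL I2 F :=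
    { toFun := psi0 e
      map_one' := by
        rw [DihedralGroup.one_def]
        simp only [psi0]
        rw [ofAdd_zero, map_one, Dg_one]
      map_mul' := psi0_mul e }
  have hmem : ∀ x, ψ₁ x ∈ Cfsg.isometryGroup F (Cfsg.quadFormPlus 1 F) := by
    intro x
    rcases x with i | i
    · exact Dg_mem _
    · exact Ag_mem _
  let ψ : DihedralGroup (Nat.card Fˣ) →* Cfsg.isometryGroup F (Cfsg.quadFormPlus 1 F) :=
    ψ₁.codRestrict _ hmem
  have hinj : Function.Injective ψ := by
    intro x y h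
    have h1 : psi0 e x = psi0 e y := congrArg Subtype.val h
    rcases x with i | i <;> rcases y with j | j
    · simp only [psi0] at h1
      have := e.injective (Dg_injective h1)
      rw [Multiplicative.ofAdd.injective this]
    · simp only [psi0] at h1
      exact absurd h1 (Dg_ne_Ag _ _)
    · simp only [psi0] at h1
      exact absurd h1.symm (Dg_ne_Ag _ _)
    · simp only [psi0] at h1
      have := Multiplicative.ofAdd.injective (e.injective (Ag_injective h1))
      rw [neg_injective this]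
  have hsurj : Function.Surjective ψ := by
    rintro ⟨g, hg⟩
    rcases eq_Dg_or_Ag hg with ⟨a, rfl⟩ | ⟨a, rfl⟩
    · obtain ⟨m, rfl⟩ := e.surjective a
      refine ⟨.r (Multiplicative.toAdd m), Subtype.ext ?_⟩
      show psi0 e (.r (Multiplicative.toAdd m)) = Dg (e m)
      simp only [psi0, ofAdd_toAdd]
    · obtain ⟨m, rfl⟩ := e.surjective a
      refine ⟨.sr (-(Multiplicative.toAdd m)), Subtype.ext ?_⟩
      show psi0 e (.sr (-(Multiplicative.toAdd m))) = Ag (e m)
      simp only [psi0, neg_neg, ofAdd_toAdd]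
  exact ⟨(MulEquiv.ofBijective ψ ⟨hinj, hsurj⟩).symm⟩

end


/-- GO^+_2(q) is dihedral of order 2(q-1). -/
theorem result {F : Type*} [Field F] [Fintype F] {q : ℕ} (hF : Fintype.card F = q) : Nonempty (Cfsg.isometryGroup F (Cfsg.quadFormPlus 1 F) ≃* DihedralGroup (q - 1)) := by
  classical
  have h : q - 1 = Nat.card Fˣ := by
    rw [Nat.card_eq_fintype_card, Fintype.card_units, hF]
  rw [h]
  exact main F

end Cfsg.Agent.S0305
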