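import Cfsg.Statements.S0306

set_option autoImplicit false
set_option linter.unusedSectionVars false
open Cfsg

namespace Cfsg.Agent.S0306

open Matrix

section
variable {F : Type*} [Field F]

/-- the index type of the anisotropic plane -/
abbrev I2 : Type := (Fin 0 ⊕ Fin 0) ⊕ Fin 2

/-- the `2 × 2` matrix with the given entries -/
def M (p q r s : F) : Matrix I2 I2 F := Matrix.of fun i j =>
  match i, j with
  | .inr i, .inr j => !![p, q; r, s] i j
  | _, _ => 0

theorem I2_cases (P : I2 → Prop) (h0 : P (.inr 0)) (h1 : P (.inr 1)) : ∀ i, P i := by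
  rintro ((i | i) | i)
  · exact i.elim0
  · exact i.elim0
  · fin_cases i
    · exact h0
    · exact h1

theorem sum_I2 (f : I2 → F) : ∑ i, f i = f (.inr 0) + f (.inr 1) := by
  rw [Fintype.sum_sum_type, Fin.sum_univ_two]
  simp

theorem M_mul (p q r s p' q' r' s' : F) :
    M p q r s * M p' q' r' s' =
      M (p * p' + q * r') (p * q' + q * s') (r * p' + s * r') (r * q' + s * s') := by
  ext i j
  revert i j
  refine I2_cases _ (I2_cases _ ?_ ?_) (I2_cases _ ?_ ?_) <;>
    simp [M, Matrix.mul_apply, sum_I2]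

theorem M_one : (1 : Matrix I2 I2 F) = M 1 0 0 1 := by
  ext i j
  revert i j
  refine I2_cases _ (I2_cases _ ?_ ?_) (I2_cases _ ?_ ?_) <;>
    simp [M, Matrix.one_apply]

theorem M_eta (A : Matrix I2 I2 F) :
    A = M (A (.inr 0) (.inr 0)) (A (.inr 0) (.inr 1)) (A (.inr 1) (.inr 0)) (A (.inr 1) (.inr 1)) := by
  ext i j
  revert i j
  refine I2_cases _ (I2_cases _ ?_ ?_) (I2_cases _ ?_ ?_) <;>
    simp [M]

theorem M_inj {p q r s p' q' r' s' : F} (h : M p q r s = M p' q' r' s') :
    p = p' ∧ q = q' ∧ r = r' ∧ s = s' := by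
  refine ⟨?_, ?_, ?_, ?_⟩
  · simpa [M] using congrFun (congrFun h (.inr 0)) (.inr 0)
  · simpa [M] using congrFun (congrFun h (.inr 0)) (.inr 1)
  · simpa [M] using congrFun (congrFun h (.inr 1)) (.inr 0)
  · simpa [M] using congrFun (congrFun h (.inr 1)) (.inr 1)

/-- the binary form -/
def Nm (a b x y : F) : F := x ^ 2 + a * x * y + b * y ^ 2

theorem quad_apply (a b : F) (v : I2 → F) :
    Cfsg.quadFormMinus 0 F a b v = Nm a b (v (.inr 0)) (v (.inr 1)) := by
  simp [Cfsg.quadFormMinus, Nm]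

theorem M_mulVec (a b p q r s : F) (v : I2 → F) :
    Cfsg.quadFormMinus 0 F a b (M p q r s *ᵥ v) =
      Nm a b (p * v (.inr 0) + q * v (.inr 1)) (r * v (.inr 0) + s * v (.inr 1)) := by
  rw [quad_apply]
  simp [M, Matrix.mulVec, dotProduct, sum_I2]

/-- the vector `(x, y)` -/
def vec (x y : F) : I2 → F := Sum.elim (fun _ => 0) ![x, y]

theorem mem_iso_iff (a b : F) (g : GL I2 F) :
    g ∈ Cfsg.isometryGroup F (Cfsg.quadFormMinus 0 F a b) ↔
      ∀ x y : F, Nm a b (g.val (.inr 0) (.inr 0) * x + g.val (.inr 0) (.inr 1) * y)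
        (g.val (.inr 1) (.inr 0) * x + g.val (.inr 1) (.inr 1) * y) = Nm a b x y := by
  constructor
  · intro h x y
    have h1 : Cfsg.quadFormMinus 0 F a b (g.val *ᵥ vec x y) = Cfsg.quadFormMinus 0 F a b (vec x y) :=
      h (vec x y) 0
    rw [M_eta g.val, M_mulVec, quad_apply] at h1
    simpa [vec] using h1
  · intro h u v
    show Cfsg.quadFormMinus 0 F a b (g.val *ᵥ u) = Cfsg.quadFormMinus 0 F a b u
    rw [M_eta g.val, M_mulVec, quad_apply]
    exact h _ _

end

section
variable {F : Type*} [Field F]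

theorem Nm_mul (a b p r x y : F) :
    Nm a b (p * x + (-(b * r)) * y) (r * x + (p + a * r) * y) = Nm a b p r * Nm a b x y := by
  simp only [Nm]; ring

theorem Nm_mul' (a b p r x y : F) :
    Nm a b (p * x + (a * p + b * r) * y) (r * x + (-p) * y) = Nm a b p r * Nm a b x y := by
  simp only [Nm]; ring

theorem classify {a b : F} (hab : ∀ z₁ z₂ : F, Nm a b z₁ z₂ = 0 → z₁ = 0 ∧ z₂ = 0) {p q r s : F} :
    (∀ x y : F, Nm a b (p * x + q * y) (r * x + s * y) = Nm a b x y) ↔
      Nm a b p r = 1 ∧ ((q = -(b * r) ∧ s = p + a * r) ∨ (q = a * p + b * r ∧ s = -p)) := by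
  constructor
  · intro h
    have h1 : Nm a b p r = 1 := by simpa [Nm] using h 1 0
    have h2 : Nm a b q s = b := by simpa [Nm] using h 0 1
    have h3 : Nm a b (p + q) (r + s) = 1 + a + b := by simpa [Nm] using h 1 1
    refine ⟨h1, ?_⟩
    simp only [Nm] at h1 h2 h3
    -- X = re (star u * w), Y = im (star u * w)
    set X := (p + a * r) * q + b * r * s with hX
    set Y := p * s - r * q with hY
    have htr : 2 * X + a * Y = a := by
      rw [hX, hY]; linear_combination h3 - h1 - h2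
    have hN : X ^ 2 + a * X * Y + b * Y ^ 2 = b := by
      rw [hX, hY]; linear_combination (q ^ 2 + a * q * s + b * s ^ 2) * h1 + h2
    have hprod : Nm a b X (Y - 1) * Nm a b (X - a) (Y + 1) = 0 := by
      have e1 : X ^ 2 - a * X - b * Y ^ 2 + b = 0 := by linear_combination X * htr - hN
      have e2 : Y * (2 * X + a * Y - a) = 0 := by linear_combination Y * htr
      have : Nm a b X (Y - 1) * Nm a b (X - a) (Y + 1) =
          Nm a b (X ^ 2 - a * X - b * Y ^ 2 + b) (Y * (2 * X + a * Y - a)) := by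
        simp only [Nm]; ring
      rw [this, e1, e2]; simp [Nm]
    rcases mul_eq_zero.1 hprod with h0 | h0
    · obtain ⟨hx, hy⟩ := hab _ _ h0
      left
      have hy' : Y = 1 := by linear_combination hy
      constructor
      · linear_combination p * hx - b * r * hy' - q * h1 + (p * hX - b * r * hY)
      · linear_combination r * hx + (p + a * r) * hy' - s * h1 + (r * hX + (p + a * r) * hY)
    · obtain ⟨hx, hy⟩ := hab _ _ h0
      right
      have hx' : X = a := by linear_combination hx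
      have hy' : Y = -1 := by linear_combination hy
      constructor
      · linear_combination p * hx' - b * r * hy' - q * h1 + (p * hX - b * r * hY)
      · linear_combination r * hx' + (p + a * r) * hy' - s * h1 + (r * hX + (p + a * r) * hY)
  · rintro ⟨h, (⟨rfl, rfl⟩ | ⟨rfl, rfl⟩)⟩ x y
    · rw [Nm_mul, h, one_mul]
    · rw [Nm_mul', h, one_mul]

end

section
variable {F : Type*} [Field F] (a b : F)

/-- the quadratic extension in which `Nm a b` is the norm -/
abbrev K : Type _ := QuadraticAlgebra F (-b) a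

theorem fact_of_aniso {a b : F} (hab : ∀ z₁ z₂ : F, Nm a b z₁ z₂ = 0 → z₁ = 0 ∧ z₂ = 0) :
    Fact (∀ r : F, r ^ 2 ≠ -b + a * r) :=
  ⟨fun r h => by
    have := (hab r (-1) (by simp only [Nm]; linear_combination h)).2
    simp at this⟩

theorem norm_eq (z : K a b) : QuadraticAlgebra.norm z = Nm a b z.re z.im := by
  rw [QuadraticAlgebra.norm_def]; simp only [Nm]; ring

/-- rotation matrix: multiplication by `z` -/
def RotM (z : K a b) : Matrix I2 I2 F := M z.re (-(b * z.im)) z.im (z.re + a * z.im)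

/-- reflection matrix: conjugation followed by multiplication by `z` -/
def RefM (z : K a b) : Matrix I2 I2 F := M z.re (a * z.re + b * z.im) z.im (-z.re)

theorem RotM_mul_RotM (z w : K a b) : RotM a b z * RotM a b w = RotM a b (z * w) := by
  simp only [RotM, M_mul, QuadraticAlgebra.re_mul, QuadraticAlgebra.im_mul]
  congr 1 <;> ring

theorem RotM_mul_RefM (z w : K a b) : RotM a b z * RefM a b w = RefM a b (z * w) := by
  simp only [RotM, RefM, M_mul, QuadraticAlgebra.re_mul, QuadraticAlgebra.im_mul]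
  congr 1 <;> ring

theorem RefM_mul_RotM (z w : K a b) : RefM a b z * RotM a b w = RefM a b (z * star w) := by
  simp only [RotM, RefM, M_mul, QuadraticAlgebra.re_mul, QuadraticAlgebra.im_mul,
    QuadraticAlgebra.re_star, QuadraticAlgebra.im_star]
  congr 1 <;> ring

theorem RefM_mul_RefM (z w : K a b) : RefM a b z * RefM a b w = RotM a b (z * star w) := by
  simp only [RotM, RefM, M_mul, QuadraticAlgebra.re_mul, QuadraticAlgebra.im_mul,
    QuadraticAlgebra.re_star, QuadraticAlgebra.im_star]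
  congr 1 <;> ring

theorem RotM_one : RotM a b 1 = 1 := by
  rw [M_one]
  simp [RotM, QuadraticAlgebra.re_one, QuadraticAlgebra.im_one]

end

section
variable {F : Type*} [Field F] (a b : F) [Fact (∀ r : F, r ^ 2 ≠ -b + a * r)]

/-- the norm-one group -/
def Rg : Subgroup (K a b)ˣ := (Units.map (QuadraticAlgebra.norm : K a b →* F)).ker

theorem mem_Rg {u : (K a b)ˣ} : u ∈ Rg a b ↔ Nm a b u.val.re u.val.im = 1 := by
  rw [Rg, MonoidHom.mem_ker, Units.ext_iff, Units.coe_map, Units.val_one, ← norm_eq]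

theorem Nm_of_mem (u : Rg a b) : Nm a b u.val.val.re u.val.val.im = 1 := (mem_Rg a b).1 u.2

theorem star_eq_inv (u : Rg a b) : star (u.val.val) = (u⁻¹).val.val := by
  have h1 : u.val.val * star u.val.val = 1 := by
    rw [← QuadraticAlgebra.algebraMap_norm_eq_mul_star, norm_eq, Nm_of_mem, map_one]
  have h2 : ((u⁻¹ : Rg a b) : (K a b)ˣ) = (u : (K a b)ˣ)⁻¹ := rfl
  rw [h2]
  exact (Units.inv_eq_of_mul_eq_one_right h1).symm

/-- the rotation by `u` -/
def Rot (u : Rg a b) : GL I2 F :=
  ⟨RotM a b u.val.val, RotM a b (u⁻¹).val.val,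
    by rw [RotM_mul_RotM, ← Units.val_mul, ← Subgroup.coe_mul, mul_inv_cancel]; exact RotM_one a b,
    by rw [RotM_mul_RotM, ← Units.val_mul, ← Subgroup.coe_mul, inv_mul_cancel]; exact RotM_one a b⟩

/-- the reflection attached to `u` -/
def Ref (u : Rg a b) : GL I2 F :=
  ⟨RefM a b u.val.val, RefM a b u.val.val,
    by rw [RefM_mul_RefM, star_eq_inv, ← Units.val_mul, ← Subgroup.coe_mul, mul_inv_cancel]
       exact RotM_one a b,
    by rw [RefM_mul_RefM, star_eq_inv, ← Units.val_mul, ← Subgroup.coe_mul, mul_inv_cancel]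
       exact RotM_one a b⟩

theorem Rot_mul_Rot (u v : Rg a b) : Rot a b u * Rot a b v = Rot a b (u * v) := by
  apply Units.ext
  show RotM a b _ * RotM a b _ = RotM a b _
  rw [RotM_mul_RotM]; rfl

theorem Rot_mul_Ref (u v : Rg a b) : Rot a b u * Ref a b v = Ref a b (u * v) := by
  apply Units.ext
  show RotM a b _ * RefM a b _ = RefM a b _
  rw [RotM_mul_RefM]; rfl

theorem Ref_mul_Rot (u v : Rg a b) : Ref a b u * Rot a b v = Ref a b (u * v⁻¹) := by
  apply Units.ext
  show RefM a b _ * RotM a b _ = RefM a b _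
  rw [RefM_mul_RotM, star_eq_inv]; rfl

theorem Ref_mul_Ref (u v : Rg a b) : Ref a b u * Ref a b v = Rot a b (u * v⁻¹) := by
  apply Units.ext
  show RefM a b _ * RefM a b _ = RotM a b _
  rw [RefM_mul_RefM, star_eq_inv]; rfl

theorem Rot_one : Rot a b 1 = 1 := by
  apply Units.ext
  show RotM a b _ = 1
  exact RotM_one a b

end

section
variable {F : Type*} [Field F]

@[simp] theorem M_00 (p q r s : F) : M p q r s (.inr 0) (.inr 0) = p := rfl
@[simp] theorem M_01 (p q r s : F) : M p q r s (.inr 0) (.inr 1) = q := rfl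
@[simp] theorem M_10 (p q r s : F) : M p q r s (.inr 1) (.inr 0) = r := rfl
@[simp] theorem M_11 (p q r s : F) : M p q r s (.inr 1) (.inr 1) = s := rfl

theorem mem_iso_M (a b : F) {g : GL I2 F} {p q r s : F} (hg : g.val = M p q r s) :
    g ∈ Cfsg.isometryGroup F (Cfsg.quadFormMinus 0 F a b) ↔
      ∀ x y : F, Nm a b (p * x + q * y) (r * x + s * y) = Nm a b x y := by
  rw [mem_iso_iff, hg]
  simp only [M_00, M_01, M_10, M_11]

theorem three_roots {a b y x₁ x₂ x₃ : F} (h₁ : Nm a b x₁ y = 1) (h₂ : Nm a b x₂ y = 1)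
    (h₃ : Nm a b x₃ y = 1) (h12 : x₁ ≠ x₂) (h13 : x₁ ≠ x₃) : x₂ = x₃ := by
  simp only [Nm] at h₁ h₂ h₃
  have e2 : (x₁ - x₂) * (x₁ + x₂ + a * y) = 0 := by linear_combination h₁ - h₂
  have e3 : (x₁ - x₃) * (x₁ + x₃ + a * y) = 0 := by linear_combination h₁ - h₃
  have f2 := (mul_eq_zero.1 e2).resolve_left (sub_ne_zero.2 h12)
  have f3 := (mul_eq_zero.1 e3).resolve_left (sub_ne_zero.2 h13)
  linear_combination f2 - f3

end

section
variable {F : Type*} [Field F] (a b : F) [Fact (∀ r : F, r ^ 2 ≠ -b + a * r)]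

theorem Rot_mem (u : Rg a b) :
    Rot a b u ∈ Cfsg.isometryGroup F (Cfsg.quadFormMinus 0 F a b) := by
  rw [mem_iso_M a b (show (Rot a b u).val = M _ _ _ _ from rfl)]
  intro x y
  rw [Nm_mul, Nm_of_mem, one_mul]

theorem Ref_mem (u : Rg a b) :
    Ref a b u ∈ Cfsg.isometryGroup F (Cfsg.quadFormMinus 0 F a b) := by
  rw [mem_iso_M a b (show (Ref a b u).val = M _ _ _ _ from rfl)]
  intro x y
  rw [Nm_mul', Nm_of_mem, one_mul]

theorem eq_Rot_or_Ref (hab : ∀ z₁ z₂ : F, Nm a b z₁ z₂ = 0 → z₁ = 0 ∧ z₂ = 0) {g : GL I2 F}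
    (hg : g ∈ Cfsg.isometryGroup F (Cfsg.quadFormMinus 0 F a b)) :
    (∃ u : Rg a b, g = Rot a b u) ∨ (∃ u : Rg a b, g = Ref a b u) := by
  rw [mem_iso_M a b (M_eta g.val), classify hab] at hg
  obtain ⟨h1, h⟩ := hg
  set p := g.val (.inr 0) (.inr 0) with hp
  set r := g.val (.inr 1) (.inr 0) with hr
  have hne : (⟨p, r⟩ : K a b) ≠ 0 := by
    intro h0
    have e1 : p = 0 := congrArg QuadraticAlgebra.re h0
    have e2 : r = 0 := congrArg QuadraticAlgebra.im h0
    rw [e1, e2] at h1
    simp [Nm] at h1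
  have hu : Units.mk0 (⟨p, r⟩ : K a b) hne ∈ Rg a b := (mem_Rg a b).2 h1
  rcases h with ⟨hq, hs⟩ | ⟨hq, hs⟩
  · left
    refine ⟨⟨_, hu⟩, ?_⟩
    apply Units.ext
    show g.val = M _ _ _ _
    conv_lhs => rw [M_eta g.val, hq, hs]
    rfl
  · right
    refine ⟨⟨_, hu⟩, ?_⟩
    apply Units.ext
    show g.val = M _ _ _ _
    conv_lhs => rw [M_eta g.val, hq, hs]
    rfl

theorem Rot_injective : Function.Injective (Rot a b) := by
  intro u v h
  have h1 : (Rot a b u).val = (Rot a b v).val := congrArg Units.val h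
  have h2 := M_inj h1
  exact Subtype.ext (Units.ext (QuadraticAlgebra.ext h2.1 h2.2.2.1))

theorem Ref_injective : Function.Injective (Ref a b) := by
  intro u v h
  have h1 : (Ref a b u).val = (Ref a b v).val := congrArg Units.val h
  have h2 := M_inj h1
  exact Subtype.ext (Units.ext (QuadraticAlgebra.ext h2.1 h2.2.2.1))

end

section
variable {F : Type*} [Field F]

theorem not_char2_a0 [Finite F] {a b : F}
    (hab : ∀ z₁ z₂ : F, Nm a b z₁ z₂ = 0 → z₁ = 0 ∧ z₂ = 0) (h2 : (2 : F) = 0) (ha : a = 0) :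
    False := by
  have hinj : Function.Injective (fun x : F => x ^ 2) := by
    intro x y hxy
    have hxy' : x ^ 2 = y ^ 2 := hxy
    have : (x - y) ^ 2 = 0 := by
      linear_combination hxy' - (x * y - y ^ 2) * h2
    exact sub_eq_zero.1 ((pow_eq_zero_iff (by norm_num)).1 this)
  obtain ⟨c, hc⟩ := (Finite.injective_iff_surjective.1 hinj) b
  have hc' : c ^ 2 = b := hc
  have := (hab c 1 (by simp only [Nm]; rw [ha]; linear_combination hc' + b * h2)).2
  exact one_ne_zero this

end

section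
variable {F : Type*} [Field F] [Fintype F] (a b : F) [Fact (∀ r : F, r ^ 2 ≠ -b + a * r)]

theorem Rot_ne_Ref (hab : ∀ z₁ z₂ : F, Nm a b z₁ z₂ = 0 → z₁ = 0 ∧ z₂ = 0) (u v : Rg a b) :
    Rot a b u ≠ Ref a b v := by
  intro h
  have h1 : (Rot a b u).val = (Ref a b v).val := congrArg Units.val h
  obtain ⟨e1, e2, e3, e4⟩ := M_inj h1
  have hN := Nm_of_mem a b u
  set p := u.val.val.re
  set r := u.val.val.im
  rw [← e1] at e4
  rw [← e1, ← e3] at e2
  simp only [Nm] at hN
  have h2 : (2 : F) = 0 := by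
    linear_combination p * e4 - r * e2 - 2 * hN
  have har : a * r = 0 := by linear_combination e4 - p * h2
  have hap : a * p = 0 := by linear_combination (-1 : F) * e2 - b * r * h2
  by_cases ha : a = 0
  · exact not_char2_a0 hab h2 ha
  · have hr : r = 0 := (mul_eq_zero.1 har).resolve_left ha
    have hp : p = 0 := (mul_eq_zero.1 hap).resolve_left ha
    rw [hr, hp] at hN
    simp at hN

instance : Finite (K a b) := Finite.of_equiv _ (QuadraticAlgebra.equivProd (-b) a).symm

theorem card_K : Nat.card (K a b) = Fintype.card F ^ 2 := by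
  rw [Nat.card_congr (QuadraticAlgebra.equivProd (-b) a), Nat.card_prod, Nat.card_eq_fintype_card,
    sq]

theorem card_Rg_le : Nat.card (Rg a b) ≤ 2 * Fintype.card F := by
  classical
  let _ : Fintype (Rg a b) := Fintype.ofFinite _
  rw [Nat.card_eq_fintype_card, ← Finset.card_univ, ← Finset.card_univ (α := F)]
  refine Finset.card_le_mul_card_image_of_maps_to (f := fun u : Rg a b => u.val.val.im)
    (fun _ _ => Finset.mem_univ _) 2 ?_
  intro y _
  by_contra hlt
  rw [not_le, Finset.two_lt_card] at hlt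
  obtain ⟨u₁, hu₁, u₂, hu₂, u₃, hu₃, h12, h13, h23⟩ := hlt
  simp only [Finset.mem_filter, Finset.mem_univ, true_and] at hu₁ hu₂ hu₃
  have re_ne : ∀ u v : Rg a b, u.val.val.im = y → v.val.val.im = y → u ≠ v →
      u.val.val.re ≠ v.val.val.re := by
    intro u v hu hv huv h
    exact huv (Subtype.ext (Units.ext (QuadraticAlgebra.ext h (hu.trans hv.symm))))
  have n1 := Nm_of_mem a b u₁
  have n2 := Nm_of_mem a b u₂
  have n3 := Nm_of_mem a b u₃
  rw [hu₁] at n1; rw [hu₂] at n2; rw [hu₃] at n3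
  exact re_ne u₂ u₃ hu₂ hu₃ h23
    (three_roots n1 n2 n3 (re_ne _ _ hu₁ hu₂ h12) (re_ne _ _ hu₁ hu₃ h13))

theorem card_Rg : Nat.card (Rg a b) = Fintype.card F + 1 := by
  have hq2 : 2 ≤ Fintype.card F := Fintype.one_lt_card
  let ν : (K a b)ˣ →* Fˣ := Units.map (QuadraticAlgebra.norm : K a b →* F)
  have h1 : Nat.card (Rg a b) * Nat.card ν.range = Nat.card (K a b)ˣ := by
    rw [← Subgroup.index_ker]; exact Subgroup.card_mul_index _
  have h2 : Nat.card (K a b)ˣ + 1 = Fintype.card F ^ 2 := by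
    rw [← Nat.card_eq_card_units_add_one, card_K]
  have h3 : Nat.card Fˣ + 1 = Fintype.card F := by
    rw [← Nat.card_eq_card_units_add_one, Nat.card_eq_fintype_card]
  obtain ⟨m, hm⟩ : Nat.card ν.range ∣ Nat.card Fˣ := Subgroup.card_subgroup_dvd_card _
  have h4 := card_Rg_le a b
  have hk : 0 < Nat.card ν.range := Nat.card_pos
  generalize Nat.card (Rg a b) = n at *
  generalize Nat.card ν.range = k at *
  generalize Fintype.card F = q at *
  generalize Nat.card (K a b)ˣ = N at *
  generalize Nat.card Fˣ = f at *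
  subst hm
  have e1 : n * k = k * (m * q + m) := by
    have : n * k + 1 = (k * m + 1) * q := by rw [h1, h2, h3, sq]
    nlinarith
  have e2 : n = m * q + m := Nat.eq_of_mul_eq_mul_left hk (by rw [mul_comm]; exact e1)
  rcases Nat.lt_or_ge m 2 with hm2 | hm2
  · interval_cases m
    · omega
    · omega
  · nlinarith

end

section
variable {F : Type*} [Field F] [Fintype F] (a b : F) [Fact (∀ r : F, r ^ 2 ≠ -b + a * r)]

/-- the map from the dihedral group, for an isomorphism `e` of `ZMod N` with the norm-one group -/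
def psi0 {N : ℕ} (e : Multiplicative (ZMod N) ≃* Rg a b) : DihedralGroup N → GL I2 F
  | .r i => Rot a b (e (Multiplicative.ofAdd i))
  | .sr i => Ref a b (e (Multiplicative.ofAdd (-i)))

theorem psi0_mul {N : ℕ} (e : Multiplicative (ZMod N) ≃* Rg a b) (x y : DihedralGroup N) :
    psi0 a b e (x * y) = psi0 a b e x * psi0 a b e y := by
  rcases x with i | i <;> rcases y with j | j
  · rw [DihedralGroup.r_mul_r]
    simp only [psi0]
    rw [Rot_mul_Rot, ← map_mul, ← ofAdd_add]
  · rw [DihedralGroup.r_mul_sr]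
    simp only [psi0]
    rw [Rot_mul_Ref, ← map_mul, ← ofAdd_add]
    congr 3; ring
  · rw [DihedralGroup.sr_mul_r]
    simp only [psi0]
    rw [Ref_mul_Rot, ← map_inv, ← map_mul, ← ofAdd_neg, ← ofAdd_add]
    congr 3; ring
  · rw [DihedralGroup.sr_mul_sr]
    simp only [psi0]
    rw [Ref_mul_Ref, ← map_inv, ← map_mul, ← ofAdd_neg, ← ofAdd_add]
    congr 3; ring

theorem main (hab : ∀ z₁ z₂ : F, Nm a b z₁ z₂ = 0 → z₁ = 0 ∧ z₂ = 0) :
    Nonempty (Cfsg.isometryGroup F (Cfsg.quadFormMinus 0 F a b) ≃*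
      DihedralGroup (Nat.card (Rg a b))) := by
  let e : Multiplicative (ZMod (Nat.card (Rg a b))) ≃* Rg a b := zmodCyclicMulEquiv inferInstance
  let ψ₁ : DihedralGroup (Nat.card (Rg a b)) →* GL I2 F :=
    { toFun := psi0 a b e
      map_one' := by
        rw [DihedralGroup.one_def]
        simp only [psi0]
        rw [ofAdd_zero, map_one, Rot_one]
      map_mul' := psi0_mul a b e }
  have hmem : ∀ x, ψ₁ x ∈ Cfsg.isometryGroup F (Cfsg.quadFormMinus 0 F a b) := by
    intro x
    rcases x with i | i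
    · exact Rot_mem a b _
    · exact Ref_mem a b _
  let ψ : DihedralGroup (Nat.card (Rg a b)) →*
      Cfsg.isometryGroup F (Cfsg.quadFormMinus 0 F a b) :=
    ψ₁.codRestrict _ hmem
  have hinj : Function.Injective ψ := by
    intro x y h
    have h1 : psi0 a b e x = psi0 a b e y := congrArg Subtype.val h
    rcases x with i | i <;> rcases y with j | j
    · simp only [psi0] at h1
      have := e.injective (Rot_injective a b h1)
      rw [Multiplicative.ofAdd.injective this]
    · simp only [psi0] at h1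
      exact absurd h1 (Rot_ne_Ref a b hab _ _)
    · simp only [psi0] at h1
      exact absurd h1.symm (Rot_ne_Ref a b hab _ _)
    · simp only [psi0] at h1
      have := Multiplicative.ofAdd.injective (e.injective (Ref_injective a b h1))
      rw [neg_injective this]
  have hsurj : Function.Surjective ψ := by
    rintro ⟨g, hg⟩
    rcases eq_Rot_or_Ref a b hab hg with ⟨u, rfl⟩ | ⟨u, rfl⟩
    · obtain ⟨m, rfl⟩ := e.surjective u
      refine ⟨.r (Multiplicative.toAdd m), Subtype.ext ?_⟩
      show psi0 a b e (.r (Multiplicative.toAdd m)) = Rot a b (e m)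
      simp only [psi0, ofAdd_toAdd]
    · obtain ⟨m, rfl⟩ := e.surjective u
      refine ⟨.sr (-(Multiplicative.toAdd m)), Subtype.ext ?_⟩
      show psi0 a b e (.sr (-(Multiplicative.toAdd m))) = Ref a b (e m)
      simp only [psi0, neg_neg, ofAdd_toAdd]
  exact ⟨(MulEquiv.ofBijective ψ ⟨hinj, hsurj⟩).symm⟩

end

/-- GO^-_2(q) is dihedral of order 2(q+1). -/
theorem result {F : Type*} [Field F] [Fintype F] {q : ℕ} (hF : Fintype.card F = q) (a b : F) (hab : ∀ z₁ z₂ : F, z₁ ^ 2 + a * z₁ * z₂ + b * z₂ ^ 2 = 0 → z₁ = 0 ∧ z₂ = 0) : Nonempty (Cfsg.isometryGroup F (Cfsg.quadFormMinus 0 F a b) ≃* DihedralGroup (q + 1)) := by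
  have hab' : ∀ z₁ z₂ : F, Nm a b z₁ z₂ = 0 → z₁ = 0 ∧ z₂ = 0 := hab
  have := fact_of_aniso hab'
  have h : q + 1 = Nat.card (Rg a b) := by
    rw [card_Rg, hF]
  rw [h]
  exact main a b hab'

end Cfsg.Agent.S0306
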