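import Cfsg.Statements.S0316
import Cfsg.Agent.Lib.Helper6_BNPairC

set_option autoImplicit false
open Cfsg

namespace Cfsg.Agent.S0316

/-- The map `J ↦ P_J` is a lattice isomorphism from the power set of the set of distinguished generators onto the
subgroups containing `B`. -/
theorem result {G : Type*} [Group G] (P : Cfsg.BNPair G) :
    ∃ e : Set P.S ≃o {M : Subgroup G // P.B ≤ M},
      ∀ J : Set P.S, ((e J : {M : Subgroup G // P.B ≤ M}) : Subgroup G) = P.parabolic (Subtype.val '' J) := by
  open Cfsg.Agent.Lib.Helper6_BNPair in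
  refine ⟨
    { toFun := fun J => ⟨P.parabolic (Subtype.val '' J), B_le_parabolic P _⟩
      invFun := fun M => {s : P.S | (s : G) ∈ M.1}
      left_inv := ?_
      right_inv := ?_
      map_rel_iff' := ?_ }, ?_⟩
  · intro J
    ext s
    have hJ : (Subtype.val '' J : Set G) ⊆ P.S := by
      rintro _ ⟨x, _, rfl⟩; exact x.2
    constructor
    · intro hs
      have h1 := mem_of_mem_parabolic P hJ s.2 hs
      obtain ⟨x, hx, hxs⟩ := h1
      have : x = s := Subtype.ext hxs
      rw [← this]; exact hx
    · intro hs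
      exact closure_le_parabolic P _ (Subgroup.subset_closure ⟨s, hs, rfl⟩)
  · intro M
    apply Subtype.ext
    show P.parabolic (Subtype.val '' {s : P.S | (s : G) ∈ M.1}) = M.1
    have e : (Subtype.val '' {s : P.S | (s : G) ∈ M.1} : Set G) = P.S ∩ (M.1 : Set G) := by
      ext g
      constructor
      · rintro ⟨x, hx, rfl⟩; exact ⟨x.2, hx⟩
      · rintro ⟨h1, h2⟩; exact ⟨⟨g, h1⟩, h2, rfl⟩
    rw [e]
    exact (subgroup_eq_parabolic P M.2).symm
  · intro J K
    have hJ : (Subtype.val '' J : Set G) ⊆ P.S := by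
      rintro _ ⟨x, _, rfl⟩; exact x.2
    have hK : (Subtype.val '' K : Set G) ⊆ P.S := by
      rintro _ ⟨x, _, rfl⟩; exact x.2
    show P.parabolic (Subtype.val '' J) ≤ P.parabolic (Subtype.val '' K) ↔ J ≤ K
    rw [parabolic_le_iff P hJ hK]
    exact Set.image_subset_image_iff Subtype.val_injective
  · intro J
    rfl

end Cfsg.Agent.S0316
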