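import Cfsg.Statements.S0320
import Cfsg.Agent.Lib.Helper6_BNPairC
import Cfsg.Agent.Lib.Helper6_Coxeter

set_option autoImplicit false
open Cfsg

namespace Cfsg.Agent.S0320

open Cfsg.Agent.Lib.Helper6_BNPair Cfsg.Agent.Lib.Helper6_Word Cfsg.Agent.Lib.Helper6_Coxeter

theorem range_eq {G : Type*} [Group G] (P : Cfsg.BNPair G) :
    Set.range (fun s : P.S => π P ⟨(s : G), P.subset s.2⟩) = SW P := by
  ext w
  constructor
  · rintro ⟨s, rfl⟩
    exact ⟨⟨(s : G), P.subset s.2⟩, s.2, rfl⟩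
  · rintro ⟨n, hn, rfl⟩
    exact ⟨⟨(n : G), hn⟩, rfl⟩

theorem inj_aux {G : Type*} [Group G] (P : Cfsg.BNPair G) :
    Function.Injective (fun s : P.S => π P ⟨(s : G), P.subset s.2⟩) := by
  intro s s' h
  have h1 : (s : G)⁻¹ * (s' : G) ∈ P.B := (π_eq_iff P).1 h
  exact Subtype.ext (P.inj _ s.2 _ s'.2 h1)

theorem main {G : Type*} [Group G] (P : Cfsg.BNPair G) :
    ∃ (M : CoxeterMatrix P.S) (cs : CoxeterSystem M (W P)),
      ∀ s : P.S, cs.simple s = π P ⟨(s : G), P.subset s.2⟩ := by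
  apply exists_coxeterSystem (inj_aux P)
  · rw [range_eq]; exact invGen P
  · rw [range_eq]; exact exchange P


/-- The Weyl group `W = N / (B ⊓ N)` of a (B,N)-pair, with its distinguished involutions, is a Coxeter system. -/
theorem result {G : Type*} [Group G] (P : Cfsg.BNPair G)
    [hN : ((P.B ⊓ P.N).subgroupOf P.N).Normal] :
    ∃ (M : CoxeterMatrix P.S) (cs : CoxeterSystem M (P.N ⧸ (P.B ⊓ P.N).subgroupOf P.N)),
      ∀ s : P.S, cs.simple s = QuotientGroup.mk (⟨(s : G), P.subset s.2⟩ : P.N) := by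
  exact main P

end Cfsg.Agent.S0320
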