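import Cfsg.Statements.S0321
import Cfsg.Agent.Lib.Helper6_BNPairC

set_option autoImplicit false
open Cfsg

namespace Cfsg.Agent.S0321

/-- For `n ∈ N` not in `B`, the union `B ∪ B n B` is (the underlying set of) a subgroup exactly when `n` agrees
modulo `B ⊓ N` with one of the distinguished representatives; thus the distinguished involutions are
determined by `B` and `N`. -/
theorem result {G : Type*} [Group G] (P : Cfsg.BNPair G) {n : G}
    (hn : n ∈ P.N) (hnB : n ∉ P.B) :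
    (∃ H : Subgroup G, (H : Set G) = (P.B : Set G) ∪ DoubleCoset.doubleCoset n (P.B : Set G) P.B) ↔ ∃ s ∈ P.S, s⁻¹ * n ∈ P.B := by
  open Cfsg.Agent.Lib.Helper6_BNPair in
  constructor
  · rintro ⟨H, hH⟩
    have hBH : P.B ≤ H := by
      intro b hb
      have : b ∈ (H : Set G) := by rw [hH]; exact Or.inl hb
      exact this
    have hnH : n ∈ H := by
      have : n ∈ (H : Set G) := by rw [hH]; exact Or.inr (mem_C_self P n)
      exact this
    have hℓ : ℓ P ⟨n, hn⟩ ≠ 0 := by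
      rw [Ne, ℓ_eq_zero_iff]; exact hnB
    obtain ⟨k, hk⟩ := Nat.exists_eq_succ_of_ne_zero hℓ
    obtain ⟨σ, hσS, hσk⟩ := exists_simple_mul_of_ℓ_succ P hk
    have hσ : IsSimple P σ := isSimple_of_mem P hσS
    have hσH : (σ : G) ∈ H := simple_mem_of_shorter P hBH (n := ⟨n, hn⟩) hσ (by omega)
      (fun b hb => H.mul_mem (H.mul_mem hnH (hBH hb)) (H.inv_mem hnH))
    have hσ' : (σ : G) ∈ (P.B : Set G) ∪ C P n := by rw [← hH]; exact hσH
    rcases hσ' with h1 | h1
    · exact absurd h1 hσ.not_mem_B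
    · refine ⟨σ, hσS, ?_⟩
      exact (C_eq_iff' P (n := σ) (n' := ⟨n, hn⟩)).1 (C_eq_of_mem P h1)
  · rintro ⟨s, hs, hsn⟩
    refine ⟨P.parabolic {s}, ?_⟩
    have hC : C P s = C P n := (C_eq_iff' P (n := ⟨s, P.subset hs⟩) (n' := ⟨n, hn⟩)).2 hsn
    ext g
    rw [SetLike.mem_coe, mem_parabolic_singleton_iff P hs]
    show g ∈ P.B ∨ g ∈ C P s ↔ g ∈ (P.B : Set G) ∪ C P n
    rw [← hC]
    rfl

end Cfsg.Agent.S0321
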