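import Cfsg.Statements.S0322
import Cfsg.Agent.Lib.Helper6_BNPairC

set_option autoImplicit false
open Cfsg

namespace Cfsg.Agent.S0322

/-- A group with a (B,N)-pair of rank one acts doubly transitively on the left cosets of `B`. -/
theorem result {G : Type*} [Group G] (P : Cfsg.BNPair G) (h : P.rank = 1) : MulAction.IsMultiplyPretransitive G (G ⧸ P.B) 2 := by
  open Cfsg.Agent.Lib.Helper6_BNPair in
  have hS : ∃ s, P.S = {s} := by
    unfold BNPair.rank at h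
    rw [Nat.card_eq_one_iff_unique] at h
    obtain ⟨hsub, ⟨s⟩⟩ := h
    refine ⟨s, ?_⟩
    ext x
    constructor
    · intro hx
      have : (⟨x, hx⟩ : P.S) = s := Subsingleton.elim _ _
      exact congrArg Subtype.val this
    · rintro rfl; exact s.2
  obtain ⟨s, hS⟩ := hS
  have key : ∀ g : G, g ∉ P.B → g ∈ C P s := fun g hg =>
    (mem_B_or_mem_C_of_S_eq P hS g).resolve_left hg
  rw [MulAction.is_two_pretransitive_iff]
  intro a b c d hab hcd
  induction a using QuotientGroup.induction_on with | _ g₁ => ?_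
  induction b using QuotientGroup.induction_on with | _ g₂ => ?_
  induction c using QuotientGroup.induction_on with | _ h₁ => ?_
  induction d using QuotientGroup.induction_on with | _ h₂ => ?_
  have h1 : g₁⁻¹ * g₂ ∉ P.B := fun hh => hab (QuotientGroup.eq.2 hh)
  have h2 : h₁⁻¹ * h₂ ∉ P.B := fun hh => hcd (QuotientGroup.eq.2 hh)
  obtain ⟨x, hx, y, hy, hxy⟩ := (mem_C P).1 (key _ h1)
  obtain ⟨x', hx', y', hy', hxy'⟩ := (mem_C P).1 (key _ h2)
  refine ⟨h₁ * x' * x⁻¹ * g₁⁻¹, ?_, ?_⟩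
  · show (QuotientGroup.mk (h₁ * x' * x⁻¹ * g₁⁻¹ * g₁) : G ⧸ P.B) = QuotientGroup.mk h₁
    rw [QuotientGroup.eq]
    have e : (h₁ * x' * x⁻¹ * g₁⁻¹ * g₁)⁻¹ * h₁ = x * x'⁻¹ := by group
    rw [e]
    exact P.B.mul_mem hx (P.B.inv_mem hx')
  · show (QuotientGroup.mk (h₁ * x' * x⁻¹ * g₁⁻¹ * g₂) : G ⧸ P.B) = QuotientGroup.mk h₂
    rw [QuotientGroup.eq]
    have e : (h₁ * x' * x⁻¹ * g₁⁻¹ * g₂)⁻¹ * h₂ = (g₁⁻¹ * g₂)⁻¹ * x * x'⁻¹ * (h₁⁻¹ * h₂) := by
      group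
    rw [e, hxy, hxy']
    have e2 : (x * s * y)⁻¹ * x * x'⁻¹ * (x' * s * y') = y⁻¹ * y' := by group
    rw [e2]
    exact P.B.mul_mem (P.B.inv_mem hy) hy'

end Cfsg.Agent.S0322
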