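import Cfsg.Statements.S0323


set_option autoImplicit false
open scoped Pointwise
open Cfsg

namespace Cfsg.Agent.S0323

open scoped Pointwise

theorem mem_stab_pair {G Ω : Type*} [Group G] [MulAction G Ω] {x y : Ω} {g : G} :
    g ∈ MulAction.stabilizer G ({x, y} : Set Ω) ↔
      (g • x = x ∧ g • y = y) ∨ (g • x = y ∧ g • y = x) := by
  rw [MulAction.mem_stabilizer_iff, Set.smul_set_insert, Set.smul_set_singleton,
    Set.pair_eq_pair_iff]

theorem inv_smul_of_smul {G Ω : Type*} [Group G] [MulAction G Ω] {a b : Ω} {g : G}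
    (h : g • a = b) : g⁻¹ • b = a := by
  rw [← h, inv_smul_smul]


/-- A doubly transitive action on a set with at least three points yields a (B,N)-pair of rank one:
`B` is the stabiliser of a point `x`, `N` the setwise stabiliser of a pair `{x, y}`. -/
theorem result {G Ω : Type*} [Group G] [MulAction G Ω]
    (h2 : MulAction.IsMultiplyPretransitive G Ω 2) {x y z : Ω} (hxy : x ≠ y) (hyz : y ≠ z) (hxz : x ≠ z) :
    ∃ P : Cfsg.BNPair G, P.B = MulAction.stabilizer G x ∧
      P.N = MulAction.stabilizer G ({x, y} : Set Ω) ∧ P.rank = 1 := by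
  rw [MulAction.is_two_pretransitive_iff] at h2
  obtain ⟨s, hsx, hsy⟩ := h2 hxy hxy.symm
  have hsN : s ∈ MulAction.stabilizer G ({x, y} : Set Ω) := mem_stab_pair.2 (Or.inr ⟨hsx, hsy⟩)
  -- `G = B ∪ B s B`
  have key : ∀ g : G, g • x ≠ x →
      ∃ b ∈ MulAction.stabilizer G x, ∃ b' ∈ MulAction.stabilizer G x, g = b * s * b' := by
    intro g hg
    obtain ⟨b, hbx, hbw⟩ := h2 (Ne.symm hg) hxy
    refine ⟨b⁻¹, Subgroup.inv_mem _ (MulAction.mem_stabilizer_iff.2 hbx), s⁻¹ * b * g, ?_, by group⟩
    rw [MulAction.mem_stabilizer_iff, mul_smul, mul_smul, hbw]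
    exact inv_smul_of_smul hsx
  have keyC : ∀ g : G, g • x ≠ x → g ∈ DoubleCoset.doubleCoset s
      (MulAction.stabilizer G x : Set G) (MulAction.stabilizer G x) := by
    intro g hg
    obtain ⟨b, hb, b', hb', e⟩ := key g hg
    exact DoubleCoset.mem_doubleCoset.2 ⟨b, hb, b', hb', e⟩
  have keyB : ∀ g n : G, n • x = x → g • x = x → g ∈ DoubleCoset.doubleCoset n
      (MulAction.stabilizer G x : Set G) (MulAction.stabilizer G x) := by
    intro g n hn hg
    refine DoubleCoset.mem_doubleCoset.2 ⟨g * n⁻¹, ?_, 1, Subgroup.one_mem _, by group⟩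
    rw [SetLike.mem_coe, MulAction.mem_stabilizer_iff, mul_smul, inv_smul_of_smul hn, hg]
  refine ⟨
    { B := MulAction.stabilizer G x
      N := MulAction.stabilizer G ({x, y} : Set Ω)
      S := {s}
      sup_eq_top := ?_
      conj_mem := ?_
      subset := ?_
      sq_mem := ?_
      inj := ?_
      closure_sup := ?_
      mul_mem_union := ?_
      conj_ne := ?_ }, rfl, rfl, ?_⟩
  · -- sup_eq_top
    rw [eq_top_iff]
    intro g _
    by_cases hg : g • x = x
    · exact (le_sup_left : MulAction.stabilizer G x ≤ _) (MulAction.mem_stabilizer_iff.2 hg)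
    · obtain ⟨b, hb, b', hb', rfl⟩ := key g hg
      exact Subgroup.mul_mem _ (Subgroup.mul_mem _ ((le_sup_left : MulAction.stabilizer G x ≤ _) hb)
        ((le_sup_right : MulAction.stabilizer G ({x, y} : Set Ω) ≤ _) hsN))
        ((le_sup_left : MulAction.stabilizer G x ≤ _) hb')
  · -- conj_mem
    intro n hn t ht
    obtain ⟨htB, htN⟩ := Subgroup.mem_inf.1 ht
    rw [MulAction.mem_stabilizer_iff] at htB
    have hty : t • y = y := by
      rcases mem_stab_pair.1 htN with h | h
      · exact h.2
      · exact absurd (htB.symm.trans h.1) hxy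
    rw [MulAction.mem_stabilizer_iff, mul_smul, mul_smul]
    rcases mem_stab_pair.1 hn with h | h
    · rw [inv_smul_of_smul h.1, htB, h.1]
    · rw [inv_smul_of_smul h.2, hty, h.2]
  · -- subset
    intro s' hs'
    rw [Set.mem_singleton_iff] at hs'
    rw [hs']; exact hsN
  · -- sq_mem
    intro s' hs'
    rw [Set.mem_singleton_iff] at hs'
    rw [hs', MulAction.mem_stabilizer_iff, mul_smul, hsx, hsy]
  · -- inj
    intro s' hs' s'' hs'' _
    rw [Set.mem_singleton_iff] at hs' hs''
    rw [hs', hs'']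
  · -- closure_sup
    apply le_antisymm
    · apply sup_le _ inf_le_right
      rw [Subgroup.closure_le, Set.singleton_subset_iff]
      exact hsN
    · intro n hn
      rcases mem_stab_pair.1 hn with h | h
      · exact (le_sup_right : MulAction.stabilizer G x ⊓ MulAction.stabilizer G ({x, y} : Set Ω) ≤ _)
          (Subgroup.mem_inf.2 ⟨MulAction.mem_stabilizer_iff.2 h.1, hn⟩)
      · have e : n = s * (s⁻¹ * n) := by group
        rw [e]
        apply Subgroup.mul_mem _ ((le_sup_left : Subgroup.closure {s} ≤ _)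
          (Subgroup.subset_closure rfl))
        apply (le_sup_right : MulAction.stabilizer G x ⊓
          MulAction.stabilizer G ({x, y} : Set Ω) ≤ _)
        refine Subgroup.mem_inf.2 ⟨?_, Subgroup.mul_mem _ (Subgroup.inv_mem _ hsN) hn⟩
        rw [MulAction.mem_stabilizer_iff, mul_smul, h.1]
        exact inv_smul_of_smul hsx
  · -- mul_mem_union
    intro s' hs' n hn b hb
    rw [Set.mem_singleton_iff] at hs'
    subst hs'
    rw [MulAction.mem_stabilizer_iff] at hb
    rcases mem_stab_pair.1 hn with h | h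
    · -- `n ∈ B`
      left
      have h1 : (s' * b * n) • x ≠ x := by
        rw [mul_smul, mul_smul, h.1, hb, hsx]; exact hxy.symm
      have h2 : (s' * n) • x ≠ x := by
        rw [mul_smul, h.1, hsx]; exact hxy.symm
      rw [DoubleCoset.doubleCoset_eq_of_mem (keyC _ h2)]
      exact keyC _ h1
    · -- `n` swaps `x` and `y`
      by_cases h1 : (s' * b * n) • x = x
      · left
        apply keyB _ _ _ h1
        rw [mul_smul, h.1, hsy]
      · right
        have h2 : n • x ≠ x := by rw [h.1]; exact hxy.symm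
        rw [DoubleCoset.doubleCoset_eq_of_mem (keyC _ h2)]
        exact keyC _ h1
  · -- conj_ne
    intro s' hs'
    rw [Set.mem_singleton_iff] at hs'
    subst hs'
    obtain ⟨b, hbx, hby⟩ := h2 hxy hxz
    intro heq
    have h1 : s' * b * s' ∈ (MulAction.stabilizer G x : Set G) := by
      rw [← heq]
      exact ⟨b, MulAction.mem_stabilizer_iff.2 hbx, rfl⟩
    rw [SetLike.mem_coe, MulAction.mem_stabilizer_iff, mul_smul, mul_smul, hsx, hby] at h1
    have h3 : s' • z = s' • y := h1.trans hsy.symm
    exact hyz (MulAction.injective s' h3).symm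
  · -- rank
    show Nat.card ({s} : Set G) = 1
    rw [Nat.card_eq_one_iff_unique]
    exact ⟨⟨fun a b => Subtype.ext (a.2.trans b.2.symm)⟩, ⟨⟨s, rfl⟩⟩⟩

end Cfsg.Agent.S0323
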