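import Cfsg.Statements.S0328
import Cfsg.Agent.Lib.Helper37_SzStruct
-- import your own Cfsg.Agent.* helpers here

set_option autoImplicit false
open Cfsg

namespace Cfsg.Agent.S0328

open Cfsg.Agent.Helper37Sz
open Matrix

/-- The stabiliser in the Suzuki group of the two ovoid points spanned by `(1,0,0,0)` and `(0,0,0,1)` is
isomorphic to the multiplicative group of the field (cyclic of order `q - 1`). -/
theorem result {F : Type*} [Field F] [Fintype F] {m : ℕ} (hm : 1 ≤ m)
    (hF : Fintype.card F = 2 ^ (2 * m + 1)) :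
    Nonempty (↥(MulAction.stabilizer (Cfsg.Sz F m) (Cfsg.suzukiPointInfinity F) ⊓
        MulAction.stabilizer (Cfsg.Sz F m) (Cfsg.suzukiPointZero F)) ≃* Fˣ) := by
  classical
  have h2 : (2 : F) = 0 := two_eq_zero_of_card hF
  set S : F →+* F := sgHom F m h2 with hSd
  have hSdef : ∀ z, S z = z ^ 2 ^ (m + 1) := fun z => sgHom_apply m h2 z
  have hS : ∀ z, S (S z) = z ^ 2 := fun z => sgHom_sgHom hF h2 z
  have hmemSz : ∀ t : Fˣ, hSL S t ∈ Cfsg.Sz F m := fun t => hSL_mem hS hSdef t
  have hmem : ∀ t : Fˣ, (⟨hSL S t, hmemSz t⟩ : Cfsg.Sz F m) ∈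
      MulAction.stabilizer (Cfsg.Sz F m) (Cfsg.suzukiPointInfinity F) ⊓
        MulAction.stabilizer (Cfsg.Sz F m) (Cfsg.suzukiPointZero F) := by
    intro t
    rw [Subgroup.mem_inf, MulAction.mem_stabilizer_iff, MulAction.mem_stabilizer_iff]
    constructor
    · show hSL S t • Cfsg.suzukiPointInfinity F = _
      rw [smul_inf_eq_iff]
      exact ⟨_, hMat_mulVec_pInf (t : F)⟩
    · show hSL S t • Cfsg.suzukiPointZero F = _
      rw [smul_zero_eq_iff (S := S)]
      refine ⟨(S (t : F) * (t : F) ^ 2)⁻¹, ?_⟩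
      show hMat S (t : F) *ᵥ pAff S 0 0 = _
      rw [hMat_mulVec_pAff hS t.ne_zero, mul_zero, mul_zero]
  let φ : Fˣ →* ↥(MulAction.stabilizer (Cfsg.Sz F m) (Cfsg.suzukiPointInfinity F) ⊓
        MulAction.stabilizer (Cfsg.Sz F m) (Cfsg.suzukiPointZero F)) :=
    { toFun := fun t => ⟨⟨hSL S t, hmemSz t⟩, hmem t⟩
      map_one' := by
        apply Subtype.ext; apply Subtype.ext
        exact hSL_one
      map_mul' := fun t t' => by
        apply Subtype.ext; apply Subtype.ext
        exact (hSL_mul t t').symm }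
  have hφ : Function.Bijective φ := by
    constructor
    · intro t t' h
      have h1 : hSL S t = hSL S t' :=
        congrArg (fun x : ↥(MulAction.stabilizer (Cfsg.Sz F m) (Cfsg.suzukiPointInfinity F) ⊓
          MulAction.stabilizer (Cfsg.Sz F m) (Cfsg.suzukiPointZero F)) =>
          ((x : Cfsg.Sz F m) : Matrix.SpecialLinearGroup (Fin 4) F)) h
      exact hSL_injective h1
    · rintro ⟨⟨g, hg⟩, hstab⟩
      rw [Subgroup.mem_inf, MulAction.mem_stabilizer_iff, MulAction.mem_stabilizer_iff] at hstab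
      obtain ⟨h1, h0⟩ := hstab
      have h1' : g • Cfsg.suzukiPointInfinity F = Cfsg.suzukiPointInfinity F := h1
      have h0' : g • Cfsg.suzukiPointZero F = Cfsg.suzukiPointZero F := h0
      rw [smul_inf_eq_iff] at h1'
      rw [smul_zero_eq_iff (S := S)] at h0'
      obtain ⟨c, hc⟩ := h1'
      obtain ⟨d, hd⟩ := h0'
      obtain ⟨t, rfl⟩ := two_pt_struct hm hF h2 hS hSdef hg hc hd
      exact ⟨t, rfl⟩
  exact ⟨(MulEquiv.ofBijective φ hφ).symm⟩

end Cfsg.Agent.S0328
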