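import Cfsg.Statements.S0332
import Cfsg.Agent.Lib.Helper6_SzCent

set_option autoImplicit false
open Cfsg

namespace Cfsg.Agent.S0332

open Cfsg.Agent.Helper37Sz Cfsg.Agent.Lib.Helper6_SzCent

/-- The Suzuki group is a CN-group: every non-identity element has nilpotent centraliser. -/
theorem result {F : Type*} [Field F] [Fintype F] {m : ℕ} (hm : 1 ≤ m)
    (hF : Fintype.card F = 2 ^ (2 * m + 1)) : Cfsg.IsCNGroup (Cfsg.Sz F m) := by
  classical
  have h2 : (2 : F) = 0 := two_eq_zero_of_card hF
  set S : F →+* F := sgHom F m h2 with hSd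
  have hSdef : ∀ z, S z = z ^ 2 ^ (m + 1) := fun z => sgHom_apply m h2 z
  have hS : ∀ z, S (S z) = z ^ 2 := fun z => sgHom_sgHom hF h2 z
  intro g hg
  by_cases hfix : ∃ a : Cfsg.suzukiOvoid F m, g • a = a
  · obtain ⟨a, ha⟩ := hfix
    by_cases h2fix : ∃ b : Cfsg.suzukiOvoid F m, b ≠ a ∧ g • b = b
    · obtain ⟨b, hba, hb⟩ := h2fix
      let inst : CommGroup (Subgroup.centralizer ({g} : Set (Cfsg.Sz F m))) :=
        { (inferInstance : Group (Subgroup.centralizer ({g} : Set (Cfsg.Sz F m)))) with
          mul_comm := fun c c' => Subtype.ext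
            (comm_of_two_fixed hm hF h2 hS hSdef hg (Ne.symm hba) ha hb
              (commute_of_mem_centralizer c.2) (commute_of_mem_centralizer c'.2)) }
      exact @CommGroup.isNilpotent _ inst
    · push Not at h2fix
      have hP : IsPGroup 2 (Subgroup.centralizer ({g} : Set (Cfsg.Sz F m))) := by
        intro c
        refine ⟨2, Subtype.ext ?_⟩
        have := pow_four_of_one_fixed hm hF h2 hS hSdef ha
          (fun b hb => by_contra fun hne => hne (by
            by_contra h
            exact h2fix b h hb)) (commute_of_mem_centralizer c.2)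
        simpa using this
      exact hP.isNilpotent
  · push Not at hfix
    haveI := isCyclic_centralizer_of_no_fixed hm hF hfix
    let inst : CommGroup (Subgroup.centralizer ({g} : Set (Cfsg.Sz F m))) := IsCyclic.commGroup
    exact @CommGroup.isNilpotent _ inst

end Cfsg.Agent.S0332
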