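import Cfsg.Statements.S0334
import Cfsg.Agent.Lib.Helper37_SzTrans
-- import your own Cfsg.Agent.* helpers here

set_option autoImplicit false
open Cfsg

namespace Cfsg.Agent.S0334

open Cfsg.Agent.Helper37Sz
open Cfsg.Agent.S0335 (sf)
open Matrix

section Helpers

variable {F : Type*} [Field F]

/-- preservation of the Suzuki form -/
def Symp (M : Matrix (Fin 4) (Fin 4) F) : Prop :=
  M.transpose * Cfsg.suzukiForm F * M = Cfsg.suzukiForm F

theorem Symp.mul {M N : Matrix (Fin 4) (Fin 4) F} (hM : Symp M) (hN : Symp N) : Symp (M * N) := by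
  unfold Symp at *
  rw [Matrix.transpose_mul]
  calc N.transpose * M.transpose * Cfsg.suzukiForm F * (M * N)
      = N.transpose * (M.transpose * Cfsg.suzukiForm F * M) * N := by
        simp only [Matrix.mul_assoc]
    _ = Cfsg.suzukiForm F := by rw [hM, hN]

theorem symp_uMat {S : F →+* F} (h2 : (2 : F) = 0) (a b : F) : Symp (uMat S a b) := by
  have h4 : (4 : F) = 0 := by linear_combination 2 * h2
  unfold Symp
  ext i j
  fin_cases i <;> fin_cases j <;>
    simp [uMat, sf, Cfsg.suzukiForm, Matrix.mul_apply, Fin.sum_univ_four] <;>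
    (try rw [← sub_eq_zero]) <;> ring_nf <;> simp [h2, h4]

theorem symp_hMat {S : F →+* F} {t : F} (ht : t ≠ 0) : Symp (hMat S t) := by
  have hSt : S t ≠ 0 := by simpa using ht
  unfold Symp
  ext i j
  fin_cases i <;> fin_cases j <;>
    simp [hMat, Cfsg.suzukiForm, Matrix.mul_apply, Fin.sum_univ_four] <;> field_simp

theorem symp_wMat : Symp (wMat : Matrix (Fin 4) (Fin 4) F) := by
  unfold Symp
  ext i j
  fin_cases i <;> fin_cases j <;>
    simp [wMat, Cfsg.suzukiForm, Matrix.mul_apply, Fin.sum_univ_four]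

end Helpers

/-- Every element of the Suzuki group preserves the alternating form with antidiagonal matrix:
`gᵀ J g = J`. Hence the Suzuki group is a subgroup of a 4-dimensional symplectic group. -/
theorem result {F : Type*} [Field F] [Fintype F] {m : ℕ} (hm : 1 ≤ m)
    (hF : Fintype.card F = 2 ^ (2 * m + 1)) {g : Matrix.SpecialLinearGroup (Fin 4) F}
    (hg : g ∈ Cfsg.Sz F m) :
    (g : Matrix (Fin 4) (Fin 4) F).transpose * Cfsg.suzukiForm F * (g : Matrix (Fin 4) (Fin 4) F) =
      Cfsg.suzukiForm F := by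
  classical
  have h2 : (2 : F) = 0 := two_eq_zero_of_card hF
  set S : F →+* F := sgHom F m h2 with hSd
  have hSdef : ∀ z, S z = z ^ 2 ^ (m + 1) := fun z => sgHom_apply m h2 z
  have hS : ∀ z, S (S z) = z ^ 2 := fun z => sgHom_sgHom hF h2 z
  show Symp (g : Matrix (Fin 4) (Fin 4) F)
  rcases Sz_decomp hm hF h2 hS hSdef hg with ⟨a, b, t, rfl⟩ | ⟨a, b, a', b', t, rfl⟩
  · rw [Matrix.SpecialLinearGroup.coe_mul]
    exact (symp_uMat h2 a b).mul (symp_hMat t.ne_zero)
  · simp only [Matrix.SpecialLinearGroup.coe_mul]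
    exact ((symp_uMat h2 a b).mul symp_wMat).mul ((symp_uMat h2 a' b').mul (symp_hMat t.ne_zero))

end Cfsg.Agent.S0334
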