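import Cfsg.Statements.S0344
import Cfsg.Agent.S0742
import Cfsg.Agent.Lib.Helper59_ZassCases
import Cfsg.Agent.Lib.Helper21_Sharp3
import Cfsg.Agent.Lib.Helper95_Sharp3NS

set_option autoImplicit false
open Cfsg

namespace Cfsg.Agent.S0344

open MulAction Cfsg.Agent.Lib.Helper59_ZassCases
open scoped commutatorElement

theorem main {G Ω : Type*} [Group G] [Finite G] [MulAction G Ω] [Fintype Ω]
    (hZ : Cfsg.IsZassenhausGroup G Ω) [IsSimpleGroup G]
    {a b : Ω} (hab : a ≠ b)
    (heven : Even (Nat.card ↥(MulAction.stabilizer G a ⊓ MulAction.stabilizer G b)))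
    (hns : IsMultiplyPretransitive G Ω 3 → Cfsg.Agent.Lib.Helper21_Sharp3.Sharp3 G Ω →
      Even (Fintype.card Ω) → 4 ≤ Fintype.card Ω → commutator G ≠ ⊤) :
    ∃ (F : Type) (_ : Field F) (_ : Fintype F), 3 < Fintype.card F ∧
      Nonempty (G ≃* Matrix.ProjectiveSpecialLinearGroup (Fin 2) F) := by
  classical
  have hZ' := hZ
  obtain ⟨_, h2, h3, _, _⟩ := hZ
  set H : Subgroup G := stabilizer G a ⊓ stabilizer G b with hH
  have hmemH : ∀ x : G, x ∈ H ↔ x • a = a ∧ x • b = b := by
    intro x; simp [hH, Subgroup.mem_inf, mem_stabilizer_iff]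
  set d := Nat.card H with hd
  have hdpos : 0 < d := Nat.card_pos
  have hd2 : 2 ≤ d := by
    rcases heven with ⟨k, hk⟩
    omega
  have hcases : d = Fintype.card Ω - 2 ∨ 2 * d = Fintype.card Ω - 2 := even_cases hZ' hab heven
  rcases hcases with hc | hc
  · -- sharply triply transitive: impossible in a simple group
    exfalso
    have h3t := three_trans_of_card h2 h3 hab hc
    have hs : Cfsg.Agent.Lib.Helper21_Sharp3.Sharp3 G Ω := by
      intro g x y z hxy hxz hyz hx hy hz
      exact h3 g x y z hxy hyz hxz hx hy hz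
    have hcardΩ : Fintype.card Ω = d + 2 := by omega
    have hevenΩ : Even (Fintype.card Ω) := by
      rw [hcardΩ]
      exact heven.add even_two
    have h4 : 4 ≤ Fintype.card Ω := by omega
    apply hns h3t hs hevenΩ h4
    -- the commutator subgroup of a non-abelian simple group is everything
    have hnormal : (commutator G).Normal := inferInstance
    rcases hnormal.eq_bot_or_eq_top with hbot | htop
    · exfalso
      -- `G` would be abelian
      have hcomm : ∀ x y : G, x * y = y * x := by
        intro x y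
        have : ⁅x, y⁆ ∈ commutator G := Subgroup.commutator_mem_commutator
          (Subgroup.mem_top x) (Subgroup.mem_top y)
        rw [hbot, Subgroup.mem_bot, commutatorElement_eq_one_iff_mul_comm] at this
        exact this
      -- a nontrivial element of `H`
      obtain ⟨h, hhH, hh1⟩ : ∃ h ∈ H, h ≠ 1 := by
        by_contra hcon
        push Not at hcon
        have : H = ⊥ := by
          rw [eq_bot_iff]
          intro x hx
          exact Subgroup.mem_bot.2 (hcon x hx)
        rw [hd, this, Subgroup.card_bot] at hd2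
        omega
      obtain ⟨ha, hb⟩ := (hmemH h).1 hhH
      obtain ⟨c, hca, hcb⟩ := Cfsg.Agent.Lib.Helper6_Zassenhaus.exists_third
        (Cfsg.Agent.Lib.Helper6_Zassenhaus.zhyp_of_isZassenhausGroup hZ') a b hab
      obtain ⟨g, hga, _⟩ := Cfsg.Agent.Lib.Helper59_SharpTrans.two_trans (Γ := G) a b c a
        hab hca
      apply hh1
      apply h3 h a b c hab (Ne.symm hcb) (Ne.symm hca) ha hb
      rw [← hga, ← mul_smul, hcomm h g, mul_smul, ha]
    · exact htop
  · obtain ⟨p, f, K, hKf, hKfin, _, _, hKcard, hΩcard, hiso⟩ :=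
      Cfsg.Agent.S0742.result hZ' hab heven (le_of_eq hc)
    refine ⟨K, hKf, hKfin, ?_, hiso⟩
    rw [hKcard]
    have : p ^ f = 2 * d + 1 := by omega
    omega

/-- A finite simple Zassenhaus group with a two-point stabiliser of even order is isomorphic to `PSL₂(F)` for a finite
field `F` with more than three elements. -/
theorem result {G Ω : Type*} [Group G] [Finite G] [MulAction G Ω] [Finite Ω]
    (hZ : Cfsg.IsZassenhausGroup G Ω) [IsSimpleGroup G]
    {a b : Ω} (hab : a ≠ b) (heven : Even (Nat.card ↥(MulAction.stabilizer G a ⊓ MulAction.stabilizer G b))) :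
    ∃ (F : Type) (_ : Field F) (_ : Fintype F), 3 < Fintype.card F ∧ Nonempty (G ≃* Matrix.ProjectiveSpecialLinearGroup (Fin 2) F) := by
  classical
  have := Fintype.ofFinite Ω
  exact main hZ hab heven
    (fun h3t hs he h4 => Cfsg.Agent.Lib.Helper95_Sharp3NS.commutator_ne_top h3t hs he h4)

end Cfsg.Agent.S0344
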