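import Cfsg.Statements.S0340
import Cfsg.Agent.S0344
import Cfsg.Agent.S0347
import Cfsg.Agent.S0731
import Cfsg.Agent.S0738
import Cfsg.Agent.S0885
import Cfsg.Agent.S4702
import Cfsg.Agent.Lib.Helper59_ZassKernel
import Cfsg.Agent.Lib.Helper59_ZassPSL
import Cfsg.Agent.Lib.Helper59_SharpTrans
import Cfsg.Agent.Lib.Helper6_Zassenhaus
import Cfsg.Agent.Lib.Helper61_SL2

set_option autoImplicit false
open Cfsg

namespace Cfsg.Agent.S0340

open MulAction Cfsg.Agent.Lib.Helper59_SharpTrans

/-- A faithful triply transitive group of odd degree in which only the identity fixes three points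
is `PSL₂` of a field of characteristic two (S4702 transported to the image in `Equiv.Perm Ω`). -/
theorem psl_of_three_trans {G : Type*} {Ω : Type*} [Group G] [MulAction G Ω] [Fintype Ω]
    [FaithfulSMul G Ω] (h3t : IsMultiplyPretransitive G Ω 3)
    (h3 : ∀ g : G, ∀ a b c : Ω, a ≠ b → b ≠ c → a ≠ c → g • a = a → g • b = b → g • c = c → g = 1)
    (hm : 3 ≤ Fintype.card Ω) (hodd : Odd (Fintype.card Ω)) :
    ∃ (F : Type) (_ : Field F) (_ : Fintype F),
      Nonempty (G ≃* Matrix.ProjectiveSpecialLinearGroup (Fin 2) F) := by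
  classical
  have hinj : Function.Injective (MulAction.toPermHom G Ω) := MulAction.toPerm_injective
  let φ : G ≃* (MulAction.toPermHom G Ω).range := MonoidHom.ofInjective hinj
  have hφ : ∀ (g : G) (x : Ω), (φ g : Equiv.Perm Ω) x = g • x := fun g x => rfl
  have hφ' : ∀ (g : G) (x : Ω), (φ g) • x = g • x := fun g x => rfl
  have h3t' : IsMultiplyPretransitive (MulAction.toPermHom G Ω).range Ω 3 := by
    rw [MulAction.isMultiplyPretransitive_iff]
    intro x y
    obtain ⟨g, hg⟩ := (MulAction.isMultiplyPretransitive_iff.1 h3t) x y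
    refine ⟨φ g, ?_⟩
    rw [← hg]
    ext i
    rfl
  have hfix : ∀ g : (MulAction.toPermHom G Ω).range,
      3 ≤ Nat.card (MulAction.fixedBy Ω g) → g = 1 := by
    intro g hg
    obtain ⟨g₀, rfl⟩ := φ.surjective g
    rw [Nat.card_coe_set_eq] at hg
    have hlt : 2 < (MulAction.fixedBy Ω (φ g₀)).ncard := by omega
    obtain ⟨a, b, c, ha, hb, hc, hab, hac, hbc⟩ := (Set.two_lt_ncard_iff).mp hlt
    rw [MulAction.mem_fixedBy, hφ'] at ha hb hc
    rw [h3 g₀ a b c hab hbc hac ha hb hc, map_one]
  obtain ⟨k, -, -, F, hF, hFin, hFcard, ⟨e⟩⟩ :=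
    Cfsg.Agent.S4702.result hm hodd (MulAction.toPermHom G Ω).range h3t' hfix
  have hchar : CharP F 2 := by
    obtain ⟨p, hp'⟩ := CharP.exists F
    have hpp : p.Prime := (CharP.char_is_prime_or_zero F p).resolve_right
      (fun h0 => by subst h0; exact absurd (CharP.charP_to_charZero F) (fun h => by
        exact (not_finite F).elim))
    have : Fact p.Prime := ⟨hpp⟩
    obtain ⟨n, hn⟩ := FiniteField.card F p
    have hdvd : p ∣ 2 ^ k := by rw [← hFcard, hn.2]; exact dvd_pow_self p n.ne_zero
    have hp2 : p = 2 := (Nat.prime_dvd_prime_iff_eq hpp Nat.prime_two).mp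
      (hpp.dvd_of_dvd_pow hdvd)
    subst hp2
    exact hp'
  exact ⟨F, hF, hFin, ⟨(φ.trans e).trans Cfsg.Agent.Lib.Helper61_SL2.pslEquivSl.symm⟩⟩

/-- Classification of Zassenhaus groups, simple case, order-level form: a finite simple Zassenhaus group is
isomorphic to `PSL₂(F)` for some finite field `F` or is simple of Suzuki order. -/
theorem result {G Ω : Type*} [Group G] [Finite G] [MulAction G Ω]
    [Finite Ω] (hZ : Cfsg.IsZassenhausGroup G Ω) [IsSimpleGroup G] :
    (∃ (F : Type) (_ : Field F) (_ : Fintype F), Nonempty (G ≃* Matrix.ProjectiveSpecialLinearGroup (Fin 2) F)) ∨ Cfsg.IsSuzuki G := by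
  classical
  have : Fintype Ω := Fintype.ofFinite Ω
  have hz := Cfsg.Agent.Lib.Helper6_Zassenhaus.zhyp_of_isZassenhausGroup hZ
  have hfaith : FaithfulSMul G Ω := hZ.1
  have h3 := hZ.2.2.1
  -- two points
  obtain ⟨a, b, hab⟩ : ∃ a b : Ω, a ≠ b := by
    obtain ⟨-, -, -, ⟨g, -, a, b, hab, -, -⟩, -⟩ := hZ
    exact ⟨a, b, hab⟩
  set E : Subgroup G := stabilizer G a ⊓ stabilizer G b with hE
  rcases Nat.even_or_odd (Nat.card ↥E) with heven | hodd
  · -- even two-point stabiliser
    obtain ⟨F, hF, hFin, -, hiso⟩ := Cfsg.Agent.S0344.result hZ hab heven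
    exact Or.inl ⟨F, hF, hFin, hiso⟩
  -- odd two-point stabiliser: the Frobenius kernel of `G_a`
  obtain ⟨N, hNle, hNn, hreg⟩ := Cfsg.Agent.Lib.Helper59_ZassKernel.exists_regular_normal hZ a
  have hcardΩ : Fintype.card Ω = Nat.card N + 1 := by
    have := Cfsg.Agent.Lib.Helper59_ZassPSL.card_of_regular hab N hNle hreg
    rwa [Nat.card_eq_fintype_card] at this
  by_cases hNab : ∀ u v : N, u * v = v * u
  · -- abelian kernel
    have hNc : IsMulCommutative N := ⟨⟨hNab⟩⟩
    rcases Cfsg.Agent.S0731.result hZ a N hNle hNn hNc hreg with ⟨h3t, -⟩ | ⟨K, hK, hKfin, -, hiso⟩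
    · -- sharply triply transitive
      left
      obtain ⟨c, hca, hcb⟩ := Cfsg.Agent.Lib.Helper6_Zassenhaus.exists_third hz a b hab
      have hm : 3 ≤ Fintype.card Ω := by
        have hsub : ({a, b, c} : Finset Ω) ⊆ Finset.univ := Finset.subset_univ _
        have hc3 : ({a, b, c} : Finset Ω).card = 3 := by
          rw [Finset.card_insert_of_notMem, Finset.card_pair (Ne.symm hcb)]
          simp only [Finset.mem_insert, Finset.mem_singleton, not_or]
          exact ⟨hab, Ne.symm hca⟩
        have := Finset.card_le_card hsub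
        rw [hc3, Finset.card_univ] at this
        exact this
      -- the two-point stabiliser has order `|Ω| - 2`
      have hEcard : Nat.card ↥E = Fintype.card Ω - 2 := by
        have e1 := card_eq_of_transitive_on E ({a, b}ᶜ : Set Ω)
          (by
            intro m hm x hx
            rw [hE, Subgroup.mem_inf, mem_stabilizer_iff, mem_stabilizer_iff] at hm
            simp only [Set.mem_compl_iff, Set.mem_insert_iff, Set.mem_singleton_iff, not_or]
              at hx ⊢
            refine ⟨fun h => hx.1 ?_, fun h => hx.2 ?_⟩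
            · exact MulAction.injective m (h.trans hm.1.symm)
            · exact MulAction.injective m (h.trans hm.2.symm))
          (by
            intro x hx y hy
            simp only [Set.mem_compl_iff, Set.mem_insert_iff, Set.mem_singleton_iff, not_or]
              at hx hy
            obtain ⟨g, hg⟩ := exists_smul_tuple (Γ := G) (k := 3) ![a, b, x] ![a, b, y]
              (injective_vec3 hab (Ne.symm hx.1) (Ne.symm hx.2))
              (injective_vec3 hab (Ne.symm hy.1) (Ne.symm hy.2))
            refine ⟨g, ?_, hg 2⟩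
            rw [hE, Subgroup.mem_inf, mem_stabilizer_iff, mem_stabilizer_iff]
            exact ⟨hg 0, hg 1⟩)
          c (by
            simp only [Set.mem_compl_iff, Set.mem_insert_iff, Set.mem_singleton_iff, not_or]
            exact ⟨hca, hcb⟩)
        have e2 : (E ⊓ stabilizer G c : Subgroup G) = ⊥ := by
          rw [eq_bot_iff]
          intro g hg
          rw [hE, Subgroup.mem_inf, Subgroup.mem_inf, mem_stabilizer_iff, mem_stabilizer_iff,
            mem_stabilizer_iff] at hg
          rw [Subgroup.mem_bot]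
          exact h3 g a b c hab (Ne.symm hcb) (Ne.symm hca) hg.1.1 hg.1.2 hg.2
        have e3 : ({a, b}ᶜ : Set Ω).ncard = Fintype.card Ω - 2 := by
          rw [Set.ncard_compl, Set.ncard_pair hab, Nat.card_eq_fintype_card]
        rw [e2, Subgroup.card_bot, mul_one, e3] at e1
        exact e1
      have hoddΩ : Odd (Fintype.card Ω) := by
        rw [hEcard] at hodd
        rcases Nat.even_or_odd (Fintype.card Ω) with he | ho
        · exfalso
          rw [Nat.odd_iff] at hodd
          rw [Nat.even_iff] at he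
          omega
        · exact ho
      exact psl_of_three_trans h3t h3 hm hoddΩ
    · exact Or.inl ⟨K, hK, hKfin, hiso⟩
  · -- non-abelian kernel
    right
    push Not at hNab
    have hNfix : ∀ u ∈ N, u ≠ 1 → ∀ c : Ω, u • c = c → c = a := by
      intro u hu hu1 c huc
      by_contra hca
      have h1 := (hreg c c hca hca).unique (y₁ := ⟨u, hu⟩) (y₂ := 1) huc (one_smul _ _)
      exact hu1 (congrArg Subtype.val h1)
    have hNcard : Nat.card N + 1 = Fintype.card Ω := hcardΩ.symm
    rcases Cfsg.Agent.S0885.result hZ hab (Nat.card N) (Nat.card ↥E) hcardΩ rfl hodd N hNle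
      hNcard hNfix with hle | ⟨hN2, hNna, -⟩
    · exfalso
      have hd : Fintype.card Ω - 2 ≤ 2 * Nat.card ↥E := by
        rw [hcardΩ]
        omega
      obtain ⟨hc, -⟩ := Cfsg.Agent.S0738.result hZ hab hd N hNle hNn hreg
      obtain ⟨u, v, huv⟩ := hNab
      exact huv (hc.is_comm.comm u v)
    · exact Cfsg.Agent.S0347.result hZ a N hNle hNn hN2 hNna hreg

end Cfsg.Agent.S0340
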