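import Cfsg.Statements.S0341
import Cfsg.Agent.Lib.Helper6_Zassenhaus
import Cfsg.Agent.Lib.Helper1_Thompson
import Cfsg.Agent.Lib.Helper25_CNSolv
import Cfsg.Agent.S1474

set_option autoImplicit false
set_option linter.style.haveILetI false
set_option linter.unusedSectionVars false
open Cfsg

namespace Cfsg.Agent.S0341

section algebra

variable {V : Type*} [AddCommGroup V]

/-- elements of the centralizer of `φ` killing the generator vanish -/
theorem cent_eq_zero (φ : (AddMonoid.End V)ˣ) (b : V)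
    (hgen : ∀ v : V, v ≠ 0 → ∃ i : ℕ, v = ((φ ^ i : (AddMonoid.End V)ˣ) : AddMonoid.End V) b)
    (f : AddMonoid.End V) (hf : f ∈ Subring.centralizer {(φ : AddMonoid.End V)})
    (hfb : f b = 0) : f = 0 := by
  have hc : Commute (φ : AddMonoid.End V) f := by
    rw [Subring.mem_centralizer_iff] at hf
    exact hf _ rfl
  ext v
  by_cases hv : v = 0
  · subst hv; simp
  · obtain ⟨i, rfl⟩ := hgen v hv
    have h2 : Commute ((φ : AddMonoid.End V) ^ i) f := hc.pow_left i
    have h3 : f (((φ : AddMonoid.End V) ^ i) b) = ((φ : AddMonoid.End V) ^ i) (f b) := by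
      have := congrArg (fun g : AddMonoid.End V => g b) h2.eq
      simp only [AddMonoid.End.coe_mul, Function.comp_apply] at this
      exact this.symm
    rw [Units.val_pow_eq_pow_val, h3, hfb]
    simp

theorem pow_mem_cent (φ : (AddMonoid.End V)ˣ) (i : ℕ) :
    ((φ ^ i : (AddMonoid.End V)ˣ) : AddMonoid.End V) ∈
      Subring.centralizer {(φ : AddMonoid.End V)} := by
  rw [Subring.mem_centralizer_iff]
  intro g hg
  rw [Set.mem_singleton_iff] at hg
  subst hg
  rw [Units.val_pow_eq_pow_val]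
  exact ((Commute.refl (φ : AddMonoid.End V)).pow_right i).eq

theorem cent_eq_pow (φ : (AddMonoid.End V)ˣ) (b : V)
    (hgen : ∀ v : V, v ≠ 0 → ∃ i : ℕ, v = ((φ ^ i : (AddMonoid.End V)ˣ) : AddMonoid.End V) b)
    (f : AddMonoid.End V) (hf : f ∈ Subring.centralizer {(φ : AddMonoid.End V)})
    (hf0 : f ≠ 0) : ∃ i : ℕ, f = ((φ ^ i : (AddMonoid.End V)ˣ) : AddMonoid.End V) := by
  have hfb : f b ≠ 0 := fun h => hf0 (cent_eq_zero φ b hgen f hf h)
  obtain ⟨i, hi⟩ := hgen _ hfb
  refine ⟨i, ?_⟩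
  have hg : f - ((φ ^ i : (AddMonoid.End V)ˣ) : AddMonoid.End V) ∈
      Subring.centralizer {(φ : AddMonoid.End V)} :=
    Subring.sub_mem _ hf (pow_mem_cent φ i)
  have := cent_eq_zero φ b hgen _ hg (by
    change f b - ((φ ^ i : (AddMonoid.End V)ˣ) : AddMonoid.End V) b = 0
    rw [hi, sub_self])
  exact sub_eq_zero.mp this


theorem card_eq_two_pow [Finite V] (φ θ : (AddMonoid.End V)ˣ) (b : V)
    (hgen : ∀ v : V, v ≠ 0 → ∃ i : ℕ, v = ((φ ^ i : (AddMonoid.End V)ˣ) : AddMonoid.End V) b)
    (hθb : (θ : AddMonoid.End V) b = b)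
    (hfix : ∀ v : V, (θ : AddMonoid.End V) v = v → v = 0 ∨ v = b)
    (r : ℕ) (hr : θ * φ * θ⁻¹ = φ ^ r)
    (p : ℕ) (hp : p.Prime) (hθp : θ ^ p = 1)
    (hthird : ∃ v : V, v ≠ 0 ∧ v ≠ b) :
    Nat.card V = 2 ^ p := by
  classical
  have hb : b ≠ 0 := by
    intro hb0
    obtain ⟨v, hv0, hvb⟩ := hthird
    obtain ⟨i, hi⟩ := hgen v hv0
    rw [hb0, map_zero] at hi
    exact hv0 hi
  obtain ⟨C, hC⟩ : ∃ C : Subring (AddMonoid.End V),
      C = Subring.centralizer {(φ : AddMonoid.End V)} := ⟨_, rfl⟩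
  have hdich : ∀ f ∈ C, f = 0 ∨
      ∃ i : ℕ, f = ((φ ^ i : (AddMonoid.End V)ˣ) : AddMonoid.End V) := by
    intro f hf
    by_cases hf0 : f = 0
    · exact Or.inl hf0
    · exact Or.inr (cent_eq_pow φ b hgen f (hC ▸ hf) hf0)
  have hpowC : ∀ i : ℕ, ((φ ^ i : (AddMonoid.End V)ˣ) : AddMonoid.End V) ∈ C := by
    intro i; rw [hC]; exact pow_mem_cent φ i
  have hzero : ∀ f ∈ C, f b = 0 → f = 0 := by
    intro f hf hfb
    exact cent_eq_zero φ b hgen f (hC ▸ hf) hfb
  have hcomm : ∀ f g : C, f * g = g * f := by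
    intro f g
    apply Subtype.ext
    rw [Subring.coe_mul, Subring.coe_mul]
    rcases hdich f.1 f.2 with hf | ⟨i, hi⟩
    · rw [hf]; simp
    · rcases hdich g.1 g.2 with hg | ⟨j, hj⟩
      · rw [hg]; simp
      · rw [hi, hj, ← Units.val_mul, ← Units.val_mul, ← pow_add, ← pow_add, add_comm]
  -- the conjugation by θ preserves C
  have hconjpow : ∀ i : ℕ, θ * φ ^ i * θ⁻¹ = φ ^ (r * i) := by
    intro i
    induction i with
    | zero => simp
    | succ n ih =>
      rw [pow_succ, Nat.mul_succ, pow_add, ← ih, ← hr]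
      group
  have hconj : ∀ f ∈ C, (θ : AddMonoid.End V) * f * ((θ⁻¹ : (AddMonoid.End V)ˣ) : AddMonoid.End V) ∈ C := by
    intro f hf
    rcases hdich f hf with hf | ⟨i, hi⟩
    · rw [hf]; simp only [mul_zero, zero_mul]; exact C.zero_mem
    · rw [hi, ← Units.val_mul, ← Units.val_mul, hconjpow i]
      exact hpowC _
  letI instCR : CommRing C := { (inferInstance : Ring C) with mul_comm := hcomm }
  have hnt : Nontrivial C := by
    refine ⟨⟨0, 1, ?_⟩⟩
    intro h
    have h1 : ((0 : C) : AddMonoid.End V) b = ((1 : C) : AddMonoid.End V) b := by rw [h]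
    rw [Subring.coe_zero, Subring.coe_one] at h1
    exact hb h1.symm
  have hnzd : NoZeroDivisors C := by
    refine ⟨?_⟩
    intro f g hfg
    rcases hdich f.1 f.2 with hf | ⟨i, hi⟩
    · exact Or.inl (Subtype.ext hf)
    · right
      apply Subtype.ext
      have h1 : (f : AddMonoid.End V) * (g : AddMonoid.End V) = 0 := by
        have := congrArg Subtype.val hfg
        simpa using this
      rw [hi] at h1
      exact (Units.mul_right_eq_zero _).mp h1
  have hdom : IsDomain C := NoZeroDivisors.to_isDomain C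
  -- evaluation at b
  have hevinj : Function.Injective (fun f : C => (f : AddMonoid.End V) b) := by
    intro f g hfg
    have h1 : ((f - g : C) : AddMonoid.End V) b = 0 := by
      change (f : AddMonoid.End V) b - (g : AddMonoid.End V) b = 0
      rw [sub_eq_zero]; exact hfg
    have h2 := hzero _ (f - g).2 h1
    have h3 : f - g = 0 := Subtype.ext h2
    exact sub_eq_zero.mp h3
  have hevsurj : Function.Surjective (fun f : C => (f : AddMonoid.End V) b) := by
    intro v
    by_cases hv : v = 0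
    · exact ⟨0, by simp [hv]⟩
    · obtain ⟨i, hi⟩ := hgen v hv
      exact ⟨⟨_, hpowC i⟩, hi.symm⟩
  have hfinC : Finite C := Finite.of_injective _ hevinj
  have hcardCV : Nat.card C = Nat.card V := Nat.card_eq_of_bijective _ ⟨hevinj, hevsurj⟩
  letI instFT : Fintype C := Fintype.ofFinite C
  letI instF : Field C := Fintype.fieldOfDomain C
  -- the automorphism
  let σ₀ : C →+* C :=
    { toFun := fun f => ⟨(θ : AddMonoid.End V) * f.1 *
        ((θ⁻¹ : (AddMonoid.End V)ˣ) : AddMonoid.End V), hconj f.1 f.2⟩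
      map_one' := by
        apply Subtype.ext
        simp
      map_mul' := by
        intro f g
        apply Subtype.ext
        change (θ : AddMonoid.End V) * (f.1 * g.1) * ((θ⁻¹ : (AddMonoid.End V)ˣ) : AddMonoid.End V)
          = ((θ : AddMonoid.End V) * f.1 * ((θ⁻¹ : (AddMonoid.End V)ˣ) : AddMonoid.End V)) *
            ((θ : AddMonoid.End V) * g.1 * ((θ⁻¹ : (AddMonoid.End V)ˣ) : AddMonoid.End V))
        simp only [mul_assoc, Units.inv_mul_cancel_left]
      map_zero' := by
        apply Subtype.ext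
        simp
      map_add' := by
        intro f g
        apply Subtype.ext
        change (θ : AddMonoid.End V) * (f.1 + g.1) * ((θ⁻¹ : (AddMonoid.End V)ˣ) : AddMonoid.End V)
          = ((θ : AddMonoid.End V) * f.1 * ((θ⁻¹ : (AddMonoid.End V)ˣ) : AddMonoid.End V)) +
            ((θ : AddMonoid.End V) * g.1 * ((θ⁻¹ : (AddMonoid.End V)ˣ) : AddMonoid.End V))
        rw [mul_add, add_mul] }
  have hσ₀ : ∀ f : C, ((σ₀ f : C) : AddMonoid.End V) = (θ : AddMonoid.End V) * f.1 *
        ((θ⁻¹ : (AddMonoid.End V)ˣ) : AddMonoid.End V) := fun f => rfl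
  have hσinj : Function.Injective σ₀ := by
    intro f g hfg
    apply Subtype.ext
    have := congrArg Subtype.val hfg
    rw [hσ₀, hσ₀] at this
    have h2 := congrArg (fun x => ((θ⁻¹ : (AddMonoid.End V)ˣ) : AddMonoid.End V) * x *
      (θ : AddMonoid.End V)) this
    simpa [mul_assoc] using h2
  have hσbij : Function.Bijective σ₀ := Finite.injective_iff_bijective.mp hσinj
  obtain ⟨σ, hσ⟩ : ∃ σ : RingAut C, ∀ f, σ f = σ₀ f :=
    ⟨RingEquiv.ofBijective σ₀ hσbij, fun f => rfl⟩

  -- powers of σ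
  have hσpow : ∀ (j : ℕ) (f : C), (((σ ^ j) f : C) : AddMonoid.End V) =
      ((θ ^ j : (AddMonoid.End V)ˣ) : AddMonoid.End V) * f.1 *
        (((θ ^ j)⁻¹ : (AddMonoid.End V)ˣ) : AddMonoid.End V) := by
    intro j
    induction j with
    | zero => intro f; simp
    | succ n ih =>
      intro f
      rw [pow_succ', RingAut.mul_apply, hσ, hσ₀, ih, pow_succ', mul_inv_rev, Units.val_mul,
        Units.val_mul]
      simp only [mul_assoc]
  have hσp : σ ^ p = 1 := by
    ext f
    rw [hσpow p f, hθp]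
    simp
  -- fixed points of σ
  have hσfix : ∀ f : C, σ f = f → f = 0 ∨ f = 1 := by
    intro f hf
    have h1 : (θ : AddMonoid.End V) * f.1 * ((θ⁻¹ : (AddMonoid.End V)ˣ) : AddMonoid.End V) = f.1 := by
      rw [← hσ₀, ← hσ, hf]
    have h2 : (θ : AddMonoid.End V) (f.1 b) = f.1 b := by
      have h3 : (θ : AddMonoid.End V) * f.1 = f.1 * (θ : AddMonoid.End V) := by
        calc (θ : AddMonoid.End V) * f.1
            = ((θ : AddMonoid.End V) * f.1 * ((θ⁻¹ : (AddMonoid.End V)ˣ) : AddMonoid.End V)) *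
                (θ : AddMonoid.End V) := by simp [mul_assoc]
          _ = f.1 * (θ : AddMonoid.End V) := by rw [h1]
      have := congrArg (fun g : AddMonoid.End V => g b) h3
      simp only [AddMonoid.End.coe_mul, Function.comp_apply] at this
      rw [this, hθb]
    rcases hfix _ h2 with h | h
    · left
      apply hevinj
      simpa using h
    · right
      apply hevinj
      simpa using h
  have hσne : σ ≠ 1 := by
    intro h1
    obtain ⟨v, hv0, hvb⟩ := hthird
    obtain ⟨f, hf⟩ := hevsurj v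
    rcases hσfix f (by rw [h1]; rfl) with h | h
    · apply hv0; rw [← hf, h]; simp
    · apply hvb; rw [← hf, h]; simp
  haveI : Fact p.Prime := ⟨hp⟩
  have hord : orderOf σ = p := orderOf_eq_prime hσp hσne
  -- Artin
  haveI : Finite (RingAut C) :=
    Finite.of_injective (fun e : RingAut C => (e : C → C)) DFunLike.coe_injective
  letI instFZ : Fintype (Subgroup.zpowers σ) := Fintype.ofFinite _
  have hart := FixedPoints.finrank_eq_card (Subgroup.zpowers σ) C
  rw [Fintype.card_eq_nat_card, Nat.card_zpowers, hord] at hart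
  have hfixcard : Nat.card (FixedPoints.subfield (Subgroup.zpowers σ) C) = 2 := by
    have hset : ((FixedPoints.subfield (Subgroup.zpowers σ) C : Subfield C) : Set C) = {0, 1} := by
      ext f
      constructor
      · intro hf
        have h1 : σ f = f := by
          have := hf ⟨σ, Subgroup.mem_zpowers σ⟩
          exact this
        rcases hσfix f h1 with h | h
        · rw [h]; simp
        · rw [h]; simp
      · intro hf
        rcases hf with h | h
        · rw [h]; exact (FixedPoints.subfield (Subgroup.zpowers σ) C).zero_mem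
        · rw [Set.mem_singleton_iff] at h
          rw [h]; exact (FixedPoints.subfield (Subgroup.zpowers σ) C).one_mem
    have : Nat.card ((FixedPoints.subfield (Subgroup.zpowers σ) C : Subfield C) : Set C) = 2 := by
      rw [hset, Nat.card_coe_set_eq, Set.ncard_pair zero_ne_one]
    exact this
  have hfin := Module.natCard_eq_pow_finrank (K := FixedPoints.subfield (Subgroup.zpowers σ) C)
    (V := C)
  rw [hart, hfixcard] at hfin
  rw [← hcardCV, hfin]

end algebra

section abstract

variable {Γ A : Type*} [Group Γ] [CommGroup A] [Finite A]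

theorem card_eq_two_pow_mul (ρ : Γ →* MulAut A) (k h : Γ) (b : A)
    (hgen : ∀ x : A, x ≠ 1 → ∃ i : ℕ, x = ρ (k ^ i) b)
    (hb : ρ h b = b) (hfix : ∀ x : A, ρ h x = x → x = 1 ∨ x = b)
    (r : ℕ) (hr : h * k * h⁻¹ = k ^ r)
    (p : ℕ) (hp : p.Prime) (hhp : h ^ p = 1)
    (hthird : ∃ x : A, x ≠ 1 ∧ x ≠ b) : Nat.card A = 2 ^ p := by
  let c : Γ →* AddMonoid.End (Additive A) :=
    { toFun := fun g => MonoidHom.toAdditive (ρ g : A ≃* A).toMonoidHom
      map_one' := by
        ext v
        rw [map_one]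
        rfl
      map_mul' := by
        intro g g'
        ext v
        rw [map_mul]
        rfl }
  have hc : ∀ (g : Γ) (v : Additive A), c g v = Additive.ofMul (ρ g (Additive.toMul v)) :=
    fun g v => rfl
  have hcu : ∀ (g : Γ) (v : Additive A),
      ((c.toHomUnits g : (AddMonoid.End (Additive A))ˣ) : AddMonoid.End (Additive A)) v
        = Additive.ofMul (ρ g (Additive.toMul v)) := fun g v => rfl
  have key := card_eq_two_pow (V := Additive A) (c.toHomUnits k) (c.toHomUnits h)
    (Additive.ofMul b) ?_ ?_ ?_ r ?_ p hp ?_ ?_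
  · rw [← key]
    exact Nat.card_congr Additive.ofMul
  · intro v hv
    have hv' : Additive.toMul v ≠ 1 := by
      intro h'
      apply hv
      exact Additive.toMul.injective h'
    obtain ⟨i, hi⟩ := hgen _ hv'
    refine ⟨i, ?_⟩
    rw [← map_pow, hcu, toMul_ofMul, ← hi]
    rfl
  · rw [hcu, toMul_ofMul, hb]
  · intro v hv
    rw [hcu] at hv
    have hv' : ρ h (Additive.toMul v) = Additive.toMul v := Additive.ofMul.injective hv
    rcases hfix _ hv' with h' | h'
    · left; exact Additive.toMul.injective h'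
    · right; exact Additive.toMul.injective h'
  · rw [← map_inv, ← map_mul, ← map_mul, hr, map_pow]
  · rw [← map_pow, hhp, map_one]
  · obtain ⟨x, hx1, hxb⟩ := hthird
    refine ⟨Additive.ofMul x, ?_, ?_⟩
    · intro h'; exact hx1 (Additive.ofMul.injective h')
    · intro h'; exact hxb (Additive.ofMul.injective h')

end abstract

open MulAction Cfsg.Agent.Lib.Helper6_Zassenhaus

section group

variable {G Ω : Type*} [Group G] [MulAction G Ω]

/-- the data: a Zassenhaus-type action with a regular normal subgroup -/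
structure Setup (G Ω : Type*) [Group G] [MulAction G Ω] (N : Subgroup G) : Prop where
  z : ZHyp G Ω
  normal : N.Normal
  trans : ∀ x y : Ω, ∃ n ∈ N, n • x = y
  reg : ∀ n ∈ N, ∀ x : Ω, n • x = x → n = 1

variable {N : Subgroup G} (hS : Setup G Ω N)
include hS

theorem Setup.eq_of_smul_eq (a : Ω) {n n' : G} (hn : n ∈ N) (hn' : n' ∈ N)
    (h : n • a = n' • a) : n = n' := by
  have h1 : (n'⁻¹ * n) • a = a := by rw [mul_smul, h, inv_smul_smul]
  have h2 := hS.reg _ (N.mul_mem (N.inv_mem hn') hn) a h1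
  exact (inv_mul_eq_one.mp h2).symm

/-- an element fixing `a` and `n • a` commutes with `n` -/
theorem Setup.comm_of_fix {a : Ω} {h n : G} (hn : n ∈ N) (ha : h • a = a)
    (hna : h • (n • a) = n • a) : h * n = n * h := by
  have hN := hS.normal
  have h1 : h * n * h⁻¹ ∈ N := hN.conj_mem n hn h
  have hinv : h⁻¹ • a = a := by rw [inv_smul_eq_iff, ha]
  have h2 : (h * n * h⁻¹) • a = n • a := by
    rw [mul_smul, mul_smul, hinv, hna]
  have h3 := hS.eq_of_smul_eq a h1 hn h2
  calc h * n = h * n * h⁻¹ * h := by group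
    _ = n * h := by rw [h3]

theorem Setup.fix_of_comm {a : Ω} {h n : G} (ha : h • a = a) (hc : h * n = n * h) :
    h • (n • a) = n • a := by
  rw [← mul_smul, hc, mul_smul, ha]

/-- `N` has exponent two -/
theorem Setup.sq_eq_one {n : G} (hn : n ∈ N) : n * n = 1 := by
  by_contra hne
  obtain ⟨a⟩ : Nonempty Ω := by
    obtain ⟨g, _, a, _, _⟩ := hS.z.fix
    exact ⟨a⟩
  have hn1 : n ≠ 1 := by
    rintro rfl
    exact hne (one_mul 1)
  have hna : n • a ≠ a := fun h => hn1 (hS.reg n hn a h)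
  obtain ⟨h, h1, ha, hb⟩ := exists_fix hS.z a (n • a) hna.symm
  have hc := hS.comm_of_fix hn ha hb
  have hc2 : h * (n * n) = (n * n) * h := by
    rw [← mul_assoc, hc, mul_assoc, hc, mul_assoc]
  have hfix2 : h • ((n * n) • a) = (n * n) • a := hS.fix_of_comm ha hc2
  have hnna : (n * n) • a ≠ a := fun h => hne (hS.reg _ (N.mul_mem hn hn) a h)
  have hnnb : (n * n) • a ≠ n • a := by
    intro h
    rw [mul_smul] at h
    exact hna (smul_left_cancel n h)
  exact ne_of_fix hS.z h1 hna.symm ha hb hnna hnnb hfix2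

theorem Setup.inv_eq {n : G} (hn : n ∈ N) : n⁻¹ = n :=
  inv_eq_of_mul_eq_one_left (hS.sq_eq_one hn)

theorem Setup.comm {n m : G} (hn : n ∈ N) (hm : m ∈ N) : n * m = m * n := by
  have h1 := hS.inv_eq (N.mul_mem hn hm)
  rw [mul_inv_rev, hS.inv_eq hn, hS.inv_eq hm] at h1
  exact h1.symm

end group

open MulAction Cfsg.Agent.Lib.Helper6_Zassenhaus

section kernel

variable {G Ω : Type*} [Group G] [MulAction G Ω]

/-- the Frobenius kernel of the point stabiliser -/
structure KData (G : Type*) {Ω : Type*} [Group G] [MulAction G Ω] (a : Ω) (K : Subgroup G) :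
    Prop where
  mem : ∀ x, x ∈ K ↔ x • a = a ∧ (x = 1 ∨ ∀ c, c ≠ a → x • c ≠ c)
  trans : ∀ b c, b ≠ a → c ≠ a → ∃ k ∈ K, k • b = c

variable {N : Subgroup G} (hS : Setup G Ω N) {a : Ω} {K : Subgroup G} (hK : KData G a K)
include hK

theorem KData.fix {k : G} (hk : k ∈ K) : k • a = a := ((hK.mem k).1 hk).1

theorem KData.eq_one_of_fix {k : G} (hk : k ∈ K) {c : Ω} (hc : c ≠ a) (hkc : k • c = c) :
    k = 1 := by
  rcases ((hK.mem k).1 hk).2 with h | h
  · exact h
  · exact absurd hkc (h c hc)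

theorem KData.conj_mem {g k : G} (hg : g • a = a) (hk : k ∈ K) : g * k * g⁻¹ ∈ K := by
  have hginv : g⁻¹ • a = a := by rw [inv_smul_eq_iff, hg]
  rw [hK.mem]
  refine ⟨by rw [mul_smul, mul_smul, hginv, hK.fix hk, hg], ?_⟩
  by_cases hk1 : k = 1
  · left; rw [hk1]; group
  · right
    intro c hc hfix
    rw [mul_smul, mul_smul, smul_eq_iff_eq_inv_smul] at hfix
    have h1 : g⁻¹ • c ≠ a := by
      intro h
      apply hc
      rw [inv_smul_eq_iff] at h
      rw [h, hg]
    exact hk1 (hK.eq_one_of_fix hk h1 hfix)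

include hS

theorem KData.eq_one_of_comm {k n : G} (hk : k ∈ K) (hk1 : k ≠ 1) (hn : n ∈ N)
    (hc : k * n = n * k) : n = 1 := by
  have h1 : k • (n • a) = n • a := hS.fix_of_comm (hK.fix hk) hc
  by_contra hn1
  have hna : n • a ≠ a := fun h => hn1 (hS.reg n hn a h)
  exact hk1 (hK.eq_one_of_fix hk hna h1)

theorem KData.odd_card [Finite G] (hN : N ≠ ⊥) : Odd (Nat.card K) := by
  rw [← Nat.not_even_iff_odd, even_iff_two_dvd]
  intro h2
  haveI : Fact (Nat.Prime 2) := ⟨Nat.prime_two⟩
  obtain ⟨t, ht⟩ := exists_prime_orderOf_dvd_card' 2 h2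
  have ht1 : t ≠ 1 := by
    intro h
    rw [h, orderOf_one] at ht
    exact absurd ht (by norm_num)
  have htt : (t : G) * (t : G) = 1 := by
    have := pow_orderOf_eq_one t
    rw [ht, pow_two] at this
    exact congrArg Subtype.val this
  have ht1' : (t : G) ≠ 1 := fun h => ht1 (Subtype.ext h)
  have htinv : (t : G)⁻¹ = t := inv_eq_of_mul_eq_one_left htt
  apply hN
  rw [eq_bot_iff]
  intro n hn
  rw [Subgroup.mem_bot]
  have hNn := hS.normal
  have hm : (t : G) * n * (t : G)⁻¹ ∈ N := hNn.conj_mem n hn t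
  -- m = n * (t n t⁻¹) is centralized by t
  have hmm : n * ((t : G) * n * (t : G)⁻¹) ∈ N := N.mul_mem hn hm
  have hcm : (t : G) * (n * ((t : G) * n * (t : G)⁻¹)) = (n * ((t : G) * n * (t : G)⁻¹)) * t := by
    calc (t : G) * (n * ((t : G) * n * (t : G)⁻¹))
        = (t : G) * n * (t : G) * n * (t : G)⁻¹ := by group
      _ = ((t : G) * n * (t : G)⁻¹) * n * t := by rw [htinv]
      _ = (n * ((t : G) * n * (t : G)⁻¹)) * t := by rw [hS.comm hm hn]
  have hm1 := hK.eq_one_of_comm hS t.2 ht1' hmm hcm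
  -- so t n t⁻¹ = n⁻¹ = n
  have h3 : (t : G) * n * (t : G)⁻¹ = n := by
    have : (t : G) * n * (t : G)⁻¹ = n⁻¹ := by
      rw [eq_comm, inv_eq_iff_mul_eq_one]; exact hm1
    rw [this, hS.inv_eq hn]
  have h4 : (t : G) * n = n * t := by
    calc (t : G) * n = (t : G) * n * (t : G)⁻¹ * t := by group
      _ = n * t := by rw [h3]
  exact hK.eq_one_of_comm hS t.2 ht1' hn h4

end kernel

open MulAction Cfsg.Agent.Lib.Helper6_Zassenhaus

section kernel2

variable {G Ω : Type*} [Group G] [MulAction G Ω]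

/-- conjugation by an element normalising `K`, as an automorphism of `K` -/
def conjAut (K : Subgroup G) (h : G) (h1 : ∀ k ∈ K, h * k * h⁻¹ ∈ K)
    (h2 : ∀ k ∈ K, h⁻¹ * k * h ∈ K) : K ≃* K where
  toFun k := ⟨h * k * h⁻¹, h1 k k.2⟩
  invFun k := ⟨h⁻¹ * k * h, h2 k k.2⟩
  left_inv k := Subtype.ext (by simp only []; group)
  right_inv k := Subtype.ext (by simp only []; group)
  map_mul' x y := Subtype.ext (by simp only [Subgroup.coe_mul]; group)

theorem conjAut_iterate (K : Subgroup G) (h : G) (h1 : ∀ k ∈ K, h * k * h⁻¹ ∈ K)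
    (h2 : ∀ k ∈ K, h⁻¹ * k * h ∈ K) (j : ℕ) (k : K) :
    (((conjAut K h h1 h2)^[j] k : K) : G) = h ^ j * k * (h ^ j)⁻¹ := by
  induction j with
  | zero => simp
  | succ n ih =>
    rw [Function.iterate_succ_apply']
    change h * (((conjAut K h h1 h2)^[n] k : K) : G) * h⁻¹ = _
    rw [ih, pow_succ']
    group

variable {N : Subgroup G} (hS : Setup G Ω N) {a : Ω} {K : Subgroup G} (hK : KData G a K)
include hS hK

theorem KData.nilpotent [Finite G] {h : G} {p : ℕ} (hp : p.Prime) (hhp : h ^ p = 1) (h1 : h ≠ 1)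
    (ha : h • a = a) {b : Ω} (hab : a ≠ b) (hb : h • b = b) : Group.IsNilpotent K := by
  have hinv : h⁻¹ • a = a := by rw [inv_smul_eq_iff, ha]
  have hc1 : ∀ k ∈ K, h * k * h⁻¹ ∈ K := fun k hk => hK.conj_mem ha hk
  have hc2 : ∀ k ∈ K, h⁻¹ * k * h ∈ K := by
    intro k hk
    have := hK.conj_mem hinv hk
    simpa using this
  apply Cfsg.Agent.Lib.Helper1_Thompson.thompson hp (conjAut K h hc1 hc2)
  refine ⟨?_, ?_⟩
  · intro k hk
    have hk' : h * (k : G) * h⁻¹ = k := congrArg Subtype.val hk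
    have hcomm : h * (k : G) = k * h := by
      calc h * (k : G) = h * k * h⁻¹ * h := by group
        _ = k * h := by rw [hk']
    have hfix : h • ((k : G) • b) = (k : G) • b := by
      rw [← mul_smul, hcomm, mul_smul, hb]
    have hkb_a : (k : G) • b ≠ a := by
      intro h'
      have : (k : G) • b = (k : G) • a := by rw [h', hK.fix k.2]
      exact hab (smul_left_cancel _ this).symm
    have hkb : (k : G) • b = b := by
      by_contra hne
      exact ne_of_fix hS.z h1 hab ha hb hkb_a hne hfix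
    exact Subtype.ext (hK.eq_one_of_fix k.2 hab.symm hkb)
  · intro k
    apply Subtype.ext
    rw [conjAut_iterate, hhp]
    simp

theorem KData.isCyclic [Finite G] (hN : N ≠ ⊥) {h : G} {p : ℕ} (hp : p.Prime) (hhp : h ^ p = 1)
    (h1 : h ≠ 1) (ha : h • a = a) {b : Ω} (hab : a ≠ b) (hb : h • b = b) : IsCyclic K := by
  have hnil := hK.nilpotent hS hp hhp h1 ha hab hb
  have hodd := hK.odd_card hS hN
  haveI : IsMulCommutative N := ⟨⟨fun x y => Subtype.ext (hS.comm x.2 y.2)⟩⟩
  have hNn := hS.normal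
  have hKN : K ≤ Subgroup.normalizer (N : Set G) := by
    rw [Subgroup.normalizer_eq_top]
    exact le_top
  have hfpf : ∀ e ∈ K, e ≠ 1 → N ⊓ Subgroup.centralizer {e} = ⊥ := by
    intro e he he1
    rw [eq_bot_iff]
    intro n hn
    obtain ⟨hn1, hn2⟩ := Subgroup.mem_inf.1 hn
    rw [Subgroup.mem_centralizer_singleton_iff] at hn2
    rw [Subgroup.mem_bot]
    exact hK.eq_one_of_comm hS he he1 hn1 hn2.symm
  have hC := Cfsg.Agent.S1474.propC_of_fpf K N hN hKN hfpf
  exact Cfsg.Agent.Lib.Helper25_CNSolv.isCyclic_of_odd hC hnil hodd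

end kernel2

open MulAction Cfsg.Agent.Lib.Helper6_Zassenhaus

/-- If a finite group acts faithfully and doubly transitively, no non-identity element fixes three points, some
non-identity element fixes two points, and some normal subgroup acts regularly, then the number of points
is `2^p` with `p` prime. -/
theorem result {G Ω : Type*} [Group G]
    [MulAction G Ω] [Fintype Ω] [FaithfulSMul G Ω] (h2 : MulAction.IsMultiplyPretransitive G Ω 2)
    (h3 : ∀ g : G, ∀ a b c : Ω, a ≠ b → b ≠ c → a ≠ c → g • a = a → g • b = b → g • c = c → g = 1)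
    (hfix : ∃ g : G, g ≠ 1 ∧ ∃ a b : Ω, a ≠ b ∧ g • a = a ∧ g • b = b)
    (N : Subgroup G) [N.Normal] (hNt : MulAction.IsPretransitive N Ω)
    (hNr : ∀ a : Ω, MulAction.stabilizer N a = ⊥) :
    ∃ p : ℕ, p.Prime ∧ Fintype.card Ω = 2 ^ p := by
  have hZ : ZHyp G Ω :=
    ⟨inferInstance, fun h h' => (MulAction.is_two_pretransitive_iff.1 h2) h h', h3, hfix⟩
  have hS : Setup G Ω N := by
    refine ⟨hZ, inferInstance, ?_, ?_⟩
    · intro x y
      obtain ⟨n, hn⟩ := hNt.exists_smul_eq x y
      exact ⟨n.1, n.2, hn⟩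
    · intro n hn x hx
      have hmem : (⟨n, hn⟩ : N) ∈ stabilizer N x := by
        rw [mem_stabilizer_iff]; exact hx
      rw [hNr x, Subgroup.mem_bot] at hmem
      exact congrArg Subtype.val hmem
  haveI : Finite G := finite_of_finite hZ
  obtain ⟨h₀, h₀1, a, b, hab, h₀a, h₀b⟩ := hfix
  have hord1 : orderOf h₀ ≠ 1 := by
    rw [Ne, orderOf_eq_one_iff]; exact h₀1
  obtain ⟨p, hp, hpd⟩ := Nat.exists_prime_and_dvd hord1
  obtain ⟨h, hh⟩ : ∃ h : G, h = h₀ ^ (orderOf h₀ / p) := ⟨_, rfl⟩
  have hord : orderOf h = p := by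
    rw [hh]; exact orderOf_pow_orderOf_div (orderOf_pos h₀).ne' hpd
  have hhp : h ^ p = 1 := by rw [← hord]; exact pow_orderOf_eq_one h
  have h1 : h ≠ 1 := by
    intro h'
    rw [h', orderOf_one] at hord
    exact hp.one_lt.ne hord
  have ha : h • a = a := by
    have : h ∈ stabilizer G a := by
      rw [hh]; exact Subgroup.pow_mem _ (mem_stabilizer_iff.2 h₀a) _
    exact mem_stabilizer_iff.1 this
  have hb : h • b = b := by
    have : h ∈ stabilizer G b := by
      rw [hh]; exact Subgroup.pow_mem _ (mem_stabilizer_iff.2 h₀b) _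
    exact mem_stabilizer_iff.1 this
  obtain ⟨K, hKset, hKt⟩ := exists_K hZ a
  have hK : KData G a K := ⟨fun x => by rw [← SetLike.mem_coe, hKset]; rfl, hKt⟩
  obtain ⟨nb, hnb, hnba⟩ := hS.trans a b
  have hnb1 : nb ≠ 1 := by
    intro h'
    rw [h', one_smul] at hnba
    exact hab hnba
  have hN : N ≠ ⊥ := by
    intro h'
    rw [h', Subgroup.mem_bot] at hnb
    exact hnb1 hnb
  have hcyc := hK.isCyclic hS hN hp hhp h1 ha hab hb
  obtain ⟨k, hk⟩ := IsCyclic.exists_monoid_generator (α := K)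
  have hkpow : ∀ x ∈ K, ∃ i : ℕ, (k : G) ^ i = x := by
    intro x hx
    obtain ⟨i, hi⟩ := (Submonoid.mem_powers_iff _ _).1 (hk ⟨x, hx⟩)
    exact ⟨i, by have := congrArg Subtype.val hi; simpa using this⟩
  obtain ⟨r, hr⟩ := hkpow _ (hK.conj_mem ha k.2)
  letI instCG : CommGroup N :=
    { (inferInstance : Group N) with mul_comm := fun x y => Subtype.ext (hS.comm x.2 y.2) }
  have hconj : ∀ (g : G) (n : N), ((MulAut.conjNormal g n : N) : G) = g * n * g⁻¹ :=
    fun g n => rfl
  have key := card_eq_two_pow_mul (Γ := G) (A := N) MulAut.conjNormal (k : G) h ⟨nb, hnb⟩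
    ?_ ?_ ?_ r hr.symm p hp hhp ?_
  · refine ⟨p, hp, ?_⟩
    rw [← key, ← Nat.card_eq_fintype_card]
    symm
    apply Nat.card_eq_of_bijective (fun n : N => (n : G) • a)
    constructor
    · intro n n' hnn
      exact Subtype.ext (hS.eq_of_smul_eq a n.2 n'.2 hnn)
    · intro x
      obtain ⟨n, hn, hnx⟩ := hS.trans a x
      exact ⟨⟨n, hn⟩, hnx⟩
  · intro x hx
    have hxa : (x : G) • a ≠ a := by
      intro h'
      apply hx
      exact Subtype.ext (hS.reg x x.2 a h')
    obtain ⟨k', hk', hk'b⟩ := hK.trans b ((x : G) • a) hab.symm hxa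
    obtain ⟨i, hi⟩ := hkpow k' hk'
    refine ⟨i, ?_⟩
    apply Subtype.ext
    rw [hconj]
    have hmem : (k : G) ^ i * nb * ((k : G) ^ i)⁻¹ ∈ N := (hS.normal).conj_mem nb hnb _
    apply hS.eq_of_smul_eq a x.2 hmem
    rw [mul_smul, mul_smul, hi]
    have : k'⁻¹ • a = a := by rw [inv_smul_eq_iff, hK.fix hk']
    rw [this, hnba, hk'b]
  · apply Subtype.ext
    rw [hconj]
    have hc := hS.comm_of_fix hnb ha (by rw [hnba]; exact hb)
    change h * nb * h⁻¹ = nb
    rw [hc]; group
  · intro x hx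
    have hx' : h * (x : G) * h⁻¹ = x := by
      rw [← hconj]; exact congrArg Subtype.val hx
    have hc : h * (x : G) = x * h := by
      calc h * (x : G) = h * x * h⁻¹ * h := by group
        _ = x * h := by rw [hx']
    have hfx : h • ((x : G) • a) = (x : G) • a := hS.fix_of_comm ha hc
    by_cases hxa : (x : G) • a = a
    · left
      exact Subtype.ext (hS.reg x x.2 a hxa)
    · right
      have hxb : (x : G) • a = b := by
        by_contra hne
        exact ne_of_fix hZ h1 hab ha hb hxa hne hfx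
      apply Subtype.ext
      exact hS.eq_of_smul_eq a x.2 hnb (by rw [hxb, hnba])
  · obtain ⟨c, hca, hcb⟩ := exists_third hZ a b hab
    obtain ⟨n, hn, hnc⟩ := hS.trans a c
    refine ⟨⟨n, hn⟩, ?_, ?_⟩
    · intro h'
      have : n = 1 := congrArg Subtype.val h'
      rw [this, one_smul] at hnc
      exact hca hnc.symm
    · intro h'
      have : n = nb := congrArg Subtype.val h'
      rw [this, hnba] at hnc
      exact hcb hnc.symm

end Cfsg.Agent.S0341
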