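import Cfsg.Statements.S0345
import Cfsg.Agent.Lib.Helper6_ZassCycA
import Cfsg.Agent.Lib.Helper6_ZassCycC
import Cfsg.Agent.Lib.Helper1_FPF
import Cfsg.Agent.S0739
import Cfsg.Agent.S0882

set_option autoImplicit false
open Cfsg

namespace Cfsg.Agent.S0345

/-- In a finite simple Zassenhaus group the stabiliser `H` of two points `a ≠ b` is cyclic, and some involution
interchanging `a` and `b` inverts every element of `H`. -/
theorem result {G Ω : Type*} [Group G] [Finite G] [MulAction G Ω] [Finite Ω]
    (hZ : Cfsg.IsZassenhausGroup G Ω) [IsSimpleGroup G]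
    {a b : Ω} (hab : a ≠ b) :
    IsCyclic ↥(MulAction.stabilizer G a ⊓ MulAction.stabilizer G b) ∧
      ∃ v : G, orderOf v = 2 ∧ v • a = b ∧ v • b = a ∧ ∀ h ∈ MulAction.stabilizer G a ⊓ MulAction.stabilizer G b, v * h * v⁻¹ = h⁻¹ := by
  classical
  have zh := Cfsg.Agent.Lib.Helper6_Zassenhaus.zhyp_of_isZassenhausGroup hZ
  have hFΩ : Fintype Ω := Fintype.ofFinite Ω
  have hmem : ∀ x : G, x ∈ MulAction.stabilizer G a ⊓ MulAction.stabilizer G b ↔
      x • a = a ∧ x • b = b := by
    intro x
    rw [Subgroup.mem_inf, MulAction.mem_stabilizer_iff, MulAction.mem_stabilizer_iff]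
  rcases Nat.even_or_odd (Nat.card ↥(MulAction.stabilizer G a ⊓ MulAction.stabilizer G b)) with
    heven | hodd
  · rcases Cfsg.Agent.Lib.Helper6_ZassCycA.dichotomy zh hab heven with hall | ⟨hcard, hreg⟩
    · -- every element interchanging `a` and `b` is an involution
      obtain ⟨s, hsa, hsb⟩ := zh.two hab (Ne.symm hab)
      have hss := hall s hsa hsb
      have hsi : s⁻¹ = s := inv_eq_of_mul_eq_one_left hss
      have hinv : ∀ h ∈ MulAction.stabilizer G a ⊓ MulAction.stabilizer G b,
          s * h * s⁻¹ = h⁻¹ := by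
        intro h hh
        obtain ⟨h1, h2⟩ := (hmem h).1 hh
        have h3 := hall (s * h) (by rw [mul_smul, h1, hsa]) (by rw [mul_smul, h2, hsb])
        rw [hsi]
        apply eq_inv_of_mul_eq_one_left
        rw [← h3]
        group
      have hcomm : IsMulCommutative ↥(MulAction.stabilizer G a ⊓ MulAction.stabilizer G b) := by
        refine ⟨⟨fun x y => ?_⟩⟩
        apply Subtype.ext
        have e1 := hinv _ (Subgroup.mul_mem _ x.2 y.2)
        have e2 := hinv _ x.2
        have e3 := hinv _ y.2
        have e4 : s * ((x : G) * y) * s⁻¹ = (s * x * s⁻¹) * (s * y * s⁻¹) := by group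
        rw [e4, e2, e3] at e1
        have e5 : ((x : G) * y)⁻¹ = ((y : G) * x)⁻¹ := by rw [← e1]; group
        exact inv_injective e5
      obtain ⟨K, hKne, hHK, hfpfK⟩ := Cfsg.Agent.S0739.kernel_facts zh hab
      refine ⟨Cfsg.Agent.Lib.Helper1_FPF.isCyclic_of_fpf_of_comm _ K hKne hHK hfpfK, s, ?_, hsa,
        hsb, hinv⟩
      apply orderOf_eq_prime (by rw [pow_two]; exact hss)
      intro h
      rw [h, one_smul] at hsa
      exact hab hsa
    · -- the two-point stabiliser is regular on the remaining points
      by_cases he2 : Nat.card ↥(MulAction.stabilizer G a ⊓ MulAction.stabilizer G b) = 2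
      · -- degree four
        have : Fact (Nat.Prime 2) := ⟨Nat.prime_two⟩
        obtain ⟨x, hx⟩ := exists_prime_orderOf_dvd_card'
          (G := ↥(MulAction.stabilizer G a ⊓ MulAction.stabilizer G b)) 2
          (even_iff_two_dvd.1 heven)
        have hxt : (x : G) * x = 1 := by
          have h1 : x ^ 2 = 1 := by rw [← hx]; exact pow_orderOf_eq_one x
          have h2 := congrArg Subtype.val h1
          rw [pow_two] at h2
          exact h2
        have hx1 : x ≠ 1 := by
          intro h
          rw [h, orderOf_one] at hx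
          omega
        have hx1' : (x : G) ≠ 1 := fun h => hx1 (Subtype.ext h)
        obtain ⟨hxa, hxb⟩ := (hmem x).1 x.2
        obtain ⟨c, hca, hcb⟩ := Cfsg.Agent.Lib.Helper6_Zassenhaus.exists_third zh a b hab
        have htc : (x : G) • c ≠ c :=
          Cfsg.Agent.Lib.Helper6_Zassenhaus.ne_of_fix zh hx1' hab hxa hxb hca hcb
        obtain ⟨u, huu, hu1, huc, hutc⟩ :=
          Cfsg.Agent.Lib.Helper6_ZassCycA.exists_invol zh hab hxt hx1' hxa hxb (Ne.symm htc)
        obtain ⟨hcomm, hua, hub⟩ :=
          Cfsg.Agent.Lib.Helper6_ZassCycA.swap_of_invol zh hab hxt hx1' hxa hxb hca hcb huu hu1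
            huc hutc
        have hui : u⁻¹ = u := inv_eq_of_mul_eq_one_left huu
        have hxi : (x : G)⁻¹ = x := inv_eq_of_mul_eq_one_left hxt
        refine ⟨isCyclic_of_prime_card (p := 2) he2, u, ?_, hua, hub, ?_⟩
        · exact orderOf_eq_prime (by rw [pow_two]; exact huu) hu1
        · intro h hh
          obtain ⟨y, hy1, hy⟩ := (Nat.card_eq_two_iff' (1 :
            ↥(MulAction.stabilizer G a ⊓ MulAction.stabilizer G b))).1 he2
          by_cases hh1 : h = 1
          · rw [hh1]; group
          · have e1 : (⟨h, hh⟩ : ↥(MulAction.stabilizer G a ⊓ MulAction.stabilizer G b)) = y :=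
              hy _ (fun h' => hh1 (congrArg Subtype.val h'))
            have e2 : x = y := hy _ hx1
            have e3 : h = x := by
              have := e1.trans e2.symm
              exact congrArg Subtype.val this
            rw [e3, hxi, hui, ← hcomm, mul_assoc, huu, mul_one]
      · -- degree at least six: a subgroup of index two
        exfalso
        have h2e : 2 ∣ Nat.card ↥(MulAction.stabilizer G a ⊓ MulAction.stabilizer G b) :=
          even_iff_two_dvd.1 heven
        have hepos : 0 < Nat.card ↥(MulAction.stabilizer G a ⊓ MulAction.stabilizer G b) :=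
          Nat.card_pos
        have h4 : 4 ≤ Nat.card ↥(MulAction.stabilizer G a ⊓ MulAction.stabilizer G b) := by
          obtain ⟨k, hk⟩ := h2e
          omega
        obtain ⟨G0, hG0⟩ := Cfsg.Agent.Lib.Helper6_ZassCycC.exists_index_two_of_regular zh hab hreg
          (by rw [hcard]; exact heven.add (by decide)) (by omega)
        have hn : G0.Normal := Subgroup.normal_of_index_eq_two hG0
        have hle : Nat.card ↥(MulAction.stabilizer G a ⊓ MulAction.stabilizer G b) ≤ Nat.card G :=
          Nat.le_of_dvd Nat.card_pos (Subgroup.card_subgroup_dvd_card _)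
        rcases hn.eq_bot_or_eq_top with h | h
        · rw [h, Subgroup.index_bot] at hG0
          omega
        · rw [h, Subgroup.index_top] at hG0
          omega
  · -- odd order
    have hnil := Cfsg.Agent.S0882.hnil_of_simple zh hab hodd
    obtain ⟨hcyc, -, hinv⟩ := Cfsg.Agent.S0739.main zh hab hodd hnil
    obtain ⟨s, hsa, hsb⟩ := zh.two hab (Ne.symm hab)
    exact ⟨hcyc, s, Cfsg.Agent.S0882.swap_orderOf hab hinv hodd hsa hsb, hsa, hsb,
      hinv s hsa hsb⟩

end Cfsg.Agent.S0345
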