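import Cfsg.Statements.S0353
import Cfsg.Agent.Lib.Helper6_Steiner
import Cfsg.Agent.S0352

set_option autoImplicit false
open Cfsg

namespace Cfsg.Agent.S0353

open Cfsg.Agent.Lib.Helper6_Steiner

section
variable {α : Type*} [Fintype α] [DecidableEq α] (hα : Fintype.card α = 24)
  {B : Set (Finset α)} (hB : Cfsg.IsSteinerSystem 5 8 B)
include hα hB

/-- two distinct blocks with at least three common points have exactly four -/
theorem card_inter_eq_four {d b : Finset α} (hd : d ∈ B) (hb : b ∈ B) (hne : d ≠ b)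
    (h : 3 ≤ (d ∩ b).card) : (d ∩ b).card = 4 := by
  rcases Cfsg.Agent.S0352.result hα hB hd hb hne with h0 | h0 | h0 <;> omega

/-- two distinct blocks containing a common 4-set meet exactly in it -/
theorem inter_eq_of_subset {d b Y : Finset α} (hd : d ∈ B) (hb : b ∈ B) (hne : d ≠ b)
    (hY : Y ⊆ d ∩ b) (hYc : Y.card = 4) : d ∩ b = Y := by
  have h1 : 3 ≤ (d ∩ b).card := by
    have := Finset.card_le_card hY
    omega
  have h2 := card_inter_eq_four hα hB hd hb hne h1
  exact (Finset.eq_of_subset_of_card_le hY (by omega)).symm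

/-- Step 1 -/
theorem step1 {b c : Finset α} (hb : b ∈ B) (hc : c ∈ B) (h4 : (b ∩ c).card = 4)
    (hnot : (b \ c) ∪ (c \ b) ∉ B) {z : α} (hz : z ∈ c \ b) :
    ∃ d ∈ B, b \ c ⊆ d ∧ z ∈ d ∧ d ∩ b = b \ c ∧ (d ∩ (c \ b)).card = 2 ∧
      d ∩ c = d ∩ (c \ b) := by
  have hbc8 : b.card = 8 := hB.1 b hb
  have hcc8 : c.card = 8 := hB.1 c hc
  have hY4 : (b \ c).card = 4 := by
    have := Finset.card_sdiff_add_card_inter b c
    omega
  have hZ4 : (c \ b).card = 4 := by
    have := Finset.card_sdiff_add_card_inter c b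
    rw [Finset.inter_comm] at this
    omega
  have hzc : z ∈ c := (Finset.mem_sdiff.1 hz).1
  have hzb : z ∉ b := (Finset.mem_sdiff.1 hz).2
  have hzY : z ∉ b \ c := fun h => hzb (Finset.mem_sdiff.1 h).1
  have hs : (insert z (b \ c)).card = 5 := by
    rw [Finset.card_insert_of_notMem hzY, hY4]
  obtain ⟨d, ⟨hdB, hsd⟩, _⟩ := hB.2 _ hs
  have hzd : z ∈ d := hsd (Finset.mem_insert_self _ _)
  have hYd : b \ c ⊆ d := fun x hx => hsd (Finset.mem_insert_of_mem hx)
  have hdb : d ≠ b := fun h => hzb (h ▸ hzd)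
  have hdbY : d ∩ b = b \ c := by
    apply inter_eq_of_subset hα hB hdB hb hdb _ hY4
    intro x hx
    exact Finset.mem_inter.2 ⟨hYd hx, (Finset.mem_sdiff.1 hx).1⟩
  have hdcZ : d ∩ c ⊆ c \ b := by
    intro x hx
    rw [Finset.mem_inter] at hx
    rw [Finset.mem_sdiff]
    refine ⟨hx.2, fun hxb => ?_⟩
    have : x ∈ d ∩ b := Finset.mem_inter.2 ⟨hx.1, hxb⟩
    rw [hdbY] at this
    exact (Finset.mem_sdiff.1 this).2 hx.2
  have hdceq : d ∩ c = d ∩ (c \ b) := by
    ext x
    constructor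
    · intro hx
      exact Finset.mem_inter.2 ⟨(Finset.mem_inter.1 hx).1, hdcZ hx⟩
    · intro hx
      rw [Finset.mem_inter] at hx
      exact Finset.mem_inter.2 ⟨hx.1, (Finset.mem_sdiff.1 hx.2).1⟩
  have hYne : (b \ c).Nonempty := by
    rw [← Finset.card_pos, hY4]; norm_num
  have hdc : d ≠ c := by
    intro h
    obtain ⟨y, hy⟩ := hYne
    have := hYd hy
    rw [h] at this
    exact (Finset.mem_sdiff.1 hy).2 this
  refine ⟨d, hdB, hYd, hzd, hdbY, ?_, hdceq⟩
  rw [← hdceq]
  rcases Cfsg.Agent.S0352.result hα hB hdB hc hdc with h0 | h0 | h0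
  · exfalso
    have : z ∈ d ∩ c := Finset.mem_inter.2 ⟨hzd, hzc⟩
    rw [Finset.card_eq_zero] at h0
    rw [h0] at this
    exact absurd this (Finset.notMem_empty z)
  · exact h0
  · exfalso
    have h5 : d ∩ c = c \ b := Finset.eq_of_subset_of_card_le hdcZ (by omega)
    have hZd : c \ b ⊆ d := by
      intro x hx
      rw [← h5] at hx
      exact (Finset.mem_inter.1 hx).1
    have hunion : (b \ c) ∪ (c \ b) ⊆ d := Finset.union_subset hYd hZd
    have hdisj : Disjoint (b \ c) (c \ b) := by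
      rw [Finset.disjoint_left]
      intro x hx hx'
      exact (Finset.mem_sdiff.1 hx').2 (Finset.mem_sdiff.1 hx).1
    have hcard : ((b \ c) ∪ (c \ b)).card = 8 := by
      rw [Finset.card_union_of_disjoint hdisj, hY4, hZ4]
    have : (b \ c) ∪ (c \ b) = d :=
      Finset.eq_of_subset_of_card_le hunion (by rw [hcard, hB.1 d hdB])
    exact hnot (this ▸ hdB)

end


/-- In an S(5, 8, 24), the symmetric difference of two blocks meeting in four points is a block. -/
theorem result {α : Type*} [Fintype α] [DecidableEq α] (hα : Fintype.card α = 24) {B : Set (Finset α)} (hB : Cfsg.IsSteinerSystem 5 8 B) {b c : Finset α} (hb : b ∈ B) (hc : c ∈ B) (h4 : (b ∩ c).card = 4) : symmDiff b c ∈ B := by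
  by_contra hnot
  rw [Finset.symmDiff_def] at hnot
  have hbc8 : b.card = 8 := hB.1 b hb
  have hcc8 : c.card = 8 := hB.1 c hc
  have hY4 : (b \ c).card = 4 := by
    have := Finset.card_sdiff_add_card_inter b c
    omega
  have hZ4 : (c \ b).card = 4 := by
    have := Finset.card_sdiff_add_card_inter c b
    rw [Finset.inter_comm] at this
    omega
  have hYZ : Disjoint (b \ c) (c \ b) := by
    rw [Finset.disjoint_left]
    intro x hx hx'
    exact (Finset.mem_sdiff.1 hx').2 (Finset.mem_sdiff.1 hx).1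
  -- Step 2
  obtain ⟨z1, hz1⟩ : (c \ b).Nonempty := by rw [← Finset.card_pos, hZ4]; norm_num
  obtain ⟨d1, hd1B, hYd1, hz1d1, hd1b, hd1Z, hd1c⟩ := step1 hα hB hb hc h4 hnot hz1
  obtain ⟨z3, hz3, hz3d1⟩ : ∃ z3 ∈ c \ b, z3 ∉ d1 := by
    by_contra hcon
    push Not at hcon
    have : c \ b ⊆ d1 ∩ (c \ b) := fun x hx => Finset.mem_inter.2 ⟨hcon x hx, hx⟩
    have := Finset.card_le_card this
    omega
  obtain ⟨d2, hd2B, hYd2, hz3d2, hd2b, hd2Z, hd2c⟩ := step1 hα hB hb hc h4 hnot hz3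
  have hd12 : d1 ≠ d2 := fun h => hz3d1 (h ▸ hz3d2)
  have hd1d2 : d1 ∩ d2 = b \ c :=
    inter_eq_of_subset hα hB hd1B hd2B hd12
      (fun x hx => Finset.mem_inter.2 ⟨hYd1 hx, hYd2 hx⟩) hY4
  have hz1b : z1 ∉ b := (Finset.mem_sdiff.1 hz1).2
  have hz3b : z3 ∉ b := (Finset.mem_sdiff.1 hz3).2
  have hz1d2 : z1 ∉ d2 := by
    intro h
    have : z1 ∈ d1 ∩ d2 := Finset.mem_inter.2 ⟨hz1d1, h⟩
    rw [hd1d2] at this
    exact hz1b (Finset.mem_sdiff.1 this).1
  have hz13 : z1 ≠ z3 := fun h => hz3d1 (h ▸ hz1d1)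
  -- `Z = (d1 ∩ Z) ∪ (d2 ∩ Z)`
  have hZunion : c \ b = (d1 ∩ (c \ b)) ∪ (d2 ∩ (c \ b)) := by
    symm
    apply Finset.eq_of_subset_of_card_le
    · exact Finset.union_subset Finset.inter_subset_right Finset.inter_subset_right
    · have hdis : Disjoint (d1 ∩ (c \ b)) (d2 ∩ (c \ b)) := by
        rw [Finset.disjoint_left]
        intro x hx hx'
        have : x ∈ d1 ∩ d2 :=
          Finset.mem_inter.2 ⟨(Finset.mem_inter.1 hx).1, (Finset.mem_inter.1 hx').1⟩
        rw [hd1d2] at this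
        exact (Finset.mem_sdiff.1 (Finset.mem_inter.1 hx).2).2 (Finset.mem_sdiff.1 this).1
      rw [Finset.card_union_of_disjoint hdis, hd1Z, hd2Z, hZ4]
  -- Step 3
  obtain ⟨y4, hy4⟩ : (b \ c).Nonempty := by rw [← Finset.card_pos, hY4]; norm_num
  set Y' := (b \ c).erase y4 with hY'
  have hY'3 : Y'.card = 3 := by rw [hY', Finset.card_erase_of_mem hy4, hY4]
  have hY'Y : Y' ⊆ b \ c := Finset.erase_subset _ _
  have hz3Y' : z3 ∉ Y' := fun h => hz3b (Finset.mem_sdiff.1 (hY'Y h)).1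
  have hz1Y' : z1 ∉ Y' := fun h => hz1b (Finset.mem_sdiff.1 (hY'Y h)).1
  have hz1ins : z1 ∉ insert z3 Y' := by
    rw [Finset.mem_insert]; rintro (h | h)
    · exact hz13 h
    · exact hz1Y' h
  have hs5 : (insert z1 (insert z3 Y')).card = 5 := by
    rw [Finset.card_insert_of_notMem hz1ins, Finset.card_insert_of_notMem hz3Y', hY'3]
  obtain ⟨e, ⟨heB, hse⟩, _⟩ := hB.2 _ hs5
  have hz1e : z1 ∈ e := hse (Finset.mem_insert_self _ _)
  have hz3e : z3 ∈ e := hse (Finset.mem_insert_of_mem (Finset.mem_insert_self _ _))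
  have hY'e : Y' ⊆ e := fun x hx => hse (Finset.mem_insert_of_mem (Finset.mem_insert_of_mem hx))
  have hed1 : e ≠ d1 := fun h => hz3d1 (h ▸ hz3e)
  have hed2 : e ≠ d2 := fun h => hz1d2 (h ▸ hz1e)
  have hc1 : (insert z1 Y').card = 4 := by rw [Finset.card_insert_of_notMem hz1Y', hY'3]
  have hc3 : (insert z3 Y').card = 4 := by rw [Finset.card_insert_of_notMem hz3Y', hY'3]
  have hed1eq : e ∩ d1 = insert z1 Y' := by
    apply inter_eq_of_subset hα hB heB hd1B hed1 _ hc1
    intro x hx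
    rw [Finset.mem_insert] at hx
    rcases hx with rfl | hx
    · exact Finset.mem_inter.2 ⟨hz1e, hz1d1⟩
    · exact Finset.mem_inter.2 ⟨hY'e hx, hYd1 (hY'Y hx)⟩
  have hed2eq : e ∩ d2 = insert z3 Y' := by
    apply inter_eq_of_subset hα hB heB hd2B hed2 _ hc3
    intro x hx
    rw [Finset.mem_insert] at hx
    rcases hx with rfl | hx
    · exact Finset.mem_inter.2 ⟨hz3e, hz3d2⟩
    · exact Finset.mem_inter.2 ⟨hY'e hx, hYd2 (hY'Y hx)⟩
  have hy4b : y4 ∈ b := (Finset.mem_sdiff.1 hy4).1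
  have hy4e : y4 ∉ e := by
    intro h
    have : y4 ∈ e ∩ d1 := Finset.mem_inter.2 ⟨h, hYd1 hy4⟩
    rw [hed1eq, Finset.mem_insert] at this
    rcases this with h' | h'
    · exact hz1b (h' ▸ hy4b)
    · exact (Finset.notMem_erase y4 (b \ c)) h'
  -- `e ∩ Z = {z1, z3}`
  have heZ : e ∩ (c \ b) = {z1, z3} := by
    ext z
    constructor
    · intro hz
      rw [Finset.mem_inter] at hz
      have hzb : z ∉ b := (Finset.mem_sdiff.1 hz.2).2
      have hzz := hz.2
      rw [hZunion, Finset.mem_union] at hzz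
      rcases hzz with hzz | hzz
      · have : z ∈ e ∩ d1 := Finset.mem_inter.2 ⟨hz.1, (Finset.mem_inter.1 hzz).1⟩
        rw [hed1eq, Finset.mem_insert] at this
        rcases this with h' | h'
        · rw [h']; simp
        · exact absurd (Finset.mem_sdiff.1 (hY'Y h')).1 hzb
      · have : z ∈ e ∩ d2 := Finset.mem_inter.2 ⟨hz.1, (Finset.mem_inter.1 hzz).1⟩
        rw [hed2eq, Finset.mem_insert] at this
        rcases this with h' | h'
        · rw [h']; simp
        · exact absurd (Finset.mem_sdiff.1 (hY'Y h')).1 hzb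
    · intro hz
      rw [Finset.mem_insert, Finset.mem_singleton] at hz
      rcases hz with rfl | rfl
      · exact Finset.mem_inter.2 ⟨hz1e, hz1⟩
      · exact Finset.mem_inter.2 ⟨hz3e, hz3⟩
  have heZ2 : (e ∩ (c \ b)).card = 2 := by
    rw [heZ, Finset.card_pair hz13]
  -- `e ∩ b`
  have heb : e ≠ b := fun h => hz1b (h ▸ hz1e)
  have heb4 : (e ∩ b).card = 4 := by
    apply card_inter_eq_four hα hB heB hb heb
    have : Y' ⊆ e ∩ b :=
      fun x hx => Finset.mem_inter.2 ⟨hY'e hx, (Finset.mem_sdiff.1 (hY'Y hx)).1⟩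
    have := Finset.card_le_card this
    omega
  -- `e ∩ Y = Y'`
  have heY : e ∩ (b \ c) = Y' := by
    ext x
    constructor
    · intro hx
      rw [Finset.mem_inter] at hx
      rw [hY', Finset.mem_erase]
      refine ⟨?_, hx.2⟩
      rintro rfl
      exact hy4e hx.1
    · intro hx
      exact Finset.mem_inter.2 ⟨hY'e hx, hY'Y hx⟩
  have hsplit_b : (e ∩ b).card = (e ∩ (b \ c)).card + (e ∩ (b ∩ c)).card := by
    rw [← Finset.card_union_of_disjoint]
    · congr 1
      ext x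
      simp only [Finset.mem_inter, Finset.mem_union, Finset.mem_sdiff]
      tauto
    · rw [Finset.disjoint_left]
      intro x hx hx'
      simp only [Finset.mem_inter, Finset.mem_sdiff] at hx hx'
      exact hx.2.2 hx'.2.2
  have hsplit_c : (e ∩ c).card = (e ∩ (c \ b)).card + (e ∩ (b ∩ c)).card := by
    rw [← Finset.card_union_of_disjoint]
    · congr 1
      ext x
      simp only [Finset.mem_inter, Finset.mem_union, Finset.mem_sdiff]
      tauto
    · rw [Finset.disjoint_left]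
      intro x hx hx'
      simp only [Finset.mem_inter, Finset.mem_sdiff] at hx hx'
      exact hx.2.2 hx'.2.1
  rw [heY, hY'3] at hsplit_b
  have hec : e ≠ c := by
    intro h
    have hY'ne : Y'.Nonempty := by rw [← Finset.card_pos, hY'3]; norm_num
    obtain ⟨y, hy⟩ := hY'ne
    have := hY'e hy
    rw [h] at this
    exact (Finset.mem_sdiff.1 (hY'Y hy)).2 this
  rcases Cfsg.Agent.S0352.result hα hB heB hc hec with h0 | h0 | h0 <;> omega

end Cfsg.Agent.S0353
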