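import Cfsg.Statements.S0354
import Cfsg.Agent.Lib.Helper6_Steiner
import Cfsg.Agent.S0352

set_option autoImplicit false
open Cfsg

namespace Cfsg.Agent.S0354

open Cfsg.Agent.Lib.Helper6_Steiner

theorem pointwise : ∀ m : ℕ, (m = 0 ∨ m = 2 ∨ m = 4) →
    (if m = 0 then 1 else 0) + Nat.choose m 2 = 1 + 5 * Nat.choose m 4 := by
  rintro m (rfl | rfl | rfl) <;> decide


/-- In an S(5, 8, 24), each block is disjoint from exactly 30 blocks. -/
theorem result {α : Type*} [Fintype α] [DecidableEq α] (hα : Fintype.card α = 24) {B : Set (Finset α)} (hB : Cfsg.IsSteinerSystem 5 8 B) {b : Finset α} (hb : b ∈ B) : {c : Finset α | c ∈ B ∧ Disjoint b c}.ncard = 30 := by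
  obtain ⟨h1, h2, h3, h4⟩ := Cfsg.Agent.S0352.sums hα hB hb
  have hcard : (blocks B).card = 759 := by
    have h := card_blocks_mul hB
    rw [hα] at h
    have h' : (blocks B).card * Nat.choose 8 5 = 759 * Nat.choose 8 5 := by
      rw [h]; decide
    exact Nat.eq_of_mul_eq_mul_right (by decide) h'
  have hbne : b.Nonempty := by
    rw [← Finset.card_pos, hB.1 b hb]; norm_num
  -- the set as a finset
  have hset : {c : Finset α | c ∈ B ∧ Disjoint b c} =
      ((((blocks B).erase b).filter (fun c => (b ∩ c).card = 0) : Finset (Finset α)) :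
        Set (Finset α)) := by
    ext c
    simp only [Set.mem_ofPred_eq, Finset.coe_filter, Finset.mem_erase, mem_blocks,
      Finset.card_eq_zero, ← Finset.disjoint_iff_inter_eq_empty]
    constructor
    · rintro ⟨hc, hd⟩
      refine ⟨⟨?_, hc⟩, hd⟩
      rintro rfl
      exact hbne.ne_empty (Finset.disjoint_self_iff_empty _ |>.1 hd)
    · rintro ⟨⟨_, hc⟩, hd⟩
      exact ⟨hc, hd⟩
  rw [hset, Set.ncard_coe_finset]
  have hsum : ∑ c ∈ (blocks B).erase b,
      ((if (b ∩ c).card = 0 then 1 else 0) + Nat.choose (b ∩ c).card 2) =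
      ∑ c ∈ (blocks B).erase b, (1 + 5 * Nat.choose (b ∩ c).card 4) := by
    apply Finset.sum_congr rfl
    intro c hc
    rw [Finset.mem_erase, mem_blocks] at hc
    exact pointwise _ (Cfsg.Agent.S0352.result hα hB hb hc.2 (Ne.symm hc.1))
  rw [Finset.sum_add_distrib, Finset.sum_add_distrib, ← Finset.mul_sum, h2, h4,
    Finset.sum_boole, Finset.sum_const, Finset.card_erase_of_mem (mem_blocks.2 hb), hcard] at hsum
  simp only [Nat.cast_id, smul_eq_mul] at hsum
  omega

end Cfsg.Agent.S0354
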