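import Cfsg.Statements.S0356
import Cfsg.Agent.Lib.Helper6_Steiner

set_option autoImplicit false
open Cfsg

namespace Cfsg.Agent.S0356

open Cfsg.Agent.Lib.Helper6_Steiner

theorem pointwise : ∀ m ≤ 2, 2 * Nat.choose m 2 ≤ Nat.choose m 1 ∧
    (2 * Nat.choose m 2 = Nat.choose m 1 → m = 0 ∨ m = 2) := by
  decide

/-- the intersection sums for an `S(3, 6, 22)` -/
theorem sums {α : Type*} [Fintype α] [DecidableEq α] (hα : Fintype.card α = 22)
    {B : Set (Finset α)} (hB : Cfsg.IsSteinerSystem 3 6 B) {b : Finset α} (hb : b ∈ B) :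
    (∑ c ∈ (blocks B).erase b, Nat.choose (b ∩ c).card 0 = 76) ∧
    (∑ c ∈ (blocks B).erase b, Nat.choose (b ∩ c).card 1 = 120) ∧
    (∑ c ∈ (blocks B).erase b, Nat.choose (b ∩ c).card 2 = 60) := by
  refine ⟨?_, ?_, ?_⟩
  · rw [sum_choose_inter hB hb 0 77 (fun J _ hJ =>
      card_blocksThrough_eq hB (j := 0) (by norm_num) (by rw [hα]; decide) (by decide) J hJ)]
    norm_num [Nat.choose]
  · rw [sum_choose_inter hB hb 1 21 (fun J _ hJ =>
      card_blocksThrough_eq hB (j := 1) (by norm_num) (by rw [hα]; decide) (by decide) J hJ)]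
    norm_num [Nat.choose]
  · rw [sum_choose_inter hB hb 2 5 (fun J _ hJ =>
      card_blocksThrough_eq hB (j := 2) (by norm_num) (by rw [hα]; decide) (by decide) J hJ)]
    norm_num [Nat.choose]


/-- In a Steiner system S(3, 6, 22), two distinct blocks intersect in 0 or 2 points. -/
theorem result {α : Type*} [Fintype α] [DecidableEq α] (hα : Fintype.card α = 22) {B : Set (Finset α)} (hB : Cfsg.IsSteinerSystem 3 6 B) {b c : Finset α} (hb : b ∈ B) (hc : c ∈ B) (hbc : b ≠ c) : (b ∩ c).card = 0 ∨ (b ∩ c).card = 2 := by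
  obtain ⟨h0, h1, h2⟩ := sums hα hB hb
  have hle : ∀ c ∈ (blocks B).erase b,
      2 * Nat.choose (b ∩ c).card 2 ≤ Nat.choose (b ∩ c).card 1 := by
    intro c hc
    rw [Finset.mem_erase, mem_blocks] at hc
    have hlt := card_inter_lt hB hb hc.2 (Ne.symm hc.1)
    exact (pointwise _ (by omega)).1
  have hsum : ∑ c ∈ (blocks B).erase b, (2 * Nat.choose (b ∩ c).card 2) =
      ∑ c ∈ (blocks B).erase b, Nat.choose (b ∩ c).card 1 := by
    rw [← Finset.mul_sum, h1, h2]; norm_num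
  have hpt := (Finset.sum_eq_sum_iff_of_le hle).1 hsum c
    (Finset.mem_erase.2 ⟨Ne.symm hbc, mem_blocks.2 hc⟩)
  have hlt := card_inter_lt hB hb hc hbc
  exact (pointwise _ (by omega)).2 hpt

end Cfsg.Agent.S0356
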