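import Cfsg.Statements.S0357
import Cfsg.Agent.Lib.Helper6_Steiner

set_option autoImplicit false
open Cfsg

namespace Cfsg.Agent.S0357

open Cfsg.Agent.Lib.Helper6_Steiner

theorem pointwise : ∀ m ≤ 4, (if m = 0 then 1 else 0) + Nat.choose m 1 + Nat.choose m 3 =
    Nat.choose m 0 + Nat.choose m 2 + Nat.choose m 4 := by
  decide

/-- the intersection sums for an `S(5, 6, 12)` -/
theorem sums {α : Type*} [Fintype α] [DecidableEq α] (hα : Fintype.card α = 12)
    {B : Set (Finset α)} (hB : Cfsg.IsSteinerSystem 5 6 B) {b : Finset α} (hb : b ∈ B) :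
    (∑ c ∈ (blocks B).erase b, Nat.choose (b ∩ c).card 0 = 131) ∧
    (∑ c ∈ (blocks B).erase b, Nat.choose (b ∩ c).card 1 = 390) ∧
    (∑ c ∈ (blocks B).erase b, Nat.choose (b ∩ c).card 2 = 435) ∧
    (∑ c ∈ (blocks B).erase b, Nat.choose (b ∩ c).card 3 = 220) ∧
    (∑ c ∈ (blocks B).erase b, Nat.choose (b ∩ c).card 4 = 45) := by
  refine ⟨?_, ?_, ?_, ?_, ?_⟩
  · rw [sum_choose_inter hB hb 0 132 (fun J _ hJ =>
      card_blocksThrough_eq hB (j := 0) (by norm_num) (by rw [hα]; decide) (by decide) J hJ)]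
    norm_num [Nat.choose]
  · rw [sum_choose_inter hB hb 1 66 (fun J _ hJ =>
      card_blocksThrough_eq hB (j := 1) (by norm_num) (by rw [hα]; decide) (by decide) J hJ)]
    norm_num [Nat.choose]
  · rw [sum_choose_inter hB hb 2 30 (fun J _ hJ =>
      card_blocksThrough_eq hB (j := 2) (by norm_num) (by rw [hα]; decide) (by decide) J hJ)]
    norm_num [Nat.choose]
  · rw [sum_choose_inter hB hb 3 12 (fun J _ hJ =>
      card_blocksThrough_eq hB (j := 3) (by norm_num) (by rw [hα]; decide) (by decide) J hJ)]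
    norm_num [Nat.choose]
  · rw [sum_choose_inter hB hb 4 4 (fun J _ hJ =>
      card_blocksThrough_eq hB (j := 4) (by norm_num) (by rw [hα]; decide) (by decide) J hJ)]
    norm_num [Nat.choose]


/-- In a Steiner system S(5, 6, 12), the complement of every block is again a block. -/
theorem result {α : Type*} [Fintype α] [DecidableEq α] (hα : Fintype.card α = 12) {B : Set (Finset α)} (hB : Cfsg.IsSteinerSystem 5 6 B) {b : Finset α} (hb : b ∈ B) : bᶜ ∈ B := by
  obtain ⟨h0, h1, h2, h3, h4⟩ := sums hα hB hb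
  have hsum : ∑ c ∈ (blocks B).erase b,
      ((if (b ∩ c).card = 0 then 1 else 0) + Nat.choose (b ∩ c).card 1 +
        Nat.choose (b ∩ c).card 3) =
      ∑ c ∈ (blocks B).erase b,
        (Nat.choose (b ∩ c).card 0 + Nat.choose (b ∩ c).card 2 + Nat.choose (b ∩ c).card 4) := by
    apply Finset.sum_congr rfl
    intro c hc
    rw [Finset.mem_erase, mem_blocks] at hc
    have hlt := card_inter_lt hB hb hc.2 (Ne.symm hc.1)
    exact pointwise _ (by omega)
  rw [Finset.sum_add_distrib, Finset.sum_add_distrib, Finset.sum_add_distrib,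
    Finset.sum_add_distrib, h0, h1, h2, h3, h4, Finset.sum_boole] at hsum
  simp only [Nat.cast_id] at hsum
  have hpos : 0 < (((blocks B).erase b).filter (fun c => (b ∩ c).card = 0)).card := by omega
  obtain ⟨c, hc⟩ := Finset.card_pos.1 hpos
  rw [Finset.mem_filter, Finset.mem_erase, mem_blocks, Finset.card_eq_zero,
    ← Finset.disjoint_iff_inter_eq_empty] at hc
  obtain ⟨⟨_, hcB⟩, hd⟩ := hc
  have hsub : c ⊆ bᶜ := by
    intro x hx
    rw [Finset.mem_compl]
    exact fun hxb => (Finset.disjoint_left.1 hd hxb) hx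
  have hcard : bᶜ.card ≤ c.card := by
    rw [Finset.card_compl, hα, hB.1 b hb, hB.1 c hcB]
  rw [← Finset.eq_of_subset_of_card_le hsub hcard]
  exact hcB

end Cfsg.Agent.S0357
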