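import Cfsg.Statements.S0359
import Cfsg.Agent.Lib.Helper26_GolaySets

set_option autoImplicit false
open Cfsg

namespace Cfsg.Agent.S0359

/-- The weight of every word of the length-24 code is one of 0, 8, 12, 16, 24. -/
theorem result (w : Cfsg.GolayPt → ZMod 2) (hw : w ∈ Cfsg.golayCode) : hammingNorm w = 0 ∨ hammingNorm w = 8 ∨ hammingNorm w = 12 ∨ hammingNorm w = 16 ∨ hammingNorm w = 24 := by
  have h0 : hammingNorm w = (Cfsg.support₂ w).card := rfl
  have hs : Cfsg.support₂ w ∈ Cfsg.supports (Cfsg.golayCode : Set (Cfsg.GolayPt → ZMod 2)) :=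
    ⟨w, hw, rfl⟩
  rw [h0]
  rcases Cfsg.Agent.Lib.Helper26_Golay.card_of_mem_supports hs with h | h | h | h | h
  · left; rw [h]; rfl
  · right; left; exact h
  · right; right; left; exact h
  · right; right; right; left; exact h
  · right; right; right; right; rw [h, Finset.card_univ]; decide

end Cfsg.Agent.S0359
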