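import Cfsg.Statements.S0373
import Cfsg.Agent.Lib.Helper7_M24

set_option autoImplicit false
open Cfsg

namespace Cfsg.Agent.S0373

open Cfsg.Agent.Lib.Helper7_M24

/-- Tables: the image of `qrWord t` is `qrWord (a t) + qrWord (b t) + qrWord (c t)` for `t ≠ 0`. -/
def aI : List (ZMod 23) := [0,4,9,7,3,1,10,9,1,5,3,2,7,2,3,4,8,6,6,7,1,2,6]
def bI : List (ZMod 23) := [0,10,11,16,19,9,13,11,14,18,8,5,11,5,4,10,15,8,15,12,18,13,16]
def cI : List (ZMod 23) := [0,19,14,17,20,14,21,12,22,22,20,18,12,21,19,13,20,15,17,16,22,21,17]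

set_option maxRecDepth 100000 in
theorem cubeTwist_table : ∀ t : ZMod 23, ∀ q : GolayPt,
    qrWord t q =
      if t = 0 then qrWord 0 (cubeTwistFun q) else
        qrWord (aI.getD t.val 0) (cubeTwistFun q) + qrWord (bI.getD t.val 0) (cubeTwistFun q)
          + qrWord (cI.getD t.val 0) (cubeTwistFun q) := by
  decide

theorem permWord_cubeTwist (t : ZMod 23) : permWord cubeTwist (qrWord t) ∈ golayCode := by
  have h : permWord cubeTwist (qrWord t) =
      if t = 0 then qrWord 0 else
        qrWord (aI.getD t.val 0) + qrWord (bI.getD t.val 0) + qrWord (cI.getD t.val 0) := by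
    funext p
    obtain ⟨q, rfl⟩ := cubeTwist.surjective p
    rw [permWord_apply, Equiv.symm_apply_apply]
    have hq : cubeTwist q = cubeTwistFun q := rfl
    rw [hq, cubeTwist_table t q]
    split_ifs <;> rfl
  rw [h]
  split_ifs
  · exact qrWord_mem _
  · exact golayCode.add_mem (golayCode.add_mem (qrWord_mem _) (qrWord_mem _)) (qrWord_mem _)

/-- The cube-twist permutation (squares t ↦ t^3/9, non-squares t ↦ 9t^3, extra point fixed) lies in the group of the length-24 code. -/
theorem result : Cfsg.cubeTwist ∈ Cfsg.M24 := by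
  apply mem_M24_of_gens
  exact permWord_cubeTwist

end Cfsg.Agent.S0373
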