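import Cfsg.Statements.S0374
import Cfsg.Agent.S0364
import Cfsg.Agent.S0370
import Cfsg.Agent.S0372
import Cfsg.Agent.S0373

set_option autoImplicit false
open Cfsg
open scoped Pointwise

namespace Cfsg.Agent.S0374

open Cfsg.Agent.Lib.Helper7_M24 Cfsg.Agent.Lib.Helper7_Bits Cfsg.Agent.Lib.Helper7_Perm
  Cfsg.Agent.Lib.Helper7_Code Cfsg.Agent.Lib.Helper7_Base

/-- The shift `x ↦ x + 1`. -/
abbrev shift : Equiv.Perm GolayPt := Equiv.optionCongr (Equiv.addRight (1 : ZMod 23))

/-- The subgroup generated by the three permutations. -/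
abbrev H : Subgroup (Equiv.Perm GolayPt) := Subgroup.closure {shift, projInv, cubeTwist}

theorem shift_mem : shift ∈ H := Subgroup.subset_closure (by simp)
theorem projInv_mem : projInv ∈ H := Subgroup.subset_closure (by simp)
theorem cubeTwist_mem : cubeTwist ∈ H := Subgroup.subset_closure (by simp)

theorem H_le : H ≤ M24 := by
  rw [Subgroup.closure_le]
  rintro x (rfl | rfl | rfl)
  · exact Cfsg.Agent.S0370.result
  · exact Cfsg.Agent.S0372.result
  · exact Cfsg.Agent.S0373.result

/-- Letters: `L < 23` is the `L`-th power of the shift, `23` is `projInv`, `24` is `cubeTwist`,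
anything else is the inverse of `cubeTwist`. -/
noncomputable def genPerm (L : ℕ) : Equiv.Perm GolayPt :=
  if L < 23 then shift ^ L else if L = 23 then projInv else if L = 24 then cubeTwist
  else cubeTwist⁻¹

theorem genPerm_mem (L : ℕ) : genPerm L ∈ H := by
  unfold genPerm
  split_ifs
  · exact H.pow_mem shift_mem _
  · exact projInv_mem
  · exact cubeTwist_mem
  · exact H.inv_mem cubeTwist_mem

/-- Images under `projInv`, `cubeTwist` and its inverse, in the `enc` numbering. -/
def gammaList : List ℕ := [23,22,11,15,17,9,19,13,20,5,16,2,21,7,18,3,10,4,14,6,8,12,1,0]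
def deltaList : List ℕ := [0,18,6,3,2,21,1,5,16,12,7,19,8,9,17,15,13,11,4,22,10,20,14,23]
def deltaInvList : List ℕ := [0,6,4,3,18,7,2,10,12,13,20,17,9,16,22,15,8,14,1,11,21,5,19,23]

/-- The action of a letter on point codes. -/
def applyLetter (L x : ℕ) : ℕ :=
  if L < 23 then (if x = 23 then 23 else (x + L) % 23)
  else if L = 23 then gammaList.getD x 0
  else if L = 24 then deltaList.getD x 0
  else deltaInvList.getD x 0

theorem shift_pow_apply : ∀ L : Fin 23, ∀ p : GolayPt,
    (shift ^ L.val) p = dec (if enc p = 23 then 23 else (enc p + L.val) % 23) := by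
  decide

theorem projInv_apply : ∀ p : GolayPt, projInv p = dec (gammaList.getD (enc p) 0) := by decide

theorem cubeTwist_apply : ∀ p : GolayPt, cubeTwistFun p = dec (deltaList.getD (enc p) 0) := by
  decide

theorem cubeTwist_inv_apply : ∀ p : GolayPt,
    p = cubeTwistFun (dec (deltaInvList.getD (enc p) 0)) := by
  decide

theorem genPerm_apply (L : ℕ) (p : GolayPt) : genPerm L p = dec (applyLetter L (enc p)) := by
  unfold genPerm applyLetter
  by_cases h1 : L < 23
  · rw [if_pos h1, if_pos h1]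
    exact shift_pow_apply ⟨L, h1⟩ p
  · rw [if_neg h1, if_neg h1]
    by_cases h2 : L = 23
    · rw [if_pos h2, if_pos h2]
      exact projInv_apply p
    · rw [if_neg h2, if_neg h2]
      by_cases h3 : L = 24
      · rw [if_pos h3, if_pos h3]
        exact cubeTwist_apply p
      · rw [if_neg h3, if_neg h3, Equiv.Perm.inv_eq_iff_eq]
        exact cubeTwist_inv_apply p

theorem list_lt : (∀ y : Fin 24, gammaList.getD y.val 0 < 24) ∧
    (∀ y : Fin 24, deltaList.getD y.val 0 < 24) ∧ (∀ y : Fin 24, deltaInvList.getD y.val 0 < 24) := by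
  decide

theorem applyLetter_lt (L y : ℕ) (hy : y < 24) : applyLetter L y < 24 := by
  unfold applyLetter
  split_ifs
  · norm_num
  · omega
  · exact list_lt.1 ⟨y, hy⟩
  · exact list_lt.2.1 ⟨y, hy⟩
  · exact list_lt.2.2 ⟨y, hy⟩

/-- The product of the letters of a word. -/
noncomputable def wordPerm (w : List ℕ) : Equiv.Perm GolayPt := (w.map genPerm).prod

theorem wordPerm_mem (w : List ℕ) : wordPerm w ∈ H := by
  apply Subgroup.list_prod_mem
  intro x hx
  rw [List.mem_map] at hx
  obtain ⟨L, _, rfl⟩ := hx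
  exact genPerm_mem L

/-- The image of a point code under a word. -/
def wordImage (w : List ℕ) (x : ℕ) : ℕ := w.foldr applyLetter x

theorem wordImage_lt (w : List ℕ) (x : ℕ) (hx : x < 24) : wordImage w x < 24 := by
  induction w with
  | nil => exact hx
  | cons L w ih => exact applyLetter_lt L _ ih

theorem wordPerm_apply (w : List ℕ) (p : GolayPt) :
    wordPerm w p = dec (wordImage w (enc p)) := by
  induction w with
  | nil => simp [wordPerm, wordImage, dec_enc]
  | cons L w ih =>
    have h1 : wordPerm (L :: w) = genPerm L * wordPerm w := by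
      simp [wordPerm]
    have h2 : wordImage (L :: w) (enc p) = applyLetter L (wordImage w (enc p)) := rfl
    rw [h1, Equiv.Perm.mul_apply, ih, genPerm_apply, h2, enc_dec _ (wordImage_lt w _ (enc_lt p))]

/-- Words for the stabilizer chain: `chainWords[j][k]` fixes the first `j` base points and maps
base point `j` to the point with code `k`. -/
def chainWords : List (List (List ℕ)) :=
[
  [[23], [1,23], [2,23], [3,23], [4,23], [5,23], [6,23], [7,23], [8,23], [9,23], [10,23], [11,23], [12,23], [13,23], [14,23], [15,23], [16,23], [17,23], [18,23], [19,23], [20,23], [21,23], [22,23], []],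
  [[], [1], [2], [3], [4], [5], [6], [7], [8], [9], [10], [11], [12], [13], [14], [15], [16], [17], [18], [19], [20], [21], [22], []],
  [[], [], [25,25], [2,24,5], [24,24], [10,25,9,24], [25], [10,25,9], [14,24,13], [9,24,22], [13,24,20], [18,24,7], [16,24,10], [14,24,13,25], [18,25,21], [20,25,3], [1,25,14], [3,24,21], [24], [7,24,8], [3,25,10], [10,24,16], [19,25,2], []],
  [[], [], [], [25,16,25,5], [18,24,7,24], [22,24,14,24,15], [9,24,7,25,15], [15,25,14,24,4], [11,25,8], [15,24,12], [25,11,24,9], [8,24,4,24,17], [21,24,1,24,3], [24,15,25,16], [24,7,25,13], [7,24,8,25], [9,24,11,24,17], [8,25,9,25,1], [19,24,11,24,10], [11,25,19,25,8], [10,24,16,25], [3,25,22,25,19], [21,25,9,25,10], []],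
  [[], [], [], [], [25,10,25,25,12], [6,24,2,25,8,25], [16,25,20,25,25,13], [25,4,25,10,24,9], [25,19,24,18], [14,25,13,24,19,24], [6,24,13,25,18], [9,25,2,24,15], [13,24,9,24,17,24], [25,25,17,25,1,25], [2,25,25,1,25,12], [5,25,4,24], [10,25,14,25,25,2], [25,11,25,2,24,2], [22,25,3,25,20,24,1], [24,22,24,6,24,24], [11,24,24,13,24], [8,25,21,24,14], [20,24,6,24,3,24,1], []]]

open Cfsg.Agent.S0366 in
/-- The test for the chain words. -/
def checkChain : Bool :=
  (List.range 5).all fun j => (List.range 24).all fun k =>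
    (baseCodes.take j).contains k ||
      (((List.range j).all fun i =>
          wordImage ((chainWords.getD j []).getD k []) (baseCodes.getD i 0) == baseCodes.getD i 0) &&
        (wordImage ((chainWords.getD j []).getD k []) (baseCodes.getD j 0) == k))

theorem checkChain_true : checkChain = true := by decide +kernel

open Cfsg.Agent.S0366 in
theorem chain_H (j : Fin 5) (p : GolayPt) (hp : ∀ i, i < j → p ≠ baseEmb i) :
    ∃ g ∈ H, (∀ i, i < j → g (baseEmb i) = baseEmb i) ∧ g (baseEmb j) = p := by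
  have h := checkChain_true
  unfold checkChain at h
  rw [List.all_eq_true] at h
  have h1 := h j.val (List.mem_range.mpr j.isLt)
  rw [List.all_eq_true] at h1
  have h2 := h1 (enc p) (List.mem_range.mpr (enc_lt p))
  rw [Bool.or_eq_true] at h2
  rcases h2 with h2 | h2
  · exfalso
    rw [List.contains_iff_mem, List.mem_take_iff_getElem] at h2
    obtain ⟨i, hi, hi2⟩ := h2
    have hij : i < j.val := (lt_min_iff.mp hi).1
    have hi5 : i < 5 := lt_trans hij j.isLt
    apply hp ⟨i, hi5⟩ hij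
    apply enc_injective
    rw [enc_baseEmb, ← hi2]
    simp [List.getD_eq_getElem?_getD, List.getElem?_eq_getElem (lt_min_iff.mp hi).2]
  · rw [Bool.and_eq_true, List.all_eq_true, beq_iff_eq] at h2
    obtain ⟨hfix, hmap⟩ := h2
    refine ⟨wordPerm ((chainWords.getD j.val []).getD (enc p) []), wordPerm_mem _,
      fun i hi => ?_, ?_⟩
    · have := hfix i.val (List.mem_range.mpr hi)
      rw [beq_iff_eq] at this
      rw [wordPerm_apply, enc_baseEmb, this, ← enc_baseEmb, dec_enc]
    · rw [wordPerm_apply, enc_baseEmb, hmap, dec_enc]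

/-- Words for the 48 elements of the pointwise stabilizer of the five base points, indexed by the
images `b` of `5` and `c` of `4`. -/
def f5Words : List (ℕ × ℕ × List ℕ) :=
  [(5,4,[19,4]),
   (5,6,[10,25,2,25,3,12,24,18,25,20]),
   (5,7,[19,24,22,24,2,25,12,24]),
   (5,8,[14,25,2,24,1,7,25,25,16]),
   (5,9,[17,25,1,23,17,25,1,23]),
   (5,10,[13,25,16,24,4,24,7,24,14,24]),
   (5,11,[19,24,22,25,18,12,24,21,24,14]),
   (5,12,[2,25,20,23,2,24,5,23]),
   (5,13,[6,25,25,18,25,8,24,20]),
   (5,15,[8,25,15,23,13,24,20,23]),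
   (5,16,[5,25,8,24,6,25,4,25,11]),
   (5,18,[5,24,21,23,19,6,25,20,23,21]),
   (5,19,[3,25,3,24,8,25,14,15,24]),
   (5,20,[19,25,25,12,19,24,1,3,24,6]),
   (5,21,[18,24,10,25,17,25,25,1,24,12]),
   (5,22,[2,25,11,24,24,9,9,20,25,18]),
   (14,4,[14,25,6,24,20,24,7,25]),
   (14,6,[19,25,16,9,25,19,25,22,3]),
   (14,7,[15,25,5,24,10,25,5,24]),
   (14,8,[9,24,12,24,19,5,24,12,25,14]),
   (14,9,[22,24,20,25,1,25,19,25]),
   (14,10,[20,24,6,25,5,14,24,21,25,18]),
   (14,11,[19,24,18,23,1,25,14,25,23]),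
   (14,12,[9,24,13,25,8,8,25,8,25,17]),
   (14,13,[20,24,2,25,22,12,25,5]),
   (14,15,[13,25,10,24,8,9,24,3,25,15]),
   (14,16,[8,24,15,10,25,15,25,11]),
   (14,18,[14,24,24,17,24,12,8,25,14,25]),
   (14,19,[1,24,17,25,4,18,24,24,5,24,15]),
   (14,20,[15,25,10,20,6,24,15,24,17]),
   (14,21,[25,19,25,15,9,21,25,7,24,11]),
   (14,22,[1,24,4,21,9,24,15,25,10]),
   (17,4,[19,24,5,7,24,21,25,2]),
   (17,6,[16,24,6,25,20,8,25,14,24,11]),
   (17,7,[15,24,6,25,22,18,25,25,21]),
   (17,8,[24,4,25,8,24,15,22,25,16]),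
   (17,9,[13,24,9,24,17,19,24,2,16]),
   (17,10,[10,24,2,25,6,24,9,24,12]),
   (17,11,[20,24,6,25,2,24,20,25,15,25]),
   (17,12,[15,24,9,24,1,24,17,24,5,15]),
   (17,13,[13,24,7,10,14,25,12,25,22]),
   (17,15,[21,24,20,25,19,3,24,15,25,7]),
   (17,16,[21,25,11,25,19,25,16,25]),
   (17,18,[21,24,4,24,21,24,4]),
   (17,19,[6,25,8,25,10,24,8]),
   (17,20,[6,24,1,24,15,14,25,11,25,22]),
   (17,21,[11,24,17,24,1,24,9,25,9,25]),
   (17,22,[9,24,9,25,17,24,22,16,24])]

/-- Test for the words of the five point stabilizer. -/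
def checkF5 : Bool :=
  [5, 14, 17].all fun b =>
    [4, 6, 7, 8, 9, 10, 11, 12, 13, 15, 16, 18, 19, 20, 21, 22].all fun c =>
      f5Words.any fun e => e.1 == b && e.2.1 == c &&
        ([23, 0, 1, 2, 3].all fun i => wordImage e.2.2 i == i) &&
        (wordImage e.2.2 5 == b) && (wordImage e.2.2 4 == c)

theorem checkF5_true : checkF5 = true := by decide +kernel

open Cfsg.Agent.S0364 in
theorem exists_word (b c : ℕ) (hb : b ∈ [5, 14, 17])
    (hc : c ∈ [4, 6, 7, 8, 9, 10, 11, 12, 13, 15, 16, 18, 19, 20, 21, 22]) :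
    ∃ g ∈ H, (∀ p ∈ baseSet, g p = p) ∧ g (dec 5) = dec b ∧ g (dec 4) = dec c := by
  have h := checkF5_true
  unfold checkF5 at h
  rw [List.all_eq_true] at h
  have h1 := h b hb
  rw [List.all_eq_true] at h1
  have h2 := h1 c hc
  rw [List.any_eq_true] at h2
  obtain ⟨e, _, he⟩ := h2
  simp only [Bool.and_eq_true, beq_iff_eq, List.all_eq_true] at he
  obtain ⟨⟨⟨⟨_, _⟩, hfix⟩, h5⟩, h4⟩ := he
  refine ⟨wordPerm e.2.2, wordPerm_mem _, fun p hp => ?_, ?_, ?_⟩
  · rw [mem_baseSet_iff] at hp
    rw [wordPerm_apply, hfix _ (base5_cases p hp), dec_enc]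
  · rw [wordPerm_apply, enc_dec 5 (by norm_num), h5]
  · rw [wordPerm_apply, enc_dec 4 (by norm_num), h4]

open Cfsg.Agent.S0366 in
theorem baseSet_cases : ∀ p : GolayPt, Cfsg.Agent.S0364.baseMask5.testBit (enc p) = true →
    ∃ i : Fin 5, p = baseEmb i := by decide

open Cfsg.Agent.S0364 Cfsg.Agent.S0366 in
/-- The group of the length-24 code is generated by x ↦ x+1, x ↦ -1/x and the cube-twist permutation. -/
theorem result : Subgroup.closure {Equiv.optionCongr (Equiv.addRight (1 : ZMod 23)), Cfsg.projInv, Cfsg.cubeTwist} = Cfsg.M24 := by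
  apply le_antisymm H_le
  intro g hg
  -- move the base tuple back with an element of `H`
  let x : Fin 5 ↪ GolayPt := baseEmb.trans g.toEmbedding
  obtain ⟨h, hh, hhx⟩ := chain_exists H 5 baseEmb chain_H x 5 le_rfl
  have hk : h⁻¹ * g ∈ M24 := M24.mul_mem (M24.inv_mem (H_le hh)) hg
  have hkfix : ∀ p ∈ baseSet, (h⁻¹ * g) p = p := by
    intro p hp
    rw [mem_baseSet_iff] at hp
    obtain ⟨i, rfl⟩ := baseSet_cases p hp
    rw [Equiv.Perm.mul_apply, Equiv.Perm.inv_eq_iff_eq, hhx i i.isLt]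
    rfl
  let kF : F5 := ⟨⟨h⁻¹ * g, hk⟩, (mem_F5_iff _).mpr hkfix⟩
  have hphi : phi kF ∈ Set.range phi := ⟨kF, rfl⟩
  rw [range_phi, Finset.mem_coe, targets, Finset.mem_product, List.mem_toFinset,
    List.mem_toFinset, List.mem_map, List.mem_map] at hphi
  obtain ⟨⟨b, hb, hb2⟩, ⟨c, hc, hc2⟩⟩ := hphi
  obtain ⟨u, hu, hufix, hu5, hu4⟩ := exists_word b c hb hc
  let uF : F5 := ⟨⟨u, H_le hu⟩, (mem_F5_iff _).mpr hufix⟩
  have heq : kF = uF := by
    apply phi_injective
    show ((h⁻¹ * g) (dec 5), (h⁻¹ * g) (dec 4)) = (u (dec 5), u (dec 4))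
    rw [hu5, hu4]
    exact Prod.ext hb2.symm hc2.symm
  have hku : h⁻¹ * g = u := congrArg (fun z : F5 => ((z : M24) : Equiv.Perm GolayPt)) heq
  have : g = h * u := by rw [← hku]; group
  rw [this]
  exact H.mul_mem hh hu

end Cfsg.Agent.S0374
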