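import Cfsg.Statements.S0383
import Cfsg.Agent.S0388

set_option autoImplicit false
open scoped Pointwise
open Cfsg

namespace Cfsg.Agent.S0383

open MulAction Cfsg.Agent.Lib.Helper7_Simple

variable (d : Finset GolayPt)

/-- The dodecad stabiliser. -/
abbrev M12 : Subgroup M24 := stabilizer M24 d

/-- The points of the dodecad. -/
abbrev Pts : Type := {q : GolayPt // q ∈ d}

theorem smul_mem (g : M12 d) (q : Pts d) : ((g : M24) : Equiv.Perm GolayPt) q ∈ d := by
  have hgd : ((g : M24) : Equiv.Perm GolayPt) • d = d := g.2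
  have := Finset.smul_mem_smul_finset (a := ((g : M24) : Equiv.Perm GolayPt)) q.2
  rw [hgd] at this
  exact this

/-- The action on the points of the dodecad. -/
instance actionPts : MulAction (M12 d) (Pts d) where
  smul g q := ⟨((g : M24) : Equiv.Perm GolayPt) q, smul_mem d g q⟩
  one_smul q := Subtype.ext rfl
  mul_smul g h q := Subtype.ext rfl

theorem card_pts (hd : d ∈ dodecads) : Nat.card (Pts d) = 12 := by
  rw [Nat.card_eq_fintype_card, Fintype.card_coe, hd.2]

theorem faithful (hd : d ∈ dodecads) : FaithfulSMul (M12 d) (Pts d) where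
  eq_of_smul_eq_smul := by
    intro g h hgh
    have hagree : ∀ q ∈ d, ((g : M24) : Equiv.Perm GolayPt) q = ((h : M24) : Equiv.Perm GolayPt) q :=
      fun q hq => congrArg Subtype.val (hgh ⟨q, hq⟩)
    obtain ⟨x, hx⟩ := Cfsg.Agent.S0367.exists_emb_of_card d (by rw [hd.2]; norm_num)
    let y : Fin 5 ↪ GolayPt := x.trans ((g : M24) : Equiv.Perm GolayPt).toEmbedding
    have hy : ∀ i, y i ∈ d := fun i => smul_mem d g ⟨x i, hx i⟩
    obtain ⟨u, _, huniq⟩ := Cfsg.Agent.S0384.result d hd x y hx hy
    have h1 := huniq g (fun i => rfl)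
    have h2 := huniq h (fun i => (hagree (x i) (hx i)).symm)
    exact h1.trans h2.symm

theorem two_transitive (hd : d ∈ dodecads) : IsMultiplyPretransitive (M12 d) (Pts d) 2 := by
  rw [isMultiplyPretransitive_iff]
  intro x y
  obtain ⟨g, hg, hgd, hgx⟩ := Cfsg.Agent.S0388.exists_map_le d hd 2 (by norm_num)
    (x.trans (Function.Embedding.subtype _)) (y.trans (Function.Embedding.subtype _))
    (fun i => (x i).2) (fun i => (y i).2)
  refine ⟨⟨⟨g, hg⟩, hgd⟩, ?_⟩
  apply Function.Embedding.ext
  intro i
  apply Subtype.ext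
  exact hgx i

/-- The point stabiliser inside the dodecad stabiliser is (a copy of) the group of `S0388`. -/
theorem stabilizer_eq (p : GolayPt) (hp : p ∈ d) :
    stabilizer (M12 d) (⟨p, hp⟩ : Pts d) =
      (stabilizer M24 d ⊓ stabilizer M24 p).subgroupOf (M12 d) := by
  ext g
  rw [mem_stabilizer_iff, Subgroup.mem_subgroupOf, Subgroup.mem_inf]
  constructor
  · intro h
    exact ⟨g.2, congrArg Subtype.val h⟩
  · intro h
    exact Subtype.ext h.2

/-- A dodecad stabiliser in the group of the length-24 code is simple. -/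
theorem result (d : Finset Cfsg.GolayPt) (hd : d ∈ Cfsg.dodecads) : IsSimpleGroup (MulAction.stabilizer Cfsg.M24 d) := by
  haveI := faithful d hd
  haveI := two_transitive d hd
  have hne : d.Nonempty := by
    rw [← Finset.card_pos, hd.2]; norm_num
  obtain ⟨p, hp⟩ := hne
  have hsimple : IsSimpleGroup (stabilizer (M12 d) (⟨p, hp⟩ : Pts d)) := by
    rw [stabilizer_eq d p hp]
    haveI := Cfsg.Agent.S0388.result d hd p hp
    exact (Subgroup.subgroupOfEquivOfLe
      (inf_le_left : stabilizer M24 d ⊓ stabilizer M24 p ≤ stabilizer M24 d)).isSimpleGroup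
  exact isSimpleGroup_of_two_pretransitive (G := M12 d) (α := Pts d) ⟨p, hp⟩ hsimple
    (r := 2) (s := 3) (by norm_num) (by norm_num) (by norm_num)
    (by rw [card_pts d hd]; norm_num) (by rw [card_pts d hd]; norm_num)

end Cfsg.Agent.S0383
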