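import Cfsg.Statements.S0385
import Cfsg.Agent.Lib.Helper91_M24Stab

set_option autoImplicit false
open scoped Pointwise
open Cfsg
open Cfsg.Agent.Lib.Helper26_Golay
open Cfsg.Agent.Lib.Helper91_M24Stab

namespace Cfsg.Agent.S0385

/-- no octad meets the base dodecad in a number of points other than 2, 4, 6 -/
theorem count_bad_base :
    (octFinset.filter (fun z => ¬ ((z ∩ dod0).card = 2 ∨ (z ∩ dod0).card = 4 ∨ (z ∩ dod0).card = 6))).card = 0 := by
  rw [card_filter_octFinset _ (fun n => !((pop (n &&& dodAt 0) == 2) || (pop (n &&& dodAt 0) == 4) || (pop (n &&& dodAt 0) == 6)))]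
  · decide +kernel
  · intro n hn
    have hlt := lt_of_isCode ((mem_octList_iff n).mp hn).1
    rw [card_inter_eq_pop, enc_dod0, enc_dec n hlt]
    simp only [Bool.not_eq_true', Bool.or_eq_false_iff, beq_eq_false_iff_ne, ne_eq, not_or, and_assoc]

theorem card_inter_base {o : Finset GolayPt} (ho : o ∈ octads) :
    (o ∩ dod0).card = 2 ∨ (o ∩ dod0).card = 4 ∨ (o ∩ dod0).card = 6 := by
  by_contra h
  have h1 : o ∈ octFinset.filter (fun z => ¬ ((z ∩ dod0).card = 2 ∨ (z ∩ dod0).card = 4 ∨ (z ∩ dod0).card = 6)) := by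
    rw [Finset.mem_filter, mem_octFinset_iff]
    exact ⟨ho, h⟩
  have h2 := Finset.card_pos.mpr ⟨o, h1⟩
  rw [count_bad_base] at h2
  exact lt_irrefl _ h2

theorem card_inter {d : Finset GolayPt} (hd : d ∈ dodecads) {o : Finset GolayPt} (ho : o ∈ octads) :
    (o ∩ d).card = 2 ∨ (o ∩ d).card = 4 ∨ (o ∩ d).card = 6 := by
  obtain ⟨g, hg, rfl⟩ := exists_smul_dod0_eq hd
  have h1 := card_inter_base (smul_mem_octads (M24.inv_mem hg) ho)
  rw [← card_inter_smul g, smul_inv_smul] at h1
  exact h1

theorem card_subtype_eq (d o : Finset GolayPt) :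
    (Finset.subtype (fun p => p ∈ d) o).card = (o ∩ d).card := by
  rw [Finset.card_subtype, Finset.filter_mem_eq_inter]

theorem subset_subtype_iff (d o : Finset GolayPt) (s : Finset {p : GolayPt // p ∈ d}) :
    s ⊆ Finset.subtype (fun p => p ∈ d) o ↔ s.map (Function.Embedding.subtype _) ⊆ o := by
  constructor
  · intro h x hx
    rw [Finset.mem_map] at hx
    obtain ⟨y, hy, rfl⟩ := hx
    have := h hy
    rw [Finset.mem_subtype] at this
    exact this
  · intro h y hy
    rw [Finset.mem_subtype]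
    exact h (Finset.mem_map_of_mem _ hy)

/-- The 6-point intersections of octads with a fixed dodecad form a Steiner system S(5, 6, 12) on the dodecad. -/
theorem result (d : Finset Cfsg.GolayPt) (hd : d ∈ Cfsg.dodecads) : Cfsg.IsSteinerSystem 5 6 {h : Finset {p : Cfsg.GolayPt // p ∈ d} | ∃ o ∈ Cfsg.octads, (o ∩ d).card = 6 ∧ h = Finset.subtype (fun p => p ∈ d) o} := by
  constructor
  · rintro b ⟨o, ho, h6, rfl⟩
    rw [card_subtype_eq, h6]
  · intro s hs
    set S : Finset GolayPt := s.map (Function.Embedding.subtype _) with hS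
    have hS5 : S.card = 5 := by rw [hS, Finset.card_map, hs]
    have hSd : S ⊆ d := by
      intro x hx
      rw [hS, Finset.mem_map] at hx
      obtain ⟨y, _, rfl⟩ := hx
      exact y.2
    obtain ⟨o, ⟨ho, hSo⟩, huniq⟩ := exists_unique_octad S hS5
    have h6 : (o ∩ d).card = 6 := by
      have h5 : 5 ≤ (o ∩ d).card := by
        rw [← hS5]
        exact Finset.card_le_card (Finset.subset_inter hSo hSd)
      rcases card_inter hd ho with h | h | h <;> omega
    refine ⟨Finset.subtype (fun p => p ∈ d) o, ⟨⟨o, ho, h6, rfl⟩, ?_⟩, ?_⟩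
    · rw [subset_subtype_iff]
      exact hSo
    · rintro b ⟨⟨o', ho', _, rfl⟩, hsb⟩
      rw [subset_subtype_iff] at hsb
      have := huniq o' ⟨ho', hsb⟩
      rw [this]

end Cfsg.Agent.S0385
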