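import Cfsg.Statements.S0386
import Cfsg.Agent.Lib.Helper91_M24Stab

set_option autoImplicit false
open scoped Pointwise
open Cfsg
open Cfsg.Agent.Lib.Helper26_Golay
open Cfsg.Agent.Lib.Helper91_M24Stab

namespace Cfsg.Agent.S0386

theorem count_base (k : ℕ) :
    (octFinset.filter (fun z => (z ∩ dod0).card = k)).card =
      countOct (fun n => pop (n &&& dodAt 0) == k) := by
  rw [card_filter_octFinset _ (fun n => pop (n &&& dodAt 0) == k)]
  intro n hn
  have hlt := lt_of_isCode ((mem_octList_iff n).mp hn).1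
  rw [card_inter_eq_pop, enc_dod0, enc_dec n hlt, beq_iff_eq]

theorem count_transport {h : Equiv.Perm GolayPt} (hh : h ∈ M24) (k : ℕ) :
    {o : Finset GolayPt | o ∈ octads ∧ (o ∩ (h • dod0)).card = k}.ncard =
      (octFinset.filter (fun z => (z ∩ dod0).card = k)).card := by
  have h1 : {o : Finset GolayPt | o ∈ octads ∧ (o ∩ (h • dod0)).card = k} =
      ↑(octFinset.filter (fun o => (o ∩ (h • dod0)).card = k)) := by
    ext x
    simp only [Set.mem_ofPred_eq, Finset.coe_filter, mem_octFinset_iff]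
  rw [h1, Set.ncard_coe_finset]
  apply card_filter_octFinset_smul hh
  intro z _
  rw [card_inter_smul]

/-- For a fixed dodecad, 132 octads meet it in 6 points, 132 in 2 points and 495 in 4 points. -/
theorem result (d : Finset Cfsg.GolayPt) (hd : d ∈ Cfsg.dodecads) : {o : Finset Cfsg.GolayPt | o ∈ Cfsg.octads ∧ (o ∩ d).card = 6}.ncard = 132 ∧ {o : Finset Cfsg.GolayPt | o ∈ Cfsg.octads ∧ (o ∩ d).card = 2}.ncard = 132 ∧ {o : Finset Cfsg.GolayPt | o ∈ Cfsg.octads ∧ (o ∩ d).card = 4}.ncard = 495 := by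
  obtain ⟨g, hg, rfl⟩ := exists_smul_dod0_eq hd
  refine ⟨?_, ?_, ?_⟩
  · rw [count_transport hg 6, count_base 6]; decide +kernel
  · rw [count_transport hg 2, count_base 2]; decide +kernel
  · rw [count_transport hg 4, count_base 4]; decide +kernel

end Cfsg.Agent.S0386
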