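import Cfsg.Statements.S1568
import Cfsg.Agent.S0395

set_option autoImplicit false
open Cfsg

namespace Cfsg.Agent.S1568

open Cfsg.Agent.Lib.Helper7_M24 Cfsg.Agent.Lib.Helper7_Leech Cfsg.Agent.Lib.Helper92_LeechParity
open Cfsg.Agent.S0394 Cfsg.Agent.Lib.Helper92_LeechShapes

/-! ### coordinates of the vectors of the families -/

theorem EvFam_vals (w q : ℕ) (x : GolayPt → ℤ) (hx : x ∈ EvFam w q) (j : GolayPt) :
    x j = 0 ∨ x j = 2 ∨ x j = -2 ∨ x j = 4 ∨ x j = -4 := by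
  obtain ⟨P, N, Q, N', hok, _, _, rfl⟩ := hx
  rcases ev_val P N Q N' hok.disj j with ⟨_, _, _, e⟩ | ⟨_, _, _, e⟩ | ⟨_, _, _, e⟩ |
    ⟨_, _, _, e⟩ | ⟨_, _, e⟩ <;> rw [e] <;> decide

theorem EvFam_vals0 (w : ℕ) (x : GolayPt → ℤ) (hx : x ∈ EvFam w 0) (j : GolayPt) :
    x j = 0 ∨ x j = 2 ∨ x j = -2 := by
  obtain ⟨P, N, Q, N', hok, _, hQ, rfl⟩ := hx
  rw [Finset.card_eq_zero] at hQ
  rcases ev_val P N Q N' hok.disj j with ⟨_, _, _, e⟩ | ⟨_, _, _, e⟩ | ⟨_, h, _, _⟩ |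
    ⟨_, h, _, _⟩ | ⟨_, _, e⟩
  · right; left; exact e
  · right; right; exact e
  · rw [hQ] at h; exact absurd h (Finset.notMem_empty j)
  · rw [hQ] at h; exact absurd h (Finset.notMem_empty j)
  · left; exact e

theorem EvFam_four (w q : ℕ) (hq : 0 < q) (x : GolayPt → ℤ) (hx : x ∈ EvFam w q) :
    ∃ i, |x i| = 4 := by
  obtain ⟨P, N, Q, N', hok, _, hQ, rfl⟩ := hx
  have hne : Q.Nonempty := by rw [← Finset.card_pos, hQ]; exact hq
  obtain ⟨i, hi⟩ := hne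
  refine ⟨i, ?_⟩
  rcases ev_val P N Q N' hok.disj i with ⟨_, h, _, _⟩ | ⟨_, h, _, _⟩ | ⟨_, _, _, e⟩ |
    ⟨_, _, _, e⟩ | ⟨_, h, _⟩
  · exact absurd hi h
  · exact absurd hi h
  · rw [e]; rfl
  · rw [e]; rfl
  · exact absurd hi h

theorem OdFam_vals (a b : ℕ) (x : GolayPt → ℤ) (hx : x ∈ OdFam a b) :
    ∃ T5 T3 : Finset GolayPt, T5.card = a ∧ T3.card = b ∧
      ∀ j, (j ∈ T5 → |x j| = 5) ∧ (j ∈ T3 → |x j| = 3) ∧ (j ∉ T5 → j ∉ T3 → |x j| = 1) := by
  obtain ⟨u, T5, T3, _, hd, h5, h3, rfl⟩ := hx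
  refine ⟨T5, T3, h5, h3, fun j => ?_⟩
  rcases od_val u T5 T3 hd j with ⟨h1, h2, e⟩ | ⟨h1, h2, e⟩ | ⟨h1, h2, e⟩ <;>
    rcases bs_cases u j with ⟨_, b'⟩ | ⟨_, b'⟩ <;> rw [e, b'] <;>
    refine ⟨fun m => ?_, fun m => ?_, fun m m' => ?_⟩ <;>
    first
      | rfl
      | exact absurd m h1
      | exact absurd m h2
      | exact absurd h1 m
      | exact absurd h2 m'

/-! ### the four sets of the census -/

theorem abs_eq_cases (a : ℤ) (n : ℤ) (h : |a| = n) : a = n ∨ a = -n := by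
  rcases _root_.abs_cases a with ⟨h1, _⟩ | ⟨h1, _⟩
  · left; omega
  · right; omega

theorem set1 : {x : GolayPt → ℤ | x ∈ leechLattice ∧ sqNorm x = 48 ∧
    ∀ i, x i = 0 ∨ x i = 2 ∨ x i = -2} = EvFam 12 0 := by
  ext x
  constructor
  · rintro ⟨hx, hn, hv⟩
    rcases Cfsg.Agent.S0395.classify x hx hn with h | h | h | h
    · exact h
    · exfalso
      obtain ⟨i, hi⟩ := EvFam_four 8 1 (by decide) x h
      rcases abs_eq_cases (x i) 4 hi with h4 | h4 <;> rcases hv i with h' | h' | h' <;> omega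
    · exfalso
      have := OdFam_odd 1 0 x h none
      rcases hv none with h' | h' | h' <;> rw [h'] at this <;> exact this (by decide)
    · exfalso
      have := OdFam_odd 0 3 x h none
      rcases hv none with h' | h' | h' <;> rw [h'] at this <;> exact this (by decide)
  · intro h
    have := EvFam_sub 12 0 x h
    exact ⟨this.1, by rw [this.2]; rfl, EvFam_vals0 12 x h⟩

theorem set2 : {x : GolayPt → ℤ | x ∈ leechLattice ∧ sqNorm x = 48 ∧
    ∃ i j k, i ≠ j ∧ j ≠ k ∧ i ≠ k ∧ |x i| = 3 ∧ |x j| = 3 ∧ |x k| = 3} = OdFam 0 3 := by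
  ext x
  constructor
  · rintro ⟨hx, hn, i, j, k, _, _, _, hi, _, _⟩
    rcases Cfsg.Agent.S0395.classify x hx hn with h | h | h | h
    · exfalso
      have := EvFam_even 12 0 x h i
      rcases abs_eq_cases (x i) 3 hi with h3 | h3 <;> omega
    · exfalso
      have := EvFam_even 8 1 x h i
      rcases abs_eq_cases (x i) 3 hi with h3 | h3 <;> omega
    · exfalso
      obtain ⟨T5, T3, _, h3, hv⟩ := OdFam_vals 1 0 x h
      rw [Finset.card_eq_zero] at h3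
      have hi3 : i ∉ T3 := by rw [h3]; exact Finset.notMem_empty i
      by_cases hi5 : i ∈ T5
      · have := (hv i).1 hi5; omega
      · have := (hv i).2.2 hi5 hi3; omega
    · exact h
  · intro h
    have hs := OdFam_sub 0 3 (by decide) x h
    refine ⟨hs.1, by rw [hs.2]; rfl, ?_⟩
    obtain ⟨T5, T3, _, h3, hv⟩ := OdFam_vals 0 3 x h
    rw [Finset.card_eq_three] at h3
    obtain ⟨i, j, k, hij, hik, hjk, rfl⟩ := h3
    refine ⟨i, j, k, hij, hjk, hik, (hv i).2.1 (by simp), (hv j).2.1 (by simp),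
      (hv k).2.1 (by simp)⟩

theorem set3 : {x : GolayPt → ℤ | x ∈ leechLattice ∧ sqNorm x = 48 ∧ ∃ i, |x i| = 4} =
    EvFam 8 1 := by
  ext x
  constructor
  · rintro ⟨hx, hn, i, hi⟩
    rcases Cfsg.Agent.S0395.classify x hx hn with h | h | h | h
    · exfalso
      rcases abs_eq_cases (x i) 4 hi with h4 | h4 <;>
        rcases EvFam_vals0 12 x h i with h' | h' | h' <;> omega
    · exact h
    · exfalso
      have := OdFam_odd 1 0 x h i
      rcases abs_eq_cases (x i) 4 hi with h4 | h4 <;> omega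
    · exfalso
      have := OdFam_odd 0 3 x h i
      rcases abs_eq_cases (x i) 4 hi with h4 | h4 <;> omega
  · intro h
    have hs := EvFam_sub 8 1 x h
    exact ⟨hs.1, by rw [hs.2]; rfl, EvFam_four 8 1 (by decide) x h⟩

theorem set4 : {x : GolayPt → ℤ | x ∈ leechLattice ∧ sqNorm x = 48 ∧ ∃ i, |x i| = 5} =
    OdFam 1 0 := by
  ext x
  constructor
  · rintro ⟨hx, hn, i, hi⟩
    rcases Cfsg.Agent.S0395.classify x hx hn with h | h | h | h
    · exfalso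
      have := EvFam_even 12 0 x h i
      rcases abs_eq_cases (x i) 5 hi with h5 | h5 <;> omega
    · exfalso
      have := EvFam_even 8 1 x h i
      rcases abs_eq_cases (x i) 5 hi with h5 | h5 <;> omega
    · exact h
    · exfalso
      obtain ⟨T5, T3, h5, _, hv⟩ := OdFam_vals 0 3 x h
      rw [Finset.card_eq_zero] at h5
      have hi5 : i ∉ T5 := by rw [h5]; exact Finset.notMem_empty i
      by_cases hi3 : i ∈ T3
      · have := (hv i).2.1 hi3; omega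
      · have := (hv i).2.2 hi5 hi3; omega
  · intro h
    have hs := OdFam_sub 1 0 (by decide) x h
    refine ⟨hs.1, by rw [hs.2]; rfl, ?_⟩
    obtain ⟨T5, T3, h5, _, hv⟩ := OdFam_vals 1 0 x h
    have hne : T5.Nonempty := by rw [← Finset.card_pos, h5]; decide
    obtain ⟨i, hi⟩ := hne
    exact ⟨i, (hv i).1 hi⟩

theorem result : {x : Cfsg.GolayPt → ℤ | x ∈ Cfsg.leechLattice ∧ Cfsg.sqNorm x = 48 ∧ ∀ i, x i = 0 ∨ x i = 2 ∨ x i = -2}.ncard = 5275648 ∧ {x : Cfsg.GolayPt → ℤ | x ∈ Cfsg.leechLattice ∧ Cfsg.sqNorm x = 48 ∧ ∃ i j k, i ≠ j ∧ j ≠ k ∧ i ≠ k ∧ |x i| = 3 ∧ |x j| = 3 ∧ |x k| = 3}.ncard = 8290304 ∧ {x : Cfsg.GolayPt → ℤ | x ∈ Cfsg.leechLattice ∧ Cfsg.sqNorm x = 48 ∧ ∃ i, |x i| = 4}.ncard = 3108864 ∧ {x : Cfsg.GolayPt → ℤ | x ∈ Cfsg.leechLattice ∧ Cfsg.sqNorm x = 48 ∧ ∃ i, |x i| = 5}.ncard = 98304 := by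
  refine ⟨?_, ?_, ?_, ?_⟩
  · rw [set1]; exact Cfsg.Agent.S0395.card_12_0
  · rw [set2]; exact Cfsg.Agent.S0395.card_0_3
  · rw [set3]; exact Cfsg.Agent.S0395.card_8_1
  · rw [set4]; exact Cfsg.Agent.S0395.card_1_0

end Cfsg.Agent.S1568
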