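import Cfsg.Statements.S0396
import Cfsg.Agent.S1568

set_option autoImplicit false
set_option linter.constructorNameAsVariable false
open Cfsg

namespace Cfsg.Agent.S0396

open Cfsg.Agent.Lib.Helper7_M24 Cfsg.Agent.Lib.Helper7_Leech Cfsg.Agent.Lib.Helper92_LeechParity
open Cfsg.Agent.S0394 Cfsg.Agent.Lib.Helper92_LeechShapes

/-! ### code words of weight 16 and 0 -/

/-- The complements of the octads. -/
def W16 : Finset (Finset GolayPt) := Cfsg.Agent.Lib.Helper26_Golay.octFinset.image compl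

theorem W16_card : W16.card = 759 := by
  unfold W16
  rw [Finset.card_image_of_injective _ compl_injective,
    Cfsg.Agent.Lib.Helper26_Golay.octFinset_card]

theorem W16_spec (P : Finset GolayPt) :
    P ∈ W16 ↔ (P ∈ supports (golayCode : Set (GolayPt → ZMod 2)) ∧ P.card = 16) := by
  unfold W16
  rw [Finset.mem_image]
  constructor
  · rintro ⟨O, hO, rfl⟩
    rw [octFinset_spec] at hO
    refine ⟨Cfsg.Agent.Lib.Helper26_Golay.supports_compl hO.1, ?_⟩
    rw [Finset.card_compl, card_golayPt, hO.2]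
  · rintro ⟨h1, h2⟩
    refine ⟨Pᶜ, ?_, compl_compl P⟩
    rw [octFinset_spec]
    refine ⟨Cfsg.Agent.Lib.Helper26_Golay.supports_compl h1, ?_⟩
    rw [Finset.card_compl, card_golayPt, h2]

def W0 : Finset (Finset GolayPt) := {∅}

theorem W0_spec (P : Finset GolayPt) :
    P ∈ W0 ↔ (P ∈ supports (golayCode : Set (GolayPt → ZMod 2)) ∧ P.card = 0) := by
  unfold W0
  rw [Finset.mem_singleton, Finset.card_eq_zero]
  constructor
  · rintro rfl
    exact ⟨Cfsg.Agent.Lib.Helper26_Golay.empty_mem_supports, rfl⟩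
  · rintro ⟨_, h⟩; exact h

theorem evPar_card_zero (q : ℕ) (hq : Even q) : (evPar W0 q).card = (24).choose q * 2 ^ q := by
  unfold evPar
  rw [Finset.card_sigma]
  have h : ∀ pq ∈ PQ W0 q, ((pq.1.powerset.filter (fun N => Even (N.card + q))) ×ˢ
      pq.2.powerset).card = 2 ^ q := by
    rintro ⟨P, Q⟩ hpq
    unfold PQ W0 at hpq
    rw [Finset.mem_sigma, Finset.mem_powersetCard, Finset.mem_singleton] at hpq
    obtain ⟨h1, _, h3⟩ := hpq
    have h1' : P = ∅ := h1
    subst h1'
    rw [Finset.card_product, Finset.card_powerset]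
    show ((∅ : Finset GolayPt).powerset.filter (fun N => Even (N.card + q))).card * 2 ^ Q.card = _
    have : (∅ : Finset GolayPt).powerset.filter (fun N => Even (N.card + q)) = {∅} := by
      rw [Finset.powerset_empty]
      apply Finset.filter_true_of_mem
      intro N hN
      rw [Finset.mem_singleton] at hN
      rw [hN, Finset.card_empty, zero_add]; exact hq
    rw [this, Finset.card_singleton, one_mul, h3]
  rw [Finset.sum_congr rfl h, Finset.sum_const, smul_eq_mul,
    PQ_card W0 0 q (fun P hP => ((W0_spec P).mp hP).2)]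
  unfold W0
  rw [Finset.card_singleton, one_mul]

theorem EvFam_zero_ncard (q : ℕ) (hq : Even q) : (EvFam 0 q).ncard = (24).choose q * 2 ^ q := by
  rw [EvFam_eq W0 0 q W0_spec, (evMap_injOn W0 0 q W0_spec).ncard_image, Set.ncard_coe_finset,
    evPar_card_zero q hq]

/-! ### the vectors with one coordinate `±6` -/

/-- Entries `±2` on `P` (minus on `M`), except `±6` at `i`. -/
def six (P M : Finset GolayPt) (i : GolayPt) : GolayPt → ℤ :=
  fun j => sgn 2 P M j + sgn 4 {i} ({i} ∩ M) j

theorem six_val (P M : Finset GolayPt) (i : GolayPt) (hi : i ∈ P) (j : GolayPt) :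
    (j ∉ P ∧ j ≠ i ∧ six P M i j = 0) ∨ (j ∈ P ∧ j ≠ i ∧ j ∉ M ∧ six P M i j = 2) ∨
    (j ∈ P ∧ j ≠ i ∧ j ∈ M ∧ six P M i j = -2) ∨ (j ∈ P ∧ j = i ∧ j ∉ M ∧ six P M i j = 6) ∨
    (j ∈ P ∧ j = i ∧ j ∈ M ∧ six P M i j = -6) := by
  unfold six
  by_cases hji : j = i
  · subst hji
    have hs : j ∈ ({j} : Finset GolayPt) := Finset.mem_singleton_self j
    by_cases hM : j ∈ M
    · right; right; right; right
      rw [sgn_of_mem_neg hi hM, sgn_of_mem_neg hs (Finset.mem_inter.mpr ⟨hs, hM⟩)]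
      exact ⟨hi, rfl, hM, rfl⟩
    · right; right; right; left
      rw [sgn_of_mem_pos hi hM, sgn_of_mem_pos hs (fun h => hM (Finset.mem_inter.mp h).2)]
      exact ⟨hi, rfl, hM, rfl⟩
  · have hs : j ∉ ({i} : Finset GolayPt) := fun h => hji (Finset.mem_singleton.mp h)
    rw [sgn_of_notMem hs, add_zero]
    by_cases hP : j ∈ P
    · by_cases hM : j ∈ M
      · right; right; left
        rw [sgn_of_mem_neg hP hM]; exact ⟨hP, hji, hM, rfl⟩
      · right; left
        rw [sgn_of_mem_pos hP hM]; exact ⟨hP, hji, hM, rfl⟩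
    · left
      rw [sgn_of_notMem hP]; exact ⟨hP, hji, rfl⟩

theorem six_sq (P M : Finset GolayPt) (i : GolayPt) (hi : i ∈ P) (j : GolayPt) :
    six P M i j ^ 2 = (if j ∈ P then 4 else 0) + (if j = i then 32 else 0) := by
  rcases six_val P M i hi j with ⟨h1, h2, e⟩ | ⟨h1, h2, _, e⟩ | ⟨h1, h2, _, e⟩ |
    ⟨h1, h2, _, e⟩ | ⟨h1, h2, _, e⟩
  · rw [e, if_neg h1, if_neg h2]; rfl
  · rw [e, if_pos h1, if_neg h2]; rfl
  · rw [e, if_pos h1, if_neg h2]; rfl
  · rw [e, if_pos h1, if_pos h2]; rfl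
  · rw [e, if_pos h1, if_pos h2]; rfl

theorem sqNorm_six (P M : Finset GolayPt) (i : GolayPt) (hi : i ∈ P) :
    sqNorm (six P M i) = 4 * P.card + 32 := by
  unfold sqNorm
  rw [Finset.sum_congr rfl (fun j _ => six_sq P M i hi j), Finset.sum_add_distrib, sum_ind,
    Finset.sum_ite_eq' Finset.univ i, if_pos (Finset.mem_univ i)]

theorem sum_six (P M : Finset GolayPt) (i : GolayPt) (hM : M ⊆ P) :
    ∑ j, six P M i j = 2 * (P.card - 2 * M.card) + 4 * (1 - 2 * (({i} ∩ M).card : ℤ)) := by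
  unfold six
  rw [Finset.sum_add_distrib, sum_sgn 2 P M hM, sum_sgn 4 {i} ({i} ∩ M) Finset.inter_subset_left,
    Finset.card_singleton]
  push_cast
  ring

theorem six_mem (P M : Finset GolayPt) (i : GolayPt) (hP : P ∈ octads) (hi : i ∈ P) (hM : M ⊆ P)
    (hodd : Odd M.card) : six P M i ∈ leechSet := by
  apply mem_of_even
  · intro j
    rcases six_val P M i hi j with ⟨_, _, e⟩ | ⟨_, _, _, e⟩ | ⟨_, _, _, e⟩ |
      ⟨_, _, _, e⟩ | ⟨_, _, _, e⟩ <;> rw [e] <;> decide
  · have : indWord (fun j => six P M i j ≡ 2 [ZMOD 4]) = indWord (fun j => j ∈ P) := by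
      funext j
      unfold indWord
      beta_reduce
      rcases six_val P M i hi j with ⟨h1, _, e⟩ | ⟨h1, _, _, e⟩ | ⟨h1, _, _, e⟩ |
        ⟨h1, _, _, e⟩ | ⟨h1, _, _, e⟩
      · rw [e, if_neg h1, if_neg]; decide
      · rw [e, if_pos h1, if_pos]; decide
      · rw [e, if_pos h1, if_pos]; decide
      · rw [e, if_pos h1, if_pos]; decide
      · rw [e, if_pos h1, if_pos]; decide
    rw [this]; exact indWord_mem_of_supports hP.1
  · rw [sum_six P M i hM, hP.2]
    obtain ⟨k, hk⟩ := hodd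
    rw [hk]
    push_cast
    exact ⟨2 - k - (({i} ∩ M).card : ℤ), by ring⟩

theorem six_inj {P M P' M' : Finset GolayPt} {i i' : GolayPt} (hi : i ∈ P) (hi' : i' ∈ P')
    (hM : M ⊆ P) (hM' : M' ⊆ P') (he : six P M i = six P' M' i') :
    P = P' ∧ M = M' ∧ i = i' := by
  have key : ∀ j, (j ∈ P ↔ j ∈ P') ∧ (j ∈ M ↔ j ∈ M') ∧ (j = i ↔ j = i') := by
    intro j
    have hj := congrFun he j
    have a1 : j ∈ M → j ∈ P := fun hh => hM hh
    have b1 : j ∈ M' → j ∈ P' := fun hh => hM' hh
    rcases six_val P M i hi j with ⟨h1, h2, e⟩ | ⟨h1, h2, h3, e⟩ | ⟨h1, h2, h3, e⟩ |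
      ⟨h1, h2, h3, e⟩ | ⟨h1, h2, h3, e⟩ <;>
    rcases six_val P' M' i' hi' j with ⟨k1, k2, e'⟩ | ⟨k1, k2, k3, e'⟩ | ⟨k1, k2, k3, e'⟩ |
      ⟨k1, k2, k3, e'⟩ | ⟨k1, k2, k3, e'⟩ <;>
    first
      | (exfalso; omega)
      | tauto
  refine ⟨Finset.ext fun j => (key j).1, Finset.ext fun j => (key j).2.1, ?_⟩
  exact ((key i).2.2.mp rfl)

/-- The lattice vectors with one coordinate `±6` and seven coordinates `±2`. -/
def SixFam : Set (GolayPt → ℤ) :=
  {x | ∃ P M i, P ∈ octads ∧ i ∈ P ∧ M ⊆ P ∧ Odd M.card ∧ x = six P M i}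

abbrev Par3 : Type := (_ : Finset GolayPt) × (Finset GolayPt × GolayPt)

def sixPar : Finset Par3 :=
  Finset.sigma (ι := Finset GolayPt) (α := fun _ => Finset GolayPt × GolayPt)
    Cfsg.Agent.Lib.Helper26_Golay.octFinset
    (fun P => (P.powerset.filter (fun M => Even (M.card + 1))) ×ˢ P)

theorem mem_sixPar (P M : Finset GolayPt) (i : GolayPt) :
    (⟨P, (M, i)⟩ : Par3) ∈ sixPar ↔ P ∈ octads ∧ (M ⊆ P ∧ Even (M.card + 1)) ∧ i ∈ P := by
  unfold sixPar
  rw [Finset.mem_sigma, Finset.mem_product, Finset.mem_filter, Finset.mem_powerset,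
    Cfsg.Agent.Lib.Helper26_Golay.mem_octFinset_iff]

theorem sixPar_card : sixPar.card = 777216 := by
  unfold sixPar
  rw [Finset.card_sigma]
  have h : ∀ P ∈ Cfsg.Agent.Lib.Helper26_Golay.octFinset,
      ((P.powerset.filter (fun M => Even (M.card + 1))) ×ˢ P).card = 1024 := by
    intro P hP
    have hP' := (Cfsg.Agent.Lib.Helper26_Golay.mem_octFinset_iff P).mp hP
    have hne : P.Nonempty := by rw [← Finset.card_pos, hP'.2]; decide
    have h1 := card_parity_subsets P hne 1
    rw [hP'.2] at h1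
    rw [Finset.card_product, hP'.2]
    omega
  rw [Finset.sum_congr rfl h, Finset.sum_const, Cfsg.Agent.Lib.Helper26_Golay.octFinset_card]
  rfl

def sixMap (p : Par3) : GolayPt → ℤ := six p.1 p.2.1 p.2.2

theorem odd_iff_even_succ (n : ℕ) : Odd n ↔ Even (n + 1) := by
  rw [Nat.even_add_one, Nat.not_even_iff_odd]

theorem SixFam_eq : SixFam = sixMap '' (sixPar : Set Par3) := by
  ext x
  constructor
  · rintro ⟨P, M, i, hP, hi, hM, hodd, rfl⟩
    refine ⟨⟨P, (M, i)⟩, ?_, rfl⟩
    rw [Finset.mem_coe, mem_sixPar]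
    exact ⟨hP, ⟨hM, (odd_iff_even_succ _).mp hodd⟩, hi⟩
  · rintro ⟨⟨P, ⟨M, i⟩⟩, hp, rfl⟩
    rw [Finset.mem_coe, mem_sixPar] at hp
    exact ⟨P, M, i, hp.1, hp.2.2, hp.2.1.1, (odd_iff_even_succ _).mpr hp.2.1.2, rfl⟩

theorem SixFam_ncard : SixFam.ncard = 777216 := by
  rw [SixFam_eq, Set.InjOn.ncard_image, Set.ncard_coe_finset, sixPar_card]
  rintro ⟨P, ⟨M, i⟩⟩ hp ⟨P', ⟨M', i'⟩⟩ hp' he
  rw [Finset.mem_coe, mem_sixPar] at hp hp'
  obtain ⟨e1, e2, e3⟩ := six_inj hp.2.2 hp'.2.2 hp.2.1.1 hp'.2.1.1 he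
  subst e1; subst e2; subst e3; rfl

theorem SixFam_finite : SixFam.Finite := by
  rw [SixFam_eq]; exact (Finset.finite_toSet _).image _

theorem SixFam_sub (x : GolayPt → ℤ) (hx : x ∈ SixFam) : x ∈ leechLattice ∧ sqNorm x = 64 := by
  obtain ⟨P, M, i, hP, hi, hM, hodd, rfl⟩ := hx
  refine ⟨(mem_leechLattice_iff _).mpr (six_mem P M i hP hi hM hodd), ?_⟩
  rw [sqNorm_six P M i hi, hP.2]; rfl

theorem SixFam_vals (x : GolayPt → ℤ) (hx : x ∈ SixFam) :
    (∀ j, x j = 0 ∨ x j = 2 ∨ x j = -2 ∨ x j = 6 ∨ x j = -6) ∧ ∃ i, x i = 6 ∨ x i = -6 := by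
  obtain ⟨P, M, i, hP, hi, hM, hodd, rfl⟩ := hx
  constructor
  · intro j
    rcases six_val P M i hi j with ⟨_, _, e⟩ | ⟨_, _, _, e⟩ | ⟨_, _, _, e⟩ |
      ⟨_, _, _, e⟩ | ⟨_, _, _, e⟩ <;> rw [e] <;> decide
  · refine ⟨i, ?_⟩
    rcases six_val P M i hi i with ⟨_, h, _⟩ | ⟨_, h, _, _⟩ | ⟨_, h, _, _⟩ |
      ⟨_, _, _, e⟩ | ⟨_, _, _, e⟩
    · exact absurd rfl h
    · exact absurd rfl h
    · exact absurd rfl h
    · left; exact e
    · right; exact e

/-! ### the vectors with one coordinate `±8` -/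

def eight (i : GolayPt) (b : Bool) : GolayPt → ℤ :=
  fun j => if j = i then (if b then -8 else 8) else 0

theorem eight_val (i : GolayPt) (b : Bool) (j : GolayPt) :
    (j ≠ i ∧ eight i b j = 0) ∨ (j = i ∧ b = true ∧ eight i b j = -8) ∨
    (j = i ∧ b = false ∧ eight i b j = 8) := by
  unfold eight
  by_cases h : j = i
  · rw [if_pos h]
    cases b
    · right; right; exact ⟨h, rfl, rfl⟩
    · right; left; exact ⟨h, rfl, rfl⟩
  · left; rw [if_neg h]; exact ⟨h, rfl⟩

theorem eight_mem (i : GolayPt) (b : Bool) : eight i b ∈ leechSet := by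
  apply mem_of_even
  · intro j
    rcases eight_val i b j with ⟨_, e⟩ | ⟨_, _, e⟩ | ⟨_, _, e⟩ <;> rw [e] <;> decide
  · have : indWord (fun j => eight i b j ≡ 2 [ZMOD 4]) = 0 := by
      funext j
      unfold indWord
      beta_reduce
      rw [if_neg]; rfl
      rcases eight_val i b j with ⟨_, e⟩ | ⟨_, _, e⟩ | ⟨_, _, e⟩ <;> rw [e] <;> decide
    rw [this]; exact golayCode.zero_mem
  · unfold eight
    rw [Finset.sum_ite_eq' Finset.univ i, if_pos (Finset.mem_univ i)]
    cases b <;> decide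

theorem sqNorm_eight (i : GolayPt) (b : Bool) : sqNorm (eight i b) = 64 := by
  unfold sqNorm
  have h : ∀ j, eight i b j ^ 2 = if j = i then 64 else 0 := by
    intro j
    rcases eight_val i b j with ⟨h, e⟩ | ⟨h, _, e⟩ | ⟨h, _, e⟩
    · rw [e, if_neg h]; rfl
    · rw [e, if_pos h]; rfl
    · rw [e, if_pos h]; rfl
  rw [Finset.sum_congr rfl (fun j _ => h j), Finset.sum_ite_eq' Finset.univ i,
    if_pos (Finset.mem_univ i)]

def EightFam : Set (GolayPt → ℤ) := Set.range (fun p : GolayPt × Bool => eight p.1 p.2)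

theorem eight_inj : Function.Injective (fun p : GolayPt × Bool => eight p.1 p.2) := by
  rintro ⟨i, b⟩ ⟨i', b'⟩ he
  have hi : eight i b i = eight i' b' i := congrFun he i
  have hii : i = i' := by
    rcases eight_val i b i with ⟨h, _⟩ | ⟨_, _, e⟩ | ⟨_, _, e⟩
    · exact absurd rfl h
    · rcases eight_val i' b' i with ⟨_, e'⟩ | ⟨h, _, _⟩ | ⟨h, _, _⟩
      · omega
      · exact h
      · exact h
    · rcases eight_val i' b' i with ⟨_, e'⟩ | ⟨h, _, _⟩ | ⟨h, _, _⟩
      · omega
      · exact h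
      · exact h
  subst hii
  have hbb : b = b' := by
    clear he
    rcases eight_val i b i with ⟨h, _⟩ | ⟨_, hb, e⟩ | ⟨_, hb, e⟩ <;>
    rcases eight_val i b' i with ⟨h', _⟩ | ⟨_, hb', e'⟩ | ⟨_, hb', e'⟩
    all_goals first
      | exact absurd rfl h
      | exact absurd rfl h'
      | (exfalso; omega)
      | (rw [hb, hb'])
  rw [hbb]

theorem EightFam_ncard : EightFam.ncard = 48 := by
  unfold EightFam
  rw [← Set.image_univ, Set.ncard_image_of_injective _ eight_inj, Set.ncard_univ, Nat.card_prod,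
    Nat.card_eq_fintype_card, Nat.card_eq_fintype_card, card_golayPt, Fintype.card_bool]

theorem EightFam_finite : EightFam.Finite := Set.finite_range _

theorem EightFam_sub (x : GolayPt → ℤ) (hx : x ∈ EightFam) :
    x ∈ leechLattice ∧ sqNorm x = 64 := by
  obtain ⟨⟨i, b⟩, rfl⟩ := hx
  exact ⟨(mem_leechLattice_iff _).mpr (eight_mem i b), sqNorm_eight i b⟩

theorem EightFam_vals (x : GolayPt → ℤ) (hx : x ∈ EightFam) :
    (∀ j, x j = 0 ∨ x j = 8 ∨ x j = -8) ∧ ∃ i, x i = 8 ∨ x i = -8 := by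
  obtain ⟨⟨i, b⟩, rfl⟩ := hx
  constructor
  · intro j
    rcases eight_val i b j with ⟨_, e⟩ | ⟨_, _, e⟩ | ⟨_, _, e⟩
    · left; exact e
    · right; right; exact e
    · right; left; exact e
  · refine ⟨i, ?_⟩
    rcases eight_val i b i with ⟨h, _⟩ | ⟨_, _, e⟩ | ⟨_, _, e⟩
    · exact absurd rfl h
    · right; exact e
    · left; exact e

/-! ### classification -/

theorem zero_of_notMem (x : GolayPt → ℤ) (h2 : ∀ i, 2 ∣ x i) (j : GolayPt) (h2' : j ∉ S2 x)
    (h4' : j ∉ S4 x) : x j = 0 := by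
  rw [mem_S2] at h2'
  rw [mem_S4] at h4'
  have h4 : 4 ∣ x j := by
    have := h2 j
    unfold Int.ModEq at h2'
    omega
  by_contra h'
  exact h4' ⟨h4, h'⟩

/-- Every lattice vector of sum of squares 64 has one of eight shapes. -/
theorem classify (x : GolayPt → ℤ) (hx : x ∈ leechLattice) (hn : sqNorm x = 64) :
    x ∈ EvFam 16 0 ∨ x ∈ EvFam 12 1 ∨ x ∈ EvFam 8 2 ∨ x ∈ EvFam 0 4 ∨ x ∈ SixFam ∨
      x ∈ EightFam ∨ x ∈ OdFam 0 5 ∨ x ∈ OdFam 1 2 := by
  rw [mem_leechLattice_iff] at hx
  rcases even_or_odd_of_mem x hx with ⟨h2, hC, hs⟩ | ⟨h2, hC, hs⟩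
  · -- even vectors
    have hS := (filter_mem_supports_iff (fun i => x i ≡ 2 [ZMOD 4])).mpr hC
    have hlow := even_lower x h2
    rw [hn] at hlow
    have hcard := Cfsg.Agent.Lib.Helper26_Golay.card_of_mem_supports hS
    have hS2 : (Finset.univ.filter fun i => x i ≡ 2 [ZMOD 4]) = S2 x := rfl
    rw [hS2] at hcard hS
    have tight : (32 : ℤ) < 4 * (S2 x).card + 16 * (S4 x).card →
        x ∈ EvFam 16 0 ∨ x ∈ EvFam 12 1 ∨ x ∈ EvFam 8 2 ∨ x ∈ EvFam 0 4 ∨ x ∈ SixFam ∨
          x ∈ EightFam ∨ x ∈ OdFam 0 5 ∨ x ∈ OdFam 1 2 := by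
      intro hbig
      obtain ⟨hok, hxe, hnorm⟩ := even_shape x h2 hC hs (by rw [hn]; omega)
      rw [hn] at hnorm
      rcases hcard with h | h | h | h | h
      · right; right; right; left
        have h0 : (S2 x).card = 0 := by rw [h]; rfl
        have h1 : (S4 x).card = 4 := by
          have : ((S4 x).card : ℤ) = 4 := by rw [h0] at hnorm; push_cast at hnorm; omega
          exact_mod_cast this
        exact ⟨_, _, _, _, hok, h0, h1, hxe⟩
      · right; right; left
        have h1 : (S4 x).card = 2 := by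
          have : ((S4 x).card : ℤ) = 2 := by rw [h] at hnorm; push_cast at hnorm; omega
          exact_mod_cast this
        exact ⟨_, _, _, _, hok, h, h1, hxe⟩
      · right; left
        have h1 : (S4 x).card = 1 := by
          have : ((S4 x).card : ℤ) = 1 := by rw [h] at hnorm; push_cast at hnorm; omega
          exact_mod_cast this
        exact ⟨_, _, _, _, hok, h, h1, hxe⟩
      · left
        have h1 : (S4 x).card = 0 := by
          have : ((S4 x).card : ℤ) = 0 := by rw [h] at hnorm; push_cast at hnorm; omega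
          exact_mod_cast this
        exact ⟨_, _, _, _, hok, h, h1, hxe⟩
      · exfalso
        rw [h, Finset.card_univ, card_golayPt] at hnorm; push_cast at hnorm; omega
    rcases hcard with h | h | h | h | h
    · -- `S2 x` is empty
      by_cases hq : 3 ≤ (S4 x).card
      · apply tight
        have : (3 : ℤ) ≤ (S4 x).card := by exact_mod_cast hq
        omega
      · have hsum := sqNorm_eq_sum_S4 x h2 h
        rw [hn] at hsum
        have hq' : (S4 x).card = 0 ∨ (S4 x).card = 1 ∨ (S4 x).card = 2 := by omega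
        rcases hq' with hq' | hq' | hq'
        · exfalso
          rw [Finset.card_eq_zero] at hq'
          rw [hq', Finset.sum_empty] at hsum
          omega
        · -- a single coordinate `±8`
          right; right; right; right; right; left
          rw [Finset.card_eq_one] at hq'
          obtain ⟨i, hi⟩ := hq'
          rw [hi, Finset.sum_singleton] at hsum
          have h8 : x i ^ 2 = 8 ^ 2 := by omega
          have hrest : ∀ j, j ≠ i → x j = 0 := by
            intro j hj
            apply zero_of_notMem x h2 j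
            · rw [h]; exact Finset.notMem_empty j
            · rw [hi, Finset.mem_singleton]; exact hj
          rcases sq_eq_sq_iff_eq_or_eq_neg.mp h8 with h8 | h8
          · refine ⟨(i, false), ?_⟩
            funext j
            rcases eight_val i false j with ⟨hj, e⟩ | ⟨_, hb, _⟩ | ⟨hj, _, e⟩
            · beta_reduce; rw [e, hrest j hj]
            · exact absurd hb (by decide)
            · beta_reduce; rw [e, hj, h8]
          · refine ⟨(i, true), ?_⟩
            funext j
            rcases eight_val i true j with ⟨hj, e⟩ | ⟨hj, _, e⟩ | ⟨_, hb, _⟩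
            · beta_reduce; rw [e, hrest j hj]
            · beta_reduce; rw [e, hj, h8]
            · exact absurd hb (by decide)
        · exfalso
          rw [Finset.card_eq_two] at hq'
          obtain ⟨i, i', hii, hi⟩ := hq'
          rw [hi, Finset.sum_pair hii] at hsum
          have hi4 : i ∈ S4 x := by rw [hi]; exact Finset.mem_insert_self i _
          have hi4' : i' ∈ S4 x := by
            rw [hi]; exact Finset.mem_insert_of_mem (Finset.mem_singleton_self i')
          obtain ⟨⟨y, hy⟩, hy0⟩ := (mem_S4 x i).mp hi4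
          obtain ⟨⟨y', hy'⟩, hy0'⟩ := (mem_S4 x i').mp hi4'
          rw [hy] at hsum hy0
          rw [hy'] at hsum hy0'
          have h5 : y ^ 2 + y' ^ 2 = 4 := by nlinarith
          have hyn : y ≠ 0 := fun h0 => hy0 (by rw [h0]; rfl)
          have hyn' : y' ≠ 0 := fun h0 => hy0' (by rw [h0]; rfl)
          have h6 : -3 < y := by nlinarith [sq_nonneg y']
          have h7 : y < 3 := by nlinarith [sq_nonneg y']
          have h8 : -3 < y' := by nlinarith [sq_nonneg y]
          have h9 : y' < 3 := by nlinarith [sq_nonneg y]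
          interval_cases y <;> interval_cases y' <;> omega
    · -- `S2 x` is an octad
      by_cases hq : 1 ≤ (S4 x).card
      · apply tight
        have : (1 : ℤ) ≤ (S4 x).card := by exact_mod_cast hq
        rw [h]; push_cast; omega
      · -- one coordinate `±6`
        right; right; right; right; left
        have hq0 : (S4 x).card = 0 := by omega
        have hS4 : S4 x = ∅ := Finset.card_eq_zero.mp hq0
        have hsum := sum_excess x
        rw [hn, h, hq0] at hsum
        obtain ⟨i, hi, hrest⟩ := sum_single_bound (excess x) 32 (by decide)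
          (excess_cases x h2) (by rw [hsum]; norm_num)
        have hi2 : i ∈ S2 x := by
          by_contra hi2
          have h0 := zero_of_notMem x h2 i hi2 (by rw [hS4]; exact Finset.notMem_empty i)
          unfold excess at hi
          rw [if_neg hi2, hS4, if_neg (Finset.notMem_empty i), h0] at hi
          norm_num at hi
        have hx6 : x i ^ 2 = 6 ^ 2 := by
          unfold excess at hi
          rw [if_pos hi2, hS4, if_neg (Finset.notMem_empty i)] at hi
          omega
        have hx2 : ∀ j, j ∈ S2 x → j ≠ i → x j ^ 2 = 2 ^ 2 := by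
          intro j hj hji
          have := hrest j hji
          unfold excess at this
          rw [if_pos hj, hS4, if_neg (Finset.notMem_empty j)] at this
          omega
        have hx0 : ∀ j, j ∉ S2 x → x j = 0 := fun j hj =>
          zero_of_notMem x h2 j hj (by rw [hS4]; exact Finset.notMem_empty j)
        have hxe : x = six (S2 x) ((S2 x).filter (fun j => x j < 0)) i := by
          funext j
          rcases six_val (S2 x) ((S2 x).filter (fun j => x j < 0)) i hi2 j with
            ⟨h1, _, e⟩ | ⟨h1, h3, h4, e⟩ | ⟨h1, h3, h4, e⟩ | ⟨h1, h3, h4, e⟩ | ⟨h1, h3, h4, e⟩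
          · rw [e]; exact hx0 j h1
          · rw [e]
            rcases sq_eq_sq_iff_eq_or_eq_neg.mp (hx2 j h1 h3) with v | v
            · exact v
            · exact absurd (Finset.mem_filter.mpr ⟨h1, by omega⟩) h4
          · rw [e]
            have := (Finset.mem_filter.mp h4).2
            rcases sq_eq_sq_iff_eq_or_eq_neg.mp (hx2 j h1 h3) with v | v
            · omega
            · exact v
          · rw [e]
            subst h3
            rcases sq_eq_sq_iff_eq_or_eq_neg.mp hx6 with v | v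
            · exact v
            · exact absurd (Finset.mem_filter.mpr ⟨h1, by omega⟩) h4
          · rw [e]
            subst h3
            have := (Finset.mem_filter.mp h4).2
            rcases sq_eq_sq_iff_eq_or_eq_neg.mp hx6 with v | v
            · omega
            · exact v
        refine ⟨S2 x, (S2 x).filter (fun j => x j < 0), i, ⟨hS, h⟩, hi2, Finset.filter_subset _ _,
          ?_, hxe⟩
        have hsum6 := sum_six (S2 x) ((S2 x).filter (fun j => x j < 0)) i
          (Finset.filter_subset _ _)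
        rw [← hxe] at hsum6
        rw [hsum6, h] at hs
        rw [Nat.odd_iff]
        push_cast at hs
        omega
    · apply tight; rw [h]; push_cast; omega
    · apply tight; rw [h]; push_cast; omega
    · apply tight; rw [h, Finset.card_univ, card_golayPt]; push_cast; omega
  · -- odd vectors
    obtain ⟨hxo, hnorm⟩ := odd_shape x h2 (by rw [hn]; decide)
    rw [hn] at hnorm
    have hcases : ((T5 x).card = 0 ∧ (T3 x).card = 5) ∨ ((T5 x).card = 1 ∧ (T3 x).card = 2) := by
      have : (3 : ℤ) * (T5 x).card + (T3 x).card = 5 := by omega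
      have h' : 3 * (T5 x).card + (T3 x).card = 5 := by exact_mod_cast this
      omega
    rcases hcases with ⟨h5, h3⟩ | ⟨h5, h3⟩
    · right; right; right; right; right; right; left
      exact ⟨_, _, _, hC, disjoint_T5_T3 x, h5, h3, hxo⟩
    · right; right; right; right; right; right; right
      exact ⟨_, _, _, hC, disjoint_T5_T3 x, h5, h3, hxo⟩

/-! ### disjointness of the families -/

theorem disjoint_Ev_Six (w q : ℕ) : Disjoint (EvFam w q) SixFam := by
  rw [Set.disjoint_left]
  intro x h1 h2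
  obtain ⟨i, hi⟩ := (SixFam_vals x h2).2
  rcases Cfsg.Agent.S1568.EvFam_vals w q x h1 i with h | h | h | h | h <;> omega

theorem disjoint_Ev_Eight (w q : ℕ) : Disjoint (EvFam w q) EightFam := by
  rw [Set.disjoint_left]
  intro x h1 h2
  obtain ⟨i, hi⟩ := (EightFam_vals x h2).2
  rcases Cfsg.Agent.S1568.EvFam_vals w q x h1 i with h | h | h | h | h <;> omega

theorem disjoint_Six_Eight : Disjoint SixFam EightFam := by
  rw [Set.disjoint_left]
  intro x h1 h2
  obtain ⟨i, hi⟩ := (EightFam_vals x h2).2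
  rcases (SixFam_vals x h1).1 i with h | h | h | h | h <;> omega

theorem disjoint_Six_Od (a b : ℕ) : Disjoint SixFam (OdFam a b) := by
  rw [Set.disjoint_left]
  intro x h1 h2
  have := OdFam_odd a b x h2 none
  rcases (SixFam_vals x h1).1 none with h | h | h | h | h <;> omega

theorem disjoint_Eight_Od (a b : ℕ) : Disjoint EightFam (OdFam a b) := by
  rw [Set.disjoint_left]
  intro x h1 h2
  have := OdFam_odd a b x h2 none
  rcases (EightFam_vals x h1).1 none with h | h | h <;> omega

/-! ### the count -/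

theorem set_eq : {x : GolayPt → ℤ | x ∈ leechLattice ∧ sqNorm x = 64} =
    EvFam 16 0 ∪ EvFam 12 1 ∪ EvFam 8 2 ∪ EvFam 0 4 ∪ SixFam ∪ EightFam ∪ OdFam 0 5 ∪
      OdFam 1 2 := by
  ext x
  constructor
  · rintro ⟨hx, hn⟩
    rcases classify x hx hn with h | h | h | h | h | h | h | h
    · left; left; left; left; left; left; left; exact h
    · left; left; left; left; left; left; right; exact h
    · left; left; left; left; left; right; exact h
    · left; left; left; left; right; exact h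
    · left; left; left; right; exact h
    · left; left; right; exact h
    · left; right; exact h
    · right; exact h
  · rintro (((((((h | h) | h) | h) | h) | h) | h) | h)
    · have := EvFam_sub 16 0 x h; exact ⟨this.1, by rw [this.2]; rfl⟩
    · have := EvFam_sub 12 1 x h; exact ⟨this.1, by rw [this.2]; rfl⟩
    · have := EvFam_sub 8 2 x h; exact ⟨this.1, by rw [this.2]; rfl⟩
    · have := EvFam_sub 0 4 x h; exact ⟨this.1, by rw [this.2]; rfl⟩
    · exact SixFam_sub x h
    · exact EightFam_sub x h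
    · have := OdFam_sub 0 5 (by decide) x h; exact ⟨this.1, by rw [this.2]; rfl⟩
    · have := OdFam_sub 1 2 (by decide) x h; exact ⟨this.1, by rw [this.2]; rfl⟩

theorem card_16_0 : (EvFam 16 0).ncard = 24870912 := by
  rw [EvFam_ncard W16 16 0 (by decide) W16_spec, W16_card]
  norm_num

theorem card_12_1 : (EvFam 12 1).ncard = 126615552 := by
  rw [EvFam_ncard Cfsg.Agent.Lib.Helper26_Golay.dodFinset 12 1 (by decide) dodFinset_spec,
    Cfsg.Agent.Lib.Helper26_Golay.dodFinset_card]
  norm_num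

theorem card_8_2 : (EvFam 8 2).ncard = 46632960 := by
  rw [EvFam_ncard Cfsg.Agent.Lib.Helper26_Golay.octFinset 8 2 (by decide) octFinset_spec,
    Cfsg.Agent.Lib.Helper26_Golay.octFinset_card]
  norm_num [Nat.choose]

theorem card_0_4 : (EvFam 0 4).ncard = 170016 := by
  rw [EvFam_zero_ncard 4 (by decide)]
  norm_num [Nat.choose]

theorem card_0_5 : (OdFam 0 5).ncard = 174096384 := by
  rw [OdFam_ncard]; norm_num [Nat.choose]

theorem card_1_2 : (OdFam 1 2).ncard = 24870912 := by
  rw [OdFam_ncard]; norm_num [Nat.choose]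

theorem fin_16_0 : (EvFam 16 0).Finite := EvFam_finite W16 16 0 W16_spec

theorem fin_12_1 : (EvFam 12 1).Finite :=
  EvFam_finite Cfsg.Agent.Lib.Helper26_Golay.dodFinset 12 1 dodFinset_spec

theorem fin_8_2 : (EvFam 8 2).Finite :=
  EvFam_finite Cfsg.Agent.Lib.Helper26_Golay.octFinset 8 2 octFinset_spec

theorem fin_0_4 : (EvFam 0 4).Finite := EvFam_finite W0 0 4 W0_spec

theorem main :
    {x : GolayPt → ℤ | x ∈ leechLattice ∧ sqNorm x = 64}.ncard = 398034000 := by
  have f1 := fin_16_0.union fin_12_1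
  have f2 := f1.union fin_8_2
  have f3 := f2.union fin_0_4
  have f4 := f3.union SixFam_finite
  have f5 := f4.union EightFam_finite
  have f6 := f5.union (OdFam_finite 0 5)
  have c1 : (EvFam 16 0 ∪ EvFam 12 1).ncard = 24870912 + 126615552 := by
    rw [Set.ncard_union_eq (disjoint_Ev_Ev 16 0 12 1 (by decide)) fin_16_0 fin_12_1, card_16_0,
      card_12_1]
  have c2 : (EvFam 16 0 ∪ EvFam 12 1 ∪ EvFam 8 2).ncard = 24870912 + 126615552 + 46632960 := by
    rw [Set.ncard_union_eq (Set.disjoint_union_left.mpr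
      ⟨disjoint_Ev_Ev 16 0 8 2 (by decide), disjoint_Ev_Ev 12 1 8 2 (by decide)⟩) f1 fin_8_2,
      c1, card_8_2]
  have c3 : (EvFam 16 0 ∪ EvFam 12 1 ∪ EvFam 8 2 ∪ EvFam 0 4).ncard =
      24870912 + 126615552 + 46632960 + 170016 := by
    rw [Set.ncard_union_eq (Set.disjoint_union_left.mpr ⟨Set.disjoint_union_left.mpr
      ⟨disjoint_Ev_Ev 16 0 0 4 (by decide), disjoint_Ev_Ev 12 1 0 4 (by decide)⟩,
      disjoint_Ev_Ev 8 2 0 4 (by decide)⟩) f2 fin_0_4, c2, card_0_4]
  have c4 : (EvFam 16 0 ∪ EvFam 12 1 ∪ EvFam 8 2 ∪ EvFam 0 4 ∪ SixFam).ncard =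
      24870912 + 126615552 + 46632960 + 170016 + 777216 := by
    rw [Set.ncard_union_eq (Set.disjoint_union_left.mpr ⟨Set.disjoint_union_left.mpr
      ⟨Set.disjoint_union_left.mpr ⟨disjoint_Ev_Six 16 0, disjoint_Ev_Six 12 1⟩,
      disjoint_Ev_Six 8 2⟩, disjoint_Ev_Six 0 4⟩) f3 SixFam_finite, c3, SixFam_ncard]
  have c5 : (EvFam 16 0 ∪ EvFam 12 1 ∪ EvFam 8 2 ∪ EvFam 0 4 ∪ SixFam ∪ EightFam).ncard =
      24870912 + 126615552 + 46632960 + 170016 + 777216 + 48 := by
    rw [Set.ncard_union_eq (Set.disjoint_union_left.mpr ⟨Set.disjoint_union_left.mpr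
      ⟨Set.disjoint_union_left.mpr ⟨Set.disjoint_union_left.mpr
      ⟨disjoint_Ev_Eight 16 0, disjoint_Ev_Eight 12 1⟩, disjoint_Ev_Eight 8 2⟩,
      disjoint_Ev_Eight 0 4⟩, disjoint_Six_Eight⟩) f4 EightFam_finite, c4, EightFam_ncard]
  have c6 : (EvFam 16 0 ∪ EvFam 12 1 ∪ EvFam 8 2 ∪ EvFam 0 4 ∪ SixFam ∪ EightFam ∪
      OdFam 0 5).ncard = 24870912 + 126615552 + 46632960 + 170016 + 777216 + 48 + 174096384 := by
    rw [Set.ncard_union_eq (Set.disjoint_union_left.mpr ⟨Set.disjoint_union_left.mpr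
      ⟨Set.disjoint_union_left.mpr ⟨Set.disjoint_union_left.mpr ⟨Set.disjoint_union_left.mpr
      ⟨disjoint_Ev_Od 16 0 0 5, disjoint_Ev_Od 12 1 0 5⟩, disjoint_Ev_Od 8 2 0 5⟩,
      disjoint_Ev_Od 0 4 0 5⟩, disjoint_Six_Od 0 5⟩, disjoint_Eight_Od 0 5⟩) f5
      (OdFam_finite 0 5), c5, card_0_5]
  rw [set_eq, Set.ncard_union_eq (Set.disjoint_union_left.mpr ⟨Set.disjoint_union_left.mpr
      ⟨Set.disjoint_union_left.mpr ⟨Set.disjoint_union_left.mpr ⟨Set.disjoint_union_left.mpr
      ⟨Set.disjoint_union_left.mpr ⟨disjoint_Ev_Od 16 0 1 2, disjoint_Ev_Od 12 1 1 2⟩,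
      disjoint_Ev_Od 8 2 1 2⟩, disjoint_Ev_Od 0 4 1 2⟩, disjoint_Six_Od 1 2⟩,
      disjoint_Eight_Od 1 2⟩, disjoint_Od_Od 0 5 1 2 (by decide)⟩) f6 (OdFam_finite 1 2),
    c6, card_1_2]

theorem result : {x : Cfsg.GolayPt → ℤ | x ∈ Cfsg.leechLattice ∧ Cfsg.sqNorm x = 64}.ncard = 398034000 :=
  main

end Cfsg.Agent.S0396
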