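import Cfsg.Statements.S1572
import Cfsg.Agent.Lib.Helper92_MaxMain

/-!
The stabiliser `N` of the standard cross is maximal in the automorphism group of the rank-24
lattice.

Let `N < K`.  The orbit of the minimal vector `v0 = 4 e_4 - 4 e_13` under `K` is a union of the
three shapes of minimal vectors (sizes 1104, 97152, 98304); its size divides the order of the
whole group, which leaves only the first shape or everything; in the first case `K` preserves the
first shape, hence the standard cross.  So `K` is transitive on the minimal vectors.  The orbit
of `4 e_4 + 4 e_13` under the stabiliser of `v0` in `K` is a union of five classes of minimal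
vectors orthogonal to `v0` (sizes 2, 924, 4928, 42240, 45056); its size divides the order of the
stabiliser of `v0` in the whole group, which leaves only the first class or everything; in the
first case the stabiliser of `v0` in `K` lies in `N`, and comparing indices gives `1104 ∣ 196560`,
which is false.  Hence every automorphism can be corrected by elements of `K` to fix `8 e_4`,
that is, to lie in `N`.
-/

set_option autoImplicit false
open scoped Pointwise
open Cfsg

namespace Cfsg.Agent.S1572

/-- The stabiliser of the standard cross is a maximal proper subgroup of the lattice's automorphism group. -/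
theorem result (H : Subgroup ↥Cfsg.Co0) (hH : (H : Set ↥Cfsg.Co0) = {g : ↥Cfsg.Co0 | (∀ v : ↥Cfsg.leechLattice, (v : Cfsg.GolayPt → ℤ) ∈ Cfsg.stdCross → ((g • v : ↥Cfsg.leechLattice) : Cfsg.GolayPt → ℤ) ∈ Cfsg.stdCross)}) : IsCoatom H := by
  have hH' : ∀ g, g ∈ H ↔ Cfsg.Agent.S1571.P g := by
    intro g
    rw [← SetLike.mem_coe, hH]
    rfl
  constructor
  · intro htop
    have hall : ∀ g : ↥Co0, Cfsg.Agent.S1571.P g := by
      intro g
      rw [← hH', htop]
      exact Subgroup.mem_top g
    have h1 := Cfsg.Agent.S1571.card_stab
    have h2 : Nat.card {g : ↥Co0 // Cfsg.Agent.S1571.P g} = Nat.card ↥Co0 :=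
      Nat.card_congr (Equiv.subtypeUnivEquiv hall)
    rw [h2, Cfsg.Agent.S0397.result] at h1
    exact absurd h1 (by norm_num)
  · intro K hK
    exact Cfsg.Agent.Lib.Helper92_MaxN.main H K hH' (le_of_lt hK) (SetLike.exists_of_lt hK)

end Cfsg.Agent.S1572
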