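import Cfsg.Statements.S0399
import Cfsg.Agent.Lib.Helper7_Co1Simple
import Cfsg.Agent.S1572

set_option autoImplicit false
open Cfsg

namespace Cfsg.Agent.S0399

/-- The stabiliser of the standard cross is a maximal subgroup. -/
theorem isCoatom_N : IsCoatom Cfsg.Agent.Lib.Helper7_Mono.N :=
  Cfsg.Agent.S1572.result Cfsg.Agent.Lib.Helper7_Mono.N
    (Set.ext fun g => Cfsg.Agent.Lib.Helper7_Mono.mem_N_iff g)

/-- Automorphism group of the lattice modulo its centre is simple of order 4157776806543360000. -/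
theorem result : Cfsg.IsCo1 (Cfsg.Co0 ⧸ Subgroup.center Cfsg.Co0) :=
  Cfsg.Agent.Lib.Helper7_Co1Simple.isCo1 isCoatom_N

end Cfsg.Agent.S0399
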