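import Cfsg.Statements.S0403
import Cfsg.Agent.S1640
import Cfsg.Agent.S1641
import Cfsg.Agent.S0405
import Cfsg.Agent.Lib.Helper92_Co3Main

/-!
The stabiliser of a vector `v` of norm `48` in the automorphism group of the rank-24 lattice is
simple of order `495766656000`.

It is transitive on the `11178` minimal vectors `x` with inner product `-16` with `v` (`S1640`).
The stabiliser of such an `x` is the common stabiliser of `v` and `-(v + x)`, two vectors of norm
`48` with inner product `-32`, hence simple of order `44352000` (`S0405`); by `S1641` its orbits on
the other points have sizes `352`, `1100`, `4125`, `5600`, so the action is primitive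
(`Helper92_RankOrbits.hprim_of_orbits`).  A proper nontrivial normal subgroup would have order
`11178 = 2 · 5589`, and would contain a smaller nontrivial normal subgroup, of order `5589`, by
the transfer (`Helper92_RankOrbits.exists_normal_half`).
-/

set_option autoImplicit false
open Cfsg

namespace Cfsg.Agent.S0403

open Cfsg.Agent.Lib.Helper92_Co3

/-- Stabiliser of a vector of sum of squares 48 is simple of order 495766656000. -/
theorem result (v : Cfsg.leechLattice) (hv : Cfsg.sqNorm (v : Cfsg.GolayPt → ℤ) = 48) : Cfsg.IsCo3 (MulAction.stabilizer Cfsg.Co0 v) := by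
  obtain ⟨hcard, htrans⟩ := Cfsg.Agent.S1640.result v hv
  have hne : (X3 v).Nonempty := by
    apply Set.nonempty_of_ncard_ne_zero
    rw [show (X3 v).ncard = 11178 from hcard]
    norm_num
  obtain ⟨x0, hx0⟩ := hne
  have hHS := Cfsg.Agent.S0405.result v (wOf v x0) hv (wOf_norm v x0 hv hx0) (wOf_dot v x0 hv hx0)
  have hD : Data v x0 :=
    { card := hcard
      trans := htrans
      simple := hHS.1
      cardH := hHS.2
      orbits := Cfsg.Agent.S1641.result v x0 hv hx0 }
  exact ⟨stab_simple hx0 hD, stab_card hx0 hD⟩

end Cfsg.Agent.S0403
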