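import Cfsg.Statements.S0406
import Cfsg.Agent.Lib.Helper7_ConwayE
import Cfsg.Agent.S0375

set_option autoImplicit false
open Matrix
open Cfsg

namespace Cfsg.Agent.S0406

open Cfsg.Agent.Lib.Helper7_ConwayA Cfsg.Agent.Lib.Helper7_ConwayB Cfsg.Agent.Lib.Helper7_ConwayC
  Cfsg.Agent.Lib.Helper7_ConwayD Cfsg.Agent.Lib.Helper7_ConwayE

/-- Changing the signs of the vectors of a frame gives a frame. -/
theorem frame_sign {B : Matrix (Fin 24) (Fin 24) ℤ} {v : Fin 24 → (Fin 24 → ℤ)}
    (hv : IsFrame B v) (ε : Fin 24 → ℤ) (hε : ∀ i, ε i = 1 ∨ ε i = -1) :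
    IsFrame B (fun i => ε i • v i) where
  orth := by
    intro i j
    rw [bf_smul_left, bf_smul_right, hv.orth]
    by_cases hij : i = j
    · subst hij
      rw [if_pos rfl]
      rcases hε i with h | h <;> rw [h] <;> norm_num
    · rw [if_neg hij]; ring
  congr := by
    intro i j
    obtain ⟨z, hz⟩ := hv.congr i j
    rcases hε i with hi | hi <;> rcases hε j with hj | hj
    · refine ⟨z, ?_⟩
      funext k
      have := congrFun hz k
      simp only [Pi.sub_apply, Pi.smul_apply, smul_eq_mul, hi, hj] at this ⊢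
      omega
    · refine ⟨z + v j, ?_⟩
      funext k
      have := congrFun hz k
      simp only [Pi.sub_apply, Pi.smul_apply, Pi.add_apply, smul_eq_mul, hi, hj] at this ⊢
      omega
    · refine ⟨-z - v j, ?_⟩
      funext k
      have := congrFun hz k
      simp only [Pi.sub_apply, Pi.smul_apply, Pi.neg_apply, smul_eq_mul, hi, hj] at this ⊢
      omega
    · refine ⟨-z, ?_⟩
      funext k
      have := congrFun hz k
      simp only [Pi.sub_apply, Pi.smul_apply, Pi.neg_apply, smul_eq_mul, hi, hj] at this ⊢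
      omega

/-- A rank-24 even lattice with no roots and the stated numbers of vectors of norms 4, 6, 8 is isomorphic to the Leech lattice. -/
theorem result (B : Matrix (Fin 24) (Fin 24) ℤ) (hsymm : B.IsSymm) (hpos : ∀ x : Fin 24 → ℤ, x ≠ 0 → 0 < x ⬝ᵥ (B *ᵥ x)) (heven : ∀ x : Fin 24 → ℤ, (2 : ℤ) ∣ x ⬝ᵥ (B *ᵥ x)) (h2 : ∀ x : Fin 24 → ℤ, x ⬝ᵥ (B *ᵥ x) ≠ 2) (h4 : {x : Fin 24 → ℤ | x ⬝ᵥ (B *ᵥ x) = 4}.ncard = 196560) (h6 : {x : Fin 24 → ℤ | x ⬝ᵥ (B *ᵥ x) = 6}.ncard = 16773120) (h8 : {x : Fin 24 → ℤ | x ⬝ᵥ (B *ᵥ x) = 8}.ncard = 398034000) : ∃ f : (Fin 24 → ℤ) ≃+ Cfsg.leechLattice, ∀ x : Fin 24 → ℤ, Cfsg.sqNorm ((f x : Cfsg.leechLattice) : Cfsg.GolayPt → ℤ) = 8 * (x ⬝ᵥ (B *ᵥ x)) := by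
  have hB : IsLeechLike B := ⟨hsymm, hpos, heven, h2⟩
  obtain ⟨v, hv1, hv2⟩ := exists_frame hB h4 h6 h8
  have hv : IsFrame B v := ⟨hv1, hv2⟩
  have hN := nice_range hB hv h4
  obtain ⟨⟨a0, ha0, hodd⟩, _⟩ := count hN
  obtain ⟨x0, rfl⟩ := ha0
  have hodd' : ∀ i, coord B v x0 i % 2 = 1 := fun i => by
    have := parity hN ⟨x0, rfl⟩ i 0
    omega
  -- change the signs of the frame
  let ε : Fin 24 → ℤ := fun i => if coord B v x0 i % 4 = 1 then 1 else -1
  have hε : ∀ i, ε i = 1 ∨ ε i = -1 := by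
    intro i
    simp only [ε]
    split_ifs
    · left; rfl
    · right; rfl
  have hv' : IsFrame B (fun i => ε i • v i) := frame_sign hv ε hε
  have hN' := nice_range hB hv' h4
  have hw04 : ∀ i, coord B (fun i => ε i • v i) x0 i % 4 = 1 := by
    intro i
    rw [coord_apply, bf_smul_right, ← coord_apply (B := B) (v := v)]
    have := hodd' i
    simp only [ε]
    split_ifs with h
    · omega
    · omega
  obtain ⟨_, hdim⟩ := count hN'
  set φ := coord B (fun i => ε i • v i) with hφ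
  obtain ⟨e, he⟩ := Cfsg.Agent.S0375.result (code φ.range) hdim
    (fun c hc c' hc' => code_orth hN' hc hc') (fun c hc => code_dvd4 hN' hc)
    (fun c hc h4' => by
      by_cases h0 : c = 0
      · rw [h0, hammingNorm_zero] at h4'
        norm_num at h4'
      · have := code_min hN' hc h0
        omega)
  have key : ∀ y, y ∈ φ.range ↔ tr e y ∈ leechLattice :=
    mem_iff hN' ⟨x0, rfl⟩ hw04 e he
  let f0 : (Fin 24 → ℤ) →+ leechLattice :=
    { toFun := fun x => ⟨tr e (φ x), (key _).mp ⟨x, rfl⟩⟩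
      map_zero' := by
        apply Subtype.ext
        simp only [map_zero]
        rfl
      map_add' := by
        intro x y
        apply Subtype.ext
        simp only [map_add]
        rfl }
  have hinj : Function.Injective f0 := by
    intro x y hxy
    have h1 : tr e (φ x) = tr e (φ y) := congrArg Subtype.val hxy
    exact coord_injective hB hv' ((tr e).injective h1)
  have hsurj : Function.Surjective f0 := by
    intro z
    have hz : (tr e).symm (z : GolayPt → ℤ) ∈ φ.range := by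
      rw [key, AddEquiv.apply_symm_apply]
      exact z.2
    obtain ⟨x, hx⟩ := hz
    refine ⟨x, Subtype.ext ?_⟩
    show tr e (φ x) = z
    rw [hx, AddEquiv.apply_symm_apply]
  refine ⟨AddEquiv.ofBijective f0 ⟨hinj, hsurj⟩, fun x => ?_⟩
  show sqNorm (tr e (φ x)) = 8 * bf B x x
  rw [← coord_dot hB hv' x x]
  unfold sqNorm dotProduct
  rw [← Equiv.sum_comp e]
  apply Finset.sum_congr rfl
  intro i _
  rw [tr_apply, Equiv.symm_apply_apply]
  ring

end Cfsg.Agent.S0406
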