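import Cfsg.Statements.S0408
import Mathlib
import Cfsg.Prelude.Def_Sporadic_a
import Cfsg.Agent.Lib.Helper7_SteinerTree
import Cfsg.Agent.Lib.Helper7_Steiner12

set_option autoImplicit false
open Cfsg

namespace Cfsg.Agent.S0408

/-- Uniqueness of the Steiner system S(5, 6, 12) up to isomorphism. -/
theorem result {α β : Type*} [Fintype α] [DecidableEq α] [Fintype β] [DecidableEq β] (hα : Fintype.card α = 12) (hβ : Fintype.card β = 12) {B : Set (Finset α)} {B' : Set (Finset β)} (hB : Cfsg.IsSteinerSystem 5 6 B) (hB' : Cfsg.IsSteinerSystem 5 6 B') : Cfsg.SetSystemIso B B' := by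
  classical
  obtain ⟨x⟩ : Nonempty (Fin 5 ↪ α) :=
    Function.Embedding.nonempty_of_card_le (by rw [Fintype.card_fin, hα]; norm_num)
  obtain ⟨x'⟩ : Nonempty (Fin 5 ↪ β) :=
    Function.Embedding.nonempty_of_card_le (by rw [Fintype.card_fin, hβ]; norm_num)
  obtain ⟨e, -, he⟩ := Cfsg.Agent.Lib.Helper7_Steiner12.exists_equiv12 hα hB x
  obtain ⟨e', -, he'⟩ := Cfsg.Agent.Lib.Helper7_Steiner12.exists_equiv12 hβ hB' x'
  refine ⟨e.symm.trans e', ?_⟩
  show Cfsg.Agent.Lib.Helper7_SteinerTree.tr (e.symm.trans e') B = B'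
  rw [Cfsg.Agent.Lib.Helper7_SteinerTree.tr_trans, ← he,
    Cfsg.Agent.Lib.Helper7_SteinerTree.tr_symm_tr, he']

end Cfsg.Agent.S0408
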