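-- Statement S0419: a sharply 5-transitive group of degree 12 is simple of order 95040.
import Cfsg.Statements.S0419
import Cfsg.Agent.Lib.Helper59_SharpTrans

set_option autoImplicit false
open Cfsg

namespace Cfsg.Agent.S0419

open MulAction Cfsg.Agent.Lib.Helper59_SharpTrans

section Aux

variable {α : Type*} [Fintype α] [DecidableEq α]

/-- A permutation of prime order `p` on fewer than `2p` points is a `p`-cycle. -/
theorem isCycle_of_prime_order {σ : Equiv.Perm α} {p : ℕ} (hp : p.Prime) (ho : orderOf σ = p)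
    (hcard : Fintype.card α < 2 * p) : σ.IsCycle ∧ σ.support.card = p := by
  obtain ⟨n, hn⟩ := Equiv.Perm.cycleType_prime_order (σ := σ) (by rw [ho]; exact hp)
  have hsum := Equiv.Perm.sum_cycleType σ
  rw [hn, Multiset.sum_replicate, ho, smul_eq_mul] at hsum
  have hle := Finset.card_le_univ σ.support
  have hn0 : n = 0 := by
    by_contra h
    have h2 : 2 ≤ n + 1 := by omega
    have h3 : 2 * p ≤ (n + 1) * p := Nat.mul_le_mul_right p h2
    omega
  subst hn0
  refine ⟨?_, by simpa using hsum.symm⟩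
  rw [← Equiv.Perm.card_cycleType_eq_one, hn]
  simp

variable (G : Subgroup (Equiv.Perm α))

/-- An element of order 11 in a permutation group of degree 12 is self-centralizing. -/
theorem centralizer_zpowers (hα : Fintype.card α = 12) (x : G) (hx : orderOf x = 11) :
    Subgroup.centralizer ((Subgroup.zpowers x : Subgroup G) : Set G) = Subgroup.zpowers x := by
  have hσ : orderOf (x : Equiv.Perm α) = 11 := by rw [Subgroup.orderOf_coe, hx]
  obtain ⟨hcyc, hsupp⟩ := isCycle_of_prime_order (by norm_num) hσ (by omega)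
  obtain ⟨b, hb, hall⟩ := hcyc
  apply le_antisymm
  · intro c hc
    rw [Subgroup.mem_centralizer_iff] at hc
    have hcx : c * x = x * c := (hc x (Subgroup.mem_zpowers x)).symm
    refine mem_zpowers_of_commute (α := α) x c b ?_ hb ?_ hcx
    · intro y hy
      obtain ⟨i, hi⟩ := hall hy
      exact ⟨i, by rw [Subgroup.smul_def, Subgroup.coe_zpow]; exact hi⟩
    · intro y z hy hz
      have hcompl : ((x : Equiv.Perm α).supportᶜ).card ≤ 1 := by
        rw [Finset.card_compl, hsupp, hα]
      refine Finset.card_le_one.1 hcompl y ?_ z ?_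
      · rw [Finset.mem_compl, Equiv.Perm.notMem_support]
        exact hy
      · rw [Finset.mem_compl, Equiv.Perm.notMem_support]
        exact hz
  · intro c hc
    rw [Subgroup.mem_centralizer_iff]
    intro h hh
    obtain ⟨i, rfl⟩ := hc
    obtain ⟨j, rfl⟩ := hh
    exact ((Commute.refl x).zpow_zpow j i).eq

end Aux

/-- A sharply 5-transitive group of degree 12 is simple of order 95040. -/
theorem result {α : Type*} [Fintype α] [DecidableEq α] (hα : Fintype.card α = 12) (G : Subgroup (Equiv.Perm α)) [MulAction.IsMultiplyPretransitive G α 5] (hsharp : ∀ x : Fin 5 ↪ α, MulAction.stabilizer G x = ⊥) : Cfsg.IsM12 G := by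
  classical
  have hcardG : Nat.card G = 95040 := by
    have := card_of_sharp (Γ := G) (α := α) (k := 5) (by omega) hsharp
    rw [this, hα]
    rfl
  have h4 : IsMultiplyPretransitive G α 4 :=
    isMultiplyPretransitive_of_le (n := 5) (by norm_num) (by rw [Nat.card_eq_fintype_card, hα]; norm_num)
  have h3 : IsMultiplyPretransitive G α 3 :=
    isMultiplyPretransitive_of_le (n := 5) (by norm_num) (by rw [Nat.card_eq_fintype_card, hα]; norm_num)
  have h2 : IsMultiplyPretransitive G α 2 :=
    isMultiplyPretransitive_of_le (n := 5) (by norm_num) (by rw [Nat.card_eq_fintype_card, hα]; norm_num)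
  have : Fact (Nat.Prime 11) := ⟨by norm_num⟩
  have hfac : (95040 : ℕ).factorization 11 = 1 := by
    rw [show (95040 : ℕ) = 11 * 8640 by norm_num, Nat.factorization_mul (by norm_num) (by norm_num)]
    simp [Nat.Prime.factorization_self (show Nat.Prime 11 by norm_num),
      Nat.factorization_eq_zero_of_not_dvd (show ¬ 11 ∣ 8640 by norm_num)]
  -- every Sylow 11-subgroup has normalizer of order 55
  have hnorm : ∀ P : Sylow 11 G,
      Nat.card (Subgroup.normalizer ((P : Subgroup G) : Set G)) = 55 := by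
    intro P
    have hP : Nat.card (P : Subgroup G) = 11 := by
      have := Sylow.card_eq_multiplicity P
      rw [hcardG, hfac, pow_one] at this
      exact this
    have hnt : Nontrivial (P : Subgroup G) := by
      rw [← Finite.one_lt_card_iff_nontrivial, hP]
      norm_num
    obtain ⟨x, hx⟩ := exists_ne (1 : (P : Subgroup G))
    have hox : orderOf (x : G) = 11 := by
      have h1 : orderOf x ∣ 11 := by
        have := orderOf_dvd_natCard x
        rwa [hP] at this
      rw [Subgroup.orderOf_coe]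
      rcases (Nat.dvd_prime (by norm_num)).1 h1 with h | h
      · exact absurd (orderOf_eq_one_iff.1 h) hx
      · exact h
    have hPz : (P : Subgroup G) = Subgroup.zpowers (x : G) := by
      symm
      apply Subgroup.eq_of_le_of_card_ge
      · rw [Subgroup.zpowers_le]
        exact x.2
      · rw [Nat.card_zpowers, hox]
        exact hP.le
    have hcent := centralizer_zpowers G hα (x : G) hox
    rw [← hPz] at hcent
    obtain ⟨j, hj, hN⟩ := card_normalizer_eq (P : Subgroup G) (by norm_num : Nat.Prime 11) hP hcent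
    have hidx := (Subgroup.normalizer ((P : Subgroup G) : Set G)).index_mul_card
    have hmod : (Subgroup.normalizer ((P : Subgroup G) : Set G)).index ≡ 1 [MOD 11] := by
      have := card_sylow_modEq_one 11 G
      rw [Sylow.card_eq_index_normalizer P] at this
      exact this
    rw [hN, hcardG] at hidx
    rw [hN]
    have hj10 : j ≤ 10 := Nat.le_of_dvd (by norm_num) hj
    unfold Nat.ModEq at hmod
    interval_cases j <;> omega
  have hnt : Nontrivial G := by
    rw [← Finite.one_lt_card_iff_nontrivial, hcardG]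
    norm_num
  refine ⟨{ exists_pair_ne := hnt.exists_pair_ne, eq_bot_or_eq_top_of_normal := ?_ }, hcardG⟩
  intro N hN
  by_contra hcon
  push Not at hcon
  obtain ⟨hbot, htop⟩ := hcon
  -- a moved point
  have hmoves : ∀ M : Subgroup G, M ≠ ⊥ → ∃ m ∈ M, ∃ u : α, m • u ≠ u := by
    intro M hM
    obtain ⟨⟨m, hm⟩, hm1⟩ := (Subgroup.ne_bot_iff_exists_ne_one.1 hM)
    refine ⟨m, hm, ?_⟩
    by_contra hall
    push Not at hall
    apply hm1
    apply Subtype.ext
    apply Subtype.ext
    ext u
    exact hall u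
  -- transitivity statements
  have T2 : ∀ x y x' y' : α, x ≠ y → x' ≠ y' → ∃ g : G, g • x = x' ∧ g • y = y' :=
    fun x y x' y' => two_trans (Γ := G) x y x' y'
  have T3 : ∀ a x y x' y' : α, a ≠ x → a ≠ y → x ≠ y → a ≠ x' → a ≠ y' → x' ≠ y' →
      ∃ g : G, g • a = a ∧ g • x = x' ∧ g • y = y' :=
    fun a x y x' y' => three_trans (Γ := G) a x y x' y'
  have T4 : ∀ a b x y x' y' : α, a ≠ b → a ≠ x → a ≠ y → b ≠ x → b ≠ y → x ≠ y →
      a ≠ x' → a ≠ y' → b ≠ x' → b ≠ y' → x' ≠ y' →
      ∃ g : G, g • a = a ∧ g • b = b ∧ g • x = x' ∧ g • y = y' :=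
    fun a b x y x' y' => four_trans (Γ := G) a b x y x' y'
  -- level 0
  have htr0 : ∀ x ∈ (Set.univ : Set α), ∀ y ∈ (Set.univ : Set α), ∃ m ∈ N, m • x = y :=
    exists_smul_eq_of_two_trans (⊤ : Subgroup G) N Set.univ (fun _ _ _ _ => Set.mem_univ _)
      (fun x _ y _ x' _ y' _ hxy hxy' => by
        obtain ⟨g, h1, h2⟩ := T2 x y x' y' hxy hxy'
        exact ⟨g, Subgroup.mem_top _, h1, h2⟩)
      le_top (fun h _ m hm => hN.conj_mem m hm h)
      (by
        obtain ⟨m, hm, u, hu⟩ := hmoves N hbot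
        exact ⟨m, hm, u, Set.mem_univ _, hu⟩)
  obtain ⟨a⟩ : Nonempty α := Fintype.card_pos_iff.1 (by omega)
  have hc0 := card_eq_of_transitive_on N Set.univ (fun _ _ _ _ => Set.mem_univ _) htr0 a
    (Set.mem_univ _)
  rw [Set.ncard_univ, Nat.card_eq_fintype_card (α := α), hα] at hc0
  -- level 1: the stabilizer of `a` in `N` is nontrivial
  have hN1 : N ⊓ stabilizer G a ≠ ⊥ := by
    intro h0
    rw [h0, Subgroup.card_bot, mul_one] at hc0
    have : Fact (Nat.Prime 2) := ⟨Nat.prime_two⟩
    have : Fact (Nat.Prime 3) := ⟨Nat.prime_three⟩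
    obtain ⟨n₂, hn₂⟩ := exists_prime_orderOf_dvd_card' (G := N) 2 (by rw [hc0]; norm_num)
    obtain ⟨n₃, hn₃⟩ := exists_prime_orderOf_dvd_card' (G := N) 3 (by rw [hc0]; norm_num)
    rw [← Subgroup.orderOf_coe] at hn₂ hn₃
    have hfree : ∀ n ∈ N, n • a = a → n = 1 := by
      intro n hn hna
      have : n ∈ N ⊓ stabilizer G a := ⟨hn, hna⟩
      rw [h0] at this
      exact Subgroup.mem_bot.1 this
    have hu : a ≠ (n₂ : G) • a := by
      intro h
      have := hfree _ n₂.2 h.symm
      rw [this, orderOf_one] at hn₂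
      omega
    have hv : a ≠ (n₃ : G) • a := by
      intro h
      have := hfree _ n₃.2 h.symm
      rw [this, orderOf_one] at hn₃
      omega
    obtain ⟨g, hga, hgu⟩ := T2 a ((n₂ : G) • a) a ((n₃ : G) • a) hu hv
    have hm : g * n₂ * g⁻¹ ∈ N := hN.conj_mem _ n₂.2 g
    have hma : (g * n₂ * g⁻¹) • a = (n₃ : G) • a := by
      have : g⁻¹ • a = a := by rw [inv_smul_eq_iff, hga]
      rw [mul_smul, mul_smul, this, hgu]
    have h1 : (n₃ : G)⁻¹ * (g * n₂ * g⁻¹) = 1 := by
      apply hfree _ (mul_mem (inv_mem n₃.2) hm)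
      rw [mul_smul, hma, inv_smul_smul]
    have h2 : g * n₂ * g⁻¹ = n₃ := by
      rw [inv_mul_eq_one] at h1
      exact h1.symm
    have h3 : orderOf (g * n₂ * g⁻¹) = orderOf (n₂ : G) :=
      MulEquiv.orderOf_eq (MulAut.conj g) (n₂ : G)
    rw [h2, hn₂, hn₃] at h3
    omega
  -- level 1: transitivity
  have hΔ1 : ∀ h ∈ stabilizer G a, ∀ x ∈ ({a}ᶜ : Set α), h • x ∈ ({a}ᶜ : Set α) := by
    intro h hh x hx
    rw [Set.mem_compl_iff, Set.mem_singleton_iff] at hx ⊢
    intro hxa
    apply hx
    have : h • x = h • a := by rw [hxa]; exact hh.symm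
    exact smul_left_cancel h this
  have htr1 : ∀ x ∈ ({a}ᶜ : Set α), ∀ y ∈ ({a}ᶜ : Set α), ∃ m ∈ N ⊓ stabilizer G a, m • x = y :=
    exists_smul_eq_of_two_trans (stabilizer G a) (N ⊓ stabilizer G a) {a}ᶜ hΔ1
      (fun x hx y hy x' hx' y' hy' hxy hxy' => by
        rw [Set.mem_compl_iff, Set.mem_singleton_iff] at hx hy hx' hy'
        obtain ⟨g, h1, h2, h3⟩ := T3 a x y x' y' (Ne.symm hx) (Ne.symm hy) hxy (Ne.symm hx')
          (Ne.symm hy') hxy'
        exact ⟨g, h1, h2, h3⟩)
      inf_le_right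
      (fun h hh m hm => ⟨hN.conj_mem m hm.1 h, (stabilizer G a).mul_mem
        ((stabilizer G a).mul_mem hh hm.2) ((stabilizer G a).inv_mem hh)⟩)
      (by
        obtain ⟨m, hm, u, hu⟩ := hmoves _ hN1
        refine ⟨m, hm, u, ?_, hu⟩
        rw [Set.mem_compl_iff, Set.mem_singleton_iff]
        rintro rfl
        exact hu hm.2)
  have hntα : Nontrivial α := Fintype.one_lt_card_iff_nontrivial.1 (by omega)
  obtain ⟨b, hba⟩ := exists_ne a
  have hc1 := card_eq_of_transitive_on (N ⊓ stabilizer G a) {a}ᶜ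
    (fun m hm x hx => hΔ1 m hm.2 x hx) htr1 b hba
  have hcompl1 : ({a}ᶜ : Set α).ncard = 11 := by
    rw [Set.ncard_compl, Set.ncard_singleton, Nat.card_eq_fintype_card (α := α), hα]
  rw [hcompl1] at hc1
  -- `N` contains a Sylow 11-subgroup
  have h11 : 11 ∣ Nat.card N := by
    rw [hc0, hc1]
    exact Dvd.dvd.mul_left (Dvd.intro _ rfl) _
  obtain ⟨y, hy⟩ := exists_prime_orderOf_dvd_card' (G := N) 11 h11
  rw [← Subgroup.orderOf_coe] at hy
  have hPcard : Nat.card (Subgroup.zpowers (y : G)) = 11 ^ (Nat.card G).factorization 11 := by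
    rw [Nat.card_zpowers, hy, hcardG, hfac, pow_one]
  set P : Sylow 11 G := Sylow.ofCard (Subgroup.zpowers (y : G)) hPcard with hPdef
  have hPN : (P : Subgroup G) ≤ N := by
    rw [hPdef, Sylow.coe_ofCard, Subgroup.zpowers_le]
    exact y.2
  have hfr := index_mul_card_dvd_card_normalizer P N hPN
  rw [hnorm P] at hfr
  have hPc : Nat.card P = 11 := by
    have := Sylow.card_eq_multiplicity P
    rw [hcardG, hfac, pow_one] at this
    exact this
  rw [hPc] at hfr
  have hidx5 : N.index ∣ 5 := by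
    have : N.index * 11 ∣ 5 * 11 := hfr
    exact Nat.dvd_of_mul_dvd_mul_right (by norm_num) this
  have hidx : N.index = 5 := by
    rcases (Nat.dvd_prime (by norm_num)).1 hidx5 with h | h
    · exact absurd (Subgroup.index_eq_one.1 h) htop
    · exact h
  have hNc := N.index_mul_card
  rw [hidx, hcardG] at hNc
  -- level 2
  have hN2 : N ⊓ stabilizer G a ⊓ stabilizer G b ≠ ⊥ := by
    intro h0
    rw [h0, Subgroup.card_bot] at hc1
    omega
  have hΔ2 : ∀ h ∈ stabilizer G a ⊓ stabilizer G b, ∀ x ∈ ({a, b}ᶜ : Set α),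
      h • x ∈ ({a, b}ᶜ : Set α) := by
    intro h hh x hx
    rw [Set.mem_compl_iff, Set.mem_insert_iff, Set.mem_singleton_iff, not_or] at hx ⊢
    constructor
    · intro hxa
      apply hx.1
      have : h • x = h • a := by rw [hxa]; exact hh.1.symm
      exact smul_left_cancel h this
    · intro hxb
      apply hx.2
      have : h • x = h • b := by rw [hxb]; exact hh.2.symm
      exact smul_left_cancel h this
  have htr2 : ∀ x ∈ ({a, b}ᶜ : Set α), ∀ y ∈ ({a, b}ᶜ : Set α),
      ∃ m ∈ N ⊓ stabilizer G a ⊓ stabilizer G b, m • x = y :=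
    exists_smul_eq_of_two_trans (stabilizer G a ⊓ stabilizer G b)
      (N ⊓ stabilizer G a ⊓ stabilizer G b) {a, b}ᶜ hΔ2
      (fun x hx y hy x' hx' y' hy' hxy hxy' => by
        rw [Set.mem_compl_iff, Set.mem_insert_iff, Set.mem_singleton_iff, not_or]
          at hx hy hx' hy'
        obtain ⟨g, h1, h2, h3, h4⟩ := T4 a b x y x' y' (Ne.symm hba) (Ne.symm hx.1)
          (Ne.symm hy.1) (Ne.symm hx.2) (Ne.symm hy.2) hxy (Ne.symm hx'.1) (Ne.symm hy'.1)
          (Ne.symm hx'.2) (Ne.symm hy'.2) hxy'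
        exact ⟨g, ⟨h1, h2⟩, h3, h4⟩)
      (fun m hm => ⟨hm.1.2, hm.2⟩)
      (fun h hh m hm => ⟨⟨hN.conj_mem m hm.1.1 h, (stabilizer G a).mul_mem
        ((stabilizer G a).mul_mem hh.1 hm.1.2) ((stabilizer G a).inv_mem hh.1)⟩,
        (stabilizer G b).mul_mem ((stabilizer G b).mul_mem hh.2 hm.2)
          ((stabilizer G b).inv_mem hh.2)⟩)
      (by
        obtain ⟨m, hm, u, hu⟩ := hmoves _ hN2
        refine ⟨m, hm, u, ?_, hu⟩
        rw [Set.mem_compl_iff, Set.mem_insert_iff, Set.mem_singleton_iff, not_or]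
        constructor
        · rintro rfl
          exact hu hm.1.2
        · rintro rfl
          exact hu hm.2)
  have hcompl2 : ({a, b}ᶜ : Set α).ncard = 10 := by
    rw [Set.ncard_compl, Set.ncard_pair (Ne.symm hba), Nat.card_eq_fintype_card (α := α), hα]
  obtain ⟨c, hc⟩ : ∃ c : α, c ∈ ({a, b}ᶜ : Set α) := by
    apply Set.nonempty_of_ncard_ne_zero
    rw [hcompl2]
    norm_num
  have hc2 := card_eq_of_transitive_on (N ⊓ stabilizer G a ⊓ stabilizer G b) {a, b}ᶜ
    (fun m hm x hx => hΔ2 m ⟨hm.1.2, hm.2⟩ x hx) htr2 c hc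
  rw [hcompl2] at hc2
  omega

end Cfsg.Agent.S0419
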