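import Cfsg.Statements.S0420
import Mathlib
import Cfsg.Agent.S0387
import Cfsg.Agent.S0388
import Cfsg.Agent.Lib.Helper74_M11UDefs
import Cfsg.Agent.Lib.Helper74_M11ULoc
import Cfsg.Agent.Lib.Helper89_M11U_Fin
import Cfsg.Agent.Lib.Helper63_M11U_A1
import Cfsg.Agent.Lib.Helper63_M11U_LINV
import Cfsg.Agent.Lib.Helper86_M11U_A2
import Cfsg.Agent.Lib.Helper86_M11U_A4a
import Cfsg.Agent.Lib.Helper52_M11U_A4b
import Cfsg.Agent.Lib.Helper52_M11U_A4c
import Cfsg.Agent.Lib.Helper42_M11U_A5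
import Cfsg.Agent.Lib.Helper59_M11U_A6
import Cfsg.Agent.Lib.Helper74_M11U_A7
import Cfsg.Agent.Lib.Helper42_M11U_ASRG
import Cfsg.Agent.Lib.Helper43_M11U_SRGINT
import Cfsg.Agent.Lib.Helper63_M11U_SRG17
import Cfsg.Agent.Lib.Helper84_M11U_A8
import Cfsg.Agent.Lib.Helper59_M11U_A9

set_option autoImplicit false
open scoped Pointwise
open Cfsg

namespace Cfsg.Agent.S0420

open Cfsg.Agent.Lib.Helper74_M11UDefs

universe u

/-- a group with the local structure of a simple group of order 7920 has a subgroup of index 11: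
the stabiliser of a 10-clique in the graph on the 55 Sylow 3-subgroups -/
theorem exists_index_eleven {G : Type u} [Group G] [Finite G] (h : Loc G) :
    ∃ H : Subgroup G, H.index = 11 := by
  classical
  have : Fintype (Sylow 3 G) := Fintype.ofFinite _
  have hp := Cfsg.Agent.Lib.Helper63_M11U_A1.A1 h
  have hL := Cfsg.Agent.Lib.Helper63_M11U_LINV.LINV h hp
  have hi := Cfsg.Agent.Lib.Helper86_M11U_A2.A2 h hp hL
  have ha := Cfsg.Agent.Lib.Helper86_M11U_A4a.A4a h hp hi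
  have hb := Cfsg.Agent.Lib.Helper52_M11U_A4b.A4b h hp hi ha
  have hc := Cfsg.Agent.Lib.Helper52_M11U_A4c.A4c h hp hL hi ha hb
  have hn := Cfsg.Agent.Lib.Helper42_M11U_A5.A5 h hp hL
  have hv := Cfsg.Agent.Lib.Helper59_M11U_A6.A6 h hp hi ha hb
  have hl := Cfsg.Agent.Lib.Helper74_M11U_A7.A7 h hp hi ha hb hc
  obtain ⟨l, m, hs⟩ := Cfsg.Agent.Lib.Helper42_M11U_ASRG.ASRG h hp hv hn
  have hq := Cfsg.Agent.Lib.Helper84_M11U_A8.A8 hp hv hl hs (Cfsg.Agent.Lib.Helper43_M11U_SRGINT.SRGINT _) (Cfsg.Agent.Lib.Helper63_M11U_SRG17.SRG17 _)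
  obtain ⟨P⟩ : Nonempty (Sylow 3 G) := inferInstance
  obtain ⟨z, hz⟩ := hi.ex P
  obtain ⟨Q, T, hPQ, -, -, hzQ, -, -⟩ := ha.three P z hz
  exact Cfsg.Agent.Lib.Helper59_M11U_A9.A9 h hp hb hl hq P Q ⟨hPQ, z, hz, hzQ⟩

/-- Simple groups of order 7920 are all isomorphic to the concrete smallest Mathieu group. -/
theorem result {G : Type*} [Group G] [Finite G] (hG : Cfsg.IsM11 G) (d : Finset Cfsg.GolayPt) (hd : d ∈ Cfsg.dodecads) (p : Cfsg.GolayPt) (hp : p ∈ d) : Nonempty (G ≃* ↥(MulAction.stabilizer Cfsg.M24 d ⊓ MulAction.stabilizer Cfsg.M24 p)) := by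
  have hM : Cfsg.IsM11 ↥(MulAction.stabilizer Cfsg.M24 d ⊓ MulAction.stabilizer Cfsg.M24 p) :=
    ⟨Cfsg.Agent.S0388.result d hd p hp, Cfsg.Agent.S0387.result d hd p hp⟩
  exact Cfsg.Agent.Lib.Helper89_M11U_Fin.iso_model_of_exists hG d hd p hp
    (exists_index_eleven (Cfsg.Agent.Lib.Helper74_M11ULoc.loc_of_isM11 hG))
    (exists_index_eleven (Cfsg.Agent.Lib.Helper74_M11ULoc.loc_of_isM11 hM))

end Cfsg.Agent.S0420
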