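import Cfsg.Statements.S0423
import Cfsg.Agent.Lib.Helper41_J2data
import Cfsg.Agent.Lib.Helper41_J2chain
import Cfsg.Agent.Lib.Helper41_SimpleCert

set_option autoImplicit false
open Cfsg

namespace Cfsg.Agent.S0423


open Equiv Cfsg.Agent.Lib.Helper41_J2data Cfsg.Agent.Lib.Helper41_J2chain
  Cfsg.Agent.Lib.Helper41_SimpleCert

/-- the group: generated by the five generator letters -/
abbrev J : Subgroup (Perm (Fin 100)) := K 5

set_option maxRecDepth 100000 in
theorem far_card : ((Finset.univ : Finset (Fin 100)).filter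
    (fun p => p.val ≠ 0 ∧ inOrb 1 p.val = false)).card = 63 := by
  decide +kernel

theorem inOrb_zero : inOrb 1 0 = false := by decide +kernel

theorem letter_cases : ∀ k : L, k.val < 5 ∨ (inv k).val < 5 := by decide

theorem letter_mem_J (k : L) : letterP k ∈ J := by
  rcases letter_cases k with h | h
  · exact letter_mem k h
  · have h1 : letterP k = (letterP (inv k))⁻¹ := by
      rw [← letterP_inv, inv_inv]
    rw [h1]
    exact J.inv_mem (letter_mem _ h)

theorem wordP_mem_J (w : List L) : wordP w ∈ J := by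
  rw [wordP]
  apply Subgroup.list_prod_mem
  intro x hx
  rw [List.mem_map] at hx
  obtain ⟨j, -, rfl⟩ := hx
  exact letter_mem_J j

instance pretransitive_J : MulAction.IsPretransitive J (Fin 100) := by
  refine ⟨fun a b => ?_⟩
  obtain ⟨ga, hga, hga0⟩ := exists_K5 a
  obtain ⟨gb, hgb, hgb0⟩ := exists_K5 b
  refine ⟨⟨gb * ga⁻¹, J.mul_mem hgb (J.inv_mem hga)⟩, ?_⟩
  show (gb * ga⁻¹) a = b
  rw [Perm.mul_apply, ← hga0]
  simp [hgb0]

theorem K4_le_J : K 4 ≤ J := K_mono (by norm_num)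

instance preprimitive_J : MulAction.IsPreprimitive J (Fin 100) := by
  apply isPreprimitive_of_two_suborbits (0 : Fin 100)
    {p | inOrb 1 p.val = true} {p | p.val ≠ 0 ∧ inOrb 1 p.val = false}
  · intro p
    by_cases h0 : p = 0
    · exact Or.inl h0
    · rcases hb : inOrb 1 p.val with _ | _
      · exact Or.inr (Or.inr ⟨fun h => h0 (Fin.ext h), hb⟩)
      · exact Or.inr (Or.inl hb)
  · intro h
    have h1 : inOrb 1 0 = true := h
    rw [inOrb_zero] at h1
    exact Bool.false_ne_true h1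
  · intro h
    exact h.1 rfl
  · intro p hp q hq
    obtain ⟨gp, hgp, hgp1⟩ := exists_K4_orb p hp
    obtain ⟨gq, hgq, hgq1⟩ := exists_K4_orb q hq
    have hm : gq * gp⁻¹ ∈ K 4 := (K 4).mul_mem hgq ((K 4).inv_mem hgp)
    refine ⟨⟨gq * gp⁻¹, K4_le_J hm⟩, K4_fix _ hm, ?_⟩
    show (gq * gp⁻¹) p = q
    rw [Perm.mul_apply, ← hgp1]
    simp [hgq1]
  · intro p hp q hq
    obtain ⟨gp, hgp, hgp1⟩ := exists_K4_far p (fun h => hp.1 (by rw [h]; rfl)) hp.2
    obtain ⟨gq, hgq, hgq1⟩ := exists_K4_far q (fun h => hq.1 (by rw [h]; rfl)) hq.2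
    have hm : gq * gp⁻¹ ∈ K 4 := (K 4).mul_mem hgq ((K 4).inv_mem hgp)
    refine ⟨⟨gq * gp⁻¹, K4_le_J hm⟩, K4_fix _ hm, ?_⟩
    show (gq * gp⁻¹) p = q
    rw [Perm.mul_apply, ← hgp1]
    simp [hgq1]
  · have h1 : ({p : Fin 100 | inOrb 1 p.val = true} : Set (Fin 100)) =
        ((Finset.univ : Finset (Fin 100)).filter (fun p => inOrb 1 p.val = true) : Finset (Fin 100)) := by
      ext p; simp
    rw [h1, Set.ncard_coe_finset, orb_card 1 (by norm_num), Nat.card_fin]
    norm_num [orbCard]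
  · have h1 : ({p : Fin 100 | p.val ≠ 0 ∧ inOrb 1 p.val = false} : Set (Fin 100)) =
        ((Finset.univ : Finset (Fin 100)).filter
          (fun p => p.val ≠ 0 ∧ inOrb 1 p.val = false) : Finset (Fin 100)) := by
      ext p; simp
    rw [h1, Set.ncard_coe_finset, far_card, Nat.card_fin]
    norm_num

/-- the element of order 7 -/
def x7 : J := ⟨wordP (mkW [1, 2]), wordP_mem_J _⟩

theorem x7_pow_seven : x7 ^ 7 = 1 := by
  apply Subtype.ext
  show (wordP (mkW [1, 2])) ^ 7 = 1
  have h1 : mkW [1,2,1,2,1,2,1,2,1,2,1,2,1,2] = mkW [1,2] ++ (mkW [1,2] ++ (mkW [1,2] ++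
      (mkW [1,2] ++ (mkW [1,2] ++ (mkW [1,2] ++ mkW [1,2]))))) := rfl
  have h2 := isOneW_sound x7_pow
  rw [h1] at h2
  simp only [wordP_append] at h2
  rw [← h2]
  simp only [pow_succ, pow_zero, one_mul, mul_assoc]

theorem x7_fixed (ω : Fin 100) (h : x7 • ω = ω) : ω = 0 ∨ ω = 1 := by
  have h1 : (wordP (mkW [1, 2])) ω = ω := h
  have h2 := congrArg Fin.val h1
  rw [wordP_apply] at h2
  rcases x7_fix ω.val ω.isLt h2 with h3 | h3
  · exact Or.inl (Fin.ext h3)
  · exact Or.inr (Fin.ext h3)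

theorem x7_fixes_zero : x7 • (0 : Fin 100) = 0 := by
  show (wordP (mkW [1, 2])) 0 = 0
  apply Fin.ext
  rw [wordP_apply]
  exact x7_fix0

theorem wordP_flatMap (l : List ℕ) (f : ℕ → List L) :
    wordP (l.flatMap f) = (l.map fun b => wordP (f b)).prod := by
  induction l with
  | nil => rfl
  | cons b l ih => rw [List.flatMap_cons, wordP_append, ih, List.map_cons, List.prod_cons]

theorem eq_top_of_gens {Q : Type*} [Group Q] (S : Set Q) (N : Subgroup (Subgroup.closure S))
    (h : ∀ s (hs : s ∈ S), (⟨s, Subgroup.subset_closure hs⟩ : Subgroup.closure S) ∈ N) :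
    N = ⊤ := by
  rw [eq_top_iff, ← Subgroup.closure_closure_coe_preimage, Subgroup.closure_le]
  rintro ⟨g, hg⟩ hgS
  exact h g hgS

/-- the four blocks as elements of the group -/
def blockJ (b : ℕ) : J := ⟨wordP (blockW b), wordP_mem_J _⟩

theorem blockJ_mem (N : Subgroup J) (hN : N.Normal) (hx : x7 ∈ N) (b : ℕ) : blockJ b ∈ N := by
  let c : J := ⟨letterP 4, letter_mem_J 4⟩
  have hc9 : letterP 9 = (letterP 4)⁻¹ := letterP_inv 4
  have hinv : wordP (mkW [7, 6]) = (wordP (mkW [1, 2]))⁻¹ := by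
    have : mkW [7, 6] = invW (mkW [1, 2]) := by decide
    rw [this, wordP_invW]
  have h1 : blockJ 1 = x7⁻¹ := Subtype.ext hinv
  have h2 : blockJ 2 = c * x7 * c⁻¹ := by
    apply Subtype.ext
    show wordP (mkW [4, 1, 2, 9]) = letterP 4 * wordP (mkW [1, 2]) * (letterP 4)⁻¹
    have : mkW [4, 1, 2, 9] = [4] ++ (mkW [1, 2] ++ [9]) := by decide
    rw [this, wordP_append, wordP_append, wordP_cons, wordP_nil, wordP_cons, wordP_nil, hc9]
    group
  have h3 : ∀ b, 3 ≤ b → blockJ b = c * x7⁻¹ * c⁻¹ := by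
    intro b hb
    apply Subtype.ext
    show wordP (blockW b) = letterP 4 * (wordP (mkW [1, 2]))⁻¹ * (letterP 4)⁻¹
    have hb' : blockW b = mkW [4, 7, 6, 9] := by
      rcases b with _ | _ | _ | b
      · omega
      · omega
      · omega
      · rfl
    have : mkW [4, 7, 6, 9] = [4] ++ (mkW [7, 6] ++ [9]) := by decide
    rw [hb', this, wordP_append, wordP_append, wordP_cons, wordP_nil, wordP_cons, wordP_nil, hc9,
      hinv]
    group
  rcases b with _ | _ | _ | b
  · exact hx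
  · rw [h1]; exact N.inv_mem hx
  · rw [h2]; exact hN.conj_mem _ hx c
  · rw [h3 _ (by omega)]; exact hN.conj_mem _ (N.inv_mem hx) c

theorem gen_mem_N (N : Subgroup J) (hN : N.Normal) (hx : x7 ∈ N) (j : L) (hj : j.val < 5)
    (hm : letterP j ∈ J) : (⟨letterP j, hm⟩ : J) ∈ N := by
  have heq : letterP j = wordP ((ncB j.val).flatMap blockW) := by
    ext i
    rw [letterP_apply, wordP_apply]
    exact (nc_ok j hj i.val i.isLt).symm
  have h1 : (⟨letterP j, hm⟩ : J) = ((ncB j.val).map blockJ).prod := by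
    apply Subtype.ext
    rw [SubmonoidClass.coe_list_prod, List.map_map]
    show letterP j = _
    rw [heq, wordP_flatMap]
    rfl
  rw [h1]
  apply Subgroup.list_prod_mem
  intro y hy
  rw [List.mem_map] at hy
  obtain ⟨b, -, rfl⟩ := hy
  exact blockJ_mem N hN hx b

theorem key (N : Subgroup J) (hN : N.Normal) (hx : x7 ∈ N) : N = ⊤ := by
  apply eq_top_of_gens (letterP '' {j : L | j.val < 5}) N
  rintro s ⟨j, hj, rfl⟩
  exact gen_mem_N N hN hx j hj _

theorem simple_J : IsSimpleGroup J := by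
  have hcard : Nat.card J = 604800 := card_K5
  have : Finite J := Nat.finite_of_card_ne_zero (by rw [hcard]; norm_num)
  apply isSimpleGroup_of_cert (Ω := Fin 100) hcard (by rw [Nat.card_fin]) x7 x7_pow_seven
    ⟨0, x7_fixes_zero⟩ ?_ key
  have hsub : MulAction.fixedBy (Fin 100) x7 ⊆ (({0, 1} : Finset (Fin 100)) : Set (Fin 100)) := by
    intro ω hω
    rcases x7_fixed ω hω with h | h <;> simp [h]
  calc (MulAction.fixedBy (Fin 100) x7).ncard
      ≤ ((({0, 1} : Finset (Fin 100)) : Set (Fin 100))).ncard :=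
        Set.ncard_le_ncard hsub (Finset.finite_toSet _)
    _ = 2 := by rw [Set.ncard_coe_finset]; rfl
    _ ≤ 4 := by norm_num

/-- Existence of a simple group of order 604800. -/
theorem result : ∃ G : Subgroup (Equiv.Perm (Fin 100)), Cfsg.IsJ2 G :=
  ⟨J, simple_J, card_K5⟩

end Cfsg.Agent.S0423
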