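import Cfsg.Statements.S0425
import Mathlib
import Cfsg.Prelude.Def_Sporadic_a
import Cfsg.Prelude.Def_Sporadic
import Cfsg.Agent.Lib.Helper7_SteinerTree
import Cfsg.Agent.Lib.Helper7_Steiner12
import Cfsg.Agent.S0419

set_option autoImplicit false
open Cfsg

namespace Cfsg.Agent.S0425

open scoped Pointwise

open Cfsg.Agent.Lib.Helper7_SteinerTree Cfsg.Agent.Lib.Helper7_Steiner12 in
/-- the pointwise action of a permutation on a set system is the transport `tr` -/
theorem smul_eq_tr {α : Type*} [DecidableEq α] (g : Equiv.Perm α) (B : Set (Finset α)) :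
    g • B = tr g B := by
  ext c
  simp only [tr, Set.mem_smul_set, Set.mem_image]
  constructor
  · rintro ⟨b, hb, rfl⟩
    exact ⟨b, hb, rfl⟩
  · rintro ⟨b, hb, rfl⟩
    exact ⟨b, hb, rfl⟩

open Cfsg.Agent.Lib.Helper7_SteinerTree Cfsg.Agent.Lib.Helper7_Steiner12 in
theorem transitive5 {α : Type*} [Fintype α] [DecidableEq α] (hα : Fintype.card α = 12)
    {B : Set (Finset α)} (hB : Cfsg.IsSteinerSystem 5 6 B) (x y : Fin 5 ↪ α) :
    ∃ g : Cfsg.setSystemAut B, g • x = y := by
  obtain ⟨e, hex, he⟩ := exists_equiv12 hα hB x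
  obtain ⟨e', hey, he'⟩ := exists_equiv12 hα hB y
  have hmem : e.symm.trans e' ∈ Cfsg.setSystemAut B := by
    rw [MulAction.mem_stabilizer_iff, smul_eq_tr, tr_trans]
    nth_rewrite 1 [← he]
    rw [tr_symm_tr, he']
  refine ⟨⟨e.symm.trans e', hmem⟩, ?_⟩
  ext i
  show e' (e.symm (x i)) = y i
  rw [← hex i, Equiv.symm_apply_apply, hey i]

open Cfsg.Agent.Lib.Helper7_SteinerTree Cfsg.Agent.Lib.Helper7_Steiner12 in
theorem sharp5 {α : Type*} [Fintype α] [DecidableEq α] (hα : Fintype.card α = 12)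
    {B : Set (Finset α)} (hB : Cfsg.IsSteinerSystem 5 6 B) (x : Fin 5 ↪ α) :
    MulAction.stabilizer (Cfsg.setSystemAut B) x = ⊥ := by
  rw [Subgroup.eq_bot_iff_forall]
  intro g hg
  obtain ⟨e, hex, he⟩ := exists_equiv12 hα hB x
  have hgB : tr (g : Equiv.Perm α) B = B := by
    rw [← smul_eq_tr]; exact g.2
  have hgx : ∀ i : Fin 5, (g : Equiv.Perm α) (x i) = x i := by
    intro i
    have := DFunLike.congr_fun (MulAction.mem_stabilizer_iff.mp hg) i
    exact this
  have h1 : (e.trans (g : Equiv.Perm α)).trans e.symm = (1 : Equiv.Perm (Fin 12)) := by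
    apply rigid12
    · rw [tr_trans, tr_trans, he, hgB]
      nth_rewrite 1 [← he]
      rw [tr_symm_tr]
    · intro i hi
      have hi' : i = Fin.castLE (by norm_num) (⟨i.val, hi⟩ : Fin 5) := by
        apply Fin.ext; simp
      rw [Equiv.trans_apply, Equiv.trans_apply, Equiv.symm_apply_eq]
      rw [hi', hex, hgx]
  apply Subtype.ext
  ext a
  have := DFunLike.congr_fun h1 (e.symm a)
  rw [Equiv.trans_apply, Equiv.trans_apply, Equiv.apply_symm_apply, Equiv.Perm.one_apply,
    Equiv.symm_apply_eq, Equiv.apply_symm_apply] at this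
  simpa using this

/-- Aut of an S(5, 6, 12) is simple of order 95040 and sharply 5-transitive on points. -/
theorem result {α : Type*} [Fintype α] [DecidableEq α] (hα : Fintype.card α = 12) {B : Set (Finset α)} (hB : Cfsg.IsSteinerSystem 5 6 B) : Cfsg.IsM12 (Cfsg.setSystemAut B) ∧ MulAction.IsMultiplyPretransitive (Cfsg.setSystemAut B) α 5 ∧ ∀ x : Fin 5 ↪ α, MulAction.stabilizer (Cfsg.setSystemAut B) x = ⊥ := by
  have : MulAction.IsMultiplyPretransitive (Cfsg.setSystemAut B) α 5 :=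
    MulAction.isMultiplyPretransitive_iff.mpr (transitive5 hα hB)
  exact ⟨Cfsg.Agent.S0419.result hα (Cfsg.setSystemAut B) (sharp5 hα hB), this, sharp5 hα hB⟩

end Cfsg.Agent.S0425
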