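import Cfsg.Statements.S0433
import Cfsg.Agent.Lib.Helper8_GolayEven

set_option autoImplicit false
open Cfsg

namespace Cfsg.Agent.S0433

open Cfsg.Agent.Lib.Helper8_GolayEven

/-- the sum over a codeword support of a vector of the lattice generating set is divisible by 4 -/
theorem four_dvd_sum (w : GolayPt → ZMod 2) (hw : w ∈ golayCode) (x : GolayPt → ℤ) (m : ℤ)
    (h1 : ∀ i, x i ≡ m [ZMOD 2])
    (h3 : ∀ k : ℤ, (Finset.univ.filter fun i => x i ≡ k [ZMOD 4]) ∈
      supports (golayCode : Set (GolayPt → ZMod 2))) :
    (4 : ℤ) ∣ ∑ i ∈ support₂ w, x i := by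
  obtain ⟨v, hv, hvS⟩ := h3 (m + 2)
  -- pointwise description mod 4
  have hpt : ∀ i, ((x i : ℤ) : ZMod 4) = (m : ZMod 4) + 2 * (if i ∈ support₂ v then 1 else 0) := by
    intro i
    have hi := h1 i
    by_cases hmem : i ∈ support₂ v
    · rw [if_pos hmem]
      rw [hvS] at hmem
      simp only [Finset.mem_filter, Finset.mem_univ, true_and] at hmem
      have := (ZMod.intCast_eq_intCast_iff _ _ 4).mpr hmem
      rw [this]; push_cast; ring
    · rw [if_neg hmem]
      rw [hvS] at hmem
      simp only [Finset.mem_filter, Finset.mem_univ, true_and] at hmem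
      have h4 : x i ≡ m [ZMOD 4] := by
        unfold Int.ModEq at hi hmem ⊢
        omega
      have := (ZMod.intCast_eq_intCast_iff _ _ 4).mpr h4
      rw [this]; ring
  have hcast : ((∑ i ∈ support₂ w, x i : ℤ) : ZMod 4) = 0 := by
    push_cast
    simp only [hpt, Finset.sum_add_distrib, Finset.sum_const, ← Finset.mul_sum, Finset.sum_boole,
      nsmul_eq_mul]
    obtain ⟨a, ha⟩ := four_dvd_card w hw
    have hb := even_card_inter w v hw hv
    obtain ⟨b, hb⟩ := hb
    have hfil : (Finset.filter (fun i => i ∈ support₂ v) (support₂ w)) = support₂ w ∩ support₂ v := by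
      ext i; simp [Finset.mem_inter]
    rw [hfil, ha, hb]
    push_cast
    have h40 : (4 : ZMod 4) = 0 := by decide
    have : (2 : ZMod 4) * ((b : ZMod 4) + b) = 4 * b := by ring
    rw [this, h40]; ring
  exact (ZMod.intCast_zmod_eq_zero_iff_dvd _ 4).mp hcast

theorem leechSet_sign (c : Finset Cfsg.GolayPt)
    (hc : c ∈ Cfsg.supports (Cfsg.golayCode : Set (Cfsg.GolayPt → ZMod 2)))
    (x : Cfsg.GolayPt → ℤ) (hx : x ∈ Cfsg.leechSet) :
    (fun i => if i ∈ c then -x i else x i) ∈ Cfsg.leechSet := by
  obtain ⟨w, hw, rfl⟩ := hc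
  obtain ⟨m, h1, h2, h3⟩ := hx
  refine ⟨m, fun i => ?_, ?_, fun k => ?_⟩
  · have := h1 i
    show (if i ∈ support₂ w then -x i else x i) ≡ m [ZMOD 2]
    split_ifs
    · unfold Int.ModEq at this ⊢; omega
    · exact this
  · have hsum : ∑ i, (if i ∈ support₂ w then -x i else x i) =
        ∑ i, x i - 2 * ∑ i ∈ support₂ w, x i := by
      have : ∀ i, (if i ∈ support₂ w then -x i else x i) =
          x i - 2 * (if i ∈ support₂ w then x i else 0) := by
        intro i; split_ifs <;> ring
      simp only [this, Finset.sum_sub_distrib, ← Finset.mul_sum]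
      congr 2
      rw [Finset.sum_ite_mem, Finset.univ_inter]
    rw [hsum]
    obtain ⟨a, ha⟩ := four_dvd_sum w hw x m h1 h3
    rw [ha]
    unfold Int.ModEq at h2 ⊢
    omega
  · -- the residue classes
    by_cases hodd : k % 2 = 1 ∧ m % 2 = 1
    · -- symmetric difference
      obtain ⟨v, hv, hvS⟩ := h3 k
      refine ⟨w + v, golayCode.add_mem hw hv, ?_⟩
      rw [support_add]
      ext i
      have hi := h1 i
      have hiv : i ∈ support₂ v ↔ x i ≡ k [ZMOD 4] := by
        rw [hvS]; simp
      simp only [Finset.mem_symmDiff, Finset.mem_filter, Finset.mem_univ, true_and]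
      rw [hiv]
      by_cases hiw : i ∈ support₂ w
      · simp only [hiw, if_true, true_and, not_true_eq_false, and_false, or_false]
        unfold Int.ModEq at hi ⊢
        omega
      · simp only [hiw, if_false, false_and, not_false_eq_true, and_true, false_or]
    · obtain ⟨v, hv, hvS⟩ := h3 k
      refine ⟨v, hv, ?_⟩
      rw [hvS]
      ext i
      have hi := h1 i
      simp only [Finset.mem_filter, Finset.mem_univ, true_and]
      split_ifs
      · unfold Int.ModEq at hi ⊢
        omega
      · rfl

/-- Sign changes on the support of a codeword preserve the lattice. -/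
theorem result (c : Finset Cfsg.GolayPt) (hc : c ∈ Cfsg.supports (Cfsg.golayCode : Set (Cfsg.GolayPt → ZMod 2))) (x : Cfsg.GolayPt → ℤ) (hx : x ∈ Cfsg.leechLattice) : (fun i => if i ∈ c then -x i else x i) ∈ Cfsg.leechLattice := by
  unfold Cfsg.leechLattice at hx ⊢
  induction hx using AddSubgroup.closure_induction with
  | mem y hy => exact AddSubgroup.subset_closure (leechSet_sign c hc y hy)
  | zero =>
    have : (fun i => if i ∈ c then -(0 : GolayPt → ℤ) i else (0 : GolayPt → ℤ) i) = 0 := by
      funext i; simp
    rw [this]; exact zero_mem _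
  | add y z _ _ hy hz =>
    have : (fun i => if i ∈ c then -(y + z) i else (y + z) i) =
        (fun i => if i ∈ c then -y i else y i) + (fun i => if i ∈ c then -z i else z i) := by
      funext i
      simp only [Pi.add_apply]
      split_ifs <;> ring
    rw [this]; exact add_mem hy hz
  | neg y _ hy =>
    have : (fun i => if i ∈ c then -(-y) i else (-y) i) =
        -(fun i => if i ∈ c then -y i else y i) := by
      funext i
      simp only [Pi.neg_apply]
      split_ifs <;> ring
    rw [this]; exact neg_mem hy

end Cfsg.Agent.S0433
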