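import Cfsg.Statements.S0436
import Cfsg.Agent.Lib.Helper8_ThreeTransp

set_option autoImplicit false
open Cfsg

namespace Cfsg.Agent.S0436

open Cfsg.Agent.Lib.Helper8_ThreeTransp

/-- For distinct commuting members a, b of a set of 3-transpositions E, a member e of E centralises the product a * b if and only if it centralises both a and b. -/
theorem result {G : Type*} [Group G] {E : Set G} (hE : Cfsg.IsThreeTranspositionSet E) {a b e : G} (ha : a ∈ E) (hb : b ∈ E) (he : e ∈ E) (hab : a ≠ b) (hcomm : Commute a b) : Commute e (a * b) ↔ (Commute e a ∧ Commute e b) := by
  constructor
  · intro h
    have haa := mem_sq hE ha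
    have hbb := mem_sq hE hb
    have hee := mem_sq hE he
    -- from e (ab) = (ab) e we get  b e b = a e a
    have key : b * e * b = a * e * a := by
      have h1 : e * (a * b) = a * b * e := h.eq
      -- a * (e * (a*b)) * b = a * (a * b * e) * b
      have h2 : a * (e * (a * b)) * b = a * (a * b * e) * b := by rw [h1]
      have h3 : a * (e * (a * b)) * b = a * e * a := by
        calc a * (e * (a * b)) * b = a * e * a * (b * b) := by simp only [mul_assoc]
          _ = a * e * a := by rw [hbb, mul_one]
      have h4 : a * (a * b * e) * b = b * e * b := by
        calc a * (a * b * e) * b = (a * a) * b * e * b := by simp only [mul_assoc]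
          _ = b * e * b := by rw [haa, one_mul]
      rw [← h4, ← h2, h3]
    -- case analysis
    rcases commute_or_braid hE he ha with hea | hea
    · refine ⟨hea, ?_⟩
      -- a e a = e so b e b = e
      have h1 : a * e * a = e := by
        rw [← hea.eq, mul_assoc, haa, mul_one]
      rw [h1] at key
      -- b e b = e → e b = b e
      have : b * e = e * b := by
        calc b * e = b * e * (b * b) := by rw [hbb, mul_one]
          _ = (b * e * b) * b := by simp only [mul_assoc]
          _ = e * b := by rw [key]
      exact this.symm
    · rcases commute_or_braid hE he hb with heb | heb
      · -- b e b = e so a e a = e, so e commutes with a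
        have h1 : b * e * b = e := by
          rw [← heb.eq, mul_assoc, hbb, mul_one]
        rw [h1] at key
        have : a * e = e * a := by
          calc a * e = a * e * (a * a) := by rw [haa, mul_one]
            _ = (a * e * a) * a := by simp only [mul_assoc]
            _ = e * a := by rw [← key]
        exact ⟨this.symm, heb⟩
      · -- e a e = a e a = b e b = e b e, so a = b
        exfalso
        apply hab
        have h1 : e * a * e = e * b * e := by
          rw [hea, heb, key]
        have h2 : e * (e * a * e) * e = e * (e * b * e) * e := by rw [h1]
        have h3 : ∀ x : G, e * (e * x * e) * e = x := by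
          intro x
          calc e * (e * x * e) * e = (e * e) * x * (e * e) := by simp only [mul_assoc]
            _ = x := by rw [hee, one_mul, mul_one]
        rw [h3, h3] at h2
        exact h2
  · rintro ⟨h1, h2⟩
    exact h1.mul_right h2

end Cfsg.Agent.S0436
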