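import Cfsg.Statements.S0437
import Cfsg.Agent.S0436

set_option autoImplicit false
open Cfsg

namespace Cfsg.Agent.S0437

open Cfsg.Agent.Lib.Helper8_ThreeTransp

/-- For three distinct, pairwise commuting members a, b, c of a set of 3-transpositions E, a member e of E centralises a * b * c if and only if it centralises each of a, b and c. -/
theorem result {G : Type*} [Group G] {E : Set G} (hE : Cfsg.IsThreeTranspositionSet E) {a b c e : G} (ha : a ∈ E) (hb : b ∈ E) (hc : c ∈ E) (he : e ∈ E) (hab : a ≠ b) (hac : a ≠ c) (hbc : b ≠ c) (h₁ : Commute a b) (h₂ : Commute a c) (h₃ : Commute b c) : Commute e (a * b * c) ↔ (Commute e a ∧ Commute e b ∧ Commute e c) := by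
  constructor
  · intro h
    have haa := mem_sq hE ha
    have hbb := mem_sq hE hb
    have hcc := mem_sq hE hc
    have hee := mem_sq hE he
    -- if e commutes with one of them, reduce to S0436
    by_cases hea : Commute e a
    · -- e commutes with b * c
      have h1 : Commute e (b * c) := by
        have : b * c = a * (a * b * c) := by
          simp only [← mul_assoc, haa, one_mul]
        rw [this]
        exact hea.mul_right h
      have := (Cfsg.Agent.S0436.result hE hb hc he hbc h₃).1 h1
      exact ⟨hea, this.1, this.2⟩
    by_cases heb : Commute e b
    · have h1 : Commute e (a * c) := by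
        have : a * c = b * (a * b * c) := by
          rw [h₁.eq]
          simp only [← mul_assoc, hbb, one_mul]
        rw [this]
        exact heb.mul_right h
      have := (Cfsg.Agent.S0436.result hE ha hc he hac h₂).1 h1
      exact ⟨this.1, heb, this.2⟩
    by_cases hec : Commute e c
    · have h1 : Commute e (a * b) := by
        have : a * b = (a * b * c) * c := by
          simp only [mul_assoc, hcc, mul_one]
        rw [this]
        exact h.mul_right hec
      have := (Cfsg.Agent.S0436.result hE ha hb he hab h₁).1 h1
      exact ⟨this.1, this.2, hec⟩
    -- now e commutes with none: braid relations with all three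
    exfalso
    have bra : e * a * e = a * e * a := (commute_or_braid hE he ha).resolve_left hea
    have brb : e * b * e = b * e * b := (commute_or_braid hE he hb).resolve_left heb
    have brc : e * c * e = c * e * c := (commute_or_braid hE he hc).resolve_left hec
    -- e (abc) = (abc) e  gives  b a e a b = c e c
    have key : b * (a * e * a) * b = c * e * c := by
      have h1 : e * (a * b * c) = a * b * c * e := h.eq
      have h2 : b * (a * (e * (a * b * c))) * c = b * (a * (a * b * c * e)) * c := by rw [h1]
      have h3 : b * (a * (e * (a * b * c))) * c = b * (a * e * a) * b := by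
        calc b * (a * (e * (a * b * c))) * c = b * (a * e * a) * b * (c * c) := by
              simp only [mul_assoc]
          _ = b * (a * e * a) * b := by rw [hcc, mul_one]
      have h4 : b * (a * (a * b * c * e)) * c = c * e * c := by
        calc b * (a * (a * b * c * e)) * c = b * ((a * a) * b) * c * e * c := by
              simp only [mul_assoc]
          _ = c * e * c := by rw [haa, one_mul, hbb, one_mul]
      rw [← h3, h2, h4]
    -- b (e a e) b = (b e b)(b a b)(b e b) = (e b e) a (e b e)
    have h5 : b * (a * e * a) * b = e * b * e * a * (e * b * e) := by
      rw [← bra, brb]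
      have hbab : b * a * b = a := by
        rw [← h₁.eq, mul_assoc, hbb, mul_one]
      calc b * (e * a * e) * b = b * e * (b * b) * a * (b * b) * e * b := by
            rw [hbb]; simp only [mul_one, mul_assoc]
        _ = b * e * b * (b * a * b) * (b * e * b) := by simp only [mul_assoc]
        _ = b * e * b * a * (b * e * b) := by rw [hbab]
    -- so e b e a e b e = e c e → b (e a e) b = c
    have h6 : b * (e * a * e) * b = c := by
      have h7 : e * b * e * a * (e * b * e) = e * c * e := by
        rw [← h5, key, brc]
      have h8 : e * (e * b * e * a * (e * b * e)) * e = e * (e * c * e) * e := by rw [h7]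
      have h9 : e * (e * b * e * a * (e * b * e)) * e = b * (e * a * e) * b := by
        calc e * (e * b * e * a * (e * b * e)) * e
            = (e * e) * b * e * a * e * b * (e * e) := by simp only [mul_assoc]
          _ = b * (e * a * e) * b := by rw [hee]; simp only [one_mul, mul_one, mul_assoc]
      have h10 : e * (e * c * e) * e = c := by
        calc e * (e * c * e) * e = (e * e) * c * (e * e) := by simp only [mul_assoc]
          _ = c := by rw [hee, one_mul, mul_one]
      rw [← h9, h8, h10]
    -- e a e = b c b = c
    have h11 : e * a * e = c := by
      have h12 : b * (b * (e * a * e) * b) * b = b * c * b := by rw [h6]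
      have h13 : b * (b * (e * a * e) * b) * b = e * a * e := by
        calc b * (b * (e * a * e) * b) * b = (b * b) * (e * a * e) * (b * b) := by
              simp only [mul_assoc]
          _ = e * a * e := by rw [hbb, one_mul, mul_one]
      have h14 : b * c * b = c := by
        rw [h₃.eq, mul_assoc, hbb, mul_one]
      rw [← h13, h12, h14]
    -- a e a = c → e = a c a = c
    have h15 : e = c := by
      rw [bra] at h11
      have h16 : a * (a * e * a) * a = a * c * a := by rw [h11]
      have h17 : a * (a * e * a) * a = e := by
        calc a * (a * e * a) * a = (a * a) * e * (a * a) := by simp only [mul_assoc]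
          _ = e := by rw [haa, one_mul, mul_one]
      have h18 : a * c * a = c := by
        rw [h₂.eq, mul_assoc, haa, mul_one]
      rw [← h17, h16, h18]
    apply hec
    rw [h15]
  · rintro ⟨h1, h2, h3⟩
    exact (h1.mul_right h2).mul_right h3

end Cfsg.Agent.S0437
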