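import Cfsg.Statements.S0440
import Cfsg.Agent.Lib.Helper13_SympTrans
import Cfsg.Agent.S0765

set_option autoImplicit false
open Cfsg

namespace Cfsg.Agent.S0440

open Matrix Cfsg.Agent.Lib.Helper13_Symp Cfsg.Agent.Lib.Helper13_SympTrans

variable (n : ℕ)

local notation "V" => (Fin n ⊕ Fin n → ZMod 2)
local notation "f" => Cfsg.sympForm n (ZMod 2)

theorem z2_add_self (a : ZMod 2) : a + a = 0 := by revert a; decide
theorem z2_neg (a : ZMod 2) : -a = a := by revert a; decide
theorem z2_cases (a : ZMod 2) : a = 0 ∨ a = 1 := by revert a; decide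

/-- the transvection with direction `w` -/
noncomputable def T (w : V) : Matrix.symplecticGroup (Fin n) (ZMod 2) := transv n w 1

theorem T_mulVec (w x : V) : (T n w).1 *ᵥ x = x + f x w • w := by
  have := transv_mulVec n w (1 : ZMod 2) x
  rw [one_mul] at this
  exact this

theorem sp_ext {g h : Matrix.symplecticGroup (Fin n) (ZMod 2)}
    (hgh : ∀ x : V, g.1 *ᵥ x = h.1 *ᵥ x) : g = h :=
  Subtype.ext (Matrix.ext_iff_mulVec.mpr hgh)

theorem f_symm (u v : V) : f u v = f v u := by
  rw [sympForm_swap, z2_neg]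

theorem T_sq (w : V) : T n w * T n w = 1 := by
  apply sp_ext
  intro x
  rw [Submonoid.coe_mul, ← Matrix.mulVec_mulVec, T_mulVec, T_mulVec]
  rw [sympForm_add_left, sympForm_smul_left, sympForm_self, mul_zero, add_zero, add_assoc,
    ← add_smul, z2_add_self, zero_smul, add_zero]
  simp

theorem T_inv (w : V) : (T n w)⁻¹ = T n w :=
  inv_eq_of_mul_eq_one_left (T_sq n w)

theorem T_ne_one {w : V} (hw : w ≠ 0) : T n w ≠ 1 := by
  intro h
  obtain ⟨y, hy⟩ := exists_sympForm_ne_zero n hw
  have h1 : (T n w).1 *ᵥ y = y := by rw [h]; simp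
  rw [T_mulVec, f_symm] at h1
  have h2 : f w y = 1 := (z2_cases _).resolve_left hy
  rw [h2, one_smul] at h1
  exact hw (by simpa using h1)

theorem T_conj (g : Matrix.symplecticGroup (Fin n) (ZMod 2)) (w : V) :
    g * T n w * g⁻¹ = T n (g.1 *ᵥ w) := by
  rw [mul_inv_eq_iff_eq_mul]
  apply sp_ext
  intro x
  rw [Submonoid.coe_mul, Submonoid.coe_mul, ← Matrix.mulVec_mulVec, ← Matrix.mulVec_mulVec,
    T_mulVec, T_mulVec, Matrix.mulVec_add, Matrix.mulVec_smul,
    sympForm_mulVec_mulVec_of_mem n g.2]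

theorem T_commute {u v : V} (h : f u v = 0) : Commute (T n u) (T n v) := by
  have h1 := T_conj n (T n u) v
  rw [T_mulVec, f_symm, h, zero_smul, add_zero, T_inv] at h1
  -- T u * T v * T u = T v
  show T n u * T n v = T n v * T n u
  calc T n u * T n v = T n u * T n v * (T n u * T n u) := by rw [T_sq, mul_one]
    _ = (T n u * T n v * T n u) * T n u := by simp only [mul_assoc]
    _ = T n v * T n u := by rw [h1]

theorem T_braid {u v : V} (h : f u v = 1) : T n u * T n v * T n u = T n v * T n u * T n v := by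
  have h1 := T_conj n (T n u) v
  rw [T_mulVec, f_symm, h, one_smul, T_inv] at h1
  have h2 := T_conj n (T n v) u
  rw [T_mulVec, h, one_smul, T_inv] at h2
  rw [h1, h2, add_comm]

theorem T_sub_one (w : V) : (T n w).1 - 1 = vecMulVec w (Matrix.J (Fin n) (ZMod 2) *ᵥ w) := by
  show Cfsg.sympTransvection n w 1 - 1 = _
  unfold Cfsg.sympTransvection
  rw [one_smul, add_sub_cancel_left]

theorem rank_T {w : V} (hw : w ≠ 0) : ((T n w).1 - 1).rank = 1 := by
  apply le_antisymm
  · rw [T_sub_one]
    exact rank_vecMulVec_le _ _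
  · -- the rank is nonzero
    rw [Nat.one_le_iff_ne_zero]
    intro h0
    unfold Matrix.rank at h0
    rw [Submodule.finrank_eq_zero] at h0
    obtain ⟨y, hy⟩ := exists_sympForm_ne_zero n hw
    have h2 : f y w = 1 := by
      rw [f_symm]; exact (z2_cases _).resolve_left hy
    have h3 : ((T n w).1 - 1) *ᵥ y = w := by
      rw [Matrix.sub_mulVec, T_mulVec, Matrix.one_mulVec, h2, one_smul, add_sub_cancel_left]
    have h4 : ((T n w).1 - 1) *ᵥ y ∈ LinearMap.range ((T n w).1 - 1).mulVecLin :=
      ⟨y, rfl⟩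
    rw [h0, Submodule.mem_bot, h3] at h4
    exact hw h4

theorem exists_T_of_rank (g : Matrix.symplecticGroup (Fin n) (ZMod 2))
    (hg : (g.1 - 1).rank = 1) : ∃ w : V, w ≠ 0 ∧ g = T n w := by
  unfold Matrix.rank at hg
  rw [finrank_eq_one_iff'] at hg
  obtain ⟨⟨a, x0, hx0⟩, ha, hspan⟩ := hg
  have ha0 : a ≠ 0 := by
    intro h
    apply ha
    apply Subtype.ext
    exact h
  have hx0' : (g.1 - 1) *ᵥ x0 = a := hx0
  -- every value is 0 or a
  have hval : ∀ x : V, (g.1 - 1) *ᵥ x = 0 ∨ (g.1 - 1) *ᵥ x = a := by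
    intro x
    obtain ⟨c, hc⟩ := hspan ⟨(g.1 - 1) *ᵥ x, ⟨x, rfl⟩⟩
    have hc' : c • a = (g.1 - 1) *ᵥ x := congrArg Subtype.val hc
    rcases z2_cases c with rfl | rfl
    · left; rw [← hc', zero_smul]
    · right; rw [← hc', one_smul]
  have hgx : ∀ x : V, g.1 *ᵥ x = x + (g.1 - 1) *ᵥ x := by
    intro x
    rw [Matrix.sub_mulVec, Matrix.one_mulVec, add_sub_cancel]
  -- values are isotropic to each other
  have hiso : ∀ x y : V, f ((g.1 - 1) *ᵥ x) ((g.1 - 1) *ᵥ y) = 0 := by
    intro x y
    rcases hval x with h | h <;> rcases hval y with h' | h' <;> rw [h, h'] <;>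
      simp [sympForm_self]
  have hkey : ∀ x y : V, f x ((g.1 - 1) *ᵥ y) = f ((g.1 - 1) *ᵥ x) y := by
    intro x y
    have h1 := sympForm_mulVec_mulVec_of_mem n g.2 x y
    rw [hgx x, hgx y, sympForm_add_left, sympForm_add_right, sympForm_add_right, hiso] at h1
    -- f x y + f x Ay + (f Ax y + 0) = f x y
    have h2 : f x ((g.1 - 1) *ᵥ y) + f ((g.1 - 1) *ᵥ x) y = 0 := by
      have h3 : f x y + (f x ((g.1 - 1) *ᵥ y) + f ((g.1 - 1) *ᵥ x) y) = f x y + 0 := by
        rw [add_zero, add_assoc] at h1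
        rw [add_zero]
        exact h1
      exact add_left_cancel h3
    have h4 := congrArg (fun t => t + f ((g.1 - 1) *ᵥ x) y) h2
    simp only [add_assoc, z2_add_self, add_zero, zero_add] at h4
    exact h4
  have hxa : ∀ x : V, f x a = f ((g.1 - 1) *ᵥ x) x0 := by
    intro x
    rw [← hx0', hkey]
  obtain ⟨x1, hx1⟩ := exists_sympForm_ne_zero n ha0
  have hx1' : f x1 a = 1 := by
    rw [f_symm]; exact (z2_cases _).resolve_left hx1
  have hax0 : f a x0 = 1 := by
    have h1 := hxa x1
    rw [hx1'] at h1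
    rcases hval x1 with h | h
    · rw [h, sympForm_zero_left] at h1
      exact absurd h1 one_ne_zero
    · rw [h] at h1; exact h1.symm
  refine ⟨a, ha0, ?_⟩
  apply sp_ext
  intro x
  rw [hgx, T_mulVec]
  congr 1
  rcases hval x with h | h
  · rw [h, hxa, h, sympForm_zero_left, zero_smul]
  · rw [h, hxa, h, hax0, one_smul]

/-- In the symplectic group in dimension 2n ≥ 2 over the field with two elements, the elements g for which g - 1 has rank one (the symplectic transvections) form a conjugacy class of 3-transpositions generating the group. -/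
theorem result (n : ℕ) (hn : 1 ≤ n) : Cfsg.IsThreeTranspositionClass {g : Matrix.symplecticGroup (Fin n) (ZMod 2) | ((g : Matrix (Fin n ⊕ Fin n) (Fin n ⊕ Fin n) (ZMod 2)) - 1).rank = 1} := by
  have hD : ∀ g : Matrix.symplecticGroup (Fin n) (ZMod 2),
      g ∈ {g : Matrix.symplecticGroup (Fin n) (ZMod 2) |
        ((g : Matrix (Fin n ⊕ Fin n) (Fin n ⊕ Fin n) (ZMod 2)) - 1).rank = 1} ↔
      ∃ w : (Fin n ⊕ Fin n → ZMod 2), w ≠ 0 ∧ g = T n w := by
    intro g
    constructor
    · intro hg
      exact exists_T_of_rank n g hg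
    · rintro ⟨w, hw, rfl⟩
      exact rank_T n hw
  refine ⟨⟨?_, ?_⟩, ?_, ?_⟩
  · -- order two
    intro d hd
    obtain ⟨w, hw, rfl⟩ := (hD d).mp hd
    have : Fact (Nat.Prime 2) := ⟨Nat.prime_two⟩
    apply orderOf_eq_prime
    · rw [pow_two]; exact T_sq n w
    · exact T_ne_one n hw
  · -- products
    intro d hd e he
    obtain ⟨u, hu, rfl⟩ := (hD d).mp hd
    obtain ⟨v, hv, rfl⟩ := (hD e).mp he
    rcases z2_cases (Cfsg.sympForm n (ZMod 2) u v) with h | h
    · left
      rw [(T_commute n h).mul_pow, pow_two, pow_two, T_sq, T_sq, mul_one]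
    · right
      have hb := T_braid n h
      calc (T n u * T n v) ^ 3 = (T n u * T n v * T n u) * (T n v * T n u * T n v) := by
            simp only [pow_succ, pow_zero, one_mul, mul_assoc]
        _ = (T n v * T n u * T n v) * (T n v * T n u * T n v) := by rw [hb]
        _ = T n v * T n u * (T n v * T n v) * T n u * T n v := by simp only [mul_assoc]
        _ = T n v * (T n u * T n u) * T n v := by rw [T_sq, mul_one]; simp only [mul_assoc]
        _ = 1 := by rw [T_sq, mul_one, T_sq]
  · -- single conjugacy class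
    let w0 : (Fin n ⊕ Fin n → ZMod 2) := Pi.single (Sum.inl ⟨0, hn⟩) 1
    have hw0 : w0 ≠ 0 := by
      intro h
      have := congrFun h (Sum.inl ⟨0, hn⟩)
      simp [w0] at this
    refine ⟨T n w0, (hD _).mpr ⟨w0, hw0, rfl⟩, ?_⟩
    ext d
    rw [hD]
    show _ ↔ IsConj (T n w0) d
    rw [isConj_iff]
    constructor
    · rintro ⟨w, hw, rfl⟩
      obtain ⟨A, -, hA⟩ := exists_transv_map n w0 w hw0 hw
      exact ⟨A, by rw [T_conj, hA]⟩
    · rintro ⟨c, rfl⟩
      refine ⟨c.1 *ᵥ w0, ?_, T_conj n c w0⟩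
      intro h
      apply hw0
      have h1 : (c⁻¹ * c).1 *ᵥ w0 = 0 := by
        rw [Submonoid.coe_mul, ← Matrix.mulVec_mulVec, h, Matrix.mulVec_zero]
      rw [inv_mul_cancel] at h1
      simpa using h1
  · -- generation
    rw [eq_top_iff, ← Cfsg.Agent.S0765.result n]
    rw [Subgroup.closure_le]
    rintro A ⟨w, c, hA⟩
    rcases z2_cases c with rfl | rfl
    · have : A = 1 := by
        apply Subtype.ext
        rw [hA]
        unfold Cfsg.sympTransvection
        simp
      rw [this]; exact one_mem _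
    · by_cases hw : w = 0
      · have : A = 1 := by
          apply Subtype.ext
          rw [hA, hw]
          unfold Cfsg.sympTransvection
          simp
        rw [this]; exact one_mem _
      · apply Subgroup.subset_closure
        rw [hD]
        exact ⟨w, hw, Subtype.ext hA⟩

end Cfsg.Agent.S0440
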