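import Mathlib
import Cfsg.Statements.S0441
import Cfsg.Agent.S5346
import Cfsg.Agent.S5352
import Cfsg.Agent.S5353
import Cfsg.Agent.Lib.Helper1_Cores
import Cfsg.Agent.Lib.Helper89_Prim
import Cfsg.Agent.Lib.Helper89_RankThree
import Cfsg.Agent.Lib.Helper89_TTClass
import Cfsg.Agent.Lib.Helper89_TTQuasi
import Cfsg.Agent.Lib.Helper89_WidthOne
import Cfsg.Agent.Lib.Helper89_InvolSylow

set_option autoImplicit false
open Cfsg

namespace Cfsg.Agent.S0441

open Cfsg.Agent.Lib.Helper89_TTClass Cfsg.Agent.Lib.Helper89_TTQuasi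
  Cfsg.Agent.Lib.Helper89_InvolSylow Cfsg.Agent.Lib.Helper89_Prim
  Cfsg.Agent.Lib.Helper89_RankThree Cfsg.Agent.Lib.Helper89_WidthOne

open scoped commutatorElement

variable {G : Type*} [Group G]

/-- If the commutator subgroup is non-abelian simple, every normal `p`-subgroup is central. -/
theorem pCore_le_center_of_simple [Finite G] (hsimple : IsSimpleGroup (commutator G))
    (hnonab : ∃ x y : commutator G, x * y ≠ y * x) (p : ℕ) [hp : Fact p.Prime] :
    Cfsg.pCore p G ≤ Subgroup.center G := by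
  have hN : (Cfsg.pCore p G).Normal := Cfsg.Agent.Lib.Helper1_Cores.pCore_normal p
  have hn : ((Cfsg.pCore p G).subgroupOf (commutator G)).Normal := inferInstance
  rcases hn.eq_bot_or_eq_top with h | h
  · rw [Subgroup.subgroupOf_eq_bot] at h
    have h1 : ⁅Cfsg.pCore p G, (⊤ : Subgroup G)⁆ ≤ Cfsg.pCore p G ⊓ commutator G :=
      le_inf (Subgroup.commutator_le_left _ _)
        (Subgroup.commutator_mono le_top le_rfl)
    rw [h.eq_bot, le_bot_iff, Subgroup.commutator_eq_bot_iff_le_centralizer] at h1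
    rw [Subgroup.coe_top, Subgroup.centralizer_univ] at h1
    exact h1
  · exfalso
    have hle : commutator G ≤ Cfsg.pCore p G := Subgroup.subgroupOf_eq_top.mp h
    have hpg : IsPGroup p ↥(commutator G) :=
      (Cfsg.Agent.Lib.Helper1_Cores.pCore_isPGroup (G := G) p).to_le hle
    have hnt : Nontrivial ↥(commutator G) := hsimple.toNontrivial
    have hcnt : Nontrivial (Subgroup.center ↥(commutator G)) := hpg.center_nontrivial
    have hcn : (Subgroup.center ↥(commutator G)).Normal := inferInstance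
    rcases hcn.eq_bot_or_eq_top with h1 | h1
    · rw [h1] at hcnt
      exact not_nontrivial _ hcnt
    · obtain ⟨x, y, hxy⟩ := hnonab
      apply hxy
      have hx : x ∈ Subgroup.center ↥(commutator G) := h1 ▸ Subgroup.mem_top x
      exact (Subgroup.mem_center_iff.mp hx y).symm

/-- A group with non-abelian commutator subgroup generated by a class `D` has at least two
members in `D`. -/
theorem exists_ne {D : Set G} (hD : Cfsg.IsThreeTranspositionClass D)
    (hnonab : ∃ x y : commutator G, x * y ≠ y * x) : ∃ a ∈ D, ∃ b ∈ D, a ≠ b := by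
  by_contra hcon
  push Not at hcon
  obtain ⟨d, hd⟩ := nonempty hD
  have htop : (⊤ : Subgroup G) ≤ Subgroup.zpowers d := by
    rw [← hD.2.2, Subgroup.closure_le]
    intro x hx
    rw [hcon x hx d hd]
    exact Subgroup.mem_zpowers d
  obtain ⟨x, y, hxy⟩ := hnonab
  apply hxy
  obtain ⟨i, hi⟩ := Subgroup.mem_zpowers_iff.mp (htop (Subgroup.mem_top (x : G)))
  obtain ⟨j, hj⟩ := Subgroup.mem_zpowers_iff.mp (htop (Subgroup.mem_top (y : G)))
  apply Subtype.ext
  show (x : G) * (y : G) = (y : G) * (x : G)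
  rw [← hi, ← hj, ← zpow_add, ← zpow_add, add_comm]

/-- Primitivity, a commuting pair and connectedness from a non-abelian simple commutator
subgroup. -/
theorem prim_of_simple [Finite G] {D : Set G} (hD : Cfsg.IsThreeTranspositionClass D)
    (hsimple : IsSimpleGroup (commutator G)) (hnonab : ∃ x y : commutator G, x * y ≠ y * x) :
    Cfsg.IsPrimitiveUnderConj D ∧ (∃ a ∈ D, ∃ b ∈ D, a ≠ b ∧ Commute a b) := by
  have : Fact (Nat.Prime 2) := ⟨Nat.prime_two⟩
  have : Fact (Nat.Prime 3) := ⟨Nat.prime_three⟩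
  have h2 := pCore_le_center_of_simple hsimple hnonab 2
  have h3 := pCore_le_center_of_simple hsimple hnonab 3
  have hD2 := exists_ne hD hnonab
  obtain ⟨d, hd⟩ := nonempty hD
  have hdi := inv_of_orderOf_two (hD.1.1 d hd)
  have hmul : ∀ x ∈ D, d⁻¹ * x ∈ commutator G := by
    intro x hx
    obtain ⟨g, rfl⟩ := exists_conj hD hd hx
    have h4 : ⁅d⁻¹, g⁆ ∈ commutator G :=
      Subgroup.commutator_mem_commutator (Subgroup.mem_top _) (Subgroup.mem_top g)
    have e : d⁻¹ * (g * d * g⁻¹) = ⁅d⁻¹, g⁆ := by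
      rw [commutatorElement_def]; group
    rw [e]; exact h4
  -- a commuting pair
  have hw : ∃ a ∈ D, ∃ b ∈ D, a ≠ b ∧ Commute a b := by
    by_contra hcon
    push Not at hcon
    have hwidth : Cfsg.commutingWidth D = 1 := by
      apply commutingWidth_eq_one ⟨d, hd⟩
      intro a ha b hb hc
      by_contra hab
      exact hcon a ha b hb hab hc
    have hD' : Cfsg.IsThreeTranspositionGroup D :=
      ⟨hD.1, fun g x hx => conj_mem hD g hx, hD.2.2⟩
    have hsup := (Cfsg.Agent.S5346.result hD' hd).mp hwidth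
    have hN : (Cfsg.pCore 3 G).Normal := Cfsg.Agent.Lib.Helper1_Cores.pCore_normal 3
    have hle : commutator G ≤ Cfsg.pCore 3 G := commutator_le_of_zpowers_sup _ hsup
    obtain ⟨x, y, hxy⟩ := hnonab
    apply hxy
    have hx : (x : G) ∈ Subgroup.center G := h3 (hle x.2)
    apply Subtype.ext
    exact (Subgroup.mem_center_iff.mp hx (y : G)).symm
  refine ⟨?_, hw⟩
  obtain ⟨L, hLn, hLq, hF, _⟩ := Cfsg.Agent.S5352.result hD hD2 h2 h3
  have hLle : L ≤ commutator G := by
    have hperf : ⁅L, L⁆ = L := Subgroup.isPerfect_iff.mp hLq.1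
    rw [← hperf, commutator_def]
    exact Subgroup.commutator_mono le_top le_top
  have hle : commutator G ≤ L := by
    have hn : (L.subgroupOf (commutator G)).Normal := inferInstance
    rcases hn.eq_bot_or_eq_top with h | h
    · exfalso
      rw [Subgroup.subgroupOf_eq_bot] at h
      have hbot : L = ⊥ := by
        have := h.eq_bot
        rwa [inf_eq_left.mpr hLle] at this
      apply not_le_center_of_isQuasisimple hLq
      rw [hbot]; exact bot_le
    · exact Subgroup.subgroupOf_eq_top.mp h
  have hsup : Subgroup.zpowers d ⊔ L = ⊤ :=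
    zpowers_sup_eq_top hD L (fun x hx => hle (hmul x hx))
  have hidx : L.index ≤ 2 := index_le_two_of_zpowers_sup (hD.1.1 d hd) L hsup
  exact Cfsg.Agent.S5353.isPrimitive hD hD2 h2 h3 L hLq hF hidx

/-- Fischer's rank-three property. Let a finite group be generated by a conjugacy class D of 3-transpositions, with non-abelian simple commutator subgroup. Then for a in D there are members of D other than a commuting with a and members not commuting with a, and the centraliser of a acts transitively on each of these two sets. -/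
theorem result {G : Type*} [Group G] [Finite G] {D : Set G} (hD : Cfsg.IsThreeTranspositionClass D) (hsimple : IsSimpleGroup (commutator G)) (hnonab : ∃ x y : commutator G, x * y ≠ y * x) {a : G} (ha : a ∈ D) : (∃ b ∈ D, b ≠ a ∧ Commute a b) ∧ (∃ c ∈ D, ¬ Commute a c) ∧ (∀ b ∈ D, ∀ b' ∈ D, b ≠ a → b' ≠ a → Commute a b → Commute a b' → ∃ g : G, Commute g a ∧ g * b * g⁻¹ = b') ∧ (∀ c ∈ D, ∀ c' ∈ D, ¬ Commute a c → ¬ Commute a c' → ∃ g : G, Commute g a ∧ g * c * g⁻¹ = c') := by
  obtain ⟨hprim, hw⟩ := prim_of_simple hD hsimple hnonab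
  have hconn := connected_of_prim hD hprim hw
  have hcomm : ∀ {g x : G}, g * x * g⁻¹ = x → Commute g x := by
    intro g x h
    show g * x = x * g
    calc g * x = (g * x * g⁻¹) * g := by group
      _ = x * g := by rw [h]
  refine ⟨?_, ?_, ?_, ?_⟩
  · obtain ⟨x, hx, y, hy, hxy, hc⟩ := hw
    obtain ⟨g, rfl⟩ := exists_conj hD hx ha
    refine ⟨g * y * g⁻¹, conj_mem hD g hy, ?_, (Commute.conj_iff g).mpr hc⟩
    intro h
    apply hxy
    exact (mul_left_cancel (mul_right_cancel h)).symm
  · by_contra hcon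
    push Not at hcon
    have hac : a ∈ Subgroup.center G := mem_center_of_commute_of_closure hD.2.2 hcon
    obtain ⟨x, hx, y, hy, hxy⟩ := hprim.2.1
    apply hxy
    rw [← eq_of_mem_center hD ha hx hac, ← eq_of_mem_center hD ha hy hac]
  · intro b hb b' hb' hba hb'a hab hab'
    obtain ⟨g, hga, hgb⟩ := pc_of_commute hD hprim hconn ha b hb b' hb' hba hb'a hab hab'
    exact ⟨g, hcomm hga, hgb⟩
  · intro c hc c' hc' hac hac'
    obtain ⟨g, hga, hgc⟩ := pc_of_not_commute hD hprim hconn ha c hc c' hc' hac hac'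
    exact ⟨g, hcomm hga, hgc⟩

end Cfsg.Agent.S0441
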