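import Cfsg.Statements.S0442

set_option autoImplicit false
open Cfsg

namespace Cfsg.Agent.S0442

/-- for involutions `a`, `b`: conjugating a power of `a * b` by `a` inverts it. -/
theorem conj_pow_inv {G : Type*} [Group G] {a b : G} (ha : a * a = 1) (hb : b * b = 1) (k : ℕ) :
    (a * b) ^ k * a = a * ((a * b) ^ k)⁻¹ := by
  have ha' : a⁻¹ = a := inv_eq_of_mul_eq_one_left ha
  have hb' : b⁻¹ = b := inv_eq_of_mul_eq_one_left hb
  have h1 : a * (a * b) * a⁻¹ = (a * b)⁻¹ := by
    rw [mul_inv_rev, ha', hb', ← mul_assoc, ha, one_mul]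
  have h2 : a * (a * b) ^ k * a⁻¹ = ((a * b) ^ k)⁻¹ := by
    rw [← conj_pow, h1, inv_pow]
  rw [ha'] at h2
  rw [← h2]
  simp only [← mul_assoc, ha, one_mul]

theorem commute_pow_of_even {G : Type*} [Group G] {a b : G} (ha : a * a = 1) (hb : b * b = 1)
    (m : ℕ) (h : (a * b) ^ (2 * m) = 1) : Commute ((a * b) ^ m) a := by
  have h1 : (a * b) ^ m * (a * b) ^ m = 1 := by
    rw [← pow_add, ← two_mul]; exact h
  have h2 : ((a * b) ^ m)⁻¹ = (a * b) ^ m := inv_eq_of_mul_eq_one_left h1
  have := conj_pow_inv ha hb m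
  rw [h2] at this
  exact this

/-- A standard trick for producing elements of an involution centraliser: for an involution a and an element g, let b be the conjugate g⁻¹ * a * g. If a * b has odd order 2m + 1 then g * (a * b) ^ m commutes with a; if a * b has even order 2m then (a * b) ^ m and (a * (g * a * g⁻¹)) ^ m commute with a. -/
theorem result {G : Type*} [Group G] (a g : G) (ha : orderOf a = 2) : (∀ m : ℕ, orderOf (a * (g⁻¹ * a * g)) = 2 * m + 1 → Commute (g * (a * (g⁻¹ * a * g)) ^ m) a) ∧ (∀ m : ℕ, orderOf (a * (g⁻¹ * a * g)) = 2 * m → Commute ((a * (g⁻¹ * a * g)) ^ m) a ∧ Commute ((a * (g * a * g⁻¹)) ^ m) a) := by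
  have haa : a * a = 1 := by
    have := pow_orderOf_eq_one a
    rwa [ha, pow_two] at this
  have hbb : (g⁻¹ * a * g) * (g⁻¹ * a * g) = 1 := by
    calc (g⁻¹ * a * g) * (g⁻¹ * a * g) = g⁻¹ * a * (g * g⁻¹) * a * g := by
          simp only [mul_assoc]
      _ = g⁻¹ * (a * a) * g := by rw [mul_inv_cancel, mul_one]; simp only [mul_assoc]
      _ = 1 := by rw [haa, mul_one, inv_mul_cancel]
  have hbb' : (g * a * g⁻¹) * (g * a * g⁻¹) = 1 := by
    calc (g * a * g⁻¹) * (g * a * g⁻¹) = g * a * (g⁻¹ * g) * a * g⁻¹ := by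
          simp only [mul_assoc]
      _ = g * (a * a) * g⁻¹ := by rw [inv_mul_cancel, mul_one]; simp only [mul_assoc]
      _ = 1 := by rw [haa, mul_one, mul_inv_cancel]
  refine ⟨fun m hm => ?_, fun m hm => ⟨?_, ?_⟩⟩
  · -- odd case
    set b := g⁻¹ * a * g with hb
    set w := a * b with hw
    have h1 : w ^ (2 * m + 1) = 1 := by rw [← hm]; exact pow_orderOf_eq_one w
    have h2 : w * w ^ m * w ^ m = 1 := by
      rw [mul_assoc, ← pow_add, ← two_mul, ← pow_succ']; exact h1
    have h3 : (w ^ m)⁻¹ = w * w ^ m := (eq_inv_of_mul_eq_one_left h2).symm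
    have h4 := conj_pow_inv haa hbb m
    -- goal: g * w^m * a = a * (g * w^m)
    show g * w ^ m * a = a * (g * w ^ m)
    calc g * w ^ m * a = g * (w ^ m * a) := by rw [mul_assoc]
      _ = g * (a * (w * w ^ m)) := by rw [h4, h3]
      _ = g * (a * a) * b * w ^ m := by simp only [hw, mul_assoc]
      _ = g * b * w ^ m := by rw [haa, mul_one]
      _ = (g * g⁻¹) * a * g * w ^ m := by simp only [hb, mul_assoc]
      _ = a * (g * w ^ m) := by rw [mul_inv_cancel, one_mul]; simp only [mul_assoc]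
  · -- even case, first element
    apply commute_pow_of_even haa hbb
    rw [← hm]; exact pow_orderOf_eq_one _
  · -- even case, second element
    apply commute_pow_of_even haa hbb'
    -- a * (g a g⁻¹) is conjugate to the inverse of a * (g⁻¹ a g)
    have h1 : a * (g * a * g⁻¹) = (g * (a * (g⁻¹ * a * g)) * g⁻¹)⁻¹ := by
      have ha' : a⁻¹ = a := inv_eq_of_mul_eq_one_left haa
      simp only [mul_inv_rev, inv_inv, ha', mul_assoc, mul_inv_cancel_left]
    rw [h1, inv_pow, conj_pow, ← hm, pow_orderOf_eq_one, mul_one, mul_inv_cancel, inv_one]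

end Cfsg.Agent.S0442
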