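import Cfsg.Statements.S0443

set_option autoImplicit false
open Cfsg

namespace Cfsg.Agent.S0443

/-- an element of order 2 centralising a Sylow 2-subgroup lies in it -/
theorem mem_sylow_of_centralizes {G : Type*} [Group G] [Finite G] (t : G) (ht : orderOf t = 2)
    (P : Sylow 2 G) (h : (P : Subgroup G) ≤ Subgroup.centralizer ({t} : Set G)) : t ∈ P := by
  -- the subgroup generated by t
  have hz : IsPGroup 2 (Subgroup.zpowers t) := by
    rw [IsPGroup.iff_card]
    refine ⟨1, ?_⟩
    rw [Nat.card_zpowers, ht, pow_one]
  -- zpowers t normalizes P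
  have hn : Subgroup.zpowers t ≤ Subgroup.normalizer (P : Set G) := by
    rw [Subgroup.zpowers_le]
    rw [Subgroup.mem_set_normalizer_iff]
    intro x
    change x ∈ (P : Subgroup G) ↔ t * x * t⁻¹ ∈ (P : Subgroup G)
    constructor
    · intro hx
      have := h hx
      rw [Subgroup.mem_centralizer_iff] at this
      have h2 := this t (Set.mem_singleton t)
      -- t * x = x * t
      have : t * x * t⁻¹ = x := by rw [h2, mul_assoc, mul_inv_cancel, mul_one]
      rw [this]; exact hx
    · intro hx
      have := h hx
      rw [Subgroup.mem_centralizer_iff] at this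
      have h2 := this t (Set.mem_singleton t)
      have h3 : t * (t * x * t⁻¹) = t * x := by
        rw [h2, mul_assoc, inv_mul_cancel, mul_one]
      have : t * x * t⁻¹ = x := mul_left_cancel h3
      rw [← this]; exact hx
  have hsup : IsPGroup 2 ((Subgroup.zpowers t ⊔ (P : Subgroup G) : Subgroup G)) :=
    IsPGroup.to_sup_of_normal_right' hz P.isPGroup' hn
  have hle : (P : Subgroup G) ≤ Subgroup.zpowers t ⊔ (P : Subgroup G) := le_sup_right
  have := P.is_maximal' hsup hle
  change t ∈ (P : Subgroup G)
  rw [← this]
  exact (le_sup_left : Subgroup.zpowers t ≤ _) (Subgroup.mem_zpowers t)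

/-- Two definitions of a 2-central involution agree: an element t of order 2 of a finite group lies in the centre of some Sylow 2-subgroup if and only if its centraliser contains some Sylow 2-subgroup. -/
theorem result {G : Type*} [Group G] [Finite G] (t : G) (ht : orderOf t = 2) : Cfsg.IsTwoCentralInvolution t ↔ ∃ P : Sylow 2 G, (P : Subgroup G) ≤ Subgroup.centralizer ({t} : Set G) := by
  constructor
  · rintro ⟨_, P, htP, hP⟩
    refine ⟨P, fun x hx => ?_⟩
    rw [Subgroup.mem_centralizer_iff]
    intro y hy
    rw [Set.mem_singleton_iff] at hy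
    subst hy
    exact (hP x hx).symm
  · rintro ⟨P, hP⟩
    refine ⟨ht, P, mem_sylow_of_centralizes t ht P hP, fun x hx => ?_⟩
    have := hP hx
    rw [Subgroup.mem_centralizer_iff] at this
    exact (this t (Set.mem_singleton t)).symm

end Cfsg.Agent.S0443
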