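import Cfsg.Statements.S0444
import Cfsg.Agent.Lib.Helper8_ThreeTransp

set_option autoImplicit false
open Cfsg

namespace Cfsg.Agent.S0444

open Cfsg.Agent.Lib.Helper8_ThreeTransp Equiv

/-- the candidate map from the symmetric group on three letters -/
def psi {G : Type*} [Group G] (d e : G) (σ : Perm (Fin 3)) : G :=
  if σ = 1 then 1
  else if σ = swap 0 1 then d
  else if σ = swap 1 2 then e
  else if σ = swap 0 1 * swap 1 2 then d * e
  else if σ = swap 1 2 * swap 0 1 then e * d
  else d * e * d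

theorem psi_spec {G : Type*} [Group G] (d e : G) (σ : Perm (Fin 3)) :
    (σ = 1 ∧ psi d e σ = 1) ∨ (σ = swap 0 1 ∧ psi d e σ = d) ∨ (σ = swap 1 2 ∧ psi d e σ = e) ∨
    (σ = swap 0 1 * swap 1 2 ∧ psi d e σ = d * e) ∨
    (σ = swap 1 2 * swap 0 1 ∧ psi d e σ = e * d) ∨
    (σ = swap 0 1 * swap 1 2 * swap 0 1 ∧ psi d e σ = d * e * d) := by
  have all6 : ∀ σ : Perm (Fin 3), σ = 1 ∨ σ = swap 0 1 ∨ σ = swap 1 2 ∨ σ = swap 0 1 * swap 1 2 ∨
      σ = swap 1 2 * swap 0 1 ∨ σ = swap 0 1 * swap 1 2 * swap 0 1 := by decide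
  rcases all6 σ with h | h | h | h | h | h
  · left; exact ⟨h, by rw [h]; unfold psi; rw [if_pos rfl]⟩
  · right; left
    refine ⟨h, ?_⟩
    rw [h]; unfold psi
    rw [if_neg (by decide), if_pos rfl]
  · right; right; left
    refine ⟨h, ?_⟩
    rw [h]; unfold psi
    rw [if_neg (by decide), if_neg (by decide), if_pos rfl]
  · right; right; right; left
    refine ⟨h, ?_⟩
    rw [h]; unfold psi
    rw [if_neg (by decide), if_neg (by decide), if_neg (by decide), if_pos rfl]
  · right; right; right; right; left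
    refine ⟨h, ?_⟩
    rw [h]; unfold psi
    rw [if_neg (by decide), if_neg (by decide), if_neg (by decide), if_neg (by decide), if_pos rfl]
  · right; right; right; right; right
    refine ⟨h, ?_⟩
    rw [h]; unfold psi
    rw [if_neg (by decide), if_neg (by decide), if_neg (by decide), if_neg (by decide),
      if_neg (by decide)]

theorem psi_mul {G : Type*} [Group G] (d e : G) (hdd : d * d = 1) (hee : e * e = 1)
    (hbr : e * d * e = d * e * d) (σ τ : Perm (Fin 3)) :
    psi d e (σ * τ) = psi d e σ * psi d e τ := by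
  have hdd' : ∀ x, d * (d * x) = x := fun x => by rw [← mul_assoc, hdd, one_mul]
  have hee' : ∀ x, e * (e * x) = x := fun x => by rw [← mul_assoc, hee, one_mul]
  have hbr1 : e * (d * e) = d * (e * d) := by rw [← mul_assoc, hbr, mul_assoc]
  have hbr' : ∀ x, e * (d * (e * x)) = d * (e * (d * x)) := fun x => by
    rw [← mul_assoc, ← mul_assoc, hbr]; simp only [mul_assoc]
  rcases psi_spec d e σ with ⟨h1, v1⟩ | ⟨h1, v1⟩ | ⟨h1, v1⟩ | ⟨h1, v1⟩ | ⟨h1, v1⟩ | ⟨h1, v1⟩ <;>
  rcases psi_spec d e τ with ⟨h2, v2⟩ | ⟨h2, v2⟩ | ⟨h2, v2⟩ | ⟨h2, v2⟩ | ⟨h2, v2⟩ | ⟨h2, v2⟩ <;>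
  rcases psi_spec d e (σ * τ) with ⟨h3, v3⟩ | ⟨h3, v3⟩ | ⟨h3, v3⟩ | ⟨h3, v3⟩ | ⟨h3, v3⟩ |
    ⟨h3, v3⟩ <;>
  (rw [h1, h2] at h3;
   first
   | exact absurd h3 (by decide)
   | (simp only [v1, v2, v3, mul_assoc, mul_one, one_mul, hdd, hee, hdd', hee', hbr1, hbr']))

/-- Two members of a set of 3-transpositions which do not commute generate a subgroup isomorphic to the symmetric group on three letters. -/
theorem result {G : Type*} [Group G] {E : Set G} (hE : Cfsg.IsThreeTranspositionSet E) {d e : G} (hd : d ∈ E) (he : e ∈ E) (h : ¬ Commute d e) : Nonempty (Subgroup.closure ({d, e} : Set G) ≃* Equiv.Perm (Fin 3)) := by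
  have hdd := mem_sq hE hd
  have hee := mem_sq hE he
  have hbr : e * d * e = d * e * d := ((commute_or_braid hE hd he).resolve_left h).symm
  have hd1 : d ≠ 1 := by
    rintro rfl
    exact h (Commute.one_left e)
  have he1 : e ≠ 1 := by
    rintro rfl
    exact h (Commute.one_right d)
  have hde : d ≠ e := by
    rintro rfl
    exact h (Commute.refl d)
  -- the homomorphism
  let f : Perm (Fin 3) →* G :=
    { toFun := psi d e
      map_one' := by unfold psi; rw [if_pos rfl]
      map_mul' := psi_mul d e hdd hee hbr }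
  have hf : ∀ σ, f σ = psi d e σ := fun σ => rfl
  have hinj : Function.Injective f := by
    rw [injective_iff_map_eq_one]
    intro σ hσ
    rw [hf] at hσ
    rcases psi_spec d e σ with ⟨h1, v1⟩ | ⟨h1, v1⟩ | ⟨h1, v1⟩ | ⟨h1, v1⟩ | ⟨h1, v1⟩ | ⟨h1, v1⟩
    · exact h1
    · rw [v1] at hσ; exact absurd hσ hd1
    · rw [v1] at hσ; exact absurd hσ he1
    · rw [v1] at hσ
      exfalso; apply hde
      have : d = e⁻¹ := eq_inv_of_mul_eq_one_left hσ
      rw [this, inv_eq_of_mul_eq_one_left hee]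
    · rw [v1] at hσ
      exfalso; apply hde
      have : e = d⁻¹ := eq_inv_of_mul_eq_one_left hσ
      rw [this, inv_eq_of_mul_eq_one_left hdd]
    · rw [v1] at hσ
      exfalso; apply he1
      have h2 : d * (d * e * d) * d = d * 1 * d := by rw [hσ]
      simp only [mul_assoc, hdd, mul_one] at h2
      rw [← mul_assoc, hdd, one_mul] at h2
      exact h2
  have hrange : f.range = Subgroup.closure ({d, e} : Set G) := by
    apply le_antisymm
    · rintro x ⟨σ, rfl⟩
      rw [hf]
      have hdc : d ∈ Subgroup.closure ({d, e} : Set G) :=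
        Subgroup.subset_closure (Set.mem_insert _ _)
      have hec : e ∈ Subgroup.closure ({d, e} : Set G) :=
        Subgroup.subset_closure (Set.mem_insert_of_mem _ rfl)
      rcases psi_spec d e σ with ⟨h1, v1⟩ | ⟨h1, v1⟩ | ⟨h1, v1⟩ | ⟨h1, v1⟩ | ⟨h1, v1⟩ | ⟨h1, v1⟩ <;>
        rw [v1]
      · exact one_mem _
      · exact hdc
      · exact hec
      · exact mul_mem hdc hec
      · exact mul_mem hec hdc
      · exact mul_mem (mul_mem hdc hec) hdc
    · rw [Subgroup.closure_le]
      rintro x (rfl | rfl)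
      · refine ⟨swap 0 1, ?_⟩
        rw [hf]
        rcases psi_spec x e (swap 0 1) with ⟨h1, v1⟩ | ⟨h1, v1⟩ | ⟨h1, v1⟩ | ⟨h1, v1⟩ | ⟨h1, v1⟩ |
          ⟨h1, v1⟩
        · exact absurd h1 (by decide)
        · exact v1
        · exact absurd h1 (by decide)
        · exact absurd h1 (by decide)
        · exact absurd h1 (by decide)
        · exact absurd h1 (by decide)
      · refine ⟨swap 1 2, ?_⟩
        rw [hf]
        rcases psi_spec d x (swap 1 2) with ⟨h1, v1⟩ | ⟨h1, v1⟩ | ⟨h1, v1⟩ | ⟨h1, v1⟩ | ⟨h1, v1⟩ |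
          ⟨h1, v1⟩
        · exact absurd h1 (by decide)
        · exact absurd h1 (by decide)
        · exact v1
        · exact absurd h1 (by decide)
        · exact absurd h1 (by decide)
        · exact absurd h1 (by decide)
  exact ⟨((MonoidHom.ofInjective hinj).trans (MulEquiv.subgroupCongr hrange)).symm⟩

end Cfsg.Agent.S0444
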