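import Cfsg.Statements.S0445
import Mathlib

set_option autoImplicit false
open Cfsg

namespace Cfsg.Agent.S0445

open Matrix

abbrev R := ZMod 2

theorem det_step_col {n : ℕ} (M : Matrix (Fin (n + 1)) (Fin (n + 1)) R)
    (h0 : ∀ i : Fin n, M i.succ 0 = 0) :
    M.det = M 0 0 * (M.submatrix Fin.succ Fin.succ).det := by
  rw [det_succ_column_zero, Fin.sum_univ_succ]
  have hz : ∑ i : Fin n, (-1 : R) ^ (i.succ : ℕ) * M i.succ 0 *
      det (M.submatrix i.succ.succAbove Fin.succ) = 0 := by
    apply Finset.sum_eq_zero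
    intro i _
    rw [h0 i]; ring
  rw [hz, add_zero]
  simp only [Fin.val_zero, pow_zero, one_mul, Fin.succAbove_zero]

theorem det_step_row {n : ℕ} (M : Matrix (Fin (n + 1)) (Fin (n + 1)) R)
    (h0 : ∀ j : Fin n, M 0 j.succ = 0) :
    M.det = M 0 0 * (M.submatrix Fin.succ Fin.succ).det := by
  rw [det_succ_row_zero, Fin.sum_univ_succ]
  have hz : ∑ j : Fin n, (-1 : R) ^ (j.succ : ℕ) * M 0 j.succ *
      det (M.submatrix Fin.succ j.succ.succAbove) = 0 := by
    apply Finset.sum_eq_zero
    intro j _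
    rw [h0 j]; ring
  rw [hz, add_zero]
  simp only [Fin.val_zero, pow_zero, one_mul, Fin.succAbove_zero]

/-- determinant of a 5 × 5 matrix whose column 0 vanishes below the diagonal and whose row 1 vanishes off
the diagonal -/
theorem det_shape (M : Matrix (Fin 5) (Fin 5) R) (h0 : ∀ i : Fin 4, M i.succ 0 = 0)
    (h1 : ∀ j : Fin 3, M 1 j.succ.succ = 0) :
    M.det = M 0 0 * (M 1 1 *
      (M.submatrix (fun i : Fin 3 => i.succ.succ) (fun j : Fin 3 => j.succ.succ)).det) := by
  rw [det_step_col M h0]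
  rw [det_step_row (M.submatrix Fin.succ Fin.succ) (fun j => h1 j)]
  rfl

theorem succ_succ_ne_one (j : Fin 3) : (j.succ.succ : Fin 5) ≠ 1 := by
  intro h
  have : (j.succ.succ : Fin 5) = Fin.succ 0 := h
  rw [Fin.succ_inj] at this
  exact Fin.succ_ne_zero _ this

/-- the commutation condition with the elementary matrix -/
theorem comm_iff (M : Matrix (Fin 5) (Fin 5) R) :
    (single 0 1 1 : Matrix (Fin 5) (Fin 5) R) * M = M * single 0 1 1 ↔
      (∀ i : Fin 4, M i.succ 0 = 0) ∧ (M 1 0 = 0 ∧ ∀ j : Fin 3, M 1 j.succ.succ = 0) ∧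
        M 0 0 = M 1 1 := by
  constructor
  · intro h
    refine ⟨fun i => ?_, ⟨?_, fun j => ?_⟩, ?_⟩
    · have := congrFun (congrFun h i.succ) 1
      rw [single_mul_apply_of_ne (h := Fin.succ_ne_zero i), mul_single_apply_same, mul_one]
        at this
      exact this.symm
    · have := congrFun (congrFun h 0) 0
      rw [single_mul_apply_same, mul_single_apply_of_ne (hbj := by decide), one_mul] at this
      exact this
    · have := congrFun (congrFun h 0) j.succ.succ
      rw [single_mul_apply_same, mul_single_apply_of_ne (hbj := succ_succ_ne_one j), one_mul]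
        at this
      exact this
    · have := congrFun (congrFun h 0) 1
      rw [single_mul_apply_same, mul_single_apply_same, one_mul, mul_one] at this
      exact this.symm
  · rintro ⟨h0, ⟨h10, h1⟩, h00⟩
    ext i j
    rcases Fin.eq_zero_or_eq_succ i with rfl | ⟨i', rfl⟩
    · rw [single_mul_apply_same, one_mul]
      by_cases hj : j = 1
      · subst hj
        rw [mul_single_apply_same, mul_one, h00]
      · rw [mul_single_apply_of_ne (hbj := hj)]
        rcases Fin.eq_zero_or_eq_succ j with rfl | ⟨j', rfl⟩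
        · exact h10
        · rcases Fin.eq_zero_or_eq_succ j' with rfl | ⟨j'', rfl⟩
          · exact absurd rfl hj
          · rcases Fin.eq_zero_or_eq_succ j'' with rfl | ⟨j3, rfl⟩
            · exact h1 0
            · exact h1 j3.succ
    · rw [single_mul_apply_of_ne (h := Fin.succ_ne_zero i')]
      by_cases hj : j = 1
      · subst hj
        rw [mul_single_apply_same, mul_one, h0 i']
      · rw [mul_single_apply_of_ne (hbj := hj)]

/-- the matrix with prescribed free entries -/
def build (u : Fin 4 → R) (v : Fin 3 → R) (B : Matrix (Fin 3) (Fin 3) R) :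
    Matrix (Fin 5) (Fin 5) R :=
  Matrix.of (Fin.cases (Fin.cases 1 u)
    (Fin.cases (Fin.cases 0 (Fin.cases 1 (fun _ => 0)))
      (fun i => Fin.cases 0 (Fin.cases (v i) (fun j => B i j)))))

theorem build_00 (u : Fin 4 → R) (v : Fin 3 → R) (B : Matrix (Fin 3) (Fin 3) R) :
    build u v B 0 0 = 1 := rfl

theorem build_0s (u : Fin 4 → R) (v : Fin 3 → R) (B : Matrix (Fin 3) (Fin 3) R) (j : Fin 4) :
    build u v B 0 j.succ = u j := rfl

theorem build_10 (u : Fin 4 → R) (v : Fin 3 → R) (B : Matrix (Fin 3) (Fin 3) R) :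
    build u v B 1 0 = 0 := rfl

theorem build_11 (u : Fin 4 → R) (v : Fin 3 → R) (B : Matrix (Fin 3) (Fin 3) R) :
    build u v B 1 1 = 1 := rfl

theorem build_1ss (u : Fin 4 → R) (v : Fin 3 → R) (B : Matrix (Fin 3) (Fin 3) R) (j : Fin 3) :
    build u v B 1 j.succ.succ = 0 := rfl

theorem build_ss0 (u : Fin 4 → R) (v : Fin 3 → R) (B : Matrix (Fin 3) (Fin 3) R) (i : Fin 3) :
    build u v B i.succ.succ 0 = 0 := rfl

theorem build_ss1 (u : Fin 4 → R) (v : Fin 3 → R) (B : Matrix (Fin 3) (Fin 3) R) (i : Fin 3) :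
    build u v B i.succ.succ 1 = v i := rfl

theorem build_ssss (u : Fin 4 → R) (v : Fin 3 → R) (B : Matrix (Fin 3) (Fin 3) R) (i j : Fin 3) :
    build u v B i.succ.succ j.succ.succ = B i j := rfl

theorem build_s0 (u : Fin 4 → R) (v : Fin 3 → R) (B : Matrix (Fin 3) (Fin 3) R) (i : Fin 4) :
    build u v B i.succ 0 = 0 := by
  rcases Fin.eq_zero_or_eq_succ i with rfl | ⟨i', rfl⟩
  · rfl
  · rfl

theorem build_comm (u : Fin 4 → R) (v : Fin 3 → R) (B : Matrix (Fin 3) (Fin 3) R) :
    (single 0 1 1 : Matrix (Fin 5) (Fin 5) R) * build u v B = build u v B * single 0 1 1 := by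
  rw [comm_iff]
  exact ⟨build_s0 u v B, ⟨build_10 u v B, build_1ss u v B⟩, rfl⟩

theorem build_det (u : Fin 4 → R) (v : Fin 3 → R) (B : Matrix (Fin 3) (Fin 3) R) :
    (build u v B).det = B.det := by
  rw [det_shape _ (build_s0 u v B) (build_1ss u v B), build_00, build_11, one_mul, one_mul]
  congr 1

/-- the matrices of determinant one commuting with the elementary matrix -/
abbrev Y := {M : Matrix (Fin 5) (Fin 5) R //
  M.det = 1 ∧ (single 0 1 1 : Matrix (Fin 5) (Fin 5) R) * M = M * single 0 1 1}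

theorem zmod2_mul_eq_one : ∀ a b : R, a * b = 1 → a = 1 ∧ b = 1 := by decide

theorem Y_facts (M : Y) : M.1 0 0 = 1 ∧ M.1 1 1 = 1 ∧
    (M.1.submatrix (fun i : Fin 3 => i.succ.succ) (fun j : Fin 3 => j.succ.succ)).det = 1 := by
  obtain ⟨M, hdet, hcomm⟩ := M
  rw [comm_iff] at hcomm
  obtain ⟨h0, ⟨h10, h1⟩, h00⟩ := hcomm
  rw [det_shape M h0 h1] at hdet
  obtain ⟨ha, hb⟩ := zmod2_mul_eq_one _ _ hdet
  obtain ⟨hb, hc⟩ := zmod2_mul_eq_one _ _ hb
  exact ⟨ha, hb, hc⟩

def equivY : Y ≃ (Fin 4 → R) × (Fin 3 → R) × {B : Matrix (Fin 3) (Fin 3) R // B.det = 1} where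
  toFun M := (fun j => M.1 0 j.succ, fun i => M.1 i.succ.succ 1,
    ⟨M.1.submatrix (fun i : Fin 3 => i.succ.succ) (fun j : Fin 3 => j.succ.succ), (Y_facts M).2.2⟩)
  invFun p := ⟨build p.1 p.2.1 p.2.2.1, by rw [build_det]; exact p.2.2.2, build_comm _ _ _⟩
  left_inv M := by
    obtain ⟨h00, h11, -⟩ := Y_facts M
    obtain ⟨M, hdet, hcomm⟩ := M
    rw [comm_iff] at hcomm
    obtain ⟨h0, ⟨h10, h1⟩, -⟩ := hcomm
    apply Subtype.ext
    ext i j
    show build _ _ _ i j = M i j
    rcases Fin.eq_zero_or_eq_succ i with rfl | ⟨i', rfl⟩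
    · rcases Fin.eq_zero_or_eq_succ j with rfl | ⟨j', rfl⟩
      · rw [build_00]; exact h00.symm
      · rw [build_0s]
    · rcases Fin.eq_zero_or_eq_succ j with rfl | ⟨j', rfl⟩
      · rw [build_s0, h0]
      · rcases Fin.eq_zero_or_eq_succ i' with rfl | ⟨i'', rfl⟩
        · rcases Fin.eq_zero_or_eq_succ j' with rfl | ⟨j'', rfl⟩
          · show build _ _ _ 1 1 = M 1 1
            rw [build_11]; exact h11.symm
          · show build _ _ _ 1 j''.succ.succ = M 1 j''.succ.succ
            rw [build_1ss, h1]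
        · rcases Fin.eq_zero_or_eq_succ j' with rfl | ⟨j'', rfl⟩
          · show build _ _ _ i''.succ.succ 1 = M i''.succ.succ 1
            rw [build_ss1]
          · rw [build_ssss]; rfl
  right_inv p := by
    obtain ⟨u, v, B, hB⟩ := p
    rfl

theorem card_SL3 : Nat.card {B : Matrix (Fin 3) (Fin 3) R // B.det = 1} = 168 := by
  have e : {B : Matrix (Fin 3) (Fin 3) R // B.det = 1} ≃ GL (Fin 3) R :=
    { toFun := fun B => Matrix.GeneralLinearGroup.mk'' B.1 (by rw [B.2]; exact isUnit_one)
      invFun := fun g => ⟨g.1, by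
        have h : IsUnit (g.1 : Matrix (Fin 3) (Fin 3) R).det :=
          (Matrix.isUnit_iff_isUnit_det _).mp g.isUnit
        have key : ∀ a : R, IsUnit a → a = 1 := by decide
        exact key _ h⟩
      left_inv := fun B => by
        apply Subtype.ext
        rfl
      right_inv := fun g => by
        apply Units.ext
        rfl }
  rw [Nat.card_congr e, Matrix.card_GL_field]
  simp [Fin.prod_univ_succ]

theorem card_Y : Nat.card Y = 21504 := by
  rw [Nat.card_congr equivY, Nat.card_prod, Nat.card_prod, card_SL3]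
  simp [Nat.card_eq_fintype_card]

/-- In the special linear group of dimension 5 over the field with two elements, the centraliser of a transvection has order 21504 = 2 ^ 7 · 168 (it is an extension of an extraspecial group of order 2 ^ 7 by the simple group of order 168). -/
theorem result (s : Matrix.SpecialLinearGroup (Fin 5) (ZMod 2)) (hs : (s : Matrix (Fin 5) (Fin 5) (ZMod 2)) = Matrix.transvection 0 1 1) : Nat.card (Subgroup.centralizer ({s} : Set (Matrix.SpecialLinearGroup (Fin 5) (ZMod 2)))) = 21504 := by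
  have hmem : ∀ g : Matrix.SpecialLinearGroup (Fin 5) (ZMod 2),
      g ∈ Subgroup.centralizer ({s} : Set (Matrix.SpecialLinearGroup (Fin 5) (ZMod 2))) ↔
      (single 0 1 1 : Matrix (Fin 5) (Fin 5) R) * g.1 = g.1 * single 0 1 1 := by
    intro g
    rw [Subgroup.mem_centralizer_iff]
    constructor
    · intro h
      have h1 := h s (Set.mem_singleton s)
      have h2 := congrArg (fun x : Matrix.SpecialLinearGroup (Fin 5) (ZMod 2) =>
        (x : Matrix (Fin 5) (Fin 5) (ZMod 2))) h1
      simp only [Matrix.SpecialLinearGroup.coe_mul, hs, Matrix.transvection, add_mul, mul_add,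
        one_mul, mul_one] at h2
      exact add_left_cancel h2
    · intro h x hx
      rw [Set.mem_singleton_iff] at hx
      subst hx
      apply Subtype.ext
      show (x : Matrix (Fin 5) (Fin 5) (ZMod 2)) * g.1 = g.1 * (x : Matrix (Fin 5) (Fin 5) (ZMod 2))
      rw [hs, Matrix.transvection, add_mul, mul_add, one_mul, mul_one, h]
  have e : Subgroup.centralizer ({s} : Set (Matrix.SpecialLinearGroup (Fin 5) (ZMod 2))) ≃ Y :=
    { toFun := fun g => ⟨g.1.1, g.1.2, (hmem g.1).mp g.2⟩
      invFun := fun M => ⟨⟨M.1, M.2.1⟩, (hmem _).mpr M.2.2⟩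
      left_inv := fun g => rfl
      right_inv := fun M => rfl }
  rw [Nat.card_congr e, card_Y]

end Cfsg.Agent.S0445
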