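import Cfsg.Statements.S0446

set_option autoImplicit false
open Cfsg

namespace Cfsg.Agent.S0446

/-- Every finite group of even order contains a 2-central involution, i.e. an element of order 2 in the centre of some Sylow 2-subgroup. -/
theorem result {G : Type*} [Group G] [Finite G] (h : Even (Nat.card G)) : ∃ t : G, Cfsg.IsTwoCentralInvolution t := by
  haveI : Fact (Nat.Prime 2) := ⟨Nat.prime_two⟩
  obtain ⟨P⟩ : Nonempty (Sylow 2 G) := inferInstance
  -- P is nontrivial
  have h2 : 2 ∣ Nat.card G := even_iff_two_dvd.mp h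
  have hP : 2 ∣ Nat.card (P : Subgroup G) := by
    rw [Sylow.card_eq_multiplicity]
    have hpos : Nat.card G ≠ 0 := Nat.card_pos.ne'
    have : 1 ≤ (Nat.card G).factorization 2 :=
      (Nat.Prime.dvd_iff_one_le_factorization Nat.prime_two hpos).mp h2
    exact dvd_pow_self 2 (by omega)
  haveI : Nontrivial (P : Subgroup G) := by
    rw [← Finite.one_lt_card_iff_nontrivial]
    have hpos : 0 < Nat.card (P : Subgroup G) := Nat.card_pos
    have := Nat.le_of_dvd hpos hP
    omega
  -- centre of P nontrivial
  haveI : Nontrivial (Subgroup.center (P : Subgroup G)) := P.isPGroup'.center_nontrivial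
  have hZp : IsPGroup 2 (Subgroup.center (P : Subgroup G)) :=
    P.isPGroup'.to_subgroup _
  have hZ : 2 ∣ Nat.card (Subgroup.center (P : Subgroup G)) := by
    obtain ⟨n, hn⟩ := IsPGroup.iff_card.mp hZp
    have h1 : 1 < Nat.card (Subgroup.center (P : Subgroup G)) :=
      Finite.one_lt_card_iff_nontrivial.mpr inferInstance
    rw [hn] at h1 ⊢
    have : n ≠ 0 := by
      rintro rfl
      simp at h1
    exact dvd_pow_self 2 this
  obtain ⟨z, hz⟩ := exists_prime_orderOf_dvd_card' 2 hZ
  refine ⟨((z : (P : Subgroup G)) : G), ?_, P, ?_, ?_⟩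
  · rw [Subgroup.orderOf_coe, Subgroup.orderOf_coe]
    exact hz
  · exact (z : (P : Subgroup G)).2
  · intro x hx
    have hzc := z.2
    rw [Subgroup.mem_center_iff] at hzc
    have := hzc ⟨x, hx⟩
    exact congrArg Subtype.val this

end Cfsg.Agent.S0446
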