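import Cfsg.Statements.S0459
import Cfsg.Agent.Lib.Helper41_RuTab
import Cfsg.Agent.Lib.Helper41_RuTr
import Cfsg.Agent.Lib.Helper41_RuLin
import Cfsg.Agent.Lib.Helper41_RuSub
import Cfsg.Agent.Lib.Helper41_RuPerm
import Cfsg.Agent.Lib.Helper41_RuDet
import Cfsg.Agent.Lib.Helper41_RuChain
import Cfsg.Agent.Lib.Helper41_SimpleCert2
import Cfsg.Agent.Lib.Helper41_SimpleCert3

set_option autoImplicit false
open Cfsg

namespace Cfsg.Agent.S0459

open Equiv Cfsg.Agent.Lib.Helper41_RuTab Cfsg.Agent.Lib.Helper41_RuTr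
  Cfsg.Agent.Lib.Helper41_RuLin Cfsg.Agent.Lib.Helper41_RuSub
  Cfsg.Agent.Lib.Helper41_RuPerm Cfsg.Agent.Lib.Helper41_RuDet
  Cfsg.Agent.Lib.Helper41_RuChain Cfsg.Agent.Lib.Helper41_SimpleCert2
  Cfsg.Agent.Lib.Helper41_SimpleCert3

/-! ### the group of order 145926144000 -/

/-- the group -/
abbrev G : Subgroup (Perm (Fin 4060)) := K 0

instance pretransitive_G : MulAction.IsPretransitive G (Fin 4060) := by
  refine ⟨fun a b => ?_⟩
  obtain ⟨ga, hga, hga0⟩ := exists_K0 a
  obtain ⟨gb, hgb, hgb0⟩ := exists_K0 b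
  refine ⟨⟨gb * ga⁻¹, G.mul_mem hgb (G.inv_mem hga)⟩, ?_⟩
  show (gb * ga⁻¹) a = b
  rw [Perm.mul_apply, ← hga0]
  simp [hgb0]

theorem card_G : Nat.card G = 145926144000 := card_K0

/-- the suborbit colouring -/
def cG (p : Fin 4060) : Fin 3 := ⟨subI p.val, (subCheck_all p.val p.isLt).1⟩

theorem subC_mem (p : ℕ) (hp : p < 4060) : wordP 1 (digs9 (subC p)) ∈ K 1 :=
  word9_mem (by norm_num) (subCheck_all p hp).2.1

theorem subC_apply (p : ℕ) (hp : p < 4060) (x : Fin 4060) :
    (wordP 1 (digs9 (subC p)) x).val = ev9 1 (subC p) x.val :=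
  word9_apply (by norm_num) (subCheck_all p hp).2.1 x

theorem rep_lt (i : ℕ) : rep i < 4060 := by
  rcases i with _ | _ | _ <;> simp [rep]

theorem card_fiber (i : Fin 3) :
    (Finset.univ.filter fun p : Fin 4060 => cG p = i).card = subSize i.val := by
  have h1 : (Finset.univ.filter fun p : Fin 4060 => cG p = i) =
      Finset.univ.filter (fun p : Fin 4060 => (fun q => Nat.beq (subI q) i.val) p.val = true) := by
    ext p
    simp only [Finset.mem_filter, Finset.mem_univ, true_and]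
    rw [Nat.beq_eq, Fin.ext_iff]
    rfl
  rw [h1, card_filter_fin 4060 (fun q => Nat.beq (subI q) i.val)]
  have h2 := subCount
  rw [List.all_eq_true] at h2
  exact Nat.eq_of_beq_eq_true (h2 i.val (List.mem_range.mpr i.isLt))

instance preprimitive_G : MulAction.IsPreprimitive G (Fin 4060) := by
  apply isPreprimitive_of_suborbits (0 : Fin 4060) cG
  · intro p q hpq
    have hpq' : subI p.val = subI q.val := congrArg Fin.val hpq
    have hp := subCheck_all p.val p.isLt
    have hq := subCheck_all q.val q.isLt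
    have hm : wordP 1 (digs9 (subC q.val)) * (wordP 1 (digs9 (subC p.val)))⁻¹ ∈ K 1 :=
      (K 1).mul_mem (subC_mem _ q.isLt) ((K 1).inv_mem (subC_mem _ p.isLt))
    refine ⟨⟨_, K1_le hm⟩, K1_fix0 _ hm, ?_⟩
    show (wordP 1 (digs9 (subC q.val)) * (wordP 1 (digs9 (subC p.val)))⁻¹) p = q
    have h1 : wordP 1 (digs9 (subC p.val)) ⟨rep (subI p.val), rep_lt _⟩ = p := by
      apply Fin.ext
      rw [subC_apply _ p.isLt]
      exact hp.2.2
    have h2 : wordP 1 (digs9 (subC q.val)) ⟨rep (subI p.val), rep_lt _⟩ = q := by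
      apply Fin.ext
      rw [subC_apply _ q.isLt]
      show ev9 1 (subC q.val) (rep (subI p.val)) = q.val
      rw [hpq']
      exact hq.2.2
    rw [Perm.mul_apply, Perm.inv_eq_iff_eq.mpr h1.symm, h2]
  · intro p hp
    have h1 : subI p.val = subI 0 := congrArg Fin.val hp
    rw [subI_zero] at h1
    have h2 := allLt_sound subZero p.val p.isLt
    rw [h1] at h2
    have h3 : Nat.beq 0 0 = true := rfl
    rw [h3, Bool.not_true, Bool.false_or] at h2
    exact Fin.ext (Nat.eq_of_beq_eq_true h2)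
  · intro I h0 hdvd
    have hc0 : cG 0 = 0 := Fin.ext subI_zero
    rw [hc0] at h0 ⊢
    apply subsetCheck I h0
    rw [Fintype.card_fin] at hdvd
    rw [Finset.sum_congr rfl (fun i _ => card_fiber i)] at hdvd
    exact hdvd

theorem powN_eq (lvl : ℕ) (hl : lvl < 7) (k : ℕ) (x : Fin 4060) :
    powN lvl 1 k x.val = (((letP lvl 1) ^ k) x).val := by
  induction k with
  | zero => rfl
  | succ k ih =>
    rw [pow_succ', Perm.mul_apply, letP_apply hl (by norm_num), ← ih]
    rfl

/-- the element of order 29 -/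
def x29 : G := ⟨letP 0 1, letP_mem (by norm_num) (by norm_num)⟩

theorem x29_pow : x29 ^ 29 = 1 := by
  apply Subtype.ext
  show (letP 0 1) ^ 29 = 1
  exact eq_one_of_fixesAll (G.pow_mem x29.2 29) (powN 0 1 29)
    (fun x => powN_eq 0 (by norm_num) 29 x) pow29Check

theorem okU : ok9 (gU 0) = true ∧ ok9 (gU 1) = true ∧ ok9 (gU 2) = true ∧ ok9 (gU 3) = true ∧
    ∀ x < 4060, apL 0 2 (evG x) = evG (apL 0 1 x) := by
  have h := conjCheckU
  simp only [Bool.and_eq_true] at h
  exact ⟨h.1.1.1.1, h.1.1.1.2, h.1.1.2, h.1.2,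
    fun x hx => Nat.eq_of_beq_eq_true (allLt_sound h.2 x hx)⟩

/-- the conjugating element -/
def gG : Perm (Fin 4060) :=
  wordP 0 (digs9 (gU 0)) * wordP 1 (digs9 (gU 1)) * wordP 2 (digs9 (gU 2)) *
    wordP 3 (digs9 (gU 3))

theorem gG_mem : gG ∈ G :=
  G.mul_mem (G.mul_mem (G.mul_mem (word9_mem (by norm_num) okU.1)
    (K_le_K0 1 (word9_mem (by norm_num) okU.2.1)))
    (K_le_K0 2 (word9_mem (by norm_num) okU.2.2.1)))
    (K_le_K0 3 (word9_mem (by norm_num) okU.2.2.2.1))

theorem gG_apply (x : Fin 4060) : (gG x).val = evG x.val := by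
  rw [gG, Perm.mul_apply, Perm.mul_apply, Perm.mul_apply, word9_apply (by norm_num) okU.1,
    word9_apply (by norm_num) okU.2.1, word9_apply (by norm_num) okU.2.2.1,
    word9_apply (by norm_num) okU.2.2.2.1]
  rfl

theorem conj_eq : letP 0 2 = gG * letP 0 1 * gG⁻¹ := by
  have h : letP 0 2 * gG = gG * letP 0 1 := by
    apply Equiv.ext
    intro i
    apply Fin.ext
    rw [Perm.mul_apply, Perm.mul_apply, letP_apply (by norm_num) (by norm_num), gG_apply,
      gG_apply, letP_apply (by norm_num) (by norm_num)]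
    exact okU.2.2.2.2 i.val i.isLt
  rw [← h]
  group

theorem key (N : Subgroup G) (hN : N.Normal) (hx : x29 ∈ N) : N = ⊤ := by
  apply eq_top_of_gens G ({letP 0 1, letP 0 2} : Set (Perm (Fin 4060))) (K_eq (by norm_num)) N
  rintro s (rfl | rfl) hs
  · exact hx
  · let g : G := ⟨gG, gG_mem⟩
    have h : (⟨letP 0 2, hs⟩ : G) = g * x29 * g⁻¹ := Subtype.ext conj_eq
    rw [h]
    exact hN.conj_mem _ hx g

theorem simple_G : IsSimpleGroup G := by
  have : Finite G := Nat.finite_of_card_ne_zero (by rw [card_G]; norm_num)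
  have hnt : Nontrivial G := by
    rw [← Finite.one_lt_card_iff_nontrivial, card_G]; norm_num
  exact isSimpleGroup_of_prime_cert (Ω := Fin 4060) 29 (by norm_num)
    (by rw [Nat.card_fin]; norm_num) (by rw [card_G]; norm_num) hnt x29 x29_pow key

theorem card_stab : Nat.card (MulAction.stabilizer G (0 : Fin 4060)) = 35942400 := by
  have h1 := MulAction.index_stabilizer_of_transitive (G := G) (x := (0 : Fin 4060))
  have h2 := Subgroup.index_mul_card (MulAction.stabilizer G (0 : Fin 4060))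
  rw [h1, Nat.card_fin, card_G] at h2
  omega

/-! ### the subgroup of order 17971200 -/

/-- the subgroup -/
abbrev T : Subgroup (Perm (Fin 4060)) := K 4

theorem card_T : Nat.card T = 17971200 := card_K4

theorem inOrb4 : inOrb 4 2 = true ∧ inOrb 4 3 = true := by decide +kernel

theorem subIT_lt {p : Fin 4060} (hp : p ∈ orb 4) : subIT p.val < 5 :=
  (subCheckT_all p.val p.isLt (mem_orb.mp hp)).1

/-- the suborbit colouring -/
def cT (p : Fin 4060) : Fin 5 := if h : subIT p.val < 5 then ⟨subIT p.val, h⟩ else 0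

theorem cT_val {p : Fin 4060} (hp : p ∈ orb 4) : (cT p).val = subIT p.val := by
  rw [cT, dif_pos (subIT_lt hp)]

theorem subCT_mem (p : ℕ) (hp : p < 4060) (ho : inOrb 4 p = true) :
    wordP 5 (digs9 (subCT p)) ∈ K 5 :=
  word9_mem (by norm_num) (subCheckT_all p hp ho).2.1

theorem subCT_apply (p : ℕ) (hp : p < 4060) (ho : inOrb 4 p = true) (x : Fin 4060) :
    (wordP 5 (digs9 (subCT p)) x).val = ev9 5 (subCT p) x.val :=
  word9_apply (by norm_num) (subCheckT_all p hp ho).2.1 x

theorem repT_lt (i : ℕ) : repT i < 4060 := by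
  rcases i with _ | _ | _ | _ | _ <;> simp [repT]

theorem card_fiberT (i : Fin 5) :
    ((orb 4).filter fun p : Fin 4060 => cT p = i).card = subSizeT i.val := by
  have h1 : ((orb 4).filter fun p : Fin 4060 => cT p = i) =
      Finset.univ.filter (fun p : Fin 4060 =>
        (fun q => inOrb 4 q && Nat.beq (subIT q) i.val) p.val = true) := by
    ext p
    simp only [Finset.mem_filter, Finset.mem_univ, true_and, Bool.and_eq_true]
    rw [Nat.beq_eq, mem_orb]
    constructor
    · rintro ⟨hp, hc⟩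
      refine ⟨hp, ?_⟩
      rw [← cT_val (mem_orb.mpr hp), hc]
    · rintro ⟨hp, hc⟩
      refine ⟨hp, Fin.ext ?_⟩
      rw [cT_val (mem_orb.mpr hp), hc]
  rw [h1, card_filter_fin 4060 (fun q => inOrb 4 q && Nat.beq (subIT q) i.val)]
  have h2 := subCountT
  rw [List.all_eq_true] at h2
  exact Nat.eq_of_beq_eq_true (h2 i.val (List.mem_range.mpr i.isLt))

theorem base4_mem : baseF 4 ∈ orb 4 := mem_orb.mpr (baseCheck_spec (lvl := 4) (by norm_num)).1

theorem cT_base : cT (baseF 4) = 0 := by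
  apply Fin.ext
  rw [cT_val base4_mem]
  exact subIT_one

theorem faithful_T {g : Perm (Fin 4060)} (hg : g ∈ T) (h : ∀ q ∈ orb 4, g q = q) : g = 1 := by
  have h1 : g (baseF 4) = baseF 4 := h _ base4_mem
  have h2 : g (baseF 5) = baseF 5 := h _ (mem_orb.mpr inOrb4.1)
  have h3 : g (baseF 6) = baseF 6 := h _ (mem_orb.mpr inOrb4.2)
  have m5 : g ∈ K 5 := by
    have : K 4 ⊓ MulAction.stabilizer P (baseF 4) = K 5 :=
      stab_K_step (lvl := 4) (by norm_num)
    rw [← this]
    exact ⟨hg, h1⟩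
  have m6 : g ∈ K 6 := by
    have : K 5 ⊓ MulAction.stabilizer P (baseF 5) = K 6 :=
      stab_K_step (lvl := 5) (by norm_num)
    rw [← this]
    exact ⟨m5, h2⟩
  have m7 : g ∈ K 7 := by
    have : K 6 ⊓ MulAction.stabilizer P (baseF 6) = K 7 :=
      stab_K_step (lvl := 6) (by norm_num)
    rw [← this]
    exact ⟨m6, h3⟩
  rw [K7_eq, Subgroup.mem_bot] at m7
  exact m7

/-- the element of order 13 -/
def x13 : T := ⟨letP 4 1, letP_mem (by norm_num) (by norm_num)⟩

theorem x13_pow : x13 ^ 13 = 1 := by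
  apply Subtype.ext
  show (letP 4 1) ^ 13 = 1
  exact eq_one_of_fixesAll (K_le_K0 4 (T.pow_mem x13.2 13)) (powN 4 1 13)
    (fun x => powN_eq 4 (by norm_num) 13 x) pow13Check

theorem okT : ok9 (gT 4) = true ∧ ok9 (gT 5) = true ∧ ok9 (gT 6) = true ∧
    ∀ x < 4060, apL 4 2 (evGT x) = evGT (apL 4 1 x) := by
  have h := conjCheckT
  simp only [Bool.and_eq_true] at h
  exact ⟨h.1.1.1, h.1.1.2, h.1.2, fun x hx => Nat.eq_of_beq_eq_true (allLt_sound h.2 x hx)⟩

/-- the conjugating element -/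
def gTT : Perm (Fin 4060) :=
  wordP 4 (digs9 (gT 4)) * wordP 5 (digs9 (gT 5)) * wordP 6 (digs9 (gT 6))

theorem gTT_mem : gTT ∈ T :=
  T.mul_mem (T.mul_mem (word9_mem (by norm_num) okT.1)
    (K5_le (word9_mem (by norm_num) okT.2.1)))
    (K5_le (K6_le (word9_mem (by norm_num) okT.2.2.1)))

theorem gTT_apply (x : Fin 4060) : (gTT x).val = evGT x.val := by
  rw [gTT, Perm.mul_apply, Perm.mul_apply, word9_apply (by norm_num) okT.1,
    word9_apply (by norm_num) okT.2.1, word9_apply (by norm_num) okT.2.2.1]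
  rfl

theorem conjT_eq : letP 4 2 = gTT * letP 4 1 * gTT⁻¹ := by
  have h : letP 4 2 * gTT = gTT * letP 4 1 := by
    apply Equiv.ext
    intro i
    apply Fin.ext
    rw [Perm.mul_apply, Perm.mul_apply, letP_apply (by norm_num) (by norm_num), gTT_apply,
      gTT_apply, letP_apply (by norm_num) (by norm_num)]
    exact okT.2.2.2 i.val i.isLt
  rw [← h]
  group

theorem keyT (N : Subgroup T) (hN : N.Normal) (hx : x13 ∈ N) : N = ⊤ := by
  apply eq_top_of_gens T ({letP 4 1, letP 4 2} : Set (Perm (Fin 4060))) (K_eq (by norm_num)) N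
  rintro s (rfl | rfl) hs
  · exact hx
  · let g : T := ⟨gTT, gTT_mem⟩
    have h : (⟨letP 4 2, hs⟩ : T) = g * x13 * g⁻¹ := Subtype.ext conjT_eq
    rw [h]
    exact hN.conj_mem _ hx g

theorem simple_T : IsSimpleGroup T := by
  have : Finite T := Nat.finite_of_card_ne_zero (by rw [card_T]; norm_num)
  have hnt : Nontrivial T := by
    rw [← Finite.one_lt_card_iff_nontrivial, card_T]; norm_num
  apply isSimpleGroup_of_orbit_cert T (orb 4) (baseF 4) base4_mem
    (fun g hg q hq => apply_mem_orb (lvl := 4) (by norm_num) hg hq)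
    (fun q hq => ⟨tr 4 q, tr_mem (lvl := 4) (by norm_num) (mem_orb.mp hq),
      tr_apply_base (lvl := 4) (by norm_num) (mem_orb.mp hq)⟩)
    (fun g hg h => faithful_T hg h) cT ?_ ?_ ?_ 13 (by norm_num)
    (by rw [orb_card.2.2.2.2.1]; norm_num) (by rw [card_T]; norm_num) hnt x13 x13_pow keyT
  · intro p hp q hq hpq
    have hpo := mem_orb.mp hp
    have hqo := mem_orb.mp hq
    have hpq' : subIT p.val = subIT q.val := by
      rw [← cT_val hp, ← cT_val hq, hpq]
    have hp' := subCheckT_all p.val p.isLt hpo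
    have hq' := subCheckT_all q.val q.isLt hqo
    have hm : wordP 5 (digs9 (subCT q.val)) * (wordP 5 (digs9 (subCT p.val)))⁻¹ ∈ K 5 :=
      (K 5).mul_mem (subCT_mem _ q.isLt hqo) ((K 5).inv_mem (subCT_mem _ p.isLt hpo))
    refine ⟨_, K5_le hm, K_nxt_fix (lvl := 4) (by norm_num) _ hm, ?_⟩
    have h1 : wordP 5 (digs9 (subCT p.val)) ⟨repT (subIT p.val), repT_lt _⟩ = p := by
      apply Fin.ext
      rw [subCT_apply _ p.isLt hpo]
      exact hp'.2.2
    have h2 : wordP 5 (digs9 (subCT q.val)) ⟨repT (subIT p.val), repT_lt _⟩ = q := by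
      apply Fin.ext
      rw [subCT_apply _ q.isLt hqo]
      show ev9 5 (subCT q.val) (repT (subIT p.val)) = q.val
      rw [hpq']
      exact hq'.2.2
    rw [Perm.mul_apply, Perm.inv_eq_iff_eq.mpr h1.symm, h2]
  · intro p hp hc
    have hpo := mem_orb.mp hp
    have h1 : subIT p.val = 0 := by
      rw [← cT_val hp, hc, cT_base]
      rfl
    have h2 := allLt_sound subZeroT p.val p.isLt
    rw [hpo, h1] at h2
    have h3 : Nat.beq 0 0 = true := rfl
    rw [h3, Bool.and_self, Bool.not_true, Bool.false_or] at h2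
    exact Fin.ext (Nat.eq_of_beq_eq_true h2)
  · intro I h0 hdvd
    rw [cT_base] at h0 ⊢
    apply subsetCheckT I h0
    rw [orb_card.2.2.2.2.1] at hdvd
    rw [Finset.sum_congr rfl (fun i _ => card_fiberT i)] at hdvd
    exact hdvd

/-- The Rudvalis group exists as a transitive permutation group of degree 4060: simple of order 145926144000, with point stabiliser of order 35942400 containing a simple subgroup of order 17971200 (the order of the Tits group). -/
theorem result : ∃ H : Subgroup (Equiv.Perm (Fin 4060)), Cfsg.IsRu H ∧ MulAction.IsPretransitive H (Fin 4060) ∧ Nat.card (MulAction.stabilizer H (0 : Fin 4060)) = 35942400 ∧ ∃ T : Subgroup (MulAction.stabilizer H (0 : Fin 4060)), Cfsg.IsTits T := by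
  refine ⟨G, ⟨simple_G, card_G⟩, pretransitive_G, card_stab, ?_⟩
  have hle : T.subgroupOf G ≤ MulAction.stabilizer G (0 : Fin 4060) := by
    intro g hg
    rw [MulAction.mem_stabilizer_iff]
    show g.1 0 = 0
    exact K1_fix0 _ (K4_le (Subgroup.mem_subgroupOf.mp hg))
  let e : (T.subgroupOf G).subgroupOf (MulAction.stabilizer G (0 : Fin 4060)) ≃* T :=
    (Subgroup.subgroupOfEquivOfLe hle).trans (Subgroup.subgroupOfEquivOfLe (K_le_K0 4))
  refine ⟨(T.subgroupOf G).subgroupOf (MulAction.stabilizer G (0 : Fin 4060)), ?_, ?_⟩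
  · have := simple_T
    exact e.isSimpleGroup
  · rw [Nat.card_congr e.toEquiv]
    exact card_T

end Cfsg.Agent.S0459
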