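import Cfsg.Statements.S1699
import Cfsg.Agent.Lib.Helper28_ONOrder
import Cfsg.Agent.Lib.Helper28_ONQuot
import Cfsg.Agent.Lib.Helper28_Iwasawa
set_option autoImplicit false
set_option linter.constructorNameAsVariable false
open Cfsg
namespace Cfsg.Agent.S1699

open Cfsg.Spor Cfsg.Agent.Lib.Helper28_CosetPerm Cfsg.Agent.Lib.Helper28_ONOrder
  Cfsg.Agent.Lib.Helper28_Iwasawa

/-- the presented group -/
abbrev G : Type := PresentedGroup RELS

/-- generator images -/
abbrev gen (x : ON.Gen) : G := PresentedGroup.of x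

/-! ### killing `y = b c d g` kills everything -/

/-- the word `b c d g` (its fifth power is a relator) -/
abbrev yF : FreeGroup ON.Gen := ON.b * ON.c * ON.d * ON.g

/-- the element `y = b c d g` of order dividing `5` -/
abbrev yG : G := PresentedGroup.mk RELS yF

theorem y_pow : yG ^ 5 = 1 := by
  have hmem : yF ^ 5 ∈ RELS := Or.inr (by simp [ON.extra])
  have h := PresentedGroup.one_of_mem hmem
  rwa [map_pow] at h

/-- A homomorphism from the free group killing the relators and the word `b c d g` is trivial on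
the generators. -/
theorem psi_trivial {Q : Type*} [Group Q] (ψ : FreeGroup ON.Gen →* Q)
    (hrel : ∀ r ∈ RELS, ψ r = 1) (hy : ψ yF = 1) : ∀ x : ON.Gen, ψ (FreeGroup.of x) = 1 := by
  have cox : ∀ x ∈ coxNodes ON.edges, ∀ y ∈ coxNodes ON.edges,
      (ψ (FreeGroup.of x) * ψ (FreeGroup.of y)) ^ coxLabel ON.edges x y = 1 := by
    intro x hx y hy
    have h := hrel _ (Or.inl ⟨x, hx, y, hy, rfl⟩)
    rwa [map_pow, map_mul] at h
  have sq : ∀ x ∈ coxNodes ON.edges, ψ (FreeGroup.of x) * ψ (FreeGroup.of x) = 1 := by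
    intro x hx
    have h := cox x hx x hx
    have h1 : coxLabel ON.edges x x = 1 := by simp [coxLabel]
    rwa [h1, pow_one] at h
  have ex : ∀ r ∈ ON.extra, ψ r = 1 := fun r hr => hrel r (Or.inr hr)
  have r2 := ex ((ON.a * ON.f) * (((ON.c * ON.d) ^ 4)⁻¹)) (by simp [ON.extra])
  have r3 := ex (ON.c * ((ON.d * ON.g * ON.d * ON.g)⁻¹ * ON.c * (ON.d * ON.g * ON.d * ON.g)))
    (by simp [ON.extra])
  have r6 := ex (ON.g * ON.b * (ON.c⁻¹ * ON.g * ON.c) * (ON.b⁻¹ * ON.g * ON.b) * (ON.c⁻¹ * ON.g * ON.c))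
    (by simp [ON.extra])
  have r7 := ex (ON.g * ON.e * (ON.d⁻¹ * ON.g * ON.d) * (ON.e⁻¹ * ON.g * ON.e) * (ON.d⁻¹ * ON.g * ON.d))
    (by simp [ON.extra])
  simp only [map_mul, map_inv, map_pow] at r2 r3 r6 r7 hy
  have hab := cox .a (by decide) .b (by decide)
  have hbc := cox .b (by decide) .c (by decide)
  have hde := cox .d (by decide) .e (by decide)
  rw [show coxLabel ON.edges .a .b = 3 by decide] at hab
  rw [show coxLabel ON.edges .b .c = 3 by decide] at hbc
  rw [show coxLabel ON.edges .d .e = 3 by decide] at hde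
  obtain ⟨h1, h2, h3, h4, h5, h6, h7⟩ :=
    Cfsg.Agent.Lib.Helper28_ONQuot.on_quot_trivial (ψ ON.a) (ψ ON.b) (ψ ON.c) (ψ ON.d) (ψ ON.e)
      (ψ ON.f) (ψ ON.g) (sq .a (by decide)) (sq .b (by decide)) (sq .c (by decide))
      (sq .d (by decide)) (sq .e (by decide)) hab hbc hde r2 r3 r6 r7 hy
  intro x
  cases x
  · exact h7
  · exact h1
  · exact h2
  · exact h3
  · exact h4
  · exact h5
  · exact h6

theorem normalClosure_y : Subgroup.normalClosure ({yG} : Set G) = ⊤ := by
  set N := Subgroup.normalClosure ({yG} : Set G) with hN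
  have hnormal : N.Normal := Subgroup.normalClosure_normal
  have hy : yG ∈ N := Subgroup.subset_normalClosure (Set.mem_singleton _)
  have key := psi_trivial ((QuotientGroup.mk' N).comp (PresentedGroup.mk RELS))
    (by
      intro r hr
      rw [MonoidHom.comp_apply, PresentedGroup.one_of_mem hr, map_one])
    (by
      rw [MonoidHom.comp_apply]
      exact (QuotientGroup.eq_one_iff _).mpr hy)
  rw [eq_top_iff, ← PresentedGroup.closure_range_of RELS, Subgroup.closure_le]
  rintro _ ⟨x, rfl⟩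
  have h := key x
  rw [MonoidHom.comp_apply] at h
  exact (QuotientGroup.eq_one_iff _).mp h

/-! ### the maximal subgroup `H = L₃(7):2` -/

/-- the generating set of `H` -/
abbrev SH : Set (FreeGroup ON.Gen) :=
  {Cfsg.Spor.ON.a, Cfsg.Spor.ON.b, Cfsg.Spor.ON.c, Cfsg.Spor.ON.d, Cfsg.Spor.ON.e, Cfsg.Spor.ON.f}

/-- the subgroup `H` -/
abbrev H : Subgroup G := (Subgroup.closure SH).map (PresentedGroup.mk RELS)

theorem H_data : H.index = 122760 ∧ ∃ q1 q2 q3 q4 : G ⧸ H,
    (MulAction.orbit H q1).ncard = 58653 ∧ (MulAction.orbit H q2).ncard = 52136 ∧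
    (MulAction.orbit H q3).ncard = 5586 ∧ (MulAction.orbit H q4).ncard = 6384 :=
  Cfsg.Agent.Lib.Helper28_S1692.lower Cfsg.Agent.Lib.Helper28_S1692.U.upper.1
    Cfsg.Agent.Lib.Helper28_S1692.U.upper.2

theorem H_index : H.index = 122760 := H_data.1

theorem H_max : ∀ K : Subgroup G, H ≤ K → K = H ∨ K = ⊤ := by
  obtain ⟨hidx, q₁, q₂, q₃, q₄, h1, h2, h3, h4⟩ := H_data
  have h0 : (MulAction.orbit H (((1 : G) : G ⧸ H))).ncard = 1 := by
    rw [orbit_base]; exact Set.ncard_singleton _
  have hm : ∀ i : Fin 5, (MulAction.orbit H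
      ((![(((1 : G) : G ⧸ H)), q₁, q₂, q₃, q₄] : Fin 5 → G ⧸ H) i)).ncard =
      (![1, 58653, 52136, 5586, 6384] : Fin 5 → ℕ) i := by
    intro i
    fin_cases i
    · exact h0
    · exact h1
    · exact h2
    · exact h3
    · exact h4
  have hminj : Function.Injective (![1, 58653, 52136, 5586, 6384] : Fin 5 → ℕ) := by decide
  apply maximal_of_suborbits H (r := 4) ![(((1 : G) : G ⧸ H)), q₁, q₂, q₃, q₄] rfl
    ![1, 58653, 52136, 5586, 6384] hm
  · intro i j hij heq
    have hc := congrArg Set.ncard heq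
    rw [hm i, hm j] at hc
    exact hij (hminj hc)
  · rw [hidx]; simp [Fin.sum_univ_succ]
  · rw [hidx]; norm_num
  · rw [hidx]; decide

theorem card_H : Nat.card H = 3753792 := by
  have h := Subgroup.card_mul_index H
  rw [H_index, card_eq] at h
  have : Nat.card H * 122760 = 3753792 * 122760 := by rw [h]
  exact Nat.eq_of_mul_eq_mul_right (by norm_num) this

/-! ### a normal subgroup inside `H` is trivial -/

theorem transX : ∀ x : Fin 122760, ∃ g : G, rhoS1692 g 0 = x := by
  intro x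
  obtain ⟨w, hw⟩ := Cfsg.Agent.Lib.Helper28_S1692.verified.htrans x
  exact ⟨PresentedGroup.mk RELS w, hw⟩

theorem H_fix : ∀ h ∈ H, rhoS1692 h 0 = 0 := by
  intro h hh
  have := map_closure_le_stabilizer (perm Cfsg.Agent.Lib.Helper28_S1692.verified.hv)
    Cfsg.Agent.Lib.Helper28_S1692.verified.hrel SH Cfsg.Agent.Lib.Helper28_S1692.verified.hsub hh
  exact this

theorem normal_le_H_eq_bot (N : Subgroup G) [hN : N.Normal] (hNH : N ≤ H) : N = ⊥ := by
  rw [Subgroup.eq_bot_iff_forall]
  intro z hz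
  apply eq_one_of_act
  ext x
  obtain ⟨g, rfl⟩ := transX x
  have hz' : g⁻¹ * z * g⁻¹⁻¹ ∈ N := hN.conj_mem z hz g⁻¹
  have hfix := H_fix _ (hNH hz')
  have e : z * g = g * (g⁻¹ * z * g⁻¹⁻¹) := by group
  rw [← Equiv.Perm.mul_apply, ← map_mul, e, map_mul, Equiv.Perm.mul_apply, hfix]
  rfl

/-! ### elements of order `5` lie in every normal subgroup supplementing `H` -/

theorem y_mem (N : Subgroup G) [hN : N.Normal] (hsup : H ⊔ N = ⊤) : yG ∈ N := by
  have hsurj : Function.Surjective ((QuotientGroup.mk' N).comp H.subtype) := by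
    intro q
    obtain ⟨g, rfl⟩ := QuotientGroup.mk'_surjective N q
    have hg : g ∈ ((H ⊔ N : Subgroup G) : Set G) := by rw [hsup]; trivial
    rw [Subgroup.mul_normal] at hg
    obtain ⟨h, hh, n, hn, rfl⟩ := Set.mem_mul.mp hg
    refine ⟨⟨h, hh⟩, ?_⟩
    rw [MonoidHom.comp_apply, Subgroup.coe_subtype, map_mul]
    have : (QuotientGroup.mk' N) n = 1 := (QuotientGroup.eq_one_iff _).mpr hn
    rw [this, mul_one]
  have hdvd : Nat.card (G ⧸ N) ∣ Nat.card H := Subgroup.card_dvd_of_surjective _ hsurj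
  rw [card_H] at hdvd
  have hy5 : ((QuotientGroup.mk' N) yG) ^ 5 = 1 := by rw [← map_pow, y_pow, map_one]
  have hord : orderOf ((QuotientGroup.mk' N) yG) ∣ 5 := orderOf_dvd_of_pow_eq_one hy5
  have hord2 : orderOf ((QuotientGroup.mk' N) yG) ∣ 3753792 :=
    (orderOf_dvd_natCard _).trans hdvd
  have h1 : orderOf ((QuotientGroup.mk' N) yG) ∣ Nat.gcd 5 3753792 := Nat.dvd_gcd hord hord2
  have h2 : Nat.gcd 5 3753792 = 1 := by norm_num
  rw [h2, Nat.dvd_one, orderOf_eq_one_iff] at h1
  exact (QuotientGroup.eq_one_iff _).mp h1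

/-! ### the result -/

/-- The presented O'Nan group is simple of the expected order (that is, it is a simple group of the order of the O'Nan group). -/
theorem result : Cfsg.IsON Cfsg.Spor.ON := by
  refine ⟨?_, card_eq⟩
  have hnt : Nontrivial G := by
    rw [← Finite.one_lt_card_iff_nontrivial, card_eq]
    norm_num
  refine ⟨fun N hN => ?_⟩
  by_cases hNH : N ≤ H
  · exact Or.inl (normal_le_H_eq_bot N hNH)
  · right
    have hsup : H ⊔ N = ⊤ := by
      rcases H_max (H ⊔ N) le_sup_left with h | h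
      · exact absurd (h ▸ (le_sup_right : N ≤ H ⊔ N)) hNH
      · exact h
    have hy := y_mem N hsup
    have hle : Subgroup.normalClosure ({yG} : Set G) ≤ N :=
      Subgroup.normalClosure_le_normal (Set.singleton_subset_iff.mpr hy)
    rw [normalClosure_y] at hle
    exact top_le_iff.mp hle

end Cfsg.Agent.S1699
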