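import Cfsg.Statements.S1695
import Cfsg.Agent.S1683
import Cfsg.Agent.Lib.Helper56_HeOrderU
import Cfsg.Agent.Lib.Helper56_HeLB
import Cfsg.Agent.Lib.Helper56_HeFacts
import Cfsg.Agent.Lib.Helper56_CoprimeFix
import Cfsg.Agent.Lib.Helper56_PermAct
import Cfsg.Agent.Lib.Helper28_Iwasawa

set_option autoImplicit false
set_option linter.constructorNameAsVariable false
open Cfsg
namespace Cfsg.Agent.S1695

open Cfsg.Spor Cfsg.Agent.Lib.Helper28_CosetPerm Cfsg.Agent.Lib.Helper56_WordLB
  Cfsg.Agent.Lib.Helper56_HeLB Cfsg.Agent.Lib.Helper56_HeFacts Cfsg.Agent.Lib.Helper28_Iwasawa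
  Cfsg.Agent.Lib.Helper56_PermAct Cfsg.Agent.Lib.Helper56_CoprimeFix

/-- the relators -/
abbrev RELS : Set (FreeGroup He.Gen) := coxRelators He.edges ∪ {r | r ∈ He.extra}

/-- the presented group -/
abbrev G : Type := PresentedGroup RELS

/-- generator images -/
abbrev gen (x : He.Gen) : G := PresentedGroup.of x

instance finG : Finite G := Cfsg.Agent.Lib.Helper56_HeOrder.card_le.1

/-! ### the order -/

theorem pstab_pos : 0 < Nat.card (pstab rho [b3, b2, b1, b0]) := Nat.card_pos

theorem card_eq : Nat.card G = 4030387200 := by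
  have h1 : Nat.card G ≤ 4030387200 := Cfsg.Agent.Lib.Helper56_HeOrder.card_le.2
  have h2 : 4030387200 * Nat.card (pstab rho [b3, b2, b1, b0]) ≤ Nat.card G := chain
  have h3 := pstab_pos
  apply le_antisymm h1
  calc 4030387200 = 4030387200 * 1 := rfl
    _ ≤ 4030387200 * Nat.card (pstab rho [b3, b2, b1, b0]) := Nat.mul_le_mul_left _ h3
    _ ≤ _ := h2

theorem pstab_card : Nat.card (pstab rho [b3, b2, b1, b0]) = 1 := by
  have h1 : Nat.card G ≤ 4030387200 := Cfsg.Agent.Lib.Helper56_HeOrder.card_le.2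
  have h2 : 4030387200 * Nat.card (pstab rho [b3, b2, b1, b0]) ≤ Nat.card G := chain
  have h3 := pstab_pos
  by_contra h
  have h4 : 2 ≤ Nat.card (pstab rho [b3, b2, b1, b0]) := by omega
  have h5 := Nat.mul_le_mul_left 4030387200 h4
  omega

/-- the action on the 2058 cosets is faithful -/
theorem rho_inj : Function.Injective rho := by
  rw [← MonoidHom.ker_eq_bot_iff, eq_bot_iff]
  refine (ker_le_pstab rho [b3, b2, b1, b0]).trans ?_
  rw [Subgroup.eq_bot_of_card_eq _ pstab_card]

theorem trans0 : ∀ x : Fin 2058, ∃ g : G, rho g 0 = x := by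
  intro x
  obtain ⟨w, hw⟩ := Cfsg.Agent.Lib.Helper28_S1683.verified.htrans x
  exact ⟨PresentedGroup.mk RELS w, hw⟩

/-! ### relations -/

theorem all_nodes (x : He.Gen) : x ∈ coxNodes He.edges := by
  cases x <;> decide

theorem cox_rel (x y : He.Gen) : (gen x * gen y) ^ coxLabel He.edges x y = 1 := by
  have h : (FreeGroup.of x * FreeGroup.of y) ^ coxLabel He.edges x y ∈ RELS :=
    Or.inl ⟨x, all_nodes x, y, all_nodes y, rfl⟩
  have := PresentedGroup.one_of_mem h
  simpa [PresentedGroup.of] using this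

theorem gen_sq (x : He.Gen) : gen x * gen x = 1 := by
  have h := cox_rel x x
  have h1 : coxLabel He.edges x x = 1 := by simp [coxLabel]
  rwa [h1, pow_one] at h

theorem rel_de : (gen .d * gen .e) ^ 3 = 1 := by
  have h := cox_rel .d .e
  rwa [show coxLabel He.edges .d .e = 3 by decide] at h

theorem rel_df : (gen .d * gen .f) ^ 3 = 1 := by
  have h := cox_rel .d .f
  rwa [show coxLabel He.edges .d .f = 3 by decide] at h

theorem extra_rel (r : FreeGroup He.Gen) (hr : r ∈ He.extra) : PresentedGroup.mk RELS r = 1 :=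
  PresentedGroup.one_of_mem (Or.inr hr)

theorem rel_e1 : gen .e = (gen .f * gen .g) ^ 2 := by
  have h := extra_rel (He.e * ((He.f * He.g) ^ 2)⁻¹) (by simp [He.extra])
  rw [map_mul, map_inv, mul_inv_eq_one, map_pow, map_mul] at h
  exact h

theorem rel_e2 : gen .e = (gen .a * gen .b * gen .c) ^ 3 := by
  have h := extra_rel (He.e * ((He.a * He.b * He.c) ^ 3)⁻¹) (by simp [He.extra])
  rw [map_mul, map_inv, mul_inv_eq_one, map_pow, map_mul, map_mul] at h
  exact h

theorem rel_a : gen .a = (gen .c * gen .d) ^ 5 := by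
  have h := extra_rel (He.a * ((He.c * He.d) ^ 5)⁻¹) (by simp [He.extra])
  rw [map_mul, map_inv, mul_inv_eq_one, map_pow, map_mul] at h
  exact h

/-! ### the elements `u = b c d f` and `t = d f g` -/

/-- `b c d f` -/
def uG : G := PresentedGroup.mk RELS (FreeGroup.mk uw)

/-- `d f g` -/
def tG : G := PresentedGroup.mk RELS (FreeGroup.mk tw)

theorem uG_eq : uG = gen .b * gen .c * gen .d * gen .f := rfl

theorem tG_eq : tG = gen .d * gen .f * gen .g := rfl

theorem uG_pow : uG ^ 17 = 1 := by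
  apply rho_inj
  rw [map_one]
  have h : (FreeGroup.mk uw : FreeGroup He.Gen) ^ 17 = FreeGroup.mk u17 := by decide
  show rho (PresentedGroup.mk RELS (FreeGroup.mk uw) ^ 17) = 1
  rw [← map_pow, h]
  exact u17_triv

theorem tG_pow : tG ^ 7 = 1 := by
  apply rho_inj
  rw [map_one]
  have h : (FreeGroup.mk tw : FreeGroup He.Gen) ^ 7 = FreeGroup.mk t7 := by decide
  show rho (PresentedGroup.mk RELS (FreeGroup.mk tw) ^ 7) = 1
  rw [← map_pow, h]
  exact t7_triv

theorem uG_fix : rho uG x0 = x0 := u_fix_x0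

theorem uG_fix_unique (k : Fin 2058) (h : rho uG k = k) : k = x0 := u_fix_unique k h

/-! ### the maximal subgroup `H = S₄(4):2` -/

/-- the generating set of `H` -/
abbrev SH : Set (FreeGroup He.Gen) :=
  {Cfsg.Spor.He.a, Cfsg.Spor.He.c, Cfsg.Spor.He.d, Cfsg.Spor.He.e, Cfsg.Spor.He.f, (Cfsg.Spor.He.a * Cfsg.Spor.He.b) ^ 2, (Cfsg.Spor.He.b * Cfsg.Spor.He.c * Cfsg.Spor.He.d * Cfsg.Spor.He.e) ^ 7}

/-- the subgroup `H` -/
abbrev H : Subgroup G := (Subgroup.closure SH).map (PresentedGroup.mk RELS)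

theorem H_max : ∀ K : Subgroup G, H ≤ K → K = H ∨ K = ⊤ := by
  obtain ⟨hidx, q₁, q₂, q₃, q₄, hne, h1, h2, h3, h4⟩ := Cfsg.Agent.S1683.result
  change H.index = 2058 at hidx
  change MulAction.orbit H q₁ ≠ MulAction.orbit H q₂ at hne
  change (MulAction.orbit H q₁).ncard = 136 at h1
  change (MulAction.orbit H q₂).ncard = 136 at h2
  change (MulAction.orbit H q₃).ncard = 425 at h3
  change (MulAction.orbit H q₄).ncard = 1360 at h4
  have h0 : (MulAction.orbit H (((1 : G) : G ⧸ H))).ncard = 1 := by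
    rw [orbit_base]; exact Set.ncard_singleton _
  have hm : ∀ i : Fin 5, (MulAction.orbit H ((![(((1 : G) : G ⧸ H)), q₁, q₂, q₃, q₄] : Fin 5 → G ⧸ H) i)).ncard =
      (![1, 136, 136, 425, 1360] : Fin 5 → ℕ) i := by
    intro i
    fin_cases i
    · exact h0
    · exact h1
    · exact h2
    · exact h3
    · exact h4
  apply maximal_of_suborbits H (r := 4) ![(((1 : G) : G ⧸ H)), q₁, q₂, q₃, q₄] rfl ![1, 136, 136, 425, 1360] hm
  · intro i j hij heq
    have hc := congrArg Set.ncard heq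
    rw [hm i, hm j] at hc
    fin_cases i <;> fin_cases j <;>
      first
        | exact absurd rfl hij
        | exact absurd hc (by decide)
        | exact hne heq
        | exact hne heq.symm
  · rw [hidx]; simp [Fin.sum_univ_succ]
  · rw [hidx]; norm_num
  · rw [hidx]; decide

theorem H_fix : ∀ h ∈ H, rho h 0 = 0 := by
  intro h hh
  have := map_closure_le_stabilizer (perm Cfsg.Agent.Lib.Helper28_S1683.verified.hv)
    Cfsg.Agent.Lib.Helper28_S1683.verified.hrel SH Cfsg.Agent.Lib.Helper28_S1683.verified.hsub hh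
  exact this

/-! ### normal subgroups -/

theorem normal_trans (M : Subgroup G) [hM : M.Normal] (hne : M ≠ ⊥) :
    ∀ x : Fin 2058, ∃ m ∈ M, rho m 0 = x := by
  have hnotle : ¬ M ≤ H := by
    intro hle
    apply hne
    rw [eq_bot_iff]
    intro m hm
    rw [Subgroup.mem_bot]
    apply rho_inj
    rw [map_one]
    ext x
    obtain ⟨g, rfl⟩ := trans0 x
    have hc : g⁻¹ * m * g ∈ M := by simpa using hM.conj_mem m hm g⁻¹
    have h0 := H_fix _ (hle hc)
    have h1 : rho m (rho g 0) = rho g (rho (g⁻¹ * m * g) 0) := by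
      rw [← Equiv.Perm.mul_apply, ← Equiv.Perm.mul_apply, ← map_mul, ← map_mul]
      congr 2
      group
    rw [h1, h0]
    rfl
  have htop : H ⊔ M = ⊤ := by
    rcases H_max (H ⊔ M) le_sup_left with h | h
    · exfalso
      apply hnotle
      rw [← h]
      exact le_sup_right
    · exact h
  intro x
  obtain ⟨g, rfl⟩ := trans0 x
  have hg : g ∈ ((M ⊔ H : Subgroup G) : Set G) := by
    rw [sup_comm, htop]
    trivial
  rw [Subgroup.normal_mul] at hg
  obtain ⟨m, hm, h, hh, rfl⟩ := hg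
  refine ⟨m, hm, ?_⟩
  rw [map_mul, Equiv.Perm.mul_apply, H_fix h hh]

theorem card_dvd (M : Subgroup G) : Nat.card M ∣ 4030387200 := by
  rw [← card_eq]
  exact Subgroup.card_subgroup_dvd_card M

theorem fac7 (M : Subgroup G) (h : 7 ^ 3 ∣ Nat.card M) : (Nat.card M).factorization 7 = 3 := by
  have hpos : Nat.card M ≠ 0 := Nat.card_pos.ne'
  have h7 : Nat.Prime 7 := by norm_num
  apply le_antisymm
  · by_contra hlt
    have h4 : 4 ≤ (Nat.card M).factorization 7 := by omega
    have hd : 7 ^ 4 ∣ Nat.card M := (h7.pow_dvd_iff_le_factorization hpos).mpr h4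
    have := hd.trans (card_dvd M)
    norm_num at this
  · exact (h7.pow_dvd_iff_le_factorization hpos).mp h

theorem seventeen_dvd (M : Subgroup G) [M.Normal] (hne : M ≠ ⊥) : 17 ∣ Nat.card M := by
  by_contra h17
  have htr := normal_trans M hne
  have h2058 : 2058 ∣ Nat.card M := dvd_card_of_trans rho M 0 htr
  have h343 : 7 ^ 3 ∣ Nat.card M := Dvd.dvd.trans (by norm_num) h2058
  have hfac := fac7 M h343
  have : Fact (Nat.Prime 17) := ⟨by norm_num⟩
  have : Fact (Nat.Prime 7) := ⟨by norm_num⟩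
  obtain ⟨p, hpM, hp1, hpow, hcomm⟩ :=
    exists_commuting_of_sylow M 17 7 uG uG_pow h17 (by rw [hfac]; decide)
  rw [hfac] at hpow
  have hfix : rho uG (rho p x0) = rho p x0 := by
    rw [← Equiv.Perm.mul_apply, ← map_mul, hcomm, map_mul, Equiv.Perm.mul_apply, uG_fix]
  have hpx0 : rho p x0 = x0 := uG_fix_unique _ hfix
  have hmem : p ∈ pstab rho [x0] := by
    rw [mem_pstab]
    intro x hx
    rw [List.mem_singleton] at hx
    rw [hx]
    exact hpx0
  have hcard : 2058 * Nat.card (pstab rho [x0]) = Nat.card G :=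
    card_pstab_single rho x0 (trans_of_trans rho 0 x0 trans0)
  rw [card_eq] at hcard
  have hcs : Nat.card (pstab rho [x0]) = 1958400 := by omega
  have hp2 : p ^ 1958400 = 1 := by
    have h1 : (⟨p, hmem⟩ : pstab rho [x0]) ^ Nat.card (pstab rho [x0]) = 1 := pow_card_eq_one'
    rw [hcs] at h1
    have h2 := congrArg (fun t : pstab rho [x0] => (t : G)) h1
    simpa using h2
  have h3 := pow_gcd_eq_one.mpr ⟨hpow, hp2⟩
  norm_num at h3
  exact hp1 h3

theorem index_dvd (M : Subgroup G) [M.Normal] (hne : M ≠ ⊥) : M.index ∣ 691200 := by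
  have h17 := seventeen_dvd M hne
  have h2058 : 2058 ∣ Nat.card M := dvd_card_of_trans rho M 0 (normal_trans M hne)
  have h343 : 343 ∣ Nat.card M := Dvd.dvd.trans (by norm_num) h2058
  have h5831 : 17 * 343 ∣ Nat.card M :=
    Nat.Coprime.mul_dvd_of_dvd_of_dvd (by norm_num) h17 h343
  obtain ⟨j, hj⟩ := h5831
  have hci := Subgroup.card_mul_index M
  rw [card_eq, hj] at hci
  refine ⟨j, ?_⟩
  have : 17 * 343 * (j * M.index) = 17 * 343 * 691200 := by
    rw [← mul_assoc]; exact hci
  have h2 := Nat.eq_of_mul_eq_mul_left (by norm_num) this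
  rw [← h2, Nat.mul_comm]

theorem uG_mem (M : Subgroup G) [M.Normal] (hne : M ≠ ⊥) : uG ∈ M :=
  mem_of_pow_coprime M uG 17 uG_pow
    (Nat.Coprime.coprime_dvd_right (index_dvd M hne) (by norm_num))

theorem tG_mem (M : Subgroup G) [M.Normal] (hne : M ≠ ⊥) : tG ∈ M :=
  mem_of_pow_coprime M tG 7 tG_pow
    (Nat.Coprime.coprime_dvd_right (index_dvd M hne) (by norm_num))

theorem eq_top_of_mem (M : Subgroup G) [M.Normal] (hu : uG ∈ M) (ht : tG ∈ M) : M = ⊤ := by
  set π : G →* G ⧸ M := QuotientGroup.mk' M with hπ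
  have hk : ∀ x : G, x ∈ M → π x = 1 := fun x hx => (QuotientGroup.eq_one_iff x).mpr hx
  have hsq : ∀ x : He.Gen, π (gen x) * π (gen x) = 1 := by
    intro x
    rw [← map_mul, gen_sq, map_one]
  have hall := kill_aux (π (gen .a)) (π (gen .b)) (π (gen .c)) (π (gen .d)) (π (gen .e))
    (π (gen .f)) (π (gen .g)) (hsq _) (hsq _) (hsq _) (hsq _) (hsq _) (hsq _)
    (by rw [← map_mul, ← map_pow, rel_de, map_one])
    (by rw [← map_mul, ← map_pow, rel_df, map_one])
    (by rw [← map_mul, ← map_pow, ← rel_e1])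
    (by rw [← map_mul, ← map_mul, ← map_pow, ← rel_e2])
    (by rw [← map_mul, ← map_pow, ← rel_a])
    (by rw [← map_mul, ← map_mul, ← map_mul, ← uG_eq]; exact hk _ hu)
    (by rw [← map_mul, ← map_mul, ← tG_eq]; exact hk _ ht)
  obtain ⟨ha, hb, hc, hd, he, hf, hg⟩ := hall
  have hmem : ∀ x : He.Gen, gen x ∈ M := by
    intro x
    rw [← QuotientGroup.eq_one_iff]
    cases x <;> assumption
  rw [eq_top_iff, ← PresentedGroup.closure_range_of RELS, Subgroup.closure_le]
  rintro _ ⟨x, rfl⟩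
  exact hmem x

/-! ### the result -/

theorem result : Cfsg.IsHe Cfsg.Spor.He := by
  refine ⟨?_, card_eq⟩
  have hnt : Nontrivial G := by
    rw [← Finite.one_lt_card_iff_nontrivial, card_eq]
    norm_num
  refine ⟨fun M hM => ?_⟩
  by_cases hbot : M = ⊥
  · exact Or.inl hbot
  · exact Or.inr (eq_top_of_mem M (uG_mem M hbot) (tG_mem M hbot))

end Cfsg.Agent.S1695
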