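import Cfsg.Statements.S1684
import Cfsg.Agent.S1696
import Cfsg.Agent.S1687
import Cfsg.Agent.S0280
import Cfsg.Agent.S0283
import Cfsg.Agent.Lib.Helper28_U6Fi22
import Cfsg.Agent.Lib.Helper28_Fi22U6R1
import Cfsg.Agent.Lib.Helper28_Fi22U6R2
import Cfsg.Agent.Lib.Helper28_Fi22U6R3

set_option autoImplicit false
set_option linter.constructorNameAsVariable false
open Cfsg

namespace Cfsg.Agent.S1684

open Cfsg.Spor Cfsg.Agent.Lib.Helper91_K4 Cfsg.Agent.Lib.Helper28_U6Pts
  Cfsg.Agent.Lib.Helper28_U6Theta Cfsg.Agent.Lib.Helper28_U6Fi22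
  Cfsg.Agent.Lib.Helper28_U6Fi22Data Cfsg.Agent.Lib.Helper28_CosetPerm
  Cfsg.Agent.Lib.Helper28_CommonAct Cfsg.Agent.Lib.Helper28_Fi22Order
  Cfsg.Agent.Lib.Helper28_S1687 Cfsg.Agent.S1696 Equiv

/-! ### faithfulness of the action on 3510 points -/

theorem rhoX_injective : Function.Injective rhoX := by
  rw [← MonoidHom.ker_eq_bot_iff]
  have hs : IsSimpleGroup G := Cfsg.Agent.S1696.result.1
  rcases hs.eq_bot_or_eq_top_of_normal rhoX.ker inferInstance with h | h
  · exact h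
  · exfalso
    obtain ⟨g, hg⟩ := transX 1
    have : g ∈ rhoX.ker := h ▸ Subgroup.mem_top g
    rw [MonoidHom.mem_ker] at this
    rw [this] at hg
    exact absurd hg (by decide)

theorem mk_eq_one (u : List (Fi22.Gen × Bool))
    (h : FreeGroup.lift (perm verified.hv) (FreeGroup.mk u) = 1) :
    PresentedGroup.mk RELS (FreeGroup.mk u) = 1 := by
  apply rhoX_injective
  rw [map_one]
  exact (psi_mk (rels := RELS) (perm verified.hv) verified.hrel _).trans h

/-! ### the three relations -/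

/-- the generator `(abcdeh)^5` -/
noncomputable abbrev w0 : G :=
  PresentedGroup.mk RELS ((Fi22.a * Fi22.b * Fi22.c * Fi22.d * Fi22.e * Fi22.h) ^ 5)

theorem rel1 : (gen .c * gen .d * gen .e * gen .f * gen .g * gen .h * gen .i) ^ 9 = 1 := by
  have hu : (FreeGroup.mk Cfsg.Agent.Lib.Helper28_Fi22U6R1.u : FreeGroup Fi22.Gen) =
      (Fi22.c * Fi22.d * Fi22.e * Fi22.f * Fi22.g * Fi22.h * Fi22.i) ^ 9 := by decide
  have h1 := mk_eq_one _ Cfsg.Agent.Lib.Helper28_Fi22U6R1.trivS1687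
  rw [hu, map_pow, map_mul, map_mul, map_mul, map_mul, map_mul, map_mul] at h1
  exact h1

theorem rel2 : (w0 * gen .f) ^ 3 = 1 := by
  have hu : (FreeGroup.mk Cfsg.Agent.Lib.Helper28_Fi22U6R2.u : FreeGroup Fi22.Gen) =
      ((Fi22.a * Fi22.b * Fi22.c * Fi22.d * Fi22.e * Fi22.h) ^ 5 * Fi22.f) ^ 3 := by decide
  have h1 := mk_eq_one _ Cfsg.Agent.Lib.Helper28_Fi22U6R2.trivS1687
  rw [hu, map_pow, map_mul] at h1
  exact h1

set_option maxRecDepth 100000 in
theorem rel3 : (gen .c * gen .d * gen .e * gen .h * gen .i * w0) ^ 5 = gen .a := by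
  have hu : (FreeGroup.mk Cfsg.Agent.Lib.Helper28_Fi22U6R3.u : FreeGroup Fi22.Gen) =
      (Fi22.c * Fi22.d * Fi22.e * Fi22.h * Fi22.i *
        (Fi22.a * Fi22.b * Fi22.c * Fi22.d * Fi22.e * Fi22.h) ^ 5) ^ 5 * Fi22.a⁻¹ := by decide
  have h1 := mk_eq_one _ Cfsg.Agent.Lib.Helper28_Fi22U6R3.trivS1687
  rw [hu, map_mul, map_inv, map_pow, map_mul, map_mul, map_mul, map_mul, map_mul] at h1
  exact mul_inv_eq_one.mp h1

/-! ### the generators as elements of `H` -/

theorem gen_mem (x : Fi22.Gen) (hx : (FreeGroup.of x : FreeGroup Fi22.Gen) ∈ SH) : gen x ∈ H :=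
  mem_H_of_mem _ hx

/-- a generator as an element of `H` -/
noncomputable def hg (x : Fi22.Gen) (hx : (FreeGroup.of x : FreeGroup Fi22.Gen) ∈ SH) : H :=
  ⟨gen x, gen_mem x hx⟩

theorem memA : (FreeGroup.of Fi22.Gen.a : FreeGroup Fi22.Gen) ∈ SH := by simp [SH]
theorem memC : (FreeGroup.of Fi22.Gen.c : FreeGroup Fi22.Gen) ∈ SH := by simp [SH]
theorem memD : (FreeGroup.of Fi22.Gen.d : FreeGroup Fi22.Gen) ∈ SH := by simp [SH]
theorem memE : (FreeGroup.of Fi22.Gen.e : FreeGroup Fi22.Gen) ∈ SH := by simp [SH]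
theorem memF : (FreeGroup.of Fi22.Gen.f : FreeGroup Fi22.Gen) ∈ SH := by simp [SH]
theorem memG : (FreeGroup.of Fi22.Gen.g : FreeGroup Fi22.Gen) ∈ SH := by simp [SH]
theorem memH : (FreeGroup.of Fi22.Gen.h : FreeGroup Fi22.Gen) ∈ SH := by simp [SH]
theorem memI : (FreeGroup.of Fi22.Gen.i : FreeGroup Fi22.Gen) ∈ SH := by simp [SH]
theorem memW : ((Fi22.a * Fi22.b * Fi22.c * Fi22.d * Fi22.e * Fi22.h) ^ 5 : FreeGroup Fi22.Gen) ∈ SH := by
  simp [SH]

/-- the central involution -/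
noncomputable def hA : H := hg .a memA

/-- `(abcdeh)^5` as an element of `H` -/
noncomputable def hW : H := ⟨w0, mem_H_of_mem _ memW⟩

/-! ### every subgroup of index two contains `a` -/

theorem cox3 (x y : Fi22.Gen) (h : coxLabel Fi22.edges x y = 3) : (gen x * gen y) ^ 3 = 1 := by
  have := cox_rel x y
  rwa [h] at this

theorem a_mem_of_index_two (L : Subgroup H) (hL : L.index = 2) : hA ∈ L := by
  have : L.Normal := Subgroup.normal_of_index_eq_two hL
  let χ : H →* H ⧸ L := QuotientGroup.mk' L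
  have hcardQ : Nat.card (H ⧸ L) = 2 := by rw [← Subgroup.index_eq_card]; exact hL
  have hsq : ∀ q : H ⧸ L, q * q = 1 := by
    intro q
    have := pow_card_eq_one' (x := q)
    rwa [hcardQ, pow_two] at this
  have hinv : ∀ q : H ⧸ L, q⁻¹ = q := fun q => inv_eq_of_mul_eq_one_left (hsq q)
  have hbraid : ∀ x y : H, (x * y) ^ 3 = 1 → χ x = χ y := by
    intro x y h
    have h1 : (χ x * χ y) ^ 3 = 1 := by rw [← map_mul, ← map_pow, h, map_one]
    have h2 : (χ x * χ y) * (χ x * χ y) = 1 := hsq _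
    have h3 : χ x * χ y = 1 := by
      rw [pow_succ, pow_two, h2, one_mul] at h1
      exact h1
    calc χ x = (χ y)⁻¹ := eq_inv_of_mul_eq_one_left h3
      _ = χ y := hinv _
  have ecd : χ (hg .c memC) = χ (hg .d memD) :=
    hbraid _ _ (Subtype.ext (cox3 .c .d (by decide)))
  have ede : χ (hg .d memD) = χ (hg .e memE) :=
    hbraid _ _ (Subtype.ext (cox3 .d .e (by decide)))
  have eef : χ (hg .e memE) = χ (hg .f memF) :=
    hbraid _ _ (Subtype.ext (cox3 .e .f (by decide)))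
  have efg : χ (hg .f memF) = χ (hg .g memG) :=
    hbraid _ _ (Subtype.ext (cox3 .f .g (by decide)))
  have edh : χ (hg .d memD) = χ (hg .h memH) :=
    hbraid _ _ (Subtype.ext (cox3 .d .h (by decide)))
  have ehi : χ (hg .h memH) = χ (hg .i memI) :=
    hbraid _ _ (Subtype.ext (cox3 .h .i (by decide)))
  have ewf : χ hW = χ (hg .f memF) := hbraid _ _ (Subtype.ext rel2)
  set t := χ (hg .c memC) with ht
  have hd : χ (hg .d memD) = t := ecd.symm
  have he : χ (hg .e memE) = t := by rw [← ede, hd]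
  have hf' : χ (hg .f memF) = t := by rw [← eef, he]
  have hg' : χ (hg .g memG) = t := by rw [← efg, hf']
  have hh : χ (hg .h memH) = t := by rw [← edh, hd]
  have hi : χ (hg .i memI) = t := by rw [← ehi, hh]
  have hw : χ hW = t := by rw [ewf, hf']
  have r1 : (hg .c memC * hg .d memD * hg .e memE * hg .f memF * hg .g memG * hg .h memH *
      hg .i memI) ^ 9 = 1 := Subtype.ext rel1
  have r3 : (hg .c memC * hg .d memD * hg .e memE * hg .h memH * hg .i memI * hW) ^ 5 = hA :=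
    Subtype.ext rel3
  have htt : t * t = 1 := hsq t
  have ht1 : t = 1 := by
    have h := congrArg χ r1
    rw [map_pow, map_mul, map_mul, map_mul, map_mul, map_mul, map_mul, hd, he, hf', hg', hh, hi,
      map_one] at h
    have h7 : t * t * t * t * t * t * t = t := by
      rw [htt, one_mul, htt, one_mul, htt, one_mul]
    rw [h7] at h
    have h9 : t ^ 9 = t := by
      have : t ^ 9 = (t * t) * (t * t) * (t * t) * (t * t) * t := by
        simp only [pow_succ, pow_zero, one_mul, mul_assoc]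
      rw [this, htt]; simp
    rwa [h9] at h
  have hA1 : χ hA = 1 := by
    rw [← r3, map_pow, map_mul, map_mul, map_mul, map_mul, map_mul, hd, he, hh, hi, hw, ← ht, ht1]
    simp
  exact (QuotientGroup.eq_one_iff hA).mp hA1

/-! ### orders -/

theorem card_H : Nat.card H = 18393661440 := by
  have hidx : H.index = 3510 := Cfsg.Agent.S1687.result.1
  have h := Subgroup.card_mul_index H
  rw [hidx, card_eq] at h
  have h2 : Nat.card H * 3510 = 18393661440 * 3510 := by rw [h]
  exact Nat.eq_of_mul_eq_mul_right (by norm_num) h2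

theorem card_PSU : Nat.card (Cfsg.PSU 6 K4 2) = 9196830720 := by
  have h := Cfsg.Agent.S0280.result (F := K4) cardK4 6 (by norm_num)
  have hg : Nat.gcd 6 (2 + 1) = 3 := by decide
  rw [hg] at h
  have hp : ∏ i ∈ Finset.range 6, (if Even i then 2 ^ (i + 1) + 1 else 2 ^ (i + 1) - 1) =
      3 * 3 * 9 * 15 * 33 * 63 := by
    simp only [Finset.prod_range_succ, Finset.prod_range_zero]
    norm_num [Nat.even_iff]
  rw [hp] at h
  have h2 : 3 * ((2 + 1) * Nat.card (Cfsg.PSU 6 K4 2)) = 3 * ((2 + 1) * 9196830720) := by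
    rw [h]; norm_num
  exact Nat.eq_of_mul_eq_mul_left (by norm_num) (Nat.eq_of_mul_eq_mul_left (by norm_num) h2)

theorem center_PSU : Subgroup.center (Cfsg.PSU 6 K4 2) = ⊥ := by
  have hs : IsSimpleGroup (Cfsg.PSU 6 K4 2) :=
    Cfsg.Agent.S0283.result (F := K4) cardK4 6 (by norm_num) (by norm_num)
  rcases hs.eq_bot_or_eq_top_of_normal (Subgroup.center (Cfsg.PSU 6 K4 2)) inferInstance with h | h
  · exact h
  · exfalso
    let _ : CommGroup (Cfsg.PSU 6 K4 2) := Group.commGroupOfCenterEqTop h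
    have hp := IsSimpleGroup.prime_card (α := Cfsg.PSU 6 K4 2)
    rw [card_PSU] at hp
    norm_num at hp

/-! ### the central involution -/

theorem hA_ker : hA ∈ rhoXr.ker := by
  rw [MonoidHom.mem_ker]
  exact rhoXr_fix _ uA eA _ chkA

theorem hA_ne_one : hA ≠ 1 := by
  intro h
  have h1 : gen .a = 1 := congrArg Subtype.val h
  have h2 := normalClosure_a
  rw [h1] at h2
  have h3 : Subgroup.normalClosure ((Subgroup.zpowers (1 : G) : Subgroup G) : Set G) = ⊥ := by
    rw [Subgroup.zpowers_one_eq_bot, Subgroup.coe_bot]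
    exact Subgroup.normalClosure_eq_bot_iff.mpr (by simp)
  rw [h3] at h2
  have h4 : Nat.card G = 1 := by
    rw [← Subgroup.card_top, ← h2, Subgroup.card_bot]
  rw [card_eq] at h4
  norm_num at h4

theorem hA_center : hA ∈ Subgroup.center H := by
  rw [Subgroup.mem_center_iff]
  intro g
  apply Subtype.ext
  have hc := H_le_centralizer g.2
  rw [Subgroup.mem_centralizer_iff] at hc
  exact (hc _ rfl).symm

/-- In the presented Fischer group Fi₂₂, the subgroup generated by the images of a, c, d, e, f, g, h, i and (abcdeh)^5 is a non-split double cover of PSU(6, 2) (realised over a field with four elements). -/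
theorem result : ∃ (K : Type) (_ : Field K) (_ : Fintype K), Fintype.card K = 4 ∧ Cfsg.IsNonsplitDoubleCover (((Subgroup.closure ({Cfsg.Spor.Fi22.a, Cfsg.Spor.Fi22.c, Cfsg.Spor.Fi22.d, Cfsg.Spor.Fi22.e, Cfsg.Spor.Fi22.f, Cfsg.Spor.Fi22.g, Cfsg.Spor.Fi22.h, Cfsg.Spor.Fi22.i, (Cfsg.Spor.Fi22.a * Cfsg.Spor.Fi22.b * Cfsg.Spor.Fi22.c * Cfsg.Spor.Fi22.d * Cfsg.Spor.Fi22.e * Cfsg.Spor.Fi22.h) ^ 5} : Set (FreeGroup Cfsg.Spor.Fi22.Gen))).map (PresentedGroup.mk (Cfsg.Spor.coxRelators Cfsg.Spor.Fi22.edges ∪ {r | r ∈ Cfsg.Spor.Fi22.extra})))) (Cfsg.PSU 6 K 2) := by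
  refine ⟨K4, inferInstance, inferInstance, K4.card, ?_⟩
  have hfin : Finite H := inferInstance
  exact nonsplit_of_common_action (H := H) rhoXr thetaX range_eq thetaX_ker center_PSU
    (by rw [card_H, card_PSU]) hA hA_ker hA_ne_one hA_center a_mem_of_index_two

end Cfsg.Agent.S1684
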