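import Cfsg.Statements.S0471
import Cfsg.Agent.S1696
import Cfsg.Agent.S1687
import Cfsg.Agent.S1684
import Cfsg.Agent.Lib.Helper96_ThreeTrans

set_option autoImplicit false
set_option linter.constructorNameAsVariable false
open Cfsg

namespace Cfsg.Agent.S0471

open Cfsg.Spor Cfsg.Agent.Lib.Helper28_CosetPerm Cfsg.Agent.Lib.Helper28_Fi22Order
open Cfsg.Agent.Lib.Helper96_ThreeTrans Cfsg.Agent.S1696

/-- the transposition -/
noncomputable abbrev tG : G := gen .a

/-- the generator `b` moves the base point -/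
theorem walk_b : walk 65535 Cfsg.Agent.Lib.Helper28_S1687.col [(Fi22.Gen.b, true)] 0 ≠ 0 := by
  decide +kernel

theorem rho_b : rhoX (gen .b) 0 ≠ 0 := by
  intro h
  apply walk_b
  have h1 := walk_fin Cfsg.Agent.Lib.Helper28_S1687.verified.hv [(Fi22.Gen.b, true)] (0 : Fin 3510)
  have h2 : (FreeGroup.lift (perm Cfsg.Agent.Lib.Helper28_S1687.verified.hv)
      (FreeGroup.mk [(Fi22.Gen.b, true)])) (0 : Fin 3510) = 0 := h
  have h3 : (FreeGroup.lift (perm Cfsg.Agent.Lib.Helper28_S1687.verified.hv)
      (FreeGroup.mk [(Fi22.Gen.b, true)]))⁻¹ (0 : Fin 3510) = 0 := by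
    rw [Equiv.Perm.inv_def, Equiv.symm_apply_eq]
    exact h2.symm
  rw [h3] at h1
  simpa using h1

theorem a_ne_b : gen .a ≠ gen .b := by
  intro h
  apply rho_b
  rw [← h]
  exact H_fix (gen .a) (Subgroup.mem_map_of_mem _ (Subgroup.subset_closure (by simp [SH])))

theorem tG_sq : tG * tG = 1 := gen_sq .a

theorem tG_ne_one : tG ≠ 1 := fun h => Cfsg.Agent.S1684.hA_ne_one (Subtype.ext h)

theorem orderOf_tG : orderOf tG = 2 := by
  have : Fact (Nat.Prime 2) := ⟨Nat.prime_two⟩
  apply orderOf_eq_prime
  · rw [pow_two]; exact tG_sq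
  · exact tG_ne_one

/-- the second representative: `t t^g` has order 3 -/
theorem order_three : orderOf (prodConj tG (gen .a * gen .b)) = 3 := by
  have hb : gen .b = (gen .a * gen .b) * gen .a * (gen .a * gen .b)⁻¹ := gen_braid .a .b (by decide)
  unfold prodConj
  rw [← hb]
  have : Fact (Nat.Prime 3) := ⟨Nat.prime_three⟩
  apply orderOf_eq_prime
  · have h := cox_rel .a .b
    have h3 : coxLabel Fi22.edges .a .b = 3 := by decide
    rwa [h3] at h
  · intro h
    apply a_ne_b
    calc gen .a = (gen .a * gen .b) * (gen .b)⁻¹ := by group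
      _ = gen .b := by rw [h, gen_inv]; group

/-- `a` and `c` are different: `c d` has order 3 but `a d` has order 2 -/
theorem a_ne_c : gen .a ≠ gen .c := by
  intro h
  have h2 : (gen .c * gen .d) ^ 2 = 1 := by
    rw [← h]
    have := cox_rel .a .d
    have e : coxLabel Fi22.edges .a .d = 2 := by decide
    rwa [e] at this
  have h3 : (gen .c * gen .d) ^ 3 = 1 := by
    have := cox_rel .c .d
    have e : coxLabel Fi22.edges .c .d = 3 := by decide
    rwa [e] at this
  have h1 : gen .c * gen .d = 1 := by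
    rw [pow_succ, h2, one_mul] at h3
    exact h3
  -- then `c = d`, so `c` commutes with `e`... use instead: `d = c` and `(c b)^3 = 1`, `(d b)^2 = 1`
  have hcd : gen .c = gen .d := by
    calc gen .c = (gen .c * gen .d) * (gen .d)⁻¹ := by group
      _ = gen .d := by rw [h1, gen_inv]; group
  have k2 : (gen .b * gen .c) ^ 2 = 1 := by
    rw [hcd]
    have := cox_rel .b .d
    have e : coxLabel Fi22.edges .b .d = 2 := by decide
    rwa [e] at this
  have k3 : (gen .b * gen .c) ^ 3 = 1 := by
    have := cox_rel .b .c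
    have e : coxLabel Fi22.edges .b .c = 3 := by decide
    rwa [e] at this
  have k1 : gen .b * gen .c = 1 := by
    rw [pow_succ, k2, one_mul] at k3
    exact k3
  have hbc : gen .b = gen .c := by
    calc gen .b = (gen .b * gen .c) * (gen .c)⁻¹ := by group
      _ = gen .c := by rw [k1, gen_inv]; group
  exact a_ne_b (h.trans hbc.symm)

/-- the first representative: `t t^g` has order 2 -/
theorem order_two : orderOf (prodConj tG ((gen .b * gen .c) * (gen .a * gen .b))) = 2 := by
  have hb : gen .b = (gen .a * gen .b) * gen .a * (gen .a * gen .b)⁻¹ := gen_braid .a .b (by decide)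
  have hb2 : gen .c = (gen .b * gen .c) * gen .b * (gen .b * gen .c)⁻¹ := gen_braid .b .c (by decide)
  have e : (gen .b * gen .c) * (gen .a * gen .b) * gen .a * ((gen .b * gen .c) * (gen .a * gen .b))⁻¹ = gen .c := by
    calc (gen .b * gen .c) * (gen .a * gen .b) * gen .a * ((gen .b * gen .c) * (gen .a * gen .b))⁻¹
        = (gen .b * gen .c) * ((gen .a * gen .b) * gen .a * (gen .a * gen .b)⁻¹) * (gen .b * gen .c)⁻¹ := by group
      _ = (gen .b * gen .c) * gen .b * (gen .b * gen .c)⁻¹ := by rw [← hb]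
      _ = gen .c := hb2.symm
  unfold prodConj
  rw [e]
  have : Fact (Nat.Prime 2) := ⟨Nat.prime_two⟩
  apply orderOf_eq_prime
  · have h := cox_rel .a .c
    have h2 : coxLabel Fi22.edges .a .c = 2 := by decide
    rwa [h2] at h
  · intro h
    apply a_ne_c
    calc gen .a = (gen .a * gen .c) * (gen .c)⁻¹ := by group
      _ = gen .c := by rw [h, gen_inv]; group

theorem H_comm : ∀ h ∈ H, h * tG = tG * h := by
  intro h hh
  have hc := H_le_centralizer hh
  rw [Subgroup.mem_centralizer_iff] at hc
  exact (hc tG rfl).symm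

/-- products of two conjugates of `t` have order 1, 2 or 3 -/
theorem three : ∀ g : G, (prodConj tG g) ^ 2 = 1 ∨ (prodConj tG g) ^ 3 = 1 := by
  obtain ⟨hidx, q₁, q₂, h1, h2⟩ := Cfsg.Agent.S1687.result
  change H.index = 3510 at hidx
  change (MulAction.orbit H q₁).ncard = 693 at h1
  change (MulAction.orbit H q₂).ncard = 2816 at h2
  have h0 : (MulAction.orbit H (((1 : G) : G ⧸ H))).ncard = 1 := by
    rw [Cfsg.Agent.Lib.Helper28_Iwasawa.orbit_base]; exact Set.ncard_singleton _
  have hm : ∀ i : Fin 3, (MulAction.orbit H ((![(((1 : G) : G ⧸ H)), q₁, q₂] : Fin 3 → G ⧸ H) i)).ncard =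
      (![1, 693, 2816] : Fin 3 → ℕ) i := by
    intro i
    fin_cases i
    · exact h0
    · exact h1
    · exact h2
  have hminj : Function.Injective (![1, 693, 2816] : Fin 3 → ℕ) := by decide
  refine three_of_rank3 tG H H_comm ![(((1 : G) : G ⧸ H)), q₁, q₂] ![1, 693, 2816] hm ?_ ?_ ?_ _ _ tG_sq
    order_two order_three
  · intro i j hij heq
    have hc := congrArg Set.ncard heq
    rw [hm i, hm j] at hc
    exact hij (hminj hc)
  · rw [hidx]; simp [Fin.sum_univ_succ]
  · rw [hidx]; norm_num

/-- the centraliser of `t` is `H` -/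
theorem centralizer_eq : Subgroup.centralizer {tG} = H := by
  rcases H_max _ H_le_centralizer with h | h
  · exact h
  · exfalso
    have hcen : ∀ g : G, g * tG = tG * g := by
      intro g
      have hg : g ∈ Subgroup.centralizer {tG} := by rw [h]; exact Subgroup.mem_top g
      rw [Subgroup.mem_centralizer_iff] at hg
      exact (hg tG rfl).symm
    have h3 := order_three
    have h1 : prodConj tG (gen .a * gen .b) = 1 := by
      unfold prodConj
      rw [hcen (gen .a * gen .b)]
      calc tG * (tG * (gen .a * gen .b) * (gen .a * gen .b)⁻¹) = tG * tG := by group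
        _ = 1 := tG_sq
    rw [h1, orderOf_one] at h3
    norm_num at h3

theorem card_D : Nat.card (conjugatesOf tG) = 3510 := by
  rw [card_conjugatesOf, centralizer_eq]
  exact Cfsg.Agent.S1687.result.1

/-- Existence of the Fischer group Fi₂₂ as a 3-transposition group. -/
theorem result : ∃ (G : Type) (_ : Group G) (_ : Finite G), Cfsg.IsFi22 G ∧ ∃ D : Set G, Cfsg.IsThreeTranspositionClass D ∧ Nat.card D = 3510 ∧ ∀ d ∈ D, ∃ (F : Type) (_ : Field F) (_ : Fintype F), Fintype.card F = 4 ∧ Cfsg.IsNonsplitDoubleCover (Subgroup.centralizer ({d} : Set G)) (Cfsg.PSU 6 F 2) := by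
  refine ⟨G, inferInstance, finiteFi22, Cfsg.Agent.S1696.result, conjugatesOf tG, ?_, card_D, ?_⟩
  · refine ⟨isThreeTranspositionSet_conjugatesOf tG orderOf_tG three, ⟨tG, mem_conjugatesOf_self, rfl⟩, ?_⟩
    exact closure_conjugatesOf_eq_top tG normalClosure_a
  · intro d hd
    have hd' : IsConj tG d := hd
    rw [isConj_iff] at hd'
    obtain ⟨c, rfl⟩ := hd'
    obtain ⟨K, fK, ftK, hK, hns⟩ := Cfsg.Agent.S1684.result
    refine ⟨K, fK, ftK, hK, ?_⟩
    have e1 : H ≃* Subgroup.centralizer {tG} := MulEquiv.subgroupCongr centralizer_eq.symm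
    exact nonsplit_of_equiv (e1.trans (centralizerConj c tG)) hns

end Cfsg.Agent.S0471
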