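import Cfsg.Statements.S1688
import Cfsg.Agent.S1689
import Cfsg.Agent.S1696
import Cfsg.Agent.Lib.Helper28_Fi23Order
import Cfsg.Agent.Lib.Helper28_DoubleCover
set_option autoImplicit false
set_option linter.constructorNameAsVariable false
open Cfsg
namespace Cfsg.Agent.S1688

open Cfsg.Spor Cfsg.Agent.Lib.Helper28_CosetPerm Cfsg.Agent.Lib.Helper28_Fi23Order
  Cfsg.Agent.Lib.Helper28_DoubleCover Cfsg.Agent.Lib.Helper28_CosetCox

/-- the presented group `Fi23` -/
abbrev G : Type := PresentedGroup RELS

/-- generator images -/
abbrev gen (x : Fi23.Gen) : G := PresentedGroup.of x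

theorem all_nodes (x : Fi23.Gen) : x ∈ coxNodes Fi23.edges := by
  cases x <;> decide

theorem cox_rel (x y : Fi23.Gen) : (gen x * gen y) ^ coxLabel Fi23.edges x y = 1 := by
  have h : (FreeGroup.of x * FreeGroup.of y) ^ coxLabel Fi23.edges x y ∈ RELS :=
    Or.inl ⟨x, all_nodes x, y, all_nodes y, rfl⟩
  have := PresentedGroup.one_of_mem h
  simpa [PresentedGroup.of] using this

/-- the generating set of `H` -/
abbrev SH : Set (FreeGroup Fi23.Gen) :=
  {Cfsg.Spor.Fi23.a, Cfsg.Spor.Fi23.b, Cfsg.Spor.Fi23.c, Cfsg.Spor.Fi23.d, Cfsg.Spor.Fi23.e, Cfsg.Spor.Fi23.f, Cfsg.Spor.Fi23.g, Cfsg.Spor.Fi23.h, Cfsg.Spor.Fi23.i}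

/-- the subgroup `H` -/
abbrev H : Subgroup G := (Subgroup.closure SH).map (PresentedGroup.mk RELS)

/-- the embedding of the generators of `Fi22` -/
def emb : Fi22.Gen → Fi23.Gen
  | .a => .a | .b => .b | .c => .c | .d => .d | .e => .e | .f => .f | .g => .g | .h => .h | .i => .i

theorem emb_mem (x : Fi22.Gen) : gen (emb x) ∈ H := by
  apply Subgroup.mem_map_of_mem
  apply Subgroup.subset_closure
  cases x <;> simp [emb, SH]

/-- the generators of `H` -/
def hgen (x : Fi22.Gen) : H := ⟨gen (emb x), emb_mem x⟩

theorem label_eq (x y : Fi22.Gen) :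
    coxLabel Fi22.edges x y = coxLabel Fi23.edges (emb x) (emb y) := by
  cases x <;> cases y <;> decide

theorem hgen_rel (x y : Fi22.Gen) : (hgen x * hgen y) ^ coxLabel Fi22.edges x y = 1 := by
  apply Subtype.ext
  rw [Subgroup.coe_pow, Subgroup.coe_mul, label_eq]
  exact cox_rel (emb x) (emb y)

theorem hgen_sq (x : Fi22.Gen) : hgen x * hgen x = 1 := by
  have h := hgen_rel x x
  have h1 : coxLabel Fi22.edges x x = 1 := by simp [coxLabel]
  rwa [h1, pow_one] at h

/-- a subgroup of `H` containing the generators is everything -/
theorem eq_top_of_hgen (M : Subgroup H) (hM : ∀ x, hgen x ∈ M) : M = ⊤ := by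
  rw [eq_top_iff]
  intro h _
  have hle : H ≤ M.map H.subtype := by
    rw [Subgroup.map_le_iff_le_comap, Subgroup.closure_le]
    intro s hs
    simp only [SH, Set.mem_insert_iff, Set.mem_singleton_iff] at hs
    have key : ∀ x : Fi22.Gen, PresentedGroup.mk RELS (FreeGroup.of (emb x)) ∈ M.map H.subtype :=
      fun x => ⟨hgen x, hM x, rfl⟩
    rcases hs with rfl | rfl | rfl | rfl | rfl | rfl | rfl | rfl | rfl
    · exact key .a
    · exact key .b
    · exact key .c
    · exact key .d
    · exact key .e
    · exact key .f
    · exact key .g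
    · exact key .h
    · exact key .i
  obtain ⟨h', hh', he⟩ := hle h.2
  have : h' = h := Subtype.ext he
  rw [← this]
  exact hh'

/-! ### the central involution -/

/-- the word `(bcdefgh)^9` -/
abbrev tF : FreeGroup Fi23.Gen := (Fi23.b * Fi23.c * Fi23.d * Fi23.e * Fi23.f * Fi23.g * Fi23.h) ^ 9

/-- the element `t` -/
abbrev tG : G := PresentedGroup.mk RELS tF

/-- the letters of `t` -/
def u_t : List (Fi23.Gen × Bool) := [(.b, true), (.c, true), (.d, true), (.e, true), (.f, true), (.g, true), (.h, true), (.b, true), (.c, true), (.d, true), (.e, true), (.f, true), (.g, true), (.h, true), (.b, true), (.c, true), (.d, true), (.e, true), (.f, true), (.g, true), (.h, true), (.b, true), (.c, true), (.d, true), (.e, true), (.f, true), (.g, true), (.h, true), (.b, true), (.c, true), (.d, true), (.e, true), (.f, true), (.g, true), (.h, true), (.b, true), (.c, true), (.d, true), (.e, true), (.f, true), (.g, true), (.h, true), (.b, true), (.c, true), (.d, true), (.e, true), (.f, true), (.g, true), (.h, true), (.b, true), (.c, true), (.d, true), (.e, true), (.f, true), (.g, true), (.h,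 true), (.b, true), (.c, true), (.d, true), (.e, true), (.f, true), (.g, true), (.h, true)]

set_option maxRecDepth 100000 in
theorem hu_t : (FreeGroup.mk u_t : FreeGroup Fi23.Gen) = tF := by decide

/-- the letters of `t * t` -/
def u_tt : List (Fi23.Gen × Bool) := [(.b, true), (.c, true), (.d, true), (.e, true), (.f, true), (.g, true), (.h, true), (.b, true), (.c, true), (.d, true), (.e, true), (.f, true), (.g, true), (.h, true), (.b, true), (.c, true), (.d, true), (.e, true), (.f, true), (.g, true), (.h, true), (.b, true), (.c, true), (.d, true), (.e, true), (.f, true), (.g, true), (.h, true), (.b, true), (.c, true), (.d, true), (.e, true), (.f, true), (.g, true), (.h, true), (.b, true), (.c, true), (.d, true), (.e, true), (.f, true), (.g, true), (.h, true), (.b, true), (.c, true), (.d, true), (.e, true), (.f, true), (.g, true), (.h, true), (.b, true), (.c, true), (.d, true), (.e, true), (.f, true), (.g, true), (.h, true), (.b, true), (.c, true), (.d, true), (.e, true), (.f, true), (.g, true), (.h, true), (.b, true), (.c, true), (.d, true), (.e, true), (.f, true), (.g, true),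 (.h, true), (.b, true), (.c, true), (.d, true), (.e, true), (.f, true), (.g, true), (.h, true), (.b, true), (.c, true), (.d, true), (.e, true), (.f, true), (.g, true), (.h, true), (.b, true), (.c, true), (.d, true), (.e, true), (.f, true), (.g, true), (.h, true), (.b, true), (.c, true), (.d, true), (.e, true), (.f, true), (.g, true), (.h, true), (.b, true), (.c, true), (.d, true), (.e, true), (.f, true), (.g, true), (.h, true), (.b, true), (.c, true), (.d, true), (.e, true), (.f, true), (.g, true), (.h, true), (.b, true), (.c, true), (.d, true), (.e, true), (.f, true), (.g, true), (.h, true), (.b, true), (.c, true), (.d, true), (.e, true), (.f, true), (.g, true), (.h, true)]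

set_option maxRecDepth 100000 in
theorem hu_tt : (FreeGroup.mk u_tt : FreeGroup Fi23.Gen) = tF * tF := by decide

theorem t_sq : tG * tG = 1 := by
  have h1 : PresentedGroup.mk RELS (FreeGroup.mk u_tt) = 1 := mk_eq_one_of_walk u_tt (by decide +kernel)
  rwa [hu_tt, map_mul] at h1

/-- the commutator word of `t` and `a` -/
def u_a : List (Fi23.Gen × Bool) := [(.b, true), (.c, true), (.d, true), (.e, true), (.f, true), (.g, true), (.h, true), (.b, true), (.c, true), (.d, true), (.e, true), (.f, true), (.g, true), (.h, true), (.b, true), (.c, true), (.d, true), (.e, true), (.f, true), (.g, true), (.h, true), (.b, true), (.c, true), (.d, true), (.e, true), (.f, true), (.g, true), (.h, true), (.b, true), (.c, true), (.d, true), (.e, true), (.f, true), (.g, true), (.h, true), (.b, true), (.c, true), (.d, true), (.e, true), (.f, true), (.g, true), (.h, true), (.b, true), (.c, true), (.d, true), (.e, true), (.f, true), (.g, true), (.h, true), (.b, true), (.c, true), (.d, true), (.e, true), (.f, true), (.g, true), (.h, true), (.b, true), (.c, true), (.d, true), (.e, true), (.f, true), (.g,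 true), (.h, true), (.a, true), (.h, false), (.g, false), (.f, false), (.e, false), (.d, false), (.c, false), (.b, false), (.h, false), (.g, false), (.f, false), (.e, false), (.d, false), (.c, false), (.b, false), (.h, false), (.g, false), (.f, false), (.e, false), (.d, false), (.c, false), (.b, false), (.h, false), (.g, false), (.f, false), (.e, false), (.d, false), (.c, false), (.b, false), (.h, false), (.g, false), (.f, false), (.e, false), (.d, false), (.c, false), (.b, false), (.h, false), (.g, false), (.f, false), (.e, false), (.d, false), (.c, false), (.b, false), (.h, false), (.g, false), (.f, false), (.e, false), (.d, false), (.c, false), (.b, false), (.h, false), (.g, false), (.f, false), (.e, false), (.d, false), (.c, false), (.b, false), (.h, false), (.g, false), (.f, false), (.e, false), (.d, false), (.c, false), (.b, false), (.a, false)]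

set_option maxRecDepth 100000 in
theorem hu_a : (FreeGroup.mk u_a : FreeGroup Fi23.Gen) = tF * Fi23.a * tF⁻¹ * Fi23.a⁻¹ := by decide

theorem comm_a : tG * gen .a = gen .a * tG := by
  have h1 : PresentedGroup.mk RELS (FreeGroup.mk u_a) = 1 := mk_eq_one_of_walk u_a (by decide +kernel)
  rw [hu_a, map_mul, map_mul, map_mul, map_inv, map_inv] at h1
  exact mul_inv_eq_iff_eq_mul.mp (mul_inv_eq_one.mp h1)

/-- the commutator word of `t` and `b` -/
def u_b : List (Fi23.Gen × Bool) := [(.b, true), (.c, true), (.d, true), (.e, true), (.f, true), (.g, true), (.h, true), (.b, true), (.c, true), (.d, true), (.e, true), (.f, true), (.g, true), (.h, true), (.b, true), (.c, true), (.d, true), (.e, true), (.f, true), (.g, true), (.h, true), (.b, true), (.c, true), (.d, true), (.e, true), (.f, true), (.g, true), (.h, true), (.b, true), (.c, true), (.d, true), (.e, true), (.f, true), (.g, true), (.h, true), (.b, true), (.c, true), (.d, true), (.e, true), (.f, true), (.g, true), (.h, true), (.b, true), (.c, true), (.d, true), (.e, true), (.f, true), (.g, true), (.h, true), (.b, true), (.c, true),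 (.d, true), (.e, true), (.f, true), (.g, true), (.h, true), (.b, true), (.c, true), (.d, true), (.e, true), (.f, true), (.g, true), (.h, true), (.b, true), (.h, false), (.g, false), (.f, false), (.e, false), (.d, false), (.c, false), (.b, false), (.h, false), (.g, false), (.f, false), (.e, false), (.d, false), (.c, false), (.b, false), (.h, false), (.g, false), (.f, false), (.e, false), (.d, false), (.c, false), (.b, false), (.h, false), (.g, false), (.f, false), (.e, false), (.d, false), (.c, false), (.b, false), (.h, false), (.g, false), (.f, false), (.e, false), (.d, false), (.c, false), (.b, false), (.h, false), (.g, false), (.f, false), (.e, false), (.d, false), (.c, false), (.b, false), (.h, false), (.g, false), (.f, false), (.e, false), (.d, false), (.c, false), (.b, false), (.h, false), (.g, false), (.f, false), (.e, false), (.d, false), (.c, false), (.b, false), (.h, false), (.g, false), (.f, false), (.e, false), (.d, false), (.c, false), (.b, false), (.b, false)]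

set_option maxRecDepth 100000 in
theorem hu_b : (FreeGroup.mk u_b : FreeGroup Fi23.Gen) = tF * Fi23.b * tF⁻¹ * Fi23.b⁻¹ := by decide

theorem comm_b : tG * gen .b = gen .b * tG := by
  have h1 : PresentedGroup.mk RELS (FreeGroup.mk u_b) = 1 := mk_eq_one_of_walk u_b (by decide +kernel)
  rw [hu_b, map_mul, map_mul, map_mul, map_inv, map_inv] at h1
  exact mul_inv_eq_iff_eq_mul.mp (mul_inv_eq_one.mp h1)

/-- the commutator word of `t` and `c` -/
def u_c : List (Fi23.Gen × Bool) := [(.b, true), (.c, true), (.d, true), (.e, true), (.f, true), (.g, true), (.h, true), (.b, true), (.c, true), (.d, true), (.e, true), (.f, true), (.g, true), (.h, true), (.b, true), (.c, true), (.d, true), (.e, true), (.f, true), (.g, true), (.h, true), (.b, true), (.c, true), (.d, true), (.e, true), (.f, true), (.g, true), (.h, true), (.b, true), (.c, true), (.d, true), (.e, true), (.f, true), (.g, true), (.h, true), (.b, true), (.c, true), (.d, true), (.e, true), (.f, true), (.g, true), (.h, true), (.b, true), (.c, true), (.d, true), (.e, true), (.f, true), (.g, true), (.h, true), (.b, true), (.c, true),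 (.d, true), (.e, true), (.f, true), (.g, true), (.h, true), (.b, true), (.c, true), (.d, true), (.e, true), (.f, true), (.g, true), (.h, true), (.c, true), (.h, false), (.g, false), (.f, false), (.e, false), (.d, false), (.c, false), (.b, false), (.h, false), (.g, false), (.f, false), (.e, false), (.d, false), (.c, false), (.b, false), (.h, false), (.g, false), (.f, false), (.e, false), (.d, false), (.c, false), (.b, false), (.h, false), (.g, false), (.f, false), (.e, false), (.d, false), (.c, false), (.b, false), (.h, false), (.g, false), (.f, false), (.e, false), (.d, false), (.c, false), (.b, false), (.h, false), (.g, false), (.f, false), (.e, false), (.d, false), (.c, false), (.b, false), (.h, false), (.g, false), (.f, false), (.e, false), (.d, false), (.c, false), (.b, false), (.h, false), (.g, false), (.f, false), (.e, false), (.d, false), (.c, false), (.b, false), (.h, false), (.g, false), (.f, false), (.e, false), (.d, false), (.c, false), (.b, false), (.c, false)]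

set_option maxRecDepth 100000 in
theorem hu_c : (FreeGroup.mk u_c : FreeGroup Fi23.Gen) = tF * Fi23.c * tF⁻¹ * Fi23.c⁻¹ := by decide

theorem comm_c : tG * gen .c = gen .c * tG := by
  have h1 : PresentedGroup.mk RELS (FreeGroup.mk u_c) = 1 := mk_eq_one_of_walk u_c (by decide +kernel)
  rw [hu_c, map_mul, map_mul, map_mul, map_inv, map_inv] at h1
  exact mul_inv_eq_iff_eq_mul.mp (mul_inv_eq_one.mp h1)

/-- the commutator word of `t` and `d` -/
def u_d : List (Fi23.Gen × Bool) := [(.b, true), (.c, true), (.d, true), (.e, true), (.f, true), (.g, true), (.h, true), (.b, true), (.c, true), (.d, true), (.e, true), (.f, true), (.g, true), (.h, true), (.b, true), (.c, true), (.d, true), (.e, true), (.f, true), (.g, true), (.h, true), (.b, true), (.c, true), (.d, true), (.e, true), (.f, true), (.g, true), (.h, true), (.b, true), (.c, true), (.d, true), (.e, true), (.f, true), (.g, true), (.h, true), (.b, true), (.c, true), (.d, true), (.e, true), (.f, true), (.g, true), (.h, true), (.b, true), (.c, true), (.d, true), (.e, true), (.f, true), (.g, true), (.h, true), (.b, true), (.c, true),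 (.d, true), (.e, true), (.f, true), (.g, true), (.h, true), (.b, true), (.c, true), (.d, true), (.e, true), (.f, true), (.g, true), (.h, true), (.d, true), (.h, false), (.g, false), (.f, false), (.e, false), (.d, false), (.c, false), (.b, false), (.h, false), (.g, false), (.f, false), (.e, false), (.d, false), (.c, false), (.b, false), (.h, false), (.g, false), (.f, false), (.e, false), (.d, false), (.c, false), (.b, false), (.h, false), (.g, false), (.f, false), (.e, false), (.d, false), (.c, false), (.b, false), (.h, false), (.g, false), (.f, false), (.e, false), (.d, false), (.c, false), (.b, false), (.h, false), (.g, false), (.f, false), (.e, false), (.d, false), (.c, false), (.b, false), (.h, false), (.g, false), (.f, false), (.e, false), (.d, false), (.c, false), (.b, false), (.h, false), (.g, false), (.f, false), (.e, false), (.d, false), (.c, false), (.b, false), (.h, false), (.g, false), (.f, false), (.e, false), (.d, false), (.c, false), (.b, false), (.d, false)]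

set_option maxRecDepth 100000 in
theorem hu_d : (FreeGroup.mk u_d : FreeGroup Fi23.Gen) = tF * Fi23.d * tF⁻¹ * Fi23.d⁻¹ := by decide

theorem comm_d : tG * gen .d = gen .d * tG := by
  have h1 : PresentedGroup.mk RELS (FreeGroup.mk u_d) = 1 := mk_eq_one_of_walk u_d (by decide +kernel)
  rw [hu_d, map_mul, map_mul, map_mul, map_inv, map_inv] at h1
  exact mul_inv_eq_iff_eq_mul.mp (mul_inv_eq_one.mp h1)

/-- the commutator word of `t` and `e` -/
def u_e : List (Fi23.Gen × Bool) := [(.b, true), (.c, true), (.d, true), (.e, true), (.f, true), (.g, true), (.h, true), (.b, true), (.c, true), (.d, true), (.e, true), (.f, true), (.g, true), (.h, true), (.b, true), (.c, true), (.d, true), (.e, true), (.f, true), (.g, true), (.h, true), (.b, true), (.c, true), (.d, true), (.e, true), (.f, true), (.g, true), (.h, true), (.b, true), (.c, true), (.d, true), (.e, true), (.f, true), (.g, true), (.h, true), (.b, true), (.c, true), (.d, true), (.e, true), (.f, true), (.g, true), (.h, true), (.b, true), (.c, true), (.d, true), (.e, true), (.f, true), (.g, true), (.h, true), (.b, true), (.c, true),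 (.d, true), (.e, true), (.f, true), (.g, true), (.h, true), (.b, true), (.c, true), (.d, true), (.e, true), (.f, true), (.g, true), (.h, true), (.e, true), (.h, false), (.g, false), (.f, false), (.e, false), (.d, false), (.c, false), (.b, false), (.h, false), (.g, false), (.f, false), (.e, false), (.d, false), (.c, false), (.b, false), (.h, false), (.g, false), (.f, false), (.e, false), (.d, false), (.c, false), (.b, false), (.h, false), (.g, false), (.f, false), (.e, false), (.d, false), (.c, false), (.b, false), (.h, false), (.g, false), (.f, false), (.e, false), (.d, false), (.c, false), (.b, false), (.h, false), (.g, false), (.f, false), (.e, false), (.d, false), (.c, false), (.b, false), (.h, false), (.g, false), (.f, false), (.e, false), (.d, false), (.c, false), (.b, false), (.h, false), (.g, false), (.f, false), (.e, false), (.d, false), (.c, false), (.b, false), (.h, false), (.g, false), (.f, false), (.e, false), (.d, false), (.c, false), (.b, false), (.e, false)]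

set_option maxRecDepth 100000 in
theorem hu_e : (FreeGroup.mk u_e : FreeGroup Fi23.Gen) = tF * Fi23.e * tF⁻¹ * Fi23.e⁻¹ := by decide

theorem comm_e : tG * gen .e = gen .e * tG := by
  have h1 : PresentedGroup.mk RELS (FreeGroup.mk u_e) = 1 := mk_eq_one_of_walk u_e (by decide +kernel)
  rw [hu_e, map_mul, map_mul, map_mul, map_inv, map_inv] at h1
  exact mul_inv_eq_iff_eq_mul.mp (mul_inv_eq_one.mp h1)

/-- the commutator word of `t` and `f` -/
def u_f : List (Fi23.Gen × Bool) := [(.b, true), (.c, true), (.d, true), (.e, true), (.f, true), (.g, true), (.h, true), (.b, true), (.c, true), (.d, true), (.e, true), (.f, true), (.g, true), (.h, true), (.b, true), (.c, true), (.d, true), (.e, true), (.f, true), (.g, true), (.h, true), (.b, true), (.c, true), (.d, true), (.e, true), (.f, true), (.g, true), (.h, true), (.b, true), (.c, true), (.d, true), (.e, true), (.f, true), (.g, true), (.h, true), (.b, true), (.c, true), (.d, true), (.e, true), (.f, true), (.g, true), (.h, true), (.b, true), (.c, true), (.d, true), (.e, true), (.f, true), (.g, true), (.h, true), (.b, true), (.c, true),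 (.d, true), (.e, true), (.f, true), (.g, true), (.h, true), (.b, true), (.c, true), (.d, true), (.e, true), (.f, true), (.g, true), (.h, true), (.f, true), (.h, false), (.g, false), (.f, false), (.e, false), (.d, false), (.c, false), (.b, false), (.h, false), (.g, false), (.f, false), (.e, false), (.d, false), (.c, false), (.b, false), (.h, false), (.g, false), (.f, false), (.e, false), (.d, false), (.c, false), (.b, false), (.h, false), (.g, false), (.f, false), (.e, false), (.d, false), (.c, false), (.b, false), (.h, false), (.g, false), (.f, false), (.e, false), (.d, false), (.c, false), (.b, false), (.h, false), (.g, false), (.f, false), (.e, false), (.d, false), (.c, false), (.b, false), (.h, false), (.g, false), (.f, false), (.e, false), (.d, false), (.c, false), (.b, false), (.h, false), (.g, false), (.f, false), (.e, false), (.d, false), (.c, false), (.b, false), (.h, false), (.g, false), (.f, false), (.e, false), (.d, false), (.c, false), (.b, false), (.f, false)]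

set_option maxRecDepth 100000 in
theorem hu_f : (FreeGroup.mk u_f : FreeGroup Fi23.Gen) = tF * Fi23.f * tF⁻¹ * Fi23.f⁻¹ := by decide

theorem comm_f : tG * gen .f = gen .f * tG := by
  have h1 : PresentedGroup.mk RELS (FreeGroup.mk u_f) = 1 := mk_eq_one_of_walk u_f (by decide +kernel)
  rw [hu_f, map_mul, map_mul, map_mul, map_inv, map_inv] at h1
  exact mul_inv_eq_iff_eq_mul.mp (mul_inv_eq_one.mp h1)

/-- the commutator word of `t` and `g` -/
def u_g : List (Fi23.Gen × Bool) := [(.b, true), (.c, true), (.d, true), (.e, true), (.f, true), (.g, true), (.h, true), (.b, true), (.c, true), (.d, true), (.e, true), (.f, true), (.g, true), (.h, true), (.b, true), (.c, true), (.d, true), (.e, true), (.f, true), (.g, true), (.h, true), (.b, true), (.c, true), (.d, true), (.e, true), (.f, true), (.g, true), (.h, true), (.b, true), (.c, true), (.d, true), (.e, true), (.f, true), (.g, true), (.h, true), (.b, true), (.c, true), (.d, true), (.e, true), (.f, true), (.g, true), (.h, true), (.b, true), (.c, true), (.d, true), (.e, true), (.f, true), (.g, true), (.h, true), (.b, true), (.c, true),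 (.d, true), (.e, true), (.f, true), (.g, true), (.h, true), (.b, true), (.c, true), (.d, true), (.e, true), (.f, true), (.g, true), (.h, true), (.g, true), (.h, false), (.g, false), (.f, false), (.e, false), (.d, false), (.c, false), (.b, false), (.h, false), (.g, false), (.f, false), (.e, false), (.d, false), (.c, false), (.b, false), (.h, false), (.g, false), (.f, false), (.e, false), (.d, false), (.c, false), (.b, false), (.h, false), (.g, false), (.f, false), (.e, false), (.d, false), (.c, false), (.b, false), (.h, false), (.g, false), (.f, false), (.e, false), (.d, false), (.c, false), (.b, false), (.h, false), (.g, false), (.f, false), (.e, false), (.d, false), (.c, false), (.b, false), (.h, false), (.g, false), (.f, false), (.e, false), (.d, false), (.c, false), (.b, false), (.h, false), (.g, false), (.f, false), (.e, false), (.d, false), (.c, false), (.b, false), (.h, false), (.g, false), (.f, false), (.e, false), (.d, false), (.c, false), (.b, false), (.g, false)]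

set_option maxRecDepth 100000 in
theorem hu_g : (FreeGroup.mk u_g : FreeGroup Fi23.Gen) = tF * Fi23.g * tF⁻¹ * Fi23.g⁻¹ := by decide

theorem comm_g : tG * gen .g = gen .g * tG := by
  have h1 : PresentedGroup.mk RELS (FreeGroup.mk u_g) = 1 := mk_eq_one_of_walk u_g (by decide +kernel)
  rw [hu_g, map_mul, map_mul, map_mul, map_inv, map_inv] at h1
  exact mul_inv_eq_iff_eq_mul.mp (mul_inv_eq_one.mp h1)

/-- the commutator word of `t` and `h` -/
def u_h : List (Fi23.Gen × Bool) := [(.b, true), (.c, true), (.d, true), (.e, true), (.f, true), (.g, true), (.h, true), (.b, true), (.c, true), (.d, true), (.e, true), (.f, true), (.g, true), (.h, true), (.b, true), (.c, true), (.d, true), (.e, true), (.f, true), (.g, true), (.h, true), (.b, true), (.c, true), (.d, true), (.e, true), (.f, true), (.g, true), (.h, true), (.b, true), (.c, true), (.d, true), (.e, true), (.f, true), (.g, true), (.h, true), (.b, true), (.c, true), (.d, true), (.e, true), (.f, true), (.g, true), (.h, true), (.b, true), (.c, true), (.d, true), (.e, true), (.f, true), (.g, true), (.h, true), (.b, true), (.c, true),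 (.d, true), (.e, true), (.f, true), (.g, true), (.h, true), (.b, true), (.c, true), (.d, true), (.e, true), (.f, true), (.g, true), (.h, true), (.h, true), (.h, false), (.g, false), (.f, false), (.e, false), (.d, false), (.c, false), (.b, false), (.h, false), (.g, false), (.f, false), (.e, false), (.d, false), (.c, false), (.b, false), (.h, false), (.g, false), (.f, false), (.e, false), (.d, false), (.c, false), (.b, false), (.h, false), (.g, false), (.f, false), (.e, false), (.d, false), (.c, false), (.b, false), (.h, false), (.g, false), (.f, false), (.e, false), (.d, false), (.c, false), (.b, false), (.h, false), (.g, false), (.f, false), (.e, false), (.d, false), (.c, false), (.b, false), (.h, false), (.g, false), (.f, false), (.e, false), (.d, false), (.c, false), (.b, false), (.h, false), (.g, false), (.f, false), (.e, false), (.d, false), (.c, false), (.b, false), (.h, false), (.g, false), (.f, false), (.e, false), (.d, false), (.c, false), (.b, false), (.h, false)]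

set_option maxRecDepth 100000 in
theorem hu_h : (FreeGroup.mk u_h : FreeGroup Fi23.Gen) = tF * Fi23.h * tF⁻¹ * Fi23.h⁻¹ := by decide

theorem comm_h : tG * gen .h = gen .h * tG := by
  have h1 : PresentedGroup.mk RELS (FreeGroup.mk u_h) = 1 := mk_eq_one_of_walk u_h (by decide +kernel)
  rw [hu_h, map_mul, map_mul, map_mul, map_inv, map_inv] at h1
  exact mul_inv_eq_iff_eq_mul.mp (mul_inv_eq_one.mp h1)

/-- the commutator word of `t` and `i` -/
def u_i : List (Fi23.Gen × Bool) := [(.b, true), (.c, true), (.d, true), (.e, true), (.f, true), (.g, true), (.h, true), (.b, true), (.c, true), (.d, true), (.e, true), (.f, true), (.g, true), (.h, true), (.b, true), (.c, true), (.d, true), (.e, true), (.f, true), (.g, true), (.h, true), (.b, true), (.c, true), (.d, true), (.e, true), (.f, true), (.g, true), (.h, true), (.b, true), (.c, true), (.d, true), (.e, true), (.f, true), (.g, true), (.h, true), (.b, true), (.c, true), (.d, true), (.e, true), (.f, true), (.g, true), (.h, true), (.b, true), (.c, true), (.d, true), (.e, true), (.f, true), (.g, true), (.h, true), (.b, true), (.c, true),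 (.d, true), (.e, true), (.f, true), (.g, true), (.h, true), (.b, true), (.c, true), (.d, true), (.e, true), (.f, true), (.g, true), (.h, true), (.i, true), (.h, false), (.g, false), (.f, false), (.e, false), (.d, false), (.c, false), (.b, false), (.h, false), (.g, false), (.f, false), (.e, false), (.d, false), (.c, false), (.b, false), (.h, false), (.g, false), (.f, false), (.e, false), (.d, false), (.c, false), (.b, false), (.h, false), (.g, false), (.f, false), (.e, false), (.d, false), (.c, false), (.b, false), (.h, false), (.g, false), (.f, false), (.e, false), (.d, false), (.c, false), (.b, false), (.h, false), (.g, false), (.f, false), (.e, false), (.d, false), (.c, false), (.b, false), (.h, false), (.g, false), (.f, false), (.e, false), (.d, false), (.c, false), (.b, false), (.h, false), (.g, false), (.f, false), (.e, false), (.d, false), (.c, false), (.b, false), (.h, false), (.g, false), (.f, false), (.e, false), (.d, false), (.c, false), (.b, false), (.i, false)]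

set_option maxRecDepth 100000 in
theorem hu_i : (FreeGroup.mk u_i : FreeGroup Fi23.Gen) = tF * Fi23.i * tF⁻¹ * Fi23.i⁻¹ := by decide

theorem comm_i : tG * gen .i = gen .i * tG := by
  have h1 : PresentedGroup.mk RELS (FreeGroup.mk u_i) = 1 := mk_eq_one_of_walk u_i (by decide +kernel)
  rw [hu_i, map_mul, map_mul, map_mul, map_inv, map_inv] at h1
  exact mul_inv_eq_iff_eq_mul.mp (mul_inv_eq_one.mp h1)


theorem t_ne_one : tG ≠ 1 := by
  intro h
  have h1 : rhoS1689 tG = 1 := by rw [h, map_one]
  have h2 : FreeGroup.lift (perm Cfsg.Agent.Lib.Helper28_S1689.verified.hv) (FreeGroup.mk u_t) = 1 := by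
    rw [hu_t]; exact h1
  obtain ⟨k', hk1, hk2⟩ := walk_spec Cfsg.Agent.Lib.Helper28_S1689.verified.hv u_t (⟨1, by norm_num⟩ : Fin 31671)
  rw [h2] at hk2
  have hk : k' = (⟨1, by norm_num⟩ : Fin 31671) := hk2
  rw [hk] at hk1
  revert hk1
  decide +kernel

theorem t_mem : tG ∈ H := by
  apply Subgroup.mem_map_of_mem
  apply Subgroup.pow_mem
  have hm : ∀ s ∈ SH, s ∈ Subgroup.closure SH := fun s hs => Subgroup.subset_closure hs
  refine Subgroup.mul_mem _ (Subgroup.mul_mem _ (Subgroup.mul_mem _ (Subgroup.mul_mem _ (Subgroup.mul_mem _
    (Subgroup.mul_mem _ (hm _ ?_) (hm _ ?_)) (hm _ ?_)) (hm _ ?_)) (hm _ ?_)) (hm _ ?_)) (hm _ ?_)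
  all_goals simp [SH]

theorem H_le_centralizer : H ≤ Subgroup.centralizer {tG} := by
  rw [Subgroup.map_le_iff_le_comap, Subgroup.closure_le]
  intro s hs
  simp only [SH, Set.mem_insert_iff, Set.mem_singleton_iff] at hs
  show PresentedGroup.mk RELS s ∈ Subgroup.centralizer {tG}
  rw [Subgroup.mem_centralizer_iff]
  intro x hx
  rw [Set.mem_singleton_iff] at hx
  subst hx
  rcases hs with rfl | rfl | rfl | rfl | rfl | rfl | rfl | rfl | rfl
  · exact comm_a
  · exact comm_b
  · exact comm_c
  · exact comm_d
  · exact comm_e
  · exact comm_f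
  · exact comm_g
  · exact comm_h
  · exact comm_i

/-- the central involution of `H` -/
def z : H := ⟨tG, t_mem⟩

theorem z_ne_one : z ≠ 1 := by
  intro h
  exact t_ne_one (congrArg Subtype.val h)

theorem z_sq : z * z = 1 := Subtype.ext t_sq

theorem z_central (h : H) : h * z = z * h := by
  apply Subtype.ext
  have hc := H_le_centralizer h.2
  rw [Subgroup.mem_centralizer_iff] at hc
  exact (hc tG rfl).symm

instance zNormal : (Subgroup.zpowers z).Normal := by
  have hle : Subgroup.zpowers z ≤ Subgroup.center H := by
    rw [Subgroup.zpowers_le, Subgroup.mem_center_iff]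
    exact z_central
  exact ⟨fun n hn g => by
    have hc := Subgroup.mem_center_iff.mp (hle hn) g
    rw [hc, mul_assoc, mul_inv_cancel, mul_one]
    exact hn⟩

/-! ### `H` is perfect -/

/-- image of a generator in the abelianization of `H` -/
noncomputable def ab (x : Fi22.Gen) : Abelianization H := Abelianization.of (hgen x)

theorem ab_sq (x : Fi22.Gen) : ab x * ab x = 1 := by
  have := congrArg (Abelianization.of (G := H)) (hgen_sq x)
  simpa [ab] using this

theorem ab_eq_of_three (x y : Fi22.Gen) (h3 : coxLabel Fi22.edges x y = 3) : ab x = ab y := by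
  have h := hgen_rel x y
  rw [h3] at h
  have h' := congrArg (Abelianization.of (G := H)) h
  simp only [map_pow, map_mul, map_one] at h'
  change (ab x * ab y) ^ 3 = 1 at h'
  have hx := ab_sq x
  have hy := ab_sq y
  have : (ab x * ab y) ^ 3 = (ab x * ab x) * (ab y * ab y) * (ab x * ab y) := by
    rw [pow_succ, pow_two]
    simp only [mul_assoc, mul_comm, mul_left_comm]
  rw [this, hx, hy, one_mul, one_mul] at h'
  have : ab x * ab y = ab y * ab y := by rw [h', hy]
  exact mul_right_cancel this

theorem ab_eq_a (x : Fi22.Gen) : ab x = ab Fi22.Gen.a := by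
  have hb : ab .a = ab .b := ab_eq_of_three _ _ (by decide)
  have hc : ab .b = ab .c := ab_eq_of_three _ _ (by decide)
  have hd : ab .c = ab .d := ab_eq_of_three _ _ (by decide)
  have he : ab .d = ab .e := ab_eq_of_three _ _ (by decide)
  have hh : ab .d = ab .h := ab_eq_of_three _ _ (by decide)
  have hf : ab .e = ab .f := ab_eq_of_three _ _ (by decide)
  have hg : ab .f = ab .g := ab_eq_of_three _ _ (by decide)
  have hi : ab .h = ab .i := ab_eq_of_three _ _ (by decide)
  cases x
  · rfl
  · rw [← hb]
  · rw [← hc, ← hb]
  · rw [← hd, ← hc, ← hb]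
  · rw [← he, ← hd, ← hc, ← hb]
  · rw [← hf, ← he, ← hd, ← hc, ← hb]
  · rw [← hg, ← hf, ← he, ← hd, ← hc, ← hb]
  · rw [← hh, ← hd, ← hc, ← hb]
  · rw [← hi, ← hh, ← hd, ← hc, ← hb]

/-- the relation `(abcdefh)^9 = 1` in `H` -/
theorem e7_rel : (hgen .a * hgen .b * hgen .c * hgen .d * hgen .e * hgen .f * hgen .h) ^ 9 = 1 := by
  apply Subtype.ext
  have hmem : (Fi23.a * Fi23.b * Fi23.c * Fi23.d * Fi23.e * Fi23.f * Fi23.h) ^ 9 ∈ RELS :=
    Or.inr (by simp [Fi23.extra])
  have h := PresentedGroup.one_of_mem hmem
  rw [map_pow, map_mul, map_mul, map_mul, map_mul, map_mul, map_mul] at h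
  rw [Subgroup.coe_pow]
  simp only [Subgroup.coe_mul]
  exact h

/-- the spider relation in `H` -/
theorem spider_rel : (hgen .d * hgen .c * hgen .b * hgen .d * hgen .e * hgen .f * hgen .d * hgen .h * hgen .i) ^ 10 = 1 := by
  apply Subtype.ext
  have hmem : (Fi23.d * Fi23.c * Fi23.b * Fi23.d * Fi23.e * Fi23.f * Fi23.d * Fi23.h * Fi23.i) ^ 10 ∈ RELS :=
    Or.inr (by simp [Fi23.extra])
  have h := PresentedGroup.one_of_mem hmem
  rw [map_pow, map_mul, map_mul, map_mul, map_mul, map_mul, map_mul, map_mul, map_mul] at h
  rw [Subgroup.coe_pow]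
  simp only [Subgroup.coe_mul]
  exact h

/-- `(bcdefgh)^9 = z` in `H` -/
theorem z_rel : (hgen .b * hgen .c * hgen .d * hgen .e * hgen .f * hgen .g * hgen .h) ^ 9 = z := by
  apply Subtype.ext
  rw [Subgroup.coe_pow]
  simp only [Subgroup.coe_mul]
  show _ = PresentedGroup.mk RELS ((Fi23.b * Fi23.c * Fi23.d * Fi23.e * Fi23.f * Fi23.g * Fi23.h) ^ 9)
  rw [map_pow, map_mul, map_mul, map_mul, map_mul, map_mul, map_mul]
  rfl

theorem ab_a_eq_one : ab Fi22.Gen.a = 1 := by
  have h' := congrArg (Abelianization.of (G := H)) e7_rel
  simp only [map_pow, map_mul, map_one] at h'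
  change (ab .a * ab .b * ab .c * ab .d * ab .e * ab .f * ab .h) ^ 9 = 1 at h'
  rw [ab_eq_a .b, ab_eq_a .c, ab_eq_a .d, ab_eq_a .e, ab_eq_a .f, ab_eq_a .h] at h'
  set t := ab Fi22.Gen.a with ht
  have hsq : t * t = 1 := ab_sq _
  have h7 : t * t * t * t * t * t * t = t := by
    rw [hsq, one_mul, hsq, one_mul, hsq, one_mul]
  rw [h7] at h'
  have h9 : t ^ 9 = t := by
    have : t ^ 9 = (t * t) * (t * t) * (t * t) * (t * t) * t := by
      simp only [pow_succ, pow_zero, one_mul, mul_assoc]
    rw [this, hsq]; simp
  rw [h9] at h'
  exact h'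

theorem perfect : commutator H = ⊤ := by
  rw [← Abelianization.ker_of]
  apply eq_top_of_hgen
  intro x
  rw [MonoidHom.mem_ker]
  change ab x = 1
  rw [ab_eq_a, ab_a_eq_one]

/-! ### the homomorphism from the presented `Fi22` -/

/-- the relators of `Fi22` -/
abbrev RELS22 : Set (FreeGroup Fi22.Gen) :=
  Cfsg.Spor.coxRelators Cfsg.Spor.Fi22.edges ∪ {r | r ∈ Cfsg.Spor.Fi22.extra}

/-- the images of the generators in the quotient -/
def qgen (x : Fi22.Gen) : H ⧸ Subgroup.zpowers z := QuotientGroup.mk (hgen x)

theorem qgen_rels : ∀ r ∈ RELS22, FreeGroup.lift qgen r = 1 := by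
  rintro r (hr | hr)
  · revert r
    apply cox_lift_eq_one
    intro x _ y _
    show ((QuotientGroup.mk (hgen x) : H ⧸ Subgroup.zpowers z) * QuotientGroup.mk (hgen y)) ^ _ = 1
    rw [← QuotientGroup.mk_mul, ← QuotientGroup.mk_pow, hgen_rel]
    rfl
  · simp only [Fi22.extra, Set.mem_ofPred_eq, List.mem_cons, List.not_mem_nil, or_false] at hr
    rcases hr with rfl | rfl | rfl
    · simp only [map_pow, map_mul, FreeGroup.lift_apply_of, qgen]
      rw [← QuotientGroup.mk_mul, ← QuotientGroup.mk_mul, ← QuotientGroup.mk_mul, ← QuotientGroup.mk_mul,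
        ← QuotientGroup.mk_mul, ← QuotientGroup.mk_mul, ← QuotientGroup.mk_mul, ← QuotientGroup.mk_mul,
        ← QuotientGroup.mk_pow, spider_rel]
      rfl
    · simp only [map_pow, map_mul, FreeGroup.lift_apply_of, qgen]
      rw [← QuotientGroup.mk_mul, ← QuotientGroup.mk_mul, ← QuotientGroup.mk_mul, ← QuotientGroup.mk_mul,
        ← QuotientGroup.mk_mul, ← QuotientGroup.mk_mul, ← QuotientGroup.mk_pow, e7_rel]
      rfl
    · simp only [map_pow, map_mul, FreeGroup.lift_apply_of, qgen]
      rw [← QuotientGroup.mk_mul, ← QuotientGroup.mk_mul, ← QuotientGroup.mk_mul, ← QuotientGroup.mk_mul,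
        ← QuotientGroup.mk_mul, ← QuotientGroup.mk_mul, ← QuotientGroup.mk_pow, z_rel]
      exact (QuotientGroup.eq_one_iff z).mpr (Subgroup.mem_zpowers z)

/-- the homomorphism `Fi22 → H / ⟨z⟩` -/
noncomputable def phi : PresentedGroup RELS22 →* H ⧸ Subgroup.zpowers z :=
  PresentedGroup.toGroup qgen_rels

theorem phi_surjective : Function.Surjective phi := by
  rw [← MonoidHom.range_eq_top, eq_top_iff]
  have hM : (phi.range).comap (QuotientGroup.mk' (Subgroup.zpowers z)) = ⊤ := by
    apply eq_top_of_hgen
    intro x
    rw [Subgroup.mem_comap]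
    exact ⟨PresentedGroup.of x, PresentedGroup.toGroup.of qgen_rels⟩
  intro q _
  obtain ⟨h, rfl⟩ := QuotientGroup.mk'_surjective (Subgroup.zpowers z) q
  have : h ∈ (phi.range).comap (QuotientGroup.mk' (Subgroup.zpowers z)) := by
    rw [hM]; exact Subgroup.mem_top h
  exact this

/-! ### the orders -/

theorem card_H : Nat.card H = 129123503308800 := by
  have hidx : H.index = 31671 := Cfsg.Agent.S1689.result.1
  have h1 := H.card_mul_index
  rw [hidx, card_eq] at h1
  have : Nat.card H * 31671 = 129123503308800 * 31671 := by rw [h1]
  exact Nat.eq_of_mul_eq_mul_right (by norm_num) this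

theorem result : Cfsg.IsNonsplitDoubleCover (((Subgroup.closure ({Cfsg.Spor.Fi23.a, Cfsg.Spor.Fi23.b, Cfsg.Spor.Fi23.c, Cfsg.Spor.Fi23.d, Cfsg.Spor.Fi23.e, Cfsg.Spor.Fi23.f, Cfsg.Spor.Fi23.g, Cfsg.Spor.Fi23.h, Cfsg.Spor.Fi23.i} : Set (FreeGroup Cfsg.Spor.Fi23.Gen))).map (PresentedGroup.mk (Cfsg.Spor.coxRelators Cfsg.Spor.Fi23.edges ∪ {r | r ∈ Cfsg.Spor.Fi23.extra})))) Cfsg.Spor.Fi22 := by
  have h22 := Cfsg.Agent.S1696.result
  have hfin22 : Finite Cfsg.Spor.Fi22 := by
    apply Nat.finite_of_card_ne_zero
    rw [h22.2]; norm_num
  exact nonsplit_double_cover (Hs := H) (K := Cfsg.Spor.Fi22) z z_ne_one z_sq z_central h22.1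
    (by rw [h22.2, card_H]) (by rw [h22.2]; norm_num) (Subgroup.zpowers z) rfl phi phi_surjective perfect

end Cfsg.Agent.S1688
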