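import Cfsg.Statements.S1697
import Cfsg.Agent.S1689
import Cfsg.Agent.Lib.Helper28_Fi23Order
import Cfsg.Agent.Lib.Helper28_Iwasawa
set_option autoImplicit false
set_option linter.constructorNameAsVariable false
open Cfsg
namespace Cfsg.Agent.S1697

open Cfsg.Spor Cfsg.Agent.Lib.Helper28_CosetPerm Cfsg.Agent.Lib.Helper28_Fi23Order
  Cfsg.Agent.Lib.Helper28_Iwasawa

/-- the presented group -/
abbrev G : Type := PresentedGroup RELS

/-- generator images -/
abbrev gen (x : Fi23.Gen) : G := PresentedGroup.of x

theorem all_nodes (x : Fi23.Gen) : x ∈ coxNodes Fi23.edges := by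
  cases x <;> decide

theorem cox_rel (x y : Fi23.Gen) : (gen x * gen y) ^ coxLabel Fi23.edges x y = 1 := by
  have h : (FreeGroup.of x * FreeGroup.of y) ^ coxLabel Fi23.edges x y ∈ RELS :=
    Or.inl ⟨x, all_nodes x, y, all_nodes y, rfl⟩
  have := PresentedGroup.one_of_mem h
  simpa [PresentedGroup.of] using this

theorem gen_sq (x : Fi23.Gen) : gen x * gen x = 1 := by
  have h := cox_rel x x
  have h1 : coxLabel Fi23.edges x x = 1 := by simp [coxLabel]
  rwa [h1, pow_one] at h

theorem gen_inv (x : Fi23.Gen) : (gen x)⁻¹ = gen x :=
  inv_eq_of_mul_eq_one_left (gen_sq x)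

theorem gen_braid (x y : Fi23.Gen) (h3 : coxLabel Fi23.edges x y = 3) :
    gen y = (gen x * gen y) * gen x * (gen x * gen y)⁻¹ := by
  have h := cox_rel x y
  rw [h3] at h
  rw [mul_inv_rev, gen_inv, gen_inv]
  have h' : gen x * gen y * (gen x * gen y) * (gen x * gen y) = 1 := by
    rw [← h, pow_succ, pow_two]
  have : gen x * gen y * gen x * (gen y * gen x) * gen y = 1 := by
    rw [← h']; group
  have h2 : gen x * gen y * gen x * (gen y * gen x) = (gen y)⁻¹ := eq_inv_of_mul_eq_one_left this
  rw [h2, gen_inv]

/-! ### perfectness -/

/-- image of a generator in the abelianization -/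
noncomputable def ab (x : Fi23.Gen) : Abelianization G := Abelianization.of (gen x)

theorem ab_sq (x : Fi23.Gen) : ab x * ab x = 1 := by
  have := congrArg (Abelianization.of (G := G)) (gen_sq x)
  simpa [ab] using this

theorem ab_eq_of_three (x y : Fi23.Gen) (h3 : coxLabel Fi23.edges x y = 3) : ab x = ab y := by
  have h := cox_rel x y
  rw [h3] at h
  have h' := congrArg (Abelianization.of (G := G)) h
  simp only [map_pow, map_mul, map_one] at h'
  change (ab x * ab y) ^ 3 = 1 at h'
  have hx := ab_sq x
  have hy := ab_sq y
  have : (ab x * ab y) ^ 3 = (ab x * ab x) * (ab y * ab y) * (ab x * ab y) := by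
    rw [pow_succ, pow_two]
    simp only [mul_assoc, mul_comm, mul_left_comm]
  rw [this, hx, hy, one_mul, one_mul] at h'
  have : ab x * ab y = ab y * ab y := by rw [h', hy]
  exact mul_right_cancel this

theorem ab_eq_a (x : Fi23.Gen) : ab x = ab Fi23.Gen.a := by
  have hb : ab .a = ab .b := ab_eq_of_three _ _ (by decide)
  have hc : ab .b = ab .c := ab_eq_of_three _ _ (by decide)
  have hd : ab .c = ab .d := ab_eq_of_three _ _ (by decide)
  have he : ab .d = ab .e := ab_eq_of_three _ _ (by decide)
  have hh : ab .d = ab .h := ab_eq_of_three _ _ (by decide)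
  have hf : ab .e = ab .f := ab_eq_of_three _ _ (by decide)
  have hg : ab .f = ab .g := ab_eq_of_three _ _ (by decide)
  have hj : ab .g = ab .j := ab_eq_of_three _ _ (by decide)
  have hi : ab .h = ab .i := ab_eq_of_three _ _ (by decide)
  cases x
  · rfl
  · rw [← hb]
  · rw [← hc, ← hb]
  · rw [← hd, ← hc, ← hb]
  · rw [← he, ← hd, ← hc, ← hb]
  · rw [← hf, ← he, ← hd, ← hc, ← hb]
  · rw [← hg, ← hf, ← he, ← hd, ← hc, ← hb]
  · rw [← hj, ← hg, ← hf, ← he, ← hd, ← hc, ← hb]
  · rw [← hh, ← hd, ← hc, ← hb]
  · rw [← hi, ← hh, ← hd, ← hc, ← hb]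

theorem ab_a_eq_one : ab Fi23.Gen.a = 1 := by
  have hmem : (Fi23.a * Fi23.b * Fi23.c * Fi23.d * Fi23.e * Fi23.f * Fi23.h) ^ 9 ∈ RELS :=
    Or.inr (by simp [Fi23.extra])
  have h := PresentedGroup.one_of_mem hmem
  have h' := congrArg (Abelianization.of (G := G)) h
  simp only [map_pow, map_mul, map_one] at h'
  change (ab .a * ab .b * ab .c * ab .d * ab .e * ab .f * ab .h) ^ 9 = 1 at h'
  rw [ab_eq_a .b, ab_eq_a .c, ab_eq_a .d, ab_eq_a .e, ab_eq_a .f, ab_eq_a .h] at h'
  set t := ab Fi23.Gen.a with ht
  have hsq : t * t = 1 := ab_sq _
  have h7 : t * t * t * t * t * t * t = t := by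
    rw [hsq, one_mul, hsq, one_mul, hsq, one_mul]
  rw [h7] at h'
  have h9 : t ^ 9 = t := by
    have : t ^ 9 = (t * t) * (t * t) * (t * t) * (t * t) * t := by
      simp only [pow_succ, pow_zero, one_mul, mul_assoc]
    rw [this, hsq]; simp
  rw [h9] at h'
  exact h'

theorem perfect : commutator G = ⊤ := by
  rw [← Abelianization.ker_of]
  have : (Abelianization.of : G →* Abelianization G) = 1 := by
    apply PresentedGroup.ext
    intro x
    change ab x = 1
    rw [ab_eq_a, ab_a_eq_one]
  rw [this]
  exact MonoidHom.ker_one

/-! ### the central involution `t` of `H = 2.Fi22`, a conjugate of `j` -/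

/-- the conjugating word -/
abbrev vF : FreeGroup Fi23.Gen := Fi23.j * Fi23.g * Fi23.f * Fi23.e * Fi23.d * Fi23.c * Fi23.b * Fi23.h * Fi23.d * Fi23.c * Fi23.e * Fi23.d * Fi23.f * Fi23.e * Fi23.g * Fi23.f * Fi23.h * Fi23.d * Fi23.c * Fi23.b * Fi23.e * Fi23.d * Fi23.c * Fi23.h * Fi23.d * Fi23.e * Fi23.f * Fi23.g

/-- the word `t = v j v⁻¹` -/
abbrev tF : FreeGroup Fi23.Gen := vF * Fi23.j * vF⁻¹

/-- the element `t` -/
abbrev tG : G := PresentedGroup.mk RELS tF

/-- the commutator word of `t` and `a` -/
def u_a : List (Fi23.Gen × Bool) := [(.j, true), (.g, true), (.f, true), (.e, true), (.d, true), (.c, true), (.b, true), (.h, true), (.d, true), (.c, true), (.e, true), (.d, true), (.f, true), (.e, true), (.g, true), (.f, true), (.h, true), (.d, true), (.c, true), (.b, true), (.e, true), (.d, true), (.c, true), (.h, true), (.d, true), (.e, true), (.f, true), (.g, true), (.j, true), (.g, false), (.f, false), (.e, false), (.d, false), (.h, false), (.c, false), (.d, false), (.e, false), (.b, false), (.c, false), (.d, false), (.h, false), (.f, false), (.g, false), (.e, false), (.f,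 false), (.d, false), (.e, false), (.c, false), (.d, false), (.h, false), (.b, false), (.c, false), (.d, false), (.e, false), (.f, false), (.g, false), (.j, false), (.a, true), (.j, true), (.g, true), (.f, true), (.e, true), (.d, true), (.c, true), (.b, true), (.h, true), (.d, true), (.c, true), (.e, true), (.d, true), (.f, true), (.e, true), (.g, true), (.f, true), (.h, true), (.d, true), (.c, true), (.b, true), (.e, true), (.d, true), (.c, true), (.h, true), (.d, true), (.e, true), (.f, true), (.g, true), (.j, false), (.g, false), (.f, false), (.e, false), (.d, false), (.h, false), (.c, false), (.d, false), (.e, false), (.b, false), (.c, false), (.d, false), (.h, false), (.f, false), (.g, false), (.e, false), (.f, false), (.d, false), (.e, false), (.c, false), (.d, false), (.h, false), (.b, false), (.c, false), (.d, false), (.e, false), (.f, false), (.g, false), (.j, false), (.a, false)]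

set_option maxRecDepth 100000 in
theorem hu_a : (FreeGroup.mk u_a : FreeGroup Fi23.Gen) = tF * Fi23.a * tF⁻¹ * Fi23.a⁻¹ := by decide

theorem comm_a : tG * gen .a = gen .a * tG := by
  have h1 : PresentedGroup.mk RELS (FreeGroup.mk u_a) = 1 := mk_eq_one_of_walk u_a (by decide +kernel)
  rw [hu_a, map_mul, map_mul, map_mul, map_inv, map_inv] at h1
  exact mul_inv_eq_iff_eq_mul.mp (mul_inv_eq_one.mp h1)

/-- the commutator word of `t` and `b` -/
def u_b : List (Fi23.Gen × Bool) := [(.j, true), (.g, true), (.f, true), (.e, true), (.d, true), (.c, true), (.b, true), (.h, true), (.d, true), (.c, true), (.e, true), (.d, true), (.f, true), (.e, true), (.g, true), (.f, true), (.h, true), (.d, true), (.c, true), (.b, true), (.e, true), (.d, true), (.c, true), (.h, true), (.d, true), (.e, true), (.f, true), (.g, true), (.j, true), (.g, false), (.f, false), (.e, false), (.d, false), (.h, false), (.c, false), (.d, false), (.e, false), (.b, false), (.c, false), (.d, false), (.h, false), (.f, false), (.g, false), (.e, false), (.f, false), (.d, false), (.e, false), (.c, false), (.d, false),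 (.h, false), (.b, false), (.c, false), (.d, false), (.e, false), (.f, false), (.g, false), (.j, false), (.b, true), (.j, true), (.g, true), (.f, true), (.e, true), (.d, true), (.c, true), (.b, true), (.h, true), (.d, true), (.c, true), (.e, true), (.d, true), (.f, true), (.e, true), (.g, true), (.f, true), (.h, true), (.d, true), (.c, true), (.b, true), (.e, true), (.d, true), (.c, true), (.h, true), (.d, true), (.e, true), (.f, true), (.g, true), (.j, false), (.g, false), (.f, false), (.e, false), (.d, false), (.h, false), (.c, false), (.d, false), (.e, false), (.b, false), (.c, false), (.d, false), (.h, false), (.f, false), (.g, false), (.e, false), (.f, false), (.d, false), (.e, false), (.c, false), (.d, false), (.h, false), (.b, false), (.c, false), (.d, false), (.e, false), (.f, false), (.g, false), (.j, false), (.b, false)]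

set_option maxRecDepth 100000 in
theorem hu_b : (FreeGroup.mk u_b : FreeGroup Fi23.Gen) = tF * Fi23.b * tF⁻¹ * Fi23.b⁻¹ := by decide

theorem comm_b : tG * gen .b = gen .b * tG := by
  have h1 : PresentedGroup.mk RELS (FreeGroup.mk u_b) = 1 := mk_eq_one_of_walk u_b (by decide +kernel)
  rw [hu_b, map_mul, map_mul, map_mul, map_inv, map_inv] at h1
  exact mul_inv_eq_iff_eq_mul.mp (mul_inv_eq_one.mp h1)

/-- the commutator word of `t` and `c` -/
def u_c : List (Fi23.Gen × Bool) := [(.j, true), (.g, true), (.f, true), (.e, true), (.d, true), (.c, true), (.b, true), (.h, true), (.d, true), (.c, true), (.e, true), (.d, true), (.f, true), (.e, true), (.g, true), (.f, true), (.h, true), (.d, true), (.c, true), (.b, true), (.e, true), (.d, true), (.c, true), (.h, true), (.d, true), (.e, true), (.f, true), (.g, true), (.j, true), (.g, false), (.f, false), (.e, false), (.d, false), (.h, false), (.c, false), (.d, false), (.e, false), (.b, false), (.c, false), (.d, false), (.h, false), (.f, false), (.g, false), (.e, false), (.f, false), (.d, false), (.e, false), (.c, false), (.d, false),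 (.h, false), (.b, false), (.c, false), (.d, false), (.e, false), (.f, false), (.g, false), (.j, false), (.c, true), (.j, true), (.g, true), (.f, true), (.e, true), (.d, true), (.c, true), (.b, true), (.h, true), (.d, true), (.c, true), (.e, true), (.d, true), (.f, true), (.e, true), (.g, true), (.f, true), (.h, true), (.d, true), (.c, true), (.b, true), (.e, true), (.d, true), (.c, true), (.h, true), (.d, true), (.e, true), (.f, true), (.g, true), (.j, false), (.g, false), (.f, false), (.e, false), (.d, false), (.h, false), (.c, false), (.d, false), (.e, false), (.b, false), (.c, false), (.d, false), (.h, false), (.f, false), (.g, false), (.e, false), (.f, false), (.d, false), (.e, false), (.c, false), (.d, false), (.h, false), (.b, false), (.c, false), (.d, false), (.e, false), (.f, false), (.g, false), (.j, false), (.c, false)]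

set_option maxRecDepth 100000 in
theorem hu_c : (FreeGroup.mk u_c : FreeGroup Fi23.Gen) = tF * Fi23.c * tF⁻¹ * Fi23.c⁻¹ := by decide

theorem comm_c : tG * gen .c = gen .c * tG := by
  have h1 : PresentedGroup.mk RELS (FreeGroup.mk u_c) = 1 := mk_eq_one_of_walk u_c (by decide +kernel)
  rw [hu_c, map_mul, map_mul, map_mul, map_inv, map_inv] at h1
  exact mul_inv_eq_iff_eq_mul.mp (mul_inv_eq_one.mp h1)

/-- the commutator word of `t` and `d` -/
def u_d : List (Fi23.Gen × Bool) := [(.j, true), (.g, true), (.f, true), (.e, true), (.d, true), (.c, true), (.b, true), (.h, true), (.d, true), (.c, true), (.e, true), (.d, true), (.f, true), (.e, true), (.g, true), (.f, true), (.h, true), (.d, true), (.c, true), (.b, true), (.e, true), (.d, true), (.c, true), (.h, true), (.d, true), (.e, true), (.f, true), (.g, true), (.j, true), (.g, false), (.f, false), (.e, false), (.d, false), (.h, false), (.c, false), (.d, false), (.e, false), (.b, false), (.c, false), (.d, false), (.h, false), (.f, false), (.g, false), (.e, false), (.f, false), (.d, false), (.e, false), (.c, false), (.d, false),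 (.h, false), (.b, false), (.c, false), (.d, false), (.e, false), (.f, false), (.g, false), (.j, false), (.d, true), (.j, true), (.g, true), (.f, true), (.e, true), (.d, true), (.c, true), (.b, true), (.h, true), (.d, true), (.c, true), (.e, true), (.d, true), (.f, true), (.e, true), (.g, true), (.f, true), (.h, true), (.d, true), (.c, true), (.b, true), (.e, true), (.d, true), (.c, true), (.h, true), (.d, true), (.e, true), (.f, true), (.g, true), (.j, false), (.g, false), (.f, false), (.e, false), (.d, false), (.h, false), (.c, false), (.d, false), (.e, false), (.b, false), (.c, false), (.d, false), (.h, false), (.f, false), (.g, false), (.e, false), (.f, false), (.d, false), (.e, false), (.c, false), (.d, false), (.h, false), (.b, false), (.c, false), (.d, false), (.e, false), (.f, false), (.g, false), (.j, false), (.d, false)]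

set_option maxRecDepth 100000 in
theorem hu_d : (FreeGroup.mk u_d : FreeGroup Fi23.Gen) = tF * Fi23.d * tF⁻¹ * Fi23.d⁻¹ := by decide

theorem comm_d : tG * gen .d = gen .d * tG := by
  have h1 : PresentedGroup.mk RELS (FreeGroup.mk u_d) = 1 := mk_eq_one_of_walk u_d (by decide +kernel)
  rw [hu_d, map_mul, map_mul, map_mul, map_inv, map_inv] at h1
  exact mul_inv_eq_iff_eq_mul.mp (mul_inv_eq_one.mp h1)

/-- the commutator word of `t` and `e` -/
def u_e : List (Fi23.Gen × Bool) := [(.j, true), (.g, true), (.f, true), (.e, true), (.d, true), (.c, true), (.b, true), (.h, true), (.d, true), (.c, true), (.e, true), (.d, true), (.f, true), (.e, true), (.g, true), (.f, true), (.h, true), (.d, true), (.c, true), (.b, true), (.e, true), (.d, true), (.c, true), (.h, true), (.d, true), (.e, true), (.f, true), (.g, true), (.j, true), (.g, false), (.f, false), (.e, false), (.d, false), (.h, false), (.c, false), (.d, false), (.e, false), (.b, false), (.c, false), (.d, false), (.h, false), (.f, false), (.g, false), (.e, false), (.f, false), (.d, false), (.e, false), (.c, false), (.d, false),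 (.h, false), (.b, false), (.c, false), (.d, false), (.e, false), (.f, false), (.g, false), (.j, false), (.e, true), (.j, true), (.g, true), (.f, true), (.e, true), (.d, true), (.c, true), (.b, true), (.h, true), (.d, true), (.c, true), (.e, true), (.d, true), (.f, true), (.e, true), (.g, true), (.f, true), (.h, true), (.d, true), (.c, true), (.b, true), (.e, true), (.d, true), (.c, true), (.h, true), (.d, true), (.e, true), (.f, true), (.g, true), (.j, false), (.g, false), (.f, false), (.e, false), (.d, false), (.h, false), (.c, false), (.d, false), (.e, false), (.b, false), (.c, false), (.d, false), (.h, false), (.f, false), (.g, false), (.e, false), (.f, false), (.d, false), (.e, false), (.c, false), (.d, false), (.h, false), (.b, false), (.c, false), (.d, false), (.e, false), (.f, false), (.g, false), (.j, false), (.e, false)]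

set_option maxRecDepth 100000 in
theorem hu_e : (FreeGroup.mk u_e : FreeGroup Fi23.Gen) = tF * Fi23.e * tF⁻¹ * Fi23.e⁻¹ := by decide

theorem comm_e : tG * gen .e = gen .e * tG := by
  have h1 : PresentedGroup.mk RELS (FreeGroup.mk u_e) = 1 := mk_eq_one_of_walk u_e (by decide +kernel)
  rw [hu_e, map_mul, map_mul, map_mul, map_inv, map_inv] at h1
  exact mul_inv_eq_iff_eq_mul.mp (mul_inv_eq_one.mp h1)

/-- the commutator word of `t` and `f` -/
def u_f : List (Fi23.Gen × Bool) := [(.j, true), (.g, true), (.f, true), (.e, true), (.d, true), (.c, true), (.b, true), (.h, true), (.d, true), (.c, true), (.e, true), (.d, true), (.f, true), (.e, true), (.g, true), (.f, true), (.h, true), (.d, true), (.c, true), (.b, true), (.e, true), (.d, true), (.c, true), (.h, true), (.d, true), (.e, true), (.f, true), (.g, true), (.j, true), (.g, false), (.f, false), (.e, false), (.d, false), (.h, false), (.c, false), (.d, false), (.e, false), (.b, false), (.c, false), (.d, false), (.h, false), (.f, false), (.g, false), (.e, false), (.f, false), (.d, false), (.e, false), (.c, false), (.d, false),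 (.h, false), (.b, false), (.c, false), (.d, false), (.e, false), (.f, false), (.g, false), (.j, false), (.f, true), (.j, true), (.g, true), (.f, true), (.e, true), (.d, true), (.c, true), (.b, true), (.h, true), (.d, true), (.c, true), (.e, true), (.d, true), (.f, true), (.e, true), (.g, true), (.f, true), (.h, true), (.d, true), (.c, true), (.b, true), (.e, true), (.d, true), (.c, true), (.h, true), (.d, true), (.e, true), (.f, true), (.g, true), (.j, false), (.g, false), (.f, false), (.e, false), (.d, false), (.h, false), (.c, false), (.d, false), (.e, false), (.b, false), (.c, false), (.d, false), (.h, false), (.f, false), (.g, false), (.e, false), (.f, false), (.d, false), (.e, false), (.c, false), (.d, false), (.h, false), (.b, false), (.c, false), (.d, false), (.e, false), (.f, false), (.g, false), (.j, false), (.f, false)]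

set_option maxRecDepth 100000 in
theorem hu_f : (FreeGroup.mk u_f : FreeGroup Fi23.Gen) = tF * Fi23.f * tF⁻¹ * Fi23.f⁻¹ := by decide

theorem comm_f : tG * gen .f = gen .f * tG := by
  have h1 : PresentedGroup.mk RELS (FreeGroup.mk u_f) = 1 := mk_eq_one_of_walk u_f (by decide +kernel)
  rw [hu_f, map_mul, map_mul, map_mul, map_inv, map_inv] at h1
  exact mul_inv_eq_iff_eq_mul.mp (mul_inv_eq_one.mp h1)

/-- the commutator word of `t` and `g` -/
def u_g : List (Fi23.Gen × Bool) := [(.j, true), (.g, true), (.f, true), (.e, true), (.d, true), (.c, true), (.b, true), (.h, true), (.d, true), (.c, true), (.e, true), (.d, true), (.f, true), (.e, true), (.g, true), (.f, true), (.h, true), (.d, true), (.c, true), (.b, true), (.e, true), (.d, true), (.c, true), (.h, true), (.d, true), (.e, true), (.f, true), (.g, true), (.j, true), (.g, false), (.f, false), (.e, false), (.d, false), (.h, false), (.c, false), (.d, false), (.e, false), (.b, false), (.c, false), (.d, false), (.h, false), (.f, false), (.g, false), (.e, false), (.f, false), (.d, false), (.e, false), (.c, false), (.d, false),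 (.h, false), (.b, false), (.c, false), (.d, false), (.e, false), (.f, false), (.g, false), (.j, false), (.g, true), (.j, true), (.g, true), (.f, true), (.e, true), (.d, true), (.c, true), (.b, true), (.h, true), (.d, true), (.c, true), (.e, true), (.d, true), (.f, true), (.e, true), (.g, true), (.f, true), (.h, true), (.d, true), (.c, true), (.b, true), (.e, true), (.d, true), (.c, true), (.h, true), (.d, true), (.e, true), (.f, true), (.g, true), (.j, false), (.g, false), (.f, false), (.e, false), (.d, false), (.h, false), (.c, false), (.d, false), (.e, false), (.b, false), (.c, false), (.d, false), (.h, false), (.f, false), (.g, false), (.e, false), (.f, false), (.d, false), (.e, false), (.c, false), (.d, false), (.h, false), (.b, false), (.c, false), (.d, false), (.e, false), (.f, false), (.g, false), (.j, false), (.g, false)]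

set_option maxRecDepth 100000 in
theorem hu_g : (FreeGroup.mk u_g : FreeGroup Fi23.Gen) = tF * Fi23.g * tF⁻¹ * Fi23.g⁻¹ := by decide

theorem comm_g : tG * gen .g = gen .g * tG := by
  have h1 : PresentedGroup.mk RELS (FreeGroup.mk u_g) = 1 := mk_eq_one_of_walk u_g (by decide +kernel)
  rw [hu_g, map_mul, map_mul, map_mul, map_inv, map_inv] at h1
  exact mul_inv_eq_iff_eq_mul.mp (mul_inv_eq_one.mp h1)

/-- the commutator word of `t` and `h` -/
def u_h : List (Fi23.Gen × Bool) := [(.j, true), (.g, true), (.f, true), (.e, true), (.d, true), (.c, true), (.b, true), (.h, true), (.d, true), (.c, true), (.e, true), (.d, true), (.f, true), (.e, true), (.g, true), (.f, true), (.h, true), (.d, true), (.c, true), (.b, true), (.e, true), (.d, true), (.c, true), (.h, true), (.d, true), (.e, true), (.f, true), (.g, true), (.j, true), (.g, false), (.f, false), (.e, false), (.d, false), (.h, false), (.c, false), (.d, false), (.e, false), (.b, false), (.c, false), (.d, false), (.h, false), (.f, false), (.g, false), (.e, false), (.f, false), (.d, false), (.e, false), (.c, false), (.d, false),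 (.h, false), (.b, false), (.c, false), (.d, false), (.e, false), (.f, false), (.g, false), (.j, false), (.h, true), (.j, true), (.g, true), (.f, true), (.e, true), (.d, true), (.c, true), (.b, true), (.h, true), (.d, true), (.c, true), (.e, true), (.d, true), (.f, true), (.e, true), (.g, true), (.f, true), (.h, true), (.d, true), (.c, true), (.b, true), (.e, true), (.d, true), (.c, true), (.h, true), (.d, true), (.e, true), (.f, true), (.g, true), (.j, false), (.g, false), (.f, false), (.e, false), (.d, false), (.h, false), (.c, false), (.d, false), (.e, false), (.b, false), (.c, false), (.d, false), (.h, false), (.f, false), (.g, false), (.e, false), (.f, false), (.d, false), (.e, false), (.c, false), (.d, false), (.h, false), (.b, false), (.c, false), (.d, false), (.e, false), (.f, false), (.g, false), (.j, false), (.h, false)]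

set_option maxRecDepth 100000 in
theorem hu_h : (FreeGroup.mk u_h : FreeGroup Fi23.Gen) = tF * Fi23.h * tF⁻¹ * Fi23.h⁻¹ := by decide

theorem comm_h : tG * gen .h = gen .h * tG := by
  have h1 : PresentedGroup.mk RELS (FreeGroup.mk u_h) = 1 := mk_eq_one_of_walk u_h (by decide +kernel)
  rw [hu_h, map_mul, map_mul, map_mul, map_inv, map_inv] at h1
  exact mul_inv_eq_iff_eq_mul.mp (mul_inv_eq_one.mp h1)

/-- the commutator word of `t` and `i` -/
def u_i : List (Fi23.Gen × Bool) := [(.j, true), (.g, true), (.f, true), (.e, true), (.d, true), (.c, true), (.b, true), (.h, true), (.d, true), (.c, true), (.e, true), (.d, true), (.f, true), (.e, true), (.g, true), (.f, true), (.h, true), (.d, true), (.c, true), (.b, true), (.e, true), (.d, true), (.c, true), (.h, true), (.d, true), (.e, true), (.f, true), (.g, true), (.j, true), (.g, false), (.f, false), (.e, false), (.d, false), (.h, false), (.c, false), (.d, false), (.e, false), (.b, false), (.c, false), (.d, false), (.h, false), (.f, false), (.g, false), (.e, false), (.f, false), (.d, false), (.e, false), (.c, false), (.d, false),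 (.h, false), (.b, false), (.c, false), (.d, false), (.e, false), (.f, false), (.g, false), (.j, false), (.i, true), (.j, true), (.g, true), (.f, true), (.e, true), (.d, true), (.c, true), (.b, true), (.h, true), (.d, true), (.c, true), (.e, true), (.d, true), (.f, true), (.e, true), (.g, true), (.f, true), (.h, true), (.d, true), (.c, true), (.b, true), (.e, true), (.d, true), (.c, true), (.h, true), (.d, true), (.e, true), (.f, true), (.g, true), (.j, false), (.g, false), (.f, false), (.e, false), (.d, false), (.h, false), (.c, false), (.d, false), (.e, false), (.b, false), (.c, false), (.d, false), (.h, false), (.f, false), (.g, false), (.e, false), (.f, false), (.d, false), (.e, false), (.c, false), (.d, false), (.h, false), (.b, false), (.c, false), (.d, false), (.e, false), (.f, false), (.g, false), (.j, false), (.i, false)]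

set_option maxRecDepth 100000 in
theorem hu_i : (FreeGroup.mk u_i : FreeGroup Fi23.Gen) = tF * Fi23.i * tF⁻¹ * Fi23.i⁻¹ := by decide

theorem comm_i : tG * gen .i = gen .i * tG := by
  have h1 : PresentedGroup.mk RELS (FreeGroup.mk u_i) = 1 := mk_eq_one_of_walk u_i (by decide +kernel)
  rw [hu_i, map_mul, map_mul, map_mul, map_inv, map_inv] at h1
  exact mul_inv_eq_iff_eq_mul.mp (mul_inv_eq_one.mp h1)


theorem normalClosure_t : Subgroup.normalClosure ((Subgroup.zpowers tG : Subgroup G) : Set G) = ⊤ := by
  set N := Subgroup.normalClosure ((Subgroup.zpowers tG : Subgroup G) : Set G) with hN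
  have hnormal : N.Normal := Subgroup.normalClosure_normal
  have ht : tG ∈ N := Subgroup.subset_normalClosure (Subgroup.mem_zpowers _)
  have hj : gen .j ∈ N := by
    have e : gen .j = (PresentedGroup.mk RELS vF)⁻¹ * tG * (PresentedGroup.mk RELS vF)⁻¹⁻¹ := by
      have h1 : tG = PresentedGroup.mk RELS vF * gen .j * (PresentedGroup.mk RELS vF)⁻¹ := by
        show PresentedGroup.mk RELS (vF * Fi23.j * vF⁻¹) = _
        rw [map_mul, map_mul, map_inv]
        rfl
      rw [h1]
      group
    rw [e]
    exact hnormal.conj_mem _ ht _
  have step : ∀ x y : Fi23.Gen, coxLabel Fi23.edges x y = 3 → gen x ∈ N → gen y ∈ N := by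
    intro x y h3 hx
    rw [gen_braid x y h3]
    exact hnormal.conj_mem _ hx _
  have hg := step .j .g (by decide) hj
  have hf := step .g .f (by decide) hg
  have he := step .f .e (by decide) hf
  have hd := step .e .d (by decide) he
  have hc := step .d .c (by decide) hd
  have hb := step .c .b (by decide) hc
  have ha := step .b .a (by decide) hb
  have hh := step .d .h (by decide) hd
  have hi := step .h .i (by decide) hh
  rw [eq_top_iff, ← PresentedGroup.closure_range_of RELS, Subgroup.closure_le]
  rintro _ ⟨x, rfl⟩
  cases x <;> assumption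

/-! ### the maximal subgroup `H = 2.Fi22` -/

/-- the generating set of `H` -/
abbrev SH : Set (FreeGroup Fi23.Gen) :=
  {Cfsg.Spor.Fi23.a, Cfsg.Spor.Fi23.b, Cfsg.Spor.Fi23.c, Cfsg.Spor.Fi23.d, Cfsg.Spor.Fi23.e, Cfsg.Spor.Fi23.f, Cfsg.Spor.Fi23.g, Cfsg.Spor.Fi23.h, Cfsg.Spor.Fi23.i}

/-- the subgroup `H` -/
abbrev H : Subgroup G := (Subgroup.closure SH).map (PresentedGroup.mk RELS)

theorem H_max : ∀ K : Subgroup G, H ≤ K → K = H ∨ K = ⊤ := by
  obtain ⟨hidx, q₁, q₂, h1, h2⟩ := Cfsg.Agent.S1689.result
  change H.index = 31671 at hidx
  change (MulAction.orbit H q₁).ncard = 3510 at h1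
  change (MulAction.orbit H q₂).ncard = 28160 at h2
  have h0 : (MulAction.orbit H (((1 : G) : G ⧸ H))).ncard = 1 := by
    rw [orbit_base]; exact Set.ncard_singleton _
  have hm : ∀ i : Fin 3, (MulAction.orbit H ((![(((1 : G) : G ⧸ H)), q₁, q₂] : Fin 3 → G ⧸ H) i)).ncard =
      (![1, 3510, 28160] : Fin 3 → ℕ) i := by
    intro i
    fin_cases i
    · exact h0
    · exact h1
    · exact h2
  have hminj : Function.Injective (![1, 3510, 28160] : Fin 3 → ℕ) := by decide
  apply maximal_of_suborbits H (r := 2) ![(((1 : G) : G ⧸ H)), q₁, q₂] rfl ![1, 3510, 28160] hm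
  · intro i j hij heq
    have hc := congrArg Set.ncard heq
    rw [hm i, hm j] at hc
    exact hij (hminj hc)
  · rw [hidx]; simp [Fin.sum_univ_succ]
  · rw [hidx]; norm_num
  · rw [hidx]; decide

theorem H_le_centralizer : H ≤ Subgroup.centralizer {tG} := by
  rw [Subgroup.map_le_iff_le_comap, Subgroup.closure_le]
  intro s hs
  simp only [SH, Set.mem_insert_iff, Set.mem_singleton_iff] at hs
  show PresentedGroup.mk RELS s ∈ Subgroup.centralizer {tG}
  rw [Subgroup.mem_centralizer_iff]
  intro x hx
  rw [Set.mem_singleton_iff] at hx
  subst hx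
  rcases hs with rfl | rfl | rfl | rfl | rfl | rfl | rfl | rfl | rfl
  · exact comm_a
  · exact comm_b
  · exact comm_c
  · exact comm_d
  · exact comm_e
  · exact comm_f
  · exact comm_g
  · exact comm_h
  · exact comm_i

theorem H_norm : ∀ h ∈ H, ∀ x ∈ Subgroup.zpowers tG, h * x * h⁻¹ ∈ Subgroup.zpowers tG := by
  intro h hh x hx
  have hc := H_le_centralizer hh
  rw [Subgroup.mem_centralizer_iff] at hc
  have hcomm : tG * h = h * tG := hc _ rfl
  obtain ⟨k, rfl⟩ := hx
  have : h * tG ^ k * h⁻¹ = tG ^ k := by
    rw [mul_inv_eq_iff_eq_mul]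
    exact ((Commute.zpow_left (show Commute tG h from hcomm) k).eq).symm
  rw [this]
  exact Subgroup.zpow_mem_zpowers _ _

/-! ### a normal subgroup inside `H` is trivial -/

/-- A central element fixing the base point of a transitive action acts trivially. -/
theorem central_trivial {n : ℕ} [NeZero n] (ρ : G →* Equiv.Perm (Fin n))
    (htrans : ∀ x : Fin n, ∃ g : G, ρ g 0 = x) (z : G) (hz : ∀ g : G, g * z = z * g)
    (h0 : ρ z 0 = 0) : ρ z = 1 := by
  ext x
  obtain ⟨g, rfl⟩ := htrans x
  rw [← Equiv.Perm.mul_apply, ← map_mul, ← hz g, map_mul, Equiv.Perm.mul_apply, h0]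
  rfl

theorem transX : ∀ x : Fin 31671, ∃ g : G, rhoS1689 g 0 = x := by
  intro x
  obtain ⟨w, hw⟩ := Cfsg.Agent.Lib.Helper28_S1689.verified.htrans x
  exact ⟨PresentedGroup.mk RELS w, hw⟩

theorem H_fix : ∀ h ∈ H, rhoS1689 h 0 = 0 := by
  intro h hh
  have := map_closure_le_stabilizer (perm Cfsg.Agent.Lib.Helper28_S1689.verified.hv)
    Cfsg.Agent.Lib.Helper28_S1689.verified.hrel SH Cfsg.Agent.Lib.Helper28_S1689.verified.hsub hh
  exact this

theorem normal_le_H_eq_bot (N : Subgroup G) [hN : N.Normal] (hNH : N ≤ H) : N = ⊥ := by
  rw [Subgroup.eq_bot_iff_forall]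
  intro z hz
  have hcent : ∀ g : G, g * z = z * g := by
    have hle : (⊤ : Subgroup G) ≤ Subgroup.centralizer {z} := by
      rw [← normalClosure_t]
      unfold Subgroup.normalClosure
      rw [Subgroup.closure_le]
      intro x hx
      rw [Group.mem_conjugatesOfSet_iff] at hx
      obtain ⟨y, hy, hyx⟩ := hx
      rw [isConj_iff] at hyx
      obtain ⟨c, rfl⟩ := hyx
      obtain ⟨k, rfl⟩ := hy
      have hz' : c⁻¹ * z * c⁻¹⁻¹ ∈ N := hN.conj_mem z hz c⁻¹
      have hc := H_le_centralizer (hNH hz')
      rw [Subgroup.mem_centralizer_iff] at hc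
      have hcomm : Commute tG (c⁻¹ * z * c⁻¹⁻¹) := hc _ rfl
      have hk : Commute (tG ^ k) (c⁻¹ * z * c⁻¹⁻¹) := Commute.zpow_left hcomm k
      show c * tG ^ k * c⁻¹ ∈ Subgroup.centralizer {z}
      rw [Subgroup.mem_centralizer_iff]
      intro w hw
      rw [Set.mem_singleton_iff] at hw
      subst hw
      have e := hk.eq
      have : w * (c * tG ^ k * c⁻¹) = c * ((c⁻¹ * w * c⁻¹⁻¹) * tG ^ k) * c⁻¹ := by group
      rw [this, ← e]
      group
    intro g
    have := hle (Subgroup.mem_top g)
    rw [Subgroup.mem_centralizer_iff] at this
    exact (this z rfl).symm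
  apply eq_one_of_act
  exact central_trivial rhoS1689 transX z hcent (H_fix z (hNH hz))

/-! ### the result -/

theorem result : Cfsg.IsFi23 Cfsg.Spor.Fi23 := by
  refine ⟨?_, card_eq⟩
  have hnt : Nontrivial G := by
    rw [← Finite.one_lt_card_iff_nontrivial, card_eq]
    norm_num
  refine ⟨fun N hN => ?_⟩
  rcases normal_le_or_eq_top H (Subgroup.zpowers tG) H_max (Subgroup.zpowers_isMulCommutative _)
    H_norm normalClosure_t perfect N with h | h
  · exact Or.inl (normal_le_H_eq_bot N h)
  · exact Or.inr h

end Cfsg.Agent.S1697
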