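import Cfsg.Statements.S0472
import Cfsg.Agent.S1697
import Cfsg.Agent.S1688
import Cfsg.Agent.S1696
import Cfsg.Agent.Lib.Helper96_ThreeTrans

set_option autoImplicit false
open Cfsg

namespace Cfsg.Agent.S0472

open Cfsg.Spor Cfsg.Agent.Lib.Helper28_CosetPerm Cfsg.Agent.Lib.Helper28_Fi23Order
open Cfsg.Agent.Lib.Helper96_ThreeTrans Cfsg.Agent.S1697

/-- the conjugating element -/
noncomputable abbrev V : G := PresentedGroup.mk RELS vF

theorem tG_eq : tG = V * gen .j * V⁻¹ := by
  show PresentedGroup.mk RELS (vF * Fi23.j * vF⁻¹) = _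
  rw [map_mul, map_mul, map_inv]
  rfl

/-- the generator `j` moves the base point -/
theorem walk_j : walk 1048575 Cfsg.Agent.Lib.Helper28_S1689.col [(Fi23.Gen.j, true)] 0 ≠ 0 := by
  decide +kernel

theorem rho_j : rhoS1689 (gen .j) 0 ≠ 0 := by
  intro h
  apply walk_j
  have h1 := walk_fin Cfsg.Agent.Lib.Helper28_S1689.verified.hv [(Fi23.Gen.j, true)] (0 : Fin 31671)
  have h2 : (FreeGroup.lift (perm Cfsg.Agent.Lib.Helper28_S1689.verified.hv)
      (FreeGroup.mk [(Fi23.Gen.j, true)])) (0 : Fin 31671) = 0 := h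
  have h3 : (FreeGroup.lift (perm Cfsg.Agent.Lib.Helper28_S1689.verified.hv)
      (FreeGroup.mk [(Fi23.Gen.j, true)]))⁻¹ (0 : Fin 31671) = 0 := by
    rw [Equiv.Perm.inv_def, Equiv.symm_apply_eq]
    exact h2.symm
  rw [h3] at h1
  simpa using h1

/-- the generators in `H` fix the base point -/
theorem rho_H (x : Fi23.Gen) (hx : FreeGroup.of x ∈ SH) : rhoS1689 (gen x) 0 = 0 :=
  H_fix (gen x) (Subgroup.mem_map_of_mem _ (Subgroup.subset_closure hx))

theorem j_ne (x : Fi23.Gen) (hx : FreeGroup.of x ∈ SH) : gen .j ≠ gen x := by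
  intro h
  apply rho_j
  rw [h]
  exact rho_H x hx

theorem j_ne_one : gen .j ≠ 1 := by
  intro h
  apply rho_j
  rw [h, map_one]
  rfl

theorem tG_sq : tG * tG = 1 := by
  rw [tG_eq]
  calc V * gen .j * V⁻¹ * (V * gen .j * V⁻¹) = V * (gen .j * gen .j) * V⁻¹ := by group
    _ = 1 := by rw [gen_sq]; group

theorem tG_ne_one : tG ≠ 1 := by
  intro h
  apply j_ne_one
  rw [tG_eq] at h
  calc gen .j = V⁻¹ * (V * gen .j * V⁻¹) * V := by group
    _ = 1 := by rw [h]; group

theorem orderOf_tG : orderOf tG = 2 := by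
  have : Fact (Nat.Prime 2) := ⟨Nat.prime_two⟩
  apply orderOf_eq_prime
  · rw [pow_two]; exact tG_sq
  · exact tG_ne_one

/-- the product of `t` and its conjugate by `V g V⁻¹` -/
theorem prodConj_V (g' : G) : prodConj tG (V * g' * V⁻¹) = V * (gen .j * (g' * gen .j * g'⁻¹)) * V⁻¹ := by
  unfold prodConj
  rw [tG_eq]
  group

/-- the second representative: `t t^g` has order 3 -/
theorem order_three : orderOf (prodConj tG (V * (gen .j * gen .g) * V⁻¹)) = 3 := by
  rw [prodConj_V, orderOf_conj']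
  have hb : gen .g = (gen .j * gen .g) * gen .j * (gen .j * gen .g)⁻¹ := gen_braid .j .g (by decide)
  rw [← hb]
  have : Fact (Nat.Prime 3) := ⟨Nat.prime_three⟩
  apply orderOf_eq_prime
  · have h := cox_rel .j .g
    have h3 : coxLabel Fi23.edges .j .g = 3 := by decide
    rwa [h3] at h
  · intro h
    apply j_ne .g (by simp [SH])
    calc gen .j = (gen .j * gen .g) * (gen .g)⁻¹ := by group
      _ = gen .g := by rw [h, gen_inv]; group

/-- the first representative: `t t^g` has order 2 -/
theorem order_two : orderOf (prodConj tG (V * ((gen .g * gen .f) * (gen .j * gen .g)) * V⁻¹)) = 2 := by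
  rw [prodConj_V, orderOf_conj']
  have hb : gen .g = (gen .j * gen .g) * gen .j * (gen .j * gen .g)⁻¹ := gen_braid .j .g (by decide)
  have hb2 : gen .f = (gen .g * gen .f) * gen .g * (gen .g * gen .f)⁻¹ := gen_braid .g .f (by decide)
  have e : (gen .g * gen .f) * (gen .j * gen .g) * gen .j * ((gen .g * gen .f) * (gen .j * gen .g))⁻¹ = gen .f := by
    calc (gen .g * gen .f) * (gen .j * gen .g) * gen .j * ((gen .g * gen .f) * (gen .j * gen .g))⁻¹
        = (gen .g * gen .f) * ((gen .j * gen .g) * gen .j * (gen .j * gen .g)⁻¹) * (gen .g * gen .f)⁻¹ := by group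
      _ = (gen .g * gen .f) * gen .g * (gen .g * gen .f)⁻¹ := by rw [← hb]
      _ = gen .f := hb2.symm
  rw [e]
  have : Fact (Nat.Prime 2) := ⟨Nat.prime_two⟩
  apply orderOf_eq_prime
  · have h := cox_rel .j .f
    have h2 : coxLabel Fi23.edges .j .f = 2 := by decide
    rwa [h2] at h
  · intro h
    apply j_ne .f (by simp [SH])
    calc gen .j = (gen .j * gen .f) * (gen .f)⁻¹ := by group
      _ = gen .f := by rw [h, gen_inv]; group

theorem H_comm : ∀ h ∈ H, h * tG = tG * h := by
  intro h hh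
  have hc := H_le_centralizer hh
  rw [Subgroup.mem_centralizer_iff] at hc
  exact (hc tG rfl).symm

/-- products of two conjugates of `t` have order 1, 2 or 3 -/
theorem three : ∀ g : G, (prodConj tG g) ^ 2 = 1 ∨ (prodConj tG g) ^ 3 = 1 := by
  obtain ⟨hidx, q₁, q₂, h1, h2⟩ := Cfsg.Agent.S1689.result
  change H.index = 31671 at hidx
  change (MulAction.orbit H q₁).ncard = 3510 at h1
  change (MulAction.orbit H q₂).ncard = 28160 at h2
  have h0 : (MulAction.orbit H (((1 : G) : G ⧸ H))).ncard = 1 := by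
    rw [Cfsg.Agent.Lib.Helper28_Iwasawa.orbit_base]; exact Set.ncard_singleton _
  have hm : ∀ i : Fin 3, (MulAction.orbit H ((![(((1 : G) : G ⧸ H)), q₁, q₂] : Fin 3 → G ⧸ H) i)).ncard =
      (![1, 3510, 28160] : Fin 3 → ℕ) i := by
    intro i
    fin_cases i
    · exact h0
    · exact h1
    · exact h2
  have hminj : Function.Injective (![1, 3510, 28160] : Fin 3 → ℕ) := by decide
  refine three_of_rank3 tG H H_comm ![(((1 : G) : G ⧸ H)), q₁, q₂] ![1, 3510, 28160] hm ?_ ?_ ?_ _ _ tG_sq
    order_two order_three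
  · intro i j hij heq
    have hc := congrArg Set.ncard heq
    rw [hm i, hm j] at hc
    exact hij (hminj hc)
  · rw [hidx]; simp [Fin.sum_univ_succ]
  · rw [hidx]; norm_num

/-- the centraliser of `t` is `H` -/
theorem centralizer_eq : Subgroup.centralizer {tG} = H := by
  rcases H_max _ H_le_centralizer with h | h
  · exact h
  · exfalso
    -- then `t` is central, and `t t^g = 1` for all `g`
    have hcen : ∀ g : G, g * tG = tG * g := by
      intro g
      have hg : g ∈ Subgroup.centralizer {tG} := by rw [h]; exact Subgroup.mem_top g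
      rw [Subgroup.mem_centralizer_iff] at hg
      exact (hg tG rfl).symm
    have h3 := order_three
    have h1 : prodConj tG (V * (gen .j * gen .g) * V⁻¹) = 1 := by
      unfold prodConj
      rw [hcen (V * (gen .j * gen .g) * V⁻¹)]
      calc tG * (tG * (V * (gen .j * gen .g) * V⁻¹) * (V * (gen .j * gen .g) * V⁻¹)⁻¹) = tG * tG := by group
        _ = 1 := tG_sq
    rw [h1, orderOf_one] at h3
    norm_num at h3

theorem card_D : Nat.card (conjugatesOf tG) = 31671 := by
  rw [card_conjugatesOf, centralizer_eq]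
  exact Cfsg.Agent.S1689.result.1

/-- Existence of the Fischer group Fi₂₃ as a 3-transposition group. -/
theorem result : ∃ (G : Type) (_ : Group G) (_ : Finite G), Cfsg.IsFi23 G ∧ ∃ D : Set G, Cfsg.IsThreeTranspositionClass D ∧ Nat.card D = 31671 ∧ ∀ d ∈ D, ∃ (K : Type) (_ : Group K), Cfsg.IsFi22 K ∧ Cfsg.IsNonsplitDoubleCover (Subgroup.centralizer ({d} : Set G)) K := by
  refine ⟨G, inferInstance, finiteG, Cfsg.Agent.S1697.result, conjugatesOf tG, ?_, card_D, ?_⟩
  · refine ⟨isThreeTranspositionSet_conjugatesOf tG orderOf_tG three, ⟨tG, mem_conjugatesOf_self, rfl⟩, ?_⟩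
    exact closure_conjugatesOf_eq_top tG normalClosure_t
  · intro d hd
    have hd' : IsConj tG d := hd
    rw [isConj_iff] at hd'
    obtain ⟨c, rfl⟩ := hd'
    refine ⟨Cfsg.Spor.Fi22, inferInstance, Cfsg.Agent.S1696.result, ?_⟩
    have e1 : H ≃* Subgroup.centralizer {tG} := MulEquiv.subgroupCongr centralizer_eq.symm
    exact nonsplit_of_equiv (e1.trans (centralizerConj c tG)) Cfsg.Agent.S1688.result

end Cfsg.Agent.S0472
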