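import Cfsg.Statements.S0481
import Cfsg.Agent.S0443

set_option autoImplicit false
open Cfsg

namespace Cfsg.Agent.S0481

/-- key lemma: a nontrivial element of `G` centralising `Q` equals `z`. -/
theorem eq_z_of_centralizes {G : Type*} [Group G] (z : G) (hz : orderOf z = 2) (Q : Subgroup G)
    (hQC : Q ≤ Subgroup.centralizer ({z} : Set G))
    (hZ : Nat.card (Subgroup.center Q) = 2)
    (hlarge : Subgroup.centralizer (Q : Set G) ≤ Q) (w : G) (hw1 : w ≠ 1)
    (hw : ∀ q ∈ Q, q * w = w * q) : w = z := by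
  have hz1 : z ≠ 1 := by
    rintro rfl
    simp at hz
  have hzc : z ∈ Subgroup.centralizer (Q : Set G) := by
    rw [Subgroup.mem_centralizer_iff]
    intro q hq
    have := hQC hq
    rw [Subgroup.mem_centralizer_iff] at this
    exact (this z (Set.mem_singleton z)).symm
  have hzQ : z ∈ Q := hlarge hzc
  have hwc : w ∈ Subgroup.centralizer (Q : Set G) := by
    rw [Subgroup.mem_centralizer_iff]
    exact hw
  have hwQ : w ∈ Q := hlarge hwc
  have hzZ : (⟨z, hzQ⟩ : Q) ∈ Subgroup.center Q := by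
    rw [Subgroup.mem_center_iff]
    rintro ⟨q, hq⟩
    apply Subtype.ext
    rw [Subgroup.mem_centralizer_iff] at hzc
    exact hzc q hq
  have hwZ : (⟨w, hwQ⟩ : Q) ∈ Subgroup.center Q := by
    rw [Subgroup.mem_center_iff]
    rintro ⟨q, hq⟩
    apply Subtype.ext
    exact hw q hq
  obtain ⟨y, -, hy⟩ := (Nat.card_eq_two_iff' (1 : Subgroup.center Q)).mp hZ
  have h1 : (⟨⟨z, hzQ⟩, hzZ⟩ : Subgroup.center Q) = y := by
    apply hy
    intro h
    apply hz1
    have := congrArg (fun x : Subgroup.center Q => ((x : Q) : G)) h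
    exact this
  have h2 : (⟨⟨w, hwQ⟩, hwZ⟩ : Subgroup.center Q) = y := by
    apply hy
    intro h
    apply hw1
    have := congrArg (fun x : Subgroup.center Q => ((x : Q) : G)) h
    exact this
  have := congrArg (fun x : Subgroup.center Q => ((x : Q) : G)) (h2.trans h1.symm)
  exact this

/-- Large extraspecial subgroups: let z be an involution of a finite group G whose centraliser C contains a normal 2-subgroup Q with centre of order 2 and all squares central, such that every element of G centralising Q lies in Q. Then C contains a Sylow 2-subgroup of G, and any involution of G whose centraliser contains a Sylow 2-subgroup of G is conjugate to z. -/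
theorem result {G : Type*} [Group G] [Finite G] (z : G) (hz : orderOf z = 2) (Q : Subgroup G) (hQC : Q ≤ Subgroup.centralizer ({z} : Set G)) (hQn : ∀ g ∈ Subgroup.centralizer ({z} : Set G), ∀ q ∈ Q, g * q * g⁻¹ ∈ Q) (hQ2 : IsPGroup 2 Q) (hZ : Nat.card (Subgroup.center Q) = 2) (hsq : ∀ x : Q, x ^ 2 ∈ Subgroup.center Q) (hlarge : Subgroup.centralizer (Q : Set G) ≤ Q) : (∃ P : Sylow 2 G, (P : Subgroup G) ≤ Subgroup.centralizer ({z} : Set G)) ∧ ∀ u : G, orderOf u = 2 → (∃ P : Sylow 2 G, (P : Subgroup G) ≤ Subgroup.centralizer ({u} : Set G)) → IsConj z u := by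
  have : Fact (Nat.Prime 2) := ⟨Nat.prime_two⟩
  have hz1 : z ≠ 1 := by
    rintro rfl
    simp at hz
  have hzQ : z ∈ Q := by
    apply hlarge
    rw [Subgroup.mem_centralizer_iff]
    intro q hq
    have := hQC hq
    rw [Subgroup.mem_centralizer_iff] at this
    exact (this z (Set.mem_singleton z)).symm
  obtain ⟨T, hQT⟩ := hQ2.exists_le_sylow
  -- centre of T is nontrivial
  have hzT : z ∈ (T : Subgroup G) := hQT hzQ
  have : Nontrivial (T : Subgroup G) := ⟨⟨⟨z, hzT⟩, 1, fun h => hz1 (congrArg Subtype.val h)⟩⟩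
  have : Nontrivial (Subgroup.center (T : Subgroup G)) := T.isPGroup'.center_nontrivial
  obtain ⟨w, hw⟩ := exists_ne (1 : Subgroup.center (T : Subgroup G))
  have key : ∀ v : G, v ∈ (T : Subgroup G) → (∀ x ∈ (T : Subgroup G), x * v = v * x) → v ≠ 1 →
      v = z := by
    intro v _ hvc hv1
    exact eq_z_of_centralizes z hz Q hQC hZ hlarge v hv1 (fun q hq => hvc q (hQT hq))
  have hwc : ∀ x ∈ (T : Subgroup G), x * ((w : (T : Subgroup G)) : G) = w * x := by
    intro x hx
    have := w.2
    rw [Subgroup.mem_center_iff] at this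
    exact congrArg Subtype.val (this ⟨x, hx⟩)
  have hwz : ((w : (T : Subgroup G)) : G) = z := by
    apply key _ (w : (T : Subgroup G)).2 hwc
    intro h
    apply hw
    apply Subtype.ext
    apply Subtype.ext
    exact h
  have hTz : (T : Subgroup G) ≤ Subgroup.centralizer ({z} : Set G) := by
    intro x hx
    rw [Subgroup.mem_centralizer_iff]
    intro y hy
    rw [Set.mem_singleton_iff] at hy
    subst hy
    rw [← hwz]
    exact (hwc x hx).symm
  refine ⟨⟨T, hTz⟩, ?_⟩
  rintro u hu ⟨P, hP⟩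
  have huP : u ∈ P := Cfsg.Agent.S0443.mem_sylow_of_centralizes u hu P hP
  obtain ⟨g, hg⟩ := MulAction.exists_smul_eq G P T
  -- v = g u g⁻¹ lies in the centre of T
  have hmem : ∀ x : G, x ∈ (T : Subgroup G) ↔ g⁻¹ * x * g ∈ (P : Subgroup G) := by
    intro x
    rw [← hg, Sylow.coe_subgroup_smul, Subgroup.mem_pointwise_smul_iff_inv_smul_mem]
    simp [MulAut.smul_def, MulAut.conj_apply]
  have hvT : g * u * g⁻¹ ∈ (T : Subgroup G) := by
    rw [hmem]
    have : g⁻¹ * (g * u * g⁻¹) * g = u := by group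
    rw [this]; exact huP
  have hvc : ∀ x ∈ (T : Subgroup G), x * (g * u * g⁻¹) = (g * u * g⁻¹) * x := by
    intro x hx
    have h1 := hP ((hmem x).mp hx)
    rw [Subgroup.mem_centralizer_iff] at h1
    have h2 := h1 u (Set.mem_singleton u)
    -- u * (g⁻¹ x g) = (g⁻¹ x g) * u
    calc x * (g * u * g⁻¹) = g * ((g⁻¹ * x * g) * u) * g⁻¹ := by group
      _ = g * (u * (g⁻¹ * x * g)) * g⁻¹ := by rw [h2]
      _ = (g * u * g⁻¹) * x := by group
  have hv1 : g * u * g⁻¹ ≠ 1 := by
    intro h
    have : u = 1 := by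
      have : u = g⁻¹ * (g * u * g⁻¹) * g := by group
      rw [this, h]; group
    rw [this] at hu
    simp at hu
  have hv := key _ hvT hvc hv1
  rw [isConj_comm, isConj_iff]
  exact ⟨g, hv⟩

end Cfsg.Agent.S0481
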