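import Mathlib
import Cfsg.Statements.S0502
import Cfsg.Agent.Lib.Helper53_Klein
import Cfsg.Agent.Lib.Helper32_PGroup

set_option autoImplicit false
open Cfsg

namespace Cfsg.Agent.S0502

open Cfsg.Agent.Lib.Helper53_Klein

/-- Lemma C: an involution `u` of `P` centralizes an element of `E` outside `{1, z}`. -/
theorem exists_centralized {P : Type*} [Group P] [Finite P]
    (E : Subgroup P) [E.Normal] (hEc : ∀ a ∈ E, ∀ b ∈ E, a * b = b * a)
    (hE2 : ∀ e ∈ E, e * e = 1) (hE8 : 8 ≤ Nat.card E)
    (u : P) (hu : u * u = 1) (z : P) (hzE : z ∈ E) (hzc : ∀ x : P, x * z = z * x) :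
    ∃ w ∈ E, w ≠ 1 ∧ w ≠ z ∧ u * w = w * u := by
  classical
  have huinv : u⁻¹ = u := inv_eq_of_mul_eq_one_right hu
  -- conjugation by u
  have hcE : ∀ e ∈ E, u * e * u ∈ E := by
    intro e he
    have := (inferInstance : E.Normal).conj_mem e he u
    rwa [huinv] at this
  -- fixed elements commute with u
  have hfix : ∀ w : P, u * w * u = w → u * w = w * u := by
    intro w hw
    calc u * w = u * w * (u * u) := by rw [hu, mul_one]
      _ = (u * w * u) * u := by group
      _ = w * u := by rw [hw]
  -- e * c(e) is fixed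
  have hnorm : ∀ e ∈ E, u * (e * (u * e * u)) * u = e * (u * e * u) := by
    intro e he
    have hc := hEc _ he _ (hcE e he)
    calc u * (e * (u * e * u)) * u = u * ((u * e * u) * e) * u := by rw [hc]
      _ = (u * u) * e * (u * e * u) := by group
      _ = e * (u * e * u) := by rw [hu, one_mul]
  -- if e c(e) = 1 then c(e) = e
  have hone : ∀ e ∈ E, e * (u * e * u) = 1 → u * e * u = e := by
    intro e he h
    have h2 : e * (u * e * u) = e * e := by rw [h, hE2 e he]
    exact mul_left_cancel h2
  -- if e c(e) = z then c(e) = e z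
  have hz : ∀ e ∈ E, e * (u * e * u) = z → u * e * u = e * z := by
    intro e he h
    have h2 : e * (u * e * u) = e * (e * z) := by rw [h, ← mul_assoc, hE2 e he, one_mul]
    exact mul_left_cancel h2
  -- first pick
  obtain ⟨e, heE, heS⟩ := exists_mem_not_mem_finset E ({1, z} : Finset P) (by
    have : ({1, z} : Finset P).card ≤ 2 := Finset.card_le_two
    omega)
  simp only [Finset.mem_insert, Finset.mem_singleton, not_or] at heS
  obtain ⟨he1, hez⟩ := heS
  by_cases hce : u * e * u = e
  · exact ⟨e, heE, he1, hez, hfix e hce⟩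
  by_cases hw1 : e * (u * e * u) = z
  swap
  · refine ⟨e * (u * e * u), E.mul_mem heE (hcE e heE), ?_, hw1, hfix _ (hnorm e heE)⟩
    intro h
    exact hce (hone e heE h)
  have hce' := hz e heE hw1
  -- second pick
  obtain ⟨e', heE', heS'⟩ := exists_mem_not_mem_finset E ({1, z, e, e * z} : Finset P) (by
    have : ({1, z, e, e * z} : Finset P).card ≤ 4 := Finset.card_le_four
    omega)
  simp only [Finset.mem_insert, Finset.mem_singleton, not_or] at heS'
  obtain ⟨he1', hez', hee', heez'⟩ := heS'
  by_cases hce2 : u * e' * u = e'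
  · exact ⟨e', heE', he1', hez', hfix e' hce2⟩
  by_cases hw2 : e' * (u * e' * u) = z
  swap
  · refine ⟨e' * (u * e' * u), E.mul_mem heE' (hcE e' heE'), ?_, hw2, hfix _ (hnorm e' heE')⟩
    intro h
    exact hce2 (hone e' heE' h)
  have hce2' := hz e' heE' hw2
  -- now c(e) = e z, c(e') = e' z; take e e'
  have hzz : z * z = 1 := hE2 z hzE
  refine ⟨e * e', E.mul_mem heE heE', ?_, ?_, ?_⟩
  · intro h
    apply hee'
    have h2 : e * e' = e * e := by rw [h, hE2 e heE]
    exact mul_left_cancel h2
  · intro h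
    apply heez'
    have h2 : e * e' = e * (e * z) := by rw [h, ← mul_assoc, hE2 e heE, one_mul]
    exact mul_left_cancel h2
  · apply hfix
    have h3 : u * (e * e') * u = (u * e * u) * (u * e' * u) := by
      have h1 : (u * e * u) * (u * e' * u) = u * e * (u * u) * e' * u := by group
      rw [h1, hu, mul_one]; group
    rw [h3, hce', hce2']
    calc e * z * (e' * z) = e * (z * e') * z := by group
      _ = e * (e' * z) * z := by rw [hzc e']
      _ = e * e' * (z * z) := by group
      _ = e * e' := by rw [hzz, mul_one]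

/-- If a finite 2-group has a normal elementary abelian subgroup of order at least 8, then any two of its Klein
four-subgroups are joined by a chain of Klein four-subgroups with consecutive members commuting elementwise. -/
theorem result {P : Type*} [Group P] [Finite P] (hP : IsPGroup 2 P)
    (E : Subgroup P) [E.Normal] (hE : IsMulCommutative E) (hE2 : ∀ e ∈ E, e ^ 2 = 1) (hE8 : 8 ≤ Nat.card E) :
    Cfsg.IsFourConnected P := by
  classical
  haveI : Fact (Nat.Prime 2) := ⟨Nat.prime_two⟩
  have hEc : ∀ a ∈ E, ∀ b ∈ E, a * b = b * a := by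
    intro a ha b hb
    exact congrArg Subtype.val (hE.is_comm.comm (⟨a, ha⟩ : ↥E) ⟨b, hb⟩)
  have hEsq : ∀ e ∈ E, e * e = 1 := by
    intro e he
    rw [← pow_two]; exact hE2 e he
  have hEne : E ≠ ⊥ := by
    intro h
    rw [h, Subgroup.card_bot] at hE8
    omega
  obtain ⟨z, hzE, hzcen, hz1⟩ :=
    Cfsg.Agent.Lib.Helper32_PGroup.exists_mem_center_of_normal hP E hEne
  have hzc : ∀ x : P, x * z = z * x := fun x => (Subgroup.mem_center_iff.mp hzcen x)
  have hzz : z * z = 1 := hEsq z hzE
  set R : Subgroup P → Subgroup P → Prop := fun A B =>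
    IsKleinFour A ∧ IsKleinFour B ∧ ∀ a ∈ A, ∀ b ∈ B, a * b = b * a with hR
  haveI hRsymm : Std.Symm R := ⟨by
    intro A B ⟨hA, hB, hAB⟩
    exact ⟨hB, hA, fun b hb a ha => (hAB a ha b hb).symm⟩⟩
  -- every Klein four-subgroup is connected to one inside E
  have hmain : ∀ U : Subgroup P, IsKleinFour U →
      ∃ W : Subgroup P, IsKleinFour W ∧ W ≤ E ∧ Relation.ReflTransGen R U W := by
    intro U hU
    haveI := hU
    haveI : Finite ↥U := inferInstance
    obtain ⟨u, huU, huS⟩ := exists_mem_not_mem_finset U ({1, z} : Finset P) (by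
      have : ({1, z} : Finset P).card ≤ 2 := Finset.card_le_two
      have h4 : Nat.card ↥U = 4 := IsKleinFour.card_four
      omega)
    simp only [Finset.mem_insert, Finset.mem_singleton, not_or] at huS
    obtain ⟨hu1, huz⟩ := huS
    have huu : u * u = 1 := by
      have := IsKleinFour.mul_self (⟨u, huU⟩ : ↥U)
      exact congrArg Subtype.val this
    have hUc : ∀ a ∈ U, ∀ b ∈ U, a * b = b * a := by
      intro a ha b hb
      exact congrArg Subtype.val
        ((IsKleinFour.isMulCommutative (G := ↥U)).is_comm.comm (⟨a, ha⟩ : ↥U) ⟨b, hb⟩)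
    obtain ⟨w, hwE, hw1, hwz, huw⟩ := exists_centralized E hEc hEsq hE8 u huu z hzE hzc
    have hww : w * w = 1 := hEsq w hwE
    have hzw : z * w = w * z := hEc z hzE w hwE
    have huzc : u * z = z * u := hzc u
    -- A = ⟨u, z⟩, W = ⟨z, w⟩
    have hA : IsKleinFour ↥(four u z huu hzz huzc) := isKleinFour_four hu1 hz1 huz
    have hW : IsKleinFour ↥(four z w hzz hww hzw) := isKleinFour_four hz1 hw1 (Ne.symm hwz)
    refine ⟨four z w hzz hww hzw, hW, four_le hzE hwE, ?_⟩
    have hUA : R U (four u z huu hzz huzc) := by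
      refine ⟨hU, hA, ?_⟩
      intro a ha b hb
      exact commute_four (hUc a ha u huU) (hzc a) hb
    have hAW : R (four u z huu hzz huzc) (four z w hzz hww hzw) := by
      refine ⟨hA, hW, ?_⟩
      intro a ha b hb
      refine commute_four ?_ ?_ hb
      · exact hzc a
      · exact (commute_four (y := w) huw.symm hzw.symm ha).symm
    exact Relation.ReflTransGen.tail (Relation.ReflTransGen.single hUA) hAW
  intro U V hU hV
  obtain ⟨W, hW, hWE, hUW⟩ := hmain U hU
  obtain ⟨W', hW', hWE', hVW'⟩ := hmain V hV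
  have hWW' : R W W' := ⟨hW, hW', fun a ha b hb => hEc a (hWE ha) b (hWE' hb)⟩
  have hW'V : Relation.ReflTransGen R W' V := (Relation.ReflTransGen.stdSymm (r := R)).symm _ _ hVW'
  exact (hUW.tail hWW').trans hW'V

end Cfsg.Agent.S0502
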