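import Cfsg.Statements.S0505
import Mathlib
import Cfsg.Agent.S0017
import Cfsg.Agent.S0028
import Cfsg.Agent.Lib.Helper1_Cores
import Cfsg.Agent.Lib.Helper22_Cores

set_option autoImplicit false
open Cfsg

namespace Cfsg.Agent.S0505


open Cfsg.Agent.Lib.Helper1_Cores

variable {G : Type*} [Group G]

/-- The image in `G` of a normal subgroup of a subgroup `X` is normalized by `X`. -/
theorem le_normalizer_map_subtype (X : Subgroup G) (N : Subgroup X) [hN : N.Normal] :
    X ≤ Subgroup.normalizer ((N.map X.subtype : Subgroup G) : Set G) := by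
  have h1 := Subgroup.le_normalizer_map (H := N) X.subtype
  rw [Subgroup.normalizer_eq_top, ← MonoidHom.range_eq_map, Subgroup.range_subtype] at h1
  exact h1

/-- Conjugation by an element of the normalizer keeps membership. -/
theorem conj_mem_of_mem_normalizer {H : Subgroup G} {g x : G}
    (hg : g ∈ Subgroup.normalizer (H : Set G)) (hx : x ∈ H) : g * x * g⁻¹ ∈ H :=
  (Subgroup.mem_normalizer_iff.1 hg x).1 hx

/-- A 2-subgroup and an odd order subgroup meet trivially. -/
theorem inf_eq_bot_of_two_group_of_odd [Finite G] (A B : Subgroup G) (hA : IsPGroup 2 A)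
    (hB : (Nat.card B).Coprime 2) : A ⊓ B = ⊥ := by
  rw [← disjoint_iff]
  apply Subgroup.disjoint_of_coprime_natCard
  obtain ⟨n, hn⟩ := hA.exists_card_eq
  rw [hn]
  exact Nat.Coprime.pow_left n hB.symm

/-- A nontrivial 2-subgroup contains an involution in its centre. -/
theorem exists_central_involution [Finite G] (T : Subgroup G) (hT : IsPGroup 2 T) (hne : T ≠ ⊥) :
    ∃ t ∈ T, orderOf t = 2 ∧ ∀ x ∈ T, x * t = t * x := by
  have hnt : Nontrivial T := (Subgroup.nontrivial_iff_ne_bot T).2 hne
  have hcn : Nontrivial (Subgroup.center T) := hT.center_nontrivial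
  have hZ : IsPGroup 2 (Subgroup.center T) := hT.to_subgroup _
  have hdvd : 2 ∣ Nat.card (Subgroup.center T) := by
    rcases hZ.card_eq_or_dvd with h1 | h1
    · exfalso
      have := Finite.one_lt_card_iff_nontrivial.2 hcn
      omega
    · exact h1
  obtain ⟨z, hz⟩ := exists_prime_orderOf_dvd_card' 2 hdvd
  refine ⟨((z : T) : G), (z : T).2, ?_, ?_⟩
  · rw [Subgroup.orderOf_coe, Subgroup.orderOf_coe]; exact hz
  · intro x hx
    have h1 := (Subgroup.mem_center_iff.1 z.2) ⟨x, hx⟩
    have h2 := congrArg (Subtype.val) h1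
    simpa using h2

/-- The key step: under the hypotheses on involution centralizers, an odd order subgroup `D`
normalized by `N_G(T)` and normalizing the nontrivial 2-subgroup `T` is trivial. -/
theorem eq_bot_of_odd_normalized [Finite G]
    (hs : ∀ t : G, orderOf t = 2 → Group.IsSolvable (Subgroup.centralizer ({t} : Set G)))
    (hc : ∀ t : G, orderOf t = 2 → Cfsg.oddCore (Subgroup.centralizer ({t} : Set G)) = ⊥)
    (T : Subgroup G) (hT : IsPGroup 2 T) (hne : T ≠ ⊥) (D : Subgroup G)
    (hD : (Nat.card D).Coprime 2)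
    (hND : Subgroup.normalizer (T : Set G) ≤ Subgroup.normalizer (D : Set G))
    (hDT : D ≤ Subgroup.normalizer (T : Set G)) : D = ⊥ := by
  have hTD : T ⊓ D = ⊥ := inf_eq_bot_of_two_group_of_odd T D hT hD
  -- `D` centralizes `T`
  have hcomm : ∀ d ∈ D, ∀ x ∈ T, d * x = x * d := by
    intro d hd x hx
    have h1 : d * x * d⁻¹ * x⁻¹ ∈ T :=
      T.mul_mem (conj_mem_of_mem_normalizer (hDT hd) hx) (T.inv_mem hx)
    have h2 : d * x * d⁻¹ * x⁻¹ ∈ D := by
      have hxN : x ∈ Subgroup.normalizer (D : Set G) := hND (Subgroup.le_normalizer hx)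
      have := D.mul_mem hd (conj_mem_of_mem_normalizer hxN (D.inv_mem hd))
      have e : d * (x * d⁻¹ * x⁻¹) = d * x * d⁻¹ * x⁻¹ := by group
      rw [e] at this
      exact this
    have h3 : d * x * d⁻¹ * x⁻¹ ∈ T ⊓ D := ⟨h1, h2⟩
    rw [hTD, Subgroup.mem_bot] at h3
    have e : d * x = (d * x * d⁻¹ * x⁻¹) * (x * d) := by group
    rw [e, h3, one_mul]
  obtain ⟨t, htT, ht2, htc⟩ := exists_central_involution T hT hne
  obtain ⟨X, hX⟩ : ∃ X : Subgroup G, X = Subgroup.centralizer ({t} : Set G) := ⟨_, rfl⟩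
  have hXs : Group.IsSolvable X := by rw [hX]; exact hs t ht2
  have hXc : Cfsg.pPrimeCore 2 X = ⊥ := by rw [hX]; exact hc t ht2
  have hTX : T ≤ X := by
    intro x hx
    rw [hX, Subgroup.mem_centralizer_singleton_iff]
    exact htc x hx
  have hDX : D ≤ X := by
    intro d hd
    rw [hX, Subgroup.mem_centralizer_singleton_iff]
    exact hcomm d hd t htT
  have h17 := Cfsg.Agent.S0017.result (G := X) 2 hXc
  obtain ⟨R, hR⟩ : ∃ R : Subgroup G, R = (Cfsg.pCore 2 X).map X.subtype := ⟨_, rfl⟩
  have hRp : IsPGroup 2 R := by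
    rw [hR]; exact (pCore_isPGroup 2).map _
  have hXR : X ≤ Subgroup.normalizer (R : Set G) := by
    rw [hR]
    have : (Cfsg.pCore 2 X).Normal := inferInstance
    exact le_normalizer_map_subtype X _
  have hCR : ∀ x ∈ X, x ∈ Subgroup.centralizer (R : Set G) → x ∈ R := by
    intro x hxX hxC
    have h1 : (⟨x, hxX⟩ : X) ∈ Subgroup.centralizer ((Cfsg.pCore 2 X : Subgroup X) : Set X) := by
      rw [Subgroup.mem_centralizer_iff]
      intro y hy
      have hyR : (y : G) ∈ R := by rw [hR]; exact Subgroup.mem_map_of_mem _ hy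
      have := (Subgroup.mem_centralizer_iff.1 hxC) (y : G) hyR
      exact Subtype.ext this
    have h2 := h17 h1
    rw [hR]
    exact ⟨⟨x, hxX⟩, h2, rfl⟩
  have hDR : D ⊓ R = ⊥ := by
    rw [inf_comm]; exact inf_eq_bot_of_two_group_of_odd R D hRp hD
  have h28 : D ≤ Subgroup.centralizer (R : Set G) := by
    apply Cfsg.Agent.S0028.result 2 T D R hT hD hRp
    · intro x hx
      rw [Subgroup.mem_centralizer_iff]
      intro d hd
      exact hcomm d hd x hx
    · exact hTX.trans hXR
    · exact hDX.trans hXR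
    · intro r hr
      obtain ⟨hrR, hrT⟩ := Subgroup.mem_inf.1 hr
      have hrN : r ∈ Subgroup.normalizer (D : Set G) :=
        hND (Subgroup.centralizer_le_normalizer _ hrT)
      rw [Subgroup.mem_centralizer_iff]
      intro d hd
      have h1 : r * d * r⁻¹ * d⁻¹ ∈ D :=
        D.mul_mem (conj_mem_of_mem_normalizer hrN hd) (D.inv_mem hd)
      have h2 : r * d * r⁻¹ * d⁻¹ ∈ R := by
        have := R.mul_mem hrR
          (conj_mem_of_mem_normalizer (hXR (hDX hd)) (R.inv_mem hrR))
        have e : r * (d * r⁻¹ * d⁻¹) = r * d * r⁻¹ * d⁻¹ := by group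
        rw [e] at this
        exact this
      have h3 : r * d * r⁻¹ * d⁻¹ ∈ D ⊓ R := ⟨h1, h2⟩
      rw [hDR, Subgroup.mem_bot] at h3
      have e : r * d = (r * d * r⁻¹ * d⁻¹) * (d * r) := by group
      rw [e, h3, one_mul]
  have hle : D ≤ D ⊓ R := fun d hd => ⟨hd, hCR d (hDX hd) (h28 hd)⟩
  rw [hDR] at hle
  exact le_bot_iff.1 hle

/-- In a finite group `H` with `O(H) = 1`, if the centralizer of `O_2(H)` is solvable, then it is
contained in `O_2(H)`. -/
theorem centralizer_pCore_le {H : Type*} [Group H] [Finite H] (hO : Cfsg.pPrimeCore 2 H = ⊥)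
    (hsol : Group.IsSolvable (Subgroup.centralizer ((Cfsg.pCore 2 H : Subgroup H) : Set H))) :
    Subgroup.centralizer ((Cfsg.pCore 2 H : Subgroup H) : Set H) ≤ Cfsg.pCore 2 H := by
  have hQn : (Cfsg.pCore 2 H).Normal := inferInstance
  obtain ⟨C, hC⟩ : ∃ C : Subgroup H, C = Subgroup.centralizer ((Cfsg.pCore 2 H : Subgroup H) : Set H) :=
    ⟨_, rfl⟩
  rw [← hC] at hsol ⊢
  have hCn : C.Normal := by rw [hC]; exact Subgroup.normal_centralizer
  have hCsn : C.IsSubnormal := hCn.isSubnormal
  have hOC : Cfsg.pPrimeCore 2 C = ⊥ := by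
    have h1 := Cfsg.Agent.Lib.Helper22_Cores.map_pPrimeCore_of_isSubnormal 2 hCsn
    rw [hO, inf_bot_eq] at h1
    exact (Subgroup.map_eq_bot_iff_of_injective _ C.subtype_injective).1 h1
  have h17 := Cfsg.Agent.S0017.result (G := C) 2 hOC
  have hPn : (Cfsg.pCore 2 C).Normal := inferInstance
  have hle : (Cfsg.pCore 2 C).map C.subtype ≤ Cfsg.pCore 2 H := by
    apply Cfsg.Agent.Lib.Helper22_Cores.le_pCore_of_le_isSubnormal 2 hCsn
      (Subgroup.map_subtype_le _) (le_normalizer_map_subtype C _)
    exact (pCore_isPGroup 2).map _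
  intro c hc
  have h1 : (⟨c, hc⟩ : C) ∈ Subgroup.centralizer ((Cfsg.pCore 2 C : Subgroup C) : Set C) := by
    rw [Subgroup.mem_centralizer_iff]
    intro y hy
    have hyQ : (y : H) ∈ Cfsg.pCore 2 H := hle (Subgroup.mem_map_of_mem _ hy)
    have hc' : c ∈ Subgroup.centralizer ((Cfsg.pCore 2 H : Subgroup H) : Set H) := by
      rw [← hC]; exact hc
    have := (Subgroup.mem_centralizer_iff.1 hc') (y : H) hyQ
    exact Subtype.ext this
  have h2 := h17 h1
  exact hle ⟨⟨c, hc⟩, h2, rfl⟩

/-- Let G be a finite group of even order in which the centralizer of every involution is solvable and has trivial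
core (no nontrivial normal subgroup of odd order). Then G is of characteristic 2 type. -/
theorem result {G : Type*} [Group G] [Finite G]
    (h2 : Even (Nat.card G))
    (hs : ∀ t : G, orderOf t = 2 → Group.IsSolvable (Subgroup.centralizer ({t} : Set G)))
    (hc : ∀ t : G, orderOf t = 2 → Cfsg.oddCore (Subgroup.centralizer ({t} : Set G)) = ⊥) :
    Cfsg.IsCharacteristicTwoType G := by
  refine ⟨h2, ?_⟩
  intro T hT hne
  unfold Cfsg.IsOfCharacteristicTwo
  obtain ⟨N, hN⟩ : ∃ N : Subgroup G, N = Subgroup.normalizer (T : Set G) := ⟨_, rfl⟩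
  rw [← hN]
  -- `O(N) = 1`
  have hO : Cfsg.pPrimeCore 2 N = ⊥ := by
    have hOn : (Cfsg.pPrimeCore 2 N).Normal := inferInstance
    have h1 : (Cfsg.pPrimeCore 2 N).map N.subtype = ⊥ := by
      apply eq_bot_of_odd_normalized hs hc T hT hne
      · rw [Subgroup.card_subtype]
        exact pPrimeCore_card_coprime 2
      · rw [← hN]; exact le_normalizer_map_subtype N _
      · rw [← hN]; exact Subgroup.map_subtype_le _
    exact (Subgroup.map_eq_bot_iff_of_injective _ N.subtype_injective).1 h1
  apply centralizer_pCore_le hO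
  -- the centralizer of `O_2(N)` is solvable, since it centralizes an involution of `T`
  obtain ⟨t, htT, ht2, _⟩ := exists_central_involution T hT hne
  have htN : t ∈ N := by rw [hN]; exact Subgroup.le_normalizer htT
  have hTN : (T.subgroupOf N).Normal := by
    rw [hN]; exact Subgroup.normal_in_normalizer
  have htQ : (⟨t, htN⟩ : N) ∈ Cfsg.pCore 2 N := by
    apply le_pCore hTN (p := 2)
    · exact hT.comap_subtype
    · exact Subgroup.mem_subgroupOf.2 htT
  have hsX := hs t ht2
  let f : Subgroup.centralizer ((Cfsg.pCore 2 N : Subgroup N) : Set N) →*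
      Subgroup.centralizer ({t} : Set G) :=
    MonoidHom.codRestrict (N.subtype.comp (Subgroup.subtype _)) _ (by
      intro c
      rw [Subgroup.mem_centralizer_singleton_iff]
      have := (Subgroup.mem_centralizer_iff.1 c.2) ⟨t, htN⟩ htQ
      have h3 := congrArg Subtype.val this
      exact h3.symm)
  have hf : Function.Injective f := by
    intro a b hab
    have h3 := congrArg Subtype.val hab
    exact Subtype.ext (Subtype.ext h3)
  exact Group.isSolvable_of_isSolvable_injective hf

end Cfsg.Agent.S0505
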