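import Mathlib
import Cfsg.Statements.S0519
import Cfsg.Agent.S0126
import Cfsg.Agent.S0221
import Cfsg.Agent.Lib.Helper4_CyclicNormal
import Cfsg.Agent.Lib.Helper54_TwoGroups

set_option autoImplicit false
open Cfsg

namespace Cfsg.Agent.S0519

open Cfsg.Agent.Lib.Helper4_NormalFour Cfsg.Agent.Lib.Helper4_CyclicNormal

/-- A normal four-group contradicts "every abelian normal subgroup is cyclic". -/
theorem not_hasNormalFour {P : Type*} [Group P]
    (hn : ∀ A : Subgroup P, A.Normal → IsMulCommutative A → IsCyclic A) : ¬ HasNormalFour P := by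
  rintro ⟨z, t, hzc, hz1, hz2, ht2, ht1, htz, hconj⟩
  have hzc' : ∀ s : P, s * z = z * s := fun s => (Subgroup.mem_center_iff.mp hzc s)
  obtain ⟨V, hVcard, hV2, hVm⟩ :=
    Cfsg.Agent.S0221.exists_four z t hz2 ht2 hz1 ht1 htz (hzc' t)
  have hzz : z * z = 1 := by rw [← pow_two]; exact hz2
  have hVn : V.Normal := by
    constructor
    intro v hv s
    rw [hVm] at hv ⊢
    rcases hv with hv | hv | hv | hv
    · left; rw [hv]; simp
    · right; left
      rw [hv, hzc' s, mul_inv_cancel_right]
    · rcases hconj s with h | h
      · right; right; left; rw [hv]; exact h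
      · right; right; right
        rw [hv, h, hzc' t]
    · have h1 : s * (t * z) * s⁻¹ = (s * t * s⁻¹) * z := by
        rw [mul_assoc s, mul_assoc s, mul_assoc t, ← hzc' s⁻¹]
        simp only [mul_assoc]
      rcases hconj s with h | h
      · right; right; right
        rw [hv, h1, h]
      · right; right; left
        rw [hv, h1, h, ← hzc' t, mul_assoc, hzz, mul_one]
  have hVc : IsMulCommutative V := by
    refine ⟨⟨fun x y => Subtype.ext ?_⟩⟩
    exact comm_of_sq_eq_one (hV2 x x.2) (hV2 y y.2) (hV2 _ (V.mul_mem x.2 y.2))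
  have hcyc := hn V hVn hVc
  obtain ⟨g, hg⟩ := hcyc.exists_generator
  have hord : orderOf g = 4 := by
    rw [orderOf_eq_card_of_forall_mem_zpowers hg, hVcard]
  have hg2 : g ^ 2 = 1 := Subtype.ext (by simpa using hV2 g g.2)
  have := orderOf_dvd_of_pow_eq_one hg2
  rw [hord] at this
  omega

/-- Let P be a finite p-group in which every abelian normal subgroup is cyclic, but which has a non-cyclic abelian
subgroup. Then p = 2 and P is generalized quaternion, dihedral of order at least 16, or quasi-dihedral. -/
theorem result {P : Type*} [Group P] [Finite P] (p : ℕ) [Fact p.Prime]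
    (hP : IsPGroup p P) (hn : ∀ A : Subgroup P, A.Normal → IsMulCommutative A → IsCyclic A)
    (hm : ∃ B : Subgroup P, IsMulCommutative B ∧ ¬ IsCyclic B) :
    p = 2 ∧ ((∃ n : ℕ, Nonempty (P ≃* QuaternionGroup n)) ∨ (∃ n : ℕ, 8 ≤ n ∧ Nonempty (P ≃* DihedralGroup n)) ∨
      Cfsg.IsQuasiDihedral P) := by
  classical
  obtain ⟨B, hBc, hBnc⟩ := hm
  have hncyc : ¬ IsCyclic P := fun h => hBnc (Subgroup.isCyclic B)
  -- `p = 2`
  have hp2 : p = 2 := by
    by_contra hp2
    obtain ⟨A, hAn, ⟨hAc, hAe⟩, hAcard⟩ := Cfsg.Agent.S0126.result hp2 hP hncyc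
    have hcyc := hn A hAn hAc
    obtain ⟨g, hg⟩ := hcyc.exists_generator
    have hord : orderOf g = p ^ 2 := by
      rw [orderOf_eq_card_of_forall_mem_zpowers hg, hAcard]
    have hgp : g ^ p = 1 := Subtype.ext (by simpa using hAe g g.2)
    have h1 := orderOf_dvd_of_pow_eq_one hgp
    rw [hord] at h1
    have hpp : p.Prime := Fact.out
    have h2 := Nat.le_of_dvd hpp.pos h1
    have h3 : p * 2 ≤ p * p := Nat.mul_le_mul_left p hpp.two_le
    have h4 : p ^ 2 = p * p := pow_two p
    have h5 := hpp.pos
    omega
  subst hp2
  refine ⟨rfl, ?_⟩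
  have hno : ¬ HasNormalFour P := not_hasNormalFour hn
  -- the self-centralizing cyclic normal subgroup
  obtain ⟨A, hAn, hAc, hAcent⟩ := exists_normal_abelian_self_centralizing hP
  have hAcomm : IsMulCommutative A := ⟨⟨fun x y => Subtype.ext (hAc x x.2 y y.2)⟩⟩
  have hAcyc := hn A hAn hAcomm
  obtain ⟨g, hg⟩ := hAcyc.exists_generator
  set a : P := g.1 with ha
  have hA : Subgroup.zpowers a = A := by
    ext x
    constructor
    · intro hx
      obtain ⟨k, rfl⟩ := Subgroup.mem_zpowers_iff.mp hx
      exact A.zpow_mem g.2 k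
    · intro hx
      obtain ⟨k, hk⟩ := Subgroup.mem_zpowers_iff.mp (hg ⟨x, hx⟩)
      refine Subgroup.mem_zpowers_iff.mpr ⟨k, ?_⟩
      have := congrArg Subtype.val hk
      simpa using this
  obtain ⟨n, hord⟩ := (IsPGroup.iff_orderOf.mp hP) a
  have hcent : Subgroup.centralizer (Subgroup.zpowers a : Set P) = Subgroup.zpowers a := by
    rw [hA]; exact hAcent
  have hnorm : (Subgroup.zpowers a).Normal := by rw [hA]; exact hAn
  have htop : Subgroup.zpowers a ≠ ⊤ := by
    intro htop
    apply hncyc
    refine ⟨⟨a, fun x => ?_⟩⟩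
    have : x ∈ Subgroup.zpowers a := by rw [htop]; exact Subgroup.mem_top x
    exact this
  have hn1 : 1 ≤ n := by
    by_contra h0
    have hn0 : n = 0 := by omega
    rw [hn0, pow_zero, orderOf_eq_one_iff] at hord
    apply htop
    rw [← hcent, hord, Subgroup.zpowers_one_eq_bot]
    rw [eq_top_iff]
    intro x _
    rw [Subgroup.mem_centralizer_iff]
    intro y hy
    have : y = 1 := by simpa using hy
    rw [this, mul_one, one_mul]
  have h : SCC a n := ⟨hnorm, hcent, hord, hn1⟩
  -- an involution outside `⟨a⟩`
  obtain ⟨u, hu2, hu1, huA⟩ : ∃ u : P, u ^ 2 = 1 ∧ u ≠ 1 ∧ u ∉ Subgroup.zpowers a := by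
    by_contra hcon
    push Not at hcon
    apply hBnc
    open scoped IsMulCommutative in
    apply Cfsg.Agent.Lib.Helper54_TwoGroups.isCyclic_of_unique_involution (hP.to_subgroup B)
    intro x y hx2 hy2 hx1 hy1
    apply Subtype.ext
    have hx2' : (x : P) ^ 2 = 1 := by
      have := congrArg Subtype.val hx2
      simpa using this
    have hy2' : (y : P) ^ 2 = 1 := by
      have := congrArg Subtype.val hy2
      simpa using this
    have hx1' : (x : P) ≠ 1 := fun h' => hx1 (Subtype.ext h')
    have hy1' : (y : P) ≠ 1 := fun h' => hy1 (Subtype.ext h')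
    rw [h.uniq _ (hcon _ hx2' hx1') hx2' hx1', h.uniq _ (hcon _ hy2' hy1') hy2' hy1']
  have huu : u * u = 1 := by rw [← pow_two]; exact hu2
  have huinv : u⁻¹ = u := by rw [inv_eq_iff_mul_eq_one]; exact huu
  have huz : u ≠ zz a n := fun h' => huA (h' ▸ h.z_mem)
  have hsq : u * (u * a * u⁻¹) * u⁻¹ = a := by
    rw [huinv, ← mul_assoc, ← mul_assoc, huu, one_mul, mul_assoc, huu, mul_one]
  by_cases hn3 : 3 ≤ n
  · -- the main case
    have hidx : (Subgroup.zpowers a).index = 2 := by
      rw [Subgroup.index_eq_two_iff_exists_notMem_and]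
      refine ⟨u, huA, fun b => ?_⟩
      by_cases hb : b ∈ Subgroup.zpowers a
      · exact Or.inr hb
      · exact Or.inl (h.mul_mem_of_notMem hP hn3 hno b u hb huA).1
    have hcard : Nat.card P = 2 * 2 ^ n := by
      rw [← Subgroup.card_mul_index (Subgroup.zpowers a), hidx, Nat.card_zpowers, hord, mul_comm]
    have h8 : 8 ≤ 2 ^ n := by
      calc 8 = 2 ^ 3 := by norm_num
        _ ≤ 2 ^ n := Nat.pow_le_pow_right (by norm_num) hn3
    rcases h.conj_three hP hn3 hno u with h1 | h1 | h1
    · exact absurd (h.mem_of_conj u h1) huA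
    · right; left
      exact ⟨2 ^ n, h8,
        Cfsg.Agent.Lib.Helper54_TwoGroups.nonempty_mulEquiv_dihedralGroup (2 ^ n) a u hord
          huu h1 huA hcard⟩
    · right; right
      refine ⟨n, hn3, ?_, a, u, hord, orderOf_eq_prime hu2 hu1, ?_⟩
      · rw [hcard, pow_succ, mul_comm]
      · rw [h1]
        have hpos : 1 ≤ 2 ^ (n - 1) := Nat.one_le_two_pow
        have h2 : a ^ (2 ^ (n - 1) - 1) * a = zz a n := by
          rw [← pow_succ, Nat.sub_add_cancel hpos, zz]
        rw [← h2, ← mul_assoc]
        have hc : a⁻¹ * a ^ (2 ^ (n - 1) - 1) = a ^ (2 ^ (n - 1) - 1) * a⁻¹ :=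
          ((Commute.refl a).inv_left.pow_right _).eq
        rw [hc, inv_mul_cancel_right]
  · exfalso
    have hn12 : n = 1 ∨ n = 2 := by omega
    rcases hn12 with rfl | rfl
    · -- `a` is a central involution
      apply htop
      rw [← hcent, eq_top_iff]
      intro x _
      rw [Subgroup.mem_centralizer_iff]
      intro y hy
      have hz : zz a 1 = a := by simp [zz]
      obtain ⟨k, rfl⟩ := Subgroup.mem_zpowers_iff.mp hy
      have hc : Commute x a := by
        have := h.z_comm x
        rw [hz] at this
        exact this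
      exact (hc.zpow_right k).eq.symm
    · -- `a` has order four and `u` inverts it
      apply hno
      have hz : zz a 2 = a ^ 2 := by simp [zz]
      have ha4 : a ^ 4 = 1 := by
        have := pow_orderOf_eq_one a
        rw [hord] at this
        exact this
      have hinv : a⁻¹ = a * zz a 2 := by
        rw [hz, inv_eq_iff_mul_eq_one, ← pow_succ', ← pow_succ']
        exact ha4
      have hua : u * a * u⁻¹ = a⁻¹ := by
        rcases h.conj_cases' u hsq with (h1 | h1) | (h1 | h1)
        · exact absurd (h.mem_of_conj u h1) huA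
        · rw [h1, hinv]
        · exact h1
        · exfalso
          apply huA
          apply h.mem_of_conj u
          rw [h1, hinv, mul_assoc, h.z_mul_self, mul_one]
      have huc : ∀ c ∈ Subgroup.zpowers a, u * c * u⁻¹ = c⁻¹ := by
        intro c hc
        obtain ⟨k, rfl⟩ := Subgroup.mem_zpowers_iff.mp hc
        rw [← conj_zpow, hua, inv_zpow]
      have hcsq : ∀ c ∈ Subgroup.zpowers a, c * c = 1 ∨ c * c = zz a 2 := by
        intro c hc
        by_cases hc1 : c * c = 1
        · exact Or.inl hc1
        · right
          apply h.uniq _ (Subgroup.mul_mem _ hc hc) _ hc1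
          obtain ⟨k, rfl⟩ := Subgroup.mem_zpowers_iff.mp hc
          rw [← zpow_add, ← zpow_natCast, ← zpow_mul]
          have : (k + k) * ((2 : ℕ) : ℤ) = 4 * k := by push_cast; ring
          rw [this, zpow_mul]
          have : a ^ (4 : ℤ) = 1 := by
            rw [← ha4]; norm_cast
          rw [this, one_zpow]
      have hcu : ∀ c ∈ Subgroup.zpowers a, c * u * c⁻¹ = u ∨ c * u * c⁻¹ = zz a 2 * u := by
        intro c hc
        have h1 : c * u * c⁻¹ = (c * c) * u := by
          have := huc c⁻¹ (Subgroup.inv_mem _ hc)
          rw [inv_inv, huinv] at this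
          calc c * u * c⁻¹ = c * (u * c⁻¹ * u) * u := by
                simp only [mul_assoc, huu, mul_one]
            _ = c * c * u := by rw [this]
        rcases hcsq c hc with h2 | h2
        · left; rw [h1, h2, one_mul]
        · right; rw [h1, h2]
      refine ⟨zz a 2, u, ?_, h.z_ne_one, h.z_sq, hu2, hu1, huz, fun s => ?_⟩
      · rw [Subgroup.mem_center_iff]
        intro s
        exact h.z_comm s
      · by_cases hs : s ∈ Subgroup.zpowers a
        · exact hcu s hs
        · -- `s * u` centralizes `a`
          have hsa : s * a * s⁻¹ = a⁻¹ := by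
            obtain ⟨k, hk⟩ := h.conj_exists s
            have hk4 : a ^ k = a ^ (k % 4) := by
              have := zpow_mod_orderOf a k
              rw [hord] at this
              rw [← this]
              norm_num
            have hlt : 0 ≤ k % 4 ∧ k % 4 < 4 :=
              ⟨Int.emod_nonneg _ (by norm_num), Int.emod_lt_of_pos _ (by norm_num)⟩
            have hcases : k % 4 = 0 ∨ k % 4 = 1 ∨ k % 4 = 2 ∨ k % 4 = 3 := by omega
            rw [hk4] at hk
            rcases hcases with h0 | h0 | h0 | h0
            · exfalso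
              rw [h0, zpow_zero, conj_eq_one_iff] at hk
              rw [hk, orderOf_one] at hord
              omega
            · exfalso
              rw [h0, zpow_one] at hk
              exact hs (h.mem_of_conj s hk)
            · exfalso
              rw [h0] at hk
              have h2 : a ^ (2 : ℤ) = zz a 2 := by rw [hz]; norm_cast
              rw [h2] at hk
              have h3 : a = s⁻¹ * zz a 2 * s := by
                rw [← hk]; group
              have h4 : s⁻¹ * zz a 2 * s = zz a 2 := by
                have := h.z_conj s⁻¹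
                rw [inv_inv] at this
                exact this
              rw [h4] at h3
              have h5 : a ^ 2 = 1 := by
                have := h.z_sq
                rw [← h3] at this
                exact this
              have := orderOf_dvd_of_pow_eq_one h5
              rw [hord] at this
              omega
            · rw [hk, h0, eq_inv_iff_mul_eq_one]
              have : a ^ (3 : ℤ) = a ^ 3 := by norm_cast
              rw [this, ← pow_succ]
              exact ha4
          have hsu : s * u ∈ Subgroup.zpowers a := by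
            apply h.mem_of_conj
            have h1 : s * u * a * (s * u)⁻¹ = s * (u * a * u⁻¹) * s⁻¹ := by group
            rw [h1, hua, ← conj_inv, hsa, inv_inv]
          have h2 : s * u * s⁻¹ = (s * u) * u * (s * u)⁻¹ := by group
          rw [h2]
          exact hcu _ hsu

end Cfsg.Agent.S0519
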