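import Mathlib
import Cfsg.Statements.S0520
import Cfsg.Agent.Lib.Helper33_Alperin

set_option autoImplicit false
open Cfsg

namespace Cfsg.Agent.S0520

open Cfsg.Agent.Lib.Helper33_Conj Cfsg.Agent.Lib.Helper33_Alperin

/-! ### Klein four-groups -/

theorem kleinFour_of_mulEquiv {U V : Type*} [Group U] [Group V] (e : U ≃* V) (h : IsKleinFour U) :
    IsKleinFour V :=
  ⟨by rw [← Nat.card_congr e.toEquiv]; exact h.card_four,
   by rw [← Monoid.exponent_eq_of_mulEquiv e]; exact h.exponent_two⟩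

theorem kleinFour_of_card_of_sq {U : Type*} [Group U] (hc : Nat.card U = 4)
    (h2 : ∀ u : U, u ^ 2 = 1) : IsKleinFour U := by
  refine ⟨hc, ?_⟩
  have h1 : Monoid.exponent U ∣ 2 := Monoid.exponent_dvd_of_forall_pow_eq_one h2
  have h3 : Monoid.exponent U ≠ 1 := by
    intro h
    rw [Monoid.exp_eq_one_iff] at h
    have : Nat.card U = 1 := Nat.card_unique
    omega
  rcases (Nat.dvd_prime Nat.prime_two).mp h1 with h | h
  · exact absurd h h3
  · exact h

theorem kleinFour_sq {G : Type*} [Group G] {U : Subgroup G} (hU : IsKleinFour U) :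
    ∀ u ∈ U, u ^ 2 = 1 := by
  intro u hu
  have := Monoid.pow_exponent_eq_one (⟨u, hu⟩ : U)
  rw [hU.exponent_two] at this
  exact congrArg Subtype.val this

theorem kleinFour_isPGroup {G : Type*} [Group G] {U : Subgroup G} (hU : IsKleinFour U) :
    IsPGroup 2 U := by
  intro x
  refine ⟨1, ?_⟩
  apply Subtype.ext
  simpa using kleinFour_sq hU x x.2

theorem kleinFour_cj {G : Type*} [Group G] {U : Subgroup G} (hU : IsKleinFour U) (g : G) :
    IsKleinFour (cj g U) :=
  kleinFour_of_mulEquiv (U.equivMapOfInjective _ (MulAut.conj g).injective) hU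

/-- A group of `2`-rank more than one contains a four-group. -/
theorem exists_four_of_not_rank' {X : Type*} [Group X] [Finite X]
    (h : ¬ Cfsg.PRankLE 2 1 X) : ∃ U : Subgroup X, IsKleinFour U := by
  unfold Cfsg.PRankLE at h
  push Not at h
  obtain ⟨A, hAc, hA2, hcard⟩ := h
  have hAp : IsPGroup 2 A := by
    intro x
    refine ⟨1, ?_⟩
    apply Subtype.ext
    simpa using hA2 x x.2
  have : Fact (Nat.Prime 2) := ⟨Nat.prime_two⟩
  obtain ⟨m, hm⟩ := IsPGroup.iff_card.mp hAp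
  have hm2 : 2 ≤ m := by
    by_contra hlt
    push Not at hlt
    have : 2 ^ m ≤ 2 ^ 1 := Nat.pow_le_pow_right (by norm_num) (by omega)
    omega
  obtain ⟨K, hK⟩ := Sylow.exists_subgroup_card_pow_prime (G := ↥A) 2 (n := 2)
    (by rw [hm]; exact pow_dvd_pow 2 hm2)
  refine ⟨K.map A.subtype, ?_⟩
  have e : K ≃* (K.map A.subtype : Subgroup X) := K.equivMapOfInjective _ A.subtype_injective
  refine kleinFour_of_mulEquiv e (kleinFour_of_card_of_sq (by rw [hK]; norm_num) ?_)
  intro u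
  apply Subtype.ext
  apply Subtype.ext
  have := hA2 (u : A) (u : A).2
  simpa using this

/-- A subgroup of `2`-rank more than one contains a four-group. -/
theorem exists_four_of_not_rank {G : Type*} [Group G] [Finite G] (Q : Subgroup G)
    (h : ¬ Cfsg.PRankLE 2 1 Q) : ∃ U : Subgroup G, U ≤ Q ∧ IsKleinFour U := by
  obtain ⟨U, hU⟩ := exists_four_of_not_rank' h
  exact ⟨U.map Q.subtype, Subgroup.map_subtype_le _,
    kleinFour_of_mulEquiv (U.equivMapOfInjective _ Q.subtype_injective) hU⟩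

/-- A subgroup containing a four-group has `2`-rank more than one. -/
theorem not_rank_of_four {G : Type*} [Group G] (Q U : Subgroup G) (hUQ : U ≤ Q)
    (hU : IsKleinFour U) : ¬ Cfsg.PRankLE 2 1 Q := by
  intro h
  have e : U.subgroupOf Q ≃* U := Subgroup.subgroupOfEquivOfLe hUQ
  have hK : IsKleinFour (U.subgroupOf Q) := kleinFour_of_mulEquiv e.symm hU
  have := h (U.subgroupOf Q) hK.isMulCommutative (fun a ha => by
    have := Monoid.pow_exponent_eq_one (⟨a, ha⟩ : U.subgroupOf Q)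
    rw [hK.exponent_two] at this
    exact congrArg Subtype.val this)
  rw [hK.card_four] at this
  norm_num at this

/-! ### The commuting graph -/

section Graph

variable {G : Type*} [Group G]

/-- Adjacency in the commuting graph of four-subgroups. -/
def Adj (A B : Subgroup G) : Prop :=
  IsKleinFour A ∧ IsKleinFour B ∧ ∀ a ∈ A, ∀ b ∈ B, a * b = b * a

/-- Connectedness in the commuting graph of four-subgroups. -/
abbrev Conn : Subgroup G → Subgroup G → Prop := Relation.ReflTransGen Adj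

theorem isFourConnected_iff :
    Cfsg.IsFourConnected G ↔
      ∀ U V : Subgroup G, IsKleinFour U → IsKleinFour V → Conn U V := Iff.rfl

theorem adj_symm {A B : Subgroup G} (h : Adj A B) : Adj B A :=
  ⟨h.2.1, h.1, fun b hb a ha => (h.2.2 a ha b hb).symm⟩

theorem conn_symm {A B : Subgroup G} (h : Conn A B) : Conn B A := by
  induction h with
  | refl => exact Relation.ReflTransGen.refl
  | tail _ hbc ih => exact Relation.ReflTransGen.head (adj_symm hbc) ih

theorem adj_cj (g : G) {A B : Subgroup G} (h : Adj A B) : Adj (cj g A) (cj g B) := by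
  refine ⟨kleinFour_cj h.1 g, kleinFour_cj h.2.1 g, ?_⟩
  intro a ha b hb
  rw [mem_cj] at ha hb
  have := h.2.2 _ ha _ hb
  calc a * b = g * ((g⁻¹ * a * g) * (g⁻¹ * b * g)) * g⁻¹ := by group
    _ = g * ((g⁻¹ * b * g) * (g⁻¹ * a * g)) * g⁻¹ := by rw [this]
    _ = b * a := by group

theorem conn_cj (g : G) {A B : Subgroup G} (h : Conn A B) : Conn (cj g A) (cj g B) :=
  Relation.ReflTransGen.lift (cj g) (fun _ _ => adj_cj g) _ _ h

/-- Four-subgroups of a four-connected subgroup `S` are connected in `G`. -/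
theorem conn_of_le (S : Subgroup G) (hS : Cfsg.IsFourConnected S) (U V : Subgroup G)
    (hUS : U ≤ S) (hVS : V ≤ S) (hU : IsKleinFour U) (hV : IsKleinFour V) : Conn U V := by
  have hU' : IsKleinFour (U.subgroupOf S) :=
    kleinFour_of_mulEquiv (Subgroup.subgroupOfEquivOfLe hUS).symm hU
  have hV' : IsKleinFour (V.subgroupOf S) :=
    kleinFour_of_mulEquiv (Subgroup.subgroupOfEquivOfLe hVS).symm hV
  have h := hS (U.subgroupOf S) (V.subgroupOf S) hU' hV'
  have h2 : Conn ((U.subgroupOf S).map S.subtype) ((V.subgroupOf S).map S.subtype) :=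
    Relation.ReflTransGen.lift (p := (Adj : Subgroup G → Subgroup G → Prop))
      (Subgroup.map S.subtype) (fun A B hAB => ?_) _ _ h
  · rwa [Subgroup.map_subgroupOf_eq_of_le hUS, Subgroup.map_subgroupOf_eq_of_le hVS] at h2
  · obtain ⟨hA, hB, hAB⟩ := hAB
    refine ⟨kleinFour_of_mulEquiv (A.equivMapOfInjective _ S.subtype_injective) hA,
      kleinFour_of_mulEquiv (B.equivMapOfInjective _ S.subtype_injective) hB, ?_⟩
    rintro _ ⟨a, ha, rfl⟩ _ ⟨b, hb, rfl⟩
    have := hAB a ha b hb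
    exact congrArg Subtype.val this

end Graph

/-! ### The `2`-generated core and the Sylow chain argument -/

section Main

variable {G : Type*} [Group G] [Finite G] (S : Sylow 2 G)

/-- The `2`-generated core `Γ_{S,2}(G)`. -/
def Gam : Subgroup G :=
  ⨆ Q : {Q : Subgroup G // Q ≤ (S : Subgroup G) ∧ ¬ Cfsg.PRankLE 2 1 Q},
    Subgroup.normalizer ((Q : Subgroup G) : Set G)

omit [Finite G] in
theorem normalizer_le_Gam (Q : Subgroup G) (hQS : Q ≤ (S : Subgroup G)) (U : Subgroup G)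
    (hUQ : U ≤ Q) (hU : IsKleinFour U) : Subgroup.normalizer (Q : Set G) ≤ Gam S :=
  le_iSup (fun Q : {Q : Subgroup G // Q ≤ (S : Subgroup G) ∧ ¬ Cfsg.PRankLE 2 1 Q} =>
    Subgroup.normalizer ((Q : Subgroup G) : Set G)) ⟨Q, hQS, not_rank_of_four Q U hUQ hU⟩

theorem normalizer_le_Gam' (y : G) (hy : y ∈ Gam S) (D : Subgroup G)
    (hD : D ≤ cj y (S : Subgroup G)) (U : Subgroup G) (hUD : U ≤ D) (hU : IsKleinFour U) :
    Subgroup.normalizer (D : Set G) ≤ Gam S := by
  have h1 : cj y⁻¹ D ≤ (S : Subgroup G) := cj_le_iff.mpr (by rwa [inv_inv])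
  have h2 := normalizer_le_Gam S _ h1 (cj y⁻¹ U) (cj_mono hUD) (kleinFour_cj hU _)
  have h3 : Subgroup.normalizer (D : Set G) =
      cj y (Subgroup.normalizer ((cj y⁻¹ D : Subgroup G) : Set G)) := by
    rw [cj_normalizer, cj_cj_inv]
  rw [h3, ← cj_of_mem hy]
  exact cj_mono h2

/-- `T` is a `Γ`-conjugate of `S`. -/
def InOrb (T : Subgroup G) : Prop := ∃ y ∈ Gam S, T = cj y (S : Subgroup G)

theorem exists_sylow_in (H : Subgroup G) :
    ∃ R : Subgroup G, R ≤ H ∧ IsPGroup 2 R ∧ ¬ 2 ∣ R.relIndex H := by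
  have : Fact (Nat.Prime 2) := ⟨Nat.prime_two⟩
  obtain ⟨R'⟩ : Nonempty (Sylow 2 H) := inferInstance
  refine ⟨(R' : Subgroup H).map H.subtype, Subgroup.map_subtype_le _, R'.2.map _, ?_⟩
  have h1 : ((R' : Subgroup H).map H.subtype).subgroupOf H = R' :=
    Subgroup.comap_map_eq_self_of_injective H.subtype_injective _
  rw [Subgroup.relIndex, h1]
  exact R'.not_dvd_index

theorem step : ∀ (n : ℕ) (T T' : Subgroup G), InOrb S T → (∃ k, T' = cj k (S : Subgroup G)) →
    (∃ U, U ≤ T ⊓ T' ∧ IsKleinFour U) →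
    Nat.card (S : Subgroup G) - Nat.card (T ⊓ T' : Subgroup G) = n → InOrb S T' := by
  have : Fact (Nat.Prime 2) := ⟨Nat.prime_two⟩
  intro n
  induction n using Nat.strong_induction_on with
  | _ n ih =>
  intro T T' hTorb hT' hU hn
  obtain ⟨y, hy, hT⟩ := hTorb
  obtain ⟨k', hT'⟩ := hT'
  obtain ⟨U, hUD, hU⟩ := hU
  have hTp : IsPGroup 2 T := hT ▸ isPGroup_cj S.2
  have hT'p : IsPGroup 2 T' := hT' ▸ isPGroup_cj S.2
  have hcardT : Nat.card T = Nat.card (S : Subgroup G) := by rw [hT, card_cj]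
  have hcardT' : Nat.card T' = Nat.card (S : Subgroup G) := by rw [hT', card_cj]
  rcases eq_or_lt_of_le (inf_le_left : T ⊓ T' ≤ T) with hDT | hDT
  · have h1 : T ≤ T' := by rw [← hDT]; exact inf_le_right
    have h2 : T = T' := Subgroup.eq_of_le_of_card_ge h1 (by rw [hcardT, hcardT'])
    rw [← h2]
    exact ⟨y, hy, hT⟩
  · have hDT' : T ⊓ T' < T' := by
      refine lt_of_le_of_ne inf_le_right ?_
      intro h
      have h1 : T' ≤ T := by rw [← h]; exact inf_le_left
      have h2 : T' = T := Subgroup.eq_of_le_of_card_ge h1 (by rw [hcardT, hcardT'])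
      apply hDT.ne
      rw [h2, inf_idem]
    set D := T ⊓ T' with hD
    have hN₁ := lt_inf_normalizer hTp hDT
    have hN₂ := lt_inf_normalizer hT'p hDT'
    have hND : Subgroup.normalizer (D : Set G) ≤ Gam S :=
      normalizer_le_Gam' S y hy D (hT ▸ inf_le_left) U hUD hU
    obtain ⟨R, hRN, hRp, hRidx⟩ := exists_sylow_in (Subgroup.normalizer (D : Set G))
    obtain ⟨m₁, hm₁, hm₁R⟩ := exists_cj_le_of_relIndex (p := 2) hRN hRp hRidx
      (inf_le_right : T ⊓ Subgroup.normalizer (D : Set G) ≤ _) (hTp.to_le inf_le_left)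
    obtain ⟨m₂, hm₂, hm₂R⟩ := exists_cj_le_of_relIndex (p := 2) hRN hRp hRidx
      (inf_le_right : T' ⊓ Subgroup.normalizer (D : Set G) ≤ _) (hT'p.to_le inf_le_left)
    obtain ⟨P, hRP⟩ := hRp.exists_le_sylow
    obtain ⟨k'', hk''⟩ := sylow_cj_eq S P
    have hcardP : Nat.card (P : Subgroup G) = Nat.card (S : Subgroup G) := by rw [hk'', card_cj]
    have hm₁D : cj m₁ D = D := mem_normalizer_iff_cj.mp hm₁
    have hm₂D : cj m₂ D = D := mem_normalizer_iff_cj.mp hm₂
    have hDS : Nat.card D < Nat.card (S : Subgroup G) := by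
      rw [← hcardT]; exact card_lt_of_lt hDT
    -- first application of the induction hypothesis
    have h1 : InOrb S (cj m₁ T) := ⟨m₁ * y, mul_mem (hND hm₁) hy, by rw [hT, cj_mul]⟩
    have hle1 : cj m₁ (T ⊓ Subgroup.normalizer (D : Set G)) ≤ cj m₁ T ⊓ (P : Subgroup G) :=
      le_inf (cj_mono inf_le_left) (hm₁R.trans hRP)
    have hcard1 : Nat.card D < Nat.card (cj m₁ T ⊓ (P : Subgroup G) : Subgroup G) :=
      calc Nat.card D < Nat.card (T ⊓ Subgroup.normalizer (D : Set G) : Subgroup G) :=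
            card_lt_of_lt hN₁
        _ = Nat.card (cj m₁ (T ⊓ Subgroup.normalizer (D : Set G))) := (card_cj _ _).symm
        _ ≤ _ := Subgroup.card_le_of_le hle1
    have hU1 : U ≤ cj m₁ T ⊓ (P : Subgroup G) := by
      have : D ≤ cj m₁ (T ⊓ Subgroup.normalizer (D : Set G)) :=
        calc D = cj m₁ D := hm₁D.symm
          _ ≤ _ := cj_mono hN₁.le
      exact hUD.trans (this.trans hle1)
    have hPorb : InOrb S (P : Subgroup G) :=
      ih _ (by omega) (cj m₁ T) (P : Subgroup G) h1 ⟨k'', hk''⟩ ⟨U, hU1, hU⟩ rfl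
    -- second application
    have hle2 : cj m₂ (T' ⊓ Subgroup.normalizer (D : Set G)) ≤ (P : Subgroup G) ⊓ cj m₂ T' :=
      le_inf (hm₂R.trans hRP) (cj_mono inf_le_left)
    have hcard2 : Nat.card D < Nat.card ((P : Subgroup G) ⊓ cj m₂ T' : Subgroup G) :=
      calc Nat.card D < Nat.card (T' ⊓ Subgroup.normalizer (D : Set G) : Subgroup G) :=
            card_lt_of_lt hN₂
        _ = Nat.card (cj m₂ (T' ⊓ Subgroup.normalizer (D : Set G))) := (card_cj _ _).symm
        _ ≤ _ := Subgroup.card_le_of_le hle2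
    have hU2 : U ≤ (P : Subgroup G) ⊓ cj m₂ T' := by
      have : D ≤ cj m₂ (T' ⊓ Subgroup.normalizer (D : Set G)) :=
        calc D = cj m₂ D := hm₂D.symm
          _ ≤ _ := cj_mono hN₂.le
      exact hUD.trans (this.trans hle2)
    have h2 : InOrb S (cj m₂ T') :=
      ih _ (by omega) (P : Subgroup G) (cj m₂ T') hPorb ⟨m₂ * k', by rw [hT', cj_mul]⟩
        ⟨U, hU2, hU⟩ rfl
    obtain ⟨z, hz, hzeq⟩ := h2
    exact ⟨m₂⁻¹ * z, mul_mem (inv_mem (hND hm₂)) hz, by rw [cj_mul, ← hzeq, cj_inv_cj]⟩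

theorem chain {U V : Subgroup G} (h : Conn U V) (hU : IsKleinFour U)
    (hT : ∃ T, InOrb S T ∧ U ≤ T) :
    ∀ k : G, V ≤ cj k (S : Subgroup G) → InOrb S (cj k (S : Subgroup G)) := by
  have : Fact (Nat.Prime 2) := ⟨Nat.prime_two⟩
  induction h with
  | refl =>
    intro k hk
    obtain ⟨T, hTorb, hUT⟩ := hT
    exact step S _ T _ hTorb ⟨k, rfl⟩ ⟨U, le_inf hUT hk, hU⟩ rfl
  | @tail W V _ hWV ih =>
    intro k hk
    have hWn : W ≤ Subgroup.normalizer (V : Set G) := fun w hw =>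
      Subgroup.centralizer_le_normalizer _
        (Subgroup.mem_centralizer_iff.mpr (fun v hv => (hWV.2.2 w hw v hv).symm))
    have hWVp : IsPGroup 2 (W ⊔ V : Subgroup G) :=
      IsPGroup.to_sup_of_normal_right' (kleinFour_isPGroup hWV.1) (kleinFour_isPGroup hWV.2.1) hWn
    obtain ⟨P, hP⟩ := hWVp.exists_le_sylow
    obtain ⟨k₁, hk₁⟩ := sylow_cj_eq S P
    have h1 : InOrb S (cj k₁ (S : Subgroup G)) := ih k₁ (by rw [← hk₁]; exact le_sup_left.trans hP)
    exact step S _ _ _ h1 ⟨k, rfl⟩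
      ⟨V, le_inf (by rw [← hk₁]; exact le_sup_right.trans hP) hk, hWV.2.1⟩ rfl

end Main

/-- Let G be a finite group of 2-rank at least 2 and S a Sylow 2-subgroup whose commuting graph of Klein four-subgroups is
connected. Then the commuting graph of Klein four-subgroups of G is disconnected if and only if the 2-generated core — the
subgroup generated by the normalizers N_G(Q) of the subgroups Q of S that contain a Klein four-group — is a proper
subgroup of G. -/
theorem result {G : Type*} [Group G] [Finite G] (h2 : ¬ Cfsg.PRankLE 2 1 G)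
    (S : Sylow 2 G) (hS : Cfsg.IsFourConnected (S : Subgroup G)) :
    ¬ Cfsg.IsFourConnected G ↔
      (⨆ Q : {Q : Subgroup G // Q ≤ (S : Subgroup G) ∧ ¬ Cfsg.PRankLE 2 1 Q},
          Subgroup.normalizer ((Q : Subgroup G) : Set G)) ≠ ⊤ := by
  have : Fact (Nat.Prime 2) := ⟨Nat.prime_two⟩
  change ¬ Cfsg.IsFourConnected G ↔ Gam S ≠ ⊤
  -- a four-group inside `S`
  obtain ⟨U₁, hU₁⟩ := exists_four_of_not_rank' h2
  obtain ⟨P₁, hP₁⟩ := (kleinFour_isPGroup hU₁).exists_le_sylow
  obtain ⟨k₁, hk₁⟩ := sylow_cj_eq S P₁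
  have hU₀S : cj k₁⁻¹ U₁ ≤ (S : Subgroup G) :=
    cj_le_iff.mpr (by rw [inv_inv, ← hk₁]; exact hP₁)
  have hU₀ : IsKleinFour (cj k₁⁻¹ U₁) := kleinFour_cj hU₁ _
  generalize cj k₁⁻¹ U₁ = U₀ at hU₀S hU₀
  -- Claim A
  have claimA : ∀ g ∈ Gam S, Conn U₀ (cj g U₀) := by
    intro g hg
    unfold Gam at hg
    refine Subgroup.iSup_induction _ (C := fun g => Conn U₀ (cj g U₀)) hg ?_ ?_ ?_
    · rintro ⟨Q, hQS, hQr⟩ x hx
      obtain ⟨W, hWQ, hW⟩ := exists_four_of_not_rank Q hQr
      have hxQ : cj x Q = Q := mem_normalizer_iff_cj.mp hx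
      have hxW : cj x W ≤ (S : Subgroup G) := by
        refine le_trans ?_ hQS
        calc cj x W ≤ cj x Q := cj_mono hWQ
          _ = Q := hxQ
      have c1 : Conn U₀ W := conn_of_le _ hS U₀ W hU₀S (hWQ.trans hQS) hU₀ hW
      have c2 : Conn U₀ (cj x W) := conn_of_le _ hS U₀ _ hU₀S hxW hU₀ (kleinFour_cj hW x)
      exact c2.trans (conn_symm (conn_cj x c1))
    · rw [cj_one]
    · intro x y hx hy
      rw [cj_mul]
      exact hx.trans (conn_cj x hy)
  -- Claim B
  have claimB : ∀ g : G, Conn U₀ (cj g U₀) → g ∈ Gam S := by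
    intro g hg
    obtain ⟨y, hy, hgy⟩ := chain S hg hU₀ ⟨S, ⟨1, one_mem _, (cj_one _).symm⟩, hU₀S⟩ g
      (cj_mono hU₀S)
    have h1 : y⁻¹ * g ∈ Subgroup.normalizer ((S : Subgroup G) : Set G) := by
      rw [mem_normalizer_iff_cj, cj_mul, hgy, cj_inv_cj]
    have h2 := normalizer_le_Gam S S le_rfl U₀ hU₀S hU₀ h1
    have h3 : g = y * (y⁻¹ * g) := by group
    rw [h3]
    exact mul_mem hy h2
  rw [not_iff_not]
  constructor
  · intro hconn
    rw [eq_top_iff]
    intro g _
    exact claimB g (hconn U₀ (cj g U₀) hU₀ (kleinFour_cj hU₀ g))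
  · intro htop
    have key : ∀ U : Subgroup G, IsKleinFour U → Conn U₀ U := by
      intro U hU
      obtain ⟨P, hP⟩ := (kleinFour_isPGroup hU).exists_le_sylow
      obtain ⟨k, hk⟩ := sylow_cj_eq S P
      have hUS : cj k⁻¹ U ≤ (S : Subgroup G) :=
        cj_le_iff.mpr (by rw [inv_inv, ← hk]; exact hP)
      have c1 : Conn U₀ (cj k⁻¹ U) := conn_of_le _ hS U₀ _ hU₀S hUS hU₀ (kleinFour_cj hU _)
      have c2 := conn_cj k c1
      rw [cj_cj_inv] at c2
      have c3 : Conn U₀ (cj k U₀) := claimA k (by rw [htop]; exact Subgroup.mem_top k)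
      exact c3.trans c2
    intro U V hU hV
    exact (conn_symm (key U hU)).trans (key V hV)

end Cfsg.Agent.S0520
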