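import Cfsg.Statements.S0522
import Cfsg.Agent.Lib.Helper22_ThompsonTrans
import Cfsg.Agent.Lib.Helper22_BGTransUp

set_option autoImplicit false
open Cfsg

namespace Cfsg.Agent.S0522

/-- Transitivity Theorem (odd-order setting). Let X be a finite group of odd order in which the normalizer of every
nontrivial p-subgroup is solvable, P a Sylow p-subgroup, and B an abelian subgroup of P, normalized by P, with
C_P(B) = B and containing an elementary abelian subgroup of order p^3. Then for every prime q ≠ p, any two q-subgroups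
that are maximal among the q-subgroups normalized by B are conjugate by an element of the centralizer of B. -/
theorem result {X : Type*} [Group X] [Finite X] (hX : Odd (Nat.card X)) (p : ℕ)
    [Fact p.Prime] (hloc : ∀ T : Subgroup X, IsPGroup p T → T ≠ ⊥ → Group.IsSolvable (Subgroup.normalizer (T : Set X)))
    (P : Sylow p X) (B : Subgroup X) (hBP : B ≤ (P : Subgroup X))
    (hBn : ∀ x ∈ (P : Subgroup X), ∀ b ∈ B, x * b * x⁻¹ ∈ B) (hBa : IsMulCommutative B)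
    (hBc : (P : Subgroup X) ⊓ Subgroup.centralizer (B : Set X) = B)
    (hB3 : ∃ E : Subgroup X, E ≤ B ∧ (∀ e ∈ E, e ^ p = 1) ∧ p ^ 3 ≤ Nat.card E)
    (q : ℕ) [Fact q.Prime] (hqp : q ≠ p) (Q₁ Q₂ : Subgroup X)
    (h₁ : IsPGroup q Q₁ ∧ B ≤ Subgroup.normalizer (Q₁ : Set X) ∧
      ∀ R : Subgroup X, IsPGroup q R → B ≤ Subgroup.normalizer (R : Set X) → Q₁ ≤ R → R = Q₁)
    (h₂ : IsPGroup q Q₂ ∧ B ≤ Subgroup.normalizer (Q₂ : Set X) ∧
      ∀ R : Subgroup X, IsPGroup q R → B ≤ Subgroup.normalizer (R : Set X) → Q₂ ≤ R → R = Q₂) :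
    ∃ c ∈ Subgroup.centralizer (B : Set X), Q₂ = Q₁.map (MulAut.conj c).toMonoidHom := by
  have hpp : p.Prime := Fact.out
  obtain ⟨E, hEB, hEp, hE3⟩ := hB3
  have hBp : IsPGroup p B := P.isPGroup'.to_le hBP
  have hBcomm : ∀ a ∈ B, ∀ b ∈ B, a * b = b * a := by
    intro a ha b hb
    exact congrArg Subtype.val (hBa.is_comm.comm (⟨a, ha⟩ : B) ⟨b, hb⟩)
  have hPB : (P : Subgroup X) ≤ Subgroup.normalizer (B : Set X) :=
    Cfsg.Agent.Lib.Helper22_BGTransUp.le_normalizer_of_conj_mem hBn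
  have hΩ := Cfsg.Agent.Lib.Helper22_InvariantCore.mem_of_mem_centralizer_of_scn p P hBP hPB hBc
  have hp2 : p ≠ 2 := by
    have h1 : 1 < Nat.card E := by
      have : 1 < p ^ 3 := Nat.one_lt_pow (by norm_num) hpp.one_lt
      omega
    have hne : E ≠ ⊥ := (Subgroup.one_lt_card_iff_ne_bot E).mp h1
    obtain ⟨e, he⟩ := Subgroup.ne_bot_iff_exists_ne_one.mp hne
    have he1 : (e : X) ≠ 1 := fun h => he (Subtype.ext h)
    have ho : orderOf (e : X) = p := orderOf_eq_prime (hEp e e.2) he1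
    have hd : p ∣ Nat.card X := by rw [← ho]; exact orderOf_dvd_natCard (e : X)
    rintro rfl
    exact (Nat.not_even_iff_odd.mpr hX) (even_iff_two_dvd.mpr hd)
  have hM₁ : Cfsg.Agent.Lib.Helper22_ThompsonTrans.Max q B Q₁ :=
    ⟨⟨h₁.1, h₁.2.1⟩, fun R hR hle => h₁.2.2 R hR.1 hR.2 hle⟩
  have hM₂ : Cfsg.Agent.Lib.Helper22_ThompsonTrans.Max q B Q₂ :=
    ⟨⟨h₂.1, h₂.2.1⟩, fun R hR hle => h₂.2.2 R hR.1 hR.2 hle⟩
  exact Cfsg.Agent.Lib.Helper22_ThompsonTrans.thompson_aux p hp2 hloc B hBp hBcomm hΩ E hEB hEp hE3 q hqp _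
    Q₁ Q₂ hM₁ hM₂ rfl

end Cfsg.Agent.S0522
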