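import Cfsg.Statements.S0534
import Cfsg.Agent.S0003
import Cfsg.Agent.Lib.Helper9_Supersolvable3
import Cfsg.Agent.Lib.Helper9_Supersolvable4

set_option autoImplicit false
open Cfsg

namespace Cfsg.Agent.S0534

open Cfsg.Agent.Lib.Helper9_Supersolvable Cfsg.Agent.Lib.Helper9_Supersolvable2
  Cfsg.Agent.Lib.Helper9_Supersolvable3 Cfsg.Agent.Lib.Helper9_Supersolvable4

universe u

theorem isSupersolvable_of_comm_aux : ∀ (n : ℕ) (A : Type u) [CommGroup A] [Finite A],
    Nat.card A = n → Cfsg.IsSupersolvable A := by
  intro n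
  induction n using Nat.strong_induction_on with
  | _ n ih =>
    intro A _ _ hcard
    rcases subsingleton_or_nontrivial A with hs | hnt
    · exact isSupersolvable_of_subsingleton
    · obtain ⟨z, hz1⟩ := exists_ne (1 : A)
      have hn : (Subgroup.zpowers z).Normal := inferInstance
      apply isSupersolvable_of_quotient_zpowers z hn
      refine ih (Nat.card (A ⧸ Subgroup.zpowers z)) ?_ (A ⧸ Subgroup.zpowers z) rfl
      rw [← hcard]
      apply card_quotient_lt
      rw [Ne, Subgroup.zpowers_eq_bot]
      exact hz1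

theorem comm_hasSubgroupOfEveryOrder {A : Type u} [CommGroup A] [Finite A] :
    Cfsg.HasSubgroupOfEveryOrder A :=
  hasSubgroupOfEveryOrder (isSupersolvable_of_comm_aux (Nat.card A) A rfl)

/-- The arithmetic: split `d ∣ n * a` as `d = m * b` with `m` a Hall divisor of `n` and `b ∣ a`. -/
theorem exists_split (n a d : ℕ) (hn : n ≠ 0) (ha : a ≠ 0) (hd : d ∣ n * a)
    (hA : ∀ p : ℕ, p.Prime → p ∣ a → p ∣ n)
    (hexp : ∀ p : ℕ, p.Prime → p ∣ n → a.factorization p + 1 = n.factorization p) :
    ∃ m b : ℕ, m ∣ n ∧ m.Coprime (n / m) ∧ b ∣ a ∧ m * b = d := by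
  have hd0 : d ≠ 0 := by
    rintro rfl
    rw [zero_dvd_iff] at hd
    exact (mul_ne_zero hn ha) hd
  classical
  set F : ℕ →₀ ℕ := n.factorization.filter (fun p => n.factorization p ≤ d.factorization p) with hF
  have hFsupp : ∀ p ∈ F.support, p.Prime := by
    intro p hp
    have : p ∈ n.factorization.support := by
      rw [hF, Finsupp.support_filter] at hp
      exact (Finset.mem_filter.1 hp).1
    rw [Nat.support_factorization] at this
    exact Nat.prime_of_mem_primeFactors this
  set m := F.prod (fun p k => p ^ k) with hm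
  have hmF : m.factorization = F := Nat.prod_pow_factorization_eq_self hFsupp
  have hm0 : m ≠ 0 := by
    rw [hm, Finsupp.prod]
    apply Finset.prod_ne_zero_iff.2
    intro p hp
    exact pow_ne_zero _ (hFsupp p hp).ne_zero
  have hFapp : ∀ p, F p = if n.factorization p ≤ d.factorization p then n.factorization p else 0 := by
    intro p
    rw [hF, Finsupp.filter_apply]
  have hmn : m ∣ n := by
    rw [← Nat.factorization_le_iff_dvd hm0 hn, hmF]
    intro p
    rw [hFapp]
    split_ifs <;> omega
  have hmd : m ∣ d := by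
    rw [← Nat.factorization_le_iff_dvd hm0 hd0, hmF]
    intro p
    rw [hFapp]
    split_ifs with h <;> omega
  have hnm0 : n / m ≠ 0 := by
    obtain ⟨k, hk⟩ := hmn
    rw [hk, Nat.mul_div_cancel_left _ (Nat.pos_of_ne_zero hm0)]
    rintro rfl
    rw [mul_zero] at hk
    exact hn hk
  have hcop : m.Coprime (n / m) := by
    rw [Nat.coprime_iff_gcd_eq_one]
    by_contra hg
    obtain ⟨p, hp, hpg⟩ := Nat.exists_prime_and_dvd hg
    have hpm : p ∣ m := hpg.trans (Nat.gcd_dvd_left _ _)
    have hpn : p ∣ n / m := hpg.trans (Nat.gcd_dvd_right _ _)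
    have h1 : 0 < m.factorization p := hp.factorization_pos_of_dvd hm0 hpm
    have h2 : 0 < (n / m).factorization p := hp.factorization_pos_of_dvd hnm0 hpn
    rw [Nat.factorization_div hmn, Finsupp.tsub_apply, hmF] at h2
    rw [hmF] at h1
    rw [hFapp] at h1 h2
    split_ifs at h1 h2 <;> omega
  obtain ⟨b, hb⟩ := hmd
  have hb0 : b ≠ 0 := by
    rintro rfl
    rw [mul_zero] at hb
    exact hd0 hb
  refine ⟨m, b, hmn, hcop, ?_, hb.symm⟩
  rw [← Nat.factorization_le_iff_dvd hb0 ha]
  intro p
  have hdle : d.factorization p ≤ n.factorization p + a.factorization p := by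
    have := (Nat.factorization_le_iff_dvd hd0 (mul_ne_zero hn ha)).2 hd p
    rwa [Nat.factorization_mul hn ha, Finsupp.add_apply] at this
  have hdb : d.factorization p = F p + b.factorization p := by
    rw [hb, Nat.factorization_mul hm0 hb0, Finsupp.add_apply, hmF]
  by_cases hp : p.Prime
  · by_cases hpn : p ∣ n
    · have h1 := hexp p hp hpn
      rw [hFapp] at hdb
      split_ifs at hdb <;> omega
    · have h1 : n.factorization p = 0 := Nat.factorization_eq_zero_of_not_dvd hpn
      have h2 : a.factorization p = 0 :=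
        Nat.factorization_eq_zero_of_not_dvd (fun h => hpn (hA p hp h))
      omega
  · have h1 : b.factorization p = 0 := Nat.factorization_eq_zero_of_not_prime _ hp
    omega

/-- Let G be a finite solvable group and A a finite abelian group such that every prime dividing the order of A divides the order of G and, for each prime p dividing the order of G, the exponent of p in the order of A is one less than its exponent in the order of G. Then G × A has a subgroup of every order dividing its order. -/
theorem result {G A : Type*} [Group G] [CommGroup A] [Finite G] [Finite A] [Group.IsSolvable G] (hA : ∀ p : ℕ, p.Prime → p ∣ Nat.card A → p ∣ Nat.card G) (hexp : ∀ p : ℕ, p.Prime → p ∣ Nat.card G → (Nat.card A).factorization p + 1 = (Nat.card G).factorization p) : Cfsg.HasSubgroupOfEveryOrder (G × A) := by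
  intro d hd
  rw [Nat.card_prod] at hd
  obtain ⟨m, b, hmn, hcop, hba, hmb⟩ := exists_split (Nat.card G) (Nat.card A) d
    Nat.card_pos.ne' Nat.card_pos.ne' hd hA hexp
  have hG : Nat.card G = m * (Nat.card G / m) := (Nat.mul_div_cancel' hmn).symm
  obtain ⟨H, hH⟩ := Cfsg.Agent.S0003.result m (Nat.card G / m) hG hcop
  obtain ⟨B, hB⟩ := comm_hasSubgroupOfEveryOrder (A := A) b hba
  refine ⟨H.prod B, ?_⟩
  rw [Nat.card_congr (Subgroup.prodEquiv H B).toEquiv, Nat.card_prod, hH, hB, hmb]

end Cfsg.Agent.S0534
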