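import Cfsg.Statements.S0535
import Cfsg.Agent.S0006

set_option autoImplicit false
open Cfsg

namespace Cfsg.Agent.S0535


theorem exists_compl {G : Type*} [Group G] [Finite G]
    (h : ∀ H : Subgroup G, H ≠ ⊥ → ∀ p : ℕ, p.Prime → p ∣ Nat.card H →
      ∃ K : Subgroup H, K ≠ ⊤ ∧ ∃ k : ℕ, K.index = p ^ k) :
    ∀ n : ℕ, ∀ H : Subgroup G, Nat.card H = n → ∀ p : ℕ, p.Prime →
      ∃ C : Subgroup G, C ≤ H ∧ C.relIndex H = p ^ (Nat.card H).factorization p := by
  intro n
  induction n using Nat.strong_induction_on with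
  | _ n ih =>
  intro H hH p hp
  by_cases hdvd : p ∣ Nat.card H
  · have hHne : H ≠ ⊥ := by
      rintro rfl
      rw [Subgroup.card_bot] at hdvd
      exact hp.one_lt.ne' (Nat.dvd_one.1 hdvd)
    obtain ⟨K, hKne, k, hk⟩ := h H hHne p hp hdvd
    obtain ⟨K', hK'⟩ : ∃ K' : Subgroup G, K' = K.map H.subtype := ⟨_, rfl⟩
    have hK'le : K' ≤ H := by rw [hK']; exact Subgroup.map_subtype_le K
    have hsub : K'.subgroupOf H = K := by
      rw [hK']
      exact Subgroup.comap_map_eq_self_of_injective (Subgroup.subtype_injective H) K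
    have hrel : K'.relIndex H = p ^ k := by
      rw [← hk, ← hsub]; rfl
    have hmul : Nat.card K' * p ^ k = Nat.card H := by
      rw [← hk, ← Subgroup.card_mul_index K, hK', Subgroup.card_subtype]
    have hk1 : p ^ k ≠ 1 := by
      rw [← hk]
      intro h1
      exact hKne (Subgroup.index_eq_one.1 h1)
    have hlt : Nat.card K' < n := by
      rw [← hH, ← hmul]
      have hpos : 0 < Nat.card K' := Nat.card_pos
      have h2 : 2 ≤ p ^ k := by
        have : 0 < p ^ k := pow_pos hp.pos k
        omega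
      nlinarith
    obtain ⟨C, hCle, hC⟩ := ih (Nat.card K') hlt K' rfl p hp
    refine ⟨C, hCle.trans hK'le, ?_⟩
    rw [← Subgroup.relIndex_mul_relIndex C K' H hCle hK'le, hC, hrel, ← hmul,
      Nat.factorization_mul Nat.card_pos.ne' (pow_ne_zero _ hp.ne_zero), Finsupp.add_apply,
      hp.factorization_pow, Finsupp.single_eq_same, pow_add]
  · refine ⟨H, le_rfl, ?_⟩
    rw [Subgroup.relIndex_self, Nat.factorization_eq_zero_of_not_dvd hdvd, pow_zero]

/-- Suppose that for every nontrivial subgroup H of a finite group and every prime p dividing the order of H there is a proper subgroup of H whose index in H is a power of p. Then the group is solvable. -/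
theorem result {G : Type*} [Group G] [Finite G] (h : ∀ H : Subgroup G, H ≠ ⊥ → ∀ p : ℕ, p.Prime → p ∣ Nat.card H → ∃ K : Subgroup H, K ≠ ⊤ ∧ ∃ k : ℕ, K.index = p ^ k) : Group.IsSolvable G := by
  apply Cfsg.Agent.S0006.result
  intro p hp
  obtain ⟨C, _, hC⟩ := exists_compl h (Nat.card (⊤ : Subgroup G)) ⊤ rfl p hp
  refine ⟨C, ?_⟩
  rw [Subgroup.relIndex_top_right, Subgroup.card_top] at hC
  exact hC

end Cfsg.Agent.S0535
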