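import Cfsg.Statements.S0537
import Cfsg.Agent.S0536

set_option autoImplicit false
open Cfsg

namespace Cfsg.Agent.S0537

variable {G : Type*} [Group G]

open Cfsg.Agent.Lib.Helper9_CLT2

/-- If `y` commutes with `x` and with all of `Q`, and `x`, `Q` generate `G`, then `y` is
central. -/
theorem commutes_all {x : G} {Q : Subgroup G} (htop : Subgroup.zpowers x ⊔ Q = ⊤) (y : G)
    (h1 : x * y = y * x) (h2 : ∀ a ∈ Q, a * y = y * a) : ∀ g : G, g * y = y * g := by
  have hle : Subgroup.zpowers x ⊔ Q ≤ Subgroup.centralizer ({y} : Set G) := by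
    apply sup_le
    · rw [Subgroup.zpowers_le, Subgroup.mem_centralizer_iff]
      intro h hh
      rw [Set.mem_singleton_iff] at hh
      rw [hh, h1]
    · intro a ha
      rw [Subgroup.mem_centralizer_iff]
      intro h hh
      rw [Set.mem_singleton_iff] at hh
      rw [hh, h2 a ha]
  intro g
  have hg : g ∈ Subgroup.centralizer ({y} : Set G) := hle (by rw [htop]; exact Subgroup.mem_top g)
  rw [Subgroup.mem_centralizer_iff] at hg
  exact (hg y rfl).symm

/-- If `x` centralizes the abelian group `Q` and they generate `G`, then `G` is abelian. -/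
theorem comm_of_centralizes {x : G} {Q : Subgroup G} (htop : Subgroup.zpowers x ⊔ Q = ⊤)
    (hQc : ∀ a ∈ Q, ∀ b ∈ Q, a * b = b * a) (h : ∀ a ∈ Q, x * a = a * x) :
    ∀ a b : G, a * b = b * a := by
  have hx : ∀ g : G, g * x = x * g := commutes_all htop x rfl (fun a ha => (h a ha).symm)
  have hQ : ∀ a ∈ Q, ∀ g : G, g * a = a * g := by
    intro a ha
    exact commutes_all htop a (h a ha) (fun b hb => hQc b hb a ha)
  intro a b
  -- `b` is central: the centralizer of `b`... use generation again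
  have hle : Subgroup.zpowers x ⊔ Q ≤ Subgroup.center G := by
    apply sup_le
    · rw [Subgroup.zpowers_le, Subgroup.mem_center_iff]
      exact hx
    · intro c hc
      rw [Subgroup.mem_center_iff]
      exact hQ c hc
  have hb : b ∈ Subgroup.center G := hle (by rw [htop]; exact Subgroup.mem_top b)
  rw [Subgroup.mem_center_iff] at hb
  exact hb a

/-- The core of the Miller–Moreno argument. -/
theorem exponent_of_core [Finite G] (x : G) (Q : Subgroup G) [hQn : Q.Normal]
    (hQc : ∀ a ∈ Q, ∀ b ∈ Q, a * b = b * a) (p q : ℕ) [hp : Fact p.Prime] [hq : Fact q.Prime]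
    (hpq : p ≠ q) (m : ℕ) (hx : orderOf x = p ^ m) (hQq : IsPGroup q Q)
    (htop : Subgroup.zpowers x ⊔ Q = ⊤)
    (hprop : ∀ H : Subgroup G, H ≠ ⊤ → ∀ a ∈ H, ∀ b ∈ H, a * b = b * a)
    (hna : ¬ ∀ a b : G, a * b = b * a) : ∀ a ∈ Q, a ^ q = 1 := by
  classical
  have hPp : IsPGroup p (Subgroup.zpowers x) :=
    IsPGroup.of_card (n := m) (by rw [Nat.card_zpowers, hx])
  -- `δ a = a⁻¹ * x * a * x⁻¹`
  let δ : G → G := fun a => a⁻¹ * (x * a * x⁻¹)
  have hδQ : ∀ a ∈ Q, δ a ∈ Q := fun a ha => Q.mul_mem (Q.inv_mem ha) (hQn.conj_mem a ha x)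
  have hδmul : ∀ a ∈ Q, ∀ b ∈ Q, δ (a * b) = δ a * δ b := by
    intro a ha b hb
    have h1 : b⁻¹ * (a⁻¹ * (x * a * x⁻¹)) = (a⁻¹ * (x * a * x⁻¹)) * b⁻¹ :=
      hQc _ (Q.inv_mem hb) _ (hδQ a ha)
    calc δ (a * b) = b⁻¹ * (a⁻¹ * (x * a * x⁻¹)) * (x * b * x⁻¹) := by
          simp only [δ]; group
      _ = (a⁻¹ * (x * a * x⁻¹)) * b⁻¹ * (x * b * x⁻¹) := by rw [h1]
      _ = δ a * δ b := by simp only [δ]; group
  have hδone : δ 1 = 1 := by simp [δ]
  have hδinv : ∀ a ∈ Q, δ a⁻¹ = (δ a)⁻¹ := by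
    intro a ha
    have h1 : δ a * δ a⁻¹ = 1 := by
      rw [← hδmul a ha a⁻¹ (Q.inv_mem ha), mul_inv_cancel, hδone]
    exact eq_inv_of_mul_eq_one_right h1
  -- the image `K` of `δ`
  let K : Subgroup G :=
    { carrier := {y | ∃ a ∈ Q, δ a = y}
      mul_mem' := by
        rintro _ _ ⟨a, ha, rfl⟩ ⟨b, hb, rfl⟩
        exact ⟨a * b, Q.mul_mem ha hb, hδmul a ha b hb⟩
      one_mem' := ⟨1, Q.one_mem, hδone⟩
      inv_mem' := by
        rintro _ ⟨a, ha, rfl⟩
        exact ⟨a⁻¹, Q.inv_mem ha, hδinv a ha⟩ }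
  have hKQ : K ≤ Q := by
    rintro _ ⟨a, ha, rfl⟩
    exact hδQ a ha
  have hKmem : ∀ a ∈ Q, δ a ∈ K := fun a ha => ⟨a, ha, rfl⟩
  -- `K` is normal in `G`
  have hKn : K.Normal := by
    apply normal_of_sup_eq_top (Subgroup.zpowers x) Q K htop
    · rintro k hk _ ⟨a, ha, rfl⟩
      obtain ⟨j, rfl⟩ := Subgroup.mem_zpowers_iff.1 hk
      refine ⟨x ^ j * a * (x ^ j)⁻¹, hQn.conj_mem a ha _, ?_⟩
      have hc : x ^ j * x = x * x ^ j := (Commute.zpow_self x j).eq
      have hc' : x⁻¹ * (x ^ j)⁻¹ = (x ^ j)⁻¹ * x⁻¹ := by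
        rw [← mul_inv_rev, ← mul_inv_rev, hc]
      simp only [δ]
      calc (x ^ j * a * (x ^ j)⁻¹)⁻¹ * (x * (x ^ j * a * (x ^ j)⁻¹) * x⁻¹)
          = x ^ j * a⁻¹ * ((x ^ j)⁻¹ * x * x ^ j) * a * ((x ^ j)⁻¹ * x⁻¹) := by group
        _ = x ^ j * a⁻¹ * x * a * (x⁻¹ * (x ^ j)⁻¹) := by
            rw [hc']
            have : (x ^ j)⁻¹ * x * x ^ j = x := by
              rw [mul_assoc, ← hc, ← mul_assoc, inv_mul_cancel, one_mul]
            rw [this]
        _ = x ^ j * (a⁻¹ * (x * a * x⁻¹)) * (x ^ j)⁻¹ := by group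
    · rintro k hk y hy
      have : k * y * k⁻¹ = y := by
        rw [hQc k hk y (hKQ hy), mul_inv_cancel_right]
      rw [this]; exact hy
  have hinfK : Subgroup.zpowers x ⊓ K = ⊥ :=
    (IsPGroup.disjoint_of_ne p q hpq _ _ hPp (hQq.to_le hKQ)).eq_bot
  have hinfQ : Subgroup.zpowers x ⊓ Q = ⊥ :=
    (IsPGroup.disjoint_of_ne p q hpq _ _ hPp hQq).eq_bot
  have hcardQ : Nat.card G = Nat.card (Subgroup.zpowers x) * Nat.card Q := by
    have := card_sup_of_inf_eq_bot (Subgroup.zpowers x) Q hinfQ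
    rw [htop] at this
    rw [← this]; exact (Subgroup.card_top).symm
  -- a normal subgroup `M ≤ Q` with `zpowers x ⊔ M = ⊤` equals `Q`
  have heqQ : ∀ M : Subgroup G, M.Normal → M ≤ Q → Subgroup.zpowers x ⊔ M = ⊤ → M = Q := by
    intro M hMn hMQ hMtop
    have hinfM : Subgroup.zpowers x ⊓ M = ⊥ :=
      (IsPGroup.disjoint_of_ne p q hpq _ _ hPp (hQq.to_le hMQ)).eq_bot
    have hcardM : Nat.card G = Nat.card (Subgroup.zpowers x) * Nat.card M := by
      have := card_sup_of_inf_eq_bot (Subgroup.zpowers x) M hinfM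
      rw [hMtop] at this
      rw [← this]; exact (Subgroup.card_top).symm
    apply Subgroup.eq_of_le_of_card_ge hMQ
    rw [hcardQ] at hcardM
    exact (Nat.eq_of_mul_eq_mul_left Nat.card_pos hcardM).le
  by_cases hPK : Subgroup.zpowers x ⊔ K = ⊤
  · -- `δ` is a bijection of `Q`, so `C_Q(x) = 1`
    have hKeq : K = Q := heqQ K hKn hKQ hPK
    let f : Q → Q := fun a => ⟨δ a, hδQ a a.2⟩
    have hfsurj : Function.Surjective f := by
      intro y
      have hy : (y : G) ∈ K := by rw [hKeq]; exact y.2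
      obtain ⟨a, ha, hay⟩ := hy
      exact ⟨⟨a, ha⟩, Subtype.ext hay⟩
    have hfinj : Function.Injective f := Finite.injective_iff_surjective.2 hfsurj
    have hfix : ∀ b ∈ Q, x * b = b * x → b = 1 := by
      intro b hb hxb
      have h1 : δ b = 1 := by
        simp only [δ]
        rw [hxb, mul_inv_cancel_right, inv_mul_cancel]
      have h2 : f ⟨b, hb⟩ = f 1 := by
        apply Subtype.ext
        change δ b = δ ((1 : Q) : G)
        rw [h1, Subgroup.coe_one, hδone]
      have := hfinj h2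
      exact congrArg Subtype.val this
    -- `Ω = {a ∈ Q | a ^ q = 1}`
    let Ω : Subgroup G :=
      { carrier := {a | a ∈ Q ∧ a ^ q = 1}
        mul_mem' := by
          rintro a b ⟨ha, ha'⟩ ⟨hb, hb'⟩
          refine ⟨Q.mul_mem ha hb, ?_⟩
          rw [(show Commute a b from hQc a ha b hb).mul_pow, ha', hb', one_mul]
        one_mem' := ⟨Q.one_mem, one_pow q⟩
        inv_mem' := by
          rintro a ⟨ha, ha'⟩
          exact ⟨Q.inv_mem ha, by rw [inv_pow, ha', inv_one]⟩ }
    have hΩQ : Ω ≤ Q := fun a ha => ha.1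
    have hΩn : Ω.Normal := by
      constructor
      rintro a ⟨ha, ha'⟩ g
      refine ⟨hQn.conj_mem a ha g, ?_⟩
      rw [conj_pow, ha', mul_one, mul_inv_cancel]
    by_contra hcon
    push Not at hcon
    obtain ⟨a₀, ha₀Q, ha₀⟩ := hcon
    have hΩne : Ω ≠ Q := by
      intro h
      have : a₀ ∈ Ω := by rw [h]; exact ha₀Q
      exact ha₀ this.2
    have hPΩ : Subgroup.zpowers x ⊔ Ω ≠ ⊤ := fun h => hΩne (heqQ Ω hΩn hΩQ h)
    have hcommΩ := hprop _ hPΩ
    -- an element of order `q` in `Q`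
    have hQnt : Nontrivial Q := by
      refine ⟨⟨⟨a₀, ha₀Q⟩, 1, ?_⟩⟩
      intro h
      have : a₀ = 1 := congrArg Subtype.val h
      rw [this, one_pow] at ha₀
      exact ha₀ rfl
    have hqdvd : q ∣ Nat.card Q := by
      obtain ⟨n, hn0, hn⟩ := hQq.nontrivial_iff_card.mp hQnt
      rw [hn]; exact dvd_pow_self _ hn0.ne'
    obtain ⟨c, hc⟩ := exists_prime_orderOf_dvd_card' q hqdvd
    have hcΩ : (c : G) ∈ Ω := by
      refine ⟨c.2, ?_⟩
      have : c ^ q = 1 := by rw [← hc]; exact pow_orderOf_eq_one c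
      exact_mod_cast congrArg Subtype.val this
    have hxc : x * (c : G) = (c : G) * x :=
      hcommΩ x (Subgroup.mem_sup_left (Subgroup.mem_zpowers x)) c (Subgroup.mem_sup_right hcΩ)
    have hc1 : (c : G) = 1 := hfix c c.2 hxc
    have : c = 1 := Subtype.ext hc1
    rw [this, orderOf_one] at hc
    exact (Fact.out : q.Prime).one_lt.ne hc
  · -- `x` commutes with every `δ a`, hence centralizes `Q`
    exfalso
    have hcommK := hprop _ hPK
    have hxδ : ∀ a ∈ Q, x * δ a = δ a * x := fun a ha =>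
      hcommK x (Subgroup.mem_sup_left (Subgroup.mem_zpowers x)) (δ a)
        (Subgroup.mem_sup_right (hKmem a ha))
    have hconj : ∀ a ∈ Q, x * a * x⁻¹ = a * δ a := by
      intro a ha
      simp only [δ]; group
    have hpow : ∀ a ∈ Q, ∀ j : ℕ, x ^ j * a * (x ^ j)⁻¹ = a * (δ a) ^ j := by
      intro a ha j
      induction j with
      | zero => simp
      | succ j ih =>
        have hxδj : x * (δ a) ^ j * x⁻¹ = (δ a) ^ j := by
          have : Commute x ((δ a) ^ j) := (show Commute x (δ a) from hxδ a ha).pow_right j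
          rw [this.eq, mul_inv_cancel_right]
        calc x ^ (j + 1) * a * (x ^ (j + 1))⁻¹ = x * (x ^ j * a * (x ^ j)⁻¹) * x⁻¹ := by
              rw [pow_succ']; group
          _ = x * (a * (δ a) ^ j) * x⁻¹ := by rw [ih]
          _ = (x * a * x⁻¹) * (x * (δ a) ^ j * x⁻¹) := by group
          _ = a * δ a * (δ a) ^ j := by rw [hconj a ha, hxδj]
          _ = a * (δ a) ^ (j + 1) := by rw [pow_succ', mul_assoc]
    have hδtriv : ∀ a ∈ Q, δ a = 1 := by
      intro a ha
      have h1 := hpow a ha (orderOf x)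
      rw [pow_orderOf_eq_one, one_mul, inv_one, mul_one] at h1
      have h2 : (δ a) ^ orderOf x = 1 := by
        have : a * (δ a) ^ orderOf x = a * 1 := by rw [mul_one]; exact h1.symm
        exact mul_left_cancel this
      have h3 : orderOf (δ a) ∣ p ^ m := by rw [← hx]; exact orderOf_dvd_of_pow_eq_one h2
      obtain ⟨i, hi⟩ := Cfsg.Agent.S0536.orderOf_eq_prime_pow_of_mem hQq (hδQ a ha)
      rw [hi] at h3
      have h4 : i = 0 := by
        by_contra hi0
        have h5 : q ∣ p ^ m := (dvd_pow_self q hi0).trans h3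
        have h6 := (Nat.prime_dvd_prime_iff_eq hq.out hp.out).1 (hq.out.dvd_of_dvd_pow h5)
        exact hpq h6.symm
      rw [h4, pow_zero, orderOf_eq_one_iff] at hi
      exact hi
    apply hna
    apply comm_of_centralizes htop hQc
    intro a ha
    have h1 := hconj a ha
    rw [hδtriv a ha, mul_one] at h1
    calc x * a = (x * a * x⁻¹) * x := by group
      _ = a * x := by rw [h1]


theorem comm_of_isMulCommutative {H : Subgroup G} (h : IsMulCommutative H) :
    ∀ a ∈ H, ∀ b ∈ H, a * b = b * a := by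
  intro a ha b hb
  have := (isMulCommutative_iff.1 h) ⟨a, ha⟩ ⟨b, hb⟩
  exact congrArg Subtype.val this

theorem isNilpotent_of_isMulCommutative {H : Type*} [Group H] (h : IsMulCommutative H) :
    Group.IsNilpotent H := by
  let _ : CommGroup H := { (inferInstance : Group H) with mul_comm := isMulCommutative_iff.1 h }
  infer_instance

/-- A finite non-abelian group in which every proper subgroup is abelian is either of prime-power order, or is generated by a cyclic Sylow p-subgroup and a normal Sylow q-subgroup that is elementary abelian, for distinct primes p and q. -/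
theorem result {G : Type*} [Group G] [Finite G] (hna : ¬ IsMulCommutative G) (h : ∀ H : Subgroup G, H ≠ ⊤ → IsMulCommutative H) : (∃ p : ℕ, p.Prime ∧ IsPGroup p G) ∨ ∃ p q : ℕ, p.Prime ∧ q.Prime ∧ p ≠ q ∧ ∃ (P : Sylow p G) (Q : Sylow q G), IsCyclic P ∧ (Q : Subgroup G).Normal ∧ Cfsg.IsElementaryAbelian q (Q : Subgroup G) ∧ (P : Subgroup G) ⊔ Q = ⊤ := by
  have hna' : ¬ ∀ a b : G, a * b = b * a := fun hc => hna (isMulCommutative_iff.2 hc)
  by_cases hnil : Group.IsNilpotent G
  · left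
    by_contra hno
    push Not at hno
    apply hna'
    obtain ⟨e⟩ := ((Group.isNilpotent_of_finite_tfae (G := G)).out 0 4).1 hnil
    have hcomp : ∀ (p : (Nat.card G).primeFactors) (P : Sylow p G),
        ∀ a ∈ (P : Subgroup G), ∀ b ∈ (P : Subgroup G), a * b = b * a := by
      intro p P
      apply comm_of_isMulCommutative
      apply h
      intro htop
      apply hno p (Nat.prime_of_mem_primeFactors p.2)
      have h1 : IsPGroup p (P : Subgroup G) := P.isPGroup'
      rw [htop] at h1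
      exact h1.of_equiv Subgroup.topEquiv
    intro a b
    obtain ⟨a', rfl⟩ := e.surjective a
    obtain ⟨b', rfl⟩ := e.surjective b
    rw [← map_mul, ← map_mul]
    congr 1
    funext p P
    apply Subtype.ext
    exact hcomp p P _ (a' p P).2 _ (b' p P).2
  · right
    have hmin : Cfsg.IsMinimalNonNilpotent G :=
      ⟨hnil, fun H hH => isNilpotent_of_isMulCommutative (h H hH)⟩
    obtain ⟨p, q, hp, hq, hpq, P, Q, hcyc, hQn, htop⟩ := Cfsg.Agent.S0536.result hmin
    refine ⟨p, q, hp, hq, hpq, P, Q, hcyc, hQn, ?_, htop⟩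
    have : Fact p.Prime := ⟨hp⟩
    have : Fact q.Prime := ⟨hq⟩
    have hQtop : (Q : Subgroup G) ≠ ⊤ := by
      intro hQt
      apply hnil
      have h1 : IsPGroup q (Q : Subgroup G) := Q.isPGroup'
      rw [hQt] at h1
      exact (h1.of_equiv Subgroup.topEquiv).isNilpotent
    have hQcomm := h _ hQtop
    refine ⟨hQcomm, ?_⟩
    obtain ⟨x, hxP⟩ := (Subgroup.isCyclic_iff_exists_zpowers_eq_top (P : Subgroup G)).1 hcyc
    obtain ⟨m, hm⟩ := IsPGroup.iff_card.1 P.isPGroup'
    have hx : orderOf x = p ^ m := by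
      rw [← Nat.card_zpowers, hxP, hm]
    have htop' : Subgroup.zpowers x ⊔ (Q : Subgroup G) = ⊤ := by rw [hxP]; exact htop
    exact exponent_of_core x (Q : Subgroup G) (comm_of_isMulCommutative hQcomm) p q hpq m hx
      Q.isPGroup' htop' (fun H hH => comm_of_isMulCommutative (h H hH)) hna'

end Cfsg.Agent.S0537
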