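import Cfsg.Statements.S0539
import Cfsg.Agent.Lib.Lead_Subnormal

set_option autoImplicit false
open Pointwise
open Cfsg

namespace Cfsg.Agent.S0539

/-- Let S be a family of subnormal subgroups of a finite group that is closed under conjugation, and S₀ a proper subfamily. Then some member of S not in S₀ normalizes the join of S₀. -/
theorem result {G : Type*} [Group G] [Finite G] (S S₀ : Set (Subgroup G)) (hS : ∀ U ∈ S, U.IsSubnormal) (hconj : ∀ U ∈ S, ∀ g : G, MulAut.conj g • U ∈ S) (h₀ : S₀ ⊂ S) : ∃ X ∈ S, X ∉ S₀ ∧ X ≤ Subgroup.normalizer ((sSup S₀ : Subgroup G) : Set G) := by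
  classical
  have hH : (sSup S₀ : Subgroup G).IsSubnormal :=
    Cfsg.Agent.Lib.Lead_Subnormal.isSubnormal_sSup fun U hU => hS U (h₀.subset hU)
  obtain ⟨n, f, hmono, hnorm, hf0, hfn⟩ := hH.exists_chain
  obtain ⟨X₀, hX₀S, hX₀⟩ := Set.exists_of_ssubset h₀
  let P : ℕ → Prop := fun i => ∃ X ∈ S, X ∉ S₀ ∧ X ≤ f i
  have hPn : P n := ⟨X₀, hX₀S, hX₀, by rw [hfn]; exact le_top⟩
  have hex : ∃ i, P i := ⟨n, hPn⟩
  obtain ⟨X, hXS, hXS₀, hXle⟩ := Nat.find_spec hex
  refine ⟨X, hXS, hXS₀, ?_⟩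
  rcases hi : Nat.find hex with _ | j
  · rw [hi, hf0] at hXle
    exact hXle.trans Subgroup.le_normalizer
  · rw [hi] at hXle
    have hnotj : ¬ P j := Nat.find_min hex (by omega)
    have hnj : f (j + 1) ≤ Subgroup.normalizer (f j : Set G) :=
      (Subgroup.normal_subgroupOf_iff_le_normalizer (hmono (Nat.le_succ j))).mp (hnorm j)
    have hHj : sSup S₀ ≤ f j := hf0 ▸ hmono (Nat.zero_le j)
    -- every x ∈ X maps S₀ into S₀
    have key : ∀ x ∈ X, ∀ Y ∈ S₀, MulAut.conj x • Y ∈ S₀ := by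
      intro x hx Y hY
      by_contra hcon
      apply hnotj
      refine ⟨MulAut.conj x • Y, hconj Y (h₀.subset hY) x, hcon, ?_⟩
      rintro _ ⟨y, hy, rfl⟩
      have hyj : y ∈ f j := hHj (le_sSup hY hy)
      have hxn := hnj (hXle hx)
      rw [Subgroup.mem_normalizer_iff] at hxn
      simpa using (hxn y).mp hyj
    have hle : ∀ x ∈ X, sSup S₀ ≤ (sSup S₀ : Subgroup G).comap (MulAut.conj x).toMonoidHom := by
      intro x hx
      refine sSup_le fun Y hY => ?_
      intro y hy
      rw [Subgroup.mem_comap]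
      have h1 : MulAut.conj x • Y ≤ sSup S₀ := le_sSup (key x hx Y hY)
      exact h1 (Subgroup.smul_mem_pointwise_smul _ _ _ hy)
    intro x hx
    rw [Subgroup.mem_normalizer_iff]
    intro y
    constructor
    · intro hy
      have := hle x hx hy
      simpa using this
    · intro hy
      have := hle x⁻¹ (X.inv_mem hx) hy
      simpa [mul_assoc] using this

end Cfsg.Agent.S0539
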