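import Cfsg.Statements.S0541
import Cfsg.Agent.Lib.Lead_Subnormal
import Cfsg.Agent.S0064

set_option autoImplicit false
open Pointwise
open Cfsg

namespace Cfsg.Agent.S0541

open Cfsg.Agent.Lib.Lead_Subnormal in
/-- every subgroup of a finite `p`-subgroup is subnormal in it -/
theorem subnIn_of_isPGroup {G : Type*} [Group G] [Finite G] (p : ℕ) [Fact p.Prime] (P X : Subgroup G)
    (hP : IsPGroup p P) (hXP : X ≤ P) : SubnIn X P := by
  rw [SubnIn.iff_isSubnormal_subgroupOf]
  refine ⟨hXP, ?_⟩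
  have hnil : Group.IsNilpotent P := hP.isNilpotent
  exact (Cfsg.Agent.S0064.result (G := P)).mp hnil _

/-- Let Z and Y be subgroups of a finite group G and p a prime. Suppose that for every g in G the subgroup generated by the conjugates of g Z g⁻¹ under Y is a p-group. Then there is a Sylow p-subgroup P of G such that Y normalizes the subgroup generated by all conjugates of Z contained in P. -/
theorem result {G : Type*} [Group G] [Finite G] (p : ℕ) [Fact p.Prime] (Z Y : Subgroup G) (h : ∀ g : G, IsPGroup p ↥(⨆ y ∈ Y, MulAut.conj (y * g) • Z)) : ∃ P : Sylow p G, Y ≤ Subgroup.normalizer ((⨆ g ∈ {g : G | MulAut.conj g • Z ≤ (P : Subgroup G)}, MulAut.conj g • Z : Subgroup G) : Set G) := by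
  classical
  open Cfsg.Agent.Lib.Lead_Subnormal in
  -- candidate families
  let ZZ : Set (Subgroup G) := {X | ∃ g : G, X = MulAut.conj g • Z}
  let CC : Set (Set (Subgroup G)) := {S₀ | S₀ ⊆ ZZ ∧ (∀ X ∈ S₀, ∀ y ∈ Y, MulAut.conj y • X ∈ S₀) ∧
    IsPGroup p (sSup S₀ : Subgroup G)}
  have hCCfin : CC.Finite := Set.toFinite _
  have hempty : (∅ : Set (Subgroup G)) ∈ CC := by
    refine ⟨Set.empty_subset _, fun X hX => absurd hX (Set.notMem_empty X), ?_⟩
    rw [sSup_empty]
    exact IsPGroup.of_bot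
  obtain ⟨S₀, -, hS₀max⟩ := hCCfin.exists_le_maximal hempty
  obtain ⟨⟨hS₀Z, hS₀Y, hS₀p⟩, hmax⟩ := hS₀max
  obtain ⟨P, hTP⟩ := hS₀p.exists_le_sylow
  refine ⟨P, ?_⟩
  -- every conjugate of Z inside P lies in S₀
  have hall : ∀ g : G, MulAut.conj g • Z ≤ (P : Subgroup G) → MulAut.conj g • Z ∈ S₀ := by
    intro g hg
    by_contra hnot
    let SS : Set (Subgroup G) := {X | X ∈ ZZ ∧ X ≤ (P : Subgroup G)}
    have hss : S₀ ⊂ SS := by
      refine ⟨fun X hX => ⟨hS₀Z hX, (le_sSup hX).trans hTP⟩, ?_⟩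
      intro hcon
      exact hnot (hcon ⟨⟨g, rfl⟩, hg⟩)
    obtain ⟨X', hX'SS, hX'S₀, hX'N⟩ := exists_le_normalizer_sSup (P : Subgroup G) SS S₀
      (fun B hB => subnIn_of_isPGroup p P B P.isPGroup' hB.2)
      (by
        rintro B ⟨⟨g₁, rfl⟩, hBP⟩ v hv
        refine ⟨⟨v * g₁, by rw [map_mul, mul_smul]⟩, ?_⟩
        rintro _ ⟨b, hb, rfl⟩
        exact (P : Subgroup G).mul_mem ((P : Subgroup G).mul_mem hv (hBP hb)) ((P : Subgroup G).inv_mem hv))
      hss
    obtain ⟨⟨g', rfl⟩, hX'P⟩ := hX'SS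
    -- Y normalizes T = sSup S₀
    have hYT : Y ≤ Subgroup.normalizer ((sSup S₀ : Subgroup G) : Set G) := fun y hy =>
      mem_normalizer_sSup y (fun X hX => hS₀Y X hX y hy) (fun X hX => hS₀Y X hX y⁻¹ (Y.inv_mem hy))
    let OO : Set (Subgroup G) := {X | ∃ y ∈ Y, X = MulAut.conj y • (MulAut.conj g' • Z)}
    have hOOp : IsPGroup p (sSup OO : Subgroup G) := by
      have heq : (sSup OO : Subgroup G) = ⨆ y ∈ Y, MulAut.conj (y * g') • Z := by
        apply le_antisymm
        · refine sSup_le ?_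
          rintro _ ⟨y, hy, rfl⟩
          rw [← mul_smul, ← map_mul]
          exact le_iSup₂_of_le y hy le_rfl
        · refine iSup₂_le fun y hy => ?_
          refine le_sSup ⟨y, hy, ?_⟩
          rw [map_mul, mul_smul]
      rw [heq]
      exact h g'
    have hOON : sSup OO ≤ Subgroup.normalizer ((sSup S₀ : Subgroup G) : Set G) := by
      refine sSup_le ?_
      rintro _ ⟨y, hy, rfl⟩
      rintro _ ⟨x, hx, rfl⟩
      have hxN := hX'N hx
      have hyN := hYT hy
      exact Subgroup.mul_mem _ (Subgroup.mul_mem _ hyN hxN) (Subgroup.inv_mem _ hyN)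
    have hS₁ : S₀ ∪ OO ∈ CC := by
      refine ⟨Set.union_subset hS₀Z ?_, ?_, ?_⟩
      · rintro _ ⟨y, hy, rfl⟩
        exact ⟨y * g', by rw [map_mul, mul_smul]⟩
      · rintro X (hX | ⟨y', hy', rfl⟩) y hy
        · exact Or.inl (hS₀Y X hX y hy)
        · exact Or.inr ⟨y * y', Y.mul_mem hy hy', by rw [map_mul, mul_smul]⟩
      · rw [sSup_union]
        exact IsPGroup.to_sup_of_normal_left' hS₀p hOOp hOON
    have hsub := hmax hS₁ Set.subset_union_left
    apply hX'S₀
    apply hsub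
    exact Or.inr ⟨1, Y.one_mem, by simp⟩
  -- the weak closure equals sSup S₀
  have hW : (⨆ g ∈ {g : G | MulAut.conj g • Z ≤ (P : Subgroup G)}, MulAut.conj g • Z : Subgroup G)
      = sSup S₀ := by
    apply le_antisymm
    · exact iSup₂_le fun g hg => le_sSup (hall g hg)
    · refine sSup_le fun X hX => ?_
      obtain ⟨g, rfl⟩ := hS₀Z hX
      exact le_iSup₂_of_le g ((le_sSup hX).trans hTP) le_rfl
  rw [hW]
  exact fun y hy =>
    mem_normalizer_sSup y (fun X hX => hS₀Y X hX y hy) (fun X hX => hS₀Y X hX y⁻¹ (Y.inv_mem hy))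

end Cfsg.Agent.S0541
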