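import Cfsg.Statements.S0546
import Cfsg.Agent.S0545

set_option autoImplicit false
open Cfsg
open Pointwise
open scoped commutatorElement

namespace Cfsg.Agent.S0546


/-- In a group in which all elements commute, every system normalizer is the whole group. -/
theorem systemNormalizer_eq_top_of_comm {H : Type*} [Group H] (hcomm : ∀ a b : H, a * b = b * a)
    (K : Nat.Primes → Subgroup H) : Cfsg.systemNormalizer K = ⊤ := by
  rw [eq_top_iff]
  intro x _
  apply Subgroup.mem_iInf.2
  intro p
  rw [Subgroup.mem_normalizer_iff]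
  intro h
  rw [hcomm x h, mul_inv_cancel_right]

/-- The normal closure of a system normalizer of a finite solvable group is the whole group. -/
theorem result {G : Type*} [Group G] [Finite G] [Group.IsSolvable G] (K : Nat.Primes → Subgroup G) (hK : Cfsg.IsComplementSystem K) : Subgroup.normalClosure ((Cfsg.systemNormalizer K : Subgroup G) : Set G) = ⊤ := by
  classical
  by_contra hne
  obtain ⟨M, hM⟩ : ∃ M : Subgroup G, M = Subgroup.normalClosure
    ((Cfsg.systemNormalizer K : Subgroup G) : Set G) := ⟨_, rfl⟩
  rw [← hM] at hne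
  have hMn : M.Normal := by rw [hM]; exact Subgroup.normalClosure_normal
  have hDM : Cfsg.systemNormalizer K ≤ M := by
    rw [hM]; exact Subgroup.subset_normalClosure
  -- `G ⧸ M` is nontrivial and solvable
  have hnt : Nontrivial (G ⧸ M) := by
    rw [← not_subsingleton_iff_nontrivial]
    intro hs
    exact hne (QuotientGroup.subgroup_eq_top_of_subsingleton M hs)
  have hsol : Group.IsSolvable (G ⧸ M) :=
    Group.isSolvable_of_surjective (QuotientGroup.mk'_surjective M)
  have hlt : commutator (G ⧸ M) < ⊤ :=
    Group.IsSolvable.commutator_lt_top_of_nontrivial (G ⧸ M)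
  obtain ⟨L, hL⟩ : ∃ L : Subgroup G, L = (commutator (G ⧸ M)).comap (QuotientGroup.mk' M) :=
    ⟨_, rfl⟩
  have hLn : L.Normal := by rw [hL]; infer_instance
  have hML : M ≤ L := by
    rw [hL]
    intro x hx
    rw [Subgroup.mem_comap]
    have : QuotientGroup.mk' M x = 1 := (QuotientGroup.eq_one_iff x).2 hx
    rw [this]
    exact Subgroup.one_mem _
  have hLne : L ≠ ⊤ := by
    intro hLt
    apply hlt.ne
    rw [eq_top_iff]
    intro y _
    obtain ⟨x, rfl⟩ := QuotientGroup.mk'_surjective M y
    have : x ∈ L := by rw [hLt]; exact Subgroup.mem_top x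
    rw [hL] at this
    exact this
  -- all elements of `G ⧸ L` commute
  have hcomm : ∀ a b : G ⧸ L, a * b = b * a := by
    intro a b
    obtain ⟨x, rfl⟩ := QuotientGroup.mk'_surjective L a
    obtain ⟨y, rfl⟩ := QuotientGroup.mk'_surjective L b
    have hxy : ⁅x, y⁆ ∈ L := by
      rw [hL, Subgroup.mem_comap, map_commutatorElement]
      exact Subgroup.commutator_mem_commutator (Subgroup.mem_top _) (Subgroup.mem_top _)
    have h1 : QuotientGroup.mk' L ⁅x, y⁆ = 1 := (QuotientGroup.eq_one_iff _).2 hxy
    rw [map_commutatorElement, commutatorElement_eq_one_iff_mul_comm] at h1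
    exact h1
  have h2 := (Cfsg.Agent.S0545.result K hK L).2
  rw [systemNormalizer_eq_top_of_comm hcomm] at h2
  have h3 : (Cfsg.systemNormalizer K).map (QuotientGroup.mk' L) = ⊥ := by
    rw [eq_bot_iff]
    rintro _ ⟨d, hd, rfl⟩
    rw [Subgroup.mem_bot]
    exact (QuotientGroup.eq_one_iff d).2 (hML (hDM hd))
  rw [h3] at h2
  apply hLne
  rw [eq_top_iff]
  intro x _
  have : QuotientGroup.mk' L x ∈ (⊤ : Subgroup (G ⧸ L)) := Subgroup.mem_top _
  rw [h2, Subgroup.mem_bot] at this
  exact (QuotientGroup.eq_one_iff x).1 this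

end Cfsg.Agent.S0546
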