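import Cfsg.Statements.S3680
import Cfsg.Agent.Lib.Helper61_MinNormal

set_option autoImplicit false
open Cfsg

namespace Cfsg.Agent.S3680

open Cfsg.Agent.Lib.Helper61_MinNormal MulAction

section Lemmas

variable {G Ω : Type*} [Group G] [MulAction G Ω]

/-- minimal normal subgroups -/
def IsMinNormal (V : Subgroup G) : Prop :=
  V.Normal ∧ V ≠ ⊥ ∧ ∀ M : Subgroup G, M.Normal → M ≤ V → M = ⊥ ∨ M = V

/-- In a faithful primitive action every nontrivial normal subgroup is transitive. -/
theorem isPretransitive_of_normal_ne_bot [FaithfulSMul G Ω] (hprim : IsPreprimitive G Ω)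
    (V : Subgroup G) (hVn : V.Normal) (hV : V ≠ ⊥) : IsPretransitive V Ω := by
  apply IsQuasiPreprimitive.isPretransitive_of_normal (G := G)
  intro h
  apply hV
  rw [eq_bot_iff]
  intro x hx
  rw [Subgroup.mem_bot]
  apply FaithfulSMul.eq_of_smul_eq_smul (α := Ω)
  intro c
  have hc : c ∈ fixedPoints V Ω := by rw [h]; trivial
  rw [one_smul]
  exact hc ⟨x, hx⟩

/-- The centralizer of a transitive subgroup acts semiregularly. -/
theorem eq_one_of_mem_centralizer_of_fixed [FaithfulSMul G Ω] (V : Subgroup G)
    (hVt : IsPretransitive V Ω) (c : G) (hc : c ∈ Subgroup.centralizer (V : Set G)) (ω : Ω)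
    (hω : c • ω = ω) : c = 1 := by
  apply FaithfulSMul.eq_of_smul_eq_smul (α := Ω)
  intro ω'
  obtain ⟨v, hv⟩ := hVt.exists_smul_eq ω ω'
  have hv' : (v : G) • ω = ω' := hv
  rw [one_smul, ← hv', ← mul_smul]
  rw [Subgroup.mem_centralizer_iff] at hc
  rw [← hc (v : G) v.2, mul_smul, hω]

/-- A transitive subgroup of the centralizer of a transitive subgroup is the whole centralizer. -/
theorem centralizer_eq_of_transitive [FaithfulSMul G Ω] (V W : Subgroup G)
    (hVt : IsPretransitive V Ω) (hWt : IsPretransitive W Ω)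
    (hWV : W ≤ Subgroup.centralizer (V : Set G)) (ω : Ω) :
    Subgroup.centralizer (V : Set G) = W := by
  apply le_antisymm _ hWV
  intro c hc
  obtain ⟨w, hw⟩ := hWt.exists_smul_eq ω (c • ω)
  have hw' : (w : G) • ω = c • ω := hw
  have h1 : (w : G)⁻¹ * c ∈ Subgroup.centralizer (V : Set G) :=
    Subgroup.mul_mem _ (Subgroup.inv_mem _ (hWV w.2)) hc
  have h2 : ((w : G)⁻¹ * c) • ω = ω := by
    rw [mul_smul, ← hw', inv_smul_smul]
  have h3 := eq_one_of_mem_centralizer_of_fixed V hVt _ h1 ω h2
  have : c = (w : G) := by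
    rw [inv_mul_eq_one] at h3
    exact h3.symm
  rw [this]; exact w.2

/-- Distinct minimal normal subgroups centralize each other. -/
theorem le_centralizer_of_ne {V V' : Subgroup G} (hV : IsMinNormal V) (hV' : IsMinNormal V')
    (hne : V ≠ V') : V' ≤ Subgroup.centralizer (V : Set G) := by
  have hn : (V ⊓ V').Normal := @Subgroup.normal_inf_normal _ _ V V' hV.1 hV'.1
  have hdisj : Disjoint V V' := by
    rw [disjoint_iff]
    rcases hV.2.2 _ hn inf_le_left with h | h
    · exact h
    · exfalso
      have hle : V ≤ V' := by rw [← h]; exact inf_le_right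
      rcases hV'.2.2 V hV.1 hle with h' | h'
      · exact hV.2.1 h'
      · exact hne h'
  intro x hx
  rw [Subgroup.mem_centralizer_iff]
  intro v hv
  exact (Subgroup.commute_of_normal_of_disjoint V V' hV.1 hV'.1 hdisj v x hv hx).eq

/-- A regular subgroup has as many elements as points. -/
theorem card_eq_of_regular (V : Subgroup G) (hVt : IsPretransitive V Ω) (ω : Ω)
    (hsemi : ∀ v : V, v • ω = ω → v = 1) : Nat.card V = Nat.card Ω := by
  have hstab : stabilizer V ω = ⊥ := by
    rw [eq_bot_iff]
    intro v hv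
    rw [Subgroup.mem_bot]
    exact hsemi v hv
  rw [← index_stabilizer_of_transitive V ω, hstab, Subgroup.index_bot]

/-- Two commuting regular subgroups are isomorphic. -/
theorem nonempty_mulEquiv_of_regular [Finite G] (V W : Subgroup G) (hVt : IsPretransitive V Ω)
    (hWt : IsPretransitive W Ω) (hWV : W ≤ Subgroup.centralizer (V : Set G)) (ω : Ω)
    (hVs : ∀ v : V, v • ω = ω → v = 1) (hWs : ∀ w : W, w • ω = ω → w = 1) :
    Nonempty (V ≃* W) := by
  classical
  have hex : ∀ v : V, ∃ w : W, w • ω = v • ω := fun v => hWt.exists_smul_eq ω (v • ω)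
  choose θ hθ using hex
  -- uniqueness
  have huniq : ∀ w w' : W, w • ω = w' • ω → w = w' := by
    intro w w' h
    have : (w'⁻¹ * w) • ω = ω := by rw [mul_smul, h, inv_smul_smul]
    have := hWs _ this
    rw [inv_mul_eq_one] at this
    exact this.symm
  have hcomm : ∀ (v : V) (w : W), (v : G) • ((w : G) • ω) = (w : G) • ((v : G) • ω) := by
    intro v w
    have := hWV w.2
    rw [Subgroup.mem_centralizer_iff] at this
    rw [← mul_smul, ← mul_smul, this (v : G) v.2]
  have hθ' : ∀ v : V, ((θ v : W) : G) • ω = (v : G) • ω := fun v => hθ v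
  have hmul : ∀ v₁ v₂ : V, θ (v₁ * v₂) = θ v₂ * θ v₁ := by
    intro v₁ v₂
    apply huniq
    show ((θ (v₁ * v₂) : W) : G) • ω = ((θ v₂ * θ v₁ : W) : G) • ω
    rw [hθ', Subgroup.coe_mul, Subgroup.coe_mul, mul_smul, mul_smul, hθ' v₁, ← hcomm, hθ' v₂]
  let ψ : V →* W :=
    { toFun := fun v => (θ v)⁻¹
      map_one' := by
        have : θ 1 = 1 := by
          apply huniq
          rw [hθ, one_smul, one_smul]
        rw [this, inv_one]
      map_mul' := fun v₁ v₂ => by rw [hmul, mul_inv_rev] }
  have hinj : Function.Injective ψ := by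
    rw [injective_iff_map_eq_one]
    intro v hv
    have h1 : θ v = 1 := by
      have : (θ v)⁻¹ = 1 := hv
      exact inv_eq_one.mp this
    apply hVs
    rw [← hθ v, h1, one_smul]
  have hcard : Nat.card V = Nat.card W := by
    rw [card_eq_of_regular V hVt ω hVs, card_eq_of_regular W hWt ω hWs]
  have hbij : Function.Bijective ψ := by
    rw [Nat.bijective_iff_injective_and_card]
    exact ⟨hinj, hcard⟩
  exact ⟨MulEquiv.ofBijective ψ hbij⟩

end Lemmas

/-- `(Fin a → T) × (Fin b → T) ≃* (Fin (a + b) → T)` -/
def finAddMulEquiv (a b : ℕ) (T : Type*) [Group T] :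
    ((Fin a → T) × (Fin b → T)) ≃* (Fin (a + b) → T) where
  toFun p := Fin.append p.1 p.2
  invFun f := (fun i => f (Fin.castAdd b i), fun i => f (Fin.natAdd a i))
  left_inv p := by
    ext i <;> simp
  right_inv f := by
    funext i
    refine Fin.addCases (fun i => ?_) (fun i => ?_) i <;> simp
  map_mul' p q := by
    funext i
    refine Fin.addCases (fun i => ?_) (fun i => ?_) i <;> simp

section Main

variable {G Ω : Type*} [Group G] [MulAction G Ω]

theorem exists_isMinNormal [Finite G] [Nontrivial G] : ∃ V : Subgroup G, IsMinNormal V := by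
  classical
  have hex : ∃ n : ℕ, ∃ T : Subgroup G, T.Normal ∧ T ≠ ⊥ ∧ Nat.card T = n :=
    ⟨_, ⊤, inferInstance, top_ne_bot, rfl⟩
  obtain ⟨T, hTn, hTne, hTcard⟩ := Nat.find_spec hex
  refine ⟨T, hTn, hTne, ?_⟩
  intro L hL hLT
  by_cases hLne : L = ⊥
  · exact Or.inl hLne
  · right
    apply Subgroup.eq_of_le_of_card_ge hLT
    by_contra hlt
    push Not at hlt
    rw [hTcard] at hlt
    exact Nat.find_min hex hlt ⟨L, hL, hLne, rfl⟩

theorem disjoint_of_ne {V V' : Subgroup G} (hV : IsMinNormal V) (hV' : IsMinNormal V')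
    (hne : V ≠ V') : Disjoint V V' := by
  have hn : (V ⊓ V').Normal := @Subgroup.normal_inf_normal _ _ V V' hV.1 hV'.1
  rw [disjoint_iff]
  rcases hV.2.2 _ hn inf_le_left with h | h
  · exact h
  · exfalso
    have hle : V ≤ V' := by rw [← h]; exact inf_le_right
    rcases hV'.2.2 V hV.1 hle with h' | h'
    · exact hV.2.1 h'
    · exact hne h'

theorem not_comm_of_mulEquiv_pi {V T : Type*} [Group V] [Group T] {m : ℕ}
    (e : V ≃* (Fin m → T)) (hV : ¬ IsMulCommutative V) : ¬ IsMulCommutative T := by
  intro hT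
  apply hV
  rw [isMulCommutative_iff] at hT ⊢
  intro a b
  apply e.injective
  rw [map_mul, map_mul]
  funext i
  exact hT _ _

end Main

/-- The socle of a finite primitive permutation group. Let a finite group G act faithfully and primitively on a set Ω, and let N be the subgroup generated by the minimal normal subgroups of G. Then either N is an elementary abelian p-group for some prime p and acts regularly on Ω (transitively with trivial point stabilizers), or N is isomorphic to a direct product of m ≥ 1 copies of a non-abelian simple group. -/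
theorem result {G Ω : Type*} [Group G] [Finite G] [MulAction G Ω] [FaithfulSMul G Ω] [Finite Ω]
    (hprim : MulAction.IsPreprimitive G Ω) (N : Subgroup G)
    (hN : N = sSup {V : Subgroup G | V.Normal ∧ V ≠ ⊥ ∧ ∀ M : Subgroup G, M.Normal → M ≤ V → M = ⊥ ∨ M = V}) :
    (∃ p : ℕ, p.Prime ∧ IsMulCommutative N ∧ (∀ x : N, x ^ p = 1) ∧
      MulAction.IsPretransitive N Ω ∧ ∀ ω : Ω, MulAction.stabilizer N ω = ⊥) ∨
    (∃ (T : Type) (_ : Group T) (m : ℕ), 1 ≤ m ∧ IsSimpleGroup T ∧ ¬ IsMulCommutative T ∧ Nonempty (N ≃* (Fin m → T))) := by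
  classical
  set 𝓜 : Set (Subgroup G) := {V | IsMinNormal V} with h𝓜
  have hN' : N = sSup 𝓜 := hN
  clear hN
  by_cases hnt : Nontrivial G
  swap
  · -- G is trivial
    rw [not_nontrivial_iff_subsingleton] at hnt
    left
    refine ⟨2, Nat.prime_two, ?_, ?_, ?_, ?_⟩
    · rw [isMulCommutative_iff]
      intro a b
      exact Subsingleton.elim _ _
    · intro x; exact Subsingleton.elim _ _
    · constructor
      intro ω ω'
      obtain ⟨g, hg⟩ := hprim.toIsPretransitive.exists_smul_eq ω ω'
      refine ⟨1, ?_⟩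
      rw [one_smul, ← hg, Subsingleton.elim g 1, one_smul]
    · intro ω
      rw [eq_bot_iff]
      intro x _
      rw [Subgroup.mem_bot]
      exact Subsingleton.elim _ _
  -- Ω is nonempty
  have hΩ : Nonempty Ω := by
    by_contra hemp
    rw [not_nonempty_iff] at hemp
    obtain ⟨g, hg⟩ := exists_ne (1 : G)
    apply hg
    apply FaithfulSMul.eq_of_smul_eq_smul (α := Ω)
    intro c
    exact hemp.elim c
  obtain ⟨ω⟩ := hΩ
  -- basic facts for members of 𝓜
  have htrans : ∀ V ∈ 𝓜, IsPretransitive V Ω := fun V hV =>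
    isPretransitive_of_normal_ne_bot hprim V hV.1 hV.2.1
  -- uniqueness in the presence of an abelian minimal normal subgroup
  by_cases hab : ∃ W ∈ 𝓜, IsMulCommutative W
  · obtain ⟨W, hW, hWab⟩ := hab
    left
    have hWt := htrans W hW
    have hWC : W ≤ Subgroup.centralizer (W : Set G) := by
      intro x hx
      rw [Subgroup.mem_centralizer_iff]
      intro y hy
      have := (isMulCommutative_iff.mp hWab) ⟨y, hy⟩ ⟨x, hx⟩
      exact congrArg Subtype.val this
    have hC : Subgroup.centralizer (W : Set G) = W :=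
      centralizer_eq_of_transitive W W hWt hWt hWC ω
    have huniq : ∀ W' ∈ 𝓜, W' = W := by
      intro W' hW'
      by_contra hne
      have h1 : W' ≤ W := by
        rw [← hC]
        exact le_centralizer_of_ne hW hW' (Ne.symm hne)
      rcases hW.2.2 W' hW'.1 h1 with h | h
      · exact hW'.2.1 h
      · exact hne h
    have h𝓜W : 𝓜 = {W} := by
      ext X
      constructor
      · intro hX; exact huniq X hX
      · intro hX; rw [Set.mem_singleton_iff.mp hX]; exact hW
    have hNW : N = W := by rw [hN', h𝓜W, sSup_singleton]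
    subst hNW
    -- a prime dividing |N|
    have hntN : Nontrivial N := (Subgroup.nontrivial_iff_ne_bot N).mpr hW.2.1
    have hcard : 1 < Nat.card N := Finite.one_lt_card
    obtain ⟨p, hp, hpd⟩ := Nat.exists_prime_and_dvd (ne_of_gt hcard)
    have : Fact p.Prime := ⟨hp⟩
    obtain ⟨x₀, hx₀⟩ := exists_prime_orderOf_dvd_card' (G := N) p hpd
    -- the subgroup of elements of order dividing p
    let L : Subgroup G :=
      { carrier := {x | x ∈ N ∧ x ^ p = 1}
        one_mem' := ⟨N.one_mem, one_pow p⟩
        mul_mem' := by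
          rintro a b ⟨ha, hap⟩ ⟨hb, hbp⟩
          refine ⟨N.mul_mem ha hb, ?_⟩
          have hcomm : Commute a b := by
            have := (isMulCommutative_iff.mp hWab) ⟨a, ha⟩ ⟨b, hb⟩
            exact congrArg Subtype.val this
          rw [hcomm.mul_pow, hap, hbp, one_mul]
        inv_mem' := by
          rintro a ⟨ha, hap⟩
          exact ⟨N.inv_mem ha, by rw [inv_pow, hap, inv_one]⟩ }
    have hLn : L.Normal := by
      constructor
      rintro a ⟨ha, hap⟩ g
      exact ⟨hW.1.conj_mem a ha g, by rw [conj_pow, hap, mul_one, mul_inv_cancel]⟩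
    have hLN : L ≤ N := fun a ha => ha.1
    have hLne : L ≠ ⊥ := by
      intro h
      have hx₀L : (x₀ : G) ∈ L := by
        refine ⟨x₀.2, ?_⟩
        have : x₀ ^ p = 1 := by rw [← hx₀]; exact pow_orderOf_eq_one x₀
        have := congrArg Subtype.val this
        simpa using this
      rw [h, Subgroup.mem_bot] at hx₀L
      have : x₀ = 1 := Subtype.ext hx₀L
      rw [this, orderOf_one] at hx₀
      exact hp.one_lt.ne' hx₀.symm
    have hLeq : L = N := by
      rcases hW.2.2 L hLn hLN with h | h
      · exact absurd h hLne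
      · exact h
    refine ⟨p, hp, hWab, ?_, hWt, ?_⟩
    · intro x
      have hx : (x : G) ∈ L := by rw [hLeq]; exact x.2
      apply Subtype.ext
      rw [Subgroup.coe_pow]
      exact hx.2
    · intro ω'
      rw [eq_bot_iff]
      intro v hv
      rw [Subgroup.mem_bot]
      apply Subtype.ext
      exact eq_one_of_mem_centralizer_of_fixed N hWt (v : G) (hWC v.2) ω' hv
  · -- all minimal normal subgroups are non-abelian
    right
    push Not at hab
    obtain ⟨V, hV⟩ := exists_isMinNormal (G := G)
    have hV𝓜 : V ∈ 𝓜 := hV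
    have hVt := htrans V hV
    have hVna : ¬ IsMulCommutative V := hab V hV
    have hVnorm : V.Normal := hV.1
    obtain ⟨T, hTG, m, hTs, hm, ⟨eV⟩⟩ := minNormal_simple_pow V hV.2.1 hV.2.2
    have hTna : ¬ IsMulCommutative T := not_comm_of_mulEquiv_pi eV hVna
    by_cases h2 : ∃ V' ∈ 𝓜, V' ≠ V
    · obtain ⟨V', hV', hne⟩ := h2
      have hV't := htrans V' hV'
      have hV'C : V' ≤ Subgroup.centralizer (V : Set G) :=
        le_centralizer_of_ne hV hV' (Ne.symm hne)
      have hVC' : V ≤ Subgroup.centralizer (V' : Set G) :=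
        le_centralizer_of_ne hV' hV hne
      have hC : Subgroup.centralizer (V : Set G) = V' :=
        centralizer_eq_of_transitive V V' hVt hV't hV'C ω
      have h𝓜 : 𝓜 = {V, V'} := by
        ext X
        constructor
        · intro hX
          by_cases hXV : X = V
          · rw [hXV]; exact Set.mem_insert _ _
          · right
            rw [Set.mem_singleton_iff]
            have h1 : X ≤ V' := by
              rw [← hC]
              exact le_centralizer_of_ne hV hX (Ne.symm hXV)
            rcases hV'.2.2 X hX.1 h1 with h | h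
            · exact absurd h hX.2.1
            · exact h
        · intro hX
          rcases hX with rfl | hX
          · exact hV
          · rw [Set.mem_singleton_iff.mp hX]; exact hV'
      have hNsup : N = V ⊔ V' := by
        rw [hN', h𝓜, sSup_insert, sSup_singleton]
      have hdisj : Disjoint V V' := disjoint_of_ne hV hV' (Ne.symm hne)
      have hVs : ∀ v : V, v • ω = ω → v = 1 := by
        intro v hv
        apply Subtype.ext
        exact eq_one_of_mem_centralizer_of_fixed V' hV't (v : G) (hVC' v.2) ω hv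
      have hV's : ∀ v : V', v • ω = ω → v = 1 := by
        intro v hv
        apply Subtype.ext
        exact eq_one_of_mem_centralizer_of_fixed V hVt (v : G) (hV'C v.2) ω hv
      obtain ⟨eVV'⟩ := nonempty_mulEquiv_of_regular V V' hVt hV't hV'C ω hVs hV's
      refine ⟨T, hTG, m + m, by omega, hTs, hTna, ⟨?_⟩⟩
      have e1 : N ≃* ↥(V ⊔ V') := MulEquiv.subgroupCongr hNsup
      have e2 : ↥(V ⊔ V') ≃* (V × V') := (prodEquivSup V V' hV.1 hV'.1 hdisj).symm
      have e3 : (V × V') ≃* ((Fin m → T) × (Fin m → T)) :=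
        MulEquiv.prodCongr eV (eVV'.symm.trans eV)
      exact ((e1.trans e2).trans e3).trans (finAddMulEquiv m m T)
    · push Not at h2
      have h𝓜 : 𝓜 = {V} := by
        ext X
        constructor
        · intro hX; exact h2 X hX
        · intro hX; rw [Set.mem_singleton_iff.mp hX]; exact hV
      have hNV : N = V := by rw [hN', h𝓜, sSup_singleton]
      refine ⟨T, hTG, m, hm, hTs, hTna, ⟨?_⟩⟩
      exact (MulEquiv.subgroupCongr hNV).trans eV

end Cfsg.Agent.S3680
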