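import Cfsg.Statements.S0547
import Mathlib
import Cfsg.Agent.S3680
import Cfsg.Agent.Lib.Helper1_MinNormal

set_option autoImplicit false
open Cfsg

namespace Cfsg.Agent.S0547

/-- Let a finite solvable group G act faithfully and primitively on a set, and let M be a minimal normal subgroup of G. Then M is transitive with trivial point stabilizers, and the number of points equals the order of M, which is a prime power p ^ d with d ≥ 1. -/
theorem result {G : Type*} [Group G] [Finite G] [Group.IsSolvable G] {Ω : Type*} [Nonempty Ω] [MulAction G Ω] [FaithfulSMul G Ω] (hprim : MulAction.IsPreprimitive G Ω) (M : Subgroup G) [M.Normal] (hM : M ≠ ⊥) (hmin : ∀ K : Subgroup G, K.Normal → K ≤ M → K = ⊥ ∨ K = M) : MulAction.IsPretransitive M Ω ∧ (∀ ω : Ω, MulAction.stabilizer M ω = ⊥) ∧ ∃ p d : ℕ, p.Prime ∧ 0 < d ∧ Nat.card Ω = p ^ d ∧ Nat.card M = p ^ d := by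
  have hMt : MulAction.IsPretransitive M Ω :=
    Cfsg.Agent.S3680.isPretransitive_of_normal_ne_bot hprim M inferInstance hM
  obtain ⟨hMc, p, hp, hMp⟩ :=
    Cfsg.Agent.Lib.Helper1_MinNormal.elementary_abelian_of_minimal M inferInstance hM hmin
  have hsemi : ∀ ω : Ω, ∀ m : M, m • ω = ω → m = 1 := by
    intro ω m hm
    have hc : (m : G) ∈ Subgroup.centralizer (M : Set G) := by
      rw [Subgroup.mem_centralizer_iff]
      intro x hx
      have := hMc.is_comm.comm (⟨x, hx⟩ : M) m
      exact congrArg Subtype.val this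
    have := Cfsg.Agent.S3680.eq_one_of_mem_centralizer_of_fixed M hMt (m : G) hc ω hm
    exact Subtype.ext this
  have hstab : ∀ ω : Ω, MulAction.stabilizer M ω = ⊥ := by
    intro ω
    rw [eq_bot_iff]
    intro m hm
    rw [Subgroup.mem_bot]
    exact hsemi ω m hm
  refine ⟨hMt, hstab, ?_⟩
  obtain ⟨ω⟩ := (inferInstance : Nonempty Ω)
  have hcard : Nat.card M = Nat.card Ω :=
    Cfsg.Agent.S3680.card_eq_of_regular M hMt ω (hsemi ω)
  have : Fact p.Prime := ⟨hp⟩
  have hpg : IsPGroup p M := by
    intro x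
    refine ⟨1, ?_⟩
    rw [pow_one]
    exact Subtype.ext (by simpa using hMp x x.2)
  obtain ⟨d, hd⟩ := IsPGroup.iff_card.mp hpg
  refine ⟨p, d, hp, ?_, by rw [← hcard, hd], hd⟩
  rcases Nat.eq_zero_or_pos d with h0 | h0
  · exfalso
    rw [h0, pow_zero] at hd
    exact hM ((Subgroup.card_eq_one).mp hd)
  · exact h0

end Cfsg.Agent.S0547
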