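import Cfsg.Statements.S0548
import Mathlib
import Cfsg.Agent.S3680
import Cfsg.Agent.Lib.Helper1_MinNormal

set_option autoImplicit false
open Cfsg

namespace Cfsg.Agent.S0548

/-- Let a finite solvable group G act faithfully and primitively on a set, let M be a minimal normal subgroup and H the stabilizer of a point. Then H is a complement to M, no non-identity element of H centralizes M, and the only subgroups of M normalized by H are the trivial subgroup and M. -/
theorem result {G : Type*} [Group G] [Finite G] [Group.IsSolvable G] {Ω : Type*} [MulAction G Ω] [FaithfulSMul G Ω] (hprim : MulAction.IsPreprimitive G Ω) (M : Subgroup G) [M.Normal] (hM : M ≠ ⊥) (hmin : ∀ K : Subgroup G, K.Normal → K ≤ M → K = ⊥ ∨ K = M) (ω : Ω) : Subgroup.IsComplement' M (MulAction.stabilizer G ω) ∧ MulAction.stabilizer G ω ⊓ Subgroup.centralizer (M : Set G) = ⊥ ∧ ∀ K : Subgroup G, K ≤ M → MulAction.stabilizer G ω ≤ Subgroup.normalizer (K : Set G) → K = ⊥ ∨ K = M := by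
  have hMt : MulAction.IsPretransitive M Ω :=
    Cfsg.Agent.S3680.isPretransitive_of_normal_ne_bot hprim M inferInstance hM
  obtain ⟨hMc, -⟩ :=
    Cfsg.Agent.Lib.Helper1_MinNormal.elementary_abelian_of_minimal M inferInstance hM hmin
  have hMcent : M ≤ Subgroup.centralizer (M : Set G) := by
    intro m hm
    rw [Subgroup.mem_centralizer_iff]
    intro x hx
    have := hMc.is_comm.comm (⟨x, hx⟩ : M) ⟨m, hm⟩
    exact congrArg Subtype.val this
  have hfix : ∀ c ∈ Subgroup.centralizer (M : Set G), c • ω = ω → c = 1 := fun c hc hω =>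
    Cfsg.Agent.S3680.eq_one_of_mem_centralizer_of_fixed M hMt c hc ω hω
  have hcompl : Subgroup.IsComplement' M (MulAction.stabilizer G ω) := by
    apply Subgroup.isComplement'_of_disjoint_and_mul_eq_univ
    · rw [disjoint_iff, eq_bot_iff]
      intro x hx
      rw [Subgroup.mem_bot]
      exact hfix x (hMcent hx.1) hx.2
    · rw [Set.eq_univ_iff_forall]
      intro g
      obtain ⟨m, hm⟩ := hMt.exists_smul_eq ω (g • ω)
      have hm' : (m : G) • ω = g • ω := hm
      refine ⟨(m : G), m.2, (m : G)⁻¹ * g, ?_, by group⟩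
      rw [SetLike.mem_coe, MulAction.mem_stabilizer_iff, mul_smul, ← hm', inv_smul_smul]
  refine ⟨hcompl, ?_, ?_⟩
  · rw [eq_bot_iff]
    intro c hc
    rw [Subgroup.mem_bot]
    exact hfix c hc.2 hc.1
  · intro K hKM hKH
    have hKn : K.Normal := by
      rw [← Subgroup.normalizer_eq_top_iff, eq_top_iff, ← hcompl.sup_eq_top]
      apply sup_le _ hKH
      refine le_trans ?_ (Subgroup.centralizer_le_normalizer _)
      exact hMcent.trans (Subgroup.centralizer_le hKM)
    exact hmin K hKn hKM

end Cfsg.Agent.S0548
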