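import Cfsg.Statements.S0549
import Mathlib

set_option autoImplicit false
open Cfsg

namespace Cfsg.Agent.S0549

/-- A nontrivial normal subgroup supplements a core-free maximal subgroup. -/
theorem sup_eq_top_of_normal {G : Type*} [Group G] (U : Subgroup G) (hU : IsCoatom U)
    (hcore : U.normalCore = ⊥) (K : Subgroup G) [K.Normal] (hK : K ≠ ⊥) : K ⊔ U = ⊤ := by
  apply hU.2
  refine lt_of_le_of_ne le_sup_right (fun h => hK ?_)
  have hKU : K ≤ U := h ▸ le_sup_left
  have : K ≤ U.normalCore := Subgroup.normal_le_normalCore.mpr hKU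
  rw [hcore] at this
  exact le_bot_iff.mp this

/-- every element is a product of an element of a nontrivial normal subgroup and of `U` -/
theorem exists_mul_of_normal {G : Type*} [Group G] (U : Subgroup G) (hU : IsCoatom U)
    (hcore : U.normalCore = ⊥) (K : Subgroup G) [K.Normal] (hK : K ≠ ⊥) (g : G) :
    ∃ k ∈ K, ∃ u ∈ U, k * u = g := by
  have : g ∈ K ⊔ U := by rw [sup_eq_top_of_normal U hU hcore K hK]; exact Subgroup.mem_top _
  rwa [Subgroup.mem_sup_of_normal_left] at this

theorem centralizer_inf_eq_bot {G : Type*} [Group G] (U : Subgroup G) (hU : IsCoatom U)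
    (hcore : U.normalCore = ⊥) (N : Subgroup G) [N.Normal] (hN : N ≠ ⊥) :
    Subgroup.centralizer (N : Set G) ⊓ U = ⊥ := by
  rw [eq_bot_iff, ← hcore]
  intro d hd g
  obtain ⟨n, hn, u, hu, rfl⟩ := exists_mul_of_normal U hU hcore N hN g
  have h1 : u * d * u⁻¹ ∈ Subgroup.centralizer (N : Set G) :=
    (inferInstance : (Subgroup.centralizer (N : Set G)).Normal).conj_mem d hd.1 u
  have h2 : u * d * u⁻¹ ∈ U := U.mul_mem (U.mul_mem hu hd.2) (U.inv_mem hu)
  have h3 : n * (u * d * u⁻¹) = (u * d * u⁻¹) * n :=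
    (Subgroup.mem_centralizer_iff.mp h1) n hn
  have : n * u * d * (n * u)⁻¹ = u * d * u⁻¹ := by
    have : n * u * d * (n * u)⁻¹ = n * (u * d * u⁻¹) * n⁻¹ := by group
    rw [this, h3]; group
  rw [this]
  exact h2

/-- Let U be a maximal subgroup of a finite group G whose normal core is trivial, and N a nontrivial normal subgroup with centralizer C. Then C ∩ U = 1, and either C = 1 or C is a minimal normal subgroup of G. -/
theorem result {G : Type*} [Group G] [Finite G] (U : Subgroup G) (hU : IsCoatom U) (hcore : U.normalCore = ⊥) (N : Subgroup G) [N.Normal] (hN : N ≠ ⊥) : Subgroup.centralizer (N : Set G) ⊓ U = ⊥ ∧ (Subgroup.centralizer (N : Set G) = ⊥ ∨ (Subgroup.centralizer (N : Set G) ≠ ⊥ ∧ ∀ K : Subgroup G, K.Normal → K ≤ Subgroup.centralizer (N : Set G) → K = ⊥ ∨ K = Subgroup.centralizer (N : Set G))) := by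
  have h1 := centralizer_inf_eq_bot U hU hcore N hN
  refine ⟨h1, ?_⟩
  by_cases hC : Subgroup.centralizer (N : Set G) = ⊥
  · exact Or.inl hC
  · refine Or.inr ⟨hC, ?_⟩
    intro K hKn hKC
    by_cases hK : K = ⊥
    · exact Or.inl hK
    · refine Or.inr (le_antisymm hKC ?_)
      intro c hc
      obtain ⟨k, hk, u, hu, hku⟩ := exists_mul_of_normal U hU hcore K hK c
      have hu' : u ∈ Subgroup.centralizer (N : Set G) ⊓ U := by
        refine ⟨?_, hu⟩
        have : u = k⁻¹ * c := by rw [← hku]; group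
        rw [this]
        exact Subgroup.mul_mem _ (Subgroup.inv_mem _ (hKC hk)) hc
      rw [h1, Subgroup.mem_bot] at hu'
      rw [← hku, hu', mul_one]
      exact hk

end Cfsg.Agent.S0549
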