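import Cfsg.Statements.S0550
import Mathlib
import Cfsg.Agent.S0549

set_option autoImplicit false
open Cfsg

namespace Cfsg.Agent.S0550

/-- If `A`, `B` are normal with trivial intersection, and `U` complements `A`
(`A ⊓ U = ⊥`, every element is in `A U`), then `B ≃* (A ⊔ B) ⊓ U`. -/
theorem nonempty_mulEquiv_of_complement {G : Type*} [Group G] (A B U : Subgroup G) [A.Normal]
    [B.Normal] (hAB : A ⊓ B = ⊥) (hAU : A ⊓ U = ⊥)
    (hmul : ∀ g : G, ∃ a ∈ A, ∃ u ∈ U, a * u = g) :
    Nonempty (B ≃* ↥((A ⊔ B) ⊓ U)) := by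
  set T : Subgroup G := (A ⊔ B) ⊓ U with hT
  let φ : B →* G ⧸ A := (QuotientGroup.mk' A).comp B.subtype
  let ψ : T →* G ⧸ A := (QuotientGroup.mk' A).comp T.subtype
  have hφ : Function.Injective φ := by
    rw [injective_iff_map_eq_one]
    intro b hb
    have h1 : (b : G) ∈ A := by
      have : (QuotientGroup.mk' A) (b : G) = 1 := hb
      rwa [QuotientGroup.mk'_apply, QuotientGroup.eq_one_iff] at this
    have h2 : (b : G) ∈ A ⊓ B := ⟨h1, b.2⟩
    rw [hAB, Subgroup.mem_bot] at h2
    exact Subtype.ext h2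
  have hψ : Function.Injective ψ := by
    rw [injective_iff_map_eq_one]
    intro t ht
    have h1 : (t : G) ∈ A := by
      have : (QuotientGroup.mk' A) (t : G) = 1 := ht
      rwa [QuotientGroup.mk'_apply, QuotientGroup.eq_one_iff] at this
    have h2 : (t : G) ∈ A ⊓ U := ⟨h1, t.2.2⟩
    rw [hAU, Subgroup.mem_bot] at h2
    exact Subtype.ext h2
  have hrange : φ.range = ψ.range := by
    apply le_antisymm
    · rintro _ ⟨b, rfl⟩
      obtain ⟨a, ha, u, hu, hau⟩ := hmul (b : G)
      have huT : u ∈ T := by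
        refine ⟨?_, hu⟩
        have : u = a⁻¹ * b := by rw [← hau]; group
        rw [this]
        exact Subgroup.mul_mem _ (Subgroup.inv_mem _ ((le_sup_left : A ≤ A ⊔ B) ha))
          ((le_sup_right : B ≤ A ⊔ B) b.2)
      refine ⟨⟨u, huT⟩, ?_⟩
      change (QuotientGroup.mk' A) u = (QuotientGroup.mk' A) (b : G)
      rw [QuotientGroup.mk'_apply, QuotientGroup.mk'_apply, QuotientGroup.eq]
      have : u⁻¹ * (b : G) = u⁻¹ * a * u := by rw [← hau]; group
      rw [this]
      have := (inferInstance : A.Normal).conj_mem a ha u⁻¹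
      simpa using this
    · rintro _ ⟨t, rfl⟩
      have ht : (t : G) ∈ A ⊔ B := t.2.1
      rw [Subgroup.mem_sup_of_normal_left] at ht
      obtain ⟨a, ha, b, hb, hab⟩ := ht
      refine ⟨⟨b, hb⟩, ?_⟩
      change (QuotientGroup.mk' A) b = (QuotientGroup.mk' A) (t : G)
      rw [QuotientGroup.mk'_apply, QuotientGroup.mk'_apply, QuotientGroup.eq]
      have : b⁻¹ * (t : G) = b⁻¹ * a * b := by rw [← hab]; group
      rw [this]
      have := (inferInstance : A.Normal).conj_mem a ha b⁻¹
      simpa using this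
  exact ⟨(MonoidHom.ofInjective hφ).trans
    ((MulEquiv.subgroupCongr hrange).trans (MonoidHom.ofInjective hψ).symm)⟩

/-- Let U be a maximal subgroup with trivial normal core in a finite group G, and A ≠ B two minimal normal subgroups. Then A is the centralizer of B and B that of A, U complements each of them, A and B are non-abelian, and A, B and (A ⊔ B) ∩ U are pairwise isomorphic. -/
theorem result {G : Type*} [Group G] [Finite G] (U : Subgroup G) (hU : IsCoatom U) (hcore : U.normalCore = ⊥) (A B : Subgroup G) [A.Normal] [B.Normal] (hA : A ≠ ⊥) (hB : B ≠ ⊥) (hAmin : ∀ K : Subgroup G, K.Normal → K ≤ A → K = ⊥ ∨ K = A) (hBmin : ∀ K : Subgroup G, K.Normal → K ≤ B → K = ⊥ ∨ K = B) (hAB : A ≠ B) : Subgroup.centralizer (B : Set G) = A ∧ Subgroup.centralizer (A : Set G) = B ∧ Subgroup.IsComplement' A U ∧ Subgroup.IsComplement' B U ∧ ¬ IsMulCommutative A ∧ Nonempty (A ≃* B) ∧ Nonempty (A ≃* ↥((A ⊔ B) ⊓ U)) := by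
  -- A ⊓ B = ⊥
  have hinf : A ⊓ B = ⊥ := by
    rcases hAmin (A ⊓ B) inferInstance inf_le_left with h | h
    · exact h
    · exfalso
      have hAleB : A ≤ B := h ▸ inf_le_right
      rcases hBmin A inferInstance hAleB with h' | h'
      · exact hA h'
      · exact hAB h'
  -- they centralize each other
  have hcomm : ⁅A, B⁆ = ⊥ := by
    rw [eq_bot_iff, ← hinf]
    exact Subgroup.commutator_le_inf A B
  have hBC : B ≤ Subgroup.centralizer (A : Set G) := by
    rw [Subgroup.commutator_comm] at hcomm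
    exact Subgroup.commutator_eq_bot_iff_le_centralizer.mp hcomm
  have hAC : A ≤ Subgroup.centralizer (B : Set G) :=
    Subgroup.commutator_eq_bot_iff_le_centralizer.mp hcomm
  obtain ⟨hCAU, hCA⟩ := Cfsg.Agent.S0549.result U hU hcore A hA
  obtain ⟨hCBU, hCB⟩ := Cfsg.Agent.S0549.result U hU hcore B hB
  have hCAeq : Subgroup.centralizer (A : Set G) = B := by
    rcases hCA with h | ⟨_, h⟩
    · exact absurd (le_bot_iff.mp (h ▸ hBC)) hB
    · rcases h B inferInstance hBC with h' | h'
      · exact absurd h' hB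
      · exact h'.symm
  have hCBeq : Subgroup.centralizer (B : Set G) = A := by
    rcases hCB with h | ⟨_, h⟩
    · exact absurd (le_bot_iff.mp (h ▸ hAC)) hA
    · rcases h A inferInstance hAC with h' | h'
      · exact absurd h' hA
      · exact h'.symm
  have hAU : A ⊓ U = ⊥ := by rw [← hCBeq]; exact hCBU
  have hBU : B ⊓ U = ⊥ := by rw [← hCAeq]; exact hCAU
  have hAmul := Cfsg.Agent.S0549.exists_mul_of_normal U hU hcore A hA
  have hBmul := Cfsg.Agent.S0549.exists_mul_of_normal U hU hcore B hB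
  have compl : ∀ (N : Subgroup G) [N.Normal], N ⊓ U = ⊥ →
      (∀ g : G, ∃ a ∈ N, ∃ u ∈ U, a * u = g) → Subgroup.IsComplement' N U := by
    intro N _ h1 h2
    apply Subgroup.isComplement'_of_disjoint_and_mul_eq_univ (disjoint_iff.mpr h1)
    rw [Set.eq_univ_iff_forall]
    intro g
    obtain ⟨a, ha, u, hu, rfl⟩ := h2 g
    exact Set.mul_mem_mul ha hu
  have hnc : ¬ IsMulCommutative A := by
    intro hc
    apply hA
    rw [eq_bot_iff, ← hinf]
    intro a ha
    refine ⟨ha, ?_⟩
    rw [← hCAeq]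
    change a ∈ Subgroup.centralizer (A : Set G)
    rw [Subgroup.mem_centralizer_iff]
    intro x hx
    have := hc.is_comm.comm (⟨x, hx⟩ : A) ⟨a, ha⟩
    exact congrArg Subtype.val this
  obtain ⟨e1⟩ := nonempty_mulEquiv_of_complement A B U hinf hAU hAmul
  have hinf' : B ⊓ A = ⊥ := by rw [inf_comm]; exact hinf
  obtain ⟨e2⟩ := nonempty_mulEquiv_of_complement B A U hinf' hBU hBmul
  have hsup : (B ⊔ A) ⊓ U = (A ⊔ B) ⊓ U := by rw [sup_comm]
  let e2' : A ≃* ↥((A ⊔ B) ⊓ U) := e2.trans (MulEquiv.subgroupCongr hsup)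
  exact ⟨hCBeq, hCAeq, compl A hAU hAmul, compl B hBU hBmul, hnc, ⟨e2'.trans e1.symm⟩, ⟨e2'⟩⟩

end Cfsg.Agent.S0550
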