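import Cfsg.Statements.S0551
import Mathlib
import Cfsg.Agent.S0549
import Cfsg.Agent.S0583
import Cfsg.Agent.Lib.Helper1_Hall
import Cfsg.Agent.Lib.Helper34_Sylow

set_option autoImplicit false
open Pointwise
open Cfsg

namespace Cfsg.Agent.S0551

open Cfsg.Agent.Lib.Helper34_Sylow

theorem card_of_compl {G : Type*} [Group G] (M A : Subgroup G) [M.Normal] (h1 : M ⊓ A = ⊥) :
    Nat.card (A ⊔ M : Subgroup G) = Nat.card M * Nat.card A := by
  rw [Cfsg.Agent.Lib.Helper1_Cores.card_sup_eq A M, ← Subgroup.inf_relIndex_right, h1,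
    Subgroup.relIndex_bot_left]

theorem conj_smul_eq_cj {G : Type*} [Group G] (g : G) (U : Subgroup G) :
    MulAut.conj g • U = cj g U := rfl

/-- In a finite solvable group all core-free maximal subgroups are conjugate. -/
theorem result {G : Type*} [Group G] [Finite G] [Group.IsSolvable G] (U V : Subgroup G) (hU : IsCoatom U) (hV : IsCoatom V) (hUc : U.normalCore = ⊥) (hVc : V.normalCore = ⊥) : ∃ g : G, MulAut.conj g • U = V := by
  -- G is nontrivial
  have hnt : Nontrivial G := by
    by_contra hss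
    rw [not_nontrivial_iff_subsingleton] at hss
    exact hU.1 (Subsingleton.elim _ _)
  -- a nontrivial normal abelian p-subgroup
  obtain ⟨M, p, hMn, hMbot, hMc, hp, hMp⟩ :=
    Cfsg.Agent.Lib.Helper1_Hall.exists_normal_abelian_pSubgroup (Q := G) inferInstance
  have : Fact p.Prime := ⟨hp⟩
  have hMcent : M ≤ Subgroup.centralizer (M : Set G) := by
    intro m hm
    rw [Subgroup.mem_centralizer_iff]
    intro x hx
    have := hMc.is_comm.comm (⟨x, hx⟩ : M) ⟨m, hm⟩
    exact congrArg Subtype.val this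
  -- M is self-centralizing and minimal normal
  obtain ⟨hCU, hC⟩ := Cfsg.Agent.S0549.result U hU hUc M hMbot
  have hCM : Subgroup.centralizer (M : Set G) = M ∧
      ∀ K : Subgroup G, K.Normal → K ≤ M → K = ⊥ ∨ K = M := by
    rcases hC with h | ⟨_, h⟩
    · exact absurd (le_bot_iff.mp (h ▸ hMcent)) hMbot
    · have hEq : Subgroup.centralizer (M : Set G) = M := by
        rcases h M hMn hMcent with h' | h'
        · exact absurd h' hMbot
        · exact h'.symm
      rw [hEq] at h
      exact ⟨hEq, h⟩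
  obtain ⟨hCeq, hMmin⟩ := hCM
  have hMU : M ⊓ U = ⊥ := by
    have := Cfsg.Agent.S0549.centralizer_inf_eq_bot U hU hUc M hMbot
    rwa [hCeq] at this
  have hMV : M ⊓ V = ⊥ := by
    have := Cfsg.Agent.S0549.centralizer_inf_eq_bot V hV hVc M hMbot
    rwa [hCeq] at this
  have hMUtop : M ⊔ U = ⊤ := Cfsg.Agent.S0549.sup_eq_top_of_normal U hU hUc M hMbot
  have hMVtop : M ⊔ V = ⊤ := Cfsg.Agent.S0549.sup_eq_top_of_normal V hV hVc M hMbot
  have hUmul := Cfsg.Agent.S0549.exists_mul_of_normal U hU hUc M hMbot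
  have hVmul := Cfsg.Agent.S0549.exists_mul_of_normal V hV hVc M hMbot
  -- |U| = |V|
  have hcardU : Nat.card G = Nat.card M * Nat.card U := by
    rw [← card_of_compl M U hMU, sup_comm, hMUtop, Subgroup.card_top]
  have hcardV : Nat.card G = Nat.card M * Nat.card V := by
    rw [← card_of_compl M V hMV, sup_comm, hMVtop, Subgroup.card_top]
  have hcardUV : Nat.card U = Nat.card V := by
    have hpos : 0 < Nat.card M := Nat.card_pos
    exact Nat.eq_of_mul_eq_mul_left hpos (hcardU.symm.trans hcardV)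
  by_cases hMtop : M = ⊤
  · refine ⟨1, ?_⟩
    have hU' : U = ⊥ := by rw [← hMU, hMtop, top_inf_eq]
    have hV' : V = ⊥ := by rw [← hMV, hMtop, top_inf_eq]
    rw [hU', hV', Subgroup.smul_bot]
  -- the quotient G/M is nontrivial
  have hQnt : Nontrivial (G ⧸ M) := by
    rw [← Finite.one_lt_card_iff_nontrivial, ← Subgroup.index_eq_card]
    have h0 : M.index ≠ 0 := Subgroup.index_ne_zero_of_finite
    have h1 : M.index ≠ 1 := fun h1 => hMtop (Subgroup.index_eq_one.mp h1)
    omega
  obtain ⟨Lbar, r, hLbn, hLbbot, -, hr, hLbr⟩ :=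
    Cfsg.Agent.Lib.Helper1_Hall.exists_normal_abelian_pSubgroup (Q := G ⧸ M) inferInstance
  have : Fact r.Prime := ⟨hr⟩
  set L : Subgroup G := Lbar.comap (QuotientGroup.mk' M) with hL
  have hLn : L.Normal := Subgroup.Normal.comap hLbn _
  have hML : M ≤ L := by
    conv_lhs => rw [← QuotientGroup.ker_mk' M]
    exact Subgroup.ker_le_comap _ _
  have hLcard : Nat.card L = Nat.card Lbar * Nat.card M :=
    Cfsg.Agent.Lib.Helper1_Transport.card_comap_mk' M Lbar
  obtain ⟨b, hb⟩ := IsPGroup.iff_card.mp hLbr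
  obtain ⟨a, ha⟩ := IsPGroup.iff_card.mp hMp
  have hb0 : b ≠ 0 := by
    rintro rfl
    rw [pow_zero] at hb
    exact hLbbot ((Subgroup.card_eq_one).mp hb)
  -- r ≠ p
  have hrp : r ≠ p := by
    rintro rfl
    have hLp : IsPGroup r L := IsPGroup.of_card (n := b + a) (by rw [hLcard, hb, ha, pow_add])
    have hLnil : Group.IsNilpotent L := hLp.isNilpotent
    have h1 : L ≤ fittingSubgroup G := Cfsg.Agent.Lib.Helper1_Cores.le_fittingSubgroup hLn hLnil
    have h2 := Cfsg.Agent.S0583.result M hMbot hMmin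
    rw [hCeq] at h2
    have hLM : L = M := le_antisymm (h1.trans h2) hML
    rw [hLM, ha] at hLcard
    have hpos : 0 < r ^ a := Nat.pos_of_ne_zero (pow_ne_zero _ hr.ne_zero)
    have : Nat.card Lbar = 1 := by nlinarith
    rw [hb] at this
    have := Nat.pow_eq_one.mp this
    rcases this with h | h
    · exact hr.one_lt.ne' h
    · exact hb0 h
  -- the intersections with L
  have hcompl : ∀ W : Subgroup G, M ⊓ W = ⊥ → (∀ g : G, ∃ k ∈ M, ∃ u ∈ W, k * u = g) →
      Nat.card (L ⊓ W : Subgroup G) = r ^ b := by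
    intro W hMW hWmul
    have h1 : M ⊓ (L ⊓ W) = ⊥ := by
      rw [eq_bot_iff, ← hMW]
      exact inf_le_inf_left M inf_le_right
    have h2 : (L ⊓ W) ⊔ M = L := by
      apply le_antisymm (sup_le inf_le_left hML)
      intro l hl
      obtain ⟨k, hk, u, hu, rfl⟩ := hWmul l
      have huL : u ∈ L := by
        have : u = k⁻¹ * (k * u) := by group
        rw [this]
        exact L.mul_mem (L.inv_mem (hML hk)) hl
      rw [sup_comm]
      exact Subgroup.mul_mem_sup hk ⟨huL, hu⟩
    have h3 := card_of_compl M (L ⊓ W) h1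
    rw [h2, hLcard, hb, mul_comm] at h3
    have hpos : 0 < Nat.card M := Nat.card_pos
    exact (Nat.eq_of_mul_eq_mul_left hpos h3).symm
  have hA := hcompl U hMU hUmul
  have hB := hcompl V hMV hVmul
  have hAr : IsPGroup r (L ⊓ U : Subgroup G) := IsPGroup.of_card hA
  have hBr : IsPGroup r (L ⊓ V : Subgroup G) := IsPGroup.of_card hB
  have hidx : ¬ r ∣ (L ⊓ V).relIndex L := by
    have h1 : Nat.card L = (L ⊓ V).relIndex L * Nat.card (L ⊓ V : Subgroup G) := by
      rw [Subgroup.relIndex, ← Cfsg.Agent.Lib.Helper1_Transport.card_subgroupOf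
        (inf_le_left : L ⊓ V ≤ L)]
      exact (Subgroup.index_mul_card _).symm
    rw [hLcard, hb, hB, ha, mul_comm] at h1
    have hpos : 0 < r ^ b := Nat.pos_of_ne_zero (pow_ne_zero _ hr.ne_zero)
    have h2 : (L ⊓ V).relIndex L = p ^ a := (Nat.eq_of_mul_eq_mul_right hpos h1).symm
    rw [h2]
    intro hd
    exact hrp ((Nat.prime_dvd_prime_iff_eq hr hp).mp (hr.dvd_of_dvd_pow hd))
  obtain ⟨x, hxL, hx⟩ := exists_cj_le_of_relIndex hBr hidx (inf_le_left : L ⊓ U ≤ L) hAr
  have hxeq : cj x (L ⊓ U) = L ⊓ V := by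
    apply Subgroup.eq_of_le_of_card_ge hx
    rw [card_cj, hA, hB]
  -- B = L ⊓ V = L ⊓ cj x U
  have hcjL : cj x L = L := cj_eq_self_of_mem_normalizer (by
    rw [Subgroup.normalizer_eq_top_iff.mpr hLn]; exact Subgroup.mem_top x)
  have hB' : L ⊓ V = L ⊓ cj x U := by rw [← hxeq, cj_inf, hcjL]
  -- the normalizer of B
  have hBne : L ⊓ V ≠ ⊥ := by
    intro h
    rw [h, Subgroup.card_bot] at hB
    have := Nat.pow_eq_one.mp hB.symm
    rcases this with h | h
    · exact hr.one_lt.ne' h
    · exact hb0 h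
  have hLtop : Subgroup.normalizer (L : Set G) = ⊤ := Subgroup.normalizer_eq_top_iff.mpr hLn
  have norm_of : ∀ W : Subgroup G, W ≤ Subgroup.normalizer ((L ⊓ W : Subgroup G) : Set G) := by
    intro W
    refine le_trans ?_ (Subgroup.inf_normalizer_le_normalizer_inf (H := L) (K := W))
    rw [hLtop, top_inf_eq]
    exact Subgroup.le_normalizer
  have normV : V ≤ Subgroup.normalizer ((L ⊓ V : Subgroup G) : Set G) := norm_of V
  have normW : cj x U ≤ Subgroup.normalizer ((L ⊓ V : Subgroup G) : Set G) := by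
    rw [hB']; exact norm_of (cj x U)
  have hNne : Subgroup.normalizer ((L ⊓ V : Subgroup G) : Set G) ≠ ⊤ := by
    intro htop
    have hBn : (L ⊓ V).Normal := Subgroup.normalizer_eq_top_iff.mp htop
    have : L ⊓ V ≤ V.normalCore := Subgroup.normal_le_normalCore.mpr inf_le_right
    rw [hVc] at this
    exact hBne (le_bot_iff.mp this)
  have hNV : Subgroup.normalizer ((L ⊓ V : Subgroup G) : Set G) = V := by
    by_contra hne
    exact hNne (hV.2 _ (lt_of_le_of_ne normV (Ne.symm hne)))
  refine ⟨x, ?_⟩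
  rw [conj_smul_eq_cj]
  apply Subgroup.eq_of_le_of_card_ge (hNV ▸ normW)
  rw [card_cj, hcardUV]

end Cfsg.Agent.S0551
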