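import Cfsg.Statements.S0553
import Mathlib
import Cfsg.Agent.Lib.Helper1_Hall
import Cfsg.Agent.Lib.Helper71_Fitting

set_option autoImplicit false
open Cfsg

namespace Cfsg.Agent.S0553

/-- the hypothesis passes to quotients -/
theorem hyp_quotient {G : Type*} [Group G] [Finite G]
    (h : ∀ M : Subgroup G, IsCoatom M → (Nat.card M).Coprime M.index)
    (N : Subgroup G) [N.Normal] :
    ∀ M : Subgroup (G ⧸ N), IsCoatom M → (Nat.card M).Coprime M.index := by
  intro M hM
  have hs : Function.Surjective (QuotientGroup.mk' N) := QuotientGroup.mk'_surjective N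
  have h1 := h _ (Subgroup.isCoatom_comap_of_surjective hs hM)
  rw [Subgroup.index_comap_of_surjective M hs] at h1
  have h2 : Nat.card M ∣ Nat.card (M.comap (QuotientGroup.mk' N)) := by
    rw [Cfsg.Agent.Lib.Helper1_Transport.card_comap_mk']
    exact dvd_mul_right _ _
  exact Nat.Coprime.coprime_dvd_left h2 h1

/-- if one Sylow `p`-subgroup is normal, all are -/
theorem all_normal_of_normal {G : Type*} [Group G] [Finite G] {p : ℕ} [Fact p.Prime]
    (Q : Sylow p G) (hQ : (Q : Subgroup G).Normal) : ∀ P : Sylow p G, (P : Subgroup G).Normal := by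
  intro P
  have := Sylow.unique_of_normal Q hQ
  have : P = Q := Subsingleton.elim _ _
  rw [this]; exact hQ

theorem aux (n : ℕ) : ∀ (G : Type*) [Group G] [Finite G] [Group.IsSolvable G] [Nontrivial G],
    Nat.card G = n → (∀ M : Subgroup G, IsCoatom M → (Nat.card M).Coprime M.index) →
    ∃ p : ℕ, p.Prime ∧ p ∣ Nat.card G ∧ ∀ P : Sylow p G, (P : Subgroup G).Normal := by
  induction n using Nat.strong_induction_on with
  | _ n ih =>
    intro G _ _ hsol _ hn h
    obtain ⟨N, p, hNn, hNbot, -, hp, hNp⟩ :=
      Cfsg.Agent.Lib.Helper1_Hall.exists_normal_abelian_pSubgroup (Q := G) hsol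
    have : Fact p.Prime := ⟨hp⟩
    have hpN : p ∣ Nat.card N := by
      obtain ⟨k, hk⟩ := IsPGroup.iff_card.mp hNp
      have hk0 : k ≠ 0 := by
        rintro rfl
        rw [pow_zero] at hk
        exact hNbot ((Subgroup.card_eq_one).mp hk)
      rw [hk]; exact dvd_pow_self p hk0
    have hpG : p ∣ Nat.card G := hpN.trans (Subgroup.card_subgroup_dvd_card N)
    -- it suffices to show that N is a Sylow p-subgroup, or to find another normal Sylow
    have finish : ¬ p ∣ N.index →
        ∃ p : ℕ, p.Prime ∧ p ∣ Nat.card G ∧ ∀ P : Sylow p G, (P : Subgroup G).Normal := by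
      intro hidx
      refine ⟨p, hp, hpG, ?_⟩
      exact all_normal_of_normal (hNp.toSylow hidx) (by rw [IsPGroup.toSylow_coe]; exact hNn)
    by_cases hNtop : N = ⊤
    · apply finish
      rw [hNtop, Subgroup.index_top]
      exact hp.one_lt.ne' ∘ Nat.dvd_one.mp
    -- the quotient
    have hQnt : Nontrivial (G ⧸ N) := by
      rw [← Finite.one_lt_card_iff_nontrivial, ← Subgroup.index_eq_card]
      have h0 : N.index ≠ 0 := Subgroup.index_ne_zero_of_finite
      have h1 : N.index ≠ 1 := fun h1 => hNtop (Subgroup.index_eq_one.mp h1)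
      omega
    have hcardlt : Nat.card (G ⧸ N) < n := by
      rw [← hn, Subgroup.card_eq_card_quotient_mul_card_subgroup N]
      have h1 : 1 < Nat.card N := by
        rw [Subgroup.one_lt_card_iff_ne_bot]; exact hNbot
      have h2 : 0 < Nat.card (G ⧸ N) := Nat.card_pos
      nlinarith
    obtain ⟨r, hr, hrdvd, hrn⟩ := ih _ hcardlt (G ⧸ N) rfl (hyp_quotient h N)
    have : Fact r.Prime := ⟨hr⟩
    obtain ⟨Q⟩ : Nonempty (Sylow r G) := inferInstance
    have hπ : Function.Surjective (QuotientGroup.mk' N) := QuotientGroup.mk'_surjective N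
    have hQbar : ((Q : Subgroup G).map (QuotientGroup.mk' N)).Normal := hrn (Q.mapSurjective hπ)
    set T : Subgroup G := (Q : Subgroup G) ⊔ N with hTdef
    have hT : T = ((Q : Subgroup G).map (QuotientGroup.mk' N)).comap (QuotientGroup.mk' N) := by
      rw [Subgroup.comap_map_eq, QuotientGroup.ker_mk']
    have hTn : T.Normal := by rw [hT]; exact Subgroup.Normal.comap hQbar _
    have hQT : (Q : Subgroup G) ≤ T := le_sup_left
    have frat := Sylow.normalizer_sup_eq_top' Q hQT
    have hfrat : Subgroup.normalizer ((Q : Subgroup G) : Set G) ⊔ N = ⊤ := by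
      rw [eq_top_iff, ← frat]
      apply sup_le le_sup_left
      exact sup_le (le_sup_of_le_left Subgroup.le_normalizer) le_sup_right
    by_cases hQn : Subgroup.normalizer ((Q : Subgroup G) : Set G) = ⊤
    · refine ⟨r, hr, ?_, all_normal_of_normal Q (Subgroup.normalizer_eq_top_iff.mp hQn)⟩
      rw [← Cfsg.Agent.Lib.Helper1_Transport.card_quotient_mul_card N]
      exact hrdvd.mul_right _
    · obtain ⟨M, hM, hle⟩ := (eq_top_or_exists_le_coatom _).resolve_left hQn
      have hMN : M ⊔ N = ⊤ := by
        rw [eq_top_iff, ← hfrat]; exact sup_le_sup_right hle N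
      have hidx : M.index = M.relIndex N :=
        Cfsg.Agent.Lib.Helper71_Fitting.index_eq_relIndex_of_sup_eq_top M N hMN
      have hdvd : M.index ∣ Nat.card N := hidx ▸ Subgroup.relIndex_dvd_card M N
      have hne1 : M.index ≠ 1 := fun h1 => hM.1 (Subgroup.index_eq_one.mp h1)
      have hpM : p ∣ M.index := by
        obtain ⟨k, hk⟩ := IsPGroup.iff_card.mp hNp
        rw [hk] at hdvd
        obtain ⟨j, -, hj'⟩ := (Nat.dvd_prime_pow hp).mp hdvd
        rw [hj']
        apply dvd_pow_self
        rintro rfl
        exact hne1 (by rw [hj', pow_zero])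
      have hcop := h M hM
      have hpM' : ¬ p ∣ Nat.card M := fun hd =>
        hp.one_lt.ne' (Nat.dvd_one.mp (hcop ▸ Nat.dvd_gcd hd hpM))
      apply finish
      intro hd
      apply hpM'
      have e1 := Subgroup.card_mul_index M
      have e2 := Subgroup.card_mul_index N
      obtain ⟨c, hc⟩ := hdvd
      have hpos : 0 < M.index := Nat.pos_of_ne_zero Subgroup.index_ne_zero_of_finite
      have : Nat.card M = c * N.index := by
        apply Nat.eq_of_mul_eq_mul_left hpos
        rw [mul_comm, e1, ← e2, hc]; ring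
      rw [this]
      exact hd.mul_left c

/-- Let G be a nontrivial finite solvable group in which every maximal subgroup has order coprime to its index. Then for some prime p dividing the order of G the Sylow p-subgroups of G are normal. -/
theorem result {G : Type*} [Group G] [Finite G] [Group.IsSolvable G] [Nontrivial G] (h : ∀ M : Subgroup G, IsCoatom M → (Nat.card M).Coprime M.index) : ∃ p : ℕ, p.Prime ∧ p ∣ Nat.card G ∧ ∀ P : Sylow p G, (P : Subgroup G).Normal :=
  aux (Nat.card G) G rfl h

end Cfsg.Agent.S0553
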