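import Cfsg.Statements.S0554
import Mathlib
import Cfsg.Agent.Lib.Helper1_Hall

set_option autoImplicit false
open Cfsg
open scoped Pointwise

namespace Cfsg.Agent.S0554

/-- the set of ordered products of elements of the subgroups in a list -/
def prodSet {G : Type*} [Group G] : List (Subgroup G) → Set G
  | [] => {1}
  | H :: L => (H : Set G) * prodSet L

theorem one_mem_prodSet {G : Type*} [Group G] (L : List (Subgroup G)) : (1 : G) ∈ prodSet L := by
  induction L with
  | nil => exact Set.mem_singleton 1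
  | cons H L ih => exact ⟨1, H.one_mem, 1, ih, mul_one 1⟩

theorem image_prodSet {G H : Type*} [Group G] [Group H] (f : G →* H) (L : List (Subgroup G)) :
    f '' prodSet L = prodSet (L.map (Subgroup.map f)) := by
  induction L with
  | nil => simp [prodSet]
  | cons K L ih =>
    simp only [prodSet, List.map_cons]
    rw [Set.image_mul, ih]
    rfl

theorem prodSet_mul_normal {G : Type*} [Group G] (N : Subgroup G) [hN : N.Normal]
    (L : List (Subgroup G)) (H : Subgroup G) (hH : H ∈ L) (hNH : N ≤ H) :
    ∀ x ∈ prodSet L, ∀ n ∈ N, x * n ∈ prodSet L := by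
  induction L with
  | nil => simp at hH
  | cons K L ih =>
    rintro _ ⟨k, hk, x, hx, rfl⟩ n hn
    rcases List.mem_cons.mp hH with rfl | hH'
    · refine ⟨k * (x * n * x⁻¹), ?_, x, hx, by group⟩
      exact H.mul_mem hk (hNH (hN.conj_mem n hn x))
    · exact ⟨k, hk, x * n, ih hH' x hx n hn, by group⟩

theorem exists_of_mem_prodSet {G : Type*} [Group G] : ∀ (t : ℕ) (F : Fin t → Subgroup G) (g : G),
    g ∈ prodSet (List.ofFn F) →
    ∃ s : Fin t → G, (∀ i, s i ∈ F i) ∧ g = (List.ofFn s).prod := by
  intro t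
  induction t with
  | zero =>
    intro F g hg
    rw [List.ofFn_zero] at hg
    refine ⟨fun i => i.elim0, fun i => i.elim0, ?_⟩
    rw [List.ofFn_zero, List.prod_nil]
    exact hg
  | succ t ih =>
    intro F g hg
    rw [List.ofFn_succ] at hg
    obtain ⟨h, hh, x, hx, rfl⟩ := hg
    obtain ⟨s', hs', rfl⟩ := ih (fun i => F i.succ) x hx
    refine ⟨Fin.cons h s', ?_, ?_⟩
    · intro i
      refine Fin.cases ?_ ?_ i
      · simpa using hh
      · intro j; simpa using hs' j
    · rw [List.ofFn_succ]
      simp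

theorem main (n : ℕ) : ∀ (G : Type*) [Group G] [Finite G] [Group.IsSolvable G], Nat.card G = n →
    ∀ L : List (Subgroup G),
    (∀ q : ℕ, q.Prime → q ∣ Nat.card G → ∃ H ∈ L, ∃ P : Sylow q G, (P : Subgroup G) = H) →
    ∀ g : G, g ∈ prodSet L := by
  induction n using Nat.strong_induction_on with
  | _ n ih =>
    intro G _ _ hsol hn L hL g
    by_cases hss : Subsingleton G
    · rw [Subsingleton.elim g 1]; exact one_mem_prodSet L
    have hnt : Nontrivial G := not_subsingleton_iff_nontrivial.mp hss
    obtain ⟨N, p, hNn, hNbot, -, hp, hNp⟩ :=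
      Cfsg.Agent.Lib.Helper1_Hall.exists_normal_abelian_pSubgroup (Q := G) hsol
    have : Fact p.Prime := ⟨hp⟩
    have hpN : p ∣ Nat.card N := by
      obtain ⟨k, hk⟩ := IsPGroup.iff_card.mp hNp
      have hk0 : k ≠ 0 := by
        rintro rfl
        rw [pow_zero] at hk
        exact hNbot ((Subgroup.card_eq_one).mp hk)
      rw [hk]; exact dvd_pow_self p hk0
    have hpG : p ∣ Nat.card G := hpN.trans (Subgroup.card_subgroup_dvd_card N)
    obtain ⟨H, hHL, P, hPH⟩ := hL p hp hpG
    have hNH : N ≤ H := by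
      rw [← hPH]
      exact (Cfsg.Agent.Lib.Helper1_Cores.le_pCore hNn hNp).trans
        (Cfsg.Agent.Lib.Helper1_Cores.pCore_le_sylow p P)
    have hπ : Function.Surjective (QuotientGroup.mk' N) := QuotientGroup.mk'_surjective N
    have hcardlt : Nat.card (G ⧸ N) < n := by
      rw [← hn, Subgroup.card_eq_card_quotient_mul_card_subgroup N]
      have h1 : 1 < Nat.card N := by
        rw [Subgroup.one_lt_card_iff_ne_bot]; exact hNbot
      have h2 : 0 < Nat.card (G ⧸ N) := Nat.card_pos
      nlinarith
    have hLbar : ∀ q : ℕ, q.Prime → q ∣ Nat.card (G ⧸ N) →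
        ∃ K ∈ L.map (Subgroup.map (QuotientGroup.mk' N)), ∃ Q : Sylow q (G ⧸ N),
          (Q : Subgroup (G ⧸ N)) = K := by
      intro q hq hqd
      have : Fact q.Prime := ⟨hq⟩
      have hqG : q ∣ Nat.card G := by
        rw [← Cfsg.Agent.Lib.Helper1_Transport.card_quotient_mul_card N]
        exact hqd.mul_right _
      obtain ⟨K, hKL, Q, hQK⟩ := hL q hq hqG
      refine ⟨K.map (QuotientGroup.mk' N), List.mem_map_of_mem hKL, Q.mapSurjective hπ, ?_⟩
      rw [Sylow.coe_mapSurjective, hQK]
    have hbar := ih _ hcardlt (G ⧸ N) rfl _ hLbar (QuotientGroup.mk' N g)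
    rw [← image_prodSet] at hbar
    obtain ⟨x, hx, hxg⟩ := hbar
    have hn' : x⁻¹ * g ∈ N := by
      rw [← QuotientGroup.eq]; exact hxg
    have : g = x * (x⁻¹ * g) := by group
    rw [this]
    exact prodSet_mul_normal N L H hHL hNH x hx _ hn'

/-- Let G be a finite solvable group and let S assign to each of t distinct primes, including every prime divisor of the order of G, a Sylow subgroup of G. Then every element of G is a product s_0 s_1 ⋯ s_(t-1) with s_i in S i, the factors taken in the given order. -/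
theorem result {G : Type*} [Group G] [Finite G] [Group.IsSolvable G] (t : ℕ) (p : Fin t → ℕ) (hp : ∀ i, (p i).Prime) (hinj : Function.Injective p) (hall : ∀ q : ℕ, q.Prime → q ∣ Nat.card G → ∃ i, p i = q) (S : (i : Fin t) → Sylow (p i) G) : ∀ g : G, ∃ s : (i : Fin t) → G, (∀ i, s i ∈ (S i : Subgroup G)) ∧ g = (List.ofFn s).prod := by
  intro g
  apply exists_of_mem_prodSet t (fun i => (S i : Subgroup G)) g
  apply main (Nat.card G) G rfl
  intro q hq hqd
  obtain ⟨i, rfl⟩ := hall q hq hqd
  exact ⟨(S i : Subgroup G), (List.mem_ofFn' _ _).mpr ⟨i, rfl⟩, S i, rfl⟩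

end Cfsg.Agent.S0554
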