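import Cfsg.Statements.S0555
import Mathlib

set_option autoImplicit false
open Cfsg
open scoped commutatorElement

namespace Cfsg.Agent.S0555

/-- If every conjugate of `τ` is a power of `τ`, then the commutator subgroup centralizes `τ`. -/
theorem commutator_comm_of_conj_pow {Q : Type*} [Group Q] (τ : Q)
    (h : ∀ q : Q, ∃ k : ℤ, q * τ * q⁻¹ = τ ^ k) : ∀ c ∈ commutator Q, c * τ = τ * c := by
  -- q₁ q₂ and q₂ q₁ act in the same way
  have key : ∀ q₁ q₂ : Q, (q₁ * q₂) * τ * (q₁ * q₂)⁻¹ = (q₂ * q₁) * τ * (q₂ * q₁)⁻¹ := by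
    intro q₁ q₂
    obtain ⟨k₁, h₁⟩ := h q₁
    obtain ⟨k₂, h₂⟩ := h q₂
    have conj_zpow : ∀ (q : Q) (k : ℤ), q * τ ^ k * q⁻¹ = (q * τ * q⁻¹) ^ k := by
      intro q k
      simp
    have e1 : (q₁ * q₂) * τ * (q₁ * q₂)⁻¹ = q₁ * (q₂ * τ * q₂⁻¹) * q₁⁻¹ := by group
    have e2 : (q₂ * q₁) * τ * (q₂ * q₁)⁻¹ = q₂ * (q₁ * τ * q₁⁻¹) * q₂⁻¹ := by group
    rw [e1, e2, h₁, h₂, conj_zpow, conj_zpow, h₁, h₂, ← zpow_mul, ← zpow_mul, mul_comm]
  have hcomm : ∀ q₁ q₂ : Q, ⁅q₁, q₂⁆ * τ = τ * ⁅q₁, q₂⁆ := by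
    intro q₁ q₂
    have k := key q₂⁻¹ q₁⁻¹
    have e : ⁅q₁, q₂⁆ = (q₂⁻¹ * q₁⁻¹)⁻¹ * (q₁⁻¹ * q₂⁻¹) := by
      simp [commutatorElement_def, mul_assoc]
    have k' : ⁅q₁, q₂⁆ * τ * ⁅q₁, q₂⁆⁻¹ = τ := by
      rw [e]
      have : (q₂⁻¹ * q₁⁻¹)⁻¹ * (q₁⁻¹ * q₂⁻¹) * τ * ((q₂⁻¹ * q₁⁻¹)⁻¹ * (q₁⁻¹ * q₂⁻¹))⁻¹
          = (q₂⁻¹ * q₁⁻¹)⁻¹ * ((q₁⁻¹ * q₂⁻¹) * τ * (q₁⁻¹ * q₂⁻¹)⁻¹) * (q₂⁻¹ * q₁⁻¹) := by group
      rw [this, ← k]; group
    rw [mul_inv_eq_iff_eq_mul] at k'
    exact k'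
  intro c hc
  have hle : commutator Q ≤ Subgroup.centralizer ({τ} : Set Q) := by
    rw [commutator_eq_closure, Subgroup.closure_le]
    rintro _ ⟨q₁, q₂, rfl⟩
    rw [SetLike.mem_coe, Subgroup.mem_centralizer_iff]
    intro x hx
    rw [Set.mem_singleton_iff] at hx
    rw [hx]
    exact (hcomm q₁ q₂).symm
  have := Subgroup.mem_centralizer_iff.mp (hle hc) τ (Set.mem_singleton τ)
  exact this.symm

/-- generator of a cyclic quotient `N / D` -/
theorem exists_gen {G : Type*} [Group G] (N D : Subgroup G) [hn : (D.subgroupOf N).Normal]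
    (h : IsCyclic (N ⧸ D.subgroupOf N)) :
    ∃ t ∈ N, ∀ n ∈ N, ∃ k : ℤ, (t ^ k)⁻¹ * n ∈ D := by
  obtain ⟨g, hg⟩ := IsCyclic.exists_generator (α := N ⧸ D.subgroupOf N)
  obtain ⟨t, rfl⟩ := QuotientGroup.mk_surjective g
  refine ⟨t, t.2, ?_⟩
  intro n hn
  obtain ⟨k, hk⟩ := Subgroup.mem_zpowers_iff.mp (hg (QuotientGroup.mk ⟨n, hn⟩))
  refine ⟨k, ?_⟩
  rw [← QuotientGroup.mk_zpow, QuotientGroup.eq] at hk
  have := Subgroup.mem_subgroupOf.mp hk
  simpa using this

/-- Let i ≥ 1. If in the derived series of a group the quotient of the i-th term by the (i+1)-st and the quotient of the (i+1)-st by the (i+2)-nd are both cyclic, then the (i+1)-st and (i+2)-nd terms coincide. -/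
theorem result {G : Type*} [Group G] (i : ℕ) (hi : 1 ≤ i) (h₁ : IsCyclic (↥(derivedSeries G i) ⧸ (derivedSeries G (i + 1)).subgroupOf (derivedSeries G i))) (h₂ : IsCyclic (↥(derivedSeries G (i + 1)) ⧸ (derivedSeries G (i + 2)).subgroupOf (derivedSeries G (i + 1)))) : derivedSeries G (i + 1) = derivedSeries G (i + 2) := by
  set M := derivedSeries G i with hM
  set N := derivedSeries G (i + 1) with hN
  set D := derivedSeries G (i + 2) with hD
  have hNn : N.Normal := derivedSeries_normal G (i + 1)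
  have hDn : D.Normal := derivedSeries_normal G (i + 2)
  have hDN : D ≤ N := derivedSeries_antitone G (by omega)
  have hNM : N ≤ M := derivedSeries_antitone G (by omega)
  have hMG' : M ≤ commutator G := by
    rw [← derivedSeries_one]; exact derivedSeries_antitone G hi
  obtain ⟨t, htN, ht⟩ := exists_gen N D h₂
  obtain ⟨s, hsM, hs⟩ := exists_gen M N h₁
  let π : G →* G ⧸ D := QuotientGroup.mk' D
  -- every element of N is a power of t modulo D
  have hπN : ∀ n ∈ N, ∃ k : ℤ, π n = (π t) ^ k := by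
    intro n hn
    obtain ⟨k, hk⟩ := ht n hn
    refine ⟨k, ?_⟩
    rw [← map_zpow]
    exact ((QuotientGroup.eq (s := D)).mpr hk).symm
  -- conjugates of π t are powers of π t
  have hconj : ∀ q : G ⧸ D, ∃ k : ℤ, q * π t * q⁻¹ = (π t) ^ k := by
    intro q
    obtain ⟨g, rfl⟩ := QuotientGroup.mk_surjective q
    obtain ⟨k, hk⟩ := hπN (g * t * g⁻¹) (hNn.conj_mem t htN g)
    refine ⟨k, ?_⟩
    rw [← hk]
    simp [π]
  have hcent := commutator_comm_of_conj_pow (π t) hconj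
  -- images of M commute with images of N
  have hMq : ∀ m ∈ M, π m ∈ commutator (G ⧸ D) := by
    intro m hm
    have h1 : m ∈ commutator G := hMG' hm
    have h2 : π m ∈ (commutator G).map π := Subgroup.mem_map_of_mem π h1
    have h3 : (commutator G).map π ≤ commutator (G ⧸ D) := by
      unfold commutator
      rw [Subgroup.map_commutator]
      exact Subgroup.commutator_mono le_top le_top
    exact h3 h2
  have hMN : ∀ m ∈ M, ∀ n ∈ N, π m * π n = π n * π m := by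
    intro m hm n hn
    obtain ⟨k, hk⟩ := hπN n hn
    rw [hk]
    have hc : Commute (π m) (π t) := hcent (π m) (hMq m hm)
    exact (hc.zpow_right k).eq
  -- M is commutative modulo D
  have hMcomm : ∀ x ∈ M, ∀ y ∈ M, π x * π y = π y * π x := by
    intro x hx y hy
    obtain ⟨k, hk⟩ := hs x hx
    obtain ⟨l, hl⟩ := hs y hy
    set n := (s ^ k)⁻¹ * x with hn
    set n' := (s ^ l)⁻¹ * y with hn'
    have hx' : x = s ^ k * n := by rw [hn]; group
    have hy' : y = s ^ l * n' := by rw [hn']; group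
    have hsk : s ^ k ∈ M := Subgroup.zpow_mem _ hsM k
    have hsl : s ^ l ∈ M := Subgroup.zpow_mem _ hsM l
    have c1 : π n * π (s ^ l) = π (s ^ l) * π n := (hMN _ hsl n hk).symm
    have c2 : π n' * π (s ^ k) = π (s ^ k) * π n' := (hMN _ hsk n' hl).symm
    have c3 : π n * π n' = π n' * π n := hMN n (hNM hk) n' hl
    have c4 : π (s ^ k) * π (s ^ l) = π (s ^ l) * π (s ^ k) := by
      rw [← map_mul, ← map_mul, ← zpow_add, ← zpow_add, add_comm]
    rw [hx', hy', map_mul, map_mul]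
    calc π (s ^ k) * π n * (π (s ^ l) * π n')
        = π (s ^ k) * (π n * π (s ^ l)) * π n' := by simp only [mul_assoc]
      _ = π (s ^ k) * (π (s ^ l) * π n) * π n' := by rw [c1]
      _ = (π (s ^ k) * π (s ^ l)) * (π n * π n') := by simp only [mul_assoc]
      _ = (π (s ^ l) * π (s ^ k)) * (π n' * π n) := by rw [c3, c4]
      _ = π (s ^ l) * (π (s ^ k) * π n') * π n := by simp only [mul_assoc]
      _ = π (s ^ l) * (π n' * π (s ^ k)) * π n := by rw [c2]
      _ = π (s ^ l) * π n' * (π (s ^ k) * π n) := by simp only [mul_assoc]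
  apply le_antisymm _ hDN
  rw [hN, derivedSeries_succ, Subgroup.commutator_le]
  intro x hx y hy
  have : π ⁅x, y⁆ = 1 := by
    rw [map_commutatorElement, commutatorElement_eq_one_iff_mul_comm]
    exact hMcomm x hx y hy
  exact (QuotientGroup.eq_one_iff _).mp this

end Cfsg.Agent.S0555
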