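import Mathlib
import Cfsg.Statements.S3014
-- import your own Cfsg.Agent.* helpers here

set_option autoImplicit false
open Cfsg

namespace Cfsg.Agent.S3014

open MulAction Subgroup in
theorem transfer_eq_one_of {G : Type*} [Group G] (M : Subgroup G) [M.FiniteIndex] {A : Type*}
    [CommGroup A] (ϕ : M →* A) (g : G)
    (hg : ∀ (k : G) (n : ℕ) (h : k⁻¹ * g ^ n * k ∈ M), ϕ ⟨_, h⟩ = 1) :
    MonoidHom.transfer ϕ g = 1 := by
  classical
  let _ := Fintype.ofFinite (Quotient (orbitRel (zpowers g) (G ⧸ M)))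
  rw [MonoidHom.transfer_eq_prod_quotient_orbitRel_zpowers_quot]
  apply Finset.prod_eq_one
  intro q _
  exact hg _ _ _

open MulAction Subgroup in
theorem transfer_eq_self_of {G : Type*} [Group G] (M : Subgroup G) [M.FiniteIndex] {A : Type*}
    [CommGroup A] (ϕ : M →* A) (x : M)
    (hB : ∀ (k : G) (y : M), k ∉ M → k * y * k⁻¹ ∈ M → ϕ y = 1) :
    MonoidHom.transfer ϕ (x : G) = ϕ x := by
  classical
  let _ := Fintype.ofFinite (Quotient (orbitRel (zpowers (x : G)) (G ⧸ M)))
  rw [MonoidHom.transfer_eq_prod_quotient_orbitRel_zpowers_quot]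
  have key : ∀ (k : G) (n : ℕ) (h : k⁻¹ * (x : G) ^ n * k ∈ M), k ∈ M → n = 1 →
      ϕ ⟨_, h⟩ = ϕ x := by
    intro k n h hk hn
    subst hn
    have : (⟨k⁻¹ * (x : G) ^ 1 * k, h⟩ : M) = (⟨k, hk⟩ : M)⁻¹ * x * ⟨k, hk⟩ :=
      Subtype.ext (by simp)
    rw [this, map_mul, map_mul, map_inv, mul_comm, mul_inv_cancel_left]
  let q0 : Quotient (orbitRel (zpowers (x : G)) (G ⧸ M)) := Quotient.mk'' (((1 : G) : G ⧸ M))
  rw [Fintype.prod_eq_single q0]
  · have h1 : q0.out = ((1 : G) : G ⧸ M) := by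
      have : Quotient.mk'' q0.out = q0 := Quotient.out_eq' q0
      have h2 := Quotient.exact' this
      change q0.out ∈ MulAction.orbit (zpowers (x : G)) (((1 : G) : G ⧸ M)) at h2
      obtain ⟨⟨z, hz⟩, hz2⟩ := h2
      have hzM : z ∈ M := by
        obtain ⟨n, rfl⟩ := Subgroup.mem_zpowers_iff.mp hz
        exact M.zpow_mem x.2 n
      rw [← hz2]
      change ((z * 1 : G) : G ⧸ M) = _
      rw [QuotientGroup.eq]
      simpa using hzM
    apply key
    · have : ((q0.out.out : G) : G ⧸ M) = ((1 : G) : G ⧸ M) := by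
        rw [QuotientGroup.out_eq', h1]
      rw [QuotientGroup.eq] at this
      simpa using this
    · rw [Function.minimalPeriod_eq_one_iff_isFixedPt, h1]
      change (((x : G) * 1 : G) : G ⧸ M) = _
      rw [QuotientGroup.eq]
      simp
  · intro q hq
    apply hB q.out.out
    · intro hk
      apply hq
      have : q.out = ((1 : G) : G ⧸ M) := by
        rw [← QuotientGroup.out_eq' q.out, QuotientGroup.eq]
        simpa using hk
      rw [← Quotient.out_eq' q, this]
    · simp only [mul_assoc, mul_inv_cancel_left, mul_inv_cancel, mul_one]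
      exact M.pow_mem x.2 _

/-- Let G be a finite group and H ≤ M ≤ G subgroups such that for every g ∈ G the subgroup generated by H and g H g⁻¹ meets M exactly in H. If H is a maximal subgroup of M and M is a maximal subgroup of G, then the normal closure of H in G meets M exactly in H. -/
theorem result {G : Type*} [Group G] [Finite G] (H M : Subgroup G) (hHM : H ≤ M) (hcl : ∀ g : G, (H ⊔ H.map (MulAut.conj g).toMonoidHom) ⊓ M = H) (hmaxH : IsCoatom (H.subgroupOf M)) (hmaxM : IsCoatom M) : Subgroup.normalClosure (H : Set G) ⊓ M = H := by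
  classical
  refine le_antisymm ?_ (le_inf Subgroup.le_normalClosure hHM)
  -- Lemma A : M normalizes H
  have hA : ∀ m ∈ M, ∀ h ∈ H, m * h * m⁻¹ ∈ H := by
    intro m hm h hh
    have h1 : H.map (MulAut.conj m).toMonoidHom ≤ M := by
      rintro _ ⟨a, ha, rfl⟩
      exact M.mul_mem (M.mul_mem hm (hHM ha)) (M.inv_mem hm)
    have h2 := hcl m
    rw [inf_eq_left.mpr (sup_le hHM h1)] at h2
    have : m * h * m⁻¹ ∈ H ⊔ H.map (MulAut.conj m).toMonoidHom :=
      Subgroup.mem_sup_right ⟨h, hh, rfl⟩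
    rwa [h2] at this
  -- Lemma B
  have hB : ∀ g : G, ∀ h ∈ H, g * h * g⁻¹ ∈ M → g * h * g⁻¹ ∈ H := by
    intro g h hh hm
    have : g * h * g⁻¹ ∈ (H ⊔ H.map (MulAut.conj g).toMonoidHom) ⊓ M :=
      ⟨Subgroup.mem_sup_right ⟨h, hh, rfl⟩, hm⟩
    rwa [hcl g] at this
  -- Lemma C
  have hC : ∀ y ∈ M, y ∉ H → M ≤ H ⊔ Subgroup.zpowers y := by
    intro y hy hyH
    have h1 : H.subgroupOf M < (H ⊔ Subgroup.zpowers y).subgroupOf M := by
      rw [SetLike.lt_iff_le_and_exists]
      refine ⟨fun x hx => ?_, ⟨y, hy⟩, ?_, ?_⟩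
      · rw [Subgroup.mem_subgroupOf] at hx ⊢
        exact Subgroup.mem_sup_left hx
      · rw [Subgroup.mem_subgroupOf]
        exact Subgroup.mem_sup_right (Subgroup.mem_zpowers y)
      · rw [Subgroup.mem_subgroupOf]
        exact hyH
    exact Subgroup.subgroupOf_eq_top.mp (hmaxH.2 _ h1)
  by_cases hHn : H.Normal
  · rw [Subgroup.normalClosure_eq_self]
    exact inf_le_left
  have hMN : M ≤ Subgroup.normalizer (H : Set G) := Subgroup.le_normalizer_iff.mpr hA
  have hN : Subgroup.normalizer (H : Set G) = M := by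
    rcases hmaxM.le_iff.mp hMN with h2 | h2
    · exact absurd (Subgroup.normalizer_eq_top_iff.mp h2) hHn
    · exact h2
  have hconjM : ∀ m ∈ M, H.map (MulAut.conj m).toMonoidHom = H := fun m hm =>
    Subgroup.mem_normalizer_iff_map_conj_eq.mp (hMN hm)
  by_cases hcase : ∃ t, t ∉ M ∧ ∃ y ∈ M, t * y * t⁻¹ ∈ M ∧ y ∉ H
  · obtain ⟨t, ht, y, hyM, hyt, hyH⟩ := hcase
    have hLM : (H ⊔ H.map (MulAut.conj t⁻¹).toMonoidHom) ⊓ M = H := hcl t⁻¹
    set L := H ⊔ H.map (MulAut.conj t⁻¹).toMonoidHom with hL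
    have hyL : y ∈ Subgroup.normalizer (L : Set G) := by
      rw [Subgroup.mem_normalizer_iff_map_conj_eq, hL, Subgroup.map_sup]
      have e1 : H.map (MulAut.conj y : G →* G) = H := hconjM y hyM
      have e2 : (H.map (MulAut.conj t⁻¹).toMonoidHom).map (MulAut.conj y : G →* G)
          = H.map (MulAut.conj t⁻¹).toMonoidHom := by
        have e3 : ((MulAut.conj y : G →* G)).comp (MulAut.conj t⁻¹).toMonoidHom
            = ((MulAut.conj t⁻¹).toMonoidHom).comp (MulAut.conj (t * y * t⁻¹)).toMonoidHom := by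
          ext a
          simp [MulAut.conj_apply, mul_assoc]
        rw [Subgroup.map_map, e3, ← Subgroup.map_map, hconjM _ hyt]
      rw [e1, e2]
    have hK : L ⊔ Subgroup.zpowers y ≤ Subgroup.normalizer (L : Set G) :=
      sup_le Subgroup.le_normalizer ((Subgroup.zpowers_le).mpr hyL)
    have hMK : M ≤ L ⊔ Subgroup.zpowers y :=
      (hC y hyM hyH).trans (sup_le_sup_right le_sup_left _)
    have hKtop : L ⊔ Subgroup.zpowers y = ⊤ := by
      rcases hmaxM.le_iff.mp hMK with h | h
      · exact h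
      · exfalso
        have h3 : H.map (MulAut.conj t⁻¹).toMonoidHom ≤ H := by
          rintro _ ⟨a, ha, rfl⟩
          apply hB t⁻¹ a ha
          have : H.map (MulAut.conj t⁻¹).toMonoidHom ≤ M := by
            rw [← h]
            exact le_sup_right.trans le_sup_left
          exact this ⟨a, ha, rfl⟩
        have h4 : H.map (MulAut.conj t⁻¹).toMonoidHom = H := by
          apply Subgroup.eq_of_le_of_card_ge h3
          rw [Subgroup.card_map_of_injective (MulAut.conj t⁻¹).injective]
        have h5 : t⁻¹ ∈ Subgroup.normalizer (H : Set G) :=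
          Subgroup.mem_normalizer_iff_map_conj_eq.mpr h4
        rw [hN] at h5
        exact ht (by simpa using M.inv_mem h5)
    have hLn : L.Normal := Subgroup.normalizer_eq_top_iff.mp (top_le_iff.mp (hKtop ▸ hK))
    have hNL : Subgroup.normalClosure (H : Set G) ≤ L :=
      Subgroup.normalClosure_le_normal (show (H : Set G) ⊆ L from fun a ha => Subgroup.mem_sup_left ha)
    calc Subgroup.normalClosure (H : Set G) ⊓ M ≤ L ⊓ M := inf_le_inf_right _ hNL
      _ = H := hLM
  · push Not at hcase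
    have hHMn : (H.subgroupOf M).Normal :=
      (Subgroup.normal_subgroupOf_iff_le_normalizer hHM).mpr hMN
    have hcyc : ∃ q₀ : M ⧸ H.subgroupOf M, ∀ q, q ∈ Subgroup.zpowers q₀ := by
      obtain ⟨y₀, hy₀⟩ : ∃ y₀ : M, y₀ ∉ H.subgroupOf M := by
        by_contra hcon
        push Not at hcon
        exact hmaxH.1 (eq_top_iff.mpr fun y _ => hcon y)
      refine ⟨QuotientGroup.mk' _ y₀, fun q => ?_⟩
      obtain ⟨a, rfl⟩ := QuotientGroup.mk'_surjective _ q
      have hlt : H.subgroupOf M <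
          (Subgroup.zpowers (QuotientGroup.mk' (H.subgroupOf M) y₀)).comap
            (QuotientGroup.mk' (H.subgroupOf M)) := by
        rw [SetLike.lt_iff_le_and_exists]
        refine ⟨fun x hx => ?_, y₀, ?_, hy₀⟩
        · rw [Subgroup.mem_comap]
          have : QuotientGroup.mk' (H.subgroupOf M) x = 1 := by
            rw [QuotientGroup.mk'_apply, QuotientGroup.eq_one_iff]
            exact hx
          rw [this]
          exact Subgroup.one_mem _
        · rw [Subgroup.mem_comap]
          exact Subgroup.mem_zpowers _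
      have h2 := hmaxH.2 _ hlt
      have h3 : a ∈ (Subgroup.zpowers (QuotientGroup.mk' (H.subgroupOf M) y₀)).comap
            (QuotientGroup.mk' (H.subgroupOf M)) := h2 ▸ Subgroup.mem_top a
      exact h3
    have : IsCyclic (M ⧸ H.subgroupOf M) := ⟨hcyc⟩
    let _ : CommGroup (M ⧸ H.subgroupOf M) := IsCyclic.commGroup
    let ϕ : M →* M ⧸ H.subgroupOf M := QuotientGroup.mk' (H.subgroupOf M)
    have hϕ : ∀ y : M, ϕ y = 1 ↔ (y : G) ∈ H := by
      intro y
      change QuotientGroup.mk' (H.subgroupOf M) y = 1 ↔ _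
      rw [QuotientGroup.mk'_apply, QuotientGroup.eq_one_iff, Subgroup.mem_subgroupOf]
    have hV1 : ∀ h ∈ H, MonoidHom.transfer ϕ h = 1 := by
      intro h hh
      apply transfer_eq_one_of
      intro k n hmem
      rw [hϕ]
      have := hB k⁻¹ (h ^ n) (H.pow_mem hh n) (by simpa using hmem)
      simpa using this
    have hker : Subgroup.normalClosure (H : Set G) ≤ (MonoidHom.transfer ϕ).ker :=
      Subgroup.normalClosure_le_normal (fun h hh => (MonoidHom.mem_ker).mpr (hV1 h hh))
    rintro x ⟨hxN, hxM⟩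
    have h1 : MonoidHom.transfer ϕ x = 1 := MonoidHom.mem_ker.mp (hker hxN)
    have h2 : MonoidHom.transfer ϕ ((⟨x, hxM⟩ : M) : G) = ϕ ⟨x, hxM⟩ := by
      apply transfer_eq_self_of
      intro k y hk hky
      rw [hϕ]
      by_contra hyH
      exact hyH (hcase k hk y y.2 hky)
    have h3 : ϕ ⟨x, hxM⟩ = 1 := by rw [← h2]; exact h1
    exact (hϕ ⟨x, hxM⟩).mp h3

end Cfsg.Agent.S3014
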