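import Mathlib
import Cfsg.Statements.S0556
import Cfsg.Agent.S3014
import Cfsg.Agent.Lib.Helper24_CoprimeAction

set_option autoImplicit false
open Cfsg

namespace Cfsg.Agent.S0556

open Cfsg.Agent.Lib.Helper24_CoprimeAction

/-- A normal maximal subgroup contains the commutator subgroup. -/
theorem commutator_le_of_normal_isCoatom {G : Type*} [Group G] (M : Subgroup G) [M.Normal]
    (hM : IsCoatom M) : commutator G ≤ M := by
  have hcyc : IsCyclic (G ⧸ M) := by
    obtain ⟨y₀, hy₀⟩ : ∃ y₀ : G, y₀ ∉ M := by
      by_contra hcon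
      push Not at hcon
      exact hM.1 (eq_top_iff.mpr fun y _ => hcon y)
    refine ⟨⟨QuotientGroup.mk' M y₀, fun q => ?_⟩⟩
    obtain ⟨a, rfl⟩ := QuotientGroup.mk'_surjective M q
    have hlt : M < (Subgroup.zpowers (QuotientGroup.mk' M y₀)).comap (QuotientGroup.mk' M) := by
      rw [SetLike.lt_iff_le_and_exists]
      refine ⟨fun x hx => ?_, y₀, ?_, hy₀⟩
      · rw [Subgroup.mem_comap]
        have : QuotientGroup.mk' M x = 1 := by
          rw [QuotientGroup.mk'_apply, QuotientGroup.eq_one_iff]
          exact hx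
        rw [this]
        exact Subgroup.one_mem _
      · rw [Subgroup.mem_comap]
        exact Subgroup.mem_zpowers _
    have h2 := hM.2 _ hlt
    have h3 : a ∈ (Subgroup.zpowers (QuotientGroup.mk' M y₀)).comap (QuotientGroup.mk' M) :=
      h2 ▸ Subgroup.mem_top a
    exact h3
  let _ : CommGroup (G ⧸ M) := IsCyclic.commGroup
  have := Abelianization.commutator_subset_ker (QuotientGroup.mk' M)
  rwa [QuotientGroup.ker_mk'] at this

theorem mem_normalizer_of_map_conj_le {G : Type*} [Group G] [Finite G] (K : Subgroup G) (g : G)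
    (h : K.map (MulAut.conj g).toMonoidHom ≤ K) : g ∈ Subgroup.normalizer (K : Set G) := by
  rw [Subgroup.mem_normalizer_iff_map_conj_eq]
  apply Subgroup.eq_of_le_of_card_ge h
  rw [Subgroup.card_map_of_injective (MulAut.conj g).injective]

open scoped IsMulCommutative in
/-- The Frobenius case: an abelian maximal subgroup which is a TI-subgroup. -/
theorem derivedSeries_two_of_TI {G : Type*} [Group G] [Finite G] (M : Subgroup G)
    (hM : IsCoatom M) [IsMulCommutative M]
    (hTI' : ¬ M.Normal → ∀ g, g ∉ M → ∀ y ∈ M, g * y * g⁻¹ ∈ M → y = 1) :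
    derivedSeries G 2 = ⊥ := by
  classical
  have hMM : ⁅M, M⁆ = ⊥ := Subgroup.commutator_self_eq_bot_iff.mpr inferInstance
  by_cases hMn : M.Normal
  · have h1 : derivedSeries G 1 ≤ M := by
      rw [derivedSeries_one]
      exact commutator_le_of_normal_isCoatom M hM
    rw [derivedSeries_succ, eq_bot_iff, ← hMM]
    exact Subgroup.commutator_mono h1 h1
  -- M is not normal
  have hTI := hTI' hMn
  have hB : ∀ (k : G) (y : M), k ∉ M → k * y * k⁻¹ ∈ M → (MonoidHom.id M) y = 1 := by
    intro k y hk hky
    rw [MonoidHom.id_apply]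
    exact Subtype.ext (hTI k hk y y.2 hky)
  have hV : ∀ x : M, MonoidHom.transfer (MonoidHom.id M) (x : G) = x := fun x => by
    simpa using Cfsg.Agent.S3014.transfer_eq_self_of M (MonoidHom.id M) x hB
  obtain ⟨K, hKdef⟩ : ∃ K : Subgroup G, K = (MonoidHom.transfer (MonoidHom.id M)).ker := ⟨_, rfl⟩
  have hKn : K.Normal := hKdef ▸ MonoidHom.normal_ker _
  have hKM : K ⊓ M = ⊥ := by
    rw [eq_bot_iff]
    rintro x ⟨hxK, hxM⟩
    have hxK : x ∈ K := hxK
    have hxM : x ∈ M := hxM
    rw [hKdef, MonoidHom.mem_ker] at hxK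
    have h1 := hV ⟨x, hxM⟩
    rw [hxK] at h1
    exact Subgroup.mem_bot.mpr (congrArg Subtype.val h1.symm)
  have hG'K : commutator G ≤ K := by
    rw [hKdef]
    exact Abelianization.commutator_subset_ker _
  have hMK : M ≤ Subgroup.normalizer (K : Set G) := by
    rw [Subgroup.normalizer_eq_top_iff.mpr hKn]
    exact le_top
  -- it suffices to show that K is abelian
  suffices hKK : ⁅K, K⁆ = ⊥ by
    have h1 : derivedSeries G 1 ≤ K := by
      rw [derivedSeries_one]
      exact hG'K
    rw [derivedSeries_succ, eq_bot_iff, ← hKK]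
    exact Subgroup.commutator_mono h1 h1
  by_cases hK1 : K = ⊥
  · rw [eq_bot_iff, ← hK1]
    exact Subgroup.commutator_le_left K K
  -- coprimality
  have hcop : (Nat.card M).Coprime (Nat.card K) := by
    rw [Nat.coprime_comm]
    apply Nat.Coprime.symm
    apply Nat.coprime_of_dvd
    intro p hp hpM hpK
    have : Fact p.Prime := ⟨hp⟩
    obtain ⟨m, hm⟩ := exists_prime_orderOf_dvd_card' p hpM
    have hm1 : (m : G) ≠ 1 := by
      intro h
      have : m = 1 := Subtype.ext h
      rw [this, orderOf_one] at hm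
      exact hp.one_lt.ne hm
    let f : ↥(Subgroup.zpowers (m : G)) →* MulAut K :=
      (MulAut.conjNormal (H := K)).comp (Subgroup.zpowers (m : G)).subtype
    let _ : MulAction ↥(Subgroup.zpowers (m : G)) K := MulAction.compHom K f
    have hpg : IsPGroup p ↥(Subgroup.zpowers (m : G)) := by
      apply IsPGroup.of_card (n := 1)
      rw [Nat.card_zpowers, pow_one, Subgroup.orderOf_coe, hm]
    have hfix := hpg.card_modEq_card_fixedPoints K
    have hfix1 : Nat.card (MulAction.fixedPoints ↥(Subgroup.zpowers (m : G)) K) = 1 := by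
      rw [Nat.card_eq_one_iff_unique]
      constructor
      · constructor
        rintro ⟨x, hx⟩ ⟨y, hy⟩
        have key : ∀ z : K, z ∈ MulAction.fixedPoints ↥(Subgroup.zpowers (m : G)) K → z = 1 := by
          intro z hz
          have h1 := hz ⟨(m : G), Subgroup.mem_zpowers _⟩
          change f ⟨(m : G), Subgroup.mem_zpowers _⟩ z = z at h1
          have h2 : (m : G) * z * (m : G)⁻¹ = z := by
            have := congrArg Subtype.val h1
            simpa [f, MulAut.conjNormal_apply] using this
          by_contra hz1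
          have hzM : (z : G) ∉ M := by
            intro hzM
            have : (z : G) ∈ K ⊓ M := ⟨z.2, hzM⟩
            rw [hKM, Subgroup.mem_bot] at this
            exact hz1 (Subtype.ext this)
          have hzM' : (z : G)⁻¹ ∉ M := fun h => hzM (by simpa using M.inv_mem h)
          apply hm1
          apply hTI (z : G)⁻¹ hzM' m m.2
          have : (z : G)⁻¹ * m * ((z : G)⁻¹)⁻¹ = m := by
            rw [inv_inv]
            calc (z : G)⁻¹ * m * z = (z : G)⁻¹ * ((m : G) * z * (m : G)⁻¹) * m := by group
              _ = m := by rw [h2]; group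
          rw [this]
          exact m.2
        exact Subtype.ext ((key x hx).trans (key y hy).symm)
      · refine ⟨⟨1, ?_⟩⟩
        intro g
        change f g 1 = 1
        exact map_one _
    rw [hfix1] at hfix
    have h0 : Nat.card K % p = 0 := Nat.mod_eq_zero_of_dvd hpK
    have h1 : Nat.card K % p = 1 % p := hfix
    rw [h0, Nat.mod_eq_of_lt hp.one_lt] at h1
    exact absurd h1 (by norm_num)
  -- a prime dividing |K|
  have hKcard : Nat.card K ≠ 1 := by
    intro h
    exact hK1 (Subgroup.card_eq_one.mp h)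
  obtain ⟨q, hq, hqK⟩ := Nat.exists_prime_and_dvd hKcard
  have : Fact q.Prime := ⟨hq⟩
  obtain ⟨P, hP⟩ := exists_invariant_sylow M K hMK hcop (Or.inl inferInstance) q
  have hQK : sylowImage P ≤ K := Subgroup.map_subtype_le _
  have hQ1 : sylowImage P ≠ ⊥ := by
    intro h
    have := (Subgroup.map_eq_bot_iff_of_injective _ K.subtype_injective).mp h
    exact P.ne_bot_of_dvd_card hqK this
  have hQM : ¬ sylowImage P ≤ M := by
    intro h
    apply hQ1
    rw [eq_bot_iff, ← hKM]
    exact le_inf hQK h
  have hlt : M < M ⊔ sylowImage P := by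
    apply lt_of_le_of_ne le_sup_left
    intro h
    apply hQM
    rw [h]
    exact le_sup_right
  have htop : M ⊔ sylowImage P = ⊤ := hM.2 _ hlt
  have hQn : (sylowImage P).Normal := by
    rw [← Subgroup.normalizer_eq_top_iff, eq_top_iff, ← htop]
    exact sup_le hP Subgroup.le_normalizer
  -- Dedekind-type argument: a normal subgroup N ≤ K with M ⊔ N = ⊤ equals K
  have hded : ∀ N : Subgroup G, N.Normal → N ≤ K → M ⊔ N = ⊤ → K ≤ N := by
    intro N hN hNK hMN x hx
    have hx' : x ∈ M ⊔ N := hMN ▸ Subgroup.mem_top x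
    obtain ⟨y, hy, z, hz, rfl⟩ := Subgroup.mem_sup_of_normal_right.mp hx'
    have hyK : y ∈ K := by
      have : y = y * z * z⁻¹ := by group
      rw [this]
      exact K.mul_mem hx (K.inv_mem (hNK hz))
    have : y ∈ K ⊓ M := ⟨hyK, hy⟩
    rw [hKM, Subgroup.mem_bot] at this
    rw [this, one_mul]
    exact hz
  have hKQ : K ≤ sylowImage P := hded _ hQn hQK htop
  have hKp : IsPGroup q K := by
    intro x
    have hx : (x : G) ∈ sylowImage P := hKQ x.2
    obtain ⟨x', hx', hxx⟩ := hx
    have hx'' : x' = x := Subtype.ext (by simpa using hxx)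
    obtain ⟨n, hn⟩ := P.isPGroup' ⟨x', hx'⟩
    refine ⟨n, ?_⟩
    rw [← hx'']
    have := congrArg Subtype.val hn
    simpa using this
  -- K' is a normal subgroup, proper in K
  have hK'n : (⁅K, K⁆ : Subgroup G).Normal := Subgroup.commutator_normal K K
  have hK'K : ⁅K, K⁆ ≤ K := Subgroup.commutator_le_left K K
  have hK'ne : ⁅K, K⁆ ≠ K := by
    intro h
    have : Nontrivial K := (Subgroup.nontrivial_iff_ne_bot K).mpr hK1
    have : Group.IsNilpotent K := hKp.isNilpotent
    have hlt := Group.IsSolvable.commutator_lt_top_of_nontrivial K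
    apply hlt.ne
    apply Subgroup.map_injective K.subtype_injective
    rw [Subgroup.map_subtype_commutator, h, ← MonoidHom.range_eq_map, Subgroup.range_subtype]
  rcases hM.le_iff.mp (le_sup_left : M ≤ M ⊔ ⁅K, K⁆) with h | h
  · exact absurd (le_antisymm hK'K (hded _ hK'n hK'K h)) hK'ne
  · rw [eq_bot_iff, ← hKM]
    refine le_inf hK'K ?_
    rw [← h]
    exact le_sup_right

theorem isCoatom_map_of_ker_le {G H : Type*} [Group G] [Group H] {φ : G →* H}
    (hφ : Function.Surjective φ) {M : Subgroup G} (hM : IsCoatom M) (hker : φ.ker ≤ M) :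
    IsCoatom (M.map φ) := by
  have hcm : (M.map φ).comap φ = M := Subgroup.comap_map_eq_self hker
  constructor
  · intro h
    apply hM.1
    rw [← hcm, h, Subgroup.comap_top]
  · intro K hK
    have h1 : M < K.comap φ := by
      rw [← hcm]
      exact (Subgroup.comap_lt_comap_of_surjective hφ).mpr hK
    have h2 := hM.2 _ h1
    rw [← Subgroup.map_comap_eq_self_of_surjective hφ K, h2, Subgroup.map_top_of_surjective φ hφ]

/-- If a finite group has a maximal subgroup that is abelian, then the third term of its derived series is trivial (so the group is solvable of derived length at most three). -/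
theorem result {G : Type*} [Group G] [Finite G] (A : Subgroup G) (hA : IsCoatom A) [IsMulCommutative A] : derivedSeries G 3 = ⊥ := by
  classical
  by_cases hAn : A.Normal
  · have h2 : derivedSeries G 2 = ⊥ := derivedSeries_two_of_TI A hA (fun h => absurd hAn h)
    rw [derivedSeries_succ, h2]
    exact Subgroup.commutator_bot_left _
  -- A is not normal
  have hAA : A ≤ Subgroup.centralizer (A : Set G) :=
    Subgroup.le_centralizer_iff_isMulCommutative.mpr inferInstance
  have hNA : Subgroup.normalizer (A : Set G) = A := by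
    rcases hA.le_iff.mp Subgroup.le_normalizer with h | h
    · exact absurd (Subgroup.normalizer_eq_top_iff.mp h) hAn
    · exact h
  have hZA : Subgroup.center G ≤ A := by
    have := Subgroup.center_le_normalizer (A : Set G)
    rwa [hNA] at this
  have hTI0 : ∀ g, g ∉ A → ∀ y ∈ A, g * y * g⁻¹ ∈ A → y ∈ Subgroup.center G := by
    intro g hg y hy hgy
    have h1 : A ≤ Subgroup.centralizer ({y} : Set G) := by
      intro a ha
      rw [Subgroup.mem_centralizer_iff]
      intro h hh
      rw [Set.mem_singleton_iff] at hh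
      subst hh
      exact (Subgroup.mem_centralizer_iff.mp (hAA hy) a ha).symm
    have h2 : A.map (MulAut.conj g⁻¹).toMonoidHom ≤ Subgroup.centralizer ({y} : Set G) := by
      rintro _ ⟨a, ha, rfl⟩
      rw [Subgroup.mem_centralizer_iff]
      intro h hh
      rw [Set.mem_singleton_iff] at hh
      subst hh
      have hc : (g * h * g⁻¹) * a = a * (g * h * g⁻¹) :=
        (Subgroup.mem_centralizer_iff.mp (hAA hgy) a ha).symm
      change h * (g⁻¹ * a * g⁻¹⁻¹) = (g⁻¹ * a * g⁻¹⁻¹) * h
      rw [inv_inv]
      have e1 : h * (g⁻¹ * a * g) = g⁻¹ * ((g * h * g⁻¹) * a) * g := by group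
      have e2 : (g⁻¹ * a * g) * h = g⁻¹ * (a * (g * h * g⁻¹)) * g := by group
      rw [e1, e2, hc]
    have h3 : ¬ A.map (MulAut.conj g⁻¹).toMonoidHom ≤ A := by
      intro h
      have := mem_normalizer_of_map_conj_le A g⁻¹ h
      rw [hNA] at this
      exact hg (by simpa using A.inv_mem this)
    have h4 : A < A ⊔ A.map (MulAut.conj g⁻¹).toMonoidHom := by
      apply lt_of_le_of_ne le_sup_left
      intro h
      exact h3 (le_sup_right.trans (le_of_eq h.symm))
    have h5 : A ⊔ A.map (MulAut.conj g⁻¹).toMonoidHom = ⊤ := hA.2 _ h4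
    have h6 : Subgroup.centralizer ({y} : Set G) = ⊤ := by
      rw [eq_top_iff, ← h5]
      exact sup_le h1 h2
    rw [Subgroup.mem_center_iff]
    intro x
    have : x ∈ Subgroup.centralizer ({y} : Set G) := h6 ▸ Subgroup.mem_top x
    exact (Subgroup.mem_centralizer_iff.mp this y rfl).symm
  -- pass to the quotient by the centre
  have hsurj : Function.Surjective (QuotientGroup.mk' (Subgroup.center G)) :=
    QuotientGroup.mk'_surjective _
  have hker : (QuotientGroup.mk' (Subgroup.center G)).ker ≤ A := by
    rw [QuotientGroup.ker_mk']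
    exact hZA
  have hcoat : IsCoatom (A.map (QuotientGroup.mk' (Subgroup.center G))) :=
    isCoatom_map_of_ker_le hsurj hA hker
  have hcm : (A.map (QuotientGroup.mk' (Subgroup.center G))).comap
      (QuotientGroup.mk' (Subgroup.center G)) = A := Subgroup.comap_map_eq_self hker
  have hTIq : ¬ (A.map (QuotientGroup.mk' (Subgroup.center G))).Normal →
      ∀ g, g ∉ A.map (QuotientGroup.mk' (Subgroup.center G)) →
      ∀ y ∈ A.map (QuotientGroup.mk' (Subgroup.center G)),
        g * y * g⁻¹ ∈ A.map (QuotientGroup.mk' (Subgroup.center G)) → y = 1 := by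
    intro _ g hg y hy hgy
    obtain ⟨g₀, rfl⟩ := hsurj g
    obtain ⟨y₀, hy₀, rfl⟩ := hy
    have hg₀ : g₀ ∉ A := fun h => hg ⟨g₀, h, rfl⟩
    have h1 : g₀ * y₀ * g₀⁻¹ ∈ A := by
      rw [← hcm, Subgroup.mem_comap]
      simpa using hgy
    have h2 := hTI0 g₀ hg₀ y₀ hy₀ h1
    rw [QuotientGroup.mk'_apply, QuotientGroup.eq_one_iff]
    exact h2
  have h2 : derivedSeries (G ⧸ Subgroup.center G) 2 = ⊥ :=
    derivedSeries_two_of_TI _ hcoat hTIq
  have h3 : derivedSeries G 2 ≤ Subgroup.center G := by
    have := map_derivedSeries_eq hsurj 2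
    rw [h2, Subgroup.map_eq_bot_iff, QuotientGroup.ker_mk'] at this
    exact this
  rw [derivedSeries_succ, Subgroup.commutator_eq_bot_iff_le_centralizer]
  exact h3.trans (Subgroup.center_le_centralizer _)

end Cfsg.Agent.S0556
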