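import Cfsg.Statements.S0567
import Mathlib

set_option autoImplicit false
open Cfsg
open scoped commutatorElement

namespace Cfsg.Agent.S0567

variable {G : Type*} [Group G]

/-- the iterated commutator `[G, H, ..., H]` -/
def L (H : Subgroup G) (m : ℕ) : Subgroup G := (fun K : Subgroup G => ⁅K, H⁆)^[m] ⊤

theorem L_zero (H : Subgroup G) : L H 0 = ⊤ := rfl

theorem L_succ (H : Subgroup G) (m : ℕ) : L H (m + 1) = ⁅L H m, H⁆ := by
  unfold L
  rw [Function.iterate_succ_apply']

theorem L_mono {H K : Subgroup G} (h : H ≤ K) (m : ℕ) : L H m ≤ L K m := by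
  induction m with
  | zero => exact le_rfl
  | succ m ih =>
    rw [L_succ, L_succ]
    exact Subgroup.commutator_mono ih h

theorem le_normalizer_L (H : Subgroup G) (m : ℕ) : H ≤ Subgroup.normalizer (L H m : Set G) := by
  cases m with
  | zero =>
    rw [L_zero]; intro x _
    rw [Subgroup.mem_normalizer_iff]
    intro h; simp
  | succ m => rw [L_succ]; exact Subgroup.normalizer_commutator_ge_right _ _

theorem L_succ_le (H : Subgroup G) (m : ℕ) : L H (m + 1) ≤ L H m := by
  rw [L_succ, ← Subgroup.le_normalizer_iff_commutator_le_left]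
  exact le_normalizer_L H m

theorem L_le_normalizer_sup (H : Subgroup G) (m : ℕ) :
    L H m ≤ Subgroup.normalizer ((H ⊔ L H (m + 1) : Subgroup G) : Set G) := by
  intro x hx
  have hxn : x ∈ Subgroup.normalizer (L H (m + 1) : Set G) := by
    rw [L_succ]; exact Subgroup.normalizer_commutator_ge_left _ _ hx
  rw [Subgroup.mem_normalizer_iff_map_conj_eq, Subgroup.map_sup,
    Subgroup.mem_normalizer_iff_map_conj_eq.mp hxn]
  apply le_antisymm
  · apply sup_le _ le_sup_right
    rintro _ ⟨h, hh, rfl⟩
    have : (MulAut.conj x).toMonoidHom h = ⁅x, h⁆ * h := by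
      simp [commutatorElement_def, MulAut.conj_apply]
    change (MulAut.conj x).toMonoidHom h ∈ _
    rw [this]
    apply Subgroup.mul_mem
    · apply (le_sup_right : L H (m + 1) ≤ H ⊔ L H (m + 1))
      rw [L_succ]; exact Subgroup.commutator_mem_commutator hx hh
    · exact (le_sup_left : H ≤ H ⊔ L H (m + 1)) hh
  · apply sup_le _ le_sup_right
    intro h hh
    have : h = ⁅x, h⁆⁻¹ * (MulAut.conj x).toMonoidHom h := by
      simp only [commutatorElement_def, MulEquiv.coe_toMonoidHom, MulAut.conj_apply]
      group
    rw [this]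
    apply Subgroup.mul_mem
    · apply (le_sup_right : L H (m + 1) ≤ _)
      rw [L_succ]; exact Subgroup.inv_mem _ (Subgroup.commutator_mem_commutator hx hh)
    · exact (le_sup_left : H.map (MulAut.conj x).toMonoidHom ≤ _) ⟨h, hh, rfl⟩

/-- A subgroup H of a group G is subnormal exactly when, for some m, the subgroup obtained from G by taking the commutator with H m times in succession is contained in H. -/
theorem result {G : Type*} [Group G] (H : Subgroup G) : H.IsSubnormal ↔ ∃ m : ℕ, (fun K : Subgroup G => ⁅K, H⁆)^[m] ⊤ ≤ H := by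
  change H.IsSubnormal ↔ ∃ m : ℕ, L H m ≤ H
  constructor
  · intro h
    induction h with
    | top => exact ⟨0, le_top⟩
    | step H K h_le hSubn hN ih =>
      obtain ⟨m, hm⟩ := ih
      refine ⟨m + 1, ?_⟩
      rw [L_succ]
      have h1 : L H m ≤ K := (L_mono h_le m).trans hm
      have h2 : K ≤ Subgroup.normalizer (H : Set G) :=
        (Subgroup.normal_subgroupOf_iff_le_normalizer h_le).mp hN
      exact (Subgroup.commutator_mono h1 le_rfl).trans
        (Subgroup.le_normalizer_iff_commutator_le_right.mp h2)
  · rintro ⟨m, hm⟩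
    have key : ∀ i, (H ⊔ L H i).IsSubnormal := by
      intro i
      induction i with
      | zero => rw [L_zero, sup_top_eq]; exact Subgroup.IsSubnormal.top
      | succ i ih =>
        have hle : H ⊔ L H (i + 1) ≤ H ⊔ L H i := sup_le_sup_left (L_succ_le H i) H
        refine Subgroup.IsSubnormal.step _ _ hle ih ?_
        rw [Subgroup.normal_subgroupOf_iff_le_normalizer hle]
        apply sup_le
        · refine le_trans ?_ (Subgroup.normalizer_inf_normalizer_le_normalizer_sup H (L H (i + 1)))
          exact le_inf Subgroup.le_normalizer (le_normalizer_L H (i + 1))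
        · exact L_le_normalizer_sup H i
    have := key m
    rwa [sup_eq_left.mpr hm] at this

end Cfsg.Agent.S0567
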