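import Cfsg.Statements.S0568
import Mathlib
import Cfsg.Agent.S0545
import Cfsg.Agent.Lib.Helper1_MinNormal
import Cfsg.Agent.Lib.Helper1_Cores

set_option autoImplicit false
open Cfsg
open Pointwise
open scoped commutatorElement

namespace Cfsg.Agent.S0568


open Cfsg.Agent.S0543 Cfsg.Agent.Lib.Helper1_MinNormal Cfsg.Agent.Lib.Helper1_Cores

/-- In a finite `q`-group `P` (inside `G`), a nontrivial subgroup `B ≤ P` is not equal to
`⁅B, P⁆`. -/
theorem commutator_ne_self {G : Type*} [Group G] [Finite G] (q : ℕ) [Fact q.Prime]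
    (P : Subgroup G) (hP : IsPGroup q P) (B : Subgroup G) (hBP : B ≤ P) (hB : B ≠ ⊥) :
    ⁅B, P⁆ ≠ B := by
  intro h
  have hnil : Group.IsNilpotent P := hP.isNilpotent
  have hle : ∀ n : ℕ, B ≤ P.lowerCentralSeries n := by
    intro n
    induction n with
    | zero => simpa using hBP
    | succ n ih =>
      rw [Subgroup.lowerCentralSeries_succ]
      calc B = ⁅B, P⁆ := h.symm
        _ ≤ ⁅P.lowerCentralSeries n, P⁆ := Subgroup.commutator_mono ih le_rfl
  have hbot : P.lowerCentralSeries (Group.nilpotencyClass P) = ⊥ :=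
    Subgroup.lowerCentralSeries_eq_bot_of_nilpotencyClass_le le_rfl
  have := hle (Group.nilpotencyClass P)
  rw [hbot] at this
  exact hB (le_bot_iff.1 this)

/-- A system normalizer avoids a non-central minimal normal subgroup. -/
theorem eccentric_avoid {G : Type*} [Group G] [Finite G] [Group.IsSolvable G]
    (K : Nat.Primes → Subgroup G) (hK : Cfsg.IsComplementSystem K) (B : Subgroup G) [hBn : B.Normal]
    (hB : B ≠ ⊥) (hmin : ∀ N : Subgroup G, N.Normal → N ≤ B → N = ⊥ ∨ N = B)
    (hecc : ¬ B ≤ Subgroup.center G) : B ⊓ Cfsg.systemNormalizer K = ⊥ := by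
  by_contra hne
  obtain ⟨⟨x, hx⟩, hx1'⟩ := (Subgroup.ne_bot_iff_exists_ne_one).1 hne
  have hx1 : x ≠ 1 := fun h => hx1' (Subtype.ext h)
  obtain ⟨hxB, hxD⟩ := Subgroup.mem_inf.1 hx
  have hBsolv : Group.IsSolvable B := inferInstance
  obtain ⟨hBcomm, q, hq, hexp⟩ := elementary_abelian_of_minimal B hBsolv hB hmin
  have : Fact q.Prime := ⟨hq⟩
  have hBq : IsPGroup q B := by
    intro b
    refine ⟨1, ?_⟩
    rw [pow_one]
    exact Subtype.ext (hexp b b.2)
  obtain ⟨Q, hQ⟩ : ∃ Q : Subgroup G, Q = K ⟨q, hq⟩ := ⟨_, rfl⟩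
  have hQcard : Nat.card Q = Nat.card G / q ^ (Nat.card G).factorization q := by
    rw [hQ]; exact card_of_isComplementSystem K hK ⟨q, hq⟩
  have hQcop : (Nat.card Q).Coprime q := by
    rw [hQcard]
    exact (Nat.coprime_ordCompl hq Nat.card_pos.ne').symm
  have hBQ : B ⊓ Q = ⊥ := by
    rw [← disjoint_iff]
    apply Subgroup.disjoint_of_coprime_natCard
    obtain ⟨n, hn⟩ := hBq.exists_card_eq
    rw [hn]
    exact Nat.Coprime.pow_left n hQcop.symm
  -- `x` centralizes `Q`
  have hxN : x ∈ Subgroup.normalizer ((Q : Subgroup G) : Set G) := by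
    rw [hQ]; exact (Subgroup.mem_iInf.1 hxD) ⟨q, hq⟩
  have hxQ : ∀ c ∈ Q, c * x * c⁻¹ = x := by
    intro c hc
    have h1 : x * c * x⁻¹ * c⁻¹ ∈ Q :=
      Q.mul_mem ((Subgroup.mem_normalizer_iff.1 hxN c).1 hc) (Q.inv_mem hc)
    have h2 : x * c * x⁻¹ * c⁻¹ ∈ B := by
      have := B.mul_mem hxB (hBn.conj_mem x⁻¹ (B.inv_mem hxB) c)
      have e : x * (c * x⁻¹ * c⁻¹) = x * c * x⁻¹ * c⁻¹ := by group
      rw [e] at this; exact this
    have h3 : x * c * x⁻¹ * c⁻¹ ∈ B ⊓ Q := ⟨h2, h1⟩
    rw [hBQ, Subgroup.mem_bot] at h3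
    have e : c * x * c⁻¹ = (x * c * x⁻¹ * c⁻¹)⁻¹ * x := by group
    rw [e, h3, inv_one, one_mul]
  -- a Sylow `q`-subgroup containing `B`
  obtain ⟨P⟩ : Nonempty (Sylow q G) := inferInstance
  have hBP : B ≤ (P : Subgroup G) := (le_pCore hBn hBq).trans (pCore_le_sylow q P)
  have hcompl : Subgroup.IsComplement' (P : Subgroup G) Q := by
    apply Subgroup.isComplement'_of_coprime
    · rw [P.card_eq_multiplicity, hQcard]
      exact Nat.ordProj_mul_ordCompl_eq_self (Nat.card G) q
    · rw [P.card_eq_multiplicity]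
      exact Nat.Coprime.pow_left _ hQcop.symm
  have hdecomp : ∀ g : G, ∃ u ∈ (P : Subgroup G), ∃ c ∈ Q, g = u * c := by
    intro g
    obtain ⟨⟨u, c⟩, huc, -⟩ := hcompl.existsUnique g
    exact ⟨u.1, u.2, c.1, c.2, huc.symm⟩
  have hconj : ∀ g : G, ∃ u ∈ (P : Subgroup G), g * x * g⁻¹ = u * x * u⁻¹ := by
    intro g
    obtain ⟨u, hu, c, hc, rfl⟩ := hdecomp g
    refine ⟨u, hu, ?_⟩
    have e : u * c * x * (u * c)⁻¹ = u * (c * x * c⁻¹) * u⁻¹ := by group
    rw [e, hxQ c hc]
  -- the subgroup generated by the commutators of `x` with `P`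
  obtain ⟨S, hS⟩ : ∃ S : Set G, S = {y | ∃ u ∈ (P : Subgroup G), y = ⁅u, x⁆} := ⟨_, rfl⟩
  have hSB : S ⊆ B := by
    rw [hS]
    rintro y ⟨u, hu, rfl⟩
    rw [commutatorElement_def]
    have := B.mul_mem (hBn.conj_mem x hxB u) (B.inv_mem hxB)
    exact this
  have hH₀B : Subgroup.normalClosure S ≤ B := Subgroup.normalClosure_le_normal hSB
  have hH₀T : Subgroup.normalClosure S ≤ ⁅(P : Subgroup G), B⁆ := by
    unfold Subgroup.normalClosure
    rw [Subgroup.closure_le]
    intro y hy
    rw [Group.mem_conjugatesOfSet_iff] at hy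
    obtain ⟨s, hs, hsy⟩ := hy
    rw [hS] at hs
    obtain ⟨u, hu, rfl⟩ := hs
    rw [isConj_iff] at hsy
    obtain ⟨g, rfl⟩ := hsy
    obtain ⟨u', hu', h1⟩ := hconj (g * u)
    obtain ⟨u'', hu'', h2⟩ := hconj g
    have e : g * ⁅u, x⁆ * g⁻¹ = (g * u * x * (g * u)⁻¹) * (g * x * g⁻¹)⁻¹ := by
      rw [commutatorElement_def]; group
    rw [e, h1, h2]
    have e2 : u' * x * u'⁻¹ * (u'' * x * u''⁻¹)⁻¹ = ⁅u', x⁆ * ⁅u'', x⁆⁻¹ := by
      rw [commutatorElement_def, commutatorElement_def]; group
    rw [e2]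
    exact Subgroup.mul_mem _ (Subgroup.commutator_mem_commutator hu' hxB)
      (Subgroup.inv_mem _ (Subgroup.commutator_mem_commutator hu'' hxB))
  rcases hmin (Subgroup.normalClosure S) Subgroup.normalClosure_normal hH₀B with h0 | h0
  · -- `x` is central
    have hxP : ∀ u ∈ (P : Subgroup G), u * x = x * u := by
      intro u hu
      have h1 : ⁅u, x⁆ ∈ Subgroup.normalClosure S := by
        apply Subgroup.subset_normalClosure
        rw [hS]; exact ⟨u, hu, rfl⟩
      rw [h0, Subgroup.mem_bot, commutatorElement_eq_one_iff_mul_comm] at h1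
      exact h1
    have hxc : x ∈ Subgroup.center G := by
      rw [Subgroup.mem_center_iff]
      intro g
      obtain ⟨u, hu, c, hc, rfl⟩ := hdecomp g
      have h1 := hxQ c hc
      have h2 : c * x = x * c := by
        calc c * x = (c * x * c⁻¹) * c := by group
          _ = x * c := by rw [h1]
      rw [mul_assoc, h2, ← mul_assoc, hxP u hu, mul_assoc]
    have hzn : (Subgroup.zpowers x).Normal := by
      constructor
      intro y hy g
      obtain ⟨k, rfl⟩ := Subgroup.mem_zpowers_iff.1 hy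
      have : g * x ^ k * g⁻¹ = x ^ k := by
        have h3 : x ^ k ∈ Subgroup.center G := Subgroup.zpow_mem _ hxc k
        have := Subgroup.mem_center_iff.1 h3 g
        rw [this, mul_inv_cancel_right]
      rw [this]
      exact Subgroup.zpow_mem_zpowers x k
    have hzB : Subgroup.zpowers x ≤ B := (Subgroup.zpowers_le).2 hxB
    rcases hmin _ hzn hzB with h1 | h1
    · exact hx1 ((Subgroup.zpowers_eq_bot).1 h1)
    · apply hecc
      rw [← h1, Subgroup.zpowers_le]
      exact hxc
  · -- contradiction with nilpotency of `P`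
    have h1 : B ≤ ⁅B, (P : Subgroup G)⁆ := by
      rw [Subgroup.commutator_comm]
      calc B = Subgroup.normalClosure S := h0.symm
        _ ≤ ⁅(P : Subgroup G), B⁆ := hH₀T
    have h2 : ⁅B, (P : Subgroup G)⁆ ≤ B := Subgroup.commutator_le_left B _
    exact commutator_ne_self q (P : Subgroup G) P.isPGroup' B hBP hB (le_antisymm h2 h1)

/-- Let D be the system normalizer of a Hall complement system of a finite solvable group G, and let A < B be normal subgroups with no normal subgroup of G strictly between them (a chief factor). If G centralizes B modulo A then B ≤ A ⊔ D (D covers the factor); otherwise B ∩ D ≤ A (D avoids it). -/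
theorem result {G : Type*} [Group G] [Finite G] [Group.IsSolvable G] (K : Nat.Primes → Subgroup G) (hK : Cfsg.IsComplementSystem K) (A B : Subgroup G) [A.Normal] [B.Normal] (hAB : A < B) (hchief : ∀ N : Subgroup G, N.Normal → A ≤ N → N ≤ B → N = A ∨ N = B) : (⁅B, (⊤ : Subgroup G)⁆ ≤ A → B ≤ A ⊔ Cfsg.systemNormalizer K) ∧ (¬ ⁅B, (⊤ : Subgroup G)⁆ ≤ A → B ⊓ Cfsg.systemNormalizer K ≤ A) := by
  obtain ⟨hKbar, hDbar⟩ := Cfsg.Agent.S0545.result K hK A
  have hAB' : A ≤ B := hAB.le
  constructor
  · -- central factor: covered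
    intro hcen b hb
    have hbc : QuotientGroup.mk' A b ∈ Subgroup.center (G ⧸ A) := by
      rw [Subgroup.mem_center_iff]
      intro gbar
      obtain ⟨g, rfl⟩ := QuotientGroup.mk'_surjective A gbar
      have h1 : ⁅b, g⁆ ∈ A := hcen (Subgroup.commutator_mem_commutator hb (Subgroup.mem_top g))
      have h2 : QuotientGroup.mk' A ⁅b, g⁆ = 1 := (QuotientGroup.eq_one_iff _).2 h1
      rw [map_commutatorElement, commutatorElement_eq_one_iff_mul_comm] at h2
      exact h2.symm
    have hbD : QuotientGroup.mk' A b ∈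
        Cfsg.systemNormalizer (fun p => (K p).map (QuotientGroup.mk' A)) := by
      apply Subgroup.mem_iInf.2
      intro p
      exact Subgroup.center_le_normalizer _ hbc
    rw [hDbar] at hbD
    obtain ⟨d, hd, hdb⟩ := hbD
    have h3 : d⁻¹ * b ∈ A := by
      have : QuotientGroup.mk' A (d⁻¹ * b) = 1 := by
        rw [map_mul, map_inv, hdb, inv_mul_cancel]
      exact (QuotientGroup.eq_one_iff _).1 this
    have e : b = d * (d⁻¹ * b) := by group
    rw [e, sup_comm]
    exact Subgroup.mul_mem_sup hd h3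
  · -- eccentric factor: avoided
    intro hecc x hx
    obtain ⟨hxB, hxD⟩ := Subgroup.mem_inf.1 hx
    obtain ⟨Bbar, hBbar⟩ : ∃ Bbar : Subgroup (G ⧸ A), Bbar = B.map (QuotientGroup.mk' A) :=
      ⟨_, rfl⟩
    have hBn : Bbar.Normal := by
      rw [hBbar]
      exact Subgroup.Normal.map inferInstance _ (QuotientGroup.mk'_surjective A)
    have hBne : Bbar ≠ ⊥ := by
      intro h
      apply hAB.not_ge
      intro b hb
      have h1 : QuotientGroup.mk' A b ∈ Bbar := by rw [hBbar]; exact Subgroup.mem_map_of_mem _ hb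
      rw [h, Subgroup.mem_bot] at h1
      exact (QuotientGroup.eq_one_iff _).1 h1
    have hBmin : ∀ N : Subgroup (G ⧸ A), N.Normal → N ≤ Bbar → N = ⊥ ∨ N = Bbar := by
      intro N hN hNB
      have hcn : (N.comap (QuotientGroup.mk' A)).Normal := hN.comap _
      have hA_le : A ≤ N.comap (QuotientGroup.mk' A) := by
        intro a ha
        rw [Subgroup.mem_comap]
        have : QuotientGroup.mk' A a = 1 := (QuotientGroup.eq_one_iff _).2 ha
        rw [this]; exact N.one_mem
      have hle_B : N.comap (QuotientGroup.mk' A) ≤ B := by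
        intro y hy
        have h1 : QuotientGroup.mk' A y ∈ Bbar := hNB hy
        rw [hBbar] at h1
        obtain ⟨b, hb, hby⟩ := h1
        have h2 : b⁻¹ * y ∈ A := by
          have : QuotientGroup.mk' A (b⁻¹ * y) = 1 := by
            rw [map_mul, map_inv, hby, inv_mul_cancel]
          exact (QuotientGroup.eq_one_iff _).1 this
        have e : y = b * (b⁻¹ * y) := by group
        rw [e]
        exact B.mul_mem hb (hAB' h2)
      have hmc : (N.comap (QuotientGroup.mk' A)).map (QuotientGroup.mk' A) = N :=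
        Subgroup.map_comap_eq_self_of_surjective (QuotientGroup.mk'_surjective A) N
      rcases hchief _ hcn hA_le hle_B with h1 | h1
      · left
        rw [← hmc, h1]
        rw [eq_bot_iff]
        rintro _ ⟨a, ha, rfl⟩
        exact (QuotientGroup.eq_one_iff _).2 ha
      · right
        rw [← hmc, h1, hBbar]
    have hBecc : ¬ Bbar ≤ Subgroup.center (G ⧸ A) := by
      intro hcen
      apply hecc
      rw [Subgroup.commutator_le]
      intro b hb g _
      have h1 : QuotientGroup.mk' A b ∈ Subgroup.center (G ⧸ A) :=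
        hcen (by rw [hBbar]; exact Subgroup.mem_map_of_mem _ hb)
      have h2 := Subgroup.mem_center_iff.1 h1 (QuotientGroup.mk' A g)
      have h3 : QuotientGroup.mk' A ⁅b, g⁆ = 1 := by
        rw [map_commutatorElement, commutatorElement_eq_one_iff_mul_comm]
        exact h2.symm
      exact (QuotientGroup.eq_one_iff _).1 h3
    have hsol : Group.IsSolvable (G ⧸ A) :=
      Group.isSolvable_of_surjective (QuotientGroup.mk'_surjective A)
    have key := eccentric_avoid (fun p => (K p).map (QuotientGroup.mk' A)) hKbar Bbar hBne hBmin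
      hBecc
    have h1 : QuotientGroup.mk' A x ∈
        Bbar ⊓ Cfsg.systemNormalizer (fun p => (K p).map (QuotientGroup.mk' A)) := by
      refine ⟨?_, ?_⟩
      · rw [hBbar]; exact Subgroup.mem_map_of_mem _ hxB
      · rw [hDbar]; exact Subgroup.mem_map_of_mem _ hxD
    rw [key, Subgroup.mem_bot] at h1
    exact (QuotientGroup.eq_one_iff _).1 h1

end Cfsg.Agent.S0568
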