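import Cfsg.Statements.S0569
-- import your own Cfsg.Agent.* helpers here
import Cfsg.Agent.Lib.Helper9_Carter

set_option autoImplicit false
open Cfsg

namespace Cfsg.Agent.S0569

open Pointwise
open Cfsg.Agent.S0045 Cfsg.Agent.Lib.Helper9_Carter

/-- conjugating a system conjugates its system normalizer (one inclusion) -/
theorem systemNormalizer_conj_le {G : Type*} [Group G] (K K' : Nat.Primes → Subgroup G) (g : G)
    (hg : ∀ p : Nat.Primes, MulAut.conj g • K p = K' p) :
    Cfsg.systemNormalizer K' ≤ MulAut.conj g • Cfsg.systemNormalizer K := by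
  intro d hd
  rw [Subgroup.mem_pointwise_smul_iff_inv_smul_mem, ← map_inv, MulAut.smul_def, MulAut.conj_apply,
    inv_inv]
  apply Subgroup.mem_iInf.2
  intro p
  have hdp : d ∈ Subgroup.normalizer (K' p : Set G) := (Subgroup.mem_iInf.1 hd) p
  apply mem_normalizer_of_conj_smul_eq
  have h1 := conj_smul_eq_of_mem_normalizer hdp
  have h2 : MulAut.conj (g⁻¹ * d * g) • K p
      = MulAut.conj g⁻¹ • (MulAut.conj d • (MulAut.conj g • K p)) := by
    rw [smul_smul, smul_smul, ← map_mul, ← map_mul]
  rw [h2, hg p, h1, ← hg p, smul_smul, ← map_mul, inv_mul_cancel, map_one, one_smul]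

/-- In a finite solvable group: each nilpotent self-normalizing subgroup contains the system normalizer of some Hall complement system, and the system normalizer of any Hall complement system lies in some nilpotent self-normalizing subgroup. -/
theorem result {G : Type*} [Group G] [Finite G] [Group.IsSolvable G] : (∀ C : Subgroup G, Cfsg.IsCarterSubgroup C → ∃ K : Nat.Primes → Subgroup G, Cfsg.IsComplementSystem K ∧ Cfsg.systemNormalizer K ≤ C) ∧ ∀ K : Nat.Primes → Subgroup G, Cfsg.IsComplementSystem K → ∃ C : Subgroup G, Cfsg.IsCarterSubgroup C ∧ Cfsg.systemNormalizer K ≤ C := by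
  have part1 : ∀ C : Subgroup G, Cfsg.IsCarterSubgroup C → ∃ K : Nat.Primes → Subgroup G,
      Cfsg.IsComplementSystem K ∧ Cfsg.systemNormalizer K ≤ C := by
    intro C hC
    obtain ⟨K, hK, hred⟩ := exists_reducesInto C
    exact ⟨K, hK, systemNormalizer_le_carter (C := C) hC hK hred⟩
  refine ⟨part1, ?_⟩
  intro K' hK'
  obtain ⟨C₀, hC₀⟩ := (Cfsg.Agent.S0045.main (Nat.card G) G rfl).1
  obtain ⟨K₀, hK₀, hle⟩ := part1 C₀ hC₀
  obtain ⟨g, hg⟩ := Cfsg.Agent.S0543.result K₀ K' hK₀ hK'
  refine ⟨MulAut.conj g • C₀, hC₀.conj g, ?_⟩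
  refine (systemNormalizer_conj_le K₀ K' g hg).trans ?_
  exact Subgroup.pointwise_smul_le_pointwise_smul_iff.2 hle

end Cfsg.Agent.S0569
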