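import Cfsg.Statements.S0570
-- import your own Cfsg.Agent.* helpers here
import Cfsg.Agent.Lib.Helper9_Carter
import Cfsg.Agent.S0569

set_option autoImplicit false
open Cfsg

namespace Cfsg.Agent.S0570

open Pointwise
open Cfsg.Agent.S0045 Cfsg.Agent.S0543 Cfsg.Agent.Lib.Helper9_Carter

universe u

section lemmas

variable {G : Type*} [Group G]

/-- index of a join of two pairs, the second pair normal -/
theorem relIndex_sup_sup_dvd [Finite G] (A B M N : Subgroup G) [M.Normal] [N.Normal]
    (hMN : M ≤ N) : (A ⊔ M).relIndex (B ⊔ N) ∣ A.relIndex B * M.relIndex N := by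
  have h0 : (A ⊔ M).relIndex (B ⊔ N) ∣ (A ⊔ M).relIndex (B ⊔ M) * (B ⊔ M).relIndex (B ⊔ N) := by
    have h1 := Subgroup.relIndex_inf_mul_relIndex (A ⊔ M) (B ⊔ M) (B ⊔ N)
    have h2 : (B ⊔ M) ⊓ (B ⊔ N) = B ⊔ M := inf_eq_left.2 (sup_le_sup_left hMN B)
    rw [h2] at h1
    rw [h1]
    exact Subgroup.relIndex_dvd_of_le_left _ inf_le_left
  refine h0.trans (Nat.mul_dvd_mul ?_ ?_)
  · have := relIndex_map_map_dvd (QuotientGroup.mk' M) A B
    rwa [Subgroup.relIndex_map_map, QuotientGroup.ker_mk'] at this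
  · have h1 : (B ⊔ M).relIndex (B ⊔ N) =
        (B.map (QuotientGroup.mk' M)).relIndex ((B ⊔ N).map (QuotientGroup.mk' M)) := by
      rw [Subgroup.relIndex_map_map, QuotientGroup.ker_mk', sup_assoc, sup_eq_left.2 hMN]
    have hNn : (N.map (QuotientGroup.mk' M)).Normal :=
      Subgroup.Normal.map inferInstance _ (QuotientGroup.mk'_surjective M)
    rw [h1, Subgroup.map_sup, relIndex_sup_of_normal]
    have e : M.relIndex N =
        ((⊥ : Subgroup G).map (QuotientGroup.mk' M)).relIndex (N.map (QuotientGroup.mk' M)) := by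
      rw [Subgroup.relIndex_map_map, QuotientGroup.ker_mk', bot_sup_eq, sup_eq_left.2 hMN]
    rw [e, Subgroup.map_bot]
    exact Subgroup.relIndex_dvd_of_le_left _ bot_le

/-- a Hall subgroup of a nilpotent subgroup is normalized by it -/
theorem le_normalizer_of_hall_of_isNilpotent [Finite G] (X A : Subgroup G)
    (hX : Group.IsNilpotent X) (hAX : A ≤ X) (hcop : (Nat.card A).Coprime (A.relIndex X)) :
    X ≤ Subgroup.normalizer (A : Set G) := by
  have : (A.subgroupOf X).Normal := by
    apply normal_of_hall_of_isNilpotent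
    have hc : Nat.card (A.subgroupOf X) = Nat.card A :=
      Nat.card_congr (Subgroup.subgroupOfEquivOfLe hAX).toEquiv
    rw [hc]; exact hcop
  exact Subgroup.le_normalizer_of_normal_subgroupOf hAX

/-- a normal Hall subgroup of a normal subgroup is normal -/
theorem normal_of_hall_of_normal [Finite G] (F A : Subgroup G) [F.Normal] (hAF : A ≤ F)
    (hAn : F ≤ Subgroup.normalizer (A : Set G)) (hcop : (Nat.card A).Coprime (A.relIndex F)) :
    A.Normal := by
  have hAn' : (A.subgroupOf F).Normal := Subgroup.normal_subgroupOf_of_le_normalizer hAn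
  have key : ∀ g : G, MulAut.conj g • A ≤ A := by
    intro g
    have h1 : MulAut.conj g • A ≤ F := by
      have h2 : MulAut.conj g • F = F := Subgroup.Normal.conj_smul_eq_self g F
      rw [← h2]
      exact Subgroup.pointwise_smul_le_pointwise_smul_iff.2 hAF
    have h3 : ((MulAut.conj g • A : Subgroup G).subgroupOf F) ≤ A.subgroupOf F := by
      apply le_normal_of_coprime_card_index
      have hc : Nat.card ((MulAut.conj g • A : Subgroup G).subgroupOf F) = Nat.card A := by
        rw [← card_conj_smul g A]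
        exact Nat.card_congr (Subgroup.subgroupOfEquivOfLe h1).toEquiv
      rw [hc]; exact hcop
    intro x hx
    have : (⟨x, h1 hx⟩ : F) ∈ A.subgroupOf F := h3 (by rw [Subgroup.mem_subgroupOf]; exact hx)
    rwa [Subgroup.mem_subgroupOf] at this
  constructor
  intro x hx g
  apply key g
  rw [Subgroup.mem_pointwise_smul_iff_inv_smul_mem, ← map_inv, MulAut.smul_def, MulAut.conj_apply,
    inv_inv]
  have : g⁻¹ * (g * x * g⁻¹) * g = x := by group
  rw [this]; exact hx

end lemmas

section main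

open Cfsg

theorem carter_le_systemNormalizer {G : Type u} [Group G] [Finite G]
    (F : Subgroup G) [F.Normal] (hF : Group.IsNilpotent F) (C : Subgroup G) (hC : IsCarter C)
    (hCF : C ⊔ F = ⊤) (K : Nat.Primes → Subgroup G) (hK : Cfsg.IsComplementSystem K)
    (hred : ReducesInto K C) : C ≤ Cfsg.systemNormalizer K := by
  apply le_iInf
  intro p
  obtain ⟨a, ha⟩ := hred p
  have hp : (p : ℕ).Prime := p.2
  have hcop := coprime_card_of_isComplementSystem hK p
  obtain ⟨b, hb⟩ : ∃ b : ℕ, (K p).relIndex F = (p : ℕ) ^ b := by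
    have h1 : (K p).relIndex F ∣ (K p).index := by
      rw [← relIndex_sup_of_normal]; exact Subgroup.relIndex_dvd_index_of_le le_sup_left
    rw [hK p] at h1
    obtain ⟨b, -, hb⟩ := (Nat.dvd_prime_pow hp).1 h1
    exact ⟨b, hb⟩
  obtain ⟨Cp, hCp⟩ : ∃ Cp : Subgroup G, Cp = K p ⊓ C := ⟨_, rfl⟩
  obtain ⟨Fp, hFp⟩ : ∃ Fp : Subgroup G, Fp = K p ⊓ F := ⟨_, rfl⟩
  have hCpC : Cp ≤ C := hCp ▸ inf_le_right
  have hFpF : Fp ≤ F := hFp ▸ inf_le_right
  have hCpK : Cp ≤ K p := hCp ▸ inf_le_left
  have hFpK : Fp ≤ K p := hFp ▸ inf_le_left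
  have hCpi : Cp.relIndex C = (p : ℕ) ^ a := by rw [hCp, Subgroup.inf_relIndex_right]; exact ha
  have hFpi : Fp.relIndex F = (p : ℕ) ^ b := by rw [hFp, Subgroup.inf_relIndex_right]; exact hb
  have hCpc : (Nat.card Cp).Coprime (p : ℕ) :=
    (Nat.Coprime.coprime_dvd_right (Subgroup.card_dvd_of_le hCpK) hcop).symm
  have hFpc : (Nat.card Fp).Coprime (p : ℕ) :=
    (Nat.Coprime.coprime_dvd_right (Subgroup.card_dvd_of_le hFpK) hcop).symm
  have hCn : C ≤ Subgroup.normalizer (Cp : Set G) :=
    le_normalizer_of_hall_of_isNilpotent C Cp hC.1 hCpC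
      (by rw [hCpi]; exact Nat.Coprime.pow_right _ hCpc)
  have hFn : F ≤ Subgroup.normalizer (Fp : Set G) :=
    le_normalizer_of_hall_of_isNilpotent F Fp hF hFpF
      (by rw [hFpi]; exact Nat.Coprime.pow_right _ hFpc)
  have hFpn : Fp.Normal := normal_of_hall_of_normal F Fp hFpF hFn
    (by rw [hFpi]; exact Nat.Coprime.pow_right _ hFpc)
  have hidx : (Cp ⊔ Fp).index ∣ (p : ℕ) ^ (a + b) := by
    have := relIndex_sup_sup_dvd Cp C Fp F hFpF
    rwa [hCF, Subgroup.relIndex_top_right, hCpi, hFpi, ← pow_add] at this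
  have hKeq : K p = Cp ⊔ Fp := by
    apply le_antisymm _ (sup_le hCpK hFpK)
    rw [← Subgroup.relIndex_eq_one]
    have h1 : (Cp ⊔ Fp).relIndex (K p) ∣ Nat.card (K p) := Subgroup.relIndex_dvd_card _ _
    have h2 : (Cp ⊔ Fp).relIndex (K p) ∣ (p : ℕ) ^ (a + b) :=
      (Subgroup.relIndex_dvd_index_of_le (sup_le hCpK hFpK)).trans hidx
    exact Nat.eq_one_of_dvd_coprimes (Nat.Coprime.pow_left _ hcop) h2 h1
  intro c hc
  apply mem_normalizer_of_conj_smul_eq
  rw [hKeq, Subgroup.smul_sup, conj_smul_eq_of_mem_normalizer (hCn hc),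
    Subgroup.Normal.conj_smul_eq_self c Fp]

end main

/-- Let G be a finite group with a nilpotent normal subgroup F such that G modulo F is nilpotent (nilpotent length at most two). Then a subgroup of G is a Carter subgroup if and only if it is the system normalizer of some Hall complement system. -/
theorem result {G : Type*} [Group G] [Finite G] (F : Subgroup G) [F.Normal] (hF : Group.IsNilpotent F) (hGF : Group.IsNilpotent (G ⧸ F)) (C : Subgroup G) : Cfsg.IsCarterSubgroup C ↔ ∃ K : Nat.Primes → Subgroup G, Cfsg.IsComplementSystem K ∧ C = Cfsg.systemNormalizer K := by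
  have hFs : Group.IsSolvable F := inferInstance
  have hGFs : Group.IsSolvable (G ⧸ F) := inferInstance
  have hGs : Group.IsSolvable G :=
    Group.isSolvable_of_ker_le_range F.subtype (QuotientGroup.mk' F)
      (by rw [QuotientGroup.ker_mk', Subgroup.range_subtype])
  have key : ∀ C₀ : Subgroup G, IsCarter C₀ → ∀ K₀ : Nat.Primes → Subgroup G,
      Cfsg.IsComplementSystem K₀ → ReducesInto K₀ C₀ → C₀ = Cfsg.systemNormalizer K₀ := by
    intro C₀ hC₀ K₀ hK₀ hred
    have hCF : C₀ ⊔ F = ⊤ := by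
      have h1 := (hC₀.map_mk' (conjBelow_all _) F).eq_top_of_isNilpotent
      have h2 := congrArg (Subgroup.comap (QuotientGroup.mk' F)) h1
      rwa [Subgroup.comap_map_eq, QuotientGroup.ker_mk', Subgroup.comap_top] at h2
    exact le_antisymm (carter_le_systemNormalizer F hF C₀ hC₀ hCF K₀ hK₀ hred)
      (systemNormalizer_le_carter hC₀ hK₀ hred)
  constructor
  · intro hC
    obtain ⟨K, hK, hred⟩ := exists_reducesInto C
    exact ⟨K, hK, key C hC K hK hred⟩
  · rintro ⟨K', hK', rfl⟩
    obtain ⟨C₀, hC₀⟩ := (Cfsg.Agent.S0045.main (Nat.card G) G rfl).1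
    obtain ⟨K₀, hK₀, hred⟩ := exists_reducesInto C₀
    have h0 := key C₀ hC₀ K₀ hK₀ hred
    obtain ⟨g, hg⟩ := Cfsg.Agent.S0543.result K₀ K' hK₀ hK'
    have h1 : Cfsg.systemNormalizer K' = MulAut.conj g • Cfsg.systemNormalizer K₀ := by
      apply le_antisymm (Cfsg.Agent.S0569.systemNormalizer_conj_le K₀ K' g hg)
      have h2 := Cfsg.Agent.S0569.systemNormalizer_conj_le K' K₀ g⁻¹
        (fun p => by rw [← hg p, smul_smul, ← map_mul, inv_mul_cancel, map_one, one_smul])
      have h3 := (Subgroup.pointwise_smul_le_pointwise_smul_iff (a := MulAut.conj g)).2 h2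
      rwa [smul_smul, ← map_mul, mul_inv_cancel, map_one, one_smul] at h3
    have h4 : IsCarter (MulAut.conj g • C₀) := hC₀.conj g
    rw [h1, ← h0]
    exact h4

end Cfsg.Agent.S0570
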