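import Cfsg.Statements.S0571
import Mathlib
import Cfsg.Agent.Lib.Helper9_Supersolvable
import Cfsg.Agent.Lib.Helper9_Supersolvable2
import Cfsg.Agent.Lib.Helper9_Supersolvable4
import Cfsg.Agent.Lib.Helper34_Sylow
import Cfsg.Agent.S0560
import Cfsg.Agent.S4370

set_option autoImplicit false
open Cfsg

namespace Cfsg.Agent.S0571

open Cfsg.Agent.Lib.Helper34_Sylow

universe u

/-- A proper subgroup with `|G| ≤ |A|²` meets each of its conjugates nontrivially. -/
theorem inf_cj_ne_bot {G : Type*} [Group G] [Finite G] (A : Subgroup G) (hA : A ≠ ⊤)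
    (hc : Nat.card G ≤ Nat.card A * Nat.card A) (g : G) : A ⊓ cj g A ≠ ⊥ := by
  intro hbot
  have hprod : ∀ t ∈ (⊤ : Subgroup G), ∃ a ∈ A, ∃ b ∈ cj g A, t = a * b := by
    rw [Cfsg.Agent.S0560.prod_iff A ⊤ (cj g A) le_top]
    have h1 : (cj g A).relIndex A = Nat.card A := by
      rw [← Subgroup.inf_relIndex_left, hbot, Subgroup.relIndex_bot_left]
    have h2 : (cj g A).relIndex ⊤ * Nat.card A = Nat.card G := by
      rw [Subgroup.relIndex_top_right, ← card_cj g A, mul_comm, Subgroup.card_mul_index]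
    have h3 : (cj g A).relIndex A ≤ (cj g A).relIndex ⊤ :=
      Subgroup.relIndex_le_of_le_right le_top Subgroup.index_ne_zero_of_finite
    have hpos : 0 < Nat.card A := Nat.card_pos
    have h4 : (cj g A).relIndex ⊤ ≤ Nat.card A := by
      by_contra hlt
      push Not at hlt
      have := Nat.mul_lt_mul_of_pos_right hlt hpos
      omega
    omega
  obtain ⟨a, ha, b, hb, hab⟩ := hprod g⁻¹ (Subgroup.mem_top _)
  rw [mem_cj] at hb
  have hgA : g ∈ A := by
    have hb' : b = a⁻¹ * g⁻¹ := by rw [hab]; group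
    rw [hb'] at hb
    have e : g⁻¹ * (a⁻¹ * g⁻¹) * g = g⁻¹ * a⁻¹ := by group
    rw [e] at hb
    have h1 := A.mul_mem hb ha
    have e2 : g⁻¹ * a⁻¹ * a = g⁻¹ := by group
    rw [e2] at h1
    exact (Subgroup.inv_mem_iff A).1 h1
  have h5 : cj g A = A := cj_eq_self_of_mem hgA
  rw [h5, inf_idem] at hbot
  apply hA
  have hcard : Nat.card G ≤ 1 := by
    rw [hbot] at hc
    simpa using hc
  have : Subsingleton G := by
    rcases Nat.lt_or_ge (Nat.card G) 1 with h | h
    · have := Nat.card_pos (α := G); omega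
    · exact (Nat.card_eq_one_iff_unique.1 (le_antisymm hcard h)).1
  exact Subsingleton.elim _ _

theorem mem_normalizer_of_cj_eq {G : Type*} [Group G] {g : G} {U : Subgroup G}
    (h : cj g⁻¹ U = U) : g ∈ Subgroup.normalizer (U : Set G) := by
  rw [Subgroup.mem_normalizer_iff]
  intro x
  conv_lhs => rw [← h]
  rw [mem_cj, inv_inv]

/-- If `G = AB`, `A`, `B` cyclic, `|B| ≤ |A|`, `A ≠ G` then `A` contains a nontrivial normal
subgroup of `G`. -/
theorem exists_normal {G : Type*} [Group G] [Finite G] (A B : Subgroup G) [IsCyclic A]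
    [IsCyclic B] (hAB : ∀ g : G, ∃ a ∈ A, ∃ b ∈ B, g = a * b)
    (hle : Nat.card B ≤ Nat.card A) (hA : A ≠ ⊤) :
    ∃ N : Subgroup G, N.Normal ∧ N ≠ ⊥ ∧ N ≤ A := by
  have hcard : Nat.card G ≤ Nat.card A * Nat.card A := by
    have h1 := Cfsg.Agent.S0560.index_eq_of_prod A B hAB
    have h2 : Nat.card B * B.index = Nat.card G := Subgroup.card_mul_index B
    have h3 : B.relIndex A ≤ Nat.card A := by
      have := Subgroup.relIndex_dvd_card B A
      exact Nat.le_of_dvd Nat.card_pos this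
    rw [← h2, ← h1]
    exact Nat.mul_le_mul hle h3
  obtain ⟨b, hb⟩ := IsCyclic.exists_generator (α := B)
  refine ⟨A ⊓ cj (b : G) A, ?_, inf_cj_ne_bot A hA hcard (b : G), inf_le_left⟩
  set N := A ⊓ cj (b : G) A with hN
  have hNA : N ≤ A := inf_le_left
  have hbN : (b : G) ∈ Subgroup.normalizer (N : Set G) := by
    apply mem_normalizer_of_cj_eq
    apply Cfsg.Agent.S4370.eq_of_card_eq_of_le_cyclic A _ _ _ hNA (card_cj _ _)
    rw [cj_le_iff, inv_inv]
    exact inf_le_right
  have hBN : B ≤ Subgroup.normalizer (N : Set G) := by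
    intro x hx
    obtain ⟨k, hk⟩ := Subgroup.mem_zpowers_iff.1 (hb ⟨x, hx⟩)
    have : x = (b : G) ^ k := by
      have := congrArg Subtype.val hk
      simpa using this.symm
    rw [this]
    exact Subgroup.zpow_mem _ hbN k
  have hAN : A ≤ Subgroup.normalizer (N : Set G) := by
    intro a ha
    rw [Subgroup.mem_normalizer_iff]
    intro x
    have hcomm : ∀ y ∈ A, a * y * a⁻¹ = y := by
      intro y hy
      have := mul_comm' (⟨a, ha⟩ : A) ⟨y, hy⟩
      have h' : a * y = y * a := congrArg Subtype.val this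
      rw [h']; group
    constructor
    · intro hx
      rw [hcomm x (hNA hx)]; exact hx
    · intro hx
      have hxA : x ∈ A := by
        have h1 := A.mul_mem (A.mul_mem (A.inv_mem ha) (hNA hx)) ha
        have e : a⁻¹ * (a * x * a⁻¹) * a = x := by group
        rwa [e] at h1
      rw [hcomm x hxA] at hx; exact hx
  rw [← Subgroup.normalizer_eq_top_iff]
  rw [eq_top_iff]
  intro g _
  obtain ⟨a, ha, b', hb', rfl⟩ := hAB g
  exact Subgroup.mul_mem _ (hAN ha) (hBN hb')

theorem exists_normal' {G : Type*} [Group G] [Finite G] (A B : Subgroup G) [IsCyclic A]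
    [IsCyclic B] (hAB : ∀ g : G, ∃ a ∈ A, ∃ b ∈ B, g = a * b) (hnc : ¬ IsCyclic G) :
    ∃ N : Subgroup G, N.Normal ∧ N ≠ ⊥ ∧ IsCyclic N := by
  have hBA : ∀ g : G, ∃ b ∈ B, ∃ a ∈ A, g = b * a := by
    intro g
    obtain ⟨a, ha, b, hb, h⟩ := hAB g⁻¹
    refine ⟨b⁻¹, B.inv_mem hb, a⁻¹, A.inv_mem ha, ?_⟩
    rw [← mul_inv_rev, ← h, inv_inv]
  have hne : ∀ C : Subgroup G, IsCyclic C → C ≠ ⊤ := by
    intro C hC h
    apply hnc
    subst h
    exact isCyclic_of_surjective (Subgroup.topEquiv : (⊤ : Subgroup G) ≃* G)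
      Subgroup.topEquiv.surjective
  rcases le_total (Nat.card B) (Nat.card A) with hle | hle
  · obtain ⟨N, hN, hNb, hNA⟩ := exists_normal A B hAB hle (hne A inferInstance)
    exact ⟨N, hN, hNb, isCyclic_of_injective (Subgroup.inclusion hNA)
      (Subgroup.inclusion_injective hNA)⟩
  · obtain ⟨N, hN, hNb, hNB⟩ := exists_normal B A hBA hle (hne B inferInstance)
    exact ⟨N, hN, hNb, isCyclic_of_injective (Subgroup.inclusion hNB)
      (Subgroup.inclusion_injective hNB)⟩

theorem main : ∀ (n : ℕ) (G : Type u) [Group G] [Finite G] (A B : Subgroup G) [IsCyclic A]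
    [IsCyclic B], Nat.card G = n → (∀ g : G, ∃ a ∈ A, ∃ b ∈ B, g = a * b) →
    Cfsg.IsSupersolvable G := by
  intro n
  induction n using Nat.strong_induction_on with
  | _ n ih =>
    intro G _ _ A B _ _ hn hAB
    by_cases hc : IsCyclic G
    · exact Cfsg.Agent.Lib.Helper9_Supersolvable4.isSupersolvable_of_isCyclic
    · obtain ⟨N, hN, hNb, hNc⟩ := exists_normal' A B hAB hc
      have hlt := Cfsg.Agent.Lib.Helper9_Supersolvable2.card_quotient_lt N hNb
      rw [hn] at hlt
      have hA' : IsCyclic (A.map (QuotientGroup.mk' N)) :=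
        isCyclic_of_surjective ((QuotientGroup.mk' N).subgroupMap A)
          ((QuotientGroup.mk' N).subgroupMap_surjective A)
      have hB' : IsCyclic (B.map (QuotientGroup.mk' N)) :=
        isCyclic_of_surjective ((QuotientGroup.mk' N).subgroupMap B)
          ((QuotientGroup.mk' N).subgroupMap_surjective B)
      have hq := ih _ hlt (G ⧸ N) (A.map (QuotientGroup.mk' N)) (B.map (QuotientGroup.mk' N))
        rfl (by
          intro q
          obtain ⟨g, rfl⟩ := QuotientGroup.mk'_surjective N q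
          obtain ⟨a, ha, b, hb, rfl⟩ := hAB g
          exact ⟨_, Subgroup.mem_map_of_mem _ ha, _, Subgroup.mem_map_of_mem _ hb, map_mul _ _ _⟩)
      exact Cfsg.Agent.Lib.Helper9_Supersolvable.isSupersolvable_of_quotient_cyclic N hq

theorem result {G : Type*} [Group G] [Finite G] (A B : Subgroup G) [IsCyclic A] [IsCyclic B] (hAB : ∀ g : G, ∃ a ∈ A, ∃ b ∈ B, g = a * b) : Cfsg.IsSupersolvable G := by
  exact main _ G A B rfl hAB

end Cfsg.Agent.S0571
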