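import Cfsg.Statements.S0572
import Mathlib

set_option autoImplicit false
open Cfsg
open scoped commutatorElement

namespace Cfsg.Agent.S0572

variable {G : Type*} [Group G]

theorem comm_mul_right (x y z : G) : ⁅x, y * z⁆ = ⁅x, y⁆ * (y * ⁅x, z⁆ * y⁻¹) := by
  simp only [commutatorElement_def]; group

theorem comm_mul_left (x y z : G) : ⁅x * y, z⁆ = (x * ⁅y, z⁆ * x⁻¹) * ⁅x, z⁆ := by
  simp only [commutatorElement_def]; group

theorem conj_comm (g x y : G) : g * ⁅x, y⁆ * g⁻¹ = ⁅g * x * g⁻¹, g * y * g⁻¹⁆ := by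
  simp only [commutatorElement_def]; group

theorem conj_eq_of_comm {x y : G} (h : x * y = y * x) : x * y * x⁻¹ = y := by
  rw [h]; group

/-- the key computation of Itô's theorem -/
theorem key_conj (A B : Subgroup G) (hA : ∀ x ∈ A, ∀ y ∈ A, x * y = y * x)
    (hB : ∀ x ∈ B, ∀ y ∈ B, x * y = y * x)
    {a a₁ a₂ a₃ b b₁ b₂ b₃ : G} (ha : a ∈ A) (ha₁ : a₁ ∈ A) (ha₂ : a₂ ∈ A) (ha₃ : a₃ ∈ A)
    (hb : b ∈ B) (hb₁ : b₁ ∈ B) (hb₂ : b₂ ∈ B) (hb₃ : b₃ ∈ B)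
    (h3 : b₁ * a * b₁⁻¹ = a₃ * b₃) (h2 : a₁ * b * a₁⁻¹ = b₂ * a₂) :
    (a₁ * b₁) * ⁅a, b⁆ * (a₁ * b₁)⁻¹ = ⁅a₃, b₂⁆ ∧ (b₁ * a₁) * ⁅a, b⁆ * (b₁ * a₁)⁻¹ = ⁅a₃, b₂⁆ := by
  have one_of_comm : ∀ x y : G, x * y = y * x → ⁅x, y⁆ = 1 := fun x y h =>
    commutatorElement_eq_one_iff_mul_comm.mpr h
  constructor
  · have e1 : (a₁ * b₁) * ⁅a, b⁆ * (a₁ * b₁)⁻¹ = a₁ * (b₁ * ⁅a, b⁆ * b₁⁻¹) * a₁⁻¹ := by group
    rw [e1, conj_comm b₁, h3, conj_eq_of_comm (hB b₁ hb₁ b hb), comm_mul_left,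
      one_of_comm b₃ b (hB b₃ hb₃ b hb), mul_one, mul_inv_cancel, one_mul, conj_comm a₁,
      conj_eq_of_comm (hA a₁ ha₁ a₃ ha₃), h2, comm_mul_right,
      one_of_comm a₃ a₂ (hA a₃ ha₃ a₂ ha₂), mul_one, mul_inv_cancel, mul_one]
  · have e1 : (b₁ * a₁) * ⁅a, b⁆ * (b₁ * a₁)⁻¹ = b₁ * (a₁ * ⁅a, b⁆ * a₁⁻¹) * b₁⁻¹ := by group
    rw [e1, conj_comm a₁, h2, conj_eq_of_comm (hA a₁ ha₁ a ha), comm_mul_right,
      one_of_comm a a₂ (hA a ha a₂ ha₂), mul_one, mul_inv_cancel, mul_one, conj_comm b₁,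
      conj_eq_of_comm (hB b₁ hb₁ b₂ hb₂), h3, comm_mul_left,
      one_of_comm b₃ b₂ (hB b₃ hb₃ b₂ hb₂), mul_one, mul_inv_cancel, one_mul]

/-- Itô's Theorem: if a group G is the product AB of two abelian subgroups, then the commutator subgroup of G is abelian, i.e. the second term of the derived series is trivial. -/
theorem result {G : Type*} [Group G] (A B : Subgroup G) [IsMulCommutative A] [IsMulCommutative B] (hAB : ∀ g : G, ∃ a ∈ A, ∃ b ∈ B, g = a * b) : derivedSeries G 2 = ⊥ := by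
  have hA : ∀ x ∈ A, ∀ y ∈ A, x * y = y * x := by
    intro x hx y hy
    have := (inferInstance : IsMulCommutative A).is_comm.comm (⟨x, hx⟩ : A) ⟨y, hy⟩
    exact congrArg Subtype.val this
  have hB : ∀ x ∈ B, ∀ y ∈ B, x * y = y * x := by
    intro x hx y hy
    have := (inferInstance : IsMulCommutative B).is_comm.comm (⟨x, hx⟩ : B) ⟨y, hy⟩
    exact congrArg Subtype.val this
  -- G = BA as well
  have hBA : ∀ g : G, ∃ b ∈ B, ∃ a ∈ A, g = b * a := by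
    intro g
    obtain ⟨a, ha, b, hb, h⟩ := hAB g⁻¹
    refine ⟨b⁻¹, B.inv_mem hb, a⁻¹, A.inv_mem ha, ?_⟩
    rw [← mul_inv_rev, ← h, inv_inv]
  -- the generators of ⁅A, B⁆ commute pairwise
  have hgen : ∀ a ∈ A, ∀ b ∈ B, ∀ a₁ ∈ A, ∀ b₁ ∈ B, ⁅a, b⁆ * ⁅a₁, b₁⁆ = ⁅a₁, b₁⁆ * ⁅a, b⁆ := by
    intro a ha b hb a₁ ha₁ b₁ hb₁
    -- apply the key computation with a₁⁻¹, b₁⁻¹
    obtain ⟨a₃, ha₃, b₃, hb₃, h3⟩ := hAB (b₁⁻¹ * a * b₁⁻¹⁻¹)
    obtain ⟨b₂, hb₂, a₂, ha₂, h2⟩ := hBA (a₁⁻¹ * b * a₁⁻¹⁻¹)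
    obtain ⟨k1, k2⟩ := key_conj A B hA hB ha (A.inv_mem ha₁) ha₂ ha₃ hb (B.inv_mem hb₁) hb₂ hb₃ h3 h2
    have k : (a₁⁻¹ * b₁⁻¹) * ⁅a, b⁆ * (a₁⁻¹ * b₁⁻¹)⁻¹ = (b₁⁻¹ * a₁⁻¹) * ⁅a, b⁆ * (b₁⁻¹ * a₁⁻¹)⁻¹ := by
      rw [k1, k2]
    have e : ⁅a₁, b₁⁆ = (b₁⁻¹ * a₁⁻¹)⁻¹ * (a₁⁻¹ * b₁⁻¹) := by
      simp [commutatorElement_def, mul_assoc]
    have k' : ⁅a₁, b₁⁆ * ⁅a, b⁆ * ⁅a₁, b₁⁆⁻¹ = ⁅a, b⁆ := by
      rw [e]
      have : (b₁⁻¹ * a₁⁻¹)⁻¹ * (a₁⁻¹ * b₁⁻¹) * ⁅a, b⁆ * ((b₁⁻¹ * a₁⁻¹)⁻¹ * (a₁⁻¹ * b₁⁻¹))⁻¹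
          = (b₁⁻¹ * a₁⁻¹)⁻¹ * ((a₁⁻¹ * b₁⁻¹) * ⁅a, b⁆ * (a₁⁻¹ * b₁⁻¹)⁻¹) * (b₁⁻¹ * a₁⁻¹) := by group
      rw [this, k]; group
    rw [mul_inv_eq_iff_eq_mul] at k'
    exact k'.symm
  set N : Subgroup G := ⁅A, B⁆ with hN
  have hNcomm : ∀ x ∈ N, ∀ y ∈ N, x * y = y * x := by
    have hc : IsMulCommutative (Subgroup.closure {g | ∃ g₁ ∈ A, ∃ g₂ ∈ B, ⁅g₁, g₂⁆ = g}) := by
      apply Subgroup.isMulCommutative_closure
      rintro _ ⟨a, ha, b, hb, rfl⟩ _ ⟨a₁, ha₁, b₁, hb₁, rfl⟩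
      exact hgen a ha b hb a₁ ha₁ b₁ hb₁
    intro x hx y hy
    have := hc.is_comm.comm (⟨x, hx⟩ : Subgroup.closure {g | ∃ g₁ ∈ A, ∃ g₂ ∈ B, ⁅g₁, g₂⁆ = g}) ⟨y, hy⟩
    exact congrArg Subtype.val this
  -- N is normal
  have hNn : N.Normal := by
    rw [← Subgroup.normalizer_eq_top_iff, eq_top_iff]
    intro g _
    obtain ⟨a, ha, b, hb, rfl⟩ := hAB g
    exact Subgroup.mul_mem _ (Subgroup.normalizer_commutator_ge_left A B ha)
      (Subgroup.normalizer_commutator_ge_right A B hb)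
  -- G/N is commutative
  have hquot : IsMulCommutative (G ⧸ N) := by
    have hmk : ∀ a ∈ A, ∀ b ∈ B, (QuotientGroup.mk a : G ⧸ N) * QuotientGroup.mk b =
        QuotientGroup.mk b * QuotientGroup.mk a := by
      intro a ha b hb
      rw [← QuotientGroup.mk_mul, ← QuotientGroup.mk_mul, QuotientGroup.eq]
      have : (a * b)⁻¹ * (b * a) = ⁅b⁻¹, a⁻¹⁆ := by simp [commutatorElement_def, mul_assoc]
      rw [this, hN, Subgroup.commutator_comm]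
      exact Subgroup.commutator_mem_commutator (B.inv_mem hb) (A.inv_mem ha)
    refine ⟨⟨?_⟩⟩
    intro x y
    obtain ⟨g, rfl⟩ := QuotientGroup.mk_surjective x
    obtain ⟨h, rfl⟩ := QuotientGroup.mk_surjective y
    obtain ⟨a, ha, b, hb, rfl⟩ := hAB g
    obtain ⟨a', ha', b', hb', rfl⟩ := hAB h
    simp only [QuotientGroup.mk_mul]
    have hAq : (QuotientGroup.mk a : G ⧸ N) * QuotientGroup.mk a' =
        QuotientGroup.mk a' * QuotientGroup.mk a := by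
      rw [← QuotientGroup.mk_mul, ← QuotientGroup.mk_mul, hA a ha a' ha']
    have hBq : (QuotientGroup.mk b : G ⧸ N) * QuotientGroup.mk b' =
        QuotientGroup.mk b' * QuotientGroup.mk b := by
      rw [← QuotientGroup.mk_mul, ← QuotientGroup.mk_mul, hB b hb b' hb']
    calc (QuotientGroup.mk a : G ⧸ N) * QuotientGroup.mk b * (QuotientGroup.mk a' * QuotientGroup.mk b')
        = QuotientGroup.mk a * (QuotientGroup.mk b * QuotientGroup.mk a') * QuotientGroup.mk b' := by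
          simp only [mul_assoc]
      _ = QuotientGroup.mk a * (QuotientGroup.mk a' * QuotientGroup.mk b) * QuotientGroup.mk b' := by
          rw [hmk a' ha' b hb]
      _ = (QuotientGroup.mk a * QuotientGroup.mk a') * (QuotientGroup.mk b * QuotientGroup.mk b') := by
          simp only [mul_assoc]
      _ = (QuotientGroup.mk a' * QuotientGroup.mk a) * (QuotientGroup.mk b' * QuotientGroup.mk b) := by
          rw [hAq, hBq]
      _ = QuotientGroup.mk a' * (QuotientGroup.mk a * QuotientGroup.mk b') * QuotientGroup.mk b := by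
          simp only [mul_assoc]
      _ = QuotientGroup.mk a' * (QuotientGroup.mk b' * QuotientGroup.mk a) * QuotientGroup.mk b := by
          rw [hmk a ha b' hb']
      _ = QuotientGroup.mk a' * QuotientGroup.mk b' * (QuotientGroup.mk a * QuotientGroup.mk b) := by
          simp only [mul_assoc]
  have hG' : commutator G ≤ N := Subgroup.Normal.quotient_commutative_iff_commutator_le.mp hquot
  -- conclusion
  have h2 : derivedSeries G 2 = ⁅commutator G, commutator G⁆ := by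
    rw [show (2 : ℕ) = 1 + 1 from rfl, derivedSeries_succ, derivedSeries_one]
  rw [h2, eq_bot_iff]
  calc ⁅commutator G, commutator G⁆ ≤ ⁅N, N⁆ := Subgroup.commutator_mono hG' hG'
    _ ≤ ⊥ := by
      rw [Subgroup.commutator_le]
      intro x hx y hy
      rw [Subgroup.mem_bot, commutatorElement_eq_one_iff_mul_comm]
      exact hNcomm x hx y hy

end Cfsg.Agent.S0572
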