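import Cfsg.Statements.S0573
import Cfsg.Agent.S0572
import Cfsg.Agent.S0004
import Cfsg.Agent.S0005
import Cfsg.Agent.Lib.Helper9_SystemNormalizer
import Cfsg.Agent.Lib.Helper32_PGroup
import Cfsg.Agent.Lib.Helper1_Frattini
import Cfsg.Agent.Lib.Helper76_PSolvable
import Mathlib

/-!
# Itô's second theorem (helper76)

A nontrivial finite group `G = AB` with `A`, `B` abelian has a nontrivial normal subgroup inside
`A` or inside `B`.

Proof.  Suppose not.  Then `Z(H) ≤ A` for every subgroup `H ≥ A` (`Hyp.mem_of_central`), hence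
`Z(AV) = 1` for `V = G'` (`Hyp.eq_one_of_commute`: `C_V(A) = 1`), and the same for `B`.  `V` is
abelian by Itô's first theorem (S0572), so `G` is solvable.  Pick a prime `p` dividing `|V|`, let
`W` be the `p`-part of `V`, `A₀` the `p'`-part of `A`.  Then `C_W(A₀) = 1`
(`Hyp.centralizer_tor_eq_one`, a `p`-group acting on a `p`-group), and a Hall `p'`-subgroup `K`
containing `A₀` and the `p'`-part of `V` is normalised by `A` (`normalizes_hall`, Hall conjugacy
inside the normal subgroup `WK`).  Doing the same with `B` and using `G = AB` one gets `K ⊴ G`,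
so `[W, K] = 1` and `W ≤ C_W(A₀) = 1`, a contradiction.
-/

set_option autoImplicit false
open Cfsg
open scoped Pointwise

namespace Cfsg.Agent.S0573

variable {G : Type*} [Group G]

/-- A factorisation `G = AB` by commutative subgroups, with no nontrivial normal subgroup of `G`
inside a factor. -/
structure Hyp (A B : Subgroup G) : Prop where
  commA : ∀ x ∈ A, ∀ y ∈ A, x * y = y * x
  commB : ∀ x ∈ B, ∀ y ∈ B, x * y = y * x
  fact : ∀ g : G, ∃ a ∈ A, ∃ b ∈ B, g = a * b
  core : ∀ N : Subgroup G, N.Normal → (N ≤ A ∨ N ≤ B) → N = ⊥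

theorem Hyp.symm {A B : Subgroup G} (h : Hyp A B) : Hyp B A where
  commA := h.commB
  commB := h.commA
  fact := by
    intro g
    obtain ⟨a, ha, b, hb, hg⟩ := h.fact g⁻¹
    refine ⟨b⁻¹, B.inv_mem hb, a⁻¹, A.inv_mem ha, ?_⟩
    rw [← mul_inv_rev, ← hg, inv_inv]
  core := fun N hN hle => h.core N hN hle.symm

/-- The centre of any subgroup containing `A` lies in `A`. -/
theorem Hyp.mem_of_central {A B : Subgroup G} (h : Hyp A B) (H : Subgroup G) (hAH : A ≤ H)
    {z : G} (hzc : ∀ x ∈ H, x * z = z * x) : z ∈ A := by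
  obtain ⟨a, ha, b, hb, hzab⟩ := h.fact z
  have hbA : ∀ a' ∈ A, a' * b = b * a' := by
    intro a' ha'
    have h1 := hzc a' (hAH ha')
    rw [hzab] at h1
    have h2 : a' * a = a * a' := h.commA a' ha' a ha
    have h3 : a * (a' * b) = a * (b * a') := by
      rw [← mul_assoc, ← h2, mul_assoc, h1, mul_assoc]
    exact mul_left_cancel h3
  have hbc : ∀ g : G, g * b = b * g := by
    intro g
    obtain ⟨a', ha', b', hb', hg⟩ := h.fact g
    rw [hg, mul_assoc, h.commB b' hb' b hb, ← mul_assoc, hbA a' ha', mul_assoc]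
  have hb1 : b = 1 := by
    have hN : (Subgroup.zpowers b).Normal := by
      refine ⟨fun n hn g => ?_⟩
      obtain ⟨k, rfl⟩ := Subgroup.mem_zpowers_iff.mp hn
      have hc : Commute g (b ^ k) := (show Commute g b from hbc g).zpow_right k
      rw [hc.eq, mul_inv_cancel_right]
      exact Subgroup.zpow_mem_zpowers b k
    have := h.core (Subgroup.zpowers b) hN (Or.inr (by rw [Subgroup.zpowers_le]; exact hb))
    rwa [Subgroup.zpowers_eq_bot] at this
  rw [hzab, hb1, mul_one]
  exact ha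

/-- `C_V(A) = 1` for every commutative `V` containing the derived subgroup. -/
theorem Hyp.eq_one_of_commute {A B : Subgroup G} (h : Hyp A B) (V : Subgroup G)
    (hV : commutator G ≤ V) (hVc : ∀ x ∈ V, ∀ y ∈ V, x * y = y * x)
    {v : G} (hv : v ∈ V) (hvA : ∀ a ∈ A, a * v = v * a) : v = 1 := by
  have hHn : (A ⊔ V).Normal :=
    Cfsg.Agent.Lib.Helper1_Frattini.normal_of_commutator_le (hV.trans le_sup_right)
  have hNn : ((A ⊔ V) ⊓ Subgroup.centralizer ((A ⊔ V : Subgroup G) : Set G)).Normal :=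
    inferInstance
  have hNA : (A ⊔ V) ⊓ Subgroup.centralizer ((A ⊔ V : Subgroup G) : Set G) ≤ A := by
    intro z hz
    refine h.mem_of_central (A ⊔ V) le_sup_left ?_
    intro x hx
    exact Subgroup.mem_centralizer_iff.mp hz.2 x hx
  have hNbot := h.core _ hNn (Or.inl hNA)
  have hvN : v ∈ (A ⊔ V) ⊓ Subgroup.centralizer ((A ⊔ V : Subgroup G) : Set G) := by
    refine Subgroup.mem_inf.mpr ⟨(le_sup_right : V ≤ A ⊔ V) hv, ?_⟩
    have hle : A ⊔ V ≤ Subgroup.centralizer {v} := by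
      refine sup_le ?_ ?_
      · intro a ha
        rw [Subgroup.mem_centralizer_iff]
        intro y hy
        rw [Set.mem_singleton_iff] at hy
        subst hy
        exact (hvA a ha).symm
      · intro a ha
        rw [Subgroup.mem_centralizer_iff]
        intro y hy
        rw [Set.mem_singleton_iff] at hy
        subst hy
        exact hVc y hv a ha
    rw [Subgroup.mem_centralizer_iff]
    intro x hx
    have := hle hx
    rw [Subgroup.mem_centralizer_iff] at this
    exact (this v rfl).symm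
  rw [hNbot] at hvN
  exact Subgroup.mem_bot.mp hvN

/-- Splitting an element into its `n`-torsion and `m`-torsion parts. -/
theorem exists_mul_pow_eq_one [Finite G] {m n : ℕ} (hG : Nat.card G = m * n) (hmn : m.Coprime n)
    (x : G) : ∃ y z : G, x = y * z ∧ y ^ n = 1 ∧ z ^ m = 1 ∧ y ∈ Subgroup.zpowers x ∧
      z ∈ Subgroup.zpowers x := by
  refine ⟨(x ^ m) ^ (Nat.gcdA m n), (x ^ n) ^ (Nat.gcdB m n), ?_, ?_, ?_, ?_, ?_⟩
  · have h1 : (1 : ℤ) = m * Nat.gcdA m n + n * Nat.gcdB m n := by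
      have := Nat.gcd_eq_gcd_ab m n
      rw [hmn.gcd_eq_one] at this
      exact_mod_cast this
    calc x = x ^ (1 : ℤ) := (zpow_one x).symm
      _ = x ^ ((m : ℤ) * Nat.gcdA m n + n * Nat.gcdB m n) := by rw [← h1]
      _ = _ := by rw [zpow_add, zpow_mul, zpow_mul, zpow_natCast, zpow_natCast]
  · rw [← zpow_natCast, ← zpow_mul, mul_comm, zpow_mul, zpow_natCast, ← pow_mul, ← hG,
      pow_card_eq_one', one_zpow]
  · rw [← zpow_natCast, ← zpow_mul, mul_comm, zpow_mul, zpow_natCast, ← pow_mul, mul_comm n m,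
      ← hG, pow_card_eq_one', one_zpow]
  · exact Subgroup.zpow_mem _ (Subgroup.pow_mem _ (Subgroup.mem_zpowers x) m) _
  · exact Subgroup.zpow_mem _ (Subgroup.pow_mem _ (Subgroup.mem_zpowers x) n) _

/-- The elements of a commutative subgroup killed by `k`. -/
def tor (A : Subgroup G) (hA : ∀ x ∈ A, ∀ y ∈ A, x * y = y * x) (k : ℕ) : Subgroup G where
  carrier := {a | a ∈ A ∧ a ^ k = 1}
  one_mem' := ⟨A.one_mem, one_pow k⟩
  mul_mem' := by
    rintro a b ⟨ha, hak⟩ ⟨hb, hbk⟩
    refine ⟨A.mul_mem ha hb, ?_⟩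
    rw [(show Commute a b from hA a ha b hb).mul_pow, hak, hbk, one_mul]
  inv_mem' := by
    rintro a ⟨ha, hak⟩
    exact ⟨A.inv_mem ha, by rw [inv_pow, hak, inv_one]⟩

theorem mem_tor {A : Subgroup G} {hA : ∀ x ∈ A, ∀ y ∈ A, x * y = y * x} {k : ℕ} {a : G} :
    a ∈ tor A hA k ↔ a ∈ A ∧ a ^ k = 1 := Iff.rfl

theorem tor_le (A : Subgroup G) (hA : ∀ x ∈ A, ∀ y ∈ A, x * y = y * x) (k : ℕ) :
    tor A hA k ≤ A := fun _ h => h.1

theorem tor_normal (A : Subgroup G) [hAn : A.Normal] (hA : ∀ x ∈ A, ∀ y ∈ A, x * y = y * x)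
    (k : ℕ) : (tor A hA k).Normal := by
  refine ⟨fun a ha g => ⟨hAn.conj_mem a ha.1 g, ?_⟩⟩
  rw [conj_pow, ha.2, mul_one, mul_inv_cancel]

/-- A subgroup of exponent dividing `m` has order prime to `p` when `p ∤ m`. -/
theorem card_coprime_of_pow_eq_one [Finite G] (H : Subgroup G) {m p : ℕ} (hp : p.Prime)
    (hpm : ¬ p ∣ m) (hH : ∀ x ∈ H, x ^ m = 1) (k : ℕ) : (Nat.card H).Coprime (p ^ k) := by
  apply Nat.Coprime.pow_right
  rw [Nat.coprime_comm, hp.coprime_iff_not_dvd]
  intro hdvd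
  haveI := Fact.mk hp
  obtain ⟨x, hx⟩ := exists_prime_orderOf_dvd_card' (G := H) p hdvd
  have h1 : (x : G) ^ m = 1 := hH x x.2
  have h2 : orderOf (x : G) ∣ m := orderOf_dvd_of_pow_eq_one h1
  rw [Subgroup.orderOf_coe, hx] at h2
  exact hpm h2

theorem mem_conj_smul {H : Subgroup G} {g x : G} :
    x ∈ MulAut.conj g • H ↔ g⁻¹ * x * g ∈ H := by
  rw [Subgroup.mem_pointwise_smul_iff_inv_smul_mem, ← map_inv, MulAut.smul_def,
    MulAut.conj_apply, inv_inv]

/-- An element killed by coprime `n` and `m` is trivial. -/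
theorem eq_one_of_pow_eq_one {m n : ℕ} (hmn : m.Coprime n) {t : G} (hn : t ^ n = 1)
    (hm : t ^ m = 1) : t = 1 := by
  have h1 : orderOf t ∣ n := orderOf_dvd_of_pow_eq_one hn
  have h2 : orderOf t ∣ m := orderOf_dvd_of_pow_eq_one hm
  have h3 : orderOf t ∣ Nat.gcd m n := Nat.dvd_gcd h2 h1
  rw [hmn.gcd_eq_one, Nat.dvd_one] at h3
  exact orderOf_eq_one_iff.mp h3

theorem pow_card_of_mem [Finite G] {K : Subgroup G} {m : ℕ} (hK : Nat.card K = m) {t : G}
    (ht : t ∈ K) : t ^ m = 1 := by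
  have : (⟨t, ht⟩ : K) ^ Nat.card K = 1 := pow_card_eq_one'
  rw [hK] at this
  exact congrArg Subtype.val this

/-- `C_W(A₀) = 1`: the `p'`-part `A₀` of `A` acts without fixed points on the `p`-part `W` of
`V`, because the `p`-part of `A` acts on `C_W(A₀)` with fixed points and `C_V(A) = 1`. -/
theorem Hyp.centralizer_tor_eq_one [Finite G] {A B : Subgroup G} (h : Hyp A B) (V : Subgroup G)
    [hVn : V.Normal] (hV : commutator G ≤ V) (hVc : ∀ x ∈ V, ∀ y ∈ V, x * y = y * x)
    {p k m : ℕ} (hp : p.Prime) (hG : Nat.card G = m * p ^ k) (hmn : m.Coprime (p ^ k))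
    {w : G} (hw : w ∈ tor V hVc (p ^ k))
    (hwc : ∀ x ∈ tor A h.commA m, x * w = w * x) : w = 1 := by
  by_contra hw1
  haveI := Fact.mk hp
  have hWn : (tor V hVc (p ^ k)).Normal := tor_normal V hVc _
  -- `C = C_W(A₀)`
  have hCp : IsPGroup p ↥(tor V hVc (p ^ k) ⊓ Subgroup.centralizer (tor A h.commA m : Set G)) := by
    intro g
    refine ⟨k, Subtype.ext ?_⟩
    have := (Subgroup.mem_inf.mp g.2).1.2
    simpa using this
  have hAp : IsPGroup p ↥(tor A h.commA (p ^ k)) := by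
    intro g
    refine ⟨k, Subtype.ext ?_⟩
    have := g.2.2
    simpa using this
  -- conjugation by elements of `A` preserves `C`
  have hconj : ∀ a ∈ A, ∀ c ∈ tor V hVc (p ^ k) ⊓ Subgroup.centralizer (tor A h.commA m : Set G),
      a * c * a⁻¹ ∈ tor V hVc (p ^ k) ⊓ Subgroup.centralizer (tor A h.commA m : Set G) := by
    intro a ha c hc
    obtain ⟨hc1, hc2⟩ := Subgroup.mem_inf.mp hc
    refine Subgroup.mem_inf.mpr ⟨hWn.conj_mem c hc1 a, ?_⟩
    rw [Subgroup.mem_centralizer_iff]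
    intro x hx
    have hxa : Commute x a := h.commA x (tor_le A h.commA m hx) a ha
    have hxc : Commute x c := Subgroup.mem_centralizer_iff.mp hc2 x hx
    exact ((hxa.mul_right hxc).mul_right hxa.inv_right).eq
  have hnorm : tor A h.commA (p ^ k) ≤
      Subgroup.normalizer
        ((tor V hVc (p ^ k) ⊓ Subgroup.centralizer (tor A h.commA m : Set G) : Subgroup G) :
          Set G) := by
    intro a ha
    rw [Subgroup.mem_normalizer_iff]
    intro c
    refine ⟨fun hc => hconj a ha.1 c hc, fun hc => ?_⟩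
    have := hconj a⁻¹ (A.inv_mem ha.1) _ hc
    simpa [mul_assoc] using this
  have hP := IsPGroup.to_sup_of_normal_right' hAp hCp hnorm
  have hCP : tor V hVc (p ^ k) ⊓ Subgroup.centralizer (tor A h.commA m : Set G) ≤
      tor A h.commA (p ^ k) ⊔
        (tor V hVc (p ^ k) ⊓ Subgroup.centralizer (tor A h.commA m : Set G)) := le_sup_right
  haveI hNn : ((tor V hVc (p ^ k) ⊓ Subgroup.centralizer (tor A h.commA m : Set G)).subgroupOf
      (tor A h.commA (p ^ k) ⊔
        (tor V hVc (p ^ k) ⊓ Subgroup.centralizer (tor A h.commA m : Set G)))).Normal :=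
    (Subgroup.normal_subgroupOf_iff_le_normalizer hCP).mpr (sup_le hnorm Subgroup.le_normalizer)
  have hwC : w ∈ tor V hVc (p ^ k) ⊓ Subgroup.centralizer (tor A h.commA m : Set G) := by
    refine Subgroup.mem_inf.mpr ⟨hw, ?_⟩
    rw [Subgroup.mem_centralizer_iff]
    exact hwc
  have hNne : (tor V hVc (p ^ k) ⊓ Subgroup.centralizer (tor A h.commA m : Set G)).subgroupOf
      (tor A h.commA (p ^ k) ⊔
        (tor V hVc (p ^ k) ⊓ Subgroup.centralizer (tor A h.commA m : Set G))) ≠ ⊥ := by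
    intro hbot
    have hmem : (⟨w, hCP hwC⟩ : ↥(tor A h.commA (p ^ k) ⊔
        (tor V hVc (p ^ k) ⊓ Subgroup.centralizer (tor A h.commA m : Set G)))) ∈
        (tor V hVc (p ^ k) ⊓ Subgroup.centralizer (tor A h.commA m : Set G)).subgroupOf
      (tor A h.commA (p ^ k) ⊔
        (tor V hVc (p ^ k) ⊓ Subgroup.centralizer (tor A h.commA m : Set G))) :=
      Subgroup.mem_subgroupOf.mpr hwC
    rw [hbot, Subgroup.mem_bot] at hmem
    exact hw1 (congrArg Subtype.val hmem)
  obtain ⟨z, hzN, hzc, hz1⟩ :=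
    Cfsg.Agent.Lib.Helper32_PGroup.exists_mem_center_of_normal hP _ hNne
  have hzC : (z : G) ∈ tor V hVc (p ^ k) ⊓ Subgroup.centralizer (tor A h.commA m : Set G) :=
    Subgroup.mem_subgroupOf.mp hzN
  obtain ⟨hzW, hzcent⟩ := Subgroup.mem_inf.mp hzC
  apply hz1
  apply Subtype.ext
  refine h.eq_one_of_commute V hV hVc hzW.1 ?_
  intro a ha
  obtain ⟨y, t, hayt, hy, ht, hyz, htz⟩ := exists_mul_pow_eq_one hG hmn a
  have hzA : Subgroup.zpowers a ≤ A := by rw [Subgroup.zpowers_le]; exact ha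
  have hyA : y ∈ tor A h.commA (p ^ k) := ⟨hzA hyz, hy⟩
  have htA : t ∈ tor A h.commA m := ⟨hzA htz, ht⟩
  have hty : Commute t (z : G) := Subgroup.mem_centralizer_iff.mp hzcent t htA
  have hyP : y ∈ tor A h.commA (p ^ k) ⊔
      (tor V hVc (p ^ k) ⊓ Subgroup.centralizer (tor A h.commA m : Set G)) :=
    (le_sup_left : tor A h.commA (p ^ k) ≤ _) hyA
  have hyy : Commute y (z : G) := by
    have := Subgroup.mem_center_iff.mp hzc ⟨y, hyP⟩
    exact congrArg Subtype.val this
  rw [hayt]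
  exact (hyy.mul_left hty).eq

/-- A Hall subgroup `K` of order `m` with `WK ⊴ G`, containing a subgroup `A₀` with
`C_W(A₀) = 1`, is normalised by everything centralising `A₀`. -/
theorem normalizes_hall [Finite G] [Group.IsSolvable G] {m n : ℕ} (hG : Nat.card G = m * n)
    (hmn : m.Coprime n) (W K A₀ : Subgroup G) [hWn : W.Normal] (hW : ∀ w ∈ W, w ^ n = 1)
    (hK : Nat.card K = m) (hY : (W ⊔ K).Normal) (hA₀K : A₀ ≤ K)
    (hC : ∀ w ∈ W, (∀ x ∈ A₀, x * w = w * x) → w = 1)
    (a : G) (ha : ∀ x ∈ A₀, a * x = x * a) : MulAut.conj a • K = K := by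
  have hKY : K ≤ W ⊔ K := le_sup_right
  have hKa : MulAut.conj a • K ≤ W ⊔ K := by
    intro x hx
    rw [mem_conj_smul] at hx
    have h1 := hY.conj_mem _ (hKY hx) a
    simpa [mul_assoc] using h1
  have hKac : Nat.card ↥(MulAut.conj a • K) = m := by
    rw [← hK]
    exact (Nat.card_congr (Subgroup.equivSMul (MulAut.conj a) K).toEquiv).symm
  have hmY : m ∣ Nat.card ↥(W ⊔ K) := hK ▸ Subgroup.card_dvd_of_le hKY
  have hYG : Nat.card ↥(W ⊔ K) ∣ m * n := hG ▸ Subgroup.card_subgroup_dvd_card _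
  have hm0 : 0 < m := by
    rw [← hK]; exact Nat.card_pos
  have hM : Nat.card ↥(W ⊔ K) = m * (Nat.card ↥(W ⊔ K) / m) := (Nat.mul_div_cancel' hmY).symm
  have hn' : Nat.card ↥(W ⊔ K) / m ∣ n := by
    rw [hM] at hYG
    exact Nat.dvd_of_mul_dvd_mul_left hm0 hYG
  have hmn' : m.Coprime (Nat.card ↥(W ⊔ K) / m) := hmn.coprime_dvd_right hn'
  obtain ⟨y, hyY, hy⟩ := Cfsg.Agent.Lib.Helper9_SystemNormalizer.exists_conj_in_subgroup
    (W ⊔ K) K (MulAut.conj a • K) hKY hKa m _ hM hmn' hK hKac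
  obtain ⟨w, hw, k, hk, rfl⟩ := Subgroup.mem_sup_of_normal_left.mp hyY
  rw [map_mul, mul_smul, Subgroup.conj_smul_eq_self_of_mem hk] at hy
  -- `w` centralises `A₀`
  have hw1 : w = 1 := by
    refine hC w hw ?_
    intro x hx
    have hxK : x ∈ K := hA₀K hx
    have hxa : x ∈ MulAut.conj a • K := by
      rw [mem_conj_smul, mul_assoc, ← ha x hx, inv_mul_cancel_left]
      exact hxK
    rw [← hy, mem_conj_smul] at hxa
    -- `x⁻¹ * (w⁻¹ * x * w) ∈ W ⊓ K`
    have h1 : x⁻¹ * (w⁻¹ * x * w) ∈ K := K.mul_mem (K.inv_mem hxK) hxa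
    have h2 : x⁻¹ * (w⁻¹ * x * w) ∈ W := by
      have h3 : x⁻¹ * w⁻¹ * x⁻¹⁻¹ ∈ W := hWn.conj_mem _ (W.inv_mem hw) x⁻¹
      have h4 := W.mul_mem h3 hw
      simpa [mul_assoc] using h4
    have h5 := eq_one_of_pow_eq_one hmn (hW _ h2) (pow_card_of_mem hK h1)
    have h6 : w⁻¹ * x * w = x := by
      have := congrArg (fun t => x * t) h5
      simpa using this
    have h7 : x * w = w * (w⁻¹ * x * w) := by group
    rw [h7, h6]
  rw [hw1, map_one, one_smul] at hy
  exact hy.symm

/-- One side of the argument: `A` normalises every Hall `p'`-subgroup containing the `p'`-parts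
of `A` and of `V`. -/
theorem Hyp.normalizes [Finite G] [Group.IsSolvable G] {A B : Subgroup G} (h : Hyp A B)
    (V : Subgroup G) [hVn : V.Normal] (hV : commutator G ≤ V)
    (hVc : ∀ x ∈ V, ∀ y ∈ V, x * y = y * x)
    {p k m : ℕ} (hp : p.Prime) (hG : Nat.card G = m * p ^ k) (hmn : m.Coprime (p ^ k))
    (K : Subgroup G) (hK : Nat.card K = m) (hAK : tor A h.commA m ≤ K)
    (hUK : tor V hVc m ≤ K) (a : G) (ha : a ∈ A) : MulAut.conj a • K = K := by
  haveI hWn : (tor V hVc (p ^ k)).Normal := tor_normal V hVc _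
  have hY : (tor V hVc (p ^ k) ⊔ K).Normal := by
    apply Cfsg.Agent.Lib.Helper1_Frattini.normal_of_commutator_le
    intro v hv
    have hvV : v ∈ V := hV hv
    obtain ⟨y, t, hvyt, hy, ht, hyz, htz⟩ := exists_mul_pow_eq_one hG hmn v
    have hzV : Subgroup.zpowers v ≤ V := by rw [Subgroup.zpowers_le]; exact hvV
    rw [hvyt]
    exact Subgroup.mul_mem _ ((le_sup_left : tor V hVc (p ^ k) ≤ _) ⟨hzV hyz, hy⟩)
      ((le_sup_right : K ≤ _) (hUK ⟨hzV htz, ht⟩))
  refine normalizes_hall hG hmn (tor V hVc (p ^ k)) K (tor A h.commA m) (fun w hw => hw.2) hK hY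
    hAK ?_ a ?_
  · intro w hw hwc
    exact h.centralizer_tor_eq_one V hV hVc hp hG hmn hw hwc
  · intro x hx
    exact h.commA a ha x hx.1

/-- There is a Hall `p'`-subgroup containing the `p'`-parts of `A` and of `V`. -/
theorem Hyp.exists_hall [Finite G] [Group.IsSolvable G] {A B : Subgroup G} (h : Hyp A B)
    (V : Subgroup G) [hVn : V.Normal] (hVc : ∀ x ∈ V, ∀ y ∈ V, x * y = y * x)
    {p k m : ℕ} (hp : p.Prime) (hpm : ¬ p ∣ m) (hG : Nat.card G = m * p ^ k)
    (hmn : m.Coprime (p ^ k)) :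
    ∃ K : Subgroup G, Nat.card K = m ∧ tor A h.commA m ≤ K ∧ tor V hVc m ≤ K := by
  haveI hUn : (tor V hVc m).Normal := tor_normal V hVc _
  have h1 : (Nat.card ↥(tor A h.commA m)).Coprime (p ^ k) :=
    card_coprime_of_pow_eq_one (tor A h.commA m) hp hpm (fun x hx => (mem_tor.mp hx).2) k
  have h2 : (Nat.card ↥(tor V hVc m)).Coprime (p ^ k) :=
    card_coprime_of_pow_eq_one (tor V hVc m) hp hpm (fun x hx => (mem_tor.mp hx).2) k
  have h3 : (Nat.card ↥(tor A h.commA m ⊔ tor V hVc m)).Coprime (p ^ k) :=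
    Nat.Coprime.coprime_dvd_left
      (Cfsg.Agent.Lib.Helper76_PSolvable.card_sup_dvd (tor A h.commA m) (tor V hVc m))
      (Nat.Coprime.mul_left h1 h2)
  obtain ⟨K, hK, hle⟩ := Cfsg.Agent.S0005.result m (p ^ k) hG hmn _ h3
  exact ⟨K, hK, le_sup_left.trans hle, le_sup_right.trans hle⟩

/-- If a nontrivial finite group G is the product AB of abelian subgroups A and B, then some nontrivial normal subgroup of G is contained in A or in B. -/
theorem result {G : Type*} [Group G] [Finite G] [Nontrivial G] (A B : Subgroup G) [IsMulCommutative A] [IsMulCommutative B] (hAB : ∀ g : G, ∃ a ∈ A, ∃ b ∈ B, g = a * b) : ∃ N : Subgroup G, N.Normal ∧ N ≠ ⊥ ∧ (N ≤ A ∨ N ≤ B) := by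
  by_contra hcon
  have hA : ∀ x ∈ A, ∀ y ∈ A, x * y = y * x := by
    intro x hx y hy
    have := (inferInstance : IsMulCommutative A).is_comm.comm (⟨x, hx⟩ : A) ⟨y, hy⟩
    exact congrArg Subtype.val this
  have hB : ∀ x ∈ B, ∀ y ∈ B, x * y = y * x := by
    intro x hx y hy
    have := (inferInstance : IsMulCommutative B).is_comm.comm (⟨x, hx⟩ : B) ⟨y, hy⟩
    exact congrArg Subtype.val this
  have h : Hyp A B := by
    refine ⟨hA, hB, hAB, fun N hN hle => ?_⟩
    by_contra hne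
    exact hcon ⟨N, hN, hne, hle⟩
  -- `G` is metabelian
  have hder := Cfsg.Agent.S0572.result A B hAB
  haveI : Group.IsSolvable G := (Group.isSolvable_def G).mpr ⟨2, hder⟩
  have hVc : ∀ x ∈ commutator G, ∀ y ∈ commutator G, x * y = y * x := by
    intro x hx y hy
    have h2 : derivedSeries G 2 = ⁅commutator G, commutator G⁆ := by
      rw [derivedSeries_succ, derivedSeries_one]
    rw [h2, Subgroup.commutator_eq_bot_iff_le_centralizer] at hder
    exact (Subgroup.mem_centralizer_iff.mp (hder hx) y hy).symm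
  -- `G' ≠ 1`
  have hVne : commutator G ≠ ⊥ := by
    intro hbot
    have hcen : Subgroup.center G = ⊤ := (_root_.commutator_eq_bot_iff_center_eq_top G).mp hbot
    have hAtop : (⊤ : Subgroup G) ≤ A := by
      intro z _
      refine h.mem_of_central ⊤ le_top ?_
      intro x _
      have hz : z ∈ Subgroup.center G := hcen ▸ Subgroup.mem_top z
      exact Subgroup.mem_center_iff.mp hz x
    exact top_ne_bot (h.core ⊤ inferInstance (Or.inl hAtop))
  -- a prime `p` dividing `|G'|`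
  have hVcard : Nat.card ↥(commutator G) ≠ 1 := fun h1 => hVne (Subgroup.card_eq_one.mp h1)
  obtain ⟨p, hp, hpV⟩ := Nat.exists_prime_and_dvd hVcard
  have hG0 : Nat.card G ≠ 0 := Nat.card_pos.ne'
  have hpG : p ∣ Nat.card G := hpV.trans (Subgroup.card_subgroup_dvd_card _)
  have hGmn : Nat.card G = (Nat.card G / p ^ (Nat.card G).factorization p) *
      p ^ (Nat.card G).factorization p := by
    rw [mul_comm]; exact (Nat.ordProj_mul_ordCompl_eq_self (Nat.card G) p).symm
  have hpm : ¬ p ∣ Nat.card G / p ^ (Nat.card G).factorization p := Nat.not_dvd_ordCompl hp hG0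
  have hmn : (Nat.card G / p ^ (Nat.card G).factorization p).Coprime
      (p ^ (Nat.card G).factorization p) :=
    (Nat.Coprime.pow_left _ ((Nat.coprime_ordCompl hp hG0))).symm
  have hpn : p ∣ p ^ (Nat.card G).factorization p := Nat.dvd_ordProj_of_dvd hG0 hp hpG
  haveI hVn : (commutator G).Normal := inferInstance
  -- the `p`-part `W` of `G'` is nontrivial
  have hWne : ∃ w ∈ tor (commutator G) hVc (p ^ (Nat.card G).factorization p), w ≠ 1 := by
    haveI := Fact.mk hp
    obtain ⟨v, hv⟩ := exists_prime_orderOf_dvd_card' (G := ↥(commutator G)) p hpV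
    refine ⟨v, ⟨v.2, ?_⟩, ?_⟩
    · have h1 : orderOf (v : G) = p := by rw [Subgroup.orderOf_coe, hv]
      exact orderOf_dvd_iff_pow_eq_one.mp (h1 ▸ hpn)
    · intro h1
      have h2 : v = 1 := Subtype.ext h1
      rw [h2, orderOf_one] at hv
      exact hp.one_lt.ne hv
  -- Hall subgroups for both sides
  obtain ⟨K, hK, hAK, hUK⟩ := h.exists_hall (commutator G) hVc hp hpm hGmn hmn
  obtain ⟨K', hK', hBK', hUK'⟩ := h.symm.exists_hall (commutator G) hVc hp hpm hGmn hmn
  have hnA : ∀ a ∈ A, MulAut.conj a • K = K :=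
    h.normalizes (commutator G) le_rfl hVc hp hGmn hmn K hK hAK hUK
  have hnB : ∀ b ∈ B, MulAut.conj b • K' = K' :=
    h.symm.normalizes (commutator G) le_rfl hVc hp hGmn hmn K' hK' hBK' hUK'
  obtain ⟨g, hg⟩ := Cfsg.Agent.S0004.result _ _ hGmn hmn K K' hK hK'
  -- `K' = K`
  have hKK' : K' = K := by
    obtain ⟨b, hb, a, ha, hgba⟩ := h.symm.fact g
    rw [hgba, map_mul, mul_smul, hnA a ha] at hg
    have h1 := hnB b hb
    rw [← hg] at h1
    rw [← hg]
    exact smul_left_cancel _ h1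
  rw [hKK'] at hnB
  have hnG : ∀ g : G, MulAut.conj g • K = K := by
    intro g
    obtain ⟨a, ha, b, hb, hgab⟩ := hAB g
    rw [hgab, map_mul, mul_smul, hnB b hb, hnA a ha]
  -- `W` centralises `K`, hence `A₀`
  obtain ⟨w, hw, hw1⟩ := hWne
  apply hw1
  refine h.centralizer_tor_eq_one (commutator G) le_rfl hVc hp hGmn hmn hw ?_
  intro x hx
  have hxK : x ∈ K := hAK hx
  have h1 : x ∈ MulAut.conj w⁻¹ • K := by rw [hnG]; exact hxK
  rw [mem_conj_smul, inv_inv] at h1
  have h2 : w * x * w⁻¹ * x⁻¹ ∈ K := K.mul_mem h1 (K.inv_mem hxK)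
  have hWn : (tor (commutator G) hVc (p ^ (Nat.card G).factorization p)).Normal :=
    tor_normal _ hVc _
  have h3 : w * x * w⁻¹ * x⁻¹ ∈ tor (commutator G) hVc (p ^ (Nat.card G).factorization p) := by
    have h4 := hWn.conj_mem _ (Subgroup.inv_mem _ hw) x
    have h5 := Subgroup.mul_mem _ hw h4
    simpa [mul_assoc] using h5
  have h6 := eq_one_of_pow_eq_one hmn h3.2 (pow_card_of_mem hK h2)
  have h7 : x * w = (w * x * w⁻¹ * x⁻¹)⁻¹ * (w * x) := by group
  rw [h7, h6, inv_one, one_mul]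

end Cfsg.Agent.S0573
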