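import Cfsg.Statements.S0575
import Mathlib

set_option autoImplicit false
open Cfsg

namespace Cfsg.Agent.S0575

/-- If H is a normal subgroup of a finite group G, then the Frattini subgroup of H, viewed in G, lies in the Frattini subgroup of G. -/
theorem result {G : Type*} [Group G] [Finite G] (H : Subgroup G) [H.Normal] : (frattini ↥H).map H.subtype ≤ frattini G := by
  have hN : ((frattini ↥H).map H.subtype).Normal := inferInstance
  unfold frattini Order.radical
  rw [le_iInf₂_iff]
  intro M hM
  by_contra hnot
  have htop : M ⊔ (Order.radical (Subgroup H)).map H.subtype = ⊤ := by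
    apply hM.2
    exact lt_of_le_of_ne le_sup_left (fun h => hnot (h ▸ le_sup_right))
  have hK : M.subgroupOf H ⊔ frattini H = ⊤ := by
    rw [eq_top_iff]
    intro h _
    have hh : (h : G) ∈ M ⊔ (Order.radical (Subgroup H)).map H.subtype := by
      rw [htop]; exact Subgroup.mem_top _
    haveI : ((Order.radical (Subgroup H)).map H.subtype).Normal := hN
    rw [Subgroup.mem_sup_of_normal_right] at hh
    obtain ⟨m, hm, f, hf, hmf⟩ := hh
    obtain ⟨f', hf', rfl⟩ := hf
    have hmH : m ∈ H := by
      have : m = (h : G) * (f' : G)⁻¹ := by rw [← hmf]; simp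
      rw [this]
      exact H.mul_mem h.2 (H.inv_mem f'.2)
    have : h = (⟨m, hmH⟩ : H) * f' := Subtype.ext hmf.symm
    rw [this]
    apply Subgroup.mul_mem
    · exact (le_sup_left : M.subgroupOf H ≤ _) (by simpa [Subgroup.mem_subgroupOf] using hm)
    · exact (le_sup_right : frattini H ≤ M.subgroupOf H ⊔ frattini H) hf'
  have hKtop : M.subgroupOf H = ⊤ := frattini_nongenerating hK
  have hHM : H ≤ M := Subgroup.subgroupOf_eq_top.mp hKtop
  exact hnot ((Subgroup.map_subtype_le _).trans hHM)

end Cfsg.Agent.S0575
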