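import Cfsg.Statements.S0576
import Mathlib

set_option autoImplicit false
open Cfsg

namespace Cfsg.Agent.S0576

/-- The inner automorphisms form a normal subgroup of the automorphism group. -/
theorem inn_normal (H : Type*) [Group H] : ((MulAut.conj : H →* MulAut H).range).Normal := by
  constructor
  rintro _ ⟨h, rfl⟩ φ
  refine ⟨φ h, ?_⟩
  ext x
  simp [MulAut.conj_apply, map_mul]

/-- Let H be a normal subgroup of a finite group G with H contained in the Frattini subgroup of G. Then the group of inner automorphisms of H is contained in the Frattini subgroup of the automorphism group of H. -/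
theorem result {G : Type*} [Group G] [Finite G] (H : Subgroup G) [H.Normal] (hH : H ≤ frattini G) : (MulAut.conj : ↥H →* MulAut ↥H).range ≤ frattini (MulAut ↥H) := by
  haveI := inn_normal H
  unfold frattini Order.radical
  rw [le_iInf₂_iff]
  intro U hU
  by_contra hnot
  have htop : U ⊔ (MulAut.conj : ↥H →* MulAut ↥H).range = ⊤ := by
    apply hU.2
    exact lt_of_le_of_ne le_sup_left (fun h => hnot (h ▸ le_sup_right))
  -- the preimage of U under conjugation G → Aut H
  set ψ : G →* MulAut H := MulAut.conjNormal with hψ
  have hL : U.comap ψ ⊔ frattini G = ⊤ := by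
    rw [eq_top_iff]
    intro g _
    have hg : ψ g ∈ U ⊔ (MulAut.conj : ↥H →* MulAut ↥H).range := by
      rw [htop]; exact Subgroup.mem_top _
    rw [Subgroup.mem_sup_of_normal_right] at hg
    obtain ⟨u, hu, _, ⟨h, rfl⟩, huh⟩ := hg
    have h1 : ψ (g * (h : G)⁻¹) = u := by
      rw [map_mul, map_inv, ← huh, hψ, MulAut.conjNormal_val]
      simp
    have h2 : g = (g * (h : G)⁻¹) * (h : G) := by group
    rw [h2]
    apply Subgroup.mul_mem
    · apply (le_sup_left : U.comap ψ ≤ _)
      rw [Subgroup.mem_comap, h1]; exact hu
    · exact (le_sup_right : frattini G ≤ U.comap ψ ⊔ frattini G) (hH h.2)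
  have hLtop : U.comap ψ = ⊤ := frattini_nongenerating hL
  apply hnot
  rintro _ ⟨h, rfl⟩
  have : (h : G) ∈ U.comap ψ := by rw [hLtop]; exact Subgroup.mem_top _
  rw [Subgroup.mem_comap, hψ, MulAut.conjNormal_val] at this
  exact this

end Cfsg.Agent.S0576
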