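import Cfsg.Statements.S0578
import Mathlib

set_option autoImplicit false
open Cfsg

namespace Cfsg.Agent.S0578

open scoped commutatorElement

universe u

/-- The hypothesis passes to subgroups. -/
theorem hyp_subgroup {G : Type*} [Group G]
    (h : ∀ A : Subgroup G, IsMulCommutative A →
      Subgroup.normalizer (A : Set G) = Subgroup.centralizer (A : Set G)) (K : Subgroup G) :
    ∀ A : Subgroup K, IsMulCommutative A →
      Subgroup.normalizer (A : Set K) = Subgroup.centralizer (A : Set K) := by
  intro A hA
  have hAm : IsMulCommutative (A.map K.subtype) := by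
    refine ⟨⟨?_⟩⟩
    rintro ⟨_, a, ha, rfl⟩ ⟨_, b, hb, rfl⟩
    have := hA.is_comm.comm (⟨a, ha⟩ : A) ⟨b, hb⟩
    have h2 := congrArg (fun t : A => ((t : K) : G)) this
    exact Subtype.ext (by simpa using h2)
  have hG := h (A.map K.subtype) hAm
  apply le_antisymm
  · intro x hx
    rw [Subgroup.mem_normalizer_iff] at hx
    have hxG : (x : G) ∈ Subgroup.normalizer ((A.map K.subtype : Subgroup G) : Set G) := by
      rw [Subgroup.mem_normalizer_iff]
      intro g
      constructor
      · rintro ⟨a', ha', rfl⟩
        exact ⟨x * a' * x⁻¹, (hx a').1 ha', by simp⟩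
      · rintro ⟨b, hb, hbe⟩
        have hgK : g ∈ K := by
          have : g = (x : G)⁻¹ * b * x := by
            have : (b : G) = x * g * (x : G)⁻¹ := hbe
            rw [this]; group
          rw [this]
          exact K.mul_mem (K.mul_mem (K.inv_mem x.2) b.2) x.2
        refine ⟨⟨g, hgK⟩, ?_, rfl⟩
        rw [SetLike.mem_coe, hx ⟨g, hgK⟩]
        have : x * ⟨g, hgK⟩ * x⁻¹ = b := Subtype.ext (by simpa using hbe.symm)
        rw [this]; exact hb
    rw [hG, Subgroup.mem_centralizer_iff] at hxG
    rw [Subgroup.mem_centralizer_iff]
    intro a ha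
    exact Subtype.ext (hxG a ⟨a, ha, rfl⟩)
  · intro x hx
    rw [Subgroup.mem_centralizer_iff] at hx
    rw [Subgroup.mem_normalizer_iff]
    intro a
    constructor
    · intro ha
      have : x * a * x⁻¹ = a := by rw [← hx a ha]; group
      rw [this]; exact ha
    · intro ha
      have h1 := hx _ ha
      have : x * a * x⁻¹ = a := by
        have h2 : x * a * x⁻¹ * x = x * (x * a * x⁻¹) := h1
        have h3 : x * a = x * (x * a * x⁻¹) := by rw [← h2]; group
        exact (mul_left_cancel h3).symm
      rw [← this]; exact ha

theorem main (n : ℕ) : ∀ (G : Type u) [Group G] [Finite G], Nat.card G = n →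
    (∀ A : Subgroup G, IsMulCommutative A →
      Subgroup.normalizer (A : Set G) = Subgroup.centralizer (A : Set G)) →
    ∀ x y : G, x * y = y * x := by
  induction n using Nat.strong_induction_on with
  | _ n ih =>
    intro G _ _ hcard h
    have hprop : ∀ K : Subgroup G, K ≠ ⊤ → IsMulCommutative K := by
      intro K hK
      have hlt : Nat.card K < n := by
        rw [← hcard]
        refine lt_of_le_of_ne (Subgroup.card_le_card_group K) (fun heq => hK ?_)
        exact Subgroup.eq_top_of_card_eq K heq
      have := ih (Nat.card K) hlt K rfl (hyp_subgroup h K)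
      exact ⟨⟨this⟩⟩
    by_cases hp : ∃ p : ℕ, p.Prime ∧ IsPGroup p G
    · obtain ⟨p, hp, hG⟩ := hp
      have : Fact p.Prime := ⟨hp⟩
      have hcent : ∀ x : G, x ∈ Subgroup.center G := by
        intro x
        by_cases hx : Subgroup.centralizer ({x} : Set G) = ⊤
        · rw [Subgroup.mem_center_iff]
          intro g
          have : g ∈ Subgroup.centralizer ({x} : Set G) := hx ▸ Subgroup.mem_top g
          exact (Subgroup.mem_centralizer_iff.1 this x rfl).symm
        · obtain ⟨M, hM, hle⟩ := (eq_top_or_exists_le_coatom _).resolve_left hx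
          have hnil : Group.IsNilpotent G := hG.isNilpotent
          have hMn : M.Normal :=
            Subgroup.NormalizerCondition.normal_of_coatom M
              (Group.normalizerCondition_of_isNilpotent (G := G)) hM
          have hMc := hprop M hM.1
          have h1 := h M hMc
          rw [Subgroup.normalizer_eq_top] at h1
          have hxM : x ∈ M := hle (by
            rw [Subgroup.mem_centralizer_iff]
            intro y hy
            rw [Set.mem_singleton_iff.1 hy])
          rw [Subgroup.mem_center_iff]
          intro g
          have : g ∈ Subgroup.centralizer (M : Set G) := h1 ▸ Subgroup.mem_top g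
          exact (Subgroup.mem_centralizer_iff.1 this x hxM).symm
      intro x y
      exact (Subgroup.mem_center_iff.1 (hcent y) x)
    · push Not at hp
      intro x y
      by_contra hxy
      have hz : ⁅x, y⁆ ≠ 1 := fun h1 => hxy (commutatorElement_eq_one_iff_mul_comm.1 h1)
      obtain ⟨p, hpp, hpz⟩ := Nat.exists_prime_and_dvd (orderOf_eq_one_iff.not.2 hz)
      have : Fact p.Prime := ⟨hpp⟩
      obtain ⟨P⟩ : Nonempty (Sylow p G) := inferInstance
      have hPtop : (P : Subgroup G) ≠ ⊤ := by
        intro htop
        apply hp p hpp
        intro g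
        obtain ⟨k, hk⟩ := P.2 ⟨g, htop ▸ Subgroup.mem_top g⟩
        exact ⟨k, by simpa using congrArg Subtype.val hk⟩
      have hPc := hprop P hPtop
      have hP : Subgroup.normalizer (P : Set G) ≤ Subgroup.centralizer (P : Set G) := (h P hPc).le
      have hcomp := MonoidHom.ker_transferSylow_isComplement' P hP
      have hzker : ⁅x, y⁆ ∈ (MonoidHom.transferSylow P hP).ker := by
        rw [MonoidHom.mem_ker, map_commutatorElement]
        exact commutatorElement_eq_one_iff_mul_comm.2 (hPc.is_comm.comm _ _)
      have h1 : orderOf ⁅x, y⁆ ∣ Nat.card (MonoidHom.transferSylow P hP).ker := by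
        have := orderOf_dvd_natCard (⟨⁅x, y⁆, hzker⟩ : (MonoidHom.transferSylow P hP).ker)
        rwa [Subgroup.orderOf_mk] at this
      have h2 : Nat.card (MonoidHom.transferSylow P hP).ker = (P : Subgroup G).index :=
        hcomp.index_eq_card.symm
      exact P.not_dvd_index (h2 ▸ hpz.trans h1)

/-- If in a finite group the normalizer of each abelian subgroup coincides with its centralizer, then the group is abelian. -/
theorem result {G : Type*} [Group G] [Finite G] (h : ∀ A : Subgroup G, IsMulCommutative A → Subgroup.normalizer (A : Set G) = Subgroup.centralizer (A : Set G)) : IsMulCommutative G := by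
  exact ⟨⟨main (Nat.card G) G rfl h⟩⟩

end Cfsg.Agent.S0578
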