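import Cfsg.Statements.S0579
import Mathlib
import Cfsg.Agent.S0003
import Cfsg.Agent.S0580
import Cfsg.Agent.Lib.Helper9_Huppert
import Cfsg.Agent.Lib.Helper9_Supersolvable4
import Cfsg.Agent.Lib.Helper9_CLT2
import Cfsg.Agent.Lib.Helper1_MinNormal
import Cfsg.Agent.Lib.Helper1_Frattini
import Cfsg.Agent.Lib.Helper24_CoprimeAction

set_option autoImplicit false
open Cfsg
open scoped commutatorElement

namespace Cfsg.Agent.S0579


open Cfsg.Agent.Lib.Helper9_Huppert Cfsg.Agent.Lib.Helper9_Supersolvable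
  Cfsg.Agent.Lib.Helper9_Supersolvable2 Cfsg.Agent.Lib.Helper9_Supersolvable4
  Cfsg.Agent.Lib.Helper9_CLT2 Cfsg.Agent.Lib.Helper1_MinNormal Cfsg.Agent.Lib.Helper1_Frattini
  Cfsg.Agent.Lib.Helper24_CoprimeAction

universe u

/-- Sylow subgroup for the largest prime is normal when all maximal subgroups have prime
index (as in `S0580`). -/
theorem sylow_normal_of_largest {G : Type u} [Group G] [Finite G]
    (h : ∀ M : Subgroup G, IsCoatom M → M.index.Prime) (p : ℕ) [hp : Fact p.Prime]
    (hpmax : ∀ q : ℕ, q.Prime → q ∣ Nat.card G → q ≤ p) (P : Sylow p G) :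
    (P : Subgroup G).Normal := by
  rw [← Subgroup.normalizer_eq_top_iff]
  by_contra hnt
  obtain ⟨M, hM, hle⟩ := (eq_top_or_exists_le_coatom
    (Subgroup.normalizer ((P : Subgroup G) : Set G))).resolve_left hnt
  have hq := h M hM
  have hmod := Cfsg.Agent.S0580.index_modEq_one P M hle
  have hqd : M.index ∣ Nat.card G := Subgroup.index_dvd_card M
  have hqp : M.index ≤ p := hpmax _ hq hqd
  have h1 : 1 < M.index := hq.one_lt
  have hpp := hp.out
  rcases Nat.lt_or_ge M.index p with hlt | hge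
  · have : M.index % p = 1 % p := hmod
    rw [Nat.mod_eq_of_lt hlt, Nat.mod_eq_of_lt hpp.one_lt] at this
    omega
  · have heq : M.index = p := le_antisymm hqp hge
    have : M.index % p = 1 % p := hmod
    rw [heq, Nat.mod_self, Nat.mod_eq_of_lt hpp.one_lt] at this
    omega

/-- If a minimal normal abelian subgroup `N` is not contained in the maximal subgroup `M`,
then `|G : M| = |N|`. -/
theorem index_eq_card_of_not_le {G : Type u} [Group G] [Finite G] (N : Subgroup G) [hNn : N.Normal]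
    (hmin : ∀ N' : Subgroup G, N'.Normal → N' ≠ ⊥ → N' ≤ N → N' = N)
    (hcomm : ∀ a ∈ N, ∀ b ∈ N, a * b = b * a) (M : Subgroup G) (hM : IsCoatom M)
    (hNM : ¬ N ≤ M) : M.index = Nat.card N := by
  have htop : M ⊔ N = ⊤ := by
    by_contra hne
    have hlt : M < M ⊔ N := lt_of_le_of_ne le_sup_left (fun h => hNM (by rw [h]; exact le_sup_right))
    exact hne (hM.2 _ hlt)
  have hIn : (M ⊓ N).Normal := by
    constructor
    intro x hx g
    obtain ⟨hxM, hxN⟩ := Subgroup.mem_inf.1 hx
    have hg : g ∈ ((M ⊔ N : Subgroup G) : Set G) := by rw [htop]; trivial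
    rw [Subgroup.mul_normal, Set.mem_mul] at hg
    obtain ⟨m, hm, n, hn, rfl⟩ := hg
    have h1 : n * x * n⁻¹ = x := by
      rw [hcomm n hn x hxN, mul_inv_cancel_right]
    have h2 : m * n * x * (m * n)⁻¹ = m * (n * x * n⁻¹) * m⁻¹ := by group
    rw [h2, h1]
    exact ⟨M.mul_mem (M.mul_mem hm hxM) (M.inv_mem hm), hNn.conj_mem x hxN m⟩
  have hbot : M ⊓ N = ⊥ := by
    by_contra hne
    have := hmin _ hIn hne inf_le_right
    exact hNM (by rw [← this]; exact inf_le_left)
  have hcard := card_sup_of_inf_eq_bot M N hbot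
  rw [htop, Subgroup.card_top] at hcard
  have h3 := Subgroup.card_mul_index M
  rw [hcard] at h3
  exact Nat.eq_of_mul_eq_mul_left Nat.card_pos h3

/-- The Frattini case of Huppert's theorem: a minimal normal subgroup `N` inside the normal Sylow
`p`-subgroup `P` (chosen inside `Φ(P)` when possible) that lies in every maximal subgroup has
order `p`, provided `G / N` is supersolvable. -/
theorem card_eq_of_frattini_case {G : Type u} [Group G] [Finite G] [Group.IsSolvable G] (p : ℕ)
    [hp : Fact p.Prime] (P : Subgroup G) [hPn : P.Normal] (hPp : IsPGroup p P)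
    (hcop : (Nat.card P).Coprime P.index) (N : Subgroup G) [hNn : N.Normal] (hN0 : N ≠ ⊥)
    (hNP : N ≤ P) (hNmin : ∀ N' : Subgroup G, N'.Normal → N' ≠ ⊥ → N' ≤ N → N' = N)
    (hNΦ : (frattini P).map P.subtype ≠ ⊥ → N ≤ (frattini P).map P.subtype)
    (hQ : Cfsg.IsSupersolvable (G ⧸ N)) (hΦG : ∀ M : Subgroup G, IsCoatom M → N ≤ M) :
    Nat.card N = p := by
  have hNcen : N ≤ Subgroup.centralizer (P : Set G) :=
    minimal_normal_le_centralizer p P N hPp hN0 hNP hNmin
  have hcomm : ∀ a ∈ N, ∀ b ∈ N, a * b = b * a := by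
    intro a ha b hb
    exact (Subgroup.mem_centralizer_iff.1 (hNcen hb)) a (hNP ha)
  obtain ⟨⟨w₀, hw₀N⟩, hw₀'⟩ := (Subgroup.ne_bot_iff_exists_ne_one).1 hN0
  have hw₀ : w₀ ≠ 1 := fun h => hw₀' (Subtype.ext h)
  have hexp : ∀ a ∈ N, a ^ p = 1 := by
    have hsolvN : Group.IsSolvable N := inferInstance
    have hmin' : ∀ M : Subgroup G, M.Normal → M ≤ N → M = ⊥ ∨ M = N := by
      intro M hM hle
      by_cases h : M = ⊥
      · exact Or.inl h
      · exact Or.inr (hNmin M hM h hle)
    obtain ⟨-, q, hq, hqexp⟩ := elementary_abelian_of_minimal N hsolvN hN0 hmin'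
    have : Fact q.Prime := ⟨hq⟩
    have ho : orderOf w₀ = q := orderOf_eq_prime (hqexp w₀ hw₀N) hw₀
    obtain ⟨j, hj⟩ := hPp ⟨w₀, hNP hw₀N⟩
    have hj' : w₀ ^ p ^ j = 1 := by
      have := congrArg Subtype.val hj
      simpa using this
    have h1 : q ∣ p ^ j := by rw [← ho]; exact orderOf_dvd_of_pow_eq_one hj'
    have hqp : q = p := (Nat.prime_dvd_prime_iff_eq hq hp.out).1 (hq.dvd_of_dvd_pow h1)
    rw [← hqp]; exact hqexp
  have hPne : P ≠ ⊥ := fun h => hN0 (le_bot_iff.1 (h ▸ hNP))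
  have hpP : p ∣ Nat.card P := by
    rcases hPp.card_eq_or_dvd with h1 | h1
    · exact absurd (Subgroup.eq_bot_of_card_eq _ h1) hPne
    · exact h1
  -- a Hall complement
  obtain ⟨H, hH⟩ := Cfsg.Agent.S0003.result (G := G) P.index (Nat.card P)
    (by rw [mul_comm]; exact (Subgroup.card_mul_index P).symm) hcop.symm
  have hHcop : (Nat.card H).Coprime (Nat.card P) := by rw [hH]; exact hcop.symm
  have hcompl : Subgroup.IsComplement' H P :=
    Subgroup.isComplement'_of_coprime (by rw [hH, mul_comm]; exact Subgroup.card_mul_index P) hHcop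
  have hdecomp : ∀ g : G, ∃ h ∈ H, ∃ x ∈ P, g = h * x := by
    intro g
    obtain ⟨⟨h, x⟩, hhx, -⟩ := hcompl.existsUnique g
    exact ⟨h.1, h.2, x.1, x.2, hhx.symm⟩
  have hHP : H ⊓ P = ⊥ := (Subgroup.disjoint_of_coprime_natCard hHcop).eq_bot
  have hHp : ∀ k ∈ H, (orderOf k).Coprime p := by
    intro k hk
    exact Nat.Coprime.coprime_dvd_left (Subgroup.orderOf_dvd_natCard H hk)
      (Nat.Coprime.coprime_dvd_right hpP hHcop)
  -- the quotient by `N`
  obtain ⟨R, hR⟩ : ∃ R : Subgroup (G ⧸ N), R = P.map (QuotientGroup.mk' N) := ⟨_, rfl⟩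
  have hRn : R.Normal := by
    rw [hR]; exact Subgroup.Normal.map hPn _ (QuotientGroup.mk'_surjective N)
  have hRp : IsPGroup p R := by rw [hR]; exact hPp.map _
  have key : ∀ k ∈ H, TrivOnPrimeSections p (QuotientGroup.mk' N k) → ∀ x ∈ P, ⁅k, x⁆ ∈ N := by
    intro k hk hT x hx
    have hord : (orderOf (QuotientGroup.mk' N k)).Coprime p :=
      Nat.Coprime.coprime_dvd_left (orderOf_map_dvd (QuotientGroup.mk' N) k) (hHp k hk)
    have h0 := centralizes_of_trivOnPrimeSections p hQ R hRp (QuotientGroup.mk' N k) hord hT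
      (QuotientGroup.mk' N x) (by rw [hR]; exact Subgroup.mem_map_of_mem _ hx)
    have h1 : QuotientGroup.mk' N ⁅k, x⁆ = 1 := by
      rw [map_commutatorElement, commutatorElement_eq_one_iff_mul_comm]; exact h0
    exact (QuotientGroup.eq_one_iff _).1 h1
  -- the centralizer of `P / N`
  obtain ⟨C, hC⟩ : ∃ C : Subgroup G,
      C = (Subgroup.centralizer (R : Set (G ⧸ N))).comap (QuotientGroup.mk' N) := ⟨_, rfl⟩
  have hCn : C.Normal := by
    rw [hC]
    have : (Subgroup.centralizer (R : Set (G ⧸ N))).Normal := Subgroup.normal_centralizer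
    exact this.comap _
  have hCmem : ∀ g : G, g ∈ C ↔ ∀ x ∈ P, ⁅g, x⁆ ∈ N := by
    intro g
    rw [hC, Subgroup.mem_comap, Subgroup.mem_centralizer_iff]
    constructor
    · intro h x hx
      have h1 := h (QuotientGroup.mk' N x) (by rw [hR]; exact Subgroup.mem_map_of_mem _ hx)
      have h2 : QuotientGroup.mk' N ⁅g, x⁆ = 1 := by
        rw [map_commutatorElement, commutatorElement_eq_one_iff_mul_comm]; exact h1.symm
      exact (QuotientGroup.eq_one_iff _).1 h2
    · intro h r hr
      rw [hR] at hr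
      obtain ⟨x, hx, rfl⟩ := hr
      have h2 : QuotientGroup.mk' N ⁅g, x⁆ = 1 := (QuotientGroup.eq_one_iff _).2 (h x hx)
      rw [map_commutatorElement, commutatorElement_eq_one_iff_mul_comm] at h2
      exact h2.symm
  obtain ⟨K, hK⟩ : ∃ K : Subgroup G, K = H ⊓ C := ⟨_, rfl⟩
  have hKH : K ≤ H := by rw [hK]; exact inf_le_left
  have hKC : K ≤ C := by rw [hK]; exact inf_le_right
  have hKpow : ∀ h ∈ H, h ^ (p - 1) ∈ K := by
    intro h hh
    rw [hK]
    refine ⟨H.pow_mem hh _, (hCmem _).2 (key _ (H.pow_mem hh _) ?_)⟩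
    rw [map_pow]; exact trivOnPrimeSections_pow p _
  have hKcomm : ∀ h ∈ H, ∀ h' ∈ H, ⁅h, h'⁆ ∈ K := by
    intro h hh h' hh'
    have hmem : ⁅h, h'⁆ ∈ H := by
      rw [commutatorElement_def]
      exact H.mul_mem (H.mul_mem (H.mul_mem hh hh') (H.inv_mem hh)) (H.inv_mem hh')
    rw [hK]
    refine ⟨hmem, (hCmem _).2 (key _ hmem ?_)⟩
    rw [map_commutatorElement]; exact trivOnPrimeSections_commutator p _ _
  have hcomKN : ⁅P, K⁆ ≤ N := by
    rw [Subgroup.commutator_le]
    intro x hx k hk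
    have h1 := (hCmem k).1 (hKC hk) x hx
    have h2 : ⁅x, k⁆ = ⁅k, x⁆⁻¹ := (commutatorElement_inv k x).symm
    rw [h2]; exact N.inv_mem h1
  have hKnorm : K ≤ Subgroup.normalizer (P : Set G) := by
    rw [Subgroup.normalizer_eq_top]; exact le_top
  have hKcop : (Nat.card K).Coprime (Nat.card P) :=
    Nat.Coprime.coprime_dvd_left (Subgroup.card_dvd_of_le hKH) hHcop
  have hPsolv : Group.IsSolvable P := by
    have := hPp.isNilpotent
    infer_instance
  have hdec : ∀ x ∈ P, ∃ d ∈ N, ∃ c ∈ P ⊓ Subgroup.centralizer (K : Set G), x = d * c := by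
    intro x hx
    obtain ⟨d, hd, c, hc, hxdc⟩ := coprime_decomp K P hKnorm hKcop (Or.inr hPsolv) hx
    exact ⟨d, hcomKN hd, c, hc, hxdc⟩
  -- `K` centralizes `N`
  have hNK : N ≤ Subgroup.centralizer (K : Set G) := by
    by_cases hΦ : (frattini P).map P.subtype = ⊥
    · -- `P` is abelian
      have hfr : frattini P = ⊥ := (Subgroup.map_eq_bot_iff_of_injective _ P.subtype_injective).1 hΦ
      have hPab : ∀ a ∈ P, ∀ b ∈ P, a * b = b * a := by
        intro a ha b hb
        have h1 : ⁅(⟨a, ha⟩ : P), ⟨b, hb⟩⁆ ∈ commutator P :=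
          Subgroup.commutator_mem_commutator (Subgroup.mem_top _) (Subgroup.mem_top _)
        have h2 := commutator_le_frattini_of_isPGroup hPp h1
        rw [hfr, Subgroup.mem_bot, commutatorElement_eq_one_iff_mul_comm] at h2
        exact congrArg Subtype.val h2
      obtain ⟨D, hD⟩ : ∃ D : Subgroup G, D = P ⊓ Subgroup.centralizer (K : Set G) := ⟨_, rfl⟩
      have hDn : D.Normal := by
        constructor
        intro d hd g
        rw [hD] at hd ⊢
        obtain ⟨hdP, hdK⟩ := Subgroup.mem_inf.1 hd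
        obtain ⟨h, hh, x, hx, rfl⟩ := hdecomp g
        have h1 : x * d * x⁻¹ = d := by rw [hPab x hx d hdP, mul_inv_cancel_right]
        have h2 : h * x * d * (h * x)⁻¹ = h * (x * d * x⁻¹) * h⁻¹ := by group
        rw [h2, h1]
        refine Subgroup.mem_inf.2 ⟨hPn.conj_mem d hdP h, ?_⟩
        rw [Subgroup.mem_centralizer_iff]
        intro k hk
        have hk' : h⁻¹ * k * h ∈ K := by
          rw [hK]
          refine ⟨H.mul_mem (H.mul_mem (H.inv_mem hh) (hKH hk)) hh, ?_⟩
          have := hCn.conj_mem k (hKC hk) h⁻¹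
          rwa [inv_inv] at this
        have h3 := (Subgroup.mem_centralizer_iff.1 hdK) _ hk'
        calc k * (h * d * h⁻¹) = h * ((h⁻¹ * k * h) * d) * h⁻¹ := by group
          _ = h * (d * (h⁻¹ * k * h)) * h⁻¹ := by rw [h3]
          _ = h * d * h⁻¹ * k := by group
      by_cases hDN : D ⊓ N = ⊥
      · exfalso
        have hLN : (D ⊔ H) ⊔ N = ⊤ := by
          rw [eq_top_iff]
          intro g _
          obtain ⟨h, hh, x, hx, rfl⟩ := hdecomp g
          obtain ⟨d, hd, c, hc, rfl⟩ := hdec x hx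
          have hcD : c ∈ D := by rw [hD]; exact hc
          have h1 : h ∈ (D ⊔ H) ⊔ N := Subgroup.mem_sup_left (Subgroup.mem_sup_right hh)
          have h2 : d ∈ (D ⊔ H) ⊔ N := Subgroup.mem_sup_right hd
          have h3 : c ∈ (D ⊔ H) ⊔ N := Subgroup.mem_sup_left (Subgroup.mem_sup_left hcD)
          exact Subgroup.mul_mem _ h1 (Subgroup.mul_mem _ h2 h3)
        have hLne : D ⊔ H ≠ ⊤ := by
          intro hL
          have hw : w₀ ∈ ((D ⊔ H : Subgroup G) : Set G) := by rw [hL]; trivial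
          rw [Subgroup.normal_mul, Set.mem_mul] at hw
          obtain ⟨d, hd, h, hh, hdh⟩ := hw
          have hdP : d ∈ P := by
            have : d ∈ D := hd
            rw [hD] at this; exact this.1
          have hhP : h ∈ P := by
            have e : h = d⁻¹ * w₀ := by rw [← hdh]; group
            rw [e]; exact P.mul_mem (P.inv_mem hdP) (hNP hw₀N)
          have hh1 : h ∈ H ⊓ P := ⟨hh, hhP⟩
          rw [hHP, Subgroup.mem_bot] at hh1
          rw [hh1, mul_one] at hdh
          have : w₀ ∈ D ⊓ N := ⟨by rw [← hdh]; exact hd, hw₀N⟩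
          rw [hDN, Subgroup.mem_bot] at this
          exact hw₀ this
        obtain ⟨M, hM, hle⟩ := (eq_top_or_exists_le_coatom (D ⊔ H)).resolve_left hLne
        have h1 : (D ⊔ H) ⊔ N ≤ M := sup_le hle (hΦG M hM)
        rw [hLN] at h1
        exact hM.1 (top_le_iff.1 h1)
      · have h1 := hNmin (D ⊓ N) inferInstance hDN inf_le_right
        have h2 : N ≤ D := by rw [← h1]; exact inf_le_left
        rw [hD] at h2
        exact h2.trans inf_le_right
    · -- `N ≤ Φ(P)`
      have hNle := hNΦ hΦ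
      obtain ⟨D, hD⟩ : ∃ D : Subgroup G, D = P ⊓ Subgroup.centralizer (K : Set G) := ⟨_, rfl⟩
      have htop : D.subgroupOf P ⊔ frattini P = ⊤ := by
        rw [eq_top_iff]
        intro x _
        obtain ⟨d, hd, c, hc, hx⟩ := hdec x.1 x.2
        obtain ⟨f, hf, hfd⟩ := hNle hd
        have hcD : c ∈ D := by rw [hD]; exact hc
        have e : x = f * ⟨c, hc.1⟩ := by
          apply Subtype.ext
          rw [Subgroup.coe_mul]
          change x.1 = (P.subtype f) * c
          rw [hfd]; exact hx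
        rw [e]
        exact Subgroup.mul_mem _ (Subgroup.mem_sup_right hf)
          (Subgroup.mem_sup_left (Subgroup.mem_subgroupOf.2 hcD))
      have h1 : D.subgroupOf P = ⊤ := frattini_nongenerating htop
      have h2 : P ≤ D := Subgroup.subgroupOf_eq_top.1 h1
      rw [hD] at h2
      exact hNP.trans (h2.trans inf_le_right)
  have hKN : K ≤ Subgroup.centralizer (N : Set G) := by
    intro k hk
    rw [Subgroup.mem_centralizer_iff]
    intro n hn
    exact ((Subgroup.mem_centralizer_iff.1 (hNK hn)) k hk).symm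
  have hPN : P ≤ Subgroup.centralizer (N : Set G) := by
    intro x hx
    rw [Subgroup.mem_centralizer_iff]
    intro n hn
    exact ((Subgroup.mem_centralizer_iff.1 (hNcen hn)) x hx).symm
  have hCNn : (Subgroup.centralizer (N : Set G)).Normal := Subgroup.normal_centralizer
  have hmk : ∀ g : G, ∃ h ∈ H, QuotientGroup.mk' (Subgroup.centralizer (N : Set G)) g =
      QuotientGroup.mk' (Subgroup.centralizer (N : Set G)) h := by
    intro g
    obtain ⟨h, hh, x, hx, rfl⟩ := hdecomp g
    refine ⟨h, hh, ?_⟩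
    have hx1 : QuotientGroup.mk' (Subgroup.centralizer (N : Set G)) x = 1 :=
      (QuotientGroup.eq_one_iff x).2 (hPN hx)
    rw [map_mul, hx1, mul_one]
  have hpow : ∀ g : G, ∀ w ∈ N, g ^ (p - 1) * w = w * g ^ (p - 1) := by
    intro g w hw
    obtain ⟨h, hh, hgh⟩ := hmk g
    have h1 : QuotientGroup.mk' (Subgroup.centralizer (N : Set G)) (g ^ (p - 1)) = 1 := by
      rw [map_pow, hgh, ← map_pow]
      exact (QuotientGroup.eq_one_iff _).2 (hKN (hKpow h hh))
    have h2 := (QuotientGroup.eq_one_iff _).1 h1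
    exact ((Subgroup.mem_centralizer_iff.1 h2) w hw).symm
  have hc : ∀ g g' : G, ∀ w ∈ N, ⁅g, g'⁆ * w = w * ⁅g, g'⁆ := by
    intro g g' w hw
    obtain ⟨h, hh, hgh⟩ := hmk g
    obtain ⟨h', hh', hgh'⟩ := hmk g'
    have h1 : QuotientGroup.mk' (Subgroup.centralizer (N : Set G)) ⁅g, g'⁆ = 1 := by
      rw [map_commutatorElement, hgh, hgh', ← map_commutatorElement]
      exact (QuotientGroup.eq_one_iff _).2 (hKN (hKcomm h hh h' hh'))
    have h2 := (QuotientGroup.eq_one_iff _).1 h1
    exact ((Subgroup.mem_centralizer_iff.1 h2) w hw).symm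
  exact card_eq_prime_of_abelian_action p N hN0 hNmin hcomm hexp hpow hc

theorem huppert_aux : ∀ (n : ℕ) (G : Type u) [Group G] [Finite G], Nat.card G = n →
    (∀ M : Subgroup G, IsCoatom M → M.index.Prime) → Cfsg.IsSupersolvable G := by
  intro n
  induction n using Nat.strong_induction_on with
  | _ n ih =>
  intro G _ _ hn h
  by_cases htriv : Nat.card G = 1
  · have : Subsingleton G := (Nat.card_eq_one_iff_unique.mp htriv).1
    exact isSupersolvable_of_subsingleton
  have hsolv : Group.IsSolvable G := Cfsg.Agent.S0580.result h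
  have hquot : ∀ (N : Subgroup G) [N.Normal], N ≠ ⊥ → Cfsg.IsSupersolvable (G ⧸ N) := by
    intro N _ hN
    exact ih _ (by rw [← hn]; exact card_quotient_lt N hN) (G ⧸ N) rfl
      (Cfsg.Agent.S0580.hyp_quotient h N)
  suffices hex : ∃ N : Subgroup G, N.Normal ∧ (Nat.card N).Prime by
    obtain ⟨N, hNn, hNp⟩ := hex
    have : Fact (Nat.card N).Prime := ⟨hNp⟩
    have hc : IsCyclic N := isCyclic_of_prime_card rfl
    exact isSupersolvable_of_quotient_cyclic N (hquot N (ne_bot_of_card_prime hNp))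
  -- the largest prime
  have hne : (Nat.card G).primeFactors.Nonempty := by
    rw [Nat.nonempty_primeFactors]
    have := Nat.card_pos (α := G)
    omega
  obtain ⟨p, hpmem, hpmax'⟩ := Finset.exists_max_image (Nat.card G).primeFactors id hne
  have hpp : p.Prime := Nat.prime_of_mem_primeFactors hpmem
  have hpdvd : p ∣ Nat.card G := Nat.dvd_of_mem_primeFactors hpmem
  have hpmax : ∀ q : ℕ, q.Prime → q ∣ Nat.card G → q ≤ p := by
    intro q hq hqd
    exact hpmax' q (Nat.mem_primeFactors.2 ⟨hq, hqd, Nat.card_pos.ne'⟩)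
  have : Fact p.Prime := ⟨hpp⟩
  obtain ⟨P₀⟩ : Nonempty (Sylow p G) := inferInstance
  have hP₀n : (P₀ : Subgroup G).Normal := sylow_normal_of_largest h p hpmax P₀
  have hP₀ne : (P₀ : Subgroup G) ≠ ⊥ := P₀.ne_bot_of_dvd_card hpdvd
  obtain ⟨P, hP⟩ : ∃ P : Subgroup G, P = (P₀ : Subgroup G) := ⟨_, rfl⟩
  have hPn : P.Normal := by rw [hP]; exact hP₀n
  have hPne : P ≠ ⊥ := by rw [hP]; exact hP₀ne
  have hPp : IsPGroup p P := by rw [hP]; exact P₀.isPGroup'
  have hcop : (Nat.card P).Coprime P.index := by rw [hP]; exact P₀.card_coprime_index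
  -- the Frattini subgroup of `P` is normal in `G`
  have hΦn : ((frattini P).map P.subtype).Normal := by
    rw [← Subgroup.normalizer_eq_top_iff, eq_top_iff]
    have h1 := normalizer_le_normalizer_map_of_characteristic P (frattini P)
    rwa [Subgroup.normalizer_eq_top] at h1
  -- choose the minimal normal subgroup
  obtain ⟨N, hNn, hN0, hNP, hNΦ, hNmin⟩ : ∃ N : Subgroup G, N.Normal ∧ N ≠ ⊥ ∧ N ≤ P ∧
      ((frattini P).map P.subtype ≠ ⊥ → N ≤ (frattini P).map P.subtype) ∧
      ∀ N' : Subgroup G, N'.Normal → N' ≠ ⊥ → N' ≤ N → N' = N := by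
    by_cases hΦ : (frattini P).map P.subtype = ⊥
    · obtain ⟨N, h1, h2, h3, h4⟩ := exists_minimal_normal_le P hPne
      exact ⟨N, h1, h2, h3, fun h => absurd hΦ h, h4⟩
    · obtain ⟨N, h1, h2, h3, h4⟩ := exists_minimal_normal_le ((frattini P).map P.subtype) hΦ
      exact ⟨N, h1, h2, h3.trans (Subgroup.map_subtype_le _), fun _ => h3, h4⟩
  have hNcen : N ≤ Subgroup.centralizer (P : Set G) :=
    minimal_normal_le_centralizer p P N hPp hN0 hNP hNmin
  have hcomm : ∀ a ∈ N, ∀ b ∈ N, a * b = b * a := by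
    intro a ha b hb
    exact (Subgroup.mem_centralizer_iff.1 (hNcen hb)) a (hNP ha)
  by_cases hcomp : ∃ M : Subgroup G, IsCoatom M ∧ ¬ N ≤ M
  · obtain ⟨M, hM, hNM⟩ := hcomp
    refine ⟨N, hNn, ?_⟩
    rw [← index_eq_card_of_not_le N hNmin hcomm M hM hNM]
    exact h M hM
  · push Not at hcomp
    refine ⟨N, hNn, ?_⟩
    rw [card_eq_of_frattini_case p P hPp hcop N hN0 hNP hNmin hNΦ (hquot N hN0) hcomp]
    exact hpp

/-- Huppert's supersolvability criterion: if every maximal subgroup of a finite group has prime index, then the group is supersolvable. -/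
theorem result {G : Type*} [Group G] [Finite G] (h : ∀ M : Subgroup G, IsCoatom M → M.index.Prime) : Cfsg.IsSupersolvable G := by
  exact huppert_aux (Nat.card G) G rfl h

end Cfsg.Agent.S0579
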