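import Cfsg.Statements.S0582
import Mathlib
import Cfsg.Agent.Lib.Helper34_Sylow
import Cfsg.Agent.Lib.Helper9_Supersolvable
import Cfsg.Agent.Lib.Helper9_Supersolvable3
import Cfsg.Agent.Lib.Helper9_CLT
import Cfsg.Agent.Lib.Helper10_Thompson

set_option autoImplicit false
open Pointwise
open Cfsg

namespace Cfsg.Agent.S0582

open Cfsg.Agent.Lib.Helper34_Sylow
open Cfsg.Agent.Lib.Helper9_Supersolvable
open Cfsg.Agent.Lib.Helper10_Thompson (card_eq_relIndex_mul_card)

universe u

variable {G : Type u} [Group G]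

theorem ss_map_subtype {H : Subgroup G} (S : Subgroup H) (h : IsSupersolvable S) :
    IsSupersolvable (S.map H.subtype) :=
  isSupersolvable_of_mulEquiv (Subgroup.equivMapOfInjective S H.subtype H.subtype_injective) h

theorem ss_cj (g : G) {U : Subgroup G} (h : IsSupersolvable U) : IsSupersolvable (cj g U) :=
  isSupersolvable_of_mulEquiv
    (Subgroup.equivMapOfInjective U (MulAut.conj g).toMonoidHom (MulAut.conj g).injective) h

theorem cj_sup (g : G) (U V : Subgroup G) : cj g (U ⊔ V) = cj g U ⊔ cj g V :=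
  Subgroup.map_sup U V _

/-- In a finite supersolvable group the Sylow subgroups for the largest prime are normal. -/
theorem normal_sylow_of_ss [Finite G] (h : IsSupersolvable G) (p : ℕ) [Fact p.Prime]
    (hdvd : p ∣ Nat.card G) (hmax : ∀ q : ℕ, q.Prime → q ∣ Nat.card G → q ≤ p)
    (P : Sylow p G) : (P : Subgroup G).Normal := by
  apply Cfsg.Agent.Lib.Helper9_CLT.normal_sylow_largest_prime _ p hdvd hmax P
  intro K
  exact Cfsg.Agent.Lib.Helper9_Supersolvable3.hasSubgroupOfEveryOrder
    (isSupersolvable_subgroup K h)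

theorem relIndex_map_subtype'' (H : Subgroup G) (P : Subgroup H) :
    (P.map H.subtype).relIndex H = P.index := by
  unfold Subgroup.relIndex Subgroup.subgroupOf
  rw [Subgroup.comap_map_eq_self_of_injective H.subtype_injective]

theorem subgroupOf_map_subtype' (H : Subgroup G) (P : Subgroup H) :
    (P.map H.subtype).subgroupOf H = P := by
  unfold Subgroup.subgroupOf
  exact Subgroup.comap_map_eq_self_of_injective H.subtype_injective P

theorem main [Finite G] : ∀ (n : ℕ) (M H K : Subgroup G), H ≤ M → K ≤ M →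
    IsSupersolvable H → IsSupersolvable K → Nat.card H = n → Nat.card K = n →
    (Nat.card H).Coprime (H.relIndex M) → ∃ x ∈ M, cj x H = K := by
  intro n
  induction n using Nat.strong_induction_on with
  | _ n ih =>
    intro M H K hHM hKM hHs hKs hHn hKn hcop
    by_cases hn1 : n = 1
    · have hH : H = ⊥ := Subgroup.card_eq_one.1 (hHn.trans hn1)
      have hK : K = ⊥ := Subgroup.card_eq_one.1 (hKn.trans hn1)
      refine ⟨1, M.one_mem, ?_⟩
      rw [hH, hK, cj_one]
    have hnpos : 0 < n := hHn ▸ Nat.card_pos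
    have hne : n.primeFactors.Nonempty := Nat.nonempty_primeFactors.2 (by omega)
    obtain ⟨p, hpdef⟩ : ∃ p, p = n.primeFactors.max' hne := ⟨_, rfl⟩
    have hpmem : p ∈ n.primeFactors := hpdef ▸ Finset.max'_mem _ _
    have hpp : p.Prime := Nat.prime_of_mem_primeFactors hpmem
    have hpn : p ∣ n := Nat.dvd_of_mem_primeFactors hpmem
    have hmax : ∀ q : ℕ, q.Prime → q ∣ n → q ≤ p := fun q hq hqn =>
      hpdef ▸ Finset.le_max' _ q (Nat.mem_primeFactors.2 ⟨hq, hqn, hnpos.ne'⟩)
    have hpf : Fact p.Prime := ⟨hpp⟩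
    obtain ⟨P₀⟩ : Nonempty (Sylow p H) := inferInstance
    obtain ⟨Q₀⟩ : Nonempty (Sylow p K) := inferInstance
    have hP₀n : (P₀ : Subgroup H).Normal :=
      normal_sylow_of_ss hHs p (hHn ▸ hpn) (fun q hq hqd => hmax q hq (hHn ▸ hqd)) P₀
    have hQ₀n : (Q₀ : Subgroup K).Normal :=
      normal_sylow_of_ss hKs p (hKn ▸ hpn) (fun q hq hqd => hmax q hq (hKn ▸ hqd)) Q₀
    have hPH : (P₀ : Subgroup H).map H.subtype ≤ H := Subgroup.map_subtype_le _
    have hQK : (Q₀ : Subgroup K).map K.subtype ≤ K := Subgroup.map_subtype_le _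
    have hKrel : K.relIndex M = H.relIndex M := by
      have h1 := card_eq_relIndex_mul_card hHM
      have h2 := card_eq_relIndex_mul_card hKM
      rw [hHn] at h1
      rw [hKn, h1] at h2
      exact (Nat.eq_of_mul_eq_mul_right hnpos h2).symm
    have hpH : p ∣ Nat.card H := hHn ▸ hpn
    have hpnot : ¬ p ∣ H.relIndex M := by
      intro h
      have := Nat.dvd_gcd hpH h
      rw [hcop.gcd_eq_one] at this
      exact hpp.one_lt.ne' (Nat.dvd_one.1 this)
    have hPrel : ¬ p ∣ ((P₀ : Subgroup H).map H.subtype).relIndex M := by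
      rw [← Subgroup.relIndex_mul_relIndex _ H M hPH hHM, relIndex_map_subtype'']
      intro h
      rcases (Nat.Prime.dvd_mul hpp).1 h with h | h
      · exact P₀.not_dvd_index h
      · exact hpnot h
    obtain ⟨g, hgM, hg⟩ := exists_cj_le_of_relIndex (P₀.2.map H.subtype) hPrel
      (hQK.trans hKM) (Q₀.2.map K.subtype)
    have hcardPQ : Nat.card (P₀ : Subgroup H) = Nat.card (Q₀ : Subgroup K) := by
      rw [Sylow.card_eq_multiplicity, Sylow.card_eq_multiplicity, hHn, hKn]
    have hgQ : cj g ((Q₀ : Subgroup K).map K.subtype) = (P₀ : Subgroup H).map H.subtype :=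
      Subgroup.eq_of_le_of_card_ge hg (by
        rw [card_cj, Subgroup.card_subtype, Subgroup.card_subtype, hcardPQ])
    have hHN : H ≤ Subgroup.normalizer (((P₀ : Subgroup H).map H.subtype : Subgroup G) : Set G) := by
      rw [← Subgroup.normal_subgroupOf_iff_le_normalizer hPH, subgroupOf_map_subtype']
      exact hP₀n
    have hKN : K ≤ Subgroup.normalizer (((Q₀ : Subgroup K).map K.subtype : Subgroup G) : Set G) := by
      rw [← Subgroup.normal_subgroupOf_iff_le_normalizer hQK, subgroupOf_map_subtype']
      exact hQ₀n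
    have hK₁N : cj g K
        ≤ Subgroup.normalizer (((P₀ : Subgroup H).map H.subtype : Subgroup G) : Set G) := by
      rw [← hgQ, ← cj_normalizer]; exact cj_mono hKN
    obtain ⟨H₂, hH₂⟩ := Subgroup.exists_right_complement'_of_coprime
      (N := (P₀ : Subgroup H)) P₀.card_coprime_index
    obtain ⟨K₂, hK₂⟩ := Subgroup.exists_right_complement'_of_coprime
      (N := (Q₀ : Subgroup K)) Q₀.card_coprime_index
    have hH₂card : Nat.card (H₂.map H.subtype) = (P₀ : Subgroup H).index := by
      rw [Subgroup.card_subtype]; exact hH₂.symm.index_eq_card.symm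
    have hidxeq : (Q₀ : Subgroup K).index = (P₀ : Subgroup H).index := by
      have h1 := (P₀ : Subgroup H).index_mul_card
      have h2 := (Q₀ : Subgroup K).index_mul_card
      rw [hHn] at h1
      rw [hKn, ← h1, hcardPQ] at h2
      exact Nat.eq_of_mul_eq_mul_right Nat.card_pos h2
    have hK₂card : Nat.card (K₂.map K.subtype) = (P₀ : Subgroup H).index := by
      rw [Subgroup.card_subtype, ← hidxeq]; exact hK₂.symm.index_eq_card.symm
    have hlt : (P₀ : Subgroup H).index < n := by
      have h1 := (P₀ : Subgroup H).index_mul_card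
      rw [hHn] at h1
      have h2 : 1 < Nat.card (P₀ : Subgroup H) := by
        rw [Sylow.card_eq_multiplicity]
        apply Nat.one_lt_pow _ hpp.one_lt
        have := (Nat.Prime.factorization_pos_of_dvd hpp (Nat.card_pos (α := H)).ne' hpH)
        exact this.ne'
      have h3 : 0 < (P₀ : Subgroup H).index := Nat.pos_of_ne_zero Subgroup.FiniteIndex.index_ne_zero
      nlinarith
    have hHsup : H = (P₀ : Subgroup H).map H.subtype ⊔ H₂.map H.subtype := by
      have h2 := congrArg (Subgroup.map H.subtype) hH₂.sup_eq_top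
      rw [Subgroup.map_sup, ← MonoidHom.range_eq_map, Subgroup.range_subtype] at h2
      exact h2.symm
    have hKsup : K = (Q₀ : Subgroup K).map K.subtype ⊔ K₂.map K.subtype := by
      have h2 := congrArg (Subgroup.map K.subtype) hK₂.sup_eq_top
      rw [Subgroup.map_sup, ← MonoidHom.range_eq_map, Subgroup.range_subtype] at h2
      exact h2.symm
    have hH₂M' : H₂.map H.subtype ≤ M ⊓ Subgroup.normalizer
        (((P₀ : Subgroup H).map H.subtype : Subgroup G) : Set G) :=
      le_inf ((Subgroup.map_subtype_le _).trans hHM) ((Subgroup.map_subtype_le _).trans hHN)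
    have hK₂M' : cj g (K₂.map K.subtype) ≤ M ⊓ Subgroup.normalizer
        (((P₀ : Subgroup H).map H.subtype : Subgroup G) : Set G) :=
      le_inf (cj_le_of_mem ((Subgroup.map_subtype_le _).trans hKM) hgM)
        ((cj_mono (Subgroup.map_subtype_le _)).trans hK₁N)
    have hcop₂ : (Nat.card (H₂.map H.subtype)).Coprime ((H₂.map H.subtype).relIndex
        (M ⊓ Subgroup.normalizer (((P₀ : Subgroup H).map H.subtype : Subgroup G) : Set G))) := by
      have h1 : (H₂.map H.subtype).relIndex
          (M ⊓ Subgroup.normalizer (((P₀ : Subgroup H).map H.subtype : Subgroup G) : Set G))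
          ∣ (H₂.map H.subtype).relIndex M := by
        rw [← Subgroup.relIndex_mul_relIndex _ _ M hH₂M' inf_le_left]; exact dvd_mul_right _ _
      have h2 : (H₂.map H.subtype).relIndex M
          = Nat.card (P₀ : Subgroup H) * H.relIndex M := by
        rw [← Subgroup.relIndex_mul_relIndex _ H M (Subgroup.map_subtype_le _) hHM,
          relIndex_map_subtype'', hH₂.index_eq_card]
      refine Nat.Coprime.coprime_dvd_right h1 ?_
      rw [h2, hH₂card]
      apply Nat.Coprime.mul_right
      · exact P₀.card_coprime_index.symm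
      · exact Nat.Coprime.coprime_dvd_left (P₀ : Subgroup H).index_dvd_card hcop
    obtain ⟨x, hxM', hx⟩ := ih _ hlt _ (H₂.map H.subtype) (cj g (K₂.map K.subtype)) hH₂M' hK₂M'
      (ss_map_subtype _ (isSupersolvable_subgroup H₂ hHs))
      (ss_cj g (ss_map_subtype _ (isSupersolvable_subgroup K₂ hKs))) hH₂card
      (by rw [card_cj]; exact hK₂card) hcop₂
    have hxP : cj x ((P₀ : Subgroup H).map H.subtype) = (P₀ : Subgroup H).map H.subtype :=
      cj_eq_self_of_mem_normalizer hxM'.2
    have h3 : cj x H = cj g K := by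
      calc cj x H = cj x ((P₀ : Subgroup H).map H.subtype ⊔ H₂.map H.subtype) :=
            congrArg (cj x) hHsup
        _ = (P₀ : Subgroup H).map H.subtype ⊔ cj g (K₂.map K.subtype) := by
            rw [cj_sup, hxP, hx]
        _ = cj g ((Q₀ : Subgroup K).map K.subtype ⊔ K₂.map K.subtype) := by
            rw [cj_sup, hgQ]
        _ = cj g K := (congrArg (cj g) hKsup).symm
    refine ⟨g⁻¹ * x, M.mul_mem (M.inv_mem hgM) hxM'.1, ?_⟩
    rw [cj_mul, h3, cj_inv_cj]

/-- Let H and K be supersolvable subgroups of a finite group G of the same order, that order being coprime to their index. Then H and K are conjugate in G. -/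
theorem result {G : Type*} [Group G] [Finite G] (H K : Subgroup G) (hH : Cfsg.IsSupersolvable H) (hK : Cfsg.IsSupersolvable K) (hcard : Nat.card H = Nat.card K) (hHall : (Nat.card H).Coprime H.index) : ∃ x : G, MulAut.conj x • H = K := by
  obtain ⟨x, _, hx⟩ := main (Nat.card H) ⊤ H K le_top le_top hH hK rfl hcard.symm
    (by rw [Subgroup.relIndex_top_right]; exact hHall)
  exact ⟨x, hx⟩

end Cfsg.Agent.S0582
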