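import Cfsg.Statements.S0584
import Mathlib

set_option autoImplicit false
open Cfsg
open scoped Pointwise

namespace Cfsg.Agent.S0584

/-- Let B ≤ A be normal subgroups of a finite group G with B contained in the Frattini subgroup of G. If A modulo B is nilpotent then A is nilpotent. -/
theorem result {G : Type*} [Group G] [Finite G] (A B : Subgroup G) [A.Normal] [B.Normal] (hBA : B ≤ A) (hB : B ≤ frattini G) (h : Group.IsNilpotent (↥A ⧸ B.subgroupOf A)) : Group.IsNilpotent A := by
  have tfae := (Group.isNilpotent_of_finite_tfae (G := A)).out 0 3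
  rw [tfae]
  intro p hp P
  set B' : Subgroup A := B.subgroupOf A with hB'
  let π : A →* A ⧸ B' := QuotientGroup.mk' B'
  have hπ : Function.Surjective π := QuotientGroup.mk'_surjective B'
  have tfaeQ : Group.IsNilpotent (A ⧸ B') ↔ ∀ (p : ℕ), Fact p.Prime →
      ∀ S : Sylow p (A ⧸ B'), (S : Subgroup (A ⧸ B')).Normal :=
    (Group.isNilpotent_of_finite_tfae (G := A ⧸ B')).out 0 3
  have hQ : ∀ S : Sylow p (A ⧸ B'), (S : Subgroup (A ⧸ B')).Normal := tfaeQ.mp h p hp
  set PG : Subgroup G := (P : Subgroup A).map A.subtype with hPG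
  set T : Subgroup G := PG ⊔ B with hT
  have hPGT : PG ≤ T := le_sup_left
  have hBT : B ≤ T := le_sup_right
  -- conjugates of elements of P stay in T
  have key : ∀ g : G, ∀ a : A, a ∈ (P : Subgroup A) → g * (a : G) * g⁻¹ ∈ T := by
    intro g a ha
    let P' : Sylow p A := (MulAut.conjNormal g : MulAut A) • P
    have h1 : (MulAut.conjNormal g : MulAut A) a ∈ (P' : Subgroup A) :=
      Subgroup.smul_mem_pointwise_smul _ _ _ ha
    have h2 : P.mapSurjective hπ = P'.mapSurjective hπ := by
      have := Sylow.unique_of_normal (P.mapSurjective hπ) (hQ _)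
      exact Subsingleton.elim _ _
    have h3 : π ((MulAut.conjNormal g : MulAut A) a) ∈ (P : Subgroup A).map π := by
      have : π ((MulAut.conjNormal g : MulAut A) a) ∈ ((P'.mapSurjective hπ : Sylow p _) : Subgroup _) :=
        Subgroup.mem_map_of_mem π h1
      rw [← h2] at this
      exact this
    obtain ⟨a', ha', hEq⟩ := h3
    have h4 : a'⁻¹ * ((MulAut.conjNormal g : MulAut A) a) ∈ B' := QuotientGroup.eq.mp hEq
    have h5 : g * (a : G) * g⁻¹ = (a' : G) * ((a' : G)⁻¹ * (g * (a : G) * g⁻¹)) := by group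
    rw [h5]
    apply Subgroup.mul_mem
    · exact hPGT ⟨a', ha', rfl⟩
    · apply hBT
      have := Subgroup.mem_subgroupOf.mp h4
      simpa [MulAut.conjNormal_apply] using this
  -- T is normal in G
  have hTn : T.Normal := by
    constructor
    intro n hn g
    rw [hT, Subgroup.mem_sup_of_normal_right] at hn
    obtain ⟨x, ⟨a, ha, rfl⟩, b, hb, rfl⟩ := hn
    have : g * (A.subtype a * b) * g⁻¹ = (g * (a : G) * g⁻¹) * (g * b * g⁻¹) := by
      simp only [Subgroup.coe_subtype]; group
    rw [this]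
    exact T.mul_mem (key g a ha) (hBT ((inferInstance : B.Normal).conj_mem b hb g))
  have hTA : T ≤ A := sup_le (Subgroup.map_subtype_le _) hBA
  -- P as a Sylow subgroup of T
  let φ : T →* A := Subgroup.inclusion hTA
  have hφ : Function.Injective φ := Subgroup.inclusion_injective hTA
  have hPφ : (P : Subgroup A) ≤ φ.range := by
    intro a ha
    exact ⟨⟨(a : G), hPGT ⟨a, ha, rfl⟩⟩, Subtype.ext rfl⟩
  let P'' : Sylow p T := P.comapOfInjective φ hφ hPφ
  have hP'' : (P'' : Subgroup T).map T.subtype = PG := by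
    ext x
    constructor
    · rintro ⟨t, ht, rfl⟩
      exact ⟨φ t, ht, rfl⟩
    · rintro ⟨a, ha, rfl⟩
      refine ⟨⟨(a : G), hPGT ⟨a, ha, rfl⟩⟩, ?_, rfl⟩
      change φ ⟨(a : G), hPGT ⟨a, ha, rfl⟩⟩ ∈ (P : Subgroup A)
      have e : φ ⟨(a : G), hPGT ⟨a, ha, rfl⟩⟩ = a := Subtype.ext rfl
      rw [e]
      exact ha
  have frat := Sylow.normalizer_sup_eq_top P''
  rw [hP''] at frat
  have h6 : Subgroup.normalizer (PG : Set G) ⊔ frattini G = ⊤ := by
    rw [eq_top_iff, ← frat]
    apply sup_le le_sup_left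
    rw [hT]
    apply sup_le
    · exact le_sup_of_le_left Subgroup.le_normalizer
    · exact le_sup_of_le_right hB
  have h7 : Subgroup.normalizer (PG : Set G) = ⊤ := frattini_nongenerating h6
  have h8 : PG.Normal := Subgroup.normalizer_eq_top_iff.mp h7
  exact h8.of_map_subtype

end Cfsg.Agent.S0584
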