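import Cfsg.Statements.S0585
import Mathlib

set_option autoImplicit false
open Cfsg

namespace Cfsg.Agent.S0585

/-- If the Frattini subgroup of a finite group G is trivial, then every abelian normal subgroup of G has a complement in G. -/
theorem result {G : Type*} [Group G] [Finite G] (hΦ : frattini G = ⊥) (A : Subgroup G) [A.Normal] [IsMulCommutative A] : ∃ H : Subgroup G, Subgroup.IsComplement' A H := by
  have hcomm : ∀ x ∈ A, ∀ y ∈ A, x * y = y * x := by
    intro x hx y hy
    have := (inferInstance : IsMulCommutative A).is_comm.comm (⟨x, hx⟩ : A) ⟨y, hy⟩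
    exact congrArg Subtype.val this
  -- a minimal supplement
  obtain ⟨H, hH⟩ := exists_minimal_of_wellFoundedLT (fun H : Subgroup G => A ⊔ H = ⊤) ⟨⊤, sup_top_eq A⟩
  have hsup : A ⊔ H = ⊤ := hH.1
  have hmul : ∀ g : G, ∃ a ∈ A, ∃ h ∈ H, a * h = g := by
    intro g
    have : g ∈ A ⊔ H := by rw [hsup]; exact Subgroup.mem_top _
    rwa [Subgroup.mem_sup_of_normal_left] at this
  -- A ⊓ H is normal
  have hnorm : (A ⊓ H).Normal := by
    constructor
    intro x hx g
    obtain ⟨a, ha, h, hh, rfl⟩ := hmul g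
    have h1 : h * x * h⁻¹ ∈ A := (inferInstance : A.Normal).conj_mem x hx.1 h
    have h2 : h * x * h⁻¹ ∈ H := H.mul_mem (H.mul_mem hh hx.2) (H.inv_mem hh)
    have h3 : a * h * x * (a * h)⁻¹ = h * x * h⁻¹ := by
      have : a * h * x * (a * h)⁻¹ = a * (h * x * h⁻¹) * a⁻¹ := by group
      rw [this, hcomm a ha _ h1]; group
    rw [h3]
    exact ⟨h1, h2⟩
  have hbot : A ⊓ H = ⊥ := by
    by_contra hne
    -- a maximal subgroup not containing A ⊓ H
    have : ∃ M : Subgroup G, IsCoatom M ∧ ¬ (A ⊓ H ≤ M) := by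
      by_contra hall
      push Not at hall
      apply hne
      rw [eq_bot_iff, ← hΦ]
      unfold frattini Order.radical
      rw [le_iInf₂_iff]
      exact hall
    obtain ⟨M, hM, hnM⟩ := this
    have htop : (A ⊓ H) ⊔ M = ⊤ := by
      apply hM.2
      exact lt_of_le_of_ne le_sup_right (fun h => hnM (h ▸ le_sup_left))
    have hH' : A ⊔ (H ⊓ M) = ⊤ := by
      rw [eq_top_iff]
      intro g _
      obtain ⟨a, ha, h, hh, rfl⟩ := hmul g
      have hmem : h ∈ (A ⊓ H) ⊔ M := by rw [htop]; exact Subgroup.mem_top _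
      rw [Subgroup.mem_sup_of_normal_left] at hmem
      obtain ⟨x, hx, m, hm, rfl⟩ := hmem
      have hmH : m ∈ H := by
        have : m = x⁻¹ * (x * m) := by group
        rw [this]
        exact H.mul_mem (H.inv_mem hx.2) hh
      rw [← mul_assoc]
      apply Subgroup.mul_mem
      · exact (le_sup_left : A ≤ A ⊔ (H ⊓ M)) (A.mul_mem ha hx.1)
      · exact (le_sup_right : H ⊓ M ≤ A ⊔ (H ⊓ M)) ⟨hmH, hm⟩
    have hle : H ≤ H ⊓ M := hH.2 hH' inf_le_left
    exact hnM (inf_le_right.trans (hle.trans inf_le_right))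
  refine ⟨H, ?_⟩
  apply Subgroup.isComplement'_of_disjoint_and_mul_eq_univ (disjoint_iff.mpr hbot)
  rw [← Subgroup.normal_mul, hsup, Subgroup.coe_top]

end Cfsg.Agent.S0585
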