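import Cfsg.Statements.S0586
import Mathlib
import Cfsg.Agent.S0575
import Cfsg.Agent.S0585
import Cfsg.Agent.Lib.Helper1_Cores
import Cfsg.Agent.Lib.Helper1_Frattini

set_option autoImplicit false
open Cfsg
open scoped commutatorElement

namespace Cfsg.Agent.S0586

open Cfsg.Agent.Lib.Helper1_Cores

/-- when the Frattini subgroup is trivial, every `O_p(G)` is abelian -/
theorem pCore_comm {G : Type*} [Group G] [Finite G] (hΦ : frattini G = ⊥) (p : ℕ) [Fact p.Prime] :
    ∀ x ∈ pCore p G, ∀ y ∈ pCore p G, x * y = y * x := by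
  have h1 : commutator (pCore p G) ≤ frattini (pCore p G) :=
    Cfsg.Agent.Lib.Helper1_Frattini.commutator_le_frattini_of_isPGroup (pCore_isPGroup p)
  have h2 : (frattini (pCore p G)).map (pCore p G).subtype ≤ frattini G :=
    Cfsg.Agent.S0575.result (pCore p G)
  rw [hΦ] at h2
  intro x hx y hy
  have h3 : ⁅(⟨x, hx⟩ : pCore p G), ⟨y, hy⟩⁆ ∈ commutator (pCore p G) :=
    Subgroup.commutator_mem_commutator (Subgroup.mem_top _) (Subgroup.mem_top _)
  have h4 : (pCore p G).subtype ⁅(⟨x, hx⟩ : pCore p G), ⟨y, hy⟩⁆ ∈ (⊥ : Subgroup G) :=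
    h2 (Subgroup.mem_map_of_mem _ (h1 h3))
  rw [Subgroup.mem_bot, map_commutatorElement, commutatorElement_eq_one_iff_mul_comm] at h4
  exact h4

/-- when the Frattini subgroup is trivial, the Fitting subgroup is abelian -/
theorem fitting_comm {G : Type*} [Group G] [Finite G] (hΦ : frattini G = ⊥) :
    ∀ x ∈ fittingSubgroup G, ∀ y ∈ fittingSubgroup G, x * y = y * x := by
  have hc : IsMulCommutative (Subgroup.closure (⋃ p : Nat.Primes, ((pCore (p : ℕ) G : Subgroup G) : Set G))) := by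
    apply Subgroup.isMulCommutative_closure
    intro x hx y hy
    rw [Set.mem_iUnion] at hx hy
    obtain ⟨p, hxp⟩ := hx
    obtain ⟨q, hyq⟩ := hy
    have : Fact (p : ℕ).Prime := ⟨p.2⟩
    have : Fact (q : ℕ).Prime := ⟨q.2⟩
    by_cases hpq : p = q
    · subst hpq
      exact pCore_comm hΦ p x hxp y hyq
    · have hne : (p : ℕ) ≠ (q : ℕ) := fun h => hpq (Subtype.ext h)
      have hcop : (Nat.card (pCore (p : ℕ) G)).Coprime (Nat.card (pCore (q : ℕ) G)) := by
        obtain ⟨n, hn⟩ := IsPGroup.iff_card.mp (pCore_isPGroup (G := G) (q : ℕ))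
        rw [hn]
        exact Nat.Coprime.pow_right _ (pCore_card_coprime hne)
      exact (Subgroup.commute_of_normal_of_disjoint _ _ (pCore_normal _) (pCore_normal _)
        (Subgroup.disjoint_of_coprime_natCard hcop) x y hxp hyq).eq
  intro x hx y hy
  rw [fittingSubgroup_eq_iSup_pCore, Subgroup.iSup_eq_closure] at hx hy
  have := hc.is_comm.comm (⟨x, hx⟩ : Subgroup.closure _) ⟨y, hy⟩
  exact congrArg Subtype.val this

/-- If the Frattini subgroup of a finite group G is trivial, then the Fitting subgroup of G equals the join of all abelian minimal normal subgroups of G. -/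
theorem result {G : Type*} [Group G] [Finite G] (hΦ : frattini G = ⊥) : Cfsg.fittingSubgroup G = sSup {N : Subgroup G | N.Normal ∧ N ≠ ⊥ ∧ IsMulCommutative N ∧ ∀ K : Subgroup G, K.Normal → K ≤ N → K = ⊥ ∨ K = N} := by
  set 𝒮 : Set (Subgroup G) := {N : Subgroup G | N.Normal ∧ N ≠ ⊥ ∧ IsMulCommutative N ∧
    ∀ K : Subgroup G, K.Normal → K ≤ N → K = ⊥ ∨ K = N} with h𝒮
  set S : Subgroup G := sSup 𝒮 with hS
  have hFc := fitting_comm hΦ
  -- S ≤ F
  have hSF : S ≤ fittingSubgroup G := by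
    apply sSup_le
    rintro N ⟨hNn, -, hNc, -⟩
    apply le_fittingSubgroup hNn
    have : ∀ a b : N, a * b = b * a := fun a b => hNc.is_comm.comm a b
    let _ : CommGroup N := { (inferInstance : Group N) with mul_comm := this }
    exact CommGroup.isNilpotent
  apply le_antisymm _ hSF
  have hSn : S.Normal := Subgroup.sSup_normal _ (fun _ h => h.1)
  have hSc : IsMulCommutative S :=
    ⟨⟨fun a b => Subtype.ext (hFc a (hSF a.2) b (hSF b.2))⟩⟩
  obtain ⟨H, hH⟩ := Cfsg.Agent.S0585.result hΦ S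
  have hSH : S ⊓ H = ⊥ := hH.disjoint.eq_bot
  have hSHtop : S ⊔ H = ⊤ := hH.sup_eq_top
  have hmul : ∀ g : G, ∃ s ∈ S, ∃ h ∈ H, s * h = g := by
    intro g
    have : g ∈ S ⊔ H := by rw [hSHtop]; exact Subgroup.mem_top _
    rwa [Subgroup.mem_sup_of_normal_left] at this
  -- D = F ⊓ H is normal
  set D : Subgroup G := fittingSubgroup G ⊓ H with hD
  have hDn : D.Normal := by
    constructor
    intro d hd g
    obtain ⟨s, hs, h, hh, rfl⟩ := hmul g
    have h1 : h * d * h⁻¹ ∈ fittingSubgroup G :=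
      (fittingSubgroup_normal (G := G)).conj_mem d hd.1 h
    have h2 : h * d * h⁻¹ ∈ H := H.mul_mem (H.mul_mem hh hd.2) (H.inv_mem hh)
    have h3 : s * h * d * (s * h)⁻¹ = h * d * h⁻¹ := by
      have : s * h * d * (s * h)⁻¹ = s * (h * d * h⁻¹) * s⁻¹ := by group
      rw [this, hFc s (hSF hs) _ h1]; group
    rw [h3]
    exact ⟨h1, h2⟩
  have hDbot : D = ⊥ := by
    by_contra hne
    obtain ⟨K, -, hKmin⟩ :=
      Finite.exists_le_minimal (p := fun K : Subgroup G => K.Normal ∧ K ≤ D ∧ K ≠ ⊥) (a := D)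
        ⟨hDn, le_rfl, hne⟩
    obtain ⟨hK1, hK2, hK3⟩ := hKmin.prop
    have hKmem : K ∈ 𝒮 := by
      refine ⟨hK1, hK3, ?_, ?_⟩
      · exact ⟨⟨fun a b => Subtype.ext (hFc a (hK2 a.2).1 b (hK2 b.2).1)⟩⟩
      · intro K' hK'n hK'le
        by_cases hK' : K' = ⊥
        · exact Or.inl hK'
        · exact Or.inr (le_antisymm hK'le (hKmin.le_of_le ⟨hK'n, hK'le.trans hK2, hK'⟩ hK'le))
    have hKS : K ≤ S := le_sSup hKmem
    have : K ≤ S ⊓ H := le_inf hKS (hK2.trans inf_le_right)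
    rw [hSH] at this
    exact hK3 (le_bot_iff.mp this)
  intro f hf
  obtain ⟨s, hs, h, hh, rfl⟩ := hmul f
  have hhD : h ∈ D := by
    refine ⟨?_, hh⟩
    have : h = s⁻¹ * (s * h) := by group
    rw [this]
    exact Subgroup.mul_mem _ (Subgroup.inv_mem _ (hSF hs)) hf
  rw [hDbot, Subgroup.mem_bot] at hhD
  rw [hhD, mul_one]
  exact hs

end Cfsg.Agent.S0586
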