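import Cfsg.Statements.S0587
import Mathlib
import Cfsg.Agent.S0549
import Cfsg.Agent.S0583
import Cfsg.Agent.Lib.Helper1_Cores
import Cfsg.Agent.Lib.Helper1_MinNormal
import Cfsg.Agent.Lib.Helper10_ConjAction

set_option autoImplicit false
open Cfsg

namespace Cfsg.Agent.S0587

open Cfsg.Agent.Lib.Helper1_Cores

/-- Let G be a finite group whose largest normal p-subgroup L is nontrivial, and M a maximal subgroup of G with trivial normal core. Then L is elementary abelian, M is a complement to L, L is a minimal normal subgroup of G, the centralizer of L is L, and for every prime q such that the largest normal q-subgroup of M is nontrivial, the order of L is congruent to 1 modulo q and q ≠ p. -/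
theorem result {G : Type*} [Group G] [Finite G] (p : ℕ) [Fact p.Prime] (hL : Cfsg.pCore p G ≠ ⊥) (M : Subgroup G) (hM : IsCoatom M) (hcore : M.normalCore = ⊥) : Cfsg.IsElementaryAbelian p (Cfsg.pCore p G) ∧ Subgroup.IsComplement' (Cfsg.pCore p G) M ∧ (∀ K : Subgroup G, K.Normal → K ≤ Cfsg.pCore p G → K = ⊥ ∨ K = Cfsg.pCore p G) ∧ Subgroup.centralizer ((Cfsg.pCore p G : Subgroup G) : Set G) = Cfsg.pCore p G ∧ ∀ (q : ℕ) [Fact q.Prime], Cfsg.pCore q ↥M ≠ ⊥ → Nat.card (Cfsg.pCore p G) % q = 1 % q ∧ q ≠ p := by
  set L : Subgroup G := pCore p G with hLdef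
  have hLn : L.Normal := pCore_normal p
  have hLp : IsPGroup p L := pCore_isPGroup p
  have hLsol : Group.IsSolvable L := by
    have := hLp.isNilpotent
    infer_instance
  obtain ⟨N, hNn, hNL, hNbot, hNc, p', hp', hNp'⟩ :=
    Cfsg.Agent.Lib.Helper1_MinNormal.exists_elementary_abelian_normal_le L hLsol hL
  have hNcent : N ≤ Subgroup.centralizer (N : Set G) := by
    intro m hm
    rw [Subgroup.mem_centralizer_iff]
    intro x hx
    have := hNc.is_comm.comm (⟨x, hx⟩ : N) ⟨m, hm⟩
    exact congrArg Subtype.val this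
  obtain ⟨hCU, hC⟩ := Cfsg.Agent.S0549.result M hM hcore N hNbot
  have hCN : Subgroup.centralizer (N : Set G) = N ∧
      ∀ K : Subgroup G, K.Normal → K ≤ N → K = ⊥ ∨ K = N := by
    rcases hC with h | ⟨_, h⟩
    · exact absurd (le_bot_iff.mp (h ▸ hNcent)) hNbot
    · have hEq : Subgroup.centralizer (N : Set G) = N := by
        rcases h N hNn hNcent with h' | h'
        · exact absurd h' hNbot
        · exact h'.symm
      rw [hEq] at h
      exact ⟨hEq, h⟩
  obtain ⟨hCeq, hNmin⟩ := hCN
  -- L = N
  have hLN : L = N := by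
    apply le_antisymm _ hNL
    have h1 : L ≤ fittingSubgroup G := pCore_le_fittingSubgroup p
    have h2 := Cfsg.Agent.S0583.result N hNbot hNmin
    rw [hCeq] at h2
    exact h1.trans h2
  -- p' = p
  have hpp' : p' = p := by
    obtain ⟨x, hxN, hx1⟩ : ∃ x ∈ N, x ≠ 1 := by
      by_contra hcon
      push Not at hcon
      exact hNbot ((Subgroup.eq_bot_iff_forall _).mpr hcon)
    have h1 : orderOf x ∣ p' := orderOf_dvd_of_pow_eq_one (hNp' x hxN)
    have h2 : orderOf x ≠ 1 := fun h => hx1 (orderOf_eq_one_iff.mp h)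
    have h3 : orderOf x = p' := ((Nat.dvd_prime hp').mp h1).resolve_left h2
    obtain ⟨k, hk⟩ := (IsPGroup.iff_orderOf.mp hLp) ⟨x, hNL hxN⟩
    rw [Subgroup.orderOf_mk, h3] at hk
    have : p' ∣ p ^ k := by rw [← hk]
    exact (Nat.prime_dvd_prime_iff_eq hp' Fact.out).mp (hp'.dvd_of_dvd_pow this)
  subst hpp'
  have hLc : IsMulCommutative L := by rw [hLN]; exact hNc
  have hCL : Subgroup.centralizer (L : Set G) = L := by rw [hLN]; exact hCeq
  have hLM : L ⊓ M = ⊥ := by
    have := hCU
    rwa [hCeq, ← hLN] at this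
  have hmul := Cfsg.Agent.S0549.exists_mul_of_normal M hM hcore L hL
  have hcompl : Subgroup.IsComplement' L M := by
    apply Subgroup.isComplement'_of_disjoint_and_mul_eq_univ (disjoint_iff.mpr hLM)
    rw [Set.eq_univ_iff_forall]
    intro g
    obtain ⟨a, ha, u, hu, rfl⟩ := hmul g
    exact Set.mul_mem_mul ha hu
  have hLmin : ∀ K : Subgroup G, K.Normal → K ≤ L → K = ⊥ ∨ K = L := by
    rw [hLN]; exact hNmin
  refine ⟨⟨hLc, by rw [hLN]; exact hNp'⟩, hcompl, hLmin, hCL, ?_⟩
  intro q hq hQ
  set Q : Subgroup G := (pCore q M).map M.subtype with hQdef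
  have hQM : Q ≤ M := Subgroup.map_subtype_le _
  have hQq : IsPGroup q Q := (pCore_isPGroup (G := M) q).map _
  have hQbot : Q ≠ ⊥ := by
    intro h
    apply hQ
    rw [hQdef, Subgroup.map_eq_bot_iff_of_injective _ M.subtype_injective] at h
    exact h
  -- M normalizes Q
  have hMQ : M ≤ Subgroup.normalizer (Q : Set G) := by
    have hn : (pCore q M).Normal := pCore_normal q
    have h1 := Subgroup.le_normalizer_map (H := pCore q M) M.subtype
    rw [Subgroup.normalizer_eq_top_iff.mpr hn, ← MonoidHom.range_eq_map, Subgroup.range_subtype] at h1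
    exact h1
  have hQLM : Q ≤ L ⊓ M → False := by
    intro h
    rw [hLM] at h
    exact hQbot (le_bot_iff.mp h)
  have hLtop : Subgroup.normalizer (L : Set G) = ⊤ := Subgroup.normalizer_eq_top_iff.mpr hLn
  have hLcomm : ∀ x ∈ L, ∀ y ∈ L, x * y = y * x := by
    intro x hx y hy
    have := hLc.is_comm.comm (⟨x, hx⟩ : L) ⟨y, hy⟩
    exact congrArg Subtype.val this
  constructor
  · -- the congruence
    have hmod := Cfsg.Agent.Lib.Helper10_ConjAction.card_modEq_card_centralizer Q L hQq
      (by rw [hLtop]; exact le_top)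
    set D : Subgroup G := L ⊓ Subgroup.centralizer (Q : Set G) with hD
    have hDn : D.Normal := by
      rw [← Subgroup.normalizer_eq_top_iff, eq_top_iff, ← hcompl.sup_eq_top]
      apply sup_le
      · -- L centralizes D
        refine le_trans ?_ (Subgroup.centralizer_le_normalizer _)
        intro l hl
        rw [Subgroup.mem_centralizer_iff]
        intro d hd
        exact hLcomm d hd.1 l hl
      · refine le_trans ?_ (Subgroup.inf_normalizer_le_normalizer_inf (H := L)
          (K := Subgroup.centralizer (Q : Set G)))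
        rw [hLtop, top_inf_eq]
        refine hMQ.trans ?_
        intro g hg
        have hconj : ∀ g ∈ Subgroup.normalizer (Q : Set G),
            ∀ c ∈ Subgroup.centralizer (Q : Set G), g * c * g⁻¹ ∈ Subgroup.centralizer (Q : Set G) := by
          intro g hg c hc
          rw [Subgroup.mem_centralizer_iff]
          intro x hx
          have hx' : g⁻¹ * x * g ∈ Q := (Subgroup.mem_normalizer_iff''.mp hg x).mp hx
          have := (Subgroup.mem_centralizer_iff.mp hc) _ hx'
          calc x * (g * c * g⁻¹) = g * ((g⁻¹ * x * g) * c) * g⁻¹ := by group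
            _ = g * (c * (g⁻¹ * x * g)) * g⁻¹ := by rw [this]
            _ = g * c * g⁻¹ * x := by group
        rw [Subgroup.mem_normalizer_iff]
        intro c
        constructor
        · exact hconj g hg c
        · intro hc
          have := hconj g⁻¹ (Subgroup.inv_mem _ hg) _ hc
          have e : g⁻¹ * (g * c * g⁻¹) * g⁻¹⁻¹ = c := by group
          rwa [e] at this
    rcases hLmin D hDn inf_le_left with h | h
    · rw [h, Subgroup.card_bot] at hmod
      exact hmod
    · exfalso
      apply hQLM
      refine le_inf ?_ hQM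
      rw [← hCL]
      have hLD : L ≤ Subgroup.centralizer (Q : Set G) := h ▸ inf_le_right
      intro x hx
      rw [Subgroup.mem_centralizer_iff]
      intro l hl
      exact ((Subgroup.mem_centralizer_iff.mp (hLD hl)) x hx).symm
  · rintro rfl
    have hT : IsPGroup q (L ⊔ Q : Subgroup G) := IsPGroup.to_sup_of_normal_left hLp hQq
    have hTn : (L ⊔ Q).Normal := by
      rw [← Subgroup.normalizer_eq_top_iff, eq_top_iff, ← hcompl.sup_eq_top]
      apply sup_le
      · exact le_sup_left.trans Subgroup.le_normalizer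
      · refine le_trans ?_ (Subgroup.normalizer_inf_normalizer_le_normalizer_sup L Q)
        rw [hLtop, top_inf_eq]
        exact hMQ
    have : L ⊔ Q ≤ L := le_pCore hTn hT
    exact hQLM (le_inf (le_sup_right.trans this) hQM)

end Cfsg.Agent.S0587
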