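import Cfsg.Statements.S0591
import Mathlib

set_option autoImplicit false
open Cfsg
open scoped commutatorElement

namespace Cfsg.Agent.S0591

/-- For a quadratically acting element a on an elementary abelian p-group V, the fixed points C_V(a) have order at least the square root of the order of V. -/
theorem result {G : Type*} [Group G] [Finite G] {p : ℕ} [Fact p.Prime] (V : Subgroup G) (hV : Cfsg.IsElementaryAbelian p V) (a : G) (ha : a ∈ Subgroup.normalizer (V : Set G)) (hq : ⁅⁅V, Subgroup.zpowers a⁆, Subgroup.zpowers a⁆ = ⊥) : Nat.card V ≤ Nat.card ↥(V ⊓ Subgroup.centralizer (Subgroup.zpowers a : Set G)) ^ 2 := by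
  obtain ⟨hVc, -⟩ := hV
  have hcomm : ∀ x ∈ V, ∀ y ∈ V, x * y = y * x := by
    intro x hx y hy
    have := hVc.is_comm.comm (⟨x, hx⟩ : V) ⟨y, hy⟩
    exact congrArg Subtype.val this
  have hconj : ∀ v ∈ V, a * v * a⁻¹ ∈ V := fun v hv =>
    ((Subgroup.mem_normalizer_iff).mp ha v).mp hv
  have F1 : ∀ v ∈ V, ⁅v, a⁆ ∈ V := by
    intro v hv
    have : ⁅v, a⁆ = v * (a * v⁻¹ * a⁻¹) := by
      simp [commutatorElement_def, mul_assoc]
    rw [this]
    exact V.mul_mem hv (hconj _ (V.inv_mem hv))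
  have F2 : ∀ v ∈ V, ⁅v, a⁆ * a = a * ⁅v, a⁆ := by
    intro v hv
    have h1 : ⁅⁅v, a⁆, a⁆ ∈ ⁅⁅V, Subgroup.zpowers a⁆, Subgroup.zpowers a⁆ :=
      Subgroup.commutator_mem_commutator
        (Subgroup.commutator_mem_commutator hv (Subgroup.mem_zpowers a)) (Subgroup.mem_zpowers a)
    rw [hq, Subgroup.mem_bot] at h1
    exact commutatorElement_eq_one_iff_mul_comm.mp h1
  -- membership in the centralizer of zpowers a
  have hcent : ∀ g : G, g * a = a * g → g ∈ Subgroup.centralizer (Subgroup.zpowers a : Set G) := by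
    intro g hg
    rw [Subgroup.mem_centralizer_iff]
    intro y hy
    obtain ⟨k, rfl⟩ := Subgroup.mem_zpowers_iff.mp hy
    have hc : Commute g a := hg
    exact (hc.zpow_right k).eq.symm
  set C : Subgroup G := V ⊓ Subgroup.centralizer (Subgroup.zpowers a : Set G) with hC
  -- the commutator map
  let f : V →* V := MonoidHom.mk' (fun v => ⟨⁅(v : G), a⁆, F1 v v.2⟩) (by
    intro v w
    apply Subtype.ext
    change ⁅(v : G) * (w : G), a⁆ = ⁅(v : G), a⁆ * ⁅(w : G), a⁆
    have e1 : ⁅(v : G) * (w : G), a⁆ = (v : G) * ⁅(w : G), a⁆ * (a * (v : G)⁻¹ * a⁻¹) := by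
      simp [commutatorElement_def, mul_assoc]
    have e2 : ⁅(v : G), a⁆ = (v : G) * (a * (v : G)⁻¹ * a⁻¹) := by
      simp [commutatorElement_def, mul_assoc]
    rw [e1, hcomm _ v.2 _ (F1 w w.2), mul_assoc, ← e2, hcomm _ (F1 w w.2) _ (F1 v v.2)])
  have hker : f.ker = C.subgroupOf V := by
    ext v
    rw [MonoidHom.mem_ker, Subgroup.mem_subgroupOf]
    constructor
    · intro hv
      have h1 : ⁅(v : G), a⁆ = 1 := congrArg Subtype.val hv
      exact ⟨v.2, hcent _ (commutatorElement_eq_one_iff_mul_comm.mp h1)⟩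
    · intro hv
      apply Subtype.ext
      change ⁅(v : G), a⁆ = 1
      rw [commutatorElement_eq_one_iff_mul_comm]
      exact ((Subgroup.mem_centralizer_iff.mp hv.2) a (Subgroup.mem_zpowers a)).symm
  have hrange : f.range.map V.subtype ≤ C := by
    rintro _ ⟨_, ⟨v, rfl⟩, rfl⟩
    exact ⟨F1 v v.2, hcent _ (F2 v v.2)⟩
  have h1 : Nat.card V = Nat.card f.ker * Nat.card f.range := by
    rw [← Subgroup.index_ker, Subgroup.card_mul_index]
  have h2 : Nat.card f.ker = Nat.card C := by
    rw [hker, ← Subgroup.card_map_of_injective V.subtype_injective,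
      Subgroup.map_subgroupOf_eq_of_le (inf_le_left)]
  have h3 : Nat.card f.range ≤ Nat.card C := by
    rw [← Subgroup.card_map_of_injective V.subtype_injective]
    exact Subgroup.card_le_of_le hrange
  rw [h1, h2, pow_two]
  exact Nat.mul_le_mul_left _ h3

end Cfsg.Agent.S0591
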