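import Cfsg.Statements.S0597
import Cfsg.Agent.Lib.Helper1_Cores
import Cfsg.Agent.Lib.Lead_Subnormal
import Cfsg.Agent.Lib.Helper51_Offender

set_option autoImplicit false
open Cfsg Subgroup
open Cfsg.Agent.Lib.Helper1_Cores
open Cfsg.Agent.Lib.Helper51_Offender
open scoped commutatorElement

namespace Cfsg.Agent.S0597

section core

variable {X : Type*} [Group X]

/-- A `p`-subgroup `N ≤ H` normal in a subnormal subgroup `H` lies in `O_p(X)`. -/
theorem le_pCore_of_normal_in_subnormal [Finite X] (p : ℕ) [Fact p.Prime] {H : Subgroup X}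
    (hH : H.IsSubnormal) :
    ∀ N : Subgroup X, N ≤ H → (N.subgroupOf H).Normal → IsPGroup p N → N ≤ pCore p X := by
  induction hH with
  | top =>
    intro N _ hN hp
    have : N.Normal := by
      have h := (normal_subgroupOf_iff_le_normalizer (le_top : N ≤ ⊤)).mp hN
      exact normalizer_eq_top_iff.mp (top_le_iff.mp h)
    exact le_pCore this hp
  | step H K hle hKsub hHK ih =>
    intro N hNH hN hp
    set M : Subgroup X := (pCore p ↥H).map H.subtype with hM
    have hNM : N ≤ M := by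
      have h1 : N.subgroupOf H ≤ pCore p ↥H := by
        apply le_pCore hN
        exact hp.comap_subtype
      intro x hx
      exact ⟨⟨x, hNH hx⟩, h1 hx, rfl⟩
    have hMH : M ≤ H := map_subtype_le _
    have hMK : M ≤ K := hMH.trans hle
    have hKN : K ≤ normalizer (H : Set X) := (normal_subgroupOf_iff_le_normalizer hle).mp hHK
    have hMnorm : (M.subgroupOf K).Normal := by
      rw [normal_subgroupOf_iff_le_normalizer hMK]
      intro k hk
      rw [mem_normalizer_iff_map_conj_eq]
      let φ : MulAut ↥H := H.normalizerMonoidHom ⟨k, hKN hk⟩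
      have hchar : (pCore p ↥H).map φ.toMonoidHom = pCore p ↥H :=
        characteristic_iff_map_eq.mp inferInstance φ
      ext y
      constructor
      · rintro ⟨m, ⟨m', hm', rfl⟩, rfl⟩
        refine ⟨φ m', ?_, rfl⟩
        rw [← hchar]
        exact ⟨m', hm', rfl⟩
      · rintro ⟨m', hm', rfl⟩
        rw [← hchar] at hm'
        obtain ⟨m'', hm'', rfl⟩ := hm'
        exact ⟨m'', ⟨m'', hm'', rfl⟩, rfl⟩
    have hMp : IsPGroup p M := (pCore_isPGroup p).map _
    exact hNM.trans (ih M hMK hMnorm hMp)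

/-- A subnormal `p`-subgroup lies in `O_p(X)`. -/
theorem subnormal_le_pCore [Finite X] (p : ℕ) [Fact p.Prime] {N : Subgroup X} (hN : N.IsSubnormal)
    (hp : IsPGroup p N) : N ≤ pCore p X :=
  le_pCore_of_normal_in_subnormal p hN N le_rfl (by rw [subgroupOf_self]; infer_instance) hp

end core

/-- If two subnormal subgroups of a faithful group on an elementary abelian p-group satisfy [V, E₁, E₂] = 1, then their commutator lies in the largest normal p-subgroup. -/
theorem result {G : Type*} [Group G] [Finite G] {p : ℕ} [Fact p.Prime] (V H : Subgroup G) (hV : Cfsg.IsElementaryAbelian p V) (hHV : H ≤ Subgroup.normalizer (V : Set G)) (hf : H ⊓ Subgroup.centralizer (V : Set G) = ⊥) (E₁ E₂ : Subgroup G) (h₁ : E₁ ≤ H) (h₂ : E₂ ≤ H) (hs₁ : (E₁.subgroupOf H).IsSubnormal) (hs₂ : (E₂.subgroupOf H).IsSubnormal) (hc : ⁅⁅V, E₁⁆, E₂⁆ = ⊥) : ⁅E₁, E₂⁆ ≤ (Cfsg.pCore p H).map H.subtype := by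
  set W : Subgroup G := ⁅V, E₁⁆ with hW
  set L : Subgroup G := ⁅E₁, E₂⁆ with hL
  have hconjV : ∀ g ∈ H, ∀ v ∈ V, g * v * g⁻¹ ∈ V := fun g hg v hv =>
    (mem_normalizer_iff.mp (hHV hg) v).mp hv
  have hconjV' : ∀ g ∈ H, ∀ v ∈ V, g⁻¹ * v * g ∈ V := by
    intro g hg v hv
    have := hconjV g⁻¹ (H.inv_mem hg) v hv
    simpa using this
  -- (a) W ≤ V
  have hWV : W ≤ V := by
    rw [hW, commutator_le]
    intro v hv e he
    have e1 : ⁅v, e⁆ = v * (e * v⁻¹ * e⁻¹) := by rw [commutatorElement_def]; group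
    rw [e1]
    exact V.mul_mem hv (hconjV e (h₁ he) _ (V.inv_mem hv))
  -- (b) E₁ normalizes W
  have hE1W : E₁ ≤ normalizer (W : Set G) := by
    intro e he
    rw [mem_normalizer_iff_map_conj_eq, hW, map_commutator]
    congr 1
    · exact (mem_normalizer_iff_map_conj_eq.mp (hHV (h₁ he)))
    · exact (mem_normalizer_iff_map_conj_eq.mp (le_normalizer he))
  -- (c) E₂ centralizes W
  have hE2W : E₂ ≤ centralizer (W : Set G) := by
    have : W ≤ centralizer (E₂ : Set G) := commutator_eq_bot_iff_le_centralizer.mp hc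
    exact le_centralizer_iff.mp this
  have hE2N : E₂ ≤ normalizer (W : Set G) := hE2W.trans (centralizer_le_normalizer _)
  -- (d) L ≤ commStab V W ⊓ centralizer W
  have hLS : L ≤ commStab V W ⊓ centralizer (W : Set G) := by
    rw [hL, commutator_le]
    intro e₁ he₁ e₂ he₂
    have hst1 : e₁ ∈ commStab V W :=
      ⟨hE1W he₁, fun v hv => commutator_mem_commutator hv he₁⟩
    have hst1' : e₁⁻¹ ∈ commStab V W := (commStab V W).inv_mem hst1
    refine ⟨?_, ?_⟩
    · have e : ⁅e₁, e₂⁆ = e₁ * (e₂ * e₁⁻¹ * e₂⁻¹) := by rw [commutatorElement_def]; group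
      rw [e]
      apply (commStab V W).mul_mem hst1
      refine ⟨?_, fun v hv => ?_⟩
      · exact Subgroup.mul_mem _ (Subgroup.mul_mem _ (hE2N he₂) (Subgroup.inv_mem _ (hE1W he₁)))
          (Subgroup.inv_mem _ (hE2N he₂))
      · have e' : ⁅v, e₂ * e₁⁻¹ * e₂⁻¹⁆ = e₂ * ⁅e₂⁻¹ * v * e₂, e₁⁻¹⁆ * e₂⁻¹ := by
          simp only [commutatorElement_def]; group
        rw [e']
        have hv' : e₂⁻¹ * v * e₂ ∈ V := hconjV' e₂ (h₂ he₂) v hv
        exact (mem_normalizer_iff.mp (hE2N he₂) _).mp (hst1'.2 _ hv')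
    · have e : ⁅e₁, e₂⁆ = (e₁ * e₂ * e₁⁻¹) * e₂⁻¹ := by rw [commutatorElement_def]
      rw [e]
      apply Subgroup.mul_mem _ _ (Subgroup.inv_mem _ (hE2W he₂))
      rw [mem_centralizer_iff]
      intro w hw
      have hw' : e₁⁻¹ * w * e₁ ∈ W := by
        have := (mem_normalizer_iff.mp (Subgroup.inv_mem _ (hE1W he₁)) w).mp hw
        simpa using this
      have hcomm := mem_centralizer_iff.mp (hE2W he₂) _ hw'
      -- hcomm : (e₁⁻¹ w e₁) * e₂ = e₂ * (e₁⁻¹ w e₁)
      calc w * (e₁ * e₂ * e₁⁻¹) = e₁ * ((e₁⁻¹ * w * e₁) * e₂) * e₁⁻¹ := by group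
        _ = e₁ * (e₂ * (e₁⁻¹ * w * e₁)) * e₁⁻¹ := by rw [hcomm]
        _ = e₁ * e₂ * e₁⁻¹ * w := by group
  have hLH : L ≤ H := by
    rw [hL, commutator_le]
    intro a ha b hb
    rw [commutatorElement_def]
    exact H.mul_mem (H.mul_mem (H.mul_mem (h₁ ha) (h₂ hb)) (H.inv_mem (h₁ ha))) (H.inv_mem (h₂ hb))
  -- (e) L has exponent p
  have hpow : ∀ x ∈ L, x ^ p = 1 := by
    intro x hx
    have hxS := hLS hx
    have hxH := hLH hx
    have hxc : x ^ p ∈ H ⊓ centralizer (V : Set G) := by
      refine ⟨H.pow_mem hxH p, ?_⟩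
      show x ^ p ∈ centralizer (V : Set G)
      rw [mem_centralizer_iff]
      intro u hu
      -- x u x⁻¹ = u * w with w ∈ W commuting with x
      set w := ⁅u⁻¹, x⁆ with hw
      have hwW : w ∈ W := hxS.1.2 _ (V.inv_mem hu)
      have hxw : w * x = x * w := mem_centralizer_iff.mp hxS.2 w hwW
      have hconj : x * u * x⁻¹ = u * w := by rw [hw, commutatorElement_def]; group
      have hk : ∀ k : ℕ, x ^ k * u * (x ^ k)⁻¹ = u * w ^ k := by
        intro k
        induction k with
        | zero => simp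
        | succ k ih =>
          calc x ^ (k + 1) * u * (x ^ (k + 1))⁻¹ = x * (x ^ k * u * (x ^ k)⁻¹) * x⁻¹ := by
                rw [pow_succ']; group
            _ = x * (u * w ^ k) * x⁻¹ := by rw [ih]
            _ = (x * u * x⁻¹) * (x * w ^ k * x⁻¹) := by group
            _ = (u * w) * w ^ k := by
                rw [hconj]
                have : x * w ^ k * x⁻¹ = w ^ k := by
                  have hc' : w ^ k * x = x * w ^ k := by
                    have := (Commute.pow_left (show Commute w x from hxw) k)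
                    exact this
                  rw [← hc']; group
                rw [this]
            _ = u * w ^ (k + 1) := by rw [pow_succ']; group
      have hwp : w ^ p = 1 := hV.2 w (hWV hwW)
      have := hk p
      rw [hwp, mul_one] at this
      -- this : x^p * u * (x^p)⁻¹ = u
      calc u * x ^ p = (x ^ p * u * (x ^ p)⁻¹) * x ^ p := by rw [this]
        _ = x ^ p * u := by group
    rw [hf] at hxc
    exact (mem_bot.mp hxc)
  have hLp : IsPGroup p L := by
    intro g
    refine ⟨1, ?_⟩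
    rw [pow_one]
    exact Subtype.ext (hpow g g.2)
  -- (f) subnormality
  set J : Subgroup G := E₁ ⊔ E₂ with hJ
  have hJH : J ≤ H := sup_le h₁ h₂
  have hJsub : (J.subgroupOf H).IsSubnormal := by
    rw [hJ, subgroupOf_sup h₁ h₂]
    exact Cfsg.Agent.Lib.Lead_Subnormal.isSubnormal_sup hs₁ hs₂
  have hLJ : L ≤ J := commutator_le_sup E₁ E₂
  have hJNL : J ≤ normalizer (L : Set G) :=
    sup_le (normalizer_commutator_ge_left E₁ E₂) (normalizer_commutator_ge_right E₁ E₂)
  have hLsub : (L.subgroupOf H).IsSubnormal := by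
    have hle : L.subgroupOf H ≤ J.subgroupOf H := fun x hx => hLJ hx
    refine IsSubnormal.step (L.subgroupOf H) (J.subgroupOf H) hle hJsub ?_
    · rw [normal_subgroupOf_iff_le_normalizer hle]
      intro j hj
      rw [mem_normalizer_iff]
      intro y
      have := mem_normalizer_iff.mp (hJNL hj) (y : G)
      exact this
  have hLp' : IsPGroup p (L.subgroupOf H) := hLp.comap_subtype
  have hfinal := subnormal_le_pCore p hLsub hLp'
  intro x hx
  exact ⟨⟨x, hLH hx⟩, hfinal hx, rfl⟩

end Cfsg.Agent.S0597
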