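import Cfsg.Statements.S0599
import Mathlib
import Cfsg.Agent.Lib.Helper10_Replacement

set_option autoImplicit false
open Cfsg

namespace Cfsg.Agent.S0599

open scoped commutatorElement
open Cfsg.Agent.Lib.Helper10_Replacement

/-- nontriviality is inherited by the replacement -/
theorem nontrivial_of_replacement {G : Type*} [Group G] [Finite G] {p : ℕ} [Fact p.Prime]
    (V A : Subgroup G) (hV : Cfsg.IsElementaryAbelian p V)
    (hAV : A ≤ Subgroup.normalizer (V : Set G)) (hA : Cfsg.IsBestOffenderOn p V A)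
    (U : Subgroup G) (hU : U ≤ V) (hne : ⁅V, A⁆ ≠ ⊥) :
    ⁅V, A ⊓ Subgroup.centralizer ((⁅U, A⁆ : Subgroup G) : Set G)⁆ ≠ ⊥ := by
  have hr := replacement hV hAV hA.2.1 hA.1 U hU
  intro hbot
  rw [Subgroup.commutator_eq_bot_iff_le_centralizer] at hbot
  have hVeq : V = ⁅U, A⁆ ⊔ (V ⊓ Subgroup.centralizer (A : Set G)) := by
    rw [← hr.2]; exact (inf_eq_left.2 hbot).symm
  have hUA : ⁅U, A⁆ ≤ V := by
    rw [Subgroup.commutator_le]
    intro u hu a ha
    exact comm_mem hAV ha (hU hu)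
  have hcl : Subgroup.closure (((⁅U, A⁆ : Subgroup G) : Set G) ∪
      ((V ⊓ Subgroup.centralizer (A : Set G) : Subgroup G) : Set G)) = V := by
    rw [Subgroup.closure_union, Subgroup.closure_eq, Subgroup.closure_eq]; exact hVeq.symm
  have hX : ⁅V, A⁆ ≤ ⁅⁅V, A⁆, A⁆ := by
    have := comm_closure_le hV hAV (S := ((⁅U, A⁆ : Subgroup G) : Set G) ∪
      ((V ⊓ Subgroup.centralizer (A : Set G) : Subgroup G) : Set G)) (Y := ⁅⁅V, A⁆, A⁆) ?_ ?_
    · rwa [hcl] at this
    · rintro x (hx | hx)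
      · exact hUA hx
      · exact hx.1
    · rintro x (hx | hx) a ha
      · exact Subgroup.commutator_mem_commutator
          (Subgroup.commutator_mono hU le_rfl hx) ha
      · have hc := Subgroup.mem_centralizer_iff.1 hx.2 a ha
        have : ⁅x, a⁆ = 1 := by
          rw [commutatorElement_eq_one_iff_mul_comm]; exact hc.symm
        rw [this]; exact Subgroup.one_mem _
  have hVA : ⁅V, A⁆ ≤ V := by
    rw [Subgroup.commutator_le]
    intro u hu a ha
    exact comm_mem hAV ha hu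
  exact hne (nilpotent_action hV hAV hA.2.1 hA.2.2 hVA hX)

/-- The Timmesfeld replacement Theorem: replacing a best offender A by C_A([U, A]) gives a best offender with fixed points [U, A]C_V(A), still nontrivial on V if A was. -/
theorem result {G : Type*} [Group G] [Finite G] {p : ℕ} [Fact p.Prime] (V A : Subgroup G) (hV : Cfsg.IsElementaryAbelian p V) (hAV : A ≤ Subgroup.normalizer (V : Set G)) (hA : Cfsg.IsBestOffenderOn p V A) (U : Subgroup G) (hU : U ≤ V) : Cfsg.IsBestOffenderOn p V (A ⊓ Subgroup.centralizer ((⁅U, A⁆ : Subgroup G) : Set G)) ∧ V ⊓ Subgroup.centralizer ((A ⊓ Subgroup.centralizer ((⁅U, A⁆ : Subgroup G) : Set G) : Subgroup G) : Set G) = ⁅U, A⁆ ⊔ (V ⊓ Subgroup.centralizer (A : Set G)) ∧ (⁅V, A⁆ ≠ ⊥ → ⁅V, A ⊓ Subgroup.centralizer ((⁅U, A⁆ : Subgroup G) : Set G)⁆ ≠ ⊥) := by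
  have hr := replacement hV hAV hA.2.1 hA.1 U hU
  refine ⟨⟨?_, ?_, ?_⟩, hr.2, nontrivial_of_replacement V A hV hAV hA U hU⟩
  · intro B' hB'
    have h1 : ff V B' ≤ ff V A := hA.1 B' (hB'.trans inf_le_left)
    rw [← hr.1] at h1
    exact h1
  · exact (Subgroup.commutator_mono inf_le_left inf_le_left).trans hA.2.1
  · intro a ha
    exact hA.2.2 a ha.1

end Cfsg.Agent.S0599
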