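import Cfsg.Statements.S0604
import Mathlib
import Cfsg.Agent.Lib.Helper10_Thompson

set_option autoImplicit false
open Cfsg
open scoped Pointwise
open Cfsg.Agent.Lib.Helper10_Thompson

namespace Cfsg.Agent.S0604

/-- The Thompson subgroup of G is the join of the Thompson subgroups of its Sylow p-subgroups. -/
theorem result {G : Type*} [Group G] [Finite G] {p : ℕ} [Fact p.Prime] : Cfsg.thompsonSubgroup p G = ⨆ S : Sylow p G, Cfsg.thompsonSubgroupOf p (S : Subgroup G) := by
  apply le_antisymm
  · apply sSup_le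
    intro A hA
    obtain ⟨Q, hQ⟩ := (ea_isPGroup hA.1).exists_le_sylow
    exact (le_thompsonSubgroupOf hA hQ).trans
      (le_iSup (fun S : Sylow p G => thompsonSubgroupOf p (S : Subgroup G)) Q)
  · apply iSup_le
    intro S
    obtain ⟨A, hA⟩ := exists_mem_max (G := G) (p := p)
    obtain ⟨Q, hQ⟩ := (ea_isPGroup hA.1).exists_le_sylow
    obtain ⟨g, hg⟩ := MulAction.exists_smul_eq G S Q
    have hA' : A.map (MulAut.conj g⁻¹).toMonoidHom ∈ maxElementaryAbelianSubgroups p G :=
      map_mem_max (MulAut.conj g⁻¹) hA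
    have hA'S : A.map (MulAut.conj g⁻¹).toMonoidHom ≤ (S : Subgroup G) := by
      rintro _ ⟨a, ha, rfl⟩
      have h1 : a ∈ ((g • S : Sylow p G) : Subgroup G) := by rw [hg]; exact hQ ha
      rw [Sylow.coe_subgroup_smul, Subgroup.mem_pointwise_smul_iff_inv_smul_mem] at h1
      simpa [MulAut.conj_apply] using h1
    exact thompsonSubgroupOf_le hA' hA'S

end Cfsg.Agent.S0604
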