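import Cfsg.Statements.S0605
import Mathlib
import Cfsg.Agent.Lib.Helper10_Thompson

set_option autoImplicit false
open Cfsg
open Cfsg.Agent.Lib.Helper10_Thompson

namespace Cfsg.Agent.S0605

/-- Elements of order p in the centralizer of the Thompson subgroup belong to the Thompson subgroup (so to its centre). -/
theorem result {G : Type*} [Group G] [Finite G] {p : ℕ} [Fact p.Prime] (x : G) (hx : x ∈ Subgroup.centralizer (Cfsg.thompsonSubgroup p G : Set G)) (ho : orderOf x = p) : x ∈ Cfsg.thompsonSubgroup p G := by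
  obtain ⟨A, hA⟩ := exists_mem_max (G := G) (p := p)
  have hAJ : A ≤ thompsonSubgroup p G := le_thompsonSubgroup hA
  have hxp : x ^ p = 1 := by rw [← ho]; exact pow_orderOf_eq_one x
  have hB : IsElementaryAbelian p (A ⊔ Subgroup.zpowers x) := by
    apply isElementaryAbelian_sup hA.1 (isElementaryAbelian_zpowers hxp)
    intro a ha b hb
    obtain ⟨k, rfl⟩ := Subgroup.mem_zpowers_iff.mp hb
    have h1 : a * x = x * a := (Subgroup.mem_centralizer_iff.mp hx) a (hAJ ha)
    have h2 : Commute a x := h1
    exact (h2.zpow_right k).eq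
  have hEq : A = A ⊔ Subgroup.zpowers x := eq_of_mem_max_of_le hA hB le_sup_left
  apply hAJ
  rw [hEq]
  exact (le_sup_right : Subgroup.zpowers x ≤ A ⊔ Subgroup.zpowers x) (Subgroup.mem_zpowers x)

end Cfsg.Agent.S0605
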