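import Cfsg.Statements.S0613
import Cfsg.Agent.S0611
import Cfsg.Agent.Lib.Helper62_SL2

set_option autoImplicit false
open Cfsg

namespace Cfsg.Agent.S0613

open Cfsg.Agent.Lib.Helper62_Offender Cfsg.Agent.Lib.Helper62_SL2

/-- A minimal nontrivially-acting best offender and a conjugate of it under a non-centralizing element of the p'-core generate SL(2, p) acting naturally on a plane, and p is 2 or 3. -/
theorem result {G : Type*} [Group G] [Finite G] {p : ℕ} [Fact p.Prime] (V H : Subgroup G) (hV : Cfsg.IsElementaryAbelian p V) (hHV : H ≤ Subgroup.normalizer (V : Set G)) (hf : H ⊓ Subgroup.centralizer (V : Set G) = ⊥) (hS1 : Subgroup.centralizer (Cfsg.pPrimeCore p ↥H : Set ↥H) ≤ Cfsg.pPrimeCore p ↥H) (hS3 : H = ⨆ A : {A : Subgroup G // A ≤ H ∧ Cfsg.IsBestOffenderOn p V A}, (A : Subgroup G)) (hH1 : H ≠ ⊥) (A : Subgroup G) (hAH : A ≤ H) (hA : Cfsg.IsBestOffenderOn p V A) (hAV : ⁅V, A⁆ ≠ ⊥) (hmin : ∀ B : Subgroup G,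 B ≤ A → Cfsg.IsBestOffenderOn p V B → ⁅V, B⁆ ≠ ⊥ → B = A) (x : G) (hx : x ∈ ((Cfsg.pPrimeCore p ↥H).map H.subtype)) (hxA : x ∉ Subgroup.centralizer (A : Set G)) : (p = 2 ∨ p = 3) ∧ Nat.card ↥(⁅V, A ⊔ A.map (MulAut.conj x).toMonoidHom⁆) = p ^ 2 ∧ (A ⊔ A.map (MulAut.conj x).toMonoidHom) ⊓ Subgroup.centralizer ((⁅V, A ⊔ A.map (MulAut.conj x).toMonoidHom⁆ : Subgroup G) : Set G) = ⊥ ∧ Nonempty (↥(A ⊔ A.map (MulAut.conj x).toMonoidHom) ≃* Matrix.SpecialLinearGroup (Fin 2) (ZMod p)) := by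
  have hp := (Fact.out : p.Prime)
  obtain ⟨hcardA, hcardU, -⟩ :=
    Cfsg.Agent.S0611.result V H hV hHV hf hS1 hS3 hH1 A hAH hA hAV hmin
  have hA1 : A ≠ ⊥ := by
    rintro rfl
    rw [Subgroup.card_bot] at hcardA
    exact hp.one_lt.ne hcardA
  obtain ⟨a, haA, ha1⟩ : ∃ a ∈ A, a ≠ 1 := by
    by_contra hcon
    push Not at hcon
    exact hA1 (eq_bot_iff.mpr fun x hx => Subgroup.mem_bot.mpr (hcon x hx))
  have hAz : A = Subgroup.zpowers a := by
    apply le_antisymm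
    · intro x hx
      have h1 : (⟨x, hx⟩ : A) ∈ Subgroup.zpowers (⟨a, haA⟩ : A) :=
        mem_zpowers_of_prime_card (G := A) hcardA (g := ⟨a, haA⟩)
          (fun h => ha1 (congrArg Subtype.val h))
      obtain ⟨k, hk⟩ := Subgroup.mem_zpowers_iff.mp h1
      refine Subgroup.mem_zpowers_iff.mpr ⟨k, ?_⟩
      have := congrArg Subtype.val hk
      simpa using this
    · exact Subgroup.zpowers_le.mpr haA
  have hap : a ^ p = 1 := offender_exp V H hf hAH hA haA
  have hxa : x * a ≠ a * x := by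
    intro h
    apply hxA
    rw [hAz, Cfsg.Agent.S3755.centralizer_zpowers_eq, Subgroup.mem_centralizer_singleton_iff]
    exact h
  have hmap : A.map (MulAut.conj x).toMonoidHom = Subgroup.zpowers (x * a * x⁻¹) := by
    rw [hAz, MonoidHom.map_zpowers]
    simp
  rw [hmap]
  rw [hAz] at hcardU ⊢
  exact core V H hV hHV hf a x (hAH haA) hx hap hcardU hxa

end Cfsg.Agent.S0613
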