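import Cfsg.Statements.S0614
import Cfsg.Agent.S0611
import Cfsg.Agent.Lib.Helper62_SL2Closure

set_option autoImplicit false
open Cfsg

namespace Cfsg.Agent.S0614

open Cfsg.Agent.Lib.Helper62_Offender Cfsg.Agent.Lib.Helper62_SL2
open Cfsg.Agent.Lib.Helper62_SL2Closure

/-- The commutator of the p'-core with a minimal nontrivially-acting best offender is a 3-group (when p = 2) or a non-abelian 2-group (when p = 3). -/
theorem result {G : Type*} [Group G] [Finite G] {p : ℕ} [Fact p.Prime] (V H : Subgroup G) (hV : Cfsg.IsElementaryAbelian p V) (hHV : H ≤ Subgroup.normalizer (V : Set G)) (hf : H ⊓ Subgroup.centralizer (V : Set G) = ⊥) (hS1 : Subgroup.centralizer (Cfsg.pPrimeCore p ↥H : Set ↥H) ≤ Cfsg.pPrimeCore p ↥H) (hS3 : H = ⨆ A : {A : Subgroup G // A ≤ H ∧ Cfsg.IsBestOffenderOn p V A}, (A : Subgroup G)) (hH1 : H ≠ ⊥) (A : Subgroup G) (hAH : A ≤ H) (hA : Cfsg.IsBestOffenderOn p V A) (hAV : ⁅V, A⁆ ≠ ⊥) (hmin :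 ∀ B : Subgroup G, B ≤ A → Cfsg.IsBestOffenderOn p V B → ⁅V, B⁆ ≠ ⊥ → B = A) : (p = 2 ∧ IsPGroup 3 ↥(⁅((Cfsg.pPrimeCore p ↥H).map H.subtype), A⁆)) ∨ (p = 3 ∧ IsPGroup 2 ↥(⁅((Cfsg.pPrimeCore p ↥H).map H.subtype), A⁆) ∧ ¬ IsMulCommutative ↥(⁅((Cfsg.pPrimeCore p ↥H).map H.subtype), A⁆)) := by
  have hp := (Fact.out : p.Prime)
  obtain ⟨hcardA, hcardU, -⟩ :=
    Cfsg.Agent.S0611.result V H hV hHV hf hS1 hS3 hH1 A hAH hA hAV hmin
  have hA1 : A ≠ ⊥ := by
    rintro rfl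
    rw [Subgroup.card_bot] at hcardA
    exact hp.one_lt.ne hcardA
  obtain ⟨a, haA, ha1⟩ : ∃ a ∈ A, a ≠ 1 := by
    by_contra hcon
    push Not at hcon
    exact hA1 (eq_bot_iff.mpr fun x hx => Subgroup.mem_bot.mpr (hcon x hx))
  have hAz : A = Subgroup.zpowers a := by
    apply le_antisymm
    · intro x hx
      have h1 : (⟨x, hx⟩ : A) ∈ Subgroup.zpowers (⟨a, haA⟩ : A) :=
        mem_zpowers_of_prime_card (G := A) hcardA (g := ⟨a, haA⟩)
          (fun h => ha1 (congrArg Subtype.val h))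
      obtain ⟨k, hk⟩ := Subgroup.mem_zpowers_iff.mp h1
      refine Subgroup.mem_zpowers_iff.mpr ⟨k, ?_⟩
      have := congrArg Subtype.val hk
      simpa using this
    · exact Subgroup.zpowers_le.mpr haA
  have hap : a ^ p = 1 := offender_exp V H hf hAH hA haA
  have haH : a ∈ H := hAH haA
  obtain ⟨x, hx, hxa⟩ : ∃ x ∈ coreK p H, x * a ≠ a * x := by
    by_contra hcon
    push Not at hcon
    have h1 : a ∈ H ⊓ Subgroup.centralizer ((coreK p H : Subgroup G) : Set G) :=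
      Subgroup.mem_inf.mpr ⟨haH, Subgroup.mem_centralizer_iff.mpr fun x hx => hcon x hx⟩
    have haK := coreK_con H hS1 h1
    have h4 : orderOf a ∣ p := orderOf_dvd_of_pow_eq_one hap
    have h5 : orderOf a ∣ Nat.card (coreK p H) := Subgroup.orderOf_dvd_natCard _ haK
    exact ha1 (orderOf_eq_one_iff.mp (Nat.eq_one_of_dvd_coprimes (coreK_coprime H) h5 h4))
  rw [hAz] at hcardU ⊢
  obtain ⟨hp23, -⟩ := core_ext V H hV hHV hf a x haH hx hap hcardU hxa
  have hcardQ := card_commutator V H hV hHV hf a x haH hx hap hcardU hxa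
  rcases hp23 with h2 | h3
  · left
    refine ⟨h2, IsPGroup.of_card (n := 1) ?_⟩
    show Nat.card ↥(⁅coreK p H, Subgroup.zpowers a⁆) = 3 ^ 1
    rw [hcardQ, h2]
    norm_num
  · right
    refine ⟨h3, IsPGroup.of_card (n := 3) ?_,
      not_commutative V H hV hHV hf a x haH hx hap hcardU hxa h3⟩
    show Nat.card ↥(⁅coreK p H, Subgroup.zpowers a⁆) = 2 ^ 3
    rw [hcardQ, h3]
    norm_num

end Cfsg.Agent.S0614
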