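import Cfsg.Statements.S0615
import Cfsg.Agent.Lib.Helper62_SubnPair
import Cfsg.Agent.Lib.Helper22_Cores

set_option autoImplicit false
open Cfsg

namespace Cfsg.Agent.S0615

/-- Two subnormal subgroups acting irreducibly on their incomparable commutator modules, in a faithful group with trivial largest normal p-subgroup, generate their direct product, and the commutator module splits accordingly. -/
theorem result {G : Type*} [Group G] [Finite G] {p : ℕ} [Fact p.Prime] (V E E₁ E₂ : Subgroup G) (hV : Cfsg.IsElementaryAbelian p V) (hEV : E ≤ Subgroup.normalizer (V : Set G)) (hf : E ⊓ Subgroup.centralizer (V : Set G) = ⊥) (hgen : E = E₁ ⊔ E₂) (hs₁ : (E₁.subgroupOf E).IsSubnormal) (hs₂ : (E₂.subgroupOf E).IsSubnormal) (hOp : Cfsg.pCore p ↥E = ⊥) (hirr₁ : (∀ U : Subgroup G, U ≤ ⁅V, E₁⁆ → E₁ ≤ Subgroup.normalizer (U : Set G) → U = ⊥ ∨ U = ⁅V,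 E₁⁆)) (hirr₂ : (∀ U : Subgroup G, U ≤ ⁅V, E₂⁆ → E₂ ≤ Subgroup.normalizer (U : Set G) → U = ⊥ ∨ U = ⁅V, E₂⁆)) (h12 : ¬ ⁅V, E₁⁆ ≤ ⁅V, E₂⁆) (h21 : ¬ ⁅V, E₂⁆ ≤ ⁅V, E₁⁆) (hc₁ : 2 < Nat.card E₁) (hc₂ : 2 < Nat.card E₂) : ⁅E₁, E₂⁆ = ⊥ ∧ E₁ ⊓ E₂ = ⊥ ∧ ⁅V, E₁⁆ ⊓ ⁅V, E₂⁆ = ⊥ ∧ ⁅V, E⁆ = ⁅V, E₁⁆ ⊔ ⁅V, E₂⁆ := by
  subst hgen
  have h : Cfsg.Agent.Lib.Helper62_SubnPair.Pair p V E₁ E₂ :=
    { hEV := hEV
      hf := hf
      hs₁ := Cfsg.Agent.Lib.Lead_Subnormal.SubnIn.iff_isSubnormal_subgroupOf.mpr ⟨le_sup_left, hs₁⟩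
      hs₂ := Cfsg.Agent.Lib.Lead_Subnormal.SubnIn.iff_isSubnormal_subgroupOf.mpr ⟨le_sup_right, hs₂⟩
      hOp := by
        intro R hR hRp
        have h1 := hR.isSubnormal_subgroupOf
        have h2 : IsPGroup p ↥(R.subgroupOf (E₁ ⊔ E₂)) := hRp.comap_subtype
        have h3 := Cfsg.Agent.Lib.Helper22_Cores.le_pCore_of_isSubnormal p h1 h2
        rw [hOp, le_bot_iff, Subgroup.subgroupOf_eq_bot] at h3
        have h4 : R ⊓ (E₁ ⊔ E₂) = ⊥ := disjoint_iff.mp h3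
        rwa [inf_eq_left.mpr hR.le] at h4
      hirr₁ := hirr₁
      hirr₂ := hirr₂
      h12 := h12
      h21 := h21
      hc₁ := hc₁
      hc₂ := hc₂ }
  exact Cfsg.Agent.Lib.Helper62_SubnPair.main hV h

end Cfsg.Agent.S0615
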