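import Cfsg.Statements.S0617
import Cfsg.Agent.Lib.Helper62_StructureThm

set_option autoImplicit false
open Cfsg

namespace Cfsg.Agent.S0617

open Cfsg.Agent.Lib.Helper62_Structure Cfsg.Agent.Lib.Helper62_StructureThm

/-- Structure Theorem for failure of factorization: a faithful group generated by best offenders, with self-centralizing p'-core, is a direct product of copies of SL(2, p) (p = 2 or 3), each acting on its own plane in V, which is the direct product of these planes and C_V(H). -/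
theorem result {G : Type*} [Group G] [Finite G] {p : ℕ} [Fact p.Prime] (V H : Subgroup G) (hV : Cfsg.IsElementaryAbelian p V) (hHV : H ≤ Subgroup.normalizer (V : Set G)) (hf : H ⊓ Subgroup.centralizer (V : Set G) = ⊥) (hS1 : Subgroup.centralizer (Cfsg.pPrimeCore p ↥H : Set ↥H) ≤ Cfsg.pPrimeCore p ↥H) (hS3 : H = ⨆ A : {A : Subgroup G // A ≤ H ∧ Cfsg.IsBestOffenderOn p V A}, (A : Subgroup G)) (hH1 : H ≠ ⊥) : (p = 2 ∨ p = 3) ∧ (∀ E : {E : Subgroup G // ∃ A : Subgroup G, A ≤ H ∧ Cfsg.IsBestOffenderOn p V A ∧ ⁅V, A⁆ ≠ ⊥ ∧ (∀ B : Subgroup G, B ≤ A → Cfsg.IsBestOffenderOn p V B → ⁅V, B⁆ ≠ ⊥ → B = A) ∧ E = ⁅((Cfsg.pPrimeCore p ↥H).map H.subtype), A⁆ ⊔ A}, H ≤ Subgroup.normalizer ((E : Subgroup G) : Set G) ∧ Nonempty (↥(E : Subgroup G) ≃* Matrix.SpecialLinearGroup (Fin 2) (ZMod p)) ∧ Nat.card ↥(⁅V, (E : Subgroup G)⁆) = p ^ 2) ∧ iSupIndep (fun E : {E :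 Subgroup G // ∃ A : Subgroup G, A ≤ H ∧ Cfsg.IsBestOffenderOn p V A ∧ ⁅V, A⁆ ≠ ⊥ ∧ (∀ B : Subgroup G, B ≤ A → Cfsg.IsBestOffenderOn p V B → ⁅V, B⁆ ≠ ⊥ → B = A) ∧ E = ⁅((Cfsg.pPrimeCore p ↥H).map H.subtype), A⁆ ⊔ A} => (E : Subgroup G)) ∧ (⨆ E : {E : Subgroup G // ∃ A : Subgroup G, A ≤ H ∧ Cfsg.IsBestOffenderOn p V A ∧ ⁅V, A⁆ ≠ ⊥ ∧ (∀ B : Subgroup G, B ≤ A → Cfsg.IsBestOffenderOn p V B → ⁅V, B⁆ ≠ ⊥ → B = A) ∧ E = ⁅((Cfsg.pPrimeCore p ↥H).map H.subtype), A⁆ ⊔ A}, (E : Subgroup G)) = H ∧ iSupIndep (fun o : Option {E : Subgroup G // ∃ A : Subgroup G, A ≤ H ∧ Cfsg.IsBestOffenderOn p V A ∧ ⁅V, A⁆ ≠ ⊥ ∧ (∀ B : Subgroup G, B ≤ A → Cfsg.IsBestOffenderOn p V B → ⁅V, B⁆ ≠ ⊥ → B = A) ∧ E = ⁅((Cfsg.pPrimeCore p ↥H).map H.subtype), A⁆ ⊔ A} => o.elim (V ⊓ Subgroup.centralizer (H : Set G)) (fun E => ⁅V, (E : Subgroup G)⁆)) ∧ (V ⊓ Subgroup.centralizer (H : Set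 G)) ⊔ (⨆ E : {E : Subgroup G // ∃ A : Subgroup G, A ≤ H ∧ Cfsg.IsBestOffenderOn p V A ∧ ⁅V, A⁆ ≠ ⊥ ∧ (∀ B : Subgroup G, B ≤ A → Cfsg.IsBestOffenderOn p V B → ⁅V, B⁆ ≠ ⊥ → B = A) ∧ E = ⁅((Cfsg.pPrimeCore p ↥H).map H.subtype), A⁆ ⊔ A}, ⁅V, (E : Subgroup G)⁆) = V := by
  have amb : Amb p V H := ⟨hV, hHV, hf, hS1⟩
  have hVc := amb.comm
  have key1 : ∀ i : {E : Subgroup G // ∃ A : Subgroup G, A ≤ H ∧ Cfsg.IsBestOffenderOn p V A ∧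
      ⁅V, A⁆ ≠ ⊥ ∧ (∀ B : Subgroup G, B ≤ A → Cfsg.IsBestOffenderOn p V B → ⁅V, B⁆ ≠ ⊥ → B = A) ∧
      E = ⁅((Cfsg.pPrimeCore p ↥H).map H.subtype), A⁆ ⊔ A},
      ∃ a, IsTv p V H a ∧ (i : Subgroup G) = E p H a := by
    rintro ⟨E', A, hAH, hA, hAV, hmin, rfl⟩
    obtain ⟨a, ha, hAz⟩ := exists_tv_gen amb hS3 hH1 hAH hA hAV hmin
    refine ⟨a, ha, ?_⟩
    show ⁅((Cfsg.pPrimeCore p ↥H).map H.subtype), A⁆ ⊔ A = E p H a
    rw [hAz]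
    rfl
  choose af haf hEf using key1
  have hp23 : p = 2 ∨ p = 3 := by
    by_contra hne
    apply hH1
    rw [eq_bot_iff]
    apply le_of_tv_mem amb hS3 hH1 ⊥
    intro b hb
    exact absurd (E_facts amb hb).1 hne
  have hne : ∀ i j, i ≠ j → E p H (af j) ≠ E p H (af i) := by
    intro i j hij h
    apply hij
    apply Subtype.ext
    rw [hEf i, hEf j, h]
  have hHsup : H = ⨆ i : {E : Subgroup G // ∃ A : Subgroup G, A ≤ H ∧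
      Cfsg.IsBestOffenderOn p V A ∧ ⁅V, A⁆ ≠ ⊥ ∧
      (∀ B : Subgroup G, B ≤ A → Cfsg.IsBestOffenderOn p V B → ⁅V, B⁆ ≠ ⊥ → B = A) ∧
      E = ⁅((Cfsg.pPrimeCore p ↥H).map H.subtype), A⁆ ⊔ A}, (i : Subgroup G) := by
    apply le_antisymm
    · apply le_of_min_le amb hS3 hH1
      intro A hAH hA hAV hmin
      exact le_iSup_of_le ⟨_, A, hAH, hA, hAV, hmin, rfl⟩ le_sup_right
    · refine iSup_le fun i => ?_
      rw [hEf i]
      exact E_le (haf i).mem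
  obtain ⟨h3, h5, h6⟩ := indep_abstract V H hVc
    (fun i : {E : Subgroup G // ∃ A : Subgroup G, A ≤ H ∧
      Cfsg.IsBestOffenderOn p V A ∧ ⁅V, A⁆ ≠ ⊥ ∧
      (∀ B : Subgroup G, B ≤ A → Cfsg.IsBestOffenderOn p V B → ⁅V, B⁆ ≠ ⊥ → B = A) ∧
      E = ⁅((Cfsg.pPrimeCore p ↥H).map H.subtype), A⁆ ⊔ A} => (i : Subgroup G))
    (fun i => ⁅V, (i : Subgroup G)⁆)
    (fun i => by
      show ⁅V, (i : Subgroup G)⁆ ≤ V
      rw [hEf i]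
      exact Cfsg.Agent.Lib.Helper62_SL2.commutator_le_of_normalizer V _
        ((E_le (haf i).mem).trans hHV))
    (fun i => by
      show ⁅V, (i : Subgroup G)⁆ ⊓ _ = ⊥
      rw [hEf i]
      exact (E_facts amb (haf i)).2.2.2.2.2.1)
    (fun i => by
      show ⁅V, (i : Subgroup G)⁆ ⊔ _ = V
      rw [hEf i]
      exact (E_facts amb (haf i)).2.2.2.2.2.2)
    (fun i j hij => by
      show ⁅V, (j : Subgroup G)⁆ ≤ _
      rw [hEf i, hEf j, ← Subgroup.le_centralizer_iff]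
      exact (E_le_centralizer amb (haf j) (haf i) (hne j i (Ne.symm hij))).trans inf_le_right)
    (fun i => by
      show (i : Subgroup G) ⊓ _ = ⊥
      rw [hEf i]
      exact (structure_one amb hS3 hH1 (haf i)).2.1)
    (fun i j hij => by
      show (j : Subgroup G) ≤ _
      rw [hEf i, hEf j]
      exact E_le_centralizer amb (haf i) (haf j) (hne i j hij))
    hHsup
  refine ⟨hp23, ?_, h3, hHsup.symm, h5, h6⟩
  intro i
  rw [hEf i]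
  exact ⟨(structure_one amb hS3 hH1 (haf i)).2.2.2.2.1, (E_facts amb (haf i)).2.2.2.1,
    (E_facts amb (haf i)).2.1⟩

end Cfsg.Agent.S0617
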