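import Cfsg.Statements.S0618
import Mathlib
import Cfsg.Agent.Lib.Helper10_FFTransport
import Cfsg.Agent.Lib.Helper76_PSolvable
import Cfsg.Agent.S0600
import Cfsg.Agent.S0601
import Cfsg.Agent.S0602
import Cfsg.Agent.S0608
import Cfsg.Agent.S0617

set_option autoImplicit false
open Cfsg

namespace Cfsg.Agent.S0618

open Cfsg.Agent.Lib.Helper10_FFTransport

theorem nonempty_of_iSup_ne_bot {ι : Sort*} {α : Type*} [CompleteLattice α] (f : ι → α)
    (h : (⨆ i, f i) ≠ ⊥) : Nonempty ι := by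
  by_contra hne
  rw [not_nonempty_iff] at hne
  exact h (iSup_of_empty f)

/-- A p-separable group with trivial p'-core in which the Thompson factorization fails has p = 2 or 3, and J(G) induces on the normal closure of Ω₁(Z(S)) a group containing a normal SL(2, p). -/
theorem result {G : Type*} [Group G] [Finite G] {p : ℕ} [Fact p.Prime] (hsep : Cfsg.IsPSolvable p G) (hO : Cfsg.pPrimeCore p G = ⊥) (hnf : ¬ Cfsg.IsThompsonFactorizable p G) : (p = 2 ∨ p = 3) ∧ ∃ E : Subgroup G, Subgroup.centralizer ((⨆ S : Sylow p G, Cfsg.omegaOne p ((S : Subgroup G) ⊓ Subgroup.centralizer ((S : Subgroup G) : Set G))) : Set G) ≤ E ∧ E ≤ Cfsg.thompsonSubgroup p G ⊔ Subgroup.centralizer ((⨆ S : Sylow p G, Cfsg.omegaOne p ((S : Subgroup G) ⊓ Subgroup.centralizer ((S : Subgroup G) : Set G))) : Set G) ∧ Cfsg.thompsonSubgroup p G ⊔ Subgroup.centralizer ((⨆ S : Sylow p G, Cfsg.omegaOne p ((S : Subgroup G) ⊓ Subgroup.centralizer ((S : Subgroup G) : Set G))) : Set G) ≤ Subgroup.normalizer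 (E : Set G) ∧ ∃ hn : ((Subgroup.centralizer ((⨆ S : Sylow p G, Cfsg.omegaOne p ((S : Subgroup G) ⊓ Subgroup.centralizer ((S : Subgroup G) : Set G))) : Set G)).subgroupOf E).Normal, Nonempty ((↥E ⧸ (Subgroup.centralizer ((⨆ S : Sylow p G, Cfsg.omegaOne p ((S : Subgroup G) ⊓ Subgroup.centralizer ((S : Subgroup G) : Set G))) : Set G)).subgroupOf E) ≃* Matrix.SpecialLinearGroup (Fin 2) (ZMod p)) := by
  classical
  set V : Subgroup G := ⨆ S : Sylow p G, Cfsg.omegaOne p
    ((S : Subgroup G) ⊓ Subgroup.centralizer ((S : Subgroup G) : Set G)) with hVdef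
  have hcent : Subgroup.centralizer ((⨆ S : Sylow p G, Cfsg.omegaOne p ((S : Subgroup G) ⊓
      Subgroup.centralizer ((S : Subgroup G) : Set G))) : Set G) =
      Subgroup.centralizer (V : Set G) := by
    rw [hVdef, Subgroup.iSup_eq_closure, Subgroup.centralizer_closure, Set.iSup_eq_iUnion]
  rw [hcent]
  have hc := Cfsg.Agent.Lib.Helper76_PSolvable.centralizer_pCore_le p hsep hO
  obtain ⟨hVn, hVea, -⟩ := Cfsg.Agent.S0601.result hc
  rw [← hVdef] at hVn hVea
  have := hVn
  have hgen : V = ⨆ S : Sylow p G, V ⊓ Subgroup.centralizer ((S : Subgroup G) : Set G) := by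
    apply le_antisymm
    · apply iSup_le
      intro S
      have h0 : Cfsg.omegaOne p ((S : Subgroup G) ⊓
          Subgroup.centralizer ((S : Subgroup G) : Set G)) ≤ V := by
        rw [hVdef]
        exact le_iSup (fun S : Sylow p G => Cfsg.omegaOne p ((S : Subgroup G) ⊓
          Subgroup.centralizer ((S : Subgroup G) : Set G))) S
      refine le_iSup_of_le S (le_inf h0 ?_)
      unfold Cfsg.omegaOne
      rw [Subgroup.closure_le]
      intro x hx
      exact hx.1.2
    · exact iSup_le fun S => inf_le_left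
  have hOp : Cfsg.pCore p (G ⧸ Subgroup.centralizer (V : Set G)) = ⊥ :=
    Cfsg.Agent.S0600.result V hVea hgen
  have hJ : ¬ Cfsg.thompsonSubgroup p G ≤ Subgroup.centralizer (V : Set G) :=
    fun h => hnf ((Cfsg.Agent.S0608.result hO).mpr h)
  have : (Cfsg.thompsonSubgroup p G).Characteristic := (Cfsg.Agent.S0602.result).1
  have : (Cfsg.thompsonSubgroup p G).Normal := Subgroup.normal_of_characteristic _
  let t := permFFT V
  have hH1 : (Cfsg.thompsonSubgroup p G).map t.ι ≠ ⊥ := by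
    rw [Ne, t.map_eq_bot_iff]
    exact hJ
  obtain ⟨hp23, hE, -, hsup, -, -⟩ := Cfsg.Agent.S0617.result (p := p) t.j.range
    ((Cfsg.thompsonSubgroup p G).map t.ι) (t.elemAb hVea) (t.le_normalizer _) (t.faithful _)
    (t.hS1 hsep hOp _) (t.hS3 hVea) hH1
  obtain ⟨E'⟩ := nonempty_of_iSup_ne_bot _ (hsup ▸ hH1)
  have hE'le : (E' : Subgroup (Equiv.Perm V)) ≤ (Cfsg.thompsonSubgroup p G).map t.ι := by
    exact le_of_le_of_eq (le_iSup _ E') hsup
  obtain ⟨hEn, ⟨e2⟩, -⟩ := hE E'
  refine ⟨hp23, (E' : Subgroup (Equiv.Perm V)).comap t.ι, ?_, ?_, ?_, ?_⟩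
  · intro c hc
    show t.ι c ∈ (E' : Subgroup (Equiv.Perm V))
    have hc' : c ∈ t.ι.ker := by rw [t.ker_ι]; exact hc
    rw [MonoidHom.mem_ker.mp hc']
    exact Subgroup.one_mem _
  · intro x hx
    obtain ⟨y, hy, hyx⟩ := hE'le hx
    have h1 : y⁻¹ * x ∈ Subgroup.centralizer (V : Set G) := by
      rw [← t.ker_ι, MonoidHom.mem_ker, map_mul, map_inv, hyx]
      group
    have h2 : x = y * (y⁻¹ * x) := by group
    rw [h2]
    exact Subgroup.mul_mem_sup hy h1
  · apply sup_le
    · intro g hg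
      exact Subgroup.le_normalizer_comap t.ι (hEn (Subgroup.mem_map_of_mem _ hg))
    · intro c hc
      apply Subgroup.le_normalizer_comap t.ι
      show t.ι c ∈ Subgroup.normalizer _
      have hc' : c ∈ t.ι.ker := by rw [t.ker_ι]; exact hc
      rw [MonoidHom.mem_ker.mp hc']
      exact Subgroup.one_mem _
  · obtain ⟨hn, ⟨e⟩⟩ := comap_quot_equiv t.ι (Subgroup.centralizer (V : Set G)) t.ker_ι
      (E' : Subgroup (Equiv.Perm V)) (hE'le.trans (Subgroup.map_le_range _ _))
    exact ⟨hn, ⟨e.trans e2⟩⟩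

end Cfsg.Agent.S0618
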