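import Cfsg.Statements.S0619
import Mathlib
import Cfsg.Agent.Lib.Helper10_FFTransport
import Cfsg.Agent.Lib.Helper10_Thompson
import Cfsg.Agent.S0602
import Cfsg.Agent.S0606
import Cfsg.Agent.S0610

set_option autoImplicit false
open Cfsg

namespace Cfsg.Agent.S0619

open Cfsg.Agent.Lib.Helper10_FFTransport
open Cfsg.Agent.Lib.Helper10_Thompson
open scoped commutatorElement Pointwise

/-- For `A ∈ 𝒜(G)`, the subgroup `C_A(V) V` is again in `𝒜(G)`. -/
theorem sup_mem_max {G : Type*} [Group G] [Finite G] {p : ℕ} [Fact p.Prime]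
    (hsep : Cfsg.IsPSolvable p G) (V : Subgroup G) [V.Normal]
    (hV : Cfsg.IsElementaryAbelian p V)
    (hO : Cfsg.pCore p (G ⧸ Subgroup.centralizer (V : Set G)) = ⊥)
    (A : Subgroup G) (hA : A ∈ Cfsg.maxElementaryAbelianSubgroups p G) :
    (A ⊓ Subgroup.centralizer (V : Set G)) ⊔ V ∈ Cfsg.maxElementaryAbelianSubgroups p G := by
  classical
  have hBea : Cfsg.IsElementaryAbelian p ((A ⊓ Subgroup.centralizer (V : Set G)) ⊔ V) := by
    apply isElementaryAbelian_sup (ea_mono inf_le_left hA.1) hV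
    intro a ha v hv
    exact ((Subgroup.mem_centralizer_iff.mp ha.2) v hv).symm
  apply mem_max_of_card_eq hA hBea
  by_cases hAC : A ≤ Subgroup.centralizer (V : Set G)
  · apply Subgroup.card_le_of_le
    exact le_sup_of_le_left (le_inf le_rfl hAC)
  · have : (Cfsg.thompsonSubgroup p G).Characteristic := (Cfsg.Agent.S0602.result).1
    have : (Cfsg.thompsonSubgroup p G).Normal := Subgroup.normal_of_characteristic _
    let t := permFFT V
    have hA1 : A.map t.ι ≠ ⊥ := by
      rw [Ne, t.map_eq_bot_iff]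
      exact hAC
    have hAle : A.map t.ι ≤ (Cfsg.thompsonSubgroup p G).map t.ι :=
      Subgroup.map_mono (le_thompsonSubgroup hA)
    have hH1 : (Cfsg.thompsonSubgroup p G).map t.ι ≠ ⊥ := by
      intro h
      rw [h, le_bot_iff] at hAle
      exact hA1 hAle
    have key := Cfsg.Agent.S0610.result (p := p) t.j.range
      ((Cfsg.thompsonSubgroup p G).map t.ι) (t.elemAb hV) (t.le_normalizer _) (t.faithful _)
      (t.hS1 hsep hO _) (t.hS3 hV) hH1 (A.map t.ι) hAle
      (t.best A (Cfsg.Agent.S0606.result V hV A hA)) hA1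
    rw [t.card_fix, t.card_range] at key
    have e2 := t.card_map A
    have e3 := card_mul_card_le_card_sup_mul_card_inf (A ⊓ Subgroup.centralizer (V : Set G)) V
    have e4 : Nat.card ↥(V ⊓ (A ⊓ Subgroup.centralizer (V : Set G))) ≤
        Nat.card ↥(V ⊓ Subgroup.centralizer (A : Set G)) := by
      apply Subgroup.card_le_of_le
      intro x hx
      refine ⟨hx.1, ?_⟩
      change x ∈ Subgroup.centralizer (A : Set G)
      rw [Subgroup.mem_centralizer_iff]
      intro a ha
      exact ea_comm hA.1 ha hx.2.1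
    have hpos : 0 < Nat.card ↥(V ⊓ Subgroup.centralizer (A : Set G)) := Nat.card_pos
    refine Nat.le_of_mul_le_mul_right ?_ hpos
    calc Nat.card A * Nat.card ↥(V ⊓ Subgroup.centralizer (A : Set G))
        = Nat.card ↥(A ⊓ Subgroup.centralizer (V : Set G)) *
            (Nat.card ↥(A.map t.ι) * Nat.card ↥(V ⊓ Subgroup.centralizer (A : Set G))) := by
          rw [← e2]; ring
      _ = Nat.card ↥(A ⊓ Subgroup.centralizer (V : Set G)) * Nat.card V := by rw [key]
      _ ≤ _ := e3
      _ ≤ _ := Nat.mul_le_mul_left _ e4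

/-- For a p-separable group and a normal elementary abelian p-subgroup V with no nontrivial normal p-subgroup modulo its centralizer C, the Thompson subgroup J(G) moves Ω₁(Z(J(C))) only inside V. -/
theorem result {G : Type*} [Group G] [Finite G] {p : ℕ} [Fact p.Prime] (hsep : Cfsg.IsPSolvable p G) (V : Subgroup G) [V.Normal] (hV : Cfsg.IsElementaryAbelian p V) (hO : Cfsg.pCore p (G ⧸ Subgroup.centralizer (V : Set G)) = ⊥) : ⁅Cfsg.omegaOne p (Cfsg.centerThompsonOf p (Subgroup.centralizer (V : Set G))), Cfsg.thompsonSubgroup p G⁆ ≤ V := by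
  classical
  set C := Subgroup.centralizer (V : Set G) with hC
  set JC := Cfsg.thompsonSubgroupOf p C with hJC
  set Z₀ := Cfsg.omegaOne p (Cfsg.centerThompsonOf p C) with hZ₀
  have hZcent : Z₀ ≤ Subgroup.centralizer (JC : Set G) := by
    rw [hZ₀, Cfsg.omegaOne, Subgroup.closure_le]
    intro x hx
    exact hx.1.2
  have hZea : Cfsg.IsElementaryAbelian p Z₀ := by
    rw [hZ₀, Cfsg.omegaOne]
    apply isElementaryAbelian_closure
    · intro x hx y hy
      exact (Subgroup.mem_centralizer_iff.mp hy.1.2) x hx.1.1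
    · intro x hx
      exact hx.2
  have hVC : V ≤ C := by
    intro v hv
    rw [hC, Subgroup.mem_centralizer_iff]
    intro w hw
    exact ea_comm hV hw hv
  -- key claim
  have claim : ∀ A ∈ Cfsg.maxElementaryAbelianSubgroups p G, ⁅Z₀, A⁆ ≤ V := by
    intro A hA
    have hB := sup_mem_max hsep V hV hO A hA
    set B := (A ⊓ C) ⊔ V with hBdef
    have hBC : B ≤ C := sup_le inf_le_right hVC
    have hBJ : B ≤ JC := le_thompsonSubgroupOf hB hBC
    have hZB : Z₀ ≤ B := by
      have h1 : Cfsg.IsElementaryAbelian p (Z₀ ⊔ B) := by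
        apply isElementaryAbelian_sup hZea hB.1
        intro z hz b hb
        exact ((Subgroup.mem_centralizer_iff.mp (hZcent hz)) b (hBJ hb)).symm
      have h2 : B = Z₀ ⊔ B := eq_of_mem_max_of_le hB h1 le_sup_right
      rw [h2]
      exact le_sup_left
    refine (Subgroup.commutator_mono hZB le_rfl).trans ?_
    rw [Subgroup.commutator_le]
    intro b hb a ha
    have hb' : b ∈ ((A ⊓ C : Subgroup G) : Set G) * (V : Set G) := by
      rw [← Subgroup.mul_normal]
      exact hb
    obtain ⟨a₀, ha₀, v, hv, rfl⟩ := Set.mem_mul.mp hb'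
    have hcomm : a₀ * a = a * a₀ := ea_comm hA.1 ha₀.1 ha
    have h1 : ⁅a₀ * v, a⁆ = a₀ * (v * (a * v⁻¹ * a⁻¹)) * a₀⁻¹ := by
      rw [commutatorElement_def]
      have : a₀⁻¹ * a⁻¹ = a⁻¹ * a₀⁻¹ := by
        rw [← mul_inv_rev, ← mul_inv_rev, hcomm]
      calc a₀ * v * a * (a₀ * v)⁻¹ * a⁻¹ = a₀ * v * a * v⁻¹ * (a₀⁻¹ * a⁻¹) := by group
        _ = a₀ * v * a * v⁻¹ * (a⁻¹ * a₀⁻¹) := by rw [this]
        _ = a₀ * (v * (a * v⁻¹ * a⁻¹)) * a₀⁻¹ := by group
    rw [h1]
    apply Subgroup.Normal.conj_mem inferInstance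
    exact V.mul_mem hv (Subgroup.Normal.conj_mem inferInstance _ (V.inv_mem hv) a)
  -- conclusion
  let K : Subgroup G := (Subgroup.centralizer
    ((Z₀.map (QuotientGroup.mk' V) : Subgroup (G ⧸ V)) : Set (G ⧸ V))).comap (QuotientGroup.mk' V)
  have hK : ∀ g : G, g ∈ K ↔ ∀ z ∈ Z₀, ⁅z, g⁆ ∈ V := by
    intro g
    show QuotientGroup.mk' V g ∈ Subgroup.centralizer _ ↔ _
    rw [Subgroup.mem_centralizer_iff]
    constructor
    · intro h z hz
      have h1 := h (QuotientGroup.mk' V z) (Subgroup.mem_map_of_mem _ hz)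
      rw [← QuotientGroup.eq_one_iff, commutatorElement_def]
      have h2 : ((z * g * z⁻¹ * g⁻¹ : G) : G ⧸ V) =
          QuotientGroup.mk' V z * QuotientGroup.mk' V g * (QuotientGroup.mk' V z)⁻¹ *
            (QuotientGroup.mk' V g)⁻¹ := by
        simp
      rw [h2, h1]
      group
    · rintro h _ ⟨z, hz, rfl⟩
      have h1 := h z hz
      rw [← QuotientGroup.eq_one_iff, commutatorElement_def] at h1
      have h2 : ((z * g * z⁻¹ * g⁻¹ : G) : G ⧸ V) =
          QuotientGroup.mk' V z * QuotientGroup.mk' V g * (QuotientGroup.mk' V z)⁻¹ *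
            (QuotientGroup.mk' V g)⁻¹ := by
        simp
      rw [h2] at h1
      calc QuotientGroup.mk' V z * QuotientGroup.mk' V g
          = (QuotientGroup.mk' V z * QuotientGroup.mk' V g * (QuotientGroup.mk' V z)⁻¹ *
            (QuotientGroup.mk' V g)⁻¹) * QuotientGroup.mk' V g * QuotientGroup.mk' V z := by
            group
        _ = QuotientGroup.mk' V g * QuotientGroup.mk' V z := by rw [h1, one_mul]
  have hJK : Cfsg.thompsonSubgroup p G ≤ K := by
    apply sSup_le
    intro A hA g hg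
    rw [hK]
    intro z hz
    exact claim A hA (Subgroup.commutator_mem_commutator hz hg)
  rw [Subgroup.commutator_le]
  intro z hz g hg
  exact (hK g).mp (hJK hg) z hz

end Cfsg.Agent.S0619
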