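import Cfsg.Statements.S0620
import Mathlib
import Cfsg.Agent.Lib.Helper10_FFTransport
import Cfsg.Agent.Lib.Helper10_FFCoprime
import Cfsg.Agent.Lib.Helper76_PSolvable
import Cfsg.Agent.S0600
import Cfsg.Agent.S0601
import Cfsg.Agent.S0602
import Cfsg.Agent.S0608

set_option autoImplicit false
open Cfsg

namespace Cfsg.Agent.S0620

open Cfsg.Agent.Lib.Helper10_FFTransport
open Cfsg.Agent.Lib.Helper10_Thompson
open Cfsg.Agent.Lib.Helper24_CoprimeAction
open Cfsg.Agent.S0608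

/-- the subgroup generated by all `Ω₁(Z(S))` is characteristic -/
theorem iSup_ZZ_characteristic {K' : Type*} [Group K'] [Finite K'] {p : ℕ} [Fact p.Prime] :
    (⨆ S : Sylow p K', Cfsg.omegaOne p ((S : Subgroup K') ⊓
      Subgroup.centralizer ((S : Subgroup K') : Set K'))).Characteristic := by
  rw [Subgroup.characteristic_iff_map_le]
  intro φ
  rw [Subgroup.map_iSup]
  apply iSup_le
  intro S
  have h1 := ZZ_map (p := p) φ (S : Subgroup K')
  unfold ZZ at h1
  rw [h1]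
  have h2 : ((φ • S : Sylow p K') : Subgroup K') = (S : Subgroup K').map φ.toMonoidHom := by
    rfl
  rw [← h2]
  exact le_iSup (fun S : Sylow p K' => Cfsg.omegaOne p ((S : Subgroup K') ⊓
      Subgroup.centralizer ((S : Subgroup K') : Set K'))) (φ • S)

/-- the permutation of a characteristic subgroup induced by an automorphism -/
def sigma {K' : Type*} [Group K'] (V : Subgroup K') (φ : K' ≃* K')
    (hφ : ∀ v, v ∈ V ↔ φ v ∈ V) : Equiv.Perm ↥V where
  toFun v := ⟨φ v, (hφ v).mp v.2⟩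
  invFun v := ⟨φ.symm v, (hφ _).mpr (by rw [MulEquiv.apply_symm_apply]; exact v.2)⟩
  left_inv v := by apply Subtype.ext; simp
  right_inv v := by apply Subtype.ext; simp

theorem mem_iff_of_characteristic {K' : Type*} [Group K'] (V : Subgroup K') [hV : V.Characteristic]
    (φ : K' ≃* K') (v : K') : v ∈ V ↔ φ v ∈ V := by
  have h := Subgroup.characteristic_iff_comap_eq.mp hV φ
  conv_lhs => rw [← h]
  rfl

theorem relIndex_map_dvd' {A B : Type*} [Group A] [Group B] (f : A →* B) (T J : Subgroup A)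
    (hTJ : T ≤ J) : (T.map f).relIndex (J.map f) ∣ T.relIndex J := by
  have h1 : ((T.subgroupOf J).map (f.subgroupMap J)).index ∣ (T.subgroupOf J).index :=
    Subgroup.index_map_dvd _ (f.subgroupMap_surjective J)
  have h2 : (T.subgroupOf J).map (f.subgroupMap J) = (T.map f).subgroupOf (J.map f) := by
    ext ⟨y, hy⟩
    rw [Subgroup.mem_subgroupOf]
    constructor
    · rintro ⟨⟨x, hx⟩, hxT, hxy⟩
      have : f x = y := congrArg Subtype.val hxy
      exact ⟨x, Subgroup.mem_subgroupOf.mp hxT, this⟩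
    · rintro ⟨x, hxT, hxy⟩
      exact ⟨⟨x, hTJ hxT⟩, Subgroup.mem_subgroupOf.mpr hxT, Subtype.ext hxy⟩
  rw [h2] at h1
  exact h1

section operator

variable {G : Type*} [Group G] (K X : Subgroup G) (hXK : X ≤ Subgroup.normalizer (K : Set G))
  (V : Subgroup ↥K) [hVc : V.Characteristic]

/-- the action of `X` on the characteristic subgroup `V` of `K` -/
noncomputable def opHom : ↥X →* Equiv.Perm ↥V :=
  MonoidHom.mk' (fun x => sigma V (conjAut K x (hXK x.2)) (mem_iff_of_characteristic V _)) (by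
    intro a b
    ext v
    show (a * b : G) * v * (a * b : G)⁻¹ = a * (b * v * (b : G)⁻¹) * (a : G)⁻¹
    group)

theorem opHom_apply (x : ↥X) (v : ↥V) :
    (((opHom K X hXK V x v : ↥V) : ↥K) : G) = x * v * (x : G)⁻¹ := rfl

theorem opHom_conj_ι [V.Normal] (x : ↥X) (k : ↥K) :
    opHom K X hXK V x * (permFFT V).ι k * (opHom K X hXK V x)⁻¹ =
      (permFFT V).ι (conjAut K x (hXK x.2) k) := by
  rw [mul_inv_eq_iff_eq_mul]
  ext v
  show ((((opHom K X hXK V x) ((permFFT V).ι k v) : ↥V) : ↥K) : G) =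
    ((((permFFT V).ι (conjAut K x (hXK x.2) k)) ((opHom K X hXK V x) v) : ↥V) : ↥K)
  rw [opHom_apply]
  have h1 : ∀ (g : ↥K) (w : ↥V), (((permFFT V).ι g w : ↥V) : ↥K) = g * w * g⁻¹ :=
    fun g w => conjPerm_apply V g w
  rw [h1, h1]
  push_cast
  rw [opHom_apply]
  show (x : G) * ((k : G) * ((v : ↥K) : G) * (k : G)⁻¹) * (x : G)⁻¹ =
    ((x : G) * (k : G) * (x : G)⁻¹) * ((x : G) * ((v : ↥K) : G) * (x : G)⁻¹) *
      ((x : G) * (k : G) * (x : G)⁻¹)⁻¹
  group

theorem opHom_conj_j [V.Normal] (x : ↥X) (u : ↥V) :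
    opHom K X hXK V x * (permFFT V).j u * (opHom K X hXK V x)⁻¹ =
      (permFFT V).j (opHom K X hXK V x u) := by
  rw [mul_inv_eq_iff_eq_mul]
  ext v
  show ((((opHom K X hXK V x) ((permFFT V).j u v) : ↥V) : ↥K) : G) =
    ((((permFFT V).j (opHom K X hXK V x u)) ((opHom K X hXK V x) v) : ↥V) : ↥K)
  rw [opHom_apply]
  have h1 : ∀ (a w : ↥V), ((permFFT V).j a w : ↥V) = a * w := fun a w => rfl
  rw [h1, h1]
  push_cast
  rw [opHom_apply, opHom_apply]
  group

end operator

/-- Under coprime action of an elementary abelian q-group X on a p-separable group K with trivial p'-core, K is generated by the normalizer of J(S), the centralizer of Ω₁(Z(S)) and the fixed points of X. -/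
theorem result {G : Type*} [Group G] [Finite G] {p : ℕ} [Fact p.Prime] {q : ℕ} [Fact q.Prime] (K X : Subgroup G) (hXK : X ≤ Subgroup.normalizer (K : Set G)) (hX : Cfsg.IsElementaryAbelian q X) (hq : ¬ q ∣ Nat.card K) (hsep : Cfsg.IsPSolvable p ↥K) (hO : Cfsg.pPrimeCore p ↥K = ⊥) (S : Sylow p ↥K) : (Subgroup.normalizer (Cfsg.thompsonSubgroupOf p (S : Subgroup ↥K) : Set ↥K) ⊔ Subgroup.centralizer (Cfsg.omegaOne p ((S : Subgroup ↥K) ⊓ Subgroup.centralizer ((S : Subgroup ↥K) : Set ↥K)) : Set ↥K) ⊔ (Subgroup.centralizer (X : Set G)).subgroupOf K) = ⊤ := by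
  classical
  have hqp := (Fact.out : q.Prime)
  set V : Subgroup ↥K := ⨆ S' : Sylow p ↥K, Cfsg.omegaOne p
    ((S' : Subgroup ↥K) ⊓ Subgroup.centralizer ((S' : Subgroup ↥K) : Set ↥K)) with hVdef
  have hc := Cfsg.Agent.Lib.Helper76_PSolvable.centralizer_pCore_le p hsep hO
  obtain ⟨hVn, hVea, -⟩ := Cfsg.Agent.S0601.result hc
  rw [← hVdef] at hVn hVea
  have hVchar : V.Characteristic := iSup_ZZ_characteristic
  have hZV : ∀ S' : Sylow p ↥K, Cfsg.omegaOne p ((S' : Subgroup ↥K) ⊓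
      Subgroup.centralizer ((S' : Subgroup ↥K) : Set ↥K)) ≤ V := by
    intro S'
    rw [hVdef]
    exact le_iSup (fun S' : Sylow p ↥K => Cfsg.omegaOne p ((S' : Subgroup ↥K) ⊓
      Subgroup.centralizer ((S' : Subgroup ↥K) : Set ↥K))) S'
  have hgen : V = ⨆ S' : Sylow p ↥K, V ⊓ Subgroup.centralizer ((S' : Subgroup ↥K) : Set ↥K) := by
    apply le_antisymm
    · apply iSup_le
      intro S'
      refine le_iSup_of_le S' (le_inf (hZV S') ?_)
      exact ZZ_le_centralizer (S' : Subgroup ↥K)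
    · exact iSup_le fun S' => inf_le_left
  have hOp : Cfsg.pCore p (↥K ⧸ Subgroup.centralizer (V : Set ↥K)) = ⊥ :=
    Cfsg.Agent.S0600.result V hVea hgen
  set C := Subgroup.centralizer (V : Set ↥K) with hC
  set J := Cfsg.thompsonSubgroup p ↥K with hJ
  have hJchar : J.Characteristic := (Cfsg.Agent.S0602.result).1
  have hJn : J.Normal := Subgroup.normal_of_characteristic _
  have hCchar : C.Characteristic := by rw [hC]; infer_instance
  have hCn : C.Normal := Subgroup.normal_of_characteristic _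
  set K₀ := Subgroup.normalizer (Cfsg.thompsonSubgroupOf p (S : Subgroup ↥K) : Set ↥K) ⊔
    Subgroup.centralizer (Cfsg.omegaOne p ((S : Subgroup ↥K) ⊓
      Subgroup.centralizer ((S : Subgroup ↥K) : Set ↥K)) : Set ↥K) ⊔
    (Subgroup.centralizer (X : Set G)).subgroupOf K with hK₀
  have hNK₀ : Subgroup.normalizer (Cfsg.thompsonSubgroupOf p (S : Subgroup ↥K) : Set ↥K) ≤ K₀ :=
    le_sup_of_le_left le_sup_left
  have hCK₀ : C ≤ K₀ := by
    refine le_sup_of_le_left (le_sup_of_le_right ?_)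
    exact Subgroup.centralizer_le (SetLike.coe_subset_coe.mpr (hZV S))
  have hXK₀ : (Subgroup.centralizer (X : Set G)).subgroupOf K ≤ K₀ := le_sup_right
  -- `S` normalizes `J(S)`
  have hJS : Cfsg.thompsonSubgroupOf p (S : Subgroup ↥K) = Jm p (S : Subgroup ↥K) :=
    thompsonSubgroupOf_sylow_eq_Jm S
  have hSK₀ : (S : Subgroup ↥K) ≤ K₀ := by
    refine le_trans ?_ hNK₀
    intro s hs
    rw [hJS, Subgroup.mem_normalizer_iff_map_conj_eq]
    have h1 := Jm_map (p := p) (MulAut.conj s) (S : Subgroup ↥K)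
    rw [map_conj_of_mem _ hs] at h1
    exact h1
  -- Frattini
  have hfrat : Subgroup.normalizer (((S : Subgroup ↥K) ⊓ (J ⊔ C) : Subgroup ↥K) : Set ↥K) ≤ K₀ := by
    refine le_trans ?_ hNK₀
    intro n hn
    have h1 : Jm p ((S : Subgroup ↥K) ⊓ (J ⊔ C)) = Jm p (S : Subgroup ↥K) :=
      Jm_eq_of_le inf_le_left
        (le_inf (Jm_le _) ((Jm_le_thompson _).trans le_sup_left))
    rw [hJS, ← h1, Subgroup.mem_normalizer_iff_map_conj_eq]
    have h2 := Jm_map (p := p) (MulAut.conj n) ((S : Subgroup ↥K) ⊓ (J ⊔ C))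
    have h3 : ((S : Subgroup ↥K) ⊓ (J ⊔ C)).map (MulAut.conj n).toMonoidHom =
        (S : Subgroup ↥K) ⊓ (J ⊔ C) := Subgroup.mem_normalizer_iff_map_conj_eq.mp hn
    rw [h3] at h2
    exact h2
  suffices hJK₀ : J ≤ K₀ by
    rw [eq_top_iff]
    intro g _
    obtain ⟨c, hc, n, hn, rfl⟩ := frattini_inf S (J ⊔ C) g
    exact K₀.mul_mem (sup_le hJK₀ hCK₀ hc) (hfrat hn)
  by_cases hJC : J ≤ C
  · exact hJC.trans hCK₀
  let t := permFFT V
  suffices h : J.map t.ι ≤ K₀.map t.ι by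
    intro g hg
    obtain ⟨k, hk, hkg⟩ := h (Subgroup.mem_map_of_mem _ hg)
    have h1 : k⁻¹ * g ∈ C := by
      rw [hC, ← t.ker_ι, MonoidHom.mem_ker, map_mul, map_inv, hkg]
      group
    have h2 : g = k * (k⁻¹ * g) := by group
    rw [h2]
    exact K₀.mul_mem hk (hCK₀ h1)
  -- hypotheses of the structure theory
  have amb : Cfsg.Agent.Lib.Helper62_Structure.Amb p t.j.range (J.map t.ι) :=
    ⟨t.elemAb hVea, t.le_normalizer _, t.faithful _, t.hS1 hsep hOp _⟩
  have hS3 := t.hS3 (p := p) hVea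
  have hH1 : J.map t.ι ≠ ⊥ := by
    rw [Ne, t.map_eq_bot_iff]
    exact hJC
  have hcardJ : Nat.card ↥(J.map t.ι) ∣ Nat.card K := by
    have h1 := t.card_map J
    exact (Dvd.intro _ h1).trans (Subgroup.card_subgroup_dvd_card J)
  have hq' : ¬ q ∣ Nat.card ↥(J.map t.ι) := fun h => hq (h.trans hcardJ)
  -- the operator group
  set Sg := opHom K X hXK V with hSg
  have hXq : IsPGroup q ↥X := ea_isPGroup hX
  have hSgq : IsPGroup q ↥Sg.range := hXq.of_surjective Sg.rangeRestrict Sg.rangeRestrict_surjective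
  have hSgV : Sg.range ≤ Subgroup.normalizer ((t.j.range : Subgroup (Equiv.Perm ↥V)) :
      Set (Equiv.Perm ↥V)) := by
    rintro _ ⟨x, rfl⟩
    rw [Subgroup.mem_normalizer_iff]
    intro w
    constructor
    · rintro ⟨u, rfl⟩
      rw [opHom_conj_j]
      exact ⟨_, rfl⟩
    · rintro ⟨u, hu⟩
      have h1 : w = Sg x⁻¹ * t.j u * (Sg x⁻¹)⁻¹ := by
        rw [hu, map_inv]; group
      rw [h1, opHom_conj_j]
      exact ⟨_, rfl⟩
  have hconjJ : ∀ (x : ↥X) (k : ↥K), k ∈ J → conjAut K x (hXK x.2) k ∈ J :=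
    fun x k hk => (mem_iff_of_characteristic J _ k).mp hk
  have hSgH : Sg.range ≤ Subgroup.normalizer ((J.map t.ι : Subgroup (Equiv.Perm ↥V)) :
      Set (Equiv.Perm ↥V)) := by
    rintro _ ⟨x, rfl⟩
    rw [Subgroup.mem_normalizer_iff]
    intro w
    constructor
    · rintro ⟨k, hk, rfl⟩
      rw [opHom_conj_ι]
      exact ⟨_, hconjJ x k hk, rfl⟩
    · rintro ⟨k, hk, hkw⟩
      have h1 : w = Sg x⁻¹ * t.ι k * (Sg x⁻¹)⁻¹ := by
        rw [hkw, map_inv]; group
      rw [h1, opHom_conj_ι]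
      exact ⟨_, hconjJ x⁻¹ k hk, rfl⟩
  -- covering of fixed points
  have hcover : J.map t.ι ⊓ Subgroup.centralizer ((Sg.range : Subgroup (Equiv.Perm ↥V)) :
      Set (Equiv.Perm ↥V)) ≤ K₀.map t.ι := by
    rintro _ ⟨⟨k, hk, rfl⟩, hcent⟩
    have hAD : X ≤ Subgroup.normalizer ((C.map K.subtype : Subgroup G) : Set G) :=
      hXK.trans (normalizer_le_normalizer_map_of_characteristic K C)
    have hcop : (Nat.card X).Coprime (Nat.card (C.map K.subtype : Subgroup G)) := by
      obtain ⟨n, hn⟩ := hXq.exists_card_eq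
      rw [hn]
      apply Nat.Coprime.pow_left
      rw [Nat.Prime.coprime_iff_not_dvd hqp]
      intro h
      apply hq
      rw [Subgroup.card_map_of_injective K.subtype_injective] at h
      exact h.trans (Subgroup.card_subgroup_dvd_card C)
    have hXcomm : ∀ a b : ↥X, a * b = b * a := fun a b =>
      Subtype.ext (ea_comm hX a.2 b.2)
    have hsolv : Group.IsSolvable ↥X ∨ Group.IsSolvable ↥(C.map K.subtype : Subgroup G) := by
      left
      exact Group.isSolvable_of_comm (fun a b => hXcomm a b)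
    have hfix : ∀ a ∈ X, (k : G)⁻¹ * (a * (k : G) * a⁻¹) ∈ (C.map K.subtype : Subgroup G) := by
      intro a ha
      have h1 := Subgroup.mem_centralizer_iff.mp hcent (Sg ⟨a, ha⟩) ⟨_, rfl⟩
      have h2 : Sg ⟨a, ha⟩ * t.ι k * (Sg ⟨a, ha⟩)⁻¹ = t.ι k := by
        rw [h1]; group
      rw [opHom_conj_ι] at h2
      have h3 : k⁻¹ * conjAut K a (hXK ha) k ∈ C := by
        rw [hC, ← t.ker_ι, MonoidHom.mem_ker, map_mul, map_inv, h2]
        group
      exact ⟨_, h3, rfl⟩
    obtain ⟨d, ⟨d', hd', rfl⟩, hd⟩ := exists_fixed_in_coset X (C.map K.subtype) hAD hcop hsolv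
      (k : G) hfix
    refine ⟨k * d', ?_, ?_⟩
    · apply hXK₀
      rw [Subgroup.mem_subgroupOf, Subgroup.mem_centralizer_iff]
      intro a ha
      exact hd a ha
    · have h4 : t.ι d' = 1 := by
        rw [← MonoidHom.mem_ker, t.ker_ι]
        exact hd'
      rw [map_mul, h4, mul_one]
  -- the Sylow subgroup
  have hTi : ¬ p ∣ (((S : Subgroup ↥K) ⊓ J).map t.ι).relIndex (J.map t.ι) := by
    intro h
    exact not_dvd_relIndex_inf_normal S J
      (h.trans (relIndex_map_dvd' t.ι _ J inf_le_right))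
  exact Cfsg.Agent.Lib.Helper10_FFCoprime.le_of_fixed_le amb hS3 hH1 hq' Sg.range hSgq hSgV hSgH
    (K₀.map t.ι) hcover (((S : Subgroup ↥K) ⊓ J).map t.ι) (Subgroup.map_mono inf_le_right)
    ((S.isPGroup'.to_le inf_le_left).map _) hTi (Subgroup.map_mono (inf_le_left.trans hSK₀))

end Cfsg.Agent.S0620
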