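import Cfsg.Statements.S0621
import Mathlib
import Cfsg.Agent.Lib.Helper10_FFTransport
import Cfsg.Agent.Lib.Helper10_Thompson
import Cfsg.Agent.Lib.Helper76_PSolvable
import Cfsg.Agent.Lib.Helper24_CoprimeAction
import Cfsg.Agent.Lib.Helper62_Blocks
import Cfsg.Agent.Lib.Helper62_XAct
import Cfsg.Agent.Lib.Helper62_XTransport
import Cfsg.Agent.S0600
import Cfsg.Agent.S0601
import Cfsg.Agent.S0602
import Cfsg.Agent.S0608

set_option autoImplicit false
set_option maxHeartbeats 800000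
open Cfsg

namespace Cfsg.Agent.S0621

open Cfsg.Agent.Lib.Helper10_FFTransport Cfsg.Agent.Lib.Helper62_Blocks
open Cfsg.Agent.Lib.Helper62_XAct Cfsg.Agent.Lib.Helper62_XTransport
open Cfsg.Agent.Lib.Helper62_Structure

/-- Let K be p-separable with O_p'(K) = 1, normalized by an elementary abelian q-group X for a prime q not dividing the order of K. If the Thompson factorization fails in K, then p is 2 or 3 and the fixed points of X contain a plane W of order p² and a subgroup inducing SL(2, p) on it. -/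
theorem result {G : Type*} [Group G] [Finite G] {p : ℕ} [Fact p.Prime] {q : ℕ} [Fact q.Prime] (K X : Subgroup G) (hXK : X ≤ Subgroup.normalizer (K : Set G)) (hX : Cfsg.IsElementaryAbelian q X) (hq : ¬ q ∣ Nat.card K) (hsep : Cfsg.IsPSolvable p ↥K) (hO : Cfsg.pPrimeCore p ↥K = ⊥) (hnf : ¬ Cfsg.IsThompsonFactorizable p ↥K) : (p = 2 ∨ p = 3) ∧ ∃ W D : Subgroup G, W ≤ K ⊓ Subgroup.centralizer (X : Set G) ∧ D ≤ K ⊓ Subgroup.centralizer (X : Set G) ∧ Cfsg.IsElementaryAbelian p W ∧ Nat.card W = p ^ 2 ∧ D ≤ Subgroup.normalizer (W : Set G) ∧ ∃ hn : ((Subgroup.centralizer (W : Set G)).subgroupOf D).Normal, Nonempty ((↥D ⧸ (Subgroup.centralizer (W : Set G)).subgroupOf D) ≃* Matrix.SpecialLinearGroup (Fin 2) (ZMod p)) := by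
  classical
  have hqp := (Fact.out : q.Prime)
  set V : Subgroup ↥K := ⨆ S : Sylow p ↥K, Cfsg.omegaOne p
    ((S : Subgroup ↥K) ⊓ Subgroup.centralizer ((S : Subgroup ↥K) : Set ↥K)) with hVdef
  have hc := Cfsg.Agent.Lib.Helper76_PSolvable.centralizer_pCore_le p hsep hO
  obtain ⟨hVn, hVea, -⟩ := Cfsg.Agent.S0601.result hc
  rw [← hVdef] at hVn hVea
  have := hVn
  have hgen : V = ⨆ S : Sylow p ↥K, V ⊓ Subgroup.centralizer ((S : Subgroup ↥K) : Set ↥K) := by
    apply le_antisymm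
    · apply iSup_le
      intro S
      have h0 : Cfsg.omegaOne p ((S : Subgroup ↥K) ⊓
          Subgroup.centralizer ((S : Subgroup ↥K) : Set ↥K)) ≤ V := by
        rw [hVdef]
        exact le_iSup (fun S : Sylow p ↥K => Cfsg.omegaOne p ((S : Subgroup ↥K) ⊓
          Subgroup.centralizer ((S : Subgroup ↥K) : Set ↥K))) S
      refine le_iSup_of_le S (le_inf h0 ?_)
      unfold Cfsg.omegaOne
      rw [Subgroup.closure_le]
      intro x hx
      exact hx.1.2
    · exact iSup_le fun S => inf_le_left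
  have hOp : Cfsg.pCore p (↥K ⧸ Subgroup.centralizer (V : Set ↥K)) = ⊥ :=
    Cfsg.Agent.S0600.result V hVea hgen
  have hJ : ¬ Cfsg.thompsonSubgroup p ↥K ≤ Subgroup.centralizer (V : Set ↥K) :=
    fun h => hnf ((Cfsg.Agent.S0608.result hO).mpr h)
  have hJchar : (Cfsg.thompsonSubgroup p ↥K).Characteristic := (Cfsg.Agent.S0602.result).1
  have hJn : (Cfsg.thompsonSubgroup p ↥K).Normal := Subgroup.normal_of_characteristic _
  let t := permFFT V
  have hH1 : (Cfsg.thompsonSubgroup p ↥K).map t.ι ≠ ⊥ := by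
    rw [Ne, t.map_eq_bot_iff]
    exact hJ
  have amb : Amb p t.j.range ((Cfsg.thompsonSubgroup p ↥K).map t.ι) :=
    ⟨t.elemAb hVea, t.le_normalizer _, t.faithful _, t.hS1 hsep hOp _⟩
  have hS3 := t.hS3 (p := p) hVea
  -- the action of `X`
  let α : ↥X →* MulAut ↥K := K.normalizerMonoidHom.comp (Subgroup.inclusion hXK)
  have hαcoe : ∀ (x : X) (k : K), ((α x k : K) : G) = (x : G) * k * (x : G)⁻¹ := fun _ _ => rfl
  have hαV : ∀ x, ∀ v ∈ V, α x v ∈ V := fun x => omegaZ_invariant (α x)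
  have hαJ : ∀ x, ∀ k ∈ Cfsg.thompsonSubgroup p ↥K, α x k ∈ Cfsg.thompsonSubgroup p ↥K := by
    intro x k hk
    have := Subgroup.characteristic_iff_map_eq.mp hJchar (α x)
    rw [← this]
    exact ⟨k, hk, rfl⟩
  let ρ := restrictPerm V α hαV
  have hX'V : ρ.range ≤ Subgroup.normalizer ((t.j.range : Subgroup (Equiv.Perm V)) : Set _) := by
    rintro _ ⟨x, rfl⟩
    apply mem_normalizer_of_conj_mem
    rintro _ ⟨v, rfl⟩
    rw [restrictPerm_conj_j]
    exact ⟨_, rfl⟩
  have hX'H : ρ.range ≤ Subgroup.normalizer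
      ((((Cfsg.thompsonSubgroup p ↥K).map t.ι : Subgroup (Equiv.Perm V))) : Set _) := by
    rintro _ ⟨x, rfl⟩
    apply mem_normalizer_of_conj_mem
    rintro _ ⟨k, hk, rfl⟩
    rw [restrictPerm_conj_ι]
    exact ⟨_, hαJ x k hk, rfl⟩
  have hXcomm : ∀ a b : X, a * b = b * a := fun a b => by
    have := hX.1
    exact mul_comm' a b
  have hX'c : ∀ a ∈ ρ.range, ∀ b ∈ ρ.range, a * b = b * a := by
    rintro _ ⟨x, rfl⟩ _ ⟨y, rfl⟩
    rw [← map_mul, ← map_mul, hXcomm]
  have hX'q : ∀ a ∈ ρ.range, a ^ q = 1 := by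
    rintro _ ⟨x, rfl⟩
    rw [← map_pow]
    have : x ^ q = 1 := Subtype.ext (by simpa using hX.2 x x.2)
    rw [this, map_one]
  have hqH : ¬ q ∣ Nat.card ((Cfsg.thompsonSubgroup p ↥K).map t.ι) := by
    intro h
    apply hq
    exact h.trans ((Subgroup.card_map_dvd _ _).trans (Subgroup.card_subgroup_dvd_card _))
  obtain ⟨hp23, W', D', blk, hcent⟩ :=
    exists_fixed_plane amb hS3 hH1 hX'V hX'H hX'c hqp hX'q hqH
  refine ⟨hp23, ?_⟩
  -- pulling back
  have hρcent : ∀ x : X, Cent W' D' (ρ x) := fun x => hcent _ ⟨x, rfl⟩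
  have hkerι : ∀ k : K, t.ι k = 1 ↔ k ∈ Subgroup.centralizer (V : Set ↥K) := by
    intro k
    rw [← MonoidHom.mem_ker, t.ker_ι]
  set WK : Subgroup ↥K := (W'.comap t.j).map V.subtype with hWK
  set W : Subgroup G := WK.map K.subtype with hW
  set D₀ : Subgroup ↥K := D'.comap t.ι with hD₀
  set D : Subgroup G := D₀.map K.subtype ⊓ Subgroup.centralizer (X : Set G) with hD
  have hWmem : ∀ w ∈ W, ∃ v : V, t.j v ∈ W' ∧ ((v : K) : G) = w := by
    rintro _ ⟨_, ⟨v, hv, rfl⟩, rfl⟩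
    exact ⟨v, hv, rfl⟩
  have hmemW : ∀ v : V, t.j v ∈ W' → ((v : K) : G) ∈ W := fun v hv => ⟨_, ⟨v, hv, rfl⟩, rfl⟩
  have hDK : D ≤ K := by
    rintro _ ⟨⟨k, -, rfl⟩, -⟩
    exact k.2
  have hDmem : ∀ d (hd : d ∈ D), t.ι ⟨d, hDK hd⟩ ∈ D' := by
    rintro _ ⟨⟨k, hk, rfl⟩, -⟩
    exact hk
  have hWX : W ≤ K ⊓ Subgroup.centralizer (X : Set G) := by
    intro w hw
    obtain ⟨v, hv, rfl⟩ := hWmem w hw
    refine Subgroup.mem_inf.mpr ⟨(v : K).2, ?_⟩
    rw [Subgroup.mem_centralizer_iff]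
    intro x hx
    have h1 := (hρcent ⟨x, hx⟩).1 (t.j v) hv
    rw [restrictPerm_conj_j] at h1
    have h2 := congrArg (fun u : V => ((u : K) : G)) (t.j_inj h1)
    simp only [hαcoe] at h2
    calc x * ((v : K) : G) = x * ((v : K) : G) * x⁻¹ * x := by group
      _ = ((v : K) : G) * x := by rw [h2]
  have hWea : Cfsg.IsElementaryAbelian p W := by
    apply Cfsg.Agent.Lib.Helper10_Thompson.isElementaryAbelian_of_forall
    · intro a ha b hb
      obtain ⟨u, -, rfl⟩ := hWmem a ha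
      obtain ⟨v, -, rfl⟩ := hWmem b hb
      have := Cfsg.Agent.Lib.Helper10_Thompson.ea_comm hVea u.2 v.2
      exact_mod_cast congrArg (fun k : K => (k : G)) this
    · intro a ha
      obtain ⟨u, -, rfl⟩ := hWmem a ha
      have := hVea.2 (u : K) u.2
      exact_mod_cast congrArg (fun k : K => (k : G)) this
  have hWcard : Nat.card W = p ^ 2 := by
    rw [hW, Subgroup.card_map_of_injective K.subtype_injective, hWK,
      Subgroup.card_map_of_injective V.subtype_injective, ← blk.card,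
      ← Subgroup.card_map_of_injective t.j_inj, Subgroup.map_comap_eq_self blk.hWV]
  have hDN : D ≤ Subgroup.normalizer (W : Set G) := by
    intro d hd
    apply mem_normalizer_of_conj_mem
    intro w hw
    obtain ⟨v, hv, rfl⟩ := hWmem w hw
    have hn := blk.norm (hDmem d hd)
    have h1 := (Subgroup.mem_normalizer_iff.mp hn (t.j v)).mp hv
    rw [t.conj'] at h1
    exact hmemW _ h1
  refine ⟨W, D, hWX, inf_le_inf_right _ (Subgroup.map_subtype_le _), hWea, hWcard, hDN, ?_⟩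
  -- the homomorphism `D → D'`
  let θ : ↥D →* ↥D' := (t.ι.comp (Subgroup.inclusion hDK)).codRestrict D'
    (fun d => hDmem d d.2)
  have hθ : ∀ d : D, ((θ d : D') : Equiv.Perm V) = t.ι ⟨d, hDK d.2⟩ := fun _ => rfl
  -- `C_K(V)` inside `G`
  set CG : Subgroup G := (Subgroup.centralizer (V : Set ↥K)).map K.subtype with hCG
  have hXCG : X ≤ Subgroup.normalizer (CG : Set G) := by
    intro x hx
    apply mem_normalizer_of_conj_mem
    rintro _ ⟨c, hc, rfl⟩
    refine ⟨α ⟨x, hx⟩ c, (hkerι _).mp ?_, rfl⟩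
    rw [← restrictPerm_conj_ι V α hαV, (hkerι c).mpr hc]
    group
  have hcop : (Nat.card X).Coprime (Nat.card CG) := by
    have hXp : IsPGroup q X := by
      intro x
      refine ⟨1, ?_⟩
      rw [pow_one]
      exact Subtype.ext (by simpa using hX.2 x x.2)
    obtain ⟨n, hn⟩ := IsPGroup.iff_card.mp hXp
    rw [hn]
    apply Nat.Coprime.pow_left
    rw [Nat.Prime.coprime_iff_not_dvd hqp]
    intro h
    apply hq
    refine h.trans ?_
    rw [hCG, Subgroup.card_map_of_injective K.subtype_injective]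
    exact Subgroup.card_subgroup_dvd_card _
  have hXsolv : Group.IsSolvable X := by
    have := hX.1
    exact Group.isSolvable_of_comm (fun a b => mul_comm' a b)
  have hsurj : Function.Surjective θ := by
    rintro ⟨δ, hδ⟩
    obtain ⟨k, hkJ, hkδ⟩ := blk.hEH hδ
    have hfix : ∀ a ∈ X, (k : G)⁻¹ * (a * (k : G) * a⁻¹) ∈ CG := by
      intro a ha
      refine ⟨k⁻¹ * α ⟨a, ha⟩ k, (hkerι _).mp ?_, rfl⟩
      rw [map_mul, map_inv, ← restrictPerm_conj_ι V α hαV, hkδ,
        (hρcent ⟨a, ha⟩).2 δ hδ, inv_mul_cancel]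
    obtain ⟨_, ⟨c, hc, rfl⟩, hcomm⟩ :=
      Cfsg.Agent.Lib.Helper24_CoprimeAction.exists_fixed_in_coset X CG hXCG hcop (Or.inl hXsolv)
        (k : G) hfix
    have hιkc : t.ι (k * c) = δ := by
      rw [map_mul, (hkerι c).mpr hc, mul_one, hkδ]
    have hkcD : ((k * c : K) : G) ∈ D := by
      refine Subgroup.mem_inf.mpr ⟨⟨k * c, ?_, rfl⟩, ?_⟩
      · show t.ι (k * c) ∈ D'
        rw [hιkc]
        exact hδ
      · rw [Subgroup.mem_centralizer_iff]
        intro a ha
        exact hcomm a ha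
    refine ⟨⟨_, hkcD⟩, ?_⟩
    apply Subtype.ext
    rw [hθ]
    exact hιkc
  have hker : θ.ker = (Subgroup.centralizer (W : Set G)).subgroupOf D := by
    ext d
    rw [MonoidHom.mem_ker, Subgroup.mem_subgroupOf, Subtype.ext_iff, hθ, Subgroup.coe_one, hkerι]
    constructor
    · intro h
      rw [Subgroup.mem_centralizer_iff]
      intro w hw
      obtain ⟨v, -, rfl⟩ := hWmem w hw
      have := (Subgroup.mem_centralizer_iff.mp h) (v : K) v.2
      exact congrArg (fun k : K => (k : G)) this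
    · intro h
      rw [← hkerι]
      have hmem : t.ι ⟨d, hDK d.2⟩ ∈ D' ⊓ Subgroup.centralizer (W' : Set (Equiv.Perm V)) := by
        refine Subgroup.mem_inf.mpr ⟨hDmem d d.2, ?_⟩
        rw [Subgroup.mem_centralizer_iff]
        intro w' hw'
        obtain ⟨v, rfl⟩ := blk.hWV hw'
        have h1 := (Subgroup.mem_centralizer_iff.mp h) _ (hmemW v hw')
        have h2 : t.ι ⟨d, hDK d.2⟩ * t.j v * (t.ι ⟨d, hDK d.2⟩)⁻¹ = t.j v := by
          rw [t.conj']
          congr 1
          apply Subtype.ext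
          apply Subtype.ext
          show (d : G) * ((v : K) : G) * (d : G)⁻¹ = ((v : K) : G)
          rw [← h1]
          group
        calc t.j v * t.ι ⟨d, hDK d.2⟩
            = t.ι ⟨d, hDK d.2⟩ * t.j v * (t.ι ⟨d, hDK d.2⟩)⁻¹ * t.ι ⟨d, hDK d.2⟩ := by rw [h2]
          _ = t.ι ⟨d, hDK d.2⟩ * t.j v := by group
      rw [blk.faith, Subgroup.mem_bot] at hmem
      exact hmem
  have hn : ((Subgroup.centralizer (W : Set G)).subgroupOf D).Normal := hker ▸ θ.normal_ker
  refine ⟨hn, ⟨?_⟩⟩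
  exact (QuotientGroup.quotientMulEquivOfEq hker.symm).trans
    ((QuotientGroup.quotientKerEquivOfSurjective θ hsurj).trans blk.iso.some)

end Cfsg.Agent.S0621
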