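import Cfsg.Statements.S0628
import Cfsg.Agent.S2005
import Cfsg.Agent.S0622
import Cfsg.Agent.S0624
import Cfsg.Agent.S0626
import Cfsg.Agent.Lib.Helper72_ThompsonTerminal

set_option autoImplicit false
universe u
open Cfsg

namespace Cfsg.Agent.S0628

open Cfsg.Agent.Lib.Helper35_FrobeniusNPC

/-- `W(S)`, the stable normal closure, is a characteristic `p`-functor. -/
theorem isCharPFunctor_W (p : ℕ) [Fact p.Prime] :
    Cfsg.IsCharPFunctor.{u} p (fun (Q : Type u) [Group Q] => Cfsg.stableNormalClosure p Q) := by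
  refine ⟨?_, ?_⟩
  · intro Q _ _ hQ hnt
    exact (Cfsg.Agent.S0622.result hQ).2.2.2.1 hnt
  · intro Q R _ _ _ _ φ
    exact Cfsg.Agent.S0622.stableNormalClosure_map φ p

/-- If `X / O_p(X)` has a normal `p`-complement and a Sylow `p`-subgroup of `X` is a maximal
subgroup (`p` odd), then the Sylow `2`-subgroups of `X` are abelian. -/
theorem sylow_two_comm {X : Type*} [Group X] [Finite X] {p : ℕ} [Fact p.Prime] (hp : p ≠ 2)
    (hq : Cfsg.HasNormalPComplement p (X ⧸ Cfsg.pCore p X)) (T : Sylow p X)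
    (hco : IsCoatom (T : Subgroup X)) (D : Sylow 2 X) : IsMulCommutative D := by
  have hpp : p.Prime := Fact.out
  have hRn : (Cfsg.pCore p X).Normal := Cfsg.pCore_normal p X
  set R := Cfsg.pCore p X with hR
  have hRp : IsPGroup p R := Cfsg.Agent.Lib.Helper76_PSolvable.pCore_isPGroup p
  have hRT : R ≤ (T : Subgroup X) := hRp.le_sylow_of_normal T
  have hπ : Function.Surjective (QuotientGroup.mk' R) := QuotientGroup.mk'_surjective R
  have hker : ∀ x : X, QuotientGroup.mk' R x = 1 ↔ x ∈ R := by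
    intro x
    rw [← MonoidHom.mem_ker, QuotientGroup.ker_mk']
  rw [Cfsg.Agent.S0072.hasNPC_iff] at hq
  obtain ⟨Kbar, hKbn, hKbc, n, hKbi⟩ := hq
  -- `T̄` is a Sylow subgroup and a coatom of `X/R`
  let Tbar : Sylow p (X ⧸ R) := T.mapSurjective hπ
  have hTbar : (Tbar : Subgroup (X ⧸ R)) = (T : Subgroup X).map (QuotientGroup.mk' R) := rfl
  have hTbarco : IsCoatom (Tbar : Subgroup (X ⧸ R)) := by
    have hcomap : (Tbar : Subgroup (X ⧸ R)).comap (QuotientGroup.mk' R) = (T : Subgroup X) := by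
      rw [hTbar, Subgroup.comap_map_eq, QuotientGroup.ker_mk', sup_eq_left.mpr hRT]
    constructor
    · intro h
      apply hco.1
      rw [← hcomap, h, Subgroup.comap_top]
    · intro B hB
      have h1 : (T : Subgroup X) < B.comap (QuotientGroup.mk' R) := by
        rw [← hcomap]
        refine lt_of_le_of_ne (Subgroup.comap_mono hB.le) ?_
        intro h
        apply hB.ne
        rw [← Subgroup.map_comap_eq_self_of_surjective hπ (Tbar : Subgroup (X ⧸ R)),
          ← Subgroup.map_comap_eq_self_of_surjective hπ B, h]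
      have h2 := hco.2 _ h1
      rw [← Subgroup.map_comap_eq_self_of_surjective hπ B, h2, Subgroup.map_top_of_surjective _ hπ]
  have hKbcomm := Cfsg.Agent.Lib.Helper72_ThompsonTerminal.comm_of_coatom Kbar hKbc Tbar hTbarco
  -- `2`-elements of `X / R` lie in `K̄`
  have h2K : ∀ y : X ⧸ R, (∃ k : ℕ, y ^ 2 ^ k = 1) → y ∈ Kbar := by
    rintro y ⟨k, hk⟩
    have h1 : (QuotientGroup.mk' Kbar y) ^ 2 ^ k = 1 := by rw [← map_pow, hk, map_one]
    have h2 : (QuotientGroup.mk' Kbar y) ^ p ^ n = 1 := by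
      have : Nat.card ((X ⧸ R) ⧸ Kbar) = p ^ n := by
        rw [← Subgroup.index_eq_card]; exact hKbi
      rw [← this]; exact pow_card_eq_one'
    have h3 : orderOf (QuotientGroup.mk' Kbar y) ∣ Nat.gcd (2 ^ k) (p ^ n) :=
      Nat.dvd_gcd (orderOf_dvd_of_pow_eq_one h1) (orderOf_dvd_of_pow_eq_one h2)
    have hc : Nat.Coprime (2 ^ k) (p ^ n) :=
      Nat.Coprime.pow k n ((Nat.coprime_primes Nat.prime_two hpp).2 (Ne.symm hp))
    rw [hc.gcd_eq_one, Nat.dvd_one, orderOf_eq_one_iff] at h3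
    rwa [QuotientGroup.mk'_apply, QuotientGroup.eq_one_iff] at h3
  refine ⟨⟨?_⟩⟩
  rintro ⟨a, ha⟩ ⟨b, hb⟩
  apply Subtype.ext
  show a * b = b * a
  have h2el : ∀ x : X, x ∈ (D : Subgroup X) → ∃ k : ℕ, x ^ 2 ^ k = 1 := by
    intro x hx
    obtain ⟨k, hk⟩ := D.2 ⟨x, hx⟩
    exact ⟨k, congrArg Subtype.val hk⟩
  have haK : QuotientGroup.mk' R a ∈ Kbar := by
    apply h2K
    obtain ⟨k, hk⟩ := h2el a ha
    exact ⟨k, by rw [← map_pow, hk, map_one]⟩
  have hbK : QuotientGroup.mk' R b ∈ Kbar := by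
    apply h2K
    obtain ⟨k, hk⟩ := h2el b hb
    exact ⟨k, by rw [← map_pow, hk, map_one]⟩
  have hcomm := hKbcomm _ haK _ hbK
  -- the commutator lies in `R ⊓ D = ⊥`
  have hc1 : a * b * (b * a)⁻¹ ∈ R := by
    rw [← hker, map_mul, map_inv, map_mul, map_mul, hcomm, mul_inv_cancel]
  have hc2 : a * b * (b * a)⁻¹ ∈ (D : Subgroup X) :=
    mul_mem (mul_mem ha hb) (inv_mem (mul_mem hb ha))
  have hdisj : R ⊓ (D : Subgroup X) = ⊥ := by
    obtain ⟨k, hk⟩ := D.2.exists_card_eq
    obtain ⟨m, hm⟩ := hRp.exists_card_eq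
    have hc : (Nat.card R).Coprime (Nat.card (D : Subgroup X)) := by
      rw [hk, hm]
      exact Nat.Coprime.pow m k ((Nat.coprime_primes hpp Nat.prime_two).2 hp)
    exact (Subgroup.disjoint_of_coprime_natCard hc).eq_bot
  have hc3 : a * b * (b * a)⁻¹ ∈ R ⊓ (D : Subgroup X) := ⟨hc1, hc2⟩
  rw [hdisj, Subgroup.mem_bot] at hc3
  exact mul_inv_eq_one.1 hc3

/-- The normal p-complement Theorem of Thompson in the form with W(S): for odd p, G has a normal p-complement as soon as the normalizer of the characteristic subgroup W(S) of a Sylow p-subgroup S has one. -/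
theorem result {G : Type*} [Group G] [Finite G] {p : ℕ} [Fact p.Prime] (hp : p ≠ 2) (S : Sylow p G) (hN : Cfsg.HasNormalPComplement p ↥(Subgroup.normalizer (((Cfsg.stableNormalClosure p ↥(S : Subgroup G)).map (S : Subgroup G).subtype) : Set G))) : Cfsg.HasNormalPComplement p G := by
  refine Cfsg.Agent.S2005.result (fun (Q : Type _) [Group Q] => Cfsg.stableNormalClosure p Q)
    (isCharPFunctor_W p) S hN ?_
  intro K R hR hcen hq T hco
  have hab := sylow_two_comm hp hq T hco
  have hst := Cfsg.Agent.S0626.result hp hab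
  exact Cfsg.Agent.S0624.result hst hcen T

end Cfsg.Agent.S0628
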