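import Cfsg.Statements.S0629
import Cfsg.Agent.S0609
import Cfsg.Agent.Lib.Helper76_PSolvable
import Cfsg.Agent.Lib.Helper23_PConstrained
import Cfsg.Agent.Lib.Helper32_Cores
import Cfsg.Agent.Lib.Helper1_Cores
-- import your own Cfsg.Agent.* helpers here

set_option autoImplicit false
open Cfsg

namespace Cfsg.Agent.S0629

/-- Surjective images of `p`-solvable groups are `p`-solvable. -/
theorem isPSolvable_of_surjective {X Y : Type*} [Group X] [Group Y] (p : ℕ) [hp : Fact p.Prime]
    (f : X →* Y) (hf : Function.Surjective f)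
    (h : IsPSolvable p X) : IsPSolvable p Y := by
  obtain ⟨n, H, h0, hlast, hmono, hnormal, hfac⟩ := h
  refine ⟨n, fun i => (H i).map f, ?_, ?_, ?_, ?_, ?_⟩
  · simp only [h0, Subgroup.map_bot]
  · simp only [hlast]
    rw [← MonoidHom.range_eq_map, MonoidHom.range_eq_top]
    exact hf
  · intro i j hij
    exact Subgroup.map_mono (hmono hij)
  · intro i
    exact (hnormal i).map f hf
  · intro i
    have hAB : H i.castSucc ≤ H i.succ := hmono (Fin.castSucc_lt_succ).le
    have hAn : (H i.castSucc).Normal := hnormal _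
    have hdvd : ((H i.castSucc).map f).relIndex ((H i.succ).map f) ∣
        (H i.castSucc).relIndex (H i.succ) := by
      rw [Subgroup.relIndex_map_map]
      have h1 : H i.succ ⊔ f.ker = H i.succ ⊔ (H i.castSucc ⊔ f.ker) := by
        rw [← sup_assoc, sup_eq_left.mpr hAB]
      rw [h1, Subgroup.relIndex_sup_right]
      exact Subgroup.relIndex_dvd_of_le_left _ le_sup_left
    rcases hfac i with ⟨m, hm⟩ | hm
    · left
      rw [hm] at hdvd
      obtain ⟨k, _, hk⟩ := (Nat.dvd_prime_pow hp.out).mp hdvd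
      exact ⟨k, hk⟩
    · right
      exact Nat.Coprime.coprime_dvd_left hdvd hm

/-- `O_{p'}` of a normal subgroup lies in `O_{p'}` of the group. -/
theorem map_pPrimeCore_le_of_normal {X : Type*} [Group X] [Finite X] (p : ℕ) (K : Subgroup X)
    [K.Normal] : (pPrimeCore p ↥K).map K.subtype ≤ pPrimeCore p X := by
  have := Cfsg.Agent.Lib.Helper32_Cores.map_ordCore_le_of_normal
    (Cfsg.Agent.Lib.Helper32_Cores.coprimePred_ordClass p) K
  rwa [← Cfsg.Agent.Lib.Helper32_Cores.pPrimeCore_eq, ← Cfsg.Agent.Lib.Helper32_Cores.pPrimeCore_eq]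
    at this

/-- `O_p` of a normal subgroup lies in `O_p` of the group. -/
theorem map_pCore_le_of_normal {X : Type*} [Group X] [Finite X] (p : ℕ) [Fact p.Prime]
    (K : Subgroup X) [K.Normal] : (pCore p ↥K).map K.subtype ≤ pCore p X := by
  apply Cfsg.Agent.Lib.Helper1_Cores.le_pCore
  · exact ConjAct.normal_of_characteristic_of_normal
  · exact (Cfsg.Agent.Lib.Helper1_Cores.pCore_isPGroup p).map _

/-- A group in which the centralizer of a Sylow p-subgroup of O_{p',p}(G) is p-solvable is p-constrained. -/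
theorem result {G : Type*} [Group G] [Finite G] {p : ℕ} [Fact p.Prime] (P : Sylow p ↥(Cfsg.pPrimePCore p G)) (hsol : Cfsg.IsPSolvable p ↥(Subgroup.centralizer (((P : Subgroup ↥(Cfsg.pPrimePCore p G)).map (Cfsg.pPrimePCore p G).subtype : Subgroup G) : Set G))) : Cfsg.IsPConstrained p G := by
  rw [Cfsg.Agent.Lib.Helper23_PConstrained.isPConstrained_iff_centralizer_pCore_le]
  have hN : (Nat.card (pPrimeCore p G)).Coprime p :=
    Cfsg.Agent.Lib.Helper1_Cores.pPrimeCore_card_coprime p
  have hbot := Cfsg.Agent.Lib.Helper32_Cores.pPrimeCore_quotient_eq_bot (G := G) p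
  have hker : ∀ x : G, QuotientGroup.mk' (pPrimeCore p G) x = 1 ↔ x ∈ pPrimeCore p G := by
    intro x
    rw [QuotientGroup.mk'_apply, QuotientGroup.eq_one_iff]
  have hPmap := Cfsg.Agent.Lib.Helper23_PConstrained.sylow_pPrimePCore_map p P
  set P' : Subgroup G := (P : Subgroup ↥(pPrimePCore p G)).map (pPrimePCore p G).subtype with hP'
  have hP'p : IsPGroup p P' := P.2.map _
  set C : Subgroup G := Subgroup.centralizer (P' : Set G) with hC
  -- the centralizer of `O_p(G/N)` is the image of `C`
  have hK : Subgroup.centralizer (pCore p (G ⧸ pPrimeCore p G) : Set (G ⧸ pPrimeCore p G)) =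
      C.map (QuotientGroup.mk' (pPrimeCore p G)) := by
    apply le_antisymm
    · intro xbar hxbar
      obtain ⟨x, rfl⟩ := QuotientGroup.mk'_surjective (pPrimeCore p G) xbar
      have hx : ∀ z ∈ P', x * z * x⁻¹ * z⁻¹ ∈ pPrimeCore p G := by
        intro z hz
        rw [← hker]
        have hz' : QuotientGroup.mk' (pPrimeCore p G) z ∈ pCore p (G ⧸ pPrimeCore p G) := by
          rw [← hPmap]; exact Subgroup.mem_map_of_mem _ hz
        have := Subgroup.mem_centralizer_iff.mp hxbar _ hz'
        rw [map_mul, map_mul, map_mul, map_inv, map_inv, ← this]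
        group
      obtain ⟨m, hm, hmx⟩ := Cfsg.Agent.S0609.exists_mul_mem_centralizer (pPrimeCore p G) hN P' hP'p x hx
      refine ⟨m * x, hmx, ?_⟩
      rw [map_mul, (hker m).mpr hm, one_mul]
    · rintro _ ⟨c, hc, rfl⟩
      rw [Subgroup.mem_centralizer_iff]
      intro ybar hybar
      rw [← hPmap] at hybar
      obtain ⟨z, hz, rfl⟩ := hybar
      rw [← map_mul, ← map_mul, Subgroup.mem_centralizer_iff.mp hc z hz]
  have hKn : (C.map (QuotientGroup.mk' (pPrimeCore p G))).Normal := by
    rw [← hK]; infer_instance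
  rw [hK]
  -- `K` is `p`-solvable with trivial `p'`-core
  have hKsol : IsPSolvable p ↥(C.map (QuotientGroup.mk' (pPrimeCore p G))) :=
    isPSolvable_of_surjective p ((QuotientGroup.mk' (pPrimeCore p G)).subgroupMap C)
      ((QuotientGroup.mk' (pPrimeCore p G)).subgroupMap_surjective C) hsol
  have hKcore : pPrimeCore p ↥(C.map (QuotientGroup.mk' (pPrimeCore p G))) = ⊥ := by
    have h1 := map_pPrimeCore_le_of_normal p (C.map (QuotientGroup.mk' (pPrimeCore p G)))
    rw [hbot, le_bot_iff] at h1
    exact (Subgroup.map_eq_bot_iff_of_injective _ (Subgroup.subtype_injective _)).mp h1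
  have hHH := Cfsg.Agent.Lib.Helper76_PSolvable.centralizer_pCore_le p hKsol hKcore
  intro xbar hxbar
  have hx1 : (⟨xbar, hxbar⟩ : ↥(C.map (QuotientGroup.mk' (pPrimeCore p G)))) ∈
      Subgroup.centralizer (pCore p ↥(C.map (QuotientGroup.mk' (pPrimeCore p G))) : Set _) := by
    rw [Subgroup.mem_centralizer_iff]
    intro y hy
    apply Subtype.ext
    have hy' : (y : G ⧸ pPrimeCore p G) ∈ pCore p (G ⧸ pPrimeCore p G) :=
      map_pCore_le_of_normal p _ (Subgroup.mem_map_of_mem _ hy)
    have hxc : xbar ∈ Subgroup.centralizer (pCore p (G ⧸ pPrimeCore p G) : Set (G ⧸ pPrimeCore p G)) := by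
      rw [hK]; exact hxbar
    exact Subgroup.mem_centralizer_iff.mp hxc _ hy'
  have hx2 := hHH hx1
  exact map_pCore_le_of_normal p _ (Subgroup.mem_map_of_mem _ hx2)

end Cfsg.Agent.S0629
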