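import Cfsg.Statements.S0661
import Cfsg.Agent.S0609
import Cfsg.Agent.Lib.Helper23_CharP
import Cfsg.Agent.Lib.Helper32_Cores
import Cfsg.Agent.Lib.Helper32_Sylow
import Cfsg.Agent.Lib.Helper1_Cores
-- import your own Cfsg.Agent.* helpers here

set_option autoImplicit false
open Cfsg

namespace Cfsg.Agent.S0661

section general

variable {G : Type*} [Group G]

/-- order of the image divides the order -/
theorem orderOf_map_coprime {H : Type*} [Group H] (f : G →* H) {p : ℕ} {g : G}
    (h : (orderOf g).Coprime p) : (orderOf (f g)).Coprime p :=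
  Nat.Coprime.coprime_dvd_left (orderOf_map_dvd f g) h

/-- elements of a subgroup of order prime to `p` have order prime to `p` -/
theorem orderOf_coprime_of_mem [Finite G] {p : ℕ} {K : Subgroup G} (hK : (Nat.card K).Coprime p)
    {g : G} (hg : g ∈ K) : (orderOf g).Coprime p := by
  have h1 : orderOf (⟨g, hg⟩ : K) ∣ Nat.card K := orderOf_dvd_natCard _
  rw [Subgroup.orderOf_mk] at h1
  exact Nat.Coprime.coprime_dvd_left h1 hK

/-- The core of the argument: a normal `p'`-subgroup `X` of `N_G(P)` lies in `O_{p'}(G)` when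
`G / O_{p'}(G)` has characteristic `p`. -/
theorem le_pPrimeCore_of_normal_in_normalizer [Finite G] {p : ℕ} [Fact p.Prime]
    (hc : Subgroup.centralizer (pCore p (G ⧸ pPrimeCore p G) : Set (G ⧸ pPrimeCore p G)) ≤
      pCore p (G ⧸ pPrimeCore p G))
    (P : Subgroup G) (hP : IsPGroup p P) (X : Subgroup G)
    (hXH : X ≤ Subgroup.normalizer (P : Set G))
    (hXn : ∀ h ∈ Subgroup.normalizer (P : Set G), ∀ x ∈ X, h * x * h⁻¹ ∈ X)
    (hXc : (Nat.card X).Coprime p) : X ≤ pPrimeCore p G := by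
  have hN : (Nat.card (pPrimeCore p G)).Coprime p :=
    Cfsg.Agent.Lib.Helper1_Cores.pPrimeCore_card_coprime p
  have hker : ∀ x : G, QuotientGroup.mk' (pPrimeCore p G) x = 1 ↔ x ∈ pPrimeCore p G := by
    intro x
    rw [QuotientGroup.mk'_apply, QuotientGroup.eq_one_iff]
  have hchar : Cfsg.Agent.Lib.Helper49_CharP.IsCharP p (G ⧸ pPrimeCore p G) := hc
  have hRn : (pCore p (G ⧸ pPrimeCore p G)).Normal :=
    Cfsg.Agent.Lib.Helper49_CharP.pCoreNormal p _
  have hRp : IsPGroup p (pCore p (G ⧸ pPrimeCore p G)) :=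
    Cfsg.Agent.Lib.Helper49_CharP.pCore_isPGroup p _
  have hPX : P ⊓ X = ⊥ := Cfsg.Agent.Lib.Helper32_Sylow.inf_eq_bot_of_pgroup_of_coprime hP hXc
  intro g hg
  rw [← hker]
  have hgo : (orderOf g).Coprime p := orderOf_coprime_of_mem hXc hg
  have hgH : g ∈ Subgroup.normalizer (P : Set G) := hXH hg
  apply hchar.eq_one_of_coprime (orderOf_map_coprime _ hgo)
  intro qbar hqbar
  show QuotientGroup.mk' (pPrimeCore p G) g * qbar = qbar * QuotientGroup.mk' (pPrimeCore p G) g
  refine Cfsg.Agent.Lib.Helper23_CharP.pxq (pCore p (G ⧸ pPrimeCore p G))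
    (P.map (QuotientGroup.mk' (pPrimeCore p G))) hRp (hP.map _) ?_
    (QuotientGroup.mk' (pPrimeCore p G) g) (orderOf_map_coprime _ hgo) ?_ ?_ ?_ qbar hqbar
  · rw [Subgroup.normalizer_eq_top]; exact le_top
  · intro q hq
    exact hRn.conj_mem q hq _
  · rintro _ ⟨b, hb, rfl⟩
    -- `[g, b] ∈ X ∩ P = 1`
    have hbH : b ∈ Subgroup.normalizer (P : Set G) := Subgroup.le_normalizer hb
    have h1 : g * b * g⁻¹ * b⁻¹ ∈ X := by
      have := hXn b hbH g⁻¹ (X.inv_mem hg)
      have h2 := X.mul_mem hg this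
      have : g * (b * g⁻¹ * b⁻¹) = g * b * g⁻¹ * b⁻¹ := by group
      rwa [this] at h2
    have h2 : g * b * g⁻¹ * b⁻¹ ∈ P :=
      P.mul_mem ((Subgroup.mem_normalizer_iff.mp hgH b).mp hb) (P.inv_mem hb)
    have h3 : g * b * g⁻¹ * b⁻¹ ∈ P ⊓ X := ⟨h2, h1⟩
    rw [hPX, Subgroup.mem_bot] at h3
    have h4 : g * b = b * g := by
      have : g * b = (g * b * g⁻¹ * b⁻¹) * (b * g) := by group
      rw [this, h3, one_mul]
    rw [← map_mul, ← map_mul, h4]
  · intro qb hqb hqbP
    obtain ⟨q, rfl⟩ := QuotientGroup.mk'_surjective (pPrimeCore p G) qb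
    -- lift `q` to an element centralizing `P`
    have hq' : ∀ z ∈ P, q * z * q⁻¹ * z⁻¹ ∈ pPrimeCore p G := by
      intro z hz
      rw [← hker]
      have := hqbP _ (Subgroup.mem_map_of_mem (QuotientGroup.mk' (pPrimeCore p G)) hz)
      rw [map_mul, map_mul, map_mul, map_inv, map_inv, this]
      group
    obtain ⟨m, hm, hmq⟩ := Cfsg.Agent.S0609.exists_mul_mem_centralizer (pPrimeCore p G) hN P hP q hq'
    have hmqH : m * q ∈ Subgroup.normalizer (P : Set G) :=
      Subgroup.centralizer_le_normalizer _ hmq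
    have hπ : QuotientGroup.mk' (pPrimeCore p G) (m * q) = QuotientGroup.mk' (pPrimeCore p G) q := by
      rw [map_mul, (hker m).mpr hm, one_mul]
    -- the commutator `c = [g, m q]` lies in `X`, its image in `R̄`
    have h1 : g * (m * q) * g⁻¹ * (m * q)⁻¹ ∈ X := by
      have := hXn (m * q) hmqH g⁻¹ (X.inv_mem hg)
      have h2 := X.mul_mem hg this
      have : g * ((m * q) * g⁻¹ * (m * q)⁻¹) = g * (m * q) * g⁻¹ * (m * q)⁻¹ := by group
      rwa [this] at h2
    have h2 : QuotientGroup.mk' (pPrimeCore p G) (g * (m * q) * g⁻¹ * (m * q)⁻¹) ∈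
        pCore p (G ⧸ pPrimeCore p G) := by
      rw [map_mul, map_mul, map_inv, map_inv, map_mul, hπ]
      exact (pCore p (G ⧸ pPrimeCore p G)).mul_mem (hRn.conj_mem _ hqb _)
        ((pCore p (G ⧸ pPrimeCore p G)).inv_mem hqb)
    have h3 := Cfsg.Agent.Lib.Helper49_CharP.eq_one_of_coprime_of_mem hRp h2
      (orderOf_map_coprime _ (orderOf_coprime_of_mem hXc h1))
    rw [map_mul, map_mul, map_inv, map_inv, map_mul, hπ] at h3
    -- x q x⁻¹ q⁻¹ = 1
    have h4 := mul_inv_eq_one.mp h3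
    exact mul_inv_eq_iff_eq_mul.mp h4

end general

/-- If, modulo the largest normal subgroup of order prime to p, the largest normal p-subgroup contains its centralizer, then for every p-subgroup P the p'-core of N_G(P) is just O_p'(G) ∩ N_G(P). -/
theorem result {G : Type*} [Group G] [Finite G] {p : ℕ} [Fact p.Prime] (hc : Subgroup.centralizer (Cfsg.pCore p (G ⧸ Cfsg.pPrimeCore p G) : Set (G ⧸ Cfsg.pPrimeCore p G)) ≤ Cfsg.pCore p (G ⧸ Cfsg.pPrimeCore p G)) (P : Subgroup G) (hP : IsPGroup p P) : (Cfsg.pPrimeCore p ↥(Subgroup.normalizer (P : Set G))).map (Subgroup.normalizer (P : Set G)).subtype = Cfsg.pPrimeCore p G ⊓ Subgroup.normalizer (P : Set G) := by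
  have hN : (Nat.card (pPrimeCore p G)).Coprime p :=
    Cfsg.Agent.Lib.Helper1_Cores.pPrimeCore_card_coprime p
  apply le_antisymm
  · apply le_inf _ (Subgroup.map_subtype_le _)
    apply le_pPrimeCore_of_normal_in_normalizer hc P hP _ (Subgroup.map_subtype_le _)
    · rintro h hh _ ⟨x, hx, rfl⟩
      refine ⟨⟨h, hh⟩ * x * ⟨h, hh⟩⁻¹, ?_, rfl⟩
      exact (inferInstance : (pPrimeCore p ↥(Subgroup.normalizer (P : Set G))).Normal).conj_mem x hx _
    · rw [Subgroup.card_map_of_injective (Subgroup.subtype_injective _)]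
      exact Cfsg.Agent.Lib.Helper1_Cores.pPrimeCore_card_coprime p
  · intro g hg
    obtain ⟨hgN, hgH⟩ := Subgroup.mem_inf.mp hg
    have hle : (pPrimeCore p G).subgroupOf (Subgroup.normalizer (P : Set G)) ≤
        pPrimeCore p ↥(Subgroup.normalizer (P : Set G)) := by
      apply Cfsg.Agent.Lib.Helper32_Cores.le_pPrimeCore inferInstance
      have h1 : Nat.card ((pPrimeCore p G).subgroupOf (Subgroup.normalizer (P : Set G))) ∣
          Nat.card (pPrimeCore p G) := by
        rw [← Subgroup.inf_subgroupOf_right,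
          Nat.card_congr (Subgroup.subgroupOfEquivOfLe
            (inf_le_right : pPrimeCore p G ⊓ Subgroup.normalizer (P : Set G) ≤ _)).toEquiv]
        exact Subgroup.card_dvd_of_le inf_le_left
      exact Nat.Coprime.coprime_dvd_left h1 hN
    exact ⟨⟨g, hgH⟩, hle (by rw [Subgroup.mem_subgroupOf]; exact hgN), rfl⟩

end Cfsg.Agent.S0661
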