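import Cfsg.Statements.S0631
import Cfsg.Agent.S0661
import Cfsg.Agent.S0609
import Cfsg.Agent.Lib.Helper23_CharP
import Cfsg.Agent.Lib.Helper23_PConstrained
import Cfsg.Agent.Lib.Helper32_Cores
import Cfsg.Agent.Lib.Helper1_Cores
-- import your own Cfsg.Agent.* helpers here

set_option autoImplicit false
open Cfsg
open Cfsg.Agent.Lib.Helper34_Sylow

namespace Cfsg.Agent.S0631

section general

variable {G : Type*} [Group G]

/-- `O_{p'}(G) ∩ H ≤ O_{p'}(H)` -/
theorem subgroupOf_le_pPrimeCore [Finite G] (p : ℕ) (H : Subgroup G) :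
    (pPrimeCore p G).subgroupOf H ≤ pPrimeCore p ↥H := by
  have hN : (Nat.card (pPrimeCore p G)).Coprime p :=
    Cfsg.Agent.Lib.Helper1_Cores.pPrimeCore_card_coprime p
  apply Cfsg.Agent.Lib.Helper32_Cores.le_pPrimeCore inferInstance
  have h1 : Nat.card ((pPrimeCore p G).subgroupOf H) ∣ Nat.card (pPrimeCore p G) := by
    rw [← Subgroup.inf_subgroupOf_right,
      Nat.card_congr (Subgroup.subgroupOfEquivOfLe
        (inf_le_right : pPrimeCore p G ⊓ H ≤ _)).toEquiv]
    exact Subgroup.card_dvd_of_le inf_le_left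
  exact Nat.Coprime.coprime_dvd_left h1 hN

/-- If `O_{p'}(H) = O_{p'}(G) ∩ H` and the image of `H` in `G / O_{p'}(G)` has characteristic `p`,
then `H` is `p`-constrained. -/
theorem isPConstrained_of_image [Finite G] (p : ℕ) [Fact p.Prime] (H : Subgroup G)
    (hcore : pPrimeCore p ↥H ≤ (pPrimeCore p G).subgroupOf H)
    (Hbar : Subgroup (G ⧸ pPrimeCore p G))
    (hHbar : H.map (QuotientGroup.mk' (pPrimeCore p G)) = Hbar)
    (hchar : Cfsg.Agent.Lib.Helper49_CharP.IsCharP p ↥Hbar) : IsPConstrained p ↥H := by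
  subst hHbar
  rw [Cfsg.Agent.Lib.Helper23_PConstrained.isPConstrained_iff_centralizer_pCore_le]
  have hcore' : pPrimeCore p ↥H = (pPrimeCore p G).subgroupOf H :=
    le_antisymm hcore (subgroupOf_le_pPrimeCore p H)
  set f := (QuotientGroup.mk' (pPrimeCore p G)).subgroupMap H with hf
  have hfs : Function.Surjective f := (QuotientGroup.mk' (pPrimeCore p G)).subgroupMap_surjective H
  have hker : pPrimeCore p ↥H = f.ker := by
    rw [hcore']
    ext x
    rw [Subgroup.mem_subgroupOf, MonoidHom.mem_ker]
    constructor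
    · intro hx
      apply Subtype.ext
      show QuotientGroup.mk' (pPrimeCore p G) (x : G) = 1
      rw [QuotientGroup.mk'_apply, QuotientGroup.eq_one_iff]
      exact hx
    · intro hx
      have h1 : QuotientGroup.mk' (pPrimeCore p G) (x : G) = 1 := congrArg Subtype.val hx
      rwa [QuotientGroup.mk'_apply, QuotientGroup.eq_one_iff] at h1
  have e : (↥H ⧸ pPrimeCore p ↥H) ≃* ↥(H.map (QuotientGroup.mk' (pPrimeCore p G))) :=
    (QuotientGroup.quotientMulEquivOfEq hker).trans (QuotientGroup.quotientKerEquivOfSurjective f hfs)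
  exact hchar.of_mulEquiv e.symm

end general

/-- In a p-constrained group the normalizer and the centralizer of any p-subgroup are again p-constrained. -/
theorem result {G : Type*} [Group G] [Finite G] {p : ℕ} [Fact p.Prime] (hG : Cfsg.IsPConstrained p G) (P : Subgroup G) (hP : IsPGroup p P) : Cfsg.IsPConstrained p ↥(Subgroup.normalizer (P : Set G)) ∧ Cfsg.IsPConstrained p ↥(Subgroup.centralizer (P : Set G)) := by
  have hc := (Cfsg.Agent.Lib.Helper23_PConstrained.isPConstrained_iff_centralizer_pCore_le p).mp hG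
  have hchar : Cfsg.Agent.Lib.Helper49_CharP.IsCharP p (G ⧸ pPrimeCore p G) := hc
  have hN : (Nat.card (pPrimeCore p G)).Coprime p :=
    Cfsg.Agent.Lib.Helper1_Cores.pPrimeCore_card_coprime p
  have hker : ∀ x : G, QuotientGroup.mk' (pPrimeCore p G) x = 1 ↔ x ∈ pPrimeCore p G := by
    intro x
    rw [QuotientGroup.mk'_apply, QuotientGroup.eq_one_iff]
  set Pbar : Subgroup (G ⧸ pPrimeCore p G) := P.map (QuotientGroup.mk' (pPrimeCore p G)) with hPbar_def
  have hPbar : IsPGroup p Pbar := hP.map _
  -- the image of the normalizer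
  have hNmap : (Subgroup.normalizer (P : Set G)).map (QuotientGroup.mk' (pPrimeCore p G)) =
      Subgroup.normalizer (Pbar : Set (G ⧸ pPrimeCore p G)) := by
    apply le_antisymm (Subgroup.le_normalizer_map _)
    intro nbar hnbar
    obtain ⟨n, rfl⟩ := QuotientGroup.mk'_surjective (pPrimeCore p G) nbar
    have hn' : cj n P ≤ P ⊔ pPrimeCore p G := by
      rintro _ ⟨j, hj, rfl⟩
      have h1 : QuotientGroup.mk' (pPrimeCore p G) ((MulAut.conj n).toMonoidHom j) ∈
          P.map (QuotientGroup.mk' (pPrimeCore p G)) := by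
        have := (Subgroup.mem_normalizer_iff.mp hnbar _).mp (Subgroup.mem_map_of_mem
          (QuotientGroup.mk' (pPrimeCore p G)) hj)
        simpa [MulAut.conj_apply] using this
      rw [← Subgroup.mem_comap, Subgroup.comap_map_eq, QuotientGroup.ker_mk'] at h1
      exact h1
    obtain ⟨m, hm, hmn⟩ := Cfsg.Agent.S0609.exists_mul_mem_normalizer (pPrimeCore p G) hN P hP n hn'
    refine ⟨m * n, hmn, ?_⟩
    rw [map_mul, (hker m).mpr hm, one_mul]
  -- the image of the centralizer
  have hCmap : (Subgroup.centralizer (P : Set G)).map (QuotientGroup.mk' (pPrimeCore p G)) =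
      Subgroup.centralizer (Pbar : Set (G ⧸ pPrimeCore p G)) := by
    apply le_antisymm
    · rintro _ ⟨c, hc, rfl⟩
      rw [Subgroup.mem_centralizer_iff]
      rintro _ ⟨z, hz, rfl⟩
      rw [← map_mul, ← map_mul, Subgroup.mem_centralizer_iff.mp hc z hz]
    · intro cbar hcbar
      obtain ⟨c, rfl⟩ := QuotientGroup.mk'_surjective (pPrimeCore p G) cbar
      have hc' : ∀ z ∈ P, c * z * c⁻¹ * z⁻¹ ∈ pPrimeCore p G := by
        intro z hz
        rw [← hker]
        have := Subgroup.mem_centralizer_iff.mp hcbar _ (Subgroup.mem_map_of_mem _ hz)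
        rw [map_mul, map_mul, map_mul, map_inv, map_inv, ← this]
        group
      obtain ⟨m, hm, hmc⟩ := Cfsg.Agent.S0609.exists_mul_mem_centralizer (pPrimeCore p G) hN P hP c hc'
      refine ⟨m * c, hmc, ?_⟩
      rw [map_mul, (hker m).mpr hm, one_mul]
  have hcharN := Cfsg.Agent.Lib.Helper23_CharP.IsCharP.normalizer hchar Pbar hPbar
  constructor
  · apply isPConstrained_of_image p _ _ _ hNmap hcharN
    -- `O_{p'}(N_G(P)) ≤ O_{p'}(G)`
    intro x hx
    rw [Subgroup.mem_subgroupOf]
    have h1 := Cfsg.Agent.S0661.result hc P hP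
    have h2 : (x : G) ∈ (pPrimeCore p ↥(Subgroup.normalizer (P : Set G))).map
        (Subgroup.normalizer (P : Set G)).subtype := ⟨x, hx, rfl⟩
    rw [h1] at h2
    exact h2.1
  · have hcharC : Cfsg.Agent.Lib.Helper49_CharP.IsCharP p
        ↥(Subgroup.centralizer (Pbar : Set (G ⧸ pPrimeCore p G))) := by
      have h1 := hcharN.of_normal
        ((Subgroup.centralizer (Pbar : Set (G ⧸ pPrimeCore p G))).subgroupOf
          (Subgroup.normalizer (Pbar : Set (G ⧸ pPrimeCore p G))))
      exact h1.of_mulEquiv (Subgroup.subgroupOfEquivOfLe (Subgroup.centralizer_le_normalizer _))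
    apply isPConstrained_of_image p _ _ _ hCmap hcharC
    -- `O_{p'}(C_G(P)) ≤ O_{p'}(G)`
    set C := Subgroup.centralizer (P : Set G) with hC
    intro x hx
    rw [Subgroup.mem_subgroupOf]
    have hXn' : (pPrimeCore p ↥C).Normal := inferInstance
    have hle := Cfsg.Agent.S0661.le_pPrimeCore_of_normal_in_normalizer hc P hP
      ((pPrimeCore p ↥C).map C.subtype)
      ((Subgroup.map_subtype_le _).trans (Subgroup.centralizer_le_normalizer _)) ?_ ?_
    · exact hle ⟨x, hx, rfl⟩
    · -- invariance under `N_G(P)`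
      rintro h hh _ ⟨y, hy, rfl⟩
      -- conjugation by `h` preserves `C`
      have hconjC : ∀ c ∈ C, h * c * h⁻¹ ∈ C := by
        intro c hcC
        rw [hC, Subgroup.mem_centralizer_iff]
        intro z hz
        have hz' : h⁻¹ * z * h ∈ P := by
          have := (Subgroup.mem_normalizer_iff.mp (Subgroup.inv_mem _ hh) z).mp hz
          simpa using this
        have h3 := Subgroup.mem_centralizer_iff.mp hcC _ hz'
        have : z * (h * c * h⁻¹) = h * ((h⁻¹ * z * h) * c) * h⁻¹ := by group
        rw [this, h3]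
        group
      have hconjC' : ∀ c ∈ C, h⁻¹ * c * h ∈ C := by
        intro c hcC
        rw [hC, Subgroup.mem_centralizer_iff]
        intro z hz
        have hz' : h * z * h⁻¹ ∈ P := (Subgroup.mem_normalizer_iff.mp hh z).mp hz
        have h3 := Subgroup.mem_centralizer_iff.mp hcC _ hz'
        have : z * (h⁻¹ * c * h) = h⁻¹ * ((h * z * h⁻¹) * c) * h := by group
        rw [this, h3]
        group
      -- the conjugate of `O_{p'}(C)` by `h` is a normal `p'`-subgroup of `C`
      let φ : ↥C ≃* ↥C :=
        { toFun := fun c => ⟨h * c * h⁻¹, hconjC c c.2⟩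
          invFun := fun c => ⟨h⁻¹ * c * h, hconjC' c c.2⟩
          left_inv := fun c => by apply Subtype.ext; simp only []; group
          right_inv := fun c => by apply Subtype.ext; simp only []; group
          map_mul' := fun c d => by apply Subtype.ext; simp only [Subgroup.coe_mul]; group }
      have hchr : (pPrimeCore p ↥C).Characteristic :=
        Cfsg.Agent.Lib.Helper32_Cores.pPrimeCore_characteristic p
      have h4 : φ y ∈ pPrimeCore p ↥C := by
        have := Subgroup.characteristic_iff_map_le.mp hchr φ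
        exact this (Subgroup.mem_map_of_mem _ hy)
      exact ⟨φ y, h4, rfl⟩
    · rw [Subgroup.card_map_of_injective (Subgroup.subtype_injective _)]
      exact Cfsg.Agent.Lib.Helper1_Cores.pPrimeCore_card_coprime p

end Cfsg.Agent.S0631
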