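import Cfsg.Statements.S0632
import Cfsg.Agent.Lib.Helper32_Cores
import Cfsg.Agent.Lib.Helper32_Sylow
import Cfsg.Agent.Lib.Helper1_Cores
import Cfsg.Agent.S0609
import Cfsg.Agent.S0630
-- import your own Cfsg.Agent.* helpers here

set_option autoImplicit false
open Cfsg

namespace Cfsg.Agent.S0632

open Cfsg.Agent.Lib.Helper34_Sylow
open scoped commutatorElement

universe u

/-- membership in `O_p` of a quotient `X ⧸ C`, read through a surjection with kernel `C` -/
theorem mem_pCore_iff_of_surjective {X Y : Type u} [Group X] [Group Y] (p : ℕ) [Fact p.Prime]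
    (ψ : X →* Y) (hψ : Function.Surjective ψ) (C : Subgroup X) [C.Normal] (hker : ψ.ker = C)
    (x : X) :
    QuotientGroup.mk' C x ∈ Cfsg.pCore p (X ⧸ C) ↔ ψ x ∈ Cfsg.pCore p Y := by
  let e : X ⧸ C ≃* Y :=
    (QuotientGroup.quotientMulEquivOfEq hker.symm).trans
      (QuotientGroup.quotientKerEquivOfSurjective ψ hψ)
  have he : e (QuotientGroup.mk' C x) = ψ x := by
    show (QuotientGroup.quotientKerEquivOfSurjective ψ hψ)
      ((QuotientGroup.quotientMulEquivOfEq hker.symm) (QuotientGroup.mk x)) = ψ x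
    rw [QuotientGroup.quotientMulEquivOfEq_mk]
    rfl
  rw [← he]
  constructor
  · intro h
    exact Cfsg.Agent.S0630.pCore_map_equiv_le p e (Subgroup.mem_map_of_mem _ h)
  · intro h
    have := Cfsg.Agent.S0630.pCore_map_equiv_le p e.symm (Subgroup.mem_map_of_mem _ h)
    simpa using this

section aut

variable {G : Type u} [Group G] [Finite G] {p : ℕ} [Fact p.Prime]

/-- the homomorphism `N_G(P₀) → N_Ḡ(P̄)` induced by the quotient map -/
noncomputable def normMap (K : Subgroup G) [K.Normal] (P₀ : Subgroup G) :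
    ↥(Subgroup.normalizer (P₀ : Set G)) →*
      ↥(Subgroup.normalizer ((P₀.map (QuotientGroup.mk' K) : Subgroup (G ⧸ K)) : Set (G ⧸ K))) :=
  ((QuotientGroup.mk' K).comp (Subgroup.normalizer (P₀ : Set G)).subtype).codRestrict _
    (fun x => Subgroup.le_normalizer_map (QuotientGroup.mk' K)
      (Subgroup.mem_map_of_mem _ x.2))

omit [Finite G] in
theorem normMap_coe (K : Subgroup G) [K.Normal] (P₀ : Subgroup G)
    (x : ↥(Subgroup.normalizer (P₀ : Set G))) :
    ((normMap K P₀ x : ↥(Subgroup.normalizer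
      ((P₀.map (QuotientGroup.mk' K) : Subgroup (G ⧸ K)) : Set (G ⧸ K)))) : G ⧸ K) =
      QuotientGroup.mk' K (x : G) := rfl

/-- the homomorphism `N_G(P₀) → N_Ḡ(P̄)/C_Ḡ(P̄)` -/
noncomputable def autMap (K : Subgroup G) [K.Normal] (P₀ : Subgroup G) :
    ↥(Subgroup.normalizer (P₀ : Set G)) →*
      ↥(Subgroup.normalizer ((P₀.map (QuotientGroup.mk' K) : Subgroup (G ⧸ K)) : Set (G ⧸ K))) ⧸
        (Subgroup.centralizer ((P₀.map (QuotientGroup.mk' K) : Subgroup (G ⧸ K)) :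
          Set (G ⧸ K))).subgroupOf
          (Subgroup.normalizer ((P₀.map (QuotientGroup.mk' K) : Subgroup (G ⧸ K)) : Set (G ⧸ K))) :=
  (QuotientGroup.mk' _).comp (normMap K P₀)

theorem autMap_surjective (K : Subgroup G) [hKn : K.Normal] (hK : (Nat.card K).Coprime p)
    (P₀ : Subgroup G) (hP₀ : IsPGroup p P₀) : Function.Surjective (autMap K P₀) := by
  intro z
  obtain ⟨⟨nb, hnb⟩, rfl⟩ := QuotientGroup.mk'_surjective _ z
  obtain ⟨g, rfl⟩ := QuotientGroup.mk'_surjective K nb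
  have hcj : cj g P₀ ≤ P₀ ⊔ K := by
    rintro _ ⟨x, hx, rfl⟩
    have h1 : QuotientGroup.mk' K (g * x * g⁻¹) ∈ P₀.map (QuotientGroup.mk' K) := by
      rw [map_mul, map_mul, map_inv]
      exact (Subgroup.mem_normalizer_iff.mp hnb _).mp ⟨x, hx, rfl⟩
    obtain ⟨w, hw, hwx⟩ := h1
    have hk : w⁻¹ * (g * x * g⁻¹) ∈ K := by
      rw [← QuotientGroup.ker_mk' K, MonoidHom.mem_ker, map_mul, map_inv, hwx, inv_mul_cancel]
    have e : (MulAut.conj g).toMonoidHom x = w * (w⁻¹ * (g * x * g⁻¹)) := by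
      simp [MulAut.conj_apply]
    rw [e]
    exact Subgroup.mul_mem_sup hw hk
  obtain ⟨m, hm, hmg⟩ := Cfsg.Agent.S0609.exists_mul_mem_normalizer K hK P₀ hP₀ g hcj
  refine ⟨⟨m * g, hmg⟩, ?_⟩
  show QuotientGroup.mk' _ (normMap K P₀ ⟨m * g, hmg⟩) = QuotientGroup.mk' _ ⟨_, hnb⟩
  congr 1
  apply Subtype.ext
  rw [normMap_coe]
  show QuotientGroup.mk' K (m * g) = QuotientGroup.mk' K g
  have hm1 : QuotientGroup.mk' K m = 1 := by
    rw [← MonoidHom.mem_ker, QuotientGroup.ker_mk']; exact hm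
  rw [map_mul, hm1, one_mul]

theorem autMap_ker (K : Subgroup G) [hKn : K.Normal] (hK : (Nat.card K).Coprime p)
    (P₀ : Subgroup G) (hP₀ : IsPGroup p P₀) :
    (autMap K P₀).ker =
      (Subgroup.centralizer (P₀ : Set G)).subgroupOf (Subgroup.normalizer (P₀ : Set G)) := by
  have hinf : P₀ ⊓ K = ⊥ := Cfsg.Agent.Lib.Helper32_Sylow.inf_eq_bot_of_pgroup_of_coprime hP₀ hK
  ext x
  rw [MonoidHom.mem_ker, Subgroup.mem_subgroupOf]
  show QuotientGroup.mk' _ (normMap K P₀ x) = 1 ↔ _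
  rw [← MonoidHom.mem_ker, QuotientGroup.ker_mk', Subgroup.mem_subgroupOf, normMap_coe]
  constructor
  · intro h
    rw [Subgroup.mem_centralizer_iff]
    intro z hz
    have h1 : (x : G) * z * (x : G)⁻¹ * z⁻¹ ∈ P₀ :=
      P₀.mul_mem ((Subgroup.mem_normalizer_iff.mp x.2 z).mp hz) (P₀.inv_mem hz)
    have h2 : (x : G) * z * (x : G)⁻¹ * z⁻¹ ∈ K := by
      rw [← QuotientGroup.ker_mk' K, MonoidHom.mem_ker, map_mul, map_mul, map_mul, map_inv,
        map_inv]
      have := Subgroup.mem_centralizer_iff.mp h _ ⟨z, hz, rfl⟩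
      rw [← this, mul_inv_cancel_right, mul_inv_cancel]
    have h3 : (x : G) * z * (x : G)⁻¹ * z⁻¹ ∈ P₀ ⊓ K := ⟨h1, h2⟩
    rw [hinf, Subgroup.mem_bot] at h3
    have e : z * (x : G) = ((x : G) * z * (x : G)⁻¹ * z⁻¹)⁻¹ * ((x : G) * z) := by group
    rw [e, h3, inv_one, one_mul]
  · intro h
    rw [Subgroup.mem_centralizer_iff]
    rintro _ ⟨z, hz, rfl⟩
    rw [← map_mul, ← map_mul, Subgroup.mem_centralizer_iff.mp h z hz]

/-- the key transport: membership in `O_p(N_G(P₀)/C_G(P₀))` and in `O_p(N_Ḡ(P̄)/C_Ḡ(P̄))` -/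
theorem mem_pCore_aut_iff (K : Subgroup G) [hKn : K.Normal] (hK : (Nat.card K).Coprime p)
    (P₀ : Subgroup G) (hP₀ : IsPGroup p P₀) (x : ↥(Subgroup.normalizer (P₀ : Set G))) :
    QuotientGroup.mk' ((Subgroup.centralizer (P₀ : Set G)).subgroupOf
        (Subgroup.normalizer (P₀ : Set G))) x ∈ Cfsg.pCore p _ ↔
      autMap K P₀ x ∈ Cfsg.pCore p _ :=
  mem_pCore_iff_of_surjective p (autMap K P₀) (autMap_surjective K hK P₀ hP₀) _
    (autMap_ker K hK P₀ hP₀) x

end aut

/-- For a group with a nontrivial normal p-subgroup, p-stability passes to and from the quotient by the largest normal subgroup of order prime to p. -/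
theorem result {G : Type*} [Group G] [Finite G] {p : ℕ} [Fact p.Prime] (hO : Cfsg.pCore p G ≠ ⊥) : Cfsg.IsPStable p G ↔ Cfsg.IsPStable p (G ⧸ Cfsg.pPrimeCore p G) := by
  have hKcop : (Nat.card (Cfsg.pPrimeCore p G)).Coprime p :=
    Cfsg.Agent.Lib.Helper1_Cores.pPrimeCore_card_coprime p
  have hπsurj : Function.Surjective (QuotientGroup.mk' (Cfsg.pPrimeCore p G)) :=
    QuotientGroup.mk'_surjective _
  have hker : (QuotientGroup.mk' (Cfsg.pPrimeCore p G)).ker = Cfsg.pPrimeCore p G :=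
    QuotientGroup.ker_mk' _
  have hbot : Cfsg.pPrimeCore p (G ⧸ Cfsg.pPrimeCore p G) = ⊥ :=
    Cfsg.Agent.Lib.Helper32_Cores.pPrimeCore_quotient_eq_bot p
  constructor
  · -- from `G` to the quotient
    rintro ⟨hodd, _, hs⟩
    refine ⟨hodd, ?_, ?_⟩
    · -- `O_p` of the quotient is nontrivial
      intro h
      apply hO
      have h1 : (Cfsg.pCore p G).map (QuotientGroup.mk' (Cfsg.pPrimeCore p G)) ≤
          Cfsg.pCore p (G ⧸ Cfsg.pPrimeCore p G) :=
        Cfsg.Agent.Lib.Helper1_Cores.le_pCore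
          (Subgroup.Normal.map (Cfsg.Agent.Lib.Helper1_Cores.pCore_normal p) _ hπsurj)
          ((Cfsg.Agent.Lib.Helper1_Cores.pCore_isPGroup p).map _)
      rw [h, le_bot_iff, Subgroup.map_eq_bot_iff, hker] at h1
      have h2 := Cfsg.Agent.Lib.Helper32_Sylow.inf_eq_bot_of_pgroup_of_coprime
        (Cfsg.Agent.Lib.Helper1_Cores.pCore_isPGroup (G := G) p) hKcop
      rwa [inf_of_le_left h1] at h2
    · intro Ab Pb hAb hPb hnormb _ hPbn hqb
      rw [hbot, bot_sup_eq] at hPbn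
      obtain ⟨Sb, hSb⟩ := hAb.exists_le_sylow
      obtain ⟨S, rfl⟩ := Sylow.mapSurjective_surjective hπsurj p Sb
      rw [Sylow.coe_mapSurjective] at hSb
      have hPbS : Pb ≤ (S : Subgroup G).map (QuotientGroup.mk' (Cfsg.pPrimeCore p G)) := by
        have h1 : Pb ≤ Cfsg.pCore p (G ⧸ Cfsg.pPrimeCore p G) :=
          Cfsg.Agent.Lib.Helper1_Cores.le_pCore hPbn hPb
        have h2 := Cfsg.Agent.Lib.Helper1_Cores.pCore_le_sylow p (S.mapSurjective hπsurj)
        rw [Sylow.coe_mapSurjective] at h2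
        exact h1.trans h2
      set π := QuotientGroup.mk' (Cfsg.pPrimeCore p G) with hπ
      have hmap_of : ∀ Xb : Subgroup (G ⧸ Cfsg.pPrimeCore p G), Xb ≤ (S : Subgroup G).map π →
          ((S : Subgroup G) ⊓ Xb.comap π).map π = Xb := by
        intro Xb hXb
        apply le_antisymm
        · rintro _ ⟨x, hx, rfl⟩
          exact hx.2
        · intro b hb
          obtain ⟨x, hx, rfl⟩ := hXb hb
          exact ⟨x, ⟨hx, hb⟩, rfl⟩
      have hmapA := hmap_of Ab hSb
      have hmapP := hmap_of Pb hPbS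
      have hB₁n : (Pb.comap π).Normal := Subgroup.Normal.comap hPbn π
      have hP₀p : IsPGroup p ↥((S : Subgroup G) ⊓ Pb.comap π) := S.isPGroup'.to_le inf_le_left
      have hAp : IsPGroup p ↥((S : Subgroup G) ⊓ Ab.comap π) := S.isPGroup'.to_le inf_le_left
      have hP₀K : ((S : Subgroup G) ⊓ Pb.comap π) ⊓ Cfsg.pPrimeCore p G = ⊥ :=
        Cfsg.Agent.Lib.Helper32_Sylow.inf_eq_bot_of_pgroup_of_coprime hP₀p hKcop
      have hsup : Cfsg.pPrimeCore p G ⊔ ((S : Subgroup G) ⊓ Pb.comap π) = Pb.comap π := by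
        apply le_antisymm
        · apply sup_le
          · intro k hk
            show π k ∈ Pb
            have : π k = 1 := by rw [← MonoidHom.mem_ker, hker]; exact hk
            rw [this]; exact one_mem _
          · exact inf_le_right
        · intro x hx
          have hx' : π x ∈ ((S : Subgroup G) ⊓ Pb.comap π).map π := by rw [hmapP]; exact hx
          obtain ⟨y, hy, hxy⟩ := hx'
          have hk : x * y⁻¹ ∈ Cfsg.pPrimeCore p G := by
            rw [← hker, MonoidHom.mem_ker, map_mul, map_inv, hxy, mul_inv_cancel]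
          have e : x = (x * y⁻¹) * y := by group
          rw [e]
          exact Subgroup.mul_mem_sup hk hy
      have hP₀core : (S : Subgroup G) ⊓ Pb.comap π ≤ Cfsg.pPrimePCore p G := by
        intro x hx
        show π x ∈ Cfsg.pCore p (G ⧸ Cfsg.pPrimeCore p G)
        exact Cfsg.Agent.Lib.Helper1_Cores.le_pCore hPbn hPb hx.2
      have hAN : (S : Subgroup G) ⊓ Ab.comap π ≤
          Subgroup.normalizer ((((S : Subgroup G) ⊓ Pb.comap π : Subgroup G)) : Set G) := by
        intro a ha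
        have h1 : a ∈ Subgroup.normalizer ((S : Subgroup G) : Set G) := Subgroup.le_normalizer ha.1
        have h2 : a ∈ Subgroup.normalizer ((Pb.comap π : Subgroup G) : Set G) := by
          rw [Subgroup.normalizer_eq_top (Pb.comap π)]; exact Subgroup.mem_top a
        exact Subgroup.inf_normalizer_le_normalizer_inf ⟨h1, h2⟩
      have hnorm : ∀ a ∈ (S : Subgroup G) ⊓ Ab.comap π, ∀ y ∈ (S : Subgroup G) ⊓ Pb.comap π,
          a * y * a⁻¹ ∈ (S : Subgroup G) ⊓ Pb.comap π := fun a ha y hy =>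
        (Subgroup.mem_normalizer_iff.mp (hAN ha) y).mp hy
      have hcomm1 : ⁅(S : Subgroup G) ⊓ Pb.comap π, (S : Subgroup G) ⊓ Ab.comap π⁆ ≤
          (S : Subgroup G) ⊓ Pb.comap π := by
        rw [Subgroup.commutator_le]
        intro y hy z hz
        have h1 := hnorm z hz y⁻¹ (Subgroup.inv_mem _ hy)
        have e : ⁅y, z⁆ = y * (z * y⁻¹ * z⁻¹) := by rw [commutatorElement_def]; group
        rw [e]
        exact Subgroup.mul_mem _ hy h1
      have hq : ⁅⁅(S : Subgroup G) ⊓ Pb.comap π, (S : Subgroup G) ⊓ Ab.comap π⁆,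
          (S : Subgroup G) ⊓ Ab.comap π⁆ = ⊥ := by
        have h1 : ⁅⁅(S : Subgroup G) ⊓ Pb.comap π, (S : Subgroup G) ⊓ Ab.comap π⁆,
            (S : Subgroup G) ⊓ Ab.comap π⁆ ≤ (S : Subgroup G) ⊓ Pb.comap π :=
          (Subgroup.commutator_mono hcomm1 le_rfl).trans hcomm1
        have h2 : ⁅⁅(S : Subgroup G) ⊓ Pb.comap π, (S : Subgroup G) ⊓ Ab.comap π⁆,
            (S : Subgroup G) ⊓ Ab.comap π⁆ ≤ Cfsg.pPrimeCore p G := by
          have h3 : ⁅⁅(S : Subgroup G) ⊓ Pb.comap π, (S : Subgroup G) ⊓ Ab.comap π⁆,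
              (S : Subgroup G) ⊓ Ab.comap π⁆ ≤ π.ker := by
            rw [← Subgroup.map_eq_bot_iff, Subgroup.map_commutator, Subgroup.map_commutator,
              hmapP, hmapA]
            exact hqb
          rwa [hker] at h3
        rw [eq_bot_iff, ← hP₀K]
        exact le_inf h1 h2
      have hsupn : (Cfsg.pPrimeCore p G ⊔ ((S : Subgroup G) ⊓ Pb.comap π)).Normal := by
        rw [hsup]; exact hB₁n
      have key := hs ((S : Subgroup G) ⊓ Ab.comap π) ((S : Subgroup G) ⊓ Pb.comap π) hAp hP₀p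
        hnorm hP₀core hsupn hq
      -- generalize `Pb` to the image of `P₀`
      have main : ∀ Pb' : Subgroup (G ⧸ Cfsg.pPrimeCore p G),
          Pb' = ((S : Subgroup G) ⊓ Pb.comap π).map π →
          (Ab.subgroupOf (Subgroup.normalizer (Pb' : Set (G ⧸ Cfsg.pPrimeCore p G)))).map
            (QuotientGroup.mk' ((Subgroup.centralizer (Pb' : Set (G ⧸ Cfsg.pPrimeCore p G))).subgroupOf
              (Subgroup.normalizer (Pb' : Set (G ⧸ Cfsg.pPrimeCore p G))))) ≤ Cfsg.pCore p _ := by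
        intro Pb' hPb'
        subst hPb'
        rintro _ ⟨⟨ab, habN⟩, hab, rfl⟩
        have hab' : ab ∈ Ab := hab
        rw [← hmapA] at hab'
        obtain ⟨a, ha, rfl⟩ := hab'
        have h1 : QuotientGroup.mk' _ (⟨a, hAN ha⟩ : ↥(Subgroup.normalizer
            ((((S : Subgroup G) ⊓ Pb.comap π : Subgroup G)) : Set G))) ∈ Cfsg.pCore p _ :=
          key ⟨⟨a, hAN ha⟩, ha, rfl⟩
        have h2 := (mem_pCore_aut_iff (Cfsg.pPrimeCore p G) hKcop _ hP₀p ⟨a, hAN ha⟩).mp h1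
        exact h2
      exact main Pb hmapP.symm
  · -- from the quotient to `G`
    rintro ⟨hodd, _, hs⟩
    refine ⟨hodd, hO, ?_⟩
    intro A P₀ hA hP₀ hnorm _ hn hq
    set π := QuotientGroup.mk' (Cfsg.pPrimeCore p G) with hπ
    have hPbn : (P₀.map π).Normal := by
      have h1 := Subgroup.Normal.map hn π hπsurj
      rw [Subgroup.map_sup] at h1
      have h2 : (Cfsg.pPrimeCore p G).map π = ⊥ := by
        rw [Subgroup.map_eq_bot_iff, hker]
      rwa [h2, bot_sup_eq] at h1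
    have hnormb : ∀ a ∈ A.map π, ∀ x ∈ P₀.map π, a * x * a⁻¹ ∈ P₀.map π := by
      rintro _ ⟨a, ha, rfl⟩ _ ⟨x, hx, rfl⟩
      exact ⟨a * x * a⁻¹, hnorm a ha x hx, by simp⟩
    have hcoreb : P₀.map π ≤ Cfsg.pPrimePCore p (G ⧸ Cfsg.pPrimeCore p G) := by
      intro x hx
      show QuotientGroup.mk' _ x ∈ Cfsg.pCore p _
      have h1 : (P₀.map π).map (QuotientGroup.mk' (Cfsg.pPrimeCore p (G ⧸ Cfsg.pPrimeCore p G))) ≤
          Cfsg.pCore p _ :=
        Cfsg.Agent.Lib.Helper1_Cores.le_pCore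
          (Subgroup.Normal.map hPbn _ (QuotientGroup.mk'_surjective _))
          ((hP₀.map π).map _)
      exact h1 ⟨x, hx, rfl⟩
    have hnb : (Cfsg.pPrimeCore p (G ⧸ Cfsg.pPrimeCore p G) ⊔ P₀.map π).Normal := by
      rw [hbot, bot_sup_eq]; exact hPbn
    have hqb : ⁅⁅P₀.map π, A.map π⁆, A.map π⁆ = ⊥ := by
      rw [← Subgroup.map_commutator, ← Subgroup.map_commutator, hq, Subgroup.map_bot]
    have key := hs (A.map π) (P₀.map π) (hA.map π) (hP₀.map π) hnormb hcoreb hnb hqb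
    rintro _ ⟨⟨a, haN⟩, ha, rfl⟩
    rw [mem_pCore_aut_iff (Cfsg.pPrimeCore p G) hKcop P₀ hP₀ ⟨a, haN⟩]
    apply key
    refine ⟨normMap (Cfsg.pPrimeCore p G) P₀ ⟨a, haN⟩, ?_, rfl⟩
    show π a ∈ A.map π
    exact ⟨a, ha, rfl⟩

end Cfsg.Agent.S0632
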