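import Cfsg.Statements.S0642

set_option autoImplicit false
open Cfsg
open scoped commutatorElement

namespace Cfsg.Agent.S0642

/-- A nontrivial finite `p`-group has a normal subgroup of index `p`. -/
theorem exists_normal_index_p {K : Type*} [Group K] [Finite K] {p : ℕ} [hp : Fact p.Prime]
    (hK : IsPGroup p K) [Nontrivial K] : ∃ M : Subgroup K, M.Normal ∧ M.index = p := by
  obtain ⟨k, hk⟩ := hK.exists_card_eq
  have hk0 : k ≠ 0 := by
    rintro rfl
    rw [pow_zero] at hk
    have := Finite.one_lt_card (α := K)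
    omega
  obtain ⟨M, hM⟩ := Sylow.exists_subgroup_card_pow_prime (G := K) p (n := k - 1)
    (by rw [hk]; exact pow_dvd_pow p (Nat.sub_le k 1))
  have hidx : M.index = p := by
    have h1 := M.card_mul_index
    rw [hM, hk] at h1
    have h2 : p ^ k = p ^ (k - 1) * p := by
      rw [← pow_succ]; congr 1; omega
    rw [h2] at h1
    exact Nat.eq_of_mul_eq_mul_left (pow_pos hp.out.pos _) h1
  refine ⟨M, ?_, hidx⟩
  apply Subgroup.normal_of_index_eq_minFac_card
  rw [hidx, hk, Nat.Prime.pow_minFac hp.out hk0]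

/-- In a finite `p`-group, a subgroup contained in the subgroup generated by the `p`-th powers of
its elements is trivial. -/
theorem eq_bot_of_le_powerClosure {G : Type*} [Group G] [Finite G] {p : ℕ} [hp : Fact p.Prime]
    (hG : IsPGroup p G) (K : Subgroup G) (h : K ≤ Cfsg.powerClosure p 1 K) : K = ⊥ := by
  by_contra hne
  have : Nontrivial K := (Subgroup.nontrivial_iff_ne_bot K).mpr hne
  obtain ⟨M, hMn, hMi⟩ := exists_normal_index_p (hG.to_subgroup K)
  have h1 : Cfsg.powerClosure p 1 K ≤ M.map K.subtype := by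
    unfold Cfsg.powerClosure
    rw [Subgroup.closure_le]
    rintro y ⟨x, hx, rfl⟩
    have := M.pow_index_mem (⟨x, hx⟩ : K)
    rw [hMi] at this
    rw [pow_one]
    exact ⟨_, this, rfl⟩
  have h2 : K ≤ M.map K.subtype := h.trans h1
  have h3 : M = ⊤ := by
    rw [eq_top_iff]
    rintro ⟨x, hx⟩ -
    obtain ⟨y, hy, hyx⟩ := h2 hx
    have : y = ⟨x, hx⟩ := Subtype.ext hyx
    rw [← this]; exact hy
  rw [h3, Subgroup.index_top] at hMi
  exact hp.out.one_lt.ne hMi

/-- If the commutator of `a` and `b` lies in a subgroup `M` normalized by `⟨a, b⟩`, then the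
derived subgroup of `⟨a, b⟩` lies in `M`. -/
theorem commutator_closure_pair_le {G : Type*} [Group G] (a b : G) (M : Subgroup G)
    (hN : Subgroup.closure ({a, b} : Set G) ≤ Subgroup.normalizer (M : Set G))
    (hab : ⁅a, b⁆ ∈ M) :
    ⁅Subgroup.closure ({a, b} : Set G), Subgroup.closure ({a, b} : Set G)⁆ ≤ M := by
  rw [Subgroup.commutator_le]
  have conj_mem : ∀ x ∈ Subgroup.closure ({a, b} : Set G), ∀ m ∈ M, x * m * x⁻¹ ∈ M := by
    intro x hx m hm
    exact (Subgroup.mem_normalizer_iff.mp (hN hx) m).mp hm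
  intro x hx y hy
  induction hx, hy using Subgroup.closure_induction₂ with
  | mem x y hx hy =>
    have hba : ⁅b, a⁆ ∈ M := by
      rw [← commutatorElement_inv a b]; exact M.inv_mem hab
    rcases hx with rfl | hx <;> rcases hy with rfl | hy
    · rw [commutatorElement_self]; exact M.one_mem
    · rw [Set.mem_singleton_iff] at hy; subst hy; exact hab
    · rw [Set.mem_singleton_iff] at hx; subst hx; exact hba
    · rw [Set.mem_singleton_iff] at hx hy; subst hx; subst hy
      rw [commutatorElement_self]; exact M.one_mem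
  | one_left x hx => rw [commutatorElement_one_left]; exact M.one_mem
  | one_right x hx => rw [commutatorElement_one_right]; exact M.one_mem
  | mul_left x y z hx hy hz h1 h2 =>
    have : ⁅x * y, z⁆ = x * ⁅y, z⁆ * x⁻¹ * ⁅x, z⁆ := by
      simp only [commutatorElement_def]; group
    rw [this]
    exact M.mul_mem (conj_mem x hx _ h2) h1
  | mul_right y z x hy hz hx h1 h2 =>
    have : ⁅x, y * z⁆ = ⁅x, y⁆ * (y * ⁅x, z⁆ * y⁻¹) := by
      simp only [commutatorElement_def]; group
    rw [this]
    exact M.mul_mem h1 (conj_mem y hy _ h2)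
  | inv_left x y hx hy h =>
    have : ⁅x⁻¹, y⁆ = x⁻¹ * ⁅x, y⁆⁻¹ * x⁻¹⁻¹ := by
      simp only [commutatorElement_def]; group
    rw [this]
    exact conj_mem x⁻¹ (Subgroup.inv_mem _ hx) _ (M.inv_mem h)
  | inv_right x y hx hy h =>
    have : ⁅x, y⁻¹⁆ = y⁻¹ * ⁅x, y⁆⁻¹ * y⁻¹⁻¹ := by
      simp only [commutatorElement_def]; group
    rw [this]
    exact conj_mem y⁻¹ (Subgroup.inv_mem _ hy) _ (M.inv_mem h)

theorem map_powerClosure_le {G H : Type*} [Group G] [Group H] (f : G →* H) (p n : ℕ)
    (K : Subgroup G) :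
    (Cfsg.powerClosure p n K).map f ≤ Cfsg.powerClosure p n (K.map f) := by
  unfold Cfsg.powerClosure
  rw [MonoidHom.map_closure]
  apply Subgroup.closure_mono
  rintro _ ⟨y, ⟨x, hx, rfl⟩, rfl⟩
  exact ⟨f x, Subgroup.mem_map_of_mem f hx, by rw [map_pow]⟩

/-- A subgroup `H` normalizes `powerClosure p n ⁅H, H⁆`. -/
theorem le_normalizer_powerClosure_commutator {G : Type*} [Group G] (p n : ℕ) (H : Subgroup G) :
    H ≤ Subgroup.normalizer ((Cfsg.powerClosure p n ⁅H, H⁆ : Subgroup G) : Set G) := by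
  have key : ∀ h ∈ H, ∀ m ∈ Cfsg.powerClosure p n ⁅H, H⁆,
      h * m * h⁻¹ ∈ Cfsg.powerClosure p n ⁅H, H⁆ := by
    intro h hh m hm
    have h1 := map_powerClosure_le (MulAut.conj h).toMonoidHom p n _
      (Subgroup.mem_map_of_mem _ hm)
    have h2 : H.map (MulAut.conj h).toMonoidHom = H := by
      ext x
      constructor
      · rintro ⟨y, hy, rfl⟩
        exact H.mul_mem (H.mul_mem hh hy) (H.inv_mem hh)
      · intro hx
        refine ⟨h⁻¹ * x * h, H.mul_mem (H.mul_mem (H.inv_mem hh) hx) hh, ?_⟩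
        simp [mul_assoc]
    rw [Subgroup.map_commutator, h2] at h1
    simpa using h1
  intro h hh
  rw [Subgroup.mem_normalizer_iff]
  intro m
  constructor
  · exact key h hh m
  · intro hm
    have := key h⁻¹ (H.inv_mem hh) _ hm
    simpa [mul_assoc] using this

/-- Among finite 2-groups the regular ones are exactly the abelian ones. -/
theorem result {G : Type*} [Group G] [Finite G] (hG : IsPGroup 2 G) : Cfsg.IsRegularPGroup 2 G ↔ ∀ a b : G, a * b = b * a := by
  have : Fact (Nat.Prime 2) := ⟨Nat.prime_two⟩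
  constructor
  · rintro ⟨-, hreg⟩ a b
    obtain ⟨c, hc, hcab⟩ := hreg b a 1
    set H := Subgroup.closure ({b, a} : Set G) with hH
    have haH : a ∈ H := Subgroup.subset_closure (by simp)
    have hbH : b ∈ H := Subgroup.subset_closure (by simp)
    have hN := le_normalizer_powerClosure_commutator 2 1 H
    -- the commutator of a, b is a conjugate of c
    have hcomm : ⁅a, b⁆ = (b * a * a) * c * (b * a * a)⁻¹ := by
      have hc' : c = (a ^ 2)⁻¹ * (b ^ 2)⁻¹ * (b * a) ^ 2 := by
        rw [pow_one] at hcab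
        rw [hcab]; group
      rw [hc', commutatorElement_def]
      simp only [pow_two]
      group
    have hmem : ⁅a, b⁆ ∈ Cfsg.powerClosure 2 1 ⁅H, H⁆ := by
      rw [hcomm]
      exact (Subgroup.mem_normalizer_iff.mp (hN (H.mul_mem (H.mul_mem hbH haH) haH)) _).mp hc
    have hmem' : ⁅b, a⁆ ∈ Cfsg.powerClosure 2 1 ⁅H, H⁆ := by
      rw [← commutatorElement_inv a b]; exact Subgroup.inv_mem _ hmem
    have hle := commutator_closure_pair_le b a _ hN hmem'
    have hbot := eq_bot_of_le_powerClosure hG _ hle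
    have h1 : ⁅a, b⁆ ∈ ⁅H, H⁆ := Subgroup.commutator_mem_commutator haH hbH
    rw [hbot, Subgroup.mem_bot, commutatorElement_eq_one_iff_commute] at h1
    exact h1.eq
  · intro hab
    refine ⟨hG, ?_⟩
    intro a b n
    refine ⟨1, Subgroup.one_mem _, ?_⟩
    rw [mul_one, (show Commute a b from hab a b).mul_pow]

end Cfsg.Agent.S0642
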