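import Cfsg.Statements.S0643
import Cfsg.Agent.Lib.Helper70_Regular2

set_option autoImplicit false
open Cfsg

namespace Cfsg.Agent.S0643

open Cfsg.Agent.Lib.Helper70_Regular Cfsg.Agent.Lib.Helper70_Regular2

theorem pow_pow_succ {G : Type*} [Group G] (x : G) (p n : ℕ) : (x ^ p ^ n) ^ p = x ^ p ^ (n + 1) := by
  rw [← pow_mul, ← pow_succ]

/-- From Kemhadze's condition, regularity at every level. -/
theorem regAt_all {G : Type*} [Group G] [Finite G] {p : ℕ} [Fact p.Prime] (hG : IsPGroup p G)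
    (K : ∀ a b : G, ∃ c ∈ ⁅Subgroup.closure ({a, b} : Set G), Subgroup.closure ({a, b} : Set G)⁆,
      (a * b) ^ p = a ^ p * b ^ p * c ^ p) :
    ∀ n : ℕ, RegAt p n G := by
  intro n
  induction n with
  | zero =>
    intro a b
    exact ⟨1, Subgroup.one_mem _, by simp⟩
  | succ n hn =>
    intro a b
    set q := p ^ n with hq
    set L := Subgroup.closure ({a, b} : Set G) with hL
    have haL : a ∈ L := Subgroup.subset_closure (by simp)
    have hbL : b ∈ L := Subgroup.subset_closure (by simp)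
    have hL'L : ⁅L, L⁆ ≤ L := Subgroup.commutator_le_self L
    obtain ⟨c, hc, h1⟩ := hn a b
    have P1n := P1_all hG n hn
    obtain ⟨y, hyL', rfl⟩ := (mem_powerClosure_iff ⁅L, L⁆ (P1n _) c).mp hc
    have hyL : y ∈ L := hL'L hyL'
    obtain ⟨d₁, hd₁, k1⟩ := K (a ^ q) (b ^ q * y ^ q)
    obtain ⟨d₂, hd₂, k2⟩ := K (b ^ q) (y ^ q)
    have gen : ∀ z ∈ L, z ^ q ∈ Cfsg.powerClosure p n L :=
      fun z hz => Subgroup.subset_closure ⟨z, hz, rfl⟩
    have hU₁ : Subgroup.closure ({a ^ q, b ^ q * y ^ q} : Set G) ≤ Cfsg.powerClosure p n L := by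
      rw [Subgroup.closure_le]
      intro z hz
      rcases hz with rfl | rfl
      · exact gen a haL
      · exact Subgroup.mul_mem _ (gen b hbL) (gen y hyL)
    have hU₂ : Subgroup.closure ({b ^ q, y ^ q} : Set G) ≤ Cfsg.powerClosure p n L := by
      rw [Subgroup.closure_le]
      intro z hz
      rcases hz with rfl | rfl
      · exact gen b hbL
      · exact gen y hyL
    have hd₁' : d₁ ∈ Cfsg.powerClosure p n ⁅L, L⁆ :=
      commutator_powerClosure_le hG n hn L (Subgroup.commutator_mono hU₁ hU₁ hd₁)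
    have hd₂' : d₂ ∈ Cfsg.powerClosure p n ⁅L, L⁆ :=
      commutator_powerClosure_le hG n hn L (Subgroup.commutator_mono hU₂ hU₂ hd₂)
    obtain ⟨w₁, hw₁, rfl⟩ := (mem_powerClosure_iff ⁅L, L⁆ (P1n _) d₁).mp hd₁'
    obtain ⟨w₂, hw₂, rfl⟩ := (mem_powerClosure_iff ⁅L, L⁆ (P1n _) d₂).mp hd₂'
    have gen' : ∀ z ∈ ⁅L, L⁆, (z ^ q) ^ p ∈ Cfsg.powerClosure p (n + 1) ⁅L, L⁆ := by
      intro z hz
      rw [hq, pow_pow_succ]
      exact Subgroup.subset_closure ⟨z, hz, rfl⟩
    refine ⟨(y ^ q) ^ p * (w₂ ^ q) ^ p * (w₁ ^ q) ^ p, ?_, ?_⟩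
    · exact Subgroup.mul_mem _ (Subgroup.mul_mem _ (gen' y hyL') (gen' w₂ hw₂)) (gen' w₁ hw₁)
    · rw [← pow_pow_succ (a * b), ← pow_pow_succ a, ← pow_pow_succ b, ← hq, h1, mul_assoc (a ^ q),
        k1, k2, ← hq]
      simp only [mul_assoc]

/-- Kemhadze's criterion: a finite p-group is regular exactly when (ab)^p = a^p b^p c^p always holds for some c in the derived subgroup of the subgroup generated by a and b. -/
theorem result {G : Type*} [Group G] [Finite G] {p : ℕ} [Fact p.Prime] (hG : IsPGroup p G) : Cfsg.IsRegularPGroup p G ↔ ∀ a b : G, ∃ c ∈ ⁅Subgroup.closure ({a, b} : Set G), Subgroup.closure ({a, b} : Set G)⁆, (a * b) ^ p = a ^ p * b ^ p * c ^ p := by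
  constructor
  · intro hreg a b
    have hreg1 : RegAt p 1 G := fun a b => hreg.2 a b 1
    obtain ⟨c, hc, h1⟩ := hreg1 a b
    obtain ⟨w, hw, rfl⟩ := (mem_powerClosure_iff _ (P1_all hG 1 hreg1 _) c).mp hc
    refine ⟨w, hw, ?_⟩
    simpa using h1
  · intro K
    exact ⟨hG, fun a b n => regAt_all hG K n a b⟩

end Cfsg.Agent.S0643
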