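import Cfsg.Statements.S0645
import Cfsg.Agent.Lib.Helper20_PGroupOdd

set_option autoImplicit false
open Cfsg

namespace Cfsg.Agent.S0645

theorem lte_aux {p : ℕ} [hpf : Fact p.Prime] (hp : p ≠ 2) {m r : ℕ} (hr : 1 < r)
    (h : r ^ p ≡ 1 [MOD p ^ (m + 1)]) : r ≡ 1 [MOD p ^ m] := by
  have hpP : p.Prime := hpf.out
  have hodd : Odd p := hpP.odd_of_ne_two hp
  -- r ≡ 1 mod p
  have h1 : r ^ p ≡ 1 [MOD p] := by
    apply h.of_dvd
    exact dvd_pow_self p (Nat.succ_ne_zero m)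
  have h2 : r ≡ 1 [MOD p] := by
    have hz : ((r : ZMod p)) ^ p = 1 := by
      have := (ZMod.natCast_eq_natCast_iff _ _ _).mpr h1
      simpa using this
    rw [ZMod.pow_card] at hz
    have : ((r : ℕ) : ZMod p) = ((1 : ℕ) : ZMod p) := by simpa using hz
    exact (ZMod.natCast_eq_natCast_iff _ _ _).mp this
  have hdvd : p ∣ r - 1 := (Nat.modEq_iff_dvd' hr.le).mp h2.symm
  have hndvd : ¬ p ∣ r := by
    intro hd
    have : p ∣ 1 := by
      have h3 : p ∣ r - (r - 1) := Nat.dvd_sub hd hdvd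
      have h4 : r - (r - 1) = 1 := by omega
      rwa [h4] at h3
    exact hpP.one_lt.ne' (Nat.dvd_one.mp this)
  have hval := padicValNat.pow_sub_pow hodd hr hdvd hndvd hpP.ne_zero
  rw [one_pow, padicValNat_self] at hval
  have hrp : 1 < r ^ p := Nat.one_lt_pow hpP.ne_zero hr
  have hne : r ^ p - 1 ≠ 0 := by omega
  have hd2 : p ^ (m + 1) ∣ r ^ p - 1 := (Nat.modEq_iff_dvd' hrp.le).mp h.symm
  have hle := (padicValNat_dvd_iff_le hne).mp hd2
  rw [hval] at hle
  have hle' : m ≤ padicValNat p (r - 1) := by omega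
  have hne' : r - 1 ≠ 0 := by omega
  have hd3 : p ^ m ∣ r - 1 := (padicValNat_dvd_iff_le hne').mpr hle'
  exact ((Nat.modEq_iff_dvd' hr.le).mpr hd3).symm

section
variable {G : Type*} [Group G]

theorem conj_pow_iter {a b : G} {r : ℕ} (h : b * a * b⁻¹ = a ^ r) (k : ℕ) :
    b ^ k * a * (b ^ k)⁻¹ = a ^ (r ^ k) := by
  induction k with
  | zero => simp
  | succ k ih =>
    calc b ^ (k + 1) * a * (b ^ (k + 1))⁻¹ = b * (b ^ k * a * (b ^ k)⁻¹) * b⁻¹ := by
          rw [pow_succ']; group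
      _ = b * a ^ (r ^ k) * b⁻¹ := by rw [ih]
      _ = (b * a * b⁻¹) ^ (r ^ k) := (conj_pow).symm
      _ = a ^ (r ^ (k + 1)) := by rw [h, ← pow_mul, pow_succ']

theorem conj_pow_iter_central {a b d : G} (h : b * a * b⁻¹ = a * d) (hd : b * d = d * b) (k : ℕ) :
    b ^ k * a * (b ^ k)⁻¹ = a * d ^ k := by
  induction k with
  | zero => simp
  | succ k ih =>
    have hdk : b * d ^ k * b⁻¹ = d ^ k := by
      have : Commute b (d ^ k) := Commute.pow_right hd k
      rw [this.eq, mul_inv_cancel_right]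
    calc b ^ (k + 1) * a * (b ^ (k + 1))⁻¹ = b * (b ^ k * a * (b ^ k)⁻¹) * b⁻¹ := by
          rw [pow_succ']; group
      _ = b * (a * d ^ k) * b⁻¹ := by rw [ih]
      _ = (b * a * b⁻¹) * (b * d ^ k * b⁻¹) := by group
      _ = a * d ^ (k + 1) := by rw [h, hdk, pow_succ', mul_assoc]

end


/-- Classification of p-groups with a cyclic maximal subgroup, odd p: a non-abelian one of order p^n has generators a of order p^(n-1) and b of order p, b outside the cyclic subgroup generated by a, with b a b⁻¹ = a^(1 + p^(n-2)). -/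
theorem result {G : Type*} [Group G] [Finite G] {p : ℕ} [Fact p.Prime] (hp : p ≠ 2) (n : ℕ) (hn : 3 ≤ n) (hG : Nat.card G = p ^ n) (C : Subgroup G) (hC : IsCyclic C) (hCi : C.index = p) (hna : ∃ x y : G, x * y ≠ y * x) : ∃ a b : G, orderOf a = p ^ (n - 1) ∧ orderOf b = p ∧ b ∉ Subgroup.zpowers a ∧ b * a * b⁻¹ = a ^ (1 + p ^ (n - 2)) := by
  have hpP : p.Prime := Fact.out
  have hCn : C.Normal := by
    apply Subgroup.normal_of_index_eq_minFac_card
    rw [hCi, hG, Nat.Prime.pow_minFac hpP (by omega)]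
  have hCcard : Nat.card C = p ^ (n - 1) := by
    have h1 := C.card_mul_index
    rw [hCi, hG] at h1
    have hn' : n = (n - 1) + 1 := by omega
    rw [hn', pow_succ] at h1
    have := Nat.eq_of_mul_eq_mul_right hpP.pos h1
    rw [this]
  -- generator
  obtain ⟨a₀, ha₀⟩ := hC.exists_generator
  have hoa₀ : orderOf a₀ = Nat.card C := orderOf_eq_card_of_forall_mem_zpowers ha₀
  obtain ⟨a, haC⟩ := a₀
  have hoa : orderOf a = p ^ (n - 1) := by
    rw [← hCcard, ← hoa₀]; exact (Subgroup.orderOf_mk a haC).symm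
  have hCa : ∀ x : G, x ∈ C ↔ x ∈ Subgroup.zpowers a := by
    intro x
    constructor
    · intro hx
      obtain ⟨k, hk⟩ := Subgroup.mem_zpowers_iff.mp (ha₀ ⟨x, hx⟩)
      have := congrArg Subtype.val hk
      rw [Subgroup.mem_zpowers_iff]
      exact ⟨k, by simpa using this⟩
    · intro hx
      exact (Subgroup.zpowers_le.mpr haC) hx
  have hpowC : ∀ x : G, x ∈ C → ∃ k : ℕ, a ^ k = x := by
    intro x hx
    have := (hCa x).mp hx
    rw [← mem_powers_iff_mem_zpowers] at this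
    exact (Submonoid.mem_powers_iff _ _).mp this
  have hcommC : ∀ x : G, x ∈ C → x * a = a * x := by
    intro x hx
    obtain ⟨k, rfl⟩ := hpowC x hx
    rw [← pow_succ, ← pow_succ']
  -- an element outside C
  have hCtop : C ≠ ⊤ := by
    intro h
    rw [h, Subgroup.index_top] at hCi
    exact hpP.one_lt.ne hCi
  obtain ⟨b₀, hb₀⟩ : ∃ b₀ : G, b₀ ∉ C := by
    by_contra hall
    push Not at hall
    exact hCtop (eq_top_iff.mpr (fun x _ => hall x))
  -- G is generated by C and b₀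
  have hgen : ∀ x : G, x * a = a * x → x * b₀ = b₀ * x → x ∈ Subgroup.center G := by
    intro x hxa hxb
    have hle : C ⊔ Subgroup.zpowers b₀ ≤ Subgroup.centralizer {x} := by
      apply sup_le
      · intro y hy
        obtain ⟨k, rfl⟩ := hpowC y hy
        rw [Subgroup.mem_centralizer_singleton_iff]
        exact ((Commute.pow_right (show Commute x a from hxa) k).eq).symm
      · rw [Subgroup.zpowers_le, Subgroup.mem_centralizer_singleton_iff]
        exact hxb.symm
    have htop : C ⊔ Subgroup.zpowers b₀ = ⊤ := by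
      have hco : IsCoatom C := by
        have hmax : C.index.Prime := by rw [hCi]; exact hpP
        constructor
        · exact hCtop
        · intro K hK
          have h1 := Subgroup.relIndex_mul_index hK.le
          rcases (Nat.dvd_prime hmax).mp (Dvd.intro_left _ h1) with h | h
          · exact Subgroup.index_eq_one.mp h
          · rw [h] at h1
            have h2 : C.relIndex K = 1 := by
              have hpos : 0 < C.index := hmax.pos
              nlinarith
            exact absurd (Subgroup.relIndex_eq_one.mp h2) (not_le_of_gt hK)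
      by_contra hne
      have hlt : C < C ⊔ Subgroup.zpowers b₀ := by
        apply lt_of_le_of_ne le_sup_left
        intro h
        apply hb₀
        rw [h]
        exact Subgroup.mem_sup_right (Subgroup.mem_zpowers b₀)
      exact hne (hco.2 _ hlt)
    rw [htop] at hle
    rw [Subgroup.mem_center_iff]
    intro g
    have := hle (Subgroup.mem_top g)
    rw [Subgroup.mem_centralizer_singleton_iff] at this
    exact this
  have hncomm : b₀ * a ≠ a * b₀ := by
    intro hcomm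
    have ha_c : a ∈ Subgroup.center G := hgen a rfl hcomm.symm
    have hb_c : b₀ ∈ Subgroup.center G := hgen b₀ hcomm rfl
    obtain ⟨x, y, hxy⟩ := hna
    -- every element is central
    have hall : ∀ g : G, g ∈ Subgroup.center G := by
      intro g
      apply hgen g
      · exact (Subgroup.mem_center_iff.mp ha_c g)
      · exact (Subgroup.mem_center_iff.mp hb_c g)
    exact hxy ((Subgroup.mem_center_iff.mp (hall y) x))
  -- the exponent r
  obtain ⟨r, hr⟩ := hpowC (b₀ * a * b₀⁻¹) (hCn.conj_mem a haC b₀)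
  have hr' : b₀ * a * b₀⁻¹ = a ^ r := hr.symm
  have ha1 : a ≠ 1 := by
    intro h
    rw [h, orderOf_one] at hoa
    have : 1 < p ^ (n - 1) := Nat.one_lt_pow (by omega) hpP.one_lt
    omega
  have hr0 : r ≠ 0 := by
    rintro rfl
    rw [pow_zero] at hr'
    apply ha1
    have : a = b₀⁻¹ * (b₀ * a * b₀⁻¹) * b₀ := by group
    rw [this, hr']; group
  have hr1 : r ≠ 1 := by
    rintro rfl
    rw [pow_one] at hr'
    apply hncomm
    calc b₀ * a = (b₀ * a * b₀⁻¹) * b₀ := by group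
      _ = a * b₀ := by rw [hr']
  have hr2 : 1 < r := by omega
  -- r ^ p ≡ 1
  have hbp : b₀ ^ p ∈ C := by
    have := Subgroup.pow_index_mem C b₀
    rwa [hCi] at this
  have hrp : r ^ p ≡ 1 [MOD p ^ (n - 2 + 1)] := by
    have h1 := conj_pow_iter hr' p
    rw [hcommC _ hbp, mul_inv_cancel_right] at h1
    have h2 : a ^ (r ^ p) = a ^ 1 := by rw [← h1, pow_one]
    have := pow_eq_pow_iff_modEq.mp h2
    rw [hoa] at this
    have hn' : n - 1 = n - 2 + 1 := by omega
    rwa [hn'] at this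
  have hr3 : r ≡ 1 [MOD p ^ (n - 2)] := lte_aux hp hr2 hrp
  obtain ⟨k, hk⟩ : p ^ (n - 2) ∣ r - 1 := (Nat.modEq_iff_dvd' hr2.le).mp hr3.symm
  -- d and c
  have hrd : b₀ * a * b₀⁻¹ = a * a ^ (r - 1) := by
    rw [hr', ← pow_succ']
    congr 1; omega
  have hpn : p * p ^ (n - 2) = p ^ (n - 1) := by
    rw [← pow_succ']; congr 1; omega
  have hcp : (a ^ (p ^ (n - 2))) ^ p = 1 := by
    rw [← pow_mul, mul_comm, hpn, ← hoa]; exact pow_orderOf_eq_one a
  have hc1 : a ^ (p ^ (n - 2)) ≠ 1 := by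
    apply pow_ne_one_of_lt_orderOf
    · exact (pow_pos hpP.pos _).ne'
    · rw [hoa]; exact Nat.pow_lt_pow_right hpP.one_lt (by omega)
  have hoc : orderOf (a ^ (p ^ (n - 2))) = p := orderOf_eq_prime hcp hc1
  have hdc : a ^ (r - 1) = (a ^ (p ^ (n - 2))) ^ k := by rw [hk, pow_mul]
  have hdp : (a ^ (r - 1)) ^ p = 1 := by rw [hdc, ← pow_mul, mul_comm, pow_mul, hcp, one_pow]
  have hd1 : a ^ (r - 1) ≠ 1 := by
    intro h
    rw [h, mul_one] at hrd
    apply hncomm
    calc b₀ * a = (b₀ * a * b₀⁻¹) * b₀ := by group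
      _ = a * b₀ := by rw [hrd]
  have hpk : p ∣ r - 1 := by
    rw [hk]; exact Dvd.dvd.mul_right (dvd_pow_self p (by omega)) k
  -- d is central with respect to b₀
  have hdb : b₀ * a ^ (r - 1) = a ^ (r - 1) * b₀ := by
    have h1 : b₀ * a ^ (r - 1) * b₀⁻¹ = a ^ (r - 1) := by
      rw [← conj_pow, hrd, (Commute.pow_right (Commute.refl a) (r - 1)).mul_pow]
      obtain ⟨t, ht⟩ := hpk
      have : (a ^ (r - 1)) ^ (r - 1) = 1 := by
        rw [ht, pow_mul (a ^ (p * t)), ← ht, hdp, one_pow]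
      rw [this, mul_one]
    calc b₀ * a ^ (r - 1) = (b₀ * a ^ (r - 1) * b₀⁻¹) * b₀ := by group
      _ = a ^ (r - 1) * b₀ := by rw [h1]
  -- c is a power of d
  have hcd : a ^ (p ^ (n - 2)) ∈ Subgroup.zpowers (a ^ (r - 1)) := by
    have h1 : a ^ (r - 1) ∈ Subgroup.zpowers (a ^ (p ^ (n - 2))) := by
      rw [hdc]; exact Subgroup.npow_mem_zpowers _ k
    rw [Cfsg.Agent.Lib.Helper20_PGroupOdd.zpowers_eq_of_mem_of_ne_one hoc h1 hd1]
    exact Subgroup.mem_zpowers _
  rw [← mem_powers_iff_mem_zpowers] at hcd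
  obtain ⟨j, hj⟩ := (Submonoid.mem_powers_iff _ _).mp hcd
  -- b₁
  have hb₁ : b₀ ^ j * a * (b₀ ^ j)⁻¹ = a * a ^ (p ^ (n - 2)) := by
    rw [conj_pow_iter_central hrd hdb j, hj]
  have hcb₁ : b₀ ^ j * a ^ (p ^ (n - 2)) = a ^ (p ^ (n - 2)) * b₀ ^ j := by
    rw [← hj]
    exact ((Commute.pow_left (Commute.pow_right (show Commute b₀ (a ^ (r - 1)) from hdb) j) j).eq)
  generalize hb₁def : b₀ ^ j = b₁ at hb₁ hcb₁
  have hb₁p : b₁ ^ p ∈ C := by
    have := Subgroup.pow_index_mem C b₁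
    rwa [hCi] at this
  obtain ⟨s, hs⟩ := hpowC _ hb₁p
  have hps : p ∣ s := by
    have h1 : b₁ * a ^ s * b₁⁻¹ = a ^ s := by
      rw [hs, ← pow_succ', pow_succ, mul_inv_cancel_right]
    rw [← conj_pow, hb₁, (Commute.pow_right (Commute.refl a) _).mul_pow] at h1
    have h2 : (a ^ (p ^ (n - 2))) ^ s = 1 := by
      have := mul_left_cancel (h1.trans (mul_one _).symm)
      exact this
    rw [← hoc]
    exact orderOf_dvd_of_pow_eq_one h2
  obtain ⟨s', hs'⟩ := hps
  -- the element b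
  have hxy : (a ^ s')⁻¹ * b₁ = (a ^ (p ^ (n - 2))) ^ s' * b₁ * (a ^ s')⁻¹ := by
    have h1 : b₁ * a ^ s' * b₁⁻¹ = a ^ s' * (a ^ (p ^ (n - 2))) ^ s' := by
      rw [← conj_pow, hb₁, (Commute.pow_right (Commute.refl a) _).mul_pow]
    have h2 : b₁ * a ^ s' = a ^ s' * (a ^ (p ^ (n - 2))) ^ s' * b₁ := by
      rw [← h1, inv_mul_cancel_right]
    have h3 : Commute (a ^ s') ((a ^ (p ^ (n - 2))) ^ s') :=
      Commute.pow_right (Commute.pow_right (Commute.pow_left (Commute.refl a) _) _) _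
    calc (a ^ s')⁻¹ * b₁ = (a ^ s')⁻¹ * (b₁ * a ^ s') * (a ^ s')⁻¹ := by group
      _ = (a ^ s')⁻¹ * (a ^ s' * (a ^ (p ^ (n - 2))) ^ s' * b₁) * (a ^ s')⁻¹ := by rw [h2]
      _ = (a ^ (p ^ (n - 2))) ^ s' * b₁ * (a ^ s')⁻¹ := by group
  have hcc1 : Commute ((a ^ (p ^ (n - 2))) ^ s') b₁ := (Commute.pow_right hcb₁ s').symm
  have hcc2 : Commute ((a ^ (p ^ (n - 2))) ^ s') (a ^ s')⁻¹ :=
    (Commute.pow_right (Commute.pow_right (Commute.pow_left (Commute.refl a) _) _) _).symm.inv_right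
  have hccp : ((a ^ (p ^ (n - 2))) ^ s') ^ p = 1 := by
    rw [← pow_mul, mul_comm, pow_mul, hcp, one_pow]
  have hbp : (b₁ * (a ^ s')⁻¹) ^ p = 1 := by
    rw [Cfsg.Agent.Lib.Helper20_PGroupOdd.mul_pow_prime_of_comm hpP hp hxy hcc1 hcc2 hccp, ← hs,
      inv_pow, ← pow_mul, hs', mul_comm p s', mul_inv_cancel]
  have hb₁C : b₁ ∉ C := by
    intro hmem
    have h1 := hcommC b₁ hmem
    have h2 : b₁ * a * b₁⁻¹ = a := by rw [h1, mul_inv_cancel_right]
    rw [hb₁] at h2
    exact hc1 (mul_left_cancel (h2.trans (mul_one a).symm))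
  have hbnot : b₁ * (a ^ s')⁻¹ ∉ Subgroup.zpowers a := by
    intro hmem
    apply hb₁C
    rw [hCa]
    have : b₁ = (b₁ * (a ^ s')⁻¹) * a ^ s' := by group
    rw [this]
    exact mul_mem hmem (Subgroup.npow_mem_zpowers a s')
  have hb1 : b₁ * (a ^ s')⁻¹ ≠ 1 := by
    intro h
    apply hbnot
    rw [h]; exact one_mem _
  refine ⟨a, b₁ * (a ^ s')⁻¹, hoa, orderOf_eq_prime hbp hb1, hbnot, ?_⟩
  calc b₁ * (a ^ s')⁻¹ * a * (b₁ * (a ^ s')⁻¹)⁻¹
      = b₁ * ((a ^ s')⁻¹ * a * a ^ s') * b₁⁻¹ := by group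
    _ = b₁ * a * b₁⁻¹ := by
        rw [show (a ^ s')⁻¹ * a * a ^ s' = a from by
          rw [mul_assoc, ← pow_succ', pow_succ, ← mul_assoc, inv_mul_cancel, one_mul]]
    _ = a ^ (1 + p ^ (n - 2)) := by rw [hb₁, pow_add, pow_one]

end Cfsg.Agent.S0645
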