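import Cfsg.Statements.S0646
import Cfsg.Agent.Lib.Helper20_CyclicMax

set_option autoImplicit false
open Cfsg

namespace Cfsg.Agent.S0646

theorem sq_cases {m r : ℕ} (hm : 2 ≤ m) (hr1 : 1 < r) (hr : r < 2 ^ m)
    (h : r ^ 2 ≡ 1 [MOD 2 ^ m]) :
    r = 2 ^ m - 1 ∨ (3 ≤ m ∧ (r = 2 ^ (m - 1) + 1 ∨ r = 2 ^ (m - 1) - 1)) := by
  obtain ⟨M, hM⟩ : ∃ M, M = 2 ^ (m - 2) := ⟨_, rfl⟩
  have h2M : 2 ^ (m - 1) = 2 * M := by
    rw [hM, ← pow_succ']; congr 1; omega
  have h4M : 2 ^ m = 4 * M := by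
    rw [hM, show (4 : ℕ) = 2 ^ 2 by norm_num, ← pow_add]; congr 1; omega
  have hMpos : 0 < M := by rw [hM]; positivity
  have hMeven : 3 ≤ m → 2 ∣ M := by
    intro h3
    rw [hM]
    exact dvd_pow_self 2 (by omega)
  have hM1 : m = 2 → M = 1 := by
    intro h2; rw [hM, h2]; norm_num
  have hodd : r % 2 = 1 := by
    have h1 : r ^ 2 ≡ 1 [MOD 2] := h.of_dvd (dvd_pow_self 2 (by omega))
    have h2 : r ^ 2 % 2 = 1 := h1
    rcases Nat.mod_two_eq_zero_or_one r with h0 | h0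
    · rw [Nat.pow_mod, h0] at h2; norm_num at h2
    · exact h0
  obtain ⟨q, hq⟩ : ∃ q, r = 2 * q + 1 := ⟨r / 2, by omega⟩
  have hdvd : M ∣ q * (q + 1) := by
    have h1 : 2 ^ m ∣ r ^ 2 - 1 :=
      (Nat.modEq_iff_dvd' (Nat.one_le_pow _ _ (by omega))).mp h.symm
    have h2 : r ^ 2 - 1 = 4 * (q * (q + 1)) := by
      apply Nat.sub_eq_of_eq_add
      rw [hq]; ring
    rw [h2, h4M] at h1
    exact Nat.dvd_of_mul_dvd_mul_left (by norm_num) h1
  have hqlt : q < 2 * M := by omega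
  have hqpos : 1 ≤ q := by omega
  rcases Nat.even_or_odd q with hqe | hqo
  · -- q even, M ∣ q
    have hcop : Nat.Coprime M (q + 1) := by
      rw [hM]
      apply Nat.Coprime.pow_left
      rw [Nat.coprime_two_left]
      exact hqe.add_one
    have hMq : M ∣ q := hcop.dvd_of_dvd_mul_right hdvd
    obtain ⟨k, hk⟩ := hMq
    have hk1 : k = 1 := by
      have : k < 2 := by
        by_contra hge
        push Not at hge
        have : 2 * M ≤ M * k := by nlinarith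
        omega
      have : k ≠ 0 := by
        rintro rfl
        omega
      omega
    rw [hk1, mul_one] at hk
    by_cases hm2 : m = 2
    · left
      have := hM1 hm2
      rw [h4M, hq, hk, this]
    · right
      refine ⟨by omega, Or.inl ?_⟩
      rw [h2M, hq, hk]
  · -- q odd, M ∣ q + 1
    have hcop : Nat.Coprime M q := by
      rw [hM]
      apply Nat.Coprime.pow_left
      rw [Nat.coprime_two_left]
      exact hqo
    have hMq : M ∣ q + 1 := hcop.dvd_of_dvd_mul_left hdvd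
    obtain ⟨k, hk⟩ := hMq
    have hk12 : k = 1 ∨ k = 2 := by
      have : k < 3 := by
        by_contra hge
        push Not at hge
        have : 3 * M ≤ M * k := by nlinarith
        omega
      have : k ≠ 0 := by
        rintro rfl
        omega
      omega
    rcases hk12 with rfl | rfl
    · right
      rw [mul_one] at hk
      have h3 : 3 ≤ m := by
        by_contra hlt
        have := hM1 (by omega)
        omega
      refine ⟨h3, Or.inr ?_⟩
      rw [h2M, hq]; omega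
    · left
      rw [h4M, hq]; omega


/-- Classification of non-abelian 2-groups with a cyclic maximal subgroup: dihedral, generalized quaternion, and for order at least 16 the modular group and the semidihedral group, each given by generators a (of index 2) and b with the stated relations. -/
theorem result {G : Type*} [Group G] [Finite G] (n : ℕ) (hn : 3 ≤ n) (hG : Nat.card G = 2 ^ n) (C : Subgroup G) (hC : IsCyclic C) (hCi : C.index = 2) (hna : ∃ x y : G, x * y ≠ y * x) : ∃ a b : G, orderOf a = 2 ^ (n - 1) ∧ b ∉ Subgroup.zpowers a ∧ ((b ^ 2 = 1 ∧ b * a * b⁻¹ = a⁻¹) ∨ (b ^ 2 = a ^ (2 ^ (n - 2)) ∧ b * a * b⁻¹ = a⁻¹) ∨ (4 ≤ n ∧ b ^ 2 = 1 ∧ b * a * b⁻¹ = a ^ (1 + 2 ^ (n - 2))) ∨ (4 ≤ n ∧ b ^ 2 = 1 ∧ b * a * b⁻¹ = a ^ (2 ^ (n - 2) - 1))) := by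
  have : Fact (Nat.Prime 2) := ⟨Nat.prime_two⟩
  obtain ⟨a, b₀, r, hoa, hCa, hpowC, hCn, hb₀, hr, hr1, hrlt, hb₀2, hr2, hncomm⟩ :=
    Cfsg.Agent.Lib.Helper20_CyclicMax.setup n (by omega) hG C hC hCi hna
  have hb₀a : b₀ ∉ Subgroup.zpowers a := fun h => hb₀ ((hCa b₀).mpr h)
  obtain ⟨s, hs⟩ := hpowC _ hb₀2
  -- notation
  obtain ⟨M, hM⟩ : ∃ M, M = 2 ^ (n - 3) := ⟨_, rfl⟩
  have h2M : 2 ^ (n - 2) = 2 * M := by
    rw [hM, ← pow_succ']; congr 1; omega
  have h4M : 2 ^ (n - 1) = 4 * M := by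
    rw [hM, show (4 : ℕ) = 2 ^ 2 by norm_num, ← pow_add]; congr 1; omega
  have hMpos : 0 < M := by rw [hM]; positivity
  have hMeven : 4 ≤ n → 2 ∣ M := by
    intro h4
    rw [hM]
    exact dvd_pow_self 2 (by omega)
  have hn12 : n - 1 - 1 = n - 2 := by omega
  -- basic facts
  have hapow : a ^ (4 * M) = 1 := by rw [← h4M, ← hoa]; exact pow_orderOf_eq_one a
  have hone_iff : ∀ k : ℕ, a ^ k = 1 ↔ 4 * M ∣ k := by
    intro k
    rw [← orderOf_dvd_iff_pow_eq_one, hoa, h4M]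
  have hc2 : (a ^ (2 * M)) ^ 2 = 1 := by
    rw [← pow_mul, (hone_iff _)]; exact ⟨1, by ring⟩
  -- F3 : a ^ (r * s) = a ^ s
  have hF3 : a ^ (r * s) = a ^ s := by
    have h1 : b₀ * a ^ s * b₀⁻¹ = a ^ s := by
      rw [hs, ← pow_succ', pow_succ, mul_inv_cancel_right]
    rw [← conj_pow, hr, ← pow_mul] at h1
    exact h1
  -- F1
  have hF1 : ∀ x : G, (b₀ * x) ^ 2 = (b₀ * x * b₀⁻¹) * b₀ ^ 2 * x := by
    intro x; rw [pow_two, pow_two]; group
  have hF2 : ∀ t : ℕ, b₀ * a ^ t * b₀⁻¹ = a ^ (r * t) := by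
    intro t; rw [← conj_pow, hr, ← pow_mul]
  have hmodeq := (pow_eq_pow_iff_modEq (x := a) (n := r * s) (m := s)).mp hF3
  rw [hoa, h4M] at hmodeq
  have hsq := sq_cases (m := n - 1) (by omega) hr1 hrlt hr2
  rw [hn12, h4M, h2M] at hsq
  rcases hsq with hr_eq | ⟨hn4, hr_eq | hr_eq⟩
  · -- r = 4M - 1 : inversion
    have hainv : a ^ r = a⁻¹ := by
      apply eq_inv_of_mul_eq_one_left
      rw [← pow_succ, hr_eq, show 4 * M - 1 + 1 = 4 * M by omega]
      exact hapow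
    rw [hainv] at hr
    -- 2M ∣ s
    have hs2 : 2 * M ∣ s := by
      have h1 : 4 * M ∣ r * s + s := by
        have h2 : r * s + s = 4 * M * s := by
          rw [hr_eq]
          have : (4 * M - 1) * s + s = (4 * M - 1 + 1) * s := by ring
          rw [this, show 4 * M - 1 + 1 = 4 * M by omega]
        rw [h2]; exact Dvd.intro _ rfl
      have h3 : 4 * M ∣ 2 * s := by
        have h4 : (r * s + s) % (4 * M) = (s + s) % (4 * M) := Nat.ModEq.add_right s hmodeq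
        have h5 : (r * s + s) % (4 * M) = 0 := Nat.mod_eq_zero_of_dvd h1
        rw [h5] at h4
        have : s + s = 2 * s := by ring
        rw [this] at h4
        exact Nat.dvd_of_mod_eq_zero h4.symm
      obtain ⟨k, hk⟩ := h3
      refine ⟨k, Nat.eq_of_mul_eq_mul_left (by norm_num : 0 < 2) ?_⟩
      rw [hk]; ring
    obtain ⟨k, hk⟩ := hs2
    have hb2 : b₀ ^ 2 = (a ^ (2 * M)) ^ k := by rw [← hs, hk, pow_mul]
    rcases Nat.even_or_odd k with ⟨j, hj⟩ | ⟨j, hj⟩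
    · refine ⟨a, b₀, hoa, hb₀a, Or.inl ⟨?_, hr⟩⟩
      rw [hb2, hj, ← two_mul, pow_mul, hc2, one_pow]
    · refine ⟨a, b₀, hoa, hb₀a, Or.inr (Or.inl ⟨?_, hr⟩)⟩
      rw [hb2, hj, pow_succ, pow_mul, hc2, one_pow, one_mul, h2M]
  · -- r = 2M + 1 : modular
    have h4 : 4 ≤ n := by omega
    obtain ⟨M', hM'⟩ := hMeven h4
    -- s is even
    have hs2 : 2 ∣ s := by
      have h1 : (r * s) % (4 * M) = s % (4 * M) := hmodeq
      rw [hr_eq] at h1
      have h2 : (2 * M + 1) * s = 2 * M * s + s := by ring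
      rw [h2] at h1
      have h3 : 4 * M ∣ 2 * M * s := by
        have := (Nat.modEq_iff_dvd' (Nat.le_add_left s (2 * M * s))).mp (Nat.ModEq.symm h1)
        rwa [Nat.add_sub_cancel] at this
      obtain ⟨k, hk⟩ := h3
      have h5 : 2 * M * s = 2 * M * (2 * k) := by rw [hk]; ring
      have h6 : s = 2 * k := Nat.eq_of_mul_eq_mul_left (by omega) h5
      exact ⟨k, h6⟩
    obtain ⟨s', hs'⟩ := hs2
    have hbsq : (b₀ * a ^ (s' * (M - 1))) ^ 2 = 1 := by
      rw [hF1, hF2, ← hs, ← pow_add, ← pow_add, hone_iff, hr_eq, hs', hM']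
      have hM1 : 1 ≤ M' := by omega
      obtain ⟨w, hw⟩ : ∃ w, M' = w + 1 := ⟨M' - 1, by omega⟩
      subst hw
      have : (2 * (2 * (w + 1)) + 1) * (s' * (2 * (w + 1) - 1)) + 2 * s' + s' * (2 * (w + 1) - 1)
          = 4 * (2 * (w + 1)) * (s' * (w + 1)) := by
        have h7 : 2 * (w + 1) - 1 = 2 * w + 1 := by omega
        rw [h7]; ring
      rw [this]
      exact Dvd.intro _ rfl
    refine ⟨a, b₀ * a ^ (s' * (M - 1)), hoa, ?_, Or.inr (Or.inr (Or.inl ⟨h4, hbsq, ?_⟩))⟩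
    · intro hmem
      apply hb₀a
      have : b₀ = (b₀ * a ^ (s' * (M - 1))) * (a ^ (s' * (M - 1)))⁻¹ := by group
      rw [this]
      exact mul_mem hmem (inv_mem (Subgroup.npow_mem_zpowers a _))
    · have h8 : b₀ * a ^ (s' * (M - 1)) * a * (b₀ * a ^ (s' * (M - 1)))⁻¹ = b₀ * a * b₀⁻¹ := by
        have hc : a ^ (s' * (M - 1)) * a * (a ^ (s' * (M - 1)))⁻¹ = a := by
          rw [← pow_succ, pow_succ', mul_inv_cancel_right]
        calc b₀ * a ^ (s' * (M - 1)) * a * (b₀ * a ^ (s' * (M - 1)))⁻¹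
            = b₀ * (a ^ (s' * (M - 1)) * a * (a ^ (s' * (M - 1)))⁻¹) * b₀⁻¹ := by group
          _ = b₀ * a * b₀⁻¹ := by rw [hc]
      rw [h8, hr, hr_eq, h2M, add_comm]
  · -- r = 2M - 1 : semidihedral
    have h4 : 4 ≤ n := by omega
    obtain ⟨M', hM'⟩ := hMeven h4
    have hM1 : 1 ≤ M' := by omega
    -- 2M ∣ s
    have hs2 : 2 * M ∣ s := by
      have h1 : (r * s) % (4 * M) = s % (4 * M) := hmodeq
      rw [hr_eq] at h1
      -- (2M-1) s ≡ s  ⇒ 4M ∣ (2M-2) s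
      have h2 : (2 * M - 1) * s = (2 * M - 2) * s + s := by
        have : 2 * M - 1 = (2 * M - 2) + 1 := by omega
        rw [this]; ring
      rw [h2] at h1
      have h3 : 4 * M ∣ (2 * M - 2) * s := by
        have := (Nat.modEq_iff_dvd' (Nat.le_add_left s ((2 * M - 2) * s))).mp (Nat.ModEq.symm h1)
        rwa [Nat.add_sub_cancel] at this
      -- (2M - 2) = 2 (M - 1), M - 1 odd
      have h5 : (2 * M - 2) * s = 2 * ((M - 1) * s) := by
        have : 2 * M - 2 = 2 * (M - 1) := by omega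
        rw [this]; ring
      rw [h5, show 4 * M = 2 * (2 * M) by ring] at h3
      have h6 : 2 * M ∣ (M - 1) * s := Nat.dvd_of_mul_dvd_mul_left (by norm_num) h3
      have hcop : Nat.Coprime (2 * M) (M - 1) := by
        have h7 : 2 * M = 2 ^ (n - 2) := h2M.symm
        rw [h7]
        apply Nat.Coprime.pow_left
        rw [Nat.coprime_two_left, hM']
        exact ⟨M' - 1, by omega⟩
      exact hcop.dvd_of_dvd_mul_left h6
    obtain ⟨k, hk⟩ := hs2
    have hb2 : b₀ ^ 2 = (a ^ (2 * M)) ^ k := by rw [← hs, hk, pow_mul]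
    rcases Nat.even_or_odd k with ⟨j, hj⟩ | ⟨j, hj⟩
    · refine ⟨a, b₀, hoa, hb₀a, Or.inr (Or.inr (Or.inr ⟨h4, ?_, ?_⟩))⟩
      · rw [hb2, hj, ← two_mul, pow_mul, hc2, one_pow]
      · rw [hr, hr_eq, h2M]
    · have hb2' : b₀ ^ 2 = a ^ (2 * M) := by
        rw [hb2, hj, pow_succ, pow_mul, hc2, one_pow, one_mul]
      have hbsq : (b₀ * a) ^ 2 = 1 := by
        rw [hF1, hr, hb2', ← pow_add, ← pow_succ, hone_iff, hr_eq]
        exact ⟨1, by omega⟩
      refine ⟨a, b₀ * a, hoa, ?_, Or.inr (Or.inr (Or.inr ⟨h4, hbsq, ?_⟩))⟩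
      · intro hmem
        apply hb₀a
        have : b₀ = (b₀ * a) * a⁻¹ := by group
        rw [this]
        exact mul_mem hmem (inv_mem (Subgroup.mem_zpowers a))
      · have h8 : b₀ * a * a * (b₀ * a)⁻¹ = b₀ * a * b₀⁻¹ := by group
        rw [h8, hr, hr_eq, h2M]

end Cfsg.Agent.S0646
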