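import Cfsg.Statements.S0657
import Cfsg.Agent.Lib.Helper50_QuadSec
import Cfsg.Agent.Lib.Helper34_NPC

set_option autoImplicit false
open Cfsg

namespace Cfsg.Agent.S0657

/-- For odd p, a group that fails to be p-stable modulo its largest normal subgroup of order prime to p, and whose upper p-series does not stop there, has a section isomorphic to SL(2, p). -/
theorem result {G : Type*} [Group G] [Finite G] {p : ℕ} [Fact p.Prime] (hp : p ≠ 2) (hO : Cfsg.pPrimeCore p G < Cfsg.pPrimePCore p G) (hns : ¬ Cfsg.IsPStable p (G ⧸ Cfsg.pPrimeCore p G)) : ∃ (K L : Subgroup G) (hL : (L.subgroupOf K).Normal), K ≤ ⊤ ∧ Nonempty ((K ⧸ L.subgroupOf K) ≃* Matrix.SpecialLinearGroup (Fin 2) (ZMod p)) := by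
  suffices hinv : Cfsg.Involves (Matrix.SpecialLinearGroup (Fin 2) (ZMod p)) G by
    obtain ⟨K, L, hL, ⟨e⟩⟩ := hinv
    exact ⟨K, L, hL, le_top, ⟨e⟩⟩
  by_contra hcon
  apply hns
  have hodd : Odd p := Nat.Prime.odd_of_ne_two Fact.out hp
  have hcore : Cfsg.pCore p (G ⧸ Cfsg.pPrimeCore p G) ≠ ⊥ := by
    intro h0
    unfold Cfsg.pPrimePCore at hO
    rw [h0, MonoidHom.comap_bot, QuotientGroup.ker_mk'] at hO
    exact lt_irrefl _ hO
  refine ⟨hodd, hcore, ?_⟩
  intro A P hA hP hnorm hPle hnormal hquad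
  rintro _ ⟨n, hn, rfl⟩
  rw [SetLike.mem_coe, Subgroup.mem_subgroupOf] at hn
  have hq : ⁅⁅P, Subgroup.zpowers (n : G ⧸ Cfsg.pPrimeCore p G)⁆,
      Subgroup.zpowers (n : G ⧸ Cfsg.pPrimeCore p G)⁆ = ⊥ := by
    rw [eq_bot_iff, ← hquad]
    have h1 : Subgroup.zpowers (n : G ⧸ Cfsg.pPrimeCore p G) ≤ A := by
      rw [Subgroup.zpowers_le]; exact hn
    exact Subgroup.commutator_mono (Subgroup.commutator_mono le_rfl h1) h1
  rcases Cfsg.Agent.Lib.Helper50_QuadSec.quad_normalizer hp P hP (n : G ⧸ Cfsg.pPrimeCore p G) n.2 hq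
    with h1 | h1
  · exact h1
  · exfalso
    apply hcon
    exact Cfsg.Agent.Lib.Helper34_NPC.involves_of_surjective
      (QuotientGroup.mk' (Cfsg.pPrimeCore p G)) (QuotientGroup.mk'_surjective _)
      (Cfsg.Agent.Lib.Helper34_NPC.involves_of_subgroup _ h1)

end Cfsg.Agent.S0657
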