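import Cfsg.Statements.S0662
import Cfsg.Agent.Lib.Helper95_MaxClass

set_option autoImplicit false
open Cfsg
open scoped commutatorElement

namespace Cfsg.Agent.S0662

/-- In a p-group of maximal class of order at least p³ the normal subgroups of index at least p² are exactly the terms of the lower central series, and there are exactly p + 1 normal subgroups of index p. -/
theorem result {G : Type*} [Group G] [Finite G] {p : ℕ} [Fact p.Prime] (n : ℕ) (hG : Nat.card G = p ^ n) (hcl : Group.nilpotencyClass G = n - 1) (hn : 3 ≤ n) : (∀ (N : Subgroup G) [N.Normal] (r : ℕ), 2 ≤ r → N.index = p ^ r → N = (⊤ : Subgroup G).lowerCentralSeries (r - 1)) ∧ Nat.card {N : Subgroup G // N.Normal ∧ N.index = p} = p + 1 := by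
  classical
  have hpp : p.Prime := Fact.out
  have hP : IsPGroup p G := IsPGroup.of_card hG
  refine ⟨?_, ?_⟩
  · intro N _ r hr hN
    have hrn : r ≤ n := by
      have : p ^ r ∣ p ^ n := by rw [← hN, ← hG]; exact Subgroup.index_dvd_card N
      exact (Nat.pow_dvd_pow_iff_le_right hpp.one_lt).mp this
    have hle := Cfsg.Agent.Lib.Helper95_MaxClass.lcs_le_of_index N hr hN
    have hc := Cfsg.Agent.Lib.Helper95_MaxClass.card_lcs_of_maxClass hG hcl hn
      (k := r - 1) (by omega) (by omega)
    have hNc : Nat.card N = p ^ (n - r) := by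
      have h1 := Subgroup.card_mul_index N
      rw [hN, hG] at h1
      have h2 : p ^ (n - r) * p ^ r = p ^ n := by rw [← pow_add]; congr 1; omega
      exact Nat.eq_of_mul_eq_mul_right (pow_pos hpp.pos r) (h1.trans h2.symm)
    symm
    apply Subgroup.eq_of_le_of_card_ge hle
    rw [hNc, hc]
    apply le_of_eq
    congr 1
    omega
  · set D := (⊤ : Subgroup G).lowerCentralSeries 1 with hD
    have hDc : Nat.card D = p ^ (n - 1 - 1) :=
      Cfsg.Agent.Lib.Helper95_MaxClass.card_lcs_of_maxClass hG hcl hn (k := 1) le_rfl (by omega)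
    have hne : D ≠ ⊥ := by
      intro h
      rw [h, Subgroup.card_bot] at hDc
      exact absurd hDc.symm (Nat.one_lt_pow (by omega) hpp.one_lt).ne'
    have hQ : Nat.card (G ⧸ D) = p ^ 2 := by
      rw [← Subgroup.index_eq_card]
      have h1 := Subgroup.card_mul_index D
      rw [hDc, hG] at h1
      have h2 : p ^ (n - 1 - 1) * p ^ 2 = p ^ n := by rw [← pow_add]; congr 1; omega
      exact Nat.eq_of_mul_eq_mul_left (pow_pos hpp.pos _) (h1.trans h2.symm)
    have hnc : ¬ IsCyclic (G ⧸ D) :=
      Cfsg.Agent.Lib.Helper95_MaxClass.not_isCyclic_quotient_lcs_one hP hne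
    rw [← Cfsg.Agent.Lib.Helper95_MaxClass.card_subgroups_card_eq_prime hQ hnc]
    have hsurj : Function.Surjective (QuotientGroup.mk' D) := QuotientGroup.mk'_surjective D
    -- every normal subgroup of index `p` contains `D`
    have hA : ∀ N : Subgroup G, N.Normal → N.index = p → D ≤ N := by
      intro N hNn hNi
      have := hNn
      have hc : Nat.card (G ⧸ N) = p := by rw [← Subgroup.index_eq_card, hNi]
      have : IsCyclic (G ⧸ N) := isCyclic_of_prime_card hc
      have hD2 : D = ⁅(⊤ : Subgroup G), ⊤⁆ := rfl
      rw [hD2, Subgroup.commutator_le]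
      intro x _ y _
      rw [← QuotientGroup.eq_one_iff]
      show (QuotientGroup.mk' N) ⁅x, y⁆ = 1
      rw [map_commutatorElement, commutatorElement_eq_one_iff_commute]
      exact (IsCyclic.isMulCommutative (α := G ⧸ N)).is_comm.comm _ _
    -- card ↔ index in the quotient of order `p ^ 2`
    have hB : ∀ H : Subgroup (G ⧸ D), Nat.card H = p ↔ H.index = p := by
      intro H
      have h1 := Subgroup.card_mul_index H
      rw [hQ, sq] at h1
      constructor
      · intro h
        rw [h] at h1
        exact Nat.eq_of_mul_eq_mul_left hpp.pos h1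
      · intro h
        rw [h] at h1
        exact Nat.eq_of_mul_eq_mul_right hpp.pos h1
    -- subgroups containing `D` are normal
    have hC : ∀ N : Subgroup G, D ≤ N → N.Normal := by
      intro N hDN
      refine ⟨fun a ha g => ?_⟩
      have h1 : ⁅g, a⁆ ∈ D := Subgroup.commutator_mem_commutator (Subgroup.mem_top g) (Subgroup.mem_top a)
      have h2 : g * a * g⁻¹ = ⁅g, a⁆ * a := by rw [commutatorElement_def]; group
      rw [h2]
      exact N.mul_mem (hDN h1) ha
    apply Nat.card_congr
    refine
      { toFun := fun N => ⟨N.1.map (QuotientGroup.mk' D), ?_⟩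
        invFun := fun H => ⟨H.1.comap (QuotientGroup.mk' D), ?_, ?_⟩
        left_inv := ?_
        right_inv := ?_ }
    · rw [hB, Subgroup.index_map_eq _ hsurj (by rw [QuotientGroup.ker_mk']; exact hA N.1 N.2.1 N.2.2)]
      exact N.2.2
    · apply hC
      intro x hx
      rw [Subgroup.mem_comap]
      have : (QuotientGroup.mk' D) x = 1 := (QuotientGroup.eq_one_iff x).mpr hx
      rw [this]
      exact H.1.one_mem
    · rw [Subgroup.index_comap_of_surjective _ hsurj]
      exact (hB H.1).mp H.2
    · intro N
      apply Subtype.ext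
      show (N.1.map (QuotientGroup.mk' D)).comap (QuotientGroup.mk' D) = N.1
      apply Subgroup.comap_map_eq_self
      rw [QuotientGroup.ker_mk']
      exact hA N.1 N.2.1 N.2.2
    · intro H
      apply Subtype.ext
      show (H.1.comap (QuotientGroup.mk' D)).map (QuotientGroup.mk' D) = H.1
      exact Subgroup.map_comap_eq_self_of_surjective hsurj H.1

end Cfsg.Agent.S0662
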