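import Cfsg.Statements.S0663
import Cfsg.Agent.Lib.Helper95_Uniserial

set_option autoImplicit false
open Cfsg

namespace Cfsg.Agent.S0663

/-- A p-group acts uniserially on a p-group N of order p^n exactly when the iterated commutator chain from N has length n; in that case the chain terms are all the invariant subgroups of N and they are normal in N. -/
theorem result {L : Type*} [Group L] [Finite L] {p : ℕ} [Fact p.Prime] (N G : Subgroup L) (hN : IsPGroup p N) (hG : IsPGroup p G) (hGN : G ≤ Subgroup.normalizer (N : Set L)) (n : ℕ) (hn : Nat.card N = p ^ n) : ((∀ H : Subgroup L, H ≤ N → G ≤ Subgroup.normalizer (H : Set L) → H ≠ ⊥ → (⁅H, G⁆).relIndex H = p) ↔ Cfsg.iterCommutator N G (n - 1) ≠ ⊥ ∨ n = 0) ∧ ((∀ H : Subgroup L, H ≤ N → G ≤ Subgroup.normalizer (H : Set L) → H ≠ ⊥ → (⁅H, G⁆).relIndex H = p) → ∀ H : Subgroup L, H ≤ N → G ≤ Subgroup.normalizer (H : Set L) → (∃ i ≤ n, H = Cfsg.iterCommutator N G i) ∧ N ≤ Subgroup.normalizer (H : Set L)) := by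
  have hI : (∀ H : Subgroup L, H ≤ N → G ≤ Subgroup.normalizer (H : Set L) → H ≠ ⊥ →
      (⁅H, G⁆).relIndex H = p) → Cfsg.iterCommutator N G (n - 1) ≠ ⊥ ∨ n = 0 := by
    intro hU
    rcases Nat.eq_zero_or_pos n with h0 | hpos
    · exact Or.inr h0
    · left
      intro h
      have h1 := Lib.Helper95_Uniserial.card_iter_of_uniserial hGN hn hU (by omega : n - 1 ≤ n)
      rw [h, Subgroup.card_bot] at h1
      have h2 : n - (n - 1) = 1 := by omega
      rw [h2, pow_one] at h1
      exact (Fact.out : p.Prime).one_lt.ne h1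
  have hN0 : n = 0 → N = ⊥ := by
    intro h0
    rw [h0, pow_zero] at hn
    exact Subgroup.card_eq_one.mp hn
  refine ⟨⟨hI, ?_⟩, ?_⟩
  · rintro (hlast | h0)
    · intro H hHN hGH hH
      obtain ⟨i, hi, rfl⟩ :=
        Lib.Helper95_Uniserial.eq_iter_of_invariant hN hG hGN hn hlast hHN hGH
      have hi' : i < n := by
        rcases Nat.lt_or_ge i n with h | h
        · exact h
        · exact absurd (Lib.Helper95_Uniserial.iter_eq_bot hN hG hGN hn hlast h) hH
      have h1 := Lib.Helper95_Uniserial.card_iter hN hG hGN hn hlast hi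
      have h2 := Lib.Helper95_Uniserial.card_iter hN hG hGN hn hlast (by omega : i + 1 ≤ n)
      have h3 := Lib.Helper95_Uniserial.card_mul_relIndex
        (Lib.Helper95_Uniserial.iter_succ_le hGN i)
      rw [h1, h2] at h3
      have h4 : n - i = (n - (i + 1)) + 1 := by omega
      rw [h4, pow_succ] at h3
      have hpos : 0 < p ^ (n - (i + 1)) := pow_pos (Fact.out : p.Prime).pos _
      exact Nat.eq_of_mul_eq_mul_left hpos h3
    · intro H hHN _ hH
      exfalso
      apply hH
      rw [hN0 h0] at hHN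
      exact le_bot_iff.mp hHN
  · intro hU H hHN hGH
    rcases hI hU with hlast | h0
    · obtain ⟨i, hi, rfl⟩ :=
        Lib.Helper95_Uniserial.eq_iter_of_invariant hN hG hGN hn hlast hHN hGH
      exact ⟨⟨i, hi, rfl⟩, Lib.Helper95_Uniserial.le_normalizer_iter_of_full hN hG hGN hn hlast i⟩
    · have hNb := hN0 h0
      have hHb : H = ⊥ := by
        rw [hNb] at hHN
        exact le_bot_iff.mp hHN
      refine ⟨⟨0, Nat.zero_le n, ?_⟩, ?_⟩
      · rw [hHb]
        exact hNb.symm
      · rw [hHb, hNb]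
        exact bot_le

end Cfsg.Agent.S0663
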