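import Cfsg.Statements.S0664
import Mathlib
import Cfsg.Agent.S0653
import Cfsg.Agent.Lib.Helper11_ZJ
import Cfsg.Agent.Lib.Helper1_Cores
import Cfsg.Agent.Lib.Helper1_ZJFunctor
import Cfsg.Agent.Lib.Helper1_QdStable

set_option autoImplicit false
open Cfsg

namespace Cfsg.Agent.S0664

open Subgroup Cfsg.Agent.Lib.Helper11_ZJ Cfsg.Agent.Lib.Helper1_ZJFunctor

/-- `p`-stability in the normalizer form gives `StableOn` for normal `p`-subgroups. -/
theorem stableOn_of_normalizerPStable {X : Type*} [Group X] [Finite X] {p : ℕ} [Fact p.Prime]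
    (h3 : Cfsg.IsNormalizerPStable p X)
    (S B : Subgroup X) [hBn : B.Normal] (hBp : IsPGroup p B) :
    StableOn p S B := by
  have hNtop : Subgroup.normalizer (B : Set X) = ⊤ := Subgroup.normalizer_eq_top B
  set N := Subgroup.normalizer (B : Set X) with hN
  set C' := (Subgroup.centralizer (B : Set X)).subgroupOf N with hC'
  have hCN : Subgroup.centralizer (B : Set X) ≤ N := by rw [hNtop]; exact le_top
  have hC'n : C'.Normal := by
    have : (Subgroup.centralizer (B : Set X)).Normal := Subgroup.normal_centralizer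
    exact Subgroup.Normal.subgroupOf this N
  have hQp : IsPGroup p (pCore p (↥N ⧸ C')) := Cfsg.Agent.Lib.Helper1_Cores.pCore_isPGroup p
  have hQn : (pCore p (↥N ⧸ C')).Normal := Cfsg.Agent.Lib.Helper1_Cores.pCore_normal p
  set L' := (pCore p (↥N ⧸ C')).comap (QuotientGroup.mk' C') with hL'
  have hL'n : L'.Normal := Subgroup.Normal.comap hQn _
  have hC'L' : C' ≤ L' := by
    have := Subgroup.ker_le_comap (QuotientGroup.mk' C') (pCore p (↥N ⧸ C'))
    rwa [QuotientGroup.ker_mk'] at this
  have hmapC : C'.map N.subtype = Subgroup.centralizer (B : Set X) :=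
    Subgroup.map_subgroupOf_eq_of_le hCN
  refine ⟨L'.map N.subtype, ?_, ?_, ?_, ?_⟩
  · apply normal_of_conj_mem
    rintro g _ ⟨x, hx, rfl⟩
    have hg : g ∈ N := by rw [hNtop]; exact Subgroup.mem_top g
    exact ⟨⟨g, hg⟩ * x * ⟨g, hg⟩⁻¹, hL'n.conj_mem x hx ⟨g, hg⟩, rfl⟩
  · rw [← hmapC]
    exact Subgroup.map_mono hC'L'
  · obtain ⟨k, hk⟩ := IsPGroup.iff_card.mp hQp
    refine ⟨k, ?_⟩
    have h1' := Subgroup.relIndex_comap (⊥ : Subgroup (↥N ⧸ C')) (QuotientGroup.mk' C') L'
    have h2 : (⊥ : Subgroup (↥N ⧸ C')).comap (QuotientGroup.mk' C') = C' := by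
      rw [MonoidHom.comap_bot, QuotientGroup.ker_mk']
    rw [h2, Subgroup.relIndex_bot_left, hL', Subgroup.map_comap_eq_self_of_surjective
      (QuotientGroup.mk'_surjective _), hk] at h1'
    rw [← hmapC, ← h1']
    exact Subgroup.relIndex_map_map_of_injective _ _ N.subtype_injective
  · intro a _ ha
    have ha' : a ∈ N := by rw [hNtop]; exact Subgroup.mem_top a
    have hmain := h3 B hBp a ha' ha
    refine ⟨⟨a, ha'⟩, ?_, rfl⟩
    show (⟨a, ha'⟩ : N) ∈ L'
    rw [hL', Subgroup.mem_comap]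
    exact hmain

/-- Glauberman's ZJ-Theorem in its section-free form: for odd p, a finite group with no section isomorphic to Qd(p) whose largest normal p-subgroup contains its centralizer has Z(J(S)) normal, J(S) the abelian-version Thompson subgroup of a Sylow p-subgroup S. -/
theorem result {G : Type*} [Group G] [Finite G] {p : ℕ} [Fact p.Prime] (hp : p ≠ 2) (hfree : ¬ ∃ (K R : Subgroup G) (hR : (R.subgroupOf K).Normal), Nonempty ((K ⧸ R.subgroupOf K) ≃* ↥(Cfsg.qd p))) (hc : Subgroup.centralizer (Cfsg.pCore p G : Set G) ≤ Cfsg.pCore p G) (S : Sylow p G) : (Cfsg.centerThompsonAOf ((S : Subgroup G))).Normal := by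
  have hst : Cfsg.IsNormalizerPStable p G :=
    Cfsg.Agent.Lib.Helper1_QdStable.isNormalizerPStable_of_qdFree hp hfree
  rw [Cfsg.Agent.S0653.centerThompsonAOf_eq]
  apply W_normal (Cfsg.Agent.S0653.admissible hp) S hc
  intro B hBn hBp
  exact stableOn_of_normalizerPStable hst _ B hBp

end Cfsg.Agent.S0664
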