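import Cfsg.Statements.S0666
import Cfsg.Agent.Lib.Helper6_Frobenius
import Cfsg.Agent.Lib.Helper95_FrobAction

set_option autoImplicit false
open Cfsg

namespace Cfsg.Agent.S0666

open Cfsg.Agent.Lib.Helper95_FrobAction
open scoped IsMulCommutative Pointwise

/-- The conjugation action of `F ≤ N_G(V)` on `V`. -/
noncomputable def act {G : Type*} [Group G] (V F : Subgroup G)
    (hFV : F ≤ Subgroup.normalizer (V : Set G)) : ↥F →* MulAut ↥V :=
  (Subgroup.normalizerMonoidHom V).comp (Subgroup.inclusion hFV)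

theorem act_apply {G : Type*} [Group G] (V F : Subgroup G)
    (hFV : F ≤ Subgroup.normalizer (V : Set G)) (f : F) (v : V) :
    ((act V F hFV f v : V) : G) = (f : G) * v * (f : G)⁻¹ := rfl

/-- A Frobenius group acting on a nontrivial abelian group of order prime to that of its kernel, with the kernel acting without nontrivial fixed points, has a complement with a nontrivial fixed point. -/
theorem result {G : Type*} [Group G] [Finite G] (V F : Subgroup G) (hVab : IsMulCommutative V) (hV1 : V ≠ ⊥) (hFV : F ≤ Subgroup.normalizer (V : Set G)) (H : Subgroup ↥F) (hH : Cfsg.IsFrobeniusComplement H) (hcop : (Nat.card V).Coprime (Nat.card (Cfsg.frobeniusKernel H))) (hCK : V ⊓ Subgroup.centralizer (Subtype.val '' Cfsg.frobeniusKernel H : Set G) = ⊥) : V ⊓ Subgroup.centralizer ((H.map F.subtype : Subgroup G) : Set G) ≠ ⊥ := by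
  intro hcon
  have hVab' : IsMulCommutative V := hVab
  obtain ⟨N, hNset, hNn, hNH⟩ := Cfsg.Agent.Lib.Helper6_Frobenius.exists_kernel H hH
  have hfrob : ∀ g : F, g ∉ H → ∀ h ∈ H, g * h * g⁻¹ ∈ H → h = 1 := by
    intro g hg h hh hgh
    have h1 := hH.2.2 g hg
    have h2 : g * h * g⁻¹ ∈ H ⊓ (MulAut.conj g • H) := by
      refine Subgroup.mem_inf.mpr ⟨hgh, ?_⟩
      rw [Subgroup.mem_smul_pointwise_iff_exists]
      exact ⟨h, hh, by rw [MulAut.smul_def, MulAut.conj_apply]⟩
    rw [h1, Subgroup.mem_bot] at h2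
    have h3 : h = g⁻¹ * (g * h * g⁻¹) * g := by group
    rw [h3, h2]; group
  have hcop' : (Nat.card V).Coprime (Nat.card N) := by
    rw [← hNset] at hcop
    exact hcop
  have hfixN : ∀ v : V, (∀ n ∈ N, act V F hFV n v = v) → v = 1 := by
    intro v hv
    have h1 : (v : G) ∈ V ⊓ Subgroup.centralizer
        (Subtype.val '' Cfsg.frobeniusKernel H : Set G) := by
      refine Subgroup.mem_inf.mpr ⟨v.2, ?_⟩
      rw [Subgroup.mem_centralizer_iff]
      rintro x ⟨n, hn, rfl⟩
      have hnN : n ∈ N := by
        have : n ∈ (N : Set F) := by rw [hNset]; exact hn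
        exact this
      have h2 := congrArg Subtype.val (hv n hnN)
      rw [act_apply] at h2
      calc (n : G) * v = ((n : G) * v * (n : G)⁻¹) * n := by group
        _ = v * n := by rw [h2]
    rw [hCK, Subgroup.mem_bot] at h1
    exact Subtype.ext h1
  have hfixH : ∀ v : V, (∀ h ∈ H, act V F hFV h v = v) → v = 1 := by
    intro v hv
    have h1 : (v : G) ∈ V ⊓ Subgroup.centralizer ((H.map F.subtype : Subgroup G) : Set G) := by
      refine Subgroup.mem_inf.mpr ⟨v.2, ?_⟩
      rw [Subgroup.mem_centralizer_iff]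
      rintro x ⟨h, hh, rfl⟩
      have h2 := congrArg Subtype.val (hv h hh)
      rw [act_apply] at h2
      show (h : G) * v = v * (h : G)
      calc (h : G) * v = ((h : G) * v * (h : G)⁻¹) * h := by group
        _ = v * h := by rw [h2]
    rw [hcon, Subgroup.mem_bot] at h1
    exact Subtype.ext h1
  apply hV1
  rw [eq_bot_iff]
  intro w hw
  have := eq_one_of_frobenius_action (act V F hFV) N H hNH hfrob hcop' hfixN hfixH ⟨w, hw⟩
  rw [Subgroup.mem_bot]
  exact congrArg Subtype.val this

end Cfsg.Agent.S0666
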