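import Cfsg.Statements.S0668
-- import your own Cfsg.Agent.* helpers here
set_option autoImplicit false
open Cfsg

namespace Cfsg.Agent.S0668

variable {G : Type*} [Group G] {K : Type*} [Field K] {Ω₁ Ω₂ : Type*} [Fintype Ω₁]
  [MulAction G Ω₁] [MulAction G Ω₂]

/-- the linear map with "matrix" given by a function on orbits of pairs -/
noncomputable def T : (MulAction.orbitRel.Quotient G (Ω₁ × Ω₂) → K) →ₗ[K] ((Ω₁ → K) →ₗ[K] (Ω₂ → K)) where
  toFun φ :=
    { toFun := fun v y => ∑ x, φ (Quotient.mk'' (x, y)) * v x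
      map_add' := by
        intro v w
        ext y
        simp only [Pi.add_apply, mul_add, Finset.sum_add_distrib]
      map_smul' := by
        intro c v
        ext y
        simp only [Pi.smul_apply, smul_eq_mul, RingHom.id_apply, Finset.mul_sum]
        refine Finset.sum_congr rfl fun x _ => ?_
        ring }
  map_add' := by
    intro φ ψ
    ext v y
    simp only [Pi.add_apply, add_mul, Finset.sum_add_distrib, LinearMap.coe_mk, AddHom.coe_mk,
      LinearMap.add_apply]
  map_smul' := by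
    intro c φ
    ext v y
    simp only [Pi.smul_apply, smul_eq_mul, RingHom.id_apply, Finset.mul_sum, LinearMap.coe_mk,
      AddHom.coe_mk, LinearMap.smul_apply]
    refine Finset.sum_congr rfl fun x _ => ?_
    ring

theorem T_apply (φ : MulAction.orbitRel.Quotient G (Ω₁ × Ω₂) → K) (v : Ω₁ → K) (y : Ω₂) :
    T φ v y = ∑ x, φ (Quotient.mk'' (x, y)) * v x := rfl

theorem T_single [DecidableEq Ω₁] (φ : MulAction.orbitRel.Quotient G (Ω₁ × Ω₂) → K) (x : Ω₁) (y : Ω₂) :
    T φ (Pi.single x 1) y = φ (Quotient.mk'' (x, y)) := by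
  rw [T_apply, Finset.sum_eq_single x]
  · simp
  · intro b _ hb
    simp [Pi.single_eq_of_ne hb]
  · intro h
    exact absurd (Finset.mem_univ x) h

theorem T_injective : Function.Injective (T (G := G) (K := K) (Ω₁ := Ω₁) (Ω₂ := Ω₂)) := by
  classical
  intro φ ψ h
  ext q
  obtain ⟨⟨x, y⟩, rfl⟩ := Quotient.mk''_surjective q
  rw [← T_single φ x y, ← T_single ψ x y, h]

omit [Fintype Ω₁] in
theorem mk_smul_eq (g : G) (x : Ω₁) (y : Ω₂) :
    (Quotient.mk'' (g • x, g • y) : MulAction.orbitRel.Quotient G (Ω₁ × Ω₂)) = Quotient.mk'' (x, y) := by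
  apply Quotient.sound
  show (g • x, g • y) ∈ MulAction.orbit G (x, y)
  exact ⟨g, rfl⟩

theorem T_mem_invariants (φ : MulAction.orbitRel.Quotient G (Ω₁ × Ω₂) → K) :
    T φ ∈ ((Cfsg.permRep K G Ω₁).linHom (Cfsg.permRep K G Ω₂)).invariants := by
  rw [Representation.mem_invariants]
  intro g
  ext v y
  rw [Representation.linHom_apply]
  show T φ (fun x => v ((g⁻¹)⁻¹ • x)) (g⁻¹ • y) = T φ v y
  rw [T_apply, T_apply, inv_inv]
  -- reindex by x ↦ g⁻¹ • x
  rw [← Equiv.sum_comp (MulAction.toPerm g⁻¹ : Equiv.Perm Ω₁)]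
  refine Finset.sum_congr rfl fun x _ => ?_
  simp only [MulAction.toPerm_apply, smul_inv_smul]
  rw [mk_smul_eq]

theorem range_T : LinearMap.range (T (G := G) (K := K) (Ω₁ := Ω₁) (Ω₂ := Ω₂))
    = ((Cfsg.permRep K G Ω₁).linHom (Cfsg.permRep K G Ω₂)).invariants := by
  classical
  apply le_antisymm
  · rintro f ⟨φ, rfl⟩
    exact T_mem_invariants φ
  · intro f hf
    rw [Representation.mem_invariants] at hf
    have hM : ∀ (g : G) (x : Ω₁) (y : Ω₂), f (Pi.single (g • x) 1) (g • y) = f (Pi.single x 1) y := by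
      intro g x y
      have h1 := hf g⁻¹
      rw [Representation.linHom_apply] at h1
      have h2 := congrArg (fun F : (Ω₁ → K) →ₗ[K] (Ω₂ → K) => F (Pi.single x 1) y) h1
      simp only [LinearMap.comp_apply] at h2
      rw [← h2]
      show f (Pi.single (g • x) 1) (g • y) = f (fun z => (Pi.single x (1 : K) : Ω₁ → K) (((g⁻¹)⁻¹)⁻¹ • z)) ((g⁻¹)⁻¹ • y)
      rw [inv_inv, inv_inv]
      have hfun : (fun z => (Pi.single x (1 : K) : Ω₁ → K) (g⁻¹ • z)) = Pi.single (g • x) 1 := by
        funext z
        by_cases hz : z = g • x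
        · subst hz; simp
        · have : g⁻¹ • z ≠ x := fun h => hz (by rw [← h, smul_inv_smul])
          simp [Pi.single_eq_of_ne hz, Pi.single_eq_of_ne this]
      rw [hfun]
    refine ⟨fun q => Quotient.liftOn' q (fun p => f (Pi.single p.1 1) p.2) ?_, ?_⟩
    · rintro ⟨x, y⟩ ⟨x', y'⟩ ⟨g, hg⟩
      have hg' : (g • x', g • y') = (x, y) := hg
      rw [Prod.mk.injEq] at hg'
      show f (Pi.single x 1) y = f (Pi.single x' 1) y'
      rw [← hg'.1, ← hg'.2, hM]
    · apply LinearMap.pi_ext'
      intro x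
      ext y
      simp only [LinearMap.comp_apply, LinearMap.coe_single]
      rw [T_single]
      rfl

/-- The equivariant linear maps between the permutation modules of two finite `G`-sets form a space whose dimension is the number of `G`-orbits on the product of the two sets. -/
theorem result {G : Type*} [Group G] {K : Type*} [Field K] {Ω₁ Ω₂ : Type*} [Fintype Ω₁] [Fintype Ω₂] [MulAction G Ω₁] [MulAction G Ω₂] : Module.finrank K ((Cfsg.permRep K G Ω₁).linHom (Cfsg.permRep K G Ω₂)).invariants = Nat.card (MulAction.orbitRel.Quotient G (Ω₁ × Ω₂)) := by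
  classical
  rw [← range_T, LinearMap.finrank_range_of_inj T_injective]
  have : Finite (MulAction.orbitRel.Quotient G (Ω₁ × Ω₂)) := Quotient.finite _
  have _ := Fintype.ofFinite (MulAction.orbitRel.Quotient G (Ω₁ × Ω₂))
  rw [Module.finrank_fintype_fun_eq_card, Nat.card_eq_fintype_card]

end Cfsg.Agent.S0668
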