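import Cfsg.Statements.S0669
import Mathlib.Tactic

set_option autoImplicit false
open Cfsg

namespace Cfsg.Agent.S0669

open MulAction

theorem result {G : Type*} [Group G] {Ω : Type*} [Finite Ω] [MulAction G Ω] [MulAction.IsPretransitive G Ω] (a : Ω) : Nat.card (MulAction.orbitRel.Quotient G (Ω × Ω)) = Nat.card (MulAction.orbitRel.Quotient (MulAction.stabilizer G a) Ω) := by
  symm
  let φ : orbitRel.Quotient (stabilizer G a) Ω → orbitRel.Quotient G (Ω × Ω) :=
    Quotient.lift (fun b => (Quotient.mk'' (a, b) : orbitRel.Quotient G (Ω × Ω))) (by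
      intro b b' hbb'
      apply Quotient.sound'
      change (a, b) ∈ orbit G (a, b')
      have : b ∈ orbit (stabilizer G a) b' := hbb'
      obtain ⟨h, hh⟩ := this
      refine ⟨h.1, ?_⟩
      have h1 : (h : G) • b' = b := hh
      have h2 : (h : G) • a = a := h.2
      simp [Prod.smul_def, h1, h2])
  have hφ : ∀ b, φ (Quotient.mk'' b) = Quotient.mk'' (a, b) := fun b => rfl
  apply Nat.card_congr
  refine Equiv.ofBijective φ ⟨?_, ?_⟩
  · intro q q' hqq'
    induction q using Quotient.inductionOn' with | _ b =>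
    induction q' using Quotient.inductionOn' with | _ b' =>
    rw [hφ, hφ] at hqq'
    have := Quotient.exact' hqq'
    change (a, b) ∈ orbit G (a, b') at this
    obtain ⟨g, hg⟩ := this
    simp only [Prod.smul_def, Prod.mk.injEq] at hg
    apply Quotient.sound'
    change b ∈ orbit (stabilizer G a) b'
    exact ⟨⟨g, hg.1⟩, hg.2⟩
  · intro q
    induction q using Quotient.inductionOn' with | _ xy =>
    obtain ⟨x, y⟩ := xy
    obtain ⟨g, hg⟩ := exists_smul_eq G a x
    refine ⟨Quotient.mk'' (g⁻¹ • y), ?_⟩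
    rw [hφ]
    apply Quotient.sound'
    change (a, g⁻¹ • y) ∈ orbit G (x, y)
    refine ⟨g⁻¹, ?_⟩
    simp [Prod.smul_def, ← hg]

end Cfsg.Agent.S0669
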