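import Cfsg.Statements.S0670
import Mathlib
import Cfsg.Agent.Lib.Helper95_Perm

set_option autoImplicit false
open Cfsg

namespace Cfsg.Agent.S0670

/-- A finite `p`-group acting linearly in characteristic `p` on a space with a nonzero invariant
subspace has a nonzero fixed vector in that subspace. -/
lemma exists_fixed {p : ℕ} [Fact p.Prime] {P K V : Type*} [Group P] [Finite P] (hP : IsPGroup p P)
    [Field K] [CharP K p] [AddCommGroup V] [Module K V] (ρ : Representation K P V)
    (A : Submodule K V) (hA : ∀ g, ∀ v ∈ A, ρ g v ∈ A) (w : V) (hwA : w ∈ A) (hw : w ≠ 0) :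
    ∃ v ∈ A, v ≠ 0 ∧ ∀ g, ρ g v = v := by
  classical
  letI : Algebra (ZMod p) K := ZMod.algebra K p
  letI : Module (ZMod p) V := Module.compHom V (algebraMap (ZMod p) K)
  haveI : IsScalarTower (ZMod p) K V :=
    ⟨fun x y z => by rw [Algebra.smul_def, mul_smul]; rfl⟩
  let S : Set V := Set.range fun g : P => ρ g w
  have hSfin : S.Finite := Set.finite_range _
  let V₀ : Submodule (ZMod p) V := Submodule.span (ZMod p) S
  have hMF : Module.Finite (ZMod p) V₀ := Module.Finite.span_of_finite (ZMod p) hSfin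
  have hfin : Finite V₀ := Module.finite_of_finite (ZMod p)
  have hwV₀ : w ∈ V₀ := Submodule.subset_span ⟨1, by simp⟩
  have hV₀A : ∀ v ∈ V₀, v ∈ A := by
    have : V₀ ≤ A.restrictScalars (ZMod p) := by
      apply Submodule.span_le.mpr
      rintro _ ⟨g, rfl⟩
      exact hA g w hwA
    exact fun v hv => this hv
  have hinv : ∀ g, ∀ v ∈ V₀, ρ g v ∈ V₀ := by
    intro g v hv
    have h1 : (V₀.map ((ρ g).restrictScalars (ZMod p))) ≤ V₀ := by
      rw [Submodule.map_span]
      apply Submodule.span_mono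
      rintro _ ⟨_, ⟨h, rfl⟩, rfl⟩
      refine ⟨g * h, ?_⟩
      simp [map_mul]
    exact h1 ⟨v, hv, rfl⟩
  letI : MulAction P V₀ :=
    { smul := fun g v => ⟨ρ g v, hinv g v v.2⟩
      one_smul := by
        intro v
        apply Subtype.ext
        change ρ 1 (v : V) = v
        simp
      mul_smul := by
        intro g h v
        apply Subtype.ext
        change ρ (g * h) (v : V) = ρ g (ρ h v)
        simp [map_mul] }
  have hsmul : ∀ (g : P) (v : V₀), ((g • v : V₀) : V) = ρ g v := fun g v => rfl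
  have hcard : p ∣ Nat.card V₀ := by
    rw [Module.natCard_eq_pow_finrank (K := ZMod p) (V := V₀), Nat.card_zmod]
    have : Nontrivial V₀ := ⟨⟨⟨w, hwV₀⟩, 0, fun h => hw (congrArg Subtype.val h)⟩⟩
    have hpos : 0 < Module.finrank (ZMod p) V₀ := Module.finrank_pos
    exact dvd_pow_self p hpos.ne'
  have h0 : (0 : V₀) ∈ MulAction.fixedPoints P V₀ := by
    intro g
    apply Subtype.ext
    rw [hsmul]
    simp
  obtain ⟨b, hb, hne⟩ := hP.exists_fixed_point_of_prime_dvd_card_of_fixed_point V₀ hcard h0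
  refine ⟨b, hV₀A b b.2, ?_, ?_⟩
  · intro h
    apply hne
    apply Subtype.ext
    rw [h]; rfl
  · intro g
    have := hb g
    rw [← hsmul, this]

theorem result {G : Type*} [Group G] [Finite G] {K : Type*} [Field K] {p f : ℕ} [Fact p.Prime] [CharP K p] {Ω : Type*} [Fintype Ω] [MulAction G Ω] [MulAction.IsPretransitive G Ω] (hf : 1 ≤ f) (hcard : Fintype.card Ω = p ^ f) (W : Subrepresentation (Cfsg.permRep K G Ω)) (hW : W.toSubmodule ≠ ⊥) : (Cfsg.permConstants K G Ω).toSubmodule ≤ W.toSubmodule := by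
  classical
  obtain ⟨P⟩ : Nonempty (Sylow p G) := inferInstance
  obtain ⟨w, hwW, hw⟩ := Submodule.exists_mem_ne_zero_of_ne_bot hW
  let ρP : Representation K (P : Subgroup G) (Ω → K) :=
    (Cfsg.permRep K G Ω).comp (P : Subgroup G).subtype
  obtain ⟨v, hvW, hv0, hvfix⟩ := exists_fixed P.isPGroup' ρP W.toSubmodule
    (fun g v hv => W.apply_mem_toSubmodule (g : G) hv) w hwW hw
  -- transitivity of P
  have hcardΩ : Nat.card Ω = p ^ f := by rw [Nat.card_eq_fintype_card, hcard]
  have horb : ∀ x : Ω, MulAction.orbit (↥(P : Subgroup G)) x = Set.univ := by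
    intro x
    have h1 := Cfsg.Agent.Lib.Helper95_Perm.pow_factorization_dvd_ncard_orbit_sylow P x
    rw [hcardΩ, Nat.Prime.factorization_pow Fact.out] at h1
    simp only [Finsupp.single_eq_same] at h1
    rw [Set.eq_univ_iff_ncard, hcardΩ]
    have h2 : (MulAction.orbit (↥(P : Subgroup G)) x).ncard ≤ Nat.card Ω :=
      Set.ncard_le_card _
    rw [hcardΩ] at h2
    have h3 : 0 < (MulAction.orbit (↥(P : Subgroup G)) x).ncard := by
      rw [Set.ncard_pos]
      exact MulAction.nonempty_orbit x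
    exact le_antisymm h2 (Nat.le_of_dvd h3 h1)
  -- v is constant
  have hconst : ∀ x y : Ω, v x = v y := by
    intro x y
    have hy : y ∈ MulAction.orbit (↥(P : Subgroup G)) x := by rw [horb]; trivial
    obtain ⟨g, rfl⟩ := hy
    have := congrFun (hvfix g) (g • x)
    change v ((g : G)⁻¹ • (g • x)) = v (g • x) at this
    rw [← this]
    congr 1
    change x = (g : G)⁻¹ • ((g : G) • x)
    simp
  obtain ⟨x₀⟩ : Nonempty Ω := by
    rw [← Fintype.card_pos_iff, hcard]
    exact pow_pos (Nat.Prime.pos Fact.out) f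
  have hc : v x₀ ≠ 0 := by
    intro h
    apply hv0
    funext x
    rw [hconst x x₀, h]; rfl
  have hone : (fun _ : Ω => (1 : K)) = (v x₀)⁻¹ • v := by
    funext x
    simp only [Pi.smul_apply, smul_eq_mul]
    rw [hconst x x₀, inv_mul_cancel₀ hc]
  change Submodule.span K {fun _ => (1 : K)} ≤ W.toSubmodule
  rw [Submodule.span_le, Set.singleton_subset_iff, hone]
  exact W.toSubmodule.smul_mem _ hvW

end Cfsg.Agent.S0670
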