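import Cfsg.Statements.S0671
import Cfsg.Agent.S0670
import Mathlib.Tactic

set_option autoImplicit false
open Cfsg

namespace Cfsg.Agent.S0671

open MulAction

variable {G : Type*} [Group G] {K : Type*} [Field K] {Ω : Type*} [Fintype Ω] [MulAction G Ω]

/-- The operator `f ↦ (x ↦ ∑ y, M x y * f y - c x * f x)`. -/
noncomputable def Phi (M : Ω → Ω → K) (c : Ω → K) : (Ω → K) →ₗ[K] (Ω → K) where
  toFun f x := ∑ y, M x y * f y - c x * f x
  map_add' f₁ f₂ := by
    funext x
    simp only [Pi.add_apply, mul_add, Finset.sum_add_distrib]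
    ring
  map_smul' a f := by
    funext x
    simp only [Pi.smul_apply, smul_eq_mul, RingHom.id_apply]
    rw [mul_sub, Finset.mul_sum]
    congr 1
    · apply Finset.sum_congr rfl; intro y _; ring
    · ring

theorem Phi_apply (M : Ω → Ω → K) (c : Ω → K) (f : Ω → K) (x : Ω) :
    Phi M c f x = ∑ y, M x y * f y - c x * f x := rfl

/-- equivariance of `Phi` for invariant data -/
theorem Phi_comm (M : Ω → Ω → K) (c : Ω → K) (hM : ∀ (g : G) x y, M (g • x) (g • y) = M x y)
    (hc : ∀ (g : G) x, c (g • x) = c x) (g : G) (f : Ω → K) :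
    Phi M c (permRep K G Ω g f) = permRep K G Ω g (Phi M c f) := by
  funext x
  change ∑ y, M x y * f (g⁻¹ • y) - c x * f (g⁻¹ • x)
    = ∑ y, M (g⁻¹ • x) y * f y - c (g⁻¹ • x) * f (g⁻¹ • x)
  rw [hc]
  congr 1
  refine Fintype.sum_equiv (MulAction.toPerm g⁻¹) _ _ (fun y => ?_)
  change M x y * f (g⁻¹ • y) = M (g⁻¹ • x) (g⁻¹ • y) * f (g⁻¹ • y)
  rw [hM]

/-- with column sums on the diagonal, the image has coordinate sum zero -/
theorem sum_Phi (M : Ω → Ω → K) (f : Ω → K) :
    ∑ x, Phi M (fun x => ∑ z, M z x) f x = 0 := by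
  simp only [Phi_apply, Finset.sum_sub_distrib]
  rw [Finset.sum_comm]
  simp only [Finset.sum_mul]
  exact sub_self _

/-- adjointness -/
theorem Phi_adjoint (M : Ω → Ω → K) (c : Ω → K) (u w : Ω → K) :
    ∑ x, Phi M c u x * w x = ∑ x, u x * Phi (fun a b => M b a) c w x := by
  simp only [Phi_apply, sub_mul, mul_sub, Finset.sum_sub_distrib, Finset.sum_mul, Finset.mul_sum]
  congr 1
  · rw [Finset.sum_comm]
    apply Finset.sum_congr rfl; intro y _
    apply Finset.sum_congr rfl; intro x _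
    ring
  · apply Finset.sum_congr rfl; intro x _
    ring

/-- explicit non-vanishing -/
theorem Phi_single_sub [DecidableEq Ω] (M : Ω → Ω → K) (c : Ω → K) {x y y' : Ω} (hy : x ≠ y)
    (hy' : x ≠ y') (h1 : M x y = 1) (h0 : M x y' = 0) :
    Phi M c (Pi.single y 1 - Pi.single y' 1) x = 1 := by
  rw [Phi_apply]
  simp only [Pi.sub_apply, mul_sub, Finset.sum_sub_distrib, Pi.single_apply, mul_ite, mul_one,
    mul_zero, Finset.sum_ite_eq', Finset.mem_univ, if_true, h1, h0, if_neg hy, if_neg hy']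
  ring

theorem sum_permRep (g : G) (f : Ω → K) : ∑ x, permRep K G Ω g f x = ∑ x, f x :=
  Fintype.sum_equiv (MulAction.toPerm g⁻¹) _ _ (fun _ => rfl)

theorem result {G : Type*} [Group G] [Finite G] {K : Type*} [Field K] {p f : ℕ} [Fact p.Prime] [CharP K p] {Ω : Type*} [Fintype Ω] [MulAction G Ω] [MulAction.IsPretransitive G Ω] (hf : 1 ≤ f) (hcard : Fintype.card Ω = p ^ f) (h : ∀ W W' : Subrepresentation (Cfsg.permRep K G Ω), (Cfsg.permConstants K G Ω).toSubmodule ≤ W.toSubmodule → W.toSubmodule < W'.toSubmodule → W'.toSubmodule ≤ (Cfsg.permSumZero K G Ω).toSubmodule → ∃ g : G, ∃ v ∈ W'.toSubmodule, Cfsg.permRep K G Ω g v - v ∉ W.toSubmodule) : MulAction.IsMultiplyPretransitive G Ω 2 := by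
  classical
  by_contra h2
  rw [is_two_pretransitive_iff] at h2
  push Not at h2
  obtain ⟨a, b, x0, y1, hab, hx0y1, hno⟩ := h2
  obtain ⟨g0, hg0⟩ := exists_smul_eq G a x0
  set y0 := g0 • b with hy0
  have hx0y0 : x0 ≠ y0 := by
    intro hh
    apply hab
    rw [← hg0, hy0] at hh
    exact smul_left_cancel g0 hh
  have hno' : ∀ g : G, ¬ (g • x0 = x0 ∧ g • y0 = y1) := by
    rintro g ⟨h1, h2⟩
    exact hno (g * g0) (by rw [mul_smul, hg0, h1]) (by rw [mul_smul, h2])
  -- the orbital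
  let R : Ω → Ω → Prop := fun x y => ∃ g : G, g • x0 = x ∧ g • y0 = y
  have hR : ∀ (g : G) x y, R (g • x) (g • y) ↔ R x y := by
    intro g x y
    constructor
    · rintro ⟨k, hk1, hk2⟩
      refine ⟨g⁻¹ * k, ?_, ?_⟩
      · rw [mul_smul, hk1, inv_smul_smul]
      · rw [mul_smul, hk2, inv_smul_smul]
    · rintro ⟨k, hk1, hk2⟩
      exact ⟨g * k, by rw [mul_smul, hk1], by rw [mul_smul, hk2]⟩
  let M : Ω → Ω → K := fun x y => if R x y then 1 else 0
  have hM : ∀ (g : G) x y, M (g • x) (g • y) = M x y := by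
    intro g x y
    simp only [M, hR]
  let c : Ω → K := fun x => ∑ z, M z x
  have hc : ∀ (g : G) x, c (g • x) = c x := by
    intro g x
    change ∑ z, M z (g • x) = ∑ z, M z x
    symm
    refine Fintype.sum_equiv (MulAction.toPerm g) _ _ (fun z => ?_)
    change M z x = M (g • z) (g • x)
    rw [hM]
  have hM1 : M x0 y0 = 1 := by
    have : R x0 y0 := ⟨1, one_smul _ _, one_smul _ _⟩
    simp only [M, if_pos this]
  have hM0 : M x0 y1 = 0 := by
    have : ¬ R x0 y1 := fun ⟨g, hg⟩ => hno' g hg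
    simp only [M, if_neg this]
  obtain ⟨g1, hg1⟩ := exists_smul_eq G y1 y0
  set z := g1 • x0 with hz
  have hMz : M z y0 = 0 := by
    have : ¬ R z y0 := by
      rw [hz, ← hg1, hR]
      exact fun ⟨g, hg⟩ => hno' g hg
    simp only [M, if_neg this]
  have hy0z : y0 ≠ z := by
    intro hh
    rw [hz, ← hg1] at hh
    exact hx0y1 (smul_left_cancel g1 hh).symm
  set φ := Phi M c with hφ
  set ψ := Phi (fun a b => M b a) c with hψ
  have hφcomm : ∀ (g : G) (v : Ω → K), φ (permRep K G Ω g v) = permRep K G Ω g (φ v) :=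
    fun g v => Phi_comm M c hM hc g v
  have hψcomm : ∀ (g : G) (v : Ω → K), ψ (permRep K G Ω g v) = permRep K G Ω g (ψ v) :=
    fun g v => Phi_comm (fun a b => M b a) c (fun g x y => hM g y x) hc g v
  -- the subrepresentations
  let W' : Subrepresentation (permRep K G Ω) :=
    ⟨LinearMap.range φ, fun g v hv => by
      obtain ⟨u, rfl⟩ := hv
      exact ⟨permRep K G Ω g u, hφcomm g u⟩⟩
  let W : Subrepresentation (permRep K G Ω) :=
    ⟨(permSumZero K G Ω).toSubmodule.map φ, fun g v hv => by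
      obtain ⟨u, hu, rfl⟩ := hv
      exact ⟨permRep K G Ω g u, (permSumZero K G Ω).apply_mem_toSubmodule g hu, hφcomm g u⟩⟩
  let Wψ : Subrepresentation (permRep K G Ω) :=
    ⟨LinearMap.range ψ, fun g v hv => by
      obtain ⟨u, rfl⟩ := hv
      exact ⟨permRep K G Ω g u, hψcomm g u⟩⟩
  have hmemS : ∀ v : Ω → K, v ∈ (permSumZero K G Ω).toSubmodule ↔ ∑ x, v x = 0 :=
    fun v => Iff.rfl
  -- W ≠ ⊥
  have hs : (Pi.single y0 1 - Pi.single y1 1 : Ω → K) ∈ (permSumZero K G Ω).toSubmodule := by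
    rw [hmemS]
    simp [Finset.sum_sub_distrib]
  have hWne : W.toSubmodule ≠ ⊥ := by
    intro hbot
    have hmem : φ (Pi.single y0 1 - Pi.single y1 1) ∈ W.toSubmodule := ⟨_, hs, rfl⟩
    rw [hbot, Submodule.mem_bot] at hmem
    have h1 := Phi_single_sub M c hx0y0 hx0y1 hM1 hM0
    rw [← hφ, hmem] at h1
    exact zero_ne_one h1
  have hWψne : Wψ.toSubmodule ≠ ⊥ := by
    intro hbot
    have hmem : ψ (Pi.single x0 1 - Pi.single z 1) ∈ Wψ.toSubmodule := ⟨_, rfl⟩
    rw [hbot, Submodule.mem_bot] at hmem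
    have h1 := Phi_single_sub (fun a b => M b a) c hx0y0.symm hy0z hM1 hMz
    rw [← hψ, hmem] at h1
    exact zero_ne_one h1
  have hCW := Cfsg.Agent.S0670.result (G := G) (K := K) hf hcard W hWne
  have hCWψ := Cfsg.Agent.S0670.result (G := G) (K := K) hf hcard Wψ hWψne
  have hWW' : W.toSubmodule ≤ W'.toSubmodule := LinearMap.map_le_range
  have hW'S : W'.toSubmodule ≤ (permSumZero K G Ω).toSubmodule := by
    rintro _ ⟨u, rfl⟩
    rw [hmemS]
    exact sum_Phi M u
  have hne : W.toSubmodule ≠ W'.toSubmodule := by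
    intro heq
    have hmem : φ (Pi.single x0 1) ∈ W.toSubmodule := by
      rw [heq]; exact ⟨_, rfl⟩
    obtain ⟨s, hsS, hsφ⟩ := hmem
    replace hsS : ∑ x, s x = 0 := hsS
    have hone : (fun _ : Ω => (1 : K)) ∈ Wψ.toSubmodule :=
      hCWψ (Submodule.mem_span_singleton_self _)
    obtain ⟨w, hw⟩ := hone
    have hu : φ (Pi.single x0 1 - s) = 0 := by
      rw [map_sub, hsφ, sub_self]
    have h1 : ∑ x, (Pi.single x0 1 - s : Ω → K) x = 1 := by
      simp [Finset.sum_sub_distrib, hsS]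
    have h2 : ∑ x, (Pi.single x0 1 - s : Ω → K) x * ψ w x = 0 := by
      rw [hψ, ← Phi_adjoint, ← hφ, hu]
      simp
    rw [hw] at h2
    simp only [mul_one] at h2
    rw [h1] at h2
    exact one_ne_zero h2
  obtain ⟨g, v, hv, hnot⟩ := h W W' hCW (lt_of_le_of_ne hWW' hne) hW'S
  apply hnot
  obtain ⟨u, rfl⟩ := hv
  refine ⟨permRep K G Ω g u - u, ?_, ?_⟩
  · change ∑ x, (permRep K G Ω g u - u) x = 0
    simp only [Pi.sub_apply, Finset.sum_sub_distrib]
    rw [sum_permRep, sub_self]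
  · rw [map_sub, hφcomm]

end Cfsg.Agent.S0671
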