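import Cfsg.Statements.S0672
import Mathlib

set_option autoImplicit false
open Cfsg
open scoped Pointwise

namespace Cfsg.Agent.S0672

section Kernel

variable {G : Type*} [Group G] {K : Type*} [Field K] {Ω : Type*} [Fintype Ω] [DecidableEq Ω]
  [MulAction G Ω]

/-- the operator attached to a kernel `c` -/
noncomputable def kerOp (c : Ω → Set.powersetCard Ω 2 → K) :
    (Ω → K) →ₗ[K] (Set.powersetCard Ω 2 → K) where
  toFun f P := ∑ x, c x P * f x
  map_add' f g := by
    funext P
    simp only [Pi.add_apply, mul_add, Finset.sum_add_distrib]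
  map_smul' a f := by
    funext P
    simp only [Pi.smul_apply, smul_eq_mul, RingHom.id_apply, Finset.mul_sum]
    apply Finset.sum_congr rfl
    intro x _
    ring

theorem kerOp_apply (c : Ω → Set.powersetCard Ω 2 → K) (f : Ω → K) (P : Set.powersetCard Ω 2) :
    kerOp c f P = ∑ x, c x P * f x := rfl

theorem kerOp_equivariant (c : Ω → Set.powersetCard Ω 2 → K)
    (hc : ∀ (h : G) (x : Ω) (P : Set.powersetCard Ω 2), c (h • x) (h • P) = c x P)
    (h : G) (f : Ω → K) :
    kerOp c (Cfsg.permRep K G Ω h f) =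
      Cfsg.permRep K G (Set.powersetCard Ω 2) h (kerOp c f) := by
  funext P
  show ∑ x, c x P * f (h⁻¹ • x) = ∑ x, c x (h⁻¹ • P) * f x
  rw [← Equiv.sum_comp (MulAction.toPerm h) (fun x => c x P * f (h⁻¹ • x))]
  apply Finset.sum_congr rfl
  intro y _
  show c (h • y) P * f (h⁻¹ • h • y) = c y (h⁻¹ • P) * f y
  rw [inv_smul_smul]
  congr 1
  have := hc h y (h⁻¹ • P)
  rwa [smul_inv_smul] at this

/-- the intertwining map on the sum-zero functions attached to an invariant kernel -/
noncomputable def kerInt (c : Ω → Set.powersetCard Ω 2 → K)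
    (hc : ∀ (h : G) (x : Ω) (P : Set.powersetCard Ω 2), c (h • x) (h • P) = c x P) :
    Representation.IntertwiningMap (Cfsg.permSumZero K G Ω).toRepresentation
      (Cfsg.permRep K G (Set.powersetCard Ω 2)) :=
  LinearMap.intertwiningMap_of_isIntertwiningMap _ _
    ((kerOp c).comp (Cfsg.permSumZero K G Ω).toSubmodule.subtype)
    (fun g v => kerOp_equivariant c hc g (v : Ω → K))

theorem kerInt_apply (c : Ω → Set.powersetCard Ω 2 → K)
    (hc : ∀ (h : G) (x : Ω) (P : Set.powersetCard Ω 2), c (h • x) (h • P) = c x P)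
    (v : (Cfsg.permSumZero K G Ω).toSubmodule) (P : Set.powersetCard Ω 2) :
    kerInt c hc v P = ∑ x, c x P * (v : Ω → K) x := rfl

theorem exists_coeffs (d1 d2 : K) :
    ∃ c1 c2 : K, (c1 ≠ 0 ∨ c2 ≠ 0) ∧ c1 * d1 + c2 * d2 = 0 := by
  by_cases h1 : d1 = 0
  · exact ⟨1, 0, Or.inl one_ne_zero, by rw [h1]; ring⟩
  · exact ⟨d2, -d1, Or.inr (neg_ne_zero.mpr h1), by ring⟩

end Kernel

section Main

variable {G : Type*} [Group G] {K : Type*} [Field K] {Ω : Type*} [Fintype Ω] [DecidableEq Ω]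
  [MulAction G Ω]

/-- the setwise stabiliser of a pair is transitive on the remaining points -/
theorem setwise_transitive (h2 : MulAction.IsMultiplyPretransitive G Ω 2)
    (h : ∀ f : Representation.IntertwiningMap (Cfsg.permSumZero K G Ω).toRepresentation
      (Cfsg.permRep K G (Set.powersetCard Ω 2)),
      (∀ v : (Cfsg.permSumZero K G Ω).toSubmodule,
        (v : Ω → K) ∈ (Cfsg.permConstants K G Ω).toSubmodule → f v = 0) → f = 0)
    {a b : Ω} (hab : a ≠ b) {c₀ d₀ : Ω} (hca : c₀ ≠ a) (hcb : c₀ ≠ b) (hda : d₀ ≠ a)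
    (hdb : d₀ ≠ b) :
    ∃ s : G, s • (({a, b} : Finset Ω)) = {a, b} ∧ s • c₀ = d₀ := by
  classical
  by_contra hno
  push Not at hno
  have hpt : MulAction.IsPretransitive G (Set.powersetCard Ω 2) :=
    Set.powersetCard.isPretransitive_of_isMultiplyPretransitive G h2
  set P₀ : Set.powersetCard Ω 2 :=
    ⟨{a, b}, by rw [Set.powersetCard.mem_iff]; exact Finset.card_pair hab⟩ with hP₀
  have hstab : ∀ s : G, s • P₀ = P₀ ↔ s • ({a, b} : Finset Ω) = {a, b} := by
    intro s
    rw [← Subtype.coe_inj, Set.powersetCard.coe_smul]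
  have hinP : ∀ s : G, s • P₀ = P₀ → ∀ x : Ω,
      (s • x ∈ ({a, b} : Finset Ω) ↔ x ∈ ({a, b} : Finset Ω)) := by
    intro s hs x
    have := (hstab s).mp hs
    conv_lhs => rw [← this]
    exact Finset.smul_mem_smul_finset_iff s
  let Δ : Set Ω := {x | ∃ s : G, s • P₀ = P₀ ∧ s • c₀ = x}
  have hΔinv : ∀ s : G, s • P₀ = P₀ → ∀ x, (s • x ∈ Δ ↔ x ∈ Δ) := by
    intro s hs x
    constructor
    · rintro ⟨t, ht, htx⟩
      refine ⟨s⁻¹ * t, ?_, ?_⟩
      · rw [mul_smul, ht, inv_smul_eq_iff, hs]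
      · rw [mul_smul, htx, inv_smul_smul]
    · rintro ⟨t, ht, rfl⟩
      exact ⟨s * t, by rw [mul_smul, ht, hs], by rw [mul_smul]⟩
  have hcΔ : c₀ ∈ Δ := ⟨1, one_smul _ _, one_smul _ _⟩
  have hdΔ : d₀ ∉ Δ := by
    rintro ⟨s, hs, hsd⟩
    exact hno s ((hstab s).mp hs) hsd
  let ind1 : Ω → K := fun x => if x ∉ ({a, b} : Finset Ω) ∧ x ∈ Δ then 1 else 0
  let ind2 : Ω → K := fun x => if x ∉ ({a, b} : Finset Ω) ∧ x ∉ Δ then 1 else 0
  obtain ⟨c1, c2, hc12, hsum⟩ := exists_coeffs (∑ x, ind1 x) (∑ x, ind2 x)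
  let γ : Ω → K := fun x => c1 * ind1 x + c2 * ind2 x
  have hγsum : ∑ x, γ x = 0 := by
    simp only [γ, Finset.sum_add_distrib, ← Finset.mul_sum]
    exact hsum
  have hγinv : ∀ s : G, s • P₀ = P₀ → ∀ x, γ (s • x) = γ x := by
    intro s hs x
    simp only [γ, ind1, ind2, hinP s hs x, hΔinv s hs x]
  have hγa : γ a = 0 := by
    have ha : a ∈ ({a, b} : Finset Ω) := by simp
    show c1 * (if a ∉ ({a, b} : Finset Ω) ∧ a ∈ Δ then 1 else 0) +
      c2 * (if a ∉ ({a, b} : Finset Ω) ∧ a ∉ Δ then 1 else 0) = 0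
    rw [if_neg (fun h => h.1 ha), if_neg (fun h => h.1 ha)]
    ring
  have hγc : γ c₀ = c1 := by
    have hc : c₀ ∉ ({a, b} : Finset Ω) := by simp [hca, hcb]
    show c1 * (if c₀ ∉ ({a, b} : Finset Ω) ∧ c₀ ∈ Δ then 1 else 0) +
      c2 * (if c₀ ∉ ({a, b} : Finset Ω) ∧ c₀ ∉ Δ then 1 else 0) = c1
    rw [if_pos ⟨hc, hcΔ⟩, if_neg (fun h => h.2 hcΔ)]
    ring
  have hγd : γ d₀ = c2 := by
    have hd : d₀ ∉ ({a, b} : Finset Ω) := by simp [hda, hdb]
    show c1 * (if d₀ ∉ ({a, b} : Finset Ω) ∧ d₀ ∈ Δ then 1 else 0) +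
      c2 * (if d₀ ∉ ({a, b} : Finset Ω) ∧ d₀ ∉ Δ then 1 else 0) = c2
    rw [if_neg (fun h => hdΔ h.2), if_pos ⟨hd, hdΔ⟩]
    ring
  -- the kernel
  let gOf : Set.powersetCard Ω 2 → G := fun P =>
    Classical.choose (MulAction.exists_smul_eq G P₀ P)
  have hgOf : ∀ P, gOf P • P₀ = P := fun P =>
    Classical.choose_spec (MulAction.exists_smul_eq G P₀ P)
  let c : Ω → Set.powersetCard Ω 2 → K := fun x P => γ ((gOf P)⁻¹ • x)
  have hcinv : ∀ (h : G) (x : Ω) (P : Set.powersetCard Ω 2), c (h • x) (h • P) = c x P := by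
    intro h x P
    show γ ((gOf (h • P))⁻¹ • h • x) = γ ((gOf P)⁻¹ • x)
    have hs : ((gOf (h • P))⁻¹ * h * gOf P) • P₀ = P₀ := by
      rw [mul_smul, mul_smul, hgOf P, inv_smul_eq_iff, hgOf]
    have := hγinv _ hs ((gOf P)⁻¹ • x)
    rw [← this]
    congr 1
    rw [mul_smul, mul_smul, smul_inv_smul]
  have hF := h (kerInt c hcinv) (by
    intro v hv
    obtain ⟨k, hk⟩ := Submodule.mem_span_singleton.mp hv
    funext P
    rw [kerInt_apply, ← hk]
    show ∑ x, γ ((gOf P)⁻¹ • x) * (k • (fun _ => (1:K))) x = 0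
    simp only [Pi.smul_apply, smul_eq_mul, mul_one]
    have hre : ∑ i, γ ((gOf P)⁻¹ • i) = ∑ i, γ i :=
      Equiv.sum_comp (MulAction.toPerm (gOf P)⁻¹) γ
    rw [← Finset.sum_mul, hre, hγsum, zero_mul])
  have hg₀ : ∀ x, γ ((gOf P₀)⁻¹ • x) = γ x := by
    intro x
    apply hγinv
    rw [inv_smul_eq_iff, hgOf]
  have htest : ∀ y : Ω, γ y - γ a = 0 := by
    intro y
    have hv : (Pi.single y (1:K) - Pi.single a (1:K) : Ω → K) ∈
        (Cfsg.permSumZero K G Ω).toSubmodule := by
      show ∑ x, (Pi.single y (1:K) - Pi.single a (1:K) : Ω → K) x = 0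
      simp [Finset.sum_sub_distrib, Finset.sum_pi_single']
    have h1 : kerInt c hcinv ⟨_, hv⟩ P₀ = 0 := by rw [hF]; rfl
    rw [kerInt_apply] at h1
    simp only [Pi.sub_apply, mul_sub, Finset.sum_sub_distrib, c] at h1
    rw [Finset.sum_eq_single y (by
        intro x _ hx; rw [Pi.single_eq_of_ne hx, mul_zero]) (by
        intro hy; exact absurd (Finset.mem_univ _) hy),
      Finset.sum_eq_single a (by
        intro x _ hx; rw [Pi.single_eq_of_ne hx, mul_zero]) (by
        intro hy; exact absurd (Finset.mem_univ _) hy)] at h1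
    simpa [hg₀] using h1
  have h1 := htest c₀
  have h2' := htest d₀
  rw [hγa, sub_zero, hγc] at h1
  rw [hγa, sub_zero, hγd] at h2'
  rcases hc12 with h | h
  · exact h h1
  · exact h h2'

end Main

/-- Let a finite group act faithfully and doubly transitively with point stabilisers of even order, and let `K` have characteristic `p` dividing the degree. If the heart of the permutation module admits no non-zero equivariant map to the permutation module on unordered pairs (phrased: every intertwining map from the sum-zero functions vanishing on the constants is zero), the action is triply transitive. -/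
theorem result {G : Type*} [Group G] [Finite G] {K : Type*} [Field K] {p : ℕ} [Fact p.Prime] [CharP K p] {Ω : Type*} [Fintype Ω] [DecidableEq Ω] [MulAction G Ω] [FaithfulSMul G Ω] (h2 : MulAction.IsMultiplyPretransitive G Ω 2) (hp : p ∣ Fintype.card Ω) (heven : ∀ a : Ω, Even (Nat.card (MulAction.stabilizer G a))) (h : ∀ f : Representation.IntertwiningMap (Cfsg.permSumZero K G Ω).toRepresentation (Cfsg.permRep K G (Set.powersetCard Ω 2)), (∀ v : (Cfsg.permSumZero K G Ω).toSubmodule, (v : Ω → K) ∈ (Cfsg.permConstants K G Ω).toSubmodule → f v = 0) → f = 0) : MulAction.IsMultiplyPretransitive G Ω 3 := by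
  classical
  have h2' : ∀ a b c d : Ω, a ≠ b → c ≠ d → ∃ g : G, g • a = c ∧ g • b = d :=
    fun a b c d hab hcd => MulAction.is_two_pretransitive_iff.mp h2 hab hcd
  have hQ : ∀ a b : Ω, a ≠ b → ∀ c d : Ω, c ≠ a → c ≠ b → d ≠ a → d ≠ b →
      ∃ g : G, g • a = a ∧ g • b = b ∧ g • c = d := by
    intro a b hab c d hca hcb hda hdb
    have hfs : ∀ s : G, s • ({a, b} : Finset Ω) = {a, b} →
        (s • a = a ∧ s • b = b) ∨ (s • a = b ∧ s • b = a) := by
      intro s hs
      have ha : s • a ∈ ({a, b} : Finset Ω) := by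
        rw [← hs]; exact Finset.smul_mem_smul_finset (by simp)
      have hb : s • b ∈ ({a, b} : Finset Ω) := by
        rw [← hs]; exact Finset.smul_mem_smul_finset (by simp)
      simp only [Finset.mem_insert, Finset.mem_singleton] at ha hb
      have hne : s • a ≠ s • b := fun h => hab (smul_left_cancel s h)
      rcases ha with ha | ha <;> rcases hb with hb | hb
      · exact absurd (ha.trans hb.symm) hne
      · exact Or.inl ⟨ha, hb⟩
      · exact Or.inr ⟨ha, hb⟩
      · exact absurd (ha.trans hb.symm) hne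
    -- an element swapping `a`, `b` and fixing a further point
    obtain ⟨u, hua, hub, e, hea, heb, hue⟩ : ∃ u : G, u • a = b ∧ u • b = a ∧
        ∃ e : Ω, e ≠ a ∧ e ≠ b ∧ u • e = e := by
      obtain ⟨t, ht⟩ := exists_prime_orderOf_dvd_card' (G := MulAction.stabilizer G a) 2
        (even_iff_two_dvd.mp (heven a))
      have htt : (t : G) * (t : G) = 1 := by
        have h1 : t * t = 1 := by rw [← pow_two, ← ht]; exact pow_orderOf_eq_one t
        have := congrArg (fun x : MulAction.stabilizer G a => (x : G)) h1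
        simpa using this
      have ht1 : (t : G) ≠ 1 := by
        intro h1
        have : t = 1 := Subtype.ext h1
        rw [this, orderOf_one] at ht
        omega
      obtain ⟨c', hc'⟩ : ∃ c' : Ω, (t : G) • c' ≠ c' := by
        by_contra hall
        push Not at hall
        apply ht1
        apply FaithfulSMul.eq_of_smul_eq_smul (α := Ω)
        intro x
        rw [hall, one_smul]
      have htd' : (t : G) • ((t : G) • c') = c' := by rw [← mul_smul, htt, one_smul]
      have hta : (t : G) • a = a := t.2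
      have hac' : a ≠ c' := by rintro rfl; exact hc' hta
      have had' : a ≠ (t : G) • c' := by
        intro h
        apply hac'
        have := congrArg (fun x => (t : G) • x) h
        simp only [hta, htd'] at this
        exact this
      obtain ⟨g, hg1, hg2⟩ := h2' c' ((t : G) • c') a b (Ne.symm hc') hab
      refine ⟨g * (t : G) * g⁻¹, ?_, ?_, g • a, ?_, ?_, ?_⟩
      · rw [mul_smul, mul_smul, inv_smul_eq_iff.mpr hg1.symm, hg2]
      · rw [mul_smul, mul_smul, inv_smul_eq_iff.mpr hg2.symm, htd', hg1]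
      · intro h
        exact hac' (smul_left_cancel g (h.trans hg1.symm))
      · intro h
        exact had' (smul_left_cancel g (h.trans hg2.symm))
      · rw [mul_smul, mul_smul, inv_smul_smul, hta]
    obtain ⟨s1, hs1, hs1e⟩ := setwise_transitive h2 h hab hea heb hca hcb
    obtain ⟨s2, hs2, hs2e⟩ := setwise_transitive h2 h hab hea heb hda hdb
    have hadj : ∀ s : G, s • ({a, b} : Finset Ω) = {a, b} →
        ∃ s' : G, s' • a = a ∧ s' • b = b ∧ s' • e = s • e := by
      intro s hs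
      rcases hfs s hs with ⟨h1, h2⟩ | ⟨h1, h2⟩
      · exact ⟨s, h1, h2, rfl⟩
      · refine ⟨s * u, ?_, ?_, ?_⟩
        · rw [mul_smul, hua, h2]
        · rw [mul_smul, hub, h1]
        · rw [mul_smul, hue]
    obtain ⟨t1, ht1a, ht1b, ht1e⟩ := hadj s1 hs1
    obtain ⟨t2, ht2a, ht2b, ht2e⟩ := hadj s2 hs2
    refine ⟨t2 * t1⁻¹, ?_, ?_, ?_⟩
    · rw [mul_smul, inv_smul_eq_iff.mpr ht1a.symm, ht2a]
    · rw [mul_smul, inv_smul_eq_iff.mpr ht1b.symm, ht2b]
    · rw [mul_smul, inv_smul_eq_iff.mpr (hs1e.symm.trans ht1e.symm), ht2e, hs2e]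
  show MulAction.IsPretransitive G (Fin 3 ↪ Ω)
  refine ⟨fun x y => ?_⟩
  have hx : ∀ i j : Fin 3, i ≠ j → x i ≠ x j := fun i j hij h => hij (x.injective h)
  have hy : ∀ i j : Fin 3, i ≠ j → y i ≠ y j := fun i j hij h => hij (y.injective h)
  obtain ⟨g1, hg10, hg11⟩ := h2' _ _ _ _ (hx 0 1 (by decide)) (hy 0 1 (by decide))
  obtain ⟨g2, hg20, hg21, hg22⟩ := hQ (y 0) (y 1) (hy 0 1 (by decide)) (g1 • x 2) (y 2)
    (by rw [← hg10]; intro h; exact hx 2 0 (by decide) (smul_left_cancel g1 h))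
    (by rw [← hg11]; intro h; exact hx 2 1 (by decide) (smul_left_cancel g1 h))
    (hy 2 0 (by decide)) (hy 2 1 (by decide))
  refine ⟨g2 * g1, ?_⟩
  ext i
  rw [Function.Embedding.smul_apply]
  fin_cases i
  · show (g2 * g1) • x 0 = y 0
    rw [mul_smul, hg10, hg20]
  · show (g2 * g1) • x 1 = y 1
    rw [mul_smul, hg11, hg21]
  · show (g2 * g1) • x 2 = y 2
    rw [mul_smul, hg22]

end Cfsg.Agent.S0672
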