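import Cfsg.Statements.S0674
import Cfsg.Agent.S0673
import Cfsg.Agent.Lib.Helper12_PrimeDeg
import Mathlib

set_option autoImplicit false
open Cfsg

namespace Cfsg.Agent.S0674

open Cfsg.Agent.S0673 Cfsg.Agent.Lib.Helper12_PrimeDeg

/-- Let `G` be a non-solvable transitive permutation group of prime degree `p` and `K` a field of characteristic `p`. Then the heart of the permutation module is irreducible: an invariant subspace containing the constants and contained in the sum-zero functions is one or the other. -/
theorem result {α : Type*} [Fintype α] [DecidableEq α] {p : ℕ} [Fact p.Prime] (hα : Fintype.card α = p) (G : Subgroup (Equiv.Perm α)) [MulAction.IsPretransitive G α] (hG : ¬ Group.IsSolvable G) {K : Type*} [Field K] [CharP K p] (W : Subrepresentation (Cfsg.permRep K G α)) (h₁ : (Cfsg.permConstants K G α).toSubmodule ≤ W.toSubmodule) (h₂ : W.toSubmodule ≤ (Cfsg.permSumZero K G α).toSubmodule) : W = Cfsg.permConstants K G α ∨ W = Cfsg.permSumZero K G α := by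
  classical
  have hpp := (Fact.out : p.Prime)
  obtain ⟨e, he⟩ := exists_labelling hα G
  set G' : Subgroup (Equiv.Perm (ZMod p)) :=
    G.map (e.permCongrHom : Equiv.Perm α →* Equiv.Perm (ZMod p)) with hG'
  -- the transported subspace
  let L : (α → K) ≃ₗ[K] (ZMod p → K) := LinearEquiv.funCongrLeft K K e.symm
  have hL : ∀ f : α → K, ∀ k : ZMod p, L f k = f (e.symm k) := fun f k => rfl
  set W' : Submodule K (ZMod p → K) := W.toSubmodule.map (L : (α → K) →ₗ[K] (ZMod p → K)) with hW'
  have hWinv : ∀ g ∈ G, ∀ f ∈ W.toSubmodule, (fun x => f (g x)) ∈ W.toSubmodule := by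
    intro g hg f hf
    have := W.apply_mem_toSubmodule (⟨g, hg⟩⁻¹ : G) hf
    have h2 : (Cfsg.permRep K G α (⟨g, hg⟩⁻¹ : G)) f = fun x => f (g x) := by
      funext x
      show f (((⟨g, hg⟩⁻¹ : G)⁻¹ : G) • x) = f (g x)
      rw [inv_inv]
      rfl
    rw [h2] at this
    exact this
  have hW'inv : ∀ g' ∈ G', ∀ f' ∈ W', (fun x => f' (g' x)) ∈ W' := by
    intro g' hg' f' hf'
    obtain ⟨g, hg, rfl⟩ := Subgroup.mem_map.mp hg'
    obtain ⟨f, hf, rfl⟩ := Submodule.mem_map.mp hf'
    refine Submodule.mem_map.mpr ⟨fun x => f (g x), hWinv g hg f hf, ?_⟩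
    funext k
    show f (g (e.symm k)) = f (e.symm (e (g (e.symm k))))
    rw [Equiv.symm_apply_apply]
  have hW'trans : ∀ f ∈ W', (fun j => f (j - 1)) ∈ W' := by
    intro f hf
    have := hW'inv _ (G'.inv_mem he) f hf
    simp only [addRight_inv_apply] at this
    exact this
  obtain ⟨r, hrp, hrank, hmem⟩ := Cfsg.Agent.S0673.result W' hW'trans
  have hW'eq : W' = polyFun p K r := Submodule.ext (fun f => (hmem f).trans mem_polyFun.symm)
  have hrankW : Module.finrank K W.toSubmodule = r := by
    rw [← hrank, hW']
    exact (LinearEquiv.finrank_map_eq L W.toSubmodule).symm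
  have hne : Nonempty α := by
    rw [← Fintype.card_pos_iff, hα]; exact hpp.pos
  obtain ⟨a₀⟩ := hne
  have hfinV : Module.finrank K (α → K) = p := by
    rw [Module.finrank_fintype_fun_eq_card, hα]
  -- the constants are non-zero
  have hconst1 : 1 ≤ Module.finrank K (Cfsg.permConstants K G α).toSubmodule := by
    rw [Submodule.one_le_finrank_iff]
    intro h
    have h1 : (fun _ : α => (1 : K)) ∈ (Cfsg.permConstants K G α).toSubmodule :=
      Submodule.subset_span rfl
    rw [h, Submodule.mem_bot] at h1
    have := congrFun h1 a₀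
    simp at this
  -- the sum-zero functions are a proper subspace
  have hsz : Module.finrank K (Cfsg.permSumZero K G α).toSubmodule < p := by
    rw [← hfinV]
    apply Submodule.finrank_lt
    intro h
    have h1 : (Pi.single a₀ (1 : K) : α → K) ∈ (Cfsg.permSumZero K G α).toSubmodule := by
      rw [h]; trivial
    have h2 : ∑ x, (Pi.single a₀ (1 : K) : α → K) x = 0 := h1
    rw [Finset.sum_pi_single' a₀ (1 : K) Finset.univ, if_pos (Finset.mem_univ _)] at h2
    exact one_ne_zero h2
  have hr1 : 1 ≤ r := by
    rw [← hrankW]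
    exact hconst1.trans (Submodule.finrank_mono h₁)
  have hrlt : r < p := by
    rw [← hrankW]
    exact lt_of_le_of_lt (Submodule.finrank_mono h₂) hsz
  rcases Nat.eq_or_lt_of_le hr1 with h1 | h1
  · -- r = 1
    left
    apply Subrepresentation.toSubmodule_injective
    symm
    apply Submodule.eq_of_le_of_finrank_le h₁
    rw [hrankW, ← h1]
    exact hconst1
  rcases Nat.eq_or_lt_of_le (Nat.le_sub_one_of_lt hrlt) with h2 | h2
  · -- r = p - 1
    right
    apply Subrepresentation.toSubmodule_injective
    apply Submodule.eq_of_le_of_finrank_le h₂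
    rw [hrankW, h2]
    omega
  · -- 2 ≤ r ≤ p - 2: `G` is affine, hence solvable
    exfalso
    apply hG
    have haff : G' ≤ Cfsg.affineGroup (ZMod p) :=
      affine_of_invariant (K := K) G' he (r := r) (by omega) (by omega)
        (fun g hg f hf => by rw [← hW'eq] at hf ⊢; exact hW'inv g hg f hf)
    have hsolv : Group.IsSolvable G' := isSolvable_of_le_affineGroup G' haff
    exact Group.isSolvable_of_isSolvable_injective
      (f := ((e.permCongrHom : Equiv.Perm α →* Equiv.Perm (ZMod p)).subgroupMap G))
      (by
        intro x y hxy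
        apply Subtype.ext
        have := congrArg Subtype.val hxy
        exact e.permCongrHom.injective this)

end Cfsg.Agent.S0674
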