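import Cfsg.Statements.S0675
import Cfsg.Agent.Lib.Helper12_PrimeDeg
import Cfsg.Agent.Lib.Helper12_PrimeDeg2
import Mathlib

set_option autoImplicit false
open Cfsg

namespace Cfsg.Agent.S0675

open Cfsg.Agent.Lib.Helper12_PrimeDeg

/-- Burnside's Theorem on permutation groups of prime degree: a transitive permutation group of prime degree that is not solvable is doubly transitive. -/
theorem result {α : Type*} [Fintype α] [DecidableEq α] (hα : (Fintype.card α).Prime) (G : Subgroup (Equiv.Perm α)) [MulAction.IsPretransitive G α] : Group.IsSolvable G ∨ MulAction.IsMultiplyPretransitive G α 2 := by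
  classical
  have : Fact (Fintype.card α).Prime := ⟨hα⟩
  obtain ⟨e, he⟩ := exists_labelling (p := Fintype.card α) rfl G
  set G' : Subgroup (Equiv.Perm (ZMod (Fintype.card α))) :=
    G.map (e.permCongrHom : Equiv.Perm α →* Equiv.Perm (ZMod (Fintype.card α))) with hG'
  by_cases h2 : ∀ a b c d : ZMod (Fintype.card α), a ≠ b → c ≠ d → ∃ g ∈ G', g a = c ∧ g b = d
  · right
    rw [MulAction.is_two_pretransitive_iff]
    intro a b c d hab hcd
    obtain ⟨g', hg', h1, h2⟩ := h2 (e a) (e b) (e c) (e d)
      (fun h => hab (e.injective h)) (fun h => hcd (e.injective h))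
    obtain ⟨g, hg, rfl⟩ := Subgroup.mem_map.mp hg'
    refine ⟨⟨g, hg⟩, ?_, ?_⟩
    · apply e.injective
      have : e (g (e.symm (e a))) = e c := h1
      rw [Equiv.symm_apply_apply] at this
      exact this
    · apply e.injective
      have : e (g (e.symm (e b))) = e d := h2
      rw [Equiv.symm_apply_apply] at this
      exact this
  · left
    have haff : G' ≤ Cfsg.affineGroup (ZMod (Fintype.card α)) :=
      affine_of_not_two_transitive G' he h2
    have hsolv : Group.IsSolvable G' := isSolvable_of_le_affineGroup G' haff
    exact Group.isSolvable_of_isSolvable_injective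
      (f := ((e.permCongrHom : Equiv.Perm α →* Equiv.Perm (ZMod (Fintype.card α))).subgroupMap G))
      (by
        intro x y hxy
        apply Subtype.ext
        have := congrArg Subtype.val hxy
        exact e.permCongrHom.injective this)

end Cfsg.Agent.S0675
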