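import Cfsg.Statements.S0678
import Cfsg.Agent.Lib.Helper12_PrimeDeg
import Cfsg.Agent.Lib.Helper12_PrimeDeg2
import Cfsg.Agent.Lib.Helper12_PrimeDeg3
import Cfsg.Agent.Lib.Helper12_PrimeDeg4
import Cfsg.Agent.Lib.Helper12_PrimeDeg6
import Mathlib

set_option autoImplicit false
open Cfsg

namespace Cfsg.Agent.S0678

open Cfsg.Agent.Lib.Helper12_PrimeDeg

instance fact_prime_seven : Fact (Nat.Prime 7) := ⟨by norm_num⟩

theorem sign_refl7 : ∀ b : ZMod 7, Equiv.Perm.sign (Equiv.subLeft b) = -1 := by decide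

theorem sign_tau7 : Equiv.Perm.sign (Equiv.addRight (1 : ZMod 7)) = 1 := by decide

theorem card_eq_stab_mul {G : Type*} [Group G] {X : Type*} [MulAction G X] (x : X) :
    Nat.card G = Nat.card (MulAction.stabilizer G x) * (MulAction.orbit G x).ncard := by
  rw [← MulAction.index_stabilizer, Subgroup.card_mul_index]

theorem arith (j m n : ℕ) (hj : j ∣ 120) (h3 : ¬ 3 ∣ j) (hm : m ∣ 6) (h : 6 * j = m * n)
    (hn : n % 7 = 1) (hm1 : m ≠ 1) (hm2 : m ≠ 2) (hE : 2 ∣ m → 5 ∣ j) : j = 4 := by
  have hmle : m ≤ 6 := Nat.le_of_dvd (by norm_num) hm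
  have hjle : j ≤ 120 := Nat.le_of_dvd (by norm_num) hj
  have hm36 : m = 3 ∨ m = 6 := by
    interval_cases m <;> omega
  rcases hm36 with rfl | rfl
  · interval_cases j <;> omega
  · have h5 : 5 ∣ j := hE (by norm_num)
    interval_cases j <;> omega

/-- the order of a non-affine group of degree 7 containing the translation and not containing
the alternating group -/
theorem card_eq_168 (H : Subgroup (Equiv.Perm (ZMod 7)))
    (hτ : Equiv.addRight (1 : ZMod 7) ∈ H)
    (hnaff : ¬ H ≤ Cfsg.affineGroup (ZMod 7)) (hA : ¬ alternatingGroup (ZMod 7) ≤ H) :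
    Nat.card H = 168 := by
  classical
  have h2t : ∀ a b c d : ZMod 7, a ≠ b → c ≠ d → ∃ g ∈ H, g a = c ∧ g b = d := by
    by_contra h
    exact hnaff (affine_of_not_two_transitive H hτ h)
  have hprim := isPreprimitive_of_translation H hτ
  have htrans := isPretransitive_of_translation H hτ
  -- stabiliser chain
  set H0 : Subgroup H := MulAction.stabilizer H (0 : ZMod 7) with hH0
  set H01 : Subgroup H0 := MulAction.stabilizer H0 (1 : ZMod 7) with hH01
  have hc0 : Nat.card H = Nat.card H0 * 7 := by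
    rw [card_eq_stab_mul (G := H) (0 : ZMod 7), MulAction.orbit_eq_univ, Set.ncard_univ,
      Nat.card_eq_fintype_card (α := ZMod 7), ZMod.card]
  have horb1 : MulAction.orbit H0 (1 : ZMod 7) = {x | x ≠ 0} := by
    ext x
    constructor
    · rintro ⟨g, rfl⟩
      intro h0
      have hg0 : g • (0 : ZMod 7) = 0 := g.2
      have h1 : g • (1 : ZMod 7) = g • (0 : ZMod 7) := h0.trans hg0.symm
      exact one_ne_zero (smul_left_cancel g h1)
    · intro hx
      obtain ⟨g, hg, g0, g1⟩ := h2t 0 1 0 x zero_ne_one (Ne.symm hx)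
      exact ⟨⟨⟨g, hg⟩, g0⟩, g1⟩
  have hc1 : Nat.card H0 = Nat.card H01 * 6 := by
    rw [card_eq_stab_mul (G := H0) (1 : ZMod 7), horb1]
    congr 1
    rw [Set.ncard_eq_toFinset_card']
    decide
  set j := Nat.card H01 with hj
  have hjpos : 0 < j := Nat.card_pos
  have hH42 : Nat.card H = 42 * j := by rw [hc0, hc1]; ring
  have hj120 : j ∣ 120 := by
    have := card_dvd_factorial H
    rw [hH42, show Nat.factorial 7 = 42 * 120 by decide] at this
    exact Nat.dvd_of_mul_dvd_mul_left (by norm_num) this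
  -- no element of order 3 in the two-point stabiliser
  have h3j : ¬ 3 ∣ j := by
    intro h3
    obtain ⟨g, hg⟩ := exists_prime_orderOf_dvd_card' 3 h3
    set σ : Equiv.Perm (ZMod 7) := (((g : H0) : H) : Equiv.Perm (ZMod 7)) with hσ
    have hσo : orderOf σ = 3 := by
      rw [hσ, Subgroup.orderOf_coe, Subgroup.orderOf_coe, Subgroup.orderOf_coe]; exact hg
    have hσ0 : σ 0 = 0 := (g : H0).2
    have hσ1 : σ 1 = 1 := g.2
    have hsupp : σ.support.card ≤ 5 := by
      have hsub : σ.support ⊆ (Finset.univ.erase (0 : ZMod 7)).erase 1 := by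
        intro x hx
        rw [Equiv.Perm.mem_support] at hx
        rw [Finset.mem_erase, Finset.mem_erase]
        refine ⟨?_, ?_, Finset.mem_univ _⟩
        · rintro rfl; exact hx hσ1
        · rintro rfl; exact hx hσ0
      exact (Finset.card_le_card hsub).trans (by decide)
    obtain ⟨n, hn⟩ := Equiv.Perm.cycleType_prime_order (σ := σ) (by rw [hσo]; norm_num)
    have hsum := Equiv.Perm.sum_cycleType σ
    rw [hn, hσo, Multiset.sum_replicate, smul_eq_mul] at hsum
    have h3c : σ.IsThreeCycle := by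
      apply card_support_eq_three_iff.mp
      omega
    exact hA (Equiv.Perm.alternatingGroup_le_of_isPreprimitive_of_isThreeCycle_mem hprim h3c
      ((g : H0) : H).2)
  -- the affine part and Sylow counting
  obtain ⟨m, hm6, hNcard, hpow, hrefl⟩ := exists_multiplier_order H hτ
  obtain ⟨n, hn7, hHn⟩ := sylow_count H hτ
  have hm6' : m ∣ 6 := hm6
  have h6j : 6 * j = m * n := by
    have h1 : 42 * j = 7 * m * n := by rw [← hH42, hHn, hNcard]
    have h2 : 7 * (6 * j) = 7 * (m * n) := by rw [← mul_assoc 7 m n, ← h1]; ring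
    exact Nat.eq_of_mul_eq_mul_left (by norm_num) h2
  have hm1 : m ≠ 1 := by
    rintro rfl
    have := card_eq_of_affine_eq_translation H hτ
      (fun g hg a b hab => by simpa using hpow g hg a b hab)
    rw [hH42] at this
    omega
  have hm2 : m ≠ 2 := by
    rintro rfl
    set K : Subgroup (Equiv.Perm (ZMod 7)) := H ⊓ alternatingGroup (ZMod 7) with hK
    have hτK : Equiv.addRight (1 : ZMod 7) ∈ K :=
      ⟨hτ, Equiv.Perm.mem_alternatingGroup.mpr sign_tau7⟩
    have hKcard := card_eq_of_affine_eq_translation K hτK (by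
      intro g hg a b hab
      have ha2 := hpow g hg.1 a b hab
      have : a = 1 ∨ a = -1 := by
        apply mul_self_eq_one_iff.mp
        rw [← pow_two]; exact ha2
      rcases this with h | h
      · exact h
      · exfalso
        have hg_eq : g = Equiv.subLeft b := by
          ext x
          rw [hab, h, Equiv.subLeft_apply]
          ring
        have hs : Equiv.Perm.sign g = 1 := Equiv.Perm.mem_alternatingGroup.mp hg.2
        rw [hg_eq, sign_refl7] at hs
        exact absurd hs (by decide))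
    have hidx : (alternatingGroup (ZMod 7)).relIndex H ∣ 2 := by
      have := Subgroup.relIndex_dvd_index_of_normal (alternatingGroup (ZMod 7)) H
      rwa [alternatingGroup.index_eq_two] at this
    have hcard : Nat.card ((alternatingGroup (ZMod 7)).subgroupOf H) *
        (alternatingGroup (ZMod 7)).relIndex H = Nat.card H := Subgroup.card_mul_index _
    have hKeq : Nat.card ((alternatingGroup (ZMod 7)).subgroupOf H) = Nat.card K := by
      rw [← Subgroup.inf_subgroupOf_right, hK, inf_comm]
      exact Nat.card_congr (Subgroup.subgroupOfEquivOfLe inf_le_left).toEquiv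
    have hle2 := Nat.le_of_dvd (by norm_num) hidx
    rw [hKeq, hKcard, hH42] at hcard
    omega
  have hE : 2 ∣ m → 5 ∣ j := by
    intro h2m
    obtain ⟨t, ht, b₀, htx⟩ := hrefl h2m
    have hcore := three_transitive_core H hτ hnaff t ht b₀ htx
    set H012 : Subgroup H01 := MulAction.stabilizer H01 (2 : ZMod 7) with hH012
    have horb2 : MulAction.orbit H01 (2 : ZMod 7) = {x | x ≠ 0 ∧ x ≠ 1} := by
      ext x
      constructor
      · rintro ⟨g, rfl⟩
        have hg0 : g • (0 : ZMod 7) = 0 := (g : H0).2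
        have hg1 : g • (1 : ZMod 7) = 1 := g.2
        constructor
        · intro h0
          have h1 : g • (2 : ZMod 7) = g • (0 : ZMod 7) := h0.trans hg0.symm
          exact absurd (smul_left_cancel g h1) (by decide)
        · intro h0
          have h1 : g • (2 : ZMod 7) = g • (1 : ZMod 7) := h0.trans hg1.symm
          exact absurd (smul_left_cancel g h1) (by decide)
      · rintro ⟨hx0, hx1⟩
        obtain ⟨g, hg, g0, g1, g2⟩ := hcore 0 1 2 0 1 x (by decide) (by decide) (by decide)
          (by decide) (Ne.symm hx0) (Ne.symm hx1)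
        exact ⟨⟨⟨⟨g, hg⟩, g0⟩, g1⟩, g2⟩
    have h5 : j = Nat.card H012 * 5 := by
      rw [hj, card_eq_stab_mul (G := H01) (2 : ZMod 7), horb2]
      congr 1
      rw [Set.ncard_eq_toFinset_card']
      decide
    exact Dvd.intro_left _ h5.symm
  have hj4 := arith j m n hj120 h3j hm6' h6j hn7 hm1 hm2 hE
  rw [hH42, hj4]

/-- simplicity -/
theorem isSimple_core (H : Subgroup (Equiv.Perm (ZMod 7)))
    (hτ : Equiv.addRight (1 : ZMod 7) ∈ H)
    (hnaff : ¬ H ≤ Cfsg.affineGroup (ZMod 7)) (hA : ¬ alternatingGroup (ZMod 7) ≤ H) :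
    IsSimpleGroup H := by
  classical
  have h168 := card_eq_168 H hτ hnaff hA
  have hnt : Nontrivial H := Finite.one_lt_card_iff_nontrivial.mp (by rw [h168]; norm_num)
  have hprim := isPreprimitive_of_translation H hτ
  refine ⟨fun K hKn => ?_⟩
  by_cases hbot : K = ⊥
  · exact Or.inl hbot
  right
  -- `K` is transitive
  have hKt : MulAction.IsPretransitive K (ZMod 7) := by
    apply MulAction.IsQuasiPreprimitive.isPretransitive_of_normal
    intro hfix
    apply hbot
    rw [Subgroup.eq_bot_iff_forall]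
    intro g hg
    apply Subtype.ext
    ext x
    have hx : x ∈ MulAction.fixedPoints K (ZMod 7) := by rw [hfix]; trivial
    exact hx ⟨g, hg⟩
  have h7K : 7 ∣ Nat.card K := by
    have h1 : (MulAction.stabilizer K (0 : ZMod 7)).index = Nat.card (ZMod 7) :=
      MulAction.index_stabilizer_of_transitive K 0
    rw [Nat.card_eq_fintype_card, ZMod.card] at h1
    have h2 := Subgroup.index_dvd_card (MulAction.stabilizer K (0 : ZMod 7))
    rwa [h1] at h2
  obtain ⟨g, hg⟩ := exists_prime_orderOf_dvd_card' 7 h7K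
  -- the translation lies in `K`
  obtain ⟨P, hP⟩ := exists_sylow_eq_zpowers H hτ
  have hgH : orderOf (g : H) = 7 := by rw [Subgroup.orderOf_coe]; exact hg
  have hz : IsPGroup 7 (Subgroup.zpowers (g : H)) :=
    IsPGroup.of_card (n := 1) (by rw [Nat.card_zpowers, hgH, pow_one])
  obtain ⟨Q, hQ⟩ := hz.exists_le_sylow
  obtain ⟨h, hh⟩ := MulAction.exists_smul_eq H P Q
  have hgQ : (g : H) ∈ (Q : Subgroup H) := hQ (Subgroup.mem_zpowers _)
  rw [← hh, Sylow.coe_subgroup_smul, Subgroup.mem_smul_pointwise_iff_exists] at hgQ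
  obtain ⟨s, hs, hsg⟩ := hgQ
  rw [MulAut.smul_def, MulAut.conj_apply] at hsg
  have hs1 : s ≠ 1 := by
    rintro rfl
    rw [mul_one, mul_inv_cancel] at hsg
    rw [← hsg, orderOf_one] at hgH
    omega
  have hPcard : Nat.card (P : Subgroup H) = 7 := by rw [hP, card_zpowers_tau]
  have hτP : (⟨Equiv.addRight 1, hτ⟩ : H) ∈ (P : Subgroup H) := by
    rw [hP]; exact Subgroup.mem_zpowers _
  have hmem : (⟨⟨Equiv.addRight 1, hτ⟩, hτP⟩ : (P : Subgroup H)) ∈
      Subgroup.zpowers (⟨s, hs⟩ : (P : Subgroup H)) :=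
    mem_zpowers_of_prime_card hPcard (by
      intro h1; apply hs1; exact congrArg Subtype.val h1)
  obtain ⟨k, hk⟩ := Subgroup.mem_zpowers_iff.mp hmem
  have hk' : s ^ k = ⟨Equiv.addRight 1, hτ⟩ := by
    have := congrArg Subtype.val hk
    simpa using this
  have hτK : (⟨Equiv.addRight 1, hτ⟩ : H) ∈ K := by
    have hsK : s ∈ K := by
      have : s = h⁻¹ * (g : H) * h⁻¹⁻¹ := by rw [← hsg]; group
      rw [this]
      exact hKn.conj_mem _ g.2 _
    rw [← hk']
    exact K.zpow_mem hsK k
  set K' : Subgroup (Equiv.Perm (ZMod 7)) := K.map H.subtype with hK'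
  have hτK' : Equiv.addRight (1 : ZMod 7) ∈ K' := Subgroup.mem_map.mpr ⟨_, hτK, rfl⟩
  have hK'H : K' ≤ H := Subgroup.map_subtype_le K
  have hK'naff : ¬ K' ≤ Cfsg.affineGroup (ZMod 7) := by
    intro haff
    apply hnaff
    intro σ hσ
    have h1 : (⟨σ, hσ⟩ : H) * ⟨Equiv.addRight 1, hτ⟩ * (⟨σ, hσ⟩ : H)⁻¹ ∈ K :=
      hKn.conj_mem _ hτK _
    have h2 : σ * Equiv.addRight 1 * σ⁻¹ ∈ K' := Subgroup.mem_map.mpr ⟨_, h1, rfl⟩
    have h3 := haff h2
    set u : Cfsg.affineGroup (ZMod 7) := ⟨_, h3⟩ with hu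
    have hu7 : u ^ 7 = 1 := by
      apply Subtype.ext
      rw [Subgroup.coe_pow, Subgroup.coe_one]
      show (σ * Equiv.addRight 1 * σ⁻¹) ^ 7 = 1
      rw [conj_pow, addRight_pow_p (p := 7)]
      group
    have hc7 : (coefHom (ZMod 7) u) ^ 7 = 1 := by rw [← map_pow, hu7, map_one]
    have hc6 : (coefHom (ZMod 7) u) ^ 6 = 1 := by
      have h6 : Nat.card (ZMod 7)ˣ = 6 := by
        rw [Nat.card_eq_fintype_card, ZMod.card_units]
      rw [← h6]; exact pow_card_eq_one'
    have hc1 : coefHom (ZMod 7) u = 1 := by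
      have := pow_succ (coefHom (ZMod 7) u) 6
      rw [hc7, hc6, one_mul] at this
      exact this.symm
    obtain ⟨b, hb⟩ := coefHom_spec u
    rw [hc1] at hb
    have hconj : σ * Equiv.addRight 1 * σ⁻¹ = Equiv.addRight b := by
      ext x
      have := hb x
      rw [Units.val_one, one_mul] at this
      rw [Equiv.coe_addRight]
      exact this
    have haffσ := affine_of_normalizes σ b hconj
    have hb0 : b ≠ 0 := by
      rintro rfl
      have h1 := haffσ 1
      rw [zero_mul, zero_add] at h1
      exact one_ne_zero (σ.injective h1)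
    exact mem_affineGroup.mpr ⟨Units.mk0 b hb0, σ 0, fun x => by
      rw [Units.val_mk0]; exact haffσ x⟩
  have hK'A : ¬ alternatingGroup (ZMod 7) ≤ K' := fun h => hA (h.trans hK'H)
  have hK'168 := card_eq_168 K' hτK' hK'naff hK'A
  apply Subgroup.eq_top_of_card_eq
  rw [h168, ← hK'168, hK']
  exact (Subgroup.card_map_of_injective H.subtype_injective).symm

/-- A non-solvable transitive permutation group on 7 points that does not contain the alternating group is a simple group of order 168. -/
theorem result {α : Type*} [Fintype α] [DecidableEq α] (hα : Fintype.card α = 7) (G : Subgroup (Equiv.Perm α)) [MulAction.IsPretransitive G α] (hG : ¬ Group.IsSolvable G) (hA : ¬ alternatingGroup α ≤ G) : Nat.card G = 168 ∧ IsSimpleGroup G := by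
  classical
  have hpp : Nat.Prime 7 := by norm_num
  have hne : Nonempty α := by
    rw [← Fintype.card_pos_iff, hα]; norm_num
  obtain ⟨a₀⟩ := hne
  have hdvd : 7 ∣ Nat.card G := by
    have h1 : (MulAction.stabilizer G a₀).index = Nat.card α :=
      MulAction.index_stabilizer_of_transitive G a₀
    rw [Nat.card_eq_fintype_card, hα] at h1
    have h2 := Subgroup.index_dvd_card (MulAction.stabilizer G a₀)
    rwa [h1] at h2
  obtain ⟨c, hc⟩ := exists_prime_orderOf_dvd_card' (G := G) 7 hdvd
  have hc' : orderOf ((c : G) : Equiv.Perm α) = 7 := by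
    rw [Subgroup.orderOf_coe]; exact hc
  obtain ⟨e, he⟩ := exists_labelling_of_orderOf hα ((c : G) : Equiv.Perm α) hc'
  set Φ : Equiv.Perm α →* Equiv.Perm (ZMod 7) :=
    (e.permCongrHom : Equiv.Perm α →* Equiv.Perm (ZMod 7)) with hΦ
  have hΦinj : Function.Injective Φ := e.permCongrHom.injective
  set G' : Subgroup (Equiv.Perm (ZMod 7)) := G.map Φ with hG'
  have hτ : Equiv.addRight (1 : ZMod 7) ∈ G' := Subgroup.mem_map.mpr ⟨_, c.2, he⟩
  have hnaff : ¬ G' ≤ Cfsg.affineGroup (ZMod 7) := by
    intro haff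
    apply hG
    have hsolv : Group.IsSolvable G' := isSolvable_of_le_affineGroup G' haff
    exact Group.isSolvable_of_isSolvable_injective (f := (Φ.subgroupMap G))
      (by
        intro x y hxy
        apply Subtype.ext
        have := congrArg Subtype.val hxy
        exact hΦinj this)
  have hA' : ¬ alternatingGroup (ZMod 7) ≤ G' := by
    intro hle
    apply hA
    intro σ hσ
    have hs : Equiv.Perm.sign σ = 1 := Equiv.Perm.mem_alternatingGroup.mp hσ
    have hs' : Equiv.Perm.sign (Φ σ) = 1 := by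
      show Equiv.Perm.sign (e.permCongr σ) = 1
      rw [Equiv.Perm.sign_permCongr]; exact hs
    have hmem : Φ σ ∈ G' := hle (Equiv.Perm.mem_alternatingGroup.mpr hs')
    obtain ⟨g, hg, hgσ⟩ := Subgroup.mem_map.mp hmem
    rw [← hΦinj hgσ]
    exact hg
  have h168 := card_eq_168 G' hτ hnaff hA'
  have hsimple := isSimple_core G' hτ hnaff hA'
  let E : G ≃* G' := G.equivMapOfInjective Φ hΦinj
  refine ⟨?_, E.isSimpleGroup⟩
  rw [Nat.card_congr E.toEquiv, h168]

end Cfsg.Agent.S0678
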