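import Cfsg.Statements.S0680
import Cfsg.Agent.Lib.Helper12_Sharp2

set_option autoImplicit false
open Cfsg

namespace Cfsg.Agent.S0680

open Cfsg.Agent.Lib.Helper12_Sharp2 MulAction

theorem result {α : Type*} [Fintype α] [DecidableEq α] (G : Subgroup (Equiv.Perm α)) [MulAction.IsMultiplyPretransitive G α 2] (hsharp : ∀ x : Fin 2 ↪ α, MulAction.stabilizer G x = ⊥) (h2 : 2 ≤ Fintype.card α) : ∃ p j : ℕ, p.Prime ∧ 1 ≤ j ∧ Fintype.card α = p ^ j ∧ ∀ (hp : Fact p.Prime) (P : Sylow p G), (P : Subgroup G).Normal ∧ IsMulCommutative (P : Subgroup G) ∧ (∀ x ∈ (P : Subgroup G), x ^ p = 1) ∧ MulAction.IsPretransitive (P : Subgroup G) α ∧ (∀ a : α, MulAction.stabilizer (P : Subgroup G) a = ⊥) ∧ ∀ g : G, g ∈ (P : Subgroup G) ↔ g = 1 ∨ ∀ a : α, g • a ≠ a := by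
  classical
  have h2t : IsMultiplyPretransitive G α 2 := inferInstance
  obtain ⟨N, p, j, hpp, hj, hcard, hmem, hnormal, hcomm, hexp, hcardN⟩ :=
    exists_regular_normal h2t hsharp h2
  refine ⟨p, j, hpp, hj, hcard, ?_⟩
  intro hp P
  have hG := card_group h2t hsharp h2
  have htr : IsPretransitive G α := isPretransitive_of_is_two_pretransitive
  have hn0 : 0 < Fintype.card α := by omega
  -- P ≤ N
  have hPN : (P : Subgroup G) ≤ N := by
    intro g hg
    rw [hmem]
    by_contra hcon
    push Not at hcon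
    obtain ⟨hg1, hnf⟩ := hcon
    unfold Fpf at hnf
    push Not at hnf
    obtain ⟨a, ha⟩ := hnf
    have hgH : g ∈ stabilizer G a := ha
    have hH : Nat.card (stabilizer G a) = Fintype.card α - 1 := by
      have h1 := Subgroup.card_mul_index (stabilizer G a)
      rw [index_stabilizer_of_transitive, Nat.card_eq_fintype_card (α := α), hG, mul_comm] at h1
      exact Nat.eq_of_mul_eq_mul_left hn0 h1
    have hdvd : orderOf g ∣ Fintype.card α - 1 := by
      rw [← hH]; exact Subgroup.orderOf_dvd_natCard _ hgH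
    obtain ⟨k, hk⟩ := (IsPGroup.iff_orderOf.mp P.isPGroup') ⟨g, hg⟩
    rw [Subgroup.orderOf_mk] at hk
    rcases Nat.eq_zero_or_pos k with hk0 | hkpos
    · rw [hk0, pow_zero, orderOf_eq_one_iff] at hk
      exact hg1 hk
    · have hpd : p ∣ Fintype.card α - 1 := by
        refine dvd_trans ?_ hdvd
        rw [hk]
        exact dvd_pow_self p (by omega)
      have hpn : p ∣ Fintype.card α := by
        rw [hcard]; exact dvd_pow_self p (by omega)
      have : p ∣ 1 := by
        have h3 : Fintype.card α = (Fintype.card α - 1) + 1 := by omega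
        rw [h3] at hpn
        exact (Nat.dvd_add_right hpd).mp hpn
      exact hpp.one_lt.ne' (Nat.dvd_one.mp this)
  have hpgN : IsPGroup p N := IsPGroup.of_card (hcardN.trans hcard)
  have hPeq : (P : Subgroup G) = N := (P.is_maximal' hpgN hPN).symm
  rw [hPeq]
  have hsemi : ∀ g ∈ N, ∀ a : α, g • a = a → g = 1 := by
    intro g hg a ha
    rcases (hmem g).mp hg with h | h
    · exact h
    · exact absurd ha (h a)
  refine ⟨hnormal, ⟨⟨fun a b => Subtype.ext (hcomm a a.2 b b.2)⟩⟩, hexp, ?_, ?_, hmem⟩
  · -- transitive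
    constructor
    intro a b
    have hinj : Function.Injective (fun g : N => g • a) := by
      intro g h hgh
      have hgh' : g • a = h • a := hgh
      have : (h⁻¹ * g : N) • a = a := by
        rw [mul_smul, hgh', inv_smul_smul]
      have := hsemi _ (h⁻¹ * g).2 a this
      have h4 : h⁻¹ * g = 1 := Subtype.ext this
      have := congrArg (fun y => h * y) h4
      simpa using this
    have hbij := hinj.bijective_of_nat_card_le (by
      rw [hcardN, Nat.card_eq_fintype_card])
    exact hbij.2 b
  · intro a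
    rw [Subgroup.eq_bot_iff_forall]
    intro g hg
    exact Subtype.ext (hsemi g.1 g.2 a hg)

end Cfsg.Agent.S0680
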