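import Cfsg.Statements.S0681
import Cfsg.Agent.Lib.Helper12_NearField

set_option autoImplicit false
open Cfsg

namespace Cfsg.Agent.S0681

open Cfsg.Agent.Lib.Helper12_NearField MulAction

theorem result {F : Type*} [Cfsg.NearField F] : ∃ H : Subgroup (Equiv.Perm F), (∀ σ : Equiv.Perm F, σ ∈ H ↔ ∃ a b : F, a ≠ 0 ∧ ∀ x : F, σ x = x * a + b) ∧ MulAction.IsMultiplyPretransitive H F 2 ∧ ∀ x : Fin 2 ↪ F, MulAction.stabilizer H x = ⊥ := by
  refine ⟨affGroup F, fun σ => mem_affGroup σ, ?_, ?_⟩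
  · rw [is_two_pretransitive_iff]
    intro a b c d hab hcd
    obtain ⟨σ, hσ, h1, h2⟩ := exists_affPerm hab hcd
    exact ⟨⟨σ, hσ⟩, h1, h2⟩
  · intro x
    rw [Subgroup.eq_bot_iff_forall]
    intro g hg
    rw [mem_stabilizer_iff] at hg
    have h0 : (g : Equiv.Perm F) (x 0) = x 0 := by
      have := congrArg (fun y : Fin 2 ↪ F => y 0) hg
      exact this
    have h1 : (g : Equiv.Perm F) (x 1) = x 1 := by
      have := congrArg (fun y : Fin 2 ↪ F => y 1) hg
      exact this
    have hne : x 0 ≠ x 1 := fun h => by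
      have := x.injective h
      exact absurd this (by decide)
    exact Subtype.ext (eq_one_of_fix_two g.2 hne h0 h1)

end Cfsg.Agent.S0681
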