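import Cfsg.Statements.S0691
-- import your own Cfsg.Agent.* helpers here

set_option autoImplicit false
open Cfsg

namespace Cfsg.Agent.S0691

section helpers

/-- 2 × 2 matrices over the field with 5 elements. -/
abbrev Mat := Matrix (Fin 2) (Fin 2) (ZMod 5)

def ma : Mat := !![2, 0; 0, -2]
def mb : Mat := !![0, -1; 1, 0]
def mc : Mat := !![1, 2; 1, -2]

def gen : Fin 3 → Mat
  | 0 => ma
  | 1 => mb
  | 2 => mc

/-- Product of generators along a word. -/
def ev : List (Fin 3) → Mat
  | [] => 1
  | i :: l => gen i * ev l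

def W : List (List (Fin 3)) :=
  [[], [0], [1], [2], [0,0], [1,0], [2,0], [0,1], [2,1], [1,2], [2,2], [0,0,0], [1,0,0], [2,0,0],
   [1,2,0], [2,2,0], [2,0,1], [2,2,1], [0,1,2], [2,1,2], [2,2,0,0], [2,1,2,0], [2,2,0,1], [2,0,1,2]]

/-- The 24 matrices of the group. -/
def S : List Mat := W.map ev

set_option maxRecDepth 100000 in
theorem S_closed : ∀ M ∈ S, ∀ i : Fin 3, gen i * M ∈ S := by
  decide +kernel

set_option maxRecDepth 100000 in
theorem S_nodup : S.Nodup := by
  decide +kernel

theorem S_length : S.length = 24 := rfl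

theorem one_mem_S : (1 : Mat) ∈ S := by
  have : ev [] ∈ S := List.mem_map.mpr ⟨[], by decide, rfl⟩
  exact this

set_option maxRecDepth 100000 in
theorem S_regular : ∀ v : Fin 2 → ZMod 5, v ≠ 0 →
    ((S.map (fun M => M.mulVec v)).Nodup ∧ ∀ M ∈ S, M.mulVec v ≠ 0) := by
  have : ∀ x y : ZMod 5, (x ≠ 0 ∨ y ≠ 0) →
      ((S.map (fun M => M.mulVec ![x, y])).Nodup ∧ ∀ M ∈ S, M.mulVec ![x, y] ≠ 0) := by
    decide +kernel
  intro v hv
  have hv' : v = ![v 0, v 1] := by
    ext i; fin_cases i <;> rfl
  rw [hv']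
  apply this
  by_contra h
  push Not at h
  apply hv
  rw [hv', h.1, h.2]
  ext i; fin_cases i <;> rfl

/-- The number of non-zero vectors. -/
theorem card_nonzero : (Finset.univ.filter (fun u : Fin 2 → ZMod 5 => u ≠ 0)).card = 24 := by
  decide +kernel

/-- For `v ≠ 0`, every non-zero `w` is `M v` for a unique `M` in `S`. -/
theorem S_existsUnique (v w : Fin 2 → ZMod 5) (hv : v ≠ 0) (hw : w ≠ 0) :
    ∃ M ∈ S, M.mulVec v = w ∧ ∀ M' ∈ S, M'.mulVec v = w → M' = M := by
  classical
  obtain ⟨hnd, hne⟩ := S_regular v hv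
  set T : Finset (Fin 2 → ZMod 5) := (S.map (fun M => M.mulVec v)).toFinset with hT
  have hTcard : T.card = 24 := by
    rw [hT, List.toFinset_card_of_nodup hnd, List.length_map, S_length]
  have hTsub : T ⊆ Finset.univ.filter (fun u : Fin 2 → ZMod 5 => u ≠ 0) := by
    intro u hu
    rw [hT, List.mem_toFinset, List.mem_map] at hu
    obtain ⟨M, hM, rfl⟩ := hu
    simp only [Finset.mem_filter, Finset.mem_univ, true_and]
    exact hne M hM
  have hTeq : T = Finset.univ.filter (fun u : Fin 2 → ZMod 5 => u ≠ 0) :=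
    Finset.eq_of_subset_of_card_le hTsub (by rw [card_nonzero, hTcard])
  have hwT : w ∈ T := by
    rw [hTeq]; simp [hw]
  rw [hT, List.mem_toFinset, List.mem_map] at hwT
  obtain ⟨M, hM, hMw⟩ := hwT
  refine ⟨M, hM, hMw, ?_⟩
  intro M' hM' hM'w
  exact List.inj_on_of_nodup_map hnd hM' hM (hM'w.trans hMw.symm)

end helpers

/-- An exceptional sharply doubly transitive group of degree 5^2: the listed matrices generate a subgroup of GL(2,5) of order 24 acting regularly on the non-zero vectors. -/
theorem result (A : Matrix.GeneralLinearGroup (Fin 2) (ZMod 5)) (B : Matrix.GeneralLinearGroup (Fin 2) (ZMod 5)) (C : Matrix.GeneralLinearGroup (Fin 2) (ZMod 5)) (hA : (A : Matrix (Fin 2) (Fin 2) (ZMod 5)) = !![2, 0; 0, -2]) (hB : (B : Matrix (Fin 2) (Fin 2) (ZMod 5)) = !![0, -1; 1, 0]) (hC : (C : Matrix (Fin 2) (Fin 2) (ZMod 5)) = !![1, 2; 1, -2]) : Nat.card (Subgroup.closure ({A, B, C} : Set (Matrix.GeneralLinearGroup (Fin 2) (ZMod 5)))) = 24 ∧ ∀ v w : Fin 2 → ZMod 5, v ≠ 0 → w ≠ 0 → ∃! h : Subgroup.closure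 ({A, B, C} : Set (Matrix.GeneralLinearGroup (Fin 2) (ZMod 5))), Matrix.mulVec ((h : Matrix.GeneralLinearGroup (Fin 2) (ZMod 5)) : Matrix (Fin 2) (Fin 2) (ZMod 5)) v = w := by
  classical
  set H := Subgroup.closure ({A, B, C} : Set (Matrix.GeneralLinearGroup (Fin 2) (ZMod 5))) with hH
  -- the generators as a function
  let G : Fin 3 → Matrix.GeneralLinearGroup (Fin 2) (ZMod 5) := fun i =>
    match i with
    | 0 => A
    | 1 => B
    | 2 => C
  have hGgen : ∀ i, ((G i : Matrix.GeneralLinearGroup (Fin 2) (ZMod 5)) : Mat) = gen i := by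
    intro i
    fin_cases i
    · exact hA
    · exact hB
    · exact hC
  have hGmem : ∀ i, G i ∈ H := by
    intro i
    apply Subgroup.subset_closure
    fin_cases i
    · simp [G]
    · simp [G]
    · simp [G]
  -- every element of H maps S into S by left multiplication
  have hP : ∀ h ∈ H, ∀ M ∈ S, ((h : Matrix.GeneralLinearGroup (Fin 2) (ZMod 5)) : Mat) * M ∈ S := by
    intro h hh
    induction hh using Subgroup.closure_induction with
    | mem x hx =>
      intro M hM
      rcases hx with hx | hx | hx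
      · rw [hx, hA]; exact S_closed M hM 0
      · rw [hx, hB]; exact S_closed M hM 1
      · rw [Set.mem_singleton_iff] at hx
        rw [hx, hC]; exact S_closed M hM 2
    | one =>
      intro M hM
      simpa using hM
    | mul x y _ _ hx hy =>
      intro M hM
      rw [Units.val_mul, mul_assoc]
      exact hx _ (hy M hM)
    | inv x _ hx =>
      intro M hM
      -- left multiplication by x is a bijection of S
      have himg : (S.toFinset.image (fun N => ((x : Matrix.GeneralLinearGroup (Fin 2) (ZMod 5)) : Mat) * N)) = S.toFinset := by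
        apply Finset.eq_of_subset_of_card_le
        · intro N hN
          rw [Finset.mem_image] at hN
          obtain ⟨N', hN', rfl⟩ := hN
          rw [List.mem_toFinset] at hN' ⊢
          exact hx N' hN'
        · rw [Finset.card_image_of_injective]
          intro N N' hNN
          have := congrArg (fun Z => ((x⁻¹ : Matrix.GeneralLinearGroup (Fin 2) (ZMod 5)) : Mat) * Z) hNN
          simpa [← mul_assoc, ← Units.val_mul] using this
      have hM' : M ∈ S.toFinset := List.mem_toFinset.mpr hM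
      rw [← himg, Finset.mem_image] at hM'
      obtain ⟨N, hN, rfl⟩ := hM'
      rw [← mul_assoc, ← Units.val_mul, inv_mul_cancel, Units.val_one, one_mul]
      exact List.mem_toFinset.mp hN
  have hHS : ∀ h ∈ H, ((h : Matrix.GeneralLinearGroup (Fin 2) (ZMod 5)) : Mat) ∈ S := by
    intro h hh
    have := hP h hh 1 one_mem_S
    rwa [mul_one] at this
  -- every element of S comes from H
  let evG : List (Fin 3) → Matrix.GeneralLinearGroup (Fin 2) (ZMod 5) := fun l => (l.map G).prod
  have hevG : ∀ l : List (Fin 3), ((evG l : Matrix.GeneralLinearGroup (Fin 2) (ZMod 5)) : Mat) = ev l ∧ evG l ∈ H := by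
    intro l
    induction l with
    | nil => exact ⟨rfl, H.one_mem⟩
    | cons i l ih =>
      have h1 : evG (i :: l) = G i * evG l := by simp [evG]
      refine ⟨?_, ?_⟩
      · rw [h1, Units.val_mul, hGgen, ih.1]; rfl
      · rw [h1]; exact H.mul_mem (hGmem i) ih.2
  have hSH : ∀ M ∈ S, ∃ h ∈ H, ((h : Matrix.GeneralLinearGroup (Fin 2) (ZMod 5)) : Mat) = M := by
    intro M hM
    obtain ⟨l, -, rfl⟩ := List.mem_map.mp hM
    exact ⟨evG l, (hevG l).2, (hevG l).1⟩
  refine ⟨?_, ?_⟩
  · -- cardinality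
    have hbij : Function.Bijective (fun h : H => (⟨((h : Matrix.GeneralLinearGroup (Fin 2) (ZMod 5)) : Mat),
        List.mem_toFinset.mpr (hHS h h.2)⟩ : S.toFinset)) := by
      constructor
      · intro h h' hhh
        have : ((h : Matrix.GeneralLinearGroup (Fin 2) (ZMod 5)) : Mat) = ((h' : Matrix.GeneralLinearGroup (Fin 2) (ZMod 5)) : Mat) :=
          congrArg Subtype.val hhh
        exact Subtype.ext (Units.ext this)
      · rintro ⟨M, hM⟩
        obtain ⟨h, hh, rfl⟩ := hSH M (List.mem_toFinset.mp hM)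
        exact ⟨⟨h, hh⟩, rfl⟩
    rw [Nat.card_eq_of_bijective _ hbij, Nat.card_eq_fintype_card, Fintype.card_coe,
      List.toFinset_card_of_nodup S_nodup, S_length]
  · intro v w hv hw
    obtain ⟨M, hM, hMw, huniq⟩ := S_existsUnique v w hv hw
    obtain ⟨h, hh, rfl⟩ := hSH M hM
    refine ⟨⟨h, hh⟩, hMw, ?_⟩
    intro h' hh'
    apply Subtype.ext
    apply Units.ext
    exact huniq _ (hHS h' h'.2) hh'

end Cfsg.Agent.S0691
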