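import Cfsg.Statements.S0692
import Cfsg.Agent.Lib.Helper12_GL2Reg

set_option autoImplicit false
open Cfsg

namespace Cfsg.Agent.S0692

open Cfsg.Agent.Lib.Helper12_GL2Reg

def g11_gs : List M4 := [(0, 10, 1, 0), (2, 4, 1, 8)]
def g11_gis : List M4 := [(0, 1, 10, 0), (8, 7, 10, 2)]
def g11_T : List (List Entry) := [
  [(0, 0, 0, 0), (10, 0, 0, 1), (5, 7, 1, 4), (7, 10, 1, 8), (8, 1, 1, 7), (2, 7, 1, 6), (9, 4, 1, 8), (3, 10, 1, 9), (4, 1, 1, 10), (6, 4, 1, 6), (1, 0, 0, 3)],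
  [(0, 1, 0, 0), (1, 2, 0, 5), (10, 10, 0, 6), (7, 0, 0, 7), (4, 6, 1, 10), (6, 9, 1, 9), (5, 9, 1, 8), (3, 0, 0, 10), (9, 7, 0, 3), (8, 7, 0, 4), (2, 10, 1, 4)],
  [(7, 6, 0, 7), (4, 8, 1, 1), (2, 8, 0, 12), (3, 5, 0, 10), (1, 8, 0, 6), (6, 10, 0, 10), (5, 10, 1, 7), (0, 6, 1, 7), (9, 9, 0, 9), (8, 9, 1, 11), (10, 1, 1, 5)],
  [(10, 4, 1, 10), (4, 9, 1, 4), (2, 9, 1, 10), (3, 7, 1, 8), (1, 9, 0, 3), (9, 8, 0, 11), (6, 5, 1, 7), (8, 8, 1, 9), (7, 8, 1, 11), (5, 8, 1, 9), (0, 4, 1, 6)],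
  [(1, 3, 0, 10), (0, 3, 1, 7), (5, 0, 1, 8), (3, 8, 1, 10), (4, 7, 1, 12), (2, 0, 0, 6), (10, 7, 1, 11), (7, 7, 0, 12), (9, 10, 1, 2), (8, 10, 1, 5), (6, 7, 1, 12)],
  [(7, 9, 1, 5), (2, 5, 0, 9), (1, 5, 1, 8), (6, 6, 0, 8), (4, 10, 1, 11), (5, 3, 0, 7), (3, 6, 1, 6), (0, 9, 1, 5), (8, 2, 1, 10), (10, 5, 1, 9), (9, 5, 1, 8)],
  [(4, 2, 1, 7), (2, 6, 1, 10), (1, 6, 1, 7), (3, 9, 1, 11), (0, 2, 1, 3), (8, 5, 1, 4), (6, 8, 0, 5), (7, 1, 0, 10), (5, 5, 0, 6), (10, 6, 1, 6), (9, 6, 0, 7)],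
  [(10, 8, 0, 8), (5, 4, 0, 11), (3, 1, 1, 3), (2, 1, 1, 4), (4, 4, 1, 12), (1, 4, 1, 9), (9, 0, 0, 4), (7, 4, 1, 11), (8, 3, 1, 12), (6, 0, 1, 6), (0, 8, 1, 9)],
  [(1, 7, 0, 9), (0, 7, 1, 8), (6, 3, 1, 11), (4, 3, 1, 9), (3, 3, 1, 11), (5, 6, 1, 5), (2, 3, 0, 12), (10, 2, 0, 5), (8, 4, 1, 10), (9, 2, 1, 8), (7, 2, 1, 2)],
  [(4, 5, 0, 5), (1, 10, 1, 7), (3, 2, 1, 9), (2, 2, 0, 11), (0, 5, 1, 5), (6, 1, 1, 9), (5, 1, 0, 8), (10, 3, 0, 4), (8, 6, 0, 12), (9, 3, 0, 10), (7, 3, 1, 3)],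
  [(0, 10, 0, 2), (9, 1, 1, 6), (3, 4, 0, 2), (2, 4, 0, 5), (8, 0, 0, 8), (6, 2, 1, 6), (5, 2, 1, 7), (7, 5, 1, 12), (4, 0, 0, 9), (1, 1, 0, 8), (10, 9, 0, 7)]]


theorem g11_check : check 11 g11_gs g11_gis g11_T = true := by decide

theorem result (A : Matrix.GeneralLinearGroup (Fin 2) (ZMod 11)) (B : Matrix.GeneralLinearGroup (Fin 2) (ZMod 11)) (hA : (A : Matrix (Fin 2) (Fin 2) (ZMod 11)) = !![0, -1; 1, 0]) (hB : (B : Matrix (Fin 2) (Fin 2) (ZMod 11)) = !![2, 4; 1, -3]) : Nat.card (Subgroup.closure ({A, B} : Set (Matrix.GeneralLinearGroup (Fin 2) (ZMod 11)))) = 120 ∧ ∀ v w : Fin 2 → ZMod 11, v ≠ 0 → w ≠ 0 → ∃! h : Subgroup.closure ({A, B} : Set (Matrix.GeneralLinearGroup (Fin 2) (ZMod 11))), Matrix.mulVec ((h : Matrix.GeneralLinearGroup (Fin 2) (ZMod 11)) : Matrix (Fin 2) (Fin 2) (ZMod 11)) v = w := by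
  haveI : Fact (Nat.Prime 11) := ⟨by norm_num⟩
  have hA' : (A : Matrix (Fin 2) (Fin 2) (ZMod 11)) = toMat 11 (0, 10, 1, 0) := by
    rw [hA]
    ext i j
    fin_cases i <;> fin_cases j <;> simp [toMat] <;> rfl
  have hB' : (B : Matrix (Fin 2) (Fin 2) (ZMod 11)) = toMat 11 (2, 4, 1, 8) := by
    rw [hB]
    ext i j
    fin_cases i <;> fin_cases j <;> simp [toMat] <;> rfl
  have key := regular_of_check 11 g11_gs g11_gis g11_T g11_check ({A, B} : Set _)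
    (by
      intro g hg
      rcases hg with rfl | rfl
      · exact ⟨(0, 10, 1, 0), by simp [g11_gs], hA'⟩
      · exact ⟨(2, 4, 1, 8), by simp [g11_gs], hB'⟩)
    (by
      intro m hm
      simp only [g11_gs, List.mem_cons, List.not_mem_nil, or_false] at hm
      rcases hm with rfl | rfl
      · exact ⟨A, by simp, hA'⟩
      · exact ⟨B, by simp, hB'⟩)
  exact key

end Cfsg.Agent.S0692
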