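import Cfsg.Statements.S0693
import Cfsg.Agent.Lib.Helper12_GL2Reg

set_option autoImplicit false
open Cfsg

namespace Cfsg.Agent.S0693

open Cfsg.Agent.Lib.Helper12_GL2Reg

def g59_gs : List M4 := [(0, 58, 1, 0), (9, 15, 49, 49), (4, 0, 0, 4)]
def g59_gis : List M4 := [(0, 1, 58, 0), (49, 44, 10, 9), (15, 0, 0, 15)]
def g59_r0 : List Entry := [(0, 0, 0, 0), (58, 0, 0, 1), (57, 0, 2, 18), (56, 0, 2, 26), (55, 0, 2, 2), (54, 0, 2, 4), (53, 0, 2, 14), (52, 0, 2, 10), (51, 0, 2, 19), (50, 0, 2, 22), (49, 0, 2, 21), (48, 0, 2, 30), (47, 0, 2, 27), (46, 0, 2, 11), (45, 0, 2, 27), (44, 0, 2, 29), (43, 0, 2, 3), (42, 0, 2, 21), (41, 0, 2, 10), (40, 0, 2, 20), (39, 0, 2, 5), (38, 0, 2, 6), (37, 0, 2, 14), (36, 0, 2, 25), (35, 0, 2, 15), (34, 0, 2, 7), (33, 0, 2, 24), (32, 0, 2, 18), (31, 0, 2, 11), (30, 0, 2, 15), (29, 0, 2, 17), (28,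 0, 2, 13), (27, 0, 2, 20), (26, 0, 2, 26), (25, 0, 2, 9), (24, 0, 2, 13), (23, 0, 2, 23), (22, 0, 2, 16), (21, 0, 2, 8), (20, 0, 2, 7), (19, 0, 2, 22), (18, 0, 2, 8), (17, 0, 2, 23), (16, 0, 2, 5), (15, 0, 2, 31), (14, 0, 2, 25), (13, 0, 2, 9), (12, 0, 2, 29), (11, 0, 2, 28), (10, 0, 2, 19), (9, 0, 2, 24), (8, 0, 2, 17), (7, 0, 2, 12), (6, 0, 2, 12), (5, 0, 2, 6), (4, 0, 2, 4), (3, 0, 2, 28), (2, 0, 2, 16), (1, 0, 0, 3)]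
def g59_r1 : List Entry := [(0, 1, 0, 0), (54, 31, 2, 14), (2, 8, 2, 20), (30, 58, 2, 34), (29, 58, 1, 4), (5, 45, 2, 7), (18, 16, 2, 35), (21, 48, 2, 32), (8, 58, 2, 32), (47, 58, 2, 34), (45, 23, 2, 21), (38, 26, 2, 23), (41, 12, 2, 9), (13, 21, 2, 12), (36, 39, 2, 27), (46, 58, 2, 21), (56, 18, 2, 26), (33, 39, 2, 29), (6, 16, 2, 34), (23, 40, 2, 3), (53, 25, 2, 30), (7, 48, 2, 33), (22, 58, 2, 16), (19, 40, 2, 6), (32, 58, 2, 34), (28, 12, 2, 9), (26, 9, 2, 30), (27, 38, 2, 20), (25, 12, 2, 5), (4, 58, 0, 6), (3, 58, 2, 32), (58, 5, 2, 16), (24, 58, 2, 33), (17, 39, 2, 31), (48, 58, 2, 35), (35, 14, 2, 17), (14, 39, 2, 28), (52, 5, 2, 12), (11, 26, 2, 24), (39, 49, 2, 37), (51, 56, 2, 27), (12, 12, 2, 14), (49, 56, 2, 22), (43, 46, 2, 34), (44, 37, 2, 35), (10, 23, 2, 20), (15, 58, 2, 19), (9, 58, 2, 36), (34, 58, 2, 33),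 (42, 56, 2, 25), (50, 42, 2, 14), (40, 56, 2, 29), (37, 5, 2, 12), (20, 25, 2, 33), (1, 31, 2, 15), (55, 52, 2, 21), (16, 18, 2, 25), (57, 53, 2, 19), (31, 5, 2, 13)]
def g59_r2 : List Entry := [(0, 2, 2, 17), (6, 57, 2, 20), (49, 3, 2, 31), (57, 10, 2, 29), (4, 16, 2, 8), (48, 57, 2, 17), (1, 57, 2, 21), (34, 19, 2, 19), (58, 57, 2, 21), (37, 57, 2, 19), (10, 31, 2, 24), (11, 28, 2, 30), (36, 32, 2, 19), (28, 19, 2, 12), (42, 37, 2, 16), (45, 10, 2, 25), (16, 57, 2, 18), (22, 52, 2, 12), (35, 57, 2, 18), (19, 39, 2, 25), (31, 46, 2, 34), (43, 53, 2, 11), (17, 52, 2, 11), (24, 24, 2, 27), (23, 24, 2, 26), (39, 53, 2, 10), (26, 42, 2, 29), (27, 33, 2, 22), (13, 19, 2, 15), (29, 15, 2, 19), (33, 57, 2, 34), (20, 46, 2, 37), (53, 36, 2, 14), (30, 57, 2, 36), (7, 19, 2, 17), (18, 57, 2, 20), (12, 32, 2, 22), (9, 57, 2, 21), (46, 21,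 2, 20), (25, 53, 2, 9), (47, 50, 2, 18), (41, 25, 2, 27), (14, 37, 2, 20), (21, 53, 2, 13), (44, 57, 2, 30), (15, 10, 2, 25), (38, 21, 2, 19), (40, 50, 2, 17), (5, 57, 2, 19), (2, 3, 2, 28), (56, 24, 2, 22), (51, 45, 2, 34), (52, 18, 2, 14), (32, 36, 2, 13), (54, 17, 2, 36), (55, 47, 2, 35), (50, 24, 2, 22), (3, 10, 2, 30), (8, 57, 2, 23)]
def g59_r3 : List Entry := [(0, 3, 2, 25), (41, 16, 2, 26), (35, 50, 2, 23), (44, 34, 2, 10), (21, 26, 2, 29), (36, 36, 2, 10), (6, 24, 2, 16), (7, 56, 1, 12), (29, 50, 2, 18), (31, 56, 2, 30), (57, 2, 2, 31), (11, 20, 2, 30), (28, 56, 2, 29), (37, 56, 2, 30), (14, 52, 2, 31), (15, 17, 2, 32), (25, 36, 2, 34), (30, 10, 2, 16), (54, 48, 2, 31), (19, 27, 2, 26), (45, 56, 2, 15), (4, 26, 2, 28), (22, 55, 2, 16), (27, 56, 2, 32), (24, 56, 2, 28), (16, 36, 2, 30), (43, 56, 2, 29), (23, 56, 2, 30),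 (12, 56, 2, 31), (8, 50, 2, 21), (17, 10, 2, 17), (9, 56, 2, 28), (32, 8, 2, 39), (55, 19, 2, 19), (56, 15, 2, 12), (2, 50, 2, 25), (5, 36, 2, 5), (13, 56, 2, 29), (52, 15, 2, 8), (39, 4, 2, 8), (51, 58, 2, 27), (1, 16, 2, 29), (49, 58, 2, 23), (26, 56, 2, 31), (3, 34, 2, 11), (20, 56, 2, 17), (46, 42, 2, 13), (47, 38, 2, 17), (50, 54, 2, 22), (42, 58, 2, 24), (48, 54, 2, 21), (40, 58, 2, 25), (38, 15, 2, 8), (53, 41, 2, 15), (18, 48, 2, 30), (33, 19, 2, 20), (34, 15, 2, 9), (10, 2, 2, 28), (58, 29, 2, 33)]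
def g59_r4 : List Entry := [(0, 4, 2, 1), (7, 55, 2, 22), (12, 55, 2, 33), (40, 33, 2, 21), (39, 6, 2, 15), (47, 13, 2, 27), (55, 20, 2, 17), (1, 55, 2, 20), (8, 32, 2, 21), (14, 38, 2, 30), (37, 55, 2, 34), (36, 55, 0, 8), (2, 55, 2, 35), (24, 5, 2, 35), (9, 38, 2, 32), (18, 55, 2, 34), (57, 55, 2, 5), (33, 42, 2, 4), (15, 55, 2, 36), (50, 47, 2, 26), (20, 3, 2, 8), (35, 41, 2, 31), (22, 56, 2, 18), (23, 50, 2, 15), (13, 5, 2, 36), (28, 15, 2, 34), (56, 38, 2, 29), (42, 47, 2, 30), (25, 15, 2, 33), (29, 55, 2, 17), (31, 20, 2, 13), (30, 20, 2, 13), (32, 55, 2, 33), (17, 42, 2, 7), (44, 45, 2, 25), (21, 41, 2, 34), (11, 55, 1, 6), (10, 55, 2, 35), (38, 19, 2, 38), (4, 6, 2, 16), (3, 33, 2, 22), (53, 48, 2, 10), (27, 47, 2, 28), (43, 31, 2, 22), (34, 45, 2, 24), (45, 36, 2, 31), (48, 48, 2, 15), (5, 13, 2, 26), (46, 48, 2, 10),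 (49, 34, 2, 21), (19, 47, 2, 23), (51, 35, 2, 20), (52, 25, 2, 13), (41, 48, 2, 6), (54, 7, 2, 35), (6, 20, 2, 14), (26, 38, 2, 28), (16, 55, 2, 7), (58, 30, 0, 7)]
def g59_r5 : List Entry := [(0, 5, 2, 3), (28, 1, 2, 12), (42, 54, 2, 37), (11, 18, 2, 31), (52, 54, 2, 36), (34, 37, 2, 17), (6, 46, 2, 15), (22, 1, 2, 12), (24, 25, 2, 15), (33, 44, 2, 28), (10, 40, 2, 23), (3, 18, 2, 30), (12, 45, 2, 33), (55, 12, 2, 27), (14, 33, 2, 17), (32, 54, 2, 37), (53, 54, 2, 24), (17, 13, 2, 23), (18, 9, 2, 11), (23, 44, 2, 32), (27, 54, 2, 7), (44, 31, 2, 29), (7, 1, 2, 8), (19, 44, 2, 30), (8, 25, 2, 15), (25, 48, 2, 10), (47, 18, 2, 32), (20, 54, 2, 9), (1, 1, 2, 17), (41, 7, 2, 36), (31, 21, 1, 9), (30, 21, 0, 8), (15, 54, 2, 35), (9, 44, 2, 25), (5, 37, 2, 18), (46, 4, 2, 35), (56, 23, 2, 6), (54, 25, 2, 19), (38, 53, 1, 8), (39, 24,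 2, 24), (40, 54, 2, 35), (29, 7, 2, 33), (2, 54, 2, 36), (43, 8, 2, 9), (21, 31, 2, 28), (58, 54, 2, 8), (35, 4, 2, 36), (26, 18, 2, 34), (50, 56, 2, 23), (49, 29, 2, 22), (48, 56, 2, 24), (51, 54, 2, 19), (4, 54, 2, 38), (16, 54, 2, 22), (37, 25, 2, 16), (13, 12, 2, 26), (36, 23, 2, 9), (57, 11, 2, 20), (45, 54, 2, 10)]
def g59_r6 : List Entry := [(0, 6, 2, 13), (34, 20, 2, 30), (23, 32, 2, 14), (18, 53, 2, 16), (11, 41, 2, 7), (5, 16, 2, 23), (29, 9, 2, 27), (51, 38, 2, 36), (42, 52, 2, 16), (53, 30, 2, 25), (13, 13, 2, 23), (4, 41, 2, 9), (12, 48, 2, 33), (10, 13, 2, 22), (14, 53, 2, 26), (26, 53, 2, 13), (58, 41, 2, 35), (45, 30, 2, 21), (3, 53, 2, 17), (19, 8, 2, 25), (55, 4, 2, 15), (43, 57, 2, 15), (22, 40, 2, 18), (2, 32, 2, 13), (56, 53, 2, 17), (39, 57, 2, 11), (15, 53, 2, 15), (52, 53, 2, 15), (28, 45, 2, 15), (6, 9,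 2, 24), (30, 34, 2, 20), (40, 53, 2, 30), (50, 13, 2, 18), (33, 25, 2, 26), (1, 20, 2, 33), (35, 17, 2, 30), (49, 37, 2, 15), (41, 49, 2, 10), (38, 54, 1, 10), (25, 57, 2, 8), (31, 53, 2, 32), (37, 49, 2, 9), (8, 52, 2, 12), (21, 57, 2, 13), (44, 51, 2, 32), (17, 30, 2, 21), (54, 53, 2, 16), (47, 23, 2, 31), (48, 53, 2, 14), (36, 37, 2, 18), (32, 13, 2, 18), (7, 38, 2, 37), (27, 53, 2, 17), (9, 30, 2, 26), (46, 53, 2, 14), (20, 4, 2, 16), (24, 53, 2, 19), (57, 58, 2, 21), (16, 41, 2, 34)]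
def g59_r7 : List Entry := [(0, 7, 2, 9), (54, 37, 2, 9), (41, 52, 2, 15), (44, 38, 2, 9), (34, 52, 2, 14), (5, 4, 2, 39), (6, 27, 2, 14), (24, 40, 2, 23), (42, 53, 2, 14), (9, 39, 2, 26), (23, 35, 2, 21), (20, 43, 2, 30), (12, 30, 2, 29), (13, 23, 2, 15), (14, 56, 2, 29), (43, 44, 2, 12), (39, 37, 2, 37), (22, 57, 2, 13), (30, 5, 2, 32), (57, 25, 2, 14), (11, 43, 2, 29), (33, 52, 2, 14), (17, 57, 2, 10), (10, 35, 2, 21), (7, 40, 2, 24), (51, 25, 2, 18), (28, 52, 2, 15), (46, 52, 2, 28), (26, 52, 2, 13), (49, 41, 2, 13), (18, 5, 2, 33), (31, 10, 2, 30), (32, 29, 2, 21), (21, 52, 2, 12), (4, 52, 2, 16), (35, 20, 2, 16), (36, 52, 2, 25), (37, 48, 2, 17), (53, 8, 2, 34), (16, 37, 2, 36), (52, 35, 2, 25), (2, 52, 2, 13), (8, 53, 2, 15), (15, 44, 2, 15), (3, 38, 2, 7), (45, 17, 2, 28), (27, 52, 2, 30), (50, 52, 2, 13), (58, 38, 2,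 34), (29, 41, 2, 12), (47, 52, 2, 14), (25, 25, 2, 23), (40, 35, 2, 22), (38, 8, 2, 35), (1, 37, 2, 11), (55, 58, 2, 23), (56, 52, 0, 12), (19, 25, 2, 18), (48, 38, 2, 31)]
def g59_r8 : List Entry := [(0, 8, 2, 18), (3, 40, 2, 26), (14, 51, 2, 35), (1, 40, 2, 26), (24, 51, 2, 21), (5, 51, 2, 19), (21, 7, 2, 38), (34, 25, 2, 20), (19, 12, 2, 32), (29, 31, 2, 13), (35, 26, 2, 15), (42, 23, 2, 18), (51, 40, 2, 30), (22, 51, 2, 19), (2, 51, 2, 37), (20, 51, 2, 20), (16, 5, 2, 9), (17, 38, 2, 26), (28, 17, 2, 18), (8, 12, 2, 29), (15, 51, 2, 18), (6, 7, 2, 35), (13, 51, 2, 21), (47, 37, 2, 23), (4, 51, 2, 22), (54, 35, 2, 12), (48, 10, 2, 23), (27, 3, 2, 35), (18, 17, 2, 20), (9, 31, 2, 12), (36, 51, 2, 22), (31, 13, 2, 15), (55, 51, 2, 22), (37, 37, 2, 28), (7, 25, 2, 21), (10, 26, 2, 14), (30, 51, 2, 20), (33, 37, 2, 27), (41, 35,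 2, 10), (39, 9, 2, 37), (40, 6, 2, 25), (38, 35, 2, 11), (11, 23, 2, 19), (43, 11, 2, 36), (44, 53, 2, 31), (45, 50, 2, 30), (46, 41, 2, 28), (23, 37, 2, 23), (26, 10, 2, 20), (49, 14, 2, 23), (56, 30, 2, 21), (12, 40, 2, 31), (53, 17, 2, 13), (52, 17, 2, 16), (25, 35, 2, 14), (32, 51, 2, 24), (50, 30, 2, 17), (57, 1, 2, 20), (58, 51, 2, 31)]
def g59_r9 : List Entry := [(0, 9, 2, 21), (17, 50, 2, 11), (35, 56, 2, 23), (5, 48, 2, 22), (12, 19, 2, 24), (3, 48, 2, 25), (46, 32, 2, 19), (7, 47, 2, 12), (29, 56, 2, 19), (14, 43, 2, 6), (22, 50, 2, 28), (19, 50, 2, 27), (4, 19, 2, 25), (13, 50, 2, 24), (9, 43, 2, 7), (49, 49, 0, 6), (48, 49, 2, 26), (1, 50, 2, 13), (18, 13, 2, 12), (11, 50, 2, 25), (20, 8, 2, 38), (21, 50, 2, 37), (10, 50, 2, 26), (23, 55, 2, 13), (28, 32, 2, 14), (36, 50, 2, 27), (32, 44, 2, 18), (34, 50, 2, 26), (24,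 32, 2, 17), (8, 56, 2, 20), (53, 6, 2, 27), (51, 30, 2, 13), (26, 44, 2, 17), (33, 1, 2, 26), (27, 50, 2, 24), (2, 56, 2, 21), (25, 50, 2, 25), (37, 24, 2, 35), (55, 45, 2, 33), (52, 50, 2, 26), (47, 57, 2, 15), (41, 5, 2, 11), (42, 38, 2, 27), (50, 45, 2, 8), (54, 26, 2, 26), (45, 51, 2, 28), (6, 32, 2, 21), (40, 57, 2, 16), (16, 49, 2, 30), (15, 49, 1, 1), (43, 45, 2, 5), (31, 30, 2, 12), (39, 50, 2, 25), (30, 6, 2, 24), (44, 26, 2, 27), (38, 45, 2, 33), (56, 28, 2, 29), (57, 22, 2, 22), (58, 12, 2, 33)]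
def g59_r10 : List Entry := [(0, 10, 2, 20), (3, 42, 2, 22), (56, 2, 2, 29), (1, 42, 2, 25), (25, 49, 2, 22), (30, 49, 2, 23), (22, 36, 2, 15), (18, 29, 2, 13), (45, 49, 2, 24), (10, 15, 0, 2), (9, 15, 0, 5), (33, 8, 2, 19), (12, 33, 2, 32), (53, 46, 2, 23), (44, 2, 2, 25), (49, 50, 0, 3), (48, 50, 2, 28), (17, 47, 2, 25), (7, 29, 2, 12), (19, 48, 1, 8), (20, 21, 2, 11), (21, 49, 2, 21), (6, 36, 2, 18), (58, 14, 2, 21), (24, 31, 2, 17), (4, 49, 2, 20), (51, 24, 2, 15), (27, 16, 2, 22), (28, 7, 2, 30), (42, 3, 2, 16), (5, 49, 2, 24), (57, 49, 2, 21), (47, 49, 2, 37), (11, 8, 2, 23), (34, 26, 2, 39), (52, 36, 2, 22), (36, 18, 2, 28), (41, 53, 2, 11), (46, 29, 2, 16), (39, 58, 2, 38), (54, 49, 2, 24), (37, 53, 2, 8), (29, 3, 2, 17), (43, 49, 2, 33), (14, 2, 2, 25), (8, 49, 2, 22), (38, 29, 2, 14), (32, 49, 2, 39), (16, 50, 2, 28),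 (15, 50, 1, 4), (50, 37, 2, 27), (26, 24, 2, 14), (35, 36, 2, 20), (13, 46, 2, 22), (40, 49, 2, 26), (55, 22, 2, 33), (2, 2, 2, 30), (31, 49, 2, 23), (23, 14, 2, 20)]
def g59_r11 : List Entry := [(0, 11, 2, 29), (1, 34, 2, 34), (2, 5, 2, 19), (5, 50, 2, 23), (11, 46, 2, 11), (3, 50, 2, 24), (6, 48, 2, 13), (21, 58, 2, 31), (49, 26, 2, 21), (10, 16, 2, 31), (9, 16, 2, 29), (4, 46, 2, 14), (12, 53, 2, 31), (39, 14, 1, 5), (38, 14, 2, 9), (15, 41, 2, 17), (16, 8, 2, 37), (32, 27, 2, 31), (54, 56, 2, 28), (19, 49, 0, 10), (56, 48, 2, 31), (7, 58, 2, 34), (22, 29, 2, 20), (51, 17, 2, 20), (44, 48, 2, 35), (25, 54, 2, 12), (58, 21, 2, 25), (30, 26, 2, 23), (57, 48, 2, 31), (29, 48, 2, 30), (27, 26, 2, 25), (31, 36, 2, 13), (17, 27, 2, 32), (35, 48, 2, 33), (47, 48, 2, 19), (33, 48, 2, 32), (42, 16, 2, 27), (37, 52, 2, 18), (14, 14,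 2, 10), (13, 14, 1, 5), (45, 48, 2, 30), (53, 55, 2, 8), (36, 16, 2, 24), (52, 39, 2, 30), (24, 48, 2, 33), (40, 48, 2, 32), (48, 55, 2, 12), (34, 48, 2, 17), (46, 55, 2, 13), (8, 26, 2, 22), (50, 40, 2, 26), (23, 17, 2, 17), (43, 39, 2, 29), (41, 55, 2, 8), (18, 56, 2, 32), (55, 23, 1, 7), (20, 48, 2, 33), (28, 48, 2, 29), (26, 21, 2, 26)]
def g59_r12 : List Entry := [(0, 12, 2, 26), (1, 9, 2, 33), (9, 40, 2, 18), (21, 47, 2, 18), (46, 5, 2, 27), (41, 26, 2, 35), (36, 47, 2, 29), (7, 50, 2, 14), (22, 23, 2, 24), (2, 40, 2, 17), (10, 32, 2, 40), (11, 34, 2, 18), (58, 18, 2, 11), (39, 15, 2, 32), (43, 17, 2, 20), (23, 39, 2, 23), (25, 45, 2, 30), (17, 49, 2, 27), (47, 1, 2, 13), (50, 55, 2, 25), (26, 26, 2, 11), (3, 47, 2, 16), (8, 23, 2, 26), (15, 39, 2, 22), (24, 37, 2, 17), (16, 45, 2, 29), (20, 26, 2, 6), (42, 55, 2, 26), (28,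 47, 2, 13), (29, 43, 2, 17), (52, 47, 2, 30), (34, 1, 2, 9), (57, 23, 2, 19), (49, 47, 2, 33), (31, 1, 2, 9), (35, 46, 2, 16), (6, 47, 2, 31), (37, 47, 2, 29), (38, 16, 2, 9), (13, 15, 2, 31), (51, 8, 2, 32), (5, 26, 2, 31), (27, 55, 2, 28), (14, 17, 2, 21), (44, 21, 2, 31), (54, 47, 2, 30), (4, 5, 2, 30), (18, 1, 2, 10), (53, 47, 2, 30), (33, 47, 2, 31), (19, 55, 2, 24), (40, 8, 2, 29), (30, 47, 2, 31), (48, 47, 2, 32), (45, 47, 2, 32), (55, 57, 2, 34), (56, 31, 2, 32), (32, 23, 2, 22), (12, 18, 2, 12)]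
def g59_r13 : List Entry := [(0, 13, 2, 10), (1, 15, 2, 20), (38, 38, 2, 20), (17, 46, 2, 10), (11, 48, 2, 12), (55, 35, 2, 37), (6, 54, 2, 17), (7, 27, 2, 27), (18, 46, 2, 29), (27, 6, 2, 18), (30, 38, 2, 15), (4, 48, 2, 13), (54, 4, 2, 27), (53, 49, 2, 24), (48, 20, 1, 6), (47, 20, 2, 32), (44, 35, 2, 12), (3, 46, 2, 12), (8, 46, 2, 27), (57, 31, 2, 12), (31, 57, 2, 35), (58, 46, 2, 13), (25, 43, 2, 34), (52, 46, 2, 16), (40, 30, 2, 11), (22, 43, 2, 33), (26, 45, 2, 30), (9, 6, 2, 18), (28, 8, 2, 15), (34, 46, 2, 12), (10, 38, 2, 15), (20, 57, 2, 36), (37, 34, 2, 9), (33, 40, 2, 28), (29, 46, 2, 14), (35, 47, 2, 18), (39, 46, 2, 13), (32, 34, 2, 13), (2, 38, 2, 19), (36, 46, 2, 14), (24, 30, 2, 10), (41, 9, 2, 12), (42, 5, 2, 23), (43, 58, 2, 36), (16, 35, 2, 10), (45, 46, 2, 40), (49, 6, 2, 23), (15, 20, 2, 31), (14, 20, 0,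 4), (46, 6, 2, 22), (50, 46, 2, 23), (51, 37, 2, 22), (23, 46, 2, 14), (13, 49, 2, 21), (12, 4, 2, 30), (5, 35, 2, 34), (56, 22, 2, 29), (19, 31, 2, 15), (21, 46, 2, 11)]
def g59_r14 : List Entry := [(0, 14, 2, 26), (36, 10, 2, 21), (49, 15, 2, 26), (3, 20, 2, 14), (23, 45, 2, 28), (5, 58, 2, 9), (29, 17, 2, 22), (42, 45, 2, 29), (9, 45, 2, 27), (8, 45, 2, 29), (10, 8, 2, 23), (11, 40, 2, 33), (12, 54, 2, 31), (13, 45, 2, 39), (48, 21, 2, 11), (15, 37, 2, 34), (25, 47, 2, 31), (47, 16, 2, 22), (18, 19, 0, 10), (32, 15, 2, 24), (46, 11, 0, 5), (45, 11, 2, 9), (40, 27, 2, 14), (4, 45, 2, 30), (24, 1, 2, 16), (16, 47, 2, 28), (26, 46, 2, 28), (30, 29, 2, 28), (28, 53, 2, 17), (6, 17, 2, 20), (27, 29, 2, 29), (31, 34, 2, 15), (19, 15, 2, 21), (54, 45, 2, 14), (44, 55, 2, 26), (41, 45, 2, 26), (1, 10, 2, 20), (57, 17, 2, 18), (55,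 50, 2, 31), (58, 23, 2, 25), (22, 27, 2, 17), (35, 45, 2, 28), (7, 45, 2, 30), (50, 50, 2, 7), (34, 55, 2, 27), (21, 11, 2, 10), (20, 11, 1, 5), (17, 16, 2, 23), (14, 21, 2, 8), (2, 15, 2, 28), (43, 50, 2, 6), (51, 57, 2, 36), (56, 45, 2, 32), (53, 45, 2, 27), (33, 45, 2, 16), (38, 50, 2, 31), (52, 45, 2, 30), (37, 17, 2, 19), (39, 23, 2, 29)]
def g59_r15 : List Entry := [(0, 15, 2, 28), (22, 44, 2, 32), (2, 44, 2, 31), (25, 3, 2, 8), (14, 34, 2, 25), (28, 21, 2, 29), (8, 44, 2, 33), (21, 3, 2, 4), (6, 44, 2, 32), (33, 54, 2, 27), (57, 14, 2, 26), (11, 24, 2, 34), (38, 44, 2, 32), (24, 16, 2, 11), (4, 34, 2, 24), (43, 52, 2, 13), (16, 26, 2, 6), (56, 44, 2, 33), (18, 20, 2, 11), (23, 54, 2, 28), (46, 12, 2, 32), (7, 3, 2, 8), (1, 44, 2, 34), (19, 54, 2, 30), (13, 16, 2, 11), (3, 3, 2, 13), (32, 50, 2, 19), (40, 14, 2, 24), (5,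 21, 2, 32), (29, 28, 2, 18), (30, 2, 2, 19), (34, 4, 2, 34), (26, 50, 2, 20), (9, 54, 2, 26), (31, 4, 2, 33), (35, 44, 2, 15), (36, 17, 2, 29), (45, 44, 2, 31), (12, 44, 2, 34), (47, 36, 2, 23), (27, 14, 2, 21), (48, 44, 2, 18), (42, 40, 2, 13), (15, 52, 2, 14), (52, 16, 2, 12), (37, 44, 2, 33), (20, 12, 2, 31), (39, 36, 2, 22), (41, 44, 2, 20), (50, 10, 1, 2), (49, 10, 1, 5), (51, 39, 2, 19), (44, 16, 2, 15), (53, 33, 2, 16), (54, 27, 2, 36), (55, 41, 2, 33), (17, 44, 2, 35), (10, 14, 2, 28), (58, 13, 2, 20)]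
def g59_r16 : List Entry := [(0, 16, 2, 2), (13, 43, 2, 35), (6, 21, 2, 14), (3, 26, 2, 32), (28, 43, 2, 23), (51, 43, 2, 6), (2, 21, 2, 14), (15, 15, 2, 16), (48, 43, 2, 34), (14, 50, 2, 5), (10, 43, 2, 34), (20, 52, 2, 27), (42, 14, 2, 22), (1, 43, 2, 37), (9, 50, 2, 8), (7, 15, 2, 11), (38, 24, 2, 16), (23, 11, 2, 27), (58, 3, 2, 26), (19, 18, 2, 22), (11, 52, 2, 28), (21, 12, 2, 9), (25, 46, 2, 35), (17, 11, 2, 24), (43, 21, 2, 18), (22, 46, 2, 32), (44, 43, 2, 7), (27, 22, 2, 21), (4, 43, 2, 21), (29, 47, 2, 19), (40, 43, 2, 36), (31, 41, 2, 14), (32, 10, 2, 22), (33, 23, 2, 16), (34, 17, 1, 10), (46, 15, 2, 7), (56, 34, 2, 31), (52, 20, 2, 37), (16, 24, 2, 17), (39, 28, 2, 36), (30, 43, 2, 35), (53, 1, 2, 35), (12, 14, 2, 23), (24, 21, 2, 15), (26, 43, 2, 9), (47, 34, 2, 30), (35, 15, 2, 11), (45, 34, 2, 29), (8, 43, 2,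 36), (50, 11, 2, 31), (49, 11, 2, 29), (5, 43, 2, 8), (37, 20, 2, 36), (41, 1, 2, 34), (54, 6, 2, 23), (55, 2, 2, 8), (36, 34, 2, 33), (57, 43, 2, 18), (18, 3, 2, 25)]
def g59_r17 : List Entry := [(0, 17, 2, 20), (3, 49, 2, 23), (22, 14, 2, 18), (1, 49, 2, 24), (12, 27, 2, 25), (5, 2, 2, 37), (7, 8, 2, 13), (6, 8, 2, 16), (36, 11, 2, 16), (21, 42, 2, 24), (56, 29, 2, 14), (43, 36, 2, 25), (4, 27, 2, 29), (54, 42, 2, 24), (14, 7, 2, 28), (19, 42, 2, 10), (45, 12, 2, 24), (33, 55, 2, 5), (18, 42, 2, 23), (15, 42, 2, 12), (20, 42, 2, 36), (9, 42, 2, 26), (2, 14, 2, 19), (23, 15, 2, 25), (24, 6, 2, 34), (25, 16, 0, 10), (26, 57, 2, 27), (48, 27, 2, 29), (37, 31, 2, 23), (29, 35, 2, 21), (53, 14, 2, 22), (41, 8, 2, 18), (35, 42, 2, 27), (17, 55, 2, 6), (34, 18, 2, 11), (32, 42, 2, 25), (8, 11, 2, 17), (28, 31, 2, 26), (51, 42, 2, 23),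 (58, 26, 2, 32), (40, 39, 2, 26), (31, 8, 2, 20), (55, 26, 2, 4), (11, 36, 2, 26), (44, 3, 2, 32), (16, 12, 2, 21), (46, 56, 2, 11), (49, 42, 2, 26), (27, 27, 2, 34), (47, 42, 2, 24), (50, 58, 2, 12), (38, 42, 2, 25), (57, 37, 2, 12), (30, 14, 2, 20), (13, 42, 2, 25), (42, 26, 2, 7), (10, 29, 2, 15), (52, 37, 2, 11), (39, 26, 2, 32)]
def g59_r18 : List Entry := [(0, 18, 2, 9), (47, 12, 2, 11), (34, 41, 2, 28), (43, 1, 2, 26), (11, 53, 2, 11), (52, 29, 2, 34), (10, 37, 2, 10), (7, 2, 2, 14), (24, 38, 2, 8), (54, 41, 2, 12), (6, 37, 2, 9), (4, 53, 2, 9), (33, 5, 2, 32), (50, 41, 2, 13), (14, 35, 2, 28), (15, 48, 2, 19), (58, 53, 2, 36), (51, 31, 2, 17), (28, 27, 2, 23), (45, 41, 0, 11), (44, 41, 2, 12), (35, 55, 2, 32), (38, 41, 2, 11), (23, 10, 2, 27), (8, 38, 2, 12), (25, 17, 2, 11), (26, 41, 2, 39), (41, 31, 2, 21), (18, 27,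 2, 20), (49, 52, 2, 14), (39, 39, 2, 19), (31, 43, 2, 16), (37, 39, 2, 14), (12, 5, 2, 34), (2, 41, 2, 26), (21, 55, 2, 33), (36, 26, 2, 29), (32, 39, 2, 14), (22, 41, 2, 13), (30, 39, 2, 18), (40, 16, 2, 22), (27, 31, 2, 22), (42, 41, 2, 22), (3, 1, 2, 29), (20, 41, 2, 10), (19, 41, 1, 9), (46, 51, 2, 26), (1, 12, 2, 12), (56, 5, 2, 31), (29, 52, 2, 11), (13, 41, 2, 15), (17, 31, 2, 17), (5, 29, 2, 35), (53, 56, 2, 17), (9, 41, 2, 13), (55, 44, 2, 35), (48, 5, 2, 30), (57, 24, 2, 21), (16, 53, 2, 33)]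
def g59_r19 : List Entry := [(0, 19, 2, 19), (3, 51, 2, 24), (9, 47, 2, 15), (1, 51, 2, 28), (26, 3, 2, 23), (5, 40, 2, 35), (6, 31, 2, 33), (24, 52, 2, 22), (53, 40, 2, 26), (2, 47, 2, 16), (10, 54, 2, 25), (11, 45, 2, 31), (51, 51, 2, 33), (29, 24, 2, 11), (32, 22, 2, 14), (45, 27, 2, 22), (16, 30, 2, 36), (20, 40, 2, 23), (43, 40, 2, 23), (23, 58, 2, 4), (17, 40, 2, 25), (21, 4, 2, 38), (22, 53, 2, 20), (19, 58, 2, 5), (7, 52, 2, 25), (52, 2, 2, 19), (4, 3, 2, 20), (56, 40, 2, 23), (37, 33, 2, 19), (13, 24, 2, 10), (35, 33, 2, 17), (46, 2, 2, 12), (14, 22, 2, 13), (33, 46, 2, 27), (34, 40, 2, 22), (30, 33, 2, 18), (36, 29, 2, 26), (28, 33, 2, 21), (38, 34, 2, 10), (57, 40, 2, 22), (58, 36, 2, 3), (41, 14, 1, 10), (42, 44, 2, 11), (18, 40, 2, 24), (54, 36, 2, 31), (15, 27, 2, 23), (31, 2, 2, 15), (55, 9, 2, 24), (49, 40, 1,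 9), (48, 40, 0, 11), (50, 48, 2, 24), (12, 51, 2, 28), (25, 2, 2, 17), (8, 40, 2, 24), (44, 36, 2, 31), (47, 9, 2, 25), (27, 40, 2, 25), (39, 40, 2, 24), (40, 36, 2, 6)]
def g59_r20 : List Entry := [(0, 20, 2, 4), (10, 39, 2, 38), (6, 25, 2, 10), (55, 39, 2, 9), (53, 4, 2, 13), (35, 39, 2, 25), (2, 25, 2, 9), (22, 16, 2, 37), (50, 39, 2, 38), (9, 52, 2, 24), (1, 39, 2, 36), (45, 13, 1, 6), (44, 13, 2, 32), (13, 36, 2, 12), (36, 58, 2, 26), (23, 47, 2, 24), (31, 39, 2, 37), (33, 58, 2, 33), (20, 30, 2, 19), (19, 57, 2, 23), (18, 30, 2, 18), (49, 39, 2, 8), (7, 16, 2, 36), (15, 47, 2, 25), (24, 7, 2, 16), (58, 6, 2, 30), (47, 33, 2, 7), (27, 39, 2, 20), (29, 4, 2, 13), (28, 4, 2, 9), (39, 41, 2, 20), (16, 39, 2, 39), (37, 41, 2, 16), (17, 58, 2, 31), (34, 35, 2, 9), (5, 39, 2, 23), (14, 58, 2, 29), (32, 41, 2, 16), (38, 37, 2, 25),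 (30, 41, 2, 17), (40, 42, 2, 24), (41, 15, 2, 11), (42, 39, 2, 36), (52, 48, 2, 27), (12, 13, 2, 31), (11, 13, 1, 4), (57, 28, 2, 34), (26, 33, 2, 10), (48, 3, 2, 34), (21, 39, 2, 10), (8, 39, 2, 37), (51, 44, 2, 21), (43, 48, 2, 28), (4, 4, 2, 18), (54, 32, 2, 10), (3, 39, 2, 11), (56, 14, 2, 18), (46, 28, 2, 37), (25, 6, 2, 29)]
def g59_r21 : List Entry := [(0, 21, 2, 5), (33, 11, 2, 25), (38, 46, 2, 21), (44, 52, 2, 5), (40, 38, 2, 39), (6, 38, 1, 9), (5, 38, 1, 11), (51, 53, 2, 35), (24, 41, 2, 11), (14, 55, 2, 34), (30, 46, 2, 17), (45, 14, 2, 11), (43, 38, 2, 10), (21, 2, 2, 20), (9, 55, 2, 32), (15, 12, 2, 35), (35, 16, 2, 14), (17, 51, 2, 24), (18, 22, 2, 10), (25, 38, 2, 11), (22, 38, 2, 26), (13, 2, 2, 19), (20, 38, 2, 24), (32, 38, 2, 38), (8, 41, 2, 10), (19, 38, 2, 9), (56, 55, 2, 30), (27, 58, 2, 22), (29, 5, 0,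 9), (28, 5, 1, 8), (10, 46, 2, 17), (54, 15, 2, 29), (23, 38, 2, 39), (1, 11, 2, 26), (34, 30, 2, 26), (16, 16, 2, 19), (36, 31, 2, 25), (37, 28, 2, 17), (2, 46, 2, 18), (39, 10, 2, 11), (4, 38, 2, 37), (55, 24, 2, 31), (42, 50, 2, 25), (12, 38, 2, 12), (3, 52, 2, 7), (11, 14, 2, 8), (46, 1, 2, 12), (47, 56, 2, 19), (58, 52, 2, 33), (49, 38, 2, 21), (50, 38, 2, 37), (7, 53, 2, 38), (52, 26, 2, 13), (57, 16, 2, 14), (31, 15, 2, 28), (41, 24, 2, 30), (26, 55, 2, 27), (53, 16, 2, 10), (48, 52, 2, 32)]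
def g59_r22 : List Entry := [(0, 22, 2, 13), (54, 52, 2, 13), (2, 9, 2, 18), (3, 13, 2, 30), (4, 10, 2, 33), (34, 54, 2, 16), (10, 41, 2, 7), (11, 37, 2, 18), (22, 33, 2, 28), (35, 37, 2, 32), (6, 41, 2, 8), (7, 37, 2, 16), (12, 37, 2, 29), (25, 32, 2, 11), (42, 57, 2, 19), (15, 45, 2, 32), (39, 52, 2, 38), (28, 28, 2, 27), (20, 32, 2, 15), (26, 28, 2, 22), (18, 32, 2, 13), (31, 37, 2, 18), (8, 33, 2, 27), (47, 51, 2, 25), (24, 47, 2, 19), (13, 32, 2, 12), (19, 28, 2, 18), (45, 19, 2, 14), (17, 28, 2, 22), (48, 37, 2, 17), (30, 23, 2, 34), (21, 37, 2, 20), (32, 16, 2, 21), (37, 51, 2, 29), (5, 54, 2, 19), (9, 37, 2, 34), (49, 53, 2, 16), (33, 51, 2, 26), (38, 39, 2, 27), (16, 52, 2, 35), (53, 37, 2, 19), (41, 21, 2, 14), (14, 57, 2, 18), (46, 34, 2, 34), (44, 58, 2, 33), (27, 19, 2, 17), (43, 34, 2, 33), (23, 51, 2, 25), (29,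 37, 2, 19), (36, 53, 2, 17), (50, 49, 2, 25), (51, 46, 2, 20), (57, 42, 2, 9), (40, 37, 2, 17), (1, 52, 2, 11), (56, 37, 2, 17), (55, 37, 2, 18), (52, 42, 2, 10), (58, 37, 2, 16)]
def g59_r23 : List Entry := [(0, 23, 2, 24), (20, 14, 2, 29), (27, 12, 2, 19), (23, 5, 2, 6), (4, 11, 0, 7), (36, 56, 2, 7), (22, 49, 2, 16), (7, 36, 2, 25), (8, 30, 2, 21), (9, 25, 2, 26), (41, 36, 2, 28), (43, 42, 2, 27), (12, 6, 2, 32), (13, 39, 2, 13), (49, 1, 2, 21), (42, 36, 2, 26), (25, 56, 2, 32), (48, 8, 2, 18), (33, 36, 2, 30), (30, 36, 2, 27), (1, 14, 2, 26), (28, 36, 2, 26), (6, 49, 2, 17), (3, 5, 2, 9), (57, 35, 2, 27), (16, 56, 2, 32), (26, 16, 2, 12), (2, 12, 2, 22), (21, 36, 2, 24), (29, 22, 2, 34), (19, 36, 2, 25), (31, 48, 2, 14), (53, 57, 2, 15), (18, 36, 2, 28), (34, 36, 2, 37), (52, 49, 2, 18), (5, 56, 2, 8), (51, 12, 2, 24), (38,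 27, 2, 37), (47, 44, 2, 24), (58, 40, 2, 4), (10, 36, 2, 27), (15, 36, 2, 28), (11, 42, 2, 23), (54, 40, 2, 29), (45, 55, 2, 29), (46, 7, 2, 15), (39, 44, 2, 25), (17, 8, 2, 19), (14, 1, 2, 20), (55, 36, 2, 12), (37, 12, 2, 26), (35, 49, 2, 20), (32, 57, 2, 12), (44, 40, 2, 29), (50, 36, 2, 14), (56, 32, 2, 31), (24, 35, 2, 26), (40, 40, 2, 5)]
def g59_r24 : List Entry := [(0, 24, 2, 14), (45, 35, 2, 14), (2, 18, 2, 21), (9, 2, 2, 22), (18, 21, 2, 31), (55, 46, 2, 36), (42, 35, 2, 31), (39, 35, 2, 17), (33, 10, 2, 15), (3, 2, 2, 22), (23, 52, 2, 19), (11, 33, 2, 32), (13, 35, 2, 17), (12, 35, 2, 18), (14, 41, 2, 27), (15, 35, 2, 15), (44, 46, 2, 8), (17, 32, 2, 26), (4, 21, 2, 34), (26, 30, 2, 19), (20, 5, 2, 24), (43, 16, 2, 16), (22, 9, 2, 31), (10, 52, 2, 19), (57, 36, 2, 28), (54, 51, 2, 16), (19, 30, 2, 16), (28, 34, 1, 9),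 (27, 34, 1, 8), (29, 42, 2, 19), (46, 19, 2, 11), (49, 35, 2, 18), (50, 31, 2, 17), (8, 10, 2, 14), (34, 39, 2, 11), (36, 2, 2, 27), (35, 2, 2, 26), (47, 35, 2, 18), (41, 51, 2, 9), (7, 35, 2, 15), (52, 52, 2, 24), (38, 51, 2, 12), (6, 35, 2, 33), (21, 16, 2, 17), (16, 46, 2, 10), (1, 35, 2, 16), (30, 19, 2, 10), (37, 35, 2, 20), (48, 15, 2, 34), (31, 35, 2, 16), (32, 31, 2, 13), (51, 55, 2, 22), (40, 52, 2, 23), (53, 3, 2, 16), (25, 51, 2, 14), (5, 46, 2, 35), (56, 35, 2, 27), (24, 36, 2, 25), (58, 27, 2, 33)]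
def g59_r25 : List Entry := [(0, 25, 2, 6), (1, 48, 2, 36), (40, 7, 2, 18), (44, 56, 2, 9), (14, 44, 2, 26), (22, 5, 2, 15), (39, 1, 2, 30), (7, 4, 2, 13), (34, 7, 2, 22), (9, 27, 2, 25), (33, 34, 2, 40), (11, 47, 2, 20), (58, 31, 2, 6), (13, 29, 2, 11), (4, 44, 2, 27), (55, 31, 2, 34), (42, 34, 0, 11), (41, 34, 2, 12), (18, 2, 2, 27), (19, 34, 2, 22), (24, 34, 2, 10), (29, 34, 2, 27), (5, 5, 2, 20), (23, 34, 2, 38), (20, 34, 2, 12), (52, 8, 2, 20), (26, 6, 2, 26), (28, 35, 0, 10), (27, 35, 1, 7), (21, 34, 2, 25), (30, 53, 2, 18), (31, 45, 2, 14), (37, 46, 2, 12), (10, 34, 2, 39), (8, 7, 2, 19), (51, 5, 2, 15), (56, 43, 2, 35), (32, 46, 2, 11), (38, 40, 2, 12), (6, 1, 2, 29), (2, 7, 2, 18), (17, 34, 2, 10), (16, 34, 1, 9), (46, 37, 2, 31), (3, 56, 2, 12), (47, 43, 2, 31), (43, 37, 2, 32), (45, 43, 2, 28), (54, 34, 2, 11), (49,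 55, 2, 23), (50, 23, 2, 26), (35, 5, 2, 11), (25, 8, 2, 21), (57, 20, 2, 10), (48, 34, 2, 13), (15, 31, 2, 33), (36, 43, 2, 33), (53, 20, 2, 9), (12, 31, 2, 8)]
def g59_r26 : List Entry := [(0, 26, 2, 23), (20, 17, 2, 32), (2, 30, 2, 37), (40, 55, 2, 20), (17, 17, 2, 8), (15, 9, 2, 26), (34, 33, 2, 27), (7, 21, 2, 13), (22, 37, 2, 29), (58, 33, 2, 27), (51, 11, 2, 21), (11, 35, 2, 31), (12, 49, 2, 30), (19, 33, 2, 26), (14, 54, 2, 15), (5, 9, 2, 27), (36, 33, 2, 13), (4, 17, 2, 3), (54, 12, 2, 35), (13, 33, 2, 28), (1, 17, 2, 28), (48, 1, 2, 27), (8, 37, 2, 26), (23, 18, 2, 29), (49, 8, 2, 15), (25, 10, 2, 40), (47, 39, 2, 8), (27, 57, 2, 24), (37, 40, 2, 23), (32, 11, 2, 23), (35, 40, 2, 16), (31, 33, 2, 26), (29, 11, 2, 25), (39, 12, 2, 7), (6, 33, 2, 28), (30, 40, 2, 19), (16, 33, 2, 15), (28, 40, 2, 21), (55, 3, 2, 29), (33,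 12, 2, 10), (3, 55, 2, 19), (41, 33, 2, 39), (57, 33, 2, 30), (43, 15, 2, 6), (50, 27, 2, 18), (46, 33, 2, 27), (45, 33, 2, 29), (26, 39, 2, 9), (21, 1, 2, 24), (24, 8, 2, 14), (44, 27, 2, 17), (10, 11, 2, 22), (52, 31, 2, 14), (53, 44, 2, 14), (18, 12, 2, 35), (38, 3, 2, 28), (56, 16, 2, 28), (42, 33, 2, 28), (9, 33, 2, 29)]
def g59_r27 : List Entry := [(0, 27, 2, 17), (1, 24, 2, 34), (23, 53, 2, 11), (51, 32, 2, 36), (4, 32, 2, 33), (5, 15, 2, 36), (46, 50, 2, 19), (30, 32, 2, 22), (8, 55, 2, 23), (15, 26, 2, 18), (10, 47, 2, 38), (32, 17, 2, 33), (36, 57, 2, 20), (25, 37, 2, 10), (44, 19, 2, 22), (9, 26, 2, 21), (49, 32, 2, 23), (17, 35, 2, 24), (20, 37, 2, 15), (37, 14, 2, 14), (18, 37, 2, 17), (21, 23, 2, 37), (43, 32, 2, 22), (2, 53, 2, 12), (28, 50, 2, 15), (13, 37, 2, 13), (48, 29, 2, 26), (42, 11, 2, 31), (24, 50, 2,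 16), (45, 29, 2, 26), (7, 32, 2, 24), (41, 18, 2, 23), (11, 17, 2, 30), (57, 32, 2, 23), (35, 31, 1, 9), (34, 31, 1, 8), (12, 57, 2, 21), (19, 14, 2, 13), (58, 32, 2, 21), (39, 32, 2, 20), (40, 3, 2, 22), (31, 18, 2, 20), (27, 11, 2, 32), (22, 32, 2, 20), (14, 19, 2, 23), (29, 29, 2, 31), (6, 50, 2, 17), (55, 17, 2, 29), (26, 29, 2, 22), (16, 32, 2, 21), (50, 25, 2, 25), (3, 32, 2, 38), (52, 13, 2, 31), (53, 7, 2, 18), (54, 39, 2, 8), (47, 17, 2, 29), (56, 36, 2, 29), (33, 32, 2, 21), (38, 32, 2, 22)]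
def g59_r28 : List Entry := [(0, 28, 2, 10), (54, 58, 2, 13), (13, 20, 2, 34), (3, 9, 2, 29), (39, 30, 2, 10), (38, 30, 1, 9), (6, 40, 2, 31), (49, 31, 2, 31), (46, 31, 2, 16), (29, 51, 2, 14), (10, 57, 2, 22), (23, 31, 2, 14), (58, 34, 2, 10), (2, 20, 2, 33), (25, 31, 2, 13), (55, 34, 2, 35), (18, 31, 2, 15), (51, 41, 2, 15), (16, 31, 2, 17), (57, 46, 2, 13), (20, 16, 2, 40), (44, 54, 2, 30), (22, 21, 2, 17), (11, 31, 2, 15), (24, 49, 2, 15), (14, 31, 2, 15), (26, 31, 2, 26), (41, 41, 2, 24), (37, 42, 2, 24), (9, 51, 2, 11), (30, 15, 2, 18), (42, 22, 2, 23), (50, 35, 2, 15), (40, 22, 2, 22), (35, 32, 1, 6), (34, 32, 0, 7), (36, 38, 2, 27), (28, 42, 2, 25), (5, 30, 1, 8), (4, 30, 2, 12), (33, 22, 2, 22), (27, 41, 2, 19), (31, 22, 2, 26), (43, 55, 2, 24), (21, 54, 2, 31), (53, 31, 2, 16), (8, 31, 2, 14), (47, 31, 2, 13), (48, 2,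 2, 30), (7, 31, 2, 29), (32, 35, 2, 16), (17, 41, 2, 19), (52, 33, 2, 16), (45, 31, 2, 14), (1, 58, 2, 16), (15, 34, 2, 32), (56, 47, 2, 30), (19, 46, 2, 14), (12, 34, 2, 8)]
def g59_r29 : List Entry := [(0, 29, 2, 14), (1, 3, 2, 33), (2, 33, 2, 35), (49, 17, 2, 18), (39, 31, 2, 14), (38, 31, 0, 10), (25, 30, 2, 21), (54, 18, 2, 34), (8, 36, 2, 19), (53, 53, 2, 28), (10, 5, 2, 22), (33, 27, 2, 26), (12, 52, 2, 31), (21, 10, 2, 16), (30, 27, 2, 30), (57, 30, 2, 20), (16, 40, 2, 34), (45, 53, 2, 23), (20, 39, 2, 20), (26, 35, 2, 18), (18, 39, 2, 17), (13, 10, 2, 14), (36, 30, 2, 35), (23, 19, 2, 26), (40, 46, 2, 8), (6, 30, 2, 19), (19, 35, 2, 17), (27, 7, 2, 21), (44, 30, 2, 19), (32, 14, 2, 28), (14, 27, 2, 27), (51, 50, 2, 10), (29, 14, 2, 29), (11, 27, 2, 26), (34, 38, 2, 28), (42, 30, 2, 18), (22, 30, 2, 33), (37, 11, 2, 20),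 (5, 31, 0, 7), (4, 31, 2, 12), (24, 46, 2, 9), (52, 10, 2, 13), (35, 30, 2, 20), (47, 30, 2, 18), (28, 30, 2, 17), (17, 53, 2, 19), (46, 25, 2, 15), (43, 30, 2, 19), (48, 30, 2, 30), (3, 17, 2, 15), (56, 51, 2, 19), (31, 50, 2, 11), (41, 10, 2, 12), (9, 53, 2, 23), (7, 18, 2, 35), (55, 30, 2, 17), (50, 51, 2, 20), (15, 30, 2, 18), (58, 55, 1, 5)]
def g59_r30 : List Entry := [(0, 30, 2, 16), (1, 4, 1, 7), (44, 29, 2, 20), (9, 8, 2, 18), (4, 29, 2, 17), (52, 41, 2, 33), (50, 6, 2, 25), (18, 49, 2, 14), (28, 9, 2, 13), (3, 8, 2, 21), (56, 42, 2, 17), (11, 29, 2, 29), (16, 29, 2, 18), (13, 34, 2, 13), (42, 6, 2, 21), (31, 29, 2, 19), (12, 29, 2, 16), (24, 29, 2, 18), (7, 49, 2, 11), (35, 13, 2, 11), (55, 28, 2, 10), (54, 28, 0, 9), (22, 48, 2, 18), (37, 29, 2, 35), (17, 29, 2, 20), (25, 21, 2, 26), (48, 32, 2, 24), (30, 45, 2, 27),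 (8, 9, 2, 12), (45, 32, 2, 29), (27, 45, 2, 30), (15, 29, 2, 20), (32, 52, 2, 23), (40, 24, 2, 15), (53, 29, 2, 17), (19, 13, 2, 10), (36, 40, 2, 28), (23, 29, 2, 33), (46, 49, 2, 16), (41, 20, 2, 19), (33, 24, 2, 19), (39, 20, 2, 18), (14, 6, 2, 21), (43, 19, 2, 35), (2, 29, 2, 22), (29, 32, 2, 28), (38, 49, 2, 18), (47, 7, 2, 29), (26, 32, 2, 24), (49, 54, 2, 24), (6, 6, 2, 26), (51, 23, 2, 21), (5, 41, 2, 36), (34, 29, 2, 19), (21, 28, 0, 8), (20, 28, 2, 12), (10, 42, 2, 16), (57, 26, 2, 33), (58, 56, 2, 34)]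
def g59_r31 : List Entry := [(0, 31, 2, 12), (47, 25, 2, 6), (40, 13, 2, 15), (3, 12, 2, 32), (44, 25, 2, 34), (58, 1, 2, 14), (14, 28, 2, 16), (7, 26, 2, 14), (42, 18, 2, 17), (27, 24, 2, 14), (52, 28, 2, 31), (11, 57, 2, 31), (12, 28, 2, 13), (51, 28, 2, 16), (6, 28, 2, 18), (38, 5, 2, 29), (16, 4, 2, 22), (28, 37, 2, 24), (32, 18, 2, 21), (26, 37, 2, 20), (55, 29, 2, 14), (54, 29, 1, 10), (31, 17, 2, 23), (23, 21, 2, 25), (25, 27, 0, 9), (24, 27, 1, 8), (19, 37, 2, 20), (9, 24, 2, 17), (17, 37, 2, 25), (29, 44, 2, 20), (50, 8, 2, 13), (22, 17, 2, 26), (18, 18, 2, 22), (33, 28, 2, 25), (45, 28, 2, 16), (35, 10, 2, 17), (48, 28, 2, 14), (37, 38, 2, 19), (15, 5, 2, 32), (39, 43, 2, 38), (2, 13, 2, 11), (43, 28, 2, 15), (8, 18, 2, 17), (41, 28, 2, 13), (4, 25, 2, 33), (34, 28, 2, 15), (57, 39, 2, 35), (1, 25, 2, 8), (36, 28, 2,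 12), (49, 2, 2, 24), (30, 8, 2, 12), (13, 28, 2, 14), (10, 28, 2, 29), (53, 19, 2, 29), (21, 29, 1, 7), (20, 29, 2, 12), (56, 50, 2, 30), (46, 39, 2, 36), (5, 1, 2, 15)]
def g59_r32 : List Entry := [(0, 32, 2, 19), (21, 27, 2, 21), (26, 27, 2, 23), (3, 23, 2, 31), (12, 42, 2, 27), (5, 20, 2, 10), (6, 52, 2, 16), (7, 46, 2, 29), (56, 27, 2, 36), (9, 34, 2, 27), (43, 27, 2, 23), (33, 30, 2, 24), (4, 42, 2, 27), (53, 9, 2, 19), (30, 30, 2, 29), (45, 40, 2, 21), (37, 27, 2, 22), (32, 48, 2, 30), (28, 41, 2, 22), (19, 56, 2, 24), (20, 27, 2, 20), (1, 27, 2, 19), (40, 45, 2, 15), (47, 2, 2, 22), (25, 28, 1, 10), (24, 28, 1, 7), (2, 27, 2, 21), (48, 42, 2, 32), (18, 41, 2, 21), (52, 27, 2, 22), (14, 30, 2, 28), (35, 9, 2, 14), (17, 48, 2, 33), (11, 30, 2, 24), (46, 22, 2, 11), (31, 9, 2, 17), (57, 6, 2, 14), (16, 27, 2, 23), (38, 36,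 2, 38), (41, 22, 2, 15), (22, 45, 2, 16), (39, 22, 2, 13), (42, 24, 2, 26), (10, 27, 2, 25), (50, 33, 2, 19), (15, 40, 2, 24), (34, 22, 2, 12), (23, 2, 2, 18), (27, 42, 2, 31), (49, 12, 2, 36), (44, 33, 2, 20), (51, 4, 2, 21), (29, 27, 2, 20), (13, 9, 2, 21), (54, 44, 2, 37), (55, 27, 2, 32), (8, 27, 2, 38), (36, 6, 2, 13), (58, 35, 2, 32)]
def g59_r33 : List Entry := [(0, 33, 2, 25), (50, 26, 2, 27), (17, 26, 2, 26), (3, 43, 2, 30), (21, 56, 2, 30), (41, 47, 2, 33), (6, 15, 2, 15), (7, 28, 2, 16), (49, 48, 2, 20), (15, 32, 2, 19), (35, 51, 2, 16), (38, 58, 2, 26), (33, 20, 2, 7), (14, 26, 2, 31), (13, 26, 2, 29), (9, 32, 2, 20), (16, 44, 2, 8), (2, 26, 2, 28), (18, 26, 2, 38), (56, 4, 2, 21), (26, 47, 2, 8), (4, 56, 2, 27), (31, 19, 2, 19), (43, 26, 2, 13), (29, 19, 2, 17), (53, 26, 2, 27), (20, 47, 2, 9), (30, 48, 2, 27), (28,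 26, 2, 26), (24, 19, 2, 18), (27, 48, 2, 25), (22, 19, 2, 21), (32, 2, 2, 22), (12, 20, 2, 10), (34, 49, 2, 38), (10, 51, 2, 13), (36, 41, 2, 27), (51, 22, 2, 28), (11, 58, 2, 25), (58, 42, 2, 30), (46, 26, 2, 29), (5, 47, 2, 33), (55, 42, 2, 5), (23, 26, 2, 15), (54, 50, 2, 28), (45, 5, 2, 13), (40, 26, 2, 28), (47, 10, 2, 32), (48, 24, 2, 33), (8, 48, 2, 23), (1, 26, 2, 29), (37, 22, 2, 27), (52, 38, 2, 14), (25, 26, 2, 25), (44, 50, 2, 24), (42, 42, 2, 6), (19, 4, 2, 22), (57, 29, 2, 35), (39, 42, 2, 30)]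
def g59_r34 : List Entry := [(0, 34, 2, 8), (47, 28, 2, 10), (6, 39, 2, 7), (23, 16, 2, 31), (44, 28, 2, 35), (11, 25, 2, 11), (2, 39, 2, 11), (34, 51, 2, 19), (24, 54, 2, 13), (9, 36, 2, 28), (10, 4, 2, 21), (5, 25, 2, 9), (14, 16, 2, 30), (16, 22, 2, 34), (12, 16, 2, 29), (56, 3, 2, 10), (13, 22, 2, 33), (43, 25, 1, 11), (42, 25, 2, 12), (57, 52, 2, 16), (53, 58, 2, 31), (21, 19, 2, 10), (27, 13, 2, 13), (3, 16, 2, 33), (8, 54, 2, 13), (51, 52, 2, 21), (49, 25, 2, 37), (22, 13, 2, 10), (28, 14, 2, 16), (29, 6, 2, 20), (38, 25, 2, 27), (32, 24, 1, 9), (31, 24, 0, 8), (33, 53, 2, 27), (7, 51, 2, 22), (39, 25, 2, 10), (36, 25, 2, 38), (54, 54, 2, 18), (30, 25, 2, 25), (35, 25, 2, 12), (40, 25, 2, 21), (41, 57, 2, 25), (18, 25, 2, 14), (17, 25, 1, 12), (4, 28, 2, 32), (55, 15, 2, 25), (46, 30, 2, 13), (1, 28, 2, 8), (48, 12, 2,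 18), (26, 25, 2, 39), (50, 32, 2, 26), (25, 52, 2, 20), (52, 55, 2, 15), (20, 58, 2, 32), (37, 54, 2, 17), (45, 15, 2, 28), (15, 3, 2, 11), (19, 52, 2, 16), (58, 11, 2, 34)]
def g59_r35 : List Entry := [(0, 35, 2, 12), (1, 32, 2, 32), (35, 23, 2, 27), (3, 24, 2, 28), (54, 13, 2, 37), (34, 8, 2, 12), (6, 56, 2, 18), (19, 7, 2, 21), (8, 4, 2, 20), (27, 28, 2, 15), (28, 24, 2, 18), (11, 44, 2, 32), (22, 24, 2, 18), (29, 40, 2, 8), (58, 24, 2, 17), (43, 13, 2, 12), (38, 43, 2, 15), (53, 24, 2, 31), (21, 8, 2, 10), (7, 7, 2, 26), (52, 24, 2, 17), (18, 8, 2, 11), (12, 24, 2, 16), (24, 57, 2, 28), (23, 57, 2, 25), (25, 20, 2, 13), (51, 49, 2, 16), (9, 28, 2, 16), (10, 24, 2, 16), (13, 40, 2, 9), (30, 17, 2, 17), (32, 25, 1, 6), (31, 25, 1, 7), (40, 29, 2, 18), (5, 8, 2, 14), (2, 23, 2, 26), (49, 7, 2, 17), (37, 50, 2, 33), (16, 43, 2,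 18), (39, 54, 2, 26), (33, 29, 2, 17), (55, 38, 2, 32), (42, 27, 2, 24), (15, 13, 2, 10), (44, 24, 2, 15), (45, 18, 2, 29), (47, 24, 2, 17), (46, 24, 2, 15), (48, 26, 2, 31), (36, 7, 2, 21), (56, 57, 2, 24), (26, 49, 2, 13), (20, 24, 2, 19), (17, 24, 2, 33), (4, 13, 2, 34), (41, 38, 2, 33), (50, 57, 2, 24), (57, 41, 2, 19), (14, 24, 2, 16)]
def g59_r36 : List Entry := [(0, 36, 2, 22), (19, 19, 2, 7), (35, 24, 2, 28), (3, 27, 2, 29), (9, 23, 2, 12), (15, 19, 2, 27), (27, 2, 2, 14), (24, 10, 2, 22), (22, 47, 2, 24), (4, 23, 2, 14), (45, 58, 2, 18), (42, 51, 2, 17), (20, 15, 2, 23), (13, 52, 2, 13), (14, 4, 2, 27), (5, 19, 2, 31), (48, 17, 2, 25), (44, 23, 2, 26), (49, 23, 2, 25), (1, 19, 2, 2), (12, 15, 2, 26), (21, 32, 2, 39), (8, 47, 2, 22), (54, 3, 2, 6), (7, 10, 2, 20), (25, 23, 2, 38), (41, 23, 2, 26), (6, 2, 2, 13), (28, 11,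 2, 13), (40, 23, 2, 27), (30, 37, 2, 36), (38, 23, 2, 26), (57, 47, 2, 20), (33, 43, 2, 14), (43, 3, 2, 34), (2, 24, 2, 25), (56, 54, 2, 7), (53, 10, 2, 15), (31, 23, 2, 27), (58, 45, 2, 28), (29, 23, 2, 29), (26, 23, 2, 28), (11, 51, 2, 16), (34, 3, 2, 34), (17, 23, 2, 28), (10, 58, 2, 19), (46, 20, 2, 12), (47, 53, 2, 30), (16, 17, 2, 26), (18, 23, 2, 27), (50, 34, 2, 28), (51, 29, 2, 23), (52, 23, 2, 25), (37, 10, 2, 18), (23, 3, 2, 9), (55, 48, 0, 5), (36, 54, 2, 8), (32, 47, 2, 21), (39, 45, 2, 27)]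
def g59_r37 : List Entry := [(0, 37, 2, 15), (1, 22, 2, 16), (7, 17, 2, 12), (4, 22, 2, 17), (3, 22, 2, 15), (58, 7, 2, 9), (19, 22, 2, 19), (2, 17, 2, 11), (8, 13, 2, 22), (9, 10, 2, 27), (23, 6, 2, 18), (30, 22, 2, 21), (36, 8, 2, 23), (16, 25, 2, 35), (32, 40, 2, 15), (15, 1, 2, 35), (13, 25, 2, 32), (45, 2, 2, 20), (18, 38, 2, 12), (6, 22, 2, 17), (43, 7, 2, 37), (21, 20, 2, 25), (26, 8, 2, 28), (10, 6, 2, 14), (50, 22, 2, 32), (54, 5, 2, 17), (22, 8, 2, 27), (27, 43, 2, 23), (38, 22, 2, 18), (29, 36, 2, 32), (11, 22, 2, 19), (42, 31, 2, 24), (14, 40, 2, 16), (40, 31, 2, 20), (46, 27, 2, 10), (35, 12, 2, 17), (12, 8, 2, 23), (51, 26, 2, 29), (28, 22, 2, 16), (41, 27, 2, 15), (33, 31, 2, 20), (39, 27, 2, 17), (31, 31, 2, 25), (20, 7, 2, 36), (44, 14, 2, 33), (17, 2, 2, 17), (34, 27, 2, 13), (47, 22, 2, 28), (52, 22, 2, 18),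 (53, 18, 2, 10), (24, 22, 2, 34), (37, 26, 2, 26), (48, 22, 2, 19), (49, 18, 2, 9), (25, 5, 2, 18), (55, 49, 2, 34), (56, 46, 2, 28), (57, 50, 2, 20), (5, 7, 2, 11)]
def g59_r38 : List Entry := [(0, 38, 2, 7), (11, 7, 2, 34), (6, 43, 2, 12), (33, 4, 2, 29), (18, 35, 2, 32), (28, 44, 2, 30), (2, 43, 2, 12), (7, 33, 2, 15), (52, 6, 2, 36), (9, 21, 2, 37), (10, 21, 2, 20), (1, 7, 2, 31), (12, 3, 2, 17), (13, 58, 2, 14), (48, 45, 2, 10), (56, 7, 2, 9), (47, 21, 2, 10), (17, 9, 2, 27), (4, 35, 2, 33), (55, 21, 2, 39), (20, 49, 2, 9), (57, 13, 2, 20), (22, 31, 2, 19), (23, 28, 2, 26), (43, 43, 2, 17), (25, 29, 2, 24), (58, 48, 2, 24), (36, 21, 2, 38), (5, 44, 2, 31), (49, 13, 2, 15), (31, 54, 1, 6), (30, 54, 1, 10), (32, 1, 2, 20), (3, 4, 2, 28), (40, 21, 2, 11), (51, 18, 2, 12), (27, 21, 2, 36), (39, 21, 2, 26), (46, 57, 2, 21), (37,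 21, 2, 24), (34, 21, 2, 13), (41, 37, 2, 12), (42, 8, 2, 25), (24, 43, 2, 16), (44, 47, 2, 33), (50, 4, 2, 30), (38, 57, 2, 18), (16, 21, 2, 8), (14, 45, 2, 9), (29, 13, 2, 15), (45, 4, 2, 32), (35, 18, 2, 9), (8, 6, 2, 37), (54, 21, 1, 9), (53, 21, 1, 11), (19, 21, 2, 40), (15, 7, 2, 7), (21, 13, 2, 19), (26, 48, 2, 27)]
def g59_r39 : List Entry := [(0, 39, 2, 6), (34, 53, 2, 31), (13, 31, 2, 35), (3, 45, 2, 16), (56, 20, 2, 9), (5, 27, 2, 8), (55, 55, 2, 16), (16, 11, 2, 30), (8, 15, 2, 19), (51, 20, 2, 35), (38, 20, 2, 12), (11, 56, 2, 32), (33, 26, 2, 8), (2, 31, 2, 36), (48, 46, 1, 6), (47, 46, 2, 33), (7, 11, 2, 29), (17, 20, 2, 36), (18, 44, 2, 13), (19, 17, 2, 26), (29, 18, 2, 19), (21, 22, 2, 23), (27, 18, 2, 14), (45, 1, 2, 27), (54, 20, 2, 25), (25, 24, 2, 11), (42, 1, 2, 29), (22, 18, 2, 14), (43, 20, 2, 37), (20,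 18, 2, 18), (31, 55, 2, 11), (30, 55, 2, 11), (32, 20, 2, 19), (12, 26, 2, 9), (1, 53, 2, 32), (35, 52, 2, 18), (44, 12, 2, 23), (52, 43, 2, 34), (10, 20, 2, 10), (41, 29, 2, 20), (40, 2, 2, 24), (39, 29, 2, 17), (26, 1, 2, 31), (28, 20, 2, 39), (36, 12, 2, 26), (23, 1, 2, 28), (46, 23, 2, 14), (15, 46, 2, 30), (14, 46, 1, 8), (58, 20, 2, 38), (50, 7, 2, 25), (9, 20, 2, 37), (37, 43, 2, 38), (57, 34, 2, 11), (24, 20, 2, 23), (6, 55, 2, 15), (4, 20, 2, 7), (53, 34, 2, 8), (49, 20, 2, 39)]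
def g59_r40 : List Entry := [(0, 40, 2, 21), (19, 23, 2, 4), (20, 19, 2, 25), (32, 19, 2, 23), (12, 50, 2, 23), (15, 23, 2, 29), (51, 19, 2, 22), (34, 57, 2, 15), (47, 8, 2, 30), (9, 11, 2, 26), (11, 19, 0, 9), (10, 19, 1, 11), (4, 50, 2, 26), (28, 57, 2, 13), (44, 32, 2, 24), (5, 23, 2, 29), (41, 19, 2, 23), (17, 15, 2, 9), (18, 45, 1, 11), (1, 23, 2, 5), (2, 19, 2, 24), (21, 25, 2, 12), (31, 26, 2, 23), (23, 30, 2, 28), (29, 26, 2, 16), (25, 19, 2, 22), (26, 13, 2, 29), (45, 37, 2, 15), (13, 57, 2, 14), (24, 26, 2, 19), (46, 35, 2, 12), (22, 26, 2, 21), (3, 19, 2, 25), (55, 56, 2, 22), (7, 57, 2, 17), (52, 7, 2, 23), (40, 1, 2, 3), (37, 6, 2, 18), (38, 55, 2, 39), (42, 19, 2, 27), (36, 1, 2, 6), (16, 19, 2, 21), (39, 19, 2, 25), (43, 29, 2, 34), (14, 32, 2, 20), (27, 37, 2, 16), (30, 35, 2, 9), (8, 8, 2, 31), (48, 14, 2, 33),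 (49, 5, 2, 23), (57, 12, 2, 18), (6, 19, 2, 24), (35, 7, 2, 24), (53, 28, 2, 31), (54, 19, 2, 34), (33, 56, 2, 21), (58, 8, 2, 26), (50, 12, 2, 17), (56, 8, 2, 26)]
def g59_r41 : List Entry := [(0, 41, 2, 7), (43, 6, 2, 35), (2, 35, 2, 19), (11, 54, 2, 32), (4, 15, 2, 37), (50, 18, 2, 12), (6, 3, 2, 15), (54, 30, 2, 33), (42, 28, 2, 19), (46, 18, 2, 13), (30, 7, 2, 13), (3, 54, 2, 29), (58, 47, 2, 10), (13, 8, 2, 28), (40, 18, 1, 11), (39, 18, 2, 12), (56, 58, 2, 27), (17, 18, 2, 23), (32, 28, 2, 20), (19, 43, 2, 24), (29, 20, 2, 16), (37, 18, 2, 11), (27, 20, 2, 16), (23, 33, 2, 27), (38, 4, 2, 31), (57, 18, 2, 28), (47, 54, 2, 36), (22, 20, 2, 12), (28, 16, 2, 14), (20, 20, 2, 21), (10, 7, 2, 12), (41, 32, 2, 22), (18, 28, 2, 23), (33, 18, 2, 39), (34, 42, 2, 13), (51, 21, 2, 11), (36, 49, 2, 26), (21, 18, 2, 13), (24, 4, 2,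 30), (15, 18, 2, 14), (14, 18, 0, 12), (31, 32, 2, 21), (8, 28, 2, 19), (1, 6, 2, 34), (44, 11, 2, 21), (45, 24, 2, 27), (9, 18, 2, 11), (26, 54, 2, 34), (55, 6, 2, 7), (53, 22, 2, 11), (5, 18, 2, 10), (35, 21, 2, 10), (52, 57, 2, 12), (49, 22, 2, 8), (7, 30, 2, 32), (48, 6, 2, 9), (16, 58, 2, 28), (25, 18, 2, 26), (12, 47, 2, 13)]
def g59_r42 : List Entry := [(0, 42, 2, 22), (20, 33, 2, 30), (7, 22, 2, 13), (49, 30, 2, 17), (17, 33, 2, 5), (46, 17, 2, 24), (29, 45, 2, 22), (2, 22, 2, 10), (21, 17, 2, 26), (9, 1, 2, 10), (12, 17, 2, 26), (32, 32, 2, 32), (10, 17, 2, 24), (13, 3, 2, 12), (43, 47, 2, 23), (15, 56, 2, 34), (48, 23, 2, 24), (4, 33, 2, 6), (28, 51, 2, 18), (19, 20, 2, 24), (1, 33, 2, 30), (8, 17, 2, 25), (31, 28, 2, 24), (51, 48, 2, 19), (27, 17, 2, 23), (25, 41, 2, 13), (42, 4, 2, 4), (24, 17, 2, 25), (18, 51, 2,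 16), (6, 45, 2, 24), (30, 24, 2, 19), (22, 28, 2, 25), (11, 32, 2, 31), (33, 2, 2, 29), (34, 43, 1, 11), (35, 53, 2, 32), (36, 44, 2, 27), (57, 45, 2, 17), (50, 17, 2, 28), (39, 17, 2, 35), (44, 17, 2, 10), (41, 17, 2, 23), (26, 4, 2, 7), (14, 47, 2, 22), (40, 17, 2, 12), (45, 52, 2, 30), (5, 17, 2, 22), (55, 32, 2, 27), (16, 23, 2, 27), (3, 30, 2, 16), (38, 17, 2, 26), (23, 48, 2, 18), (53, 51, 2, 14), (52, 51, 2, 15), (54, 57, 2, 35), (47, 32, 2, 27), (58, 10, 2, 25), (37, 45, 2, 20), (56, 10, 2, 21)]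
def g59_r43 : List Entry := [(0, 43, 2, 4), (41, 56, 2, 27), (2, 16, 2, 17), (23, 25, 2, 35), (4, 57, 2, 6), (5, 53, 2, 21), (18, 58, 2, 32), (22, 39, 2, 38), (54, 16, 2, 10), (10, 48, 2, 27), (9, 48, 2, 29), (51, 16, 2, 37), (14, 25, 2, 31), (24, 44, 2, 9), (12, 25, 2, 28), (33, 16, 2, 7), (35, 38, 2, 17), (47, 45, 2, 21), (6, 58, 2, 36), (29, 16, 2, 33), (20, 31, 2, 38), (43, 35, 2, 15), (7, 39, 2, 35), (3, 25, 2, 33), (13, 44, 2, 9), (25, 42, 1, 12), (26, 36, 2, 14), (27, 49, 2, 24), (28, 18, 2, 16), (19, 16, 2, 35), (30, 12, 2, 17), (55, 16, 2, 23), (32, 37, 2, 22), (15, 16, 2, 5), (37, 13, 2, 34), (16, 38, 2, 16), (42, 48, 2, 26), (34, 13, 2, 33), (38, 47, 2, 11), (48, 7, 2, 30), (40, 41, 2, 23), (1, 56, 2, 28), (36, 48, 2, 25), (21, 35, 2, 18), (52, 44, 2, 13), (50, 9, 2, 6), (58, 16, 2, 35), (17, 45, 2, 24), (39, 7, 2,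 29), (49, 16, 2, 34), (45, 9, 2, 7), (11, 16, 2, 36), (44, 44, 2, 14), (57, 38, 2, 12), (8, 16, 2, 8), (31, 16, 2, 21), (56, 33, 2, 30), (53, 38, 2, 12), (46, 16, 2, 37)]
def g59_r44 : List Entry := [(0, 44, 2, 30), (1, 46, 2, 18), (49, 45, 2, 26), (42, 15, 2, 33), (4, 18, 2, 35), (5, 32, 2, 38), (6, 26, 2, 14), (15, 43, 2, 13), (8, 20, 2, 20), (10, 49, 1, 3), (9, 49, 1, 4), (18, 15, 2, 18), (20, 23, 2, 24), (39, 47, 2, 29), (22, 15, 2, 34), (7, 43, 2, 14), (44, 7, 2, 12), (17, 19, 2, 11), (11, 15, 2, 20), (32, 45, 2, 23), (12, 23, 2, 25), (47, 15, 2, 32), (14, 15, 2, 33), (23, 42, 2, 27), (24, 15, 2, 14), (28, 55, 2, 35), (50, 5, 2, 28), (33, 9, 2, 18), (25, 55, 2, 32), (29, 57, 2, 21), (30, 31, 2, 19), (54, 38, 2, 30), (19, 45, 2, 22), (27, 9, 2, 21), (56, 56, 2, 11), (46, 43, 2, 9), (40, 5, 2, 32), (58, 15, 2, 36), (52, 56,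 2, 6), (13, 47, 2, 33), (36, 5, 2, 30), (41, 39, 2, 13), (3, 15, 2, 31), (43, 33, 2, 8), (16, 7, 2, 15), (55, 25, 2, 26), (35, 43, 2, 9), (21, 15, 2, 34), (48, 35, 2, 32), (2, 45, 2, 24), (26, 5, 2, 25), (53, 15, 2, 30), (38, 56, 2, 6), (51, 15, 2, 32), (31, 38, 2, 31), (45, 25, 2, 27), (34, 56, 2, 10), (57, 15, 2, 31), (37, 15, 2, 34)]
def g59_r45 : List Entry := [(0, 45, 2, 24), (20, 36, 2, 28), (22, 42, 2, 17), (7, 14, 2, 28), (21, 9, 2, 33), (26, 14, 2, 14), (6, 14, 2, 27), (3, 14, 2, 30), (8, 2, 2, 38), (16, 9, 2, 4), (57, 44, 2, 26), (45, 38, 2, 10), (42, 43, 2, 21), (39, 48, 1, 7), (38, 48, 2, 8), (25, 4, 2, 25), (9, 9, 2, 9), (52, 14, 2, 29), (24, 14, 2, 29), (37, 32, 2, 15), (1, 36, 2, 27), (4, 9, 2, 29), (2, 42, 2, 20), (58, 49, 2, 18), (18, 14, 2, 28), (15, 4, 2, 28), (5, 14, 2, 16), (40, 44, 2, 23), (28, 25, 2, 14),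 (32, 30, 2, 27), (53, 42, 2, 22), (31, 6, 2, 15), (29, 30, 2, 30), (33, 13, 2, 30), (43, 12, 2, 30), (35, 58, 2, 15), (55, 14, 2, 28), (19, 32, 2, 16), (14, 48, 2, 11), (13, 48, 0, 7), (27, 44, 2, 22), (41, 40, 0, 12), (12, 43, 2, 20), (34, 12, 2, 29), (44, 22, 2, 32), (11, 38, 2, 9), (46, 14, 2, 40), (47, 5, 2, 29), (48, 19, 2, 31), (49, 51, 2, 25), (51, 14, 2, 31), (50, 14, 2, 29), (17, 14, 2, 27), (30, 42, 2, 24), (54, 1, 2, 7), (36, 14, 2, 30), (56, 39, 2, 16), (10, 44, 2, 24), (23, 49, 2, 19)]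
def g59_r46 : List Entry := [(0, 46, 2, 8), (38, 13, 2, 13), (40, 28, 2, 13), (3, 37, 2, 28), (54, 24, 2, 36), (47, 55, 2, 28), (46, 10, 2, 23), (36, 13, 2, 12), (8, 22, 2, 20), (9, 13, 2, 24), (13, 53, 2, 24), (45, 39, 0, 6), (44, 39, 2, 33), (10, 53, 2, 21), (14, 13, 2, 40), (43, 24, 2, 8), (16, 1, 2, 38), (17, 54, 2, 25), (18, 50, 2, 14), (35, 29, 2, 12), (23, 13, 2, 13), (57, 21, 2, 17), (27, 25, 2, 12), (20, 13, 2, 11), (24, 12, 2, 16), (30, 13, 2, 12), (26, 19, 2, 27), (22, 25, 2, 11), (39, 2, 2, 34), (49, 21, 2, 17), (25, 13, 2, 14), (31, 51, 2, 13), (50, 53, 2, 20), (33, 14, 2, 28), (37, 16, 2, 31), (19, 29, 2, 9), (7, 13, 2, 14), (34, 16, 2, 32), (1, 13, 2, 15), (28, 2, 2, 33), (2, 28, 2, 14), (51, 13, 2, 29), (56, 13, 2, 13), (15, 24, 2, 10), (12, 39, 2, 30), (11, 39, 1, 8), (6, 10, 2, 22), (5, 55, 2, 29), (55, 11, 2,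 11), (29, 21, 2, 13), (32, 53, 2, 20), (41, 13, 2, 27), (52, 32, 2, 29), (53, 5, 2, 15), (4, 24, 2, 35), (48, 11, 2, 14), (42, 13, 2, 12), (21, 21, 2, 22), (58, 44, 2, 22)]
def g59_r47 : List Entry := [(0, 47, 2, 28), (47, 41, 2, 10), (27, 36, 2, 20), (3, 28, 2, 30), (4, 2, 2, 36), (14, 12, 2, 30), (11, 12, 2, 34), (29, 12, 2, 30), (19, 51, 2, 31), (40, 4, 2, 26), (26, 12, 2, 29), (6, 12, 2, 32), (41, 58, 2, 12), (55, 54, 2, 28), (5, 12, 2, 32), (15, 38, 2, 33), (45, 42, 2, 23), (32, 4, 2, 30), (54, 33, 2, 33), (8, 51, 2, 30), (46, 44, 2, 33), (21, 43, 2, 11), (22, 12, 2, 29), (53, 12, 2, 32), (24, 13, 2, 17), (28, 58, 2, 7), (10, 12, 2, 31), (2, 36, 2, 21), (25, 58, 2, 7), (7, 12, 2, 28), (30, 16, 2, 18), (31, 12, 2, 12), (17, 4, 2, 28), (39, 33, 2, 8), (43, 14, 2, 27), (35, 22, 2, 19), (44, 20, 2, 24), (51, 36, 2, 24), (56,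 12, 2, 18), (33, 33, 2, 9), (9, 4, 2, 23), (12, 58, 2, 11), (42, 10, 2, 25), (34, 14, 2, 31), (36, 20, 2, 25), (16, 42, 2, 22), (20, 44, 2, 30), (1, 41, 2, 13), (48, 25, 2, 16), (49, 27, 2, 38), (57, 19, 2, 19), (37, 36, 2, 22), (52, 9, 2, 12), (23, 12, 2, 31), (18, 33, 2, 33), (13, 54, 2, 29), (38, 12, 2, 16), (50, 19, 2, 16), (58, 50, 2, 35)]
def g59_r48 : List Entry := [(0, 48, 2, 27), (33, 38, 2, 24), (31, 11, 2, 31), (39, 11, 2, 31), (4, 36, 1, 5), (41, 3, 2, 31), (18, 4, 2, 10), (16, 20, 2, 31), (36, 42, 2, 19), (9, 19, 2, 28), (51, 33, 2, 20), (13, 4, 2, 11), (25, 11, 2, 19), (11, 4, 2, 14), (19, 11, 2, 34), (35, 11, 2, 31), (7, 20, 2, 28), (23, 43, 2, 26), (6, 4, 2, 10), (14, 11, 2, 32), (46, 45, 1, 7), (45, 45, 2, 12), (22, 7, 2, 17), (17, 43, 2, 25), (26, 11, 2, 30), (12, 11, 2, 17), (24, 11, 2, 32), (42, 32, 2, 30),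 (28, 23, 2, 15), (32, 33, 2, 27), (30, 11, 2, 30), (2, 11, 2, 32), (29, 33, 2, 25), (1, 38, 2, 23), (34, 5, 2, 10), (15, 11, 2, 33), (8, 42, 2, 18), (37, 30, 2, 18), (52, 1, 2, 32), (3, 11, 2, 33), (40, 10, 0, 12), (5, 3, 2, 30), (27, 32, 2, 33), (43, 51, 2, 35), (44, 18, 2, 19), (21, 45, 2, 7), (20, 45, 1, 3), (47, 6, 2, 33), (55, 13, 2, 12), (50, 43, 2, 27), (49, 43, 2, 29), (10, 33, 2, 23), (38, 1, 2, 33), (53, 11, 2, 14), (56, 9, 2, 22), (48, 13, 2, 13), (54, 9, 2, 21), (57, 54, 2, 18), (58, 25, 2, 32)]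
def g59_r49 : List Entry := [(0, 49, 2, 18), (36, 45, 2, 22), (28, 10, 2, 25), (57, 57, 2, 32), (4, 37, 2, 35), (19, 10, 2, 24), (46, 13, 2, 24), (24, 23, 2, 18), (33, 35, 2, 12), (9, 22, 2, 25), (44, 9, 1, 2), (43, 9, 2, 30), (27, 10, 2, 37), (21, 30, 2, 16), (51, 10, 2, 24), (45, 57, 2, 23), (16, 10, 2, 34), (30, 56, 2, 15), (22, 6, 2, 10), (5, 10, 2, 22), (20, 1, 2, 37), (13, 30, 2, 18), (18, 6, 2, 9), (23, 41, 2, 26), (7, 23, 2, 20), (25, 33, 2, 38), (48, 51, 2, 22), (12, 10, 2, 39), (2, 10, 2, 23), (54, 10, 2, 23), (17, 56, 2, 14), (31, 52, 2, 32), (32, 43, 2, 24), (8, 35, 2, 13), (55, 10, 2, 22), (35, 28, 2, 19), (1, 45, 2, 19), (53, 23, 2, 16), (38, 10, 2, 21), (39, 38, 2, 9), (40, 11, 1, 10), (52, 30, 2, 14), (42, 12, 2, 23), (11, 9, 2, 30), (10, 9, 0, 5), (15, 57, 2, 27), (6, 13, 2, 21), (47, 26, 2, 30), (26, 51, 2, 21),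 (50, 44, 0, 3), (49, 44, 0, 4), (14, 10, 2, 22), (41, 30, 2, 11), (37, 23, 2, 17), (29, 10, 2, 21), (34, 10, 2, 23), (58, 17, 2, 23), (3, 57, 2, 27), (56, 17, 2, 24)]
def g59_r50 : List Entry := [(0, 50, 2, 23), (1, 47, 2, 35), (2, 37, 2, 20), (3, 31, 2, 31), (21, 14, 2, 31), (15, 33, 2, 25), (29, 53, 2, 26), (20, 9, 2, 23), (28, 29, 2, 14), (16, 14, 2, 7), (44, 10, 1, 3), (43, 10, 2, 28), (19, 2, 2, 18), (53, 27, 2, 19), (14, 8, 2, 30), (5, 33, 2, 28), (9, 14, 2, 6), (17, 21, 2, 25), (18, 54, 2, 12), (12, 2, 2, 17), (7, 9, 2, 25), (4, 14, 2, 31), (22, 35, 2, 33), (34, 9, 2, 27), (57, 3, 2, 23), (32, 9, 2, 26), (26, 58, 2, 28), (33, 15, 2, 19), (8, 29, 2, 11), (6, 53, 2, 25), (51, 3, 2, 18), (35, 27, 2, 15), (25, 9, 2, 27), (27, 15, 2, 20), (23, 9, 2, 29), (31, 27, 2, 16), (36, 4, 2, 11), (49, 9, 2, 24), (38, 9, 2, 36), (39, 51,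 2, 36), (48, 9, 2, 27), (41, 46, 2, 14), (58, 9, 2, 11), (11, 10, 2, 28), (10, 10, 0, 4), (50, 16, 2, 5), (46, 9, 2, 24), (55, 40, 2, 26), (40, 9, 2, 25), (37, 9, 2, 26), (45, 16, 2, 8), (30, 3, 2, 21), (52, 12, 2, 13), (13, 27, 2, 17), (56, 11, 2, 23), (47, 40, 2, 22), (54, 11, 2, 24), (24, 3, 2, 25), (42, 9, 2, 13)]
def g59_r51 : List Entry := [(0, 51, 2, 16), (1, 8, 2, 32), (2, 58, 2, 22), (9, 29, 2, 19), (27, 8, 2, 22), (34, 24, 2, 16), (7, 42, 2, 14), (6, 42, 2, 15), (47, 19, 2, 29), (3, 29, 2, 20), (10, 45, 2, 21), (33, 49, 2, 22), (36, 22, 2, 21), (13, 18, 2, 30), (14, 9, 2, 28), (15, 6, 2, 33), (16, 48, 2, 35), (48, 36, 2, 17), (21, 24, 2, 9), (19, 53, 2, 23), (20, 50, 2, 36), (18, 24, 2, 12), (26, 22, 2, 25), (29, 8, 2, 22), (49, 33, 2, 12), (52, 34, 2, 19), (22, 22, 2, 30), (4, 8, 2, 20), (28, 46, 2, 17), (23, 8, 2,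 20), (50, 28, 2, 10), (41, 42, 2, 18), (32, 56, 2, 37), (11, 49, 2, 21), (5, 24, 2, 14), (55, 8, 2, 21), (12, 22, 2, 25), (46, 8, 2, 23), (53, 52, 2, 37), (44, 8, 2, 20), (51, 47, 2, 31), (31, 42, 2, 16), (42, 21, 2, 24), (43, 54, 2, 7), (39, 8, 2, 21), (57, 8, 2, 35), (37, 8, 2, 21), (8, 19, 2, 32), (17, 36, 2, 20), (24, 33, 2, 13), (30, 28, 2, 11), (40, 47, 2, 30), (25, 34, 2, 22), (38, 52, 2, 36), (54, 8, 2, 19), (35, 8, 2, 19), (58, 19, 2, 28), (45, 8, 2, 37), (56, 19, 2, 28)]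
def g59_r52 : List Entry := [(0, 52, 2, 11), (11, 21, 2, 33), (40, 34, 2, 16), (3, 7, 1, 12), (4, 1, 2, 21), (58, 22, 2, 13), (21, 51, 2, 37), (19, 24, 2, 24), (34, 34, 2, 21), (12, 7, 2, 13), (30, 18, 2, 10), (1, 21, 2, 32), (9, 7, 2, 11), (32, 7, 2, 28), (14, 42, 2, 29), (56, 21, 2, 5), (44, 15, 2, 13), (51, 6, 2, 13), (57, 7, 2, 15), (7, 24, 2, 23), (43, 22, 2, 38), (6, 51, 2, 36), (22, 11, 2, 19), (23, 7, 2, 24), (24, 39, 2, 18), (55, 7, 2, 14), (38, 7, 2, 14), (27, 30, 2, 23), (28, 49, 2, 28), (41, 54, 2, 35), (10, 18, 2, 14), (33, 7, 2, 15), (13, 7, 2, 30), (31, 7, 2, 17), (8, 34, 2, 20), (52, 19, 2, 22), (49, 24, 2, 19), (42, 2, 2, 12), (26, 7, 2, 15), (48, 16, 2, 31), (2, 34, 2, 16), (29, 54, 2, 34), (37, 2, 2, 11), (20, 22, 2, 35), (16, 15, 2, 14), (45, 3, 2, 31), (46, 36, 2, 13), (47, 29, 2, 30), (39, 16, 2, 28), (36,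 24, 2, 19), (50, 20, 2, 24), (17, 6, 2, 16), (35, 19, 2, 25), (53, 32, 2, 16), (54, 55, 2, 37), (25, 7, 2, 12), (15, 21, 2, 7), (18, 7, 2, 13), (5, 22, 2, 11)]
def g59_r53 : List Entry := [(0, 53, 2, 11), (43, 18, 2, 36), (2, 1, 2, 19), (35, 6, 2, 17), (39, 55, 2, 14), (13, 6, 2, 16), (50, 29, 2, 24), (32, 6, 2, 15), (52, 21, 2, 35), (27, 46, 2, 16), (23, 22, 2, 16), (11, 6, 2, 14), (12, 36, 2, 30), (5, 6, 2, 18), (42, 29, 2, 23), (15, 8, 2, 31), (38, 2, 2, 11), (51, 7, 2, 14), (22, 10, 2, 7), (28, 6, 2, 30), (34, 2, 2, 10), (21, 5, 1, 12), (18, 10, 2, 8), (10, 22, 2, 17), (24, 42, 2, 32), (58, 39, 2, 31), (26, 34, 2, 28), (9, 46, 2, 20), (19, 6, 2, 32), (29, 25, 2, 18), (53, 50, 2, 26), (31, 14, 2, 17), (7, 6, 2, 17), (44, 6, 2, 16), (20, 2, 2, 9), (3, 6, 2, 15), (57, 27, 2, 15), (37, 19, 2, 16), (16, 2, 2, 13), (4, 55, 2, 17),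 (40, 51, 2, 23), (56, 6, 2, 16), (14, 29, 2, 23), (1, 18, 2, 33), (33, 6, 2, 15), (45, 6, 2, 27), (49, 46, 2, 20), (47, 11, 2, 31), (55, 18, 2, 11), (46, 46, 2, 25), (6, 29, 2, 27), (17, 7, 2, 15), (8, 21, 2, 34), (30, 50, 2, 25), (54, 43, 2, 25), (48, 18, 2, 9), (41, 6, 2, 14), (36, 27, 2, 12), (25, 39, 2, 32)]
def g59_r54 : List Entry := [(0, 54, 2, 5), (14, 5, 2, 8), (2, 48, 2, 18), (23, 36, 2, 7), (46, 47, 2, 28), (22, 34, 2, 18), (43, 5, 2, 24), (55, 5, 2, 36), (8, 5, 2, 18), (11, 3, 2, 22), (10, 30, 2, 23), (9, 3, 2, 25), (33, 41, 2, 36), (24, 55, 2, 37), (1, 5, 2, 6), (38, 28, 2, 30), (16, 51, 2, 7), (57, 5, 2, 34), (30, 52, 2, 35), (19, 5, 2, 35), (20, 35, 2, 22), (21, 6, 1, 10), (5, 34, 2, 17), (3, 36, 2, 8), (13, 55, 2, 33), (54, 22, 2, 16), (50, 15, 2, 27), (44, 5, 2, 37), (29, 38, 0, 10), (28, 38, 1, 7), (18, 52, 2,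 34), (58, 58, 2, 15), (39, 5, 2, 11), (12, 41, 2, 34), (34, 11, 2, 12), (51, 34, 2, 13), (40, 15, 2, 28), (52, 58, 2, 10), (15, 28, 2, 31), (32, 5, 2, 9), (36, 15, 2, 30), (41, 50, 2, 13), (42, 46, 2, 24), (6, 5, 2, 22), (27, 5, 2, 38), (45, 26, 2, 15), (4, 47, 2, 29), (47, 14, 2, 31), (56, 41, 2, 32), (49, 19, 2, 25), (26, 15, 2, 26), (35, 34, 2, 13), (37, 58, 2, 10), (53, 13, 2, 17), (25, 22, 2, 19), (7, 5, 2, 38), (48, 41, 2, 29), (17, 5, 2, 36), (31, 58, 2, 14)]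
def g59_r55 : List Entry := [(0, 55, 2, 3), (1, 29, 0, 5), (43, 4, 2, 9), (33, 21, 2, 30), (53, 39, 2, 16), (5, 52, 2, 37), (18, 11, 2, 8), (7, 34, 2, 15), (8, 24, 2, 21), (40, 12, 2, 25), (10, 25, 2, 22), (13, 11, 2, 12), (54, 46, 2, 28), (11, 11, 2, 13), (14, 23, 2, 29), (25, 14, 2, 26), (16, 28, 2, 20), (32, 12, 2, 26), (6, 11, 2, 8), (56, 26, 2, 20), (55, 53, 2, 14), (21, 40, 2, 40), (49, 4, 2, 34), (48, 4, 1, 4), (38, 18, 2, 32), (15, 14, 2, 27), (42, 17, 2, 5), (27, 4, 2, 33), (29, 39, 2, 11), (28, 39, 2, 11), (30, 4, 2, 16), (34, 44, 2, 31), (17, 12, 2, 28), (3, 21, 2, 27), (31, 44, 2, 35), (46, 54, 2, 34), (36, 9, 2, 13), (37, 3, 2, 16), (24, 18, 2, 33), (39, 56, 2, 10), (9, 12, 2, 24), (44, 4, 2, 34), (26, 17, 2, 6), (2, 4, 2, 7), (41, 4, 2, 36), (50, 21, 2, 34), (35, 54, 2, 37), (57, 4, 2, 36), (23, 4, 0, 6), (22, 4,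 2, 32), (45, 21, 2, 32), (51, 27, 2, 23), (58, 4, 2, 22), (4, 39, 2, 15), (12, 46, 2, 29), (20, 53, 2, 17), (19, 26, 2, 23), (47, 4, 2, 35), (52, 4, 2, 20)]
def g59_r56 : List Entry := [(0, 56, 2, 27), (1, 30, 2, 35), (49, 57, 2, 30), (25, 44, 2, 11), (26, 40, 2, 22), (41, 11, 2, 32), (6, 18, 2, 16), (21, 44, 2, 6), (19, 1, 2, 27), (11, 5, 2, 23), (17, 1, 2, 22), (9, 5, 2, 24), (12, 21, 2, 15), (13, 17, 2, 11), (39, 3, 2, 15), (56, 25, 2, 9), (33, 3, 2, 29), (10, 1, 2, 25), (58, 43, 2, 27), (8, 1, 2, 29), (20, 55, 2, 10), (7, 44, 2, 6), (46, 3, 2, 27), (54, 23, 2, 7), (57, 9, 2, 23), (3, 44, 2, 10), (4, 40, 2, 21), (27, 51, 2, 37), (50, 3, 2, 30), (42, 49, 2, 15), (51, 9, 2, 19), (47, 3, 2, 33), (36, 3, 2, 28), (16, 3, 2, 31), (43, 23, 2, 32), (35, 3, 2, 28), (32, 3, 2, 30), (37, 4, 2, 17), (55, 33, 2, 26), (14, 3, 2, 17), (40,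 32, 2, 24), (5, 11, 2, 29), (29, 49, 2, 18), (34, 23, 2, 32), (44, 42, 2, 34), (45, 7, 2, 29), (22, 3, 2, 29), (31, 3, 2, 31), (48, 39, 2, 32), (2, 57, 2, 29), (28, 3, 2, 31), (30, 9, 2, 20), (52, 3, 1, 11), (53, 35, 2, 18), (23, 23, 2, 8), (38, 33, 2, 30), (15, 25, 2, 12), (24, 9, 2, 21), (18, 43, 2, 28)]
def g59_r57 : List Entry := [(0, 57, 2, 15), (51, 2, 2, 21), (56, 49, 2, 28), (9, 35, 2, 20), (4, 12, 2, 34), (5, 42, 2, 35), (27, 23, 2, 11), (7, 41, 2, 16), (8, 14, 2, 36), (3, 35, 2, 24), (57, 56, 2, 30), (54, 2, 2, 20), (19, 9, 2, 19), (21, 38, 2, 21), (44, 49, 2, 27), (15, 2, 2, 31), (38, 6, 2, 15), (45, 22, 2, 19), (18, 34, 2, 29), (12, 9, 2, 16), (34, 6, 2, 11), (13, 38, 2, 18), (50, 2, 2, 19), (47, 27, 2, 20), (41, 2, 2, 22), (52, 40, 2, 15), (29, 2, 2, 34), (6, 23, 2, 12), (39, 13, 2, 35), (26, 2, 2, 36), (30, 44, 2,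 21), (46, 40, 2, 13), (32, 26, 2, 20), (33, 17, 2, 27), (20, 6, 2, 8), (36, 35, 2, 24), (35, 35, 2, 29), (42, 7, 2, 9), (16, 6, 2, 13), (28, 13, 2, 36), (40, 20, 2, 23), (24, 2, 2, 20), (37, 7, 2, 10), (43, 2, 2, 18), (14, 49, 2, 27), (17, 22, 2, 18), (31, 40, 2, 14), (23, 27, 2, 21), (48, 31, 2, 32), (49, 28, 2, 22), (22, 2, 2, 21), (1, 2, 2, 19), (25, 40, 2, 17), (58, 2, 2, 20), (11, 2, 2, 19), (55, 43, 2, 6), (2, 49, 2, 31), (10, 56, 2, 29), (53, 2, 2, 18)]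
def g59_r58 : List Entry := [(0, 58, 0, 2), (28, 54, 2, 15), (2, 6, 2, 20), (43, 41, 2, 27), (4, 7, 2, 19), (58, 28, 2, 13), (39, 34, 2, 31), (22, 54, 2, 10), (19, 3, 2, 27), (9, 17, 2, 12), (17, 3, 2, 23), (25, 1, 2, 35), (50, 1, 2, 34), (44, 1, 2, 21), (49, 36, 2, 22), (15, 22, 2, 33), (16, 13, 2, 36), (10, 3, 2, 24), (47, 47, 2, 12), (8, 3, 2, 25), (20, 10, 2, 39), (48, 33, 2, 26), (7, 54, 2, 10), (45, 20, 2, 26), (24, 45, 2, 15), (11, 1, 2, 33), (42, 20, 2, 33), (35, 1, 2, 31), (1, 54, 2, 14), (56, 1, 2, 34), (55, 1, 0, 8), (34, 47, 2, 7), (32, 21, 2, 21), (33, 50, 2, 28), (31, 47, 2, 7), (27, 1, 2, 33), (40, 19, 2, 4), (37, 1, 2, 15), (52, 11, 2, 34), (6, 34, 2, 32), (36, 19, 2, 5), (53, 43, 2, 36), (26, 20, 2, 31), (3, 41, 2, 28), (13, 1, 2, 19), (23, 20, 2, 29), (46, 38, 2, 14), (18, 47, 2, 11), (21, 33, 2, 25), (14, 36,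 2, 19), (12, 1, 2, 32), (51, 1, 2, 32), (38, 11, 2, 30), (41, 43, 2, 33), (54, 14, 2, 9), (30, 1, 1, 6), (29, 1, 2, 35), (57, 51, 2, 22), (5, 28, 2, 16)]
def g59_T : List (List Entry) := [g59_r0, g59_r1, g59_r2, g59_r3, g59_r4, g59_r5, g59_r6, g59_r7, g59_r8, g59_r9, g59_r10, g59_r11, g59_r12, g59_r13, g59_r14, g59_r15, g59_r16, g59_r17, g59_r18, g59_r19, g59_r20, g59_r21, g59_r22, g59_r23, g59_r24, g59_r25, g59_r26, g59_r27, g59_r28, g59_r29, g59_r30, g59_r31, g59_r32, g59_r33, g59_r34, g59_r35, g59_r36, g59_r37, g59_r38, g59_r39, g59_r40, g59_r41, g59_r42, g59_r43, g59_r44, g59_r45, g59_r46, g59_r47, g59_r48, g59_r49, g59_r50, g59_r51, g59_r52, g59_r53, g59_r54, g59_r55, g59_r56, g59_r57, g59_r58]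


theorem g59_check : check 59 g59_gs g59_gis g59_T = true := by decide +kernel

theorem result (A : Matrix.GeneralLinearGroup (Fin 2) (ZMod 59)) (B : Matrix.GeneralLinearGroup (Fin 2) (ZMod 59)) (C : Matrix.GeneralLinearGroup (Fin 2) (ZMod 59)) (hA : (A : Matrix (Fin 2) (Fin 2) (ZMod 59)) = !![0, -1; 1, 0]) (hB : (B : Matrix (Fin 2) (Fin 2) (ZMod 59)) = !![9, 15; -10, -10]) (hC : (C : Matrix (Fin 2) (Fin 2) (ZMod 59)) = !![4, 0; 0, 4]) : Nat.card (Subgroup.closure ({A, B, C} : Set (Matrix.GeneralLinearGroup (Fin 2) (ZMod 59)))) = 3480 ∧ ∀ v w : Fin 2 → ZMod 59, v ≠ 0 → w ≠ 0 → ∃! h : Subgroup.closure ({A, B, C} : Set (Matrix.GeneralLinearGroup (Fin 2) (ZMod 59))), Matrix.mulVec ((h : Matrix.GeneralLinearGroup (Fin 2) (ZMod 59)) : Matrix (Fin 2) (Fin 2) (ZMod 59)) v = w := by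
  have : Fact (Nat.Prime 59) := ⟨by norm_num⟩
  have hA' : (A : Matrix (Fin 2) (Fin 2) (ZMod 59)) = toMat 59 (0, 58, 1, 0) := by
    rw [hA]
    ext i j
    fin_cases i <;> fin_cases j <;> simp [toMat] <;> rfl
  have hB' : (B : Matrix (Fin 2) (Fin 2) (ZMod 59)) = toMat 59 (9, 15, 49, 49) := by
    rw [hB]
    ext i j
    fin_cases i <;> fin_cases j <;> simp [toMat] <;> rfl
  have hC' : (C : Matrix (Fin 2) (Fin 2) (ZMod 59)) = toMat 59 (4, 0, 0, 4) := by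
    rw [hC]
    ext i j
    fin_cases i <;> fin_cases j <;> simp [toMat]
  have key := regular_of_check 59 g59_gs g59_gis g59_T g59_check ({A, B, C} : Set _)
    (by
      intro g hg
      rcases hg with rfl | rfl | rfl
      · exact ⟨(0, 58, 1, 0), by simp [g59_gs], hA'⟩
      · exact ⟨(9, 15, 49, 49), by simp [g59_gs], hB'⟩
      · exact ⟨(4, 0, 0, 4), by simp [g59_gs], hC'⟩)
    (by
      intro m hm
      simp only [g59_gs, List.mem_cons, List.not_mem_nil, or_false] at hm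
      rcases hm with rfl | rfl | rfl
      · exact ⟨A, by simp, hA'⟩
      · exact ⟨B, by simp, hB'⟩
      · exact ⟨C, by simp, hC'⟩)
  exact key

end Cfsg.Agent.S0693
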