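import Mathlib
import Cfsg.Statements.S0694

set_option autoImplicit false
open Cfsg

namespace Cfsg.Agent.S0694

/-- divisibility from valuations -/
theorem dvd_of_val {a b : ℕ} (ha : a ≠ 0) (hb : b ≠ 0)
    (h : ∀ r : ℕ, r.Prime → padicValNat r a ≤ padicValNat r b) : a ∣ b := by
  rw [← Nat.factorization_prime_le_iff_dvd ha hb]
  intro r hr
  rw [Nat.factorization_def _ hr, Nat.factorization_def _ hr]
  exact h r hr

theorem val_le_of_dvd {a b : ℕ} (hb : b ≠ 0) (h : a ∣ b) (r : ℕ) (hr : r.Prime) :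
    padicValNat r a ≤ padicValNat r b := by
  have ha : a ≠ 0 := fun h0 => hb (by rw [h0] at h; exact Nat.eq_zero_of_zero_dvd h)
  have := (Nat.factorization_prime_le_iff_dvd ha hb).mpr h r hr
  rwa [Nat.factorization_def _ hr, Nat.factorization_def _ hr] at this

theorem padic_of_int {a : ℕ} (ha : a ≠ 0) (r : ℕ) [Fact r.Prime] :
    (padicValNat r a : ℕ∞) = emultiplicity (r : ℤ) (a : ℤ) := by
  rw [padicValNat_eq_emultiplicity ha, Int.natCast_emultiplicity]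

theorem pow_sub_one_ne_zero {q i : ℕ} (hq : 2 ≤ q) (hi : i ≠ 0) : q ^ i - 1 ≠ 0 := by
  have : 2 ≤ q ^ i := by
    calc 2 ≤ q := hq
      _ = q ^ 1 := (pow_one q).symm
      _ ≤ q ^ i := Nat.pow_le_pow_right (by omega) (by omega)
  omega

theorem cast_pow_sub_one (q i : ℕ) (hq : 2 ≤ q) : ((q ^ i - 1 : ℕ) : ℤ) = (q : ℤ) ^ i - 1 ^ i := by
  have : 1 ≤ q ^ i := Nat.one_le_pow _ _ (by omega)
  rw [Nat.cast_sub this]
  simp

theorem cast_sub_one (q : ℕ) (hq : 2 ≤ q) : ((q - 1 : ℕ) : ℤ) = (q : ℤ) - 1 := by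
  rw [Nat.cast_sub (by omega)]
  simp

/-- Lifting the exponent, uniform version. -/
theorem lte {q r i : ℕ} (hq : 2 ≤ q) (hr : r.Prime) (hrq : r ∣ q - 1) (h4 : r = 2 → 4 ∣ q - 1)
    (hi : i ≠ 0) :
    padicValNat r (q ^ i - 1) = padicValNat r (q - 1) + padicValNat r i := by
  haveI : Fact r.Prime := ⟨hr⟩
  have hrq' : ¬ r ∣ q := by
    intro h
    have h2 : r ∣ q - (q - 1) := Nat.dvd_sub h hrq
    have h3 : q - (q - 1) = 1 := by omega
    rw [h3] at h2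
    exact hr.one_lt.ne' (Nat.dvd_one.mp h2)
  rcases hr.eq_two_or_odd' with rfl | hodd
  · have h4' := h4 rfl
    have h1 : q ^ i - 1 ≠ 0 := pow_sub_one_ne_zero hq hi
    have h2 : q - 1 ≠ 0 := by omega
    rw [← Nat.cast_inj (R := ℕ∞), Nat.cast_add, padic_of_int h1, padic_of_int h2, padic_of_int hi,
      cast_pow_sub_one q i hq, cast_sub_one q hq]
    have hx4 : (4 : ℤ) ∣ (q : ℤ) - 1 := by
      rw [← cast_sub_one q hq]
      exact_mod_cast h4'
    have hx2 : ¬ (2 : ℤ) ∣ (q : ℤ) := by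
      intro h
      apply hrq'
      exact_mod_cast h
    exact Int.two_pow_sub_pow' i hx4 hx2
  · have := padicValNat.pow_sub_pow hodd (x := q) (y := 1) (by omega) hrq hrq' hi
    simpa using this

/-- odd exponent, `p = 2` -/
theorem val_two_odd {q i : ℕ} (hq : 2 ≤ q) (hqodd : ¬ 2 ∣ q) (hi : ¬ 2 ∣ i) :
    padicValNat 2 (q ^ i - 1) = padicValNat 2 (q - 1) := by
  have hi0 : i ≠ 0 := by rintro rfl; simp at hi
  have h1 : q ^ i - 1 ≠ 0 := pow_sub_one_ne_zero hq hi0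
  have h2 : q - 1 ≠ 0 := by omega
  rw [← Nat.cast_inj (R := ℕ∞), padic_of_int h1, padic_of_int h2,
    cast_pow_sub_one q i hq, cast_sub_one q hq]
  have hx2 : ¬ (2 : ℤ) ∣ (q : ℤ) := by
    intro h
    apply hqodd
    exact_mod_cast h
  have hxy : (2 : ℤ) ∣ (q : ℤ) - 1 := by
    rw [← cast_sub_one q hq]
    have : 2 ∣ q - 1 := by omega
    exact_mod_cast this
  have hi' : ¬ (2 : ℤ) ∣ (i : ℤ) := by
    intro h
    apply hi
    exact_mod_cast h
  exact emultiplicity_pow_sub_pow_of_prime Int.prime_two hxy hx2 hi'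

/-- If `s` is prime, `s ∣ x - 1` and `s ∤ m` then `v_s (x ^ m - 1) = v_s (x - 1)`. -/
theorem val_pow_of_not_dvd {x m s : ℕ} (hx : 2 ≤ x) (hs : s.Prime) (hsx : s ∣ x - 1)
    (hm : ¬ s ∣ m) : padicValNat s (x ^ m - 1) = padicValNat s (x - 1) := by
  haveI : Fact s.Prime := ⟨hs⟩
  have hm0 : m ≠ 0 := by rintro rfl; simp at hm
  have h1 : x ^ m - 1 ≠ 0 := pow_sub_one_ne_zero hx hm0
  have h2 : x - 1 ≠ 0 := by omega
  rw [← Nat.cast_inj (R := ℕ∞), padic_of_int h1, padic_of_int h2,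
    cast_pow_sub_one x m hx, cast_sub_one x hx]
  have hsx' : ¬ s ∣ x := by
    intro h
    have h2 : s ∣ x - (x - 1) := Nat.dvd_sub h hsx
    have h3 : x - (x - 1) = 1 := by omega
    rw [h3] at h2
    exact hs.one_lt.ne' (Nat.dvd_one.mp h2)
  have hx2 : ¬ (s : ℤ) ∣ (x : ℤ) := by
    intro h
    apply hsx'
    exact_mod_cast h
  have hxy : (s : ℤ) ∣ (x : ℤ) - 1 := by
    rw [← cast_sub_one x hx]
    exact_mod_cast hsx
  have hm' : ¬ (s : ℤ) ∣ (m : ℤ) := by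
    intro h
    apply hm
    exact_mod_cast h
  exact emultiplicity_pow_sub_pow_of_prime (Nat.prime_iff_prime_int.mp hs) hxy hx2 hm'

theorem modEq_iff (q n i : ℕ) (hq : 2 ≤ q) :
    q ^ i ≡ 1 [MOD n * (q - 1)] ↔ n * (q - 1) ∣ q ^ i - 1 := by
  have h1 : 1 ≤ q ^ i := Nat.one_le_pow _ _ (by omega)
  rw [Nat.ModEq.comm, Nat.modEq_iff_dvd' h1]

theorem sub_one_dvd (q i : ℕ) : q - 1 ∣ q ^ i - 1 := by
  have := Nat.sub_dvd_pow_sub_pow q 1 i
  simpa using this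

theorem val_two_eq_one {a : ℕ} (ha : a ≠ 0) (h2 : 2 ∣ a) (h4 : ¬ 4 ∣ a) : padicValNat 2 a = 1 := by
  have h1 : 1 ≤ padicValNat 2 a := one_le_padicValNat_of_dvd ha h2
  have h3 : ¬ 2 ≤ padicValNat 2 a := by
    rw [← padicValNat_dvd_iff_le ha]
    exact h4
  omega

theorem local_iff {q n r i : ℕ} (hq : 2 ≤ q) (hn : n ≠ 0) (hr : r.Prime) (hrn : r ∣ n)
    (hrq : r ∣ q - 1) (h4 : r = 2 → 4 ∣ n → 4 ∣ q - 1) (hi : i ≠ 0) :
    padicValNat r n + padicValNat r (q - 1) ≤ padicValNat r (q ^ i - 1) ↔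
      padicValNat r n ≤ padicValNat r i := by
  haveI : Fact r.Prime := ⟨hr⟩
  by_cases hgood : r = 2 → 4 ∣ q - 1
  · rw [lte hq hr hrq hgood hi]; omega
  · rw [Classical.not_imp] at hgood
    obtain ⟨rfl, h4q⟩ := hgood
    have h4n : ¬ 4 ∣ n := fun h => h4q (h4 rfl h)
    have hvn : padicValNat 2 n = 1 := val_two_eq_one hn hrn h4n
    have hvq : padicValNat 2 (q - 1) = 1 := val_two_eq_one (by omega) hrq h4q
    have hqodd : ¬ 2 ∣ q := by omega
    rw [hvn, hvq]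
    by_cases hie : 2 ∣ i
    · have h1 := padicValNat.pow_two_sub_one_ge (x := q) (n := i) (by omega) hqodd hi
        (even_iff_two_dvd.mpr hie)
      have h2 : 1 ≤ padicValNat 2 i := one_le_padicValNat_of_dvd hi hie
      constructor <;> intro <;> omega
    · rw [val_pow_of_not_dvd hq Nat.prime_two hrq hie, hvq, padicValNat.eq_zero_of_not_dvd hie]
      omega

theorem dvd_iff_of_good {q n i : ℕ} (hq : 2 ≤ q) (hn : n ≠ 0) (hi : i ≠ 0)
    (H1 : ∀ r : ℕ, r.Prime → r ∣ n → r ∣ q - 1) (H2 : 4 ∣ n → 4 ∣ q - 1) :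
    n * (q - 1) ∣ q ^ i - 1 ↔ n ∣ i := by
  have hq1 : q - 1 ≠ 0 := by omega
  have hqi : q ^ i - 1 ≠ 0 := pow_sub_one_ne_zero hq hi
  constructor
  · intro h
    apply dvd_of_val hn hi
    intro r hr
    haveI : Fact r.Prime := ⟨hr⟩
    by_cases hrn : r ∣ n
    · have h1 := val_le_of_dvd hqi h r hr
      rw [padicValNat.mul hn hq1] at h1
      exact (local_iff hq hn hr hrn (H1 r hr hrn) (fun _ => H2) hi).mp h1
    · rw [padicValNat.eq_zero_of_not_dvd hrn]; exact Nat.zero_le _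
  · intro h
    apply dvd_of_val (Nat.mul_ne_zero hn hq1) hqi
    intro r hr
    haveI : Fact r.Prime := ⟨hr⟩
    rw [padicValNat.mul hn hq1]
    by_cases hrn : r ∣ n
    · exact (local_iff hq hn hr hrn (H1 r hr hrn) (fun _ => H2) hi).mpr (val_le_of_dvd hi h r hr)
    · rw [padicValNat.eq_zero_of_not_dvd hrn, zero_add]
      exact val_le_of_dvd hqi (sub_one_dvd q i) r hr

theorem two_le_pow {q m : ℕ} (hq : 2 ≤ q) (hm : m ≠ 0) : 2 ≤ q ^ m := by
  calc 2 ≤ q := hq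
    _ = q ^ 1 := (pow_one q).symm
    _ ≤ q ^ m := Nat.pow_le_pow_right (by omega) (by omega)

theorem cast_eq_one_iff {x s : ℕ} (hx : 1 ≤ x) : ((x : ℕ) : ZMod s) = 1 ↔ s ∣ x - 1 := by
  rw [← ZMod.natCast_eq_zero_iff, Nat.cast_sub hx, sub_eq_zero, Nat.cast_one]

theorem backward_H1 {q n : ℕ} (hq : 2 ≤ q) (hn : 1 < n) (ha : n * (q - 1) ∣ q ^ n - 1)
    (hb : ∀ i : ℕ, 0 < i → i < n → ¬ n * (q - 1) ∣ q ^ i - 1) :
    ∀ r : ℕ, r.Prime → r ∣ n → r ∣ q - 1 := by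
  classical
  by_contra hcon
  have hn0 : n ≠ 0 := by omega
  have hq1 : q - 1 ≠ 0 := by omega
  have hex : ∃ r, r ≤ n ∧ (r.Prime ∧ r ∣ n ∧ ¬ r ∣ q - 1) := by
    by_contra h
    apply hcon
    intro r hr hrn
    by_contra hrq
    exact h ⟨r, Nat.le_of_dvd (by omega) hrn, hr, hrn, hrq⟩
  obtain ⟨r₀, hr₀n, hr₀⟩ := hex
  obtain ⟨r, hr, hmax⟩ : ∃ r, (r.Prime ∧ r ∣ n ∧ ¬ r ∣ q - 1) ∧
      ∀ s, s.Prime → s ∣ n → ¬ s ∣ q - 1 → s ≤ r :=
    ⟨Nat.findGreatest (fun r => r.Prime ∧ r ∣ n ∧ ¬ r ∣ q - 1) n,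
      Nat.findGreatest_spec (P := fun r => r.Prime ∧ r ∣ n ∧ ¬ r ∣ q - 1) hr₀n hr₀,
      fun s hs hsn hsq => Nat.le_findGreatest (P := fun r => r.Prime ∧ r ∣ n ∧ ¬ r ∣ q - 1)
        (Nat.le_of_dvd (by omega) hsn) ⟨hs, hsn, hsq⟩⟩
  obtain ⟨hrp, hrn, hrq⟩ := hr
  haveI : Fact r.Prime := ⟨hrp⟩
  obtain ⟨k, hk⟩ := hrn
  have hk0 : 0 < k := by
    rcases Nat.eq_zero_or_pos k with h | h
    · subst h; omega
    · exact h
  have hkn : k < n := by
    rw [hk]
    have := hrp.two_le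
    nlinarith
  apply hb k hk0 hkn
  have hQ : 2 ≤ q ^ k := two_le_pow hq hk0.ne'
  have hqk : q ^ k - 1 ≠ 0 := pow_sub_one_ne_zero hq hk0.ne'
  have hqn : q ^ n - 1 ≠ 0 := pow_sub_one_ne_zero hq hn0
  have hpow : (q ^ k) ^ r = q ^ n := by rw [← pow_mul, hk, mul_comm]
  have hrn' : r ∣ n := ⟨k, hk⟩
  have hrqn : r ∣ q ^ n - 1 := hrn'.trans ((Dvd.intro _ rfl : n ∣ n * (q - 1)).trans ha)
  apply dvd_of_val (Nat.mul_ne_zero hn0 hq1) hqk
  intro s hs
  haveI : Fact s.Prime := ⟨hs⟩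
  by_cases hsr : s = r
  · subst hsr
    rw [padicValNat.mul hn0 hq1, padicValNat.eq_zero_of_not_dvd hrq, add_zero]
    obtain ⟨e, m', hm', hnm⟩ := Nat.exists_eq_pow_mul_and_not_dvd hn0 s hrp.ne_one
    have he : e ≠ 0 := by
      rintro rfl
      rw [pow_zero, one_mul] at hnm
      exact hm' (hnm ▸ hrn')
    have hm0 : m' ≠ 0 := by
      rintro rfl
      rw [mul_zero] at hnm
      exact hn0 hnm
    have hvn : padicValNat s n = e := by
      rw [hnm, padicValNat.mul (pow_ne_zero _ hrp.ne_zero) hm0, padicValNat.prime_pow,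
        padicValNat.eq_zero_of_not_dvd hm', add_zero]
    obtain ⟨e', rfl⟩ : ∃ e', e = e' + 1 := Nat.exists_eq_succ_of_ne_zero he
    have hk' : k = s ^ e' * m' := by
      have : s * k = s * (s ^ e' * m') := by rw [← hk, hnm]; ring
      exact Nat.eq_of_mul_eq_mul_left hrp.pos this
    have hQ0 : 2 ≤ q ^ m' := two_le_pow hq hm0
    have hr2 : s ≠ 2 := by
      rintro rfl
      have h1 : ¬ 2 ∣ q ^ n - 1 := by
        have hqe : 2 ∣ q := by omega
        have : 2 ∣ q ^ n := dvd_pow hqe hn0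
        have h2 : 1 ≤ q ^ n := Nat.one_le_pow _ _ (by omega)
        omega
      exact h1 hrqn
    have hrQ0 : s ∣ q ^ m' - 1 := by
      rw [← cast_eq_one_iff (Nat.one_le_pow _ _ (by omega))]
      have h2 : ((q ^ m' : ℕ) : ZMod s) ^ (s ^ (e' + 1)) = ((q ^ m' : ℕ) : ZMod s) :=
        ZMod.pow_card_pow _
      have h3 : ((q ^ m' : ℕ) : ZMod s) ^ (s ^ (e' + 1)) = 1 := by
        have h4 : ((q ^ n : ℕ) : ZMod s) = 1 :=
          (cast_eq_one_iff (Nat.one_le_pow _ _ (by omega))).mpr hrqn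
        rw [← h4, ← Nat.cast_pow, ← pow_mul, mul_comm, ← hnm]
      rw [← h2, h3]
    have hl := lte hQ0 hrp hrQ0 (fun h => absurd h hr2) (pow_ne_zero e' hrp.ne_zero)
    rw [← pow_mul, mul_comm m', ← hk'] at hl
    rw [hvn, hl, padicValNat.prime_pow]
    have h5 : q ^ m' - 1 ≠ 0 := by omega
    have := one_le_padicValNat_of_dvd h5 hrQ0
    omega
  · by_cases hsQ : s ∣ q ^ k - 1
    · have h1 := val_le_of_dvd hqn ha s hs
      rw [← hpow, val_pow_of_not_dvd hQ hs hsQ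
        (fun h => hsr ((Nat.prime_dvd_prime_iff_eq hs hrp).mp h))] at h1
      exact h1
    · have hnd : ¬ s ∣ n * (q - 1) := by
        intro hsn
        have hsqn : s ∣ q ^ n - 1 := hsn.trans ha
        have hQr : ((q ^ k : ℕ) : ZMod s) ^ r = 1 := by
          rw [← Nat.cast_pow, hpow]
          exact (cast_eq_one_iff (Nat.one_le_pow _ _ (by omega))).mpr hsqn
        have hQ1 : ((q ^ k : ℕ) : ZMod s) ≠ 1 := by
          intro h
          exact hsQ ((cast_eq_one_iff (Nat.one_le_pow _ _ (by omega))).mp h)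
        have hord : orderOf ((q ^ k : ℕ) : ZMod s) = r := by
          have h1 := orderOf_dvd_of_pow_eq_one hQr
          rcases (Nat.dvd_prime hrp).mp h1 with h | h
          · exact absurd (orderOf_eq_one_iff.mp h) hQ1
          · exact h
        have hne0 : ((q ^ k : ℕ) : ZMod s) ≠ 0 := by
          intro h
          rw [h, zero_pow hrp.ne_zero] at hQr
          exact zero_ne_one hQr
        have hrs : r ∣ s - 1 := hord ▸ ZMod.orderOf_dvd_card_sub_one hne0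
        have hlt : r < s := by
          have h2 := hs.two_le
          have := Nat.le_of_dvd (by omega) hrs
          omega
        rcases (Nat.Prime.dvd_mul hs).mp hsn with h | h
        · by_cases hsq : s ∣ q - 1
          · exact hsQ (hsq.trans (sub_one_dvd q k))
          · have := hmax s hs h hsq
            omega
        · exact hsQ (h.trans (sub_one_dvd q k))
      rw [padicValNat.eq_zero_of_not_dvd hnd]
      exact Nat.zero_le _

theorem backward_H2 {q n : ℕ} (hq : 2 ≤ q) (hn : 1 < n)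
    (H1 : ∀ r : ℕ, r.Prime → r ∣ n → r ∣ q - 1)
    (hb : ∀ i : ℕ, 0 < i → i < n → ¬ n * (q - 1) ∣ q ^ i - 1) : 4 ∣ n → 4 ∣ q - 1 := by
  intro h4n
  by_contra h4q
  have hn0 : n ≠ 0 := by omega
  have hq1 : q - 1 ≠ 0 := by omega
  obtain ⟨k, hk⟩ : 2 ∣ n := (by norm_num : 2 ∣ 4).trans h4n
  have hk2 : 2 ∣ k := by omega
  have hk0 : k ≠ 0 := by omega
  have h2q : 2 ∣ q - 1 := H1 2 Nat.prime_two ⟨k, hk⟩
  have hqodd : ¬ 2 ∣ q := by omega
  have hqk : q ^ k - 1 ≠ 0 := pow_sub_one_ne_zero hq hk0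
  apply hb k (by omega) (by omega)
  apply dvd_of_val (Nat.mul_ne_zero hn0 hq1) hqk
  intro s hs
  haveI : Fact s.Prime := ⟨hs⟩
  rw [padicValNat.mul hn0 hq1]
  by_cases hsn : s ∣ n
  · by_cases hs2 : s = 2
    · subst hs2
      have hvq : padicValNat 2 (q - 1) = 1 := val_two_eq_one hq1 h2q h4q
      have h1 := padicValNat.pow_two_sub_one_ge (x := q) (n := k) (by omega) hqodd hk0
        (even_iff_two_dvd.mpr hk2)
      have h2 : padicValNat 2 n = padicValNat 2 k + 1 := by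
        rw [hk, padicValNat.mul two_ne_zero hk0, padicValNat_self]
        omega
      omega
    · apply (local_iff hq hn0 hs hsn (H1 s hs hsn) (fun h => absurd h hs2) hk0).mpr
      have hs2' : ¬ s ∣ 2 := fun h => hs2 ((Nat.prime_dvd_prime_iff_eq hs Nat.prime_two).mp h)
      rw [hk, padicValNat.mul two_ne_zero hk0, padicValNat.eq_zero_of_not_dvd hs2', zero_add]
  · rw [padicValNat.eq_zero_of_not_dvd hsn, zero_add]
    exact val_le_of_dvd hqk (sub_one_dvd q k) s hs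

/-- The Dickson pair condition: for a prime power `q` and `n > 1`, (every prime factor of `n` divides `q - 1`, and `4 ∣ n → 4 ∣ q - 1`) holds exactly when `q ^ n ≡ 1` modulo `n * (q - 1)` but `q ^ i` is not, for `0 < i < n`. -/
theorem result (q n : ℕ) (hq : IsPrimePow q) (hn : 1 < n) : ((∀ r : ℕ, r.Prime → r ∣ n → r ∣ q - 1) ∧ (4 ∣ n → 4 ∣ q - 1)) ↔ (q ^ n ≡ 1 [MOD n * (q - 1)] ∧ ∀ i : ℕ, 0 < i → i < n → ¬ q ^ i ≡ 1 [MOD n * (q - 1)]) := by
  have hq2 : 2 ≤ q := hq.two_le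
  have hn0 : n ≠ 0 := by omega
  simp only [modEq_iff q n _ hq2]
  constructor
  · rintro ⟨H1, H2⟩
    refine ⟨(dvd_iff_of_good hq2 hn0 hn0 H1 H2).mpr dvd_rfl, ?_⟩
    intro i hi hin h
    have := (dvd_iff_of_good hq2 hn0 hi.ne' H1 H2).mp h
    exact absurd (Nat.le_of_dvd hi this) (by omega)
  · rintro ⟨ha, hb⟩
    have H1 := backward_H1 hq2 hn ha hb
    exact ⟨H1, backward_H2 hq2 hn H1 hb⟩

end Cfsg.Agent.S0694
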