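import Cfsg.Statements.S0695
import Mathlib.GroupTheory.PGroup
import Mathlib.Tactic

set_option autoImplicit false
open Cfsg

namespace Cfsg.Agent.S0695

open MulAction SubMulAction
open scoped Pointwise

variable {G : Type*} [Group G] {X : Type*} [MulAction G X]

/-- free action of `N`: equal images of a point force equality -/
theorem eq_of_smul_eq (N : Subgroup G) (hreg : ∀ x : X, stabilizer N x = ⊥) {n m : G}
    (hn : n ∈ N) (hm : m ∈ N) {x : X} (h : n • x = m • x) : n = m := by
  have : (⟨m, hm⟩⁻¹ * ⟨n, hn⟩ : N) ∈ stabilizer N x := by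
    rw [mem_stabilizer_iff, mul_smul]
    change (⟨m, hm⟩ : N)⁻¹ • (n • x) = x
    rw [h]
    change m⁻¹ • m • x = x
    rw [inv_smul_smul]
  rw [hreg, Subgroup.mem_bot] at this
  have h2 : m⁻¹ * n = 1 := congrArg Subtype.val this
  have := congrArg (fun y => m * y) h2
  simpa using this

/-- The key dichotomy for a non-trivial element of a regular normal subgroup of a
2-primitive group. -/
theorem sq_eq_one_or_card_le [Fintype X] (h2 : IsMultiplyPreprimitive G X 2) (N : Subgroup G)
    [hN : N.Normal] (hreg : ∀ x : X, stabilizer N x = ⊥) (a : X) {n₁ : G} (hn₁ : n₁ ∈ N) :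
    n₁ ^ 2 = 1 ∨ Fintype.card X ≤ 3 := by
  classical
  have hprim : IsPreprimitive (fixingSubgroup G ({a} : Set X)) (ofFixingSubgroup G ({a} : Set X)) :=
    h2.isPreprimitive_ofFixingSubgroup (by simp; rfl)
  let B' : Set X := {n₁ • a, n₁⁻¹ • a}
  have hfix : ∀ g : fixingSubgroup G ({a} : Set X), (g : G) • a = a := by
    intro g
    have := g.2
    rw [mem_fixingSubgroup_iff] at this
    exact this a rfl
  have hfixinv : ∀ g : fixingSubgroup G ({a} : Set X), (g : G)⁻¹ • a = a := by
    intro g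
    rw [inv_smul_eq_iff, hfix]
  -- g • (n • a) = (g n g⁻¹) • a
  have hconj : ∀ (g : fixingSubgroup G ({a} : Set X)) (n : G),
      g • (n • a) = ((g : G) * n * (g : G)⁻¹) • a := by
    intro g n
    rw [mul_smul, mul_smul, hfixinv]
    rfl
  have hblock : IsBlock (fixingSubgroup G ({a} : Set X)) B' := by
    rw [isBlock_iff_smul_eq_of_mem]
    intro g x hx hgx
    -- g n₁ g⁻¹ = n₁ or n₁⁻¹
    have hcase : (g : G) * n₁ * (g : G)⁻¹ = n₁ ∨ (g : G) * n₁ * (g : G)⁻¹ = n₁⁻¹ := by
      have hc1 : (g : G) * n₁ * (g : G)⁻¹ ∈ N := hN.conj_mem _ hn₁ _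
      have hc2 : (g : G) * n₁⁻¹ * (g : G)⁻¹ ∈ N := hN.conj_mem _ (N.inv_mem hn₁) _
      have hinv : (g : G) * n₁⁻¹ * (g : G)⁻¹ = ((g : G) * n₁ * (g : G)⁻¹)⁻¹ := by group
      rcases hx with rfl | rfl
      · rw [hconj] at hgx
        rcases hgx with hgx | hgx
        · left; exact eq_of_smul_eq N hreg hc1 hn₁ hgx
        · right; exact eq_of_smul_eq N hreg hc1 (N.inv_mem hn₁) hgx
      · rw [hconj] at hgx
        rcases hgx with hgx | hgx
        · right
          have := eq_of_smul_eq N hreg hc2 hn₁ hgx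
          rw [hinv] at this
          exact inv_eq_iff_eq_inv.mp this
        · left
          have := eq_of_smul_eq N hreg hc2 (N.inv_mem hn₁) hgx
          rw [hinv] at this
          exact inv_injective this
    have hinv : (g : G) * n₁⁻¹ * (g : G)⁻¹ = ((g : G) * n₁ * (g : G)⁻¹)⁻¹ := by group
    have himg : g • B' = {((g : G) * n₁ * (g : G)⁻¹) • a, ((g : G) * n₁⁻¹ * (g : G)⁻¹) • a} := by
      simp only [B', Set.smul_set_insert, Set.smul_set_singleton, hconj]
    rw [himg, hinv]
    rcases hcase with h | h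
    · rw [h]
    · rw [h, inv_inv]
      exact Set.pair_comm _ _
  have hblock' : IsBlock (fixingSubgroup G ({a} : Set X))
      (Subtype.val ⁻¹' B' : Set (ofFixingSubgroup G ({a} : Set X))) :=
    hblock.subtype_val_preimage
  by_cases hn1 : n₁ = 1
  · left; rw [hn1]; simp
  have hne : ∀ n : G, n ∈ N → n ≠ 1 → n • a ≠ a := by
    intro n hn hn1' h
    apply hn1'
    exact eq_of_smul_eq N hreg hn N.one_mem (by rw [h, one_smul])
  have hmem1 : n₁ • a ∈ ofFixingSubgroup G ({a} : Set X) := by
    rw [mem_ofFixingSubgroup_iff]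
    exact fun h => hne n₁ hn₁ hn1 h
  have hmem2 : n₁⁻¹ • a ∈ ofFixingSubgroup G ({a} : Set X) := by
    rw [mem_ofFixingSubgroup_iff]
    exact fun h => hne n₁⁻¹ (N.inv_mem hn₁) (by simpa using hn1) h
  rcases hprim.isTrivialBlock_of_isBlock hblock' with hsub | huniv
  · left
    have m1 : (⟨n₁ • a, hmem1⟩ : ofFixingSubgroup G ({a} : Set X)) ∈
        (Subtype.val ⁻¹' B' : Set (ofFixingSubgroup G ({a} : Set X))) := by simp [B']
    have m2 : (⟨n₁⁻¹ • a, hmem2⟩ : ofFixingSubgroup G ({a} : Set X)) ∈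
        (Subtype.val ⁻¹' B' : Set (ofFixingSubgroup G ({a} : Set X))) := by simp [B']
    have := hsub m1 m2
    have h3 : n₁ • a = n₁⁻¹ • a := congrArg Subtype.val this
    have h4 := eq_of_smul_eq N hreg hn₁ (N.inv_mem hn₁) h3
    rw [pow_two]
    nth_rewrite 1 [h4]
    exact inv_mul_cancel n₁
  · right
    have hsub : (Finset.univ : Finset X) ⊆ {a, n₁ • a, n₁⁻¹ • a} := by
      intro x _
      by_cases hxa : x = a
      · simp [hxa]
      · have hx : x ∈ ofFixingSubgroup G ({a} : Set X) := by
          rw [mem_ofFixingSubgroup_iff]; exact hxa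
        have : (⟨x, hx⟩ : ofFixingSubgroup G ({a} : Set X)) ∈ (Subtype.val ⁻¹' B' : Set _) := by
          rw [huniv]; trivial
        have hxB : x ∈ B' := this
        simp only [B', Set.mem_insert_iff, Set.mem_singleton_iff] at hxB
        simp only [Finset.mem_insert, Finset.mem_singleton]
        tauto
    calc Fintype.card X = (Finset.univ : Finset X).card := rfl
      _ ≤ ({a, n₁ • a, n₁⁻¹ • a} : Finset X).card := Finset.card_le_card hsub
      _ ≤ 3 := Finset.card_le_three

theorem result {G : Type*} [Group G] {X : Type*} [Fintype X] [MulAction G X] (hX : 2 ≤ Fintype.card X) (h2 : MulAction.IsMultiplyPreprimitive G X 2) (N : Subgroup G) [N.Normal] (htrans : MulAction.IsPretransitive N X) (hreg : ∀ x : X, MulAction.stabilizer N x = ⊥) : Fintype.card X = 3 ∨ (IsMulCommutative N ∧ (∀ n ∈ N, n ^ 2 = 1) ∧ ∃ m : ℕ, Fintype.card X = 2 ^ m) := by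
  classical
  have hne : Nonempty X := by rw [← Fintype.card_pos_iff]; omega
  obtain ⟨a⟩ := hne
  -- |N| = |X|
  have hbij : Function.Bijective (fun n : N => n • a) := by
    constructor
    · intro n m hnm
      have h : (n : G) • a = (m : G) • a := hnm
      exact Subtype.ext (eq_of_smul_eq N hreg n.2 m.2 h)
    · intro x
      exact htrans.exists_smul_eq a x
  have hcardN : Nat.card N = Fintype.card X := by
    rw [Nat.card_congr (Equiv.ofBijective _ hbij), Nat.card_eq_fintype_card]
  by_cases h3 : Fintype.card X = 3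
  · left; exact h3
  right
  have hfinN : Finite N := Nat.finite_of_card_ne_zero (by rw [hcardN]; omega)
  have hsq : ∀ n ∈ N, n ^ 2 = 1 := by
    intro n hn
    rcases sq_eq_one_or_card_le h2 N hreg a hn with h | h
    · exact h
    · have hc2 : Nat.card N = 2 := by rw [hcardN]; omega
      have := pow_card_eq_one' (G := N) (x := ⟨n, hn⟩)
      rw [hc2] at this
      exact congrArg Subtype.val this
  refine ⟨?_, hsq, ?_⟩
  · constructor
    constructor
    intro x y
    apply Subtype.ext
    have hx := hsq x x.2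
    have hy := hsq y y.2
    have hxy := hsq (x * y) (N.mul_mem x.2 y.2)
    change (x : G) * y = y * x
    have e1 : (x : G)⁻¹ = x := by
      rw [inv_eq_iff_mul_eq_one, ← pow_two]; exact hx
    have e2 : (y : G)⁻¹ = y := by
      rw [inv_eq_iff_mul_eq_one, ← pow_two]; exact hy
    have e3 : ((x : G) * y)⁻¹ = x * y := by
      rw [inv_eq_iff_mul_eq_one, ← pow_two]; exact hxy
    rw [← e3, mul_inv_rev, e1, e2]
  · have hpg : IsPGroup 2 N := by
      intro g
      refine ⟨1, ?_⟩
      rw [pow_one]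
      exact Subtype.ext (hsq g g.2)
    have : Fact (Nat.Prime 2) := ⟨Nat.prime_two⟩
    obtain ⟨m, hm⟩ := IsPGroup.iff_card.mp hpg
    exact ⟨m, by rw [← hcardN, hm]⟩

end Cfsg.Agent.S0695
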