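import Cfsg.Statements.S0696
import Cfsg.Agent.S0695

set_option autoImplicit false
open Cfsg

namespace Cfsg.Agent.S0696

open MulAction SubMulAction
open scoped Pointwise
open Cfsg.Agent.S0695 (eq_of_smul_eq)

theorem result {G : Type*} [Group G] {X : Type*} [Fintype X] [MulAction G X] (hX : 3 ≤ Fintype.card X) (h3 : MulAction.IsMultiplyPreprimitive G X 3) (N : Subgroup G) [N.Normal] (htrans : MulAction.IsPretransitive N X) (hreg : ∀ x : X, MulAction.stabilizer N x = ⊥) : Fintype.card X = 3 ∨ Fintype.card X = 4 := by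
  classical
  have hN : N.Normal := inferInstance
  have h2 : IsMultiplyPreprimitive G X 2 := by
    apply isMultiplyPreprimitive_of_le G X h3 (by norm_num)
    rw [ENat.card_eq_coe_fintype_card]
    exact_mod_cast hX
  rcases Cfsg.Agent.S0695.result (by omega) h2 N htrans hreg with h | ⟨_, hsq, _⟩
  · left; exact h
  have hne : Nonempty X := by rw [← Fintype.card_pos_iff]; omega
  obtain ⟨a⟩ := hne
  have hbij : Function.Bijective (fun n : N => n • a) := by
    constructor
    · intro n m hnm
      have h : (n : G) • a = (m : G) • a := hnm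
      exact Subtype.ext (eq_of_smul_eq N hreg n.2 m.2 h)
    · intro x
      exact htrans.exists_smul_eq a x
  have hcardN : Nat.card N = Fintype.card X := by
    rw [Nat.card_congr (Equiv.ofBijective _ hbij), Nat.card_eq_fintype_card]
  have hfinN : Finite N := Nat.finite_of_card_ne_zero (by rw [hcardN]; omega)
  have : Fintype N := Fintype.ofFinite N
  -- pick n₁ ≠ 1 and n₂ ∉ {1, n₁}
  have hcardN' : 3 ≤ Fintype.card N := by
    rw [← Nat.card_eq_fintype_card, hcardN]; exact hX
  obtain ⟨n₁, hn₁⟩ : ∃ n₁ : N, n₁ ≠ 1 := by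
    by_contra hcon
    push Not at hcon
    have : Fintype.card N ≤ 1 := Fintype.card_le_one_iff.mpr (fun x y => by rw [hcon x, hcon y])
    omega
  obtain ⟨n₂, hn₂1, hn₂n₁⟩ : ∃ n₂ : N, n₂ ≠ 1 ∧ n₂ ≠ n₁ := by
    by_contra hcon
    push Not at hcon
    have hsub : (Finset.univ : Finset N) ⊆ {1, n₁} := by
      intro x _
      by_cases hx : x = 1
      · simp [hx]
      · simp [hcon x hx]
    have := Finset.card_le_card hsub
    have h2' := Finset.card_le_two (a := (1 : N)) (b := n₁)
    rw [Finset.card_univ] at this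
    omega
  -- work in G
  set m₁ : G := (n₁ : G) with hm₁
  set m₂ : G := (n₂ : G) with hm₂
  have hm₁N : m₁ ∈ N := n₁.2
  have hm₂N : m₂ ∈ N := n₂.2
  have hm₁1 : m₁ ≠ 1 := fun h => hn₁ (Subtype.ext h)
  have hm₂1 : m₂ ≠ 1 := fun h => hn₂1 (Subtype.ext h)
  have hm₂m₁ : m₂ ≠ m₁ := fun h => hn₂n₁ (Subtype.ext h)
  have hm₁sq : m₁ * m₁ = 1 := by rw [← pow_two]; exact hsq m₁ hm₁N
  have hm₁inv : m₁⁻¹ = m₁ := inv_eq_of_mul_eq_one_left hm₁sq
  set b : X := m₁ • a with hb
  have hprim : IsPreprimitive (fixingSubgroup G ({a, b} : Set X))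
      (ofFixingSubgroup G ({a, b} : Set X)) := by
    apply h3.isPreprimitive_ofFixingSubgroup
    have hab : a ≠ b := by
      intro h
      apply hm₁1
      exact eq_of_smul_eq N hreg hm₁N N.one_mem (by rw [one_smul, ← hb, ← h])
    rw [Set.encard_pair hab]
    rfl
  let B' : Set X := {m₂ • a, (m₂ * m₁) • a}
  have hfixa : ∀ g : fixingSubgroup G ({a, b} : Set X), (g : G) • a = a := by
    intro g
    have := g.2
    rw [mem_fixingSubgroup_iff] at this
    exact this a (by simp)
  have hfixb : ∀ g : fixingSubgroup G ({a, b} : Set X), (g : G) • b = b := by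
    intro g
    have := g.2
    rw [mem_fixingSubgroup_iff] at this
    exact this b (by simp)
  have hfixinv : ∀ g : fixingSubgroup G ({a, b} : Set X), (g : G)⁻¹ • a = a := by
    intro g
    rw [inv_smul_eq_iff, hfixa]
  have hconj : ∀ (g : fixingSubgroup G ({a, b} : Set X)) (n : G),
      g • (n • a) = ((g : G) * n * (g : G)⁻¹) • a := by
    intro g n
    rw [mul_smul, mul_smul, hfixinv]
    rfl
  -- g centralizes m₁
  have hcent : ∀ g : fixingSubgroup G ({a, b} : Set X), (g : G) * m₁ * (g : G)⁻¹ = m₁ := by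
    intro g
    apply eq_of_smul_eq N hreg (hN.conj_mem _ hm₁N _) hm₁N (x := a)
    rw [← hconj, ← hb]
    exact hfixb g
  have hblock : IsBlock (fixingSubgroup G ({a, b} : Set X)) B' := by
    rw [isBlock_iff_smul_eq_of_mem]
    intro g x hx hgx
    set m₃ : G := (g : G) * m₂ * (g : G)⁻¹ with hm₃
    have hm₃N : m₃ ∈ N := hN.conj_mem _ hm₂N _
    have hconj2 : (g : G) * (m₂ * m₁) * (g : G)⁻¹ = m₃ * m₁ := by
      have : (g : G) * (m₂ * m₁) * (g : G)⁻¹
          = ((g : G) * m₂ * (g : G)⁻¹) * ((g : G) * m₁ * (g : G)⁻¹) := by group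
      rw [this, hcent g]
    have himg : g • B' = {m₃ • a, (m₃ * m₁) • a} := by
      simp only [B', Set.smul_set_insert, Set.smul_set_singleton, hconj, hconj2, hm₃]
    have hcase : m₃ = m₂ ∨ m₃ = m₂ * m₁ := by
      rcases hx with rfl | rfl
      · rw [hconj] at hgx
        rcases hgx with hgx | hgx
        · left; exact eq_of_smul_eq N hreg hm₃N hm₂N hgx
        · right; exact eq_of_smul_eq N hreg hm₃N (N.mul_mem hm₂N hm₁N) hgx
      · rw [hconj, hconj2] at hgx
        rcases hgx with hgx | hgx
        · right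
          have := eq_of_smul_eq N hreg (N.mul_mem hm₃N hm₁N) hm₂N hgx
          rw [← this, mul_assoc, hm₁sq, mul_one]
        · left
          have := eq_of_smul_eq N hreg (N.mul_mem hm₃N hm₁N) (N.mul_mem hm₂N hm₁N) hgx
          exact mul_right_cancel this
    rw [himg]
    rcases hcase with h | h
    · rw [h]
    · rw [h, mul_assoc, hm₁sq, mul_one]
      exact Set.pair_comm _ _
  have hblock' : IsBlock (fixingSubgroup G ({a, b} : Set X))
      (Subtype.val ⁻¹' B' : Set (ofFixingSubgroup G ({a, b} : Set X))) :=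
    hblock.subtype_val_preimage
  have hmem1 : m₂ • a ∈ ofFixingSubgroup G ({a, b} : Set X) := by
    rw [mem_ofFixingSubgroup_iff]
    simp only [Set.mem_insert_iff, Set.mem_singleton_iff, not_or]
    constructor
    · intro h
      exact hm₂1 (eq_of_smul_eq N hreg hm₂N N.one_mem (by rw [h, one_smul]))
    · intro h
      exact hm₂m₁ (eq_of_smul_eq N hreg hm₂N hm₁N h)
  have hmem2 : (m₂ * m₁) • a ∈ ofFixingSubgroup G ({a, b} : Set X) := by
    rw [mem_ofFixingSubgroup_iff]
    simp only [Set.mem_insert_iff, Set.mem_singleton_iff, not_or]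
    constructor
    · intro h
      have := eq_of_smul_eq N hreg (N.mul_mem hm₂N hm₁N) N.one_mem (by rw [h, one_smul])
      apply hm₂m₁
      rw [← hm₁inv]
      exact eq_inv_of_mul_eq_one_left this
    · intro h
      have := eq_of_smul_eq N hreg (N.mul_mem hm₂N hm₁N) hm₁N h
      apply hm₂1
      exact mul_eq_right.mp this
  rcases hprim.isTrivialBlock_of_isBlock hblock' with hsub | huniv
  · exfalso
    have m1 : (⟨m₂ • a, hmem1⟩ : ofFixingSubgroup G ({a, b} : Set X)) ∈
        (Subtype.val ⁻¹' B' : Set (ofFixingSubgroup G ({a, b} : Set X))) := by simp [B']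
    have m2 : (⟨(m₂ * m₁) • a, hmem2⟩ : ofFixingSubgroup G ({a, b} : Set X)) ∈
        (Subtype.val ⁻¹' B' : Set (ofFixingSubgroup G ({a, b} : Set X))) := by simp [B']
    have := hsub m1 m2
    have h3' : m₂ • a = (m₂ * m₁) • a := congrArg Subtype.val this
    have h4 := eq_of_smul_eq N hreg hm₂N (N.mul_mem hm₂N hm₁N) h3'
    apply hm₁1
    exact (mul_eq_left.mp h4.symm)
  · have hsub : (Finset.univ : Finset X) ⊆ {a, b, m₂ • a, (m₂ * m₁) • a} := by
      intro x _
      by_cases hxa : x ∈ ({a, b} : Set X)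
      · simp only [Set.mem_insert_iff, Set.mem_singleton_iff] at hxa
        simp only [Finset.mem_insert, Finset.mem_singleton]
        tauto
      · have hx : x ∈ ofFixingSubgroup G ({a, b} : Set X) := by
          rw [mem_ofFixingSubgroup_iff]; exact hxa
        have : (⟨x, hx⟩ : ofFixingSubgroup G ({a, b} : Set X)) ∈
            (Subtype.val ⁻¹' B' : Set _) := by
          rw [huniv]; trivial
        have hxB : x ∈ B' := this
        simp only [B', Set.mem_insert_iff, Set.mem_singleton_iff] at hxB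
        simp only [Finset.mem_insert, Finset.mem_singleton]
        tauto
    have h4 : Fintype.card X ≤ 4 :=
      calc Fintype.card X = (Finset.univ : Finset X).card := rfl
        _ ≤ ({a, b, m₂ • a, (m₂ * m₁) • a} : Finset X).card := Finset.card_le_card hsub
        _ ≤ 4 := Finset.card_le_four
    omega

end Cfsg.Agent.S0696
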