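import Cfsg.Statements.S0697
import Cfsg.Agent.S0695
import Mathlib.Tactic

set_option autoImplicit false
open Cfsg

namespace Cfsg.Agent.S0697

open MulAction SubMulAction

universe u v

section Abstract

variable {G : Type*} [Group G] {X : Type*} [MulAction G X]

/-- elementwise `k`-transitivity of a subgroup -/
def ET (X : Type*) [MulAction G X] (N : Subgroup G) (k : ℕ) : Prop :=
  ∀ x y : Fin k → X, Function.Injective x → Function.Injective y → ∃ g ∈ N, ∀ i, g • x i = y i

/-- elementwise `k`-transitivity of the stabiliser of `a` in `N` on the complement of `a` -/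
def ETs (N : Subgroup G) (a : X) (k : ℕ) : Prop :=
  ∀ x y : Fin k → X, Function.Injective x → Function.Injective y →
    (∀ i, x i ≠ a) → (∀ i, y i ≠ a) → ∃ g ∈ N, g • a = a ∧ ∀ i, g • x i = y i

theorem ET.of_stab {N : Subgroup G} {a : X} {k : ℕ} (htrans : ∀ x : X, ∃ n ∈ N, n • x = a)
    (h : ETs N a k) : ET X N (k + 1) := by
  intro x y hx hy
  obtain ⟨n1, hn1, hn1x⟩ := htrans (x 0)
  obtain ⟨n2, hn2, hn2y⟩ := htrans (y 0)
  have hsucc : ∀ i : Fin k, i.succ ≠ 0 := fun i => Fin.succ_ne_zero i
  obtain ⟨m, hm, hma, hmx⟩ := h (fun i => n1 • x i.succ) (fun i => n2 • y i.succ)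
    (fun i i' hii' => Fin.succ_injective _ (hx (MulAction.injective n1 hii')))
    (fun i i' hii' => Fin.succ_injective _ (hy (MulAction.injective n2 hii')))
    (by
      intro i h'
      rw [← hn1x] at h'
      exact hsucc i (hx (MulAction.injective n1 h')))
    (by
      intro i h'
      rw [← hn2y] at h'
      exact hsucc i (hy (MulAction.injective n2 h')))
  refine ⟨n2⁻¹ * m * n1, N.mul_mem (N.mul_mem (N.inv_mem hn2) hm) hn1, fun i => ?_⟩
  refine Fin.cases ?_ (fun i => ?_) i
  · rw [mul_smul, mul_smul, hn1x, hma, inv_smul_eq_iff, hn2y]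
  · rw [mul_smul, mul_smul, hmx i, inv_smul_eq_iff]

theorem ET.isMultiplyPretransitive {N : Subgroup G} {k : ℕ} (h : ET X N k) :
    IsMultiplyPretransitive N X k := by
  rw [isMultiplyPretransitive_iff]
  intro x y
  obtain ⟨g, hg, hgx⟩ := h x y x.injective y.injective
  refine ⟨⟨g, hg⟩, ?_⟩
  ext i
  rw [Function.Embedding.smul_apply]
  exact hgx i

theorem exists_notMem [Finite X] (S : Finset X) (h : S.card < Nat.card X) : ∃ a, a ∉ S := by
  classical
  have := Fintype.ofFinite X
  rw [Nat.card_eq_fintype_card] at h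
  by_contra hcon
  push Not at hcon
  have : S = Finset.univ := Finset.eq_univ_iff_forall.mpr hcon
  rw [this, Finset.card_univ] at h
  exact lt_irrefl _ h

/-- A sharply 2-transitive group of degree at least 4 cannot have point stabilisers of
exponent 2. -/
theorem no_sharp2 [Finite X] (N : Subgroup G) (hcard : 4 ≤ Nat.card X) (a : X)
    (h1 : ∀ x : X, ∃ n ∈ N, n • a = x)
    (h2 : ∀ x y : X, x ≠ a → y ≠ a → ∃ n ∈ N, n • a = a ∧ n • x = y)
    (h3 : ∀ n ∈ N, n • a = a → ∀ x : X, x ≠ a → n • x = x → n = 1)
    (h4 : ∀ n ∈ N, n • a = a → n ^ 2 = 1) : False := by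
  classical
  -- transfer to arbitrary points
  have P2 : ∀ b x y : X, x ≠ b → y ≠ b → ∃ n ∈ N, n • b = b ∧ n • x = y := by
    intro b x y hx hy
    obtain ⟨g, hg, hgb⟩ := h1 b
    obtain ⟨n, hn, hna, hnx⟩ := h2 (g⁻¹ • x) (g⁻¹ • y)
      (by rw [Ne, inv_smul_eq_iff, hgb]; exact hx) (by rw [Ne, inv_smul_eq_iff, hgb]; exact hy)
    refine ⟨g * n * g⁻¹, N.mul_mem (N.mul_mem hg hn) (N.inv_mem hg), ?_, ?_⟩
    · rw [mul_smul, mul_smul, ← hgb, inv_smul_smul, hna]
    · rw [mul_smul, mul_smul, hnx, smul_inv_smul]
  have P3 : ∀ b : X, ∀ n ∈ N, n • b = b → ∀ x : X, x ≠ b → n • x = x → n = 1 := by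
    intro b n hn hnb x hx hnx
    obtain ⟨g, hg, hgb⟩ := h1 b
    have := h3 (g⁻¹ * n * g) (N.mul_mem (N.mul_mem (N.inv_mem hg) hn) hg)
      (by rw [mul_smul, mul_smul, hgb, hnb, ← hgb, inv_smul_smul]) (g⁻¹ • x)
      (by rw [Ne, inv_smul_eq_iff, hgb]; exact hx)
      (by rw [mul_smul, mul_smul, smul_inv_smul, hnx])
    have h' : n = g * (g⁻¹ * n * g) * g⁻¹ := by group
    rw [h', this]; group
  have P4 : ∀ b : X, ∀ n ∈ N, n • b = b → n ^ 2 = 1 := by
    intro b n hn hnb
    obtain ⟨g, hg, hgb⟩ := h1 b
    have := h4 (g⁻¹ * n * g) (N.mul_mem (N.mul_mem (N.inv_mem hg) hn) hg)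
      (by rw [mul_smul, mul_smul, hgb, hnb, ← hgb, inv_smul_smul])
    have h' : n ^ 2 = g * (g⁻¹ * n * g) ^ 2 * g⁻¹ := by simp only [sq]; group
    rw [h', this]; group
  -- four distinct points
  obtain ⟨b, hb⟩ := exists_notMem ({a} : Finset X) (by simp; omega)
  obtain ⟨a', ha'⟩ := exists_notMem ({a, b} : Finset X)
    (lt_of_le_of_lt (Finset.card_le_two) (by omega))
  obtain ⟨c, hc⟩ := exists_notMem ({a, b, a'} : Finset X)
    (lt_of_le_of_lt (Finset.card_le_three) (by omega))
  simp only [Finset.mem_insert, Finset.mem_singleton, not_or] at hb ha' hc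
  obtain ⟨ha'a, ha'b⟩ := ha'
  obtain ⟨hca, hcb, hca'⟩ := hc
  obtain ⟨t, ht, hta', htb⟩ := P2 a' b c (Ne.symm ha'b) hca'
  obtain ⟨w, hw, hwa, hwb⟩ := P2 a b c hb hca
  have ht2 := P4 a' t ht hta'
  have hw2 := P4 a w hw hwa
  have htc : t • c = b := by
    rw [← htb, ← mul_smul, ← sq, ht2, one_smul]
  have hwc : w • c = b := by
    rw [← hwb, ← mul_smul, ← sq, hw2, one_smul]
  have hwt : w⁻¹ * t = 1 := by
    refine P3 b (w⁻¹ * t) (N.mul_mem (N.inv_mem hw) ht) ?_ c hcb ?_
    · rw [mul_smul, htb, inv_smul_eq_iff, hwb]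
    · rw [mul_smul, htc, inv_smul_eq_iff, hwc]
  have hwt' : t = w := by
    have := congrArg (fun z => w * z) hwt
    simpa using this
  have hw1 : w = 1 := P3 a w hw hwa a' ha'a (hwt' ▸ hta')
  rw [hw1, one_smul] at hwb
  exact hcb hwb.symm


theorem main (k : ℕ) : ∀ {G : Type u} [Group G] [Finite G] {X : Type v} [MulAction G X] [Finite X]
    [FaithfulSMul G X], k ≤ Nat.card X → IsMultiplyPreprimitive G X k →
    Nat.card G < (Nat.card X).factorial → ∀ (N : Subgroup G) [N.Normal],
    (∃ n ∈ N, n ≠ 1 ∧ ∃ a : X, n • a = a) → ET X N k := by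
  induction k with
  | zero =>
    intro G _ _ X _ _ _ _ _ _ N _ _ x y _ _
    exact ⟨1, N.one_mem, fun i => i.elim0⟩
  | succ k ih =>
    intro G _ _ X _ _ _ hkn hG hcard N _ hnr
    obtain ⟨n₀, hn₀N, hn₀1, a, hn₀a⟩ := hnr
    have hENat : ENat.card X = (Nat.card X : ℕ∞) := ENat.card_eq_coe_natCard X
    have hGp : IsPreprimitive G X := by
      rw [← is_one_preprimitive_iff]
      exact isMultiplyPreprimitive_of_le G X hG (by omega) (by rw [hENat]; exact_mod_cast hkn)
    have hGt : IsPretransitive G X := hGp.toIsPretransitive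
    -- N is transitive
    have hNt : IsPretransitive N X := by
      apply IsQuasiPreprimitive.isPretransitive_of_normal (G := G)
      intro htop
      apply hn₀1
      apply FaithfulSMul.eq_of_smul_eq_smul (α := X)
      intro x
      have hx : x ∈ fixedPoints N X := by rw [htop]; trivial
      rw [one_smul]
      exact hx ⟨n₀, hn₀N⟩
    have htrans : ∀ x : X, ∃ n ∈ N, n • x = a := by
      intro x
      obtain ⟨n, hn⟩ := exists_smul_eq N x a
      exact ⟨n.1, n.2, hn⟩
    have htrans' : ∀ x : X, ∃ n ∈ N, n • a = x := by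
      intro x
      obtain ⟨n, hn⟩ := exists_smul_eq N a x
      exact ⟨n.1, n.2, hn⟩
    apply ET.of_stab htrans
    rcases Nat.eq_zero_or_pos k with rfl | hk1
    · intro x y _ _ _ _
      exact ⟨1, N.one_mem, one_smul _ _, fun i => i.elim0⟩
    -- the stabiliser
    have hG' : IsMultiplyPreprimitive (stabilizer G a) (ofStabilizer G a) k :=
      isMultiplyPreprimitive_ofStabilizer G X
    have hcardX' : Nat.card (ofStabilizer G a) = Nat.card X - 1 := nat_card_ofStabilizer_eq G a
    have hkn' : k ≤ Nat.card (ofStabilizer G a) := by rw [hcardX']; omega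
    have hENat' : ENat.card (ofStabilizer G a) = (Nat.card (ofStabilizer G a) : ℕ∞) :=
      ENat.card_eq_coe_natCard _
    have hfaith' : FaithfulSMul (stabilizer G a) (ofStabilizer G a) := by
      constructor
      intro g₁ g₂ h
      apply Subtype.ext
      apply FaithfulSMul.eq_of_smul_eq_smul (α := X)
      intro x
      by_cases hx : x = a
      · rw [hx]
        have h1 := g₁.2
        have h2 := g₂.2
        rw [mem_stabilizer_iff] at h1 h2
        rw [h1, h2]
      · have := h ⟨x, hx⟩
        exact congrArg Subtype.val this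
    have hpos : 0 < Nat.card X := by omega
    have hfac : (Nat.card X).factorial = Nat.card X * (Nat.card X - 1).factorial :=
      (Nat.mul_factorial_pred hpos.ne').symm
    have hcard' : Nat.card (stabilizer G a) < (Nat.card (ofStabilizer G a)).factorial := by
      rw [hcardX']
      have h1 : (stabilizer G a).index = Nat.card X := index_stabilizer_of_transitive G a
      have h2 := (stabilizer G a).index_mul_card
      rw [h1] at h2
      rw [← h2, hfac] at hcard
      exact lt_of_mul_lt_mul_left hcard (Nat.zero_le _)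
    set N' : Subgroup (stabilizer G a) := N.subgroupOf (stabilizer G a) with hN'
    have hn₀' : (⟨n₀, hn₀a⟩ : stabilizer G a) ∈ N' := by
      rw [hN', Subgroup.mem_subgroupOf]; exact hn₀N
    -- conversion from ET for N' to ETs for N
    have conv : ET (ofStabilizer G a) N' k → ETs N a k := by
      intro h x y hx hy hxa hya
      obtain ⟨g, hg, hgx⟩ := h (fun i => ⟨x i, hxa i⟩) (fun i => ⟨y i, hya i⟩)
        (fun i j hij => hx (congrArg Subtype.val hij))
        (fun i j hij => hy (congrArg Subtype.val hij))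
      refine ⟨g.1, Subgroup.mem_subgroupOf.mp hg, g.2, fun i => ?_⟩
      exact congrArg Subtype.val (hgx i)
    by_cases hreg : ∃ n' ∈ N', n' ≠ 1 ∧ ∃ x' : ofStabilizer G a, n' • x' = x'
    · exact conv (ih hkn' hG' hcard' N' hreg)
    · push Not at hreg
      have hsemi : ∀ n ∈ N, n • a = a → ∀ x : X, x ≠ a → n • x = x → n = 1 := by
        intro n hn hna x hx hnx
        by_contra hne
        exact hreg ⟨n, hna⟩ (Subgroup.mem_subgroupOf.mpr hn)
          (fun h => hne (congrArg Subtype.val h)) ⟨x, hx⟩ (Subtype.ext hnx)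
      have hGp' : IsPreprimitive (stabilizer G a) (ofStabilizer G a) := by
        rw [← is_one_preprimitive_iff]
        exact isMultiplyPreprimitive_of_le _ _ hG' hk1 (by rw [hENat']; exact_mod_cast hkn')
      have hNt' : IsPretransitive N' (ofStabilizer G a) := by
        apply IsQuasiPreprimitive.isPretransitive_of_normal (G := stabilizer G a)
        intro htop
        apply hn₀1
        have : (⟨n₀, hn₀a⟩ : stabilizer G a) = 1 := by
          apply FaithfulSMul.eq_of_smul_eq_smul (α := ofStabilizer G a)
          intro x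
          have hx : x ∈ fixedPoints N' (ofStabilizer G a) := by rw [htop]; trivial
          rw [one_smul]
          exact hx ⟨⟨n₀, hn₀a⟩, hn₀'⟩
        exact congrArg Subtype.val this
      have h2s : ∀ x y : X, x ≠ a → y ≠ a → ∃ n ∈ N, n • a = a ∧ n • x = y := by
        intro x y hx hy
        obtain ⟨g, hg⟩ := exists_smul_eq N' (⟨x, hx⟩ : ofStabilizer G a) ⟨y, hy⟩
        exact ⟨g.1.1, Subgroup.mem_subgroupOf.mp g.2, g.1.2, congrArg Subtype.val hg⟩
      rcases Nat.lt_or_ge k 2 with hk2 | hk2
      · -- k = 1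
        have hk : k = 1 := by omega
        subst hk
        intro x y hx hy hxa hya
        obtain ⟨n, hn, hna, hnx⟩ := h2s (x 0) (y 0) (hxa 0) (hya 0)
        refine ⟨n, hn, hna, fun i => ?_⟩
        have : i = 0 := Subsingleton.elim _ _
        rw [this]; exact hnx
      · exfalso
        have h2' : IsMultiplyPreprimitive (stabilizer G a) (ofStabilizer G a) 2 :=
          isMultiplyPreprimitive_of_le _ _ hG' hk2 (by rw [hENat']; exact_mod_cast hkn')
        have hreg' : ∀ x' : ofStabilizer G a, stabilizer N' x' = ⊥ := by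
          intro x'
          rw [eq_bot_iff]
          intro g hg
          rw [Subgroup.mem_bot]
          by_contra hne
          exact hreg g.1 g.2 (fun h => hne (Subtype.ext h)) x' hg
        let _ : Fintype (ofStabilizer G a) := Fintype.ofFinite _
        by_cases hX' : Nat.card (ofStabilizer G a) ≤ 3
        · -- small degree: `G` would be the full symmetric group
          have hn4 : Nat.card X ≤ 4 := by omega
          have hmt : IsMultiplyPretransitive G X (Nat.card X - 1) := by
            have := hG.isMultiplyPretransitive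
            exact isMultiplyPretransitive_of_le (n := k + 1) (by omega) hkn
          have hs : ({a}ᶜ : Set X).ncard = Nat.card X - 1 := by
            have := Set.ncard_add_ncard_compl ({a} : Set X)
            rw [Set.ncard_singleton] at this
            omega
          have hidx := hmt.index_of_fixingSubgroup_mul hs
          have h11 : Nat.card X - (Nat.card X - 1) = 1 := by omega
          rw [h11, Nat.factorial_one, mul_one] at hidx
          have h2 := (fixingSubgroup G ({a}ᶜ : Set X)).index_mul_card
          rw [hidx] at h2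
          have hpos' : 0 < Nat.card (fixingSubgroup G ({a}ᶜ : Set X)) := Nat.card_pos
          nlinarith
        · -- exponent 2
          have h4 : ∀ n ∈ N, n • a = a → n ^ 2 = 1 := by
            intro n hn hna
            have hne : Nonempty (ofStabilizer G a) := by
              rw [← Nat.card_pos_iff.trans (and_iff_left inferInstance)]
              omega
            obtain ⟨x'₀⟩ := hne
            rcases S0695.sq_eq_one_or_card_le h2' N' hreg' x'₀ (n₁ := ⟨n, hna⟩)
              (Subgroup.mem_subgroupOf.mpr hn) with h | h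
            · exact congrArg Subtype.val h
            · exfalso
              apply hX'
              rw [Nat.card_eq_fintype_card]
              exact h
          exact no_sharp2 N (by omega) a htrans' h2s hsemi h4

end Abstract

/-- In a `k`-primitive permutation group which is not the whole symmetric group, a non-trivial non-regular normal subgroup is `k`-transitive. -/
theorem result {α : Type*} [Fintype α] [DecidableEq α] (G : Subgroup (Equiv.Perm α)) {k : ℕ} (hk : 1 ≤ k) (hkn : k ≤ Fintype.card α) (hG : MulAction.IsMultiplyPreprimitive G α k) (htop : G ≠ ⊤) (H : Subgroup G) [H.Normal] (hH : H ≠ ⊥) (hnr : ∃ a : α, MulAction.stabilizer H a ≠ ⊥) : MulAction.IsMultiplyPretransitive H α k := by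
  apply ET.isMultiplyPretransitive
  refine main k (by rw [Nat.card_eq_fintype_card]; exact hkn) hG ?_ H ?_
  · rw [Nat.card_eq_fintype_card (α := α), ← Fintype.card_perm, ← Nat.card_eq_fintype_card]
    exact lt_of_le_of_ne (Subgroup.card_le_card_group G)
      (fun h => htop ((Subgroup.card_eq_iff_eq_top G).mp h))
  · obtain ⟨a, ha⟩ := hnr
    obtain ⟨n, hn, hn1⟩ := (MulAction.stabilizer H a).bot_or_exists_ne_one.resolve_left ha
    exact ⟨n.1, n.2, fun h => hn1 (Subtype.ext h), a, hn⟩

end Cfsg.Agent.S0697
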