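import Cfsg.Statements.S0698
import Mathlib.Tactic

set_option autoImplicit false
open Cfsg

namespace Cfsg.Agent.S0698

open Equiv

variable {α : Type*} [Fintype α] [DecidableEq α]

/-- relative multiple transitivity: on injective tuples of length `≤ k` avoiding `F`. -/
def KT (G : Subgroup (Perm α)) (F : Finset α) (k : ℕ) : Prop :=
  ∀ j ≤ k, ∀ x y : Fin j → α, Function.Injective x → Function.Injective y →
    (∀ i, x i ∉ F) → (∀ i, y i ∉ F) → ∃ g ∈ G, ∀ i, g (x i) = y i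

omit [Fintype α] [DecidableEq α] in
theorem KT.mono {G : Subgroup (Perm α)} {F : Finset α} {k j : ℕ} (h : KT G F k) (hj : j ≤ k) :
    KT G F j := fun i hi => h i (hi.trans hj)

omit [Fintype α] [DecidableEq α] in
theorem KT.two {G : Subgroup (Perm α)} {F : Finset α} {k : ℕ} (h : KT G F k) (hk : 2 ≤ k)
    {u u' v v' : α} (hu : u ≠ u') (hv : v ≠ v') (h1 : u ∉ F) (h2 : u' ∉ F) (h3 : v ∉ F)
    (h4 : v' ∉ F) : ∃ g ∈ G, g u = v ∧ g u' = v' := by
  obtain ⟨g, hg, hgx⟩ := h 2 hk ![u, u'] ![v, v']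
    (by intro i j hij; fin_cases i <;> fin_cases j <;> simp_all)
    (by intro i j hij; fin_cases i <;> fin_cases j <;> simp_all)
    (by intro i; fin_cases i <;> simp_all) (by intro i; fin_cases i <;> simp_all)
  exact ⟨g, hg, hgx 0, hgx 1⟩

omit [Fintype α] [DecidableEq α] in
theorem KT.three {G : Subgroup (Perm α)} {F : Finset α} {k : ℕ} (h : KT G F k) (hk : 3 ≤ k)
    {u1 u2 u3 v1 v2 v3 : α} (hu12 : u1 ≠ u2) (hu13 : u1 ≠ u3) (hu23 : u2 ≠ u3)
    (hv12 : v1 ≠ v2) (hv13 : v1 ≠ v3) (hv23 : v2 ≠ v3)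
    (h1 : u1 ∉ F) (h2 : u2 ∉ F) (h3 : u3 ∉ F) (h4 : v1 ∉ F) (h5 : v2 ∉ F) (h6 : v3 ∉ F) :
    ∃ g ∈ G, g u1 = v1 ∧ g u2 = v2 ∧ g u3 = v3 := by
  obtain ⟨g, hg, hgx⟩ := h 3 hk ![u1, u2, u3] ![v1, v2, v3]
    (by intro i j hij; fin_cases i <;> fin_cases j <;> simp_all)
    (by intro i j hij; fin_cases i <;> fin_cases j <;> simp_all)
    (by intro i; fin_cases i <;> simp_all) (by intro i; fin_cases i <;> simp_all)
  exact ⟨g, hg, hgx 0, hgx 1, hgx 2⟩

omit [Fintype α] [DecidableEq α] in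
theorem KT.four {G : Subgroup (Perm α)} {F : Finset α} {k : ℕ} (h : KT G F k) (hk : 4 ≤ k)
    {u1 u2 u3 u4 v1 v2 v3 v4 : α} (hu12 : u1 ≠ u2) (hu13 : u1 ≠ u3) (hu14 : u1 ≠ u4)
    (hu23 : u2 ≠ u3) (hu24 : u2 ≠ u4) (hu34 : u3 ≠ u4)
    (hv12 : v1 ≠ v2) (hv13 : v1 ≠ v3) (hv14 : v1 ≠ v4)
    (hv23 : v2 ≠ v3) (hv24 : v2 ≠ v4) (hv34 : v3 ≠ v4)
    (h1 : u1 ∉ F) (h2 : u2 ∉ F) (h3 : u3 ∉ F) (h4 : u4 ∉ F)
    (h5 : v1 ∉ F) (h6 : v2 ∉ F) (h7 : v3 ∉ F) (h8 : v4 ∉ F) :
    ∃ g ∈ G, g u1 = v1 ∧ g u2 = v2 ∧ g u3 = v3 ∧ g u4 = v4 := by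
  obtain ⟨g, hg, hgx⟩ := h 4 hk ![u1, u2, u3, u4] ![v1, v2, v3, v4]
    (by intro i j hij; fin_cases i <;> fin_cases j <;> simp_all)
    (by intro i j hij; fin_cases i <;> fin_cases j <;> simp_all)
    (by intro i; fin_cases i <;> simp_all) (by intro i; fin_cases i <;> simp_all)
  exact ⟨g, hg, hgx 0, hgx 1, hgx 2, hgx 3⟩

omit [Fintype α] [DecidableEq α] in
/-- a permutation fixing `F` pointwise maps the complement of `F` to itself -/
theorem notMem_of_fix {F : Finset α} {n : Perm α} (hn : ∀ f ∈ F, n f = f) {z : α} (hz : z ∉ F) :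
    n z ∉ F := by
  intro h
  have := hn _ h
  exact hz (n.injective this ▸ h)

omit [DecidableEq α] in
theorem exists_notMem (S : Finset α) (h : S.card < Fintype.card α) : ∃ a, a ∉ S := by
  by_contra hcon
  push Not at hcon
  have : S = Finset.univ := Finset.eq_univ_iff_forall.mpr hcon
  rw [this, Finset.card_univ] at h
  exact lt_irrefl _ h

omit [Fintype α] in
/-- (T1) passing to a point stabiliser -/
theorem KT.stab {G : Subgroup (Perm α)} {F : Finset α} {k : ℕ} (h : KT G F (k + 1)) {a : α}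
    (ha : a ∉ F) : KT (G ⊓ MulAction.stabilizer (Perm α) a) (insert a F) k := by
  intro j hj x y hx hy hxF hyF
  have hxa : ∀ i, x i ≠ a := fun i h' => hxF i (h' ▸ Finset.mem_insert_self a F)
  have hya : ∀ i, y i ≠ a := fun i h' => hyF i (h' ▸ Finset.mem_insert_self a F)
  obtain ⟨g, hg, hgx⟩ := h (j + 1) (by omega) (Fin.cons a x) (Fin.cons a y)
    (Fin.cons_injective_iff.mpr ⟨by rintro ⟨i, hi⟩; exact hxa i hi, hx⟩)
    (Fin.cons_injective_iff.mpr ⟨by rintro ⟨i, hi⟩; exact hya i hi, hy⟩)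
    (by
      intro i
      refine Fin.cases ?_ (fun i => ?_) i
      · rw [Fin.cons_zero]; exact ha
      · rw [Fin.cons_succ]; exact fun h' => hxF i (Finset.mem_insert_of_mem h'))
    (by
      intro i
      refine Fin.cases ?_ (fun i => ?_) i
      · rw [Fin.cons_zero]; exact ha
      · rw [Fin.cons_succ]; exact fun h' => hyF i (Finset.mem_insert_of_mem h'))
  refine ⟨g, Subgroup.mem_inf.mpr ⟨hg, ?_⟩, fun i => ?_⟩
  · have := hgx 0
    simpa [MulAction.mem_stabilizer_iff] using this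
  · have := hgx i.succ
    simpa using this

omit [Fintype α] in
/-- (T2) from a point stabiliser back to the group -/
theorem KT.of_stab {N : Subgroup (Perm α)} {F : Finset α} {k : ℕ}
    (hNF : ∀ n ∈ N, ∀ f ∈ F, n f = f) {a : α}
    (htrans : ∀ u v : α, u ∉ F → v ∉ F → ∃ n ∈ N, n u = v) (ha : a ∉ F)
    (h : KT (N ⊓ MulAction.stabilizer (Perm α) a) (insert a F) k) : KT N F (k + 1) := by
  intro j hj x y hx hy hxF hyF
  cases j with
  | zero => exact ⟨1, N.one_mem, fun i => i.elim0⟩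
  | succ j =>
    obtain ⟨n1, hn1, hn1x⟩ := htrans (x 0) a (hxF 0) ha
    obtain ⟨n2, hn2, hn2y⟩ := htrans (y 0) a (hyF 0) ha
    have hsucc : ∀ i : Fin j, i.succ ≠ 0 := fun i => Fin.succ_ne_zero i
    obtain ⟨m, hm, hmx⟩ := h j (by omega) (fun i => n1 (x i.succ)) (fun i => n2 (y i.succ))
      (fun i i' hii' => Fin.succ_injective _ (hx (n1.injective hii')))
      (fun i i' hii' => Fin.succ_injective _ (hy (n2.injective hii')))
      (by
        intro i hmem
        rcases Finset.mem_insert.mp hmem with h' | h'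
        · rw [← hn1x] at h'
          exact hsucc i (hx (n1.injective h'))
        · exact notMem_of_fix (hNF n1 hn1) (hxF i.succ) h')
      (by
        intro i hmem
        rcases Finset.mem_insert.mp hmem with h' | h'
        · rw [← hn2y] at h'
          exact hsucc i (hy (n2.injective h'))
        · exact notMem_of_fix (hNF n2 hn2) (hyF i.succ) h')
    obtain ⟨hmN, hma⟩ := Subgroup.mem_inf.mp hm
    have hma' : m a = a := by simpa [MulAction.mem_stabilizer_iff] using hma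
    refine ⟨n2⁻¹ * m * n1, N.mul_mem (N.mul_mem (N.inv_mem hn2) hmN) hn1, fun i => ?_⟩
    refine Fin.cases ?_ (fun i => ?_) i
    · rw [Perm.mul_apply, Perm.mul_apply, hn1x, hma', Perm.inv_eq_iff_eq, hn2y]
    · rw [Perm.mul_apply, Perm.mul_apply, hmx i, Perm.inv_eq_iff_eq]

omit [Fintype α] [DecidableEq α] in
theorem exists_ne_one {N : Subgroup (Perm α)} (hN : N ≠ ⊥) : ∃ n ∈ N, n ≠ 1 := by
  rcases N.bot_or_exists_ne_one with h | h
  · exact absurd h hN
  · exact h

omit [Fintype α] [DecidableEq α] in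
/-- a non-trivial normal subgroup of a (relatively) 2-transitive group is transitive -/
theorem normal_trans {G N : Subgroup (Perm α)} {F : Finset α} (hG2 : KT G F 2)
    (hNF : ∀ n ∈ N, ∀ f ∈ F, n f = f) (hnorm : ∀ g ∈ G, ∀ n ∈ N, g * n * g⁻¹ ∈ N)
    (hN : N ≠ ⊥) : ∀ u v : α, u ∉ F → v ∉ F → ∃ n ∈ N, n u = v := by
  obtain ⟨n, hnN, hn1⟩ := exists_ne_one hN
  obtain ⟨x, hx⟩ : ∃ x, n x ≠ x := by
    by_contra hcon
    push Not at hcon
    exact hn1 (Perm.ext hcon)
  have hxF : x ∉ F := fun h => hx (hNF n hnN x h)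
  have hyF : n x ∉ F := notMem_of_fix (hNF n hnN) hxF
  intro u v hu hv
  by_cases huv : u = v
  · exact ⟨1, N.one_mem, by rw [huv]; rfl⟩
  · obtain ⟨g, hg, hgx, hgy⟩ := hG2.two le_rfl (Ne.symm hx) huv hxF hyF hu hv
    refine ⟨g * n * g⁻¹, hnorm g hg n hnN, ?_⟩
    rw [Perm.mul_apply, Perm.mul_apply, ← hgx]
    simp [hgy]

omit [Fintype α] [DecidableEq α] in
theorem mem_stab {N : Subgroup (Perm α)} {a : α} {n : Perm α} :
    n ∈ N ⊓ MulAction.stabilizer (Perm α) a ↔ n ∈ N ∧ n a = a := by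
  rw [Subgroup.mem_inf, MulAction.mem_stabilizer_iff, Perm.smul_def]

omit [Fintype α] in
theorem card_insert3 (F : Finset α) (a b c : α) :
    (insert a (insert b (insert c F))).card ≤ F.card + 3 := by
  calc (insert a (insert b (insert c F))).card ≤ (insert b (insert c F)).card + 1 :=
        Finset.card_insert_le _ _
    _ ≤ (insert c F).card + 1 + 1 := by
        have := Finset.card_insert_le b (insert c F); omega
    _ ≤ F.card + 1 + 1 + 1 := by
        have := Finset.card_insert_le c F; omega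

omit [Fintype α] in
theorem card_insert4 (F : Finset α) (a b c d : α) :
    (insert a (insert b (insert c (insert d F)))).card ≤ F.card + 4 := by
  have h1 := Finset.card_insert_le a (insert b (insert c (insert d F)))
  have h2 := card_insert3 F b c d
  omega

/-- the regular case -/
theorem regular_case {k : ℕ} (hk : 2 ≤ k) {F : Finset α} {G N : Subgroup (Perm α)}
    (hGF : ∀ g ∈ G, ∀ f ∈ F, g f = f) (hKT : KT G F (k + 1))
    (hcard : k + 1 + F.card < Fintype.card α) (hNG : N ≤ G)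
    (hnorm : ∀ g ∈ G, ∀ n ∈ N, g * n * g⁻¹ ∈ N) (hN : N ≠ ⊥) {a : α} (ha : a ∉ F)
    (htrans : ∀ u v : α, u ∉ F → v ∉ F → ∃ n ∈ N, n u = v)
    (hNa : N ⊓ MulAction.stabilizer (Perm α) a = ⊥) :
    k + 1 = 3 ∧ ∀ n ∈ N, n ^ 2 = 1 := by
  have hNF : ∀ n ∈ N, ∀ f ∈ F, n f = f := fun n hn => hGF n (hNG hn)
  have hreg : ∀ n ∈ N, ∀ x : α, x ∉ F → n x = x → n = 1 := by
    intro n hn x hx hnx
    obtain ⟨m, hm, hma⟩ := htrans a x ha hx
    have h1 : m⁻¹ * n * m ∈ N ⊓ MulAction.stabilizer (Perm α) a := by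
      refine mem_stab.mpr ⟨N.mul_mem (N.mul_mem (N.inv_mem hm) hn) hm, ?_⟩
      rw [Perm.mul_apply, Perm.mul_apply, hma, hnx, Perm.inv_eq_iff_eq, hma]
    rw [hNa, Subgroup.mem_bot] at h1
    have : n = m * (m⁻¹ * n * m) * m⁻¹ := by group
    rw [this, h1]; group
  have hreg2 : ∀ n ∈ N, ∀ n' ∈ N, ∀ x : α, x ∉ F → n x = n' x → n = n' := by
    intro n hn n' hn' x hx h
    have h1 : n'⁻¹ * n = 1 := by
      refine hreg _ (N.mul_mem (N.inv_mem hn') hn) x hx ?_
      rw [Perm.mul_apply, h, Perm.inv_eq_iff_eq]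
    exact (inv_mul_eq_one.mp h1).symm
  -- an element of G fixing a and x a commutes with x
  have hcommfix : ∀ g ∈ G, ∀ x ∈ N, g a = a → g (x a) = x a → ∀ z, g (x z) = x (g z) := by
    intro g hg x hx hga hgxa z
    have h1 : g * x * g⁻¹ = x := by
      refine hreg2 _ (hnorm g hg x hx) x hx a ha ?_
      have : g⁻¹ a = a := by rw [Perm.inv_eq_iff_eq, hga]
      rw [Perm.mul_apply, Perm.mul_apply, this, hgxa]
    have h2 : g * x = x * g := mul_inv_eq_iff_eq_mul.mp h1
    have := congrArg (fun σ : Perm α => σ z) h2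
    simpa [Perm.mul_apply] using this
  obtain ⟨x, hxN, hx1⟩ := exists_ne_one hN
  have hxa : x a ≠ a := fun h => hx1 (hreg x hxN a ha h)
  have hxaF : x a ∉ F := notMem_of_fix (hNF x hxN) ha
  have hxiN : x⁻¹ ∈ N := N.inv_mem hxN
  have hxiaF : x⁻¹ a ∉ F := notMem_of_fix (hNF _ hxiN) ha
  have hk3 : k + 1 = 3 := by
    by_contra hne
    have hk4 : 4 ≤ k + 1 := by omega
    obtain ⟨v, hv⟩ := exists_notMem (insert a (insert (x a) (insert (x⁻¹ a) F)))
      (lt_of_le_of_lt (card_insert3 F _ _ _) (by omega))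
    simp only [Finset.mem_insert, not_or] at hv
    obtain ⟨hva, hvxa, hvxia, hvF⟩ := hv
    have hxvF : x v ∉ F := notMem_of_fix (hNF x hxN) hvF
    have hxv_a : x v ≠ a := by
      intro h
      apply hvxia
      rw [← h]; simp
    have hxv_xa : x v ≠ x a := fun h => hva (x.injective h)
    have hxv_v : x v ≠ v := fun h => hx1 (hreg x hxN v hvF h)
    obtain ⟨w, hw⟩ := exists_notMem (insert a (insert (x a) (insert v (insert (x v) F))))
      (lt_of_le_of_lt (card_insert4 F _ _ _ _) (by omega))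
    simp only [Finset.mem_insert, not_or] at hw
    obtain ⟨hwa, hwxa, hwv, hwxv, hwF⟩ := hw
    obtain ⟨g, hg, hga, hgxa, hgv, hgxv⟩ := hKT.four hk4 (Ne.symm hxa) (Ne.symm hva)
      (Ne.symm hxv_a) (Ne.symm hvxa) (Ne.symm hxv_xa) (Ne.symm hxv_v)
      (Ne.symm hxa) (Ne.symm hva) (Ne.symm hwa) (Ne.symm hvxa) (Ne.symm hwxa) (Ne.symm hwv)
      ha hxaF hvF hxvF ha hxaF hvF hwF
    have := hcommfix g hg x hxN hga hgxa v
    rw [hgxv, hgv] at this
    exact hwxv this
  refine ⟨hk3, ?_⟩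
  intro y hyN
  by_contra hy2
  have hy1 : y ≠ 1 := by
    rintro rfl
    exact hy2 (one_pow 2)
  have hya : y a ≠ a := fun h => hy1 (hreg y hyN a ha h)
  have hyaF : y a ∉ F := notMem_of_fix (hNF y hyN) ha
  have hyiN : y⁻¹ ∈ N := N.inv_mem hyN
  have hyiaF : y⁻¹ a ∉ F := notMem_of_fix (hNF _ hyiN) ha
  have hyia : y⁻¹ a ≠ a := by
    intro h
    apply hya
    rw [Perm.inv_eq_iff_eq] at h
    exact h.symm
  have hne : y a ≠ y⁻¹ a := by
    intro h
    apply hy2
    refine hreg _ (N.pow_mem hyN 2) a ha ?_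
    rw [pow_two, Perm.mul_apply, h]
    simp
  obtain ⟨w, hw⟩ := exists_notMem (insert a (insert (y a) (insert (y⁻¹ a) F)))
    (lt_of_le_of_lt (card_insert3 F _ _ _) (by omega))
  simp only [Finset.mem_insert, not_or] at hw
  obtain ⟨hwa, hwya, hwyia, hwF⟩ := hw
  obtain ⟨g, hg, hga, hgya, hgyia⟩ := hKT.three (by omega) (Ne.symm hya) (Ne.symm hyia) hne
    (Ne.symm hya) (Ne.symm hwa) (Ne.symm hwya) ha hyaF hyiaF ha hyaF hwF
  have h1 := hcommfix g hg y hyN hga hgya (y⁻¹ a)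
  rw [hgyia] at h1
  have h2 : y (y⁻¹ a) = a := by simp
  rw [h2, hga] at h1
  apply hwyia
  rw [Perm.eq_inv_iff_eq]
  exact h1.symm

/-- the case of a point stabiliser of exponent two: impossible under 4-transitivity -/
theorem exp2_case {F : Finset α} {G N : Subgroup (Perm α)}
    (hGF : ∀ g ∈ G, ∀ f ∈ F, g f = f) (hKT : KT G F 4)
    (hcard : 4 + F.card < Fintype.card α) (hNG : N ≤ G)
    (hnorm : ∀ g ∈ G, ∀ n ∈ N, g * n * g⁻¹ ∈ N) {a : α} (ha : a ∉ F)
    (htrans : ∀ u v : α, u ∉ F → v ∉ F → ∃ n ∈ N, n u = v)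
    (hNa : N ⊓ MulAction.stabilizer (Perm α) a ≠ ⊥)
    (hexp : ∀ n ∈ N ⊓ MulAction.stabilizer (Perm α) a, n ^ 2 = 1) : False := by
  have hNF : ∀ n ∈ N, ∀ f ∈ F, n f = f := fun n hn => hGF n (hNG hn)
  set Ga := G ⊓ MulAction.stabilizer (Perm α) a with hGa
  set Na := N ⊓ MulAction.stabilizer (Perm α) a with hNadef
  have hKTa2 : KT Ga (insert a F) 2 := (hKT.stab ha).mono (by omega)
  have hNaF : ∀ n ∈ Na, ∀ f ∈ insert a F, n f = f := by
    intro n hn f hf
    obtain ⟨hnN, hna⟩ := mem_stab.mp hn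
    rcases Finset.mem_insert.mp hf with rfl | hf
    · exact hna
    · exact hNF n hnN f hf
  have hnorma : ∀ g ∈ Ga, ∀ n ∈ Na, g * n * g⁻¹ ∈ Na := by
    intro g hg n hn
    obtain ⟨hgG, hga⟩ := mem_stab.mp hg
    obtain ⟨hnN, hna⟩ := mem_stab.mp hn
    refine mem_stab.mpr ⟨hnorm g hgG n hnN, ?_⟩
    have : g⁻¹ a = a := by rw [Perm.inv_eq_iff_eq, hga]
    rw [Perm.mul_apply, Perm.mul_apply, this, hna, hga]
  have hNatrans := normal_trans hKTa2 hNaF hnorma hNa
  -- inverses and commutativity in Na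
  have hinv : ∀ m ∈ Na, m⁻¹ = m := by
    intro m hm
    have := hexp m hm
    rw [pow_two] at this
    exact inv_eq_of_mul_eq_one_left this
  have hcomm : ∀ m ∈ Na, ∀ m' ∈ Na, m * m' = m' * m := by
    intro m hm m' hm'
    have h1 := hinv _ (Na.mul_mem hm hm')
    rw [mul_inv_rev, hinv m hm, hinv m' hm'] at h1
    exact h1.symm
  -- semiregularity
  have hsemi : ∀ m ∈ Na, ∀ u : α, u ∉ insert a F → m u = u → m = 1 := by
    intro m hm u hu hmu
    ext z
    by_cases hz : z ∈ insert a F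
    · rw [hNaF m hm z hz]; rfl
    · obtain ⟨m', hm', hm'u⟩ := hNatrans u z hu hz
      rw [← hm'u, ← Perm.mul_apply, hcomm m hm m' hm', Perm.mul_apply, hmu]
      rfl
  obtain ⟨t, htNa, ht1⟩ := exists_ne_one hNa
  obtain ⟨htN, hta⟩ := mem_stab.mp htNa
  have htt : ∀ z, t (t z) = z := by
    intro z
    have := hexp t htNa
    rw [pow_two] at this
    have := congrArg (fun σ : Perm α => σ z) this
    simpa [Perm.mul_apply] using this
  -- points b, c = t b, d, e = t d
  obtain ⟨b, hb⟩ := exists_notMem (insert a F)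
    (lt_of_le_of_lt (Finset.card_insert_le _ _) (by omega))
  have hbF : b ∉ F := fun h => hb (Finset.mem_insert_of_mem h)
  have hba : b ≠ a := fun h => hb (h ▸ Finset.mem_insert_self a F)
  have hcb : t b ≠ b := fun h => ht1 (hsemi t htNa b hb h)
  have hc : t b ∉ insert a F := notMem_of_fix (hNaF t htNa) hb
  obtain ⟨d, hd⟩ := exists_notMem (insert b (insert (t b) (insert a F)))
    (lt_of_le_of_lt (card_insert3 F _ _ _) (by omega))
  simp only [Finset.mem_insert, not_or] at hd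
  obtain ⟨hdb, hdc, hda, hdF⟩ := hd
  have hd' : d ∉ insert a F := by
    simp only [Finset.mem_insert, not_or]; exact ⟨hda, hdF⟩
  have he : t d ∉ insert a F := notMem_of_fix (hNaF t htNa) hd'
  have heF : t d ∉ F := fun h => he (Finset.mem_insert_of_mem h)
  have hea : t d ≠ a := fun h => he (h ▸ Finset.mem_insert_self a F)
  have hed : t d ≠ d := fun h => ht1 (hsemi t htNa d hd' h)
  have heb : t d ≠ b := by
    intro h
    apply hdc
    rw [← h, htt]
  -- the element g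
  obtain ⟨g, hg, hga, hgb, hgd, hge⟩ := hKT.four le_rfl (Ne.symm hba) (Ne.symm hda)
    (Ne.symm hea) (Ne.symm hdb) (Ne.symm heb) (Ne.symm hed)
    hba (Ne.symm hdb) (Ne.symm heb) (Ne.symm hda) (Ne.symm hea) (Ne.symm hed)
    ha hbF hdF heF hbF ha hdF heF
  have hginv : ∀ {u v : α}, g u = v → g⁻¹ v = u := by
    intro u v h
    rw [Perm.inv_eq_iff_eq, h]
  set s := g * t * g⁻¹ with hs
  have hsN : s ∈ N := hnorm g hg t htN
  have hsd : s d = t d := by
    rw [hs, Perm.mul_apply, Perm.mul_apply, hginv hgd, hge]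
  have hse : s (t d) = d := by
    rw [hs, Perm.mul_apply, Perm.mul_apply, hginv hge, htt, hgd]
  have hsb : s b = b := by
    rw [hs, Perm.mul_apply, Perm.mul_apply, hginv hga, hta, hga]
  -- m = t * s fixes d and t d
  have hmd : (t * s) d = d := by rw [Perm.mul_apply, hsd, htt]
  have hme : (t * s) (t d) = t d := by rw [Perm.mul_apply, hse]
  have hmN : t * s ∈ N := N.mul_mem htN hsN
  have hm1 : t * s = 1 := by
    obtain ⟨n, hn, hnd⟩ := htrans a d ha hdF
    have h1 : n⁻¹ * (t * s) * n ∈ Na := by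
      refine mem_stab.mpr ⟨N.mul_mem (N.mul_mem (N.inv_mem hn) hmN) hn, ?_⟩
      rw [Perm.mul_apply, Perm.mul_apply, hnd, hmd, Perm.inv_eq_iff_eq, hnd]
    have hu : n⁻¹ (t d) ∉ insert a F := by
      simp only [Finset.mem_insert, not_or]
      refine ⟨?_, notMem_of_fix (hNF _ (N.inv_mem hn)) heF⟩
      intro h
      rw [Perm.inv_eq_iff_eq, hnd] at h
      exact hed h
    have h2 : (n⁻¹ * (t * s) * n) (n⁻¹ (t d)) = n⁻¹ (t d) := by
      rw [Perm.mul_apply, Perm.mul_apply]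
      have h' : n (n⁻¹ (t d)) = t d := by simp
      rw [h', hme]
    have h3 := hsemi _ h1 _ hu h2
    have : t * s = n * (n⁻¹ * (t * s) * n) * n⁻¹ := by group
    rw [this, h3]; group
  have : s = t⁻¹ := (eq_inv_of_mul_eq_one_right hm1)
  rw [this] at hsb
  rw [Perm.inv_eq_iff_eq] at hsb
  exact hcb hsb.symm

/-- the inductive statement -/
theorem main : ∀ k : ℕ, 2 ≤ k → ∀ (F : Finset α) (G N : Subgroup (Perm α)),
    (∀ g ∈ G, ∀ f ∈ F, g f = f) → KT G F k → k + F.card < Fintype.card α → N ≤ G →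
    (∀ g ∈ G, ∀ n ∈ N, g * n * g⁻¹ ∈ N) → N ≠ ⊥ →
    KT N F (k - 1) ∨ (k = 3 ∧ ∀ n ∈ N, n ^ 2 = 1) := by
  intro k hk
  induction k, hk using Nat.le_induction with
  | base =>
    intro F G N hGF hKT hcard hNG hnorm hN
    left
    have hNF : ∀ n ∈ N, ∀ f ∈ F, n f = f := fun n hn => hGF n (hNG hn)
    have htr := normal_trans hKT hNF hnorm hN
    intro j hj x y hx hy hxF hyF
    have hj' : j = 0 ∨ j = 1 := by omega
    rcases hj' with rfl | rfl
    · exact ⟨1, N.one_mem, fun i => i.elim0⟩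
    · obtain ⟨n, hn, hnx⟩ := htr (x 0) (y 0) (hxF 0) (hyF 0)
      refine ⟨n, hn, fun i => ?_⟩
      have : i = 0 := Subsingleton.elim _ _
      rw [this]; exact hnx
  | succ k hk ih =>
    intro F G N hGF hKT hcard hNG hnorm hN
    have hNF : ∀ n ∈ N, ∀ f ∈ F, n f = f := fun n hn => hGF n (hNG hn)
    obtain ⟨a, ha⟩ := exists_notMem F (by omega)
    have htrans := normal_trans (hKT.mono (by omega)) hNF hnorm hN
    by_cases hNa : N ⊓ MulAction.stabilizer (Perm α) a = ⊥
    · right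
      exact regular_case hk hGF hKT hcard hNG hnorm hN ha htrans hNa
    · -- apply the induction hypothesis to the point stabilisers
      have hGaF : ∀ g ∈ G ⊓ MulAction.stabilizer (Perm α) a, ∀ f ∈ insert a F, g f = f := by
        intro g hg f hf
        obtain ⟨hgG, hga⟩ := mem_stab.mp hg
        rcases Finset.mem_insert.mp hf with rfl | hf
        · exact hga
        · exact hGF g hgG f hf
      have hcard' : k + (insert a F).card < Fintype.card α := by
        rw [Finset.card_insert_of_notMem ha]; omega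
      have hle : N ⊓ MulAction.stabilizer (Perm α) a ≤ G ⊓ MulAction.stabilizer (Perm α) a :=
        inf_le_inf_right _ hNG
      have hnorma : ∀ g ∈ G ⊓ MulAction.stabilizer (Perm α) a,
          ∀ n ∈ N ⊓ MulAction.stabilizer (Perm α) a,
          g * n * g⁻¹ ∈ N ⊓ MulAction.stabilizer (Perm α) a := by
        intro g hg n hn
        obtain ⟨hgG, hga⟩ := mem_stab.mp hg
        obtain ⟨hnN, hna⟩ := mem_stab.mp hn
        refine mem_stab.mpr ⟨hnorm g hgG n hnN, ?_⟩
        have : g⁻¹ a = a := by rw [Perm.inv_eq_iff_eq, hga]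
        rw [Perm.mul_apply, Perm.mul_apply, this, hna, hga]
      rcases ih (insert a F) _ _ hGaF (hKT.stab ha) hcard' hle hnorma hNa with h1 | ⟨hk3, hexp⟩
      · left
        have := KT.of_stab hNF htrans ha h1
        have hk' : k - 1 + 1 = k + 1 - 1 := by omega
        rwa [hk'] at this
      · exfalso
        subst hk3
        exact exp2_case hGF hKT (by omega) hNG hnorm ha htrans hNa hexp

theorem result {α : Type*} [Fintype α] [DecidableEq α] (G : Subgroup (Equiv.Perm α)) {k : ℕ} (hk : 1 < k) (hdeg : k < Fintype.card α) (hG : MulAction.IsMultiplyPretransitive G α k) (N : Subgroup G) [N.Normal] (hN : N ≠ ⊥) : MulAction.IsMultiplyPretransitive N α (k - 1) ∨ (k = 3 ∧ IsMulCommutative N ∧ ∀ n ∈ N, n ^ 2 = 1) := by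
  have hNnormal : N.Normal := inferInstance
  -- translate the hypothesis
  have hKT : KT G ∅ k := by
    intro j hj x y hx hy _ _
    have hj' : MulAction.IsMultiplyPretransitive G α j :=
      MulAction.isMultiplyPretransitive_of_le (n := k) hj
        (by rw [Nat.card_eq_fintype_card]; exact hdeg.le)
    obtain ⟨g, hg⟩ := MulAction.isMultiplyPretransitive_iff.mp hj' ⟨x, hx⟩ ⟨y, hy⟩
    refine ⟨g, g.2, fun i => ?_⟩
    have := congrFun (congrArg DFunLike.coe hg) i
    simpa [Subgroup.smul_def, Perm.smul_def] using this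
  set N' : Subgroup (Perm α) := N.map G.subtype with hN'
  have hN'G : N' ≤ G := Subgroup.map_subtype_le N
  have hN'ne : N' ≠ ⊥ := by
    rw [hN', Ne, Subgroup.map_eq_bot_iff_of_injective _ (Subgroup.subtype_injective G)]
    exact hN
  have hnorm : ∀ g ∈ G, ∀ n ∈ N', g * n * g⁻¹ ∈ N' := by
    rintro g hg _ ⟨n, hn, rfl⟩
    exact ⟨⟨g, hg⟩ * n * ⟨g, hg⟩⁻¹, hNnormal.conj_mem n hn ⟨g, hg⟩, rfl⟩
  have hmem : ∀ n : G, n ∈ N ↔ (n : Perm α) ∈ N' := by
    intro n
    constructor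
    · intro h; exact ⟨n, h, rfl⟩
    · rintro ⟨m, hm, hmn⟩
      have : m = n := Subtype.ext hmn
      rw [← this]; exact hm
  rcases main k hk ∅ G N' (fun _ _ f hf => absurd hf (Finset.notMem_empty f)) hKT
    (by simpa using hdeg) hN'G hnorm hN'ne with h | ⟨hk3, hexp⟩
  · left
    rw [MulAction.isMultiplyPretransitive_iff]
    intro x y
    obtain ⟨g, hg, hgx⟩ := h (k - 1) le_rfl x y x.injective y.injective
      (fun _ => Finset.notMem_empty _) (fun _ => Finset.notMem_empty _)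
    obtain ⟨n, hn, rfl⟩ := hg
    refine ⟨⟨n, hn⟩, ?_⟩
    ext i
    exact hgx i
  · right
    have hexp' : ∀ n ∈ N, n ^ 2 = 1 := by
      intro n hn
      apply Subtype.ext
      have := hexp _ ((hmem n).mp hn)
      simpa using this
    refine ⟨hk3, ⟨⟨fun a b => ?_⟩⟩, hexp'⟩
    have hinv : ∀ m : N, m⁻¹ = m := by
      intro m
      have := hexp' m m.2
      apply Subtype.ext
      rw [pow_two] at this
      exact inv_eq_of_mul_eq_one_left this
    have h1 := hinv (a * b)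
    rw [mul_inv_rev, hinv a, hinv b] at h1
    exact h1.symm

end Cfsg.Agent.S0698
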