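import Cfsg.Statements.S0705
import Mathlib.GroupTheory.Perm.Sign
import Mathlib.Tactic

set_option autoImplicit false
open scoped Pointwise
open Cfsg

namespace Cfsg.Agent.S0705

open Equiv

variable {α : Type*} [Fintype α] [DecidableEq α]

omit [Fintype α] in
/-- a swap of a subtype, evaluated in the ambient type -/
theorem coe_swap_subtype (s : Finset α) (u v z : ↥s) :
    ((swap u v z : ↥s) : α) = swap (u : α) (v : α) (z : α) := by
  by_cases h1 : z = u
  · subst h1; simp
  by_cases h2 : z = v
  · subst h2; simp
  rw [swap_apply_of_ne_of_ne h1 h2, swap_apply_of_ne_of_ne]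
  · exact fun h => h1 (Subtype.ext h)
  · exact fun h => h2 (Subtype.ext h)

/-- One swap step: some group element acts like `swap u v` on the range of a `k`-tuple. -/
theorem swap_step (G : Subgroup (Perm α)) {k : ℕ} (hk : k < Fintype.card α)
    (hgen : ∀ s : Finset α, s.card = k + 1 → ∀ σ : Perm ↥s, ∃ g ∈ G, ∀ x : ↥s, g (x : α) = σ x)
    (x : Fin k ↪ α) (u v : α) :
    ∃ g ∈ G, ∀ i, g (x i) = swap u v (x i) := by
  let r : Finset α := Finset.univ.image x
  have hr : r.card = k := by
    rw [Finset.card_image_of_injective _ x.injective, Finset.card_univ, Fintype.card_fin]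
  by_cases huv : u ∈ r ∨ v ∈ r
  · -- a (k+1)-set containing r, u, v
    have hcard : (r ∪ {u, v}).card ≤ k + 1 := by
      rcases huv with h | h
      · have : r ∪ {u, v} = insert v r := by
          ext z; simp only [Finset.mem_union, Finset.mem_insert, Finset.mem_singleton]
          constructor
          · rintro (h1 | h1 | h1)
            · right; exact h1
            · right; rw [h1]; exact h
            · left; exact h1
          · rintro (h1 | h1)
            · right; right; exact h1
            · left; exact h1
        rw [this]
        exact (Finset.card_insert_le _ _).trans (by rw [hr])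
      · have : r ∪ {u, v} = insert u r := by
          ext z; simp only [Finset.mem_union, Finset.mem_insert, Finset.mem_singleton]
          constructor
          · rintro (h1 | h1 | h1)
            · right; exact h1
            · left; exact h1
            · right; rw [h1]; exact h
          · rintro (h1 | h1)
            · right; left; exact h1
            · left; exact h1
        rw [this]
        exact (Finset.card_insert_le _ _).trans (by rw [hr])
    obtain ⟨s, hs1, -, hs3⟩ := Finset.exists_subsuperset_card_eq
      (Finset.subset_univ (r ∪ {u, v})) hcard (by rw [Finset.card_univ]; omega)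
    have hus : u ∈ s := hs1 (by simp)
    have hvs : v ∈ s := hs1 (by simp)
    obtain ⟨g, hg, hgs⟩ := hgen s hs3 (swap ⟨u, hus⟩ ⟨v, hvs⟩)
    refine ⟨g, hg, fun i => ?_⟩
    have his : x i ∈ s := hs1 (by simp [r])
    rw [hgs ⟨x i, his⟩, coe_swap_subtype]
  · push Not at huv
    refine ⟨1, G.one_mem, fun i => ?_⟩
    have hi : x i ∈ r := by simp [r]
    rw [swap_apply_of_ne_of_ne]
    · rfl
    · rintro h; exact huv.1 (h ▸ hi)
    · rintro h; exact huv.2 (h ▸ hi)

theorem result {α : Type*} [Fintype α] [DecidableEq α] (G : Subgroup (Equiv.Perm α)) {k : ℕ} (hk : k < Fintype.card α) (hgen : ∀ s : Finset α, s.card = k + 1 → ∀ σ : Equiv.Perm ↥s, ∃ g ∈ G, ∀ x : ↥s, g (x : α) = σ x) : MulAction.IsMultiplyPretransitive G α k ∧ ∀ s : Finset α, s.card = k → ∀ a b : α, a ∉ s → b ∉ s → (∃ g ∈ G, g • s = s ∧ g a = b) → ∃ g ∈ G, (∀ x ∈ s, g x = x) ∧ g a = b := by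
  constructor
  · -- k-transitivity
    have key : ∀ π : Perm α, ∀ x : Fin k ↪ α, ∃ g ∈ G, ∀ i, g (x i) = π (x i) := by
      intro π
      induction π using Equiv.Perm.swap_induction_on with
      | one => exact fun x => ⟨1, G.one_mem, fun i => rfl⟩
      | swap_mul f u v _ ih =>
        intro x
        obtain ⟨g', hg', hgx'⟩ := ih x
        let x' : Fin k ↪ α := x.trans f.toEmbedding
        obtain ⟨g'', hg'', hgx''⟩ := swap_step G hk hgen x' u v
        refine ⟨g'' * g', G.mul_mem hg'' hg', fun i => ?_⟩
        rw [Perm.mul_apply, hgx' i, Perm.mul_apply]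
        exact hgx'' i
    rw [MulAction.isMultiplyPretransitive_iff]
    intro x y
    obtain ⟨π, hπ⟩ := Equiv.Perm.exists_smul_eq_embedding x y
    obtain ⟨g, hg, hgx⟩ := key π x
    refine ⟨⟨g, hg⟩, ?_⟩
    ext i
    rw [← hπ]
    exact hgx i
  · intro s hs a b ha hb ⟨g, hg, hgs, hgab⟩
    have hgmem : ∀ x, x ∈ s ↔ g x ∈ s := by
      intro x
      constructor
      · intro hx
        rw [← hgs]
        exact Finset.mem_smul_finset.mpr ⟨x, hx, rfl⟩
      · intro hx
        rw [← hgs] at hx
        obtain ⟨y, hy, hyx⟩ := Finset.mem_smul_finset.mp hx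
        have : y = x := g.injective hyx
        rw [← this]; exact hy
    -- π = swap a b * g preserves insert a s
    let π : Perm α := swap a b * g
    have hπs : ∀ x ∈ s, π x = g x := by
      intro x hx
      have h1 : g x ∈ s := (hgmem x).mp hx
      change swap a b (g x) = g x
      rw [swap_apply_of_ne_of_ne]
      · rintro h; exact ha (h ▸ h1)
      · rintro h; exact hb (h ▸ h1)
    have hπa : π a = a := by
      change swap a b (g a) = a
      rw [hgab, swap_apply_right]
    let s' : Finset α := insert a s
    have hs' : s'.card = k + 1 := by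
      rw [Finset.card_insert_of_notMem ha, hs]
    have hπmem : ∀ x, π x ∈ s' ↔ x ∈ s' := by
      intro x
      simp only [s', Finset.mem_insert]
      constructor
      · rintro (h | h)
        · left
          apply π.injective
          rw [h, hπa]
        · by_cases hxa : x = a
          · left; exact hxa
          · right
            -- π x ∈ s; π x = swap a b (g x)
            by_contra hxs
            -- g x ∉ s, so ...
            have h1 : g x ∉ s := fun h' => hxs ((hgmem x).mpr h')
            have h2 : swap a b (g x) ∈ s := h
            by_cases h3 : g x = a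
            · rw [h3, swap_apply_left] at h2; exact hb h2
            by_cases h4 : g x = b
            · rw [h4, swap_apply_right] at h2; exact ha h2
            rw [swap_apply_of_ne_of_ne h3 h4] at h2
            exact h1 h2
      · rintro (h | h)
        · left; rw [h, hπa]
        · right; rw [hπs x h]; exact (hgmem x).mp h
    obtain ⟨h, hhG, hh⟩ := hgen s' hs' (π.subtypePerm hπmem)
    have hhs : ∀ x ∈ s, h x = g x := by
      intro x hx
      have := hh ⟨x, Finset.mem_insert_of_mem hx⟩
      rw [this]
      simp only [Perm.subtypePerm_apply]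
      exact hπs x hx
    have hha : h a = a := by
      have := hh ⟨a, Finset.mem_insert_self a s⟩
      rw [this]
      simp only [Perm.subtypePerm_apply]
      exact hπa
    refine ⟨g * h⁻¹, G.mul_mem hg (G.inv_mem hhG), ?_, ?_⟩
    · intro x hx
      -- x = g y with y ∈ s, and h y = g y = x
      have hx' : x ∈ g • s := by rw [hgs]; exact hx
      obtain ⟨y, hy, hyx⟩ := Finset.mem_smul_finset.mp hx'
      have hyx' : g y = x := hyx
      have : h⁻¹ x = y := by
        rw [Perm.inv_eq_iff_eq, hhs y hy, hyx']
      rw [Perm.mul_apply, this, hyx']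
    · have : h⁻¹ a = a := by rw [Perm.inv_eq_iff_eq, hha]
      rw [Perm.mul_apply, this, hgab]

end Cfsg.Agent.S0705
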