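import Cfsg.Statements.S0706
import Cfsg.Agent.S0705
import Mathlib.GroupTheory.Sylow
import Mathlib.GroupTheory.PGroup
import Mathlib.GroupTheory.GroupAction.Quotient
import Mathlib.Algebra.Pointwise.Stabilizer
import Mathlib.Tactic

set_option autoImplicit false
open scoped Pointwise
open Cfsg

namespace Cfsg.Agent.S0706

open Equiv MulAction

variable {α : Type*} [Fintype α] [DecidableEq α]

/-- pointwise stabiliser in `G` of a finset, as a subgroup of `Perm α` -/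
def fixer (G : Subgroup (Perm α)) (Γ : Finset α) : Subgroup (Perm α) :=
  G ⊓ fixingSubgroup (Perm α) (Γ : Set α)

omit [Fintype α] [DecidableEq α] in
theorem mem_fixer {G : Subgroup (Perm α)} {Γ : Finset α} {π : Perm α} :
    π ∈ fixer G Γ ↔ π ∈ G ∧ ∀ x ∈ Γ, π x = x := by
  simp [fixer, mem_fixingSubgroup_iff]

omit [Fintype α] [DecidableEq α] in
theorem mem_orbit_iff' (G : Subgroup (Perm α)) (Γ : Finset α) (a b : α) :
    b ∈ orbit (fixingSubgroup G (Γ : Set α)) a ↔ ∃ π ∈ fixer G Γ, π a = b := by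
  constructor
  · rintro ⟨m, rfl⟩
    refine ⟨((m : G) : Perm α), mem_fixer.mpr ⟨(m : G).2, fun x hx => ?_⟩, rfl⟩
    exact (mem_fixingSubgroup_iff G).mp m.2 x (by exact_mod_cast hx)
  · rintro ⟨π, hπ, rfl⟩
    obtain ⟨hG, hfix⟩ := mem_fixer.mp hπ
    exact ⟨⟨⟨π, hG⟩, (mem_fixingSubgroup_iff G).mpr fun x hx => hfix x (by exact_mod_cast hx)⟩,
      rfl⟩

omit [Fintype α] [DecidableEq α] in
/-- a `k`-transitive group realises every permutation on a `k`-subset. -/
theorem exists_mem_agree (G : Subgroup (Perm α)) {k : ℕ} (hG : IsMultiplyPretransitive G α k)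
    (Δ : Finset α) (hΔ : Δ.card = k) (σ : Perm α) : ∃ h ∈ G, ∀ x ∈ Δ, h x = σ x := by
  let e : Δ ≃ Fin k := Δ.equivFinOfCardEq hΔ
  let x : Fin k ↪ α := e.symm.toEmbedding.trans (Function.Embedding.subtype _)
  let y : Fin k ↪ α := x.trans σ.toEmbedding
  obtain ⟨h, hh⟩ := isMultiplyPretransitive_iff.mp hG x y
  refine ⟨h, h.2, fun z hz => ?_⟩
  have := congrFun (congrArg DFunLike.coe hh) (e ⟨z, hz⟩)
  simpa [x, y, Subgroup.smul_def, Perm.smul_def] using this

omit [Fintype α] [DecidableEq α] in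
/-- a `k`-transitive group maps any `k`-set into any other. -/
theorem exists_map (G : Subgroup (Perm α)) {k : ℕ} (hG : IsMultiplyPretransitive G α k)
    (Γ Γ' : Finset α) (hΓ : Γ.card = k) (hΓ' : Γ'.card = k) :
    ∃ h ∈ G, ∀ z ∈ Γ, h z ∈ Γ' := by
  let e : Γ ≃ Fin k := Γ.equivFinOfCardEq hΓ
  let e' : Γ' ≃ Fin k := Γ'.equivFinOfCardEq hΓ'
  let x : Fin k ↪ α := e.symm.toEmbedding.trans (Function.Embedding.subtype _)
  let y : Fin k ↪ α := e'.symm.toEmbedding.trans (Function.Embedding.subtype _)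
  obtain ⟨h, hh⟩ := isMultiplyPretransitive_iff.mp hG x y
  refine ⟨h, h.2, fun z hz => ?_⟩
  have := congrFun (congrArg DFunLike.coe hh) (e ⟨z, hz⟩)
  have h2 : (h : Perm α) z = y (e ⟨z, hz⟩) := by
    simpa [x, Subgroup.smul_def, Perm.smul_def] using this
  rw [h2]
  simp [y]

omit [Fintype α] [DecidableEq α] in
/-- conjugation: if `h Γ ⊆ Γ'` then the fixer of `Γ'` embeds in the fixer of `Γ`. -/
theorem card_fixer_dvd (G : Subgroup (Perm α)) [Finite α] (Γ Γ' : Finset α) (h : Perm α) (hh : h ∈ G)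
    (hmap : ∀ z ∈ Γ, h z ∈ Γ') : Nat.card (fixer G Γ') ∣ Nat.card (fixer G Γ) := by
  have hle : (fixer G Γ').map (MulAut.conj h⁻¹).toMonoidHom ≤ fixer G Γ := by
    rintro _ ⟨π, hπ, rfl⟩
    obtain ⟨hπG, hπfix⟩ := mem_fixer.mp hπ
    refine mem_fixer.mpr ⟨?_, fun x hx => ?_⟩
    · simp only [MulEquiv.coe_toMonoidHom, MulAut.conj_apply, inv_inv]
      exact G.mul_mem (G.mul_mem (G.inv_mem hh) hπG) hh
    · simp only [MulEquiv.coe_toMonoidHom, MulAut.conj_apply, inv_inv, Perm.mul_apply]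
      rw [hπfix _ (hmap x hx)]
      simp
  have := Subgroup.card_dvd_of_le hle
  rwa [Subgroup.card_map_of_injective (MulEquiv.injective _)] at this

omit [Fintype α] [DecidableEq α] in
/-- abstract Sylow fixed-point lemma -/
theorem exists_sylow_fixed (L : Subgroup (Perm α)) {p : ℕ} [Fact p.Prime] (T : Fin p → Set α)
    (hinv : ∀ i, ∀ g ∈ L, ∀ a ∈ T i, g a ∈ T i) (hcard : ∀ i, ¬ p ∣ Nat.card (T i)) :
    ∃ P : Sylow p L, ∀ i, ∃ a ∈ T i, ∀ g : L, g ∈ (P : Subgroup L) → (g : Perm α) a = a := by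
  obtain ⟨P⟩ : Nonempty (Sylow p L) := inferInstance
  refine ⟨P, fun i => ?_⟩
  let M : SubMulAction L α :=
    { carrier := T i, smul_mem' := fun g a ha => hinv i g g.2 a ha }
  have hne := P.isPGroup'.nonempty_fixed_point_of_prime_not_dvd_card M (hcard i)
  obtain ⟨a, ha⟩ := hne
  refine ⟨a, a.2, fun g hg => ?_⟩
  have := ha ⟨g, hg⟩
  exact congrArg Subtype.val this

/-- the group fixing `Γ \ S` pointwise and `S` setwise -/
def L1 (G : Subgroup (Perm α)) (Γ S : Finset α) : Subgroup (Perm α) :=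
  fixer G (Γ \ S) ⊓ stabilizer (Perm α) S

omit [Fintype α] in
theorem mem_L1 {G : Subgroup (Perm α)} {Γ S : Finset α} {π : Perm α} :
    π ∈ L1 G Γ S ↔ π ∈ G ∧ (∀ x ∈ Γ \ S, π x = x) ∧ ∀ x ∈ S, π x ∈ S := by
  rw [L1, Subgroup.mem_inf, mem_fixer, mem_stabilizer_finset']
  simp only [Perm.smul_def, and_assoc]

omit [Fintype α] in
theorem L1_pres {G : Subgroup (Perm α)} {Γ S : Finset α} (hS : S ⊆ Γ) {π : Perm α}
    (hπ : π ∈ L1 G Γ S) : ∀ x ∈ Γ, π x ∈ Γ := by
  obtain ⟨-, h1, h2⟩ := mem_L1.mp hπ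
  intro x hx
  by_cases hxS : x ∈ S
  · exact hS (h2 x hxS)
  · rw [h1 x (Finset.mem_sdiff.mpr ⟨hx, hxS⟩)]; exact hx

omit [Fintype α] in
theorem fixer_le_L1 {G : Subgroup (Perm α)} {Γ S : Finset α} (hS : S ⊆ Γ) :
    fixer G Γ ≤ L1 G Γ S := by
  intro π hπ
  obtain ⟨h1, h2⟩ := mem_fixer.mp hπ
  refine mem_L1.mpr ⟨h1, fun x hx => h2 x (Finset.mem_sdiff.mp hx).1, fun x hx => ?_⟩
  rw [h2 x (hS hx)]; exact hx

theorem result {α : Type*} [Fintype α] [DecidableEq α] (G : Subgroup (Equiv.Perm α)) {k : ℕ} (hk : k < Fintype.card α) (hgen : ∀ s : Finset α, s.card = k + 1 → ∀ σ : Equiv.Perm ↥s, ∃ g ∈ G, ∀ x : ↥s, g (x : α) = σ x) {p : ℕ} (hp : p.Prime) (hpk : p ≤ k) (Γ : Finset α) (hΓ : Γ.card = k) (f : Fin p → α) (hf : ∀ i, f i ∉ Γ) (hdist : ∀ i j, i ≠ j → f j ∉ MulAction.orbit (fixingSubgroup G (Γ : Set α)) (f i)) : ∃ i, p ∣ Nat.card (MulAction.orbit (fixingSubgroup G (Γ : Set α)) (f i)) := by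
  by_contra hcon
  push Not at hcon
  have : Fact p.Prime := ⟨hp⟩
  obtain ⟨htrans, hsame⟩ := Cfsg.Agent.S0705.result G hk hgen
  obtain ⟨S, hSΓ, hScard⟩ := Finset.exists_subset_card_eq (hΓ ▸ hpk : p ≤ Γ.card)
  -- the orbits
  set T : Fin p → Set α := fun i => orbit (fixingSubgroup G (Γ : Set α)) (f i) with hT
  -- points of an orbit lie outside Γ
  have hTout : ∀ i, ∀ b ∈ T i, b ∉ Γ := by
    intro i b hb hbΓ
    obtain ⟨π, hπ, rfl⟩ := (mem_orbit_iff' G Γ (f i) b).mp hb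
    have h1 := (mem_fixer.mp hπ).2 _ hbΓ
    exact hf i (π.injective h1 ▸ hbΓ)
  -- invariance of the orbits under L1
  have hinv : ∀ i, ∀ g ∈ L1 G Γ S, ∀ a ∈ T i, g a ∈ T i := by
    intro i g hg b hb
    have hgG : g ∈ G := (mem_L1.mp hg).1
    have hgΓ : g • Γ = Γ := by
      have : g ∈ stabilizer (Perm α) Γ := by
        rw [mem_stabilizer_finset']
        intro x hx
        exact L1_pres hSΓ hg x hx
      exact mem_stabilizer_iff.mp this
    have hbΓ : b ∉ Γ := hTout i b hb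
    have hgbΓ : g b ∉ Γ := by
      intro hgb
      have hinvmem : g⁻¹ ∈ L1 G Γ S := (L1 G Γ S).inv_mem hg
      have := L1_pres hSΓ hinvmem _ hgb
      simp at this
      exact hbΓ this
    obtain ⟨g', hg'G, hg'fix, hg'b⟩ := hsame Γ hΓ b (g b) hbΓ hgbΓ ⟨g, hgG, hgΓ, rfl⟩
    obtain ⟨π, hπ, rfl⟩ := (mem_orbit_iff' G Γ (f i) b).mp hb
    rw [hT]
    refine (mem_orbit_iff' G Γ (f i) _).mpr ⟨g' * π, (fixer G Γ).mul_mem ?_ hπ, ?_⟩
    · exact mem_fixer.mpr ⟨hg'G, hg'fix⟩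
    · rw [Perm.mul_apply, hg'b]
  obtain ⟨P, hP⟩ := exists_sylow_fixed (L1 G Γ S) T hinv hcon
  choose a haT hafix using hP
  -- the `a i` are distinct
  have hainj : Function.Injective a := by
    intro i j hij
    by_contra hne
    obtain ⟨π, hπ, hπa⟩ := (mem_orbit_iff' G Γ (f i) (a i)).mp (haT i)
    obtain ⟨π', hπ', hπa'⟩ := (mem_orbit_iff' G Γ (f j) (a j)).mp (haT j)
    apply hdist i j hne
    refine (mem_orbit_iff' G Γ (f i) (f j)).mpr
      ⟨π'⁻¹ * π, (fixer G Γ).mul_mem ((fixer G Γ).inv_mem hπ') hπ, ?_⟩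
    rw [Perm.mul_apply, hπa, hij, ← hπa']
    simp
  -- the new `k`-set
  set Γs : Finset α := (Γ \ S) ∪ Finset.univ.image a with hΓs
  have hΓscard : Γs.card = k := by
    rw [hΓs, Finset.card_union_of_disjoint, Finset.card_sdiff_of_subset hSΓ,
      Finset.card_image_of_injective _ hainj, Finset.card_univ, Fintype.card_fin, hΓ, hScard]
    · omega
    · rw [Finset.disjoint_left]
      intro x hx hx'
      obtain ⟨i, -, rfl⟩ := Finset.mem_image.mp hx'
      exact hTout i _ (haT i) (Finset.mem_sdiff.mp hx).1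
  -- P fixes Γs pointwise
  have hPle : (P : Subgroup (L1 G Γ S)).map (L1 G Γ S).subtype ≤ fixer G Γs := by
    rintro _ ⟨g, hg, rfl⟩
    refine mem_fixer.mpr ⟨(mem_L1.mp g.2).1, fun x hx => ?_⟩
    rw [hΓs, Finset.mem_union] at hx
    rcases hx with hx | hx
    · exact (mem_L1.mp g.2).2.1 x hx
    · obtain ⟨i, -, rfl⟩ := Finset.mem_image.mp hx
      exact hafix i g hg
  have hdiv1 : Nat.card (P : Subgroup (L1 G Γ S)) ∣ Nat.card (fixer G Γ) := by
    have h1 := Subgroup.card_dvd_of_le hPle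
    rw [Subgroup.card_map_of_injective (Subgroup.subtype_injective _)] at h1
    obtain ⟨h, hhG, hhmap⟩ := exists_map G htrans Γ Γs hΓ hΓscard
    exact h1.trans (card_fixer_dvd G Γ Γs h hhG hhmap)
  -- p * |fixer| divides |L1|
  have hpos : 0 < p := hp.pos
  have hSne : S.Nonempty := by
    rw [← Finset.card_pos, hScard]; exact hpos
  obtain ⟨c, hc⟩ := hSne
  have horb : orbit (L1 G Γ S) c = (S : Set α) := by
    ext x
    constructor
    · rintro ⟨g, rfl⟩
      exact (mem_L1.mp g.2).2.2 c hc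
    · intro hx
      obtain ⟨g, hgG, hg⟩ := exists_mem_agree G htrans Γ hΓ (swap c x)
      have hgL : g ∈ L1 G Γ S := by
        refine mem_L1.mpr ⟨hgG, fun y hy => ?_, fun y hy => ?_⟩
        · rw [hg y (Finset.mem_sdiff.mp hy).1, swap_apply_of_ne_of_ne]
          · rintro rfl; exact (Finset.mem_sdiff.mp hy).2 hc
          · rintro rfl; exact (Finset.mem_sdiff.mp hy).2 hx
        · rw [hg y (hSΓ hy)]
          by_cases h1 : y = c
          · rw [h1, swap_apply_left]; exact hx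
          by_cases h2 : y = x
          · rw [h2, swap_apply_right]; exact hc
          rw [swap_apply_of_ne_of_ne h1 h2]; exact hy
      refine ⟨⟨g, hgL⟩, ?_⟩
      change g c = x
      rw [hg c (hSΓ hc), swap_apply_left]
  have hdiv2 : p * Nat.card (fixer G Γ) ∣ Nat.card (L1 G Γ S) := by
    have h1 := Subgroup.card_mul_index (stabilizer (L1 G Γ S) c)
    rw [index_stabilizer, horb, Set.ncard_coe_finset, hScard] at h1
    have hle : (fixer G Γ).subgroupOf (L1 G Γ S) ≤ stabilizer (L1 G Γ S) c := by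
      intro g hg
      rw [Subgroup.mem_subgroupOf] at hg
      rw [mem_stabilizer_iff]
      exact (mem_fixer.mp hg).2 c (hSΓ hc)
    have h2 := Subgroup.card_dvd_of_le hle
    rw [Nat.card_congr (Subgroup.subgroupOfEquivOfLe (fixer_le_L1 hSΓ)).toEquiv] at h2
    rw [← h1, mul_comm]
    exact Nat.mul_dvd_mul_right h2 p
  -- contradiction
  have hcardP := P.card_eq_multiplicity
  rw [hcardP] at hdiv1
  have : p ^ ((Nat.card (L1 G Γ S)).factorization p + 1) ∣ Nat.card (L1 G Γ S) := by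
    rw [pow_succ, mul_comm]
    exact (Nat.mul_dvd_mul_left p hdiv1).trans hdiv2
  exact Nat.pow_succ_factorization_not_dvd Nat.card_pos.ne' hp this

end Cfsg.Agent.S0706
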