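import Cfsg.Statements.S0699
import Cfsg.Agent.S0698
import Cfsg.Agent.S0706
import Mathlib.GroupTheory.Sylow
import Mathlib.GroupTheory.PGroup
import Mathlib.GroupTheory.Perm.Sign
import Mathlib.Tactic

set_option autoImplicit false
open scoped Pointwise
open Cfsg

namespace Cfsg.Agent.S0699

open Equiv MulAction
open Cfsg.Agent.S0698 (KT)

variable {α : Type*} [Fintype α] [DecidableEq α]

omit [DecidableEq α] in
/-- an elementary abelian 2-group cannot be transitive on a set of odd size `> 1` -/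
theorem not_exp_two {N : Subgroup (Perm α)} (hodd : Odd (Fintype.card α))
    (h5 : 5 ≤ Fintype.card α) (htrans : ∀ u v : α, ∃ n ∈ N, n u = v)
    (hexp : ∀ n ∈ N, n ^ 2 = 1) : False := by
  have : Fact (Nat.Prime 2) := ⟨Nat.prime_two⟩
  obtain ⟨a⟩ : Nonempty α := by
    rw [← Fintype.card_pos_iff]; omega
  have hP : IsPGroup 2 N := by
    intro g
    refine ⟨1, ?_⟩
    apply Subtype.ext
    have := hexp g g.2
    simpa using this
  obtain ⟨j, hj⟩ := IsPGroup.iff_card.mp hP
  have horb : orbit N a = Set.univ := by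
    ext v
    simp only [Set.mem_univ, iff_true]
    obtain ⟨n, hn, hnv⟩ := htrans a v
    exact ⟨⟨n, hn⟩, hnv⟩
  have h1 : (stabilizer N a).index = Fintype.card α := by
    rw [index_stabilizer, horb, Set.ncard_univ, Nat.card_eq_fintype_card]
  have h2 : Fintype.card α ∣ 2 ^ j := by
    rw [← h1, ← hj]; exact Subgroup.index_dvd_card _
  obtain ⟨i, -, hi⟩ := (Nat.dvd_prime_pow Nat.prime_two).mp h2
  rw [hi] at hodd h5
  rcases Nat.eq_zero_or_pos i with h0 | hpos
  · rw [h0] at h5; norm_num at h5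
  · have : Even (2 ^ i) := (Nat.even_pow' hpos.ne').mpr even_two
    exact (Nat.not_even_iff_odd.mpr hodd) this

omit [DecidableEq α] in
/-- a 2-transitive group of odd degree contains an element `(a b)(c)…` -/
theorem exists_swap_fix {N : Subgroup (Perm α)} (hodd : Odd (Fintype.card α))
    (h5 : 5 ≤ Fintype.card α)
    (h2 : ∀ u u' v v' : α, u ≠ u' → v ≠ v' → ∃ n ∈ N, n u = v ∧ n u' = v') :
    ∃ t ∈ N, ∃ a b c : α, a ≠ b ∧ a ≠ c ∧ b ≠ c ∧ t a = b ∧ t b = a ∧ t c = c := by
  have : Fact (Nat.Prime 2) := ⟨Nat.prime_two⟩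
  -- two distinct points
  obtain ⟨a₀, b₀, hab₀⟩ : ∃ a b : α, a ≠ b := by
    have : 1 < Fintype.card α := by omega
    exact Fintype.exists_pair_of_one_lt_card this
  obtain ⟨g, hg, hga, hgb⟩ := h2 a₀ b₀ b₀ a₀ hab₀ (Ne.symm hab₀)
  -- the order of g is even
  have heven : 2 ∣ Nat.card N := by
    have h1 : 2 ∣ orderOf (⟨g, hg⟩ : N) := by
      by_contra hnd
      have hoddm : Odd (orderOf (⟨g, hg⟩ : N)) := by
        rcases Nat.even_or_odd (orderOf (⟨g, hg⟩ : N)) with h | h
        · exact absurd (even_iff_two_dvd.mp h) hnd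
        · exact h
      obtain ⟨j, hj⟩ := hoddm
      have hpow : g ^ (2 * j + 1) = 1 := by
        have := pow_orderOf_eq_one (⟨g, hg⟩ : N)
        rw [hj] at this
        exact congrArg Subtype.val this
      have hg2a : ∀ i : ℕ, (g ^ (2 * i)) a₀ = a₀ := by
        intro i
        induction i with
        | zero => simp
        | succ i ih =>
          have : g ^ (2 * (i + 1)) = g ^ (2 * i) * (g * g) := by
            rw [mul_add, pow_add]; simp [pow_two]
          rw [this, Perm.mul_apply, Perm.mul_apply, hga, hgb, ih]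
      have : g ^ (2 * j + 1) = g * g ^ (2 * j) := pow_succ' g (2 * j)
      rw [this] at hpow
      have h3 := congrArg (fun σ : Perm α => σ a₀) hpow
      simp only [Perm.mul_apply, hg2a j, hga, Perm.one_apply] at h3
      exact hab₀ h3.symm
    exact h1.trans (orderOf_dvd_natCard _)
  obtain ⟨t, ht⟩ := exists_prime_orderOf_dvd_card' 2 heven
  have ht2 : (t : Perm α) ^ 2 = 1 := by
    have := pow_orderOf_eq_one t
    rw [ht] at this
    exact_mod_cast congrArg Subtype.val this
  have ht1 : (t : Perm α) ≠ 1 := by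
    intro h
    have : t = 1 := Subtype.ext h
    rw [this, orderOf_one] at ht
    norm_num at ht
  have htt : ∀ z, (t : Perm α) ((t : Perm α) z) = z := by
    intro z
    have := congrArg (fun σ : Perm α => σ z) ht2
    simpa [pow_two, Perm.mul_apply] using this
  -- a fixed point
  have hP : IsPGroup 2 (Subgroup.zpowers (t : Perm α)) := by
    apply IsPGroup.of_card (n := 1)
    rw [Nat.card_zpowers, pow_one, Subgroup.orderOf_coe, ht]
  have hnd : ¬ 2 ∣ Nat.card α := by
    rw [Nat.card_eq_fintype_card]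
    exact fun h => (Nat.not_even_iff_odd.mpr hodd) (even_iff_two_dvd.mpr h)
  obtain ⟨c, hc⟩ := hP.nonempty_fixed_point_of_prime_not_dvd_card α hnd
  have htc : (t : Perm α) c = c := hc ⟨t, Subgroup.mem_zpowers _⟩
  obtain ⟨a, hta⟩ : ∃ a, (t : Perm α) a ≠ a := by
    by_contra hcon
    push Not at hcon
    exact ht1 (Perm.ext hcon)
  refine ⟨t, t.2, a, (t : Perm α) a, c, Ne.symm hta, ?_, ?_, rfl, htt a, htc⟩
  · rintro rfl; exact hta htc
  · intro h
    apply hta
    have := congrArg (t : Perm α) h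
    rw [htt, htc] at this
    rw [this, htc]

/-- generosity: every permutation of a 3-set is induced -/
theorem generous {N : Subgroup (Perm α)}
    (hswap : ∀ x y z : α, x ≠ y → x ≠ z → y ≠ z → ∃ t ∈ N, t x = y ∧ t y = x ∧ t z = z)
    (s : Finset α) (hs : s.card = 2 + 1) (σ : Perm ↥s) :
    ∃ g ∈ N, ∀ x : ↥s, g (x : α) = σ x := by
  -- the subgroup of realised permutations
  let R : Subgroup (Perm ↥s) :=
    { carrier := {τ | ∃ g ∈ N, ∀ x : ↥s, g (x : α) = τ x}
      one_mem' := ⟨1, N.one_mem, fun x => rfl⟩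
      mul_mem' := by
        rintro τ τ' ⟨g, hg, hgx⟩ ⟨g', hg', hgx'⟩
        refine ⟨g * g', N.mul_mem hg hg', fun x => ?_⟩
        rw [Perm.mul_apply, hgx' x, hgx (τ' x)]
        rfl
      inv_mem' := by
        rintro τ ⟨g, hg, hgx⟩
        refine ⟨g⁻¹, N.inv_mem hg, fun x => ?_⟩
        rw [Perm.inv_eq_iff_eq, hgx (τ⁻¹ x)]
        simp }
  have hR : R = ⊤ := by
    rw [eq_top_iff, ← Equiv.Perm.closure_isSwap, Subgroup.closure_le]
    rintro τ ⟨x, y, hxy, rfl⟩
    -- the third point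
    have hxy' : (x : α) ≠ (y : α) := fun h => hxy (Subtype.ext h)
    have hcard : ((s.erase (x : α)).erase (y : α)).card = 1 := by
      rw [Finset.card_erase_of_mem, Finset.card_erase_of_mem x.2, hs]
      exact Finset.mem_erase.mpr ⟨Ne.symm hxy', y.2⟩
    obtain ⟨z, hz⟩ := Finset.card_eq_one.mp hcard
    have hzmem : z ∈ (s.erase (x : α)).erase (y : α) := by rw [hz]; exact Finset.mem_singleton_self z
    have hzy : z ≠ (y : α) := (Finset.mem_erase.mp hzmem).1
    have hzx : z ≠ (x : α) := (Finset.mem_erase.mp (Finset.mem_erase.mp hzmem).2).1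
    obtain ⟨t, ht, htx, hty, htz⟩ := hswap x y z hxy' (Ne.symm hzx) (Ne.symm hzy)
    refine ⟨t, ht, fun w => ?_⟩
    by_cases hwx : w = x
    · rw [hwx, htx, swap_apply_left]
    by_cases hwy : w = y
    · rw [hwy, hty, swap_apply_right]
    · rw [swap_apply_of_ne_of_ne hwx hwy]
      have hw : (w : α) ∈ (s.erase (x : α)).erase (y : α) := by
        refine Finset.mem_erase.mpr ⟨fun h => hwy (Subtype.ext h), Finset.mem_erase.mpr
          ⟨fun h => hwx (Subtype.ext h), w.2⟩⟩
      rw [hz, Finset.mem_singleton] at hw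
      rw [hw, htz]
  have : σ ∈ R := by rw [hR]; trivial
  exact this

/-- Step 3: the two-point stabiliser of `N` is transitive on the remaining points -/
theorem stab2_trans {G N : Subgroup (Perm α)} (hodd : Odd (Fintype.card α))
    (h5 : 5 ≤ Fintype.card α) (hKT3 : KT G ∅ 3)
    (hnorm : ∀ g ∈ G, ∀ n ∈ N, g * n * g⁻¹ ∈ N)
    (hgen : ∀ s : Finset α, s.card = 2 + 1 → ∀ σ : Perm ↥s, ∃ g ∈ N, ∀ x : ↥s, g (x : α) = σ x)
    {a b : α} (hab : a ≠ b) :
    ∀ c c' : α, c ≠ a → c ≠ b → c' ≠ a → c' ≠ b → ∃ π ∈ N, π a = a ∧ π b = b ∧ π c = c' := by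
  classical
  have : Fact (Nat.Prime 2) := ⟨Nat.prime_two⟩
  set Γ : Finset α := {a, b} with hΓdef
  have hΓ : Γ.card = 2 := Finset.card_pair hab
  have hmemΓ : ∀ x, x ∈ Γ ↔ x = a ∨ x = b := by
    intro x; simp [hΓdef]
  set K := fixingSubgroup N (Γ : Set α) with hK
  have horb : ∀ x y : α, y ∈ orbit K x ↔ ∃ π ∈ N, π a = a ∧ π b = b ∧ π x = y := by
    intro x y
    rw [Cfsg.Agent.S0706.mem_orbit_iff']
    constructor
    · rintro ⟨π, hπ, hπx⟩
      obtain ⟨h1, h2⟩ := Cfsg.Agent.S0706.mem_fixer.mp hπ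
      exact ⟨π, h1, h2 a ((hmemΓ a).mpr (Or.inl rfl)), h2 b ((hmemΓ b).mpr (Or.inr rfl)), hπx⟩
    · rintro ⟨π, h1, h2, h3, h4⟩
      refine ⟨π, Cfsg.Agent.S0706.mem_fixer.mpr ⟨h1, fun z hz => ?_⟩, h4⟩
      rcases (hmemΓ z).mp hz with rfl | rfl
      · exact h2
      · exact h3
  suffices hsuff : ∀ c c' : α, c ∉ Γ → c' ∉ Γ → c' ∈ orbit K c by
    intro c c' hca hcb hc'a hc'b
    exact (horb c c').mp (hsuff c c' (fun h => by
      rcases (hmemΓ c).mp h with h | h
      · exact hca h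
      · exact hcb h) (fun h => by
      rcases (hmemΓ c').mp h with h | h
      · exact hc'a h
      · exact hc'b h))
  -- action of elements of K
  have hKfix : ∀ m : K, ∀ z ∈ Γ, m • z = z := by
    intro m z hz
    exact (mem_fixingSubgroup_iff N).mp m.2 z (by exact_mod_cast hz)
  -- a Sylow 2-subgroup and its fixed point outside Γ
  obtain ⟨P⟩ : Nonempty (Sylow 2 K) := inferInstance
  have hmod := P.isPGroup'.card_modEq_card_fixedPoints α
  obtain ⟨c₀, hc₀fix, hc₀Γ⟩ : ∃ c₀ ∈ fixedPoints (P : Subgroup K) α, c₀ ∉ Γ := by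
    by_contra hcon
    push Not at hcon
    have hEq : fixedPoints (P : Subgroup K) α = (Γ : Set α) := by
      ext z
      constructor
      · intro hz; exact_mod_cast hcon z hz
      · intro hz m
        exact hKfix (m : K) z (by exact_mod_cast hz)
    rw [hEq, Nat.card_eq_fintype_card] at hmod
    have h2 : Nat.card (Γ : Set α) = 2 := by
      rw [Nat.card_coe_set_eq, Set.ncard_coe_finset, hΓ]
    rw [h2] at hmod
    have : Fintype.card α % 2 = 0 := by
      have := hmod
      unfold Nat.ModEq at this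
      simpa using this
    rcases hodd with ⟨j, hj⟩
    omega
  -- the orbit of c₀ has odd length
  have hoddorb : ¬ 2 ∣ (orbit K c₀).ncard := by
    rw [← index_stabilizer]
    have hle : (P : Subgroup K) ≤ stabilizer K c₀ := by
      intro m hm
      rw [mem_stabilizer_iff]
      exact hc₀fix ⟨m, hm⟩
    intro h
    exact P.not_dvd_index (h.trans (Subgroup.index_dvd_of_le hle))
  -- all orbits outside Γ have the same length
  have hsame : ∀ c : α, c ∉ Γ → (orbit K c).ncard = (orbit K c₀).ncard := by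
    intro c hcΓ
    have hc₀a : c₀ ≠ a := fun h => hc₀Γ ((hmemΓ c₀).mpr (Or.inl h))
    have hc₀b : c₀ ≠ b := fun h => hc₀Γ ((hmemΓ c₀).mpr (Or.inr h))
    have hca : c ≠ a := fun h => hcΓ ((hmemΓ c).mpr (Or.inl h))
    have hcb : c ≠ b := fun h => hcΓ ((hmemΓ c).mpr (Or.inr h))
    obtain ⟨g, hg, hga, hgb, hgc⟩ := hKT3.three le_rfl hab (Ne.symm hc₀a) (Ne.symm hc₀b)
      hab (Ne.symm hca) (Ne.symm hcb) (Finset.notMem_empty _) (Finset.notMem_empty _)
      (Finset.notMem_empty _) (Finset.notMem_empty _) (Finset.notMem_empty _)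
      (Finset.notMem_empty _)
    have hgia : g⁻¹ a = a := by rw [Perm.inv_eq_iff_eq, hga]
    have hgib : g⁻¹ b = b := by rw [Perm.inv_eq_iff_eq, hgb]
    have himg : orbit K c = g '' orbit K c₀ := by
      ext y
      constructor
      · intro hy
        obtain ⟨π, hπ, hπa, hπb, hπc⟩ := (horb c y).mp hy
        refine ⟨g⁻¹ y, (horb c₀ _).mpr ⟨g⁻¹ * π * g, ?_, ?_, ?_, ?_⟩, by simp⟩
        · have := hnorm g⁻¹ (G.inv_mem hg) π hπ
          simpa using this
        · rw [Perm.mul_apply, Perm.mul_apply, hga, hπa, hgia]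
        · rw [Perm.mul_apply, Perm.mul_apply, hgb, hπb, hgib]
        · rw [Perm.mul_apply, Perm.mul_apply, hgc, hπc]
      · rintro ⟨x, hx, rfl⟩
        obtain ⟨π, hπ, hπa, hπb, hπc⟩ := (horb c₀ x).mp hx
        refine (horb c _).mpr ⟨g * π * g⁻¹, hnorm g hg π hπ, ?_, ?_, ?_⟩
        · rw [Perm.mul_apply, Perm.mul_apply, hgia, hπa, hga]
        · rw [Perm.mul_apply, Perm.mul_apply, hgib, hπb, hgb]
        · rw [Perm.mul_apply, Perm.mul_apply, ← hgc]
          simp [hπc]
    rw [himg, Set.ncard_image_of_injective _ g.injective]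
  -- apply the generosity theorem
  intro c c' hcΓ hc'Γ
  by_contra hnot
  have hk : 2 < Fintype.card α := by omega
  obtain ⟨i, hi⟩ := Cfsg.Agent.S0706.result N hk hgen Nat.prime_two le_rfl Γ hΓ ![c, c']
    (by intro i; fin_cases i <;> simpa)
    (by
      intro i j hij
      fin_cases i <;> fin_cases j
      · exact absurd rfl hij
      · simpa using hnot
      · simp only [Fin.mk_one, Fin.isValue, Matrix.cons_val_one, Matrix.cons_val_zero,
          Fin.zero_eta]
        rw [mem_orbit_symm]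
        exact hnot
      · exact absurd rfl hij)
  rw [Nat.card_coe_set_eq] at hi
  fin_cases i
  · simp only [Fin.zero_eta, Fin.isValue, Matrix.cons_val_zero] at hi
    rw [hsame c hcΓ] at hi
    exact hoddorb hi
  · simp only [Fin.mk_one, Fin.isValue, Matrix.cons_val_one, Matrix.cons_val_zero] at hi
    rw [hsame c' hc'Γ] at hi
    exact hoddorb hi

theorem result {α : Type*} [Fintype α] [DecidableEq α] (G : Subgroup (Equiv.Perm α)) (hodd : Odd (Fintype.card α)) (h5 : 5 ≤ Fintype.card α) (hG : MulAction.IsMultiplyPretransitive G α 3) (N : Subgroup G) [N.Normal] (hN : N ≠ ⊥) : MulAction.IsMultiplyPretransitive N α 3 := by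
  have hNnormal : N.Normal := inferInstance
  have hKT : KT G ∅ 3 := by
    intro j hj x y hx hy _ _
    have hj' : MulAction.IsMultiplyPretransitive G α j :=
      MulAction.isMultiplyPretransitive_of_le (n := 3) hj
        (by rw [Nat.card_eq_fintype_card]; omega)
    obtain ⟨g, hg⟩ := MulAction.isMultiplyPretransitive_iff.mp hj' ⟨x, hx⟩ ⟨y, hy⟩
    refine ⟨g, g.2, fun i => ?_⟩
    have := congrFun (congrArg DFunLike.coe hg) i
    simpa [Subgroup.smul_def, Perm.smul_def] using this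
  set N' : Subgroup (Perm α) := N.map G.subtype with hN'
  have hN'G : N' ≤ G := Subgroup.map_subtype_le N
  have hN'ne : N' ≠ ⊥ := by
    rw [hN', Ne, Subgroup.map_eq_bot_iff_of_injective _ (Subgroup.subtype_injective G)]
    exact hN
  have hnorm : ∀ g ∈ G, ∀ n ∈ N', g * n * g⁻¹ ∈ N' := by
    rintro g hg _ ⟨n, hn, rfl⟩
    exact ⟨⟨g, hg⟩ * n * ⟨g, hg⟩⁻¹, hNnormal.conj_mem n hn ⟨g, hg⟩, rfl⟩
  have hemp : ∀ z : α, z ∉ (∅ : Finset α) := fun z => Finset.notMem_empty z
  have hN'F : ∀ n ∈ N', ∀ f ∈ (∅ : Finset α), n f = f := fun _ _ f hf => absurd hf (hemp f)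
  have htrans := Cfsg.Agent.S0698.normal_trans (hKT.mono (by omega)) hN'F hnorm hN'ne
  rcases Cfsg.Agent.S0698.main 3 (by omega) ∅ G N'
    (fun _ _ f hf => absurd hf (hemp f)) hKT (by simp; omega) hN'G hnorm hN'ne with h | ⟨-, hexp⟩
  swap
  · exfalso
    exact not_exp_two hodd h5 (fun u v => htrans u v (hemp u) (hemp v)) hexp
  have h2 : ∀ u u' v v' : α, u ≠ u' → v ≠ v' → ∃ n ∈ N', n u = v ∧ n u' = v' :=
    fun u u' v v' hu hv => h.two le_rfl hu hv (hemp _) (hemp _) (hemp _) (hemp _)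
  obtain ⟨t, ht, a, b, c, hab, hac, hbc, hta, htb, htc⟩ := exists_swap_fix hodd h5 h2
  have hswap : ∀ x y z : α, x ≠ y → x ≠ z → y ≠ z → ∃ t' ∈ N', t' x = y ∧ t' y = x ∧ t' z = z := by
    intro x y z hxy hxz hyz
    obtain ⟨g, hg, hga, hgb, hgc⟩ := hKT.three le_rfl hab hac hbc hxy hxz hyz
      (hemp _) (hemp _) (hemp _) (hemp _) (hemp _) (hemp _)
    have hgi : ∀ {u v : α}, g u = v → g⁻¹ v = u := by
      intro u v h'
      rw [Perm.inv_eq_iff_eq, h']
    refine ⟨g * t * g⁻¹, hnorm g hg t ht, ?_, ?_, ?_⟩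
    · rw [Perm.mul_apply, Perm.mul_apply, hgi hga, hta, hgb]
    · rw [Perm.mul_apply, Perm.mul_apply, hgi hgb, htb, hga]
    · rw [Perm.mul_apply, Perm.mul_apply, hgi hgc, htc, hgc]
  have hgen := generous hswap
  have hst := stab2_trans hodd h5 hKT hnorm hgen hab
  -- 3-transitivity of N'
  rw [MulAction.isMultiplyPretransitive_iff]
  intro x y
  have hx01 : x 0 ≠ x 1 := fun h' => by have := x.injective h'; simp at this
  have hx02 : x 0 ≠ x 2 := fun h' => by have := x.injective h'; simp at this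
  have hx12 : x 1 ≠ x 2 := fun h' => by have := x.injective h'; simp at this
  have hy01 : y 0 ≠ y 1 := fun h' => by have := y.injective h'; simp at this
  have hy02 : y 0 ≠ y 2 := fun h' => by have := y.injective h'; simp at this
  have hy12 : y 1 ≠ y 2 := fun h' => by have := y.injective h'; simp at this
  obtain ⟨g1, hg1, hg1a, hg1b⟩ := h2 (x 0) (x 1) a b hx01 hab
  obtain ⟨g2, hg2, hg2a, hg2b⟩ := h2 (y 0) (y 1) a b hy01 hab
  have hc1a : g1 (x 2) ≠ a := by rw [← hg1a]; exact fun h' => hx02 (g1.injective h').symm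
  have hc1b : g1 (x 2) ≠ b := by rw [← hg1b]; exact fun h' => hx12 (g1.injective h').symm
  have hc2a : g2 (y 2) ≠ a := by rw [← hg2a]; exact fun h' => hy02 (g2.injective h').symm
  have hc2b : g2 (y 2) ≠ b := by rw [← hg2b]; exact fun h' => hy12 (g2.injective h').symm
  obtain ⟨π, hπ, hπa, hπb, hπc⟩ := hst _ _ hc1a hc1b hc2a hc2b
  have hmem : g2⁻¹ * π * g1 ∈ N' := N'.mul_mem (N'.mul_mem (N'.inv_mem hg2) hπ) hg1
  obtain ⟨n, hn, hnval⟩ := hmem
  refine ⟨⟨n, hn⟩, ?_⟩
  ext i
  change ((n : G) : Perm α) (x i) = y i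
  have hnv : ((n : G) : Perm α) = g2⁻¹ * π * g1 := hnval
  rw [hnv]
  fin_cases i
  · change (g2⁻¹ * π * g1) (x 0) = y 0
    rw [Perm.mul_apply, Perm.mul_apply, hg1a, hπa, Perm.inv_eq_iff_eq, hg2a]
  · change (g2⁻¹ * π * g1) (x 1) = y 1
    rw [Perm.mul_apply, Perm.mul_apply, hg1b, hπb, Perm.inv_eq_iff_eq, hg2b]
  · change (g2⁻¹ * π * g1) (x 2) = y 2
    rw [Perm.mul_apply, Perm.mul_apply, hπc, Perm.inv_eq_iff_eq]

end Cfsg.Agent.S0699
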