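import Cfsg.Statements.S0700
import Cfsg.Agent.Lib.Helper6_Frobenius

set_option autoImplicit false
set_option linter.unusedSectionVars false
open Cfsg
open scoped Pointwise

namespace Cfsg.Agent.S0700

open MulAction

section abstract

variable {Γ α : Type*} [Group Γ] [MulAction Γ α]

/-- translate of a block of a normal subgroup by an element of the big group -/
theorem isBlock_smul_of_normal (N : Subgroup Γ) [hNn : N.Normal] {B : Set α} (hB : IsBlock N B)
    (g : Γ) : IsBlock N (g • B) := by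
  rw [isBlock_iff_smul_eq_or_disjoint] at hB ⊢
  intro n
  have hn' : g⁻¹ * (n : Γ) * g ∈ N := by
    have := hNn.conj_mem (n : Γ) n.2 g⁻¹
    simpa using this
  have key : n • (g • B) = g • ((⟨g⁻¹ * (n : Γ) * g, hn'⟩ : N) • B) := by
    show (n : Γ) • (g • B) = g • ((g⁻¹ * (n : Γ) * g) • B)
    rw [smul_smul, smul_smul]; congr 1; group
  rw [key]
  rcases hB ⟨g⁻¹ * (n : Γ) * g, hn'⟩ with h | h
  · left; rw [h]
  · right; exact (Set.disjoint_smul_set).mpr h

/-- minimal nontrivial blocks of `N` -/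
def IsLine (N : Subgroup Γ) (ℓ : Set α) : Prop :=
  IsBlock N ℓ ∧ ℓ.Nontrivial ∧ ℓ ≠ Set.univ ∧
    ∀ B' : Set α, IsBlock N B' → B'.Nontrivial → B' ⊆ ℓ → B' = ℓ

theorem IsLine.smul {N : Subgroup Γ} [N.Normal] {ℓ : Set α} (h : IsLine N ℓ) (g : Γ) :
    IsLine N (g • ℓ) := by
  obtain ⟨hb, hnt, hne, hmin⟩ := h
  refine ⟨isBlock_smul_of_normal N hb g, ?_, ?_, ?_⟩
  · exact hnt.image (MulAction.injective g)
  · intro h; apply hne
    have : ℓ = g⁻¹ • (g • ℓ) := by rw [inv_smul_smul]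
    rw [this, h, Set.smul_set_univ]
  · intro B' hB' hnt' hsub
    have := hmin (g⁻¹ • B') (isBlock_smul_of_normal N hB' g⁻¹)
      (hnt'.image (MulAction.injective g⁻¹)) (by
        rw [← Set.subset_smul_set_iff]; exact hsub)
    rw [← this, smul_inv_smul]

theorem IsLine.eq_of_mem {N : Subgroup Γ} {ℓ₁ ℓ₂ : Set α} (h₁ : IsLine N ℓ₁) (h₂ : IsLine N ℓ₂)
    {x y : α} (hxy : x ≠ y) (hx1 : x ∈ ℓ₁) (hy1 : y ∈ ℓ₁) (hx2 : x ∈ ℓ₂) (hy2 : y ∈ ℓ₂) :
    ℓ₁ = ℓ₂ := by
  have hI : IsBlock N (ℓ₁ ∩ ℓ₂) := h₁.1.inter h₂.1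
  have hnt : (ℓ₁ ∩ ℓ₂).Nontrivial := ⟨x, ⟨hx1, hx2⟩, y, ⟨hy1, hy2⟩, hxy⟩
  have e1 := h₁.2.2.2 _ hI hnt Set.inter_subset_left
  have e2 := h₂.2.2.2 _ hI hnt Set.inter_subset_right
  exact e1.symm.trans e2

theorem exists_line (h2 : ∀ {a b c d : α}, a ≠ b → c ≠ d → ∃ g : Γ, g • a = c ∧ g • b = d)
    {N : Subgroup Γ} [N.Normal] {ℓ₀ : Set α} (h₀ : IsLine N ℓ₀) {x y : α} (hxy : x ≠ y) :
    ∃ ℓ, IsLine N ℓ ∧ x ∈ ℓ ∧ y ∈ ℓ := by
  obtain ⟨a, ha, b, hb, hab⟩ := h₀.2.1
  obtain ⟨g, hga, hgb⟩ := h2 hab hxy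
  exact ⟨g • ℓ₀, h₀.smul g, hga ▸ Set.smul_mem_smul_set ha, hgb ▸ Set.smul_mem_smul_set hb⟩

theorem IsLine.smul_eq {N : Subgroup Γ} {ℓ : Set α} (h : IsLine N ℓ) (n : N) {x : α}
    (hx : x ∈ ℓ) (hnx : n • x = x) : n • ℓ = ℓ := by
  rcases (isBlock_iff_smul_eq_or_disjoint.mp h.1) n with h' | h'
  · exact h'
  · exfalso
    exact Set.disjoint_left.mp h' (Set.mem_smul_set.mpr ⟨x, hx, hnx⟩) hx

theorem fix_off_line (h2 : ∀ {a b c d : α}, a ≠ b → c ≠ d → ∃ g : Γ, g • a = c ∧ g • b = d)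
    {N : Subgroup Γ} [N.Normal] {ℓ₀ : Set α} (h₀ : IsLine N ℓ₀) (n : N) {x y : α} (hxy : x ≠ y)
    (hx : n • x = x) (hy : n • y = y) {ℓ : Set α} (hℓ : IsLine N ℓ) (hxℓ : x ∈ ℓ) (hyℓ : y ∈ ℓ)
    {z : α} (hz : z ∉ ℓ) : n • z = z := by
  have hxz : x ≠ z := fun h => hz (h ▸ hxℓ)
  have hyz : y ≠ z := fun h => hz (h ▸ hyℓ)
  obtain ⟨ℓ₁, h₁, hx1, hz1⟩ := exists_line h2 h₀ hxz
  obtain ⟨ℓ₂, h₂, hy2, hz2⟩ := exists_line h2 h₀ hyz
  by_contra hne
  have e1 := h₁.smul_eq n hx1 hx
  have e2 := h₂.smul_eq n hy2 hy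
  have hnz1 : n • z ∈ ℓ₁ := by
    have : n • z ∈ n • ℓ₁ := Set.smul_mem_smul_set hz1
    rwa [e1] at this
  have hnz2 : n • z ∈ ℓ₂ := by
    have : n • z ∈ n • ℓ₂ := Set.smul_mem_smul_set hz2
    rwa [e2] at this
  have h12 : ℓ₁ = ℓ₂ := h₁.eq_of_mem h₂ hne hnz1 hz1 hnz2 hz2
  have : ℓ₁ = ℓ := h₁.eq_of_mem hℓ hxy hx1 (h12 ▸ hy2) hxℓ hyℓ
  exact hz (this ▸ hz1)

theorem eq_one_of_fix_two [FaithfulSMul Γ α]
    (h2 : ∀ {a b c d : α}, a ≠ b → c ≠ d → ∃ g : Γ, g • a = c ∧ g • b = d)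
    {N : Subgroup Γ} [N.Normal] {ℓ₀ : Set α} (h₀ : IsLine N ℓ₀) (n : N) {x y : α} (hxy : x ≠ y)
    (hx : n • x = x) (hy : n • y = y) : n = 1 := by
  obtain ⟨ℓ, hℓ, hxℓ, hyℓ⟩ := exists_line h2 h₀ hxy
  obtain ⟨z, hz⟩ : ∃ z, z ∉ ℓ := by
    by_contra h; push Not at h; exact hℓ.2.2.1 (Set.eq_univ_of_forall h)
  have hnz := fix_off_line h2 h₀ n hxy hx hy hℓ hxℓ hyℓ hz
  have hxz : x ≠ z := fun h => hz (h ▸ hxℓ)
  obtain ⟨ℓ', hℓ', hxℓ', hzℓ'⟩ := exists_line h2 h₀ hxz
  have hall : ∀ w : α, n • w = w := by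
    intro w
    by_cases hw : w ∈ ℓ
    · by_cases hwx : w = x
      · rw [hwx]; exact hx
      · have hwℓ' : w ∉ ℓ' := by
          intro hw'
          have : ℓ' = ℓ := hℓ'.eq_of_mem hℓ (Ne.symm hwx) hxℓ' hw' hxℓ hw
          exact hz (this ▸ hzℓ')
        exact fix_off_line h2 h₀ n hxz hx hnz hℓ' hxℓ' hzℓ' hwℓ'
    · exact fix_off_line h2 h₀ n hxy hx hy hℓ hxℓ hyℓ hw
  have : (n : Γ) = 1 := FaithfulSMul.eq_of_smul_eq_smul (α := α) (fun w => by
    rw [one_smul]; exact hall w)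
  exact Subtype.ext (by simpa using this)

theorem fixedPoints_ne_univ [FaithfulSMul Γ α] (K : Subgroup Γ) (hK : K ≠ ⊥) :
    fixedPoints K α ≠ Set.univ := by
  intro hfix
  apply hK
  rw [eq_bot_iff]; intro n hn
  have : ∀ x : α, n • x = x := fun x => by
    have hx : x ∈ fixedPoints K α := by rw [hfix]; trivial
    exact hx ⟨n, hn⟩
  exact Subgroup.mem_bot.mpr (FaithfulSMul.eq_of_smul_eq_smul (α := α) fun x => by
    rw [this x, one_smul])

/-- minimality in terms of subgroups of `N` invariant under conjugation by `Γ` -/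
theorem min_invariant (N : Subgroup Γ) [N.Normal]
    (hmin : ∀ M : Subgroup Γ, M.Normal → M ≤ N → M = ⊥ ∨ M = N) (K : Subgroup N)
    (hK : ∀ g : Γ, ∀ k ∈ K, MulAut.conjNormal g k ∈ K) : K = ⊥ ∨ K = ⊤ := by
  have hn : (K.map N.subtype).Normal := by
    constructor
    intro x hx g
    obtain ⟨k, hk, rfl⟩ := Subgroup.mem_map.mp hx
    refine Subgroup.mem_map.mpr ⟨MulAut.conjNormal g k, hK g k hk, ?_⟩
    simp [MulAut.conjNormal_apply]
  rcases hmin _ hn (Subgroup.map_subtype_le K) with h | h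
  · left; exact (Subgroup.map_eq_bot_iff_of_injective K N.subtype_injective).mp h
  · right; rw [eq_top_iff]; intro n _
    have hn' : (n : Γ) ∈ K.map N.subtype := by rw [h]; exact n.2
    obtain ⟨k, hk, hkn⟩ := Subgroup.mem_map.mp hn'
    have : k = n := Subtype.ext hkn
    exact this ▸ hk

end abstract

section regular

variable {N α : Type*} [Group N] [MulAction N α] [FaithfulSMul N α]

/-- two nontrivial commuting normal subgroups of a primitive group are semiregular -/
theorem stabilizer_eq_bot_of_commute [IsPreprimitive N α]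
    (M C : Subgroup N) [C.Normal] (hC : C ≠ ⊥)
    (hcomm : ∀ m ∈ M, ∀ c ∈ C, m * c = c * m) (a : α) : stabilizer M a = ⊥ := by
  have hCt : IsPretransitive C α :=
    IsQuasiPreprimitive.isPretransitive_of_normal (fixedPoints_ne_univ C hC)
  rw [eq_bot_iff]; intro m hm
  have hma : (m : N) • a = a := hm
  have hall : ∀ x : α, (m : N) • x = x := by
    intro x
    obtain ⟨c, rfl⟩ := exists_smul_eq C a x
    show (m : N) • ((c : N) • a) = (c : N) • a
    rw [smul_smul, hcomm m m.2 c c.2, ← smul_smul, hma]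
  have : (m : N) = 1 := FaithfulSMul.eq_of_smul_eq_smul (α := α) (fun w => by
    rw [one_smul]; exact hall w)
  exact Subgroup.mem_bot.mpr (Subtype.ext (by simpa using this))

omit [FaithfulSMul N α] in
theorem card_eq_of_regular [Finite N] [Finite α] (M : Subgroup N) [IsPretransitive M α] (a : α)
    (h : stabilizer M a = ⊥) : Nat.card M = Nat.card α := by
  have := index_stabilizer_of_transitive M a (X := α)
  rw [h, Subgroup.index_bot] at this
  exact this

end regular

section main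

variable {Γ α : Type*} [Group Γ] [Finite Γ] [Finite α] [MulAction Γ α] [FaithfulSMul Γ α]

/-- the regular case -/
theorem regular_case
    (h2 : ∀ {a b c d : α}, a ≠ b → c ≠ d → ∃ g : Γ, g • a = c ∧ g • b = d)
    (N : Subgroup Γ) [N.Normal] (hN : N ≠ ⊥)
    (hmin : ∀ M : Subgroup Γ, M.Normal → M ≤ N → M = ⊥ ∨ M = N)
    (hreg : ∀ a : α, stabilizer N a = ⊥) :
    IsMulCommutative N ∧ (∃ p : ℕ, p.Prime ∧ ∀ n ∈ N, n ^ p = 1) := by
  obtain ⟨n₀, hn₀⟩ := (Subgroup.ne_bot_iff_exists_ne_one).mp hN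
  have hne : Nonempty α := by
    by_contra hα
    have : IsEmpty α := not_nonempty_iff.mp hα
    apply hn₀
    have : (n₀ : Γ) = 1 := FaithfulSMul.eq_of_smul_eq_smul (α := α) (fun w => isEmptyElim w)
    exact Subtype.ext (by simpa using this)
  obtain ⟨a⟩ := hne
  have hmove : ∀ n : N, n ≠ 1 → n • a ≠ a := by
    intro n hn h
    apply hn
    have : n ∈ stabilizer N a := h
    rw [hreg a] at this
    exact Subgroup.mem_bot.mp this
  have hconj : ∀ n n' : N, n ≠ 1 → n' ≠ 1 → ∃ g : Γ, MulAut.conjNormal g n = n' := by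
    intro n n' hn hn'
    obtain ⟨g, hga, hgn⟩ := h2 (Ne.symm (hmove n hn)) (Ne.symm (hmove n' hn'))
    refine ⟨g, ?_⟩
    have hga' : g⁻¹ • a = a := by rw [inv_smul_eq_iff, hga]
    have h1 : MulAut.conjNormal g n • a = n' • a := by
      show ((MulAut.conjNormal g n : N) : Γ) • a = _
      rw [MulAut.conjNormal_apply, mul_smul, mul_smul, hga']
      exact hgn
    have h3 : (n'⁻¹ * MulAut.conjNormal g n) ∈ stabilizer N a := by
      rw [mem_stabilizer_iff, mul_smul, h1, inv_smul_smul]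
    rw [hreg a, Subgroup.mem_bot] at h3
    exact (inv_mul_eq_one.mp h3).symm
  have : Nontrivial N := (Subgroup.nontrivial_iff_ne_bot N).mpr hN
  have hcard : Nat.card N ≠ 1 := by
    intro h
    exact not_subsingleton N ((Nat.card_eq_one_iff_unique.mp h).1)
  obtain ⟨p, hp, hpd⟩ := Nat.exists_prime_and_dvd hcard
  have := Fact.mk hp
  obtain ⟨x, hx⟩ := exists_prime_orderOf_dvd_card' p hpd
  have hx1 : x ≠ 1 := by
    intro h; rw [h, orderOf_one] at hx; exact hp.one_lt.ne hx
  have hexp : ∀ n : N, n ^ p = 1 := by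
    intro n
    by_cases hn : n = 1
    · rw [hn, one_pow]
    · obtain ⟨g, hg⟩ := hconj x n hx1 hn
      rw [← hg, ← map_pow, ← hx, pow_orderOf_eq_one, map_one]
  have hpg : IsPGroup p N := fun n => ⟨1, by rw [pow_one]; exact hexp n⟩
  have hZ : Nontrivial (Subgroup.center N) := hpg.center_nontrivial
  have hZchar := min_invariant N hmin (Subgroup.center N) (fun g k hk =>
    (Subgroup.characteristic_iff_map_le.mp inferInstance (MulAut.conjNormal g))
      (Subgroup.mem_map_of_mem _ hk))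
  refine ⟨?_, p, hp, ?_⟩
  · rcases hZchar with h | h
    · exact absurd h ((Subgroup.nontrivial_iff_ne_bot _).mp hZ)
    · rw [isMulCommutative_iff]
      intro x y
      have hy : y ∈ Subgroup.center N := by rw [h]; trivial
      exact (Subgroup.mem_center_iff.mp hy x)
  · intro n hn
    have := hexp ⟨n, hn⟩
    exact congrArg Subtype.val this

/-- Step A: a nonregular minimal normal subgroup is primitive -/
theorem primitive_case
    (h2 : ∀ {a b c d : α}, a ≠ b → c ≠ d → ∃ g : Γ, g • a = c ∧ g • b = d)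
    (N : Subgroup Γ) [N.Normal] [IsPretransitive N α]
    (hmin : ∀ M : Subgroup Γ, M.Normal → M ≤ N → M = ⊥ ∨ M = N)
    (a : α) (hna : stabilizer N a ≠ ⊥) : IsPreprimitive N α := by
  by_contra hnp
  obtain ⟨B, hB, hBnt⟩ : ∃ B : Set α, IsBlock N B ∧ ¬ IsTrivialBlock B := by
    by_contra hcon; push Not at hcon; exact hnp ⟨fun {B} hB => hcon B hB⟩
  obtain ⟨ℓ₀, hℓ₀⟩ := exists_minimal_of_wellFoundedLT
    (fun B : Set α => IsBlock N B ∧ ¬ IsTrivialBlock B) ⟨B, hB, hBnt⟩
  have h₀ : IsLine N ℓ₀ := by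
    obtain ⟨⟨hb, hnt⟩, hmin₀⟩ := hℓ₀
    unfold IsTrivialBlock at hnt
    push Not at hnt
    refine ⟨hb, hnt.1, hnt.2, ?_⟩
    intro B' hB' hnt' hsub
    have hP : IsBlock N B' ∧ ¬ IsTrivialBlock B' := by
      refine ⟨hB', ?_⟩
      unfold IsTrivialBlock
      push Not
      refine ⟨hnt', ?_⟩
      intro h; apply hnt.2; rw [← Set.univ_subset_iff, ← h]; exact hsub
    exact le_antisymm hsub (hmin₀ hP hsub)
  -- the Frobenius complement
  set H : Subgroup N := stabilizer N a with hH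
  have hHtop : H ≠ ⊤ := by
    intro h
    obtain ⟨x, hx, y, hy, hxy⟩ := h₀.2.1
    have hfix : ∀ z : α, z = a := by
      intro z
      obtain ⟨n, hn⟩ := exists_smul_eq N a z
      have : n ∈ H := by rw [h]; trivial
      rw [← hn]; exact this
    exact hxy ((hfix x).trans (hfix y).symm)
  have hmemconj : ∀ (g k : N), k ∈ MulAut.conj g • H ↔ k • (g • a) = g • a := by
    intro g k
    rw [Subgroup.mem_pointwise_smul_iff_inv_smul_mem, MulAut.smul_def, MulAut.conj_inv_apply, hH,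
      mem_stabilizer_iff, mul_smul, mul_smul, inv_smul_eq_iff]
  have hFrob : IsFrobeniusComplement H := by
    refine ⟨hna, hHtop, ?_⟩
    intro g hg
    rw [eq_bot_iff]
    intro k hk
    have hk1 : k • a = a := hk.1
    have hk2 : k • (g • a) = g • a := (hmemconj g k).mp hk.2
    have hga : a ≠ g • a := fun h => hg h.symm
    exact Subgroup.mem_bot.mpr (eq_one_of_fix_two h2 h₀ k hga hk1 hk2)
  obtain ⟨K, hKset, hKn, hKc⟩ := Cfsg.Agent.Lib.Helper6_Frobenius.exists_kernel H hFrob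
  have hKmem : ∀ k : N, k ∈ K ↔ k = 1 ∨ ∀ x : α, k • x ≠ x := by
    intro k
    have : k ∈ K ↔ k ∈ frobeniusKernel H := by rw [← hKset]; rfl
    rw [this]
    unfold frobeniusKernel
    simp only [Set.mem_ofPred_eq]
    refine or_congr Iff.rfl ⟨fun h x => ?_, fun h g => ?_⟩
    · obtain ⟨g, rfl⟩ := exists_smul_eq N a x
      exact fun hx => h g ((hmemconj g k).mpr hx)
    · exact fun hk => h (g • a) ((hmemconj g k).mp hk)
  have hKinv : ∀ g : Γ, ∀ k ∈ K, MulAut.conjNormal g k ∈ K := by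
    intro g k hk
    rw [hKmem] at hk ⊢
    rcases hk with rfl | hk
    · left; exact map_one _
    · right
      intro x hx
      apply hk (g⁻¹ • x)
      have hx' : ((MulAut.conjNormal g k : N) : Γ) • x = x := hx
      rw [MulAut.conjNormal_apply, mul_smul, mul_smul] at hx'
      show (k : Γ) • g⁻¹ • x = g⁻¹ • x
      rw [eq_inv_smul_iff]; exact hx'
  rcases min_invariant N hmin K hKinv with h | h
  · rw [h, Subgroup.isComplement'_bot_left] at hKc
    exact hHtop hKc
  · rw [h, Subgroup.isComplement'_top_left] at hKc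
    exact hna hKc

/-- the point stabilizer of `N` is trivial if its order divides `|α|` -/
theorem stabilizer_eq_bot_of_card_dvd
    (h2 : ∀ {a b c d : α}, a ≠ b → c ≠ d → ∃ g : Γ, g • a = c ∧ g • b = d)
    (N : Subgroup Γ) [N.Normal] (a : α)
    (hdvd : Nat.card (stabilizer N a) ∣ Nat.card α) : stabilizer N a = ⊥ := by
  have hXt : IsPretransitive (stabilizer Γ a) (SubMulAction.ofStabilizer Γ a) := by
    refine ⟨fun x y => ?_⟩
    have hx : (x : α) ≠ a := (SubMulAction.mem_ofStabilizer_iff Γ a).mp x.2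
    have hy : (y : α) ≠ a := (SubMulAction.mem_ofStabilizer_iff Γ a).mp y.2
    obtain ⟨g, hga, hgx⟩ := h2 (a := a) (b := (x : α)) (c := a) (d := (y : α))
      (Ne.symm hx) (Ne.symm hy)
    exact ⟨⟨g, hga⟩, Subtype.ext hgx⟩
  have hN'n : (N.subgroupOf (stabilizer Γ a)).Normal := inferInstance
  have hcardX : Nat.card (SubMulAction.ofStabilizer Γ a) + 1 = Nat.card α :=
    SubMulAction.nat_card_ofStabilizer_add_one_eq Γ a
  have hcardN' : Nat.card (N.subgroupOf (stabilizer Γ a)) = Nat.card (stabilizer N a) :=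
    Nat.card_congr
      { toFun := fun x => ⟨⟨x.1.1, x.2⟩, x.1.2⟩
        invFun := fun y => ⟨⟨y.1.1, y.2⟩, y.1.2⟩
        left_inv := fun x => rfl
        right_inv := fun y => rfl }
  have horb : ∀ (x : SubMulAction.ofStabilizer Γ a) (n' : N.subgroupOf (stabilizer Γ a)),
      n' • x = x := by
    intro x n'
    have h1 : (orbit (N.subgroupOf (stabilizer Γ a)) x).ncard ∣
        Nat.card (SubMulAction.ofStabilizer Γ a) :=
      IsBlock.ncard_dvd_card (IsBlock.orbit_of_normal x) (nonempty_orbit x)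
    have h2' : (orbit (N.subgroupOf (stabilizer Γ a)) x).ncard ∣
        Nat.card (SubMulAction.ofStabilizer Γ a) + 1 := by
      rw [hcardX]
      refine dvd_trans ?_ hdvd
      rw [← hcardN', ← index_stabilizer]
      exact Subgroup.index_dvd_card _
    have h3 : (orbit (N.subgroupOf (stabilizer Γ a)) x).ncard = 1 :=
      Nat.dvd_one.mp ((Nat.dvd_add_right h1).mp h2')
    obtain ⟨y, hy⟩ := Set.ncard_eq_one.mp h3
    have e1 : n' • x ∈ orbit (N.subgroupOf (stabilizer Γ a)) x := mem_orbit x n'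
    have e2 : x ∈ orbit (N.subgroupOf (stabilizer Γ a)) x := mem_orbit_self x
    rw [hy, Set.mem_singleton_iff] at e1 e2
    rw [e1, e2]
  rw [eq_bot_iff]
  intro h hh
  have hall : ∀ w : α, (h : Γ) • w = w := by
    intro w
    by_cases hw : w = a
    · rw [hw]; exact hh
    · have := horb ⟨w, (SubMulAction.mem_ofStabilizer_iff Γ a).mpr hw⟩ ⟨⟨h.1, hh⟩, h.2⟩
      exact congrArg Subtype.val this
  have : (h : Γ) = 1 := FaithfulSMul.eq_of_smul_eq_smul (α := α) (fun w => by
    rw [one_smul]; exact hall w)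
  exact Subgroup.mem_bot.mpr (Subtype.ext (by simpa using this))

/-- Step B: a primitive nonregular minimal normal subgroup is simple -/
theorem simple_case
    (h2 : ∀ {a b c d : α}, a ≠ b → c ≠ d → ∃ g : Γ, g • a = c ∧ g • b = d)
    (N : Subgroup Γ) [N.Normal] [IsPreprimitive N α] (hN : N ≠ ⊥)
    (hmin : ∀ M : Subgroup Γ, M.Normal → M ≤ N → M = ⊥ ∨ M = N)
    (a : α) (hna : stabilizer N a ≠ ⊥) : IsSimpleGroup N := by
  have : Nontrivial N := (Subgroup.nontrivial_iff_ne_bot N).mpr hN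
  refine ⟨fun M₀ hM₀ => ?_⟩
  by_contra hcon; push Not at hcon
  obtain ⟨M, hMle, hMmin⟩ := exists_minimal_le_of_wellFoundedLT
    (fun K : Subgroup N => K.Normal ∧ K ≠ ⊥) M₀ ⟨hM₀, hcon.1⟩
  obtain ⟨⟨hMn, hMne⟩, hMmin'⟩ := hMmin
  have hMtop : M ≠ ⊤ := fun h => hcon.2 (top_le_iff.mp (h ▸ hMle))
  -- conjugates
  set conjM : Γ → Subgroup N := fun g => M.map (MulAut.conjNormal g : N ≃* N).toMonoidHom
    with hconjM
  have hconjn : ∀ g, (conjM g).Normal := fun g => hMn.map _ (MulEquiv.surjective _)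
  have hconjcard : ∀ g, Nat.card (conjM g) = Nat.card M := fun g =>
    Subgroup.card_map_of_injective (MulEquiv.injective _)
  have hCn : (Subgroup.centralizer (M : Set N)).Normal := Subgroup.normal_centralizer
  have hdich : ∀ g, conjM g = M ∨ conjM g ≤ Subgroup.centralizer (M : Set N) := by
    intro g
    by_cases hI : M ⊓ conjM g = ⊥
    · right
      intro y hy
      rw [Subgroup.mem_centralizer_iff]
      intro m hm
      exact (Subgroup.commute_of_normal_of_disjoint M (conjM g) hMn (hconjn g)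
        (disjoint_iff.mpr hI) m y hm hy).eq
    · left
      have := hconjn g
      have hIn : (M ⊓ conjM g).Normal := Subgroup.normal_inf_normal _ _
      have hle : M ≤ M ⊓ conjM g := hMmin' ⟨hIn, hI⟩ inf_le_left
      have hle' : M ≤ conjM g := hle.trans inf_le_right
      exact (Subgroup.eq_of_le_of_card_ge hle' (hconjcard g).le).symm
  have hconj1 : conjM 1 = M := by
    simp only [hconjM, map_one]
    exact Subgroup.map_id M
  have hL : (⨆ g, conjM g) = ⊤ := by
    have hinv : ∀ γ : Γ, ∀ k ∈ (⨆ g, conjM g), MulAut.conjNormal γ k ∈ (⨆ g, conjM g) := by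
      intro γ k hk
      have hk' : MulAut.conjNormal γ k ∈
          (⨆ g, conjM g).map (MulAut.conjNormal γ : N ≃* N).toMonoidHom :=
        Subgroup.mem_map_of_mem _ hk
      rw [Subgroup.map_iSup] at hk'
      refine (iSup_le ?_ : _ ≤ ⨆ g, conjM g) hk'
      intro g
      have : (conjM g).map (MulAut.conjNormal γ : N ≃* N).toMonoidHom = conjM (γ * g) := by
        simp only [hconjM, Subgroup.map_map]
        congr 1
        ext x
        simp [map_mul]
      rw [this]; exact le_iSup conjM (γ * g)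
    rcases min_invariant N hmin (⨆ g, conjM g) hinv with h | h
    · exfalso; apply hMne; rw [eq_bot_iff, ← h, ← hconj1]
      exact le_iSup conjM 1
    · exact h
  have hMC : M ⊔ Subgroup.centralizer (M : Set N) = ⊤ := by
    rw [eq_top_iff, ← hL]
    refine iSup_le fun g => ?_
    rcases hdich g with h | h
    · rw [h]; exact le_sup_left
    · exact h.trans le_sup_right
  have hCne : Subgroup.centralizer (M : Set N) ≠ ⊥ := by
    intro h; rw [h, sup_bot_eq] at hMC; exact hMtop hMC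
  have hMt : IsPretransitive M α :=
    IsQuasiPreprimitive.isPretransitive_of_normal (fixedPoints_ne_univ M hMne)
  have hCt : IsPretransitive (Subgroup.centralizer (M : Set N)) α :=
    IsQuasiPreprimitive.isPretransitive_of_normal (fixedPoints_ne_univ _ hCne)
  have hMreg : stabilizer M a = ⊥ :=
    stabilizer_eq_bot_of_commute M (Subgroup.centralizer (M : Set N)) hCne
      (fun m hm c hc => Subgroup.mem_centralizer_iff.mp hc m hm) a
  have hCreg : stabilizer (Subgroup.centralizer (M : Set N)) a = ⊥ :=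
    stabilizer_eq_bot_of_commute (Subgroup.centralizer (M : Set N)) M hMne
      (fun c hc m hm => (Subgroup.mem_centralizer_iff.mp hc m hm).symm) a
  have hMcard : Nat.card M = Nat.card α := card_eq_of_regular M a hMreg
  have hCcard : Nat.card (Subgroup.centralizer (M : Set N)) = Nat.card α :=
    card_eq_of_regular _ a hCreg
  have hNcard : Nat.card N ∣ Nat.card α * Nat.card α := by
    have h1 := Subgroup.card_mul_index (Subgroup.centralizer (M : Set N))
    have h3 : (Subgroup.centralizer (M : Set N)).index =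
        (Subgroup.centralizer (M : Set N)).relIndex M := by
      rw [← Subgroup.relIndex_top_right, ← hMC, Subgroup.relIndex_sup_right]
    have h4 : (Subgroup.centralizer (M : Set N)).relIndex M ∣ Nat.card M :=
      Subgroup.relIndex_dvd_card _ _
    rw [← h1, h3, hCcard]
    rw [hMcard] at h4
    exact Nat.mul_dvd_mul_left _ h4
  have hHcard : Nat.card (stabilizer N a) ∣ Nat.card α := by
    have h1 := Subgroup.card_mul_index (stabilizer N a)
    rw [index_stabilizer_of_transitive N a] at h1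
    rw [← h1] at hNcard
    have : Nonempty α := ⟨a⟩
    exact Nat.dvd_of_mul_dvd_mul_right Nat.card_pos hNcard
  exact hna (stabilizer_eq_bot_of_card_dvd h2 N a hHcard)

theorem main
    (hG : IsMultiplyPretransitive Γ α 2) (N : Subgroup Γ) [N.Normal] (hN : N ≠ ⊥)
    (hmin : ∀ M : Subgroup Γ, M.Normal → M ≤ N → M = ⊥ ∨ M = N) :
    (IsMulCommutative N ∧ (∃ p : ℕ, p.Prime ∧ ∀ n ∈ N, n ^ p = 1) ∧
      ∀ a : α, stabilizer N a = ⊥) ∨ (IsSimpleGroup N ∧ IsPreprimitive N α) := by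
  have h2 : ∀ {a b c d : α}, a ≠ b → c ≠ d → ∃ g : Γ, g • a = c ∧ g • b = d :=
    fun {a b c d} hab hcd => is_two_pretransitive_iff.mp hG hab hcd
  have hprimΓ : IsPreprimitive Γ α := isPreprimitive_of_is_two_pretransitive hG
  have hNt : IsPretransitive N α :=
    IsQuasiPreprimitive.isPretransitive_of_normal (fixedPoints_ne_univ N hN)
  by_cases hreg : ∀ a : α, stabilizer N a = ⊥
  · left
    obtain ⟨h1, h3⟩ := regular_case h2 N hN hmin hreg
    exact ⟨h1, h3, hreg⟩
  · right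
    push Not at hreg
    obtain ⟨a, hna⟩ := hreg
    have hprim : IsPreprimitive N α := primitive_case h2 N hmin a hna
    exact ⟨simple_case h2 N hN hmin a hna, hprim⟩

end main

/-- Burnside's Theorem on doubly transitive groups: a minimal normal subgroup of a finite doubly transitive permutation group is elementary abelian and regular, or simple and primitive. -/
theorem result {α : Type*} [Fintype α] [DecidableEq α] (G : Subgroup (Equiv.Perm α)) (hG : MulAction.IsMultiplyPretransitive G α 2) (N : Subgroup G) [N.Normal] (hN : N ≠ ⊥) (hmin : ∀ M : Subgroup G, M.Normal → M ≤ N → M = ⊥ ∨ M = N) : (IsMulCommutative N ∧ (∃ p : ℕ, p.Prime ∧ ∀ n ∈ N, n ^ p = 1) ∧ ∀ a : α, MulAction.stabilizer N a = ⊥) ∨ (IsSimpleGroup N ∧ MulAction.IsPreprimitive N α) := by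
  exact main hG N hN hmin

end Cfsg.Agent.S0700
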