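import Cfsg.Statements.S0701
import Cfsg.Agent.Lib.Helper12_Perm

set_option autoImplicit false
open Cfsg

namespace Cfsg.Agent.S0701

open Cfsg.Agent.Lib.Helper12_Perm

/-- The centraliser in the full symmetric group of a transitive permutation group `G` is semiregular, and it is transitive if and only if `G` is regular. -/
theorem result {α : Type*} (G : Subgroup (Equiv.Perm α)) [MulAction.IsPretransitive G α] : (∀ c ∈ Subgroup.centralizer (G : Set (Equiv.Perm α)), ∀ a : α, c a = a → c = 1) ∧ (MulAction.IsPretransitive (Subgroup.centralizer (G : Set (Equiv.Perm α))) α ↔ ∀ a : α, MulAction.stabilizer G a = ⊥) := by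
  have htr : ∀ a b : α, ∃ h ∈ G, h a = b := (isPretransitive_iff G).mp inferInstance
  refine ⟨fun c hc a hca => centralizer_semiregular G htr c hc a hca, ?_⟩
  constructor
  · intro hC a
    rw [stabilizer_eq_bot_iff]
    intro g hg hga
    have htrC := (isPretransitive_iff _).mp hC
    refine eq_one_of_commute_of_fixed _ htrC g ?_ a hga
    intro c hc
    exact (Subgroup.mem_centralizer_iff.mp hc g hg).symm
  · intro hreg
    rw [isPretransitive_iff]
    intro a b
    refine centralizer_transitive_of_regular G htr ?_ a b
    intro h hh x hx
    exact (stabilizer_eq_bot_iff G x).mp (hreg x) h hh hx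

end Cfsg.Agent.S0701
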