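import Cfsg.Statements.S0702
import Cfsg.Agent.Lib.Helper12_Perm
import Mathlib.Tactic

set_option autoImplicit false
open Cfsg

namespace Cfsg.Agent.S0702

open Cfsg.Agent.Lib.Helper12_Perm MulAction

variable {α : Type*} (G : Subgroup (Equiv.Perm α)) (a : α)

local notation "K" => (MulAction.stabilizer G a : Subgroup G)
local notation "NK" => Subgroup.normalizer ((MulAction.stabilizer G a : Subgroup G) : Set G)

/-- The underlying function of the centralising permutation attached to `n`. -/
noncomputable def cfun [MulAction.IsPretransitive G α] (n : G) (x : α) : α :=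
  (Classical.choose (MulAction.exists_smul_eq G a x) * n⁻¹) • a

theorem cfun_smul [MulAction.IsPretransitive G α] {n : G} (hn : n ∈ NK) (g : G) :
    cfun G a n (g • a) = (g * n⁻¹) • a := by
  unfold cfun
  set t := Classical.choose (MulAction.exists_smul_eq G a (g • a)) with ht
  have hta : t • a = g • a := Classical.choose_spec (MulAction.exists_smul_eq G a (g • a))
  have h1 : g⁻¹ * t ∈ K := by
    rw [mem_stabilizer_iff, mul_smul, hta, inv_smul_smul]
  have h2 : n * (g⁻¹ * t) * n⁻¹ ∈ K := (Subgroup.mem_normalizer_iff.mp hn _).mp h1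
  rw [mem_stabilizer_iff] at h2
  have : (g * n⁻¹ * (n * (g⁻¹ * t) * n⁻¹)) • a = (g * n⁻¹) • a := by
    rw [mul_smul _ (n * (g⁻¹ * t) * n⁻¹), h2]
  rw [← this]
  congr 1
  group

theorem cfun_cfun [MulAction.IsPretransitive G α] {n m : G} (hn : n ∈ NK) (hm : m ∈ NK) (x : α) :
    cfun G a n (cfun G a m x) = cfun G a (n * m) x := by
  obtain ⟨g, rfl⟩ := MulAction.exists_smul_eq G a x
  rw [cfun_smul G a hm, cfun_smul G a hn, cfun_smul G a ((NK).mul_mem hn hm), mul_inv_rev,
    mul_assoc]

theorem cfun_one [MulAction.IsPretransitive G α] (x : α) : cfun G a 1 x = x := by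
  obtain ⟨g, rfl⟩ := MulAction.exists_smul_eq G a x
  rw [cfun_smul G a (NK).one_mem]
  simp

/-- The centralising permutation attached to `n ∈ N_G(G_a)`. -/
noncomputable def cperm [MulAction.IsPretransitive G α] (n : NK) : Equiv.Perm α where
  toFun := cfun G a n.1
  invFun := cfun G a (n⁻¹ : NK).1
  left_inv x := by
    rw [cfun_cfun G a (n⁻¹ : NK).2 n.2]
    have : ((n⁻¹ : NK) : G) * (n : G) = 1 := by simp
    rw [this, cfun_one]
  right_inv x := by
    rw [cfun_cfun G a n.2 (n⁻¹ : NK).2]
    have : (n : G) * ((n⁻¹ : NK) : G) = 1 := by simp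
    rw [this, cfun_one]

theorem cperm_mem [MulAction.IsPretransitive G α] (n : NK) :
    cperm G a n ∈ Subgroup.centralizer (G : Set (Equiv.Perm α)) := by
  rw [Subgroup.mem_centralizer_iff]
  intro h hh
  ext x
  obtain ⟨g, rfl⟩ := MulAction.exists_smul_eq G a x
  change h (cfun G a n.1 (g • a)) = cfun G a n.1 (h (g • a))
  have e1 : h (g • a) = ((⟨h, hh⟩ : G) * g) • a := by rw [mul_smul]; rfl
  rw [e1, cfun_smul G a n.2, cfun_smul G a n.2, mul_assoc, mul_smul]
  rfl

/-- The homomorphism `N_G(G_a) → C(G)`. -/
noncomputable def ψ [MulAction.IsPretransitive G α] :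
    NK →* Subgroup.centralizer (G : Set (Equiv.Perm α)) :=
  MonoidHom.mk' (fun n => ⟨cperm G a n, cperm_mem G a n⟩) (by
    intro n m
    apply Subtype.ext
    ext x
    change cfun G a (n * m : NK).1 x = cfun G a n.1 (cfun G a m.1 x)
    rw [cfun_cfun G a n.2 m.2]
    rfl)

theorem ψ_apply [MulAction.IsPretransitive G α] (n : NK) (g : G) :
    ((ψ G a n : Subgroup.centralizer (G : Set (Equiv.Perm α))) : Equiv.Perm α) (g • a)
      = (g * (n : G)⁻¹) • a :=
  cfun_smul G a n.2 g

/-- A fixed point of `G_a` is of the form `n⁻¹ • a` with `n` normalising `G_a`. -/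
theorem exists_normalizer_of_fixed [Finite α] [MulAction.IsPretransitive G α] {b : α}
    (hb : b ∈ fixedPoints K α) : ∃ n : NK, ((n : G)⁻¹) • a = b := by
  obtain ⟨g, hg⟩ := MulAction.exists_smul_eq G a b
  have hfin : Finite G := inferInstance
  -- K ≤ g K g⁻¹ (the stabilizer of b)
  have hle : K ≤ (K).map (MulAut.conj g).toMonoidHom := by
    intro k hk
    rw [← MulAction.stabilizer_smul_eq_stabilizer_map_conj, hg]
    exact hb ⟨k, hk⟩
  have hcard : Nat.card ((K).map (MulAut.conj g).toMonoidHom) = Nat.card K :=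
    Subgroup.card_map_of_injective (MulAut.conj g).injective
  have heq : K = (K).map (MulAut.conj g).toMonoidHom :=
    Subgroup.eq_of_le_of_card_ge hle hcard.le
  have hgN : g ∈ NK := by
    rw [Subgroup.mem_normalizer_iff]
    intro h
    constructor
    · intro hh
      have : g * h * g⁻¹ ∈ (K).map (MulAut.conj g).toMonoidHom := ⟨h, hh, rfl⟩
      rwa [← heq] at this
    · intro hh
      rw [heq] at hh
      obtain ⟨k, hk, hkk⟩ := hh
      have : k = h := by
        have h3 : g * k * g⁻¹ = g * h * g⁻¹ := hkk
        have := congrArg (fun x => g⁻¹ * x * g) h3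
        simpa [mul_assoc] using this
      rw [← this]; exact hk
  refine ⟨⟨g⁻¹, (NK).inv_mem hgN⟩, ?_⟩
  simpa using hg

theorem result {α : Type*} [Finite α] (G : Subgroup (Equiv.Perm α)) [MulAction.IsPretransitive G α] (a : α) : Nonempty (Subgroup.centralizer (G : Set (Equiv.Perm α)) ≃* Subgroup.normalizer ((MulAction.stabilizer G a : Subgroup G) : Set G) ⧸ (MulAction.stabilizer G a).subgroupOf (Subgroup.normalizer ((MulAction.stabilizer G a : Subgroup G) : Set G))) ∧ MulAction.orbit (Subgroup.centralizer (G : Set (Equiv.Perm α))) a = MulAction.fixedPoints (MulAction.stabilizer G a) α := by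
  have htr : ∀ x y : α, ∃ h ∈ G, h x = y := (Cfsg.Agent.Lib.Helper12_Perm.isPretransitive_iff G).mp inferInstance
  -- fixed points of the stabilizer contain the orbit of the centralizer
  have horb1 : ∀ c ∈ Subgroup.centralizer (G : Set (Equiv.Perm α)),
      c a ∈ fixedPoints (MulAction.stabilizer G a) α := by
    intro c hc k
    have hk : (k : G) • a = a := k.2
    have hcomm := Subgroup.mem_centralizer_iff.mp hc (k : G).1 (k : G).2
    have := congrArg (fun σ : Equiv.Perm α => σ a) hcomm
    simp only [Equiv.Perm.coe_mul, Function.comp_apply] at this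
    change ((k : G) : Equiv.Perm α) (c a) = c a
    rw [this]
    congr 1
  -- surjectivity of ψ
  have hsurj : Function.Surjective (ψ G a) := by
    intro c
    obtain ⟨n, hn⟩ := exists_normalizer_of_fixed G a (horb1 c.1 c.2)
    refine ⟨n, ?_⟩
    apply Subtype.ext
    have h1 : ((ψ G a n : Subgroup.centralizer (G : Set (Equiv.Perm α))) : Equiv.Perm α) a
        = (c : Equiv.Perm α) a := by
      have := ψ_apply G a n 1
      rw [one_smul, one_mul] at this
      rw [this, hn]
    -- two centralizing permutations agreeing at a point are equal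
    have h2 : ((ψ G a n)⁻¹ * c : Subgroup.centralizer (G : Set (Equiv.Perm α))).1 = 1 := by
      apply centralizer_semiregular G htr _ ((ψ G a n)⁻¹ * c).2 a
      change ((ψ G a n : Subgroup.centralizer (G : Set (Equiv.Perm α))) : Equiv.Perm α)⁻¹
        ((c : Equiv.Perm α) a) = a
      rw [← h1]
      simp
    have h3 : (ψ G a n)⁻¹ * c = 1 := Subtype.ext h2
    have := congrArg (fun x => ψ G a n * x) h3
    simpa using this.symm
  have hker : (ψ G a).ker = (MulAction.stabilizer G a).subgroupOf
      (Subgroup.normalizer ((MulAction.stabilizer G a : Subgroup G) : Set G)) := by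
    ext n
    rw [MonoidHom.mem_ker, Subgroup.mem_subgroupOf, mem_stabilizer_iff]
    constructor
    · intro h
      have := ψ_apply G a n 1
      rw [h, one_smul, one_mul] at this
      have h2 : (n : G)⁻¹ • a = a := this.symm
      rw [inv_smul_eq_iff] at h2
      exact h2.symm
    · intro h
      apply Subtype.ext
      apply centralizer_semiregular G htr _ (ψ G a n).2 a
      have := ψ_apply G a n 1
      rw [one_smul, one_mul] at this
      rw [this, inv_smul_eq_iff, h]
  constructor
  · refine ⟨((QuotientGroup.quotientMulEquivOfEq hker.symm).trans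
      (QuotientGroup.quotientKerEquivOfSurjective (ψ G a) hsurj)).symm⟩
  · ext b
    constructor
    · rintro ⟨c, rfl⟩
      exact horb1 c.1 c.2
    · intro hb
      obtain ⟨n, hn⟩ := exists_normalizer_of_fixed G a hb
      refine ⟨ψ G a n, ?_⟩
      have := ψ_apply G a n 1
      rw [one_smul, one_mul] at this
      change ((ψ G a n : Subgroup.centralizer (G : Set (Equiv.Perm α))) : Equiv.Perm α) a = b
      rw [this, hn]

end Cfsg.Agent.S0702
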