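import Cfsg.Statements.S0703
import Cfsg.Agent.Lib.Helper12_Perm
import Mathlib.GroupTheory.Perm.Cycle.Type

set_option autoImplicit false
open Cfsg

namespace Cfsg.Agent.S0703

open Cfsg.Agent.Lib.Helper12_Perm

/-- The `p`-torsion of a commutative normal subgroup, as a subgroup of the ambient group. -/
def torsionSub {G : Type*} [Group G] (M : Subgroup G) (hab : IsMulCommutative M) (p : ℕ) :
    Subgroup G where
  carrier := {g | g ∈ M ∧ g ^ p = 1}
  one_mem' := ⟨M.one_mem, one_pow p⟩
  mul_mem' := by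
    rintro a b ⟨ha, hap⟩ ⟨hb, hbp⟩
    refine ⟨M.mul_mem ha hb, ?_⟩
    have hc : Commute a b := by
      have := hab.is_comm.comm (⟨a, ha⟩ : M) ⟨b, hb⟩
      exact congrArg Subtype.val this
    rw [hc.mul_pow, hap, hbp, one_mul]
  inv_mem' := by
    rintro a ⟨ha, hap⟩
    exact ⟨M.inv_mem ha, by rw [inv_pow, hap, inv_one]⟩

theorem torsionSub_normal {G : Type*} [Group G] (M : Subgroup G) [hn : M.Normal]
    (hab : IsMulCommutative M) (p : ℕ) : (torsionSub M hab p).Normal := by
  constructor
  rintro a ⟨ha, hap⟩ g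
  refine ⟨hn.conj_mem a ha g, ?_⟩
  rw [conj_pow, hap, mul_one, mul_inv_cancel]

theorem result {α : Type*} [Finite α] (G : Subgroup (Equiv.Perm α)) (M : Subgroup G) [M.Normal] (hM : M ≠ ⊥) (hmin : ∀ L : Subgroup G, L.Normal → L ≤ M → L = ⊥ ∨ L = M) (hab : IsMulCommutative M) (htrans : MulAction.IsPretransitive M α) : Subgroup.centralizer ((M.map G.subtype : Subgroup (Equiv.Perm α)) : Set (Equiv.Perm α)) = M.map G.subtype ∧ (∀ a : α, MulAction.stabilizer M a = ⊥) ∧ (∃ p : ℕ, p.Prime ∧ ∀ m ∈ M, m ^ p = 1) ∧ ∀ L : Subgroup G, L.Normal → L ≠ ⊥ → (∀ L' : Subgroup G, L'.Normal → L' ≤ L → L' = ⊥ ∨ L' = L) → L = M := by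
  classical
  -- α is nonempty since M is nontrivial
  have hne : Nonempty α := by
    by_contra hemp
    rw [not_nonempty_iff] at hemp
    apply hM
    rw [Subgroup.eq_bot_iff_forall]
    intro x _
    apply Subtype.ext
    exact Subsingleton.elim _ _
  set M' : Subgroup (Equiv.Perm α) := M.map G.subtype with hM'
  have hmemM' : ∀ σ : Equiv.Perm α, σ ∈ M' ↔ ∃ (h : σ ∈ G), (⟨σ, h⟩ : G) ∈ M := by
    intro σ
    constructor
    · rintro ⟨g, hg, rfl⟩
      exact ⟨g.2, hg⟩
    · rintro ⟨h, hm⟩
      exact ⟨⟨σ, h⟩, hm, rfl⟩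
  -- transitivity of M'
  have htr : ∀ a b : α, ∃ h ∈ M', h a = b := by
    intro a b
    obtain ⟨m, hm⟩ := htrans.exists_smul_eq a b
    exact ⟨((m : G) : Equiv.Perm α), (hmemM' _).mpr ⟨(m : G).2, m.2⟩, hm⟩
  -- M' is commutative, so contained in its centralizer
  have hle : M' ≤ Subgroup.centralizer (M' : Set (Equiv.Perm α)) := by
    intro σ hσ
    rw [Subgroup.mem_centralizer_iff]
    intro τ hτ
    obtain ⟨hσG, hσM⟩ := (hmemM' σ).mp hσ
    obtain ⟨hτG, hτM⟩ := (hmemM' τ).mp hτ
    have := hab.is_comm.comm (⟨⟨τ, hτG⟩, hτM⟩ : M) ⟨⟨σ, hσG⟩, hσM⟩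
    have := congrArg (fun x : M => ((x : G) : Equiv.Perm α)) this
    exact this
  have hsr : ∀ c ∈ Subgroup.centralizer (M' : Set (Equiv.Perm α)), ∀ a : α, c a = a → c = 1 :=
    fun c hc a hca => centralizer_semiregular M' htr c hc a hca
  have hcent : Subgroup.centralizer (M' : Set (Equiv.Perm α)) = M' :=
    (eq_of_le_of_transitive_of_semiregular M' _ hle htr hsr).symm
  refine ⟨hcent, ?_, ?_, ?_⟩
  · -- regular
    intro a
    rw [Subgroup.eq_bot_iff_forall]
    intro m hm
    have h1 : ((m : G) : Equiv.Perm α) = 1 :=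
      hsr _ (hle ((hmemM' _).mpr ⟨(m : G).2, m.2⟩)) a hm
    apply Subtype.ext
    apply Subtype.ext
    exact h1
  · -- elementary abelian
    have hfin : Finite M := inferInstance
    have hcard : Nat.card M ≠ 1 := by
      intro h1
      apply hM
      exact Subgroup.card_eq_one.mp h1
    obtain ⟨p, hp, hpd⟩ := Nat.exists_prime_and_dvd hcard
    have : Fact p.Prime := ⟨hp⟩
    refine ⟨p, hp, ?_⟩
    obtain ⟨x, hx⟩ := exists_prime_orderOf_dvd_card' p hpd
    have hT : torsionSub M hab p = ⊥ ∨ torsionSub M hab p = M :=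
      hmin _ (torsionSub_normal M hab p) (fun g hg => hg.1)
    rcases hT with hT | hT
    · exfalso
      have hxm : (x : G) ∈ torsionSub M hab p := by
        refine ⟨x.2, ?_⟩
        have := pow_orderOf_eq_one x
        rw [hx] at this
        exact_mod_cast congrArg Subtype.val this
      rw [hT, Subgroup.mem_bot] at hxm
      have hx1 : x = 1 := Subtype.ext hxm
      rw [hx1, orderOf_one] at hx
      exact hp.one_lt.ne hx
    · intro m hm
      have : m ∈ torsionSub M hab p := by rw [hT]; exact hm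
      exact this.2
  · -- uniqueness
    intro L hLn hLne hLmin
    have hinf : (L ⊓ M).Normal := inferInstance
    rcases hmin (L ⊓ M) hinf inf_le_right with h | h
    · exfalso
      have hdisj : Disjoint L M := disjoint_iff.mpr h
      have hcomm : ∀ l ∈ L, ∀ m ∈ M, Commute l m := fun l hl m hm =>
        Subgroup.commute_of_normal_of_disjoint L M hLn inferInstance hdisj l m hl hm
      have hLM : L ≤ M := by
        intro l hl
        have hlc : ((l : G) : Equiv.Perm α) ∈ Subgroup.centralizer (M' : Set (Equiv.Perm α)) := by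
          rw [Subgroup.mem_centralizer_iff]
          intro τ hτ
          obtain ⟨hτG, hτM⟩ := (hmemM' τ).mp hτ
          have := (hcomm l hl ⟨τ, hτG⟩ hτM).eq
          exact (congrArg Subtype.val this).symm
        rw [hcent, hmemM'] at hlc
        obtain ⟨_, h2⟩ := hlc
        exact h2
      apply hLne
      rw [← inf_eq_left.mpr hLM, h]
    · have hML : M ≤ L := by rw [← h]; exact inf_le_left
      rcases hLmin M inferInstance hML with h' | h'
      · exact absurd h' hM
      · exact h'.symm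

end Cfsg.Agent.S0703
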