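import Cfsg.Statements.S0704
import Cfsg.Agent.Lib.Helper12_Perm

set_option autoImplicit false
open Cfsg

namespace Cfsg.Agent.S0704

open Cfsg.Agent.Lib.Helper12_Perm

theorem mem_map_subtype_iff {α : Type*} (G : Subgroup (Equiv.Perm α)) (M : Subgroup G)
    (σ : Equiv.Perm α) :
    σ ∈ M.map G.subtype ↔ ∃ (h : σ ∈ G), (⟨σ, h⟩ : G) ∈ M := by
  constructor
  · rintro ⟨g, hg, rfl⟩
    exact ⟨g.2, hg⟩
  · rintro ⟨h, hm⟩
    exact ⟨⟨σ, h⟩, hm, rfl⟩

theorem transitive_map {α : Type*} (G : Subgroup (Equiv.Perm α)) (M : Subgroup G)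
    (hMt : MulAction.IsPretransitive M α) : ∀ a b : α, ∃ h ∈ M.map G.subtype, h a = b := by
  intro a b
  obtain ⟨m, hm⟩ := hMt.exists_smul_eq a b
  exact ⟨((m : G) : Equiv.Perm α), (mem_map_subtype_iff G M _).mpr ⟨(m : G).2, m.2⟩, hm⟩

/-- The core: two normal subgroups with trivial intersection, both transitive. -/
theorem core {α : Type*} [Nonempty α] (G : Subgroup (Equiv.Perm α)) (M N : Subgroup G)
    [hMn : M.Normal] [hNn : N.Normal] (hdisj : M ⊓ N = ⊥)
    (hMt : MulAction.IsPretransitive M α) (hNt : MulAction.IsPretransitive N α) :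
    Subgroup.centralizer ((M.map G.subtype : Subgroup (Equiv.Perm α)) : Set (Equiv.Perm α)) =
      N.map G.subtype ∧ (∀ a : α, MulAction.stabilizer N a = ⊥) := by
  have hcomm : ∀ m ∈ M, ∀ n ∈ N, Commute m n := fun m hm n hn =>
    Subgroup.commute_of_normal_of_disjoint M N hMn hNn (disjoint_iff.mpr hdisj) m n hm hn
  have htrM := transitive_map G M hMt
  have htrN := transitive_map G N hNt
  have hle : N.map G.subtype ≤
      Subgroup.centralizer ((M.map G.subtype : Subgroup (Equiv.Perm α)) : Set (Equiv.Perm α)) := by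
    intro σ hσ
    rw [Subgroup.mem_centralizer_iff]
    intro τ hτ
    obtain ⟨hσG, hσN⟩ := (mem_map_subtype_iff G N σ).mp hσ
    obtain ⟨hτG, hτM⟩ := (mem_map_subtype_iff G M τ).mp hτ
    have := (hcomm ⟨τ, hτG⟩ hτM ⟨σ, hσG⟩ hσN).eq
    exact congrArg Subtype.val this
  have hsr : ∀ c ∈ Subgroup.centralizer
      ((M.map G.subtype : Subgroup (Equiv.Perm α)) : Set (Equiv.Perm α)),
      ∀ a : α, c a = a → c = 1 :=
    fun c hc a hca => centralizer_semiregular _ htrM c hc a hca
  refine ⟨(eq_of_le_of_transitive_of_semiregular _ _ hle htrN hsr).symm, ?_⟩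
  intro a
  rw [Subgroup.eq_bot_iff_forall]
  intro n hn
  have h1 : ((n : G) : Equiv.Perm α) = 1 :=
    hsr _ (hle ((mem_map_subtype_iff G N _).mpr ⟨(n : G).2, n.2⟩)) a hn
  apply Subtype.ext
  apply Subtype.ext
  exact h1

/-- The isomorphism between two commuting regular subgroups. -/
theorem iso_of_commuting_regular {α : Type*} (a : α) (G : Subgroup (Equiv.Perm α))
    (M N : Subgroup G)
    (hcomm : ∀ m ∈ M, ∀ n ∈ N, Commute m n)
    (hMt : MulAction.IsPretransitive M α) (hNt : MulAction.IsPretransitive N α)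
    (hMr : ∀ a : α, MulAction.stabilizer M a = ⊥) (hNr : ∀ a : α, MulAction.stabilizer N a = ⊥) :
    Nonempty (M ≃* N) := by
  classical
  -- uniqueness in N
  have huniqN : ∀ n₁ n₂ : N, n₁ • a = n₂ • a → n₁ = n₂ := by
    intro n₁ n₂ h
    have : n₂⁻¹ * n₁ ∈ MulAction.stabilizer N a := by
      rw [MulAction.mem_stabilizer_iff, mul_smul, h, inv_smul_smul]
    rw [hNr a, Subgroup.mem_bot] at this
    have := congrArg (fun x => n₂ * x) this
    simpa using this
  have huniqM : ∀ m₁ m₂ : M, m₁ • a = m₂ • a → m₁ = m₂ := by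
    intro m₁ m₂ h
    have : m₂⁻¹ * m₁ ∈ MulAction.stabilizer M a := by
      rw [MulAction.mem_stabilizer_iff, mul_smul, h, inv_smul_smul]
    rw [hMr a, Subgroup.mem_bot] at this
    have := congrArg (fun x => m₂ * x) this
    simpa using this
  have hex : ∀ m : M, ∃ n : N, n • a = m⁻¹ • a := fun m => hNt.exists_smul_eq a (m⁻¹ • a)
  choose ψ hψ using hex
  have hcomm' : ∀ (m : M) (n : N) (x : α), m • n • x = n • m • x := by
    intro m n x
    have := (hcomm m m.2 n n.2).eq
    have h2 := congrArg (fun g : G => g • x) this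
    simp only [mul_smul] at h2
    exact h2
  have hmul : ∀ m₁ m₂ : M, ψ (m₁ * m₂) = ψ m₁ * ψ m₂ := by
    intro m₁ m₂
    apply huniqN
    rw [hψ, mul_inv_rev, mul_smul, mul_smul, hψ m₂, ← hcomm', hψ m₁]
  let f : M →* N := MonoidHom.mk' ψ hmul
  refine ⟨MulEquiv.ofBijective f ⟨?_, ?_⟩⟩
  · rw [injective_iff_map_eq_one]
    intro m hm
    have h1 : ψ m = 1 := hm
    have h2 := hψ m
    rw [h1, one_smul] at h2
    have : m⁻¹ = 1 := huniqM _ _ (by rw [← h2, one_smul])
    simpa using this
  · intro n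
    obtain ⟨m, hm⟩ := hMt.exists_smul_eq a (n • a)
    refine ⟨m⁻¹, ?_⟩
    apply huniqN
    change ψ m⁻¹ • a = n • a
    rw [hψ, inv_inv, hm]

theorem result {α : Type*} (G : Subgroup (Equiv.Perm α)) (M N : Subgroup G) [M.Normal] [N.Normal] (hM : M ≠ ⊥) (hN : N ≠ ⊥) (hMmin : ∀ L : Subgroup G, L.Normal → L ≤ M → L = ⊥ ∨ L = M) (hNmin : ∀ L : Subgroup G, L.Normal → L ≤ N → L = ⊥ ∨ L = N) (hMN : M ≠ N) (hMt : MulAction.IsPretransitive M α) (hNt : MulAction.IsPretransitive N α) : (∀ a : α, MulAction.stabilizer M a = ⊥) ∧ (∀ a : α, MulAction.stabilizer N a = ⊥) ∧ ¬ IsMulCommutative M ∧ Nonempty (M ≃* N) ∧ Subgroup.centralizer ((M.map G.subtype : Subgroup (Equiv.Perm α)) : Set (Equiv.Perm α)) = N.map G.subtype ∧ Subgroup.centralizer ((N.map G.subtype : Subgroup (Equiv.Perm α)) : Set (Equiv.Perm α)) = M.map G.subtype ∧ ∀ L : Subgroup G, L.Normal → L ≠ ⊥ → (∀ L' : Subgroup G, L'.Normal → L' ≤ L → L' = ⊥ ∨ L' = L) → L = M ∨ L = N := by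
  classical
  have hne : Nonempty α := by
    by_contra hemp
    rw [not_nonempty_iff] at hemp
    apply hM
    rw [Subgroup.eq_bot_iff_forall]
    intro x _
    apply Subtype.ext
    exact Subsingleton.elim _ _
  obtain ⟨a⟩ := hne
  have hdisj : M ⊓ N = ⊥ := by
    rcases hMmin (M ⊓ N) inferInstance inf_le_left with h | h
    · exact h
    · exfalso
      have hMleN : M ≤ N := by rw [← h]; exact inf_le_right
      rcases hNmin M inferInstance hMleN with h' | h'
      · exact hM h'
      · exact hMN h'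
  have hdisj' : N ⊓ M = ⊥ := by rw [inf_comm]; exact hdisj
  have hcomm : ∀ m ∈ M, ∀ n ∈ N, Commute m n := fun m hm n hn =>
    Subgroup.commute_of_normal_of_disjoint M N inferInstance inferInstance
      (disjoint_iff.mpr hdisj) m n hm hn
  have : Nonempty α := ⟨a⟩
  obtain ⟨hCM, hNr⟩ := core G M N hdisj hMt hNt
  obtain ⟨hCN, hMr⟩ := core G N M hdisj' hNt hMt
  refine ⟨hMr, hNr, ?_, iso_of_commuting_regular a G M N hcomm hMt hNt hMr hNr, hCM, hCN, ?_⟩
  · -- non-abelian
    intro hab
    apply hM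
    have hMleN : M ≤ N := by
      intro m hm
      have hmc : ((m : G) : Equiv.Perm α) ∈ Subgroup.centralizer
          ((M.map G.subtype : Subgroup (Equiv.Perm α)) : Set (Equiv.Perm α)) := by
        rw [Subgroup.mem_centralizer_iff]
        intro τ hτ
        obtain ⟨hτG, hτM⟩ := (mem_map_subtype_iff G M τ).mp hτ
        have := hab.is_comm.comm (⟨⟨τ, hτG⟩, hτM⟩ : M) ⟨m, hm⟩
        exact congrArg (fun x : M => ((x : G) : Equiv.Perm α)) this
      rw [hCM, mem_map_subtype_iff] at hmc
      obtain ⟨_, h2⟩ := hmc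
      exact h2
    rw [← inf_eq_left.mpr hMleN, hdisj]
  · -- the only minimal normal subgroups
    intro L hLn hLne hLmin
    rcases hMmin (L ⊓ M) inferInstance inf_le_right with h | h
    · right
      have hcommL : ∀ l ∈ L, ∀ m ∈ M, Commute l m := fun l hl m hm =>
        Subgroup.commute_of_normal_of_disjoint L M hLn inferInstance (disjoint_iff.mpr h) l m hl hm
      have hLN : L ≤ N := by
        intro l hl
        have hlc : ((l : G) : Equiv.Perm α) ∈ Subgroup.centralizer
            ((M.map G.subtype : Subgroup (Equiv.Perm α)) : Set (Equiv.Perm α)) := by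
          rw [Subgroup.mem_centralizer_iff]
          intro τ hτ
          obtain ⟨hτG, hτM⟩ := (mem_map_subtype_iff G M τ).mp hτ
          have := (hcommL l hl ⟨τ, hτG⟩ hτM).eq
          exact (congrArg Subtype.val this).symm
        rw [hCM, mem_map_subtype_iff] at hlc
        obtain ⟨_, h2⟩ := hlc
        exact h2
      rcases hNmin L hLn hLN with h' | h'
      · exact absurd h' hLne
      · exact h'
    · left
      have hML : M ≤ L := by rw [← h]; exact inf_le_left
      rcases hLmin M inferInstance hML with h' | h'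
      · exact absurd h' hM
      · exact h'.symm

end Cfsg.Agent.S0704
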