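import Cfsg.Statements.S0707
import Mathlib.GroupTheory.OrderOfElement
import Mathlib.GroupTheory.SpecificGroups.Cyclic
import Mathlib.Tactic.Group

set_option autoImplicit false
open Cfsg

namespace Cfsg.Agent.S0707

/-- A group whose only subgroups are `⊥` and `⊤` (and these differ) has prime order. -/
theorem card_prime_of_bot_isCoatom {G : Type*} [Group G] (h : IsCoatom (⊥ : Subgroup G)) :
    (Nat.card G).Prime := by
  have htop : ∀ K : Subgroup G, K ≠ ⊥ → K = ⊤ := fun K hK => h.2 K (bot_lt_iff_ne_bot.mpr hK)
  have hne : (⊥ : Subgroup G) ≠ ⊤ := h.1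
  obtain ⟨g, hg⟩ : ∃ g : G, g ≠ 1 := by
    by_contra hall
    push Not at hall
    apply hne
    ext x
    simp [hall x]
  have hz : Subgroup.zpowers g = ⊤ := htop _ (by simpa using hg)
  have hfin : IsOfFinOrder g := by
    by_cases hg2 : g ^ 2 = 1
    · exact isOfFinOrder_iff_pow_eq_one.mpr ⟨2, by norm_num, hg2⟩
    · have hz2 : Subgroup.zpowers (g ^ 2) = ⊤ := htop _ (by simpa using hg2)
      have : g ∈ Subgroup.zpowers (g ^ 2) := by rw [hz2]; trivial
      obtain ⟨k, hk⟩ := Subgroup.mem_zpowers_iff.mp this
      rw [isOfFinOrder_iff_zpow_eq_one]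
      refine ⟨2 * k - 1, by omega, ?_⟩
      rw [zpow_sub, zpow_one, zpow_mul, zpow_ofNat, hk, mul_inv_cancel]
  have hcard : Nat.card G = orderOf g := by
    rw [← Nat.card_zpowers, hz, Subgroup.card_top]
  rw [hcard]
  have hpos : 0 < orderOf g := hfin.orderOf_pos
  rw [Nat.prime_def]
  refine ⟨?_, ?_⟩
  · have : orderOf g ≠ 1 := by rwa [Ne, orderOf_eq_one_iff]
    omega
  · intro d hd
    by_cases hgd : g ^ d = 1
    · right
      exact Nat.dvd_antisymm hd (orderOf_dvd_of_pow_eq_one hgd)
    · left
      have hzd : Subgroup.zpowers (g ^ d) = ⊤ := htop _ (by simpa using hgd)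
      have h1 : orderOf (g ^ d) = orderOf g := by
        rw [← Nat.card_zpowers, hzd, Subgroup.card_top, hcard]
      have hd0 : d ≠ 0 := by
        rintro rfl
        simp at hgd
      rw [orderOf_pow_of_dvd hd0 hd] at h1
      have := Nat.div_mul_cancel hd
      rw [h1] at this
      have h2 : orderOf g * d = orderOf g * 1 := by rw [this, mul_one]
      exact Nat.eq_of_mul_eq_mul_left hpos h2

theorem result {α : Type*} (G : Subgroup (Equiv.Perm α)) [MulAction.IsPreprimitive G α] (h : ¬ (Nat.card α).Prime ∨ ∃ a : α, MulAction.stabilizer G a ≠ ⊥) {a b : α} (hab : a ≠ b) : MulAction.stabilizer G a ≠ MulAction.stabilizer G b := by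
  intro heq
  have hnt : Nontrivial α := ⟨⟨a, b, hab⟩⟩
  have hco : IsCoatom (MulAction.stabilizer G a) :=
    MulAction.IsPreprimitive.isCoatom_stabilizer_of_isPreprimitive G a
  obtain ⟨g, hg⟩ := MulAction.exists_smul_eq G a b
  -- g normalizes the stabilizer of a
  have hconj' : ∀ k : G, k ∈ MulAction.stabilizer G a ↔ g * k * g⁻¹ ∈ MulAction.stabilizer G b := by
    intro k
    rw [MulAction.mem_stabilizer_iff, MulAction.mem_stabilizer_iff, ← hg, mul_smul, mul_smul,
      inv_smul_smul]
    constructor
    · intro hk; rw [hk]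
    · intro hk; exact smul_left_cancel g hk
  have hconj : ∀ k : G, k ∈ MulAction.stabilizer G a ↔ g * k * g⁻¹ ∈ MulAction.stabilizer G a := by
    intro k
    rw [hconj' k, ← heq]
  have hgN : g ∈ Subgroup.normalizer ((MulAction.stabilizer G a : Subgroup G) : Set G) :=
    Subgroup.mem_normalizer_iff.mpr hconj
  have hgK : g ∉ MulAction.stabilizer G a := by
    intro hgK
    rw [MulAction.mem_stabilizer_iff] at hgK
    exact hab (hgK.symm.trans hg)
  have hNtop : Subgroup.normalizer ((MulAction.stabilizer G a : Subgroup G) : Set G) = ⊤ := by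
    apply hco.2
    apply lt_of_le_of_ne Subgroup.le_normalizer
    intro h'
    apply hgK
    rw [h']; exact hgN
  have hnormal : (MulAction.stabilizer G a).Normal := Subgroup.normalizer_eq_top_iff.mp hNtop
  -- a normal point stabilizer of a faithful transitive action is trivial
  have hbot : ∀ c : α, MulAction.stabilizer G c = ⊥ := by
    have h1 : MulAction.stabilizer G a = ⊥ := by
      rw [Subgroup.eq_bot_iff_forall]
      intro k hk
      apply Subtype.ext
      ext x
      obtain ⟨t, rfl⟩ := MulAction.exists_smul_eq G a x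
      have h2 : t⁻¹ * k * t⁻¹⁻¹ ∈ MulAction.stabilizer G a := hnormal.conj_mem k hk t⁻¹
      rw [MulAction.mem_stabilizer_iff] at h2
      have h3 : (t * (t⁻¹ * k * t⁻¹⁻¹)) • a = t • a := by rw [mul_smul, h2]
      have e : t * (t⁻¹ * k * t⁻¹⁻¹) = k * t := by group
      rw [e, mul_smul] at h3
      exact h3
    intro c
    obtain ⟨t, rfl⟩ := MulAction.exists_smul_eq G a c
    rw [MulAction.stabilizer_smul_eq_stabilizer_map_conj, h1, Subgroup.map_bot]
  rcases h with h | ⟨c, hc⟩
  · apply h
    have hbotco : IsCoatom (⊥ : Subgroup G) := by rw [← hbot a]; exact hco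
    have hprime := card_prime_of_bot_isCoatom hbotco
    have hbij : Function.Bijective (fun t : G => t • a) := by
      constructor
      · intro s t hst
        have hst' : s • a = t • a := hst
        have : s⁻¹ * t ∈ MulAction.stabilizer G a := by
          rw [MulAction.mem_stabilizer_iff, mul_smul, ← hst', inv_smul_smul]
        rw [hbot a, Subgroup.mem_bot] at this
        have := congrArg (fun x => s * x) this
        simpa using this.symm
      · intro x
        exact MulAction.exists_smul_eq G a x
    rw [← Nat.card_congr (Equiv.ofBijective _ hbij)]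
    exact hprime
  · exact hc (hbot c)

end Cfsg.Agent.S0707
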