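import Cfsg.Statements.S0708
import Mathlib.Tactic

set_option autoImplicit false
open Cfsg

namespace Cfsg.Agent.S0708

open MulAction

variable {G : Type*} [Group G] {Ω : Type*} [MulAction G Ω]

/-- the embedding of four distinct points -/
def emb4 (a b c d : Ω) (hab : a ≠ b) (hac : a ≠ c) (had : a ≠ d) (hbc : b ≠ c) (hbd : b ≠ d)
    (hcd : c ≠ d) : Fin 4 ↪ Ω :=
  ⟨![a, b, c, d], by intro i j hij; fin_cases i <;> fin_cases j <;> simp_all⟩

theorem exists4 (h4 : IsMultiplyPretransitive G Ω 4) {a b c d a' b' c' d' : Ω}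
    (hab : a ≠ b) (hac : a ≠ c) (had : a ≠ d) (hbc : b ≠ c) (hbd : b ≠ d) (hcd : c ≠ d)
    (hab' : a' ≠ b') (hac' : a' ≠ c') (had' : a' ≠ d') (hbc' : b' ≠ c') (hbd' : b' ≠ d')
    (hcd' : c' ≠ d') : ∃ g : G, g • a = a' ∧ g • b = b' ∧ g • c = c' ∧ g • d = d' := by
  obtain ⟨g, hg⟩ := h4.exists_smul_eq (emb4 a b c d hab hac had hbc hbd hcd)
    (emb4 a' b' c' d' hab' hac' had' hbc' hbd' hcd')
  have h : ∀ i, g • (emb4 a b c d hab hac had hbc hbd hcd) i =
      (emb4 a' b' c' d' hab' hac' had' hbc' hbd' hcd') i := fun i => by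
    rw [← Function.Embedding.smul_apply, hg]
  exact ⟨g, h 0, h 1, h 2, h 3⟩

theorem eq_one_of_fix4 (hsharp : ∀ x : Fin 4 ↪ Ω, stabilizer G x = ⊥) {a b c d : Ω}
    (hab : a ≠ b) (hac : a ≠ c) (had : a ≠ d) (hbc : b ≠ c) (hbd : b ≠ d) (hcd : c ≠ d)
    {g : G} (ha : g • a = a) (hb : g • b = b) (hc : g • c = c) (hd : g • d = d) : g = 1 := by
  have : g ∈ stabilizer G (emb4 a b c d hab hac had hbc hbd hcd) := by
    rw [mem_stabilizer_iff]
    ext i
    rw [Function.Embedding.smul_apply]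
    fin_cases i
    · exact ha
    · exact hb
    · exact hc
    · exact hd
  rw [hsharp, Subgroup.mem_bot] at this
  exact this

theorem eq_of_agree4 (hsharp : ∀ x : Fin 4 ↪ Ω, stabilizer G x = ⊥) {a b c d : Ω}
    (hab : a ≠ b) (hac : a ≠ c) (had : a ≠ d) (hbc : b ≠ c) (hbd : b ≠ d) (hcd : c ≠ d)
    {g h : G} (ha : g • a = h • a) (hb : g • b = h • b) (hc : g • c = h • c)
    (hd : g • d = h • d) : g = h := by
  have : h⁻¹ * g = 1 := by
    refine eq_one_of_fix4 hsharp hab hac had hbc hbd hcd ?_ ?_ ?_ ?_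
    · rw [mul_smul, ha, inv_smul_smul]
    · rw [mul_smul, hb, inv_smul_smul]
    · rw [mul_smul, hc, inv_smul_smul]
    · rw [mul_smul, hd, inv_smul_smul]
  have h' := congrArg (fun z => h * z) this
  simpa using h'

/-- Tits' argument: a sharply 4-transitive group (no finiteness assumed) has finite degree at most 11, and at most 6 when the degree is even. -/
theorem result {G : Type*} [Group G] {Ω : Type*} [MulAction G Ω] (h4 : MulAction.IsMultiplyPretransitive G Ω 4) (hsharp : ∀ x : Fin 4 ↪ Ω, MulAction.stabilizer G x = ⊥) (hne : Nonempty (Fin 4 ↪ Ω)) : Finite Ω ∧ Nat.card Ω ≤ 11 ∧ (Even (Nat.card Ω) → Nat.card Ω ≤ 6) := by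
  classical
  obtain ⟨e⟩ := hne
  have hne' : ∀ i j : Fin 4, i ≠ j → e i ≠ e j := fun i j hij h => hij (e.injective h)
  generalize hp1 : e 0 = p1 at *
  generalize hp2 : e 1 = p2 at *
  generalize hp3 : e 2 = p3 at *
  generalize hp4 : e 3 = p4 at *
  have h12 : p1 ≠ p2 := by rw [← hp1, ← hp2]; exact hne' 0 1 (by decide)
  have h13 : p1 ≠ p3 := by rw [← hp1, ← hp3]; exact hne' 0 2 (by decide)
  have h14 : p1 ≠ p4 := by rw [← hp1, ← hp4]; exact hne' 0 3 (by decide)
  have h23 : p2 ≠ p3 := by rw [← hp2, ← hp3]; exact hne' 1 2 (by decide)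
  have h24 : p2 ≠ p4 := by rw [← hp2, ← hp4]; exact hne' 1 3 (by decide)
  have h34 : p3 ≠ p4 := by rw [← hp3, ← hp4]; exact hne' 2 3 (by decide)
  obtain ⟨t, ht1, ht2, ht3, ht4⟩ :=
    exists4 h4 h12 h13 h14 h23 h24 h34 h12 h14 h13 h24 h23 h34.symm
  have htt : t * t = 1 := eq_one_of_fix4 hsharp h12 h13 h14 h23 h24 h34
    (by rw [mul_smul, ht1, ht1]) (by rw [mul_smul, ht2, ht2]) (by rw [mul_smul, ht3, ht4])
    (by rw [mul_smul, ht4, ht3])
  have htx : ∀ x : Ω, t • t • x = x := fun x => by rw [← mul_smul, htt, one_smul]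
  -- the fixed point set
  obtain ⟨S, hS, hScard⟩ : ∃ S : Finset Ω, (∀ x, x ∈ S ↔ t • x = x) ∧
      (S.card = 2 ∨ S.card = 3) := by
    by_cases hr : ∃ r, r ≠ p1 ∧ r ≠ p2 ∧ t • r = r
    · obtain ⟨r, hr1, hr2, hrt⟩ := hr
      refine ⟨{p1, p2, r}, ?_, Or.inr ?_⟩
      · intro x
        simp only [Finset.mem_insert, Finset.mem_singleton]
        constructor
        · rintro (rfl | rfl | rfl) <;> assumption
        · intro hx
          by_contra hcon
          push Not at hcon
          obtain ⟨hx1, hx2, hxr⟩ := hcon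
          have : t = 1 := eq_one_of_fix4 hsharp h12 (Ne.symm hr1) (Ne.symm hx1) (Ne.symm hr2)
            (Ne.symm hx2) (Ne.symm hxr) ht1 ht2 hrt hx
          rw [this, one_smul] at ht3
          exact h34 ht3
      · rw [Finset.card_insert_of_notMem, Finset.card_insert_of_notMem, Finset.card_singleton]
        · simp [hr2.symm]
        · simp [h12, hr1.symm]
    · push Not at hr
      refine ⟨{p1, p2}, ?_, Or.inl ?_⟩
      · intro x
        simp only [Finset.mem_insert, Finset.mem_singleton]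
        constructor
        · rintro (rfl | rfl) <;> assumption
        · intro hx
          by_contra hcon
          push Not at hcon
          exact hr x hcon.1 hcon.2 hx
      · exact Finset.card_pair h12
  -- covering of `Ω`
  obtain ⟨Φ, hΦ⟩ : ∃ Φ : Ω × Ω → Ω, ∀ y, y ∈ S ∨ y = p3 ∨ y = p4 ∨
      ∃ ab ∈ S.offDiag, Φ ab = y := by
    by_cases hy₀ : ∃ y₀, t • y₀ ≠ y₀ ∧ y₀ ≠ p3 ∧ y₀ ≠ p4
    · obtain ⟨y₀, hy₀t, hy₀3, hy₀4⟩ := hy₀
      refine ⟨fun ab => if h : ∃ g : G, g • p1 = ab.1 ∧ g • p2 = ab.2 ∧ g • p3 = p3 ∧ g • p4 = p4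
        then (Classical.choose h) • y₀ else y₀, ?_⟩
      intro y
      by_cases hyt : t • y = y
      · left; exact (hS y).mpr hyt
      by_cases hy3 : y = p3
      · right; left; exact hy3
      by_cases hy4 : y = p4
      · right; right; left; exact hy4
      right; right; right
      have d1 : t • y₀ ≠ p3 := fun h => hy₀4 (by rw [← htx y₀, h, ht3])
      have d2 : t • y₀ ≠ p4 := fun h => hy₀3 (by rw [← htx y₀, h, ht4])
      have d3 : t • y ≠ p3 := fun h => hy4 (by rw [← htx y, h, ht3])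
      have d4 : t • y ≠ p4 := fun h => hy3 (by rw [← htx y, h, ht4])
      obtain ⟨g, hg3, hg4, hgy, hgty⟩ := exists4 h4 h34 (Ne.symm hy₀3) (Ne.symm d1) (Ne.symm hy₀4)
        (Ne.symm d2) (Ne.symm hy₀t) h34 (Ne.symm hy3) (Ne.symm d3) (Ne.symm hy4) (Ne.symm d4)
        (Ne.symm hyt)
      have hcomm : g * t = t * g := by
        refine eq_of_agree4 hsharp h34 (Ne.symm hy₀3) (Ne.symm d1) (Ne.symm hy₀4) (Ne.symm d2)
          (Ne.symm hy₀t) ?_ ?_ ?_ ?_
        · rw [mul_smul, mul_smul, ht3, hg4, hg3, ht3]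
        · rw [mul_smul, mul_smul, ht4, hg3, hg4, ht4]
        · rw [mul_smul, mul_smul, hgty, hgy]
        · rw [mul_smul, mul_smul, htx, hgy, hgty, htx]
      have ha : t • (g • p1) = g • p1 := by rw [← mul_smul, ← hcomm, mul_smul, ht1]
      have hb : t • (g • p2) = g • p2 := by rw [← mul_smul, ← hcomm, mul_smul, ht2]
      refine ⟨(g • p1, g • p2), ?_, ?_⟩
      · rw [Finset.mem_offDiag]
        exact ⟨(hS _).mpr ha, (hS _).mpr hb, fun h => h12 (MulAction.injective g h)⟩
      · have hP : ∃ g' : G, g' • p1 = (g • p1, g • p2).1 ∧ g' • p2 = (g • p1, g • p2).2 ∧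
            g' • p3 = p3 ∧ g' • p4 = p4 := ⟨g, rfl, rfl, hg3, hg4⟩
        beta_reduce
        rw [dif_pos hP]
        obtain ⟨c1, c2, c3, c4⟩ := Classical.choose_spec hP
        have : Classical.choose hP = g := eq_of_agree4 hsharp h12 h13 h14 h23 h24 h34 c1 c2
          (c3.trans hg3.symm) (c4.trans hg4.symm)
        rw [this, hgy]
    · push Not at hy₀
      refine ⟨fun _ => p3, fun y => ?_⟩
      by_cases hyt : t • y = y
      · left; exact (hS y).mpr hyt
      by_cases hy3 : y = p3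
      · right; left; exact hy3
      right; right; left
      exact hy₀ y hyt hy3
  have hcover : (Set.univ : Set Ω) ⊆ ((S : Set Ω) ∪ {p3, p4}) ∪ Φ '' (S.offDiag : Set (Ω × Ω)) := by
    intro y _
    rcases hΦ y with h | h | h | ⟨ab, hab, h⟩
    · left; left; exact h
    · left; right; left; exact h
    · left; right; right; exact h
    · right; exact ⟨ab, hab, h⟩
  have hfin : (((S : Set Ω) ∪ {p3, p4}) ∪ Φ '' (S.offDiag : Set (Ω × Ω))).Finite :=
    (S.finite_toSet.union (Set.toFinite _)).union (S.offDiag.finite_toSet.image _)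
  have hΩfin : Finite Ω := Set.finite_univ_iff.mp (hfin.subset hcover)
  have hcard : Nat.card Ω ≤ S.card + 2 + S.offDiag.card := by
    rw [← Set.ncard_univ]
    calc (Set.univ : Set Ω).ncard
        ≤ (((S : Set Ω) ∪ {p3, p4}) ∪ Φ '' (S.offDiag : Set (Ω × Ω))).ncard :=
          Set.ncard_le_ncard hcover hfin
      _ ≤ ((S : Set Ω) ∪ {p3, p4}).ncard + (Φ '' (S.offDiag : Set (Ω × Ω))).ncard :=
          Set.ncard_union_le _ _
      _ ≤ ((S : Set Ω).ncard + ({p3, p4} : Set Ω).ncard) + (S.offDiag : Set (Ω × Ω)).ncard :=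
          Nat.add_le_add (Set.ncard_union_le _ _) (Set.ncard_image_le S.offDiag.finite_toSet)
      _ = S.card + 2 + S.offDiag.card := by
          rw [Set.ncard_coe_finset, Set.ncard_coe_finset, Set.ncard_pair h34]
  rw [Finset.offDiag_card] at hcard
  refine ⟨hΩfin, ?_, ?_⟩
  · rcases hScard with h | h <;> rw [h] at hcard <;> omega
  · intro heven
    rcases hScard with h | h
    · rw [h] at hcard; omega
    · exfalso
      have := Fintype.ofFinite Ω
      have hσ : (MulAction.toPerm t : Equiv.Perm Ω) ^ 2 ^ 1 = 1 := by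
        ext x
        simp [pow_two, htx]
      have : Fact (Nat.Prime 2) := ⟨Nat.prime_two⟩
      have hmod := Equiv.Perm.card_compl_support_modEq hσ
      have hsupp : (Equiv.Perm.support (MulAction.toPerm t : Equiv.Perm Ω))ᶜ = S := by
        ext x
        simp [hS]
      rw [hsupp, h, ← Nat.card_eq_fintype_card] at hmod
      rw [Nat.even_iff] at heven
      unfold Nat.ModEq at hmod
      omega

end Cfsg.Agent.S0708
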