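import Cfsg.Statements.S0709
import Cfsg.Agent.S0698
import Mathlib.Tactic

set_option autoImplicit false
open Cfsg

namespace Cfsg.Agent.S0709

open Equiv Cfsg.Agent.S0698

variable {α : Type*} [Fintype α] [DecidableEq α]

omit [Fintype α] [DecidableEq α] in
theorem KT.one {G : Subgroup (Perm α)} {F : Finset α} {k : ℕ} (h : KT G F k) (hk : 1 ≤ k)
    {u v : α} (hu : u ∉ F) (hv : v ∉ F) : ∃ g ∈ G, g u = v := by
  obtain ⟨g, hg, hgx⟩ := h 1 hk ![u] ![v]
    (by intro i j _; exact Subsingleton.elim _ _) (by intro i j _; exact Subsingleton.elim _ _)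
    (by intro i; fin_cases i; simpa using hu) (by intro i; fin_cases i; simpa using hv)
  exact ⟨g, hg, hgx 0⟩

omit [Fintype α] [DecidableEq α] in
theorem KT.mono_group {G G' : Subgroup (Perm α)} {F : Finset α} {k : ℕ} (h : KT G F k)
    (hle : G ≤ G') : KT G' F k := by
  intro j hj x y hx hy hxF hyF
  obtain ⟨g, hg, hgx⟩ := h j hj x y hx hy hxF hyF
  exact ⟨g, hle hg, hgx⟩

/-- membership in `K ∪ KσK` -/
def InS (K : Subgroup (Perm α)) (σ : Perm α) (l : Perm α) : Prop :=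
  l ∈ K ∨ ∃ k ∈ K, ∃ k' ∈ K, l = k * σ * k'

omit [Fintype α] [DecidableEq α] in
theorem InS.mul_right {K : Subgroup (Perm α)} {σ l : Perm α} (h : InS K σ l) {k : Perm α}
    (hk : k ∈ K) : InS K σ (l * k) := by
  rcases h with h | ⟨k₁, hk₁, k₂, hk₂, rfl⟩
  · exact Or.inl (K.mul_mem h hk)
  · exact Or.inr ⟨k₁, hk₁, k₂ * k, K.mul_mem hk₂ hk, by group⟩

omit [Fintype α] [DecidableEq α] in
theorem InS.mul_left {K : Subgroup (Perm α)} {σ l : Perm α} (h : InS K σ l) {k : Perm α}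
    (hk : k ∈ K) : InS K σ (k * l) := by
  rcases h with h | ⟨k₁, hk₁, k₂, hk₂, rfl⟩
  · exact Or.inl (K.mul_mem hk h)
  · exact Or.inr ⟨k * k₁, K.mul_mem hk hk₁, k₂, hk₂, by group⟩

omit [Fintype α] [DecidableEq α] in
/-- `⟨K, σ⟩ = K ∪ KσK` under the hypotheses of Witt's lemma. -/
theorem step_mem (K : Subgroup (Perm α)) (b : α) (σ τ : Perm α)
    (htr2 : ∀ k ∈ K, k b ≠ b → ∃ g ∈ K, g b = b ∧ g (τ b) = k b)
    (hσ2 : σ ^ 2 ∈ K) (hτ : τ ∈ K) (hbr : (τ * σ) ^ 3 ∈ K)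
    (hnorm : ∀ g ∈ K, g b = b → σ * g * σ⁻¹ ∈ K) :
    ∀ l ∈ Subgroup.closure ((K : Set (Perm α)) ∪ {σ}), InS K σ l := by
  have hσ2i : (σ ^ 2)⁻¹ ∈ K := K.inv_mem hσ2
  have hnorm' : ∀ g ∈ K, g b = b → σ⁻¹ * g * σ ∈ K := by
    intro g hg hgb
    have h1 := hnorm g hg hgb
    have : σ⁻¹ * g * σ = (σ ^ 2)⁻¹ * (σ * g * σ⁻¹) * σ ^ 2 := by group
    rw [this]
    exact K.mul_mem (K.mul_mem hσ2i h1) hσ2
  have key : ∀ k ∈ K, InS K σ (σ * k * σ) := by
    intro k hk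
    by_cases hkb : k b = b
    · left
      have : σ * k * σ = (σ * k * σ⁻¹) * σ ^ 2 := by group
      rw [this]
      exact K.mul_mem (hnorm k hk hkb) hσ2
    · obtain ⟨g₁, hg₁, hg₁b, hg₁τ⟩ := htr2 k hk hkb
      set g₂ : Perm α := τ⁻¹ * g₁⁻¹ * k with hg₂
      have hg₂K : g₂ ∈ K := K.mul_mem (K.mul_mem (K.inv_mem hτ) (K.inv_mem hg₁)) hk
      have hg₂b : g₂ b = b := by
        rw [hg₂, Perm.mul_apply, Perm.mul_apply, ← hg₁τ]
        simp
      have hk' : k = g₁ * τ * g₂ := by rw [hg₂]; group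
      right
      refine ⟨(σ * g₁ * σ⁻¹) * τ⁻¹ * (τ * σ) ^ 3 * (σ ^ 2)⁻¹, ?_, τ⁻¹ * (σ⁻¹ * g₂ * σ), ?_, ?_⟩
      · exact K.mul_mem (K.mul_mem (K.mul_mem (hnorm g₁ hg₁ hg₁b) (K.inv_mem hτ)) hbr) hσ2i
      · exact K.mul_mem (K.inv_mem hτ) (hnorm' g₂ hg₂K hg₂b)
      · rw [hk']
        simp only [pow_succ, pow_zero, one_mul]
        group
  have hσmul : ∀ y, InS K σ y → InS K σ (σ * y) := by
    intro y hy
    rcases hy with hy | ⟨k₁, hk₁, k₂, hk₂, rfl⟩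
    · exact Or.inr ⟨1, K.one_mem, y, hy, by group⟩
    · have := (key k₁ hk₁).mul_right hk₂
      have h' : σ * (k₁ * σ * k₂) = σ * k₁ * σ * k₂ := by group
      rw [h']; exact this
  intro l hl
  induction hl using Subgroup.closure_induction_left with
  | one => exact Or.inl K.one_mem
  | mul_left x hx y _ ih =>
    rcases hx with hx | hx
    · exact ih.mul_left hx
    · rw [Set.mem_singleton_iff] at hx
      rw [hx]; exact hσmul y ih
  | inv_mul_cancel x hx y _ ih =>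
    rcases hx with hx | hx
    · exact ih.mul_left (K.inv_mem hx)
    · rw [Set.mem_singleton_iff] at hx
      rw [hx]
      have : σ⁻¹ * y = (σ ^ 2)⁻¹ * (σ * y) := by group
      rw [this]
      exact (hσmul y ih).mul_left hσ2i

omit [Fintype α] [DecidableEq α] in
theorem step_stab {K : Subgroup (Perm α)} {b c : α} {σ : Perm α} (hKc : ∀ k ∈ K, k c = c)
    (hbc : b ≠ c) (hσc : σ c = b) {l : Perm α} (hl : InS K σ l) (hlc : l c = c) : l ∈ K := by
  rcases hl with hl | ⟨k₁, hk₁, k₂, hk₂, rfl⟩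
  · exact hl
  · exfalso
    rw [Perm.mul_apply, Perm.mul_apply, hKc k₂ hk₂, hσc] at hlc
    have := hKc k₁ hk₁
    exact hbc (k₁.injective (hlc.trans this.symm))

omit [Fintype α] [DecidableEq α] in
theorem step_fix {K : Subgroup (Perm α)} {F : Finset α} {σ : Perm α}
    (hKF : ∀ k ∈ K, ∀ f ∈ F, k f = f) (hσF : ∀ f ∈ F, σ f = f) :
    ∀ l ∈ Subgroup.closure ((K : Set (Perm α)) ∪ {σ}), ∀ f ∈ F, l f = f := by
  intro l hl
  induction hl using Subgroup.closure_induction with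
  | mem x hx =>
    rcases hx with hx | hx
    · exact hKF x hx
    · rw [Set.mem_singleton_iff] at hx
      rw [hx]; exact hσF
  | one => intro f _; rfl
  | mul x y _ _ ihx ihy =>
    intro f hf
    rw [Perm.mul_apply, ihy f hf, ihx f hf]
  | inv x _ ih =>
    intro f hf
    rw [Perm.inv_eq_iff_eq, ih f hf]

omit [Fintype α] [DecidableEq α] in
theorem step_trans {K : Subgroup (Perm α)} {F : Finset α} {b c : α} {σ : Perm α}
    (htr1 : ∀ u, u ∉ F → u ≠ c → ∃ k ∈ K, k u = b) (hσb : σ b = c) :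
    ∀ u v : α, u ∉ F → v ∉ F →
      ∃ l ∈ Subgroup.closure ((K : Set (Perm α)) ∪ {σ}), l u = v := by
  have hK : K ≤ Subgroup.closure ((K : Set (Perm α)) ∪ {σ}) := by
    intro k hk
    exact Subgroup.subset_closure (Or.inl hk)
  have hσ : σ ∈ Subgroup.closure ((K : Set (Perm α)) ∪ {σ}) :=
    Subgroup.subset_closure (Or.inr rfl)
  have toc : ∀ u, u ∉ F → ∃ l ∈ Subgroup.closure ((K : Set (Perm α)) ∪ {σ}), l u = c := by
    intro u hu
    by_cases huc : u = c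
    · exact ⟨1, Subgroup.one_mem _, by rw [huc]; rfl⟩
    · obtain ⟨k, hk, hku⟩ := htr1 u hu huc
      exact ⟨σ * k, Subgroup.mul_mem _ hσ (hK hk), by rw [Perm.mul_apply, hku, hσb]⟩
  intro u v hu hv
  obtain ⟨l₁, hl₁, hl₁u⟩ := toc u hu
  obtain ⟨l₂, hl₂, hl₂v⟩ := toc v hv
  refine ⟨l₂⁻¹ * l₁, Subgroup.mul_mem _ (Subgroup.inv_mem _ hl₂) hl₁, ?_⟩
  rw [Perm.mul_apply, hl₁u, Perm.inv_eq_iff_eq, hl₂v]


section Main

variable (t : ℕ) (q : ℕ → α) (G : Subgroup (Perm α)) (s : ℕ → Perm α)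

/-- the subgroup generated by `G` and `s 2, …, s j` -/
def Kj (j : ℕ) : Subgroup (Perm α) :=
  Subgroup.closure ((G : Set (Perm α)) ∪ {x | ∃ i : ℕ, 2 ≤ i ∧ i ≤ j ∧ x = s i})

/-- the points `q (j+2), …, q t` -/
def Fj (j : ℕ) : Finset α := (Finset.Icc (j + 2) t).image q

omit [Fintype α] in
theorem mem_Fj {j : ℕ} {x : α} : x ∈ Fj t q j ↔ ∃ i, j + 2 ≤ i ∧ i ≤ t ∧ q i = x := by
  simp [Fj, and_assoc]

omit [Fintype α] [DecidableEq α] in
theorem Kj_one : Kj G s 1 = G := by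
  have : {x | ∃ i : ℕ, 2 ≤ i ∧ i ≤ 1 ∧ x = s i} = (∅ : Set (Perm α)) := by
    ext x
    simp only [Set.mem_ofPred_eq, Set.mem_empty_iff_false, iff_false, not_exists]
    intro i hi
    omega
  rw [Kj, this, Set.union_empty, Subgroup.closure_eq]

omit [Fintype α] [DecidableEq α] in
theorem G_le_Kj (j : ℕ) : G ≤ Kj G s j := by
  intro g hg
  exact Subgroup.subset_closure (Or.inl hg)

omit [Fintype α] [DecidableEq α] in
theorem s_mem_Kj {i j : ℕ} (hi : 2 ≤ i) (hij : i ≤ j) : s i ∈ Kj G s j :=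
  Subgroup.subset_closure (Or.inr ⟨i, hi, hij, rfl⟩)

omit [Fintype α] [DecidableEq α] in
theorem Kj_mono {j j' : ℕ} (h : j ≤ j') : Kj G s j ≤ Kj G s j' := by
  apply Subgroup.closure_mono
  apply Set.union_subset_union_right
  rintro x ⟨i, hi, hij, rfl⟩
  exact ⟨i, hi, hij.trans h, rfl⟩

omit [Fintype α] [DecidableEq α] in
theorem Kj_succ (j : ℕ) (hj : 1 ≤ j) :
    Kj G s (j + 1) = Subgroup.closure ((Kj G s j : Set (Perm α)) ∪ {s (j + 1)}) := by
  apply le_antisymm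
  · rw [Kj, Subgroup.closure_le]
    rintro x (hx | ⟨i, hi, hij, rfl⟩)
    · exact Subgroup.subset_closure (Or.inl (G_le_Kj G s j hx))
    · rcases Nat.lt_or_ge i (j + 1) with h | h
      · exact Subgroup.subset_closure (Or.inl (s_mem_Kj G s hi (by omega)))
      · have : i = j + 1 := by omega
        rw [this]
        exact Subgroup.subset_closure (Or.inr rfl)
  · rw [Subgroup.closure_le]
    rintro x (hx | hx)
    · exact Kj_mono G s (Nat.le_succ j) hx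
    · rw [Set.mem_singleton_iff] at hx
      rw [hx]
      exact s_mem_Kj G s (by omega) le_rfl

omit [Fintype α] in
theorem Fj_pred {j : ℕ} (hj : j + 2 ≤ t) : Fj t q j = insert (q (j + 2)) (Fj t q (j + 1)) := by
  ext x
  rw [Finset.mem_insert, mem_Fj, mem_Fj]
  constructor
  · rintro ⟨i, hi, hit, rfl⟩
    rcases Nat.eq_or_lt_of_le hi with h | h
    · left; rw [h]
    · right; exact ⟨i, by omega, hit, rfl⟩
  · rintro (rfl | ⟨i, hi, hit, rfl⟩)
    · exact ⟨j + 2, le_rfl, hj, rfl⟩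
    · exact ⟨i, by omega, hit, rfl⟩

end Main


section Norm

variable (t : ℕ) (ht : 2 ≤ t) (q : ℕ → α)
  (hq : ∀ i j : ℕ, 1 ≤ i → i ≤ t → 1 ≤ j → j ≤ t → q i = q j → i = j)
  (G : Subgroup (Equiv.Perm α))
  (hfix : ∀ g ∈ G, ∀ i : ℕ, 3 ≤ i → i ≤ t → g (q i) = q i)
  (h2 : ∀ a b c d : α, (∀ i, 3 ≤ i → i ≤ t → a ≠ q i ∧ b ≠ q i ∧ c ≠ q i ∧ d ≠ q i) →
    a ≠ b → c ≠ d → ∃ g ∈ G, g a = c ∧ g b = d)
  (s : ℕ → Equiv.Perm α) (hs1 : s 1 ∈ G) (hs1q : s 1 (q 1) = q 2 ∧ s 1 (q 2) = q 1)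
  (H : Subgroup (Equiv.Perm α))
  (hH : H = G ⊓ MulAction.stabilizer (Equiv.Perm α) (q 1) ⊓
    MulAction.stabilizer (Equiv.Perm α) (q 2))
  (hsq2 : ∀ i : ℕ, 1 ≤ i → i + 1 ≤ t → s i ^ 2 ∈ H)
  (hcomm : ∀ i j : ℕ, 1 ≤ i → i + 2 ≤ j → j + 1 ≤ t →
    (s i * s j) ^ 2 ∈ H ∧ (s j * s i) ^ 2 ∈ H)
  (hnorm : ∀ i : ℕ, 2 ≤ i → i + 1 ≤ t → ∀ g ∈ G ⊓ MulAction.stabilizer (Equiv.Perm α) (q 2),
    s i * g * (s i)⁻¹ ∈ G ⊓ MulAction.stabilizer (Equiv.Perm α) (q 2))

include ht hq hfix h2 hs1 hs1q hH hsq2 hcomm hnorm in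
omit [Fintype α] [DecidableEq α] in
/-- `s m` (`m ≥ 3`) normalises `G`. -/
theorem normG (m : ℕ) (hm3 : 3 ≤ m) (hmt : m + 1 ≤ t) :
    ∀ g ∈ G, s m * g * (s m)⁻¹ ∈ G := by
  intro g hg
  have hHG : H ≤ G := by rw [hH]; exact inf_le_left.trans inf_le_left
  have hsm2 : s m ^ 2 ∈ G := hHG (hsq2 m (by omega) hmt)
  have hc : (s m * s 1) ^ 2 ∈ G := hHG (hcomm 1 m le_rfl (by omega) hmt).2
  have hs1c : s m * s 1 * (s m)⁻¹ ∈ G := by
    have : s m * s 1 * (s m)⁻¹ = (s m * s 1) ^ 2 * (s 1)⁻¹ * (s m ^ 2)⁻¹ := by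
      simp only [pow_succ, pow_zero, one_mul]; group
    rw [this]
    exact G.mul_mem (G.mul_mem hc (G.inv_mem hs1)) (G.inv_mem hsm2)
  have hst : ∀ g ∈ G, g (q 2) = q 2 → s m * g * (s m)⁻¹ ∈ G := fun g hg hg2 =>
    (Subgroup.mem_inf.mp (hnorm m (by omega) hmt g
      (Subgroup.mem_inf.mpr ⟨hg, MulAction.mem_stabilizer_iff.mpr hg2⟩))).1
  by_cases hg2 : g (q 2) = q 2
  · exact hst g hg hg2
  · have hq12 : q 1 ≠ q 2 := fun h => by
      have := hq 1 2 le_rfl (by omega) (by omega) ht h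
      omega
    have hq2i : ∀ i, 3 ≤ i → i ≤ t → q 2 ≠ q i := fun i hi hit h => by
      have := hq 2 i (by omega) ht (by omega) hit h
      omega
    have hq1i : ∀ i, 3 ≤ i → i ≤ t → q 1 ≠ q i := fun i hi hit h => by
      have := hq 1 i le_rfl (by omega) (by omega) hit h
      omega
    obtain ⟨g₁, hg₁, hg₁2, hg₁1⟩ := h2 (q 2) (q 1) (q 2) (g (q 2))
      (fun i hi hit => ⟨hq2i i hi hit, hq1i i hi hit, hq2i i hi hit, fun h => by
        rw [← hfix g hg i hi hit] at h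
        exact hq2i i hi hit (g.injective h)⟩) hq12.symm (Ne.symm hg2)
    set g₂ : Perm α := (s 1)⁻¹ * g₁⁻¹ * g with hg₂def
    have hg₂ : g₂ ∈ G := G.mul_mem (G.mul_mem (G.inv_mem hs1) (G.inv_mem hg₁)) hg
    have hg₂2 : g₂ (q 2) = q 2 := by
      rw [hg₂def, Perm.mul_apply, Perm.mul_apply, ← hg₁1, ← hs1q.2]
      simp
    have : s m * g * (s m)⁻¹ =
        (s m * g₁ * (s m)⁻¹) * (s m * s 1 * (s m)⁻¹) * (s m * g₂ * (s m)⁻¹) := by
      rw [hg₂def]; group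
    rw [this]
    exact G.mul_mem (G.mul_mem (hst g₁ hg₁ hg₁2) hs1c) (hst g₂ hg₂ hg₂2)

include ht hq hfix h2 hs1 hs1q hH hsq2 hcomm hnorm in
omit [Fintype α] [DecidableEq α] in
/-- `s m` normalises `Kj j` for `j + 2 ≤ m`. -/
theorem normK (m : ℕ) (hm3 : 3 ≤ m) (hmt : m + 1 ≤ t) (j : ℕ) (hjm : j + 2 ≤ m) :
    ∀ g ∈ Kj G s j, s m * g * (s m)⁻¹ ∈ Kj G s j := by
  have hHG : H ≤ G := by rw [hH]; exact inf_le_left.trans inf_le_left
  intro g hg
  induction hg using Subgroup.closure_induction with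
  | mem x hx =>
    rcases hx with hx | ⟨i, hi, hij, rfl⟩
    · exact G_le_Kj G s j
        (normG t ht q hq G hfix h2 s hs1 hs1q H hH hsq2 hcomm hnorm m hm3 hmt x hx)
    · have hsm2 : s m ^ 2 ∈ Kj G s j := G_le_Kj G s j (hHG (hsq2 m (by omega) hmt))
      have hc : (s m * s i) ^ 2 ∈ Kj G s j :=
        G_le_Kj G s j (hHG (hcomm i m (by omega) (by omega) hmt).2)
      have : s m * s i * (s m)⁻¹ = (s m * s i) ^ 2 * (s i)⁻¹ * (s m ^ 2)⁻¹ := by
        simp only [pow_succ, pow_zero, one_mul]; group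
      rw [this]
      exact Subgroup.mul_mem _ (Subgroup.mul_mem _ hc
        (Subgroup.inv_mem _ (s_mem_Kj G s hi hij))) (Subgroup.inv_mem _ hsm2)
  | one =>
    have : s m * 1 * (s m)⁻¹ = 1 := by group
    rw [this]; exact Subgroup.one_mem _
  | mul x y _ _ ihx ihy =>
    have : s m * (x * y) * (s m)⁻¹ = (s m * x * (s m)⁻¹) * (s m * y * (s m)⁻¹) := by group
    rw [this]; exact Subgroup.mul_mem _ ihx ihy
  | inv x _ ih =>
    have : s m * x⁻¹ * (s m)⁻¹ = (s m * x * (s m)⁻¹)⁻¹ := by group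
    rw [this]; exact Subgroup.inv_mem _ ih

variable (hsq : ∀ i : ℕ, 2 ≤ i → i + 1 ≤ t → s i (q i) = q (i + 1) ∧ s i (q (i + 1)) = q i ∧
    ∀ j : ℕ, 1 ≤ j → j ≤ t → j ≠ i → j ≠ i + 1 → s i (q j) = q j)
  (hbraid : ∀ i : ℕ, 1 ≤ i → i + 2 ≤ t → (s i * s (i + 1)) ^ 3 ∈ H)

/-- the invariant of the induction -/
def Inv (j : ℕ) : Prop :=
  (∀ g ∈ Kj G s j, ∀ i, j + 2 ≤ i → i ≤ t → g (q i) = q i) ∧
    KT (Kj G s j) (Fj t q j) (j + 1) ∧
    (2 ≤ j → ∀ g ∈ Kj G s j, g (q (j + 1)) = q (j + 1) → g ∈ Kj G s (j - 1))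

include ht hq h2 in
omit [Fintype α] in
theorem inv_base : KT G (Fj t q 1) 2 := by
  have notF : ∀ x, x ∉ Fj t q 1 → ∀ i, 3 ≤ i → i ≤ t → x ≠ q i := by
    intro x hx i hi hit h
    exact hx ((mem_Fj t q).mpr ⟨i, hi, hit, h.symm⟩)
  have hq12 : q 1 ≠ q 2 := fun h => by
    have := hq 1 2 le_rfl (by omega) (by omega) ht h
    omega
  have hq1F : q 1 ∉ Fj t q 1 := by
    rw [mem_Fj]
    rintro ⟨i, hi, hit, h⟩
    have := hq i 1 (by omega) hit le_rfl (by omega) h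
    omega
  have hq2F : q 2 ∉ Fj t q 1 := by
    rw [mem_Fj]
    rintro ⟨i, hi, hit, h⟩
    have := hq i 2 (by omega) hit (by omega) ht h
    omega
  have other : ∀ x, ∃ x', x' ∉ Fj t q 1 ∧ x ≠ x' := by
    intro x
    by_cases hx : x = q 1
    · exact ⟨q 2, hq2F, by rw [hx]; exact hq12⟩
    · exact ⟨q 1, hq1F, hx⟩
  intro j hj x y hx hy hxF hyF
  have hj' : j = 0 ∨ j = 1 ∨ j = 2 := by omega
  rcases hj' with rfl | rfl | rfl
  · exact ⟨1, G.one_mem, fun i => i.elim0⟩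
  · obtain ⟨x', hx'F, hxx'⟩ := other (x 0)
    obtain ⟨y', hy'F, hyy'⟩ := other (y 0)
    obtain ⟨g, hg, hg1, _⟩ := h2 (x 0) x' (y 0) y'
      (fun i hi hit => ⟨notF _ (hxF 0) i hi hit, notF _ hx'F i hi hit, notF _ (hyF 0) i hi hit,
        notF _ hy'F i hi hit⟩) hxx' hyy'
    refine ⟨g, hg, fun i => ?_⟩
    have : i = 0 := Subsingleton.elim _ _
    rw [this]; exact hg1
  · obtain ⟨g, hg, hg1, hg2⟩ := h2 (x 0) (x 1) (y 0) (y 1)
      (fun i hi hit => ⟨notF _ (hxF 0) i hi hit, notF _ (hxF 1) i hi hit, notF _ (hyF 0) i hi hit,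
        notF _ (hyF 1) i hi hit⟩) (fun h => by simpa using hx h) (fun h => by simpa using hy h)
    refine ⟨g, hg, fun i => ?_⟩
    fin_cases i
    · exact hg1
    · exact hg2

include ht hq hfix h2 hs1 hs1q hH hsq2 hcomm hnorm hsq hbraid in
omit [Fintype α] in
theorem inv_all : ∀ j, 1 ≤ j → j + 1 ≤ t → Inv t q G s j := by
  have hHG : H ≤ G := by rw [hH]; exact inf_le_left.trans inf_le_left
  intro j hj1
  induction j, hj1 using Nat.le_induction with
  | base =>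
    intro _
    refine ⟨?_, ?_, ?_⟩
    · rw [Kj_one]
      intro g hg i hi hit
      exact hfix g hg i (by omega) hit
    · rw [Kj_one]
      exact inv_base t ht q hq G h2
    · intro h; omega
  | succ j hj ih =>
    intro hjt
    obtain ⟨I1, I2, I3⟩ := ih (by omega)
    have hFj : Fj t q j = insert (q (j + 2)) (Fj t q (j + 1)) := Fj_pred t q (by omega)
    have hbF : q (j + 1) ∉ Fj t q j := by
      rw [mem_Fj]
      rintro ⟨i, hi, hit, h⟩
      have := hq i (j + 1) (by omega) hit (by omega) (by omega) h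
      omega
    have hqjF : q j ∉ Fj t q j := by
      rw [mem_Fj]
      rintro ⟨i, hi, hit, h⟩
      have := hq i j (by omega) hit (by omega) (by omega) h
      omega
    have hcF : q (j + 2) ∉ Fj t q (j + 1) := by
      rw [mem_Fj]
      rintro ⟨i, hi, hit, h⟩
      have := hq i (j + 2) (by omega) hit (by omega) (by omega) h
      omega
    have hτb : s j (q (j + 1)) = q j := by
      rcases Nat.eq_or_lt_of_le hj with h | h
      · rw [← h]; exact hs1q.2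
      · exact (hsq j (by omega) (by omega)).2.1
    have hbτb : q (j + 1) ≠ s j (q (j + 1)) := by
      rw [hτb]
      intro h
      have := hq (j + 1) j (by omega) (by omega) (by omega) (by omega) h
      omega
    have hbc : q (j + 1) ≠ q (j + 2) := by
      intro h
      have := hq (j + 1) (j + 2) (by omega) (by omega) (by omega) (by omega) h
      omega
    obtain ⟨hσb, hσc, hσrest⟩ := hsq (j + 1) (by omega) (by omega)
    have hσF : ∀ f ∈ Fj t q (j + 1), s (j + 1) f = f := by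
      intro f hf
      obtain ⟨i, hi, hit, rfl⟩ := (mem_Fj t q).mp hf
      exact hσrest i (by omega) hit (by omega) (by omega)
    have hKc : ∀ k ∈ Kj G s j, k (q (j + 2)) = q (j + 2) := fun k hk => I1 k hk (j + 2) le_rfl hjt
    have hKFj : ∀ k ∈ Kj G s j, ∀ f ∈ Fj t q j, k f = f := by
      intro k hk f hf
      obtain ⟨i, hi, hit, rfl⟩ := (mem_Fj t q).mp hf
      exact I1 k hk i hi hit
    have hKF : ∀ k ∈ Kj G s j, ∀ f ∈ Fj t q (j + 1), k f = f := by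
      intro k hk f hf
      exact hKFj k hk f (by rw [hFj]; exact Finset.mem_insert_of_mem hf)
    have htr2 : ∀ k ∈ Kj G s j, k (q (j + 1)) ≠ q (j + 1) →
        ∃ g ∈ Kj G s j, g (q (j + 1)) = q (j + 1) ∧ g (s j (q (j + 1))) = k (q (j + 1)) := by
      intro k hk hkb
      exact KT.two I2 (by omega) hbτb (Ne.symm hkb) hbF (hτb ▸ hqjF) hbF
        (notMem_of_fix (hKFj k hk) hbF)
    have hσ2 : s (j + 1) ^ 2 ∈ Kj G s j := G_le_Kj G s j (hHG (hsq2 (j + 1) (by omega) (by omega)))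
    have hτ : s j ∈ Kj G s j := by
      rcases Nat.eq_or_lt_of_le hj with h | h
      · rw [← h]; exact G_le_Kj G s 1 hs1
      · exact s_mem_Kj G s (by omega) le_rfl
    have hbr : (s j * s (j + 1)) ^ 3 ∈ Kj G s j := G_le_Kj G s j (hHG (hbraid j hj (by omega)))
    have hnormK : ∀ g ∈ Kj G s j, g (q (j + 1)) = q (j + 1) →
        s (j + 1) * g * (s (j + 1))⁻¹ ∈ Kj G s j := by
      intro g hg hgb
      rcases Nat.eq_or_lt_of_le hj with h | h
      · subst h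
        rw [Kj_one] at hg ⊢
        exact (Subgroup.mem_inf.mp (hnorm 2 le_rfl (by omega) g
          (Subgroup.mem_inf.mpr ⟨hg, MulAction.mem_stabilizer_iff.mpr hgb⟩))).1
      · have hg' := I3 (by omega) g hg hgb
        exact Kj_mono G s (Nat.sub_le j 1)
          (normK t ht q hq G hfix h2 s hs1 hs1q H hH hsq2 hcomm hnorm (j + 1) (by omega) (by omega)
            (j - 1) (by omega) g hg')
    have hmem := step_mem (Kj G s j) (q (j + 1)) (s (j + 1)) (s j) htr2 hσ2 hτ hbr hnormK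
    have hKL : Kj G s j ≤ Kj G s (j + 1) := Kj_mono G s (Nat.le_succ j)
    have hLF : ∀ l ∈ Kj G s (j + 1), ∀ f ∈ Fj t q (j + 1), l f = f := by
      rw [Kj_succ G s j hj]
      exact step_fix hKF hσF
    refine ⟨?_, ?_, ?_⟩
    · intro g hg i hi hit
      exact hLF g hg (q i) ((mem_Fj t q).mpr ⟨i, by omega, hit, rfl⟩)
    · have htr1 : ∀ u, u ∉ Fj t q (j + 1) → u ≠ q (j + 2) → ∃ k ∈ Kj G s j, k u = q (j + 1) := by
        intro u hu huc
        refine KT.one I2 (by omega) ?_ hbF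
        rw [hFj, Finset.mem_insert, not_or]
        exact ⟨huc, hu⟩
      have htrans : ∀ u v : α, u ∉ Fj t q (j + 1) → v ∉ Fj t q (j + 1) →
          ∃ l ∈ Kj G s (j + 1), l u = v := by
        rw [Kj_succ G s j hj]
        exact step_trans htr1 hσb
      refine KT.of_stab hLF htrans hcF ?_
      rw [← hFj]
      refine KT.mono_group I2 (le_inf hKL ?_)
      intro k hk
      exact MulAction.mem_stabilizer_iff.mpr (hKc k hk)
    · intro _ g hg hgc
      rw [Nat.add_sub_cancel]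
      rw [Kj_succ G s j hj] at hg
      exact step_stab hKc hbc hσc (hmem g hg) hgc

end Norm

/-- Witt's Lemma for constructing transitive extensions. Points `q 1, …, q t` (`t ≥ 2`) of a finite set are given; `G` fixes `q i` for `i ≥ 3` and is doubly transitive on the remaining points; `s 1 ∈ G` swaps `q 1, q 2`; for `2 ≤ i ≤ t-1`, `s i` swaps `q i, q (i+1)` and fixes the other `q j`; with `H` the stabiliser of `q 1, q 2` in `G`: `s i ^ 2 ∈ H`, `(s i * s (i+1)) ^ 3 ∈ H`, `(s i * s j) ^ 2 ∈ H` for `j ≥ i + 2`, and `s i` (`i ≥ 2`) normalises the stabiliser of `q 2` in `G`. Then `G` and the `s i` generate a `t`-transitive group whose pointwise stabiliser of the `q`'s is `H`. -/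
theorem result {α : Type*} [Fintype α] [DecidableEq α] (t : ℕ) (ht : 2 ≤ t) (q : ℕ → α) (hq : ∀ i j : ℕ, 1 ≤ i → i ≤ t → 1 ≤ j → j ≤ t → q i = q j → i = j) (G : Subgroup (Equiv.Perm α)) (hfix : ∀ g ∈ G, ∀ i : ℕ, 3 ≤ i → i ≤ t → g (q i) = q i) (h2 : ∀ a b c d : α, (∀ i, 3 ≤ i → i ≤ t → a ≠ q i ∧ b ≠ q i ∧ c ≠ q i ∧ d ≠ q i) → a ≠ b → c ≠ d → ∃ g ∈ G, g a = c ∧ g b = d) (s : ℕ → Equiv.Perm α) (hs1 : s 1 ∈ G) (hs1q : s 1 (q 1) = q 2 ∧ s 1 (q 2) = q 1) (hsq : ∀ i : ℕ, 2 ≤ i → i + 1 ≤ t → s i (q i) = q (i + 1) ∧ s i (q (i + 1)) = q i ∧ ∀ j : ℕ, 1 ≤ j → j ≤ t → j ≠ i → j ≠ i + 1 → s i (q j) = q j) (H : Subgroup (Equiv.Perm α)) (hH : H = G ⊓ MulAction.stabilizer (Equiv.Perm α) (q 1) ⊓ MulAction.stabilizer (Equiv.Perm α) (q 2)) (hsq2 : ∀ i : ℕ, 1 ≤ i → i + 1 ≤ t → s i ^ 2 ∈ H) (hbraid : ∀ i : ℕ, 1 ≤ i → i + 2 ≤ t → (s i * s (i + 1)) ^ 3 ∈ H) (hcomm : ∀ i j : ℕ, 1 ≤ i → i + 2 ≤ j → j + 1 ≤ t → (s i * s j) ^ 2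 ∈ H ∧ (s j * s i) ^ 2 ∈ H) (hnorm : ∀ i : ℕ, 2 ≤ i → i + 1 ≤ t → ∀ g ∈ G ⊓ MulAction.stabilizer (Equiv.Perm α) (q 2), s i * g * (s i)⁻¹ ∈ G ⊓ MulAction.stabilizer (Equiv.Perm α) (q 2)) : MulAction.IsMultiplyPretransitive ↥(Subgroup.closure ((G : Set (Equiv.Perm α)) ∪ {x | ∃ i : ℕ, 2 ≤ i ∧ i + 1 ≤ t ∧ x = s i})) α t ∧ Subgroup.closure ((G : Set (Equiv.Perm α)) ∪ {x | ∃ i : ℕ, 2 ≤ i ∧ i + 1 ≤ t ∧ x = s i}) ⊓ fixingSubgroup (Equiv.Perm α) {x | ∃ i : ℕ, 1 ≤ i ∧ i ≤ t ∧ x = q i} = H := by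
  classical
  have hHG : H ≤ G := by rw [hH]; exact inf_le_left.trans inf_le_left
  have hall := inv_all t ht q hq G hfix h2 s hs1 hs1q H hH hsq2 hcomm hnorm hsq hbraid
  have hset : ((G : Set (Equiv.Perm α)) ∪ {x | ∃ i : ℕ, 2 ≤ i ∧ i + 1 ≤ t ∧ x = s i}) =
      ((G : Set (Equiv.Perm α)) ∪ {x | ∃ i : ℕ, 2 ≤ i ∧ i ≤ t - 1 ∧ x = s i}) := by
    congr 1
    ext x
    constructor
    · rintro ⟨i, hi, hit, rfl⟩
      exact ⟨i, hi, by omega, rfl⟩
    · rintro ⟨i, hi, hit, rfl⟩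
      exact ⟨i, hi, by omega, rfl⟩
  have hK : Subgroup.closure ((G : Set (Equiv.Perm α)) ∪
      {x | ∃ i : ℕ, 2 ≤ i ∧ i + 1 ≤ t ∧ x = s i}) = Kj G s (t - 1) := by
    rw [hset]; rfl
  rw [hK]
  obtain ⟨_, I2, _⟩ := hall (t - 1) (by omega) (by omega)
  have hFe : Fj t q (t - 1) = ∅ := by
    rw [Finset.eq_empty_iff_forall_notMem]
    intro x hx
    obtain ⟨i, hi, hit, _⟩ := (mem_Fj t q).mp hx
    omega
  have ht1 : t - 1 + 1 = t := by omega
  rw [hFe, ht1] at I2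
  constructor
  · rw [MulAction.isMultiplyPretransitive_iff]
    intro x y
    obtain ⟨g, hg, hgx⟩ := I2 t le_rfl x y x.injective y.injective (fun i => Finset.notMem_empty _)
      (fun i => Finset.notMem_empty _)
    refine ⟨⟨g, hg⟩, ?_⟩
    ext i
    rw [Function.Embedding.smul_apply]
    exact hgx i
  · apply le_antisymm
    · intro g hg
      obtain ⟨hgK, hgfix⟩ := Subgroup.mem_inf.mp hg
      have hgq : ∀ i, 1 ≤ i → i ≤ t → g (q i) = q i := by
        intro i hi hit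
        have := (mem_fixingSubgroup_iff (Equiv.Perm α)).mp hgfix (q i) ⟨i, hi, hit, rfl⟩
        exact this
      -- descend
      have hdesc : ∀ d, d + 1 ≤ t - 1 → g ∈ Kj G s (t - 1 - d) := by
        intro d
        induction d with
        | zero => intro _; exact hgK
        | succ d ih =>
          intro hd
          have h1 := ih (by omega)
          obtain ⟨_, _, I3⟩ := hall (t - 1 - d) (by omega) (by omega)
          have := I3 (by omega) g h1 (hgq _ (by omega) (by omega))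
          have he : t - 1 - d - 1 = t - 1 - (d + 1) := by omega
          rw [he] at this
          exact this
      have hgG : g ∈ G := by
        have := hdesc (t - 2) (by omega)
        have he : t - 1 - (t - 2) = 1 := by omega
        rw [he, Kj_one] at this
        exact this
      rw [hH]
      exact Subgroup.mem_inf.mpr ⟨Subgroup.mem_inf.mpr ⟨hgG,
        MulAction.mem_stabilizer_iff.mpr (hgq 1 le_rfl (by omega))⟩,
        MulAction.mem_stabilizer_iff.mpr (hgq 2 (by omega) ht)⟩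
    · intro g hg
      have hgG := hHG hg
      rw [hH] at hg
      obtain ⟨hg12, hg2⟩ := Subgroup.mem_inf.mp hg
      obtain ⟨_, hg1⟩ := Subgroup.mem_inf.mp hg12
      refine Subgroup.mem_inf.mpr ⟨G_le_Kj G s _ hgG, ?_⟩
      rw [mem_fixingSubgroup_iff]
      rintro x ⟨i, hi, hit, rfl⟩
      rcases Nat.lt_or_ge i 3 with h | h
      · have : i = 1 ∨ i = 2 := by omega
        rcases this with rfl | rfl
        · exact MulAction.mem_stabilizer_iff.mp hg1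
        · exact MulAction.mem_stabilizer_iff.mp hg2
      · exact hfix g hgG i h hit

end Cfsg.Agent.S0709
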