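import Mathlib
import Cfsg.Statements.S0710

set_option autoImplicit false
open Cfsg

namespace Cfsg.Agent.S0710

/-- the centralizer in `Perm α` (13 points) of an element of order 13 has 13 elements -/
theorem card_centralizer_of_order13 {α : Type*} [Fintype α] [DecidableEq α]
    (hα : Fintype.card α = 13) (σ : Equiv.Perm α) (hσ : orderOf σ = 13) :
    Nat.card (Subgroup.centralizer ({σ} : Set (Equiv.Perm α))) = 13 := by
  have hprime : (orderOf σ).Prime := by rw [hσ]; norm_num
  obtain ⟨n, hn⟩ := Equiv.Perm.cycleType_prime_order hprime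
  have hle := Equiv.Perm.sum_cycleType_le σ
  rw [hn, Multiset.sum_replicate, hσ, hα, smul_eq_mul] at hle
  have hn0 : n = 0 := by omega
  rw [hn0, hσ] at hn
  rw [Equiv.Perm.nat_card_centralizer, hn, hα]
  simp

/-- No transitive permutation group on 13 points has order `13 * 12 * 11 * 10 * 9 * 8`. -/
theorem result {α : Type*} [Fintype α] [DecidableEq α] (hα : Fintype.card α = 13) (G : Subgroup (Equiv.Perm α)) [MulAction.IsPretransitive G α] : Nat.card G ≠ 13 * 12 * 11 * 10 * 9 * 8 := by
  intro hcard
  haveI : Fact (Nat.Prime 13) := ⟨by norm_num⟩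
  obtain ⟨P⟩ : Nonempty (Sylow 13 ↥G) := inferInstance
  -- |P| = 13
  have hPcard : Nat.card (P : Subgroup ↥G) = 13 := by
    obtain ⟨k, hk⟩ := P.2.exists_card_eq
    have hidx := (P : Subgroup ↥G).card_mul_index
    have hnd := P.not_dvd_index
    rw [hcard] at hidx
    rcases k with _ | _ | k
    · exfalso
      rw [hk, pow_zero, one_mul] at hidx
      apply hnd
      rw [hidx]
      decide
    · rw [hk]; norm_num
    · exfalso
      have h1 : 13 ^ 2 ∣ Nat.card (P : Subgroup ↥G) := by
        rw [hk]
        exact pow_dvd_pow 13 (by omega)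
      have h2 : 13 ^ 2 ∣ 13 * 12 * 11 * 10 * 9 * 8 := by
        rw [← hidx]
        exact Dvd.dvd.mul_right h1 _
      revert h2
      decide
  haveI hcyc : IsCyclic ↥(P : Subgroup ↥G) := isCyclic_of_prime_card hPcard
  -- N/C embeds in Aut(P)
  have key := Subgroup.card_dvd_of_injective _
    (QuotientGroup.kerLift_injective (P : Subgroup ↥G).normalizerMonoidHom)
  rw [Subgroup.normalizerMonoidHom_ker, ← Subgroup.index, ← Subgroup.relIndex,
    IsCyclic.card_mulAut, hPcard] at key
  have htot : Nat.totient 13 = 12 := by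
    rw [Nat.totient_prime (by norm_num)]
  rw [htot] at key
  -- the centralizer has order 13
  obtain ⟨g, hg⟩ := hcyc.exists_generator
  have hgord : orderOf g = 13 := by
    rw [orderOf_eq_card_of_forall_mem_zpowers hg, hPcard]
  set σ : Equiv.Perm α := ((g : ↥G) : Equiv.Perm α) with hσ
  have hσord : orderOf σ = 13 := by
    rw [hσ, Subgroup.orderOf_coe, Subgroup.orderOf_coe, hgord]
  have hCle : Nat.card (Subgroup.centralizer ((P : Subgroup ↥G) : Set ↥G)) ≤ 13 := by
    refine le_of_le_of_eq ?_ (card_centralizer_of_order13 hα σ hσord)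
    let f : Subgroup.centralizer ((P : Subgroup ↥G) : Set ↥G) →
        Subgroup.centralizer ({σ} : Set (Equiv.Perm α)) := fun τ =>
      ⟨((τ : ↥G) : Equiv.Perm α), by
        rw [Subgroup.mem_centralizer_iff]
        intro x hx
        rw [Set.mem_singleton_iff] at hx
        subst hx
        have h1 := Subgroup.mem_centralizer_iff.mp τ.2 (g : ↥G) g.2
        have h2 := congrArg (Subtype.val : ↥G → Equiv.Perm α) h1
        simpa using h2⟩
    apply Nat.card_le_card_of_injective f
    intro a b hab
    apply Subtype.ext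
    apply Subtype.ext
    exact congrArg (Subtype.val : Subgroup.centralizer ({σ} : Set (Equiv.Perm α)) → Equiv.Perm α) hab
  have hPC : (P : Subgroup ↥G) ≤ Subgroup.centralizer ((P : Subgroup ↥G) : Set ↥G) := by
    intro x hx
    rw [Subgroup.mem_centralizer_iff]
    intro y hy
    obtain ⟨i, hi⟩ := hg ⟨x, hx⟩
    obtain ⟨j, hj⟩ := hg ⟨y, hy⟩
    have hx' : x = ((g : ↥G)) ^ i := by
      have := congrArg Subtype.val hi
      simpa using this.symm
    have hy' : y = ((g : ↥G)) ^ j := by
      have := congrArg Subtype.val hj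
      simpa using this.symm
    rw [hx', hy']
    exact (Commute.zpow_zpow_self _ _ _).eq
  have hCcard : Nat.card (Subgroup.centralizer ((P : Subgroup ↥G) : Set ↥G)) = 13 := by
    apply le_antisymm hCle
    have := Subgroup.card_le_of_le hPC
    rw [hPcard] at this
    exact this
  -- card N = 13 * d, d ∣ 12
  set N := Subgroup.normalizer ((P : Subgroup ↥G) : Set ↥G) with hN
  set C := Subgroup.centralizer ((P : Subgroup ↥G) : Set ↥G) with hC
  have hCN : C ≤ N := by
    intro x hx
    rw [hN, Subgroup.mem_normalizer_iff]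
    intro y
    have hcomm : ∀ z ∈ (P : Subgroup ↥G), x * z * x⁻¹ = z := by
      intro z hz
      have := Subgroup.mem_centralizer_iff.mp hx z hz
      rw [← this]; group
    constructor
    · intro hy
      rw [hcomm y hy]; exact hy
    · intro hy
      have h1 := hcomm _ hy
      have h2 : x⁻¹ * (x * y * x⁻¹) * x = y := by group
      have h3 : x⁻¹ * (x * y * x⁻¹) * x = x * y * x⁻¹ := by
        have := Subgroup.mem_centralizer_iff.mp hx _ hy
        calc x⁻¹ * (x * y * x⁻¹) * x = x⁻¹ * ((x * y * x⁻¹) * x) := by group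
          _ = x⁻¹ * (x * (x * y * x⁻¹)) := by rw [this]
          _ = x * y * x⁻¹ := by group
      rw [← h2, h3]; exact hy
  have hNcard : Nat.card N = 13 * C.relIndex N := by
    have h1 := Subgroup.relIndex_mul_relIndex (⊥ : Subgroup ↥G) C N bot_le hCN
    rw [Subgroup.relIndex_bot_left, Subgroup.relIndex_bot_left, hCcard] at h1
    exact h1.symm
  have hsyl := card_sylow_modEq_one 13 ↥G
  rw [Sylow.card_eq_index_normalizer P] at hsyl
  have hidx := N.card_mul_index
  rw [hcard, hNcard] at hidx
  set d := C.relIndex N with hd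
  set n := N.index with hn
  have hdmem : d ∈ Nat.divisors 12 := Nat.mem_divisors.mpr ⟨key, by norm_num⟩
  have hdiv : Nat.divisors 12 = {1, 2, 3, 4, 6, 12} := by decide
  rw [hdiv] at hdmem
  simp only [Finset.mem_insert, Finset.mem_singleton] at hdmem
  unfold Nat.ModEq at hsyl
  have hsyl' : n % 13 = 1 := hsyl
  rcases hdmem with h | h | h | h | h | h <;> rw [h] at hidx <;> omega

end Cfsg.Agent.S0710
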