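import Cfsg.Statements.S0711
import Mathlib

set_option autoImplicit false
open Cfsg

namespace Cfsg.Agent.S0711

open Equiv MulAction

variable {α : Type*} [Fintype α] [DecidableEq α]

omit [DecidableEq α] in
theorem exists_fixing_map (G : Subgroup (Perm α)) {k : ℕ} (hkn : k ≤ Fintype.card α)
    (hG : IsMultiplyPretransitive G α k) (F : Finset α) (hF : F.card + 1 ≤ k) {c b : α}
    (hc : c ∉ F) (hb : b ∉ F) :
    ∃ h : Perm α, h ∈ G ∧ (∀ x ∈ F, h x = x) ∧ h c = b := by
  have h1 : IsMultiplyPretransitive (fixingSubgroup G (F : Set α))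
      (SubMulAction.ofFixingSubgroup G (F : Set α)) 1 :=
    SubMulAction.ofFixingSubgroup.isMultiplyPretransitive' (F : Set α)
      (by simpa [Set.ncard_coe_finset] using hF) (by simpa using hkn)
  rw [is_one_pretransitive_iff] at h1
  have hc' : c ∈ SubMulAction.ofFixingSubgroup G (F : Set α) := by
    rw [SubMulAction.mem_ofFixingSubgroup_iff]; simpa using hc
  have hb' : b ∈ SubMulAction.ofFixingSubgroup G (F : Set α) := by
    rw [SubMulAction.mem_ofFixingSubgroup_iff]; simpa using hb
  obtain ⟨⟨h, hh⟩, hhc⟩ := h1.exists_smul_eq ⟨c, hc'⟩ ⟨b, hb'⟩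
  refine ⟨h, h.2, ?_, ?_⟩
  · intro x hx
    rw [mem_fixingSubgroup_iff] at hh
    exact hh x (by simpa using hx)
  · have := congrArg Subtype.val hhc
    exact this

theorem support_comm_subset (g h : Perm α) (F B : Finset α) (hFB : g.support = F ∪ B)
    (hfix : ∀ x ∈ F, h x = x) :
    (g⁻¹ * h * g * h⁻¹).support ⊆ (F.filter (fun x => g x ∈ B)) ∪ B ∪ B.image h := by
  intro x hx
  by_contra hcon
  simp only [Finset.mem_union, Finset.mem_filter, Finset.mem_image, not_or, not_and,
    not_exists] at hcon
  obtain ⟨⟨h1, h2⟩, h3⟩ := hcon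
  apply (Perm.mem_support.mp hx)
  by_cases hxF : x ∈ F
  · have hgx : g x ∉ B := h1 hxF
    have hgxS : g x ∈ g.support :=
      Perm.apply_mem_support.mpr (by rw [hFB]; exact Finset.mem_union_left _ hxF)
    have hgxF : g x ∈ F := by
      rw [hFB] at hgxS; exact (Finset.mem_union.mp hgxS).resolve_right hgx
    have hx' : h⁻¹ x = x := by rw [Perm.inv_eq_iff_eq]; exact (hfix x hxF).symm
    show g⁻¹ (h (g (h⁻¹ x))) = x
    rw [hx', hfix _ hgxF, Perm.inv_eq_iff_eq]
  · have hxS : x ∉ g.support := by rw [hFB]; simp [hxF, h2]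
    have hwx : h (h⁻¹ x) = x := by simp
    have hwS : h⁻¹ x ∉ g.support := by
      rw [hFB, Finset.mem_union]; rintro (hwF | hwB)
      · have := hfix _ hwF; rw [hwx] at this; exact hxF (this ▸ hwF)
      · exact h3 _ hwB hwx
    have hgw : g (h⁻¹ x) = h⁻¹ x := Perm.notMem_support.mp hwS
    have hgx : g⁻¹ x = x := by
      rw [Perm.inv_eq_iff_eq]; exact (Perm.notMem_support.mp hxS).symm
    show g⁻¹ (h (g (h⁻¹ x))) = x
    rw [hgw, hwx, hgx]

theorem exists_almost_invariant (g : Perm α) (r : ℕ) (hr : r ≤ g.support.card) :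
    ∃ B : Finset α, B ⊆ g.support ∧ B.card = r ∧
      ((g.support \ B).filter (fun x => g x ∈ B)).card ≤ 1 := by
  induction r with
  | zero => exact ⟨∅, by simp, rfl, by simp⟩
  | succ r ih =>
    obtain ⟨B, hBS, hBr, hD⟩ := ih (by omega)
    have hne : (g.support \ B).Nonempty := by
      rw [← Finset.card_pos, Finset.card_sdiff_of_subset hBS]; omega
    obtain ⟨d, hd, hDd⟩ : ∃ d, d ∈ g.support \ B ∧
        (g.support \ B).filter (fun x => g x ∈ B) ⊆ {d} := by
      rcases Finset.eq_empty_or_nonempty ((g.support \ B).filter (fun x => g x ∈ B)) with he | ⟨d, hd⟩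
      · obtain ⟨d, hd⟩ := hne
        exact ⟨d, hd, by rw [he]; exact Finset.empty_subset _⟩
      · refine ⟨d, (Finset.mem_filter.mp hd).1, ?_⟩
        intro x hx
        rw [Finset.mem_singleton]
        exact Finset.card_le_one.mp hD x hx d hd
    have hdB : d ∉ B := (Finset.mem_sdiff.mp hd).2
    refine ⟨insert d B, ?_, ?_, ?_⟩
    · intro x hx
      rcases Finset.mem_insert.mp hx with rfl | hx
      · exact (Finset.mem_sdiff.mp hd).1
      · exact hBS hx
    · rw [Finset.card_insert_of_notMem hdB, hBr]
    · have hsub : (g.support \ insert d B).filter (fun x => g x ∈ insert d B) ⊆ {g⁻¹ d} := by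
        intro x hx
        rw [Finset.mem_filter, Finset.mem_sdiff, Finset.mem_insert, Finset.mem_insert] at hx
        obtain ⟨⟨hxS, hxn⟩, hgx⟩ := hx
        push Not at hxn
        rw [Finset.mem_singleton]
        rcases hgx with hgx | hgx
        · rw [← hgx]; simp
        · exfalso
          have : x ∈ (g.support \ B).filter (fun x => g x ∈ B) :=
            Finset.mem_filter.mpr ⟨Finset.mem_sdiff.mpr ⟨hxS, hxn.2⟩, hgx⟩
          exact hxn.1 (Finset.mem_singleton.mp (hDd this))
      calc _ ≤ ({g⁻¹ d} : Finset α).card := Finset.card_le_card hsub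
        _ = 1 := Finset.card_singleton _

omit [Fintype α] in
theorem card_bound1 (D B : Finset α) (h : Perm α) :
    (D ∪ B ∪ B.image h).card ≤ D.card + B.card + B.card :=
  calc (D ∪ B ∪ B.image h).card ≤ (D ∪ B).card + (B.image h).card := Finset.card_union_le _ _
    _ ≤ D.card + B.card + B.card :=
      Nat.add_le_add (Finset.card_union_le _ _) Finset.card_image_le

omit [Fintype α] in
theorem card_bound2 (D B : Finset α) (h : Perm α) {c : α} (hc : c ∈ B) (hhc : h c ∈ B) :
    (D ∪ B ∪ B.image h).card ≤ D.card + B.card + (B.card - 1) := by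
  have hsub : D ∪ B ∪ B.image h ⊆ D ∪ B ∪ (B.erase c).image h := by
    intro x hx
    rw [Finset.mem_union] at hx ⊢
    rcases hx with hx | hx
    · exact Or.inl hx
    · obtain ⟨y, hy, rfl⟩ := Finset.mem_image.mp hx
      by_cases hyc : y = c
      · left; rw [hyc]; exact Finset.mem_union_right _ hhc
      · right; exact Finset.mem_image_of_mem _ (Finset.mem_erase.mpr ⟨hyc, hy⟩)
  calc (D ∪ B ∪ B.image h).card ≤ (D ∪ B ∪ (B.erase c).image h).card := Finset.card_le_card hsub
    _ ≤ (D ∪ B).card + ((B.erase c).image h).card := Finset.card_union_le _ _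
    _ ≤ D.card + B.card + (B.card - 1) := by
      refine Nat.add_le_add (Finset.card_union_le _ _) ?_
      calc _ ≤ (B.erase c).card := Finset.card_image_le
        _ = B.card - 1 := Finset.card_erase_of_mem hc

omit [Fintype α] [DecidableEq α] in
theorem comm_ne_one (g h : Perm α) {d : α} (hd : h d = d) (hgd : h (g d) ≠ g d) :
    g⁻¹ * h * g * h⁻¹ ≠ 1 := by
  intro h1
  have h2 : g⁻¹ (h (g (h⁻¹ (h d)))) = h d := Perm.congr_fun h1 (h d)
  have h3 : h⁻¹ (h d) = d := by rw [Perm.inv_eq_iff_eq]
  rw [h3, hd, Perm.inv_eq_iff_eq] at h2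
  exact hgd h2


theorem exists_smaller (G : Subgroup (Perm α)) {k : ℕ} (hkn : k ≤ Fintype.card α)
    (hG : IsMultiplyPretransitive G α k) (g : Perm α) (hg : g ∈ G)
    (hs4 : 4 ≤ g.support.card) (hs : g.support.card < 2 * k - 2) :
    ∃ z : Perm α, z ∈ G ∧ z ≠ 1 ∧ z.support.card < g.support.card := by
  by_cases hfull : ∃ b0, b0 ∉ g.support
  · obtain ⟨b0, hb0⟩ := hfull
    -- the size of `B`
    obtain ⟨r, hr1, hrs, hrk, h2r⟩ : ∃ r : ℕ, 1 ≤ r ∧ r ≤ g.support.card ∧
        g.support.card - r + 1 ≤ k ∧ 2 * r < g.support.card := by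
      by_cases h : g.support.card ≤ k
      · exact ⟨1, le_refl _, by omega, by omega, by omega⟩
      · exact ⟨g.support.card - k + 1, by omega, by omega, by omega, by omega⟩
    obtain ⟨B, hBS, hBr, hD⟩ := exists_almost_invariant g r hrs
    have hFB : g.support = (g.support \ B) ∪ B := (Finset.sdiff_union_of_subset hBS).symm
    have hFcard : (g.support \ B).card + 1 ≤ k := by
      rw [Finset.card_sdiff_of_subset hBS, hBr]; exact hrk
    have hb0F : b0 ∉ g.support \ B := fun h => hb0 (Finset.mem_sdiff.mp h).1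
    have hmem : ∀ h : Perm α, h ∈ G → g⁻¹ * h * g * h⁻¹ ∈ G := fun h hh =>
      G.mul_mem (G.mul_mem (G.mul_mem (G.inv_mem hg) hh) hg) (G.inv_mem hh)
    rcases Finset.eq_empty_or_nonempty ((g.support \ B).filter (fun x => g x ∈ B)) with hDe | ⟨d, hd⟩
    · -- `B` is invariant
      obtain ⟨c, hc⟩ : B.Nonempty := by rw [← Finset.card_pos]; omega
      have hcF : c ∉ g.support \ B := fun h => (Finset.mem_sdiff.mp h).2 hc
      obtain ⟨h, hhG, hfix, hhc⟩ := exists_fixing_map G hkn hG _ hFcard hcF hb0F
      refine ⟨g⁻¹ * h * g * h⁻¹, hmem h hhG, ?_, ?_⟩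
      · intro h1
        have h2 : g⁻¹ (h (g (h⁻¹ (h c)))) = h c := Perm.congr_fun h1 (h c)
        have h3 : h⁻¹ (h c) = c := by rw [Perm.inv_eq_iff_eq]
        rw [h3, hhc, Perm.inv_eq_iff_eq, Perm.notMem_support.mp hb0, ← hhc] at h2
        have h4 : g c = c := h.injective h2
        exact (Perm.mem_support.mp (hBS hc)) h4
      · calc (g⁻¹ * h * g * h⁻¹).support.card
            ≤ (((g.support \ B).filter (fun x => g x ∈ B)) ∪ B ∪ B.image h).card :=
              Finset.card_le_card (support_comm_subset g h _ B hFB hfix)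
          _ ≤ ((g.support \ B).filter (fun x => g x ∈ B)).card + B.card + B.card :=
              card_bound1 _ _ _
          _ < g.support.card := by rw [hDe, Finset.card_empty, hBr]; omega
    · -- `d ∉ B` with `g d ∈ B`
      obtain ⟨hdF, hgd⟩ := Finset.mem_filter.mp hd
      have hcF : g d ∉ g.support \ B := fun h => (Finset.mem_sdiff.mp h).2 hgd
      by_cases hr2 : 2 ≤ r
      · obtain ⟨b, hbB, hbc⟩ := Finset.exists_mem_ne (by omega : 1 < B.card) (g d)
        have hbF : b ∉ g.support \ B := fun h => (Finset.mem_sdiff.mp h).2 hbB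
        obtain ⟨h, hhG, hfix, hhc⟩ := exists_fixing_map G hkn hG _ hFcard hcF hbF
        refine ⟨g⁻¹ * h * g * h⁻¹, hmem h hhG, ?_, ?_⟩
        · exact comm_ne_one g h (hfix d hdF) (by rw [hhc]; exact hbc)
        · calc (g⁻¹ * h * g * h⁻¹).support.card
              ≤ (((g.support \ B).filter (fun x => g x ∈ B)) ∪ B ∪ B.image h).card :=
                Finset.card_le_card (support_comm_subset g h _ B hFB hfix)
            _ ≤ ((g.support \ B).filter (fun x => g x ∈ B)).card + B.card + (B.card - 1) :=
                card_bound2 _ _ _ hgd (by rw [hhc]; exact hbB)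
            _ < g.support.card := by rw [hBr]; omega
      · have hr1' : r = 1 := by omega
        have hb0c : b0 ≠ g d := fun h => hb0 (h ▸ hBS hgd)
        obtain ⟨h, hhG, hfix, hhc⟩ := exists_fixing_map G hkn hG _ hFcard hcF hb0F
        refine ⟨g⁻¹ * h * g * h⁻¹, hmem h hhG, ?_, ?_⟩
        · exact comm_ne_one g h (hfix d hdF) (by rw [hhc]; exact hb0c)
        · calc (g⁻¹ * h * g * h⁻¹).support.card
              ≤ (((g.support \ B).filter (fun x => g x ∈ B)) ∪ B ∪ B.image h).card :=
                Finset.card_le_card (support_comm_subset g h _ B hFB hfix)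
            _ ≤ ((g.support \ B).filter (fun x => g x ∈ B)).card + B.card + B.card :=
                card_bound1 _ _ _
            _ < g.support.card := by rw [hBr]; omega
  · -- every point is moved by `g`
    push Not at hfull
    have hcard : g.support.card = Fintype.card α := by
      rw [← Finset.card_univ]; congr 1; exact Finset.eq_univ_iff_forall.mpr hfull
    by_cases hsk : g.support.card ≤ k
    · -- `G` is everything
      have hk' : k = Fintype.card α := by omega
      have h1 : IsMultiplyPretransitive G α (Nat.card α - 1) :=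
        isMultiplyPretransitive_of_le (n := k) (by rw [Nat.card_eq_fintype_card]; omega)
          (by rw [Nat.card_eq_fintype_card]; omega)
      have htop : G = ⊤ := Perm.eq_top_of_isMultiplyPretransitive h1
      have h2 : 1 < Fintype.card α := by omega
      obtain ⟨a, b, hab⟩ := Fintype.exists_pair_of_one_lt_card h2
      refine ⟨swap a b, by rw [htop]; trivial, ?_, ?_⟩
      · intro h; exact hab (swap_eq_one_iff.mp h)
      · rw [Perm.support_swap hab, Finset.card_pair hab]; omega
    · -- choose `B` containing `g d0` but not `d0`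
      obtain ⟨d0, hd0⟩ : g.support.Nonempty := by rw [← Finset.card_pos]; omega
      have hgd0 : g d0 ≠ d0 := Perm.mem_support.mp hd0
      have hsub : ({g d0} : Finset α) ⊆ g.support.erase d0 := by
        intro x hx
        rw [Finset.mem_singleton] at hx
        rw [hx]
        exact Finset.mem_erase.mpr ⟨hgd0, Perm.apply_mem_support.mpr hd0⟩
      obtain ⟨B, hcB, hBsub, hBr⟩ := Finset.exists_subsuperset_card_eq hsub
        (n := g.support.card - k + 1) (by rw [Finset.card_singleton]; omega)
        (by rw [Finset.card_erase_of_mem hd0]; omega)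
      have hBS : B ⊆ g.support := fun x hx => Finset.mem_of_mem_erase (hBsub hx)
      have hgd : g d0 ∈ B := hcB (Finset.mem_singleton_self _)
      have hd0B : d0 ∉ B := fun h => (Finset.mem_erase.mp (hBsub h)).1 rfl
      have hdF : d0 ∈ g.support \ B := Finset.mem_sdiff.mpr ⟨hd0, hd0B⟩
      have hFB : g.support = (g.support \ B) ∪ B := (Finset.sdiff_union_of_subset hBS).symm
      have hFcard : (g.support \ B).card + 1 ≤ k := by
        rw [Finset.card_sdiff_of_subset hBS, hBr]; omega
      have hcF : g d0 ∉ g.support \ B := fun h => (Finset.mem_sdiff.mp h).2 hgd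
      obtain ⟨b, hbB, hbc⟩ := Finset.exists_mem_ne (by omega : 1 < B.card) (g d0)
      have hbF : b ∉ g.support \ B := fun h => (Finset.mem_sdiff.mp h).2 hbB
      obtain ⟨h, hhG, hfix, hhc⟩ := exists_fixing_map G hkn hG _ hFcard hcF hbF
      have hmem : g⁻¹ * h * g * h⁻¹ ∈ G :=
        G.mul_mem (G.mul_mem (G.mul_mem (G.inv_mem hg) hhG) hg) (G.inv_mem hhG)
      refine ⟨g⁻¹ * h * g * h⁻¹, hmem, ?_, ?_⟩
      · exact comm_ne_one g h (hfix d0 hdF) (by rw [hhc]; exact hbc)
      · -- `h` maps `B` into `B`
        have himg : B.image h ⊆ B := by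
          intro x hx
          obtain ⟨y, hy, rfl⟩ := Finset.mem_image.mp hx
          have hyS : h y ∈ g.support := hfull _
          rw [hFB, Finset.mem_union] at hyS
          rcases hyS with hyF | hyB
          · exfalso
            have h1 := hfix _ hyF
            have h2 : h y = y := h.injective h1
            rw [h2] at hyF
            exact (Finset.mem_sdiff.mp hyF).2 hy
          · exact hyB
        have hDle : ((g.support \ B).filter (fun x => g x ∈ B)).card ≤ B.card := by
          apply Finset.card_le_card_of_injOn (fun x => g x)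
          · intro x hx
            exact (Finset.mem_filter.mp (Finset.mem_coe.mp hx)).2
          · intro x _ y _ hxy
            exact g.injective hxy
        calc (g⁻¹ * h * g * h⁻¹).support.card
            ≤ (((g.support \ B).filter (fun x => g x ∈ B)) ∪ B ∪ B.image h).card :=
              Finset.card_le_card (support_comm_subset g h _ B hFB hfix)
          _ = (((g.support \ B).filter (fun x => g x ∈ B)) ∪ B).card := by
              rw [Finset.union_eq_left.mpr (himg.trans Finset.subset_union_right)]
          _ ≤ ((g.support \ B).filter (fun x => g x ∈ B)).card + B.card := Finset.card_union_le _ _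
          _ < g.support.card := by rw [hBr] at hDle ⊢; omega

/-- A `k`-transitive permutation group (`k ≥ 3`) with a non-identity element of support smaller than `2k - 2` contains a non-identity element of support at most 3, and therefore contains the alternating group. -/
theorem result {α : Type*} [Fintype α] [DecidableEq α] (G : Subgroup (Equiv.Perm α)) {k : ℕ} (hk : 3 ≤ k) (hkn : k ≤ Fintype.card α) (hG : MulAction.IsMultiplyPretransitive G α k) (g : Equiv.Perm α) (hg : g ∈ G) (hg1 : g ≠ 1) (hsupp : g.support.card < 2 * k - 2) : (∃ h : Equiv.Perm α, h ∈ G ∧ h ≠ 1 ∧ h.support.card ≤ 3) ∧ alternatingGroup α ≤ G := by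
  have key : ∀ m : ℕ, ∀ g : Perm α, g ∈ G → g ≠ 1 → g.support.card = m → m < 2 * k - 2 →
      ∃ h : Perm α, h ∈ G ∧ h ≠ 1 ∧ h.support.card ≤ 3 := by
    intro m
    induction m using Nat.strong_induction_on with
    | _ m ih =>
      intro g hg hg1 hm hlt
      by_cases h3 : m ≤ 3
      · exact ⟨g, hg, hg1, hm ▸ h3⟩
      · obtain ⟨z, hz, hz1, hzlt⟩ := exists_smaller G hkn hG g hg (by omega) (by omega)
        exact ih z.support.card (by omega) z hz hz1 rfl (by omega)
  obtain ⟨h, hhG, hh1, hh3⟩ := key _ g hg hg1 rfl hsupp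
  refine ⟨⟨h, hhG, hh1, hh3⟩, ?_⟩
  have h2 : IsMultiplyPretransitive G α 2 :=
    isMultiplyPretransitive_of_le (n := k) (by omega) (by rw [Nat.card_eq_fintype_card]; exact hkn)
  have hprim : IsPreprimitive G α := isPreprimitive_of_is_two_pretransitive h2
  have hc0 : h.support.card ≠ 0 := by
    rw [Ne, Finset.card_eq_zero, Perm.support_eq_empty_iff]; exact hh1
  have hc1 : h.support.card ≠ 1 := Perm.card_support_ne_one h
  have hc : h.support.card = 2 ∨ h.support.card = 3 := by omega
  rcases hc with hc | hc
  · have := Perm.subgroup_eq_top_of_isPreprimitive_of_isSwap_mem hprim h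
      (Perm.card_support_eq_two.mp hc) hhG
    rw [this]; exact le_top
  · exact Perm.alternatingGroup_le_of_isPreprimitive_of_isThreeCycle_mem hprim
      (card_support_eq_three_iff.mp hc) hhG

end Cfsg.Agent.S0711
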