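import Cfsg.Statements.S0712

set_option autoImplicit false
open Cfsg

namespace Cfsg.Agent.S0712

open MulAction SubMulAction

/-- General form: a primitive action in which the fixator of an `m`-set is doubly transitive on
the complement is `(m+2)`-transitive. -/
theorem jordan_two {G α : Type*} [Group G] [MulAction G α] [Finite α]
    (hG : IsPreprimitive G α) {s : Set α} {m : ℕ} (hsm : s.ncard = m) (hm : m + 2 ≤ Nat.card α)
    (h2 : IsMultiplyPretransitive (fixingSubgroup G s) (ofFixingSubgroup G s) 2) :
    IsMultiplyPretransitive G α (m + 2) := by
  induction m generalizing G α s with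
  | zero =>
    have hs : s = ∅ := by
      rwa [Set.ncard_eq_zero] at hsm
    subst hs
    rw [zero_add]
    exact IsPretransitive.of_embedding
      (ofFixingSubgroupEmpty_equivariantMap_bijective (M := G) (α := α)).surjective
  | succ n hrec =>
    have hne : s.Nonempty := by
      rw [← Set.ncard_pos, hsm]; exact Nat.succ_pos n
    obtain ⟨a, ha⟩ := hne
    let t : Set (ofStabilizer G a) := Subtype.val ⁻¹' s
    have hst : s = insert a (Subtype.val '' t) := by
      ext x
      by_cases hx : x = a <;> simp [t, hx, mem_ofStabilizer_iff, ha]
    have ha' : a ∉ Subtype.val '' t := by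
      intro h; rw [Set.mem_image] at h; obtain ⟨x, hx⟩ := h
      apply x.prop; rw [hx.right]; exact Set.mem_singleton a
    have hprim : IsPreprimitive (fixingSubgroup G s) (ofFixingSubgroup G s) :=
      isPreprimitive_of_is_two_pretransitive h2
    have hG2 : IsMultiplyPreprimitive G α 2 :=
      hG.is_two_preprimitive hsm (by omega) hprim
    have hGtr : IsPretransitive G α := hG.toIsPretransitive
    have ht_prim : IsPreprimitive (stabilizer G a) (ofStabilizer G a) := by
      rw [← is_one_preprimitive_iff]
      rw [← isMultiplyPreprimitive_succ_iff_ofStabilizer]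
      · exact hG2
      · norm_num
    have h2' : IsMultiplyPretransitive (fixingSubgroup G (insert a (Subtype.val '' t)))
        (ofFixingSubgroup G (insert a (Subtype.val '' t))) 2 :=
      IsPretransitive.of_embedding (ofFixingSubgroup_of_eq_bijective (hst := hst)).surjective
    have h2'' : IsMultiplyPretransitive (fixingSubgroup (stabilizer G a) t)
        (ofFixingSubgroup (stabilizer G a) t) 2 :=
      IsPretransitive.of_embedding ofFixingSubgroup_insert_map_bijective.surjective
    have htcard : t.ncard = n := by
      rw [← Set.ncard_image_of_injective t Subtype.val_injective]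
      apply Nat.add_right_cancel
      rw [← Set.ncard_insert_of_notMem ha', ← hst, hsm]
    have hcard : n + 2 ≤ Nat.card (ofStabilizer G a) := by
      have := nat_card_ofStabilizer_add_one_eq G a
      omega
    have := hrec ht_prim htcard hcard h2''
    exact ofStabilizer.isMultiplyPretransitive.mpr this

theorem result {α : Type*} [Fintype α] [DecidableEq α] (G : Subgroup (Equiv.Perm α)) (hG : MulAction.IsPreprimitive G α) (s : Set α) {m : ℕ} (hsm : s.ncard = m) (hm : m + 2 ≤ Fintype.card α) (h2 : MulAction.IsMultiplyPretransitive (fixingSubgroup G s) (SubMulAction.ofFixingSubgroup G s) 2) : MulAction.IsMultiplyPretransitive G α (m + 2) := by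
  apply jordan_two hG hsm _ h2
  rw [Nat.card_eq_fintype_card]; exact hm

end Cfsg.Agent.S0712
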