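import Cfsg.Statements.S0714
import Mathlib.GroupTheory.GroupAction.MultipleTransitivity
import Mathlib.Tactic

set_option autoImplicit false
set_option linter.unusedSimpArgs false
open Cfsg

namespace Cfsg.Agent.S0714

open Equiv

variable {α : Type*} [Fintype α] [DecidableEq α] {K : Type*} [Field K]

theorem permRep_apply (g : alternatingGroup α) (f : α → K) (x : α) :
    Cfsg.permRep K (alternatingGroup α) α g f x = f ((g : Perm α)⁻¹ x) := rfl

/-- Existence of a point outside a given finset of small cardinality. -/
theorem exists_notMem (s : Finset α) (h : s.card < Fintype.card α) : ∃ x, x ∉ s := by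
  by_contra hcon
  push Not at hcon
  have : s = Finset.univ := Finset.eq_univ_iff_forall.mpr hcon
  rw [this, Finset.card_univ] at h
  exact lt_irrefl _ h

/-- The difference of two basis vectors. -/
def ediff (a b : α) : α → K := fun x => (if x = a then 1 else 0) - (if x = b then 1 else 0)

theorem double_swap_mem (a b d e : α) (hab : a ≠ b) (hde : d ≠ e) :
    swap a b * swap d e ∈ alternatingGroup α := by
  rw [Equiv.Perm.mem_alternatingGroup]
  simp [Equiv.Perm.sign_swap hab, Equiv.Perm.sign_swap hde]

/-- Key step: a non-constant function in an invariant subspace produces some `e_a - e_b`. -/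
theorem exists_ediff_mem (hα : 5 ≤ Fintype.card α)
    (W : Subrepresentation (Cfsg.permRep K (alternatingGroup α) α)) (f : α → K)
    (hf : f ∈ W.toSubmodule) (hnc : ∃ x y, f x ≠ f y) :
    ∃ a b : α, a ≠ b ∧ ediff a b ∈ W.toSubmodule := by
  -- find distinct a b c with 2 f b ≠ f a + f c
  have h3 : ∃ a b c : α, a ≠ b ∧ a ≠ c ∧ b ≠ c ∧ 2 * f b ≠ f a + f c := by
    by_contra hcon
    push Not at hcon
    obtain ⟨x, y, hxy⟩ := hnc
    have hxy' : x ≠ y := fun h => hxy (by rw [h])
    obtain ⟨b, hb⟩ := exists_notMem ({x, y} : Finset α) (by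
      have := Finset.card_le_two (a := x) (b := y); omega)
    obtain ⟨c, hc⟩ := exists_notMem ({x, y, b} : Finset α) (by
      have := Finset.card_le_three (a := x) (b := y) (c := b); omega)
    simp only [Finset.mem_insert, Finset.mem_singleton, not_or] at hb hc
    have h1 := hcon x b c (Ne.symm hb.1) (Ne.symm hc.1) (Ne.symm hc.2.2)
    have h2 := hcon y b c (Ne.symm hb.2) (Ne.symm hc.2.1) (Ne.symm hc.2.2)
    apply hxy
    have : f x + f c = f y + f c := by rw [← h1, ← h2]
    exact add_right_cancel this
  obtain ⟨a, b, c, hab, hac, hbc, hne⟩ := h3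
  obtain ⟨d, hd⟩ := exists_notMem ({a, b, c} : Finset α) (by
    have := Finset.card_le_three (a := a) (b := b) (c := c); omega)
  obtain ⟨e, he⟩ := exists_notMem ({a, b, c, d} : Finset α) (by
    have := Finset.card_le_four (a := a) (b := b) (c := c) (d := d); omega)
  simp only [Finset.mem_insert, Finset.mem_singleton, not_or] at hd he
  obtain ⟨hda', hdb', hdc'⟩ := hd
  obtain ⟨hea', heb', hec', hed'⟩ := he
  have hda : d ≠ a := hda'
  have hdb : d ≠ b := hdb'
  have hdc : d ≠ c := hdc'
  have hea : e ≠ a := hea'
  have heb : e ≠ b := heb'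
  have hec : e ≠ c := hec'
  have hed : e ≠ d := hed'
  have hba := hab.symm
  have hca := hac.symm
  have hcb := hbc.symm
  have had := hda.symm
  have hbd := hdb.symm
  have hcd := hdc.symm
  have hae := hea.symm
  have hbe := heb.symm
  have hce := hec.symm
  have hde := hed.symm
  -- the 3-cycle g with g⁻¹ : a ↦ b ↦ c ↦ a
  let g : alternatingGroup α := ⟨swap b c * swap a b, double_swap_mem b c a b hbc hab⟩
  let s : alternatingGroup α := ⟨swap a b * swap d e, double_swap_mem a b d e hab hde⟩
  let h : α → K := f - Cfsg.permRep K (alternatingGroup α) α g f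
  have hh : h ∈ W.toSubmodule :=
    W.toSubmodule.sub_mem hf (W.apply_mem_toSubmodule g hf)
  let u : α → K := h - Cfsg.permRep K (alternatingGroup α) α s h
  have hu : u ∈ W.toSubmodule :=
    W.toSubmodule.sub_mem hh (W.apply_mem_toSubmodule s hh)
  have hginv : ∀ x, ((g : Perm α)⁻¹) x = swap a b (swap b c x) := by
    intro x
    simp [g, mul_inv_rev]
  have hsinv : ∀ x, ((s : Perm α)⁻¹) x = swap d e (swap a b x) := by
    intro x
    simp [s, mul_inv_rev]
  have hux : ∀ x, u x = f x - f (swap a b (swap b c x)) - f (swap d e (swap a b x))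
      + f (swap a b (swap b c (swap d e (swap a b x)))) := by
    intro x
    simp only [u, h, Pi.sub_apply, permRep_apply, hginv, hsinv]
    ring
  set lam : K := f a - 2 * f b + f c with hlam
  have hlam0 : lam ≠ 0 := by
    intro h0
    apply hne
    have : 2 * f b = f a + f c - lam := by rw [hlam]; ring
    rw [this, h0, sub_zero]
  have hueq : u = lam • ediff a b := by
    funext x
    rw [hux x]
    simp only [Pi.smul_apply, ediff, smul_eq_mul]
    by_cases hxa : x = a
    · rw [hxa]
      simp [swap_apply_of_ne_of_ne, swap_apply_left, swap_apply_right, hab, hac, hba, hca, hbc,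
        hcb, had, hae, hbd, hbe, hcd, hce, hda, hdb, hdc, hea, heb, hec, hed, hde, hlam]
      ring
    by_cases hxb : x = b
    · rw [hxb]
      simp [swap_apply_of_ne_of_ne, swap_apply_left, swap_apply_right, hab, hac, hba, hca, hbc,
        hcb, had, hae, hbd, hbe, hcd, hce, hda, hdb, hdc, hea, heb, hec, hed, hde, hlam]
      ring
    by_cases hxc : x = c
    · rw [hxc]
      simp [swap_apply_of_ne_of_ne, swap_apply_left, swap_apply_right, hab, hac, hba, hca, hbc,
        hcb, had, hae, hbd, hbe, hcd, hce, hda, hdb, hdc, hea, heb, hec, hed, hde]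
    by_cases hxd : x = d
    · rw [hxd]
      simp [swap_apply_of_ne_of_ne, swap_apply_left, swap_apply_right, hab, hac, hba, hca, hbc,
        hcb, had, hae, hbd, hbe, hcd, hce, hda, hdb, hdc, hea, heb, hec, hed, hde]
    by_cases hxe : x = e
    · rw [hxe]
      simp [swap_apply_of_ne_of_ne, swap_apply_left, swap_apply_right, hab, hac, hba, hca, hbc,
        hcb, had, hae, hbd, hbe, hcd, hce, hda, hdb, hdc, hea, heb, hec, hed, hde]
    · simp [swap_apply_of_ne_of_ne, hxa, hxb, hxc, hxd, hxe]
  refine ⟨a, b, hab, ?_⟩
  have : ediff a b = lam⁻¹ • u := by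
    rw [hueq, smul_smul, inv_mul_cancel₀ hlam0, one_smul]
  rw [this]
  exact W.toSubmodule.smul_mem _ hu

/-- The alternating group of degree at least 4 is doubly transitive. -/
theorem two_transitive (hα : 5 ≤ Fintype.card α) {a b c d : α} (hab : a ≠ b) (hcd : c ≠ d) :
    ∃ g : alternatingGroup α, (g : Perm α) a = c ∧ (g : Perm α) b = d := by
  have h1 := alternatingGroup.isMultiplyPretransitive α
  have h2 : MulAction.IsMultiplyPretransitive (alternatingGroup α) α 2 := by
    apply MulAction.isMultiplyPretransitive_of_le (n := Nat.card α - 2)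
    · rw [Nat.card_eq_fintype_card]; omega
    · exact Nat.sub_le _ _
  exact MulAction.is_two_pretransitive_iff.mp h2 hab hcd

theorem ediff_mem_all (hα : 5 ≤ Fintype.card α)
    (W : Subrepresentation (Cfsg.permRep K (alternatingGroup α) α)) {a b : α} (hab : a ≠ b)
    (h : ediff a b ∈ W.toSubmodule) (c d : α) : (ediff c d : α → K) ∈ W.toSubmodule := by
  by_cases hcd : c = d
  · subst hcd
    have : (ediff c c : α → K) = 0 := by funext x; simp [ediff]
    rw [this]; exact W.toSubmodule.zero_mem
  obtain ⟨g, hga, hgb⟩ := two_transitive hα hab hcd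
  have := W.apply_mem_toSubmodule g h
  have heq : Cfsg.permRep K (alternatingGroup α) α g (ediff a b) = ediff c d := by
    funext x
    rw [permRep_apply]
    simp only [ediff]
    have e1 : ((g : Perm α)⁻¹ x = a) ↔ x = c := by
      rw [← hga, Perm.inv_eq_iff_eq]
    have e2 : ((g : Perm α)⁻¹ x = b) ↔ x = d := by
      rw [← hgb, Perm.inv_eq_iff_eq]
    simp only [e1, e2]
  rw [heq] at this
  exact this

theorem sumZero_le (hα : 5 ≤ Fintype.card α)
    (W : Subrepresentation (Cfsg.permRep K (alternatingGroup α) α))
    (h : ∀ c d : α, (ediff c d : α → K) ∈ W.toSubmodule) :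
    (Cfsg.permSumZero K (alternatingGroup α) α).toSubmodule ≤ W.toSubmodule := by
  intro f hf
  have hf0 : ∑ x, f x = 0 := hf
  have hne : Nonempty α := by
    rw [← Fintype.card_pos_iff]; omega
  obtain ⟨x₀⟩ := hne
  have : f = ∑ x, f x • (ediff x x₀ : α → K) := by
    funext y
    simp only [Finset.sum_apply, Pi.smul_apply, ediff, smul_eq_mul, mul_sub, Finset.sum_sub_distrib]
    simp only [mul_ite, mul_one, mul_zero, Finset.sum_ite_eq, Finset.mem_univ, if_true]
    by_cases hy : y = x₀
    · simp [hy, hf0]
    · simp [hy]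
  rw [this]
  exact W.toSubmodule.sum_mem (fun x _ => W.toSubmodule.smul_mem _ (h x x₀))

theorem result {α : Type*} [Fintype α] [DecidableEq α] (hα : 5 ≤ Fintype.card α) {K : Type*} [Field K] (W : Subrepresentation (Cfsg.permRep K (alternatingGroup α) α)) : W.toSubmodule = ⊥ ∨ W = Cfsg.permConstants K (alternatingGroup α) α ∨ W = Cfsg.permSumZero K (alternatingGroup α) α ∨ W.toSubmodule = ⊤ := by
  by_cases hnc : ∃ f ∈ W.toSubmodule, ∃ x y, f x ≠ f y
  · -- contains a non-constant function: W ⊇ sum-zero
    right; right
    obtain ⟨f, hf, hxy⟩ := hnc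
    obtain ⟨a, b, hab, hmem⟩ := exists_ediff_mem hα W f hf hxy
    have hS := sumZero_le hα W (ediff_mem_all hα W hab hmem)
    by_cases hsum : ∃ f ∈ W.toSubmodule, ∑ x, f x ≠ 0
    · right
      obtain ⟨f, hf, hfs⟩ := hsum
      rw [eq_top_iff]
      intro v _
      have hv : v = (v - ((∑ x, v x) / (∑ x, f x)) • f) + ((∑ x, v x) / (∑ x, f x)) • f := by
        simp
      rw [hv]
      apply W.toSubmodule.add_mem _ (W.toSubmodule.smul_mem _ hf)
      apply hS
      change ∑ x, (v - ((∑ x, v x) / (∑ x, f x)) • f) x = 0
      simp only [Pi.sub_apply, Pi.smul_apply, smul_eq_mul, Finset.sum_sub_distrib,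
        ← Finset.mul_sum]
      field_simp
      ring
    · left
      push Not at hsum
      apply Subrepresentation.toSubmodule_injective
      exact le_antisymm (fun f hf => hsum f hf) hS
  · push Not at hnc
    by_cases hbot : W.toSubmodule = ⊥
    · left; exact hbot
    · right; left
      apply Subrepresentation.toSubmodule_injective
      have hne : Nonempty α := by
        rw [← Fintype.card_pos_iff]; omega
      obtain ⟨x₀⟩ := hne
      have hconst : ∀ f ∈ W.toSubmodule, f = f x₀ • (fun _ => (1 : K)) := by
        intro f hf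
        funext y
        simp [hnc f hf y x₀]
      apply le_antisymm
      · intro f hf
        change f ∈ Submodule.span K {fun _ => (1 : K)}
        rw [Submodule.mem_span_singleton]
        exact ⟨f x₀, (hconst f hf).symm⟩
      · change Submodule.span K {fun _ => (1 : K)} ≤ W.toSubmodule
        rw [Submodule.span_singleton_le_iff_mem]
        obtain ⟨f, hf, hf0⟩ := (Submodule.ne_bot_iff _).mp hbot
        have hfx : f x₀ ≠ 0 := by
          intro h0
          apply hf0
          rw [hconst f hf, h0, zero_smul]
        have : (fun _ => (1 : K)) = (f x₀)⁻¹ • f := by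
          funext y
          simp only [Pi.smul_apply, smul_eq_mul]
          rw [hnc f hf y x₀, inv_mul_cancel₀ hfx]
        rw [this]
        exact W.toSubmodule.smul_mem _ hf

end Cfsg.Agent.S0714
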