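import Cfsg.Statements.S0715
import Cfsg.Agent.Lib.Helper81_PermChar
import Cfsg.Agent.Lib.Helper3_CharComplete
import Cfsg.Agent.Lib.Helper3_CharDegree
import Cfsg.Agent.Lib.Helper75_CharProd
import Cfsg.Agent.Lib.Helper80_CharBasic

set_option autoImplicit false
open Cfsg

namespace Cfsg.Agent.S0715


open scoped ComplexConjugate
open MulAction
open Cfsg.Agent.Lib.Helper81_PermChar Cfsg.Agent.Lib.Helper81_IntTrace
  Cfsg.Agent.Lib.Helper3_CharBridge Cfsg.Agent.Lib.Helper3_CharOrtho
  Cfsg.Agent.Lib.Helper3_CharComplete Cfsg.Agent.Lib.Helper80_CharBasic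

section
variable {G : Type*} [Group G] [Fintype G] {Ω : Type*} [Fintype Ω] [MulAction G Ω]

/-- the class function `g ↦ trace (A ∘ P g)` for the adjacency operator of an orbital -/
noncomputable def orbTrace [DecidableEq Ω] (a b : Ω) : G → ℂ :=
  fun g => LinearMap.trace ℂ (Ω → ℂ) (adj (orbital G a b) ∘ₗ Cfsg.permRep ℂ G Ω g)

omit [Fintype G] in
theorem orbTrace_one [DecidableEq Ω] {a b : Ω} (hab : b ≠ a) : orbTrace (G := G) a b 1 = 0 := by
  classical
  unfold orbTrace
  rw [map_one, Module.End.one_eq_id, LinearMap.comp_id, trace_adj]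
  refine Finset.sum_eq_zero fun ω _ => ?_
  rw [if_neg (not_orbital_self hab ω)]

omit [Fintype G] in
theorem isClassFunction_orbTrace [DecidableEq Ω] (a b : Ω) :
    Cfsg.IsClassFunction G (orbTrace (G := G) a b) := by
  intro g h
  unfold orbTrace
  have hc := adj_comm (G := G) (orbital G a b) (orbital_smul a b)
  rw [map_mul, map_mul, ← Module.End.mul_eq_comp, ← Module.End.mul_eq_comp, ← mul_assoc,
    ← mul_assoc, LinearMap.trace_mul_comm, ← mul_assoc, ← mul_assoc]
  have h1 : Cfsg.permRep ℂ G Ω h⁻¹ * adj (orbital G a b) =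
      adj (orbital G a b) * Cfsg.permRep ℂ G Ω h⁻¹ := (hc h⁻¹).symm
  rw [h1, mul_assoc (adj (orbital G a b)), ← map_mul, inv_mul_cancel, map_one, mul_one]

/-- integrality and vanishing of the coefficients of `orbTrace` -/
theorem classInner_orbTrace [DecidableEq Ω] (a b : Ω) {χ : G → ℂ}
    (hχ : Cfsg.IsIrrCharacter G χ) :
    IsIntegral ℤ (Cfsg.classInner (orbTrace (G := G) a b) χ) ∧
      (Cfsg.classInner (fun g : G => (Nat.card (MulAction.fixedBy Ω g) : ℂ)) χ = 0 →
        Cfsg.classInner (orbTrace (G := G) a b) χ = 0) := by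
  obtain ⟨n, τ, -, hτ⟩ := Cfsg.Agent.Lib.Helper75_CharProd.isIrrCharacter_conj hχ
  have hcard : (Nat.card G : ℂ) ≠ 0 := by
    rw [Nat.card_eq_fintype_card]; exact Nat.cast_ne_zero.mpr Fintype.card_ne_zero
  have hmain := avg_trace_main τ (Cfsg.permRep ℂ G Ω) (adj (orbital G a b))
    (isIntegral_adj _) (adj_comm (G := G) (orbital G a b) (orbital_smul a b))
  have e1 : Cfsg.classInner (orbTrace (G := G) a b) χ = (Nat.card G : ℂ)⁻¹ *
      ∑ g, τ.character g *
        LinearMap.trace ℂ (Ω → ℂ) (adj (orbital G a b) ∘ₗ Cfsg.permRep ℂ G Ω g) := by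
    unfold Cfsg.classInner orbTrace
    congr 1
    refine Finset.sum_congr rfl fun g _ => ?_
    rw [hτ, mul_comm]
  have e2 : Cfsg.classInner (fun g : G => (Nat.card (MulAction.fixedBy Ω g) : ℂ)) χ =
      (Nat.card G : ℂ)⁻¹ * ∑ g, τ.character g * (Cfsg.permRep ℂ G Ω).character g := by
    unfold Cfsg.classInner
    congr 1
    refine Finset.sum_congr rfl fun g _ => ?_
    rw [hτ, permRep_character, mul_comm]
  refine ⟨?_, ?_⟩
  · rw [e1]; exact hmain.1
  · intro h0
    rw [e2] at h0
    have h0' : ∑ g, τ.character g * (Cfsg.permRep ℂ G Ω).character g = 0 := by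
      rcases mul_eq_zero.mp h0 with h | h
      · exact absurd (inv_eq_zero.mp h) hcard
      · exact h
    rw [e1, hmain.2 h0', mul_zero]

end

/-- If a natural number `f` divides the degree of every non-principal irreducible constituent of the permutation character of a transitive group, then `f` divides every non-trivial subdegree. -/
theorem result {G : Type*} [Group G] [Fintype G] {Ω : Type*} [Fintype Ω] [MulAction G Ω] [MulAction.IsPretransitive G Ω] (f : ℕ) (hf : ∀ χ : G → ℂ, Cfsg.IsIrrCharacter G χ → χ ≠ (fun _ => 1) → Cfsg.classInner (fun g : G => (Nat.card (MulAction.fixedBy Ω g) : ℂ)) χ ≠ 0 → ∃ m : ℕ, χ 1 = (f : ℂ) * m) (a b : Ω) (hab : b ≠ a) : f ∣ Nat.card (MulAction.orbit (MulAction.stabilizer G a) b) := by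
  classical
  have : Nonempty Ω := ⟨a⟩
  set d := Nat.card (MulAction.orbit (MulAction.stabilizer G a) b) with hd
  set N : G → ℂ := orbTrace (G := G) a b with hN
  have hθ1 : Cfsg.classInner N (fun _ => 1) = (d : ℂ) :=
    classInner_trace_adj_one (G := G) (orbital G a b) d (fun ω => card_orbital a b ω)
  have hexp := classFunction_eq_sum N (isClassFunction_orbTrace a b)
  have h1 := congrFun hexp 1
  rw [hN, orbTrace_one hab, ← hN, Finset.sum_apply] at h1
  simp only [Pi.smul_apply, smul_eq_mul] at h1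
  -- choose integral cofactors
  have hw : ∀ χ : Cfsg.IrrCharacter G, ∃ w : ℂ, IsIntegral ℤ w ∧
      (χ ≠ oneIrr G → Cfsg.classInner N χ * (χ : G → ℂ) 1 = (f : ℂ) * w) := by
    intro χ
    have hc := classInner_orbTrace (G := G) a b χ.2
    by_cases h0 : Cfsg.classInner (fun g : G => (Nat.card (MulAction.fixedBy Ω g) : ℂ)) χ = 0
    · refine ⟨0, isIntegral_zero, fun _ => ?_⟩
      rw [← hN] at hc
      rw [hc.2 h0, zero_mul, mul_zero]
    · by_cases h1 : χ = oneIrr G
      · exact ⟨0, isIntegral_zero, fun h => absurd h1 h⟩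
      · have hne : (χ : G → ℂ) ≠ fun _ => 1 := by
          intro h
          apply h1
          exact Subtype.ext h
        obtain ⟨m, hm⟩ := hf χ χ.2 hne h0
        refine ⟨Cfsg.classInner N χ * m, ?_, fun _ => ?_⟩
        · exact IsIntegral.mul (by rw [hN]; exact hc.1) (isIntegral_algebraMap (x := (m : ℤ)) |> fun h => by simpa using h)
        · rw [hm]; ring
  choose w hw1 hw2 using hw
  rw [← Finset.add_sum_erase _ _ (Finset.mem_univ (oneIrr G))] at h1
  have h2 : Cfsg.classInner N (oneIrr G : G → ℂ) * (oneIrr G : G → ℂ) 1 = (d : ℂ) := by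
    change Cfsg.classInner N (fun _ => 1) * 1 = _
    rw [mul_one, hθ1]
  rw [h2] at h1
  have h3 : ∑ χ ∈ Finset.univ.erase (oneIrr G), Cfsg.classInner N χ * (χ : G → ℂ) 1 =
      (f : ℂ) * ∑ χ ∈ Finset.univ.erase (oneIrr G), w χ := by
    rw [Finset.mul_sum]
    refine Finset.sum_congr rfl fun χ hχ => ?_
    exact hw2 χ (Finset.ne_of_mem_erase hχ)
  rw [h3] at h1
  set z := ∑ χ ∈ Finset.univ.erase (oneIrr G), w χ with hz
  have hzi : IsIntegral ℤ z := IsIntegral.sum _ fun χ _ => hw1 χ
  have h4 : (d : ℂ) = (f : ℂ) * (-z) := by linear_combination -h1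
  by_cases hf0 : f = 0
  · rw [hf0, Nat.cast_zero, zero_mul] at h4
    have : d = 0 := by exact_mod_cast h4
    rw [this]
    exact dvd_zero f
  · apply Cfsg.Agent.Lib.Helper3_CharDegree.dvd_of_isIntegral_div hf0
    have hfc : (f : ℂ) ≠ 0 := Nat.cast_ne_zero.mpr hf0
    rw [h4, mul_div_cancel_left₀ _ hfc]
    exact hzi.neg

end Cfsg.Agent.S0715
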