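import Cfsg.Statements.S0716
import Cfsg.Agent.S0715
import Cfsg.Agent.Lib.Helper81_Rank

set_option autoImplicit false
open Cfsg

namespace Cfsg.Agent.S0716


open MulAction
open Cfsg.Agent.Lib.Helper81_Rank Cfsg.Agent.Lib.Helper80_CharBasic

section
variable {G : Type*} [Group G] [Fintype G] {Ω : Type*} [Fintype Ω] [MulAction G Ω]
  [MulAction.IsPretransitive G Ω]

theorem partA (a : Ω) (f : ℕ)
    (hf : ∀ χ : G → ℂ, Cfsg.IsIrrCharacter G χ → χ ≠ (fun _ => 1) →
      Cfsg.classInner (fun g : G => (Nat.card (MulAction.fixedBy Ω g) : ℂ)) χ ≠ 0 → χ 1 = f) :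
    (∀ χ : G → ℂ, Cfsg.IsIrrCharacter G χ →
      Cfsg.classInner (fun g : G => (Nat.card (MulAction.fixedBy Ω g) : ℂ)) χ = 0 ∨
      Cfsg.classInner (fun g : G => (Nat.card (MulAction.fixedBy Ω g) : ℂ)) χ = 1) ∧
    ∀ b : Ω, b ≠ a → Nat.card (MulAction.orbit (MulAction.stabilizer G a) b) = f := by
  classical
  obtain ⟨m, deg, hm, hdeg, hdegpos, hm1, hn, hr⟩ := perm_data (G := G) a
  have : Fintype (orbitRel.Quotient (stabilizer G a) Ω) := Fintype.ofFinite _
  have hpart := card_eq_sum_orbits' (stabilizer G a) Ω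
  set qa : orbitRel.Quotient (stabilizer G a) Ω := Quotient.mk'' a with hqa
  have hf' : ∀ χ : Cfsg.IrrCharacter G, χ ≠ oneIrr G → m χ ≠ 0 → deg χ = f := by
    intro χ h1 h2
    have := hf χ χ.2 (fun h => h1 (Subtype.ext h)) (by rw [hm]; exact_mod_cast h2)
    rw [hdeg] at this
    exact_mod_cast this
  have hdeg1 : deg (oneIrr G) = 1 := by
    have := hdeg (oneIrr G)
    change (1 : ℂ) = _ at this
    exact_mod_cast this.symm
  have hn' : Fintype.card Ω = 1 + f * ∑ χ ∈ Finset.univ.erase (oneIrr G), m χ := by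
    rw [hn, ← Finset.add_sum_erase _ _ (Finset.mem_univ (oneIrr G)), hm1, hdeg1, Finset.mul_sum]
    congr 1
    refine Finset.sum_congr rfl fun χ hχ => ?_
    by_cases h0 : m χ = 0
    · rw [h0]; simp
    · rw [hf' χ (Finset.ne_of_mem_erase hχ) h0, mul_comm]
  have hr' : Nat.card (orbitRel.Quotient (stabilizer G a) Ω) =
      1 + ∑ χ ∈ Finset.univ.erase (oneIrr G), m χ ^ 2 := by
    rw [hr, ← Finset.add_sum_erase _ _ (Finset.mem_univ (oneIrr G)), hm1]
    norm_num
  have hcqa : Nat.card qa.orbit = 1 := by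
    rw [hqa, orbitRel.Quotient.orbit_mk, orbit_stabilizer_self]
    simp
  have hpart' : Fintype.card Ω = 1 + ∑ q ∈ Finset.univ.erase qa, Nat.card q.orbit := by
    rw [hpart, ← Finset.add_sum_erase _ _ (Finset.mem_univ qa), hcqa]
  have hcardQ : (Finset.univ.erase qa).card =
      ∑ χ ∈ Finset.univ.erase (oneIrr G), m χ ^ 2 := by
    rw [Finset.card_erase_of_mem (Finset.mem_univ _), Finset.card_univ,
      ← Nat.card_eq_fintype_card, hr']
    simp
  have hdiv : ∀ b, b ≠ a → f ∣ Nat.card (orbit (stabilizer G a) b) := by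
    intro b hb
    refine Cfsg.Agent.S0715.result f ?_ a b hb
    intro χ hχ hne h0
    exact ⟨1, by rw [hf χ hχ hne h0]; simp⟩
  have hposb : ∀ b : Ω, 0 < Nat.card (orbit (stabilizer G a) b) := by
    intro b
    have : Nonempty (orbit (stabilizer G a) b) := ⟨⟨b, mem_orbit_self b⟩⟩
    exact Nat.card_pos
  have hq : ∀ q ∈ Finset.univ.erase qa, f ∣ Nat.card q.orbit ∧ 0 < Nat.card q.orbit := by
    intro q hq
    have hne := Finset.ne_of_mem_erase hq
    induction q using Quotient.inductionOn' with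
    | h b =>
      rw [orbitRel.Quotient.orbit_mk]
      have hb : b ≠ a := by
        rintro rfl
        exact hne rfl
      exact ⟨hdiv b hb, hposb b⟩
  have hbq : ∀ b, b ≠ a →
      (Quotient.mk'' b : orbitRel.Quotient (stabilizer G a) Ω) ∈ Finset.univ.erase qa := by
    intro b hb
    refine Finset.mem_erase.mpr ⟨?_, Finset.mem_univ _⟩
    intro h
    have h1 : b ∈ orbit (stabilizer G a) a := by
      have := Quotient.eq''.mp h
      exact this
    rw [orbit_stabilizer_self] at h1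
    exact hb h1
  have hmf : (∀ χ : Cfsg.IrrCharacter G, χ ≠ oneIrr G → m χ ≤ 1) →
      ∀ χ : G → ℂ, Cfsg.IsIrrCharacter G χ →
      Cfsg.classInner (fun g : G => (Nat.card (MulAction.fixedBy Ω g) : ℂ)) χ = 0 ∨
      Cfsg.classInner (fun g : G => (Nat.card (MulAction.fixedBy Ω g) : ℂ)) χ = 1 := by
    intro hle χ hχ
    have h1 := hm ⟨χ, hχ⟩
    change Cfsg.classInner _ χ = _ at h1
    rw [h1]
    by_cases h2 : (⟨χ, hχ⟩ : Cfsg.IrrCharacter G) = oneIrr G
    · right
      rw [h2, hm1]; norm_num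
    · have := hle _ h2
      rcases Nat.le_one_iff_eq_zero_or_eq_one.mp this with h | h
      · left; rw [h]; norm_num
      · right; rw [h]; norm_num
  by_cases hf0 : f = 0
  · refine ⟨hmf ?_, ?_⟩
    · intro χ h1
      by_contra h0
      have h2 : m χ ≠ 0 := by omega
      have := hf' χ h1 h2
      have := hdegpos χ
      omega
    · intro b hb
      have h1 := hdiv b hb
      rw [hf0] at h1
      have h2 := zero_dvd_iff.mp h1
      have := hposb b
      omega
  · have hfpos : 0 < f := Nat.pos_of_ne_zero hf0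
    obtain ⟨hA, hB⟩ := arith_core (Finset.univ.erase qa) (Finset.univ.erase (oneIrr G))
      (fun q => Nat.card q.orbit) m f hfpos
      (fun q hq' => Nat.le_of_dvd (hq q hq').2 (hq q hq').1) (by omega) hcardQ
    refine ⟨hmf fun χ h1 => hA χ (Finset.mem_erase.mpr ⟨h1, Finset.mem_univ _⟩), ?_⟩
    intro b hb
    have := hB _ (hbq b hb)
    simp only [orbitRel.Quotient.orbit_mk] at this
    exact this

end

/-- (a) If all non-principal irreducible constituents of the permutation character of a transitive group have the same degree `f`, the character is multiplicity-free and all non-trivial subdegrees equal `f`. (b) A transitive group of rank at most 5 has multiplicity-free permutation character. -/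
theorem result {G : Type*} [Group G] [Fintype G] {Ω : Type*} [Fintype Ω] [MulAction G Ω] [MulAction.IsPretransitive G Ω] (a : Ω) : ((f : ℕ) → (∀ χ : G → ℂ, Cfsg.IsIrrCharacter G χ → χ ≠ (fun _ => 1) → Cfsg.classInner (fun g : G => (Nat.card (MulAction.fixedBy Ω g) : ℂ)) χ ≠ 0 → χ 1 = f) → (∀ χ : G → ℂ, Cfsg.IsIrrCharacter G χ → Cfsg.classInner (fun g : G => (Nat.card (MulAction.fixedBy Ω g) : ℂ)) χ = 0 ∨ Cfsg.classInner (fun g : G => (Nat.card (MulAction.fixedBy Ω g) : ℂ)) χ = 1) ∧ ∀ b : Ω, b ≠ a → Nat.card (MulAction.orbit (MulAction.stabilizer G a) b) = f) ∧ (Nat.card (MulAction.orbitRel.Quotient (MulAction.stabilizer G a) Ω) ≤ 5 → ∀ χ : G → ℂ, Cfsg.IsIrrCharacter G χ → Cfsg.classInner (fun g : G => (Nat.card (MulAction.fixedBy Ω g) : ℂ)) χ = 0 ∨ Cfsg.classInner (fun g : G => (Nat.card (MulAction.fixedBy Ω g) : ℂ)) χ = 1) := by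
  classical
  refine ⟨fun f hf => partA a f hf, ?_⟩
  intro hrank χ₀ hχ₀
  obtain ⟨m, deg, hm, hdeg, hdegpos, hm1, hn, hr⟩ := perm_data (G := G) a
  have h1 := hm ⟨χ₀, hχ₀⟩
  change Cfsg.classInner _ χ₀ = _ at h1
  by_cases h2 : m ⟨χ₀, hχ₀⟩ ≤ 1
  · rw [h1]
    rcases Nat.le_one_iff_eq_zero_or_eq_one.mp h2 with h | h
    · left; rw [h]; norm_num
    · right; rw [h]; norm_num
  · exfalso
    push Not at h2
    set χ' : Cfsg.IrrCharacter G := ⟨χ₀, hχ₀⟩ with hχ'
    have hne1 : χ' ≠ oneIrr G := by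
      intro h; rw [h, hm1] at h2; omega
    -- all other nontrivial multiplicities vanish
    have hsum : ∑ χ, m χ ^ 2 ≤ 5 := by rw [← hr]; exact hrank
    have hsplit : ∑ χ, m χ ^ 2 = m (oneIrr G) ^ 2 + (m χ' ^ 2 +
        ∑ χ ∈ (Finset.univ.erase (oneIrr G)).erase χ', m χ ^ 2) := by
      rw [← Finset.add_sum_erase _ _ (Finset.mem_univ (oneIrr G)),
        ← Finset.add_sum_erase _ _ (Finset.mem_erase.mpr ⟨hne1, Finset.mem_univ _⟩)]
    have h4 : 4 ≤ m χ' ^ 2 := by nlinarith
    have hrest : ∑ χ ∈ (Finset.univ.erase (oneIrr G)).erase χ', m χ ^ 2 = 0 := by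
      rw [hsplit, hm1] at hsum
      omega
    have hzero : ∀ χ : Cfsg.IrrCharacter G, χ ≠ oneIrr G → χ ≠ χ' → m χ = 0 := by
      intro χ hχ1 hχ2
      have := (Finset.sum_eq_zero_iff.mp hrest) χ
        (Finset.mem_erase.mpr ⟨hχ2, Finset.mem_erase.mpr ⟨hχ1, Finset.mem_univ _⟩⟩)
      exact pow_eq_zero_iff (by norm_num) |>.mp this
    have hA := (partA a (deg χ') ?_).1 χ₀ hχ₀
    · rw [h1] at hA
      rcases hA with h | h
      · have : m χ' = 0 := by exact_mod_cast h
        omega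
      · have : m χ' = 1 := by exact_mod_cast h
        omega
    · intro χ hχ hne h0
      have h5 := hm ⟨χ, hχ⟩
      change Cfsg.classInner _ χ = _ at h5
      have h6 : (⟨χ, hχ⟩ : Cfsg.IrrCharacter G) ≠ oneIrr G := by
        intro h
        apply hne
        exact congrArg Subtype.val h
      by_cases h7 : (⟨χ, hχ⟩ : Cfsg.IrrCharacter G) = χ'
      · have h8 : χ = χ₀ := congrArg Subtype.val h7
        rw [h8]
        exact hdeg χ'
      · exfalso
        apply h0
        rw [h5, hzero _ h6 h7]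
        norm_num

end Cfsg.Agent.S0716
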