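import Cfsg.Statements.S0717
import Cfsg.Agent.Lib.Helper81_SelfPaired
import Cfsg.Agent.Lib.Helper81_RealConstituent
import Cfsg.Agent.Lib.Helper81_Rank

set_option autoImplicit false
open Cfsg

namespace Cfsg.Agent.S0717


open scoped ComplexConjugate
open MulAction
open Cfsg.Agent.Lib.Helper81_Rank Cfsg.Agent.Lib.Helper81_SelfPaired
  Cfsg.Agent.Lib.Helper81_RealConstituent Cfsg.Agent.Lib.Helper74_FS
  Cfsg.Agent.Lib.Helper3_CharBridge Cfsg.Agent.Lib.Helper3_CharOrtho
  Cfsg.Agent.Lib.Helper3_CharComplete Cfsg.Agent.Lib.Helper75_CharArith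
  Cfsg.Agent.Lib.Helper80_CharBasic

section
variable {G : Type*} [Group G] [Fintype G]

/-- a real-valued irreducible character has indicator `±1` -/
theorem fsInd_of_real {χ : G → ℂ} (hχ : Cfsg.IsIrrCharacter G χ)
    (hreal : ∀ g : G, (χ g).im = 0) : fsInd χ = 1 ∨ fsInd χ = -1 := by
  obtain ⟨n, ρ, hirr, rfl⟩ := hχ
  have := hirr
  rcases fsInd_trichotomy ρ with ⟨-, hbot⟩ | ⟨-, h⟩
  · exfalso
    obtain ⟨M, hM0, hM⟩ := exists_invariant_form_ne_zero ρ hreal
    rw [hbot, Submodule.mem_bot] at hM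
    exact hM0 hM
  · exact h

variable {Ω : Type*} [Fintype Ω] [MulAction G Ω] [MulAction.IsPretransitive G Ω]

/-- a real constituent of multiplicity one of a transitive permutation character has
indicator `1` -/
theorem fsInd_eq_one_of_constituent (a : Ω) {χ : G → ℂ} (hχ : Cfsg.IsIrrCharacter G χ)
    (hreal : ∀ g : G, (χ g).im = 0)
    (h1 : Cfsg.classInner (fun g : G => (Nat.card (MulAction.fixedBy Ω g) : ℂ)) χ = 1) :
    fsInd χ = 1 := by
  classical
  obtain ⟨n, τ, hirr, rfl⟩ := hχ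
  have := hirr
  apply fsInd_eq_one_of_invariant_line τ hreal (stabilizer G a)
  have : Fintype (stabilizer G a) := Fintype.ofFinite _
  have hcard : (Nat.card (stabilizer G a) : ℂ) ≠ 0 := by
    rw [Nat.cast_ne_zero]; exact Nat.card_pos.ne'
  have : Invertible (Nat.card (stabilizer G a) : ℂ) := invertibleOfNonzero hcard
  have hπ := Cfsg.Agent.S0190.result (G := G) Ω a
  have hfr := Cfsg.Agent.Lib.Helper75_Induced.frobenius_reciprocity (stabilizer G a)
    (fun _ => 1) τ.character (isClassFunction_of_isCharacter (isCharacter_of_rep τ))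
  rw [← hπ, h1] at hfr
  have h2 := Representation.card_inv_mul_sum_char_eq_finrank
    (ρ := (τ.comp (stabilizer G a).subtype : Representation ℂ (stabilizer G a) (Fin n → ℂ)))
  have h3 : Cfsg.classInner (fun _ : stabilizer G a => (1 : ℂ))
      (fun h : stabilizer G a => τ.character h) =
      (Nat.card (stabilizer G a) : ℂ)⁻¹ * ∑ h : stabilizer G a,
        Representation.character (τ.comp (stabilizer G a).subtype :
          Representation ℂ (stabilizer G a) (Fin n → ℂ)) h := by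
    unfold Cfsg.classInner
    congr 1
    refine Finset.sum_congr rfl fun h _ => ?_
    rw [one_mul, Complex.conj_eq_iff_im.mpr (hreal h)]
    rfl
  rw [h3, h2] at hfr
  exact_mod_cast hfr.symm

end

/-- All suborbits of a transitive group are self-paired (every pair of points is interchanged by some group element) if and only if the permutation character is multiplicity-free and each of its irreducible constituents is real-valued. -/
theorem result {G : Type*} [Group G] [Fintype G] {Ω : Type*} [Fintype Ω] [MulAction G Ω] [MulAction.IsPretransitive G Ω] : (∀ a b : Ω, ∃ g : G, g • a = b ∧ g • b = a) ↔ ∀ χ : G → ℂ, Cfsg.IsIrrCharacter G χ → Cfsg.classInner (fun g : G => (Nat.card (MulAction.fixedBy Ω g) : ℂ)) χ ≠ 0 → Cfsg.classInner (fun g : G => (Nat.card (MulAction.fixedBy Ω g) : ℂ)) χ = 1 ∧ ∀ g : G, (starRingEnd ℂ) (χ g) = χ g := by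
  classical
  rcases isEmpty_or_nonempty Ω with hΩ | ⟨⟨a⟩⟩
  · constructor
    · intro _ χ hχ h0
      exfalso
      apply h0
      unfold Cfsg.classInner
      have : ∀ g : G, (Nat.card (MulAction.fixedBy Ω g) : ℂ) = 0 := by
        intro g
        have : IsEmpty (MulAction.fixedBy Ω g) := ⟨fun x => hΩ.false x.1⟩
        rw [Nat.card_of_isEmpty, Nat.cast_zero]
      simp only [this, zero_mul, Finset.sum_const_zero, mul_zero]
    · intro _ a _
      exact (hΩ.false a).elim
  have : Nonempty Ω := ⟨a⟩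
  have hchar : Cfsg.IsCharacter G (fun g : G => (Nat.card (MulAction.fixedBy Ω g) : ℂ)) :=
    isCharacter_perm
  obtain ⟨m, hm, hsum⟩ := exists_multiplicities hchar
  have hcardG : (Nat.card G : ℂ) ≠ 0 := card_ne_zero_complex
  -- integer indicators
  have hk : ∀ χ : Cfsg.IrrCharacter G, ∃ k : ℤ, fsInd (χ : G → ℂ) = (k : ℂ) ∧ k ≤ 1 ∧
      (k = 1 → ∀ g : G, ((χ : G → ℂ) g).im = 0) := by
    intro χ
    rcases fsInd_irr χ.2 with h | ⟨hr, h | h⟩
    · exact ⟨0, by rw [h]; norm_num, by norm_num, by norm_num⟩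
    · exact ⟨1, by rw [h]; norm_num, le_refl _, fun _ => hr⟩
    · exact ⟨-1, by rw [h]; norm_num, by norm_num, by norm_num⟩
  choose k hk1 hk2 hk3 using hk
  -- the two sums
  have hS1 : ((∑ g : G, Nat.card (MulAction.fixedBy Ω (g * g)) : ℕ) : ℂ) =
      (Nat.card G : ℂ) * ((∑ χ, (m χ : ℤ) * k χ : ℤ) : ℂ) := by
    push_cast
    have h1 : ∀ g : G, (Nat.card (MulAction.fixedBy Ω (g * g)) : ℂ) =
        ∑ χ : Cfsg.IrrCharacter G, (m χ : ℂ) * (χ : G → ℂ) (g * g) := by
      intro g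
      have := congrFun hsum (g * g)
      rw [Finset.sum_apply] at this
      simpa using this
    simp_rw [h1]
    rw [Finset.sum_comm, Finset.mul_sum]
    refine Finset.sum_congr rfl fun χ _ => ?_
    rw [← Finset.mul_sum, ← hk1 χ]
    unfold fsInd
    rw [← mul_assoc, mul_comm (Nat.card G : ℂ), mul_assoc, ← mul_assoc (Nat.card G : ℂ),
      mul_inv_cancel₀ hcardG, one_mul]
  have hS2 : ((∑ g : G, Nat.card (MulAction.fixedBy Ω g) ^ 2 : ℕ) : ℂ) =
      (Nat.card G : ℂ) * ((∑ χ, (m χ : ℤ) * m χ : ℤ) : ℂ) := by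
    have h1 := classInner_self_eq_sum (isClassFunction_of_isCharacter hchar)
    simp only [hm, Complex.conj_natCast] at h1
    unfold Cfsg.classInner at h1
    simp only [Complex.conj_natCast] at h1
    push_cast
    rw [← h1, ← mul_assoc, mul_inv_cancel₀ hcardG, one_mul]
    exact Finset.sum_congr rfl fun g _ => sq _
  have hiff : (∀ a b : Ω, ∃ g : G, g • a = b ∧ g • b = a) ↔
      ∑ χ, (m χ : ℤ) * k χ = ∑ χ, (m χ : ℤ) * m χ := by
    rw [all_swap_iff]
    constructor
    · intro h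
      have h1 := congrArg (Nat.cast : ℕ → ℂ) h
      rw [hS1, hS2] at h1
      have h2 := mul_left_cancel₀ hcardG h1
      exact_mod_cast h2
    · intro h
      have h1 : ((∑ g : G, Nat.card (MulAction.fixedBy Ω (g * g)) : ℕ) : ℂ) =
          ((∑ g : G, Nat.card (MulAction.fixedBy Ω g) ^ 2 : ℕ) : ℂ) := by
        rw [hS1, hS2, h]
      exact_mod_cast h1
  rw [hiff]
  have hle : ∀ χ ∈ (Finset.univ : Finset (Cfsg.IrrCharacter G)),
      (m χ : ℤ) * k χ ≤ (m χ : ℤ) * m χ := by
    intro χ _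
    have h1 := hk2 χ
    have h2 : (0 : ℤ) ≤ m χ := Int.natCast_nonneg _
    rcases Nat.eq_zero_or_pos (m χ) with h | h
    · rw [h]; simp
    · have h3 : (1 : ℤ) ≤ m χ := by exact_mod_cast h
      exact mul_le_mul_of_nonneg_left (le_trans h1 h3) h2
  constructor
  · intro h χ hχ h0
    have h1 := (Finset.sum_eq_sum_iff_of_le hle).mp h ⟨χ, hχ⟩ (Finset.mem_univ _)
    have h2 := hm ⟨χ, hχ⟩
    change Cfsg.classInner _ χ = _ at h2
    have hm0 : m ⟨χ, hχ⟩ ≠ 0 := by
      intro h3
      apply h0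
      rw [h2, h3, Nat.cast_zero]
    have hm0' : (m ⟨χ, hχ⟩ : ℤ) ≠ 0 := by exact_mod_cast hm0
    have h4 : k ⟨χ, hχ⟩ = (m ⟨χ, hχ⟩ : ℤ) := mul_left_cancel₀ hm0' h1
    have h5 := hk2 ⟨χ, hχ⟩
    have h6 : (1 : ℤ) ≤ m ⟨χ, hχ⟩ := by
      have : 0 < m ⟨χ, hχ⟩ := Nat.pos_of_ne_zero hm0
      exact_mod_cast this
    have h7 : (m ⟨χ, hχ⟩ : ℤ) = 1 := by omega
    have h8 : m ⟨χ, hχ⟩ = 1 := by exact_mod_cast h7
    refine ⟨by rw [h2, h8, Nat.cast_one], ?_⟩
    intro g
    have h9 : k ⟨χ, hχ⟩ = 1 := by omega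
    exact Complex.conj_eq_iff_im.mpr (hk3 ⟨χ, hχ⟩ h9 g)
  · intro h
    refine Finset.sum_congr rfl fun χ _ => ?_
    rcases Nat.eq_zero_or_pos (m χ) with h0 | h0
    · rw [h0]; simp
    · have h2 := hm χ
      have h3 : Cfsg.classInner (fun g : G => (Nat.card (MulAction.fixedBy Ω g) : ℂ))
          (χ : G → ℂ) ≠ 0 := by
        rw [h2]
        exact_mod_cast h0.ne'
      obtain ⟨h4, h5⟩ := h χ χ.2 h3
      have hreal : ∀ g : G, ((χ : G → ℂ) g).im = 0 := fun g =>
        Complex.conj_eq_iff_im.mp (h5 g)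
      have h6 := fsInd_eq_one_of_constituent a χ.2 hreal h4
      rw [hk1 χ] at h6
      have h7 : k χ = 1 := by exact_mod_cast h6
      have h8 : m χ = 1 := by
        rw [h2] at h4
        exact_mod_cast h4
      rw [h7, h8]
      norm_num

end Cfsg.Agent.S0717
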