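import Cfsg.Statements.S0719
import Cfsg.Agent.S0717
import Cfsg.Agent.Lib.Helper81_Rank3
import Cfsg.Agent.Lib.Helper81_Centralizer
import Cfsg.Agent.Lib.Helper3_CharDegree

set_option autoImplicit false
open Cfsg

namespace Cfsg.Agent.S0719


open scoped ComplexConjugate
open MulAction
open Cfsg.Agent.Lib.Helper81_Rank Cfsg.Agent.Lib.Helper81_PermChar
  Cfsg.Agent.Lib.Helper81_TrFun Cfsg.Agent.Lib.Helper81_Rank3
  Cfsg.Agent.Lib.Helper81_Centralizer
  Cfsg.Agent.Lib.Helper3_CharBridge Cfsg.Agent.Lib.Helper3_CharOrtho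
  Cfsg.Agent.Lib.Helper3_CharComplete Cfsg.Agent.Lib.Helper80_CharBasic

section grp
variable {G : Type*} [Group G] {Ω : Type*} [MulAction G Ω]

/-- In a primitive group whose point stabiliser fixes a second point, the stabiliser fixes
every point. -/
theorem stabilizer_fixes_all (hprim : MulAction.IsPreprimitive G Ω) (a₀ b : Ω) (hb : b ≠ a₀)
    (hfix : ∀ h ∈ stabilizer G a₀, h • b = b) :
    ∀ h ∈ stabilizer G a₀, ∀ ω : Ω, h • ω = ω := by
  have : Nontrivial Ω := ⟨b, a₀, hb⟩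
  have hpt : IsPretransitive G Ω := hprim.toIsPretransitive
  have hH : IsCoatom (stabilizer G a₀) :=
    IsPreprimitive.isCoatom_stabilizer_of_isPreprimitive G a₀
  have hK : IsCoatom (stabilizer G b) :=
    IsPreprimitive.isCoatom_stabilizer_of_isPreprimitive G b
  have hle : stabilizer G a₀ ≤ stabilizer G b := fun h hh => hfix h hh
  have hKH : stabilizer G b = stabilizer G a₀ := by
    rcases hH.le_iff.mp hle with h | h
    · exact absurd h hK.1
    · exact h
  obtain ⟨g, hg⟩ := exists_smul_eq G a₀ b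
  have hconj : (stabilizer G a₀).map (MulAut.conj g).toMonoidHom = stabilizer G a₀ := by
    rw [← stabilizer_smul_eq_stabilizer_map_conj, hg, hKH]
  have hgN : g ∈ Subgroup.normalizer (stabilizer G a₀ : Set G) := by
    rw [Subgroup.mem_normalizer_iff]
    intro h
    constructor
    · intro hh
      rw [← hconj]
      exact ⟨h, hh, rfl⟩
    · intro hh
      rw [← hconj] at hh
      obtain ⟨h', hh', e⟩ := hh
      have : h' = h := by
        have e' : g * h' * g⁻¹ = g * h * g⁻¹ := e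
        exact mul_left_cancel (mul_right_cancel e')
      rw [← this]; exact hh'
  have hgH : g ∉ stabilizer G a₀ := by
    intro h
    rw [mem_stabilizer_iff] at h
    exact hb (hg.symm.trans h)
  have hN : Subgroup.normalizer (stabilizer G a₀ : Set G) = ⊤ := by
    rcases hH.le_iff.mp (Subgroup.le_normalizer (H := stabilizer G a₀)) with h | h
    · exact h
    · rw [h] at hgN; exact absurd hgN hgH
  have hnormal : (stabilizer G a₀).Normal := Subgroup.normalizer_eq_top_iff.mp hN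
  intro h hh ω
  obtain ⟨x, hx⟩ := exists_smul_eq G a₀ ω
  have h1 : x⁻¹ * h * x ∈ stabilizer G a₀ := by
    have := hnormal.conj_mem h hh x⁻¹
    simpa using this
  rw [mem_stabilizer_iff, mul_smul, mul_smul, hx] at h1
  have := congrArg (fun y => x • y) h1
  simpa [hx] using this

end grp

section fin
variable {G : Type*} [Group G] {Ω : Type*} [Fintype Ω] [MulAction G Ω]

/-- no non-trivial suborbit of length one in a primitive group of even degree and rank 3 -/
theorem card_orbit_ne_one (hprim : MulAction.IsPreprimitive G Ω) {m : ℕ}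
    (hm : Fintype.card Ω = 2 * m) (a₀ : Ω)
    (hrank : Nat.card (orbitRel.Quotient (stabilizer G a₀) Ω) = 3) (b : Ω) (hb : b ≠ a₀) :
    Nat.card (orbit (stabilizer G a₀) b) ≠ 1 := by
  intro h1
  have hsub : ∀ h ∈ stabilizer G a₀, h • b = b := by
    intro h hh
    have hs : Subsingleton (orbit (stabilizer G a₀) b) :=
      (Nat.card_eq_one_iff_unique.mp h1).1
    have e := @Subsingleton.elim _ hs
      (⟨(⟨h, hh⟩ : stabilizer G a₀) • b, mem_orbit _ _⟩ : orbit (stabilizer G a₀) b)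
      ⟨b, mem_orbit_self b⟩
    exact congrArg Subtype.val e
  have hall := stabilizer_fixes_all hprim a₀ b hb hsub
  have hbij : Function.Bijective
      (Quotient.mk'' : Ω → orbitRel.Quotient (stabilizer G a₀) Ω) := by
    constructor
    · intro x y hxy
      have := Quotient.eq''.mp hxy
      change x ∈ orbit (stabilizer G a₀) y at this
      obtain ⟨⟨h, hh⟩, rfl⟩ := this
      exact hall h hh y
    · exact Quotient.mk''_surjective
  have hcard := Nat.card_congr (Equiv.ofBijective _ hbij)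
  rw [hrank, Nat.card_eq_fintype_card, hm] at hcard
  omega

/-- a third suborbit exists when the rank is 3 -/
theorem exists_third (a₀ : Ω)
    (hrank : Nat.card (orbitRel.Quotient (stabilizer G a₀) Ω) = 3) (b : Ω) :
    ∃ b₂ : Ω, b₂ ≠ a₀ ∧ b₂ ∉ orbit (stabilizer G a₀) b := by
  classical
  by_contra hcon
  push Not at hcon
  have : Fintype (orbitRel.Quotient (stabilizer G a₀) Ω) := Fintype.ofFinite _
  have hsub : (Finset.univ : Finset (orbitRel.Quotient (stabilizer G a₀) Ω)) ⊆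
      {Quotient.mk'' a₀, Quotient.mk'' b} := by
    intro q _
    induction q using Quotient.inductionOn' with
    | h x =>
      by_cases hx : x = a₀
      · rw [hx]; simp
      · have := hcon x hx
        have e : (Quotient.mk'' x : orbitRel.Quotient (stabilizer G a₀) Ω) = Quotient.mk'' b :=
          Quotient.eq''.mpr this
        rw [e]; simp
  have h1 := Finset.card_le_card hsub
  rw [Finset.card_univ, ← Nat.card_eq_fintype_card, hrank] at h1
  have h2 := Finset.card_le_two (a := (Quotient.mk'' a₀ : orbitRel.Quotient (stabilizer G a₀) Ω))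
    (b := Quotient.mk'' b)
  omega

/-- two distinct non-trivial suborbits and the base point fit into `Ω` -/
theorem card_orbit_add_le (a₀ b b₂ : Ω) (hb : b ≠ a₀) (hb₂ : b₂ ≠ a₀)
    (hb₂' : b₂ ∉ orbit (stabilizer G a₀) b) :
    Nat.card (orbit (stabilizer G a₀) b) + Nat.card (orbit (stabilizer G a₀) b₂) + 1 ≤
      Fintype.card Ω := by
  classical
  rw [Nat.card_coe_set_eq, Nat.card_coe_set_eq]
  have hd1 : Disjoint (orbit (stabilizer G a₀) b) (orbit (stabilizer G a₀) b₂) := by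
    rcases orbit.eq_or_disjoint (G := stabilizer G a₀) b b₂ with h | h
    · exfalso
      apply hb₂'
      rw [h]
      exact mem_orbit_self b₂
    · exact h
  have ha : ∀ c : Ω, c ≠ a₀ → a₀ ∉ orbit (stabilizer G a₀) c := by
    intro c hc hmem
    obtain ⟨⟨h, hh⟩, e⟩ := hmem
    have e' : h • c = a₀ := e
    rw [mem_stabilizer_iff] at hh
    have : c = a₀ := by
      have := congrArg (fun y => h⁻¹ • y) e'
      simp only [inv_smul_smul] at this
      rw [this, inv_smul_eq_iff, hh]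
    exact hc this
  have hd2 : Disjoint (orbit (stabilizer G a₀) b ∪ orbit (stabilizer G a₀) b₂) {a₀} := by
    rw [Set.disjoint_singleton_right, Set.mem_union]
    rintro (h | h)
    · exact ha b hb h
    · exact ha b₂ hb₂ h
  have h1 := Set.ncard_union_eq hd1 (Set.toFinite _) (Set.toFinite _)
  have h2 := Set.ncard_union_eq hd2 (Set.toFinite _) (Set.toFinite _)
  rw [Set.ncard_singleton, h1] at h2
  rw [← h2, ← Nat.card_eq_fintype_card, ← Set.ncard_univ]
  exact Set.ncard_le_ncard (Set.subset_univ _) (Set.toFinite _)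

end fin


/-- the arithmetic core -/
theorem arith_int (m k r s : ℤ) (hm : 2 ≤ m) (hk1 : 1 < k) (hk2 : k < 2 * m - 2)
    (h1 : k + (m - 1) * r + m * s = 0)
    (h2 : k ^ 2 + (m - 1) * r ^ 2 + m * s ^ 2 = 2 * m * k) :
    ∃ a : ℤ, 0 < a ∧ m = 2 * a ^ 2 + 2 * a + 1 ∧
      (k = a * (2 * a + 1) ∨ k = (a + 1) * (2 * a + 1)) := by
  set t := r + s with ht
  have hk : k = r - m * t := by rw [ht]; linear_combination h1
  have hmain : m * ((2 * r - 2 * t - 1) ^ 2 - 1 + 2 * (m - 1) * t * (t + 2)) = 0 := by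
    rw [ht]
    linear_combination 2 * h2 - 2 * (k + r - m * (r + s) - 2 * m) * h1
  have hm0 : m ≠ 0 := by omega
  have hsq : (2 * r - 2 * t - 1) ^ 2 = 1 - 2 * (m - 1) * t * (t + 2) := by
    have := (mul_eq_zero.mp hmain).resolve_left hm0
    linarith
  have htt : t * (t + 2) ≤ 0 := by
    by_contra hcon
    push Not at hcon
    have h3 : 1 ≤ t * (t + 2) := hcon
    have h4 : 0 ≤ (2 * r - 2 * t - 1) ^ 2 := sq_nonneg _
    nlinarith
  have ht1 : -2 ≤ t := by nlinarith
  have ht2 : t ≤ 0 := by nlinarith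
  have htcases : t = -2 ∨ t = -1 ∨ t = 0 := by omega
  rcases htcases with h | h | h
  · exfalso
    rw [h] at hsq hk
    have h5 : (r + 1) * (r + 2) = 0 := by nlinarith
    rcases mul_eq_zero.mp h5 with h6 | h6
    · have : r = -1 := by linarith
      rw [this] at hk
      omega
    · have : r = -2 := by linarith
      rw [this] at hk
      omega
  · rw [h] at hsq hk
    have hmr : m = 2 * r ^ 2 + 2 * r + 1 := by nlinarith
    have hkr : k = r + m := by linarith
    by_cases hr : 0 ≤ r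
    · refine ⟨r, ?_, hmr, Or.inr ?_⟩
      · by_contra h0
        have : r = 0 := by omega
        rw [this] at hmr
        omega
      · rw [hkr, hmr]; ring
    · push Not at hr
      refine ⟨-r - 1, ?_, ?_, Or.inl ?_⟩
      · by_contra h0
        have : r = -1 := by omega
        rw [this] at hmr
        omega
      · rw [hmr]; ring
      · rw [hkr, hmr]; ring
  · exfalso
    rw [h] at hsq hk
    have h5 : r * (r - 1) = 0 := by nlinarith
    rcases mul_eq_zero.mp h5 with h6 | h6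
    · rw [h6] at hk
      omega
    · have : r = 1 := by linarith
      rw [this] at hk
      omega


section main
variable {G : Type*} [Group G] [Fintype G] {Ω : Type*} [Fintype Ω] [MulAction G Ω]

theorem classInner_conj_of_real (π χ : G → ℂ) (hπ : ∀ g, conj (π g) = π g) :
    Cfsg.classInner π (fun g => conj (χ g)) = conj (Cfsg.classInner π χ) := by
  unfold Cfsg.classInner
  rw [map_mul, map_inv₀, Complex.conj_natCast, map_sum]
  congr 1
  refine Finset.sum_congr rfl fun g _ => ?_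
  rw [map_mul, hπ g]



theorem trace_expand {m : ℕ} (χ₁ χ₂ : G → ℂ)
    (h₁ : Cfsg.IsIrrCharacter G χ₁) (h₂ : Cfsg.IsIrrCharacter G χ₂)
    (hd₁ : χ₁ 1 = (m : ℂ) - 1) (hd₂ : χ₂ 1 = m)
    (hχ1ne : χ₁ ≠ fun _ => 1) (hχ2ne : χ₂ ≠ fun _ => 1) (hχ12 : χ₁ ≠ χ₂)
    (hother : ∀ χ : G → ℂ, Cfsg.IsIrrCharacter G χ → χ ≠ (fun _ => 1) → χ ≠ χ₁ → χ ≠ χ₂ →
      Cfsg.classInner (fun g : G => (Nat.card (fixedBy Ω g) : ℂ)) χ = 0)
    (X : Module.End ℂ (Ω → ℂ))
    (hX : ∀ g, X ∘ₗ Cfsg.permRep ℂ G Ω g = Cfsg.permRep ℂ G Ω g ∘ₗ X) :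
    LinearMap.trace ℂ (Ω → ℂ) X =
      Cfsg.classInner (trFun (Cfsg.permRep ℂ G Ω) X) (fun _ => 1) +
        ((m : ℂ) - 1) * Cfsg.classInner (trFun (Cfsg.permRep ℂ G Ω) X) χ₁ +
        (m : ℂ) * Cfsg.classInner (trFun (Cfsg.permRep ℂ G Ω) X) χ₂ := by
  classical
  have hPchar : (Cfsg.permRep ℂ G Ω).character = fun g : G => (Nat.card (fixedBy Ω g) : ℂ) :=
    funext fun g => permRep_character g
  rw [trace_eq_sum _ X hX]
  set c0 : Cfsg.IrrCharacter G := oneIrr G with hc0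
  set c1 : Cfsg.IrrCharacter G := ⟨χ₁, h₁⟩ with hc1
  set c2 : Cfsg.IrrCharacter G := ⟨χ₂, h₂⟩ with hc2
  have h01 : c0 ≠ c1 := fun h => hχ1ne (congrArg Subtype.val h).symm
  have h02 : c0 ≠ c2 := fun h => hχ2ne (congrArg Subtype.val h).symm
  have h12 : c1 ≠ c2 := fun h => hχ12 (congrArg Subtype.val h)
  rw [← Finset.sum_subset (Finset.subset_univ ({c0, c1, c2} : Finset (Cfsg.IrrCharacter G)))]
  · rw [Finset.sum_insert, Finset.sum_insert, Finset.sum_singleton]
    · change Cfsg.classInner (trFun _ X) (fun _ => 1) * 1 +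
        (Cfsg.classInner (trFun _ X) χ₁ * χ₁ 1 + Cfsg.classInner (trFun _ X) χ₂ * χ₂ 1) = _
      rw [hd₁, hd₂]; ring
    · simp [h12]
    · simp [h01, h02]
  · intro χ _ hχ
    have hne : χ ≠ c0 ∧ χ ≠ c1 ∧ χ ≠ c2 := by
      simp only [Finset.mem_insert, Finset.mem_singleton, not_or] at hχ
      exact hχ
    have : Cfsg.classInner (trFun (Cfsg.permRep ℂ G Ω) X) χ = 0 := by
      apply classInner_trFun_eq_zero _ χ.2
      rw [hPchar]
      apply hother χ χ.2
      · intro h; exact hne.1 (Subtype.ext h)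
      · intro h; exact hne.2.1 (Subtype.ext h)
      · intro h; exact hne.2.2 (Subtype.ext h)
    rw [this, zero_mul]


set_option maxHeartbeats 800000 in
theorem srg_relation [MulAction.IsPretransitive G Ω] [DecidableEq Ω] (a₀ b b₂ : Ω) (hb : b ≠ a₀)
    (hb₂ : b₂ ≠ a₀) (hb₂' : b₂ ∉ orbit (stabilizer G a₀) b)
    (hrank : Nat.card (orbitRel.Quotient (stabilizer G a₀) Ω) = 3) :
    ∃ (c0 : ℂ) (β : ℤ) (c2 : ℂ), adj (orbital G a₀ b) ∘ₗ adj (orbital G a₀ b) =
      c0 • LinearMap.id + (β : ℂ) • adj (orbital G a₀ b) + c2 • allOnes Ω := by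
  classical
  set P := Cfsg.permRep ℂ G Ω with hP
  set R := orbital G a₀ b with hR
  set A := adj R with hA
  have hPchar : P.character = fun g : G => (Nat.card (fixedBy Ω g) : ℂ) :=
    funext fun g => permRep_character g
  have hAcomm : ∀ g, A ∘ₗ P g = P g ∘ₗ A := fun g => adj_comm (G := G) R (orbital_smul a₀ b) g
  have hJcomm : ∀ g, allOnes Ω ∘ₗ P g = P g ∘ₗ allOnes Ω := fun g => allOnes_comm g
  have hIcomm : ∀ g, (LinearMap.id : Module.End ℂ (Ω → ℂ)) ∘ₗ P g = P g ∘ₗ LinearMap.id :=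
    fun g => by rw [LinearMap.id_comp, LinearMap.comp_id]
  have hAAcomm : ∀ g, (A ∘ₗ A) ∘ₗ P g = P g ∘ₗ (A ∘ₗ A) := by
    intro g
    rw [LinearMap.comp_assoc, hAcomm g, ← LinearMap.comp_assoc, hAcomm g, LinearMap.comp_assoc]
  -- dimension
  have hfin : Module.finrank ℂ (P.linHom P).invariants = 3 := by
    have h1 := finrank_invariants_linHom P
    rw [hPchar, rank_eq_classInner a₀, hrank] at h1
    exact_mod_cast h1
  -- entries
  have hRa₀b₂ : ¬ R a₀ b₂ := by
    rintro ⟨x, hx1, hx2⟩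
    exact hb₂' ⟨⟨x, hx1⟩, hx2⟩
  have hRa₀b : R a₀ b := ⟨1, one_smul _ _, one_smul _ _⟩
  have hRa₀a₀ : ¬ R a₀ a₀ := not_orbital_self hb a₀
  set v : Fin 3 → Module.End ℂ (Ω → ℂ) := ![LinearMap.id, A, allOnes Ω] with hv
  have hent : ∀ (c : Fin 3 → ℂ) (ω ω' : Ω), ent (∑ i, c i • v i) ω ω' =
      c 0 * ent (LinearMap.id : Module.End ℂ (Ω → ℂ)) ω ω' + c 1 * ent A ω ω' + c 2 * 1 := by
    intro c ω ω'
    rw [Fin.sum_univ_three, ent_add, ent_add, ent_smul, ent_smul, ent_smul]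
    simp only [hv, Matrix.cons_val_zero, Matrix.cons_val_one, Matrix.cons_val_two,
      Matrix.head_cons, Matrix.tail_cons, ent_allOnes]
  have hli : LinearIndependent ℂ v := by
    rw [Fintype.linearIndependent_iff]
    intro c hc
    have e : ∀ ω ω', c 0 * ent (LinearMap.id : Module.End ℂ (Ω → ℂ)) ω ω' + c 1 * ent A ω ω'
        + c 2 * 1 = 0 := by
      intro ω ω'
      rw [← hent, hc]
      rfl
    have e1 := e a₀ b₂
    rw [ent_id, if_neg (Ne.symm hb₂), ent_adj, if_neg hRa₀b₂] at e1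
    have e2 := e a₀ b
    rw [ent_id, if_neg (Ne.symm hb), ent_adj, if_pos hRa₀b] at e2
    have e3 := e a₀ a₀
    rw [ent_id, if_pos rfl, ent_adj, if_neg hRa₀a₀] at e3
    have hc2 : c 2 = 0 := by linear_combination e1
    have hc1 : c 1 = 0 := by linear_combination e2 - e1
    have hc0 : c 0 = 0 := by linear_combination e3 - e1
    intro i
    fin_cases i
    · exact hc0
    · exact hc1
    · exact hc2
  have hspan_le : Submodule.span ℂ (Set.range v) ≤ (P.linHom P).invariants := by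
    rw [Submodule.span_le]
    rintro X ⟨i, rfl⟩
    rw [SetLike.mem_coe, mem_invariants_iff_comm]
    fin_cases i
    · exact hIcomm
    · exact hAcomm
    · exact hJcomm
  have hfr : Module.finrank ℂ (Submodule.span ℂ (Set.range v)) = Fintype.card (Fin 3) :=
    finrank_span_eq_card hli
  have heq : Submodule.span ℂ (Set.range v) = (P.linHom P).invariants :=
    Submodule.eq_of_le_of_finrank_eq hspan_le (by rw [hfr, hfin, Fintype.card_fin])
  have hmem : A ∘ₗ A ∈ Submodule.span ℂ (Set.range v) := by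
    rw [heq]; exact (mem_invariants_iff_comm P _).mpr hAAcomm
  obtain ⟨c, hc⟩ := (Submodule.mem_span_range_iff_exists_fun ℂ).mp hmem
  -- integrality of the middle coefficient
  have e : ∀ ω ω', ent (A ∘ₗ A) ω ω' =
      c 0 * ent (LinearMap.id : Module.End ℂ (Ω → ℂ)) ω ω' + c 1 * ent A ω ω' + c 2 * 1 := by
    intro ω ω'
    rw [← hent, hc]
  have e1 := e a₀ b₂
  rw [ent_id, if_neg (Ne.symm hb₂), ent_adj, if_neg hRa₀b₂, ent_adj_comp] at e1
  have e2 := e a₀ b
  rw [ent_id, if_neg (Ne.symm hb), ent_adj, if_pos hRa₀b, ent_adj_comp] at e2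
  set N₁ := (Finset.univ.filter fun ω'' => R a₀ ω'' ∧ R ω'' b).card with hN₁
  set N₂ := (Finset.univ.filter fun ω'' => R a₀ ω'' ∧ R ω'' b₂).card with hN₂
  refine ⟨c 0, (N₁ : ℤ) - (N₂ : ℤ), c 2, ?_⟩
  have hc1 : c 1 = (((N₁ : ℤ) - (N₂ : ℤ) : ℤ) : ℂ) := by
    push_cast
    linear_combination e1 - e2
  rw [← hc, Fin.sum_univ_three, hc1]
  simp only [hv, Matrix.cons_val_zero, Matrix.cons_val_one, Matrix.cons_val_two,
    Matrix.head_cons, Matrix.tail_cons]

set_option maxHeartbeats 800000 in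
theorem key_op (hprim : MulAction.IsPreprimitive G Ω) {m : ℕ} (hm : Fintype.card Ω = 2 * m)
    (a₀ : Ω) (hrank : Nat.card (orbitRel.Quotient (stabilizer G a₀) Ω) = 3) (χ₁ χ₂ : G → ℂ)
    (h₁ : Cfsg.IsIrrCharacter G χ₁) (h₂ : Cfsg.IsIrrCharacter G χ₂)
    (hd₁ : χ₁ 1 = (m : ℂ) - 1) (hd₂ : χ₂ 1 = m)
    (hχ1ne : χ₁ ≠ fun _ => 1) (hχ2ne : χ₂ ≠ fun _ => 1) (hχ12 : χ₁ ≠ χ₂)
    (hc1 : Cfsg.classInner (fun g : G => (Nat.card (fixedBy Ω g) : ℂ)) χ₁ = 1)
    (hc2 : Cfsg.classInner (fun g : G => (Nat.card (fixedBy Ω g) : ℂ)) χ₂ = 1)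
    (hother : ∀ χ : G → ℂ, Cfsg.IsIrrCharacter G χ → χ ≠ (fun _ => 1) → χ ≠ χ₁ → χ ≠ χ₂ →
      Cfsg.classInner (fun g : G => (Nat.card (fixedBy Ω g) : ℂ)) χ = 0)
    (hswap : ∀ x y : Ω, ∃ g : G, g • x = y ∧ g • y = x) (b : Ω) (hb : b ≠ a₀) :
    ∃ a : ℕ, 0 < a ∧ m = 2 * a ^ 2 + 2 * a + 1 ∧
      (Nat.card (orbit (stabilizer G a₀) b) = a * (2 * a + 1) ∨
       Nat.card (orbit (stabilizer G a₀) b) = (a + 1) * (2 * a + 1)) := by
  classical
  have hpt : IsPretransitive G Ω := hprim.toIsPretransitive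
  have hne : Nonempty Ω := ⟨a₀⟩
  set π : G → ℂ := fun g => (Nat.card (fixedBy Ω g) : ℂ) with hπdef
  set P := Cfsg.permRep ℂ G Ω with hP
  have hPchar : P.character = π := funext fun g => permRep_character g
  have h1irr := isIrrCharacter_one G
  have hπ1 : Cfsg.classInner π (fun _ => 1) = 1 := classInner_perm_one
  -- the third suborbit and bounds
  obtain ⟨b₂, hb₂, hb₂'⟩ := exists_third a₀ hrank b
  set k := Nat.card (orbit (stabilizer G a₀) b) with hk
  have hkpos : 0 < k := by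
    have : Nonempty (orbit (stabilizer G a₀) b) := ⟨⟨b, mem_orbit_self b⟩⟩
    exact Nat.card_pos
  have hk1 : k ≠ 1 := card_orbit_ne_one hprim hm a₀ hrank b hb
  have hlpos : 0 < Nat.card (orbit (stabilizer G a₀) b₂) := by
    have : Nonempty (orbit (stabilizer G a₀) b₂) := ⟨⟨b₂, mem_orbit_self b₂⟩⟩
    exact Nat.card_pos
  have hl1 := card_orbit_ne_one hprim hm a₀ hrank b₂ hb₂
  have hkl := card_orbit_add_le a₀ b b₂ hb hb₂ hb₂'
  rw [hm] at hkl
  have hk2 : 2 ≤ k := by omega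
  have hk3 : k + 3 ≤ 2 * m := by omega
  -- operators
  set R := orbital G a₀ b with hR
  set A := adj R with hA
  have hAcomm : ∀ g, A ∘ₗ P g = P g ∘ₗ A := fun g => adj_comm (G := G) R (orbital_smul a₀ b) g
  have hJcomm : ∀ g, allOnes Ω ∘ₗ P g = P g ∘ₗ allOnes Ω := fun g => allOnes_comm g
  have hIcomm : ∀ g, (LinearMap.id : Module.End ℂ (Ω → ℂ)) ∘ₗ P g = P g ∘ₗ LinearMap.id :=
    fun g => by rw [LinearMap.id_comp, LinearMap.comp_id]
  have hAAcomm : ∀ g, (A ∘ₗ A) ∘ₗ P g = P g ∘ₗ (A ∘ₗ A) := by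
    intro g
    rw [LinearMap.comp_assoc, hAcomm g, ← LinearMap.comp_assoc, hAcomm g, LinearMap.comp_assoc]
  have hAint : IsIntegral ℤ A := isIntegral_adj R
  have hrow : ∀ ω, Nat.card {ω' // R ω ω'} = k := fun ω => card_orbital a₀ b ω
  have hsymm : ∀ ω ω', R ω ω' → R ω' ω := by
    rintro ω ω' ⟨x, hx1, hx2⟩
    obtain ⟨g, hg1, hg2⟩ := hswap ω ω'
    exact ⟨g * x, by rw [mul_smul, hx1, hg1], by rw [mul_smul, hx2, hg2]⟩
  have hRa₀ : ∀ ω, R a₀ ω → ω ∈ orbit (stabilizer G a₀) b := by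
    rintro ω ⟨x, hx1, hx2⟩
    exact ⟨⟨x, hx1⟩, hx2⟩
  have hRa₀b : R a₀ b := ⟨1, one_smul _ _, one_smul _ _⟩
  -- coefficients
  have hθ1A : Cfsg.classInner (trFun P A) (fun _ => 1) = (k : ℂ) :=
    classInner_trace_adj_one (G := G) R k hrow
  set r := Cfsg.classInner (trFun P A) χ₁ with hr
  set s := Cfsg.classInner (trFun P A) χ₂ with hs
  have hrint : IsIntegral ℤ r := isIntegral_classInner_trFun P h₁ A hAint hAcomm
  have hsint : IsIntegral ℤ s := isIntegral_classInner_trFun P h₂ A hAint hAcomm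
  -- expansions
  have hexp := trace_expand (Ω := Ω) (m := m) χ₁ χ₂ h₁ h₂ hd₁ hd₂ hχ1ne hχ2ne hχ12 hother
  have e1 : (k : ℂ) + ((m : ℂ) - 1) * r + (m : ℂ) * s = 0 := by
    have h := hexp A hAcomm
    rw [hθ1A] at h
    rw [← h, hA, trace_adj]
    exact Finset.sum_eq_zero fun ω _ => if_neg (not_orbital_self hb ω)
  have hm1 : Cfsg.classInner (trFun P (A ∘ₗ A)) (fun _ => 1) = (k : ℂ) * k := by
    rw [classInner_trFun_mul P h1irr (by rw [hPchar]; exact hπ1) A A hAcomm hAcomm, hθ1A]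
  have hmr : Cfsg.classInner (trFun P (A ∘ₗ A)) χ₁ = r * r :=
    classInner_trFun_mul P h₁ (by rw [hPchar]; exact hc1) A A hAcomm hAcomm
  have hms : Cfsg.classInner (trFun P (A ∘ₗ A)) χ₂ = s * s :=
    classInner_trFun_mul P h₂ (by rw [hPchar]; exact hc2) A A hAcomm hAcomm
  have e2 : (k : ℂ) ^ 2 + ((m : ℂ) - 1) * r ^ 2 + (m : ℂ) * s ^ 2 = 2 * m * k := by
    have h := hexp (A ∘ₗ A) hAAcomm
    rw [hm1, hmr, hms, hA, trace_adj_sq R hsymm k hrow, hm] at h
    push_cast at h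
    linear_combination -h
  -- the quadratic relation
  obtain ⟨c0, β, c2, hsrg⟩ := srg_relation a₀ b b₂ hb hb₂ hb₂' hrank
  have hJ1 : Cfsg.classInner (trFun P (allOnes Ω)) χ₁ = 0 := classInner_trFun_allOnes h₁ hχ1ne
  have hJ2 : Cfsg.classInner (trFun P (allOnes Ω)) χ₂ = 0 := classInner_trFun_allOnes h₂ hχ2ne
  have hI1 : Cfsg.classInner (trFun P LinearMap.id) χ₁ = 1 := by
    rw [classInner_trFun_id, hPchar, hc1]
  have hI2 : Cfsg.classInner (trFun P LinearMap.id) χ₂ = 1 := by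
    rw [classInner_trFun_id, hPchar, hc2]
  have hq1 : r * r = c0 + β * r := by
    rw [← hmr, hA, hsrg, classInner_trFun_add, classInner_trFun_add, classInner_trFun_smul,
      classInner_trFun_smul, classInner_trFun_smul, hI1, hJ1]
    ring
  have hq2 : s * s = c0 + β * s := by
    rw [← hms, hA, hsrg, classInner_trFun_add, classInner_trFun_add, classInner_trFun_smul,
      classInner_trFun_smul, classInner_trFun_smul, hI2, hJ2]
    ring
  have hfac : (r - s) * (r + s - β) = 0 := by linear_combination hq1 - hq2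
  have hrs : ∃ r' s' : ℤ, r = r' ∧ s = s' := by
    rcases mul_eq_zero.mp hfac with h | h
    · exfalso
      have hrs : r = s := sub_eq_zero.mp h
      have hd : 2 * m - 1 ≠ 0 := by omega
      have hcast : ((2 * m - 1 : ℕ) : ℂ) = 2 * (m : ℂ) - 1 := by
        rw [Nat.cast_sub (by omega)]; push_cast; ring
      have hdc : ((2 * m - 1 : ℕ) : ℂ) ≠ 0 := Nat.cast_ne_zero.mpr hd
      have h3 : (k : ℂ) / ((2 * m - 1 : ℕ) : ℂ) = -s := by
        rw [div_eq_iff hdc, hcast]
        rw [hrs] at e1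
        linear_combination e1
      have h4 := Cfsg.Agent.Lib.Helper3_CharDegree.dvd_of_isIntegral_div hd
        (by rw [h3]; exact hsint.neg)
      have := Nat.le_of_dvd hkpos h4
      omega
    · have hsum : r + s = β := sub_eq_zero.mp h
      refine ⟨β - (-(k : ℤ) - ((m : ℤ) - 1) * β), -(k : ℤ) - ((m : ℤ) - 1) * β, ?_, ?_⟩
      · push_cast
        linear_combination hsum - e1 + ((m : ℂ) - 1) * hsum
      · push_cast
        linear_combination e1 - ((m : ℂ) - 1) * hsum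
  obtain ⟨r', s', hr', hs'⟩ := hrs
  rw [hr', hs'] at e1 e2
  have e1' : (k : ℤ) + ((m : ℤ) - 1) * r' + m * s' = 0 := by exact_mod_cast e1
  have e2' : (k : ℤ) ^ 2 + ((m : ℤ) - 1) * r' ^ 2 + m * s' ^ 2 = 2 * m * k := by
    exact_mod_cast e2
  obtain ⟨a, ha0, ham, hak⟩ := arith_int m k r' s' (by omega) (by omega) (by omega) e1' e2'
  refine ⟨a.toNat, by omega, ?_, ?_⟩
  · have h1 : ((a.toNat : ℕ) : ℤ) = a := Int.toNat_of_nonneg ha0.le
    have : (m : ℤ) = ((2 * a.toNat ^ 2 + 2 * a.toNat + 1 : ℕ) : ℤ) := by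
      push_cast; rw [h1]; exact ham
    exact_mod_cast this
  · have h1 : ((a.toNat : ℕ) : ℤ) = a := Int.toNat_of_nonneg ha0.le
    rcases hak with h | h
    · left
      have : (k : ℤ) = ((a.toNat * (2 * a.toNat + 1) : ℕ) : ℤ) := by
        push_cast; rw [h1]; exact h
      exact_mod_cast this
    · right
      have : (k : ℤ) = (((a.toNat + 1) * (2 * a.toNat + 1) : ℕ) : ℤ) := by
        push_cast; rw [h1]; exact h
      exact_mod_cast this

theorem key (hprim : MulAction.IsPreprimitive G Ω) {m : ℕ} (hm : Fintype.card Ω = 2 * m)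
    (a₀ : Ω) (hrank : Nat.card (orbitRel.Quotient (stabilizer G a₀) Ω) = 3) (χ₁ χ₂ : G → ℂ)
    (h₁ : Cfsg.IsIrrCharacter G χ₁) (h₂ : Cfsg.IsIrrCharacter G χ₂)
    (hπ : (fun g : G => (Nat.card (fixedBy Ω g) : ℂ)) = fun g => 1 + χ₁ g + χ₂ g)
    (hd₁ : χ₁ 1 = (m : ℂ) - 1) (hd₂ : χ₂ 1 = m) (b : Ω) (hb : b ≠ a₀) :
    ∃ a : ℕ, 0 < a ∧ m = 2 * a ^ 2 + 2 * a + 1 ∧
      (Nat.card (orbit (stabilizer G a₀) b) = a * (2 * a + 1) ∨
       Nat.card (orbit (stabilizer G a₀) b) = (a + 1) * (2 * a + 1)) := by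
  classical
  have hpt : IsPretransitive G Ω := hprim.toIsPretransitive
  have hne : Nonempty Ω := ⟨a₀⟩
  set π : G → ℂ := fun g => (Nat.card (fixedBy Ω g) : ℂ) with hπdef
  set P := Cfsg.permRep ℂ G Ω with hP
  have hPchar : P.character = π := funext fun g => permRep_character g
  have h1irr := isIrrCharacter_one G
  have hπreal : ∀ g, conj (π g) = π g := fun g => Complex.conj_natCast _
  -- inner products of π with irreducibles
  have hπχ : ∀ χ : G → ℂ, Cfsg.IsIrrCharacter G χ → Cfsg.classInner π χ =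
      (if (fun _ => (1 : ℂ)) = χ then 1 else 0) + (if χ₁ = χ then 1 else 0) +
        (if χ₂ = χ then 1 else 0) := by
    intro χ hχ
    have : π = (fun _ => (1 : ℂ)) + χ₁ + χ₂ := by rw [hπ]; rfl
    rw [this, classInner_add_left, classInner_add_left, classInner_irr h1irr hχ,
      classInner_irr h₁ hχ, classInner_irr h₂ hχ]
  have hπ1 : Cfsg.classInner π (fun _ => 1) = 1 := classInner_perm_one
  have hχ1ne : χ₁ ≠ fun _ => 1 := by
    intro h
    have := hπχ _ h1irr
    rw [hπ1, if_pos rfl, if_pos h] at this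
    split_ifs at this <;> norm_num at this
  have hχ2ne : χ₂ ≠ fun _ => 1 := by
    intro h
    have := hπχ _ h1irr
    rw [hπ1, if_pos rfl, if_pos h] at this
    split_ifs at this <;> norm_num at this
  have hχ12 : χ₁ ≠ χ₂ := by
    intro h
    have := congrFun h 1
    rw [hd₁, hd₂] at this
    have h0 : (-1 : ℂ) = 0 := by linear_combination this
    norm_num at h0
  have hc1 : Cfsg.classInner π χ₁ = 1 := by
    rw [hπχ _ h₁, if_neg (Ne.symm hχ1ne), if_pos rfl, if_neg (Ne.symm hχ12)]; norm_num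
  have hc2 : Cfsg.classInner π χ₂ = 1 := by
    rw [hπχ _ h₂, if_neg (Ne.symm hχ2ne), if_neg hχ12, if_pos rfl]; norm_num
  have hother : ∀ χ : G → ℂ, Cfsg.IsIrrCharacter G χ → χ ≠ (fun _ => 1) → χ ≠ χ₁ → χ ≠ χ₂ →
      Cfsg.classInner π χ = 0 := by
    intro χ hχ n0 n1 n2
    rw [hπχ _ hχ, if_neg (Ne.symm n0), if_neg (Ne.symm n1), if_neg (Ne.symm n2)]; norm_num
  -- real-valuedness
  have hall : ∀ ψ : G → ℂ, Cfsg.IsIrrCharacter G ψ → Cfsg.classInner π ψ ≠ 0 →
      ψ = (fun _ => 1) ∨ ψ = χ₁ ∨ ψ = χ₂ := by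
    intro ψ hψ h0
    by_contra hcon
    push Not at hcon
    exact h0 (hother ψ hψ hcon.1 hcon.2.1 hcon.2.2)
  have hrealaux : ∀ χ χ' : G → ℂ, Cfsg.IsIrrCharacter G χ → Cfsg.classInner π χ = 1 →
      χ ≠ (fun _ => 1) → χ' 1 ≠ conj (χ 1) →
      (∀ ψ : G → ℂ, Cfsg.IsIrrCharacter G ψ → Cfsg.classInner π ψ ≠ 0 →
        ψ = (fun _ => 1) ∨ ψ = χ ∨ ψ = χ') → ∀ g, conj (χ g) = χ g := by
    intro χ χ' hχ hc hne1 hdeg hall' g
    have hψ := Cfsg.Agent.Lib.Helper75_CharProd.isIrrCharacter_conj hχ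
    have h3 : Cfsg.classInner π (fun g => conj (χ g)) ≠ 0 := by
      rw [classInner_conj_of_real π χ hπreal, hc, map_one]
      exact one_ne_zero
    rcases hall' _ hψ h3 with h | h | h
    · exfalso
      apply hne1
      funext x
      have this : conj (χ x) = 1 := congrFun h x
      have h4 := congrArg (starRingEnd ℂ) this
      rw [Complex.conj_conj, map_one] at h4
      exact h4
    · exact congrFun h g
    · exfalso
      apply hdeg
      have := congrFun h 1
      exact this.symm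
  have hreal1 : ∀ g, conj (χ₁ g) = χ₁ g := by
    refine hrealaux χ₁ χ₂ h₁ hc1 hχ1ne ?_ hall
    rw [hd₁, hd₂, map_sub, Complex.conj_natCast, map_one]
    intro h
    have h0 : (1 : ℂ) = 0 := by linear_combination h
    norm_num at h0
  have hreal2 : ∀ g, conj (χ₂ g) = χ₂ g := by
    refine hrealaux χ₂ χ₁ h₂ hc2 hχ2ne ?_ ?_
    · rw [hd₁, hd₂, Complex.conj_natCast]
      intro h
      have h0 : (-1 : ℂ) = 0 := by linear_combination h
      norm_num at h0
    · intro ψ hψ h0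
      rcases hall ψ hψ h0 with h | h | h
      · exact Or.inl h
      · exact Or.inr (Or.inr h)
      · exact Or.inr (Or.inl h)
  -- all pairs can be interchanged (S0717)
  have hswap : ∀ x y : Ω, ∃ g : G, g • x = y ∧ g • y = x := by
    apply Cfsg.Agent.S0717.result.mpr
    intro χ hχ h0
    rcases hall χ hχ h0 with h | h | h
    · rw [h]
      exact ⟨hπ1, fun g => map_one _⟩
    · rw [h]
      exact ⟨hc1, hreal1⟩
    · rw [h]
      exact ⟨hc2, hreal2⟩
  exact key_op hprim hm a₀ hrank χ₁ χ₂ h₁ h₂ hd₁ hd₂ hχ1ne hχ2ne hχ12 hc1 hc2 hother hswap b hb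

end main

/-- Groups of Wielandt type: if a primitive group of degree `2m` has rank 3 and permutation character `1 + χ₁ + χ₂` with irreducible `χ₁, χ₂` of degrees `m - 1` and `m`, then `m = 2a² + 2a + 1` for some positive integer `a` and the two non-trivial subdegrees are `a(2a+1)` and `(a+1)(2a+1)`. -/
theorem result {G : Type*} [Group G] [Fintype G] {Ω : Type*} [Fintype Ω] [MulAction G Ω] (hprim : MulAction.IsPreprimitive G Ω) {m : ℕ} (hm : Fintype.card Ω = 2 * m) (a₀ : Ω) (hrank : Nat.card (MulAction.orbitRel.Quotient (MulAction.stabilizer G a₀) Ω) = 3) (χ₁ χ₂ : G → ℂ) (h₁ : Cfsg.IsIrrCharacter G χ₁) (h₂ : Cfsg.IsIrrCharacter G χ₂) (hπ : (fun g : G => (Nat.card (MulAction.fixedBy Ω g) : ℂ)) = fun g => 1 + χ₁ g + χ₂ g) (hd₁ : χ₁ 1 = (m : ℂ) - 1) (hd₂ : χ₂ 1 = m) : ∃ a : ℕ, 0 < a ∧ m = 2 * a ^ 2 + 2 * a + 1 ∧ ∀ b : Ω, b ≠ a₀ → Nat.card (MulAction.orbit (MulAction.stabilizer G a₀) b) = a * (2 * a + 1) ∨ Nat.card (MulAction.orbit (MulAction.stabilizer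 G a₀) b) = (a + 1) * (2 * a + 1) := by
  classical
  obtain ⟨b₀, hb₀, -⟩ := exists_third a₀ hrank a₀
  obtain ⟨a, ha0, ham, -⟩ := key hprim hm a₀ hrank χ₁ χ₂ h₁ h₂ hπ hd₁ hd₂ b₀ hb₀
  refine ⟨a, ha0, ham, ?_⟩
  intro b hb
  obtain ⟨a', ha0', ham', hk'⟩ := key hprim hm a₀ hrank χ₁ χ₂ h₁ h₂ hπ hd₁ hd₂ b hb
  have haa : a' = a := by
    rcases lt_trichotomy a' a with h | h | h
    · exfalso; nlinarith
    · exact h
    · exfalso; nlinarith
  rw [haa] at hk'
  exact hk'

end Cfsg.Agent.S0719
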