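import Mathlib
import Cfsg.Statements.S0724

set_option autoImplicit false
open Cfsg

namespace Cfsg.Agent.S0724

/-- number of fixed points, as an integer -/
noncomputable def fx {α : Type*} (g : Equiv.Perm α) : ℤ := (Nat.card (MulAction.fixedBy α g) : ℤ)

theorem card_fixedBy_pi {α : Type*} [Fintype α] [DecidableEq α] (G : Subgroup (Equiv.Perm α))
    (g : G) (k : ℕ) :
    Nat.card (MulAction.fixedBy (Fin k → α) g) =
      Nat.card (MulAction.fixedBy α (g : Equiv.Perm α)) ^ k := by
  have e : MulAction.fixedBy (Fin k → α) g ≃ (Fin k → MulAction.fixedBy α (g : Equiv.Perm α)) :=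
    { toFun := fun f i => ⟨f.1 i, by
        have := f.2
        rw [MulAction.mem_fixedBy] at this ⊢
        exact congrFun this i⟩
      invFun := fun f => ⟨fun i => (f i).1, by
        rw [MulAction.mem_fixedBy]
        funext i
        exact (f i).2⟩
      left_inv := fun f => rfl
      right_inv := fun f => rfl }
  rw [Nat.card_congr e, Nat.card_fun, Nat.card_eq_fintype_card (α := Fin k), Fintype.card_fin]

theorem pow_sum_dvd {α : Type*} [Fintype α] [DecidableEq α] (G : Subgroup (Equiv.Perm α))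
    [DecidablePred (· ∈ G)] (k : ℕ) :
    (Nat.card G : ℤ) ∣ ∑ g : G, fx (g : Equiv.Perm α) ^ k := by
  classical
  have h := MulAction.sum_card_fixedBy_eq_card_orbits_mul_card_group G (Fin k → α)
  have h2 : ∑ g : G, fx (g : Equiv.Perm α) ^ k =
      ((∑ g : G, Fintype.card (MulAction.fixedBy (Fin k → α) g) : ℕ) : ℤ) := by
    rw [Nat.cast_sum]
    apply Finset.sum_congr rfl
    intro g _
    rw [← Nat.card_eq_fintype_card, card_fixedBy_pi, Nat.cast_pow]
    rfl
  rw [h2, h, Nat.card_eq_fintype_card]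
  exact ⟨_, by rw [Nat.cast_mul, mul_comm]⟩

theorem poly_sum_dvd {α : Type*} [Fintype α] [DecidableEq α] (G : Subgroup (Equiv.Perm α))
    [DecidablePred (· ∈ G)] (p : Polynomial ℤ) :
    (Nat.card G : ℤ) ∣ ∑ g : G, p.eval (fx (g : Equiv.Perm α)) := by
  have : ∀ g : G, p.eval (fx (g : Equiv.Perm α)) =
      ∑ e ∈ p.support, p.coeff e * fx (g : Equiv.Perm α) ^ e := by
    intro g
    rw [Polynomial.eval_eq_sum, Polynomial.sum_def]
  simp_rw [this]
  rw [Finset.sum_comm]
  apply Finset.dvd_sum
  intro e _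
  rw [← Finset.mul_sum]
  exact Dvd.dvd.mul_left (pow_sum_dvd G e) _

theorem result {α : Type*} [Fintype α] [DecidableEq α] (G : Subgroup (Equiv.Perm α)) (L : Finset ℕ) (hL : ∀ g ∈ G, g ≠ 1 → Nat.card (MulAction.fixedBy α g) ∈ L) : Nat.card G ∣ ∏ l ∈ L, (Fintype.card α - l) := by
  classical
  by_cases hbig : ∃ l ∈ L, Fintype.card α ≤ l
  · obtain ⟨l, hl, hle⟩ := hbig
    rw [Finset.prod_eq_zero hl (Nat.sub_eq_zero_of_le hle)]
    exact dvd_zero _
  · push Not at hbig
    set p : Polynomial ℤ := ∏ l ∈ L, (Polynomial.X - Polynomial.C (l : ℤ)) with hp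
    have h1 := poly_sum_dvd G p
    have hev : ∀ x : ℤ, p.eval x = ∏ l ∈ L, (x - l) := by
      intro x
      rw [hp, Polynomial.eval_prod]
      apply Finset.prod_congr rfl
      intro l _
      simp
    have hone : fx (1 : Equiv.Perm α) = (Fintype.card α : ℤ) := by
      unfold fx
      congr 1
      rw [MulAction.fixedBy_one_eq_univ, Nat.card_eq_fintype_card]
      simp
    have hsum : ∑ g : G, p.eval (fx (g : Equiv.Perm α)) = ∏ l ∈ L, ((Fintype.card α : ℤ) - l) := by
      rw [Finset.sum_eq_single (1 : G)]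
      · rw [hev]
        rw [show ((1 : G) : Equiv.Perm α) = 1 from rfl, hone]
      · intro g _ hg
        rw [hev]
        have hg' : (g : Equiv.Perm α) ≠ 1 := fun h => hg (Subtype.ext h)
        have hmem := hL g g.2 hg'
        apply Finset.prod_eq_zero hmem
        unfold fx
        ring
      · intro h
        exact absurd (Finset.mem_univ _) h
    rw [hsum] at h1
    have hcast : ((∏ l ∈ L, (Fintype.card α - l) : ℕ) : ℤ) = ∏ l ∈ L, ((Fintype.card α : ℤ) - l) := by
      rw [Nat.cast_prod]
      apply Finset.prod_congr rfl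
      intro l hl
      rw [Nat.cast_sub (hbig l hl).le]
    rw [← hcast] at h1
    exact Int.natCast_dvd_natCast.mp h1

end Cfsg.Agent.S0724
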