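import Cfsg.Statements.S0726

set_option autoImplicit false
open Cfsg

namespace Cfsg.Agent.S0726

theorem mem_centralizer_iff' {G : Type*} [Group G] (c : Equiv.Perm G) :
    c ∈ Subgroup.centralizer ((MulAction.toPermHom G G).range : Set (Equiv.Perm G)) ↔
      ∀ g x : G, g * c x = c (g * x) := by
  rw [Subgroup.mem_centralizer_iff]
  constructor
  · intro h g x
    have := h (MulAction.toPermHom G G g) ⟨g, rfl⟩
    have := congrArg (fun σ : Equiv.Perm G => σ x) this
    simpa using this
  · rintro h _ ⟨g, rfl⟩
    ext x
    simpa using h g x

theorem centralizer_eq {G : Type*} [Group G] :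
    Subgroup.centralizer ((MulAction.toPermHom G G).range : Set (Equiv.Perm G)) =
      (MulAction.toPermHom Gᵐᵒᵖ G).range := by
  ext c
  rw [mem_centralizer_iff']
  constructor
  · intro h
    refine ⟨MulOpposite.op (c 1), ?_⟩
    ext x
    have := h x 1
    simpa using this
  · rintro ⟨m, rfl⟩ g x
    simp [mul_assoc]

/-- The left and right regular permutation representations of a group are each other's centralisers in the symmetric group: the centraliser of the left regular image is the right regular image, and a transitive subgroup centralising the left regular image is the whole right regular image. -/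
theorem result {G : Type*} [Group G] : Subgroup.centralizer ((MulAction.toPermHom G G).range : Set (Equiv.Perm G)) = (MulAction.toPermHom Gᵐᵒᵖ G).range ∧ ∀ H : Subgroup (Equiv.Perm G), H ≤ Subgroup.centralizer ((MulAction.toPermHom G G).range : Set (Equiv.Perm G)) → MulAction.IsPretransitive H G → H = (MulAction.toPermHom Gᵐᵒᵖ G).range := by
  refine ⟨centralizer_eq, fun H hH htr => ?_⟩
  apply le_antisymm
  · rw [← centralizer_eq]; exact hH
  · rintro _ ⟨m, rfl⟩
    obtain ⟨h, hh⟩ := htr.exists_smul_eq (1 : G) (MulOpposite.unop m)
    have hc := hH h.2
    rw [mem_centralizer_iff'] at hc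
    have : (h : Equiv.Perm G) = MulAction.toPermHom Gᵐᵒᵖ G m := by
      ext x
      have h1 := hc x 1
      have h2 : (h : Equiv.Perm G) 1 = MulOpposite.unop m := hh
      rw [h2] at h1
      simpa using h1.symm
    rw [← this]
    exact h.2

end Cfsg.Agent.S0726
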