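import Cfsg.Statements.S0729
import Cfsg.Agent.Lib.Helper95_Sharp3Idx

set_option autoImplicit false
open Cfsg

namespace Cfsg.Agent.S0729

/-- In a sharply triply transitive group of even degree at least 6, the two-point stabiliser `H = G_{a,b}` has a normal subgroup of index 2 that is normalised by the element `s` interchanging `a, b` and fixing a third point `c`. -/
theorem result {α : Type*} [Fintype α] [DecidableEq α] (heven : Even (Fintype.card α)) (h6 : 6 ≤ Fintype.card α) (G : Subgroup (Equiv.Perm α)) (h3 : MulAction.IsMultiplyPretransitive G α 3) (hsharp : ∀ x : Fin 3 ↪ α, MulAction.stabilizer G x = ⊥) {a b c : α} (hab : a ≠ b) (hac : a ≠ c) (hbc : b ≠ c) (s : G) (hsa : s • a = b) (hsb : s • b = a) (hsc : s • c = c) : ∃ N : Subgroup G, N ≤ MulAction.stabilizer G a ⊓ MulAction.stabilizer G b ∧ (N.subgroupOf (MulAction.stabilizer G a ⊓ MulAction.stabilizer G b)).Normal ∧ N.relIndex (MulAction.stabilizer G a ⊓ MulAction.stabilizer G b) = 2 ∧ ∀ n ∈ N, s * n * s⁻¹ ∈ N := by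
  classical
  -- only the identity fixes three points
  have hs : Cfsg.Agent.Lib.Helper21_Sharp3.Sharp3 G α := by
    intro g u v w huv huw hvw h1 h2 h3'
    have hmem : g ∈ MulAction.stabilizer G (Cfsg.Agent.S0728.emb3 u v w huv huw hvw) := by
      rw [MulAction.mem_stabilizer_iff]
      ext i
      change g • (Cfsg.Agent.S0728.emb3 u v w huv huw hvw i) = _
      fin_cases i
      · exact h1
      · exact h2
      · exact h3'
    rw [hsharp] at hmem
    exact Subgroup.mem_bot.mp hmem
  obtain ⟨M, hM⟩ := Cfsg.Agent.Lib.Helper95_Sharp3Idx.exists_index_two h3 hs heven h6 hab hac hbc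
  -- `s` is an involution normalising the two-point stabiliser
  have hss : s * s = 1 :=
    hs (s * s) a b c hab hac hbc (by rw [mul_smul, hsa, hsb]) (by rw [mul_smul, hsb, hsa])
      (by rw [mul_smul, hsc, hsc])
  have hsinv : s⁻¹ = s := inv_eq_of_mul_eq_one_left hss
  have hHmem : ∀ g, g ∈ MulAction.stabilizer G a ⊓ MulAction.stabilizer G b ↔
      g • a = a ∧ g • b = b := by
    intro g
    rw [Subgroup.mem_inf, MulAction.mem_stabilizer_iff, MulAction.mem_stabilizer_iff]
  have hnorm : ∀ h ∈ MulAction.stabilizer G a ⊓ MulAction.stabilizer G b,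
      s * h * s⁻¹ ∈ MulAction.stabilizer G a ⊓ MulAction.stabilizer G b := by
    intro h hh
    obtain ⟨h1, h2⟩ := (hHmem h).1 hh
    rw [hHmem, hsinv]
    constructor
    · rw [mul_smul, mul_smul, hsa, h2, hsb]
    · rw [mul_smul, mul_smul, hsb, h1, hsa]
  let σ : ↥(MulAction.stabilizer G a ⊓ MulAction.stabilizer G b) ≃*
      ↥(MulAction.stabilizer G a ⊓ MulAction.stabilizer G b) :=
    { toFun := fun h => ⟨s * h * s⁻¹, hnorm h h.2⟩
      invFun := fun h => ⟨s * h * s⁻¹, hnorm h h.2⟩
      left_inv := fun h => by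
        apply Subtype.ext
        change s * (s * (h : G) * s⁻¹) * s⁻¹ = h
        rw [hsinv]
        calc s * (s * (h : G) * s) * s = (s * s) * h * (s * s) := by group
          _ = h := by rw [hss, one_mul, mul_one]
      right_inv := fun h => by
        apply Subtype.ext
        change s * (s * (h : G) * s⁻¹) * s⁻¹ = h
        rw [hsinv]
        calc s * (s * (h : G) * s) * s = (s * s) * h * (s * s) := by group
          _ = h := by rw [hss, one_mul, mul_one]
      map_mul' := fun x y => by
        apply Subtype.ext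
        change s * ((x : G) * y) * s⁻¹ = (s * x * s⁻¹) * (s * y * s⁻¹)
        group }
  have hσ : ∀ x, σ (σ x) = x := fun x => σ.left_inv x
  obtain ⟨N, hN2, hNσ⟩ :=
    Cfsg.Agent.Lib.Helper95_IdxTwo.exists_invariant_index_two σ hσ ⟨M, hM⟩
  have hsub : (N.map (MulAction.stabilizer G a ⊓ MulAction.stabilizer G b).subtype).subgroupOf
      (MulAction.stabilizer G a ⊓ MulAction.stabilizer G b) = N :=
    Subgroup.comap_map_eq_self_of_injective (Subgroup.subtype_injective _) N
  refine ⟨N.map (MulAction.stabilizer G a ⊓ MulAction.stabilizer G b).subtype,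
    Subgroup.map_subtype_le N, ?_, ?_, ?_⟩
  · rw [hsub]
    exact Subgroup.normal_of_index_eq_two hN2
  · rw [Subgroup.relIndex, hsub]
    exact hN2
  · intro n hn
    rw [Subgroup.mem_map] at hn ⊢
    obtain ⟨x, hx, rfl⟩ := hn
    exact ⟨σ x, hNσ x hx, rfl⟩

end Cfsg.Agent.S0729
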