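import Cfsg.Statements.S0733
import Mathlib.Algebra.Module.ZMod
import Mathlib.GroupTheory.GroupAction.Blocks

set_option autoImplicit false
open Cfsg
open scoped Pointwise

namespace Cfsg.Agent.S0733

theorem result {p : ℕ} [Fact p.Prime] {V : Type*} [AddCommGroup V] [Module (ZMod p) V] [Finite V] [Nontrivial V] (G₀ : Subgroup (V ≃ₗ[ZMod p] V)) (G : Subgroup (Equiv.Perm V)) (hG : ∀ σ : Equiv.Perm V, σ ∈ G ↔ ∃ g ∈ G₀, ∃ b : V, ∀ x : V, σ x = (g : V ≃ₗ[ZMod p] V) x + b) : MulAction.IsPreprimitive G V ↔ ∀ W : Submodule (ZMod p) V, (∀ g ∈ G₀, ∀ v ∈ W, (g : V ≃ₗ[ZMod p] V) v ∈ W) → W = ⊥ ∨ W = ⊤ := by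
  have hsmul : ∀ (σ : G) (x : V), σ • x = (σ : Equiv.Perm V) x := fun σ x => rfl
  -- the affine maps are in G
  have haff : ∀ g ∈ G₀, ∀ b : V, ∃ σ : G, ∀ x : V, σ • x = (g : V ≃ₗ[ZMod p] V) x + b := by
    intro g hg b
    let σ : Equiv.Perm V := (g : V ≃ₗ[ZMod p] V).toEquiv.trans (Equiv.addRight b)
    have hσ : σ ∈ G := (hG σ).mpr ⟨g, hg, b, fun x => rfl⟩
    exact ⟨⟨σ, hσ⟩, fun x => rfl⟩
  constructor
  · intro hprim W hW
    have hblock : MulAction.IsBlock G (W : Set V) := by
      rw [MulAction.isBlock_iff_smul_eq_of_mem]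
      intro σ a ha hσa
      obtain ⟨g, hg, b, hgb⟩ := (hG σ).mp σ.2
      have hb : b ∈ W := by
        have h1 : (g : V ≃ₗ[ZMod p] V) a + b ∈ W := by
          rw [← hgb a]; exact hσa
        have h2 := hW g hg a ha
        have := W.sub_mem h1 h2
        simpa using this
      apply Set.Subset.antisymm
      · rintro _ ⟨w, hw, rfl⟩
        change σ • w ∈ W
        rw [hsmul, hgb]
        exact W.add_mem (hW g hg w hw) hb
      · intro w hw
        refine ⟨(g : V ≃ₗ[ZMod p] V).symm (w - b), ?_, ?_⟩
        · have := hW g⁻¹ (G₀.inv_mem hg) (w - b) (W.sub_mem hw hb)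
          exact this
        · change σ • _ = w
          rw [hsmul, hgb]
          simp
    rcases hprim.isTrivialBlock_of_isBlock hblock with h | h
    · left
      rw [Submodule.eq_bot_iff]
      intro x hx
      exact h hx W.zero_mem
    · right
      rw [Submodule.eq_top_iff']
      intro x
      have : x ∈ (W : Set V) := by rw [h]; exact Set.mem_univ x
      exact this
  · intro hirr
    have hpre : MulAction.IsPretransitive G V := by
      refine ⟨fun x y => ?_⟩
      obtain ⟨σ, hσ⟩ := haff 1 G₀.one_mem (y - x)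
      refine ⟨σ, ?_⟩
      rw [hσ]
      simp
    refine { toIsPretransitive := hpre, isTrivialBlock_of_isBlock := ?_ }
    intro B hB
    rcases Set.eq_empty_or_nonempty B with rfl | ⟨a, ha⟩
    · left; exact Set.subsingleton_empty
    -- translations stabilizing B
    have htrans : ∀ w : V, w + a ∈ B → ∀ u : V, u ∈ B ↔ u + w ∈ B := by
      intro w hw
      obtain ⟨τ, hτ⟩ := haff 1 G₀.one_mem w
      have hτ' : ∀ x : V, τ • x = x + w := by
        intro x; rw [hτ]; simp
      have hτB : τ • B = B := by
        apply (MulAction.isBlock_iff_smul_eq_of_mem.mp hB) ha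
        rw [hτ', add_comm]
        exact hw
      intro u
      constructor
      · intro hu
        rw [← hτB]
        exact ⟨u, hu, hτ' u⟩
      · intro hu
        rw [← hτB] at hu
        obtain ⟨u', hu', hu''⟩ := hu
        replace hu'' : τ • u' = u + w := hu''
        rw [hτ'] at hu''
        have : u' = u := add_right_cancel hu''
        rwa [← this]
    let W₀ : AddSubgroup V :=
      { carrier := {v | v + a ∈ B}
        zero_mem' := by simpa using ha
        add_mem' := by
          intro u w hu hw
          have := (htrans w hw (u + a)).mp hu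
          simp only [Set.mem_ofPred_eq] at hu hw ⊢
          convert this using 1
          abel
        neg_mem' := by
          intro w hw
          have := (htrans w hw (-w + a)).mpr (by
            have : -w + a + w = a := by abel
            rw [this]; exact ha)
          exact this }
    have hW₀ : ∀ v : V, v ∈ W₀ ↔ v + a ∈ B := fun v => Iff.rfl
    let W : Submodule (ZMod p) V := AddSubgroup.toZModSubmodule p W₀
    have hWmem : ∀ v : V, v ∈ W ↔ v + a ∈ B := fun v => Iff.rfl
    have hWinv : ∀ g ∈ G₀, ∀ v ∈ W, (g : V ≃ₗ[ZMod p] V) v ∈ W := by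
      intro g hg v hv
      rw [hWmem] at hv ⊢
      obtain ⟨σ, hσ⟩ := haff g hg (a - (g : V ≃ₗ[ZMod p] V) a)
      have hσa : σ • a = a := by rw [hσ]; abel
      have hσB : σ • B = B := by
        apply (MulAction.isBlock_iff_smul_eq_of_mem.mp hB) ha
        rw [hσa]; exact ha
      rw [← hσB]
      refine ⟨v + a, hv, ?_⟩
      change σ • (v + a) = _
      rw [hσ, map_add]
      abel
    rcases hirr W hWinv with h | h
    · left
      intro x hx y hy
      have hx' : x - a ∈ W := by rw [hWmem]; simpa using hx
      have hy' : y - a ∈ W := by rw [hWmem]; simpa using hy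
      rw [h, Submodule.mem_bot] at hx' hy'
      rw [sub_eq_zero.mp hx', sub_eq_zero.mp hy']
    · right
      rw [Set.eq_univ_iff_forall]
      intro x
      have : x - a ∈ W := by rw [h]; exact Submodule.mem_top
      rw [hWmem] at this
      simpa using this

end Cfsg.Agent.S0733
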