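import Cfsg.Statements.S0735
import Mathlib

set_option autoImplicit false
open Cfsg

namespace Cfsg.Agent.S0735

open scoped Pointwise

variable {α : Type*} [Fintype α] [DecidableEq α]

lemma two_homog (G : Subgroup (Equiv.Perm α))
    (h2 : MulAction.IsPretransitive G (Set.powersetCard α 2)) {a b c d : α} (hab : a ≠ b)
    (hcd : c ≠ d) : ∃ g : G, (g • a = c ∧ g • b = d) ∨ (g • a = d ∧ g • b = c) := by
  let s : Set.powersetCard α 2 := ⟨{a, b}, Finset.card_pair hab⟩
  let t : Set.powersetCard α 2 := ⟨{c, d}, Finset.card_pair hcd⟩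
  obtain ⟨g, hg⟩ := MulAction.exists_smul_eq G s t
  refine ⟨g, ?_⟩
  have h1 : (g • ({a, b} : Finset α)) = {c, d} := by
    have h0 : ((g • s : Set.powersetCard α 2) : Finset α) = (t : Finset α) := by rw [hg]
    exact (Set.powersetCard.coe_smul (g := g) (s := s)).symm.trans h0
  have ha : g • a ∈ ({c, d} : Finset α) := by
    rw [← h1]
    exact Finset.smul_mem_smul_finset (by simp)
  have hb : g • b ∈ ({c, d} : Finset α) := by
    rw [← h1]
    exact Finset.smul_mem_smul_finset (by simp)
  have hne : g • a ≠ g • b := fun h => hab (MulAction.injective g h)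
  rw [Finset.mem_insert, Finset.mem_singleton] at ha hb
  rcases ha with ha | ha <;> rcases hb with hb | hb
  · exact absurd (ha.trans hb.symm) hne
  · exact Or.inl ⟨ha, hb⟩
  · exact Or.inr ⟨ha, hb⟩
  · exact absurd (ha.trans hb.symm) hne

theorem result {α : Type*} [Fintype α] [DecidableEq α] (G : Subgroup (Equiv.Perm α)) (h2 : MulAction.IsPretransitive G (Set.powersetCard α 2)) (hα : 3 ≤ Fintype.card α) : (Even (Nat.card G) → MulAction.IsMultiplyPretransitive G α 2) ∧ (G ≠ ⊥ → MulAction.IsPreprimitive G α) := by
  constructor
  · intro heven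
    have : Fact (Nat.Prime 2) := ⟨Nat.prime_two⟩
    obtain ⟨t, ht⟩ := exists_prime_orderOf_dvd_card' (G := G) 2 heven.two_dvd
    have ht2 : t * t = 1 := by
      have := pow_orderOf_eq_one t
      rwa [ht, pow_two] at this
    have ht1 : t ≠ 1 := by
      intro h
      rw [h, orderOf_one] at ht
      omega
    -- t moves some point
    have : ∃ a : α, t • a ≠ a := by
      by_contra hcon
      push Not at hcon
      apply ht1
      apply Subtype.ext
      apply Equiv.ext
      intro a
      exact hcon a
    obtain ⟨a, ha⟩ := this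
    have htb : t • (t • a) = a := by
      rw [← mul_smul, ht2, one_smul]
    -- every ordered pair maps to (a, t a)
    have key : ∀ x y : α, x ≠ y → ∃ g : G, g • x = a ∧ g • y = t • a := by
      intro x y hxy
      obtain ⟨g, hg | hg⟩ := two_homog G h2 hxy (Ne.symm ha)
      · exact ⟨g, hg⟩
      · refine ⟨t * g, ?_, ?_⟩
        · rw [mul_smul, hg.1, htb]
        · rw [mul_smul, hg.2]
    rw [MulAction.is_two_pretransitive_iff]
    intro x y x' y' hxy hxy'
    obtain ⟨g₁, h1, h1'⟩ := key x y hxy
    obtain ⟨g₂, h2', h2''⟩ := key x' y' hxy'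
    refine ⟨g₂⁻¹ * g₁, ?_, ?_⟩
    · rw [mul_smul, h1, inv_smul_eq_iff, h2']
    · rw [mul_smul, h1', inv_smul_eq_iff, h2'']
  · intro _
    have htrans : MulAction.IsPretransitive G α := by
      constructor
      intro a b
      by_cases hab : a = b
      · exact ⟨1, by rw [hab, one_smul]⟩
      · -- a third point
        have : ∃ c : α, c ≠ a ∧ c ≠ b := by
          by_contra hcon
          push Not at hcon
          have : (Finset.univ : Finset α) ⊆ {a, b} := by
            intro c _
            by_cases hc : c = a
            · simp [hc]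
            · simp [hcon c hc]
          have h3 := Finset.card_le_card this
          rw [Finset.card_univ, Finset.card_pair hab] at h3
          omega
        obtain ⟨c, hca, hcb⟩ := this
        obtain ⟨g, hg | hg⟩ := two_homog G h2 (Ne.symm hca) (Ne.symm hcb)
        · exact ⟨g, hg.1⟩
        · -- g a = c, g c = b
          obtain ⟨h, hh | hh⟩ := two_homog G h2 (Ne.symm hca) hab
          · -- h a = a, h c = b
            exact ⟨h * g, by rw [mul_smul, hg.1, hh.2]⟩
          · exact ⟨h, hh.1⟩
    apply MulAction.IsPreprimitive.mk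
    intro B hB
    rcases B.subsingleton_or_nontrivial with h | h
    · left; exact h
    · right
      obtain ⟨a, ha, b, hb, hab⟩ := h
      rw [Set.eq_univ_iff_forall]
      intro c
      by_contra hc
      have hac : a ≠ c := fun h => hc (h ▸ ha)
      rw [MulAction.isBlock_iff_smul_eq_of_mem] at hB
      obtain ⟨g, hg | hg⟩ := two_homog G h2 hab hac
      · have := hB (g := g) ha (by rw [hg.1]; exact ha)
        apply hc
        rw [← this, ← hg.2]
        exact Set.smul_mem_smul_set hb
      · have := hB (g := g) hb (by rw [hg.2]; exact ha)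
        apply hc
        rw [← this, ← hg.1]
        exact Set.smul_mem_smul_set ha

end Cfsg.Agent.S0735
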