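import Mathlib
import Cfsg.Statements.S0736

set_option autoImplicit false
open Cfsg

namespace Cfsg.Agent.S0736

open scoped Pointwise

theorem choose_modEq_aux (p : ℕ) [hp : Fact p.Prime] (a c : ℕ) :
    Nat.choose (c * p ^ a + p ^ a - 1) (p ^ a) ≡ c [MOD p] := by
  induction a with
  | zero => simp [Nat.ModEq]
  | succ a ih =>
    have hp1 : 1 ≤ p := hp.1.one_le
    have hpos : 0 < p ^ a := pow_pos hp.1.pos a
    have hpos' : 0 < (c + 1) * p ^ a := by positivity
    have h1 : c * p ^ (a + 1) + p ^ (a + 1) - 1 = p * ((c + 1) * p ^ a - 1) + (p - 1) := by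
      have e1 : c * p ^ (a + 1) + p ^ (a + 1) = p * ((c + 1) * p ^ a) := by ring
      rw [e1]
      obtain ⟨m, hm⟩ : ∃ m, (c + 1) * p ^ a = m + 1 := ⟨(c + 1) * p ^ a - 1, by omega⟩
      rw [hm]
      simp only [Nat.add_sub_cancel]
      have : p * (m + 1) = p * m + p := by ring
      omega
    have hmod : (c * p ^ (a + 1) + p ^ (a + 1) - 1) % p = p - 1 := by
      rw [h1, Nat.mul_add_mod]
      exact Nat.mod_eq_of_lt (by have := hp.1.two_le; omega)
    have hdiv : (c * p ^ (a + 1) + p ^ (a + 1) - 1) / p = c * p ^ a + p ^ a - 1 := by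
      rw [h1, Nat.mul_add_div hp.1.pos, Nat.div_eq_of_lt (by have := hp.1.two_le; omega), add_zero]
      ring_nf
    have hqmod : p ^ (a + 1) % p = 0 := by
      rw [pow_succ]; exact Nat.mul_mod_left _ _
    have hqdiv : p ^ (a + 1) / p = p ^ a := by
      rw [pow_succ]; exact Nat.mul_div_cancel _ hp.1.pos
    have := Choose.choose_modEq_choose_mod_mul_choose_div_nat (p := p)
      (n := c * p ^ (a + 1) + p ^ (a + 1) - 1) (k := p ^ (a + 1))
    rw [hmod, hdiv, hqmod, hqdiv, Nat.choose_zero_right, one_mul] at this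
    exact this.trans ih

section core

variable {α : Type*} [DecidableEq α]

/-- the `k`-subsets of `Λ` containing a given `(k-1)`-subset `Γ` correspond to the points of
`Λ \ Γ` -/
theorem card_supersets (Λ Γ : Finset α) (k : ℕ) (hk : 1 ≤ k) (hΓ : Γ ⊆ Λ) (hΓc : Γ.card = k - 1) :
    ((Λ.powersetCard k).filter (fun Δ => Γ ⊆ Δ)).card = Λ.card - (k - 1) := by
  rw [← hΓc, ← Finset.card_sdiff_of_subset hΓ]
  symm
  apply Finset.card_bij (fun x _ => insert x Γ)
  · intro x hx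
    rw [Finset.mem_sdiff] at hx
    rw [Finset.mem_filter, Finset.mem_powersetCard]
    refine ⟨⟨?_, ?_⟩, Finset.subset_insert _ _⟩
    · exact Finset.insert_subset hx.1 hΓ
    · rw [Finset.card_insert_of_notMem hx.2, hΓc]; omega
  · intro x hx y hy hxy
    rw [Finset.mem_sdiff] at hx hy
    have : x ∈ insert y Γ := by rw [← hxy]; exact Finset.mem_insert_self _ _
    rcases Finset.mem_insert.1 this with h | h
    · exact h
    · exact absurd h hx.2
  · intro Δ hΔ
    rw [Finset.mem_filter, Finset.mem_powersetCard] at hΔ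
    obtain ⟨⟨hΔΛ, hΔc⟩, hΓΔ⟩ := hΔ
    have hc : (Δ \ Γ).card = 1 := by
      rw [Finset.card_sdiff_of_subset hΓΔ, hΔc, hΓc]; omega
    obtain ⟨x, hx⟩ := Finset.card_eq_one.1 hc
    have hxm : x ∈ Δ \ Γ := by rw [hx]; exact Finset.mem_singleton_self x
    rw [Finset.mem_sdiff] at hxm
    refine ⟨x, Finset.mem_sdiff.2 ⟨hΔΛ hxm.1, hxm.2⟩, ?_⟩
    rw [← Finset.sdiff_union_of_subset hΓΔ, hx]
    ext y
    simp

/-- the counting identity -/
theorem count_identity (O : Finset (Finset α)) (k t : ℕ) (hk : 1 ≤ k)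
    (hO : ∀ Γ ∈ O, Γ.card = k - 1)
    (ht : ∀ Δ : Finset α, Δ.card = k → (O.filter (fun Γ => Γ ⊆ Δ)).card = t)
    (Λ : Finset α) :
    (O.filter (fun Γ => Γ ⊆ Λ)).card * (Λ.card - (k - 1)) = (Λ.card).choose k * t := by
  have h := Finset.sum_card_bipartiteAbove_eq_sum_card_bipartiteBelow
    (s := Λ.powersetCard k) (t := O.filter (fun Γ => Γ ⊆ Λ)) (fun Δ Γ => Γ ⊆ Δ)
  have h1 : ∀ Δ ∈ Λ.powersetCard k,
      ((O.filter (fun Γ => Γ ⊆ Λ)).bipartiteAbove (fun Δ Γ => Γ ⊆ Δ) Δ).card = t := by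
    intro Δ hΔ
    rw [Finset.mem_powersetCard] at hΔ
    rw [← ht Δ hΔ.2, Finset.bipartiteAbove, Finset.filter_filter]
    congr 1
    apply Finset.filter_congr
    intro Γ _
    constructor
    · intro h; exact h.2
    · intro h; exact ⟨h.trans hΔ.1, h⟩
  have h2 : ∀ Γ ∈ O.filter (fun Γ => Γ ⊆ Λ),
      ((Λ.powersetCard k).bipartiteBelow (fun Δ Γ => Γ ⊆ Δ) Γ).card = Λ.card - (k - 1) := by
    intro Γ hΓ
    rw [Finset.mem_filter] at hΓ
    rw [Finset.bipartiteBelow]
    exact card_supersets Λ Γ k hk hΓ.2 (hO Γ hΓ.1)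
  rw [Finset.sum_congr rfl h1, Finset.sum_congr rfl h2, Finset.sum_const, Finset.sum_const,
    Finset.card_powersetCard, smul_eq_mul, smul_eq_mul] at h
  exact h.symm

end core

/-- the arithmetic step: `q = p ^ a` exactly dividing `k` divides `t` -/
theorem pow_dvd_of_count (p : ℕ) [hp : Fact p.Prime] (k t N : ℕ) (hk : k ≠ 0)
    (h : N * (p ^ k.factorization p) =
      (k + p ^ k.factorization p - 1).choose k * t) : p ^ k.factorization p ∣ t := by
  set a := k.factorization p with ha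
  set q := p ^ a with hq
  set c := k / q with hc
  have hqpos : 0 < q := pow_pos hp.1.pos a
  have hkq : c * q = k := by
    rw [hc, mul_comm]; exact Nat.mul_div_cancel' (Nat.ordProj_dvd k p)
  have hpc : ¬ p ∣ c := Nat.not_dvd_ordCompl hp.1 hk
  have hkpos : 0 < k := Nat.pos_of_ne_zero hk
  set j := k + q - 1 with hj
  -- C(j,k) * k = C(j,k-1) * q
  have e1 : j.choose k * k = j.choose (k - 1) * q := by
    obtain ⟨m, hm⟩ : ∃ m, k = m + 1 := ⟨k - 1, by omega⟩
    have := Nat.choose_succ_right_eq j m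
    rw [hm]
    simp only [Nat.add_sub_cancel]
    rw [this]
    congr 1
    omega
  have e2 : N * k = j.choose (k - 1) * t := by
    have h3 : (N * k) * q = (j.choose (k - 1) * t) * q := by
      calc (N * k) * q = (N * q) * k := by ring
        _ = (j.choose k * t) * k := by rw [h]
        _ = (j.choose k * k) * t := by ring
        _ = (j.choose (k - 1) * q) * t := by rw [e1]
        _ = (j.choose (k - 1) * t) * q := by ring
    exact Nat.eq_of_mul_eq_mul_right hqpos h3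
  have e3 : j.choose (k - 1) = j.choose q := by
    rw [← Nat.choose_symm (by omega : k - 1 ≤ j)]
    congr 1
    omega
  have e4 : j.choose q ≡ c [MOD p] := by
    have := choose_modEq_aux p a c
    rw [← hq, hkq] at this
    exact this
  have hcop : Nat.Coprime q (j.choose q) := by
    apply Nat.Coprime.pow_left
    rw [Nat.Prime.coprime_iff_not_dvd hp.1]
    intro hdvd
    apply hpc
    exact (Nat.ModEq.dvd_iff e4 (dvd_refl p)).1 hdvd
  have hdvd : q ∣ j.choose q * t := by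
    rw [← e3, ← e2]
    exact Dvd.dvd.mul_left ⟨c, by rw [mul_comm]; exact hkq.symm⟩ N
  exact hcop.dvd_of_dvd_mul_left hdvd

/-- A `k`-homogeneous permutation group of degree `n`, `k ≥ 2`, with `k + q - 1 ≤ n` for every prime power `q` dividing `k`, is `(k-1)`-homogeneous. -/
theorem result {α : Type*} [Fintype α] [DecidableEq α] (G : Subgroup (Equiv.Perm α)) {k : ℕ} (hk : 2 ≤ k) (hG : MulAction.IsPretransitive G (Set.powersetCard α k)) (hq : ∀ q : ℕ, IsPrimePow q → q ∣ k → k + q - 1 ≤ Fintype.card α) : MulAction.IsPretransitive G (Set.powersetCard α (k - 1)) := by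
  classical
  have hk0 : k ≠ 0 := by omega
  -- `k < n`
  have hkn : k ≤ Fintype.card α := by
    obtain ⟨p, hp, hpk⟩ := Nat.exists_prime_and_dvd (by omega : k ≠ 1)
    have := hq p hp.isPrimePow hpk
    have := hp.two_le
    omega
  -- concrete form of `k`-homogeneity
  have hom : ∀ Δ₁ Δ₂ : Finset α, Δ₁.card = k → Δ₂.card = k → ∃ g : G, g • Δ₁ = Δ₂ := by
    intro Δ₁ Δ₂ h1 h2
    obtain ⟨g, hg⟩ := MulAction.exists_smul_eq G
      (⟨Δ₁, Set.powersetCard.mem_iff.2 h1⟩ : Set.powersetCard α k)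
      ⟨Δ₂, Set.powersetCard.mem_iff.2 h2⟩
    refine ⟨g, ?_⟩
    have := congrArg Subtype.val hg
    exact (Set.powersetCard.coe_smul (g := g)
      (s := (⟨Δ₁, Set.powersetCard.mem_iff.2 h1⟩ : Set.powersetCard α k))).symm.trans this
  constructor
  intro Γ₁ Γ₂
  have hΓ₁ : (Γ₁ : Finset α).card = k - 1 := Set.powersetCard.mem_iff.1 Γ₁.2
  have hΓ₂ : (Γ₂ : Finset α).card = k - 1 := Set.powersetCard.mem_iff.1 Γ₂.2
  set O : Finset (Finset α) :=
    Finset.univ.filter (fun Γ => ∃ g : G, g • (Γ₁ : Finset α) = Γ) with hO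
  have hOcard : ∀ Γ ∈ O, Γ.card = k - 1 := by
    intro Γ hΓ
    rw [hO, Finset.mem_filter] at hΓ
    obtain ⟨g, rfl⟩ := hΓ.2
    rw [Finset.card_smul_finset]; exact hΓ₁
  have hOinv : ∀ (g : G) (Γ : Finset α), Γ ∈ O → g • Γ ∈ O := by
    intro g Γ hΓ
    rw [hO, Finset.mem_filter] at hΓ ⊢
    obtain ⟨g', rfl⟩ := hΓ.2
    exact ⟨Finset.mem_univ _, g * g', by rw [mul_smul]⟩
  -- a `k`-set containing `Γ₂`
  have hex : ∀ Γ : Finset α, Γ.card = k - 1 → ∃ Δ : Finset α, Γ ⊆ Δ ∧ Δ.card = k := by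
    intro Γ hΓ
    have : Γ.card ≤ k ∧ k ≤ (Finset.univ : Finset α).card := by
      rw [Finset.card_univ]; exact ⟨by omega, hkn⟩
    obtain ⟨Δ, h1, _, h3⟩ := Finset.exists_subsuperset_card_eq (Finset.subset_univ Γ) this.1 this.2
    exact ⟨Δ, h1, h3⟩
  obtain ⟨Δ₀, hΓΔ₀, hΔ₀⟩ := hex Γ₂ hΓ₂
  set t := (O.filter (fun Γ => Γ ⊆ Δ₀)).card with ht
  have htconst : ∀ Δ : Finset α, Δ.card = k → (O.filter (fun Γ => Γ ⊆ Δ)).card = t := by
    intro Δ hΔ
    obtain ⟨g, hg⟩ := hom Δ₀ Δ hΔ₀ hΔ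
    rw [ht]
    symm
    apply Finset.card_bij (fun Γ _ => g • Γ)
    · intro Γ hΓ
      rw [Finset.mem_filter] at hΓ ⊢
      refine ⟨hOinv g Γ hΓ.1, ?_⟩
      rw [← hg]
      exact Finset.smul_finset_subset_smul_finset hΓ.2
    · intro Γ _ Γ' _ h
      exact smul_left_cancel g h
    · intro Γ hΓ
      rw [Finset.mem_filter] at hΓ
      refine ⟨g⁻¹ • Γ, ?_, by rw [smul_inv_smul]⟩
      rw [Finset.mem_filter]
      refine ⟨hOinv g⁻¹ Γ hΓ.1, ?_⟩
      have : g⁻¹ • Γ ⊆ g⁻¹ • Δ := Finset.smul_finset_subset_smul_finset hΓ.2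
      rwa [← hg, inv_smul_smul] at this
  -- `1 ≤ t ≤ k`
  have ht1 : 1 ≤ t := by
    obtain ⟨Δ₁, hΓΔ₁, hΔ₁⟩ := hex Γ₁ hΓ₁
    rw [← htconst Δ₁ hΔ₁]
    apply Finset.card_pos.2
    refine ⟨Γ₁, ?_⟩
    rw [Finset.mem_filter, hO, Finset.mem_filter]
    exact ⟨⟨Finset.mem_univ _, 1, one_smul _ _⟩, hΓΔ₁⟩
  have hsub : O.filter (fun Γ => Γ ⊆ Δ₀) ⊆ Δ₀.powersetCard (k - 1) := by
    intro Γ hΓ
    rw [Finset.mem_filter] at hΓ
    rw [Finset.mem_powersetCard]
    exact ⟨hΓ.2, hOcard Γ hΓ.1⟩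
  have hpc : (Δ₀.powersetCard (k - 1)).card = k := by
    rw [Finset.card_powersetCard, hΔ₀]
    obtain ⟨m, rfl⟩ : ∃ m, k = m + 1 := ⟨k - 1, by omega⟩
    simp
  have htk : t ≤ k := by
    rw [← hpc]; exact Finset.card_le_card hsub
  -- `k ∣ t`
  have hdvd : k ∣ t := by
    rw [← Nat.factorization_prime_le_iff_dvd hk0 (by omega)]
    intro p hp
    have : Fact p.Prime := ⟨hp⟩
    rw [← hp.pow_dvd_iff_le_factorization (by omega)]
    by_cases ha : k.factorization p = 0
    · rw [ha, pow_zero]; exact one_dvd _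
    have hpp : IsPrimePow (p ^ k.factorization p) := hp.isPrimePow.pow ha
    have hle := hq _ hpp (Nat.ordProj_dvd k p)
    have hqpos : 0 < p ^ k.factorization p := pow_pos hp.pos _
    obtain ⟨Λ, _, hΛ⟩ := Finset.exists_subset_card_eq
      (s := (Finset.univ : Finset α)) (n := k + p ^ k.factorization p - 1)
      (by rw [Finset.card_univ]; exact hle)
    have hid := count_identity O k t (by omega) hOcard htconst Λ
    rw [hΛ] at hid
    have e : k + p ^ k.factorization p - 1 - (k - 1) = p ^ k.factorization p := by omega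
    rw [e] at hid
    exact pow_dvd_of_count p k t _ hk0 hid
  have hteq : t = k := Nat.le_antisymm htk (Nat.le_of_dvd (by omega) hdvd)
  have heq : O.filter (fun Γ => Γ ⊆ Δ₀) = Δ₀.powersetCard (k - 1) := by
    apply Finset.eq_of_subset_of_card_le hsub
    rw [hpc, ← ht, hteq]
  have hmem : (Γ₂ : Finset α) ∈ O := by
    have : (Γ₂ : Finset α) ∈ Δ₀.powersetCard (k - 1) := by
      rw [Finset.mem_powersetCard]; exact ⟨hΓΔ₀, hΓ₂⟩
    rw [← heq, Finset.mem_filter] at this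
    exact this.1
  rw [hO, Finset.mem_filter] at hmem
  obtain ⟨g, hg⟩ := hmem.2
  refine ⟨g, ?_⟩
  apply Subtype.ext
  exact (Set.powersetCard.coe_smul (g := g) (s := Γ₁)).trans hg

end Cfsg.Agent.S0736
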