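import Cfsg.Statements.S0740
import Cfsg.Agent.Lib.Helper21_Sharp3

set_option autoImplicit false
open Cfsg

namespace Cfsg.Agent.S0740

open MulAction

section
variable {G Ω : Type*} [Group G] [MulAction G Ω]

theorem orderOf_two_iff {s : G} : orderOf s = 2 ↔ s * s = 1 ∧ s ≠ 1 := by
  have : Fact (Nat.Prime 2) := ⟨Nat.prime_two⟩
  rw [orderOf_eq_prime_iff, pow_two]

theorem orderOf_conj_two {s : G} (hs : orderOf s = 2) (g : G) : orderOf (g * s * g⁻¹) = 2 := by
  rw [orderOf_two_iff] at hs ⊢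
  refine ⟨?_, ?_⟩
  · calc g * s * g⁻¹ * (g * s * g⁻¹) = g * (s * s) * g⁻¹ := by group
      _ = 1 := by rw [hs.1]; group
  · intro h
    apply hs.2
    have : s = g⁻¹ * (g * s * g⁻¹) * g := by group
    rw [this, h]
    group

/-- A non-identity element has at most two fixed points. -/
theorem card_fixedBy_le [Finite Ω]
    (h3 : ∀ g : G, ∀ a b c : Ω, a ≠ b → b ≠ c → a ≠ c → g • a = a → g • b = b → g • c = c → g = 1)
    {s : G} (hs : s ≠ 1) : Nat.card (fixedBy Ω s) ≤ 2 := by
  rw [Nat.card_coe_set_eq]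
  by_contra hgt
  have h : 2 < (fixedBy Ω s).ncard := by omega
  obtain ⟨a, b, c, ha, hb, hc, hab, hac, hbc⟩ := (Set.two_lt_ncard_iff).mp h
  exact hs (h3 s a b c hab hbc hac ha hb hc)

/-- Parity of the number of fixed points of an involution. -/
theorem card_fixedBy_mod [Finite Ω] {s : G} (hs : orderOf s = 2) :
    Nat.card (fixedBy Ω s) % 2 = Nat.card Ω % 2 := by
  have : Fact (Nat.Prime 2) := ⟨Nat.prime_two⟩
  have hP : IsPGroup 2 (Subgroup.zpowers s) :=
    IsPGroup.of_card (n := 1) (by rw [Nat.card_zpowers, hs, pow_one])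
  have hmod := hP.card_modEq_card_fixedPoints Ω
  rw [Cfsg.Agent.Lib.Helper21_Sharp3.fixedPoints_zpowers] at hmod
  exact hmod.symm

theorem exists_moved [FaithfulSMul G Ω] {s : G} (hs : s ≠ 1) : ∃ x : Ω, s • x ≠ x := by
  by_contra hcon
  push Not at hcon
  apply hs
  apply FaithfulSMul.eq_of_smul_eq_smul (α := Ω)
  intro x
  rw [hcon x, one_smul]

theorem two_fixed_of_conj [Finite Ω]
    (h3 : ∀ g : G, ∀ a b c : Ω, a ≠ b → b ≠ c → a ≠ c → g • a = a → g • b = b → g • c = c → g = 1)
    {s : G} (hs : s ≠ 1) {x y : Ω} (hxy : x ≠ y) (hx : s • x = x) (hy : s • y = y) :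
    Nat.card (fixedBy Ω s) = 2 := by
  apply le_antisymm (card_fixedBy_le h3 hs)
  rw [Nat.card_coe_set_eq]
  have : 1 < (fixedBy Ω s).ncard := (Set.one_lt_ncard_iff).mpr ⟨x, y, hx, hy, hxy⟩
  omega

end

/-- In a finite Zassenhaus group any two points `a ≠ b` are swapped by an involution; every such involution has exactly one fixed point when the degree is odd and 0 or 2 fixed points when the degree is even; and if the two-point stabiliser has even order, some such involution has exactly 2 fixed points. -/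
theorem result {G Ω : Type*} [Group G] [Finite G] [MulAction G Ω] [Fintype Ω] (hZ : Cfsg.IsZassenhausGroup G Ω) {a b : Ω} (hab : a ≠ b) : (∃ s : G, orderOf s = 2 ∧ s • a = b ∧ s • b = a) ∧ (∀ s : G, orderOf s = 2 → s • a = b → s • b = a → (Odd (Fintype.card Ω) → Nat.card (MulAction.fixedBy Ω s) = 1) ∧ (Even (Fintype.card Ω) → Nat.card (MulAction.fixedBy Ω s) = 0 ∨ Nat.card (MulAction.fixedBy Ω s) = 2)) ∧ (Even (Fintype.card Ω) → Even (Nat.card ↥(MulAction.stabilizer G a ⊓ MulAction.stabilizer G b)) → ∃ s : G, orderOf s = 2 ∧ s • a = b ∧ s • b = a ∧ Nat.card (MulAction.fixedBy Ω s) = 2) := by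
  classical
  obtain ⟨hfaith, h2, h3, -, -⟩ := hZ
  have h2' : ∀ {a b c d : Ω}, a ≠ b → c ≠ d → ∃ g : G, g • a = c ∧ g • b = d :=
    fun h h' => is_two_pretransitive_iff.mp h2 h h'
  have : Fact (Nat.Prime 2) := ⟨Nat.prime_two⟩
  refine ⟨?_, ?_, ?_⟩
  · -- existence of a swapping involution
    obtain ⟨g, hga, hgb⟩ := h2' hab hab.symm
    -- odd powers of g swap a and b
    have hsq : (g ^ 2) • a = a := by rw [pow_two, mul_smul, hga, hgb]
    have hpow : ∀ k : ℕ, (g ^ (2 * k)) • a = a := by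
      intro k
      induction k with
      | zero => simp
      | succ k ih => rw [Nat.mul_succ, pow_add, mul_smul, hsq, ih]
    have heven : Even (orderOf g) := by
      rw [← Nat.not_odd_iff_even]
      rintro ⟨k, hk⟩
      have h1 : g ^ (2 * k + 1) = 1 := by rw [← hk]; exact pow_orderOf_eq_one g
      have h2 : (g ^ (2 * k + 1)) • a = b := by
        rw [pow_succ, mul_smul, hga]
        have hsqb : (g ^ 2) • b = b := by rw [pow_two, mul_smul, hgb, hga]
        have hpowb : ∀ k : ℕ, (g ^ (2 * k)) • b = b := by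
          intro k
          induction k with
          | zero => simp
          | succ k ih => rw [Nat.mul_succ, pow_add, mul_smul, hsqb, ih]
        exact hpowb k
      rw [h1, one_smul] at h2
      exact hab h2
    have h2dvd : 2 ∣ Nat.card G := (even_iff_two_dvd.mp heven).trans (orderOf_dvd_natCard g)
    obtain ⟨u, hu⟩ := exists_prime_orderOf_dvd_card' 2 h2dvd
    have hu1 : u ≠ 1 := (orderOf_two_iff.mp hu).2
    have huu : u * u = 1 := (orderOf_two_iff.mp hu).1
    obtain ⟨x, hx⟩ := exists_moved (Ω := Ω) hu1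
    obtain ⟨k, hkx, hky⟩ := h2' (Ne.symm hx) hab
    refine ⟨k * u * k⁻¹, orderOf_conj_two hu k, ?_, ?_⟩
    · rw [mul_smul, mul_smul, ← hkx, inv_smul_smul, hky]
    · rw [mul_smul, mul_smul, ← hky, inv_smul_smul, ← mul_smul u u, huu, one_smul, hkx]
  · intro s hs hsa hsb
    have hs1 : s ≠ 1 := (orderOf_two_iff.mp hs).2
    have hle := card_fixedBy_le h3 hs1
    have hmod := card_fixedBy_mod (Ω := Ω) hs
    rw [Nat.card_eq_fintype_card (α := Ω)] at hmod
    constructor
    · intro hodd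
      have := Nat.odd_iff.mp hodd
      omega
    · intro hev
      have := Nat.even_iff.mp hev
      omega
  · intro _ hK
    obtain ⟨k, hk', hka, hkb⟩ : ∃ k : G, orderOf k = 2 ∧ k • a = a ∧ k • b = b := by
      obtain ⟨k, hk⟩ := exists_prime_orderOf_dvd_card' 2 (even_iff_two_dvd.mp hK)
      refine ⟨(k : G), ?_, (Subgroup.mem_inf.mp k.2).1, (Subgroup.mem_inf.mp k.2).2⟩
      rw [Subgroup.orderOf_coe]; exact hk
    have hk1 : k ≠ 1 := (orderOf_two_iff.mp hk').2
    have hkk : k * k = 1 := (orderOf_two_iff.mp hk').1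
    obtain ⟨c, hc⟩ := exists_moved (Ω := Ω) hk1
    obtain ⟨g, hgc, hgd⟩ := h2' (Ne.symm hc) hab
    refine ⟨g * k * g⁻¹, orderOf_conj_two hk' g, ?_, ?_, ?_⟩
    · rw [mul_smul, mul_smul, ← hgc, inv_smul_smul, hgd]
    · rw [mul_smul, mul_smul, ← hgd, inv_smul_smul, ← mul_smul k k, hkk, one_smul, hgc]
    · have hne : g * k * g⁻¹ ≠ 1 := (orderOf_two_iff.mp (orderOf_conj_two hk' g)).2
      apply two_fixed_of_conj h3 hne (x := g • a) (y := g • b)
      · intro h
        exact hab (smul_left_cancel g h)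
      · rw [mul_smul, mul_smul, inv_smul_smul, hka]
      · rw [mul_smul, mul_smul, inv_smul_smul, hkb]

end Cfsg.Agent.S0740
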