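import Cfsg.Statements.S0743
import Cfsg.Agent.Lib.Helper13_Gleason

set_option autoImplicit false
open Cfsg

namespace Cfsg.Agent.S0743

open MulAction Cfsg.Agent.Lib.Helper13_Gleason

/-- Gleason's Lemma: let `p` be a prime and `1 ≤ k < n`; if every `k`-subset of the `n` points is exactly the fixed-point set of some `p`-subgroup of `G`, then `G` is `k`-transitive. -/
theorem result {α : Type*} [Fintype α] [DecidableEq α] (G : Subgroup (Equiv.Perm α)) {p k : ℕ} (hp : p.Prime) (hk : 1 ≤ k) (hkn : k < Fintype.card α) (h : ∀ s : Finset α, s.card = k → ∃ P : Subgroup G, IsPGroup p P ∧ MulAction.fixedPoints P α = (s : Set α)) : MulAction.IsMultiplyPretransitive G α k := by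
  haveI : Fact p.Prime := ⟨hp⟩
  apply multiply_pretransitive_of_hyp p hp.one_lt k ↥G α
  · rw [Nat.card_eq_fintype_card]; exact hkn
  · intro s hs
    classical
    have hs' : s.toFinset.card = k := by
      rw [← hs, Set.ncard_eq_toFinset_card']
    obtain ⟨P, hP, hfix⟩ := h s.toFinset hs'
    rw [Set.coe_toFinset] at hfix
    refine ⟨P, ?_, ?_⟩
    · intro g hg x hx
      rw [← hfix] at hx
      exact hx ⟨g, hg⟩
    · intro x hx
      obtain ⟨n, hn⟩ := hP.card_orbit x
      rw [Nat.card_coe_set_eq] at hn
      rw [hn]
      rcases Nat.eq_zero_or_pos n with rfl | hpos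
      · exfalso
        apply hx
        rw [← hfix]
        rw [pow_zero, Set.ncard_eq_one] at hn
        obtain ⟨y, hy⟩ := hn
        intro g
        have h1 : g • x ∈ orbit P x := mem_orbit x g
        have h2 : x ∈ orbit P x := mem_orbit_self x
        rw [hy] at h1 h2
        rw [Set.mem_singleton_iff] at h1 h2
        rw [h1, h2]
      · exact dvd_pow_self p hpos.ne'

end Cfsg.Agent.S0743
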