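import Cfsg.Statements.S0745
import Cfsg.Agent.Lib.Helper38_LW6

set_option autoImplicit false
open Cfsg

namespace Cfsg.Agent.S0745

/-- Let `G` have degree `n` and `3 ≤ k ≤ n`; suppose `G` is `(k-2)`-transitive but not `(k-1)`-transitive, and is `(k-1)`-homogeneous and `k`-homogeneous. Then `k = n` and `G` is the alternating group, or `n = 5, k = 4, |G| = 20`, or `n = 6, k = 5, |G| = 120`, or `n = 9, k = 5, |G| ∈ {504, 1512}`. -/
theorem result {α : Type*} [Fintype α] [DecidableEq α] (G : Subgroup (Equiv.Perm α)) {k : ℕ} (hk : 3 ≤ k) (hkn : k ≤ Fintype.card α) (ht : MulAction.IsMultiplyPretransitive G α (k - 2)) (hnt : ¬ MulAction.IsMultiplyPretransitive G α (k - 1)) (hh1 : MulAction.IsPretransitive G (Set.powersetCard α (k - 1))) (hh : MulAction.IsPretransitive G (Set.powersetCard α k)) : (k = Fintype.card α ∧ G = alternatingGroup α) ∨ (Fintype.card α = 5 ∧ k = 4 ∧ Nat.card G = 20) ∨ (Fintype.card α = 6 ∧ k = 5 ∧ Nat.card G = 120)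 ∨ (Fintype.card α = 9 ∧ k = 5 ∧ (Nat.card G = 504 ∨ Nat.card G = 1512)) := by
  obtain ⟨t, rfl⟩ : ∃ t, k = t + 2 := ⟨k - 2, by omega⟩
  have e2 : t + 2 - 2 = t := by omega
  have e1 : t + 2 - 1 = t + 1 := by omega
  rw [e2] at ht
  rw [e1] at hnt hh1
  have hom1 := Cfsg.Agent.Lib.Helper38_LW.homog_of_pretransitive G (t + 1) hh1
  have hom2 := Cfsg.Agent.Lib.Helper38_LW.homog_of_pretransitive G (t + 2) hh
  have hsharp := Cfsg.Agent.Lib.Helper38_LW.sharp_of_not_trans G (k := t + 2) (by omega) hkn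
    (by rw [e1]; exact hom1) hom2 (by rw [e1]; exact hnt)
  have D : Cfsg.Agent.Lib.Helper38_LW.LWData G t :=
    { ht1 := by omega
      htn := hkn
      trans := ht
      hom1 := hom1
      hom2 := hom2
      sharp := fun Γ hΓ => hsharp Γ (by rw [e1]; exact hΓ)
      ntrans := hnt }
  rcases D.core with ⟨hn, hG⟩ | ⟨rfl, hn, hG⟩ | ⟨rfl, hn, hG⟩ | ⟨rfl, hn, hG⟩
  · left; exact ⟨hn.symm, hG⟩
  · right; left; exact ⟨hn, rfl, hG⟩
  · right; right; left; exact ⟨hn, rfl, hG⟩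
  · right; right; right; exact ⟨hn, rfl, hG⟩

end Cfsg.Agent.S0745
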