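import Cfsg.Statements.S0746
import Cfsg.Agent.S0736
import Cfsg.Agent.S0745
import Cfsg.Agent.Lib.Helper38_LW0

set_option autoImplicit false
open Cfsg

namespace Cfsg.Agent.S0746

/-- The Livingstone–Wagner Theorem, first form: a `k`-homogeneous group of degree `n` with `4 ≤ 2k ≤ n` is `(k-1)`-transitive. -/
theorem result {α : Type*} [Fintype α] [DecidableEq α] (G : Subgroup (Equiv.Perm α)) {k : ℕ} (hk : 2 ≤ k) (hkn : 2 * k ≤ Fintype.card α) (hh : MulAction.IsPretransitive G (Set.powersetCard α k)) : MulAction.IsMultiplyPretransitive G α (k - 1) := by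
  induction k, hk using Nat.le_induction with
  | base =>
    have h1 := Cfsg.Agent.S0736.result G (k := 2) le_rfl hh (by
      intro q _ hq
      have := Nat.le_of_dvd (by norm_num) hq
      omega)
    have hom := Cfsg.Agent.Lib.Helper38_LW.homog_of_pretransitive G (2 - 1) h1
    change MulAction.IsMultiplyPretransitive G α 1
    rw [MulAction.is_one_pretransitive_iff]
    constructor
    intro a b
    obtain ⟨g, hg, hgab⟩ := hom {a} {b} (Finset.card_singleton a) (Finset.card_singleton b)
    refine ⟨⟨g, hg⟩, ?_⟩
    rw [Finset.image_singleton, Finset.singleton_inj] at hgab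
    exact hgab
  | succ k hk ih =>
    have h1 := Cfsg.Agent.S0736.result G (k := k + 1) (by omega) hh (by
      intro q _ hq
      have := Nat.le_of_dvd (by omega) hq
      omega)
    have e1 : k + 1 - 1 = k := by omega
    rw [e1] at h1 ⊢
    have ht := ih (by omega) h1
    by_contra hnt
    have := Cfsg.Agent.S0745.result G (k := k + 1) (by omega) (by omega)
      (by rw [show k + 1 - 2 = k - 1 by omega]; exact ht) (by rw [e1]; exact hnt)
      (by rw [e1]; exact h1) hh
    omega

end Cfsg.Agent.S0746
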