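import Cfsg.Statements.S0755
import Cfsg.Agent.S0753

set_option autoImplicit false
open Cfsg

namespace Cfsg.Agent.S0755

open Module

section norm
variable {F : Type*} [Field F] [Finite F]

/-- Surjectivity of the norm `a ↦ a * σ a` onto the nonzero fixed points of an involution `σ ≠ id`
of a finite field (Hilbert 90 plus counting). -/
theorem norm_surj (σ : F →+* F) (hσ : σ ≠ RingHom.id F) (hσ2 : ∀ a : F, σ (σ a) = a)
    (c : F) (hc : σ c = c) (hc0 : c ≠ 0) : ∃ a : F, a * σ a = c := by
  classical
  -- σ on units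
  let σu : Fˣ →* Fˣ := Units.map (σ : F →* F)
  have hσu : ∀ u : Fˣ, ((σu u : Fˣ) : F) = σ (u : F) := fun u => rfl
  let N : Fˣ →* Fˣ :=
    { toFun := fun a => a * σu a
      map_one' := by simp
      map_mul' := by
        intro a b
        simp only [map_mul]
        exact mul_mul_mul_comm a b (σu a) (σu b) }
  let T : Fˣ →* Fˣ :=
    { toFun := fun b => b * (σu b)⁻¹
      map_one' := by simp
      map_mul' := by
        intro a b
        simp only [map_mul, mul_inv]
        exact mul_mul_mul_comm a b (σu a)⁻¹ (σu b)⁻¹ }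
  have hN : ∀ a, N a = a * σu a := fun a => rfl
  have hT : ∀ b, T b = b * (σu b)⁻¹ := fun b => rfl
  -- fixed subgroup
  let K : Subgroup Fˣ := MonoidHom.eqLocus σu (MonoidHom.id Fˣ)
  have hK : ∀ u : Fˣ, u ∈ K ↔ σu u = u := fun u => Iff.rfl
  have hkerT : T.ker = K := by
    ext u
    rw [MonoidHom.mem_ker, hT, hK, mul_inv_eq_one]
    exact eq_comm
  have hrangeN_le : N.range ≤ K := by
    rintro _ ⟨a, rfl⟩
    rw [hK, hN, map_mul]
    have : σu (σu a) = a := by
      apply Units.ext
      rw [hσu, hσu, hσ2]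
    rw [this, mul_comm]
  -- Hilbert 90
  obtain ⟨c₀, hc₀⟩ : ∃ c₀ : F, σ c₀ ≠ c₀ := by
    by_contra hcon
    apply hσ
    ext a
    by_contra h
    exact hcon ⟨a, h⟩
  have hkerN : N.ker = T.range := by
    ext a
    constructor
    · intro ha
      rw [MonoidHom.mem_ker, hN] at ha
      have ha' : (a : F) * σ (a : F) = 1 := by
        have := congrArg (fun u : Fˣ => (u : F)) ha
        simpa [hσu] using this
      -- find `b ≠ 0` with `a * σ b = b`
      obtain ⟨b, hb0, hb⟩ : ∃ b : F, b ≠ 0 ∧ (a : F) * σ b = b := by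
        by_cases h1 : (1 : F) + a = 0
        · refine ⟨c₀ - σ c₀, sub_ne_zero.mpr (Ne.symm hc₀), ?_⟩
          have : (a : F) = -1 := by linear_combination h1
          rw [this, map_sub, hσ2]
          ring
        · refine ⟨1 + a, h1, ?_⟩
          rw [map_add, map_one, mul_add, mul_one, ha', add_comm]
      refine ⟨Units.mk0 b hb0, ?_⟩
      apply Units.ext
      rw [hT]
      have hσb0 : σ b ≠ 0 := by
        intro h0
        rw [h0, mul_zero] at hb
        exact hb0 hb.symm
      simp only [Units.val_mul, Units.val_inv_eq_inv_val, hσu, Units.val_mk0]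
      field_simp
      linear_combination -hb
    · rintro ⟨b, rfl⟩
      rw [MonoidHom.mem_ker, hN, hT, map_mul, map_inv]
      have : σu (σu b) = b := by
        apply Units.ext
        rw [hσu, hσu, hσ2]
      rw [this]
      group
  have h1 : Nat.card N.ker * Nat.card N.range = Nat.card Fˣ := by
    rw [← Subgroup.index_ker, Subgroup.card_mul_index]
  have h2 : Nat.card T.ker * Nat.card T.range = Nat.card Fˣ := by
    rw [← Subgroup.index_ker, Subgroup.card_mul_index]
  rw [hkerN] at h1
  rw [hkerT] at h2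
  have hpos : 0 < Nat.card T.range := Nat.card_pos
  have h3 : Nat.card N.range = Nat.card K := by
    have : Nat.card T.range * Nat.card N.range = Nat.card T.range * Nat.card K := by
      rw [h1, mul_comm, h2]
    exact Nat.eq_of_mul_eq_mul_left hpos this
  have h4 : N.range = K := Subgroup.eq_of_le_of_card_ge hrangeN_le (le_of_eq h3.symm)
  have hcK : Units.mk0 c hc0 ∈ K := by
    rw [hK]
    apply Units.ext
    rw [hσu]
    simpa using hc
  rw [← h4] at hcK
  obtain ⟨a, ha⟩ := hcK
  refine ⟨(a : F), ?_⟩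
  have := congrArg (fun u : Fˣ => (u : F)) ha
  simpa [hN, hσu] using this

end norm

section gs
universe u v
variable {F : Type u} [Field F] [Finite F]

theorem exists_orthonormal (σ : F →+* F) (hσ : σ ≠ RingHom.id F) (hσ2 : ∀ a : F, σ (σ a) = a)
    (d : ℕ) : ∀ (V : Type v) [AddCommGroup V] [Module F V] [FiniteDimensional F V]
    (B : V →ₛₗ[σ] V →ₗ[F] F), B.IsSymm → B.SeparatingLeft → finrank F V = d →
    ∃ b : Basis (Fin d) F V, ∀ i j, B (b i) (b j) = if i = j then 1 else 0 := by
  induction d with
  | zero =>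
    intro V _ _ _ B _ _ hd
    exact ⟨basisOfFinrankZero hd, fun i => i.elim0⟩
  | succ d ih =>
    intro V _ _ _ B hS hB hd
    have hV : Nontrivial V := Module.nontrivial_of_finrank_pos (R := F) (by omega)
    have hB0 : B ≠ 0 := LinearMap.SeparatingLeft.ne_zero hB
    -- a vector of nonzero norm
    obtain ⟨x₀, hx₀⟩ : ∃ x₀, B x₀ x₀ ≠ 0 := by
      by_contra hcon
      push Not at hcon
      exact hB0 (Cfsg.Agent.S0753.result σ hσ B hS hcon)
    have hfix : σ (B x₀ x₀) = B x₀ x₀ := hS.eq x₀ x₀
    have hfix' : σ (B x₀ x₀)⁻¹ = (B x₀ x₀)⁻¹ := by rw [map_inv₀, hfix]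
    obtain ⟨a, ha⟩ := norm_surj σ hσ hσ2 (B x₀ x₀)⁻¹ hfix' (inv_ne_zero hx₀)
    obtain ⟨x, hx⟩ : ∃ x : V, x = a • x₀ := ⟨_, rfl⟩
    have hxx : B x x = 1 := by
      rw [hx, LinearMap.map_smulₛₗ₂, map_smul, smul_eq_mul, smul_eq_mul, ← mul_assoc,
        mul_comm (σ a), ha, inv_mul_cancel₀ hx₀]
    -- orthogonal complement
    obtain ⟨W, hW⟩ : ∃ W : Submodule F V, W = LinearMap.ker (B x) := ⟨_, rfl⟩
    have hWmem : ∀ y, y ∈ W ↔ B x y = 0 := fun y => by rw [hW]; exact LinearMap.mem_ker
    have hWflip : ∀ y ∈ W, B y x = 0 := by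
      intro y hy
      rw [← hS.eq x y, (hWmem y).mp hy, map_zero]
    have hproj : ∀ v : V, v - (B x v) • x ∈ W := by
      intro v
      rw [hWmem, map_sub, map_smul, smul_eq_mul, hxx, mul_one, sub_self]
    have hWd : finrank F W = d := by
      have h1 := LinearMap.finrank_range_add_finrank_ker (B x)
      have h2 : LinearMap.range (B x) = ⊤ := by
        rw [LinearMap.range_eq_top]
        intro c
        refine ⟨c • x, ?_⟩
        rw [map_smul, hxx, smul_eq_mul, mul_one]
      rw [h2, finrank_top, Module.finrank_self, hd, ← hW] at h1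
      omega
    set B' : W →ₛₗ[σ] W →ₗ[F] F := B.domRestrict₁₂ W W with hB'
    have hB'apply : ∀ w w' : W, B' w w' = B w w' := fun w w' => rfl
    have hS' : B'.IsSymm := hS.domRestrict W
    have hsep' : B'.SeparatingLeft := by
      intro w hw
      apply Subtype.ext
      apply hB
      intro v
      have h1 : v = (B x v) • x + (v - (B x v) • x) := by abel
      rw [h1, map_add, map_smul, hWflip w w.2, smul_zero, zero_add]
      exact hw ⟨_, hproj v⟩
    obtain ⟨v', hv'⟩ := ih W B' hS' hsep' hWd
    let b : Basis (Fin (d + 1)) F V := Basis.mkFinCons x v'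
      (by
        intro c y hy hc
        have := congrArg (B x) hc
        rw [map_add, map_smul, hxx, (hWmem y).mp hy, map_zero, smul_eq_mul, mul_one,
          add_zero] at this
        exact this)
      (by
        intro z
        refine ⟨-(B x z), ?_⟩
        rw [neg_smul, ← sub_eq_add_neg]
        exact hproj z)
    refine ⟨b, ?_⟩
    have hb : (b : Fin (d + 1) → V) = Fin.cons x ((↑) ∘ v') := Basis.coe_mkFinCons _ _ _ _
    intro i j
    rw [hb]
    refine Fin.cases ?_ (fun i => ?_) i <;> refine Fin.cases ?_ (fun j => ?_) j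
    · simp [hxx]
    · simp only [Fin.cons_zero, Fin.cons_succ, Function.comp_apply]
      rw [(hWmem _).mp (v' j).2]
      simp [Fin.succ_ne_zero, eq_comm]
    · simp only [Fin.cons_zero, Fin.cons_succ, Function.comp_apply]
      rw [hWflip _ (v' i).2]
      simp [Fin.succ_ne_zero]
    · simp only [Fin.cons_succ, Function.comp_apply]
      rw [← hB'apply, hv' i j]
      simp [Fin.succ_inj]

end gs

/-- Classification of Hermitian forms over finite fields: if σ is a non-identity involutive automorphism of the finite field F and B is a non-degenerate conjugate-symmetric σ-sesquilinear form on the finite-dimensional space V, then V has a B-orthonormal basis. -/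
theorem result {F V : Type*} [Field F] [Finite F] [AddCommGroup V] [Module F V] [FiniteDimensional F V] (σ : F →+* F) (hσ : σ ≠ RingHom.id F) (hσ2 : ∀ a : F, σ (σ a) = a) (B : V →ₛₗ[σ] V →ₗ[F] F) (hS : B.IsSymm) (hB : B.Nondegenerate) : ∃ b : Module.Basis (Fin (Module.finrank F V)) F V, ∀ i j, B (b i) (b j) = if i = j then 1 else 0 :=
  exists_orthonormal σ hσ hσ2 _ V B hS hB.1 rfl

end Cfsg.Agent.S0755
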