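import Cfsg.Statements.S0756

set_option autoImplicit false
open Cfsg

namespace Cfsg.Agent.S0756

open Module Polynomial

section field
variable {F : Type*} [Field F] [Finite F]

omit [Finite F] in
theorem ringChar_ne_two (h2 : (2 : F) ≠ 0) : ringChar F ≠ 2 := by
  intro h
  apply h2
  have := CharP.cast_eq_zero F (ringChar F)
  rw [h] at this
  exact_mod_cast this

/-- every nonzero `c` is `d²` or `α d²`. -/
theorem sq_or_nonsq_mul (h2 : (2 : F) ≠ 0) (α : F) (hα : ¬ IsSquare α) {c : F} (hc : c ≠ 0) :
    ∃ d : F, d ≠ 0 ∧ (c = d * d ∨ c = α * (d * d)) := by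
  classical
  let _ : Fintype F := Fintype.ofFinite F
  have hF := ringChar_ne_two h2
  have hα0 : α ≠ 0 := by
    rintro rfl
    exact hα ⟨0, by simp⟩
  by_cases hsq : IsSquare c
  · obtain ⟨d, hd⟩ := hsq
    refine ⟨d, ?_, Or.inl hd⟩
    rintro rfl
    exact hc (by simpa using hd)
  · have h1 : c ^ (Fintype.card F / 2) = -1 := by
      rcases FiniteField.pow_dichotomy hF hc with h | h
      · exact absurd ((FiniteField.isSquare_iff hF hc).2 h) hsq
      · exact h
    have h2' : α ^ (Fintype.card F / 2) = -1 := by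
      rcases FiniteField.pow_dichotomy hF hα0 with h | h
      · exact absurd ((FiniteField.isSquare_iff hF hα0).2 h) hα
      · exact h
    have h3 : IsSquare (c / α) := by
      rw [FiniteField.isSquare_iff hF (div_ne_zero hc hα0), div_pow, h1, h2']
      simp
    obtain ⟨d, hd⟩ := h3
    refine ⟨d, ?_, Or.inr ?_⟩
    · rintro rfl
      rw [div_eq_iff hα0] at hd
      exact hc (by simpa using hd)
    · rw [← hd]; field_simp

theorem exists_sq_add_sq (h2 : (2 : F) ≠ 0) {a b : F} (ha : a ≠ 0) (hb : b ≠ 0) :
    ∃ x y : F, a * x ^ 2 + b * y ^ 2 = 1 := by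
  classical
  let _ : Fintype F := Fintype.ofFinite F
  have hf : degree (C a * X ^ 2 : F[X]) = 2 := degree_C_mul_X_pow 2 ha
  have hg : degree (C b * X ^ 2 - C 1 : F[X]) = 2 := by
    have hlt : degree (C (1 : F)) < degree (C b * X ^ 2 : F[X]) := by
      rw [degree_C_mul_X_pow 2 hb]
      exact lt_of_le_of_lt degree_C_le (by norm_num)
    rw [degree_sub_eq_left_of_degree_lt hlt, degree_C_mul_X_pow 2 hb]
    rfl
  obtain ⟨x, y, h⟩ := FiniteField.exists_root_sum_quadratic hf hg
    (FiniteField.odd_card_of_char_ne_two (ringChar_ne_two h2))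
  refine ⟨x, y, ?_⟩
  simp only [eval_mul, eval_C, eval_pow, eval_X, eval_sub] at h
  linear_combination h

end field

section form
universe u v
variable {F : Type u} [Field F] [Finite F]

theorem exists_norm_one {V : Type v} [AddCommGroup V] [Module F V] [FiniteDimensional F V]
    (h2 : (2 : F) ≠ 0) (B : LinearMap.BilinForm F V) (hS : B.IsSymm) (hB : B.Nondegenerate)
    (hn : 2 ≤ Module.finrank F V) : ∃ v : V, B v v = 1 := by
  have : Invertible (2 : F) := invertibleOfNonzero h2
  obtain ⟨e, he⟩ := LinearMap.BilinForm.exists_orthogonal_basis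
    (LinearMap.BilinForm.isSymm_iff.1 hS)
  have he' : B.iIsOrtho e := he
  let i0 : Fin (finrank F V) := ⟨0, by omega⟩
  let i1 : Fin (finrank F V) := ⟨1, by omega⟩
  have h01 : i0 ≠ i1 := by simp [i0, i1, Fin.ext_iff]
  have ha := he'.not_isOrtho_basis_self_of_nondegenerate hB i0
  have hb := he'.not_isOrtho_basis_self_of_nondegenerate hB i1
  obtain ⟨x, y, hxy⟩ := exists_sq_add_sq h2 ha hb
  refine ⟨x • e i0 + y • e i1, ?_⟩
  have h1 : B (e i0) (e i1) = 0 := he h01
  have h2 : B (e i1) (e i0) = 0 := he h01.symm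
  simp only [map_add, map_smul, LinearMap.add_apply, LinearMap.smul_apply, smul_eq_mul, h1, h2]
  linear_combination hxy

theorem main (h2 : (2 : F) ≠ 0) (α : F) (hα : ¬ IsSquare α) (n : ℕ) :
    ∀ {V : Type v} [AddCommGroup V] [Module F V] [FiniteDimensional F V]
      (B : LinearMap.BilinForm F V), B.IsSymm → B.Nondegenerate → Module.finrank F V = n + 1 →
      ∃ b : Module.Basis (Fin (n + 1)) F V, (∀ i j, i ≠ j → B (b i) (b j) = 0) ∧
        (∀ i, i ≠ Fin.last n → B (b i) (b i) = 1) ∧
        (B (b (Fin.last n)) (b (Fin.last n)) = 1 ∨ B (b (Fin.last n)) (b (Fin.last n)) = α) := by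
  induction n with
  | zero =>
    intro V _ _ _ B hS hB hn
    have : Subsingleton (Fin (0 + 1)) := inferInstanceAs (Subsingleton (Fin 1))
    let e : Basis (Fin 1) F V := Module.finBasisOfFinrankEq F V hn
    have he : B.iIsOrtho e := fun i j hij => absurd (Subsingleton.elim i j) hij
    have hc := he.not_isOrtho_basis_self_of_nondegenerate hB 0
    obtain ⟨d, hd0, hd⟩ := sq_or_nonsq_mul h2 α hα hc
    refine ⟨e.unitsSMul (fun _ => (Units.mk0 d hd0)⁻¹), ?_, ?_, ?_⟩
    · intro i j hij; exact absurd (Subsingleton.elim i j) hij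
    · intro i hi; exact absurd (Subsingleton.elim i _) hi
    · have hl : Fin.last 0 = 0 := rfl
      rw [hl, Basis.unitsSMul_apply]
      simp only [Units.smul_def, Units.val_inv_eq_inv_val, Units.val_mk0, map_smul,
        LinearMap.smul_apply, smul_eq_mul]
      rcases hd with hd | hd
      · left; rw [hd]; field_simp
      · right; rw [hd]; field_simp
  | succ n ih =>
    intro V _ _ _ B hS hB hn
    obtain ⟨x, hx1⟩ := exists_norm_one h2 B hS hB (by omega)
    have hx : B x x ≠ 0 := by rw [hx1]; exact one_ne_zero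
    have hcompl := LinearMap.BilinForm.isCompl_span_singleton_orthogonal hx
    have hx0 : x ≠ 0 := by
      rintro rfl
      simp at hx
    have hd : finrank F (B.orthogonal (F ∙ x)) = n + 1 := by
      have := Submodule.finrank_add_eq_of_isCompl hcompl
      rw [finrank_span_singleton hx0, hn] at this
      omega
    have hBW := B.restrict_nondegenerate_orthogonal_spanSingleton hB hS.isRefl hx
    have hSW : (B.restrict (B.orthogonal (F ∙ x))).IsSymm := ⟨fun a b => hS.eq a b⟩
    obtain ⟨b', h1, h2, h3⟩ := ih (B.restrict (B.orthogonal (F ∙ x))) hSW hBW hd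
    let b := Basis.mkFinCons x b'
      (by
        rintro c y hy hc
        rw [add_eq_zero_iff_neg_eq] at hc
        rw [← hc, Submodule.neg_mem_iff] at hy
        have := hcompl.disjoint
        rw [Submodule.disjoint_def] at this
        have := this (c • x) (Submodule.smul_mem _ _ <| Submodule.mem_span_singleton_self _) hy
        exact (smul_eq_zero.1 this).resolve_right hx0)
      (by
        intro y
        refine ⟨-B x y / B x x, fun z hz => ?_⟩
        obtain ⟨c, rfl⟩ := Submodule.mem_span_singleton.1 hz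
        rw [map_smul, LinearMap.smul_apply, map_add, map_smul, smul_eq_mul, smul_eq_mul,
          div_mul_cancel₀ _ hx, add_neg_cancel, mul_zero])
    have hb : (b : Fin (n + 1 + 1) → V) = Fin.cons x ((↑) ∘ b') := Basis.coe_mkFinCons _ _ _ _
    have hxb : ∀ j, B x (b' j) = 0 := fun j =>
      (b' j).prop _ (Submodule.mem_span_singleton_self x)
    have hbx : ∀ j, B (b' j) x = 0 := fun j => by rw [hS.eq]; exact hxb j
    refine ⟨b, ?_, ?_, ?_⟩
    · rw [hb]
      intro i j
      refine Fin.cases ?_ (fun i => ?_) i <;> refine Fin.cases ?_ (fun j => ?_) j <;> intro hij <;>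
        simp only [Fin.cons_zero, Fin.cons_succ, Function.comp_apply]
      · exact (hij rfl).elim
      · exact hxb j
      · exact hbx i
      · exact h1 i j (fun h => hij (by rw [h]))
    · rw [hb]
      intro i
      refine Fin.cases ?_ (fun i => ?_) i <;> intro hi <;>
        simp only [Fin.cons_zero, Fin.cons_succ, Function.comp_apply]
      · exact hx1
      · exact h2 i (fun h => hi (by rw [h]; rfl))
    · rw [hb]
      have hl : Fin.last (n + 1) = Fin.succ (Fin.last n) := rfl
      rw [hl]
      simp only [Fin.cons_succ, Function.comp_apply]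
      exact h3

end form

/-- Classification of symmetric bilinear forms over finite fields of odd characteristic: if B is non-degenerate symmetric on V of dimension n + 1 and α is a fixed non-square of F, there is an orthogonal basis b_0, ..., b_n with B(b_i, b_i) = 1 for i < n and B(b_n, b_n) ∈ {1, α}. -/
theorem result {F V : Type*} [Field F] [Finite F] [AddCommGroup V] [Module F V] [FiniteDimensional F V] (h2 : (2 : F) ≠ 0) (B : LinearMap.BilinForm F V) (hS : B.IsSymm) (hB : B.Nondegenerate) {n : ℕ} (hn : Module.finrank F V = n + 1) (α : F) (hα : ¬ IsSquare α) : ∃ b : Module.Basis (Fin (n + 1)) F V, (∀ i j, i ≠ j → B (b i) (b j) = 0) ∧ (∀ i, i ≠ Fin.last n → B (b i) (b i) = 1) ∧ (B (b (Fin.last n)) (b (Fin.last n)) = 1 ∨ B (b (Fin.last n)) (b (Fin.last n)) = α) :=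
  main h2 α hα n B hS hB hn

end Cfsg.Agent.S0756
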