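import Cfsg.Statements.S0757

set_option autoImplicit false
open Cfsg

namespace Cfsg.Agent.S0757

open QuadraticMap

theorem toMatrix'_weightedSumSquares {F : Type*} [Field F] [Invertible (2:F)] {ι : Type*}
    [Fintype ι] [DecidableEq ι] (w : ι → F) :
    QuadraticForm.toMatrix' (weightedSumSquares F w) = Matrix.diagonal w := by
  ext i j
  rw [QuadraticForm.toMatrix', LinearMap.toMatrix₂'_apply, QuadraticMap.associated_apply]
  simp only [weightedSumSquares_apply, Pi.add_apply, smul_eq_mul, Matrix.diagonal_apply, invOf_smul_eq_iff]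
  simp only [Module.End.smul_def, Module.End.ofNat_apply, nsmul_eq_mul, Nat.cast_ofNat]
  by_cases hij : i = j
  · subst hij
    simp only [if_true]
    rw [← Finset.sum_sub_distrib, ← Finset.sum_sub_distrib, Finset.sum_eq_single i]
    · simp; ring
    · intro b _ hb
      simp [hb]
    · simp
  · simp only [if_neg hij]
    rw [← Finset.sum_sub_distrib, ← Finset.sum_sub_distrib]
    rw [mul_zero]
    apply Finset.sum_eq_zero
    intro k _
    by_cases hki : k = i
    · subst hki
      have : k ≠ j := hij
      simp [this]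
    · by_cases hkj : k = j
      · subst hkj
        simp [hki]
      · simp [hki, hkj]

/-- The two diagonal forms Σ x_i^2 and Σ_(i<n) x_i^2 + α x_n^2 on F^(n+1), with α a non-square and 2 ≠ 0 in F, are inequivalent quadratic forms (so over a finite field of odd order there are exactly two classes of non-singular symmetric bilinear forms in each dimension). -/
theorem result {F : Type*} [Field F] (h2 : (2 : F) ≠ 0) (n : ℕ) (α : F) (hα : ¬ IsSquare α) : ¬ (QuadraticMap.weightedSumSquares F (fun _ : Fin (n + 1) => (1 : F))).Equivalent (QuadraticMap.weightedSumSquares F (fun i : Fin (n + 1) => if i = Fin.last n then α else (1 : F))) := by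
  haveI : Invertible (2 : F) := invertibleOfNonzero h2
  rintro ⟨e⟩
  set Q₁ := QuadraticMap.weightedSumSquares F (fun _ : Fin (n + 1) => (1 : F)) with hQ₁
  set Q₂ := QuadraticMap.weightedSumSquares F
    (fun i : Fin (n + 1) => if i = Fin.last n then α else (1 : F)) with hQ₂
  have hcomp : Q₁ = Q₂.comp (e.toLinearEquiv : (Fin (n+1) → F) →ₗ[F] (Fin (n+1) → F)) := by
    ext x
    rw [QuadraticMap.comp_apply]
    exact (e.map_app x).symm
  have hd := QuadraticForm.discr'_comp (Q := Q₂)
    (e.toLinearEquiv : (Fin (n+1) → F) →ₗ[F] (Fin (n+1) → F))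
  rw [← hcomp] at hd
  have h1 : QuadraticForm.discr' Q₁ = 1 := by
    rw [QuadraticForm.discr', hQ₁, toMatrix'_weightedSumSquares, Matrix.det_diagonal]
    simp
  have h2' : QuadraticForm.discr' Q₂ = α := by
    rw [QuadraticForm.discr', hQ₂, toMatrix'_weightedSumSquares, Matrix.det_diagonal]
    rw [Finset.prod_eq_single (Fin.last n)]
    · simp
    · intro b _ hb
      simp [hb]
    · simp
  rw [h1, h2'] at hd
  set d := (LinearMap.toMatrix' (e.toLinearEquiv : (Fin (n+1) → F) →ₗ[F] (Fin (n+1) → F))).det
    with hd_def
  have hd0 : d ≠ 0 := by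
    rintro h0
    rw [h0] at hd
    simp at hd
  apply hα
  refine ⟨d⁻¹, ?_⟩
  field_simp
  linear_combination -hd

end Cfsg.Agent.S0757
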