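import Cfsg.Statements.S0759

set_option autoImplicit false
open Cfsg

namespace Cfsg.Agent.S0759

open Matrix

section core
variable {F : Type*} [Field F]

theorem det_antiBlock {m : ℕ} (A C D : Matrix (Fin m) (Fin m) F) :
    (fromBlocks 0 A C D).det = (-1) ^ m * (A.det * C.det) := by
  have h1 : fromBlocks 0 A C D
      = fromBlocks A 0 D C * (Matrix.J (Fin m) F * fromBlocks 1 0 0 (-1)) := by
    rw [Matrix.J, fromBlocks_multiply, fromBlocks_multiply]
    simp
  rw [h1, det_mul, det_mul, det_fromBlocks_zero₁₂, det_fromBlocks_zero₁₂,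
    SymplecticGroup.det_eq_one (SymplecticGroup.J_mem (Fin m) F), det_one, det_neg, det_one,
    Fintype.card_fin]
  ring

theorem isSquare_neg_one_pow {m : ℕ} (P : Matrix (Fin m ⊕ Fin m) (Fin m ⊕ Fin m) F)
    (hP : P.det ≠ 0)
    (h : ∀ i j : Fin m, (fun k => P k (Sum.inl i)) ⬝ᵥ (fun k => P k (Sum.inl j)) = 0) :
    IsSquare ((-1 : F) ^ m) := by
  set G := Pᵀ * P with hG
  have hG11 : G.toBlocks₁₁ = 0 := by
    ext i j
    simp only [toBlocks₁₁, hG, of_apply, mul_apply, transpose_apply, Matrix.zero_apply]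
    exact h i j
  have hGsymm : G.toBlocks₂₁ = G.toBlocks₁₂ᵀ := by
    ext i j
    simp only [toBlocks₂₁, toBlocks₁₂, hG, of_apply, mul_apply, transpose_apply]
    apply Finset.sum_congr rfl
    intro k _
    ring
  have hGeq : G = fromBlocks 0 G.toBlocks₁₂ G.toBlocks₁₂ᵀ G.toBlocks₂₂ := by
    conv_lhs => rw [← fromBlocks_toBlocks G, hG11, hGsymm]
  have hdetG : G.det = P.det * P.det := by
    rw [hG, det_mul, det_transpose]
  rw [hGeq, det_antiBlock, det_transpose] at hdetG
  have hA : G.toBlocks₁₂.det ≠ 0 := by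
    intro h0
    rw [h0] at hdetG
    simp at hdetG
    exact hP hdetG
  refine ⟨P.det / G.toBlocks₁₂.det, ?_⟩
  field_simp
  linear_combination hdetG

end core

section construct
variable {F : Type*} [Field F]

/-- there is a `k × k` matrix with `Aᵀ A = -1` -/
def HasNegOneRoot (F : Type*) [Field F] (k : ℕ) : Prop :=
  ∃ A : Matrix (Fin k) (Fin k) F, Aᵀ * A = -1

theorem hasNegOneRoot_add {k l : ℕ} (hk : HasNegOneRoot F k) (hl : HasNegOneRoot F l) :
    HasNegOneRoot F (k + l) := by
  obtain ⟨A, hA⟩ := hk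
  obtain ⟨B, hB⟩ := hl
  refine ⟨Matrix.reindex finSumFinEquiv finSumFinEquiv (fromBlocks A 0 0 B), ?_⟩
  rw [Matrix.reindex_apply, Matrix.transpose_submatrix, Matrix.submatrix_mul_equiv,
    fromBlocks_transpose, fromBlocks_multiply]
  simp only [transpose_zero, Matrix.zero_mul, Matrix.mul_zero, add_zero, zero_add, hA, hB]
  rw [show (fromBlocks (-1 : Matrix (Fin k) (Fin k) F) 0 0 (-1 : Matrix (Fin l) (Fin l) F))
      = -(1 : Matrix (Fin k ⊕ Fin l) (Fin k ⊕ Fin l) F) by
    rw [← fromBlocks_one, fromBlocks_neg]; simp]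
  ext i j
  simp [Matrix.one_apply]

theorem hasNegOneRoot_zero : HasNegOneRoot F 0 := ⟨0, by ext i; exact i.elim0⟩

theorem hasNegOneRoot_of_isSquare (h : IsSquare (-1 : F)) (k : ℕ) : HasNegOneRoot F k := by
  obtain ⟨i, hi⟩ := h
  refine ⟨i • 1, ?_⟩
  rw [transpose_smul, transpose_one, smul_mul_smul_comm, Matrix.one_mul, ← hi]
  simp

theorem hasNegOneRoot_two {a b : F} (hab : a ^ 2 + b ^ 2 = -1) : HasNegOneRoot F 2 := by
  refine ⟨!![a, -b; b, a], ?_⟩
  ext i j
  fin_cases i <;> fin_cases j <;> simp [Matrix.mul_apply, Fin.sum_univ_two] <;>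
    first | ring1 | linear_combination hab

theorem hasNegOneRoot_even {a b : F} (hab : a ^ 2 + b ^ 2 = -1) (r : ℕ) :
    HasNegOneRoot F (2 * r) := by
  induction r with
  | zero => exact hasNegOneRoot_zero
  | succ r ih =>
    rw [Nat.mul_succ]
    exact hasNegOneRoot_add ih (hasNegOneRoot_two hab)

end construct

/-- the equivalence used to split the coordinates in two halves -/
def splitEquiv (m : ℕ) : Fin m ⊕ Fin m ≃ Fin (2 * m) :=
  finSumFinEquiv.trans (finCongr (two_mul m).symm)

theorem sum_sq_split {F : Type*} [Field F] (m : ℕ) (w : Fin (2 * m) → F) :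
    ∑ i, w i ^ 2 = ∑ j : Fin m, w (splitEquiv m (Sum.inl j)) ^ 2
      + ∑ j : Fin m, w (splitEquiv m (Sum.inr j)) ^ 2 := by
  rw [← Equiv.sum_comp (splitEquiv m), Fintype.sum_sum_type]

/-- Type of the orthonormal form: over a finite field of odd order q and for m ≥ 1, the quadratic form Σ_(i<2m) x_i² on F^(2m) admits an m-dimensional subspace on which it vanishes identically if and only if it is not the case that q ≡ 3 (mod 4) and m is odd. -/
theorem result {F : Type*} [Field F] [Fintype F] (h2 : (2 : F) ≠ 0) (m : ℕ) (hm : 1 ≤ m) : (∃ W : Submodule F (Fin (2 * m) → F), Module.finrank F W = m ∧ ∀ w ∈ W, ∑ i, w i ^ 2 = 0) ↔ ¬ (Fintype.card F % 4 = 3 ∧ Odd m) := by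
  classical
  have hneg1 := FiniteField.isSquare_neg_one_iff (F := F)
  constructor
  · rintro ⟨W, hWm, hW⟩ ⟨hq, hodd⟩
    have hnsq : ¬ IsSquare (-1 : F) := by
      rw [hneg1]; simpa using hq
    apply hnsq
    -- transport to `Fin m ⊕ Fin m`
    set L : (Fin (2 * m) → F) ≃ₗ[F] (Fin m ⊕ Fin m → F) :=
      LinearEquiv.funCongrLeft F F (splitEquiv m) with hL
    set W' : Submodule F (Fin m ⊕ Fin m → F) := W.map (L : (Fin (2 * m) → F) →ₗ[F] _) with hW'
    have hW'm : Module.finrank F W' = m := by
      rw [hW', LinearEquiv.finrank_map_eq, hWm]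
    have hW's : ∀ w ∈ W', ∑ s, w s ^ 2 = 0 := by
      rintro w ⟨x, hx, rfl⟩
      have := hW x hx
      rw [← Equiv.sum_comp (splitEquiv m)] at this
      exact this
    -- polarisation
    have hpolar : ∀ x ∈ W', ∀ y ∈ W', x ⬝ᵥ y = 0 := by
      intro x hx y hy
      have h1 := hW's (x + y) (W'.add_mem hx hy)
      have h2 := hW's x hx
      have h3 := hW's y hy
      have h4 : ∑ s, (x + y) s ^ 2 = ∑ s, x s ^ 2 + 2 * (x ⬝ᵥ y) + ∑ s, y s ^ 2 := by
        rw [dotProduct, Finset.mul_sum, ← Finset.sum_add_distrib, ← Finset.sum_add_distrib]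
        apply Finset.sum_congr rfl
        intro s _
        simp only [Pi.add_apply]
        ring
      rw [h4, h2, h3, zero_add, add_zero] at h1
      exact (mul_eq_zero.mp h1).resolve_left ‹(2 : F) ≠ 0›
    obtain ⟨U, hU⟩ := Submodule.exists_isCompl W'
    have hUm : Module.finrank F U = m := by
      have := Submodule.finrank_add_eq_of_isCompl hU
      rw [hW'm, Module.finrank_fintype_fun_eq_card, Fintype.card_sum, Fintype.card_fin] at this
      omega
    let bW : Module.Basis (Fin m) F W' := Module.finBasisOfFinrankEq F W' hW'm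
    let bU : Module.Basis (Fin m) F U := Module.finBasisOfFinrankEq F U hUm
    let c : Module.Basis (Fin m ⊕ Fin m) F (Fin m ⊕ Fin m → F) :=
      (bW.prod bU).map (Submodule.prodEquivOfIsCompl W' U hU)
    have hc : ∀ i, c (Sum.inl i) = (bW i : Fin m ⊕ Fin m → F) := by
      intro i
      show ((bW.prod bU).map (Submodule.prodEquivOfIsCompl W' U hU)) (Sum.inl i) = _
      rw [Module.Basis.map_apply, Submodule.coe_prodEquivOfIsCompl']
      simp
    set P := (Pi.basisFun F (Fin m ⊕ Fin m)).toMatrix c with hP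
    have hPdet : P.det ≠ 0 := by
      have := Module.Basis.isUnit_det (Pi.basisFun F (Fin m ⊕ Fin m)) c
      rw [Module.Basis.det_apply] at this
      exact this.ne_zero
    have hPcol : ∀ j, (fun k => P k j) = c j := by
      intro j
      ext k
      simp [hP, Module.Basis.toMatrix_apply]
    have hsq := isSquare_neg_one_pow P hPdet (by
      intro i j
      rw [hPcol, hPcol, hc, hc]
      exact hpolar _ (bW i).2 _ (bW j).2)
    rwa [hodd.neg_one_pow] at hsq
  · intro hcond
    -- get the matrix `A` with `Aᵀ A = -1`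
    have hroot : HasNegOneRoot F m := by
      by_cases hsq : IsSquare (-1 : F)
      · exact hasNegOneRoot_of_isSquare hsq m
      · have hq : Fintype.card F % 4 = 3 := by
          by_contra hne
          exact hsq (hneg1.mpr hne)
        have heven : Even m := by
          rw [← Nat.not_odd_iff_even]
          intro hodd
          exact hcond ⟨hq, hodd⟩
        obtain ⟨r, hr⟩ := heven
        have hp := CharP.char_is_prime F (ringChar F)
        have : NeZero (ringChar F) := ⟨hp.ne_zero⟩
        obtain ⟨a, b, hab⟩ := CharP.sq_add_sq F (ringChar F) (-1)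
        have hab' : (a : F) ^ 2 + (b : F) ^ 2 = -1 := by
          rw [hab]; simp
        have := hasNegOneRoot_even hab' r
        rwa [two_mul, ← hr] at this
    obtain ⟨A, hA⟩ := hroot
    -- the graph of `A`
    let φ : (Fin m → F) →ₗ[F] (Fin (2 * m) → F) :=
      { toFun := fun x => (Sum.elim x (A *ᵥ x)) ∘ (splitEquiv m).symm
        map_add' := by
          intro x y
          ext k
          simp only [Function.comp_apply, Pi.add_apply]
          rcases (splitEquiv m).symm k with j | j <;> simp [Matrix.mulVec_add]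
        map_smul' := by
          intro a x
          ext k
          simp only [Function.comp_apply, Pi.smul_apply, RingHom.id_apply]
          rcases (splitEquiv m).symm k with j | j <;> simp [Matrix.mulVec_smul] }
    have hφinl : ∀ x j, φ x (splitEquiv m (Sum.inl j)) = x j := by
      intro x j
      simp [φ]
    have hφinr : ∀ x j, φ x (splitEquiv m (Sum.inr j)) = (A *ᵥ x) j := by
      intro x j
      simp [φ]
    have hinj : Function.Injective φ := by
      intro x y hxy
      ext j
      rw [← hφinl x j, ← hφinl y j, hxy]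
    refine ⟨LinearMap.range φ, ?_, ?_⟩
    · rw [LinearMap.finrank_range_of_inj hinj, Module.finrank_fintype_fun_eq_card,
        Fintype.card_fin]
    · rintro w ⟨x, rfl⟩
      rw [sum_sq_split]
      simp only [hφinl, hφinr]
      have h1 : ∑ j, x j ^ 2 = x ⬝ᵥ x := by
        rw [dotProduct]; apply Finset.sum_congr rfl; intro j _; ring
      have h2 : ∑ j, (A *ᵥ x) j ^ 2 = (A *ᵥ x) ⬝ᵥ (A *ᵥ x) := by
        rw [dotProduct]; apply Finset.sum_congr rfl; intro j _; ring
      have h3 : (A *ᵥ x) ⬝ᵥ (A *ᵥ x) = -(x ⬝ᵥ x) := by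
        rw [dotProduct_mulVec, ← Matrix.mulVec_transpose, Matrix.mulVec_mulVec, hA,
          Matrix.neg_mulVec, Matrix.one_mulVec, neg_dotProduct]
      rw [h1, h2, h3, add_neg_cancel]

end Cfsg.Agent.S0759
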