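import Cfsg.Statements.S0760

set_option autoImplicit false
open Cfsg

namespace Cfsg.Agent.S0760

open Module

section
variable {F V : Type*} [Field F] [AddCommGroup V] [Module F V] [FiniteDimensional F V]

theorem polar_zero_of_singular (Q : QuadraticForm F V) (W : Submodule F V)
    (h : ∀ w ∈ W, Q w = 0) {a b : V} (ha : a ∈ W) (hb : b ∈ W) :
    QuadraticMap.polarBilin Q a b = 0 := by
  show QuadraticMap.polar Q a b = 0
  unfold QuadraticMap.polar
  rw [h _ (W.add_mem ha hb), h a ha, h b hb]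
  simp

theorem le_orthogonal_of_singular (Q : QuadraticForm F V) (W : Submodule F V)
    (h : ∀ w ∈ W, Q w = 0) : W ≤ LinearMap.BilinForm.orthogonal (QuadraticMap.polarBilin Q) W := by
  intro x hx n hn
  exact polar_zero_of_singular Q W h hn hx

theorem key (Q : QuadraticForm F V) (hQ : (QuadraticMap.polarBilin Q).Nondegenerate)
    (W₁ W₂ : Submodule F V) (h₁ : ∀ w ∈ W₁, Q w = 0) (h₂ : ∀ w ∈ W₂, Q w = 0)
    (hmax₁ : ∀ W : Submodule F V, W₁ ≤ W → (∀ w ∈ W, Q w = 0) → W = W₁) :
    finrank F W₂ ≤ finrank F W₁ := by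
  set B : LinearMap.BilinForm F V := QuadraticMap.polarBilin Q with hBdef
  set D := W₂ ⊓ LinearMap.BilinForm.orthogonal B W₁ with hD
  -- `D ⊔ W₁` is totally singular
  have hsing : ∀ w ∈ D ⊔ W₁, Q w = 0 := by
    intro w hw
    obtain ⟨a, ha, b, hb, rfl⟩ := Submodule.mem_sup.mp hw
    have ha2 : a ∈ W₂ := ha.1
    have hab : QuadraticMap.polar Q b a = 0 := ha.2 b hb
    rw [QuadraticMap.map_add (⇑Q) a b, h₂ a ha2, h₁ b hb, QuadraticMap.polar_comm, hab]
    simp
  have hDW₁ : D ≤ W₁ := by
    have := hmax₁ (D ⊔ W₁) le_sup_right hsing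
    rw [← this]
    exact le_sup_left
  -- `W₂ ⊔ W₁^⊥ ≤ D^⊥`
  have hle : W₂ ⊔ LinearMap.BilinForm.orthogonal B W₁ ≤ LinearMap.BilinForm.orthogonal B D := by
    apply sup_le
    · intro x hx n hn
      exact polar_zero_of_singular Q W₂ h₂ hn.1 hx
    · exact LinearMap.BilinForm.orthogonal_le hDW₁
  have h1 := Submodule.finrank_sup_add_finrank_inf_eq W₂ (LinearMap.BilinForm.orthogonal B W₁)
  have h2 := LinearMap.BilinForm.finrank_orthogonal hQ W₁
  have h3 := LinearMap.BilinForm.finrank_orthogonal hQ D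
  have h4 := Submodule.finrank_mono hle
  have h5 := Submodule.finrank_le W₁
  have h6 := Submodule.finrank_le D
  have h7 := Submodule.finrank_le W₂
  rw [← hD] at h1
  omega

end

/-- Witt index is well defined: if Q is a quadratic form on a finite-dimensional space V over a finite field with non-degenerate polar form, and W₁, W₂ are subspaces on which Q vanishes that are maximal with this property, then W₁ and W₂ have the same dimension, and twice this dimension is at most dim V. -/
theorem result {F V : Type*} [Field F] [Finite F] [AddCommGroup V] [Module F V] [FiniteDimensional F V] (Q : QuadraticForm F V) (hQ : (QuadraticMap.polarBilin Q).Nondegenerate) (W₁ W₂ : Submodule F V) (h₁ : ∀ w ∈ W₁, Q w = 0) (h₂ : ∀ w ∈ W₂, Q w = 0) (hmax₁ : ∀ W : Submodule F V, W₁ ≤ W → (∀ w ∈ W, Q w = 0) → W = W₁) (hmax₂ : ∀ W : Submodule F V, W₂ ≤ W → (∀ w ∈ W, Q w = 0) → W = W₂) : Module.finrank F W₁ = Module.finrank F W₂ ∧ 2 * Module.finrank F W₁ ≤ Module.finrank F V := by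
  constructor
  · exact le_antisymm (key Q hQ W₂ W₁ h₂ h₁ hmax₂) (key Q hQ W₁ W₂ h₁ h₂ hmax₁)
  · have h1 := Submodule.finrank_mono (le_orthogonal_of_singular Q W₁ h₁)
    have h2 := LinearMap.BilinForm.finrank_orthogonal hQ W₁
    have h5 := Submodule.finrank_le W₁
    omega

end Cfsg.Agent.S0760
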