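import Cfsg.Statements.S0761

set_option autoImplicit false
open Cfsg

namespace Cfsg.Agent.S0761

/-- Hyperbolic partners: let B be a non-degenerate bilinear form on a finite-dimensional space, either alternating, or symmetric with 2 ≠ 0. If Z is a subspace on which B vanishes, x ∉ Z is isotropic and orthogonal to Z, then there is an isotropic y with B x y = 1 which is orthogonal to Z. -/
theorem result {F V : Type*} [Field F] [AddCommGroup V] [Module F V] [FiniteDimensional F V] (B : LinearMap.BilinForm F V) (hB : B.Nondegenerate) (hform : B.IsAlt ∨ (B.IsSymm ∧ (2 : F) ≠ 0)) (x : V) (Z : Submodule F V) (hxZ : x ∉ Z) (hx : B x x = 0) (hxz : ∀ z ∈ Z, B x z = 0) (hZ : ∀ z ∈ Z, ∀ z' ∈ Z, B z z' = 0) : ∃ y : V, B y y = 0 ∧ B x y = 1 ∧ ∀ z ∈ Z, B z y = 0 := by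
  obtain ⟨f, hfx, hfZ⟩ := Submodule.exists_le_ker_of_notMem hxZ
  -- normalise so that `f x = 1`
  set g : V →ₗ[F] F := (f x)⁻¹ • f with hg
  have hgx : g x = 1 := by
    simp [hg, inv_mul_cancel₀ hfx]
  have hgZ : ∀ z ∈ Z, g z = 0 := by
    intro z hz
    have : f z = 0 := hfZ hz
    simp [hg, this]
  -- `y₀` with `B v y₀ = g v`
  set y₀ : V := (B.flip.toDual hB.flip).symm g with hy₀
  have hy : ∀ v, B v y₀ = g v := by
    intro v
    have := LinearMap.BilinForm.apply_toDual_symm_apply (B := B.flip) (hB := hB.flip) g v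
    rw [LinearMap.BilinForm.flip_apply] at this
    exact this
  rcases hform with hA | ⟨hS, h2⟩
  · refine ⟨y₀, hA.self_eq_zero y₀, by rw [hy, hgx], fun z hz => by rw [hy, hgZ z hz]⟩
  · refine ⟨y₀ - (B y₀ y₀ / 2) • x, ?_, ?_, ?_⟩
    · have h1 : B y₀ x = 1 := by rw [← hS.eq, hy, hgx]
      simp only [map_sub, map_smul, LinearMap.sub_apply, LinearMap.smul_apply, smul_eq_mul, hx,
        hy, hgx, h1]
      field_simp
      ring
    · simp only [map_sub, map_smul, smul_eq_mul, hx, hy, hgx]
      ring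
    · intro z hz
      have h1 : B z x = 0 := by rw [← hS.eq, hxz z hz]
      simp only [map_sub, map_smul, smul_eq_mul, hy, hgZ z hz, h1]
      ring

end Cfsg.Agent.S0761
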