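import Cfsg.Statements.S0762

set_option autoImplicit false
open Cfsg

namespace Cfsg.Agent.S0762

/-- In characteristic two over a finite field, a quadratic form on a space of dimension at least 3 vanishes on some non-zero vector. -/
theorem result {F V : Type*} [Field F] [Finite F] [CharP F 2] [AddCommGroup V] [Module F V] [FiniteDimensional F V] (Q : QuadraticForm F V) (h3 : 3 ≤ Module.finrank F V) : ∃ v : V, v ≠ 0 ∧ Q v = 0 := by
  have hV : 0 < Module.finrank F V := by omega
  obtain ⟨u, hu⟩ : ∃ u : V, u ≠ 0 := by
    have : Nontrivial V := Module.finrank_pos_iff.mp hV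
    exact exists_ne 0
  by_cases hQu : Q u = 0
  · exact ⟨u, hu, hQu⟩
  -- the functional `B u`
  let f : V →ₗ[F] F := QuadraticMap.polarBilin Q u
  have hf : ∀ x, f x = QuadraticMap.polar Q u x := fun x => rfl
  have hker : 2 ≤ Module.finrank F (LinearMap.ker f) := by
    have h1 := LinearMap.finrank_range_add_finrank_ker f
    have h2 : Module.finrank F (LinearMap.range f) ≤ 1 := by
      have := Submodule.finrank_le (LinearMap.range f)
      rwa [Module.finrank_self] at this
    omega
  have hnot : ¬ (LinearMap.ker f ≤ Submodule.span F {u}) := by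
    intro hle
    have h1 := Submodule.finrank_mono hle
    have h2 : Module.finrank F (Submodule.span F {u}) = 1 := finrank_span_singleton hu
    omega
  obtain ⟨v, hvker, hvspan⟩ := SetLike.not_le_iff_exists.mp hnot
  have hpolar : QuadraticMap.polar Q u v = 0 := by
    rw [← hf]; exact hvker
  have hchar : ringChar F = 2 := (ringChar.eq F 2).symm ▸ rfl
  obtain ⟨a, ha⟩ := FiniteField.isSquare_of_char_two hchar (Q v / Q u)
  refine ⟨a • u + v, ?_, ?_⟩
  · intro h0
    apply hvspan
    have : v = (-a) • u := by
      rw [neg_smul]
      exact eq_neg_of_add_eq_zero_right h0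
    rw [this]
    exact Submodule.smul_mem _ _ (Submodule.mem_span_singleton_self u)
  · rw [QuadraticMap.map_add (⇑Q) (a • u) v, QuadraticMap.map_smul, QuadraticMap.polar_smul_left, hpolar,
      smul_zero, add_zero, smul_eq_mul, ← ha, div_mul_cancel₀ _ hQu]
    have h2 : (2 : F) = 0 := CharP.cast_eq_zero F 2
    linear_combination (Q v) * h2

end Cfsg.Agent.S0762
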