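import Cfsg.Statements.S0763

set_option autoImplicit false
open Cfsg

namespace Cfsg.Agent.S0763

theorem linInd_of_polar_eq_one {F V : Type*} [Field F] [CharP F 2] [AddCommGroup V] [Module F V]
    (Q : QuadraticForm F V) (v w : V) (h : QuadraticMap.polar Q v w = 1) :
    LinearIndependent F ![v, w] := by
  have h2 : (2 : F) = 0 := CharP.cast_eq_zero F 2
  have hself : ∀ x : V, QuadraticMap.polar Q x x = 0 := by
    intro x
    rw [QuadraticMap.polar_self, two_smul]
    linear_combination (Q x) * h2
  rw [LinearIndependent.pair_iff]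
  intro a b hab
  have h1 : QuadraticMap.polar Q v (a • v + b • w) = 0 := by
    rw [hab]; simp [QuadraticMap.polar]
  have h3 : QuadraticMap.polar Q (a • v + b • w) w = 0 := by
    rw [hab]; simp [QuadraticMap.polar]
  rw [QuadraticMap.polar_add_right, QuadraticMap.polar_smul_right, QuadraticMap.polar_smul_right,
    hself, h, smul_zero, zero_add, smul_eq_mul, mul_one] at h1
  rw [QuadraticMap.polar_add_left, QuadraticMap.polar_smul_left, QuadraticMap.polar_smul_left,
    hself, h, smul_zero, add_zero, smul_eq_mul, mul_one] at h3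
  exact ⟨h3, h1⟩

/-- Binary quadratic forms in characteristic two over a finite field: if Q is a quadratic form on a 2-dimensional space whose polar form is non-degenerate, then either there are vectors v, w with Q v = Q w = 0 and polar value 1 (Q is xy in these coordinates), or there are v, w and μ with Q v = 1, Q w = μ, polar value 1 and x² + x + μ without roots in F (Q is x² + xy + μy²). -/
theorem result {F V : Type*} [Field F] [Finite F] [CharP F 2] [AddCommGroup V] [Module F V] (Q : QuadraticForm F V) (h2 : Module.finrank F V = 2) (hQ : (QuadraticMap.polarBilin Q).Nondegenerate) : (∃ v w : V, LinearIndependent F ![v, w] ∧ Q v = 0 ∧ Q w = 0 ∧ QuadraticMap.polar Q v w = 1) ∨ (∃ (v w : V) (μ : F), LinearIndependent F ![v, w] ∧ (∀ x : F, x ^ 2 + x + μ ≠ 0) ∧ Q v = 1 ∧ Q w = μ ∧ QuadraticMap.polar Q v w = 1) := by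
  have h20 : (2 : F) = 0 := CharP.cast_eq_zero F 2
  have hself : ∀ x : V, QuadraticMap.polar Q x x = 0 := by
    intro x
    rw [QuadraticMap.polar_self, two_smul]
    linear_combination (Q x) * h20
  -- partner with polar value one
  have hpartner : ∀ v : V, v ≠ 0 → ∃ w : V, QuadraticMap.polar Q v w = 1 := by
    intro v hv
    have : ∃ w₀, QuadraticMap.polar Q v w₀ ≠ 0 := by
      by_contra hcon
      push Not at hcon
      exact hv (hQ.1 v hcon)
    obtain ⟨w₀, hw₀⟩ := this
    refine ⟨(QuadraticMap.polar Q v w₀)⁻¹ • w₀, ?_⟩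
    rw [QuadraticMap.polar_smul_right, smul_eq_mul, inv_mul_cancel₀ hw₀]
  by_cases hiso : ∃ v : V, v ≠ 0 ∧ Q v = 0
  · left
    obtain ⟨v, hv, hQv⟩ := hiso
    obtain ⟨w₁, hw₁⟩ := hpartner v hv
    have hpol : QuadraticMap.polar Q v (w₁ + Q w₁ • v) = 1 := by
      rw [QuadraticMap.polar_add_right, QuadraticMap.polar_smul_right, hself, smul_zero, add_zero,
        hw₁]
    refine ⟨v, w₁ + Q w₁ • v, linInd_of_polar_eq_one Q _ _ hpol, hQv, ?_, hpol⟩
    rw [QuadraticMap.map_add (⇑Q) w₁ (Q w₁ • v), QuadraticMap.map_smul, hQv, smul_zero, add_zero,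
      QuadraticMap.polar_smul_right, QuadraticMap.polar_comm, hw₁, smul_eq_mul, mul_one]
    linear_combination (Q w₁) * h20
  · right
    push Not at hiso
    have hV : Nontrivial V := Module.nontrivial_of_finrank_pos (R := F) (by omega)
    obtain ⟨v₀, hv₀⟩ := exists_ne (0 : V)
    have ha : Q v₀ ≠ 0 := hiso v₀ hv₀
    have hchar : ringChar F = 2 := (ringChar.eq F 2).symm ▸ rfl
    obtain ⟨s, hs⟩ := FiniteField.isSquare_of_char_two hchar (Q v₀)
    have hs0 : s ≠ 0 := by
      rintro rfl
      apply ha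
      rw [hs, mul_zero]
    have hv : s⁻¹ • v₀ ≠ 0 := smul_ne_zero (inv_ne_zero hs0) hv₀
    have hQv : Q (s⁻¹ • v₀) = 1 := by
      rw [QuadraticMap.map_smul, smul_eq_mul, hs]
      field_simp
    obtain ⟨w, hw⟩ := hpartner _ hv
    refine ⟨s⁻¹ • v₀, w, Q w, linInd_of_polar_eq_one Q _ _ hw, ?_, hQv, rfl, hw⟩
    intro x hx
    have hne : x • (s⁻¹ • v₀) + w ≠ 0 := by
      intro h0
      have h1 : QuadraticMap.polar Q (s⁻¹ • v₀) (x • (s⁻¹ • v₀) + w) = 1 := by
        rw [QuadraticMap.polar_add_right, QuadraticMap.polar_smul_right, hself, smul_zero,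
          zero_add, hw]
      rw [h0] at h1
      simp [QuadraticMap.polar] at h1
    apply hiso _ hne
    rw [QuadraticMap.map_add (⇑Q) (x • (s⁻¹ • v₀)) w, QuadraticMap.map_smul, hQv,
      QuadraticMap.polar_smul_left, hw, smul_eq_mul, smul_eq_mul, mul_one, mul_one]
    linear_combination hx

end Cfsg.Agent.S0763
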