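import Cfsg.Statements.S0769
-- import your own Cfsg.Agent.* helpers here

set_option autoImplicit false
open Cfsg

namespace Cfsg.Agent.S0769

/-- the condition on the `(i, j)` entry of an invertible lower triangular matrix -/
def entryPred {F : Type*} [Field F] {n : ℕ} (i j : Fin n) (a : F) : Prop :=
  (i < j → a = 0) ∧ (i = j → a ≠ 0)

theorem det_lower {F : Type*} [Field F] {n : ℕ} (M : Matrix (Fin n) (Fin n) F)
    (h : ∀ i j : Fin n, i < j → M i j = 0) : M.det = ∏ i, M i i :=
  Matrix.det_of_isLowerTriangular M (fun i j hij => h i j hij)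

/-- invertible lower triangular matrices, entry by entry -/
noncomputable def borelEquiv {F : Type*} [Field F] (n : ℕ) :
    {g : Matrix.GeneralLinearGroup (Fin n) F //
      ∀ i j : Fin n, i < j → (g : Matrix (Fin n) (Fin n) F) i j = 0} ≃
    {M : Fin n → Fin n → F // ∀ i : Fin n, (fun f : Fin n → F => ∀ j : Fin n, entryPred i j (f j)) (M i)} where
  toFun g := ⟨fun i j => (g.1 : Matrix (Fin n) (Fin n) F) i j, by
    intro i j
    refine ⟨fun hij => g.2 i j hij, ?_⟩
    rintro rfl
    have hdet : (g.1 : Matrix (Fin n) (Fin n) F).det ≠ 0 := by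
      have := Matrix.GeneralLinearGroup.det_ne_zero g.1
      simpa using this
    rw [det_lower _ g.2] at hdet
    exact fun h0 => hdet (Finset.prod_eq_zero (Finset.mem_univ i) h0)⟩
  invFun M := ⟨Matrix.GeneralLinearGroup.mkOfDetNeZero (Matrix.of M.1) (by
      rw [det_lower (Matrix.of M.1) (fun i j hij => (M.2 i j).1 hij)]
      exact Finset.prod_ne_zero_iff.mpr (fun i _ => (M.2 i i).2 rfl)),
    fun i j hij => (M.2 i j).1 hij⟩
  left_inv g := by
    apply Subtype.ext
    apply Matrix.GeneralLinearGroup.ext
    intro i j
    rfl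
  right_inv M := by
    apply Subtype.ext
    rfl

theorem card_entry {F : Type*} [Field F] [Fintype F] {n : ℕ} (i j : Fin n) :
    Nat.card {a : F // entryPred i j a} =
      if i < j then 1 else if i = j then Fintype.card F - 1 else Fintype.card F := by
  classical
  rcases lt_trichotomy i j with h | h | h
  · rw [if_pos h]
    have : {a : F // entryPred i j a} ≃ Unit :=
      { toFun := fun _ => ()
        invFun := fun _ => ⟨0, fun _ => rfl, fun h' => absurd h' h.ne⟩
        left_inv := fun a => Subtype.ext (a.2.1 h).symm
        right_inv := fun _ => rfl }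
    rw [Nat.card_congr this]; simp
  · rw [if_neg h.not_lt, if_pos h]
    have : {a : F // entryPred i j a} ≃ Fˣ :=
      { toFun := fun a => Units.mk0 a.1 (a.2.2 h)
        invFun := fun u => ⟨u.1, fun h' => absurd h h'.ne, fun _ => u.ne_zero⟩
        left_inv := fun a => rfl
        right_inv := fun u => Units.ext rfl }
    rw [Nat.card_congr this, Nat.card_eq_fintype_card, Fintype.card_units]
  · rw [if_neg (lt_asymm h), if_neg h.ne']
    have : {a : F // entryPred i j a} ≃ F :=
      { toFun := fun a => a.1
        invFun := fun a => ⟨a, fun h' => absurd h' (lt_asymm h), fun h' => absurd h' h.ne'⟩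
        left_inv := fun a => rfl
        right_inv := fun a => rfl }
    rw [Nat.card_congr this, Nat.card_eq_fintype_card]

theorem prod_row (q : ℕ) {n : ℕ} (i : Fin n) :
    (∏ j : Fin n, if i < j then 1 else if i = j then q - 1 else q) = (q - 1) * q ^ (i : ℕ) := by
  have h1 : ∀ j : Fin n, (if i < j then 1 else if i = j then q - 1 else q) =
      (if j = i then q - 1 else 1) * (if j < i then q else 1) := by
    intro j
    rcases lt_trichotomy i j with h | h | h
    · rw [if_pos h, if_neg h.ne', if_neg (lt_asymm h)]
    · subst h; simp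
    · rw [if_neg (lt_asymm h), if_neg h.ne', if_neg h.ne, if_pos h, one_mul]
  simp only [h1]
  rw [Finset.prod_mul_distrib, Finset.prod_ite_eq' Finset.univ i, if_pos (Finset.mem_univ i),
    Finset.prod_ite, Finset.prod_const, Finset.prod_const_one, mul_one]
  congr 2
  have : (Finset.univ.filter (fun j : Fin n => j < i)) = Finset.Iio i := by
    ext j; simp
  rw [this, Fin.card_Iio]

/-- Order of the Borel subgroup of GL_n(q): the invertible lower-triangular n × n matrices over a field with q elements number q^(n(n-1)/2) (q-1)^n (unitriangular part times the diagonal torus). -/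
theorem result {F : Type*} [Field F] [Fintype F] {q : ℕ} (hF : Fintype.card F = q) (n : ℕ) : Nat.card {g : Matrix.GeneralLinearGroup (Fin n) F // ∀ i j : Fin n, i < j → (g : Matrix (Fin n) (Fin n) F) i j = 0} = q ^ (n * (n - 1) / 2) * (q - 1) ^ n := by
  subst hF
  rw [Nat.card_congr (borelEquiv n),
    Nat.card_congr (Equiv.subtypePiEquivPi (β := fun _ : Fin n => Fin n → F)
      (p := fun i f => ∀ j : Fin n, entryPred i j (f j))), Nat.card_pi]
  have h1 : ∀ i : Fin n, Nat.card {f : Fin n → F // ∀ j : Fin n, entryPred i j (f j)} =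
      (Fintype.card F - 1) * Fintype.card F ^ (i : ℕ) := by
    intro i
    rw [Nat.card_congr (Equiv.subtypePiEquivPi (β := fun _ : Fin n => F)
      (p := fun j a => entryPred i j a)), Nat.card_pi]
    simp only [card_entry]
    exact prod_row (Fintype.card F) i
  simp only [h1]
  rw [Finset.prod_mul_distrib, Finset.prod_const, Finset.card_univ, Fintype.card_fin,
    Finset.prod_pow_eq_pow_sum, Fin.sum_univ_eq_sum_range (fun i => i) n, Finset.sum_range_id,
    mul_comm]

end Cfsg.Agent.S0769
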