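import Cfsg.Statements.S0770

set_option autoImplicit false
open Cfsg

namespace Cfsg.Agent.S0770

variable {F : Type*} [Field F] {n : ℕ}

theorem mem_T_iff (h : Matrix.GeneralLinearGroup (Fin n) F) :
    h ∈ ((Units.map (Matrix.diagonalRingHom (Fin n) F).toMonoidHom).range :
      Subgroup (Matrix.GeneralLinearGroup (Fin n) F)) ↔
    ∃ d : Fin n → F, (∀ i, d i ≠ 0) ∧ (h : Matrix (Fin n) (Fin n) F) = Matrix.diagonal d := by
  constructor
  · rintro ⟨u, rfl⟩
    refine ⟨(u : Fin n → F), fun i hi => ?_, rfl⟩
    have h1 : (u : Fin n → F) i * (↑u⁻¹ : Fin n → F) i = 1 := by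
      rw [← Pi.mul_apply, Units.mul_inv]; rfl
    rw [hi, zero_mul] at h1
    exact zero_ne_one h1
  · rintro ⟨d, hd, hh⟩
    refine ⟨⟨d, fun i => (d i)⁻¹, ?_, ?_⟩, ?_⟩
    · funext i; exact mul_inv_cancel₀ (hd i)
    · funext i; exact inv_mul_cancel₀ (hd i)
    · apply Units.ext
      rw [hh]
      rfl

/-- conjugating a diagonal matrix by a monomial matrix -/
theorem mul_diagonal_of_mono (g : Matrix (Fin n) (Fin n) F) (σ : Fin n → Fin n)
    (hσ : ∀ i j, g i j ≠ 0 → j = σ i) (d : Fin n → F) :
    g * Matrix.diagonal d = Matrix.diagonal (fun i => d (σ i)) * g := by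
  ext i j
  rw [Matrix.mul_diagonal, Matrix.diagonal_mul]
  by_cases h : g i j = 0
  · rw [h, zero_mul, mul_zero]
  · rw [hσ i j h, mul_comm]

theorem result {F : Type*} [Field F] (hF : ∃ a : F, a ≠ 0 ∧ a ≠ 1) (n : ℕ) (g : Matrix.GeneralLinearGroup (Fin n) F) : g ∈ Subgroup.normalizer ((Units.map (Matrix.diagonalRingHom (Fin n) F).toMonoidHom).range : Subgroup (Matrix.GeneralLinearGroup (Fin n) F)) ↔ ∀ i : Fin n, ∃! j : Fin n, (g : Matrix (Fin n) (Fin n) F) i j ≠ 0 := by
  have hgg : (g : Matrix (Fin n) (Fin n) F) * ((g⁻¹ : Matrix.GeneralLinearGroup (Fin n) F) :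
      Matrix (Fin n) (Fin n) F) = 1 := by
    rw [← Matrix.GeneralLinearGroup.coe_mul, mul_inv_cancel]; rfl
  have hgg' : ((g⁻¹ : Matrix.GeneralLinearGroup (Fin n) F) : Matrix (Fin n) (Fin n) F) *
      (g : Matrix (Fin n) (Fin n) F) = 1 := by
    rw [← Matrix.GeneralLinearGroup.coe_mul, inv_mul_cancel]; rfl
  constructor
  · -- normalizer → monomial
    intro hg i
    rw [Subgroup.mem_normalizer_iff] at hg
    -- some entry of row i is nonzero
    have hex : ∃ j, (g : Matrix (Fin n) (Fin n) F) i j ≠ 0 := by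
      by_contra hcon
      push Not at hcon
      have := congrFun (congrFun hgg i) i
      rw [Matrix.mul_apply, Matrix.one_apply_eq] at this
      rw [Finset.sum_eq_zero (fun j _ => by rw [hcon j, zero_mul])] at this
      exact zero_ne_one this
    obtain ⟨j, hj⟩ := hex
    refine ⟨j, hj, fun k hk => ?_⟩
    by_contra hkj
    obtain ⟨a, ha0, ha1⟩ := hF
    -- the diagonal matrix with a at position j
    let d : Fin n → F := fun l => if l = j then a else 1
    have hd : ∀ l, d l ≠ 0 := by
      intro l
      by_cases hl : l = j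
      · simp only [d, hl, if_true]; exact ha0
      · simp only [d, hl, if_false]; exact one_ne_zero
    obtain ⟨D, hD⟩ : ∃ D : Matrix.GeneralLinearGroup (Fin n) F,
        (D : Matrix (Fin n) (Fin n) F) = Matrix.diagonal d := by
      refine ⟨⟨Matrix.diagonal d, Matrix.diagonal fun l => (d l)⁻¹, ?_, ?_⟩, rfl⟩
      · rw [Matrix.diagonal_mul_diagonal]
        rw [show (fun l => d l * (d l)⁻¹) = fun _ => (1 : F) from
          funext fun l => mul_inv_cancel₀ (hd l)]
        exact Matrix.diagonal_one
      · rw [Matrix.diagonal_mul_diagonal]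
        rw [show (fun l => (d l)⁻¹ * d l) = fun _ => (1 : F) from
          funext fun l => inv_mul_cancel₀ (hd l)]
        exact Matrix.diagonal_one
    have hDT : D ∈ ((Units.map (Matrix.diagonalRingHom (Fin n) F).toMonoidHom).range :
        Subgroup (Matrix.GeneralLinearGroup (Fin n) F)) := (mem_T_iff D).mpr ⟨d, hd, hD⟩
    obtain ⟨d', -, hd'⟩ := (mem_T_iff _).mp ((hg D).mp hDT)
    -- g * D = D' * g
    have h1 : (g : Matrix (Fin n) (Fin n) F) * Matrix.diagonal d =
        Matrix.diagonal d' * (g : Matrix (Fin n) (Fin n) F) := by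
      rw [← hd', Matrix.GeneralLinearGroup.coe_mul, Matrix.GeneralLinearGroup.coe_mul, hD,
        Matrix.mul_assoc, hgg', Matrix.mul_one]
    have e1 := congrFun (congrFun h1 i) j
    have e2 := congrFun (congrFun h1 i) k
    rw [Matrix.mul_diagonal, Matrix.diagonal_mul] at e1 e2
    have dj : d j = a := by simp [d]
    have dk : d k = 1 := by simp [d, hkj]
    rw [dj] at e1
    rw [dk, mul_one] at e2
    have hd'i : d' i = 1 := by
      have : (d' i - 1) * (g : Matrix (Fin n) (Fin n) F) i k = 0 := by linear_combination -e2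
      rcases mul_eq_zero.mp this with h | h
      · linear_combination h
      · exact absurd h hk
    rw [hd'i, one_mul] at e1
    have : (g : Matrix (Fin n) (Fin n) F) i j * (a - 1) = 0 := by linear_combination e1
    rcases mul_eq_zero.mp this with h | h
    · exact hj h
    · exact ha1 (by linear_combination h)
  · -- monomial → normalizer
    intro hmono
    choose σ hσ1 hσ2 using hmono
    have hσ : ∀ i j, (g : Matrix (Fin n) (Fin n) F) i j ≠ 0 → j = σ i := fun i j h => hσ2 i j h
    -- entries of the inverse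
    have hinv : ∀ i k, (g : Matrix (Fin n) (Fin n) F) i (σ i) *
        ((g⁻¹ : Matrix.GeneralLinearGroup (Fin n) F) : Matrix (Fin n) (Fin n) F) (σ i) k =
        (1 : Matrix (Fin n) (Fin n) F) i k := by
      intro i k
      rw [← hgg, Matrix.mul_apply]
      symm
      apply Finset.sum_eq_single
      · intro j _ hj
        have : (g : Matrix (Fin n) (Fin n) F) i j = 0 := by
          by_contra h
          exact hj (hσ i j h)
        rw [this, zero_mul]
      · intro h; exact absurd (Finset.mem_univ _) h
    have hσinj : Function.Injective σ := by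
      intro i i' hii
      by_contra hne
      have h1 := hinv i i
      have h2 := hinv i' i
      rw [Matrix.one_apply_eq] at h1
      rw [Matrix.one_apply_ne (Ne.symm hne), ← hii] at h2
      rcases mul_eq_zero.mp h2 with h | h
      · exact hσ1 i' (hii ▸ h)
      · rw [h, mul_zero] at h1
        exact zero_ne_one h1
    have hσbij : Function.Bijective σ := Finite.injective_iff_bijective.mp hσinj
    obtain ⟨τ, hτ1, hτ2⟩ := Function.bijective_iff_has_inverse.mp hσbij
    rw [Subgroup.mem_normalizer_iff]
    intro h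
    constructor
    · intro hh
      obtain ⟨d, hd, hhd⟩ := (mem_T_iff h).mp hh
      rw [mem_T_iff]
      refine ⟨fun i => d (σ i), fun i => hd (σ i), ?_⟩
      rw [Matrix.GeneralLinearGroup.coe_mul, Matrix.GeneralLinearGroup.coe_mul, hhd,
        mul_diagonal_of_mono _ σ hσ, Matrix.mul_assoc, hgg, Matrix.mul_one]
    · intro hh
      obtain ⟨d', hd', hhd'⟩ := (mem_T_iff _).mp hh
      rw [mem_T_iff]
      refine ⟨fun j => d' (τ j), fun j => hd' (τ j), ?_⟩
      have h1 : (g : Matrix (Fin n) (Fin n) F) * (h : Matrix (Fin n) (Fin n) F) =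
          Matrix.diagonal d' * (g : Matrix (Fin n) (Fin n) F) := by
        rw [← hhd', Matrix.GeneralLinearGroup.coe_mul, Matrix.GeneralLinearGroup.coe_mul,
          Matrix.mul_assoc, hgg', Matrix.mul_one]
      have h2 : (g : Matrix (Fin n) (Fin n) F) * Matrix.diagonal (fun j => d' (τ j)) =
          Matrix.diagonal d' * (g : Matrix (Fin n) (Fin n) F) := by
        rw [mul_diagonal_of_mono _ σ hσ]
        congr 2
        funext i
        rw [hτ1 i]
      have h3 : (g : Matrix (Fin n) (Fin n) F) * (h : Matrix (Fin n) (Fin n) F) =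
          (g : Matrix (Fin n) (Fin n) F) * Matrix.diagonal (fun j => d' (τ j)) := by
        rw [h1, h2]
      calc (h : Matrix (Fin n) (Fin n) F)
          = (((g⁻¹ : Matrix.GeneralLinearGroup (Fin n) F) : Matrix (Fin n) (Fin n) F) *
            (g : Matrix (Fin n) (Fin n) F)) * (h : Matrix (Fin n) (Fin n) F) := by
            rw [hgg', Matrix.one_mul]
        _ = ((g⁻¹ : Matrix.GeneralLinearGroup (Fin n) F) : Matrix (Fin n) (Fin n) F) *
            ((g : Matrix (Fin n) (Fin n) F) * Matrix.diagonal (fun j => d' (τ j))) := by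
            rw [Matrix.mul_assoc, h3]
        _ = Matrix.diagonal (fun j => d' (τ j)) := by
            rw [← Matrix.mul_assoc, hgg', Matrix.one_mul]

end Cfsg.Agent.S0770
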