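import Cfsg.Statements.S0771
import Mathlib
-- import your own Cfsg.Agent.* helpers here

set_option autoImplicit false
open Cfsg

namespace Cfsg.Agent.S0771

open Matrix

section Helpers

variable {F : Type*} [Field F]

/-- the index equivalence `Fin k ⊕ Fin (n - k) ≃ Fin n` -/
def idx (n k : ℕ) (hk : k ≤ n) : Fin k ⊕ Fin (n - k) ≃ Fin n :=
  finSumFinEquiv.trans (finCongr (by omega))

theorem idx_inl_val (n k : ℕ) (hk : k ≤ n) (i : Fin k) :
    ((idx n k hk (Sum.inl i) : Fin n) : ℕ) = i.val := by simp [idx]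

theorem idx_inr_val (n k : ℕ) (hk : k ≤ n) (j : Fin (n - k)) :
    ((idx n k hk (Sum.inr j) : Fin n) : ℕ) = k + j.val := by simp [idx]

/-- the coordinate subspace -/
def W (F : Type*) [Field F] (n k : ℕ) : Set (Fin n → F) :=
  {v : Fin n → F | ∀ i : Fin n, k ≤ (i : ℕ) → v i = 0}

theorem mem_stab_iff [Finite F] (n k : ℕ) (hk : k ≤ n) (g : Matrix.GeneralLinearGroup (Fin n) F) :
    g ∈ Cfsg.stabilizing (Cfsg.glToMat (Fin n) F) (W F n k) ↔
      ((g : Matrix (Fin n) (Fin n) F).submatrix (idx n k hk) (idx n k hk)).toBlocks₂₁ = 0 := by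
  constructor
  · intro hg
    ext j' i'
    have h1 : (Pi.single (idx n k hk (Sum.inl i')) (1 : F) : Fin n → F) ∈ W F n k := by
      intro i hi
      rw [Pi.single_apply, if_neg]
      intro h
      rw [h, idx_inl_val] at hi
      have := i'.2
      omega
    have h2 := (hg _).1 h1 (idx n k hk (Sum.inr j')) (by rw [idx_inr_val]; omega)
    simpa [Matrix.toBlocks₂₁] using h2
  · intro hC
    have hC' : ∀ i j : Fin n, k ≤ (i : ℕ) → (j : ℕ) < k → (g : Matrix (Fin n) (Fin n) F) i j = 0 := by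
      intro i j hi hj
      have h1 : i = idx n k hk (Sum.inr ⟨i.val - k, by have := i.2; omega⟩) := by
        apply Fin.ext; rw [idx_inr_val]; simp; omega
      have h2 : j = idx n k hk (Sum.inl ⟨j.val, hj⟩) := by
        apply Fin.ext; rw [idx_inl_val]
      have := congrFun (congrFun hC ⟨i.val - k, by have := i.2; omega⟩) ⟨j.val, hj⟩
      rw [h1, h2]
      simpa [Matrix.toBlocks₂₁] using this
    have hfwd : ∀ v, v ∈ W F n k → (g : Matrix (Fin n) (Fin n) F) *ᵥ v ∈ W F n k := by
      intro v hv i hi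
      rw [Matrix.mulVec, dotProduct]
      apply Finset.sum_eq_zero
      intro j _
      rcases Nat.lt_or_ge (j : ℕ) k with hj | hj
      · rw [hC' i j hi hj, zero_mul]
      · rw [hv j hj, mul_zero]
    intro v
    refine ⟨hfwd v, fun hv => ?_⟩
    let f : W F n k → W F n k := fun w => ⟨(g : Matrix (Fin n) (Fin n) F) *ᵥ w.1, hfwd w.1 w.2⟩
    have hinj : Function.Injective f := by
      intro a b hab
      have h3 : (g : Matrix (Fin n) (Fin n) F) *ᵥ a.1 = (g : Matrix (Fin n) (Fin n) F) *ᵥ b.1 :=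
        congrArg Subtype.val hab
      have h4 := congrArg (fun w => ((g⁻¹ : Matrix.GeneralLinearGroup (Fin n) F) :
        Matrix (Fin n) (Fin n) F) *ᵥ w) h3
      simp only [Matrix.mulVec_mulVec] at h4
      rw [← Units.val_mul, inv_mul_cancel, Units.val_one, Matrix.one_mulVec, Matrix.one_mulVec] at h4
      exact Subtype.ext h4
    obtain ⟨w, hw⟩ := (Finite.injective_iff_surjective.1 hinj) ⟨_, hv⟩
    have h3 : (g : Matrix (Fin n) (Fin n) F) *ᵥ w.1 = (g : Matrix (Fin n) (Fin n) F) *ᵥ v :=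
      congrArg Subtype.val hw
    have h4 := congrArg (fun w => ((g⁻¹ : Matrix.GeneralLinearGroup (Fin n) F) :
      Matrix (Fin n) (Fin n) F) *ᵥ w) h3
    simp only [Matrix.mulVec_mulVec] at h4
    rw [← Units.val_mul, inv_mul_cancel, Units.val_one, Matrix.one_mulVec, Matrix.one_mulVec] at h4
    rw [← h4]
    exact w.2


/-- the stabiliser of the coordinate subspace is in bijection with the triples of blocks -/
noncomputable def blockEquiv [Finite F] (n k : ℕ) (hk : k ≤ n) :
    ↥(Cfsg.stabilizing (Cfsg.glToMat (Fin n) F) (W F n k)) ≃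
      Matrix.GeneralLinearGroup (Fin k) F × Matrix (Fin k) (Fin (n - k)) F ×
        Matrix.GeneralLinearGroup (Fin (n - k)) F := by
  classical
  have key : ∀ g : ↥(Cfsg.stabilizing (Cfsg.glToMat (Fin n) F) (W F n k)),
      (((g.1 : Matrix (Fin n) (Fin n) F).submatrix (idx n k hk) (idx n k hk)).toBlocks₁₁).det ≠ 0 ∧
      (((g.1 : Matrix (Fin n) (Fin n) F).submatrix (idx n k hk) (idx n k hk)).toBlocks₂₂).det ≠ 0 := by
    intro g
    have h0 := (mem_stab_iff n k hk g.1).1 g.2
    have h1 := Matrix.fromBlocks_toBlocks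
      ((g.1 : Matrix (Fin n) (Fin n) F).submatrix (idx n k hk) (idx n k hk))
    rw [h0] at h1
    have h2 := congrArg Matrix.det h1
    rw [Matrix.det_fromBlocks_zero₂₁, Matrix.det_submatrix_equiv_self] at h2
    have h3 : (g.1 : Matrix (Fin n) (Fin n) F).det ≠ 0 :=
      (Matrix.GeneralLinearGroup.det g.1).ne_zero
    rw [← h2] at h3
    exact ⟨left_ne_zero_of_mul h3, right_ne_zero_of_mul h3⟩
  have key2 : ∀ (A : Matrix.GeneralLinearGroup (Fin k) F) (B : Matrix (Fin k) (Fin (n - k)) F)
      (D : Matrix.GeneralLinearGroup (Fin (n - k)) F),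
      ((Matrix.fromBlocks (A : Matrix (Fin k) (Fin k) F) B 0
        (D : Matrix (Fin (n - k)) (Fin (n - k)) F)).submatrix (idx n k hk).symm
          (idx n k hk).symm).det ≠ 0 := by
    intro A B D
    rw [Matrix.det_submatrix_equiv_self, Matrix.det_fromBlocks_zero₂₁]
    exact mul_ne_zero (Matrix.GeneralLinearGroup.det A).ne_zero
      (Matrix.GeneralLinearGroup.det D).ne_zero
  refine
  { toFun := fun g =>
      (Matrix.GeneralLinearGroup.mkOfDetNeZero _ (key g).1,
        ((g.1 : Matrix (Fin n) (Fin n) F).submatrix (idx n k hk) (idx n k hk)).toBlocks₁₂,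
        Matrix.GeneralLinearGroup.mkOfDetNeZero _ (key g).2)
    invFun := fun x =>
      ⟨Matrix.GeneralLinearGroup.mkOfDetNeZero _ (key2 x.1 x.2.1 x.2.2), ?_⟩
    left_inv := ?_
    right_inv := ?_ }
  · rw [mem_stab_iff n k hk]
    ext i j
    simp [Matrix.GeneralLinearGroup.mkOfDetNeZero, Matrix.toBlocks₂₁]
  · intro g
    apply Subtype.ext
    apply Units.ext
    have h0 := (mem_stab_iff n k hk g.1).1 g.2
    have h1 := Matrix.fromBlocks_toBlocks
      ((g.1 : Matrix (Fin n) (Fin n) F).submatrix (idx n k hk) (idx n k hk))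
    rw [h0] at h1
    show (Matrix.fromBlocks _ _ 0 _).submatrix (idx n k hk).symm (idx n k hk).symm = _
    ext i j
    have := congrFun (congrFun h1 ((idx n k hk).symm i)) ((idx n k hk).symm j)
    simpa [Matrix.GeneralLinearGroup.mkOfDetNeZero] using this
  · rintro ⟨A, B, D⟩
    refine Prod.ext ?_ (Prod.ext ?_ ?_)
    · apply Units.ext
      ext i j
      simp [Matrix.GeneralLinearGroup.mkOfDetNeZero, Matrix.toBlocks₁₁]
    · ext i j
      simp [Matrix.GeneralLinearGroup.mkOfDetNeZero, Matrix.toBlocks₁₂]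
    · apply Units.ext
      ext i j
      simp [Matrix.GeneralLinearGroup.mkOfDetNeZero, Matrix.toBlocks₂₂]

end Helpers

/-- Maximal parabolic of GL_n(q): the stabiliser of the coordinate subspace spanned by the first k basis vectors has order q^(k(n-k)) · |GL_k(q)| · |GL_(n-k)(q)| (unipotent radical of order q^(k(n-k)) and Levi complement GL_k × GL_(n-k)). -/
theorem result {F : Type*} [Field F] [Fintype F] {q : ℕ} (hF : Fintype.card F = q) (n k : ℕ) (hk : k ≤ n) : Nat.card ↥(Cfsg.stabilizing (Cfsg.glToMat (Fin n) F) {v : Fin n → F | ∀ i : Fin n, k ≤ (i : ℕ) → v i = 0}) = q ^ (k * (n - k)) * (∏ i : Fin k, (q ^ k - q ^ (i : ℕ))) * ∏ i : Fin (n - k), (q ^ (n - k) - q ^ (i : ℕ)) := by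
  classical
  have e := blockEquiv (F := F) n k hk
  change Nat.card ↥(Cfsg.stabilizing (Cfsg.glToMat (Fin n) F) (W F n k)) = _
  rw [Nat.card_congr e, Nat.card_prod, Nat.card_prod, Matrix.card_GL_field, Matrix.card_GL_field, hF]
  have hB : Nat.card (Matrix (Fin k) (Fin (n - k)) F) = q ^ (k * (n - k)) := by
    unfold Matrix
    rw [Nat.card_fun, Nat.card_fun, Nat.card_eq_fintype_card, hF]
    simp only [Nat.card_eq_fintype_card, Fintype.card_fin]
    rw [← pow_mul, mul_comm]
  rw [hB]
  ring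

end Cfsg.Agent.S0771
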