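import Cfsg.Statements.S0772
import Cfsg.Agent.Lib.Helper94_Bridge
import Cfsg.Agent.Lib.Helper94_SLBridge
import Cfsg.Agent.Lib.Helper94_LinStab

set_option autoImplicit false
open Cfsg

namespace Cfsg.Agent.S0772

open Cfsg.Agent.Lib.Helper94_Symp Cfsg.Agent.Lib.Helper94_Bridge Cfsg.Agent.Lib.Helper94_SLBridge
  Cfsg.Agent.Lib.Helper94_LinStab

/-- Maximal parabolics are maximal: over a finite field, for 0 < k < n the stabiliser in GL_n of the span of the first k coordinate vectors is a maximal proper subgroup. -/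
theorem result {F : Type*} [Field F] [Finite F] (n k : ℕ) (hk0 : 0 < k) (hkn : k < n) : IsCoatom (Cfsg.stabilizing (Cfsg.glToMat (Fin n) F) {v : Fin n → F | ∀ i : Fin n, k ≤ (i : ℕ) → v i = 0}) := by
  classical
  have : Fintype F := Fintype.ofFinite F
  have hnt : Nontrivial (Fin n) := Fin.nontrivial_iff_two_le.mpr (by omega)
  let W : Submodule F (Fin n → F) :=
    { carrier := {v : Fin n → F | ∀ i : Fin n, k ≤ (i : ℕ) → v i = 0}
      add_mem' := by
        intro a b ha hb i hi
        rw [Pi.add_apply, ha i hi, hb i hi, add_zero]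
      zero_mem' := fun i _ => rfl
      smul_mem' := by
        intro c a ha i hi
        rw [Pi.smul_apply, ha i hi, smul_zero] }
  have hn0 : 0 < n := by omega
  have hW0 : W ≠ ⊥ := by
    intro h
    have hmem : (Pi.single (⟨0, hn0⟩ : Fin n) (1 : F)) ∈ W := by
      intro i hi
      have : i ≠ ⟨0, hn0⟩ := by
        intro h'
        rw [h'] at hi
        simp at hi
        omega
      rw [Pi.single_apply, if_neg this]
    rw [h, Submodule.mem_bot] at hmem
    have := congrFun hmem ⟨0, hn0⟩
    simp at this
  have hW1 : W ≠ ⊤ := by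
    intro h
    have hmem : (Pi.single (⟨k, hkn⟩ : Fin n) (1 : F)) ∈ W := by rw [h]; trivial
    have := hmem ⟨k, hkn⟩ le_rfl
    simp at this
  have hmax : Cfsg.Geo.IsMaximalIn (Cfsg.Geo.specialLinear (Fin n) F)
      (Cfsg.Geo.subspaceStabilizer W ⊓ Cfsg.Geo.specialLinear (Fin n) F) := by
    rw [subspaceStabilizer_eq, specialLinear_eq, ← Subgroup.comap_inf]
    apply isMaximalIn_comap
    exact maximal_stab_subspace W hW0 hW1 (slK (Fin n) F) transvection_mem_slK
      slK_le_of_transvections
  change IsCoatom (Cfsg.Geo.subspaceStabilizer W)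
  -- adjusting the determinant inside the stabiliser
  have hadj : ∀ g : Matrix.GeneralLinearGroup (Fin n) F, ∃ h ∈ Cfsg.Geo.subspaceStabilizer W,
      g * h ∈ Cfsg.Geo.specialLinear (Fin n) F := by
    intro g
    set c : Fˣ := (Matrix.GeneralLinearGroup.det g)⁻¹ with hc
    set w : Fin n → F := Function.update (fun _ => (1 : F)) (⟨0, hn0⟩ : Fin n) (c : F) with hw
    have hdet : (Matrix.diagonal w).det = (c : F) := by
      rw [Matrix.det_diagonal, hw, Finset.prod_update_of_mem (Finset.mem_univ _)]
      simp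
    have hdet0 : (Matrix.diagonal w).det ≠ 0 := by rw [hdet]; exact c.ne_zero
    refine ⟨Matrix.GeneralLinearGroup.mkOfDetNeZero (Matrix.diagonal w) hdet0, ?_, ?_⟩
    · intro v
      have hval : ((Matrix.GeneralLinearGroup.mkOfDetNeZero (Matrix.diagonal w) hdet0 :
          Matrix.GeneralLinearGroup (Fin n) F) : Matrix (Fin n) (Fin n) F) = Matrix.diagonal w := rfl
      change v ∈ W ↔ (Cfsg.glToMat (Fin n) F
        (Matrix.GeneralLinearGroup.mkOfDetNeZero (Matrix.diagonal w) hdet0)).mulVec v ∈ W
      have hcoe : Cfsg.glToMat (Fin n) F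
          (Matrix.GeneralLinearGroup.mkOfDetNeZero (Matrix.diagonal w) hdet0) = Matrix.diagonal w :=
        rfl
      rw [hcoe]
      have hwi : ∀ i : Fin n, k ≤ (i : ℕ) → w i = 1 := by
        intro i hi
        have : i ≠ ⟨0, hn0⟩ := by
          intro h'
          rw [h'] at hi
          simp at hi
          omega
        rw [hw, Function.update_of_ne this]
      constructor
      · intro hv i hi
        rw [Matrix.mulVec_diagonal, hv i hi, mul_zero]
      · intro hv i hi
        have := hv i hi
        rw [Matrix.mulVec_diagonal, hwi i hi, one_mul] at this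
        exact this
    · change g * _ ∈ (Matrix.GeneralLinearGroup.det : Matrix.GeneralLinearGroup (Fin n) F →* Fˣ).ker
      rw [MonoidHom.mem_ker, map_mul]
      have : Matrix.GeneralLinearGroup.det
          (Matrix.GeneralLinearGroup.mkOfDetNeZero (Matrix.diagonal w) hdet0) = c := by
        apply Units.ext
        rw [Matrix.GeneralLinearGroup.val_det_apply]
        exact hdet
      rw [this, hc, mul_inv_cancel]
  constructor
  · intro htop
    have := hmax.1
    rw [htop, top_inf_eq] at this
    exact lt_irrefl _ this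
  · intro M hlt
    obtain ⟨g, hgM, hgW⟩ := SetLike.exists_of_lt hlt
    obtain ⟨h, hhW, hgh⟩ := hadj g
    have hle : Cfsg.Geo.subspaceStabilizer W ⊓ Cfsg.Geo.specialLinear (Fin n) F ≤
        M ⊓ Cfsg.Geo.specialLinear (Fin n) F := inf_le_inf_right _ hlt.le
    rcases hmax.2 (M ⊓ Cfsg.Geo.specialLinear (Fin n) F) hle inf_le_right with h1 | h1
    · exfalso
      have hmem : g * h ∈ M ⊓ Cfsg.Geo.specialLinear (Fin n) F :=
        ⟨M.mul_mem hgM (hlt.le hhW), hgh⟩
      rw [h1] at hmem
      apply hgW
      have e : g = (g * h) * h⁻¹ := by group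
      rw [e]
      exact mul_mem hmem.1 (inv_mem hhW)
    · rw [eq_top_iff]
      intro x _
      obtain ⟨h', hh'W, hxh⟩ := hadj x
      have hSL : Cfsg.Geo.specialLinear (Fin n) F ≤ M := by
        rw [← h1]; exact inf_le_left
      have e : x = (x * h') * h'⁻¹ := by group
      rw [e]
      exact M.mul_mem (hSL hxh) (M.inv_mem (hlt.le hh'W))

end Cfsg.Agent.S0772
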