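import Cfsg.Statements.S0773

set_option autoImplicit false
open Cfsg

namespace Cfsg.Agent.S0773

open Matrix

section
variable {F : Type*} [Field F] {n : ℕ}

/-- coordinate subspace -/
def W (F : Type*) [Field F] (n k : ℕ) : Set (Fin n → F) :=
  {v | ∀ i : Fin n, k ≤ (i : ℕ) → v i = 0}

/-- lower-left block vanishes -/
def LL (k : ℕ) (M : Matrix (Fin n) (Fin n) F) : Prop :=
  ∀ i j : Fin n, k ≤ (i : ℕ) → (j : ℕ) < k → M i j = 0

theorem maps_iff (k : ℕ) (M : Matrix (Fin n) (Fin n) F) :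
    (∀ v ∈ W F n k, M *ᵥ v ∈ W F n k) ↔ LL k M := by
  constructor
  · intro h i j hi hj
    have h1 : (Pi.single j (1:F) : Fin n → F) ∈ W F n k := by
      intro a ha
      rw [Pi.single_apply, if_neg]
      rintro rfl
      omega
    have h2 := h _ h1 i hi
    rw [Matrix.mulVec_single_one] at h2
    exact h2
  · intro h v hv i hi
    simp only [Matrix.mulVec, dotProduct]
    apply Finset.sum_eq_zero
    intro j _
    by_cases hj : (j : ℕ) < k
    · rw [h i j hi hj, zero_mul]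
    · rw [hv j (not_lt.mp hj), mul_zero]

theorem mem_stab_iff (k : ℕ) (g : GL (Fin n) F) :
    g ∈ Cfsg.stabilizing (Cfsg.glToMat (Fin n) F) (W F n k) ↔
      LL k (g : Matrix (Fin n) (Fin n) F) ∧
      LL k ((g⁻¹ : GL (Fin n) F) : Matrix (Fin n) (Fin n) F) := by
  rw [← maps_iff, ← maps_iff]
  constructor
  · intro h
    refine ⟨fun v hv => (h v).mp hv, fun v hv => ?_⟩
    have h1 := h ((g⁻¹ : GL (Fin n) F).1 *ᵥ v)
    have h2 : (Cfsg.glToMat (Fin n) F) g *ᵥ ((g⁻¹ : GL (Fin n) F).1 *ᵥ v) = v := by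
      show g.1 *ᵥ ((g⁻¹ : GL (Fin n) F).1 *ᵥ v) = v
      rw [Matrix.mulVec_mulVec, ← Units.val_mul, mul_inv_cancel, Units.val_one, Matrix.one_mulVec]
    rw [h2] at h1
    exact h1.mpr hv
  · rintro ⟨h1, h2⟩ v
    refine ⟨h1 v, fun hv => ?_⟩
    have h3 := h2 _ hv
    have h4 : (g⁻¹ : GL (Fin n) F).1 *ᵥ ((Cfsg.glToMat (Fin n) F) g *ᵥ v) = v := by
      show (g⁻¹ : GL (Fin n) F).1 *ᵥ (g.1 *ᵥ v) = v
      rw [Matrix.mulVec_mulVec, ← Units.val_mul, inv_mul_cancel, Units.val_one, Matrix.one_mulVec]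
    rwa [h4] at h3

/-- transpose and reverse the indices -/
def psiMat (M : Matrix (Fin n) (Fin n) F) : Matrix (Fin n) (Fin n) F :=
  (Mᵀ).submatrix Fin.revPerm Fin.revPerm

theorem psiMat_apply (M : Matrix (Fin n) (Fin n) F) (i j : Fin n) :
    psiMat M i j = M j.rev i.rev := rfl

theorem psiMat_mul (A B : Matrix (Fin n) (Fin n) F) : psiMat (A * B) = psiMat B * psiMat A := by
  unfold psiMat
  rw [Matrix.transpose_mul, Matrix.submatrix_mul_equiv]

theorem psiMat_one : psiMat (1 : Matrix (Fin n) (Fin n) F) = 1 := by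
  unfold psiMat
  rw [Matrix.transpose_one, Matrix.submatrix_one_equiv]

theorem psiMat_psiMat (A : Matrix (Fin n) (Fin n) F) : psiMat (psiMat A) = A := by
  ext i j
  simp [psiMat_apply]

/-- inverse transpose reversed, as a hom to matrices -/
def psiHom : GL (Fin n) F →* Matrix (Fin n) (Fin n) F where
  toFun g := psiMat ((g⁻¹ : GL (Fin n) F) : Matrix (Fin n) (Fin n) F)
  map_one' := by simp [psiMat_one]
  map_mul' g h := by
    rw [_root_.mul_inv_rev, Units.val_mul, psiMat_mul]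

/-- inverse transpose reversed -/
def psi : GL (Fin n) F →* GL (Fin n) F := psiHom.toHomUnits

theorem psi_val (g : GL (Fin n) F) :
    ((psi g : GL (Fin n) F) : Matrix (Fin n) (Fin n) F) =
      psiMat ((g⁻¹ : GL (Fin n) F) : Matrix (Fin n) (Fin n) F) := by
  unfold psi
  rw [MonoidHom.coe_toHomUnits]
  rfl

theorem psi_psi (g : GL (Fin n) F) : psi (psi g) = g := by
  apply Units.ext
  rw [psi_val, ← map_inv, psi_val, psiMat_psiMat, inv_inv]

/-- as an equivalence -/
noncomputable def psiEquiv : GL (Fin n) F ≃* GL (Fin n) F :=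
  MulEquiv.ofBijective psi (Function.Involutive.bijective psi_psi)

theorem psiEquiv_apply (g : GL (Fin n) F) : psiEquiv g = psi g := rfl

theorem LL_psiMat {k : ℕ} (hk : k ≤ n) (M : Matrix (Fin n) (Fin n) F) :
    LL (n - k) (psiMat M) ↔ LL k M := by
  constructor
  · intro h a b ha hb
    have h1 := h b.rev a.rev (by rw [Fin.val_rev]; omega) (by rw [Fin.val_rev]; omega)
    rw [psiMat_apply, Fin.rev_rev, Fin.rev_rev] at h1
    exact h1
  · intro h i j hi hj
    rw [psiMat_apply]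
    have hi' := i.2
    have hj' := j.2
    exact h _ _ (by rw [Fin.val_rev]; omega) (by rw [Fin.val_rev]; omega)

theorem psi_mem_iff {k : ℕ} (hk : k ≤ n) (g : GL (Fin n) F) :
    psi g ∈ Cfsg.stabilizing (Cfsg.glToMat (Fin n) F) (W F n (n - k)) ↔
      g ∈ Cfsg.stabilizing (Cfsg.glToMat (Fin n) F) (W F n k) := by
  rw [mem_stab_iff, mem_stab_iff, ← map_inv, psi_val, psi_val, LL_psiMat hk, LL_psiMat hk, inv_inv,
    and_comm]

theorem part1 {k : ℕ} (hk : k ≤ n) :
    Nonempty (↥(Cfsg.stabilizing (Cfsg.glToMat (Fin n) F) (W F n k)) ≃*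
      ↥(Cfsg.stabilizing (Cfsg.glToMat (Fin n) F) (W F n (n - k)))) := by
  have hmap : (Cfsg.stabilizing (Cfsg.glToMat (Fin n) F) (W F n k)).map
      (psiEquiv : GL (Fin n) F ≃* GL (Fin n) F).toMonoidHom =
      Cfsg.stabilizing (Cfsg.glToMat (Fin n) F) (W F n (n - k)) := by
    ext g
    rw [Subgroup.mem_map]
    constructor
    · rintro ⟨h, hh, rfl⟩
      exact (psi_mem_iff hk h).mpr hh
    · intro hg
      refine ⟨psi g, ?_, psi_psi g⟩
      rw [← psi_mem_iff hk, psi_psi]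
      exact hg
  exact ⟨(psiEquiv.subgroupMap _).trans (MulEquiv.subgroupCongr hmap)⟩

/-! ### part 2 -/

theorem chain {A : Matrix (Fin n) (Fin n) F} {m : ℕ} (hm : 0 < m) (hA : A ^ m = 1)
    (S T : Set (Fin n → F)) (hST : S ⊆ T) (h : ∀ v ∈ T, A *ᵥ v ∈ S) : T ⊆ S := by
  intro w hw
  have h1 : ∀ j : ℕ, (A ^ j) *ᵥ w ∈ T := by
    intro j
    induction j with
    | zero => simpa using hw
    | succ j ih =>
      rw [pow_succ', ← Matrix.mulVec_mulVec]
      exact hST (h _ ih)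
  obtain ⟨j, rfl⟩ : ∃ j, m = j + 1 := ⟨m - 1, by omega⟩
  have h2 := h _ (h1 j)
  rw [Matrix.mulVec_mulVec, ← pow_succ', hA, Matrix.one_mulVec] at h2
  exact h2

/-- elementary transvection as an element of GL -/
def T (i j : Fin n) (hij : i ≠ j) : GL (Fin n) F :=
  ⟨Matrix.transvection i j 1, Matrix.transvection i j (-1),
    by rw [Matrix.transvection_mul_transvection_same i j hij]; simp,
    by rw [Matrix.transvection_mul_transvection_same i j hij]; simp⟩

theorem LL_transvection (d : ℕ) (i j : Fin n) (h : (i : ℕ) < d ∨ d ≤ (j : ℕ)) (c : F) :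
    LL d (Matrix.transvection i j c) := by
  intro a b ha hb
  have hab : a ≠ b := by
    rintro rfl
    omega
  rw [Matrix.transvection, Matrix.add_apply, Matrix.one_apply_ne hab, zero_add,
    Matrix.single_apply, if_neg]
  rintro ⟨rfl, rfl⟩
  omega

theorem T_mem (d : ℕ) (i j : Fin n) (hij : i ≠ j) (h : (i : ℕ) < d ∨ d ≤ (j : ℕ)) :
    (T i j hij : GL (Fin n) F) ∈ Cfsg.stabilizing (Cfsg.glToMat (Fin n) F) (W F n d) := by
  rw [mem_stab_iff]
  exact ⟨LL_transvection d i j h 1, LL_transvection d i j h (-1)⟩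

theorem T_mulVec (i j : Fin n) (hij : i ≠ j) (u : Fin n → F) :
    (T i j hij : GL (Fin n) F).1 *ᵥ u = u + Pi.single i (u j) := by
  show Matrix.transvection i j 1 *ᵥ u = _
  rw [Matrix.transvection, Matrix.add_mulVec, Matrix.one_mulVec, Matrix.single_mulVec, one_mul]
  rfl

/-- core of the classification of invariant subspaces -/
theorem core (d : ℕ) (U : Submodule F (Fin n → F))
    (hU : ∀ i j : Fin n, i ≠ j → ((i : ℕ) < d ∨ d ≤ (j : ℕ)) → ∀ u ∈ U, u + Pi.single i (u j) ∈ U)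
    (u : Fin n → F) (hu : u ∈ U) (j : Fin n) (huj : u j ≠ 0) (I : Fin n → Prop)
    (hI : ∀ i, I i → i ≠ j → ((i : ℕ) < d ∨ d ≤ (j : ℕ)))
    (hu0 : ∀ i, ¬ I i → u i = 0) (v : Fin n → F) (hv0 : ∀ i, ¬ I i → v i = 0) : v ∈ U := by
  have h1 : ∀ i, I i → i ≠ j → ∀ a : F, Pi.single i a ∈ U := by
    intro i hi hij a
    have h2 : Pi.single i (u j) ∈ U := by
      have h3 := U.sub_mem (hU i j hij (hI i hi hij) u hu) hu
      rwa [add_sub_cancel_left] at h3
    have h4 : (Pi.single i a : Fin n → F) = (a * (u j)⁻¹) • Pi.single i (u j) := by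
      rw [← Pi.single_smul, smul_eq_mul, mul_assoc, inv_mul_cancel₀ huj, mul_one]
    rw [h4]
    exact U.smul_mem _ h2
  have h2 : ∀ w : Fin n → F, (∀ i, ¬ I i → w i = 0) → ∀ i, i ≠ j → Pi.single i (w i) ∈ U := by
    intro w hw i hij
    by_cases hi : I i
    · exact h1 i hi hij _
    · rw [hw i hi, Pi.single_zero]
      exact U.zero_mem
  have h3 : ∀ a : F, Pi.single j a ∈ U := by
    intro a
    have h4 : Pi.single j (u j) ∈ U := by
      have h5 : Pi.single j (u j) = u - ∑ i ∈ Finset.univ.erase j, Pi.single i (u i) := by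
        rw [eq_sub_iff_add_eq,
          Finset.add_sum_erase Finset.univ (fun i => (Pi.single i (u i) : Fin n → F))
            (Finset.mem_univ j), Finset.univ_sum_single]
      rw [h5]
      refine U.sub_mem hu (U.sum_mem ?_)
      intro i hi
      exact h2 u hu0 i (Finset.ne_of_mem_erase hi)
    have h4' : (Pi.single j a : Fin n → F) = (a * (u j)⁻¹) • Pi.single j (u j) := by
      rw [← Pi.single_smul, smul_eq_mul, mul_assoc, inv_mul_cancel₀ huj, mul_one]
    rw [h4']
    exact U.smul_mem _ h4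
  rw [← Finset.univ_sum_single v]
  refine U.sum_mem ?_
  intro i _
  by_cases hij : i = j
  · rw [hij]; exact h3 _
  · exact h2 v hv0 i hij

/-- the translate of the coordinate subspace -/
def Usub (k : ℕ) (g : GL (Fin n) F) : Submodule F (Fin n → F) where
  carrier := {v | (g⁻¹ : GL (Fin n) F).1 *ᵥ v ∈ W F n k}
  add_mem' := by
    intro a b ha hb i hi
    simp only [Matrix.mulVec_add, Pi.add_apply]
    rw [ha i hi, hb i hi, add_zero]
  zero_mem' := by
    intro i hi
    simp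
  smul_mem' := by
    intro c a ha i hi
    simp only [Matrix.mulVec_smul, Pi.smul_apply]
    rw [ha i hi, smul_zero]

theorem mem_Usub (k : ℕ) (g : GL (Fin n) F) (v : Fin n → F) :
    v ∈ Usub k g ↔ (g⁻¹ : GL (Fin n) F).1 *ᵥ v ∈ W F n k := Iff.rfl

theorem inv_mulVec_mulVec (g : GL (Fin n) F) (v : Fin n → F) :
    (g⁻¹ : GL (Fin n) F).1 *ᵥ (g.1 *ᵥ v) = v := by
  rw [Matrix.mulVec_mulVec, ← Units.val_mul, inv_mul_cancel, Units.val_one, Matrix.one_mulVec]

theorem mulVec_inv_mulVec (g : GL (Fin n) F) (v : Fin n → F) :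
    g.1 *ᵥ ((g⁻¹ : GL (Fin n) F).1 *ᵥ v) = v := by
  rw [Matrix.mulVec_mulVec, ← Units.val_mul, mul_inv_cancel, Units.val_one, Matrix.one_mulVec]

theorem single_mem_W {k : ℕ} (i : Fin n) (hi : (i : ℕ) < k) : (Pi.single i (1 : F)) ∈ W F n k := by
  intro a ha
  rw [Pi.single_apply, if_neg]
  rintro rfl
  omega

theorem single_not_mem_W {k : ℕ} (i : Fin n) (hi : k ≤ (i : ℕ)) :
    (Pi.single i (1 : F)) ∉ W F n k := by
  intro h
  have := h i hi
  simp at this

theorem W_mono {k l : ℕ} (h : k ≤ l) : W F n k ⊆ W F n l := by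
  intro v hv i hi
  exact hv i (le_trans h hi)

theorem part2 [Finite F] {k : ℕ} (hk0 : 0 < k) (hkn : k < n) (h2 : 2 * k ≠ n)
    (g : GL (Fin n) F) :
    (Cfsg.stabilizing (Cfsg.glToMat (Fin n) F) (W F n k)).map (MulAut.conj g).toMonoidHom ≠
      Cfsg.stabilizing (Cfsg.glToMat (Fin n) F) (W F n (n - k)) := by
  intro heq
  set d := n - k with hd
  -- invariance
  have hinv : ∀ h ∈ Cfsg.stabilizing (Cfsg.glToMat (Fin n) F) (W F n d), ∀ u ∈ Usub k g,
      h.1 *ᵥ u ∈ Usub k g := by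
    intro h hh u hu
    rw [← heq, Subgroup.mem_map] at hh
    obtain ⟨h', hh', rfl⟩ := hh
    rw [mem_Usub] at hu ⊢
    have h1 : ((MulAut.conj g).toMonoidHom h' : GL (Fin n) F) = g * h' * g⁻¹ := rfl
    rw [h1, Units.val_mul, Units.val_mul, ← Matrix.mulVec_mulVec, ← Matrix.mulVec_mulVec,
      inv_mulVec_mulVec]
    exact (hh' _).mp hu
  have hU : ∀ i j : Fin n, i ≠ j → ((i : ℕ) < d ∨ d ≤ (j : ℕ)) → ∀ u ∈ Usub k g,
      u + Pi.single i (u j) ∈ Usub k g := by
    intro i j hij h u hu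
    rw [← T_mulVec i j hij]
    exact hinv _ (T_mem d i j hij h) u hu
  have hm : 0 < orderOf g := orderOf_pos g
  by_cases hA : ∃ u ∈ Usub k g, ∃ j : Fin n, d ≤ (j : ℕ) ∧ u j ≠ 0
  · obtain ⟨u, hu, j, hj, huj⟩ := hA
    have htop : ∀ v, v ∈ Usub k g := fun v =>
      core d _ hU u hu j huj (fun _ => True) (fun i _ _ => Or.inr hj)
        (fun i hi => absurd trivial hi) v (fun i hi => absurd trivial hi)
    have h3 := htop (g.1 *ᵥ Pi.single ⟨k, hkn⟩ 1)
    rw [mem_Usub, inv_mulVec_mulVec] at h3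
    exact single_not_mem_W ⟨k, hkn⟩ le_rfl h3
  · push Not at hA
    by_cases hB : ∃ u ∈ Usub k g, u ≠ 0
    · obtain ⟨u, hu, hu0⟩ := hB
      obtain ⟨j, huj⟩ : ∃ j, u j ≠ 0 := by
        by_contra hcon
        push Not at hcon
        exact hu0 (funext hcon)
      have hjd : (j : ℕ) < d := by
        by_contra hcon
        exact huj (hA u hu j (not_lt.mp hcon))
      have hsup : ∀ v ∈ W F n d, v ∈ Usub k g := fun v hv =>
        core d _ hU u hu j huj (fun i => (i : ℕ) < d) (fun i hi _ => Or.inl hi)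
          (fun i hi => hA u hu i (not_lt.mp hi)) v (fun i hi => hv i (not_lt.mp hi))
      have hsub : ∀ v ∈ Usub k g, v ∈ W F n d := fun v hv i hi => hA v hv i hi
      rcases lt_or_gt_of_ne (show k ≠ d by omega) with hlt | hgt
      · -- k < n - k
        have hpow : ((g⁻¹ : GL (Fin n) F).1) ^ orderOf g = 1 := by
          rw [← Units.val_pow_eq_pow_val, inv_pow, pow_orderOf_eq_one, inv_one, Units.val_one]
        have h3 := chain hm hpow (W F n k) (W F n d) (W_mono hlt.le)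
          (fun v hv => (mem_Usub k g v).mp (hsup v hv))
        exact single_not_mem_W ⟨k, hkn⟩ le_rfl (h3 (single_mem_W ⟨k, hkn⟩ hlt))
      · have hpow : (g.1) ^ orderOf g = 1 := by
          rw [← Units.val_pow_eq_pow_val, pow_orderOf_eq_one, Units.val_one]
        have h3 := chain hm hpow (W F n d) (W F n k) (W_mono hgt.le)
          (fun v hv => hsub _ (by rw [mem_Usub, inv_mulVec_mulVec]; exact hv))
        have hdn : d < n := by omega
        exact single_not_mem_W ⟨d, hdn⟩ le_rfl (h3 (single_mem_W ⟨d, hdn⟩ hgt))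
    · push Not at hB
      have hn0 : 0 < n := by omega
      have h3 : g.1 *ᵥ Pi.single ⟨0, hn0⟩ 1 ∈ Usub k g := by
        rw [mem_Usub, inv_mulVec_mulVec]
        exact single_mem_W _ hk0
      have h4 := hB _ h3
      have h5 : (Pi.single ⟨0, hn0⟩ 1 : Fin n → F) = 0 := by
        rw [← inv_mulVec_mulVec g (Pi.single ⟨0, hn0⟩ 1), h4, Matrix.mulVec_zero]
      have h6 := congrFun h5 ⟨0, hn0⟩
      simp at h6

end

/-- The stabilisers in GL_n(F), F finite, of the coordinate subspaces of dimensions k and n − k are isomorphic groups, but when 2k ≠ n (and 0 < k < n) no element of GL_n conjugates one onto the other. -/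
theorem result {F : Type*} [Field F] [Finite F] (n k : ℕ) (hk0 : 0 < k) (hkn : k < n) (h2 : 2 * k ≠ n) : Nonempty (↥(Cfsg.stabilizing (Cfsg.glToMat (Fin n) F) {v : Fin n → F | ∀ i : Fin n, k ≤ (i : ℕ) → v i = 0}) ≃* ↥(Cfsg.stabilizing (Cfsg.glToMat (Fin n) F) {v : Fin n → F | ∀ i : Fin n, n - k ≤ (i : ℕ) → v i = 0})) ∧ ∀ g : Matrix.GeneralLinearGroup (Fin n) F, (Cfsg.stabilizing (Cfsg.glToMat (Fin n) F) {v : Fin n → F | ∀ i : Fin n, k ≤ (i : ℕ) → v i = 0}).map (MulAut.conj g).toMonoidHom ≠ Cfsg.stabilizing (Cfsg.glToMat (Fin n) F) {v : Fin n → F | ∀ i : Fin n, n - k ≤ (i : ℕ) → v i = 0} := by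
  exact ⟨part1 hkn.le, fun g => part2 hk0 hkn h2 g⟩

end Cfsg.Agent.S0773
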