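import Cfsg.Statements.S0774
import Cfsg.Agent.Lib.Helper40_BlockTri

set_option autoImplicit false
set_option linter.unusedSectionVars false
open Cfsg

namespace Cfsg.Agent.S0774

open Matrix

section
variable {F : Type*} [Field F] {m : ℕ}

/-- the members of the flag -/
def Sk (F : Type*) [Field F] (m : ℕ) (k : Fin m) : Set (Fin m ⊕ Fin m → F) :=
  {v | (∀ i : Fin m, (k : ℕ) < (i : ℕ) → v (Sum.inl i) = 0) ∧ ∀ i : Fin m, v (Sum.inr i) = 0}

/-- the Borel subgroup -/
abbrev Bor (F : Type*) [Field F] (m : ℕ) : Subgroup (Matrix.symplecticGroup (Fin m) F) :=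
  ⨅ k : Fin m, Cfsg.stabilizing (Cfsg.spToMat m F) (Sk F m k)

theorem mem_Bor_iff (g : Matrix.symplecticGroup (Fin m) F) :
    g ∈ Bor F m ↔ ∀ k : Fin m, ∀ v, v ∈ Sk F m k ↔ g.1 *ᵥ v ∈ Sk F m k := by
  rw [Subgroup.mem_iInf]
  rfl

theorem upper_maps (A : Matrix (Fin m) (Fin m) F) (hA : A.BlockTriangular id) (k : Fin m)
    (x : Fin m → F) (hx : ∀ i : Fin m, (k : ℕ) < (i : ℕ) → x i = 0) :
    ∀ i : Fin m, (k : ℕ) < (i : ℕ) → (A *ᵥ x) i = 0 := by
  intro i hi
  simp only [Matrix.mulVec, dotProduct]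
  apply Finset.sum_eq_zero
  intro j _
  by_cases hj : (k : ℕ) < (j : ℕ)
  · rw [hx j hj, mul_zero]
  · have hji : j < i := by
      rw [Fin.lt_def]
      omega
    rw [hA hji, zero_mul]

/-- the parametrisation -/
noncomputable def param (A S : Matrix (Fin m) (Fin m) F) : Matrix (Fin m ⊕ Fin m) (Fin m ⊕ Fin m) F :=
  Matrix.fromBlocks A (A * S) 0 (A⁻¹)ᵀ

theorem param_mem_sp (A S : Matrix (Fin m) (Fin m) F) (hA : IsUnit A.det) (hS : S.IsSymm) :
    param A S ∈ Matrix.symplecticGroup (Fin m) F := by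
  unfold param
  rw [SymplecticGroup.fromBlocks_mem_iff]
  refine ⟨by simp, ?_, ?_⟩
  · rw [Matrix.transpose_transpose, Matrix.transpose_mul, hS.eq, Matrix.mul_assoc,
      Matrix.transpose_nonsing_inv, Matrix.mul_nonsing_inv _ (by rwa [Matrix.det_transpose]),
      Matrix.mul_one, ← Matrix.mul_assoc, Matrix.nonsing_inv_mul _ hA, Matrix.one_mul]
  · rw [Matrix.transpose_zero, Matrix.zero_mul, sub_zero, Matrix.transpose_nonsing_inv,
      Matrix.mul_nonsing_inv _ (by rwa [Matrix.det_transpose])]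

theorem param_mulVec (A S : Matrix (Fin m) (Fin m) F) (v : Fin m ⊕ Fin m → F) :
    param A S *ᵥ v = Sum.elim (A *ᵥ (v ∘ Sum.inl) + (A * S) *ᵥ (v ∘ Sum.inr))
      ((A⁻¹)ᵀ *ᵥ (v ∘ Sum.inr)) := by
  unfold param
  rw [Matrix.fromBlocks_mulVec, Matrix.zero_mulVec, zero_add]

theorem param_mem_Bor (A S : Matrix (Fin m) (Fin m) F) (hAt : A.BlockTriangular id)
    (hA : IsUnit A.det) (hS : S.IsSymm) :
    (⟨param A S, param_mem_sp A S hA hS⟩ : Matrix.symplecticGroup (Fin m) F) ∈ Bor F m := by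
  rw [mem_Bor_iff]
  intro k v
  show v ∈ Sk F m k ↔ param A S *ᵥ v ∈ Sk F m k
  rw [param_mulVec]
  have hinv : Invertible A := Matrix.invertibleOfIsUnitDet A hA
  have hAit : (A⁻¹).BlockTriangular id := Matrix.blockTriangular_inv_of_blockTriangular hAt
  constructor
  · rintro ⟨h1, h2⟩
    have hr : v ∘ Sum.inr = 0 := funext h2
    refine ⟨fun i hi => ?_, fun i => ?_⟩
    · simp only [Sum.elim_inl, hr, Matrix.mulVec_zero, add_zero]
      exact upper_maps A hAt k _ h1 i hi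
    · simp only [Sum.elim_inr, hr, Matrix.mulVec_zero, Pi.zero_apply]
  · rintro ⟨h1, h2⟩
    simp only [Sum.elim_inl, Sum.elim_inr] at h1 h2
    have hr : v ∘ Sum.inr = 0 := by
      have h3 : (A⁻¹)ᵀ *ᵥ (v ∘ Sum.inr) = 0 := funext h2
      have h4 : Aᵀ *ᵥ ((A⁻¹)ᵀ *ᵥ (v ∘ Sum.inr)) = v ∘ Sum.inr := by
        rw [Matrix.mulVec_mulVec, ← Matrix.transpose_mul, Matrix.nonsing_inv_mul _ hA,
          Matrix.transpose_one, Matrix.one_mulVec]
      rw [← h4, h3, Matrix.mulVec_zero]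
    refine ⟨fun i hi => ?_, fun i => congrFun hr i⟩
    rw [hr, Matrix.mulVec_zero, add_zero] at h1
    have h5 : A⁻¹ *ᵥ (A *ᵥ (v ∘ Sum.inl)) = v ∘ Sum.inl := by
      rw [Matrix.mulVec_mulVec, Matrix.nonsing_inv_mul _ hA, Matrix.one_mulVec]
    have h6 := upper_maps A⁻¹ hAit k _ h1 i hi
    rw [h5] at h6
    exact h6

/-- structure of the elements of the Borel subgroup -/
theorem borel_struct (g : Matrix.symplecticGroup (Fin m) F) (hg : g ∈ Bor F m) :
    g.1.toBlocks₂₁ = 0 ∧ g.1.toBlocks₁₁.BlockTriangular id ∧ IsUnit g.1.toBlocks₁₁.det ∧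
      g.1.toBlocks₂₂ = (g.1.toBlocks₁₁⁻¹)ᵀ ∧
      (g.1.toBlocks₁₁⁻¹ * g.1.toBlocks₁₂).IsSymm := by
  rw [mem_Bor_iff] at hg
  have hC : g.1.toBlocks₂₁ = 0 := by
    ext i j
    have hm : 0 < m := i.pos
    have h1 : (Pi.single (Sum.inl j) (1 : F) : Fin m ⊕ Fin m → F) ∈ Sk F m ⟨m - 1, by omega⟩ := by
      refine ⟨fun i' hi' => ?_, fun i' => ?_⟩
      · exfalso
        have := i'.2
        simp only at hi'
        omega
      · simp
    have h2 := ((hg ⟨m - 1, by omega⟩ _).mp h1).2 i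
    rw [Matrix.mulVec_single_one] at h2
    exact h2
  have hAt : g.1.toBlocks₁₁.BlockTriangular id := by
    intro i j hji
    have h1 : (Pi.single (Sum.inl j) (1 : F) : Fin m ⊕ Fin m → F) ∈ Sk F m j := by
      refine ⟨fun i' hi' => ?_, fun i' => ?_⟩
      · rw [Pi.single_apply, if_neg]
        intro h
        have := Sum.inl_injective h
        rw [this] at hi'
        exact lt_irrefl _ hi'
      · simp
    have h2 := ((hg j _).mp h1).1 i (by simpa using hji)
    rw [Matrix.mulVec_single_one] at h2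
    exact h2
  have hblocks : g.1 = Matrix.fromBlocks g.1.toBlocks₁₁ g.1.toBlocks₁₂ 0 g.1.toBlocks₂₂ := by
    conv_lhs => rw [← Matrix.fromBlocks_toBlocks g.1, hC]
  have hsp := g.2
  rw [hblocks, SymplecticGroup.fromBlocks_mem_iff] at hsp
  obtain ⟨-, hBD, hAD⟩ := hsp
  rw [Matrix.transpose_zero, Matrix.zero_mul, sub_zero] at hAD
  have hdet : IsUnit g.1.toBlocks₁₁.det := by
    have h1 := congrArg Matrix.det hAD
    rw [Matrix.det_mul, Matrix.det_transpose, Matrix.det_one] at h1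
    exact IsUnit.of_mul_eq_one _ h1
  have hD : g.1.toBlocks₂₂ = (g.1.toBlocks₁₁⁻¹)ᵀ := by
    rw [Matrix.transpose_nonsing_inv]
    exact (Matrix.inv_eq_right_inv hAD).symm
  refine ⟨hC, hAt, hdet, hD, ?_⟩
  unfold Matrix.IsSymm
  rw [Matrix.transpose_mul, ← hD, hBD, hD, Matrix.transpose_transpose]

/-- the Borel subgroup is parametrised by an invertible upper triangular matrix and a symmetric
matrix -/
noncomputable def borEquiv : ↥(Bor F m) ≃
    {A : Matrix (Fin m) (Fin m) F // A.BlockTriangular id ∧ A.det ≠ 0} ×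
      {S : Matrix (Fin m) (Fin m) F // S.IsSymm} where
  toFun g := (⟨g.1.1.toBlocks₁₁, (borel_struct g.1 g.2).2.1, (borel_struct g.1 g.2).2.2.1.ne_zero⟩,
    ⟨g.1.1.toBlocks₁₁⁻¹ * g.1.1.toBlocks₁₂, (borel_struct g.1 g.2).2.2.2.2⟩)
  invFun X := ⟨⟨param X.1.1 X.2.1, param_mem_sp X.1.1 X.2.1 (isUnit_iff_ne_zero.mpr X.1.2.2) X.2.2⟩,
    param_mem_Bor X.1.1 X.2.1 X.1.2.1 (isUnit_iff_ne_zero.mpr X.1.2.2) X.2.2⟩
  left_inv := by
    rintro ⟨g, hg⟩
    obtain ⟨hC, hAt, hdet, hD, hS⟩ := borel_struct g hg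
    apply Subtype.ext
    apply Subtype.ext
    show param g.1.toBlocks₁₁ (g.1.toBlocks₁₁⁻¹ * g.1.toBlocks₁₂) = g.1
    unfold param
    rw [← Matrix.mul_assoc, Matrix.mul_nonsing_inv _ hdet, Matrix.one_mul, ← hD, ← hC,
      Matrix.fromBlocks_toBlocks]
  right_inv := by
    rintro ⟨⟨A, hAt, hA⟩, ⟨S, hS⟩⟩
    have hu : IsUnit A.det := isUnit_iff_ne_zero.mpr hA
    apply Prod.ext
    · apply Subtype.ext
      show (param A S).toBlocks₁₁ = A
      unfold param
      rw [Matrix.toBlocks_fromBlocks₁₁]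
    · apply Subtype.ext
      show (param A S).toBlocks₁₁⁻¹ * (param A S).toBlocks₁₂ = S
      unfold param
      rw [Matrix.toBlocks_fromBlocks₁₁, Matrix.toBlocks_fromBlocks₁₂, ← Matrix.mul_assoc,
        Matrix.nonsing_inv_mul _ hu, Matrix.one_mul]

/-- symmetric matrices are determined by their upper triangular part -/
def symmEquiv : {S : Matrix (Fin m) (Fin m) F // S.IsSymm} ≃
    ({p : Fin m × Fin m // p.1 ≤ p.2} → F) where
  toFun S p := S.1 p.1.1 p.1.2
  invFun f := ⟨Matrix.of fun i j => if h : i ≤ j then f ⟨(i, j), h⟩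
      else f ⟨(j, i), le_of_lt (not_le.mp h)⟩, by
    ext i j
    simp only [Matrix.transpose_apply, Matrix.of_apply]
    by_cases h1 : i ≤ j
    · by_cases h2 : j ≤ i
      · have : i = j := le_antisymm h1 h2
        subst this
        rfl
      · rw [dif_pos h1, dif_neg h2]
    · have h2 : j ≤ i := le_of_lt (not_le.mp h1)
      rw [dif_neg h1, dif_pos h2]⟩
  left_inv := by
    rintro ⟨S, hS⟩
    apply Subtype.ext
    ext i j
    simp only [Matrix.of_apply]
    by_cases h : i ≤ j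
    · rw [dif_pos h]
    · rw [dif_neg h]
      exact hS.apply i j
  right_inv := by
    intro f
    funext ⟨⟨i, j⟩, h⟩
    simp only [Matrix.of_apply]
    rw [dif_pos h]

theorem card_lt_add_card_le (m : ℕ) :
    Fintype.card {p : Fin m × Fin m // id p.1 < id p.2} +
      Fintype.card {p : Fin m × Fin m // p.1 ≤ p.2} = m * m := by
  have h1 : Fintype.card {p : Fin m × Fin m // p.1 ≤ p.2} =
      Fintype.card {p : Fin m × Fin m // ¬ (p.2 < p.1)} :=
    Fintype.card_congr (Equiv.subtypeEquivRight fun p => not_lt.symm)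
  have h2 : Fintype.card {p : Fin m × Fin m // id p.1 < id p.2} =
      Fintype.card {p : Fin m × Fin m // p.2 < p.1} :=
    Fintype.card_congr ((Equiv.prodComm (Fin m) (Fin m)).subtypeEquiv fun p => Iff.rfl)
  rw [h1, h2, Fintype.card_subtype_compl]
  have h3 : Fintype.card {p : Fin m × Fin m // p.2 < p.1} ≤ Fintype.card (Fin m × Fin m) :=
    Fintype.card_subtype_le _
  rw [Fintype.card_prod, Fintype.card_fin] at h3 ⊢
  omega

theorem prod_glCard_one (q m : ℕ) :
    (∏ a : Fin m, Cfsg.Agent.Lib.Helper40_BlockTri.glCard q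
      (Fintype.card {i : Fin m // id i = a})) = (q - 1) ^ m := by
  have h : ∀ a : Fin m, Cfsg.Agent.Lib.Helper40_BlockTri.glCard q
      (Fintype.card {i : Fin m // id i = a}) = q - 1 := by
    intro a
    have h1 : Fintype.card {i : Fin m // id i = a} = 1 := by
      simp
    rw [h1]
    unfold Cfsg.Agent.Lib.Helper40_BlockTri.glCard
    simp
  rw [Finset.prod_congr rfl (fun a _ => h a), Finset.prod_const, Finset.card_univ,
    Fintype.card_fin]

theorem card_Bor [Fintype F] : Nat.card ↥(Bor F m) =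
    Fintype.card F ^ (m ^ 2) * (Fintype.card F - 1) ^ m := by
  classical
  rw [Nat.card_congr borEquiv, Nat.card_prod,
    Cfsg.Agent.Lib.Helper40_BlockTri.card_btInv (F := F) (id : Fin m → Fin m),
    Nat.card_congr symmEquiv, Nat.card_fun, Nat.card_eq_fintype_card (α := F),
    Nat.card_eq_fintype_card (α := {p : Fin m × Fin m // p.1 ≤ p.2}), prod_glCard_one,
    mul_comm ((Fintype.card F - 1) ^ m), mul_assoc, mul_comm ((Fintype.card F - 1) ^ m),
    ← mul_assoc, ← pow_add, card_lt_add_card_le, sq]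

end

theorem result {F : Type*} [Field F] [Fintype F] {q : ℕ} (hF : Fintype.card F = q) (m : ℕ) : Nat.card ↥(⨅ k : Fin m, Cfsg.stabilizing (Cfsg.spToMat m F) {v : Fin m ⊕ Fin m → F | (∀ i : Fin m, (k : ℕ) < (i : ℕ) → v (Sum.inl i) = 0) ∧ ∀ i : Fin m, v (Sum.inr i) = 0}) = q ^ (m ^ 2) * (q - 1) ^ m := by
  subst hF
  exact card_Bor

end Cfsg.Agent.S0774
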