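import Cfsg.Statements.S0776
import Cfsg.Agent.Lib.Helper13_SpBlock
import Cfsg.Agent.Lib.Helper13_Symp
import Cfsg.Agent.Lib.Helper94_Bridge
import Cfsg.Agent.S0752

set_option autoImplicit false
set_option linter.unusedSectionVars false
open Cfsg

namespace Cfsg.Agent.S0776

open Matrix Module Cfsg.Agent.Lib.Helper13_Blocks Cfsg.Agent.Lib.Helper13_SpBlock
  Cfsg.Agent.Lib.Helper13_Symp Cfsg.Agent.Lib.Helper94_Bridge

section
variable {F : Type*} [Field F]

theorem exists_symp_pairs (m d : ℕ) (U : Submodule F (Fin m ⊕ Fin m → F))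
    (hU : finrank F U = 2 * d)
    (hnd : ∀ u ∈ U, (∀ v ∈ U, Cfsg.sympForm m F u v = 0) → u = 0) :
    ∃ e f : Fin d → (Fin m ⊕ Fin m → F), (∀ i, e i ∈ U) ∧ (∀ i, f i ∈ U) ∧
      (∀ i j, Cfsg.sympForm m F (e i) (f j) = if i = j then 1 else 0) ∧
      (∀ i j, Cfsg.sympForm m F (e i) (e j) = 0) ∧ (∀ i j, Cfsg.sympForm m F (f i) (f j) = 0) := by
  set B : LinearMap.BilinForm F U := (Bsymp m F).restrict U with hB
  have hBapply : ∀ u v : U, B u v = Cfsg.sympForm m F (u : Fin m ⊕ Fin m → F) v := by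
    intro u v
    rw [hB, LinearMap.BilinForm.restrict_apply]
    exact Bsymp_apply (F := F) m _ _
  have hA : B.IsAlt := by
    intro u
    rw [hBapply]
    exact sympForm_self (m := m) (u : Fin m ⊕ Fin m → F)
  obtain ⟨m', k', b, h1, h2, h3, h4⟩ := Cfsg.Agent.S0752.result B hA
  have hk' : k' = 0 := by
    by_contra hne
    let j : Fin k' := ⟨0, Nat.pos_of_ne_zero hne⟩
    have h5 : b (Sum.inr j) = 0 := by
      apply Subtype.ext
      apply hnd _ (b (Sum.inr j)).2
      intro v hv
      have := h4 j ⟨v, hv⟩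
      rwa [hBapply] at this
    exact b.ne_zero _ h5
  subst hk'
  have hcard : finrank F U = Fintype.card ((Fin m' ⊕ Fin m') ⊕ Fin 0) :=
    Module.finrank_eq_card_basis b
  simp only [Fintype.card_sum, Fintype.card_fin, add_zero] at hcard
  have hmd : m' = d := by omega
  subst hmd
  refine ⟨fun i => (b (Sum.inl (Sum.inl i)) : Fin m ⊕ Fin m → F),
    fun i => (b (Sum.inl (Sum.inr i)) : Fin m ⊕ Fin m → F),
    fun i => (b _).2, fun i => (b _).2, ?_, ?_, ?_⟩
  · intro i j
    rw [← hBapply, h1]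
  · intro i j
    rw [← hBapply, h2]
  · intro i j
    rw [← hBapply, h3]

theorem sympForm_single_inr (m : ℕ) (a : Fin m) (v : Fin m ⊕ Fin m → F) :
    Cfsg.sympForm m F (Pi.single (Sum.inr a) 1) v = v (Sum.inl a) := by
  unfold Cfsg.sympForm
  rw [single_one_dotProduct, J_mulVec_inr]

theorem sympForm_single_inl (m : ℕ) (a : Fin m) (v : Fin m ⊕ Fin m → F) :
    Cfsg.sympForm m F (Pi.single (Sum.inl a) 1) v = - v (Sum.inr a) := by
  unfold Cfsg.sympForm
  rw [single_one_dotProduct, J_mulVec_inl]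

theorem transpose_J_mul_apply (m : ℕ) (M : Matrix (Fin m ⊕ Fin m) (Fin m ⊕ Fin m) F)
    (a b : Fin m ⊕ Fin m) :
    (Mᵀ * Matrix.J (Fin m) F * M) a b = Cfsg.sympForm m F (M.col a) (M.col b) := by
  unfold Cfsg.sympForm
  simp only [Matrix.mul_apply, dotProduct, Matrix.mulVec, Matrix.transpose_apply, Matrix.col_apply,
    Finset.sum_mul, Finset.mul_sum]
  rw [Finset.sum_comm]
  apply Finset.sum_congr rfl
  intro i _
  apply Finset.sum_congr rfl
  intro j _
  ring


/-- adapted symplectic matrix: maps the coordinate subspace `W0` onto `W` -/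
theorem exists_adapted (k l : ℕ) (W : Submodule F (Fin (k + l) ⊕ Fin (k + l) → F))
    (hWk : finrank F W = 2 * k)
    (hW : ∀ u ∈ W, (∀ v ∈ W, Cfsg.sympForm (k + l) F u v = 0) → u = 0) :
    ∃ P : Matrix (Fin (k + l) ⊕ Fin (k + l)) (Fin (k + l) ⊕ Fin (k + l)) F,
      P ∈ Matrix.symplecticGroup (Fin (k + l)) F ∧ ∀ v, v ∈ W0 F k l ↔ P *ᵥ v ∈ W := by
  have hswap0 : ∀ u v : Fin (k + l) ⊕ Fin (k + l) → F, Cfsg.sympForm (k + l) F u v = 0 →
      Cfsg.sympForm (k + l) F v u = 0 := by
    intro u v h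
    rw [sympForm_swap, h, neg_zero]
  obtain ⟨e, f, heW, hfW, hef, hee, hff⟩ := exists_symp_pairs (k + l) k W hWk hW
  -- the orthogonal complement
  set Wp : Submodule F (Fin (k + l) ⊕ Fin (k + l) → F) :=
    (Bsymp (k + l) F).orthogonal W with hWpdef
  have hWp : ∀ u, u ∈ Wp ↔ ∀ w ∈ W, Cfsg.sympForm (k + l) F w u = 0 := by
    intro u
    rw [hWpdef, LinearMap.BilinForm.mem_orthogonal_iff]
    constructor
    · intro h w hw
      have := h w hw
      rw [Bsymp_apply] at this
      exact this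
    · intro h w hw
      rw [Bsymp_apply]
      exact h w hw
  have hrefl : (Bsymp (k + l) F).IsRefl := (Bsymp_isAlt (F := F) (k + l)).isRefl
  have hcompl : IsCompl W Wp := by
    rw [hWpdef, LinearMap.BilinForm.isCompl_orthogonal_iff_disjoint hrefl, ← hWpdef,
      Submodule.disjoint_def]
    intro u hu1 hu2
    exact hW u hu1 (fun v hv => hswap0 _ _ ((hWp u).mp hu2 v hv))
  have hWpl : finrank F Wp = 2 * l := by
    have h1 := Submodule.finrank_add_eq_of_isCompl hcompl
    rw [hWk, Module.finrank_fintype_fun_eq_card] at h1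
    simp only [Fintype.card_sum, Fintype.card_fin] at h1
    omega
  have hWp' : ∀ u ∈ Wp, (∀ v ∈ Wp, Cfsg.sympForm (k + l) F u v = 0) → u = 0 := by
    intro u hu h
    apply (Bsymp_nondegenerate (F := F) (k + l)).1
    intro x
    rw [Bsymp_apply]
    have hx : x ∈ W ⊔ Wp := by rw [hcompl.sup_eq_top]; trivial
    obtain ⟨w, hw, w', hw', rfl⟩ := Submodule.mem_sup.mp hx
    rw [sympForm_add_right, h w' hw', add_zero]
    exact hswap0 _ _ ((hWp u).mp hu w hw)
  obtain ⟨e', f', heW', hfW', hef', hee', hff'⟩ := exists_symp_pairs (k + l) l Wp hWpl hWp'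
  have hcross : ∀ w ∈ W, ∀ u ∈ Wp, Cfsg.sympForm (k + l) F w u = 0 ∧
      Cfsg.sympForm (k + l) F u w = 0 := by
    intro w hw u hu
    have h1 := (hWp u).mp hu w hw
    exact ⟨h1, hswap0 _ _ h1⟩
  -- combined families
  set eA : Fin (k + l) → (Fin (k + l) ⊕ Fin (k + l) → F) := Fin.append e e' with heA
  set fA : Fin (k + l) → (Fin (k + l) ⊕ Fin (k + l) → F) := Fin.append f f' with hfA
  have heAL : ∀ i, eA (Fin.castAdd l i) = e i := fun i => Fin.append_left _ _ i
  have heAR : ∀ j, eA (Fin.natAdd k j) = e' j := fun j => Fin.append_right _ _ j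
  have hfAL : ∀ i, fA (Fin.castAdd l i) = f i := fun i => Fin.append_left _ _ i
  have hfAR : ∀ j, fA (Fin.natAdd k j) = f' j := fun j => Fin.append_right _ _ j
  have hLR := castAdd_ne_natAdd k l
  have hefA : ∀ a b, Cfsg.sympForm (k + l) F (eA a) (fA b) = if a = b then 1 else 0 := by
    intro a b
    induction a using Fin.addCases with
    | left i =>
      induction b using Fin.addCases with
      | left i' =>
        rw [heAL, hfAL, hef]
        simp only [(Fin.castAdd_injective k l).eq_iff]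
      | right j' =>
        rw [heAL, hfAR, if_neg (hLR i j')]
        exact (hcross _ (heW i) _ (hfW' j')).1
    | right j =>
      induction b using Fin.addCases with
      | left i' =>
        rw [heAR, hfAL, if_neg (Ne.symm (hLR i' j))]
        exact (hcross _ (hfW i') _ (heW' j)).2
      | right j' =>
        rw [heAR, hfAR, hef']
        simp only [(Fin.natAdd_injective l k).eq_iff]
  have heeA : ∀ a b, Cfsg.sympForm (k + l) F (eA a) (eA b) = 0 := by
    intro a b
    induction a using Fin.addCases with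
    | left i =>
      induction b using Fin.addCases with
      | left i' => rw [heAL, heAL, hee]
      | right j' => rw [heAL, heAR]; exact (hcross _ (heW i) _ (heW' j')).1
    | right j =>
      induction b using Fin.addCases with
      | left i' => rw [heAR, heAL]; exact (hcross _ (heW i') _ (heW' j)).2
      | right j' => rw [heAR, heAR, hee']
  have hffA : ∀ a b, Cfsg.sympForm (k + l) F (fA a) (fA b) = 0 := by
    intro a b
    induction a using Fin.addCases with
    | left i =>
      induction b using Fin.addCases with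
      | left i' => rw [hfAL, hfAL, hff]
      | right j' => rw [hfAL, hfAR]; exact (hcross _ (hfW i) _ (hfW' j')).1
    | right j =>
      induction b using Fin.addCases with
      | left i' => rw [hfAR, hfAL]; exact (hcross _ (hfW i') _ (hfW' j)).2
      | right j' => rw [hfAR, hfAR, hff']
  set cols : Fin (k + l) ⊕ Fin (k + l) → (Fin (k + l) ⊕ Fin (k + l) → F) :=
    Sum.elim fA eA with hcols
  set P : Matrix (Fin (k + l) ⊕ Fin (k + l)) (Fin (k + l) ⊕ Fin (k + l)) F :=
    Matrix.of (fun i a => cols a i) with hP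
  have hPcol : ∀ a, P.col a = cols a := fun a => rfl
  have hPmem : P ∈ Matrix.symplecticGroup (Fin (k + l)) F := by
    rw [SymplecticGroup.mem_iff']
    ext a b
    rw [transpose_J_mul_apply, hPcol, hPcol]
    rcases a with a | a <;> rcases b with b | b
    · simp only [hcols, Sum.elim_inl, hffA, Matrix.J, Matrix.fromBlocks_apply₁₁, Matrix.zero_apply]
    · simp only [hcols, Sum.elim_inl, Sum.elim_inr, Matrix.J, Matrix.fromBlocks_apply₁₂,
        Matrix.neg_apply, Matrix.one_apply]
      rw [sympForm_swap, hefA]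
      by_cases hab : a = b
      · rw [if_pos hab, if_pos hab.symm]
      · rw [if_neg hab, if_neg (Ne.symm hab)]
    · simp only [hcols, Sum.elim_inl, Sum.elim_inr, Matrix.J, Matrix.fromBlocks_apply₂₁,
        Matrix.one_apply, hefA]
    · simp only [hcols, Sum.elim_inr, heeA, Matrix.J, Matrix.fromBlocks_apply₂₂, Matrix.zero_apply]
  have hPv : ∀ v : Fin (k + l) ⊕ Fin (k + l) → F, P *ᵥ v = ∑ a, v a • cols a := by
    intro v
    funext i
    simp only [Matrix.mulVec, dotProduct, hP, Matrix.of_apply, Finset.sum_apply, Pi.smul_apply,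
      smul_eq_mul]
    apply Finset.sum_congr rfl
    intro a _
    ring
  have hPpres := fun u v => sympForm_mulVec_mulVec_of_mem (k + l) hPmem u v
  refine ⟨P, hPmem, fun v => ⟨fun hv => ?_, fun hv => ?_⟩⟩
  · have hv1 : ∀ j : Fin l, v (Sum.inl (Fin.natAdd k j)) = 0 := by
      intro j
      have := hv (Sum.inl j)
      rwa [eSp_inr_inl] at this
    have hv2 : ∀ j : Fin l, v (Sum.inr (Fin.natAdd k j)) = 0 := by
      intro j
      have := hv (Sum.inr j)
      rwa [eSp_inr_inr] at this
    rw [hPv, Fintype.sum_sum_type, Fin.sum_univ_add, Fin.sum_univ_add]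
    simp only [hcols, Sum.elim_inl, Sum.elim_inr, hv1, hv2, zero_smul, Finset.sum_const_zero,
      add_zero, heAL, hfAL]
    exact W.add_mem (W.sum_mem (fun i _ => W.smul_mem _ (hfW i)))
      (W.sum_mem (fun i _ => W.smul_mem _ (heW i)))
  · intro y
    rcases y with j | j
    · rw [eSp_inr_inl]
      have h1 := sympForm_single_inr (F := F) (k + l) (Fin.natAdd k j) v
      rw [← hPpres, Matrix.mulVec_single_one, hPcol] at h1
      simp only [hcols, Sum.elim_inr, heAR] at h1
      rw [(hcross _ hv _ (heW' j)).2] at h1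
      exact h1.symm
    · rw [eSp_inr_inr]
      have h1 := sympForm_single_inl (F := F) (k + l) (Fin.natAdd k j) v
      rw [← hPpres, Matrix.mulVec_single_one, hPcol] at h1
      simp only [hcols, Sum.elim_inl, hfAR] at h1
      rw [(hcross _ hv _ (hfW' j)).2] at h1
      exact neg_eq_zero.mp h1.symm


theorem main (k l : ℕ) (W : Submodule F (Fin (k + l) ⊕ Fin (k + l) → F))
    (hWk : finrank F W = 2 * k)
    (hW : ∀ u ∈ W, (∀ v ∈ W, Cfsg.sympForm (k + l) F u v = 0) → u = 0) :
    Nonempty (↥(Cfsg.stabilizing (Cfsg.spToMat (k + l) F)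
      (W : Set (Fin (k + l) ⊕ Fin (k + l) → F))) ≃*
      Matrix.symplecticGroup (Fin k) F × Matrix.symplecticGroup (Fin l) F) := by
  obtain ⟨P, hPmem, hPW⟩ := exists_adapted k l W hWk hW
  let Pg : Matrix.symplecticGroup (Fin (k + l)) F := ⟨P, hPmem⟩
  let Φ : Matrix.symplecticGroup (Fin k) F × Matrix.symplecticGroup (Fin l) F →*
      Matrix.symplecticGroup (Fin (k + l)) F :=
    (MulAut.conj Pg).toMonoidHom.comp blkSp
  have hΦ : ∀ x, Φ x = Pg * blkSp x * Pg⁻¹ := fun x => rfl
  have hinj : Function.Injective Φ := (MulAut.conj Pg).injective.comp blkSp_injective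
  have hPP : P * (Pg⁻¹).1 = 1 := by
    have h2 := congrArg Subtype.val (mul_inv_cancel Pg)
    exact h2
  have hPinvW : ∀ w ∈ W, (Pg⁻¹).1 *ᵥ w ∈ W0 F k l := by
    intro w hw
    rw [hPW, Matrix.mulVec_mulVec, hPP, Matrix.one_mulVec]
    exact hw
  have hmaps : ∀ x, ∀ w ∈ W, (Φ x).1 *ᵥ w ∈ W := by
    intro x w hw
    rw [hΦ]
    have h1 : (Pg * blkSp x * Pg⁻¹).1 = P * (blkSp x).1 * (Pg⁻¹).1 := rfl
    rw [h1, ← Matrix.mulVec_mulVec, ← Matrix.mulVec_mulVec]
    exact (hPW _).mp (blkSp_maps x _ (hPinvW w hw))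
  have hrange : Φ.range = Cfsg.stabilizing (Cfsg.spToMat (k + l) F)
      (W : Set (Fin (k + l) ⊕ Fin (k + l) → F)) := by
    ext x
    rw [MonoidHom.mem_range]
    constructor
    · rintro ⟨y, rfl⟩
      intro v
      apply iff_of_maps (Cfsg.spToMat (k + l) F) (W : Set (Fin (k + l) ⊕ Fin (k + l) → F))
      · exact hmaps y
      · have h1 : (Φ y)⁻¹ = Φ y⁻¹ := by rw [map_inv]
        rw [h1]
        exact hmaps y⁻¹
    · intro hx
      have hg : ∀ v ∈ W0 F k l, (Pg⁻¹ * x * Pg).1 *ᵥ v ∈ W0 F k l := by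
        intro v hv
        have h1 : (Pg⁻¹ * x * Pg).1 = (Pg⁻¹).1 * x.1 * P := rfl
        rw [h1, ← Matrix.mulVec_mulVec, ← Matrix.mulVec_mulVec]
        apply hPinvW
        exact (hx _).mp ((hPW v).mp hv)
      obtain ⟨y, hy⟩ := exists_blkSp_eq (Pg⁻¹ * x * Pg) hg
      refine ⟨y, ?_⟩
      rw [hΦ, hy]
      group
  exact ⟨((MonoidHom.ofInjective hinj).trans (MulEquiv.subgroupCongr hrange)).symm⟩

end

/-- If W ≤ F^(2m) is a 2k-dimensional subspace on which the symplectic form is non-degenerate, then the stabiliser of W in Sp_2m(F) is isomorphic to Sp_2k(F) × Sp_(2m−2k)(F). -/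
theorem result {F : Type*} [Field F] (m k : ℕ) (hk : k ≤ m) (W : Submodule F (Fin m ⊕ Fin m → F)) (hWk : Module.finrank F W = 2 * k) (hW : ∀ u ∈ W, (∀ v ∈ W, Cfsg.sympForm m F u v = 0) → u = 0) : Nonempty (↥(Cfsg.stabilizing (Cfsg.spToMat m F) (W : Set (Fin m ⊕ Fin m → F))) ≃* Matrix.symplecticGroup (Fin k) F × Matrix.symplecticGroup (Fin (m - k)) F) := by
  obtain ⟨l, rfl⟩ := Nat.exists_eq_add_of_le hk
  have h1 : k + l - k = l := by omega
  rw [h1]
  exact main k l W hWk hW

end Cfsg.Agent.S0776
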