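import Cfsg.Statements.S0777
import Cfsg.Agent.Lib.Helper13_Symp

set_option autoImplicit false
open Cfsg

namespace Cfsg.Agent.S0777

open Matrix

section
variable {F : Type*} [Field F] {m : ℕ}

/-- the partner involution -/
def tau (m : ℕ) : Equiv.Perm (Fin m ⊕ Fin m) := Equiv.sumComm (Fin m) (Fin m)

/-- the sign of the symplectic form on a basis vector and its partner -/
def sg (F : Type*) [Field F] (m : ℕ) : Fin m ⊕ Fin m → F := Sum.elim (fun _ => -1) (fun _ => 1)

theorem tau_tau (i : Fin m ⊕ Fin m) : tau m (tau m i) = i := by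
  rcases i with a | a <;> rfl

theorem tau_ne (i : Fin m ⊕ Fin m) : tau m i ≠ i := by
  rcases i with a | a <;> simp [tau]

theorem sg_tau (i : Fin m ⊕ Fin m) : sg F m (tau m i) = - sg F m i := by
  rcases i with a | a <;> simp [tau, sg]

theorem sg_mul_self (i : Fin m ⊕ Fin m) : sg F m i * sg F m i = 1 := by
  rcases i with a | a <;> simp [sg]

theorem sg_ne_zero (i : Fin m ⊕ Fin m) : sg F m i ≠ 0 := by
  rcases i with a | a <;> simp [sg]

theorem J_apply (i l : Fin m ⊕ Fin m) :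
    Matrix.J (Fin m) F i l = if l = tau m i then sg F m i else 0 := by
  rcases i with a | a <;> rcases l with b | b <;>
    simp [Matrix.J, tau, sg, Matrix.one_apply, eq_comm] ; split_ifs <;> simp

/-- monomial matrices -/
def mono (σ : Equiv.Perm (Fin m ⊕ Fin m)) (d : Fin m ⊕ Fin m → F) :
    Matrix (Fin m ⊕ Fin m) (Fin m ⊕ Fin m) F :=
  Matrix.of fun i j => if i = σ j then d j else 0

theorem mono_mulVec_single (σ : Equiv.Perm (Fin m ⊕ Fin m)) (d : Fin m ⊕ Fin m → F)
    (j : Fin m ⊕ Fin m) :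
    mono σ d *ᵥ Pi.single j 1 = d j • Pi.single (σ j) 1 := by
  rw [Matrix.mulVec_single_one]
  funext i
  simp [mono, Pi.single_apply]

theorem mono_mulVec (σ : Equiv.Perm (Fin m ⊕ Fin m)) (d : Fin m ⊕ Fin m → F)
    (v : Fin m ⊕ Fin m → F) (j : Fin m ⊕ Fin m) :
    (mono σ d *ᵥ v) (σ j) = d j * v j := by
  simp only [Matrix.mulVec, dotProduct, mono, Matrix.of_apply]
  rw [Finset.sum_eq_single j]
  · simp
  · intro b _ hb
    rw [if_neg, zero_mul]
    intro h
    exact hb (σ.injective h).symm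
  · simp

theorem mono_sandwich (σ : Equiv.Perm (Fin m ⊕ Fin m)) (d : Fin m ⊕ Fin m → F)
    (j k : Fin m ⊕ Fin m) :
    ((mono σ d)ᵀ * Matrix.J (Fin m) F * mono σ d) j k =
      d j * d k * Matrix.J (Fin m) F (σ j) (σ k) := by
  simp only [Matrix.mul_apply, Matrix.transpose_apply, mono, Matrix.of_apply, ite_mul, zero_mul,
    mul_ite, mul_zero, Finset.sum_ite_eq', Finset.mem_univ, if_true]
  ring

theorem mono_mem_iff (σ : Equiv.Perm (Fin m ⊕ Fin m)) (d : Fin m ⊕ Fin m → F) :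
    mono σ d ∈ Matrix.symplecticGroup (Fin m) F ↔
      ∀ j k, d j * d k * Matrix.J (Fin m) F (σ j) (σ k) = Matrix.J (Fin m) F j k := by
  rw [SymplecticGroup.mem_iff']
  constructor
  · intro h j k
    rw [← mono_sandwich, h]
  · intro h
    ext j k
    rw [mono_sandwich, h]

/-- the coordinate axes -/
def Lax (F : Type*) [Field F] (m : ℕ) (i : Fin m ⊕ Fin m) : Set (Fin m ⊕ Fin m → F) :=
  ((Submodule.span F {(Pi.single i (1 : F) : Fin m ⊕ Fin m → F)} :
    Submodule F (Fin m ⊕ Fin m → F)) : Set (Fin m ⊕ Fin m → F))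

theorem mem_Lax_iff (i : Fin m ⊕ Fin m) (v : Fin m ⊕ Fin m → F) :
    v ∈ Lax F m i ↔ ∃ c : F, c • (Pi.single i (1 : F) : Fin m ⊕ Fin m → F) = v := by
  unfold Lax
  rw [SetLike.mem_coe, Submodule.mem_span_singleton]

/-- the torus -/
abbrev Tor (F : Type*) [Field F] (m : ℕ) : Subgroup (Matrix.symplecticGroup (Fin m) F) :=
  ⨅ i : Fin m ⊕ Fin m, Cfsg.stabilizing (Cfsg.spToMat m F) (Lax F m i)

/-- `g` maps the axis `j` onto the axis `σ j` -/
def MapsAxes (g : Matrix.symplecticGroup (Fin m) F) (σ : Equiv.Perm (Fin m ⊕ Fin m)) : Prop :=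
  ∀ j v, v ∈ Lax F m j ↔ g.1 *ᵥ v ∈ Lax F m (σ j)

theorem mem_Tor_iff (g : Matrix.symplecticGroup (Fin m) F) : g ∈ Tor F m ↔ MapsAxes g 1 := by
  rw [Subgroup.mem_iInf]
  rfl

theorem MapsAxes.mul {g h : Matrix.symplecticGroup (Fin m) F} {σ ρ : Equiv.Perm (Fin m ⊕ Fin m)}
    (hg : MapsAxes g σ) (hh : MapsAxes h ρ) : MapsAxes (g * h) (σ * ρ) := by
  intro j v
  rw [hh j v, hg (ρ j) (h.1 *ᵥ v), Matrix.mulVec_mulVec]
  rfl

theorem coe_mul_inv (g : Matrix.symplecticGroup (Fin m) F) : g.1 * g⁻¹.1 = 1 := by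
  have : (g * g⁻¹ : Matrix.symplecticGroup (Fin m) F).1 = 1 := by
    rw [mul_inv_cancel]
    rfl
  exact this

theorem coe_inv_mul (g : Matrix.symplecticGroup (Fin m) F) : g⁻¹.1 * g.1 = 1 := by
  have : (g⁻¹ * g : Matrix.symplecticGroup (Fin m) F).1 = 1 := by
    rw [inv_mul_cancel]
    rfl
  exact this

theorem MapsAxes.inv {g : Matrix.symplecticGroup (Fin m) F} {σ : Equiv.Perm (Fin m ⊕ Fin m)}
    (hg : MapsAxes g σ) : MapsAxes g⁻¹ σ⁻¹ := by
  intro j v
  have := hg (σ⁻¹ j) (g⁻¹.1 *ᵥ v)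
  rw [Equiv.Perm.coe_inv, Equiv.apply_symm_apply, Matrix.mulVec_mulVec, coe_mul_inv, Matrix.one_mulVec] at this
  exact this.symm

theorem mem_normalizer_of_mapsAxes {g : Matrix.symplecticGroup (Fin m) F}
    {σ : Equiv.Perm (Fin m ⊕ Fin m)} (hg : MapsAxes g σ) :
    g ∈ Subgroup.normalizer (Tor F m : Set (Matrix.symplecticGroup (Fin m) F)) := by
  rw [Subgroup.mem_normalizer_iff]
  intro h
  rw [mem_Tor_iff, mem_Tor_iff]
  constructor
  · intro hh
    have := (hg.mul hh).mul hg.inv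
    simpa using this
  · intro hh
    have := (hg.inv.mul hh).mul hg
    have e : g⁻¹ * (g * h * g⁻¹) * g = h := by group
    rw [e] at this
    simpa using this

theorem mono_d_ne_zero (σ : Equiv.Perm (Fin m ⊕ Fin m)) (d : Fin m ⊕ Fin m → F)
    (h : mono σ d ∈ Matrix.symplecticGroup (Fin m) F) (j : Fin m ⊕ Fin m) : d j ≠ 0 := by
  rw [mono_mem_iff] at h
  have h1 := h j (tau m j)
  intro h0
  rw [h0, zero_mul, zero_mul, J_apply, if_pos rfl] at h1
  exact sg_ne_zero j h1.symm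

theorem mono_mapsAxes (σ : Equiv.Perm (Fin m ⊕ Fin m)) (d : Fin m ⊕ Fin m → F)
    (h : mono σ d ∈ Matrix.symplecticGroup (Fin m) F) :
    MapsAxes (⟨mono σ d, h⟩ : Matrix.symplecticGroup (Fin m) F) σ := by
  intro j v
  show v ∈ Lax F m j ↔ mono σ d *ᵥ v ∈ Lax F m (σ j)
  rw [mem_Lax_iff, mem_Lax_iff]
  constructor
  · rintro ⟨c, rfl⟩
    refine ⟨c * d j, ?_⟩
    rw [Matrix.mulVec_smul, mono_mulVec_single, smul_smul]
  · rintro ⟨c, hc⟩
    refine ⟨v j, ?_⟩
    funext k
    have h1 := congrFun hc (σ k)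
    rw [mono_mulVec] at h1
    simp only [Pi.smul_apply, Pi.single_apply, smul_eq_mul]
    by_cases hk : k = j
    · subst hk
      simp
    · rw [if_neg hk, mul_zero]
      simp only [Pi.smul_apply, Pi.single_apply, smul_eq_mul] at h1
      rw [if_neg (fun h' => hk (σ.injective h')), mul_zero] at h1
      exact ((mul_eq_zero.mp h1.symm).resolve_left (mono_d_ne_zero σ d h k)).symm

theorem exists_good_unit [Fintype F] (hq : 4 ≤ Fintype.card F) :
    ∃ a : F, a ≠ 0 ∧ a ≠ 1 ∧ a * a ≠ 1 := by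
  classical
  by_contra hcon
  push Not at hcon
  have h1 : (Finset.univ : Finset F) ⊆ {0, 1, -1} := by
    intro a _
    simp only [Finset.mem_insert, Finset.mem_singleton]
    by_cases h0 : a = 0
    · exact Or.inl h0
    by_cases h1 : a = 1
    · exact Or.inr (Or.inl h1)
    have h2 := hcon a h0 h1
    have h3 : (a - 1) * (a + 1) = 0 := by ring_nf; rw [← h2]; ring
    rcases mul_eq_zero.mp h3 with h4 | h4
    · exact absurd (sub_eq_zero.mp h4) h1
    · exact Or.inr (Or.inr (eq_neg_of_add_eq_zero_left h4))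
  have h2 := Finset.card_le_card h1
  have h3 : ({0, 1, -1} : Finset F).card ≤ 3 := Finset.card_le_three
  rw [Finset.card_univ] at h2
  omega

/-- the diagonal entries of the special torus elements -/
def dvec (i : Fin m ⊕ Fin m) (a : F) : Fin m ⊕ Fin m → F :=
  fun l => if l = i then a else if l = tau m i then a⁻¹ else 1

theorem dvec_mem (i : Fin m ⊕ Fin m) (a : F) (ha : a ≠ 0) :
    mono 1 (dvec i a) ∈ Matrix.symplecticGroup (Fin m) F := by
  rw [mono_mem_iff]
  intro j k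
  simp only [Equiv.Perm.coe_one, id_eq]
  rw [J_apply]
  by_cases hk : k = tau m j
  · subst hk
    rw [if_pos rfl]
    have : dvec i a j * dvec i a (tau m j) = 1 := by
      unfold dvec
      by_cases h1 : j = i
      · subst h1
        rw [if_pos rfl, if_neg (tau_ne j), if_pos rfl, mul_inv_cancel₀ ha]
      · rw [if_neg h1]
        by_cases h2 : j = tau m i
        · subst h2
          rw [if_pos rfl, tau_tau, if_pos rfl, inv_mul_cancel₀ ha]
        · rw [if_neg h2, if_neg, if_neg, one_mul]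
          · intro h3
            exact h1 ((tau m).injective h3)
          · intro h3
            apply h2
            rw [← h3, tau_tau]
    rw [this, one_mul]
  · rw [if_neg hk, mul_zero]

theorem dvec_mem_Tor (i : Fin m ⊕ Fin m) (a : F) (ha : a ≠ 0) :
    (⟨mono 1 (dvec i a), dvec_mem i a ha⟩ : Matrix.symplecticGroup (Fin m) F) ∈ Tor F m := by
  rw [mem_Tor_iff]
  exact mono_mapsAxes 1 _ _

theorem column_of_mem_normalizer [Fintype F] (hq : 4 ≤ Fintype.card F)
    (g : Matrix.symplecticGroup (Fin m) F)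
    (hg : g ∈ Subgroup.normalizer (Tor F m : Set (Matrix.symplecticGroup (Fin m) F)))
    (j : Fin m ⊕ Fin m) :
    ∃ (i : Fin m ⊕ Fin m) (c : F), c ≠ 0 ∧
      g.1 *ᵥ (Pi.single j 1 : Fin m ⊕ Fin m → F) = c • (Pi.single i 1 : Fin m ⊕ Fin m → F) := by
  obtain ⟨a, ha0, ha1, haa⟩ := exists_good_unit hq
  set w : Fin m ⊕ Fin m → F := g.1 *ᵥ Pi.single j 1 with hw
  have heig : ∀ t ∈ Tor F m, ∃ lam : F, t.1 *ᵥ w = lam • w := by
    intro t ht
    have h1 : g⁻¹ * t * g ∈ Tor F m := by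
      rw [Subgroup.mem_normalizer_iff] at hg
      rw [hg (g⁻¹ * t * g)]
      have e : g * (g⁻¹ * t * g) * g⁻¹ = t := by group
      rw [e]
      exact ht
    rw [mem_Tor_iff] at h1
    have h2 := (h1 j (Pi.single j 1)).mp ((mem_Lax_iff j _).mpr ⟨1, one_smul _ _⟩)
    rw [Equiv.Perm.one_apply, mem_Lax_iff] at h2
    obtain ⟨lam, hlam⟩ := h2
    refine ⟨lam, ?_⟩
    have h3 : (g⁻¹ * t * g).1 = g⁻¹.1 * t.1 * g.1 := rfl
    rw [h3] at hlam
    have h4 : g.1 *ᵥ ((g⁻¹.1 * t.1 * g.1) *ᵥ Pi.single j 1) = g.1 *ᵥ (lam • Pi.single j 1) := by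
      rw [hlam]
    rw [Matrix.mulVec_mulVec, ← Matrix.mul_assoc, ← Matrix.mul_assoc, coe_mul_inv, Matrix.one_mul,
      ← Matrix.mulVec_mulVec, Matrix.mulVec_smul] at h4
    exact h4
  have hw0 : w ≠ 0 := by
    intro h0
    have h1 : g⁻¹.1 *ᵥ w = Pi.single j 1 := by
      rw [hw, Matrix.mulVec_mulVec, coe_inv_mul, Matrix.one_mulVec]
    rw [h0, Matrix.mulVec_zero] at h1
    have h2 := congrFun h1 j
    simp at h2
  obtain ⟨i, hi⟩ : ∃ i, w i ≠ 0 := by
    by_contra hcon
    push Not at hcon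
    exact hw0 (funext hcon)
  refine ⟨i, w i, hi, ?_⟩
  funext l
  simp only [Pi.smul_apply, Pi.single_apply, smul_eq_mul]
  by_cases hl : l = i
  · subst hl
    simp
  · rw [if_neg hl, mul_zero]
    by_contra hwl
    obtain ⟨lam, hlam⟩ := heig _ (dvec_mem_Tor i a ha0)
    have hmv : ∀ l', ((mono 1 (dvec i a)) *ᵥ w) l' = dvec i a l' * w l' :=
      fun l' => mono_mulVec 1 _ w l'
    have h1 := congrFun hlam i
    have h2 := congrFun hlam l
    change (mono 1 (dvec i a) *ᵥ w) i = _ at h1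
    change (mono 1 (dvec i a) *ᵥ w) l = _ at h2
    rw [hmv] at h1 h2
    simp only [Pi.smul_apply, smul_eq_mul] at h1 h2
    have h3 : dvec i a i = lam := mul_right_cancel₀ hi h1
    have h4 : dvec i a l = lam := mul_right_cancel₀ hwl h2
    unfold dvec at h3 h4
    rw [if_pos rfl] at h3
    rw [if_neg hl] at h4
    by_cases h5 : l = tau m i
    · rw [if_pos h5, ← h3] at h4
      apply haa
      nth_rewrite 1 [← h4]
      exact inv_mul_cancel₀ ha0
    · rw [if_neg h5, ← h3] at h4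
      exact ha1 h4.symm

theorem single_smul_eq_iff (j k : Fin m ⊕ Fin m) (a b : F) (hb : b ≠ 0)
    (h : a • (Pi.single j 1 : Fin m ⊕ Fin m → F) = b • (Pi.single k 1 : Fin m ⊕ Fin m → F)) :
    j = k := by
  have h1 := congrFun h k
  simp only [Pi.smul_apply, Pi.single_apply, smul_eq_mul, if_true, mul_one] at h1
  by_contra hjk
  rw [if_neg (fun h' => hjk h'.symm), mul_zero] at h1
  exact hb h1.symm

theorem normalizer_struct [Fintype F] (hq : 4 ≤ Fintype.card F)
    (g : Matrix.symplecticGroup (Fin m) F)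
    (hg : g ∈ Subgroup.normalizer (Tor F m : Set (Matrix.symplecticGroup (Fin m) F))) :
    ∃ (σ : Equiv.Perm (Fin m ⊕ Fin m)) (d : Fin m ⊕ Fin m → F), g.1 = mono σ d := by
  choose σ0 d hd0 hcol using column_of_mem_normalizer hq g hg
  have hinj : Function.Injective σ0 := by
    intro j k hjk
    have h1 : g.1 *ᵥ (d k • (Pi.single j 1 : Fin m ⊕ Fin m → F)) =
        g.1 *ᵥ (d j • (Pi.single k 1 : Fin m ⊕ Fin m → F)) := by
      rw [Matrix.mulVec_smul, Matrix.mulVec_smul, hcol, hcol, hjk, smul_smul, smul_smul, mul_comm]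
    have h2 : d k • (Pi.single j 1 : Fin m ⊕ Fin m → F) =
        d j • (Pi.single k 1 : Fin m ⊕ Fin m → F) := by
      have h3 := congrArg (fun x => g⁻¹.1 *ᵥ x) h1
      simp only [Matrix.mulVec_mulVec, coe_inv_mul, Matrix.one_mulVec] at h3
      exact h3
    exact single_smul_eq_iff j k _ _ (hd0 j) h2
  refine ⟨Equiv.ofBijective σ0 (Finite.injective_iff_bijective.mp hinj), d, ?_⟩
  ext i j
  have h1 := congrFun (hcol j) i
  rw [Matrix.mulVec_single_one] at h1
  simp only [Matrix.col_apply, Pi.smul_apply, Pi.single_apply, smul_eq_mul] at h1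
  rw [h1]
  simp [mono]

theorem mono_sp_struct (σ : Equiv.Perm (Fin m ⊕ Fin m)) (d : Fin m ⊕ Fin m → F)
    (h : mono σ d ∈ Matrix.symplecticGroup (Fin m) F) :
    (∀ j, σ (tau m j) = tau m (σ j)) ∧
      ∀ j, d j * d (tau m j) * sg F m (σ j) = sg F m j := by
  rw [mono_mem_iff] at h
  have key : ∀ j, σ (tau m j) = tau m (σ j) ∧ d j * d (tau m j) * sg F m (σ j) = sg F m j := by
    intro j
    have h1 := h j (tau m j)
    rw [J_apply, J_apply, if_pos rfl] at h1
    by_cases h2 : σ (tau m j) = tau m (σ j)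
    · rw [if_pos h2] at h1
      exact ⟨h2, h1⟩
    · rw [if_neg h2, mul_zero] at h1
      exact absurd h1.symm (sg_ne_zero j)
  exact ⟨fun j => (key j).1, fun j => (key j).2⟩

theorem mono_mem_of (σ : Equiv.Perm (Fin m ⊕ Fin m)) (d : Fin m ⊕ Fin m → F)
    (hσ : ∀ j, σ (tau m j) = tau m (σ j))
    (hd : ∀ j, d j * d (tau m j) * sg F m (σ j) = sg F m j) :
    mono σ d ∈ Matrix.symplecticGroup (Fin m) F := by
  rw [mono_mem_iff]
  intro j k
  rw [J_apply, J_apply]
  by_cases hk : k = tau m j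
  · subst hk
    rw [if_pos (hσ j), if_pos rfl]
    exact hd j
  · rw [if_neg hk, if_neg, mul_zero]
    intro h1
    rw [← hσ j] at h1
    exact hk (σ.injective h1)

/-- the diagonal data attached to the parameters -/
def dd (σ : Equiv.Perm (Fin m ⊕ Fin m)) (c : Fin m → Fˣ) : Fin m ⊕ Fin m → F :=
  Sum.elim (fun i => (c i : F)) (fun i => - sg F m (σ (Sum.inl i)) * ((c i)⁻¹ : Fˣ))

theorem dd_spec (σ : Equiv.Perm (Fin m ⊕ Fin m)) (c : Fin m → Fˣ)
    (hσ : ∀ j, σ (tau m j) = tau m (σ j)) (j : Fin m ⊕ Fin m) :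
    dd σ c j * dd σ c (tau m j) * sg F m (σ j) = sg F m j := by
  rcases j with i | i
  · show (c i : F) * (- sg F m (σ (Sum.inl i)) * ((c i)⁻¹ : Fˣ)) * sg F m (σ (Sum.inl i)) = -1
    have h1 : (c i : F) * ((c i)⁻¹ : Fˣ) = 1 := by
      rw [← Units.val_mul, mul_inv_cancel, Units.val_one]
    have h2 := sg_mul_self (F := F) (σ (Sum.inl i))
    linear_combination (- sg F m (σ (Sum.inl i)) * sg F m (σ (Sum.inl i))) * h1 - h2
  · show (- sg F m (σ (Sum.inl i)) * ((c i)⁻¹ : Fˣ)) * (c i : F) * sg F m (σ (Sum.inr i)) = 1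
    have h0 : σ (Sum.inr i) = tau m (σ (Sum.inl i)) := hσ (Sum.inl i)
    rw [h0, sg_tau]
    have h1 : (c i : F) * ((c i)⁻¹ : Fˣ) = 1 := by
      rw [← Units.val_mul, mul_inv_cancel, Units.val_one]
    have h2 := sg_mul_self (F := F) (σ (Sum.inl i))
    linear_combination (sg F m (σ (Sum.inl i)) * sg F m (σ (Sum.inl i))) * h1 + h2

/-- the parametrisation of the normaliser -/
def Phi (x : {σ : Equiv.Perm (Fin m ⊕ Fin m) // ∀ j, σ (tau m j) = tau m (σ j)} × (Fin m → Fˣ)) :
    Matrix.symplecticGroup (Fin m) F :=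
  ⟨mono x.1.1 (dd x.1.1 x.2), mono_mem_of _ _ x.1.2 (dd_spec x.1.1 x.2 x.1.2)⟩

theorem mono_inj (σ σ' : Equiv.Perm (Fin m ⊕ Fin m)) (d d' : Fin m ⊕ Fin m → F)
    (hd : ∀ j, d j ≠ 0) (h : mono σ d = mono σ' d') : σ = σ' ∧ d = d' := by
  have key : ∀ j, σ j = σ' j ∧ d j = d' j := by
    intro j
    have h1 := congrFun (congrFun h (σ j)) j
    simp only [mono, Matrix.of_apply, if_true] at h1
    by_cases h2 : σ j = σ' j
    · rw [if_pos h2] at h1
      exact ⟨h2, h1⟩
    · rw [if_neg h2] at h1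
      exact absurd h1 (hd j)
  exact ⟨Equiv.ext fun j => (key j).1, funext fun j => (key j).2⟩

theorem Phi_injective : Function.Injective (Phi (F := F) (m := m)) := by
  rintro ⟨⟨σ, hσ⟩, c⟩ ⟨⟨σ', hσ'⟩, c'⟩ h
  have h1 : mono σ (dd σ c) = mono σ' (dd σ' c') := congrArg Subtype.val h
  have h2 := mono_inj σ σ' _ _
    (mono_d_ne_zero σ _ (mono_mem_of _ _ hσ (dd_spec σ c hσ))) h1
  obtain ⟨h3, h4⟩ := h2
  subst h3
  have h5 : c = c' := by
    funext i
    apply Units.ext
    exact congrFun h4 (Sum.inl i)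
  subst h5
  rfl

theorem range_Phi [Fintype F] (hq : 4 ≤ Fintype.card F) :
    Set.range (Phi (F := F) (m := m)) =
      (Subgroup.normalizer (Tor F m : Set (Matrix.symplecticGroup (Fin m) F)) :
        Set (Matrix.symplecticGroup (Fin m) F)) := by
  ext g
  constructor
  · rintro ⟨x, rfl⟩
    exact mem_normalizer_of_mapsAxes (mono_mapsAxes _ _ _)
  · intro hg
    obtain ⟨σ, d, hgd⟩ := normalizer_struct hq g hg
    have hmem : mono σ d ∈ Matrix.symplecticGroup (Fin m) F := hgd ▸ g.2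
    obtain ⟨hσ, hd⟩ := mono_sp_struct σ d hmem
    have hd0 := mono_d_ne_zero σ d hmem
    refine ⟨(⟨σ, hσ⟩, fun i => Units.mk0 (d (Sum.inl i)) (hd0 _)), ?_⟩
    apply Subtype.ext
    show mono σ (dd σ fun i => Units.mk0 (d (Sum.inl i)) (hd0 _)) = g.1
    rw [hgd]
    congr 1
    funext j
    rcases j with i | i
    · rfl
    · show - sg F m (σ (Sum.inl i)) * ((Units.mk0 (d (Sum.inl i)) (hd0 _))⁻¹ : Fˣ) = d (Sum.inr i)
      have h1 := hd (Sum.inl i)
      have h2 : tau m (Sum.inl i) = Sum.inr i := rfl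
      rw [h2] at h1
      have h3 : sg F m (Sum.inl i) = -1 := rfl
      rw [h3] at h1
      rw [Units.val_inv_eq_inv_val, Units.val_mk0]
      have h4 := sg_mul_self (F := F) (σ (Sum.inl i))
      rw [neg_mul, ← div_eq_mul_inv, ← neg_div, div_eq_iff (hd0 _)]
      linear_combination (- sg F m (σ (Sum.inl i))) * h1 + (d (Sum.inl i) * d (Sum.inr i)) * h4

theorem tau_sq : tau m ^ 2 = 1 := by
  ext i
  rw [sq, Equiv.Perm.mul_apply, tau_tau, Equiv.Perm.one_apply]

theorem tau_support : (tau m).support = Finset.univ := by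
  ext i
  simp [tau_ne]

theorem tau_cycleType : (tau m).cycleType = Multiset.replicate m 2 := by
  have : Fact (Nat.Prime 2) := ⟨Nat.prime_two⟩
  have h1 := Equiv.Perm.cycleType_of_pow_prime_eq_one (tau_sq (m := m))
  have h2 := Equiv.Perm.sum_cycleType (tau m)
  rw [tau_support, Finset.card_univ, Fintype.card_sum, Fintype.card_fin] at h2
  have h3 : (Multiset.replicate (Multiset.card (tau m).cycleType) 2).sum = m + m := by
    rw [← h1]
    exact h2
  rw [Multiset.sum_replicate, smul_eq_mul] at h3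
  have h4 : Multiset.card (tau m).cycleType = m := by omega
  rw [h4] at h1
  exact h1

theorem card_centralizer_tau :
    Nat.card (Subgroup.centralizer {tau m}) = 2 ^ m * m.factorial := by
  rw [Equiv.Perm.nat_card_centralizer, tau_cycleType, Multiset.sum_replicate,
    Multiset.prod_replicate, Fintype.card_sum, Fintype.card_fin, smul_eq_mul]
  have h0 : m + m - m * 2 = 0 := by omega
  rw [h0, Nat.factorial_zero, one_mul]
  congr 1
  rw [Multiset.toFinset_replicate]
  split_ifs with h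
  · subst h
    simp
  · rw [Finset.prod_singleton, Multiset.count_replicate_self]

theorem card_commuting :
    Nat.card {σ : Equiv.Perm (Fin m ⊕ Fin m) // ∀ j, σ (tau m j) = tau m (σ j)} =
      2 ^ m * m.factorial := by
  rw [← card_centralizer_tau]
  apply Nat.card_congr
  apply Equiv.subtypeEquivRight
  intro σ
  rw [Subgroup.mem_centralizer_singleton_iff]
  constructor
  · intro h
    ext j
    exact h j
  · intro h j
    exact Equiv.congr_fun h j

theorem card_normalizer [Fintype F] (hq : 4 ≤ Fintype.card F) :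
    Nat.card ↥(Subgroup.normalizer (Tor F m : Set (Matrix.symplecticGroup (Fin m) F))) =
      2 ^ m * m.factorial * (Fintype.card F - 1) ^ m := by
  classical
  have h1 : Nat.card ↥(Subgroup.normalizer (Tor F m : Set (Matrix.symplecticGroup (Fin m) F))) =
      Nat.card (Set.range (Phi (F := F) (m := m))) := by
    rw [range_Phi hq]
    rfl
  rw [h1, Nat.card_congr (Equiv.ofInjective _ Phi_injective).symm, Nat.card_prod, card_commuting,
    Nat.card_fun, Nat.card_eq_fintype_card (α := Fˣ), Fintype.card_units,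
    Nat.card_eq_fintype_card, Fintype.card_fin]

end

theorem result {F : Type*} [Field F] [Fintype F] {q : ℕ} (hF : Fintype.card F = q) (hq : 4 ≤ q) (m : ℕ) : Nat.card ↥(Subgroup.normalizer (⨅ i : Fin m ⊕ Fin m, Cfsg.stabilizing (Cfsg.spToMat m F) ((Submodule.span F {(Pi.single i (1 : F) : Fin m ⊕ Fin m → F)} : Submodule F (Fin m ⊕ Fin m → F)) : Set (Fin m ⊕ Fin m → F)) : Set (Matrix.symplecticGroup (Fin m) F))) = 2 ^ m * Nat.factorial m * (q - 1) ^ m := by
  subst hF
  have h1 : (⨅ i : Fin m ⊕ Fin m, ((Cfsg.stabilizing (Cfsg.spToMat m F) ((Submodule.span F {(Pi.single i (1 : F) : Fin m ⊕ Fin m → F)} : Submodule F (Fin m ⊕ Fin m → F)) : Set (Fin m ⊕ Fin m → F)) : Subgroup (Matrix.symplecticGroup (Fin m) F)) : Set (Matrix.symplecticGroup (Fin m) F))) = (Tor F m : Set (Matrix.symplecticGroup (Fin m) F)) := by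
    rw [Set.iInf_eq_iInter, Subgroup.coe_iInf]
    rfl
  rw [h1]
  exact card_normalizer hq

end Cfsg.Agent.S0777
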