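import Cfsg.Statements.S0778

set_option autoImplicit false
open Cfsg

namespace Cfsg.Agent.S0778

open Matrix

section
variable {F : Type*} [Field F] (m : ℕ)

/-- the subgroup in question -/
abbrev H (F : Type*) [Field F] (m : ℕ) : Subgroup (Matrix.symplecticGroup (Fin m) F) :=
  Cfsg.stabilizing (Cfsg.spToMat m F) {v : Fin m ⊕ Fin m → F | ∀ i : Fin m, v (Sum.inr i) = 0} ⊓
  Cfsg.stabilizing (Cfsg.spToMat m F) {v : Fin m ⊕ Fin m → F | ∀ i : Fin m, v (Sum.inl i) = 0}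

theorem mem_H_iff (A : Matrix.symplecticGroup (Fin m) F) :
    A ∈ H F m ↔
      (∀ v : Fin m ⊕ Fin m → F, (∀ i, v (Sum.inr i) = 0) ↔ ∀ i, (A.1 *ᵥ v) (Sum.inr i) = 0) ∧
      (∀ v : Fin m ⊕ Fin m → F, (∀ i, v (Sum.inl i) = 0) ↔ ∀ i, (A.1 *ᵥ v) (Sum.inl i) = 0) :=
  Iff.rfl

theorem toBlocks₂₁_eq_zero {A : Matrix.symplecticGroup (Fin m) F} (hA : A ∈ H F m) :
    A.1.toBlocks₂₁ = 0 := by
  ext i j
  have h := ((mem_H_iff m A).mp hA).1 (Pi.single (Sum.inl j) 1)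
  have h1 : ∀ i, (Pi.single (Sum.inl j) (1 : F) : Fin m ⊕ Fin m → F) (Sum.inr i) = 0 := by
    intro i; simp
  have h2 := h.mp h1 i
  rw [Matrix.mulVec_single_one] at h2
  exact h2

theorem toBlocks₁₂_eq_zero {A : Matrix.symplecticGroup (Fin m) F} (hA : A ∈ H F m) :
    A.1.toBlocks₁₂ = 0 := by
  ext i j
  have h := ((mem_H_iff m A).mp hA).2 (Pi.single (Sum.inr j) 1)
  have h1 : ∀ i, (Pi.single (Sum.inr j) (1 : F) : Fin m ⊕ Fin m → F) (Sum.inl i) = 0 := by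
    intro i; simp
  have h2 := h.mp h1 i
  rw [Matrix.mulVec_single_one] at h2
  exact h2

theorem eq_fromBlocks {A : Matrix.symplecticGroup (Fin m) F} (hA : A ∈ H F m) :
    A.1 = fromBlocks A.1.toBlocks₁₁ 0 0 A.1.toBlocks₂₂ := by
  conv_lhs => rw [← fromBlocks_toBlocks A.1, toBlocks₁₂_eq_zero m hA, toBlocks₂₁_eq_zero m hA]

theorem blocks_rel {A : Matrix.symplecticGroup (Fin m) F} (hA : A ∈ H F m) :
    A.1.toBlocks₁₁ᵀ * A.1.toBlocks₂₂ = 1 := by
  have h := A.2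
  rw [eq_fromBlocks m hA, SymplecticGroup.fromBlocks_mem_iff] at h
  simpa using h.2.2

theorem diag_mem_symp (X Y : Matrix (Fin m) (Fin m) F) (h : Xᵀ * Y = 1) :
    fromBlocks X 0 0 Y ∈ Matrix.symplecticGroup (Fin m) F := by
  rw [SymplecticGroup.fromBlocks_mem_iff]
  simp [h]

theorem diag_mem_H (X Y : Matrix (Fin m) (Fin m) F) (h : Xᵀ * Y = 1) :
    (⟨fromBlocks X 0 0 Y, diag_mem_symp m X Y h⟩ : Matrix.symplecticGroup (Fin m) F) ∈ H F m := by
  have hY : Y * Xᵀ = 1 := mul_eq_one_comm.mp h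
  have hX : X * Yᵀ = 1 := by
    have := congrArg Matrix.transpose hY
    simpa using this
  have hX' : Yᵀ * X = 1 := mul_eq_one_comm.mp hX
  have hinl : ∀ v : Fin m ⊕ Fin m → F, ∀ i,
      (fromBlocks X 0 0 Y *ᵥ v) (Sum.inl i) = (X *ᵥ (v ∘ Sum.inl)) i := by
    intro v i
    rw [fromBlocks_mulVec]
    simp
  have hinr : ∀ v : Fin m ⊕ Fin m → F, ∀ i,
      (fromBlocks X 0 0 Y *ᵥ v) (Sum.inr i) = (Y *ᵥ (v ∘ Sum.inr)) i := by
    intro v i
    rw [fromBlocks_mulVec]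
    simp
  rw [mem_H_iff]
  constructor
  · intro v
    simp only [hinr]
    constructor
    · intro hv i
      have : v ∘ Sum.inr = 0 := funext hv
      rw [this]; simp
    · intro hv i
      have h0 : Y *ᵥ (v ∘ Sum.inr) = 0 := funext hv
      have h1 : Xᵀ *ᵥ (Y *ᵥ (v ∘ Sum.inr)) = 0 := by rw [h0]; simp
      rw [Matrix.mulVec_mulVec, h, Matrix.one_mulVec] at h1
      exact congrFun h1 i
  · intro v
    simp only [hinl]
    constructor
    · intro hv i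
      have : v ∘ Sum.inl = 0 := funext hv
      rw [this]; simp
    · intro hv i
      have h0 : X *ᵥ (v ∘ Sum.inl) = 0 := funext hv
      have h1 : Yᵀ *ᵥ (X *ᵥ (v ∘ Sum.inl)) = 0 := by rw [h0]; simp
      rw [Matrix.mulVec_mulVec, hX', Matrix.one_mulVec] at h1
      exact congrFun h1 i

theorem isUnit_det_block {A : Matrix.symplecticGroup (Fin m) F} (hA : A ∈ H F m) :
    IsUnit A.1.toBlocks₁₁.det := by
  have h := congrArg Matrix.det (blocks_rel m hA)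
  rw [det_mul, det_transpose, det_one] at h
  exact IsUnit.of_mul_eq_one _ h

theorem inv_transpose_rel (X : GL (Fin m) F) :
    (X : Matrix (Fin m) (Fin m) F)ᵀ * ((X⁻¹ : GL (Fin m) F) : Matrix (Fin m) (Fin m) F)ᵀ = 1 := by
  rw [← Matrix.transpose_mul, ← Units.val_mul, inv_mul_cancel]
  simp

/-- the isomorphism -/
noncomputable def iso : ↥(H F m) ≃* GL (Fin m) F where
  toFun A := Matrix.GeneralLinearGroup.mk'' A.1.1.toBlocks₁₁ (isUnit_det_block m A.2)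
  invFun X := ⟨⟨fromBlocks (X : Matrix (Fin m) (Fin m) F) 0 0
      ((X⁻¹ : GL (Fin m) F) : Matrix (Fin m) (Fin m) F)ᵀ, diag_mem_symp m _ _ (inv_transpose_rel m X)⟩,
    diag_mem_H m _ _ (inv_transpose_rel m X)⟩
  left_inv A := by
    apply Subtype.ext
    apply Subtype.ext
    show fromBlocks A.1.1.toBlocks₁₁ 0 0 _ = A.1.1
    conv_rhs => rw [eq_fromBlocks m A.2]
    congr 1
    -- the lower right block is the inverse transpose
    have h1 := blocks_rel m A.2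
    set X : GL (Fin m) F := Matrix.GeneralLinearGroup.mk'' A.1.1.toBlocks₁₁ (isUnit_det_block m A.2)
      with hX
    have hXc : (X : Matrix (Fin m) (Fin m) F) = A.1.1.toBlocks₁₁ := rfl
    have h2 := inv_transpose_rel m X
    rw [hXc] at h2
    have h3 : A.1.1.toBlocks₂₂ * A.1.1.toBlocks₁₁ᵀ = 1 := mul_eq_one_comm.mp h1
    calc ((X⁻¹ : GL (Fin m) F) : Matrix (Fin m) (Fin m) F)ᵀ
        = (A.1.1.toBlocks₂₂ * A.1.1.toBlocks₁₁ᵀ) *
            ((X⁻¹ : GL (Fin m) F) : Matrix (Fin m) (Fin m) F)ᵀ := by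
          rw [h3, Matrix.one_mul]
      _ = A.1.1.toBlocks₂₂ := by
          rw [Matrix.mul_assoc, h2, Matrix.mul_one]
  right_inv X := by
    apply Units.ext
    show (fromBlocks (X : Matrix (Fin m) (Fin m) F) 0 0 _).toBlocks₁₁ = _
    rw [toBlocks_fromBlocks₁₁]
  map_mul' A B := by
    apply Units.ext
    show (A.1.1 * B.1.1).toBlocks₁₁ = A.1.1.toBlocks₁₁ * B.1.1.toBlocks₁₁
    conv_lhs => rw [eq_fromBlocks m A.2, eq_fromBlocks m B.2, fromBlocks_multiply]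
    simp

end

/-- The elements of Sp_2m(F) stabilising both W = ⟨e_1..e_m⟩ and U = ⟨f_1..f_m⟩ form a subgroup isomorphic to GL_m(F) (block-diagonal matrices diag(X, X^(−ᵀ)) up to the sign convention of J), for m ≥ 1 or m = 0 alike. -/
theorem result {F : Type*} [Field F] (m : ℕ) : Nonempty (↥(Cfsg.stabilizing (Cfsg.spToMat m F) {v : Fin m ⊕ Fin m → F | ∀ i : Fin m, v (Sum.inr i) = 0} ⊓ Cfsg.stabilizing (Cfsg.spToMat m F) {v : Fin m ⊕ Fin m → F | ∀ i : Fin m, v (Sum.inl i) = 0}) ≃* Matrix.GeneralLinearGroup (Fin m) F) :=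
  ⟨iso m⟩

end Cfsg.Agent.S0778
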