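import Cfsg.Statements.S0786
import Cfsg.Agent.Lib.Helper14_CartanDieudonne
import Cfsg.Agent.Lib.Helper44_CD2

set_option autoImplicit false
open Cfsg

namespace Cfsg.Agent.S0786

open Cfsg.Agent.Lib.Helper44_Refl Cfsg.Agent.Lib.Helper44_Spinor

/-- Generation by reflections: if F is finite, Q is a quadratic form on F^n with non-degenerate polar form, and (|F|, n) ≠ (2, 4), then the isometry group of Q is generated by the reflections r_v, Q(v) ≠ 0. -/
theorem result {F : Type*} [Field F] [Fintype F] {n : ℕ} (Q : QuadraticForm F (Fin n → F)) (hQ : (QuadraticMap.polarBilin Q).Nondegenerate) (h : Fintype.card F ≠ 2 ∨ n ≠ 4) : Subgroup.closure {g : ↥(Cfsg.isometryGroup F ⇑Q) | ∃ v : Fin n → F, Q v ≠ 0 ∧ ((g : Matrix.GeneralLinearGroup (Fin n) F) : Matrix (Fin n) (Fin n) F) = Cfsg.reflectionMatrix ⇑Q v} = ⊤ := by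
  classical
  rw [eq_top_iff]
  intro g _
  have hlist : ∃ vs : List (Fin n → F), (∀ v ∈ vs, Q v ≠ 0) ∧ g = (vs.map (reflT Q)).prod := by
    by_cases h2 : (2 : F) = 0
    · exact Cfsg.Agent.Lib.Helper44_CD2.exists_list_reflT_two h2 Q hQ
        (by rw [Fintype.card_fin]; exact h) g
    · exact Cfsg.Agent.Lib.Helper14_CartanDieudonne.exists_list_reflT h2 Q hQ g
  obtain ⟨vs, hvs, rfl⟩ := hlist
  apply Subgroup.list_prod_mem
  intro x hx
  obtain ⟨v, hv, rfl⟩ := List.mem_map.mp hx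
  apply Subgroup.subset_closure
  refine ⟨v, hvs v hv, ?_⟩
  rw [reflT_of_ne Q v (hvs v hv), refl_coe]

end Cfsg.Agent.S0786
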