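import Mathlib
import Cfsg.Statements.S0792
import Cfsg.Agent.Lib.Helper14_CartanDieudonne

set_option autoImplicit false
open Cfsg

namespace Cfsg.Agent.S0792

open Matrix Cfsg.Agent.Lib.Helper44_Orth Cfsg.Agent.Lib.Helper44_Refl
  Cfsg.Agent.Lib.Helper44_Spinor Cfsg.Agent.Lib.Helper14_CartanDieudonne

variable {ι : Type} [Fintype ι] [DecidableEq ι] {F : Type*} [Field F]

/-- the generating set: products of two reflections -/
def pairSet (Q : QuadraticForm F (ι → F)) : Set ↥(Cfsg.isometryGroup F ⇑Q) :=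
  {g | ∃ u v : ι → F, Q u ≠ 0 ∧ Q v ≠ 0 ∧
    ((g : Matrix.GeneralLinearGroup ι F) : Matrix ι ι F)
      = Cfsg.reflectionMatrix ⇑Q u * Cfsg.reflectionMatrix ⇑Q v}

open Classical in
theorem even_prod_mem (Q : QuadraticForm F (ι → F)) :
    ∀ (vs : List (ι → F)), (∀ v ∈ vs, Q v ≠ 0) → Even vs.length →
      (vs.map (reflT Q)).prod ∈ Subgroup.closure (pairSet Q)
  | [], _, _ => by simp
  | [a], _, h => by simp at h
  | a :: b :: rest, hvs, h => by
    have hrest : (rest.map (reflT Q)).prod ∈ Subgroup.closure (pairSet Q) := by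
      apply even_prod_mem Q rest
      · intro v hv
        exact hvs v (List.mem_cons_of_mem _ (List.mem_cons_of_mem _ hv))
      · simp only [List.length_cons] at h
        have : rest.length + 1 + 1 = rest.length + 2 := rfl
        rw [this, Nat.even_add] at h
        exact h.mpr (by decide)
    have ha : Q a ≠ 0 := hvs a List.mem_cons_self
    have hb : Q b ≠ 0 := hvs b (List.mem_cons_of_mem _ List.mem_cons_self)
    have hab : reflT Q a * reflT Q b ∈ Subgroup.closure (pairSet Q) := by
      apply Subgroup.subset_closure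
      refine ⟨a, b, ha, hb, ?_⟩
      rw [reflT_of_ne Q a ha, reflT_of_ne Q b hb]
      rfl
    rw [List.map_cons, List.map_cons, List.prod_cons, List.prod_cons, ← mul_assoc]
    exact Subgroup.mul_mem _ hab hrest

theorem mem_special_iff (Q : QuadraticForm F (ι → F)) (g : ↥(Cfsg.isometryGroup F ⇑Q)) :
    g ∈ Cfsg.specialIsometryGroup F ⇑Q ↔
      ((g : Matrix.GeneralLinearGroup ι F) : Matrix ι ι F).det = 1 := by
  unfold Cfsg.specialIsometryGroup
  rw [MonoidHom.mem_ker]
  constructor
  · intro h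
    have := congrArg (fun u : Fˣ => (u : F)) h
    simpa using this
  · intro h
    apply Units.ext
    simpa using h

theorem result {F : Type*} [Field F] [Fintype F] (h2 : (2 : F) ≠ 0) {n : ℕ} (Q : QuadraticForm F (Fin n → F)) (hQ : (QuadraticMap.polarBilin Q).Nondegenerate) : Cfsg.specialIsometryGroup F ⇑Q = Subgroup.closure {g : ↥(Cfsg.isometryGroup F ⇑Q) | ∃ u v : Fin n → F, Q u ≠ 0 ∧ Q v ≠ 0 ∧ ((g : Matrix.GeneralLinearGroup (Fin n) F) : Matrix (Fin n) (Fin n) F) = Cfsg.reflectionMatrix ⇑Q u * Cfsg.reflectionMatrix ⇑Q v} := by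
  classical
  show Cfsg.specialIsometryGroup F ⇑Q = Subgroup.closure (pairSet Q)
  apply le_antisymm
  · intro g hg
    rw [mem_special_iff] at hg
    obtain ⟨vs, hvs, rfl⟩ := exists_list_reflT h2 Q hQ g
    apply even_prod_mem Q vs hvs
    rw [prod_reflT_coe Q vs hvs, det_prod Q vs hvs] at hg
    rcases Nat.even_or_odd vs.length with h | h
    · exact h
    · exfalso
      rw [h.neg_one_pow] at hg
      apply h2
      linear_combination -hg
  · rw [Subgroup.closure_le]
    rintro g ⟨u, v, hu, hv, hg⟩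
    rw [SetLike.mem_coe, mem_special_iff, hg, Matrix.det_mul, det_reflectionMatrix Q hu,
      det_reflectionMatrix Q hv]
    ring

end Cfsg.Agent.S0792
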