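import Mathlib
import Cfsg.Statements.S0793

set_option autoImplicit false
open Cfsg

namespace Cfsg.Agent.S0793

open Matrix

theorem polarVec_dot {F : Type*} [Field F] {n : ℕ} (Q : QuadraticForm F (Fin n → F)) (u x : Fin n → F) :
    polarVec (⇑Q) u ⬝ᵥ x = QuadraticMap.polar (⇑Q) u x := by
  have h := LinearMap.pi_apply_eq_sum_univ (QuadraticMap.polarBilin Q u) x
  rw [QuadraticMap.polarBilin_apply_apply] at h
  rw [h, dotProduct]
  apply Finset.sum_congr rfl
  intro i _
  rw [QuadraticMap.polarBilin_apply_apply, smul_eq_mul, mul_comm, polarVec]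
  congr 2
  ext j
  simp [Pi.single_apply, eq_comm]

theorem siegel_mulVec {F : Type*} [Field F] {n : ℕ} (Q : QuadraticForm F (Fin n → F)) (u v x : Fin n → F) (c : F) :
    (siegelMatrix (⇑Q) u v c) *ᵥ x =
      x + ((c * QuadraticMap.polar (⇑Q) u x) • v + (-(c * QuadraticMap.polar (⇑Q) v x)) • u) := by
  rw [siegelMatrix, Matrix.add_mulVec, Matrix.one_mulVec, Matrix.smul_mulVec, Matrix.sub_mulVec,
    vecMulVec_mulVec, vecMulVec_mulVec, op_smul_eq_smul, op_smul_eq_smul,
    polarVec_dot, polarVec_dot]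
  congr 1
  rw [smul_sub, smul_smul, smul_smul, neg_smul, sub_eq_add_neg]

theorem sq_zero_mul {F : Type*} [Field F] {n : ℕ} (N : Matrix (Fin n) (Fin n) F) (hN : N * N = 0) (c d : F) :
    (1 + c • N) * (1 + d • N) = 1 + (c + d) • N := by
  rw [Matrix.add_mul, Matrix.mul_add, Matrix.mul_add, Matrix.one_mul, Matrix.mul_one,
    Matrix.one_mul, Matrix.smul_mul, Matrix.mul_smul, hN, add_smul]
  simp only [smul_zero, add_zero]
  abel

theorem result {F : Type*} [Field F] {n : ℕ} (Q : QuadraticForm F (Fin n → F)) (u v : Fin n → F) (hu : Q u = 0) (hv : Q v = 0) (huv : QuadraticMap.polar ⇑Q u v = 0) : (∀ c x, Q ((Cfsg.siegelMatrix ⇑Q u v c).mulVec x) = Q x) ∧ (∀ c, (Cfsg.siegelMatrix ⇑Q u v c).mulVec u = u ∧ (Cfsg.siegelMatrix ⇑Q u v c).mulVec v = v) ∧ ∀ c d, Cfsg.siegelMatrix ⇑Q u v c * Cfsg.siegelMatrix ⇑Q u v d = Cfsg.siegelMatrix ⇑Q u v (c + d) := by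
  have hvu : QuadraticMap.polar ⇑Q v u = 0 := by rw [QuadraticMap.polar_comm]; exact huv
  have huu : QuadraticMap.polar ⇑Q u u = 0 := by
    rw [QuadraticMap.polar_self, hu, smul_zero]
  have hvv : QuadraticMap.polar ⇑Q v v = 0 := by
    rw [QuadraticMap.polar_self, hv, smul_zero]
  refine ⟨?_, ?_, ?_⟩
  · intro c x
    rw [siegel_mulVec, QuadraticMap.map_add (⇑Q), QuadraticMap.map_add (⇑Q), QuadraticMap.map_smul,
      QuadraticMap.map_smul, hu, hv, QuadraticMap.polar_add_right, QuadraticMap.polar_smul_right,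
      QuadraticMap.polar_smul_right, QuadraticMap.polar_smul_left, QuadraticMap.polar_smul_right, hvu,
      QuadraticMap.polar_comm (⇑Q) x v, QuadraticMap.polar_comm (⇑Q) x u]
    simp only [smul_eq_mul]
    ring
  · intro c
    constructor
    · rw [siegel_mulVec, huu, hvu]; simp
    · rw [siegel_mulVec, huv, hvv]; simp
  · intro c d
    have hN : (vecMulVec v (polarVec (⇑Q) u) - vecMulVec u (polarVec (⇑Q) v)) *
        (vecMulVec v (polarVec (⇑Q) u) - vecMulVec u (polarVec (⇑Q) v)) = 0 := by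
      rw [Matrix.sub_mul, Matrix.mul_sub, Matrix.mul_sub, vecMulVec_mul_vecMulVec,
        vecMulVec_mul_vecMulVec, vecMulVec_mul_vecMulVec, vecMulVec_mul_vecMulVec,
        polarVec_dot, polarVec_dot, polarVec_dot, polarVec_dot, huv, hvu, huu, hvv]
      simp
    simp only [siegelMatrix]
    exact sq_zero_mul _ hN c d

end Cfsg.Agent.S0793
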