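import Mathlib
import Cfsg.Statements.S0794
import Cfsg.Agent.S0793
import Cfsg.Agent.Lib.Helper44_ReflProd

set_option autoImplicit false
open Cfsg
open scoped commutatorElement

namespace Cfsg.Agent.S0794

open Matrix Cfsg.Agent.Lib.Helper44_Orth Cfsg.Agent.Lib.Helper44_Refl
  Cfsg.Agent.Lib.Helper44_ReflProd

variable {n : ℕ} {F : Type*} [Field F]

theorem siegel_zero (Q : QuadraticForm F (Fin n → F)) (u v : Fin n → F) :
    Cfsg.siegelMatrix ⇑Q u v 0 = 1 := by
  simp [Cfsg.siegelMatrix]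

/-- the Siegel matrix as an invertible matrix -/
def siegelGL (Q : QuadraticForm F (Fin n → F)) (u v : Fin n → F) (hu : Q u = 0) (hv : Q v = 0)
    (huv : QuadraticMap.polar ⇑Q u v = 0) (c : F) : Matrix.GeneralLinearGroup (Fin n) F :=
  ⟨Cfsg.siegelMatrix ⇑Q u v c, Cfsg.siegelMatrix ⇑Q u v (-c),
    by rw [(Cfsg.Agent.S0793.result Q u v hu hv huv).2.2, add_neg_cancel, siegel_zero],
    by rw [(Cfsg.Agent.S0793.result Q u v hu hv huv).2.2, neg_add_cancel, siegel_zero]⟩

/-- the Siegel transformation as an isometry -/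
def siegelO (Q : QuadraticForm F (Fin n → F)) (u v : Fin n → F) (hu : Q u = 0) (hv : Q v = 0)
    (huv : QuadraticMap.polar ⇑Q u v = 0) (c : F) : ↥(Cfsg.isometryGroup F ⇑Q) :=
  ⟨siegelGL Q u v hu hv huv c, by
    rw [mem_isometryGroup_iff]
    intro x
    exact (Cfsg.Agent.S0793.result Q u v hu hv huv).1 c x⟩

/-- conjugating a Siegel matrix by an isometry -/
theorem conj_siegel (Q : QuadraticForm F (Fin n → F)) (h : ↥(Cfsg.isometryGroup F ⇑Q))
    (u v : Fin n → F) (c : F) :
    (h : Matrix.GeneralLinearGroup (Fin n) F).1 * Cfsg.siegelMatrix ⇑Q u v c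
      * ((h⁻¹ : ↥(Cfsg.isometryGroup F ⇑Q)) : Matrix.GeneralLinearGroup (Fin n) F).1
      = Cfsg.siegelMatrix ⇑Q ((h : Matrix.GeneralLinearGroup (Fin n) F).1 *ᵥ u)
          ((h : Matrix.GeneralLinearGroup (Fin n) F).1 *ᵥ v) c := by
  apply matrix_ext_mulVec
  intro x
  rw [← Matrix.mulVec_mulVec, ← Matrix.mulVec_mulVec, Cfsg.Agent.S0793.siegel_mulVec,
    Cfsg.Agent.S0793.siegel_mulVec]
  set y := ((h⁻¹ : ↥(Cfsg.isometryGroup F ⇑Q)) : Matrix.GeneralLinearGroup (Fin n) F).1 *ᵥ x with hy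
  have hxy : x = (h : Matrix.GeneralLinearGroup (Fin n) F).1 *ᵥ y := by
    rw [hy, Matrix.mulVec_mulVec]
    have : (h : Matrix.GeneralLinearGroup (Fin n) F).1
        * ((h⁻¹ : ↥(Cfsg.isometryGroup F ⇑Q)) : Matrix.GeneralLinearGroup (Fin n) F).1 = 1 := by
      have h1 : h * h⁻¹ = 1 := mul_inv_cancel h
      have h2 := congrArg (fun z : ↥(Cfsg.isometryGroup F ⇑Q) =>
        ((z : Matrix.GeneralLinearGroup (Fin n) F) : Matrix (Fin n) (Fin n) F)) h1
      exact h2
    rw [this, Matrix.one_mulVec]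
  rw [hxy, polar_isometry, polar_isometry, Matrix.mulVec_add, Matrix.mulVec_add, Matrix.mulVec_smul,
    Matrix.mulVec_smul]

theorem siegel_neg_left (Q : QuadraticForm F (Fin n → F)) (u v : Fin n → F) (c : F) :
    Cfsg.siegelMatrix ⇑Q (-u) v c = Cfsg.siegelMatrix ⇑Q u v (-c) := by
  apply matrix_ext_mulVec
  intro x
  rw [Cfsg.Agent.S0793.siegel_mulVec, Cfsg.Agent.S0793.siegel_mulVec, QuadraticMap.polar_neg_left]
  simp only [smul_neg, mul_neg, neg_mul, neg_neg, neg_smul]

/-- The main case: a hyperbolic partner `u'` of `u` orthogonal to `v` exists. -/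
theorem main_case (h2 : (2 : F) ≠ 0) (Q : QuadraticForm F (Fin n → F)) (u v u' : Fin n → F)
    (hu : Q u = 0) (hv : Q v = 0) (huv : QuadraticMap.polar ⇑Q u v = 0) (hu' : Q u' = 0)
    (huu' : QuadraticMap.polar ⇑Q u u' = 1) (hvu' : QuadraticMap.polar ⇑Q v u' = 0) (c : F)
    (g : ↥(Cfsg.isometryGroup F ⇑Q))
    (hg : ((g : Matrix.GeneralLinearGroup (Fin n) F) : Matrix (Fin n) (Fin n) F)
      = Cfsg.siegelMatrix ⇑Q u v c) : g ∈ commutatorSet ↥(Cfsg.isometryGroup F ⇑Q) := by
  have hu'u : QuadraticMap.polar ⇑Q u' u = 1 := by rw [QuadraticMap.polar_comm, huu']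
  have hQp : Q (u + u') = 1 := by
    rw [QuadraticMap.map_add (⇑Q) u u', hu, hu', huu']; ring
  have hQm : Q (u - u') = -1 := by
    have := map_sub_smul Q u' u 1
    simp only [one_smul, one_mul, mul_one] at this
    rw [this, hu, hu', hu'u]; ring
  have hp : Q (u + u') ≠ 0 := by rw [hQp]; exact one_ne_zero
  have hm : Q (u - u') ≠ 0 := by rw [hQm]; simp
  set h : ↥(Cfsg.isometryGroup F ⇑Q) := refl Q (u - u') hm * refl Q (u + u') hp with hh
  have hcoe : ((h : Matrix.GeneralLinearGroup (Fin n) F) : Matrix (Fin n) (Fin n) F)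
      = Cfsg.reflectionMatrix ⇑Q (u - u') * Cfsg.reflectionMatrix ⇑Q (u + u') := rfl
  have hhu : ((h : Matrix.GeneralLinearGroup (Fin n) F) : Matrix (Fin n) (Fin n) F) *ᵥ u = -u := by
    rw [hcoe, hyperbolic_pair_mulVec Q hu hu' huu', hu'u, Cfsg.Agent.Lib.Helper44_Refl.polar_self, hu]
    simp only [mul_one, mul_zero, zero_smul, sub_zero]
    rw [two_smul]; abel
  have hhv : ((h : Matrix.GeneralLinearGroup (Fin n) F) : Matrix (Fin n) (Fin n) F) *ᵥ v = v := by
    rw [hcoe, hyperbolic_pair_mulVec Q hu hu' huu', QuadraticMap.polar_comm (⇑Q) u' v, hvu', huv]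
    simp
  set t : ↥(Cfsg.isometryGroup F ⇑Q) := siegelO Q u v hu hv huv (-c / 2) with ht
  refine ⟨h, t, ?_⟩
  apply Subtype.ext
  apply Units.ext
  rw [hg, commutatorElement_def]
  have e1 : ((((h * t * h⁻¹ * t⁻¹ : ↥(Cfsg.isometryGroup F ⇑Q)) :
      Matrix.GeneralLinearGroup (Fin n) F)) : Matrix (Fin n) (Fin n) F)
      = (h : Matrix.GeneralLinearGroup (Fin n) F).1 * Cfsg.siegelMatrix ⇑Q u v (-c / 2)
        * ((h⁻¹ : ↥(Cfsg.isometryGroup F ⇑Q)) : Matrix.GeneralLinearGroup (Fin n) F).1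
        * Cfsg.siegelMatrix ⇑Q u v (-(-c / 2)) := rfl
  rw [e1, conj_siegel, hhu, hhv, siegel_neg_left,
    (Cfsg.Agent.S0793.result Q u v hu hv huv).2.2]
  congr 1
  field_simp
  ring

theorem result {F : Type*} [Field F] [Fintype F] (h2 : (2 : F) ≠ 0) {n : ℕ} (hn : 5 ≤ n) (Q : QuadraticForm F (Fin n → F)) (hQ : (QuadraticMap.polarBilin Q).Nondegenerate) (u v : Fin n → F) (hu : Q u = 0) (hv : Q v = 0) (huv : QuadraticMap.polar ⇑Q u v = 0) (c : F) (g : ↥(Cfsg.isometryGroup F ⇑Q)) (hg : ((g : Matrix.GeneralLinearGroup (Fin n) F) : Matrix (Fin n) (Fin n) F) = Cfsg.siegelMatrix ⇑Q u v c) : g ∈ commutatorSet ↥(Cfsg.isometryGroup F ⇑Q) ∧ g ∈ Cfsg.Omega F ⇑Q := by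
  suffices hmem : g ∈ commutatorSet ↥(Cfsg.isometryGroup F ⇑Q) by
    refine ⟨hmem, ?_⟩
    show g ∈ commutator ↥(Cfsg.isometryGroup F ⇑Q)
    rw [commutator_eq_closure]
    exact Subgroup.subset_closure hmem
  have hsep : ∀ w : Fin n → F, (∀ x, QuadraticMap.polar ⇑Q w x = 0) → w = 0 := by
    intro w hw
    apply hQ.1 w
    intro x
    rw [QuadraticMap.polarBilin_apply_apply]
    exact hw x
  by_cases hex : ∃ x, QuadraticMap.polar ⇑Q u x = 1 ∧ QuadraticMap.polar ⇑Q v x = 0
  · obtain ⟨x, hx1, hx2⟩ := hex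
    -- u' = x - Q(x) u
    refine main_case h2 Q u v (x - Q x • u) hu hv huv ?_ ?_ ?_ c g hg
    · rw [map_sub_smul, hu, hx1]; ring
    · rw [QuadraticMap.polar_sub_right, QuadraticMap.polar_smul_right, Cfsg.Agent.Lib.Helper44_Refl.polar_self, hu,
        hx1]
      simp
    · rw [QuadraticMap.polar_sub_right, QuadraticMap.polar_smul_right, hx2,
        QuadraticMap.polar_comm (⇑Q) v u, huv]
      simp
  · -- degenerate case: the Siegel matrix is the identity
    push Not at hex
    have hker : ∀ x, QuadraticMap.polar ⇑Q v x = 0 → QuadraticMap.polar ⇑Q u x = 0 := by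
      intro x hx
      by_contra hne
      apply hex ((QuadraticMap.polar ⇑Q u x)⁻¹ • x)
      · rw [QuadraticMap.polar_smul_right, smul_eq_mul, inv_mul_cancel₀ hne]
      · rw [QuadraticMap.polar_smul_right, hx, smul_zero]
    have hT : Cfsg.siegelMatrix ⇑Q u v c = 1 := by
      by_cases hv0 : v = 0
      · have hu0 : u = 0 := by
          apply hsep
          intro x
          apply hker
          rw [hv0]
          simp [QuadraticMap.polar]
        apply matrix_ext_mulVec
        intro x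
        rw [Cfsg.Agent.S0793.siegel_mulVec, hu0, hv0]
        simp
      · obtain ⟨y, hy⟩ : ∃ y, QuadraticMap.polar ⇑Q v y = 1 := by
          by_contra hno
          push Not at hno
          apply hv0
          apply hsep
          intro x
          by_contra hne
          apply hno ((QuadraticMap.polar ⇑Q v x)⁻¹ • x)
          rw [QuadraticMap.polar_smul_right, smul_eq_mul, inv_mul_cancel₀ hne]
        set lam := QuadraticMap.polar ⇑Q u y with hlam
        have hprop : ∀ x, QuadraticMap.polar ⇑Q u x = lam * QuadraticMap.polar ⇑Q v x := by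
          intro x
          have := hker (x - QuadraticMap.polar ⇑Q v x • y) (by
            rw [QuadraticMap.polar_sub_right, QuadraticMap.polar_smul_right, hy]; simp)
          rw [QuadraticMap.polar_sub_right, QuadraticMap.polar_smul_right, ← hlam, smul_eq_mul] at this
          linear_combination this
        have hulam : u = lam • v := by
          have : u - lam • v = 0 := by
            apply hsep
            intro x
            rw [QuadraticMap.polar_sub_left, QuadraticMap.polar_smul_left, hprop x]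
            simp
          exact sub_eq_zero.mp this
        apply matrix_ext_mulVec
        intro x
        rw [Cfsg.Agent.S0793.siegel_mulVec, Matrix.one_mulVec, hprop x]
        nth_rewrite 1 [hulam]
        rw [smul_smul, ← add_smul]
        have : c * (lam * QuadraticMap.polar ⇑Q v x) + -(c * QuadraticMap.polar ⇑Q v x) * lam = 0 := by
          ring
        rw [this, zero_smul, add_zero]
    have hg1 : g = 1 := by
      apply Subtype.ext
      apply Units.ext
      rw [hg, hT]
      rfl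
    rw [hg1]
    exact ⟨1, 1, by simp⟩

end Cfsg.Agent.S0794
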