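import Cfsg.Statements.S0795
import Cfsg.Agent.S0788
import Cfsg.Agent.Lib.Helper14_SiegelOmega

set_option autoImplicit false
open Cfsg

namespace Cfsg.Agent.S0795

open Cfsg Matrix Cfsg.Agent.Lib.Helper44_Spinor Cfsg.Agent.Lib.Helper14_OrthChars
  Cfsg.Agent.Lib.Helper14_Siegel Cfsg.Agent.Lib.Helper14_SiegelOmega

variable {ι : Type} [Fintype ι] [DecidableEq ι] {F : Type*} [Field F] [Fintype F]

/-- Odd characteristic: the Siegel transformations lie in `Ω` (they are squares). -/
theorem siegelGroup_le_omega (h2 : (2 : F) ≠ 0) (Q : QuadraticForm F (ι → F))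
    (hQ : (QuadraticMap.polarBilin Q).Nondegenerate) : siegelGroup Q ≤ Cfsg.Omega F (⇑Q) := by
  rw [siegelGroup, Subgroup.closure_le]
  rintro g ⟨u, v, c, hu, hv, huv, hg⟩
  have hgs : g = siegel Q u v c hu hv huv := Subtype.ext (Units.ext hg)
  have hc : c / 2 + c / 2 = c := by field_simp; ring
  have hsq : g = siegel Q u v (c / 2) hu hv huv * siegel Q u v (c / 2) hu hv huv := by
    rw [hgs, siegel_mul, hc]
  rw [SetLike.mem_coe, hsq, Cfsg.Agent.S0788.mem_omega_iff_chars h2 Q hQ, map_mul, map_mul,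
    Int.units_mul_self, Int.units_mul_self]
  exact ⟨rfl, rfl⟩

/-- Generation of Ω by root elements: for q odd, n ≥ 5 and Q with non-degenerate polar form on F^n, the commutator subgroup of the isometry group equals the subgroup generated by the isometries whose matrices are Siegel transformations T_(u,v)(c) with u, v singular and orthogonal. -/
theorem result {F : Type*} [Field F] [Fintype F] (h2 : (2 : F) ≠ 0) {n : ℕ} (hn : 5 ≤ n) (Q : QuadraticForm F (Fin n → F)) (hQ : (QuadraticMap.polarBilin Q).Nondegenerate) : Cfsg.Omega F ⇑Q = Subgroup.closure {g : ↥(Cfsg.isometryGroup F ⇑Q) | ∃ (u v : Fin n → F) (c : F), Q u = 0 ∧ Q v = 0 ∧ QuadraticMap.polar ⇑Q u v = 0 ∧ ((g : Matrix.GeneralLinearGroup (Fin n) F) : Matrix (Fin n) (Fin n) F) = Cfsg.siegelMatrix ⇑Q u v c} := by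
  apply le_antisymm
  · exact commutator_le_siegelGroup h2 Q hQ (by simpa using hn)
  · exact siegelGroup_le_omega h2 Q hQ

end Cfsg.Agent.S0795
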