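import Cfsg.Statements.S0810
import Cfsg.Agent.S0804
import Cfsg.Agent.Lib.Helper51_PSL2MinSimple

set_option autoImplicit false
open Cfsg

namespace Cfsg.Agent.S0810

open scoped MatrixGroups
open Cfsg.Agent.Lib.Helper51_PSL2MinSimple Cfsg.Agent.Lib.Helper51_SL2Solv
  Cfsg.Agent.Lib.Helper51_SL2SolvEven Cfsg.Agent.Lib.Helper51_SL2Cases

theorem not_five_dvd (q : ℕ) (h : q ^ 2 % 5 = 4) (hq : ¬ 5 ∣ q) : ¬ 5 ∣ q * (q ^ 2 - 1) := by
  intro hd
  rcases (Nat.Prime.dvd_mul Nat.prime_five).1 hd with h1 | h1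
  · exact hq h1
  · have h2 := Nat.mod_eq_zero_of_dvd h1
    omega

theorem sq_mod_of_odd_pow (r : ℕ) (hodd : Odd r) : (3 ^ r) ^ 2 % 5 = 4 := by
  obtain ⟨k, rfl⟩ := hodd
  have e : (3 ^ (2 * k + 1)) ^ 2 = 81 ^ k * 9 := by
    rw [← pow_mul, show (2 * k + 1) * 2 = 4 * k + 2 by ring, pow_add, pow_mul]
    norm_num
  rw [e, Nat.mul_mod, Nat.pow_mod]
  norm_num

variable {F : Type*} [Field F] [Fintype F]

theorem mk_minimal (h4 : 4 ≤ Fintype.card F)
    (hall : ∀ M : Subgroup PSL(2, F), M = ⊤ ∨ Group.IsSolvable ↥M) :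
    Cfsg.IsMinimalSimple PSL(2, F) :=
  ⟨Matrix.ProjectiveSpecialLinearGroup.rank_two_simple (by rw [Nat.card_eq_fintype_card]; exact h4),
    fun hc => psl2_not_comm (isMulCommutative_iff.1 hc), fun H hH => (hall H).resolve_left hH⟩

/-- the listed fields give minimal simple groups -/
theorem minimal_of_list {q : ℕ} (hF : Fintype.card F = q)
    (h : (∃ r : ℕ, r.Prime ∧ q = 2 ^ r) ∨ (∃ r : ℕ, r.Prime ∧ r ≠ 2 ∧ q = 3 ^ r) ∨
      (q.Prime ∧ 5 < q ∧ (q % 5 = 2 ∨ q % 5 = 3)) ∨ q = 5) :
    Cfsg.IsMinimalSimple PSL(2, F) := by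
  rcases h with ⟨r, hr, rfl⟩ | ⟨r, hr, hr2, rfl⟩ | ⟨hq, hq5, hmod⟩ | rfl
  · have : CharP F 2 := charP_of_card_pow 2 r hF
    have h4 : 4 ≤ Fintype.card F := by
      rw [hF]
      calc 4 = 2 ^ 2 := by norm_num
        _ ≤ 2 ^ r := Nat.pow_le_pow_right (by norm_num) hr.two_le
    exact mk_minimal h4 (psl2_top_or_solvable_even r hr hF)
  · have : CharP F 3 := charP_of_card_pow 3 r hF
    have h4 : 4 ≤ Fintype.card F := by
      rw [hF]
      calc 4 ≤ 3 ^ 2 := by norm_num
        _ ≤ 3 ^ r := Nat.pow_le_pow_right (by norm_num) hr.two_le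
    have hodd : Odd r := hr.odd_of_ne_two hr2
    have h5 : ¬ 5 ∣ Fintype.card F * (Fintype.card F ^ 2 - 1) := by
      rw [hF]
      apply not_five_dvd _ (sq_mod_of_odd_pow r hodd)
      intro h
      have := Nat.Prime.dvd_of_dvd_pow Nat.prime_five h
      omega
    exact mk_minimal h4 (psl2_top_or_solvable 3 (by norm_num) r hF (Or.inr ⟨hr, rfl⟩) (Or.inr h5))
  · have : Fact q.Prime := ⟨hq⟩
    have hF1 : Fintype.card F = q ^ 1 := by rw [pow_one]; exact hF
    have : CharP F q := charP_of_card_pow q 1 hF1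
    have h4 : 4 ≤ Fintype.card F := by rw [hF]; omega
    have hsq : q ^ 2 % 5 = 4 := by
      rcases hmod with h | h <;> simp [Nat.pow_mod, h]
    have h5 : ¬ 5 ∣ Fintype.card F * (Fintype.card F ^ 2 - 1) := by
      rw [hF]
      apply not_five_dvd _ hsq
      intro h
      have := Nat.mod_eq_zero_of_dvd h
      omega
    exact mk_minimal h4 (psl2_top_or_solvable q (by omega) 1 hF1 (Or.inl rfl) (Or.inr h5))
  · have : Fact (Nat.Prime 5) := ⟨Nat.prime_five⟩
    have hF1 : Fintype.card F = 5 ^ 1 := by rw [pow_one]; exact hF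
    have : CharP F 5 := charP_of_card_pow 5 1 hF1
    have h4 : 4 ≤ Fintype.card F := by rw [hF]; norm_num
    exact mk_minimal h4 (psl2_top_or_solvable 5 (by norm_num) 1 hF1 (Or.inl rfl) (Or.inl hF))

/-- a copy of `A₅` is a non-solvable proper subgroup when `q ≥ 9` is odd and `5 ∣ q (q² - 1)` -/
theorem exists_A5_nonsolvable (p : ℕ) [Fact p.Prime] [CharP F p] (hp2 : p ≠ 2)
    (h9 : 9 ≤ Fintype.card F) (h5 : 5 ∣ Fintype.card F * (Fintype.card F ^ 2 - 1)) :
    ∃ H : Subgroup PSL(2, F), H ≠ ⊤ ∧ ¬ Group.IsSolvable ↥H := by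
  obtain ⟨H, ⟨e⟩⟩ := (Cfsg.Agent.S0804.result (F := F) rfl).2 h5
  refine ⟨H, ?_, not_solvable_of_iso_A5 e⟩
  rintro rfl
  have hcardH : Nat.card (⊤ : Subgroup PSL(2, F)) = 60 := by
    rw [Nat.card_congr e.toEquiv, nat_card_alternatingGroup, Nat.card_eq_fintype_card,
      Fintype.card_fin]
    rfl
  rw [Subgroup.card_top] at hcardH
  have h2F := two_ne_zero_of_char (F := F) p hp2
  have hc := card_PSL2_odd (F := F) h2F
  rw [hcardH] at hc
  have h81 : 9 ^ 2 ≤ Fintype.card F ^ 2 := Nat.pow_le_pow_left h9 2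
  have hbig : 720 ≤ Fintype.card F * (Fintype.card F ^ 2 - 1) :=
    calc 720 = 9 * (9 ^ 2 - 1) := by norm_num
      _ ≤ Fintype.card F * (Fintype.card F ^ 2 - 1) := Nat.mul_le_mul h9 (by omega)
  omega

/-- PSL_2(q) is minimal simple iff q is 2^r (r prime), 3^r (r an odd prime), a prime greater than 5 congruent to 2 or 3 mod 5, or 5. -/
theorem result {F : Type*} [Field F] [Fintype F] {q : ℕ} (hF : Fintype.card F = q) : Cfsg.IsMinimalSimple (Matrix.ProjectiveSpecialLinearGroup (Fin 2) F) ↔ ((∃ r : ℕ, r.Prime ∧ q = 2 ^ r) ∨ (∃ r : ℕ, r.Prime ∧ r ≠ 2 ∧ q = 3 ^ r) ∨ (q.Prime ∧ 5 < q ∧ (q % 5 = 2 ∨ q % 5 = 3)) ∨ q = 5) := by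
  classical
  constructor
  · rintro ⟨hs, hnc, hsol⟩
    have hnsol : ¬ Group.IsSolvable PSL(2, F) := fun h =>
      hnc (isMulCommutative_iff.2 (IsSimpleGroup.comm_iff_isSolvable.2 h))
    have key : (∃ H : Subgroup PSL(2, F), H ≠ ⊤ ∧ ¬ Group.IsSolvable ↥H) → False := by
      rintro ⟨H, h1, h2⟩
      exact h2 (hsol H h1)
    have hpc : CharP F (ringChar F) := ringChar.charP F
    have hp : (ringChar F).Prime := CharP.char_is_prime F (ringChar F)
    have : Fact (ringChar F).Prime := ⟨hp⟩
    obtain ⟨n, -, hn⟩ := FiniteField.card F (ringChar F)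
    set p := ringChar F with hpdef
    rw [hF] at hn
    have hn0 : (n : ℕ) ≠ 0 := n.ne_zero
    -- the order of `PSL(2,F)` divides `q (q² - 1)`
    have hdvdSL : Nat.card PSL(2, F) ∣ q * (q ^ 2 - 1) := by
      rw [← hF, ← Cfsg.Agent.Lib.Helper5_PSLCard.card_SL_two,
        Cfsg.Agent.Lib.Helper35_PSL2Card.card_SL2_eq_card_PSL2_mul]
      exact dvd_mul_right _ _
    -- `q ≥ 4`
    have hq4 : 4 ≤ q := by
      by_contra hlt
      apply hnsol
      apply isSolvable_of_card_dvd_48
      have hq2 : 2 ≤ q := by rw [← hF]; exact Fintype.one_lt_card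
      have : q = 2 ∨ q = 3 := by omega
      rcases this with h | h <;> rw [h] at hdvdSL
      · exact hdvdSL.trans (by norm_num)
      · exact hdvdSL.trans (by norm_num)
    -- no proper subfield of order at least four
    have hnosub : ∀ d : ℕ, d ∣ (n : ℕ) → d < n → 4 ≤ p ^ d → False := by
      intro d hd hdn h4
      have hd0 : d ≠ 0 := by
        rintro rfl
        rw [pow_zero] at h4
        omega
      exact key (exists_subfield_nonsolvable p n d (by rw [hF, hn]) hd hd0 hdn h4)
    have hp2 : 2 ≤ p := hp.two_le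
    by_cases hp5 : 5 ≤ p
    · -- then `n = 1`
      have hn1 : (n : ℕ) = 1 := by
        by_contra hne
        have h1n : 1 < (n : ℕ) := by omega
        exact hnosub 1 (one_dvd _) h1n (by rw [pow_one]; omega)
      rw [hn1, pow_one] at hn
      by_cases hq5 : q = 5
      · right; right; right; exact hq5
      · have hq7 : 5 < q := by omega
        have hqp : q.Prime := by rw [hn]; exact hp
        by_cases hmod : q % 5 = 2 ∨ q % 5 = 3
        · right; right; left
          exact ⟨hqp, hq7, hmod⟩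
        · exfalso
          have hne0 : q % 5 ≠ 0 := by
            intro h0
            have h5q : 5 ∣ q := Nat.dvd_of_mod_eq_zero h0
            have := (Nat.prime_dvd_prime_iff_eq Nat.prime_five hqp).1 h5q
            omega
          have h14 : q % 5 = 1 ∨ q % 5 = 4 := by omega
          have hsq : q ^ 2 % 5 = 1 := by
            rcases h14 with h | h <;> simp [Nat.pow_mod, h]
          have h5 : 5 ∣ Fintype.card F * (Fintype.card F ^ 2 - 1) := by
            rw [hF]
            apply Dvd.dvd.mul_left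
            exact Nat.dvd_of_mod_eq_zero (Nat.sub_mod_eq_zero_of_mod_eq (by rw [hsq]))
          have hp2' : p ≠ 2 := by omega
          have hq11 : 9 ≤ Fintype.card F := by
            rw [hF]
            by_contra hlt
            have h678 : q = 6 ∨ q = 7 ∨ q = 8 := by omega
            rcases h678 with h | h | h
            · rw [h] at hqp; exact absurd hqp (by norm_num)
            · rw [h] at h14; omega
            · rw [h] at hqp; exact absurd hqp (by norm_num)
          exact key (exists_A5_nonsolvable p hp2' hq11 h5)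
    · -- `p = 2` or `p = 3`: `n` is prime
      have hp23 : p = 2 ∨ p = 3 := by
        have : p = 2 ∨ p = 3 ∨ p = 4 := by omega
        rcases this with h | h | h
        · exact Or.inl h
        · exact Or.inr h
        · rw [h] at hp; norm_num at hp
      have hn2 : 2 ≤ (n : ℕ) := by
        by_contra hlt
        have hn1 : (n : ℕ) = 1 := by omega
        rw [hn1, pow_one] at hn
        omega
      have hnprime : (n : ℕ).Prime := by
        rw [Nat.prime_def]
        refine ⟨hn2, fun m hm => ?_⟩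
        by_contra hcon
        push Not at hcon
        have hmle : m ≤ n := Nat.le_of_dvd (by omega) hm
        have hm0 : m ≠ 0 := by
          rintro rfl
          rw [zero_dvd_iff] at hm
          exact hn0 hm
        have hm2 : 2 ≤ m := by omega
        have hmn : m < n := by omega
        apply hnosub m hm hmn
        calc 4 = 2 ^ 2 := by norm_num
          _ ≤ p ^ 2 := Nat.pow_le_pow_left hp2 2
          _ ≤ p ^ m := Nat.pow_le_pow_right (by omega) hm2
      rcases hp23 with h2 | h3
      · left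
        exact ⟨n, hnprime, by rw [hn, h2]⟩
      · by_cases hn2' : (n : ℕ) = 2
        · exfalso
          have hq9 : q = 9 := by rw [hn, h3, hn2']; norm_num
          have hp2' : p ≠ 2 := by omega
          have h5 : 5 ∣ Fintype.card F * (Fintype.card F ^ 2 - 1) := by
            rw [hF, hq9]; norm_num
          exact key (exists_A5_nonsolvable p hp2' (by rw [hF, hq9]) h5)
        · right; left
          exact ⟨n, hnprime, hn2', by rw [hn, h3]⟩
  · exact minimal_of_list hF

end Cfsg.Agent.S0810
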