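import Cfsg.Statements.S0817
import Cfsg.Agent.Lib.Helper14_OrthPlusAut
import Cfsg.Agent.Lib.Helper14_D4Out

set_option autoImplicit false
open Cfsg

namespace Cfsg.Agent.S0817

/-- |Aut(PΩ⁺_2m(q))| for q = p^f, m ≥ 4: |PΩ⁺_2m(q)| times f, times 3 when m = 4, times 2 if p = 2, and times 8 or 4 if p is odd according as m(q−1)/2 is even or odd. -/
theorem result {F : Type*} [Field F] [Fintype F] (p f : ℕ) [Fact p.Prime] (hf : 1 ≤ f) (hF : Fintype.card F = p ^ f) (m : ℕ) (hm : 4 ≤ m) : Nat.card (MulAut (Cfsg.POmega F (Cfsg.quadFormPlus m F))) = (if m = 4 then 3 else 1) * (if p = 2 then 2 else (if Even (m * (p ^ f - 1) / 2) then 8 else 4)) * f * Nat.card (Cfsg.POmega F (Cfsg.quadFormPlus m F)) := by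
  by_cases h4 : m = 4
  · subst h4
    rw [Cfsg.Agent.Lib.Helper14_D4Out.card_aut_D4 p f hf hF, if_pos rfl]
    congr 3
    by_cases hp : p = 2
    · rw [if_pos hp, if_pos hp]
    · rw [if_neg hp, if_neg hp]
      have hpodd : Odd p := (Fact.out : p.Prime).odd_of_ne_two hp
      obtain ⟨t, ht⟩ := (hpodd.pow : Odd (p ^ f))
      have hmt : 4 * (p ^ f - 1) / 2 = 2 * (2 * t) := by
        rw [ht, Nat.add_sub_cancel]
        omega
      rw [hmt, if_pos (even_two_mul _)]
  · exact Cfsg.Agent.Lib.Helper14_OrthPlusAut.card_aut_plus_main p f hf hF m (by omega)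

end Cfsg.Agent.S0817
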