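import Cfsg.Statements.S0818
import Cfsg.Agent.Lib.Helper14_OrthMinusAut
import Cfsg.Agent.Lib.Helper44_PSLnOut

set_option autoImplicit false
open Cfsg

namespace Cfsg.Agent.S0818

/-- |Aut(PΩ⁻_2m(q))| for q = p^f, m ≥ 4 (form quadFormMinus (m−1) with anisotropic binary part): |PΩ⁻_2m(q)| times f, times 2 if p = 2, and times 4 or 8 if p is odd according as m(q−1)/2 is even or odd. -/
theorem result {F : Type*} [Field F] [Fintype F] (p f : ℕ) [Fact p.Prime] (hf : 1 ≤ f) (hF : Fintype.card F = p ^ f) (m : ℕ) (hm : 4 ≤ m) (a b : F) (hab : ∀ z₁ z₂ : F, z₁ ^ 2 + a * z₁ * z₂ + b * z₂ ^ 2 = 0 → z₁ = 0 ∧ z₂ = 0) : Nat.card (MulAut (Cfsg.POmega F (Cfsg.quadFormMinus (m - 1) F a b))) = (if p = 2 then 2 else (if Even (m * (p ^ f - 1) / 2) then 4 else 8)) * f * Nat.card (Cfsg.POmega F (Cfsg.quadFormMinus (m - 1) F a b)) := by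
  have hm' : 3 ≤ m - 1 := by omega
  have hR := Cfsg.Agent.Lib.Helper44_PSLnOut.card_ringAut hF
  by_cases hp : p = 2
  · subst hp
    rw [if_pos rfl]
    have hch : ringChar F = 2 := by
      apply FiniteField.even_card_iff_char_two.mpr
      rw [hF]
      obtain ⟨k, rfl⟩ : ∃ k, f = k + 1 := ⟨f - 1, by omega⟩
      rw [pow_succ]
      omega
    have h2 : (2 : F) = 0 := by
      have := ringChar.Nat.cast_ringChar (R := F)
      rw [hch] at this
      exact_mod_cast this
    rw [Cfsg.Agent.Lib.Helper14_OrthMinusAut.card_aut_minus_even hm' a b hab h2, hR]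
  · rw [if_neg hp]
    have hpodd : Odd p := (Fact.out : p.Prime).odd_of_ne_two hp
    have hodd : Odd (Fintype.card F) := by
      rw [hF]
      exact hpodd.pow
    rw [Cfsg.Agent.Lib.Helper14_OrthMinusAut.card_aut_minus_odd hm' a b hab hodd, hR, hF]
    have hq : Odd (p ^ f) := hpodd.pow
    obtain ⟨t, ht⟩ := hq
    have hmt : m * (p ^ f - 1) / 2 = m * t := by
      rw [ht, Nat.add_sub_cancel, mul_left_comm, Nat.mul_div_cancel_left _ (by norm_num : 0 < 2)]
    rw [hmt]
    congr 2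
    have hiff : Even (m * t) ↔ ¬ (Even (m - 1) ∧ p ^ f % 4 = 3) := by
      rw [Nat.even_mul, Nat.even_iff, Nat.even_iff, Nat.even_iff]
      omega
    by_cases h1 : Even (m - 1) ∧ p ^ f % 4 = 3
    · rw [if_pos h1, if_neg (fun h => hiff.mp h h1)]
    · rw [if_neg h1, if_pos (hiff.mpr h1)]

end Cfsg.Agent.S0818
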