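import Cfsg.Statements.S0819
import Cfsg.Agent.S2739

set_option autoImplicit false
open Cfsg

namespace Cfsg.Agent.S0819

open Matrix

variable {F : Type*} [Field F] [Fintype F]

/-- A matrix of determinant one commuting with `diag(1, ω, ω²)` has cube one (over a field with
four elements). -/
theorem cube_of_commute (hF : Fintype.card F = 4) (ω : F) (hω0 : ω ≠ 0) (hω1 : ω ≠ 1)
    (G : Matrix (Fin 3) (Fin 3) F) (hdet : G.det = 1)
    (hc : G * Matrix.diagonal ![1, ω, ω ^ 2] = Matrix.diagonal ![1, ω, ω ^ 2] * G) :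
    G * G * G = 1 := by
  have hrel := Cfsg.Agent.S2739.omega_rel hF ω hω0 hω1
  have h2 := Cfsg.Agent.S2739.two_eq_zero hF
  have hcube : ∀ a : F, a ≠ 0 → a ^ 3 = 1 := Cfsg.Agent.S2738.pow_three_eq_one hF
  have hω2 : ω ^ 2 ≠ 1 := by
    intro h
    apply hω0
    linear_combination hrel - h - h2
  have hω3 : ω ^ 2 ≠ ω := by
    intro h
    have : ω * (ω - 1) = 0 := by linear_combination h
    rcases mul_eq_zero.mp this with h' | h'
    · exact hω0 h'
    · exact hω1 (sub_eq_zero.mp h')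
  have hz : ∀ t c : F, c ≠ 0 → t * c = 0 → t = 0 := by
    intro t c hc0 h
    rcases mul_eq_zero.mp h with h' | h'
    · exact h'
    · exact absurd h' hc0
  have ent : ∀ i j, G i j * (![1, ω, ω ^ 2] j) = (![1, ω, ω ^ 2] i) * G i j := by
    intro i j
    have := congrFun (congrFun hc i) j
    rwa [Matrix.mul_diagonal, Matrix.diagonal_mul] at this
  have g01 : G 0 1 = 0 := by
    have := ent 0 1
    simp at this
    exact hz _ (ω - 1) (sub_ne_zero.mpr hω1) (by linear_combination this)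
  have g02 : G 0 2 = 0 := by
    have := ent 0 2
    simp at this
    exact hz _ (ω ^ 2 - 1) (sub_ne_zero.mpr hω2) (by linear_combination this)
  have g10 : G 1 0 = 0 := by
    have := ent 1 0
    simp at this
    exact hz _ (1 - ω) (sub_ne_zero.mpr (Ne.symm hω1)) (by linear_combination this)
  have g12 : G 1 2 = 0 := by
    have := ent 1 2
    simp at this
    exact hz _ (ω ^ 2 - ω) (sub_ne_zero.mpr hω3) (by linear_combination this)
  have g20 : G 2 0 = 0 := by
    have := ent 2 0
    simp at this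
    exact hz _ (1 - ω ^ 2) (sub_ne_zero.mpr (Ne.symm hω2)) (by linear_combination this)
  have g21 : G 2 1 = 0 := by
    have := ent 2 1
    simp at this
    exact hz _ (ω - ω ^ 2) (sub_ne_zero.mpr (Ne.symm hω3)) (by linear_combination this)
  have hd : G 0 0 * G 1 1 * G 2 2 = 1 := by
    rw [Matrix.det_fin_three] at hdet
    rw [g01, g02, g10, g12, g20, g21] at hdet
    linear_combination hdet
  have h00 : G 0 0 ≠ 0 := by
    intro h; rw [h] at hd; simp at hd
  have h11 : G 1 1 ≠ 0 := by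
    intro h; rw [h] at hd; simp at hd
  have h22 : G 2 2 ≠ 0 := by
    intro h; rw [h] at hd; simp at hd
  have c0 := hcube _ h00
  have c1 := hcube _ h11
  have c2 := hcube _ h22
  ext i j
  fin_cases i <;> fin_cases j <;>
    simp [Matrix.mul_apply, Fin.sum_univ_three, g01, g02, g10, g12, g20, g21]
  · linear_combination c0
  · linear_combination c1
  · linear_combination c2

/-- No element of PSL_3(4) has order 15. -/
theorem result {F : Type*} [Field F] [Fintype F] (hF : Fintype.card F = 4) (g : Matrix.ProjectiveSpecialLinearGroup (Fin 3) F) : orderOf g ≠ 15 := by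
  intro h15
  obtain ⟨ω, hω0, hω1⟩ := Cfsg.Agent.S2738.exists_omega hF
  have hw := Cfsg.Agent.S2738.pow_three_eq_one hF ω hω0
  obtain ⟨y, rfl⟩ := QuotientGroup.mk_surjective g
  -- z = y ^ 5 has image of order 3
  have ho3 : orderOf ((QuotientGroup.mk y : Matrix.ProjectiveSpecialLinearGroup (Fin 3) F) ^ 5) = 3 := by
    rw [orderOf_pow' _ (by norm_num), h15]
    norm_num
  have hz1 : (QuotientGroup.mk (y ^ 5) : Matrix.ProjectiveSpecialLinearGroup (Fin 3) F) ≠ 1 := by
    intro h
    rw [QuotientGroup.mk_pow, ← orderOf_eq_one_iff, ho3] at h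
    norm_num at h
  have hzc : y ^ 5 ∉ Subgroup.center (Matrix.SpecialLinearGroup (Fin 3) F) := by
    intro hc
    exact hz1 ((QuotientGroup.eq_one_iff _).mpr hc)
  have hz3 : (y ^ 5) ^ 3 ∈ Subgroup.center (Matrix.SpecialLinearGroup (Fin 3) F) := by
    rw [← QuotientGroup.eq_one_iff, QuotientGroup.mk_pow, QuotientGroup.mk_pow]
    have := pow_orderOf_eq_one ((QuotientGroup.mk y : Matrix.ProjectiveSpecialLinearGroup (Fin 3) F) ^ 5)
    rw [ho3] at this
    exact this
  obtain ⟨h, hh⟩ := Cfsg.Agent.S2739.normal_form hF ω hω0 hω1 hw (y ^ 5) hzc hz3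
  -- g' = h⁻¹ y h commutes with a
  set a := Cfsg.Agent.S2738.matA ω hw with ha
  have hcomm : (h⁻¹ * y * h) * a = a * (h⁻¹ * y * h) := by
    have e1 : a = h⁻¹ * y ^ 5 * h := by
      calc a = h⁻¹ * (h * a) := by group
        _ = h⁻¹ * (y ^ 5 * h) := by rw [hh]
        _ = h⁻¹ * y ^ 5 * h := by group
    rw [e1]
    have : y * y ^ 5 = y ^ 5 * y := by rw [← pow_succ', ← pow_succ]
    calc h⁻¹ * y * h * (h⁻¹ * y ^ 5 * h) = h⁻¹ * (y * y ^ 5) * h := by group
      _ = h⁻¹ * (y ^ 5 * y) * h := by rw [this]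
      _ = h⁻¹ * y ^ 5 * h * (h⁻¹ * y * h) := by group
  have hcomm' : ((h⁻¹ * y * h : Matrix.SpecialLinearGroup (Fin 3) F) : Matrix (Fin 3) (Fin 3) F) *
      Matrix.diagonal ![1, ω, ω ^ 2] = Matrix.diagonal ![1, ω, ω ^ 2] *
      ((h⁻¹ * y * h : Matrix.SpecialLinearGroup (Fin 3) F) : Matrix (Fin 3) (Fin 3) F) := by
    have := congrArg (fun M : Matrix.SpecialLinearGroup (Fin 3) F => (M : Matrix (Fin 3) (Fin 3) F)) hcomm
    simp only [Matrix.SpecialLinearGroup.coe_mul] at this
    rw [ha, Cfsg.Agent.S2739.matA_coe] at this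
    simpa only [Matrix.SpecialLinearGroup.coe_mul] using this
  have hcube := cube_of_commute hF ω hω0 hω1 _ (h⁻¹ * y * h).det_coe hcomm'
  have hg3 : (h⁻¹ * y * h) ^ 3 = 1 := by
    apply Subtype.ext
    rw [Matrix.SpecialLinearGroup.coe_pow, pow_succ, pow_two]
    exact hcube
  have hy3 : y ^ 3 = 1 := by
    have : (h⁻¹ * y * h) ^ 3 = h⁻¹ * y ^ 3 * h := by
      rw [pow_three, pow_three]; group
    rw [this] at hg3
    calc y ^ 3 = h * (h⁻¹ * y ^ 3 * h) * h⁻¹ := by group
      _ = 1 := by rw [hg3]; group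
  have : orderOf (QuotientGroup.mk y : Matrix.ProjectiveSpecialLinearGroup (Fin 3) F) ∣ 3 := by
    apply orderOf_dvd_of_pow_eq_one
    rw [← QuotientGroup.mk_pow, hy3]; rfl
  rw [h15] at this
  norm_num at this

end Cfsg.Agent.S0819
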