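import Cfsg.Statements.S0820
import Cfsg.Agent.S2739

set_option autoImplicit false
open Cfsg

namespace Cfsg.Agent.S0820

open Matrix

section LinAlg

variable {F : Type*} [Field F]

/-- If `N² = 0` for a `3 × 3` matrix, the kernel of `N` is not contained in a line. -/
theorem exists_ker_vector (N : Matrix (Fin 3) (Fin 3) F) (hN2 : N * N = 0) (a : Fin 3 → F) :
    ∃ b : Fin 3 → F, N *ᵥ b = 0 ∧ ∀ s : F, b ≠ s • a := by
  by_contra hcon
  push Not at hcon
  set f : (Fin 3 → F) →ₗ[F] (Fin 3 → F) := Matrix.mulVecLin N with hf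
  have hrk : LinearMap.range f ≤ LinearMap.ker f := by
    rintro _ ⟨v, rfl⟩
    rw [LinearMap.mem_ker, hf, Matrix.mulVecLin_apply, Matrix.mulVecLin_apply, Matrix.mulVec_mulVec,
      hN2, Matrix.zero_mulVec]
  have hsum := LinearMap.finrank_range_add_finrank_ker f
  rw [Module.finrank_fin_fun] at hsum
  have h1 := Submodule.finrank_mono hrk
  have hker : LinearMap.ker f ≤ Submodule.span F {a} := by
    intro b hb
    rw [LinearMap.mem_ker, hf, Matrix.mulVecLin_apply] at hb
    obtain ⟨s, hs⟩ := hcon b hb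
    rw [hs]
    exact Submodule.smul_mem _ _ (Submodule.subset_span rfl)
  have h2 := Submodule.finrank_mono hker
  have h3 : Module.finrank F (Submodule.span F {a}) ≤ 1 := by
    have := finrank_span_le_card (R := F) ({a} : Set (Fin 3 → F))
    simpa using this
  omega

/-- Normal form of a nontrivial involution of `GL₃` in characteristic two. -/
theorem exists_conj_unip (h2 : (2 : F) = 0) (x : Matrix (Fin 3) (Fin 3) F) (hx2 : x * x = 1)
    (hx1 : x ≠ 1) :
    ∃ g : Matrix (Fin 3) (Fin 3) F, g.det = 1 ∧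
      x * g = g * !![1, 0, 1; 0, 1, 0; 0, 0, 1] := by
  set N : Matrix (Fin 3) (Fin 3) F := x - 1 with hN
  have hN2 : N * N = 0 := by
    rw [hN, Matrix.sub_mul, Matrix.mul_sub, Matrix.mul_sub, hx2, Matrix.one_mul, Matrix.mul_one,
      Matrix.one_mul]
    have : (1 : Matrix (Fin 3) (Fin 3) F) - x - (x - 1) = (2 : F) • (1 - x) := by
      rw [two_smul]; abel
    rw [this, h2, zero_smul]
  have hN0 : N ≠ 0 := by
    intro h
    apply hx1
    rw [hN, sub_eq_zero] at h
    exact h
  -- a vector outside the kernel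
  obtain ⟨c, hc⟩ : ∃ c : Fin 3 → F, N *ᵥ c ≠ 0 := by
    by_contra hcon
    push Not at hcon
    apply hN0
    ext i j
    have := congrFun (hcon (Pi.single j 1)) i
    simpa using this
  set a := N *ᵥ c with ha
  have hNa : N *ᵥ a = 0 := by
    rw [ha, Matrix.mulVec_mulVec, hN2, Matrix.zero_mulVec]
  obtain ⟨b, hNb, hb⟩ := exists_ker_vector N hN2 a
  have hxv : ∀ v : Fin 3 → F, x *ᵥ v = N *ᵥ v + v := by
    intro v
    rw [hN, Matrix.sub_mulVec, Matrix.one_mulVec]; abel
  set g₀ : Matrix (Fin 3) (Fin 3) F := Matrix.of fun r k => ![a, b, c] k r with hg₀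
  set T : Matrix (Fin 3) (Fin 3) F := !![1, 0, 1; 0, 1, 0; 0, 0, 1] with hT
  have hxg : x * g₀ = g₀ * T := by
    ext r k
    have e0 := congrFun (hxv a) r
    have e1 := congrFun (hxv b) r
    have e2 := congrFun (hxv c) r
    rw [hNa] at e0
    rw [hNb] at e1
    rw [← ha] at e2
    simp only [Matrix.mulVec, dotProduct, Fin.sum_univ_three, Pi.add_apply, Pi.zero_apply,
      zero_add] at e0 e1 e2
    fin_cases k
    · simp only [Matrix.mul_apply, Fin.sum_univ_three, hg₀, hT, Matrix.of_apply]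
      simpa using e0
    · simp only [Matrix.mul_apply, Fin.sum_univ_three, hg₀, hT, Matrix.of_apply]
      simpa using e1
    · simp only [Matrix.mul_apply, Fin.sum_univ_three, hg₀, hT, Matrix.of_apply]
      simpa using e2
  have hdet : g₀.det ≠ 0 := by
    intro hd
    obtain ⟨k, hk, hk0⟩ := Matrix.exists_mulVec_eq_zero_iff.mpr hd
    -- k 0 • a + k 1 • b + k 2 • c = 0
    have hsum : k 0 • a + k 1 • b + k 2 • c = 0 := by
      funext r
      have := congrFun hk0 r
      simp only [Matrix.mulVec, dotProduct, Fin.sum_univ_three, hg₀, Matrix.of_apply,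
        Pi.zero_apply] at this
      simp only [Pi.add_apply, Pi.smul_apply, smul_eq_mul, Pi.zero_apply]
      simp at this
      linear_combination this
    have h3 : k 2 = 0 := by
      have := congrArg (fun v => N *ᵥ v) hsum
      simp only [Matrix.mulVec_add, Matrix.mulVec_smul, hNa, hNb, smul_zero, zero_add,
        Matrix.mulVec_zero] at this
      rw [← ha] at this
      rcases smul_eq_zero.mp this with h | h
      · exact h
      · exact absurd h hc
    rw [h3, zero_smul, add_zero] at hsum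
    have h2' : k 1 = 0 := by
      by_contra hk1
      apply hb (-(k 1)⁻¹ * k 0)
      have : k 1 • b = -(k 0 • a) := by
        rw [eq_neg_iff_add_eq_zero, add_comm]; exact hsum
      calc b = (k 1)⁻¹ • (k 1 • b) := by rw [smul_smul, inv_mul_cancel₀ hk1, one_smul]
        _ = (-(k 1)⁻¹ * k 0) • a := by rw [this, smul_neg, smul_smul]; simp
    rw [h2', zero_smul, add_zero] at hsum
    have h1 : k 0 = 0 := by
      rcases smul_eq_zero.mp hsum with h | h
      · exact h
      · exact absurd h hc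
    apply hk
    funext j
    fin_cases j
    · exact h1
    · exact h2'
    · exact h3
  set s : Matrix (Fin 3) (Fin 3) F := Matrix.diagonal ![1, (g₀.det)⁻¹, 1] with hs
  refine ⟨g₀ * s, ?_, ?_⟩
  · rw [Matrix.det_mul, hs, Matrix.det_diagonal, Fin.prod_univ_three]
    simp [hdet]
  · have hcomm : T * s = s * T := by
      ext i j
      rw [hs, Matrix.mul_diagonal, Matrix.diagonal_mul]
      fin_cases i <;> fin_cases j <;> simp [hT]
    rw [← Matrix.mul_assoc, hxg, Matrix.mul_assoc, hcomm, ← Matrix.mul_assoc]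

end LinAlg

section Grp

variable {F : Type*} [Field F] [Fintype F]

omit [Fintype F] in
theorem det_T : (!![1, 0, 1; 0, 1, 0; 0, 0, 1] : Matrix (Fin 3) (Fin 3) F).det = 1 := by
  rw [Matrix.det_fin_three]; simp

/-- the standard transvection -/
def tEl (F : Type*) [Field F] : Matrix.SpecialLinearGroup (Fin 3) F :=
  Cfsg.Agent.S2739.mkSL3 _ det_T

theorem normal_form_inv (hF : Fintype.card F = 4)
    (xb : Matrix.ProjectiveSpecialLinearGroup (Fin 3) F) (hx : orderOf xb = 2) :
    ∃ g : Matrix.SpecialLinearGroup (Fin 3) F,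
      xb = QuotientGroup.mk (g * tEl F * g⁻¹) := by
  have h2 := Cfsg.Agent.S2739.two_eq_zero hF
  obtain ⟨x₀, rfl⟩ := QuotientGroup.mk_surjective xb
  have hsq : (QuotientGroup.mk x₀ : Matrix.ProjectiveSpecialLinearGroup (Fin 3) F) ^ 2 = 1 := by
    rw [← hx]; exact pow_orderOf_eq_one _
  have hc : x₀ ^ 2 ∈ Subgroup.center (Matrix.SpecialLinearGroup (Fin 3) F) := by
    rw [← QuotientGroup.eq_one_iff, QuotientGroup.mk_pow]; exact hsq
  -- the lift x = x₀ ^ 3
  have hz3 : (x₀ ^ 2) ^ 3 = 1 := by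
    have hcard := Cfsg.Agent.S2738.card_center hF
    have := pow_card_eq_one' (G := Subgroup.center (Matrix.SpecialLinearGroup (Fin 3) F))
      (x := ⟨x₀ ^ 2, hc⟩)
    rw [hcard] at this
    exact congrArg Subtype.val this
  have hmk : (QuotientGroup.mk (x₀ ^ 3) : Matrix.ProjectiveSpecialLinearGroup (Fin 3) F) =
      QuotientGroup.mk x₀ := by
    rw [QuotientGroup.mk_pow, pow_succ, hsq, one_mul]
  have hx2 : (x₀ ^ 3) * (x₀ ^ 3) = 1 := by
    rw [← pow_add]
    have : 3 + 3 = 2 * 3 := by norm_num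
    rw [this, pow_mul]; exact hz3
  have hx1 : x₀ ^ 3 ≠ 1 := by
    intro h
    have h1 : (QuotientGroup.mk x₀ : Matrix.ProjectiveSpecialLinearGroup (Fin 3) F) = 1 := by
      rw [← hmk, h]; rfl
    rw [← orderOf_eq_one_iff, hx] at h1
    norm_num at h1
  have hX2 : ((x₀ ^ 3 : Matrix.SpecialLinearGroup (Fin 3) F) : Matrix (Fin 3) (Fin 3) F) *
      ((x₀ ^ 3 : Matrix.SpecialLinearGroup (Fin 3) F) : Matrix (Fin 3) (Fin 3) F) = 1 := by
    rw [← Matrix.SpecialLinearGroup.coe_mul, hx2, Matrix.SpecialLinearGroup.coe_one]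
  have hX1 : ((x₀ ^ 3 : Matrix.SpecialLinearGroup (Fin 3) F) : Matrix (Fin 3) (Fin 3) F) ≠ 1 := by
    intro h
    apply hx1
    apply Subtype.ext
    rw [h, Matrix.SpecialLinearGroup.coe_one]
  obtain ⟨g, hgdet, hg⟩ := exists_conj_unip h2 _ hX2 hX1
  refine ⟨Cfsg.Agent.S2739.mkSL3 g hgdet, ?_⟩
  rw [← hmk]
  congr 1
  have e : x₀ ^ 3 * Cfsg.Agent.S2739.mkSL3 g hgdet = Cfsg.Agent.S2739.mkSL3 g hgdet * tEl F := by
    apply Subtype.ext
    rw [Matrix.SpecialLinearGroup.coe_mul, Matrix.SpecialLinearGroup.coe_mul,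
      Cfsg.Agent.S2739.coe_mkSL3]
    exact hg
  calc x₀ ^ 3 = x₀ ^ 3 * Cfsg.Agent.S2739.mkSL3 g hgdet * (Cfsg.Agent.S2739.mkSL3 g hgdet)⁻¹ := by
        group
    _ = _ := by rw [e]

end Grp

/-- Any two elements of order 2 of PSL_3(4) are conjugate. -/
theorem result {F : Type*} [Field F] [Fintype F] (hF : Fintype.card F = 4) (x y : Matrix.ProjectiveSpecialLinearGroup (Fin 3) F) (hx : orderOf x = 2) (hy : orderOf y = 2) : IsConj x y := by
  obtain ⟨gx, rfl⟩ := normal_form_inv hF x hx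
  obtain ⟨gy, rfl⟩ := normal_form_inv hF y hy
  rw [isConj_iff]
  refine ⟨QuotientGroup.mk (gy * gx⁻¹), ?_⟩
  rw [← QuotientGroup.mk_inv, ← QuotientGroup.mk_mul, ← QuotientGroup.mk_mul]
  congr 1
  group

end Cfsg.Agent.S0820
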