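import Cfsg.Statements.S0822
import Cfsg.Agent.S0246
import Cfsg.Agent.Lib.Helper5_SpOrder
import Cfsg.Agent.Lib.Helper5_SUOrder
import Cfsg.Agent.Lib.Helper13_SU
import Cfsg.Agent.Lib.Helper61_SUTransfer
import Cfsg.Agent.Lib.Helper61_TableHom
import Cfsg.Agent.Lib.Helper61_Sp43Gen

set_option autoImplicit false
open Cfsg

namespace Cfsg.Agent.S0822

open Matrix Cfsg.Agent.Lib.Helper61_F4 Cfsg.Agent.Lib.Helper61_U42Table
  Cfsg.Agent.Lib.Helper61_U42Bridge Cfsg.Agent.Lib.Helper61_Sp43Gen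
  Cfsg.Agent.Lib.Helper61_TableHom Cfsg.Agent.Lib.Helper61_SUTransfer

abbrev G4 := ↥(Cfsg.SU 4 F4 2)
abbrev P3 := Cfsg.PSp 2 (ZMod 3)

/-- The generators as elements of `SU₄(2)`. -/
def gen (s : Fin 3) : G4 := ⟨⟨genA s, genA_det s⟩, mem_SU_of_cols4 _ (genA_cols s)⟩

theorem gen_inv (s : Fin 3) : ∃ s', (gen s)⁻¹ = gen s' := by
  have h := genA_inv
  fin_cases s
  · refine ⟨0, ?_⟩
    symm
    apply eq_inv_of_mul_eq_one_left
    apply Subtype.ext; apply Subtype.ext
    exact h.1
  · refine ⟨2, ?_⟩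
    symm
    apply eq_inv_of_mul_eq_one_left
    apply Subtype.ext; apply Subtype.ext
    exact h.2.2
  · refine ⟨1, ?_⟩
    symm
    apply eq_inv_of_mul_eq_one_left
    apply Subtype.ext; apply Subtype.ext
    exact h.2.1

/-- The table knows `g`, and its value is symplectic. -/
def Good (g : G4) : Prop := entry g.1.1 ≠ 0 ∧ T g.1.1 ∈ Sp

theorem good_one : Good 1 := by
  refine ⟨entry_one.1, ?_⟩
  show T 1 ∈ Sp
  rw [entry_one.2]
  exact one_mem _

theorem good_mul_gen (g : G4) (s : Fin 3) (hg : Good g) : Good (g * gen s) := by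
  obtain ⟨h1, h2⟩ := step g.1.1 s hg.1
  refine ⟨h1, ?_⟩
  show T (g.1.1 * genA s) ∈ Sp
  rcases h2 with h | h
  · rw [h]; exact mul_mem hg.2 (genS_mem s)
  · rw [h]; exact SymplecticGroup.neg_mem (mul_mem hg.2 (genS_mem s))

abbrev H : Subgroup G4 := Subgroup.closure (Set.range gen)

theorem good_of_mem (g : G4) (hg : g ∈ H) : Good g := by
  induction hg using Subgroup.closure_induction_right with
  | one => exact good_one
  | mul_right x hx y hy ih =>
    obtain ⟨s, rfl⟩ := hy
    exact good_mul_gen x s ih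
  | mul_inv_cancel x hx y hy ih =>
    obtain ⟨s, rfl⟩ := hy
    obtain ⟨s', hs'⟩ := gen_inv s
    rw [hs']
    exact good_mul_gen x s' ih

/-- `-1` as an element of `Sp₄(3)`. -/
def negOne : Sp := ⟨-1, SymplecticGroup.neg_mem (one_mem _)⟩

theorem negOne_mem_center : negOne ∈ Subgroup.center Sp := by
  rw [Subgroup.mem_center_iff]
  intro X
  apply Subtype.ext
  show X.1 * (-1) = (-1) * X.1
  rw [mul_neg, mul_one, neg_mul, one_mul]

/-- The quotient map identifies `A` and `-A`. -/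
theorem mk_eq_of_pm (A B : Sp) (h : B.1 = A.1 ∨ B.1 = -A.1) :
    (QuotientGroup.mk B : P3) = QuotientGroup.mk A := by
  rcases h with h | h
  · rw [Subtype.ext h]
  · have hB : B = negOne * A := by
      apply Subtype.ext
      show B.1 = (-1) * A.1
      rw [h, neg_mul, one_mul]
    rw [hB, QuotientGroup.mk_mul, (QuotientGroup.eq_one_iff negOne).2 negOne_mem_center, one_mul]

open Classical in
/-- The table map into `PSp₄(3)`. -/
noncomputable def Φ0 (g : G4) : P3 :=
  if hm : T g.1.1 ∈ Sp then (QuotientGroup.mk (⟨T g.1.1, hm⟩ : Sp) : P3) else 1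

theorem Φ0_of_good (g : G4) (hg : Good g) :
    Φ0 g = (QuotientGroup.mk (⟨T g.1.1, hg.2⟩ : Sp) : P3) := dif_pos hg.2

theorem Φ0_mul_gen (g : G4) (s : Fin 3) (hg : Good g) :
    Φ0 (g * gen s) = Φ0 g * (QuotientGroup.mk (genSp s) : P3) := by
  have hgs := good_mul_gen g s hg
  rw [Φ0_of_good _ hgs, Φ0_of_good _ hg, ← QuotientGroup.mk_mul]
  apply mk_eq_of_pm
  exact (step g.1.1 s hg.1).2

theorem Φ0_one : Φ0 1 = 1 := by
  rw [Φ0_of_good _ good_one]
  have : (⟨T (1 : G4).1.1, good_one.2⟩ : Sp) = 1 := Subtype.ext entry_one.2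
  rw [this]
  rfl

theorem Φ0_gen (s : Fin 3) : Φ0 (gen s) = (QuotientGroup.mk (genSp s) : P3) := by
  have h := Φ0_mul_gen 1 s good_one
  rwa [one_mul, Φ0_one, one_mul] at h

noncomputable def φ (h : ↥H) : P3 := Φ0 h.1

theorem φ_mul (g h : ↥H) : φ (g * h) = φ g * φ h := by
  apply map_mul_of_closure φ (((↑) : ↥H → G4) ⁻¹' Set.range gen)
    Subgroup.closure_closure_coe_preimage
  · exact Φ0_one
  · rintro g s ⟨t, ht⟩
    show Φ0 (g.1 * s.1) = Φ0 g.1 * Φ0 s.1
    rw [← ht, Φ0_mul_gen _ _ (good_of_mem g.1 g.2), Φ0_gen]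

/-- The homomorphism `⟨gen⟩ → PSp₄(3)`. -/
noncomputable def Φ : ↥H →* P3 := MonoidHom.mk' φ φ_mul

theorem Φ_surjective : Function.Surjective Φ := by
  intro x
  obtain ⟨A, rfl⟩ := QuotientGroup.mk_surjective x
  have hA : A ∈ Subgroup.closure (Set.range genSp) := by rw [closure_genSp]; trivial
  have hle : Subgroup.closure (Set.range genSp) ≤
      (Φ.range).comap (QuotientGroup.mk' (Subgroup.center Sp)) := by
    rw [Subgroup.closure_le]
    rintro _ ⟨s, rfl⟩
    exact ⟨⟨gen s, Subgroup.subset_closure ⟨s, rfl⟩⟩, Φ0_gen s⟩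
  exact hle hA

theorem card_G4 : Nat.card G4 = 25920 := by
  have h := Cfsg.Agent.Lib.Helper5_SUOrder.card_SU (F := F4) (q := 2) (by rw [F4.card]; norm_num) 4
    (by norm_num)
  have e : 2 ^ (4 * (4 - 1) / 2) * ∏ i ∈ Finset.range 4,
      (if Even i then 2 ^ (i + 1) + 1 else 2 ^ (i + 1) - 1) = 77760 := by decide
  rw [e] at h
  show Nat.card ↥(Cfsg.SU 4 F4 2) = 25920
  omega

theorem card_P3 : Nat.card P3 = 25920 := by
  have h1 := Cfsg.Agent.Lib.Helper5_SpOrder.card_sp (F := ZMod 3) (q := 3) (ZMod.card 3) 2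
  have h2 := Cfsg.Agent.S0246.result (F := ZMod 3) (q := 3) (ZMod.card 3) 2 (by norm_num)
  have h3 := Subgroup.card_eq_card_quotient_mul_card_subgroup (Subgroup.center Sp)
  have e : 3 ^ (2 ^ 2) * ∏ i ∈ Finset.range 2, (3 ^ (2 * (i + 1)) - 1) = 51840 := by decide
  rw [e] at h1
  have e2 : Nat.gcd 2 (3 - 1) = 2 := by decide
  rw [e2] at h2
  rw [h1, h2] at h3
  show Nat.card (Sp ⧸ Subgroup.center Sp) = 25920
  omega

theorem H_eq_top : H = ⊤ := by
  apply Subgroup.eq_top_of_le_card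
  have h1 := Nat.card_le_card_of_surjective Φ Φ_surjective
  rw [card_P3] at h1
  rw [card_G4]
  exact h1

theorem Φ_bijective : Function.Bijective Φ := by
  apply Function.Surjective.bijective_of_nat_card_le Φ_surjective
  rw [card_P3]
  calc Nat.card ↥H ≤ Nat.card G4 := Subgroup.card_le_card_group H
    _ = 25920 := card_G4

theorem center_G4 : Subgroup.center G4 = ⊥ := by
  apply Subgroup.eq_bot_of_card_eq
  rw [Cfsg.Agent.Lib.Helper13_SU.card_center (F := F4) (n := 4) (q := 2) (by rw [F4.card]; norm_num)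
    (by norm_num)]
  decide

/-- `PSU₄(2) ≃* PSp₄(3)` for the model fields. -/
noncomputable def mainEquiv : Cfsg.PSU 4 F4 2 ≃* P3 :=
  ((QuotientGroup.quotientMulEquivOfEq center_G4).trans QuotientGroup.quotientBot).trans
    ((Subgroup.topEquiv.symm.trans (MulEquiv.subgroupCongr H_eq_top.symm)).trans
      (MulEquiv.ofBijective Φ Φ_bijective))

section transfer

variable {l : Type*} [DecidableEq l] [Fintype l] {R S : Type*} [CommRing R] [CommRing S]

/-- The symplectic groups of isomorphic rings. -/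
def spEquiv (e : R ≃+* S) : Matrix.symplecticGroup l R ≃* Matrix.symplecticGroup l S where
  toFun A := ⟨A.1.map (e : R →+* S), SymplecticGroup.map_mem A.2 (e : R →+* S)⟩
  invFun A := ⟨A.1.map (e.symm : S →+* R), SymplecticGroup.map_mem A.2 (e.symm : S →+* R)⟩
  left_inv A := by
    apply Subtype.ext
    ext i j
    simp
  right_inv A := by
    apply Subtype.ext
    ext i j
    simp
  map_mul' A B := by
    apply Subtype.ext
    show (A.1 * B.1).map (e : R →+* S) = A.1.map (e : R →+* S) * B.1.map (e : R →+* S)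
    exact Matrix.map_mul

/-- The projective symplectic groups of isomorphic rings. -/
noncomputable def pspEquiv (e : R ≃+* S) :
    Matrix.symplecticGroup l R ⧸ Subgroup.center (Matrix.symplecticGroup l R) ≃*
      Matrix.symplecticGroup l S ⧸ Subgroup.center (Matrix.symplecticGroup l S) :=
  QuotientGroup.congr _ _ (spEquiv e) (map_center_of_mulEquiv (spEquiv e))

end transfer

/-- PSU_4(2) ≅ PSp_4(3): with |F| = 4 and |K| = 3, the projective special unitary group of the standard Hermitian form on F^4 is isomorphic to PSp_4(K). -/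
theorem result {F K : Type*} [Field F] [Fintype F] [Field K] [Fintype K] (hF : Fintype.card F = 4) (hK : Fintype.card K = 3) : Nonempty (Cfsg.PSU 4 F 2 ≃* Cfsg.PSp 2 K) := by
  have e1 : F ≃+* F4 := ringEquivF4 hF
  have e2 : ZMod 3 ≃+* K := ZMod.ringEquivOfPrime K Nat.prime_three hK
  exact ⟨(psuEquiv e1).trans (mainEquiv.trans (pspEquiv e2))⟩

end Cfsg.Agent.S0822
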