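import Cfsg.Statements.S0823
import Cfsg.Agent.Lib.Helper61_IsometryTransfer

set_option autoImplicit false
open Cfsg

namespace Cfsg.Agent.S0823

open Matrix Cfsg.Agent.Lib.Helper61_IsometryTransfer

abbrev K := ZMod 3
abbrev ι := Unit ⊕ (Fin 1 ⊕ Fin 1)

def ofI : ι → Fin 3
  | .inl () => 0
  | .inr (.inl _) => 1
  | .inr (.inr _) => 2

/-- basis of the sum-zero subspace of `K^4` (columns), in which the form "sum of squares" is
`-(x₀² + x₁ y₁)`. -/
def R : Fin 4 → Fin 3 → K := ![![1, 1, -1], ![-1, 1, -1], ![0, 1, 0], ![0, 0, -1]]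
/-- coordinate functionals for the basis `R`. -/
def P : Fin 3 → Fin 4 → K := ![![-1, 1, 0, 0], ![-1, -1, 0, -1], ![1, 1, 1, 0]]

def sgn (σ : Equiv.Perm (Fin 4)) : K := ((Equiv.Perm.sign σ : ℤˣ) : ℤ)

/-- the matrix of `sign σ • σ` acting on the sum-zero subspace of `K^4`. -/
def ψmat (σ : Equiv.Perm (Fin 4)) : Matrix ι ι K :=
  Matrix.of fun i j => sgn σ * ∑ a : Fin 4, P (ofI i) a * R (σ⁻¹ a) (ofI j)

def cols (c0 c1 c2 : ι → K) : Matrix ι ι K :=
  Matrix.of fun i j => match j with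
    | .inl () => c0 i
    | .inr (.inl _) => c1 i
    | .inr (.inr _) => c2 i

abbrev Q : (ι → K) → K := Cfsg.quadFormOdd 1 K

set_option maxRecDepth 100000 in
theorem ψmat_mul : ∀ σ τ : Equiv.Perm (Fin 4), ψmat (σ * τ) = ψmat σ * ψmat τ := by
  decide +kernel

set_option maxRecDepth 100000 in
theorem ψmat_one : ψmat 1 = 1 := by
  decide +kernel

set_option maxRecDepth 100000 in
theorem ψmat_pres : ∀ σ : Equiv.Perm (Fin 4),
    (∀ u : ι → K, Q (ψmat σ *ᵥ u) = Q u) ∧ (ψmat σ).det = 1 := by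
  decide +kernel

set_option maxRecDepth 100000 in
theorem ψmat_inj : ∀ σ : Equiv.Perm (Fin 4), ψmat σ = 1 → σ = 1 := by
  decide +kernel

set_option maxRecDepth 100000 in
set_option synthInstance.maxSize 1000 in
set_option synthInstance.maxHeartbeats 200000 in
theorem ψmat_surj : ∀ c1 : ι → K, Q c1 = 0 → ∀ c2 : ι → K, (Q c2 = 0 ∧ Q (c1 + c2) = 1) →
    ∀ c0 : ι → K, (Q c0 = 1 ∧ Q (c0 + c1) = 1 ∧ Q (c0 + c2) = 1) → (cols c0 c1 c2).det = 1 →
    ∃ σ : Equiv.Perm (Fin 4), cols c0 c1 c2 = ψmat σ := by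
  decide +kernel

/-- `ψmat σ` as an element of `GL`. -/
def ψGL (σ : Equiv.Perm (Fin 4)) : Matrix.GeneralLinearGroup ι K :=
  ⟨ψmat σ, ψmat σ⁻¹, by rw [← ψmat_mul, mul_inv_cancel, ψmat_one],
    by rw [← ψmat_mul, inv_mul_cancel, ψmat_one]⟩

theorem ψGL_mem (σ : Equiv.Perm (Fin 4)) : ψGL σ ∈ isometryGroup K Q :=
  (mem_isometryGroup_iff Q (ψGL σ)).2 (ψmat_pres σ).1

theorem ψGL_mem' (σ : Equiv.Perm (Fin 4)) :
    (⟨ψGL σ, ψGL_mem σ⟩ : isometryGroup K Q) ∈ specialIsometryGroup K Q :=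
  (mem_specialIsometryGroup_iff Q _).2 (ψmat_pres σ).2

/-- the homomorphism `S₄ → SO₃(3)`. -/
def ψ : Equiv.Perm (Fin 4) →* specialIsometryGroup K Q where
  toFun σ := ⟨⟨ψGL σ, ψGL_mem σ⟩, ψGL_mem' σ⟩
  map_one' := by
    apply Subtype.ext; apply Subtype.ext; apply Units.ext
    exact ψmat_one
  map_mul' σ τ := by
    apply Subtype.ext; apply Subtype.ext; apply Units.ext
    exact ψmat_mul σ τ

theorem ψ_coe (σ : Equiv.Perm (Fin 4)) :
    ((((ψ σ : specialIsometryGroup K Q) : isometryGroup K Q) :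
      Matrix.GeneralLinearGroup ι K) : Matrix ι ι K) = ψmat σ := rfl

theorem ψ_injective : Function.Injective ψ := by
  rw [injective_iff_map_eq_one]
  intro σ h
  apply ψmat_inj
  rw [← ψ_coe, h]
  rfl

theorem Q_e1 : Q (Pi.single (.inr (.inl 0)) 1) = 0 := by decide +kernel
theorem Q_e2 : Q (Pi.single (.inr (.inr 0)) 1) = 0 := by decide +kernel
theorem Q_e0 : Q (Pi.single (.inl ()) 1) = 1 := by decide +kernel
theorem Q_e12 : Q (Pi.single (.inr (.inl 0)) 1 + Pi.single (.inr (.inr 0)) 1) = 1 := by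
  decide +kernel
theorem Q_e01 : Q (Pi.single (.inl ()) 1 + Pi.single (.inr (.inl 0)) 1) = 1 := by
  decide +kernel
theorem Q_e02 : Q (Pi.single (.inl ()) 1 + Pi.single (.inr (.inr 0)) 1) = 1 := by
  decide +kernel

theorem ψ_surjective : Function.Surjective ψ := by
  intro g
  obtain ⟨M, hM⟩ : ∃ M : Matrix ι ι K,
    M = (((g : isometryGroup K Q) : Matrix.GeneralLinearGroup ι K) : Matrix ι ι K) := ⟨_, rfl⟩
  have hpres : ∀ u, Q (M *ᵥ u) = Q u := by
    rw [hM]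
    exact (mem_isometryGroup_iff Q _).1 (g : isometryGroup K Q).2
  have hdet : M.det = 1 := by
    rw [hM]
    exact (mem_specialIsometryGroup_iff Q _).1 g.2
  have hcols : M = cols (M *ᵥ Pi.single (.inl ()) 1) (M *ᵥ Pi.single (.inr (.inl 0)) 1)
      (M *ᵥ Pi.single (.inr (.inr 0)) 1) := by
    ext i j
    rcases j with ⟨⟩ | j | j
    · simp [cols]
    · have : j = 0 := Subsingleton.elim _ _
      subst this
      simp [cols]
    · have : j = 0 := Subsingleton.elim _ _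
      subst this
      simp [cols]
  have h1 : Q (M *ᵥ Pi.single (.inr (.inl 0)) 1) = 0 := by rw [hpres, Q_e1]
  have h2 : Q (M *ᵥ Pi.single (.inr (.inr 0)) 1) = 0 := by rw [hpres, Q_e2]
  have h0 : Q (M *ᵥ Pi.single (.inl ()) 1) = 1 := by rw [hpres, Q_e0]
  have h12 : Q (M *ᵥ Pi.single (.inr (.inl 0)) 1 + M *ᵥ Pi.single (.inr (.inr 0)) 1) = 1 := by
    rw [← Matrix.mulVec_add, hpres, Q_e12]
  have h01 : Q (M *ᵥ Pi.single (.inl ()) 1 + M *ᵥ Pi.single (.inr (.inl 0)) 1) = 1 := by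
    rw [← Matrix.mulVec_add, hpres, Q_e01]
  have h02 : Q (M *ᵥ Pi.single (.inl ()) 1 + M *ᵥ Pi.single (.inr (.inr 0)) 1) = 1 := by
    rw [← Matrix.mulVec_add, hpres, Q_e02]
  have hdet' : (cols (M *ᵥ Pi.single (.inl ()) 1) (M *ᵥ Pi.single (.inr (.inl 0)) 1)
      (M *ᵥ Pi.single (.inr (.inr 0)) 1)).det = 1 := by rw [← hcols]; exact hdet
  obtain ⟨σ, hσ⟩ := ψmat_surj _ h1 _ ⟨h2, h12⟩ _ ⟨h0, h01, h02⟩ hdet'
  refine ⟨σ, ?_⟩
  apply Subtype.ext; apply Subtype.ext; apply Units.ext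
  rw [ψ_coe, ← hσ, ← hcols, hM]

theorem main_K : Nonempty (specialIsometryGroup K Q ≃* Equiv.Perm (Fin 4)) :=
  ⟨(MulEquiv.ofBijective ψ ⟨ψ_injective, ψ_surjective⟩).symm⟩

/-- SO_3(3) ≅ S_4: the determinant-one isometries of the form x_0² + x_1y_1 over the field with 3 elements form a group isomorphic to the symmetric group on 4 letters. -/
theorem result {F : Type*} [Field F] [Fintype F] (hF : Fintype.card F = 3) : Nonempty (↥(Cfsg.specialIsometryGroup F (Cfsg.quadFormOdd 1 F)) ≃* Equiv.Perm (Fin 4)) := by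
  obtain ⟨f⟩ := main_K
  let e : F ≃+* K := (ZMod.ringEquivOfPrime F Nat.prime_three hF).symm
  exact ⟨(specialIsometryGroupEquiv e (Cfsg.quadFormOdd 1 F) Q (quadFormOdd_map 1 e)).trans f⟩

end Cfsg.Agent.S0823
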