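import Cfsg.Statements.S0824
import Cfsg.Agent.Lib.Helper61_IsometryTransfer

set_option autoImplicit false
open Cfsg

namespace Cfsg.Agent.S0824

open Matrix Cfsg.Agent.Lib.Helper61_IsometryTransfer

abbrev K := ZMod 2
abbrev ι := (Fin 1 ⊕ Fin 1) ⊕ Fin 2

def ofI : ι → Fin 4
  | .inl (.inl _) => 0
  | .inl (.inr _) => 1
  | .inr 0 => 2
  | .inr 1 => 3

/-- basis (as columns) of the even-weight subspace of `K^5`, in which `wt/2` becomes
`x y + z₁² + z₁ z₂ + z₂²`. -/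
def R0 : Fin 5 → Fin 4 → K :=
  ![![1, 1, 1, 0], ![1, 1, 1, 1], ![1, 1, 0, 1], ![1, 0, 0, 0], ![0, 1, 0, 0]]
/-- coordinate functionals for the basis `R0`. -/
def P0 : Fin 4 → Fin 5 → K :=
  ![![0, 0, 0, 1, 0], ![0, 0, 0, 0, 1], ![1, 0, 0, 1, 1], ![0, 0, 1, 1, 1]]

def R : Matrix (Fin 5) ι K := Matrix.of fun a j => R0 a (ofI j)
def P : Matrix ι (Fin 5) K := Matrix.of fun i a => P0 (ofI i) a

/-- permutation matrix: `T σ *ᵥ e_b = e_{σ b}`. -/
def T (σ : Equiv.Perm (Fin 5)) : Matrix (Fin 5) (Fin 5) K :=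
  Matrix.of fun a b => if a = σ b then 1 else 0

theorem T_mul (σ τ : Equiv.Perm (Fin 5)) : T (σ * τ) = T σ * T τ := by
  ext a c
  simp only [T, Matrix.mul_apply, Matrix.of_apply, Equiv.Perm.coe_mul, Function.comp_apply]
  rw [Finset.sum_eq_single (τ c)]
  · by_cases h : a = σ (τ c) <;> simp [h]
  · intro b _ hb
    simp [hb]
  · simp

theorem T_one : T 1 = 1 := by
  ext a b
  by_cases h : a = b <;> simp [T, Matrix.one_apply, h]

def ψmat (σ : Equiv.Perm (Fin 5)) : Matrix ι ι K := P * (T σ * R)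

abbrev Q : (ι → K) → K := Cfsg.quadFormMinus 1 K 1 1

set_option maxRecDepth 100000 in
theorem PR : P * R = 1 := by
  decide +kernel

set_option maxRecDepth 100000 in
theorem RPTR : ∀ τ : Equiv.Perm (Fin 5), R * (P * (T τ * R)) = T τ * R := by
  decide +kernel

theorem ψmat_one : ψmat 1 = 1 := by
  rw [ψmat, T_one, Matrix.one_mul, PR]

theorem ψmat_mul (σ τ : Equiv.Perm (Fin 5)) : ψmat (σ * τ) = ψmat σ * ψmat τ := by
  unfold ψmat
  rw [Matrix.mul_assoc P (T σ * R), Matrix.mul_assoc (T σ) R, RPTR τ, T_mul, Matrix.mul_assoc]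

set_option maxRecDepth 100000 in
theorem ψmat_pres : ∀ σ : Equiv.Perm (Fin 5), ∀ u : ι → K, Q (ψmat σ *ᵥ u) = Q u := by
  decide +kernel

set_option maxRecDepth 100000 in
theorem ψmat_inj : ∀ σ : Equiv.Perm (Fin 5), ψmat σ = 1 → σ = 1 := by
  decide +kernel

def cols (cx cy cz1 cz2 : ι → K) : Matrix ι ι K :=
  Matrix.of fun i j => match j with
    | .inl (.inl _) => cx i
    | .inl (.inr _) => cy i
    | .inr 0 => cz1 i
    | .inr 1 => cz2 i

set_option maxRecDepth 100000 in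
set_option synthInstance.maxSize 2000 in
set_option synthInstance.maxHeartbeats 400000 in
theorem ψmat_surj : ∀ cx : ι → K, Q cx = 0 → ∀ cy : ι → K, (Q cy = 0 ∧ Q (cx + cy) = 1) →
    ∀ cz1 : ι → K, (Q cz1 = 1 ∧ Q (cx + cz1) = 1 ∧ Q (cy + cz1) = 1) →
    ∀ cz2 : ι → K, (Q cz2 = 1 ∧ Q (cx + cz2) = 1 ∧ Q (cy + cz2) = 1 ∧ Q (cz1 + cz2) = 1) →
    ∃ σ : Equiv.Perm (Fin 5), cols cx cy cz1 cz2 = ψmat σ := by
  decide +kernel

/-- `ψmat σ` as an element of `GL`. -/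
def ψGL (σ : Equiv.Perm (Fin 5)) : Matrix.GeneralLinearGroup ι K :=
  ⟨ψmat σ, ψmat σ⁻¹, by rw [← ψmat_mul, mul_inv_cancel, ψmat_one],
    by rw [← ψmat_mul, inv_mul_cancel, ψmat_one]⟩

theorem ψGL_mem (σ : Equiv.Perm (Fin 5)) : ψGL σ ∈ isometryGroup K Q :=
  (mem_isometryGroup_iff Q (ψGL σ)).2 (ψmat_pres σ)

/-- the homomorphism `S₅ → O⁻₄(2)`. -/
def ψ : Equiv.Perm (Fin 5) →* isometryGroup K Q where
  toFun σ := ⟨ψGL σ, ψGL_mem σ⟩
  map_one' := by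
    apply Subtype.ext; apply Units.ext
    exact ψmat_one
  map_mul' σ τ := by
    apply Subtype.ext; apply Units.ext
    exact ψmat_mul σ τ

theorem ψ_coe (σ : Equiv.Perm (Fin 5)) :
    (((ψ σ : isometryGroup K Q) : Matrix.GeneralLinearGroup ι K) : Matrix ι ι K) = ψmat σ := rfl

theorem ψ_injective : Function.Injective ψ := by
  rw [injective_iff_map_eq_one]
  intro σ h
  apply ψmat_inj
  rw [← ψ_coe, h]
  rfl

abbrev ex : ι → K := Pi.single (.inl (.inl 0)) 1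
abbrev ey : ι → K := Pi.single (.inl (.inr 0)) 1
abbrev ez1 : ι → K := Pi.single (.inr 0) 1
abbrev ez2 : ι → K := Pi.single (.inr 1) 1

theorem Q_ex : Q ex = 0 := by decide +kernel
theorem Q_ey : Q ey = 0 := by decide +kernel
theorem Q_ez1 : Q ez1 = 1 := by decide +kernel
theorem Q_ez2 : Q ez2 = 1 := by decide +kernel
theorem Q_exy : Q (ex + ey) = 1 := by decide +kernel
theorem Q_exz1 : Q (ex + ez1) = 1 := by decide +kernel
theorem Q_eyz1 : Q (ey + ez1) = 1 := by decide +kernel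
theorem Q_exz2 : Q (ex + ez2) = 1 := by decide +kernel
theorem Q_eyz2 : Q (ey + ez2) = 1 := by decide +kernel
theorem Q_ez12 : Q (ez1 + ez2) = 1 := by decide +kernel

theorem ψ_surjective : Function.Surjective ψ := by
  intro g
  obtain ⟨M, hM⟩ : ∃ M : Matrix ι ι K,
    M = ((g : Matrix.GeneralLinearGroup ι K) : Matrix ι ι K) := ⟨_, rfl⟩
  have hpres : ∀ u, Q (M *ᵥ u) = Q u := by
    rw [hM]
    exact (mem_isometryGroup_iff Q _).1 g.2
  have hcols : M = cols (M *ᵥ ex) (M *ᵥ ey) (M *ᵥ ez1) (M *ᵥ ez2) := by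
    ext i j
    rcases j with (j | j) | j
    · have : j = 0 := Subsingleton.elim _ _
      subst this
      simp [cols, ex]
    · have : j = 0 := Subsingleton.elim _ _
      subst this
      simp [cols, ey]
    · fin_cases j
      · simp [cols, ez1]
      · simp [cols, ez2]
  have hx : Q (M *ᵥ ex) = 0 := by rw [hpres, Q_ex]
  have hy : Q (M *ᵥ ey) = 0 := by rw [hpres, Q_ey]
  have hz1 : Q (M *ᵥ ez1) = 1 := by rw [hpres, Q_ez1]
  have hz2 : Q (M *ᵥ ez2) = 1 := by rw [hpres, Q_ez2]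
  have hxy : Q (M *ᵥ ex + M *ᵥ ey) = 1 := by rw [← Matrix.mulVec_add, hpres, Q_exy]
  have hxz1 : Q (M *ᵥ ex + M *ᵥ ez1) = 1 := by rw [← Matrix.mulVec_add, hpres, Q_exz1]
  have hyz1 : Q (M *ᵥ ey + M *ᵥ ez1) = 1 := by rw [← Matrix.mulVec_add, hpres, Q_eyz1]
  have hxz2 : Q (M *ᵥ ex + M *ᵥ ez2) = 1 := by rw [← Matrix.mulVec_add, hpres, Q_exz2]
  have hyz2 : Q (M *ᵥ ey + M *ᵥ ez2) = 1 := by rw [← Matrix.mulVec_add, hpres, Q_eyz2]
  have hz12 : Q (M *ᵥ ez1 + M *ᵥ ez2) = 1 := by rw [← Matrix.mulVec_add, hpres, Q_ez12]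
  obtain ⟨σ, hσ⟩ := ψmat_surj _ hx _ ⟨hy, hxy⟩ _ ⟨hz1, hxz1, hyz1⟩ _ ⟨hz2, hxz2, hyz2, hz12⟩
  refine ⟨σ, ?_⟩
  apply Subtype.ext; apply Units.ext
  rw [ψ_coe, ← hσ, ← hcols, hM]

theorem main_K : Nonempty (isometryGroup K Q ≃* Equiv.Perm (Fin 5)) :=
  ⟨(MulEquiv.ofBijective ψ ⟨ψ_injective, ψ_surjective⟩).symm⟩

/-- O⁻_4(2) ≅ S_5: the isometry group of the form x y + z_1² + z_1 z_2 + z_2² over the field with 2 elements is isomorphic to the symmetric group on 5 letters. -/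
theorem result {F : Type*} [Field F] [Fintype F] (hF : Fintype.card F = 2) : Nonempty (↥(Cfsg.isometryGroup F (Cfsg.quadFormMinus 1 F 1 1)) ≃* Equiv.Perm (Fin 5)) := by
  obtain ⟨f⟩ := main_K
  let e : F ≃+* K := (ZMod.ringEquivOfPrime F Nat.prime_two hF).symm
  have hQ : ∀ v, e (Cfsg.quadFormMinus 1 F 1 1 v) = Q (e ∘ v) := by
    intro v
    rw [quadFormMinus_map, map_one]
  exact ⟨(isometryGroupEquiv e (Cfsg.quadFormMinus 1 F 1 1) Q hQ).trans f⟩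

end Cfsg.Agent.S0824
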