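import Cfsg.Statements.S1629
import Cfsg.Agent.Lib.Helper8_OrthF2Mat
import Cfsg.Agent.Lib.Helper44_StdForms

set_option autoImplicit false
open scoped MatrixGroups
open Cfsg

namespace Cfsg.Agent.S1629

open Cfsg.Agent.Lib.Helper8_OrthF2Mat Cfsg.Agent.Lib.Helper44_StdForms

theorem nondeg (m : ℕ) : (Bf (qfPlus m (ZMod 2))).Nondegenerate := by
  have hB := Bf_isAlt (qfPlus m (ZMod 2))
  refine (LinearMap.IsRefl.nondegenerate_iff_separatingLeft hB.isRefl).mpr ?_
  intro x hx
  have key : ∀ y : Fin m ⊕ Fin m → ZMod 2, ∑ i : Fin m, (x (Sum.inl i) * y (Sum.inr i) + y (Sum.inl i) * x (Sum.inr i)) = 0 := by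
    intro y
    have := hx y
    rw [Bf_apply, coe_qfPlus, polar_quadFormPlus] at this
    exact this
  funext j
  rcases j with i | i
  · have := key (Pi.single (Sum.inr i) 1)
    simpa [Pi.single_apply] using this
  · have := key (Pi.single (Sum.inl i) 1)
    simpa [Pi.single_apply] using this


/-- The orthogonal transvections of the plus-type orthogonal group in dimension 2m ≥ 6 over the field with two elements form a generating conjugacy class of 3-transpositions. -/
theorem result (m : ℕ) (hm : 3 ≤ m) : Cfsg.IsThreeTranspositionClass {g : ↥(Cfsg.isometryGroup (ZMod 2) (Cfsg.quadFormPlus m (ZMod 2))) | (((g : GL (Fin m ⊕ Fin m) (ZMod 2)) : Matrix (Fin m ⊕ Fin m) (Fin m ⊕ Fin m) (ZMod 2)) - 1).rank = 1} := by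
  have h := three_transp_class (qfPlus m (ZMod 2)) (nondeg m) (by simp; omega)
  rw [coe_qfPlus] at h
  exact h

end Cfsg.Agent.S1629
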