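import Cfsg.Statements.S2565
import Cfsg.Agent.S1629
import Cfsg.Agent.Lib.Helper8_OrthF2Mat
import Cfsg.Agent.Lib.Helper8_OrthF2
import Cfsg.Agent.Lib.Helper44_StdForms

set_option autoImplicit false
open scoped MatrixGroups
open Cfsg

namespace Cfsg.Agent.S2565

open Cfsg.Agent.Lib.Helper8_OrthF2Mat Cfsg.Agent.Lib.Helper44_StdForms
  Cfsg.Agent.Lib.Helper8_OrthF2 Cfsg.Agent.Lib.Helper94_SympQuad Matrix

/-- the index type of the six coordinates -/
abbrev I6 := Fin 3 ⊕ Fin 3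

/-- first halves of three hyperbolic pairs of even-weight words of length 8 -/
def X : Fin 3 → Fin 8 → ZMod 2 :=
  ![![1,1,1,1,0,0,0,0], ![1,1,0,0,1,0,0,1], ![1,0,1,0,0,1,0,1]]
/-- second halves -/
def Y : Fin 3 → Fin 8 → ZMod 2 :=
  ![![1,0,0,0,1,1,1,0], ![0,1,1,0,0,1,1,0], ![1,0,1,0,0,0,1,1]]

/-- coordinates to words -/
def Em : Matrix (Fin 8) I6 (ZMod 2) :=
  Matrix.of fun i j => Sum.elim (fun k => X k i) (fun k => Y k i) j
/-- words to coordinates -/
def Dm : Matrix I6 (Fin 8) (ZMod 2) :=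
  Matrix.of fun j i => Sum.elim (fun k => Y k i) (fun k => X k i) j
/-- an odd word orthogonal to the six basis words -/
def u0 : Fin 8 → ZMod 2 := ![0,1,1,0,0,0,0,1]
/-- a functional -/
def lam : Fin 8 → ZMod 2 := ![1,0,0,1,1,1,1,0]
/-- the all-ones word -/
def one8 : Fin 8 → ZMod 2 := fun _ => 1

theorem Dm_mul_Em : Dm * Em = 1 := by decide
theorem Em_mul_Dm : Em * Dm = 1 + Matrix.vecMulVec one8 lam + Matrix.vecMulVec u0 one8 := by
  decide
theorem Dm_one : Matrix.mulVec Dm one8 = 0 := by decide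
theorem one_Em : Matrix.vecMul one8 Em = 0 := by decide

/-- the vector attached to a pair of points -/
def avec (i j : Fin 8) : I6 → ZMod 2 :=
  Matrix.mulVec Dm (Pi.single i 1 + Pi.single j 1)

/-- matrix of a permutation -/
def Mm (σ : Equiv.Perm (Fin 8)) : Matrix I6 I6 (ZMod 2) :=
  Dm * (σ⁻¹).permMatrix (ZMod 2) * Em

set_option maxRecDepth 100000 in
theorem Mm_swap : ∀ i j : Fin 8, i ≠ j →
    Mm (Equiv.swap i j) = 1 + Matrix.vecMulVec (avec i j) (avec i j ∘ Sum.swap) := by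
  decide

theorem perm_one8 (σ : Equiv.Perm (Fin 8)) : (σ.permMatrix (ZMod 2)) *ᵥ one8 = one8 := by
  rw [Matrix.permMatrix_mulVec]; rfl

theorem one8_perm (σ : Equiv.Perm (Fin 8)) : one8 ᵥ* (σ.permMatrix (ZMod 2)) = one8 := by
  rw [Matrix.vecMul_permMatrix]; rfl

theorem Mm_one : Mm 1 = 1 := by
  simp [Mm, Dm_mul_Em]

theorem Mm_mul (σ τ : Equiv.Perm (Fin 8)) : Mm (σ * τ) = Mm σ * Mm τ := by
  have h1 : ((σ * τ)⁻¹).permMatrix (ZMod 2)
      = (σ⁻¹).permMatrix (ZMod 2) * (τ⁻¹).permMatrix (ZMod 2) := by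
    rw [_root_.mul_inv_rev, Matrix.permMatrix_mul]
  unfold Mm
  rw [h1]
  set P := (σ⁻¹).permMatrix (ZMod 2) with hP
  set P' := (τ⁻¹).permMatrix (ZMod 2) with hP'
  have e1 : Dm * P * Em * (Dm * P' * Em) = Dm * P * (Em * Dm) * (P' * Em) := by
    simp only [Matrix.mul_assoc]
  have e2 : Dm * P * Matrix.vecMulVec one8 lam = 0 := by
    rw [Matrix.mul_vecMulVec, ← Matrix.mulVec_mulVec, hP, perm_one8, Dm_one]
    ext i j; simp [Matrix.vecMulVec_apply]
  have e3 : Matrix.vecMulVec u0 one8 * (P' * Em) = 0 := by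
    rw [Matrix.vecMulVec_mul, ← Matrix.vecMul_vecMul, hP', one8_perm, one_Em]
    ext i j; simp [Matrix.vecMulVec_apply]
  rw [e1, Em_mul_Dm, Matrix.mul_add, Matrix.mul_add, Matrix.mul_one, e2, add_zero, Matrix.add_mul,
    Matrix.mul_assoc (Dm * P) (Matrix.vecMulVec u0 one8), e3, Matrix.mul_zero, add_zero]
  simp only [Matrix.mul_assoc]

/-- the homomorphism to matrices -/
def psi0 : Equiv.Perm (Fin 8) →* Matrix I6 I6 (ZMod 2) where
  toFun := Mm
  map_one' := Mm_one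
  map_mul' := Mm_mul

/-- the homomorphism to the general linear group -/
def psi1 : Equiv.Perm (Fin 8) →* GL I6 (ZMod 2) := psi0.toHomUnits

theorem psi1_coe (σ : Equiv.Perm (Fin 8)) :
    ((psi1 σ : GL I6 (ZMod 2)) : Matrix I6 I6 (ZMod 2)) = Mm σ := rfl

theorem Q_avec : ∀ i j : Fin 8, i ≠ j → Cfsg.quadFormPlus 3 (ZMod 2) (avec i j) = 1 := by
  decide

theorem exists_avec_aux : ∀ a b c d e f : ZMod 2,
    Cfsg.quadFormPlus 3 (ZMod 2) (Sum.elim ![a, b, c] ![d, e, f]) = 1 →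
    ∃ i j : Fin 8, i ≠ j ∧ (Sum.elim ![a, b, c] ![d, e, f] : I6 → ZMod 2) = avec i j := by
  decide

theorem exists_avec (a : I6 → ZMod 2) (ha : Cfsg.quadFormPlus 3 (ZMod 2) a = 1) :
    ∃ i j : Fin 8, i ≠ j ∧ a = avec i j := by
  have e : a = Sum.elim ![a (Sum.inl 0), a (Sum.inl 1), a (Sum.inl 2)]
      ![a (Sum.inr 0), a (Sum.inr 1), a (Sum.inr 2)] := by
    funext x
    rcases x with x | x <;> fin_cases x <;> rfl
  rw [e] at ha ⊢
  exact exists_avec_aux _ _ _ _ _ _ ha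

/-- the three-cycle used for injectivity -/
def cyc : Equiv.Perm (Fin 8) := Equiv.swap 0 1 * Equiv.swap 1 2

theorem Mm_cyc : Mm cyc ≠ 1 := by decide


theorem polar_eq (a v : I6 → ZMod 2) :
    QuadraticMap.polar (Cfsg.quadFormPlus 3 (ZMod 2)) v a = (a ∘ Sum.swap) ⬝ᵥ v := by
  rw [polar_quadFormPlus, dotProduct, Fintype.sum_sum_type, ← Finset.sum_add_distrib]
  apply Finset.sum_congr rfl
  intro k _
  simp only [Function.comp_apply, Sum.swap_inl, Sum.swap_inr]
  ring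

theorem key2_aux (i j : Fin 8) (hij : i ≠ j) (v : I6 → ZMod 2) :
    Mm (Equiv.swap i j) *ᵥ v
      = v + QuadraticMap.polar (Cfsg.quadFormPlus 3 (ZMod 2)) v (avec i j) • avec i j := by
  rw [Mm_swap i j hij, Matrix.add_mulVec, Matrix.one_mulVec, Matrix.vecMulVec_mulVec, polar_eq,
    op_smul_eq_smul]

/-- the symmetric group of degree 8 is the full orthogonal group `O⁺₆(2)` -/
theorem exists_equiv (Q : (I6 → ZMod 2) → ZMod 2) (hQ : ⇑(qfPlus 3 (ZMod 2)) = Q) :
    Nonempty (Equiv.Perm (Fin 8) ≃* ↥(Cfsg.isometryGroup (ZMod 2) Q)) := by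
  subst hQ
  set Qb := qfPlus 3 (ZMod 2) with hQb
  have hN : (Bf Qb).Nondegenerate := Cfsg.Agent.S1629.nondeg 3
  have hB := Bf_isAlt Qb
  have hp := hQp Qb
  have hcoe : ∀ a, Qb a = Cfsg.quadFormPlus 3 (ZMod 2) a := fun a => by
    rw [hQb, coe_qfPlus]
  -- transvection action of the swaps
  have key2 : ∀ i j : Fin 8, i ≠ j → ∀ v : I6 → ZMod 2,
      Mm (Equiv.swap i j) *ᵥ v = t (Bf Qb) hB (avec i j) v := by
    intro i j hij v
    rw [t_apply, Bf_apply, hQb, coe_qfPlus]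
    exact key2_aux i j hij v
  -- the image lies in the isometry group
  have hmem : ∀ σ : Equiv.Perm (Fin 8), psi1 σ ∈ Cfsg.isometryGroup (ZMod 2) (⇑Qb) := by
    intro σ
    have hle : (⊤ : Subgroup (Equiv.Perm (Fin 8)))
        ≤ (Cfsg.isometryGroup (ZMod 2) (⇑Qb)).comap psi1 := by
      rw [← Equiv.Perm.closure_isSwap, Subgroup.closure_le]
      rintro _ ⟨i, j, hij, rfl⟩
      show psi1 (Equiv.swap i j) ∈ Cfsg.isometryGroup (ZMod 2) (⇑Qb)
      intro u _
      show Qb (Mm (Equiv.swap i j) *ᵥ u) = Qb u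
      rw [key2 i j hij u]
      have hq : Qb (avec i j) = 1 := by rw [hcoe]; exact Q_avec i j hij
      exact (t_mem (Bf Qb) hB (⇑Qb) hp hq).2 u
    exact hle (Subgroup.mem_top σ)
  let psi : Equiv.Perm (Fin 8) →* ↥(Cfsg.isometryGroup (ZMod 2) (⇑Qb)) :=
    psi1.codRestrict _ hmem
  have hpsi : ∀ σ, (((psi σ : ↥(Cfsg.isometryGroup (ZMod 2) (⇑Qb))) : GL I6 (ZMod 2)) :
      Matrix I6 I6 (ZMod 2)) = Mm σ := fun σ => rfl
  have hphi : ∀ i j : Fin 8, i ≠ j → phi Qb (psi (Equiv.swap i j)) = t (Bf Qb) hB (avec i j) := by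
    intro i j hij
    apply LinearEquiv.ext
    intro v
    rw [phi_apply, hpsi, key2 i j hij]
  -- surjectivity
  have hsurj : Function.Surjective psi := by
    rw [← MonoidHom.range_eq_top, eq_top_iff]
    have hgen := (three_transp_class Qb hN (by simp)).2.2
    rw [← hgen, Subgroup.closure_le]
    intro d hd
    have hd' : (((d : GL I6 (ZMod 2)) : Matrix I6 I6 (ZMod 2)) - 1).rank = 1 := hd
    rw [rank_eq] at hd'
    obtain ⟨a, ha, hda⟩ := exists_t_of_rank (Bf Qb) hB (⇑Qb) hp hN (phi_mem Qb d) hd'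
    rw [hcoe] at ha
    obtain ⟨i, j, hij, rfl⟩ := exists_avec a ha
    refine ⟨Equiv.swap i j, ?_⟩
    apply phi_injective Qb
    rw [hphi i j hij, hda]
  -- injectivity
  have hinj : Function.Injective psi := by
    rw [← MonoidHom.ker_eq_bot_iff]
    by_contra hne
    have hnt : Nontrivial psi.ker := (Subgroup.nontrivial_iff_ne_bot _).mpr hne
    have hle := Equiv.Perm.alternatingGroup_le_of_normal (α := Fin 8) (by simp) hnt
    have hc : cyc ∈ alternatingGroup (Fin 8) := by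
      rw [Equiv.Perm.mem_alternatingGroup, cyc, map_mul, Equiv.Perm.sign_swap (by decide),
        Equiv.Perm.sign_swap (by decide)]
      rfl
    have h1 : psi cyc = 1 := hle hc
    apply Mm_cyc
    rw [← hpsi, h1]
    rfl
  exact ⟨MulEquiv.ofBijective psi ⟨hinj, hsurj⟩⟩

theorem main (Q : (I6 → ZMod 2) → ZMod 2) (hQ : ⇑(qfPlus 3 (ZMod 2)) = Q) :
    (Cfsg.Omega (ZMod 2) Q).index = 2 ∧
    Nonempty (↥(Cfsg.Omega (ZMod 2) Q) ≃* alternatingGroup (Fin 8)) := by
  obtain ⟨Psi⟩ := exists_equiv Q hQ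
  subst hQ
  set Qb := qfPlus 3 (ZMod 2) with hQb
  have htop : (⊤ : Subgroup (Equiv.Perm (Fin 8))).map Psi.toMonoidHom = ⊤ := by
    rw [eq_top_iff]
    intro g _
    exact ⟨Psi.symm g, Subgroup.mem_top _, Psi.apply_symm_apply g⟩
  have hmap : (alternatingGroup (Fin 8)).map Psi.toMonoidHom
      = Cfsg.Omega (ZMod 2) (⇑Qb) := by
    rw [← alternatingGroup.commutator_perm_eq (by simp), commutator_def, Subgroup.map_commutator,
      htop]
    rfl
  constructor
  · rw [← hmap]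
    exact (Subgroup.index_map_equiv (alternatingGroup (Fin 8)) Psi).trans
      alternatingGroup.index_eq_two
  · refine ⟨?_⟩
    exact ((Psi.subgroupMap (alternatingGroup (Fin 8))).trans
      (MulEquiv.subgroupCongr (hmap))).symm

/-- The commutator subgroup of the full orthogonal group of the plus-type form Σ xᵢyᵢ in dimension 6 over the field of two elements (the group Ω⁺₆(2), of index 2) is isomorphic to the alternating group of degree 8. -/
theorem result :
    (Cfsg.Omega (ZMod 2) (Cfsg.quadFormPlus 3 (ZMod 2))).index = 2 ∧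
    Nonempty (↥(Cfsg.Omega (ZMod 2) (Cfsg.quadFormPlus 3 (ZMod 2))) ≃* alternatingGroup (Fin 8)) :=
  main _ (coe_qfPlus 3 (ZMod 2))

end Cfsg.Agent.S2565
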