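import Cfsg.Statements.S0826
import Cfsg.Agent.Lib.Helper94_Symp
import Cfsg.Agent.Lib.Helper99_SpBridge

set_option autoImplicit false
open Cfsg

namespace Cfsg.Agent.S0826

open Cfsg.Agent.Lib.Helper94_Symp

section Module

variable {α : Type} [Fintype α] [DecidableEq α]

lemma zmod2_mul_self (a : ZMod 2) : a * a = a := by
  revert a; decide

lemma zmod2_add_self (a : ZMod 2) : a + a = 0 := by
  revert a; decide

lemma zmod2_eq_of_add_eq_zero {a b : ZMod 2} (h : a + b = 0) : a = b := by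
  revert a b; decide

/-- The subspace of even-weight vectors vanishing at `a₀`. -/
def VS (a₀ : α) : Submodule (ZMod 2) (α → ZMod 2) where
  carrier := {x | ∑ i, x i = 0 ∧ x a₀ = 0}
  add_mem' := by
    rintro x y ⟨h1, h2⟩ ⟨h3, h4⟩
    refine ⟨?_, ?_⟩
    · simp only [Pi.add_apply, Finset.sum_add_distrib, h1, h3, add_zero]
    · simp [h2, h4]
  zero_mem' := by simp
  smul_mem' := by
    rintro c x ⟨h1, h2⟩
    refine ⟨?_, ?_⟩
    · simp only [Pi.smul_apply, smul_eq_mul, ← Finset.mul_sum, h1, mul_zero]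
    · simp [h2]

lemma mem_VS {a₀ : α} {x : α → ZMod 2} : x ∈ VS a₀ ↔ ∑ i, x i = 0 ∧ x a₀ = 0 := Iff.rfl

/-- The vector `e_i + e_j`. -/
def pairVec (i j : α) : α → ZMod 2 := Pi.single i 1 + Pi.single j 1

lemma pairVec_apply (i j k : α) :
    pairVec i j k = (if k = i then 1 else 0) + (if k = j then 1 else 0) := by
  simp [pairVec, Pi.single_apply]

lemma pairVec_mem {a₀ i j : α} (hi : i ≠ a₀) (hj : j ≠ a₀) : pairVec i j ∈ VS a₀ := by
  refine ⟨?_, ?_⟩
  · simp only [pairVec_apply, Finset.sum_add_distrib, Finset.sum_ite_eq', Finset.mem_univ, if_true]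
    exact zmod2_add_self 1
  · rw [pairVec_apply, if_neg hi.symm, if_neg hj.symm, add_zero]

lemma sum_mul_pairVec (x : α → ZMod 2) (i j : α) : ∑ k, x k * pairVec i j k = x i + x j := by
  simp only [pairVec_apply, mul_add, Finset.sum_add_distrib, mul_ite, mul_one, mul_zero,
    Finset.sum_ite_eq', Finset.mem_univ, if_true]

variable (a₀ : α)

/-- The action of a permutation on `VS a₀` (coordinate permutation followed by the projection
killing the all-ones vector). -/
def rhoLin (hev : Even (Fintype.card α)) (σ : Equiv.Perm α) : VS a₀ →ₗ[ZMod 2] VS a₀ where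
  toFun x := ⟨fun i => x.1 (σ⁻¹ i) + x.1 (σ⁻¹ a₀), by
    refine ⟨?_, zmod2_add_self _⟩
    rw [Finset.sum_add_distrib, Equiv.sum_comp (σ⁻¹) x.1, x.2.1, Finset.sum_const, zero_add,
      Finset.card_univ]
    obtain ⟨k, hk⟩ := hev
    rw [hk, add_nsmul, zmod2_add_self]⟩
  map_add' x y := by
    apply Subtype.ext
    funext i
    simp only [Submodule.coe_add, Pi.add_apply]
    ring
  map_smul' c x := by
    apply Subtype.ext
    funext i
    simp only [Submodule.coe_smul, Pi.smul_apply, smul_eq_mul, RingHom.id_apply]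
    ring

lemma rhoLin_apply (hev : Even (Fintype.card α)) (σ : Equiv.Perm α) (x : VS a₀) (i : α) :
    (rhoLin a₀ hev σ x).1 i = x.1 (σ⁻¹ i) + x.1 (σ⁻¹ a₀) := rfl

lemma rhoLin_one (hev : Even (Fintype.card α)) : rhoLin a₀ hev 1 = LinearMap.id := by
  refine LinearMap.ext fun x => Subtype.ext (funext fun i => ?_)
  rw [rhoLin_apply]
  simp only [inv_one, Equiv.Perm.coe_one, id_eq, LinearMap.id_coe]
  rw [x.2.2, add_zero]

lemma rhoLin_mul (hev : Even (Fintype.card α)) (σ τ : Equiv.Perm α) :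
    rhoLin a₀ hev (σ * τ) = (rhoLin a₀ hev σ).comp (rhoLin a₀ hev τ) := by
  refine LinearMap.ext fun x => Subtype.ext (funext fun i => ?_)
  rw [LinearMap.comp_apply, rhoLin_apply, rhoLin_apply, rhoLin_apply, rhoLin_apply]
  simp only [mul_inv_rev, Equiv.Perm.coe_mul, Function.comp_apply]
  have h := zmod2_add_self (x.1 (τ⁻¹ a₀))
  calc x.1 (τ⁻¹ (σ⁻¹ i)) + x.1 (τ⁻¹ (σ⁻¹ a₀))
      = x.1 (τ⁻¹ (σ⁻¹ i)) + x.1 (τ⁻¹ (σ⁻¹ a₀)) + (x.1 (τ⁻¹ a₀) + x.1 (τ⁻¹ a₀)) := by
        rw [h, add_zero]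
    _ = _ := by ring

/-- The action as a linear automorphism. -/
def rho (hev : Even (Fintype.card α)) (σ : Equiv.Perm α) : VS a₀ ≃ₗ[ZMod 2] VS a₀ :=
  LinearEquiv.ofLinear (rhoLin a₀ hev σ) (rhoLin a₀ hev σ⁻¹)
    (by rw [← rhoLin_mul, mul_inv_cancel, rhoLin_one])
    (by rw [← rhoLin_mul, inv_mul_cancel, rhoLin_one])

lemma rho_apply (hev : Even (Fintype.card α)) (σ : Equiv.Perm α) (x : VS a₀) (i : α) :
    (rho a₀ hev σ x).1 i = x.1 (σ⁻¹ i) + x.1 (σ⁻¹ a₀) := rfl

/-- The action as a group homomorphism. -/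
def rhoHom (hev : Even (Fintype.card α)) : Equiv.Perm α →* (VS a₀ ≃ₗ[ZMod 2] VS a₀) where
  toFun := rho a₀ hev
  map_one' := by
    refine LinearEquiv.ext fun x => ?_
    change rhoLin a₀ hev 1 x = x
    rw [rhoLin_one]; rfl
  map_mul' σ τ := by
    refine LinearEquiv.ext fun x => ?_
    change rhoLin a₀ hev (σ * τ) x = rhoLin a₀ hev σ (rhoLin a₀ hev τ x)
    rw [rhoLin_mul]; rfl

/-- The dot product on `VS a₀`. -/
def BV : LinearMap.BilinForm (ZMod 2) (VS a₀) :=
  LinearMap.mk₂ (ZMod 2) (fun x y => ∑ i, x.1 i * y.1 i)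
    (by intro x y z; simp only [Submodule.coe_add, Pi.add_apply, add_mul, Finset.sum_add_distrib])
    (by
      intro c x y
      simp only [Submodule.coe_smul, Pi.smul_apply, smul_eq_mul, mul_assoc, ← Finset.mul_sum])
    (by intro x y z; simp only [Submodule.coe_add, Pi.add_apply, mul_add, Finset.sum_add_distrib])
    (by
      intro c x y
      simp only [Submodule.coe_smul, Pi.smul_apply, smul_eq_mul, Finset.mul_sum]
      refine Finset.sum_congr rfl fun i _ => ?_
      ring)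

lemma BV_apply (x y : VS a₀) : BV a₀ x y = ∑ i, x.1 i * y.1 i := rfl

lemma BV_isAlt : (BV a₀).IsAlt := by
  intro x
  rw [BV_apply]
  simp only [zmod2_mul_self]
  exact x.2.1

lemma BV_symm (x y : VS a₀) : BV a₀ x y = BV a₀ y x := by
  rw [BV_apply, BV_apply]
  exact Finset.sum_congr rfl fun i _ => mul_comm _ _

lemma rho_mem_isoGroup (hev : Even (Fintype.card α)) (σ : Equiv.Perm α) :
    rho a₀ hev σ ∈ isoGroup (BV a₀) := by
  intro u v
  rw [BV_apply, BV_apply]
  simp only [rho_apply]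
  set c := u.1 (σ⁻¹ a₀)
  set d := v.1 (σ⁻¹ a₀)
  have h1 : ∀ i, (u.1 (σ⁻¹ i) + c) * (v.1 (σ⁻¹ i) + d) =
      u.1 (σ⁻¹ i) * v.1 (σ⁻¹ i) + d * u.1 (σ⁻¹ i) + c * v.1 (σ⁻¹ i) + c * d := by
    intro i; ring
  have e : ∑ i, (u.1 (σ⁻¹ i) + c) * (v.1 (σ⁻¹ i) + d) =
      ∑ i, u.1 (σ⁻¹ i) * v.1 (σ⁻¹ i) + d * ∑ i, u.1 (σ⁻¹ i) + c * ∑ i, v.1 (σ⁻¹ i) +
        Fintype.card α • (c * d) := by
    simp only [h1, Finset.sum_add_distrib, Finset.mul_sum, Finset.sum_const, Finset.card_univ]
  rw [e, Equiv.sum_comp (σ⁻¹) (fun i => u.1 i * v.1 i), Equiv.sum_comp (σ⁻¹) u.1,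
    Equiv.sum_comp (σ⁻¹) v.1, u.2.1, v.2.1, mul_zero, mul_zero, add_zero, add_zero]
  obtain ⟨k, hk⟩ := hev
  rw [hk, add_nsmul, zmod2_add_self, add_zero]

lemma BV_separatingLeft (h3 : 3 ≤ Fintype.card α) (hev : Even (Fintype.card α)) :
    (BV a₀).SeparatingLeft := by
  intro x hx
  -- a point `j₀ ≠ a₀`
  obtain ⟨j₀, hj₀⟩ : ∃ j₀ : α, j₀ ≠ a₀ := by
    by_contra hcon
    push Not at hcon
    have : Fintype.card α ≤ 1 := Fintype.card_le_one_iff.mpr fun a b => by rw [hcon a, hcon b]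
    omega
  have hconst : ∀ i, i ≠ a₀ → x.1 i = x.1 j₀ := by
    intro i hi
    by_cases hij : i = j₀
    · rw [hij]
    · have h := hx ⟨pairVec i j₀, pairVec_mem hi hj₀⟩
      rw [BV_apply] at h
      simp only at h
      rw [sum_mul_pairVec] at h
      exact zmod2_eq_of_add_eq_zero h
  have hform : ∀ k, x.1 k = if k = a₀ then 0 else x.1 j₀ := by
    intro k
    by_cases hk : k = a₀
    · rw [if_pos hk, hk]; exact x.2.2
    · rw [if_neg hk]; exact hconst k hk
  have hsum : ∑ k, x.1 k = (Fintype.card α - 1) • x.1 j₀ := by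
    rw [Finset.sum_congr rfl (fun k _ => hform k), Finset.sum_ite, Finset.sum_const_zero,
      zero_add, Finset.sum_const, Finset.filter_ne' Finset.univ a₀,
      Finset.card_erase_of_mem (Finset.mem_univ a₀), Finset.card_univ]
  have hodd : Odd (Fintype.card α - 1) := by
    obtain ⟨k, hk⟩ := hev
    exact ⟨k - 1, by omega⟩
  have hj0 : x.1 j₀ = 0 := by
    have h := x.2.1
    rw [hsum] at h
    obtain ⟨k, hk⟩ := hodd
    rw [hk, add_nsmul, one_nsmul, mul_nsmul, two_nsmul, zmod2_add_self, smul_zero, zero_add] at h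
    exact h
  apply Subtype.ext
  funext k
  rw [hform k, hj0, ite_self]
  rfl

lemma BV_nondegenerate (h3 : 3 ≤ Fintype.card α) (hev : Even (Fintype.card α)) :
    (BV a₀).Nondegenerate := by
  refine ⟨BV_separatingLeft a₀ h3 hev, ?_⟩
  intro y hy
  exact BV_separatingLeft a₀ h3 hev y (fun x => by rw [BV_symm]; exact hy x)

lemma finrank_VS (h2 : 2 ≤ Fintype.card α) :
    Module.finrank (ZMod 2) (VS a₀) = Fintype.card α - 2 := by
  obtain ⟨j₀, hj₀⟩ : ∃ j₀ : α, j₀ ≠ a₀ := by
    by_contra hcon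
    push Not at hcon
    have : Fintype.card α ≤ 1 := Fintype.card_le_one_iff.mpr fun a b => by rw [hcon a, hcon b]
    omega
  let f : (α → ZMod 2) →ₗ[ZMod 2] (ZMod 2 × ZMod 2) :=
    LinearMap.prod (∑ i, LinearMap.proj i) (LinearMap.proj a₀)
  have hf : ∀ x, f x = (∑ i, x i, x a₀) := by
    intro x
    simp [f, LinearMap.prod_apply, LinearMap.sum_apply]
  have hker : LinearMap.ker f = VS a₀ := by
    ext x
    rw [LinearMap.mem_ker, hf, mem_VS, Prod.mk_eq_zero]
  have hsurj : Function.Surjective f := by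
    rintro ⟨a, b⟩
    refine ⟨Pi.single a₀ b + Pi.single j₀ (a + b), ?_⟩
    rw [hf]
    simp only [Pi.add_apply, Finset.sum_add_distrib, Finset.sum_pi_single', Finset.mem_univ,
      if_true, Pi.single_eq_same, Pi.single_eq_of_ne hj₀.symm, add_zero, Prod.mk.injEq, and_true]
    calc b + (a + b) = a + (b + b) := by ring
      _ = a := by rw [zmod2_add_self, add_zero]
  have hrange : LinearMap.range f = ⊤ := LinearMap.range_eq_top.mpr hsurj
  have h := LinearMap.finrank_range_add_finrank_ker f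
  rw [hrange, finrank_top, hker, Module.finrank_prod, Module.finrank_self,
    Module.finrank_fintype_fun_eq_card] at h
  omega

lemma rhoHom_injective (h6 : 6 ≤ Fintype.card α) (hev : Even (Fintype.card α)) :
    Function.Injective (rhoHom a₀ hev) := by
  rw [injective_iff_map_eq_one]
  intro σ hσ
  -- pointwise form of the hypothesis
  have key : ∀ (x : VS a₀) (i : α), x.1 (σ⁻¹ i) + x.1 (σ⁻¹ a₀) = x.1 i := by
    intro x i
    have := congrArg (fun g : VS a₀ ≃ₗ[ZMod 2] VS a₀ => (g x).1 i) hσ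
    simpa [rhoHom, rho_apply] using this
  -- a point outside a given set of at most four points
  have hout : ∀ s : Finset α, s.card ≤ 5 → ∃ c, c ∉ s := by
    intro s hs
    by_contra hcon
    push Not at hcon
    have : Finset.univ ⊆ s := fun c _ => hcon c
    have := Finset.card_le_card this
    rw [Finset.card_univ] at this
    omega
  -- Step 1: `σ⁻¹ a₀ = a₀`
  have h1 : σ⁻¹ a₀ = a₀ := by
    by_contra hne
    set b := σ⁻¹ a₀ with hb
    obtain ⟨c, hc⟩ := hout {a₀, b} (by
      refine (Finset.card_insert_le _ _).trans ?_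
      simp)
    simp only [Finset.mem_insert, Finset.mem_singleton, not_or] at hc
    obtain ⟨i, hi⟩ := hout {b, c, σ b, σ c} (by
      refine (Finset.card_insert_le _ _).trans ?_
      refine Nat.succ_le_succ ((Finset.card_insert_le _ _).trans ?_)
      refine Nat.succ_le_succ ((Finset.card_insert_le _ _).trans ?_)
      simp)
    simp only [Finset.mem_insert, Finset.mem_singleton, not_or] at hi
    have hx := key ⟨pairVec b c, pairVec_mem hne hc.1⟩ i
    simp only [pairVec_apply] at hx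
    have e1 : σ⁻¹ i ≠ b := by
      intro h; apply hi.2.2.1; rw [← h]; simp
    have e2 : σ⁻¹ i ≠ c := by
      intro h; apply hi.2.2.2; rw [← h]; simp
    have e1' : (Equiv.symm σ) i ≠ b := e1
    have e2' : (Equiv.symm σ) i ≠ c := e2
    simp [e1', e2', Ne.symm hc.2, hi.1, hi.2.1] at hx
  -- Step 2: `σ⁻¹ i = i` for all `i`
  have h2 : ∀ i, σ⁻¹ i = i := by
    intro i
    by_contra hne
    set j := σ⁻¹ i with hj
    have hia : i ≠ a₀ := by
      intro h
      apply hne
      rw [hj, h, h1]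
    have hja : j ≠ a₀ := by
      intro h
      apply hia
      have : σ⁻¹ i = σ⁻¹ a₀ := by rw [← hj, h, h1]
      exact (σ⁻¹).injective this
    obtain ⟨c, hc⟩ := hout {a₀, i, j} (by
      refine (Finset.card_insert_le _ _).trans ?_
      refine Nat.succ_le_succ ((Finset.card_insert_le _ _).trans ?_)
      simp)
    simp only [Finset.mem_insert, Finset.mem_singleton, not_or] at hc
    have hx := key ⟨pairVec j c, pairVec_mem hja hc.1⟩ i
    simp only [pairVec_apply] at hx
    have hj' : (Equiv.symm σ) i = j := rfl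
    simp [hj', h1, Ne.symm hc.2.2, Ne.symm hja, Ne.symm hc.1, Ne.symm hne, Ne.symm hc.2.1] at hx
  have : σ⁻¹ = 1 := Equiv.ext h2
  exact inv_eq_one.mp this

end Module

/-- S_2n ≤ Sp_(2n−2)(2) for n ≥ 3: there is an injective homomorphism from the symmetric group on 2n letters into the symplectic group of degree 2n − 2 over the field with two elements. -/
theorem result (n : ℕ) (hn : 3 ≤ n) : ∃ f : Equiv.Perm (Fin (2 * n)) →* Matrix.symplecticGroup (Fin (n - 1)) (ZMod 2), Function.Injective f := by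
  have hcard : Fintype.card (Fin (2 * n)) = 2 * n := Fintype.card_fin _
  have hev : Even (Fintype.card (Fin (2 * n))) := ⟨n, by rw [hcard]; ring⟩
  let a₀ : Fin (2 * n) := ⟨0, by omega⟩
  have hdim : Module.finrank (ZMod 2) (VS a₀) = 2 * (n - 1) := by
    rw [finrank_VS a₀ (by rw [hcard]; omega), hcard]
    omega
  obtain ⟨E⟩ := Cfsg.Agent.Lib.Helper99_SpBridge.nonempty_mulEquiv_symplecticGroup (BV a₀)
    (BV_isAlt a₀) (BV_nondegenerate a₀ (by rw [hcard]; omega) hev) (n - 1) hdim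
  refine ⟨E.toMonoidHom.comp ((rhoHom a₀ hev).codRestrict (isoGroup (BV a₀))
    (fun σ => rho_mem_isoGroup a₀ hev σ)), ?_⟩
  intro σ τ h
  have h' := E.injective h
  have h'' := congrArg Subtype.val h'
  exact rhoHom_injective a₀ (by rw [hcard]; omega) hev h''

end Cfsg.Agent.S0826
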