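import Cfsg.Statements.S0828
import Cfsg.Agent.Lib.Helper13_Symp
import Cfsg.Agent.Lib.Helper13_SympTrans

set_option autoImplicit false
open Cfsg

namespace Cfsg.Agent.S0828

open Module

section abstract

variable {F : Type*} [Field F] [Fintype F] {V : Type*} [AddCommGroup V] [Module F V] [Finite V]

theorem arith1 (q x : ℕ) (hx : x + q = q ^ 2) : (q + 1) * x + q = q ^ 3 := by
  calc (q + 1) * x + q = q * x + (x + q) := by ring
    _ = q * x + q ^ 2 := by rw [hx]
    _ = q * (x + q) := by ring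
    _ = q * q ^ 2 := by rw [hx]
    _ = q ^ 3 := by ring

/-- totally isotropic subspaces -/
def TI (B : V →ₗ[F] V →ₗ[F] F) (W : Submodule F V) : Prop := ∀ u ∈ W, ∀ v ∈ W, B u v = 0

omit [Fintype F] in
theorem card_diff (S T : Submodule F V) (h : S ≤ T) :
    Nat.card {w : V // w ∈ T ∧ w ∉ S} + Nat.card S = Nat.card T := by
  show Nat.card ↥((T : Set V) \ (S : Set V)) + Nat.card ↥(S : Set V) = Nat.card ↥(T : Set V)
  rw [Nat.card_coe_set_eq, Nat.card_coe_set_eq, Nat.card_coe_set_eq]
  exact Set.ncard_sdiff_add_ncard_of_subset h (Set.toFinite _)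

theorem card_fibers {α β : Type*} [Finite α] [Finite β] (f : α → β) (c : ℕ)
    (h : ∀ b, Nat.card {a // f a = b} = c) : Nat.card α = Nat.card β * c := by
  classical
  have := Fintype.ofFinite β
  rw [← Nat.card_congr (Equiv.sigmaFiberEquiv f), Nat.card_sigma]
  simp only [h, Finset.sum_const, Finset.card_univ, smul_eq_mul, Nat.card_eq_fintype_card]

omit [Fintype F] [Finite V] in
theorem finrank_span_pair {v w : V} (hv : v ≠ 0) (hw : w ∉ Submodule.span F {v}) :
    finrank F (Submodule.span F {v, w}) = 2 := by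
  have hli : LinearIndependent F ![v, w] := by
    rw [LinearIndependent.pair_iff]
    intro s t hst
    have ht : t = 0 := by
      by_contra ht
      apply hw
      rw [Submodule.mem_span_singleton]
      refine ⟨-(t⁻¹ * s), ?_⟩
      have : t • w = -(s • v) := eq_neg_of_add_eq_zero_right hst
      calc (-(t⁻¹ * s)) • v = t⁻¹ • (-(s • v)) := by rw [neg_smul, mul_smul, smul_neg]
        _ = t⁻¹ • (t • w) := by rw [this]
        _ = w := by rw [smul_smul, inv_mul_cancel₀ ht, one_smul]
    subst ht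
    rw [zero_smul, add_zero] at hst
    exact ⟨(smul_eq_zero.1 hst).resolve_right hv, rfl⟩
  have h2 : finrank F (Submodule.span F (Set.range ![v, w])) = 2 := by
    rw [finrank_span_eq_card hli, Fintype.card_fin]
  have hset : Set.range ![v, w] = {v, w} := by
    simp [Matrix.range_cons, Set.pair_comm]
  rw [hset] at h2
  exact h2

variable (B : V →ₗ[F] V →ₗ[F] F)

omit [Fintype F] [Finite V] in
theorem TI_span_pair (halt : ∀ v, B v v = 0) {v w : V} (hvw : B v w = 0) :
    TI B (Submodule.span F {v, w}) := by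
  have hwv : B w v = 0 := by
    have h1 := halt (v + w)
    simp only [map_add, LinearMap.add_apply, halt, hvw, zero_add, add_zero] at h1
    exact h1
  intro x hx y hy
  rw [Submodule.mem_span_pair] at hx hy
  obtain ⟨a, b, rfl⟩ := hx
  obtain ⟨c, d, rfl⟩ := hy
  simp only [map_add, map_smul, LinearMap.add_apply, LinearMap.smul_apply, halt, hvw, hwv,
    smul_eq_mul, mul_zero, add_zero]

/-- the number of totally isotropic planes through a non-zero vector -/
theorem card_Tv {q : ℕ} (hq : Nat.card F = q) (h4 : finrank F V = 4) (halt : ∀ v, B v v = 0)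
    (hnd : ∀ v, v ≠ 0 → B v ≠ 0) (v : V) (hv : v ≠ 0) :
    Nat.card {W : Submodule F V // finrank F W = 2 ∧ v ∈ W ∧ TI B W} = q + 1 := by
  classical
  have hq2 : 2 ≤ q := by
    rw [← hq, Nat.card_eq_fintype_card]
    exact Fintype.one_lt_card
  -- the map `w ↦ span {v, w}`
  let f : {w : V // w ∈ LinearMap.ker (B v) ∧ w ∉ Submodule.span F {v}} →
      {W : Submodule F V // finrank F W = 2 ∧ v ∈ W ∧ TI B W} := fun w =>
    ⟨Submodule.span F {v, w.1}, finrank_span_pair hv w.2.2,
      Submodule.subset_span (Set.mem_insert _ _),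
      TI_span_pair B halt (LinearMap.mem_ker.1 w.2.1)⟩
  have hvker : Submodule.span F {v} ≤ LinearMap.ker (B v) := by
    rw [Submodule.span_singleton_le_iff_mem, LinearMap.mem_ker]
    exact halt v
  have hcv : Nat.card (Submodule.span F {v}) = q := by
    rw [Module.natCard_eq_pow_finrank (K := F), finrank_span_singleton hv, pow_one, hq]
  have hcker : Nat.card (LinearMap.ker (B v)) = q ^ 3 := by
    have h := Module.Dual.finrank_ker_add_one_of_ne_zero (hnd v hv)
    rw [h4] at h
    have h3 : finrank F (LinearMap.ker (B v)) = 3 := by omega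
    rw [Module.natCard_eq_pow_finrank (K := F), h3, hq]
  have hdom := card_diff _ _ hvker
  rw [hcv, hcker] at hdom
  have hfib : ∀ W : {W : Submodule F V // finrank F W = 2 ∧ v ∈ W ∧ TI B W},
      Nat.card {w // f w = W} + q = q ^ 2 := by
    intro W
    have hvW : Submodule.span F {v} ≤ W.1 := by
      rw [Submodule.span_singleton_le_iff_mem]
      exact W.2.2.1
    have h1 := card_diff _ _ hvW
    rw [hcv, Module.natCard_eq_pow_finrank (K := F) (V := W.1), W.2.1, hq] at h1
    rw [← h1]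
    congr 1
    apply Nat.card_congr
    refine
      { toFun := fun x => ⟨x.1.1, ?_, x.1.2.2⟩
        invFun := fun w => ⟨⟨w.1, ?_, w.2.2⟩, ?_⟩
        left_inv := fun x => rfl
        right_inv := fun w => rfl }
    · have hx : (f x.1).1 = W.1 := congrArg Subtype.val x.2
      have hmem : x.1.1 ∈ (f x.1).1 :=
        Submodule.subset_span (Set.mem_insert_of_mem _ (Set.mem_singleton _))
      rw [hx] at hmem
      exact hmem
    · rw [LinearMap.mem_ker]
      exact W.2.2.2 v W.2.2.1 w.1 w.2.1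
    · apply Subtype.ext
      show Submodule.span F {v, w.1} = W.1
      have : FiniteDimensional F W.1 := inferInstance
      apply Submodule.eq_of_le_of_finrank_eq
      · rw [Submodule.span_le]
        intro y hy
        rcases hy with rfl | rfl
        · exact W.2.2.1
        · exact w.2.1
      · rw [finrank_span_pair hv w.2.2, W.2.1]
  -- every fibre has `q ^ 2 - q` elements
  have hfib' : ∀ W, Nat.card {w // f w = W} = q ^ 2 - q := fun W => by
    have := hfib W; omega
  have hmain := card_fibers f (q ^ 2 - q) hfib'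
  have hle : q ≤ q ^ 2 := by nlinarith
  have hpos : 0 < q ^ 2 - q := by
    have : q * 2 ≤ q * q := Nat.mul_le_mul_left q hq2
    have : q ^ 2 = q * q := sq q
    omega
  have hx : q ^ 2 - q + q = q ^ 2 := Nat.sub_add_cancel hle
  -- `(q + 1) * (q ^ 2 - q) = q ^ 3 - q`
  have key : Nat.card {w : V // w ∈ LinearMap.ker (B v) ∧ w ∉ Submodule.span F {v}} =
      (q + 1) * (q ^ 2 - q) := by
    have h1 : (q + 1) * (q ^ 2 - q) + q = q ^ 3 := arith1 q _ hx
    omega
  rw [key] at hmain
  exact (Nat.eq_of_mul_eq_mul_right hpos hmain).symm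

theorem arith2 (q y z t : ℕ) (hq2 : 2 ≤ q) (hy : y + 1 = q ^ 2) (hz : z + 1 = q ^ 4)
    (ht : t * y = z * (q + 1)) : t = (q + 1) * (q ^ 2 + 1) := by
  have hz' : z = y * (q ^ 2 + 1) := by
    have : y * (q ^ 2 + 1) + 1 = q ^ 4 := by
      calc y * (q ^ 2 + 1) + 1 = y * q ^ 2 + (y + 1) := by ring
        _ = y * q ^ 2 + q ^ 2 := by rw [hy]
        _ = (y + 1) * q ^ 2 := by ring
        _ = q ^ 2 * q ^ 2 := by rw [hy]
        _ = q ^ 4 := by ring
    omega
  have hypos : 0 < y := by
    have : 2 * 2 ≤ q * q := Nat.mul_le_mul hq2 hq2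
    have : q ^ 2 = q * q := sq q
    omega
  have h : t * y = (q + 1) * (q ^ 2 + 1) * y := by
    rw [ht, hz']
    ring
  exact Nat.eq_of_mul_eq_mul_right hypos h

/-- the number of totally isotropic planes -/
theorem card_T {q : ℕ} (hq : Nat.card F = q) (h4 : finrank F V = 4) (halt : ∀ v, B v v = 0)
    (hnd : ∀ v, v ≠ 0 → B v ≠ 0) :
    Nat.card {W : Submodule F V // finrank F W = 2 ∧ TI B W} = (q + 1) * (q ^ 2 + 1) := by
  classical
  have hq2 : 2 ≤ q := by
    rw [← hq, Nat.card_eq_fintype_card]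
    exact Fintype.one_lt_card
  let Flags := {x : V × Submodule F V // x.1 ≠ 0 ∧ finrank F x.2 = 2 ∧ x.1 ∈ x.2 ∧ TI B x.2}
  let f1 : Flags → {W : Submodule F V // finrank F W = 2 ∧ TI B W} := fun x =>
    ⟨x.1.2, x.2.2.1, x.2.2.2.2⟩
  let f2 : Flags → {v : V // v ≠ 0} := fun x => ⟨x.1.1, x.2.1⟩
  have hcbot : Nat.card (⊥ : Submodule F V) = 1 := by
    rw [Module.natCard_eq_pow_finrank (K := F), finrank_bot, pow_zero]
  have hfib1 : ∀ W, Nat.card {x // f1 x = W} + 1 = q ^ 2 := by
    intro W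
    have h1 := card_diff (⊥ : Submodule F V) W.1 bot_le
    rw [hcbot, Module.natCard_eq_pow_finrank (K := F) (V := W.1), W.2.1, hq] at h1
    rw [← h1]
    congr 1
    apply Nat.card_congr
    refine
      { toFun := fun x => ⟨x.1.1.1, ?_, ?_⟩
        invFun := fun w => ⟨⟨(w.1, W.1), ?_, W.2.1, w.2.1, W.2.2⟩, rfl⟩
        left_inv := fun x => ?_
        right_inv := fun w => rfl }
    · have hx : (f1 x.1).1 = W.1 := congrArg Subtype.val x.2
      have hmem : x.1.1.1 ∈ (f1 x.1).1 := x.1.2.2.2.1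
      rw [hx] at hmem
      exact hmem
    · rw [Submodule.mem_bot]
      exact x.1.2.1
    · have := w.2.2
      rwa [Submodule.mem_bot] at this
    · apply Subtype.ext
      apply Subtype.ext
      have hx : (f1 x.1).1 = W.1 := congrArg Subtype.val x.2
      exact Prod.ext rfl hx.symm
  have hfib2 : ∀ v, Nat.card {x // f2 x = v} = q + 1 := by
    intro v
    rw [← card_Tv B hq h4 halt hnd v.1 v.2]
    apply Nat.card_congr
    refine
      { toFun := fun x => ⟨x.1.1.2, x.1.2.2.1, ?_, x.1.2.2.2.2⟩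
        invFun := fun W => ⟨⟨(v.1, W.1), v.2, W.2.1, W.2.2.1, W.2.2.2⟩, rfl⟩
        left_inv := fun x => ?_
        right_inv := fun w => rfl }
    · have hx : (f2 x.1).1 = v.1 := congrArg Subtype.val x.2
      have hmem : (f2 x.1).1 ∈ x.1.1.2 := x.1.2.2.2.1
      rw [hx] at hmem
      exact hmem
    · apply Subtype.ext
      apply Subtype.ext
      have hx : (f2 x.1).1 = v.1 := congrArg Subtype.val x.2
      exact Prod.ext hx.symm rfl
  have hle : 1 ≤ q ^ 2 := Nat.one_le_pow _ _ (by omega)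
  have hfib1' : ∀ W, Nat.card {x // f1 x = W} = q ^ 2 - 1 := fun W => by
    have := hfib1 W; omega
  have hm1 := card_fibers f1 (q ^ 2 - 1) hfib1'
  have hm2 := card_fibers f2 (q + 1) hfib2
  have hnz : Nat.card {v : V // v ≠ 0} + 1 = q ^ 4 := by
    have h1 := card_diff (⊥ : Submodule F V) ⊤ bot_le
    rw [hcbot, Module.natCard_eq_pow_finrank (K := F) (V := (⊤ : Submodule F V)), finrank_top, h4,
      hq] at h1
    rw [← h1]
    congr 1
    apply Nat.card_congr
    exact
      { toFun := fun v => ⟨v.1, Submodule.mem_top, fun h => v.2 ((Submodule.mem_bot F).1 h)⟩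
        invFun := fun w => ⟨w.1, fun h => w.2.2 ((Submodule.mem_bot F).2 h)⟩
        left_inv := fun v => rfl
        right_inv := fun w => rfl }
  apply arith2 q (q ^ 2 - 1) (Nat.card {v : V // v ≠ 0}) _ hq2 (Nat.sub_add_cancel hle) hnz
  rw [← hm1, hm2]

end abstract

section concrete

variable {F : Type*} [Field F]

/-- the symplectic form as a bilinear map -/
noncomputable def sB (F : Type*) [Field F] :
    (Fin 2 ⊕ Fin 2 → F) →ₗ[F] (Fin 2 ⊕ Fin 2 → F) →ₗ[F] F :=
  LinearMap.mk₂ F (Cfsg.sympForm 2 F)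
    (Cfsg.Agent.Lib.Helper13_Symp.sympForm_add_left 2)
    (fun a u v => by
      rw [Cfsg.Agent.Lib.Helper13_Symp.sympForm_smul_left, smul_eq_mul])
    (Cfsg.Agent.Lib.Helper13_Symp.sympForm_add_right 2)
    (fun a u v => by
      rw [Cfsg.Agent.Lib.Helper13_Symp.sympForm_smul_right, smul_eq_mul])

theorem sB_apply (u v : Fin 2 ⊕ Fin 2 → F) : sB F u v = Cfsg.sympForm 2 F u v := rfl

theorem sB_alt (v : Fin 2 ⊕ Fin 2 → F) : sB F v v = 0 :=
  Cfsg.Agent.Lib.Helper13_Symp.sympForm_self 2 v

theorem sB_nd (v : Fin 2 ⊕ Fin 2 → F) (hv : v ≠ 0) : sB F v ≠ 0 := by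
  obtain ⟨w, hw⟩ := Cfsg.Agent.Lib.Helper13_SympTrans.exists_sympForm_ne_zero 2 hv
  intro h
  apply hw
  rw [← sB_apply, h, LinearMap.zero_apply]

theorem finrank4 : finrank F (Fin 2 ⊕ Fin 2 → F) = 4 := by
  rw [Module.finrank_fintype_fun_eq_card]
  rfl

end concrete

/-- The symplectic generalised quadrangle over a field with q elements: the number of 2-dimensional subspaces of F^4 on which the symplectic form vanishes is (q + 1)(q² + 1), and every non-zero vector lies in exactly q + 1 of them. -/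
theorem result {F : Type*} [Field F] [Fintype F] {q : ℕ} (hF : Fintype.card F = q) : Nat.card {W : Submodule F (Fin 2 ⊕ Fin 2 → F) // Module.finrank F W = 2 ∧ ∀ u ∈ W, ∀ v ∈ W, Cfsg.sympForm 2 F u v = 0} = (q + 1) * (q ^ 2 + 1) ∧ ∀ v : Fin 2 ⊕ Fin 2 → F, v ≠ 0 → Nat.card {W : Submodule F (Fin 2 ⊕ Fin 2 → F) // Module.finrank F W = 2 ∧ v ∈ W ∧ ∀ u ∈ W, ∀ w ∈ W, Cfsg.sympForm 2 F u w = 0} = q + 1 := by
  have hq : Nat.card F = q := by rw [Nat.card_eq_fintype_card, hF]
  constructor
  · exact card_T (sB F) hq finrank4 sB_alt sB_nd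
  · intro v hv
    exact card_Tv (sB F) hq finrank4 sB_alt sB_nd v hv

end Cfsg.Agent.S0828
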