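import Cfsg.Statements.S0830
import Cfsg.Agent.Lib.Helper13_HermFrames
import Cfsg.Agent.S0285

set_option autoImplicit false
open Cfsg

namespace Cfsg.Agent.S0830

open Cfsg.Agent.Lib.Helper13_HermFrames

/-- The unitary quadrangle of PSU_5(q): with |F| = q², the number of 2-dimensional subspaces of F^5 on which the Hermitian form vanishes is (q³ + 1)(q⁵ + 1). -/
theorem result {F : Type*} [Field F] [Fintype F] {q : ℕ} (hF : Fintype.card F = q ^ 2) : Nat.card {W : Submodule F (Fin 5 → F) // Module.finrank F W = 2 ∧ ∀ u ∈ W, ∀ v ∈ W, Cfsg.hermForm 5 F q u v = 0} = (q ^ 3 + 1) * (q ^ 5 + 1) := by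
  have hq : 2 ≤ q := Cfsg.Agent.Lib.Helper13_Herm.two_le_q hF
  have h1 := card_isoSub_mul (F := F) (n := 5) (k := 2) hF
  rw [card_frames_succ hF 3 1, card_frames_succ hF 1 0, card_frames_zero] at h1
  have h5 := card_isoVec_add_one (F := F) 5 q
  rw [Cfsg.Agent.S0285.result hF 5, if_neg (by decide)] at h5
  have h3 := card_isoVec_add_one (F := F) 3 q
  rw [Cfsg.Agent.S0285.result hF 3, if_neg (by decide)] at h3
  have h5' : Nat.card (IsoVec F 5 q) = (q ^ 5 + 1) * (q ^ (5 - 1) - 1) := by omega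
  have h3' : Nat.card (IsoVec F 3 q) = (q ^ 3 + 1) * (q ^ (3 - 1) - 1) := by omega
  rw [h5', h3', Fin.prod_univ_two] at h1
  simp only [Fin.val_zero, Fin.val_one, pow_zero, pow_one, mul_one,
    Nat.add_one_sub_one] at h1
  have e1 : (q ^ 2) ^ 2 = q ^ 4 := by ring
  have e2 : q ^ 4 - q ^ 2 = q ^ 2 * (q ^ 2 - 1) := by
    rw [Nat.mul_sub, mul_one]
    congr 1
    ring
  rw [e1, e2] at h1
  have hpos : 0 < (q ^ 4 - 1) * (q ^ 2 * (q ^ 2 - 1)) := by
    have h5 : 2 ^ 4 ≤ q ^ 4 := Nat.pow_le_pow_left hq 4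
    have h6 : 2 ^ 2 ≤ q ^ 2 := Nat.pow_le_pow_left hq 2
    apply Nat.mul_pos
    · omega
    · apply Nat.mul_pos <;> omega
  apply Nat.eq_of_mul_eq_mul_right hpos
  show Nat.card (IsoSub F 5 q 2) * _ = _
  rw [h1]
  ring

end Cfsg.Agent.S0830
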