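import Cfsg.Statements.S2629
import Cfsg.Agent.Lib.Helper44_Flip
import Cfsg.Agent.Lib.Helper44_StdForms
import Cfsg.Agent.Lib.Helper14_CartanDieudonne

set_option autoImplicit false
open Cfsg

namespace Cfsg.Agent.S2629

open Module Matrix Cfsg.Agent.Lib.Helper44_Flip Cfsg.Agent.Lib.Helper44_StdForms
  Cfsg.Agent.Lib.Helper44_Refl Cfsg.Agent.Lib.Helper44_Spinor
  Cfsg.Agent.Lib.Helper14_CartanDieudonne

variable (m : ℕ) (F : Type*) [Field F]

/-- The standard maximal totally singular subspace `{y = 0}`. -/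
def U0 : Submodule F (Fin m ⊕ Fin m → F) :=
  LinearMap.ker (LinearMap.funLeft F F (Sum.inr : Fin m → Fin m ⊕ Fin m))

theorem mem_U0 (v : Fin m ⊕ Fin m → F) : v ∈ U0 m F ↔ ∀ i, v (Sum.inr i) = 0 := by
  rw [U0, LinearMap.mem_ker]
  constructor
  · intro h i
    have := congrFun h i
    simpa [LinearMap.funLeft_apply] using this
  · intro h
    funext i
    simpa [LinearMap.funLeft_apply] using h i

theorem finrank_U0 : finrank F (U0 m F) = m := by
  have hsurj : Function.Surjective (LinearMap.funLeft F F (Sum.inr : Fin m → Fin m ⊕ Fin m)) :=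
    LinearMap.funLeft_surjective_of_injective F F _ Sum.inr_injective
  have h1 := LinearMap.finrank_range_add_finrank_ker
    (LinearMap.funLeft F F (Sum.inr : Fin m → Fin m ⊕ Fin m))
  rw [LinearMap.range_eq_top.mpr hsurj, finrank_top] at h1
  simp only [finrank_fintype_fun_eq_card, Fintype.card_fin, Fintype.card_sum] at h1
  rw [U0]
  omega

theorem ts_U0 (v : Fin m ⊕ Fin m → F) (hv : v ∈ U0 m F) : qfPlus m F v = 0 := by
  rw [coe_qfPlus, Cfsg.quadFormPlus]
  apply Finset.sum_eq_zero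
  intro i _
  rw [(mem_U0 m F v).mp hv i, mul_zero]

theorem nondegenerate_qfPlus : (QuadraticMap.polarBilin (qfPlus m F)).Nondegenerate := by
  refine (LinearMap.BilinForm.nondegenerate_iff_det_ne_zero (Pi.basisFun F (Fin m ⊕ Fin m))).mpr ?_
  have : LinearMap.BilinForm.toMatrix (Pi.basisFun F (Fin m ⊕ Fin m))
      (QuadraticMap.polarBilin (qfPlus m F))
      = Matrix.of (fun i j : Fin m ⊕ Fin m =>
          QuadraticMap.polar (Cfsg.quadFormPlus m F) (Pi.single i 1) (Pi.single j 1)) := by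
    ext i j
    simp [LinearMap.BilinForm.toMatrix_apply, coe_qfPlus]
  rw [this, det_gram_quadFormPlus]
  exact pow_ne_zero _ (neg_ne_zero.mpr one_ne_zero)

/-- The dimension of `U₀ ∩ M U₀`. -/
noncomputable def dimInt (M : Matrix (Fin m ⊕ Fin m) (Fin m ⊕ Fin m) F) : ℕ :=
  finrank F ↥(U0 m F ⊓ (U0 m F).map (Matrix.mulVecLin M))

theorem dimInt_one : dimInt m F 1 = m := by
  rw [dimInt, Matrix.mulVecLin_one, Submodule.map_id, inf_idem, finrank_U0]

theorem dimInt_le (M : Matrix (Fin m ⊕ Fin m) (Fin m ⊕ Fin m) F) : dimInt m F M ≤ m := by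
  rw [dimInt]
  exact (Submodule.finrank_mono inf_le_left).trans (finrank_U0 m F).le

theorem dimInt_flip (M : Matrix (Fin m ⊕ Fin m) (Fin m ⊕ Fin m) F)
    (h1 : ∀ x, qfPlus m F (M *ᵥ x) = qfPlus m F x) (h2 : Function.Injective (Matrix.mulVecLin M))
    (v : Fin m ⊕ Fin m → F) (hv : qfPlus m F v ≠ 0) :
    dimInt m F M = dimInt m F (Cfsg.reflectionMatrix (⇑(qfPlus m F)) v * M) + 1 ∨
      dimInt m F (Cfsg.reflectionMatrix (⇑(qfPlus m F)) v * M) = dimInt m F M + 1 := by
  rw [dimInt, dimInt, Matrix.mulVecLin_mul, Submodule.map_comp]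
  set W := (U0 m F).map (Matrix.mulVecLin M) with hW
  have hWts : ∀ w ∈ W, qfPlus m F w = 0 := by
    rintro w ⟨u, hu, rfl⟩
    rw [Matrix.mulVecLin_apply, h1]
    exact ts_U0 m F u hu
  have hWm : finrank F W = m := by
    rw [hW]
    exact (Submodule.equivMapOfInjective _ h2 (U0 m F)).finrank_eq.symm.trans (finrank_U0 m F)
  have hV : finrank F (Fin m ⊕ Fin m → F) = 2 * m := by
    simp; ring
  exact flip (qfPlus m F) (nondegenerate_qfPlus m F) hV (U0 m F) W (ts_U0 m F) hWts
    (finrank_U0 m F) hWm v hv (Matrix.mulVecLin (Cfsg.reflectionMatrix (⇑(qfPlus m F)) v))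
    (fun x => by rw [Matrix.mulVecLin_apply, reflectionMatrix_mulVec])

theorem key (vs : List (Fin m ⊕ Fin m → F)) (hvs : ∀ v ∈ vs, qfPlus m F v ≠ 0) :
    (∀ x, qfPlus m F ((vs.map (fun v => Cfsg.reflectionMatrix (⇑(qfPlus m F)) v)).prod *ᵥ x)
        = qfPlus m F x) ∧
    Function.Injective
      (Matrix.mulVecLin (vs.map (fun v => Cfsg.reflectionMatrix (⇑(qfPlus m F)) v)).prod) ∧
    (Even (m - dimInt m F (vs.map (fun v => Cfsg.reflectionMatrix (⇑(qfPlus m F)) v)).prod)
      ↔ Even vs.length) ∧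
    ((vs.map (fun v => Cfsg.reflectionMatrix (⇑(qfPlus m F)) v)).prod).det = (-1) ^ vs.length := by
  induction vs with
  | nil =>
    refine ⟨fun x => by simp, ?_, ?_, by simp⟩
    · simp only [List.map_nil, List.prod_nil, Matrix.mulVecLin_one]
      exact Function.injective_id
    · simp only [List.map_nil, List.prod_nil, dimInt_one, Nat.sub_self, List.length_nil]
  | cons v vs ih =>
    have hv : qfPlus m F v ≠ 0 := hvs v (List.mem_cons_self)
    obtain ⟨ih1, ih2, ih3, ih4⟩ := ih (fun w hw => hvs w (List.mem_cons_of_mem _ hw))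
    set M' := (vs.map (fun v => Cfsg.reflectionMatrix (⇑(qfPlus m F)) v)).prod with hM'
    simp only [List.map_cons, List.prod_cons, List.length_cons]
    have hR : ∀ x, qfPlus m F (Cfsg.reflectionMatrix (⇑(qfPlus m F)) v *ᵥ x) = qfPlus m F x :=
      map_reflection (qfPlus m F) hv
    have hRinj : Function.Injective (Matrix.mulVecLin (Cfsg.reflectionMatrix (⇑(qfPlus m F)) v)) := by
      intro x y hxy
      have h1 := congrArg (fun z => Cfsg.reflectionMatrix (⇑(qfPlus m F)) v *ᵥ z) hxy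
      simp only [Matrix.mulVecLin_apply, Matrix.mulVec_mulVec,
        reflectionMatrix_mul_self (qfPlus m F) hv, Matrix.one_mulVec] at h1
      exact h1
    refine ⟨?_, ?_, ?_, ?_⟩
    · intro x
      rw [← Matrix.mulVec_mulVec, hR, ih1]
    · rw [Matrix.mulVecLin_mul]
      exact hRinj.comp ih2
    · have hflip := dimInt_flip m F M' ih1 ih2 v hv
      have hd1 := dimInt_le m F M'
      have hd2 := dimInt_le m F (Cfsg.reflectionMatrix (⇑(qfPlus m F)) v * M')
      rw [Nat.even_add_one, ← ih3]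
      rcases hflip with h | h
      · have : m - dimInt m F (Cfsg.reflectionMatrix (⇑(qfPlus m F)) v * M')
            = (m - dimInt m F M') + 1 := by omega
        rw [this, Nat.even_add_one]
      · have : m - dimInt m F M'
            = (m - dimInt m F (Cfsg.reflectionMatrix (⇑(qfPlus m F)) v * M')) + 1 := by omega
        rw [this, Nat.even_add_one, not_not]
    · rw [Matrix.det_mul, det_reflectionMatrix (qfPlus m F) hv, ih4, pow_succ]
      ring

theorem result {F : Type*} [Field F] [Fintype F] (h2 : (2 : F) ≠ 0) {m : ℕ} (hm : 1 ≤ m) (g : ↥(Cfsg.isometryGroup F (Cfsg.quadFormPlus m F))) : Even (m - Module.finrank F ↥(LinearMap.ker (LinearMap.funLeft F F (Sum.inr : Fin m → Fin m ⊕ Fin m)) ⊓ (LinearMap.ker (LinearMap.funLeft F F (Sum.inr : Fin m → Fin m ⊕ Fin m))).map (Matrix.mulVecLin ((g : Matrix.GeneralLinearGroup (Fin m ⊕ Fin m) F) : Matrix (Fin m ⊕ Fin m) (Fin m ⊕ Fin m) F)))) ↔ ((g : Matrix.GeneralLinearGroup (Fin m ⊕ Fin m) F) : Matrix (Fin m ⊕ Fin m)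 (Fin m ⊕ Fin m) F).det = 1 := by
  revert g
  rw [← coe_qfPlus]
  intro g
  obtain ⟨vs, hvs, hg⟩ := exists_list_reflT h2 (qfPlus m F) (nondegenerate_qfPlus m F) g
  have hcoe := prod_reflT_coe (qfPlus m F) vs hvs
  rw [← hg] at hcoe
  obtain ⟨-, -, k3, k4⟩ := key m F vs hvs
  rw [hcoe] at *
  rw [k4]
  change Even (m - dimInt m F _) ↔ _
  rw [k3]
  constructor
  · intro he
    exact Even.neg_one_pow he
  · intro h1
    by_contra hodd
    rw [Nat.not_even_iff_odd] at hodd
    rw [Odd.neg_one_pow hodd] at h1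
    have : (2 : F) = 0 := by linear_combination -h1
    exact h2 this

end Cfsg.Agent.S2629
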