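import Cfsg.Statements.S0831
import Cfsg.Agent.Lib.Helper14_MaxTS
import Cfsg.Agent.Lib.Helper44_StdForms
import Cfsg.Agent.S2629

set_option autoImplicit false
open Cfsg

namespace Cfsg.Agent.S0831

open Module Cfsg.Agent.Helper14_MaxTS Cfsg.Agent.Lib.Helper44_StdForms

theorem hV (m : ℕ) (F : Type*) [Field F] : finrank F (Fin m ⊕ Fin m → F) = 2 * m := by
  simp [two_mul]

/-- The two families of maximal totally singular subspaces of the hyperbolic quadric: for the form Σ x_i y_i on F^(2m), m ≥ 1, and m-dimensional subspaces U, W, X on which it vanishes, the parities of m − dim(U ∩ W), m − dim(W ∩ X) and m − dim(U ∩ X) sum to an even number (so 'even codimension of the intersection' is an equivalence relation), and there exist two such subspaces meeting in codimension 1 (so there are exactly two classes). -/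
theorem result {F : Type*} [Field F] (m : ℕ) (hm : 1 ≤ m) : (∀ U W X : Submodule F (Fin m ⊕ Fin m → F), (Module.finrank F U = m ∧ ∀ w ∈ U, Cfsg.quadFormPlus m F w = 0) → (Module.finrank F W = m ∧ ∀ w ∈ W, Cfsg.quadFormPlus m F w = 0) → (Module.finrank F X = m ∧ ∀ w ∈ X, Cfsg.quadFormPlus m F w = 0) → Even ((m - Module.finrank F ↥(U ⊓ W)) + (m - Module.finrank F ↥(W ⊓ X)) + (m - Module.finrank F ↥(U ⊓ X)))) ∧ ∃ U W : Submodule F (Fin m ⊕ Fin m → F), (Module.finrank F U = m ∧ ∀ w ∈ U, Cfsg.quadFormPlus m F w = 0) ∧ (Module.finrank F W = m ∧ ∀ w ∈ W, Cfsg.quadFormPlus m F w = 0) ∧ Module.finrank F ↥(U ⊓ W) + 1 = m := by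
  have hQ := Cfsg.Agent.S2629.nondegenerate_qfPlus m F
  constructor
  · rintro U W X ⟨hUm, hU⟩ ⟨hWm, hW⟩ ⟨hXm, hX⟩
    simp only [← coe_qfPlus] at hU hW hX
    exact parity (qfPlus m F) hQ (hV m F) hU hUm hW hWm hX hXm
  · have hU0 := Cfsg.Agent.S2629.ts_U0 m F
    have hU0m := Cfsg.Agent.S2629.finrank_U0 m F
    obtain ⟨w, hwdef⟩ : ∃ w : Fin m ⊕ Fin m → F, w = Pi.single (Sum.inr ⟨0, hm⟩) 1 := ⟨_, rfl⟩
    have hw : qfPlus m F w = 0 := by
      rw [coe_qfPlus, Cfsg.quadFormPlus]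
      apply Finset.sum_eq_zero
      intro i _
      rw [hwdef]
      simp
    have hwU : w ∉ Cfsg.Agent.S2629.U0 m F := by
      rw [Cfsg.Agent.S2629.mem_U0]
      intro h
      have := h ⟨0, hm⟩
      rw [hwdef] at this
      simp at this
    obtain ⟨U', hU', hU'm, hadj, -, -⟩ := exists_adj (qfPlus m F) hQ (hV m F) hU0 hU0m hw hwU
    refine ⟨Cfsg.Agent.S2629.U0 m F, U', ⟨hU0m, ?_⟩, ⟨hU'm, ?_⟩, hadj⟩
    · intro v hv
      rw [← coe_qfPlus]
      exact hU0 v hv
    · intro v hv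
      rw [← coe_qfPlus]
      exact hU' v hv

end Cfsg.Agent.S0831
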