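import Cfsg.Statements.S0832
import Cfsg.Agent.Lib.Helper14_MaxTS
import Cfsg.Agent.Lib.Helper44_StdForms
import Cfsg.Agent.S2629

set_option autoImplicit false
open Cfsg

namespace Cfsg.Agent.S0832

open Module Cfsg.Agent.Helper14_MaxTS Cfsg.Agent.Lib.Helper44_StdForms

theorem hV (m : ℕ) (F : Type*) [Field F] : finrank F (Fin m ⊕ Fin m → F) = 2 * m := by
  simp [two_mul]

/-- For the form Σ x_i y_i on F^(2m) over a finite field, m ≥ 1: an (m−1)-dimensional subspace on which the form vanishes is contained in exactly two m-dimensional subspaces on which it vanishes. -/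
theorem result {F : Type*} [Field F] [Finite F] (m : ℕ) (hm : 1 ≤ m) (U : Submodule F (Fin m ⊕ Fin m → F)) (hU : Module.finrank F U + 1 = m ∧ ∀ u ∈ U, Cfsg.quadFormPlus m F u = 0) : Nat.card {W : Submodule F (Fin m ⊕ Fin m → F) // Module.finrank F W = m ∧ (∀ w ∈ W, Cfsg.quadFormPlus m F w = 0) ∧ U ≤ W} = 2 := by
  have hQ := Cfsg.Agent.S2629.nondegenerate_qfPlus m F
  obtain ⟨hUm, hUts⟩ := hU
  have hH : ∀ u ∈ U, qfPlus m F u = 0 := by
    intro u hu
    rw [coe_qfPlus]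
    exact hUts u hu
  have hU0 := Cfsg.Agent.S2629.ts_U0 m F
  have hU0m := Cfsg.Agent.S2629.finrank_U0 m F
  obtain ⟨x, hxU0, hxo, hxn⟩ := exists_ext (qfPlus m F) hQ (hV m F) hU0 hU0m hH hUm
  have hx : qfPlus m F x = 0 := hU0 x hxU0
  obtain ⟨z, hz, hzo, hxz⟩ := exists_pair (qfPlus m F) hQ (hV m F) hH hUm hx hxo hxn
  have hzn : z ∉ U := not_mem_of_pol_ne (qfPlus m F) hQ (hV m F) hxo
    (by rwa [pol_comm (qfPlus m F) z x])
  obtain ⟨hW1, hW1m⟩ := mts_sup_span (qfPlus m F) hQ (hV m F) hH hUm hx hxo hxn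
  obtain ⟨hW2, hW2m⟩ := mts_sup_span (qfPlus m F) hQ (hV m F) hH hUm hz hzo hzn
  rw [Nat.card_eq_two_iff]
  refine ⟨⟨U ⊔ Submodule.span F {x}, hW1m, ?_, le_sup_left⟩,
    ⟨U ⊔ Submodule.span F {z}, hW2m, ?_, le_sup_left⟩, ?_, ?_⟩
  · intro w hw
    rw [← coe_qfPlus]
    exact hW1 w hw
  · intro w hw
    rw [← coe_qfPlus]
    exact hW2 w hw
  · intro h
    exact pair_distinct (qfPlus m F) hQ (hV m F) hx hxo hxz (congrArg Subtype.val h)
  · rw [Set.eq_univ_iff_forall]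
    rintro ⟨T, hTm, hTts, hUT⟩
    have hT : ∀ u ∈ T, qfPlus m F u = 0 := by
      intro u hu
      rw [coe_qfPlus]
      exact hTts u hu
    rcases pair_unique (qfPlus m F) hQ (hV m F) hH hUm hx hz hxo hzo hxz hT hTm hUT with h | h
    · left
      exact Subtype.ext h
    · right
      exact Subtype.ext h

end Cfsg.Agent.S0832
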