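import Mathlib
import Cfsg.Statements.S0833

set_option autoImplicit false
open Cfsg

namespace Cfsg.Agent.S0833

open Module TensorProduct LinearMap

variable {F U W : Type*} [Field F] [AddCommGroup U] [Module F U] [FiniteDimensional F U]
  [AddCommGroup W] [Module F W] [FiniteDimensional F W]

attribute [local ext] TensorProduct.ext in
theorem tmul_symm_of_alt (B₁ : LinearMap.BilinForm F U) (B₂ : LinearMap.BilinForm F W)
    (hA₁ : B₁.IsAlt) (hA₂ : B₂.IsAlt) : (B₁.tmul B₂).IsSymm := by
  rw [LinearMap.isSymm_iff_eq_flip]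
  ext x₁ x₂ y₁ y₂
  show B₂ x₂ y₂ • B₁ x₁ y₁ = B₂ y₂ x₂ • B₁ y₁ x₁
  rw [← hA₁.neg_eq x₁ y₁, ← hA₂.neg_eq x₂ y₂]
  simp

theorem tmul_sepRight (B₁ : LinearMap.BilinForm F U) (B₂ : LinearMap.BilinForm F W)
    (h₁ : B₁.Nondegenerate) (h₂ : B₂.Nondegenerate) : (B₁.tmul B₂).SeparatingRight := by
  intro y hy
  set b := Module.finBasis F U with hb
  set c := Module.finBasis F W with hc
  set b' := B₁.dualBasis h₁ b with hb'
  set c' := B₂.dualBasis h₂ c with hc'
  set T := b.tensorProduct c with hT
  apply T.ext_elem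
  rintro ⟨i, j⟩
  have := hy (b' i ⊗ₜ c' j)
  rw [← T.sum_repr y, map_sum] at this
  simp only [map_smul, hT, Basis.tensorProduct_apply', LinearMap.BilinForm.tensorDistrib_tmul,
    hb', hc', LinearMap.BilinForm.apply_dualBasis_left, smul_eq_mul] at this
  rw [Fintype.sum_prod_type] at this
  simp only [mul_ite, mul_one, mul_zero] at this
  rw [Finset.sum_comm] at this
  simp only [Finset.sum_ite_eq', Finset.mem_univ, if_true] at this
  rw [this]
  simp

/-- Totally isotropic subspaces of every dimension up to `k` in a non-degenerate alternating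
space of dimension `2k`. -/
theorem exists_isotropic (B : LinearMap.BilinForm F U) (hB : B.Nondegenerate) (hA : B.IsAlt) (k : ℕ)
    (hU : finrank F U = 2 * k) :
    ∀ j ≤ k, ∃ L : Submodule F U, finrank F L = j ∧ ∀ x ∈ L, ∀ y ∈ L, B x y = 0 := by
  intro j
  induction j with
  | zero =>
    intro _
    refine ⟨⊥, by simp, ?_⟩
    intro x hx y _
    rw [(Submodule.mem_bot F).mp hx]
    simp
  | succ j ih =>
    intro hj
    obtain ⟨L, hLdim, hLiso⟩ := ih (by omega)
    have hLle : L ≤ B.orthogonal L := by
      intro y hy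
      rw [LinearMap.BilinForm.mem_orthogonal_iff]
      intro n hn
      exact hLiso n hn y hy
    have hdim : finrank F (B.orthogonal L) = 2 * k - j := by
      rw [LinearMap.BilinForm.finrank_orthogonal hB, hU, hLdim]
    have hne : L ≠ B.orthogonal L := by
      intro h
      rw [← h, hLdim] at hdim
      omega
    have hlt : L < B.orthogonal L := lt_of_le_of_ne hLle hne
    obtain ⟨v, hvO, hvL⟩ := SetLike.exists_of_lt hlt
    rw [LinearMap.BilinForm.mem_orthogonal_iff] at hvO
    refine ⟨L ⊔ Submodule.span F {v}, ?_, ?_⟩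
    · have h1 : finrank F L < finrank F (L ⊔ Submodule.span F {v} : Submodule F U) := by
        apply Submodule.finrank_lt_finrank_of_lt
        apply lt_of_le_of_ne le_sup_left
        intro h
        apply hvL
        rw [h]
        exact Submodule.mem_sup_right (Submodule.mem_span_singleton_self v)
      have h2 := Submodule.finrank_add_le_finrank_add_finrank L (Submodule.span F {v})
      have h3 : finrank F (Submodule.span F {v}) ≤ 1 := by
        have := finrank_span_le_card (R := F) ({v} : Set U)
        simpa using this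
      omega
    · intro x hx y hy
      obtain ⟨a, ha, s, hs, rfl⟩ := Submodule.mem_sup.mp hx
      obtain ⟨a', ha', s', hs', rfl⟩ := Submodule.mem_sup.mp hy
      obtain ⟨r, rfl⟩ := Submodule.mem_span_singleton.mp hs
      obtain ⟨r', rfl⟩ := Submodule.mem_span_singleton.mp hs'
      have e1 : B a a' = 0 := hLiso a ha a' ha'
      have e2 : B a v = 0 := hvO a ha
      have e3 : B v a' = 0 := by rw [← hA.neg_eq a' v, hvO a' ha', neg_zero]
      have e4 : B v v = 0 := hA.self_eq_zero v
      simp [e1, e2, e3, e4]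

theorem result {F U W : Type*} [Field F] [Fintype F] [AddCommGroup U] [Module F U] [FiniteDimensional F U] [AddCommGroup W] [Module F W] [FiniteDimensional F W] (B₁ : LinearMap.BilinForm F U) (B₂ : LinearMap.BilinForm F W) (h₁ : B₁.Nondegenerate) (h₂ : B₂.Nondegenerate) (hA₁ : B₁.IsAlt) (hA₂ : B₂.IsAlt) (k l : ℕ) (hU : Module.finrank F U = 2 * k) (hW : Module.finrank F W = 2 * l) : (B₁.tmul B₂).IsSymm ∧ (B₁.tmul B₂).Nondegenerate ∧ (∃ X : Submodule F (TensorProduct F U W), Module.finrank F X = 2 * k * l ∧ ∀ x ∈ X, ∀ y ∈ X, (B₁.tmul B₂) x y = 0) := by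
  have hsymm := tmul_symm_of_alt B₁ B₂ hA₁ hA₂
  have hright := tmul_sepRight B₁ B₂ h₁ h₂
  refine ⟨hsymm, ⟨?_, hright⟩, ?_⟩
  · intro x hx
    apply hright x
    intro y
    have := hsymm.eq y x
    simp only [RingHom.id_apply] at this
    rw [this]
    exact hx y
  · obtain ⟨L, hLdim, hLiso⟩ := exists_isotropic B₁ h₁ hA₁ k hU k le_rfl
    set f : L ⊗[F] W →ₗ[F] U ⊗[F] W := LinearMap.rTensor W L.subtype with hf
    have hinj : Function.Injective f :=
      Module.Flat.rTensor_preserves_injective_linearMap L.subtype L.injective_subtype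
    refine ⟨LinearMap.range f, ?_, ?_⟩
    · rw [LinearMap.finrank_range_of_inj hinj, Module.finrank_tensorProduct, hLdim, hW]
      ring
    · rintro _ ⟨x, rfl⟩ _ ⟨y, rfl⟩
      induction x using TensorProduct.induction_on with
      | zero => simp
      | add x₁ x₂ hx₁ hx₂ => rw [map_add, map_add, LinearMap.add_apply, hx₁, hx₂, add_zero]
      | tmul u w =>
        induction y using TensorProduct.induction_on with
        | zero => simp
        | add y₁ y₂ hy₁ hy₂ => rw [map_add, map_add, hy₁, hy₂, add_zero]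
        | tmul u' w' =>
          simp only [hf, LinearMap.rTensor_tmul, Submodule.subtype_apply,
            LinearMap.BilinForm.tensorDistrib_tmul]
          rw [hLiso u u.2 u' u'.2, smul_zero]

end Cfsg.Agent.S0833
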