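import Cfsg.Statements.S0835
import Cfsg.Agent.Lib.Helper14_WittType

set_option autoImplicit false
open Cfsg

namespace Cfsg.Agent.S0835

/-- Over a finite field with 2 ≠ 0: if B₁ on U (dim 2k, k ≥ 1) is non-degenerate symmetric of minus type (no totally isotropic k-subspace) and B₂ on W (dim 2l + 1) is non-degenerate symmetric, then B₁ ⊗ B₂ (dimension 2k(2l+1)) admits no totally isotropic subspace of dimension k(2l+1) (minus type). -/
theorem result {F U W : Type*} [Field F] [Fintype F] [AddCommGroup U] [Module F U] [FiniteDimensional F U] [AddCommGroup W] [Module F W] [FiniteDimensional F W] (h2 : (2 : F) ≠ 0) (B₁ : LinearMap.BilinForm F U) (B₂ : LinearMap.BilinForm F W) (h₁ : B₁.Nondegenerate) (h₂ : B₂.Nondegenerate) (hS₁ : B₁.IsSymm) (hS₂ : B₂.IsSymm) (k l : ℕ) (hk : 1 ≤ k) (hU : Module.finrank F U = 2 * k) (hW : Module.finrank F W = 2 * l + 1) (hm₁ : ¬ (∃ X : Submodule F (U), Module.finrank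 F X = k ∧ ∀ x ∈ X, ∀ y ∈ X, (B₁) x y = 0)) : ¬ (∃ X : Submodule F (TensorProduct F U W), Module.finrank F X = k * (2 * l + 1) ∧ ∀ x ∈ X, ∀ y ∈ X, (B₁.tmul B₂) x y = 0) := by
  classical
  rintro ⟨X, hX, hiso⟩
  apply hm₁
  set b₁ := Module.finBasisOfFinrankEq F U hU with hb₁
  set b₂ := Module.finBasisOfFinrankEq F W hW with hb₂
  set T := b₁.tensorProduct b₂ with hT
  have hd₁ : (LinearMap.BilinForm.toMatrix b₁ B₁).det ≠ 0 :=
    (LinearMap.BilinForm.nondegenerate_iff_det_ne_zero b₁).mp h₁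
  have hd₂ : (LinearMap.BilinForm.toMatrix b₂ B₂).det ≠ 0 :=
    (LinearMap.BilinForm.nondegenerate_iff_det_ne_zero b₂).mp h₂
  have hdet := Cfsg.Agent.Lib.Helper14_WittType.det_toMatrix_tmul B₁ B₂ b₁ b₂
  rw [Fintype.card_fin, Fintype.card_fin] at hdet
  have hsymm : LinearMap.BilinForm.IsSymm (B₁.tmul B₂) :=
    LinearMap.BilinForm.isSymm_iff.mpr (LinearMap.IsSymm.tmul
      (LinearMap.BilinForm.isSymm_iff.mp hS₁) (LinearMap.BilinForm.isSymm_iff.mp hS₂))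
  have hV : Module.finrank F (TensorProduct F U W) = 2 * (k * (2 * l + 1)) := by
    rw [Module.finrank_tensorProduct, hU, hW]; ring
  have hsq := Cfsg.Agent.Lib.Helper14_WittType.isSquare_of_isotropic (B₁.tmul B₂) hsymm hV X hX hiso T
  rw [hdet] at hsq
  obtain ⟨d₁, hd₁def⟩ : ∃ d, d = (LinearMap.BilinForm.toMatrix b₁ B₁).det := ⟨_, rfl⟩
  obtain ⟨d₂, hd₂def⟩ : ∃ d, d = (LinearMap.BilinForm.toMatrix b₂ B₂).det := ⟨_, rfl⟩
  rw [← hd₁def, ← hd₂def] at hsq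
  rw [← hd₁def] at hd₁
  rw [← hd₂def] at hd₂
  have hz : ((-1 : F) ^ (k * l) * d₁ ^ l * d₂ ^ k) ≠ 0 :=
    mul_ne_zero (mul_ne_zero (pow_ne_zero _ (by simp)) (pow_ne_zero _ hd₁)) (pow_ne_zero _ hd₂)
  have e : (-1 : F) ^ (k * (2 * l + 1)) * (d₁ ^ (2 * l + 1) * d₂ ^ (2 * k))
      = ((-1 : F) ^ (k * l) * d₁ ^ l * d₂ ^ k) * ((-1) ^ k * d₁)
        * ((-1 : F) ^ (k * l) * d₁ ^ l * d₂ ^ k) := by
    have e1 : (-1 : F) ^ (k * (2 * l + 1)) = (-1) ^ (k * l) * (-1) ^ (k * l) * (-1) ^ k := by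
      rw [← pow_add, ← pow_add]; congr 1; ring
    rw [e1]; ring
  rw [e, Cfsg.Agent.Lib.Helper44_Disc.isSquare_mul_sq_iff hz] at hsq
  rw [hd₁def] at hsq
  exact Cfsg.Agent.Lib.Helper14_WittType.exists_isotropic_of_isSquare h2 B₁ hS₁ h₁ hk hU b₁ hsq

end Cfsg.Agent.S0835
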