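import Mathlib
import Cfsg.Statements.S0836

set_option autoImplicit false
open Cfsg
open scoped commutatorElement

namespace Cfsg.Agent.S0836

open Matrix

theorem comm_of_eq {G : Type*} [Group G] (g h t : G) (H : g * h = t * h * g) : ⁅g, h⁆ = t := by
  rw [commutatorElement_def, H]; group

theorem mem_commSet {F : Type*} [Field F] (n : ℕ) (t : Matrix.SpecialLinearGroup (Fin n) F)
    (A B : Matrix (Fin n) (Fin n) F) (hA : A.det = 1) (hB : B.det = 1)
    (H : A * B = (t : Matrix (Fin n) (Fin n) F) * B * A) :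
    t ∈ commutatorSet (Matrix.SpecialLinearGroup (Fin n) F) := by
  let g : Matrix.SpecialLinearGroup (Fin n) F := ⟨A, hA⟩
  let h : Matrix.SpecialLinearGroup (Fin n) F := ⟨B, hB⟩
  refine ⟨g, h, ?_⟩
  apply comm_of_eq
  apply Subtype.ext
  simp only [Matrix.SpecialLinearGroup.coe_mul]
  exact H

theorem case_ge_three {F : Type*} [Field F] (n : ℕ) (i j k : Fin n) (hij : i ≠ j) (hkj : k ≠ j) (c : F) :
    transvection i k c * transvection k j (1 : F) =
      transvection i j c * transvection k j 1 * transvection i k c := by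
  simp only [transvection, Matrix.add_mul, Matrix.mul_add, Matrix.one_mul, Matrix.mul_one]
  rw [single_mul_single_same, single_mul_single_of_ne (h := hij.symm),
    single_mul_single_of_ne (h := hkj.symm), single_mul_single_of_ne (h := hij.symm)]
  simp only [mul_one, add_zero, Matrix.zero_mul]
  abel

theorem result {F : Type*} [Field F] (n : ℕ) (hn : 3 ≤ n ∨ (n = 2 ∧ ∃ x : F, x ≠ 0 ∧ x ^ 2 ≠ 1)) (i j : Fin n) (hij : i ≠ j) (c : F) (t : Matrix.SpecialLinearGroup (Fin n) F) (ht : (t : Matrix (Fin n) (Fin n) F) = Matrix.transvection i j c) : t ∈ commutatorSet (Matrix.SpecialLinearGroup (Fin n) F) := by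
  rcases hn with hn | ⟨rfl, x, hx0, hx1⟩
  · obtain ⟨k, hki, hkj⟩ := Fin.exists_ne_and_ne_of_two_lt i j hn
    apply mem_commSet n t (transvection i k c) (transvection k j 1)
      (det_transvection_of_ne _ _ hki.symm c) (det_transvection_of_ne _ _ hkj 1)
    rw [ht]
    exact case_ge_three n i j k hij hkj c
  · have hx1' : x ^ 2 - 1 ≠ 0 := sub_ne_zero.mpr hx1
    have key : (c / (x ^ 2 - 1)) * x = (c / (x ^ 2 - 1) + c) * x⁻¹ := by
      field_simp
      ring
    fin_cases i <;> fin_cases j
    · exact absurd rfl hij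
    · apply mem_commSet 2 t !![x, 0; 0, x⁻¹] !![1, c / (x ^ 2 - 1); 0, 1]
        (by simp [Matrix.det_fin_two, hx0]) (by simp [Matrix.det_fin_two])
      rw [ht]
      ext a b
      fin_cases a <;> fin_cases b <;>
        simp [transvection, Matrix.mul_apply, Fin.sum_univ_two, Matrix.single]
      · rw [mul_comm x, key]
    · apply mem_commSet 2 t !![x⁻¹, 0; 0, x] !![1, 0; c / (x ^ 2 - 1), 1]
        (by simp [Matrix.det_fin_two, hx0]) (by simp [Matrix.det_fin_two])
      rw [ht]
      ext a b
      fin_cases a <;> fin_cases b <;>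
        simp [transvection, Matrix.mul_apply, Fin.sum_univ_two, Matrix.single]
      · rw [mul_comm x, key]; ring
    · exact absurd rfl hij

end Cfsg.Agent.S0836
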