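import Cfsg.Statements.S0837
import Cfsg.Agent.Lib.Helper13_GUBlock
import Cfsg.Agent.S0755

set_option autoImplicit false
set_option linter.unusedSectionVars false
open Cfsg

namespace Cfsg.Agent.S0837

open Matrix Module Cfsg.Agent.Lib.Helper13_Herm Cfsg.Agent.Lib.Helper13_GU
  Cfsg.Agent.Lib.Helper13_HermBridge Cfsg.Agent.Lib.Helper13_GUBlock

section
variable {F : Type*} [Field F] [Fintype F] {q : ℕ}

theorem hermForm_sum_left (n : ℕ) {ι : Type*} (s : Finset ι) (f : ι → Fin n → F)
    (v : Fin n → F) :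
    Cfsg.hermForm n F q (∑ i ∈ s, f i) v = ∑ i ∈ s, Cfsg.hermForm n F q (f i) v := by
  classical
  induction s using Finset.induction_on with
  | empty =>
    simp [Cfsg.hermForm]
  | insert a s ha ih =>
    rw [Finset.sum_insert ha, Finset.sum_insert ha, hermForm_add_left, ih]

theorem hermForm_sum_right (hF : Fintype.card F = q ^ 2) (n : ℕ) {ι : Type*} (s : Finset ι)
    (f : ι → Fin n → F) (v : Fin n → F) :
    Cfsg.hermForm n F q v (∑ i ∈ s, f i) = ∑ i ∈ s, Cfsg.hermForm n F q v (f i) := by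
  classical
  have hq : q ≠ 0 := by have := two_le_q hF; omega
  induction s using Finset.induction_on with
  | empty =>
    simp [Cfsg.hermForm, hq]
  | insert a s ha ih =>
    rw [Finset.sum_insert ha, Finset.sum_insert ha, hermForm_add_right n hF, ih]

theorem hermForm_zero_left (n : ℕ) (v : Fin n → F) : Cfsg.hermForm n F q 0 v = 0 := by
  simp [Cfsg.hermForm]

theorem hermForm_sub_left (n : ℕ) (u u' v : Fin n → F) :
    Cfsg.hermForm n F q (u - u') v = Cfsg.hermForm n F q u v - Cfsg.hermForm n F q u' v := by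
  have h := hermForm_add_left (q := q) n (u - u') u' v
  rw [sub_add_cancel] at h
  rw [h]; ring

/-- orthonormal basis of a subspace on which the form is non-degenerate -/
theorem exists_orthonormal_sub (hF : Fintype.card F = q ^ 2) (n d : ℕ)
    (W : Submodule F (Fin n → F)) (hWd : finrank F W = d)
    (hW : ∀ u ∈ W, (∀ v ∈ W, Cfsg.hermForm n F q v u = 0) → u = 0) :
    ∃ b : Basis (Fin d) F W, ∀ i j, Cfsg.hermForm n F q (b i : Fin n → F) (b j : Fin n → F) =
      if i = j then 1 else 0 := by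
  set B' : W →ₛₗ[frobQ hF] W →ₗ[F] F := (Bherm hF n).domRestrict₁₂ W W with hB'
  have hB'apply : ∀ w w' : W, B' w w' = Cfsg.hermForm n F q (w' : Fin n → F) (w : Fin n → F) :=
    fun w w' => rfl
  have hS' : B'.IsSymm := (Bherm_isSymm hF n).domRestrict W
  have hsep : B'.SeparatingLeft := by
    intro w hw
    apply Subtype.ext
    apply hW w w.2
    intro v hv
    have := hw ⟨v, hv⟩
    rwa [hB'apply] at this
  obtain ⟨b, hb⟩ := Cfsg.Agent.S0755.exists_orthonormal (frobQ hF) (frobQ_ne_id hF)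
    (frobQ_frobQ hF) d W B' hS' hsep hWd
  refine ⟨b, fun i j => ?_⟩
  have := hb j i
  rw [hB'apply] at this
  rw [this]
  by_cases hij : i = j
  · rw [if_pos hij, if_pos hij.symm]
  · rw [if_neg hij, if_neg (Ne.symm hij)]


/-- adapted unitary matrix: maps the coordinate subspace `W0` onto `W` -/
theorem exists_adapted (hF : Fintype.card F = q ^ 2) (k l : ℕ)
    (W : Submodule F (Fin (k + l) → F)) (hWk : finrank F W = k)
    (hW : ∀ u ∈ W, (∀ v ∈ W, Cfsg.hermForm (k + l) F q u v = 0) → u = 0) :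
    ∃ P : Matrix (Fin (k + l)) (Fin (k + l)) F, Pᵀ * P.map (fun x => x ^ q) = 1 ∧
      ∀ v, v ∈ W0 F k l ↔ P *ᵥ v ∈ W := by
  have hq : q ≠ 0 := by have := two_le_q hF; omega
  have hsymm0 : ∀ u v : Fin (k + l) → F, Cfsg.hermForm (k + l) F q u v = 0 →
      Cfsg.hermForm (k + l) F q v u = 0 := by
    intro u v h
    rw [← hermForm_pow_q (k + l) hF u v, h, zero_pow hq]
  have hW' : ∀ u ∈ W, (∀ v ∈ W, Cfsg.hermForm (k + l) F q v u = 0) → u = 0 :=
    fun u hu h => hW u hu (fun v hv => hsymm0 _ _ (h v hv))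
  obtain ⟨b, hb⟩ := exists_orthonormal_sub hF (k + l) k W hWk hW'
  -- the orthogonal complement
  let Wp : Submodule F (Fin (k + l) → F) :=
    { carrier := {u | ∀ w ∈ W, Cfsg.hermForm (k + l) F q u w = 0}
      add_mem' := by
        intro u u' hu hu' w hw
        rw [hermForm_add_left, hu w hw, hu' w hw, add_zero]
      zero_mem' := by
        intro w _
        exact hermForm_zero_left _ w
      smul_mem' := by
        intro a u hu w hw
        rw [hermForm_smul_left, hu w hw, mul_zero] }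
  have hWp : ∀ u, u ∈ Wp ↔ ∀ w ∈ W, Cfsg.hermForm (k + l) F q u w = 0 := fun u => Iff.rfl
  -- projection
  have hproj : ∀ v : Fin (k + l) → F,
      v - ∑ i, Cfsg.hermForm (k + l) F q v (b i : Fin (k + l) → F) • (b i : Fin (k + l) → F) ∈ Wp := by
    intro v
    rw [hWp]
    intro w hw
    have h1 : ∀ j, Cfsg.hermForm (k + l) F q
        (v - ∑ i, Cfsg.hermForm (k + l) F q v (b i : Fin (k + l) → F) • (b i : Fin (k + l) → F))
        (b j : Fin (k + l) → F) = 0 := by
      intro j
      rw [hermForm_sub_left, hermForm_sum_left]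
      simp only [hermForm_smul_left, hb]
      rw [Finset.sum_eq_single j]
      · rw [if_pos rfl, mul_one, sub_self]
      · intro i _ hij
        rw [if_neg hij, mul_zero]
      · intro h; exact absurd (Finset.mem_univ j) h
    have h2 := congrArg Subtype.val (b.sum_repr ⟨w, hw⟩)
    simp only [Submodule.coe_sum, Submodule.coe_smul] at h2
    rw [← h2, hermForm_sum_right hF]
    apply Finset.sum_eq_zero
    intro j _
    rw [hermForm_smul_right, h1 j, mul_zero]
  have hprojW : ∀ v : Fin (k + l) → F,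
      ∑ i, Cfsg.hermForm (k + l) F q v (b i : Fin (k + l) → F) • (b i : Fin (k + l) → F) ∈ W := by
    intro v
    exact W.sum_mem (fun i _ => W.smul_mem _ (b i).2)
  have hcompl : IsCompl W Wp := by
    constructor
    · rw [disjoint_iff]
      rw [Submodule.eq_bot_iff]
      rintro u ⟨hu1, hu2⟩
      exact hW u hu1 (fun v hv => hu2 v hv)
    · rw [codisjoint_iff, Submodule.eq_top_iff']
      intro v
      have h1 := Submodule.add_mem_sup (hprojW v) (hproj v)
      rwa [add_sub_cancel] at h1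
  have hWpl : finrank F Wp = l := by
    have h1 := Submodule.finrank_add_eq_of_isCompl hcompl
    rw [hWk, Module.finrank_fin_fun] at h1
    omega
  have hWp' : ∀ u ∈ Wp, (∀ v ∈ Wp, Cfsg.hermForm (k + l) F q v u = 0) → u = 0 := by
    intro u hu h
    have h1 : ∀ x : Fin (k + l) → F, Cfsg.hermForm (k + l) F q x u = 0 := by
      intro x
      have h2 : x = (∑ i, Cfsg.hermForm (k + l) F q x (b i : Fin (k + l) → F) •
          (b i : Fin (k + l) → F)) + (x - ∑ i, Cfsg.hermForm (k + l) F q x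
            (b i : Fin (k + l) → F) • (b i : Fin (k + l) → F)) := by abel
      rw [h2, hermForm_add_left, h _ (hproj x), add_zero]
      exact hsymm0 _ _ (hu _ (hprojW x))
    funext i
    have h3 := h1 (Pi.single i 1)
    rw [hermForm_single_left] at h3
    exact (pow_eq_zero_iff hq).mp h3
  obtain ⟨c, hc⟩ := exists_orthonormal_sub hF (k + l) l Wp hWpl hWp'
  -- the columns
  set cols : Fin (k + l) → (Fin (k + l) → F) :=
    Fin.append (fun i => (b i : Fin (k + l) → F)) (fun j => (c j : Fin (k + l) → F)) with hcols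
  have hcolsL : ∀ i, cols (Fin.castAdd l i) = (b i : Fin (k + l) → F) :=
    fun i => Fin.append_left _ _ i
  have hcolsR : ∀ j, cols (Fin.natAdd k j) = (c j : Fin (k + l) → F) :=
    fun j => Fin.append_right _ _ j
  have hLR : ∀ (i : Fin k) (j : Fin l), Fin.castAdd l i ≠ Fin.natAdd k j := by
    intro i j h
    have h2 := congrArg Fin.val h
    simp at h2
    omega
  have horth : ∀ a a', Cfsg.hermForm (k + l) F q (cols a) (cols a') = if a = a' then 1 else 0 := by
    intro a a'
    induction a using Fin.addCases with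
    | left i =>
      induction a' using Fin.addCases with
      | left i' =>
        rw [hcolsL, hcolsL, hb]
        by_cases h : i = i'
        · rw [if_pos h, if_pos (by rw [h])]
        · rw [if_neg h, if_neg (fun h' => h (Fin.castAdd_injective _ _ h'))]
      | right j' =>
        rw [hcolsL, hcolsR, if_neg (hLR i j')]
        exact hsymm0 _ _ ((c j').2 _ (b i).2)
    | right j =>
      induction a' using Fin.addCases with
      | left i' =>
        rw [hcolsR, hcolsL, if_neg (Ne.symm (hLR i' j))]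
        exact (c j).2 _ (b i').2
      | right j' =>
        rw [hcolsR, hcolsR, hc]
        by_cases h : j = j'
        · rw [if_pos h, if_pos (by rw [h])]
        · rw [if_neg h, if_neg (fun h' => h (Fin.natAdd_injective _ _ h'))]
  set P : Matrix (Fin (k + l)) (Fin (k + l)) F := Matrix.of (fun i a => cols a i) with hP
  have hgram : Pᵀ * P.map (fun x => x ^ q) = 1 := by
    ext a a'
    rw [Matrix.mul_apply]
    have h1 : ∑ i, Pᵀ a i * (P.map (fun x => x ^ q)) i a' =
        Cfsg.hermForm (k + l) F q (cols a) (cols a') := rfl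
    rw [h1, horth, Matrix.one_apply]
  have hPv : ∀ v : Fin (k + l) → F, P *ᵥ v = ∑ a, v a • cols a := by
    intro v
    funext i
    simp only [Matrix.mulVec, dotProduct, hP, Matrix.of_apply, Finset.sum_apply, Pi.smul_apply,
      smul_eq_mul]
    apply Finset.sum_congr rfl
    intro a _
    ring
  have hPpres := preserves_of_gram hF P hgram
  refine ⟨P, hgram, fun v => ⟨fun hv => ?_, fun hv => ?_⟩⟩
  · rw [hPv, Fin.sum_univ_add]
    have h1 : ∑ j : Fin l, v (Fin.natAdd k j) • cols (Fin.natAdd k j) = 0 := by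
      apply Finset.sum_eq_zero
      intro j _
      rw [hv j, zero_smul]
    rw [h1, add_zero]
    apply W.sum_mem
    intro i _
    rw [hcolsL]
    exact W.smul_mem _ (b i).2
  · intro j
    have h1 := hPpres v (Pi.single (Fin.natAdd k j) 1)
    rw [hermForm_single_right (k + l) hq] at h1
    rw [← h1, Matrix.mulVec_single_one]
    have h2 : P.col (Fin.natAdd k j) = cols (Fin.natAdd k j) := rfl
    rw [h2, hcolsR]
    exact hsymm0 _ _ ((c j).2 _ hv)


theorem main (hF : Fintype.card F = q ^ 2) (k l : ℕ)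
    (W : Submodule F (Fin (k + l) → F)) (hWk : finrank F W = k)
    (hW : ∀ u ∈ W, (∀ v ∈ W, Cfsg.hermForm (k + l) F q u v = 0) → u = 0) :
    Nonempty (↥((Cfsg.stabilizing (Cfsg.glToMat (Fin (k + l)) F)
      (W : Set (Fin (k + l) → F))).subgroupOf (Cfsg.GU (k + l) F q)) ≃*
      ↥(Cfsg.GU k F q) × ↥(Cfsg.GU l F q)) := by
  obtain ⟨P, hgram, hPW⟩ := exists_adapted hF k l W hWk hW
  let Pg : ↥(Cfsg.GU (k + l) F q) := ⟨gramGL P hgram, gramGL_mem hF P hgram⟩
  let Φ : ↥(Cfsg.GU k F q) × ↥(Cfsg.GU l F q) →* ↥(Cfsg.GU (k + l) F q) :=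
    (MulAut.conj Pg).toMonoidHom.comp (blkGU hF)
  have hΦ : ∀ x, Φ x = Pg * blkGU hF x * Pg⁻¹ := fun x => rfl
  have hinj : Function.Injective Φ := (MulAut.conj Pg).injective.comp (blkGU_injective hF)
  have hPP : P * (Pg⁻¹).1.1 = 1 := by
    have h1 : P = Pg.1.1 := rfl
    rw [h1, ← Units.val_mul, ← Subgroup.coe_mul, mul_inv_cancel]
    rfl
  have hPinvW : ∀ w ∈ W, (Pg⁻¹).1.1 *ᵥ w ∈ W0 F k l := by
    intro w hw
    rw [hPW, Matrix.mulVec_mulVec, hPP, Matrix.one_mulVec]
    exact hw
  have hmaps : ∀ x, ∀ w ∈ W, (Φ x).1.1 *ᵥ w ∈ W := by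
    intro x w hw
    rw [hΦ]
    have h1 : (Pg * blkGU hF x * Pg⁻¹).1.1 = P * (blkGU hF x).1.1 * (Pg⁻¹).1.1 := rfl
    rw [h1, ← Matrix.mulVec_mulVec, ← Matrix.mulVec_mulVec]
    exact (hPW _).mp (blkGU_maps hF x _ (hPinvW w hw))
  have hrange : Φ.range = (Cfsg.stabilizing (Cfsg.glToMat (Fin (k + l)) F)
      (W : Set (Fin (k + l) → F))).subgroupOf (Cfsg.GU (k + l) F q) := by
    ext x
    rw [Subgroup.mem_subgroupOf, MonoidHom.mem_range]
    constructor
    · rintro ⟨y, rfl⟩
      apply mem_stabilizing_of_maps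
      · exact hmaps y
      · have h1 : ((Φ y : ↥(Cfsg.GU (k + l) F q)) : GL (Fin (k + l)) F)⁻¹ =
            ((Φ y⁻¹ : ↥(Cfsg.GU (k + l) F q)) : GL (Fin (k + l)) F) := by
          rw [map_inv]; rfl
        rw [h1]
        exact hmaps y⁻¹
    · intro hx
      have hg : ∀ v ∈ W0 F k l,
          ((Pg⁻¹ * x * Pg : ↥(Cfsg.GU (k + l) F q)) : GL (Fin (k + l)) F).1 *ᵥ v ∈ W0 F k l := by
        intro v hv
        have h1 : ((Pg⁻¹ * x * Pg : ↥(Cfsg.GU (k + l) F q)) : GL (Fin (k + l)) F).1 =
            (Pg⁻¹).1.1 * x.1.1 * P := rfl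
        rw [h1, ← Matrix.mulVec_mulVec, ← Matrix.mulVec_mulVec]
        apply hPinvW
        exact (hx _).mp ((hPW v).mp hv)
      obtain ⟨y, hy⟩ := exists_blkGU_eq hF _ (Pg⁻¹ * x * Pg).2 hg
      refine ⟨y, ?_⟩
      rw [hΦ]
      have h2 : blkGU hF y = Pg⁻¹ * x * Pg := Subtype.ext hy
      rw [h2]
      group
  exact ⟨((MonoidHom.ofInjective hinj).trans (MulEquiv.subgroupCongr hrange)).symm⟩

end

/-- If W ≤ F^n (|F| = q²) is a k-dimensional subspace on which the Hermitian form Σ x_i y_i^q is non-degenerate, then the stabiliser of W in GU_n(q) is isomorphic to GU_k(q) × GU_(n−k)(q). -/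
theorem result {F : Type*} [Field F] [Fintype F] {q : ℕ} (hF : Fintype.card F = q ^ 2) (n k : ℕ) (hk : k ≤ n) (W : Submodule F (Fin n → F)) (hWk : Module.finrank F W = k) (hW : ∀ u ∈ W, (∀ v ∈ W, Cfsg.hermForm n F q u v = 0) → u = 0) : Nonempty (↥((Cfsg.stabilizing (Cfsg.glToMat (Fin n) F) (W : Set (Fin n → F))).subgroupOf (Cfsg.GU n F q)) ≃* ↥(Cfsg.GU k F q) × ↥(Cfsg.GU (n - k) F q)) := by
  obtain ⟨l, rfl⟩ := Nat.exists_eq_add_of_le hk
  have h1 : k + l - k = l := by omega
  rw [h1]
  exact main hF k l W hWk hW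

end Cfsg.Agent.S0837
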