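import Cfsg.Statements.S0838
import Cfsg.Agent.Lib.Helper44_Simil
import Cfsg.Agent.S2618

set_option autoImplicit false
open Cfsg

namespace Cfsg.Agent.S0838

/-- Over a finite field with 2 ≠ 0 and n odd: two quadratic forms Q₁, Q₂ on F^n with non-degenerate polar forms are similar — there are an invertible linear map g and a scalar c ≠ 0 with Q₂ (g v) = c · Q₁ v for all v. -/
theorem result {F : Type*} [Field F] [Fintype F] (h2 : (2 : F) ≠ 0) {n : ℕ} (hn : Odd n) (Q₁ Q₂ : QuadraticForm F (Fin n → F)) (h₁ : (QuadraticMap.polarBilin Q₁).Nondegenerate) (h₂ : (QuadraticMap.polarBilin Q₂).Nondegenerate) : ∃ (g : (Fin n → F) ≃ₗ[F] (Fin n → F)) (c : F), c ≠ 0 ∧ ∀ v, Q₂ (g v) = c * Q₁ v := by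
  classical
  obtain ⟨m, hm⟩ := hn
  have hV : Module.finrank F (Fin n → F) = 2 * m + 1 := by
    rw [Module.finrank_fin_fun]; omega
  obtain ⟨b₁, hx₁, hxo₁, hq₁, hef₁, hee₁⟩ := Cfsg.Agent.S2618.result hV Q₁ h₁
  obtain ⟨b₂, hx₂, hxo₂, hq₂, hef₂, hee₂⟩ := Cfsg.Agent.S2618.result hV Q₂ h₂
  obtain ⟨c, hcdef⟩ : ∃ c : F, c = Q₂ (b₂ (Sum.inl ())) / Q₁ (b₁ (Sum.inl ())) := ⟨_, rfl⟩
  have hc : c ≠ 0 := by rw [hcdef]; exact div_ne_zero hx₂ hx₁
  have hcx : Q₂ (b₂ (Sum.inl ())) = c * Q₁ (b₁ (Sum.inl ())) := by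
    rw [hcdef]; field_simp
  let img : Unit ⊕ (Fin m ⊕ Fin m) → (Fin n → F) :=
    Sum.elim (fun _ => b₂ (Sum.inl ())) (Sum.elim (fun i => b₂ (Sum.inr (Sum.inl i)))
      (fun i => c • b₂ (Sum.inr (Sum.inr i))))
  set g₀ : (Fin n → F) →ₗ[F] (Fin n → F) := b₁.constr F img with hg₀
  have hgb : ∀ k, g₀ (b₁ k) = img k := fun k => by rw [hg₀, Module.Basis.constr_basis]
  have hsymm₁ : ∀ x y, QuadraticMap.polar (⇑Q₁) x y = QuadraticMap.polar (⇑Q₁) y x :=
    fun x y => QuadraticMap.polar_comm _ _ _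
  have hsymm₂ : ∀ x y, QuadraticMap.polar (⇑Q₂) x y = QuadraticMap.polar (⇑Q₂) y x :=
    fun x y => QuadraticMap.polar_comm _ _ _
  have heq : Q₂.comp g₀ = c • Q₁ := by
    apply Cfsg.Agent.Lib.Helper44_Simil.quadraticForm_ext_basis b₁
    · intro k
      simp only [QuadraticMap.comp_apply, smul_apply, smul_eq_mul, hgb]
      rcases k with u | i | i
      · simpa [img] using hcx
      · simp [img, (hq₁ i).1, (hq₂ i).1]
      · simp [img, QuadraticMap.map_smul, (hq₁ i).2, (hq₂ i).2]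
    · intro k l
      have e1 : QuadraticMap.polar (⇑(Q₂.comp g₀)) (b₁ k) (b₁ l)
          = QuadraticMap.polar (⇑Q₂) (g₀ (b₁ k)) (g₀ (b₁ l)) := by
        simp [QuadraticMap.polar]
      have e2 : QuadraticMap.polar (⇑(c • Q₁)) (b₁ k) (b₁ l)
          = c * QuadraticMap.polar (⇑Q₁) (b₁ k) (b₁ l) := by
        simp [QuadraticMap.polar]; ring
      rw [e1, e2, hgb, hgb]
      rcases k with u | i | i <;> rcases l with u' | j | j
      · simp only [img, Sum.elim_inl]
        rw [Cfsg.Agent.Lib.Helper44_QuadClass.polar_self',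
          Cfsg.Agent.Lib.Helper44_QuadClass.polar_self', hcx]; ring
      · simp [img, (hxo₁ j).1, (hxo₂ j).1]
      · simp [img, QuadraticMap.polar_smul_right, (hxo₁ j).2, (hxo₂ j).2]
      · simp only [img, Sum.elim_inl, Sum.elim_inr]
        rw [hsymm₂, hsymm₁ (b₁ (Sum.inr (Sum.inl i))), (hxo₁ i).1, (hxo₂ i).1]; simp
      · simp [img, (hee₁ i j).1, (hee₂ i j).1]
      · simp [img, QuadraticMap.polar_smul_right, hef₁, hef₂]
      · simp only [img, Sum.elim_inl, Sum.elim_inr]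
        rw [hsymm₂, hsymm₁ (b₁ (Sum.inr (Sum.inr i))), QuadraticMap.polar_smul_right,
          (hxo₁ i).2, (hxo₂ i).2]; simp
      · simp only [img, Sum.elim_inl, Sum.elim_inr]
        rw [hsymm₂, hsymm₁ (b₁ (Sum.inr (Sum.inr i))), QuadraticMap.polar_smul_right,
          hef₁, hef₂]; simp
      · simp [img, QuadraticMap.polar_smul_right, QuadraticMap.polar_smul_left,
          (hee₁ i j).2, (hee₂ i j).2]
  have hval : ∀ v, Q₂ (g₀ v) = c * Q₁ v := by
    intro v
    have := congrArg (fun q : QuadraticForm F (Fin n → F) => q v) heq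
    simpa using this
  have hpolar : ∀ v w, QuadraticMap.polar (⇑Q₂) (g₀ v) (g₀ w) = c * QuadraticMap.polar (⇑Q₁) v w := by
    intro v w
    simp only [QuadraticMap.polar]
    rw [← map_add, hval, hval, hval]; ring
  have hinj : Function.Injective g₀ := by
    rw [injective_iff_map_eq_zero]
    intro v hv
    apply h₁.1
    intro w
    rw [QuadraticMap.polarBilin_apply_apply]
    have := hpolar v w
    rw [hv, QuadraticMap.polar_zero_left] at this
    rcases mul_eq_zero.mp this.symm with h | h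
    · exact absurd h hc
    · exact h
  exact ⟨LinearEquiv.ofInjectiveEndo g₀ hinj, c, hc, fun v => by
    rw [LinearEquiv.coe_ofInjectiveEndo]; exact hval v⟩

end Cfsg.Agent.S0838
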