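import Mathlib
import Cfsg.Statements.S0839

set_option autoImplicit false
open Cfsg

namespace Cfsg.Agent.S0839

open Matrix

variable {F : Type*} [Field F]

/-- A rank one matrix is an outer product. -/
theorem rank_one_decomp {m : ℕ} (N : Matrix (Fin m) (Fin m) F) (hN : N.rank = 1) :
    ∃ w φ : Fin m → F, N = vecMulVec w φ := by
  unfold Matrix.rank at hN
  rw [finrank_eq_one_iff'] at hN
  obtain ⟨⟨w, hw⟩, -, hspan⟩ := hN
  have hcol : ∀ j : Fin m, ∃ c : F, c • w = N *ᵥ (Pi.single j 1) := by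
    intro j
    obtain ⟨c, hc⟩ := hspan ⟨N *ᵥ (Pi.single j 1), ⟨Pi.single j 1, rfl⟩⟩
    exact ⟨c, congrArg Subtype.val hc⟩
  choose φ hφ using hcol
  refine ⟨w, φ, ?_⟩
  ext i j
  have := congrFun (hφ j) i
  simp only [Pi.smul_apply, smul_eq_mul, Matrix.mulVec_single_one] at this
  rw [vecMulVec_apply, mul_comm, this]
  rfl

/-- Move a nonzero row vector to a multiple of the first basis vector by an element of SL. -/
theorem exists_sl_vecMul {n : ℕ} (φ : Fin (n + 2) → F) (hφ : φ ≠ 0) :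
    ∃ (g : Matrix.SpecialLinearGroup (Fin (n + 2)) F) (μ : F), μ ≠ 0 ∧
      φ ᵥ* (g : Matrix (Fin (n + 2)) (Fin (n + 2)) F) = μ • (Pi.single 0 1 : Fin (n + 2) → F) := by
  -- first the case φ 0 ≠ 0
  have main : ∀ ψ : Fin (n + 2) → F, ψ 0 ≠ 0 →
      ∃ (g : Matrix.SpecialLinearGroup (Fin (n + 2)) F) (μ : F), μ ≠ 0 ∧
        ψ ᵥ* (g : Matrix (Fin (n + 2)) (Fin (n + 2)) F) = μ • (Pi.single 0 1 : Fin (n + 2) → F) := by
    intro ψ h0
    set e0 : Fin (n + 2) → F := Pi.single 0 1 with he0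
    set θ : Fin (n + 2) → F := (ψ 0)⁻¹ • ψ - e0 with hθ
    have hθ0 : θ 0 = 0 := by
      simp [hθ, he0, h0]
    have hdet : (1 + vecMulVec (-e0) θ).det = 1 := by
      rw [vecMulVec_eq Unit, det_one_add_replicateCol_mul_replicateRow]
      simp [he0, hθ0]
    refine ⟨⟨1 + vecMulVec (-e0) θ, hdet⟩, ψ 0, h0, ?_⟩
    show ψ ᵥ* (1 + vecMulVec (-e0) θ) = ψ 0 • e0
    rw [Matrix.vecMul_add, Matrix.vecMul_one, vecMul_vecMulVec]
    have : ψ ⬝ᵥ (-e0) = - ψ 0 := by simp [he0]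
    rw [this, hθ]
    ext j
    simp only [Pi.add_apply, Pi.smul_apply, Pi.sub_apply, smul_eq_mul]
    field_simp
    ring
  by_cases h0 : φ 0 = 0
  · obtain ⟨k, hk⟩ : ∃ k, φ k ≠ 0 := by
      by_contra h
      push Not at h
      exact hφ (funext h)
    have hk0 : k ≠ 0 := by rintro rfl; exact hk h0
    set s : Matrix.SpecialLinearGroup (Fin (n + 2)) F :=
      ⟨transvection k 0 1, det_transvection_of_ne _ _ hk0 1⟩ with hs
    have hψ0 : (φ ᵥ* (s : Matrix (Fin (n + 2)) (Fin (n + 2)) F)) 0 ≠ 0 := by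
      show (φ ᵥ* transvection k 0 1) 0 ≠ 0
      rw [transvection, Matrix.vecMul_add, Matrix.vecMul_one]
      simpa [Matrix.vecMul, dotProduct, Matrix.single_apply, h0] using hk
    obtain ⟨g, μ, hμ, hg⟩ := main _ hψ0
    refine ⟨s * g, μ, hμ, ?_⟩
    rw [Matrix.SpecialLinearGroup.coe_mul, ← Matrix.vecMul_vecMul, hg]
  · exact main φ h0

theorem result {F : Type*} [Field F] (n : ℕ) (t : Matrix.SpecialLinearGroup (Fin (n + 2)) F) (ht : Cfsg.IsTransvection (t : Matrix (Fin (n + 2)) (Fin (n + 2)) F)) : ∃ (g : Matrix.SpecialLinearGroup (Fin (n + 2)) F) (v : Fin (n + 2) → F), v 0 = 0 ∧ ((g⁻¹ * t * g : Matrix.SpecialLinearGroup (Fin (n + 2)) F) : Matrix (Fin (n + 2)) (Fin (n + 2)) F) = 1 + Matrix.vecMulVec v (Pi.single 0 1) := by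
  obtain ⟨hrank, hsq⟩ := ht
  obtain ⟨w, φ, hN⟩ := rank_one_decomp _ hrank
  have hNne : vecMulVec w φ ≠ 0 := by
    intro h
    rw [hN, h, Matrix.rank_zero] at hrank
    exact zero_ne_one hrank
  have hφ : φ ≠ 0 := by
    rintro rfl
    exact hNne (by simp)
  have hφw : φ ⬝ᵥ w = 0 := by
    rw [hN, vecMulVec_mul_vecMulVec, vecMulVec_smul] at hsq
    rcases smul_eq_zero.mp hsq with h | h
    · exact h
    · exact absurd h hNne
  obtain ⟨g, μ, hμ, hg⟩ := exists_sl_vecMul φ hφ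
  set G : Matrix (Fin (n + 2)) (Fin (n + 2)) F := (g : Matrix (Fin (n + 2)) (Fin (n + 2)) F) with hG
  set Gi : Matrix (Fin (n + 2)) (Fin (n + 2)) F := ((g⁻¹ : Matrix.SpecialLinearGroup (Fin (n + 2)) F) : Matrix (Fin (n + 2)) (Fin (n + 2)) F) with hGi
  have hGiG : Gi * G = 1 := by
    rw [hG, hGi, ← Matrix.SpecialLinearGroup.coe_mul, inv_mul_cancel, Matrix.SpecialLinearGroup.coe_one]
  have hGGi : G * Gi = 1 := by
    rw [hG, hGi, ← Matrix.SpecialLinearGroup.coe_mul, mul_inv_cancel, Matrix.SpecialLinearGroup.coe_one]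
  have ht' : (t : Matrix (Fin (n + 2)) (Fin (n + 2)) F) = 1 + vecMulVec w φ := by
    rw [← hN]; abel
  refine ⟨g, μ • (Gi *ᵥ w), ?_, ?_⟩
  · -- v 0 = 0
    have h1 : (Pi.single 0 1 : Fin (n + 2) → F) ᵥ* Gi = μ⁻¹ • φ := by
      have := congrArg (fun x => x ᵥ* Gi) hg
      simp only [Matrix.vecMul_vecMul, hGGi, Matrix.vecMul_one, Matrix.smul_vecMul] at this
      rw [this, smul_smul, inv_mul_cancel₀ hμ, one_smul]
    have h2 : (Gi *ᵥ w) 0 = (Pi.single 0 1 : Fin (n + 2) → F) ⬝ᵥ (Gi *ᵥ w) := by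
      simp
    rw [Pi.smul_apply, h2, Matrix.dotProduct_mulVec, h1, smul_dotProduct, hφw]
    simp
  · rw [Matrix.SpecialLinearGroup.coe_mul, Matrix.SpecialLinearGroup.coe_mul, ← hG, ← hGi, ht',
      Matrix.mul_add, Matrix.mul_one, Matrix.add_mul, hGiG, Matrix.mul_assoc, vecMulVec_mul, hg,
      mul_vecMulVec, vecMulVec_smul, smul_vecMulVec]

end Cfsg.Agent.S0839
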