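import Cfsg.Statements.S0845
import Cfsg.Agent.Lib.Helper55_BSInvol
import Cfsg.Agent.Lib.Helper55_BSInvol2
import Cfsg.Agent.Lib.Helper15_HallCount
import Cfsg.Agent.Lib.Helper75_AbelianInertia
import Cfsg.Agent.Lib.Helper3_CharBridge
import Cfsg.Agent.Lib.Helper78_CentralChar

set_option autoImplicit false
open Cfsg

namespace Cfsg.Agent.S0845

open Cfsg.Agent.Lib.Helper55_BSInvol
open scoped commutatorElement

/-- Suppose a Sylow 2-subgroup S of the finite group G is generalized quaternion of order at least 16. Then G has a normal subgroup M of even order such that G / M is non-abelian, that is, M does not contain the commutator subgroup of G. -/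
theorem result {G : Type*} [Group G] [Finite G] (S : Sylow 2 G) (n : ℕ) (e : (S : Subgroup G) ≃* QuaternionGroup (2 ^ (n + 2))) : ∃ M : Subgroup G, M.Normal ∧ Even (Nat.card M) ∧ ¬ commutator G ≤ M := by
  classical
  have : Fintype G := Fintype.ofFinite G
  obtain ⟨χ₁, χ₂, h1, h2, -, -, -, hdeg, -, -, hinv⟩ := main_invol S n e
  obtain ⟨M, hMn, hM⟩ := Cfsg.Agent.Lib.Helper15_HallCount.exists_normal_ker
    (Cfsg.Agent.Lib.Helper3_CharBridge.isCharacter_of_isIrrCharacter h1)
  refine ⟨M, hMn, ?_, ?_⟩
  · have ht : tInv e ∈ M := (hM _).mpr (hinv _ (orderOf_tInv e)).1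
    have h3 := Subgroup.orderOf_dvd_natCard M ht
    rw [orderOf_tInv] at h3
    exact even_iff_two_dvd.mpr h3
  · intro hle
    have h3 := Cfsg.Agent.Lib.Helper75_AbelianInertia.irr_one_eq_one_of_abelian_quotient M
      (fun x y => by
        apply hle
        have h4 : ⁅x, y⁆ ∈ ⁅(⊤ : Subgroup G), (⊤ : Subgroup G)⁆ :=
          Subgroup.commutator_mem_commutator (Subgroup.mem_top x) (Subgroup.mem_top y)
        rw [commutatorElement_def] at h4
        exact h4) h1 (fun h => (hM h).mp h.2)
    rw [hdeg] at h3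
    have h5 : χ₂ 1 = 0 := by linear_combination h3
    exact Cfsg.Agent.Lib.Helper78_CentralChar.isIrrCharacter_one_ne_zero h2 h5

end Cfsg.Agent.S0845
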