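import Mathlib
import Cfsg.Statements.S0849

set_option autoImplicit false
open Cfsg

namespace Cfsg.Agent.S0849

open Function

theorem ext0_of_mem {G : Type*} [Group G] (H : Subgroup G) (φ : H → ℂ) (h : H) :
    extendByZero H φ (h : G) = φ h := by
  unfold extendByZero
  exact Subtype.val_injective.extend_apply φ 0 h

theorem ext0_of_not_mem {G : Type*} [Group G] (H : Subgroup G) (φ : H → ℂ) (g : G) (hg : g ∉ H) :
    extendByZero H φ g = 0 := by
  unfold extendByZero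
  rw [Function.extend_apply']
  · rfl
  · rintro ⟨h, rfl⟩
    exact hg h.2

theorem sq_one_of_conj {G : Type*} [Group G] {u a : G} (hu : orderOf u = 2) (h : IsConj u a) :
    a * a = 1 := by
  obtain ⟨c, rfl⟩ := isConj_iff.mp h
  have hu2 : u * u = 1 := by rw [← pow_two, ← hu, pow_orderOf_eq_one]
  calc c * u * c⁻¹ * (c * u * c⁻¹) = c * (u * u) * c⁻¹ := by group
    _ = 1 := by rw [hu2]; group

theorem result {G : Type*} [Group G] [Fintype G] (H : Subgroup G) (S : Set G) (hSH : S ⊆ H) (hHS : ∀ h ∈ H, ∀ s ∈ S, h * s * h⁻¹ ∈ S) (hTI : ∀ g : G, g ∉ H → ∀ s ∈ S, g * s * g⁻¹ ∉ S) (hinv : ∀ s ∈ S, s⁻¹ ∈ S) (φ : H → ℂ) (hφ : Cfsg.IsClassFunction H φ) (hφS : ∀ x : H, (x : G) ∉ S → φ x = 0) (u v : G) (hu : orderOf u = 2) (hv : orderOf v = 2) : ∑ᶠ p ∈ {p : G × G | IsConj u p.1 ∧ IsConj v p.2}, Cfsg.indFun H φ (p.1 * p.2) = (H.index : ℂ) * ∑ᶠ p ∈ {p : H × H | IsConj u (p.1 : G) ∧ IsConj v (p.2 : G)}, φ (p.1 * p.2) := by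
  classical
  set T : Set (G × G) := {p | IsConj u p.1 ∧ IsConj v p.2} with hT
  set TH : Set (H × H) := {p | IsConj u (p.1 : G) ∧ IsConj v (p.2 : G)} with hTH
  set φ0 := extendByZero H φ with hφ0
  -- Step 1: conjugation invariance of the inner sum
  have step1 : ∀ x : G, ∑ᶠ p ∈ T, φ0 (x⁻¹ * (p.1 * p.2) * x) = ∑ᶠ p ∈ T, φ0 (p.1 * p.2) := by
    intro x
    apply finsum_mem_eq_of_bijOn (fun p => (x⁻¹ * p.1 * x, x⁻¹ * p.2 * x))
    · refine ⟨?_, ?_, ?_⟩
      · rintro ⟨a, b⟩ ⟨ha, hb⟩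
        refine ⟨ha.trans ?_, hb.trans ?_⟩
        · exact isConj_iff.mpr ⟨x⁻¹, by simp⟩
        · exact isConj_iff.mpr ⟨x⁻¹, by simp⟩
      · rintro ⟨a, b⟩ _ ⟨a', b'⟩ _ h
        simp only [Prod.mk.injEq, mul_left_inj, mul_right_inj] at h
        exact Prod.ext h.1 h.2
      · rintro ⟨a, b⟩ ⟨ha, hb⟩
        refine ⟨(x * a * x⁻¹, x * b * x⁻¹), ⟨ha.trans ?_, hb.trans ?_⟩, ?_⟩
        · exact isConj_iff.mpr ⟨x, rfl⟩
        · exact isConj_iff.mpr ⟨x, rfl⟩
        · simp only [Prod.mk.injEq]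
          constructor <;> group
    · rintro ⟨a, b⟩ _
      show φ0 (x⁻¹ * (a * b) * x) = φ0 (x⁻¹ * a * x * (x⁻¹ * b * x))
      congr 1
      group
  -- Step 2
  have hTfin : T.Finite := Set.toFinite T
  have step2 : ∑ᶠ p ∈ T, Cfsg.indFun H φ (p.1 * p.2) =
      (Nat.card H : ℂ)⁻¹ * ((Nat.card G : ℂ) * ∑ᶠ p ∈ T, φ0 (p.1 * p.2)) := by
    have h1 : ∀ x : G, ∑ p ∈ hTfin.toFinset, φ0 (x⁻¹ * (p.1 * p.2) * x) =
        ∑ p ∈ hTfin.toFinset, φ0 (p.1 * p.2) := by
      intro x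
      rw [← finsum_mem_eq_finite_toFinset_sum _ hTfin, ← finsum_mem_eq_finite_toFinset_sum _ hTfin]
      exact step1 x
    rw [finsum_mem_eq_finite_toFinset_sum _ hTfin, finsum_mem_eq_finite_toFinset_sum _ hTfin]
    simp only [indFun]
    rw [← Finset.mul_sum, Finset.sum_comm]
    simp only [← hφ0, h1]
    rw [Finset.sum_const, Finset.card_univ, nsmul_eq_mul]
    simp only [Nat.card_eq_fintype_card]
  -- Step 3
  have step3 : ∑ᶠ p ∈ T, φ0 (p.1 * p.2) = ∑ᶠ p ∈ TH, φ (p.1 * p.2) := by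
    set ι : H × H → G × G := fun p => ((p.1 : G), (p.2 : G)) with hι
    have hιinj : Function.Injective ι := by
      rintro ⟨a, b⟩ ⟨a', b'⟩ h
      simp only [hι, Prod.mk.injEq] at h
      exact Prod.ext (Subtype.ext h.1) (Subtype.ext h.2)
    have hsub : ∑ᶠ p ∈ T, φ0 (p.1 * p.2) = ∑ᶠ p ∈ ι '' TH, φ0 (p.1 * p.2) := by
      apply finsum_mem_inter_support_eq'
      rintro ⟨a, b⟩ hab
      rw [Function.mem_support] at hab
      constructor
      · rintro ⟨ha, hb⟩
        -- a * b ∈ S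
        have habH : a * b ∈ H := by
          by_contra hn
          exact hab (ext0_of_not_mem H φ _ hn)
        have habS : a * b ∈ S := by
          by_contra hn
          apply hab
          have := ext0_of_mem H φ ⟨a * b, habH⟩
          simp only at this
          rw [hφ0, this]
          exact hφS ⟨a * b, habH⟩ hn
        have ha2 : a * a = 1 := sq_one_of_conj hu ha
        have hb2 : b * b = 1 := sq_one_of_conj hv hb
        have hainv : a⁻¹ = a := inv_eq_of_mul_eq_one_left ha2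
        have hbinv : b⁻¹ = b := inv_eq_of_mul_eq_one_left hb2
        have haH : a ∈ H := by
          by_contra hn
          apply hTI a hn (a * b) habS
          have : a * (a * b) * a⁻¹ = (a * b)⁻¹ := by
            rw [mul_inv_rev, hainv, hbinv, ← mul_assoc, ha2, one_mul]
          rw [this]
          exact hinv _ habS
        have hbH : b ∈ H := by
          have : b = a⁻¹ * (a * b) := by group
          rw [this]
          exact H.mul_mem (H.inv_mem haH) habH
        exact ⟨(⟨a, haH⟩, ⟨b, hbH⟩), ⟨ha, hb⟩, rfl⟩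
      · rintro ⟨⟨a', b'⟩, ⟨ha, hb⟩, h⟩
        simp only [hι, Prod.mk.injEq] at h
        obtain ⟨rfl, rfl⟩ := h
        exact ⟨ha, hb⟩
    rw [hsub, finsum_mem_image hιinj.injOn]
    apply finsum_mem_congr rfl
    rintro ⟨a, b⟩ _
    exact ext0_of_mem H φ (a * b)
  rw [step2, step3, ← mul_assoc]
  congr 1
  have := Subgroup.index_mul_card H
  have hH : (Nat.card H : ℂ) ≠ 0 := by
    exact_mod_cast (Nat.card_pos (α := H)).ne'
  rw [← this, Nat.cast_mul]
  field_simp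

end Cfsg.Agent.S0849
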