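import Cfsg.Statements.S0852
import Cfsg.Agent.Lib.Helper57_FrobNorm

set_option autoImplicit false
open Cfsg

namespace Cfsg.Agent.S0852

open scoped ComplexConjugate
open Cfsg.Agent.Lib.Helper3_CharBridge Cfsg.Agent.Lib.Helper3_CharOrtho
  Cfsg.Agent.Lib.Helper3_CharComplete Cfsg.Agent.Lib.Helper3_CharColumn
  Cfsg.Agent.Lib.Helper75_CharArith Cfsg.Agent.Lib.Helper57_FrobNorm

section

variable {G : Type*} [Group G] [Fintype G] {N K : Subgroup G} [Fintype ↥N]

/-- `⟨χ, ξ(1) χ - χ(1) ξ⟩ = ξ(1)` for distinct irreducible `χ`, `ξ`. -/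
theorem classInner_alpha {χ ξ : ↥N → ℂ} (hχ : Cfsg.IsIrrCharacter ↥N χ)
    (hξ : Cfsg.IsIrrCharacter ↥N ξ) (hne : χ ≠ ξ) (m n : ℕ) :
    Cfsg.classInner χ ((m : ℤ) • χ + (-(n : ℤ)) • ξ) = m := by
  rw [classInner_add_right, classInner_zsmul_right, classInner_zsmul_right,
    classInner_self_of_isIrrCharacter hχ, classInner_of_isIrrCharacter_of_ne hχ hξ hne]
  simp

/-- If `ψ` is constant on `K \ {1}` then `ψ` restricted to `N` is orthogonal to
`α = ξ(1) χ - χ(1) ξ`. -/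
theorem classInner_alpha_res (hKN : K ≤ N) (hnorm : N ≤ Subgroup.normalizer (K : Set G))
    (hF : ∀ x ∈ N, x ∉ K → ∀ k ∈ K, x * k = k * x → k = 1) {χ ξ : ↥N → ℂ}
    (hχ : χ ∈ relevant N K) (hξ : ξ ∈ relevant N K) {m n : ℕ} (hm : ξ 1 = m) (hn : χ 1 = n)
    (ψ : G → ℂ) (hconst : ∀ a ∈ K, ∀ b ∈ K, a ≠ 1 → b ≠ 1 → ψ a = ψ b) :
    Cfsg.classInner ((m : ℤ) • χ + (-(n : ℤ)) • ξ) (fun x : ↥N => ψ x) = 0 := by
  obtain ⟨k₀, hk₀K, hk₀⟩ := hχ.2
  have hk₀1 : (k₀ : G) ≠ 1 := by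
    intro h
    apply hk₀
    have : k₀ = 1 := Subtype.ext h
    rw [this]
  have hα1 := (alpha_mem hχ hξ hm hn).2 1 (by simp)
  have hterm : ∀ x : ↥N, ((m : ℤ) • χ + (-(n : ℤ)) • ξ) x * conj (ψ x) =
      ((m : ℤ) • χ + (-(n : ℤ)) • ξ) x * conj (ψ k₀) := by
    intro x
    by_cases hxK : (x : G) ∈ K
    · by_cases hx1 : x = 1
      · rw [hx1, hα1, zero_mul, zero_mul]
      · have hx1' : (x : G) ≠ 1 := fun h => hx1 (Subtype.ext h)
        rw [hconst x hxK k₀ hk₀K hx1' hk₀1]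
    · have h1 := relevant_vanish N K hKN hnorm hF hχ hxK
      have h2 := relevant_vanish N K hKN hnorm hF hξ hxK
      simp only [Pi.add_apply, Pi.smul_apply, h1, h2]
      simp
  unfold Cfsg.classInner
  rw [Finset.sum_congr rfl (fun x _ => hterm x), ← Finset.sum_mul]
  have hsum : ∑ x : ↥N, ((m : ℤ) • χ + (-(n : ℤ)) • ξ) x = 0 := by
    simp only [Pi.add_apply, Pi.smul_apply]
    rw [Finset.sum_add_distrib, ← Finset.smul_sum, ← Finset.smul_sum, relevant_sum N K hχ,
      relevant_sum N K hξ]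
    simp
  rw [hsum, zero_mul, mul_zero]

/-- The forward direction: `± star χ` is not constant on `K \ {1}`. -/
theorem forward (hKN : K ≤ N) (hnorm : N ≤ Subgroup.normalizer (K : Set G))
    (hF : ∀ x ∈ N, x ∉ K → ∀ k ∈ K, x * k = k * x → k = 1)
    (star : (↥N → ℂ) → (G → ℂ))
    (hstar : Cfsg.IsLinearIsometryOn (Cfsg.zspan (relevant N K)) star)
    (hext : ∀ α ∈ Cfsg.zspanOn (relevant N K) ({1}ᶜ : Set ↥N), star α = Cfsg.indFun N α)
    (ψ : G → ℂ) (hψ : Cfsg.IsIrrCharacter G ψ) {χ ξ : ↥N → ℂ}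
    (hχ : χ ∈ relevant N K) (hξ : ξ ∈ relevant N K) (hne : χ ≠ ξ)
    (hψχ : ψ = star χ ∨ ψ = -star χ)
    (hconst : ∀ a ∈ K, ∀ b ∈ K, a ≠ 1 → b ≠ 1 → ψ a = ψ b) : False := by
  obtain ⟨n, hn0, hn⟩ := irr_one_eq_natCast hχ.1
  obtain ⟨m, hm0, hm⟩ := irr_one_eq_natCast hξ.1
  have hα := alpha_mem hχ hξ hm hn
  have hstarα := hext _ hα
  have hiso := hstar.2.2.1 χ (Submodule.subset_span hχ) _ hα.1
  rw [classInner_alpha hχ.1 hξ.1 hne m n] at hiso
  -- the other computation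
  have hzero : Cfsg.classInner (star ((m : ℤ) • χ + (-(n : ℤ)) • ξ)) ψ = 0 := by
    rw [hstarα, Cfsg.Agent.Lib.Helper75_Induced.frobenius_reciprocity N _ ψ
      (isClassFunction_of_isIrrCharacter hψ)]
    exact classInner_alpha_res hKN hnorm hF hχ hξ hm hn ψ hconst
  have hzero' : Cfsg.classInner ψ (star ((m : ℤ) • χ + (-(n : ℤ)) • ξ)) = 0 := by
    rw [← classInner_conj_symm, hzero, map_zero]
  have hm0' : (m : ℂ) ≠ 0 := by exact_mod_cast hm0.ne'
  rcases hψχ with h | h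
  · rw [h, hiso] at hzero'
    exact hm0' hzero'
  · rw [h] at hzero'
    have : Cfsg.classInner (-star χ) (star ((m : ℤ) • χ + (-(n : ℤ)) • ξ)) =
        -Cfsg.classInner (star χ) (star ((m : ℤ) • χ + (-(n : ℤ)) • ξ)) := by
      have h2 : -star χ = (-1 : ℂ) • star χ := by simp
      rw [h2, classInner_smul_left]
      ring
    rw [this, hiso, neg_eq_zero] at hzero'
    exact hm0' hzero'

/-- The backward direction: an irreducible character which is not `± star χ` for any relevant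
`χ` is constant on `K \ {1}`. -/
theorem backward (star : (↥N → ℂ) → (G → ℂ))
    (hstar : Cfsg.IsLinearIsometryOn (Cfsg.zspan (relevant N K)) star)
    (hext : ∀ α ∈ Cfsg.zspanOn (relevant N K) ({1}ᶜ : Set ↥N), star α = Cfsg.indFun N α)
    (ψ : G → ℂ) (hψ : Cfsg.IsIrrCharacter G ψ) {χ₀ : ↥N → ℂ} (hχ₀ : χ₀ ∈ relevant N K)
    (hno : ∀ χ ∈ relevant N K, ψ ≠ star χ ∧ ψ ≠ -star χ)
    {a b : ↥N} (haK : (a : G) ∈ K) (hbK : (b : G) ∈ K) (ha1 : a ≠ 1) (hb1 : b ≠ 1) :
    ψ a = ψ b := by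
  classical
  -- Step 1: `ψ` is orthogonal to all `star χ`
  have h1 : ∀ χ ∈ relevant N K, Cfsg.classInner (star χ) ψ = 0 := by
    intro χ hχ
    by_contra hne
    have hχ' : χ ∈ Cfsg.zspan (relevant N K) := Submodule.subset_span hχ
    have hnorm1 : Cfsg.classInner (star χ) (star χ) = 1 := by
      rw [hstar.2.2.1 χ hχ' χ hχ', classInner_self_of_isIrrCharacter hχ.1]
    rcases eq_or_eq_neg_of_norm_one (hstar.2.2.2 χ hχ') hnorm1 hψ hne with h | h
    · exact (hno χ hχ).1 h.symm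
    · apply (hno χ hχ).2
      rw [h, neg_neg]
  -- Step 2: the restriction of `ψ` to `N`
  have hψN : Cfsg.IsCharacter ↥N (fun x : ↥N => ψ x) :=
    isCharacter_restrict N (isCharacter_of_isIrrCharacter hψ)
  have hexp := classFunction_eq_sum (fun x : ↥N => ψ x) (isClassFunction_of_isCharacter hψN)
  -- Step 3: proportionality of the multiplicities on the relevant characters
  have h3 : ∀ χ ∈ relevant N K, ∀ ξ ∈ relevant N K,
      ξ 1 * Cfsg.classInner (fun x : ↥N => ψ x) χ = χ 1 * Cfsg.classInner (fun x : ↥N => ψ x) ξ := by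
    intro χ hχ ξ hξ
    obtain ⟨n, hn0, hn⟩ := irr_one_eq_natCast hχ.1
    obtain ⟨m, hm0, hm⟩ := irr_one_eq_natCast hξ.1
    have hα := alpha_mem hχ hξ hm hn
    have hlin := star_lin hstar hχ hξ (m : ℤ) (-(n : ℤ))
    have hz : Cfsg.classInner (star ((m : ℤ) • χ + (-(n : ℤ)) • ξ)) ψ = 0 := by
      rw [hlin, classInner_add_left, classInner_zsmul_left, classInner_zsmul_left, h1 χ hχ,
        h1 ξ hξ]
      simp
    rw [hext _ hα, Cfsg.Agent.Lib.Helper75_Induced.frobenius_reciprocity N _ ψ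
      (isClassFunction_of_isIrrCharacter hψ), classInner_add_left, classInner_zsmul_left,
      classInner_zsmul_left] at hz
    have hz' := congrArg conj hz
    rw [map_add, map_mul, map_mul, classInner_conj_symm, classInner_conj_symm, map_intCast,
      map_intCast, map_zero] at hz'
    rw [hm, hn]
    push_cast at hz'
    linear_combination hz'
  -- Step 4: the constant
  obtain ⟨n₀, hn₀0, hn₀⟩ := irr_one_eq_natCast hχ₀.1
  have hn₀' : (n₀ : ℂ) ≠ 0 := by exact_mod_cast hn₀0.ne'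
  set c : ℂ := Cfsg.classInner (fun x : ↥N => ψ x) χ₀ / n₀ with hc
  have h4 : ∀ φ ∈ relevant N K, Cfsg.classInner (fun x : ↥N => ψ x) φ = c * φ 1 := by
    intro φ hφ
    have := h3 φ hφ χ₀ hχ₀
    rw [hn₀] at this
    rw [hc]
    field_simp
    linear_combination this
  -- Step 5: evaluation on `K \ {1}`
  have h5 : ∀ k : ↥N, (k : G) ∈ K → k ≠ 1 → ψ k =
      ∑ φ : Cfsg.IrrCharacter ↥N, (if (φ : ↥N → ℂ) ∈ relevant N K then 0
        else (Cfsg.classInner (fun x : ↥N => ψ x) φ - c * (φ : ↥N → ℂ) 1) * (φ : ↥N → ℂ) 1) := by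
    intro k hkK hk1
    have hk := congrFun hexp k
    simp only [Finset.sum_apply, Pi.smul_apply, smul_eq_mul] at hk
    have hterm : ∀ φ : Cfsg.IrrCharacter ↥N,
        Cfsg.classInner (fun x : ↥N => ψ x) φ * (φ : ↥N → ℂ) k =
        c * ((φ : ↥N → ℂ) 1 * (φ : ↥N → ℂ) k) +
        (if (φ : ↥N → ℂ) ∈ relevant N K then 0
        else (Cfsg.classInner (fun x : ↥N => ψ x) φ - c * (φ : ↥N → ℂ) 1) * (φ : ↥N → ℂ) 1) := by
      intro φ
      split_ifs with hφ
      · rw [h4 φ hφ]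
        ring
      · rw [eq_of_not_relevant N K φ.2 hφ hkK]
        ring
    rw [hk, Finset.sum_congr rfl (fun φ _ => hterm φ), Finset.sum_add_distrib, ← Finset.mul_sum,
      sum_irr_one_mul_eq_zero hk1, mul_zero, zero_add]
  rw [h5 a haK ha1, h5 b hbK hb1]

end

/-- Let K be a subgroup of the finite group G that meets each conjugate by an element outside its normalizer N trivially, is properly contained in N, and contains the centralizer of each of its non-identity elements (a T.I. subgroup with Frobenius normalizer). Let S be the set of irreducible characters of N taking at some element of K a value different from their degree, suppose S has at least two members, and let star be a linear isometry on the integer span of S into the generalized characters of G that agrees with induction on the members vanishing at the identity (so S is coherent, with star as the extending isometry). Then an irreducible character ψ of G is of the form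 star χ or -star χ for some χ in S if and only if ψ is not constant on the non-identity elements of K. -/
theorem result {G : Type*} [Group G] [Fintype G] (K : Subgroup G) (hTI : ∀ g : G, g ∉ Subgroup.normalizer (K : Set G) → ∀ k ∈ K, g * k * g⁻¹ ∈ K → k = 1) (hlt : K < Subgroup.normalizer (K : Set G)) (hC : ∀ k ∈ K, k ≠ 1 → Subgroup.centralizer ({k} : Set G) ≤ K) [Fintype ↥(Subgroup.normalizer (K : Set G))] (S : Set (↥(Subgroup.normalizer (K : Set G)) → ℂ)) (hS : S = {χ : ↥(Subgroup.normalizer (K : Set G)) → ℂ | Cfsg.IsIrrCharacter ↥(Subgroup.normalizer (K : Set G)) χ ∧ ∃ k : ↥(Subgroup.normalizer (K : Set G)), (k : G) ∈ K ∧ χ k ≠ χ 1}) (htwo : ∃ χ ∈ S, ∃ ξ ∈ S, χ ≠ ξ) (star : (↥(Subgroup.normalizer (K : Set G)) → ℂ) → (G → ℂ)) (hstar : Cfsg.IsLinearIsometryOn (Cfsg.zspan S) star) (hext : ∀ α ∈ Cfsg.zspanOn S ({1}ᶜ : Set ↥(Subgroup.normalizer (K : Set G))), star α = Cfsg.indFun (Subgroup.normalizer (K : Set G)) α) (ψ : G → ℂ) (hψ : Cfsg.IsIrrCharacter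 G ψ) : (∃ χ ∈ S, ψ = star χ ∨ ψ = -star χ) ↔ ∃ a ∈ K, ∃ b ∈ K, a ≠ 1 ∧ b ≠ 1 ∧ ψ a ≠ ψ b := by
  subst hS
  have hKN : K ≤ Subgroup.normalizer (K : Set G) := Subgroup.le_normalizer
  have hnorm : Subgroup.normalizer (K : Set G) ≤ Subgroup.normalizer (K : Set G) := le_rfl
  have hF : ∀ x ∈ Subgroup.normalizer (K : Set G), x ∉ K → ∀ k ∈ K, x * k = k * x → k = 1 := by
    intro x _ hxK k hk hcomm
    by_contra hk1
    apply hxK
    apply hC k hk hk1
    rw [Subgroup.mem_centralizer_singleton_iff]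
    exact hcomm
  constructor
  · rintro ⟨χ, hχ, hψχ⟩
    by_contra hcon
    push_neg at hcon
    obtain ⟨χ₁, hχ₁, ξ₁, hξ₁, hne⟩ := htwo
    obtain ⟨ξ, hξ, hneξ⟩ : ∃ ξ ∈ relevant (Subgroup.normalizer (K : Set G)) K, χ ≠ ξ := by
      by_cases h : χ = χ₁
      · exact ⟨ξ₁, hξ₁, h ▸ hne⟩
      · exact ⟨χ₁, hχ₁, h⟩
    exact forward hKN hnorm hF star hstar hext ψ hψ hχ hξ hneξ hψχ
      (fun a ha b hb ha1 hb1 => hcon a ha b hb ha1 hb1)
  · rintro ⟨a, haK, b, hbK, ha1, hb1, hab⟩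
    by_contra hno
    push_neg at hno
    obtain ⟨χ₀, hχ₀, -⟩ := htwo
    apply hab
    exact backward star hstar hext ψ hψ hχ₀ hno (a := ⟨a, hKN haK⟩) (b := ⟨b, hKN hbK⟩) haK hbK
      (fun h => ha1 (congrArg Subtype.val h)) (fun h => hb1 (congrArg Subtype.val h))

end Cfsg.Agent.S0852
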