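import Cfsg.Statements.S0853
import Cfsg.Agent.Lib.Helper57_FrobNorm2
import Cfsg.Agent.S0850

set_option autoImplicit false
open Cfsg

namespace Cfsg.Agent.S0853

open scoped ComplexConjugate
open Cfsg.Agent.Lib.Helper3_CharBridge Cfsg.Agent.Lib.Helper3_CharOrtho
  Cfsg.Agent.Lib.Helper3_CharComplete Cfsg.Agent.Lib.Helper3_CharColumn
  Cfsg.Agent.Lib.Helper75_CharArith Cfsg.Agent.Lib.Helper57_FrobNorm
  Cfsg.Agent.Lib.Helper57_FrobNorm2

section

variable {G : Type*} [Group G] [Fintype G] {N K : Subgroup G} [Fintype ↥N]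

/-- The defect `(star χ)|_N - χ`. -/
def defect (star : (↥N → ℂ) → (G → ℂ)) (χ : ↥N → ℂ) : ↥N → ℂ := fun x => star χ x - χ x

theorem defect_isGeneralizedCharacter {star : (↥N → ℂ) → (G → ℂ)}
    (hstar : Cfsg.IsLinearIsometryOn (Cfsg.zspan (relevant N K)) star) {χ : ↥N → ℂ}
    (hχ : χ ∈ relevant N K) : Cfsg.IsGeneralizedCharacter ↥N (defect star χ) := by
  obtain ⟨A, B, hA, hB, hAB⟩ := hstar.2.2.2 χ (Submodule.subset_span hχ)
  refine ⟨fun x : ↥N => A x, (fun x : ↥N => B x) + χ, isCharacter_restrict N hA,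
    isCharacter_add (isCharacter_restrict N hB) (isCharacter_of_isIrrCharacter hχ.1), ?_⟩
  funext x
  simp only [defect, hAB, Pi.sub_apply, Pi.add_apply]
  ring

theorem defect_orth {star : (↥N → ℂ) → (G → ℂ)}
    (hstar : Cfsg.IsLinearIsometryOn (Cfsg.zspan (relevant N K)) star)
    (hext : ∀ α ∈ Cfsg.zspanOn (relevant N K) ({1}ᶜ : Set ↥N), star α = Cfsg.indFun N α)
    {χ φ ξ : ↥N → ℂ} (hχ : χ ∈ relevant N K) (hφ : φ ∈ relevant N K) (hξ : ξ ∈ relevant N K) :
    ξ 1 * Cfsg.classInner (defect star χ) φ = φ 1 * Cfsg.classInner (defect star χ) ξ := by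
  obtain ⟨n, -, hn⟩ := irr_one_eq_natCast hφ.1
  obtain ⟨m, -, hm⟩ := irr_one_eq_natCast hξ.1
  have hα := alpha_mem hφ hξ hm hn
  have hiso := hstar.2.2.1 χ (Submodule.subset_span hχ) _ hα.1
  have hcf : Cfsg.IsClassFunction G (star χ) :=
    isClassFunction_of_isGeneralizedCharacter (hstar.2.2.2 χ (Submodule.subset_span hχ))
  rw [hext _ hα, ← classInner_conj_symm,
    Cfsg.Agent.Lib.Helper75_Induced.frobenius_reciprocity N _ (star χ) hcf,
    classInner_conj_symm] at hiso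
  have hdef : defect star χ = (fun x : ↥N => star χ x) - χ := by
    funext x
    simp [defect]
  have h0 : Cfsg.classInner (defect star χ) ((m : ℤ) • φ + (-(n : ℤ)) • ξ) = 0 := by
    rw [hdef, classInner_sub_left, hiso, sub_self]
  rw [classInner_add_right, classInner_zsmul_right, classInner_zsmul_right] at h0
  rw [hm, hn]
  push_cast at h0
  linear_combination h0

theorem defect_prop {star : (↥N → ℂ) → (G → ℂ)}
    (hstar : Cfsg.IsLinearIsometryOn (Cfsg.zspan (relevant N K)) star)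
    (hext : ∀ α ∈ Cfsg.zspanOn (relevant N K) ({1}ᶜ : Set ↥N), star α = Cfsg.indFun N α)
    (hKN : K ≤ N) (hnorm : N ≤ Subgroup.normalizer (K : Set G))
    (hF : ∀ x ∈ N, x ∉ K → ∀ k ∈ K, x * k = k * x → k = 1)
    (hTIind : ∀ ϑ : ↥N → ℂ, Cfsg.IsClassFunction ↥N ϑ → (∀ x : ↥N, (x : G) ∉ K → ϑ x = 0) →
      ϑ 1 = 0 → ∀ x : ↥N, Cfsg.indFun N ϑ x = ϑ x)
    {χ χ₀ : ↥N → ℂ} (hχ : χ ∈ relevant N K) (hχ₀ : χ₀ ∈ relevant N K) (x : ↥N) :
    χ₀ 1 * defect star χ x = χ 1 * defect star χ₀ x := by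
  obtain ⟨n, -, hn⟩ := irr_one_eq_natCast hχ.1
  obtain ⟨n₀, -, hn₀⟩ := irr_one_eq_natCast hχ₀.1
  have hα := alpha_mem hχ hχ₀ hn₀ hn
  have hlin := star_lin hstar hχ hχ₀ (n₀ : ℤ) (-(n : ℤ))
  have hind := hext _ hα
  have hcf : Cfsg.IsClassFunction ↥N ((n₀ : ℤ) • χ + (-(n : ℤ)) • χ₀) := by
    rw [zsmul_eq_complex_smul, zsmul_eq_complex_smul]
    exact isClassFunction_add (isClassFunction_smul _ (isClassFunction_of_isIrrCharacter hχ.1))
      (isClassFunction_smul _ (isClassFunction_of_isIrrCharacter hχ₀.1))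
  have hvan : ∀ y : ↥N, (y : G) ∉ K → ((n₀ : ℤ) • χ + (-(n : ℤ)) • χ₀) y = 0 := by
    intro y hy
    have h1 := relevant_vanish N K hKN hnorm hF hχ hy
    have h2 := relevant_vanish N K hKN hnorm hF hχ₀ hy
    simp only [Pi.add_apply, Pi.smul_apply, h1, h2]
    simp
  have h1 := hα.2 1 (by simp)
  have hx := hTIind _ hcf hvan h1 x
  rw [← hind, hlin] at hx
  simp only [Pi.add_apply, Pi.smul_apply] at hx
  simp only [defect, hn, hn₀]
  simp only [zsmul_eq_mul, Int.cast_natCast, Int.cast_neg] at hx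
  linear_combination hx

open Classical in
/-- The main computation in general form. -/
theorem main {star : (↥N → ℂ) → (G → ℂ)}
    (hstar : Cfsg.IsLinearIsometryOn (Cfsg.zspan (relevant N K)) star)
    (hext : ∀ α ∈ Cfsg.zspanOn (relevant N K) ({1}ᶜ : Set ↥N), star α = Cfsg.indFun N α)
    (hKN : K ≤ N) (hnorm : N ≤ Subgroup.normalizer (K : Set G))
    (hF : ∀ x ∈ N, x ∉ K → ∀ k ∈ K, x * k = k * x → k = 1)
    (hTIind : ∀ ϑ : ↥N → ℂ, Cfsg.IsClassFunction ↥N ϑ → (∀ x : ↥N, (x : G) ∉ K → ϑ x = 0) →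
      ϑ 1 = 0 → ∀ x : ↥N, Cfsg.indFun N ϑ x = ϑ x)
    {χ₀ : ↥N → ℂ} (hχ₀ : χ₀ ∈ relevant N K) :
    ∃ m : ℤ, ∀ χ ∈ relevant N K, ∀ k : ↥N, (k : G) ∈ K → k ≠ 1 →
      star χ k - χ k = (m : ℂ) * χ 1 / ((K.subgroupOf N).index : ℂ) := by
  have hMn : (K.subgroupOf N).Normal :=
    (Subgroup.normal_subgroupOf_iff_le_normalizer hKN).mpr hnorm
  have hF' : ∀ x : ↥N, x ∉ K.subgroupOf N → ∀ k ∈ K.subgroupOf N, x * k = k * x → k = 1 := by
    intro y hy k hk hyk
    rw [Subgroup.mem_subgroupOf] at hy hk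
    have := hF y y.2 hy k hk (by exact_mod_cast congrArg Subtype.val hyk)
    exact Subtype.ext this
  have he0 : ((K.subgroupOf N).index : ℂ) ≠ 0 := by
    have : (K.subgroupOf N).index ≠ 0 := Subgroup.index_ne_zero_of_finite
    exact_mod_cast this
  obtain ⟨n₀, hn₀pos, hn₀⟩ := irr_one_eq_natCast hχ₀.1
  have hn₀' : (n₀ : ℂ) ≠ 0 := by exact_mod_cast hn₀pos.ne'
  set e : ℂ := ((K.subgroupOf N).index : ℂ) with he
  -- the multiplicities of the defect of `χ₀`
  set c₀ : ℂ := Cfsg.classInner (defect star χ₀) χ₀ / n₀ with hc₀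
  have hprop₀ : ∀ φ : Cfsg.IrrCharacter ↥N,
      (∃ k ∈ K.subgroupOf N, (φ : ↥N → ℂ) k ≠ (φ : ↥N → ℂ) 1) →
      Cfsg.classInner (defect star χ₀) φ = c₀ * (φ : ↥N → ℂ) 1 := by
    intro φ hφ
    have hφ' : (φ : ↥N → ℂ) ∈ relevant N K := ⟨φ.2, hφ⟩
    have := defect_orth hstar hext hχ₀ hφ' hχ₀
    rw [hn₀] at this
    rw [hc₀]
    field_simp
    linear_combination this
  have hcf₀ : Cfsg.IsClassFunction ↥N (defect star χ₀) :=
    isClassFunction_of_isGeneralizedCharacter (defect_isGeneralizedCharacter hstar hχ₀)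
  -- integrality of `q φ = e * ⟨defect χ₀, φ⟩ / χ₀(1)`
  have hq : ∀ φ : Cfsg.IrrCharacter ↥N, ∃ z : ℤ,
      e * Cfsg.classInner (defect star χ₀) φ / n₀ = z := by
    intro φ
    apply int_of_mul_degree_int (K.subgroupOf N) hF' _ ⟨χ₀, hχ₀.1, hχ₀.2⟩
    intro χ hχirr hχk n hn
    have hχ : χ ∈ relevant N K := ⟨hχirr, hχk⟩
    obtain ⟨z, hz⟩ := classInner_genChar_int (defect_isGeneralizedCharacter hstar hχ)
      (isCharacter_of_isIrrCharacter φ.2)
    refine ⟨z, ?_⟩
    rw [← hz]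
    have hfun : (χ₀ 1) • defect star χ = (χ 1) • defect star χ₀ := by
      funext x
      simp only [Pi.smul_apply, smul_eq_mul]
      exact defect_prop hstar hext hKN hnorm hF hTIind hχ hχ₀ x
    have h2 := congrArg (fun f => Cfsg.classInner f (φ : ↥N → ℂ)) hfun
    simp only [classInner_smul_left] at h2
    rw [hn₀, hn] at h2
    field_simp
    linear_combination -h2
  choose z hz using hq
  -- integrality of `u = e² c₀ / χ₀(1)`
  obtain ⟨u, hu⟩ : ∃ u : ℤ, e * e * c₀ / n₀ = u := by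
    apply int_of_mul_degree_int (K.subgroupOf N) hF' _ ⟨χ₀, hχ₀.1, hχ₀.2⟩
    intro χ hχirr hχk n hn
    refine ⟨z ⟨χ, hχirr⟩, ?_⟩
    rw [← hz ⟨χ, hχirr⟩, hprop₀ ⟨χ, hχirr⟩ hχk]
    simp only
    rw [hn]
    field_simp
    rw [he]
    ring
  -- the degrees of the irreducible characters as naturals
  have hdeg : ∀ φ : Cfsg.IrrCharacter ↥N, ∃ d : ℕ, (φ : ↥N → ℂ) 1 = d := fun φ => by
    obtain ⟨d, -, hd⟩ := irr_one_eq_natCast φ.2
    exact ⟨d, hd⟩
  choose d hd using hdeg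
  refine ⟨∑ φ : Cfsg.IrrCharacter ↥N,
      (if (∃ k ∈ K.subgroupOf N, (φ : ↥N → ℂ) k ≠ (φ : ↥N → ℂ) 1) then 0 else z φ * d φ) - u, ?_⟩
  intro χ hχ k hkK hk1
  have hk1' : (k : ↥N) ≠ 1 := hk1
  have heval := eval_on_kernel (K.subgroupOf N) hF' (defect star χ₀) hcf₀ c₀ hprop₀
    (k := k) (Subgroup.mem_subgroupOf.mpr hkK) hk1
  have hpropk := defect_prop hstar hext hKN hnorm hF hTIind hχ hχ₀ k
  rw [hn₀] at hpropk
  have hdefk : star χ k - χ k = defect star χ k := rfl
  rw [hdefk]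
  have h3 : defect star χ k = χ 1 * defect star χ₀ k / n₀ := by
    field_simp
    linear_combination hpropk
  rw [h3, heval]
  -- the integer `m`
  have hm : ((∑ φ : Cfsg.IrrCharacter ↥N,
      (if (∃ k ∈ K.subgroupOf N, (φ : ↥N → ℂ) k ≠ (φ : ↥N → ℂ) 1) then 0 else z φ * d φ) - u : ℤ) :
        ℂ) = e * (∑ φ : Cfsg.IrrCharacter ↥N,
      (if (∃ k ∈ K.subgroupOf N, (φ : ↥N → ℂ) k ≠ (φ : ↥N → ℂ) 1) then 0
        else Cfsg.classInner (defect star χ₀) φ * (φ : ↥N → ℂ) 1) - c₀ * e) / n₀ := by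
    push_cast
    rw [← hu, mul_sub, Finset.mul_sum, sub_div, Finset.sum_div]
    congr 1
    · refine Finset.sum_congr rfl (fun φ _ => ?_)
      split_ifs with h
      · simp
      · rw [← hz φ, hd φ]
        ring
    · ring
  rw [hm]
  field_simp
  rw [he]

end

/-- Let K be a subgroup of the finite group G that meets each conjugate by an element outside its normalizer N trivially, is properly contained in N, and contains the centralizer of each of its non-identity elements (a T.I. subgroup with Frobenius normalizer). Let S be the set of irreducible characters of N taking at some element of K a value different from their degree, suppose S has at least two members, and let star be a linear isometry on the integer span of S into the generalized characters of G that agrees with induction on the members vanishing at the identity (so S is coherent, with star as the extending isometry). Then there is a single integer m such that star χ k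 - χ k = m * χ 1 / e for every χ in S and every non-identity element k of K, where e is the index of K in N. -/
theorem result {G : Type*} [Group G] [Fintype G] (K : Subgroup G) (hTI : ∀ g : G, g ∉ Subgroup.normalizer (K : Set G) → ∀ k ∈ K, g * k * g⁻¹ ∈ K → k = 1) (hlt : K < Subgroup.normalizer (K : Set G)) (hC : ∀ k ∈ K, k ≠ 1 → Subgroup.centralizer ({k} : Set G) ≤ K) [Fintype ↥(Subgroup.normalizer (K : Set G))] (S : Set (↥(Subgroup.normalizer (K : Set G)) → ℂ)) (hS : S = {χ : ↥(Subgroup.normalizer (K : Set G)) → ℂ | Cfsg.IsIrrCharacter ↥(Subgroup.normalizer (K : Set G)) χ ∧ ∃ k : ↥(Subgroup.normalizer (K : Set G)), (k : G) ∈ K ∧ χ k ≠ χ 1}) (htwo : ∃ χ ∈ S, ∃ ξ ∈ S, χ ≠ ξ) (star : (↥(Subgroup.normalizer (K : Set G)) → ℂ) → (G → ℂ)) (hstar : Cfsg.IsLinearIsometryOn (Cfsg.zspan S) star) (hext : ∀ α ∈ Cfsg.zspanOn S ({1}ᶜ : Set ↥(Subgroup.normalizer (K : Set G))), star α = Cfsg.indFun (Subgroup.normalizer (K : Set G)) α) : ∃ m : ℤ, ∀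 χ ∈ S, ∀ k : ↥(Subgroup.normalizer (K : Set G)), (k : G) ∈ K → k ≠ 1 → star χ k - χ k = (m : ℂ) * χ 1 / ((K.subgroupOf (Subgroup.normalizer (K : Set G))).index : ℂ) := by
  subst hS
  have hKN : K ≤ Subgroup.normalizer (K : Set G) := Subgroup.le_normalizer
  have hnorm : Subgroup.normalizer (K : Set G) ≤ Subgroup.normalizer (K : Set G) := le_rfl
  have hF : ∀ x ∈ Subgroup.normalizer (K : Set G), x ∉ K → ∀ k ∈ K, x * k = k * x → k = 1 := by
    intro x _ hxK k hk hcomm
    by_contra hk1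
    apply hxK
    apply hC k hk hk1
    rw [Subgroup.mem_centralizer_singleton_iff]
    exact hcomm
  obtain ⟨χ₀, hχ₀, -⟩ := htwo
  have hTIind := (Cfsg.Agent.S0850.result K hTI hlt hC).2
  exact main hstar hext hKN hnorm hF hTIind hχ₀

end Cfsg.Agent.S0853
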