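-- Statement S0855: all irreducible degrees are p-powers iff abelian normal p-complement.
import Cfsg.Statements.S0855
import Cfsg.Agent.Lib.Helper59_Thompson
import Cfsg.Agent.Lib.Helper59_CliffordDeg
import Cfsg.Agent.Lib.Helper3_CharDegree
import Cfsg.Agent.S0169

set_option autoImplicit false
open Cfsg

namespace Cfsg.Agent.S0855

open Cfsg.Agent.Lib.Helper59_Thompson Cfsg.Agent.Lib.Helper59_CliffordDeg
  Cfsg.Agent.Lib.Helper2_PResidual Cfsg.Agent.Lib.Helper3_CharColumn
  Cfsg.Agent.Lib.Helper3_CharDegree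

/-- For a finite group G and a prime p: every irreducible character of G has degree a power of p if and only if G has an abelian normal subgroup whose order is prime to p and whose index is a power of p. -/
theorem result {G : Type*} [Group G] [Finite G] (p : ℕ) (hp : p.Prime) : (∀ χ : Cfsg.IrrCharacter G, ∃ k : ℕ, (χ : G → ℂ) 1 = (p : ℂ) ^ k) ↔ ∃ A : Subgroup G, A.Normal ∧ (∀ a ∈ A, ∀ b ∈ A, a * b = b * a) ∧ Nat.Coprime (Nat.card A) p ∧ ∃ k : ℕ, A.index = p ^ k := by
  classical
  have : Fact p.Prime := ⟨hp⟩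
  have : Fintype G := Fintype.ofFinite G
  constructor
  · intro hall
    -- Thompson's hypothesis
    have hdeg : ∀ χ : G → ℂ, Cfsg.IsIrrCharacter G χ → ∀ d : ℕ, χ 1 = d → d ≠ 1 → p ∣ d := by
      intro χ hχ d hd hd1
      obtain ⟨k, hk⟩ := hall ⟨χ, hχ⟩
      have h1 : (d : ℂ) = ((p ^ k : ℕ) : ℂ) := by
        rw [← hd]
        push_cast
        exact hk
      have h2 : d = p ^ k := by exact_mod_cast h1
      rcases Nat.eq_zero_or_pos k with rfl | hkpos
      · exact absurd (by rw [h2, pow_zero]) hd1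
      · rw [h2]
        exact dvd_pow_self p hkpos.ne'
    have hcop := not_dvd_card_pResidual p hdeg
    have hN : (Cfsg.pResidual p G).Normal := pResidual_normal
    have : Fintype ↥(Cfsg.pResidual p G) := Fintype.ofFinite _
    -- every irreducible character of the complement is linear
    have hlin : ∀ θ : Cfsg.IrrCharacter ↥(Cfsg.pResidual p G),
        (θ : ↥(Cfsg.pResidual p G) → ℂ) 1 = 1 := by
      intro θ
      obtain ⟨d, hd0, hd⟩ := irr_one_eq_natCast θ.2
      obtain ⟨χ, hχ, hne⟩ := exists_irr_over (Cfsg.pResidual p G) θ.2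
      obtain ⟨D, -, hD⟩ := irr_one_eq_natCast hχ
      have hdD := degree_dvd_of_clifford (Cfsg.pResidual p G) hN hχ θ.2 hne D d hD hd
      obtain ⟨k, hk⟩ := hall ⟨χ, hχ⟩
      have h1 : (D : ℂ) = ((p ^ k : ℕ) : ℂ) := by
        rw [← hD]
        push_cast
        exact hk
      have h2 : D = p ^ k := by exact_mod_cast h1
      rw [h2] at hdD
      obtain ⟨j, -, hj⟩ := (Nat.dvd_prime_pow hp).1 hdD
      -- `d` divides the order of the complement
      obtain ⟨n, ρ, hρ, hρθ⟩ := θ.2
      have : ρ.IsIrreducible := hρ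
      have h3 : Module.finrank ℂ (Fin n → ℂ) ∣ Nat.card ↥(Cfsg.pResidual p G) :=
        finrank_dvd_card ρ
      have h4 : d = Module.finrank ℂ (Fin n → ℂ) := by
        have : (d : ℂ) = (Module.finrank ℂ (Fin n → ℂ) : ℂ) := by
          rw [← hd, ← hρθ, Representation.char_one]
        exact_mod_cast this
      rw [← h4, hj] at h3
      rcases Nat.eq_zero_or_pos j with rfl | hjpos
      · rw [hd, hj, pow_zero, Nat.cast_one]
      · exfalso
        exact hcop (dvd_trans (dvd_pow_self p hjpos.ne') h3)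
    have hcomm := commute_of_all_linear hlin
    refine ⟨Cfsg.pResidual p G, hN, ?_, ?_, index_pResidual p⟩
    · intro a ha b hb
      have := hcomm ⟨a, ha⟩ ⟨b, hb⟩
      exact congrArg Subtype.val this
    · exact ((Nat.Prime.coprime_iff_not_dvd hp).2 hcop).symm
  · rintro ⟨A, hAn, hAab, -, k, hk⟩ ⟨χ, n, ρ, hρ, rfl⟩
    have : ρ.IsIrreducible := hρ
    have h1 := Cfsg.Agent.S0169.result ρ A hAab
    rw [hk] at h1
    obtain ⟨j, -, hj⟩ := (Nat.dvd_prime_pow hp).1 h1
    refine ⟨j, ?_⟩
    show ρ.character 1 = (p : ℂ) ^ j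
    rw [Representation.char_one, hj]
    push_cast
    rfl

end Cfsg.Agent.S0855
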