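import Cfsg.Statements.S0860
import Cfsg.Agent.Lib.Helper3_CharColumn
import Mathlib

set_option autoImplicit false
open Cfsg

namespace Cfsg.Agent.S0860

open scoped ComplexConjugate
open Cfsg.Agent.Lib.Helper3_CharBridge Cfsg.Agent.Lib.Helper3_CharOrtho
  Cfsg.Agent.Lib.Helper3_CharComplete Cfsg.Agent.Lib.Helper3_CharColumn

/-- Let a group A act on the set of irreducible characters and on the set of conjugacy classes of a finite group G in such a way that (a • χ) evaluated on the class a • C equals χ evaluated on C, for all a, χ and C. Then every element of A fixes exactly as many irreducible characters as it fixes conjugacy classes. -/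
theorem result {G : Type*} [Group G] [Finite G] {A : Type*} [Group A] [MulAction A (Cfsg.IrrCharacter G)] [MulAction A (ConjClasses G)] (hcompat : ∀ (a : A) (χ : Cfsg.IrrCharacter G) (g g' : G), ConjClasses.mk g' = a • ConjClasses.mk g → ((a • χ : Cfsg.IrrCharacter G) : G → ℂ) g' = (χ : G → ℂ) g) (a : A) : Nat.card {χ : Cfsg.IrrCharacter G // a • χ = χ} = Nat.card {C : ConjClasses G // a • C = C} := by
  classical
  have : Fintype G := Fintype.ofFinite G
  have hG : (Nat.card G : ℂ) ≠ 0 := card_ne_zero_complex
  -- a preimage representative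
  let g₀ : G → G := fun g => Quotient.out (a⁻¹ • ConjClasses.mk g)
  have hg₀ : ∀ g, ConjClasses.mk g = a • ConjClasses.mk (g₀ g) := by
    intro g
    have : ConjClasses.mk (g₀ g) = a⁻¹ • ConjClasses.mk g := Quotient.out_eq _
    rw [this, smul_inv_smul]
  have hval : ∀ (χ : Cfsg.IrrCharacter G) (g : G),
      ((a • χ : Cfsg.IrrCharacter G) : G → ℂ) g = (χ : G → ℂ) (g₀ g) := by
    intro χ g
    exact hcompat a χ (g₀ g) g (hg₀ g)
  have hconj : ∀ g, IsConj (g₀ g) g ↔ a • ConjClasses.mk g = ConjClasses.mk g := by
    intro g
    rw [← ConjClasses.mk_eq_mk_iff_isConj]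
    have : ConjClasses.mk (g₀ g) = a⁻¹ • ConjClasses.mk g := Quotient.out_eq _
    rw [this, inv_smul_eq_iff, eq_comm]
  -- the sum counted in the first way
  have h1 : ∑ χ : Cfsg.IrrCharacter G,
      Cfsg.classInner ((a • χ : Cfsg.IrrCharacter G) : G → ℂ) (χ : G → ℂ) =
      (Nat.card {χ : Cfsg.IrrCharacter G // a • χ = χ} : ℂ) := by
    have : ∀ χ : Cfsg.IrrCharacter G,
        Cfsg.classInner ((a • χ : Cfsg.IrrCharacter G) : G → ℂ) (χ : G → ℂ) =
          if a • χ = χ then 1 else 0 := by
      intro χ
      rw [classInner_irr (a • χ).2 χ.2]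
      by_cases h : a • χ = χ
      · rw [if_pos h, if_pos (congrArg Subtype.val h)]
      · rw [if_neg h, if_neg (fun h' => h (Subtype.ext h'))]
    simp_rw [this]
    rw [Finset.sum_boole, Nat.card_eq_fintype_card, Fintype.card_subtype]
  -- the sum counted in the second way
  have h2 : ∑ χ : Cfsg.IrrCharacter G,
      Cfsg.classInner ((a • χ : Cfsg.IrrCharacter G) : G → ℂ) (χ : G → ℂ) =
      (Nat.card G : ℂ)⁻¹ * ∑ g : G, (if a • ConjClasses.mk g = ConjClasses.mk g then
        (Nat.card (Subgroup.centralizer ({g} : Set G)) : ℂ) else 0) := by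
    simp only [Cfsg.classInner]
    rw [← Finset.mul_sum, Finset.sum_comm]
    congr 1
    apply Finset.sum_congr rfl
    intro g _
    simp_rw [hval]
    rw [column_orthogonality (g₀ g) g]
    by_cases h : IsConj (g₀ g) g
    · rw [if_pos h, if_pos ((hconj g).mp h), card_centralizer_eq_of_isConj h]
    · rw [if_neg h, if_neg (fun h' => h ((hconj g).mpr h'))]
  -- regroup by conjugacy classes
  have h3 : ∑ g : G, (if a • ConjClasses.mk g = ConjClasses.mk g then
        (Nat.card (Subgroup.centralizer ({g} : Set G)) : ℂ) else 0) =
      (Nat.card G : ℂ) * (Nat.card {C : ConjClasses G // a • C = C} : ℂ) := by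
    rw [← Finset.sum_fiberwise Finset.univ (fun g : G => ConjClasses.mk g)]
    have : ∀ C : ConjClasses G,
        (∑ g ∈ Finset.univ.filter (fun g : G => ConjClasses.mk g = C),
          (if a • ConjClasses.mk g = ConjClasses.mk g then
            (Nat.card (Subgroup.centralizer ({g} : Set G)) : ℂ) else 0)) =
        if a • C = C then (Nat.card G : ℂ) else 0 := by
      intro C
      have hfil : Finset.univ.filter (fun g : G => ConjClasses.mk g = C) = conjFinset (Quotient.out C) := by
        ext g
        rw [Finset.mem_filter, mem_conjFinset]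
        simp only [Finset.mem_univ, true_and]
        have h2 : ConjClasses.mk (Quotient.out C) = C := Quotient.out_eq C
        rw [← ConjClasses.mk_eq_mk_iff_isConj, h2]
      by_cases hC : a • C = C
      · rw [if_pos hC]
        have : ∀ g ∈ Finset.univ.filter (fun g : G => ConjClasses.mk g = C),
            (if a • ConjClasses.mk g = ConjClasses.mk g then
              (Nat.card (Subgroup.centralizer ({g} : Set G)) : ℂ) else 0) =
            (Nat.card (Subgroup.centralizer ({Quotient.out C} : Set G)) : ℂ) := by
          intro g hg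
          have hgC : ConjClasses.mk g = C := (Finset.mem_filter.mp hg).2
          rw [hgC, if_pos hC]
          rw [hfil, mem_conjFinset] at hg
          rw [card_centralizer_eq_of_isConj hg]
        rw [Finset.sum_congr rfl this, Finset.sum_const, nsmul_eq_mul, hfil]
        exact_mod_cast card_conjFinset_mul_card_centralizer (Quotient.out C)
      · rw [if_neg hC]
        apply Finset.sum_eq_zero
        intro g hg
        have hgC : ConjClasses.mk g = C := (Finset.mem_filter.mp hg).2
        rw [hgC, if_neg hC]
    simp_rw [this]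
    rw [← Finset.sum_filter, Finset.sum_const, nsmul_eq_mul,
      Nat.card_eq_fintype_card (α := {C : ConjClasses G // a • C = C}), Fintype.card_subtype, mul_comm]
  rw [h1, h3, ← mul_assoc, inv_mul_cancel₀ hG, one_mul] at h2
  exact_mod_cast h2

end Cfsg.Agent.S0860
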