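import Mathlib
import Cfsg.Statements.S0861
import Cfsg.Agent.Lib.Helper80_Knorr
import Cfsg.Agent.Lib.Helper3_Ito
import Cfsg.Agent.Lib.Helper16_Orbit
import Cfsg.Agent.S0187

set_option autoImplicit false
open Cfsg

namespace Cfsg.Agent.S0861

open Cfsg.Agent.Lib.Helper80_Knorr

/-- no irreducible character vanishes at an element of a normal abelian Sylow subgroup -/
theorem irr_ne_zero {G : Type*} [Group G] [Finite G] (p : ℕ) [Fact p.Prime] (P : Sylow p G)
    [(P : Subgroup G).Normal] (hab : ∀ a ∈ P, ∀ b ∈ P, a * b = b * a) (g : G) (hg : g ∈ P)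
    (χ : Cfsg.IrrCharacter G) : (χ : G → ℂ) g ≠ 0 := by
  obtain ⟨n, ρ, hirr, hchar⟩ := χ.2
  have := hirr
  have hito : Module.finrank ℂ (Fin n → ℂ) ∣ (P : Subgroup G).index :=
    Cfsg.Agent.Lib.Helper3_Ito.ito ρ (P : Subgroup G) hab
  have hdeg : ¬ p ∣ Module.finrank ℂ (Fin n → ℂ) := fun h => P.not_dvd_index (h.trans hito)
  obtain ⟨j, hj⟩ := (IsPGroup.iff_orderOf.mp P.2) ⟨g, hg⟩
  rw [Subgroup.orderOf_mk] at hj
  rw [← hchar]
  exact char_ne_zero_of_orderOf_prime_pow ρ p g j hj hdeg

/-- Let P be a normal abelian Sylow p-subgroup of the finite group G and suppose some element g of P has centralizer exactly P. Then the number of irreducible characters of G is at most the order of P, and if equality holds then G / P is abelian (the commutator subgroup lies in P). -/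
theorem result {G : Type*} [Group G] [Finite G] (p : ℕ) [Fact p.Prime] (P : Sylow p G) [(P : Subgroup G).Normal] (hab : ∀ a ∈ P, ∀ b ∈ P, a * b = b * a) (g : G) (hg : g ∈ P) (hC : Subgroup.centralizer ({g} : Set G) = P) : Nat.card (Cfsg.IrrCharacter G) ≤ Nat.card P ∧ (Nat.card (Cfsg.IrrCharacter G) = Nat.card P → commutator G ≤ P) := by
  classical
  have h0 := irr_ne_zero p P hab g hg
  have hK := card_irr_le_card_centralizer g h0
  rw [hC] at hK
  refine ⟨hK.1, fun heq => ?_⟩
  have hns := hK.2 heq
  rw [← Subgroup.Normal.quotient_commutative_iff_commutator_le]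
  have hcomm : ∀ a b : G ⧸ (P : Subgroup G), a * b = b * a := by
    rw [Cfsg.Agent.S0187.result]
    intro ψ
    obtain ⟨n, τ, hirr, hchar⟩ := ψ.2
    have := hirr
    have hsurj : Function.Surjective (QuotientGroup.mk' (P : Subgroup G)) :=
      QuotientGroup.mk'_surjective _
    have hirr' := Cfsg.Agent.Lib.Helper16_Orbit.irreducible_comp τ
      (QuotientGroup.mk' (P : Subgroup G)) hsurj
    let σ : Representation ℂ G (Fin n → ℂ) := τ.comp (QuotientGroup.mk' (P : Subgroup G))
    let χ : Cfsg.IrrCharacter G := ⟨σ.character, n, σ, hirr', rfl⟩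
    have h1 := hns χ
    have h2 : (χ : G → ℂ) g = (n : ℂ) := by
      show Representation.character (τ.comp (QuotientGroup.mk' (P : Subgroup G))) g = (n : ℂ)
      rw [Cfsg.Agent.Lib.Helper16_Orbit.character_comp]
      have : (QuotientGroup.mk' (P : Subgroup G)) g = 1 := by
        rw [QuotientGroup.mk'_apply, QuotientGroup.eq_one_iff]
        exact hg
      rw [this, Representation.char_one]
      simp
    rw [h2, Complex.normSq_natCast] at h1
    have h3 : n * n = 1 := by exact_mod_cast h1
    have h4 : n = 1 := by nlinarith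
    rw [← hchar, Representation.char_one]
    simp [h4]
  exact ⟨⟨hcomm⟩⟩

end Cfsg.Agent.S0861
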