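import Cfsg.Statements.S0865
import Cfsg.Agent.Lib.Helper15_Linear

set_option autoImplicit false
open Cfsg

namespace Cfsg.Agent.S0865

open scoped Pointwise

theorem transfer_normal {G : Type*} [Group G] (N : Subgroup G) [hN : N.Normal] [N.FiniteIndex]
    {A : Type*} [CommGroup A] (ϕ : N →* A)
    (hinv : ∀ (g : G) (n : N), ϕ ⟨g * n * g⁻¹, hN.conj_mem (n : G) n.2 g⟩ = ϕ n) (g : N) :
    MonoidHom.transfer ϕ (g : G) = ϕ g ^ N.index := by
  classical
  let _ := N.fintypeQuotientOfFiniteIndex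
  let T : N.LeftTransversal := default
  rw [MonoidHom.transfer_def ϕ T]
  unfold Subgroup.leftTransversals.diff
  simp only
  have key : ∀ q : G ⧸ N, ∀ h,
      ϕ ⟨((T.2.leftQuotientEquiv q : G))⁻¹ * (((g : G) • T).2.leftQuotientEquiv q : G), h⟩ = ϕ g := by
    intro q h
    have h1 : ((((g : G) • T).2.leftQuotientEquiv q : G)) = (g : G) * (T.2.leftQuotientEquiv ((g : G)⁻¹ • q) : G) := by
      rw [Subgroup.smul_apply_eq_smul_apply_inv_smul]; rfl
    have h2 : (g : G)⁻¹ • q = q := by
      induction q using QuotientGroup.induction_on with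
      | H x =>
        rw [MulAction.Quotient.smul_mk, smul_eq_mul]
        rw [QuotientGroup.eq]
        have : ((g : G)⁻¹ * x)⁻¹ * x = x⁻¹ * (g : G) * x := by group
        rw [this]
        have := hN.conj_mem (g : G) g.2 x⁻¹
        simpa using this
    have := hinv ((T.2.leftQuotientEquiv q : G))⁻¹ g
    rw [← this]
    congr 1
    apply Subtype.ext
    simp only [h1, h2]
    group
  rw [Finset.prod_congr rfl (fun q _ => key q _), Finset.prod_const, Finset.card_univ,
    Subgroup.index_eq_card, Nat.card_eq_fintype_card]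


open Cfsg.Agent.Lib.Helper15_Linear


/-- Let N be a normal subgroup of the finite group G and λ a character of N of degree 1, invariant under conjugation by G, whose order (under pointwise multiplication) is coprime to the index of N. Then there is a character μ of G of degree 1 restricting to λ with the same order as λ, and μ is the only degree-1 character of G restricting to λ whose order is coprime to the index of N. -/
theorem result {G : Type*} [Group G] [Finite G] (N : Subgroup G) [hN : N.Normal] (lam : N → ℂ) (hlam : Cfsg.IsCharacter N lam ∧ lam 1 = 1) (hinv : ∀ (g : G) (n : N), lam ⟨g * n * g⁻¹, hN.conj_mem (n : G) n.2 g⟩ = lam n) (hcop : Nat.Coprime N.index (orderOf lam)) : ∃ μ : G → ℂ, (Cfsg.IsCharacter G μ ∧ μ 1 = 1 ∧ (∀ n : N, μ n = lam n) ∧ orderOf μ = orderOf lam) ∧ ∀ μ' : G → ℂ, Cfsg.IsCharacter G μ' ∧ μ' 1 = 1 → (∀ n : N, μ' n = lam n) → Nat.Coprime N.index (orderOf μ') → μ' = μ := by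
  classical
  obtain ⟨hchar, h1⟩ := hlam
  set n := N.index with hn
  set m := orderOf lam with hm
  have lam_mul : ∀ a b : N, lam (a * b) = lam a * lam b := linear_mul lam hchar h1
  have lam_pow : ∀ (a : N) (k : ℕ), lam (a ^ k) = lam a ^ k := by
    intro a k
    induction k with
    | zero => simp [h1]
    | succ k ih => rw [pow_succ, lam_mul, ih, pow_succ]
  -- lam has finite order
  have hlamfin : lam ^ Nat.card N = 1 := by
    funext a
    rw [Pi.pow_apply, ← lam_pow, pow_card_eq_one', h1]; rfl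
  have hmpos : 0 < m := by
    rw [hm]
    exact orderOf_pos_iff.2 (isOfFinOrder_iff_pow_eq_one.2 ⟨Nat.card N, Nat.card_pos, hlamfin⟩)
  have hlam_m : ∀ a : N, lam a ^ m = 1 := by
    intro a
    have := congrFun (pow_orderOf_eq_one lam) a
    simpa using this
  -- lam as a hom into the m-th roots of unity
  let lamH : N →* ℂ := linearHom lam hchar h1
  let lamU : N →* ℂˣ := lamH.toHomUnits
  have hlamU : ∀ a : N, ((lamU a : ℂˣ) : ℂ) = lam a := fun a => rfl
  have hmem : ∀ a : N, lamU a ∈ rootsOfUnity m ℂ := by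
    intro a
    rw [mem_rootsOfUnity]
    apply Units.ext
    rw [Units.val_pow_eq_pow_val, hlamU, hlam_m]; rfl
  let ϕ : N →* rootsOfUnity m ℂ := lamU.codRestrict _ hmem
  have hϕ : ∀ a : N, (((ϕ a : rootsOfUnity m ℂ) : ℂˣ) : ℂ) = lam a := fun a => rfl
  have hϕinv : ∀ (g : G) (a : N), ϕ ⟨g * a * g⁻¹, hN.conj_mem (a : G) a.2 g⟩ = ϕ a := by
    intro g a
    apply Subtype.ext
    apply Units.ext
    rw [hϕ, hϕ]
    exact hinv g a
  let V : G →* rootsOfUnity m ℂ := MonoidHom.transfer ϕ
  have hV : ∀ a : N, V (a : G) = ϕ a ^ n := fun a => transfer_normal N ϕ hϕinv a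
  -- Bezout
  have hbez : (1 : ℤ) = (n : ℤ) * Nat.gcdA n m + (m : ℤ) * Nat.gcdB n m := by
    have := Nat.gcd_eq_gcd_ab n m
    rw [hcop.gcd_eq_one] at this
    exact_mod_cast this
  set b : ℤ := Nat.gcdA n m with hb
  let μu : G →* rootsOfUnity m ℂ := (zpowGroupHom b).comp V
  have hroot : ∀ z : rootsOfUnity m ℂ, z ^ m = 1 := by
    intro z
    have := (mem_rootsOfUnity m (z : ℂˣ)).1 z.2
    exact Subtype.ext this
  have hμuN : ∀ a : N, μu (a : G) = ϕ a := by
    intro a
    show (V (a : G)) ^ b = ϕ a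
    rw [hV, ← zpow_natCast, ← zpow_mul]
    have h2 : (n : ℤ) * b = 1 - (m : ℤ) * Nat.gcdB n m := by rw [hb]; linarith
    rw [h2, zpow_sub, zpow_one, zpow_mul, zpow_natCast, hroot, one_zpow]
    simp
  let μH : G →* ℂ := (Units.coeHom ℂ).comp ((rootsOfUnity m ℂ).subtype.comp μu)
  set μ : G → ℂ := fun g => μH g with hμ
  have hμchar := isCharacter_of_hom μH
  have hμN : ∀ a : N, μ a = lam a := by
    intro a
    show (((μu (a : G) : rootsOfUnity m ℂ) : ℂˣ) : ℂ) = lam a
    rw [hμuN, hϕ]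
  have hμm : ∀ g : G, μ g ^ m = 1 := by
    intro g
    show (((μu g : rootsOfUnity m ℂ) : ℂˣ) : ℂ) ^ m = 1
    rw [← Units.val_pow_eq_pow_val, ← Subgroup.coe_pow, hroot]; rfl
  have hμord : orderOf μ = m := by
    apply Nat.dvd_antisymm
    · apply orderOf_dvd_of_pow_eq_one
      funext g
      rw [Pi.pow_apply, hμm]; rfl
    · rw [hm]
      apply orderOf_dvd_of_pow_eq_one
      funext a
      have := congrFun (pow_orderOf_eq_one μ) (a : G)
      rw [Pi.pow_apply] at this ⊢
      rw [← hμN, this]; rfl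
  refine ⟨μ, ⟨hμchar.1, hμchar.2, hμN, hμord⟩, ?_⟩
  intro μ' ⟨hc', h1'⟩ hres hcop'
  have mu'_mul : ∀ a b : G, μ' (a * b) = μ' a * μ' b := linear_mul μ' hc' h1'
  have mu'_pow : ∀ (a : G) (k : ℕ), μ' (a ^ k) = μ' a ^ k := by
    intro a k
    induction k with
    | zero => simp [h1']
    | succ k ih => rw [pow_succ, mu'_mul, ih, pow_succ]
  have mu_pow : ∀ (a : G) (k : ℕ), μ (a ^ k) = μ a ^ k := by
    intro a k
    show μH (a ^ k) = μH a ^ k
    rw [map_pow]
  funext g
  have hne : μ g ≠ 0 := by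
    intro h0
    have := hμm g
    rw [h0, zero_pow hmpos.ne'] at this
    exact zero_ne_one this
  have hgn : g ^ n ∈ N := N.pow_index_mem g
  have e1 : (μ' g / μ g) ^ n = 1 := by
    rw [div_pow, ← mu'_pow, ← mu_pow]
    have h3 : μ' (g ^ n) = lam ⟨g ^ n, hgn⟩ := hres ⟨g ^ n, hgn⟩
    have h4 : μ (g ^ n) = lam ⟨g ^ n, hgn⟩ := hμN ⟨g ^ n, hgn⟩
    rw [h3, h4]
    apply div_self
    rw [← h4, mu_pow]
    exact pow_ne_zero _ hne
  have e2 : (μ' g / μ g) ^ (orderOf μ' * m) = 1 := by
    rw [div_pow, pow_mul, pow_mul', hμm, one_pow]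
    have := congrFun (pow_orderOf_eq_one μ') g
    rw [Pi.pow_apply] at this
    rw [this]
    simp
  have hcop2 : Nat.Coprime n (orderOf μ' * m) := Nat.Coprime.mul_right hcop' hcop
  have := (pow_eq_one_iff_of_coprime hcop2).1 ⟨e1, e2⟩
  exact (div_eq_one_iff_eq hne).1 this

end Cfsg.Agent.S0865
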