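import Cfsg.Statements.S0868
import Cfsg.Agent.S0856
import Cfsg.Agent.Lib.Helper81_CosetAvg
import Cfsg.Agent.Lib.Helper80_CharBasic

set_option autoImplicit false
open scoped ComplexConjugate
open Cfsg

namespace Cfsg.Agent.S0868


open scoped ComplexConjugate
open Cfsg.Agent.Lib.Helper3_CharBridge Cfsg.Agent.Lib.Helper3_CharOrtho
  Cfsg.Agent.Lib.Helper3_CharComplete Cfsg.Agent.Lib.Helper75_CharArith
  Cfsg.Agent.Lib.Helper75_Induced Cfsg.Agent.Lib.Helper75_Clifford
  Cfsg.Agent.Lib.Helper75_CharProd Cfsg.Agent.Lib.Helper81_CosetAvg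

section
variable {G : Type*} [Group G] [Fintype G] (N : Subgroup G) [hN : N.Normal] [Fintype N]

omit hN in
/-- characters with `N` in the kernel are constituents of the permutation character on `G/N` -/
theorem mem_of_kerCond {β : G → ℂ} (hβ : Cfsg.IsIrrCharacter G β) (hk : KerCond N β) :
    Cfsg.classInner (Cfsg.indFun N (fun _ : N => (1 : ℂ))) β ≠ 0 := by
  have hN0 : (Nat.card N : ℂ) ≠ 0 := by
    rw [Nat.cast_ne_zero]; exact Nat.card_pos.ne'
  rw [frobenius_reciprocity N _ β (isClassFunction_of_isIrrCharacter hβ)]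
  unfold Cfsg.classInner
  have : ∀ n : N, (1 : ℂ) * conj (β n) = conj (β 1) := by
    intro n
    have := hk n 1
    rw [mul_one] at this
    rw [this, one_mul]
  simp_rw [this]
  rw [Finset.sum_const, Finset.card_univ, nsmul_eq_mul, ← Nat.card_eq_fintype_card]
  have h1 : β 1 ≠ 0 := irr_one_ne_zero hβ
  have h2 : conj (β 1) ≠ 0 := (map_ne_zero _).mpr h1
  field_simp
  exact h2

theorem kerCond_of_mem {β : G → ℂ} (hβ : Cfsg.IsIrrCharacter G β)
    (h : Cfsg.classInner (Cfsg.indFun N (fun _ : N => (1 : ℂ))) β ≠ 0) : KerCond N β := by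
  rcases irr_dichotomy N hβ with hk | hz
  · exact hk
  · exfalso
    apply h
    rw [frobenius_reciprocity N _ β (isClassFunction_of_isIrrCharacter hβ)]
    unfold Cfsg.classInner
    have h1 := hz 1
    simp only [mul_one] at h1
    have : ∑ n : N, (1 : ℂ) * conj (β n) = conj (∑ n : N, β n) := by
      rw [map_sum]
      refine Finset.sum_congr rfl fun n _ => ?_
      rw [one_mul]
    rw [this, h1, map_zero, mul_zero]

end

/-- Let N be a normal subgroup of the finite group G, χ an irreducible character of G whose restriction ϑ to N is irreducible, and ψ an irreducible character of G. Define η on G by η g = (1 / order of N) * Σ over n in N of ψ (n * g) * conj (χ (n * g)). Then: if the restriction of ψ to N has nonzero inner product with ϑ, η is an irreducible character of G; if that inner product is zero, η vanishes identically; and if ψ = χ then η is identically 1. -/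
theorem result {G : Type*} [Group G] [Fintype G] (N : Subgroup G) [N.Normal] [Fintype N] (χ : G → ℂ) (hχ : Cfsg.IsIrrCharacter G χ) (hχN : Cfsg.IsIrrCharacter N (fun n : N => χ n)) (ψ : G → ℂ) (hψ : Cfsg.IsIrrCharacter G ψ) (η : G → ℂ) (hη : η = fun g => (Nat.card N : ℂ)⁻¹ * ∑ n : N, ψ ((n : G) * g) * conj (χ ((n : G) * g))) : (Cfsg.classInner (fun n : N => ψ n) (fun n : N => χ n) ≠ 0 → Cfsg.IsIrrCharacter G η) ∧ (Cfsg.classInner (fun n : N => ψ n) (fun n : N => χ n) = 0 → η = 0) ∧ (ψ = χ → η = fun _ => 1) := by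
  classical
  subst hη
  set ϑ : N → ℂ := fun n : N => χ n with hϑdef
  have hχc := isClassFunction_of_isIrrCharacter hχ
  have hψc := isClassFunction_of_isIrrCharacter hψ
  have hN : N.Normal := inferInstance
  have h1irr : Cfsg.IsIrrCharacter N (fun _ : N => (1 : ℂ)) :=
    Cfsg.Agent.Lib.Helper80_CharBasic.isIrrCharacter_one N
  have hprod_eq : (fun _ : N => (1 : ℂ)) * ϑ = ϑ := by
    funext n
    simp
  have hgal := Cfsg.Agent.S0856.result N (fun _ => 1) ϑ h1irr hχN (fun _ _ => rfl)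
    (fun g n => hχc n g) (by rw [hprod_eq]; exact hχN) χ hχ (fun n => rfl)
  rw [hprod_eq] at hgal
  -- the function being averaged
  set f : G → ℂ := fun g => ψ g * conj (χ g) with hfdef
  have hf : Cfsg.IsClassFunction G f := by
    intro g x
    show ψ (x * g * x⁻¹) * conj (χ (x * g * x⁻¹)) = ψ g * conj (χ g)
    rw [hψc g x, hχc g x]
  have hηavg : (fun g => (Nat.card N : ℂ)⁻¹ * ∑ n : N, ψ ((n : G) * g) * conj (χ ((n : G) * g))) =
      avg N f := rfl
  rw [hηavg, avg_eq_sum N hf]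
  have hcoef : ∀ β : G → ℂ, Cfsg.classInner f β = Cfsg.classInner ψ (β * χ) := by
    intro β
    unfold Cfsg.classInner
    congr 1
    refine Finset.sum_congr rfl fun g _ => ?_
    simp only [hfdef, Pi.mul_apply, map_mul]
    ring
  simp_rw [hcoef]
  -- main case
  have hmain : Cfsg.classInner (fun n : N => ψ n) ϑ ≠ 0 →
      ∃ β₀ : G → ℂ, Cfsg.IsIrrCharacter G β₀ ∧
        Cfsg.classInner (Cfsg.indFun N (fun _ : N => (1 : ℂ))) β₀ ≠ 0 ∧ β₀ * χ = ψ ∧
        (∑ β : Cfsg.IrrCharacter G,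
          (if KerCond N (β : G → ℂ) then Cfsg.classInner ψ ((β : G → ℂ) * χ) else 0) •
            (β : G → ℂ)) = β₀ := by
    intro h
    have hψB : ψ ∈ {ψ : G → ℂ | Cfsg.IsIrrCharacter G ψ ∧
        Cfsg.classInner (Cfsg.indFun N ϑ) ψ ≠ 0} := by
      refine ⟨hψ, ?_⟩
      rw [frobenius_reciprocity N ϑ ψ hψc, ← classInner_conj_symm]
      exact (map_ne_zero _).mpr h
    obtain ⟨β₀, ⟨hβ₀irr, hβ₀A⟩, hβ₀⟩ := hgal.surjOn hψB
    simp only at hβ₀
    refine ⟨β₀, hβ₀irr, hβ₀A, hβ₀, ?_⟩
    rw [Finset.sum_eq_single (⟨β₀, hβ₀irr⟩ : Cfsg.IrrCharacter G)]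
    · rw [if_pos (kerCond_of_mem N hβ₀irr hβ₀A)]
      show Cfsg.classInner ψ (β₀ * χ) • β₀ = β₀
      rw [hβ₀, classInner_self_of_isIrrCharacter hψ, one_smul]
    · intro β _ hne
      by_cases hk : KerCond N (β : G → ℂ)
      · rw [if_pos hk]
        have hβA : (β : G → ℂ) ∈ {β : G → ℂ | Cfsg.IsIrrCharacter G β ∧
            Cfsg.classInner (Cfsg.indFun N (fun _ : N => (1 : ℂ))) β ≠ 0} :=
          ⟨β.2, mem_of_kerCond N β.2 hk⟩
        have hβχ := (hgal.mapsTo hβA).1
        have hne' : ψ ≠ (β : G → ℂ) * χ := by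
          intro heq
          apply hne
          apply Subtype.ext
          apply hgal.injOn hβA ⟨hβ₀irr, hβ₀A⟩
          show (β : G → ℂ) * χ = β₀ * χ
          rw [hβ₀, heq]
        rw [classInner_of_isIrrCharacter_of_ne hψ hβχ hne', zero_smul]
      · rw [if_neg hk, zero_smul]
    · intro h
      exact absurd (Finset.mem_univ _) h
  refine ⟨?_, ?_, ?_⟩
  · intro h
    obtain ⟨β₀, hβ₀irr, _, _, hsum⟩ := hmain h
    rw [hsum]
    exact hβ₀irr
  · intro h
    apply Finset.sum_eq_zero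
    intro β _
    by_cases hk : KerCond N (β : G → ℂ)
    · rw [if_pos hk]
      have hβA : (β : G → ℂ) ∈ {β : G → ℂ | Cfsg.IsIrrCharacter G β ∧
          Cfsg.classInner (Cfsg.indFun N (fun _ : N => (1 : ℂ))) β ≠ 0} :=
        ⟨β.2, mem_of_kerCond N β.2 hk⟩
      have hβχ := (hgal.mapsTo hβA).1
      have hne' : ψ ≠ (β : G → ℂ) * χ := by
        intro heq
        have hres : (fun n : N => ψ n) = ((β : G → ℂ) 1) • ϑ := by
          funext n
          rw [heq]
          show (β : G → ℂ) n * χ n = (β : G → ℂ) 1 * χ n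
          have := hk n 1
          rw [mul_one] at this
          rw [this]
        rw [hres, classInner_smul_left, classInner_self_of_isIrrCharacter hχN, mul_one] at h
        exact irr_one_ne_zero β.2 h
      rw [classInner_of_isIrrCharacter_of_ne hψ hβχ hne', zero_smul]
    · rw [if_neg hk, zero_smul]
  · intro heq
    subst heq
    have h : Cfsg.classInner (fun n : N => ψ n) ϑ ≠ 0 := by
      rw [classInner_self_of_isIrrCharacter hχN]
      exact one_ne_zero
    obtain ⟨β₀, hβ₀irr, hβ₀A, hβ₀, hsum⟩ := hmain h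
    rw [hsum]
    have h1G : Cfsg.IsIrrCharacter G (fun _ : G => (1 : ℂ)) :=
      Cfsg.Agent.Lib.Helper80_CharBasic.isIrrCharacter_one G
    have h1A : (fun _ : G => (1 : ℂ)) ∈ {β : G → ℂ | Cfsg.IsIrrCharacter G β ∧
        Cfsg.classInner (Cfsg.indFun N (fun _ : N => (1 : ℂ))) β ≠ 0} :=
      ⟨h1G, mem_of_kerCond N h1G (fun _ _ => rfl)⟩
    apply hgal.injOn ⟨hβ₀irr, hβ₀A⟩ h1A
    show β₀ * ψ = (fun _ : G => (1 : ℂ)) * ψ
    rw [hβ₀]
    funext g
    simp

end Cfsg.Agent.S0868
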