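import Cfsg.Statements.S0873
import Cfsg.Agent.Lib.Helper15_Linear
import Mathlib

set_option autoImplicit false
open Cfsg

namespace Cfsg.Agent.S0873

open Cfsg.Agent.Lib.Helper15_Linear

/-- the fibre of `lam` through `c₀` -/
def fibre {G : Type*} [Group G] (C : Subgroup G) (lam : C → ℂ) (c₀ : C) : Set C :=
  {c | lam c = lam c₀}

/-- the conjugation action of `P` on a fibre of an invariant function -/
@[reducible] def fibreAction {G : Type*} [Group G] (C P : Subgroup G) [hC : C.Normal] (lam : C → ℂ)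
    (hinv : ∀ (g : G) (c : C), lam ⟨g * c * g⁻¹, hC.conj_mem (c : G) c.2 g⟩ = lam c) (c₀ : C) :
    MulAction P (fibre C lam c₀) where
  smul u c := ⟨⟨(u : G) * c.1 * (u : G)⁻¹, hC.conj_mem (c.1 : G) c.1.2 u⟩, by
    show lam _ = lam c₀
    rw [hinv]; exact c.2⟩
  one_smul c := by
    apply Subtype.ext; apply Subtype.ext
    show ((1 : P) : G) * c.1 * ((1 : P) : G)⁻¹ = c.1
    simp
  mul_smul u v c := by
    apply Subtype.ext; apply Subtype.ext
    show ((u * v : P) : G) * c.1 * ((u * v : P) : G)⁻¹ = (u : G) * ((v : G) * c.1 * (v : G)⁻¹) * (u : G)⁻¹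
    simp [mul_assoc]

/-- Let C be a normal subgroup of the finite group G of order prime to p and P a p-subgroup with C ⊔ P = G. Let λ be a character of C of degree 1 invariant under conjugation by G and equal to 1 at every element of C centralized by P. Then λ is identically 1. -/
theorem result {G : Type*} [Group G] [Finite G] (p : ℕ) [Fact p.Prime] (C P : Subgroup G) [hC : C.Normal] (hP : IsPGroup p P) (hcop : Nat.Coprime (Nat.card C) p) (hCP : C ⊔ P = ⊤) (lam : C → ℂ) (hlam : Cfsg.IsCharacter C lam ∧ lam 1 = 1) (hinv : ∀ (g : G) (c : C), lam ⟨g * c * g⁻¹, hC.conj_mem (c : G) c.2 g⟩ = lam c) (hker : ∀ c : C, (c : G) ∈ Subgroup.centralizer (P : Set G) → lam c = 1) : lam = fun _ => 1 := by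
  funext c₀
  let f := linearHom lam hlam.1 hlam.2
  let _ := fibreAction C P lam hinv c₀
  have hfin : Finite (fibre C lam c₀) := Subtype.finite
  -- the fibre is in bijection with the kernel
  have e : (fibre C lam c₀) ≃ f.ker :=
    { toFun := fun c => ⟨c₀⁻¹ * c.1, by
        rw [MonoidHom.mem_ker]
        show lam (c₀⁻¹ * c.1) = 1
        rw [linear_mul lam hlam.1 hlam.2, linear_inv lam hlam.1 hlam.2, c.2]
        exact inv_mul_cancel₀ (linear_ne_zero lam hlam.1 hlam.2 c₀)⟩
      invFun := fun k => ⟨c₀ * k.1, by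
        show lam (c₀ * k.1) = lam c₀
        have hk : lam k.1 = 1 := MonoidHom.mem_ker.mp k.2
        rw [linear_mul lam hlam.1 hlam.2, hk, mul_one]⟩
      left_inv := fun c => by
        apply Subtype.ext
        simp
      right_inv := fun k => by
        apply Subtype.ext
        simp }
  have hnd : ¬ p ∣ Nat.card (fibre C lam c₀) := by
    rw [Nat.card_congr e]
    intro hdvd
    have h2 : p ∣ Nat.card C := hdvd.trans (Subgroup.card_subgroup_dvd_card f.ker)
    have h3 : p ∣ Nat.gcd (Nat.card C) p := Nat.dvd_gcd h2 dvd_rfl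
    rw [hcop] at h3
    exact (Fact.out : p.Prime).one_lt.ne' (Nat.dvd_one.mp h3)
  obtain ⟨c, hc⟩ := hP.nonempty_fixed_point_of_prime_not_dvd_card (fibre C lam c₀) hnd
  have hcent : ((c.1 : C) : G) ∈ Subgroup.centralizer (P : Set G) := by
    intro u hu
    have h1 := hc ⟨u, hu⟩
    have h2 : u * (c.1 : G) * u⁻¹ = (c.1 : G) :=
      congrArg (fun w : fibre C lam c₀ => ((w.1 : C) : G)) h1
    calc u * (c.1 : G) = u * (c.1 : G) * u⁻¹ * u := by group
      _ = (c.1 : G) * u := by rw [h2]
  rw [← c.2]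
  exact hker c.1 hcent

end Cfsg.Agent.S0873
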