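import Cfsg.Statements.S0876
import Cfsg.Agent.S0875
import Cfsg.Agent.Lib.Helper16_PCongr
import Cfsg.Agent.Lib.Helper16_Char
import Cfsg.Agent.Lib.Helper80_CharBasic

set_option autoImplicit false
open Cfsg
open Cfsg.Agent.Lib.Helper16_Char Cfsg.Agent.Lib.Helper16_PCongr

namespace Cfsg.Agent.S0876

/-- Let G be a finite group, p a prime and M a maximal ideal of the ring of algebraic integers containing p. Let x, y be elements with p-parts a and b (so a⁻¹ * x and b⁻¹ * y are their p-regular parts). Then a⁻¹ * x and b⁻¹ * y are conjugate in G if and only if, for every irreducible character χ, the difference χ x - χ y lies in the local ideal at M. -/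
theorem result {G : Type*} [Group G] [Finite G] (p : ℕ) (M : Ideal Cfsg.AlgInt) (hM : Cfsg.IsPModular p M) (x y a b : G) (ha : Cfsg.IsPPart p x a) (hb : Cfsg.IsPPart p y b) : IsConj (a⁻¹ * x) (b⁻¹ * y) ↔ ∀ χ : Cfsg.IrrCharacter G, Cfsg.MemLocalIdeal M ((χ : G → ℂ) x - (χ : G → ℂ) y) := by
  classical
  haveI : Fintype G := Fintype.ofFinite G
  have hp : p.Prime := hM.1
  have hMmax : M.IsMaximal := hM.2.1
  obtain ⟨y₁, hay, hc₁, ⟨k₁, hk₁⟩, hy₁⟩ := ha
  obtain ⟨y₂, hby, hc₂, ⟨k₂, hk₂⟩, hy₂⟩ := hb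
  have e₁ : a⁻¹ * x = y₁ := by rw [← hay, inv_mul_cancel_left]
  have e₂ : b⁻¹ * y = y₂ := by rw [← hby, inv_mul_cancel_left]
  rw [e₁, e₂]
  have hx1 : ∀ χ : Cfsg.IrrCharacter G, Cfsg.MemLocalIdeal M ((χ : G → ℂ) x - (χ : G → ℂ) y₁) := by
    intro χ
    rw [← hay]
    exact memLocalIdeal_irr_mul_sub hM χ hc₁.eq hk₁
  have hy1 : ∀ χ : Cfsg.IrrCharacter G, Cfsg.MemLocalIdeal M ((χ : G → ℂ) y - (χ : G → ℂ) y₂) := by
    intro χ
    rw [← hby]
    exact memLocalIdeal_irr_mul_sub hM χ hc₂.eq hk₂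
  constructor
  · intro hconj χ
    have h1 : (χ : G → ℂ) y₁ = (χ : G → ℂ) y₂ :=
      Cfsg.Agent.Lib.Helper80_CharBasic.irr_isConj χ hconj
    have h2 : (χ : G → ℂ) x - (χ : G → ℂ) y =
        ((χ : G → ℂ) x - (χ : G → ℂ) y₁) - ((χ : G → ℂ) y - (χ : G → ℂ) y₂) := by
      rw [h1]; ring
    rw [h2]
    exact memLocalIdeal_sub M hMmax (hx1 χ) (hy1 χ)
  · intro hall
    by_contra hnc
    have hG0 : Nat.card G ≠ 0 := Nat.card_pos.ne'
    set m : ℕ := p ^ (Nat.card G).factorization p with hm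
    set n : ℕ := Nat.card G / p ^ (Nat.card G).factorization p with hn
    have hmn : Nat.card G = m * n := (Nat.ordProj_mul_ordCompl_eq_self (Nat.card G) p).symm
    have hpn : Nat.Coprime p n := Nat.coprime_ordCompl hp hG0
    have hcop : Nat.Coprime m n := Nat.Coprime.pow_left _ hpn
    have hndvd : ¬ p ∣ n := Nat.not_dvd_ordCompl hp hG0
    have hcopa : ∀ {z : G} {k : ℕ}, orderOf z = p ^ k → Nat.Coprime (orderOf z) n := by
      intro z k hz
      rw [hz]
      exact Nat.Coprime.pow_left _ hpn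
    have hcopy : ∀ {z : G}, ¬ p ∣ orderOf z → Nat.Coprime (orderOf z) m := by
      intro z hz
      exact Nat.Coprime.pow_right _ ((Nat.Prime.coprime_iff_not_dvd hp).2 hz).symm
    let ϑ : G → ℂ := fun z => if (∃ v : G, IsConj v y₁ ∧ (∃ u : G, z = u * v ∧ Commute u v ∧
      Nat.Coprime (orderOf u) n ∧ Nat.Coprime (orderOf v) m)) then (n : ℂ) else 0
    obtain ⟨c, hc, hϑ⟩ := Cfsg.Agent.S0875.result m n hmn hcop y₁ (hcopy hy₁) ϑ
      (fun z hz => if_pos hz) (fun z hz => if_neg hz)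
    have hϑx : ϑ x = n :=
      if_pos ⟨y₁, IsConj.refl _, a, hay.symm, hc₁, hcopa hk₁, hcopy hy₁⟩
    have hϑy : ϑ y = 0 := by
      apply if_neg
      rintro ⟨v, hv, u, hyuv, hcuv, hu, hvm⟩
      have h1 := Cfsg.Agent.S0875.pow_eq_of_decomp hmn hcop hyuv hcuv hu hvm
      have h2 := Cfsg.Agent.S0875.pow_eq_of_decomp hmn hcop hby.symm hc₂ (hcopa hk₂) (hcopy hy₂)
      rw [h1] at h2
      rw [h2] at hv
      exact hnc hv.symm
    rw [finsum_eq_sum_of_fintype] at hϑ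
    have hdiff : (n : ℂ) = ∑ χ : Cfsg.IrrCharacter G, c χ * ((χ : G → ℂ) x - (χ : G → ℂ) y) := by
      have h1 : ϑ x - ϑ y = (n : ℂ) := by rw [hϑx, hϑy, sub_zero]
      rw [← h1, hϑ]
      simp only [Finset.sum_apply, Pi.smul_apply, smul_eq_mul]
      rw [← Finset.sum_sub_distrib]
      refine Finset.sum_congr rfl (fun χ _ => ?_)
      ring
    have hmem : Cfsg.MemLocalIdeal M (n : ℂ) := by
      rw [hdiff]
      apply memLocalIdeal_sum M hMmax
      intro χ _
      exact memLocalIdeal_mul_algInt M ⟨c χ, hc χ⟩ (hall χ)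
    exact natCast_not_memLocalIdeal p M hM n hndvd hmem

end Cfsg.Agent.S0876
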