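import Cfsg.Statements.S0878

set_option autoImplicit false
open Cfsg

namespace Cfsg.Agent.S0878

open MulAction

/-- A subgroup `H` of a point stabilizer `G_a` of order `|Ω| - 1` all of whose non-identity elements
fix only `a`, in a group where only the identity fixes three points, contains every element fixing
exactly the point `a`. -/
theorem mem_of_fixes_only {G Ω : Type*} [Group G] [Finite G] [MulAction G Ω] [Fintype Ω]
    (h3 : ∀ g : G, ∀ a b c : Ω, a ≠ b → b ≠ c → a ≠ c → g • a = a → g • b = b → g • c = c → g = 1)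
    (a : Ω) (H : Subgroup G) (hHa : H ≤ MulAction.stabilizer G a)
    (hHcard : Nat.card H + 1 = Fintype.card Ω)
    (hHfix : ∀ u ∈ H, u ≠ 1 → ∀ c : Ω, u • c = c → c = a)
    (t : G) (hta : t • a = a) (ht : ∀ c, t • c = c → c = a) : t ∈ H := by
  classical
  have hcard2 : 2 ≤ Fintype.card Ω := by
    have := Nat.card_pos (α := H); omega
  obtain ⟨b0, hb0⟩ : ∃ b0 : Ω, b0 ≠ a := by
    have : Nontrivial Ω := Fintype.one_lt_card_iff_nontrivial.1 (by omega)
    exact exists_ne a
  obtain ⟨K, hK⟩ : ∃ K : Subgroup G, K = MulAction.stabilizer G a := ⟨_, rfl⟩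
  have hHK : H ≤ K := hK ▸ hHa
  let S : Subgroup K := MulAction.stabilizer K b0
  let H' : Subgroup K := H.subgroupOf K
  have hk_a : ∀ k : K, k • a = a := by
    intro k
    have h : (k : G) ∈ MulAction.stabilizer G a := by rw [← hK]; exact k.2
    exact h
  have hk_ne : ∀ k : K, k • b0 ≠ a := by
    intro k h
    apply hb0
    have : k • b0 = k • a := by rw [h, hk_a]
    exact MulAction.injective k this
  have hu_fix : ∀ u : H', (u : K) ≠ 1 → ∀ c : Ω, (u : K) • c = c → c = a := by
    intro u hu c hc
    refine hHfix ((u : K) : G) (Subgroup.mem_subgroupOf.1 u.2) ?_ c hc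
    intro h
    apply hu
    exact Subtype.ext h
  have three : ∀ k : K, k ≠ 1 → ∀ b c : Ω, b ≠ a → c ≠ a → k • b = b → k • c = c → b = c := by
    intro k hk b c hb hc hkb hkc
    by_contra hbc
    apply hk
    have := h3 (k : G) a b c (Ne.symm hb) hbc (Ne.symm hc) (hk_a k) hkb hkc
    exact Subtype.ext this
  have conj_fix : ∀ (u : K) (s : S), ((u : K) * (s : K) * (u : K)⁻¹) • (u • b0) = u • b0 := by
    intro u s
    have hs : (s : K) • b0 = b0 := s.2
    rw [smul_smul, inv_mul_cancel_right, mul_smul, hs]
  let φ : H' × S → K := fun p =>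
    if (p.2 : K) = 1 then (p.1 : K) else (p.1 : K) * (p.2 : K) * (p.1 : K)⁻¹
  have hφ1 : ∀ (u : H') (s : S), (s : K) = 1 → φ (u, s) = (u : K) := by
    intro u s hs
    change (if (s : K) = 1 then (u : K) else (u : K) * (s : K) * (u : K)⁻¹) = _
    rw [if_pos hs]
  have hφ2 : ∀ (u : H') (s : S), (s : K) ≠ 1 → φ (u, s) = (u : K) * (s : K) * (u : K)⁻¹ := by
    intro u s hs
    change (if (s : K) = 1 then (u : K) else (u : K) * (s : K) * (u : K)⁻¹) = _
    rw [if_neg hs]
  have conj_ne : ∀ (u : K) (s : K), s ≠ 1 → u * s * u⁻¹ ≠ 1 := by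
    intro u s hs h
    apply hs
    have : s = u⁻¹ * (u * s * u⁻¹) * u := by group
    rw [this, h]; group
  -- a conjugate of a nontrivial element of `S` is never in `H'`
  have hmix : ∀ (u u' : H') (s' : S), (s' : K) ≠ 1 →
      (u : K) ≠ (u' : K) * (s' : K) * (u' : K)⁻¹ := by
    intro u u' s' hs' h
    have h1 : (u : K) ≠ 1 := by rw [h]; exact conj_ne _ _ hs'
    have h2 : (u : K) • ((u' : K) • b0) = (u' : K) • b0 := by rw [h]; exact conj_fix _ s'
    exact hk_ne _ (hu_fix u h1 _ h2)
  have hinj : Function.Injective φ := by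
    rintro ⟨u, s⟩ ⟨u', s'⟩ h
    by_cases hs : (s : K) = 1 <;> by_cases hs' : (s' : K) = 1
    · rw [hφ1 u s hs, hφ1 u' s' hs'] at h
      have h1 : u = u' := Subtype.ext h
      have h2 : s = s' := Subtype.ext (hs.trans hs'.symm)
      rw [h1, h2]
    · rw [hφ1 u s hs, hφ2 u' s' hs'] at h
      exact absurd h (hmix u u' s' hs')
    · rw [hφ2 u s hs, hφ1 u' s' hs'] at h
      exact absurd h.symm (hmix u' u s hs)
    · rw [hφ2 u s hs, hφ2 u' s' hs'] at h
      have hne := conj_ne (u : K) (s : K) hs
      have e1 := conj_fix (u : K) s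
      have e2 := conj_fix (u' : K) s'
      rw [← h] at e2
      have e3 := three _ hne _ _ (hk_ne _) (hk_ne _) e1 e2
      -- so u⁻¹ u' fixes b0
      have e4 : ((u⁻¹ * u' : H') : K) • b0 = b0 := by
        rw [Subgroup.coe_mul, Subgroup.coe_inv, mul_smul, ← e3, smul_smul, inv_mul_cancel, one_smul]
      have e5 : ((u⁻¹ * u' : H') : K) = 1 := by
        by_contra hne'
        exact hb0 (hu_fix _ hne' _ e4)
      have e6 : u = u' := by
        have : u⁻¹ * u' = 1 := Subtype.ext e5
        exact (inv_mul_eq_one.1 this)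
      subst e6
      have e7 : (s : K) = (s' : K) := by
        have := mul_left_cancel (mul_right_cancel h)
        exact this
      have e8 : s = s' := Subtype.ext e7
      rw [e8]
  -- counting
  have hcardH' : Nat.card H' = Nat.card H :=
    Nat.card_congr (Subgroup.subgroupOfEquivOfLe hHK).toEquiv
  have horb : Nat.card (orbit K b0) + 1 ≤ Fintype.card Ω := by
    have h1 : orbit K b0 ⊆ ({a} : Set Ω)ᶜ := by
      rintro _ ⟨k, rfl⟩
      exact hk_ne k
    have h2 := Set.ncard_le_ncard h1
    have h3' := Set.ncard_add_ncard_compl ({a} : Set Ω)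
    rw [Set.ncard_singleton, Nat.card_eq_fintype_card] at h3'
    rw [Nat.card_coe_set_eq]
    omega
  have hcount : Nat.card K ≤ Nat.card (H' × S) := by
    rw [Nat.card_prod, ← Subgroup.index_mul_card S, MulAction.index_stabilizer, hcardH',
      ← Nat.card_coe_set_eq]
    apply Nat.mul_le_mul_right
    omega
  have hbij := hinj.bijective_of_nat_card_le hcount
  -- conclusion
  have htK : t ∈ K := by rw [hK]; exact hta
  obtain ⟨⟨u, s⟩, hus⟩ := hbij.2 ⟨t, htK⟩
  by_cases hs : (s : K) = 1
  · rw [hφ1 u s hs] at hus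
    have := Subgroup.mem_subgroupOf.1 u.2
    rw [hus] at this
    exact this
  · exfalso
    rw [hφ2 u s hs] at hus
    have e1 := conj_fix (u : K) s
    rw [hus] at e1
    have e2 : t • ((u : K) • b0) = (u : K) • b0 := e1
    exact hk_ne _ (ht _ e2)

/-- Let G be a Zassenhaus group on the finite set Ω, a a point, and let H be the subgroup of the stabilizer of a consisting of the identity and the elements fixing no point other than a (given here as a subgroup of the stabilizer of order one less than the number of points whose non-identity elements fix only a; it is the Frobenius kernel of the stabilizer). Then an element outside the stabilizer of a conjugates no non-identity element of H into H, and the normalizer of H is exactly the stabilizer of a. -/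
theorem result {G Ω : Type*} [Group G] [Finite G] [MulAction G Ω] [Fintype Ω] (hZ : Cfsg.IsZassenhausGroup G Ω) (a : Ω) (H : Subgroup G) (hHa : H ≤ MulAction.stabilizer G a) (hHcard : Nat.card H + 1 = Fintype.card Ω) (hHfix : ∀ u ∈ H, u ≠ 1 → ∀ c : Ω, u • c = c → c = a) : (∀ g : G, g ∉ MulAction.stabilizer G a → ∀ u ∈ H, g * u * g⁻¹ ∈ H → u = 1) ∧ Subgroup.normalizer (H : Set G) = MulAction.stabilizer G a := by
  classical
  obtain ⟨hfaith, -, h3, ⟨g0, hg0, a0, b0, hab0, hga0, hgb0⟩, -⟩ := hZ
  have part1 : ∀ g : G, g ∉ MulAction.stabilizer G a → ∀ u ∈ H, g * u * g⁻¹ ∈ H → u = 1 := by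
    intro g hg u hu hgu
    by_contra hu1
    have h1 : g * u * g⁻¹ ≠ 1 := by
      intro h; apply hu1
      have : u = g⁻¹ * (g * u * g⁻¹) * g := by group
      rw [this, h]; group
    have hua : u • a = a := hHa hu
    have h2 : (g * u * g⁻¹) • (g • a) = g • a := by
      rw [smul_smul, inv_mul_cancel_right, mul_smul, hua]
    exact hg (hHfix _ hgu h1 (g • a) h2)
  refine ⟨part1, ?_⟩
  have hconj : ∀ k ∈ MulAction.stabilizer G a, ∀ u ∈ H, k * u * k⁻¹ ∈ H := by
    intro k hk u hu
    by_cases hu1 : u = 1
    · subst hu1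
      simp [H.one_mem]
    · have hka : k • a = a := hk
      have hka' : k⁻¹ • a = a := inv_smul_eq_iff.2 hka.symm
      have hua : u • a = a := hHa hu
      apply mem_of_fixes_only h3 a H hHa hHcard hHfix
      · rw [mul_smul, mul_smul, hka', hua, hka]
      · intro c hc
        have h1 : u • (k⁻¹ • c) = k⁻¹ • c := by
          rw [mul_smul, mul_smul] at hc
          rw [eq_inv_smul_iff]
          exact hc
        have h2 := hHfix u hu hu1 _ h1
        rw [inv_smul_eq_iff] at h2
        rw [h2, hka]
  apply le_antisymm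
  · intro g hg
    by_contra hga
    have hH1 : ∀ u ∈ H, u = 1 := fun u hu =>
      part1 g hga u hu ((Subgroup.mem_normalizer_iff.1 hg u).1 hu)
    have hbot : H = ⊥ := (Subgroup.eq_bot_iff_forall H).2 hH1
    have hΩ : Fintype.card Ω = 2 := by
      rw [hbot, Subgroup.card_bot] at hHcard
      omega
    apply hg0
    apply hfaith.eq_of_smul_eq_smul
    intro c
    rw [one_smul]
    have huniv : ({a0, b0} : Finset Ω) = Finset.univ := by
      apply Finset.eq_univ_of_card
      rw [Finset.card_pair hab0, hΩ]
    have hc : c ∈ ({a0, b0} : Finset Ω) := by rw [huniv]; exact Finset.mem_univ c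
    rw [Finset.mem_insert, Finset.mem_singleton] at hc
    rcases hc with rfl | rfl
    · exact hga0
    · exact hgb0
  · intro k hk
    rw [Subgroup.mem_normalizer_iff]
    intro u
    constructor
    · exact hconj k hk u
    · intro h
      have := hconj k⁻¹ (inv_mem hk) _ h
      simpa [mul_assoc] using this

end Cfsg.Agent.S0878
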