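import Mathlib
import Cfsg.Statements.S0879

set_option autoImplicit false
open Cfsg

namespace Cfsg.Agent.S0879

theorem conj_smul_eq_iff {G Ω : Type*} [Group G] [MulAction G Ω] (g h : G) (a : Ω) :
    (g * h * g⁻¹) • a = a ↔ h • (g⁻¹ • a) = g⁻¹ • a := by
  rw [mul_smul, mul_smul]
  constructor
  · intro H
    have := congrArg (fun y => g⁻¹ • y) H
    simpa using this
  · intro H
    rw [H, smul_inv_smul]

/-- Let G be a Zassenhaus group on the finite set Ω and E the stabilizer of two distinct points a, b. Then an element outside the normalizer of E conjugates no non-identity element of E into E, and E has index 2 in its normalizer. -/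
theorem result {G Ω : Type*} [Group G] [Finite G] [MulAction G Ω] [Fintype Ω] (hZ : Cfsg.IsZassenhausGroup G Ω) {a b : Ω} (hab : a ≠ b) : (∀ g : G, g ∉ Subgroup.normalizer ((MulAction.stabilizer G a ⊓ MulAction.stabilizer G b : Subgroup G) : Set G) → ∀ x ∈ (MulAction.stabilizer G a ⊓ MulAction.stabilizer G b : Subgroup G), g * x * g⁻¹ ∈ (MulAction.stabilizer G a ⊓ MulAction.stabilizer G b : Subgroup G) → x = 1) ∧ ((MulAction.stabilizer G a ⊓ MulAction.stabilizer G b : Subgroup G).subgroupOf (Subgroup.normalizer ((MulAction.stabilizer G a ⊓ MulAction.stabilizer G b : Subgroup G) : Set G))).index = 2 := by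
  obtain ⟨-, h2t, h3, ⟨g₀, hg₀1, c, d, hcd, hg₀c, hg₀d⟩, -⟩ := hZ
  rw [MulAction.is_two_pretransitive_iff] at h2t
  set E : Subgroup G := MulAction.stabilizer G a ⊓ MulAction.stabilizer G b with hE
  have memE : ∀ x : G, x ∈ E ↔ x • a = a ∧ x • b = b := by
    intro x
    rw [hE, Subgroup.mem_inf, MulAction.mem_stabilizer_iff, MulAction.mem_stabilizer_iff]
  -- (K)
  have hK : ∀ x ∈ E, x ≠ 1 → ∀ g : G, g * x * g⁻¹ ∈ E →
      (g⁻¹ • a = a ∧ g⁻¹ • b = b) ∨ (g⁻¹ • a = b ∧ g⁻¹ • b = a) := by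
    intro x hx hx1 g hgx
    obtain ⟨hxa, hxb⟩ := (memE x).mp hx
    obtain ⟨hga, hgb⟩ := (memE _).mp hgx
    rw [conj_smul_eq_iff] at hga hgb
    have hne : g⁻¹ • a ≠ g⁻¹ • b := fun h => hab (smul_left_cancel g⁻¹ h)
    have hc : g⁻¹ • a = a ∨ g⁻¹ • a = b := by
      by_contra hcon
      push Not at hcon
      exact hx1 (h3 x a b (g⁻¹ • a) hab (Ne.symm hcon.2) (Ne.symm hcon.1) hxa hxb hga)
    have hd : g⁻¹ • b = a ∨ g⁻¹ • b = b := by
      by_contra hcon
      push Not at hcon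
      exact hx1 (h3 x a b (g⁻¹ • b) hab (Ne.symm hcon.2) (Ne.symm hcon.1) hxa hxb hgb)
    rcases hc with hc | hc <;> rcases hd with hd | hd
    · exact absurd (hc.trans hd.symm) hne
    · exact Or.inl ⟨hc, hd⟩
    · exact Or.inr ⟨hc, hd⟩
    · exact absurd (hc.trans hd.symm) hne
  -- (S)
  have hS : ∀ g : G, ((g⁻¹ • a = a ∧ g⁻¹ • b = b) ∨ (g⁻¹ • a = b ∧ g⁻¹ • b = a)) →
      g ∈ Subgroup.normalizer (E : Set G) := by
    intro g hg
    rw [Subgroup.mem_normalizer_iff]
    intro h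
    rw [memE, memE, conj_smul_eq_iff, conj_smul_eq_iff]
    rcases hg with ⟨h1, h2⟩ | ⟨h1, h2⟩
    · rw [h1, h2]
    · rw [h1, h2]; exact and_comm
  refine ⟨?_, ?_⟩
  · intro g hg x hx hgx
    by_contra hx1
    exact hg (hS g (hK x hx hx1 g hgx))
  · -- a non-identity element of E
    obtain ⟨k, hkc, hkd⟩ := h2t hcd hab
    have hx₀E : k * g₀ * k⁻¹ ∈ E := by
      rw [memE, conj_smul_eq_iff, conj_smul_eq_iff]
      have h1 : k⁻¹ • a = c := by rw [← hkc, inv_smul_smul]
      have h2 : k⁻¹ • b = d := by rw [← hkd, inv_smul_smul]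
      rw [h1, h2]; exact ⟨hg₀c, hg₀d⟩
    have hx₀1 : k * g₀ * k⁻¹ ≠ 1 := by
      intro h
      apply hg₀1
      have : g₀ = k⁻¹ * (k * g₀ * k⁻¹) * k := by group
      rw [this, h]; group
    -- the swap
    obtain ⟨t, hta, htb⟩ := h2t hab (Ne.symm hab)
    have htinv : t⁻¹ • a = b ∧ t⁻¹ • b = a := by
      constructor
      · rw [← htb, inv_smul_smul]
      · rw [← hta, inv_smul_smul]
    have htN : t ∈ Subgroup.normalizer (E : Set G) := hS t (Or.inr htinv)
    rw [Subgroup.index_eq_two_iff]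
    refine ⟨⟨t, htN⟩, ?_⟩
    rintro ⟨n, hn⟩
    simp only [Subgroup.mem_subgroupOf, Subgroup.coe_mul]
    have hnx : n * (k * g₀ * k⁻¹) * n⁻¹ ∈ E :=
      (Subgroup.mem_normalizer_iff.mp hn _).mp hx₀E
    rcases hK _ hx₀E hx₀1 n hnx with ⟨h1, h2⟩ | ⟨h1, h2⟩
    · -- n fixes a and b
      have hna : n • a = a := by rw [← h1, smul_inv_smul, h1]
      have hnb : n • b = b := by rw [← h2, smul_inv_smul, h2]
      right
      refine ⟨(memE n).mpr ⟨hna, hnb⟩, ?_⟩
      intro hnt
      have := ((memE _).mp hnt).1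
      rw [mul_smul, hta, hnb] at this
      exact hab this.symm
    · -- n swaps a and b
      have hna : n • a = b := by rw [← h2, smul_inv_smul]
      have hnb : n • b = a := by rw [← h1, smul_inv_smul]
      left
      refine ⟨(memE _).mpr ⟨by rw [mul_smul, hta, hnb], by rw [mul_smul, htb, hna]⟩, ?_⟩
      intro hnE
      have := ((memE _).mp hnE).1
      rw [hna] at this
      exact hab this.symm

end Cfsg.Agent.S0879
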