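import Cfsg.Statements.S0880
import Cfsg.Agent.Lib.Helper6_Zassenhaus
import Cfsg.Agent.Lib.Helper59_Derangements

set_option autoImplicit false
open Cfsg

namespace Cfsg.Agent.S0880

open MulAction Cfsg.Agent.Lib.Helper6_Zassenhaus

section

variable {G Ω : Type*} [Group G] [MulAction G Ω]

theorem memE {a b : Ω} (x : G) :
    x ∈ stabilizer G a ⊓ stabilizer G b ↔ x • a = a ∧ x • b = b := by
  rw [Subgroup.mem_inf, mem_stabilizer_iff, mem_stabilizer_iff]

/-- In a doubly transitive group, the elements carrying a given ordered pair to another are as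
many as the elements of a two-point stabilizer. -/
theorem card_trans (zh : ZHyp G Ω) {a b : Ω} (hab : a ≠ b) {c d c' d' : Ω} (hcd : c ≠ d)
    (hcd' : c' ≠ d') :
    Nat.card {g : G // g • c = c' ∧ g • d = d'} = Nat.card ↥(stabilizer G a ⊓ stabilizer G b) := by
  obtain ⟨g₁, h1a, h1b⟩ := zh.two hab hcd
  obtain ⟨g₂, h2a, h2b⟩ := zh.two hab hcd'
  have h2ic : g₂⁻¹ • c' = a := by rw [inv_smul_eq_iff, h2a]
  have h2id : g₂⁻¹ • d' = b := by rw [inv_smul_eq_iff, h2b]
  have h1ic : g₁⁻¹ • c = a := by rw [inv_smul_eq_iff, h1a]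
  have h1id : g₁⁻¹ • d = b := by rw [inv_smul_eq_iff, h1b]
  refine Nat.card_congr
    { toFun := fun g => ⟨g₂⁻¹ * g * g₁, ?_⟩
      invFun := fun h => ⟨g₂ * h * g₁⁻¹, ?_⟩
      left_inv := fun g => by apply Subtype.ext; simp [mul_assoc]
      right_inv := fun h => by apply Subtype.ext; simp [mul_assoc] }
  · rw [memE]
    exact ⟨by rw [mul_smul, mul_smul, h1a, g.2.1, h2ic], by rw [mul_smul, mul_smul, h1b, g.2.2, h2id]⟩
  · obtain ⟨e1, e2⟩ := (memE (h : G)).1 h.2
    exact ⟨by rw [mul_smul, mul_smul, h1ic, e1, h2a], by rw [mul_smul, mul_smul, h1id, e2, h2b]⟩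

/-- arithmetic core -/
theorem arith (n e D : ℕ) (hn : 3 ≤ n) (he : Odd e) (he2 : 2 ≤ e)
    (h1 : (n * n - n) * e = (n - 1) * (n - 2) + 2 * D) (hdvd : D ∣ (n * n - n) * e) : False := by
  obtain ⟨h, rfl⟩ : ∃ h, n = h + 3 := ⟨n - 3, by omega⟩
  obtain ⟨f, hf⟩ := he
  have hf1 : 1 ≤ f := by omega
  subst hf
  have e1 : (h + 3) * (h + 3) - (h + 3) = (h + 3) * (h + 2) := by
    have : (h + 3) * (h + 3) = (h + 3) * (h + 2) + (h + 3) := by ring
    omega
  have e2 : h + 3 - 1 = h + 2 := by omega
  have e3 : h + 3 - 2 = h + 1 := by omega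
  rw [e1, e2, e3] at h1
  rw [e1] at hdvd
  -- D = (h+2) * (f * (h+3) + 1)
  have hD : D = (h + 2) * (f * (h + 3) + 1) := by
    have : 2 * D = 2 * ((h + 2) * (f * (h + 3) + 1)) := by
      have h2 : (h + 3) * (h + 2) * (2 * f + 1) = (h + 2) * (h + 1) + 2 * ((h + 2) * (f * (h + 3) + 1)) := by
        ring
      omega
    omega
  rw [hD] at hdvd
  have hdvd2 : f * (h + 3) + 1 ∣ (h + 3) * (2 * f + 1) := by
    have : (h + 2) * (f * (h + 3) + 1) ∣ (h + 2) * ((h + 3) * (2 * f + 1)) := by
      have e : (h + 3) * (h + 2) * (2 * f + 1) = (h + 2) * ((h + 3) * (2 * f + 1)) := by ring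
      rwa [e] at hdvd
    exact Nat.dvd_of_mul_dvd_mul_left (by omega) this
  have hcop : Nat.Coprime (f * (h + 3) + 1) (h + 3) := by
    have : Nat.gcd (f * (h + 3) + 1) (h + 3) = Nat.gcd 1 (h + 3) := by
      rw [add_comm, Nat.gcd_add_mul_right_left]
    rw [Nat.Coprime, this, Nat.gcd_one_left]
  have hdvd3 : f * (h + 3) + 1 ∣ 2 * f + 1 := hcop.dvd_of_dvd_mul_left hdvd2
  have := Nat.le_of_dvd (by omega) hdvd3
  nlinarith

/-- the counting identities -/
theorem key [Finite G] [Fintype Ω] (zh : ZHyp G Ω) {a b : Ω} (hab : a ≠ b) :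
    Nat.card G = (Fintype.card Ω * Fintype.card Ω - Fintype.card Ω) *
        Nat.card ↥(stabilizer G a ⊓ stabilizer G b) ∧
      Nat.card G = (Fintype.card Ω - 1) * (Fintype.card Ω - 2) +
        2 * Nat.card {g : G // ∀ c : Ω, g • c ≠ c} := by
  classical
  have _ : Fintype G := Fintype.ofFinite G
  set n := Fintype.card Ω with hn
  set e := Nat.card ↥(stabilizer G a ⊓ stabilizer G b) with he
  have hn3 : 3 ≤ n := by
    obtain ⟨c, hca, hcb⟩ := exists_third zh a b hab
    have : 2 < Fintype.card Ω := by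
      rw [Fintype.two_lt_card_iff]
      exact ⟨a, b, c, hab, Ne.symm hca, Ne.symm hcb⟩
    omega
  have hoff : (Finset.univ : Finset Ω).offDiag.card = n * n - n := by
    rw [Finset.offDiag_card, Finset.card_univ]
  -- the order of G
  have hΓ : Nat.card G = (n * n - n) * e := by
    rw [Nat.card_eq_fintype_card, ← Finset.card_univ]
    have hmaps : ∀ g ∈ (Finset.univ : Finset G),
        (fun g : G => (g • a, g • b)) g ∈ (Finset.univ : Finset Ω).offDiag := by
      intro g _
      rw [Finset.mem_offDiag]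
      exact ⟨Finset.mem_univ _, Finset.mem_univ _, fun h => hab (MulAction.injective g h)⟩
    rw [Finset.card_eq_sum_card_fiberwise hmaps]
    have hfib : ∀ p ∈ (Finset.univ : Finset Ω).offDiag,
        ((Finset.univ : Finset G).filter (fun g => (g • a, g • b) = p)).card = e := by
      intro p hp
      rw [Finset.mem_offDiag] at hp
      have := card_trans zh hab hab hp.2.2
      rw [Nat.card_eq_fintype_card, Fintype.card_subtype] at this
      rw [he, ← this]
      congr 1
      ext g
      simp [Prod.ext_iff]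
    rw [Finset.sum_congr rfl hfib, Finset.sum_const, hoff, smul_eq_mul]
  refine ⟨hΓ, ?_⟩
  set fixF : G → Finset Ω := fun g => Finset.univ.filter (fun c => g • c = c) with hfixF
  -- Burnside
  have hpre : IsPretransitive G Ω := by
    constructor
    intro x y
    by_cases hxy : x = y
    · exact ⟨1, by rw [one_smul, hxy]⟩
    · obtain ⟨g, hg, _⟩ := zh.two hxy (Ne.symm hxy)
      exact ⟨g, hg⟩
  have hne : Nonempty Ω := ⟨a⟩
  have hS1 : ∑ g : G, (fixF g).card = Nat.card G := by
    have := Cfsg.Agent.Lib.Helper59_Derangements.burnside (G := G) (Ω := Ω)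
    rw [Cfsg.Agent.Lib.Helper59_Derangements.card_orbits_eq_one, one_mul] at this
    rw [← this]
    apply Finset.sum_congr rfl
    intro g _
    have : Nat.card (fixedBy Ω g) = Nat.card {c : Ω // g • c = c} := rfl
    rw [this, Nat.card_eq_fintype_card, Fintype.card_subtype]
  -- pairs
  have hS2 : ∑ g : G, (fixF g).offDiag.card = Nat.card G := by
    set r : G → Ω × Ω → Prop := fun g p => g • p.1 = p.1 ∧ g • p.2 = p.2 with hr
    have hdc := Finset.sum_card_bipartiteAbove_eq_sum_card_bipartiteBelow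
      (s := (Finset.univ : Finset G)) (t := (Finset.univ : Finset Ω).offDiag) (r := r)
    have hL : ∀ g ∈ (Finset.univ : Finset G),
        ((Finset.univ : Finset Ω).offDiag.bipartiteAbove r g).card = (fixF g).offDiag.card := by
      intro g _
      congr 1
      ext p
      simp only [Finset.mem_bipartiteAbove, Finset.mem_offDiag, Finset.mem_univ, true_and, hr,
        hfixF, Finset.mem_filter]
      tauto
    have hR : ∀ p ∈ (Finset.univ : Finset Ω).offDiag,
        ((Finset.univ : Finset G).bipartiteBelow r p).card = e := by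
      intro p hp
      rw [Finset.mem_offDiag] at hp
      have := card_trans zh hab hp.2.2 hp.2.2
      rw [Nat.card_eq_fintype_card, Fintype.card_subtype] at this
      rw [he, ← this]
      congr 1
    rw [Finset.sum_congr rfl hL, Finset.sum_congr rfl hR, Finset.sum_const, hoff, smul_eq_mul,
      ← hΓ] at hdc
    exact hdc
  -- pointwise identity
  set A := (n - 1) * (n - 2) with hA
  have hfix1 : (fixF 1).card = n := by
    rw [hfixF]
    simp [hn]
  have hfixle : ∀ g : G, g ≠ 1 → (fixF g).card ≤ 2 := by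
    intro g hg
    by_contra hlt
    push Not at hlt
    obtain ⟨x, hx, y, hy, z, hz, hxy, hxz, hyz⟩ := Finset.two_lt_card.1 hlt
    simp only [hfixF, Finset.mem_filter, Finset.mem_univ, true_and] at hx hy hz
    exact hg (zh.three g x y z hxy hyz hxz hx hy hz)
  have hpt : ∀ g : G, (fixF g).offDiag.card + 2 =
      2 * (fixF g).card + ((if g = 1 then A else 0) + (if (fixF g).card = 0 then 2 else 0)) := by
    intro g
    rw [Finset.offDiag_card]
    by_cases hg : g = 1
    · subst hg
      rw [hfix1, if_pos rfl, if_neg (by omega), hA]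
      obtain ⟨m, hm⟩ : ∃ m, n = m + 3 := ⟨n - 3, by omega⟩
      rw [hm]
      have e1 : (m + 3) * (m + 3) - (m + 3) = (m + 3) * (m + 2) := by
        have : (m + 3) * (m + 3) = (m + 3) * (m + 2) + (m + 3) := by ring
        omega
      have e2 : m + 3 - 1 = m + 2 := by omega
      have e3 : m + 3 - 2 = m + 1 := by omega
      rw [e1, e2, e3]
      ring
    · rw [if_neg hg]
      have := hfixle g hg
      interval_cases (fixF g).card <;> simp
  have hsum : ∑ g : G, ((fixF g).offDiag.card + 2) =
      ∑ g : G, (2 * (fixF g).card + ((if g = 1 then A else 0) +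
        (if (fixF g).card = 0 then 2 else 0))) := Finset.sum_congr rfl (fun g _ => hpt g)
  rw [Finset.sum_add_distrib, Finset.sum_add_distrib, Finset.sum_add_distrib, hS2,
    ← Finset.mul_sum, hS1, Finset.sum_const, Finset.card_univ, smul_eq_mul,
    Finset.sum_ite_eq' Finset.univ (1 : G) (fun _ => A), if_pos (Finset.mem_univ _),
    ← Finset.sum_filter, Finset.sum_const, smul_eq_mul] at hsum
  have hD : Nat.card {g : G // ∀ c : Ω, g • c ≠ c}
      = ((Finset.univ : Finset G).filter (fun g => (fixF g).card = 0)).card := by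
    rw [Nat.card_eq_fintype_card, Fintype.card_subtype]
    congr 1
    ext g
    simp only [Finset.mem_filter, Finset.mem_univ, true_and, Finset.card_eq_zero, hfixF,
      Finset.filter_eq_empty_iff]
    constructor
    · intro h x _; exact h x
    · intro h c; exact h (by trivial)
  rw [hD]
  rw [← Nat.card_eq_fintype_card] at hsum
  omega

end

/-- Let G be a finite simple Zassenhaus group on Ω with n points whose two-point stabilizer E has odd order less than n - 2. Then there are two elements of G, each fixing no point of Ω, that are not conjugate. -/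
theorem result {G Ω : Type*} [Group G] [Finite G] [MulAction G Ω] [Fintype Ω] (hZ : Cfsg.IsZassenhausGroup G Ω) {a b : Ω} (hab : a ≠ b) [IsSimpleGroup G] (hodd : Odd (Nat.card ↥(MulAction.stabilizer G a ⊓ MulAction.stabilizer G b : Subgroup G))) (hlt : Nat.card ↥(MulAction.stabilizer G a ⊓ MulAction.stabilizer G b : Subgroup G) < Fintype.card Ω - 2) : ∃ x y : G, (∀ c : Ω, x • c ≠ c) ∧ (∀ c : Ω, y • c ≠ c) ∧ ¬ IsConj x y := by
  classical
  have zh := zhyp_of_isZassenhausGroup hZ
  obtain ⟨hΓ, hcount⟩ := key zh hab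
  set n := Fintype.card Ω with hn
  set e := Nat.card ↥(stabilizer G a ⊓ stabilizer G b) with he
  set D := Nat.card {g : G // ∀ c : Ω, g • c ≠ c} with hD
  have hn3 : 3 ≤ n := by
    obtain ⟨c, hca, hcb⟩ := exists_third zh a b hab
    have : 2 < Fintype.card Ω := by
      rw [Fintype.two_lt_card_iff]
      exact ⟨a, b, c, hab, Ne.symm hca, Ne.symm hcb⟩
    omega
  have he2 : 2 ≤ e := by
    obtain ⟨h₀, h₀1, h₀a, h₀b⟩ := exists_fix zh a b hab
    have : 1 < e := by
      rw [he, Subgroup.one_lt_card_iff_ne_bot]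
      intro hbot
      have hmem : h₀ ∈ stabilizer G a ⊓ stabilizer G b := (memE h₀).2 ⟨h₀a, h₀b⟩
      rw [hbot, Subgroup.mem_bot] at hmem
      exact h₀1 hmem
    omega
  have h1 : (n * n - n) * e = (n - 1) * (n - 2) + 2 * D := by rw [← hΓ, hcount]
  by_contra hcon
  push Not at hcon
  -- D is positive
  have hDpos : 0 < D := by
    by_contra h0
    have h0' : D = 0 := by omega
    rw [h0', mul_zero, add_zero] at h1
    have e1 : n * n - n = n * (n - 1) := by
      have : n * n = n * (n - 1) + n := by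
        obtain ⟨m, hm⟩ : ∃ m, n = m + 1 := ⟨n - 1, by omega⟩
        rw [hm]; simp; ring
      omega
    rw [e1] at h1
    have h2 : n * (n - 1) * 2 ≤ n * (n - 1) * e := Nat.mul_le_mul_left _ he2
    have h3 : (n - 1) * (n - 2) < n * (n - 1) * 2 := by
      have hpos : 0 < n - 1 := by omega
      have : (n - 1) * (n - 2) < (n - 1) * (n * 2) := Nat.mul_lt_mul_of_pos_left (by omega) hpos
      calc (n - 1) * (n - 2) < (n - 1) * (n * 2) := this
        _ = n * (n - 1) * 2 := by ring
    omega
  have hDne : Nonempty {g : G // ∀ c : Ω, g • c ≠ c} := by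
    rw [hD] at hDpos
    exact (Nat.card_pos_iff.1 hDpos).1
  obtain ⟨⟨x₀, hx₀⟩⟩ := hDne
  -- the fixed-point-free elements form the conjugacy class of x₀
  have hset : {g : G | ∀ c : Ω, g • c ≠ c} = orbit (ConjAct G) x₀ := by
    ext g
    rw [ConjAct.mem_orbit_conjAct]
    constructor
    · intro hg
      exact hcon g x₀ hg hx₀
    · intro hg c hc
      rw [isConj_iff] at hg
      obtain ⟨y, hy⟩ := hg
      apply hx₀ (y • c)
      rw [← hy, mul_smul, mul_smul, inv_smul_smul, hc]
  have hdvd : D ∣ (n * n - n) * e := by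
    rw [← hΓ]
    have e1 : D = (orbit (ConjAct G) x₀).ncard := by
      rw [← hset, ← Nat.card_coe_set_eq]; rfl
    rw [e1, ← MulAction.index_stabilizer]
    have := Subgroup.index_dvd_card (stabilizer (ConjAct G) x₀)
    exact this
  exact arith n e D hn3 hodd he2 h1 hdvd

end Cfsg.Agent.S0880
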