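import Cfsg.Statements.S0881
import Cfsg.Agent.S0882
import Cfsg.Agent.S0880
import Cfsg.Agent.Lib.Helper75_IndChar
import Cfsg.Agent.Lib.Helper75_LinChar
import Cfsg.Agent.Lib.Helper39_IndTools
import Cfsg.Agent.Lib.Helper3_CharBridge

set_option autoImplicit false
open Cfsg

namespace Cfsg.Agent.S0881

open MulAction Cfsg.Agent.Lib.Helper6_Zassenhaus Cfsg.Agent.Lib.Helper75_LinChar
open Cfsg.Agent.Lib.Helper75_Induced
open scoped ComplexConjugate

section kernel

variable {G Ω : Type*} [Group G] [Finite G] [MulAction G Ω] [Fintype Ω]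

/-- The subgroup `H` of the hypotheses is the full Frobenius kernel of the stabiliser of `a`,
and it is transitive on the other points. -/
theorem kernel_facts (zh : ZHyp G Ω) {a b : Ω} (hab : a ≠ b) (H : Subgroup G)
    (hHa : H ≤ stabilizer G a) (hHcard : Nat.card H + 1 = Fintype.card Ω)
    (hHfix : ∀ u ∈ H, u ≠ 1 → ∀ c : Ω, u • c = c → c = a) :
    (∀ k : G, k • a = a → (∀ c : Ω, k • c = c → c = a) → k ∈ H) ∧
      (∀ c d : Ω, c ≠ a → d ≠ a → ∃ k ∈ H, k • c = d) := by
  classical
  have hb_ne : b ≠ a := Ne.symm hab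
  obtain ⟨K, hK, hKtr⟩ := exists_K zh a
  have memK : ∀ x, x ∈ K ↔ x • a = a ∧ (x = 1 ∨ ∀ c, c ≠ a → x • c ≠ c) := by
    intro x
    rw [← SetLike.mem_coe, hK]; rfl
  have hHK : H ≤ K := by
    intro g hg
    rw [memK]
    refine ⟨hHa hg, ?_⟩
    by_cases hg1 : g = 1
    · exact Or.inl hg1
    · exact Or.inr (fun c hca hc => hca (hHfix g hg hg1 c hc))
  have hKcard : Nat.card K ≤ Nat.card {c : Ω // c ≠ a} := by
    apply Nat.card_le_card_of_injective (fun k : K => (⟨(k : G) • b, fun h => hb_ne (by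
      have : (k : G) • b = (k : G) • a := by rw [h, ((memK _).1 k.2).1]
      exact smul_left_cancel (k : G) this)⟩ : {c : Ω // c ≠ a}))
    intro k₁ k₂ h12
    have h12' : (k₁ : G) • b = (k₂ : G) • b := congrArg Subtype.val h12
    have hmem : (k₁ : G)⁻¹ * k₂ ∈ K := K.mul_mem (K.inv_mem k₁.2) k₂.2
    rcases ((memK _).1 hmem).2 with h1 | h1
    · rw [inv_mul_eq_one] at h1
      exact Subtype.ext h1
    · exfalso
      exact h1 b hb_ne (by rw [mul_smul, ← h12', inv_smul_smul])
  have hcompl : Nat.card {c : Ω // c ≠ a} = Fintype.card Ω - 1 := by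
    rw [Nat.card_eq_fintype_card, Fintype.card_subtype_compl, Fintype.card_subtype_eq]
  have hHeqK : H = K := by
    apply Subgroup.eq_of_le_of_card_ge hHK
    omega
  constructor
  · intro k hka hk
    rw [hHeqK, memK]
    exact ⟨hka, Or.inr (fun c hca hc => hca (hk c hc))⟩
  · intro c d hc hd
    rw [hHeqK]
    exact hKtr c d hc hd

end kernel

/-- Let G be a finite simple Zassenhaus group on Ω with n points, a ≠ b points with two-point stabilizer E of odd order less than n - 2, and let H be the subgroup of the stabilizer of a consisting of the identity and the elements fixing no point other than a (given here as a subgroup of the stabilizer of order one less than the number of points whose non-identity elements fix only a; it is the Frobenius kernel of the stabilizer). Let μ be a character of degree 1 of the stabilizer of a that is identically 1 on H but not identically 1. Then the function induced from μ to G is an irreducible character of G, and it takes the value 1 at every non-identity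 element of H. -/
theorem result {G Ω : Type*} [Group G] [Fintype G] [MulAction G Ω] [Fintype Ω] (hZ : Cfsg.IsZassenhausGroup G Ω) {a b : Ω} (hab : a ≠ b) [IsSimpleGroup G] (hodd : Odd (Nat.card ↥(MulAction.stabilizer G a ⊓ MulAction.stabilizer G b : Subgroup G))) (hlt : Nat.card ↥(MulAction.stabilizer G a ⊓ MulAction.stabilizer G b : Subgroup G) < Fintype.card Ω - 2) (H : Subgroup G) (hHa : H ≤ MulAction.stabilizer G a) (hHcard : Nat.card H + 1 = Fintype.card Ω) (hHfix : ∀ u ∈ H, u ≠ 1 → ∀ c : Ω, u • c = c → c = a) (μ : MulAction.stabilizer G a → ℂ) (hμ : Cfsg.IsCharacter (MulAction.stabilizer G a) μ ∧ μ 1 = 1) (hμH : ∀ u : MulAction.stabilizer G a, (u : G) ∈ H → μ u = 1) (hμne : μ ≠ fun _ => 1) : Cfsg.IsIrrCharacter G (Cfsg.indFun (MulAction.stabilizer G a) μ) ∧ ∀ u ∈ H, u ≠ 1 → Cfsg.indFun (MulAction.stabilizer G a) μ u = 1 := by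
  classical
  have zh := zhyp_of_isZassenhausGroup hZ
  have hnil := Cfsg.Agent.S0882.hnil_of_simple zh hab hodd
  obtain ⟨_, _, hinv⟩ := Cfsg.Agent.S0739.main zh hab hodd hnil
  obtain ⟨hHmem, hHtr⟩ := kernel_facts zh hab H hHa hHcard hHfix
  have hb_ne : b ≠ a := Ne.symm hab
  have hlin : IsLin (stabilizer G a) μ := hμ
  have hcf : Cfsg.IsClassFunction (stabilizer G a) μ :=
    Cfsg.Agent.Lib.Helper3_CharBridge.isClassFunction_of_isCharacter hμ.1
  set θ : G → ℂ := Cfsg.indFun (stabilizer G a) μ with hθ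
  set n := Fintype.card Ω with hn
  set e := Nat.card ↥(stabilizer G a ⊓ stabilizer G b) with he
  -- value at non-identity elements of `H`
  have hvalH : ∀ u ∈ H, u ≠ 1 → θ u = 1 := by
    intro u hu hu1
    have hua : u • a = a := hHa hu
    rw [hθ, Cfsg.Agent.Lib.Helper39_IndTools.indFun_eq_sum_reps (stabilizer G a) hcf u {1}]
    · rw [Finset.sum_singleton]
      have : (1 : G)⁻¹ * u * 1 = u := by group
      rw [this, extendByZero_of_mem (stabilizer G a) μ (hHa hu)]
      exact hμH ⟨u, hHa hu⟩ hu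
    · intro x hx
      refine ⟨1, Finset.mem_singleton_self _, ?_⟩
      rw [inv_one, one_mul]
      have hx' : (x⁻¹ * u * x) • a = a := hx
      rw [mul_smul, mul_smul, inv_smul_eq_iff] at hx'
      exact hHfix u hu hu1 _ hx'
    · intro s hs t ht _
      rw [Finset.mem_singleton] at hs ht
      rw [hs, ht]
  refine ⟨?_, hvalH⟩
  have hFN : Fintype (stabilizer G a) := Fintype.ofFinite _
  -- cardinalities
  have hnpos : 0 < n := Fintype.card_pos_iff.2 ⟨a⟩
  have hidx : (stabilizer G a).index = n := by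
    rw [MulAction.index_stabilizer]
    have : orbit G a = Set.univ := by
      ext c
      simp only [Set.mem_univ, iff_true]
      by_cases hca : c = a
      · rw [hca]; exact mem_orbit_self a
      · obtain ⟨g, hg, _⟩ := zh.two hab (fun h : c = a => hca h)
        exact ⟨g, hg⟩
    rw [this, Set.ncard_univ, Nat.card_eq_fintype_card]
  have hcardG : Nat.card G = n * Nat.card (stabilizer G a) := by
    rw [← hidx, Subgroup.index_mul_card]
  have hcardN : Nat.card (stabilizer G a) = (n - 1) * e := by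
    have h1 := (Cfsg.Agent.S0880.key zh hab).1
    rw [hcardG] at h1
    have h2 : n * n - n = n * (n - 1) := by
      rw [Nat.mul_sub_one]
    rw [h2, mul_assoc] at h1
    exact Nat.eq_of_mul_eq_mul_left hnpos h1
  -- value at the identity
  have hval1 : θ 1 = n := by
    rw [hθ, indFun_one, hμ.2, mul_one, hcardG]
    have : (Nat.card (stabilizer G a) : ℂ) ≠ 0 := by
      rw [Nat.cast_ne_zero]; exact Nat.card_pos.ne'
    push_cast
    field_simp
  -- values off `H`
  have hvalN : ∀ g : stabilizer G a, (g : G) ∉ H → θ g = μ g + (μ g)⁻¹ := by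
    intro g hgH
    have hga : (g : G) • a = a := g.2
    have hex : ∃ c : Ω, c ≠ a ∧ (g : G) • c = c := by
      by_contra hcon
      push Not at hcon
      exact hgH (hHmem g hga (fun c hc => by_contra (fun hca => hcon c hca hc)))
    obtain ⟨c, hca, hgc⟩ := hex
    have hg1 : (g : G) ≠ 1 := fun h => hgH (h ▸ H.one_mem)
    obtain ⟨k, hka, hkb⟩ := zh.two hab (Ne.symm hca)
    obtain ⟨s, hsa, hsb⟩ := zh.two hab hb_ne
    have hkia : k⁻¹ • a = a := by rw [inv_smul_eq_iff, hka]
    have hkic : k⁻¹ • c = b := by rw [inv_smul_eq_iff, hkb]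
    obtain ⟨t, ht⟩ : ∃ t : G, t = k * s * k⁻¹ := ⟨_, rfl⟩
    have hta : t • a = c := by rw [ht, mul_smul, mul_smul, hkia, hsa, hkb]
    have htc : t • c = a := by rw [ht, mul_smul, mul_smul, hkic, hsb, hka]
    have hg' : k⁻¹ * g * k ∈ stabilizer G a ⊓ stabilizer G b := by
      rw [Cfsg.Agent.S0880.memE]
      constructor
      · rw [mul_smul, mul_smul, hka, hga, hkia]
      · rw [mul_smul, mul_smul, hkb, hgc, hkic]
    have hinv' := hinv s hsa hsb _ hg'
    have h1 : t * g * t⁻¹ = (g : G)⁻¹ := by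
      calc t * g * t⁻¹ = k * (s * (k⁻¹ * g * k) * s⁻¹) * k⁻¹ := by rw [ht]; group
        _ = k * (k⁻¹ * g * k)⁻¹ * k⁻¹ := by rw [hinv']
        _ = (g : G)⁻¹ := by group
    have h2 : (g : G) = t⁻¹ * (g : G)⁻¹ * t := by rw [← h1]; group
    have htg : t⁻¹ * g * t = (g : G)⁻¹ := by
      symm
      conv_lhs => rw [h2]
      group
    rw [hθ, Cfsg.Agent.Lib.Helper39_IndTools.indFun_eq_sum_reps (stabilizer G a) hcf (g : G) {1, t}]
    · have h1t : (1 : G) ≠ t := by
        intro h; rw [← h, one_smul] at hta; exact hca hta.symm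
      rw [Finset.sum_pair h1t]
      have e1 : (1 : G)⁻¹ * g * 1 = g := by group
      rw [e1, htg, extendByZero_coe,
        extendByZero_of_mem (stabilizer G a) μ ((stabilizer G a).inv_mem g.2)]
      congr 1
      exact hlin.map_inv g
    · intro x hx
      have hx' : (x⁻¹ * g * x) • a = a := hx
      rw [mul_smul, mul_smul, inv_smul_eq_iff] at hx'
      by_cases hxa : x • a = a
      · exact ⟨1, by simp, by rw [inv_one, one_mul]; exact hxa⟩
      · have hxc : x • a = c := by
          by_contra hne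
          exact hg1 (zh.three g a c (x • a) (Ne.symm hca) (Ne.symm hne) (Ne.symm hxa) hga hgc hx')
        refine ⟨t, by simp, ?_⟩
        show (t⁻¹ * x) • a = a
        rw [mul_smul, hxc, inv_smul_eq_iff, hta]
    · intro s' hs' t' ht' hst
      simp only [Finset.mem_insert, Finset.mem_singleton] at hs' ht'
      rcases hs' with hs' | hs' <;> rcases ht' with ht' | ht'
      · rw [hs', ht']
      · exfalso
        rw [hs', ht'] at hst
        have : ((1 : G)⁻¹ * t) • a = a := hst
        rw [inv_one, one_mul, hta] at this; exact hca this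
      · exfalso
        rw [hs', ht'] at hst
        have : (t⁻¹ * 1) • a = a := hst
        rw [mul_one, inv_smul_eq_iff, hta] at this; exact hca this.symm
      · rw [hs', ht']
  -- `μ ^ 2` is not trivial
  have hex : ∃ g₀ : stabilizer G a, (μ g₀) ^ 2 ≠ 1 := by
    obtain ⟨g₁, hg₁⟩ := Function.ne_iff.1 hμne
    refine ⟨g₁, fun hsq => hg₁ ?_⟩
    have hga : (g₁ : G) • a = a := g₁.2
    have hc : (g₁ : G) • b ≠ a := by
      intro h
      have : (g₁ : G) • b = (g₁ : G) • a := by rw [h, hga]
      exact hb_ne (smul_left_cancel _ this)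
    obtain ⟨k, hkH, hkb⟩ := hHtr b ((g₁ : G) • b) hb_ne hc
    have hka : k • a = a := hHa hkH
    have hg' : k⁻¹ * g₁ ∈ stabilizer G a ⊓ stabilizer G b := by
      rw [Cfsg.Agent.S0880.memE]
      constructor
      · rw [mul_smul, hga, inv_smul_eq_iff, hka]
      · rw [mul_smul, inv_smul_eq_iff, hkb]
    have hpow : (k⁻¹ * (g₁ : G)) ^ e = 1 := by
      have := pow_card_eq_one' (G := ↥(stabilizer G a ⊓ stabilizer G b)) (x := ⟨_, hg'⟩)
      have h2 := congrArg Subtype.val this
      rwa [SubgroupClass.coe_pow, OneMemClass.coe_one] at h2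
    have hsplit : g₁ = (⟨k, hHa hkH⟩ : stabilizer G a) * ⟨k⁻¹ * g₁, (Subgroup.mem_inf.1 hg').1⟩ := by
      apply Subtype.ext
      simp
    have hμg : μ g₁ = μ ⟨k⁻¹ * g₁, (Subgroup.mem_inf.1 hg').1⟩ := by
      conv_lhs => rw [hsplit]
      rw [hlin.map_mul, hμH ⟨k, hHa hkH⟩ hkH, one_mul]
    have hμe : (μ g₁) ^ e = 1 := by
      rw [hμg, ← hlin.map_pow]
      have : (⟨k⁻¹ * g₁, (Subgroup.mem_inf.1 hg').1⟩ : stabilizer G a) ^ e = 1 := by
        apply Subtype.ext
        rw [SubgroupClass.coe_pow, OneMemClass.coe_one]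
        exact hpow
      rw [this, hlin.2]
    obtain ⟨f, hf⟩ := hodd
    rw [hf, pow_succ, pow_mul, hsq, one_pow, one_mul] at hμe
    exact hμe
  have horth : ∑ g : stabilizer G a, (μ g) ^ 2 = 0 := by
    obtain ⟨g₀, hg₀⟩ := hex
    have h1 : ∑ g : stabilizer G a, (μ g) ^ 2 = (μ g₀) ^ 2 * ∑ g : stabilizer G a, (μ g) ^ 2 := by
      rw [Finset.mul_sum]
      symm
      apply Fintype.sum_equiv (Equiv.mulLeft g₀)
      intro g
      simp only [Equiv.coe_mulLeft]
      rw [hlin.map_mul]; ring
    have h2 : ((μ g₀) ^ 2 - 1) * ∑ g : stabilizer G a, (μ g) ^ 2 = 0 := by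
      linear_combination -h1
    rcases mul_eq_zero.1 h2 with h | h
    · exact absurd (sub_eq_zero.1 h) hg₀
    · exact h
  -- the norm
  apply Cfsg.Agent.Lib.Helper39_IndTools.isIrrCharacter_of_classInner_self
    (Cfsg.Agent.Lib.Helper75_IndChar.isCharacter_indFun (stabilizer G a) hμ.1)
  rw [frobenius_reciprocity (stabilizer G a) μ θ (isClassFunction_indFun (stabilizer G a) μ)]
  unfold Cfsg.classInner
  have hpt : ∀ g : stabilizer G a, μ g * conj (θ g) =
      1 + (μ g) ^ 2 + (if (g : G) ∈ H then (-1 : ℂ) else 0) + (if g = 1 then (n : ℂ) - 1 else 0) := by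
    intro g
    by_cases hg1 : g = 1
    · rw [hg1, if_pos rfl, OneMemClass.coe_one, if_pos H.one_mem, hval1, hμ.2]
      simp
    · rw [if_neg hg1]
      by_cases hgH : (g : G) ∈ H
      · rw [if_pos hgH, hvalH g hgH (fun h => hg1 (Subtype.ext h)), hμH g hgH]
        simp
      · rw [if_neg hgH, hvalN g hgH, map_add, map_inv₀, hlin.conj_eq_inv g, inv_inv]
        have := hlin.ne_zero g
        field_simp
        ring
  simp_rw [hpt]
  rw [Finset.sum_add_distrib, Finset.sum_add_distrib, Finset.sum_add_distrib, horth]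
  have hcountH : (Finset.univ.filter (fun g : stabilizer G a => (g : G) ∈ H)).card = Nat.card H := by
    rw [← Nat.card_congr (Subgroup.subgroupOfEquivOfLe hHa).toEquiv, Nat.card_eq_fintype_card,
      Fintype.card_subtype]
    congr 1
  have hs1 : ∑ _g : stabilizer G a, (1 : ℂ) = (Nat.card (stabilizer G a) : ℂ) := by
    rw [Finset.sum_const, Finset.card_univ, nsmul_eq_mul, mul_one, Nat.card_eq_fintype_card]
  have hs2 : ∑ g : stabilizer G a, (if (g : G) ∈ H then (-1 : ℂ) else 0) = -(Nat.card H : ℂ) := by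
    rw [← Finset.sum_filter, Finset.sum_const, hcountH, nsmul_eq_mul]
    ring
  have hs3 : ∑ g : stabilizer G a, (if g = 1 then (n : ℂ) - 1 else 0) = (n : ℂ) - 1 := by
    rw [Finset.sum_ite_eq' Finset.univ (1 : stabilizer G a)]
    simp
  rw [hs1, hs2, hs3]
  have hHn : (Nat.card H : ℂ) = (n : ℂ) - 1 := by
    rw [← hHcard]; push_cast; ring
  rw [hHn]
  have hN0 : (Nat.card (stabilizer G a) : ℂ) ≠ 0 := by
    rw [Nat.cast_ne_zero]; exact Nat.card_pos.ne'
  field_simp
  ring

end Cfsg.Agent.S0881
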