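import Cfsg.Statements.S0883
import Cfsg.Agent.S0882
import Cfsg.Agent.Lib.Helper1_Thompson

set_option autoImplicit false
open Cfsg

namespace Cfsg.Agent.S0883

open MulAction Cfsg.Agent.Lib.Helper6_Zassenhaus

/-- In a finite nilpotent group of even order there is an involution commuting with every
`2`-element. -/
theorem exists_central_invol {M : Type*} [Group M] [Finite M] [hnil : Group.IsNilpotent M]
    (h2 : 2 ∣ Nat.card M) :
    ∃ z : M, orderOf z = 2 ∧ ∀ w : M, (∃ m : ℕ, w ^ (2 ^ m) = 1) → z * w = w * z := by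
  have : Fact (Nat.Prime 2) := ⟨Nat.prime_two⟩
  have P : Sylow 2 M := default
  have hPn : (P : Subgroup M).Normal :=
    Sylow.normal_of_normalizerCondition Group.normalizerCondition_of_isNilpotent P
  have hPcard : 2 ∣ Nat.card P := P.dvd_card_of_dvd_card h2
  have hPnt : Nontrivial P := by
    rw [← Finite.one_lt_card_iff_nontrivial]
    have : 0 < Nat.card P := Nat.card_pos
    have := Nat.le_of_dvd this hPcard
    omega
  have hc : Nontrivial (Subgroup.center P) := IsPGroup.center_nontrivial P.2
  have hcp : IsPGroup 2 (Subgroup.center P) := IsPGroup.to_subgroup P.2 _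
  have hcd : 2 ∣ Nat.card (Subgroup.center P) := by
    rcases hcp.card_eq_or_dvd with h | h
    · exfalso
      have := Finite.one_lt_card_iff_nontrivial.2 hc
      omega
    · exact h
  obtain ⟨z, hz⟩ := exists_prime_orderOf_dvd_card' 2 hcd
  refine ⟨((z : P) : M), ?_, ?_⟩
  · rw [Subgroup.orderOf_coe, Subgroup.orderOf_coe]; exact hz
  · rintro w ⟨m, hm⟩
    -- `w` lies in `P`
    have hwP : w ∈ (P : Subgroup M) := by
      have hpg : IsPGroup 2 (Subgroup.zpowers w) := by
        intro g
        obtain ⟨k, hk⟩ := g.2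
        refine ⟨m, Subtype.ext ?_⟩
        rw [SubgroupClass.coe_pow, OneMemClass.coe_one, ← hk, ← zpow_natCast, ← zpow_mul,
          mul_comm, zpow_mul, zpow_natCast, hm, one_zpow]
      obtain ⟨Q, hQ⟩ := hpg.exists_le_sylow
      obtain ⟨g, hg⟩ := MulAction.exists_smul_eq M P Q
      rw [Sylow.smul_eq_of_normal] at hg
      rw [hg]
      exact hQ (Subgroup.mem_zpowers w)
    have hzc := Subgroup.mem_center_iff.1 z.2 ⟨w, hwP⟩
    have := congrArg (Subtype.val) hzc
    simp only [Subgroup.coe_mul] at this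
    exact this.symm

/-- Let G be a finite simple Zassenhaus group on Ω with h + 1 points whose two-point stabilizer E has odd order e with 2e < h - 1, and let H be the subgroup of the stabilizer of a consisting of the identity and the elements fixing no point other than a (given here as a subgroup of the stabilizer of order one less than the number of points whose non-identity elements fix only a; it is the Frobenius kernel of the stabilizer). If a non-identity element u of H is a product of two involutions of G, then u is an involution. -/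
theorem result {G Ω : Type*} [Group G] [Finite G] [MulAction G Ω] [Fintype Ω] (hZ : Cfsg.IsZassenhausGroup G Ω) {a b : Ω} (hab : a ≠ b) [IsSimpleGroup G] (h e : ℕ) (hh : Fintype.card Ω = h + 1) (he : Nat.card ↥(MulAction.stabilizer G a ⊓ MulAction.stabilizer G b : Subgroup G) = e) (hodd : Odd e) (hlt : 2 * e < h - 1) (H : Subgroup G) (hHa : H ≤ MulAction.stabilizer G a) (hHcard : Nat.card H + 1 = Fintype.card Ω) (hHfix : ∀ u ∈ H, u ≠ 1 → ∀ c : Ω, u • c = c → c = a) (u : G) (hu : u ∈ H) (hu1 : u ≠ 1) (x y : G) (hx : orderOf x = 2) (hy : orderOf y = 2) (hxy : x * y = u) : orderOf u = 2 := by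
  classical
  have zh := zhyp_of_isZassenhausGroup hZ
  have hoddE : Odd (Nat.card ↥(stabilizer G a ⊓ stabilizer G b)) := by rw [he]; exact hodd
  have hconj := (Cfsg.Agent.S0882.result hZ hab h e hh he hodd hlt).1
  have hxx : x * x = 1 := by rw [← pow_two, ← hx]; exact pow_orderOf_eq_one x
  have hyy : y * y = 1 := by rw [← pow_two, ← hy]; exact pow_orderOf_eq_one y
  have hxi : x⁻¹ = x := inv_eq_of_mul_eq_one_left hxx
  have hyi : y⁻¹ = y := inv_eq_of_mul_eq_one_left hyy
  have hua : u • a = a := hHa hu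
  -- `x` inverts `u`
  have hxu : x * u * x⁻¹ = u⁻¹ := by
    rw [← hxy, mul_inv_rev, hxi, hyi, ← mul_assoc, hxx, one_mul]
  have hui1 : u⁻¹ ≠ 1 := fun h => hu1 (inv_eq_one.1 h)
  have hxa : x • a = a := by
    apply hHfix u⁻¹ (H.inv_mem hu) hui1
    rw [← hxu, mul_smul, mul_smul, inv_smul_smul, hua]
  have hya : y • a = a := by
    have : y = x * u := by rw [← hxy, ← mul_assoc, hxx, one_mul]
    rw [this, mul_smul, hua, hxa]
  -- involutions fixing `a` fix nothing else
  have hinvfix : ∀ t : G, orderOf t = 2 → t • a = a → ∀ c : Ω, t • c = c → c = a := by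
    intro t ht hta c hc
    exact Cfsg.Agent.S0882.fix_unique zh hab hoddE ht hc hta
  -- membership in `H` : `H` is the full kernel
  have hb_ne : b ≠ a := Ne.symm hab
  obtain ⟨K, hK, _⟩ := exists_K zh a
  have memK : ∀ x, x ∈ K ↔ x • a = a ∧ (x = 1 ∨ ∀ c, c ≠ a → x • c ≠ c) := by
    intro x
    rw [← SetLike.mem_coe, hK]; rfl
  have hHK : H ≤ K := by
    intro g hg
    rw [memK]
    refine ⟨hHa hg, ?_⟩
    by_cases hg1 : g = 1
    · exact Or.inl hg1
    · exact Or.inr (fun c hca hc => hca (hHfix g hg hg1 c hc))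
  have hKcard : Nat.card K ≤ Nat.card {c : Ω // c ≠ a} := by
    apply Nat.card_le_card_of_injective (fun k : K => (⟨(k : G) • b, fun h => hb_ne (by
      have : (k : G) • b = (k : G) • a := by rw [h, ((memK _).1 k.2).1]
      exact smul_left_cancel (k : G) this)⟩ : {c : Ω // c ≠ a}))
    intro k₁ k₂ h12
    have h12' : (k₁ : G) • b = (k₂ : G) • b := congrArg Subtype.val h12
    have hmem : (k₁ : G)⁻¹ * k₂ ∈ K := K.mul_mem (K.inv_mem k₁.2) k₂.2
    rcases ((memK _).1 hmem).2 with h1 | h1
    · rw [inv_mul_eq_one] at h1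
      exact Subtype.ext h1
    · exfalso
      exact h1 b hb_ne (by rw [mul_smul, ← h12', inv_smul_smul])
  have hcompl : Nat.card {c : Ω // c ≠ a} = Fintype.card Ω - 1 := by
    rw [Nat.card_eq_fintype_card, Fintype.card_subtype_compl, Fintype.card_subtype_eq]
  have hHeqK : H = K := by
    apply Subgroup.eq_of_le_of_card_ge hHK
    omega
  have hHmem : ∀ k : G, k • a = a → (∀ c : Ω, k • c = c → c = a) → k ∈ H := by
    intro k hka hk
    rw [hHeqK, memK]
    exact ⟨hka, Or.inr (fun c hca hc => hca (hk c hc))⟩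
  have hxH : x ∈ H := hHmem x hxa (hinvfix x hx hxa)
  have hyH : y ∈ H := hHmem y hya (hinvfix y hy hya)
  -- `H` is normalised by the stabiliser of `a`
  have hnorm : ∀ g : G, g • a = a → ∀ k ∈ H, g * k * g⁻¹ ∈ H := by
    intro g hga k hk
    have hgia : g⁻¹ • a = a := by rw [inv_smul_eq_iff, hga]
    by_cases hk1 : k = 1
    · rw [hk1, mul_one, mul_inv_cancel]; exact H.one_mem
    apply hHmem
    · rw [mul_smul, mul_smul, hgia, hHa hk, hga]
    · intro c hc
      have : g⁻¹ • c = a := by
        apply hHfix k hk hk1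
        rw [mul_smul, mul_smul] at hc
        rw [smul_eq_iff_eq_inv_smul] at hc
        exact hc
      rw [inv_smul_eq_iff, hga] at this
      exact this
  -- an element `g₀` of prime order fixing `a` and `b`
  obtain ⟨h₀, h₀1, h₀a, h₀b⟩ := exists_fix zh a b hab
  have ho1 : orderOf h₀ ≠ 1 := fun h => h₀1 (orderOf_eq_one_iff.1 h)
  set r := (orderOf h₀).minFac with hr_def
  have hr : r.Prime := Nat.minFac_prime ho1
  obtain ⟨m, hm⟩ : r ∣ orderOf h₀ := Nat.minFac_dvd _
  set g₀ := h₀ ^ m with hg₀
  have hg₀r : g₀ ^ r = 1 := by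
    rw [hg₀, ← pow_mul, mul_comm, ← hm]; exact pow_orderOf_eq_one h₀
  have hg₀1 : g₀ ≠ 1 := by
    intro h
    have hdvd : orderOf h₀ ∣ m := orderOf_dvd_of_pow_eq_one h
    have hpos : 0 < orderOf h₀ := orderOf_pos h₀
    have hmpos : 0 < m := by
      rcases Nat.eq_zero_or_pos m with h0 | h0
      · rw [h0, mul_zero] at hm; omega
      · exact h0
    have := Nat.le_of_dvd hmpos hdvd
    have h2 := hr.two_le
    nlinarith
  have hg₀a : g₀ • a = a := by
    have : h₀ ∈ stabilizer G a := h₀a
    exact (stabilizer G a).pow_mem this m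
  have hg₀b : g₀ • b = b := by
    have : h₀ ∈ stabilizer G b := h₀b
    exact (stabilizer G b).pow_mem this m
  have hg₀ia : g₀⁻¹ • a = a := by rw [inv_smul_eq_iff, hg₀a]
  -- the automorphism of `H` induced by `g₀`
  let φ : H ≃* H :=
    { toFun := fun k => ⟨g₀ * k * g₀⁻¹, hnorm g₀ hg₀a k k.2⟩
      invFun := fun k => ⟨g₀⁻¹ * k * g₀, by
        have := hnorm g₀⁻¹ hg₀ia k k.2; rwa [inv_inv] at this⟩
      left_inv := fun k => Subtype.ext (by simp only []; group)
      right_inv := fun k => Subtype.ext (by simp only []; group)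
      map_mul' := fun k₁ k₂ => Subtype.ext (by simp only [Subgroup.coe_mul]; group) }
  have hφ : ∀ k : H, ((φ k : H) : G) = g₀ * k * g₀⁻¹ := fun k => rfl
  have hfpf : Cfsg.Agent.Lib.Helper1_FPFAut.FPF r φ := by
    constructor
    · intro k hk
      by_contra hk1
      have hkG : (k : G) ≠ 1 := fun h => hk1 (Subtype.ext h)
      have h1 : g₀ * k * g₀⁻¹ = k := by rw [← hφ, hk]
      have h2 : g₀ * k = k * g₀ := by
        calc g₀ * (k : G) = (g₀ * k * g₀⁻¹) * g₀ := by group
          _ = k * g₀ := by rw [h1]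
      have hkb : (k : G) • b ≠ b := fun h => hb_ne (hHfix k k.2 hkG b h)
      have hka : (k : G) • a = a := hHa k.2
      have hkba : (k : G) • b ≠ a := by
        intro h
        have : (k : G) • b = (k : G) • a := by rw [h, hka]
        exact hb_ne (smul_left_cancel (k : G) this)
      apply hg₀1
      apply zh.three g₀ a b ((k : G) • b) hab (Ne.symm hkb) (Ne.symm hkba) hg₀a hg₀b
      rw [← mul_smul, h2, mul_smul, hg₀b]
    · intro k
      have hiter : ∀ j : ℕ, (((φ^[j]) k : H) : G) = g₀ ^ j * k * (g₀ ^ j)⁻¹ := by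
        intro j
        induction j with
        | zero => simp
        | succ j ih =>
          rw [Function.iterate_succ_apply', hφ, ih, pow_succ']
          group
      apply Subtype.ext
      rw [hiter, hg₀r]; simp
  have hnilH : Group.IsNilpotent H := Cfsg.Agent.Lib.Helper1_Thompson.thompson hr φ hfpf
  have h2H : 2 ∣ Nat.card H := by
    have := orderOf_dvd_natCard (⟨x, hxH⟩ : H)
    rwa [Subgroup.orderOf_mk, hx] at this
  obtain ⟨z, hz2, hzc⟩ := exists_central_invol (M := H) h2H
  have hzG : orderOf (z : G) = 2 := by rw [Subgroup.orderOf_coe]; exact hz2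
  have hz1 : (z : G) ≠ 1 := by
    intro h; rw [h, orderOf_one] at hzG; omega
  obtain ⟨g, hg⟩ := isConj_iff.1 (hconj (z : G) x hzG hx)
  have hga : g • a = a := by
    apply hinvfix x hx hxa
    rw [← hg, mul_smul, mul_smul, inv_smul_smul, hHa z.2]
  have hgia : g⁻¹ • a = a := by rw [inv_smul_eq_iff, hga]
  have hy' : g⁻¹ * y * g ∈ H := by
    have := hnorm g⁻¹ hgia y hyH; rwa [inv_inv] at this
  have hcomm : (z : G) * (g⁻¹ * y * g) = (g⁻¹ * y * g) * z := by
    have h1 := hzc ⟨g⁻¹ * y * g, hy'⟩ ⟨1, by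
      apply Subtype.ext
      rw [SubgroupClass.coe_pow, OneMemClass.coe_one, pow_one, pow_two]
      calc g⁻¹ * y * g * (g⁻¹ * y * g) = g⁻¹ * (y * y) * g := by group
        _ = 1 := by rw [hyy]; group⟩
    have := congrArg Subtype.val h1
    simpa only [Subgroup.coe_mul] using this
  have hxycomm : x * y = y * x := by
    rw [← hg]
    calc g * z * g⁻¹ * y = g * ((z : G) * (g⁻¹ * y * g)) * g⁻¹ := by group
      _ = g * ((g⁻¹ * y * g) * z) * g⁻¹ := by rw [hcomm]
      _ = y * (g * z * g⁻¹) := by group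
  have huu : u ^ 2 = 1 := by
    rw [pow_two, ← hxy]
    calc x * y * (x * y) = x * (y * x) * y := by group
      _ = x * (x * y) * y := by rw [hxycomm]
      _ = (x * x) * (y * y) := by group
      _ = 1 := by rw [hxx, hyy, one_mul]
  exact orderOf_eq_prime huu hu1

end Cfsg.Agent.S0883
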