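import Cfsg.Statements.S0884
import Cfsg.Agent.S0883
import Cfsg.Agent.S0881
import Cfsg.Agent.S0880

set_option autoImplicit false
open Cfsg

namespace Cfsg.Agent.S0884

open MulAction Cfsg.Agent.Lib.Helper6_Zassenhaus

section general

variable {G : Type*} [Group G] [Fintype G] [DecidableEq G]

/-- the involutions of `G` -/
noncomputable def Inv (G : Type*) [Group G] [Fintype G] : Finset G :=
  Finset.univ.filter (fun x : G => orderOf x = 2)

omit [DecidableEq G] in
theorem mem_Inv {x : G} : x ∈ Inv G ↔ orderOf x = 2 := by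
  simp [Inv]

omit [Fintype G] [DecidableEq G] in
theorem inv_sq {t : G} (ht : orderOf t = 2) : t * t = 1 := by
  rw [← pow_two, ← ht]; exact pow_orderOf_eq_one t

omit [Fintype G] [DecidableEq G] in
theorem inv_inv' {t : G} (ht : orderOf t = 2) : t⁻¹ = t :=
  inv_eq_of_mul_eq_one_left (inv_sq ht)

/-- ordered pairs of distinct involutions with product `x` -/
noncomputable def pairsTo (x : G) : Finset (G × G) :=
  (Inv G).offDiag.filter (fun p => p.1 * p.2 = x)

theorem mem_pairsTo {x : G} {p : G × G} :
    p ∈ pairsTo x ↔ orderOf p.1 = 2 ∧ orderOf p.2 = 2 ∧ p.1 ≠ p.2 ∧ p.1 * p.2 = x := by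
  simp [pairsTo, Finset.mem_offDiag, mem_Inv, and_assoc]

theorem sum_card_pairsTo :
    ∑ x : G, (pairsTo x).card = (Inv G).card * (Inv G).card - (Inv G).card := by
  rw [← Finset.offDiag_card]
  symm
  exact Finset.card_eq_sum_card_fiberwise (f := fun p : G × G => p.1 * p.2)
    (s := (Inv G).offDiag) (t := Finset.univ) (fun _ _ => Finset.mem_univ _)

theorem card_pairsTo_conj (x g : G) : (pairsTo (g * x * g⁻¹)).card = (pairsTo x).card := by
  symm
  apply Finset.card_bij (fun p _ => (g * p.1 * g⁻¹, g * p.2 * g⁻¹))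
  · intro p hp
    rw [mem_pairsTo] at hp ⊢
    obtain ⟨h1, h2, h3, h4⟩ := hp
    refine ⟨?_, ?_, ?_, ?_⟩
    · have e : g * p.1 * g⁻¹ = MulAut.conj g p.1 := by simp
      rw [e, MulEquiv.orderOf_eq]; exact h1
    · have e : g * p.2 * g⁻¹ = MulAut.conj g p.2 := by simp
      rw [e, MulEquiv.orderOf_eq]; exact h2
    · intro h
      apply h3
      exact mul_left_cancel (mul_right_cancel h)
    · rw [← h4]; group
  · intro p _ q _ hpq
    simp only [Prod.mk.injEq] at hpq
    have h1 := mul_left_cancel (mul_right_cancel hpq.1)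
    have h2 := mul_left_cancel (mul_right_cancel hpq.2)
    exact Prod.ext h1 h2
  · intro q hq
    rw [mem_pairsTo] at hq
    obtain ⟨h1, h2, h3, h4⟩ := hq
    refine ⟨(g⁻¹ * q.1 * g, g⁻¹ * q.2 * g), ?_, ?_⟩
    · rw [mem_pairsTo]
      refine ⟨?_, ?_, ?_, ?_⟩
      · have e : g⁻¹ * q.1 * g = MulAut.conj g⁻¹ q.1 := by simp
        rw [e, MulEquiv.orderOf_eq]; exact h1
      · have e : g⁻¹ * q.2 * g = MulAut.conj g⁻¹ q.2 := by simp
        rw [e, MulEquiv.orderOf_eq]; exact h2
      · intro h
        apply h3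
        exact mul_left_cancel (mul_right_cancel h)
      · have : g⁻¹ * q.1 * g * (g⁻¹ * q.2 * g) = g⁻¹ * (q.1 * q.2) * g := by group
        rw [this, h4]; group
    · apply Prod.ext
      · simp only []; group
      · simp only []; group

omit [Fintype G] [DecidableEq G] in
/-- an involution `t` with `t * t' = x`, `t'` an involution, inverts `x` -/
theorem inverts_of_prod {t t' x : G} (ht : orderOf t = 2) (ht' : orderOf t' = 2) (h : t * t' = x) :
    t * x = x⁻¹ * t := by
  rw [← h, mul_inv_rev, inv_inv' ht, inv_inv' ht', ← mul_assoc, inv_sq ht, one_mul, mul_assoc,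
    inv_sq ht, mul_one]

theorem card_pairsTo_le (x : G) :
    (pairsTo x).card ≤ (Finset.univ.filter (fun g : G => g * x = x * g)).card := by
  rcases (pairsTo x).eq_empty_or_nonempty with h0 | ⟨p₀, hp₀⟩
  · rw [h0]; simp
  rw [mem_pairsTo] at hp₀
  obtain ⟨h1, h2, _, h4⟩ := hp₀
  have hinv₀ := inverts_of_prod h1 h2 h4
  apply Finset.card_le_card_of_injOn (fun p => p₀.1 * p.1)
  · intro p hp
    rw [Finset.mem_coe, mem_pairsTo] at hp
    obtain ⟨k1, k2, _, k4⟩ := hp
    have hinv := inverts_of_prod k1 k2 k4
    rw [Finset.mem_coe, Finset.mem_filter]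
    refine ⟨Finset.mem_univ _, ?_⟩
    have h5 : p₀.1 * x⁻¹ = x * p₀.1 := by
      have : p₀.1 * x⁻¹ = x * (x⁻¹ * p₀.1) * x⁻¹ := by group
      rw [this, ← hinv₀]; group
    rw [mul_assoc, hinv, ← mul_assoc, h5, mul_assoc]
  · intro p hp q hq hpq
    rw [Finset.mem_coe, mem_pairsTo] at hp hq
    have e1 : p.1 = q.1 := mul_left_cancel hpq
    have e2 : p.2 = q.2 := by
      have := hp.2.2.2.trans hq.2.2.2.symm
      rw [e1] at this
      exact mul_left_cancel this
    exact Prod.ext e1 e2

/-- orbit-stabiliser for conjugation, in elementary form -/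
theorem card_class_mul_card_centralizer (x₀ : G) :
    (Finset.univ.filter (fun x : G => ConjClasses.mk x = ConjClasses.mk x₀)).card *
      (Finset.univ.filter (fun g : G => g * x₀ = x₀ * g)).card = Fintype.card G := by
  rw [← Finset.card_univ (α := G)]
  rw [Finset.card_eq_sum_card_fiberwise (f := fun g : G => g * x₀ * g⁻¹) (s := Finset.univ)
    (t := Finset.univ.filter (fun x : G => ConjClasses.mk x = ConjClasses.mk x₀))]
  · rw [Finset.sum_const_nat, ]
    intro x hx
    simp only [Finset.mem_filter, Finset.mem_univ, true_and] at hx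
    rw [ConjClasses.mk_eq_mk_iff_isConj, isConj_comm, isConj_iff] at hx
    obtain ⟨g₁, hg₁⟩ := hx
    symm
    apply Finset.card_bij (fun c _ => g₁ * c)
    · intro c hc
      simp only [Finset.mem_filter, Finset.mem_univ, true_and] at hc ⊢
      rw [← hg₁]
      calc g₁ * c * x₀ * (g₁ * c)⁻¹ = g₁ * (c * x₀) * c⁻¹ * g₁⁻¹ := by group
        _ = g₁ * (x₀ * c) * c⁻¹ * g₁⁻¹ := by rw [hc]
        _ = g₁ * x₀ * g₁⁻¹ := by group
    · intro c _ d _ h
      exact mul_left_cancel h
    · intro g hg
      simp only [Finset.mem_filter, Finset.mem_univ, true_and] at hg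
      refine ⟨g₁⁻¹ * g, ?_, by group⟩
      simp only [Finset.mem_filter, Finset.mem_univ, true_and]
      have : g * x₀ * g⁻¹ = g₁ * x₀ * g₁⁻¹ := hg.trans hg₁.symm
      calc g₁⁻¹ * g * x₀ = g₁⁻¹ * (g * x₀ * g⁻¹) * g := by group
        _ = g₁⁻¹ * (g₁ * x₀ * g₁⁻¹) * g := by rw [this]
        _ = x₀ * (g₁⁻¹ * g) := by group
  · intro g _
    rw [Finset.mem_coe, Finset.mem_filter]
    refine ⟨Finset.mem_univ _, ?_⟩
    rw [ConjClasses.mk_eq_mk_iff_isConj, isConj_comm, isConj_iff]
    exact ⟨g, rfl⟩

/-- a class-invariant function bounded by the centralizer orders sums, over a union of classes,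
to at most (number of classes) * |G| -/
theorem sum_le_classes_mul_card (Q : ConjClasses G → Prop) [DecidablePred Q] (f : G → ℕ)
    (hconj : ∀ x g : G, f (g * x * g⁻¹) = f x)
    (hf : ∀ x : G, f x ≤ (Finset.univ.filter (fun g : G => g * x = x * g)).card) :
    ∑ x ∈ Finset.univ.filter (fun x : G => Q (ConjClasses.mk x)), f x ≤
      Nat.card {C : ConjClasses G // Q C} * Fintype.card G := by
  classical
  rw [← Finset.sum_fiberwise_of_maps_to (s := Finset.univ.filter (fun x : G => Q (ConjClasses.mk x)))
    (t := Finset.univ.filter (fun C : ConjClasses G => Q C)) (g := ConjClasses.mk)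
    (fun x hx => by simpa using hx)]
  have hcard : Nat.card {C : ConjClasses G // Q C} =
      (Finset.univ.filter (fun C : ConjClasses G => Q C)).card := by
    rw [Nat.card_eq_fintype_card, Fintype.card_subtype]
  rw [hcard, ← smul_eq_mul, ← Finset.sum_const]
  apply Finset.sum_le_sum
  intro C hC
  simp only [Finset.mem_filter, Finset.mem_univ, true_and] at hC
  obtain ⟨x₀, rfl⟩ := ConjClasses.mk_surjective C
  have e1 : (Finset.univ.filter (fun x : G => Q (ConjClasses.mk x))).filter
      (fun x => ConjClasses.mk x = ConjClasses.mk x₀) =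
      Finset.univ.filter (fun x : G => ConjClasses.mk x = ConjClasses.mk x₀) := by
    ext x
    simp only [Finset.mem_filter, Finset.mem_univ, true_and, and_iff_right_iff_imp]
    intro h; rw [h]; exact hC
  rw [e1]
  have e2 : ∀ x ∈ Finset.univ.filter (fun x : G => ConjClasses.mk x = ConjClasses.mk x₀),
      f x = f x₀ := by
    intro x hx
    simp only [Finset.mem_filter, Finset.mem_univ, true_and] at hx
    rw [ConjClasses.mk_eq_mk_iff_isConj, isConj_comm, isConj_iff] at hx
    obtain ⟨g, hg⟩ := hx
    rw [← hg, hconj]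
  rw [Finset.sum_congr rfl e2, Finset.sum_const, smul_eq_mul, ← card_class_mul_card_centralizer x₀]
  exact Nat.mul_le_mul_left _ (hf x₀)

end general

section zass

variable {G Ω : Type*} [Group G] [Fintype G] [DecidableEq G] [MulAction G Ω] [Fintype Ω]
  [DecidableEq Ω]

/-- involutions fixing the point `c` -/
noncomputable def J (G : Type*) {Ω : Type*} [Group G] [Fintype G] [MulAction G Ω] [DecidableEq Ω]
    (c : Ω) : Finset G :=
  (Inv G).filter (fun t => t • c = c)

omit [DecidableEq G] [Fintype Ω] in
theorem mem_J {c : Ω} {t : G} : t ∈ J G c ↔ orderOf t = 2 ∧ t • c = c := by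
  simp [J, mem_Inv]

omit [Fintype Ω] [DecidableEq G] in
theorem card_J_conj (g : G) (c : Ω) : (J G (g • c)).card = (J G c).card := by
  symm
  apply Finset.card_bij (fun t _ => g * t * g⁻¹)
  · intro t ht
    rw [mem_J] at ht ⊢
    refine ⟨?_, ?_⟩
    · have e : g * t * g⁻¹ = MulAut.conj g t := by simp
      rw [e, MulEquiv.orderOf_eq]; exact ht.1
    · rw [mul_smul, mul_smul, inv_smul_smul, ht.2]
  · intro t _ t' _ h
    exact mul_left_cancel (mul_right_cancel h)
  · intro t ht
    rw [mem_J] at ht
    refine ⟨g⁻¹ * t * g, ?_, by group⟩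
    rw [mem_J]
    refine ⟨?_, ?_⟩
    · have e : g⁻¹ * t * g = MulAut.conj g⁻¹ t := by simp
      rw [e, MulEquiv.orderOf_eq]; exact ht.1
    · rw [mul_smul, mul_smul, ht.2, inv_smul_smul]

omit [DecidableEq G] in
/-- if involutions fix at most one point, the point stabilisers contain at most `I / n` of them -/
theorem card_J_mul_le (htrans : ∀ c d : Ω, ∃ g : G, g • c = d)
    (huniq : ∀ t : G, orderOf t = 2 → ∀ c d : Ω, t • c = c → t • d = d → c = d) (a : Ω) :
    Fintype.card Ω * (J G a).card ≤ (Inv G).card := by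
  classical
  have h1 : ∑ c : Ω, (J G c).card = Fintype.card Ω * (J G a).card := by
    rw [← Finset.card_univ, ← smul_eq_mul, ← Finset.sum_const]
    apply Finset.sum_congr rfl
    intro c _
    obtain ⟨g, hg⟩ := htrans a c
    rw [← hg, card_J_conj]
  rw [← h1]
  have h2 : ∀ c : Ω, (J G c).card = ∑ t ∈ Inv G, if t • c = c then 1 else 0 := by
    intro c
    rw [J, Finset.card_filter]
  simp_rw [h2]
  rw [Finset.sum_comm]
  calc ∑ t ∈ Inv G, ∑ c : Ω, (if t • c = c then 1 else 0) ≤ ∑ t ∈ Inv G, 1 := by
        apply Finset.sum_le_sum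
        intro t ht
        rw [mem_Inv] at ht
        rw [← Finset.card_filter, Finset.card_le_one]
        intro c hc d hd
        simp only [Finset.mem_filter, Finset.mem_univ, true_and] at hc hd
        exact huniq t ht c d hc hd
    _ = (Inv G).card := by simp

end zass

theorem arith_even (c e h I A B : ℕ) (he1 : 1 ≤ e) (hh : 1 ≤ h) (hI : I = e * (h + 1))
    (hsplit : A + B = I * I - I) (hB : B ≤ I * (e - 1)) (hA : A ≤ c * ((h + 1) * h * e)) :
    e ≤ c := by
  obtain ⟨k, rfl⟩ : ∃ k, e = k + 1 := ⟨e - 1, by omega⟩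
  have h1 : I * I = I * (k * (h + 1) + h) + I := by rw [hI]; ring
  have h2 : I * I - I = I * (k * (h + 1) + h) := by omega
  rw [h2] at hsplit
  simp only [Nat.add_sub_cancel] at hB
  have h3 : I * (k * (h + 1) + h) = I * k + (k + 1) * ((h + 1) * h * (k + 1)) := by rw [hI]; ring
  have h4 : (k + 1) * ((h + 1) * h * (k + 1)) ≤ c * ((h + 1) * h * (k + 1)) := by omega
  have hpos : 0 < (h + 1) * h * (k + 1) := by positivity
  exact Nat.le_of_mul_le_mul_right h4 hpos

theorem arith_odd (c e h I A : ℕ) (he1 : 1 ≤ e) (hlt : 2 * e < h - 1) (hI : I = e * h)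
    (hA : A ≤ c * ((h + 1) * h * e)) (hA' : I * I - I ≤ A) : e ≤ c := by
  by_contra hcon
  push Not at hcon
  obtain ⟨k, rfl⟩ : ∃ k, e = k + 1 := ⟨e - 1, by omega⟩
  have hck : c ≤ k := by omega
  have h1 : I * I = (k + 1) * h * (k * h + (h - 1)) + I := by
    rw [hI]
    obtain ⟨m, rfl⟩ : ∃ m, h = m + 1 := ⟨h - 1, by omega⟩
    simp only [Nat.add_sub_cancel]
    ring
  have h2 : I * I - I = (k + 1) * h * (k * h + (h - 1)) := by omega
  rw [h2] at hA'
  have h3 : c * ((h + 1) * h * (k + 1)) ≤ k * ((h + 1) * h * (k + 1)) := Nat.mul_le_mul_right _ hck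
  have h4 : (k + 1) * h * (k * h + (h - 1)) ≤ (k + 1) * h * (k * (h + 1)) := by
    calc (k + 1) * h * (k * h + (h - 1)) ≤ k * ((h + 1) * h * (k + 1)) := by omega
      _ = (k + 1) * h * (k * (h + 1)) := by ring
  have hpos : 0 < (k + 1) * h := by
    have : 0 < h := by omega
    positivity
  have h5 := Nat.le_of_mul_le_mul_left h4 hpos
  have h6 : k * (h + 1) = k * h + k := by ring
  omega

/-- Let G be a finite simple Zassenhaus group on Ω with h + 1 points whose two-point stabilizer E has odd order e with 2e < h - 1, and let H be the subgroup of the stabilizer of a consisting of the identity and the elements fixing no point other than a (given here as a subgroup of the stabilizer of order one less than the number of points whose non-identity elements fix only a; it is the Frobenius kernel of the stabilizer). Then at least e conjugacy classes of G contain no element of H. -/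
theorem result {G Ω : Type*} [Group G] [Finite G] [MulAction G Ω] [Fintype Ω] (hZ : Cfsg.IsZassenhausGroup G Ω) {a b : Ω} (hab : a ≠ b) [IsSimpleGroup G] (h e : ℕ) (hh : Fintype.card Ω = h + 1) (he : Nat.card ↥(MulAction.stabilizer G a ⊓ MulAction.stabilizer G b : Subgroup G) = e) (hodd : Odd e) (hlt : 2 * e < h - 1) (H : Subgroup G) (hHa : H ≤ MulAction.stabilizer G a) (hHcard : Nat.card H + 1 = Fintype.card Ω) (hHfix : ∀ u ∈ H, u ≠ 1 → ∀ c : Ω, u • c = c → c = a) : e ≤ Nat.card {C : ConjClasses G // ∀ g : G, ConjClasses.mk g = C → g ∉ H} := by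
  classical
  have _ : Fintype G := Fintype.ofFinite G
  have zh := zhyp_of_isZassenhausGroup hZ
  have hoddE : Odd (Nat.card ↥(stabilizer G a ⊓ stabilizer G b)) := by rw [he]; exact hodd
  have hcount := (Cfsg.Agent.S0882.result hZ hab h e hh he hodd hlt).2
  have hI : (Inv G).card = if Even h then e * (h + 1) else e * h := by
    rw [← hcount, Nat.card_eq_fintype_card, Fintype.card_subtype]; rfl
  have hG : Fintype.card G = (h + 1) * h * e := by
    have := (Cfsg.Agent.S0880.key zh hab).1
    rw [he, hh, Nat.card_eq_fintype_card] at this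
    rw [this]
    have : (h + 1) * (h + 1) - (h + 1) = (h + 1) * h := by
      have : (h + 1) * (h + 1) = (h + 1) * h + (h + 1) := by ring
      omega
    rw [this]
  have hHh : Nat.card H = h := by omega
  have he1 : 1 ≤ e := by
    obtain ⟨k, hk⟩ := hodd; omega
  have hh1 : 1 ≤ h := by omega
  -- transitivity and uniqueness of fixed points of involutions
  have htrans : ∀ c d : Ω, ∃ g : G, g • c = d := by
    intro c d
    by_cases hcd : c = d
    · exact ⟨1, by rw [one_smul, hcd]⟩
    · obtain ⟨g, hg, _⟩ := zh.two hcd (Ne.symm hcd)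
      exact ⟨g, hg⟩
  have huniq : ∀ t : G, orderOf t = 2 → ∀ c d : Ω, t • c = c → t • d = d → c = d :=
    fun t ht c d hc hd => Cfsg.Agent.S0882.fix_unique zh hab hoddE ht hc hd
  have hJ := card_J_mul_le htrans huniq a
  set Q : ConjClasses G → Prop := fun C => ∀ g : G, ConjClasses.mk g = C → g ∉ H with hQ
  have hmain := sum_le_classes_mul_card Q (fun x => (pairsTo x).card) card_pairsTo_conj
    card_pairsTo_le
  have hsplit := Finset.sum_filter_add_sum_filter_not Finset.univ
    (fun x : G => Q (ConjClasses.mk x)) (fun x => (pairsTo x).card)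
  rw [sum_card_pairsTo] at hsplit
  have hbad : ∀ u ∈ H, (pairsTo u).card ≤ if Even h ∧ orderOf u = 2 then e - 1 else 0 := by
    intro u hu
    rcases (pairsTo u).eq_empty_or_nonempty with h0 | ⟨p₀, hp₀⟩
    · rw [h0]; simp
    rw [mem_pairsTo] at hp₀
    obtain ⟨h1, h2, h3, h4⟩ := hp₀
    have hu1 : u ≠ 1 := by
      intro hu1
      apply h3
      rw [hu1] at h4
      have := eq_inv_of_mul_eq_one_left h4
      rw [this, inv_inv' h2]
    have hu2 : orderOf u = 2 := Cfsg.Agent.S0883.result hZ hab h e hh he hodd hlt H hHa hHcard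
      hHfix u hu hu1 p₀.1 p₀.2 h1 h2 h4
    have hev : Even h := by
      have := orderOf_dvd_natCard (⟨u, hu⟩ : H)
      rw [Subgroup.orderOf_mk, hu2, hHh] at this
      exact even_iff_two_dvd.2 this
    rw [if_pos ⟨hev, hu2⟩]
    have hJa : (J G a).card ≤ e := by
      rw [hI, if_pos hev, hh, mul_comm e] at hJ
      exact Nat.le_of_mul_le_mul_left hJ (by omega)
    have hle : (pairsTo u).card ≤ ((J G a).erase u).card := by
      apply Finset.card_le_card_of_injOn (fun p => p.1)
      · intro p hp
        rw [Finset.mem_coe, mem_pairsTo] at hp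
        obtain ⟨k1, k2, k3, k4⟩ := hp
        rw [Finset.mem_coe, Finset.mem_erase, mem_J]
        refine ⟨?_, k1, ?_⟩
        · intro hp1
          have hp1' : p.1 = u := hp1
          rw [hp1'] at k4
          have : p.2 = 1 := by simpa using k4
          rw [this, orderOf_one] at k2; omega
        · have hinv := inverts_of_prod k1 k2 k4
          have hui : u⁻¹ = u := inv_inv' hu2
          rw [hui] at hinv
          apply hHfix u hu hu1
          rw [← mul_smul, ← hinv, mul_smul, hHa hu]
      · intro p hp q hq hpq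
        rw [Finset.mem_coe, mem_pairsTo] at hp hq
        have e1 : p.1 = q.1 := hpq
        have e2 : p.2 = q.2 := by
          have := hp.2.2.2.trans hq.2.2.2.symm
          rw [e1] at this
          exact mul_left_cancel this
        exact Prod.ext e1 e2
    have huJ : u ∈ J G a := mem_J.2 ⟨hu2, hHa hu⟩
    rw [Finset.card_erase_of_mem huJ] at hle
    omega
  have hbadsum : ∑ x ∈ Finset.univ.filter (fun x : G => ¬ Q (ConjClasses.mk x)),
      (pairsTo x).card ≤ if Even h then (Inv G).card * (e - 1) else 0 := by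
    calc ∑ x ∈ Finset.univ.filter (fun x : G => ¬ Q (ConjClasses.mk x)), (pairsTo x).card
        ≤ ∑ x ∈ Finset.univ.filter (fun x : G => ¬ Q (ConjClasses.mk x)),
          (if Even h ∧ orderOf x = 2 then e - 1 else 0) := by
          apply Finset.sum_le_sum
          intro x hx
          simp only [Finset.mem_filter, Finset.mem_univ, true_and] at hx
          rw [hQ] at hx
          push Not at hx
          obtain ⟨u, hux, huH⟩ := hx
          rw [ConjClasses.mk_eq_mk_iff_isConj, isConj_iff] at hux
          obtain ⟨g, hg⟩ := hux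
          rw [← hg, card_pairsTo_conj]
          have e : g * u * g⁻¹ = MulAut.conj g u := by simp
          rw [e, MulEquiv.orderOf_eq]
          exact hbad u huH
      _ ≤ ∑ x : G, (if Even h ∧ orderOf x = 2 then e - 1 else 0) :=
          Finset.sum_le_sum_of_subset (Finset.filter_subset _ _)
      _ = if Even h then (Inv G).card * (e - 1) else 0 := by
          by_cases hev : Even h
          · simp only [hev, true_and, if_true]
            rw [← Finset.sum_filter, Finset.sum_const, smul_eq_mul]; rfl
          · simp [hev]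
  rw [hG] at hmain
  show e ≤ Nat.card {C : ConjClasses G // Q C}
  by_cases hev : Even h
  · rw [if_pos hev] at hbadsum hI
    exact arith_even _ e h _ _ _ he1 hh1 hI hsplit hbadsum hmain
  · rw [if_neg hev] at hbadsum hI
    have hz := Nat.le_zero.1 hbadsum
    rw [hz, add_zero] at hsplit
    exact arith_odd _ e h _ _ he1 hlt hI hmain (le_of_eq hsplit.symm)

end Cfsg.Agent.S0884
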