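import Cfsg.Statements.S0894
import Cfsg.Agent.Lib.Helper3_CharColumn
import Cfsg.Agent.Lib.Helper79_Linear
import Cfsg.Agent.S4566
import Mathlib

set_option autoImplicit false
open Cfsg

namespace Cfsg.Agent.S0894

open scoped commutatorElement ComplexConjugate
open Cfsg.Agent.Lib.Helper3_CharBridge Cfsg.Agent.Lib.Helper3_CharOrtho
  Cfsg.Agent.Lib.Helper3_CharComplete Cfsg.Agent.Lib.Helper3_CharColumn
  Cfsg.Agent.Lib.Helper3_CharEigen

/-- the commutator map `x ↦ [x, g]` into the centre, when the commutator subgroup is central -/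
noncomputable def commHom {P : Type*} [Group P] (hcomm : commutator P ≤ Subgroup.center P) (g : P) :
    P →* Subgroup.center P where
  toFun x := ⟨⁅x, g⁆, hcomm (Subgroup.commutator_mem_commutator (Subgroup.mem_top x) (Subgroup.mem_top g))⟩
  map_one' := by
    apply Subtype.ext
    simp
  map_mul' x y := by
    apply Subtype.ext
    have hy : ⁅y, g⁆ ∈ Subgroup.center P :=
      hcomm (Subgroup.commutator_mem_commutator (Subgroup.mem_top y) (Subgroup.mem_top g))
    have hyc : ∀ z : P, z * ⁅y, g⁆ = ⁅y, g⁆ * z := fun z => (Subgroup.mem_center_iff.mp hy z)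
    show ⁅x * y, g⁆ = ⁅x, g⁆ * ⁅y, g⁆
    have h1 : ⁅x * y, g⁆ = x * ⁅y, g⁆ * (g * x⁻¹ * g⁻¹) := by
      simp only [commutatorElement_def]; group
    rw [h1, hyc x]
    simp only [commutatorElement_def]
    have h2 := hyc (x * g * x⁻¹ * g⁻¹)
    simp only [commutatorElement_def] at h2
    rw [h2]
    group

theorem commHom_ker {P : Type*} [Group P] (hcomm : commutator P ≤ Subgroup.center P) (g : P) :
    (commHom hcomm g).ker = Subgroup.centralizer ({g} : Set P) := by
  ext x
  rw [MonoidHom.mem_ker, Subgroup.mem_centralizer_singleton_iff]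
  constructor
  · intro h
    have h1 : ⁅x, g⁆ = 1 := congrArg Subtype.val h
    rw [commutatorElement_eq_one_iff_mul_comm] at h1
    exact h1
  · intro h
    apply Subtype.ext
    show ⁅x, g⁆ = 1
    rw [commutatorElement_eq_one_iff_mul_comm]
    exact h

/-- In an extraspecial group a non-central element has centralizer of index `p`. -/
theorem index_centralizer_of_not_mem_center {P : Type*} [Group P] [Finite P] (p : ℕ) [Fact p.Prime]
    (hP : Cfsg.IsExtraspecial p P) (g : P) (hg : g ∉ Subgroup.center P) :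
    (Subgroup.centralizer ({g} : Set P)).index = p := by
  have hcomm : commutator P ≤ Subgroup.center P := hP.1.2.2.le
  rw [← commHom_ker hcomm g, Subgroup.index_ker]
  have hcard : Nat.card (Subgroup.center P) = p := hP.2
  have : Fact (Nat.card (Subgroup.center P)).Prime := ⟨by rw [hcard]; exact Fact.out⟩
  rcases Subgroup.eq_bot_or_eq_top_of_prime_card (commHom hcomm g).range with h | h
  · exfalso
    apply hg
    rw [Subgroup.mem_center_iff]
    intro x
    have h1 : commHom hcomm g x ∈ (commHom hcomm g).range := ⟨x, rfl⟩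
    rw [h, Subgroup.mem_bot] at h1
    have h2 : ⁅x, g⁆ = 1 := congrArg Subtype.val h1
    rw [commutatorElement_eq_one_iff_mul_comm] at h2
    exact h2
  · rw [h, Subgroup.card_top, hcard]


/-- number of conjugacy classes of an extraspecial group -/
theorem card_conjClasses_extraspecial {P : Type*} [Group P] [Fintype P] (p n : ℕ) [Fact p.Prime]
    (hP : Cfsg.IsExtraspecial p P) (hcard : Nat.card P = p ^ (2 * n + 1)) :
    Nat.card (ConjClasses P) + 1 = p + p ^ (2 * n) := by
  classical
  have hp : p.Prime := Fact.out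
  have hZ : Nat.card (Subgroup.center P) = p := hP.2
  have h1 : ∀ g : P, Nat.card (Subgroup.centralizer ({g} : Set P)) =
      if g ∈ Subgroup.center P then p ^ (2 * n + 1) else p ^ (2 * n) := by
    intro g
    split_ifs with hg
    · have : Subgroup.centralizer ({g} : Set P) = ⊤ := by
        ext x
        simp only [Subgroup.mem_centralizer_singleton_iff, Subgroup.mem_top, iff_true]
        exact (Subgroup.mem_center_iff.mp hg x)
      rw [this, Subgroup.card_top, hcard]
    · have hidx := index_centralizer_of_not_mem_center p hP g hg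
      have := Subgroup.card_mul_index (Subgroup.centralizer ({g} : Set P))
      rw [hidx, hcard, pow_succ] at this
      exact Nat.eq_of_mul_eq_mul_right hp.pos this
  have h2 := sum_card_centralizer (G := P)
  simp_rw [h1] at h2
  rw [Finset.sum_ite, Finset.sum_const, Finset.sum_const, smul_eq_mul, smul_eq_mul, hcard] at h2
  have hc1 : (Finset.univ.filter (fun g : P => g ∈ Subgroup.center P)).card = p := by
    rw [← hZ, Nat.card_eq_fintype_card, Fintype.card_subtype]
  have hc2 : (Finset.univ.filter (fun g : P => ¬ g ∈ Subgroup.center P)).card + p = p ^ (2 * n + 1) := by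
    have h5 := Finset.card_filter_add_card_filter_not (s := (Finset.univ : Finset P))
      (fun g : P => g ∈ Subgroup.center P)
    rw [hc1, Finset.card_univ, ← Nat.card_eq_fintype_card, hcard] at h5
    rw [add_comm]; exact h5
  rw [hc1] at h2
  have h3 : (Nat.card (ConjClasses P) + 1) * p ^ (2 * n + 1) = (p + p ^ (2 * n)) * p ^ (2 * n + 1) := by
    rw [add_mul, one_mul, ← h2, add_mul]
    have : (Finset.univ.filter (fun g : P => ¬ g ∈ Subgroup.center P)).card * p ^ (2 * n) + p ^ (2 * n + 1)
        = p ^ (2 * n) * p ^ (2 * n + 1) := by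
      have h4 : p ^ (2 * n + 1) = p * p ^ (2 * n) := by rw [pow_succ, mul_comm]
      conv_lhs => rw [h4, ← add_mul, hc2]
      rw [mul_comm]
    rw [add_assoc, this]
  exact Nat.eq_of_mul_eq_mul_right (pow_pos hp.pos _) h3

/-- for central `z`, `|χ(z)|² = χ(1)²` -/
theorem irr_central_mul_conj {G : Type*} [Group G] [Fintype G] (χ : G → ℂ)
    (hχ : Cfsg.IsIrrCharacter G χ) (z : G) (hz : z ∈ Subgroup.center G) :
    χ z * conj (χ z) = χ 1 * χ 1 := by
  obtain ⟨n, ρ, hρ, rfl⟩ := hχ
  obtain ⟨c, hc⟩ := Cfsg.Agent.S4566.char_mul_central ρ hρ z hz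
  have h1 : ρ.character z = c * ρ.character 1 := by simpa using hc 1
  have h2 : ρ.character 1 = c * ρ.character z⁻¹ := by simpa using hc z⁻¹
  rw [← char_inv ρ z]
  calc ρ.character z * ρ.character z⁻¹ = c * ρ.character 1 * ρ.character z⁻¹ := by rw [← h1]
    _ = ρ.character 1 * (c * ρ.character z⁻¹) := by ring
    _ = ρ.character 1 * ρ.character 1 := by rw [← h2]

/-- `χ(1)² |Z(G)| ≤ |G|` for an irreducible character -/
theorem deg_sq_mul_card_center_le {G : Type*} [Group G] [Fintype G] (χ : G → ℂ)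
    (hχ : Cfsg.IsIrrCharacter G χ) (d : ℕ) (hd : χ 1 = d) :
    d ^ 2 * Nat.card (Subgroup.center G) ≤ Nat.card G := by
  classical
  have h1 := classInner_self_of_isIrrCharacter hχ
  rw [Cfsg.classInner] at h1
  have hG : (Nat.card G : ℂ) ≠ 0 := card_ne_zero_complex
  have h2 : ∑ g : G, χ g * conj (χ g) = (Nat.card G : ℂ) := by
    field_simp at h1
    exact h1
  have h3 : ∑ g : G, Complex.normSq (χ g) = (Nat.card G : ℝ) := by
    have : ((∑ g : G, Complex.normSq (χ g) : ℝ) : ℂ) = ((Nat.card G : ℝ) : ℂ) := by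
      push_cast
      rw [← h2]
      exact Finset.sum_congr rfl (fun g _ => (Complex.mul_conj (χ g)).symm)
    exact_mod_cast this
  have h4 : ∀ z ∈ Finset.univ.filter (fun g : G => g ∈ Subgroup.center G),
      Complex.normSq (χ z) = (d : ℝ) ^ 2 := by
    intro z hz
    have hz' : z ∈ Subgroup.center G := (Finset.mem_filter.mp hz).2
    have := irr_central_mul_conj χ hχ z hz'
    rw [Complex.mul_conj, hd] at this
    have h5 : ((Complex.normSq (χ z) : ℝ) : ℂ) = (((d : ℝ) ^ 2 : ℝ) : ℂ) := by
      rw [this]; push_cast; ring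
    exact_mod_cast h5
  have h5 : ∑ z ∈ Finset.univ.filter (fun g : G => g ∈ Subgroup.center G), Complex.normSq (χ z) ≤
      ∑ g : G, Complex.normSq (χ g) :=
    Finset.sum_le_sum_of_subset_of_nonneg (Finset.filter_subset _ _)
      (fun g _ _ => Complex.normSq_nonneg _)
  rw [Finset.sum_congr rfl h4, Finset.sum_const, h3, nsmul_eq_mul] at h5
  have hc : (Finset.univ.filter (fun g : G => g ∈ Subgroup.center G)).card =
      Nat.card (Subgroup.center G) := by
    rw [Nat.card_eq_fintype_card, Fintype.card_subtype]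
  rw [hc] at h5
  have h6 : ((d ^ 2 * Nat.card (Subgroup.center G) : ℕ) : ℝ) ≤ ((Nat.card G : ℕ) : ℝ) := by
    push_cast
    rw [mul_comm]
    exact h5
  exact_mod_cast h6

/-- Let P be an extraspecial p-group of order p ^ (2 * n + 1). Then every irreducible character of P has degree 1 or p ^ n, and exactly p - 1 of them have degree p ^ n. -/
theorem result {P : Type*} [Group P] [Finite P] (p n : ℕ) [Fact p.Prime] (hP : Cfsg.IsExtraspecial p P) (hcard : Nat.card P = p ^ (2 * n + 1)) : (∀ χ : Cfsg.IrrCharacter P, (χ : P → ℂ) 1 = 1 ∨ (χ : P → ℂ) 1 = (p : ℂ) ^ n) ∧ Nat.card {χ : Cfsg.IrrCharacter P // (χ : P → ℂ) 1 = (p : ℂ) ^ n} = p - 1 := by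
  classical
  have := Fintype.ofFinite P
  have hp : p.Prime := Fact.out
  have hZ : Nat.card (Subgroup.center P) = p := hP.2
  have hcomm : commutator P = Subgroup.center P := hP.1.2.2
  -- n ≥ 1
  have hn : 1 ≤ n := by
    by_contra hn0
    have hn0' : n = 0 := by omega
    subst hn0'
    have h1 : Nat.card P = p := by rw [hcard]; simp
    have h2 : Subgroup.center P = ⊤ := by
      apply (Subgroup.card_eq_iff_eq_top _).mp
      rw [hZ, h1]
    have h3 : commutator P = ⊥ := (commutator_eq_bot_iff_center_eq_top P).mpr h2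
    rw [hcomm, h2] at h3
    have h4 : Nat.card (⊤ : Subgroup P) = Nat.card (⊥ : Subgroup P) := by rw [h3]
    rw [Subgroup.card_top, Subgroup.card_bot, h1] at h4
    exact hp.one_lt.ne' h4
  have hpn1 : p ^ n ≠ 1 := by
    intro h
    have : 1 < p ^ n := Nat.one_lt_pow (by omega) hp.one_lt
    omega
  -- degrees as naturals
  choose d hdpos hd using fun χ : Cfsg.IrrCharacter P => irr_one_eq_natCast χ.2
  have hd1 : ∀ χ : Cfsg.IrrCharacter P, (χ : P → ℂ) 1 = 1 ↔ d χ = 1 := by
    intro χ
    rw [hd χ]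
    exact_mod_cast Iff.rfl
  have hdpn : ∀ χ : Cfsg.IrrCharacter P, (χ : P → ℂ) 1 = (p : ℂ) ^ n ↔ d χ = p ^ n := by
    intro χ
    rw [hd χ]
    exact_mod_cast Iff.rfl
  -- numerical facts
  have hk := card_conjClasses_extraspecial p n hP hcard
  have hirr := card_irr_eq_card_conjClasses (G := P)
  have hlin := Cfsg.Agent.Lib.Helper79_Linear.card_linear (G := P)
  have hidx : (commutator P).index = p ^ (2 * n) := by
    have := Subgroup.index_mul_card (commutator P)
    rw [hcomm, hZ, hcard, pow_succ] at this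
    rw [hcomm]
    exact Nat.eq_of_mul_eq_mul_right hp.pos this
  have hsq : ∑ χ : Cfsg.IrrCharacter P, d χ ^ 2 = p ^ (2 * n + 1) := by
    have h1 := sum_sq_irr_one (G := P)
    simp_rw [hd] at h1
    rw [hcard] at h1
    exact_mod_cast h1
  have hb : ∀ χ : Cfsg.IrrCharacter P, d χ ^ 2 ≤ p ^ (2 * n) := by
    intro χ
    have := deg_sq_mul_card_center_le (χ : P → ℂ) χ.2 (d χ) (hd χ)
    rw [hZ, hcard, pow_succ] at this
    exact Nat.le_of_mul_le_mul_right this hp.pos
  -- split into linear and nonlinear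
  set L := Finset.univ.filter (fun χ : Cfsg.IrrCharacter P => d χ = 1) with hL
  set NL := Finset.univ.filter (fun χ : Cfsg.IrrCharacter P => ¬ d χ = 1) with hNL
  have hLcard : L.card = p ^ (2 * n) := by
    rw [← hidx, ← hlin, Nat.card_eq_fintype_card, Fintype.card_subtype]
    congr 1
    ext χ
    simp only [hL, Finset.mem_filter, Finset.mem_univ, true_and]
    exact (hd1 χ).symm
  have hsplit : L.card + NL.card = Nat.card (Cfsg.IrrCharacter P) := by
    rw [hL, hNL, Finset.card_filter_add_card_filter_not, Finset.card_univ, Nat.card_eq_fintype_card]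
  have hNLcard : NL.card + 1 = p := by
    rw [hirr, hLcard] at hsplit
    omega
  have hsum_split : ∑ χ ∈ L, d χ ^ 2 + ∑ χ ∈ NL, d χ ^ 2 = p ^ (2 * n + 1) := by
    rw [hL, hNL, Finset.sum_filter_add_sum_filter_not, hsq]
  have hsumL : ∑ χ ∈ L, d χ ^ 2 = p ^ (2 * n) := by
    rw [← hLcard, Finset.card_eq_sum_ones]
    apply Finset.sum_congr rfl
    intro χ hχ
    rw [hL, Finset.mem_filter] at hχ
    rw [hχ.2, one_pow]
  have hall : ∀ χ ∈ NL, d χ ^ 2 = p ^ (2 * n) := by
    by_contra hcon
    push Not at hcon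
    obtain ⟨χ₀, hχ₀, hne⟩ := hcon
    have hlt : ∑ χ ∈ NL, d χ ^ 2 < ∑ χ ∈ NL, p ^ (2 * n) :=
      Finset.sum_lt_sum (fun χ _ => hb χ) ⟨χ₀, hχ₀, lt_of_le_of_ne (hb χ₀) hne⟩
    rw [Finset.sum_const, smul_eq_mul] at hlt
    have h1 : p ^ (2 * n + 1) = (NL.card + 1) * p ^ (2 * n) := by
      rw [hNLcard, pow_succ, mul_comm]
    rw [add_mul, one_mul] at h1
    omega
  have hdeg : ∀ χ : Cfsg.IrrCharacter P, d χ = 1 ∨ d χ = p ^ n := by
    intro χ
    by_cases h : d χ = 1
    · exact Or.inl h
    · right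
      have hmem : χ ∈ NL := by rw [hNL, Finset.mem_filter]; exact ⟨Finset.mem_univ _, h⟩
      have h2 := hall χ hmem
      rw [mul_comm, pow_mul] at h2
      exact Nat.pow_left_injective (by norm_num : 2 ≠ 0) h2
  refine ⟨fun χ => ?_, ?_⟩
  · rcases hdeg χ with h | h
    · exact Or.inl ((hd1 χ).mpr h)
    · exact Or.inr ((hdpn χ).mpr h)
  · rw [Nat.card_eq_fintype_card, Fintype.card_subtype]
    have : Finset.univ.filter (fun χ : Cfsg.IrrCharacter P => (χ : P → ℂ) 1 = (p : ℂ) ^ n) = NL := by
      ext χ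
      simp only [hNL, Finset.mem_filter, Finset.mem_univ, true_and]
      rw [hdpn χ]
      constructor
      · intro h h1
        rw [h1] at h
        exact hpn1 h.symm
      · intro h
        exact (hdeg χ).resolve_left h
    rw [this]
    omega

end Cfsg.Agent.S0894
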