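import Cfsg.Statements.S0893
import Cfsg.Agent.Lib.Helper15_Linear
import Cfsg.Agent.Lib.Helper75_IndChar
import Cfsg.Agent.S0894
import Mathlib

set_option autoImplicit false
open Cfsg

namespace Cfsg.Agent.S0893

open scoped ComplexConjugate
open Cfsg.Agent.Lib.Helper3_CharBridge Cfsg.Agent.Lib.Helper3_CharOrtho
  Cfsg.Agent.Lib.Helper3_CharComplete Cfsg.Agent.Lib.Helper3_CharColumn
  Cfsg.Agent.Lib.Helper3_CharEigen Cfsg.Agent.Lib.Helper15_Linear
  Cfsg.Agent.Lib.Helper75_Induced Cfsg.Agent.Lib.Helper75_IndChar Cfsg.Agent.Lib.Helper75_CharArith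

/-- `∑ |χ(g)|² = |G|` for an irreducible character -/
theorem sum_normSq_irr {G : Type*} [Group G] [Fintype G] (χ : G → ℂ)
    (hχ : Cfsg.IsIrrCharacter G χ) : ∑ g : G, Complex.normSq (χ g) = (Nat.card G : ℝ) := by
  have h1 := classInner_self_of_isIrrCharacter hχ
  rw [Cfsg.classInner] at h1
  have hG : (Nat.card G : ℂ) ≠ 0 := card_ne_zero_complex
  have h2 : ∑ g : G, χ g * conj (χ g) = (Nat.card G : ℂ) := by
    field_simp at h1
    exact h1
  have : ((∑ g : G, Complex.normSq (χ g) : ℝ) : ℂ) = ((Nat.card G : ℝ) : ℂ) := by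
    push_cast
    rw [← h2]
    exact Finset.sum_congr rfl (fun g _ => (Complex.mul_conj (χ g)).symm)
  exact_mod_cast this

/-- an irreducible character with `χ(1)² |Z(G)| = |G|` vanishes off the centre -/
theorem vanish_off_center {G : Type*} [Group G] [Fintype G] (χ : G → ℂ)
    (hχ : Cfsg.IsIrrCharacter G χ) (d : ℕ) (hd : χ 1 = d)
    (hcard : d ^ 2 * Nat.card (Subgroup.center G) = Nat.card G) (x : G)
    (hx : x ∉ Subgroup.center G) : χ x = 0 := by
  classical
  have h3 := sum_normSq_irr χ hχ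
  have h4 : ∀ z ∈ Finset.univ.filter (fun g : G => g ∈ Subgroup.center G),
      Complex.normSq (χ z) = (d : ℝ) ^ 2 := by
    intro z hz
    have hz' : z ∈ Subgroup.center G := (Finset.mem_filter.mp hz).2
    have := Cfsg.Agent.S0894.irr_central_mul_conj χ hχ z hz'
    rw [Complex.mul_conj, hd] at this
    have h5 : ((Complex.normSq (χ z) : ℝ) : ℂ) = (((d : ℝ) ^ 2 : ℝ) : ℂ) := by
      rw [this]; push_cast; ring
    exact_mod_cast h5
  have hc : (Finset.univ.filter (fun g : G => g ∈ Subgroup.center G)).card =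
      Nat.card (Subgroup.center G) := by
    rw [Nat.card_eq_fintype_card, Fintype.card_subtype]
  have h5 := Finset.sum_filter_add_sum_filter_not (Finset.univ : Finset G)
    (fun g : G => g ∈ Subgroup.center G) (fun g => Complex.normSq (χ g))
  rw [h3, Finset.sum_congr rfl h4, Finset.sum_const, hc, nsmul_eq_mul] at h5
  have h6 : ((Nat.card (Subgroup.center G) : ℝ)) * (d : ℝ) ^ 2 = (Nat.card G : ℝ) := by
    rw [← hcard]; push_cast; ring
  rw [h6] at h5
  have h7 : ∑ g ∈ Finset.univ.filter (fun g : G => ¬ g ∈ Subgroup.center G),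
      Complex.normSq (χ g) = 0 := by linarith
  have h8 := (Finset.sum_eq_zero_iff_of_nonneg (fun g _ => Complex.normSq_nonneg (χ g))).mp h7 x
    (Finset.mem_filter.mpr ⟨Finset.mem_univ _, hx⟩)
  exact Complex.normSq_eq_zero.mp h8

/-- value of an induced function at the identity -/
theorem indFun_one {G : Type*} [Group G] [Fintype G] (H : Subgroup G) (θ : H → ℂ) :
    Cfsg.indFun H θ 1 = (Nat.card H : ℂ)⁻¹ * (Nat.card G : ℂ) * θ 1 := by
  rw [indFun_apply]
  have : ∀ x : G, Cfsg.extendByZero H θ (x⁻¹ * 1 * x) = θ 1 := by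
    intro x
    rw [mul_one, inv_mul_cancel]
    exact extendByZero_of_mem H θ H.one_mem
  simp_rw [this]
  rw [Finset.sum_const, Finset.card_univ, nsmul_eq_mul, Nat.card_eq_fintype_card (α := G)]
  ring

/-- a constituent of the induced character does not have the central element `a₀` in its kernel -/
theorem constituent_ne {G : Type*} [Group G] [Fintype G] (A : Subgroup G) [Fintype A] (lam : A → ℂ)
    (hlam : Cfsg.IsCharacter A lam ∧ lam 1 = 1) (a₀ : A) (ha₀ : (a₀ : G) ∈ Subgroup.center G)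
    (hne : lam a₀ ≠ 1) (χ : G → ℂ) (hχ : Cfsg.IsIrrCharacter G χ)
    (hcon : Cfsg.classInner lam (fun a : A => χ a) ≠ 0) : χ a₀ ≠ χ 1 := by
  intro heq
  obtain ⟨n, ρ, hρ, rfl⟩ := hχ
  obtain ⟨c, hc⟩ := Cfsg.Agent.S4566.char_mul_central ρ hρ (a₀ : G) ha₀
  have hχ1 : ρ.character 1 ≠ 0 := by
    obtain ⟨m, hm, hm1⟩ := irr_one_eq_natCast (isIrrCharacter_of_rep ρ)
    rw [hm1]
    exact_mod_cast hm.ne'
  have hc1 : c = 1 := by
    have := hc 1
    rw [one_mul, heq] at this
    have h2 : (c - 1) * ρ.character 1 = 0 := by rw [sub_mul, one_mul, ← this, sub_self]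
    rcases mul_eq_zero.mp h2 with h | h
    · exact sub_eq_zero.mp h
    · exact absurd h hχ1
  set T := ∑ a : A, lam a * conj (ρ.character (a : G)) with hT
  have hT0 : T ≠ 0 := by
    intro h
    apply hcon
    rw [Cfsg.classInner]
    show _ * T = 0
    rw [h, mul_zero]
  have hre : T = ∑ a : A, lam (a * a₀) * conj (ρ.character ((a * a₀ : A) : G)) :=
    (Fintype.sum_equiv (Equiv.mulRight a₀) _ _ (fun a => rfl)).symm
  have hterm : ∀ a : A, lam (a * a₀) * conj (ρ.character ((a * a₀ : A) : G)) =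
      lam a₀ * (lam a * conj (ρ.character (a : G))) := by
    intro a
    rw [linear_mul lam hlam.1 hlam.2, Subgroup.coe_mul, hc, hc1, one_mul]
    ring
  rw [Finset.sum_congr rfl (fun a _ => hterm a), ← Finset.mul_sum] at hre
  have : (lam a₀ - 1) * T = 0 := by rw [sub_mul, one_mul, ← hre, sub_self]
  rcases mul_eq_zero.mp this with h | h
  · exact hne (sub_eq_zero.mp h)
  · exact hT0 h

/-- Let P be an extraspecial p-group of order p ^ (2 * n + 1), A an abelian subgroup of order p ^ (n + 1), and λ a character of A of degree 1 that is not identically 1 on the elements of A lying in the centre of P. Then the function induced from λ to P is an irreducible character of P and vanishes at every element outside the centre. -/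
theorem result {P : Type*} [Group P] [Fintype P] (p n : ℕ) [Fact p.Prime] (hP : Cfsg.IsExtraspecial p P) (hcard : Nat.card P = p ^ (2 * n + 1)) (A : Subgroup P) (hab : ∀ a ∈ A, ∀ b ∈ A, a * b = b * a) (hA : Nat.card A = p ^ (n + 1)) (lam : A → ℂ) (hlam : Cfsg.IsCharacter A lam ∧ lam 1 = 1) (hZ : ∃ a : A, (a : P) ∈ Subgroup.center P ∧ lam a ≠ 1) : Cfsg.IsIrrCharacter P (Cfsg.indFun A lam) ∧ ∀ x : P, x ∉ Subgroup.center P → Cfsg.indFun A lam x = 0 := by
  classical
  have hp : p.Prime := Fact.out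
  have : Fintype A := Fintype.ofFinite A
  obtain ⟨a₀, ha₀, hne⟩ := hZ
  set θ := Cfsg.indFun A lam with hθ
  have hθchar : Cfsg.IsCharacter P θ := isCharacter_indFun A hlam.1
  have hθcf : Cfsg.IsClassFunction P θ := isClassFunction_indFun A lam
  -- θ 1 = p ^ n
  have hθ1 : θ 1 = ((p ^ n : ℕ) : ℂ) := by
    rw [hθ, indFun_one, hlam.2, mul_one, hA, hcard]
    have hpc : (p : ℂ) ≠ 0 := by exact_mod_cast hp.ne_zero
    push_cast
    have h2 : (p : ℂ) ^ (2 * n + 1) = (p : ℂ) ^ (n + 1) * (p : ℂ) ^ n := by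
      rw [← pow_add]; congr 1; ring
    rw [h2, inv_mul_cancel_left₀ (pow_ne_zero _ hpc)]
  -- the multiplicities are natural numbers
  have hnat : ∀ χ : Cfsg.IrrCharacter P, ∃ k : ℕ, Cfsg.classInner θ (χ : P → ℂ) = k :=
    fun χ => classInner_isCharacter_nat hθchar (isCharacter_of_isIrrCharacter χ.2)
  choose k hk using hnat
  choose d hdpos hd using fun χ : Cfsg.IrrCharacter P => irr_one_eq_natCast χ.2
  have hdecomp := classFunction_eq_sum θ hθcf
  -- degree equation
  have hdeg : ∑ χ : Cfsg.IrrCharacter P, k χ * d χ = p ^ n := by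
    have h1 := congrFun hdecomp 1
    rw [Finset.sum_apply, hθ1] at h1
    simp only [Pi.smul_apply, smul_eq_mul, hk, hd] at h1
    exact_mod_cast h1.symm
  -- some constituent
  have hex : ∃ χ₀ : Cfsg.IrrCharacter P, k χ₀ ≠ 0 := by
    by_contra hcon
    push Not at hcon
    simp only [hcon, zero_mul, Finset.sum_const_zero] at hdeg
    exact (pow_pos hp.pos n).ne hdeg
  obtain ⟨χ₀, hχ₀⟩ := hex
  -- its degree is p ^ n
  have hcon : Cfsg.classInner lam (fun a : A => (χ₀ : P → ℂ) a) ≠ 0 := by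
    rw [← frobenius_reciprocity A lam _ (isClassFunction_of_isIrrCharacter χ₀.2), ← hθ, hk]
    exact_mod_cast hχ₀
  have hχne := constituent_ne A lam hlam a₀ ha₀ hne (χ₀ : P → ℂ) χ₀.2 hcon
  have hd₀ : d χ₀ = p ^ n := by
    rcases (Cfsg.Agent.S0894.result p n hP hcard).1 χ₀ with h | h
    · exfalso
      apply hχne
      have hcomm : commutator P = Subgroup.center P := hP.1.2.2
      have := Cfsg.Agent.Lib.Helper79_Linear.linear_commutator ⟨χ₀, h⟩ (k := (a₀ : P))
        (by rw [hcomm]; exact ha₀)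
      rw [this, h]
    · rw [hd χ₀] at h
      exact_mod_cast h
  -- multiplicities
  have hsplit := Finset.add_sum_erase Finset.univ (fun χ => k χ * d χ) (Finset.mem_univ χ₀)
  rw [hdeg, hd₀] at hsplit
  have hk₀ : k χ₀ = 1 := by
    have hpos : 0 < p ^ n := pow_pos hp.pos n
    have h1 : k χ₀ * p ^ n ≤ p ^ n := by omega
    have h2 : k χ₀ ≤ 1 := by
      by_contra h3
      push Not at h3
      have : 2 * p ^ n ≤ k χ₀ * p ^ n := Nat.mul_le_mul_right _ h3
      omega
    omega
  have hrest : ∑ χ ∈ Finset.univ.erase χ₀, k χ * d χ = 0 := by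
    rw [hk₀, one_mul] at hsplit
    omega
  have hkz : ∀ χ : Cfsg.IrrCharacter P, χ ≠ χ₀ → k χ = 0 := by
    intro χ hχ
    have := (Finset.sum_eq_zero_iff.mp hrest) χ (Finset.mem_erase.mpr ⟨hχ, Finset.mem_univ _⟩)
    rcases Nat.mul_eq_zero.mp this with h | h
    · exact h
    · exact absurd h (hdpos χ).ne'
  have hθeq : θ = (χ₀ : P → ℂ) := by
    rw [hdecomp, Finset.sum_eq_single χ₀]
    · rw [hk, hk₀]; simp
    · intro χ _ hχ
      rw [hk, hkz χ hχ]; simp
    · intro h; exact absurd (Finset.mem_univ _) h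
  refine ⟨hθeq ▸ χ₀.2, ?_⟩
  intro x hx
  rw [hθeq]
  apply vanish_off_center (χ₀ : P → ℂ) χ₀.2 (d χ₀) (hd χ₀) _ x hx
  rw [hd₀, hP.2, hcard, ← pow_mul, mul_comm n 2, pow_succ]

end Cfsg.Agent.S0893
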