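import Cfsg.Statements.S0895
import Cfsg.Agent.Lib.Helper74_FS2
import Mathlib

set_option autoImplicit false
open Cfsg

namespace Cfsg.Agent.S0895

open Cfsg.Agent.Lib.Helper74_FS

/-- Let χ be a real-valued irreducible character of a finite group G whose degree is an odd natural number. Then the average over s in G of χ (s * s) equals 1. -/
theorem result {G : Type*} [Group G] [Fintype G] (χ : G → ℂ) (hχ : Cfsg.IsIrrCharacter G χ) (hreal : ∀ g : G, (χ g).im = 0) (d : ℕ) (hd : χ 1 = d) (hodd : Odd d) : (Nat.card G : ℂ)⁻¹ * ∑ s : G, χ (s * s) = 1 := by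
  obtain ⟨n, ρ, hirr, rfl⟩ := hχ
  have := hirr
  have hn : n = d := by
    have h1 := Representation.char_one ρ
    rw [hd] at h1
    simp at h1
    exact_mod_cast h1.symm
  subst hn
  obtain ⟨M, hM0, hM⟩ := exists_invariant_form_ne_zero ρ hreal
  have hT := transpose_eq_fsInd_smul ρ hreal M hM
  have hunit := isUnit_of_invariant ρ M hM hM0
  have hdet : M.det ≠ 0 := ((Matrix.isUnit_iff_isUnit_det M).mp hunit).ne_zero
  set ν := fsInd ρ.character with hν
  have hgoal : (Nat.card G : ℂ)⁻¹ * ∑ s : G, ρ.character (s * s) = ν := rfl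
  rw [hgoal]
  -- ν ^ n = 1
  have h1 : ν ^ n = 1 := by
    have := congrArg Matrix.det hT
    rw [Matrix.det_transpose, Matrix.det_smul, Fintype.card_fin] at this
    have h2 : (ν ^ n - 1) * M.det = 0 := by rw [sub_mul, one_mul, ← this, sub_self]
    rcases mul_eq_zero.mp h2 with h | h
    · exact sub_eq_zero.mp h
    · exact absurd h hdet
  -- ν ^ 2 = 1
  have h2 : ν ^ 2 = 1 := by
    have h3 : M = (ν ^ 2) • M := by
      have := congrArg Matrix.transpose hT
      rw [Matrix.transpose_transpose, Matrix.transpose_smul, hT, smul_smul] at this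
      rw [sq]; exact this
    have h4 : (ν ^ 2 - 1) • M = 0 := by rw [sub_smul, one_smul, ← h3, sub_self]
    rcases smul_eq_zero.mp h4 with h | h
    · exact sub_eq_zero.mp h
    · exact absurd h hM0
  obtain ⟨k, hk⟩ := hodd
  rw [hk, pow_succ, pow_mul, h2, one_pow, one_mul] at h1
  exact h1

end Cfsg.Agent.S0895
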