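import Cfsg.Statements.S0898
import Cfsg.Agent.Lib.Helper81_AvgSplit
import Cfsg.Agent.Lib.Helper3_CharCenter
import Cfsg.Agent.Lib.Helper3_CharEigen
import Cfsg.Agent.Lib.Helper75_CharProd
import Cfsg.Agent.Lib.Helper17_TIPrime
import Cfsg.Agent.Lib.Helper3_CharColumn
import Cfsg.Agent.Lib.Helper80_CharBasic

set_option autoImplicit false
open Cfsg

namespace Cfsg.Agent.S0898


open scoped ComplexConjugate
open Cfsg.Agent.Lib.Helper3_CharBridge Cfsg.Agent.Lib.Helper3_CharOrtho
  Cfsg.Agent.Lib.Helper3_CharComplete Cfsg.Agent.Lib.Helper75_CharArith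
  Cfsg.Agent.Lib.Helper75_CharProd Cfsg.Agent.Lib.Helper81_CosetAvg
  Cfsg.Agent.Lib.Helper81_AvgSplit

section count
variable {G : Type*} [Group G] (H : Subgroup G)

/-- `g` commutes with a non-identity element of `H` -/
def Cnt (g : G) : Prop := ∃ h ∈ H, h ≠ 1 ∧ h * g = g * h

theorem ne_bot_of_cnt {x y : G} (h : Cnt H (x * y * x⁻¹)) :
    Subgroup.centralizer ({y} : Set G) ⊓ H.map (MulAut.conj x⁻¹).toMonoidHom ≠ ⊥ := by
  obtain ⟨h, hh, h1, hc⟩ := h
  intro hbot
  have hw1 : x⁻¹ * h * x ∈ Subgroup.centralizer ({y} : Set G) := by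
    rw [Subgroup.mem_centralizer_singleton_iff]
    have : h * (x * y * x⁻¹) = (x * y * x⁻¹) * h := hc
    calc x⁻¹ * h * x * y = x⁻¹ * (h * (x * y * x⁻¹)) * x := by group
      _ = x⁻¹ * ((x * y * x⁻¹) * h) * x := by rw [this]
      _ = y * (x⁻¹ * h * x) := by group
  have hw2 : x⁻¹ * h * x ∈ H.map (MulAut.conj x⁻¹).toMonoidHom := by
    rw [Subgroup.mem_map]
    refine ⟨h, hh, ?_⟩
    simp
  have hw : x⁻¹ * h * x ∈ Subgroup.centralizer ({y} : Set G) ⊓
      H.map (MulAut.conj x⁻¹).toMonoidHom := ⟨hw1, hw2⟩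
  rw [hbot, Subgroup.mem_bot] at hw
  apply h1
  have : h = x * (x⁻¹ * h * x) * x⁻¹ := by group
  rw [this, hw]
  group

theorem mem_normalizer_of_map_eq {x x₀ : G}
    (h : H.map (MulAut.conj x⁻¹).toMonoidHom = H.map (MulAut.conj x₀⁻¹).toMonoidHom) :
    x * x₀⁻¹ ∈ Subgroup.normalizer (H : Set G) := by
  rw [Subgroup.mem_normalizer_iff]
  intro k
  constructor
  · intro hk
    have h1 : x₀⁻¹ * k * x₀ ∈ H.map (MulAut.conj x₀⁻¹).toMonoidHom := by
      rw [Subgroup.mem_map]
      exact ⟨k, hk, by simp⟩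
    rw [← h, Subgroup.mem_map] at h1
    obtain ⟨k', hk', he⟩ := h1
    have he' : x⁻¹ * k' * x = x₀⁻¹ * k * x₀ := by
      simpa [MulAut.conj_apply] using he
    have : x * x₀⁻¹ * k * (x * x₀⁻¹)⁻¹ = k' := by
      calc x * x₀⁻¹ * k * (x * x₀⁻¹)⁻¹ = x * (x₀⁻¹ * k * x₀) * x⁻¹ := by group
        _ = x * (x⁻¹ * k' * x) * x⁻¹ := by rw [he']
        _ = k' := by group
    rw [this]
    exact hk'
  · intro hk
    have h1 : x⁻¹ * (x * x₀⁻¹ * k * (x * x₀⁻¹)⁻¹) * x ∈
        H.map (MulAut.conj x⁻¹).toMonoidHom := by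
      rw [Subgroup.mem_map]
      exact ⟨_, hk, by simp⟩
    rw [h, Subgroup.mem_map] at h1
    obtain ⟨k', hk', he⟩ := h1
    have he' : x₀⁻¹ * k' * x₀ = x⁻¹ * (x * x₀⁻¹ * k * (x * x₀⁻¹)⁻¹) * x := by
      simpa [MulAut.conj_apply] using he
    have : k = k' := by
      calc k = x₀ * (x⁻¹ * (x * x₀⁻¹ * k * (x * x₀⁻¹)⁻¹) * x) * x₀⁻¹ := by group
        _ = x₀ * (x₀⁻¹ * k' * x₀) * x₀⁻¹ := by rw [he']
        _ = k' := by group
    rw [this]
    exact hk'

/-- indicator of a proposition, as a real number -/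
noncomputable def ind (p : Prop) : ℝ := by classical exact if p then 1 else 0

theorem ind_pos {p : Prop} (h : p) : ind p = 1 := by
  unfold ind; rw [if_pos h]

theorem ind_neg {p : Prop} (h : ¬ p) : ind p = 0 := by
  unfold ind; rw [if_neg h]

theorem ind_nonneg (p : Prop) : 0 ≤ ind p := by
  by_cases h : p
  · rw [ind_pos h]; norm_num
  · rw [ind_neg h]

variable [Fintype G]

theorem card_le (hone : ∀ g : G, g ∉ Subgroup.center G → ∀ a b : G, Subgroup.centralizer ({g} : Set G) ⊓ H.map (MulAut.conj a).toMonoidHom ≠ ⊥ → Subgroup.centralizer ({g} : Set G) ⊓ H.map (MulAut.conj b).toMonoidHom ≠ ⊥ → H.map (MulAut.conj a).toMonoidHom = H.map (MulAut.conj b).toMonoidHom)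
    {y : G} (hy : y ∉ Subgroup.center G) :
    ∑ x : G, ind (Cnt H (x * y * x⁻¹)) ≤
      (Nat.card (Subgroup.normalizer (H : Set G)) : ℝ) := by
  classical
  have h0 : ∑ x : G, ind (Cnt H (x * y * x⁻¹)) =
      ((Finset.univ.filter fun x : G => Cnt H (x * y * x⁻¹)).card : ℝ) := by
    rw [Finset.card_eq_sum_ones, Nat.cast_sum, Finset.sum_filter]
    refine Finset.sum_congr rfl fun x _ => ?_
    by_cases hc : Cnt H (x * y * x⁻¹)
    · rw [ind_pos hc, if_pos hc]; simp
    · rw [ind_neg hc, if_neg hc]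
  rw [h0]
  rcases (Finset.univ.filter fun x : G => Cnt H (x * y * x⁻¹)).eq_empty_or_nonempty with he | hne
  · rw [he]; simp
  obtain ⟨x₀, hx₀⟩ := hne
  rw [Finset.mem_filter] at hx₀
  have hcard : Nat.card (Subgroup.normalizer (H : Set G)) =
      (Finset.univ.filter fun n : G => n ∈ Subgroup.normalizer (H : Set G)).card := by
    rw [Nat.card_eq_fintype_card, Fintype.card_subtype]
  rw [hcard]
  norm_cast
  apply Finset.card_le_card_of_injOn (fun x => x * x₀⁻¹)
  · intro x hx
    have hx' : Cnt H (x * y * x⁻¹) := by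
      have := hx
      simp only [Finset.coe_filter, Finset.mem_univ, true_and] at this
      exact this
    simp only [Finset.coe_filter, Finset.mem_univ, true_and]
    exact mem_normalizer_of_map_eq H
      (hone y hy x⁻¹ x₀⁻¹ (ne_bot_of_cnt H hx') (ne_bot_of_cnt H hx₀.2))
  · intro a _ b _ hab
    exact mul_right_cancel hab

/-- The double count: conjugates of the set `{g ∉ Z : Cnt g}` cover each non-central element
at most `|N_G(H)|` times. -/
theorem count (hone : ∀ g : G, g ∉ Subgroup.center G → ∀ a b : G, Subgroup.centralizer ({g} : Set G) ⊓ H.map (MulAut.conj a).toMonoidHom ≠ ⊥ → Subgroup.centralizer ({g} : Set G) ⊓ H.map (MulAut.conj b).toMonoidHom ≠ ⊥ → H.map (MulAut.conj a).toMonoidHom = H.map (MulAut.conj b).toMonoidHom)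
    (f : G → ℝ) (hf0 : ∀ g, 0 ≤ f g) (hconj : ∀ x y, f (x * y * x⁻¹) = f y) :
    (Nat.card G : ℝ) * ∑ g : G, ind (g ∉ Subgroup.center G) * ind (Cnt H g) * f g ≤
      (Nat.card (Subgroup.normalizer (H : Set G)) : ℝ) *
        ∑ g : G, ind (g ∉ Subgroup.center G) * f g := by
  classical
  have hZ : ∀ x y : G, x * y * x⁻¹ ∈ Subgroup.center G ↔ y ∈ Subgroup.center G := by
    intro x y
    constructor
    · intro h
      have := (inferInstance : (Subgroup.center G).Normal).conj_mem _ h x⁻¹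
      have e : x⁻¹ * (x * y * x⁻¹) * x⁻¹⁻¹ = y := by group
      rwa [e] at this
    · intro h
      exact (inferInstance : (Subgroup.center G).Normal).conj_mem _ h x
  have hZ' : ∀ x y : G, ind (x * y * x⁻¹ ∉ Subgroup.center G) = ind (y ∉ Subgroup.center G) := by
    intro x y
    rw [hZ x y]
  have h1 : (Nat.card G : ℝ) * ∑ g : G, ind (g ∉ Subgroup.center G) * ind (Cnt H g) * f g =
      ∑ x : G, ∑ y : G, ind (y ∉ Subgroup.center G) * ind (Cnt H (x * y * x⁻¹)) * f y := by
    rw [Nat.card_eq_fintype_card, ← Finset.card_univ (α := G), ← nsmul_eq_mul, ← Finset.sum_const]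
    refine Finset.sum_congr rfl fun x _ => ?_
    symm
    apply Fintype.sum_equiv (MulAut.conj x).toEquiv
    intro y
    simp only [MulEquiv.toEquiv_eq_coe, EquivLike.coe_coe, MulAut.conj_apply]
    rw [hconj x y, hZ' x y]
  rw [h1, Finset.sum_comm, Finset.mul_sum]
  refine Finset.sum_le_sum fun y _ => ?_
  by_cases hy : y ∈ Subgroup.center G
  · rw [ind_neg (by tauto)]
    simp
  · rw [ind_pos hy]
    have h2 : ∑ x : G, 1 * ind (Cnt H (x * y * x⁻¹)) * f y =
        (∑ x : G, ind (Cnt H (x * y * x⁻¹))) * f y := by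
      rw [Finset.sum_mul]
      refine Finset.sum_congr rfl fun x _ => ?_
      ring
    rw [h2, one_mul]
    exact mul_le_mul_of_nonneg_right (card_le H hone hy) (hf0 y)

end count

section central
variable {G : Type*} [Group G] [Fintype G]

theorem central_mul {χ : G → ℂ} (hχ : Cfsg.IsIrrCharacter G χ) {z : G}
    (hz : z ∈ Subgroup.center G) :
    ∃ c : ℂ, Complex.normSq c = 1 ∧ ∀ g, χ (z * g) = c * χ g := by
  obtain ⟨n, ρ, hirr, rfl⟩ := hχ
  have := hirr
  obtain ⟨c, hc⟩ := Cfsg.Agent.Lib.Helper3_CharCenter.exists_scalar_of_mem_center ρ hz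
  have hmul : ∀ g, ρ.character (z * g) = c * ρ.character g := by
    intro g
    unfold Representation.character
    rw [map_mul, hc, smul_mul_assoc, map_smul, smul_eq_mul]
    rfl
  refine ⟨c, ?_, hmul⟩
  have hn := (Cfsg.Agent.Lib.Helper3_CharEigen.norm_char_eq_iff ρ z).mpr ⟨c, hc⟩
  have h1 := hmul 1
  rw [mul_one, Representation.char_one] at h1
  rw [h1, norm_mul, Complex.norm_natCast] at hn
  have hpos : (0 : ℝ) < (Module.finrank ℂ (Fin n → ℂ) : ℝ) := by
    have := Cfsg.Agent.Lib.Helper80_CharBasic.irr_dim_pos ρ hirr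
    rw [Module.finrank_fin_fun]
    exact_mod_cast this
  have hc1 : ‖c‖ = 1 := by
    have : (‖c‖ - 1) * (Module.finrank ℂ (Fin n → ℂ) : ℝ) = 0 := by linarith
    rcases mul_eq_zero.mp this with h | h
    · linarith
    · linarith
  rw [Complex.normSq_eq_norm_sq, hc1]
  norm_num

theorem sum_ind_mem_mul (S : Subgroup G) [Fintype S] (F : G → ℝ) :
    ∑ g : G, ind (g ∈ S) * F g = ∑ s : S, F s := by
  classical
  rw [← Finset.sum_subtype (Finset.univ.filter fun g : G => g ∈ S) (by simp) F,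
    Finset.sum_filter]
  refine Finset.sum_congr rfl fun g _ => ?_
  by_cases h : g ∈ S
  · rw [ind_pos h, if_pos h, one_mul]
  · rw [ind_neg h, if_neg h, zero_mul]

theorem sum_ind_mem (S : Subgroup G) [Fintype S] :
    ∑ g : G, ind (g ∈ S) = (Nat.card S : ℝ) := by
  have := sum_ind_mem_mul S (fun _ => 1)
  simp only [mul_one] at this
  rw [this, Finset.sum_const, Finset.card_univ, Nat.card_eq_fintype_card]
  simp

theorem sum_all {χ : G → ℂ} (hχ : Cfsg.IsIrrCharacter G χ) :
    ∑ g : G, Complex.normSq (χ g) = (Nat.card G : ℝ) := by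
  have h := classInner_self_of_isIrrCharacter hχ
  unfold Cfsg.classInner at h
  have hG0 : (Nat.card G : ℂ) ≠ 0 := by
    rw [Nat.cast_ne_zero]; exact Nat.card_pos.ne'
  have h1 : (∑ g : G, χ g * conj (χ g)) = (Nat.card G : ℂ) := by
    field_simp at h
    exact h
  have h2 : ((∑ g : G, Complex.normSq (χ g) : ℝ) : ℂ) = (Nat.card G : ℂ) := by
    rw [← h1]
    push_cast
    refine Finset.sum_congr rfl fun g _ => ?_
    rw [Complex.mul_conj]
  exact_mod_cast h2

theorem sum_center {χ : G → ℂ} (hχ : Cfsg.IsIrrCharacter G χ) :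
    ∑ g : G, ind (g ∈ Subgroup.center G) * Complex.normSq (χ g) =
      (Nat.card (Subgroup.center G) : ℝ) * Complex.normSq (χ 1) := by
  classical
  have : Fintype (Subgroup.center G) := Fintype.ofFinite _
  rw [← sum_ind_mem (Subgroup.center G), Finset.sum_mul]
  refine Finset.sum_congr rfl fun g _ => ?_
  by_cases h : g ∈ Subgroup.center G
  · obtain ⟨c, hc1, hc⟩ := central_mul hχ h
    have := hc 1
    rw [mul_one] at this
    rw [this, Complex.normSq_mul, hc1, one_mul]
  · rw [ind_neg h, zero_mul, zero_mul]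

theorem sum_noncentral {χ : G → ℂ} (hχ : Cfsg.IsIrrCharacter G χ) :
    ∑ g : G, ind (g ∉ Subgroup.center G) * Complex.normSq (χ g) =
      (Nat.card G : ℝ) - (Nat.card (Subgroup.center G) : ℝ) * Complex.normSq (χ 1) := by
  rw [← sum_all hχ, ← sum_center hχ, ← Finset.sum_sub_distrib]
  refine Finset.sum_congr rfl fun g _ => ?_
  by_cases h : g ∈ Subgroup.center G
  · rw [ind_pos h, ind_neg (by tauto)]; ring
  · rw [ind_neg h, ind_pos h]; ring

end central

section main
variable {G : Type*} [Group G] [Fintype G] (H : Subgroup G)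

theorem cnt_mem_normalizer (hone : ∀ g : G, g ∉ Subgroup.center G → ∀ a b : G, Subgroup.centralizer ({g} : Set G) ⊓ H.map (MulAut.conj a).toMonoidHom ≠ ⊥ → Subgroup.centralizer ({g} : Set G) ⊓ H.map (MulAut.conj b).toMonoidHom ≠ ⊥ → H.map (MulAut.conj a).toMonoidHom = H.map (MulAut.conj b).toMonoidHom)
    {g : G} (hc : Cnt H g) : g ∈ Subgroup.normalizer (H : Set G) := by
  by_cases hg : g ∈ Subgroup.center G
  · exact Subgroup.center_le_normalizer _ hg
  · have h1 : Cnt H (g * g * g⁻¹) := by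
      have : g * g * g⁻¹ = g := by group
      rw [this]; exact hc
    have h2 : Cnt H (1 * g * 1⁻¹) := by
      have : 1 * g * 1⁻¹ = g := by group
      rw [this]; exact hc
    have := mem_normalizer_of_map_eq H
      (hone g hg g⁻¹ 1⁻¹ (ne_bot_of_cnt H h1) (ne_bot_of_cnt H h2))
    simpa using this

variable [Fintype H]

/-- the average of `χ` over `H` -/
noncomputable def cH (χ : G → ℂ) : ℂ := (Nat.card H : ℂ)⁻¹ * ∑ h : H, χ h

theorem main_local (hab : ∀ a ∈ H, ∀ b ∈ H, a * b = b * a) (hZ : H ⊓ Subgroup.center G = ⊥)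
    (hone : ∀ g : G, g ∉ Subgroup.center G → ∀ a b : G, Subgroup.centralizer ({g} : Set G) ⊓ H.map (MulAut.conj a).toMonoidHom ≠ ⊥ → Subgroup.centralizer ({g} : Set G) ⊓ H.map (MulAut.conj b).toMonoidHom ≠ ⊥ → H.map (MulAut.conj a).toMonoidHom = H.map (MulAut.conj b).toMonoidHom)
    {χ : G → ℂ} (hχ : Cfsg.IsIrrCharacter G χ) (hker : ∃ h ∈ H, χ h ≠ χ 1) :
    (Nat.card (Subgroup.center G) : ℝ) * (Nat.card H : ℝ) * Complex.normSq (cH H χ) +
      (Nat.card (Subgroup.normalizer (H : Set G)) : ℝ) ≤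
      ∑ g : G, ind (Cnt H g) * Complex.normSq (χ g) := by
  classical
  set N : Subgroup G := Subgroup.normalizer (H : Set G) with hN
  have : Fintype N := Fintype.ofFinite _
  have : Fintype (Subgroup.center G) := Fintype.ofFinite _
  set K : Subgroup N := H.subgroupOf N with hK
  have : Fintype K := Fintype.ofFinite _
  have hKn : K.Normal := Subgroup.normal_in_normalizer
  have hHN : H ≤ N := Subgroup.le_normalizer
  have hZN : Subgroup.center G ≤ N := Subgroup.center_le_normalizer _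
  set ψ : N → ℂ := fun n => χ n with hψdef
  have hψ : Cfsg.IsCharacter N ψ := isCharacter_restrict N (isCharacter_of_isIrrCharacter hχ)
  obtain ⟨h₀, hh₀, hχh₀⟩ := hker
  have hh₀1 : h₀ ≠ 1 := by
    intro h; rw [h] at hχh₀; exact hχh₀ rfl
  -- the deviation is nonzero
  have hne : dev K ψ ≠ 0 := by
    intro h0
    have h1 : ψ = avg K ψ := by
      have : ψ - avg K ψ = 0 := h0
      exact sub_eq_zero.mp this
    have h2 := kerCond_avg K ψ ⟨⟨h₀, hHN hh₀⟩, by rw [hK, Subgroup.mem_subgroupOf]; exact hh₀⟩ 1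
    rw [← h1] at h2
    apply hχh₀
    have h3 : ψ (⟨h₀, hHN hh₀⟩ * 1) = χ h₀ := by
      rw [mul_one]
    have h4 : ψ 1 = χ 1 := rfl
    rw [← h3, ← h4]
    exact h2
  -- apply the local bound
  have hD : ∀ n : N, ¬ Cnt H (n : G) → ∀ k ∈ K, k * n = n * k → k = 1 := by
    intro n hn k hk hkn
    by_contra hk1
    apply hn
    refine ⟨(k : G), ?_, ?_, ?_⟩
    · rw [hK, Subgroup.mem_subgroupOf] at hk; exact hk
    · intro h
      apply hk1
      exact Subtype.ext h
    · have := congrArg Subtype.val hkn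
      simpa using this
  have hloc := local_bound K hψ hne (fun n : N => Cnt H (n : G)) hD
  -- rewrite the right-hand side as a sum over G
  have hR : (∑ g : N, if Cnt H (g : G) then Complex.normSq (ψ g) else 0) =
      ∑ g : G, ind (Cnt H g) * Complex.normSq (χ g) := by
    have e1 : ∑ g : G, ind (Cnt H g) * Complex.normSq (χ g) =
        ∑ g : G, ind (g ∈ N) * (ind (Cnt H g) * Complex.normSq (χ g)) := by
      refine Finset.sum_congr rfl fun g _ => ?_
      by_cases hc : Cnt H g
      · rw [ind_pos (cnt_mem_normalizer H hone hc), one_mul]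
      · rw [ind_neg hc]; ring
    rw [e1, sum_ind_mem_mul N]
    refine Finset.sum_congr rfl fun n _ => ?_
    by_cases hc : Cnt H (n : G)
    · rw [if_pos hc, ind_pos hc, one_mul]
    · rw [if_neg hc, ind_neg hc, zero_mul]
  rw [hR] at hloc
  refine le_trans ?_ hloc
  apply add_le_add_left
  -- the lower bound for the average part
  -- cardinalities
  have hcardK : Nat.card K = Nat.card H :=
    Nat.card_congr (Subgroup.subgroupOfEquivOfLe hHN).toEquiv
  -- the value of the average at z h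
  have hval : ∀ (z : Subgroup.center G) (h : H),
      Complex.normSq (avg K ψ ⟨(z : G) * (h : G), N.mul_mem (hZN z.2) (hHN h.2)⟩) =
        Complex.normSq (cH H χ) := by
    intro z h
    obtain ⟨c, hc1, hc⟩ := central_mul hχ z.2
    have h1 : avg K ψ ⟨(z : G) * (h : G), N.mul_mem (hZN z.2) (hHN h.2)⟩ = c * cH H χ := by
      unfold avg cH
      rw [hcardK]
      have h2 : ∑ k : K, ψ ((k : N) * ⟨(z : G) * (h : G), N.mul_mem (hZN z.2) (hHN h.2)⟩) =
          ∑ h' : H, χ ((h' : G) * ((z : G) * (h : G))) := by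
        apply Fintype.sum_equiv (Subgroup.subgroupOfEquivOfLe hHN).toEquiv
        intro k
        rfl
      rw [h2]
      have h3 : ∑ h' : H, χ ((h' : G) * ((z : G) * (h : G))) = c * ∑ h' : H, χ (h' : G) := by
        rw [Finset.mul_sum]
        apply Fintype.sum_equiv (Equiv.mulRight h)
        intro h'
        have hz : (h' : G) * (z : G) = (z : G) * (h' : G) :=
          (Subgroup.mem_center_iff.mp z.2 (h' : G))
        rw [← mul_assoc, hz, mul_assoc, hc]
        rfl
      rw [h3]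
      ring
    rw [h1, Complex.normSq_mul, hc1, one_mul]
  -- all z h are in `Cnt`
  have hcnt : ∀ (z : Subgroup.center G) (h : H), Cnt H ((z : G) * (h : G)) := by
    intro z h
    refine ⟨h₀, hh₀, hh₀1, ?_⟩
    have hz : h₀ * (z : G) = (z : G) * h₀ := (Subgroup.mem_center_iff.mp z.2 h₀)
    rw [← mul_assoc, hz, mul_assoc, hab h₀ hh₀ h h.2, mul_assoc]
  -- the injection
  let φ : Subgroup.center G × H → N := fun p =>
    ⟨(p.1 : G) * (p.2 : G), N.mul_mem (hZN p.1.2) (hHN p.2.2)⟩
  have hφ : Function.Injective φ := by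
    rintro ⟨z, h⟩ ⟨z', h'⟩ he
    have he' : (z : G) * (h : G) = (z' : G) * (h' : G) := congrArg Subtype.val he
    have h1 : (z' : G)⁻¹ * (z : G) = (h' : G) * (h : G)⁻¹ := by
      calc (z' : G)⁻¹ * (z : G) = (z' : G)⁻¹ * ((z : G) * (h : G)) * (h : G)⁻¹ := by group
        _ = (z' : G)⁻¹ * ((z' : G) * (h' : G)) * (h : G)⁻¹ := by rw [he']
        _ = (h' : G) * (h : G)⁻¹ := by group
    have h2 : (z' : G)⁻¹ * (z : G) ∈ H ⊓ Subgroup.center G := by
      refine ⟨?_, ?_⟩
      · rw [h1]; exact H.mul_mem h'.2 (H.inv_mem h.2)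
      · exact (Subgroup.center G).mul_mem ((Subgroup.center G).inv_mem z'.2) z.2
    rw [hZ, Subgroup.mem_bot] at h2
    have hz : (z : G) = (z' : G) := by
      have : (z : G) = (z' : G) * ((z' : G)⁻¹ * (z : G)) := by group
      rw [this, h2, mul_one]
    have hh : (h : G) = (h' : G) := by
      rw [hz] at he'
      exact mul_left_cancel he'
    exact Prod.ext (Subtype.ext hz) (Subtype.ext hh)
  have hsum : ∑ p : Subgroup.center G × H,
      (if Cnt H ((φ p : N) : G) then Complex.normSq (avg K ψ (φ p)) else 0) =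
      (Nat.card (Subgroup.center G) : ℝ) * (Nat.card H : ℝ) * Complex.normSq (cH H χ) := by
    have : ∀ p : Subgroup.center G × H,
        (if Cnt H ((φ p : N) : G) then Complex.normSq (avg K ψ (φ p)) else 0) =
          Complex.normSq (cH H χ) := by
      intro p
      rw [if_pos (hcnt p.1 p.2)]
      exact hval p.1 p.2
    rw [Finset.sum_congr rfl (fun p _ => this p), Finset.sum_const, Finset.card_univ,
      Fintype.card_prod, nsmul_eq_mul, Nat.card_eq_fintype_card, Nat.card_eq_fintype_card]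
    push_cast
    ring
  rw [← hsum]
  rw [← Finset.sum_image (s := Finset.univ) (g := φ)
    (f := fun n : N => if Cnt H (n : G) then Complex.normSq (avg K ψ n) else 0)
    (fun a _ b _ hab' => hφ hab')]
  apply Finset.sum_le_sum_of_subset_of_nonneg (Finset.subset_univ _)
  intro n _ _
  split_ifs
  · exact Complex.normSq_nonneg _
  · exact le_refl _

/-- **First part**: `|H| · |c|² < χ(1)²`. -/
theorem part1 (hab : ∀ a ∈ H, ∀ b ∈ H, a * b = b * a) (hZ : H ⊓ Subgroup.center G = ⊥)
    (hone : ∀ g : G, g ∉ Subgroup.center G → ∀ a b : G, Subgroup.centralizer ({g} : Set G) ⊓ H.map (MulAut.conj a).toMonoidHom ≠ ⊥ → Subgroup.centralizer ({g} : Set G) ⊓ H.map (MulAut.conj b).toMonoidHom ≠ ⊥ → H.map (MulAut.conj a).toMonoidHom = H.map (MulAut.conj b).toMonoidHom)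
    {χ : G → ℂ} (hχ : Cfsg.IsIrrCharacter G χ) (hker : ∃ h ∈ H, χ h ≠ χ 1) :
    (Nat.card H : ℝ) * Complex.normSq (cH H χ) < Complex.normSq (χ 1) := by
  classical
  have hcf := isClassFunction_of_isCharacter (isCharacter_of_isIrrCharacter hχ)
  have hcount := count H hone (fun g => Complex.normSq (χ g)) (fun g => Complex.normSq_nonneg _)
    (fun x y => by
      show Complex.normSq (χ (x * y * x⁻¹)) = Complex.normSq (χ y)
      rw [hcf y x])
  rw [sum_noncentral hχ] at hcount
  have hloc := main_local H hab hZ hone hχ hker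
  obtain ⟨h₀, hh₀, hχh₀⟩ := hker
  have hh₀1 : h₀ ≠ 1 := by
    intro h; rw [h] at hχh₀; exact hχh₀ rfl
  have hsplit : ∑ g : G, ind (Cnt H g) * Complex.normSq (χ g) =
      ∑ g : G, ind (g ∉ Subgroup.center G) * ind (Cnt H g) * Complex.normSq (χ g) +
        (Nat.card (Subgroup.center G) : ℝ) * Complex.normSq (χ 1) := by
    rw [← sum_center hχ, ← Finset.sum_add_distrib]
    refine Finset.sum_congr rfl fun g _ => ?_
    by_cases hg : g ∈ Subgroup.center G
    · have hc : Cnt H g := by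
        refine ⟨h₀, hh₀, hh₀1, ?_⟩
        exact Subgroup.mem_center_iff.mp hg h₀
      rw [ind_pos hg, ind_neg (p := g ∉ Subgroup.center G) (not_not.mpr hg), ind_pos hc]; ring
    · rw [ind_neg hg, ind_pos hg]; ring
  rw [hsplit] at hloc
  obtain ⟨n, hn, hχ1⟩ := Cfsg.Agent.Lib.Helper3_CharColumn.irr_one_eq_natCast hχ
  have hd2 : 0 < Complex.normSq (χ 1) := by
    rw [hχ1, Complex.normSq_natCast]
    have : (0 : ℝ) < n := by exact_mod_cast hn
    positivity
  have hG : (0 : ℝ) < Nat.card G := by exact_mod_cast Nat.card_pos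
  have hZc : (0 : ℝ) < Nat.card (Subgroup.center G) := by exact_mod_cast Nat.card_pos
  have hNc : (0 : ℝ) < Nat.card (Subgroup.normalizer (H : Set G)) := by
    exact_mod_cast Nat.card_pos
  set S := ∑ g : G, ind (g ∉ Subgroup.center G) * ind (Cnt H g) * Complex.normSq (χ g)
  set G' : ℝ := (Nat.card G : ℝ)
  set Zc : ℝ := (Nat.card (Subgroup.center G) : ℝ)
  set Nc : ℝ := (Nat.card (Subgroup.normalizer (H : Set G)) : ℝ)
  set Hc : ℝ := (Nat.card H : ℝ)
  set c2 : ℝ := Complex.normSq (cH H χ)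
  set d2 : ℝ := Complex.normSq (χ 1)
  have h1 : G' * (Zc * Hc * c2 + Nc - Zc * d2) ≤ G' * S :=
    mul_le_mul_of_nonneg_left (by linarith) hG.le
  have h2 : G' * Zc * (Hc * c2 - d2) ≤ -(Nc * Zc * d2) := by
    have e1 : G' * (Zc * Hc * c2 + Nc - Zc * d2) =
        G' * Zc * (Hc * c2 - d2) + G' * Nc := by ring
    have e2 : Nc * (G' - Zc * d2) = G' * Nc - Nc * Zc * d2 := by ring
    linarith
  have h3 : 0 < Nc * Zc * d2 := by positivity
  by_contra hcon
  have h4 : 0 ≤ Hc * c2 - d2 := by linarith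
  have h5 : 0 ≤ G' * Zc * (Hc * c2 - d2) := mul_nonneg (mul_nonneg hG.le hZc.le) h4
  linarith

omit [Fintype G] in
theorem cH_eq (χ : G → ℂ) :
    Cfsg.classInner (fun h : H => χ h) (fun _ => 1) = cH H χ := by
  unfold Cfsg.classInner cH
  simp

omit [Fintype H] in
theorem exists_ne_of_ne_one (hnormal : ∀ M : Subgroup G, M.Normal → H ≤ M → M = ⊤)
    {β : G → ℂ} (hβ : Cfsg.IsIrrCharacter G β) (hβ1 : β ≠ fun _ => 1) :
    ∃ h ∈ H, β h ≠ β 1 := by
  by_contra hcon
  push Not at hcon
  have hself := classInner_self_of_isIrrCharacter hβ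
  obtain ⟨n, ρ, hirr, rfl⟩ := hβ
  have hker : H ≤ MonoidHom.ker ρ := by
    intro h hh
    rw [MonoidHom.mem_ker]
    have h1 := hcon h hh
    rw [Representation.char_one] at h1
    exact (Cfsg.Agent.Lib.Helper3_CharEigen.char_eq_finrank_iff ρ h).mp h1
  have htop := hnormal _ (MonoidHom.normal_ker ρ) hker
  have hall : ∀ g, ρ.character g = (Module.finrank ℂ (Fin n → ℂ) : ℂ) := by
    intro g
    apply (Cfsg.Agent.Lib.Helper3_CharEigen.char_eq_finrank_iff ρ g).mpr
    have : g ∈ MonoidHom.ker ρ := by rw [htop]; exact Subgroup.mem_top g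
    exact MonoidHom.mem_ker.mp this
  rw [Module.finrank_fin_fun] at hall
  have hG0 : (Nat.card G : ℂ) ≠ 0 := by
    rw [Nat.cast_ne_zero]; exact Nat.card_pos.ne'
  have hnn : (n : ℂ) * n = 1 := by
    unfold Cfsg.classInner at hself
    simp only [hall, Complex.conj_natCast, Finset.sum_const, Finset.card_univ, nsmul_eq_mul,
      ← Nat.card_eq_fintype_card] at hself
    field_simp at hself
    linear_combination hself
  have hn1 : n = 1 := by
    have : n * n = 1 := by exact_mod_cast hnn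
    exact Nat.eq_one_of_mul_eq_one_left this
  apply hβ1
  funext g
  rw [hall g, hn1, Nat.cast_one]

omit [Fintype G] in
theorem cH_sum {ι : Type*} (s : Finset ι) (c : ι → ℂ) (F : ι → G → ℂ) :
    cH H (∑ i ∈ s, c i • F i) = ∑ i ∈ s, c i * cH H (F i) := by
  unfold cH
  simp only [Finset.sum_apply, Pi.smul_apply, smul_eq_mul]
  rw [Finset.sum_comm, Finset.mul_sum]
  refine Finset.sum_congr rfl fun i _ => ?_
  rw [← Finset.mul_sum]
  ring

/-- For abelian `H`, `⟨χ_H, χ_H⟩ ≥ χ(1)`. -/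
theorem norm_res_ge (hab : ∀ a ∈ H, ∀ b ∈ H, a * b = b * a) {χ : G → ℂ}
    (hχ : Cfsg.IsCharacter G χ) :
    ∃ (a : Cfsg.IrrCharacter H → ℕ), χ 1 = ∑ l, (a l : ℂ) ∧
      cH H (fun g => χ g * conj (χ g)) = ∑ l, (a l : ℂ) * (a l : ℂ) := by
  classical
  have hφ : Cfsg.IsCharacter H (fun h : H => χ h) := isCharacter_restrict H hχ
  obtain ⟨a, ha, hsum⟩ := exists_multiplicities hφ
  have hA : ∀ x y : H, x * y = y * x := by
    intro x y
    apply Subtype.ext
    exact hab x x.2 y y.2
  refine ⟨a, ?_, ?_⟩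
  · have h1 := congrFun hsum 1
    simp only [Finset.sum_apply, Pi.smul_apply, smul_eq_mul] at h1
    have h2 : ∀ l : Cfsg.IrrCharacter H, (a l : ℂ) * (l : H → ℂ) 1 = (a l : ℂ) := by
      intro l
      rw [Cfsg.Agent.Lib.Helper17_TIPrime.irr_apply_one_of_comm hA l, mul_one]
    rw [Finset.sum_congr rfl (fun l _ => h2 l)] at h1
    exact h1
  · have h1 := classInner_self_eq_sum (isClassFunction_of_isCharacter hφ)
    have h2 : Cfsg.classInner (fun h : H => χ h) (fun h : H => χ h) =
        cH H (fun g => χ g * conj (χ g)) := by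
      unfold Cfsg.classInner cH
      rfl
    rw [← h2, h1]
    refine Finset.sum_congr rfl fun l _ => ?_
    rw [ha l, Complex.conj_natCast]

/-- **Second part**: `|H| < (1 + χ(1))²` when `χ(1) ≠ 1` and `H` lies in no proper normal
subgroup. -/
theorem part2 (hab : ∀ a ∈ H, ∀ b ∈ H, a * b = b * a) (hZ : H ⊓ Subgroup.center G = ⊥)
    (hone : ∀ g : G, g ∉ Subgroup.center G → ∀ a b : G, Subgroup.centralizer ({g} : Set G) ⊓ H.map (MulAut.conj a).toMonoidHom ≠ ⊥ → Subgroup.centralizer ({g} : Set G) ⊓ H.map (MulAut.conj b).toMonoidHom ≠ ⊥ → H.map (MulAut.conj a).toMonoidHom = H.map (MulAut.conj b).toMonoidHom)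
    {χ : G → ℂ} (hχ : Cfsg.IsIrrCharacter G χ) (hχ1 : χ 1 ≠ 1)
    (hnormal : ∀ M : Subgroup G, M.Normal → H ≤ M → M = ⊤) :
    (Nat.card H : ℝ) < (1 + (χ 1).re) ^ 2 := by
  classical
  obtain ⟨n, hn, hχn⟩ := Cfsg.Agent.Lib.Helper3_CharColumn.irr_one_eq_natCast hχ
  have hn2 : 2 ≤ n := by
    rcases Nat.lt_or_ge n 2 with h | h
    · exfalso
      have : n = 1 := by omega
      apply hχ1
      rw [hχn, this, Nat.cast_one]
    · exact h
  have hχc := isCharacter_of_isIrrCharacter hχ
  set Θ : G → ℂ := fun g => χ g * conj (χ g) with hΘ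
  have hΘc : Cfsg.IsCharacter G Θ := isCharacter_mul hχc (isCharacter_conj hχc)
  obtain ⟨m, hm, hsum⟩ := exists_multiplicities hΘc
  obtain ⟨a, ha1, ha2⟩ := norm_res_ge H hab hχc
  set one := Cfsg.Agent.Lib.Helper80_CharBasic.oneIrr G with hone'
  have hone_apply : ∀ g, (one : G → ℂ) g = 1 := fun g => rfl
  -- multiplicity of the principal character
  have hm1 : m one = 1 := by
    have h1 := hm one
    have h2 : Cfsg.classInner Θ (one : G → ℂ) = Cfsg.classInner χ χ := by
      unfold Cfsg.classInner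
      congr 1
      refine Finset.sum_congr rfl fun g _ => ?_
      rw [hone_apply g, map_one, mul_one]
    rw [h2, classInner_self_of_isIrrCharacter hχ] at h1
    exact_mod_cast h1.symm
  -- evaluation at 1 and average over H
  have hE1 : (n : ℂ) * n = ∑ β : Cfsg.IrrCharacter G, (m β : ℂ) * (β : G → ℂ) 1 := by
    have h1 := congrFun hsum 1
    simp only [Finset.sum_apply, Pi.smul_apply, smul_eq_mul] at h1
    rw [← h1, hΘ]
    simp only [hχn, Complex.conj_natCast]
  have hE2 : cH H Θ = ∑ β : Cfsg.IrrCharacter G, (m β : ℂ) * cH H (β : G → ℂ) := by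
    have h1 : cH H Θ = cH H (∑ β : Cfsg.IrrCharacter G, (m β : ℂ) • (β : G → ℂ)) := by
      rw [← hsum]
    rw [h1]
    exact cH_sum H Finset.univ _ _
  -- real versions
  have hR1 : ((n : ℝ)) * n = ∑ β : Cfsg.IrrCharacter G, (m β : ℝ) * ((β : G → ℂ) 1).re := by
    have h1 := congrArg Complex.re hE1
    rw [Complex.re_sum] at h1
    simp only [Complex.mul_re, Complex.natCast_re, Complex.natCast_im, mul_zero, sub_zero,
      zero_mul] at h1
    exact h1
  have hR2 : (cH H Θ).re = ∑ β : Cfsg.IrrCharacter G, (m β : ℝ) * (cH H (β : G → ℂ)).re := by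
    have h1 := congrArg Complex.re hE2
    rw [Complex.re_sum] at h1
    simp only [Complex.mul_re, Complex.natCast_re, Complex.natCast_im, zero_mul, sub_zero] at h1
    exact h1
  -- A ≥ n
  have hA : (n : ℝ) ≤ (cH H Θ).re := by
    have h1 : (n : ℂ) = ∑ l, (a l : ℂ) := by rw [← hχn]; exact ha1
    have h1' : (n : ℝ) = ∑ l, (a l : ℝ) := by exact_mod_cast h1
    have h2 : (cH H Θ).re = ∑ l, (a l : ℝ) * (a l : ℝ) := by
      have := congrArg Complex.re ha2
      rw [Complex.re_sum] at this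
      simp only [Complex.mul_re, Complex.natCast_re, Complex.natCast_im, mul_zero, sub_zero] at this
      exact this
    rw [h1', h2]
    refine Finset.sum_le_sum fun l _ => ?_
    have : (a l : ℝ) = 0 ∨ (1 : ℝ) ≤ (a l : ℝ) := by
      rcases Nat.eq_zero_or_pos (a l) with h | h
      · left; exact_mod_cast h
      · right; exact_mod_cast h
    rcases this with h | h
    · rw [h]; simp
    · nlinarith
  -- the bound for non-principal constituents
  set s : ℝ := Real.sqrt (Nat.card H) with hs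
  have hs0 : 0 ≤ s := Real.sqrt_nonneg _
  have hss : s * s = (Nat.card H : ℝ) := Real.mul_self_sqrt (Nat.cast_nonneg _)
  have hβ : ∀ β : Cfsg.IrrCharacter G, β ≠ one →
      s * (cH H (β : G → ℂ)).re < ((β : G → ℂ) 1).re := by
    intro β hβ1
    have hne : (β : G → ℂ) ≠ fun _ => 1 := by
      intro h
      apply hβ1
      exact Subtype.ext h
    have hk := exists_ne_of_ne_one H hnormal β.2 hne
    have hp := part1 H hab hZ hone β.2 hk
    obtain ⟨k, hk0, hk1⟩ := Cfsg.Agent.Lib.Helper3_CharColumn.irr_one_eq_natCast β.2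
    rw [hk1, Complex.normSq_natCast] at hp
    rw [hk1, Complex.natCast_re]
    have hkpos : (0 : ℝ) < k := by exact_mod_cast hk0
    have hle : (cH H (β : G → ℂ)).re * (cH H (β : G → ℂ)).re ≤
        Complex.normSq (cH H (β : G → ℂ)) := by
      rw [Complex.normSq_apply]
      nlinarith [mul_self_nonneg (cH H (β : G → ℂ)).im]
    by_contra hcon
    have hge : (k : ℝ) ≤ s * (cH H (β : G → ℂ)).re := by linarith
    have h1 : (k : ℝ) * k ≤ (s * (cH H (β : G → ℂ)).re) * (s * (cH H (β : G → ℂ)).re) :=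
      mul_le_mul hge hge hkpos.le (le_trans hkpos.le hge)
    have h2 : (s * (cH H (β : G → ℂ)).re) * (s * (cH H (β : G → ℂ)).re) =
        (Nat.card H : ℝ) * ((cH H (β : G → ℂ)).re * (cH H (β : G → ℂ)).re) := by
      rw [← hss]; ring
    have h3 : (Nat.card H : ℝ) * ((cH H (β : G → ℂ)).re * (cH H (β : G → ℂ)).re) ≤
        (Nat.card H : ℝ) * Complex.normSq (cH H (β : G → ℂ)) :=
      mul_le_mul_of_nonneg_left hle (Nat.cast_nonneg _)
    linarith
  -- split off the principal character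
  have hone1 : ((one : G → ℂ) 1).re = 1 := by rw [hone_apply]; simp
  have hcone : (cH H (one : G → ℂ)).re = 1 := by
    have : cH H (one : G → ℂ) = 1 := by
      unfold cH
      simp only [hone_apply, Finset.sum_const, Finset.card_univ, nsmul_eq_mul, mul_one,
        ← Nat.card_eq_fintype_card]
      have hH0 : (Nat.card H : ℂ) ≠ 0 := by
        rw [Nat.cast_ne_zero]; exact Nat.card_pos.ne'
      field_simp
    rw [this]; simp
  rw [← Finset.add_sum_erase Finset.univ _ (Finset.mem_univ one), hm1, hone1] at hR1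
  rw [← Finset.add_sum_erase Finset.univ _ (Finset.mem_univ one), hm1, hcone] at hR2
  simp only [Nat.cast_one, mul_one] at hR1 hR2
  -- strict inequality of the sums
  have hnr : (2 : ℝ) ≤ n := by exact_mod_cast hn2
  have hpos : 0 < ∑ β ∈ Finset.univ.erase one, (m β : ℝ) * ((β : G → ℂ) 1).re := by
    nlinarith
  have hex : ∃ β ∈ Finset.univ.erase one, (m β : ℝ) * ((β : G → ℂ) 1).re ≠ 0 := by
    by_contra hcon
    push Not at hcon
    rw [Finset.sum_eq_zero hcon] at hpos
    exact lt_irrefl _ hpos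
  obtain ⟨β₀, hβ₀, hβ₀ne⟩ := hex
  have hmβ₀ : (0 : ℝ) < m β₀ := by
    rcases Nat.eq_zero_or_pos (m β₀) with h | h
    · exfalso; apply hβ₀ne; rw [h]; simp
    · exact_mod_cast h
  have hlt : ∑ β ∈ Finset.univ.erase one, (m β : ℝ) * (s * (cH H (β : G → ℂ)).re) <
      ∑ β ∈ Finset.univ.erase one, (m β : ℝ) * ((β : G → ℂ) 1).re := by
    apply Finset.sum_lt_sum
    · intro β hβm
      exact mul_le_mul_of_nonneg_left (hβ β (Finset.ne_of_mem_erase hβm)).le (Nat.cast_nonneg _)
    · exact ⟨β₀, hβ₀, mul_lt_mul_of_pos_left (hβ β₀ (Finset.ne_of_mem_erase hβ₀)) hmβ₀⟩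
  have hfac : ∑ β ∈ Finset.univ.erase one, (m β : ℝ) * (s * (cH H (β : G → ℂ)).re) =
      s * ∑ β ∈ Finset.univ.erase one, (m β : ℝ) * (cH H (β : G → ℂ)).re := by
    rw [Finset.mul_sum]
    refine Finset.sum_congr rfl fun β _ => ?_
    ring
  rw [hfac] at hlt
  -- conclusion
  have h1 : s * ((n : ℝ) - 1) < (n : ℝ) * n - 1 := by
    have h3 : s * ((n : ℝ) - 1) ≤ s * ((cH H Θ).re - 1) :=
      mul_le_mul_of_nonneg_left (by linarith) hs0
    have h4 : (cH H Θ).re - 1 =
        ∑ β ∈ Finset.univ.erase one, (m β : ℝ) * (cH H (β : G → ℂ)).re := by linarith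
    rw [h4] at h3
    linarith
  have h2 : s < (n : ℝ) + 1 := by
    by_contra hcon
    have : (n : ℝ) + 1 ≤ s := by linarith
    have : ((n : ℝ) + 1) * ((n : ℝ) - 1) ≤ s * ((n : ℝ) - 1) :=
      mul_le_mul_of_nonneg_right this (by linarith)
    nlinarith
  rw [hχn, Complex.natCast_re, ← hss]
  nlinarith

end main

/-- Let H be an abelian subgroup of the finite group G meeting the centre of G trivially, such that for every non-central g the centralizer of g has nontrivial intersection with at most one conjugate of H. Let χ be an irreducible character of G with χ h ≠ χ 1 for some h in H, and let c be the inner product of the restriction of χ to H with the principal character. Then χ(1)² > (order of H)·c²; and if in addition χ 1 ≠ 1 and no proper normal subgroup of G contains H, then (1 + χ 1)² > order of H (both sides read as real numbers). -/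
theorem result {G : Type*} [Group G] [Fintype G] (H : Subgroup G) [Fintype H] (hab : ∀ a ∈ H, ∀ b ∈ H, a * b = b * a) (hZ : H ⊓ Subgroup.center G = ⊥) (hone : ∀ g : G, g ∉ Subgroup.center G → ∀ a b : G, Subgroup.centralizer ({g} : Set G) ⊓ H.map (MulAut.conj a).toMonoidHom ≠ ⊥ → Subgroup.centralizer ({g} : Set G) ⊓ H.map (MulAut.conj b).toMonoidHom ≠ ⊥ → H.map (MulAut.conj a).toMonoidHom = H.map (MulAut.conj b).toMonoidHom) (χ : G → ℂ) (hχ : Cfsg.IsIrrCharacter G χ) (hker : ∃ h ∈ H, χ h ≠ χ 1) : (χ 1).re ^ 2 > (Nat.card H : ℝ) * (Cfsg.classInner (fun h : H => χ h) (fun _ => 1)).re ^ 2 ∧ (χ 1 ≠ 1 → (∀ M : Subgroup G, M.Normal → H ≤ M → M = ⊤) → (1 + (χ 1).re) ^ 2 > (Nat.card H : ℝ)) := by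
  classical
  obtain ⟨n, hn, hχn⟩ := Cfsg.Agent.Lib.Helper3_CharColumn.irr_one_eq_natCast hχ
  refine ⟨?_, ?_⟩
  · have hp := part1 H hab hZ hone hχ hker
    rw [cH_eq H χ, gt_iff_lt]
    rw [hχn, Complex.normSq_natCast] at hp
    rw [hχn, Complex.natCast_re]
    have hle : (cH H χ).re ^ 2 ≤ Complex.normSq (cH H χ) := by
      rw [Complex.normSq_apply]
      nlinarith [mul_self_nonneg (cH H χ).im]
    have h3 : (Nat.card H : ℝ) * (cH H χ).re ^ 2 ≤
        (Nat.card H : ℝ) * Complex.normSq (cH H χ) :=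
      mul_le_mul_of_nonneg_left hle (Nat.cast_nonneg _)
    nlinarith
  · intro hχ1 hnormal
    exact part2 H hab hZ hone hχ hχ1 hnormal

end Cfsg.Agent.S0898
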