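import Cfsg.Statements.S0899
import Cfsg.Agent.Lib.Helper15_MinNonPClosed
import Cfsg.Agent.S0898
import Cfsg.Agent.Lib.Helper74_LinAct

set_option autoImplicit false
open Cfsg

namespace Cfsg.Agent.S0899

open Cfsg.Agent.Lib.Helper15_MinNonPClosed
open Cfsg.Agent.Lib.Helper3_CharBridge Cfsg.Agent.Lib.Helper3_CharOrtho
  Cfsg.Agent.Lib.Helper3_CharComplete Cfsg.Agent.Lib.Helper75_CharArith

universe u

variable {H : Type u} [Group H]

open scoped IsMulCommutative in
/-- Transfer: for an abelian Sylow subgroup `P`, `P ∩ Z(H) ∩ H' = 1`. -/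
theorem center_inf_commutator [Finite H] (p : ℕ) [hp : Fact p.Prime] (P : Sylow p H)
    (hab : ∀ a ∈ (P : Subgroup H), ∀ b ∈ (P : Subgroup H), a * b = b * a)
    (z : H) (hzP : z ∈ (P : Subgroup H)) (hzZ : z ∈ Subgroup.center H)
    (hzC : z ∈ commutator H) : z = 1 := by
  haveI : IsMulCommutative ↥(P : Subgroup H) := ⟨⟨fun a b => Subtype.ext (hab a a.2 b b.2)⟩⟩
  have key : ∀ (k : ℕ) (g₀ : H), g₀⁻¹ * z ^ k * g₀ ∈ (P : Subgroup H) →
      g₀⁻¹ * z ^ k * g₀ = z ^ k := by
    intro k g₀ _
    have hzk : z ^ k ∈ Subgroup.center H := Subgroup.pow_mem _ hzZ k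
    rw [Subgroup.mem_center_iff] at hzk
    rw [mul_assoc, ← hzk g₀, ← mul_assoc, inv_mul_cancel, one_mul]
  have h1 := MonoidHom.transfer_eq_pow (MonoidHom.id ↥(P : Subgroup H)) z key
  have h2 : MonoidHom.transfer (MonoidHom.id ↥(P : Subgroup H)) z = 1 := by
    have := Abelianization.commutator_subset_ker
      (MonoidHom.transfer (MonoidHom.id ↥(P : Subgroup H))) hzC
    exact this
  rw [h2] at h1
  have h3 : z ^ (P : Subgroup H).index = 1 := by
    have := congrArg Subtype.val h1
    simpa using this.symm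
  obtain ⟨j, hj⟩ := P.isPGroup' ⟨z, hzP⟩
  have h4 : z ^ p ^ j = 1 := by
    have := congrArg Subtype.val hj
    simpa using this
  have h5 : orderOf z ∣ (P : Subgroup H).index := orderOf_dvd_of_pow_eq_one h3
  have h6 : orderOf z ∣ p ^ j := orderOf_dvd_of_pow_eq_one h4
  have hcop : Nat.Coprime ((P : Subgroup H).index) (p ^ j) := by
    apply Nat.Coprime.pow_right
    exact ((Nat.Prime.coprime_iff_not_dvd hp.out).2 P.not_dvd_index).symm
  exact orderOf_eq_one_iff.1 (Nat.eq_one_of_dvd_coprimes hcop h5 h6)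

/-- distinct (abelian) Sylow subgroups intersect in the centre, when all proper subgroups are
`p`-closed. -/
theorem inf_le_center [Finite H] (p : ℕ) [Fact p.Prime]
    (hmin : ∀ L : Subgroup H, L ≠ ⊤ → ∀ Q : Sylow p L, (Q : Subgroup L).Normal)
    (hab : ∀ R : Subgroup H, IsPGroup p R → ∀ a ∈ R, ∀ b ∈ R, a * b = b * a)
    (P Q : Sylow p H) (hPQ : P ≠ Q) :
    (P : Subgroup H) ⊓ (Q : Subgroup H) ≤ Subgroup.center H := by
  set D := (P : Subgroup H) ⊓ (Q : Subgroup H) with hD
  set C := Subgroup.centralizer (D : Set H) with hC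
  have hPC : (P : Subgroup H) ≤ C := by
    intro a ha
    rw [hC, Subgroup.mem_centralizer_iff]
    intro d hd
    exact hab _ P.isPGroup' d hd.1 a ha
  have hQC : (Q : Subgroup H) ≤ C := by
    intro a ha
    rw [hC, Subgroup.mem_centralizer_iff]
    intro d hd
    exact hab _ Q.isPGroup' d hd.2 a ha
  by_cases hCtop : C = ⊤
  · intro d hd
    rw [Subgroup.mem_center_iff]
    intro g
    have hg : g ∈ C := by rw [hCtop]; exact Subgroup.mem_top _
    rw [hC, Subgroup.mem_centralizer_iff] at hg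
    exact (hg d hd).symm
  · exfalso
    obtain ⟨U, hUL, hUp, hUn, hUmax⟩ := exists_Op_of_pclosed p C (hmin C hCtop)
    have h1 : U = P := P.is_maximal' hUp (hUmax _ hPC P.isPGroup')
    have h2 : U = Q := Q.is_maximal' hUp (hUmax _ hQC Q.isPGroup')
    exact hPQ (Sylow.ext (h1.symm.trans h2))

/-- a subgroup containing the commutator subgroup is normal -/
theorem normal_of_commutator_le (M : Subgroup H) (hM : commutator H ≤ M) : M.Normal := by
  constructor
  intro m hm g
  have h1 : g * m * g⁻¹ * m⁻¹ ∈ commutator H := by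
    rw [commutator_def]
    exact Subgroup.commutator_mem_commutator (Subgroup.mem_top g) (Subgroup.mem_top m)
  have h2 : g * m * g⁻¹ = (g * m * g⁻¹ * m⁻¹) * m := by group
  rw [h2]
  exact M.mul_mem (hM h1) hm

/-- if a Sylow `p`-subgroup meets a normal subgroup trivially, the normal subgroup is a
`p'`-group -/
theorem coprime_of_inf_eq_bot [Finite H] (p : ℕ) [hp : Fact p.Prime] (P : Sylow p H)
    (K : Subgroup H) (hK : K.Normal) (hPK : (P : Subgroup H) ⊓ K = ⊥) :
    (Nat.card K).Coprime p := by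
  rw [Nat.coprime_comm, Nat.Prime.coprime_iff_not_dvd hp.out]
  intro hdvd
  obtain ⟨k, hk⟩ := exists_prime_orderOf_dvd_card' (G := K) p hdvd
  have hkp : IsPGroup p (Subgroup.zpowers (k : H)) := by
    apply IsPGroup.of_card (n := 1)
    rw [Nat.card_zpowers, Subgroup.orderOf_coe, hk, pow_one]
  obtain ⟨R, hR⟩ := hkp.exists_le_sylow
  obtain ⟨g, hg⟩ := MulAction.exists_smul_eq H R P
  have h1 : (k : H) ∈ (R : Subgroup H) := hR (Subgroup.mem_zpowers _)
  have h2 : g * (k : H) * g⁻¹ ∈ (P : Subgroup H) := by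
    rw [← hg, Sylow.coe_subgroup_smul]
    exact Subgroup.smul_mem_pointwise_smul _ (MulAut.conj g) _ h1
  have h3 : g * (k : H) * g⁻¹ ∈ K := hK.conj_mem _ k.2 g
  have h4 : g * (k : H) * g⁻¹ ∈ (P : Subgroup H) ⊓ K := ⟨h2, h3⟩
  rw [hPK, Subgroup.mem_bot] at h4
  have h5 : (k : H) = 1 := by
    have : (k : H) = g⁻¹ * (g * (k : H) * g⁻¹) * g := by group
    rw [this, h4]; group
  have h6 : k = 1 := Subtype.ext h5
  rw [h6, orderOf_one] at hk
  exact hp.out.one_lt.ne' hk.symm

/-- Case `P ∩ Z(H) = 1`: by the Feit–Thompson lemma S0898 all constituents nontrivial on `P` are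
linear, so `P ∩ H' = 1`. -/
theorem caseI [Finite H] (p : ℕ) [hp : Fact p.Prime]
    (hmin : ∀ L : Subgroup H, L ≠ ⊤ → ∀ Q : Sylow p L, (Q : Subgroup L).Normal)
    (hab : ∀ R : Subgroup H, IsPGroup p R → ∀ a ∈ R, ∀ b ∈ R, a * b = b * a)
    (P : Sylow p H) (hPn : ¬ (P : Subgroup H).Normal)
    (hZ : (P : Subgroup H) ⊓ Subgroup.center H = ⊥)
    (χ : H → ℂ) (hχ : IsCharacter H χ) (hfaith : ∀ g, χ g = χ 1 → g = 1) (n : ℕ)
    (hn : χ 1 = n) (hcase : (n + 1) ^ 2 ≤ Nat.card (P : Subgroup H)) :
    (P : Subgroup H) ⊓ commutator H = ⊥ := by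
  classical
  haveI : Fintype H := Fintype.ofFinite H
  haveI : Fintype (P : Subgroup H) := Fintype.ofFinite _
  -- conjugates of P
  have hconj : ∀ a : H, (P : Subgroup H).map (MulAut.conj a).toMonoidHom =
      ((a • P : Sylow p H) : Subgroup H) := fun a => rfl
  have hZa : ∀ a : H, ((a • P : Sylow p H) : Subgroup H) ⊓ Subgroup.center H = ⊥ := by
    intro a
    rw [eq_bot_iff]
    rintro z ⟨hz1, hz2⟩
    rw [← hconj] at hz1
    obtain ⟨u, hu, rfl⟩ := hz1
    have hz2' : a * u * a⁻¹ ∈ Subgroup.center H := hz2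
    have h1 : a * u * a⁻¹ = u := by
      have := (Subgroup.mem_center_iff.1 hz2') a
      have h2 : a * (a * u * a⁻¹) = a * u := by rw [this]; group
      exact mul_left_cancel h2
    have h3 : u ∈ (P : Subgroup H) ⊓ Subgroup.center H := ⟨hu, by rw [← h1]; exact hz2'⟩
    rw [hZ, Subgroup.mem_bot] at h3
    rw [h3, map_one]
    exact Subgroup.mem_bot.2 rfl
  have hone : ∀ g : H, g ∉ Subgroup.center H → ∀ a b : H,
      Subgroup.centralizer ({g} : Set H) ⊓ (P : Subgroup H).map (MulAut.conj a).toMonoidHom ≠ ⊥ →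
      Subgroup.centralizer ({g} : Set H) ⊓ (P : Subgroup H).map (MulAut.conj b).toMonoidHom ≠ ⊥ →
      (P : Subgroup H).map (MulAut.conj a).toMonoidHom =
        (P : Subgroup H).map (MulAut.conj b).toMonoidHom := by
    intro g hg a b ha hb
    have hCne : Subgroup.centralizer ({g} : Set H) ≠ ⊤ := by
      intro htop
      apply hg
      rw [Subgroup.mem_center_iff]
      intro y
      have : y ∈ Subgroup.centralizer ({g} : Set H) := by rw [htop]; exact Subgroup.mem_top _
      rw [Subgroup.mem_centralizer_iff] at this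
      exact (this g rfl).symm
    obtain ⟨U, hUL, hUp, hUn, hUmax⟩ := exists_Op_of_pclosed p _ (hmin _ hCne)
    obtain ⟨R, hR⟩ := hUp.exists_le_sylow
    have key : ∀ c : H,
        Subgroup.centralizer ({g} : Set H) ⊓ (P : Subgroup H).map (MulAut.conj c).toMonoidHom ≠ ⊥ →
        (c • P : Sylow p H) = R := by
      intro c hc
      by_contra hne
      apply hc
      rw [eq_bot_iff]
      have h1 : Subgroup.centralizer ({g} : Set H) ⊓
          (P : Subgroup H).map (MulAut.conj c).toMonoidHom ≤ U := by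
        apply hUmax _ inf_le_left
        rw [hconj]
        exact (c • P : Sylow p H).isPGroup'.to_le inf_le_right
      have h2 := inf_le_center p hmin hab (c • P) R hne
      intro y hy
      have h3 : y ∈ ((c • P : Sylow p H) : Subgroup H) ⊓ Subgroup.center H := by
        refine ⟨?_, h2 ⟨?_, hR (h1 hy)⟩⟩
        · rw [← hconj]; exact hy.2
        · rw [← hconj]; exact hy.2
      rw [hZa c] at h3
      exact h3
    rw [hconj, hconj, key a ha, key b hb]
  have hnorm : ∀ M : Subgroup H, M.Normal → (P : Subgroup H) ≤ M → M = ⊤ := by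
    intro M hM hPM
    by_contra hne
    exact hPn (normal_of_le_normal_proper p hmin P M hM hne hPM)
  obtain ⟨m, d, hm, hd, hd1, hsum⟩ := exists_decomp hχ
  have hnsum := degree_eq_sum m d hd hsum n hn
  rw [eq_bot_iff]
  rintro h ⟨hhP, hhC⟩
  rw [Subgroup.mem_bot]
  apply hfaith
  rw [hsum h, hsum 1]
  apply Finset.sum_congr rfl
  intro ψ _
  rcases Nat.eq_zero_or_pos (m ψ) with hm0 | hmpos
  · rw [hm0]; simp
  congr 1
  by_cases hker : ∃ y ∈ (P : Subgroup H), (ψ : H → ℂ) y ≠ (ψ : H → ℂ) 1
  · have hS := (Cfsg.Agent.S0898.result (P : Subgroup H)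
      (hab _ P.isPGroup') hZ hone (ψ : H → ℂ) ψ.2 hker).2
    have hlin : (ψ : H → ℂ) 1 = 1 := by
      by_contra hne1
      have h1 := hS hne1 hnorm
      rw [hd ψ] at h1
      simp only [Complex.natCast_re] at h1
      have hdn : d ψ ≤ n := by
        rw [hnsum]
        calc d ψ ≤ m ψ * d ψ := Nat.le_mul_of_pos_left _ hmpos
          _ ≤ ∑ χ : IrrCharacter H, m χ * d χ :=
            Finset.single_le_sum (f := fun χ => m χ * d χ) (fun _ _ => Nat.zero_le _)
              (Finset.mem_univ ψ)
      have h2 : ((1 + d ψ : ℕ) : ℝ) ^ 2 > (Nat.card (P : Subgroup H) : ℝ) := by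
        push_cast; exact h1
      have h3 : Nat.card (P : Subgroup H) < (1 + d ψ) ^ 2 := by exact_mod_cast h2
      have h4 : (1 + d ψ) ^ 2 ≤ (n + 1) ^ 2 := Nat.pow_le_pow_left (by omega) 2
      omega
    obtain ⟨f, hf⟩ := Cfsg.Agent.Lib.Helper74_LinAct.exists_lin_of_one hlin
    rw [hf]
    have h1 : h ∈ f.ker := Abelianization.commutator_subset_ker f hhC
    rw [MonoidHom.mem_ker] at h1
    simp [h1]
  · push Not at hker
    exact hker h hhP


/-- Case `P ∩ Z(H) ≠ 1`: by transfer `H' < H`, and then `P ∩ H' = 1`. -/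
theorem caseII [Finite H] (p : ℕ) [hp : Fact p.Prime]
    (hmin : ∀ L : Subgroup H, L ≠ ⊤ → ∀ Q : Sylow p L, (Q : Subgroup L).Normal)
    (hab : ∀ R : Subgroup H, IsPGroup p R → ∀ a ∈ R, ∀ b ∈ R, a * b = b * a)
    (P : Sylow p H) (hPn : ¬ (P : Subgroup H).Normal)
    (hZ : (P : Subgroup H) ⊓ Subgroup.center H ≠ ⊥) :
    (P : Subgroup H) ⊓ commutator H = ⊥ := by
  set K := commutator H with hK
  have hKn : K.Normal := normal_of_commutator_le K le_rfl
  have hKne : K ≠ ⊤ := by
    intro htop
    apply hZ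
    rw [eq_bot_iff]
    rintro z ⟨hz1, hz2⟩
    rw [Subgroup.mem_bot]
    exact center_inf_commutator p P (hab _ P.isPGroup') z hz1 hz2 (by rw [← hK, htop]; exact Subgroup.mem_top _)
  obtain ⟨U, hUK, hUp, hUn, hUmax⟩ := exists_Op_of_pclosed p K (hmin K hKne)
  have hUnorm : U.Normal := by
    constructor
    intro u hu g
    have hA : U.map (MulAut.conj g).toMonoidHom ≤ U := by
      apply hUmax _ _ (hUp.map _)
      rintro _ ⟨v, hv, rfl⟩
      exact hKn.conj_mem v (hUK hv) g
    exact hA ⟨u, hu, rfl⟩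
  have hUle : ∀ R : Sylow p H, U ≤ (R : Subgroup H) := by
    intro R
    haveI := hUnorm
    have h1 : IsPGroup p ((R : Subgroup H) ⊔ U : Subgroup H) :=
      IsPGroup.to_sup_of_normal_right R.isPGroup' hUp
    have h2 := R.is_maximal' h1 le_sup_left
    rw [← h2]
    exact le_sup_right
  have hQ : ∃ Q : Sylow p H, P ≠ Q := by
    by_contra hcon
    push Not at hcon
    haveI : Subsingleton (Sylow p H) := ⟨fun a b => (hcon a).symm.trans (hcon b)⟩
    exact hPn (Sylow.normal_of_subsingleton P)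
  obtain ⟨Q, hPQ⟩ := hQ
  have hUbot : U = ⊥ := by
    rw [eq_bot_iff]
    intro u hu
    rw [Subgroup.mem_bot]
    have hc := inf_le_center p hmin hab P Q hPQ ⟨hUle P hu, hUle Q hu⟩
    exact center_inf_commutator p P (hab _ P.isPGroup') u (hUle P hu) hc (hUK hu)
  rw [eq_bot_iff, ← hUbot]
  exact hUmax _ inf_le_right (P.isPGroup'.to_le inf_le_left)

/-- **Main theorem** for a group all of whose proper subgroups are `p`-closed. -/
theorem main [Finite H] (p : ℕ) [hp : Fact p.Prime] (χ : H → ℂ) (hχ : IsCharacter H χ)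
    (hfaith : ∀ g, χ g = χ 1 → g = 1) (n : ℕ) (hn : χ 1 = n) (hnp : n + 1 < p)
    (hmin : ∀ L : Subgroup H, L ≠ ⊤ → ∀ Q : Sylow p L, (Q : Subgroup L).Normal)
    (hcase : (n + 1) ^ 2 ≤ p ∨ p ^ 2 ∣ Nat.card H) :
    ∀ P : Sylow p H, (P : Subgroup H).Normal := by
  intro P
  by_contra hPn
  have hab : ∀ R : Subgroup H, IsPGroup p R → ∀ a ∈ R, ∀ b ∈ R, a * b = b * a :=
    fun R hR => comm_of_faithful_lt p χ hχ hfaith n hn (by omega) R hR
  have hcard := P.card_eq_multiplicity
  have hPcase : (n + 1) ^ 2 ≤ Nat.card (P : Subgroup H) := by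
    rw [hcard]
    rcases hcase with h | h
    · have h1 : (Nat.card H).factorization p ≠ 0 := by
        intro h0
        rw [h0, pow_zero] at hcard
        apply hPn
        have : (P : Subgroup H) = ⊥ := Subgroup.card_eq_one.1 hcard
        rw [this]
        infer_instance
      calc (n + 1) ^ 2 ≤ p := h
        _ = p ^ 1 := (pow_one p).symm
        _ ≤ p ^ (Nat.card H).factorization p :=
          Nat.pow_le_pow_right hp.out.pos (Nat.one_le_iff_ne_zero.2 h1)
    · have h1 : 2 ≤ (Nat.card H).factorization p :=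
        (hp.out.pow_dvd_iff_le_factorization Nat.card_pos.ne').1 h
      calc (n + 1) ^ 2 ≤ p ^ 2 := Nat.pow_le_pow_left (by omega) 2
        _ ≤ p ^ (Nat.card H).factorization p := Nat.pow_le_pow_right hp.out.pos h1
  have hinf : (P : Subgroup H) ⊓ commutator H = ⊥ := by
    by_cases hZ : (P : Subgroup H) ⊓ Subgroup.center H = ⊥
    · exact caseI p hmin hab P hPn hZ χ hχ hfaith n hn hPcase
    · exact caseII p hmin hab P hPn hZ
  have hKn : (commutator H).Normal := normal_of_commutator_le _ le_rfl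
  have hKp := coprime_of_inf_eq_bot p P (commutator H) hKn hinf
  have hKP : commutator H ⊔ (P : Subgroup H) = ⊤ := by
    by_contra hne
    exact hPn (normal_of_le_normal_proper p hmin P _
      (normal_of_commutator_le _ le_sup_left) hne le_sup_right)
  have := (endgame p hmin (commutator H) hKn hKp (P : Subgroup H) P.isPGroup' hKP hPn χ hχ
    hfaith n hn (by omega)).1
  omega

/-- `p`-closedness transfers along isomorphisms -/
theorem pclosed_of_equiv {A B : Type*} [Group A] [Group B] [Finite A] (p : ℕ) [Fact p.Prime]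
    (e : A ≃* B) (h : ∀ Q' : Sylow p B, (Q' : Subgroup B).Normal) :
    ∀ Q : Sylow p A, (Q : Subgroup A).Normal := by
  intro Q
  have h1 : ((Q : Subgroup A).map e.toMonoidHom).Normal :=
    h (Q.mapSurjective (f := e.toMonoidHom) e.surjective)
  have h2 : ((Q : Subgroup A).map e.toMonoidHom).comap e.toMonoidHom = (Q : Subgroup A) :=
    Subgroup.comap_map_eq_self_of_injective e.injective _
  rw [← h2]
  exact Subgroup.Normal.comap h1 _

/-- Let G be a finite group with a faithful complex representation of degree n (on Fin n → ℂ) and p a prime. Suppose either that (n + 1) ^ 2 ≤ p, or that n + 1 < p and every subgroup of G whose order is not divisible by p ^ 2 has a normal Sylow p-subgroup. Then every Sylow p-subgroup of G is normal. -/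
theorem result {G : Type*} [Group G] [Finite G] (n : ℕ) (ρ : Representation ℂ G (Fin n → ℂ)) (hρ : Function.Injective ρ) (p : ℕ) [Fact p.Prime] (h : (n + 1) ^ 2 ≤ p ∨ (n + 1 < p ∧ ∀ K : Subgroup G, ¬ p ^ 2 ∣ Nat.card K → ∀ Q : Sylow p K, (Q : Subgroup K).Normal)) (P : Sylow p G) : (P : Subgroup G).Normal := by
  classical
  have hp := (Fact.out : p.Prime)
  have hnp : n + 1 < p := by
    rcases h with h | h
    · have : n + 1 < (n + 1) ^ 2 ∨ n = 0 := by
        rcases Nat.eq_zero_or_pos n with h0 | h0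
        · right; exact h0
        · left; nlinarith
      rcases this with h1 | h1
      · omega
      · have := hp.two_le; omega
    · exact h.1
  -- the character
  set χ : G → ℂ := ρ.character with hχdef
  have hχ : IsCharacter G χ := ⟨n, ρ, rfl⟩
  have hχ1 : χ 1 = n := by
    rw [hχdef, Representation.char_one, Module.finrank_fin_fun]
  have hfaith : ∀ g : G, χ g = χ 1 → g = 1 := by
    intro g hg
    rw [hχ1] at hg
    have h1 : ρ.character g = (Module.finrank ℂ (Fin n → ℂ) : ℂ) := by
      rw [Module.finrank_fin_fun]; exact hg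
    have h2 := (Cfsg.Agent.Lib.Helper3_CharEigen.char_eq_finrank_iff ρ g).1 h1
    apply hρ
    rw [h2, map_one]
    rfl
  have key : ∀ N : ℕ, ∀ K : Subgroup G, Nat.card K = N →
      ∀ Q : Sylow p K, (Q : Subgroup K).Normal := by
    intro N
    induction N using Nat.strong_induction_on with
    | _ N ih =>
      intro K hK
      by_cases hdirect : ¬ p ^ 2 ∣ Nat.card K ∧ ∃ hb : (n + 1 < p ∧ ∀ K : Subgroup G,
          ¬ p ^ 2 ∣ Nat.card K → ∀ Q : Sylow p K, (Q : Subgroup K).Normal), True
      · obtain ⟨h1, hb, -⟩ := hdirect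
        exact hb.2 K h1
      · have hcase : (n + 1) ^ 2 ≤ p ∨ p ^ 2 ∣ Nat.card K := by
          rcases h with h | h
          · left; exact h
          · right
            by_contra hnd
            exact hdirect ⟨hnd, h, trivial⟩
        have hmin : ∀ L : Subgroup K, L ≠ ⊤ → ∀ Q : Sylow p L, (Q : Subgroup L).Normal := by
          intro L hL
          have hlt : Nat.card (L.map K.subtype) < N := by
            rw [← hK, Subgroup.card_map_of_injective K.subtype_injective]
            exact lt_of_le_of_ne (Subgroup.card_le_card_group L)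
              (fun h => hL (Subgroup.eq_top_of_card_eq L h))
          have h1 := ih _ hlt (L.map K.subtype) rfl
          exact pclosed_of_equiv p (L.equivMapOfInjective K.subtype K.subtype_injective) h1
        exact main p (fun k : K => χ k) (isCharacter_restrict K hχ)
          (fun g hg => Subtype.ext (hfaith _ hg)) n hχ1 hnp hmin hcase
  have h1 := key _ ⊤ rfl
  exact pclosed_of_equiv p Subgroup.topEquiv.symm h1 P

end Cfsg.Agent.S0899
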