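import Cfsg.Statements.S0900
import Cfsg.Agent.Lib.Helper75_Clifford
import Cfsg.Agent.Lib.Helper3_CharColumn
import Mathlib

set_option autoImplicit false
open Cfsg

namespace Cfsg.Agent.S0900

open scoped ComplexConjugate
open Cfsg.Agent.Lib.Helper3_CharBridge Cfsg.Agent.Lib.Helper3_CharOrtho
  Cfsg.Agent.Lib.Helper3_CharComplete Cfsg.Agent.Lib.Helper3_CharColumn
  Cfsg.Agent.Lib.Helper75_Induced Cfsg.Agent.Lib.Helper75_IndChar Cfsg.Agent.Lib.Helper75_CharArith
  Cfsg.Agent.Lib.Helper75_Clifford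

/-- `∑ |χ(g)|² = |G|` for an irreducible character -/
theorem sum_normSq_irr {G : Type*} [Group G] [Fintype G] (χ : G → ℂ)
    (hχ : Cfsg.IsIrrCharacter G χ) : ∑ g : G, Complex.normSq (χ g) = (Nat.card G : ℝ) := by
  have h1 := classInner_self_of_isIrrCharacter hχ
  rw [Cfsg.classInner] at h1
  have hG : (Nat.card G : ℂ) ≠ 0 := card_ne_zero_complex
  have h2 : ∑ g : G, χ g * conj (χ g) = (Nat.card G : ℂ) := by
    field_simp at h1
    exact h1
  have : ((∑ g : G, Complex.normSq (χ g) : ℝ) : ℂ) = ((Nat.card G : ℝ) : ℂ) := by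
    push_cast
    rw [← h2]
    exact Finset.sum_congr rfl (fun g _ => (Complex.mul_conj (χ g)).symm)
  exact_mod_cast this

/-- value of an induced function at the identity -/
theorem indFun_one {G : Type*} [Group G] [Fintype G] (H : Subgroup G) (θ : H → ℂ) :
    Cfsg.indFun H θ 1 = (Nat.card H : ℂ)⁻¹ * (Nat.card G : ℂ) * θ 1 := by
  rw [indFun_apply]
  have : ∀ x : G, Cfsg.extendByZero H θ (x⁻¹ * 1 * x) = θ 1 := by
    intro x
    rw [mul_one, inv_mul_cancel]
    exact extendByZero_of_mem H θ H.one_mem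
  simp_rw [this]
  rw [Finset.sum_const, Finset.card_univ, nsmul_eq_mul, Nat.card_eq_fintype_card (α := G)]
  ring

/-- the sum of `|χ|²` over a subgroup, for `χ` restricting to a multiple of an irreducible -/
theorem sum_normSq_subgroup {G : Type*} [Group G] (N : Subgroup G) [Fintype N]
    (χ : G → ℂ) (ϑ : N → ℂ) (hϑ : Cfsg.IsIrrCharacter N ϑ) (e : ℕ)
    (hres : (fun n : N => χ n) = (e : ℂ) • ϑ) :
    ∑ n : N, Complex.normSq (χ n) = (e : ℝ) ^ 2 * (Nat.card N : ℝ) := by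
  have h1 := sum_normSq_irr ϑ hϑ
  have h2 : ∀ n : N, Complex.normSq (χ n) = (e : ℝ) ^ 2 * Complex.normSq (ϑ n) := by
    intro n
    have := congrFun hres n
    simp only [Pi.smul_apply, smul_eq_mul] at this
    rw [this, Complex.normSq_mul, Complex.normSq_natCast]
    ring
  simp_rw [h2]
  rw [← Finset.mul_sum, h1]

open Classical in
/-- splitting a sum over `G` into the part on `N` and the rest -/
theorem sum_split_subgroup {G : Type*} [Group G] [Fintype G] (N : Subgroup G) [Fintype N]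
    (f : G → ℝ) :
    ∑ g : G, f g = ∑ n : N, f n + ∑ g : G, (if g ∈ N then 0 else f g) := by
  have h1 : ∑ g : G, f g = ∑ g : G, ((if g ∈ N then f g else 0) + (if g ∈ N then 0 else f g)) := by
    apply Finset.sum_congr rfl
    intro g _
    split_ifs <;> simp
  rw [h1, Finset.sum_add_distrib]
  congr 1
  rw [← Finset.sum_filter]
  symm
  apply Finset.sum_bij (fun (n : N) _ => (n : G))
  · intro n _
    simp
  · intro a _ b _ hab
    exact Subtype.ext hab
  · intro g hg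
    rw [Finset.mem_filter] at hg
    exact ⟨⟨g, hg.2⟩, Finset.mem_univ _, rfl⟩
  · intro n _
    rfl

/-- restriction a nonzero multiple of `ϑ` forces `ϑ` to be invariant -/
theorem inv_of_res {G : Type*} [Group G] (N : Subgroup G) [hN : N.Normal] (χ : G → ℂ)
    (hχ : Cfsg.IsClassFunction G χ) (ϑ : N → ℂ) (e : ℕ) (he : e ≠ 0)
    (hres : (fun n : N => χ n) = (e : ℂ) • ϑ) (g : G) (n : N) :
    ϑ ⟨g * n * g⁻¹, hN.conj_mem (n : G) n.2 g⟩ = ϑ n := by
  have h1 := congrFun hres ⟨g * n * g⁻¹, hN.conj_mem (n : G) n.2 g⟩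
  have h2 := congrFun hres n
  simp only [Pi.smul_apply, smul_eq_mul] at h1 h2
  rw [hχ n g, h2] at h1
  have he' : (e : ℂ) ≠ 0 := by exact_mod_cast he
  exact (mul_left_cancel₀ he' h1).symm

/-- for invariant `ϑ` the restriction is a natural multiple of `ϑ` -/
theorem res_of_inv {G : Type*} [Group G] [Fintype G] (N : Subgroup G) [hN : N.Normal] [Fintype N]
    (χ : G → ℂ) (hχ : Cfsg.IsIrrCharacter G χ) (ϑ : N → ℂ) (hϑ : Cfsg.IsIrrCharacter N ϑ)
    (hcon : Cfsg.classInner (fun n : N => χ n) ϑ ≠ 0)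
    (hinv : ∀ (g : G) (n : N), ϑ ⟨g * n * g⁻¹, hN.conj_mem (n : G) n.2 g⟩ = ϑ n) :
    ∃ e : ℕ, e ≠ 0 ∧ (fun n : N => χ n) = (e : ℂ) • ϑ ∧
      Cfsg.classInner (fun n : N => χ n) ϑ = e := by
  obtain ⟨k, hk⟩ := classInner_isCharacter_nat
    (isCharacter_restrict N (isCharacter_of_isIrrCharacter hχ)) (isCharacter_of_isIrrCharacter hϑ)
  have hcl := clifford N hN hχ hϑ hcon
  have hset : {ψ : N → ℂ | ∃ g : G, ψ = conjFun N hN ϑ g} = {ϑ} := by
    ext ψ
    simp only [Set.mem_ofPred_eq, Set.mem_singleton_iff]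
    constructor
    · rintro ⟨g, rfl⟩
      funext n
      exact hinv g n
    · intro h
      refine ⟨1, ?_⟩
      rw [h, conjFun_one]
  rw [hset, finsum_mem_singleton] at hcl
  refine ⟨k, ?_, ?_, hk⟩
  · intro h0
    apply hcon
    rw [hk, h0]; simp
  · have : (fun n : N => χ n) = Cfsg.classInner (fun n : N => χ n) ϑ • ϑ := hcl
    rw [hk] at this
    exact this

/-- Let N be a normal subgroup of the finite group G, χ an irreducible character of G and ϑ an irreducible character of N having nonzero inner product with the restriction of χ. Consider: (a) the restriction of χ to N is e • ϑ for a natural number e with e ^ 2 equal to the index of N; (b) χ vanishes outside N and ϑ is invariant under conjugation by G; (c) ϑ is invariant and every irreducible character of G having nonzero inner product with the function induced from ϑ equals χ. Then (a) ↔ (b) and (a) ↔ (c). -/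
theorem result {G : Type*} [Group G] [Fintype G] (N : Subgroup G) [hN : N.Normal] [Fintype N] (χ : G → ℂ) (hχ : Cfsg.IsIrrCharacter G χ) (ϑ : N → ℂ) (hϑ : Cfsg.IsIrrCharacter N ϑ) (hcon : Cfsg.classInner (fun n : N => χ n) ϑ ≠ 0) : ((∃ e : ℕ, (fun n : N => χ n) = (e : ℂ) • ϑ ∧ e ^ 2 = N.index) ↔ ((∀ g : G, g ∉ N → χ g = 0) ∧ ∀ (g : G) (n : N), ϑ ⟨g * n * g⁻¹, hN.conj_mem (n : G) n.2 g⟩ = ϑ n)) ∧ ((∃ e : ℕ, (fun n : N => χ n) = (e : ℂ) • ϑ ∧ e ^ 2 = N.index) ↔ (∀ (g : G) (n : N), ϑ ⟨g * n * g⁻¹, hN.conj_mem (n : G) n.2 g⟩ = ϑ n ∧ ∀ ψ : G → ℂ, Cfsg.IsIrrCharacter G ψ → Cfsg.classInner (Cfsg.indFun N ϑ) ψ ≠ 0 → ψ = χ)) := by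
  classical
  have hχcf := isClassFunction_of_isIrrCharacter hχ
  have hidx0 : N.index ≠ 0 := Subgroup.index_ne_zero_of_finite
  have hcardR : (Nat.card N : ℝ) * (N.index : ℝ) = (Nat.card G : ℝ) := by
    exact_mod_cast Subgroup.card_mul_index N
  have hN0 : (Nat.card N : ℝ) ≠ 0 := by exact_mod_cast Nat.card_pos.ne'
  have hsG := sum_normSq_irr χ hχ
  have hsplit := sum_split_subgroup N (fun g => Complex.normSq (χ g))
  -- (a) → invariance
  have hAinv : (∃ e : ℕ, (fun n : N => χ n) = (e : ℂ) • ϑ ∧ e ^ 2 = N.index) →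
      ∀ (g : G) (n : N), ϑ ⟨g * n * g⁻¹, hN.conj_mem (n : G) n.2 g⟩ = ϑ n := by
    rintro ⟨e, hres, he⟩ g n
    have he0 : e ≠ 0 := by
      intro h; rw [h] at he; exact hidx0 (by simpa using he.symm)
    exact inv_of_res N χ hχcf ϑ e he0 hres g n
  -- (a) → vanishing
  have hAvan : (∃ e : ℕ, (fun n : N => χ n) = (e : ℂ) • ϑ ∧ e ^ 2 = N.index) →
      ∀ g : G, g ∉ N → χ g = 0 := by
    rintro ⟨e, hres, he⟩ g hg
    have h2 := sum_normSq_subgroup N χ ϑ hϑ e hres
    have h4 : ∑ g : G, (if g ∈ N then 0 else Complex.normSq (χ g)) = 0 := by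
      rw [hsG, h2] at hsplit
      have : (e : ℝ) ^ 2 * (Nat.card N : ℝ) = (Nat.card G : ℝ) := by
        rw [← hcardR]
        have : ((e ^ 2 : ℕ) : ℝ) = (N.index : ℝ) := by rw [he]
        push_cast at this
        rw [this]; ring
      linarith
    have h5 := (Finset.sum_eq_zero_iff_of_nonneg (fun g _ => by
      split_ifs
      · exact le_rfl
      · exact Complex.normSq_nonneg _)).mp h4 g (Finset.mem_univ g)
    rw [if_neg hg] at h5
    exact Complex.normSq_eq_zero.mp h5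
  -- (b) → (a)
  have hBA : ((∀ g : G, g ∉ N → χ g = 0) ∧
      ∀ (g : G) (n : N), ϑ ⟨g * n * g⁻¹, hN.conj_mem (n : G) n.2 g⟩ = ϑ n) →
      ∃ e : ℕ, (fun n : N => χ n) = (e : ℂ) • ϑ ∧ e ^ 2 = N.index := by
    rintro ⟨hv, hinv⟩
    obtain ⟨e, he0, hres, _⟩ := res_of_inv N χ hχ ϑ hϑ hcon hinv
    refine ⟨e, hres, ?_⟩
    have h2 := sum_normSq_subgroup N χ ϑ hϑ e hres
    have h4 : ∑ g : G, (if g ∈ N then 0 else Complex.normSq (χ g)) = 0 := by
      apply Finset.sum_eq_zero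
      intro g _
      split_ifs with h
      · rfl
      · rw [hv g h]; simp
    rw [hsG, h2, h4, add_zero] at hsplit
    have h6 : ((e ^ 2 : ℕ) : ℝ) = (N.index : ℝ) := by
      push_cast
      apply mul_left_cancel₀ hN0
      rw [hcardR, hsplit]; ring
    exact_mod_cast h6
  -- degrees and multiplicities for the induced character
  obtain ⟨t, htpos, ht⟩ := irr_one_eq_natCast hϑ
  have hΘchar : Cfsg.IsCharacter G (Cfsg.indFun N ϑ) :=
    isCharacter_indFun N (isCharacter_of_isIrrCharacter hϑ)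
  have hΘcf := isClassFunction_indFun N ϑ
  choose m hm using fun ψ : Cfsg.IrrCharacter G =>
    classInner_isCharacter_nat hΘchar (isCharacter_of_isIrrCharacter ψ.2)
  choose d hdpos hd using fun ψ : Cfsg.IrrCharacter G => irr_one_eq_natCast ψ.2
  have hdecomp := classFunction_eq_sum (Cfsg.indFun N ϑ) hΘcf
  have hΘ1 : Cfsg.indFun N ϑ 1 = ((N.index * t : ℕ) : ℂ) := by
    rw [indFun_one, ht]
    have hN0' : (Nat.card N : ℂ) ≠ 0 := by exact_mod_cast Nat.card_pos.ne'
    have : (Nat.card G : ℂ) = (Nat.card N : ℂ) * (N.index : ℂ) := by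
      exact_mod_cast (Subgroup.card_mul_index N).symm
    rw [this]
    push_cast
    field_simp
  have hdeg : ∑ ψ : Cfsg.IrrCharacter G, m ψ * d ψ = N.index * t := by
    have h1 := congrFun hdecomp 1
    rw [Finset.sum_apply, hΘ1] at h1
    simp only [Pi.smul_apply, smul_eq_mul, hm, hd] at h1
    exact_mod_cast h1.symm
  set χ' : Cfsg.IrrCharacter G := ⟨χ, hχ⟩ with hχ'
  have hmχ : ∀ e : ℕ, (fun n : N => χ n) = (e : ℂ) • ϑ → m χ' = e := by
    intro e hres
    have h1 := frobenius_reciprocity N ϑ χ hχcf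
    have h2 : Cfsg.classInner (Cfsg.indFun N ϑ) χ = m χ' := hm χ'
    rw [h2, hres, classInner_smul_right, classInner_self_of_isIrrCharacter hϑ] at h1
    simp only [Complex.conj_natCast, mul_one] at h1
    exact_mod_cast h1
  have hdχ : ∀ e : ℕ, (fun n : N => χ n) = (e : ℂ) • ϑ → d χ' = e * t := by
    intro e hres
    have h1 := congrFun hres 1
    simp only [Pi.smul_apply, smul_eq_mul] at h1
    have h2 : χ 1 = d χ' := hd χ'
    have h3 : χ ((1 : N) : G) = χ 1 := rfl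
    rw [h3, h2, ht] at h1
    exact_mod_cast h1
  -- (a) → uniqueness
  have hAuniq : (∃ e : ℕ, (fun n : N => χ n) = (e : ℂ) • ϑ ∧ e ^ 2 = N.index) →
      ∀ ψ : G → ℂ, Cfsg.IsIrrCharacter G ψ → Cfsg.classInner (Cfsg.indFun N ϑ) ψ ≠ 0 → ψ = χ := by
    rintro ⟨e, hres, he⟩ ψ hψ hne
    by_contra hψχ
    have hne' : (⟨ψ, hψ⟩ : Cfsg.IrrCharacter G) ≠ χ' := fun h => hψχ (congrArg Subtype.val h)
    have hsplit2 := Finset.add_sum_erase Finset.univ (fun ψ => m ψ * d ψ) (Finset.mem_univ χ')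
    rw [hdeg, hmχ e hres, hdχ e hres, ← he] at hsplit2
    have hrest : ∑ ψ ∈ Finset.univ.erase χ', m ψ * d ψ = 0 := by
      have : e * (e * t) = e ^ 2 * t := by ring
      omega
    have := (Finset.sum_eq_zero_iff.mp hrest) ⟨ψ, hψ⟩
      (Finset.mem_erase.mpr ⟨hne', Finset.mem_univ _⟩)
    rcases Nat.mul_eq_zero.mp this with h | h
    · apply hne
      have := hm ⟨ψ, hψ⟩
      rw [h] at this
      simpa using this
    · exact absurd h (hdpos _).ne'
  -- (c) → (a)
  have hCA : ((∀ (g : G) (n : N), ϑ ⟨g * n * g⁻¹, hN.conj_mem (n : G) n.2 g⟩ = ϑ n) ∧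
      ∀ ψ : G → ℂ, Cfsg.IsIrrCharacter G ψ → Cfsg.classInner (Cfsg.indFun N ϑ) ψ ≠ 0 → ψ = χ) →
      ∃ e : ℕ, (fun n : N => χ n) = (e : ℂ) • ϑ ∧ e ^ 2 = N.index := by
    rintro ⟨hinv, huniq⟩
    obtain ⟨e, he0, hres, _⟩ := res_of_inv N χ hχ ϑ hϑ hcon hinv
    refine ⟨e, hres, ?_⟩
    have hmz : ∀ ψ : Cfsg.IrrCharacter G, ψ ≠ χ' → m ψ = 0 := by
      intro ψ hψ
      by_contra h0
      apply hψ
      apply Subtype.ext
      apply huniq ψ.1 ψ.2
      rw [hm ψ]
      exact_mod_cast h0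
    have hsum : ∑ ψ : Cfsg.IrrCharacter G, m ψ * d ψ = m χ' * d χ' := by
      apply Finset.sum_eq_single χ'
      · intro ψ _ hψ
        rw [hmz ψ hψ, zero_mul]
      · intro h; exact absurd (Finset.mem_univ _) h
    rw [hdeg, hmχ e hres, hdχ e hres] at hsum
    have : N.index * t = e ^ 2 * t := by rw [hsum]; ring
    exact (Nat.eq_of_mul_eq_mul_right htpos this).symm
  refine ⟨⟨fun hA => ⟨hAvan hA, hAinv hA⟩, hBA⟩, ⟨fun hA g n => ⟨hAinv hA g n, hAuniq hA⟩, ?_⟩⟩
  intro hC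
  exact hCA ⟨fun g n => (hC g n).1, (hC 1 1).2⟩

end Cfsg.Agent.S0900
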