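import Cfsg.Statements.S0901
import Mathlib

set_option autoImplicit false
open Cfsg

namespace Cfsg.Agent.S0901

/-- If `ζ ≠ 1` is an `m`-th root of unity congruent to `1` mod `M` then `m ∈ M`. -/
theorem nat_mem_of_root (M : Ideal Cfsg.AlgInt) (ζ : Cfsg.AlgInt) (m : ℕ) (hζ : ζ ^ m = 1)
    (hne : ζ ≠ 1) (hmem : ζ - 1 ∈ M) : (m : Cfsg.AlgInt) ∈ M := by
  have h := geom_sum_mul ζ m
  rw [hζ, sub_self] at h
  have h0 : ∑ i ∈ Finset.range m, ζ ^ i = 0 := by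
    rcases mul_eq_zero.mp h with h | h
    · exact h
    · exact absurd (sub_eq_zero.mp h) hne
  have h1 : Ideal.Quotient.mk M ζ = 1 := by
    rw [← map_one (Ideal.Quotient.mk M)]
    exact Ideal.Quotient.eq.mpr hmem
  have h2 := congrArg (Ideal.Quotient.mk M) h0
  rw [map_sum, map_zero] at h2
  simp only [map_pow, h1, one_pow, Finset.sum_const, Finset.card_range, nsmul_eq_mul, mul_one] at h2
  rw [← map_natCast (Ideal.Quotient.mk M)] at h2
  exact Ideal.Quotient.eq_zero_iff_mem.mp h2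

theorem part1 (p : ℕ) [Fact p.Prime] (M : Ideal Cfsg.AlgInt) (hM : Cfsg.IsPModular p M)
    (ε₁ ε₂ : Cfsg.AlgInt) (h1 : ∃ m : ℕ, ¬ p ∣ m ∧ (ε₁ : ℂ) ^ m = 1)
    (h2 : ∃ m : ℕ, ¬ p ∣ m ∧ (ε₂ : ℂ) ^ m = 1) (hmem : ε₁ - ε₂ ∈ M) : ε₁ = ε₂ := by
  obtain ⟨m₁, hm₁, he₁⟩ := h1
  obtain ⟨m₂, hm₂, he₂⟩ := h2
  have hp : p.Prime := Fact.out
  have he₁' : ε₁ ^ m₁ = 1 := by
    apply Subtype.ext; push_cast; exact he₁
  have he₂' : ε₂ ^ m₂ = 1 := by
    apply Subtype.ext; push_cast; exact he₂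
  by_contra hne
  set m := m₁ * m₂ with hm
  have hpm : ¬ p ∣ m := fun h => (hp.dvd_mul.mp h).elim hm₁ hm₂
  have hm0 : m ≠ 0 := fun h => hpm (h ▸ dvd_zero p)
  have e1 : ε₁ ^ m = 1 := by rw [hm, pow_mul, he₁', one_pow]
  have e2 : ε₂ ^ m = 1 := by rw [hm, mul_comm, pow_mul, he₂', one_pow]
  have e2' : ε₂ ^ (m - 1) * ε₂ = 1 := by
    rw [← pow_succ, Nat.sub_add_cancel (Nat.pos_of_ne_zero hm0), e2]
  set ζ := ε₁ * ε₂ ^ (m - 1) with hζ
  have hζm : ζ ^ m = 1 := by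
    rw [hζ, mul_pow, e1, one_mul, ← pow_mul, mul_comm, pow_mul, e2, one_pow]
  have hζ1 : ζ - 1 = ε₂ ^ (m - 1) * (ε₁ - ε₂) := by
    rw [mul_sub, e2', hζ, mul_comm]
  have hζne : ζ ≠ 1 := by
    intro h
    apply hne
    have : ζ * ε₂ = ε₁ := by rw [hζ, mul_assoc, e2', mul_one]
    rw [← this, h, one_mul]
  have hζmem : ζ - 1 ∈ M := by
    rw [hζ1]; exact M.mul_mem_left _ hmem
  have hmM := nat_mem_of_root M ζ m hζm hζne hζmem
  have hpM : (p : Cfsg.AlgInt) ∈ M := hM.2.2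
  have hcop : Nat.Coprime m p := (Nat.Coprime.symm ((Nat.Prime.coprime_iff_not_dvd hp).mpr hpm))
  obtain ⟨u, v, huv⟩ := (Nat.isCoprime_iff_coprime.mpr hcop)
  have h1M : (1 : Cfsg.AlgInt) ∈ M := by
    have : ((u * (m : ℤ) + v * (p : ℤ) : ℤ) : Cfsg.AlgInt) = 1 := by rw [huv]; simp
    rw [← this]
    push_cast
    exact M.add_mem (M.mul_mem_left _ hmM) (M.mul_mem_left _ hpM)
  exact hM.2.1.ne_top ((Ideal.eq_top_iff_one M).mpr h1M)

theorem part2 (p : ℕ) [Fact p.Prime] (M : Ideal Cfsg.AlgInt) (hM : Cfsg.IsPModular p M)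
    (a : Cfsg.AlgInt) (ha : a ∉ M) :
    ∃ ε : Cfsg.AlgInt, (∃ m : ℕ, ¬ p ∣ m ∧ (ε : ℂ) ^ m = 1) ∧ a - ε ∈ M := by
  have hp : p.Prime := Fact.out
  have : M.IsMaximal := hM.2.1
  let : Field (Cfsg.AlgInt ⧸ M) := Ideal.Quotient.field M
  have : CharP (Cfsg.AlgInt ⧸ M) p := by
    rw [CharP.charP_iff_prime_eq_zero hp]
    rw [← map_natCast (Ideal.Quotient.mk M)]
    exact Ideal.Quotient.eq_zero_iff_mem.mpr hM.2.2
  let : Algebra (ZMod p) (Cfsg.AlgInt ⧸ M) := ZMod.algebra _ p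
  set b : Cfsg.AlgInt ⧸ M := Ideal.Quotient.mk M a with hb
  have hb0 : b ≠ 0 := fun h => ha (Ideal.Quotient.eq_zero_iff_mem.mp h)
  -- `b` is integral over `ZMod p`
  have haint : IsIntegral ℤ a := Algebra.IsIntegral.isIntegral a
  have hbint : IsIntegral ℤ b := haint.map (Ideal.Quotient.mkₐ ℤ M)
  have hbint' : IsIntegral (ZMod p) b := hbint.tower_top
  -- finitely many powers
  have hfd : FiniteDimensional (ZMod p) (Algebra.adjoin (ZMod p) {b}) :=
    Algebra.finite_adjoin_simple_of_isIntegral hbint'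
  have hfin : Finite (Algebra.adjoin (ZMod p) {b}) := Module.finite_of_finite (ZMod p)
  have hnotinj : ¬ Function.Injective (fun i : ℕ => (⟨b ^ i, Subalgebra.pow_mem _ (Algebra.self_mem_adjoin_singleton _ b) i⟩ : Algebra.adjoin (ZMod p) {b})) :=
    not_injective_infinite_finite _
  have hex : ∃ n : ℕ, 0 < n ∧ b ^ n = 1 := by
    unfold Function.Injective at hnotinj
    push Not at hnotinj
    obtain ⟨i, j, hij, hne⟩ := hnotinj
    have hij' : b ^ i = b ^ j := congrArg Subtype.val hij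
    rcases lt_or_gt_of_ne hne with hlt | hlt
    · refine ⟨j - i, Nat.sub_pos_of_lt hlt, ?_⟩
      have : b ^ i * (b ^ (j - i) - 1) = 0 := by
        rw [mul_sub, ← pow_add, Nat.add_sub_cancel' hlt.le, mul_one, hij', sub_self]
      rcases mul_eq_zero.mp this with h | h
      · exact absurd h (pow_ne_zero _ hb0)
      · exact sub_eq_zero.mp h
    · refine ⟨i - j, Nat.sub_pos_of_lt hlt, ?_⟩
      have : b ^ j * (b ^ (i - j) - 1) = 0 := by
        rw [mul_sub, ← pow_add, Nat.add_sub_cancel' hlt.le, mul_one, hij', sub_self]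
      rcases mul_eq_zero.mp this with h | h
      · exact absurd h (pow_ne_zero _ hb0)
      · exact sub_eq_zero.mp h
  obtain ⟨n, hn0, hbn⟩ := hex
  obtain ⟨e, n', hpn', hn⟩ := Nat.exists_eq_pow_mul_and_not_dvd hn0.ne' p hp.ne_one
  have hbn' : b ^ n' = 1 := by
    have h1 : (b ^ n') ^ (p ^ e) = 1 ^ (p ^ e) := by
      rw [← pow_mul, mul_comm, ← hn, hbn, one_pow]
    exact iterateFrobenius_inj (Cfsg.AlgInt ⧸ M) p e (by simpa [iterateFrobenius_def] using h1)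
  have hn'0 : 0 < n' := Nat.pos_of_ne_zero (fun h => hpn' (h ▸ dvd_zero p))
  -- now factor `a ^ n' - 1`
  have hmem : a ^ n' - 1 ∈ M := by
    apply Ideal.Quotient.eq_zero_iff_mem.mp
    rw [map_sub, map_pow, map_one, ← hb, hbn', sub_self]
  -- primitive root in AlgInt
  have hprimC := Complex.isPrimitiveRoot_exp n' hn'0.ne'
  set ζC := Complex.exp (2 * Real.pi * Complex.I / n') with hζC
  have hζint : ζC ∈ Cfsg.AlgInt := hprimC.isIntegral hn'0
  let ζ : Cfsg.AlgInt := ⟨ζC, hζint⟩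
  have hprim : IsPrimitiveRoot ζ n' :=
    IsPrimitiveRoot.of_map_of_injective (f := Cfsg.AlgInt.val)
      (show IsPrimitiveRoot (Cfsg.AlgInt.val ζ) n' from hprimC) Subtype.val_injective
  have hfac := Polynomial.X_pow_sub_one_eq_prod hn'0 hprim
  have hfac' := congrArg (Polynomial.eval a) hfac
  rw [Polynomial.eval_sub, Polynomial.eval_pow, Polynomial.eval_X, Polynomial.eval_one,
    Polynomial.eval_prod] at hfac'
  simp only [Polynomial.eval_sub, Polynomial.eval_X, Polynomial.eval_C] at hfac'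
  rw [hfac'] at hmem
  have : M.IsPrime := hM.2.1.isPrime
  obtain ⟨ε, hε, hεM⟩ := (Ideal.IsPrime.prod_mem_iff).mp hmem
  refine ⟨ε, ⟨n', hpn', ?_⟩, hεM⟩
  have := (Polynomial.mem_nthRootsFinset hn'0 1).mp hε
  have h2 := congrArg (Subtype.val) this
  simpa using h2

/-- Let M be a maximal ideal of the ring of algebraic integers containing the prime p, and let U be the set of complex roots of unity of order prime to p. Then reduction modulo M is injective on U, and every algebraic integer not in M is congruent modulo M to an element of U (so U maps bijectively onto the nonzero residues). -/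
theorem result (p : ℕ) [Fact p.Prime] (M : Ideal Cfsg.AlgInt) (hM : Cfsg.IsPModular p M) : (∀ ε₁ ε₂ : Cfsg.AlgInt, (∃ m : ℕ, ¬ p ∣ m ∧ (ε₁ : ℂ) ^ m = 1) → (∃ m : ℕ, ¬ p ∣ m ∧ (ε₂ : ℂ) ^ m = 1) → ε₁ - ε₂ ∈ M → ε₁ = ε₂) ∧ (∀ a : Cfsg.AlgInt, a ∉ M → ∃ ε : Cfsg.AlgInt, (∃ m : ℕ, ¬ p ∣ m ∧ (ε : ℂ) ^ m = 1) ∧ a - ε ∈ M) :=
  ⟨fun ε₁ ε₂ h1 h2 h => part1 p M hM ε₁ ε₂ h1 h2 h, fun a ha => part2 p M hM a ha⟩

end Cfsg.Agent.S0901
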