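import Cfsg.Statements.S0902
import Cfsg.Agent.Lib.Helper3_CharGaloisAct
import Cfsg.Agent.Lib.Helper78_LocalRing
import Cfsg.Agent.Lib.Helper78_CentralChar

set_option autoImplicit false
open Cfsg

namespace Cfsg.Agent.S0902

open Polynomial Cfsg.Agent.Lib.Helper3_CharGaloisAct

section galois

variable {G : Type*} [Group G] [Finite G]

/-- The centralizer of a coprime power. -/
theorem centralizer_pow_eq (g : G) (m : ℕ) (hm : m.Coprime (Nat.card G)) :
    Subgroup.centralizer ({g ^ m} : Set G) = Subgroup.centralizer ({g} : Set G) := by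
  ext x
  simp only [Subgroup.mem_centralizer_iff, Set.mem_singleton_iff, forall_eq]
  constructor
  · intro h
    have h1 : Commute (g ^ m) x := h
    have h3 : (g ^ m) ^ ((Nat.card G).gcdB m) = g := (powCoprime hm.symm).left_inv g
    have h4 := h1.zpow_left ((Nat.card G).gcdB m)
    rw [h3] at h4
    exact h4.eq
  · intro h
    have h1 : Commute g x := h
    exact (h1.pow_left m).eq

variable {d : ℕ} (ρ : Representation ℂ G (Fin d → ℂ))

/-- The central character value as an element of the cyclotomic field. -/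
noncomputable def omegaK (g : G) : cyc (Nat.card G) :=
  ((Subgroup.centralizer ({g} : Set G)).index : cyc (Nat.card G)) * charK ρ g / charK ρ 1

theorem coe_omegaK (g : G) :
    ((omegaK ρ g : cyc (Nat.card G)) : ℂ) = centralChar ρ.character g := by
  have hφ : ∀ x : cyc (Nat.card G), (x : ℂ) = algebraMap (cyc (Nat.card G)) ℂ x := fun x => rfl
  rw [hφ, omegaK, map_div₀, map_mul, map_natCast, ← hφ, ← hφ, coe_charK, coe_charK]
  rfl

theorem aut_omegaK (g : G) (σ : cyc (Nat.card G) ≃ₐ[ℚ] cyc (Nat.card G)) (m : ℕ)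
    (hm : m.Coprime (Nat.card G))
    (hσ : ∀ x : cyc (Nat.card G), x ^ Nat.card G = 1 → σ x = x ^ m) :
    σ (omegaK ρ g) = omegaK ρ (g ^ m) := by
  have h1 : ∀ h : G, σ (charK ρ h) = charK ρ (h ^ m) := by
    intro h
    apply Subtype.ext
    rw [coe_aut_charK ρ h σ m hσ, coe_charK]
  rw [omegaK, omegaK, map_div₀, map_mul, map_natCast, h1, h1, one_pow, centralizer_pow_eq g m hm]

end galois

section main

/-- An integer lying in a `p`-modular maximal ideal is divisible by `p`. -/
theorem int_dvd_of_mem {p : ℕ} {M : Ideal AlgInt} (hM : IsPModular p M) (z : ℤ)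
    (hz : (z : AlgInt) ∈ M) : (p : ℤ) ∣ z := by
  by_contra hndvd
  have hp : p.Prime := hM.1
  have hcop : IsCoprime (p : ℤ) z := by
    rw [Int.isCoprime_iff_gcd_eq_one]
    have h1 : ¬ p ∣ z.natAbs := fun h => hndvd (Int.natCast_dvd.2 h)
    exact (Nat.Prime.coprime_iff_not_dvd hp).2 h1
  obtain ⟨u, v, huv⟩ := hcop
  have h1 : (1 : AlgInt) = (u : AlgInt) * (p : AlgInt) + (v : AlgInt) * (z : AlgInt) := by
    have := congrArg (fun t : ℤ => (t : AlgInt)) huv
    push_cast at this
    exact this.symm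
  have h2 : (1 : AlgInt) ∈ M := by
    rw [h1]
    exact M.add_mem (M.mul_mem_left _ hM.2.2) (M.mul_mem_left _ hz)
  exact hM.2.1.ne_top ((Ideal.eq_top_iff_one M).2 h2)

end main

/-- If two irreducible characters of a finite group lie in the same block relative to one maximal ideal M of the algebraic integers containing the prime p, then at every element the difference of their central characters is an algebraic integer lying in every maximal ideal containing p; in particular they lie in the same block relative to any such ideal. -/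
theorem result {G : Type*} [Group G] [Finite G] (p : ℕ) [Fact p.Prime] (M : Ideal Cfsg.AlgInt) (hM : Cfsg.IsPModular p M) (χ ψ : Cfsg.IrrCharacter G) (h : Cfsg.SameBlock M (χ : G → ℂ) (ψ : G → ℂ)) (M' : Ideal Cfsg.AlgInt) (hM' : Cfsg.IsPModular p M') (g : G) : ∃ r : Cfsg.AlgInt, r ∈ M' ∧ (r : ℂ) = Cfsg.centralChar (χ : G → ℂ) g - Cfsg.centralChar (ψ : G → ℂ) g := by
  classical
  haveI : Fintype G := Fintype.ofFinite G
  haveI : NeZero (Nat.card G) := ⟨Nat.card_pos.ne'⟩
  obtain ⟨d₁, ρ₁, hirr₁, hρ₁⟩ := χ.2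
  obtain ⟨d₂, ρ₂, hirr₂, hρ₂⟩ := ψ.2
  have hint : ∀ x : G, IsIntegral ℤ
      (centralChar (χ : G → ℂ) x - centralChar (ψ : G → ℂ) x) := fun x =>
    IsIntegral.sub
      (Cfsg.Agent.Lib.Helper78_CentralChar.isIntegral_centralChar_of_isIrrCharacter χ.2 x)
      (Cfsg.Agent.Lib.Helper78_CentralChar.isIntegral_centralChar_of_isIrrCharacter ψ.2 x)
  let a : G → AlgInt := fun x =>
    ⟨centralChar (χ : G → ℂ) x - centralChar (ψ : G → ℂ) x, hint x⟩
  have haM : ∀ x : G, a x ∈ M := fun x =>
    (Cfsg.Agent.Lib.Helper78_LocalRing.memLocalIdeal_algInt_iff hM.2.1.isPrime (a x)).1 (h x)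
  let aK : G → cyc (Nat.card G) := fun x => omegaK ρ₁ x - omegaK ρ₂ x
  have haK : ∀ x : G, algebraMap (cyc (Nat.card G)) ℂ (aK x) = algebraMap AlgInt ℂ (a x) := by
    intro x
    show algebraMap (cyc (Nat.card G)) ℂ (omegaK ρ₁ x - omegaK ρ₂ x) =
      centralChar (χ : G → ℂ) x - centralChar (ψ : G → ℂ) x
    rw [map_sub]
    have h1 := coe_omegaK ρ₁ x
    have h2 := coe_omegaK ρ₂ x
    rw [hρ₁] at h1
    rw [hρ₂] at h2
    rw [← h1, ← h2]
    rfl
  set F : AlgInt[X] := ∏ x : G, (X - C (a x)) with hF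
  set FK : (cyc (Nat.card G))[X] := ∏ x : G, (X - C (aK x)) with hFK
  have hmap : F.map (algebraMap AlgInt ℂ) = FK.map (algebraMap (cyc (Nat.card G)) ℂ) := by
    simp only [hF, hFK, Polynomial.map_prod, Polynomial.map_sub, Polynomial.map_X,
      Polynomial.map_C]
    refine Finset.prod_congr rfl (fun x _ => ?_)
    rw [haK x]
  -- Galois invariance of the coefficients
  have hfix : ∀ (σ : cyc (Nat.card G) ≃ₐ[ℚ] cyc (Nat.card G)) (j : ℕ),
      σ (FK.coeff j) = FK.coeff j := by
    intro σ j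
    obtain ⟨m, hm, hσ⟩ := aut_eq_pow (Nat.card G) σ
    have h1 : FK.map (σ : cyc (Nat.card G) →+* cyc (Nat.card G)) = FK := by
      simp only [hFK, Polynomial.map_prod, Polynomial.map_sub, Polynomial.map_X,
        Polynomial.map_C]
      have hσa : ∀ x : G, (σ : cyc (Nat.card G) →+* cyc (Nat.card G)) (aK x) = aK (x ^ m) := by
        intro x
        show σ (omegaK ρ₁ x - omegaK ρ₂ x) = omegaK ρ₁ (x ^ m) - omegaK ρ₂ (x ^ m)
        rw [map_sub, aut_omegaK ρ₁ x σ m hm hσ, aut_omegaK ρ₂ x σ m hm hσ]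
      simp_rw [hσa]
      exact Fintype.prod_equiv (powCoprime hm.symm) _ _ (fun x => rfl)
    have h2 := congrArg (fun P : (cyc (Nat.card G))[X] => P.coeff j) h1
    simp only [Polynomial.coeff_map] at h2
    exact h2
  have hrat : ∀ j : ℕ, ∃ z : ℤ, F.coeff j = (z : AlgInt) := by
    intro j
    have hbot := (IsGalois.mem_bot_iff_fixed (F := ℚ) (FK.coeff j)).mpr (fun σ => hfix σ j)
    obtain ⟨q, hq⟩ := IntermediateField.mem_bot.mp hbot
    have h1 : algebraMap AlgInt ℂ (F.coeff j) = algebraMap ℚ ℂ q := by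
      have h2 := congrArg (fun P : ℂ[X] => P.coeff j) hmap
      simp only [Polynomial.coeff_map] at h2
      rw [h2, ← hq]
      rfl
    have h3 : IsIntegral ℤ (algebraMap ℚ ℂ q) := by
      rw [← h1]
      exact (F.coeff j).2
    have h4 : IsIntegral ℤ q := (isIntegral_algebraMap_iff (algebraMap ℚ ℂ).injective).mp h3
    obtain ⟨z, hz⟩ := IsIntegrallyClosed.isIntegral_iff.mp h4
    refine ⟨z, ?_⟩
    apply Subtype.ext
    show algebraMap AlgInt ℂ (F.coeff j) = ((z : AlgInt) : ℂ)
    rw [h1, ← hz]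
    simp
  -- the lower coefficients lie in `M`, hence are divisible by `p`, hence lie in `M'`
  have hcoeffM : ∀ j : ℕ, j < Fintype.card G → F.coeff j ∈ M := by
    intro j hj
    have h1 : F.map (Ideal.Quotient.mk M) = X ^ Fintype.card G := by
      simp only [hF, Polynomial.map_prod, Polynomial.map_sub, Polynomial.map_X, Polynomial.map_C]
      have h0 : ∀ x : G, Ideal.Quotient.mk M (a x) = 0 := fun x =>
        Ideal.Quotient.eq_zero_iff_mem.2 (haM x)
      simp [h0]
    have h2 := congrArg (fun P : (AlgInt ⧸ M)[X] => P.coeff j) h1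
    simp only [Polynomial.coeff_map, Polynomial.coeff_X_pow] at h2
    rw [if_neg hj.ne] at h2
    exact Ideal.Quotient.eq_zero_iff_mem.1 h2
  have hcoeffM' : ∀ j : ℕ, j < Fintype.card G → F.coeff j ∈ M' := by
    intro j hj
    obtain ⟨z, hz⟩ := hrat j
    have h2 : (z : AlgInt) ∈ M := hz ▸ hcoeffM j hj
    obtain ⟨c, hc⟩ := int_dvd_of_mem hM z h2
    rw [hz, hc]
    push_cast
    exact M'.mul_mem_right _ hM'.2.2
  have hmonic : F.Monic := monic_prod_of_monic _ _ (fun x _ => monic_X_sub_C (a x))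
  have hdeg : F.natDegree = Fintype.card G := by
    rw [hF, natDegree_prod_of_monic _ _ (fun x _ => monic_X_sub_C (a x))]
    simp
  have hroot : F.eval (a g) = 0 := by
    rw [hF, Polynomial.eval_prod]
    apply Finset.prod_eq_zero (Finset.mem_univ g)
    simp
  rw [Polynomial.eval_eq_sum_range, hdeg, Finset.sum_range_succ] at hroot
  have hlead : F.coeff (Fintype.card G) = 1 := by
    rw [← hdeg]
    exact hmonic.coeff_natDegree
  rw [hlead, one_mul] at hroot
  have hpow : a g ^ Fintype.card G ∈ M' := by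
    have h1 : a g ^ Fintype.card G =
        -∑ j ∈ Finset.range (Fintype.card G), F.coeff j * a g ^ j := by
      rw [eq_neg_iff_add_eq_zero, add_comm]
      exact hroot
    rw [h1]
    apply M'.neg_mem
    apply M'.sum_mem
    intro j hj
    exact M'.mul_mem_right _ (hcoeffM' j (Finset.mem_range.1 hj))
  exact ⟨a g, hM'.2.1.isPrime.mem_of_pow_mem _ hpow, rfl⟩

end Cfsg.Agent.S0902
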