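import Cfsg.Statements.S0903
import Mathlib

set_option autoImplicit false
open Cfsg

namespace Cfsg.Agent.S0903

/-- the set of pairs -/
def pairSet {G : Type*} [Group G] (g h c : G) : Set (G × G) :=
  {xy | IsConj g xy.1 ∧ IsConj h xy.2 ∧ xy.1 * xy.2 = c}

theorem conj_mem_pairSet {G : Type*} [Group G] (P : Subgroup G) (g h c : G)
    (hc : c ∈ Subgroup.centralizer (P : Set G)) (u : P) (xy : G × G) (hxy : xy ∈ pairSet g h c) :
    ((u : G) * xy.1 * (u : G)⁻¹, (u : G) * xy.2 * (u : G)⁻¹) ∈ pairSet g h c := by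
  obtain ⟨h1, h2, h3⟩ := hxy
  refine ⟨?_, ?_, ?_⟩
  · exact h1.trans (isConj_iff.mpr ⟨u, rfl⟩)
  · exact h2.trans (isConj_iff.mpr ⟨u, rfl⟩)
  · have hcu : (u : G) * c = c * (u : G) := hc (u : G) u.2
    have : (u : G) * xy.1 * (u : G)⁻¹ * ((u : G) * xy.2 * (u : G)⁻¹) = (u : G) * (xy.1 * xy.2) * (u : G)⁻¹ := by
      group
    simp only []
    rw [this, h3, hcu, mul_inv_cancel_right]

/-- the action of `P` on pairs by simultaneous conjugation -/
@[reducible] def pairAction {G : Type*} [Group G] (P : Subgroup G) (g h c : G)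
    (hc : c ∈ Subgroup.centralizer (P : Set G)) : MulAction P (pairSet g h c) where
  smul u xy := ⟨((u : G) * xy.1.1 * (u : G)⁻¹, (u : G) * xy.1.2 * (u : G)⁻¹),
    conj_mem_pairSet P g h c hc u xy.1 xy.2⟩
  one_smul xy := by
    apply Subtype.ext
    show (((1 : P) : G) * xy.1.1 * ((1 : P) : G)⁻¹, ((1 : P) : G) * xy.1.2 * ((1 : P) : G)⁻¹) = xy.1
    simp
  mul_smul u v xy := by
    apply Subtype.ext
    show (((u * v : P) : G) * xy.1.1 * ((u * v : P) : G)⁻¹, ((u * v : P) : G) * xy.1.2 * ((u * v : P) : G)⁻¹) =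
      ((u : G) * ((v : G) * xy.1.1 * (v : G)⁻¹) * (u : G)⁻¹, (u : G) * ((v : G) * xy.1.2 * (v : G)⁻¹) * (u : G)⁻¹)
    simp [mul_assoc]

/-- Let P be a p-subgroup of the finite group G, let c centralize P and let g, h ∈ G. The number of pairs (x, y) with x conjugate to g, y conjugate to h and x * y = c is congruent modulo p to the number of such pairs in which x and y both centralize P. (This is why the Brauer map on class sums is multiplicative.) -/
theorem result {G : Type*} [Group G] [Finite G] (p : ℕ) [Fact p.Prime] (P : Subgroup G) (hP : IsPGroup p P) (c : G) (hc : c ∈ Subgroup.centralizer (P : Set G)) (g h : G) : Nat.card {xy : G × G // IsConj g xy.1 ∧ IsConj h xy.2 ∧ xy.1 * xy.2 = c} ≡ Nat.card {xy : G × G // IsConj g xy.1 ∧ IsConj h xy.2 ∧ xy.1 * xy.2 = c ∧ xy.1 ∈ Subgroup.centralizer (P : Set G) ∧ xy.2 ∈ Subgroup.centralizer (P : Set G)} [MOD p] := by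
  let _ := pairAction P g h c hc
  have hfin : Finite (pairSet g h c) := Subtype.finite
  have key := hP.card_modEq_card_fixedPoints (pairSet g h c)
  have e : (MulAction.fixedPoints P (pairSet g h c)) ≃ {xy : G × G // IsConj g xy.1 ∧ IsConj h xy.2 ∧ xy.1 * xy.2 = c ∧ xy.1 ∈ Subgroup.centralizer (P : Set G) ∧ xy.2 ∈ Subgroup.centralizer (P : Set G)} :=
    { toFun := fun z => ⟨z.1.1, z.1.2.1, z.1.2.2.1, z.1.2.2.2, by
        have hz := z.2
        constructor
        · intro u hu
          have := hz ⟨u, hu⟩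
          have h1 : u * z.1.1.1 * u⁻¹ = z.1.1.1 := congrArg (fun w : pairSet g h c => w.1.1) this
          calc u * z.1.1.1 = u * z.1.1.1 * u⁻¹ * u := by group
            _ = z.1.1.1 * u := by rw [h1]
        · intro u hu
          have := hz ⟨u, hu⟩
          have h1 : u * z.1.1.2 * u⁻¹ = z.1.1.2 := congrArg (fun w : pairSet g h c => w.1.2) this
          calc u * z.1.1.2 = u * z.1.1.2 * u⁻¹ * u := by group
            _ = z.1.1.2 * u := by rw [h1]⟩
      invFun := fun z => ⟨⟨z.1, z.2.1, z.2.2.1, z.2.2.2.1⟩, by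
        intro u
        apply Subtype.ext
        show ((u : G) * z.1.1 * (u : G)⁻¹, (u : G) * z.1.2 * (u : G)⁻¹) = z.1
        have h1 : (u : G) * z.1.1 = z.1.1 * (u : G) := z.2.2.2.2.1 u u.2
        have h2 : (u : G) * z.1.2 = z.1.2 * (u : G) := z.2.2.2.2.2 u u.2
        rw [h1, h2, mul_inv_cancel_right, mul_inv_cancel_right]⟩
      left_inv := fun z => rfl
      right_inv := fun z => rfl }
  rw [← Nat.card_congr e]
  exact key

end Cfsg.Agent.S0903
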