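import Cfsg.Statements.S0911
import Cfsg.Agent.Lib.Helper78_MinMax

set_option autoImplicit false
open Cfsg

namespace Cfsg.Agent.S0911

/-- The min–max Theorem for defect classes. Let B be a block of the finite group G relative to a maximal ideal M of the algebraic integers containing the prime p, let g represent a defect class of B and let D be a Sylow p-subgroup of the centralizer of g (viewed in G). For any h: (a) if the idempotent coefficient of B at h is a local integer outside the local ideal, then some conjugate of D contains a Sylow p-subgroup of the centralizer of h; (b) if the central character of some member of B at h is outside the local ideal, then some conjugate of D is contained in a Sylow p-subgroup of the centralizer of h. -/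
theorem result {G : Type*} [Group G] [Finite G] (p : ℕ) [Fact p.Prime] (M : Ideal Cfsg.AlgInt) (hM : Cfsg.IsPModular p M) (B : Set (Cfsg.IrrCharacter G)) (hB : Cfsg.IsPBlock M B) (g : G) (hg : Cfsg.IsDefectClass M B g) (D : Sylow p (Subgroup.centralizer ({g} : Set G))) (h : G) : (Cfsg.MemLocalRing M (Cfsg.blockCoeff B h) → ¬ Cfsg.MemLocalIdeal M (Cfsg.blockCoeff B h) → ∃ (x : G) (Q : Sylow p (Subgroup.centralizer ({h} : Set G))), (Q : Subgroup (Subgroup.centralizer ({h} : Set G))).map (Subgroup.centralizer ({h} : Set G)).subtype ≤ ((D : Subgroup (Subgroup.centralizer ({g} : Set G))).map (Subgroup.centralizer ({g} : Set G)).subtype).map (MulAut.conj x).toMonoidHom) ∧ ((∃ χ ∈ B, ¬ Cfsg.MemLocalIdeal M (Cfsg.centralChar (χ : G → ℂ) h)) → ∃ (x : G) (Q : Sylow p (Subgroup.centralizer ({h} : Set G))), ((D : Subgroup (Subgroup.centralizer ({g} : Set G))).map (Subgroup.centralizer ({g} : Set G)).subtype).map (MulAut.conj x).toMonoidHom ≤ (Q : Subgroup (Subgroup.centralizer ({h} : Set G))).map (Subgroup.centralizer ({h} : Set G)).subtype) := by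
  classical
  refine ⟨fun _ hh => ?_, fun hh => ?_⟩
  · -- any Sylow subgroup `Q` of `C_G(h)` works
    obtain ⟨Q⟩ : Nonempty (Sylow p (Subgroup.centralizer ({h} : Set G))) := inferInstance
    obtain ⟨x, hx⟩ := Cfsg.Agent.Lib.Helper78_MinMax.le_conj_of_blockCoeff_not_mem hM hB hg D h hh
      ((Q : Subgroup (Subgroup.centralizer ({h} : Set G))).map
        (Subgroup.centralizer ({h} : Set G)).subtype)
      (Cfsg.Agent.Lib.Helper78_MinMax.isPGroup_map_sylow _ Q)
      (Cfsg.Agent.Lib.Helper78_MinMax.map_sylow_le _ Q)
    exact ⟨x, Q, hx⟩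
  · obtain ⟨x, hx⟩ :=
      Cfsg.Agent.Lib.Helper78_MinMax.conj_le_centralizer_of_centralChar_not_mem hM hB hg D h hh
    set D' := ((D : Subgroup (Subgroup.centralizer ({g} : Set G))).map
      (Subgroup.centralizer ({g} : Set G)).subtype).map (MulAut.conj x).toMonoidHom with hD'
    have hD'p : IsPGroup p D' :=
      (Cfsg.Agent.Lib.Helper78_MinMax.isPGroup_map_sylow _ D).map _
    have hsub : IsPGroup p (D'.subgroupOf (Subgroup.centralizer ({h} : Set G))) := by
      refine (hD'p.comap_of_injective (Subgroup.centralizer ({h} : Set G)).subtype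
        (Subgroup.subtype_injective _)).to_le ?_
      intro y hy
      exact hy
    obtain ⟨Q, hQ⟩ := hsub.exists_le_sylow
    refine ⟨x, Q, ?_⟩
    intro d hd
    have hdh : d ∈ Subgroup.centralizer ({h} : Set G) := hx hd
    refine ⟨⟨d, hdh⟩, hQ ?_, rfl⟩
    rw [Subgroup.mem_subgroupOf]
    exact hd

end Cfsg.Agent.S0911
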