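import Cfsg.Statements.S0916
import Cfsg.Agent.Lib.Helper16_SylowSub
import Cfsg.Agent.Lib.Helper35_FrobeniusNPC
import Mathlib

set_option autoImplicit false
open Cfsg

namespace Cfsg.Agent.S0916

open Cfsg.Agent.Lib.Helper16_SylowSub

variable {G : Type*} [Group G]

theorem map_conj_mul (a b : G) (P : Subgroup G) :
    (P.map (MulAut.conj b).toMonoidHom).map (MulAut.conj a).toMonoidHom
      = P.map (MulAut.conj (a * b)).toMonoidHom := by
  rw [Subgroup.map_map]
  congr 1
  ext x
  simp [mul_assoc]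

/-- if `P` is a Sylow `p`-subgroup of `C(g)` and `c ∈ C(P)` is conjugate to `g`, then `c` is
conjugate to `g` by an element of `N(P)` -/
theorem exists_normalizer_conj [Finite G] {p : ℕ} [Fact p.Prime] {P : Subgroup G} {g c : G}
    (S : Sylow p (Subgroup.centralizer ({g} : Set G)))
    (hS : (S : Subgroup (Subgroup.centralizer ({g} : Set G))).map
      (Subgroup.centralizer ({g} : Set G)).subtype = P)
    (hgc : IsConj g c) (hc : c ∈ Subgroup.centralizer (P : Set G)) :
    ∃ n ∈ Subgroup.normalizer (P : Set G), n * c * n⁻¹ = g := by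
  obtain ⟨a, ha⟩ := isConj_iff.mp hgc
  have hP : IsPGroup p P := sylowSub_isPGroup S hS
  have hQ : IsPGroup p (P.map (MulAut.conj a⁻¹).toMonoidHom) := hP.map _
  have hQH : P.map (MulAut.conj a⁻¹).toMonoidHom ≤ Subgroup.centralizer ({g} : Set G) := by
    rintro q ⟨x, hx, rfl⟩
    rw [Subgroup.mem_centralizer_singleton_iff]
    have hxc : x * c = c * x := (Subgroup.mem_centralizer_iff.mp hc x hx)
    simp only [MulEquiv.coe_toMonoidHom, MulAut.conj_apply, inv_inv]
    have hg : g = a⁻¹ * c * a := by rw [← ha]; group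
    rw [hg]
    calc a⁻¹ * x * a * (a⁻¹ * c * a) = a⁻¹ * (x * c) * a := by group
      _ = a⁻¹ * (c * x) * a := by rw [hxc]
      _ = a⁻¹ * c * a * (a⁻¹ * x * a) := by group
  have hcard : Nat.card (P.map (MulAut.conj a⁻¹).toMonoidHom) = Nat.card P :=
    Subgroup.card_map_of_injective (MulAut.conj a⁻¹).injective
  obtain ⟨k, hk, hkP⟩ := sylowSub_exists_conj_eq S hS hQ hQH hcard
  refine ⟨k * a⁻¹, ?_, ?_⟩
  · rw [Subgroup.mem_normalizer_iff_map_conj_eq]
    rw [map_conj_mul] at hkP
    exact hkP
  · have hkg : k * g = g * k := Subgroup.mem_centralizer_singleton_iff.mp hk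
    have : k * a⁻¹ * c * (k * a⁻¹)⁻¹ = k * (a⁻¹ * c * a) * k⁻¹ := by group
    rw [this]
    have hg : a⁻¹ * c * a = g := by rw [← ha]; group
    rw [hg, hkg, mul_inv_cancel_right]

/-- Let P be a p-subgroup of the finite group G, C its centralizer and N its normalizer. Say that a conjugacy class (of G, or of N) has defect group P when P is a Sylow p-subgroup of the centralizer (in G, respectively in N) of some element of the class. Then: (i) if the class of g in G has defect group P, the elements of that class lying in C form a single N-class, again with defect group P; (ii) every N-class with defect group P arises this way from exactly one G-class with defect group P. -/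
theorem result {G : Type*} [Group G] [Finite G] (p : ℕ) [Fact p.Prime] (P : Subgroup G) (hP : IsPGroup p P) : (∀ g : G, (∃ S : Sylow p (Subgroup.centralizer ({g} : Set G)), (S : Subgroup (Subgroup.centralizer ({g} : Set G))).map (Subgroup.centralizer ({g} : Set G)).subtype = P) → (∃ c : G, IsConj g c ∧ c ∈ Subgroup.centralizer (P : Set G)) ∧ (∀ c₁ c₂ : G, IsConj g c₁ → IsConj g c₂ → c₁ ∈ Subgroup.centralizer (P : Set G) → c₂ ∈ Subgroup.centralizer (P : Set G) → ∃ n ∈ Subgroup.normalizer (P : Set G), n * c₁ * n⁻¹ = c₂)) ∧ (∀ c : G, c ∈ Subgroup.centralizer (P : Set G) → (∃ S : Sylow p (Subgroup.centralizer ({c} : Set G) ⊓ Subgroup.normalizer (P : Set G) : Subgroup G), (S : Subgroup ↥(Subgroup.centralizer ({c} : Set G) ⊓ Subgroup.normalizer (P : Set G))).map (Subgroup.centralizer ({c} : Set G) ⊓ Subgroup.normalizer (P : Set G)).subtype = P) → ∃ S : Sylow p (Subgroup.centralizer ({c} : Set G)), (S : Subgroup (Subgroup.centralizer ({c} : Set G))).map (Subgroup.centralizer ({c} : Set G)).subtype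 = P) := by
  refine ⟨?_, ?_⟩
  · rintro g ⟨S, hS⟩
    refine ⟨⟨g, IsConj.refl g, ?_⟩, ?_⟩
    · rw [Subgroup.mem_centralizer_iff]
      intro x hx
      have := sylowSub_le S hS hx
      rw [Subgroup.mem_centralizer_singleton_iff] at this
      exact this
    · intro c₁ c₂ h1 h2 hc1 hc2
      obtain ⟨n₁, hn₁, e₁⟩ := exists_normalizer_conj S hS h1 hc1
      obtain ⟨n₂, hn₂, e₂⟩ := exists_normalizer_conj S hS h2 hc2
      refine ⟨n₂⁻¹ * n₁, Subgroup.mul_mem _ (Subgroup.inv_mem _ hn₂) hn₁, ?_⟩
      have : n₂⁻¹ * n₁ * c₁ * (n₂⁻¹ * n₁)⁻¹ = n₂⁻¹ * (n₁ * c₁ * n₁⁻¹) * n₂ := by group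
      rw [this, e₁, ← e₂]
      group
  · rintro c hc ⟨S, hS⟩
    have hPC : P ≤ Subgroup.centralizer ({c} : Set G) := by
      intro x hx
      rw [Subgroup.mem_centralizer_singleton_iff]
      exact Subgroup.mem_centralizer_iff.mp hc x hx
    apply sylowSub_of_max hPC hP
    intro Q hQ hPQ hQC
    by_contra hne
    obtain ⟨x, hxQ, hxN, hxP⟩ :=
      Cfsg.Agent.Lib.Helper35_FrobeniusNPC.exists_mem_normalizer_not_mem hQ hPQ (Ne.symm hne)
    -- the `p`-subgroup `Q ⊓ N(P)` of `C(c) ⊓ N(P)` strictly contains `P`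
    have hR : IsPGroup p (Q ⊓ Subgroup.normalizer (P : Set G) : Subgroup G) :=
      hQ.to_le inf_le_left
    have hPR : P ≤ Q ⊓ Subgroup.normalizer (P : Set G) := le_inf hPQ Subgroup.le_normalizer
    have hRM : Q ⊓ Subgroup.normalizer (P : Set G) ≤
        Subgroup.centralizer ({c} : Set G) ⊓ Subgroup.normalizer (P : Set G) :=
      inf_le_inf_right _ hQC
    have := sylowSub_max S hS hR hPR hRM
    apply hxP
    rw [← this]
    exact ⟨hxQ, hxN⟩

end Cfsg.Agent.S0916
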