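import Cfsg.Statements.S0926
import Cfsg.Agent.Lib.Helper78_LocalRing
import Cfsg.Agent.Lib.Helper78_MinMax
import Cfsg.Agent.Lib.Helper16_Vanish
import Cfsg.Agent.Lib.Helper16_HeightZero

set_option autoImplicit false
open Cfsg

namespace Cfsg.Agent.S0926

open Cfsg.Agent.Lib.Helper78_LocalRing Cfsg.Agent.Lib.Helper16_Vanish
  Cfsg.Agent.Lib.Helper16_HeightZero

/-- For a height-zero character χ in a p-block with defect group D and a p-element x: some conjugate of x lies in D if and only if χ is nonzero somewhere on the p-section of x. -/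
theorem result {G : Type*} [Group G] [Finite G] (p : ℕ) [Fact p.Prime] (M : Ideal Cfsg.AlgInt) (hM : Cfsg.IsPModular p M) (B : Set (Cfsg.IrrCharacter G)) (hB : Cfsg.IsPBlock M B) (D : Subgroup G) (hD : Cfsg.IsDefectGroup p M B D) (χ : Cfsg.IrrCharacter G) (hχ : χ ∈ B) (h0 : Cfsg.blockHeight p B (χ : G → ℂ) = 0) (x : G) (hx : ∃ k : ℕ, orderOf x = p ^ k) : (∃ g : G, g * x * g⁻¹ ∈ D) ↔ ∃ u : G, (∃ z : G, Cfsg.IsPPart p u z ∧ IsConj x z) ∧ (χ : G → ℂ) u ≠ 0 := by
  have hMp : M.IsPrime := hM.2.1.isPrime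
  obtain ⟨y, hy, P, hDP⟩ := hD
  constructor
  · rintro ⟨g, hg⟩
    set x' := g * x * g⁻¹ with hx'
    have hx'D : x' ∈ (P : Subgroup (Subgroup.centralizer ({y} : Set G))).map
        (Subgroup.centralizer ({y} : Set G)).subtype := by rw [← hDP]; exact hg
    obtain ⟨w, hwP, hwx⟩ := hx'D
    have hcomm : x' * y = y * x' := by
      rw [← hwx]
      have := w.2
      rw [Subgroup.mem_centralizer_iff] at this
      exact (this y (Set.mem_singleton _)).symm
    obtain ⟨k, hk⟩ := hx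
    have hord : orderOf x' = p ^ k := by
      rw [hx', ← hk]
      exact (MulAut.conj g).orderOf_eq x
    have hreg := not_dvd_orderOf_of_defectClass hM hB hy
    refine ⟨x' * y, ⟨x', ⟨y, rfl, hcomm, ⟨k, hord⟩, hreg⟩, isConj_iff.mpr ⟨g, rfl⟩⟩, ?_⟩
    intro hzero
    apply irr_not_memLocalIdeal_mul_defectClass hM hB hy χ hχ h0 hcomm hord
    rw [hzero]
    exact memLocalIdeal_zero hMp
  · rintro ⟨u, ⟨z, hu, hxz⟩, hne⟩
    have hex : ∃ E : Subgroup G, IsDefectGroup p M B E ∧ z ∈ E := by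
      by_contra hcon
      push Not at hcon
      exact hne (irr_eq_zero_of_not_mem_defectGroup hM hB χ hχ hu hcon)
    obtain ⟨E, ⟨y', hy', P', hEP'⟩, hzE⟩ := hex
    have hEp : IsPGroup p E := by
      rw [hEP']
      exact Cfsg.Agent.Lib.Helper78_MinMax.isPGroup_map_sylow _ P'
    have hEle : E ≤ Subgroup.centralizer ({y'} : Set G) := by
      rw [hEP']
      exact Cfsg.Agent.Lib.Helper78_MinMax.map_sylow_le _ P'
    obtain ⟨t, ht⟩ := Cfsg.Agent.Lib.Helper78_MinMax.le_conj_of_blockCoeff_not_mem hM hB hy P y'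
      hy'.2.1 E hEp hEle
    obtain ⟨d, hd, hdz⟩ := ht hzE
    obtain ⟨s, hs⟩ := isConj_iff.mp hxz
    refine ⟨t⁻¹ * s, ?_⟩
    rw [hDP]
    have : t⁻¹ * s * x * (t⁻¹ * s)⁻¹ = d := by
      simp only [MulEquiv.coe_toMonoidHom, MulAut.conj_apply] at hdz
      calc t⁻¹ * s * x * (t⁻¹ * s)⁻¹ = t⁻¹ * (s * x * s⁻¹) * t := by group
        _ = t⁻¹ * z * t := by rw [hs]
        _ = t⁻¹ * (t * d * t⁻¹) * t := by rw [hdz]
        _ = d := by group
    rw [this]
    exact hd

end Cfsg.Agent.S0926
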