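import Mathlib
import Cfsg.Statements.S0932

set_option autoImplicit false
open Cfsg

namespace Cfsg.Agent.S0932

theorem finsum_mem_eq_sum_ite {α : Type*} [Fintype α] (p : α → Prop) [DecidablePred p] (f : α → ℂ) :
    ∑ᶠ a ∈ {a | p a}, f a = ∑ a, if p a then f a else 0 := by
  rw [finsum_mem_def, finsum_eq_sum_of_fintype]
  refine Finset.sum_congr rfl (fun a _ => ?_)
  simp [Set.indicator]

theorem card_fiber {G : Type*} [Group G] [Fintype G] (g k : G) (h : IsConj g k) :
    Nat.card {x : G // x⁻¹ * g * x = k} = Nat.card (Subgroup.centralizer ({g} : Set G)) := by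
  obtain ⟨c, hc⟩ := isConj_iff.mp h
  -- c * g * c⁻¹ = k ; take x₀ = c⁻¹
  refine Nat.card_congr ⟨fun x => ⟨x.1 * c, ?_⟩, fun y => ⟨y.1 * c⁻¹, ?_⟩, ?_, ?_⟩
  · rw [Subgroup.mem_centralizer_iff]
    intro y hy
    rw [Set.mem_singleton_iff] at hy
    rw [hy]
    have hx : (x.1)⁻¹ * g * x.1 = c * g * c⁻¹ := by rw [hc]; exact x.2
    -- x⁻¹ g x = c g c⁻¹  →  g (x c) = (x c) g
    have : g * (x.1 * c) = x.1 * (x.1⁻¹ * g * x.1) * c := by group
    rw [this, hx]; group
  · have hy := y.2
    rw [Subgroup.mem_centralizer_iff] at hy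
    have hy' := hy g (Set.mem_singleton g)
    rw [← hc]
    have : (y.1 * c⁻¹)⁻¹ * g * (y.1 * c⁻¹) = c * (y.1⁻¹ * (g * y.1)) * c⁻¹ := by group
    rw [this, hy']; group
  · intro x; ext; simp
  · intro y; ext; simp

theorem sum_conj_eq {G : Type*} [Group G] [Fintype G] [DecidableEq G] (g : G) (F : G → ℂ) :
    ∑ x : G, F (x⁻¹ * g * x) =
      (Nat.card (Subgroup.centralizer ({g} : Set G)) : ℂ) * ∑ k : G, if IsConj g k then F k else 0 := by
  rw [← Finset.sum_fiberwise (s := Finset.univ) (g := fun x : G => x⁻¹ * g * x)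
    (f := fun x => F (x⁻¹ * g * x)), Finset.mul_sum]
  refine Finset.sum_congr rfl (fun k _ => ?_)
  have h1 : ∑ x ∈ Finset.univ.filter (fun x : G => x⁻¹ * g * x = k), F (x⁻¹ * g * x) =
      ((Finset.univ.filter (fun x : G => x⁻¹ * g * x = k)).card : ℂ) * F k := by
    rw [Finset.sum_congr rfl (g := fun _ => F k)]
    · rw [Finset.sum_const, nsmul_eq_mul]
    · intro x hx
      rw [(Finset.mem_filter.mp hx).2]
  rw [h1]
  split_ifs with hk
  · have : (Finset.univ.filter (fun x : G => x⁻¹ * g * x = k)).card =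
        Nat.card {x : G // x⁻¹ * g * x = k} := by
      rw [Nat.card_eq_fintype_card, Fintype.card_subtype]
    rw [this, card_fiber g k hk]
  · have : (Finset.univ.filter (fun x : G => x⁻¹ * g * x = k)) = ∅ := by
      rw [Finset.filter_eq_empty_iff]
      intro x _ hx
      apply hk
      rw [isConj_iff]
      exact ⟨x⁻¹, by rw [inv_inv]; exact hx⟩
    rw [this]; simp

theorem sum_ext_eq {G : Type*} [Group G] [Fintype G] [DecidableEq G] (H : Subgroup G)
    [DecidablePred (· ∈ H)] (ξ : H → ℂ) (g : G) :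
    ∑ k : G, (if IsConj g k then Cfsg.extendByZero H ξ k else 0) =
      ∑ h : H, if IsConj g (h : G) then ξ h else 0 := by
  have hinj : Function.Injective (Subtype.val : H → G) := Subtype.val_injective
  rw [← Finset.sum_subset (Finset.subset_univ (Finset.univ.map ⟨Subtype.val, hinj⟩))]
  · rw [Finset.sum_map]
    refine Finset.sum_congr rfl (fun h _ => ?_)
    simp only [Function.Embedding.coeFn_mk]
    congr 1
    exact hinj.extend_apply ξ 0 h
  · intro k _ hk
    have : ¬ ∃ h : H, (h : G) = k := by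
      rintro ⟨h, rfl⟩
      exact hk (Finset.mem_map.mpr ⟨h, Finset.mem_univ _, rfl⟩)
    have h0 : Cfsg.extendByZero H ξ k = 0 := by
      unfold Cfsg.extendByZero
      rw [Function.extend_apply' _ _ _ this]; rfl
    rw [h0]; simp

/-- Let H be a subgroup of the finite group G and ξ a character of H. For every g ∈ G, the sum of ξ h / ξ 1 over the elements h ∈ H that are conjugate in G to g equals the central character at g of the character of G induced from ξ (class size times value divided by degree). -/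
theorem result {G : Type*} [Group G] [Fintype G] (H : Subgroup G) (ξ : H → ℂ) (hξ : Cfsg.IsCharacter H ξ) (g : G) : Cfsg.inducedCentralChar H ξ g = Cfsg.centralChar (Cfsg.indFun H ξ) g := by
  classical
  unfold Cfsg.inducedCentralChar Cfsg.centralChar Cfsg.indFun
  rw [finsum_mem_eq_sum_ite]
  rw [sum_conj_eq g, sum_conj_eq 1, sum_ext_eq, sum_ext_eq]
  have hone : ∑ h : H, (if IsConj (1 : G) (h : G) then ξ h else 0) = ξ 1 := by
    rw [Finset.sum_eq_single (1 : H)]
    · simp
    · intro h _ hh
      rw [if_neg]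
      intro hc
      apply hh
      have := isConj_one_right.mp hc
      exact Subtype.ext this
    · intro h; exact absurd (Finset.mem_univ _) h
  rw [hone]
  have hcard1 : (Nat.card (Subgroup.centralizer ({(1 : G)} : Set G)) : ℂ) = (Nat.card G : ℂ) := by
    have : Subgroup.centralizer ({(1 : G)} : Set G) = ⊤ := by
      ext x; simp [Subgroup.mem_centralizer_iff]
    rw [this, Subgroup.card_top]
  rw [hcard1]
  have hidx : ((Subgroup.centralizer ({g} : Set G)).index : ℂ) *
      (Nat.card (Subgroup.centralizer ({g} : Set G)) : ℂ) = (Nat.card G : ℂ) := by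
    rw [← Nat.cast_mul, mul_comm, Subgroup.card_mul_index]
  have hG : (Nat.card G : ℂ) ≠ 0 := by
    rw [Nat.cast_ne_zero]; exact Nat.card_pos.ne'
  have hH : (Nat.card H : ℂ) ≠ 0 := by
    rw [Nat.cast_ne_zero]; exact Nat.card_pos.ne'
  have hsum : ∑ h : H, (if IsConj g (h : G) then ξ h / ξ 1 else 0) =
      (∑ h : H, if IsConj g (h : G) then ξ h else 0) / ξ 1 := by
    rw [Finset.sum_div]
    refine Finset.sum_congr rfl (fun h _ => ?_)
    split_ifs <;> simp
  rw [hsum]
  by_cases hx1 : ξ 1 = 0
  · rw [hx1]; simp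
  · set S := ∑ h : H, if IsConj g (h : G) then ξ h else 0
    set a := ((Subgroup.centralizer ({g} : Set G)).index : ℂ)
    set c := (Nat.card (Subgroup.centralizer ({g} : Set G)) : ℂ)
    rw [← hidx]
    have hc : c ≠ 0 := by
      rw [Nat.cast_ne_zero]; exact Nat.card_pos.ne'
    have ha : a ≠ 0 := by
      intro h0; rw [h0, zero_mul] at hidx; exact hG hidx.symm
    field_simp

end Cfsg.Agent.S0932
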