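import Mathlib
import Cfsg.Statements.S0933
import Cfsg.Agent.S0932

set_option autoImplicit false
open Cfsg

namespace Cfsg.Agent.S0933

theorem memLocalIdeal_zero (M : Ideal Cfsg.AlgInt) (hM : M.IsMaximal) : Cfsg.MemLocalIdeal M 0 := by
  refine ⟨0, 1, M.zero_mem, ?_, by simp⟩
  exact (Ideal.ne_top_iff_one M).mp hM.ne_top

theorem memLocalIdeal_add (M : Ideal Cfsg.AlgInt) (hM : M.IsMaximal) {z w : ℂ}
    (hz : Cfsg.MemLocalIdeal M z) (hw : Cfsg.MemLocalIdeal M w) : Cfsg.MemLocalIdeal M (z + w) := by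
  obtain ⟨a, b, ha, hb, rfl⟩ := hz
  obtain ⟨a', b', ha', hb', rfl⟩ := hw
  have hb0 : (b : ℂ) ≠ 0 := by
    intro h0
    apply hb
    have : b = 0 := Subtype.ext h0
    rw [this]; exact M.zero_mem
  have hb0' : (b' : ℂ) ≠ 0 := by
    intro h0
    apply hb'
    have : b' = 0 := Subtype.ext h0
    rw [this]; exact M.zero_mem
  refine ⟨a * b' + a' * b, b * b', ?_, ?_, ?_⟩
  · exact M.add_mem (M.mul_mem_right _ ha) (M.mul_mem_right _ ha')
  · intro hmem
    rcases hM.isPrime.mem_or_mem hmem with h | h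
    · exact hb h
    · exact hb' h
  · push_cast
    field_simp

theorem memLocalIdeal_neg (M : Ideal Cfsg.AlgInt) {z : ℂ}
    (hz : Cfsg.MemLocalIdeal M z) : Cfsg.MemLocalIdeal M (-z) := by
  obtain ⟨a, b, ha, hb, rfl⟩ := hz
  refine ⟨-a, b, M.neg_mem ha, hb, ?_⟩
  push_cast
  ring

theorem memLocalIdeal_sum (M : Ideal Cfsg.AlgInt) (hM : M.IsMaximal) {ι : Type*} (s : Finset ι)
    (f : ι → ℂ) (hf : ∀ i ∈ s, Cfsg.MemLocalIdeal M (f i)) : Cfsg.MemLocalIdeal M (∑ i ∈ s, f i) := by
  classical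
  induction s using Finset.induction_on with
  | empty => simpa using memLocalIdeal_zero M hM
  | insert a s ha ih =>
    rw [Finset.sum_insert ha]
    exact memLocalIdeal_add M hM (hf a (Finset.mem_insert_self a s))
      (ih (fun i hi => hf i (Finset.mem_insert_of_mem hi)))

theorem isClassFunction_of_isIrr {H : Type*} [Group H] (ξ : H → ℂ) (hξ : Cfsg.IsIrrCharacter H ξ)
    (x c : H) : ξ (x * c * x⁻¹) = ξ c := by
  obtain ⟨n, ρ, -, rfl⟩ := hξ
  exact Representation.char_conj ρ c x

/-- number of conjugates = index of centralizer -/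
theorem card_conj_eq_index {H : Type*} [Group H] [Fintype H] [DecidableEq H] (c : H) :
    ((Finset.univ.filter (fun k : H => IsConj c k)).card : ℂ) =
      ((Subgroup.centralizer ({c} : Set H)).index : ℂ) := by
  have h := Cfsg.Agent.S0932.sum_conj_eq c (fun _ => (1 : ℂ))
  simp only [Finset.sum_const, Finset.card_univ, nsmul_eq_mul, mul_one, Finset.sum_boole] at h
  have hidx : ((Subgroup.centralizer ({c} : Set H)).index : ℂ) *
      (Nat.card (Subgroup.centralizer ({c} : Set H)) : ℂ) = (Nat.card H : ℂ) := by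
    rw [← Nat.cast_mul, mul_comm, Subgroup.card_mul_index]
  have hc : (Nat.card (Subgroup.centralizer ({c} : Set H)) : ℂ) ≠ 0 := by
    rw [Nat.cast_ne_zero]; exact Nat.card_pos.ne'
  rw [← Nat.card_eq_fintype_card, ← hidx, mul_comm] at h
  exact (mul_left_cancel₀ hc h).symm

/-- A sum, over the elements of `H` that are `G`-conjugate to `g`, of an `H`-class function which
on each element is `index of centralizer`⁻¹ times something in the local ideal. -/
theorem sum_classes {G : Type*} [Group G] [Fintype G] (M : Ideal Cfsg.AlgInt) (hM : M.IsMaximal)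
    (H : Subgroup G) (g : G) (f : H → ℂ)
    (hf : ∀ x c : H, f (x * c * x⁻¹) = f c)
    (hloc : ∀ c : H, Cfsg.MemLocalIdeal M (((Subgroup.centralizer ({c} : Set H)).index : ℂ) * f c)) :
    Cfsg.MemLocalIdeal M (∑ᶠ h ∈ {h : H | IsConj g (h : G)}, f h) := by
  classical
  rw [Cfsg.Agent.S0932.finsum_mem_eq_sum_ite]
  rw [← Finset.sum_fiberwise (s := Finset.univ) (g := fun h : H => ConjClasses.mk h)]
  refine memLocalIdeal_sum M hM _ _ (fun C _ => ?_)
  obtain ⟨c, rfl⟩ := ConjClasses.mk_surjective C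
  have hconst : ∀ k ∈ Finset.univ.filter (fun k : H => ConjClasses.mk k = ConjClasses.mk c),
      (if IsConj g (k : G) then f k else 0) = (if IsConj g (c : G) then f c else 0) := by
    intro k hk
    have hk' : IsConj c k := (ConjClasses.mk_eq_mk_iff_isConj.mp (Finset.mem_filter.mp hk).2).symm
    obtain ⟨x, hx⟩ := isConj_iff.mp hk'
    have hkG : IsConj (c : G) (k : G) := by
      rw [isConj_iff]
      exact ⟨(x : G), by rw [← hx]; rfl⟩
    have hiff : IsConj g (k : G) ↔ IsConj g (c : G) :=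
      ⟨fun h => h.trans hkG.symm, fun h => h.trans hkG⟩
    rw [← hx, hf]
    by_cases hgc : IsConj g (c : G)
    · rw [if_pos hgc, if_pos]
      rw [hx]; exact hiff.mpr hgc
    · rw [if_neg hgc, if_neg]
      rw [hx]; exact fun h => hgc (hiff.mp h)
  rw [Finset.sum_congr rfl hconst, Finset.sum_const, nsmul_eq_mul]
  have hfilter : (Finset.univ.filter (fun k : H => ConjClasses.mk k = ConjClasses.mk c)) =
      (Finset.univ.filter (fun k : H => IsConj c k)) := by
    ext k
    simp only [Finset.mem_filter, Finset.mem_univ, true_and]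
    rw [ConjClasses.mk_eq_mk_iff_isConj]
    exact ⟨fun h => h.symm, fun h => h.symm⟩
  rw [hfilter, card_conj_eq_index]
  by_cases hgc : IsConj g (c : G)
  · rw [if_pos hgc]; exact hloc c
  · rw [if_neg hgc, mul_zero]; exact memLocalIdeal_zero M hM

/-- Let H be a subgroup of the finite group G and ξ an irreducible character of H such that the induced function ξ^G is an irreducible character of G. Then, relative to any maximal ideal M of the algebraic integers containing the prime p, the block of ξ induces the block of ξ^G. -/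
theorem result {G : Type*} [Group G] [Fintype G] (p : ℕ) [Fact p.Prime] (M : Ideal Cfsg.AlgInt) (hM : Cfsg.IsPModular p M) (H : Subgroup G) (ξ : Cfsg.IrrCharacter H) (hind : Cfsg.IsIrrCharacter G (Cfsg.indFun H (ξ : H → ℂ))) : Cfsg.IsInducedBlock M H (Cfsg.blockOf M (ξ : H → ℂ)) (Cfsg.blockOf M (Cfsg.indFun H (ξ : H → ℂ))) := by
  classical
  have hMax : M.IsMaximal := hM.2.1
  refine ⟨⟨ξ, rfl⟩, ⟨⟨_, hind⟩, rfl⟩, ?_⟩
  intro ξ' hξ' χ hχ g
  -- hξ' : SameBlock M ξ ξ', hχ : SameBlock M (indFun H ξ) χ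
  have h1 : Cfsg.SameBlock M (ξ : H → ℂ) (ξ' : H → ℂ) := hξ'
  have h2 : Cfsg.SameBlock M (Cfsg.indFun H (ξ : H → ℂ)) (χ : G → ℂ) := hχ
  have hchar : Cfsg.IsCharacter H (ξ : H → ℂ) := by
    obtain ⟨n, ρ, -, h⟩ := ξ.2
    exact ⟨n, ρ, h⟩
  have key := Cfsg.Agent.S0932.result H (ξ : H → ℂ) hchar g
  have hsplit : Cfsg.inducedCentralChar H (ξ' : H → ℂ) g - Cfsg.centralChar (χ : G → ℂ) g =
      (Cfsg.inducedCentralChar H (ξ' : H → ℂ) g - Cfsg.inducedCentralChar H (ξ : H → ℂ) g) +
      (Cfsg.centralChar (Cfsg.indFun H (ξ : H → ℂ)) g - Cfsg.centralChar (χ : G → ℂ) g) := by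
    rw [← key]; ring
  rw [hsplit]
  refine memLocalIdeal_add M hMax ?_ (h2 g)
  -- difference of induced central characters
  have hdiff : Cfsg.inducedCentralChar H (ξ' : H → ℂ) g - Cfsg.inducedCentralChar H (ξ : H → ℂ) g =
      ∑ᶠ h ∈ {h : H | IsConj g (h : G)},
        ((ξ' : H → ℂ) h / (ξ' : H → ℂ) 1 - (ξ : H → ℂ) h / (ξ : H → ℂ) 1) := by
    unfold Cfsg.inducedCentralChar
    have hfin : ({h : H | IsConj g (h : G)}).Finite := Set.toFinite _
    rw [finsum_mem_sub_distrib _ _ hfin]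
  rw [hdiff]
  refine sum_classes M hMax H g _ ?_ ?_
  · intro x c
    rw [isClassFunction_of_isIrr _ ξ'.2, isClassFunction_of_isIrr _ ξ.2]
  · intro c
    have := memLocalIdeal_neg M (h1 c)
    unfold Cfsg.centralChar at this
    convert this using 1
    ring

end Cfsg.Agent.S0933
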