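import Cfsg.Statements.S0935
import Cfsg.Agent.Lib.Helper57_Blau
import Cfsg.Agent.S0874

set_option autoImplicit false
open Cfsg

namespace Cfsg.Agent.S0935

open Cfsg.Agent.Lib.Helper3_CharBridge Cfsg.Agent.Lib.Helper3_CharOrtho
  Cfsg.Agent.Lib.Helper3_CharComplete
  Cfsg.Agent.Lib.Helper75_CharArith Cfsg.Agent.Lib.Helper57_PRegInt
  Cfsg.Agent.Lib.Helper57_HeightZero Cfsg.Agent.Lib.Helper57_BrauerFeit
  Cfsg.Agent.Lib.Helper78_LocalRing Cfsg.Agent.Lib.Helper77_BlockBasics
  Cfsg.Agent.Lib.Helper78_Osima Cfsg.Agent.Lib.Helper78_CharFacts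
  Cfsg.Agent.Lib.Helper57_Blau
open scoped ComplexConjugate

section
variable {G : Type*} [Group G] [Fintype G] {p : ℕ} {M : Ideal AlgInt}

/-- If `χ_H = ψ` is irreducible, of height zero in its block `b`, and `b` induces `B'`, then
`χ ∈ B'` (Okuyama). -/
theorem mem_of_induced_of_restrict_irr (hp : p.Prime) (hM : IsPModular p M)
    (H : Subgroup G) [Fintype H] (hIG : RegInt G p) (hIH : RegInt H p)
    {b : Set (IrrCharacter H)} {B' : Set (IrrCharacter G)} (hind : IsInducedBlock M H b B')
    (χ : IrrCharacter G) (ψ : IrrCharacter H)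
    (hψχ : (ψ : H → ℂ) = fun h : H => (χ : G → ℂ) h) (hψ : ψ ∈ b)
    (hψ0 : blockHeight p b (ψ : H → ℂ) = 0) : χ ∈ B' := by
  classical
  have hM' := isPrime_of_isPModular hM
  obtain ⟨χ', hχ'⟩ := isPBlock_nonempty hM' hind.2.1
  set f : G → ℂ := regPart p (fun g => conj ((χ : G → ℂ) g)) with hf
  have hfcl : IsClassFunction G f :=
    regPart_isClassFunction p
      (Cfsg.Agent.Lib.Helper57_HeightZero.isClassFunction_conj (isClassFunction_of_isIrrCharacter χ.2))
  have hfR : ∀ g, MemLocalRing M (f g) := by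
    intro g
    have hint := isIntegral_regPart_conj (p := p) (isCharacter_of_isIrrCharacter χ.2) g
    exact memLocalRing_algInt hM' ⟨_, hint⟩
  have hcong := Cfsg.Agent.Lib.Helper78_PRegSum.memLocalIdeal_omega_restrict_sub hM' H
    (ψ : H → ℂ) (isClassFunction_of_isIrrCharacter χ'.2)
    (fun g => hind.2.2 ψ hψ χ' hχ' g) hfcl hfR
  have hfun : (fun h : H => conj ((χ : G → ℂ) h)) = fun h : H => conj ((ψ : H → ℂ) h) := by
    rw [hψχ]
  rw [hf, rr_spec hIG χ' χ, regPart_restrict, hfun, rr_spec hIH ψ ψ, ← Int.cast_sub,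
    memLocalIdeal_intCast_iff hM] at hcong
  have h1 : ¬ (p : ℤ) ∣ rr hIH ψ ψ := (height_zero_iff hp hM hind.1 hIH hψ).mp hψ0
  by_contra hχ
  have h2 := NN_eq_zero_of_not_mem hM hind.2.1 hIG hχ' hχ
  have h3 := rr_mul hIG χ' χ
  rw [h2, mul_zero] at h3
  have h4 : rr hIG χ' χ = 0 := by
    rcases mul_eq_zero.mp h3 with h | h
    · exact h
    · exact absurd h (by exact_mod_cast (charDegree_pos χ').ne')
  rw [h4, sub_zero] at hcong
  exact h1 hcong

end


/-- Let H be a subgroup of the finite group G and χ an irreducible character of G whose restriction to H is irreducible; fix a maximal ideal M of the algebraic integers containing the prime p and suppose χ and its restriction have height zero in their blocks B and b. If e is a block of H whose induced block is defined, then e induces B if and only if e = b. -/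
theorem result {G : Type*} [Group G] [Finite G] (p : ℕ) [Fact p.Prime] (M : Ideal Cfsg.AlgInt) (hM : Cfsg.IsPModular p M) (H : Subgroup G) (χ : Cfsg.IrrCharacter G) (hres : Cfsg.IsIrrCharacter H (fun h : H => (χ : G → ℂ) h)) (hχ0 : Cfsg.blockHeight p (Cfsg.blockOf M (χ : G → ℂ)) (χ : G → ℂ) = 0) (hψ0 : Cfsg.blockHeight p (Cfsg.blockOf M (fun h : H => (χ : G → ℂ) h)) (fun h : H => (χ : G → ℂ) h) = 0) (e : Set (Cfsg.IrrCharacter H)) (he : Cfsg.InducedBlockDefined M H e) : Cfsg.IsInducedBlock M H e (Cfsg.blockOf M (χ : G → ℂ)) ↔ e = Cfsg.blockOf M (fun h : H => (χ : G → ℂ) h) := by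
  classical
  have hp : p.Prime := Fact.out
  have := Fintype.ofFinite G
  have := Fintype.ofFinite H
  have hM' := isPrime_of_isPModular hM
  have hIG : RegInt G p := regInt_of_brauerLocal hp (fun q hq _ => Cfsg.Agent.S0874.result q hq)
  have hIH : RegInt H p := regInt_of_brauerLocal hp (fun q hq _ => Cfsg.Agent.S0874.result q hq)
  set ψ : IrrCharacter H := ⟨fun h : H => (χ : G → ℂ) h, hres⟩ with hψdef
  have hψb : ψ ∈ blockOf M (fun h : H => (χ : G → ℂ) h) := mem_blockOf_self hM' ψ
  have hbB : IsPBlock M (blockOf M (fun h : H => (χ : G → ℂ) h)) := isPBlock_blockOf ψ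
  constructor
  · intro hind
    -- Blau: some height-zero member of `e` occurs in `χ_H = ψ`
    obtain ⟨ξ, hξe, _, n, hn, hnd⟩ := exists_height_zero_constituent_restrict hp hM H hIG hIH
      hind (mem_blockOf_self hM' χ) hχ0
    have hne : classInner (ψ : H → ℂ) (ξ : H → ℂ) ≠ 0 := by
      show classInner (fun h : H => (χ : G → ℂ) h) (ξ : H → ℂ) ≠ 0
      rw [hn]
      intro h0
      apply hnd
      have : n = 0 := by exact_mod_cast h0
      rw [this]
      exact dvd_zero p
    have heq : ψ = ξ := by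
      by_contra hne'
      apply hne
      exact classInner_of_isIrrCharacter_of_ne ψ.2 ξ.2 (fun h => hne' (Subtype.ext h))
    rw [← heq] at hξe
    exact isPBlock_eq_of_mem_of_mem hM' hind.1 hbB hξe hψb
  · intro he'
    obtain ⟨B', hind⟩ := he
    rw [he'] at hind
    have hmem := mem_of_induced_of_restrict_irr hp hM H hIG hIH hind χ ψ rfl hψb hψ0
    have hBB : B' = blockOf M (χ : G → ℂ) := isPBlock_eq_blockOf hM' hind.2.1 hmem
    rw [he', ← hBB]
    exact hind

end Cfsg.Agent.S0935
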