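-- Statement S0940: Külshammer's formula for the principal block idempotent (helper79).
import Cfsg.Statements.S0940
import Cfsg.Agent.Lib.Helper79_Kulshammer
import Cfsg.Agent.Lib.Helper78_PRegSum
import Cfsg.Agent.Lib.Helper78_LocalRing
import Cfsg.Agent.Lib.Helper78_CharFacts

set_option autoImplicit false
open Cfsg

namespace Cfsg.Agent.S0940

open Cfsg.Agent.Lib.Helper78_LocalRing Cfsg.Agent.Lib.Helper78_PRegSum
  Cfsg.Agent.Lib.Helper78_CharFacts Cfsg.Agent.Lib.Helper79_Kulshammer

/-- Pairs `(x, y)` with `x` a `p`-element, `y` `p`-regular and `x * y = g` correspond to the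
`p`-elements `h = x⁻¹` with `h * g` `p`-regular. -/
def pairEquiv {G : Type*} [Group G] (p : ℕ) (g : G) :
    {xy : G × G // (∃ k : ℕ, orderOf xy.1 = p ^ k) ∧ ¬ p ∣ orderOf xy.2 ∧ xy.1 * xy.2 = g} ≃
      {h : G // (∃ k : ℕ, orderOf h = p ^ k) ∧ ¬ p ∣ orderOf (h * g)} where
  toFun xy := ⟨xy.1.1⁻¹, by
    rw [orderOf_inv]
    exact xy.2.1, by
    have h1 : xy.1.1⁻¹ * g = xy.1.2 := by
      have h2 := xy.2.2.2
      have h3 : xy.1.1⁻¹ * (xy.1.1 * xy.1.2) = xy.1.2 := by group
      rw [h2] at h3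
      exact h3
    rw [h1]
    exact xy.2.2.1⟩
  invFun h := ⟨(h.1⁻¹, h.1 * g), by
    show ∃ k : ℕ, orderOf (h.1⁻¹) = p ^ k
    rw [orderOf_inv]
    exact h.2.1, h.2.2, by
    show h.1⁻¹ * (h.1 * g) = g
    group⟩
  left_inv xy := by
    apply Subtype.ext
    apply Prod.ext
    · show (xy.1.1⁻¹)⁻¹ = xy.1.1
      rw [inv_inv]
    · show xy.1.1⁻¹ * g = xy.1.2
      have h2 := xy.2.2.2
      have h3 : xy.1.1⁻¹ * (xy.1.1 * xy.1.2) = xy.1.2 := by group
      rw [h2] at h3
      exact h3
  right_inv h := by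
    apply Subtype.ext
    show (h.1⁻¹)⁻¹ = h.1
    rw [inv_inv]

/-- Let G be a finite group and M a maximal ideal of the algebraic integers containing the prime p. For every p-regular g, the idempotent coefficient of the principal block at g (the inverse of the group order times the sum over χ in the principal block of χ 1 * conj (χ g)) is congruent modulo the local ideal at M to N / R, where N is the number of pairs (x, y) with x of p-power order, y of order prime to p and x * y = g, and R is the number of elements of G of order prime to p. -/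
theorem result {G : Type*} [Group G] [Finite G] (p : ℕ) [Fact p.Prime] (M : Ideal Cfsg.AlgInt) (hM : Cfsg.IsPModular p M) (g : G) (hg : ¬ p ∣ orderOf g) : Cfsg.MemLocalIdeal M (Cfsg.blockCoeff (Cfsg.principalBlock M G) g - (Nat.card {xy : G × G // (∃ k : ℕ, orderOf xy.1 = p ^ k) ∧ ¬ p ∣ orderOf xy.2 ∧ xy.1 * xy.2 = g} : ℂ) / (Nat.card {y : G // ¬ p ∣ orderOf y} : ℂ)) := by
  classical
  have := Fintype.ofFinite G
  have hMp := isPrime_of_isPModular hM
  have hmain := kulshammer_main hM g hg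
  rw [← Nat.card_congr (pairEquiv p g)] at hmain
  have hR : ∑ x : G, regInd p G x = (Nat.card {y : G // ¬ p ∣ orderOf y} : ℂ) := by
    rw [sum_regInd_eq_card, Nat.card_eq_fintype_card, Fintype.card_subtype]
  have hRnot := not_memLocalIdeal_sum_regInd (G := G) hM
  rw [hR] at hmain hRnot
  set r := Nat.card {y : G // ¬ p ∣ orderOf y} with hr
  set N := Nat.card {xy : G × G // (∃ k : ℕ, orderOf xy.1 = p ^ k) ∧ ¬ p ∣ orderOf xy.2 ∧
    xy.1 * xy.2 = g} with hN
  set a := blockCoeff (principalBlock M G) g with ha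
  have hpr : ¬ p ∣ r := fun h => hRnot ((memLocalIdeal_natCast_iff hM r).2 h)
  have haR : MemLocalRing M a :=
    osima_block' hMp ⟨Cfsg.Agent.Lib.Helper80_CharBasic.oneIrr G, rfl⟩ g
  have hquot : MemLocalRing M ((N : ℂ) / (r : ℂ)) := memLocalRing_natCast_div hM N hpr
  have hyR : MemLocalRing M (a - (N : ℂ) / (r : ℂ)) := memLocalRing_sub hMp haR hquot
  have hr0 : (r : ℂ) ≠ 0 := by
    intro h
    apply hRnot
    rw [h]
    exact memLocalIdeal_zero hMp
  have hprod : MemLocalIdeal M ((r : ℂ) * (a - (N : ℂ) / (r : ℂ))) := by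
    have h1 : (r : ℂ) * (a - (N : ℂ) / (r : ℂ)) = (r : ℂ) * a - (N : ℂ) := by
      field_simp
    rw [h1]
    exact hmain
  exact (memLocalIdeal_unit_mul_iff hMp (memLocalRing_natCast hMp r) hRnot hyR).1 hprod

end Cfsg.Agent.S0940
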