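import Cfsg.Statements.S0946
import Cfsg.Agent.Lib.Helper16_Homocyclic
import Mathlib

set_option autoImplicit false
open Cfsg

namespace Cfsg.Agent.S0946

open Cfsg.Agent.Lib.Helper16_Homocyclic

/-- every involution is conjugate to an involution of a given Sylow 2-subgroup -/
theorem exists_conj_in_sylow {G : Type*} [Group G] [Finite G] (P : Sylow 2 G) (s : G)
    (hs : orderOf s = 2) :
    ∃ s' ∈ (P : Subgroup G), s'^2 = 1 ∧ s' ≠ 1 ∧ IsConj s s' := by
  have : Fact (Nat.Prime 2) := ⟨Nat.prime_two⟩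
  have hs2 : s^2 = 1 := by rw [← hs]; exact pow_orderOf_eq_one s
  have hs1 : s ≠ 1 := by
    intro h
    rw [h, orderOf_one] at hs
    omega
  have hz : IsPGroup 2 (Subgroup.zpowers s) := by
    apply IsPGroup.of_card (n := 1)
    rw [Nat.card_zpowers, hs, pow_one]
  obtain ⟨Q, hQ⟩ := hz.exists_le_sylow
  obtain ⟨g, hg⟩ := MulAction.exists_smul_eq G Q P
  have hsQ : s ∈ (Q : Subgroup G) := hQ (Subgroup.mem_zpowers s)
  have h2 := Subgroup.smul_mem_pointwise_smul _ (MulAut.conj g) _ hsQ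
  rw [← Sylow.coe_subgroup_smul, hg, MulAut.smul_def, MulAut.conj_apply] at h2
  refine ⟨g * s * g⁻¹, h2, ?_, ?_, isConj_iff.mpr ⟨g, rfl⟩⟩
  · rw [conj_pow, hs2, mul_one, mul_inv_cancel]
  · intro h'
    apply hs1
    apply conj_injective g
    rw [h', mul_one, mul_inv_cancel]

/-- Let P be a Sylow 2-subgroup of the finite group G isomorphic to Z/2^m × Z/2^m with m ≥ 1. Then either P has a normal complement in G, or all involutions of G are conjugate. -/
theorem result {G : Type*} [Group G] [Finite G] (P : Sylow 2 G) (m : ℕ) (hm : 1 ≤ m) (e : (P : Subgroup G) ≃* Multiplicative (ZMod (2 ^ m) × ZMod (2 ^ m))) : (∃ N : Subgroup G, N.Normal ∧ Subgroup.IsComplement' N (P : Subgroup G)) ∨ ∀ s t : G, orderOf s = 2 → orderOf t = 2 → IsConj s t := by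
  have : Fact (Nat.Prime 2) := ⟨Nat.prime_two⟩
  have h := hyp_of_equiv P m hm e
  rcases h.relIndex_eq_one_or_three with h1 | h3
  · left
    have hle : Subgroup.normalizer ((P : Subgroup G) : Set G)
        ≤ Subgroup.centralizer ((P : Subgroup G) : Set G) := Subgroup.relIndex_eq_one.mp h1
    exact ⟨(MonoidHom.transferSylow P hle).ker, inferInstance,
      MonoidHom.ker_transferSylow_isComplement' P hle⟩
  · right
    intro s t hs ht
    obtain ⟨s', hs'P, hs'2, hs'1, hss'⟩ := exists_conj_in_sylow P s hs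
    obtain ⟨t', ht'P, ht'2, ht'1, htt'⟩ := exists_conj_in_sylow P t ht
    obtain ⟨n, _, hnc⟩ := (h.orbit hs'P hs'2 hs'1).2 h3 t' ht'P ht'2 ht'1
    exact hss'.trans ((isConj_iff.mpr ⟨n, hnc⟩).trans htt'.symm)

end Cfsg.Agent.S0946
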