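import Cfsg.Statements.S0949
import Cfsg.Agent.Lib.Helper16_Homocyclic
import Cfsg.Agent.Lib.Helper17_HomoGroup
import Cfsg.Agent.Lib.Helper17_HomoMain
import Cfsg.Agent.Lib.Helper1_Cores
import Cfsg.Agent.Lib.Helper80_CharBasic
import Cfsg.Agent.S4145
import Cfsg.Agent.S4835

set_option autoImplicit false
open Cfsg

namespace Cfsg.Agent.S0949

open Cfsg.Agent.Lib.Helper16_Homocyclic Cfsg.Agent.Lib.Helper17_HomoGroup

universe u

/-- If `P` is a normal abelian Sylow `2`-subgroup satisfying `Hyp` and `O(G) = 1`, then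
`C_G(P) = P` and `|G : P| ∈ {1, 3}`. -/
theorem of_normal {G : Type*} [Group G] [Finite G] (P : Sylow 2 G)
    (h : Hyp (P : Subgroup G))
    (hO : ∀ N : Subgroup G, N.Normal → Odd (Nat.card N) → N = ⊥)
    (hN : (P : Subgroup G).Normal) :
    Subgroup.centralizer ((P : Subgroup G) : Set G) = (P : Subgroup G) ∧
      ((P : Subgroup G).index = 1 ∨ (P : Subgroup G).index = 3) := by
  have hF2 : Fact (Nat.Prime 2) := ⟨Nat.prime_two⟩
  set C := Subgroup.centralizer ((P : Subgroup G) : Set G) with hC
  have hCn : C.Normal := Subgroup.normal_centralizer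
  have hPC : (P : Subgroup G) ≤ C := h.le_centralizer
  let Q : Sylow 2 C := P.subtype hPC
  have hQcoe : (Q : Subgroup C) = (P : Subgroup G).subgroupOf C := Sylow.coe_subtype P hPC
  have hNC : Subgroup.normalizer ((Q : Subgroup C) : Set C) ≤
      Subgroup.centralizer ((Q : Subgroup C) : Set C) := by
    intro n _
    rw [Subgroup.mem_centralizer_iff]
    intro q hq
    rw [hQcoe] at hq
    have hqP : (q : G) ∈ (P : Subgroup G) := Subgroup.mem_subgroupOf.mp hq
    have := Subgroup.mem_centralizer_iff.mp n.2 (q : G) hqP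
    apply Subtype.ext
    push_cast
    exact this
  obtain ⟨K, hKn, hKc, hKcop, hKall, -⟩ := Cfsg.Agent.S4145.exists_normal_pcomplement Q hNC
  -- the image of `K` in `G` is normal of odd order
  have hK'n : (K.map C.subtype).Normal := by
    constructor
    intro a ha g
    obtain ⟨k, hk, rfl⟩ := ha
    have hmem : g * (k : G) * g⁻¹ ∈ C := hCn.conj_mem _ k.2 g
    refine ⟨⟨g * (k : G) * g⁻¹, hmem⟩, ?_, rfl⟩
    apply hKall
    have h1 : orderOf (⟨g * (k : G) * g⁻¹, hmem⟩ : C) = orderOf k := by
      rw [← Subgroup.orderOf_coe, ← Subgroup.orderOf_coe k]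
      have hsc : SemiconjBy g (k : G) (g * (k : G) * g⁻¹) := by
        show g * (k : G) = g * (k : G) * g⁻¹ * g
        group
      exact (hsc.orderOf_eq g).symm
    rw [h1]
    have h2 : orderOf k ∣ Nat.card K := by
      have := orderOf_dvd_natCard (⟨k, hk⟩ : K)
      rwa [Subgroup.orderOf_mk] at this
    exact Nat.Coprime.coprime_dvd_left h2 hKcop
  have hK'card : Nat.card (K.map C.subtype) = Nat.card K :=
    Subgroup.card_map_of_injective (Subgroup.subtype_injective C)
  have hK'odd : Odd (Nat.card (K.map C.subtype)) := by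
    rw [hK'card]
    exact Nat.coprime_two_right.mp hKcop
  have hK'bot := hO _ hK'n hK'odd
  have hKbot : K = ⊥ := by
    rw [← Subgroup.map_eq_bot_iff_of_injective K (Subgroup.subtype_injective C)]
    exact hK'bot
  rw [hKbot] at hKc
  have hQtop : (Q : Subgroup C) = ⊤ := Subgroup.isComplement'_bot_left.mp hKc
  have hCP : C = (P : Subgroup G) := by
    apply le_antisymm _ hPC
    intro x hx
    have : (⟨x, hx⟩ : C) ∈ (Q : Subgroup C) := by rw [hQtop]; trivial
    rw [hQcoe] at this
    exact Subgroup.mem_subgroupOf.mp this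
  refine ⟨hCP, ?_⟩
  have hnorm : Subgroup.normalizer ((P : Subgroup G) : Set G) = ⊤ :=
    Subgroup.normalizer_eq_top_iff.mpr hN
  have h13 := h.relIndex_eq_one_or_three
  rw [hnorm, Subgroup.relIndex_top_right, ← hC, hCP] at h13
  exact h13

/-- The Sylow `2`-subgroup is normal: induction on the order of the group. -/
theorem normal_aux : ∀ (N : ℕ) (G : Type u) [Group G] [Finite G], Nat.card G = N →
    ∀ (P : Sylow 2 G) (m : ℕ), 2 ≤ m →
    ((P : Subgroup G) ≃* Multiplicative (ZMod (2 ^ m) × ZMod (2 ^ m))) →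
    (∀ N : Subgroup G, N.Normal → Odd (Nat.card N) → N = ⊥) → (P : Subgroup G).Normal := by
  intro N
  induction N using Nat.strong_induction_on with
  | _ N ih =>
    intro G _ _ hN P m hm e hO
    have hF2 : Fact (Nat.Prime 2) := ⟨Nat.prime_two⟩
    have h := hyp_of_equiv P m (by omega) e
    rcases h.relIndex_eq_one_or_three with h1 | h3
    · -- Burnside: `G = P`
      have hNC : Subgroup.normalizer ((P : Subgroup G) : Set G) ≤
          Subgroup.centralizer ((P : Subgroup G) : Set G) := Subgroup.relIndex_eq_one.mp h1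
      obtain ⟨K, hKn, hKc, hKcop, -, -⟩ := Cfsg.Agent.S4145.exists_normal_pcomplement P hNC
      have hKbot := hO K hKn (Nat.coprime_two_right.mp hKcop)
      rw [hKbot] at hKc
      have hPtop : (P : Subgroup G) = ⊤ := Subgroup.isComplement'_bot_left.mp hKc
      rw [hPtop]
      infer_instance
    · -- the linear character
      obtain ⟨σ, t, z, hd⟩ := exists_HD P m hm e h3
      obtain ⟨χ, hχ1, hχdeg, hχP⟩ := Cfsg.Agent.Lib.Helper17_HomoMain.exists_linear P hd
      set G₁ : Subgroup G := Cfsg.Agent.S4835.irrKer χ with hG₁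
      have hG₁n : G₁.Normal := Cfsg.Agent.S4835.irrKer_normal χ
      have hPG₁ : (P : Subgroup G) ≤ G₁ := by
        intro w hw
        rw [hG₁, Cfsg.Agent.S4835.mem_irrKer, hχP w hw, hχdeg]
      have hG₁top : G₁ ≠ ⊤ := by
        intro htop
        apply hχ1
        apply Subtype.ext
        funext g
        have : g ∈ G₁ := by rw [htop]; trivial
        rw [hG₁, Cfsg.Agent.S4835.mem_irrKer, hχdeg] at this
        rw [this]
        rfl
      have hlt : Nat.card G₁ < N := by
        rw [← hN]
        have hidx : G₁.index ≠ 1 := fun h' => hG₁top (Subgroup.index_eq_one.mp h')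
        have hmul := Subgroup.card_mul_index G₁
        have hpos : 0 < Nat.card G₁ := Nat.card_pos
        have hipos : 0 < G₁.index := Nat.pos_of_ne_zero Subgroup.index_ne_zero_of_finite
        have h2 : 2 ≤ G₁.index := by omega
        nlinarith
      let P₁ : Sylow 2 G₁ := P.subtype hPG₁
      have hP₁coe : (P₁ : Subgroup G₁) = (P : Subgroup G).subgroupOf G₁ :=
        Sylow.coe_subtype P hPG₁
      let e₁ : (P₁ : Subgroup G₁) ≃* Multiplicative (ZMod (2 ^ m) × ZMod (2 ^ m)) :=
        (MulEquiv.subgroupCongr hP₁coe).trans ((Subgroup.subgroupOfEquivOfLe hPG₁).trans e)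
      have hO₁ : ∀ N' : Subgroup G₁, N'.Normal → Odd (Nat.card N') → N' = ⊥ := by
        intro N' hN'n hN'odd
        have hle : N' ≤ pPrimeCore 2 G₁ :=
          Cfsg.Agent.Lib.Helper1_Cores.le_pPrimeCore hN'n (Nat.coprime_two_right.mpr hN'odd)
        have hchar : (pPrimeCore 2 G₁).Characteristic :=
          Cfsg.Agent.Lib.Helper1_Cores.instPPrimeCoreCharacteristic 2
        have hmapn : ((pPrimeCore 2 G₁).map G₁.subtype).Normal :=
          ConjAct.normal_of_characteristic_of_normal
        have hmapcard : Nat.card ((pPrimeCore 2 G₁).map G₁.subtype) =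
            Nat.card (pPrimeCore 2 G₁) :=
          Subgroup.card_map_of_injective (Subgroup.subtype_injective G₁)
        have hodd : Odd (Nat.card ((pPrimeCore 2 G₁).map G₁.subtype)) := by
          rw [hmapcard]
          exact Nat.coprime_two_right.mp
            (Cfsg.Agent.Lib.Helper1_Cores.pPrimeCore_card_coprime (G := G₁) 2)
        have hbot := hO _ hmapn hodd
        have hcore : pPrimeCore 2 G₁ = ⊥ := by
          rw [← Subgroup.map_eq_bot_iff_of_injective _ (Subgroup.subtype_injective G₁)]
          exact hbot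
        rw [hcore] at hle
        exact le_bot_iff.mp hle
      have hP₁n : (P₁ : Subgroup G₁).Normal := ih (Nat.card G₁) hlt G₁ rfl P₁ m hm e₁ hO₁
      have hchar : (P₁ : Subgroup G₁).Characteristic := Sylow.characteristic_of_normal P₁ hP₁n
      have hmapn : ((P₁ : Subgroup G₁).map G₁.subtype).Normal :=
        ConjAct.normal_of_characteristic_of_normal
      rw [hP₁coe, Subgroup.map_subgroupOf_eq_of_le hPG₁] at hmapn
      exact hmapn

/-- Let the finite group G have a Sylow 2-subgroup P isomorphic to Z/2^m × Z/2^m with m ≥ 2, and suppose G has no nontrivial normal subgroup of odd order. Then P is normal in G, C_G(P) = P, and the index of P is 1 or 3. -/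
theorem result {G : Type*} [Group G] [Finite G] (P : Sylow 2 G) (m : ℕ) (hm : 2 ≤ m) (e : (P : Subgroup G) ≃* Multiplicative (ZMod (2 ^ m) × ZMod (2 ^ m))) (hO : ∀ N : Subgroup G, N.Normal → Odd (Nat.card N) → N = ⊥) : (P : Subgroup G).Normal ∧ Subgroup.centralizer (P : Set G) = (P : Subgroup G) ∧ ((P : Subgroup G).index = 1 ∨ (P : Subgroup G).index = 3) := by
  have hN := normal_aux (Nat.card G) G rfl P m hm e hO
  have h := hyp_of_equiv P m (by omega) e
  exact ⟨hN, of_normal P h hO hN⟩

end Cfsg.Agent.S0949
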