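import Cfsg.Statements.S0952
import Cfsg.Agent.Lib.Helper77_RegProj

set_option autoImplicit false
open scoped ComplexConjugate
open Cfsg

namespace Cfsg.Agent.S0952

/-- Let χ and ψ be irreducible characters of the finite group G lying in different blocks relative to a maximal ideal M of the algebraic integers containing the prime p. Then the sum of χ x * conj (ψ x) over the elements x of order prime to p is zero. -/
theorem result {G : Type*} [Group G] [Finite G] (p : ℕ) [Fact p.Prime] (M : Ideal Cfsg.AlgInt) (hM : Cfsg.IsPModular p M) (χ ψ : Cfsg.IrrCharacter G) (h : ¬ Cfsg.SameBlock M (χ : G → ℂ) (ψ : G → ℂ)) : ∑ᶠ x ∈ {x : G | ¬ p ∣ orderOf x}, (χ : G → ℂ) x * conj ((ψ : G → ℂ) x) = 0 := by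
  classical
  have := Fintype.ofFinite G
  have hMp : M.IsPrime := hM.2.1.isPrime
  have hB : IsPBlock M (blockOf M (ψ : G → ℂ)) := ⟨ψ, rfl⟩
  have hψ : ψ ∈ blockOf M (ψ : G → ℂ) :=
    Cfsg.Agent.Lib.Helper78_LocalRing.sameBlock_refl hMp _
  have hχ : χ ∉ blockOf M (ψ : G → ℂ) := fun hmem =>
    h (Cfsg.Agent.Lib.Helper78_LocalRing.sameBlock_symm hmem)
  have key := Cfsg.Agent.Lib.Helper77_RegProj.sum_pRegularPart_mul_conj_eq_zero hM
    (blockOf M (ψ : G → ℂ))
    (fun g => Cfsg.Agent.Lib.Helper78_CharFacts.osima_block' hMp hB g) χ ψ hχ hψ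
  rw [finsum_mem_def, finsum_eq_sum_of_fintype, ← key]
  refine Finset.sum_congr rfl fun x _ => ?_
  by_cases hx : p ∣ orderOf x
  · rw [Cfsg.Agent.Lib.Helper77_RegProj.pRegularPart_of_sing _ hx, zero_mul,
      Set.indicator_of_notMem]
    exact fun hmem => hmem hx
  · rw [Cfsg.Agent.Lib.Helper77_RegProj.pRegularPart_of_reg _ hx, Set.indicator_of_mem]
    exact hx

end Cfsg.Agent.S0952
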