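import Mathlib
import Cfsg.Statements.S0957

set_option autoImplicit false
open Cfsg

namespace Cfsg.Agent.S0957

section
variable {G : Type*} [Group G] (P : Subgroup G) (g h : G)

/-- the set of pairs -/
abbrev Pairs : Type _ :=
  {yz : G × G // IsConj g yz.1 ∧ IsConj h yz.2 ∧ yz.2 * yz.1⁻¹ ∈ P}

theorem isConj_conj_right {a b : G} (u : G) (hab : IsConj a b) : IsConj a (u * b * u⁻¹) :=
  hab.trans (isConj_iff.mpr ⟨u, rfl⟩)

/-- conjugation action of `P` on the pairs -/
def act (u : P) (x : Pairs P g h) : Pairs P g h :=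
  ⟨((u : G) * x.1.1 * (u : G)⁻¹, (u : G) * x.1.2 * (u : G)⁻¹),
    isConj_conj_right _ x.2.1, isConj_conj_right _ x.2.2.1, by
      have h3 := x.2.2.2
      have : (u : G) * x.1.2 * (u : G)⁻¹ * ((u : G) * x.1.1 * (u : G)⁻¹)⁻¹ =
          (u : G) * (x.1.2 * x.1.1⁻¹) * (u : G)⁻¹ := by group
      show (u : G) * x.1.2 * (u : G)⁻¹ * ((u : G) * x.1.1 * (u : G)⁻¹)⁻¹ ∈ P
      rw [this]
      exact P.mul_mem (P.mul_mem u.2 h3) (P.inv_mem u.2)⟩

instance instAct : MulAction P (Pairs P g h) where
  smul := act P g h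
  one_smul x := by
    apply Subtype.ext
    show (((1 : P) : G) * x.1.1 * ((1 : P) : G)⁻¹, ((1 : P) : G) * x.1.2 * ((1 : P) : G)⁻¹) = x.1
    simp
  mul_smul u v x := by
    apply Subtype.ext
    show (((u * v : P) : G) * x.1.1 * ((u * v : P) : G)⁻¹,
      ((u * v : P) : G) * x.1.2 * ((u * v : P) : G)⁻¹) =
      ((u : G) * ((v : G) * x.1.1 * (v : G)⁻¹) * (u : G)⁻¹,
        (u : G) * ((v : G) * x.1.2 * (v : G)⁻¹) * (u : G)⁻¹)
    simp only [Subgroup.coe_mul, mul_inv_rev, mul_assoc]

theorem smul_fst (u : P) (x : Pairs P g h) : (u • x).1.1 = (u : G) * x.1.1 * (u : G)⁻¹ := rfl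

end

theorem card_centralizer_of_isConj {G : Type*} [Group G] {a b : G} (hab : IsConj a b) :
    Nat.card (Subgroup.centralizer ({a} : Set G)) = Nat.card (Subgroup.centralizer ({b} : Set G)) := by
  obtain ⟨c, hc⟩ := isConj_iff.mp hab
  refine Nat.card_congr ⟨fun x => ⟨c * x.1 * c⁻¹, ?_⟩, fun y => ⟨c⁻¹ * y.1 * c, ?_⟩, ?_, ?_⟩
  · have hx := x.2
    rw [Subgroup.mem_centralizer_iff] at hx ⊢
    intro z hz
    rw [Set.mem_singleton_iff] at hz
    have hx' := hx a (Set.mem_singleton a)
    rw [hz, ← hc]
    have e1 : c * a * c⁻¹ * (c * x.1 * c⁻¹) = c * (a * x.1) * c⁻¹ := by group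
    have e2 : c * x.1 * c⁻¹ * (c * a * c⁻¹) = c * (x.1 * a) * c⁻¹ := by group
    rw [e1, e2, hx']
  · have hy := y.2
    rw [Subgroup.mem_centralizer_iff] at hy ⊢
    intro z hz
    rw [Set.mem_singleton_iff] at hz
    have hy' := hy b (Set.mem_singleton b)
    have ha : a = c⁻¹ * b * c := by rw [← hc]; group
    rw [hz, ha]
    have e1 : c⁻¹ * b * c * (c⁻¹ * y.1 * c) = c⁻¹ * (b * y.1) * c := by group
    have e2 : c⁻¹ * y.1 * c * (c⁻¹ * b * c) = c⁻¹ * (y.1 * b) * c := by group
    rw [e1, e2, hy']
  · intro x; ext; simp; group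
  · intro y; ext; simp; group

/-- Let P be a Sylow p-subgroup of the finite group G, let g, h ∈ G and let p ^ d be the order of a Sylow p-subgroup of the centralizer of g. Then the number of pairs (y, z) with y conjugate to g, z conjugate to h and z * y⁻¹ ∈ P is divisible by the order of P divided by p ^ d. -/
theorem result {G : Type*} [Group G] [Finite G] (p : ℕ) [Fact p.Prime] (P : Sylow p G) (g h : G) (S : Sylow p (Subgroup.centralizer ({g} : Set G))) : Nat.card P / Nat.card S ∣ Nat.card {yz : G × G // IsConj g yz.1 ∧ IsConj h yz.2 ∧ yz.2 * yz.1⁻¹ ∈ (P : Subgroup G)} := by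
  classical
  have hp : p.Prime := Fact.out
  have := Fintype.ofFinite G
  have : Fintype (P : Subgroup G) := Fintype.ofFinite _
  have : Fintype (Pairs (P : Subgroup G) g h) := Fintype.ofFinite _
  have : Fintype (Quotient (MulAction.orbitRel (P : Subgroup G) (Pairs (P : Subgroup G) g h))) :=
    Fintype.ofFinite _
  show Nat.card (P : Subgroup G) / Nat.card S ∣ Nat.card (Pairs (P : Subgroup G) g h)
  rw [Nat.card_eq_fintype_card (α := Pairs (P : Subgroup G) g h),
    MulAction.card_eq_sum_card_group_div_card_stabilizer (P : Subgroup G) (Pairs (P : Subgroup G) g h)]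
  refine Finset.dvd_sum (fun ω _ => ?_)
  set x := ω.out with hx
  rw [← Nat.card_eq_fintype_card, ← Nat.card_eq_fintype_card]
  -- the stabilizer has order dividing |S|
  have hstabP : Nat.card (MulAction.stabilizer (P : Subgroup G) x) ∣ Nat.card (P : Subgroup G) :=
    Subgroup.card_subgroup_dvd_card _
  have hScard : Nat.card S = p ^ (Nat.card (Subgroup.centralizer ({g} : Set G))).factorization p :=
    Sylow.card_eq_multiplicity S
  have hPcard : Nat.card (P : Subgroup G) = p ^ (Nat.card G).factorization p :=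
    Sylow.card_eq_multiplicity P
  have hSP : Nat.card S ∣ Nat.card (P : Subgroup G) := by
    rw [hScard, hPcard]
    apply pow_dvd_pow
    have hdvd : Nat.card (Subgroup.centralizer ({g} : Set G)) ∣ Nat.card G :=
      Subgroup.card_subgroup_dvd_card _
    exact (Nat.factorization_le_iff_dvd Nat.card_pos.ne' Nat.card_pos.ne').mpr hdvd p
  have hstabS : Nat.card (MulAction.stabilizer (P : Subgroup G) x) ∣ Nat.card S := by
    -- stabilizer is a p-group
    obtain ⟨s, hs⟩ : ∃ s, Nat.card (MulAction.stabilizer (P : Subgroup G) x) = p ^ s := by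
      have := (Nat.dvd_prime_pow hp).mp (hPcard ▸ hstabP)
      obtain ⟨s, _, hs⟩ := this
      exact ⟨s, hs⟩
    -- it embeds in the centralizer of x.1.1
    let f : MulAction.stabilizer (P : Subgroup G) x →* Subgroup.centralizer ({x.1.1} : Set G) :=
      { toFun := fun u => ⟨((u : (P : Subgroup G)) : G), by
          rw [Subgroup.mem_centralizer_iff]
          intro z hz
          rw [Set.mem_singleton_iff] at hz
          have hu := u.2
          rw [MulAction.mem_stabilizer_iff] at hu
          have := congrArg (fun t : Pairs (P : Subgroup G) g h => t.1.1) hu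
          simp only [smul_fst] at this
          rw [hz]
          calc x.1.1 * ((u : (P : Subgroup G)) : G)
              = (((u : (P : Subgroup G)) : G) * x.1.1 * ((u : (P : Subgroup G)) : G)⁻¹) *
                  ((u : (P : Subgroup G)) : G) := by rw [this]
            _ = ((u : (P : Subgroup G)) : G) * x.1.1 := by group⟩
        map_one' := rfl
        map_mul' := fun _ _ => rfl }
    have hf : Function.Injective f := by
      intro u v huv
      have := congrArg (fun t : Subgroup.centralizer ({x.1.1} : Set G) => (t : G)) huv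
      exact Subtype.ext (Subtype.ext this)
    have h1 : Nat.card (MulAction.stabilizer (P : Subgroup G) x) ∣
        Nat.card (Subgroup.centralizer ({x.1.1} : Set G)) :=
      Subgroup.card_dvd_of_injective f hf
    rw [← card_centralizer_of_isConj x.2.1] at h1
    rw [hs] at h1 ⊢
    rw [hScard]
    apply pow_dvd_pow
    exact (hp.pow_dvd_iff_le_factorization Nat.card_pos.ne').mp h1
  exact Nat.div_dvd_div_left hSP hstabS

end Cfsg.Agent.S0957
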