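import Cfsg.Statements.S0958
import Cfsg.Agent.Lib.Helper78_BrDecomp
import Cfsg.Agent.Lib.Helper78_Defect
import Cfsg.Agent.Lib.Helper1_Cores
import Cfsg.Agent.S0912

set_option autoImplicit false
open Cfsg

namespace Cfsg.Agent.S0958

/-- Let P be a p-subgroup of the finite group G and H a subgroup with P ⊔ C_G(P) ≤ H ≤ N_G(P); fix a maximal ideal M of the algebraic integers containing p. Then a block B of G is induced by some block of H if and only if some conjugate of P is contained in a defect group of B. -/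
theorem result {G : Type*} [Group G] [Finite G] (p : ℕ) [Fact p.Prime] (M : Ideal Cfsg.AlgInt) (hM : Cfsg.IsPModular p M) (P H : Subgroup G) (hP : IsPGroup p P) (hPH : P ⊔ Subgroup.centralizer (P : Set G) ≤ H) (hHN : H ≤ Subgroup.normalizer (P : Set G)) (B : Set (Cfsg.IrrCharacter G)) (hB : Cfsg.IsPBlock M B) : (∃ b : Set (Cfsg.IrrCharacter H), Cfsg.IsInducedBlock M H b B) ↔ ∃ D : Subgroup G, Cfsg.IsDefectGroup p M B D ∧ ∃ x : G, P.map (MulAut.conj x).toMonoidHom ≤ D := by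
  classical
  have := Fintype.ofFinite G
  have := Fintype.ofFinite H
  have hMp := Cfsg.Agent.Lib.Helper78_LocalRing.isPrime_of_isPModular hM
  have hP_H : P ≤ H := le_sup_left.trans hPH
  have hCH : Subgroup.centralizer (P : Set G) ≤ H := le_sup_right.trans hPH
  constructor
  · rintro ⟨b, hind⟩
    have hb := hind.1
    obtain ⟨h, hh⟩ := Cfsg.Agent.Lib.Helper78_CharFacts.exists_isDefectClass' (G := H) hMp hb
    obtain ⟨Ph⟩ : Nonempty (Sylow p (Subgroup.centralizer ({h} : Set H))) := inferInstance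
    set Db : Subgroup H := (Ph : Subgroup (Subgroup.centralizer ({h} : Set H))).map
      (Subgroup.centralizer ({h} : Set H)).subtype with hDb
    have hDb' : Cfsg.IsDefectGroup p M b Db := ⟨h, hh, Ph, rfl⟩
    have h1 : Cfsg.pCore p H ≤ Db := Cfsg.Agent.S0912.result p M hM b hb Db hDb'
    have hPn : (P.subgroupOf H).Normal :=
      (Subgroup.normal_subgroupOf_iff_le_normalizer hP_H).2 hHN
    have h2 : P.subgroupOf H ≤ Cfsg.pCore p H :=
      Cfsg.Agent.Lib.Helper1_Cores.le_pCore hPn hP.comap_subtype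
    obtain ⟨E, hE, hDE⟩ := Cfsg.Agent.Lib.Helper78_Defect.exists_isDefectGroup_ge_of_induced hM H
      hb hB hind Db hDb'
    refine ⟨E, hE, 1, ?_⟩
    rintro _ ⟨q, hq, rfl⟩
    simp only [map_one, MulEquiv.coe_toMonoidHom, MulAut.one_apply]
    exact hDE ⟨⟨q, hP_H hq⟩, h1 (h2 (by simpa [Subgroup.mem_subgroupOf] using hq)), rfl⟩
  · rintro ⟨D, ⟨g₀, hg₀, P₀, rfl⟩, x, hx⟩
    have hc₀ : x⁻¹ * g₀ * x ∈ Subgroup.centralizer (P : Set G) := by
      rw [Subgroup.mem_centralizer_iff]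
      intro q hq
      have h1 : x * q * x⁻¹ ∈ (P₀ : Subgroup (Subgroup.centralizer ({g₀} : Set G))).map
          (Subgroup.centralizer ({g₀} : Set G)).subtype := hx ⟨q, hq, rfl⟩
      obtain ⟨d, -, hd⟩ := h1
      have h2 : x * q * x⁻¹ ∈ Subgroup.centralizer ({g₀} : Set G) := by
        rw [← hd]
        exact d.2
      have h3 := Subgroup.mem_centralizer_iff.1 h2 g₀ rfl
      calc q * (x⁻¹ * g₀ * x) = x⁻¹ * ((x * q * x⁻¹) * g₀) * x := by group
        _ = x⁻¹ * (g₀ * (x * q * x⁻¹)) * x := by rw [h3]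
        _ = x⁻¹ * g₀ * x * q := by group
    have ha : ¬ Cfsg.MemLocalIdeal M (Cfsg.blockCoeff B (x⁻¹ * g₀ * x)) := by
      have : x⁻¹ * g₀ * x = x⁻¹ * g₀ * x⁻¹⁻¹ := by group
      rw [this, Cfsg.Agent.Lib.Helper78_Defect.blockCoeff_conj]
      exact hg₀.2.1
    obtain ⟨b, hb, -⟩ := Cfsg.Agent.Lib.Helper78_BrDecomp.exists_block_inducing hM hP hP_H hCH hHN
      hB ⟨x⁻¹ * g₀ * x, hCH hc₀⟩ hc₀ ha
    exact ⟨b, hb⟩

end Cfsg.Agent.S0958
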