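import Cfsg.Statements.S0959
import Cfsg.Agent.Lib.Helper78_Defect

set_option autoImplicit false
open Cfsg

namespace Cfsg.Agent.S0959

/-- Let B be a block of the finite group G with defect group D (relative to a maximal ideal M of the algebraic integers containing the prime p), and let P be a p-subgroup. Then there is an element g whose idempotent coefficient for B is a local integer outside the local ideal at M and which has a conjugate centralizing P, if and only if some conjugate of P is contained in D. -/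
theorem result {G : Type*} [Group G] [Finite G] (p : ℕ) [Fact p.Prime] (M : Ideal Cfsg.AlgInt) (hM : Cfsg.IsPModular p M) (B : Set (Cfsg.IrrCharacter G)) (hB : Cfsg.IsPBlock M B) (D : Subgroup G) (hD : Cfsg.IsDefectGroup p M B D) (P : Subgroup G) (hP : IsPGroup p P) : (∃ g : G, Cfsg.MemLocalRing M (Cfsg.blockCoeff B g) ∧ ¬ Cfsg.MemLocalIdeal M (Cfsg.blockCoeff B g) ∧ ∃ c : G, IsConj g c ∧ c ∈ Subgroup.centralizer (P : Set G)) ↔ ∃ x : G, P.map (MulAut.conj x).toMonoidHom ≤ D := by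
  classical
  obtain ⟨g₀, hg₀, P₀, rfl⟩ := hD
  constructor
  · rintro ⟨g, -, hgm, c, hgc, hc⟩
    have hcm : ¬ Cfsg.MemLocalIdeal M (Cfsg.blockCoeff B c) := by
      obtain ⟨y, hy⟩ := isConj_iff.1 hgc
      rw [← hy, Cfsg.Agent.Lib.Helper78_Defect.blockCoeff_conj]
      exact hgm
    have hPc : P ≤ Subgroup.centralizer ({c} : Set G) := by
      intro q hq
      rw [Subgroup.mem_centralizer_iff]
      intro y hy
      rw [Set.mem_singleton_iff] at hy
      subst hy
      exact (Subgroup.mem_centralizer_iff.1 hc q hq).symm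
    obtain ⟨x, hx⟩ := Cfsg.Agent.Lib.Helper78_MinMax.le_conj_of_blockCoeff_not_mem hM hB hg₀ P₀ c
      hcm P hP hPc
    refine ⟨x⁻¹, ?_⟩
    rintro _ ⟨q, hq, rfl⟩
    obtain ⟨d, hd, hdq⟩ := hx hq
    simp only [MulEquiv.coe_toMonoidHom, MulAut.conj_apply] at hdq ⊢
    rw [← hdq]
    have : x⁻¹ * (x * d * x⁻¹) * x⁻¹⁻¹ = d := by group
    rw [this]
    exact hd
  · rintro ⟨x, hx⟩
    refine ⟨g₀, hg₀.1, hg₀.2.1, x⁻¹ * g₀ * x, isConj_iff.2 ⟨x⁻¹, by group⟩, ?_⟩
    rw [Subgroup.mem_centralizer_iff]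
    intro q hq
    have h1 : x * q * x⁻¹ ∈ (P₀ : Subgroup (Subgroup.centralizer ({g₀} : Set G))).map
        (Subgroup.centralizer ({g₀} : Set G)).subtype := hx ⟨q, hq, rfl⟩
    obtain ⟨d, -, hd⟩ := h1
    have h2 : x * q * x⁻¹ ∈ Subgroup.centralizer ({g₀} : Set G) := by
      rw [← hd]
      exact d.2
    have h3 := Subgroup.mem_centralizer_iff.1 h2 g₀ rfl
    calc q * (x⁻¹ * g₀ * x) = x⁻¹ * ((x * q * x⁻¹) * g₀) * x := by group
      _ = x⁻¹ * (g₀ * (x * q * x⁻¹)) * x := by rw [h3]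
      _ = x⁻¹ * g₀ * x * q := by group

end Cfsg.Agent.S0959
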