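import Cfsg.Statements.S0962
import Cfsg.Agent.Lib.Helper77_BlockCount

set_option autoImplicit false
open Cfsg

namespace Cfsg.Agent.S0962

/-- Fix a maximal ideal M of the algebraic integers containing the prime p and a natural number d. The number of blocks of the finite group G of defect at least d is at most the number of conjugacy classes of p-regular elements of G of defect at least d, where the defect of a class is the exponent of p in the order of the centralizer of any of its elements. -/
theorem result {G : Type*} [Group G] [Finite G] (p : ℕ) [Fact p.Prime] (M : Ideal Cfsg.AlgInt) (hM : Cfsg.IsPModular p M) (d : ℕ) : Nat.card {B : Set (Cfsg.IrrCharacter G) // Cfsg.IsPBlock M B ∧ d ≤ Cfsg.blockDefect p B} ≤ Nat.card {C : ConjClasses G // ∃ g : G, ConjClasses.mk g = C ∧ Cfsg.IsPRegular p g ∧ d ≤ (Nat.card (Subgroup.centralizer ({g} : Set G))).factorization p} := by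
  classical
  have hMp : M.IsPrime := hM.2.1.isPrime
  apply Cfsg.Agent.Lib.Helper77_BlockCount.card_blocks_le_card_classes hM
    (fun B => Cfsg.IsPBlock M B ∧ d ≤ Cfsg.blockDefect p B)
    (fun C => ∃ g : G, ConjClasses.mk g = C ∧ Cfsg.IsPRegular p g ∧
      d ≤ (Nat.card (Subgroup.centralizer ({g} : Set G))).factorization p)
    (fun B hB => hB.1)
  intro B B' hB hB' χ hχ c hc
  have hmk : ConjClasses.mk c.out = c := Quotient.out_eq c
  by_cases hg : p ∣ orderOf c.out
  · rw [Cfsg.Agent.Lib.Helper77_WeakOrth.blockCoeff_block_eq_zero_of_sing hM hB'.1 _ hg, zero_mul]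
    exact Cfsg.Agent.Lib.Helper78_LocalRing.memLocalIdeal_zero hMp
  · have hlt : ¬ d ≤ (Nat.card (Subgroup.centralizer ({c.out} : Set G))).factorization p :=
      fun hle => hc ⟨c.out, hmk, hg, hle⟩
    apply Cfsg.Agent.Lib.Helper78_LocalRing.memLocalIdeal_mul_left hMp
      (Cfsg.Agent.Lib.Helper78_CharFacts.osima_block' hMp hB'.1 _)
    by_contra hω
    have := Cfsg.Agent.Lib.Helper77_RegClasses.blockDefect_le_of_centralChar hM hB.1 hχ _ hω
    exact hlt (le_trans hB.2 this)

end Cfsg.Agent.S0962
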