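import Mathlib
import Cfsg.Statements.S5001
import Cfsg.Agent.Lib.Helper16_HeightZero
import Cfsg.Agent.Lib.Helper77_CentralDefect
import Cfsg.Agent.Lib.Helper77_VanishSylow
import Cfsg.Agent.Lib.Helper59_Thompson
import Cfsg.Agent.Lib.Helper75_CharArith
-- import your own Cfsg.Agent.* helpers here

set_option autoImplicit false
set_option linter.style.haveILetI false
open Cfsg

namespace Cfsg.Agent.S5001

open Cfsg
open scoped ComplexConjugate
open Cfsg.Agent.Lib.Helper78_LocalRing Cfsg.Agent.Lib.Helper77_BlockBasics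
  Cfsg.Agent.Lib.Helper75_CharArith Cfsg.Agent.Lib.Helper3_CharBridge

/-- A character whose value at a central element is a unit modulo `M` has an irreducible
constituent of degree prime to `p`. -/
theorem exists_constituent_of_central {H : Type*} [Group H] [Fintype H] {p : ℕ}
    {M : Ideal AlgInt} (hM : IsPModular p M) {θ : H → ℂ} (hθ : IsCharacter H θ) (c : H)
    (hc : c ∈ Subgroup.center H) (hval : ¬ MemLocalIdeal M (θ c)) :
    ∃ φ : IrrCharacter H, classInner θ (φ : H → ℂ) ≠ 0 ∧ ¬ p ∣ charDegree (φ : H → ℂ) := by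
  classical
  have hMp : M.IsPrime := hM.2.1.isPrime
  obtain ⟨m, hm, hsum⟩ := exists_multiplicities hθ
  by_contra hcon
  push Not at hcon
  apply hval
  have hval' : θ c = ∑ φ : IrrCharacter H, (m φ : ℂ) * (φ : H → ℂ) c := by
    conv_lhs => rw [hsum]
    simp [Finset.sum_apply]
  rw [hval']
  apply memLocalIdeal_sum hMp
  intro φ _
  by_cases h0 : m φ = 0
  · rw [h0]; simp; exact memLocalIdeal_zero hMp
  · have hne : classInner θ (φ : H → ℂ) ≠ 0 := by
      rw [hm φ]; exact_mod_cast h0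
    obtain ⟨k, hk⟩ := hcon φ hne
    have hc' : c ∈ Submonoid.center H := by
      rw [Submonoid.mem_center_iff]; exact Subgroup.mem_center_iff.mp hc
    obtain ⟨cφ, hint, hmul⟩ := Cfsg.Agent.Lib.Helper77_VanishSylow.irr_mul_central φ c hc'
    have h1 := hmul 1
    rw [one_mul, apply_one_eq_charDegree φ, hk] at h1
    rw [h1]
    have : (m φ : ℂ) * (cφ * ((p * k : ℕ) : ℂ)) = (p : ℂ) * ((m φ : ℂ) * cφ * (k : ℂ)) := by
      push_cast; ring
    rw [this]
    apply memLocalIdeal_mul_right hMp ((memLocalIdeal_natCast_iff hM p).mpr dvd_rfl)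
    apply memLocalRing_mul hMp (memLocalRing_mul hMp (memLocalRing_natCast hMp _) _)
      (memLocalRing_natCast hMp _)
    exact memLocalRing_algInt hMp ⟨cφ, hint⟩

/-- Scalars of a central element on two class functions with nonzero inner product agree. -/
theorem scalar_transfer {H : Type*} [Group H] [Fintype H] (z : H) {θ η : H → ℂ} {a b : ℂ}
    (hθ : ∀ h, θ (h * z) = a * θ h) (hη : ∀ h, η (h * z) = b * η h)
    (hne : classInner θ η ≠ 0) : a * conj b = 1 := by
  unfold classInner at hne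
  have hS : ∑ h : H, θ h * conj (η h) ≠ 0 := fun h0 => hne (by rw [h0, mul_zero])
  have h1 : ∑ h : H, θ h * conj (η h) = ∑ h : H, θ (h * z) * conj (η (h * z)) :=
    (Fintype.sum_equiv (Equiv.mulRight z) (fun h => θ (h * z) * conj (η (h * z)))
      (fun h => θ h * conj (η h)) (fun h => rfl)).symm
  have h2 : ∑ h : H, θ (h * z) * conj (η (h * z)) = (a * conj b) * ∑ h : H, θ h * conj (η h) := by
    rw [Finset.mul_sum]
    refine Finset.sum_congr rfl fun h _ => ?_
    rw [hθ h, hη h, map_mul]; ring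
  rw [h2] at h1
  have h3 : (a * conj b - 1) * ∑ h : H, θ h * conj (η h) = 0 := by
    rw [sub_mul, one_mul, ← h1, sub_self]
  rcases mul_eq_zero.mp h3 with h | h
  · exact sub_eq_zero.mp h
  · exact absurd h hS

theorem main_aux {G : Type*} [Group G] [Finite G] (p : ℕ) [Fact p.Prime] (M : Ideal Cfsg.AlgInt)
    (hM : Cfsg.IsPModular p M) (g : G) (C : Subgroup G) (hmemC : ∀ y : G, y ∈ C ↔ g * y = y * g)
    (Q : Subgroup C) (hQp : IsPGroup p Q) (Z : Subgroup G) (hZc : Z ≤ Subgroup.center G)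
    (hZD : Z ≤ Q.map C.subtype) (lam : ↥Z →* ℂˣ) (χ : Cfsg.IrrCharacter G)
    (hover : (∀ z : ↥Z, (χ : G → ℂ) z = (χ : G → ℂ) 1 * (lam z : ℂ)))
    (h1 : ¬ MemLocalIdeal M ((χ : G → ℂ) g)) :
    (∃ μ : ↥(Q.map C.subtype) →* ℂˣ, ∀ z : ↥Z, μ ⟨(z : G), hZD z.2⟩ = lam z) := by
  classical
  letI : Fintype G := Fintype.ofFinite G
  have hp : p.Prime := Fact.out
  have hMp : M.IsPrime := hM.2.1.isPrime
  have hgC : g ∈ C := (hmemC g).mpr rfl
  letI : Fintype C := Fintype.ofFinite C
  have hθ : IsCharacter C (fun c : C => (χ : G → ℂ) c) :=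
    isCharacter_restrict C (isCharacter_of_isIrrCharacter χ.2)
  have hcen : (⟨g, hgC⟩ : C) ∈ Subgroup.center C := by
    rw [Subgroup.mem_center_iff]
    intro y
    apply Subtype.ext
    exact ((hmemC y).mp y.2).symm
  obtain ⟨φ, hφne, hφp⟩ := exists_constituent_of_central hM hθ ⟨g, hgC⟩ hcen h1
  -- stage 2
  letI : Fintype Q := Fintype.ofFinite _
  have hθ2 : IsCharacter Q (fun x : Q => (φ : C → ℂ) x) :=
    isCharacter_restrict _ (isCharacter_of_isIrrCharacter φ.2)
  have h2 : ¬ MemLocalIdeal M ((fun x : Q => (φ : C → ℂ) x) 1) := by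
    show ¬ MemLocalIdeal M ((φ : C → ℂ) ((1 : Q) : C))
    rw [OneMemClass.coe_one, apply_one_eq_charDegree φ, memLocalIdeal_natCast_iff hM]
    exact hφp
  obtain ⟨ψ, hψne, hψp⟩ := exists_constituent_of_central hM hθ2 1 (Subgroup.one_mem _) h2
  have hψ1 : charDegree (ψ : Q → ℂ) = 1 := by
    have hd := charDegree_dvd_card ψ
    obtain ⟨n, hn⟩ := IsPGroup.iff_card.mp hQp
    rw [hn] at hd
    obtain ⟨j, _, hj⟩ := (Nat.dvd_prime_pow hp).mp hd
    rcases Nat.eq_zero_or_pos j with hj0 | hj0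
    · rw [hj, hj0, pow_zero]
    · exfalso; apply hψp; rw [hj]; exact dvd_pow_self p hj0.ne'
  have hlin : Cfsg.Agent.Lib.Helper75_LinChar.IsLin Q (ψ : Q → ℂ) :=
    ⟨isCharacter_of_isIrrCharacter ψ.2, by rw [apply_one_eq_charDegree ψ, hψ1]; simp⟩
  set e := Q.equivMapOfInjective C.subtype C.subtype_injective with he
  refine ⟨(Cfsg.Agent.Lib.Helper59_Thompson.linHom hlin).comp e.symm.toMonoidHom, ?_⟩
  intro z
  apply Units.ext
  show ((Cfsg.Agent.Lib.Helper59_Thompson.linHom hlin (e.symm ⟨(z : G), hZD z.2⟩) : ℂˣ) : ℂ) = _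
  rw [Cfsg.Agent.Lib.Helper59_Thompson.linHom_apply]
  set w : Q := e.symm ⟨(z : G), hZD z.2⟩ with hw
  have hwz : (((w : Q) : C) : G) = (z : G) := by
    have h3 : e w = ⟨(z : G), hZD z.2⟩ := by rw [hw]; exact e.apply_symm_apply _
    have h4 := congrArg Subtype.val h3
    rw [he, Subgroup.coe_equivMapOfInjective_apply] at h4
    exact h4
  have hzcen : (z : G) ∈ Subgroup.center G := hZc z.2
  have hχ1 : (χ : G → ℂ) 1 ≠ 0 :=
    Cfsg.Agent.Lib.Helper78_CentralChar.isIrrCharacter_one_ne_zero χ.2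
  have hφ1 : (φ : C → ℂ) 1 ≠ 0 :=
    Cfsg.Agent.Lib.Helper78_CentralChar.isIrrCharacter_one_ne_zero φ.2
  have hwcen : (w : C) ∈ Subgroup.center C := by
    rw [Subgroup.mem_center_iff]
    intro y
    apply Subtype.ext
    show (y : G) * ((w : C) : G) = ((w : C) : G) * (y : G)
    rw [hwz]
    exact Subgroup.mem_center_iff.mp hzcen (y : G)
  -- transfer 1
  have t1 := scalar_transfer (H := C) (w : C) (θ := fun c : C => (χ : G → ℂ) c)
    (η := (φ : C → ℂ)) (a := (lam z : ℂ)) (b := (φ : C → ℂ) (w : C) / (φ : C → ℂ) 1)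
    (by
      intro h
      show (χ : G → ℂ) (((h * (w : C) : C)) : G) = _
      rw [Subgroup.coe_mul, hwz, Cfsg.Agent.Lib.Helper77_CentralDefect.irr_mul_center χ (z : G) hzcen,
        hover z]
      field_simp)
    (by
      intro h
      rw [Cfsg.Agent.Lib.Helper77_CentralDefect.irr_mul_center φ (w : C) hwcen]
      ring)
    hφne
  have t2 := scalar_transfer (H := Q) w
    (θ := fun x : Q => (φ : C → ℂ) x)
    (η := (ψ : Q → ℂ)) (a := (φ : C → ℂ) (w : C) / (φ : C → ℂ) 1)
    (b := (ψ : Q → ℂ) w)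
    (by
      intro h
      show (φ : C → ℂ) (((h * w : Q)) : C) = _
      rw [Subgroup.coe_mul, Cfsg.Agent.Lib.Helper77_CentralDefect.irr_mul_center φ (w : C) hwcen]
      ring)
    (by
      intro h
      rw [hlin.map_mul, mul_comm])
    hψne
  have t3 : conj ((φ : C → ℂ) (w : C) / (φ : C → ℂ) 1) * (ψ : Q → ℂ) w = 1 := by
    have := congrArg conj t2
    rw [map_mul, Complex.conj_conj, map_one] at this
    exact this
  calc (ψ : Q → ℂ) w
      = ((lam z : ℂ) * conj ((φ : C → ℂ) (w : C) / (φ : C → ℂ) 1)) * (ψ : Q → ℂ) w := by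
        rw [t1, one_mul]
    _ = (lam z : ℂ) * (conj ((φ : C → ℂ) (w : C) / (φ : C → ℂ) 1) * (ψ : Q → ℂ) w) := by ring
    _ = (lam z : ℂ) := by rw [t3, mul_one]


/-- Let p be a prime, G a finite group and B a p-block of G (relative to a maximal ideal M of the algebraic integers containing p) with defect group D. Let Z be a central p-subgroup of G contained in D and λ a linear character of Z (a homomorphism to the nonzero complex numbers). Say an irreducible character χ of G lies over λ when χ(z) = χ(1)λ(z) for all z ∈ Z. If some irreducible character in B lying over λ has height zero, then λ extends to a linear character of D. -/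
theorem result {G : Type*} [Group G] [Finite G] (p : ℕ) [Fact p.Prime] (M : Ideal Cfsg.AlgInt) (hM : Cfsg.IsPModular p M) (B : Set (Cfsg.IrrCharacter G)) (hB : Cfsg.IsPBlock M B) (D : Subgroup G) (hD : Cfsg.IsDefectGroup p M B D) (Z : Subgroup G) (hZc : Z ≤ Subgroup.center G) (hZp : IsPGroup p ↥Z) (hZD : Z ≤ D) (lam : ↥Z →* ℂˣ) (χ : Cfsg.IrrCharacter G) (hχ : χ ∈ B) (hover : (∀ z : ↥Z, (χ : G → ℂ) z = (χ : G → ℂ) 1 * (lam z : ℂ))) (h0 : Cfsg.blockHeight p B (χ : G → ℂ) = 0) : (∃ μ : ↥D →* ℂˣ, ∀ z : ↥Z, μ ⟨(z : G), hZD z.2⟩ = lam z) := by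
  obtain ⟨g, hg, P, rfl⟩ := hD
  have h1 := Cfsg.Agent.Lib.Helper16_HeightZero.irr_not_memLocalIdeal_of_defectClass hM hB hg χ hχ h0
  refine main_aux p M hM g (Subgroup.centralizer ({g} : Set G)) ?_ (P : Subgroup _) P.isPGroup' Z hZc
    hZD lam χ hover h1
  intro y
  rw [Subgroup.mem_centralizer_iff]
  constructor
  · intro h; exact h g (Set.mem_singleton g)
  · intro h w hw
    rw [Set.mem_singleton_iff.mp hw]; exact h

end Cfsg.Agent.S5001
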