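import Mathlib
import Cfsg.Statements.S0972
import Cfsg.Agent.S5001
import Cfsg.Agent.Lib.Helper3_Ito
import Cfsg.Agent.Lib.Helper75_Clifford
import Cfsg.Agent.Lib.Helper75_LinChar
import Cfsg.Agent.Lib.Helper77_WeakOrth
import Cfsg.Agent.Lib.Helper57_BrauerFeit
import Cfsg.Agent.Lib.Helper16_InducedFusion
import Cfsg.Agent.Lib.Helper77_NormalDefect
import Cfsg.Agent.Lib.Helper16_HeightZero
-- import your own Cfsg.Agent.* helpers here

set_option autoImplicit false
set_option linter.style.haveILetI false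
open Cfsg

namespace Cfsg.Agent.S0972

open Cfsg
open scoped ComplexConjugate
open Cfsg.Agent.Lib.Helper78_LocalRing Cfsg.Agent.Lib.Helper77_BlockBasics
  Cfsg.Agent.Lib.Helper75_CharArith Cfsg.Agent.Lib.Helper3_CharBridge
  Cfsg.Agent.Lib.Helper3_CharOrtho

/-- If `χ(g)` is a unit modulo `M` and `Q` is a `p`-subgroup of `C_G(g)`, the restriction of `χ`
to `Q` has a linear constituent. -/
theorem exists_lin_constituent {G : Type*} [Group G] [Finite G] (p : ℕ) [Fact p.Prime]
    (M : Ideal Cfsg.AlgInt) (hM : Cfsg.IsPModular p M) (g : G) (C : Subgroup G)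
    (hmemC : ∀ y : G, y ∈ C ↔ g * y = y * g) (Q : Subgroup C) [Fintype Q] (hQp : IsPGroup p Q)
    (χ : Cfsg.IrrCharacter G) (h1 : ¬ MemLocalIdeal M ((χ : G → ℂ) g)) :
    ∃ ψ : IrrCharacter Q, (ψ : Q → ℂ) 1 = 1 ∧
      classInner (fun x : Q => (χ : G → ℂ) ((x : C) : G)) (ψ : Q → ℂ) ≠ 0 := by
  classical
  letI : Fintype G := Fintype.ofFinite G
  have hp : p.Prime := Fact.out
  have hMp : M.IsPrime := hM.2.1.isPrime
  have hgC : g ∈ C := (hmemC g).mpr rfl
  letI : Fintype C := Fintype.ofFinite C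
  have hθ : IsCharacter C (fun c : C => (χ : G → ℂ) c) :=
    isCharacter_restrict C (isCharacter_of_isIrrCharacter χ.2)
  have hcen : (⟨g, hgC⟩ : C) ∈ Subgroup.center C := by
    rw [Subgroup.mem_center_iff]
    intro y
    apply Subtype.ext
    exact ((hmemC y).mp y.2).symm
  obtain ⟨φ, hφne, hφp⟩ := Cfsg.Agent.S5001.exists_constituent_of_central hM hθ ⟨g, hgC⟩ hcen h1
  have hθ2 : IsCharacter Q (fun x : Q => (φ : C → ℂ) x) :=
    isCharacter_restrict _ (isCharacter_of_isIrrCharacter φ.2)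
  have h2 : ¬ MemLocalIdeal M ((fun x : Q => (φ : C → ℂ) x) 1) := by
    show ¬ MemLocalIdeal M ((φ : C → ℂ) ((1 : Q) : C))
    rw [OneMemClass.coe_one, apply_one_eq_charDegree φ, memLocalIdeal_natCast_iff hM]
    exact hφp
  obtain ⟨ψ, hψne, hψp⟩ :=
    Cfsg.Agent.S5001.exists_constituent_of_central hM hθ2 1 (Subgroup.one_mem _) h2
  have hψ1 : charDegree (ψ : Q → ℂ) = 1 := by
    have hd := charDegree_dvd_card ψ
    obtain ⟨n, hn⟩ := IsPGroup.iff_card.mp hQp
    rw [hn] at hd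
    obtain ⟨j, _, hj⟩ := (Nat.dvd_prime_pow hp).mp hd
    rcases Nat.eq_zero_or_pos j with hj0 | hj0
    · rw [hj, hj0, pow_zero]
    · exfalso; apply hψp; rw [hj]; exact dvd_pow_self p hj0.ne'
  refine ⟨ψ, by rw [apply_one_eq_charDegree ψ, hψ1]; simp, ?_⟩
  -- transitivity of constituents
  obtain ⟨m, hm, hsum⟩ := exists_multiplicities hθ
  have hk : ∀ φ' : IrrCharacter C, ∃ k : ℕ,
      classInner (fun x : Q => (φ' : C → ℂ) x) (ψ : Q → ℂ) = k := fun φ' =>
    classInner_isCharacter_nat (isCharacter_restrict _ (isCharacter_of_isIrrCharacter φ'.2))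
      (isCharacter_of_isIrrCharacter ψ.2)
  choose k hk using hk
  have hfun : (fun x : Q => (χ : G → ℂ) ((x : C) : G)) =
      ∑ φ' : IrrCharacter C, (m φ' : ℂ) • (fun x : Q => (φ' : C → ℂ) x) := by
    funext x
    have := congrFun hsum (x : C)
    simp only [Finset.sum_apply, Pi.smul_apply, smul_eq_mul] at this ⊢
    exact this
  rw [hfun, classInner_sum_left]
  simp_rw [classInner_smul_left, hk]
  have hcast : ∑ φ' : IrrCharacter C, (m φ' : ℂ) * (k φ' : ℂ) =
      ((∑ φ' : IrrCharacter C, m φ' * k φ' : ℕ) : ℂ) := by push_cast; rfl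
  rw [hcast]
  have hmφ : m φ ≠ 0 := by
    intro h0
    apply hφne
    rw [hm φ, h0]; simp
  have hkφ : k φ ≠ 0 := by
    intro h0
    apply hψne
    rw [hk φ, h0]; simp
  have hpos : 0 < ∑ φ' : IrrCharacter C, m φ' * k φ' :=
    lt_of_lt_of_le (Nat.mul_pos (Nat.pos_of_ne_zero hmφ) (Nat.pos_of_ne_zero hkφ))
      (Finset.single_le_sum (f := fun φ' => m φ' * k φ') (fun _ _ => Nat.zero_le _)
        (Finset.mem_univ φ))
  exact_mod_cast hpos.ne'

/-- If the restriction of the irreducible character `χ` to the normal subgroup `P` has a linear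
constituent, then `χ` is trivial on commutators of `P`. -/
theorem apply_commutator_of_lin_constituent {G : Type*} [Group G] [Fintype G] (P : Subgroup G)
    (hN : P.Normal) [Fintype P] (χ : IrrCharacter G) {ψ : P → ℂ} (hψ : IsIrrCharacter P ψ)
    (hψ1 : ψ 1 = 1)
    (hne : classInner (Cfsg.Agent.Lib.Helper75_Clifford.res P (χ : G → ℂ)) ψ ≠ 0)
    (a c : P) : (χ : G → ℂ) ((a * c * a⁻¹ * c⁻¹ : P) : G) = (χ : G → ℂ) 1 := by
  classical
  have hres : IsCharacter P (Cfsg.Agent.Lib.Helper75_Clifford.res P (χ : G → ℂ)) :=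
    Cfsg.Agent.Lib.Helper75_Clifford.isCharacter_res P (isCharacter_of_isIrrCharacter χ.2)
  obtain ⟨m, hm, hsum⟩ := exists_multiplicities hres
  have hlin : ∀ ψ' : IrrCharacter P, m ψ' ≠ 0 →
      (ψ' : P → ℂ) (a * c * a⁻¹ * c⁻¹) = (ψ' : P → ℂ) 1 := by
    intro ψ' hm'
    have hne' : classInner (Cfsg.Agent.Lib.Helper75_Clifford.res P (χ : G → ℂ)) (ψ' : P → ℂ) ≠ 0 := by
      rw [hm ψ']; exact_mod_cast hm'
    obtain ⟨g', hg'⟩ := Cfsg.Agent.Lib.Helper75_Clifford.exists_conj_of_constituent P hN χ.2 hψ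
      ψ'.2 hne hne'
    have hL : Cfsg.Agent.Lib.Helper75_LinChar.IsLin P (ψ' : P → ℂ) := by
      refine ⟨isCharacter_of_isIrrCharacter ψ'.2, ?_⟩
      rw [hg', Cfsg.Agent.Lib.Helper75_Clifford.conjFun_apply]
      have : (⟨g' * ((1 : P) : G) * g'⁻¹, hN.conj_mem _ (1 : P).2 g'⟩ : P) = 1 := by
        apply Subtype.ext
        simp
      rw [this, hψ1]
    rw [hL.map_mul, hL.map_mul, hL.map_mul, hL.map_inv, hL.map_inv, hL.2]
    have h1 := hL.ne_zero a
    have h2 := hL.ne_zero c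
    field_simp
  have hx := congrFun hsum (a * c * a⁻¹ * c⁻¹)
  have h1 := congrFun hsum 1
  simp only [Finset.sum_apply, Pi.smul_apply, smul_eq_mul] at hx h1
  have hx' : (χ : G → ℂ) ((a * c * a⁻¹ * c⁻¹ : P) : G) =
      ∑ ψ' : IrrCharacter P, (m ψ' : ℂ) * (ψ' : P → ℂ) (a * c * a⁻¹ * c⁻¹) := hx
  have h1' : (χ : G → ℂ) 1 = ∑ ψ' : IrrCharacter P, (m ψ' : ℂ) * (ψ' : P → ℂ) 1 := h1
  rw [hx', h1']
  refine Finset.sum_congr rfl fun ψ' _ => ?_
  by_cases h0 : m ψ' = 0
  · rw [h0]; simp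
  · rw [hlin ψ' h0]


/-- Core of the converse: if every member of `B` is a unit modulo `M` at `g`, and the normal
`p`-subgroup `P` is (the image of) a subgroup `Q` of `C_G(g)`, then `P` is commutative. -/
theorem comm_of_units {G : Type*} [Group G] [Fintype G] (p : ℕ) [Fact p.Prime]
    (M : Ideal Cfsg.AlgInt) (hM : Cfsg.IsPModular p M) (B : Set (Cfsg.IrrCharacter G))
    (hB : Cfsg.IsPBlock M B) (g : G) (C : Subgroup G)
    (hmemC : ∀ y : G, y ∈ C ↔ g * y = y * g) (Q : Subgroup C) (hQp : IsPGroup p Q)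
    (P : Subgroup G) (hN : P.Normal) (hPp : IsPGroup p P) (e : Q ≃* P)
    (hcoe : ∀ k : Q, ((e k : P) : G) = ((k : C) : G))
    (hunit : ∀ χ ∈ B, ¬ MemLocalIdeal M ((χ : G → ℂ) g))
    (a : G) (ha : a ∈ P) (c : G) (hc : c ∈ P) : a * c = c * a := by
  classical
  have hp : p.Prime := Fact.out
  have hMp : M.IsPrime := hM.2.1.isPrime
  by_contra hne
  letI : Fintype P := Fintype.ofFinite P
  letI : Fintype Q := Fintype.ofFinite _
  set aP : P := ⟨a, ha⟩
  set cP : P := ⟨c, hc⟩
  set x : P := aP * cP * aP⁻¹ * cP⁻¹ with hx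
  have hx1 : (x : G) ≠ 1 := by
    intro h1
    apply hne
    have : a * c * a⁻¹ * c⁻¹ = 1 := h1
    calc a * c = (a * c * a⁻¹ * c⁻¹) * (c * a) := by group
      _ = c * a := by rw [this, one_mul]
  have hsing : p ∣ orderOf (x : G) := by
    obtain ⟨k, hk⟩ := Cfsg.Agent.Lib.Helper77_NormalDefect.exists_orderOf_eq_of_mem hPp x.2
    have hk0 : k ≠ 0 := by
      rintro rfl
      rw [pow_zero, orderOf_eq_one_iff] at hk
      exact hx1 hk
    rw [hk]; exact dvd_pow_self p hk0
  -- every member of `B` is trivial at `x`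
  have hker : ∀ χ ∈ B, (χ : G → ℂ) (x : G) = (χ : G → ℂ) 1 := by
    intro χ hχ
    obtain ⟨ψ₀, hψ₀1, hψ₀ne⟩ := exists_lin_constituent p M hM g C hmemC Q hQp χ (hunit χ hχ)
    have hψ : IsIrrCharacter P (fun y : P => (ψ₀ : Q → ℂ) (e.symm y)) :=
      Cfsg.Agent.Lib.Helper75_Clifford.isIrrCharacter_comp_equiv e.symm ψ₀.2
    have hψ1 : (fun y : P => (ψ₀ : Q → ℂ) (e.symm y)) 1 = 1 := by
      show (ψ₀ : Q → ℂ) (e.symm 1) = 1
      rw [map_one, hψ₀1]
    have hne2 : classInner (Cfsg.Agent.Lib.Helper75_Clifford.res P (χ : G → ℂ))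
        (fun y : P => (ψ₀ : Q → ℂ) (e.symm y)) ≠ 0 := by
      have h3 := Cfsg.Agent.Lib.Helper75_Clifford.classInner_comp_equiv e
        (Cfsg.Agent.Lib.Helper75_Clifford.res P (χ : G → ℂ))
        (fun y : P => (ψ₀ : Q → ℂ) (e.symm y))
      rw [← h3]
      have h4 : (fun k : Q =>
          Cfsg.Agent.Lib.Helper75_Clifford.res P (χ : G → ℂ) (e k)) =
          fun k : Q => (χ : G → ℂ) ((k : C) : G) := by
        funext k
        rw [Cfsg.Agent.Lib.Helper75_Clifford.res_apply, hcoe]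
      have h5 : (fun k : Q =>
          (fun y : P => (ψ₀ : Q → ℂ) (e.symm y)) (e k)) =
          (ψ₀ : Q → ℂ) := by
        funext k
        show (ψ₀ : Q → ℂ) (e.symm (e k)) = _
        rw [e.symm_apply_apply]
      rw [h4, h5]
      exact hψ₀ne
    exact apply_commutator_of_lin_constituent P hN χ hψ hψ1 hne2 aP cP
  -- weak block orthogonality at `x`
  have hzero := Cfsg.Agent.Lib.Helper77_WeakOrth.blockCoeff_block_eq_zero_of_sing hM hB (x : G) hsing
  unfold blockCoeff at hzero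
  have hG0 : (Nat.card G : ℂ)⁻¹ ≠ 0 := inv_ne_zero (Nat.cast_ne_zero.mpr Nat.card_pos.ne')
  have hsum0 : ∑ᶠ χ ∈ B, (χ : G → ℂ) 1 * conj ((χ : G → ℂ) (x : G)) = 0 := by
    rcases mul_eq_zero.mp hzero with h | h
    · exact absurd h hG0
    · exact h
  rw [finsum_mem_eq_finite_toFinset_sum _ (Set.toFinite B)] at hsum0
  obtain ⟨χ₀, hχ₀⟩ := isPBlock_nonempty hMp hB
  have hterm : ∀ χ ∈ (Set.toFinite B).toFinset, (χ : G → ℂ) 1 * conj ((χ : G → ℂ) (x : G)) =
      ((charDegree (χ : G → ℂ) ^ 2 : ℕ) : ℂ) := by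
    intro χ hχ
    rw [Set.Finite.mem_toFinset] at hχ
    rw [hker χ hχ, apply_one_eq_charDegree χ, Complex.conj_natCast]
    push_cast; ring
  rw [Finset.sum_congr rfl hterm, ← Nat.cast_sum] at hsum0
  have hpos : 0 < ∑ χ ∈ (Set.toFinite B).toFinset, charDegree (χ : G → ℂ) ^ 2 :=
    lt_of_lt_of_le (pow_pos (charDegree_pos χ₀) 2)
      (Finset.single_le_sum (f := fun χ : IrrCharacter G => charDegree (χ : G → ℂ) ^ 2)
        (fun _ _ => Nat.zero_le _) ((Set.Finite.mem_toFinset _).mpr hχ₀))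
  have : (∑ χ ∈ (Set.toFinite B).toFinset, charDegree (χ : G → ℂ) ^ 2 : ℕ) = 0 := by
    exact_mod_cast hsum0
  omega


/-- Let B be a block of the finite group G (relative to a maximal ideal M of the algebraic integers containing the prime p) with a defect group P that is normal in G. Then P is commutative if and only if every member of B has height zero. -/
theorem result {G : Type*} [Group G] [Finite G] (p : ℕ) [Fact p.Prime] (M : Ideal Cfsg.AlgInt) (hM : Cfsg.IsPModular p M) (B : Set (Cfsg.IrrCharacter G)) (hB : Cfsg.IsPBlock M B) (P : Subgroup G) [P.Normal] (hP : Cfsg.IsDefectGroup p M B P) : (∀ a ∈ P, ∀ c ∈ P, a * c = c * a) ↔ ∀ χ ∈ B, Cfsg.blockHeight p B (χ : G → ℂ) = 0 := by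
  classical
  letI : Fintype G := Fintype.ofFinite G
  have hp : p.Prime := Fact.out
  have hMp : M.IsPrime := hM.2.1.isPrime
  have hcard := Cfsg.Agent.Lib.Helper16_InducedFusion.card_eq_pow_blockDefect hM hB hP
  constructor
  · -- Ito
    intro hab χ hχ
    obtain ⟨n, ρ, hρ, hχρ⟩ := χ.2
    have h1 : Module.finrank ℂ (Fin n → ℂ) ∣ P.index := Cfsg.Agent.Lib.Helper3_Ito.ito ρ P hab
    rw [Module.finrank_fin_fun] at h1
    have h2 : (χ : G → ℂ) 1 = (n : ℂ) := by
      rw [← hχρ, Representation.char_one, Module.finrank_fin_fun]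
    have h3 : charDegree (χ : G → ℂ) = n := by
      have := apply_one_eq_charDegree χ
      rw [h2] at this
      exact_mod_cast this.symm
    have hpos : 0 < charDegree (χ : G → ℂ) := charDegree_pos χ
    have hidx : P.index ≠ 0 := Subgroup.index_ne_zero_of_finite
    have h4 : (charDegree (χ : G → ℂ)).factorization p ≤ (P.index).factorization p := by
      rw [h3]
      exact (Nat.factorization_le_iff_dvd (by rw [← h3]; exact hpos.ne') hidx).mpr h1 p
    have h5 : (Nat.card G).factorization p = (Nat.card P).factorization p +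
        (P.index).factorization p := by
      rw [← Subgroup.card_mul_index P, Nat.factorization_mul Nat.card_pos.ne' hidx]
      rfl
    rw [hcard, Nat.Prime.factorization_pow hp] at h5
    simp only [Finsupp.single_eq_same] at h5
    have h6 := Cfsg.Agent.Lib.Helper57_BrauerFeit.h0_add_defect (p := p) hχ
    rw [Cfsg.Agent.Lib.Helper57_BrauerFeit.blockHeight_eq]
    omega
  · intro hall a ha c hc
    have hN : P.Normal := inferInstance
    obtain ⟨g, hg, Q, hPQ⟩ := hP
    have hPp : IsPGroup p P := by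
      rw [hPQ]; exact Q.isPGroup'.map _
    have hmemC : ∀ y : G, y ∈ Subgroup.centralizer ({g} : Set G) ↔ g * y = y * g := by
      intro y
      rw [Subgroup.mem_centralizer_iff]
      constructor
      · intro h; exact h g (Set.mem_singleton g)
      · intro h w hw
        rw [Set.mem_singleton_iff.mp hw]; exact h
    have hunit : ∀ χ ∈ B, ¬ MemLocalIdeal M ((χ : G → ℂ) g) := fun χ hχ =>
      Cfsg.Agent.Lib.Helper16_HeightZero.irr_not_memLocalIdeal_of_defectClass hM hB hg
        χ hχ (hall χ hχ)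
    subst hPQ
    refine comm_of_units p M hM B hB g (Subgroup.centralizer ({g} : Set G)) hmemC
      (Q : Subgroup (Subgroup.centralizer ({g} : Set G))) Q.isPGroup' _ hN hPp
      ((Q : Subgroup (Subgroup.centralizer ({g} : Set G))).equivMapOfInjective
        (Subgroup.centralizer ({g} : Set G)).subtype (Subgroup.subtype_injective _))
      ?_ hunit a ha c hc
    intro k
    rw [Subgroup.coe_equivMapOfInjective_apply]
    rfl

end Cfsg.Agent.S0972
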