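import Cfsg.Statements.S0984
import Cfsg.Agent.Lib.Helper17_Sylow
import Cfsg.Agent.Lib.Helper77_BlockBasics
import Cfsg.Agent.Lib.Helper11_A7_L3ORD
import Cfsg.Agent.Lib.Helper12_A7_L3C
import Cfsg.Agent.Lib.Helper12_A7_L3V
import Cfsg.Agent.Lib.Helper20_A7_DEG7
import Cfsg.Agent.Lib.Helper2_A7_L5BRINV
import Cfsg.Agent.Lib.Helper2_A7_Z35EIG
import Cfsg.Agent.Lib.Helper53_A7_NO8
import Cfsg.Agent.Lib.Helper60_A7_L5_ASM
import Cfsg.Agent.Lib.Helper60_A7_L7_ASM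
import Cfsg.Agent.Lib.Helper61_A7_L3N
import Cfsg.Agent.Lib.Helper61_A7_T2B
import Cfsg.Agent.Lib.Helper62_A7_ENDFIX
import Cfsg.Agent.Lib.Helper63_A7_VAL5
import Cfsg.Agent.Lib.Helper70_A7_ENDGRP
import Cfsg.Agent.Lib.Helper71_A7_L715
import Cfsg.Agent.Lib.Helper71_A7_NO4
import Cfsg.Agent.Lib.Helper74_A7_VAL4
import Cfsg.Agent.Lib.Helper78_A7_Z35BR
import Cfsg.Agent.Lib.Helper78_A7_Z35LOC
import Cfsg.Agent.Lib.Helper7_A7_L3ABR
import Cfsg.Agent.Lib.Helper7_A7_T2A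
import Cfsg.Agent.Lib.Helper89_A7_ENDISO
import Cfsg.Agent.Lib.Helper89_A7_L5W

/-!
S0984 (helper62, architect): a simple group of order 2520 is `A₇`.  Sylow/Brauer local analysis at 7, 5, 3;
an irreducible character of degree 6 (Brauer `p = 7`); dihedral Sylow 2-subgroups (Glauberman Z*, Thompson
transfer); a vector fixed by `N(P₃)` and a Sylow 2-subgroup; its stabiliser has index 7; S0991.
Packages: helper2, 7, 11, 12, 20, 53, 60, 61, 63, 70, 71, 74, 78, 84, 89.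
-/

set_option autoImplicit false
open Cfsg

namespace Cfsg.Agent.S0984

/-- A simple group of order 2520 is isomorphic to the alternating group of degree 7. -/
theorem result {G : Type*} [Group G] [Finite G] [IsSimpleGroup G] (h : Nat.card G = 2520) : Nonempty (G ≃* alternatingGroup (Fin 7)) := by
  have hG := h
  classical
  have : Fact (Nat.Prime 2) := ⟨by norm_num⟩
  have : Fact (Nat.Prime 3) := ⟨by norm_num⟩
  have : Fact (Nat.Prime 5) := ⟨by norm_num⟩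
  have : Fact (Nat.Prime 7) := ⟨by norm_num⟩
  -- (L7)
  have h15 := Cfsg.Agent.Lib.Helper71_A7_L715.n7_ne_15 hG
  have h36 : Nat.card (Sylow 7 G) ≠ 36 := by
    intro h36
    obtain ⟨P, x, y, hP, he, hxP, hx7, hyC, hy5, hCy⟩ := Cfsg.Agent.Lib.Helper78_A7_Z35LOC.z35_loc hG h36
    obtain ⟨χ, s, hs, hval⟩ := Cfsg.Agent.Lib.Helper78_A7_Z35BR.z35_br hG P hP he
    have hxy : x * y = y * x := by
      have := (Subgroup.mem_centralizer_iff.mp hyC) x hxP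
      exact this
    refine Cfsg.Agent.Lib.Helper2_A7_Z35EIG.z35_eig hG χ s hs x y hx7 hy5 hxy hCy ?_
    intro i j hi
    apply hval (x ^ i) (Subgroup.pow_mem _ hxP i)
    · intro h1
      have : orderOf x ∣ i := orderOf_dvd_of_pow_eq_one h1
      rw [hx7] at this
      exact hi this
    · exact Subgroup.pow_mem _ hyC j
    · intro h7
      have h5 : orderOf (y ^ j) ∣ 5 := by
        rw [← hy5]; exact orderOf_pow_dvd j
      have : 7 ∣ 5 := h7.trans h5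
      omega
  obtain ⟨hL7, hC7⟩ := Cfsg.Agent.Lib.Helper60_A7_L7_ASM.loc7 hG h15 h36
  -- (L5)
  obtain ⟨hL5, hC5⟩ := Cfsg.Agent.Lib.Helper60_A7_L5_ASM.loc5 hG hC7 (fun P => Cfsg.Agent.Lib.Helper2_A7_L5BRINV.no_even_cent5 hG P)
  obtain ⟨P5⟩ : Nonempty (Sylow 5 G) := inferInstance
  obtain ⟨hP5, hN5, hCP5⟩ := hL5 P5
  obtain ⟨y, w, hy5, hw4, hwy⟩ := Cfsg.Agent.Lib.Helper89_A7_L5W.exists_w P5 hP5 hN5 hCP5
  -- (CH)
  obtain ⟨P7⟩ : Nonempty (Sylow 7 G) := inferInstance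
  obtain ⟨hP7, hN7, hCP7⟩ := hL7 P7
  obtain ⟨χ, hχ⟩ : ∃ χ : Cfsg.IrrCharacter G, Cfsg.charDegree (χ : G → ℂ) = 6 := by
    rcases Cfsg.Agent.Lib.Helper20_A7_DEG7.deg7 hG P7 hP7 hN7 hCP7 with h | ⟨χ, h⟩ | ⟨⟨θ, hθ⟩, hdeg⟩
    · exact h
    · exact absurd h (Cfsg.Agent.Lib.Helper53_A7_NO8.no_deg8 hG P5 hP5 hN5 hCP5 χ)
    · exact (Cfsg.Agent.Lib.Helper71_A7_NO4.no_deg4 hG θ hθ hdeg).elim
  -- (T2)
  obtain ⟨P3⟩ : Nonempty (Sylow 3 G) := inferInstance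
  have hP3 : Nat.card (P3 : Subgroup G) = 9 := by
    have := Cfsg.Agent.Lib.Helper17_Sylow.card_sylow_eq_pow (p := 3) (k := 2) (m := 280)
      (by rw [hG]; norm_num) (by norm_num) P3
    rw [this]; norm_num
  have hN3 := Cfsg.Agent.Lib.Helper61_A7_L3N.loc3 hG hC5 hC7 P3
  obtain ⟨T0⟩ : Nonempty (Sylow 2 G) := inferInstance
  obtain ⟨c0, a0, hc0, ha0, hc04, ha02, hac0, hrel0, hout0⟩ := Cfsg.Agent.Lib.Helper7_A7_T2A.sylow2_dihedral hG ⟨w, hw4⟩ T0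
  obtain ⟨hinv, h4c⟩ := Cfsg.Agent.Lib.Helper61_A7_T2B.fusion2 hG T0 c0 a0 hc0 ha0 hc04 ha02 hac0 hrel0 hout0
  -- (VAL)
  have hy1 := Cfsg.Agent.Lib.Helper63_A7_VAL5.val5 hG χ hχ y w hy5 hwy
  obtain ⟨hv2, hv4⟩ := Cfsg.Agent.Lib.Helper74_A7_VAL4.val4 hG χ hχ y w hy5 hw4 hwy hy1 hinv h4c T0 c0 hc0 hc04 hout0
  -- (L3)
  have hnc : ∀ (Q : Sylow 3 G) (t : G), orderOf t = 2 →
      t ∉ Subgroup.centralizer ((Q : Subgroup G) : Set G) := fun Q t ht =>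
    Cfsg.Agent.Lib.Helper12_A7_L3C.no_invol_cent3 hG hC5 hC7 hinv Q (Cfsg.Agent.Lib.Helper61_A7_L3N.loc3 hG hC5 hC7 Q) t ht
  obtain ⟨u, huB, hu4⟩ : ∃ u ∈ Subgroup.normalizer ((P3 : Subgroup G) : Set G), orderOf u = 4 := by
    rcases Cfsg.Agent.Lib.Helper12_A7_L3V.exists_u_or_abr P3 hP3 hN3 (hnc P3) with h | ⟨a, b, r, ha, hb, hr, ha2, hb2, hab, hr3, har, hbr⟩
    · exact h
    · exact (Cfsg.Agent.Lib.Helper7_A7_L3ABR.abr_false hG hC5 hC7 hinv hnc P3 hN3 a b r ha hb hr ha2 hb2 hab hr3 har hbr).elim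
  have hord := Cfsg.Agent.Lib.Helper11_A7_L3ORD.orders_outside P3 hP3 hN3 (hnc P3) u huB hu4
  -- (END)
  obtain ⟨T, hT⟩ : ∃ T : Sylow 2 G, u ∈ (T : Subgroup G) := by
    have hp : IsPGroup 2 (Subgroup.zpowers u) := by
      apply IsPGroup.of_card (n := 2)
      rw [Nat.card_zpowers, hu4]; norm_num
    obtain ⟨T, hT⟩ := hp.exists_le_sylow
    exact ⟨T, hT (Subgroup.mem_zpowers u)⟩
  have hTc : Nat.card (T : Subgroup G) = 8 := by
    have := Cfsg.Agent.Lib.Helper17_Sylow.card_sylow_eq_pow (p := 2) (k := 3) (m := 315)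
      (by rw [hG]; norm_num) (by norm_num) T
    rw [this]; norm_num
  obtain ⟨c, a, hc, ha, hc4, ha2, hac, hrel, hout⟩ := Cfsg.Agent.Lib.Helper7_A7_T2A.sylow2_dihedral hG ⟨w, hw4⟩ T
  obtain ⟨n, ρ, hirr, hρ⟩ := χ.2
  have hn : ρ.character 1 = 6 := by
    rw [hρ, Cfsg.Agent.Lib.Helper77_BlockBasics.apply_one_eq_charDegree χ, hχ]; norm_num
  have hdim : Module.finrank ℂ (Fin n → ℂ) = 6 := by
    have h1 : ρ.character 1 = (Module.finrank ℂ (Fin n → ℂ) : ℂ) := Representation.char_one ρ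
    rw [hn] at h1
    exact_mod_cast h1.symm
  obtain ⟨v, hv, hvB, hvT⟩ := Cfsg.Agent.Lib.Helper62_A7_ENDFIX.exists_fixed ρ hn
    (fun t ht => by rw [hρ]; exact hv2 t ht) (fun t ht => by rw [hρ]; exact hv4 t ht)
    P3 hP3 hN3 u huB hu4 hord T hTc hT c hc hc4 hout
  obtain ⟨H, hH⟩ := Cfsg.Agent.Lib.Helper70_A7_ENDGRP.index7 hG ρ hirr hdim v hv P3 hN3 hvB T hvT
  exact Cfsg.Agent.Lib.Helper89_A7_ENDISO.iso_of_index7 hG H hH


end Cfsg.Agent.S0984
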