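import Cfsg.Statements.S3870
import Mathlib

set_option autoImplicit false
open Cfsg

namespace Cfsg.Agent.S3870

variable {G : Type*} [Group G]

lemma sylow_eq_of_le {p : ℕ} {P Q : Sylow p G} (h : (P : Subgroup G) ≤ Q) : P = Q :=
  Sylow.ext (P.is_maximal' Q.isPGroup' h).symm

/-- normalizers grow in finite `p`-groups -/
lemma exists_normalizing_not_mem [Finite G] {p : ℕ} [Fact p.Prime] (P D : Subgroup G)
    (hP : IsPGroup p P) (hDP : D < P) :
    ∃ x ∈ P, x ∈ Subgroup.normalizer (D : Set G) ∧ x ∉ D := by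
  have hnil : Group.IsNilpotent P := hP.isNilpotent
  have hlt : D.subgroupOf P < ⊤ := by
    rw [lt_top_iff_ne_top, Ne, Subgroup.subgroupOf_eq_top]
    exact fun h => (not_le_of_gt hDP) h
  have h1 := Group.normalizerCondition_of_isNilpotent (G := P) _ hlt
  obtain ⟨x, hx, hx'⟩ := SetLike.exists_of_lt h1
  rw [← Subgroup.subgroupOf_normalizer_eq hDP.le] at hx
  exact ⟨x, x.2, hx, hx'⟩

lemma card_lt_of_le_of_mem [Finite G] {D E : Subgroup G} (h : D ≤ E) {x : G} (hx : x ∈ E)
    (hx' : x ∉ D) : Nat.card D < Nat.card E := by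
  by_contra hc
  push Not at hc
  have := Subgroup.eq_of_le_of_card_ge h hc
  rw [this] at hx'
  exact hx' hx

/-- In a proper subgroup `N`, the (normal) Sylow `p`-subgroup, seen in `G`. -/
lemma exists_S [Finite G] {p : ℕ} [Fact p.Prime]
    (hsub : ∀ H : Subgroup G, H ≠ ⊤ → Cfsg.IsPClosed p ↥H) (N : Subgroup G) (hN : N ≠ ⊤) :
    ∃ S : Subgroup G, IsPGroup p S ∧ S ≤ N ∧ (∀ A : Subgroup G, IsPGroup p A → A ≤ N → A ≤ S) ∧
      N ≤ Subgroup.normalizer (S : Set G) := by
  obtain ⟨P₀⟩ : Nonempty (Sylow p N) := inferInstance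
  have hnorm : (P₀ : Subgroup N).Normal := hsub N hN P₀
  refine ⟨(P₀ : Subgroup N).map N.subtype, P₀.isPGroup'.map _, Subgroup.map_subtype_le _, ?_, ?_⟩
  · intro A hA hAN
    have hA' : IsPGroup p (A.subgroupOf N) :=
      hA.comap_of_injective N.subtype (Subgroup.subtype_injective N)
    obtain ⟨Q, hQ⟩ := hA'.exists_le_sylow
    obtain ⟨g, hg⟩ := MulAction.exists_smul_eq N P₀ Q
    have hQP : Q = P₀ := by
      rw [← hg]
      exact Sylow.smul_eq_of_normal
    rw [hQP] at hQ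
    have := Subgroup.map_mono (f := N.subtype) hQ
    rwa [Subgroup.subgroupOf_map_subtype, inf_of_le_left hAN] at this
  · rw [← Subgroup.normal_subgroupOf_iff_le_normalizer (Subgroup.map_subtype_le _)]
    have : ((P₀ : Subgroup N).map N.subtype).subgroupOf N = P₀ :=
      Subgroup.comap_map_eq_self_of_injective (Subgroup.subtype_injective N) _
    rw [this]
    exact hnorm

/-- The normalizer of a nontrivial `p`-subgroup is proper. -/
lemma normalizer_ne_top [Finite G] [IsSimpleGroup G] {p : ℕ} [Fact p.Prime]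
    (hnc : ¬ Cfsg.IsPClosed p G) (R : Subgroup G) (hR : IsPGroup p R) (hR0 : R ≠ ⊥) :
    Subgroup.normalizer (R : Set G) ≠ ⊤ := by
  rw [Ne, Subgroup.normalizer_eq_top_iff]
  intro hn
  have hRtop : R = ⊤ := (hn.eq_bot_or_eq_top).resolve_left hR0
  apply hnc
  intro P
  have : (P : Subgroup G) = ⊤ := by
    have := P.is_maximal' hR (by rw [hRtop]; exact le_top)
    rw [← this, hRtop]
  rw [this]
  infer_instance

lemma ti_aux [Finite G] [IsSimpleGroup G] {p : ℕ} [Fact p.Prime]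
    (hnc : ¬ Cfsg.IsPClosed p G) (hsub : ∀ H : Subgroup G, H ≠ ⊤ → Cfsg.IsPClosed p ↥H) :
    ∀ n : ℕ, ∀ P Q : Sylow p G, P ≠ Q →
      Nat.card G - Nat.card ↥((P : Subgroup G) ⊓ (Q : Subgroup G)) = n →
      (P : Subgroup G) ⊓ (Q : Subgroup G) = ⊥ := by
  intro n
  induction n using Nat.strong_induction_on with
  | _ n ih =>
    intro P Q hPQ hn
    by_contra hD
    set D := (P : Subgroup G) ⊓ (Q : Subgroup G) with hDdef
    have hDp : IsPGroup p D := P.isPGroup'.to_le inf_le_left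
    have hN : Subgroup.normalizer (D : Set G) ≠ ⊤ := normalizer_ne_top hnc D hDp hD
    obtain ⟨S, hSp, hSN, hSmax, hNS⟩ := exists_S hsub _ hN
    have hDP : D < (P : Subgroup G) := by
      refine lt_of_le_of_ne inf_le_left ?_
      intro h
      apply hPQ
      apply sylow_eq_of_le
      rw [← h]; exact inf_le_right
    have hDQ : D < (Q : Subgroup G) := by
      refine lt_of_le_of_ne inf_le_right ?_
      intro h
      apply hPQ
      symm
      apply sylow_eq_of_le
      rw [← h]; exact inf_le_left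
    obtain ⟨x, hxP, hxN, hxD⟩ := exists_normalizing_not_mem (P : Subgroup G) D P.isPGroup' hDP
    obtain ⟨y, hyQ, hyN, hyD⟩ := exists_normalizing_not_mem (Q : Subgroup G) D Q.isPGroup' hDQ
    have hAS : (P : Subgroup G) ⊓ Subgroup.normalizer (D : Set G) ≤ S :=
      hSmax _ (P.isPGroup'.to_le inf_le_left) inf_le_right
    have hBS : (Q : Subgroup G) ⊓ Subgroup.normalizer (D : Set G) ≤ S :=
      hSmax _ (Q.isPGroup'.to_le inf_le_left) inf_le_right
    have hDS : D ≤ S := hSmax D hDp Subgroup.le_normalizer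
    obtain ⟨T, hST⟩ := hSp.exists_le_sylow
    have hcardD : Nat.card D ≤ Nat.card G := Subgroup.card_le_card_group D
    have key : ∀ P' : Sylow p G, D ≤ (P' : Subgroup G) → ∀ z : G, z ∈ (P' : Subgroup G) → z ∈ S →
        z ∉ D → T = P' := by
      intro P' hDP' z hzP' hzS hzD
      by_contra hTP
      have hle : D ≤ (T : Subgroup G) ⊓ (P' : Subgroup G) := le_inf (hDS.trans hST) hDP'
      have hz : z ∈ (T : Subgroup G) ⊓ (P' : Subgroup G) := ⟨hST hzS, hzP'⟩
      have hlt := card_lt_of_le_of_mem hle hz hzD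
      have hcard2 : Nat.card ↥((T : Subgroup G) ⊓ (P' : Subgroup G)) ≤ Nat.card G :=
        Subgroup.card_le_card_group _
      have := ih (Nat.card G - Nat.card ↥((T : Subgroup G) ⊓ (P' : Subgroup G))) (by omega)
        T P' hTP rfl
      rw [this] at hle
      exact hD (le_bot_iff.mp hle)
    have h1 : T = P := key P inf_le_left x hxP (hAS ⟨hxP, hxN⟩) hxD
    have h2 : T = Q := key Q inf_le_right y hyQ (hBS ⟨hyQ, hyN⟩) hyD
    exact hPQ (h1.symm.trans h2)

theorem result {G : Type*} [Group G] [Finite G] [IsSimpleGroup G] {p : ℕ} [Fact p.Prime]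
    (hnc : ¬ Cfsg.IsPClosed p G) (hsub : ∀ H : Subgroup G, H ≠ ⊤ → Cfsg.IsPClosed p ↥H) :
    (∀ P Q : Sylow p G, P ≠ Q → (P : Subgroup G) ⊓ (Q : Subgroup G) = ⊥) ∧
      ∀ (P : Sylow p G) (R : Subgroup G), R ≤ P → R ≠ ⊥ →
        Subgroup.normalizer (R : Set G) ≤ Subgroup.normalizer ((P : Subgroup G) : Set G) := by
  have hTI : ∀ P Q : Sylow p G, P ≠ Q → (P : Subgroup G) ⊓ (Q : Subgroup G) = ⊥ :=
    fun P Q hPQ => ti_aux hnc hsub _ P Q hPQ rfl
  refine ⟨hTI, ?_⟩
  intro P R hRP hR0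
  have hRp : IsPGroup p R := P.isPGroup'.to_le hRP
  have hN : Subgroup.normalizer (R : Set G) ≠ ⊤ := normalizer_ne_top hnc R hRp hR0
  obtain ⟨S, hSp, hSN, hSmax, hNS⟩ := exists_S hsub _ hN
  have hRS : R ≤ S := hSmax R hRp Subgroup.le_normalizer
  obtain ⟨T, hST⟩ := hSp.exists_le_sylow
  have hTP : T = P := by
    by_contra h
    have := hTI T P h
    apply hR0
    rw [← le_bot_iff, ← this]
    exact le_inf (hRS.trans hST) hRP
  rw [hTP] at hST
  intro g hg
  have hgS : g ∈ Subgroup.normalizer (S : Set G) := hNS hg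
  refine Sylow.smul_eq_iff_mem_normalizer.mp ?_
  by_contra hne
  have h1 := hTI (g • P) P hne
  apply hR0
  rw [← le_bot_iff, ← h1]
  refine le_inf ?_ hRP
  intro z hz
  rw [Sylow.coe_subgroup_smul, Subgroup.mem_pointwise_smul_iff_inv_smul_mem]
  -- g⁻¹ z g ∈ P
  have hzS : z ∈ S := hRS hz
  have : g⁻¹ * z * g ∈ S := by
    have := (Subgroup.mem_normalizer_iff''.mp hgS z).mp hzS
    exact this
  have h2 : g⁻¹ * z * g ∈ (P : Subgroup G) := hST this
  simpa [MulAut.smul_def, MulAut.conj_inv_apply] using h2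

end Cfsg.Agent.S3870
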