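import Mathlib
import Cfsg.Statements.S0986
import Cfsg.Agent.S3870

set_option autoImplicit false
open Cfsg

namespace Cfsg.Agent.S0986

open Cfsg.Agent.S3870

section aux
variable {G : Type*} [Group G] [Finite G] {p : ℕ} [Fact p.Prime]

/-- the image in `G` of a Sylow subgroup of a subgroup `N`. -/
theorem map_le_iff_le_subgroupOf (N E : Subgroup G) (hE : E ≤ N) (S : Subgroup ↥N) :
    E ≤ S.map N.subtype ↔ E.subgroupOf N ≤ S := by
  constructor
  · intro h x hx
    obtain ⟨y, hy, hyx⟩ := h (Subgroup.mem_subgroupOf.mp hx)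
    have : y = x := Subtype.ext hyx
    rwa [← this]
  · intro h x hx
    exact ⟨⟨x, hE hx⟩, h (Subgroup.mem_subgroupOf.mpr hx), rfl⟩

theorem main (P Q : Sylow p G) (hPQ : P ≠ Q)
    (hmax : ∀ P' Q' : Sylow p G, P' ≠ Q' →
      Nat.card ↥((P' : Subgroup G) ⊓ (Q' : Subgroup G)) ≤ Nat.card ↥((P : Subgroup G) ⊓ (Q : Subgroup G)))
    (D N : Subgroup G) (hD : D = (P : Subgroup G) ⊓ (Q : Subgroup G))
    (hN : N = Subgroup.normalizer (D : Set G)) :
    1 < Nat.card (Sylow p ↥N) ∧
    (∀ S T : Sylow p ↥N, S ≠ T → (S : Subgroup ↥N) ⊓ (T : Subgroup ↥N) = D.subgroupOf N) ∧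
    ∀ S : Sylow p ↥N, ∃! T : Sylow p G, (S : Subgroup ↥N).map N.subtype ≤ (T : Subgroup G) := by
  have hDN : D ≤ N := by rw [hN]; exact Subgroup.le_normalizer
  have hDP : D ≤ (P : Subgroup G) := by rw [hD]; exact inf_le_left
  have hDQ : D ≤ (Q : Subgroup G) := by rw [hD]; exact inf_le_right
  have hDltP : D < (P : Subgroup G) := by
    refine lt_of_le_of_ne hDP ?_
    intro h
    apply hPQ
    apply sylow_eq_of_le
    rw [← h]; exact hDQ
  have hDltQ : D < (Q : Subgroup G) := by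
    refine lt_of_le_of_ne hDQ ?_
    intro h
    apply hPQ
    symm
    apply sylow_eq_of_le
    rw [← h]; exact hDP
  have hDp : IsPGroup p D := P.isPGroup'.to_le hDP
  -- key: two Sylow subgroups sharing a subgroup bigger than `D` coincide
  have key : ∀ (R₁ R₂ : Sylow p G) (E : Subgroup G), E ≤ (R₁ : Subgroup G) → E ≤ (R₂ : Subgroup G) →
      Nat.card D < Nat.card E → R₁ = R₂ := by
    intro R₁ R₂ E h1 h2 hlt
    by_contra hne
    have := hmax R₁ R₂ hne
    rw [← hD] at this
    have h3 : Nat.card E ≤ Nat.card ↥((R₁ : Subgroup G) ⊓ (R₂ : Subgroup G)) :=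
      Subgroup.card_le_of_le (le_inf h1 h2)
    omega
  -- the normal subgroup `D` of `N` lies in every Sylow subgroup of `N`
  have hDnormal : (D.subgroupOf N).Normal := by
    rw [hN]; exact Subgroup.normal_in_normalizer
  have hDS : ∀ S : Sylow p ↥N, D ≤ (S : Subgroup ↥N).map N.subtype := by
    intro S
    rw [map_le_iff_le_subgroupOf N D hDN]
    have hpD : IsPGroup p ↥(D.subgroupOf N) := hDp.comap_subtype
    exact IsPGroup.le_sylow_of_normal (N := D.subgroupOf N) hpD S
  -- a `p`-subgroup of `N` lies in some Sylow subgroup of `N`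
  have hex : ∀ E : Subgroup G, IsPGroup p E → E ≤ N →
      ∃ S : Sylow p ↥N, E ≤ (S : Subgroup ↥N).map N.subtype := by
    intro E hE hEN
    obtain ⟨S, hS⟩ := (hE.comap_subtype (K := N)).exists_le_sylow
    exact ⟨S, (map_le_iff_le_subgroupOf N E hEN S).mpr hS⟩
  -- all Sylow subgroups of `N` have the same order
  have hcardS : ∀ S T : Sylow p ↥N,
      Nat.card ↥((S : Subgroup ↥N).map N.subtype) = Nat.card ↥((T : Subgroup ↥N).map N.subtype) := by
    intro S T
    rw [Subgroup.card_map_of_injective (Subgroup.subtype_injective N),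
      Subgroup.card_map_of_injective (Subgroup.subtype_injective N),
      Sylow.card_eq_multiplicity, Sylow.card_eq_multiplicity]
  -- elements normalizing `D` outside `D`
  obtain ⟨x, hxP, hxN, hxD⟩ := exists_normalizing_not_mem (P : Subgroup G) D P.isPGroup' hDltP
  obtain ⟨y, hyQ, hyN, hyD⟩ := exists_normalizing_not_mem (Q : Subgroup G) D Q.isPGroup' hDltQ
  rw [← hN] at hxN hyN
  -- the subgroups `D ⊔ ⟨x⟩`, `D ⊔ ⟨y⟩`
  have hEx_le_P : D ⊔ Subgroup.zpowers x ≤ (P : Subgroup G) :=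
    sup_le hDP (Subgroup.zpowers_le.mpr hxP)
  have hEy_le_Q : D ⊔ Subgroup.zpowers y ≤ (Q : Subgroup G) :=
    sup_le hDQ (Subgroup.zpowers_le.mpr hyQ)
  have hEx_le_N : D ⊔ Subgroup.zpowers x ≤ N := sup_le hDN (Subgroup.zpowers_le.mpr hxN)
  have hEy_le_N : D ⊔ Subgroup.zpowers y ≤ N := sup_le hDN (Subgroup.zpowers_le.mpr hyN)
  have hEx_card : Nat.card D < Nat.card ↥(D ⊔ Subgroup.zpowers x) :=
    card_lt_of_le_of_mem le_sup_left (Subgroup.mem_sup_right (Subgroup.mem_zpowers x)) hxD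
  have hEy_card : Nat.card D < Nat.card ↥(D ⊔ Subgroup.zpowers y) :=
    card_lt_of_le_of_mem le_sup_left (Subgroup.mem_sup_right (Subgroup.mem_zpowers y)) hyD
  obtain ⟨S₁, hS₁⟩ := hex _ (P.isPGroup'.to_le hEx_le_P) hEx_le_N
  obtain ⟨S₂, hS₂⟩ := hex _ (Q.isPGroup'.to_le hEy_le_Q) hEy_le_N
  have hbig : ∀ S : Sylow p ↥N, Nat.card D < Nat.card ↥((S : Subgroup ↥N).map N.subtype) := by
    intro S
    rw [hcardS S S₁]
    exact lt_of_lt_of_le hEx_card (Subgroup.card_le_of_le hS₁)
  -- part 3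
  have part3 : ∀ S : Sylow p ↥N, ∃! T : Sylow p G,
      (S : Subgroup ↥N).map N.subtype ≤ (T : Subgroup G) := by
    intro S
    obtain ⟨T, hT⟩ := (S.isPGroup'.map N.subtype).exists_le_sylow
    refine ⟨T, hT, ?_⟩
    intro T' hT'
    exact key T' T _ hT' hT (hbig S)
  refine ⟨?_, ?_, part3⟩
  · rw [Finite.one_lt_card_iff_nontrivial]
    refine ⟨⟨S₁, S₂, ?_⟩⟩
    intro h12
    obtain ⟨R, hR, -⟩ := part3 S₁
    have h1 : P = R := key P R _ hEx_le_P (hS₁.trans hR) hEx_card
    have h2 : Q = R := key Q R _ hEy_le_Q ((h12 ▸ hS₂).trans hR) hEy_card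
    exact hPQ (h1.trans h2.symm)
  · intro S T hST
    obtain ⟨RS, hRS, -⟩ := part3 S
    obtain ⟨RT, hRT, -⟩ := part3 T
    have hne : RS ≠ RT := by
      intro h
      apply hST
      -- both are `(R ⊓ N).subgroupOf N`
      have hp : IsPGroup p ↥(((RS : Subgroup G) ⊓ N).subgroupOf N) :=
        (RS.isPGroup'.to_le inf_le_left).comap_subtype
      have h1 : (S : Subgroup ↥N) ≤ ((RS : Subgroup G) ⊓ N).subgroupOf N := by
        intro s hs
        rw [Subgroup.mem_subgroupOf]
        exact ⟨hRS ⟨s, hs, rfl⟩, s.2⟩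
      have h2 : (T : Subgroup ↥N) ≤ ((RS : Subgroup G) ⊓ N).subgroupOf N := by
        intro s hs
        rw [Subgroup.mem_subgroupOf]
        exact ⟨h ▸ hRT ⟨s, hs, rfl⟩, s.2⟩
      have e1 := S.is_maximal' hp h1
      have e2 := T.is_maximal' hp h2
      exact Sylow.ext (e1.symm.trans e2).symm.symm
    have hle : Nat.card ↥((RS : Subgroup G) ⊓ (RT : Subgroup G)) ≤ Nat.card D := by
      have := hmax RS RT hne
      rwa [← hD] at this
    have hinf : (S : Subgroup ↥N).map N.subtype ⊓ (T : Subgroup ↥N).map N.subtype = D := by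
      symm
      apply Subgroup.eq_of_le_of_card_ge (le_inf (hDS S) (hDS T))
      exact (Subgroup.card_le_of_le (inf_le_inf hRS hRT)).trans hle
    apply Subgroup.map_injective (Subgroup.subtype_injective N)
    rw [Subgroup.map_inf _ _ _ (Subgroup.subtype_injective N), hinf, Subgroup.subgroupOf_map_subtype,
      inf_eq_left.mpr hDN]

end aux

/-- Let P and Q be distinct Sylow p-subgroups of a finite group G chosen so that the order of P ∩ Q is as large as possible among intersections of two distinct Sylow p-subgroups, and let N be the normalizer of P ∩ Q. Then N has more than one Sylow p-subgroup, any two distinct Sylow p-subgroups of N intersect exactly in P ∩ Q, and each Sylow p-subgroup of N lies in exactly one Sylow p-subgroup of G. -/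
theorem result {G : Type*} [Group G] [Finite G] (p : ℕ) [Fact p.Prime] (P Q : Sylow p G) (hPQ : P ≠ Q) (hmax : ∀ P' Q' : Sylow p G, P' ≠ Q' → Nat.card ↥((P' : Subgroup G) ⊓ (Q' : Subgroup G)) ≤ Nat.card ↥((P : Subgroup G) ⊓ (Q : Subgroup G))) : 1 < Nat.card (Sylow p ↥(Subgroup.normalizer (((P : Subgroup G) ⊓ (Q : Subgroup G) : Subgroup G) : Set G))) ∧ (∀ S T : Sylow p ↥(Subgroup.normalizer (((P : Subgroup G) ⊓ (Q : Subgroup G) : Subgroup G) : Set G)), S ≠ T → (S : Subgroup _) ⊓ (T : Subgroup _) = ((P : Subgroup G) ⊓ (Q : Subgroup G)).subgroupOf (Subgroup.normalizer (((P : Subgroup G) ⊓ (Q : Subgroup G) : Subgroup G) : Set G))) ∧ ∀ S : Sylow p ↥(Subgroup.normalizer (((P : Subgroup G) ⊓ (Q : Subgroup G) : Subgroup G) : Set G)), ∃! T : Sylow p G, (S : Subgroup _).map (Subgroup.normalizer (((P : Subgroup G) ⊓ (Q : Subgroup G) : Subgroup G) : Set G)).subtype ≤ (T : Subgroup G) := by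
  exact main P Q hPQ hmax _ _ rfl rfl

end Cfsg.Agent.S0986
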