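import Cfsg.Statements.S0994
import Cfsg.Agent.Lib.Helper17_Sylow

set_option autoImplicit false
open Cfsg

namespace Cfsg.Agent.S0994

open Cfsg.Agent.Lib.Helper17_Sylow

/-- No finite simple group has order 1188 = 2^2 * 3^3 * 11. -/
theorem result {G : Type*} [Group G] [Finite G] [IsSimpleGroup G] : Nat.card G ≠ 1188 := by
  intro h
  have : Fact (Nat.Prime 11) := ⟨by norm_num⟩
  have hG : Nat.card G = 11 ^ 1 * 108 := by rw [h]; norm_num
  have hm : ¬ 11 ∣ 108 := by norm_num
  have hmem := card_sylow_mem_candidates hG hm
  have hlt := one_lt_card_sylow_of_card hG hm (by norm_num) (by norm_num)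
  have hcop := not_coprime_of_simple hG hm (by norm_num)
  have hc : sylowCandidates 11 108 = [1, 12] := by decide
  rw [hc] at hmem
  simp only [List.mem_cons, List.not_mem_nil, or_false] at hmem
  rcases hmem with h1 | h1
  · omega
  · rw [h1] at hcop
    exact hcop (by norm_num)

end Cfsg.Agent.S0994
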