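import Cfsg.Statements.S1002
import Cfsg.Agent.Lib.Helper17_ExcApply

set_option autoImplicit false
open Cfsg

namespace Cfsg.Agent.S1002

open Cfsg.Agent.Lib.Helper17_Sylow Cfsg.Agent.Lib.Helper17_ExcApply Subgroup

/-- No finite simple group has order 1004913 = 3^3 * 7 * 13 * 409. -/
theorem result {G : Type*} [Group G] [Finite G] [IsSimpleGroup G] : Nat.card G ≠ 1004913 := by
  intro hG
  classical
  cases nonempty_fintype G
  have hnc : ¬ IsMulCommutative G :=
    not_isMulCommutative_of_not_prime (by rw [hG]; norm_num)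
  have : Fact (Nat.Prime 409) := ⟨by norm_num⟩
  have hG409 : Nat.card G = 409 ^ 1 * 2457 := by rw [hG]; norm_num
  have h409 : ¬ 409 ∣ 2457 := by norm_num
  obtain ⟨P⟩ : Nonempty (Sylow 409 G) := inferInstance
  have hPcard : Nat.card (P : Subgroup G) = 409 := by
    have := card_sylow_eq_pow hG409 h409 P
    simpa using this
  have hn : Nat.card (Sylow 409 G) = 819 := by
    have hc : sylowCandidates 409 2457 = [1, 819] := by decide
    have hmem := card_sylow_mem_candidates hG409 h409
    rw [hc] at hmem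
    have hlt := one_lt_card_sylow_of_card hG409 h409 (by norm_num) (by norm_num)
    simp only [List.mem_cons, List.not_mem_nil, or_false] at hmem
    omega
  have hN : Nat.card (normalizer ((P : Subgroup G) : Set G)) = 3 * 409 := by
    have := card_normalizer_mul_card_sylow P
    rw [hn, hG] at this
    omega
  have hC := centralizer_le_of_card_normalizer P hPcard 3 Nat.prime_three hN
    (by rw [hG]; norm_num)
  obtain ⟨ψ, ψ', χ, δ, δ', ε, hψ1, hψ'1, hne, hδ, hδ', hε, hcong, hcong', hrel⟩ :=
    exceptional_three (P : Subgroup G) hPcard hC hN (by norm_num)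
  have hd2 := two_le_deg_of_simple hnc ψ hψ1
  have hd2' := two_le_deg_of_simple hnc ψ' hψ'1
  have hdvd := deg_dvd_card ψ
  have hdvd' := deg_dvd_card ψ'
  have hsq := one_add_sq_add_sq_le ψ ψ' hψ1 hψ'1 hne
  rw [hG] at hdvd hdvd' hsq
  have hle : deg ψ ≤ 1002 := by nlinarith
  have hle' : deg ψ' ≤ 1002 := by nlinarith
  unfold Int.ModEq at hcong hcong'
  generalize deg ψ = d at *
  generalize deg ψ' = d' at *
  have key : ∀ (x : ℕ) (η : ℤ), (η = 1 ∨ η = -1) → 2 ≤ x → x ≤ 1002 → x ∣ 1004913 →
      (x : ℤ) % 409 = η % 409 → x = 819 := by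
    intro x η hη h2 h73 hx hm
    rcases hη with rfl | rfl
    · have h1 : x = 410 ∨ x = 819 := by omega
      rcases h1 with rfl | rfl
      · omega
      · rfl
    · exfalso
      have h1 : x = 408 ∨ x = 817 := by omega
      rcases h1 with rfl | rfl <;> omega
  have h1 := key d δ hδ hd2 hle hdvd hcong
  have h2 := key d' δ' hδ' hd2' hle' hdvd' hcong'
  subst h1 h2
  norm_num at hsq

end Cfsg.Agent.S1002
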