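import Cfsg.Statements.S1008
import Cfsg.Agent.Lib.Helper33_Order168

set_option autoImplicit false
open Cfsg

namespace Cfsg.Agent.S1008

open Subgroup Cfsg.Agent.Lib.Helper33_Order168 Cfsg.Agent.Lib.Helper17_Sylow
open Cfsg.Agent.Lib.Helper33_Conj Cfsg.Agent.Lib.Helper33_Alperin

variable {G : Type*} [Group G] [Finite G] [IsSimpleGroup G]

theorem part_one (h : Nat.card G = 168) (M : Subgroup G) (hM : IsCoatom M) :
    Nonempty (↥M ≃* Equiv.Perm (Fin 4)) ∨ (Nat.card ↥M = 21 ∧ ¬ IsMulCommutative ↥M) := by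
  rcases coatom_cases h M hM with ⟨P, rfl⟩ | ⟨U, hU, rfl⟩
  · right
    exact ⟨card_normalizer_sylow7 h P, not_comm_normalizer_sylow7 h P⟩
  · left
    exact normalizer_klein_iso h U hU

theorem part_two (h : Nat.card G = 168) (M M' : Subgroup G) (hM : IsCoatom M) (hM' : IsCoatom M')
    (hc : Nat.card ↥M = 21) (hc' : Nat.card ↥M' = 21) :
    ∃ g : G, M' = M.map (MulAut.conj g).toMonoidHom := by
  rcases coatom_cases h M hM with ⟨P, rfl⟩ | ⟨U, hU, rfl⟩
  · rcases coatom_cases h M' hM' with ⟨P', rfl⟩ | ⟨U', hU', rfl⟩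
    · obtain ⟨g, hg⟩ := sylow_cj_eq P P'
      refine ⟨g, ?_⟩
      rw [hg]
      exact (cj_normalizer g (P : Subgroup G)).symm
    · rw [card_normalizer_klein h U' hU'] at hc'
      omega
  · rw [card_normalizer_klein h U hU] at hc
    omega

theorem part_three (h : Nat.card G = 168) :
    ∃ M₁ M₂ : Subgroup G, IsCoatom M₁ ∧ IsCoatom M₂ ∧ Nonempty (↥M₁ ≃* Equiv.Perm (Fin 4)) ∧
      Nonempty (↥M₂ ≃* Equiv.Perm (Fin 4)) ∧
      (∀ g : G, M₂ ≠ M₁.map (MulAut.conj g).toMonoidHom) ∧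
      ∀ M : Subgroup G, IsCoatom M → Nonempty (↥M ≃* Equiv.Perm (Fin 4)) →
        ∃ g : G, M = M₁.map (MulAut.conj g).toMonoidHom ∨ M = M₂.map (MulAut.conj g).toMonoidHom := by
  obtain ⟨T⟩ : Nonempty (Sylow 2 G) := inferInstance
  obtain ⟨u, a, D⟩ := exists_d8Data h T
  have hk1 := D.isKleinFour_pair D.ha D.hau
  have hk2 := D.isKleinFour_pair D.au_mem D.au_outside
  have hle1 := D.pair_le D.ha
  have hle2 := D.pair_le D.au_mem
  refine ⟨normalizer ((closure ({u ^ 2, a} : Set G) : Subgroup G) : Set G),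
    normalizer ((closure ({u ^ 2, a * u} : Set G) : Subgroup G) : Set G),
    isCoatom_normalizer_klein h _ hk1, isCoatom_normalizer_klein h _ hk2,
    normalizer_klein_iso h _ hk1, normalizer_klein_iso h _ hk2, ?_, ?_⟩
  · intro g hg
    have h1 : normalizer ((cj g (closure ({u ^ 2, a} : Set G)) : Subgroup G) : Set G) =
        normalizer ((closure ({u ^ 2, a * u} : Set G) : Subgroup G) : Set G) := by
      rw [hg]
      exact (cj_normalizer g _).symm
    have h2 := klein_eq_of_normalizer_eq h _ _ (isKleinFour_cj hk1 g) hk2 h1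
    exact klein_not_conj h T _ _ hle1 hle2 hk1 hk2 D.klein_ne g h2.symm
  · intro M hM ⟨e⟩
    have hc : Nat.card M = 24 := by
      rw [Nat.card_congr e.toEquiv, Nat.card_eq_fintype_card, Fintype.card_perm, Fintype.card_fin]
      rfl
    rcases coatom_cases h M hM with ⟨P, rfl⟩ | ⟨U, hU, rfl⟩
    · rw [card_normalizer_sylow7 h P] at hc
      omega
    · have hpg : IsPGroup 2 U := IsPGroup.of_card (n := 2) (by rw [hU.card_four]; norm_num)
      obtain ⟨T₁, hT₁⟩ := hpg.exists_le_sylow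
      obtain ⟨k, hk⟩ := sylow_cj_eq T T₁
      have hle : cj k⁻¹ U ≤ (T : Subgroup G) := by
        rw [cj_le_iff, inv_inv, ← hk]
        exact hT₁
      refine ⟨k, ?_⟩
      rcases D.klein_cases hle (isKleinFour_cj hU k⁻¹) with h1 | h1
      · left
        have h2 : U = cj k (closure ({u ^ 2, a} : Set G)) := by
          rw [← h1, cj_cj_inv]
        rw [h2]
        exact (cj_normalizer k _).symm
      · right
        have h2 : U = cj k (closure ({u ^ 2, a * u} : Set G)) := by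
          rw [← h1, cj_cj_inv]
        rw [h2]
        exact (cj_normalizer k _).symm

theorem result {G : Type*} [Group G] [Finite G] [IsSimpleGroup G] (h : Nat.card G = 168) : (∀ M : Subgroup G, IsCoatom M → Nonempty (↥M ≃* Equiv.Perm (Fin 4)) ∨ (Nat.card ↥M = 21 ∧ ¬ IsMulCommutative ↥M)) ∧ (∀ M M' : Subgroup G, IsCoatom M → IsCoatom M' → Nat.card ↥M = 21 → Nat.card ↥M' = 21 → ∃ g : G, M' = M.map (MulAut.conj g).toMonoidHom) ∧ ∃ M₁ M₂ : Subgroup G, IsCoatom M₁ ∧ IsCoatom M₂ ∧ Nonempty (↥M₁ ≃* Equiv.Perm (Fin 4)) ∧ Nonempty (↥M₂ ≃* Equiv.Perm (Fin 4)) ∧ (∀ g : G, M₂ ≠ M₁.map (MulAut.conj g).toMonoidHom) ∧ ∀ M : Subgroup G, IsCoatom M → Nonempty (↥M ≃* Equiv.Perm (Fin 4)) → ∃ g : G, M = M₁.map (MulAut.conj g).toMonoidHom ∨ M = M₂.map (MulAut.conj g).toMonoidHom := by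
  exact ⟨part_one h, part_two h, part_three h⟩

end Cfsg.Agent.S1008
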