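import Cfsg.Statements.S1009
import Cfsg.Agent.Lib.Helper17_Sylow

set_option autoImplicit false
open Cfsg

namespace Cfsg.Agent.S1009

open Cfsg.Agent.Lib.Helper17_Sylow Subgroup
open scoped Pointwise

theorem mem_smul_sylow {G : Type*} [Group G] {p : ℕ} (g h : G) (R : Sylow p G) :
    h ∈ ((g • R : Sylow p G) : Subgroup G) ↔ g⁻¹ * h * g ∈ (R : Subgroup G) := by
  have h1 : ((g • R : Sylow p G) : Subgroup G) = MulAut.conj g • (R : Subgroup G) := by
    rw [Sylow.smul_def, Sylow.pointwise_smul_def]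
  rw [h1, Subgroup.mem_pointwise_smul_iff_inv_smul_mem, MulAut.smul_def, MulAut.conj_inv_apply]

/-- Brodkey's Theorem: if a finite group has abelian Sylow p-subgroups, then there are two Sylow p-subgroups whose intersection equals the intersection of all Sylow p-subgroups. -/
theorem result {G : Type*} [Group G] [Finite G] (p : ℕ) [Fact p.Prime] (hab : ∀ P : Sylow p G, IsMulCommutative ↥(P : Subgroup G)) : ∃ P Q : Sylow p G, (P : Subgroup G) ⊓ (Q : Subgroup G) = ⨅ R : Sylow p G, (R : Subgroup G) := by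
  classical
  obtain ⟨⟨P, Q⟩, hmin⟩ := Finite.exists_min
    (fun x : Sylow p G × Sylow p G => Nat.card ((x.1 : Subgroup G) ⊓ (x.2 : Subgroup G) : Subgroup G))
  refine ⟨P, Q, le_antisymm ?_ (le_inf (iInf_le _ P) (iInf_le _ Q))⟩
  rw [le_iInf_iff]
  intro R
  have hcomm : ∀ S : Sylow p G, ∀ a ∈ (S : Subgroup G), ∀ b ∈ (S : Subgroup G), a * b = b * a := by
    intro S a ha b hb
    exact congrArg Subtype.val ((hab S).is_comm.comm ⟨a, ha⟩ ⟨b, hb⟩)
  have hPN : (P : Subgroup G) ≤ normalizer (((P : Subgroup G) ⊓ (Q : Subgroup G) : Subgroup G) : Set G) :=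
    le_normalizer_of_comm _ _ inf_le_left (hcomm P)
  have hQN : (Q : Subgroup G) ≤ normalizer (((P : Subgroup G) ⊓ (Q : Subgroup G) : Subgroup G) : Set G) :=
    le_normalizer_of_comm _ _ inf_le_right (hcomm Q)
  have hU : IsPGroup p (((R : Subgroup G) ⊓
      normalizer (((P : Subgroup G) ⊓ (Q : Subgroup G) : Subgroup G) : Set G)).subgroupOf
      (normalizer (((P : Subgroup G) ⊓ (Q : Subgroup G) : Subgroup G) : Set G))) :=
    (R.2.to_inf_left).comap_subtype
  obtain ⟨S', hS'⟩ := hU.exists_le_sylow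
  obtain ⟨⟨y, hyN⟩, hx⟩ := MulAction.exists_smul_eq
    (normalizer (((P : Subgroup G) ⊓ (Q : Subgroup G) : Subgroup G) : Set G)) (P.subtype hPN) S'
  have key : ∀ g ∈ (R : Subgroup G), g ∈ normalizer (((P : Subgroup G) ⊓ (Q : Subgroup G) : Subgroup G) : Set G) →
      y⁻¹ * g * y ∈ (P : Subgroup G) := by
    intro g hgR hgN
    have h1 : (⟨g, hgN⟩ : normalizer (((P : Subgroup G) ⊓ (Q : Subgroup G) : Subgroup G) : Set G)) ∈
        (S' : Subgroup _) := by
      apply hS'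
      rw [Subgroup.mem_subgroupOf]
      exact ⟨hgR, hgN⟩
    rw [← hx, mem_smul_sylow, Sylow.coe_subtype, Subgroup.mem_subgroupOf] at h1
    exact h1
  clear hx hS' S' hU
  -- the conjugate R' = y⁻¹ R y
  have hR'Q : ((y⁻¹ • R : Sylow p G) : Subgroup G) ⊓ (Q : Subgroup G) ≤
      (P : Subgroup G) ⊓ (Q : Subgroup G) := by
    intro h hh
    obtain ⟨hh1, hh2⟩ := Subgroup.mem_inf.mp hh
    rw [mem_smul_sylow, inv_inv] at hh1
    refine Subgroup.mem_inf.mpr ⟨?_, hh2⟩
    have hhN := hQN hh2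
    have h2 := key _ hh1 (mul_mem (mul_mem hyN hhN) (inv_mem hyN))
    have h3 : y⁻¹ * (y * h * y⁻¹) * y = h := by group
    rwa [h3] at h2
  have hcard := hmin ((y⁻¹ • R : Sylow p G), Q)
  have heq := Subgroup.eq_of_le_of_card_ge hR'Q hcard
  intro d hd
  -- y⁻¹ d y ∈ D
  have hyinv : y⁻¹ ∈ normalizer (((P : Subgroup G) ⊓ (Q : Subgroup G) : Subgroup G) : Set G) :=
    inv_mem hyN
  have h4 : y⁻¹ * d * (y⁻¹)⁻¹ ∈ (P : Subgroup G) ⊓ (Q : Subgroup G) :=
    (Subgroup.mem_normalizer_iff.mp hyinv d).mp hd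
  rw [← heq] at h4
  have h5 := (Subgroup.mem_inf.mp h4).1
  rw [mem_smul_sylow, inv_inv] at h5
  have h6 : y * (y⁻¹ * d * y) * y⁻¹ = d := by group
  rwa [h6] at h5

end Cfsg.Agent.S1009
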