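import Cfsg.Statements.S1010
import Cfsg.Agent.S4343
import Cfsg.Agent.Lib.Helper45_SylowTwoP
import Cfsg.Agent.Lib.Helper45_SylowReduce
import Cfsg.Agent.Lib.Helper45_SylowTransfer
import Mathlib

set_option autoImplicit false
open Cfsg

namespace Cfsg.Agent.S1010

theorem not_isPrimePow_21 : ¬ IsPrimePow 21 := by
  rintro ⟨q, k, hq, hk, hqk⟩
  have hq' : q.Prime := hq.nat_prime
  have h3 : 3 ∣ q ^ k := by rw [hqk]; norm_num
  have h7 : 7 ∣ q ^ k := by rw [hqk]; norm_num
  have e3 := (Nat.prime_dvd_prime_iff_eq (by norm_num) hq').1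
    ((by norm_num : Nat.Prime 3).dvd_of_dvd_pow h3)
  have e7 := (Nat.prime_dvd_prime_iff_eq (by norm_num) hq').1
    ((by norm_num : Nat.Prime 7).dvd_of_dvd_pow h7)
  omega

theorem dvd_21 {d : ℕ} (hd : d ∣ 21) : d = 1 ∨ d = 3 ∨ d = 7 ∨ d = 21 := by
  have h1 : d ∈ Nat.divisors 21 := Nat.mem_divisors.2 ⟨hd, by norm_num⟩
  have h2 : Nat.divisors 21 = {1, 3, 7, 21} := by decide
  rw [h2] at h1
  simpa using h1

/-- No finite group has exactly twenty-one Sylow 5-subgroups. -/
theorem result {G : Type*} [Group G] [Finite G] : Nat.card (Sylow 5 G) ≠ 21 := by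
  intro hn
  have h5 : Fact (Nat.Prime 5) := ⟨by norm_num⟩
  have hpp : ∀ d, d ∣ 21 → IsPrimePow d → d % 5 ≠ 1 := by
    intro d hd hpp
    rcases dvd_21 hd with rfl | rfl | rfl | rfl
    · exact absurd hpp not_isPrimePow_one
    · norm_num
    · norm_num
    · exact absurd hpp not_isPrimePow_21
  have hdiv : ∀ d, d ∣ 21 → d % 5 = 1 → d = 1 ∨ d = 21 := by
    intro d hd hmod
    rcases dvd_21 hd with rfl | rfl | rfl | rfl <;> omega
  obtain ⟨S, iG, iF, hS, hnS⟩ :=
    Cfsg.Agent.Lib.Helper45_SylowReduce.exists_simple_of_card_sylow (G := G) 5 21 hn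
      (by norm_num) hpp hdiv
  -- `S` is not commutative
  have hnc : ¬ IsMulCommutative S := by
    intro hc
    have hcomm : ∀ a b : S, a * b = b * a := fun a b => mul_comm' a b
    have P : Sylow 5 S := default
    have hNorm : (P : Subgroup S).Normal := by
      refine ⟨fun n hn g => ?_⟩
      rw [hcomm g n, mul_inv_cancel_right]
      exact hn
    have hU := Sylow.unique_of_normal P hNorm
    have h1 : Nat.card (Sylow 5 S) = 1 := Nat.card_unique
    rw [hnS] at h1
    norm_num at h1
  -- `5` divides the order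
  have h5S : 5 ∣ Nat.card S := by
    by_contra hnd
    have P : Sylow 5 S := default
    have h1 : Nat.card (P : Subgroup S) = 1 := by
      rw [P.card_eq_multiplicity, Nat.factorization_eq_zero_of_not_dvd hnd, pow_zero]
    have h2 : (P : Subgroup S) = ⊥ := Subgroup.card_eq_one.1 h1
    have hNorm : (P : Subgroup S).Normal := by
      rw [h2]; infer_instance
    have hU := Sylow.unique_of_normal P hNorm
    have h3 : Nat.card (Sylow 5 S) = 1 := Nat.card_unique
    rw [hnS] at h3
    norm_num at h3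
  have hcard : ∀ P : Sylow 5 S, Nat.card (P : Subgroup S) = 5 := by
    intro P
    exact Cfsg.Agent.S4343.result hnc 5 h5S (by rw [hnS]; norm_num) P
  exact Cfsg.Agent.Lib.Helper45_SylowTransfer.card_sylow_five_ne_of_simple hS hcard hnS

end Cfsg.Agent.S1010
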