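import Cfsg.Statements.S1011
import Cfsg.Agent.Lib.Helper9_Order504d
import Cfsg.Agent.S1230
import Cfsg.Agent.Lib.Helper56_MobiusIso

set_option autoImplicit false
open Cfsg

namespace Cfsg.Agent.S1011

/-- A simple group of order 504 is isomorphic to the projective special linear group of dimension 2 over the field with 8 elements. -/
theorem result {G : Type*} [Group G] [Finite G] [IsSimpleGroup G] (h : Nat.card G = 504) {F : Type*} [Field F] [Fintype F] (hF : Fintype.card F = 8) : Nonempty (G ≃* Matrix.ProjectiveSpecialLinearGroup (Fin 2) F) := by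
  classical
  have hcit := Cfsg.Agent.Lib.Helper9_Order504.cit h
  obtain ⟨T⟩ : Nonempty (Sylow 2 G) := inferInstance
  have hT8 : Nat.card (T : Subgroup G) = 8 := Cfsg.Agent.Lib.Helper9_Order504.card_sylow2 h T
  have hnn : ¬ (T : Subgroup G).Normal := by
    intro hn
    rcases hn.eq_bot_or_eq_top with hb | ht
    · rw [hb, Subgroup.card_bot] at hT8; omega
    · rw [ht, Subgroup.card_top, h] at hT8; omega
  have hnc : ¬ IsCyclic (T : Subgroup G) := by
    intro hc
    obtain ⟨g, hg⟩ := IsCyclic.exists_ofOrder_eq_natCard (α := (T : Subgroup G))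
    rw [hT8] at hg
    have hg' : orderOf (g : G) = 8 := by rw [Subgroup.orderOf_coe]; exact hg
    have ht2 : orderOf ((g : G) ^ 4) = 2 := by
      rw [orderOf_pow' (g : G) (by norm_num : (4 : ℕ) ≠ 0), hg']
      norm_num
    have hmem : (g : G) ∈ Subgroup.centralizer ({(g : G) ^ 4} : Set G) := by
      rw [Subgroup.mem_centralizer_iff]
      intro b hb
      rw [Set.mem_singleton_iff] at hb
      subst hb
      rw [← pow_succ, ← pow_succ']
    have hsq := (hcit _ ht2).2 _ hmem
    have := orderOf_dvd_of_pow_eq_one hsq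
    rw [hg'] at this
    revert this; decide
  obtain ⟨F₀, hF₀, hFin₀, hcard₀, ⟨e⟩⟩ := Cfsg.Agent.S1230.result T hnc hnn hcit
  have hcard : Fintype.card F₀ = Fintype.card F := by rw [hcard₀, hF, hT8]
  obtain ⟨e'⟩ := Cfsg.Agent.Lib.Helper56_MobiusIso.psl_congr
    (FiniteField.ringEquivOfCardEq (K := F₀) (K' := F) hcard)
  exact ⟨e.trans e'⟩

end Cfsg.Agent.S1011
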