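import Cfsg.Statements.S1012
import Cfsg.Agent.Lib.Helper17_Sylow

set_option autoImplicit false
open Cfsg

namespace Cfsg.Agent.S1012

open Cfsg.Agent.Lib.Helper17_Sylow Subgroup

theorem no_commuting {G : Type*} [Group G] (h6 : ∀ g : G, orderOf g ≠ 6) (t x : G)
    (ht : orderOf t = 2) (hx : orderOf x = 3) (hc : Commute t x) : False := by
  apply h6 (t * x)
  rw [hc.orderOf_mul_eq_mul_orderOf_of_coprime (by rw [ht, hx]; norm_num), ht, hx]

/-- A group of order 24 containing no element of order 6 is isomorphic to the symmetric group of degree 4. -/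
theorem result {G : Type*} [Group G] [Finite G] (h : Nat.card G = 24) (h6 : ∀ g : G, orderOf g ≠ 6) : Nonempty (G ≃* Equiv.Perm (Fin 4)) := by
  classical
  have : Fact (Nat.Prime 3) := ⟨by norm_num⟩
  have : Fact (Nat.Prime 2) := ⟨by norm_num⟩
  have hG : Nat.card G = 3 ^ 1 * 8 := by rw [h]; norm_num
  have hm : ¬ 3 ∣ 8 := by norm_num
  have hQcard : ∀ Q : Sylow 3 G, Nat.card (Q : Subgroup G) = 3 := by
    intro Q
    have := card_sylow_eq_pow hG hm Q
    rwa [pow_one] at this
  obtain ⟨Q⟩ : Nonempty (Sylow 3 G) := inferInstance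
  -- an element of order 3 in Q
  obtain ⟨x, hx⟩ := exists_prime_orderOf_dvd_card' (G := (Q : Subgroup G)) 3 (by rw [hQcard Q])
  have hxo : orderOf (x : G) = 3 := by rw [Subgroup.orderOf_coe]; exact hx
  have hmem := card_sylow_mem_candidates hG hm
  have hc : sylowCandidates 3 8 = [1, 4] := by decide
  rw [hc] at hmem
  simp only [List.mem_cons, List.not_mem_nil, or_false] at hmem
  rcases hmem with h1 | h4
  · -- Q normal: an involution centralizes it
    exfalso
    have hsub : Subsingleton (Sylow 3 G) := (Nat.card_eq_one_iff_unique.mp h1).1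
    have hQn : (Q : Subgroup G).Normal := Sylow.normal_of_subsingleton Q
    have hNC := relIndex_centralizer_normalizer_dvd_pred (Q : Subgroup G) (hQcard Q)
    rw [Subgroup.normalizer_eq_top, Subgroup.relIndex_top_right] at hNC
    have hcm := Subgroup.card_mul_index (centralizer ((Q : Subgroup G) : Set G))
    rw [h] at hcm
    have h2dvd : 2 ∣ Nat.card (centralizer ((Q : Subgroup G) : Set G)) := by
      have hle := Nat.le_of_dvd (by norm_num) hNC
      have hpos : 0 < (centralizer ((Q : Subgroup G) : Set G)).index :=
        Nat.pos_of_ne_zero Subgroup.index_ne_zero_of_finite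
      interval_cases hi : (centralizer ((Q : Subgroup G) : Set G)).index
      · exact ⟨12, by omega⟩
      · exact ⟨6, by omega⟩
    obtain ⟨t, ht⟩ := exists_prime_orderOf_dvd_card' 2 h2dvd
    have hto : orderOf (t : G) = 2 := by rw [Subgroup.orderOf_coe]; exact ht
    have hcomm : Commute (t : G) (x : G) := by
      have := (Subgroup.mem_centralizer_iff.mp t.2) (x : G) x.2
      exact this.symm
    exact no_commuting h6 _ _ hto hxo hcomm
  · -- four Sylow 3-subgroups: the action on the cosets of N(Q) is faithful
    have hN := card_normalizer_mul_card_sylow Q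
    rw [h4, h] at hN
    have hN6 : Nat.card (normalizer ((Q : Subgroup G) : Set G)) = 6 := by omega
    have hidx : (normalizer ((Q : Subgroup G) : Set G)).index = 4 := by
      rw [← card_sylow_eq_index Q, h4]
    have hKle := Subgroup.normalCore_le (normalizer ((Q : Subgroup G) : Set G))
    have hKn : (normalizer ((Q : Subgroup G) : Set G)).normalCore.Normal :=
      Subgroup.normalCore_normal _
    have hKdvd : Nat.card (normalizer ((Q : Subgroup G) : Set G)).normalCore ∣ 6 := by
      rw [← hN6]; exact Subgroup.card_dvd_of_le hKle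
    -- 3 does not divide |K|
    have h3 : ¬ 3 ∣ Nat.card (normalizer ((Q : Subgroup G) : Set G)).normalCore := by
      intro hd
      obtain ⟨y, hy⟩ := exists_prime_orderOf_dvd_card' 3 hd
      have hyo : orderOf (y : G) = 3 := by rw [Subgroup.orderOf_coe]; exact hy
      obtain ⟨Q', hQ'⟩ := exists_sylow_eq_zpowers hQcard (y : G) hyo
      have hQ'K : (Q' : Subgroup G) ≤ (normalizer ((Q : Subgroup G) : Set G)).normalCore := by
        rw [hQ', zpowers_le]; exact y.2
      have hall : ∀ R : Sylow 3 G, (R : Subgroup G) ≤ normalizer ((Q : Subgroup G) : Set G) :=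
        fun R => (sylow_le_of_normal _ Q' R hQ'K).trans hKle
      have hnt : Nontrivial (Sylow 3 G) := by
        rw [← Finite.one_lt_card_iff_nontrivial, h4]; norm_num
      obtain ⟨R, hR⟩ := exists_ne Q
      obtain ⟨n, hn1, -, hn3⟩ := succ_mul_card_sylow_le_card Q R hR.symm _ (hall Q) (hall R)
      rw [hQcard Q, hN6] at hn3
      have := Nat.le_of_dvd (by norm_num) hn3
      omega
    have hK12 : Nat.card (normalizer ((Q : Subgroup G) : Set G)).normalCore = 1 ∨
        Nat.card (normalizer ((Q : Subgroup G) : Set G)).normalCore = 2 := by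
      have hle := Nat.le_of_dvd (by norm_num) hKdvd
      have hpos : 0 < Nat.card (normalizer ((Q : Subgroup G) : Set G)).normalCore := Nat.card_pos
      interval_cases hk : Nat.card (normalizer ((Q : Subgroup G) : Set G)).normalCore
      · left; rfl
      · right; rfl
      · exact absurd (dvd_refl 3) h3
      · norm_num at hKdvd
      · norm_num at hKdvd
      · exact absurd (⟨2, rfl⟩ : 3 ∣ 6) h3
    have hKbot : (normalizer ((Q : Subgroup G) : Set G)).normalCore = ⊥ := by
      rcases hK12 with h1 | h2
      · exact Subgroup.card_eq_one.mp h1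
      · exfalso
        obtain ⟨t, ht⟩ := exists_prime_orderOf_dvd_card' 2 (by rw [h2] :
          2 ∣ Nat.card (normalizer ((Q : Subgroup G) : Set G)).normalCore)
        have hto : orderOf (t : G) = 2 := by rw [Subgroup.orderOf_coe]; exact ht
        have hcomm := commute_of_normal_of_card_eq_two _ h2 (t : G) t.2 (x : G)
        exact no_commuting h6 _ _ hto hxo hcomm.symm
    have hinj : Function.Injective (MulAction.toPermHom G (G ⧸ normalizer ((Q : Subgroup G) : Set G))) := by
      rw [← MonoidHom.ker_eq_bot_iff, ← Subgroup.normalCore_eq_ker]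
      exact hKbot
    have hcardq : Nat.card (G ⧸ normalizer ((Q : Subgroup G) : Set G)) = 4 := by
      rw [← Subgroup.index_eq_card, hidx]
    have hfin : Finite (G ⧸ normalizer ((Q : Subgroup G) : Set G)) :=
      Nat.finite_of_card_ne_zero (by rw [hcardq]; norm_num)
    have hbij : Function.Bijective (MulAction.toPermHom G (G ⧸ normalizer ((Q : Subgroup G) : Set G))) := by
      rw [Nat.bijective_iff_injective_and_card]
      refine ⟨hinj, ?_⟩
      rw [h, Nat.card_perm, hcardq]
      rfl
    have e1 : G ≃* Equiv.Perm (G ⧸ normalizer ((Q : Subgroup G) : Set G)) :=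
      MulEquiv.ofBijective _ hbij
    have e2 : (G ⧸ normalizer ((Q : Subgroup G) : Set G)) ≃ Fin 4 :=
      Finite.equivFinOfCardEq hcardq
    exact ⟨e1.trans e2.permCongrHom⟩

end Cfsg.Agent.S1012
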