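import Cfsg.Statements.S1014
import Cfsg.Agent.Lib.Helper17_SylowPerm

set_option autoImplicit false
open Cfsg

namespace Cfsg.Agent.S1014

open Cfsg.Agent.Lib.Helper17_Sylow Cfsg.Agent.Lib.Helper17_SylowPerm Subgroup

/-- No finite simple group has order 1104 = 2^4 * 3 * 23. -/
theorem result {G : Type*} [Group G] [Finite G] [IsSimpleGroup G] : Nat.card G ≠ 1104 := by
  intro h
  have : Fact (Nat.Prime 23) := ⟨by norm_num⟩
  have hG : Nat.card G = 23 ^ 1 * 48 := by rw [h]; norm_num
  have hm : ¬ 23 ∣ 48 := by norm_num
  have hna : ¬ IsMulCommutative G := not_isMulCommutative_of_not_prime (by rw [h]; norm_num)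
  have hmem := card_sylow_mem_candidates hG hm
  have hlt := one_lt_card_sylow_of_card hG hm (by norm_num) (by norm_num)
  have hc : sylowCandidates 23 48 = [1, 24] := by decide
  rw [hc] at hmem
  simp only [List.mem_cons, List.not_mem_nil, or_false] at hmem
  rcases hmem with h1 | h1
  · omega
  · obtain ⟨P⟩ : Nonempty (Sylow 23 G) := inferInstance
    have hP : Nat.card (P : Subgroup G) = 23 := by
      have := card_sylow_eq_pow hG hm P
      rwa [pow_one] at this
    have hidx : (normalizer ((P : Subgroup G) : Set G)).index = 24 := by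
      rw [← card_sylow_eq_index P, h1]
    have hNtop := normalizer_sylow_ne_top P hlt
    have hdvd := two_mul_card_normalizer_dvd hna _ hNtop 23 (by norm_num) (Or.inr hidx) P hP
    have hN := card_normalizer_mul_card_sylow P
    rw [h1, h] at hN
    have hN' : Nat.card (normalizer ((P : Subgroup G) : Set G)) = 46 := by omega
    rw [hN'] at hdvd
    revert hdvd
    decide

end Cfsg.Agent.S1014
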