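import Cfsg.Statements.S1015
import Cfsg.Agent.Lib.Helper17_Sylow

set_option autoImplicit false
open Cfsg

namespace Cfsg.Agent.S1015

open Cfsg.Agent.Lib.Helper17_Sylow Subgroup

/-- No finite simple group has order 1200 = 2^4 * 3 * 5^2. -/
theorem result {G : Type*} [Group G] [Finite G] [IsSimpleGroup G] : Nat.card G ≠ 1200 := by
  intro h
  have : Fact (Nat.Prime 5) := ⟨by norm_num⟩
  have hG : Nat.card G = 5 ^ 2 * 48 := by rw [h]; norm_num
  have hm : ¬ 5 ∣ 48 := by norm_num
  have hmem := card_sylow_mem_candidates hG hm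
  have hlt := one_lt_card_sylow_of_card hG hm (by norm_num) (by norm_num)
  have hfact := card_dvd_factorial_card_sylow hlt
  have hc : sylowCandidates 5 48 = [1, 6, 16] := by decide
  rw [hc] at hmem
  simp only [List.mem_cons, List.not_mem_nil, or_false] at hmem
  rcases hmem with h1 | h1 | h1
  · omega
  · rw [h1, h] at hfact
    revert hfact
    decide
  · obtain ⟨P⟩ : Nonempty (Sylow 5 G) := inferInstance
    have hnmod : ¬ Nat.card (Sylow 5 G) ≡ 1 [MOD 5 ^ 2] := by
      rw [h1]; decide
    obtain ⟨R, hRP, hle⟩ := exists_sylow_relIndex_le 5 2 hnmod P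
    have hPc := card_sylow_eq_pow hG hm P
    have hRc := card_sylow_eq_pow hG hm R
    have hDP : ((P : Subgroup G) ⊓ (R : Subgroup G)).relIndex (P : Subgroup G)
        = (R : Subgroup G).relIndex (P : Subgroup G) := Subgroup.inf_relIndex_left _ _
    have hcard := card_mul_relIndex_of_le
      (inf_le_left : (P : Subgroup G) ⊓ (R : Subgroup G) ≤ (P : Subgroup G))
    rw [hDP, hPc] at hcard
    have hPcomm := (IsPGroup.isMulCommutative_of_card_eq_prime_sq hPc).is_comm.comm
    have hRcomm := (IsPGroup.isMulCommutative_of_card_eq_prime_sq hRc).is_comm.comm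
    have hPN : (P : Subgroup G) ≤ normalizer (((P : Subgroup G) ⊓ (R : Subgroup G) : Subgroup G) : Set G) := by
      apply le_normalizer_of_comm _ _ inf_le_left
      intro a ha b hb
      exact congrArg Subtype.val (hPcomm ⟨a, ha⟩ ⟨b, hb⟩)
    have hRN : (R : Subgroup G) ≤ normalizer (((P : Subgroup G) ⊓ (R : Subgroup G) : Subgroup G) : Set G) := by
      apply le_normalizer_of_comm _ _ inf_le_right
      intro a ha b hb
      exact congrArg Subtype.val (hRcomm ⟨a, ha⟩ ⟨b, hb⟩)
    obtain ⟨n, hn1, hn2, hn3⟩ := succ_mul_card_sylow_le_card P R hRP.symm _ hPN hRN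
    have hNtop : normalizer (((P : Subgroup G) ⊓ (R : Subgroup G) : Subgroup G) : Set G) ≠ ⊤ := by
      intro htop
      have hDn : ((P : Subgroup G) ⊓ (R : Subgroup G)).Normal := Subgroup.normalizer_eq_top_iff.mp htop
      rcases hDn.eq_bot_or_eq_top with hD | hD
      · rw [hD, Subgroup.card_bot] at hcard
        norm_num at hcard
        omega
      · have : (P : Subgroup G) = ⊤ := top_le_iff.mp (hD ▸ inf_le_left)
        rw [this, Subgroup.card_top, h] at hPc
        norm_num at hPc
    have hidx := index_gt_of_not_dvd_factorial _ hNtop 9 (by rw [h]; decide)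
    have hci := Subgroup.card_mul_index (normalizer (((P : Subgroup G) ⊓ (R : Subgroup G) : Subgroup G) : Set G))
    rw [h] at hci
    rw [hPc] at hn3
    have hpos : 0 < Nat.card (normalizer (((P : Subgroup G) ⊓ (R : Subgroup G) : Subgroup G) : Set G)) := Nat.card_pos
    have h150 := Nat.le_of_dvd hpos hn3
    nlinarith

end Cfsg.Agent.S1015
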