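import Cfsg.Statements.S1016
import Cfsg.Agent.Lib.Helper17_Sylow
import Cfsg.Agent.Lib.Helper45_Order1440

set_option autoImplicit false
open Cfsg

namespace Cfsg.Agent.S1016

open Cfsg.Agent.Lib.Helper17_Sylow Cfsg.Agent.Lib.Helper45_Order1440 Subgroup

/-- No finite simple group has order 1440 = 2^5 * 3^2 * 5. -/
theorem result {G : Type*} [Group G] [Finite G] [IsSimpleGroup G] : Nat.card G ≠ 1440 := by
  intro h
  have hS : IsSimpleGroup G := inferInstance
  have : Fact (Nat.Prime 5) := ⟨by norm_num⟩
  have hG : Nat.card G = 5 ^ 1 * 288 := by rw [h]; norm_num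
  have hm : ¬ 5 ∣ 288 := by norm_num
  have hna : ¬ IsMulCommutative G := not_isMulCommutative_of_not_prime (by rw [h]; norm_num)
  have hmem := card_sylow_mem_candidates hG hm
  have hlt := one_lt_card_sylow_of_card hG hm (by norm_num) (by norm_num)
  have hc : sylowCandidates 5 288 = [1, 6, 16, 36, 96] := by decide
  rw [hc] at hmem
  simp only [List.mem_cons, List.not_mem_nil, or_false] at hmem
  rcases hmem with h1 | h1 | h1 | h1 | h1
  · omega
  · have h2 := two_mul_card_dvd_factorial_card_sylow hna hlt
    rw [h1, h] at h2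
    revert h2
    decide
  · exact false_of_card_sylow_sixteen hS h h1
  · exact false_of_card_sylow_thirtysix hS h h1
  · have h2 := not_coprime_of_simple hG hm (by norm_num)
    rw [h1] at h2
    apply h2
    decide

end Cfsg.Agent.S1016
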