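import Cfsg.Statements.S1017
import Cfsg.Agent.Lib.Helper17_Sylow
import Cfsg.Agent.Lib.Helper45_Order2016

set_option autoImplicit false
open Cfsg

namespace Cfsg.Agent.S1017

open Cfsg.Agent.Lib.Helper17_Sylow Cfsg.Agent.Lib.Helper45_Order2016 Subgroup

/-- No finite simple group has order 2016 = 2^5 * 3^2 * 7. -/
theorem result {G : Type*} [Group G] [Finite G] [IsSimpleGroup G] : Nat.card G ≠ 2016 := by
  intro h
  have hS : IsSimpleGroup G := inferInstance
  have : Fact (Nat.Prime 7) := ⟨by norm_num⟩
  have hG : Nat.card G = 7 ^ 1 * 288 := by rw [h]; norm_num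
  have hm : ¬ 7 ∣ 288 := by norm_num
  have hmem := card_sylow_mem_candidates hG hm
  have hlt := one_lt_card_sylow_of_card hG hm (by norm_num) (by norm_num)
  have hc : sylowCandidates 7 288 = [1, 8, 36, 288] := by decide
  rw [hc] at hmem
  simp only [List.mem_cons, List.not_mem_nil, or_false] at hmem
  rcases hmem with h1 | h1 | h1 | h1
  · omega
  · exact false_of_card_sylow_eight hS h h1
  · exact false_of_card_sylow_thirtysix hS h h1
  · have h2 := not_coprime_of_simple hG hm (by norm_num)
    rw [h1] at h2
    apply h2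
    decide

end Cfsg.Agent.S1017
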