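import Cfsg.Statements.S1022
import Cfsg.Agent.Lib.Helper17_Sylow
import Cfsg.Agent.Lib.Helper3_CharColumn
import Cfsg.Agent.Lib.Helper74_CharTools
import Cfsg.Agent.Lib.Helper84_N19_CASE96
import Cfsg.Agent.Lib.Helper84_N19_BRFIN
import Cfsg.Agent.Lib.Helper11_N19_BRX
import Cfsg.Agent.Lib.Helper8_N19_CENT
import Cfsg.Agent.Lib.Helper10_N19_MULT

set_option autoImplicit false
open Cfsg

namespace Cfsg.Agent.S1022

open Cfsg.Agent.Lib.Helper80_CharBasic Cfsg.Agent.Lib.Helper17_Sylow
open scoped ComplexConjugate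

/-- No finite simple group has order 459648 = 2^7 * 3^3 * 7 * 19. -/
theorem result {G : Type*} [Group G] [Finite G] [IsSimpleGroup G] : Nat.card G ≠ 459648 := by
  classical
  intro hG
  have hfact : Fact (Nat.Prime 19) := ⟨by norm_num⟩
  let _ : Fintype G := Fintype.ofFinite G
  have hG' : Nat.card G = 19 ^ 1 * 24192 := by rw [hG]; norm_num
  have hm : ¬ 19 ∣ 24192 := by norm_num
  obtain ⟨P⟩ : Nonempty (Sylow 19 G) := inferInstance
  have hP : Nat.card (P : Subgroup G) = 19 := by
    have := card_sylow_eq_pow hG' hm P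
    simpa using this
  -- the number of Sylow 19-subgroups
  have hmem := card_sylow_mem_candidates hG' hm
  have hcand : sylowCandidates 19 24192 = [1, 96, 1008] := by decide +kernel
  rw [hcand] at hmem
  have hgt : 1 < Nat.card (Sylow 19 G) :=
    one_lt_card_sylow_of_card hG' hm (by norm_num) (by norm_num)
  have hNn := card_normalizer_mul_card_sylow P
  rw [hG] at hNn
  set N := Subgroup.normalizer ((P : Subgroup G) : Set G) with hNdef
  set C := Subgroup.centralizer ((P : Subgroup G) : Set G) with hCdef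
  have hCN : C ≤ N := Subgroup.centralizer_le_normalizer _
  -- e divides 18 and e ≠ 1
  have he18 : C.relIndex N ∣ 18 := by
    exact relIndex_centralizer_normalizer_dvd_pred (p := 19) (P : Subgroup G) hP
  have he1 : C.relIndex N ≠ 1 := by
    intro h1
    have hle : N ≤ C := Subgroup.relIndex_eq_one.mp h1
    rcases sylow_eq_bot_or_top_of_normalizer_le_centralizer P hle with h | h
    · rw [h, Subgroup.card_bot] at hP
      omega
    · rw [h, Subgroup.card_top, hG] at hP
      omega
  have hcardCN := card_mul_relIndex_of_le hCN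
  simp only [List.mem_cons, List.mem_nil_iff, or_false] at hmem
  rcases hmem with h | h | h
  · omega
  · -- `n_19 = 96`
    rw [h] at hNn
    have hN : Nat.card N = 4788 := by omega
    exact Cfsg.Agent.Lib.Helper84_N19_CASE96.case_96 hG P hP hN he1
  · -- `n_19 = 1008`
    rw [h] at hNn
    have hN : Nat.card N = 456 := by omega
    -- `19 ∣ |C|`
    have hPC : (P : Subgroup G) ≤ C := by
      have hcyc : IsCyclic (P : Subgroup G) := isCyclic_of_prime_card hP
      exact le_centralizer_of_isCyclic (P : Subgroup G)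
    have h19C : 19 ∣ Nat.card C := hP ▸ Subgroup.card_dvd_of_le hPC
    rw [hN] at hcardCN
    obtain ⟨e, hedef⟩ : ∃ e, C.relIndex N = e := ⟨_, rfl⟩
    rw [hedef] at hcardCN he18 he1
    obtain ⟨c, hc⟩ := h19C
    have he24 : e ∣ 24 := by
      have : c * e = 24 := by
        rw [hc] at hcardCN
        have : 19 * (c * e) = 19 * 24 := by rw [← mul_assoc]; omega
        exact Nat.eq_of_mul_eq_mul_left (by norm_num) this
      exact Dvd.intro_left _ this
    have he6 : e ∣ 6 := by
      have := Nat.dvd_gcd he18 he24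
      simpa using this
    have hecases : e = 2 ∨ e = 3 ∨ e = 6 := by
      have hle : e ≤ 6 := Nat.le_of_dvd (by norm_num) he6
      interval_cases e <;> omega
    obtain ⟨X, εX, D, ε, h1X, hXcard, hε1, hXdeg, hXloc, hD, hε, hsum⟩ :=
      Cfsg.Agent.Lib.Helper11_N19_BRX.brauer_X hG P hP e hedef hecases
    have hd1 : Cfsg.charDegree ((oneIrr G : Cfsg.IrrCharacter G) : G → ℂ) = 1 := by
      have h1 := Cfsg.Agent.Lib.Helper77_BlockBasics.apply_one_eq_charDegree (oneIrr G)
      have h2 : ((oneIrr G : Cfsg.IrrCharacter G) : G → ℂ) 1 = 1 := rfl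
      rw [h2] at h1
      exact_mod_cast h1.symm
    obtain ⟨he6', χ₁, hχ₁X, χ₂, hχ₂X, hne, hχ₁1, hχ₂1, hχ₁d, hχ₂d⟩ :=
      Cfsg.Agent.Lib.Helper84_N19_BRFIN.brauer_fin X (oneIrr G)
        (fun χ => Cfsg.charDegree (χ : G → ℂ)) εX D ε e hecases h1X hXcard hε1 hd1 hXdeg hD hε hsum
    have hC : Nat.card C = 76 := by
      rw [he6'] at hcardCN
      omega
    obtain ⟨y, hyC, hy2, hycent⟩ :=
      Cfsg.Agent.Lib.Helper8_N19_CENT.exists_invol_small_cent hG P hP hN hC
    -- a generator of `P`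
    have hPnt : Nontrivial (P : Subgroup G) := by
      have : 1 < Nat.card (P : Subgroup G) := by omega
      exact Finite.one_lt_card_iff_nontrivial.mp this
    obtain ⟨⟨x, hx⟩, hx1'⟩ := exists_ne (1 : (P : Subgroup G))
    have hx1 : x ≠ 1 := fun h => hx1' (Subtype.ext h)
    have hxo : orderOf x = 19 := by
      have h1 : orderOf x ∣ 19 := by
        have := Subgroup.orderOf_dvd_natCard (P : Subgroup G) hx
        rwa [hP] at this
      rcases (Nat.dvd_prime (Fact.out : Nat.Prime 19)).mp h1 with h | h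
      · exact absurd (orderOf_eq_one_iff.mp h) hx1
      · exact h
    have hxy : Commute x y := by
      have := hyC x hx
      exact this
    have hpow : ∀ k : ℕ, ¬ 19 ∣ k → x ^ k ∈ (P : Subgroup G) ∧ x ^ k ≠ 1 := by
      intro k hk
      refine ⟨Subgroup.pow_mem _ hx k, ?_⟩
      intro h
      apply hk
      rw [← hxo]
      exact orderOf_dvd_of_pow_eq_one h
    have hy19 : ¬ 19 ∣ orderOf y := by rw [hy2]; norm_num
    have h119 : ¬ 19 ∣ orderOf (1 : G) := by rw [orderOf_one]; norm_num
    have hlower : ∀ χ ∈ X, χ ≠ oneIrr G → Cfsg.charDegree (χ : G → ℂ) ≠ 189 →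
        (324 : ℝ) ≤ ‖(χ : G → ℂ) y‖ ^ 2 := by
      intro χ hχX hχ1 hχd
      refine Cfsg.Agent.Lib.Helper10_N19_MULT.invol_lower χ hχ1 x y hxo hy2 hxy (εX χ) ?_ ?_ ?_
      · intro k hk
        have := hXloc χ hχX (x ^ k) (hpow k hk).1 (hpow k hk).2 1 (Subgroup.one_mem _) h119
        rwa [mul_one] at this
      · intro k hk
        exact hXloc χ hχX (x ^ k) (hpow k hk).1 (hpow k hk).2 y hyC hy19
      · rcases hXdeg χ hχX hχ1 with ⟨h96, -⟩ | ⟨h | h | h, -⟩
        · exact Or.inr (Or.inr h96)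
        · exact Or.inl h
        · exact Or.inr (Or.inl h)
        · exact absurd h hχd
    have hl1 := hlower χ₁ hχ₁X hχ₁1 hχ₁d
    have hl2 := hlower χ₂ hχ₂X hχ₂1 hχ₂d
    -- column orthogonality at `y`
    have hcol := Cfsg.Agent.Lib.Helper3_CharColumn.column_orthogonality_self y
    have hcolR : ∑ χ : Cfsg.IrrCharacter G, ‖(χ : G → ℂ) y‖ ^ 2 =
        (Nat.card (Subgroup.centralizer ({y} : Set G)) : ℝ) := by
      have h2 : ((∑ χ : Cfsg.IrrCharacter G, ‖(χ : G → ℂ) y‖ ^ 2 : ℝ) : ℂ) =
          ((Nat.card (Subgroup.centralizer ({y} : Set G)) : ℝ) : ℂ) := by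
        push_cast
        rw [← hcol]
        refine Finset.sum_congr rfl fun χ _ => ?_
        rw [Complex.mul_conj, Complex.normSq_eq_norm_sq]
        push_cast
        rfl
      exact_mod_cast h2
    have hone : ‖((oneIrr G : Cfsg.IrrCharacter G) : G → ℂ) y‖ ^ 2 = 1 := by
      have h2 : ((oneIrr G : Cfsg.IrrCharacter G) : G → ℂ) y = 1 := rfl
      rw [h2]; simp
    have hsub : ∑ χ ∈ ({oneIrr G, χ₁, χ₂} : Finset (Cfsg.IrrCharacter G)), ‖(χ : G → ℂ) y‖ ^ 2 ≤
        ∑ χ : Cfsg.IrrCharacter G, ‖(χ : G → ℂ) y‖ ^ 2 :=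
      Finset.sum_le_sum_of_subset_of_nonneg (Finset.subset_univ _) (fun _ _ _ => by positivity)
    rw [Finset.sum_insert (by
        simp only [Finset.mem_insert, Finset.mem_singleton, not_or]
        exact ⟨fun h => hχ₁1 h.symm, fun h => hχ₂1 h.symm⟩),
      Finset.sum_insert (by simpa using hne), Finset.sum_singleton, hone, hcolR] at hsub
    have hcentR : (Nat.card (Subgroup.centralizer ({y} : Set G)) : ℝ) ≤ 456 := by
      exact_mod_cast hycent
    linarith

end Cfsg.Agent.S1022
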