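import Cfsg.Statements.S1057
import Cfsg.Agent.Lib.Helper61_G22Group
import Cfsg.Agent.Lib.Helper61_ChevTransfer
import Cfsg.Agent.Lib.Helper61_SU33Spec

set_option autoImplicit false
open Cfsg

namespace Cfsg.Agent.S1057

open Cfsg.Lie Cfsg.Agent.Lib.Helper61_F9 Cfsg.Agent.Lib.Helper61_G22Group
  Cfsg.Agent.Lib.Helper61_SU33Spec Cfsg.Agent.Lib.Helper61_ChevTransfer

/-- Isomorphic groups have isomorphic commutator subgroups. -/
noncomputable def commutatorCongr {G G' : Type*} [Group G] [Group G'] (e : G ≃* G') :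
    ↥(commutator G) ≃* ↥(commutator G') :=
  (e.subgroupMap (commutator G)).trans (MulEquiv.subgroupCongr (by
    rw [commutator_def, commutator_def, Subgroup.map_commutator,
      Subgroup.map_top_of_surjective _ e.surjective]))

/-- G₂(2)′ ≅ PSU₃(3). -/
theorem result {F K : Type*} [Field F] [Fintype F] [Field K] [Fintype K] (hF : Fintype.card F = 2) (hK : Fintype.card K = 9) :
    Nonempty (↥(commutator ↥(Cfsg.Lie.chevG2.group F)) ≃* Cfsg.PSU 3 K 3) := by
  have e : F ≃+* ZMod 2 := (ZMod.ringEquivOfPrime F Nat.prime_two hF).symm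
  have e1 : ↥(chevG2.group F) ≃* ↥G2 := groupEquiv chevG2 e
  have e2 : ↥(commutator ↥(chevG2.group F)) ≃* ↥(commutator ↥G2) := commutatorCongr e1
  obtain ⟨e3⟩ := exists_main
  have e9 : K ≃+* F9 := ringEquivF9 hK
  have e4 : Cfsg.PSU 3 K 3 ≃* Cfsg.PSU 3 F9 3 := Cfsg.Agent.Lib.Helper61_SUTransfer.psuEquiv e9
  have e5 : Cfsg.PSU 3 F9 3 ≃* ↥(Cfsg.SU 3 F9 3) :=
    (QuotientGroup.quotientMulEquivOfEq center_SU).trans QuotientGroup.quotientBot
  exact ⟨e2.trans (commEquiv.trans (e3.trans (e5.symm.trans e4.symm)))⟩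

end Cfsg.Agent.S1057
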