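import Cfsg.Statements.S1058
import Cfsg.Agent.Lib.Helper61_ChevTransfer
import Cfsg.Agent.Lib.Helper61_B2Table

set_option autoImplicit false
open Cfsg

namespace Cfsg.Agent.S1058

open Matrix Cfsg.Lie Cfsg.Agent.Lib.Helper61_B2Table Cfsg.Agent.Lib.Helper61_ChevTransfer

theorem closure_s : Submonoid.closure (Set.range s) = ⊤ :=
  Equiv.Perm.mclosure_swap_castSucc_succ 5

theorem Φmat_mul (σ τ : Equiv.Perm (Fin 6)) : Φmat (σ * τ) = Φmat σ * Φmat τ := by
  have hτ : τ ∈ Submonoid.closure (Set.range s) := by rw [closure_s]; trivial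
  revert σ
  induction hτ using Submonoid.closure_induction with
  | mem x hx =>
    obtain ⟨i, rfl⟩ := hx
    intro σ
    rw [Φmat_mul_s, Φmat_s]
  | one => intro σ; rw [mul_one, Φmat_one, mul_one]
  | mul x y _ _ hx hy =>
    intro σ
    rw [← mul_assoc, hy (σ * x), hx σ, hy x, mul_assoc]

/-- The table map as a monoid homomorphism into matrices. -/
def ΦM : Equiv.Perm (Fin 6) →* Matrix Idx Idx (ZMod 2) where
  toFun := Φmat
  map_one' := Φmat_one
  map_mul' := Φmat_mul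

/-- The table map as a homomorphism into `GL`. -/
def Φ : Equiv.Perm (Fin 6) →* GL Idx (ZMod 2) := ΦM.toHomUnits

theorem Φ_val (σ : Equiv.Perm (Fin 6)) :
    ((Φ σ : GL Idx (ZMod 2)) : Matrix Idx Idx (ZMod 2)) = Φmat σ := rfl

/-- The Chevalley group, with the index type written out. -/
def B2 : Subgroup (GL Idx (ZMod 2)) := chevB2.group (ZMod 2)

theorem B2_eq : B2 = Subgroup.closure {g : GL Idx (ZMod 2) | ∃ (r : Fin 8) (t : ZMod 2),
    (g : Matrix Idx Idx (ZMod 2)) = (chevB2.xMat (ZMod 2) r t : Matrix Idx Idx (ZMod 2))} := rfl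

/-- A permutation from the lists of its values and of the values of its inverse. -/
def mkPerm (f g : Fin 6 → Fin 6) (h1 : ∀ x, g (f x) = x) (h2 : ∀ x, f (g x) = x) :
    Equiv.Perm (Fin 6) := ⟨f, g, h1, h2⟩

/-- Preimages of the root elements `x_r(1)`. -/
def rootPerm : Fin 8 → Equiv.Perm (Fin 6)
  | 0 => mkPerm ![1, 0, 2, 3, 4, 5] ![1, 0, 2, 3, 4, 5] (by decide) (by decide)
  | 1 => mkPerm ![1, 0, 5, 4, 3, 2] ![1, 0, 5, 4, 3, 2] (by decide) (by decide)
  | 2 => mkPerm ![1, 0, 3, 2, 5, 4] ![1, 0, 3, 2, 5, 4] (by decide) (by decide)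
  | 3 => mkPerm ![0, 1, 2, 4, 3, 5] ![0, 1, 2, 4, 3, 5] (by decide) (by decide)
  | 4 => mkPerm ![0, 1, 2, 3, 5, 4] ![0, 1, 2, 3, 5, 4] (by decide) (by decide)
  | 5 => mkPerm ![5, 2, 1, 4, 3, 0] ![5, 2, 1, 4, 3, 0] (by decide) (by decide)
  | 6 => mkPerm ![3, 2, 1, 0, 5, 4] ![3, 2, 1, 0, 5, 4] (by decide) (by decide)
  | 7 => mkPerm ![0, 2, 1, 3, 4, 5] ![0, 2, 1, 3, 4, 5] (by decide) (by decide)

/-- The root matrices `x_r(1)`. -/
def X (r : Fin 8) : Matrix Idx Idx (ZMod 2) := chevB2.xMat (ZMod 2) r 1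

set_option maxRecDepth 100000 in
theorem xroot : ∀ r : Fin 8, X r = Φmat (rootPerm r) := by decide +kernel

set_option maxRecDepth 100000 in
theorem xzero : ∀ r : Fin 8, (chevB2.xMat (ZMod 2) r 0 : Matrix Idx Idx (ZMod 2)) = 1 := by
  decide +kernel

set_option maxRecDepth 100000 in
theorem words : Tm 0 = X 0 ∧ Tm 1 = X 7 ∧ Tm 2 = X 0 * X 2 * X 4 ∧ Tm 3 = X 3 ∧ Tm 4 = X 4 := by
  decide +kernel

theorem root_mem (r : Fin 8) : Φ (rootPerm r) ∈ B2 := by
  rw [B2_eq]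
  apply Subgroup.subset_closure
  refine ⟨r, 1, ?_⟩
  rw [Φ_val, ← xroot]
  rfl

theorem Φ_s_mem (i : Fin 5) : Φ (s i) ∈ B2 := by
  obtain ⟨h0, h1, h2, h3, h4⟩ := words
  have key : ∀ (σ τ : Equiv.Perm (Fin 6)), Φmat σ = Φmat τ → Φ σ = Φ τ := by
    intro σ τ h
    apply Units.ext
    rw [Φ_val, Φ_val, h]
  fin_cases i
  · have : Φ (s 0) = Φ (rootPerm 0) := key _ _ (by rw [Φmat_s, h0, xroot])
    show Φ (s 0) ∈ _
    rw [this]; exact root_mem 0
  · have : Φ (s 1) = Φ (rootPerm 7) := key _ _ (by rw [Φmat_s, h1, xroot])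
    show Φ (s 1) ∈ _
    rw [this]; exact root_mem 7
  · have : Φ (s 2) = Φ (rootPerm 0 * rootPerm 2 * rootPerm 4) :=
      key _ _ (by rw [Φmat_s, h2, Φmat_mul, Φmat_mul, xroot, xroot, xroot])
    show Φ (s 2) ∈ _
    rw [this, map_mul, map_mul]
    exact mul_mem (mul_mem (root_mem 0) (root_mem 2)) (root_mem 4)
  · have : Φ (s 3) = Φ (rootPerm 3) := key _ _ (by rw [Φmat_s, h3, xroot])
    show Φ (s 3) ∈ _
    rw [this]; exact root_mem 3
  · have : Φ (s 4) = Φ (rootPerm 4) := key _ _ (by rw [Φmat_s, h4, xroot])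
    show Φ (s 4) ∈ _
    rw [this]; exact root_mem 4

theorem range_Φ : Φ.range = B2 := by
  apply le_antisymm
  · have htop : Subgroup.closure (Set.range s) = ⊤ :=
      Subgroup.closure_eq_top_of_mclosure_eq_top closure_s
    rw [MonoidHom.range_eq_map, ← htop, MonoidHom.map_closure, Subgroup.closure_le]
    rintro _ ⟨_, ⟨i, rfl⟩, rfl⟩
    exact Φ_s_mem i
  · rw [B2_eq, Subgroup.closure_le]
    rintro g ⟨r, t, hg⟩
    have ht : t = 0 ∨ t = 1 := by
      fin_cases t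
      · left; rfl
      · right; rfl
    rcases ht with rfl | rfl
    · refine ⟨1, ?_⟩
      apply Units.ext
      rw [map_one, hg]
      exact (xzero r).symm
    · refine ⟨rootPerm r, ?_⟩
      apply Units.ext
      rw [Φ_val, hg]
      exact (xroot r).symm

theorem Φ_injective : Function.Injective Φ := by
  rw [injective_iff_map_eq_one]
  intro σ h
  apply ker_check
  rw [← Φ_val, h]
  rfl

/-- `B₂(2) ≃* S₆` for the prime field. -/
noncomputable def mainEquiv : ↥B2 ≃* Equiv.Perm (Fin 6) :=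
  ((MonoidHom.ofInjective Φ_injective).trans (MulEquiv.subgroupCongr range_Φ)).symm

/-- B₂(2) ≅ S₆. -/
theorem result {F : Type*} [Field F] [Fintype F] (hF : Fintype.card F = 2) :
    Nonempty (↥(Cfsg.Lie.chevB2.group F) ≃* Equiv.Perm (Fin 6)) := by
  have e : F ≃+* ZMod 2 := (ZMod.ringEquivOfPrime F Nat.prime_two hF).symm
  have e1 : ↥(chevB2.group F) ≃* ↥B2 := groupEquiv chevB2 e
  exact ⟨e1.trans mainEquiv⟩

end Cfsg.Agent.S1058
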