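import Cfsg.Statements.S1061
import Cfsg.Agent.S1035
import Cfsg.Agent.Lib.Helper36_ChevOrderAll
import Cfsg.Agent.Lib.Helper36_ChevDataD4LitOK
import Cfsg.Agent.Lib.Helper36_ChevDataD4Wc

set_option autoImplicit false
open Cfsg

namespace Cfsg.Agent.S1061

/-- `gcd(2, q-1)² · |D₄(q)| = q¹² (q² - 1)(q⁴ - 1)(q⁴ - 1)(q⁶ - 1)`. -/
theorem result {F : Type*} [Field F] [Fintype F] {q : ℕ} (hq : Fintype.card F = q) : Nat.gcd 2 (q - 1) ^ 2 * Nat.card ↥(Cfsg.Lie.chevD4.group F) = q ^ 12 * (q ^ 2 - 1) * (q ^ 4 - 1) * (q ^ 4 - 1) * (q ^ 6 - 1) := by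
  subst hq
  have hd : (Nat.gcd 2 (Fintype.card F - 1) ^ 2) * Nat.card (Cfsg.Lie.chevD4.diagonalSubgroup F) =
      (Fintype.card F - 1) ^ Cfsg.Lie.chevD4.rank :=
    Cfsg.Agent.S1035.result (F := F) rfl (Cfsg.Lie.chevD4, Nat.gcd 2 (Fintype.card F - 1) ^ 2) (by simp)
  have h := Cfsg.Agent.Lib.Helper36_ChevOrderAll.order_main (F := F) Cfsg.Lie.chevD4 (by simp)
    Cfsg.Agent.Lib.Helper36_ChevDataD4Lit.lit Cfsg.Agent.Lib.Helper36_ChevDataD4Lit.wf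
    Cfsg.Agent.Lib.Helper36_ChevDataD4LitOK.litOK Cfsg.Agent.Lib.Helper36_ChevDataD4LitOK.noZero
    [2, 4, 4, 6] (fun q hq => Cfsg.Agent.Lib.Helper36_ChevDataD4Wc.poin q hq) (Nat.gcd 2 (Fintype.card F - 1) ^ 2) hd
  have hN : Cfsg.Lie.chevD4.nroots / 2 = 12 := by decide
  rw [hN] at h
  simpa [mul_assoc] using h

end Cfsg.Agent.S1061
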