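import Cfsg.Statements.S1075
import Cfsg.Agent.Lib.Helper61_R3Group
import Cfsg.Agent.Lib.Helper61_TableHom

set_option autoImplicit false
open Cfsg

namespace Cfsg.Agent.S1075

open Cfsg.Lie Cfsg.Agent.Lib.Helper61_F8 Cfsg.Agent.Lib.Helper61_R3Group
  Cfsg.Agent.Lib.Helper61_TableHom

/-- The derived subgroup of ²G₂(3) (θ = identity over the field with three elements) has order 504 = 1512/3 and is isomorphic to PSL₂ over the field with eight elements. -/
theorem result {L : Type*} [Field L] [Fintype L] (hL : Fintype.card L = 8) :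
    Nat.card ↥(commutator ↥(Cfsg.Lie.twistedG2 (ZMod 3) 1)) = 504 ∧
      Nonempty (↥(commutator ↥(Cfsg.Lie.twistedG2 (ZMod 3) 1)) ≃* Matrix.ProjectiveSpecialLinearGroup (Fin 2) L) := by
  obtain ⟨e⟩ := exists_main
  have e8 : L ≃+* F8 := ringEquivF8 hL
  have e1 : Matrix.ProjectiveSpecialLinearGroup (Fin 2) L ≃*
      Matrix.ProjectiveSpecialLinearGroup (Fin 2) F8 := pslEquiv e8
  have e2 : Matrix.ProjectiveSpecialLinearGroup (Fin 2) F8 ≃*
      Matrix.SpecialLinearGroup (Fin 2) F8 := pslEquivSLOfCenter center_SL28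
  have e3 : ↥(commutator ↥T) ≃* ↥H3 := commEquiv
  constructor
  · show Nat.card ↥(commutator ↥T) = 504
    rw [Nat.card_congr e3.toEquiv, card_H3]
  · exact ⟨e3.trans (e.symm.trans (e2.symm.trans e1.symm))⟩

end Cfsg.Agent.S1075
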