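import Cfsg.Statements.S1076
import Cfsg.Agent.Lib.Helper36_ChevDataG2HA
import Cfsg.Agent.Lib.Helper36_ChevDataB2HA
import Cfsg.Agent.Lib.Helper36_ChevDataD4HA
import Cfsg.Agent.Lib.Helper36_ChevDataF4HA
import Cfsg.Agent.Lib.Helper36_ChevDataE6HA
import Cfsg.Agent.Lib.Helper36_ChevDataE7HA
import Cfsg.Agent.Lib.Helper36_ChevDataE8HA

set_option autoImplicit false
open Cfsg

namespace Cfsg.Agent.S1076

open Cfsg.Lie Cfsg.Lie.ChevalleyDatum Cfsg.Agent.Lib.Helper36_ChevHAll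

/-- `h_r(t₁) h_r(t₂) = h_r(t₁ t₂)` for non-zero `t₁, t₂` (the third family of defining relations), as a matrix identity. -/
theorem result {F : Type*} [Field F] (D : Cfsg.Lie.ChevalleyDatum) (hD : D ∈ [Cfsg.Lie.chevG2, Cfsg.Lie.chevB2, Cfsg.Lie.chevD4, Cfsg.Lie.chevF4, Cfsg.Lie.chevE6, Cfsg.Lie.chevE7, Cfsg.Lie.chevE8]) (r : ℕ) (hr : r < D.nroots) (t₁ t₂ : F) (h₁ : t₁ ≠ 0) (h₂ : t₂ ≠ 0) :
    D.hMat F r t₁ * D.hMat F r t₂ = D.hMat F r (t₁ * t₂) := by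
  simp only [List.mem_cons, List.not_mem_nil, or_false] at hD
  rcases hD with rfl | rfl | rfl | rfl | rfl | rfl | rfl
  · exact (Cfsg.Agent.Lib.Helper36_ChevDataG2HA.goodH F r hr).2.2.2 t₁ t₂ h₁ h₂
  · exact (Cfsg.Agent.Lib.Helper36_ChevDataB2HA.goodH F r hr).2.2.2 t₁ t₂ h₁ h₂
  · exact (Cfsg.Agent.Lib.Helper36_ChevDataD4HA.goodH F r hr).2.2.2 t₁ t₂ h₁ h₂
  · exact (Cfsg.Agent.Lib.Helper36_ChevDataF4HA.goodH F r hr).2.2.2 t₁ t₂ h₁ h₂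
  · exact (Cfsg.Agent.Lib.Helper36_ChevDataE6HA.goodH F r hr).2.2.2 t₁ t₂ h₁ h₂
  · exact (Cfsg.Agent.Lib.Helper36_ChevDataE7HA.goodH F r hr).2.2.2 t₁ t₂ h₁ h₂
  · exact (Cfsg.Agent.Lib.Helper36_ChevDataE8HA.goodH F r hr).2.2.2 t₁ t₂ h₁ h₂

end Cfsg.Agent.S1076
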