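import Cfsg.Statements.S1080
import Cfsg.Agent.Lib.Helper18_ChevBasic

set_option autoImplicit false
open Cfsg

namespace Cfsg.Agent.S1080

open Cfsg.Agent.Lib.Helper18_ChevBasic

/-- The automorphism of the general linear group induced by a field automorphism (entrywise). -/
noncomputable def glEquiv {F : Type*} [Field F] (D : Cfsg.Lie.ChevalleyDatum) (f : F ≃+* F) :
    GL D.Idx F ≃* GL D.Idx F :=
  Units.mapEquiv (RingEquiv.mapMatrix f).toMulEquiv

theorem glEquiv_coe {F : Type*} [Field F] (D : Cfsg.Lie.ChevalleyDatum) (f : F ≃+* F) (g : GL D.Idx F) :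
    ((glEquiv D f g : GL D.Idx F) : Matrix D.Idx D.Idx F) = (g : Matrix D.Idx D.Idx F).map f := rfl

theorem glEquiv_symm_coe {F : Type*} [Field F] (D : Cfsg.Lie.ChevalleyDatum) (f : F ≃+* F) (g : GL D.Idx F) :
    (((glEquiv D f).symm g : GL D.Idx F) : Matrix D.Idx D.Idx F) = (g : Matrix D.Idx D.Idx F).map f.symm := rfl

theorem map_group {F : Type*} [Field F] (D : Cfsg.Lie.ChevalleyDatum) (f : F ≃+* F) :
    (D.group F).map (glEquiv D f).toMonoidHom = D.group F := by
  unfold Cfsg.Lie.ChevalleyDatum.group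
  rw [MonoidHom.map_closure]
  congr 1
  ext g
  simp only [Set.mem_image, Set.mem_ofPred_eq, MulEquiv.coe_toMonoidHom]
  constructor
  · rintro ⟨g', ⟨r, t, hg'⟩, rfl⟩
    refine ⟨r, f t, ?_⟩
    rw [glEquiv_coe, hg']
    exact xMat_map D (f : F →+* F) r t
  · rintro ⟨r, t, hg⟩
    refine ⟨(glEquiv D f).symm g, ⟨r, f.symm t, ?_⟩, by simp⟩
    rw [glEquiv_symm_coe, hg]
    exact xMat_map D (f.symm : F →+* F) r t

/-- Field automorphisms: for every field automorphism `f` there is a group automorphism sending each `x_r(t)` to `x_r(f t)`. -/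
theorem result {F : Type*} [Field F] (D : Cfsg.Lie.ChevalleyDatum) (hD : D ∈ [Cfsg.Lie.chevG2, Cfsg.Lie.chevB2, Cfsg.Lie.chevD4, Cfsg.Lie.chevF4, Cfsg.Lie.chevE6, Cfsg.Lie.chevE7, Cfsg.Lie.chevE8]) (f : F ≃+* F) :
    ∃ α : ↥(D.group F) ≃* ↥(D.group F), ∀ (g : ↥(D.group F)) (r : ℕ) (t : F), r < D.nroots →
      ((g : GL D.Idx F) : Matrix D.Idx D.Idx F) = D.x F r t → ((α g : GL D.Idx F) : Matrix D.Idx D.Idx F) = D.x F r (f t) := by
  refine ⟨((glEquiv D f).subgroupMap (D.group F)).trans (MulEquiv.subgroupCongr (map_group D f)), ?_⟩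
  intro g r t _ hg
  have : ((((glEquiv D f).subgroupMap (D.group F)).trans (MulEquiv.subgroupCongr (map_group D f)) g :
      GL D.Idx F) : Matrix D.Idx D.Idx F) = ((g : GL D.Idx F) : Matrix D.Idx D.Idx F).map f := rfl
  rw [this, hg]
  exact x_map D (f : F →+* F) r t

end Cfsg.Agent.S1080
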