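import Cfsg.Statements.S1083
import Cfsg.Agent.S1056
import Cfsg.Agent.S1077
import Cfsg.Agent.Lib.Helper31_D4_ABSTRACT
import Cfsg.Agent.Lib.Helper18_B2OmG
import Cfsg.Agent.Lib.Helper18_B2OmH

set_option autoImplicit false
open Cfsg

namespace Cfsg.Agent.S1083

/-- B₂(F) ≅ PΩ₅(F) for the form `x₀² + x₁y₁ + x₂y₂`, over every field with more than two elements. -/
theorem result {F : Type*} [Field F] (hF : ∃ a : F, a ≠ 0 ∧ a ≠ 1) :
    Nonempty (↥(Cfsg.Lie.chevB2.group F) ≃* Cfsg.POmega F (Cfsg.quadFormOdd 2 F)) := by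
  obtain ⟨hsimple, hnc⟩ := Cfsg.Agent.S1056.result hF
  have := hsimple
  -- the Chevalley group is not abelian
  have hG : ∃ x y : ↥(Cfsg.Lie.chevB2.group F), x * y ≠ y * x := by
    by_contra hcon
    apply hnc
    refine ⟨⟨fun a b => ?_⟩⟩
    by_contra hab
    exact hcon ⟨a, b, hab⟩
  -- Steinberg's theorem
  obtain ⟨θ, hθ, hker, -⟩ := Cfsg.Agent.S1077.result (K := F) Cfsg.Lie.chevB2 (by simp)
  -- the map onto the commutator subgroup of the orthogonal group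
  obtain ⟨φ, hφ⟩ := Cfsg.Agent.Lib.Helper18_B2OmG.exists_hom_commutator hF
  obtain ⟨x, y, hxy⟩ := Cfsg.Agent.Lib.Helper18_B2OmG.commutator_not_comm hF
  let β := Cfsg.Agent.Lib.Helper18_B2OmH.commutatorEquiv
    (Cfsg.Agent.Lib.Helper18_B2OmH.O5Equiv (F := F))
  exact Cfsg.Agent.Lib.Helper31_D4_ABSTRACT.ABSTRACT hG θ hθ hker
    ((β : _ →* ↥(Cfsg.Omega F (Cfsg.quadFormOdd 2 F))).comp φ) (β.surjective.comp hφ)
    ⟨β x, β y, fun h => hxy (β.injective (by rw [map_mul, map_mul]; exact h))⟩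

end Cfsg.Agent.S1083
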