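import Cfsg.Statements.S1084
import Cfsg.Agent.S1054
import Cfsg.Agent.S1077
import Cfsg.Agent.Lib.Helper31_D4_ABSTRACT
import Cfsg.Agent.Lib.Helper18_E6Final

set_option autoImplicit false
open Cfsg

namespace Cfsg.Agent.S1084

/-- E₆ via the 27-dimensional cubic form: for a finite field with at least three elements, (isometries of the cubic form) / centre ≅ the Chevalley group E₆(F). -/
theorem result {F : Type*} [Field F] [Fintype F] (hF : 3 ≤ Fintype.card F) : Nonempty (Cfsg.Lie.E6 F ≃* ↥(Cfsg.Lie.chevE6.group F)) := by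
  -- the field has an element other than `0` and `1`
  have hF' : ∃ s : F, s ≠ 0 ∧ s ≠ 1 := by
    classical
    by_contra hcon
    push Not at hcon
    have hsub : (Finset.univ : Finset F) ⊆ {0, 1} := by
      intro x _
      by_cases hx : x = 0
      · simp [hx]
      · simp [hcon x hx]
    have h1 : Fintype.card F ≤ 2 :=
      le_trans (Finset.card_le_card hsub) Finset.card_le_two
    omega
  -- the Chevalley group is simple and not abelian
  obtain ⟨hsimple, hnc⟩ := Cfsg.Agent.S1054.result (F := F) Cfsg.Lie.chevE6 (by simp)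
  have := hsimple
  have hG : ∃ x y : ↥(Cfsg.Lie.chevE6.group F), x * y ≠ y * x := by
    by_contra hcon
    apply hnc
    refine ⟨⟨fun a b => ?_⟩⟩
    by_contra hab
    exact hcon ⟨a, b, hab⟩
  -- Steinberg's theorem
  obtain ⟨θ, hθ, hker, -⟩ := Cfsg.Agent.S1077.result (K := F) Cfsg.Lie.chevE6 (by simp)
  -- the map onto the isometry group of the cubic form
  obtain ⟨⟨ψ, hψ⟩, hE⟩ := Cfsg.Agent.Lib.Helper18_E6Final.exists_hom_univ hF'
  obtain ⟨iso⟩ := Cfsg.Agent.Lib.Helper31_D4_ABSTRACT.ABSTRACT hG θ hθ hker ψ hψ hE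
  exact ⟨iso.symm⟩

end Cfsg.Agent.S1084
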