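import Cfsg.Statements.S1093
import Cfsg.Agent.Lib.helper19_CoxE8

set_option autoImplicit false
open Cfsg

namespace Cfsg.Agent.S1093

open Cfsg.Agent.Lib.helper19_CoxChain

lemma trunc6 : truncTo CoxeterMatrix.E₈ 6 (by decide) = CoxeterMatrix.E₆ := by
  apply CoxeterMatrix.ext
  decide +kernel

lemma trunc7 : truncTo CoxeterMatrix.E₈ 7 (by decide) = CoxeterMatrix.E₇ := by
  apply CoxeterMatrix.ext
  decide +kernel

/-- `|W(E₆)| = 51840`, `|W(E₇)| = 2903040`, `|W(E₈)| = 696729600` for Mathlib's presented Coxeter groups. -/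
theorem result (p : (Σ n : ℕ, CoxeterMatrix (Fin n)) × ℕ)
    (hp : p ∈ [(⟨6, CoxeterMatrix.E₆⟩, 51840), (⟨7, CoxeterMatrix.E₇⟩, 2903040), (⟨8, CoxeterMatrix.E₈⟩, 696729600)]) :
    Nat.card p.1.2.Group = p.2 := by
  simp only [List.mem_cons, List.mem_nil_iff, or_false] at hp
  rcases hp with rfl | rfl | rfl
  · have h := Cfsg.Agent.Lib.helper19_CoxE8.card6
    rw [trunc6] at h
    exact h
  · have h := Cfsg.Agent.Lib.helper19_CoxE8.card7
    rw [trunc7] at h
    exact h
  · have h := Cfsg.Agent.Lib.helper19_CoxE8.card8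
    rw [truncTo_self] at h
    exact h

end Cfsg.Agent.S1093
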