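import Cfsg.Statements.S1094
import Cfsg.Agent.Lib.helper19_CoxB2
import Cfsg.Agent.Lib.helper19_CoxG2
import Cfsg.Agent.Lib.helper19_CoxD4
import Cfsg.Agent.Lib.helper19_CoxF4
import Cfsg.Agent.Lib.helper19_CoxE8

set_option autoImplicit false
open Cfsg

namespace Cfsg.Agent.S1094

open Cfsg.Agent.Lib.helper19_CoxChain

lemma trunc6 : truncTo CoxeterMatrix.E₈ 6 (by decide) = CoxeterMatrix.E₆ := by
  apply CoxeterMatrix.ext
  decide +kernel

lemma trunc7 : truncTo CoxeterMatrix.E₈ 7 (by decide) = CoxeterMatrix.E₇ := by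
  apply CoxeterMatrix.ext
  decide +kernel

/-- The Coxeter element `s₁ s₂ ⋯ s_l` of the Coxeter group of type B₂, G₂, D₄, F₄, E₆, E₇, E₈ has order `h = 2N/l` = 4, 6, 6, 12, 12, 18, 30. -/
theorem result (p : (Σ n : ℕ, CoxeterMatrix (Fin n)) × ℕ)
    (hp : p ∈ [(⟨2, CoxeterMatrix.B 2⟩, 4), (⟨2, CoxeterMatrix.G₂⟩, 6), (⟨4, Cfsg.Lie.coxeterD4⟩, 6), (⟨4, CoxeterMatrix.F₄⟩, 12),
      (⟨6, CoxeterMatrix.E₆⟩, 12), (⟨7, CoxeterMatrix.E₇⟩, 18), (⟨8, CoxeterMatrix.E₈⟩, 30)]) :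
    orderOf ((List.finRange p.1.1).map p.1.2.simple).prod = p.2 := by
  simp only [List.mem_cons, List.mem_nil_iff, or_false] at hp
  rcases hp with rfl | rfl | rfl | rfl | rfl | rfl | rfl
  · have h := Cfsg.Agent.Lib.helper19_CoxB2.cox2
    rw [truncTo_self] at h
    exact h
  · have h := Cfsg.Agent.Lib.helper19_CoxG2.cox2
    rw [truncTo_self] at h
    exact h
  · have h := Cfsg.Agent.Lib.helper19_CoxD4.cox4
    rw [truncTo_self] at h
    exact h
  · have h := Cfsg.Agent.Lib.helper19_CoxF4.cox4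
    rw [truncTo_self] at h
    exact h
  · have h := Cfsg.Agent.Lib.helper19_CoxE8.cox6
    rw [trunc6] at h
    exact h
  · have h := Cfsg.Agent.Lib.helper19_CoxE8.cox7
    rw [trunc7] at h
    exact h
  · have h := Cfsg.Agent.Lib.helper19_CoxE8.cox8
    rw [truncTo_self] at h
    exact h

end Cfsg.Agent.S1094
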