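import Cfsg.Statements.S1095
import Cfsg.Agent.Lib.Helper36_ChevDataG2Eta
import Cfsg.Agent.Lib.Helper36_ChevDataB2Eta
import Cfsg.Agent.Lib.Helper36_ChevDataD4Eta
import Cfsg.Agent.Lib.Helper36_ChevDataF4Eta
import Cfsg.Agent.Lib.Helper36_ChevDataE6Eta
import Cfsg.Agent.Lib.Helper36_ChevDataE7EtaTbl
import Cfsg.Agent.Lib.Helper36_ChevDataE7NL
import Cfsg.Agent.Lib.Helper36_ChevDataE8EtaTbl
import Cfsg.Agent.Lib.Helper36_ChevDataE8NL

set_option autoImplicit false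
open Cfsg

namespace Cfsg.Agent.S1095

open Cfsg.Lie Cfsg.Lie.ChevalleyDatum Cfsg.Agent.Lib.Helper36_ChevCoeff Cfsg.Agent.Lib.Helper36_ChevAdd
  Cfsg.Agent.Lib.Helper36_ChevWeyl Cfsg.Agent.Lib.Helper36_ChevConj

/-- The seven tabulated data: the literal tables of the `n_i` are correct and have the monomial form, with signs
satisfying the stated properties. -/
theorem data_facts (D : ChevalleyDatum)
    (hD : D ∈ [chevG2, chevB2, chevD4, chevF4, chevE6, chevE7, chevE8]) :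
    ChainLenOK D ∧ SimpleOK D ∧ ∃ (Nl : NLits) (tbl : List (List ℤ)), NLitOK D Nl ∧
      ∀ i < D.rank, monoCheck D i (Nl.getD i ([], [])).1 (tbl.getD i []) = true ∧
        etaPropsCheck D i (tbl.getD i []) = true := by
  simp only [List.mem_cons, List.not_mem_nil, or_false] at hD
  rcases hD with rfl | rfl | rfl | rfl | rfl | rfl | rfl
  · exact ⟨Cfsg.Agent.Lib.Helper36_ChevDataG2.lenOK, Cfsg.Agent.Lib.Helper36_ChevDataG2.simpleOK, _, _,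
      Cfsg.Agent.Lib.Helper36_ChevDataG2.nLitOK, Cfsg.Agent.Lib.Helper36_ChevDataG2Eta.monoOK⟩
  · exact ⟨Cfsg.Agent.Lib.Helper36_ChevDataB2.lenOK, Cfsg.Agent.Lib.Helper36_ChevDataB2.simpleOK, _, _,
      Cfsg.Agent.Lib.Helper36_ChevDataB2.nLitOK, Cfsg.Agent.Lib.Helper36_ChevDataB2Eta.monoOK⟩
  · exact ⟨Cfsg.Agent.Lib.Helper36_ChevDataD4.lenOK, Cfsg.Agent.Lib.Helper36_ChevDataD4.simpleOK, _, _,
      Cfsg.Agent.Lib.Helper36_ChevDataD4.nLitOK, Cfsg.Agent.Lib.Helper36_ChevDataD4Eta.monoOK⟩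
  · exact ⟨Cfsg.Agent.Lib.Helper36_ChevDataF4.lenOK, Cfsg.Agent.Lib.Helper36_ChevDataF4.simpleOK, _, _,
      Cfsg.Agent.Lib.Helper36_ChevDataF4.nLitOK, Cfsg.Agent.Lib.Helper36_ChevDataF4Eta.monoOK⟩
  · exact ⟨Cfsg.Agent.Lib.Helper36_ChevDataE6.lenOK, Cfsg.Agent.Lib.Helper36_ChevDataE6.simpleOK, _, _,
      Cfsg.Agent.Lib.Helper36_ChevDataE6.nLitOK, Cfsg.Agent.Lib.Helper36_ChevDataE6Eta.monoOK⟩
  · exact ⟨Cfsg.Agent.Lib.Helper36_ChevDataE7Lits.lenOK, Cfsg.Agent.Lib.Helper36_ChevDataE7Lits.simpleOK, _, _,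
      Cfsg.Agent.Lib.Helper36_ChevDataE7NL.nLitOK, Cfsg.Agent.Lib.Helper36_ChevDataE7EtaTbl.monoOK⟩
  · exact ⟨Cfsg.Agent.Lib.Helper36_ChevDataE8Lits.lenOK, Cfsg.Agent.Lib.Helper36_ChevDataE8Lits.simpleOK, _, _,
      Cfsg.Agent.Lib.Helper36_ChevDataE8NL.nLitOK, Cfsg.Agent.Lib.Helper36_ChevDataE8EtaTbl.monoOK⟩

/-- `n_p` (p = p_{i+1} fundamental) is the signed monomial matrix `h_{p_j} ↦ h_{p_j} - A_{p_j,p} h_p`, `e_s ↦ η_s e_{w_p(s)}`, with `η_s = ±1`, `η_p = η_{-p} = -1`, `η_s η_{w_p(s)} = (-1)^{A_{p,s}}`, `η_s η_{-s} = 1`. -/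
theorem result {F : Type*} [Field F] (D : Cfsg.Lie.ChevalleyDatum) (hD : D ∈ [Cfsg.Lie.chevG2, Cfsg.Lie.chevB2, Cfsg.Lie.chevD4, Cfsg.Lie.chevF4, Cfsg.Lie.chevE6, Cfsg.Lie.chevE7, Cfsg.Lie.chevE8]) (i : ℕ) (hi : i < D.rank) :
    ∃ η : ℕ → ℤ, (∀ s < D.nroots, η s = 1 ∨ η s = -1) ∧ η (D.simple i) = -1 ∧ η (D.neg (D.simple i)) = -1 ∧
      (∀ s < D.nroots, η s * η (D.reflectRoot i s) = (-1) ^ (D.cartan i s).natAbs ∧ η s * η (D.neg s) = 1) ∧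
      D.nMat F (D.simple i) 1 = Matrix.of (fun (row col : D.Idx) =>
        Sum.elim
          (fun j' : Fin D.rank => Sum.elim
            (fun j : Fin D.rank => (if j' = j then (1 : F) else 0) - (if (j' : ℕ) = i then ((D.cartan j (D.simple i) : ℤ) : F) else 0))
            (fun _ => (0 : F)) col)
          (fun s' : Fin D.nroots => Sum.elim
            (fun _ => (0 : F))
            (fun s : Fin D.nroots => if (s' : ℕ) = D.reflectRoot i s then ((η s : ℤ) : F) else 0) col)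
          row) := by
  obtain ⟨hlen, hsimple, Nl, tbl, hNl, hmono⟩ := data_facts D hD
  obtain ⟨hm, hp⟩ := hmono i hi
  obtain ⟨p1, p2, p3, p4⟩ := etaProps_of_check D i _ hp
  exact ⟨fun s => (tbl.getD i []).getD s 0, p1, p2, p3, p4, nMat_eq_mono D hlen hsimple F i hi _ _ (hNl i hi) _ hm⟩

end Cfsg.Agent.S1095
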