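import Cfsg.Statements.S1098
import Cfsg.Agent.Lib.Helper18_ChevGraphS
import Cfsg.Agent.Lib.Helper18_ChevGraphB2
import Cfsg.Agent.Lib.Helper18_ChevGraphF4
import Cfsg.Agent.Lib.Helper18_ChevData5

set_option autoImplicit false
open Cfsg

namespace Cfsg.Agent.S1098

/-- Graph automorphisms in characteristic 2 (K perfect): for B₂ (a short, b long) `x_a(t) ↦ x_b(t²)`, `x_b(t) ↦ x_a(t)`, and for F₄ (p₁, p₂ short, p₃, p₄ long) `x_{p₁}(t) ↦ x_{p₄}(t²)`, `x_{p₂}(t) ↦ x_{p₃}(t²)`, `x_{p₃}(t) ↦ x_{p₂}(t)`, `x_{p₄}(t) ↦ x_{p₁}(t)`, likewise on the negatives, extend to an automorphism of the group. -/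
theorem result {K : Type*} [Field K] [CharP K 2] (hperf : ∀ x : K, ∃ y : K, y ^ 2 = x)
    (p : Cfsg.Lie.ChevalleyDatum × List (ℕ × ℕ))
    (hp : p ∈ [(Cfsg.Lie.chevB2, [(1, 2), (0, 1)]), (Cfsg.Lie.chevF4, [(3, 2), (2, 2), (1, 1), (0, 1)])]) :
    ∃ α : ↥(p.1.group K) ≃* ↥(p.1.group K), ∀ (g : ↥(p.1.group K)) (i : ℕ) (t : K), i < p.1.rank →
      (((g : GL p.1.Idx K) : Matrix p.1.Idx p.1.Idx K) = p.1.x K (p.1.simple i) t →
        ((α g : GL p.1.Idx K) : Matrix p.1.Idx p.1.Idx K) = p.1.x K (p.1.simple (p.2.getD i (0, 1)).1) (t ^ (p.2.getD i (0, 1)).2)) ∧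
      (((g : GL p.1.Idx K) : Matrix p.1.Idx p.1.Idx K) = p.1.x K (p.1.neg (p.1.simple i)) t →
        ((α g : GL p.1.Idx K) : Matrix p.1.Idx p.1.Idx K) = p.1.x K (p.1.neg (p.1.simple (p.2.getD i (0, 1)).1)) (t ^ (p.2.getD i (0, 1)).2)) := by
  simp only [List.mem_cons, List.not_mem_nil, or_false] at hp
  rcases hp with rfl | rfl
  · obtain ⟨α, hα⟩ := Cfsg.Agent.Lib.Helper18_ChevGraphS.exists_graphAut_perfect (K := K) (by simp)
      Cfsg.Agent.Lib.Helper18_ChevDatumB2.dcert (by decide) hperf Cfsg.Agent.Lib.Helper18_ChevGraphB2.graphCertB2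
    refine ⟨α, fun g i t hi => ?_⟩
    have key : ∀ (r : ℕ) (hr : r < Cfsg.Lie.chevB2.nroots) (s : ℕ) (e : ℕ),
        Cfsg.Agent.Lib.Helper18_ChevGraphB2.piB2.getD r 0 = s →
        Cfsg.Agent.Lib.Helper18_ChevGraphB2.lamB2.getD r 1 = e →
        ((g : GL Cfsg.Lie.chevB2.Idx K) : Matrix Cfsg.Lie.chevB2.Idx Cfsg.Lie.chevB2.Idx K) = Cfsg.Lie.chevB2.x K r t →
        ((α g : GL Cfsg.Lie.chevB2.Idx K) : Matrix Cfsg.Lie.chevB2.Idx Cfsg.Lie.chevB2.Idx K) =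
          Cfsg.Lie.chevB2.x K s (t ^ e) := by
      intro r hr s e hs he hg
      have hg' : g = Cfsg.Agent.Lib.Helper18_ChevAutC.xG Cfsg.Agent.Lib.Helper18_ChevDatumB2.dcert r t := by
        apply Subtype.ext
        apply Units.ext
        rw [hg, Cfsg.Agent.Lib.Helper18_ChevAutC.xG_coe, Cfsg.Agent.Lib.Helper18_ChevGL.xGL_coe]
      rw [hg', hα r hr, Cfsg.Agent.Lib.Helper18_ChevAutC.xG_coe, Cfsg.Agent.Lib.Helper18_ChevGL.xGL_coe, hs, he]
      have e1 : ((Cfsg.Agent.Lib.Helper18_ChevGraphB2.epsB2.getD r 1 : ℤ) : K) = 1 := by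
        have : ∀ r < Cfsg.Lie.chevB2.nroots, Cfsg.Agent.Lib.Helper18_ChevGraphB2.epsB2.getD r 1 = 1 := by decide
        rw [this r hr, Int.cast_one]
      rw [e1, one_mul]
    have hi2 : i < 2 := hi
    interval_cases i
    · exact ⟨key 5 (by decide) 4 2 (by decide) (by decide), key 2 (by decide) 3 2 (by decide) (by decide)⟩
    · exact ⟨key 4 (by decide) 5 1 (by decide) (by decide), key 3 (by decide) 2 1 (by decide) (by decide)⟩
  · obtain ⟨α, hα⟩ := Cfsg.Agent.Lib.Helper18_ChevGraphS.exists_graphAut_perfect (K := K) (by simp)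
      Cfsg.Agent.Lib.Helper18_ChevDatumF4.dcert (by decide) hperf Cfsg.Agent.Lib.Helper18_ChevGraphF4.graphCertF4
    refine ⟨α, fun g i t hi => ?_⟩
    have key : ∀ (r : ℕ) (hr : r < Cfsg.Lie.chevF4.nroots) (s : ℕ) (e : ℕ),
        Cfsg.Agent.Lib.Helper18_ChevGraphF4.piF4.getD r 0 = s →
        Cfsg.Agent.Lib.Helper18_ChevGraphF4.lamF4.getD r 1 = e →
        ((g : GL Cfsg.Lie.chevF4.Idx K) : Matrix Cfsg.Lie.chevF4.Idx Cfsg.Lie.chevF4.Idx K) = Cfsg.Lie.chevF4.x K r t →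
        ((α g : GL Cfsg.Lie.chevF4.Idx K) : Matrix Cfsg.Lie.chevF4.Idx Cfsg.Lie.chevF4.Idx K) =
          Cfsg.Lie.chevF4.x K s (t ^ e) := by
      intro r hr s e hs he hg
      have hg' : g = Cfsg.Agent.Lib.Helper18_ChevAutC.xG Cfsg.Agent.Lib.Helper18_ChevDatumF4.dcert r t := by
        apply Subtype.ext
        apply Units.ext
        rw [hg, Cfsg.Agent.Lib.Helper18_ChevAutC.xG_coe, Cfsg.Agent.Lib.Helper18_ChevGL.xGL_coe]
      rw [hg', hα r hr, Cfsg.Agent.Lib.Helper18_ChevAutC.xG_coe, Cfsg.Agent.Lib.Helper18_ChevGL.xGL_coe, hs, he]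
      have e1 : ((Cfsg.Agent.Lib.Helper18_ChevGraphF4.epsF4.getD r 1 : ℤ) : K) = 1 := by
        have : ∀ r < Cfsg.Lie.chevF4.nroots, Cfsg.Agent.Lib.Helper18_ChevGraphF4.epsF4.getD r 1 = 1 := by
          decide +kernel
        rw [this r hr, Int.cast_one]
      rw [e1, one_mul]
    have hi4 : i < 4 := hi
    interval_cases i
    · exact ⟨key 33 (by decide) 24 2 (by decide) (by decide), key 14 (by decide) 23 2 (by decide) (by decide)⟩
    · exact ⟨key 27 (by decide) 25 2 (by decide) (by decide), key 20 (by decide) 22 2 (by decide) (by decide)⟩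
    · exact ⟨key 25 (by decide) 27 1 (by decide) (by decide), key 22 (by decide) 20 1 (by decide) (by decide)⟩
    · exact ⟨key 24 (by decide) 33 1 (by decide) (by decide), key 23 (by decide) 14 1 (by decide) (by decide)⟩

end Cfsg.Agent.S1098
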