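import Cfsg.Statements.S1099
import Cfsg.Agent.Lib.Helper36_GraphAutG2Main

set_option autoImplicit false
open Cfsg

namespace Cfsg.Agent.S1099

open Cfsg.Lie Cfsg.Agent.Lib.Helper36_GraphAut Cfsg.Agent.Lib.Helper36_GraphAutG2
  Cfsg.Agent.Lib.Helper36_GraphAutG2Main

theorem tabOK : gdata.rho 7 = 6 ∧ gdata.lam 7 = 3 ∧ gdata.rho 6 = 7 ∧ gdata.lam 6 = 1 ∧
    gdata.rho 4 = 5 ∧ gdata.lam 4 = 3 ∧ gdata.rho 5 = 4 ∧ gdata.lam 5 = 1 := by decide +kernel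

/-- Graph automorphism of G₂ in characteristic 3 (K perfect): `x_a(t) ↦ x_b(t³)`, `x_b(t) ↦ x_a(t)`, `x_{-a}(t) ↦ x_{-b}(t³)`, `x_{-b}(t) ↦ x_{-a}(t)` extend to an automorphism of the group. -/
theorem result {K : Type*} [Field K] [CharP K 3] (hperf : ∀ x : K, ∃ y : K, y ^ 3 = x) :
    ∃ α : ↥(Cfsg.Lie.chevG2.group K) ≃* ↥(Cfsg.Lie.chevG2.group K), ∀ (g : ↥(Cfsg.Lie.chevG2.group K)) (t : K),
      (((g : GL Cfsg.Lie.chevG2.Idx K) : Matrix _ _ K) = Cfsg.Lie.chevG2.x K Cfsg.Lie.g2a t →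
        ((α g : GL Cfsg.Lie.chevG2.Idx K) : Matrix _ _ K) = Cfsg.Lie.chevG2.x K Cfsg.Lie.g2b (t ^ 3)) ∧
      (((g : GL Cfsg.Lie.chevG2.Idx K) : Matrix _ _ K) = Cfsg.Lie.chevG2.x K Cfsg.Lie.g2b t →
        ((α g : GL Cfsg.Lie.chevG2.Idx K) : Matrix _ _ K) = Cfsg.Lie.chevG2.x K Cfsg.Lie.g2a t) ∧
      (((g : GL Cfsg.Lie.chevG2.Idx K) : Matrix _ _ K) = Cfsg.Lie.chevG2.x K Cfsg.Lie.g2ma t →
        ((α g : GL Cfsg.Lie.chevG2.Idx K) : Matrix _ _ K) = Cfsg.Lie.chevG2.x K Cfsg.Lie.g2mb (t ^ 3)) ∧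
      (((g : GL Cfsg.Lie.chevG2.Idx K) : Matrix _ _ K) = Cfsg.Lie.chevG2.x K Cfsg.Lie.g2mb t →
        ((α g : GL Cfsg.Lie.chevG2.Idx K) : Matrix _ _ K) = Cfsg.Lie.chevG2.x K Cfsg.Lie.g2ma t) := by
  obtain ⟨r7, l7, r6, l6, r4, l4, r5, l5⟩ := tabOK
  refine ⟨MulEquiv.ofBijective (sig (RingHom.id K))
    ⟨sig_injective _, sig_surjective _ (fun x => ⟨x, rfl⟩) hperf⟩, ?_⟩
  intro g t
  refine ⟨fun hg => ?_, fun hg => ?_, fun hg => ?_, fun hg => ?_⟩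
  · have := sig_x (RingHom.id K) g 7 (by decide) t hg
    rw [r7, l7] at this
    exact this
  · have := sig_x (RingHom.id K) g 6 (by decide) t hg
    rw [r6, l6, pow_one] at this
    exact this
  · have := sig_x (RingHom.id K) g 4 (by decide) t hg
    rw [r4, l4] at this
    exact this
  · have := sig_x (RingHom.id K) g 5 (by decide) t hg
    rw [r5, l5, pow_one] at this
    exact this

end Cfsg.Agent.S1099
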