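import Cfsg.Statements.S1118
import Cfsg.Agent.Lib.helper19_RankOne

set_option autoImplicit false
open Cfsg

namespace Cfsg.Agent.S1118

open MulAction Cfsg.Agent.Lib.helper19_RankOne

theorem result {G Ω : Type*} [Group G] [Finite G] [MulAction G Ω] {a : Ω} {t : G} {Q : Subgroup G}
    (hS : Cfsg.IsRankOneSetup G Ω a t Q) :
    (∀ X : Set G, X ⊆ (Q : Set G) → (∃ x ∈ X, x ≠ 1) → Subgroup.normalizer X ≤ MulAction.stabilizer G a) ∧
      Subgroup.normalizer (Q : Set G) = MulAction.stabilizer G a ∧
      Subgroup.normalizer (MulAction.stabilizer G a : Set G) = MulAction.stabilizer G a := by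
  have part1 : ∀ X : Set G, X ⊆ (Q : Set G) → (∃ x ∈ X, x ≠ 1) →
      Subgroup.normalizer X ≤ MulAction.stabilizer G a := by
    intro X hXQ ⟨x, hxX, hx1⟩ g hg
    rw [Subgroup.mem_set_normalizer_iff] at hg
    exact mem_stab_of_conj_mem hS (hXQ hxX) hx1 (hXQ ((hg x).mp hxX))
  refine ⟨part1, ?_, ?_⟩
  · apply le_antisymm
    · obtain ⟨x, hx, hx1⟩ := exists_ne_one hS
      exact part1 _ (le_refl _) ⟨x, hx, hx1⟩
    · intro g hg
      rw [Subgroup.mem_set_normalizer_iff]
      intro h
      constructor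
      · intro hh
        exact hS.conj_mem g hg h hh
      · intro hh
        have := hS.conj_mem g⁻¹ ((stabilizer G a).inv_mem hg) _ hh
        have e : g⁻¹ * (g * h * g⁻¹) * g⁻¹⁻¹ = h := by group
        rwa [e] at this
  · apply le_antisymm
    · intro g hg
      rw [Subgroup.mem_set_normalizer_iff] at hg
      obtain ⟨x, hx, hx1⟩ := exists_ne_one hS
      have h1 : g * x * g⁻¹ ∈ stabilizer G a := (hg x).mp (hS.le hx)
      rw [mem_stabilizer_iff, mul_smul, mul_smul] at h1
      have h2 : x • (g⁻¹ • a) = g⁻¹ • a := by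
        have := congrArg (fun z => g⁻¹ • z) h1
        simpa only [inv_smul_smul] using this
      have h3 := eq_a_of_fixed hS hx hx1 h2
      rw [mem_stabilizer_iff]
      calc g • a = g • (g⁻¹ • a) := by rw [h3]
        _ = a := smul_inv_smul g a
    · exact Subgroup.le_normalizer

end Cfsg.Agent.S1118
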