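import Cfsg.Statements.S1119
import Cfsg.Agent.Lib.helper19_RankOne

set_option autoImplicit false
open Cfsg

namespace Cfsg.Agent.S1119

open MulAction Cfsg.Agent.Lib.helper19_RankOne

theorem result {G Ω : Type*} [Group G] [Finite G] [MulAction G Ω] {a : Ω} {t : G} {Q : Subgroup G}
    (hS : Cfsg.IsRankOneSetup G Ω a t Q) :
    (∀ b c : Ω, b ≠ a → c ≠ a → ∃! x : Q, (x : G) • b = c) ∧
      Nat.card Ω = Nat.card Q + 1 ∧
      Nat.card G = Nat.card Q * Nat.card ↥(MulAction.stabilizer G a ⊓ MulAction.stabilizer G (t • a)) * (Nat.card Q + 1) ∧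
      (∃ P : Sylow 2 G, (P : Subgroup G) ≤ Q) ∧
      ∀ g : G, g ∉ MulAction.stabilizer G a → ∃! p : G × G, p.1 ∈ MulAction.stabilizer G a ∧ p.2 ∈ Q ∧ g = p.1 * t * p.2 := by
  refine ⟨fun b c hb hc => Q_regular hS hb hc, card_Omega hS, card_G hS, ?_, ?_⟩
  · -- Sylow
    have : Fact (Nat.Prime 2) := ⟨Nat.prime_two⟩
    obtain ⟨P0⟩ : Nonempty (Sylow 2 Q) := inferInstance
    have hcard : Nat.card ((P0 : Subgroup Q).map Q.subtype) = 2 ^ (Nat.card G).factorization 2 := by
      rw [Subgroup.card_map_of_injective Q.subtype_injective, P0.card_eq_multiplicity]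
      congr 1
      rw [card_G hS]
      have hQpos : Nat.card Q ≠ 0 := Nat.card_pos.ne'
      have hDpos : Nat.card ↥(stabilizer G a ⊓ stabilizer G (t • a)) ≠ 0 := Nat.card_pos.ne'
      rw [Nat.factorization_mul (Nat.mul_ne_zero hQpos hDpos) (Nat.succ_ne_zero _),
        Nat.factorization_mul hQpos hDpos]
      have h1 : (Nat.card ↥(stabilizer G a ⊓ stabilizer G (t • a))).factorization 2 = 0 := by
        apply Nat.factorization_eq_zero_of_not_dvd
        have := hS.odd_card
        intro h2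
        exact (Nat.not_even_iff_odd.mpr this) (even_iff_two_dvd.mpr h2)
      have h2 : (Nat.card Q + 1).factorization 2 = 0 := by
        apply Nat.factorization_eq_zero_of_not_dvd
        intro h2
        have : Even (Nat.card Q + 1) := even_iff_two_dvd.mpr h2
        have h3 : Odd (Nat.card Q + 1) := hS.even_card.add_one
        exact (Nat.not_even_iff_odd.mpr h3) this
      simp only [Finsupp.coe_add, Pi.add_apply, h1, h2, add_zero]
    refine ⟨Sylow.ofCard _ hcard, ?_⟩
    rw [Sylow.coe_ofCard]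
    intro x hx
    obtain ⟨y, -, rfl⟩ := hx
    exact y.2
  · -- canonical form
    intro g hg
    have hc : g⁻¹ • a ≠ a := by
      intro h
      apply hg
      rw [mem_stabilizer_iff]
      calc g • a = g • (g⁻¹ • a) := by rw [h]
        _ = a := smul_inv_smul g a
    obtain ⟨y, hy, hyu⟩ := Q_regular hS hc (ta_ne hS)
    have hti := t_inv hS
    refine ⟨(g * (y : G)⁻¹ * t, (y : G)), ⟨?_, y.2, ?_⟩, ?_⟩
    · show g * (y : G)⁻¹ * t ∈ stabilizer G a
      rw [mem_stabilizer_iff, mul_smul, mul_smul, ← hy, inv_smul_smul, smul_inv_smul]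
    · show g = g * (y : G)⁻¹ * t * t * (y : G)
      rw [mul_assoc (g * (y : G)⁻¹), hS.mul_self]; group
    · rintro ⟨x', y'⟩ ⟨hx', hy', hg'⟩
      simp only at hx' hy' hg'
      have h1 : y' • (g⁻¹ • a) = t • a := by
        rw [hg', mul_inv_rev, mul_inv_rev, mul_smul, mul_smul, smul_inv_smul, hti]
        congr 1
        exact mem_stabilizer_iff.mp ((stabilizer G a).inv_mem hx')
      have h2 : (⟨y', hy'⟩ : Q) = y := hyu ⟨y', hy'⟩ h1
      have h3 : y' = (y : G) := congrArg Subtype.val h2
      have h4 : x' = g * (y : G)⁻¹ * t := by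
        rw [hg', h3]
        have : x' * t * (y : G) * (y : G)⁻¹ * t = x' * (t * t) := by group
        rw [this, hS.mul_self, mul_one]
      rw [h3, h4]

end Cfsg.Agent.S1119
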