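import Cfsg.Statements.S1120
import Cfsg.Agent.Lib.helper19_RankOne
import Cfsg.Agent.Lib.Helper48_Generation
import Cfsg.Agent.Lib.Helper1_Cores

set_option autoImplicit false
open Cfsg

namespace Cfsg.Agent.S1120

open MulAction Cfsg.Agent.Lib.helper19_RankOne

/-- The centralizer of an involution with a unique fixed point fixes that point. -/
theorem centralizer_le_stab {G Ω : Type*} [Group G] [MulAction G Ω] {v : G} {b : Ω}
    (hb : v • b = b) (huniq : ∀ c : Ω, v • c = c → c = b) :
    Subgroup.centralizer ({v} : Set G) ≤ stabilizer G b := by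
  intro g hg
  rw [Subgroup.mem_centralizer_singleton_iff] at hg
  rw [mem_stabilizer_iff]
  apply huniq
  rw [smul_smul]
  first
    | rw [← hg, mul_smul, hb]
    | rw [hg, mul_smul, hb]

/-- In the rank-one set-up (`G` finite and doubly transitive on `Ω`, `t` an involution moving `a`, `Q` normal in `G_a` with `G_a = Q D`, `Q ⊓ D = 1` for the two-point stabiliser `D = G_a ⊓ G_{t • a}`, `|Q|` even, `|D|` odd), if `G` has 2-rank at least 2 then `O_{2'}(G)` equals the normal core of `G_a`. -/
theorem result {G Ω : Type*} [Group G] [Finite G] [MulAction G Ω] {a : Ω} {t : G} {Q : Subgroup G}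
    (hS : Cfsg.IsRankOneSetup G Ω a t Q)
    (h2 : ∃ x y : G, x ≠ 1 ∧ y ≠ 1 ∧ x ≠ y ∧ x * x = 1 ∧ y * y = 1 ∧ x * y = y * x) :
    Cfsg.pPrimeCore 2 G = (MulAction.stabilizer G a).normalCore := by
  obtain ⟨x, y, hx1, hy1, hxy, hx2, hy2, hcomm⟩ := h2
  have hMn : (Cfsg.pPrimeCore 2 G).Normal := Cfsg.Agent.Lib.Helper1_Cores.pPrimeCore_normal 2
  apply le_antisymm
  · rw [Subgroup.normal_le_normalCore]
    -- the common fixed point
    obtain ⟨b, hxb, hxuniq⟩ := invol_existsUnique_fixed hS hx1 hx2
    have hxuniq' : ∀ c : Ω, x • c = c → c = b := hxuniq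
    have hyb : y • b = b := by
      apply hxuniq'
      rw [smul_smul, hcomm, mul_smul, hxb]
    obtain ⟨b', hyb', hyuniq⟩ := invol_existsUnique_fixed hS hy1 hy2
    have hbb' : b = b' := hyuniq b hyb
    have hyuniq' : ∀ c : Ω, y • c = c → c = b := by
      intro c hc
      rw [hbb']
      exact hyuniq c hc
    have hxy1 : x * y ≠ 1 := by
      intro h
      apply hxy
      have : y = x⁻¹ := (eq_inv_of_mul_eq_one_right h)
      rw [this]
      exact (inv_eq_of_mul_eq_one_right hx2).symm
    have hxy2 : (x * y) * (x * y) = 1 := by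
      calc x * y * (x * y) = x * (y * x) * y := by group
        _ = x * (x * y) * y := by rw [hcomm]
        _ = (x * x) * (y * y) := by group
        _ = 1 := by rw [hx2, hy2, one_mul]
    have hxyb : (x * y) • b = b := by rw [mul_smul, hyb, hxb]
    obtain ⟨b'', hxyb'', hxyuniq⟩ := invol_existsUnique_fixed hS hxy1 hxy2
    have hbb'' : b = b'' := hxyuniq b hxyb
    have hxyuniq' : ∀ c : Ω, (x * y) • c = c → c = b := by
      intro c hc
      rw [hbb'']
      exact hxyuniq c hc
    -- generation
    have : Fact (Nat.Prime 2) := ⟨Nat.prime_two⟩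
    have hMcop : ¬ 2 ∣ Nat.card (Cfsg.pPrimeCore 2 G) := by
      intro h
      have hc := Cfsg.Agent.Lib.Helper1_Cores.pPrimeCore_card_coprime (G := G) 2
      have h3 : 2 ∣ Nat.gcd (Nat.card (Cfsg.pPrimeCore 2 G)) 2 := Nat.dvd_gcd h dvd_rfl
      rw [hc] at h3
      omega
    have hnorm : ∀ g : G, g ∈ Subgroup.normalizer ((Cfsg.pPrimeCore 2 G : Subgroup G) : Set G) := by
      intro g
      rw [Subgroup.normalizer_eq_top]
      trivial
    have hMb : Cfsg.pPrimeCore 2 G ≤ stabilizer G b := by
      refine Cfsg.Agent.Lib.Helper48_Generation.le_of_centralizers_le (p := 2) _ hMcop x y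
        (hnorm x) (hnorm y) ?_ ?_ hcomm _ ?_ ?_
      · rw [pow_two]; exact hx2
      · rw [pow_two]; exact hy2
      · exact inf_le_right.trans (centralizer_le_stab hyb hyuniq')
      · intro i
        refine inf_le_right.trans ?_
        rcases Nat.even_or_odd i with ⟨k, hk⟩ | ⟨k, hk⟩
        · have : y ^ i = 1 := by
            rw [hk, ← two_mul, pow_mul, pow_two, hy2, one_pow]
          rw [this, mul_one]
          exact centralizer_le_stab hxb hxuniq'
        · have : y ^ i = y := by
            rw [hk, pow_succ, pow_mul, pow_two, hy2, one_pow, one_mul]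
          rw [this]
          exact centralizer_le_stab hxyb hxyuniq'
    -- move to `a`
    have := pretrans hS
    obtain ⟨g, hg⟩ := MulAction.exists_smul_eq G a b
    intro m hm
    rw [mem_stabilizer_iff]
    have h1 : g * m * g⁻¹ ∈ Cfsg.pPrimeCore 2 G := hMn.conj_mem m hm g
    have h2 := mem_stabilizer_iff.mp (hMb h1)
    rw [← hg, mul_smul, mul_smul, inv_smul_smul] at h2
    exact smul_left_cancel g h2
  · apply Cfsg.Agent.Lib.Helper1_Cores.le_pPrimeCore (Subgroup.normalCore_normal _)
    -- the core lies in `D`, which has odd order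
    have hle : (stabilizer G a).normalCore ≤ stabilizer G a ⊓ stabilizer G (t • a) := by
      intro n hn
      refine Subgroup.mem_inf.mpr ⟨Subgroup.normalCore_le _ hn, ?_⟩
      rw [mem_stabilizer_iff]
      have h1 : t⁻¹ * n * t⁻¹⁻¹ ∈ (stabilizer G a).normalCore :=
        (Subgroup.normalCore_normal _).conj_mem n hn t⁻¹
      have h2 := mem_stabilizer_iff.mp (Subgroup.normalCore_le _ h1)
      rw [inv_inv, mul_smul, mul_smul] at h2
      have := congrArg (fun c => t • c) h2
      simpa using this
    have hdvd := Subgroup.card_dvd_of_le hle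
    have hodd := hS.odd_card
    rw [Nat.coprime_two_right]
    exact Odd.of_dvd_nat hodd hdvd

end Cfsg.Agent.S1120
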