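import Cfsg.Statements.S1121
import Cfsg.Agent.Lib.helper19_RankOne

set_option autoImplicit false
open Cfsg

namespace Cfsg.Agent.S1121

open MulAction Cfsg.Agent.Lib.helper19_RankOne

theorem result {G Ω : Type*} [Group G] [Finite G] [MulAction G Ω] {a : Ω} {t : G} {Q : Subgroup G}
    (hS : Cfsg.IsRankOneSetup G Ω a t Q) :
    (∀ s u : G, s ∈ MulAction.stabilizer G a → s ≠ 1 → s * s = 1 → u ∉ MulAction.stabilizer G a → u ≠ 1 → u * u = 1 → Odd (orderOf (s * u))) ∧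
      ∀ u v : G, u ≠ 1 → u * u = 1 → v ≠ 1 → v * v = 1 → ∃ g : G, g * u * g⁻¹ = v :=
  ⟨fun _ _ hs hs1 hs2 hu _ hu2 => odd_orderOf_mul hS hs hs1 hs2 hu hu2,
    fun _ _ hu1 hu2 hv1 hv2 => invol_conj hS hu1 hu2 hv1 hv2⟩

end Cfsg.Agent.S1121
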