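import Cfsg.Statements.S1122
import Cfsg.Agent.Lib.helper19_RankOne

set_option autoImplicit false
open Cfsg

namespace Cfsg.Agent.S1122

open MulAction Cfsg.Agent.Lib.helper19_RankOne

theorem result {G Ω : Type*} [Group G] [Finite G] [MulAction G Ω] {a : Ω} {t : G} {Q : Subgroup G}
    (hS : Cfsg.IsRankOneSetup G Ω a t Q) :
    Nat.card (Cfsg.invertedBy (MulAction.stabilizer G a ⊓ MulAction.stabilizer G (t • a)) t) = Nat.card (Cfsg.involutionsIn (MulAction.stabilizer G a : Set G)) ∧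
      ∀ s ∈ Cfsg.involutionsIn (MulAction.stabilizer G a : Set G), ∀ s' ∈ Cfsg.involutionsIn (MulAction.stabilizer G a : Set G),
        ∃ k ∈ Cfsg.invertedBy (MulAction.stabilizer G a ⊓ MulAction.stabilizer G (t • a)) t, k⁻¹ * s * k = s' :=
  ⟨card_invertedBy_eq hS, fun _ hs _ hs' => exists_invertedBy_conj hS hs hs'⟩

end Cfsg.Agent.S1122
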