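import Cfsg.Statements.S1125
import Cfsg.Agent.Lib.helper19_RankOne2

set_option autoImplicit false
open Cfsg

namespace Cfsg.Agent.S1125

open MulAction Cfsg.Agent.Lib.helper19_RankOne Cfsg.Agent.Lib.helper19_RankOne2

/-- there is an involution in `C_Q(X)`. -/
lemma exists_invol_centralizer_Q {G Ω : Type*} [Group G] [Finite G] [MulAction G Ω] {a : Ω} {t : G}
    {Q : Subgroup G} (hS : Cfsg.IsRankOneSetup G Ω a t Q)
    (X : Set G) (hX : X ⊆ ((MulAction.stabilizer G a ⊓ MulAction.stabilizer G (t • a)) : Set G))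
    (h3 : ∃ b c d : Ω, b ≠ c ∧ b ≠ d ∧ c ≠ d ∧ ∀ x ∈ X, x • b = b ∧ x • c = c ∧ x • d = d) :
    ∃ u ∈ Subgroup.centralizer X ⊓ Q, u ≠ 1 ∧ u * u = 1 := by
  obtain ⟨b, c, d, hbc, hbd, hcd, hfix⟩ := h3
  have hXb : ∀ x ∈ X, x • b = b := fun x hx => (hfix x hx).1
  have hXc : ∀ x ∈ X, x • c = c := fun x hx => (hfix x hx).2.1
  have hXd : ∀ x ∈ X, x • d = d := fun x hx => (hfix x hx).2.2
  have hXa : ∀ x ∈ X, x • a = a := fun x hx => mem_stabilizer_iff.mp (hX hx).1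
  have hXta : ∀ x ∈ X, x • (t • a) = t • a := fun x hx => mem_stabilizer_iff.mp (hX hx).2
  -- an element of `C_G(X)` swapping `a` and `t • a`
  obtain ⟨g, hg, hg1, hg2⟩ := centralizer_two_trans hS hbc hbd hcd hXb hXc hXd hXa hXta hXta hXa
    (ta_ne hS).symm (ta_ne hS)
  obtain ⟨m, hm1, hm2⟩ := exists_invol_zpowers_of_swap (ta_ne hS).symm hg1 hg2
  set u := g ^ m with hu
  have huC : u ∈ Subgroup.centralizer X := Subgroup.pow_mem _ hg m
  -- its fixed point is fixed by `X`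
  obtain ⟨f, hf, hfu⟩ := invol_existsUnique_fixed hS hm1 hm2
  have hf' : u • f = f := hf
  have hXf : ∀ x ∈ X, x • f = f := by
    intro x hx
    apply hfu
    show u • (x • f) = x • f
    have h1 : x * u = u * x := Subgroup.mem_centralizer_iff.mp huC x hx
    rw [smul_smul, ← h1, mul_smul, hf']
  by_cases hfa : f = a
  · refine ⟨u, Subgroup.mem_inf.mpr ⟨huC, ?_⟩, hm1, hm2⟩
    apply mem_Q_of_mul_self hS _ hm2
    rw [mem_stabilizer_iff, ← hfa]
    exact hf'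
  · -- move `f` to `a` inside `C_G(X)`
    obtain ⟨h, hh, hh1, -⟩ := centralizer_two_trans hS hbc hbd hcd hXb hXc hXd hXf hXa hXa hXf
      hfa (Ne.symm hfa)
    have hu' : (h * u * h⁻¹) * (h * u * h⁻¹) = 1 := by
      calc (h * u * h⁻¹) * (h * u * h⁻¹) = h * (u * u) * h⁻¹ := by group
        _ = 1 := by rw [hm2]; group
    refine ⟨h * u * h⁻¹, Subgroup.mem_inf.mpr ⟨?_, ?_⟩, ?_, hu'⟩
    · exact Subgroup.mul_mem _ (Subgroup.mul_mem _ hh huC) (Subgroup.inv_mem _ hh)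
    · apply mem_Q_of_mul_self hS _ hu'
      rw [mem_stabilizer_iff, mul_smul, mul_smul, ← hh1, inv_smul_smul, hf']
    · intro h1
      apply hm1
      calc u = h⁻¹ * (h * u * h⁻¹) * h := by group
        _ = 1 := by rw [h1]; group

theorem result {G Ω : Type*} [Group G] [Finite G] [MulAction G Ω] {a : Ω} {t : G} {Q : Subgroup G}
    (hS : Cfsg.IsRankOneSetup G Ω a t Q)
    (X : Set G) (hX : X ⊆ ((MulAction.stabilizer G a ⊓ MulAction.stabilizer G (t • a)) : Set G))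
    (h3 : ∃ b c d : Ω, b ≠ c ∧ b ≠ d ∧ c ≠ d ∧ ∀ x ∈ X, x • b = b ∧ x • c = c ∧ x • d = d) :
    (∀ b₁ b₂ c₁ c₂ : Ω, (∀ x ∈ X, x • b₁ = b₁ ∧ x • b₂ = b₂ ∧ x • c₁ = c₁ ∧ x • c₂ = c₂) →
        b₁ ≠ b₂ → c₁ ≠ c₂ → ∃ g ∈ Subgroup.centralizer X, g • b₁ = c₁ ∧ g • b₂ = c₂) ∧
      Even (Nat.card ↥(Subgroup.centralizer X ⊓ Q)) ∧
      (Subgroup.centralizer X ⊓ Q) ⊔ (Subgroup.centralizer X ⊓ (MulAction.stabilizer G a ⊓ MulAction.stabilizer G (t • a))) = Subgroup.centralizer X ⊓ MulAction.stabilizer G a := by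
  have h3' := h3
  obtain ⟨b, c, d, hbc, hbd, hcd, hfix⟩ := h3
  have hXb : ∀ x ∈ X, x • b = b := fun x hx => (hfix x hx).1
  have hXc : ∀ x ∈ X, x • c = c := fun x hx => (hfix x hx).2.1
  have hXd : ∀ x ∈ X, x • d = d := fun x hx => (hfix x hx).2.2
  have hXa : ∀ x ∈ X, x • a = a := fun x hx => mem_stabilizer_iff.mp (hX hx).1
  have hXta : ∀ x ∈ X, x • (t • a) = t • a := fun x hx => mem_stabilizer_iff.mp (hX hx).2
  refine ⟨?_, ?_, ?_⟩
  · intro b₁ b₂ c₁ c₂ hall hb hc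
    exact centralizer_two_trans hS hbc hbd hcd hXb hXc hXd (fun x hx => (hall x hx).1)
      (fun x hx => (hall x hx).2.1) (fun x hx => (hall x hx).2.2.1) (fun x hx => (hall x hx).2.2.2) hb hc
  · obtain ⟨u, hu, hu1, hu2⟩ := exists_invol_centralizer_Q hS X hX h3'
    have h2 : orderOf u = 2 := orderOf_eq_prime (by rw [pow_two]; exact hu2) hu1
    have := Subgroup.orderOf_dvd_natCard _ hu
    rw [h2] at this
    exact even_iff_two_dvd.mpr this
  · apply le_antisymm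
    · apply sup_le
      · exact inf_le_inf_left _ hS.le
      · exact inf_le_inf_left _ inf_le_left
    · intro g hg
      obtain ⟨hgC, hga⟩ := Subgroup.mem_inf.mp hg
      have hga' : g • a = a := mem_stabilizer_iff.mp hga
      have hgb : g • (t • a) ≠ a := by
        intro h
        have h' : g • (t • a) = g • a := h.trans hga'.symm
        exact ta_ne hS (smul_left_cancel g h')
      obtain ⟨q, hqQ, hqC, hq⟩ := exists_Q_centralizer_smul hS hXa hXta
        (centralizer_smul_fixed hgC hXta) (ta_ne hS) hgb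
      have h1 : g = q * (q⁻¹ * g) := by group
      rw [h1]
      apply Subgroup.mul_mem
      · exact Subgroup.mem_sup_left (Subgroup.mem_inf.mpr ⟨hqC, hqQ⟩)
      · apply Subgroup.mem_sup_right
        refine Subgroup.mem_inf.mpr ⟨Subgroup.mul_mem _ (Subgroup.inv_mem _ hqC) hgC, ?_⟩
        refine Subgroup.mem_inf.mpr ⟨?_, ?_⟩
        · rw [mem_stabilizer_iff, mul_smul, hga', Q_smul_a hS (Q.inv_mem hqQ)]
        · rw [mem_stabilizer_iff, mul_smul, ← hq, inv_smul_smul]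

end Cfsg.Agent.S1125
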