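import Cfsg.Statements.S1126
import Cfsg.Agent.S1125

set_option autoImplicit false
open Cfsg

namespace Cfsg.Agent.S1126

open MulAction Cfsg.Agent.Lib.helper19_RankOne Cfsg.Agent.Lib.helper19_RankOne2

/-- there is an involution in `C_G(X)` taking `a` to `t • a`. -/
lemma exists_invol_centralizer_swap {G Ω : Type*} [Group G] [Finite G] [MulAction G Ω] {a : Ω} {t : G}
    {Q : Subgroup G} (hS : Cfsg.IsRankOneSetup G Ω a t Q)
    (X : Set G) (hX : X ⊆ ((MulAction.stabilizer G a ⊓ MulAction.stabilizer G (t • a)) : Set G))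
    (h3 : ∃ b c d : Ω, b ≠ c ∧ b ≠ d ∧ c ≠ d ∧ ∀ x ∈ X, x • b = b ∧ x • c = c ∧ x • d = d) :
    ∃ w ∈ Subgroup.centralizer X, w * w = 1 ∧ w • a = t • a := by
  obtain ⟨u, hu, hu1, hu2⟩ := Cfsg.Agent.S1125.exists_invol_centralizer_Q hS X hX h3
  obtain ⟨huC, huQ⟩ := Subgroup.mem_inf.mp hu
  obtain ⟨b, c, d, hbc, hbd, hcd, hfix⟩ := h3
  have hXb : ∀ x ∈ X, x • b = b := fun x hx => (hfix x hx).1
  have hXc : ∀ x ∈ X, x • c = c := fun x hx => (hfix x hx).2.1
  have hXd : ∀ x ∈ X, x • d = d := fun x hx => (hfix x hx).2.2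
  have hXa : ∀ x ∈ X, x • a = a := fun x hx => mem_stabilizer_iff.mp (hX hx).1
  have hXta : ∀ x ∈ X, x • (t • a) = t • a := fun x hx => mem_stabilizer_iff.mp (hX hx).2
  -- `e = u • (t • a)` is a fixed point of `X` different from `t • a`
  have hXe : ∀ x ∈ X, x • (u • (t • a)) = u • (t • a) := centralizer_smul_fixed huC hXta
  have he : t • a ≠ u • (t • a) := by
    intro h
    exact ta_ne hS (eq_a_of_fixed hS huQ hu1 h.symm)
  obtain ⟨h, hh, hh1, hh2⟩ := centralizer_two_trans hS hbc hbd hcd hXb hXc hXd hXta hXe hXa hXta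
    he (ta_ne hS).symm
  refine ⟨h * u * h⁻¹, ?_, ?_, ?_⟩
  · exact Subgroup.mul_mem _ (Subgroup.mul_mem _ hh huC) (Subgroup.inv_mem _ hh)
  · calc (h * u * h⁻¹) * (h * u * h⁻¹) = h * (u * u) * h⁻¹ := by group
      _ = 1 := by rw [hu2]; group
  · have h4 : h⁻¹ • a = t • a := by rw [inv_smul_eq_iff, hh1]
    rw [mul_smul, mul_smul, h4, hh2]

theorem result {G Ω : Type*} [Group G] [Finite G] [MulAction G Ω] {a : Ω} {t : G} {Q : Subgroup G}
    (hS : Cfsg.IsRankOneSetup G Ω a t Q)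
    (X : Set G) (hX : X ⊆ ((MulAction.stabilizer G a ⊓ MulAction.stabilizer G (t • a)) : Set G))
    (h3 : ∃ b c d : Ω, b ≠ c ∧ b ≠ d ∧ c ≠ d ∧ ∀ x ∈ X, x • b = b ∧ x • c = c ∧ x • d = d) :
    ∃ k ∈ (MulAction.stabilizer G a ⊓ MulAction.stabilizer G (t • a)), ∀ x ∈ X, (k * x * k⁻¹) * t = t * (k * x * k⁻¹) := by
  obtain ⟨w, hwC, hw2, hwa⟩ := exists_invol_centralizer_swap hS X hX h3
  have hti := t_inv hS
  have htt := hS.mul_self
  have hwi : w⁻¹ = w := inv_eq_self_of_mul_self hw2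
  have hwb : w • (t • a) = a := by rw [← hwa, smul_smul, hw2, one_smul]
  -- `k₀ = t w ∈ K`
  set k₀ := t * w with hk₀
  have hk₀D : k₀ ∈ stabilizer G a ⊓ stabilizer G (t • a) := by
    refine Subgroup.mem_inf.mpr ⟨?_, ?_⟩
    · rw [mem_stabilizer_iff, hk₀, mul_smul, hwa, t_ta hS]
    · rw [mem_stabilizer_iff, hk₀, mul_smul, hwb]
  have hk₀I : t * k₀ * t = k₀⁻¹ := by
    rw [hk₀, mul_inv_rev, hti, hwi]
    calc t * (t * w) * t = (t * t) * w * t := by group
      _ = w * t := by rw [htt, one_mul]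
  -- square root of `k₀` in `D`
  obtain ⟨j, hj⟩ := hS.odd_card
  set e := k₀ ^ (j + 1) with he
  have heD : e ∈ stabilizer G a ⊓ stabilizer G (t • a) := Subgroup.pow_mem _ hk₀D _
  have he2 : e * e = k₀ := by
    have := Cfsg.Agent.S1124.sq_pow_eq hj hk₀D
    rwa [pow_two] at this
  have heI : t * e * t = e⁻¹ := by
    have h1 : t * k₀ * t⁻¹ = k₀⁻¹ := by rw [hti]; exact hk₀I
    have h2 : t * e * t⁻¹ = e⁻¹ := by
      rw [he, ← inv_pow, ← h1]
      exact (conj_pow (a := t) (b := k₀) (i := j + 1)).symm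
    rwa [hti] at h2
  have hw : w = e⁻¹ * t * e := by
    have h1 : t * e⁻¹ * t = e := by
      calc t * e⁻¹ * t = (t * e * t)⁻¹ := by rw [mul_inv_rev, mul_inv_rev, hti, mul_assoc]
        _ = e := by rw [heI, inv_inv]
    symm
    calc e⁻¹ * t * e = (t * t) * e⁻¹ * t * e := by rw [htt, one_mul]
      _ = t * (t * e⁻¹ * t) * e := by group
      _ = t * e * e := by rw [h1]
      _ = t * (e * e) := by group
      _ = t * k₀ := by rw [he2]
      _ = (t * t) * w := by rw [hk₀]; group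
      _ = w := by rw [htt, one_mul]
  refine ⟨e, heD, ?_⟩
  intro x hx
  have hxw : x * w = w * x := Subgroup.mem_centralizer_iff.mp hwC x hx
  calc (e * x * e⁻¹) * t = e * (x * (e⁻¹ * t * e)) * e⁻¹ := by group
    _ = e * ((e⁻¹ * t * e) * x) * e⁻¹ := by rw [← hw, hxw]
    _ = t * (e * x * e⁻¹) := by group

end Cfsg.Agent.S1126
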