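import Cfsg.Statements.S1127
import Cfsg.Agent.Lib.helper19_RankOne2

set_option autoImplicit false
open Cfsg

namespace Cfsg.Agent.S1127

open MulAction Cfsg.Agent.Lib.helper19_RankOne Cfsg.Agent.Lib.helper19_RankOne2

theorem result {G Ω : Type*} [Group G] [Finite G] [MulAction G Ω] {a : Ω} {t : G} {Q : Subgroup G}
    (hS : Cfsg.IsRankOneSetup G Ω a t Q) :
    (∀ s r : G, s ∈ Cfsg.involutionsIn (MulAction.stabilizer G a : Set G) → r ∈ Q → t * s * t = r⁻¹ * t * r →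
        (MulAction.stabilizer G a ⊓ MulAction.stabilizer G (t • a)) ⊓ Subgroup.centralizer {t} = (MulAction.stabilizer G a ⊓ MulAction.stabilizer G (t • a)) ⊓ Subgroup.centralizer {s}) ∧
      (MulAction.stabilizer G a ⊓ MulAction.stabilizer G (t • a)) ⊓ Subgroup.centralizer {t} ⊓ Subgroup.centralizer (Cfsg.invertedBy (MulAction.stabilizer G a ⊓ MulAction.stabilizer G (t • a)) t) =
        (MulAction.stabilizer G a ⊓ MulAction.stabilizer G (t • a)) ⊓ Subgroup.centralizer (Cfsg.involutionsIn (MulAction.stabilizer G a : Set G)) := by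
  refine ⟨fun s r hs hr heq => centralizer_t_eq_centralizer_s hS hs hr heq, ?_⟩
  obtain ⟨⟨s0, r0⟩, ⟨hs0, hr0, heq0⟩, -⟩ := Cfsg.Agent.S1123.result hS
  simp only at hs0 hr0 heq0
  have E := centralizer_t_eq_centralizer_s hS hs0 hr0 heq0
  have hti := t_inv hS
  apply le_antisymm
  · intro d hd
    obtain ⟨hd1, hdK⟩ := Subgroup.mem_inf.mp hd
    have hdD : d ∈ stabilizer G a ⊓ stabilizer G (t • a) := (Subgroup.mem_inf.mp hd1).1
    rw [E] at hd1
    have hds0 : s0 * d = d * s0 := Subgroup.mem_centralizer_iff.mp (Subgroup.mem_inf.mp hd1).2 s0 rfl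
    refine Subgroup.mem_inf.mpr ⟨hdD, ?_⟩
    rw [Subgroup.mem_centralizer_iff]
    intro s' hs'
    obtain ⟨k, hk, hks⟩ := exists_invertedBy_conj hS hs0 hs'
    have hdk : k * d = d * k := Subgroup.mem_centralizer_iff.mp hdK k hk
    have hdk' : k⁻¹ * d = d * k⁻¹ := by
      calc k⁻¹ * d = k⁻¹ * (d * k) * k⁻¹ := by group
        _ = k⁻¹ * (k * d) * k⁻¹ := by rw [hdk]
        _ = d * k⁻¹ := by group
    calc s' * d = k⁻¹ * s0 * (k * d) := by rw [← hks]; group
      _ = k⁻¹ * (s0 * d) * k := by rw [hdk]; group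
      _ = (k⁻¹ * d) * s0 * k := by rw [hds0]; group
      _ = d * (k⁻¹ * s0 * k) := by rw [hdk']; group
      _ = d * s' := by rw [hks]
  · intro d hd
    obtain ⟨hdD, hdJ⟩ := Subgroup.mem_inf.mp hd
    have hdJ' : ∀ s' ∈ Cfsg.involutionsIn (stabilizer G a : Set G), s' * d = d * s' :=
      Subgroup.mem_centralizer_iff.mp hdJ
    have hds0 : s0 * d = d * s0 := hdJ' s0 hs0
    have hd1 : d ∈ (stabilizer G a ⊓ stabilizer G (t • a)) ⊓ Subgroup.centralizer {t} := by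
      rw [E]
      refine Subgroup.mem_inf.mpr ⟨hdD, ?_⟩
      rw [Subgroup.mem_centralizer_iff]
      intro h hh
      rw [Set.mem_singleton_iff] at hh
      subst hh
      exact hds0
    have hdt : t * d = d * t := Subgroup.mem_centralizer_iff.mp (Subgroup.mem_inf.mp hd1).2 t rfl
    refine Subgroup.mem_inf.mpr ⟨hd1, ?_⟩
    rw [Subgroup.mem_centralizer_iff]
    intro k hk
    -- `k' = d k d⁻¹ ∈ K`
    have hk' : d * k * d⁻¹ ∈ Cfsg.invertedBy (stabilizer G a ⊓ stabilizer G (t • a)) t := by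
      refine ⟨Subgroup.mul_mem _ (Subgroup.mul_mem _ hdD hk.1) (Subgroup.inv_mem _ hdD), ?_⟩
      have hdt' : t * d⁻¹ = d⁻¹ * t := by
        calc t * d⁻¹ = d⁻¹ * (d * t) * d⁻¹ := by group
          _ = d⁻¹ * (t * d) * d⁻¹ := by rw [hdt]
          _ = d⁻¹ * t := by group
      calc t * (d * k * d⁻¹) * t⁻¹ = (t * d) * k * d⁻¹ * t⁻¹ := by group
        _ = d * (t * k * t⁻¹) * (t * d⁻¹) * t⁻¹ := by rw [hdt]; group
        _ = d * k⁻¹ * (d⁻¹ * t) * t⁻¹ := by rw [hk.2, hdt']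
        _ = (d * k * d⁻¹)⁻¹ := by group
    have hs' : k⁻¹ * s0 * k ∈ Cfsg.involutionsIn (stabilizer G a : Set G) :=
      conj_mem_involutionsIn hs0 hk.1.1
    have hds' := hdJ' _ hs'
    have e1 : (d * k * d⁻¹)⁻¹ * s0 * (d * k * d⁻¹) = k⁻¹ * s0 * k := by
      have hds0' : d⁻¹ * s0 * d = s0 := by
        calc d⁻¹ * s0 * d = d⁻¹ * (s0 * d) := by group
          _ = s0 := by rw [hds0]; group
      calc (d * k * d⁻¹)⁻¹ * s0 * (d * k * d⁻¹) = d * k⁻¹ * (d⁻¹ * s0 * d) * k * d⁻¹ := by group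
        _ = d * (k⁻¹ * s0 * k) * d⁻¹ := by rw [hds0']; group
        _ = (k⁻¹ * s0 * k * d) * d⁻¹ := by rw [hds']
        _ = k⁻¹ * s0 * k := by group
    have e2 : d * k * d⁻¹ = k := conj_invertedBy_injective hS hs0 hk' hk e1
    calc k * d = (d * k * d⁻¹) * d := by rw [e2]
      _ = d * k := by group

end Cfsg.Agent.S1127
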