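import Cfsg.Statements.S1128
import Cfsg.Agent.S1126

set_option autoImplicit false
open Cfsg

namespace Cfsg.Agent.S1128

open MulAction Cfsg.Agent.Lib.helper19_RankOne Cfsg.Agent.Lib.helper19_RankOne2

theorem result {G Ω : Type*} [Group G] [Finite G] [MulAction G Ω] [FaithfulSMul G Ω] {a : Ω} {t : G} {Q : Subgroup G}
    (hS : Cfsg.IsRankOneSetup G Ω a t Q)
    (h2 : ∃ x y : G, x ≠ 1 ∧ y ≠ 1 ∧ x ≠ y ∧ x * x = 1 ∧ y * y = 1 ∧ x * y = y * x)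
    (x : G) (hx : x ∈ Cfsg.invertedBy (MulAction.stabilizer G a ⊓ MulAction.stabilizer G (t • a)) t) (hx1 : x ≠ 1) :
    Q ⊓ Subgroup.centralizer {x} = ⊥ := by
  rw [eq_bot_iff]
  intro y hy
  rw [Subgroup.mem_bot]
  by_contra hy1
  obtain ⟨hyQ, hyC⟩ := Subgroup.mem_inf.mp hy
  have hxy : x * y = y * x := Subgroup.mem_centralizer_iff.mp hyC x rfl
  obtain ⟨hxD, hxI⟩ := hx
  have hxa : x • a = a := mem_stabilizer_iff.mp hxD.1
  have hxb : x • (t • a) = t • a := mem_stabilizer_iff.mp hxD.2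
  have hti := t_inv hS
  -- `{x}` fixes the three points `a`, `t • a`, `y • t • a`
  have hc1 : y • (t • a) ≠ a := Q_smul_ta_ne hS hyQ
  have hc2 : y • (t • a) ≠ t • a := fun h => ta_ne hS (eq_a_of_fixed hS hyQ hy1 h)
  have hxc : x • (y • (t • a)) = y • (t • a) := by
    rw [smul_smul, hxy, mul_smul, hxb]
  have hX : ({x} : Set G) ⊆ ((MulAction.stabilizer G a ⊓ MulAction.stabilizer G (t • a)) : Set G) := by
    intro z hz
    rw [Set.mem_singleton_iff] at hz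
    subst hz
    exact hxD
  obtain ⟨k, hkD, hk⟩ := Cfsg.Agent.S1126.result hS {x} hX
    ⟨a, t • a, y • (t • a), (ta_ne hS).symm, hc1.symm, hc2.symm, by
      intro z hz
      rw [Set.mem_singleton_iff] at hz
      subst hz
      exact ⟨hxa, hxb, hxc⟩⟩
  have hk' := hk x rfl
  -- `k' = t k t⁻¹ ∈ D`
  have hk'D : t * k * t⁻¹ ∈ stabilizer G a ⊓ stabilizer G (t • a) := t_conj_mem_D hS hkD
  have e1 : t * (k * x * k⁻¹) * t⁻¹ = k * x * k⁻¹ := by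
    calc t * (k * x * k⁻¹) * t⁻¹ = (t * (k * x * k⁻¹)) * t⁻¹ := by group
      _ = ((k * x * k⁻¹) * t) * t⁻¹ := by rw [hk']
      _ = k * x * k⁻¹ := by group
  have e2 : t * (k * x * k⁻¹) * t⁻¹ = (t * k * t⁻¹) * x⁻¹ * (t * k * t⁻¹)⁻¹ := by
    calc t * (k * x * k⁻¹) * t⁻¹ = (t * k * t⁻¹) * (t * x * t⁻¹) * (t * k * t⁻¹)⁻¹ := by group
      _ = (t * k * t⁻¹) * x⁻¹ * (t * k * t⁻¹)⁻¹ := by rw [hxI]
  have e3 : ((t * k * t⁻¹)⁻¹ * k) * x * ((t * k * t⁻¹)⁻¹ * k)⁻¹ = x⁻¹ := by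
    calc ((t * k * t⁻¹)⁻¹ * k) * x * ((t * k * t⁻¹)⁻¹ * k)⁻¹
        = (t * k * t⁻¹)⁻¹ * (k * x * k⁻¹) * (t * k * t⁻¹) := by group
      _ = (t * k * t⁻¹)⁻¹ * ((t * k * t⁻¹) * x⁻¹ * (t * k * t⁻¹)⁻¹) * (t * k * t⁻¹) := by
          rw [← e2, e1]
      _ = x⁻¹ := by group
  exact hx1 (eq_one_of_conj_eq_inv hS.odd_card
    (Subgroup.mul_mem _ (Subgroup.inv_mem _ hk'D) hkD) hxD e3)

end Cfsg.Agent.S1128
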