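import Cfsg.Statements.S1129
import Cfsg.Agent.S1128
import Cfsg.Agent.Lib.Helper1_Thompson

set_option autoImplicit false
open Cfsg

namespace Cfsg.Agent.S1129

open MulAction Cfsg.Agent.Lib.helper19_RankOne Cfsg.Agent.Lib.helper19_RankOne2

/-- With two distinct commuting involutions in `G`, the point stabiliser `G_a` contains two distinct
involutions (which commute). -/
theorem exists_two_invol {G Ω : Type*} [Group G] [Finite G] [MulAction G Ω] {a : Ω} {t : G}
    {Q : Subgroup G} (hS : Cfsg.IsRankOneSetup G Ω a t Q)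
    (h2 : ∃ x y : G, x ≠ 1 ∧ y ≠ 1 ∧ x ≠ y ∧ x * x = 1 ∧ y * y = 1 ∧ x * y = y * x) :
    ∃ s s' : G, s ∈ Cfsg.involutionsIn (stabilizer G a : Set G) ∧
      s' ∈ Cfsg.involutionsIn (stabilizer G a : Set G) ∧ s ≠ s' ∧ s * s' = s' * s := by
  obtain ⟨x, y, hx1, hy1, hxy, hx2, hy2, hcomm⟩ := h2
  obtain ⟨s0, hs0Q, hs01, hs02⟩ := exists_invol_Q hS
  obtain ⟨g, hg⟩ := invol_conj hS hx1 hx2 hs01 hs02
  have hs0G : s0 ∈ stabilizer G a := hS.le hs0Q
  have hy' : (g * y * g⁻¹) * (g * y * g⁻¹) = 1 := by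
    calc (g * y * g⁻¹) * (g * y * g⁻¹) = g * (y * y) * g⁻¹ := by group
      _ = 1 := by rw [hy2]; group
  have hy'1 : g * y * g⁻¹ ≠ 1 := by
    intro h
    apply hy1
    calc y = g⁻¹ * (g * y * g⁻¹) * g := by group
      _ = 1 := by rw [h]; group
  have hc : (g * y * g⁻¹) * s0 = s0 * (g * y * g⁻¹) := by
    rw [← hg]
    calc (g * y * g⁻¹) * (g * x * g⁻¹) = g * (y * x) * g⁻¹ := by group
      _ = g * (x * y) * g⁻¹ := by rw [hcomm]
      _ = (g * x * g⁻¹) * (g * y * g⁻¹) := by group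
  have hyG : g * y * g⁻¹ ∈ stabilizer G a := mem_stab_of_commute_invol hS hs0G hs01 hs02 hc
  refine ⟨s0, g * y * g⁻¹, ⟨hs0G, hs01, hs02⟩, ⟨hyG, hy'1, hy'⟩, ?_, hc.symm⟩
  intro h
  apply hxy
  have : g * x * g⁻¹ = g * y * g⁻¹ := hg.trans h
  calc x = g⁻¹ * (g * x * g⁻¹) * g := by group
    _ = g⁻¹ * (g * y * g⁻¹) * g := by rw [this]
    _ = y := by group

/-- There is an element of prime order in `D` inverted by `t`. -/
theorem exists_prime_inverted {G Ω : Type*} [Group G] [Finite G] [MulAction G Ω] {a : Ω} {t : G}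
    {Q : Subgroup G} (hS : Cfsg.IsRankOneSetup G Ω a t Q)
    (h2 : ∃ x y : G, x ≠ 1 ∧ y ≠ 1 ∧ x ≠ y ∧ x * x = 1 ∧ y * y = 1 ∧ x * y = y * x) :
    ∃ (k : G) (r : ℕ), r.Prime ∧ orderOf k = r ∧
      k ∈ Cfsg.invertedBy (stabilizer G a ⊓ stabilizer G (t • a)) t := by
  obtain ⟨s, s', hs, hs', hne, -⟩ := exists_two_invol hS h2
  obtain ⟨k, hkK, hk⟩ := exists_invertedBy_conj hS hs hs'
  have hk1 : k ≠ 1 := by
    intro h
    apply hne
    rw [← hk, h]; group
  have hn1 : orderOf k ≠ 1 := fun h => hk1 (orderOf_eq_one_iff.mp h)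
  have hpos : 0 < orderOf k := orderOf_pos k
  set n := orderOf k with hn
  have hr : (n.minFac).Prime := Nat.minFac_prime hn1
  have hdvd : n.minFac ∣ n := Nat.minFac_dvd n
  refine ⟨k ^ (n / n.minFac), n.minFac, hr, ?_, ?_⟩
  · have := orderOf_pow_orderOf_div (x := k) (n := n.minFac) (by omega) hdvd
    simpa [hn] using this
  · obtain ⟨hkD, hkI⟩ := hkK
    refine ⟨Subgroup.pow_mem _ hkD _, ?_⟩
    show t * k ^ (n / n.minFac) * t⁻¹ = (k ^ (n / n.minFac))⁻¹
    rw [← conj_pow, hkI, inv_pow]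

theorem result {G Ω : Type*} [Group G] [Finite G] [MulAction G Ω] [FaithfulSMul G Ω] {a : Ω} {t : G} {Q : Subgroup G}
    (hS : Cfsg.IsRankOneSetup G Ω a t Q)
    (h2 : ∃ x y : G, x ≠ 1 ∧ y ≠ 1 ∧ x ≠ y ∧ x * x = 1 ∧ y * y = 1 ∧ x * y = y * x) :
    Group.IsNilpotent Q := by
  obtain ⟨k, r, hr, hkr, hkK⟩ := exists_prime_inverted hS h2
  have hk1 : k ≠ 1 := by
    intro h
    rw [h, orderOf_one] at hkr
    exact hr.one_lt.ne hkr
  have hkG : k ∈ stabilizer G a := hkK.1.1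
  have hkG' : k⁻¹ ∈ stabilizer G a := Subgroup.inv_mem _ hkG
  have hfix := Cfsg.Agent.S1128.result hS h2 k hkK hk1
  let φ : Q ≃* Q :=
    { toFun := fun q => ⟨k * q * k⁻¹, hS.conj_mem k hkG q q.2⟩
      invFun := fun q => ⟨k⁻¹ * q * k, by
        have := hS.conj_mem k⁻¹ hkG' q q.2
        rwa [inv_inv] at this⟩
      left_inv := by
        intro q
        apply Subtype.ext
        show k⁻¹ * (k * q * k⁻¹) * k = q
        group
      right_inv := by
        intro q
        apply Subtype.ext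
        show k * (k⁻¹ * q * k) * k⁻¹ = q
        group
      map_mul' := by
        intro p q
        apply Subtype.ext
        show k * ((p : G) * q) * k⁻¹ = (k * p * k⁻¹) * (k * q * k⁻¹)
        group }
  have hφ : ∀ q : Q, ((φ q : Q) : G) = k * q * k⁻¹ := fun q => rfl
  have hiter : ∀ (j : ℕ) (q : Q), (((φ^[j]) q : Q) : G) = k ^ j * q * (k ^ j)⁻¹ := by
    intro j
    induction j with
    | zero => intro q; simp
    | succ j ih =>
      intro q
      rw [Function.iterate_succ_apply', hφ, ih, pow_succ']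
      group
  have hfpf : Cfsg.Agent.Lib.Helper1_FPFAut.FPF r φ := by
    refine ⟨?_, ?_⟩
    · intro q hq
      have h1 : k * (q : G) * k⁻¹ = q := by rw [← hφ, hq]
      have h2' : (q : G) ∈ Q ⊓ Subgroup.centralizer {k} := by
        refine Subgroup.mem_inf.mpr ⟨q.2, ?_⟩
        rw [Subgroup.mem_centralizer_iff]
        intro z hz
        rw [Set.mem_singleton_iff] at hz
        subst hz
        calc z * (q : G) = (z * q * z⁻¹) * z := by group
          _ = q * z := by rw [h1]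
      rw [hfix, Subgroup.mem_bot] at h2'
      exact Subtype.ext h2'
    · intro q
      apply Subtype.ext
      rw [hiter, ← hkr, pow_orderOf_eq_one]
      group
  exact Cfsg.Agent.Lib.Helper1_Thompson.thompson hr φ hfpf

end Cfsg.Agent.S1129
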