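import Mathlib
import Cfsg.Statements.S1130
import Cfsg.Agent.S1129

set_option autoImplicit false
open Cfsg

namespace Cfsg.Agent.S1130

open MulAction Cfsg.Agent.Lib.helper19_RankOne Cfsg.Agent.Lib.helper19_RankOne2
open scoped commutatorElement

/-- A non-trivial normal subgroup of a nilpotent group meets the centre non-trivially. -/
theorem exists_mem_center_of_normal {H : Type*} [Group H] [hn : Group.IsNilpotent H]
    (N : Subgroup H) [hNn : N.Normal] (hN : N ≠ ⊥) : ∃ x ∈ N, x ≠ 1 ∧ x ∈ Subgroup.center H := by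
  classical
  obtain ⟨n, hn⟩ := hn.nilpotent'
  have hex : ∃ i, N ⊓ Subgroup.upperCentralSeries H i ≠ ⊥ := ⟨n, by rw [hn, inf_top_eq]; exact hN⟩
  have hmin := fun m => Nat.find_min hex (m := m)
  have hspec := Nat.find_spec hex
  have hi0 : Nat.find hex ≠ 0 := by
    intro h0
    rw [h0, Subgroup.upperCentralSeries_zero, inf_bot_eq] at hspec
    exact hspec rfl
  obtain ⟨j, hj⟩ := Nat.exists_eq_succ_of_ne_zero hi0
  have hjbot : N ⊓ Subgroup.upperCentralSeries H j = ⊥ := by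
    by_contra h
    exact hmin j (by omega) h
  rw [hj] at hspec
  obtain ⟨⟨x, hx⟩, hx1⟩ := (Subgroup.ne_bot_iff_exists_ne_one).mp hspec
  have hx1' : x ≠ 1 := fun h => hx1 (Subtype.ext h)
  obtain ⟨hxN, hxZ⟩ := Subgroup.mem_inf.mp hx
  refine ⟨x, hxN, hx1', ?_⟩
  rw [Subgroup.mem_center_iff]
  intro g
  have h1 : ⁅x, g⁆ ∈ Subgroup.upperCentralSeries H j :=
    Subgroup.mem_upperCentralSeries_succ_iff.mp hxZ g
  have h2 : ⁅x, g⁆ ∈ N := by
    rw [commutatorElement_def]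
    have : g * x⁻¹ * g⁻¹ ∈ N := hNn.conj_mem _ (N.inv_mem hxN) g
    have h3 : x * g * x⁻¹ * g⁻¹ = x * (g * x⁻¹ * g⁻¹) := by group
    rw [h3]
    exact N.mul_mem hxN this
  have h3 : ⁅x, g⁆ ∈ N ⊓ Subgroup.upperCentralSeries H j := Subgroup.mem_inf.mpr ⟨h2, h1⟩
  rw [hjbot, Subgroup.mem_bot, commutatorElement_def] at h3
  calc g * x = (x * g * x⁻¹ * g⁻¹)⁻¹ * (x * g) := by group
    _ = x * g := by rw [h3]; group

/-- A nilpotent finite group of even order has a central involution. -/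
theorem exists_central_invol {H : Type*} [Group H] [Finite H] [hn : Group.IsNilpotent H]
    (heven : Even (Nat.card H)) : ∃ z ∈ Subgroup.center H, z ≠ 1 ∧ z * z = 1 := by
  have : Fact (Nat.Prime 2) := ⟨Nat.prime_two⟩
  obtain ⟨P⟩ : Nonempty (Sylow 2 H) := inferInstance
  have hPne : (P : Subgroup H) ≠ ⊥ := P.ne_bot_of_dvd_card (even_iff_two_dvd.mp heven)
  obtain ⟨x, hxP, hx1, hxZ⟩ := exists_mem_center_of_normal (P : Subgroup H) hPne
  obtain ⟨j, hj⟩ := (P.isPGroup'.exists_orderOf_eq_pow (⟨x, hxP⟩ : (P : Subgroup H)))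
  have hj' : orderOf x = 2 ^ j := by
    rw [← hj]
    exact (Subgroup.orderOf_coe (⟨x, hxP⟩ : (P : Subgroup H)))
  have hj0 : j ≠ 0 := by
    intro h0
    rw [h0, pow_zero, orderOf_eq_one_iff] at hj'
    exact hx1 hj'
  obtain ⟨i, rfl⟩ := Nat.exists_eq_succ_of_ne_zero hj0
  refine ⟨x ^ (2 ^ i), Subgroup.pow_mem _ hxZ _, ?_, ?_⟩
  · intro h
    have hdvd : orderOf x ∣ 2 ^ i := orderOf_dvd_of_pow_eq_one h
    rw [hj'] at hdvd
    have := Nat.le_of_dvd (by positivity) hdvd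
    rw [pow_succ] at this
    have hpos : 0 < 2 ^ i := by positivity
    omega
  · rw [← pow_add, ← two_mul, ← pow_succ', ← hj', pow_orderOf_eq_one]

theorem result {G Ω : Type*} [Group G] [Finite G] [MulAction G Ω] [FaithfulSMul G Ω] {a : Ω} {t : G} {Q : Subgroup G}
    (hS : Cfsg.IsRankOneSetup G Ω a t Q)
    (h2 : ∃ x y : G, x ≠ 1 ∧ y ≠ 1 ∧ x ≠ y ∧ x * x = 1 ∧ y * y = 1 ∧ x * y = y * x) :
    (∀ s ∈ Cfsg.involutionsIn (MulAction.stabilizer G a : Set G), s ∈ Q ∧ ∀ x ∈ Q, s * x = x * s) ∧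
      ∀ s ∈ Cfsg.involutionsIn (MulAction.stabilizer G a : Set G), ∀ s' ∈ Cfsg.involutionsIn (MulAction.stabilizer G a : Set G),
        s * s' = 1 ∨ s * s' ∈ Cfsg.involutionsIn (MulAction.stabilizer G a : Set G) := by
  have hnil : Group.IsNilpotent Q := Cfsg.Agent.S1129.result hS h2
  obtain ⟨z, hzZ, hz1, hz2⟩ := exists_central_invol (H := Q) hS.even_card
  have hz1' : (z : G) ≠ 1 := fun h => hz1 (Subtype.ext h)
  have hz2' : (z : G) * z = 1 := congrArg Subtype.val hz2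
  have hzinv : (z : G) ∈ Cfsg.involutionsIn (stabilizer G a : Set G) := ⟨hS.le z.2, hz1', hz2'⟩
  have hzc : ∀ x ∈ Q, (z : G) * x = x * z := by
    intro x hx
    have := Subgroup.mem_center_iff.mp hzZ ⟨x, hx⟩
    exact (congrArg Subtype.val this).symm
  have key : ∀ s ∈ Cfsg.involutionsIn (stabilizer G a : Set G), s ∈ Q ∧ ∀ x ∈ Q, s * x = x * s := by
    intro s hs
    refine ⟨mem_Q_of_mul_self hS hs.1 hs.2.2, ?_⟩
    obtain ⟨k, hkK, hk⟩ := exists_invertedBy_conj hS hzinv hs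
    have hkG : k ∈ stabilizer G a := hkK.1.1
    intro x hx
    have hx' : k * x * k⁻¹ ∈ Q := hS.conj_mem k hkG x hx
    rw [← hk]
    calc k⁻¹ * (z : G) * k * x = k⁻¹ * ((z : G) * (k * x * k⁻¹)) * k := by group
      _ = k⁻¹ * ((k * x * k⁻¹) * z) * k := by rw [hzc _ hx']
      _ = x * (k⁻¹ * (z : G) * k) := by group
  refine ⟨key, ?_⟩
  intro s hs s' hs'
  by_cases h1 : s * s' = 1
  · exact Or.inl h1
  · right
    refine ⟨Subgroup.mul_mem _ hs.1 hs'.1, h1, ?_⟩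
    have hc := (key s hs).2 s' (key s' hs').1
    calc s * s' * (s * s') = s * (s' * s) * s' := by group
      _ = s * (s * s') * s' := by rw [hc]
      _ = (s * s) * (s' * s') := by group
      _ = 1 := by rw [hs.2.2, hs'.2.2, one_mul]

end Cfsg.Agent.S1130
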