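import Cfsg.Statements.S1134
import Cfsg.Agent.Lib.helper19_RankOne2

set_option autoImplicit false
open Cfsg

namespace Cfsg.Agent.S1134

open MulAction Cfsg.Agent.Lib.helper19_RankOne Cfsg.Agent.Lib.helper19_RankOne2

/-- two involutions whose product has odd order are conjugate by a power of the product. -/
lemma exists_pow_conj {H : Type*} [Group H] {s u : H} (hs : s * s = 1) (hu : u * u = 1)
    (hodd : Odd (orderOf (s * u))) : ∃ n : ℕ, (s * u) ^ n * s * ((s * u) ^ n)⁻¹ = u := by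
  obtain ⟨k, hk⟩ := hodd
  set w := s * u with hw
  have h1 : s * w * s⁻¹ = w⁻¹ := conj_mul_eq_inv hs hu
  have h2 : s * w ^ k * s⁻¹ = (w ^ k)⁻¹ := by rw [← inv_pow, ← h1, conj_pow]
  have h3 : s * (w ^ k)⁻¹ = w ^ k * s := by
    have : s * (w ^ k)⁻¹ * s⁻¹ = w ^ k := by
      have := congrArg (fun z => z⁻¹) h2
      simp only [mul_inv_rev, inv_inv] at this
      rw [← mul_assoc] at this
      exact this
    calc s * (w ^ k)⁻¹ = (s * (w ^ k)⁻¹ * s⁻¹) * s := by group
      _ = w ^ k * s := by rw [this]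
  have h4 : w ^ k * w ^ k = w⁻¹ := by
    have : w ^ k * w ^ k * w = 1 := by
      rw [← pow_add, ← pow_succ, ← two_mul, ← hk]; exact pow_orderOf_eq_one w
    exact eq_inv_of_mul_eq_one_left this
  refine ⟨k, ?_⟩
  calc w ^ k * s * (w ^ k)⁻¹ = w ^ k * (s * (w ^ k)⁻¹) := by group
    _ = w ^ k * w ^ k * s := by rw [h3]; group
    _ = w⁻¹ * s := by rw [h4]
    _ = u := by
      rw [hw, mul_inv_rev, inv_eq_self_of_mul_self hs, inv_eq_self_of_mul_self hu, mul_assoc, hs,
        mul_one]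

/-- In the rank-one set-up (`G` finite and doubly transitive on `Ω`, `t` an involution moving `a`, `Q` normal in `G_a` with `G_a = Q D`, `Q ⊓ D = 1` for the two-point stabiliser `D = G_a ⊓ G_{t • a}`, `|Q|` even, `|D|` odd), with the action faithful and `G` containing two distinct commuting involutions, with `V = C_D(t)`: subsets of `V` conjugate in `G` are conjugate in `V`. -/
theorem result {G Ω : Type*} [Group G] [Finite G] [MulAction G Ω] [FaithfulSMul G Ω] {a : Ω} {t : G} {Q : Subgroup G}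
    (hS : Cfsg.IsRankOneSetup G Ω a t Q)
    (h2 : ∃ x y : G, x ≠ 1 ∧ y ≠ 1 ∧ x ≠ y ∧ x * x = 1 ∧ y * y = 1 ∧ x * y = y * x)
    (X : Set G) (hX : X ⊆ (((MulAction.stabilizer G a ⊓ MulAction.stabilizer G (t • a)) ⊓ Subgroup.centralizer {t} : Subgroup G) : Set G)) (g : G)
    (hY : (fun x => g * x * g⁻¹) '' X ⊆ (((MulAction.stabilizer G a ⊓ MulAction.stabilizer G (t • a)) ⊓ Subgroup.centralizer {t} : Subgroup G) : Set G)) :
    ∃ v ∈ (MulAction.stabilizer G a ⊓ MulAction.stabilizer G (t • a)) ⊓ Subgroup.centralizer {t}, (fun x => v * x * v⁻¹) '' X = (fun x => g * x * g⁻¹) '' X := by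
  classical
  have hti := t_inv hS
  -- the fixed point of `t`
  obtain ⟨c, hc, hcu⟩ := invol_existsUnique_fixed hS hS.ne_one hS.mul_self
  have hc' : t • c = c := hc
  have hca : c ≠ a := by
    rintro rfl
    exact ta_ne hS hc'
  have hcb : c ≠ t • a := by
    intro h
    have h1 : t • c = a := by rw [h, t_ta hS]
    rw [hc'] at h1
    exact hca h1
  -- elements of `V` fix `a`, `t • a`, `c`
  have hVfix : ∀ v ∈ (((MulAction.stabilizer G a ⊓ MulAction.stabilizer G (t • a)) ⊓ Subgroup.centralizer {t} : Subgroup G)),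
      v • a = a ∧ v • (t • a) = t • a ∧ v • c = c := by
    intro v hv
    obtain ⟨hvD, hvt⟩ := Subgroup.mem_inf.mp hv
    obtain ⟨hva, hvb⟩ := Subgroup.mem_inf.mp hvD
    refine ⟨mem_stabilizer_iff.mp hva, mem_stabilizer_iff.mp hvb, ?_⟩
    apply hcu
    show t • (v • c) = v • c
    have h1 : t * v = v * t := Subgroup.mem_centralizer_iff.mp hvt t rfl
    rw [smul_smul, h1, mul_smul, hc']
  have hXa : ∀ x ∈ X, x • a = a := fun x hx => (hVfix x (hX hx)).1
  have hXb : ∀ x ∈ X, x • (t • a) = t • a := fun x hx => (hVfix x (hX hx)).2.1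
  have hXc : ∀ x ∈ X, x • c = c := fun x hx => (hVfix x (hX hx)).2.2
  have hYa : ∀ x ∈ X, x • (g⁻¹ • a) = g⁻¹ • a := by
    intro x hx
    have h1 := (hVfix _ (hY ⟨x, hx, rfl⟩)).1
    rw [mul_smul, mul_smul] at h1
    rw [eq_inv_smul_iff]
    exact h1
  have hYb : ∀ x ∈ X, x • (g⁻¹ • (t • a)) = g⁻¹ • (t • a) := by
    intro x hx
    have h1 := (hVfix _ (hY ⟨x, hx, rfl⟩)).2.1
    rw [mul_smul, mul_smul] at h1
    rw [eq_inv_smul_iff]
    exact h1
  have hne : g⁻¹ • a ≠ g⁻¹ • (t • a) := by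
    intro h
    exact ta_ne hS (smul_left_cancel _ h).symm
  obtain ⟨h, hh, hha, hhb⟩ := centralizer_two_trans hS (ta_ne hS).symm hca.symm hcb.symm hXa hXb hXc
    hYa hYb hXa hXb hne (ta_ne hS).symm
  have hhx : ∀ x ∈ X, h⁻¹ * x * h = x := by
    intro x hx
    have h1 : x * h = h * x := Subgroup.mem_centralizer_iff.mp hh x hx
    calc h⁻¹ * x * h = h⁻¹ * (x * h) := by group
      _ = x := by rw [h1]; group
  set g' := g * h⁻¹ with hg'
  have hg'x : ∀ x ∈ X, g' * x * g'⁻¹ = g * x * g⁻¹ := by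
    intro x hx
    calc g' * x * g'⁻¹ = g * (h⁻¹ * x * h) * g⁻¹ := by rw [hg']; group
      _ = g * x * g⁻¹ := by rw [hhx x hx]
  have hg'a : g' • a = a := by
    rw [hg', mul_smul]
    have : h⁻¹ • a = g⁻¹ • a := by rw [inv_smul_eq_iff, hha]
    rw [this, smul_inv_smul]
  have hg'b : g' • (t • a) = t • a := by
    rw [hg', mul_smul]
    have : h⁻¹ • (t • a) = g⁻¹ • (t • a) := by rw [inv_smul_eq_iff, hhb]
    rw [this, smul_inv_smul]
  have hg'D : g' ∈ MulAction.stabilizer G a ⊓ MulAction.stabilizer G (t • a) :=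
    Subgroup.mem_inf.mpr ⟨mem_stabilizer_iff.mpr hg'a, mem_stabilizer_iff.mpr hg'b⟩
  -- the second involution
  set t' := g'⁻¹ * t * g' with ht'
  have ht'2 : t' * t' = 1 := by
    calc t' * t' = g'⁻¹ * (t * t) * g' := by rw [ht']; group
      _ = 1 := by rw [hS.mul_self]; group
  have htX : ∀ x ∈ X, x * t = t * x := by
    intro x hx
    have h1 := (Subgroup.mem_inf.mp (hX hx)).2
    exact (Subgroup.mem_centralizer_iff.mp h1 t rfl).symm
  have ht'X : ∀ x ∈ X, x * t' = t' * x := by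
    intro x hx
    have h1 := (Subgroup.mem_inf.mp (hY ⟨x, hx, rfl⟩)).2
    have h2 : t * (g * x * g⁻¹) = (g * x * g⁻¹) * t := Subgroup.mem_centralizer_iff.mp h1 t rfl
    rw [← hg'x x hx] at h2
    calc x * t' = g'⁻¹ * ((g' * x * g'⁻¹) * t) * g' := by rw [ht']; group
      _ = g'⁻¹ * (t * (g' * x * g'⁻¹)) * g' := by rw [h2]
      _ = t' * x := by rw [ht']; group
  set w := t * t' with hw
  have hwD : w ∈ MulAction.stabilizer G a ⊓ MulAction.stabilizer G (t • a) := by
    have h1 : w = (t * g'⁻¹ * t⁻¹) * g' := by rw [hw, ht', hti]; group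
    rw [h1]
    exact Subgroup.mul_mem _ (t_conj_mem_D hS (Subgroup.inv_mem _ hg'D)) hg'D
  have hwX : ∀ x ∈ X, x * w = w * x := by
    intro x hx
    calc x * w = (x * t) * t' := by rw [hw]; group
      _ = t * (x * t') := by rw [htX x hx]; group
      _ = w * x := by rw [ht'X x hx, hw]; group
  have hwodd : Odd (orderOf w) := by
    have h1 : orderOf w ∣ Nat.card ↥(MulAction.stabilizer G a ⊓ MulAction.stabilizer G (t • a)) :=
      Subgroup.orderOf_dvd_natCard _ hwD
    exact Odd.of_dvd_nat hS.odd_card h1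
  obtain ⟨n, hn⟩ := exists_pow_conj hS.mul_self ht'2 hwodd
  set y := w ^ n with hy
  have hyD : y ∈ MulAction.stabilizer G a ⊓ MulAction.stabilizer G (t • a) := Subgroup.pow_mem _ hwD n
  have hyX : ∀ x ∈ X, y * x * y⁻¹ = x := by
    intro x hx
    have h1 : ∀ m : ℕ, x * w ^ m = w ^ m * x := by
      intro m
      induction m with
      | zero => simp
      | succ m ih =>
        calc x * w ^ (m + 1) = (x * w ^ m) * w := by rw [pow_succ]; group
          _ = w ^ m * (x * w) := by rw [ih]; group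
          _ = w ^ (m + 1) * x := by rw [hwX x hx, pow_succ]; group
    calc y * x * y⁻¹ = (w ^ n * x) * (w ^ n)⁻¹ := by rw [hy]
      _ = x := by rw [← h1 n]; group
  refine ⟨g' * y, Subgroup.mem_inf.mpr ⟨Subgroup.mul_mem _ hg'D hyD, ?_⟩, ?_⟩
  · rw [Subgroup.mem_centralizer_iff]
    intro z hz
    rw [Set.mem_singleton_iff] at hz
    subst hz
    -- `(g' y) t (g' y)⁻¹ = t`
    have h1 : g' * y * z * (g' * y)⁻¹ = z := by
      calc g' * y * z * (g' * y)⁻¹ = g' * (y * z * y⁻¹) * g'⁻¹ := by group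
        _ = g' * t' * g'⁻¹ := by rw [hn]
        _ = z := by rw [ht']; group
    calc z * (g' * y) = (g' * y * z * (g' * y)⁻¹)  * (g' * y) := by rw [h1]
      _ = g' * y * z := by group
  · apply Set.image_congr
    intro x hx
    calc g' * y * x * (g' * y)⁻¹ = g' * (y * x * y⁻¹) * g'⁻¹ := by group
      _ = g' * x * g'⁻¹ := by rw [hyX x hx]
      _ = g * x * g⁻¹ := hg'x x hx

end Cfsg.Agent.S1134
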