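import Cfsg.Statements.S1135
import Cfsg.Agent.S1122
import Cfsg.Agent.S1130
import Cfsg.Agent.Lib.helper19_RankOne2

set_option autoImplicit false
open Cfsg

namespace Cfsg.Agent.S1135

open MulAction Cfsg.Agent.Lib.helper19_RankOne Cfsg.Agent.Lib.helper19_RankOne2

section
variable {G Ω : Type*} [Group G] [Finite G] [MulAction G Ω] {a : Ω} {t : G} {Q : Subgroup G}

/-- two involutions with the same fixed point commute (given that involutions of `G_a` commute). -/
lemma fixed_ne (hS : Cfsg.IsRankOneSetup G Ω a t Q)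
    (hcomm : ∀ s ∈ Cfsg.involutionsIn (MulAction.stabilizer G a : Set G),
      ∀ s' ∈ Cfsg.involutionsIn (MulAction.stabilizer G a : Set G), s * s' = s' * s)
    {u v : G} (hu1 : u ≠ 1) (hu2 : u * u = 1) (hv1 : v ≠ 1) (hv2 : v * v = 1)
    (hx : (u * v) * (u * v) ≠ 1) {c : Ω} (hcu : u • c = c) (hcv : v • c = c) : False := by
  have := pretrans hS
  obtain ⟨g, hg⟩ := exists_smul_eq G c a
  have hg' : g⁻¹ • a = c := by rw [← hg, inv_smul_smul]
  have hconj : ∀ w : G, w ≠ 1 → w * w = 1 → w • c = c →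
      g * w * g⁻¹ ∈ Cfsg.involutionsIn (MulAction.stabilizer G a : Set G) := by
    intro w hw1 hw2 hwc
    refine ⟨?_, ?_, ?_⟩
    · show g * w * g⁻¹ ∈ MulAction.stabilizer G a
      rw [mem_stabilizer_iff, mul_smul, mul_smul, hg', hwc, hg]
    · intro h
      apply hw1
      calc w = g⁻¹ * (g * w * g⁻¹) * g := by group
        _ = 1 := by rw [h]; group
    · calc g * w * g⁻¹ * (g * w * g⁻¹) = g * (w * w) * g⁻¹ := by group
        _ = 1 := by rw [hw2]; group
  have h1 := hcomm _ (hconj u hu1 hu2 hcu) _ (hconj v hv1 hv2 hcv)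
  have h2 : u * v = v * u := by
    calc u * v = g⁻¹ * ((g * u * g⁻¹) * (g * v * g⁻¹)) * g := by group
      _ = g⁻¹ * ((g * v * g⁻¹) * (g * u * g⁻¹)) * g := by rw [h1]
      _ = v * u := by group
  apply hx
  calc u * v * (u * v) = u * (v * u) * v := by group
    _ = u * (u * v) * v := by rw [h2]
    _ = (u * u) * (v * v) := by group
    _ = 1 := by rw [hu2, hv2, one_mul]

omit [Finite G] [MulAction G Ω] in
/-- conjugates of involutions are involutions. -/
lemma conj_invol {g w : G} (hw1 : w ≠ 1) (hw2 : w * w = 1) :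
    g * w * g⁻¹ ≠ 1 ∧ (g * w * g⁻¹) * (g * w * g⁻¹) = 1 := by
  constructor
  · intro h
    apply hw1
    calc w = g⁻¹ * (g * w * g⁻¹) * g := by group
      _ = 1 := by rw [h]; group
  · calc g * w * g⁻¹ * (g * w * g⁻¹) = g * (w * w) * g⁻¹ := by group
      _ = 1 := by rw [hw2]; group

/-- conjugacy of a strongly real element to `u' t`. -/
lemma conj_part (hS : Cfsg.IsRankOneSetup G Ω a t Q)
    (hcomm : ∀ s ∈ Cfsg.involutionsIn (MulAction.stabilizer G a : Set G),
      ∀ s' ∈ Cfsg.involutionsIn (MulAction.stabilizer G a : Set G), s * s' = s' * s)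
    (u v : G) (hu1 : u ≠ 1) (hu2 : u * u = 1) (hv1 : v ≠ 1) (hv2 : v * v = 1)
    (hx : (u * v) * (u * v) ≠ 1) :
    ∃ g : G, ∃ u' ∈ Cfsg.involutionsIn (MulAction.stabilizer G a : Set G),
      g * (u * v) * g⁻¹ = u' * t := by
  obtain ⟨cu, hcu, -⟩ := invol_existsUnique_fixed hS hu1 hu2
  obtain ⟨cv, hcv, -⟩ := invol_existsUnique_fixed hS hv1 hv2
  obtain ⟨c, hc, -⟩ := invol_existsUnique_fixed hS hS.ne_one hS.mul_self
  have hcu' : u • cu = cu := hcu
  have hcv' : v • cv = cv := hcv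
  have hc' : t • c = c := hc
  have hne : cu ≠ cv := by
    rintro rfl
    exact fixed_ne hS hcomm hu1 hu2 hv1 hv2 hx hcu' hcv'
  have hca : c ≠ a := by
    rintro rfl
    exact ta_ne hS hc'
  obtain ⟨g₁, hg₁u, hg₁v⟩ := two_trans hS hne hca.symm
  have hg₁u' : g₁⁻¹ • a = cu := by rw [← hg₁u, inv_smul_smul]
  have hg₁v' : g₁⁻¹ • c = cv := by rw [← hg₁v, inv_smul_smul]
  set u₁ := g₁ * u * g₁⁻¹ with hu₁
  set v₁ := g₁ * v * g₁⁻¹ with hv₁
  have hu₁a : u₁ • a = a := by
    rw [hu₁, mul_smul, mul_smul, hg₁u', hcu', hg₁u]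
  have hv₁c : v₁ • c = c := by
    rw [hv₁, mul_smul, mul_smul, hg₁v', hcv', hg₁v]
  obtain ⟨hu₁1, hu₁2⟩ := conj_invol (g := g₁) hu1 hu2
  obtain ⟨hv₁1, hv₁2⟩ := conj_invol (g := g₁) hv1 hv2
  rw [← hu₁] at hu₁1 hu₁2
  rw [← hv₁] at hv₁1 hv₁2
  -- move `c` to `a` by `p = t r⁻¹`
  obtain ⟨r, hrQ, hr⟩ := exists_Q_smul_ta hS hca
  have hra : r • a = a := Q_smul_a hS hrQ
  have hr' : r⁻¹ • c = t • a := by rw [← hr, inv_smul_smul]
  have hra' : r⁻¹ • a = a := by rw [inv_smul_eq_iff, hra]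
  set p := t * r⁻¹ with hp
  have hpc : p • c = a := by rw [hp, mul_smul, hr', t_ta hS]
  have hpc' : p⁻¹ • a = c := by rw [← hpc, inv_smul_smul]
  have hpa : p • a = t • a := by rw [hp, mul_smul, hra']
  have hpa' : p⁻¹ • (t • a) = a := by rw [← hpa, inv_smul_smul]
  -- the two involutions of `G_a`
  have hmem : ∀ w : G, w ≠ 1 → w * w = 1 → w • c = c →
      p * w * p⁻¹ ∈ Cfsg.involutionsIn (MulAction.stabilizer G a : Set G) := by
    intro w hw1 hw2 hwc
    obtain ⟨h1, h2⟩ := conj_invol (g := p) hw1 hw2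
    refine ⟨?_, h1, h2⟩
    show p * w * p⁻¹ ∈ MulAction.stabilizer G a
    rw [mem_stabilizer_iff, mul_smul, mul_smul, hpc', hwc, hpc]
  obtain ⟨k, hk, hks⟩ := (Cfsg.Agent.S1122.result hS).2 _ (hmem v₁ hv₁1 hv₁2 hv₁c) _
    (hmem t hS.ne_one hS.mul_self hc')
  obtain ⟨hkD, -⟩ := hk
  have hkb : k • (t • a) = t • a := mem_stabilizer_iff.mp (Subgroup.mem_inf.mp hkD).2
  have hkb' : k⁻¹ • (t • a) = t • a := by rw [inv_smul_eq_iff, hkb]
  set d := p⁻¹ * k⁻¹ * p with hd
  have hdv : d * v₁ * d⁻¹ = t := by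
    calc d * v₁ * d⁻¹ = p⁻¹ * (k⁻¹ * (p * v₁ * p⁻¹) * k) * p := by rw [hd]; group
      _ = p⁻¹ * (p * t * p⁻¹) * p := by rw [hks]
      _ = t := by group
  have hda : d • a = a := by
    rw [hd, mul_smul, mul_smul, hpa, hkb', hpa']
  have hda' : d⁻¹ • a = a := by rw [inv_smul_eq_iff, hda]
  obtain ⟨h1, h2⟩ := conj_invol (g := d) hu₁1 hu₁2
  refine ⟨d * g₁, d * u₁ * d⁻¹, ⟨?_, h1, h2⟩, ?_⟩
  · show d * u₁ * d⁻¹ ∈ MulAction.stabilizer G a
    rw [mem_stabilizer_iff, mul_smul, mul_smul, hda', hu₁a, hda]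
  · calc d * g₁ * (u * v) * (d * g₁)⁻¹ = (d * (g₁ * u * g₁⁻¹) * d⁻¹) * (d * (g₁ * v * g₁⁻¹) * d⁻¹) := by
          group
      _ = d * u₁ * d⁻¹ * t := by rw [← hu₁, ← hv₁, hdv]

/-- the centralizer of a strongly real element of order `> 2` has odd order. -/
lemma odd_part (hS : Cfsg.IsRankOneSetup G Ω a t Q)
    (hcomm : ∀ s ∈ Cfsg.involutionsIn (MulAction.stabilizer G a : Set G),
      ∀ s' ∈ Cfsg.involutionsIn (MulAction.stabilizer G a : Set G), s * s' = s' * s)
    (u v : G) (hu1 : u ≠ 1) (hu2 : u * u = 1) (hv1 : v ≠ 1) (hv2 : v * v = 1)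
    (hx : (u * v) * (u * v) ≠ 1) :
    Odd (Nat.card ↥(Subgroup.centralizer {u * v})) := by
  classical
  by_contra hodd
  rw [Nat.not_odd_iff_even] at hodd
  have : Fact (Nat.Prime 2) := ⟨Nat.prime_two⟩
  obtain ⟨w', hw'⟩ := exists_prime_orderOf_dvd_card' (G := ↥(Subgroup.centralizer {u * v})) 2
    (even_iff_two_dvd.mp hodd)
  set w : G := (w' : G) with hw
  have hwC : w ∈ Subgroup.centralizer {u * v} := w'.2
  have hw1 : w ≠ 1 := by
    intro h
    have : w' = 1 := Subtype.ext h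
    rw [this, orderOf_one] at hw'
    exact absurd hw' (by decide)
  have hw2 : w * w = 1 := by
    have h2 : w' ^ 2 = 1 := by rw [← hw']; exact pow_orderOf_eq_one w'
    have := congrArg Subtype.val h2
    rw [pow_two] at this
    exact this
  have hwx : (u * v) * w = w * (u * v) := Subgroup.mem_centralizer_iff.mp hwC _ rfl
  have := finite_Omega hS
  have : Fintype Ω := Fintype.ofFinite Ω
  obtain ⟨cu, hcu, hcuu⟩ := invol_existsUnique_fixed hS hu1 hu2
  obtain ⟨cw, hcw, hcwu⟩ := invol_existsUnique_fixed hS hw1 hw2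
  have hcu' : u • cu = cu := hcu
  have hcw' : w • cw = cw := hcw
  -- the fixed points of `x = u v`
  let F := {f : Ω // (u * v) • f = f}
  have hxinv : (u * v)⁻¹ = v * u := by
    rw [mul_inv_rev, inv_eq_self_of_mul_self hu2, inv_eq_self_of_mul_self hv2]
  have hFu : ∀ f : Ω, (u * v) • f = f → (u * v) • (u • f) = u • f := by
    intro f hf
    have h1 : (v * u) • f = f := by rw [← hxinv, inv_smul_eq_iff, hf]
    calc (u * v) • (u • f) = u • ((v * u) • f) := by simp only [mul_smul]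
      _ = u • f := by rw [h1]
  have hFw : ∀ f : Ω, (u * v) • f = f → (u * v) • (w • f) = w • f := by
    intro f hf
    rw [smul_smul, hwx, mul_smul, hf]
  let σu : Function.End F := fun f => ⟨u • f.1, hFu f.1 f.2⟩
  let σw : Function.End F := fun f => ⟨w • f.1, hFw f.1 f.2⟩
  have hσu : σu ^ 2 ^ 1 = 1 := by
    rw [pow_one, pow_two]
    funext f
    apply Subtype.ext
    show u • u • f.1 = f.1
    rw [smul_smul, hu2, one_smul]
  have hσw : σw ^ 2 ^ 1 = 1 := by
    rw [pow_one, pow_two]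
    funext f
    apply Subtype.ext
    show w • w • f.1 = f.1
    rw [smul_smul, hw2, one_smul]
  have h1 := Equiv.Perm.card_fixedPoints_modEq (p := 2) (n := 1) hσu
  have h2 := Equiv.Perm.card_fixedPoints_modEq (p := 2) (n := 1) hσw
  -- `σu` has no fixed point
  have h3 : Fintype.card (Function.fixedPoints σu) = 0 := by
    rw [Fintype.card_eq_zero_iff]
    constructor
    rintro ⟨f, hf⟩
    have hf' : u • f.1 = f.1 := congrArg Subtype.val hf
    have hfc : f.1 = cu := hcuu _ hf'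
    have hxc : (u * v) • cu = cu := hfc ▸ f.2
    have hvc : v • cu = cu := by
      have : u • (v • cu) = u • cu := by rw [← mul_smul, hxc, hcu']
      exact smul_left_cancel u this
    exact fixed_ne hS hcomm hu1 hu2 hv1 hv2 hx hcu' hvc
  -- `σw` has exactly one fixed point
  have hcwF : (u * v) • cw = cw := by
    apply hcwu
    show w • ((u * v) • cw) = (u * v) • cw
    rw [smul_smul, ← hwx, mul_smul, hcw']
  have h4 : Fintype.card (Function.fixedPoints σw) = 1 := by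
    rw [Fintype.card_eq_one_iff]
    refine ⟨⟨⟨cw, hcwF⟩, ?_⟩, ?_⟩
    · show σw ⟨cw, hcwF⟩ = ⟨cw, hcwF⟩
      apply Subtype.ext
      exact hcw'
    · rintro ⟨f, hf⟩
      apply Subtype.ext
      apply Subtype.ext
      have hf' : w • f.1 = f.1 := congrArg Subtype.val hf
      exact hcwu _ hf'
  rw [h3] at h1
  rw [h4] at h2
  have h5 : (0 : ℕ) ≡ 1 [MOD 2] := h1.symm.trans h2
  exact absurd h5 (by decide)

end

/-- In the rank-one set-up (`G` finite and doubly transitive on `Ω`, `t` an involution moving `a`, `Q` normal in `G_a` with `G_a = Q D`, `Q ⊓ D = 1` for the two-point stabiliser `D = G_a ⊓ G_{t • a}`, `|Q|` even, `|D|` odd), with the action faithful and `G` containing two distinct commuting involutions: if `x = u v` with `u, v` involutions and `x² ≠ 1`, then `x` is conjugate to `u' t` for some involution `u'` of `G_a`, and `|C_G(x)|` is odd. -/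
theorem result {G Ω : Type*} [Group G] [Finite G] [MulAction G Ω] [FaithfulSMul G Ω] {a : Ω} {t : G} {Q : Subgroup G}
    (hS : Cfsg.IsRankOneSetup G Ω a t Q)
    (h2 : ∃ x y : G, x ≠ 1 ∧ y ≠ 1 ∧ x ≠ y ∧ x * x = 1 ∧ y * y = 1 ∧ x * y = y * x)
    (u v : G) (hu1 : u ≠ 1) (hu2 : u * u = 1) (hv1 : v ≠ 1) (hv2 : v * v = 1) (hx : (u * v) * (u * v) ≠ 1) :
    (∃ g : G, ∃ u' ∈ Cfsg.involutionsIn (MulAction.stabilizer G a : Set G), g * (u * v) * g⁻¹ = u' * t) ∧
      Odd (Nat.card ↥(Subgroup.centralizer {u * v})) := by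
  have hcomm : ∀ s ∈ Cfsg.involutionsIn (MulAction.stabilizer G a : Set G),
      ∀ s' ∈ Cfsg.involutionsIn (MulAction.stabilizer G a : Set G), s * s' = s' * s := by
    intro s hs s' hs'
    have h1 := (Cfsg.Agent.S1130.result hS h2).1
    exact (h1 s hs).2 s' (h1 s' hs').1
  exact ⟨conj_part hS hcomm u v hu1 hu2 hv1 hv2 hx, odd_part hS hcomm u v hu1 hu2 hv1 hv2 hx⟩

end Cfsg.Agent.S1135
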