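import Cfsg.Statements.S1138
-- import your own Cfsg.Agent.* helpers here
import Cfsg.Agent.Lib.Helper9_HigMain

set_option autoImplicit false
set_option linter.style.haveILetI false
open Cfsg

namespace Cfsg.Agent.S1138

open Cfsg.Agent.Lib.Helper9_HigBase in
/-- Let `P` be a Suzuki 2-group with `|Z(P)| = q`. Then every square lies in `Z(P)` and `P/Z(P)` is abelian (so elementary abelian), `|P| = q²` or `|P| = q³`, and `P` has exponent 4. -/
theorem result {P : Type*} [Group P] (hP : Cfsg.IsSuzukiTwoGroup P) :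
    (∀ x : P, x * x ∈ Subgroup.center P) ∧ (∀ x y : P, x⁻¹ * y⁻¹ * x * y ∈ Subgroup.center P) ∧
      (Nat.card P = Nat.card (Subgroup.center P) ^ 2 ∨ Nat.card P = Nat.card (Subgroup.center P) ^ 3) ∧
      Monoid.exponent P = 4 := by
  obtain ⟨hfin, hp, hnab, ⟨x₀, y₀, hxy₀, hx₀1, hx₀2, hy₀1, hy₀2⟩, K, hKc, hreg⟩ := hP
  haveI := hfin
  letI : CommGroup K := IsCyclic.commGroup
  have hHig : IsHig K.subtype :=
    { fin := hfin
      pgroup := hp
      reg := hreg
      ex := ⟨x₀, hx₀1, hx₀2⟩ }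
  have hK : ∃ k : K, k ≠ 1 := by
    obtain ⟨k, hk, -⟩ := hreg x₀ y₀ hx₀1 hx₀2 hy₀1 hy₀2
    refine ⟨k, ?_⟩
    intro h1
    apply hxy₀
    rw [← hk, h1]
    rfl
  obtain ⟨h1, h2, h3, h4⟩ := higman K.subtype hHig hK hnab
  have hcard : Nat.card (Subgroup.center P) = Nat.card (Om P) := by
    apply Nat.card_congr
    exact Equiv.subtypeEquivRight h3
  refine ⟨fun x => (h3 _).mpr (h1 x), fun x y => (h3 _).mpr (h2 x y), ?_, ?_⟩
  · rw [hcard]
    exact h4
  · have hdvd : Monoid.exponent P ∣ 4 := by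
      apply Monoid.exponent_dvd_of_forall_pow_eq_one
      intro x
      rw [show (4 : ℕ) = 2 * 2 from rfl, pow_mul, pow_two, pow_two]
      exact Om_sq (h1 x)
    have hndvd : ¬ Monoid.exponent P ∣ 2 := by
      intro h2dvd
      obtain ⟨a, b, hab⟩ := hnab
      apply hab
      have hb : b * b = 1 := by
        rw [← pow_two]
        obtain ⟨c, hc⟩ := h2dvd
        rw [hc, pow_mul, Monoid.pow_exponent_eq_one, one_pow]
      exact Om_comm ((hHig.mem_Om_iff b).mpr hb) a
    have hdvd' : Monoid.exponent P ∣ 2 ^ 2 := hdvd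
    obtain ⟨j, hj, hej⟩ := (Nat.dvd_prime_pow Nat.prime_two).mp hdvd'
    interval_cases j
    · exfalso
      apply hndvd
      rw [hej]
      norm_num
    · exfalso
      apply hndvd
      rw [hej]
      norm_num
    · rw [hej]
      norm_num

end Cfsg.Agent.S1138
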