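import Cfsg.Statements.S1160
import Cfsg.Agent.Lib.Helper20_PGroupOdd

set_option autoImplicit false
open Cfsg

namespace Cfsg.Agent.S1160

section Trace
variable {P E : Type*} [Group P] [AddCommGroup E] [DistribMulAction P E]

/-- the partial trace `x + g x + ... + g^(n-1) x` -/
def tr (g : P) (n : ℕ) (x : E) : E := ∑ i ∈ Finset.range n, g ^ i • x

theorem smul_tr_self {g : P} {n : ℕ} (hg : g ^ n = 1) (x : E) : g • tr g n x = tr g n x := by
  unfold tr
  rw [Finset.smul_sum]
  have h1 : ∀ i ∈ Finset.range n, g • g ^ i • x = g ^ (i + 1) • x := by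
    intro i _; rw [pow_succ', mul_smul]
  rw [Finset.sum_congr rfl h1]
  have h2 := Finset.sum_range_succ' (fun i => g ^ i • x) n
  have h3 := Finset.sum_range_succ (fun i => g ^ i • x) n
  simp only [pow_zero, one_smul, hg] at h2 h3
  rw [h3] at h2
  exact (add_right_cancel h2).symm

theorem smul_tr_conj (k g : P) (n : ℕ) (x : E) :
    k • tr g n x = tr (k * g * k⁻¹) n (k • x) := by
  unfold tr
  rw [Finset.smul_sum]
  apply Finset.sum_congr rfl
  intro i _
  rw [conj_pow, ← mul_smul, ← mul_smul, inv_mul_cancel_right]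

theorem pow_smul_of_fixed {g : P} {x : E} (h : g • x = x) (i : ℕ) : g ^ i • x = x := by
  induction i with
  | zero => simp
  | succ i ih => rw [pow_succ, mul_smul, h, ih]

theorem tr_of_fixed {g : P} {x : E} (h : g • x = x) (n : ℕ) : tr g n x = n • x := by
  unfold tr
  have : ∀ i ∈ Finset.range n, g ^ i • x = x := fun i _ => pow_smul_of_fixed h i
  rw [Finset.sum_congr rfl this, Finset.sum_const, Finset.card_range]

theorem tr_add (g : P) (n : ℕ) (x y : E) : tr g n (x + y) = tr g n x + tr g n y := by
  unfold tr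
  rw [← Finset.sum_add_distrib]
  apply Finset.sum_congr rfl
  intro i _
  rw [smul_add]

theorem pow_smul_eq_of_smul_eq {g w : P} (hc : Commute w g) {x : E} (h : g • x = w • x) (i : ℕ) :
    g ^ i • x = w ^ i • x := by
  induction i with
  | zero => simp
  | succ i ih =>
    have h1 : g ^ i * w = w * g ^ i := ((hc.pow_right i).eq).symm
    rw [pow_succ, mul_smul, h, ← mul_smul, h1, mul_smul, ih, ← mul_smul, ← pow_succ']

theorem tr_congr_of_smul_eq {g w : P} (hc : Commute w g) {x : E} (h : g • x = w • x) (n : ℕ) :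
    tr g n x = tr w n x := by
  unfold tr
  apply Finset.sum_congr rfl
  intro i _
  exact pow_smul_eq_of_smul_eq hc h i

theorem tr_telescope (g : P) (n : ℕ) (b : E) : tr g n (g • b - b) = g ^ n • b - b := by
  unfold tr
  have h1 : ∀ i ∈ Finset.range n, g ^ i • (g • b - b) = g ^ (i + 1) • b - g ^ i • b := by
    intro i _
    rw [smul_sub, ← mul_smul, ← pow_succ]
  rw [Finset.sum_congr rfl h1, Finset.sum_range_sub (fun i => g ^ i • b) n, pow_zero, one_smul]

theorem tr_one (n : ℕ) (x : E) : tr (1 : P) n x = n • x := tr_of_fixed (one_smul P x) n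

theorem smul_nsmul_comm (g : P) (n : ℕ) (x : E) : g • (n • x) = n • (g • x) := by
  induction n with
  | zero => simp
  | succ n ih => rw [succ_nsmul, succ_nsmul, smul_add, ih]

end Trace

section Cancel
variable {E : Type*} [AddCommGroup E]

theorem eq_zero_of_nsmul {q n : ℕ} (hE : ∀ e : E, q • e = 0) (hn : Nat.Coprime n q) {x : E}
    (h : n • x = 0) : x = 0 := by
  have h1 := addOrderOf_dvd_of_nsmul_eq_zero h
  have h2 := addOrderOf_dvd_of_nsmul_eq_zero (hE x)
  have h3 := Nat.dvd_gcd h1 h2
  rw [Nat.Coprime] at hn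
  rw [hn] at h3
  exact AddMonoid.addOrderOf_eq_one_iff.mp (Nat.dvd_one.mp h3)

theorem eq_of_nsmul_eq {q n : ℕ} (hE : ∀ e : E, q • e = 0) (hn : Nat.Coprime n q) {x y : E}
    (h : n • x = n • y) : x = y := by
  have : n • (x - y) = 0 := by rw [smul_sub, h, sub_self]
  exact sub_eq_zero.mp (eq_zero_of_nsmul hE hn this)

end Cancel


section Step1
variable {P E : Type*} [Group P] [Finite P] [AddCommGroup E] [DistribMulAction P E]
  [FaithfulSMul P E]

/-- **Step 1**: a central element with a nonzero fixed point is trivial. -/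
theorem central_fpf {q n : ℕ} (hE : ∀ e : E, q • e = 0) (hn : Nat.Coprime n q)
    (hPn : ∀ g : P, g ^ n = 1)
    (hconst : ∀ a b : E, a ≠ 0 → b ≠ 0 →
      Nat.card (MulAction.stabilizer P a) = Nat.card (MulAction.stabilizer P b))
    {z : P} (hz : z ∈ Subgroup.center P) {a : E} (ha : a ≠ 0) (hza : z • a = a) : z = 1 := by
  have key : ∀ b : E, z • (z • b - b) = z • b - b := by
    intro b
    by_cases hc0 : z • b - b = 0
    · rw [hc0, smul_zero]
    by_cases hv0 : a + (z • b - b) = 0
    · have h1 : z • b - b = -a := by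
        rw [eq_neg_iff_add_eq_zero, add_comm]; exact hv0
      rw [h1, smul_neg, hza]
    have htr : tr z n (a + (z • b - b)) = n • a := by
      rw [tr_add, tr_of_fixed hza, tr_telescope, hPn z, one_smul, sub_self, add_zero]
    have hle : MulAction.stabilizer P (a + (z • b - b)) ≤ MulAction.stabilizer P a := by
      intro g hg
      rw [MulAction.mem_stabilizer_iff] at hg ⊢
      have h1 : g • tr z n (a + (z • b - b)) = tr z n (a + (z • b - b)) := by
        rw [smul_tr_conj, hg]
        have : g * z * g⁻¹ = z := by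
          rw [Subgroup.mem_center_iff.mp hz g, mul_inv_cancel_right]
        rw [this]
      rw [htr, smul_nsmul_comm] at h1
      exact eq_of_nsmul_eq hE hn h1
    have heq := Subgroup.eq_of_le_of_card_ge hle (hconst _ _ ha hv0).le
    have hzmem : z ∈ MulAction.stabilizer P (a + (z • b - b)) := by
      rw [heq]; exact hza
    rw [MulAction.mem_stabilizer_iff, smul_add, hza] at hzmem
    exact add_left_cancel hzmem
  have hpow : ∀ (b : E) (i : ℕ), z ^ i • b = b + i • (z • b - b) := by
    intro b i
    induction i with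
    | zero => simp
    | succ i ih =>
      rw [pow_succ', mul_smul, ih, smul_add, smul_nsmul_comm, key b, succ_nsmul]
      abel
  have hfix : ∀ b : E, z • b = b := by
    intro b
    have h1 := hpow b n
    rw [hPn z, one_smul] at h1
    have h2 : n • (z • b - b) = 0 := by
      have := h1.symm
      rwa [add_eq_left] at this
    exact sub_eq_zero.mp (eq_zero_of_nsmul hE hn h2)
  apply FaithfulSMul.eq_of_smul_eq_smul (α := E)
  intro b
  rw [hfix b, one_smul]

end Step1


section Step2
variable {P E : Type*} [Group P] [Finite P] [AddCommGroup E] [DistribMulAction P E]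

omit [Finite P] in
/-- For a central element `c ≠ 1` with `c ^ m = 1`, traces vanish. -/
theorem tr_central_eq_zero
    (fpf : ∀ c ∈ Subgroup.center P, c ≠ 1 → ∀ x : E, c • x = x → x = 0)
    {c : P} (hc : c ∈ Subgroup.center P) (hc1 : c ≠ 1) {m : ℕ} (hcm : c ^ m = 1) (x : E) :
    tr c m x = 0 :=
  fpf c hc hc1 _ (smul_tr_self hcm x)

omit [Finite P] in
/-- **Step 2a**: some `h * z ^ j` has a nonzero fixed point. -/
theorem exists_fixed
    (fpf : ∀ c ∈ Subgroup.center P, c ≠ 1 → ∀ x : E, c • x = x → x = 0)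
    {p q : ℕ} (hp : p.Prime) (hE : ∀ e : E, q • e = 0) (hpq : Nat.Coprime p q)
    {z : P} (h : P) (hz : z ∈ Subgroup.center P) (hzo : orderOf z = p)
    {v : E} (hv : v ≠ 0) :
    ∃ j < p, tr (h * z ^ j) p v ≠ 0 := by
  by_contra hcon
  push Not at hcon
  have hzp : z ^ p = 1 := by rw [← hzo]; exact pow_orderOf_eq_one z
  have h0 : ∑ j ∈ Finset.range p, tr (h * z ^ j) p v = 0 :=
    Finset.sum_eq_zero (fun j hj => hcon j (Finset.mem_range.mp hj))
  have h1 : ∑ j ∈ Finset.range p, tr (h * z ^ j) p v
      = ∑ i ∈ Finset.range p, h ^ i • tr (z ^ i) p v := by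
    unfold tr
    rw [Finset.sum_comm]
    apply Finset.sum_congr rfl
    intro i _
    rw [Finset.smul_sum]
    apply Finset.sum_congr rfl
    intro j _
    have hcomm : Commute h (z ^ j) := Subgroup.mem_center_iff.mp (Subgroup.pow_mem _ hz j) h
    rw [hcomm.mul_pow, pow_right_comm, mul_smul]
  have h2 : ∑ i ∈ Finset.range p, h ^ i • tr (z ^ i) p v = p • v := by
    rw [Finset.sum_eq_single 0]
    · rw [pow_zero, pow_zero, one_smul, tr_one]
    · intro i hi hi0
      have hne : z ^ i ≠ 1 :=
        pow_ne_one_of_lt_orderOf hi0 (by rw [hzo]; exact Finset.mem_range.mp hi)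
      rw [tr_central_eq_zero fpf (Subgroup.pow_mem _ hz i) hne
        (by rw [← pow_mul, mul_comm, pow_mul, hzp, one_pow]), smul_zero]
    · intro hh; exfalso; exact hh (Finset.mem_range.mpr hp.pos)
  rw [h1, h2] at h0
  exact hv (eq_zero_of_nsmul hE hpq h0)

/-- **Step 2**: the configuration of a good pair with a fixed point is contradictory. -/
theorem step2
    (fpf : ∀ c ∈ Subgroup.center P, c ≠ 1 → ∀ x : E, c • x = x → x = 0)
    {p q n : ℕ} (hE : ∀ e : E, q • e = 0) (hpq : Nat.Coprime p q)
    (hn : Odd n) (hPn : ∀ g : P, g ^ n = 1)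
    (hconst : ∀ a b : E, a ≠ 0 → b ≠ 0 →
      Nat.card (MulAction.stabilizer P a) = Nat.card (MulAction.stabilizer P b))
    {z h : P} (hz : z ∈ Subgroup.center P) (hzp : z ^ p = 1) (hh1 : h ≠ 1)
    (hcomm : ∀ g : P, g * h * g⁻¹ * h⁻¹ ∈ Subgroup.zpowers z)
    {a : E} (ha : a ≠ 0) (hha : h • a = a) : False := by
  have hnc : h ∉ Subgroup.center P := fun hc => ha (fpf h hc hh1 a hha)
  rw [Subgroup.mem_center_iff] at hnc
  push Not at hnc
  obtain ⟨g, hg⟩ := hnc
  have hZc : ∀ c ∈ Subgroup.zpowers z, c ∈ Subgroup.center P ∧ c ^ p = 1 := by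
    intro c hc
    refine ⟨(Subgroup.zpowers_le.mpr hz) hc, ?_⟩
    obtain ⟨i, rfl⟩ := Subgroup.mem_zpowers_iff.mp hc
    rw [← zpow_natCast, ← zpow_mul, mul_comm, zpow_mul, zpow_natCast, hzp, one_zpow]
  have hcen : ∀ c ∈ Subgroup.center P, ∀ x : P, Commute c x := fun c hc x =>
    (Subgroup.mem_center_iff.mp hc x).symm
  -- the commutator
  have hu1 : g * h * g⁻¹ * h⁻¹ ≠ 1 := by
    intro h1
    apply hg
    have : g * h = (g * h * g⁻¹ * h⁻¹) * h * g := by group
    rw [this, h1, one_mul]
  obtain ⟨huc, hup⟩ := hZc _ (hcomm g)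
  have hwc : (g * h * g⁻¹ * h⁻¹)⁻¹ ∈ Subgroup.center P := Subgroup.inv_mem _ huc
  have hwp : ((g * h * g⁻¹ * h⁻¹)⁻¹) ^ p = 1 := by rw [inv_pow, hup, inv_one]
  have hw1 : (g * h * g⁻¹ * h⁻¹)⁻¹ ≠ 1 := by
    intro h1; exact hu1 (inv_eq_one.mp h1)
  generalize hwdef : (g * h * g⁻¹ * h⁻¹)⁻¹ = w at hwc hwp hw1
  have hinva : h⁻¹ • a = a := by rw [inv_smul_eq_iff, hha]
  have hb0 : g • a ≠ 0 := by
    intro h0
    exact ha ((smul_eq_zero_iff_eq g).mp h0)
  have hhb : h • g • a = w • g • a := by
    have h1 : w * g = h * g * h⁻¹ := by rw [← hwdef]; group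
    have h2 : w • g • a = h • g • a := by
      rw [← mul_smul, h1, mul_smul, mul_smul, hinva]
    exact h2.symm
  generalize hbdef : g • a = b at hb0 hhb
  have hhb_ne : h • b ≠ b := by
    intro heq
    rw [hhb] at heq
    exact hb0 (fpf w hwc hw1 b heq)
  have hab0 : a + b ≠ 0 := by
    intro h0
    have hb : b = -a := by rw [eq_neg_iff_add_eq_zero, add_comm]; exact h0
    apply hhb_ne
    rw [hb, smul_neg, hha]
  have htr : tr h p (a + b) = p • a := by
    rw [tr_add, tr_of_fixed hha, tr_congr_of_smul_eq (hcen w hwc h) hhb,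
      tr_central_eq_zero fpf hwc hw1 hwp, add_zero]
  have hle : MulAction.stabilizer P (a + b) ≤ MulAction.stabilizer P a := by
    intro g' hg'
    rw [MulAction.mem_stabilizer_iff] at hg' ⊢
    obtain ⟨hu'c, hu'p⟩ := hZc _ (hcomm g')
    have hconj : g' * h * g'⁻¹ = (g' * h * g'⁻¹ * h⁻¹) * h := by group
    generalize hu'def : g' * h * g'⁻¹ * h⁻¹ = u' at hu'c hu'p hconj
    have h1 : g' • tr h p (a + b) = tr u' p a + tr (u' * w) p b := by
      rw [smul_tr_conj, hg', hconj, tr_add]
      congr 1
      · apply tr_congr_of_smul_eq (hcen u' hu'c _)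
        rw [mul_smul, hha]
      · apply tr_congr_of_smul_eq (hcen (u' * w) (mul_mem hu'c hwc) _)
        rw [mul_smul, hhb, mul_smul]
    rw [htr, smul_nsmul_comm] at h1
    by_cases hu'1 : u' = 1
    · rw [hu'1, one_mul, tr_one, tr_central_eq_zero fpf hwc hw1 hwp, add_zero] at h1
      exact eq_of_nsmul_eq hE hpq h1
    · rw [tr_central_eq_zero fpf hu'c hu'1 hu'p, zero_add] at h1
      by_cases hu'w : u' * w = 1
      · rw [hu'w, tr_one] at h1
        have hgab : g' • a = b := eq_of_nsmul_eq hE hpq h1
        have hgba : g' • b = a := by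
          rw [smul_add, hgab, add_comm a b] at hg'
          exact add_left_cancel hg'
        have hsq : (g' ^ 2) • a = a := by rw [pow_two, mul_smul, hgab, hgba]
        obtain ⟨k, hk⟩ := hn
        have h3 : g' * (g' ^ 2) ^ k = 1 := by
          rw [← pow_mul, ← pow_succ', ← hk]; exact hPn g'
        have hg'eq : g' = ((g' ^ 2) ^ k)⁻¹ := eq_inv_of_mul_eq_one_left h3
        have h4 : g' • a = a := by
          rw [hg'eq, inv_smul_eq_iff, pow_smul_of_fixed hsq]
        exfalso
        apply hhb_ne
        rw [← hgab, h4]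
        exact hha
      · have hcp : (u' * w) ^ p = 1 := by
          rw [(hcen u' hu'c w).mul_pow, hu'p, hwp, one_mul]
        rw [tr_central_eq_zero fpf (mul_mem hu'c hwc) hu'w hcp] at h1
        have h5 := eq_zero_of_nsmul hE hpq h1
        exfalso
        exact ha ((smul_eq_zero_iff_eq g').mp h5)
  have heq := Subgroup.eq_of_le_of_card_ge hle (hconst _ _ ha hab0).le
  have hmem : h ∈ MulAction.stabilizer P (a + b) := by rw [heq]; exact hha
  rw [MulAction.mem_stabilizer_iff, smul_add, hha] at hmem
  exact hhb_ne (add_left_cancel hmem)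

end Step2


/-- Let `p ≠ 2` be prime and `P` a finite `p`-group acting faithfully by additive automorphisms on a finite elementary abelian `q`-group `E` (`q` prime), such that `|P_a|` is the same for all `a ≠ 0`. Then `P` is cyclic and every non-identity element of `P` fixes only `0`. -/
theorem result {P E : Type*} [Group P] [Finite P]
    [AddCommGroup E] [Finite E] [DistribMulAction P E] [FaithfulSMul P E]
    {p q : ℕ} [Fact p.Prime] (hp2 : p ≠ 2) (hP : IsPGroup p P) (hq : q.Prime) (hE : ∀ e : E, q • e = 0)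
    (hconst : ∀ a b : E, a ≠ 0 → b ≠ 0 →
      Nat.card (MulAction.stabilizer P a) = Nat.card (MulAction.stabilizer P b)) :
    IsCyclic P ∧ ∀ g : P, g ≠ 1 → ∀ a : E, g • a = a → a = 0 := by
  have hpP : p.Prime := Fact.out
  obtain ⟨k, hk⟩ := IsPGroup.iff_card.mp hP
  have hPn : ∀ g : P, g ^ (Nat.card P) = 1 := fun g => pow_card_eq_one'
  by_cases hqp : q = p
  · -- `P` is trivial
    subst hqp
    have hall : ∀ (g : P) (x : E), g • x = x := by
      by_cases hEt : ∀ e : E, e = 0
      · intro g x; rw [hEt x, smul_zero]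
      · push Not at hEt
        obtain ⟨e, he⟩ := hEt
        have hEp : IsPGroup q (Multiplicative E) := by
          intro x
          refine ⟨1, ?_⟩
          rw [pow_one]
          exact congrArg Multiplicative.ofAdd (hE (Multiplicative.toAdd x))
        have hdvd : q ∣ Nat.card E := by
          have hnt : Nontrivial (Multiplicative E) :=
            ⟨⟨Multiplicative.ofAdd e, 1, fun h => he (by simpa using h)⟩⟩
          obtain ⟨m, hm0, hm⟩ := hEp.nontrivial_iff_card.mp hnt
          have : Nat.card E = q ^ m := by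
            rw [← hm]; exact Nat.card_congr Multiplicative.ofAdd
          rw [this]
          exact dvd_pow_self _ (ne_of_gt hm0)
        have h0fix : (0 : E) ∈ MulAction.fixedPoints P E := fun g => smul_zero g
        obtain ⟨b, hbfix, hb0⟩ :=
          hP.exists_fixed_point_of_prime_dvd_card_of_fixed_point E hdvd h0fix
        have hbtop : MulAction.stabilizer P b = ⊤ := by
          rw [eq_top_iff]
          intro g _
          exact hbfix g
        intro g x
        by_cases hx : x = 0
        · rw [hx, smul_zero]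
        · have hcard := hconst x b hx (Ne.symm hb0)
          rw [hbtop, Subgroup.card_top] at hcard
          have hxtop := Subgroup.eq_top_of_card_eq _ hcard
          have : g ∈ MulAction.stabilizer P x := by rw [hxtop]; exact Subgroup.mem_top g
          exact this
    have htriv : ∀ g : P, g = 1 := by
      intro g
      apply FaithfulSMul.eq_of_smul_eq_smul (α := E)
      intro x
      rw [hall g x, one_smul]
    have : Subsingleton P := ⟨fun a b => by rw [htriv a, htriv b]⟩
    exact ⟨isCyclic_of_subsingleton, fun g hg => absurd (htriv g) hg⟩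
  · have hpq : Nat.Coprime p q := (Nat.coprime_primes hpP hq).mpr (Ne.symm hqp)
    have hnq : Nat.Coprime (Nat.card P) q := by rw [hk]; exact hpq.pow_left k
    have hodd : Odd (Nat.card P) := by rw [hk]; exact (hpP.odd_of_ne_two hp2).pow
    have fpf : ∀ c ∈ Subgroup.center P, c ≠ 1 → ∀ x : E, c • x = x → x = 0 := by
      intro c hc hc1 x hx
      by_contra hx0
      exact hc1 (central_fpf hE hnq hPn hconst hc hx0 hx)
    have hcyc : IsCyclic P := by
      by_contra hnc
      have hS : ¬ IsCyclic (⊤ : Subgroup P) := by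
        intro hc
        apply hnc
        exact isCyclic_of_surjective (Subgroup.topEquiv : (⊤ : Subgroup P) ≃* P).toMonoidHom
          (Subgroup.topEquiv : (⊤ : Subgroup P) ≃* P).surjective
      obtain ⟨z, h, hgood⟩ := Cfsg.Agent.Lib.Helper20_PGroupOdd.exists_good hp2 hP ⊤ hS
      obtain ⟨-, -, hzc, hzo, hhp, hhz, hcomm⟩ := hgood
      have hzp : z ^ p = 1 := by rw [← hzo]; exact pow_orderOf_eq_one z
      have hex : ∃ v : E, v ≠ 0 := by
        by_contra hall
        push Not at hall
        have hz1 : z = 1 := by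
          apply FaithfulSMul.eq_of_smul_eq_smul (α := E)
          intro x
          rw [hall x, smul_zero, smul_zero]
        rw [hz1, orderOf_one] at hzo
        exact hpP.one_lt.ne hzo
      obtain ⟨v, hv⟩ := hex
      obtain ⟨j, -, hne⟩ := exists_fixed fpf hpP hE hpq h hzc hzo hv
      have hcj : ∀ x : P, x * z ^ j = z ^ j * x :=
        Subgroup.mem_center_iff.mp (Subgroup.pow_mem _ hzc j)
      have hh'p : (h * z ^ j) ^ p = 1 := by
        have hcomm' : Commute h (z ^ j) := hcj h
        rw [hcomm'.mul_pow, hhp, ← pow_mul, mul_comm, pow_mul, hzp, one_pow, one_mul]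
      have hh'1 : h * z ^ j ≠ 1 := by
        intro h1
        apply hhz
        have : h = (z ^ j)⁻¹ := eq_inv_of_mul_eq_one_left h1
        rw [this]
        exact Subgroup.inv_mem _ (Subgroup.npow_mem_zpowers z j)
      have hcomm' : ∀ g : P, g * (h * z ^ j) * g⁻¹ * (h * z ^ j)⁻¹ ∈ Subgroup.zpowers z := by
        intro g
        have : g * (h * z ^ j) * g⁻¹ * (h * z ^ j)⁻¹ = g * h * g⁻¹ * h⁻¹ := by
          calc g * (h * z ^ j) * g⁻¹ * (h * z ^ j)⁻¹
              = g * h * (z ^ j * g⁻¹) * (z ^ j)⁻¹ * h⁻¹ := by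
                rw [mul_inv_rev]; simp only [mul_assoc]
            _ = g * h * (g⁻¹ * z ^ j) * (z ^ j)⁻¹ * h⁻¹ := by rw [hcj g⁻¹]
            _ = g * h * g⁻¹ * h⁻¹ := by simp only [mul_assoc, mul_inv_cancel_left]
        rw [this]
        exact hcomm g
      exact step2 fpf hE hpq hodd hPn hconst hzc hzp hh'1 hcomm' hne (smul_tr_self hh'p v)
    refine ⟨hcyc, ?_⟩
    intro g hg1 a hga
    have hgc : g ∈ Subgroup.center P := by
      rw [Subgroup.mem_center_iff]
      intro x
      exact (hcyc.isMulCommutative).is_comm.comm x g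
    exact fpf g hgc hg1 a hga

end Cfsg.Agent.S1160
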