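import Cfsg.Statements.S1162
import Cfsg.Agent.Lib.Helper37_SzBridge

set_option autoImplicit false
open Cfsg

namespace Cfsg.Agent.S1162

open Cfsg.Agent.Helper37Sz

/-- the ovoid model of the Suzuki group is simple (from `Helper37_SzSimple.normal_eq_top`) -/
theorem sz_simple {F : Type*} [Field F] [Fintype F] {m : ℕ} (hm : 1 ≤ m)
    (hF : Fintype.card F = 2 ^ (2 * m + 1)) : IsSimpleGroup (Cfsg.Sz F m) := by
  have h2 := two_eq_zero_of_card hF
  have hSdef : ∀ z, sgHom F m h2 z = z ^ 2 ^ (m + 1) := fun z => sgHom_apply m h2 z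
  have hS : ∀ z, sgHom F m h2 (sgHom F m h2 z) = z ^ 2 := fun z => sgHom_sgHom hF h2 z
  have : Nontrivial (Cfsg.Sz F m) := by
    refine ⟨⟨uQ h2 hS hSdef 0 1, 1, ?_⟩⟩
    intro h
    rw [← uQ_zero h2 hS hSdef] at h
    exact one_ne_zero (uQ_inj h2 hS hSdef h).2
  refine ⟨fun N hN => ?_⟩
  by_cases h : N = ⊥
  · exact Or.inl h
  · exact Or.inr (normal_eq_top hm hF h2 hS hSdef N hN h)

/-- For the Suzuki group Sz(q), q = 2^(2m+1) ≥ 8, realised as the elements g of Sp₄(F) with g* = g^θ (θ the 2^(m+1)-th power map, so that θ² is squaring): `Sz(q)` is a simple group. -/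
theorem result {F : Type*} [Field F] [Fintype F] {m : ℕ} (hm : 1 ≤ m) (hF : Fintype.card F = 2 ^ (2 * m + 1)) :
    IsSimpleGroup ↥(Cfsg.Lie.Sz F (2 ^ (m + 1))) := by
  have := sz_simple hm hF
  exact (lieSzEquiv hm hF).symm.isSimpleGroup

end Cfsg.Agent.S1162
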