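import Cfsg.Statements.S1163
import Cfsg.Agent.Lib.Helper37_SzBridge
import Cfsg.Agent.Lib.Helper37_PointStab
import Cfsg.Agent.S0324
import Cfsg.Agent.S0326

set_option autoImplicit false
open Cfsg

namespace Cfsg.Agent.S1163

open Cfsg.Agent.Helper37Sz Cfsg.Agent.Lib.Helper37_PointStab

section Aux

variable {F : Type*} [Field F] [Fintype F] {S : F →+* F} {m : ℕ}

/-- `Q` acts regularly on the affine points -/
theorem Qsub_regular (h2 : (2 : F) = 0) (hS : ∀ z, S (S z) = z ^ 2)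
    (hSdef : ∀ z, S z = z ^ 2 ^ (m + 1)) (p p' : Cfsg.suzukiOvoid F m)
    (hp : p ≠ ptInf F m) (hp' : p' ≠ ptInf F m) :
    ∃! q : Qsub h2 hS m, (q : Cfsg.Sz F m) • p = p' := by
  rcases pt_cases hSdef p with rfl | ⟨x, y, rfl⟩
  · exact absurd rfl hp
  rcases pt_cases hSdef p' with rfl | ⟨x', y', rfl⟩
  · exact absurd rfl hp'
  refine ⟨⟨uQ h2 hS hSdef (x + x') (y' + y + S (x + x') * x), uQ_mem_Qsub h2 hS hSdef _ _⟩, ?_, ?_⟩
  · show uQ h2 hS hSdef (x + x') (y' + y + S (x + x') * x) • ptAff hSdef x y = ptAff hSdef x' y'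
    rw [uQ_smul_ptAff]
    congr 1
    · linear_combination x * h2
    · linear_combination (y + S (x + x') * x) * h2
  · rintro ⟨q, hq⟩ hqp
    obtain ⟨a, b, rfl⟩ := exists_of_mem_Qsub h2 hS hSdef hq
    have hqp' : uQ h2 hS hSdef a b • ptAff hSdef x y = ptAff hSdef x' y' := hqp
    rw [uQ_smul_ptAff] at hqp'
    obtain ⟨e1, e2⟩ := ptAff_inj hSdef hqp'
    apply Subtype.ext
    show uQ h2 hS hSdef a b = uQ h2 hS hSdef (x + x') (y' + y + S (x + x') * x)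
    have ha : a = x + x' := by linear_combination e1 - x * h2
    subst ha
    congr 1
    linear_combination e2 - (y + S (x + x') * x) * h2

end Aux

/-- For the Suzuki group Sz(q), q = 2^(2m+1) ≥ 8, realised as the elements g of Sp₄(F) with g* = g^θ (θ the 2^(m+1)-th power map, so that θ² is squaring): `|Sz(q)| = q² (q - 1) (q² + 1)`, and there is a Sylow 2-subgroup `S` whose normaliser `H` has order `q²(q-1)` and index `q² + 1`, the action of `Sz(q)` on the cosets of `H` is doubly transitive, and `S` acts regularly on the cosets other than `H` itself. -/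
theorem result {F : Type*} [Field F] [Fintype F] {m : ℕ} (hm : 1 ≤ m) (hF : Fintype.card F = 2 ^ (2 * m + 1)) :
    Nat.card ↥(Cfsg.Lie.Sz F (2 ^ (m + 1))) = (2 ^ (2 * m + 1)) ^ 2 * (2 ^ (2 * m + 1) - 1) * ((2 ^ (2 * m + 1)) ^ 2 + 1) ∧
    ∃ S : Sylow 2 ↥(Cfsg.Lie.Sz F (2 ^ (m + 1))),
      Nat.card (Subgroup.normalizer ((S : Subgroup ↥(Cfsg.Lie.Sz F (2 ^ (m + 1)))) : Set ↥(Cfsg.Lie.Sz F (2 ^ (m + 1))))) = (2 ^ (2 * m + 1)) ^ 2 * (2 ^ (2 * m + 1) - 1) ∧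
      (Subgroup.normalizer ((S : Subgroup ↥(Cfsg.Lie.Sz F (2 ^ (m + 1)))) : Set ↥(Cfsg.Lie.Sz F (2 ^ (m + 1))))).index = (2 ^ (2 * m + 1)) ^ 2 + 1 ∧
      MulAction.IsMultiplyPretransitive ↥(Cfsg.Lie.Sz F (2 ^ (m + 1))) (↥(Cfsg.Lie.Sz F (2 ^ (m + 1))) ⧸ Subgroup.normalizer ((S : Subgroup ↥(Cfsg.Lie.Sz F (2 ^ (m + 1)))) : Set ↥(Cfsg.Lie.Sz F (2 ^ (m + 1))))) 2 ∧
      ∀ x y : ↥(Cfsg.Lie.Sz F (2 ^ (m + 1))) ⧸ Subgroup.normalizer ((S : Subgroup ↥(Cfsg.Lie.Sz F (2 ^ (m + 1)))) : Set ↥(Cfsg.Lie.Sz F (2 ^ (m + 1)))),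
        x ≠ (QuotientGroup.mk 1) → y ≠ (QuotientGroup.mk 1) → ∃! s : ↥(S : Subgroup ↥(Cfsg.Lie.Sz F (2 ^ (m + 1)))), (s : ↥(Cfsg.Lie.Sz F (2 ^ (m + 1)))) • x = y := by
  classical
  have h2 := two_eq_zero_of_card hF
  have hSdef : ∀ z, sgHom F m h2 z = z ^ 2 ^ (m + 1) := fun z => sgHom_apply m h2 z
  have hS : ∀ z, sgHom F m h2 (sgHom F m h2 z) = z ^ 2 := fun z => sgHom_sgHom hF h2 z
  obtain ⟨e, -⟩ : ∃ e : Cfsg.Sz F m ≃* ↥(Cfsg.Lie.Sz F (2 ^ (m + 1))), True :=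
    ⟨lieSzEquiv hm hF, trivial⟩
  let act : MulAction ↥(Cfsg.Lie.Sz F (2 ^ (m + 1))) (Cfsg.suzukiOvoid F m) :=
    MulAction.compHom _ (e.symm : ↥(Cfsg.Lie.Sz F (2 ^ (m + 1))) →* Cfsg.Sz F m)
  have hsmul : ∀ (g : ↥(Cfsg.Lie.Sz F (2 ^ (m + 1)))) (p : Cfsg.suzukiOvoid F m),
      g • p = e.symm g • p := fun _ _ => rfl
  have hcard : Nat.card ↥(Cfsg.Lie.Sz F (2 ^ (m + 1))) = Nat.card (Cfsg.Sz F m) :=
    (Nat.card_congr e.toEquiv).symm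
  have : Finite ↥(Cfsg.Lie.Sz F (2 ^ (m + 1))) := Finite.of_equiv _ e.toEquiv
  have : Finite (Cfsg.suzukiOvoid F m) := (Set.toFinite _).to_subtype
  obtain ⟨Q', hQ'⟩ : ∃ Q' : Subgroup ↥(Cfsg.Lie.Sz F (2 ^ (m + 1))),
      Q' = (Qsub h2 hS m).map e.toMonoidHom := ⟨_, rfl⟩
  have hQ'mem : ∀ x, x ∈ Q' ↔ e.symm x ∈ Qsub h2 hS m := by
    intro x
    rw [hQ', Subgroup.mem_map]
    constructor
    · rintro ⟨y, hy, rfl⟩
      simpa using hy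
    · intro hx
      exact ⟨e.symm x, hx, by simp⟩
  have hQ'card : Nat.card Q' = 2 ^ (Nat.card ↥(Cfsg.Lie.Sz F (2 ^ (m + 1)))).factorization 2 := by
    rw [hQ', Subgroup.card_map_of_injective (f := e.toMonoidHom) e.injective,
      card_Qsub h2 hS hSdef, hcard, factorization_card_Sz hm hF, hF]
    ring
  -- the hypotheses of the abstract lemma
  have hfix : ∀ q ∈ Q', q • ptInf F m = ptInf F m := by
    intro q hq
    obtain ⟨a, b, hab⟩ := exists_of_mem_Qsub h2 hS hSdef ((hQ'mem q).1 hq)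
    rw [hsmul, hab, uQ_smul_ptInf]
  have hreg : ∀ p p' : Cfsg.suzukiOvoid F m, p ≠ ptInf F m → p' ≠ ptInf F m →
      ∃! q : Q', (q : ↥(Cfsg.Lie.Sz F (2 ^ (m + 1)))) • p = p' := by
    intro p p' hp hp'
    obtain ⟨q₀, hq₀, huniq⟩ := Qsub_regular h2 hS hSdef p p' hp hp'
    refine ⟨⟨e q₀, (hQ'mem _).2 (by simp)⟩, ?_, ?_⟩
    · show e (q₀ : Cfsg.Sz F m) • p = p'
      rw [hsmul, MulEquiv.symm_apply_apply]
      exact hq₀
    · rintro ⟨q, hq⟩ hqp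
      have hqp' : e.symm q • p = p' := hqp
      have := huniq ⟨e.symm q, (hQ'mem q).1 hq⟩ hqp'
      apply Subtype.ext
      show q = e (q₀ : Cfsg.Sz F m)
      rw [← this]
      simp
  have hnorm : ∀ x : ↥(Cfsg.Lie.Sz F (2 ^ (m + 1))), x • ptInf F m = ptInf F m →
      ∀ q ∈ Q', x * q * x⁻¹ ∈ Q' := by
    intro x hx q hq
    rw [hQ'mem, map_mul, map_mul, map_inv]
    exact conj_mem_Qsub hm hF h2 hS hSdef hx ((hQ'mem q).1 hq)
  have h01 : ptAff hSdef (0 : F) 0 ≠ ptAff hSdef 1 0 := by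
    intro h
    exact zero_ne_one (ptAff_inj hSdef h).1
  have hmem := mem_normalizer_iff_fix (ptInf F m) Q' hfix hreg hnorm
    (ptAff_ne_ptInf hSdef 0 0) (ptAff_ne_ptInf hSdef 1 0) h01
  have h2t : ∀ a b c d : Cfsg.suzukiOvoid F m, a ≠ b → c ≠ d →
      ∃ g : ↥(Cfsg.Lie.Sz F (2 ^ (m + 1))), g • a = c ∧ g • b = d := by
    intro a b c d hab hcd
    obtain ⟨g₁, h1a, h1b⟩ := exists_smul_pair h2 hS hSdef hab
    obtain ⟨g₂, h2c, h2d⟩ := exists_smul_pair h2 hS hSdef hcd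
    refine ⟨e (g₂⁻¹ * g₁), ?_, ?_⟩
    · rw [hsmul, MulEquiv.symm_apply_apply, mul_smul, h1a, ← h2c, ← mul_smul, inv_mul_cancel,
        one_smul]
    · rw [hsmul, MulEquiv.symm_apply_apply, mul_smul, h1b, ← h2d, ← mul_smul, inv_mul_cancel,
        one_smul]
  have htrans : MulAction.IsPretransitive ↥(Cfsg.Lie.Sz F (2 ^ (m + 1))) (Cfsg.suzukiOvoid F m) := by
    constructor
    intro a b
    by_cases hab : a = b
    · exact ⟨1, by rw [one_smul, hab]⟩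
    · obtain ⟨g, hg, -⟩ := h2t a b b a hab (Ne.symm hab)
      exact ⟨g, hg⟩
  have hindex := index_normalizer (ptInf F m) Q' hmem
  rw [Cfsg.Agent.S0326.result, hF] at hindex
  have hcardG : Nat.card ↥(Cfsg.Lie.Sz F (2 ^ (m + 1)))
      = (2 ^ (2 * m + 1)) ^ 2 * (2 ^ (2 * m + 1) - 1) * ((2 ^ (2 * m + 1)) ^ 2 + 1) := by
    rw [hcard, Cfsg.Agent.S0324.result hm hF]
    ring
  refine ⟨hcardG, Sylow.ofCard Q' hQ'card, ?_⟩
  show Nat.card (Subgroup.normalizer (Q' : Set ↥(Cfsg.Lie.Sz F (2 ^ (m + 1)))))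
      = (2 ^ (2 * m + 1)) ^ 2 * (2 ^ (2 * m + 1) - 1) ∧
    (Subgroup.normalizer (Q' : Set ↥(Cfsg.Lie.Sz F (2 ^ (m + 1))))).index
      = (2 ^ (2 * m + 1)) ^ 2 + 1 ∧
    MulAction.IsMultiplyPretransitive ↥(Cfsg.Lie.Sz F (2 ^ (m + 1)))
      (↥(Cfsg.Lie.Sz F (2 ^ (m + 1))) ⧸
        Subgroup.normalizer (Q' : Set ↥(Cfsg.Lie.Sz F (2 ^ (m + 1))))) 2 ∧
    ∀ x y : ↥(Cfsg.Lie.Sz F (2 ^ (m + 1))) ⧸
        Subgroup.normalizer (Q' : Set ↥(Cfsg.Lie.Sz F (2 ^ (m + 1)))),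
      x ≠ (QuotientGroup.mk 1) → y ≠ (QuotientGroup.mk 1) →
        ∃! s : ↥Q', (s : ↥(Cfsg.Lie.Sz F (2 ^ (m + 1)))) • x = y
  refine ⟨?_, hindex, two_transitive_quotient (ptInf F m) Q' hmem h2t, ?_⟩
  · have := Subgroup.card_mul_index
      (Subgroup.normalizer (Q' : Set ↥(Cfsg.Lie.Sz F (2 ^ (m + 1)))))
    rw [hindex, hcardG] at this
    exact Nat.eq_of_mul_eq_mul_right (by positivity) this
  · intro x y hx hy
    exact regular_quotient (ptInf F m) Q' hmem hreg x y hx hy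

end Cfsg.Agent.S1163
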