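import Cfsg.Statements.S1165

set_option autoImplicit false
open Cfsg

namespace Cfsg.Agent.S1165

section
variable {G Ω : Type*} [Group G] [MulAction G Ω] {a : Ω} {t : G} {Q : Subgroup G}

theorem t_inv (hS : Cfsg.IsRankOneSetup G Ω a t Q) : t⁻¹ = t :=
  inv_eq_of_mul_eq_one_left hS.mul_self

theorem conj_t_mem (hS : Cfsg.IsRankOneSetup G Ω a t Q) {h : G}
    (hh : h ∈ (MulAction.stabilizer G a ⊓ MulAction.stabilizer G (t • a))) :
    t * h * t ∈ (MulAction.stabilizer G a ⊓ MulAction.stabilizer G (t • a)) := by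
  rw [Subgroup.mem_inf, MulAction.mem_stabilizer_iff, MulAction.mem_stabilizer_iff] at hh ⊢
  obtain ⟨h1, h2⟩ := hh
  constructor
  · rw [mul_smul, mul_smul, h2, ← mul_smul, hS.mul_self, one_smul]
  · rw [mul_smul, mul_smul, ← mul_smul t t, hS.mul_self, one_smul, h1]

theorem uniq (hS : Cfsg.IsRankOneSetup G Ω a t Q) {g h f g' h' f' : G}
    (hg : g ∈ Q) (hh : h ∈ (MulAction.stabilizer G a ⊓ MulAction.stabilizer G (t • a))) (hf : f ∈ Q)
    (hg' : g' ∈ Q) (hh' : h' ∈ (MulAction.stabilizer G a ⊓ MulAction.stabilizer G (t • a)))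
    (hf' : f' ∈ Q) (e : g * h * t * f = g' * h' * t * f') : f = f' ∧ h = h' := by
  have ht := t_inv hS
  have hw : f' * f⁻¹ ∈ Q := Q.mul_mem hf' (Q.inv_mem hf)
  have hga : g ∈ MulAction.stabilizer G a := hS.le hg
  have hga' : g' ∈ MulAction.stabilizer G a := hS.le hg'
  have e1 : t * (f' * f⁻¹) * t⁻¹ = (g' * h')⁻¹ * (g * h) := by
    have : g * h = g' * h' * t * f' * f⁻¹ * t⁻¹ := by rw [← e]; group
    rw [this]; group
  have h1 : t * (f' * f⁻¹) * t⁻¹ ∈ MulAction.stabilizer G a := by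
    rw [e1]
    exact Subgroup.mul_mem _ (Subgroup.inv_mem _ (Subgroup.mul_mem _ hga' hh'.1))
      (Subgroup.mul_mem _ hga hh.1)
  have h2 : f' * f⁻¹ ∈ MulAction.stabilizer G (t • a) := by
    rw [MulAction.mem_stabilizer_iff] at h1 ⊢
    have h3 : t⁻¹ • ((t * (f' * f⁻¹) * t⁻¹) • a) = t⁻¹ • a := by rw [h1]
    rw [← mul_smul] at h3
    have h4 : t⁻¹ * (t * (f' * f⁻¹) * t⁻¹) = (f' * f⁻¹) * t⁻¹ := by group
    rw [h4, mul_smul, ht] at h3
    exact h3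
  have h3 : f' * f⁻¹ ∈ Q ⊓ MulAction.stabilizer G (t • a) := ⟨hw, h2⟩
  rw [hS.inf_eq_bot, Subgroup.mem_bot] at h3
  have hff : f = f' := by
    have : f' = f' * f⁻¹ * f := by group
    rw [this, h3, one_mul]
  subst hff
  refine ⟨rfl, ?_⟩
  have e2 : g * h = g' * h' := by
    have := congrArg (fun y => y * f⁻¹ * t⁻¹) e
    simpa [mul_assoc] using this
  have e3 : g'⁻¹ * g = h' * h⁻¹ := by
    have : g = g' * h' * h⁻¹ := by rw [← e2]; group
    rw [this]; group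
  have h5 : g'⁻¹ * g ∈ Q ⊓ MulAction.stabilizer G (t • a) := by
    refine ⟨Q.mul_mem (Q.inv_mem hg') hg, ?_⟩
    rw [e3]
    exact Subgroup.mul_mem _ hh'.2 (Subgroup.inv_mem _ hh.2)
  rw [hS.inf_eq_bot, Subgroup.mem_bot] at h5
  have hgg : g = g' := by
    have : g = g' * (g'⁻¹ * g) := by group
    rw [this, h5, mul_one]
  subst hgg
  exact mul_left_cancel e2

end

/-- In the rank-one set-up (`G` finite and doubly transitive on `Ω`, `t` an involution moving `a`, `Q` normal in `G_a` with `G_a = Q D`, `Q ⊓ D = 1` for the two-point stabiliser `D = G_a ⊓ G_{t • a}`, `|Q|` even, `|D|` odd): every `x ∈ Q`, `x ≠ 1`, determines unique `g, f ∈ Q`, `h ∈ D` with `t x t = g h t f` (a consequence of the canonical form). For these: (H1) the `f`-part of `x⁻¹` is `g⁻¹`; (H2) the `f`-part of `f` is `x`; (H3) for `a ∈ D` the `f`-part of `a⁻¹ x a` is `(t a t)⁻¹ f (t a t)`; (H4) the `h`-part of `a⁻¹ x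 a` is `(t a t)⁻¹ h a`, that of `x⁻¹` is `t h⁻¹ t`, and that of `f` is `h⁻¹`. -/
theorem result {G Ω : Type*} [Group G] [Finite G] [MulAction G Ω] {a : Ω} {t : G} {Q : Subgroup G}
    (hS : Cfsg.IsRankOneSetup G Ω a t Q)
    (x g h f : G) (hx : x ∈ Q) (hx1 : x ≠ 1) (hg : g ∈ Q) (hh : h ∈ (MulAction.stabilizer G a ⊓ MulAction.stabilizer G (t • a))) (hf : f ∈ Q)
    (heq : t * x * t = g * h * t * f) :
    (∀ g₁ h₁ f₁ : G, g₁ ∈ Q → h₁ ∈ (MulAction.stabilizer G a ⊓ MulAction.stabilizer G (t • a)) → f₁ ∈ Q → t * x⁻¹ * t = g₁ * h₁ * t * f₁ →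
        f₁ = g⁻¹ ∧ h₁ = t * h⁻¹ * t) ∧
      (∀ g₂ h₂ f₂ : G, g₂ ∈ Q → h₂ ∈ (MulAction.stabilizer G a ⊓ MulAction.stabilizer G (t • a)) → f₂ ∈ Q → t * f * t = g₂ * h₂ * t * f₂ →
        f₂ = x ∧ h₂ = h⁻¹) ∧
      ∀ c ∈ (MulAction.stabilizer G a ⊓ MulAction.stabilizer G (t • a)), ∀ g₃ h₃ f₃ : G, g₃ ∈ Q → h₃ ∈ (MulAction.stabilizer G a ⊓ MulAction.stabilizer G (t • a)) → f₃ ∈ Q →
        t * (c⁻¹ * x * c) * t = g₃ * h₃ * t * f₃ →
          f₃ = (t * c * t)⁻¹ * f * (t * c * t) ∧ h₃ = (t * c * t)⁻¹ * h * c := by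
  have ht := t_inv hS
  have htt := hS.mul_self
  have htt' : ∀ y : G, t * (t * y) = y := fun y => by rw [← mul_assoc, htt, one_mul]
  -- x in terms of the rest
  have hxe : x = t * g * h * t * f * t := by
    have : x = t⁻¹ * (t * x * t) * t⁻¹ := by group
    rw [this, heq, ht]; simp only [mul_assoc]
  refine ⟨?_, ?_, ?_⟩
  · intro g₁ h₁ f₁ hg₁ hh₁ hf₁ e
    have hD : t * h⁻¹ * t ∈ (MulAction.stabilizer G a ⊓ MulAction.stabilizer G (t • a)) :=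
      conj_t_mem hS (Subgroup.inv_mem _ hh)
    have e' : g₁ * h₁ * t * f₁ = f⁻¹ * (t * h⁻¹ * t) * t * g⁻¹ := by
      rw [← e, hxe]
      simp only [mul_assoc, mul_inv_rev, ht, htt, htt', mul_one]
    exact uniq hS hg₁ hh₁ hf₁ (Q.inv_mem hf) hD (Q.inv_mem hg) e'
  · intro g₂ h₂ f₂ hg₂ hh₂ hf₂ e
    have hQ' : h⁻¹ * g⁻¹ * h⁻¹⁻¹ ∈ Q :=
      hS.conj_mem h⁻¹ (Subgroup.inv_mem _ hh.1) g⁻¹ (Q.inv_mem hg)
    have e' : g₂ * h₂ * t * f₂ = (h⁻¹ * g⁻¹ * h⁻¹⁻¹) * h⁻¹ * t * x := by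
      rw [← e]
      have : t * x = t * x * t * t := by rw [mul_assoc (t * x), htt, mul_one]
      rw [mul_assoc _ t x, this, heq]
      simp only [mul_assoc, inv_inv, inv_mul_cancel_left, mul_inv_cancel_left]
    exact uniq hS hg₂ hh₂ hf₂ hQ' (Subgroup.inv_mem _ hh) hx e'
  · intro c hc g₃ h₃ f₃ hg₃ hh₃ hf₃ e
    have hcD := conj_t_mem hS hc
    have hcinv : (t * c * t)⁻¹ ∈ MulAction.stabilizer G a := Subgroup.inv_mem _ hcD.1
    have hQg : (t * c * t)⁻¹ * g * (t * c * t)⁻¹⁻¹ ∈ Q := hS.conj_mem _ hcinv g hg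
    have hQf : (t * c * t)⁻¹ * f * (t * c * t)⁻¹⁻¹ ∈ Q := hS.conj_mem _ hcinv f hf
    rw [inv_inv] at hQg hQf
    have hD : (t * c * t)⁻¹ * h * c ∈ (MulAction.stabilizer G a ⊓ MulAction.stabilizer G (t • a)) :=
      Subgroup.mul_mem _ (Subgroup.mul_mem _ (Subgroup.inv_mem _ hcD) hh) hc
    have e' : g₃ * h₃ * t * f₃ = ((t * c * t)⁻¹ * g * (t * c * t)) * ((t * c * t)⁻¹ * h * c) * t *
        ((t * c * t)⁻¹ * f * (t * c * t)) := by
      rw [← e]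
      have e1 : t * (c⁻¹ * x * c) * t = (t * c * t)⁻¹ * (t * x * t) * (t * c * t) := by
        simp only [mul_assoc, mul_inv_rev, ht, htt']
      rw [e1, heq]
      simp only [mul_assoc, mul_inv_rev, ht, htt', mul_inv_cancel_left]
    exact uniq hS hg₃ hh₃ hf₃ hQg hD hQf e'

end Cfsg.Agent.S1165
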