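import Cfsg.Statements.S1166
import Cfsg.Agent.S1165

set_option autoImplicit false
open Cfsg

namespace Cfsg.Agent.S1166

open Cfsg.Agent.S1165 in
/-- In the rank-one set-up (`G` finite and doubly transitive on `Ω`, `t` an involution moving `a`, `Q` normal in `G_a` with `G_a = Q D`, `Q ⊓ D = 1` for the two-point stabiliser `D = G_a ⊓ G_{t • a}`, `|Q|` even, `|D|` odd), with `t x t = g_x h_x t f_x` and `t y t = g_y h_y t f_y` (`g, f ∈ Q`, `h ∈ D`) for `x, y ∈ Q ∖ 1` with `x y ≠ 1`: then `z = f_x g_y ≠ 1`, and if `t z t = g_z h_z t f_z` and `t (x y) t = g' h' t f'` then `f' = (t h_y t)⁻¹ f_z (t h_y t) f_y` and `h' = h_x h_z h_y` (H6). -/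
theorem result {G Ω : Type*} [Group G] [Finite G] [MulAction G Ω] {a : Ω} {t : G} {Q : Subgroup G}
    (hS : Cfsg.IsRankOneSetup G Ω a t Q)
    (x y gx hx fx gy hy fy : G) (hxQ : x ∈ Q) (hx1 : x ≠ 1) (hyQ : y ∈ Q) (hy1 : y ≠ 1) (hxy : x * y ≠ 1)
    (hgx : gx ∈ Q) (hhx : hx ∈ (MulAction.stabilizer G a ⊓ MulAction.stabilizer G (t • a))) (hfx : fx ∈ Q) (ex : t * x * t = gx * hx * t * fx)
    (hgy : gy ∈ Q) (hhy : hy ∈ (MulAction.stabilizer G a ⊓ MulAction.stabilizer G (t • a))) (hfy : fy ∈ Q) (ey : t * y * t = gy * hy * t * fy) :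
    fx * gy ≠ 1 ∧
      ∀ gz hz fz g' h' f' : G, gz ∈ Q → hz ∈ (MulAction.stabilizer G a ⊓ MulAction.stabilizer G (t • a)) → fz ∈ Q → t * (fx * gy) * t = gz * hz * t * fz →
        g' ∈ Q → h' ∈ (MulAction.stabilizer G a ⊓ MulAction.stabilizer G (t • a)) → f' ∈ Q → t * (x * y) * t = g' * h' * t * f' →
          f' = (t * hy * t)⁻¹ * fz * (t * hy * t) * fy ∧ h' = hx * hz * hy := by
  have ht := t_inv hS
  have htt := hS.mul_self
  have htt' : ∀ w : G, t * (t * w) = w := fun w => by rw [← mul_assoc, htt, one_mul]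
  have hxy_eq : t * (x * y) * t = gx * hx * t * (fx * gy) * hy * t * fy := by
    have : t * (x * y) * t = (t * x * t) * (t * y * t) := by
      simp only [mul_assoc, htt']
    rw [this, ex, ey]; simp only [mul_assoc]
  have hyD := conj_t_mem hS hhy
  refine ⟨?_, ?_⟩
  · intro h1
    apply hxy
    rw [h1, mul_one] at hxy_eq
    have hmem : t * (x * y) * t ∈ MulAction.stabilizer G a := by
      have : t * (x * y) * t = gx * hx * (t * hy * t) * fy := by
        rw [hxy_eq]; simp only [mul_assoc]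
      rw [this]
      exact Subgroup.mul_mem _ (Subgroup.mul_mem _ (Subgroup.mul_mem _ (hS.le hgx) hhx.1) hyD.1)
        (hS.le hfy)
    have h2 : x * y ∈ MulAction.stabilizer G (t • a) := by
      rw [MulAction.mem_stabilizer_iff] at hmem ⊢
      have h3 : t • ((t * (x * y) * t) • a) = t • a := by rw [hmem]
      rw [← mul_smul] at h3
      have h4 : t * (t * (x * y) * t) = (x * y) * t := by simp only [mul_assoc, htt']
      rw [h4, mul_smul] at h3
      exact h3
    have h3 : x * y ∈ Q ⊓ MulAction.stabilizer G (t • a) := ⟨Q.mul_mem hxQ hyQ, h2⟩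
    rw [hS.inf_eq_bot, Subgroup.mem_bot] at h3
    exact h3
  · intro gz hz fz g' h' f' hgz hhz hfz ez hg' hh' hf' e
    have hze : fx * gy = t * (gz * hz * t * fz) * t := by
      rw [← ez]; simp only [mul_assoc, htt', htt, mul_one]
    have hyinv : (t * hy * t)⁻¹ ∈ MulAction.stabilizer G a := Subgroup.inv_mem _ hyD.1
    have hQ1 : hx * gz * hx⁻¹ ∈ Q := hS.conj_mem hx hhx.1 gz hgz
    have hQ2 : (t * hy * t)⁻¹ * fz * (t * hy * t)⁻¹⁻¹ ∈ Q := hS.conj_mem _ hyinv fz hfz
    rw [inv_inv] at hQ2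
    have hD : hx * hz * hy ∈ (MulAction.stabilizer G a ⊓ MulAction.stabilizer G (t • a)) :=
      Subgroup.mul_mem _ (Subgroup.mul_mem _ hhx hhz) hhy
    have e' : g' * h' * t * f' = (gx * (hx * gz * hx⁻¹)) * (hx * hz * hy) * t *
        ((t * hy * t)⁻¹ * fz * (t * hy * t) * fy) := by
      rw [← e, hxy_eq, hze]
      simp only [mul_assoc, mul_inv_rev, ht, htt', inv_mul_cancel_left, mul_inv_cancel_left]
    exact uniq hS hg' hh' hf' (Q.mul_mem hgx hQ1) hD (Q.mul_mem hQ2 hfy) e'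

end Cfsg.Agent.S1166
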