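import Cfsg.Statements.S1167
import Cfsg.Agent.Lib.Helper20_FeitAbelian
import Cfsg.Agent.Lib.Helper6_Zassenhaus
import Cfsg.Agent.S0739
-- import your own Cfsg.Agent.* helpers here

set_option autoImplicit false
open Cfsg

namespace Cfsg.Agent.S1167

open MulAction Cfsg.Agent.Lib.Helper6_Zassenhaus

section general

variable {G Ω : Type*} [Group G] [Finite G] [MulAction G Ω] [Finite Ω]

/-- parity of the number of fixed points of an involution -/
theorem card_fixed_modEq (w : G) (hw : w * w = 1) :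
    Nat.card Ω ≡ Nat.card {x : Ω // w • x = x} [MOD 2] := by
  haveI : Fact (Nat.Prime 2) := ⟨Nat.prime_two⟩
  have hp : IsPGroup 2 (Subgroup.zpowers w) := by
    have h1 : orderOf w ∣ 2 := orderOf_dvd_of_pow_eq_one (by rw [pow_two, hw])
    have h2 : Nat.card (Subgroup.zpowers w) = orderOf w := Nat.card_zpowers w
    rcases (Nat.dvd_prime Nat.prime_two).mp h1 with h | h
    · exact IsPGroup.of_card (n := 0) (by rw [h2, h]; rfl)
    · exact IsPGroup.of_card (n := 1) (by rw [h2, h]; rfl)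
  have h := hp.card_modEq_card_fixedPoints Ω
  have e : fixedPoints (Subgroup.zpowers w) Ω ≃ {x : Ω // w • x = x} := by
    refine Equiv.subtypeEquivRight (fun x => ?_)
    rw [mem_fixedPoints]
    constructor
    · intro hx
      exact hx ⟨w, Subgroup.mem_zpowers w⟩
    · intro hx g
      obtain ⟨k, hk⟩ := Subgroup.mem_zpowers_iff.mp g.2
      have : ∀ k : ℤ, (w ^ k) • x = x := by
        intro k
        have hstab : w ∈ stabilizer G x := hx
        exact (stabilizer G x).zpow_mem hstab k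
      show (g : G) • x = x
      rw [← hk]; exact this k
  rw [Nat.card_congr e] at h
  exact h

/-- In a Zassenhaus-type group of odd degree every involution has exactly one fixed point. -/
theorem exists_unique_fixed (hZ : ZHyp G Ω) (hodd : Odd (Nat.card Ω)) (w : G) (hw1 : w ≠ 1)
    (hw2 : w * w = 1) : ∃! c : Ω, w • c = c := by
  classical
  have h1 := card_fixed_modEq (Ω := Ω) w hw2
  have h2 : Odd (Nat.card {x : Ω // w • x = x}) := by
    rw [Nat.odd_iff] at hodd ⊢
    have h1' : Nat.card Ω % 2 = Nat.card {x : Ω // w • x = x} % 2 := h1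
    rw [← h1']; exact hodd
  have : Fintype {x : Ω // w • x = x} := Fintype.ofFinite _
  rw [Nat.card_eq_fintype_card] at h2
  have hpos : 0 < Fintype.card {x : Ω // w • x = x} := h2.pos
  obtain ⟨⟨c, hc⟩⟩ := Fintype.card_pos_iff.mp hpos
  refine ⟨c, hc, ?_⟩
  intro c' hc'
  by_contra hne
  have h3 : 2 < Fintype.card {x : Ω // w • x = x} := by
    have h4 : 1 < Fintype.card {x : Ω // w • x = x} :=
      Fintype.one_lt_card_iff.mpr ⟨⟨c', hc'⟩, ⟨c, hc⟩, fun h => hne (congrArg Subtype.val h)⟩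
    rcases h2 with ⟨k, hk⟩
    omega
  obtain ⟨x, y, z, hxy, hxz, hyz⟩ := Fintype.two_lt_card_iff.mp h3
  apply hw1
  exact hZ.three w x y z (fun h => hxy (Subtype.ext h)) (fun h => hyz (Subtype.ext h))
    (fun h => hxz (Subtype.ext h)) x.2 y.2 z.2

end general

section dihedral

variable {G : Type*} [Group G]

/-- the subgroup `H ∪ vH` for an involution `v` normalizing `H` -/
def Dsub (H : Subgroup G) (v : G) (hv2 : v * v = 1) (hnorm : ∀ h ∈ H, v * h * v⁻¹ ∈ H) :
    Subgroup G where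
  carrier := {g | g ∈ H ∨ v * g ∈ H}
  one_mem' := Or.inl H.one_mem
  mul_mem' := by
    have hvinv : v⁻¹ = v := inv_eq_of_mul_eq_one_right hv2
    rintro x y (hx | hx) (hy | hy)
    · exact Or.inl (H.mul_mem hx hy)
    · right
      have : v * (x * y) = (v * x * v⁻¹) * (v * y) := by group
      rw [this]
      exact H.mul_mem (hnorm x hx) hy
    · right
      have : v * (x * y) = (v * x) * y := by group
      rw [this]
      exact H.mul_mem hx hy
    · left
      have : x * y = (v * (v * x) * v⁻¹) * (v * y) := by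
        rw [hvinv]
        calc x * y = (v * v) * x * ((v * v) * y) := by rw [hv2]; group
          _ = v * (v * x) * v * (v * y) := by group
      rw [this]
      exact H.mul_mem (hnorm _ hx) hy
  inv_mem' := by
    have hvinv : v⁻¹ = v := inv_eq_of_mul_eq_one_right hv2
    rintro x (hx | hx)
    · exact Or.inl (H.inv_mem hx)
    · right
      have : v * x⁻¹ = (v * (v * x) * v⁻¹)⁻¹ := by
        rw [hvinv, eq_inv_iff_mul_eq_one]
        calc v * x⁻¹ * (v * (v * x) * v) = v * x⁻¹ * (v * v) * x * v := by group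
          _ = v * x⁻¹ * 1 * x * v := by rw [hv2]
          _ = v * v := by group
          _ = 1 := hv2
      rw [this]
      exact H.inv_mem (hnorm _ hx)

theorem mem_Dsub {H : Subgroup G} {v : G} {hv2 : v * v = 1} {hnorm : ∀ h ∈ H, v * h * v⁻¹ ∈ H}
    {g : G} : g ∈ Dsub H v hv2 hnorm ↔ g ∈ H ∨ v * g ∈ H := Iff.rfl

theorem le_Dsub (H : Subgroup G) (v : G) (hv2 : v * v = 1) (hnorm : ∀ h ∈ H, v * h * v⁻¹ ∈ H) :
    H ≤ Dsub H v hv2 hnorm := fun _ hg => Or.inl hg

theorem card_Dsub [Finite G] (H : Subgroup G) (v : G) (hv2 : v * v = 1)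
    (hnorm : ∀ h ∈ H, v * h * v⁻¹ ∈ H) (hv : v ∉ H) :
    Nat.card (Dsub H v hv2 hnorm) = 2 * Nat.card H := by
  classical
  have hvinv : v⁻¹ = v := inv_eq_of_mul_eq_one_right hv2
  let f : H ⊕ H → Dsub H v hv2 hnorm := fun p =>
    match p with
    | Sum.inl h => ⟨h, Or.inl h.2⟩
    | Sum.inr h => ⟨v * h, Or.inr (by rw [← mul_assoc, hv2, one_mul]; exact h.2)⟩
  have hf : Function.Bijective f := by
    constructor
    · rintro (h | h) (h' | h') hh
      · have : (h : G) = h' := by simpa [f] using congrArg Subtype.val hh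
        rw [Subtype.ext this]
      · exfalso
        have h1 : (h : G) = v * h' := by simpa [f] using congrArg Subtype.val hh
        apply hv
        have : v = h * (h' : G)⁻¹ := by rw [h1]; group
        rw [this]
        exact H.mul_mem h.2 (H.inv_mem h'.2)
      · exfalso
        have h1 : v * (h : G) = h' := by simpa [f] using congrArg Subtype.val hh
        apply hv
        have : v = h' * (h : G)⁻¹ := by rw [← h1]; group
        rw [this]
        exact H.mul_mem h'.2 (H.inv_mem h.2)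
      · have h1 : (h : G) = h' := by simpa [f] using congrArg Subtype.val hh
        rw [Subtype.ext h1]
    · rintro ⟨g, hg | hg⟩
      · exact ⟨Sum.inl ⟨g, hg⟩, rfl⟩
      · refine ⟨Sum.inr ⟨v * g, hg⟩, ?_⟩
        apply Subtype.ext
        show v * (v * g) = g
        rw [← mul_assoc, hv2, one_mul]
  rw [← Nat.card_congr (Equiv.ofBijective f hf), Nat.card_sum]
  ring

/-- elements of `vH` are conjugate to `v` when `v` inverts `H` of odd order -/
theorem isConj_of_mem_Dsub [Finite G] (H : Subgroup G) (v : G) (hv2 : v * v = 1)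
    (hnorm : ∀ h ∈ H, v * h * v⁻¹ ∈ H) (hinv : ∀ h ∈ H, v * h * v⁻¹ = h⁻¹)
    (hodd : Odd (Nat.card H)) {d : G} (hd : d ∈ Dsub H v hv2 hnorm) (hdH : d ∉ H) :
    IsConj d v := by
  have hvinv : v⁻¹ = v := inv_eq_of_mul_eq_one_right hv2
  rcases hd with hd | hd
  · exact absurd hd hdH
  · set h := v * d with hh
    have hd' : d = v * h := by rw [hh, ← mul_assoc, hv2, one_mul]
    obtain ⟨m, hm⟩ := hodd
    -- k = h ^ (m+1) satisfies k * k = h * (h^(2m+1)) = h
    have hpow : h ^ (2 * m + 1) = 1 := by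
      have := pow_card_eq_one' (G := H) (x := ⟨h, hd⟩)
      rw [hm] at this
      have h2 := congrArg Subtype.val this
      simpa using h2
    set k := h ^ (m + 1) with hk
    have hkH : k ∈ H := H.pow_mem hd _
    have hkk : k * k = h := by
      rw [hk, ← pow_add]
      have : m + 1 + (m + 1) = (2 * m + 1) + 1 := by ring
      rw [this, pow_succ, hpow, one_mul]
    -- k⁻¹ v k = v k k = v h
    rw [isConj_comm, isConj_iff]
    refine ⟨k⁻¹, ?_⟩
    have h1 : v * k * v⁻¹ = k⁻¹ := hinv k hkH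
    have h2 : k⁻¹ * v = v * k := by
      rw [← h1]; rw [hvinv]
      calc v * k * v * v = v * k * (v * v) := by group
        _ = v * k := by rw [hv2, mul_one]
    rw [inv_inv, h2, hd', ← hkk]
    group

end dihedral

section setup

variable {G Ω : Type*} [Group G] [MulAction G Ω]

/-- the hypotheses of the statement, bundled -/
structure Setup (a b : Ω) (U : Subgroup G) : Prop where
  hZ : ZHyp G Ω
  hba : b ≠ a
  hUle : U ≤ stabilizer G a
  hUn : ∀ h ∈ stabilizer G a, ∀ u ∈ U, h * u * h⁻¹ ∈ U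
  hreg : ∀ c d : Ω, c ≠ a → d ≠ a → ∃! u : U, (u : G) • c = d
  hU2 : IsPGroup 2 U
  hUab : ∀ u ∈ U, ∀ u' ∈ U, u * u' = u' * u

/-- the two point stabiliser -/
def Hsub (G : Type*) {Ω : Type*} [Group G] [MulAction G Ω] (a b : Ω) : Subgroup G :=
  stabilizer G a ⊓ stabilizer G b

theorem mem_Hsub {a b : Ω} {g : G} : g ∈ Hsub G a b ↔ g • a = a ∧ g • b = b := by
  rw [Hsub, Subgroup.mem_inf, mem_stabilizer_iff, mem_stabilizer_iff]

variable {a b : Ω} {U : Subgroup G} (S : Setup a b U)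
include S

theorem U_fix {u : G} (hu : u ∈ U) : u • a = a := mem_stabilizer_iff.mp (S.hUle hu)

theorem U_eq_one_of_fix {u : G} (hu : u ∈ U) {c : Ω} (hc : c ≠ a) (h : u • c = c) : u = 1 := by
  obtain ⟨w, _, hw⟩ := S.hreg c c hc hc
  have h1 := hw ⟨u, hu⟩ h
  have h2 := hw 1 (by simp)
  have := h1.trans h2.symm
  exact congrArg Subtype.val this

theorem smul_ne_a {n : G} (hn : n • a = a) {c : Ω} (hc : c ≠ a) : n • c ≠ a := by
  intro h
  apply hc
  have : n • c = n • a := by rw [h, hn]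
  exact smul_left_cancel n this

theorem exists_U_ne_one : ∃ u ∈ U, u ≠ 1 := by
  obtain ⟨c, hca, hcb⟩ := exists_third S.hZ a b S.hba.symm
  obtain ⟨u, hu, _⟩ := S.hreg b c S.hba hca
  refine ⟨u, u.2, ?_⟩
  intro h
  apply hcb
  rw [← hu, h, one_smul]

theorem H_inf_U {h : G} (hh : h ∈ Hsub G a b) (hu : h ∈ U) : h = 1 :=
  U_eq_one_of_fix S hu S.hba (mem_Hsub.mp hh).2

theorem decomp {n : G} (hn : n • a = a) : ∃ u ∈ U, ∃ h ∈ Hsub G a b, n = u * h := by
  obtain ⟨u, hu, _⟩ := S.hreg b (n • b) S.hba (smul_ne_a S hn S.hba)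
  refine ⟨u, u.2, (u : G)⁻¹ * n, ?_, by group⟩
  rw [mem_Hsub]
  constructor
  · rw [mul_smul, hn, inv_smul_eq_iff, U_fix S u.2]
  · rw [mul_smul, inv_smul_eq_iff, hu]

theorem normalizer_eq : Subgroup.normalizer (U : Set G) = stabilizer G a := by
  ext g
  constructor
  · intro hg
    obtain ⟨u, hu, hu1⟩ := exists_U_ne_one S
    rw [mem_stabilizer_iff]
    by_contra hga
    have h1 : g⁻¹ * u * g ∈ U := by
      have := (Subgroup.mem_normalizer_iff.mp ((Subgroup.normalizer (U : Set G)).inv_mem hg) u).mp hu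
      simpa using this
    have h2 : u • (g • a) = g • a := by
      have h3 := U_fix S h1
      rw [mul_smul, mul_smul, inv_smul_eq_iff] at h3
      exact h3
    exact hu1 (U_eq_one_of_fix S hu hga h2)
  · intro hg
    rw [Subgroup.mem_normalizer_iff]
    intro u
    constructor
    · intro hu
      exact S.hUn g hg u hu
    · intro hu
      have := S.hUn g⁻¹ ((stabilizer G a).inv_mem hg) _ hu
      simpa [mul_assoc] using this

theorem hTI : ∀ g : G, g ∉ Subgroup.normalizer (U : Set G) → ∀ s ∈ (U : Set G),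
    g * s * g⁻¹ ∈ (U : Set G) → s = 1 := by
  intro g hg s hs hgs
  by_contra hs1
  apply hg
  rw [normalizer_eq S, mem_stabilizer_iff]
  have h1 := U_fix S hgs
  rw [mul_smul, mul_smul] at h1
  have h2 : s • (g⁻¹ • a) = g⁻¹ • a := by
    rw [eq_inv_smul_iff]; exact h1
  by_contra hga
  have h3 : g⁻¹ • a ≠ a := by
    intro h
    apply hga
    rw [inv_smul_eq_iff] at h
    exact h.symm
  exact hs1 (U_eq_one_of_fix S hs h3 h2)

theorem hC : ∀ u ∈ U, u ≠ 1 → ∀ g ∈ Subgroup.normalizer (U : Set G), g * u = u * g → g ∈ U := by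
  intro u hu hu1 g hg hcomm
  rw [normalizer_eq S, mem_stabilizer_iff] at hg
  obtain ⟨u', hu', h, hh, rfl⟩ := decomp S hg
  have hhu : h * u = u * h := by
    have h1 : u' * u = u * u' := S.hUab u' hu' u hu
    have h2 : u' * (h * u) = u' * (u * h) := by
      calc u' * (h * u) = (u' * h) * u := by group
        _ = u * (u' * h) := hcomm
        _ = (u * u') * h := by group
        _ = (u' * u) * h := by rw [h1]
        _ = u' * (u * h) := by group
    exact mul_left_cancel h2
  obtain ⟨hha, hhb⟩ := mem_Hsub.mp hh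
  have hub : u • b ≠ b := fun h' => hu1 (U_eq_one_of_fix S hu S.hba h')
  have hua : u • b ≠ a := smul_ne_a S (U_fix S hu) S.hba
  have hfix : h • (u • b) = u • b := by
    rw [← mul_smul, hhu, mul_smul, hhb]
  have : h = 1 := S.hZ.three h a b (u • b) S.hba.symm hub.symm hua.symm hha hhb hfix
  rw [this, mul_one]
  exact hu'

theorem card_stab [Finite G] : Nat.card (stabilizer G a) = Nat.card U * Nat.card (Hsub G a b) := by
  rw [← Nat.card_prod]
  symm
  let f : U × Hsub G a b → stabilizer G a := fun p =>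
    ⟨(p.1 : G) * (p.2 : G), by
      rw [mem_stabilizer_iff, mul_smul, (mem_Hsub.mp p.2.2).1, U_fix S p.1.2]⟩
  apply Nat.card_congr (Equiv.ofBijective f ⟨?_, ?_⟩)
  · rintro ⟨u, h⟩ ⟨u', h'⟩ hh
    have h1 : (u : G) * (h : G) = (u' : G) * (h' : G) := congrArg Subtype.val hh
    have h2 : (u' : G)⁻¹ * (u : G) = (h' : G) * (h : G)⁻¹ := by
      rw [inv_mul_eq_iff_eq_mul, ← mul_assoc, ← h1]; group
    have h3 : (u' : G)⁻¹ * (u : G) = 1 := by
      apply H_inf_U S
      · rw [h2]; exact (Hsub G a b).mul_mem h'.2 ((Hsub G a b).inv_mem h.2)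
      · exact U.mul_mem (U.inv_mem u'.2) u.2
    have h4 : (u : G) = u' := by
      rw [inv_mul_eq_one] at h3; exact h3.symm
    have h5 : (h : G) = h' := by
      rw [h4] at h1; exact mul_left_cancel h1
    exact Prod.ext (Subtype.ext h4) (Subtype.ext h5)
  · rintro ⟨n, hn⟩
    obtain ⟨u, hu, h, hh, rfl⟩ := decomp S (mem_stabilizer_iff.mp hn)
    exact ⟨(⟨u, hu⟩, ⟨h, hh⟩), rfl⟩

theorem card_Omega [Finite Ω] : Nat.card Ω = Nat.card U + 1 := by
  classical
  have : Fintype Ω := Fintype.ofFinite Ω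
  let f : U → {c : Ω // c ≠ a} := fun u => ⟨(u : G) • b, smul_ne_a S (U_fix S u.2) S.hba⟩
  have hf : Function.Bijective f := by
    constructor
    · intro u u' h
      have h1 : (u : G) • b = (u' : G) • b := congrArg Subtype.val h
      obtain ⟨w, _, hw⟩ := S.hreg b ((u' : G) • b) S.hba (smul_ne_a S (U_fix S u'.2) S.hba)
      exact (hw u h1).trans (hw u' rfl).symm
    · rintro ⟨c, hc⟩
      obtain ⟨u, hu, _⟩ := S.hreg b c S.hba hc
      exact ⟨u, Subtype.ext hu⟩
  rw [Nat.card_congr (Equiv.ofBijective f hf), Nat.card_eq_fintype_card, Nat.card_eq_fintype_card,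
    Fintype.card_subtype, Finset.filter_ne' Finset.univ a, Finset.card_erase_of_mem (Finset.mem_univ a),
    Finset.card_univ]
  have : 0 < Fintype.card Ω := Fintype.card_pos_iff.mpr ⟨a⟩
  omega

theorem isPretransitive : IsPretransitive G Ω := by
  constructor
  intro x y
  by_cases h : x = y
  · exact ⟨1, by rw [one_smul, h]⟩
  · obtain ⟨g, hg, _⟩ := S.hZ.two h (Ne.symm h)
    exact ⟨g, hg⟩

theorem card_G [Finite G] [Finite Ω] :
    Nat.card G = (Nat.card U + 1) * Nat.card U * Nat.card (Hsub G a b) := by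
  haveI := isPretransitive S
  have h1 := index_stabilizer_of_transitive G a
  have h2 := (stabilizer G a).card_mul_index
  rw [h1, card_Omega S, card_stab S] at h2
  rw [← h2]; ring

theorem odd_card_Omega [Finite G] [Finite Ω] : Odd (Nat.card Ω) := by
  rw [card_Omega S]
  obtain ⟨k, hk⟩ := IsPGroup.iff_card.mp S.hU2
  obtain ⟨u, hu, hu1⟩ := exists_U_ne_one S
  have h1 : 1 < Nat.card U := by
    rw [Finite.one_lt_card_iff_nontrivial]
    exact ⟨⟨⟨u, hu⟩, 1, fun h => hu1 (congrArg Subtype.val h)⟩⟩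
  have hk0 : k ≠ 0 := by
    rintro rfl
    rw [pow_zero] at hk
    omega
  rw [hk]
  have : Even (2 ^ k) := (Nat.even_pow' hk0).mpr even_two
  exact this.add_one

theorem H_odd [Finite G] [Finite Ω] : Odd (Nat.card (Hsub G a b)) := by
  by_contra hne
  rw [Nat.not_odd_iff_even] at hne
  haveI : Fact (Nat.Prime 2) := ⟨Nat.prime_two⟩
  obtain ⟨w, hw⟩ := exists_prime_orderOf_dvd_card' 2 hne.two_dvd
  have hw1 : (w : G) ≠ 1 := by
    intro h
    have : w = 1 := Subtype.ext h
    rw [this, orderOf_one] at hw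
    omega
  have hw2 : (w : G) * (w : G) = 1 := by
    have := pow_orderOf_eq_one w
    rw [hw] at this
    have h2 := congrArg Subtype.val this
    simpa [pow_two] using h2
  obtain ⟨c, _, hc⟩ := exists_unique_fixed S.hZ (odd_card_Omega S) (w : G) hw1 hw2
  have ha := hc a (mem_Hsub.mp w.2).1
  have hb := hc b (mem_Hsub.mp w.2).2
  exact S.hba (hb.trans ha.symm)

theorem H_sq_eq_one [Finite G] [Finite Ω] {h : G} (hh : h ∈ Hsub G a b) (h2 : h * h = 1) : h = 1 := by
  have h1 : orderOf (⟨h, hh⟩ : Hsub G a b) ∣ 2 := by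
    apply orderOf_dvd_of_pow_eq_one
    apply Subtype.ext
    simp [pow_two, h2]
  have h3 : orderOf (⟨h, hh⟩ : Hsub G a b) ∣ Nat.card (Hsub G a b) := orderOf_dvd_natCard _
  have h4 : orderOf (⟨h, hh⟩ : Hsub G a b) = 1 := by
    rcases (Nat.dvd_prime Nat.prime_two).mp h1 with h5 | h5
    · exact h5
    · exfalso
      rw [h5] at h3
      have := H_odd S
      rw [Nat.odd_iff] at this
      omega
  have := orderOf_eq_one_iff.mp h4
  exact congrArg Subtype.val this

theorem invol_mem_U [Finite G] [Finite Ω] {w : G} (hwa : w • a = a) (hw2 : w * w = 1) : w ∈ U := by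
  obtain ⟨u, hu, h, hh, rfl⟩ := decomp S hwa
  have hha : h ∈ stabilizer G a := mem_stabilizer_iff.mpr (mem_Hsub.mp hh).1
  have h1 : h * u * h⁻¹ ∈ U := S.hUn h hha u hu
  have key : u * (h * u * h⁻¹) * (h * h) = 1 := by
    have : u * h * (u * h) = 1 := hw2
    calc u * (h * u * h⁻¹) * (h * h) = u * h * (u * h) := by group
      _ = 1 := this
  have h2 : (u * (h * u * h⁻¹))⁻¹ = h * h := inv_eq_of_mul_eq_one_right key
  have h3 : h * h ∈ U := by
    rw [← h2]; exact U.inv_mem (U.mul_mem hu h1)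
  have h4 : h * h = 1 := H_inf_U S ((Hsub G a b).mul_mem hh hh) h3
  have h5 : h = 1 := H_sq_eq_one S hh h4
  rw [h5, mul_one]; exact hu

section withv

variable [Finite G] [Finite Ω] {v : G} (hv1 : v ≠ 1) (hv2 : v * v = 1) (hvab : v • a = b)
include hv2 hvab

omit S [Finite G] [Finite Ω] in
theorem v_b : v • b = a := by
  rw [← hvab, ← mul_smul, hv2, one_smul]

omit S [Finite G] [Finite Ω] in
theorem v_norm_H : ∀ h ∈ Hsub G a b, v * h * v⁻¹ ∈ Hsub G a b := by
  have hvinv : v⁻¹ = v := inv_eq_of_mul_eq_one_right hv2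
  intro h hh
  obtain ⟨ha, hb⟩ := mem_Hsub.mp hh
  rw [mem_Hsub, hvinv]
  constructor
  · rw [mul_smul, mul_smul, hvab, hb, v_b hv2 hvab]
  · rw [mul_smul, mul_smul, v_b hv2 hvab, ha, hvab]

include hv1 in
theorem v_fpf_H : ∀ h ∈ Hsub G a b, v * h = h * v → h = 1 := by
  intro h hh hcomm
  obtain ⟨ha, hb⟩ := mem_Hsub.mp hh
  obtain ⟨c, hc, hcu⟩ := exists_unique_fixed S.hZ (odd_card_Omega S) v hv1 hv2
  have h1 : v • (h • c) = h • c := by
    rw [← mul_smul, hcomm, mul_smul, hc]
  have h2 : h • c = c := hcu _ h1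
  have hca : c ≠ a := by
    intro h'
    rw [h', hvab] at hc
    exact S.hba hc
  have hcb : c ≠ b := by
    intro h'
    rw [h', v_b hv2 hvab] at hc
    exact S.hba hc.symm
  exact S.hZ.three h a b c S.hba.symm hcb.symm hca.symm ha hb h2

include hv1 in
theorem v_inverts : ∀ h ∈ Hsub G a b, v * h * v⁻¹ = h⁻¹ :=
  Cfsg.Agent.S0739.inverts_of_fpf (Hsub G a b) v hv2 (v_norm_H hv2 hvab) (v_fpf_H S hv1 hv2 hvab)

omit S [Finite G] [Finite Ω] hv2 in
theorem v_not_mem_H (hba : b ≠ a) : v ∉ Hsub G a b := by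
  intro h
  have := (mem_Hsub.mp h).1
  rw [hvab] at this
  exact hba this

include hv1 in
/-- `v` is conjugate to an element of `U` -/
theorem exists_conj_mem_U : ∃ t ∈ U, t ≠ 1 ∧ IsConj v t := by
  obtain ⟨c, hc, _⟩ := exists_unique_fixed S.hZ (odd_card_Omega S) v hv1 hv2
  haveI := isPretransitive S
  obtain ⟨g, hg⟩ := exists_smul_eq G c a
  refine ⟨g * v * g⁻¹, ?_, ?_, isConj_iff.mpr ⟨g, rfl⟩⟩
  · apply invol_mem_U S
    · rw [mul_smul, mul_smul, ← hg, inv_smul_smul, hc]
    · calc g * v * g⁻¹ * (g * v * g⁻¹) = g * (v * v) * g⁻¹ := by group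
        _ = 1 := by rw [hv2]; group
  · intro h
    apply hv1
    have : v = g⁻¹ * (g * v * g⁻¹) * g := by group
    rw [this, h]; group

end withv

/-- a nontrivial subgroup of `U` invariant under `H` has more than `|H|` elements -/
theorem card_invariant_ge [Finite G] (K : Subgroup G) (hKU : K ≤ U)
    (hKH : ∀ h ∈ Hsub G a b, ∀ k ∈ K, h * k * h⁻¹ ∈ K) (k₀ : G) (hk₀ : k₀ ∈ K) (hk₀1 : k₀ ≠ 1) :
    Nat.card (Hsub G a b) + 1 ≤ Nat.card K := by
  classical
  have : Fintype K := Fintype.ofFinite K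
  have : Fintype (Hsub G a b) := Fintype.ofFinite _
  let f : Hsub G a b → K := fun h => ⟨(h : G) * k₀ * (h : G)⁻¹, hKH h h.2 k₀ hk₀⟩
  have hf : Function.Injective f := by
    intro h h' hh
    have h1 : (h : G) * k₀ * (h : G)⁻¹ = (h' : G) * k₀ * (h' : G)⁻¹ := congrArg Subtype.val hh
    -- x = h'⁻¹ h commutes with k₀
    set x := (h' : G)⁻¹ * (h : G) with hx
    have hxH : x ∈ Hsub G a b := (Hsub G a b).mul_mem ((Hsub G a b).inv_mem h'.2) h.2
    have hcomm : x * k₀ = k₀ * x := by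
      have : x * k₀ * x⁻¹ = k₀ := by
        rw [hx]
        calc (h' : G)⁻¹ * (h : G) * k₀ * ((h' : G)⁻¹ * (h : G))⁻¹
            = (h' : G)⁻¹ * ((h : G) * k₀ * (h : G)⁻¹) * (h' : G) := by group
          _ = (h' : G)⁻¹ * ((h' : G) * k₀ * (h' : G)⁻¹) * (h' : G) := by rw [h1]
          _ = k₀ := by group
      calc x * k₀ = (x * k₀ * x⁻¹) * x := by group
        _ = k₀ * x := by rw [this]
    have hk₀U : k₀ ∈ U := hKU hk₀
    have hxN : x ∈ Subgroup.normalizer (U : Set G) := by
      rw [normalizer_eq S, mem_stabilizer_iff]; exact (mem_Hsub.mp hxH).1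
    have hxU : x ∈ U := hC S k₀ hk₀U hk₀1 x hxN hcomm
    have hx1 : x = 1 := H_inf_U S hxH hxU
    rw [hx, inv_mul_eq_one] at hx1
    exact Subtype.ext hx1.symm
  -- the image avoids 1
  have h1 : ∀ h, f h ≠ 1 := by
    intro h hh
    have h2 : (h : G) * k₀ * (h : G)⁻¹ = 1 := congrArg Subtype.val hh
    apply hk₀1
    have : k₀ = (h : G)⁻¹ * ((h : G) * k₀ * (h : G)⁻¹) * (h : G) := by group
    rw [this, h2]; group
  have h2 : (Finset.univ.image f).card = Fintype.card (Hsub G a b) := by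
    rw [Finset.card_image_of_injective _ hf, Finset.card_univ]
  have h3 : Finset.univ.image f ⊆ Finset.univ.erase (1 : K) := by
    intro k hk
    obtain ⟨h, _, rfl⟩ := Finset.mem_image.mp hk
    exact Finset.mem_erase.mpr ⟨h1 h, Finset.mem_univ _⟩
  have h4 := Finset.card_le_card h3
  rw [h2, Finset.card_erase_of_mem (Finset.mem_univ _), Finset.card_univ] at h4
  rw [Nat.card_eq_fintype_card, Nat.card_eq_fintype_card]
  have : 0 < Fintype.card K := Fintype.card_pos
  omega

omit S in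
/-- the squaring endomorphism of the abelian group `U` -/
def sqHom (hUab : ∀ u ∈ U, ∀ u' ∈ U, u * u' = u' * u) : U →* U where
  toFun u := u * u
  map_one' := by simp
  map_mul' x y := by
    apply Subtype.ext
    have h := hUab x x.2 y y.2
    show (x : G) * y * (x * y) = x * x * (y * y)
    calc (x : G) * y * (x * y) = x * (y * x) * y := by group
      _ = x * (x * y) * y := by rw [h]
      _ = x * x * (y * y) := by group

/-- if `U` is not of exponent two then `|U| ≥ (|H|+1)²` -/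
theorem card_U_ge [Finite G] [Finite Ω] (x : G) (hx : x ∈ U) (hx2 : x * x ≠ 1) :
    (Nat.card (Hsub G a b) + 1) ^ 2 ≤ Nat.card U := by
  set φ := sqHom S.hUab with hφ
  have hcard : Nat.card U = Nat.card φ.ker * Nat.card φ.range := by
    rw [← Subgroup.index_ker, Subgroup.card_mul_index]
  have hinj : Function.Injective U.subtype := Subtype.val_injective
  have hK1 : Nat.card (φ.ker.map U.subtype) = Nat.card φ.ker := Subgroup.card_map_of_injective hinj
  have hK2 : Nat.card (φ.range.map U.subtype) = Nat.card φ.range := Subgroup.card_map_of_injective hinj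
  have hconjU : ∀ h ∈ Hsub G a b, ∀ u ∈ U, h * u * h⁻¹ ∈ U := fun h hh u hu =>
    S.hUn h (mem_stabilizer_iff.mpr (mem_Hsub.mp hh).1) u hu
  -- invariance of kernel and range
  have hinv1 : ∀ h ∈ Hsub G a b, ∀ k ∈ φ.ker.map U.subtype, h * k * h⁻¹ ∈ φ.ker.map U.subtype := by
    intro h hh k hk
    obtain ⟨u, hu, rfl⟩ := Subgroup.mem_map.mp hk
    refine Subgroup.mem_map.mpr ⟨⟨h * u * h⁻¹, hconjU h hh u u.2⟩, ?_, rfl⟩
    rw [MonoidHom.mem_ker] at hu ⊢
    have h1 : (u : G) * u = 1 := congrArg Subtype.val hu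
    apply Subtype.ext
    show h * (u : G) * h⁻¹ * (h * u * h⁻¹) = 1
    calc h * (u : G) * h⁻¹ * (h * u * h⁻¹) = h * (u * u) * h⁻¹ := by group
      _ = 1 := by rw [h1]; group
  have hinv2 : ∀ h ∈ Hsub G a b, ∀ k ∈ φ.range.map U.subtype, h * k * h⁻¹ ∈ φ.range.map U.subtype := by
    intro h hh k hk
    obtain ⟨w, hw, rfl⟩ := Subgroup.mem_map.mp hk
    obtain ⟨u, rfl⟩ := MonoidHom.mem_range.mp hw
    refine Subgroup.mem_map.mpr ⟨φ ⟨h * u * h⁻¹, hconjU h hh u u.2⟩, MonoidHom.mem_range.mpr ⟨_, rfl⟩, ?_⟩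
    show h * (u : G) * h⁻¹ * (h * u * h⁻¹) = h * ((u : G) * u) * h⁻¹
    group
  -- nontrivial elements
  have hx2mem : x * x ∈ φ.range.map U.subtype :=
    Subgroup.mem_map.mpr ⟨φ ⟨x, hx⟩, MonoidHom.mem_range.mpr ⟨_, rfl⟩, rfl⟩
  obtain ⟨t, ht, ht1⟩ : ∃ t ∈ φ.ker.map U.subtype, t ≠ 1 := by
    haveI : Fact (Nat.Prime 2) := ⟨Nat.prime_two⟩
    obtain ⟨k, hk⟩ := IsPGroup.iff_card.mp S.hU2
    have hk0 : k ≠ 0 := by
      rintro rfl
      rw [pow_zero] at hk
      have : (⟨x, hx⟩ : U) = 1 := by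
        have := (Nat.card_eq_one_iff_unique.mp hk).1
        exact Subsingleton.elim _ _
      apply hx2
      have h1 : x = 1 := congrArg Subtype.val this
      rw [h1, one_mul]
    have h2 : 2 ∣ Nat.card U := by rw [hk]; exact dvd_pow_self 2 hk0
    obtain ⟨w, hw⟩ := exists_prime_orderOf_dvd_card' 2 h2
    refine ⟨w, Subgroup.mem_map.mpr ⟨w, ?_, rfl⟩, ?_⟩
    · rw [MonoidHom.mem_ker]
      have := pow_orderOf_eq_one w
      rw [hw, pow_two] at this
      exact this
    · intro h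
      have : w = 1 := Subtype.ext h
      rw [this, orderOf_one] at hw
      omega
  have hle1 : φ.ker.map U.subtype ≤ U := by
    intro g hg
    obtain ⟨u, _, rfl⟩ := Subgroup.mem_map.mp hg
    exact u.2
  have hle2 : φ.range.map U.subtype ≤ U := by
    intro g hg
    obtain ⟨u, _, rfl⟩ := Subgroup.mem_map.mp hg
    exact u.2
  have g1 := card_invariant_ge S _ hle1 hinv1 t ht ht1
  have g2 := card_invariant_ge S _ hle2 hinv2 (x * x) hx2mem hx2
  rw [hK1] at g1
  rw [hK2] at g2
  rw [hcard, pow_two]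
  exact Nat.mul_le_mul g1 g2

/-- `U` has exponent two (Feit's inequality in the abelian case, via exceptional characters) -/
theorem exponent_two [Finite G] [Finite Ω] {v : G} (hv1 : v ≠ 1) (hv2 : v * v = 1)
    (hvab : v • a = b) : ∀ u ∈ U, u * u = 1 := by
  classical
  by_contra hcon
  push Not at hcon
  obtain ⟨x, hx, hx2⟩ := hcon
  haveI : Fintype G := Fintype.ofFinite G
  obtain ⟨t, ht, ht1, hvt⟩ := exists_conj_mem_U S hv1 hv2 hvab
  have hnorm := v_norm_H (G := G) hv2 hvab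
  have hinv := v_inverts S hv1 hv2 hvab
  have he : 2 ≤ Nat.card (Hsub G a b) := by
    obtain ⟨h, h1, ha, hb⟩ := exists_fix S.hZ a b S.hba.symm
    have : 1 < Nat.card (Hsub G a b) := by
      rw [Finite.one_lt_card_iff_nontrivial]
      exact ⟨⟨⟨h, mem_Hsub.mpr ⟨ha, hb⟩⟩, 1, fun hh => h1 (congrArg Subtype.val hh)⟩⟩
    omega
  refine Cfsg.Agent.Lib.Helper20_FeitAbelian.feit_abelian U (Hsub G a b)
    (Dsub (Hsub G a b) v hv2 hnorm) ?_ (hTI S) (hC S) (Nat.card U) (Nat.card (Hsub G a b)) rfl ?_ (card_G S)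
    he (card_U_ge S x hx hx2) ?_ (fun h hh hu => H_inf_U S hh hu) rfl (le_Dsub _ _ _ _)
    (card_Dsub _ _ _ _ (v_not_mem_H hvab S.hba)) t ht ht1 ?_
  · intro u u'
    apply Subtype.ext
    exact S.hUab u u.2 u' u'.2
  · rw [normalizer_eq S, card_stab S]
  · rw [normalizer_eq S]
    exact inf_le_left
  · intro d hd hdH
    exact (isConj_of_mem_Dsub _ v hv2 hnorm hinv (H_odd S) hd hdH).trans hvt

end setup

/-- Let `G` be a finite simple Zassenhaus group on `Ω`, `U` a normal subgroup of `G_a` regular on `Ω` minus `a` which is an abelian 2-group, and `v` an involution with `v • a ≠ a`. Then there is a unique `u₀ ∈ U`, `u₀ ≠ 1`, with `v u₀ v = u₀ v u₀`. -/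
theorem result {G Ω : Type*} [Group G] [Finite G] [MulAction G Ω] [Finite Ω]
    (hZ : Cfsg.IsZassenhausGroup G Ω) [IsSimpleGroup G] {a : Ω}
    (U : Subgroup G) (hUle : U ≤ MulAction.stabilizer G a)
    (hUn : ∀ h ∈ MulAction.stabilizer G a, ∀ u ∈ U, h * u * h⁻¹ ∈ U)
    (hreg : ∀ c d : Ω, c ≠ a → d ≠ a → ∃! u : U, (u : G) • c = d)
    (hU2 : IsPGroup 2 U) (hUab : ∀ u ∈ U, ∀ u' ∈ U, u * u' = u' * u)
    (v : G) (hv1 : v ≠ 1) (hv2 : v * v = 1) (hva : v • a ≠ a) :
    ∃! u₀ : G, u₀ ∈ U ∧ u₀ ≠ 1 ∧ v * u₀ * v = u₀ * v * u₀ := by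
  have S : Setup a (v • a) U := ⟨zhyp_of_isZassenhausGroup hZ, hva, hUle, hUn, hreg, hU2, hUab⟩
  set b := v • a with hb
  have hvb : v • b = a := v_b hv2 rfl
  obtain ⟨c, hc, hcu⟩ := exists_unique_fixed S.hZ (odd_card_Omega S) v hv1 hv2
  have hca : c ≠ a := by
    intro h
    rw [h] at hc
    exact hva hc
  have hcb : c ≠ b := by
    intro h
    rw [h, hvb] at hc
    exact hva hc.symm
  obtain ⟨u₀, hu₀, hu₀u⟩ := hreg b c hva hca
  have hu₀a : (u₀ : G) • a = a := U_fix S u₀.2
  have hu₀1 : (u₀ : G) ≠ 1 := by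
    intro h
    rw [h, one_smul] at hu₀
    exact hcb hu₀.symm
  have hsq : (u₀ : G) * u₀ = 1 := exponent_two S hv1 hv2 rfl u₀ u₀.2
  have hu₀c : (u₀ : G) • c = b := by
    rw [← hu₀, ← mul_smul, hsq, one_smul]
  refine ⟨u₀, ⟨u₀.2, hu₀1, ?_⟩, ?_⟩
  · -- existence: the word `u₀ v u₀ v u₀ v` fixes `a, b, c`
    have hw : (u₀ : G) * v * u₀ * (v * u₀ * v) = 1 := by
      apply S.hZ.three _ a b c hva.symm hcb.symm hca.symm
      · simp only [mul_smul]
        rw [← hb, hu₀, hc, hu₀c, hvb, hu₀a]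
      · simp only [mul_smul]
        rw [hvb, hu₀a, ← hb, hu₀, hc, hu₀c]
      · simp only [mul_smul]
        rw [hc, hu₀c, hvb, hu₀a, ← hb, hu₀]
    have hinv : ((u₀ : G) * v * u₀) * ((u₀ : G) * v * u₀) = 1 := by
      calc ((u₀ : G) * v * u₀) * ((u₀ : G) * v * u₀) = u₀ * v * (u₀ * u₀) * v * u₀ := by group
        _ = u₀ * (v * v) * u₀ := by rw [hsq]; group
        _ = u₀ * u₀ := by rw [hv2]; group
        _ = 1 := hsq
    have h1 : v * (u₀ : G) * v = ((u₀ : G) * v * u₀)⁻¹ := by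
      rw [eq_inv_iff_mul_eq_one]
      calc v * (u₀ : G) * v * ((u₀ : G) * v * u₀)
          = ((u₀ : G) * v * u₀)⁻¹ * (((u₀ : G) * v * u₀) * (v * u₀ * v)) * ((u₀ : G) * v * u₀) := by group
        _ = 1 := by rw [hw]; group
    rw [h1]
    exact inv_eq_of_mul_eq_one_right hinv
  · -- uniqueness
    rintro u₁ ⟨hu₁, hu₁1, heq⟩
    have h1 : v • (u₁ • b) = u₁ • b := by
      have h2 := congrArg (fun g : G => g • a) heq
      simp only [mul_smul] at h2
      rw [← hb, U_fix S hu₁, ← hb] at h2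
      exact h2
    have h3 : u₁ • b = c := hcu _ h1
    have := hu₀u ⟨u₁, hu₁⟩ h3
    exact congrArg Subtype.val this

end Cfsg.Agent.S1167
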