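import Cfsg.Statements.S1168
import Mathlib

set_option autoImplicit false
open Cfsg

namespace Cfsg.Agent.S1168

section
variable {F : Type*} [Field F] [Fintype F] [CharP F 2]

theorem additive_eq_sum (f : F →+ F) :
    let _ := ZMod.algebra F 2
    ∃ a : (F ≃ₐ[ZMod 2] F) → F, ∀ x, f x = ∑ σ, a σ * σ x := by
  letI := ZMod.algebra F 2
  have hfd : FiniteDimensional (ZMod 2) F := Module.Finite.of_finite
  let L : F →ₗ[ZMod 2] F := f.toZModLinearMap 2
  let b : (F ≃ₐ[ZMod 2] F) → (F →ₗ[ZMod 2] F) := fun σ => (σ : F →ₐ[ZMod 2] F).toLinearMap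
  have li : LinearIndependent F b := by
    have h := linearIndependent_toLinearMap (ZMod 2) F F
    exact h.comp (fun σ : F ≃ₐ[ZMod 2] F => (σ : F →ₐ[ZMod 2] F))
      (fun σ τ h => by ext x; exact DFunLike.congr_fun h x)
  have hcard : Fintype.card (F ≃ₐ[ZMod 2] F) = Module.finrank F (F →ₗ[ZMod 2] F) := by
    rw [Module.finrank_linearMap_self, ← IsGalois.card_aut_eq_finrank, Nat.card_eq_fintype_card]
  have hspan := li.span_eq_top_of_card_eq_finrank' hcard
  have hL : L ∈ Submodule.span F (Set.range b) := by rw [hspan]; exact Submodule.mem_top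
  obtain ⟨c, hc⟩ := (Submodule.mem_span_range_iff_exists_fun F).mp hL
  refine ⟨c, fun x => ?_⟩
  have := congrArg (fun g : F →ₗ[ZMod 2] F => g x) hc
  simp only [LinearMap.sum_apply, LinearMap.smul_apply, smul_eq_mul] at this
  exact this.symm

/-- quadratic expansion over a finite family -/
theorem quad_expand (q : F → F) (B : F → F → F) (hB : ∀ x y, q (x + y) = q x + q y + B x y)
    (hBadd : ∀ x y z, B (x + y) z = B x z + B y z) (hB0 : ∀ z, B 0 z = 0) (hq0 : q 0 = 0) :
    ∀ (n : ℕ) (v : Fin n → F),
    q (∑ k, v k) = ∑ k, q (v k) + ∑ k, ∑ l, if k < l then B (v k) (v l) else 0 := by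
  have hBsum : ∀ (n : ℕ) (v : Fin n → F) (z : F), B (∑ k, v k) z = ∑ k, B (v k) z := by
    intro n
    induction n with
    | zero => intro v z; simp [hB0]
    | succ n ih =>
      intro v z
      rw [Fin.sum_univ_castSucc, Fin.sum_univ_castSucc, hBadd, ih]
  intro n
  induction n with
  | zero => intro v; simp [hq0]
  | succ n ih =>
    intro v
    rw [Fin.sum_univ_castSucc, hB, ih, hBsum]
    rw [Fin.sum_univ_castSucc (f := fun k => q (v k))]
    rw [Fin.sum_univ_castSucc (f := fun k => ∑ l, if k < l then B (v k) (v l) else 0)]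
    simp only [Fin.sum_univ_castSucc, Fin.castSucc_lt_castSucc_iff, Fin.castSucc_lt_last, if_true,
      lt_irrefl, if_false, add_zero]
    have h0 : ∀ l : Fin n, ¬ (Fin.last n < l.castSucc) := fun l => by
      rw [not_lt]; exact Fin.le_last _
    simp only [h0, if_false, Finset.sum_const_zero, add_zero, Finset.sum_add_distrib]
    ring

end

theorem zmod2_cases : ∀ c : ZMod 2, c = 0 ∨ c = 1 := by decide

/-- For a finite field `F` of characteristic 2: if `q : F → F` is quadratic over the prime field, i.e. `(x, y) ↦ q (x + y) + q x + q y` is additive in each variable, then `q x = Σ c_{σ,τ} σ(x) τ(x)` for some coefficients indexed by pairs of field automorphisms. -/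
theorem result {F : Type*} [Field F] [Fintype F] [CharP F 2]
    (q : F → F)
    (hq : ∀ x y z : F, q (x + y + z) + q (x + y) + q (x + z) + q (y + z) + q x + q y + q z = 0) :
    ∃ (s : Finset ((F ≃+* F) × (F ≃+* F))) (c : (F ≃+* F) × (F ≃+* F) → F),
      ∀ x : F, q x = ∑ p ∈ s, c p * (p.1 x * p.2 x) := by
  classical
  letI := ZMod.algebra F 2
  have h2 : ∀ u : F, u + u = 0 := CharTwo.add_self_eq_zero
  have hq0 : q 0 = 0 := by
    have := hq 0 0 0
    simp only [add_zero] at this
    have e : q 0 + q 0 + q 0 + q 0 + q 0 + q 0 + q 0 = q 0 := by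
      have := h2 (q 0)
      calc q 0 + q 0 + q 0 + q 0 + q 0 + q 0 + q 0
          = (q 0 + q 0) + (q 0 + q 0) + (q 0 + q 0) + q 0 := by ring
        _ = q 0 := by rw [this]; ring
    rw [e] at this; exact this
  set B : F → F → F := fun x y => q (x + y) + q x + q y with hBdef
  have hB : ∀ x y, q (x + y) = q x + q y + B x y := by
    intro x y
    simp only [hBdef]
    have e1 := h2 (q x)
    have e2 := h2 (q y)
    calc q (x + y) = q (x + y) + (q x + q x) + (q y + q y) := by rw [e1, e2]; ring
      _ = q x + q y + (q (x + y) + q x + q y) := by ring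
  have hBadd : ∀ x y z, B (x + y) z = B x z + B y z := by
    intro x y z
    simp only [hBdef]
    have e := hq x y z
    have e3 := h2 (q z)
    -- B(x+y,z) + B(x,z) + B(y,z) = hq-sum + 2 q z = 0
    have : q (x + y + z) + q (x + y) + q z + (q (x + z) + q x + q z + (q (y + z) + q y + q z)) = 0 := by
      calc q (x + y + z) + q (x + y) + q z + (q (x + z) + q x + q z + (q (y + z) + q y + q z))
          = (q (x + y + z) + q (x + y) + q (x + z) + q (y + z) + q x + q y + q z) + (q z + q z) := by
            ring
        _ = 0 := by rw [e, e3]; ring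
    have h3 := h2 (q (x + z) + q x + q z + (q (y + z) + q y + q z))
    calc q (x + y + z) + q (x + y) + q z
        = (q (x + y + z) + q (x + y) + q z + (q (x + z) + q x + q z + (q (y + z) + q y + q z)))
          + (q (x + z) + q x + q z + (q (y + z) + q y + q z)) := by
            rw [add_assoc _ (q (x + z) + q x + q z + (q (y + z) + q y + q z)), h3, add_zero]
      _ = q (x + z) + q x + q z + (q (y + z) + q y + q z) := by rw [this, zero_add]
  have hB0 : ∀ z, B 0 z = 0 := by
    intro z; simp only [hBdef, zero_add, hq0, add_zero]; exact h2 _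
  have hBz0 : ∀ x, B x 0 = 0 := by
    intro x; simp only [hBdef, add_zero, hq0]; exact h2 _
  have hfd : FiniteDimensional (ZMod 2) F := Module.Finite.of_finite
  let n := Module.finrank (ZMod 2) F
  let b : Module.Basis (Fin n) (ZMod 2) F := Module.finBasis (ZMod 2) F
  -- coordinate functions with values in F
  let ξ : Fin n → F →+ F := fun k =>
    { toFun := fun x => algebraMap (ZMod 2) F (b.repr x k)
      map_zero' := by simp
      map_add' := fun x y => by simp }
  have hξ : ∀ k x, ξ k x = algebraMap (ZMod 2) F (b.repr x k) := fun k x => rfl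
  have hξidem : ∀ k x, ξ k x = ξ k x * ξ k x := by
    intro k x
    rw [hξ]
    rcases zmod2_cases (b.repr x k) with h | h <;> rw [h] <;> simp
  -- expansion of q
  have hexp : ∀ x, q x = ∑ k, ξ k x * q (b k) +
      ∑ k, ∑ l, if k < l then ξ k x * ξ l x * B (b k) (b l) else 0 := by
    intro x
    have hx : x = ∑ k, b.repr x k • b k := (b.sum_repr x).symm
    have h1 := quad_expand q B hB hBadd hB0 hq0 n (fun k => b.repr x k • b k)
    rw [← hx] at h1
    rw [h1]
    congr 1
    · apply Finset.sum_congr rfl
      intro k _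
      rw [hξ]
      rcases zmod2_cases (b.repr x k) with h | h <;> rw [h] <;> simp [hq0]
    · apply Finset.sum_congr rfl
      intro k _
      apply Finset.sum_congr rfl
      intro l _
      split_ifs
      · rw [hξ, hξ]
        rcases zmod2_cases (b.repr x k) with h | h <;> rcases zmod2_cases (b.repr x l) with h' | h' <;>
          rw [h, h'] <;> simp [hB0, hBz0]
      · rfl
  -- each ξ k is a combination of automorphisms
  choose a ha using fun k => additive_eq_sum (ξ k)
  -- products
  let G := (F ≃ₐ[ZMod 2] F)
  have hprod : ∀ k l x, ξ k x * ξ l x = ∑ p : G × G, (a k p.1 * a l p.2) * (p.1 x * p.2 x) := by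
    intro k l x
    rw [ha k, ha l, Finset.sum_mul_sum, ← Finset.sum_product']
    apply Finset.sum_congr rfl
    intro p _
    ring
  let d : Fin n → Fin n → F := fun k l =>
    if k = l then q (b k) else if k < l then B (b k) (b l) else 0
  have hq2 : ∀ x, q x = ∑ k, ∑ l, d k l * (ξ k x * ξ l x) := by
    intro x
    rw [hexp x, ← Finset.sum_add_distrib]
    apply Finset.sum_congr rfl
    intro k _
    -- split off l = k
    have : ∑ l, d k l * (ξ k x * ξ l x) =
        ξ k x * q (b k) + ∑ l, if k < l then ξ k x * ξ l x * B (b k) (b l) else 0 := by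
      have e1 : ∀ l, d k l * (ξ k x * ξ l x) =
          (if l = k then ξ k x * q (b k) else 0) +
            (if k < l then ξ k x * ξ l x * B (b k) (b l) else 0) := by
        intro l
        simp only [d]
        by_cases hkl : k = l
        · subst hkl
          simp only [if_true, lt_irrefl, if_false, add_zero]
          rw [← hξidem]; ring
        · have hlk : ¬ l = k := fun h => hkl h.symm
          simp only [hkl, hlk, if_false, zero_add]
          split_ifs
          · ring
          · ring
      simp only [e1, Finset.sum_add_distrib, Finset.sum_ite_eq', Finset.mem_univ, if_true]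
    rw [this]
  let C : G × G → F := fun p => ∑ k, ∑ l, d k l * (a k p.1 * a l p.2)
  have hq3 : ∀ x, q x = ∑ p : G × G, C p * (p.1 x * p.2 x) := by
    intro x
    rw [hq2 x]
    calc ∑ k, ∑ l, d k l * (ξ k x * ξ l x)
        = ∑ k, ∑ l, ∑ p : G × G, d k l * (a k p.1 * a l p.2) * (p.1 x * p.2 x) := by
          apply Finset.sum_congr rfl; intro k _; apply Finset.sum_congr rfl; intro l _
          rw [hprod, Finset.mul_sum]; apply Finset.sum_congr rfl; intro p _; ring
      _ = ∑ k, ∑ p : G × G, ∑ l, d k l * (a k p.1 * a l p.2) * (p.1 x * p.2 x) := by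
          apply Finset.sum_congr rfl; intro k _; exact Finset.sum_comm
      _ = ∑ p : G × G, ∑ k, ∑ l, d k l * (a k p.1 * a l p.2) * (p.1 x * p.2 x) := Finset.sum_comm
      _ = ∑ p : G × G, C p * (p.1 x * p.2 x) := by
          apply Finset.sum_congr rfl; intro p _; simp only [C, Finset.sum_mul]
  -- package
  let ι : G × G → (F ≃+* F) × (F ≃+* F) := fun p => (p.1.toRingEquiv, p.2.toRingEquiv)
  have hι : Function.Injective ι := by
    intro p p' h
    have h1 : p.1.toRingEquiv = p'.1.toRingEquiv := congrArg Prod.fst h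
    have h2 : p.2.toRingEquiv = p'.2.toRingEquiv := congrArg Prod.snd h
    apply Prod.ext
    · ext x; exact DFunLike.congr_fun h1 x
    · ext x; exact DFunLike.congr_fun h2 x
  refine ⟨Finset.univ.image ι, fun r => if h : ∃ p, ι p = r then C h.choose else 0, fun x => ?_⟩
  rw [Finset.sum_image (fun p _ p' _ h => hι h), hq3 x]
  apply Finset.sum_congr rfl
  intro p _
  have hex : ∃ p', ι p' = ι p := ⟨p, rfl⟩
  show C p * (p.1 x * p.2 x) = (if h : ∃ p', ι p' = ι p then C h.choose else 0) *
    ((ι p).1 x * (ι p).2 x)
  rw [dif_pos hex]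
  have : hex.choose = p := hι hex.choose_spec
  rw [this]
  rfl

end Cfsg.Agent.S1168
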