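import Cfsg.Statements.S1176
import Cfsg.Agent.Lib.Helper20_Isolated

set_option autoImplicit false
open Cfsg

namespace Cfsg.Agent.S1176

open Cfsg.Agent.Lib.Helper20_Isolated
open scoped commutatorElement

theorem sq_of_isConj {G : Type*} [Group G] {x₀ x : G} (hx₀ : orderOf x₀ = 2) (hx : IsConj x₀ x) :
    x * x = 1 := by
  obtain ⟨c, hc⟩ := isConj_iff.mp hx
  rw [← hc]
  exact conj_sq (sq_of_orderOf_two hx₀)

/-- Let x₀ be an involution of the finite group G and D its conjugacy class. Assume (a) for each x ∈ D the subgroup W(x) generated by the members of D commuting with x is a 2-group of nilpotency class at most 2, and (b) the product of two distinct commuting members of D again lies in D. Then for all x, y ∈ D, if xy has even order greater than 2, its order is 4. -/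
theorem result {G : Type*} [Group G] [Finite G] (x₀ : G) (hx₀ : orderOf x₀ = 2) (ha : ∀ x : G, IsConj x₀ x → IsPGroup 2 ↥(Subgroup.closure {y : G | IsConj x₀ y ∧ Commute y x}) ∧ ⁅⁅Subgroup.closure {y : G | IsConj x₀ y ∧ Commute y x}, Subgroup.closure {y : G | IsConj x₀ y ∧ Commute y x}⁆, Subgroup.closure {y : G | IsConj x₀ y ∧ Commute y x}⁆ = ⊥) (hb : ∀ x y : G, IsConj x₀ x → IsConj x₀ y → x ≠ y → Commute x y → IsConj x₀ (x * y)) (x y : G) (hx : IsConj x₀ x) (hy : IsConj x₀ y) (heven : Even (orderOf (x * y))) (hgt : 2 < orderOf (x * y)) : orderOf (x * y) = 4 := by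
  have hxx := sq_of_isConj hx₀ hx
  have hyy := sq_of_isConj hx₀ hy
  have hxi := inv_eq_self_of_sq hxx
  have hyi := inv_eq_self_of_sq hyy
  set r := x * y with hr
  obtain ⟨k, hk⟩ := heven
  have hk0 : k ≠ 0 := by omega
  have hw1 : r ^ k ≠ 1 := pow_ne_one_of_lt_orderOf hk0 (by omega)
  have hww : r ^ k * r ^ k = 1 := by rw [← pow_add, ← hk, pow_orderOf_eq_one]
  have hwinv : (r ^ k)⁻¹ = r ^ k := inv_eq_self_of_sq hww
  set w := r ^ k with hw
  -- x commutes with w
  have hxw : x * w = w * x := by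
    have h1 := invol_mul_pow_inv hxx hyy k
    rw [← hr, ← hw, hwinv] at h1
    exact h1
  -- y commutes with w : y r y⁻¹ = r⁻¹
  have hyr : y * r * y⁻¹ = r⁻¹ := by
    rw [hr, mul_inv_rev, hxi, hyi]
    simp only [mul_assoc, hyy, mul_one]
  have hyw : y * w = w * y := by
    have h1 : y * w * y⁻¹ = w := by
      rw [hw, ← conj_pow, hyr, inv_pow, hwinv]
    have := congrArg (fun t => t * y) h1
    simpa [mul_assoc] using this
  -- w * x is conjugate to x₀
  have hwx : IsConj x₀ (w * x) := by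
    rcases Nat.even_or_odd' k with ⟨l, hl | hl⟩
    · have h1 := conj_by_pow hxx hyy l
      rw [← hl, ← hr, ← hw] at h1
      rw [← h1]
      exact hx.trans (isConj_iff.mpr ⟨r ^ l, rfl⟩)
    · have h1 := conj_by_pow_odd hxx hyy l
      rw [← hl, ← hr, ← hw] at h1
      rw [← h1]
      exact hy.trans (isConj_iff.mpr ⟨r ^ l * x, rfl⟩)
  have hne : x ≠ w * x := by
    intro h
    apply hw1
    have := congrArg (fun t => t * x⁻¹) h
    simpa using this.symm
  have hcomm : Commute x (w * x) := by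
    unfold Commute SemiconjBy
    rw [← mul_assoc, hxw]
  have hwconj : IsConj x₀ w := by
    have := hb x (w * x) hx hwx hne hcomm
    have e : x * (w * x) = w := by rw [← mul_assoc, hxw, mul_assoc, hxx, mul_one]
    rwa [e] at this
  obtain ⟨-, hcl⟩ := ha w hwconj
  set W := Subgroup.closure {y : G | IsConj x₀ y ∧ Commute y w} with hW
  have hxW : x ∈ W := Subgroup.subset_closure ⟨hx, hxw⟩
  have hyW : y ∈ W := Subgroup.subset_closure ⟨hy, hyw⟩
  have h1 : ⁅⁅x, y⁆, y⁆ ∈ ⁅⁅W, W⁆, W⁆ :=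
    Subgroup.commutator_mem_commutator (Subgroup.commutator_mem_commutator hxW hyW) hyW
  rw [hcl, Subgroup.mem_bot] at h1
  have h2 : ⁅⁅x, y⁆, y⁆ = r ^ 4 := by
    have e1 : ⁅x, y⁆ = r ^ 2 := by
      rw [commutatorElement_def, hxi, hyi, pow_two, hr, mul_assoc, mul_assoc]
    rw [e1, commutatorElement_def]
    have e2 : y * (r ^ 2)⁻¹ * y⁻¹ = r ^ 2 := by
      rw [← inv_pow, ← conj_pow]
      have : y * r⁻¹ * y⁻¹ = (y * r * y⁻¹)⁻¹ := by group
      rw [this, hyr, inv_inv]
    have e3 : r ^ 2 * y * (r ^ 2)⁻¹ * y⁻¹ = r ^ 2 * (y * (r ^ 2)⁻¹ * y⁻¹) := by group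
    rw [e3, e2, ← pow_add]
  rw [h2] at h1
  have hdvd : orderOf r ∣ 4 := orderOf_dvd_of_pow_eq_one h1
  have hle : orderOf r ≤ 4 := Nat.le_of_dvd (by norm_num) hdvd
  have h4 : orderOf r = 3 ∨ orderOf r = 4 := by omega
  rcases h4 with h3 | h4
  · omega
  · exact h4

end Cfsg.Agent.S1176
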