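import Cfsg.Statements.S1177

set_option autoImplicit false
open Cfsg

namespace Cfsg.Agent.S1177

variable {G : Type*} [Group G]

/-- conjugate subgroup `g H g⁻¹` -/
abbrev cj (g : G) (H : Subgroup G) : Subgroup G := H.map (MulAut.conj g).toMonoidHom

theorem mem_cj {g x : G} {H : Subgroup G} : x ∈ cj g H ↔ g⁻¹ * x * g ∈ H := by
  constructor
  · rintro ⟨a, ha, rfl⟩
    have : g⁻¹ * (g * a * g⁻¹) * g = a := by group
    simpa [this] using ha
  · intro h
    refine ⟨g⁻¹ * x * g, h, ?_⟩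
    show g * (g⁻¹ * x * g) * g⁻¹ = x
    group

theorem conj_mem_cj {g a : G} {H : Subgroup G} (ha : a ∈ H) : g * a * g⁻¹ ∈ cj g H :=
  ⟨a, ha, rfl⟩

theorem cj_cj_eq {g h : G} {A : Subgroup G} (hyp : cj (g⁻¹ * h * g) A = A) :
    cj h (cj g A) = cj g A := by
  ext x
  rw [mem_cj, mem_cj, mem_cj]
  have h1 : g⁻¹ * x * g ∈ cj (g⁻¹ * h * g) A ↔ g⁻¹ * x * g ∈ A := by rw [hyp]
  rw [mem_cj] at h1
  have e : (g⁻¹ * h * g)⁻¹ * (g⁻¹ * x * g) * (g⁻¹ * h * g) = g⁻¹ * (h⁻¹ * x * h) * g := by group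
  rw [e] at h1
  exact h1

theorem mem_inf_transport {g h x : G} {A : Subgroup G} (hx : x ∈ cj h (cj g A) ⊓ cj g A) :
    g⁻¹ * x * g ∈ cj (g⁻¹ * h * g) A ⊓ A := by
  obtain ⟨h1, h2⟩ := Subgroup.mem_inf.mp hx
  rw [mem_cj, mem_cj] at h1
  rw [mem_cj] at h2
  refine Subgroup.mem_inf.mpr ⟨?_, h2⟩
  rw [mem_cj]
  have e : (g⁻¹ * h * g)⁻¹ * (g⁻¹ * x * g) * (g⁻¹ * h * g) = g⁻¹ * (h⁻¹ * x * h) * g := by group
  rw [e]; exact h1

/-- Let A be a nontrivial elementary abelian 2-subgroup of a finite group G which is a T.I. set (each conjugate of A meets A trivially or equals A) and which does not commute elementwise with any conjugate of A other than A itself. Then for every a ∈ A, a ≠ 1, every conjugate of A contained in C_G(a) is equal to A (A is weakly closed in C_G(a)). -/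
theorem result {G : Type*} [Group G] [Finite G] (A : Subgroup G) (hA : Cfsg.IsElementaryAbelian 2 A) (hA1 : A ≠ ⊥) (hTI : ∀ g : G, A.map (MulAut.conj g).toMonoidHom ⊓ A = ⊥ ∨ A.map (MulAut.conj g).toMonoidHom = A) (hb : ∀ g : G, (∀ a ∈ A, ∀ b ∈ A.map (MulAut.conj g).toMonoidHom, a * b = b * a) → A.map (MulAut.conj g).toMonoidHom = A) (a : G) (ha : a ∈ A) (ha1 : a ≠ 1) (g : G) (hg : A.map (MulAut.conj g).toMonoidHom ≤ Subgroup.centralizer ({a} : Set G)) : A.map (MulAut.conj g).toMonoidHom = A := by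
  obtain ⟨hAcomm, hAsq⟩ := hA
  -- commutativity of A elementwise
  have hAc : ∀ u ∈ A, ∀ v ∈ A, u * v = v * u := by
    intro u hu v hv
    have := hAcomm.is_comm.comm ⟨u, hu⟩ ⟨v, hv⟩
    exact congrArg Subtype.val this
  have hAinv : ∀ u ∈ A, u⁻¹ = u := by
    intro u hu
    have := hAsq u hu
    rw [pow_two] at this
    exact inv_eq_of_mul_eq_one_left this
  change cj g A = A
  set B := cj g A with hB
  -- B is commutative and of exponent 2
  have hBc : ∀ u ∈ B, ∀ v ∈ B, u * v = v * u := by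
    intro u hu v hv
    rw [hB, mem_cj] at hu hv
    have := hAc _ hu _ hv
    have e1 : u * v = g * ((g⁻¹ * u * g) * (g⁻¹ * v * g)) * g⁻¹ := by group
    have e2 : v * u = g * ((g⁻¹ * v * g) * (g⁻¹ * u * g)) * g⁻¹ := by group
    rw [e1, e2, this]
  have hBinv : ∀ u ∈ B, u⁻¹ = u := by
    intro u hu
    rw [hB, mem_cj] at hu
    have := hAinv _ hu
    have e1 : u⁻¹ = g * (g⁻¹ * u * g)⁻¹ * g⁻¹ := by group
    rw [e1, this]; group
  -- Step 1: B normalizes A
  have step1 : ∀ b ∈ B, ∀ a' ∈ A, b * a' * b⁻¹ ∈ A := by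
    intro b hbB a' ha'
    have hba : b * a = a * b := by
      have := hg hbB
      rw [Subgroup.mem_centralizer_singleton_iff] at this
      exact this
    have hmem : a ∈ cj b A ⊓ A := by
      refine Subgroup.mem_inf.mpr ⟨?_, ha⟩
      rw [mem_cj]
      have : b⁻¹ * a * b = a := by rw [mul_assoc, ← hba]; group
      rw [this]; exact ha
    rcases hTI b with h1 | h1
    · exfalso
      change cj b A ⊓ A = ⊥ at h1
      rw [h1, Subgroup.mem_bot] at hmem
      exact ha1 hmem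
    · change cj b A = A at h1
      rw [← h1]
      exact conj_mem_cj ha'
  -- TI and hb for B
  have TI_B : ∀ h : G, cj h B ⊓ B = ⊥ ∨ cj h B = B := by
    intro h
    rcases hTI (g⁻¹ * h * g) with h1 | h1
    · left
      rw [Subgroup.eq_bot_iff_forall]
      intro x hx
      have := mem_inf_transport hx
      change g⁻¹ * x * g ∈ cj (g⁻¹ * h * g) A ⊓ A at this
      change cj (g⁻¹ * h * g) A ⊓ A = ⊥ at h1
      rw [h1, Subgroup.mem_bot] at this
      have e : x = g * (g⁻¹ * x * g) * g⁻¹ := by group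
      rw [e, this]; group
    · right
      exact cj_cj_eq h1
  have hb_B : ∀ h : G, (∀ b ∈ B, ∀ b₁ ∈ cj h B, b * b₁ = b₁ * b) → cj h B = B := by
    intro h hcomm
    apply cj_cj_eq
    apply hb (g⁻¹ * h * g)
    intro u hu v hv
    change v ∈ cj (g⁻¹ * h * g) A at hv
    have h1 : g * u * g⁻¹ ∈ B := conj_mem_cj hu
    have h2 : g * v * g⁻¹ ∈ cj h B := by
      rw [mem_cj, hB, mem_cj]
      rw [mem_cj] at hv
      have e : g⁻¹ * (h⁻¹ * (g * v * g⁻¹) * h) * g = (g⁻¹ * h * g)⁻¹ * v * (g⁻¹ * h * g) := by group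
      rw [e]; exact hv
    have h3 := hcomm _ h1 _ h2
    have e1 : u * v = g⁻¹ * ((g * u * g⁻¹) * (g * v * g⁻¹)) * g := by group
    have e2 : v * u = g⁻¹ * ((g * v * g⁻¹) * (g * u * g⁻¹)) * g := by group
    rw [e1, e2, h3]
  -- Step 2: B ⊓ A = ⊥ or done
  rcases hTI g with hBA | hdone
  swap
  · exact hdone
  change B ⊓ A = ⊥ at hBA
  -- Step 3: if a' ∈ A commutes with some b ≠ 1 of B then a' normalizes B
  have step3 : ∀ a' ∈ A, ∀ b ∈ B, b ≠ 1 → a' * b = b * a' → ∀ b' ∈ B, a' * b' * a'⁻¹ ∈ B := by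
    intro a' _ b hbB hb1 hcomm b' hb'
    have hmem : b ∈ cj a' B ⊓ B := by
      refine Subgroup.mem_inf.mpr ⟨?_, hbB⟩
      rw [mem_cj]
      have : a'⁻¹ * b * a' = b := by rw [mul_assoc, ← hcomm]; group
      rw [this]; exact hbB
    rcases TI_B a' with h1 | h1
    · exfalso
      rw [h1, Subgroup.mem_bot] at hmem
      exact hb1 hmem
    · rw [← h1]
      exact conj_mem_cj hb'
  -- Step 4: then a' centralizes B
  have comm_of_norm : ∀ a' ∈ A, (∀ b' ∈ B, a' * b' * a'⁻¹ ∈ B) → ∀ b' ∈ B, a' * b' = b' * a' := by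
    intro a' ha' hnorm b' hb'
    have h1 : a' * b' * a'⁻¹ * b'⁻¹ ∈ B := B.mul_mem (hnorm b' hb') (B.inv_mem hb')
    have h2 : a' * b' * a'⁻¹ * b'⁻¹ ∈ A := by
      have : a' * b' * a'⁻¹ * b'⁻¹ = a' * (b' * a'⁻¹ * b'⁻¹) := by group
      rw [this]
      exact A.mul_mem ha' (step1 b' hb' _ (A.inv_mem ha'))
    have h3 : a' * b' * a'⁻¹ * b'⁻¹ ∈ B ⊓ A := Subgroup.mem_inf.mpr ⟨h1, h2⟩
    rw [hBA, Subgroup.mem_bot] at h3
    have := congrArg (fun t => t * b' * a') h3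
    simpa [mul_assoc] using this
  have step4 : ∀ a' ∈ A, ∀ b ∈ B, b ≠ 1 → a' * b = b * a' → ∀ b' ∈ B, a' * b' = b' * a' :=
    fun a' ha' b hbB hb1 hcomm => comm_of_norm a' ha' (step3 a' ha' b hbB hb1 hcomm)
  -- Step 5/6: every conjugate of B by an element of A commutes with B
  have step6 : ∀ a₁ ∈ A, ∀ b ∈ B, ∀ b₁ ∈ cj a₁ B, b * b₁ = b₁ * b := by
    intro a₁ ha₁ b hbB b₁ hb₁
    rw [mem_cj] at hb₁
    set b' := a₁⁻¹ * b₁ * a₁ with hb'def
    have hb₁e : b₁ = a₁ * b' * a₁⁻¹ := by rw [hb'def]; group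
    -- c = a₁ b' a₁⁻¹ b'⁻¹ ∈ A commutes with b'
    set c := a₁ * b' * a₁⁻¹ * b'⁻¹ with hc
    have hd : b' * a₁ * b'⁻¹ ∈ A := step1 b' hb₁ a₁ ha₁
    have hcA : c ∈ A := by
      have : c = a₁ * (b' * a₁⁻¹ * b'⁻¹) := by rw [hc]; group
      rw [this]
      exact A.mul_mem ha₁ (step1 b' hb₁ _ (A.inv_mem ha₁))
    have hc' : c = a₁ * (b' * a₁ * b'⁻¹) := by
      rw [hc, hAinv a₁ ha₁]; group
    have hcb' : c * b' = b' * c := by
      -- b' c b'⁻¹ = (b' a₁ b'⁻¹) a₁ = c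
      have e1 : b' * c * b'⁻¹ = (b' * a₁ * b'⁻¹) * a₁ := by
        rw [hc']
        have hb'sq : b' * b' = 1 := by
          have := hBinv b' hb₁
          calc b' * b' = b'⁻¹ * b' := by rw [this]
            _ = 1 := by group
        calc b' * (a₁ * (b' * a₁ * b'⁻¹)) * b'⁻¹
            = (b' * a₁ * b'⁻¹) * ((b' * b') * a₁ * (b' * b')⁻¹) := by group
          _ = (b' * a₁ * b'⁻¹) * a₁ := by rw [hb'sq]; group
      have e2 : (b' * a₁ * b'⁻¹) * a₁ = c := by
        rw [hc']; exact hAc _ hd _ ha₁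
      rw [e2] at e1
      have := congrArg (fun t => t * b') e1
      simpa [mul_assoc] using this.symm
    have hcb : c * b = b * c := by
      by_cases hb'1 : b' = 1
      · have : c = 1 := by rw [hc, hb'1]; group
        rw [this]; group
      · exact step4 c hcA b' hb₁ hb'1 hcb' b hbB
    have hb₁c : b₁ = c * b' := by rw [hb₁e, hc]; group
    rw [hb₁c]
    calc b * (c * b') = (b * c) * b' := by group
      _ = (c * b) * b' := by rw [hcb]
      _ = c * (b * b') := by group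
      _ = c * (b' * b) := by rw [hBc b hbB b' hb₁]
      _ = c * b' * b := by group
  -- Step 7/8
  have step7 : ∀ a₁ ∈ A, ∀ b' ∈ B, a₁ * b' * a₁⁻¹ ∈ B := by
    intro a₁ ha₁ b' hb'
    have := hb_B a₁ (step6 a₁ ha₁)
    rw [← this]
    exact conj_mem_cj hb'
  apply hb g
  intro u hu v hv
  exact comm_of_norm u hu (step7 u hu) v hv

end Cfsg.Agent.S1177
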