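import Cfsg.Statements.S1178

set_option autoImplicit false
open Cfsg

namespace Cfsg.Agent.S1178

theorem map_conj_map_conj {G : Type*} [Group G] (A : Subgroup G) (g h : G) :
    (A.map (MulAut.conj g).toMonoidHom).map (MulAut.conj h).toMonoidHom
      = A.map (MulAut.conj (h * g)).toMonoidHom := by
  rw [Subgroup.map_map]
  congr 1
  ext x
  simp [MulAut.conj_apply, mul_assoc]

theorem map_conj_one {G : Type*} [Group G] (A : Subgroup G) :
    A.map (MulAut.conj (1 : G)).toMonoidHom = A := by
  ext x
  simp [Subgroup.mem_map]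

theorem sylow_smul_coe {G : Type*} [Group G] {p : ℕ} (h : G) (Q : Sylow p G) :
    ((h • Q : Sylow p G) : Subgroup G) = (Q : Subgroup G).map (MulAut.conj h).toMonoidHom := rfl

/-- Let A be a subgroup of a Sylow 2-subgroup S of the finite group G which is weakly closed in S. If a conjugate g A g⁻¹ commutes elementwise with A, then g A g⁻¹ = A. -/
theorem result {G : Type*} [Group G] [Finite G] (S : Sylow 2 G) (A : Subgroup G) (hW : Cfsg.IsWeaklyClosed A (S : Subgroup G)) (g : G) (hc : ∀ a ∈ A, ∀ b ∈ A.map (MulAut.conj g).toMonoidHom, a * b = b * a) : A.map (MulAut.conj g).toMonoidHom = A := by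
  obtain ⟨hAS, hW⟩ := hW
  set B := A.map (MulAut.conj g).toMonoidHom with hB
  have hA2 : IsPGroup 2 A := S.isPGroup'.to_le hAS
  have hB2 : IsPGroup 2 B := by
    have := hA2.map (MulAut.conj g).toMonoidHom
    exact this
  have hAB : A ≤ Subgroup.normalizer (B : Set G) := by
    intro a ha
    rw [Subgroup.mem_normalizer_iff]
    intro b
    constructor
    · intro hb
      have : a * b * a⁻¹ = b := by rw [hc a ha b hb]; group
      rw [this]; exact hb
    · intro hb
      have h1 := hc a ha _ hb
      have h3 : a * b * a⁻¹ = b := by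
        have h5 : a * b * a⁻¹ * a = a * b := by group
        rw [h5] at h1
        exact mul_left_cancel h1
      rw [← h3]; exact hb
  have hsup : IsPGroup 2 (A ⊔ B : Subgroup G) := hA2.to_sup_of_normal_right' hB2 hAB
  obtain ⟨Q, hQ⟩ := hsup.exists_le_sylow
  obtain ⟨h, hh⟩ := MulAction.exists_smul_eq G Q S
  have hQS : (Q : Subgroup G).map (MulAut.conj h).toMonoidHom = S := by
    rw [← hh, sylow_smul_coe]
  have h1 : A.map (MulAut.conj h).toMonoidHom = A := by
    apply hW h
    rw [← hQS]
    exact Subgroup.map_mono (le_trans le_sup_left hQ)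
  have h2 : A.map (MulAut.conj (h * g)).toMonoidHom = A := by
    apply hW (h * g)
    rw [← map_conj_map_conj, ← hQS]
    exact Subgroup.map_mono (le_trans le_sup_right hQ)
  rw [← map_conj_map_conj] at h2
  have h3 : (A.map (MulAut.conj h).toMonoidHom).map (MulAut.conj h⁻¹).toMonoidHom = A := by
    rw [map_conj_map_conj, inv_mul_cancel, map_conj_one]
  have h4 : (B.map (MulAut.conj h).toMonoidHom).map (MulAut.conj h⁻¹).toMonoidHom = B := by
    rw [map_conj_map_conj, inv_mul_cancel, map_conj_one]
  rw [← h4, h2, ← h1, h3]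
  exact h1.symm

end Cfsg.Agent.S1178
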