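import Cfsg.Statements.S1181
import Cfsg.Agent.Lib.Helper20_Isolated

set_option autoImplicit false
open Cfsg

namespace Cfsg.Agent.S1181

open Cfsg.Agent.Lib.Helper20_Isolated

/-- Let z be an isolated involution of the finite group G and N a normal subgroup with z ∉ N. Then the centralizer of zN in G/N is the image of C_G(z), and zN is an isolated involution of G/N. -/
theorem result {G : Type*} [Group G] [Finite G] (z : G) (hz : Cfsg.IsIsolatedInvolution z) (N : Subgroup G) [N.Normal] (hzN : z ∉ N) : Subgroup.centralizer ({(QuotientGroup.mk z : G ⧸ N)} : Set (G ⧸ N)) = (Subgroup.centralizer ({z} : Set G)).map (QuotientGroup.mk' N) ∧ Cfsg.IsIsolatedInvolution (QuotientGroup.mk z : G ⧸ N) := by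
  have hzz := sq_of_orderOf_two hz.1
  have hzi := inv_eq_self_of_sq hzz
  have hbar : (QuotientGroup.mk z : G ⧸ N) * QuotientGroup.mk z = 1 := by
    rw [← QuotientGroup.mk_mul, hzz]; rfl
  constructor
  · ext xbar
    rw [Subgroup.mem_centralizer_singleton_iff, Subgroup.mem_map]
    constructor
    · intro hcomm
      obtain ⟨x, rfl⟩ := QuotientGroup.mk_surjective xbar
      set z' := x * z * x⁻¹ with hz'
      have hz'bar : (QuotientGroup.mk z' : G ⧸ N) = QuotientGroup.mk z := by
        rw [hz', QuotientGroup.mk_mul, QuotientGroup.mk_mul, hcomm, QuotientGroup.mk_inv]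
        group
      obtain ⟨l, hl⟩ := exists_pow_conj hz x
      rw [← hz'] at hl
      have hzz'N : z * z' ∈ N := by
        rw [← QuotientGroup.eq_one_iff, QuotientGroup.mk_mul, hz'bar, hbar]
      have hnN : (z * z') ^ l ∈ N := N.pow_mem hzz'N l
      set n := (z * z') ^ l with hn
      refine ⟨n⁻¹ * x, ?_, ?_⟩
      · rw [Subgroup.mem_centralizer_singleton_iff]
        have h1 : (n⁻¹ * x) * z * (n⁻¹ * x)⁻¹ = z := by
          have : (n⁻¹ * x) * z * (n⁻¹ * x)⁻¹ = n⁻¹ * z' * n := by rw [hz']; group
          rw [this, ← hl]; group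
        have := congrArg (fun w => w * (n⁻¹ * x)) h1
        simpa [mul_assoc] using this
      · show (QuotientGroup.mk (n⁻¹ * x) : G ⧸ N) = QuotientGroup.mk x
        rw [QuotientGroup.mk_mul, QuotientGroup.mk_inv, (QuotientGroup.eq_one_iff n).mpr hnN]
        simp
    · rintro ⟨c, hc, rfl⟩
      rw [Subgroup.mem_centralizer_singleton_iff] at hc
      show (QuotientGroup.mk c : G ⧸ N) * QuotientGroup.mk z = QuotientGroup.mk z * QuotientGroup.mk c
      rw [← QuotientGroup.mk_mul, ← QuotientGroup.mk_mul, hc]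
  · refine ⟨?_, ?_⟩
    · apply orderOf_eq_prime
      · rw [pow_two]; exact hbar
      · intro h; exact hzN ((QuotientGroup.eq_one_iff z).mp h)
    · intro gbar hcomm
      obtain ⟨g, rfl⟩ := QuotientGroup.mk_surjective gbar
      set z' := g * z * g⁻¹ with hz'
      have e1 : (QuotientGroup.mk g : G ⧸ N) * QuotientGroup.mk z * (QuotientGroup.mk g)⁻¹
          = QuotientGroup.mk z' := by
        rw [hz', QuotientGroup.mk_mul, QuotientGroup.mk_mul, QuotientGroup.mk_inv]
      rw [e1] at hcomm ⊢
      have hz'z' : z' * z' = 1 := conj_sq hzz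
      have hbar' : (QuotientGroup.mk z' : G ⧸ N) * QuotientGroup.mk z' = 1 := by
        rw [← QuotientGroup.mk_mul, hz'z']; rfl
      obtain ⟨l, hl⟩ := odd_orderOf_mul_conj hz g
      rw [← hz'] at hl
      set r : G ⧸ N := QuotientGroup.mk z * QuotientGroup.mk z' with hr
      have hr2 : r ^ 2 = 1 := by
        rw [pow_two, hr]
        have hc : (QuotientGroup.mk z : G ⧸ N) * QuotientGroup.mk z' = QuotientGroup.mk z' * QuotientGroup.mk z := hcomm
        calc (QuotientGroup.mk z : G ⧸ N) * QuotientGroup.mk z' * (QuotientGroup.mk z * QuotientGroup.mk z')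
            = QuotientGroup.mk z * (QuotientGroup.mk z' * QuotientGroup.mk z) * QuotientGroup.mk z' := by group
          _ = QuotientGroup.mk z * (QuotientGroup.mk z * QuotientGroup.mk z') * QuotientGroup.mk z' := by rw [hc]
          _ = (QuotientGroup.mk z * QuotientGroup.mk z) * (QuotientGroup.mk z' * QuotientGroup.mk z') := by group
          _ = 1 := by rw [hbar, hbar', one_mul]
      have hrl : r ^ (2 * l + 1) = 1 := by
        rw [hr, ← QuotientGroup.mk_mul, ← QuotientGroup.mk_pow, ← hl, pow_orderOf_eq_one]; rfl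
      have hr1 : r = 1 := by
        rw [pow_succ, pow_mul, hr2, one_pow, one_mul] at hrl
        exact hrl
      -- z̄ z̄' = 1 so z̄' = z̄⁻¹ = z̄
      have : (QuotientGroup.mk z' : G ⧸ N) = (QuotientGroup.mk z)⁻¹ := by
        rw [hr] at hr1
        exact (inv_eq_of_mul_eq_one_right hr1).symm
      rw [this]
      exact inv_eq_of_mul_eq_one_left hbar

end Cfsg.Agent.S1181
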