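import Cfsg.Statements.S1182
import Cfsg.Agent.Lib.Helper20_Isolated

set_option autoImplicit false
open Cfsg

namespace Cfsg.Agent.S1182

open Cfsg.Agent.Lib.Helper20_Isolated

/-- Let z be an isolated involution of the finite group G and H a subgroup normalized by z. If x, y ∈ H both commute with z and y = h x h⁻¹ for some h ∈ H, then y = c x c⁻¹ for some c ∈ H commuting with z. -/
theorem result {G : Type*} [Group G] [Finite G] (z : G) (hz : Cfsg.IsIsolatedInvolution z) (H : Subgroup G) (hzH : z ∈ Subgroup.normalizer (H : Set G)) (x y : G) (hx : x ∈ H) (hy : y ∈ H) (hxz : Commute x z) (hyz : Commute y z) (h : G) (hh : h ∈ H) (hconj : h * x * h⁻¹ = y) : ∃ c ∈ H, Commute c z ∧ c * x * c⁻¹ = y := by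
  have hzz := sq_of_orderOf_two hz.1
  have hzi := inv_eq_self_of_sq hzz
  set z' := h * z * h⁻¹ with hz'
  obtain ⟨l, hl⟩ := exists_pow_conj hz h
  rw [← hz'] at hl
  set k := (z * z') ^ l with hk
  -- z * z' ∈ H
  have hzz'H : z * z' ∈ H := by
    have h1 : z * h * z⁻¹ ∈ H := (Subgroup.mem_normalizer_iff.mp hzH h).mp hh
    have : z * z' = (z * h * z⁻¹) * h⁻¹ := by rw [hz', hzi]; group
    rw [this]; exact H.mul_mem h1 (H.inv_mem hh)
  have hkH : k ∈ H := H.pow_mem hzz'H l
  -- z' commutes with y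
  have hz'y : Commute z' y := by
    rw [hz', ← hconj]
    unfold Commute SemiconjBy at hxz ⊢
    calc h * z * h⁻¹ * (h * x * h⁻¹) = h * (z * x) * h⁻¹ := by group
      _ = h * (x * z) * h⁻¹ := by rw [hxz]
      _ = _ := by group
  have hky : Commute k y := (Commute.mul_left hyz.symm hz'y).pow_left l
  refine ⟨k⁻¹ * h, H.mul_mem (H.inv_mem hkH) hh, ?_, ?_⟩
  · -- (k⁻¹ h) z (k⁻¹ h)⁻¹ = k⁻¹ z' k = z
    have h1 : (k⁻¹ * h) * z * (k⁻¹ * h)⁻¹ = z := by
      have : (k⁻¹ * h) * z * (k⁻¹ * h)⁻¹ = k⁻¹ * z' * k := by rw [hz']; group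
      rw [this, ← hl]; group
    unfold Commute SemiconjBy
    have := congrArg (fun w => w * (k⁻¹ * h)) h1
    simpa [mul_assoc] using this
  · have : (k⁻¹ * h) * x * (k⁻¹ * h)⁻¹ = k⁻¹ * (h * x * h⁻¹) * k := by group
    rw [this, hconj]
    have h2 : k * y = y * k := hky
    calc k⁻¹ * y * k = k⁻¹ * (y * k) := by group
      _ = k⁻¹ * (k * y) := by rw [h2]
      _ = y := by group

end Cfsg.Agent.S1182
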