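import Cfsg.Statements.S1185
import Cfsg.Agent.Lib.Helper20_Isolated

set_option autoImplicit false
open Cfsg

namespace Cfsg.Agent.S1185

open Cfsg.Agent.Lib.Helper20_Isolated

/-- existence part, exported for reuse: an odd-order element `k` inverted by `z` with
`k z k⁻¹ = g z g⁻¹`. -/
theorem exists_k {G : Type*} [Group G] [Finite G] (z : G) (hz : Cfsg.IsIsolatedInvolution z)
    (g : G) : ∃ k : G, Odd (orderOf k) ∧ z * k * z⁻¹ = k⁻¹ ∧ k * z * k⁻¹ = g * z * g⁻¹ := by
  have hzz := sq_of_orderOf_two hz.1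
  have hzi := inv_eq_self_of_sq hzz
  set s := g * z * g⁻¹ with hs
  have hss : s * s = 1 := conj_sq hzz
  have hsi := inv_eq_self_of_sq hss
  -- y = s * z has odd order
  have hodd : Odd (orderOf (s * z)) := by
    have h1 := odd_orderOf_mul_conj hz g
    have h2 : s * z = (z * s)⁻¹ := by rw [mul_inv_rev, hzi, hsi]
    rw [h2, orderOf_inv]; exact h1
  set y := s * z with hy
  obtain ⟨l, hl⟩ := hodd
  have hzy : z * y * z⁻¹ = y⁻¹ := by
    rw [hy, mul_inv_rev, hzi, hsi, ← mul_assoc, mul_assoc, hzz, mul_one]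
  refine ⟨y ^ (l + 1), ?_, ?_, ?_⟩
  · have hdvd : orderOf (y ^ (l + 1)) ∣ orderOf y := orderOf_pow_dvd (l + 1)
    have : Odd (orderOf y) := ⟨l, hl⟩
    exact Odd.of_dvd_nat this hdvd
  · rw [← conj_pow, hzy, inv_pow]
  · have h1 : z * (y ^ (l + 1))⁻¹ * z⁻¹ = y ^ (l + 1) := by
      rw [← inv_pow, ← conj_pow]
      have : z * y⁻¹ * z⁻¹ = (z * y * z⁻¹)⁻¹ := by group
      rw [this, hzy, inv_inv]
    have h2 : z * (y ^ (l + 1))⁻¹ = y ^ (l + 1) * z := by
      have := congrArg (fun x => x * z) h1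
      simpa [mul_assoc] using this
    rw [mul_assoc, h2, ← mul_assoc, ← pow_add]
    have h3 : l + 1 + (l + 1) = orderOf y + 1 := by omega
    rw [h3, pow_succ, pow_orderOf_eq_one, one_mul, hy, mul_assoc, hzz, mul_one]

/-- Let z be an isolated involution of the finite group G with centralizer C. Then for every g ∈ G there is exactly one element k in the coset gC that has odd order and is inverted by z. -/
theorem result {G : Type*} [Group G] [Finite G] (z : G) (hz : Cfsg.IsIsolatedInvolution z) (g : G) : ∃! k : G, (Odd (orderOf k) ∧ z * k * z⁻¹ = k⁻¹) ∧ g⁻¹ * k ∈ Subgroup.centralizer ({z} : Set G) := by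
  have hzz := sq_of_orderOf_two hz.1
  have hzi := inv_eq_self_of_sq hzz
  -- reformulate the coset condition
  have coset_iff : ∀ k : G, g⁻¹ * k ∈ Subgroup.centralizer ({z} : Set G) ↔
      k * z * k⁻¹ = g * z * g⁻¹ := by
    intro k
    rw [Subgroup.mem_centralizer_singleton_iff]
    constructor
    · intro h
      have : k * z = g * z * g⁻¹ * k := by
        have := congrArg (fun x => g * x) h
        simp only [← mul_assoc, mul_inv_cancel, one_mul] at this
        rw [this]
      rw [this]; group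
    · intro h
      have : k * z = g * z * g⁻¹ * k := by rw [← h]; group
      rw [mul_assoc, this]; group
  -- inverted elements: k z k⁻¹ = k^2 z
  have conj_eq : ∀ k : G, z * k * z⁻¹ = k⁻¹ → k * z * k⁻¹ = k ^ 2 * z := by
    intro k hk
    have h1 : z * k⁻¹ * z⁻¹ = k := by
      have : z * k⁻¹ * z⁻¹ = (z * k * z⁻¹)⁻¹ := by group
      rw [this, hk, inv_inv]
    have h2 : z * k⁻¹ = k * z := by
      have := congrArg (fun x => x * z) h1
      simpa [mul_assoc] using this
    rw [mul_assoc, h2, pow_two, mul_assoc]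
  obtain ⟨k, hk1, hk2, hk3⟩ := exists_k z hz g
  refine ⟨k, ⟨⟨hk1, hk2⟩, (coset_iff k).mpr hk3⟩, ?_⟩
  rintro k' ⟨⟨hk'1, hk'2⟩, hk'3⟩
  rw [coset_iff] at hk'3
  have e : k' ^ 2 = k ^ 2 := by
    have h1 := conj_eq k hk2
    have h2 := conj_eq k' hk'2
    rw [hk3] at h1
    rw [hk'3, h1] at h2
    exact (mul_right_cancel h2).symm
  exact pow_eq_of_sq_eq hk'1 hk1 e

end Cfsg.Agent.S1185
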