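import Cfsg.Statements.S1183
import Cfsg.Agent.Lib.Helper20_Isolated
import Cfsg.Agent.S1182
import Cfsg.Agent.S1185

set_option autoImplicit false
open Cfsg

namespace Cfsg.Agent.S1183

open Cfsg.Agent.Lib.Helper20_Isolated

section general
variable {X : Type*} [Group X]

theorem orderOf_conj' (c a : X) : orderOf (c * a * c⁻¹) = orderOf a := by
  have : c * a * c⁻¹ = MulAut.conj c a := by simp [MulAut.conj_apply]
  rw [this, MulEquiv.orderOf_eq]

theorem pResidual_normal (p : ℕ) : (Cfsg.pResidual p X).Normal := by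
  have : Cfsg.pResidual p X = Subgroup.normalClosure {g : X | Nat.Coprime (orderOf g) p} := by
    unfold Cfsg.pResidual Subgroup.normalClosure
    congr 1
    ext x
    rw [Group.mem_conjugatesOfSet_iff]
    constructor
    · intro hx; exact ⟨x, hx, IsConj.refl x⟩
    · rintro ⟨a, ha, hax⟩
      obtain ⟨c, hc⟩ := isConj_iff.mp hax
      show Nat.Coprime (orderOf x) p
      rw [← hc, orderOf_conj']; exact ha
  rw [this]; exact Subgroup.normalClosure_normal

/-- the quotient by `O^2` is a 2-group -/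
theorem quotient_pResidual_isPGroup [Finite X] [(Cfsg.pResidual 2 X).Normal] :
    IsPGroup 2 (X ⧸ Cfsg.pResidual 2 X) := by
  intro q
  obtain ⟨c, rfl⟩ := QuotientGroup.mk_surjective q
  have hn : orderOf c ≠ 0 := (orderOf_pos c).ne'
  obtain ⟨k, m, hm, hkm⟩ := Nat.exists_eq_two_pow_mul_odd hn
  refine ⟨k, ?_⟩
  rw [← QuotientGroup.mk_pow, QuotientGroup.eq_one_iff]
  apply Subgroup.subset_closure
  show Nat.Coprime (orderOf (c ^ 2 ^ k)) 2
  have hdvd : orderOf (c ^ 2 ^ k) ∣ m := by
    apply orderOf_dvd_of_pow_eq_one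
    rw [← pow_mul, ← hkm, pow_orderOf_eq_one]
  exact (Odd.of_dvd_nat hm hdvd).coprime_two_right

/-- an element of odd order maps to `1` in a 2-group -/
theorem map_eq_one_of_odd {A : Type*} [Group A] (hA : IsPGroup 2 A) (f : X →* A) {g : X}
    (hg : Nat.Coprime (orderOf g) 2) : f g = 1 := by
  obtain ⟨j, hj⟩ := hA (f g)
  have h1 : orderOf (f g) ∣ orderOf g := orderOf_map_dvd f g
  have h2 : orderOf (f g) ∣ 2 ^ j := orderOf_dvd_of_pow_eq_one hj
  have h3 : Nat.Coprime (orderOf g) (2 ^ j) := Nat.Coprime.pow_right j hg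
  have h4 : orderOf (f g) = 1 := Nat.eq_one_of_dvd_coprimes h3 h1 h2
  exact orderOf_eq_one_iff.mp h4

theorem transfer_eq_pow_weak {G : Type*} [Group G] [Finite G] {H : Subgroup G} {A : Type*}
    [CommGroup A] (ϕ : H →* A) (g : H)
    (key : ∀ (k : ℕ) (g₀ : G) (hk : g₀⁻¹ * (g : G) ^ k * g₀ ∈ H),
      ϕ ⟨g₀⁻¹ * (g : G) ^ k * g₀, hk⟩ = ϕ (g ^ k)) :
    MonoidHom.transfer ϕ (g : G) = ϕ g ^ H.index := by
  classical
  have : Fintype (Quotient (MulAction.orbitRel (Subgroup.zpowers (g : G)) (G ⧸ H))) :=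
    Fintype.ofFinite _
  rw [Subgroup.index_eq_sum_minimalPeriod H (g : G), ← Finset.prod_pow_eq_pow_sum,
    MonoidHom.transfer_eq_prod_quotient_orbitRel_zpowers_quot]
  apply Finset.prod_congr rfl
  intro q _
  rw [key, map_pow]

end general

/-- the index of the centralizer of an isolated involution is odd -/
theorem odd_index_centralizer {G : Type*} [Group G] [Finite G] (z : G)
    (hz : Cfsg.IsIsolatedInvolution z) : Odd (Subgroup.centralizer ({z} : Set G)).index := by
  set C := Subgroup.centralizer ({z} : Set G) with hC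
  have hzz := sq_of_orderOf_two hz.1
  have hzi := inv_eq_self_of_sq hzz
  have hP : IsPGroup 2 (Subgroup.zpowers z) := by
    apply IsPGroup.of_card (n := 1)
    rw [Nat.card_zpowers, hz.1, pow_one]
  have h1 := hP.card_modEq_card_fixedPoints (G ⧸ C)
  have h2 : Nat.card (MulAction.fixedPoints (Subgroup.zpowers z) (G ⧸ C)) = 1 := by
    rw [Nat.card_eq_one_iff_unique]
    refine ⟨⟨?_⟩, ⟨⟨(QuotientGroup.mk 1 : G ⧸ C), ?_⟩⟩⟩
    · rintro ⟨q, hq⟩ ⟨q', hq'⟩
      rw [Subtype.mk.injEq]
      have key : ∀ q : G ⧸ C, q ∈ MulAction.fixedPoints (Subgroup.zpowers z) (G ⧸ C) →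
          q = QuotientGroup.mk 1 := by
        intro q hq
        obtain ⟨g, rfl⟩ := QuotientGroup.mk_surjective q
        have h3 := hq ⟨z, Subgroup.mem_zpowers z⟩
        have h4 : (QuotientGroup.mk (z * g) : G ⧸ C) = QuotientGroup.mk g := h3
        rw [QuotientGroup.eq] at h4
        -- (z g)⁻¹ g ∈ C
        have h5 : g⁻¹ * z * g ∈ C := by
          have : (z * g)⁻¹ * g = (g⁻¹ * z * g)⁻¹ := by group
          rw [this] at h4
          exact (Subgroup.inv_mem_iff C).mp h4
        rw [hC, Subgroup.mem_centralizer_singleton_iff] at h5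
        have h6 : g⁻¹ * z * g⁻¹⁻¹ = z := by
          apply hz.2
          rw [inv_inv]
          exact h5.symm
        rw [inv_inv] at h6
        rw [QuotientGroup.eq, mul_one]
        apply C.inv_mem
        rw [hC, Subgroup.mem_centralizer_singleton_iff]
        calc g * z = g * (g⁻¹ * z * g) := by rw [h6]
          _ = z * g := by group
      rw [key q hq, key q' hq']
    · rintro ⟨x, hx⟩
      obtain ⟨n, rfl⟩ := Subgroup.mem_zpowers_iff.mp hx
      show (QuotientGroup.mk (z ^ n * 1) : G ⧸ C) = QuotientGroup.mk 1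
      rw [QuotientGroup.eq, mul_one, mul_one]
      apply C.inv_mem
      exact C.zpow_mem (by rw [hC, Subgroup.mem_centralizer_singleton_iff]) n
  rw [h2] at h1
  rw [Subgroup.index]
  rw [Nat.odd_iff]
  exact h1

/-- Let z be an isolated involution of the finite group G and C = C_G(z). Then the subgroup of G generated by its elements of odd order is all of G if and only if the subgroup of C generated by its elements of odd order is all of C. -/
theorem result {G : Type*} [Group G] [Finite G] (z : G) (hz : Cfsg.IsIsolatedInvolution z) : Cfsg.pResidual 2 G = ⊤ ↔ Cfsg.pResidual 2 ↥(Subgroup.centralizer ({z} : Set G)) = ⊤ := by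
  set C := Subgroup.centralizer ({z} : Set G) with hC
  constructor
  · intro hG
    by_contra hne
    have : (Cfsg.pResidual 2 C).Normal := pResidual_normal 2
    set R := Cfsg.pResidual 2 C with hR
    have hQ2 : IsPGroup 2 (C ⧸ R) := quotient_pResidual_isPGroup
    have : Fact (Nat.Prime 2) := ⟨Nat.prime_two⟩
    have : Nontrivial (C ⧸ R) := by
      rw [← not_subsingleton_iff_nontrivial]
      intro hsub
      apply hne
      rw [eq_top_iff]
      intro c _
      rw [← QuotientGroup.eq_one_iff]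
      exact Subsingleton.elim _ _
    have : Group.IsNilpotent (C ⧸ R) := hQ2.isNilpotent
    have hlt := Group.IsSolvable.commutator_lt_top_of_nontrivial (C ⧸ R)
    -- an element outside the commutator subgroup
    obtain ⟨q, hq⟩ : ∃ q : C ⧸ R, q ∉ commutator (C ⧸ R) := by
      by_contra hall
      push Not at hall
      exact (lt_top_iff_ne_top.mp hlt) (eq_top_iff.mpr (fun x _ => hall x))
    obtain ⟨c, rfl⟩ := QuotientGroup.mk_surjective q
    let π : C →* Abelianization (C ⧸ R) := (Abelianization.of).comp (QuotientGroup.mk' R)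
    have hA2 : IsPGroup 2 (Abelianization (C ⧸ R)) := by
      intro a
      obtain ⟨q, rfl⟩ : ∃ q, Abelianization.of q = a := QuotientGroup.mk_surjective a
      obtain ⟨j, hj⟩ := hQ2 q
      exact ⟨j, by rw [← map_pow, hj, map_one]⟩
    have hπc : π c ≠ 1 := by
      intro h
      apply hq
      rw [← Abelianization.ker_of, MonoidHom.mem_ker]
      exact h
    -- transfer
    let T : G →* Abelianization (C ⧸ R) := MonoidHom.transfer π
    have hT : ∀ c : C, T (c : G) = π c ^ C.index := by
      intro c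
      apply transfer_eq_pow_weak
      intro k g₀ hk
      have hck : ((c : G) ^ k) ∈ C := C.pow_mem c.2 k
      have hzN : z ∈ Subgroup.normalizer ((⊤ : Subgroup G) : Set G) := by
        rw [Subgroup.mem_normalizer_iff]; intro h; simp
      have h1 : Commute ((c : G) ^ k) z := Subgroup.mem_centralizer_singleton_iff.mp hck
      have h2 : Commute (g₀⁻¹ * (c : G) ^ k * g₀) z := Subgroup.mem_centralizer_singleton_iff.mp hk
      obtain ⟨d, -, hdz, hd⟩ := Cfsg.Agent.S1182.result z hz ⊤ hzN ((c : G) ^ k)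
        (g₀⁻¹ * (c : G) ^ k * g₀) (Subgroup.mem_top _) (Subgroup.mem_top _) h1 h2 g₀⁻¹
        (Subgroup.mem_top _) (by rw [inv_inv])
      have hdC : d ∈ C := Subgroup.mem_centralizer_singleton_iff.mpr hdz
      have e : (⟨g₀⁻¹ * (c : G) ^ k * g₀, hk⟩ : C) = ⟨d, hdC⟩ * c ^ k * ⟨d, hdC⟩⁻¹ := by
        apply Subtype.ext
        simp only [Subgroup.coe_mul, Subgroup.coe_pow, Subgroup.coe_inv]
        exact hd.symm
      rw [e, map_mul, map_mul, map_inv, mul_comm (π ⟨d, hdC⟩), mul_assoc, mul_inv_cancel, mul_one]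
    -- T is trivial
    have hT1 : ∀ g : G, T g = 1 := by
      intro g
      have hg : g ∈ Cfsg.pResidual 2 G := by rw [hG]; exact Subgroup.mem_top g
      have : Cfsg.pResidual 2 G ≤ T.ker := by
        unfold Cfsg.pResidual
        rw [Subgroup.closure_le]
        intro x hx
        exact MonoidHom.mem_ker.mpr (map_eq_one_of_odd hA2 T hx)
      exact MonoidHom.mem_ker.mp (this hg)
    apply hπc
    have h1 : π c ^ C.index = 1 := by rw [← hT c, hT1]
    obtain ⟨j, hj⟩ := hA2 (π c)
    have hodd := odd_index_centralizer z hz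
    rw [← hC] at hodd
    have h3 : Nat.Coprime C.index (2 ^ j) := Nat.Coprime.pow_right j hodd.coprime_two_right
    have h4 : orderOf (π c) = 1 :=
      Nat.eq_one_of_dvd_coprimes h3 (orderOf_dvd_of_pow_eq_one h1) (orderOf_dvd_of_pow_eq_one hj)
    exact orderOf_eq_one_iff.mp h4
  · intro hCtop
    rw [eq_top_iff]
    intro g _
    obtain ⟨k, ⟨⟨hk1, _⟩, hk3⟩, -⟩ := Cfsg.Agent.S1185.result z hz g
    have hkR : k ∈ Cfsg.pResidual 2 G :=
      Subgroup.subset_closure (show Nat.Coprime (orderOf k) 2 from hk1.coprime_two_right)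
    have hcR : g⁻¹ * k ∈ Cfsg.pResidual 2 G := by
      have h1 : (⟨g⁻¹ * k, hk3⟩ : C) ∈ Cfsg.pResidual 2 C := by rw [hCtop]; exact Subgroup.mem_top _
      have h2 : (Cfsg.pResidual 2 C).map C.subtype ≤ Cfsg.pResidual 2 G := by
        unfold Cfsg.pResidual
        rw [MonoidHom.map_closure, Subgroup.closure_le]
        rintro x ⟨y, hy, rfl⟩
        apply Subgroup.subset_closure
        show Nat.Coprime (orderOf (C.subtype y)) 2
        rw [Subgroup.coe_subtype, Subgroup.orderOf_coe]
        exact hy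
      exact h2 ⟨⟨g⁻¹ * k, hk3⟩, h1, rfl⟩
    have : g = k * (g⁻¹ * k)⁻¹ := by group
    rw [this]
    exact Subgroup.mul_mem _ hkR (Subgroup.inv_mem _ hcR)

end Cfsg.Agent.S1183
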