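import Cfsg.Statements.S1184
import Cfsg.Agent.Lib.Helper20_Isolated

set_option autoImplicit false
open Cfsg

namespace Cfsg.Agent.S1184

open Cfsg.Agent.Lib.Helper20_Isolated

/-- the elements conjugating `y` to `y` or `y⁻¹` -/
def extCent {G : Type*} [Group G] (y : G) : Subgroup G where
  carrier := {x | x * y * x⁻¹ = y ∨ x * y * x⁻¹ = y⁻¹}
  one_mem' := by left; group
  mul_mem' := by
    intro a b ha hb
    have e : a * b * y * (a * b)⁻¹ = a * (b * y * b⁻¹) * a⁻¹ := by group
    rcases ha with ha | ha <;> rcases hb with hb | hb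
    · left; rw [e, hb, ha]
    · right
      rw [e, hb]
      have : a * y⁻¹ * a⁻¹ = (a * y * a⁻¹)⁻¹ := by group
      rw [this, ha]
    · right; rw [e, hb, ha]
    · left
      rw [e, hb]
      have : a * y⁻¹ * a⁻¹ = (a * y * a⁻¹)⁻¹ := by group
      rw [this, ha, inv_inv]
  inv_mem' := by
    intro a ha
    rcases ha with ha | ha
    · left
      show a⁻¹ * y * a⁻¹⁻¹ = y
      conv_lhs => rw [← ha]
      group
    · right
      show a⁻¹ * y * a⁻¹⁻¹ = y⁻¹
      have h2 : a * y⁻¹ * a⁻¹ = y := by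
        rw [show a * y⁻¹ * a⁻¹ = (a * y * a⁻¹)⁻¹ by group, ha, inv_inv]
      conv_lhs => rw [← h2]
      group

/-- Let z be an isolated involution of the finite group G. If s and t are distinct conjugates of z, then st does not commute with z. -/
theorem result {G : Type*} [Group G] [Finite G] (z : G) (hz : Cfsg.IsIsolatedInvolution z) (g h : G) (hne : g * z * g⁻¹ ≠ h * z * h⁻¹) : ¬ Commute (g * z * g⁻¹ * (h * z * h⁻¹)) z := by
  intro hc
  apply hne
  have hzz := sq_of_orderOf_two hz.1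
  set s := g * z * g⁻¹ with hs
  set t := h * z * h⁻¹ with ht
  have hss : s * s = 1 := conj_sq hzz
  have htt : t * t = 1 := conj_sq hzz
  set y := s * t with hy
  have hsy : s * y * s⁻¹ = y⁻¹ := conj_mul_invol hss htt
  have hzy : z * y * z⁻¹ = y := by
    have : y * z = z * y := hc
    rw [← this]; group
  obtain ⟨h₁, hh₁, e₁⟩ := conj_in_subgroup hz (extCent y) (Or.inl hzy) g (Or.inr hsy)
  -- s commutes with y
  have hsy' : s * y * s⁻¹ = y := by
    have e2 : s * y * s⁻¹ = h₁ * (z * (h₁⁻¹ * y * h₁) * z⁻¹) * h₁⁻¹ := by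
      rw [hs, ← e₁]; group
    have hinv : h₁⁻¹ ∈ extCent y := (extCent y).inv_mem hh₁
    rcases hinv with h3 | h3
    · rw [inv_inv] at h3
      rw [e2, h3, hzy]
      rcases hh₁ with h4 | h4
      · exact h4
      · -- then y = y⁻¹ from h3, h4
        have : y = h₁⁻¹ * (h₁ * y * h₁⁻¹) * h₁ := by group
        rw [h4] at this
        have h5 : h₁⁻¹ * y⁻¹ * h₁ = (h₁⁻¹ * y * h₁)⁻¹ := by group
        rw [h5, h3] at this
        rw [h4]; exact this.symm
    · rw [inv_inv] at h3
      rw [e2, h3]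
      have : z * y⁻¹ * z⁻¹ = (z * y * z⁻¹)⁻¹ := by group
      rw [this, hzy]
      have h5 : h₁ * y⁻¹ * h₁⁻¹ = (h₁ * y * h₁⁻¹)⁻¹ := by group
      rw [h5]
      have : y = h₁ * (h₁⁻¹ * y * h₁) * h₁⁻¹ := by group
      rw [h3] at this
      rw [h5] at this
      rw [← this]
  have hyy : y = y⁻¹ := hsy'.symm.trans hsy
  -- so s and t commute
  have hst : Commute s t := by
    unfold Commute SemiconjBy
    have : (s * t)⁻¹ = t * s := by
      rw [mul_inv_rev, inv_eq_self_of_sq hss, inv_eq_self_of_sq htt]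
    rw [← this]; exact hyy
  have hsi : Cfsg.IsIsolatedInvolution s := isolated_conj hz g
  have ht' : t = (h * g⁻¹) * s * (h * g⁻¹)⁻¹ := by rw [hs, ht]; group
  have := hsi.2 (h * g⁻¹) (by rw [← ht']; exact hst)
  rw [ht']; exact this.symm

end Cfsg.Agent.S1184
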