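import Cfsg.Statements.S1186
import Cfsg.Agent.Lib.Helper20_Isolated
import Cfsg.Agent.S1184
import Cfsg.Agent.S1185

set_option autoImplicit false
open Cfsg

namespace Cfsg.Agent.S1186

open Cfsg.Agent.Lib.Helper20_Isolated

variable {G : Type*} [Group G]

/-- `u` is a conjugate of `z` -/
def IsZ (z u : G) : Prop := ∃ g : G, g * z * g⁻¹ = u

theorem isZ_self (z : G) : IsZ z z := ⟨1, by group⟩

theorem isZ_conj {z u : G} (hu : IsZ z u) (x : G) : IsZ z (x * u * x⁻¹) := by
  obtain ⟨g, rfl⟩ := hu
  exact ⟨x * g, by group⟩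

theorem isZ_sq {z u : G} (hz : Cfsg.IsIsolatedInvolution z) (hu : IsZ z u) : u * u = 1 := by
  obtain ⟨g, rfl⟩ := hu
  exact conj_sq (sq_of_orderOf_two hz.1)

theorem isZ_inv {z u : G} (hz : Cfsg.IsIsolatedInvolution z) (hu : IsZ z u) : u⁻¹ = u :=
  inv_eq_self_of_sq (isZ_sq hz hu)

theorem isZ_isolated {z u : G} (hz : Cfsg.IsIsolatedInvolution z) (hu : IsZ z u) :
    Cfsg.IsIsolatedInvolution u := by
  obtain ⟨g, rfl⟩ := hu
  exact isolated_conj hz g

theorem isZ_trans {z u v : G} (hu : IsZ z u) (hv : IsZ u v) : IsZ z v := by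
  obtain ⟨g, rfl⟩ := hu
  obtain ⟨h, rfl⟩ := hv
  exact ⟨h * g, by group⟩

theorem isZ_symm {z u : G} (hu : IsZ z u) : IsZ u z := by
  obtain ⟨g, rfl⟩ := hu
  exact ⟨g⁻¹, by group⟩

/-- conjugation by an involution in `Z`: `u w u ∈ Z` -/
theorem isZ_mul {z u w : G} (hz : Cfsg.IsIsolatedInvolution z) (hu : IsZ z u) (hw : IsZ z w) :
    IsZ z (u * w * u) := by
  have := isZ_conj hw u
  rwa [isZ_inv hz hu] at this

theorem mid_exists [Finite G] {z u v : G} (hz : Cfsg.IsIsolatedInvolution z) (hu : IsZ z u)
    (hv : IsZ z v) : ∃ w, IsZ z w ∧ w * u * w = v := by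
  have hui := isZ_isolated hz hu
  have huv : IsZ u v := isZ_trans (isZ_symm hu) hv
  obtain ⟨g, hg⟩ := huv
  obtain ⟨k, hk1, hk2, hk3⟩ := Cfsg.Agent.S1185.exists_k u hui g
  rw [hg] at hk3
  have huu := isZ_sq hz hu
  have hu' := isZ_inv hz hu
  -- j = k^((n+1)/2), j^2 = k, j inverted by u
  obtain ⟨m, hm⟩ := hk1
  set j := k ^ (m + 1) with hj
  have hjj : j * j = k := by
    rw [hj, ← pow_add]
    have : m + 1 + (m + 1) = orderOf k + 1 := by omega
    rw [this, pow_succ, pow_orderOf_eq_one, one_mul]
  have huj : u * j * u⁻¹ = j⁻¹ := by rw [hj, ← conj_pow, hk2, inv_pow]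
  have huj' : u * j⁻¹ = j * u := by
    have h1 : u * j⁻¹ * u⁻¹ = j := by
      have : u * j⁻¹ * u⁻¹ = (u * j * u⁻¹)⁻¹ := by group
      rw [this, huj, inv_inv]
    have := congrArg (fun x => x * u) h1
    simpa [mul_assoc] using this
  have huk' : u * k⁻¹ = k * u := by
    have h1 : u * k⁻¹ * u⁻¹ = k := by
      have : u * k⁻¹ * u⁻¹ = (u * k * u⁻¹)⁻¹ := by group
      rw [this, hk2, inv_inv]
    have := congrArg (fun x => x * u) h1
    simpa [mul_assoc] using this
  have huk : u * k = k⁻¹ * u := by
    have := congrArg (fun x => x * u) hk2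
    simpa [mul_assoc] using this
  refine ⟨k * u, ?_, ?_⟩
  · -- k u = j u j⁻¹
    have : k * u = j * u * j⁻¹ := by
      rw [mul_assoc, huj', ← mul_assoc, hjj]
    rw [this]
    exact isZ_conj hu j
  · -- (k u) u (k u) = k k u = k u k⁻¹ = v
    rw [← hk3]
    calc k * u * u * (k * u) = k * (u * u) * (k * u) := by group
      _ = k * (k * u) := by rw [huu, mul_one]
      _ = k * (u * k⁻¹) := by rw [huk']
      _ = k * u * k⁻¹ := by group

theorem mid_unique [Finite G] {z u w w' : G} (hz : Cfsg.IsIsolatedInvolution z) (hu : IsZ z u)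
    (hw : IsZ z w) (hw' : IsZ z w') (h : w * u * w = w' * u * w') : w = w' := by
  by_contra hne
  have hui := isZ_isolated hz hu
  obtain ⟨g, hg⟩ := isZ_trans (isZ_symm hu) hw
  obtain ⟨g', hg'⟩ := isZ_trans (isZ_symm hu) hw'
  have hww := isZ_sq hz hw
  have hw'w' := isZ_sq hz hw'
  have hne' : g' * u * g'⁻¹ ≠ g * u * g⁻¹ := by rw [hg, hg']; exact fun e => hne e.symm
  have := Cfsg.Agent.S1184.result u hui g' g hne'
  apply this
  rw [hg, hg']
  unfold Commute SemiconjBy
  -- w' w u = u w' w  from  w u w = w' u w'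
  calc w' * w * u = w' * w * u * (w * w) := by rw [hww, mul_one]
    _ = w' * (w * u * w) * w := by group
    _ = w' * (w' * u * w') * w := by rw [h]
    _ = (w' * w') * u * w' * w := by group
    _ = u * (w' * w) := by rw [hw'w']; group

theorem mid_symm {u v w : G} (hww : w * w = 1) (h : w * u * w = v) : w * v * w = u := by
  rw [← h]
  calc w * (w * u * w) * w = (w * w) * u * (w * w) := by group
    _ = u := by rw [hww]; group

/-- the main counting bijection -/
theorem card_Z [Finite G] {z s : G} (hz : Cfsg.IsIsolatedInvolution z) (hs : s * s = 1)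
    (hsz : Commute s z) :
    Nat.card {u : G // IsZ z u} =
      Nat.card {u : G // IsZ z u ∧ Commute u s} * Nat.card {u : G // IsZ z u ∧ Commute u (s * z)} := by
  have hzz := sq_of_orderOf_two hz.1
  have hsi := inv_eq_self_of_sq hs
  have hsz' : s * z = z * s := hsz
  have hzsz : s * z * s = z := by rw [hsz', mul_assoc, hs, mul_one]
  -- w commutes with s z  iff  s w s = z w z
  have key1 : ∀ w : G, Commute w (s * z) → s * w * s = z * w * z := by
    intro w hw
    have h1 : w * (s * z) = s * z * w := hw
    calc s * w * s = s * (w * (s * z)) * z := by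
            rw [show s * (w * (s * z)) * z = s * w * s * (z * z) by group, hzz, mul_one]
      _ = s * (s * z * w) * z := by rw [h1]
      _ = (s * s) * z * w * z := by group
      _ = z * w * z := by rw [hs, one_mul]
  have key2 : ∀ w : G, s * w * s = z * w * z → Commute w (s * z) := by
    intro w hw
    unfold Commute SemiconjBy
    calc w * (s * z) = (s * s) * w * (s * z) := by rw [hs, one_mul]
      _ = s * (s * w * s) * z := by group
      _ = s * (z * w * z) * z := by rw [hw]
      _ = s * z * w * (z * z) := by group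
      _ = s * z * w := by rw [hzz, mul_one]
  rw [← Nat.card_prod]
  symm
  apply Nat.card_congr
  let Φ : {u : G // IsZ z u ∧ Commute u s} × {u : G // IsZ z u ∧ Commute u (s * z)} →
      {u : G // IsZ z u} := fun p => ⟨p.1.1 * p.2.1 * p.1.1, isZ_mul hz p.1.2.1 p.2.2.1⟩
  apply Equiv.ofBijective Φ
  -- a computation used twice: (u z u) (u w u) (u z u) = s (u w u) s
  have comp : ∀ u w : G, IsZ z u → Commute u s → Commute w (s * z) →
      (u * z * u) * (u * w * u) * (u * z * u) = s * (u * w * u) * s := by
    intro u w hu hus hw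
    have huu := isZ_sq hz hu
    have h1 : u * s = s * u := hus
    calc (u * z * u) * (u * w * u) * (u * z * u)
        = u * z * (u * u) * w * (u * u) * z * u := by group
      _ = u * (z * w * z) * u := by rw [huu]; group
      _ = u * (s * w * s) * u := by rw [key1 w hw]
      _ = (u * s) * w * (s * u) := by group
      _ = (s * u) * w * (u * s) := by rw [h1]
      _ = s * (u * w * u) * s := by group
  constructor
  · rintro ⟨⟨u, hu, hus⟩, ⟨w, hw, hwsz⟩⟩ ⟨⟨u', hu', hus'⟩, ⟨w', hw', hwsz'⟩⟩ h
    have hv : u * w * u = u' * w' * u' := congrArg Subtype.val h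
    have c1 := comp u w hu hus hwsz
    have c2 := comp u' w' hu' hus' hwsz'
    rw [← hv] at c2
    have e1 : u * z * u = u' * z * u' :=
      mid_unique hz (isZ_mul hz hu hw) (isZ_mul hz hu (isZ_self z)) (isZ_mul hz hu' (isZ_self z))
        (c1.trans c2.symm)
    have e2 : u = u' := mid_unique hz (isZ_self z) hu hu' e1
    subst e2
    have huu := isZ_sq hz hu
    have e3 : w = w' := by
      calc w = (u * u) * w * (u * u) := by rw [huu]; group
        _ = u * (u * w * u) * u := by group
        _ = u * (u * w' * u) * u := by rw [hv]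
        _ = (u * u) * w' * (u * u) := by group
        _ = w' := by rw [huu]; group
    subst e3
    rfl
  · rintro ⟨v, hv⟩
    have hsvs : IsZ z (s * v * s) := by
      have := isZ_conj hv s
      rwa [hsi] at this
    obtain ⟨p, hp, hpv⟩ := mid_exists hz hv hsvs
    have hpp := isZ_sq hz hp
    have hsps : IsZ z (s * p * s) := by
      have := isZ_conj hp s
      rwa [hsi] at this
    -- s p s is also a midpoint
    have hps : s * p * s = p := by
      apply mid_unique hz hv hsps hp
      rw [hpv]
      have h1 : p * (s * v * s) * p = v := mid_symm hpp hpv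
      calc s * p * s * v * (s * p * s) = s * (p * (s * v * s) * p) * s := by group
        _ = s * v * s := by rw [h1]
    have hps' : Commute p s := by
      unfold Commute SemiconjBy
      calc p * s = (s * p * s) * s := by rw [hps]
        _ = s * p * (s * s) := by group
        _ = s * p := by rw [hs, mul_one]
    obtain ⟨u, hu, huz⟩ := mid_exists hz (isZ_self z) hp
    have huu := isZ_sq hz hu
    have hsus : IsZ z (s * u * s) := by
      have := isZ_conj hu s
      rwa [hsi] at this
    have hus : s * u * s = u := by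
      apply mid_unique hz (isZ_self z) hsus hu
      rw [huz]
      calc s * u * s * z * (s * u * s) = s * (u * (s * z * s) * u) * s := by group
        _ = s * (u * z * u) * s := by rw [hzsz]
        _ = s * p * s := by rw [huz]
        _ = p := hps
    have hus' : Commute u s := by
      unfold Commute SemiconjBy
      calc u * s = (s * u * s) * s := by rw [hus]
        _ = s * u * (s * s) := by group
        _ = s * u := by rw [hs, mul_one]
    have hw : IsZ z (u * v * u) := isZ_mul hz hu hv
    have hwsz : Commute (u * v * u) (s * z) := by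
      apply key2
      have h1 : u * s = s * u := hus'
      calc s * (u * v * u) * s = (s * u) * v * (u * s) := by group
        _ = (u * s) * v * (s * u) := by rw [h1]
        _ = u * (s * v * s) * u := by group
        _ = u * (p * v * p) * u := by rw [hpv]
        _ = u * ((u * z * u) * v * (u * z * u)) * u := by rw [huz]
        _ = (u * u) * z * (u * v * u) * z * (u * u) := by group
        _ = z * (u * v * u) * z := by rw [huu]; group
    refine ⟨(⟨u, hu, hus'⟩, ⟨u * v * u, hw, hwsz⟩), ?_⟩
    apply Subtype.ext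
    show u * (u * v * u) * u = v
    calc u * (u * v * u) * u = (u * u) * v * (u * u) := by group
      _ = v := by rw [huu]; group

/-- `K ≃ Z`, restricted by a commutation condition -/
theorem card_K_eq [Finite G] {z t : G} (hz : Cfsg.IsIsolatedInvolution z) (ht : Commute t z) :
    Nat.card {k : G // Odd (orderOf k) ∧ z * k * z⁻¹ = k⁻¹ ∧ Commute k t} =
      Nat.card {u : G // IsZ z u ∧ Commute u t} := by
  have hzz := sq_of_orderOf_two hz.1
  have hzi := inv_eq_self_of_sq hzz
  have conj_eq : ∀ k : G, z * k * z⁻¹ = k⁻¹ → k * z * k⁻¹ = k ^ 2 * z := by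
    intro k hk
    have h1 : z * k⁻¹ * z⁻¹ = k := by
      have : z * k⁻¹ * z⁻¹ = (z * k * z⁻¹)⁻¹ := by group
      rw [this, hk, inv_inv]
    have h2 : z * k⁻¹ = k * z := by
      have := congrArg (fun x => x * z) h1
      simpa [mul_assoc] using this
    rw [mul_assoc, h2, pow_two, mul_assoc]
  apply Nat.card_congr
  let f : {k : G // Odd (orderOf k) ∧ z * k * z⁻¹ = k⁻¹ ∧ Commute k t} →
      {u : G // IsZ z u ∧ Commute u t} := fun k => ⟨k.1 * z * k.1⁻¹, ⟨k.1, rfl⟩, by
        have h1 : k.1 * t = t * k.1 := k.2.2.2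
        have h2 : t * z = z * t := ht
        unfold Commute SemiconjBy
        calc k.1 * z * k.1⁻¹ * t = k.1 * z * k.1⁻¹ * (t * k.1) * k.1⁻¹ := by group
          _ = k.1 * z * k.1⁻¹ * (k.1 * t) * k.1⁻¹ := by rw [h1]
          _ = k.1 * (z * t) * k.1⁻¹ := by group
          _ = k.1 * (t * z) * k.1⁻¹ := by rw [h2]
          _ = (k.1 * t) * z * k.1⁻¹ := by group
          _ = (t * k.1) * z * k.1⁻¹ := by rw [h1]
          _ = t * (k.1 * z * k.1⁻¹) := by group⟩
  apply Equiv.ofBijective f
  constructor
  · rintro ⟨k, hk1, hk2, hk3⟩ ⟨k', hk1', hk2', hk3'⟩ h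
    have h1 : k * z * k⁻¹ = k' * z * k'⁻¹ := congrArg Subtype.val h
    rw [conj_eq k hk2, conj_eq k' hk2'] at h1
    have h2 : k ^ 2 = k' ^ 2 := mul_right_cancel h1
    have := pow_eq_of_sq_eq hk1 hk1' h2
    subst this
    rfl
  · rintro ⟨u, ⟨g, hg⟩, hut⟩
    obtain ⟨k, hk1, hk2, hk3⟩ := Cfsg.Agent.S1185.exists_k z hz g
    rw [hg] at hk3
    -- k commutes with t: k^2 z = u commutes with t
    have h1 := conj_eq k hk2
    rw [hk3] at h1
    have hk2t : Commute (k ^ 2) t := by
      have e : k ^ 2 = u * z := by rw [h1, mul_assoc, hzz, mul_one]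
      rw [e]
      exact Commute.mul_left hut ht.symm
    have hkt : Commute k t := by
      obtain ⟨m, hm⟩ := hk1
      have e : k = (k ^ 2) ^ (m + 1) := by
        rw [← pow_mul]
        have : 2 * (m + 1) = orderOf k + 1 := by omega
        rw [this, pow_succ, pow_orderOf_eq_one, one_mul]
      rw [e]
      exact hk2t.pow_left (m + 1)
    exact ⟨⟨k, hk1, hk2, hkt⟩, Subtype.ext hk3⟩

/-- Let z be an isolated involution of the finite group G, C = C_G(z), K the set of elements of odd order inverted by z, and s an involution of C. Then |G| = |C| · |C_K(sz)| · |C_K(s)|. -/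
theorem result {G : Type*} [Group G] [Finite G] (z : G) (hz : Cfsg.IsIsolatedInvolution z) (s : G) (hs : orderOf s = 2) (hsz : Commute s z) : Nat.card G = Nat.card (Subgroup.centralizer ({z} : Set G)) * Nat.card {k : G // Odd (orderOf k) ∧ z * k * z⁻¹ = k⁻¹ ∧ Commute k (s * z)} * Nat.card {k : G // Odd (orderOf k) ∧ z * k * z⁻¹ = k⁻¹ ∧ Commute k s} := by
  have hss := sq_of_orderOf_two hs
  set C := Subgroup.centralizer ({z} : Set G) with hC
  -- G/C ≃ K = {k // odd, inverted, Commute k 1}
  have h1 : Nat.card (G ⧸ C) = Nat.card {u : G // IsZ z u} := by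
    apply Nat.card_congr
    -- orbit-stabilizer by hand: gC ↦ g z g⁻¹
    let f : G ⧸ C → {u : G // IsZ z u} := Quotient.lift (s := QuotientGroup.leftRel C)
      (fun g => (⟨g * z * g⁻¹, ⟨g, rfl⟩⟩ : {u : G // IsZ z u})) (by
        intro a b hab
        have hab' : a⁻¹ * b ∈ C := QuotientGroup.leftRel_apply.mp hab
        have hc : a⁻¹ * b * z = z * (a⁻¹ * b) := Subgroup.mem_centralizer_singleton_iff.mp hab'
        apply Subtype.ext
        show a * z * a⁻¹ = b * z * b⁻¹
        calc a * z * a⁻¹ = a * (z * (a⁻¹ * b)) * b⁻¹ := by group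
          _ = a * (a⁻¹ * b * z) * b⁻¹ := by rw [hc]
          _ = b * z * b⁻¹ := by group)
    apply Equiv.ofBijective f
    constructor
    · intro q q' h
      induction q using QuotientGroup.induction_on with | H a => ?_
      induction q' using QuotientGroup.induction_on with | H b => ?_
      have h2 : a * z * a⁻¹ = b * z * b⁻¹ := congrArg Subtype.val h
      rw [QuotientGroup.eq]
      apply Subgroup.mem_centralizer_singleton_iff.mpr
      calc a⁻¹ * b * z = a⁻¹ * (b * z * b⁻¹) * b := by group
        _ = a⁻¹ * (a * z * a⁻¹) * b := by rw [h2]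
        _ = z * (a⁻¹ * b) := by group
    · rintro ⟨u, g, hg⟩
      exact ⟨QuotientGroup.mk g, Subtype.ext hg⟩
  have h2 := Subgroup.card_eq_card_quotient_mul_card_subgroup C
  have hszsz : (s * z) * (s * z) = 1 := by
    have h3 : s * z = z * s := hsz
    calc s * z * (s * z) = s * (z * s) * z := by group
      _ = s * (s * z) * z := by rw [h3]
      _ = (s * s) * (z * z) := by group
      _ = 1 := by rw [hss, sq_of_orderOf_two hz.1, one_mul]
  have h3 := card_Z hz hss hsz
  have h4 := card_K_eq hz hsz
  have h5 : Commute (s * z) z := Commute.mul_left hsz (Commute.refl z)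
  have h6 := card_K_eq hz h5
  rw [h2, h1, h3, h4, h6]
  ring

end Cfsg.Agent.S1186
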