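import Cfsg.Statements.S1187
import Cfsg.Agent.Lib.Helper23_ZStarD
import Cfsg.Agent.S0201

set_option autoImplicit false
open Cfsg

namespace Cfsg.Agent.S1187

/-- Let z be an isolated involution of the finite group G and p a prime. If Q is a p-subgroup normalized by z that is maximal among p-subgroups normalized by z, then Q is a Sylow p-subgroup of G. -/
theorem result {G : Type*} [Group G] [Finite G] (z : G) (hz : Cfsg.IsIsolatedInvolution z) {p : ℕ} [Fact p.Prime] (Q : Subgroup G) (hQ : IsPGroup p Q) (hzQ : z ∈ Subgroup.normalizer (Q : Set G)) (hmax : ∀ R : Subgroup G, IsPGroup p R → z ∈ Subgroup.normalizer (R : Set G) → Q ≤ R → R = Q) : ∃ P : Sylow p G, (P : Subgroup G) = Q := by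
  have hBS : Cfsg.Agent.Lib.Helper23_ZStar.BrauerSuzukiHyp :=
    fun H _ _ S n e hO => Cfsg.Agent.S0201.result S n e hO
  have hodd := Cfsg.Agent.Lib.Helper23_ZStarC.oddProd_of_isIsolatedInvolution hz
  by_cases hp : p = 2
  · subst hp
    -- `Q ⊔ ⟨z⟩` is a `z`-invariant `2`-group, so `z ∈ Q`
    have hzp : IsPGroup 2 (Subgroup.zpowers z) := by
      apply IsPGroup.of_card (n := 1)
      rw [Nat.card_zpowers, hz.1, pow_one]
    have hle : Subgroup.zpowers z ≤ Subgroup.normalizer (Q : Set G) :=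
      Subgroup.zpowers_le.mpr hzQ
    have hR : IsPGroup 2 (Q ⊔ Subgroup.zpowers z : Subgroup G) :=
      hQ.to_sup_of_normal_left' hzp hle
    have hzR : z ∈ (Q ⊔ Subgroup.zpowers z : Subgroup G) :=
      (le_sup_right : Subgroup.zpowers z ≤ Q ⊔ Subgroup.zpowers z) (Subgroup.mem_zpowers z)
    have hRQ : (Q ⊔ Subgroup.zpowers z : Subgroup G) = Q :=
      hmax _ hR (Subgroup.le_normalizer hzR) le_sup_left
    have hzQ' : z ∈ Q := by rw [← hRQ]; exact hzR
    obtain ⟨P, hP⟩ := hQ.exists_le_sylow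
    exact ⟨P, hmax _ P.2 (Subgroup.le_normalizer (hP hzQ')) hP⟩
  · exact Cfsg.Agent.Lib.Helper23_ZStarD.sylow_of_maximal_invariant hBS hodd hp Q hQ hzQ hmax

end Cfsg.Agent.S1187
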