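import Cfsg.Statements.S1189
import Cfsg.Agent.Lib.Helper86_QDModel
-- import your own Cfsg.Agent.* helpers here

set_option autoImplicit false
open Cfsg

namespace Cfsg.Agent.S1189

open Cfsg.Agent.Lib.Helper86_QuasiDihedral Cfsg.Agent.Lib.Helper86_Wreathed

/-- A quasi-dihedral 2-group has exactly two conjugacy classes of elements of order 2 and exactly two conjugacy classes of elements of order 4. -/
theorem result {S : Type*} [Group S] [Finite S] (hS : Cfsg.IsQuasiDihedral S) : Nat.card {C : ConjClasses S // ∃ t : S, orderOf t = 2 ∧ ConjClasses.mk t = C} = 2 ∧ Nat.card {C : ConjClasses S // ∃ t : S, orderOf t = 4 ∧ ConjClasses.mk t = C} = 2 := by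
  obtain ⟨k, hcard, ⟨e⟩⟩ := exists_mulEquiv hS
  have ho : ∀ (w : QD (2 ^ k)) (m : ℕ), orderOf w = m → orderOf (e w) = m := by
    intro w m hw; rw [MulEquiv.orderOf_eq]; exact hw
  have hconj : ∀ (t : S) (w : QD (2 ^ k)), IsConj (e.symm t) w → IsConj t (e w) := by
    intro t w h
    have := (isConj_mulEquiv_iff e (e.symm t) w).mpr h
    simpa using this
  constructor
  · refine card_classes_eq_two (fun t : S => orderOf t = 2)
      (e (Dk.r (hh (2 ^ k)))) (e (Dk.s 0))
      (ho _ _ QD.orderOf_r_hh) (ho _ _ (QD.orderOf_s_even 0 (map_zero _))) ?_ ?_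
    · intro t ht
      have ht' : orderOf (e.symm t) = 2 := by rw [MulEquiv.orderOf_eq]; exact ht
      rcases QD.involution_classify (e.symm t) ht' with h | ⟨i, hi, h⟩
      · left; apply hconj; rw [h]
      · right; apply hconj; rw [h]
        exact QD.isConj_s_of_par_eq _ _ (by rw [hi, map_zero])
    · rw [isConj_mulEquiv_iff e]
      exact QD.not_isConj_r_s _ _
  · refine card_classes_eq_two (fun t : S => orderOf t = 4)
      (e (Dk.r (QD.qq (2 ^ k)))) (e (Dk.s 1))
      (ho _ _ QD.orderOf_r_qq) (ho _ _ (QD.orderOf_s_odd 1 QD.par_one)) ?_ ?_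
    · intro t ht
      have ht' : orderOf (e.symm t) = 4 := by rw [MulEquiv.orderOf_eq]; exact ht
      rcases QD.order_four_classify (e.symm t) ht' with h | h | ⟨i, hi, h⟩
      · left; apply hconj; rw [h]
      · left; apply hconj; rw [h]
        have := QD.isConj_r_kap (QD.qq (2 ^ k))
        rw [QD.kap_mul_qq] at this
        exact this.symm
      · right; apply hconj; rw [h]
        exact QD.isConj_s_of_par_eq _ _ (by rw [hi, QD.par_one])
    · rw [isConj_mulEquiv_iff e]
      exact QD.not_isConj_r_s _ _

end Cfsg.Agent.S1189
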