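import Cfsg.Statements.S1190
import Cfsg.Agent.Lib.Helper86_QDModel
-- import your own Cfsg.Agent.* helpers here

set_option autoImplicit false
open Cfsg

namespace Cfsg.Agent.S1190

open Cfsg.Agent.Lib.Helper86_QuasiDihedral Cfsg.Agent.Lib.Helper86_Wreathed

/-- In a quasi-dihedral 2-group S, any two Klein four-subgroups are conjugate, and every Klein four-subgroup T satisfies C_S(T) = T and |N_S(T) : T| = 2. -/
theorem result {S : Type*} [Group S] [Finite S] (hS : Cfsg.IsQuasiDihedral S) : (∀ T₁ T₂ : Subgroup S, IsKleinFour T₁ → IsKleinFour T₂ → ∃ s : S, T₁.map (MulAut.conj s).toMonoidHom = T₂) ∧ (∀ T : Subgroup S, IsKleinFour T → Subgroup.centralizer (T : Set S) = T ∧ T.relIndex (Subgroup.normalizer (T : Set S)) = 2) := by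
  obtain ⟨k, hcard, ⟨e⟩⟩ := exists_mulEquiv hS
  have hcl : ∀ T : Subgroup S, IsKleinFour T →
      ∃ i, par (2 ^ k) i = 0 ∧ T.map e.symm.toMonoidHom = QD.gsub 2 QD.two_mul_hh i := by
    intro T hT
    exact QD.klein_classify _ (isKleinFour_map_equiv e.symm T hT)
  constructor
  · intro T₁ T₂ h₁ h₂
    obtain ⟨i₁, hi₁, hT₁⟩ := hcl T₁ h₁
    obtain ⟨i₂, hi₂, hT₂⟩ := hcl T₂ h₂
    apply exists_conj_of_map e.symm
    rw [hT₁, hT₂]
    exact QD.exists_conj_gsub _ _ _ _ (by rw [hi₁, hi₂])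
  · intro T hT
    obtain ⟨i, hi, hTi⟩ := hcl T hT
    constructor
    · apply Subgroup.map_injective (f := e.symm.toMonoidHom) e.symm.injective
      rw [map_centralizer_equiv, hTi, QD.centralizer_gsub_two]
    · rw [← relIndex_normalizer_equiv e.symm, hTi, QD.relIndex_normalizer_gsub_two]

end Cfsg.Agent.S1190
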