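import Cfsg.Statements.S1191
import Cfsg.Agent.Lib.Helper86_QDModel
-- import your own Cfsg.Agent.* helpers here

set_option autoImplicit false
open Cfsg

namespace Cfsg.Agent.S1191

open Cfsg.Agent.Lib.Helper86_QuasiDihedral Cfsg.Agent.Lib.Helper86_Wreathed

/-- In a quasi-dihedral 2-group S, any two subgroups isomorphic to the quaternion group of order 8 are conjugate, and each such subgroup Q satisfies C_S(Q) = Z(Q) and |N_S(Q) : Q| = 2. -/
theorem result {S : Type*} [Group S] [Finite S] (hS : Cfsg.IsQuasiDihedral S) : (∀ Q₁ Q₂ : Subgroup S, Nonempty (Q₁ ≃* QuaternionGroup 2) → Nonempty (Q₂ ≃* QuaternionGroup 2) → ∃ s : S, Q₁.map (MulAut.conj s).toMonoidHom = Q₂) ∧ (∀ Q : Subgroup S, Nonempty (Q ≃* QuaternionGroup 2) → Subgroup.centralizer (Q : Set S) = (Subgroup.center Q).map Q.subtype ∧ Q.relIndex (Subgroup.normalizer (Q : Set S)) = 2) := by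
  obtain ⟨k, hcard, ⟨e⟩⟩ := exists_mulEquiv hS
  have hcl : ∀ Q : Subgroup S, Nonempty (Q ≃* QuaternionGroup 2) →
      ∃ i, par (2 ^ k) i = 1 ∧ Q.map e.symm.toMonoidHom = QD.gsub 4 QD.four_mul_hh i := by
    rintro Q ⟨φ⟩
    exact QD.quat_classify _ ((e.symm.subgroupMap Q).symm.trans φ)
  constructor
  · intro Q₁ Q₂ h₁ h₂
    obtain ⟨i₁, hi₁, hQ₁⟩ := hcl Q₁ h₁
    obtain ⟨i₂, hi₂, hQ₂⟩ := hcl Q₂ h₂
    apply exists_conj_of_map e.symm
    rw [hQ₁, hQ₂]
    exact QD.exists_conj_gsub _ _ _ _ (by rw [hi₁, hi₂])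
  · intro Q hQ
    obtain ⟨i, hi, hQi⟩ := hcl Q hQ
    constructor
    · rw [map_center_subtype]
      have hle : Subgroup.centralizer (Q : Set S) ≤ Q := by
        rw [← Subgroup.map_le_map_iff_of_injective (f := e.symm.toMonoidHom) e.symm.injective,
          map_centralizer_equiv, hQi]
        exact QD.centralizer_gsub_four i
      exact (inf_eq_right.mpr hle).symm
    · rw [← relIndex_normalizer_equiv e.symm, hQi, QD.relIndex_normalizer_gsub_four]

end Cfsg.Agent.S1191
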