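import Cfsg.Statements.S1192
import Cfsg.Agent.Lib.Helper86_QDModel
-- import your own Cfsg.Agent.* helpers here

set_option autoImplicit false
open Cfsg

namespace Cfsg.Agent.S1192

open Cfsg.Agent.Lib.Helper86_QuasiDihedral Cfsg.Agent.Lib.Helper86_Wreathed

/-- A quasi-dihedral group S of order 2^(n+1) has exactly three maximal subgroups; one is cyclic, one is isomorphic to the generalized quaternion group of order 2^n and one to the dihedral group of order 2^n. -/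
theorem result {S : Type*} [Group S] [Finite S] (hS : Cfsg.IsQuasiDihedral S) (n : ℕ) (hn : Nat.card S = 2 ^ (n + 1)) : ∃ M₁ M₂ M₃ : Subgroup S, IsCoatom M₁ ∧ IsCoatom M₂ ∧ IsCoatom M₃ ∧ M₁ ≠ M₂ ∧ M₁ ≠ M₃ ∧ M₂ ≠ M₃ ∧ (∀ M : Subgroup S, IsCoatom M → M = M₁ ∨ M = M₂ ∨ M = M₃) ∧ IsCyclic M₁ ∧ Nonempty (M₂ ≃* QuaternionGroup (2 ^ (n - 2))) ∧ Nonempty (M₃ ≃* DihedralGroup (2 ^ (n - 1))) := by
  obtain ⟨k, hcard, ⟨e⟩⟩ := exists_mulEquiv hS
  have hnk : n = k + 3 := by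
    have h := hcard.symm.trans hn
    have := Nat.pow_right_injective (le_refl 2) h
    omega
  subst hnk
  have hK : ∃ k', 2 ^ k = 2 ^ k' := ⟨k, rfl⟩
  have e4 : 2 ^ (k + 3 - 1) = 4 * 2 ^ k := by
    have : k + 3 - 1 = k + 2 := by omega
    rw [this]; ring
  have e2 : 2 ^ (k + 3 - 2) = 2 * 2 ^ k := by
    have : k + 3 - 2 = k + 1 := by omega
    rw [this]; ring
  rw [e4, e2]
  have hinj := map_injective_equiv e
  refine ⟨(Dk.rotSub (8 * 2 ^ k) (kap (2 ^ k))).map e.toMonoidHom,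
    (QD.quaSub (2 ^ k)).map e.toMonoidHom, (QD.dihSub (2 ^ k)).map e.toMonoidHom,
    ?_, ?_, ?_, ?_, ?_, ?_, ?_, ?_, ?_, ?_⟩
  · exact (isCoatom_map_equiv e _).mpr (isCoatom_of_index_two _ Dk.rotSub_index)
  · exact (isCoatom_map_equiv e _).mpr (isCoatom_of_index_two _ QD.quaSub_index)
  · exact (isCoatom_map_equiv e _).mpr (isCoatom_of_index_two _ QD.dihSub_index)
  · exact fun h => QD.rot_ne_qua (hinj h)
  · exact fun h => QD.rot_ne_dih (hinj h)
  · exact fun h => QD.dih_ne_qua (hinj h).symm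
  · intro M hM
    rw [← map_comap_equiv e M] at hM ⊢
    rw [isCoatom_map_equiv] at hM
    rcases QD.coatom_classify hK _ hM with h | h | h
    · left; rw [h]
    · right; right; rw [h]
    · right; left; rw [h]
  · exact isCyclic_map_equiv e _ Dk.rotSub_isCyclic
  · exact ⟨(e.subgroupMap (QD.quaSub (2 ^ k))).symm.trans (QD.quaSubEquiv (2 ^ k))⟩
  · exact ⟨(e.subgroupMap (QD.dihSub (2 ^ k))).symm.trans (QD.dihSubEquiv (2 ^ k))⟩

end Cfsg.Agent.S1192
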