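import Cfsg.Statements.S1193
import Cfsg.Agent.Lib.Helper86_QDModel
-- import your own Cfsg.Agent.* helpers here

set_option autoImplicit false
open Cfsg

namespace Cfsg.Agent.S1193

open Cfsg.Agent.Lib.Helper86_QuasiDihedral Cfsg.Agent.Lib.Helper86_Wreathed

/-- Let S be quasi-dihedral of order 2^(n+1). Then S' = Φ(S) is cyclic of order 2^(n-1), the centre of S has order 2, and the subgroup generated by the involutions of S is dihedral of order 2^n. -/
theorem result {S : Type*} [Group S] [Finite S] (hS : Cfsg.IsQuasiDihedral S) (n : ℕ) (hn : Nat.card S = 2 ^ (n + 1)) : commutator S = frattini S ∧ IsCyclic (commutator S) ∧ Nat.card (commutator S) = 2 ^ (n - 1) ∧ Nat.card (Subgroup.center S) = 2 ∧ Nonempty (↥(Subgroup.closure {x : S | orderOf x = 2}) ≃* DihedralGroup (2 ^ (n - 1))) := by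
  obtain ⟨k, hcard, ⟨e⟩⟩ := exists_mulEquiv hS
  have hnk : n = k + 3 := by
    have h := hcard.symm.trans hn
    have := Nat.pow_right_injective (le_refl 2) h
    omega
  subst hnk
  have hK : ∃ k', 2 ^ k = 2 ^ k' := ⟨k, rfl⟩
  have e4 : 2 ^ (k + 3 - 1) = 4 * 2 ^ k := by
    have : k + 3 - 1 = k + 2 := by omega
    rw [this]; ring
  rw [e4]
  have hcomm : commutator S = (QD.phiSub (2 ^ k)).map e.toMonoidHom := by
    rw [← map_commutator_equiv e, QD.commutator_eq]
  have hfrat : frattini S = (QD.phiSub (2 ^ k)).map e.toMonoidHom := by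
    rw [← map_frattini_equiv e, QD.frattini_eq hK]
  refine ⟨by rw [hcomm, hfrat], ?_, ?_, ?_, ?_⟩
  · rw [hcomm]
    exact isCyclic_map_equiv e _ QD.phiSub_isCyclic
  · rw [hcomm]
    exact (Nat.card_congr (e.subgroupMap (QD.phiSub (2 ^ k))).toEquiv).symm.trans QD.card_phiSub
  · rw [← Nat.card_congr (Subgroup.centerCongr e).toEquiv, QD.card_center]
  · rw [← map_closure_orderOf e 2, QD.closure_involutions]
    exact ⟨(e.subgroupMap (QD.dihSub (2 ^ k))).symm.trans (QD.dihSubEquiv (2 ^ k))⟩

end Cfsg.Agent.S1193
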