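import Cfsg.Statements.S1194
import Cfsg.Agent.Lib.Helper86_QDModel
-- import your own Cfsg.Agent.* helpers here

set_option autoImplicit false
open Cfsg

namespace Cfsg.Agent.S1194

open Cfsg.Agent.Lib.Helper86_QuasiDihedral Cfsg.Agent.Lib.Helper86_Wreathed

/-- In a quasi-dihedral 2-group S, every proper normal subgroup is either a maximal subgroup or a cyclic subgroup contained in the derived subgroup S'. -/
theorem result {S : Type*} [Group S] [Finite S] (hS : Cfsg.IsQuasiDihedral S) (N : Subgroup S) [N.Normal] (hN : N ≠ ⊤) : IsCoatom N ∨ (IsCyclic N ∧ N ≤ commutator S) := by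
  obtain ⟨k, hcard, ⟨e⟩⟩ := exists_mulEquiv hS
  have hK : ∃ k', 2 ^ k = 2 ^ k' := ⟨k, rfl⟩
  have hNmap : (N.comap e.toMonoidHom).map e.toMonoidHom = N := map_comap_equiv e N
  have hne : N.comap e.toMonoidHom ≠ ⊤ := by
    intro h
    rw [h] at hNmap
    apply hN
    rw [← hNmap, ← MonoidHom.range_eq_map, MonoidHom.range_eq_top.mpr e.surjective]
  rcases QD.normal_classify hK (N.comap e.toMonoidHom) hne with h | h
  · left
    rw [← hNmap, isCoatom_map_equiv]
    exact isCoatom_of_index_two _ h
  · right
    constructor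
    · rw [← hNmap]
      exact isCyclic_map_equiv e _ (QD.isCyclic_of_le_phiSub _ h)
    · rw [← hNmap, ← map_commutator_equiv e, QD.commutator_eq]
      exact Subgroup.map_mono h

end Cfsg.Agent.S1194
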