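import Cfsg.Statements.S1195
import Cfsg.Agent.Lib.Helper86_Wreathed

set_option autoImplicit false
open Cfsg

namespace Cfsg.Agent.S1195

open Cfsg.Agent.Lib.Helper86_Wreathed

/-- A wreathed 2-group has exactly three conjugacy classes of elements of order 2. -/
theorem result {S : Type*} [Group S] [Finite S] (hS : Cfsg.IsWreathed S) : Nat.card {C : ConjClasses S // ∃ t : S, orderOf t = 2 ∧ ConjClasses.mk t = C} = 3 := by
  obtain ⟨m, hm2, hcard, ⟨e⟩⟩ := exists_mulEquiv hS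
  obtain ⟨k, rfl⟩ : ∃ k, m = k + 1 := ⟨m - 1, by omega⟩
  have hN : 2 ^ (k + 1) = 2 * 2 ^ k := by ring
  have hM : 0 < 2 ^ k := by positivity
  have hN1 : 1 < 2 ^ (k + 1) := Nat.one_lt_two_pow (by omega)
  have ho : ∀ w : Wr (2 ^ (k + 1)), orderOf w = 2 → orderOf (e.symm w) = 2 := by
    intro w hw; rw [MulEquiv.orderOf_eq]; exact hw
  refine card_classes_eq_three (fun t : S => orderOf t = 2)
    (e.symm (Wr.a 0 ((2 ^ k : ℕ) : ZMod (2 ^ (k + 1)))))
    (e.symm (Wr.a ((2 ^ k : ℕ) : ZMod (2 ^ (k + 1))) ((2 ^ k : ℕ) : ZMod (2 ^ (k + 1)))))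
    (e.symm (Wr.b 0 0))
    (ho _ (Wr.orderOf_a_zero_half hN hM)) (ho _ (Wr.orderOf_a_half_half hN hM))
    (ho _ (by simpa using Wr.orderOf_b (N := 2 ^ (k + 1)) 0)) ?_ ?_ ?_ ?_
  · intro t ht
    have ht' : orderOf (e t) = 2 := by rw [MulEquiv.orderOf_eq]; exact ht
    rcases Wr.involution_classify hN hM (e t) ht' with h | h | h
    · left; rw [← isConj_mulEquiv_iff e]; simpa using h
    · right; left; rw [← isConj_mulEquiv_iff e]; simpa using h
    · right; right; rw [← isConj_mulEquiv_iff e]; simpa using h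
  · rw [isConj_mulEquiv_iff e.symm]
    exact Wr.not_isConj_half hN1 hN hM
  · rw [isConj_mulEquiv_iff e.symm]
    exact Wr.not_isConj_a_b _ _ _ _
  · rw [isConj_mulEquiv_iff e.symm]
    exact Wr.not_isConj_a_b _ _ _ _

end Cfsg.Agent.S1195
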