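import Cfsg.Statements.S1196
import Cfsg.Agent.Lib.Helper86_Wreathed

set_option autoImplicit false
open Cfsg

namespace Cfsg.Agent.S1196

open Cfsg.Agent.Lib.Helper86_Wreathed

/-- A wreathed 2-group S of order 2^(2n+1) has a unique commutative subgroup of order 2^(2n), and this subgroup is isomorphic to the direct product of two cyclic groups of order 2^n. -/
theorem result {S : Type*} [Group S] [Finite S] (hS : Cfsg.IsWreathed S) (n : ℕ) (hn : Nat.card S = 2 ^ (2 * n + 1)) : (∃! U : Subgroup S, IsMulCommutative U ∧ Nat.card U = 2 ^ (2 * n)) ∧ ∀ U : Subgroup S, IsMulCommutative U → Nat.card U = 2 ^ (2 * n) → Nonempty (U ≃* Multiplicative (ZMod (2 ^ n) × ZMod (2 ^ n))) := by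
  obtain ⟨m, hm2, hcard, ⟨e⟩⟩ := exists_mulEquiv hS
  have hmn : m = n := by
    have h := hcard.symm.trans hn
    have := Nat.pow_right_injective (le_refl 2) h
    omega
  subst hmn
  have hN : 2 < 2 ^ m := by
    calc 2 < 2 ^ 2 := by norm_num
      _ ≤ 2 ^ m := Nat.pow_le_pow_right (by norm_num) hm2
  have hpow : 2 ^ (2 * m) = (2 ^ m) ^ 2 := by rw [← pow_mul, mul_comm]
  -- key: the image of every commutative subgroup of that order is the base subgroup
  have key : ∀ U : Subgroup S, IsMulCommutative U → Nat.card U = 2 ^ (2 * m) →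
      U.map e.toMonoidHom = Wr.aSub (2 ^ m) := by
    intro U hU hUc
    apply Wr.abelian_eq_aSub hN
    · rintro _ ⟨g, hg, rfl⟩ _ ⟨h, hh, rfl⟩
      have := hU.is_comm.comm ⟨g, hg⟩ ⟨h, hh⟩
      have h2 : g * h = h * g := congrArg Subtype.val this
      show e g * e h = e h * e g
      rw [← map_mul, ← map_mul, h2]
    · rw [← hpow, ← hUc]
      exact (Nat.card_congr (e.subgroupMap U).toEquiv).symm
  have hback : ∀ U : Subgroup S, U.map e.toMonoidHom = Wr.aSub (2 ^ m) →
      U = (Wr.aSub (2 ^ m)).map e.symm.toMonoidHom := by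
    intro U hU
    rw [← hU, Subgroup.map_map]
    have : e.symm.toMonoidHom.comp e.toMonoidHom = MonoidHom.id S := by
      ext x; simp
    rw [this, Subgroup.map_id]
  refine ⟨⟨(Wr.aSub (2 ^ m)).map e.symm.toMonoidHom, ⟨?_, ?_⟩, ?_⟩, ?_⟩
  · refine ⟨⟨fun g h => ?_⟩⟩
    obtain ⟨g, g', hg', rfl⟩ := g
    obtain ⟨h, h', hh', rfl⟩ := h
    apply Subtype.ext
    show e.symm g' * e.symm h' = e.symm h' * e.symm g'
    rw [← map_mul, ← map_mul, Wr.aSub_comm g' h' hg' hh']
  · have := Nat.card_congr (e.symm.subgroupMap (Wr.aSub (2 ^ m))).toEquiv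
    rw [Wr.card_aSub, ← hpow] at this
    exact this.symm
  · intro U hU
    exact hback U (key U hU.1 hU.2)
  · intro U hU hUc
    exact ⟨((e.subgroupMap U).trans (MulEquiv.subgroupCongr (key U hU hUc))).trans
      (Wr.aSubEquiv (2 ^ m))⟩

end Cfsg.Agent.S1196
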