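import Cfsg.Statements.S1197
import Cfsg.Agent.Lib.Helper86_Wreathed
-- import your own Cfsg.Agent.* helpers here

set_option autoImplicit false
open Cfsg

namespace Cfsg.Agent.S1197

open Cfsg.Agent.Lib.Helper86_Wreathed

/-- the isomorphism of derived subgroups induced by a group isomorphism -/
noncomputable def commutatorCongr {G H : Type*} [Group G] [Group H] (e : G ≃* H) :
    commutator G ≃* commutator H :=
  (e.subgroupMap (commutator G)).trans (MulEquiv.subgroupCongr (by
    rw [commutator_def, commutator_def]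
    show Subgroup.map e.toMonoidHom ⁅(⊤ : Subgroup G), (⊤ : Subgroup G)⁆ = _
    rw [Subgroup.map_commutator, ← MonoidHom.range_eq_map, MonoidHom.range_eq_top.mpr e.surjective]))

/-- Let S be a wreathed 2-group of order 2^(2n+1). Then Z(S) is cyclic of order 2^n, the derived subgroup S' is cyclic of order 2^n, and S/Z(S) is isomorphic to the dihedral group of order 2^(n+1). -/
theorem result {S : Type*} [Group S] [Finite S] (hS : Cfsg.IsWreathed S) (n : ℕ) (hn : Nat.card S = 2 ^ (2 * n + 1)) : IsCyclic (Subgroup.center S) ∧ Nat.card (Subgroup.center S) = 2 ^ n ∧ IsCyclic (commutator S) ∧ Nat.card (commutator S) = 2 ^ n ∧ Nonempty (S ⧸ Subgroup.center S ≃* DihedralGroup (2 ^ n)) := by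
  obtain ⟨m, hm2, hcard, ⟨e⟩⟩ := exists_mulEquiv hS
  have hmn : m = n := by
    have h := hcard.symm.trans hn
    have := Nat.pow_right_injective (le_refl 2) h
    omega
  subst hmn
  have hN : 1 < 2 ^ m := Nat.one_lt_two_pow (by omega)
  have hZ := Wr.center_cyclic (N := 2 ^ m) hN
  have hD := Wr.commutator_cyclic (N := 2 ^ m)
  have eZ : Subgroup.center S ≃* Subgroup.center (Wr (2 ^ m)) := Subgroup.centerCongr e
  have eD : commutator S ≃* commutator (Wr (2 ^ m)) := commutatorCongr e
  refine ⟨(MulEquiv.isCyclic eZ).mpr hZ.1, ?_, (MulEquiv.isCyclic eD).mpr hD.1, ?_, ?_⟩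
  · rw [Nat.card_congr eZ.toEquiv, hZ.2]
  · rw [Nat.card_congr eD.toEquiv, hD.2]
  · refine ⟨(QuotientGroup.congr (Subgroup.center S) (Subgroup.center (Wr (2 ^ m))) e ?_).trans
      (Wr.quotientCenterEquiv hN)⟩
    ext g
    constructor
    · rintro ⟨s, hs, rfl⟩
      exact (Subgroup.centerCongr e ⟨s, hs⟩).2
    · intro hg
      refine ⟨e.symm g, ((Subgroup.centerCongr e).symm ⟨g, hg⟩).2, ?_⟩
      simp

end Cfsg.Agent.S1197
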