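import Cfsg.Statements.S1198
import Cfsg.Agent.Lib.Helper86_Wreathed

set_option autoImplicit false
open Cfsg

namespace Cfsg.Agent.S1198

open Cfsg.Agent.Lib.Helper86_Wreathed

theorem isKleinFour_map {G H : Type*} [Group G] [Group H] (e : G ≃* H) (T : Subgroup G)
    (hT : IsKleinFour T) : IsKleinFour (T.map e.toMonoidHom) := by
  have e' : T ≃* T.map e.toMonoidHom := e.subgroupMap T
  refine ⟨?_, ?_⟩
  · rw [← Nat.card_congr e'.toEquiv]; exact hT.card_four
  · rw [← Monoid.exponent_eq_of_mulEquiv e']; exact hT.exponent_two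

theorem map_symm_map {G H : Type*} [Group G] [Group H] (e : G ≃* H) (T : Subgroup G) :
    (T.map e.toMonoidHom).map e.symm.toMonoidHom = T := by
  rw [Subgroup.map_map]
  have : e.symm.toMonoidHom.comp e.toMonoidHom = MonoidHom.id G := by
    ext x; simp
  rw [this, Subgroup.map_id]

theorem map_map_symm {G H : Type*} [Group G] [Group H] (e : G ≃* H) (T : Subgroup H) :
    (T.map e.symm.toMonoidHom).map e.toMonoidHom = T := by
  rw [Subgroup.map_map]
  have : e.toMonoidHom.comp e.symm.toMonoidHom = MonoidHom.id H := by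
    ext x; simp
  rw [this, Subgroup.map_id]

/-- A wreathed 2-group S has a normal Klein four-subgroup T such that every Klein four-subgroup of S other than T is conjugate in S to any other such subgroup; in particular S has exactly two conjugacy classes of Klein four-subgroups. -/
theorem result {S : Type*} [Group S] [Finite S] (hS : Cfsg.IsWreathed S) : ∃ T : Subgroup S, IsKleinFour T ∧ T.Normal ∧ (∃ T₀ : Subgroup S, IsKleinFour T₀ ∧ T₀ ≠ T) ∧ ∀ T₁ T₂ : Subgroup S, IsKleinFour T₁ → IsKleinFour T₂ → T₁ ≠ T → T₂ ≠ T → ∃ s : S, T₁.map (MulAut.conj s).toMonoidHom = T₂ := by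
  obtain ⟨m, hm2, hcard, ⟨e⟩⟩ := exists_mulEquiv hS
  obtain ⟨k, rfl⟩ : ∃ k, m = k + 1 := ⟨m - 1, by omega⟩
  have hN : 2 ^ (k + 1) = 2 * 2 ^ k := by ring
  have hM : 0 < 2 ^ k := by positivity
  have hN1 : 1 < 2 ^ (k + 1) := Nat.one_lt_two_pow (by omega)
  refine ⟨(Wr.kleinSub hN).map e.symm.toMonoidHom, ?_, ?_, ?_, ?_⟩
  · exact isKleinFour_map e.symm _ (Wr.isKleinFour_kleinSub hN hM)
  · have := Wr.kleinSub_normal hN
    exact Subgroup.Normal.map this _ e.symm.surjective
  · refine ⟨(Wr.kSub hN 0).map e.symm.toMonoidHom,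
      isKleinFour_map e.symm _ (Wr.isKleinFour_kSub hN hM 0), ?_⟩
    intro h
    have := congrArg (Subgroup.map e.toMonoidHom) h
    rw [map_map_symm, map_map_symm] at this
    exact Wr.kSub_ne_kleinSub hN 0 this
  · intro T₁ T₂ h₁ h₂ hne₁ hne₂
    have hc : ∀ T : Subgroup S, IsKleinFour T → T ≠ (Wr.kleinSub hN).map e.symm.toMonoidHom →
        ∃ i, T.map e.toMonoidHom = Wr.kSub hN i := by
      intro T hT hne
      apply Wr.klein_classify hN1 hN hM _ (isKleinFour_map e T hT)
      intro h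
      apply hne
      rw [← h, map_symm_map]
    obtain ⟨i₁, hi₁⟩ := hc T₁ h₁ hne₁
    obtain ⟨i₂, hi₂⟩ := hc T₂ h₂ hne₂
    refine ⟨e.symm (Wr.a (i₂ - i₁) 0), ?_⟩
    apply Subgroup.map_injective (f := e.toMonoidHom) e.injective
    rw [hi₂, Subgroup.map_map]
    have hcomp : e.toMonoidHom.comp (MulAut.conj (e.symm (Wr.a (i₂ - i₁) 0))).toMonoidHom =
        (MulAut.conj (Wr.a (i₂ - i₁) 0)).toMonoidHom.comp e.toMonoidHom := by
      ext x
      simp [MulAut.conj_apply]
    rw [hcomp, ← Subgroup.map_map, hi₁, Wr.kSub_map_conj]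
    congr 1
    ring

end Cfsg.Agent.S1198
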