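import Cfsg.Statements.S1199
import Cfsg.Agent.Lib.Helper86_Wreathed

set_option autoImplicit false
open Cfsg

namespace Cfsg.Agent.S1199

open Cfsg.Agent.Lib.Helper86_Wreathed

theorem map_symm_map {G H : Type*} [Group G] [Group H] (e : G ≃* H) (T : Subgroup G) :
    (T.map e.toMonoidHom).map e.symm.toMonoidHom = T := by
  rw [Subgroup.map_map]
  have : e.symm.toMonoidHom.comp e.toMonoidHom = MonoidHom.id G := by
    ext x; simp
  rw [this, Subgroup.map_id]

/-- A wreathed 2-group S of order 2^(2n+1) has exactly one subgroup of order 2^(n+1) isomorphic to a generalized quaternion group, and that subgroup is normal in S. -/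
theorem result {S : Type*} [Group S] [Finite S] (hS : Cfsg.IsWreathed S) (n : ℕ) (hn : Nat.card S = 2 ^ (2 * n + 1)) : (∃! Y : Subgroup S, Nat.card Y = 2 ^ (n + 1) ∧ Nonempty (Y ≃* QuaternionGroup (2 ^ (n - 1)))) ∧ ∀ Y : Subgroup S, Nat.card Y = 2 ^ (n + 1) → Nonempty (Y ≃* QuaternionGroup (2 ^ (n - 1))) → Y.Normal := by
  obtain ⟨m, hm2, hcard, ⟨e₀⟩⟩ := exists_mulEquiv hS
  have hmn : m = n := by
    have h := hcard.symm.trans hn
    have := Nat.pow_right_injective (le_refl 2) h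
    omega
  subst hmn
  obtain ⟨k, rfl⟩ : ∃ k, m = k + 1 := ⟨m - 1, by omega⟩
  have hk1 : 1 ≤ k := by omega
  have hN : 2 ^ (k + 1) = 2 * 2 ^ k := by ring
  obtain ⟨e⟩ : Nonempty (S ≃* Wr (2 * 2 ^ k)) := by rw [← hN]; exact ⟨e₀⟩
  have hM2 : 2 ≤ 2 ^ k := by
    calc 2 = 2 ^ 1 := by norm_num
      _ ≤ 2 ^ k := Nat.pow_le_pow_right (by norm_num) hk1
  have hsub : k + 1 - 1 = k := by omega
  rw [hsub]
  have : NeZero (2 ^ k) := ⟨by positivity⟩
  have key : ∀ Y : Subgroup S, Nonempty (Y ≃* QuaternionGroup (2 ^ k)) →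
      Y.map e.toMonoidHom = Wr.quatSub (2 ^ k) := by
    rintro Y ⟨φ⟩
    exact Wr.eq_quatSub_of_mulEquiv hM2 _ ((e.subgroupMap Y).symm.trans φ)
  have hback : ∀ Y : Subgroup S, Y.map e.toMonoidHom = Wr.quatSub (2 ^ k) →
      Y = (Wr.quatSub (2 ^ k)).map e.symm.toMonoidHom := by
    intro Y hY
    rw [← hY, map_symm_map]
  refine ⟨⟨(Wr.quatSub (2 ^ k)).map e.symm.toMonoidHom, ⟨?_, ?_⟩, ?_⟩, ?_⟩
  · have := Nat.card_congr (e.symm.subgroupMap (Wr.quatSub (2 ^ k))).toEquiv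
    rw [Wr.card_quatSub] at this
    refine this.symm.trans ?_
    ring
  · exact ⟨(e.symm.subgroupMap (Wr.quatSub (2 ^ k))).symm.trans (Wr.quatSubEquiv (2 ^ k))⟩
  · intro Y hY
    exact hback Y (key Y hY.2)
  · intro Y _ hY
    rw [hback Y (key Y hY)]
    exact Subgroup.Normal.map inferInstance _ e.symm.surjective

end Cfsg.Agent.S1199
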