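import Cfsg.Statements.S1200
import Cfsg.Agent.Lib.Helper86_Wreathed
-- import your own Cfsg.Agent.* helpers here

set_option autoImplicit false
open Cfsg

namespace Cfsg.Agent.S1200

open Cfsg.Agent.Lib.Helper86_Wreathed

theorem map_closure_orderOf_two {G H : Type*} [Group G] [Group H] (e : G ≃* H) :
    (Subgroup.closure {x : G | orderOf x = 2}).map e.toMonoidHom =
      Subgroup.closure {t : H | orderOf t = 2} := by
  rw [MonoidHom.map_closure]
  congr 1
  ext t
  constructor
  · rintro ⟨x, hx, rfl⟩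
    show orderOf (e x) = 2
    rw [MulEquiv.orderOf_eq]; exact hx
  · intro ht
    refine ⟨e.symm t, ?_, by simp⟩
    show orderOf (e.symm t) = 2
    rw [MulEquiv.orderOf_eq]; exact ht

/-- Let S be a wreathed 2-group of order 2^(2n+1) and Ω the subgroup generated by its involutions. Then Ω has order 2^(n+2) and S/Ω is cyclic: some s ∈ S together with Ω generates S. -/
theorem result {S : Type*} [Group S] [Finite S] (hS : Cfsg.IsWreathed S) (n : ℕ) (hn : Nat.card S = 2 ^ (2 * n + 1)) : Nat.card (Subgroup.closure {x : S | orderOf x = 2}) = 2 ^ (n + 2) ∧ ∃ s : S, Subgroup.closure {x : S | orderOf x = 2} ⊔ Subgroup.zpowers s = ⊤ := by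
  obtain ⟨m, hm2, hcard, ⟨e⟩⟩ := exists_mulEquiv hS
  have hmn : m = n := by
    have h := hcard.symm.trans hn
    have := Nat.pow_right_injective (le_refl 2) h
    omega
  subst hmn
  obtain ⟨k, rfl⟩ : ∃ k, m = k + 1 := ⟨m - 1, by omega⟩
  have hN : 2 ^ (k + 1) = 2 * 2 ^ k := by ring
  have hM : 0 < 2 ^ k := by positivity
  have hmap := map_closure_orderOf_two e
  rw [Wr.omegaSub_eq_closure hN hM] at hmap
  constructor
  · rw [Nat.card_congr (e.subgroupMap (Subgroup.closure {x : S | orderOf x = 2})).toEquiv]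
    show Nat.card ((Subgroup.closure {x : S | orderOf x = 2}).map e.toMonoidHom) = _
    rw [hmap, Wr.card_omegaSub hN hM]
    ring
  · refine ⟨e.symm (Wr.a 1 0), ?_⟩
    apply Subgroup.map_injective (f := e.toMonoidHom) e.injective
    rw [Subgroup.map_sup, hmap, MonoidHom.map_zpowers]
    have : e.toMonoidHom (e.symm (Wr.a 1 0)) = Wr.a 1 0 := by simp
    rw [this, Wr.omegaSub_sup_zpowers, ← MonoidHom.range_eq_map, MonoidHom.range_eq_top.mpr e.surjective]

end Cfsg.Agent.S1200
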