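import Cfsg.Statements.S1201
import Cfsg.Agent.Lib.Helper86_Wreathed

set_option autoImplicit false
open Cfsg

namespace Cfsg.Agent.S1201

open Cfsg.Agent.Lib.Helper86_Wreathed

/-- If X is a non-commutative subgroup of a wreathed 2-group S, then Z(X) ≤ Z(S). -/
theorem result {S : Type*} [Group S] [Finite S] (hS : Cfsg.IsWreathed S) (X : Subgroup S) (hX : ¬ IsMulCommutative X) : (Subgroup.center X).map X.subtype ≤ Subgroup.center S := by
  obtain ⟨m, hm2, hcard, ⟨e⟩⟩ := exists_mulEquiv hS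
  have hN : 1 < 2 ^ m := Nat.one_lt_two_pow (by omega)
  rintro _ ⟨⟨u, huX⟩, hu, rfl⟩
  rw [SetLike.mem_coe, Subgroup.mem_center_iff] at hu
  -- X is not commutative: two non-commuting elements
  have hnc : ∃ g ∈ X, ∃ h ∈ X, g * h ≠ h * g := by
    by_contra hcon
    push Not at hcon
    exact hX ⟨⟨fun a b => Subtype.ext (hcon a.1 a.2 b.1 b.2)⟩⟩
  obtain ⟨g, hg, h, hh, hne⟩ := hnc
  have key : e u ∈ Subgroup.center (Wr (2 ^ m)) := by
    apply Wr.center_le_of_noncomm hN (X.map e.toMonoidHom)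
    · refine ⟨e g, ⟨g, hg, rfl⟩, e h, ⟨h, hh, rfl⟩, ?_⟩
      intro hc
      apply hne
      apply e.injective
      rw [map_mul, map_mul]; exact hc
    · exact ⟨u, huX, rfl⟩
    · rintro _ ⟨g', hg', rfl⟩
      have := hu ⟨g', hg'⟩
      have h2 : g' * u = u * g' := congrArg Subtype.val this
      show e g' * e u = e u * e g'
      rw [← map_mul, ← map_mul, h2]
  show u ∈ Subgroup.center S
  rw [Subgroup.mem_center_iff]
  intro g'
  apply e.injective
  rw [map_mul, map_mul]
  exact (Subgroup.mem_center_iff.mp key) (e g')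

end Cfsg.Agent.S1201
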