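import Cfsg.Statements.S1202
import Cfsg.Agent.Lib.Helper86_WrAbs
-- import your own Cfsg.Agent.* helpers here

set_option autoImplicit false
open Cfsg

namespace Cfsg.Agent.S1202

open Cfsg.Agent.Lib.Helper86_Wreathed Cfsg.Agent.Lib.Helper86_WrSub Cfsg.Agent.Lib.Helper86_WrAbs Cfsg.Agent.Lib.Helper86_QuasiDihedral

/-- Let S be a wreathed 2-group of order 2^(2n+1) and X a subgroup with C_S(X) ≤ X such that Aut(X) is not a 2-group. Then |N_S(X) : X| = 2, and either X is the commutative subgroup of order 2^(2n), or X = Q·Z(S) for some subgroup Q ≅ Q₈; in the latter case any two such subgroups are conjugate in S. -/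
theorem result {S : Type*} [Group S] [Finite S] (hS : Cfsg.IsWreathed S) (n : ℕ) (hn : Nat.card S = 2 ^ (2 * n + 1)) (X : Subgroup S) (hC : Subgroup.centralizer (X : Set S) ≤ X) (hA : ¬ IsPGroup 2 (MulAut X)) : X.relIndex (Subgroup.normalizer (X : Set S)) = 2 ∧ ((IsMulCommutative X ∧ Nat.card X = 2 ^ (2 * n)) ∨ ∃ Q : Subgroup S, Nonempty (Q ≃* QuaternionGroup 2) ∧ X = Q ⊔ Subgroup.center S) ∧ ∀ X' : Subgroup S, Subgroup.centralizer (X' : Set S) ≤ X' → ¬ IsPGroup 2 (MulAut X') → ¬ IsMulCommutative X → ¬ IsMulCommutative X' → ∃ s : S, X.map (MulAut.conj s).toMonoidHom = X' := by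
  classical
  obtain ⟨n', hn', hcard, ⟨e⟩⟩ := exists_mulEquiv hS
  have hnn : n' = n := by
    rw [hn] at hcard
    have := Nat.pow_right_injective (le_refl 2) hcard
    omega
  subst hnn
  obtain ⟨hN, hM, hpow⟩ := arith n' hn'
  set N := 2 ^ n' with hNdef
  set M := 2 ^ (n' - 2) with hMdef
  have hN1 : 1 < N := by omega
  have : NeZero N := ⟨by omega⟩
  -- the abelian maximal subgroup
  have haSub_idx : (Wr.aSub N).index = 2 := by
    have h1 := Subgroup.card_mul_index (Wr.aSub N)
    rw [Wr.card_aSub, Wr.card] at h1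
    have hpos : 0 < N ^ 2 := by positivity
    have : N ^ 2 * (Wr.aSub N).index = N ^ 2 * 2 := by rw [h1]; ring
    exact Nat.eq_of_mul_eq_mul_left hpos this
  have haSub_rel : (Wr.aSub N).relIndex (Subgroup.normalizer (Wr.aSub N : Set (Wr N))) = 2 := by
    have hn : (Wr.aSub N).Normal := Subgroup.normal_of_index_eq_two haSub_idx
    rw [Subgroup.normalizer_eq_top, Subgroup.relIndex_top_right, haSub_idx]
  have key := classify_abstract e hN hM hpow
  have hX := key X hC hA
  refine ⟨?_, ?_, ?_⟩
  · rw [← relIndex_normalizer_equiv e X]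
    rcases hX with h | ⟨k, h⟩
    · rw [h]; exact haSub_rel
    · rw [h, Wr.normalizer_vSub]; exact Wr.relIndex_vSub_wSub hN hM k
  · rcases hX with h | ⟨k, h⟩
    · left
      have e' : X ≃* Wr.aSub N := (e.subgroupMap X).trans (MulEquiv.subgroupCongr h)
      refine ⟨?_, ?_⟩
      · apply IsMulCommutative.of_setLike_mul_comm
        intro x hx y hy
        have h1 : e x ∈ Wr.aSub N := by rw [← h]; exact ⟨x, hx, rfl⟩
        have h2 : e y ∈ Wr.aSub N := by rw [← h]; exact ⟨y, hy, rfl⟩
        have := Wr.aSub_comm _ _ h1 h2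
        rw [← map_mul, ← map_mul] at this
        exact e.injective this
      · rw [Nat.card_congr e'.toEquiv, Wr.card_aSub, hNdef, ← pow_mul, mul_comm]
    · right
      set R := (Wr.q8Hom hN k).range with hR
      refine ⟨R.map e.symm.toMonoidHom, ⟨?_⟩, ?_⟩
      · exact ((e.symm.subgroupMap R).symm).trans
          (MonoidHom.ofInjective (Wr.q8Hom_injective hN hM k)).symm
      · apply Subgroup.map_injective (f := e.toMonoidHom) e.injective
        rw [h, Subgroup.map_sup, map_center_equiv, Subgroup.map_map]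
        have : e.toMonoidHom.comp e.symm.toMonoidHom = MonoidHom.id _ := by
          ext x; simp
        rw [this, Subgroup.map_id]
        exact Wr.vSub_eq_sup hN hM k
  · intro X' hC' hA' hnc hnc'
    have hX' := key X' hC' hA'
    have hcommA : ∀ Y : Subgroup S, Y.map e.toMonoidHom = Wr.aSub N → IsMulCommutative Y := by
      intro Y h
      apply IsMulCommutative.of_setLike_mul_comm
      intro x hx y hy
      have h1 : e x ∈ Wr.aSub N := by rw [← h]; exact ⟨x, hx, rfl⟩
      have h2 : e y ∈ Wr.aSub N := by rw [← h]; exact ⟨y, hy, rfl⟩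
      have := Wr.aSub_comm _ _ h1 h2
      rw [← map_mul, ← map_mul] at this
      exact e.injective this
    rcases hX with h | ⟨k, h⟩
    · exact absurd (hcommA X h) hnc
    rcases hX' with h' | ⟨k', h'⟩
    · exact absurd (hcommA X' h') hnc'
    apply exists_conj_of_map e
    refine ⟨Wr.a (k' - k) 0, ?_⟩
    rw [h, h', Wr.vSub_map_conj]
    congr 1; ring

end Cfsg.Agent.S1202
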