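import Cfsg.Statements.S1209
import Cfsg.Agent.Lib.Helper86_WrG6
-- import your own Cfsg.Agent.* helpers here

set_option autoImplicit false
open Cfsg

namespace Cfsg.Agent.S1209

open Cfsg.Agent.Lib.Helper86_Wreathed Cfsg.Agent.Lib.Helper86_WrG Cfsg.Agent.Lib.Helper86_FusionControl

/-- Let G be a finite group whose Sylow 2-subgroup S is wreathed of order 2^(2n+1), U the commutative subgroup of index 2 in S, Q a quaternion subgroup of order 8 of S and V = Q Z(S). If |N_G(U) : C_G(U)| = 6 and |N_G(V) : V C_G(V)| = 6, then G has no subgroup of index 2 and exactly one conjugacy class of involutions. -/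
theorem result {G : Type*} [Group G] [Finite G] (S : Sylow 2 G) (hS : Cfsg.IsWreathed (S : Subgroup G)) (n : ℕ) (hn : Nat.card S = 2 ^ (2 * n + 1)) (U : Subgroup G) (hUS : U ≤ S) (hUab : IsMulCommutative U) (hUcard : Nat.card U = 2 ^ (2 * n)) (Q : Subgroup G) (hQS : Q ≤ S) (eQ : Q ≃* QuaternionGroup 2) (h₁ : (Subgroup.centralizer (U : Set G)).relIndex (Subgroup.normalizer (U : Set G)) = 6) (h₂ : ((Q ⊔ ((Subgroup.center (S : Subgroup G)).map (S : Subgroup G).subtype)) ⊔ Subgroup.centralizer ((Q ⊔ ((Subgroup.center (S : Subgroup G)).map (S : Subgroup G).subtype) : Subgroup G) : Set G)).relIndex (Subgroup.normalizer ((Q ⊔ ((Subgroup.center (S : Subgroup G)).map (S : Subgroup G).subtype) : Subgroup G) : Set G)) = 6) : (∀ H : Subgroup G, H.index ≠ 2) ∧ Nat.card {C : ConjClasses G // ∃ t : G, orderOf t = 2 ∧ ConjClasses.mk t = C} = 1 := by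
  obtain ⟨-, W, rfl⟩ := exists_wrSylow S hS n hn
  have hp2 : Fact (Nat.Prime 2) := ⟨Nat.prime_two⟩
  have hU : U = W.U := W.eq_U_of_abelian n rfl U hUS hUab hUcard
  subst hU
  obtain ⟨k₀, hk₀⟩ := W.exists_V_of_quat Q hQS eQ
  rw [W.center_map_eq_Z, hk₀] at h₂
  obtain ⟨g, hgN, -, hc1, hc2, hcomm⟩ := W.exists_of_relIndex_U_six h₁
  obtain ⟨g', hg'N, hd⟩ := W.exists_of_relIndex_V_six k₀ h₂
  have hdV : g' * W.u1 * g'⁻¹ ∈ W.V k₀ :=
    ((Subgroup.mem_normalizer_iff.mp hg'N) W.u1).mp (W.u1_mem_V k₀)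
  have hdS : g' * W.u1 * g'⁻¹ ∈ (W.S : Subgroup G) := W.V_le k₀ hdV
  have hdord : orderOf (g' * W.u1 * g'⁻¹) = 2 := by
    have : g' * W.u1 * g'⁻¹ = MulAut.conj g' W.u1 := rfl
    rw [this, MulEquiv.orderOf_eq]; exact W.orderOf_u1
  have hdt0 : IsConj (g' * W.u1 * g'⁻¹) W.t0 := W.isConj_t0_of_not_mem_U hdS hd hdord
  have hu1d : IsConj W.u1 (g' * W.u1 * g'⁻¹) := isConj_iff.mpr ⟨g', rfl⟩
  constructor
  · intro H hH
    have hHn : H.Normal := Subgroup.normal_of_index_eq_two hH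
    have hUH : W.U ≤ H := by
      intro x hx
      obtain ⟨y, -, rfl⟩ := hcomm x hx
      exact commutator_mem_of_index_two H hH y g
    have hdH : g' * W.u1 * g'⁻¹ ∈ H := hHn.conj_mem _ (hUH W.u1_mem_U) g'
    have hSH : (W.S : Subgroup G) ≤ H := by
      intro s hs
      by_cases hsU : s ∈ W.U
      · exact hUH hsU
      · have := W.inv_mul_mem_U hdS hs hd hsU
        have h2 := H.mul_mem hdH (hUH this)
        rwa [mul_inv_cancel_left] at h2
    have h1 := Subgroup.index_dvd_of_le hSH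
    rw [hH] at h1
    exact W.S.not_dvd_index h1
  · apply card_classes_eq_one (fun t => orderOf t = 2) W.z1 W.orderOf_z1
    intro t ht
    rcases W.involution_rep t ht with h | h | h
    · exact h.trans hc2.symm
    · exact h
    · exact h.trans (hdt0.symm.trans (hu1d.symm.trans hc1.symm))

end Cfsg.Agent.S1209
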