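import Cfsg.Statements.S1210
import Cfsg.Agent.Lib.Helper86_WrG10
-- import your own Cfsg.Agent.* helpers here

set_option autoImplicit false
open Cfsg

namespace Cfsg.Agent.S1210

open Cfsg.Agent.Lib.Helper86_Wreathed Cfsg.Agent.Lib.Helper86_WrG Cfsg.Agent.Lib.Helper86_FusionControl

/-- Let G be a finite group whose Sylow 2-subgroup S is wreathed of order 2^(2n+1), U the commutative subgroup of index 2 in S, Q a quaternion subgroup of order 8 of S and V = Q Z(S). If |N_G(U) : C_G(U)| = 2 and |N_G(V) : V C_G(V)| = 6, then G has a normal subgroup K of index 2^n whose Sylow 2-subgroups are generalized quaternion and which has no subgroup of index 2; every subgroup of Z(S) is weakly closed in S; and G has exactly two classes of involutions. -/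
theorem result {G : Type*} [Group G] [Finite G] (S : Sylow 2 G) (hS : Cfsg.IsWreathed (S : Subgroup G)) (n : ℕ) (hn : Nat.card S = 2 ^ (2 * n + 1)) (U : Subgroup G) (hUS : U ≤ S) (hUab : IsMulCommutative U) (hUcard : Nat.card U = 2 ^ (2 * n)) (Q : Subgroup G) (hQS : Q ≤ S) (eQ : Q ≃* QuaternionGroup 2) (h₁ : (Subgroup.centralizer (U : Set G)).relIndex (Subgroup.normalizer (U : Set G)) = 2) (h₂ : ((Q ⊔ ((Subgroup.center (S : Subgroup G)).map (S : Subgroup G).subtype)) ⊔ Subgroup.centralizer ((Q ⊔ ((Subgroup.center (S : Subgroup G)).map (S : Subgroup G).subtype) : Subgroup G) : Set G)).relIndex (Subgroup.normalizer ((Q ⊔ ((Subgroup.center (S : Subgroup G)).map (S : Subgroup G).subtype) : Subgroup G) : Set G)) = 6) : (∃ K : Subgroup G, K.Normal ∧ K.index = 2 ^ n ∧ (∀ P : Sylow 2 ↥K, ∃ m : ℕ, 1 ≤ m ∧ Nonempty ((P : Subgroup ↥K) ≃* QuaternionGroup (2 ^ m))) ∧ (∀ H : Subgroup ↥K, H.index ≠ 2)) ∧ (∀ Z₀ : Subgroup G, Z₀ ≤ ((Subgroup.center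 (S : Subgroup G)).map (S : Subgroup G).subtype) → Cfsg.IsWeaklyClosed Z₀ (S : Subgroup G)) ∧ Nat.card {C : ConjClasses G // ∃ t : G, orderOf t = 2 ∧ ConjClasses.mk t = C} = 2 := by
  obtain ⟨hn2, -⟩ := exists_wrSylow S hS n hn
  have hp2 : Fact (Nat.Prime 2) := ⟨Nat.prime_two⟩
  have hpow : 2 * 2 ^ (n - 1) = 2 ^ n := by
    rw [← pow_succ']; congr 1; omega
  obtain ⟨W, rfl⟩ := exists_wrSylow' S hS n hn (2 * 2 ^ (n - 1)) hpow
  have hU : U = W.U := W.eq_U_of_abelian n hpow U hUS hUab hUcard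
  subst hU
  obtain ⟨k₀, hk₀⟩ := W.exists_V_of_quat Q hQS eQ
  rw [W.center_map_eq_Z, hk₀] at h₂
  rw [W.center_map_eq_Z]
  have hactU := W.acts_U_of_relIndex_two h₁
  refine ⟨⟨W.tau.ker, MonoidHom.normal_ker _, ?_, ?_, ?_⟩, ?_, ?_⟩
  · rw [W.index_ker_tau hactU, hpow]
  · intro P
    exact ⟨n - 1, by omega, W.sylow_ker_tau hactU P⟩
  · exact W.no_index_two_ker_tau hactU k₀ h₂
  · intro Z₀ hZ₀
    exact W.isWeaklyClosed_of_fusion_Z (W.fusion_Z hactU) Z₀ hZ₀
  · obtain ⟨g', hg'N, hd⟩ := W.exists_of_relIndex_V_six k₀ h₂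
    have hdV : g' * W.u1 * g'⁻¹ ∈ W.V k₀ :=
      ((Subgroup.mem_normalizer_iff.mp hg'N) W.u1).mp (W.u1_mem_V k₀)
    have hdS : g' * W.u1 * g'⁻¹ ∈ (W.S : Subgroup G) := W.V_le k₀ hdV
    have hdord : orderOf (g' * W.u1 * g'⁻¹) = 2 := by
      have : g' * W.u1 * g'⁻¹ = MulAut.conj g' W.u1 := rfl
      rw [this, MulEquiv.orderOf_eq]; exact W.orderOf_u1
    have hdt0 : IsConj (g' * W.u1 * g'⁻¹) W.t0 := W.isConj_t0_of_not_mem_U hdS hd hdord
    have hu1d : IsConj W.u1 (g' * W.u1 * g'⁻¹) := isConj_iff.mpr ⟨g', rfl⟩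
    apply card_classes_eq_two (fun t => orderOf t = 2) W.z1 W.t0 W.orderOf_z1 W.orderOf_t0
    · intro t ht
      rcases W.involution_rep t ht with h | h | h
      · right; exact h.trans (W.isConj_u1_u2.symm.trans (hu1d.trans hdt0))
      · left; exact h
      · right; exact h
    · intro h
      obtain ⟨c, hc⟩ := isConj_iff.mp h
      have h3 := W.fusion_Z hactU W.z1 (W.Z_le W.z1_mem_Z) c (by rw [hc]; exact W.t0_mem_S)
        (Or.inl W.z1_mem_Z)
      rw [hc] at h3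
      exact W.t0_not_mem_U (h3 ▸ W.z1_mem_U)

end Cfsg.Agent.S1210
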