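import Cfsg.Statements.S1211
import Cfsg.Agent.Lib.Helper86_WrG7
-- import your own Cfsg.Agent.* helpers here

set_option autoImplicit false
open Cfsg

namespace Cfsg.Agent.S1211

open Cfsg.Agent.Lib.Helper86_Wreathed Cfsg.Agent.Lib.Helper86_WrG Cfsg.Agent.Lib.Helper86_FusionControl

/-- Let G be a finite group whose Sylow 2-subgroup S is wreathed of order 2^(2n+1), U the commutative subgroup of index 2 in S, Q a quaternion subgroup of order 8 of S and V = Q Z(S). If |N_G(U) : C_G(U)| = 6 and |N_G(V) : V C_G(V)| = 2, then G has a normal subgroup K of index 2 containing U (so U is a Sylow 2-subgroup of K) which has no subgroup of index 2, and G has exactly two classes of involutions. -/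
theorem result {G : Type*} [Group G] [Finite G] (S : Sylow 2 G) (hS : Cfsg.IsWreathed (S : Subgroup G)) (n : ℕ) (hn : Nat.card S = 2 ^ (2 * n + 1)) (U : Subgroup G) (hUS : U ≤ S) (hUab : IsMulCommutative U) (hUcard : Nat.card U = 2 ^ (2 * n)) (Q : Subgroup G) (hQS : Q ≤ S) (eQ : Q ≃* QuaternionGroup 2) (h₁ : (Subgroup.centralizer (U : Set G)).relIndex (Subgroup.normalizer (U : Set G)) = 6) (h₂ : ((Q ⊔ ((Subgroup.center (S : Subgroup G)).map (S : Subgroup G).subtype)) ⊔ Subgroup.centralizer ((Q ⊔ ((Subgroup.center (S : Subgroup G)).map (S : Subgroup G).subtype) : Subgroup G) : Set G)).relIndex (Subgroup.normalizer ((Q ⊔ ((Subgroup.center (S : Subgroup G)).map (S : Subgroup G).subtype) : Subgroup G) : Set G)) = 2) : (∃ K : Subgroup G, K.Normal ∧ K.index = 2 ∧ U ≤ K ∧ (∀ H : Subgroup ↥K, H.index ≠ 2)) ∧ Nat.card {C : ConjClasses G // ∃ t : G, orderOf t = 2 ∧ ConjClasses.mk t = C} = 2 := by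
  obtain ⟨-, W, rfl⟩ := exists_wrSylow S hS n hn
  have hp2 : Fact (Nat.Prime 2) := ⟨Nat.prime_two⟩
  have hU : U = W.U := W.eq_U_of_abelian n rfl U hUS hUab hUcard
  subst hU
  obtain ⟨k₀, hk₀⟩ := W.exists_V_of_quat Q hQS eQ
  rw [W.center_map_eq_Z, hk₀] at h₂
  have hV := W.acts_V_of_relIndex_two k₀ h₂
  obtain ⟨g, hgN, hgodd, hc1, hc2, hcomm⟩ := W.exists_of_relIndex_U_six h₁
  obtain ⟨K, hKn, hKi, htK⟩ := W.exists_normal_index_two hV
  have hUK : W.U ≤ K := by
    intro x hx
    obtain ⟨y, -, rfl⟩ := hcomm x hx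
    exact commutator_mem_of_index_two K hKi y g
  have hgK : g ∈ K := mem_of_odd_order_of_index_two K hKi g hgodd
  refine ⟨⟨K, hKn, hKi, hUK, ?_⟩, ?_⟩
  · intro H hH
    have hUH : W.U ≤ H.map K.subtype := by
      intro x hx
      obtain ⟨y, hy, rfl⟩ := hcomm x hx
      have := commutator_mem_of_index_two H hH ⟨y, hUK hy⟩ ⟨g, hgK⟩
      exact ⟨_, this, rfl⟩
    have h4 : (H.map K.subtype).index = 4 := by rw [Subgroup.index_map_subtype, hH, hKi]
    have h5 := Subgroup.index_dvd_of_le hUH
    have h6 : W.U.index = 2 * (W.S : Subgroup G).index := by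
      rw [← Subgroup.relIndex_mul_index W.U_le, W.relIndex_U_S]
    rw [h4, h6] at h5
    have : 2 ∣ (W.S : Subgroup G).index := by omega
    exact W.S.not_dvd_index this
  · apply card_classes_eq_two (fun t => orderOf t = 2) W.z1 W.t0 W.orderOf_z1 W.orderOf_t0
    · intro t ht
      rcases W.involution_rep t ht with h | h | h
      · left; exact h.trans hc2.symm
      · left; exact h
      · right; exact h
    · intro h
      rw [isConj_iff] at h
      obtain ⟨c, hc⟩ := h
      have := W.fusion_U hV W.z1 (W.U_le W.z1_mem_U) c (by rw [hc]; exact W.t0_mem_S)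
      rw [hc] at this
      exact W.t0_not_mem_U (this.mp W.z1_mem_U)

end Cfsg.Agent.S1211
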