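import Cfsg.Statements.S1212
import Cfsg.Agent.Lib.Helper86_WrG3
-- import your own Cfsg.Agent.* helpers here

set_option autoImplicit false
open Cfsg

namespace Cfsg.Agent.S1212

open Cfsg.Agent.Lib.Helper86_Wreathed Cfsg.Agent.Lib.Helper86_WrG Cfsg.Agent.Lib.Helper86_FusionControl

/-- Let G be a finite group whose Sylow 2-subgroup S is wreathed of order 2^(2n+1), U the commutative subgroup of index 2 in S, Q a quaternion subgroup of order 8 of S and V = Q Z(S). If |N_G(U) : C_G(U)| = 2 and |N_G(V) : V C_G(V)| = 2, then G has a normal 2-complement and exactly three conjugacy classes of involutions. -/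
theorem result {G : Type*} [Group G] [Finite G] (S : Sylow 2 G) (hS : Cfsg.IsWreathed (S : Subgroup G)) (n : ℕ) (hn : Nat.card S = 2 ^ (2 * n + 1)) (U : Subgroup G) (hUS : U ≤ S) (hUab : IsMulCommutative U) (hUcard : Nat.card U = 2 ^ (2 * n)) (Q : Subgroup G) (hQS : Q ≤ S) (eQ : Q ≃* QuaternionGroup 2) (h₁ : (Subgroup.centralizer (U : Set G)).relIndex (Subgroup.normalizer (U : Set G)) = 2) (h₂ : ((Q ⊔ ((Subgroup.center (S : Subgroup G)).map (S : Subgroup G).subtype)) ⊔ Subgroup.centralizer ((Q ⊔ ((Subgroup.center (S : Subgroup G)).map (S : Subgroup G).subtype) : Subgroup G) : Set G)).relIndex (Subgroup.normalizer ((Q ⊔ ((Subgroup.center (S : Subgroup G)).map (S : Subgroup G).subtype) : Subgroup G) : Set G)) = 2) : Cfsg.HasNormalPComplement 2 G ∧ Nat.card {C : ConjClasses G // ∃ t : G, orderOf t = 2 ∧ ConjClasses.mk t = C} = 3 := by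
  obtain ⟨-, W, rfl⟩ := exists_wrSylow S hS n hn
  have hU : U = W.U := W.eq_U_of_abelian n rfl U hUS hUab hUcard
  subst hU
  obtain ⟨k₀, hk₀⟩ := W.exists_V_of_quat Q hQS eQ
  rw [W.center_map_eq_Z, hk₀] at h₂
  have hmaps := W.control_maps (W.acts_U_of_relIndex_two h₁) (W.acts_V_of_relIndex_two k₀ h₂)
  have hN1 := W.one_lt
  have hM2 : 0 < 2 * 2 ^ (n - 2) := by positivity
  constructor
  · exact hasNormalPComplement_of_control W.S hmaps
  · apply card_classes_eq_three (fun t => orderOf t = 2) W.u2 W.z1 W.t0 W.orderOf_u2 W.orderOf_z1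
      W.orderOf_t0 W.involution_rep
    · intro h
      have h1 := W.isConj_of_control hmaps h
      rw [← WrSylow.cast_two_M] at h1
      exact Wr.not_isConj_half hN1 W.hN2 hM2 h1
    · intro h
      exact Wr.not_isConj_a_b _ _ _ _ (W.isConj_of_control hmaps h)
    · intro h
      exact Wr.not_isConj_a_b _ _ _ _ (W.isConj_of_control hmaps h)

end Cfsg.Agent.S1212
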