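import Cfsg.Statements.S1214
import Cfsg.Agent.Lib.Helper86_QDWrSimple
-- import your own Cfsg.Agent.* helpers here

set_option autoImplicit false
open Cfsg

namespace Cfsg.Agent.S1214

open Cfsg.Agent.Lib.Helper86_QDWrSimple Cfsg.Agent.Lib.Helper86_QDWrRank

/-- Let G be a finite group with quasi-dihedral or wreathed Sylow 2-subgroups and no subgroup of index 2. Then G/O(G), the quotient by the largest normal subgroup of odd order, has a normal subgroup of odd index which is a non-abelian simple group. -/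
theorem result {G : Type*} [Group G] [Finite G] (S : Sylow 2 G) (hS : Cfsg.IsQuasiDihedral (S : Subgroup G) ∨ Cfsg.IsWreathed (S : Subgroup G)) (hG : ∀ H : Subgroup G, H.index ≠ 2) : ∃ L : Subgroup (G ⧸ Cfsg.oddCore G), L.Normal ∧ Odd L.index ∧ IsSimpleGroup L ∧ ¬ IsMulCommutative L := by
  rcases hS with hS | hS
  · obtain ⟨k, -, ⟨e⟩⟩ := Cfsg.Agent.Lib.Helper86_QuasiDihedral.exists_mulEquiv hS
    set ι : Cfsg.Agent.Lib.Helper86_QuasiDihedral.QD (2 ^ k) →* G :=
      (S : Subgroup G).subtype.comp e.toMonoidHom with hι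
    have hinj : Function.Injective ι := (Subgroup.subtype_injective _).comp e.injective
    have hrange : ι.range = (S : Subgroup G) := by
      rw [hι, MonoidHom.range_comp, MonoidHom.range_eq_top.mpr e.surjective,
        ← MonoidHom.range_eq_map, Subgroup.range_subtype]
    apply main_of_sylow S hG
    · intro s t hs ht
      exact (Cfsg.Agent.Lib.Helper86_QDCentralizer.isConj_z_of_involution e hG s hs).trans
        (Cfsg.Agent.Lib.Helper86_QDCentralizer.isConj_z_of_involution e hG t ht).symm
    · have := rankTwo_transfer ι hinj qd_rankTwo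
      rw [hrange] at this
      exact this
    · obtain ⟨p, q, hp, hq, h⟩ := nonComm_transfer ι hinj qd_nonComm
      rw [hrange] at hp hq
      exact ⟨p, q, hp, hq, h⟩
    · refine ⟨ι (Cfsg.Agent.Lib.Helper86_QuasiDihedral.Dk.r 1), ?_⟩
      have := cycMod_transfer ι hinj _ qd_cycMod
      rw [hrange] at this
      exact this
  · have hS' := hS
    obtain ⟨n, hn2, hcard, -⟩ := hS'
    have hcard' : Nat.card S = 2 ^ (2 * n + 1) := hcard
    have hpow : 2 * 2 ^ (n - 1) = 2 ^ n := by
      rw [← pow_succ']; congr 1; omega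
    obtain ⟨W, hW⟩ := Cfsg.Agent.Lib.Helper86_WrG.exists_wrSylow' S hS n hcard'
      (2 * 2 ^ (n - 1)) hpow
    subst hW
    have h₁ := Cfsg.Agent.Lib.Helper86_WrG.WrSylow.relIndex_U_six_of_no_index_two W hG
    have h₂ := Cfsg.Agent.Lib.Helper86_WrG.WrSylow.relIndex_V_six_of_no_index_two W hG 0
    have hM : 0 < 2 ^ (n - 1) := Nat.pos_of_ne_zero (by positivity)
    apply main_of_sylow W.S hG
    · intro s t hs ht
      exact (Cfsg.Agent.Lib.Helper86_WrG.WrSylow.isConj_z1_of_involution W h₁ 0 h₂ s hs).trans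
        (Cfsg.Agent.Lib.Helper86_WrG.WrSylow.isConj_z1_of_involution W h₁ 0 h₂ t ht).symm
    · have := rankTwo_transfer W.ι W.inj (wr_rankTwo rfl hM)
      rw [W.range_eq] at this
      exact this
    · obtain ⟨p, q, hp, hq, h⟩ := nonComm_transfer W.ι W.inj (wr_nonComm rfl hM)
      rw [W.range_eq] at hp hq
      exact ⟨p, q, hp, hq, h⟩
    · refine ⟨W.ι (Cfsg.Agent.Lib.Helper86_Wreathed.Wr.a 1 0), ?_⟩
      have := cycMod_transfer W.ι W.inj _ (wr_cycMod rfl hM)
      rw [W.range_eq] at this
      exact this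

end Cfsg.Agent.S1214
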