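import Cfsg.Statements.S1218
import Cfsg.Agent.S1217
import Cfsg.Agent.Lib.Helper46_GU2

set_option autoImplicit false
open scoped MatrixGroups
open Cfsg

namespace Cfsg.Agent.S1218

open Cfsg.Agent.S1217 Cfsg.Agent.Lib.Helper46_GU2

section generic
variable {G : Type*} [Group G]

theorem wreathed_of_sylow [Finite G] (P : Sylow 2 G) (n : ℕ) (hn : 2 ≤ n)
    (hcard : Nat.card (P : Subgroup G) = 2 ^ (2 * n + 1)) (x y z : G) (hx : orderOf x = 2 ^ n)
    (hxy : x * y = y * x) (hint : Subgroup.zpowers x ⊓ Subgroup.zpowers y = ⊥)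
    (hz : orderOf z = 2) (hzx : z * x * z⁻¹ = y) : Cfsg.IsWreathed (P : Subgroup G) := by
  have hzz : z * z = 1 := by rw [← pow_two, ← hz]; exact pow_orderOf_eq_one z
  have hinv : z⁻¹ = z := inv_eq_of_mul_eq_one_right hzz
  have hy : orderOf y = 2 ^ n := by
    rw [← hzx, ← hx]
    exact orderOf_injective (MulAut.conj z).toMonoidHom (MulAut.conj z).injective x
  have hzy : z * y * z⁻¹ = x := by
    rw [← hzx, hinv]
    calc z * (z * x * z) * z = (z * z) * x * (z * z) := by group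
      _ = x := by rw [hzz]; simp
  have hxn : x ∈ Subgroup.normalizer ((Subgroup.zpowers y : Subgroup G) : Set G) := by
    apply mem_normalizer_of_map
    rw [map_conj_zpowers, hxy, mul_inv_cancel_right]
  have hA : IsPGroup 2 (Subgroup.zpowers x ⊔ Subgroup.zpowers y : Subgroup G) := by
    apply IsPGroup.to_sup_of_normal_right' (isPGroup_zpowers x n hx) (isPGroup_zpowers y n hy)
    rw [Subgroup.zpowers_le]
    exact hxn
  have hzn : z ∈ Subgroup.normalizer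
      ((Subgroup.zpowers x ⊔ Subgroup.zpowers y : Subgroup G) : Set G) := by
    apply mem_normalizer_of_map
    rw [Subgroup.map_sup, map_conj_zpowers, map_conj_zpowers, hzx, hzy, sup_comm]
  have hW : IsPGroup 2 (Subgroup.zpowers z ⊔
      (Subgroup.zpowers x ⊔ Subgroup.zpowers y) : Subgroup G) := by
    apply IsPGroup.to_sup_of_normal_right' (isPGroup_zpowers z 1 (by simpa using hz)) hA
    rw [Subgroup.zpowers_le]
    exact hzn
  obtain ⟨φ, hφ⟩ := exists_embedding 2 _ hW P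
  exact isWreathed_of' _ φ hφ n hn hcard x y z
    (le_sup_right (α := Subgroup G) (le_sup_left (α := Subgroup G) (Subgroup.mem_zpowers x)))
    (le_sup_right (α := Subgroup G) (le_sup_right (α := Subgroup G) (Subgroup.mem_zpowers y)))
    (le_sup_left (α := Subgroup G) (Subgroup.mem_zpowers z))
    hx hxy hint hz hzx

theorem quasiDihedral_of_sylow [Finite G] (P : Sylow 2 G) (n : ℕ) (hn : 3 ≤ n)
    (hcard : Nat.card (P : Subgroup G) = 2 ^ (n + 1)) (x y : G) (hx : orderOf x = 2 ^ n)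
    (hy : orderOf y = 2) (hyx : y * x * y⁻¹ = x ^ (2 ^ (n - 1) - 1)) :
    Cfsg.IsQuasiDihedral (P : Subgroup G) := by
  have hyy : y * y = 1 := by rw [← pow_two, ← hy]; exact pow_orderOf_eq_one y
  have hyn : y ∈ Subgroup.normalizer
      ((Subgroup.zpowers x : Subgroup G) : Set G) := by
    apply mem_normalizer_of_invol _ y hyy
    rintro a ⟨j, rfl⟩
    rw [← conj_zpow, hyx]
    exact Subgroup.zpow_mem _ (Subgroup.pow_mem _ (Subgroup.mem_zpowers x) _) j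
  have hW : IsPGroup 2 (Subgroup.zpowers y ⊔ Subgroup.zpowers x : Subgroup G) := by
    apply IsPGroup.to_sup_of_normal_right' (isPGroup_zpowers y 1 (by simpa using hy))
      (isPGroup_zpowers x n hx)
    rw [Subgroup.zpowers_le]
    exact hyn
  obtain ⟨φ, hφ⟩ := exists_embedding 2 _ hW P
  exact isQuasiDihedral_of' _ φ hφ n hn hcard x y
    (le_sup_right (α := Subgroup G) (Subgroup.mem_zpowers x))
    (le_sup_left (α := Subgroup G) (Subgroup.mem_zpowers y))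
    hx hy hyx

theorem zpowers_inf_subtype (H : Subgroup G) (x y : H)
    (h : Subgroup.zpowers (x : G) ⊓ Subgroup.zpowers (y : G) = ⊥) :
    Subgroup.zpowers x ⊓ Subgroup.zpowers y = ⊥ := by
  rw [eq_bot_iff]
  intro t ht
  obtain ⟨⟨i, hi⟩, ⟨j, hj⟩⟩ := ht
  simp only at hi hj
  have hi' : (x : G) ^ i = (t : G) := by rw [← hi]; simp
  have hj' : (y : G) ^ j = (t : G) := by rw [← hj]; simp
  have hmem : (t : G) ∈ Subgroup.zpowers (x : G) ⊓ Subgroup.zpowers (y : G) :=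
    ⟨⟨i, hi'⟩, ⟨j, hj'⟩⟩
  rw [h, Subgroup.mem_bot] at hmem
  rw [Subgroup.mem_bot]
  exact Subtype.ext hmem

end generic

section arith

theorem card_expr (q : ℕ) (hq : 2 ≤ q) :
    ((q + 1) + (q ^ 2 - (q + 1)) * (q + 1)) * (q + 1) = (q + 1) ^ 2 * (q * (q - 1)) := by
  obtain ⟨k, rfl⟩ : ∃ k, q = k + 2 := ⟨q - 2, by omega⟩
  have h : (k + 2) ^ 2 - (k + 2 + 1) = k ^ 2 + 3 * k + 1 := by
    apply Nat.sub_eq_of_eq_add; ring
  have h2 : k + 2 - 1 = k + 1 := rfl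
  rw [h, h2]; ring

theorem fact_one (q : ℕ) (hq : q % 4 = 1) (hq1 : 1 < q) :
    ∃ a : ℕ, 2 ≤ a ∧ 2 ^ (a + 1) ∣ (q + 1) * (q - 1) ∧
      (((q + 1) + (q ^ 2 - (q + 1)) * (q + 1)) * (q + 1)).factorization 2 = a + 2 ∧
      2 ^ (a + 1) ∣ q + (2 ^ a - 1) := by
  rw [card_expr q (by omega)]
  obtain ⟨k, rfl⟩ : ∃ k, q = 4 * k + 1 := ⟨q / 4, by omega⟩
  have hk : k ≠ 0 := by rintro rfl; omega
  have h3 : 4 * k + 1 - 1 = 4 * k := by omega
  rw [h3]
  have hA0 : 4 * k ≠ 0 := by omega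
  set a := (4 * k).factorization 2 with ha
  have hdvd : 2 ^ a ∣ 4 * k := Nat.ordProj_dvd _ _
  have hc := Nat.ordProj_mul_ordCompl_eq_self (4 * k) 2
  have hodd : ¬ 2 ∣ (4 * k) / 2 ^ a := Nat.not_dvd_ordCompl Nat.prime_two hA0
  refine ⟨a, ?_, ?_, ?_, ?_⟩
  · apply (Nat.Prime.pow_dvd_iff_le_factorization Nat.prime_two hA0).mp
    exact ⟨k, by ring⟩
  · have e : (4 * k + 1 + 1) * (4 * k) = 2 * (4 * k) * (2 * k + 1) := by ring
    rw [e, pow_succ, mul_comm (2 ^ a) 2]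
    exact Dvd.dvd.mul_right (Nat.mul_dvd_mul_left 2 hdvd) _
  · have e : (4 * k + 1 + 1) ^ 2 * ((4 * k + 1) * (4 * k)) =
        (4 * k) * (2 ^ 2 * ((2 * k + 1) ^ 2 * (4 * k + 1))) := by ring
    rw [e]
    apply fact_aux2 _ _ hA0
    intro hd
    rcases (Nat.Prime.dvd_mul Nat.prime_two).mp hd with h | h
    · have := Nat.Prime.dvd_of_dvd_pow Nat.prime_two h
      omega
    · omega
  · set c := (4 * k) / 2 ^ a with hcdef
    obtain ⟨e, he⟩ : ∃ e, c = 2 * e + 1 := ⟨c / 2, by omega⟩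
    have hpos : 1 ≤ 2 ^ a := Nat.one_le_two_pow
    refine ⟨e + 1, ?_⟩
    have h4 : 2 ^ (a + 1) * (e + 1) = 2 ^ a * (2 * e + 1) + 2 ^ a := by rw [pow_succ]; ring
    rw [h4, ← he, hc]
    omega

theorem fact_three (q : ℕ) (hq : q % 4 = 3) :
    ∃ m : ℕ, 2 ≤ m ∧ 2 ^ m ∣ q + 1 ∧
      (((q + 1) + (q ^ 2 - (q + 1)) * (q + 1)) * (q + 1)).factorization 2 = 2 * m + 1 := by
  rw [card_expr q (by omega)]
  obtain ⟨k, rfl⟩ : ∃ k, q = 4 * k + 3 := ⟨q / 4, by omega⟩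
  have hA0 : 4 * (k + 1) ≠ 0 := by omega
  have h3 : 4 * k + 3 - 1 = 2 * (2 * k + 1) := by omega
  have h4 : 4 * k + 3 + 1 = 4 * (k + 1) := by ring
  rw [h3, h4]
  refine ⟨(4 * (k + 1)).factorization 2, ?_, Nat.ordProj_dvd _ _, ?_⟩
  · apply (Nat.Prime.pow_dvd_iff_le_factorization Nat.prime_two hA0).mp
    exact ⟨k + 1, by ring⟩
  · have e : (4 * (k + 1)) ^ 2 * ((4 * k + 3) * (2 * (2 * k + 1))) =
        (4 * (k + 1)) ^ 2 * (2 * ((4 * k + 3) * (2 * k + 1))) := by ring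
    rw [e]
    apply fact_aux _ _ hA0
    intro hd
    rcases (Nat.Prime.dvd_mul Nat.prime_two).mp hd with h | h <;> omega

end arith

section elements
variable {F : Type*} [Field F] [Fintype F] {q : ℕ}

theorem dg_mem (hF : Fintype.card F = q ^ 2) (v : Fin 2 → Fˣ)
    (h0 : (v 0 : F) ^ (q + 1) = 1) (h1 : (v 1 : F) ^ (q + 1) = 1) : dg v ∈ GU F q := by
  have hq0 : q ≠ 0 := by have := one_lt_q hF; omega
  rw [mem_GU_iff hF, dg_coe, diagonal_eq]
  rw [pow_succ] at h0 h1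
  simp only [Matrix.of_apply, Matrix.cons_val', Matrix.cons_val_zero, Matrix.cons_val_one,
    Matrix.cons_val_fin_one]
  refine ⟨?_, ?_, ?_, ?_⟩
  · rw [zero_pow hq0]; linear_combination h0
  · rw [zero_pow hq0]; ring
  · rw [zero_pow hq0]; ring
  · rw [zero_pow hq0]; linear_combination h1

theorem sw_mem (hF : Fintype.card F = q ^ 2) : (sw : GL (Fin 2) F) ∈ GU F q := by
  have hq0 : q ≠ 0 := by have := one_lt_q hF; omega
  have hsw : ((sw : GL (Fin 2) F) : Matrix (Fin 2) (Fin 2) F) = !![0, 1; 1, 0] := rfl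
  rw [mem_GU_iff hF, hsw]
  simp [hq0]

omit [Fintype F] in
theorem diag_facts (ζ : Fˣ) :
    orderOf (dg (Pi.mulSingle 0 ζ) : GL (Fin 2) F) = orderOf ζ ∧
    (dg (Pi.mulSingle 0 ζ) : GL (Fin 2) F) * dg (Pi.mulSingle 1 ζ) =
      dg (Pi.mulSingle 1 ζ) * dg (Pi.mulSingle 0 ζ) ∧
    (sw : GL (Fin 2) F) * dg (Pi.mulSingle 0 ζ) * sw⁻¹ = dg (Pi.mulSingle 1 ζ) ∧
    Subgroup.zpowers (dg (Pi.mulSingle 0 ζ) : GL (Fin 2) F) ⊓
      Subgroup.zpowers (dg (Pi.mulSingle 1 ζ) : GL (Fin 2) F) = ⊥ := by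
  refine ⟨?_, ?_, ?_, ?_⟩
  · rw [orderOf_injective dg dg_injective]
    exact orderOf_injective (MonoidHom.mulSingle (fun _ : Fin 2 => Fˣ) 0)
      (Pi.mulSingle_injective (M := fun _ : Fin 2 => Fˣ) 0) ζ
  · rw [← map_mul, ← map_mul, mul_comm]
  · rw [sw_conj]
    congr 1
    funext i
    fin_cases i <;> simp
  · rw [eq_bot_iff]
    intro t ht
    obtain ⟨⟨i, hi⟩, ⟨j, hj⟩⟩ := ht
    simp only at hi hj
    rw [← map_zpow] at hi
    rw [← map_zpow] at hj
    have hij : (Pi.mulSingle 0 ζ : Fin 2 → Fˣ) ^ i = (Pi.mulSingle 1 ζ : Fin 2 → Fˣ) ^ j :=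
      dg_injective (hi.trans hj.symm)
    have h0 : ζ ^ i = 1 := by
      have := congrFun hij 0
      simpa using this
    have h1 : (Pi.mulSingle 0 ζ : Fin 2 → Fˣ) ^ i = 1 := by
      funext k
      fin_cases k
      · simpa using h0
      · simp
    rw [Subgroup.mem_bot, ← hi, h1, map_one]

theorem case_three (hF : Fintype.card F = q ^ 2) (hq : Odd q) (P : Sylow 2 (GU F q))
    (h : q % 4 = 3) : Cfsg.IsWreathed (P : Subgroup (GU F q)) := by
  obtain ⟨m, hm2, hdvd, hfact⟩ := fact_three q h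
  have hcardP : Nat.card (P : Subgroup (GU F q)) = 2 ^ (2 * m + 1) := by
    rw [Sylow.card_eq_multiplicity, card_GU hF hq, hfact]
  obtain ⟨ζ, hζ⟩ := exists_orderOf_eq (G := Fˣ) (2 ^ m)
    (by rw [card_units_eq hF]; exact Dvd.dvd.mul_right hdvd _)
  have hζ1 : (ζ : F) ^ (q + 1) = 1 := by
    have h1 : ζ ^ (q + 1) = 1 := orderOf_dvd_iff_pow_eq_one.mp (by rw [hζ]; exact hdvd)
    rw [← Units.val_pow_eq_pow_val, h1, Units.val_one]
  obtain ⟨hx, hxy, hzx, hint⟩ := diag_facts (F := F) ζ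
  have hxm : (dg (Pi.mulSingle 0 ζ) : GL (Fin 2) F) ∈ GU F q := by
    apply dg_mem hF
    · simpa using hζ1
    · simp
  have hym : (dg (Pi.mulSingle 1 ζ) : GL (Fin 2) F) ∈ GU F q := by
    apply dg_mem hF
    · simp
    · simpa using hζ1
  refine wreathed_of_sylow P m hm2 hcardP ⟨_, hxm⟩ ⟨_, hym⟩ ⟨_, sw_mem hF⟩ ?_ ?_ ?_ ?_ ?_
  · rw [Subgroup.orderOf_mk, hx, hζ]
  · exact Subtype.ext hxy
  · exact zpowers_inf_subtype _ _ _ hint
  · rw [Subgroup.orderOf_mk, orderOf_sw]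
  · exact Subtype.ext hzx

/-- twice the hyperbolic hermitian form -/
def hyp (q : ℕ) (u v : Fin 2 → F) : F := 2 * (u 0 * v 1 ^ q + u 1 * v 0 ^ q)

omit [Fintype F] in
theorem conj_mem (f f' : (Fin 2 → F) → (Fin 2 → F) → F) (B D : GL (Fin 2) F)
    (hB : ∀ u v, f ((B : Matrix (Fin 2) (Fin 2) F).mulVec u)
      ((B : Matrix (Fin 2) (Fin 2) F).mulVec v) = f' u v)
    (hD : ∀ u v, f' ((D : Matrix (Fin 2) (Fin 2) F).mulVec u)
      ((D : Matrix (Fin 2) (Fin 2) F).mulVec v) = f' u v) :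
    B * D * B⁻¹ ∈ Cfsg.preserving (Units.coeHom (Matrix (Fin 2) (Fin 2) F)) f := by
  intro u v
  show f ((((B * D * B⁻¹ : GL (Fin 2) F)) : Matrix (Fin 2) (Fin 2) F).mulVec u)
    ((((B * D * B⁻¹ : GL (Fin 2) F)) : Matrix (Fin 2) (Fin 2) F).mulVec v) = f u v
  have hBB : (B : Matrix (Fin 2) (Fin 2) F) * ((B⁻¹ : GL (Fin 2) F) : Matrix (Fin 2) (Fin 2) F) = 1 := by
    rw [← Units.val_mul, mul_inv_cancel, Units.val_one]
  rw [Units.val_mul, Units.val_mul, ← Matrix.mulVec_mulVec, ← Matrix.mulVec_mulVec,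
    ← Matrix.mulVec_mulVec, ← Matrix.mulVec_mulVec, hB, hD, ← hB, Matrix.mulVec_mulVec,
    Matrix.mulVec_mulVec, hBB, Matrix.one_mulVec, Matrix.one_mulVec]

theorem two_ne_zero_of_odd (hF : Fintype.card F = q ^ 2) (hq : Odd q) : (2 : F) ≠ 0 := by
  apply Ring.two_ne_zero
  intro h2
  have := FiniteField.even_card_iff_char_two.mp h2
  rw [hF] at this
  have h3 : Odd (q ^ 2) := hq.pow
  rw [Nat.odd_iff] at h3
  omega

theorem hyp_dg (_hF : Fintype.card F = q ^ 2) (v : Fin 2 → Fˣ)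
    (h0 : (v 0 : F) * (v 1 : F) ^ q = 1) (h1 : (v 1 : F) * (v 0 : F) ^ q = 1) (u w : Fin 2 → F) :
    hyp q (((dg v : GL (Fin 2) F) : Matrix (Fin 2) (Fin 2) F).mulVec u)
      (((dg v : GL (Fin 2) F) : Matrix (Fin 2) (Fin 2) F).mulVec w) = hyp q u w := by
  rw [dg_coe, diagonal_eq, mulVec_two, mulVec_two]
  simp only [hyp, Matrix.of_apply, Matrix.cons_val', Matrix.cons_val_zero, Matrix.cons_val_one,
    Matrix.cons_val_fin_one, zero_mul, add_zero, zero_add, mul_pow]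
  linear_combination (2 * u 0 * w 1 ^ q) * h0 + (2 * u 1 * w 0 ^ q) * h1

theorem hyp_sw (u w : Fin 2 → F) :
    hyp q (((sw : GL (Fin 2) F) : Matrix (Fin 2) (Fin 2) F).mulVec u)
      (((sw : GL (Fin 2) F) : Matrix (Fin 2) (Fin 2) F).mulVec w) = hyp q u w := by
  have hsw : ((sw : GL (Fin 2) F) : Matrix (Fin 2) (Fin 2) F) = !![0, 1; 1, 0] := rfl
  rw [hsw, mulVec_two, mulVec_two]
  simp only [hyp, Matrix.of_apply, Matrix.cons_val', Matrix.cons_val_zero, Matrix.cons_val_one,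
    Matrix.cons_val_fin_one, zero_mul, add_zero, zero_add, one_mul]
  ring

theorem exists_basis (hF : Fintype.card F = q ^ 2) (hq : Odd q) :
    ∃ B : GL (Fin 2) F, ∀ u v, Cfsg.hermForm 2 F q ((B : Matrix (Fin 2) (Fin 2) F).mulVec u)
      ((B : Matrix (Fin 2) (Fin 2) F).mulVec v) = hyp q u v := by
  obtain ⟨ε, hε⟩ := exists_norm_eq hF (-1 : F) (neg_ne_zero.mpr one_ne_zero) hq.neg_one_pow
  have h2 := two_ne_zero_of_odd hF hq
  have hε0 : ε ≠ 0 := by
    rintro rfl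
    rw [zero_pow (by omega)] at hε
    exact (neg_ne_zero.mpr one_ne_zero) hε.symm
  have hdet : (!![1, 1; ε, -ε] : Matrix (Fin 2) (Fin 2) F).det ≠ 0 := by
    rw [Matrix.det_fin_two_of]
    intro h
    have : (2 : F) * ε = 0 := by linear_combination -h
    rcases mul_eq_zero.mp this with h' | h'
    · exact h2 h'
    · exact hε0 h'
  refine ⟨Matrix.GeneralLinearGroup.mkOfDetNeZero _ hdet, ?_⟩
  intro u v
  have hB : ((Matrix.GeneralLinearGroup.mkOfDetNeZero _ hdet : GL (Fin 2) F) :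
      Matrix (Fin 2) (Fin 2) F) = !![1, 1; ε, -ε] := rfl
  rw [hB, mulVec_two, mulVec_two, hermForm_two]
  simp only [hyp, Matrix.of_apply, Matrix.cons_val', Matrix.cons_val_zero, Matrix.cons_val_one,
    Matrix.cons_val_fin_one, one_mul]
  rw [add_pow_q hF, add_pow_q hF, mul_pow, mul_pow, hq.neg_pow]
  rw [pow_succ] at hε
  linear_combination ((u 0 - u 1) * (v 0 ^ q - v 1 ^ q)) * hε

theorem units_pow_q_pow_q (hF : Fintype.card F = q ^ 2) (u : Fˣ) : (u ^ q) ^ q = u := by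
  apply Units.ext
  rw [Units.val_pow_eq_pow_val, Units.val_pow_eq_pow_val, pow_q_pow_q hF]

theorem inv_pow_eq (u : Fˣ) (k : ℕ) (h : u ^ (q + k) = 1) : (u⁻¹) ^ q = u ^ k := by
  have h1 : u ^ q * (u⁻¹) ^ q = 1 := by rw [← mul_pow, mul_inv_cancel, one_pow]
  calc (u⁻¹) ^ q = u ^ (q + k) * (u⁻¹) ^ q := by rw [h, one_mul]
    _ = u ^ k * (u ^ q * (u⁻¹) ^ q) := by rw [pow_add]; ac_rfl
    _ = u ^ k := by rw [h1, mul_one]

theorem case_one (hF : Fintype.card F = q ^ 2) (hq : Odd q) (P : Sylow 2 (GU F q))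
    (h : q % 4 = 1) : Cfsg.IsQuasiDihedral (P : Subgroup (GU F q)) := by
  obtain ⟨a, ha2, hdvd, hfact, hmod⟩ := fact_one q h (one_lt_q hF)
  have hcardP : Nat.card (P : Subgroup (GU F q)) = 2 ^ ((a + 1) + 1) := by
    rw [Sylow.card_eq_multiplicity, card_GU hF hq, hfact]
  obtain ⟨ζ, hζ⟩ := exists_orderOf_eq (G := Fˣ) (2 ^ (a + 1))
    (by rw [card_units_eq hF]; exact hdvd)
  set k := 2 ^ a - 1 with hk
  have hζk : ζ ^ (q + k) = 1 := orderOf_dvd_iff_pow_eq_one.mp (by rw [hζ]; exact hmod)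
  set ζ' : Fˣ := (ζ⁻¹) ^ q with hζ'
  have e1 : ζ' = ζ ^ k := inv_pow_eq ζ k hζk
  have hζ'k : ζ' ^ (q + k) = 1 := by
    rw [hζ', ← pow_mul, mul_comm, pow_mul, inv_pow, hζk, inv_one, one_pow]
  have e2 : ζ = ζ' ^ k := by
    rw [← inv_pow_eq ζ' k hζ'k, hζ', ← inv_pow, inv_inv, units_pow_q_pow_q hF]
  obtain ⟨B, hB⟩ := exists_basis hF hq
  set D : GL (Fin 2) F := dg ![ζ, ζ'] with hD
  have hDmem : ∀ u w, hyp q ((D : Matrix (Fin 2) (Fin 2) F).mulVec u)
      ((D : Matrix (Fin 2) (Fin 2) F).mulVec w) = hyp q u w := by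
    apply hyp_dg hF
    · show (ζ : F) * (ζ' : F) ^ q = 1
      rw [hζ', ← Units.val_pow_eq_pow_val, units_pow_q_pow_q hF, ← Units.val_mul,
        mul_inv_cancel, Units.val_one]
    · show (ζ' : F) * (ζ : F) ^ q = 1
      rw [hζ', ← Units.val_pow_eq_pow_val, ← Units.val_mul, ← mul_pow, inv_mul_cancel, one_pow,
        Units.val_one]
  have hxm : B * D * B⁻¹ ∈ GU F q := conj_mem _ _ B D hB hDmem
  have hym : B * sw * B⁻¹ ∈ GU F q := conj_mem _ _ B sw hB hyp_sw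
  have hordD : orderOf D = 2 ^ (a + 1) := by
    rw [← hζ]
    apply orderOf_eq_orderOf_iff.mpr
    intro n
    rw [hD, ← map_pow, ← map_one (dg : (Fin 2 → Fˣ) →* GL (Fin 2) F), dg_injective.eq_iff]
    constructor
    · intro h1
      have := congrFun h1 0
      simpa using this
    · intro h1
      funext i
      fin_cases i
      · simpa using h1
      · show ζ' ^ n = 1
        rw [e1, ← pow_mul, mul_comm, pow_mul, h1, one_pow]
  have hconj : sw * D * sw⁻¹ = D ^ k := by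
    rw [hD, sw_conj, ← map_pow]
    congr 1
    funext i
    fin_cases i
    · show ζ' = ζ ^ k
      exact e1
    · show ζ = ζ' ^ k
      exact e2
  have hx : orderOf (B * D * B⁻¹) = 2 ^ (a + 1) := by
    rw [← hordD]
    exact orderOf_injective (MulAut.conj B).toMonoidHom (MulAut.conj B).injective D
  have hy : orderOf (B * sw * B⁻¹) = 2 :=
    (orderOf_injective (MulAut.conj B).toMonoidHom (MulAut.conj B).injective sw).trans orderOf_sw
  have hyx : (B * sw * B⁻¹) * (B * D * B⁻¹) * (B * sw * B⁻¹)⁻¹ = (B * D * B⁻¹) ^ k := by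
    rw [conj_pow, ← hconj]
    group
  refine quasiDihedral_of_sylow P (a + 1) (by omega) hcardP ⟨_, hxm⟩ ⟨_, hym⟩ ?_ ?_ ?_
  · rw [Subgroup.orderOf_mk, hx]
  · rw [Subgroup.orderOf_mk, hy]
  · apply Subtype.ext
    rw [Nat.add_sub_cancel]
    exact hyx

end elements

/-- Let F be a finite field with q² elements, q odd, let GU be the subgroup of GL(2,F) preserving the Hermitian form u₁v₁^q + u₂v₂^q, and P a Sylow 2-subgroup of GU. If q ≡ 1 (mod 4) then P is quasi-dihedral; if q ≡ 3 (mod 4) then P is wreathed. -/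
theorem result {F : Type*} [Field F] [Fintype F] (q : ℕ) (hF : Fintype.card F = q ^ 2) (hq : Odd q) (P : Sylow 2 ↥(Cfsg.preserving (Units.coeHom (Matrix (Fin 2) (Fin 2) F)) (Cfsg.hermForm 2 F q))) : (q % 4 = 1 → Cfsg.IsQuasiDihedral (P : Subgroup ↥(Cfsg.preserving (Units.coeHom (Matrix (Fin 2) (Fin 2) F)) (Cfsg.hermForm 2 F q)))) ∧ (q % 4 = 3 → Cfsg.IsWreathed (P : Subgroup ↥(Cfsg.preserving (Units.coeHom (Matrix (Fin 2) (Fin 2) F)) (Cfsg.hermForm 2 F q)))) := by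
  exact ⟨case_one hF hq P, case_three hF hq P⟩

end Cfsg.Agent.S1218
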