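import Cfsg.Statements.S1229
import Cfsg.Agent.Lib.Helper21_BSW4

set_option autoImplicit false
open Cfsg

namespace Cfsg.Agent.S1229

/-- Let G be a finite group with a Sylow 2-subgroup T that is neither cyclic nor normal, such that the centralizer of every involution is an elementary abelian 2-group; put H = N_G(T) and X = G/H. Then G is triply transitive on X, an element fixing three distinct points of X is the identity, and T acts regularly on X minus the point H. -/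
theorem result {G : Type*} [Group G] [Finite G] (T : Sylow 2 G) (hnc : ¬ IsCyclic (T : Subgroup G)) (hnn : ¬ (T : Subgroup G).Normal) (hC : ∀ t : G, orderOf t = 2 → IsMulCommutative (Subgroup.centralizer ({t} : Set G)) ∧ ∀ c ∈ Subgroup.centralizer ({t} : Set G), c ^ 2 = 1) : (∀ x₁ x₂ x₃ y₁ y₂ y₃ : G ⧸ Subgroup.normalizer ((T : Subgroup G) : Set G), x₁ ≠ x₂ → x₁ ≠ x₃ → x₂ ≠ x₃ → y₁ ≠ y₂ → y₁ ≠ y₃ → y₂ ≠ y₃ → ∃ g : G, g • x₁ = y₁ ∧ g • x₂ = y₂ ∧ g • x₃ = y₃) ∧ (∀ g : G, ∀ x₁ x₂ x₃ : G ⧸ Subgroup.normalizer ((T : Subgroup G) : Set G), x₁ ≠ x₂ → x₁ ≠ x₃ → x₂ ≠ x₃ → g • x₁ = x₁ → g • x₂ = x₂ → g • x₃ = x₃ → g = 1) ∧ (∀ x y : G ⧸ Subgroup.normalizer ((T : Subgroup G) : Set G), x ≠ QuotientGroup.mk 1 → y ≠ QuotientGroup.mk 1 → ∃! t : G, t ∈ T ∧ t • x = y) := by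
  have hC' : Cfsg.Agent.Lib.Helper21_BSW.CIT G := hC
  refine ⟨?_, ?_, ?_⟩
  · intro x₁ x₂ x₃ y₁ y₂ y₃ hx12 hx13 hx23 hy12 hy13 hy23
    have hinj := Cfsg.Agent.Lib.Helper21_BSW.sylOf_injective T
    obtain ⟨g, h1, h2, h3⟩ := Cfsg.Agent.Lib.Helper21_BSW.exists_smul_eq_triple hC' T hnc hnn
      (Cfsg.Agent.Lib.Helper21_BSW.sylOf T x₁) (Cfsg.Agent.Lib.Helper21_BSW.sylOf T x₂)
      (Cfsg.Agent.Lib.Helper21_BSW.sylOf T x₃) (Cfsg.Agent.Lib.Helper21_BSW.sylOf T y₁)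
      (Cfsg.Agent.Lib.Helper21_BSW.sylOf T y₂) (Cfsg.Agent.Lib.Helper21_BSW.sylOf T y₃)
      (fun h => hx12 (hinj h)) (fun h => hx13 (hinj h)) (fun h => hx23 (hinj h))
      (fun h => hy12 (hinj h)) (fun h => hy13 (hinj h)) (fun h => hy23 (hinj h))
    refine ⟨g, hinj ?_, hinj ?_, hinj ?_⟩
    · rw [Cfsg.Agent.Lib.Helper21_BSW.sylOf_smul, h1]
    · rw [Cfsg.Agent.Lib.Helper21_BSW.sylOf_smul, h2]
    · rw [Cfsg.Agent.Lib.Helper21_BSW.sylOf_smul, h3]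
  · intro g x₁ x₂ x₃ hx12 hx13 hx23 h1 h2 h3
    have hinj := Cfsg.Agent.Lib.Helper21_BSW.sylOf_injective T
    obtain ⟨a, ha⟩ := Cfsg.Agent.Lib.Helper21_BSW.exists_sylOf_eq_smul T x₁
    have hnc₁ : ¬ IsCyclic ((Cfsg.Agent.Lib.Helper21_BSW.sylOf T x₁ : Sylow 2 G) : Subgroup G) :=
      ha ▸ Cfsg.Agent.Lib.Helper21_BSW.not_isCyclic_smul a T hnc
    have hnn₁ : ¬ ((Cfsg.Agent.Lib.Helper21_BSW.sylOf T x₁ : Sylow 2 G) : Subgroup G).Normal :=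
      ha ▸ Cfsg.Agent.Lib.Helper21_BSW.not_normal_smul a T hnn
    have key : ∀ x : G ⧸ Subgroup.normalizer ((T : Subgroup G) : Set G), g • x = x →
        g ∈ Cfsg.Agent.Lib.Helper21_BSW.nrm (Cfsg.Agent.Lib.Helper21_BSW.sylOf T x) := by
      intro x hx
      apply Sylow.smul_eq_iff_mem_normalizer.mp
      rw [← Cfsg.Agent.Lib.Helper21_BSW.sylOf_smul, hx]
    exact Cfsg.Agent.Lib.Helper21_BSW.eq_one_of_three_fixed hC' _ _ _ hnc₁ hnn₁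
      (fun h => hx12 (hinj h)) (fun h => hx13 (hinj h)) (fun h => hx23 (hinj h))
      (key x₁ h1) (key x₂ h2) (key x₃ h3)
  · intro x y hx hy
    have hinj := Cfsg.Agent.Lib.Helper21_BSW.sylOf_injective T
    have hx' : Cfsg.Agent.Lib.Helper21_BSW.sylOf T x ≠ T := by
      intro h
      apply hx
      apply hinj
      rw [h, Cfsg.Agent.Lib.Helper21_BSW.sylOf_one]
    have hy' : Cfsg.Agent.Lib.Helper21_BSW.sylOf T y ≠ T := by
      intro h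
      apply hy
      apply hinj
      rw [h, Cfsg.Agent.Lib.Helper21_BSW.sylOf_one]
    obtain ⟨t, ⟨ht, htx⟩, huniq⟩ := Cfsg.Agent.Lib.Helper21_BSW.existsUnique_mem_smul_eq hC' T hnc hnn
      _ _ hx' hy'
    refine ⟨t, ⟨ht, hinj ?_⟩, ?_⟩
    · rw [Cfsg.Agent.Lib.Helper21_BSW.sylOf_smul, htx]
    · intro t' ht'
      apply huniq
      refine ⟨ht'.1, ?_⟩
      rw [← Cfsg.Agent.Lib.Helper21_BSW.sylOf_smul, ht'.2]

end Cfsg.Agent.S1229
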