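import Cfsg.Statements.S1231
import Mathlib
import Cfsg.Agent.Lib.Helper33_Alperin

set_option autoImplicit false
open Cfsg

namespace Cfsg.Agent.S1231

open Cfsg.Agent.Lib.Helper33_Conj Cfsg.Agent.Lib.Helper33_Alperin

section aux
variable {G : Type*} [Group G]

/-- `X` contains an elementary abelian `p`-subgroup of order bigger than `p ^ j` -/
def HasBig (p j : ℕ) (X : Subgroup G) : Prop :=
  ∃ A : Subgroup G, A ≤ X ∧ IsMulCommutative A ∧ (∀ a ∈ A, a ^ p = 1) ∧ p ^ j < Nat.card A

theorem not_pRankLE_iff (p j : ℕ) (X : Subgroup G) : ¬ Cfsg.PRankLE p j ↥X ↔ HasBig p j X := by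
  unfold Cfsg.PRankLE HasBig
  constructor
  · intro h
    push Not at h
    obtain ⟨A, hc, he, hcard⟩ := h
    refine ⟨A.map X.subtype, Subgroup.map_subtype_le A, inferInstance, ?_, ?_⟩
    · rintro _ ⟨a, ha, rfl⟩
      have := he a ha
      simpa using congrArg Subtype.val this
    · rw [Subgroup.card_map_of_injective X.subtype_injective]; exact hcard
  · rintro ⟨A, hAX, hc, he, hcard⟩ h
    have h1 := h (A.subgroupOf X) inferInstance (by
      intro a ha
      rw [Subgroup.mem_subgroupOf] at ha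
      exact Subtype.ext (by simpa using he _ ha))
    have h2 : Nat.card (A.subgroupOf X) = Nat.card A :=
      Nat.card_congr (Subgroup.subgroupOfEquivOfLe hAX).toEquiv
    omega

theorem HasBig.mono {p j : ℕ} {X Y : Subgroup G} (h : HasBig p j X) (hXY : X ≤ Y) :
    HasBig p j Y := by
  obtain ⟨A, hAX, hc, he, hcard⟩ := h
  exact ⟨A, hAX.trans hXY, hc, he, hcard⟩

theorem HasBig.conj {p j : ℕ} {X : Subgroup G} (h : HasBig p j X) (g : G) :
    HasBig p j (cj g X) := by
  obtain ⟨A, hAX, hc, he, hcard⟩ := h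
  refine ⟨cj g A, cj_mono hAX, inferInstance, ?_, ?_⟩
  · rintro _ ⟨a, ha, rfl⟩
    simp only [MulEquiv.coe_toMonoidHom, MulAut.conj_apply]
    rw [conj_pow, he a ha]; group
  · have : Nat.card (cj g A) = Nat.card A :=
      Subgroup.card_map_of_injective (MulAut.conj g).injective
    rw [this]; exact hcard

theorem HasBig.isPGroup_of_exp {p : ℕ} [Fact p.Prime] {A : Subgroup G}
    (he : ∀ a ∈ A, a ^ p = 1) : IsPGroup p A := by
  intro a
  refine ⟨1, ?_⟩
  rw [pow_one]
  exact Subtype.ext (by simpa using he a a.2)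

end aux

section main
variable {G : Type*} [Group G] [Finite G] {p : ℕ} [Fact p.Prime]

/-- any `p`-subgroup of `H` is `H`-conjugate into the image of a Sylow `p`-subgroup of `H` -/
theorem exists_cj_le_sylow (H : Subgroup G) (P : Sylow p ↥H) (Q : Subgroup G) (hQH : Q ≤ H)
    (hQ : IsPGroup p Q) : ∃ h ∈ H, cj h Q ≤ (P : Subgroup ↥H).map H.subtype := by
  refine exists_cj_le_of_relIndex (Subgroup.map_subtype_le _) (P.isPGroup'.map _) ?_ hQH hQ
  have : ((P : Subgroup ↥H).map H.subtype).subgroupOf H = (P : Subgroup ↥H) :=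
    Subgroup.comap_map_eq_self_of_injective H.subtype_injective _
  rw [Subgroup.relIndex, this]
  exact P.not_dvd_index

/-- the key induction -/
theorem key (j : ℕ) (H : Subgroup G) (P : Sylow p ↥H)
    (hA : ∀ X : Subgroup G, X ≤ (P : Subgroup ↥H).map H.subtype → HasBig p j X →
      Subgroup.normalizer (X : Set G) ≤ H) :
    ∀ n : ℕ, ∀ Q : Subgroup G, Q ≤ (P : Subgroup ↥H).map H.subtype →
      Nat.card ((P : Subgroup ↥H).map H.subtype) - Nat.card Q ≤ n → HasBig p j Q →
      ∀ g : G, cj g⁻¹ Q ≤ H → g ∈ H := by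
  set PG := (P : Subgroup ↥H).map H.subtype with hPG
  have hPGp : IsPGroup p PG := P.isPGroup'.map _
  have hPGH : PG ≤ H := Subgroup.map_subtype_le _
  intro n
  induction n with
  | zero =>
    intro Q hQP hn hbig g hg
    -- `Q = PG`
    have hQeq : Q = PG := by
      apply Subgroup.eq_of_le_of_card_ge hQP
      omega
    rw [hQeq] at hbig hg
    obtain ⟨h, hhH, hle⟩ := exists_cj_le_sylow H P (cj g⁻¹ PG) hg (isPGroup_cj hPGp)
    rw [← cj_mul] at hle
    have heq : cj (h * g⁻¹) PG = PG :=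
      Subgroup.eq_of_le_of_card_ge hle (by rw [card_cj])
    have hmem : h * g⁻¹ ∈ H := hA PG le_rfl hbig (mem_normalizer_iff_cj.mpr heq)
    have : g = (h * g⁻¹)⁻¹ * h := by group
    rw [this]
    exact H.mul_mem (H.inv_mem hmem) hhH
  | succ n ih =>
    intro Q hQP hn hbig g hg
    by_cases hQeq : Q = PG
    · exact ih Q hQP (by rw [hQeq]; omega) hbig g hg
    have hQlt : Q < PG := lt_of_le_of_ne hQP hQeq
    have hQp : IsPGroup p Q := hPGp.to_le hQP
    -- move `g⁻¹ Q g` into `PG`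
    obtain ⟨h, hhH, hle⟩ := exists_cj_le_sylow H P (cj g⁻¹ Q) hg (isPGroup_cj hQp)
    rw [← cj_mul] at hle
    set g₂ := (h * g⁻¹)⁻¹ with hg₂
    have hg₂inv : g₂⁻¹ = h * g⁻¹ := by rw [hg₂, inv_inv]
    suffices hmem : g₂ ∈ H by
      have : g = g₂ * h := by rw [hg₂]; group
      rw [this]
      exact H.mul_mem hmem hhH
    rw [← hg₂inv] at hle
    set Q₁ := cj g₂⁻¹ Q with hQ₁
    have hbig₁ : HasBig p j Q₁ := hbig.conj _
    have hN₁ : Subgroup.normalizer (Q₁ : Set G) ≤ H := hA Q₁ hle hbig₁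
    -- the normalizer of `Q` in `PG`
    set R := PG ⊓ Subgroup.normalizer (Q : Set G) with hR
    have hQR : Q < R := lt_inf_normalizer hPGp hQlt
    have hRP : R ≤ PG := inf_le_left
    have hcard : Nat.card PG - Nat.card R ≤ n := by
      have h1 := card_lt_of_lt hQR
      have h2 : Nat.card R ≤ Nat.card PG := Subgroup.card_le_of_le hRP
      omega
    refine ih R hRP hcard (hbig.mono hQR.le) g₂ ?_
    calc cj g₂⁻¹ R ≤ cj g₂⁻¹ (Subgroup.normalizer (Q : Set G)) := cj_mono inf_le_right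
      _ = Subgroup.normalizer ((cj g₂⁻¹ Q : Subgroup G) : Set G) := cj_normalizer _ _
      _ ≤ H := hN₁

end main

/-- Let H be a subgroup of the finite group G, p a prime, k ≥ 1, and P a Sylow p-subgroup of H whose p-rank is at least k. Then N_G(X) ≤ H for every subgroup X of P of p-rank at least k if and only if H ∩ gHg⁻¹ has p-rank less than k for every g ∉ H. -/
theorem result {G : Type*} [Group G] [Finite G] {p : ℕ} [Fact p.Prime] (k : ℕ) (hk : 1 ≤ k) (H : Subgroup G) (P : Sylow p ↥H) (hP : ¬ Cfsg.PRankLE p (k - 1) ↥(P : Subgroup ↥H)) : (∀ X : Subgroup G, X ≤ (P : Subgroup ↥H).map H.subtype → ¬ Cfsg.PRankLE p (k - 1) ↥X → Subgroup.normalizer (X : Set G) ≤ H) ↔ (∀ g : G, g ∉ H → Cfsg.PRankLE p (k - 1) ↥(H ⊓ H.map (MulAut.conj g).toMonoidHom)) := by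
  set PG := (P : Subgroup ↥H).map H.subtype with hPG
  have hPGp : IsPGroup p PG := P.isPGroup'.map _
  simp only [not_pRankLE_iff]
  constructor
  · intro hA g hg
    by_contra hcon
    rw [not_pRankLE_iff] at hcon
    obtain ⟨A, hAX, hc, he, hcard⟩ := hcon
    have hAH : A ≤ H := hAX.trans inf_le_left
    have hAg : A ≤ cj g H := hAX.trans inf_le_right
    have hAp : IsPGroup p A := HasBig.isPGroup_of_exp he
    have hAbig : HasBig p (k - 1) A := ⟨A, le_rfl, hc, he, hcard⟩
    obtain ⟨h, hhH, hle⟩ := exists_cj_le_sylow H P A hAH hAp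
    have hkey := key (k - 1) H P hA _ (cj h A) hle le_rfl (hAbig.conj h) (h * g) (by
      rw [mul_inv_rev, cj_mul, cj_inv_cj]
      exact cj_le_iff.mpr (by rw [inv_inv]; exact hAg))
    apply hg
    have : g = h⁻¹ * (h * g) := by group
    rw [this]
    exact H.mul_mem (H.inv_mem hhH) hkey
  · intro hB X hXP hXbig g hg
    by_contra hgH
    have h1 := hB g hgH
    refine absurd h1 ((not_pRankLE_iff _ _ _).mpr ?_)
    refine hXbig.mono (le_inf (hXP.trans (Subgroup.map_subtype_le _)) ?_)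
    have hXeq : cj g X = X := mem_normalizer_iff_cj.mp hg
    rw [← hXeq]
    exact cj_mono (hXP.trans (Subgroup.map_subtype_le _))

end Cfsg.Agent.S1231
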