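import Cfsg.Statements.S1236
-- import your own Cfsg.Agent.* helpers here

set_option autoImplicit false
open Cfsg

namespace Cfsg.Agent.S1236

/-- `C` is a cyclic subgroup of index 2 such that the elements of `C` commuting with an element
outside `C` are involutions -/
structure Good {S : Type*} [Group S] (C : Subgroup S) : Prop where
  index_two : C.index = 2
  cyclic : IsCyclic C
  sq : ∀ s, s ∉ C → ∀ c ∈ C, c * s = s * c → c ^ 2 = 1

/-- a subgroup of exponent 2 in a cyclic subgroup has at most two elements -/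
theorem card_le_two_of_sq {S : Type*} [Group S] [Finite S] (C : Subgroup S) [IsCyclic C]
    (T : Subgroup S) (hTC : T ≤ C) (hT : ∀ v ∈ T, v ^ 2 = 1) : Nat.card T ≤ 2 := by
  classical
  haveI : Fintype C := Fintype.ofFinite C
  have h1 := IsCyclic.card_pow_eq_one_le (α := C) (n := 2) two_pos
  have h2 : Nat.card T ≤ Nat.card {a : C // a ^ 2 = 1} := by
    apply Nat.card_le_card_of_injective (fun v : T => ⟨⟨v.1, hTC v.2⟩, by
      apply Subtype.ext
      simpa using hT v.1 v.2⟩)
    intro v w h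
    simp only [Subtype.mk.injEq] at h
    exact Subtype.ext h
  have h3 : Nat.card {a : C // a ^ 2 = 1} =
      (Finset.univ.filter (fun a : C => a ^ 2 = 1)).card := by
    rw [Nat.card_eq_fintype_card, Fintype.card_subtype]
  rw [h3] at h2
  exact h2.trans h1

/-- four-subgroups are self-centralizing -/
theorem four_self_centralizing {S : Type*} [Group S] [Finite S] {C : Subgroup S} (hC : Good C)
    (V : Subgroup S) (hV4 : Nat.card V = 4) (hVsq : ∀ v ∈ V, v ^ 2 = 1) :
    Subgroup.centralizer (V : Set S) = V := by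
  haveI := hC.cyclic
  haveI : C.Normal := Subgroup.normal_of_index_eq_two hC.index_two
  -- V is commutative
  have hcomm : ∀ a ∈ V, ∀ b ∈ V, a * b = b * a := by
    intro a ha b hb
    have h1 := hVsq a ha
    have h2 := hVsq b hb
    have h3 := hVsq (a * b) (V.mul_mem ha hb)
    have ha' : a⁻¹ = a := by rw [inv_eq_iff_mul_eq_one, ← pow_two, h1]
    have hb' : b⁻¹ = b := by rw [inv_eq_iff_mul_eq_one, ← pow_two, h2]
    have hab' : (a * b)⁻¹ = a * b := by rw [inv_eq_iff_mul_eq_one, ← pow_two, h3]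
    rw [← hab', mul_inv_rev, ha', hb']
  have hVle : V ≤ Subgroup.centralizer (V : Set S) := by
    intro a ha b hb
    exact hcomm b hb a ha
  -- some element of V outside C
  obtain ⟨s, hsV, hsC⟩ : ∃ s ∈ V, s ∉ C := by
    by_contra h
    push Not at h
    have := card_le_two_of_sq C V h hVsq
    omega
  have hT : Nat.card ↥(C ⊓ Subgroup.centralizer {s}) ≤ 2 := by
    apply card_le_two_of_sq C _ inf_le_left
    intro c hc
    obtain ⟨hcC, hcs⟩ := Subgroup.mem_inf.mp hc
    exact hC.sq s hsC c hcC (Subgroup.mem_centralizer_singleton_iff.mp hcs)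
  have hD : Nat.card ↥(Subgroup.centralizer {s}) ≤ 4 := by
    have h1 := Subgroup.relIndex_mul_relIndex ⊥ (C ⊓ Subgroup.centralizer {s})
      (Subgroup.centralizer {s}) bot_le inf_le_right
    rw [Subgroup.relIndex_bot_left, Subgroup.relIndex_bot_left, Subgroup.inf_relIndex_right] at h1
    have h2 := Subgroup.relIndex_dvd_index_of_normal C (Subgroup.centralizer {s})
    rw [hC.index_two] at h2
    have h3 := Nat.le_of_dvd two_pos h2
    rw [← h1]
    calc _ ≤ 2 * 2 := Nat.mul_le_mul hT h3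
      _ = 4 := rfl
  have hcle : Subgroup.centralizer (V : Set S) ≤ Subgroup.centralizer {s} :=
    Subgroup.centralizer_le (by simpa using hsV)
  have hVD : V = Subgroup.centralizer {s} :=
    Subgroup.eq_of_le_of_card_ge (hVle.trans hcle) (by rw [hV4]; exact hD)
  exact le_antisymm (hcle.trans hVD.ge) hVle

/-- the lifting argument -/
theorem main {R S : Type*} [Group R] [Finite R] [Group S] [Finite S] (φ : R →* S) (t : R)
    (hker : φ.ker = Subgroup.zpowers t) (ht : orderOf t = 2) {C : Subgroup S} (hC : Good C)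
    (A : Subgroup R) (hA : Cfsg.IsElementaryAbelian 2 A) (hA8 : Nat.card A = 8) (htA : t ∈ A) :
    Subgroup.centralizer (A : Set R) = A := by
  obtain ⟨hAc, hA2⟩ := hA
  have htle : Subgroup.zpowers t ≤ A := Subgroup.zpowers_le.mpr htA
  have hV4 : Nat.card (A.map φ) = 4 := by
    have h1 := Subgroup.relIndex_mul_relIndex ⊥ (Subgroup.zpowers t) A bot_le htle
    rw [Subgroup.relIndex_bot_left, Subgroup.relIndex_bot_left, Nat.card_zpowers, ht, hA8,
      ← hker, Subgroup.relIndex_ker] at h1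
    omega
  have hVsq : ∀ v ∈ A.map φ, v ^ 2 = 1 := by
    rintro _ ⟨a, ha, rfl⟩
    rw [← map_pow, hA2 a ha, map_one]
  have hcV := four_self_centralizing hC (A.map φ) hV4 hVsq
  apply le_antisymm
  · intro g hg
    have hφg : φ g ∈ Subgroup.centralizer ((A.map φ : Subgroup S) : Set S) := by
      rintro _ ⟨a, ha, rfl⟩
      rw [← map_mul, ← map_mul, hg a ha]
    rw [hcV] at hφg
    obtain ⟨a, ha, hag⟩ := hφg
    have hk : a⁻¹ * g ∈ φ.ker := by
      rw [MonoidHom.mem_ker, map_mul, map_inv, hag, inv_mul_cancel]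
    rw [hker] at hk
    have := A.mul_mem ha (htle hk)
    rwa [mul_inv_cancel_left] at this
  · exact Subgroup.le_centralizer_iff_isMulCommutative.mpr hAc

/-- the rotation subgroup of a dihedral group is good -/
theorem good_dihedral (m : ℕ) (hm : 2 ≤ m) :
    Good (Subgroup.zpowers (DihedralGroup.r 1 : DihedralGroup m)) := by
  have hmem : ∀ g : DihedralGroup m,
      g ∈ Subgroup.zpowers (DihedralGroup.r 1 : DihedralGroup m) ↔ ∃ i, g = DihedralGroup.r i := by
    intro g
    rw [Subgroup.mem_zpowers_iff]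
    constructor
    · rintro ⟨k, rfl⟩
      exact ⟨k, DihedralGroup.r_one_zpow k⟩
    · rintro ⟨i, rfl⟩
      haveI : NeZero m := ⟨by omega⟩
      refine ⟨(i.val : ℤ), ?_⟩
      rw [DihedralGroup.r_one_zpow]
      simp
  refine ⟨?_, Subgroup.isCyclic_zpowers _, ?_⟩
  · have h1 := Subgroup.card_mul_index (Subgroup.zpowers (DihedralGroup.r 1 : DihedralGroup m))
    rw [Nat.card_zpowers, DihedralGroup.orderOf_r_one, DihedralGroup.nat_card] at h1
    have hm0 : 0 < m := by omega
    have : m * (Subgroup.zpowers (DihedralGroup.r 1 : DihedralGroup m)).index = m * 2 := by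
      rw [h1]; ring
    exact Nat.eq_of_mul_eq_mul_left hm0 this
  · intro s hs c hc hcs
    rw [hmem] at hs hc
    obtain ⟨j, rfl⟩ := hc
    cases s with
    | r i => exact absurd ⟨i, rfl⟩ hs
    | sr i =>
      rw [DihedralGroup.r_mul_sr, DihedralGroup.sr_mul_r] at hcs
      have h1 : i - j = i + j := by injection hcs
      have h2 : j + j = 0 := by
        have : (i + j) - (i - j) = 0 := by rw [h1]; ring
        rw [← this]; ring
      rw [pow_two, DihedralGroup.r_mul_r, h2, DihedralGroup.r_zero]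

theorem gcd_aux (n : ℕ) (hn : 3 ≤ n) : Nat.gcd (2 ^ n) (2 ^ (n - 1) - 2) = 2 := by
  obtain ⟨k, rfl⟩ : ∃ k, n = k + 3 := ⟨n - 3, by omega⟩
  have h1 : 2 ^ (k + 3) = 2 * 2 ^ (k + 2) := by ring
  have h2 : 2 ^ (k + 3 - 1) - 2 = 2 * (2 ^ (k + 1) - 1) := by
    have h3 : k + 3 - 1 = k + 2 := by omega
    have h4 : 2 ^ (k + 2) = 2 * 2 ^ (k + 1) := by ring
    have h5 : 0 < 2 ^ (k + 1) := by positivity
    rw [h3, h4]
    omega
  rw [h1, h2, Nat.gcd_mul_left]
  have h6 : Nat.Coprime (2 ^ (k + 2)) (2 ^ (k + 1) - 1) := by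
    apply Nat.Coprime.pow_left
    rw [Nat.coprime_two_left]
    have h7 : 2 ^ (k + 1) = 2 * 2 ^ k := by ring
    have h8 : 0 < 2 ^ k := by positivity
    exact ⟨2 ^ k - 1, by omega⟩
  rw [h6.gcd_eq_one]

/-- the cyclic maximal subgroup of a quasi-dihedral group is good -/
theorem good_quasiDihedral {S : Type*} [Group S] [Finite S] (n : ℕ) (hn : 3 ≤ n)
    (hcard : Nat.card S = 2 ^ (n + 1)) (x y : S) (hx : orderOf x = 2 ^ n)
    (hyx : y * x * y⁻¹ = x ^ (2 ^ (n - 1) - 1)) : Good (Subgroup.zpowers x) := by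
  have hidx : (Subgroup.zpowers x).index = 2 := by
    have h1 := Subgroup.card_mul_index (Subgroup.zpowers x)
    rw [Nat.card_zpowers, hx, hcard, pow_succ] at h1
    exact Nat.eq_of_mul_eq_mul_left (by positivity) h1
  have hpow4 : 4 ≤ 2 ^ (n - 1) := by
    calc 4 = 2 ^ 2 := rfl
      _ ≤ 2 ^ (n - 1) := Nat.pow_le_pow_right two_pos (by omega)
  have hconj : ∀ c ∈ Subgroup.zpowers x, y * c * y⁻¹ = c ^ (2 ^ (n - 1) - 1) := by
    intro c hc
    obtain ⟨k, rfl⟩ := Subgroup.mem_zpowers_iff.mp hc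
    rw [← conj_zpow, hyx, ← zpow_natCast, ← zpow_mul, mul_comm, zpow_mul, zpow_natCast]
  have hsq : ∀ c ∈ Subgroup.zpowers x, c * y = y * c → c ^ 2 = 1 := by
    intro c hc hcy
    have h1 : c ^ (2 ^ (n - 1) - 1) = c := by
      rw [← hconj c hc, ← hcy, mul_inv_cancel_right]
    have h2 : c ^ (2 ^ (n - 1) - 2) = 1 := by
      have he : 2 ^ (n - 1) - 1 = (2 ^ (n - 1) - 2) + 1 := by omega
      rw [he, pow_succ] at h1
      exact mul_right_cancel (b := c) (by rw [h1, one_mul])
    have h3 : c ^ (2 ^ n) = 1 := by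
      obtain ⟨k, rfl⟩ := Subgroup.mem_zpowers_iff.mp hc
      rw [← zpow_natCast, ← zpow_mul, mul_comm, zpow_mul, zpow_natCast, ← hx, pow_orderOf_eq_one,
        one_zpow]
    rw [← gcd_aux n hn, pow_gcd_eq_one]
    exact ⟨h3, h2⟩
  have hyC : y ∉ Subgroup.zpowers x := by
    intro hy'
    have hcomm : x * y = y * x := by
      obtain ⟨k, rfl⟩ := Subgroup.mem_zpowers_iff.mp hy'
      exact ((Commute.refl x).zpow_right k).eq
    have h1 := hsq x (Subgroup.mem_zpowers x) hcomm
    have h2 := orderOf_dvd_of_pow_eq_one h1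
    rw [hx] at h2
    have h3 := Nat.le_of_dvd two_pos h2
    have h4 : 2 ^ n = 2 * 2 ^ (n - 1) := by
      rw [← pow_succ']; congr 1; omega
    omega
  refine ⟨hidx, Subgroup.isCyclic_zpowers _, ?_⟩
  intro s hs c hc hcs
  have hsy : s * y⁻¹ ∈ Subgroup.zpowers x := by
    rw [Subgroup.mul_mem_iff_of_index_two hidx]
    constructor
    · intro h; exact absurd h hs
    · intro h; exact absurd ((Subgroup.inv_mem_iff _).mp h) hyC
  apply hsq c hc
  have hcc : c * (s * y⁻¹) = (s * y⁻¹) * c := by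
    obtain ⟨k, rfl⟩ := Subgroup.mem_zpowers_iff.mp hc
    obtain ⟨l, hl⟩ := Subgroup.mem_zpowers_iff.mp hsy
    rw [← hl]
    exact (Commute.zpow_zpow_self x k l).eq
  -- `c` commutes with `s` and with `s * y⁻¹`, hence with `y`
  have h1 : c * s * y⁻¹ = s * c * y⁻¹ := by rw [hcs]
  have h2 : s * (c * y⁻¹) = s * (y⁻¹ * c) := by
    rw [← mul_assoc, ← h1, mul_assoc, hcc, mul_assoc]
  have h3 : c * y⁻¹ = y⁻¹ * c := mul_left_cancel h2
  calc c * y = y * (y⁻¹ * c) * y := by group
    _ = y * (c * y⁻¹) * y := by rw [h3]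
    _ = y * c := by group

/-- Let R be a finite group, t a central involution of R such that R ⧸ ⟨t⟩ is dihedral (of order ≥ 4) or quasi-dihedral, and A ≤ R an elementary abelian subgroup of order 8 containing t. Then C_R(A) = A. -/
theorem result {R : Type*} [Group R] [Finite R] (t : R) (ht : orderOf t = 2) (htz : t ∈ Subgroup.center R) [(Subgroup.zpowers t).Normal] (hq : (∃ m : ℕ, 2 ≤ m ∧ Nonempty (R ⧸ Subgroup.zpowers t ≃* DihedralGroup m)) ∨ Cfsg.IsQuasiDihedral (R ⧸ Subgroup.zpowers t)) (A : Subgroup R) (hA : Cfsg.IsElementaryAbelian 2 A) (hA8 : Nat.card A = 8) (htA : t ∈ A) : Subgroup.centralizer (A : Set R) = A := by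
  haveI : Finite (R ⧸ Subgroup.zpowers t) := inferInstance
  rcases hq with ⟨m, hm, ⟨e⟩⟩ | ⟨n, hn, hcard, x, y, hx, -, hyx⟩
  · haveI : NeZero m := ⟨by omega⟩
    haveI : Finite (DihedralGroup m) := inferInstance
    refine main (e.toMonoidHom.comp (QuotientGroup.mk' (Subgroup.zpowers t))) t ?_ ht
      (good_dihedral m hm) A hA hA8 htA
    ext g
    rw [MonoidHom.mem_ker, MonoidHom.comp_apply]
    simp
  · refine main (QuotientGroup.mk' (Subgroup.zpowers t)) t (QuotientGroup.ker_mk' _) ht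
      (good_quasiDihedral n hn hcard x y hx hyx) A hA hA8 htA

end Cfsg.Agent.S1236
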