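import Cfsg.Statements.S1243

set_option autoImplicit false
open Cfsg
open scoped Pointwise

namespace Cfsg.Agent.S1243

theorem mem_normalizer_of_map_eq {G : Type*} [Group G] (W : Subgroup G) (x : G)
    (h : W.map (MulAut.conj x).toMonoidHom = W) : x ∈ Subgroup.normalizer (W : Set G) := by
  rw [Subgroup.mem_normalizer_iff]
  intro n
  constructor
  · intro hn
    have : x * n * x⁻¹ ∈ W.map (MulAut.conj x).toMonoidHom := ⟨n, hn, by simp⟩
    rwa [h] at this
  · intro hn
    rw [← h] at hn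
    obtain ⟨w, hw, hwe⟩ := hn
    have : w = n := by
      have h2 : x * w * x⁻¹ = x * n * x⁻¹ := by simpa using hwe
      have h3 := congrArg (fun y => x⁻¹ * y * x) h2
      simpa [mul_assoc] using h3
    exact this ▸ hw


/-- Let T be a Sylow p-subgroup of the finite group G and W ≤ T a subgroup weakly closed in T. If d and g d g⁻¹ both centralize W, then g d g⁻¹ = h d h⁻¹ for some h ∈ N_G(W). -/
theorem result {G : Type*} [Group G] [Finite G] {p : ℕ} [Fact p.Prime] (T : Sylow p G) (W : Subgroup G) (hW : Cfsg.IsWeaklyClosed W (T : Subgroup G)) (d g : G) (hd : d ∈ Subgroup.centralizer (W : Set G)) (hgd : g * d * g⁻¹ ∈ Subgroup.centralizer (W : Set G)) : ∃ h ∈ Subgroup.normalizer (W : Set G), h * d * h⁻¹ = g * d * g⁻¹ := by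
  classical
  set d' := g * d * g⁻¹ with hd'
  set C : Subgroup G := Subgroup.centralizer ({d'} : Set G) with hC
  have memC : ∀ y : G, y ∈ C ↔ y * d' = d' * y := by
    intro y
    rw [hC, Subgroup.mem_centralizer_iff]
    constructor
    · intro h; exact (h d' rfl).symm
    · intro h z hz; rw [Set.mem_singleton_iff.1 hz]; exact h.symm
  have hWC : W ≤ C := by
    intro w hw
    rw [memC]
    exact (Subgroup.mem_centralizer_iff.1 hgd w hw)
  have hgWC : W.map (MulAut.conj g).toMonoidHom ≤ C := by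
    rintro _ ⟨w, hw, rfl⟩
    rw [memC]
    have := Subgroup.mem_centralizer_iff.1 hd w hw
    simp only [MulEquiv.toMonoidHom_eq_coe, MonoidHom.coe_coe, MulAut.conj_apply, hd']
    calc g * w * g⁻¹ * (g * d * g⁻¹) = g * (w * d) * g⁻¹ := by group
      _ = g * (d * w) * g⁻¹ := by rw [this]
      _ = g * d * g⁻¹ * (g * w * g⁻¹) := by group
  have hWp : IsPGroup p W := T.isPGroup'.to_le hW.1
  have hW1 : IsPGroup p (W.subgroupOf C) := hWp.comap_subtype
  have hW2 : IsPGroup p ((W.map (MulAut.conj g).toMonoidHom).subgroupOf C) :=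
    (hWp.map _).comap_subtype
  obtain ⟨P, hP⟩ := hW1.exists_le_sylow
  obtain ⟨Q, hQ⟩ := hW2.exists_le_sylow
  obtain ⟨c, hc⟩ := MulAction.exists_smul_eq C Q P
  have hPp : IsPGroup p ((P : Subgroup C).map C.subtype) := P.isPGroup'.map _
  obtain ⟨R, hR⟩ := hPp.exists_le_sylow
  obtain ⟨x, hx⟩ := MulAction.exists_smul_eq G R T
  -- elements of P conjugated by x land in T
  have hPT : ∀ y : C, y ∈ P → x * (y : G) * x⁻¹ ∈ (T : Subgroup G) := by
    intro y hy
    have h1 : (y : G) ∈ (R : Subgroup G) := hR ⟨y, hy, rfl⟩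
    have h2 : MulAut.conj x • (y : G) ∈ MulAut.conj x • (R : Subgroup G) :=
      Subgroup.smul_mem_pointwise_smul _ _ _ h1
    rw [← Sylow.coe_subgroup_smul, hx] at h2
    simpa [MulAut.smul_def] using h2
  have hx1 : W.map (MulAut.conj x).toMonoidHom ≤ T := by
    rintro _ ⟨w, hw, rfl⟩
    have := hPT ⟨w, hWC hw⟩ (hP (by simpa [Subgroup.mem_subgroupOf] using hw))
    simpa using this
  have hx2 : W.map (MulAut.conj (x * c * g)).toMonoidHom ≤ T := by
    rintro _ ⟨w, hw, rfl⟩
    have hgw : g * w * g⁻¹ ∈ W.map (MulAut.conj g).toMonoidHom := ⟨w, hw, by simp⟩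
    have hq : (⟨g * w * g⁻¹, hgWC hgw⟩ : C) ∈ Q := hQ (by simpa [Subgroup.mem_subgroupOf] using hgw)
    have hp : c * ⟨g * w * g⁻¹, hgWC hgw⟩ * c⁻¹ ∈ P := by
      have h2 : MulAut.conj c • (⟨g * w * g⁻¹, hgWC hgw⟩ : C) ∈ MulAut.conj c • (Q : Subgroup C) :=
        Subgroup.smul_mem_pointwise_smul _ _ _ hq
      rw [← Sylow.coe_subgroup_smul, hc] at h2
      have h3 : c * ⟨g * w * g⁻¹, hgWC hgw⟩ * c⁻¹ ∈ (P : Subgroup C) := by
        simpa [MulAut.smul_def] using h2
      exact h3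
    have := hPT _ hp
    simp only [MulEquiv.toMonoidHom_eq_coe, MonoidHom.coe_coe, MulAut.conj_apply]
    have e : x * ↑c * g * w * (x * ↑c * g)⁻¹ = x * ((c : G) * (g * w * g⁻¹) * (c : G)⁻¹) * x⁻¹ := by
      group
    rw [e]
    simpa using this
  have n1 := mem_normalizer_of_map_eq W x (hW.2 x hx1)
  have n2 := mem_normalizer_of_map_eq W (x * c * g) (hW.2 _ hx2)
  refine ⟨(c : G) * g, ?_, ?_⟩
  · have : (c : G) * g = x⁻¹ * (x * c * g) := by group
    rw [this]
    exact Subgroup.mul_mem _ (Subgroup.inv_mem _ n1) n2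
  · have hcC := (memC c).1 c.2
    calc (c : G) * g * d * ((c : G) * g)⁻¹ = (c : G) * d' * (c : G)⁻¹ := by rw [hd']; group
      _ = d' * (c : G) * (c : G)⁻¹ := by rw [hcC]
      _ = d' := by group

end Cfsg.Agent.S1243
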