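import Mathlib
import Cfsg.Statements.S1249

set_option autoImplicit false
open Cfsg

namespace Cfsg.Agent.S1249

theorem result {G : Type*} [Group G] [Finite G] {p : ℕ} [Fact p.Prime] (P Q : Sylow p G) (A : Subgroup G) (hAQ : A ≤ Q) (hA : Cfsg.IsStronglyClosed A (P : Subgroup G)) : Cfsg.IsStronglyClosed A (Q : Subgroup G) := by
  obtain ⟨hAP, hcl⟩ := hA
  refine ⟨hAQ, ?_⟩
  obtain ⟨h, hh⟩ := MulAction.exists_smul_eq G P Q
  -- membership in Q
  have hQ : ∀ x : G, x ∈ (Q : Subgroup G) ↔ h⁻¹ * x * h ∈ (P : Subgroup G) := by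
    intro x
    rw [← hh, Sylow.coe_subgroup_smul, Subgroup.mem_pointwise_smul_iff_inv_smul_mem]
    simp [MulAut.smul_def]
  -- h⁻¹ A h ≤ A
  have h1 : ∀ x ∈ A, h⁻¹ * x * h ∈ A := by
    intro x hx
    have := hcl x hx h⁻¹
    rw [inv_inv] at this
    exact this ((hQ x).mp (hAQ hx))
  -- by finiteness, h A h⁻¹ ≤ A
  have h2 : ∀ y ∈ A, h * y * h⁻¹ ∈ A := by
    let φ : A → A := fun x => ⟨h⁻¹ * x.1 * h, h1 x.1 x.2⟩
    have hinj : Function.Injective φ := by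
      intro x y hxy
      have : h⁻¹ * x.1 * h = h⁻¹ * y.1 * h := congrArg Subtype.val hxy
      apply Subtype.ext
      have h3 : x.1 = h * (h⁻¹ * x.1 * h) * h⁻¹ := by group
      rw [h3, this]; group
    have hsurj : Function.Surjective φ := Finite.surjective_of_injective hinj
    intro y hy
    obtain ⟨x, hx⟩ := hsurj ⟨y, hy⟩
    have : h⁻¹ * x.1 * h = y := congrArg Subtype.val hx
    rw [← this]
    have h3 : h * (h⁻¹ * x.1 * h) * h⁻¹ = x.1 := by group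
    rw [h3]
    exact x.2
  intro x hx g hg
  have h3 : (h⁻¹ * g) * x * (h⁻¹ * g)⁻¹ ∈ (P : Subgroup G) := by
    have := (hQ _).mp hg
    have e : h⁻¹ * g * x * (h⁻¹ * g)⁻¹ = h⁻¹ * (g * x * g⁻¹) * h := by group
    rw [e]; exact this
  have h4 := hcl x hx (h⁻¹ * g) h3
  have h5 := h2 _ h4
  have e : h * (h⁻¹ * g * x * (h⁻¹ * g)⁻¹) * h⁻¹ = g * x * g⁻¹ := by group
  rw [e] at h5
  exact h5

end Cfsg.Agent.S1249
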