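import Cfsg.Statements.S1250
import Mathlib.Algebra.Group.Subgroup.Pointwise
-- import your own Cfsg.Agent.* helpers here

set_option autoImplicit false
open Cfsg

namespace Cfsg.Agent.S1250

open scoped Pointwise in
/-- A `p`-element of `S N` (with `S` Sylow and `N` normal) is conjugate into `S` by an element of `N`. -/
theorem exists_conj_mem_sylow {G : Type*} [Group G] [Finite G] {p : ℕ} [Fact p.Prime] (S : Sylow p G)
    (N : Subgroup G) [N.Normal] (y : G) (hy : y ∈ (S : Subgroup G) ⊔ N)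
    (hyp : IsPGroup p (Subgroup.zpowers y)) : ∃ n ∈ N, n * y * n⁻¹ ∈ (S : Subgroup G) := by
  set K : Subgroup G := (S : Subgroup G) ⊔ N with hK
  have hSK : (S : Subgroup G) ≤ K := le_sup_left
  -- the cyclic `p`-subgroup generated by `y`, inside `K`
  have hY : IsPGroup p ((Subgroup.zpowers y).subgroupOf K) :=
    hyp.comap_subtype
  obtain ⟨Q, hQ⟩ := hY.exists_le_sylow
  obtain ⟨k, hk⟩ := MulAction.exists_smul_eq K Q (S.subtype hSK)
  have hyQ : (⟨y, hy⟩ : K) ∈ (Q : Subgroup K) :=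
    hQ (Subgroup.mem_subgroupOf.2 (Subgroup.mem_zpowers y))
  have hmem : k * ⟨y, hy⟩ * k⁻¹ ∈ ((k • Q : Sylow p K) : Subgroup K) := by
    rw [Sylow.coe_subgroup_smul]
    have := Subgroup.smul_mem_pointwise_smul (⟨y, hy⟩ : K) (MulAut.conj k) (Q : Subgroup K) hyQ
    simpa [MulAut.smul_def, MulAut.conj_apply] using this
  rw [hk, Sylow.coe_subtype, Subgroup.mem_subgroupOf] at hmem
  -- decompose `k = s * n`
  have hkmem : (k : G) ∈ ((S : Subgroup G) : Set G) * (N : Set G) := by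
    rw [← Subgroup.mul_normal]
    exact k.2
  obtain ⟨s, hs, n, hn, hsn⟩ := Set.mem_mul.1 hkmem
  refine ⟨n, hn, ?_⟩
  have h1 : ((k * ⟨y, hy⟩ * k⁻¹ : K) : G) = s * (n * y * n⁻¹) * s⁻¹ := by
    simp only [Subgroup.coe_mul, Subgroup.coe_inv, ← hsn]
    group
  rw [h1] at hmem
  have h2 : n * y * n⁻¹ = s⁻¹ * (s * (n * y * n⁻¹) * s⁻¹) * s := by group
  rw [h2]
  exact (S : Subgroup G).mul_mem ((S : Subgroup G).mul_mem ((S : Subgroup G).inv_mem hs) hmem) hs

/-- Let S be a Sylow p-subgroup of the finite group G, A ≤ S strongly closed in S, and N a normal subgroup. Then the image of A in G ⧸ N is strongly closed in the image of S (which is a Sylow p-subgroup of G ⧸ N). -/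
theorem result {G : Type*} [Group G] [Finite G] {p : ℕ} [Fact p.Prime] (S : Sylow p G) (A : Subgroup G) (hA : Cfsg.IsStronglyClosed A (S : Subgroup G)) (N : Subgroup G) [N.Normal] : Cfsg.IsStronglyClosed (A.map (QuotientGroup.mk' N)) ((S : Subgroup G).map (QuotientGroup.mk' N)) := by
  refine ⟨Subgroup.map_mono hA.1, ?_⟩
  rintro xb ⟨x, hxA, rfl⟩ gb hgb
  obtain ⟨g, rfl⟩ := QuotientGroup.mk'_surjective N gb
  -- the conjugate lies in `S N`
  have hy : g * x * g⁻¹ ∈ (S : Subgroup G) ⊔ N := by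
    obtain ⟨s, hs, hs'⟩ := hgb
    have h1 : (QuotientGroup.mk' N) (s⁻¹ * (g * x * g⁻¹)) = 1 := by
      rw [map_mul, map_inv, hs']
      simp only [map_mul, map_inv]
      group
    have h2 : s⁻¹ * (g * x * g⁻¹) ∈ N := by
      rwa [← QuotientGroup.ker_mk' N, MonoidHom.mem_ker]
    have h3 : g * x * g⁻¹ = s * (s⁻¹ * (g * x * g⁻¹)) := by group
    rw [h3]
    exact Subgroup.mul_mem _ (Subgroup.mem_sup_left hs) (Subgroup.mem_sup_right h2)
  have hyp : IsPGroup p (Subgroup.zpowers (g * x * g⁻¹)) := by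
    have hx : x ∈ (S : Subgroup G) := hA.1 hxA
    have hxp : IsPGroup p (Subgroup.zpowers x) :=
      S.isPGroup'.to_le ((Subgroup.zpowers_le).2 hx)
    have : Subgroup.zpowers (g * x * g⁻¹) = (Subgroup.zpowers x).map (MulAut.conj g).toMonoidHom := by
      rw [MonoidHom.map_zpowers]
      rfl
    rw [this]
    exact hxp.map _
  obtain ⟨n, hn, hmem⟩ := exists_conj_mem_sylow S N (g * x * g⁻¹) hy hyp
  have h4 : n * (g * x * g⁻¹) * n⁻¹ = (n * g) * x * (n * g)⁻¹ := by group
  rw [h4] at hmem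
  have h5 := hA.2 x hxA (n * g) hmem
  refine ⟨(n * g) * x * (n * g)⁻¹, h5, ?_⟩
  have hn1 : (QuotientGroup.mk' N) n = 1 := by
    rw [← MonoidHom.mem_ker, QuotientGroup.ker_mk' N]; exact hn
  simp only [map_mul, map_inv, hn1, one_mul]

end Cfsg.Agent.S1250
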