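import Cfsg.Statements.S1253
import Cfsg.Agent.Lib.Helper23_ZStarD
import Cfsg.Agent.S0201

set_option autoImplicit false
open Cfsg

namespace Cfsg.Agent.S1253

/-- Let z be an isolated involution of the finite group G with centralizer C, p an odd prime and P a Sylow p-subgroup of G normalized by z. Then P ∩ C has p-power-free index in C (it is a Sylow p-subgroup of C), and |P : C_P(z)| equals the number of elements x ∈ P with z x z⁻¹ = x⁻¹. -/
theorem result {G : Type*} [Group G] [Finite G] (z : G) (hz : Cfsg.IsIsolatedInvolution z) {p : ℕ} [Fact p.Prime] (hp : p ≠ 2) (P : Sylow p G) (hzP : z ∈ Subgroup.normalizer ((P : Subgroup G) : Set G)) : ¬ p ∣ ((P : Subgroup G) ⊓ Subgroup.centralizer ({z} : Set G)).relIndex (Subgroup.centralizer ({z} : Set G)) ∧ ((P : Subgroup G) ⊓ Subgroup.centralizer ({z} : Set G)).relIndex (P : Subgroup G) = Nat.card {x : G // x ∈ P ∧ z * x * z⁻¹ = x⁻¹} := by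
  have hBS : Cfsg.Agent.Lib.Helper23_ZStar.BrauerSuzukiHyp :=
    fun H _ _ S n e hO => Cfsg.Agent.S0201.result S n e hO
  have hodd := Cfsg.Agent.Lib.Helper23_ZStarC.oddProd_of_isIsolatedInvolution hz
  refine ⟨Cfsg.Agent.Lib.Helper23_ZStarD.not_dvd_relIndex_centralizer hBS hodd hp P hzP, ?_⟩
  have hpp : p.Prime := Fact.out
  have hPodd : Odd (Nat.card (P : Subgroup G)) := by
    obtain ⟨n, hn⟩ := IsPGroup.iff_card.mp P.2
    rw [hn]
    exact (hpp.odd_of_ne_two hp).pow
  have hcount := Cfsg.Agent.Lib.Helper23_ZStarD.card_eq_card_inverted_mul_card_centralizer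
    hz.1 (P : Subgroup G) hPodd hzP
  have h1 := Subgroup.relIndex_mul_relIndex (⊥ : Subgroup G)
    ((P : Subgroup G) ⊓ Subgroup.centralizer ({z} : Set G)) (P : Subgroup G) bot_le inf_le_left
  rw [Subgroup.relIndex_bot_left, Subgroup.relIndex_bot_left] at h1
  have hpos : 0 < Nat.card ((P : Subgroup G) ⊓ Subgroup.centralizer ({z} : Set G) : Subgroup G) :=
    Nat.card_pos
  have h2 : Nat.card ((P : Subgroup G) ⊓ Subgroup.centralizer ({z} : Set G) : Subgroup G) *
      ((P : Subgroup G) ⊓ Subgroup.centralizer ({z} : Set G)).relIndex (P : Subgroup G) =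
      Nat.card ((P : Subgroup G) ⊓ Subgroup.centralizer ({z} : Set G) : Subgroup G) *
      Nat.card {x : G // x ∈ P ∧ z * x * z⁻¹ = x⁻¹} := by
    rw [h1, mul_comm]
    exact hcount
  exact Nat.eq_of_mul_eq_mul_left hpos h2

end Cfsg.Agent.S1253
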