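import Cfsg.Statements.S3276

set_option autoImplicit false
open Cfsg

namespace Cfsg.Agent.S3276

variable {G : Type*} [Group G]

/-- an involution is its own inverse -/
theorem inv_eq_self_of_orderOf_two {a : G} (ha : orderOf a = 2) : a⁻¹ = a := by
  have h : a ^ 2 = 1 := by rw [← ha]; exact pow_orderOf_eq_one a
  rw [inv_eq_iff_mul_eq_one, ← sq, h]

/-- Two non-conjugate involutions in a finite group commute with a common involution lying in the
group they generate. -/
theorem exists_involution_commute [Finite G] (x y : G) (hx : orderOf x = 2) (hy : orderOf y = 2)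
    (hnc : ¬ IsConj x y) : ∃ u : G, orderOf u = 2 ∧ Commute u x ∧ Commute y u := by
  have hx2 : x * x = 1 := by rw [← sq, ← hx]; exact pow_orderOf_eq_one x
  have hy2 : y * y = 1 := by rw [← sq, ← hy]; exact pow_orderOf_eq_one y
  have hxi : x⁻¹ = x := inv_eq_self_of_orderOf_two hx
  have hyi : y⁻¹ = y := inv_eq_self_of_orderOf_two hy
  set w := x * y with hw
  have hwi : w⁻¹ = y * x := by rw [hw, mul_inv_rev, hxi, hyi]
  have hxw : x * w * x⁻¹ = w⁻¹ := by
    rw [hwi, hw]
    calc x * (x * y) * x⁻¹ = (x * x) * y * x⁻¹ := by group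
      _ = y * x := by rw [hx2, one_mul, hxi]
  have hyw : y * w * y⁻¹ = w⁻¹ := by
    rw [hwi, hw]
    calc y * (x * y) * y⁻¹ = y * x * (y * y⁻¹) := by group
      _ = y * x := by rw [mul_inv_cancel, mul_one]
  have hxwn : ∀ n : ℕ, x * w ^ n * x⁻¹ = (w ^ n)⁻¹ := by
    intro n
    have := map_pow (MulAut.conj x) w n
    simp only [MulAut.conj_apply] at this
    rw [this, hxw, inv_pow]
  have hywn : ∀ n : ℕ, y * w ^ n * y⁻¹ = (w ^ n)⁻¹ := by
    intro n
    have := map_pow (MulAut.conj y) w n
    simp only [MulAut.conj_apply] at this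
    rw [this, hyw, inv_pow]
  have hk : 0 < orderOf w := orderOf_pos w
  rcases Nat.even_or_odd' (orderOf w) with ⟨j, hj | hj⟩
  · -- even order: take u = w ^ j
    have hj0 : j ≠ 0 := by rintro rfl; omega
    refine ⟨w ^ j, ?_, ?_, ?_⟩
    · rw [orderOf_pow' w hj0, hj, Nat.gcd_eq_right ⟨2, by ring⟩]
      exact Nat.mul_div_cancel _ (Nat.pos_of_ne_zero hj0)
    · have hu2 : w ^ j * w ^ j = 1 := by
        rw [← pow_add, ← two_mul, ← hj]; exact pow_orderOf_eq_one w
      have hui : (w ^ j)⁻¹ = w ^ j := by rw [inv_eq_iff_mul_eq_one]; exact hu2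
      have := hxwn j
      rw [hui] at this
      -- x * u * x⁻¹ = u
      show w ^ j * x = x * w ^ j
      calc w ^ j * x = (x * w ^ j * x⁻¹) * x := by rw [this]
        _ = x * w ^ j := by group
    · have hu2 : w ^ j * w ^ j = 1 := by
        rw [← pow_add, ← two_mul, ← hj]; exact pow_orderOf_eq_one w
      have hui : (w ^ j)⁻¹ = w ^ j := by rw [inv_eq_iff_mul_eq_one]; exact hu2
      have := hywn j
      rw [hui] at this
      show y * w ^ j = w ^ j * y
      calc y * w ^ j = (y * w ^ j * y⁻¹) * y := by group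
        _ = w ^ j * y := by rw [this]
  · -- odd order: x and y conjugate
    exfalso
    apply hnc
    rw [isConj_iff]
    refine ⟨w ^ j, ?_⟩
    -- w^j x w^{-j} = w^{2j} x = w⁻¹ x = y
    have h1 : x * (w ^ j)⁻¹ = w ^ j * x := by
      have := hxwn j
      have h' : x * (w ^ j)⁻¹ * x⁻¹ = w ^ j := by
        calc x * (w ^ j)⁻¹ * x⁻¹ = (x * w ^ j * x⁻¹)⁻¹ := by group
          _ = w ^ j := by rw [this, inv_inv]
      calc x * (w ^ j)⁻¹ = (x * (w ^ j)⁻¹ * x⁻¹) * x := by group
        _ = w ^ j * x := by rw [h']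
    have h2 : w ^ (2 * j + 1) = 1 := by rw [← hj]; exact pow_orderOf_eq_one w
    have h3 : w ^ j * w ^ j = w⁻¹ := by
      rw [eq_inv_iff_mul_eq_one, ← pow_add, ← pow_succ, ← two_mul]; exact h2
    calc w ^ j * x * (w ^ j)⁻¹ = w ^ j * (x * (w ^ j)⁻¹) := by group
      _ = w ^ j * (w ^ j * x) := by rw [h1]
      _ = (w ^ j * w ^ j) * x := by group
      _ = y := by rw [h3, hwi, mul_assoc, hx2, mul_one]


theorem card_le_two_of_forall {α : Type*} [Finite α] (a b : α) (h : ∀ z : α, z = a ∨ z = b) :
    Nat.card α ≤ 2 := by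
  classical
  have hinj : Function.Injective (fun z : α => decide (z = a)) := by
    intro z z' hzz
    simp only [decide_eq_decide] at hzz
    rcases h z with rfl | rfl
    · exact (hzz.mp rfl).symm
    · rcases h z' with rfl | rfl
      · exact hzz.mpr rfl
      · rfl
  have := Nat.card_le_card_of_injective _ hinj
  simpa using this

theorem result {G : Type*} [Group G] [Finite G] (x y : G) (hx : orderOf x = 2) (hy : orderOf y = 2)
    (hxy : Commute x y) (hnc : ¬ IsConj x y)
    (hstar : ∀ u : G, orderOf u = 2 → Commute u x → ∀ g : G, Commute (g * y * g⁻¹) u → Commute (g * y * g⁻¹) y) :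
    Subgroup.normalClosure ({y} : Set G) ≠ ⊤ ∧ Cfsg.IsElementaryAbelian 2 (Subgroup.normalClosure ({y} : Set G)) ∧
      ((∀ u ∈ Subgroup.normalClosure ({y} : Set G), orderOf u = 2 → Commute u x → u = y) →
        Nat.card ↥(Subgroup.normalClosure ({y} : Set G)) ≤ 4) := by
  have hx2 : x * x = 1 := by rw [← sq, ← hx]; exact pow_orderOf_eq_one x
  have hy2 : y * y = 1 := by rw [← sq, ← hy]; exact pow_orderOf_eq_one y
  have hxi : x⁻¹ = x := inv_eq_self_of_orderOf_two hx
  have hx1 : x ≠ 1 := by rintro rfl; simp at hx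
  have hxney : x ≠ y := by rintro rfl; exact hnc (IsConj.refl _)
  -- Step A: every conjugate of y commutes with y
  have hA : ∀ g : G, Commute (g * y * g⁻¹) y := by
    intro g
    have ho : orderOf (g * y * g⁻¹) = 2 := by
      have : g * y * g⁻¹ = MulAut.conj g y := by simp [MulAut.conj_apply]
      rw [this, MulEquiv.orderOf_eq, hy]
    have hnc' : ¬ IsConj x (g * y * g⁻¹) := by
      intro h
      apply hnc
      refine h.trans ?_
      exact (isConj_iff.mpr ⟨g, rfl⟩ : IsConj y (g * y * g⁻¹)).symm
    obtain ⟨u, hu, hux, hyu⟩ := exists_involution_commute x (g * y * g⁻¹) hx ho hnc'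
    exact hstar u hu hux g hyu
  -- Step B: generators commute pairwise
  have hB : ∀ a ∈ Group.conjugatesOfSet ({y} : Set G), ∀ b ∈ Group.conjugatesOfSet ({y} : Set G),
      a * b = b * a := by
    intro a ha b hb
    rw [Group.mem_conjugatesOfSet_iff] at ha hb
    obtain ⟨c, hc, ha⟩ := ha
    obtain ⟨d, hd, hb⟩ := hb
    rw [Set.mem_singleton_iff] at hc hd
    rw [hc] at ha
    rw [hd] at hb
    rw [isConj_iff] at ha hb
    obtain ⟨g, rfl⟩ := ha
    obtain ⟨h, rfl⟩ := hb
    have := hA (h⁻¹ * g)
    have h1 : h * ((h⁻¹ * g) * y * (h⁻¹ * g)⁻¹) * h⁻¹ = g * y * g⁻¹ := by group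
    have h2 := this.eq
    calc g * y * g⁻¹ * (h * y * h⁻¹)
        = h * (((h⁻¹ * g) * y * (h⁻¹ * g)⁻¹) * y) * h⁻¹ := by group
      _ = h * (y * ((h⁻¹ * g) * y * (h⁻¹ * g)⁻¹)) * h⁻¹ := by rw [h2]
      _ = h * y * h⁻¹ * (g * y * g⁻¹) := by group
  set N := Subgroup.normalClosure ({y} : Set G) with hN
  have hNdef : N = Subgroup.closure (Group.conjugatesOfSet ({y} : Set G)) := rfl
  -- commutativity on N
  have hcomm : ∀ a ∈ N, ∀ b ∈ N, a * b = b * a := by
    intro a ha b hb
    rw [hNdef] at ha hb
    have hle : Subgroup.closure (Group.conjugatesOfSet ({y} : Set G)) ≤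
        Subgroup.centralizer (Group.conjugatesOfSet ({y} : Set G)) := by
      rw [Subgroup.closure_le]
      intro c hc
      rw [SetLike.mem_coe, Subgroup.mem_centralizer_iff]
      intro d hd
      exact hB d hd c hc
    have hle2 : Subgroup.closure (Group.conjugatesOfSet ({y} : Set G)) ≤
        Subgroup.centralizer (Subgroup.closure (Group.conjugatesOfSet ({y} : Set G)) : Set G) := by
      rw [Subgroup.centralizer_closure]
      exact hle
    have := hle2 hb
    rw [Subgroup.mem_centralizer_iff] at this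
    exact this a ha
  -- exponent two on N
  have hexp : ∀ a ∈ N, a ^ 2 = 1 := by
    intro a ha
    rw [hNdef] at ha
    induction ha using Subgroup.closure_induction with
    | mem c hc =>
      rw [Group.mem_conjugatesOfSet_iff] at hc
      obtain ⟨d, hd, hc⟩ := hc
      rw [Set.mem_singleton_iff] at hd
      rw [hd] at hc
      rw [isConj_iff] at hc
      obtain ⟨g, rfl⟩ := hc
      rw [sq]
      calc g * y * g⁻¹ * (g * y * g⁻¹) = g * (y * y) * g⁻¹ := by group
        _ = 1 := by rw [hy2]; group
    | one => simp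
    | mul a b ha hb iha ihb =>
      have hab := hcomm a (by rw [hNdef]; exact ha) b (by rw [hNdef]; exact hb)
      rw [sq] at iha ihb ⊢
      calc a * b * (a * b) = a * (b * a) * b := by group
        _ = a * (a * b) * b := by rw [hab]
        _ = (a * a) * (b * b) := by group
        _ = 1 := by rw [iha, ihb, one_mul]
    | inv a ha iha =>
      rw [inv_pow, iha, inv_one]
  have hyN : y ∈ N := Subgroup.subset_normalClosure (Set.mem_singleton y)
  refine ⟨?_, ⟨⟨⟨fun a b => Subtype.ext (hcomm a a.2 b b.2)⟩⟩, hexp⟩, ?_⟩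
  · -- properness
    intro htop
    have hGcomm : ∀ a b : G, a * b = b * a := fun a b =>
      hcomm a (by rw [htop]; trivial) b (by rw [htop]; trivial)
    have hle : N ≤ Subgroup.zpowers y := by
      rw [hNdef, Subgroup.closure_le]
      intro c hc
      rw [Group.mem_conjugatesOfSet_iff] at hc
      obtain ⟨d, hd, hc⟩ := hc
      rw [Set.mem_singleton_iff] at hd
      rw [hd] at hc
      rw [isConj_iff] at hc
      obtain ⟨g, rfl⟩ := hc
      rw [hGcomm g y, mul_assoc, mul_inv_cancel, mul_one]
      exact Subgroup.mem_zpowers y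
    have hxz : x ∈ Subgroup.zpowers y := hle (by rw [htop]; trivial)
    rw [Subgroup.mem_zpowers_iff] at hxz
    obtain ⟨k, hk⟩ := hxz
    rcases Int.even_or_odd' k with ⟨j, rfl | rfl⟩
    · rw [zpow_mul, zpow_two, hy2, one_zpow] at hk
      exact hx1 hk.symm
    · rw [zpow_add, zpow_mul, zpow_two, hy2, one_zpow, one_mul, zpow_one] at hk
      exact hxney hk.symm
  · -- the order bound
    intro huniq
    have hnorm : N.Normal := Subgroup.normalClosure_normal
    -- every element of N commuting with x is 1 or y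
    have hfix : ∀ n ∈ N, x * n = n * x → n = 1 ∨ n = y := by
      intro n hn hc
      by_cases h1 : n = 1
      · exact Or.inl h1
      · right
        have ho : orderOf n = 2 := orderOf_eq_prime (hexp n hn) h1
        exact huniq n hn ho hc.symm
    -- the homomorphism n ↦ n * x n x⁻¹
    let φ : N →* N := MonoidHom.mk' (fun n => n * ⟨x * n * x⁻¹, hnorm.conj_mem n n.2 x⟩) (by
      intro a b
      apply Subtype.ext
      have h := hcomm b b.2 (x * a * x⁻¹) (hnorm.conj_mem a a.2 x)
      show (a : G) * b * (x * (a * b) * x⁻¹) = a * (x * a * x⁻¹) * (b * (x * b * x⁻¹))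
      calc (a : G) * b * (x * (a * b) * x⁻¹) = a * (b * (x * a * x⁻¹)) * (x * b * x⁻¹) := by group
        _ = a * ((x * a * x⁻¹) * b) * (x * b * x⁻¹) := by rw [h]
        _ = a * (x * a * x⁻¹) * (b * (x * b * x⁻¹)) := by group)
    have hφ : ∀ n : N, ((φ n : N) : G) = n * (x * n * x⁻¹) := fun n => rfl
    have hker : ∀ n : φ.ker, n = 1 ∨ n = ⟨⟨y, hyN⟩, by
        rw [MonoidHom.mem_ker]
        apply Subtype.ext
        rw [hφ]
        show y * (x * y * x⁻¹) = 1
        rw [hxy.eq, mul_assoc, mul_inv_cancel, mul_one, hy2]⟩ := by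
      intro n
      have hn := n.2
      rw [MonoidHom.mem_ker] at hn
      have hn' : ((n : N) : G) * (x * n * x⁻¹) = 1 := by
        have := congrArg Subtype.val hn
        rwa [hφ] at this
      have hn2 : ((n : N) : G) * (n : N) = 1 := by
        have := hexp _ (n : N).2
        rwa [sq] at this
      have hc : x * ((n : N) : G) = (n : N) * x := by
        have h3 : x * ((n : N) : G) * x⁻¹ = (n : N) := by
          have : ((n : N) : G) * (x * n * x⁻¹) = (n : N) * (n : N) := by rw [hn', hn2]
          exact mul_left_cancel this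
        calc x * ((n : N) : G) = (x * (n : N) * x⁻¹) * x := by group
          _ = (n : N) * x := by rw [h3]
      rcases hfix _ (n : N).2 hc with h | h
      · left; apply Subtype.ext; apply Subtype.ext; exact h
      · right; apply Subtype.ext; apply Subtype.ext; exact h
    have hrange : ∀ m : φ.range, m = 1 ∨ (m : N) = ⟨y, hyN⟩ := by
      intro m
      obtain ⟨n, hn⟩ := m.2
      have hm : ((m : N) : G) = n * (x * n * x⁻¹) := by rw [← hn, hφ]
      have hc : x * ((m : N) : G) = (m : N) * x := by
        rw [hm]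
        have h := hcomm n n.2 (x * n * x⁻¹) (hnorm.conj_mem n n.2 x)
        calc x * ((n : G) * (x * n * x⁻¹)) = x * ((x * n * x⁻¹) * n) := by rw [h]
          _ = (x * x) * n * x⁻¹ * n := by group
          _ = n * x * n := by rw [hx2, one_mul, hxi]
          _ = n * (x * n * x⁻¹) * x := by group
      rcases hfix _ (m : N).2 hc with h | h
      · left; apply Subtype.ext; apply Subtype.ext; exact h
      · right; apply Subtype.ext; exact h
    have hcard_ker : Nat.card φ.ker ≤ 2 := card_le_two_of_forall _ _ hker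
    have hcard_range : Nat.card φ.range ≤ 2 := by
      by_cases hyr : (⟨y, hyN⟩ : N) ∈ φ.range
      · exact card_le_two_of_forall 1 ⟨⟨y, hyN⟩, hyr⟩ (fun m => by
          rcases hrange m with h | h
          · exact Or.inl h
          · exact Or.inr (Subtype.ext h))
      · exact card_le_two_of_forall 1 1 (fun m => by
          rcases hrange m with h | h
          · exact Or.inl h
          · exact absurd (h ▸ m.2) hyr)
    have hmul : Nat.card φ.ker * Nat.card φ.range = Nat.card N := by
      rw [← Subgroup.index_ker, Subgroup.card_mul_index]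
    calc Nat.card N = Nat.card φ.ker * Nat.card φ.range := hmul.symm
      _ ≤ 2 * 2 := Nat.mul_le_mul hcard_ker hcard_range
      _ = 4 := rfl

end Cfsg.Agent.S3276
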