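import Cfsg.Statements.S3864
import Cfsg.Agent.Lib.Helper55_DihedralCoord
import Cfsg.Agent.Lib.Helper55_DihedralNPC2
import Cfsg.Agent.Lib.Helper4_Sylow2
import Cfsg.Agent.S3276

set_option autoImplicit false
open Cfsg

namespace Cfsg.Agent.S3864

open Subgroup Cfsg.Agent.Lib Cfsg.Agent.Lib.Helper55_DihedralCoord
  Cfsg.Agent.Lib.Helper35_FrobeniusNPC

/-- the classes of involutions -/
abbrev InvClass (G : Type*) [Group G] : Type _ :=
  {C : ConjClasses G // ∃ g : G, ConjClasses.mk g = C ∧ orderOf g = 2}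

/-- the class of an involution -/
def cls {G : Type*} [Group G] (u : G) (hu : orderOf u = 2) : InvClass G :=
  ⟨ConjClasses.mk u, u, rfl, hu⟩

theorem cls_eq_iff {G : Type*} [Group G] (u v : G) (hu : orderOf u = 2) (hv : orderOf v = 2) :
    cls u hu = cls v hv ↔ IsConj u v := by
  rw [← ConjClasses.mk_eq_mk_iff_isConj]
  constructor
  · intro h; exact congrArg Subtype.val h
  · intro h; exact Subtype.ext h

/-- every involution is conjugate into a Sylow `2`-subgroup -/
theorem exists_conj_mem_sylow {G : Type*} [Group G] [Finite G] (P : Sylow 2 G) (t : G)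
    (ht : orderOf t = 2) : ∃ x ∈ (P : Subgroup G), IsConj t x := by
  have : Fact (Nat.Prime 2) := ⟨Nat.prime_two⟩
  have hpg : IsPGroup 2 (zpowers t) := Helper4_Sylow2.isPGroup_zpowers_of_orderOf_two t ht
  obtain ⟨Q, hQ⟩ := hpg.exists_le_sylow
  obtain ⟨g, hg⟩ := MulAction.exists_smul_eq G Q P
  have htQ : t ∈ (Q : Subgroup G) := hQ (mem_zpowers t)
  have hgt : g * t * g⁻¹ ∈ (P : Subgroup G) := by
    rw [← hg, Sylow.coe_subgroup_smul]
    have := Subgroup.smul_mem_pointwise_smul t (MulAut.conj g) (Q : Subgroup G) htQ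
    rwa [MulAut.smul_def, MulAut.conj_apply] at this
  exact ⟨_, hgt, isConj_iff.mpr ⟨g, rfl⟩⟩

theorem no_double_eq_one {m : ℕ} (hm : 2 ∣ m) (j : ZMod m) : j + j ≠ 1 := by
  intro h
  have h1 := congrArg (ZMod.castHom hm (ZMod 2)) h
  rw [map_add, map_one, CharTwo.add_self_eq_zero] at h1
  exact zero_ne_one h1

section main

variable {G : Type*} [Group G] [Finite G] (P : Sylow 2 G) {k : ℕ}
  (e : ↥(P : Subgroup G) ≃* DihedralGroup (2 ^ (k + 2)))

/-- the central involution -/
def zz : G := (R e 1) ^ 2 ^ (k + 1)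

include e in
theorem zz_facts : zz P e ^ 2 = 1 ∧ zz P e ≠ 1 ∧ orderOf (zz P e) = 2 ∧ zz P e ∈ zpowers (R e 1) ∧
    zz P e = (R e 1 * R e 1) ^ 2 ^ k := by
  have ho : orderOf (R e 1) = 2 ^ (k + 2) := orderOf_R_one e
  have h2 : zz P e ^ 2 = 1 := by
    unfold zz
    have e1 : 2 ^ (k + 1) * 2 = 2 ^ (k + 2) := by ring
    rw [← pow_mul, e1]
    have h3 := pow_orderOf_eq_one (R e 1)
    rw [ho] at h3
    exact h3
  have h1 : zz P e ≠ 1 := by
    unfold zz
    exact pow_ne_one_of_lt_orderOf (by positivity)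
      (by rw [ho]; exact Nat.pow_lt_pow_right (by norm_num) (by omega))
  refine ⟨h2, h1, orderOf_eq_prime h2 h1, pow_mem (mem_zpowers _) _, ?_⟩
  unfold zz
  have e1 : 2 ^ (k + 1) = 2 * 2 ^ k := by ring
  rw [e1, pow_mul, pow_two]

include e in
/-- involutions of `P` -/
theorem inv_cases {x : G} (hx : x ∈ (P : Subgroup G)) (hxo : orderOf x = 2) :
    x = zz P e ∨ IsConj x (SR e 0) ∨ IsConj x (SR e 1) := by
  have : NeZero (2 ^ (k + 2)) := ⟨by positivity⟩
  rcases cases_mem e hx with ⟨i, rfl⟩ | ⟨i, rfl⟩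
  · left
    exact Helper4_Sylow2.involution_unique_of_isCyclic_subgroup (zpowers (R e 1)) inferInstance _ _
      ((mem_zpowers_iff e _).mpr ⟨i, rfl⟩) (zz_facts P e).2.2.2.1 hxo (zz_facts P e).2.2.1
  · right
    exact SR_isConj e i

include e in
theorem inv_cover (u : G) (hu : orderOf u = 2) :
    IsConj u (zz P e) ∨ IsConj u (SR e 0) ∨ IsConj u (SR e 1) := by
  obtain ⟨x, hx, hux⟩ := exists_conj_mem_sylow P u hu
  have hxo : orderOf x = 2 := by
    obtain ⟨g, hg⟩ := isConj_iff.mp hux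
    rw [← hg, Helper34_Sylow.orderOf_conj', hu]
  rcases inv_cases P e hx hxo with h | h | h
  · left; rw [← h]; exact hux
  · right; left; exact hux.trans h
  · right; right; exact hux.trans h

include e in
/-- elements of `P` modulo a normal subgroup containing `ρ²` and a reflection -/
theorem mem_or_mem (N : Subgroup G) (hρ2 : R e 1 * R e 1 ∈ N) (j : ZMod (2 ^ (k + 2)))
    (hj : SR e j ∈ N) {x : G} (hx : x ∈ (P : Subgroup G)) : x ∈ N ∨ (R e 1)⁻¹ * x ∈ N := by
  have hpow : ∀ l : ℤ, (R e 1) ^ l ∈ N ∨ (R e 1)⁻¹ * (R e 1) ^ l ∈ N := by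
    intro l
    rcases Int.even_or_odd' l with ⟨q, rfl | rfl⟩
    · left
      rw [zpow_mul, zpow_two]
      exact zpow_mem hρ2 q
    · right
      have e2 : (R e 1)⁻¹ * (R e 1) ^ (2 * q + 1) = (R e 1 * R e 1) ^ q := by
        rw [zpow_add_one, zpow_mul, zpow_two]
        have hc : Commute (R e 1)⁻¹ ((R e 1 * R e 1) ^ q) :=
          ((Commute.refl (R e 1)).inv_left.mul_right (Commute.refl (R e 1)).inv_left).zpow_right q
        rw [← mul_assoc, hc.eq, mul_assoc, inv_mul_cancel, mul_one]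
      rw [e2]
      exact zpow_mem hρ2 q
  rcases cases_mem e hx with ⟨i, rfl⟩ | ⟨i, rfl⟩
  · rw [R_eq_zpow e i]
    exact hpow _
  · have e3 : SR e i = R e (j - i) * SR e j := by rw [R_mul_SR]; congr 1; ring
    rw [e3, R_eq_zpow e (j - i)]
    rcases hpow (ZMod.cast (j - i) : ℤ) with h | h
    · left; exact N.mul_mem h hj
    · right; rw [← mul_assoc]; exact N.mul_mem h hj

include e in
/-- one class of involutions: no normal subgroup of index two -/
theorem caseA (hA : IsConj (zz P e) (SR e 0)) (hB : IsConj (zz P e) (SR e 1)) :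
    Nat.card (InvClass G) = 1 ∧ ∀ N : Subgroup G, N.Normal → N.index ≠ 2 := by
  have : Fact (Nat.Prime 2) := ⟨Nat.prime_two⟩
  obtain ⟨hz2, hz1, hzo, hzmem, hzpow⟩ := zz_facts P e
  constructor
  · rw [Nat.card_eq_one_iff_exists]
    refine ⟨cls (zz P e) hzo, ?_⟩
    rintro ⟨C, u, rfl, hu⟩
    show cls u hu = cls (zz P e) hzo
    rw [cls_eq_iff]
    rcases inv_cover P e u hu with h | h | h
    · exact h
    · exact h.trans hA.symm
    · exact h.trans hB.symm
  · intro N hN hN2
    have hρ2 : R e 1 * R e 1 ∈ N := Subgroup.mul_self_mem_of_index_two hN2 _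
    have hzN : zz P e ∈ N := by rw [hzpow]; exact pow_mem hρ2 _
    have h0 : SR e 0 ∈ N := by
      obtain ⟨g, hg⟩ := isConj_iff.mp hA
      rw [← hg]; exact hN.conj_mem _ hzN g
    have h1 : SR e 1 ∈ N := by
      obtain ⟨g, hg⟩ := isConj_iff.mp hB
      rw [← hg]; exact hN.conj_mem _ hzN g
    have hρ : R e 1 ∈ N := by
      have e1 : R e 1 = SR e 0 * SR e 1 := by rw [SR_mul_SR, sub_zero]
      rw [e1]; exact N.mul_mem h0 h1
    have hPN : (P : Subgroup G) ≤ N := by
      intro x hx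
      rcases mem_or_mem P e N hρ2 0 h0 hx with h | h
      · exact h
      · have e1 : x = R e 1 * ((R e 1)⁻¹ * x) := by group
        rw [e1]; exact N.mul_mem hρ h
    have hdvd : N.index ∣ (P : Subgroup G).index := Subgroup.index_dvd_of_le hPN
    rw [hN2] at hdvd
    exact P.not_dvd_index hdvd

include e in
/-- two classes of involutions -/
theorem caseB (jA jB : ZMod (2 ^ (k + 2)))
    (hcov : ∀ u : G, orderOf u = 2 →
      IsConj u (zz P e) ∨ IsConj u (SR e jA) ∨ IsConj u (SR e jB))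
    (hA : IsConj (zz P e) (SR e jA)) (hB : ¬ IsConj (zz P e) (SR e jB)) :
    Nat.card (InvClass G) = 2 ∧ (∃ N : Subgroup G, N.Normal ∧ N.index = 2) ∧
      ∀ N : Subgroup G, N.Normal → N.index ≠ 4 := by
  have : Fact (Nat.Prime 2) := ⟨Nat.prime_two⟩
  have : NeZero (2 ^ (k + 2)) := ⟨by positivity⟩
  obtain ⟨hz2, hz1, hzo, hzmem, hzpow⟩ := zz_facts P e
  refine ⟨?_, ?_, ?_⟩
  · rw [Nat.card_eq_two_iff]
    refine ⟨cls (zz P e) hzo, cls (SR e jB) (orderOf_SR e jB), ?_, ?_⟩
    · rw [Ne, cls_eq_iff]; exact hB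
    · rw [Set.eq_univ_iff_forall]
      rintro ⟨C, u, rfl, hu⟩
      show cls u hu ∈ _
      rcases hcov u hu with h | h | h
      · left; rw [cls_eq_iff]; exact h
      · left; rw [cls_eq_iff]; exact h.trans hA.symm
      · right; rw [Set.mem_singleton_iff, cls_eq_iff]; exact h
  · obtain ⟨M, hM2, -⟩ := Helper55_Transfer.exists_index_two_of_nonextremal P (zpowers (R e 1))
      (zpowers_le e) (relIndex_zpowers e) (SR e jB) (orderOf_SR e jB) (by
        intro y hy hconj
        exfalso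
        have hyo : orderOf y = 2 := by
          obtain ⟨g, hg⟩ := isConj_iff.mp hconj
          rw [← hg, Helper34_Sylow.orderOf_conj', orderOf_SR]
        have hyz : y = zz P e := Helper4_Sylow2.involution_unique_of_isCyclic_subgroup
          (zpowers (R e 1)) inferInstance _ _ hy hzmem hyo hzo
        rw [hyz] at hconj
        exact hB hconj.symm)
    exact ⟨M, Subgroup.normal_of_index_eq_two hM2, hM2⟩
  · intro N hN hN4
    -- the quotient is abelian
    have hcardQ : Nat.card (G ⧸ N) = 2 ^ 2 := by rw [← Subgroup.index_eq_card, hN4]; norm_num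
    have hcomm := (IsPGroup.isMulCommutative_of_card_eq_prime_sq hcardQ).is_comm.comm
    have hρ2 : R e 1 * R e 1 ∈ N := by
      have e1 : R e 1 * R e 1 = R e 1 * SR e jA * (R e 1)⁻¹ * (SR e jA)⁻¹ := by
        have e2 := SR_conj_R e jA (-1)
        rw [← R_inv, inv_inv] at e2
        calc R e 1 * R e 1 = R e 1 * (SR e jA * (R e 1)⁻¹ * (SR e jA)⁻¹) := by rw [e2]
          _ = R e 1 * SR e jA * (R e 1)⁻¹ * (SR e jA)⁻¹ := by group
      rw [e1, ← QuotientGroup.eq_one_iff]
      simp only [QuotientGroup.mk_mul, QuotientGroup.mk_inv]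
      rw [hcomm (↑(R e 1)) (↑(SR e jA))]
      group
    have hzN : zz P e ∈ N := by rw [hzpow]; exact pow_mem hρ2 _
    have hAN : SR e jA ∈ N := by
      obtain ⟨g, hg⟩ := isConj_iff.mp hA
      rw [← hg]; exact hN.conj_mem _ hzN g
    -- P ⊔ N = ⊤
    have htop : (P : Subgroup G) ⊔ N = ⊤ := by
      rw [← Subgroup.index_eq_one]
      have h1 : ((P : Subgroup G) ⊔ N).index ∣ (P : Subgroup G).index :=
        Subgroup.index_dvd_of_le le_sup_left
      have h2 : ((P : Subgroup G) ⊔ N).index ∣ 2 ^ 2 := by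
        have := Subgroup.index_dvd_of_le (le_sup_right : N ≤ (P : Subgroup G) ⊔ N)
        rw [hN4] at this
        exact this
      obtain ⟨a, -, ha⟩ := (Nat.dvd_prime_pow Nat.prime_two).mp h2
      rcases Nat.eq_zero_or_pos a with h0 | h0
      · rw [ha, h0, pow_zero]
      · exfalso
        apply P.not_dvd_index
        refine dvd_trans ?_ h1
        rw [ha]
        exact dvd_pow_self 2 (by omega)
    have hall : ∀ q : G ⧸ N, q = 1 ∨ q = ((R e 1 : G) : G ⧸ N) := by
      intro q
      obtain ⟨g, rfl⟩ := QuotientGroup.mk_surjective q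
      have hg : g ∈ ((P : Subgroup G) ⊔ N : Subgroup G) := by rw [htop]; exact mem_top g
      rw [← SetLike.mem_coe, Subgroup.mul_normal] at hg
      obtain ⟨p, hp, n', hn', rfl⟩ := Set.mem_mul.mp hg
      have hn1 : ((n' : G) : G ⧸ N) = 1 := (QuotientGroup.eq_one_iff _).mpr hn'
      rcases mem_or_mem P e N hρ2 jA hAN hp with h | h
      · left
        rw [QuotientGroup.mk_mul, hn1, mul_one]
        exact (QuotientGroup.eq_one_iff _).mpr h
      · right
        rw [QuotientGroup.mk_mul, hn1, mul_one]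
        have h3 : (((R e 1)⁻¹ * p : G) : G ⧸ N) = 1 := (QuotientGroup.eq_one_iff _).mpr h
        rw [QuotientGroup.mk_mul, QuotientGroup.mk_inv] at h3
        exact (inv_mul_eq_one.mp h3).symm
    have hle := S3276.card_le_two_of_forall (1 : G ⧸ N) ((R e 1 : G) : G ⧸ N) hall
    rw [hcardQ] at hle
    omega

include e in
/-- three classes of involutions -/
theorem caseC (hA : ¬ IsConj (zz P e) (SR e 0)) (hB : ¬ IsConj (zz P e) (SR e 1)) :
    Nat.card (InvClass G) = 3 ∧ Cfsg.HasNormalPComplement 2 G := by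
  have : Fact (Nat.Prime 2) := ⟨Nat.prime_two⟩
  have : NeZero (2 ^ (k + 2)) := ⟨by positivity⟩
  obtain ⟨hz2, hz1, hzo, hzmem, hzpow⟩ := zz_facts P e
  have hnpc : HasNPC 2 G := by
    apply Helper55_DihedralNPC2.hasNPC_of_dihedralLike_of_not_isConj _ G rfl P (R e 1) (SR e 0)
      (R_mem e 1) (SR_mem e 0)
    · intro y hy hyo x hx hxρ hconj
      have hyz : y = zz P e := Helper4_Sylow2.involution_unique_of_isCyclic_subgroup
        (zpowers (R e 1)) inferInstance _ _ hy hzmem hyo hzo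
      rw [hyz] at hconj
      rcases cases_mem e hx with ⟨i, rfl⟩ | ⟨i, rfl⟩
      · exact hxρ ((mem_zpowers_iff e _).mpr ⟨i, rfl⟩)
      · rcases SR_isConj e i with h | h
        · exact hA (hconj.symm.trans h)
        · exact hB (hconj.symm.trans h)
    · exact SR_mul_self e 0
    · exact SR_conj_R e 0 1
    · intro x hx
      exact mem_or_SR_mul_mem e 0 hx
  have hfrob := frobHyp_of_hasNPC hnpc
  obtain ⟨K, hKn, hKc, j, hKi⟩ := hnpc
  refine ⟨?_, P, K, hKn, isComplement'_of_npc hKc hKi P⟩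
  -- the three classes are distinct
  have h01 : ¬ IsConj (SR e 0) (SR e 1) := by
    intro hconj
    obtain ⟨g, hg⟩ := isConj_iff.mp hconj
    have hgx : g * SR e 0 * g⁻¹ ∈ (P : Subgroup G) := by rw [hg]; exact SR_mem e 1
    obtain ⟨y, hy, hyy⟩ := fusion hfrob P (SR_mem e 0) hgx
    rw [hg] at hyy
    have h2 : (2 : ℕ) ∣ 2 ^ (k + 2) := dvd_pow_self 2 (by omega)
    rcases cases_mem e hy with ⟨i, rfl⟩ | ⟨i, rfl⟩
    · rw [R_conj_SR] at hyy
      have h3 := SR_injective e hyy
      apply no_double_eq_one h2 (-i)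
      rw [h3]; ring
    · rw [SR_inv, SR_mul_SR, R_mul_SR] at hyy
      have h3 := SR_injective e hyy
      apply no_double_eq_one h2 i
      rw [h3]; ring
  rw [← Set.ncard_univ, Set.ncard_eq_three]
  refine ⟨cls (zz P e) hzo, cls (SR e 0) (orderOf_SR e 0), cls (SR e 1) (orderOf_SR e 1), ?_, ?_, ?_, ?_⟩
  · rw [Ne, cls_eq_iff]; exact hA
  · rw [Ne, cls_eq_iff]; exact hB
  · rw [Ne, cls_eq_iff]; exact h01
  · symm
    rw [Set.eq_univ_iff_forall]
    rintro ⟨C, u, rfl, hu⟩
    show cls u hu ∈ _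
    rcases inv_cover P e u hu with h | h | h
    · left; rw [cls_eq_iff]; exact h
    · right; left; rw [cls_eq_iff]; exact h
    · right; right; rw [Set.mem_singleton_iff, cls_eq_iff]; exact h

end main

/-- Let G be a finite group whose Sylow 2-subgroups are dihedral of order 2 ^ n with n ≥ 3, and count the conjugacy classes of involutions of G. Then exactly one of the following holds: there is one class of involutions and no normal subgroup of index 2; there are two classes of involutions, a normal subgroup of index 2 and none of index 4; there are three classes of involutions and G has a normal 2-complement. -/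
theorem result {G : Type*} [Group G] [Finite G] (P : Sylow 2 G) (n : ℕ) (hn : 3 ≤ n) (hdih : Nonempty (↥(P : Subgroup G) ≃* DihedralGroup (2 ^ (n - 1)))) : (Nat.card {C : ConjClasses G // ∃ g : G, ConjClasses.mk g = C ∧ orderOf g = 2} = 1 ∧ ∀ N : Subgroup G, N.Normal → N.index ≠ 2) ∨ (Nat.card {C : ConjClasses G // ∃ g : G, ConjClasses.mk g = C ∧ orderOf g = 2} = 2 ∧ (∃ N : Subgroup G, N.Normal ∧ N.index = 2) ∧ ∀ N : Subgroup G, N.Normal → N.index ≠ 4) ∨ (Nat.card {C : ConjClasses G // ∃ g : G, ConjClasses.mk g = C ∧ orderOf g = 2} = 3 ∧ Cfsg.HasNormalPComplement 2 G) := by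
  classical
  obtain ⟨k, rfl⟩ : ∃ k, n = k + 3 := ⟨n - 3, by omega⟩
  have e1 : k + 3 - 1 = k + 2 := by omega
  rw [e1] at hdih
  obtain ⟨e⟩ := hdih
  by_cases hA : IsConj (zz P e) (SR e 0)
  · by_cases hB : IsConj (zz P e) (SR e 1)
    · exact Or.inl (caseA P e hA hB)
    · exact Or.inr (Or.inl (caseB P e 0 1 (inv_cover P e) hA hB))
  · by_cases hB : IsConj (zz P e) (SR e 1)
    · refine Or.inr (Or.inl (caseB P e 1 0 ?_ hB hA))
      intro u hu
      rcases inv_cover P e u hu with h | h | h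
      · exact Or.inl h
      · exact Or.inr (Or.inr h)
      · exact Or.inr (Or.inl h)
    · exact Or.inr (Or.inr (caseC P e hA hB))

end Cfsg.Agent.S3864
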