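import Cfsg.Statements.S1254
import Cfsg.Agent.S3864
import Cfsg.Agent.Lib.Helper2_Transfer
import Cfsg.Agent.Lib.Helper2_Sylow
import Cfsg.Agent.Lib.Helper32_Sylow
import Cfsg.Agent.Lib.Helper50_Basic

set_option autoImplicit false
open Cfsg

namespace Cfsg.Agent.S1254

open Subgroup Cfsg.Agent.Lib Cfsg.Agent.Lib.Helper55_DihedralCoord

/-- an element mapping a finite subgroup into itself by conjugation normalizes it -/
theorem mem_normalizer_of_forall {X : Type*} [Group X] [Finite X] (U : Subgroup X) (g : X)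
    (h : ∀ u ∈ U, g * u * g⁻¹ ∈ U) : g ∈ normalizer (U : Set X) :=
  Helper50_Basic.mem_normalizer_of_map_conj_le (by
    rintro _ ⟨u, hu, rfl⟩
    simpa using h u hu)

/-- With a normal complement `K` to the Sylow subgroup `S`, normalizers of subgroups of `S`
factorize. -/
theorem forward {X : Type*} [Group X] (S K : Subgroup X) [hKn : K.Normal]
    (hc : K.IsComplement' S) (U : Subgroup X) (hU : U ≤ S) :
    normalizer (U : Set X) = centralizer (U : Set X) ⊔ (S ⊓ normalizer (U : Set X)) := by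
  apply le_antisymm
  · intro g hg
    obtain ⟨⟨⟨k, hk⟩, ⟨s, hs⟩⟩, hks, -⟩ := (isComplement'_def.mp hc).existsUnique g
    simp only at hks
    have key : ∀ g' k' s' : X, g' ∈ normalizer (U : Set X) → k' ∈ K → s' ∈ S → k' * s' = g' →
        ∀ u ∈ U, s' * u * s'⁻¹ = g' * u * g'⁻¹ := by
      intro g' k' s' hg' hk' hs' hks' u hu
      have hw : g' * u * g'⁻¹ ∈ U := (mem_normalizer_iff.mp hg' u).mp hu
      have hv : s' * u * s'⁻¹ ∈ S := mul_mem (mul_mem hs' (hU hu)) (inv_mem hs')
      have hwv : g' * u * g'⁻¹ = k' * (s' * u * s'⁻¹) * k'⁻¹ := by rw [← hks']; group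
      have h1 : (g' * u * g'⁻¹) * (s' * u * s'⁻¹)⁻¹ ∈ K := by
        rw [hwv]
        have e1 : k' * (s' * u * s'⁻¹) * k'⁻¹ * (s' * u * s'⁻¹)⁻¹ =
            k' * ((s' * u * s'⁻¹) * k'⁻¹ * (s' * u * s'⁻¹)⁻¹) := by group
        rw [e1]
        exact K.mul_mem hk' (hKn.conj_mem _ (K.inv_mem hk') _)
      have h2 : (g' * u * g'⁻¹) * (s' * u * s'⁻¹)⁻¹ ∈ S := mul_mem (hU hw) (inv_mem hv)
      have h3 : (g' * u * g'⁻¹) * (s' * u * s'⁻¹)⁻¹ = 1 := by
        have := hc.disjoint.le_bot ⟨h1, h2⟩
        simpa using this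
      exact (mul_inv_eq_one.mp h3).symm
    have hsN : s ∈ normalizer (U : Set X) := by
      rw [mem_normalizer_iff]
      intro u
      constructor
      · intro hu
        rw [key g k s hg hk hs hks u hu]
        exact (mem_normalizer_iff.mp hg u).mp hu
      · intro hu
        have hg' : g⁻¹ ∈ normalizer (U : Set X) := inv_mem hg
        have h4 := key g⁻¹ (s⁻¹ * k⁻¹ * s⁻¹⁻¹) s⁻¹ hg' (hKn.conj_mem _ (K.inv_mem hk) _)
          (inv_mem hs) (by rw [← hks]; group) (s * u * s⁻¹) hu
        have h5 : g⁻¹ * (s * u * s⁻¹) * g⁻¹⁻¹ ∈ U := (mem_normalizer_iff.mp hg' _).mp hu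
        rw [← h4] at h5
        have e1 : s⁻¹ * (s * u * s⁻¹) * s⁻¹⁻¹ = u := by group
        rwa [e1] at h5
    have hkC : k ∈ centralizer (U : Set X) := by
      have hkN : k ∈ normalizer (U : Set X) := by
        have e1 : k = g * s⁻¹ := by rw [← hks]; group
        rw [e1]; exact mul_mem hg (inv_mem hsN)
      rw [mem_centralizer_iff]
      intro u hu
      have hw : k * u * k⁻¹ ∈ U := (mem_normalizer_iff.mp hkN u).mp hu
      have h1 : k * u * k⁻¹ * u⁻¹ ∈ K := by
        have e1 : k * u * k⁻¹ * u⁻¹ = k * (u * k⁻¹ * u⁻¹) := by group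
        rw [e1]
        exact K.mul_mem hk (hKn.conj_mem _ (K.inv_mem hk) u)
      have h2 : k * u * k⁻¹ * u⁻¹ ∈ S := mul_mem (hU hw) (inv_mem (hU hu))
      have h3 : k * u * k⁻¹ * u⁻¹ = 1 := by
        have := hc.disjoint.le_bot ⟨h1, h2⟩
        simpa using this
      calc u * k = (k * u * k⁻¹ * u⁻¹)⁻¹ * (k * u) := by group
        _ = k * u := by rw [h3]; group
    rw [← hks]
    exact mul_mem_sup hkC ⟨hs, hsN⟩
  · exact sup_le (centralizer_le_normalizer _) inf_le_right

section big

variable {X : Type*} [Group X] [Finite X] (S : Sylow 2 X) {k : ℕ}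
  (e : ↥(S : Subgroup X) ≃* DihedralGroup (2 ^ (k + 2)))

/-- the coordinate of the central involution -/
def hh (k : ℕ) : ZMod (2 ^ (k + 2)) := ((2 ^ (k + 1) : ℕ) : ZMod (2 ^ (k + 2)))

/-- half of it -/
def qq (k : ℕ) : ZMod (2 ^ (k + 2)) := ((2 ^ k : ℕ) : ZMod (2 ^ (k + 2)))

theorem hh_add_hh (k : ℕ) : hh k + hh k = 0 := by
  unfold hh
  rw [← Nat.cast_add]
  have e1 : 2 ^ (k + 1) + 2 ^ (k + 1) = 2 ^ (k + 2) := by ring
  rw [e1]
  exact ZMod.natCast_self _

theorem qq_add_qq (k : ℕ) : qq k + qq k = hh k := by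
  unfold hh qq
  rw [← Nat.cast_add]
  congr 1
  ring

theorem neg_hh (k : ℕ) : -hh k = hh k := neg_eq_of_add_eq_zero_left (hh_add_hh k)

theorem two_torsion (i : ZMod (2 ^ (k + 2))) (hi : i + i = 0) : i = 0 ∨ i = hh k := by
  have : NeZero (2 ^ (k + 2)) := ⟨by positivity⟩
  have hv : ((i.val : ℕ) : ZMod (2 ^ (k + 2))) = i := ZMod.natCast_zmod_val i
  have h1 : ((i.val + i.val : ℕ) : ZMod (2 ^ (k + 2))) = 0 := by
    rw [Nat.cast_add, hv]; exact hi
  rw [ZMod.natCast_eq_zero_iff] at h1
  have hlt : i.val < 2 ^ (k + 2) := ZMod.val_lt i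
  obtain ⟨c, hc⟩ := h1
  have e1 : 2 ^ (k + 2) = 2 * 2 ^ (k + 1) := by ring
  have hc2 : c < 2 := by
    by_contra hcon
    push Not at hcon
    have : 2 ^ (k + 2) * 2 ≤ 2 ^ (k + 2) * c := Nat.mul_le_mul_left _ hcon
    omega
  interval_cases c
  · left
    have : i.val = 0 := by omega
    rw [← hv, this, Nat.cast_zero]
  · right
    have : i.val = 2 ^ (k + 1) := by omega
    rw [← hv, this]; rfl

include e in
theorem zz_eq : S3864.zz S e = R e (hh k) := by
  unfold S3864.zz hh
  rw [← zpow_natCast, R_one_zpow, Int.cast_natCast]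

include e in
theorem z_central {x : X} (hx : x ∈ (S : Subgroup X)) : x * R e (hh k) = R e (hh k) * x := by
  rcases cases_mem e hx with ⟨i, rfl⟩ | ⟨i, rfl⟩
  · rw [R_mul_R, R_mul_R]
    congr 1
    exact add_comm _ _
  · rw [SR_mul_R, R_mul_SR]
    congr 1
    rw [sub_eq_add_neg, neg_hh]

/-- the four-group `C_S(s)` for a reflection `s` -/
def four (j : ZMod (2 ^ (k + 2))) : Subgroup X :=
  (S : Subgroup X) ⊓ centralizer ({SR e j} : Set X)

include e in
theorem mem_four_iff (j : ZMod (2 ^ (k + 2))) (x : X) :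
    x ∈ four S e j ↔ x = 1 ∨ x = R e (hh k) ∨ x = SR e j ∨ x = SR e (j + hh k) := by
  unfold four
  rw [mem_inf, mem_centralizer_iff]
  constructor
  · rintro ⟨hxS, hc⟩
    have hc' : SR e j * x = x * SR e j := hc _ rfl
    rcases cases_mem e hxS with ⟨i, rfl⟩ | ⟨i, rfl⟩
    · rw [SR_mul_R, R_mul_SR] at hc'
      have h1 := SR_injective e hc'
      have h2 : i + i = 0 := by linear_combination h1
      rcases two_torsion i h2 with h | h
      · left; rw [h, R_zero]
      · right; left; rw [h]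
    · rw [SR_mul_SR, SR_mul_SR] at hc'
      have h1 := R_injective e hc'
      have h2 : (i - j) + (i - j) = 0 := by linear_combination h1
      rcases two_torsion (i - j) h2 with h | h
      · right; right; left
        rw [sub_eq_zero.mp h]
      · right; right; right
        have : i = j + hh k := by rw [← h]; ring
        rw [this]
  · rintro (rfl | rfl | rfl | rfl)
    · refine ⟨one_mem _, ?_⟩
      intro w hw; rw [Set.mem_singleton_iff] at hw; rw [hw, mul_one, one_mul]
    · refine ⟨R_mem e _, ?_⟩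
      intro w hw; rw [Set.mem_singleton_iff] at hw; rw [hw]
      exact z_central S e (SR_mem e j)
    · refine ⟨SR_mem e _, ?_⟩
      intro w hw; rw [Set.mem_singleton_iff] at hw; rw [hw]
    · refine ⟨SR_mem e _, ?_⟩
      intro w hw; rw [Set.mem_singleton_iff] at hw; rw [hw, SR_mul_SR, SR_mul_SR]
      congr 1
      have := neg_hh k
      calc j + hh k - j = hh k := by ring
        _ = -hh k := this.symm
        _ = j - (j + hh k) := by ring

include e in
theorem isKleinFour_four (j : ZMod (2 ^ (k + 2))) : IsKleinFour (four S e j) := by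
  obtain ⟨hz2, hz1, hzo, hzmem, hzpow⟩ := S3864.zz_facts S e
  rw [zz_eq S e] at hz1 hzo
  have hset : ((four S e j : Subgroup X) : Set X) =
      {1, R e (hh k), SR e j, SR e (j + hh k)} := by
    ext x
    rw [SetLike.mem_coe, mem_four_iff S e]
    simp only [Set.mem_insert_iff, Set.mem_singleton_iff]
  have hne : hh k ≠ 0 := by
    intro h
    rw [h, R_zero] at hz1
    exact hz1 rfl
  have hcard : Nat.card (four S e j) = 4 := by
    have h0 : Nat.card (four S e j) = ((four S e j : Subgroup X) : Set X).ncard := rfl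
    rw [h0, hset]
    rw [Set.ncard_insert_of_notMem, Set.ncard_insert_of_notMem, Set.ncard_pair]
    · intro h
      have := SR_injective e h
      apply hne
      linear_combination -this
    · simp only [Set.mem_insert_iff, Set.mem_singleton_iff]
      rintro (h | h)
      · exact R_ne_SR e _ _ h
      · exact R_ne_SR e _ _ h
    · simp only [Set.mem_insert_iff, Set.mem_singleton_iff]
      rintro (h | h | h)
      · exact hz1 h.symm
      · rw [← R_zero e] at h; exact R_ne_SR e _ _ h
      · rw [← R_zero e] at h; exact R_ne_SR e _ _ h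
  have hfin : Finite (four S e j) := inferInstance
  have hnt : Nontrivial (four S e j) := by
    rw [← Finite.one_lt_card_iff_nontrivial, hcard]; norm_num
  refine ⟨hcard, ?_⟩
  rw [Monoid.exponent_eq_prime_iff Nat.prime_two]
  rintro ⟨x, hx⟩ hx1
  rw [← Subgroup.orderOf_coe]
  show orderOf x = 2
  rcases (mem_four_iff S e j x).mp hx with rfl | rfl | rfl | rfl
  · exact absurd rfl hx1
  · exact hzo
  · exact orderOf_SR e _
  · exact orderOf_SR e _

include e in
/-- under the hypothesis on `four`, the central involution is not fused to the reflection -/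
theorem not_isConj (j : ZMod (2 ^ (k + 2)))
    (hyp : normalizer ((four S e j : Subgroup X) : Set X) =
      centralizer ((four S e j : Subgroup X) : Set X) ⊔
        ((S : Subgroup X) ⊓ normalizer ((four S e j : Subgroup X) : Set X))) :
    ¬ IsConj (R e (hh k)) (SR e j) := by
  have : Fact (Nat.Prime 2) := ⟨Nat.prime_two⟩
  have : NeZero (2 ^ (k + 2)) := ⟨by positivity⟩
  obtain ⟨hz2, hz1, hzo, hzmem, hzpow⟩ := S3864.zz_facts S e
  rw [zz_eq S e] at hz1 hzo hzmem
  intro hconj
  obtain ⟨g, hg⟩ := isConj_iff.mp hconj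
  -- N(U) centralizes z
  have hNz : normalizer ((four S e j : Subgroup X) : Set X) ≤ centralizer ({R e (hh k)} : Set X) := by
    rw [hyp]
    apply sup_le
    · apply centralizer_le
      rw [Set.singleton_subset_iff, SetLike.mem_coe, mem_four_iff S e]
      right; left; rfl
    · intro x hx
      rw [mem_centralizer_iff]
      intro w hw
      rw [Set.mem_singleton_iff] at hw
      rw [hw]
      exact (z_central S e hx.1).symm
  -- conjugate U into S
  have hle : ((g • S : Sylow 2 X) : Subgroup X) ≤ centralizer ({SR e j} : Set X) := by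
    intro x hx
    have hx' : g⁻¹ * x * g ∈ (S : Subgroup X) := (Helper2_Sylow.mem_smul_sylow_iff' g x S).mp hx
    rw [mem_centralizer_iff]
    intro w hw
    rw [Set.mem_singleton_iff] at hw
    rw [hw, ← hg]
    have h1 := z_central S e hx'
    calc g * R e (hh k) * g⁻¹ * x = g * (R e (hh k) * (g⁻¹ * x * g)) * g⁻¹ := by group
      _ = g * ((g⁻¹ * x * g) * R e (hh k)) * g⁻¹ := by rw [h1]
      _ = x * (g * R e (hh k) * g⁻¹) := by group
  obtain ⟨c, hc, hcx⟩ := Helper32_Sylow.sylow_conj_into (centralizer ({SR e j} : Set X)) (g • S) hle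
    (four S e j) inf_le_right (S.2.to_le inf_le_left)
  have hcs : c * SR e j = SR e j * c := by
    rw [mem_centralizer_iff] at hc
    exact (hc _ rfl).symm
  -- h = g⁻¹ c
  obtain ⟨h, hh'⟩ : ∃ h, h = g⁻¹ * c := ⟨_, rfl⟩
  have hmemS : ∀ x ∈ four S e j, h * x * h⁻¹ ∈ (S : Subgroup X) := by
    intro x hx
    have h1 := (Helper2_Sylow.mem_smul_sylow_iff' g _ S).mp (hcx x hx)
    have e1 : h * x * h⁻¹ = g⁻¹ * (c * x * c⁻¹) * g := by rw [hh']; group
    rw [e1]; exact h1
  have hhs : h * SR e j * h⁻¹ = R e (hh k) := by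
    have e1 : h * SR e j * h⁻¹ = g⁻¹ * (c * SR e j * c⁻¹) * g := by rw [hh']; group
    rw [e1, hcs, mul_assoc (SR e j), mul_inv_cancel, mul_one, ← hg]
    group
  -- t' = h z h⁻¹
  have hzU : R e (hh k) ∈ four S e j := by
    rw [mem_four_iff S e]; right; left; rfl
  have htS := hmemS _ hzU
  have hto : orderOf (h * R e (hh k) * h⁻¹) = 2 := by
    rw [Helper34_Sylow.orderOf_conj', hzo]
  have htne : h * R e (hh k) * h⁻¹ ≠ R e (hh k) := by
    intro h1
    have h1' : h * R e (hh k) * h⁻¹ = h * SR e j * h⁻¹ := h1.trans hhs.symm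
    have h2 : R e (hh k) = SR e j := mul_left_cancel (mul_right_cancel h1')
    exact R_ne_SR e _ _ h2
  obtain ⟨j', hj'⟩ : ∃ j', h * R e (hh k) * h⁻¹ = SR e j' := by
    rcases cases_mem e htS with ⟨i, hi⟩ | ⟨i, hi⟩
    · exfalso
      apply htne
      exact Helper4_Sylow2.involution_unique_of_isCyclic_subgroup (zpowers (R e 1)) inferInstance
        _ _ ((mem_zpowers_iff e _).mpr ⟨i, hi⟩) hzmem hto hzo
    · exact ⟨i, hi⟩
  -- the element μ = h⁻¹ ν h with ν = R qq
  obtain ⟨μ, hμ⟩ : ∃ μ, μ = h⁻¹ * R e (qq k) * h := ⟨_, rfl⟩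
  -- μ z μ⁻¹ = z s
  have hs_eq : h⁻¹ * R e (hh k) * h = SR e j := by rw [← hhs]; group
  have ht_eq : h⁻¹ * SR e j' * h = R e (hh k) := by rw [← hj']; group
  have hμz : μ * R e (hh k) * μ⁻¹ = R e (hh k) * SR e j := by
    have e1 : μ * R e (hh k) * μ⁻¹ =
        h⁻¹ * (R e (qq k) * (h * R e (hh k) * h⁻¹) * (R e (qq k))⁻¹) * h := by rw [hμ]; group
    have e2 : SR e (j' - qq k - qq k) = R e (hh k) * SR e j' := by
      rw [R_mul_SR]; congr 1; rw [← qq_add_qq]; ring
    rw [e1, hj', R_conj_SR, e2]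
    calc h⁻¹ * (R e (hh k) * SR e j') * h
        = (h⁻¹ * R e (hh k) * h) * (h⁻¹ * SR e j' * h) := by group
      _ = SR e j * R e (hh k) := by rw [hs_eq, ht_eq]
      _ = R e (hh k) * SR e j := z_central S e (SR_mem e j)
  have hμs : μ * SR e j * μ⁻¹ = SR e j := by
    have e1 : μ * SR e j * μ⁻¹ =
        h⁻¹ * (R e (qq k) * (h * SR e j * h⁻¹) * (R e (qq k))⁻¹) * h := by rw [hμ]; group
    rw [e1, hhs, R_inv, R_mul_R, R_mul_R]
    have e2 : qq k + hh k + -qq k = hh k := by ring
    rw [e2]
    exact hs_eq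
  have hzs : R e (hh k) * SR e j = SR e (j + hh k) := by
    rw [R_mul_SR]; congr 1; rw [sub_eq_add_neg, neg_hh]
  have hμN : μ ∈ normalizer ((four S e j : Subgroup X) : Set X) := by
    apply mem_normalizer_of_forall
    intro u hu
    rw [mem_four_iff S e] at hu ⊢
    rcases hu with rfl | rfl | rfl | rfl
    · left; group
    · right; right; right; rw [hμz, hzs]
    · right; right; left; exact hμs
    · right; left
      rw [← hzs]
      have e1 : μ * (R e (hh k) * SR e j) * μ⁻¹ = (μ * R e (hh k) * μ⁻¹) * (μ * SR e j * μ⁻¹) := by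
        group
      rw [e1, hμz, hμs, mul_assoc, SR_mul_self, mul_one]
  have hμc := hNz hμN
  rw [mem_centralizer_iff] at hμc
  have h1 : R e (hh k) * μ = μ * R e (hh k) := hμc _ rfl
  have h2 : μ * R e (hh k) * μ⁻¹ = R e (hh k) := by rw [← h1]; group
  rw [hμz] at h2
  have h3 : SR e j = 1 := mul_left_cancel (h2.trans (mul_one _).symm)
  have h4 := orderOf_SR e j
  rw [h3, orderOf_one] at h4
  omega

end big

/-- Let X be a finite group whose Sylow 2-subgroup S is dihedral (of order at least 4). Then X has a normal 2-complement if and only if, for every Klein four-subgroup U ≤ S, the normalizer N_X(U) is generated by C_X(U) and N_S(U). -/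
theorem result {X : Type*} [Group X] [Finite X] (S : Sylow 2 X) (m : ℕ) (hm : 2 ≤ m) (eS : (S : Subgroup X) ≃* DihedralGroup m) : Cfsg.HasNormalPComplement 2 X ↔ ∀ U : Subgroup X, U ≤ S → IsKleinFour U → Subgroup.normalizer (U : Set X) = Subgroup.centralizer (U : Set X) ⊔ ((S : Subgroup X) ⊓ Subgroup.normalizer (U : Set X)) := by
  classical
  have : Fact (Nat.Prime 2) := ⟨Nat.prime_two⟩
  constructor
  · intro h U hU _
    obtain ⟨K, hKn, hc⟩ := (Helper2_Transfer.hasNormalPComplement_iff S).mp h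
    exact forward (S : Subgroup X) K hc U hU
  · intro hyp
    -- m is a power of two
    obtain ⟨a, ha⟩ := IsPGroup.iff_card.mp S.2
    rw [card_eq eS] at ha
    obtain ⟨b, hb⟩ : ∃ b, m = 2 ^ b := by
      have h1 : m ∣ 2 ^ a := ⟨2, by rw [← ha]; ring⟩
      obtain ⟨b, -, hb⟩ := (Nat.dvd_prime_pow Nat.prime_two).mp h1
      exact ⟨b, hb⟩
    have hb1 : 1 ≤ b := by
      rcases Nat.eq_zero_or_pos b with h | h
      · rw [hb, h] at hm; norm_num at hm
      · exact h
    rcases Nat.lt_or_ge b 2 with hb2 | hb2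
    · -- Klein four Sylow subgroup
      have hm2 : m = 2 := by
        have : b = 1 := by omega
        rw [hb, this, pow_one]
      subst hm2
      have hK : IsKleinFour (S : Subgroup X) := by
        refine ⟨?_, ?_⟩
        · rw [card_eq eS]
        · rw [Monoid.exponent_eq_of_mulEquiv eS]
          exact IsKleinFour.exponent_two
      have h1 := hyp (S : Subgroup X) le_rfl hK
      apply Helper2_Transfer.hasNormalPComplement_of_normalizer_le_centralizer S
      show normalizer ((S : Subgroup X) : Set X) ≤ centralizer ((S : Subgroup X) : Set X)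
      rw [h1]
      apply sup_le le_rfl
      intro x hx
      have hcomm : ∀ a b : (S : Subgroup X), a * b = b * a := fun a b =>
        (IsKleinFour.isMulCommutative (G := (S : Subgroup X))).is_comm.comm a b
      rw [mem_centralizer_iff]
      intro y hy
      exact congrArg Subtype.val (hcomm ⟨y, hy⟩ ⟨x, hx.1⟩)
    · obtain ⟨k, rfl⟩ : ∃ k, b = k + 2 := ⟨b - 2, by omega⟩
      subst hb
      have hnc : ∀ j, ¬ IsConj (S3864.zz S eS) (SR eS j) := by
        intro j
        rw [zz_eq S eS]
        exact not_isConj S eS j (hyp _ inf_le_left (isKleinFour_four S eS j))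
      exact (S3864.caseC S eS (hnc 0) (hnc 1)).2

end Cfsg.Agent.S1254
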