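import Cfsg.Statements.S1255
import Cfsg.Agent.S1254
import Cfsg.Agent.S0107

set_option autoImplicit false
open Cfsg

namespace Cfsg.Agent.S1255

open Subgroup Cfsg.Agent.Lib Cfsg.Agent.Lib.Helper55_DihedralCoord

/-- If the normalizer of a four-group `U` centralizes one of its involutions then `C(U)` has index
at most two in `N(U)`. -/
theorem relIndex_le_two {X : Type*} [Group X] [Finite X] (U : Subgroup X) (hU : IsKleinFour U)
    (t : X) (htU : t ∈ U) (ht1 : t ≠ 1)
    (hN : normalizer (U : Set X) ≤ centralizer ({t} : Set X)) :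
    (centralizer (U : Set X)).relIndex (normalizer (U : Set X)) ≤ 2 := by
  classical
  -- a second involution
  obtain ⟨s, hs1, hst⟩ : ∃ s : U, s ≠ 1 ∧ s ≠ ⟨t, htU⟩ := by
    by_contra hcon
    push Not at hcon
    have h1 := S3276.card_le_two_of_forall (1 : U) ⟨t, htU⟩ (fun z => by
      by_cases hz : z = 1
      · exact Or.inl hz
      · exact Or.inr (hcon z hz))
    rw [hU.card_four] at h1
    omega
  have ht1' : (⟨t, htU⟩ : U) ≠ 1 := fun h => ht1 (congrArg Subtype.val h)
  have hall : ∀ u ∈ U, u = 1 ∨ u = t ∨ u = (s : X) ∨ u = t * s := by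
    intro u hu
    by_cases h1 : u = 1
    · exact Or.inl h1
    by_cases h2 : u = t
    · exact Or.inr (Or.inl h2)
    by_cases h3 : u = (s : X)
    · exact Or.inr (Or.inr (Or.inl h3))
    right; right; right
    have := IsKleinFour.eq_mul_of_ne_all (G := U) (x := ⟨t, htU⟩) (y := s) (z := ⟨u, hu⟩) ht1'
      hs1 (Ne.symm hst) (fun h => h1 (congrArg Subtype.val h)) (fun h => h2 (congrArg Subtype.val h))
      (fun h => h3 (congrArg Subtype.val h))
    exact congrArg Subtype.val this
  have hss : (s : X) * s = 1 := congrArg Subtype.val (IsKleinFour.mul_self s)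
  have htt : t * t = 1 := congrArg Subtype.val (IsKleinFour.mul_self (⟨t, htU⟩ : U))
  have hs1X : (s : X) ≠ 1 := fun h => hs1 (Subtype.ext h)
  have hstX : (s : X) ≠ t := fun h => hst (Subtype.ext h)
  -- the action of the normalizer on s
  have hcomm_t : ∀ a ∈ normalizer (U : Set X), a * t * a⁻¹ = t := by
    intro a ha
    have := hN ha
    rw [mem_centralizer_iff] at this
    have h1 : t * a = a * t := this t rfl
    rw [← h1]; group
  have hact : ∀ a ∈ normalizer (U : Set X), a * s * a⁻¹ = s ∨ a * s * a⁻¹ = t * s := by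
    intro a ha
    have hmem : a * s * a⁻¹ ∈ U := (mem_normalizer_iff.mp ha s).mp s.2
    rcases hall _ hmem with h | h | h | h
    · exfalso; apply hs1X
      have e1 : (s : X) = a⁻¹ * (a * s * a⁻¹) * a := by group
      rw [e1, h]; group
    · exfalso; apply hstX
      have e1 : (s : X) = a⁻¹ * (a * s * a⁻¹) * a := by group
      have h2 := hcomm_t a⁻¹ (inv_mem ha)
      rw [inv_inv] at h2
      rw [e1, h, h2]
    · exact Or.inl h
    · exact Or.inr h
  have hcent : ∀ a ∈ normalizer (U : Set X), a * s * a⁻¹ = s → a ∈ centralizer (U : Set X) := by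
    intro a ha has
    have hat := hcomm_t a ha
    have h1 : (s : X) * a = a * s := by
      calc (s : X) * a = (a * s * a⁻¹) * a := by rw [has]
        _ = a * s := by group
    have h2 : t * a = a * t := by
      calc t * a = (a * t * a⁻¹) * a := by rw [hat]
        _ = a * t := by group
    rw [mem_centralizer_iff]
    intro u hu
    rcases hall u hu with rfl | rfl | rfl | rfl
    · simp
    · exact h2
    · exact h1
    · rw [mul_assoc, h1, ← mul_assoc, h2, mul_assoc]
  rw [Subgroup.relIndex, Subgroup.index_eq_card]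
  by_cases hex : ∃ a₀ ∈ normalizer (U : Set X), a₀ * s * a₀⁻¹ = t * s
  · obtain ⟨a₀, ha₀, ha₀s⟩ := hex
    apply S3276.card_le_two_of_forall
      (1 : normalizer (U : Set X) ⧸ (centralizer (U : Set X)).subgroupOf (normalizer (U : Set X)))
      (((⟨a₀, ha₀⟩ : normalizer (U : Set X))) : normalizer (U : Set X) ⧸ (centralizer (U : Set X)).subgroupOf (normalizer (U : Set X)))
    intro q
    obtain ⟨⟨a, ha⟩, rfl⟩ := QuotientGroup.mk_surjective q
    rcases hact a ha with h | h
    · left
      rw [QuotientGroup.eq_one_iff, mem_subgroupOf]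
      exact hcent a ha h
    · right
      rw [QuotientGroup.eq, mem_subgroupOf]
      show a⁻¹ * a₀ ∈ centralizer (U : Set X)
      apply hcent _ (mul_mem (inv_mem ha) ha₀)
      have e1 : a⁻¹ * a₀ * s * (a⁻¹ * a₀)⁻¹ = a⁻¹ * (a₀ * s * a₀⁻¹) * a := by group
      rw [e1, ha₀s]
      have h2 := hcomm_t a⁻¹ (inv_mem ha)
      rw [inv_inv] at h2
      have e2 : a⁻¹ * (t * s) * a = (a⁻¹ * t * a) * (a⁻¹ * s * a) := by group
      have e3 : a⁻¹ * (s : X) * a = t * s := by
        have h5 : a * (t * s) * a⁻¹ = s := by
          have e4 : a * (t * (s : X)) * a⁻¹ = (a * t * a⁻¹) * (a * s * a⁻¹) := by group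
          rw [e4, hcomm_t a ha, h, ← mul_assoc, htt, one_mul]
        calc a⁻¹ * (s : X) * a = a⁻¹ * (a * (t * s) * a⁻¹) * a := by rw [h5]
          _ = t * s := by group
      rw [e2, h2, e3, ← mul_assoc, htt, one_mul]
  · push Not at hex
    have hle : Nat.card (normalizer (U : Set X) ⧸ (centralizer (U : Set X)).subgroupOf (normalizer (U : Set X))) ≤ 1 := by
      rw [Finite.card_le_one_iff_subsingleton]
      constructor
      intro q q'
      obtain ⟨⟨a, ha⟩, rfl⟩ := QuotientGroup.mk_surjective q
      obtain ⟨⟨a', ha'⟩, rfl⟩ := QuotientGroup.mk_surjective q'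
      have h1 : ∀ b (hb : b ∈ normalizer (U : Set X)), ((⟨b, hb⟩ : normalizer (U : Set X)) :
          normalizer (U : Set X) ⧸ (centralizer (U : Set X)).subgroupOf (normalizer (U : Set X))) = 1 := by
        intro b hb
        rw [QuotientGroup.eq_one_iff, mem_subgroupOf]
        rcases hact b hb with h | h
        · exact hcent b hb h
        · exact absurd h (hex b hb)
      rw [h1 a ha, h1 a' ha']
    omega

section general

variable {X : Type*} [Group X] [Finite X] (S : Sylow 2 X) {m : ℕ} [NeZero m]
  (e : ↥(S : Subgroup X) ≃* DihedralGroup m)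

include e in
/-- no subgroup of index two: all involutions are conjugate -/
theorem all_conj_of_no_index_two (hno : ∀ H : Subgroup X, H.index ≠ 2) (a b : X)
    (ha : orderOf a = 2) (hb : orderOf b = 2) : IsConj a b := by
  obtain ⟨a', ha'Q, haa'⟩ := S0107.exists_conj_mem hno S _ (zpowers_le e) (relIndex_zpowers e) a ha
  obtain ⟨b', hb'Q, hbb'⟩ := S0107.exists_conj_mem hno S _ (zpowers_le e) (relIndex_zpowers e) b hb
  have ha'o : orderOf a' = 2 := by
    obtain ⟨g, hg⟩ := isConj_iff.mp haa'
    rw [← hg, Helper34_Sylow.orderOf_conj', ha]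
  have hb'o : orderOf b' = 2 := by
    obtain ⟨g, hg⟩ := isConj_iff.mp hbb'
    rw [← hg, Helper34_Sylow.orderOf_conj', hb]
  have heq : a' = b' := Helper4_Sylow2.involution_unique_of_isCyclic_subgroup
    (zpowers (R e 1)) inferInstance a' b' ha'Q hb'Q ha'o hb'o
  rw [heq] at haa'
  exact haa'.trans hbb'.symm

include e in
/-- all involutions conjugate: no subgroup of index two -/
theorem no_index_two_of_all_conj (hm : 2 ∣ m)
    (hall : ∀ a b : X, orderOf a = 2 → orderOf b = 2 → IsConj a b) (M : Subgroup X) :
    M.index ≠ 2 := by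
  have : Fact (Nat.Prime 2) := ⟨Nat.prime_two⟩
  intro hM2
  have hMn : M.Normal := normal_of_index_eq_two hM2
  -- M has even order
  have h2M : 2 ∣ Nat.card M := by
    have h1 := M.card_mul_index
    rw [hM2] at h1
    have h4 : 4 ∣ Nat.card X := by
      have h5 : Nat.card (S : Subgroup X) ∣ Nat.card X := Subgroup.card_subgroup_dvd_card _
      rw [card_eq e] at h5
      obtain ⟨c, rfl⟩ := hm
      exact dvd_trans ⟨c, by ring⟩ h5
    rw [← h1] at h4
    obtain ⟨c, hc⟩ := h4
    exact ⟨c, by omega⟩
  obtain ⟨t, ht⟩ := exists_prime_orderOf_dvd_card' 2 h2M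
  have htX : orderOf (t : X) = 2 := by rw [Subgroup.orderOf_coe]; exact ht
  have hinvM : ∀ u : X, orderOf u = 2 → u ∈ M := by
    intro u hu
    obtain ⟨g, hg⟩ := isConj_iff.mp (hall (t : X) u htX hu)
    rw [← hg]
    exact hMn.conj_mem _ t.2 g
  have h0 := hinvM _ (orderOf_SR e 0)
  have h1 := hinvM _ (orderOf_SR e 1)
  have hρ : R e 1 ∈ M := by
    have e1 : R e 1 = SR e 0 * SR e 1 := by rw [SR_mul_SR, sub_zero]
    rw [e1]; exact M.mul_mem h0 h1
  have hSM : (S : Subgroup X) ≤ M := by
    intro x hx
    rcases cases_mem e hx with ⟨i, rfl⟩ | ⟨i, rfl⟩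
    · rw [R_eq_zpow]; exact zpow_mem hρ _
    · exact hinvM _ (orderOf_SR e i)
  have hdvd : M.index ∣ (S : Subgroup X).index := Subgroup.index_dvd_of_le hSM
  rw [hM2] at hdvd
  exact S.not_dvd_index hdvd

include e in
/-- all involutions conjugate: no isolated involution -/
theorem not_isolated_of_all_conj (hm : 2 ∣ m) (hm2 : 2 ≤ m)
    (hall : ∀ a b : X, orderOf a = 2 → orderOf b = 2 → IsConj a b) (t : X) :
    ¬ Cfsg.IsIsolatedInvolution t := by
  rintro ⟨hto, hiso⟩
  obtain ⟨c, rfl⟩ := hm
  -- two commuting distinct reflections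
  have hc : ((c : ℕ) : ZMod (2 * c)) + ((c : ℕ) : ZMod (2 * c)) = 0 := by
    rw [← Nat.cast_add]
    have : c + c = 2 * c := by ring
    rw [this]; exact ZMod.natCast_self _
  have hc0 : ((c : ℕ) : ZMod (2 * c)) ≠ 0 := by
    rw [Ne, ZMod.natCast_eq_zero_iff]
    intro h
    have := Nat.le_of_dvd (by omega) h
    omega
  have hcomm : SR e 0 * SR e ((c : ℕ) : ZMod (2 * c)) = SR e ((c : ℕ) : ZMod (2 * c)) * SR e 0 := by
    rw [SR_mul_SR, SR_mul_SR]
    congr 1
    linear_combination hc
  have hne : SR e 0 ≠ SR e ((c : ℕ) : ZMod (2 * c)) := fun h => hc0 (SR_injective e h).symm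
  obtain ⟨g, hg⟩ := isConj_iff.mp (hall _ t (orderOf_SR e 0) hto)
  -- t' = g (SR c) g⁻¹
  have ht'o : orderOf (g * SR e ((c : ℕ) : ZMod (2 * c)) * g⁻¹) = 2 := by
    rw [Helper34_Sylow.orderOf_conj', orderOf_SR]
  obtain ⟨h, hh⟩ := isConj_iff.mp (hall t _ hto ht'o)
  have hcomm' : Commute t (h * t * h⁻¹) := by
    rw [hh, ← hg]
    show g * SR e 0 * g⁻¹ * (g * SR e ((c : ℕ) : ZMod (2 * c)) * g⁻¹) =
      g * SR e ((c : ℕ) : ZMod (2 * c)) * g⁻¹ * (g * SR e 0 * g⁻¹)
    calc g * SR e 0 * g⁻¹ * (g * SR e ((c : ℕ) : ZMod (2 * c)) * g⁻¹)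
        = g * (SR e 0 * SR e ((c : ℕ) : ZMod (2 * c))) * g⁻¹ := by group
      _ = g * (SR e ((c : ℕ) : ZMod (2 * c)) * SR e 0) * g⁻¹ := by rw [hcomm]
      _ = g * SR e ((c : ℕ) : ZMod (2 * c)) * g⁻¹ * (g * SR e 0 * g⁻¹) := by group
  have h1 := hiso h hcomm'
  rw [hh, ← hg] at h1
  exact hne (mul_left_cancel (mul_right_cancel h1)).symm

end general

/-- Let X be a finite group whose Sylow 2-subgroup S is dihedral of order 2m ≥ 4. Then X has no subgroup of index 2 and no isolated involution if and only if either all involutions of X are conjugate, or for every Klein four-subgroup U ≤ S the index |N_X(U) : C_X(U)| equals 3 when |S| = 4 and equals 6 when |S| > 4. -/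
theorem result {X : Type*} [Group X] [Finite X] (S : Sylow 2 X) (m : ℕ) (hm : 2 ≤ m) (eS : (S : Subgroup X) ≃* DihedralGroup m) : ((∀ H : Subgroup X, H.index ≠ 2) ∧ (∀ z : X, ¬ Cfsg.IsIsolatedInvolution z)) ↔ ((∀ a b : X, orderOf a = 2 → orderOf b = 2 → IsConj a b) ∨ (∀ U : Subgroup X, U ≤ S → IsKleinFour U → (Subgroup.centralizer (U : Set X)).relIndex (Subgroup.normalizer (U : Set X)) = (if Nat.card S = 4 then 3 else 6))) := by
  classical
  have : Fact (Nat.Prime 2) := ⟨Nat.prime_two⟩
  have : NeZero m := ⟨by omega⟩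
  -- m is a power of two
  obtain ⟨a, ha⟩ := IsPGroup.iff_card.mp S.2
  rw [card_eq eS] at ha
  obtain ⟨b, hb⟩ : ∃ b, m = 2 ^ b := by
    have h1 : m ∣ 2 ^ a := ⟨2, by rw [← ha]; ring⟩
    obtain ⟨b, -, hb⟩ := (Nat.dvd_prime_pow Nat.prime_two).mp h1
    exact ⟨b, hb⟩
  have hb1 : 1 ≤ b := by
    rcases Nat.eq_zero_or_pos b with h | h
    · rw [hb, h] at hm; norm_num at hm
    · exact h
  have hm2 : 2 ∣ m := by rw [hb]; exact dvd_pow_self 2 (by omega)
  have hkey : (∀ a b : X, orderOf a = 2 → orderOf b = 2 → IsConj a b) ↔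
      ((∀ H : Subgroup X, H.index ≠ 2) ∧ (∀ z : X, ¬ Cfsg.IsIsolatedInvolution z)) := by
    constructor
    · intro hall
      exact ⟨no_index_two_of_all_conj S eS hm2 hall, not_isolated_of_all_conj S eS hm2 hm hall⟩
    · rintro ⟨hno, -⟩
      exact all_conj_of_no_index_two S eS hno
  rw [← hkey]
  constructor
  · intro h; exact Or.inl h
  · rintro (h | h)
    · exact h
    · rcases Nat.lt_or_ge b 2 with hb2 | hb2
      · -- Klein four Sylow subgroup
        have hm2' : m = 2 := by
          have : b = 1 := by omega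
          rw [hb, this, pow_one]
        subst hm2'
        have hK : IsKleinFour (S : Subgroup X) := by
          refine ⟨?_, ?_⟩
          · rw [card_eq eS]
          · rw [Monoid.exponent_eq_of_mulEquiv eS]
            exact IsKleinFour.exponent_two
        have hcard4 : Nat.card S = 4 := hK.card_four
        have h3 := h (S : Subgroup X) le_rfl hK
        rw [if_pos hcard4] at h3
        -- every involution of S is moved by the normalizer
        have hmoved : ∀ t ∈ (S : Subgroup X), orderOf t = 2 →
            ∃ t' ∈ (S : Subgroup X), t' ≠ t ∧ IsConj t t' := by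
          intro t htS hto
          by_contra hcon
          push Not at hcon
          have ht1 : t ≠ 1 := by
            intro h1; rw [h1, orderOf_one] at hto; omega
          have hle := relIndex_le_two (S : Subgroup X) hK t htS ht1 (by
            intro n hn
            rw [mem_centralizer_iff]
            intro w hw
            rw [Set.mem_singleton_iff] at hw
            rw [hw]
            have hmem : n * t * n⁻¹ ∈ (S : Subgroup X) := (mem_normalizer_iff.mp hn t).mp htS
            by_contra hne
            apply hcon (n * t * n⁻¹) hmem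
            · intro h4
              apply hne
              calc t * n = (n * t * n⁻¹) * n := by rw [h4]
                _ = n * t := by group
            · exact isConj_iff.mpr ⟨n, rfl⟩)
          omega
        -- the three involutions
        have hR1o : orderOf (R eS 1) = 2 := orderOf_R_one eS
        obtain ⟨t1, ht1S, ht1ne, ht1c⟩ := hmoved _ (R_mem eS 1) hR1o
        obtain ⟨t2, ht2S, ht2ne, ht2c⟩ := hmoved _ (SR_mem eS 0) (orderOf_SR eS 0)
        obtain ⟨t3, ht3S, ht3ne, ht3c⟩ := hmoved _ (SR_mem eS 1) (orderOf_SR eS 1)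
        -- classify involutions of S
        have hcls : ∀ t ∈ (S : Subgroup X), orderOf t = 2 → t = R eS 1 ∨ t = SR eS 0 ∨ t = SR eS 1 := by
          intro t htS hto
          rcases cases_mem eS htS with ⟨i, rfl⟩ | ⟨i, rfl⟩
          · left
            exact Helper4_Sylow2.involution_unique_of_isCyclic_subgroup (zpowers (R eS 1)) inferInstance
              _ _ ((mem_zpowers_iff eS _).mpr ⟨i, rfl⟩) (mem_zpowers _) hto hR1o
          · right
            have h01 : ∀ i : ZMod 2, i = 0 ∨ i = 1 := by
              intro i; fin_cases i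
              · left; rfl
              · right; rfl
            rcases h01 i with rfl | rfl
            · left; rfl
            · right; rfl
        have horder : ∀ {t t' : X}, orderOf t = 2 → IsConj t t' → orderOf t' = 2 := by
          intro t t' hto hc
          obtain ⟨g, hg⟩ := isConj_iff.mp hc
          rw [← hg, Helper34_Sylow.orderOf_conj', hto]
        have hA : IsConj (R eS 1) (SR eS 0) ∧ IsConj (R eS 1) (SR eS 1) := by
          rcases hcls t1 ht1S (horder hR1o ht1c) with h1 | h1 | h1
          · exact absurd h1 ht1ne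
          · rw [h1] at ht1c
            rcases hcls t3 ht3S (horder (orderOf_SR eS 1) ht3c) with h3' | h3' | h3'
            · rw [h3'] at ht3c; exact ⟨ht1c, ht3c.symm⟩
            · rw [h3'] at ht3c; exact ⟨ht1c, ht1c.trans ht3c.symm⟩
            · exact absurd h3' ht3ne
          · rw [h1] at ht1c
            rcases hcls t2 ht2S (horder (orderOf_SR eS 0) ht2c) with h2' | h2' | h2'
            · rw [h2'] at ht2c; exact ⟨ht2c.symm, ht1c⟩
            · exact absurd h2' ht2ne
            · rw [h2'] at ht2c; exact ⟨ht1c.trans ht2c.symm, ht1c⟩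
        -- all involutions are conjugate to R 1
        have hconjR : ∀ u : X, orderOf u = 2 → IsConj u (R eS 1) := by
          intro u hu
          obtain ⟨x, hx, hux⟩ := S3864.exists_conj_mem_sylow S u hu
          rcases hcls x hx (horder hu hux) with h1 | h1 | h1
          · rw [h1] at hux; exact hux
          · rw [h1] at hux; exact hux.trans hA.1.symm
          · rw [h1] at hux; exact hux.trans hA.2.symm
        intro a b ha hb
        exact (hconjR a ha).trans (hconjR b hb).symm
      · obtain ⟨k, rfl⟩ : ∃ k, b = k + 2 := ⟨b - 2, by omega⟩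
        subst hb
        have hcardne : Nat.card S ≠ 4 := by
          have h1 : Nat.card S = 2 * 2 ^ (k + 2) := card_eq eS
          rw [h1]
          have : 2 ^ (k + 2) = 4 * 2 ^ k := by ring
          have hpos : 0 < 2 ^ k := by positivity
          omega
        obtain ⟨hz2, hz1, hzo, hzmem, hzpow⟩ := S3864.zz_facts S eS
        rw [S1254.zz_eq S eS] at hz1 hzo
        have hconj : ∀ j, IsConj (R eS (S1254.hh k)) (SR eS j) := by
          intro j
          have h6 := h (S1254.four S eS j) inf_le_left (S1254.isKleinFour_four S eS j)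
          rw [if_neg hcardne] at h6
          -- the normalizer moves z
          have hzU : R eS (S1254.hh k) ∈ S1254.four S eS j := by
            rw [S1254.mem_four_iff S eS]; right; left; rfl
          by_contra hcon
          have hcon2 : ¬ IsConj (R eS (S1254.hh k)) (SR eS (j + S1254.hh k)) := by
            intro h7
            apply hcon
            refine h7.trans (isConj_iff.mpr ⟨R eS (S1254.qq k), ?_⟩)
            rw [R_conj_SR]
            congr 1
            rw [← S1254.qq_add_qq]; ring
          have hle := relIndex_le_two (S1254.four S eS j) (S1254.isKleinFour_four S eS j)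
            (R eS (S1254.hh k)) hzU hz1 (by
              intro n hn
              rw [mem_centralizer_iff]
              intro w hw
              rw [Set.mem_singleton_iff] at hw
              rw [hw]
              have hmem : n * R eS (S1254.hh k) * n⁻¹ ∈ S1254.four S eS j :=
                (mem_normalizer_iff.mp hn _).mp hzU
              have hc : IsConj (R eS (S1254.hh k)) (n * R eS (S1254.hh k) * n⁻¹) :=
                isConj_iff.mpr ⟨n, rfl⟩
              rcases (S1254.mem_four_iff S eS j _).mp hmem with h8 | h8 | h8 | h8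
              · exfalso; apply hz1
                have e1 : R eS (S1254.hh k) = n⁻¹ * (n * R eS (S1254.hh k) * n⁻¹) * n := by group
                rw [e1, h8]; group
              · calc R eS (S1254.hh k) * n = (n * R eS (S1254.hh k) * n⁻¹) * n := by rw [h8]
                  _ = n * R eS (S1254.hh k) := by group
              · rw [h8] at hc; exact absurd hc hcon
              · rw [h8] at hc; exact absurd hc hcon2)
          omega
        have hconjz : ∀ u : X, orderOf u = 2 → IsConj u (R eS (S1254.hh k)) := by
          intro u hu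
          rcases S3864.inv_cover S eS u hu with h1 | h1 | h1
          · rw [S1254.zz_eq S eS] at h1; exact h1
          · exact h1.trans (hconj 0).symm
          · exact h1.trans (hconj 1).symm
        intro a b ha hb
        exact (hconjz a ha).trans (hconjz b hb).symm

end Cfsg.Agent.S1255
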