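import Cfsg.Statements.S1256
import Cfsg.Agent.S1254
import Cfsg.Agent.S0514

set_option autoImplicit false
open Cfsg

namespace Cfsg.Agent.S1256

open Subgroup Cfsg.Agent.Lib Cfsg.Agent.Lib.Helper55_DihedralCoord
  Cfsg.Agent.Lib.Helper35_FrobeniusNPC
open Cfsg.Agent.S1254 (hh qq hh_add_hh qq_add_qq neg_hh two_torsion z_central four mem_four_iff
  isKleinFour_four zz_eq)

theorem mem_map_conj {X : Type*} [Group X] (U : Subgroup X) (g y : X) :
    y ∈ U.map (MulAut.conj g).toMonoidHom ↔ g⁻¹ * y * g ∈ U := by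
  constructor
  · rintro ⟨u, hu, rfl⟩
    have h1 : g⁻¹ * ((MulAut.conj g).toMonoidHom u) * g = u := by
      show g⁻¹ * (g * u * g⁻¹) * g = u
      group
    rwa [h1]
  · intro h
    refine ⟨g⁻¹ * y * g, h, ?_⟩
    show g * (g⁻¹ * y * g) * g⁻¹ = y
    group

theorem map_conj_mul {X : Type*} [Group X] (U : Subgroup X) (a b : X) :
    (U.map (MulAut.conj b).toMonoidHom).map (MulAut.conj a).toMonoidHom =
      U.map (MulAut.conj (a * b)).toMonoidHom := by
  ext y
  rw [mem_map_conj, mem_map_conj, mem_map_conj]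
  have h1 : b⁻¹ * (a⁻¹ * y * a) * b = (a * b)⁻¹ * y * (a * b) := by group
  rw [h1]

theorem isKleinFour_map_conj {X : Type*} [Group X] (U : Subgroup X) (hU : IsKleinFour U) (g : X) :
    IsKleinFour (U.map (MulAut.conj g).toMonoidHom) := by
  have e := U.equivMapOfInjective (MulAut.conj g).toMonoidHom (MulAut.conj g).injective
  exact ⟨by rw [← Nat.card_congr e.toEquiv]; exact hU.card_four,
    by rw [← Monoid.exponent_eq_of_mulEquiv e]; exact hU.exponent_two⟩

theorem map_conj_le_of_forall {X : Type*} [Group X] (U V : Subgroup X) (g : X)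
    (h : ∀ u ∈ U, g * u * g⁻¹ ∈ V) : U.map (MulAut.conj g).toMonoidHom ≤ V := by
  rintro _ ⟨u, hu, rfl⟩
  exact h u hu

/-- every Klein four-subgroup lies in a conjugate of the Sylow subgroup -/
theorem exists_conj_le_sylow {X : Type*} [Group X] [Finite X] (S : Sylow 2 X) (V : Subgroup X)
    (hV : IsKleinFour V) : ∃ g : X, V.map (MulAut.conj g).toMonoidHom ≤ S := by
  have : Fact (Nat.Prime 2) := ⟨Nat.prime_two⟩
  have hpg : IsPGroup 2 V := IsPGroup.of_card (n := 2) (by rw [hV.card_four]; norm_num)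
  obtain ⟨Q, hQ⟩ := hpg.exists_le_sylow
  obtain ⟨g, hg⟩ := MulAction.exists_smul_eq X Q S
  refine ⟨g, ?_⟩
  intro y hy
  rw [mem_map_conj] at hy
  have h1 : y ∈ ((g • Q : Sylow 2 X) : Subgroup X) := by
    rw [Sylow.coe_subgroup_smul, mem_conj_smul]
    exact hQ hy
  rw [hg] at h1
  exact h1

theorem part_one {X : Type*} [Group X] [Finite X] (S : Sylow 2 X) (hS : Nat.card S = 4)
    (U V : Subgroup X) (hU : IsKleinFour U) (hV : IsKleinFour V) :
    ∃ x : X, U.map (MulAut.conj x).toMonoidHom = V := by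
  have : Fact (Nat.Prime 2) := ⟨Nat.prime_two⟩
  obtain ⟨g, hg⟩ := exists_conj_le_sylow S U hU
  obtain ⟨h, hh'⟩ := exists_conj_le_sylow S V hV
  have h1 : U.map (MulAut.conj g).toMonoidHom = S := by
    apply Subgroup.eq_of_le_of_card_ge hg
    rw [(isKleinFour_map_conj U hU g).card_four]
    exact hS.le
  have h2 : V.map (MulAut.conj h).toMonoidHom = S := by
    apply Subgroup.eq_of_le_of_card_ge hh'
    rw [(isKleinFour_map_conj V hV h).card_four]
    exact hS.le
  refine ⟨h⁻¹ * g, ?_⟩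
  rw [← map_conj_mul, h1, ← h2, map_conj_mul, inv_mul_cancel]
  ext y
  rw [mem_map_conj]
  simp

section big

variable {X : Type*} [Group X] [Finite X] (S : Sylow 2 X) {k : ℕ}
  (e : ↥(S : Subgroup X) ≃* DihedralGroup (2 ^ (k + 2)))

theorem two_dvd (k : ℕ) : 2 ∣ 2 ^ (k + 2) := ⟨2 ^ (k + 1), by ring⟩

include e in
theorem z_facts : R e (hh k) ≠ 1 ∧ orderOf (R e (hh k)) = 2 := by
  obtain ⟨hz2, hz1, hzo, hzmem, hzpow⟩ := S3864.zz_facts S e
  rw [zz_eq S e] at hz1 hzo
  exact ⟨hz1, hzo⟩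

theorem SR_ne_one (j : ZMod (2 ^ (k + 2))) : SR e j ≠ 1 := by
  intro h
  have h4 := orderOf_SR e j
  rw [h, orderOf_one] at h4
  omega

theorem z_mul_SR (j : ZMod (2 ^ (k + 2))) : R e (hh k) * SR e j = SR e (j + hh k) := by
  rw [R_mul_SR]; congr 1; rw [sub_eq_add_neg, neg_hh]

/-- the `S`-conjugates of `SR 0` have even index -/
theorem conj_SR_zero {y : X} (hy : y ∈ (S : Subgroup X)) :
    ∃ j, y * SR e 0 * y⁻¹ = SR e (j + j) := by
  rcases cases_mem e hy with ⟨i, rfl⟩ | ⟨i, rfl⟩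
  · refine ⟨-i, ?_⟩
    rw [R_conj_SR]
    congr 1
    ring
  · refine ⟨i, ?_⟩
    rw [SR_inv, SR_mul_SR, R_mul_SR]
    congr 1
    ring

theorem SR_zero_ne_odd (j : ZMod (2 ^ (k + 2))) :
    SR e (j + j) ≠ SR e 1 ∧ SR e (j + j) ≠ SR e (1 + hh k) := by
  constructor
  · intro h
    exact S3864.no_double_eq_one (two_dvd k) j (SR_injective e h)
  · intro h
    have h1 := SR_injective e h
    apply S3864.no_double_eq_one (two_dvd k) (j - qq k)
    have h2 := qq_add_qq k
    linear_combination h1 - h2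

/-- an element of `C(z)` cannot move `SR 0` to `SR 1` or `SR (1 + hh)` -/
theorem lemmaA (g : X) (hz : g * R e (hh k) * g⁻¹ = R e (hh k))
    (hs : g * SR e 0 * g⁻¹ = SR e 1 ∨ g * SR e 0 * g⁻¹ = SR e (1 + hh k)) : False := by
  classical
  have : Fact (Nat.Prime 2) := ⟨Nat.prime_two⟩
  obtain ⟨hz1, hzo⟩ := z_facts S e
  have h2le : 2 ≤ 2 ^ (k + 2) := by
    have : 2 ^ 1 ≤ 2 ^ (k + 2) := Nat.pow_le_pow_right (by norm_num) (by omega)
    simpa using this
  obtain ⟨N, hNn, hNodd, k', hNi⟩ := S0514.result S (2 ^ (k + 2)) h2le ⟨e⟩ (R e (hh k)) hzo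
  have hnpc : HasNPC 2 ↥(centralizer ({R e (hh k)} : Set X)) :=
    ⟨N, hNn, Nat.coprime_two_right.mpr hNodd, k', hNi⟩
  have hF := frobHyp_of_hasNPC hnpc
  have hSC : (S : Subgroup X) ≤ centralizer ({R e (hh k)} : Set X) := by
    intro x hx
    rw [mem_centralizer_iff]
    intro w hw
    rw [Set.mem_singleton_iff] at hw
    rw [hw]
    exact (z_central S e hx).symm
  have hgC : g ∈ centralizer ({R e (hh k)} : Set X) := by
    rw [mem_centralizer_iff]
    intro w hw
    rw [Set.mem_singleton_iff] at hw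
    rw [hw]
    calc R e (hh k) * g = (g * R e (hh k) * g⁻¹) * g := by rw [hz]
      _ = g * R e (hh k) := by group
  have hgs : g * SR e 0 * g⁻¹ ∈ (S : Subgroup X) := by
    rcases hs with h | h <;> rw [h] <;> exact SR_mem e _
  obtain ⟨y, hy, hyx⟩ := fusion hF (S.subtype hSC)
    (x := ⟨SR e 0, hSC (SR_mem e 0)⟩) (g := ⟨g, hgC⟩)
    (by
      show (⟨SR e 0, hSC (SR_mem e 0)⟩ : ↥(centralizer ({R e (hh k)} : Set X))) ∈
        (S : Subgroup X).subgroupOf (centralizer ({R e (hh k)} : Set X))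
      rw [mem_subgroupOf]
      exact SR_mem e 0)
    (by
      show (⟨g, hgC⟩ * ⟨SR e 0, hSC (SR_mem e 0)⟩ * ⟨g, hgC⟩⁻¹ :
          ↥(centralizer ({R e (hh k)} : Set X))) ∈
        (S : Subgroup X).subgroupOf (centralizer ({R e (hh k)} : Set X))
      rw [mem_subgroupOf]
      exact hgs)
  have hyS : (y : X) ∈ (S : Subgroup X) := by
    have : y ∈ (S : Subgroup X).subgroupOf (centralizer ({R e (hh k)} : Set X)) := hy
    exact mem_subgroupOf.mp this
  have hval : g * SR e 0 * g⁻¹ = (y : X) * SR e 0 * (y : X)⁻¹ := congrArg Subtype.val hyx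
  obtain ⟨j, hj⟩ := conj_SR_zero S e hyS
  rw [hj] at hval
  rcases hs with h | h
  · exact (SR_zero_ne_odd S e j).1 (hval.symm.trans h)
  · exact (SR_zero_ne_odd S e j).2 (hval.symm.trans h)

/-- the action of `ν = R qq` on `four 1` -/
theorem nu_facts : R e (qq k) * R e (hh k) * (R e (qq k))⁻¹ = R e (hh k) ∧
    R e (qq k) * SR e 1 * (R e (qq k))⁻¹ = SR e (1 + hh k) ∧
    R e (qq k) * SR e (1 + hh k) * (R e (qq k))⁻¹ = SR e 1 := by
  refine ⟨?_, ?_, ?_⟩
  · rw [R_inv, R_mul_R, R_mul_R]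
    congr 1
    ring
  · rw [R_conj_SR]
    congr 1
    have h2 := qq_add_qq k
    have h3 := hh_add_hh k
    linear_combination -h2 - h3
  · rw [R_conj_SR]
    congr 1
    have h2 := qq_add_qq k
    linear_combination -h2

/-- if `z` is fused to the reflection `SR j`, some `μ` fixes `SR j` and maps `z` to `z * SR j` -/
theorem exists_mu (j : ZMod (2 ^ (k + 2))) (hconj : IsConj (R e (hh k)) (SR e j)) :
    ∃ μ : X, μ * R e (hh k) * μ⁻¹ = R e (hh k) * SR e j ∧ μ * SR e j * μ⁻¹ = SR e j := by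
  have : Fact (Nat.Prime 2) := ⟨Nat.prime_two⟩
  have : NeZero (2 ^ (k + 2)) := ⟨by positivity⟩
  obtain ⟨hz2, hz1, hzo, hzmem, hzpow⟩ := S3864.zz_facts S e
  rw [zz_eq S e] at hz1 hzo hzmem
  obtain ⟨g, hg⟩ := isConj_iff.mp hconj
  have hle : ((g • S : Sylow 2 X) : Subgroup X) ≤ centralizer ({SR e j} : Set X) := by
    intro x hx
    have hx' : g⁻¹ * x * g ∈ (S : Subgroup X) := (Helper2_Sylow.mem_smul_sylow_iff' g x S).mp hx
    rw [mem_centralizer_iff]
    intro w hw
    rw [Set.mem_singleton_iff] at hw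
    rw [hw, ← hg]
    have h1 := z_central S e hx'
    calc g * R e (hh k) * g⁻¹ * x = g * (R e (hh k) * (g⁻¹ * x * g)) * g⁻¹ := by group
      _ = g * ((g⁻¹ * x * g) * R e (hh k)) * g⁻¹ := by rw [h1]
      _ = x * (g * R e (hh k) * g⁻¹) := by group
  obtain ⟨c, hc, hcx⟩ := Helper32_Sylow.sylow_conj_into (centralizer ({SR e j} : Set X)) (g • S) hle
    (four S e j) inf_le_right (S.2.to_le inf_le_left)
  have hcs : c * SR e j = SR e j * c := by
    rw [mem_centralizer_iff] at hc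
    exact (hc _ rfl).symm
  obtain ⟨h, hh'⟩ : ∃ h, h = g⁻¹ * c := ⟨_, rfl⟩
  have hmemS : ∀ x ∈ four S e j, h * x * h⁻¹ ∈ (S : Subgroup X) := by
    intro x hx
    have h1 := (Helper2_Sylow.mem_smul_sylow_iff' g _ S).mp (hcx x hx)
    have e1 : h * x * h⁻¹ = g⁻¹ * (c * x * c⁻¹) * g := by rw [hh']; group
    rw [e1]; exact h1
  have hhs : h * SR e j * h⁻¹ = R e (hh k) := by
    have e1 : h * SR e j * h⁻¹ = g⁻¹ * (c * SR e j * c⁻¹) * g := by rw [hh']; group
    rw [e1, hcs, mul_assoc (SR e j), mul_inv_cancel, mul_one, ← hg]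
    group
  have hzU : R e (hh k) ∈ four S e j := by
    rw [mem_four_iff S e]; right; left; rfl
  have htS := hmemS _ hzU
  have hto : orderOf (h * R e (hh k) * h⁻¹) = 2 := by
    rw [Helper34_Sylow.orderOf_conj', hzo]
  have htne : h * R e (hh k) * h⁻¹ ≠ R e (hh k) := by
    intro h1
    have h1' : h * R e (hh k) * h⁻¹ = h * SR e j * h⁻¹ := h1.trans hhs.symm
    have h2 : R e (hh k) = SR e j := mul_left_cancel (mul_right_cancel h1')
    exact R_ne_SR e _ _ h2
  obtain ⟨j', hj'⟩ : ∃ j', h * R e (hh k) * h⁻¹ = SR e j' := by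
    rcases cases_mem e htS with ⟨i, hi⟩ | ⟨i, hi⟩
    · exfalso
      apply htne
      exact Helper4_Sylow2.involution_unique_of_isCyclic_subgroup (zpowers (R e 1)) inferInstance
        _ _ ((mem_zpowers_iff e _).mpr ⟨i, hi⟩) hzmem hto hzo
    · exact ⟨i, hi⟩
  refine ⟨h⁻¹ * R e (qq k) * h, ?_, ?_⟩
  · have hs_eq : h⁻¹ * R e (hh k) * h = SR e j := by rw [← hhs]; group
    have ht_eq : h⁻¹ * SR e j' * h = R e (hh k) := by rw [← hj']; group
    have e1 : (h⁻¹ * R e (qq k) * h) * R e (hh k) * (h⁻¹ * R e (qq k) * h)⁻¹ =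
        h⁻¹ * (R e (qq k) * (h * R e (hh k) * h⁻¹) * (R e (qq k))⁻¹) * h := by group
    have e2 : SR e (j' - qq k - qq k) = R e (hh k) * SR e j' := by
      rw [R_mul_SR]; congr 1; rw [← qq_add_qq]; ring
    rw [e1, hj', R_conj_SR, e2]
    calc h⁻¹ * (R e (hh k) * SR e j') * h
        = (h⁻¹ * R e (hh k) * h) * (h⁻¹ * SR e j' * h) := by group
      _ = SR e j * R e (hh k) := by rw [hs_eq, ht_eq]
      _ = R e (hh k) * SR e j := z_central S e (SR_mem e j)
  · have hs_eq : h⁻¹ * R e (hh k) * h = SR e j := by rw [← hhs]; group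
    have e1 : (h⁻¹ * R e (qq k) * h) * SR e j * (h⁻¹ * R e (qq k) * h)⁻¹ =
        h⁻¹ * (R e (qq k) * (h * SR e j * h⁻¹) * (R e (qq k))⁻¹) * h := by group
    rw [e1, hhs, R_inv, R_mul_R, R_mul_R]
    have e2 : qq k + hh k + -qq k = hh k := by ring
    rw [e2]
    exact hs_eq

/-- the transporter condition used below -/
def Tr (g : X) : Prop :=
  g * R e (hh k) * g⁻¹ ∈ four S e 1 ∧ g * SR e 0 * g⁻¹ ∈ four S e 1

theorem lemmaD (g : X) (hT : Tr S e g) (hz : g * R e (hh k) * g⁻¹ = R e (hh k)) : False := by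
  obtain ⟨-, h2⟩ := hT
  rw [mem_four_iff S e] at h2
  rcases h2 with h | h | h | h
  · have : SR e 0 = 1 := by
      have h1 : g * SR e 0 * g⁻¹ = g * 1 * g⁻¹ := by rw [h]; group
      exact mul_left_cancel (mul_right_cancel h1)
    exact SR_ne_one S e 0 this
  · have h1 : g * SR e 0 * g⁻¹ = g * R e (hh k) * g⁻¹ := h.trans hz.symm
    have h2 : SR e 0 = R e (hh k) := mul_left_cancel (mul_right_cancel h1)
    exact R_ne_SR e _ _ h2.symm
  · exact lemmaA S e g hz (Or.inl h)
  · exact lemmaA S e g hz (Or.inr h)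

theorem Tr_mul (n g : X) (hn : ∀ u ∈ four S e 1, n * u * n⁻¹ ∈ four S e 1) (hT : Tr S e g) :
    Tr S e (n * g) := by
  obtain ⟨h1, h2⟩ := hT
  constructor
  · have e1 : n * g * R e (hh k) * (n * g)⁻¹ = n * (g * R e (hh k) * g⁻¹) * n⁻¹ := by group
    rw [e1]; exact hn _ h1
  · have e1 : n * g * SR e 0 * (n * g)⁻¹ = n * (g * SR e 0 * g⁻¹) * n⁻¹ := by group
    rw [e1]; exact hn _ h2

theorem lemmaE (g : X) (hT : Tr S e g) (hz : g * R e (hh k) * g⁻¹ = SR e 1) : False := by
  obtain ⟨μ, hμz, hμs⟩ := exists_mu S e 1 (isConj_iff.mpr ⟨g, hz⟩)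
  obtain ⟨hν1, hν2, hν3⟩ := nu_facts S e
  have hzs := z_mul_SR S e 1
  -- n = μ ν
  have hnz : (μ * R e (qq k)) * R e (hh k) * (μ * R e (qq k))⁻¹ = SR e (1 + hh k) := by
    have e1 : (μ * R e (qq k)) * R e (hh k) * (μ * R e (qq k))⁻¹ =
        μ * (R e (qq k) * R e (hh k) * (R e (qq k))⁻¹) * μ⁻¹ := by group
    rw [e1, hν1, hμz, hzs]
  have hns : (μ * R e (qq k)) * SR e 1 * (μ * R e (qq k))⁻¹ = R e (hh k) := by
    have e1 : (μ * R e (qq k)) * SR e 1 * (μ * R e (qq k))⁻¹ =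
        μ * (R e (qq k) * SR e 1 * (R e (qq k))⁻¹) * μ⁻¹ := by group
    rw [e1, hν2, ← hzs]
    have e2 : μ * (R e (hh k) * SR e 1) * μ⁻¹ = (μ * R e (hh k) * μ⁻¹) * (μ * SR e 1 * μ⁻¹) := by
      group
    rw [e2, hμz, hμs, mul_assoc, SR_mul_self, mul_one]
  have hnzs : (μ * R e (qq k)) * SR e (1 + hh k) * (μ * R e (qq k))⁻¹ = SR e 1 := by
    have e1 : (μ * R e (qq k)) * SR e (1 + hh k) * (μ * R e (qq k))⁻¹ =
        μ * (R e (qq k) * SR e (1 + hh k) * (R e (qq k))⁻¹) * μ⁻¹ := by group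
    rw [e1, hν3, hμs]
  have hn : ∀ u ∈ four S e 1, (μ * R e (qq k)) * u * (μ * R e (qq k))⁻¹ ∈ four S e 1 := by
    intro u hu
    rw [mem_four_iff S e] at hu ⊢
    rcases hu with rfl | rfl | rfl | rfl
    · left; group
    · right; right; right; exact hnz
    · right; left; exact hns
    · right; right; left; exact hnzs
  apply lemmaD S e _ (Tr_mul S e _ g hn hT)
  have e1 : μ * R e (qq k) * g * R e (hh k) * (μ * R e (qq k) * g)⁻¹ =
      (μ * R e (qq k)) * (g * R e (hh k) * g⁻¹) * (μ * R e (qq k))⁻¹ := by group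
  rw [e1, hz, hns]

theorem not_conj : ¬ ∃ x : X, (four S e 0).map (MulAut.conj x).toMonoidHom = four S e 1 := by
  rintro ⟨g, hg⟩
  obtain ⟨hz1, hzo⟩ := z_facts S e
  have hA : ∀ u ∈ four S e 0, g * u * g⁻¹ ∈ four S e 1 := by
    intro u hu
    rw [← hg, mem_map_conj]
    have e1 : g⁻¹ * (g * u * g⁻¹) * g = u := by group
    rw [e1]; exact hu
  have hT : Tr S e g := by
    constructor
    · apply hA; rw [mem_four_iff S e]; right; left; rfl
    · apply hA; rw [mem_four_iff S e]; right; right; left; rfl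
  obtain ⟨hν1, hν2, hν3⟩ := nu_facts S e
  have h1 := hT.1
  rw [mem_four_iff S e] at h1
  rcases h1 with h | h | h | h
  · have : R e (hh k) = 1 := by
      have h1 : g * R e (hh k) * g⁻¹ = g * 1 * g⁻¹ := by rw [h]; group
      exact mul_left_cancel (mul_right_cancel h1)
    exact hz1 this
  · exact lemmaD S e g hT h
  · exact lemmaE S e g hT h
  · have hn : ∀ u ∈ four S e 1, R e (qq k) * u * (R e (qq k))⁻¹ ∈ four S e 1 := by
      intro u hu
      rw [mem_four_iff S e] at hu ⊢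
      rcases hu with rfl | rfl | rfl | rfl
      · left; group
      · right; left; exact hν1
      · right; right; right; exact hν2
      · right; right; left; exact hν3
    apply lemmaE S e _ (Tr_mul S e _ g hn hT)
    have e1 : R e (qq k) * g * R e (hh k) * (R e (qq k) * g)⁻¹ =
        R e (qq k) * (g * R e (hh k) * g⁻¹) * (R e (qq k))⁻¹ := by group
    rw [e1, h, hν3]

/-- a Klein four-subgroup of `S` is one of the `four j` -/
theorem eq_four_of_le (V : Subgroup X) (hV : IsKleinFour V) (hVS : V ≤ S) :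
    ∃ j, V = four S e j := by
  obtain ⟨hz1, hzo⟩ := z_facts S e
  have hsq : ∀ v ∈ V, v * v = 1 := by
    intro v hv
    have h1 : (⟨v, hv⟩ : V) ^ 2 = 1 := by
      rw [← hV.exponent_two]; exact Monoid.pow_exponent_eq_one _
    have h2 := congrArg Subtype.val h1
    rw [pow_two] at h2
    exact h2
  have hcomm : ∀ a ∈ V, ∀ b ∈ V, a * b = b * a := by
    intro a ha b hb
    exact congrArg Subtype.val
      ((IsKleinFour.isMulCommutative (G := V)).is_comm.comm ⟨a, ha⟩ ⟨b, hb⟩)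
  -- V contains a reflection
  obtain ⟨j, hj⟩ : ∃ j, SR e j ∈ V := by
    by_contra hcon
    push Not at hcon
    have hsub : (V : Set X) ⊆ {1, R e (hh k)} := by
      intro v hv
      rcases cases_mem e (hVS hv) with ⟨i, rfl⟩ | ⟨i, rfl⟩
      · have h1 := hsq _ hv
        rw [R_mul_R, ← R_zero e] at h1
        rcases two_torsion i (R_injective e h1) with h | h
        · left; rw [h, R_zero]
        · right; rw [h]; rfl
      · exact absurd hv (hcon i)
    have h1 : Nat.card V = (V : Set X).ncard := rfl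
    have h2 : (V : Set X).ncard ≤ ({1, R e (hh k)} : Set X).ncard :=
      Set.ncard_le_ncard hsub (Set.toFinite _)
    have h3 : ({1, R e (hh k)} : Set X).ncard ≤ 2 := Set.ncard_insert_le _ _ |>.trans (by simp)
    rw [hV.card_four] at h1
    omega
  refine ⟨j, ?_⟩
  have hfin : Finite (four S e j) := inferInstance
  apply Subgroup.eq_of_le_of_card_ge
  · intro v hv
    have hc : v ∈ centralizer ({SR e j} : Set X) := by
      rw [mem_centralizer_iff]
      intro w hw
      rw [Set.mem_singleton_iff] at hw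
      rw [hw]
      exact hcomm _ hj _ hv
    exact mem_inf.mpr ⟨hVS hv, hc⟩
  · rw [hV.card_four, (isKleinFour_four S e j).card_four]

theorem four_conj_R (j q : ZMod (2 ^ (k + 2))) :
    (four S e j).map (MulAut.conj (R e q)).toMonoidHom = four S e (j - q - q) := by
  have hfin : Finite (four S e (j - q - q)) := inferInstance
  apply Subgroup.eq_of_le_of_card_ge
  · apply map_conj_le_of_forall
    intro u hu
    rw [mem_four_iff S e] at hu ⊢
    rcases hu with rfl | rfl | rfl | rfl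
    · left; group
    · right; left
      rw [R_inv, R_mul_R, R_mul_R]
      congr 1
      ring
    · right; right; left
      exact R_conj_SR e j q
    · right; right; right
      rw [R_conj_SR]
      congr 1
      ring
  · rw [(isKleinFour_map_conj _ (isKleinFour_four S e j) _).card_four,
      (isKleinFour_four S e _).card_four]

theorem four_conj_01 (j : ZMod (2 ^ (k + 2))) :
    (∃ x : X, (four S e j).map (MulAut.conj x).toMonoidHom = four S e 0) ∨
      ∃ x : X, (four S e j).map (MulAut.conj x).toMonoidHom = four S e 1 := by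
  have : NeZero (2 ^ (k + 2)) := ⟨by positivity⟩
  have hi : ((j.val : ℕ) : ZMod (2 ^ (k + 2))) = j := ZMod.natCast_zmod_val j
  rcases Nat.even_or_odd' j.val with ⟨q, hq | hq⟩
  · left
    refine ⟨R e (q : ZMod (2 ^ (k + 2))), ?_⟩
    rw [four_conj_R]
    congr 1
    rw [← hi, hq]
    push_cast
    ring
  · right
    refine ⟨R e (q : ZMod (2 ^ (k + 2))), ?_⟩
    rw [four_conj_R]
    congr 1
    rw [← hi, hq]
    push_cast
    ring

include e in
theorem part_two : ∃ U₁ U₂ : Subgroup X, IsKleinFour U₁ ∧ IsKleinFour U₂ ∧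
    ¬ (∃ x : X, U₁.map (MulAut.conj x).toMonoidHom = U₂) ∧
    ∀ V : Subgroup X, IsKleinFour V → (∃ x : X, V.map (MulAut.conj x).toMonoidHom = U₁) ∨
      (∃ x : X, V.map (MulAut.conj x).toMonoidHom = U₂) := by
  refine ⟨four S e 0, four S e 1, isKleinFour_four S e 0, isKleinFour_four S e 1,
    not_conj S e, ?_⟩
  intro V hV
  obtain ⟨g, hg⟩ := exists_conj_le_sylow S V hV
  obtain ⟨j, hj⟩ := eq_four_of_le S e _ (isKleinFour_map_conj V hV g) hg
  rcases four_conj_01 S e j with ⟨x, hx⟩ | ⟨x, hx⟩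
  · left
    refine ⟨x * g, ?_⟩
    rw [← map_conj_mul, hj, hx]
  · right
    refine ⟨x * g, ?_⟩
    rw [← map_conj_mul, hj, hx]

end big

/-- Let X be a finite group whose Sylow 2-subgroup S is dihedral of order 2m ≥ 4. If |S| = 4, any two Klein four-subgroups of X are conjugate; if |S| > 4, there are Klein four-subgroups U₁, U₂ of X that are not conjugate, and every Klein four-subgroup of X is conjugate to U₁ or to U₂. -/
theorem result {X : Type*} [Group X] [Finite X] (S : Sylow 2 X) (m : ℕ) (hm : 2 ≤ m) (eS : (S : Subgroup X) ≃* DihedralGroup m) : (Nat.card S = 4 → ∀ U V : Subgroup X, IsKleinFour U → IsKleinFour V → (∃ x : X, U.map (MulAut.conj x).toMonoidHom = V)) ∧ (4 < Nat.card S → ∃ U₁ U₂ : Subgroup X, IsKleinFour U₁ ∧ IsKleinFour U₂ ∧ ¬ (∃ x : X, U₁.map (MulAut.conj x).toMonoidHom = U₂) ∧ ∀ V : Subgroup X, IsKleinFour V → (∃ x : X, V.map (MulAut.conj x).toMonoidHom = U₁) ∨ (∃ x : X, V.map (MulAut.conj x).toMonoidHom = U₂)) := by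
  classical
  have : Fact (Nat.Prime 2) := ⟨Nat.prime_two⟩
  constructor
  · intro hS U V hU hV
    exact part_one S hS U V hU hV
  · intro hS
    obtain ⟨a, ha⟩ := IsPGroup.iff_card.mp S.2
    have hcard : Nat.card (S : Subgroup X) = 2 * m := card_eq eS
    have hS' : 4 < Nat.card (S : Subgroup X) := hS
    rw [hcard] at ha hS'
    obtain ⟨b, hb⟩ : ∃ b, m = 2 ^ b := by
      have h1 : m ∣ 2 ^ a := ⟨2, by rw [← ha]; ring⟩
      obtain ⟨b, -, hb⟩ := (Nat.dvd_prime_pow Nat.prime_two).mp h1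
      exact ⟨b, hb⟩
    have hb2 : 2 ≤ b := by
      by_contra hcon
      push Not at hcon
      have : b = 0 ∨ b = 1 := by omega
      rcases this with h | h <;> rw [hb, h] at hS' <;> norm_num at hS'
    obtain ⟨k, rfl⟩ : ∃ k, b = k + 2 := ⟨b - 2, by omega⟩
    subst hb
    exact part_two S eS

end Cfsg.Agent.S1256
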