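import Cfsg.Statements.S1273
import Cfsg.Agent.Lib.Helper23_PComp

set_option autoImplicit false
open Cfsg

namespace Cfsg.Agent.S1273

/-- Let K be a p-component of the finite group X and N a normal subgroup of K whose index in K is prime to p. Then N = K. -/
theorem result {X : Type*} [Group X] [Finite X] (p : ℕ) [Fact p.Prime] (K : Subgroup X) (hK : Cfsg.IsPComponent p K) (N : Subgroup ↥K) [N.Normal] (hidx : (N.index).Coprime p) : N = ⊤ := by
  have hNK : N.map K.subtype ≤ K := Subgroup.map_subtype_le _
  have hcm : (N.map K.subtype).subgroupOf K = N := by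
    rw [Subgroup.subgroupOf, Subgroup.comap_map_eq_self_of_injective K.subtype_injective]
  have hNn : ((N.map K.subtype).subgroupOf K).Normal := by rw [hcm]; infer_instance
  have hidx' : ((N.map K.subtype).relIndex K).Coprime p := by
    rw [Subgroup.relIndex, hcm]; exact hidx
  have h := Cfsg.Agent.Lib.Helper23_PComp.pcomp_eq_of_normal_coprime p hK hNK hNn hidx'
  rw [← hcm, h, Subgroup.subgroupOf_self]


end Cfsg.Agent.S1273
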