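import Cfsg.Statements.S1277
import Cfsg.Agent.Lib.Helper23_PComp
import Cfsg.Agent.Lib.Helper22_Quasisimple
import Cfsg.Agent.Lib.Helper22_Layer
import Cfsg.Agent.Lib.Helper22_PComponent

set_option autoImplicit false
open Cfsg

namespace Cfsg.Agent.S1277

open Cfsg.Agent.Lib.Helper23_PComp Cfsg.Agent.Lib.Helper21_Components Cfsg.Agent.Lib.Helper22_Quasisimple
open Cfsg.Agent.Lib.Helper22_Layer Cfsg.Agent.Lib.Helper22_PComponent Cfsg.Agent.Lib.Helper29_Local

/-- a component of `X` whose image modulo the `p'`-core is a component is a `p`-component -/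
theorem isPComponent_of_isComponent {X : Type*} [Group X] [Finite X] (p : ℕ) {L : Subgroup X}
    (hL : IsComponent L) (hLbar : IsComponent (L.map (QuotientGroup.mk' (pPrimeCore p X)))) :
    IsPComponent p L := by
  refine ⟨hL.1, hLbar, ?_⟩
  intro H hH hHL himg
  have hsn : (H.subgroupOf L).IsSubnormal := hH.subgroupOf
  rcases IsQuasisimple.subnormal_eq_top_or_le_center hL.2 _ hsn with h | h
  · exact le_antisymm hHL (Subgroup.subgroupOf_eq_top.mp h)
  · exfalso
    -- H is abelian, hence so is its image, which is perfect and nontrivial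
    have hcomm : ⁅H, H⁆ = ⊥ := by
      rw [Subgroup.commutator_eq_bot_iff_le_centralizer]
      intro a ha
      rw [Subgroup.mem_centralizer_iff]
      intro b hb
      have hac : (⟨a, hHL ha⟩ : L) ∈ Subgroup.center ↥L := h (Subgroup.mem_subgroupOf.mpr ha)
      have := Subgroup.mem_center_iff.mp hac ⟨b, hHL hb⟩
      exact congrArg Subtype.val this
    have h1 := commutator_eq_self_of_isQuasisimple hLbar.2
    rw [← himg, ← Subgroup.map_commutator, hcomm, Subgroup.map_bot] at h1
    exact ne_bot_of_isQuasisimple hLbar.2 (himg ▸ h1.symm)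

/-- For a finite group X with core O(X): the image of E(X) in X / O(X) is all of E(X / O(X)) if and only if every 2-component of X is a component, i.e. L_{2'}(X) ≤ E(X). -/
theorem result {X : Type*} [Group X] [Finite X] : (Cfsg.layer X).map (QuotientGroup.mk' (Cfsg.oddCore X)) = Cfsg.layer (X ⧸ Cfsg.oddCore X) ↔ Cfsg.pLayer 2 X ≤ Cfsg.layer X := by
  have hsurj : Function.Surjective (QuotientGroup.mk' (Cfsg.oddCore X)) := QuotientGroup.mk'_surjective _
  constructor
  · intro h
    unfold Cfsg.pLayer
    rw [sSup_le_iff]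
    intro K hK
    -- some component of X has the same image as K
    have hKbar : IsComponent (K.map (QuotientGroup.mk' (Cfsg.oddCore X))) := hK.2.1
    have hex : ∃ L : Subgroup X, IsComponent L ∧
        L.map (QuotientGroup.mk' (Cfsg.oddCore X)) = K.map (QuotientGroup.mk' (Cfsg.oddCore X)) := by
      by_contra hno
      push Not at hno
      have hcent : Cfsg.layer X ≤ (Subgroup.centralizer
          ((K.map (QuotientGroup.mk' (Cfsg.oddCore X)) : Subgroup _) : Set (X ⧸ Cfsg.oddCore X))).comap
          (QuotientGroup.mk' (Cfsg.oddCore X)) := by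
        rw [layer_le_iff]
        intro L hL
        rw [← Subgroup.map_le_iff_le_comap, ← Subgroup.commutator_eq_bot_iff_le_centralizer]
        rcases IsComponent.map_eq_bot_or hsurj hL with h0 | h0
        · rw [h0]; exact Subgroup.commutator_bot_left _
        · exact IsComponent.commutator_eq_bot_of_ne h0 hKbar (hno L hL)
      rw [← Subgroup.map_le_iff_le_comap, h] at hcent
      have hK1 : K.map (QuotientGroup.mk' (Cfsg.oddCore X)) ≤ Cfsg.layer (X ⧸ Cfsg.oddCore X) :=
        IsComponent.le_layer hKbar
      have hab : ⁅K.map (QuotientGroup.mk' (Cfsg.oddCore X)), K.map (QuotientGroup.mk' (Cfsg.oddCore X))⁆ = ⊥ :=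
        Subgroup.commutator_eq_bot_iff_le_centralizer.mpr (hK1.trans hcent)
      rw [commutator_eq_self_of_isQuasisimple hKbar.2] at hab
      exact ne_bot_of_isQuasisimple hKbar.2 hab
    obtain ⟨L, hL, hLK⟩ := hex
    have hLp : IsPComponent 2 L := isPComponent_of_isComponent 2 hL (hLK ▸ hKbar)
    have := pcomp_unique 2 hLp hK hLK
    rw [← this]
    exact IsComponent.le_layer hL
  · intro h
    apply le_antisymm (map_layer_le_of_surjective hsurj)
    rw [← pLayer_map_eq_layer 2]
    exact Subgroup.map_mono h

end Cfsg.Agent.S1277
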