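import Cfsg.Statements.S1279
import Cfsg.Agent.Lib.Helper23_Balance
import Cfsg.Agent.Lib.Helper23_Transitivity

set_option autoImplicit false
open Cfsg

namespace Cfsg.Agent.S1279

/-- Let A be a noncyclic elementary abelian p-subgroup of the finite group G such that C_G(a) is solvable for every non-identity a ∈ A. Then a ↦ O_{p'}(C_G(a)) is a solvable A-signalizer functor on G. -/
theorem result {G : Type*} [Group G] [Finite G] (p : ℕ) [Fact p.Prime] (A : Subgroup G) (hA : Cfsg.IsElementaryAbelian p A) (hA2 : p ^ 2 ≤ Nat.card ↥A) (hsolv : ∀ a ∈ A, a ≠ 1 → Group.IsSolvable ↥(Subgroup.centralizer ({a} : Set G))) : Cfsg.IsSolvableSignalizerFunctor p A (fun a => Cfsg.centralizerPPrimeCore p a) := by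
  have hcomm : ∀ a ∈ A, ∀ b ∈ A, a * b = b * a := fun a ha b hb =>
    Cfsg.Agent.Lib.Helper23_Transitivity.commute_of_elementaryAbelian hA ha hb
  refine ⟨⟨?_, ?_, ?_, ?_⟩, ?_⟩
  · intro a _ _
    exact Subgroup.map_subtype_le _
  · intro a _ _
    have h1 : Nat.card ↥(Cfsg.centralizerPPrimeCore p a) =
        Nat.card ↥(Cfsg.pPrimeCore p ↥(Subgroup.centralizer ({a} : Set G))) :=
      Cfsg.Agent.Lib.Helper23_Layer.card_relCore p _
    rw [h1]
    have h2 := Cfsg.Agent.Lib.Helper23_Layer.pPrimeCore_coprime (G := ↥(Subgroup.centralizer ({a} : Set G))) p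
    exact fun hdvd => (Nat.Prime.coprime_iff_not_dvd Fact.out).mp h2.symm hdvd
  · intro a ha _ b hb x hx
    obtain ⟨x', hx', rfl⟩ := hx
    have hbC : b ∈ Subgroup.centralizer ({a} : Set G) := by
      rw [Subgroup.mem_centralizer_iff]
      intro z hz
      rw [Set.mem_singleton_iff] at hz
      rw [hz]; exact hcomm a ha b hb
    have hn : (Cfsg.pPrimeCore p ↥(Subgroup.centralizer ({a} : Set G))).Normal := inferInstance
    exact ⟨⟨b, hbC⟩ * x' * ⟨b, hbC⟩⁻¹, hn.conj_mem x' hx' ⟨b, hbC⟩, rfl⟩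
  · intro a ha _ b hb hb1
    have := hsolv b hb hb1
    exact Cfsg.Agent.Lib.Helper23_Balance.centralizerPPrimeCore_inf_le p a b (hA.2 a ha)
      (hcomm a ha b hb) (Cfsg.Agent.Lib.Helper23_Balance.pLayer_eq_bot_of_isSolvable _ p)
  · intro a ha ha1
    have := hsolv a ha ha1
    have hle : Cfsg.centralizerPPrimeCore p a ≤ Subgroup.centralizer ({a} : Set G) :=
      Subgroup.map_subtype_le _
    exact Group.isSolvable_of_isSolvable_injective (Subgroup.inclusion_injective hle)

end Cfsg.Agent.S1279
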