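import Cfsg.Statements.S1280
import Cfsg.Agent.Lib.Helper22_Coprime
import Cfsg.Agent.Lib.Helper22_Basic

set_option autoImplicit false
open Cfsg

namespace Cfsg.Agent.S1280

open Cfsg.Agent.Lib.Helper22_Coprime Cfsg.Agent.Lib.Helper22_Basic
open scoped Pointwise

/-- Let θ be a solvable A-signalizer functor (A a noncyclic elementary abelian p-subgroup of the finite group G), and X, Y members of its family with Y ≤ N_G(X). Then X ⊔ Y (= XY) is again in the family. -/
theorem result {G : Type*} [Group G] [Finite G] (p : ℕ) [Fact p.Prime] (A : Subgroup G) (hA : Cfsg.IsElementaryAbelian p A) (hA2 : p ^ 2 ≤ Nat.card ↥A) (θ : G → Subgroup G) (hθ : Cfsg.IsSolvableSignalizerFunctor p A θ) (X Y : Subgroup G) (hX : X ∈ Cfsg.signalizerFamily p A θ) (hY : Y ∈ Cfsg.signalizerFamily p A θ) (hn : Y ≤ Subgroup.normalizer (X : Set G)) : X ⊔ Y ∈ Cfsg.signalizerFamily p A θ := by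
  obtain ⟨hXs, hXp, hXA, hXθ⟩ := hX
  obtain ⟨hYs, hYp, hYA, hYθ⟩ := hY
  have hpp : p.Prime := Fact.out
  refine ⟨isSolvable_sup_of_le_normalizer X Y hn hXs hYs, ?_, ?_, ?_⟩
  · intro hdvd
    have := dvd_trans hdvd (card_sup_dvd_of_le_normalizer X Y hn)
    rcases (Nat.Prime.dvd_mul hpp).mp this with h | h
    · exact hXp h
    · exact hYp h
  · intro b hb u hu
    have hu' : u ∈ ((X ⊔ Y : Subgroup G) : Set G) := hu
    rw [Subgroup.coe_mul_of_right_le_normalizer_left X Y hn] at hu'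
    obtain ⟨x, hx, y, hy, rfl⟩ := hu'
    have : b * (x * y) * b⁻¹ = (b * x * b⁻¹) * (b * y * b⁻¹) := by group
    rw [this]
    exact (X ⊔ Y).mul_mem (Subgroup.mem_sup_left (hXA b hb x hx)) (Subgroup.mem_sup_right (hYA b hb y hy))
  · intro a ha ha1 g hg
    obtain ⟨hgXY, hga⟩ := hg
    have hg' : g ∈ ((X ⊔ Y : Subgroup G) : Set G) := hgXY
    rw [Subgroup.coe_mul_of_right_le_normalizer_left X Y hn] at hg'
    obtain ⟨x, hx, y, hy, rfl⟩ := hg'
    have hx : x ∈ X := hx
    have hy : y ∈ Y := hy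
    -- a commutes with x * y
    have hga' : x * y ∈ Subgroup.centralizer {a} := hga
    rw [Subgroup.mem_centralizer_iff] at hga'
    have hcomm : a * (x * y) = (x * y) * a := hga' a (Set.mem_singleton a)
    have hap : a ^ p = 1 := hA.2 a ha
    have hP : IsPGroup p (Subgroup.zpowers a) := by
      intro g
      obtain ⟨k, hk⟩ := Subgroup.mem_zpowers_iff.mp g.2
      refine ⟨1, ?_⟩
      apply Subtype.ext
      simp only [pow_one, Subgroup.coe_pow, Subgroup.coe_one]
      rw [← hk, ← zpow_natCast, ← zpow_mul, mul_comm, zpow_mul, zpow_natCast, hap, one_zpow]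
    have hPA : Subgroup.zpowers a ≤ A := by
      rw [Subgroup.zpowers_le]; exact ha
    set M : Subgroup G := X ⊓ Y with hMdef
    have hM : ¬ p ∣ Nat.card M := by
      intro hdvd
      exact hXp (dvd_trans hdvd (Subgroup.card_dvd_of_le inf_le_left))
    -- conjugation by elements of A preserves X and Y (both directions)
    have hconjX : ∀ c ∈ A, ∀ m, m ∈ X ↔ c * m * c⁻¹ ∈ X := by
      intro c hc m
      constructor
      · exact hXA c hc m
      · intro h
        have := hXA c⁻¹ (A.inv_mem hc) _ h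
        have e : c⁻¹ * (c * m * c⁻¹) * c⁻¹⁻¹ = m := by group
        rwa [e] at this
    have hconjY : ∀ c ∈ A, ∀ m, m ∈ Y ↔ c * m * c⁻¹ ∈ Y := by
      intro c hc m
      constructor
      · exact hYA c hc m
      · intro h
        have := hYA c⁻¹ (A.inv_mem hc) _ h
        have e : c⁻¹ * (c * m * c⁻¹) * c⁻¹⁻¹ = m := by group
        rwa [e] at this
    have hnorm : Subgroup.zpowers a ≤ Subgroup.normalizer (M : Set G) := by
      intro c hc
      have hcA : c ∈ A := hPA hc
      rw [Subgroup.mem_normalizer_iff]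
      intro m
      constructor
      · rintro ⟨hm1, hm2⟩
        exact ⟨(hconjX c hcA m).mp hm1, (hconjY c hcA m).mp hm2⟩
      · rintro ⟨hm1, hm2⟩
        exact ⟨(hconjX c hcA m).mpr hm1, (hconjY c hcA m).mpr hm2⟩
    have hcoset : ∀ c ∈ Subgroup.zpowers a, y⁻¹ * c * y * c⁻¹ ∈ M := by
      intro c hc
      have hcA : c ∈ A := hPA hc
      obtain ⟨k, rfl⟩ := Subgroup.mem_zpowers_iff.mp hc
      have hck : Commute (a ^ k) (x * y) := (show Commute a (x * y) from hcomm).zpow_left k
      set c := a ^ k with hcdef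
      have hw : c * y * c⁻¹ ∈ Y := hYA c hcA y hy
      constructor
      · -- y * (c y c⁻¹)⁻¹ = x⁻¹ * (c x c⁻¹) ∈ X
        have h1 : y * (c * y * c⁻¹)⁻¹ = x⁻¹ * (c * x * c⁻¹) := by
          have : c * (x * y) * c⁻¹ = x * y := by
            rw [hck.eq]; group
          have e2 : c * (x * y) * c⁻¹ = (c * x * c⁻¹) * (c * y * c⁻¹) := by group
          rw [e2] at this
          -- (c x c⁻¹)(c y c⁻¹) = x y
          have : c * y * c⁻¹ = (c * x * c⁻¹)⁻¹ * (x * y) := by
            rw [← this]; group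
          rw [this]; group
        have h2 : y * (c * y * c⁻¹)⁻¹ ∈ X := by
          rw [h1]
          exact X.mul_mem (X.inv_mem hx) (hXA c hcA x hx)
        -- y⁻¹ * w = y⁻¹ * (y w⁻¹)⁻¹ * y
        have h3 : y⁻¹ * c * y * c⁻¹ = y⁻¹ * (y * (c * y * c⁻¹)⁻¹)⁻¹ * y⁻¹⁻¹ := by group
        rw [h3]
        have hyinv : y⁻¹ ∈ Subgroup.normalizer (X : Set G) := hn (Y.inv_mem hy)
        exact (Subgroup.mem_normalizer_iff.mp hyinv _).mp (X.inv_mem h2)
      · have : y⁻¹ * c * y * c⁻¹ = y⁻¹ * (c * y * c⁻¹) := by group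
        rw [this]
        exact Y.mul_mem (Y.inv_mem hy) hw
    obtain ⟨m, hmM, hfix⟩ := exists_fixed_in_coset (Subgroup.zpowers a) M hP hM hnorm y hcoset
    have hfixa : a * (y * m) * a⁻¹ = y * m := hfix a (Subgroup.mem_zpowers a)
    have hym : y * m ∈ Y := Y.mul_mem hy hmM.2
    have hymc : y * m ∈ Subgroup.centralizer {a} := by
      rw [Subgroup.mem_centralizer_iff]
      intro c hc
      rw [Set.mem_singleton_iff] at hc
      subst hc
      calc c * (y * m) = c * (y * m) * c⁻¹ * c := by group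
        _ = y * m * c := by rw [hfixa]
    have hymθ : y * m ∈ θ a := hYθ a ha ha1 ⟨hym, hymc⟩
    -- x' = x * y * (y * m)⁻¹ = x * (y m⁻¹ y⁻¹) ∈ X
    have hx' : x * y * (y * m)⁻¹ ∈ X := by
      have : x * y * (y * m)⁻¹ = x * (y * m⁻¹ * y⁻¹) := by group
      rw [this]
      have hyn : y ∈ Subgroup.normalizer (X : Set G) := hn hy
      exact X.mul_mem hx ((Subgroup.mem_normalizer_iff.mp hyn _).mp (X.inv_mem hmM.1))
    have hx'c : x * y * (y * m)⁻¹ ∈ Subgroup.centralizer {a} :=
      (Subgroup.centralizer {a}).mul_mem hga ((Subgroup.centralizer {a}).inv_mem hymc)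
    have hx'θ : x * y * (y * m)⁻¹ ∈ θ a := hXθ a ha ha1 ⟨hx', hx'c⟩
    have : x * y = (x * y * (y * m)⁻¹) * (y * m) := by group
    show x * y ∈ θ a
    rw [this]
    exact (θ a).mul_mem hx'θ hymθ

end Cfsg.Agent.S1280
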