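import Cfsg.Statements.S1281
import Cfsg.Agent.Lib.Helper22_Coprime

set_option autoImplicit false
open Cfsg

namespace Cfsg.Agent.S1281

open Cfsg.Agent.Lib.Helper22_Coprime

/-- Let θ be a solvable A-signalizer functor on the finite group G (A a noncyclic elementary abelian p-subgroup) and N a normal subgroup of order prime to p. Then for all non-identity a, b ∈ A, the image of θ a in G / N meets the centralizer of the image of b inside the image of θ b. -/
theorem result {G : Type*} [Group G] [Finite G] (p : ℕ) [Fact p.Prime] (A : Subgroup G) (hA : Cfsg.IsElementaryAbelian p A) (hA2 : p ^ 2 ≤ Nat.card ↥A) (θ : G → Subgroup G) (hθ : Cfsg.IsSolvableSignalizerFunctor p A θ) (N : Subgroup G) [N.Normal] (hN : ¬ p ∣ Nat.card ↥N) (a b : G) (ha : a ∈ A) (ha1 : a ≠ 1) (hb : b ∈ A) (hb1 : b ≠ 1) : (θ a).map (QuotientGroup.mk' N) ⊓ Subgroup.centralizer {QuotientGroup.mk' N b} ≤ (θ b).map (QuotientGroup.mk' N) := by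
  obtain ⟨⟨hcent, hpprime, hinv, hbal⟩, _⟩ := hθ
  intro y hy
  obtain ⟨hy1, hy2⟩ := hy
  obtain ⟨x, hxθ, rfl⟩ := hy1
  have hxθ' : x ∈ θ a := hxθ
  have hy2' : (QuotientGroup.mk' N) x ∈ Subgroup.centralizer {(QuotientGroup.mk' N) b} := hy2
  rw [Subgroup.mem_centralizer_iff] at hy2'
  have hcommb : (QuotientGroup.mk' N b) * (QuotientGroup.mk' N x) = (QuotientGroup.mk' N x) * (QuotientGroup.mk' N b) :=
    hy2' _ (Set.mem_singleton _)
  -- P = zpowers b is a p-group
  have hbp : b ^ p = 1 := hA.2 b hb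
  have hP : IsPGroup p (Subgroup.zpowers b) := by
    intro g
    obtain ⟨k, hk⟩ := Subgroup.mem_zpowers_iff.mp g.2
    refine ⟨1, ?_⟩
    apply Subtype.ext
    simp only [pow_one, Subgroup.coe_pow, Subgroup.coe_one]
    rw [← hk, ← zpow_natCast, ← zpow_mul, mul_comm, zpow_mul, zpow_natCast, hbp, one_zpow]
  have hPA : Subgroup.zpowers b ≤ A := by
    rw [Subgroup.zpowers_le]; exact hb
  set M : Subgroup G := N ⊓ θ a with hMdef
  have hM : ¬ p ∣ Nat.card M := by
    intro hdvd
    exact hpprime a ha ha1 (dvd_trans hdvd (Subgroup.card_dvd_of_le inf_le_right))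
  have hnorm : Subgroup.zpowers b ≤ Subgroup.normalizer (M : Set G) := by
    intro g hg
    have hgA : g ∈ A := hPA hg
    have hgA' : g⁻¹ ∈ A := A.inv_mem hgA
    rw [Subgroup.mem_normalizer_iff]
    intro m
    constructor
    · rintro ⟨hm1, hm2⟩
      exact ⟨(inferInstance : N.Normal).conj_mem m hm1 g, hinv a ha ha1 g hgA m hm2⟩
    · rintro ⟨hm1, hm2⟩
      have e : m = g⁻¹ * (g * m * g⁻¹) * g⁻¹⁻¹ := by group
      constructor
      · have := (inferInstance : N.Normal).conj_mem _ hm1 g⁻¹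
        rw [e]; exact this
      · have := hinv a ha ha1 g⁻¹ hgA' _ hm2
        rw [e]; exact this
  have hx : ∀ g ∈ Subgroup.zpowers b, x⁻¹ * g * x * g⁻¹ ∈ M := by
    intro g hg
    have hgA : g ∈ A := hPA hg
    constructor
    · -- in N : the images commute
      obtain ⟨k, rfl⟩ := Subgroup.mem_zpowers_iff.mp hg
      have hc : Commute (QuotientGroup.mk' N b) (QuotientGroup.mk' N x) := hcommb
      have hc' : Commute ((QuotientGroup.mk' N b) ^ k) (QuotientGroup.mk' N x) := hc.zpow_left k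
      have : QuotientGroup.mk' N (x⁻¹ * b ^ k * x * (b ^ k)⁻¹) = 1 := by
        simp only [map_mul, map_inv, map_zpow]
        rw [mul_assoc _ _ (QuotientGroup.mk' N x), hc'.eq]
        group
      exact (QuotientGroup.eq_one_iff _).mp this
    · have h1 : g * x * g⁻¹ ∈ θ a := hinv a ha ha1 g hgA x hxθ'
      have : x⁻¹ * g * x * g⁻¹ = x⁻¹ * (g * x * g⁻¹) := by group
      rw [this]
      exact (θ a).mul_mem ((θ a).inv_mem hxθ') h1
  obtain ⟨m, hmM, hfix⟩ := exists_fixed_in_coset (Subgroup.zpowers b) M hP hM hnorm x hx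
  have hxm : x * m ∈ θ a := (θ a).mul_mem hxθ' hmM.2
  have hxmb : x * m ∈ Subgroup.centralizer {b} := by
    rw [Subgroup.mem_centralizer_iff]
    intro c hc
    rw [Set.mem_singleton_iff] at hc
    subst hc
    have := hfix c (Subgroup.mem_zpowers c)
    calc c * (x * m) = c * (x * m) * c⁻¹ * c := by group
      _ = x * m * c := by rw [this]
  have hin : x * m ∈ θ b := hbal a ha ha1 b hb hb1 ⟨hxm, hxmb⟩
  refine ⟨x * m, hin, ?_⟩
  have : QuotientGroup.mk' N m = 1 := (QuotientGroup.eq_one_iff _).mpr hmM.1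
  rw [map_mul, this, mul_one]

end Cfsg.Agent.S1281
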