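import Cfsg.Statements.S1285
import Cfsg.Agent.Lib.Helper22_Signalizer

set_option autoImplicit false
open Cfsg

namespace Cfsg.Agent.S1285

open Subgroup Cfsg.Agent.Lib.Helper22_Signalizer

/-- for `a` of order `p`, `θ(⟨a⟩) = θ a` -/
theorem signalizerInf_zpowers {G : Type*} [Group G] {p : ℕ} {A : Subgroup G} {θ : G → Subgroup G}
    (hθ : IsSignalizerFunctor p A θ) {a : G} (ha : a ∈ A) (ha1 : a ≠ 1) :
    signalizerInf (zpowers a) θ = θ a := by
  apply le_antisymm
  · exact iInf_le (fun b : {b : G // b ∈ zpowers a ∧ b ≠ 1} => θ (b : G)) ⟨a, mem_zpowers a, ha1⟩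
  · intro x hx
    rw [mem_signalizerInf_iff]
    intro b hb hb1
    have hbA : b ∈ A := (zpowers_le.mpr ha) hb
    apply hθ.2.2.2 a ha ha1 b hbA hb1
    refine ⟨hx, ?_⟩
    have hxa : x ∈ centralizer ({a} : Set G) := hθ.1 a ha ha1 hx
    rw [← centralizer_zpowers_eq] at hxa
    exact Subgroup.centralizer_le (Set.singleton_subset_iff.mpr hb) hxa

/-- Let θ be a solvable A-signalizer functor on the finite group G with A elementary abelian of rank at least 3, and suppose that for some prime q every θ a (a ∈ A non-identity) is a q-group. Then θ is complete. -/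
theorem result {G : Type*} [Group G] [Finite G] (p : ℕ) [Fact p.Prime] (A : Subgroup G) (hA : Cfsg.IsElementaryAbelian p A) (hA3 : p ^ 3 ≤ Nat.card ↥A) (θ : G → Subgroup G) (hθ : Cfsg.IsSolvableSignalizerFunctor p A θ) (q : ℕ) [Fact q.Prime] (hq : ∀ a ∈ A, a ≠ 1 → IsPGroup q ↥(θ a)) : Cfsg.IsCompleteSignalizerFunctor p A θ := by
  have hpp : p.Prime := Fact.out
  have hbot : (⊥ : Subgroup G) ∈ signalizerFamily p A θ := bot_mem_family hpp.ne_one
  obtain ⟨Q, hQ, _⟩ := exists_isMaxQ_ge (q := q) hbot IsPGroup.of_bot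
  refine ⟨hθ.1, Q, hQ.1.2.2.1, hQ.1.2.1, ?_⟩
  intro a ha ha1
  have hzA : zpowers a ≤ A := zpowers_le.mpr ha
  have hz1 : zpowers a ≠ ⊥ := by
    intro h
    exact ha1 (Subgroup.zpowers_eq_bot.mp h)
  obtain ⟨S, hS⟩ := exists_sylow_eq_inf_centralizer hA hA3 hθ hQ hzA hz1
  rw [centralizer_zpowers_eq] at hS
  rw [← hS]
  have hK := signalizerInf_zpowers hθ.1 ha ha1
  have hKq : IsPGroup q ↥(signalizerInf (zpowers a) θ) := by
    rw [hK]; exact hq a ha ha1
  have htop : (S : Subgroup ↥(signalizerInf (zpowers a) θ)) = ⊤ := by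
    have hq' : IsPGroup q ↥(⊤ : Subgroup ↥(signalizerInf (zpowers a) θ)) := hKq.to_subgroup _
    exact (S.is_maximal' hq' le_top).symm
  rw [htop, ← MonoidHom.range_eq_map, Subgroup.range_subtype]
  exact hK

end Cfsg.Agent.S1285
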