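import Cfsg.Statements.S1286
import Mathlib

set_option autoImplicit false
open Cfsg

namespace Cfsg.Agent.S1286

open Equiv

abbrev X := Perm (Fin 5)

def a5 : X := swap 3 4
def b5 : X := swap 1 2
def ga : X := swap 0 1 * swap 1 2
def gb : X := swap 0 3 * swap 3 4
def tt : X := ga * gb * ga * gb ^ 2

/-- the four-group generated by the two commuting transpositions -/
def A4 : Subgroup X where
  carrier := {x | x = 1 ∨ x = a5 ∨ x = b5 ∨ x = a5 * b5}
  one_mem' := Or.inl rfl
  mul_mem' := by
    rintro x y (rfl | rfl | rfl | rfl) (rfl | rfl | rfl | rfl) <;>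
      simp only [Set.mem_ofPred_eq] <;> decide
  inv_mem' := by
    rintro x (rfl | rfl | rfl | rfl) <;>
      simp only [Set.mem_ofPred_eq] <;> decide

theorem mem_A4 (x : X) : x ∈ A4 ↔ x = 1 ∨ x = a5 ∨ x = b5 ∨ x = a5 * b5 := Iff.rfl

/-- the functor -/
noncomputable def θ5 (x : X) : Subgroup X :=
  if x = a5 then Subgroup.zpowers ga else if x = b5 then Subgroup.zpowers gb else ⊥

theorem θ5_a : θ5 a5 = Subgroup.zpowers ga := by
  unfold θ5; rw [if_pos rfl]

theorem θ5_b : θ5 b5 = Subgroup.zpowers gb := by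
  unfold θ5; rw [if_neg (by decide), if_pos rfl]

theorem θ5_c : θ5 (a5 * b5) = ⊥ := by
  unfold θ5; rw [if_neg (by decide), if_neg (by decide)]

theorem mem_zpowers_three {G : Type*} [Group G] (g : G) (hg : g ^ 3 = 1) (u : G)
    (hu : u ∈ Subgroup.zpowers g) : u = 1 ∨ u = g ∨ u = g ^ 2 := by
  obtain ⟨k, rfl⟩ := Subgroup.mem_zpowers_iff.mp hu
  have h3 : g ^ (3 : ℤ) = 1 := by
    have : g ^ ((3 : ℕ) : ℤ) = 1 := by rw [zpow_natCast]; exact hg
    simpa using this
  have hk : k = 3 * (k / 3) + k % 3 := (Int.mul_ediv_add_emod k 3).symm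
  have hred : g ^ k = g ^ (k % 3) := by
    conv_lhs => rw [hk]
    rw [zpow_add, zpow_mul, h3, one_zpow, one_mul]
  have h0 : 0 ≤ k % 3 := Int.emod_nonneg k (by norm_num)
  have h1 : k % 3 < 3 := Int.emod_lt_of_pos k (by norm_num)
  rw [hred]
  have : k % 3 = 0 ∨ k % 3 = 1 ∨ k % 3 = 2 := by omega
  rcases this with h | h | h
  · left; rw [h, zpow_zero]
  · right; left; rw [h, zpow_one]
  · right; right; rw [h]; exact zpow_ofNat g 2

theorem conj_zpowers {G : Type*} [Group G] (g y : G) (h : y * g * y⁻¹ ∈ Subgroup.zpowers g) (u : G)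
    (hu : u ∈ Subgroup.zpowers g) : y * u * y⁻¹ ∈ Subgroup.zpowers g := by
  obtain ⟨k, rfl⟩ := Subgroup.mem_zpowers_iff.mp hu
  have : y * g ^ k * y⁻¹ = (y * g * y⁻¹) ^ k := by
    have := map_zpow (MulAut.conj y) g k
    simpa [MulAut.conj_apply] using this
  rw [this]
  exact Subgroup.zpow_mem _ h k

theorem card_zpowers_three {G : Type*} [Group G] (g : G) (hg : g ^ 3 = 1) (h1 : g ≠ 1) :
    Nat.card (Subgroup.zpowers g) = 3 := by
  rw [Nat.card_zpowers]
  exact orderOf_eq_prime hg h1

theorem ga3 : ga ^ 3 = 1 := by decide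
theorem gb3 : gb ^ 3 = 1 := by decide

theorem isSF : Cfsg.IsSignalizerFunctor 2 A4 θ5 := by
  refine ⟨?_, ?_, ?_, ?_⟩
  · rintro x (rfl | rfl | rfl | rfl) hx1
    · exact absurd rfl hx1
    · rw [θ5_a, Subgroup.zpowers_le, Subgroup.mem_centralizer_iff]
      intro h hh; rw [Set.mem_singleton_iff] at hh; subst hh; decide
    · rw [θ5_b, Subgroup.zpowers_le, Subgroup.mem_centralizer_iff]
      intro h hh; rw [Set.mem_singleton_iff] at hh; subst hh; decide
    · rw [θ5_c]; exact bot_le
  · rintro x (rfl | rfl | rfl | rfl) hx1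
    · exact absurd rfl hx1
    · rw [θ5_a, card_zpowers_three ga ga3 (by decide)]; decide
    · rw [θ5_b, card_zpowers_three gb gb3 (by decide)]; decide
    · rw [θ5_c, Subgroup.card_bot]; decide
  · rintro x (rfl | rfl | rfl | rfl) hx1 y hy u hu
    · exact absurd rfl hx1
    · rw [θ5_a] at hu ⊢
      refine conj_zpowers ga y ?_ u hu
      rcases hy with rfl | rfl | rfl | rfl
      · have : (1 : X) * ga * 1⁻¹ = ga := by decide
        rw [this]; exact Subgroup.mem_zpowers ga
      · have : a5 * ga * a5⁻¹ = ga := by decide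
        rw [this]; exact Subgroup.mem_zpowers ga
      · have : b5 * ga * b5⁻¹ = ga⁻¹ := by decide
        rw [this]; exact Subgroup.inv_mem _ (Subgroup.mem_zpowers ga)
      · have : (a5 * b5) * ga * (a5 * b5)⁻¹ = ga⁻¹ := by decide
        rw [this]; exact Subgroup.inv_mem _ (Subgroup.mem_zpowers ga)
    · rw [θ5_b] at hu ⊢
      refine conj_zpowers gb y ?_ u hu
      rcases hy with rfl | rfl | rfl | rfl
      · have : (1 : X) * gb * 1⁻¹ = gb := by decide
        rw [this]; exact Subgroup.mem_zpowers gb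
      · have : a5 * gb * a5⁻¹ = gb⁻¹ := by decide
        rw [this]; exact Subgroup.inv_mem _ (Subgroup.mem_zpowers gb)
      · have : b5 * gb * b5⁻¹ = gb := by decide
        rw [this]; exact Subgroup.mem_zpowers gb
      · have : (a5 * b5) * gb * (a5 * b5)⁻¹ = gb⁻¹ := by decide
        rw [this]; exact Subgroup.inv_mem _ (Subgroup.mem_zpowers gb)
    · rw [θ5_c] at hu ⊢
      rw [Subgroup.mem_bot] at hu ⊢
      rw [hu]; group
  · -- balance
    have key : ∀ (g y : X), g ^ 3 = 1 → ¬ (y * g = g * y) → ¬ (y * g ^ 2 = g ^ 2 * y) →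
        Subgroup.zpowers g ⊓ Subgroup.centralizer {y} = ⊥ := by
      intro g y hg h1 h2
      rw [eq_bot_iff]
      rintro u ⟨hu1, hu2⟩
      have hu2' : u ∈ Subgroup.centralizer {y} := hu2
      rw [Subgroup.mem_centralizer_iff] at hu2'
      have hc := hu2' y (Set.mem_singleton y)
      rcases mem_zpowers_three g hg u hu1 with rfl | rfl | rfl
      · exact Subgroup.mem_bot.mpr rfl
      · exact absurd hc h1
      · exact absurd hc h2
    rintro x (rfl | rfl | rfl | rfl) hx1 y (rfl | rfl | rfl | rfl) hy1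
    · exact absurd rfl hx1
    · exact absurd rfl hx1
    · exact absurd rfl hx1
    · exact absurd rfl hx1
    · exact absurd rfl hy1
    · exact inf_le_left
    · rw [θ5_a, key ga b5 ga3 (by decide) (by decide)]; exact bot_le
    · rw [θ5_a, key ga (a5 * b5) ga3 (by decide) (by decide)]; exact bot_le
    · exact absurd rfl hy1
    · rw [θ5_b, key gb a5 gb3 (by decide) (by decide)]; exact bot_le
    · exact inf_le_left
    · rw [θ5_b, key gb (a5 * b5) gb3 (by decide) (by decide)]; exact bot_le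
    · exact absurd rfl hy1
    · rw [θ5_c, bot_inf_eq]; exact bot_le
    · rw [θ5_c, bot_inf_eq]; exact bot_le
    · exact inf_le_left

theorem isSolv : ∀ x ∈ A4, x ≠ 1 → Group.IsSolvable (θ5 x) := by
  rintro x (rfl | rfl | rfl | rfl) hx1
  · exact absurd rfl hx1
  · rw [θ5_a]; infer_instance
  · rw [θ5_b]; infer_instance
  · rw [θ5_c]; infer_instance

theorem card_A4 : Nat.card A4 = 4 := by
  have : (A4 : Set X) = ({1, a5, b5, a5 * b5} : Finset X) := by
    ext x
    simp only [SetLike.mem_coe, mem_A4, Finset.coe_insert, Finset.coe_singleton, Set.mem_insert_iff,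
      Set.mem_singleton_iff]
  have h2 : Nat.card A4 = Nat.card ((A4 : Set X)) := rfl
  rw [h2, Nat.card_coe_set_eq, this, Set.ncard_coe_finset]
  decide

/-- There exist a finite group X, an elementary abelian subgroup A of order 4 and a solvable A-signalizer functor θ on X for the prime 2 which is not complete. -/
theorem result : ∃ (X : Type) (_ : Group X) (_ : Finite X) (A : Subgroup X) (θ : X → Subgroup X), Cfsg.IsElementaryAbelian 2 A ∧ Nat.card ↥A = 4 ∧ Cfsg.IsSolvableSignalizerFunctor 2 A θ ∧ ¬ Cfsg.IsCompleteSignalizerFunctor 2 A θ := by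
  refine ⟨X, inferInstance, inferInstance, A4, θ5, ?_, card_A4, ⟨isSF, isSolv⟩, ?_⟩
  · refine ⟨⟨⟨?_⟩⟩, ?_⟩
    · rintro ⟨x, (rfl | rfl | rfl | rfl)⟩ ⟨y, (rfl | rfl | rfl | rfl)⟩ <;>
        apply Subtype.ext <;> simp only [Subgroup.coe_mul] <;> decide
    · rintro x (rfl | rfl | rfl | rfl) <;> decide
  · rintro ⟨_, Y, _, hodd, hY⟩
    have ha : ga ∈ Y := by
      have h := hY a5 (Or.inr (Or.inl rfl)) (by decide)
      have : ga ∈ θ5 a5 := by rw [θ5_a]; exact Subgroup.mem_zpowers ga
      rw [← h] at this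
      exact this.1
    have hb : gb ∈ Y := by
      have h := hY b5 (Or.inr (Or.inr (Or.inl rfl))) (by decide)
      have : gb ∈ θ5 b5 := by rw [θ5_b]; exact Subgroup.mem_zpowers gb
      rw [← h] at this
      exact this.1
    have ht : tt ∈ Y := by
      unfold tt
      exact Y.mul_mem (Y.mul_mem (Y.mul_mem ha hb) ha) (Y.pow_mem hb 2)
    have hord : orderOf tt = 2 :=
      orderOf_eq_prime (by decide) (by decide)
    have hord' : orderOf (⟨tt, ht⟩ : Y) = 2 := by
      rw [← hord]
      exact Subgroup.orderOf_mk _ ht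
    apply hodd
    rw [← hord']
    exact orderOf_dvd_natCard _

end Cfsg.Agent.S1286
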