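import Mathlib
import Cfsg.Statements.S1287
import Cfsg.Agent.Lib.Helper38_BrauerWielandt
import Cfsg.Agent.Lib.Helper38_HyperplaneGen
import Cfsg.Agent.Lib.Helper50_CD

set_option autoImplicit false
open scoped Pointwise
open Cfsg

namespace Cfsg.Agent.S1287

/-- Let A be a noncyclic elementary abelian p-subgroup of a finite group H normalizing a subgroup K of order prime to p, and X, Y ≤ K subgroups normalized by A with C_K(a) = C_X(a) C_Y(a) (as sets) for every non-identity a ∈ A, where X is also normalized by C_K(A). Then K = XY as sets. -/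
theorem result {H : Type*} [Group H] [Finite H] (p : ℕ) [Fact p.Prime] (A K X Y : Subgroup H) (hA : Cfsg.IsElementaryAbelian p A) (hA2 : p ^ 2 ≤ Nat.card ↥A) (hK : ¬ p ∣ Nat.card ↥K) (hAK : A ≤ Subgroup.normalizer (K : Set H)) (hX : X ≤ K) (hY : Y ≤ K) (hAX : A ≤ Subgroup.normalizer (X : Set H)) (hAY : A ≤ Subgroup.normalizer (Y : Set H)) (hCX : K ⊓ Subgroup.centralizer (A : Set H) ≤ Subgroup.normalizer (X : Set H)) (hfac : ∀ a ∈ A, a ≠ 1 → ((K ⊓ Subgroup.centralizer {a} : Subgroup H) : Set H) = ((X ⊓ Subgroup.centralizer {a} : Subgroup H) : Set H) * ((Y ⊓ Subgroup.centralizer {a} : Subgroup H) : Set H)) : (K : Set H) = (X : Set H) * (Y : Set H) := by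
  classical
  have hp : p.Prime := Fact.out
  have hcard : ¬ (⊥ : Subgroup H).relIndex A ≤ p := by
    rw [Subgroup.relIndex_bot_left]
    intro h
    have h2 := hp.two_le
    nlinarith
  obtain ⟨a, haA, b, hbA, hb1, hab1⟩ :=
    Cfsg.Agent.Lib.Helper38_HyperplaneGen.exists_indep A ⊥ hA hcard
  have hab : a * b = b * a := by
    have h := hA.1.is_comm.comm (⟨a, haA⟩ : A) ⟨b, hbA⟩
    exact congrArg Subtype.val h
  have hap : a ^ p = 1 := hA.2 a haA
  have hbp : b ^ p = 1 := hA.2 b hbA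
  have hXcop : ¬ p ∣ Nat.card ↥X := fun h => hK (h.trans (Subgroup.card_dvd_of_le hX))
  have hYcop : ¬ p ∣ Nat.card ↥Y := fun h => hK (h.trans (Subgroup.card_dvd_of_le hY))
  have hXYcop : ¬ p ∣ Nat.card ↥(X ⊓ Y) := fun h =>
    hK (h.trans (Subgroup.card_dvd_of_le (inf_le_left.trans hX)))
  have hAXY : A ≤ Subgroup.normalizer ((X ⊓ Y : Subgroup H) : Set H) :=
    (le_inf hAX hAY).trans Subgroup.inf_normalizer_le_normalizer_inf
  have bwK := Cfsg.Agent.Lib.Helper38_BrauerWielandt.bw_ambient K hK a b (hAK haA) (hAK hbA)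
    hap hbp hab
  have bwX := Cfsg.Agent.Lib.Helper38_BrauerWielandt.bw_ambient X hXcop a b (hAX haA) (hAX hbA)
    hap hbp hab
  have bwY := Cfsg.Agent.Lib.Helper38_BrauerWielandt.bw_ambient Y hYcop a b (hAY haA) (hAY hbA)
    hap hbp hab
  have bwXY := Cfsg.Agent.Lib.Helper38_BrauerWielandt.bw_ambient (X ⊓ Y) hXYcop a b (hAXY haA)
    (hAXY hbA) hap hbp hab
  -- the factorization hypothesis, counted
  have hfac' : ∀ o : Option (ZMod p),
      Nat.card ↥(K ⊓ Subgroup.centralizer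
          ({Cfsg.Agent.Lib.Helper38_BrauerWielandt.ccG p a b o} : Set H)) *
        Nat.card ↥(X ⊓ Y ⊓ Subgroup.centralizer
          ({Cfsg.Agent.Lib.Helper38_BrauerWielandt.ccG p a b o} : Set H)) =
      Nat.card ↥(X ⊓ Subgroup.centralizer
          ({Cfsg.Agent.Lib.Helper38_BrauerWielandt.ccG p a b o} : Set H)) *
        Nat.card ↥(Y ⊓ Subgroup.centralizer
          ({Cfsg.Agent.Lib.Helper38_BrauerWielandt.ccG p a b o} : Set H)) := by
    intro o
    set c := Cfsg.Agent.Lib.Helper38_BrauerWielandt.ccG p a b o with hc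
    have hcA : c ∈ A := Cfsg.Agent.Lib.Helper38_BrauerWielandt.ccG_mem A haA hbA o
    have hc1 : c ≠ 1 := by
      rw [hc]
      cases o with
      | none => exact fun h => hb1 (Subgroup.mem_bot.mpr h)
      | some i => exact fun h => hab1 i.val (Subgroup.mem_bot.mpr h)
    have h := hfac c hcA hc1
    have hsup : (X ⊓ Subgroup.centralizer ({c} : Set H)) ⊔ (Y ⊓ Subgroup.centralizer ({c} : Set H)) =
        K ⊓ Subgroup.centralizer ({c} : Set H) := by
      apply le_antisymm (sup_le (inf_le_inf_right _ hX) (inf_le_inf_right _ hY))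
      intro x hx
      have hx' : x ∈ ((K ⊓ Subgroup.centralizer {c} : Subgroup H) : Set H) := hx
      rw [h] at hx'
      obtain ⟨u, hu, v, hv, rfl⟩ := hx'
      exact Subgroup.mul_mem _ (Subgroup.mem_sup_left hu) (Subgroup.mem_sup_right hv)
    have hset : (((X ⊓ Subgroup.centralizer ({c} : Set H)) ⊔
        (Y ⊓ Subgroup.centralizer ({c} : Set H)) : Subgroup H) : Set H) =
        ((X ⊓ Subgroup.centralizer {c} : Subgroup H) : Set H) *
          ((Y ⊓ Subgroup.centralizer {c} : Subgroup H) : Set H) := by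
      rw [hsup]; exact h
    have h2 := Cfsg.Agent.Lib.Helper50_CD.card_sup_mul_card_inf_le_of_coe_sup_eq_mul _ _ hset
    rw [hsup, ← inf_inf_distrib_right] at h2
    exact h2
  -- the joint centralizers
  have hg : Nat.card ↥(X ⊓ Subgroup.centralizer ({a} : Set H) ⊓ Subgroup.centralizer ({b} : Set H)) *
      Nat.card ↥(Y ⊓ Subgroup.centralizer ({a} : Set H) ⊓ Subgroup.centralizer ({b} : Set H)) ≤
      Nat.card ↥(K ⊓ Subgroup.centralizer ({a} : Set H) ⊓ Subgroup.centralizer ({b} : Set H)) *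
      Nat.card ↥(X ⊓ Y ⊓ Subgroup.centralizer ({a} : Set H) ⊓ Subgroup.centralizer ({b} : Set H)) := by
    have h1 := Cfsg.Agent.Lib.Helper50_CD.card_mul_card_le
      (X ⊓ Subgroup.centralizer ({a} : Set H) ⊓ Subgroup.centralizer ({b} : Set H))
      (Y ⊓ Subgroup.centralizer ({a} : Set H) ⊓ Subgroup.centralizer ({b} : Set H))
    have h2 : (X ⊓ Subgroup.centralizer ({a} : Set H) ⊓ Subgroup.centralizer ({b} : Set H)) ⊔
        (Y ⊓ Subgroup.centralizer ({a} : Set H) ⊓ Subgroup.centralizer ({b} : Set H)) ≤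
        K ⊓ Subgroup.centralizer ({a} : Set H) ⊓ Subgroup.centralizer ({b} : Set H) :=
      sup_le (inf_le_inf_right _ (inf_le_inf_right _ hX)) (inf_le_inf_right _ (inf_le_inf_right _ hY))
    have h3 : (X ⊓ Subgroup.centralizer ({a} : Set H) ⊓ Subgroup.centralizer ({b} : Set H)) ⊓
        (Y ⊓ Subgroup.centralizer ({a} : Set H) ⊓ Subgroup.centralizer ({b} : Set H)) =
        X ⊓ Y ⊓ Subgroup.centralizer ({a} : Set H) ⊓ Subgroup.centralizer ({b} : Set H) := by
      rw [← inf_inf_distrib_right, ← inf_inf_distrib_right]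
    rw [h3] at h1
    exact h1.trans (Nat.mul_le_mul_right _ (Subgroup.card_le_of_le h2))
  -- abbreviations
  set cK := Nat.card ↥K
  set cX := Nat.card ↥X
  set cY := Nat.card ↥Y
  set cXY := Nat.card ↥(X ⊓ Y)
  set gK := Nat.card ↥(K ⊓ Subgroup.centralizer ({a} : Set H) ⊓ Subgroup.centralizer ({b} : Set H))
  set gX := Nat.card ↥(X ⊓ Subgroup.centralizer ({a} : Set H) ⊓ Subgroup.centralizer ({b} : Set H))
  set gY := Nat.card ↥(Y ⊓ Subgroup.centralizer ({a} : Set H) ⊓ Subgroup.centralizer ({b} : Set H))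
  set gXY := Nat.card ↥(X ⊓ Y ⊓ Subgroup.centralizer ({a} : Set H) ⊓ Subgroup.centralizer ({b} : Set H))
  have hprod : (cK * gK ^ p) * (cXY * gXY ^ p) = (cX * gX ^ p) * (cY * gY ^ p) := by
    rw [bwK, bwXY, bwX, bwY, ← Finset.prod_mul_distrib, ← Finset.prod_mul_distrib]
    exact Finset.prod_congr rfl (fun o _ => hfac' o)
  have hgpos : 0 < (gK * gXY) ^ p := pow_pos (Nat.mul_pos Nat.card_pos Nat.card_pos) _
  have hle : cK * cXY ≤ cX * cY := by
    have h1 : (cK * cXY) * (gK * gXY) ^ p = (cX * cY) * (gX * gY) ^ p := by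
      rw [mul_pow, mul_pow]; linarith [hprod]
    have h2 : (gX * gY) ^ p ≤ (gK * gXY) ^ p := Nat.pow_le_pow_left hg p
    have h3 : (cK * cXY) * (gK * gXY) ^ p ≤ (cX * cY) * (gK * gXY) ^ p := by
      rw [h1]; exact Nat.mul_le_mul_left _ h2
    exact Nat.le_of_mul_le_mul_right h3 hgpos
  have h4 := Cfsg.Agent.Lib.Helper50_CD.card_mul_card_le X Y
  have hXYK : X ⊔ Y ≤ K := sup_le hX hY
  have h5 : Nat.card ↥(X ⊔ Y) ≤ cK := Subgroup.card_le_of_le hXYK
  have hcXYpos : 0 < cXY := Nat.card_pos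
  have h6 : Nat.card ↥(X ⊔ Y) * cXY ≤ cK * cXY := Nat.mul_le_mul_right _ h5
  have h7 : cX * cY = Nat.card ↥(X ⊔ Y) * cXY := le_antisymm h4 (h6.trans hle)
  have h8 : cK * cXY = Nat.card ↥(X ⊔ Y) * cXY := le_antisymm (hle.trans h4) h6
  have h9 : cK = Nat.card ↥(X ⊔ Y) := Nat.eq_of_mul_eq_mul_right hcXYpos h8
  have h10 : X ⊔ Y = K := Subgroup.eq_of_le_of_card_ge hXYK h9.le
  have h11 := Cfsg.Agent.Lib.Helper50_CD.coe_sup_eq_mul_of_card_eq X Y h7
  rw [h10] at h11
  exact h11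

end Cfsg.Agent.S1287
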