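import Cfsg.Statements.S1289
import Cfsg.Agent.Lib.Helper23_PComp

set_option autoImplicit false
open Cfsg

namespace Cfsg.Agent.S1289

/-- A p-component K of the finite group X is subnormal, perfect, of order divisible by p, and minimal among the subnormal perfect subgroups of X of order divisible by p. -/
theorem result {X : Type*} [Group X] [Finite X] (p : ℕ) [Fact p.Prime] (K : Subgroup X) (hK : Cfsg.IsPComponent p K) : K.IsSubnormal ∧ ⁅K, K⁆ = K ∧ p ∣ Nat.card ↥K ∧ ∀ H : Subgroup X, H ≤ K → H.IsSubnormal → ⁅H, H⁆ = H → p ∣ Nat.card ↥H → H = K := by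
  refine ⟨hK.1, Cfsg.Agent.Lib.Helper23_PComp.pcomp_perfect p hK,
    Cfsg.Agent.Lib.Helper23_PComp.pcomp_dvd_card p hK, ?_⟩
  intro H hHK hHsn hHperf hHp
  have hp : p.Prime := Fact.out
  obtain ⟨_, hcomp, hmin⟩ := hK
  have hHbar_le : H.map (QuotientGroup.mk' (Cfsg.pPrimeCore p X)) ≤
      K.map (QuotientGroup.mk' (Cfsg.pPrimeCore p X)) := Subgroup.map_mono hHK
  have hHbar_sn : ((H.map (QuotientGroup.mk' (Cfsg.pPrimeCore p X))).subgroupOf
      (K.map (QuotientGroup.mk' (Cfsg.pPrimeCore p X)))).IsSubnormal :=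
    (hHsn.map (QuotientGroup.mk'_surjective _)).subgroupOf
  rcases Cfsg.Agent.Lib.Helper21_Components.IsQuasisimple.subnormal_eq_top_or_le_center hcomp.2 _
    hHbar_sn with h | h
  · apply hmin H hHsn hHK
    apply le_antisymm hHbar_le
    rw [Subgroup.subgroupOf_eq_top] at h
    exact h
  · exfalso
    -- the image of H is commutative and perfect, hence trivial
    have hcomm : H.map (QuotientGroup.mk' (Cfsg.pPrimeCore p X)) ≤ Subgroup.centralizer
        ((H.map (QuotientGroup.mk' (Cfsg.pPrimeCore p X)) : Subgroup _) : Set _) := by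
      intro a ha
      rw [Subgroup.mem_centralizer_iff]
      intro b hb
      have ha' : (⟨a, hHbar_le ha⟩ : K.map (QuotientGroup.mk' (Cfsg.pPrimeCore p X))) ∈
          Subgroup.center _ := h (Subgroup.mem_subgroupOf.mpr ha)
      have := Subgroup.mem_center_iff.mp ha' ⟨b, hHbar_le hb⟩
      exact congrArg Subtype.val this
    have hbot : H.map (QuotientGroup.mk' (Cfsg.pPrimeCore p X)) = ⊥ := by
      have h1 : ⁅H.map (QuotientGroup.mk' (Cfsg.pPrimeCore p X)),
          H.map (QuotientGroup.mk' (Cfsg.pPrimeCore p X))⁆ = ⊥ :=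
        Subgroup.commutator_eq_bot_iff_le_centralizer.mpr hcomm
      rw [← Subgroup.map_commutator, hHperf] at h1
      exact h1
    have hHO : H ≤ Cfsg.pPrimeCore p X := by
      rw [Subgroup.map_eq_bot_iff, QuotientGroup.ker_mk'] at hbot
      exact hbot
    have h2 : p ∣ Nat.card (Cfsg.pPrimeCore p X) := dvd_trans hHp (Subgroup.card_dvd_of_le hHO)
    exact (Nat.Prime.coprime_iff_not_dvd hp).mp
      (Cfsg.Agent.Lib.Helper23_Layer.pPrimeCore_coprime (G := X) p).symm h2


end Cfsg.Agent.S1289
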