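import Cfsg.Statements.S1292
import Cfsg.Agent.Lib.Helper23_CharP
import Cfsg.Agent.Lib.Helper22_Cores

set_option autoImplicit false
open Cfsg

namespace Cfsg.Agent.S1292

open Subgroup Cfsg.Agent.Lib.Helper49_CharP Cfsg.Agent.Lib.Helper23_CharP

/-- characteristic `p` passes to subgroups `K ⊴ H` (both inside `G`) -/
theorem isCharP_of_normal_le {G : Type*} [Group G] [Finite G] {p : ℕ} [Fact p.Prime] {K H : Subgroup G}
    (hH : IsCharP p ↥H) (hKH : K ≤ H) (hn : H ≤ normalizer (K : Set G)) : IsCharP p ↥K := by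
  have : (K.subgroupOf H).Normal := (normal_subgroupOf_iff_le_normalizer hKH).mpr hn
  exact (hH.of_normal (K.subgroupOf H)).of_mulEquiv (subgroupOfEquivOfLe hKH)

/-- `N_C(T)` has characteristic `p` when `C` has and `T ≤ C` is a `p`-subgroup -/
theorem isCharP_normalizer_inf {G : Type*} [Group G] [Finite G] {p : ℕ} [Fact p.Prime] (C T : Subgroup G)
    (hC : IsCharP p ↥C) (hT : IsPGroup p ↥T) (hTC : T ≤ C) :
    IsCharP p ↥(normalizer (T : Set G) ⊓ C) := by
  have h1 := IsCharP.normalizer hC (T.subgroupOf C) (hT.comap_subtype)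
  rw [← subgroupOf_normalizer_eq hTC, ← inf_subgroupOf_right] at h1
  exact h1.of_mulEquiv (subgroupOfEquivOfLe inf_le_right)

/-- if `C_N(O_p(N))` lies in a subgroup `M ≤ N` of characteristic `p`, then `N` has characteristic `p` -/
theorem isCharP_of_centralizer_le {G : Type*} [Group G] [Finite G] (p : ℕ) [Fact p.Prime] (N M : Subgroup G)
    (hM : IsCharP p ↥M) (hMN : M ≤ N)
    (hX : (centralizer (pCore p ↥N : Set ↥N)).map N.subtype ≤ M) : IsCharP p ↥N := by
  have hRn : (pCore p ↥N).Normal := pCoreNormal p ↥N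
  have hXNn : (centralizer (pCore p ↥N : Set ↥N)).Normal := Subgroup.normal_centralizer
  set XN : Subgroup ↥N := centralizer (pCore p ↥N : Set ↥N) with hXN
  -- `N` normalizes the image `X` of `XN`
  have hNX : N ≤ normalizer ((XN.map N.subtype : Subgroup G) : Set G) := by
    have h1 := Subgroup.le_normalizer_map (H := XN) N.subtype
    rw [Subgroup.normalizer_eq_top, ← MonoidHom.range_eq_map, Subgroup.range_subtype] at h1
    exact h1
  have hXchar : IsCharP p ↥(XN.map N.subtype) := isCharP_of_normal_le hM hX (hMN.trans hNX)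
  have hXNchar : IsCharP p ↥XN :=
    hXchar.of_mulEquiv (Subgroup.equivMapOfInjective XN N.subtype N.subtype_injective).symm
  -- `O_p(XN) ≤ O_p(N)`
  have hOn : (pCore p ↥XN).Normal := pCoreNormal p ↥XN
  have hO : (pCore p ↥XN).map XN.subtype ≤ pCore p ↥N := by
    apply Cfsg.Agent.Lib.Helper22_Cores.le_pCore_of_le_isSubnormal p (H := XN)
      (Subgroup.Normal.isSubnormal hXNn) (Subgroup.map_subtype_le _)
    · have h1 := Subgroup.le_normalizer_map (H := pCore p ↥XN) XN.subtype
      rw [Subgroup.normalizer_eq_top, ← MonoidHom.range_eq_map, Subgroup.range_subtype] at h1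
      exact h1
    · exact (pCore_isPGroup p ↥XN).map _
  -- hence `XN` centralizes `O_p(XN)`
  have htop : (⊤ : Subgroup ↥XN) ≤ pCore p ↥XN := by
    refine le_trans ?_ hXNchar
    intro x _
    rw [Subgroup.mem_centralizer_iff]
    intro o ho
    have h1 : (o : ↥N) ∈ pCore p ↥N := hO ⟨o, ho, rfl⟩
    have h2 := Subgroup.mem_centralizer_iff.mp x.2 (o : ↥N) h1
    exact Subtype.ext h2
  intro x hx
  have : (⟨x, hx⟩ : ↥XN) ∈ pCore p ↥XN := htop (Subgroup.mem_top _)
  exact hO ⟨⟨x, hx⟩, this, rfl⟩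

/-- Let G be a finite group such that F*(C_G(t)) = O_2(C_G(t)) for every involution t. Then F*(N_G(T)) = O_2(N_G(T)) for every nontrivial 2-subgroup T of G. -/
theorem result {G : Type*} [Group G] [Finite G] (h : ∀ t : G, orderOf t = 2 → Cfsg.generalizedFittingSubgroup ↥(Subgroup.centralizer ({t} : Set G)) = Cfsg.pCore 2 ↥(Subgroup.centralizer ({t} : Set G))) (T : Subgroup G) (hT : IsPGroup 2 ↥T) (hT1 : T ≠ ⊥) : Cfsg.generalizedFittingSubgroup ↥(Subgroup.normalizer (T : Set G)) = Cfsg.pCore 2 ↥(Subgroup.normalizer (T : Set G)) := by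
  have : Fact (Nat.Prime 2) := ⟨Nat.prime_two⟩
  rw [← isCharP_iff_generalizedFitting_eq]
  -- an involution in the center of `T`
  have hTnt : Nontrivial ↥T := (Subgroup.nontrivial_iff_ne_bot T).mpr hT1
  have hZnt : Nontrivial ↥(Subgroup.center ↥T) := hT.center_nontrivial
  have hZp : IsPGroup 2 ↥(Subgroup.center ↥T) := hT.to_subgroup _
  obtain ⟨k, hk⟩ := IsPGroup.iff_card.mp hZp
  have hk0 : k ≠ 0 := by
    intro h0
    rw [h0, pow_zero] at hk
    have := (Nat.card_eq_one_iff_unique.mp hk).1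
    exact not_subsingleton _ this
  have hdvd : 2 ∣ Nat.card ↥(Subgroup.center ↥T) := by
    rw [hk]; exact dvd_pow_self 2 hk0
  obtain ⟨z, hz⟩ := exists_prime_orderOf_dvd_card' 2 hdvd
  set t : G := ((z : ↥T) : G) with ht
  have hto : orderOf t = 2 := by
    rw [ht, Subgroup.orderOf_coe, Subgroup.orderOf_coe]; exact hz
  have htT : t ∈ T := (z : ↥T).2
  have htc : ∀ s ∈ T, s * t = t * s := by
    intro s hs
    have := Subgroup.mem_center_iff.mp z.2 ⟨s, hs⟩
    exact congrArg Subtype.val this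
  have hC : IsCharP 2 ↥(centralizer ({t} : Set G)) := isCharP_iff_generalizedFitting_eq.mpr (h t hto)
  have hTC : T ≤ centralizer ({t} : Set G) := by
    intro s hs
    rw [Subgroup.mem_centralizer_iff]
    intro y hy
    rw [Set.mem_singleton_iff] at hy
    rw [hy]
    exact (htc s hs).symm
  have hM := isCharP_normalizer_inf (centralizer ({t} : Set G)) T hC hT hTC
  apply isCharP_of_centralizer_le 2 (normalizer (T : Set G)) _ hM inf_le_left
  rintro _ ⟨x, hx, rfl⟩
  refine ⟨x.2, ?_⟩
  show (x : G) ∈ centralizer ({t} : Set G)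
  rw [Subgroup.mem_centralizer_iff]
  intro y hy
  rw [Set.mem_singleton_iff] at hy
  rw [hy]
  have hTn : (T.subgroupOf (normalizer (T : Set G))).Normal := Subgroup.normal_in_normalizer
  have h1 : (⟨t, Subgroup.le_normalizer htT⟩ : ↥(normalizer (T : Set G))) ∈ pCore 2 ↥(normalizer (T : Set G)) := by
    apply le_pCore hTn hT.comap_subtype
    rw [Subgroup.mem_subgroupOf]
    exact htT
  have h2 := Subgroup.mem_centralizer_iff.mp hx _ h1
  exact congrArg Subtype.val h2

end Cfsg.Agent.S1292
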