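import Cfsg.Statements.S1297
import Mathlib
import Cfsg.Agent.Lib.Helper31_LocBal
import Cfsg.Agent.Lib.Helper31_Balance
import Cfsg.Agent.Lib.Helper31_CentCore
import Cfsg.Agent.Lib.Helper21_Components
import Cfsg.Agent.Lib.Helper23_PComp
import Cfsg.Agent.Lib.Helper22_Cores
import Cfsg.Agent.Lib.Helper1_Cores

set_option autoImplicit false
open Cfsg

namespace Cfsg.Agent.S1297

open Cfsg.Agent.Lib.Helper31_LocBal Cfsg.Agent.Lib.Helper31_Balance
  Cfsg.Agent.Lib.Helper31_CentCore
open scoped commutatorElement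

/-- One inclusion of balance. -/
theorem key {G : Type*} [Group G] [Finite G] (h : ∀ x : G, orderOf x = 2 → ∀ K : Subgroup (↥(Subgroup.centralizer ({x} : Set G)) ⧸ Cfsg.oddCore ↥(Subgroup.centralizer ({x} : Set G))), Cfsg.IsComponent K → Cfsg.IsLocallyBalanced (↥K ⧸ Subgroup.center ↥K))
    (x y : G) (hx : orderOf x = 2) (hy : orderOf y = 2) (hxy : x * y = y * x) :
    centralizerPPrimeCore 2 x ⊓ Subgroup.centralizer ({y} : Set G) ≤ centralizerPPrimeCore 2 y := by
  have : Fact (Nat.Prime 2) := ⟨Nat.prime_two⟩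
  have hxX : x ∈ Subgroup.centralizer ({y} : Set G) := mem_centralizer_singleton.mpr hxy
  have hx' : orderOf (⟨x, hxX⟩ : ↥(Subgroup.centralizer ({y} : Set G))) = 2 := by
    rw [Subgroup.orderOf_mk]; exact hx
  have hWn : (pPrimeCore 2 ↥(Subgroup.centralizer ({y} : Set G))).Normal :=
    Cfsg.Agent.Lib.Helper1_Cores.pPrimeCore_normal 2
  have hWc : (Nat.card (pPrimeCore 2 ↥(Subgroup.centralizer ({y} : Set G)))).Coprime 2 :=
    Cfsg.Agent.Lib.Helper22_Cores.pPrimeCore_coprime 2
  have h0 : pPrimeCore 2 (↥(Subgroup.centralizer ({y} : Set G)) ⧸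
      pPrimeCore 2 ↥(Subgroup.centralizer ({y} : Set G))) = ⊥ :=
    Cfsg.Agent.Lib.Helper23_PComp.pPrimeCore_quotient_eq_bot _ 2
  -- the image of x in the quotient has order 2
  have hxnW : (⟨x, hxX⟩ : ↥(Subgroup.centralizer ({y} : Set G))) ∉
      pPrimeCore 2 ↥(Subgroup.centralizer ({y} : Set G)) := by
    intro hmem
    have hdvd : orderOf (⟨⟨x, hxX⟩, hmem⟩ :
        ↥(pPrimeCore 2 ↥(Subgroup.centralizer ({y} : Set G)))) ∣
        Nat.card (pPrimeCore 2 ↥(Subgroup.centralizer ({y} : Set G))) := orderOf_dvd_natCard _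
    rw [Subgroup.orderOf_mk, hx'] at hdvd
    have := Nat.Coprime.eq_one_of_dvd hWc.symm hdvd
    omega
  have hxb : orderOf (QuotientGroup.mk' (pPrimeCore 2 ↥(Subgroup.centralizer ({y} : Set G)))
      (⟨x, hxX⟩ : ↥(Subgroup.centralizer ({y} : Set G)))) = 2 := by
    apply orderOf_eq_prime
    · have hpow : (⟨x, hxX⟩ : ↥(Subgroup.centralizer ({y} : Set G))) ^ 2 = 1 := by
        have := pow_orderOf_eq_one (⟨x, hxX⟩ : ↥(Subgroup.centralizer ({y} : Set G)))
        rwa [hx'] at this
      rw [← map_pow, hpow, map_one]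
    · intro h1
      apply hxnW
      rwa [QuotientGroup.mk'_apply, QuotientGroup.eq_one_iff] at h1
  have hbal := centralizerPPrimeCore_le_of_centralizes_components h0 hxb (by
    intro L hL
    by_cases heq : ⁅L, Subgroup.zpowers (QuotientGroup.mk'
        (pPrimeCore 2 ↥(Subgroup.centralizer ({y} : Set G)))
        (⟨x, hxX⟩ : ↥(Subgroup.centralizer ({y} : Set G))))⁆ = L
    · refine commutator_eq_bot_of_balanced_quotient h0 hxb hL heq ?_
      intro H hLH hLn inst
      exact isBalancedFor_two_of_isLocallyBalanced L H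
        (Cfsg.Agent.Lib.Helper21_Components.IsComponent.commutator_self hL) hLH
        ((Subgroup.normal_subgroupOf_iff_le_normalizer hLH).mp hLn) (h y hy L hL)
    · exact commutator_centralizerPPrimeCore_eq_bot h0 hxb hL heq)
  rw [h0] at hbal
  intro d hd
  have hdX : d ∈ Subgroup.centralizer ({y} : Set G) := hd.2
  have h1 : (⟨d, hdX⟩ : ↥(Subgroup.centralizer ({y} : Set G))) ∈
      centralizerPPrimeCore 2 (⟨x, hxX⟩ : ↥(Subgroup.centralizer ({y} : Set G))) := by
    apply centralizerPPrimeCore_inf_subgroupOf_le (Subgroup.centralizer ({y} : Set G)) hxX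
    rw [Subgroup.mem_subgroupOf]
    exact hd
  have h2 : QuotientGroup.mk' (pPrimeCore 2 ↥(Subgroup.centralizer ({y} : Set G)))
      (⟨d, hdX⟩ : ↥(Subgroup.centralizer ({y} : Set G))) ∈
      centralizerPPrimeCore 2 (QuotientGroup.mk'
        (pPrimeCore 2 ↥(Subgroup.centralizer ({y} : Set G)))
        (⟨x, hxX⟩ : ↥(Subgroup.centralizer ({y} : Set G)))) :=
    centralizerPPrimeCore_map_mk_le (p := 2) _ hWc hx' ⟨_, h1, rfl⟩
  have h3 := hbal h2
  rw [Subgroup.mem_bot, QuotientGroup.mk'_apply, QuotientGroup.eq_one_iff] at h3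
  exact ⟨⟨d, hdX⟩, h3, rfl⟩

/-- Let G be finite. Suppose that for every involution x, writing C = C_G(x), every component K of C / O(C) has K / Z(K) locally balanced. Then G is balanced. -/
theorem result {G : Type*} [Group G] [Finite G] (h : ∀ x : G, orderOf x = 2 → ∀ K : Subgroup (↥(Subgroup.centralizer ({x} : Set G)) ⧸ Cfsg.oddCore ↥(Subgroup.centralizer ({x} : Set G))), Cfsg.IsComponent K → Cfsg.IsLocallyBalanced (↥K ⧸ Subgroup.center ↥K)) : Cfsg.IsBalanced G := by
  intro x y hx hy hxy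
  apply le_antisymm
  · exact le_inf (key h x y hx hy hxy)
      (inf_le_left.trans (centralizerPPrimeCore_le_centralizer 2 x))
  · exact le_inf (key h y x hy hx hxy.symm)
      (inf_le_left.trans (centralizerPPrimeCore_le_centralizer 2 y))

end Cfsg.Agent.S1297
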