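import Cfsg.Statements.S1298
import Mathlib
import Cfsg.Agent.Lib.Helper31_KBal
import Cfsg.Agent.Lib.Helper31_LocBal
import Cfsg.Agent.Lib.Helper21_Components
import Cfsg.Agent.Lib.Helper23_PComp

set_option autoImplicit false
open Cfsg

namespace Cfsg.Agent.S1298

open Cfsg.Agent.Lib.Helper31_KBal Cfsg.Agent.Lib.Helper31_LocBal
open scoped commutatorElement

/-- Let G be finite and k ≥ 1. Suppose that for every x of order p, writing C = C_G(x), every component K of C / O_{p'}(C) has K / Z(K) locally k-balanced for p. Then G is k-balanced for p. -/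
theorem result {G : Type*} [Group G] [Finite G] (p k : ℕ) [Fact p.Prime] (hk : 1 ≤ k) (h : ∀ x : G, orderOf x = p → ∀ K : Subgroup (↥(Subgroup.centralizer ({x} : Set G)) ⧸ Cfsg.pPrimeCore p ↥(Subgroup.centralizer ({x} : Set G))), Cfsg.IsComponent K → Cfsg.IsLocallyKBalanced p k (↥K ⧸ Subgroup.center ↥K)) : Cfsg.IsKBalanced p k G := by
  intro A hA hAcard b hb hAb
  have hAle : A ≤ Subgroup.centralizer ({b} : Set G) :=
    fun a ha => mem_centralizer_singleton.mpr (hAb a ha)
  apply signalizerDelta_inf_centralizer_le hA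
  have h0 : pPrimeCore p (↥(Subgroup.centralizer ({b} : Set G)) ⧸
      pPrimeCore p ↥(Subgroup.centralizer ({b} : Set G))) = ⊥ :=
    Cfsg.Agent.Lib.Helper23_PComp.pPrimeCore_quotient_eq_bot _ p
  have hAb' := isElementaryAbelian_map hA (Subgroup.centralizer ({b} : Set G))
    (QuotientGroup.mk' (pPrimeCore p ↥(Subgroup.centralizer ({b} : Set G))))
  have hAbcard := card_map_mk_eq hA hAle
  rw [hAcard] at hAbcard
  have hAb1 := exists_ne_one_of_card hk hAbcard
  apply signalizerDelta_eq_bot h0 hAb' hAb1
  intro L hL hAL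
  have hHL := hullH_le_normalizer h0 hL hAb' hAb1 hAL
  have hperf := Cfsg.Agent.Lib.Helper21_Components.IsComponent.commutator_self hL
  apply commutator_signalizerDelta_eq_bot_of_hom h0 hL hAb' hAb1 hAL
    (autHom L _ hHL) (ker_autHom L _ hHL hperf)
  apply h b hb L hL (autHom L _ hHL).range
    (conj_range_le_range_autHom L _ hHL (le_hullH_left L _))
  · exact isElementaryAbelian_map hAb' _ _
  · rw [card_map_subgroupOf_eq (le_hullH_right L _)]
    · exact hAbcard
    · intro a ha h1
      have h2 : (autHom L _ hHL) a = 1 := by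
        have := congrArg Subtype.val h1
        simpa using this
      have h3 : a ∈ (autHom L _ hHL).ker := h2
      rw [ker_autHom L _ hHL hperf, Subgroup.mem_subgroupOf] at h3
      exact Subtype.ext (eq_one_of_mem_centralizer hL hAL ha h3)

end Cfsg.Agent.S1298
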