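-- Statement S1299 (row 1299): k-balance gives a signalizer functor (helper21).
import Cfsg.Statements.S1299
import Cfsg.Agent.Lib.Helper21_KBalance

set_option autoImplicit false
open Cfsg

namespace Cfsg.Agent.S1299

open Subgroup Cfsg.Agent.Lib.Helper22_Signalizer Cfsg.Agent.Lib.Helper21_SolvSF
  Cfsg.Agent.Lib.Helper21_KBalance

/-- Let G be finite and k-balanced for the prime p (k ≥ 1), A an elementary abelian p-subgroup of order at least p^(k+2) such that O_{p'}(C_G(a)) is solvable for every non-identity a ∈ A. For a ∈ A put θ a = the subgroup generated by the Δ_G(D) ∩ C_G(a) over the subgroups D ≤ A of order p^k. Then θ is an A-signalizer functor. -/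
theorem result {G : Type*} [Group G] [Finite G] (p k : ℕ) [Fact p.Prime] (hk : 1 ≤ k) (hbal : Cfsg.IsKBalanced p k G) (A : Subgroup G) (hA : Cfsg.IsElementaryAbelian p A) (hAk : p ^ (k + 2) ≤ Nat.card ↥A) (hsolv : ∀ a ∈ A, a ≠ 1 → Group.IsSolvable ↥(Cfsg.centralizerPPrimeCore p a)) : Cfsg.IsSignalizerFunctor p A (fun a => ⨆ D : {D : Subgroup G // D ≤ A ∧ Nat.card ↥D = p ^ k}, Cfsg.signalizerDelta p (D : Subgroup G) ⊓ Subgroup.centralizer {a}) := by
  have hAc : ∀ x ∈ A, ∀ y ∈ A, x * y = y * x := commute_of_isElementaryAbelian hA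
  have hAp : ∀ x ∈ A, x ^ p = 1 := hA.2
  refine ⟨?_, ?_, ?_, ?_⟩
  · intro a _ _
    exact iSup_le (fun _ => inf_le_right)
  · intro a ha ha1
    have hle : (⨆ D : {D : Subgroup G // D ≤ A ∧ Nat.card ↥D = p ^ k},
        signalizerDelta p (D : Subgroup G) ⊓ centralizer {a}) ≤ centralizerPPrimeCore p a := by
      rw [theta_eq_Theta hbal hAc hAp ha ha1]
      exact Theta_le_cpc (mem_zpowers a) ha1
    intro h
    exact cpc_card p a (h.trans (Subgroup.card_dvd_of_le hle))
  · intro a ha _
    have h1 : Inv A (⨆ D : {D : Subgroup G // D ≤ A ∧ Nat.card ↥D = p ^ k},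
        signalizerDelta p (D : Subgroup G) ⊓ centralizer {a}) :=
      inv_iSup _ (fun D => inv_inf (inv_delta hAc D.2.1) (inv_centralizer hAc ha))
    exact h1
  · intro a ha ha1 b hb hb1
    have hza : zpowers a ≤ A := zpowers_le.mpr ha
    have hne : zpowers a ≠ ⊥ := by
      intro h
      have h2 : a ∈ zpowers a := mem_zpowers a
      rw [h, mem_bot] at h2
      exact ha1 h2
    have h1 := Theta_balance p k hbal A hAc hAp hAk hsolv _ (zpowers a) hza hne rfl b hb
    have h3 : Theta p k A (zpowers a) ⊓ centralizer ({b} : Set G) ≤ Theta p k A (zpowers b) :=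
      h1.trans (Theta_anti le_sup_right)
    rw [← theta_eq_Theta hbal hAc hAp ha ha1, ← theta_eq_Theta hbal hAc hAp hb hb1] at h3
    exact h3

end Cfsg.Agent.S1299
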