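import Cfsg.Statements.S1300
import Mathlib

set_option autoImplicit false
open Cfsg

namespace Cfsg.Agent.S1300

/-- the centralizer core lies in the centralizer -/
theorem core_le_centralizer {G : Type*} [Group G] (p : ℕ) (x : G) :
    Cfsg.centralizerPPrimeCore p x ≤ Subgroup.centralizer ({x} : Set G) := by
  unfold Cfsg.centralizerPPrimeCore
  intro g hg
  rw [Subgroup.mem_map] at hg
  obtain ⟨y, _, rfl⟩ := hg
  exact y.2

/-- For a finite group G, balance in the sense of commuting involutions is the same as 1-balance for the prime 2. -/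
theorem result {G : Type*} [Group G] [Finite G] : Cfsg.IsBalanced G ↔ Cfsg.IsKBalanced 2 1 G := by
  constructor
  · intro hbal A hA hcard b hb hcomm
    -- A has order 2, pick its nonidentity element
    have hcard2 : Nat.card A = 2 := by simpa using hcard
    haveI : Finite A := Nat.finite_of_card_ne_zero (by omega)
    obtain ⟨a, ha1⟩ : ∃ a : A, a ≠ 1 := by
      by_contra hcon
      push_neg at hcon
      have : Subsingleton A := ⟨fun x y => by rw [hcon x, hcon y]⟩
      have := Nat.card_eq_one_iff_unique.mpr ⟨this, ⟨1⟩⟩
      omega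
    have haA : (a : G) ∈ A := a.2
    have ha1' : (a : G) ≠ 1 := fun h => ha1 (Subtype.ext h)
    have hasq : (a : G) ^ 2 = 1 := hA.2 a haA
    have horda : orderOf (a : G) = 2 := orderOf_eq_prime hasq ha1'
    have hab : (a : G) * b = b * a := hcomm a haA
    have hle : Cfsg.signalizerDelta 2 A ≤ Cfsg.centralizerPPrimeCore 2 (a : G) := by
      unfold Cfsg.signalizerDelta
      exact iInf_le (fun x : {x : G // x ∈ A ∧ x ≠ 1} => Cfsg.centralizerPPrimeCore 2 (x : G))
        ⟨a, haA, ha1'⟩
    have h := hbal a b horda hb hab
    calc Cfsg.signalizerDelta 2 A ⊓ Subgroup.centralizer {b}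
        ≤ Cfsg.centralizerPPrimeCore 2 (a : G) ⊓ Subgroup.centralizer {b} :=
          inf_le_inf_right _ hle
      _ = Cfsg.centralizerPPrimeCore 2 b ⊓ Subgroup.centralizer {(a : G)} := h
      _ ≤ Cfsg.centralizerPPrimeCore 2 b := inf_le_left
  · intro hk
    -- one-sided inclusion for commuting involutions
    have key : ∀ x y : G, orderOf x = 2 → orderOf y = 2 → x * y = y * x →
        Cfsg.centralizerPPrimeCore 2 x ⊓ Subgroup.centralizer {y} ≤
          Cfsg.centralizerPPrimeCore 2 y := by
      intro x y hx hy hxy
      have hx1 : x ≠ 1 := by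
        intro h; rw [h, orderOf_one] at hx; omega
      have hxsq : x ^ 2 = 1 := by rw [← hx]; exact pow_orderOf_eq_one x
      have hA : Cfsg.IsElementaryAbelian 2 (Subgroup.zpowers x) := by
        refine ⟨inferInstance, ?_⟩
        intro a ha
        obtain ⟨k, rfl⟩ := Subgroup.mem_zpowers_iff.mp ha
        rw [← zpow_natCast, ← zpow_mul, mul_comm, zpow_mul, zpow_natCast, hxsq, one_zpow]
      have hcard : Nat.card (Subgroup.zpowers x) = 2 ^ 1 := by
        rw [Nat.card_zpowers, hx]; rfl
      have hcomm : ∀ a ∈ Subgroup.zpowers x, a * y = y * a := by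
        intro a ha
        obtain ⟨k, rfl⟩ := Subgroup.mem_zpowers_iff.mp ha
        exact ((Commute.zpow_left (show Commute x y from hxy) k)).eq
      have h := hk (Subgroup.zpowers x) hA hcard y hy hcomm
      have hdelta : Cfsg.centralizerPPrimeCore 2 x ≤ Cfsg.signalizerDelta 2 (Subgroup.zpowers x) := by
        unfold Cfsg.signalizerDelta
        refine le_iInf ?_
        rintro ⟨a, ha, ha1⟩
        obtain ⟨k, rfl⟩ := Subgroup.mem_zpowers_iff.mp ha
        -- x^k with x^2 = 1 is either 1 or x
        have : x ^ k = 1 ∨ x ^ k = x := by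
          rcases Int.emod_two_eq_zero_or_one k with hk0 | hk1
          · left
            have : k = 2 * (k / 2) := by omega
            rw [this, zpow_mul, zpow_ofNat, hxsq, one_zpow]
          · right
            have : k = 2 * (k / 2) + 1 := by omega
            rw [this, zpow_add, zpow_mul, zpow_ofNat, hxsq, one_zpow, one_mul, zpow_one]
        rcases this with h1 | h1
        · exact absurd h1 ha1
        · simp only [h1]; exact le_rfl
      exact le_trans (inf_le_inf_right _ hdelta) h
    intro x y hx hy hxy
    apply le_antisymm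
    · exact le_inf (key x y hx hy hxy) (inf_le_left.trans (core_le_centralizer 2 x))
    · exact le_inf (key y x hy hx hxy.symm) (inf_le_left.trans (core_le_centralizer 2 y))

end Cfsg.Agent.S1300
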