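import Cfsg.Statements.S1303
import Mathlib

set_option autoImplicit false
open Cfsg

namespace Cfsg.Agent.S1303

open Matrix

abbrev SL23 := Matrix.SpecialLinearGroup (Fin 2) (ZMod 3)

set_option maxRecDepth 100000 in
theorem sq_one : ∀ t : SL23, t ^ 2 = 1 → t = 1 ∨ t = -1 := by decide

set_option maxRecDepth 100000 in
theorem q8_mul : ∀ g h : SL23, g ^ 4 = 1 → h ^ 4 = 1 → (g * h) ^ 4 = 1 := by decide

set_option maxRecDepth 100000 in
theorem comm_q8 : ∀ g : SL23, g ≠ 1 → g ^ 4 = 1 ∨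
    ∃ h : SL23, (g⁻¹ * (h * g * h⁻¹)) ≠ 1 ∧ (g⁻¹ * (h * g * h⁻¹)) ^ 4 = 1 := by decide

def iM : SL23 := ⟨!![0, 1; -1, 0], by decide⟩
def jM : SL23 := ⟨!![1, 1; 1, -1], by decide⟩
def uM : SL23 := ⟨!![1, 1; 0, 1], by decide⟩

theorem iM4 : iM ^ 4 = 1 := by decide
theorem jM4 : jM ^ 4 = 1 := by decide
theorem uM3 : uM ^ 3 = 1 := by decide
theorem uM1 : uM ≠ 1 := by decide

set_option maxRecDepth 100000 in
theorem cent_ij : ∀ g : SL23, g * iM = iM * g → g * jM = jM * g → g ^ 4 = 1 := by decide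

/-- the quaternion subgroup: all elements of order dividing 4 -/
def Q8 : Subgroup SL23 where
  carrier := {g | g ^ 4 = 1}
  one_mem' := by simp
  mul_mem' := fun {g h} hg hh => q8_mul g h hg hh
  inv_mem' := fun {g} hg => by
    show g⁻¹ ^ 4 = 1
    rw [inv_pow, hg, inv_one]

theorem mem_Q8 (g : SL23) : g ∈ Q8 ↔ g ^ 4 = 1 := Iff.rfl

instance Q8_normal : Q8.Normal := by
  constructor
  intro n hn g
  rw [mem_Q8] at hn ⊢
  rw [conj_pow, hn]; group

theorem Q8_isPGroup : IsPGroup 2 Q8 := by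
  intro g
  refine ⟨2, ?_⟩
  apply Subtype.ext
  have := g.2
  rw [mem_Q8] at this
  simpa using this

/-- an element of even order forces even group order -/
theorem even_of_pow_four {H : Subgroup SL23} (y : SL23) (hy : y ∈ H) (h1 : y ≠ 1) (h4 : y ^ 4 = 1) :
    2 ∣ Nat.card H := by
  have hdvd : orderOf y ∣ 4 := orderOf_dvd_of_pow_eq_one h4
  have hne : orderOf y ≠ 1 := by
    intro h; exact h1 (orderOf_eq_one_iff.mp h)
  have h2 : 2 ∣ orderOf y := by
    have : orderOf y ∈ Nat.divisors 4 := Nat.mem_divisors.mpr ⟨hdvd, by norm_num⟩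
    have hd : Nat.divisors 4 = {1, 2, 4} := by decide
    rw [hd] at this
    simp only [Finset.mem_insert, Finset.mem_singleton] at this
    rcases this with h | h | h
    · exact absurd h hne
    · rw [h]
    · rw [h]; norm_num
  have h3 : orderOf y ∣ Nat.card H := by
    have : orderOf (⟨y, hy⟩ : H) = orderOf y := Subgroup.orderOf_mk y hy
    rw [← this]
    exact orderOf_dvd_natCard _
  exact dvd_trans h2 h3

theorem core_eq_bot : Cfsg.pPrimeCore 2 SL23 = ⊥ := by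
  unfold Cfsg.pPrimeCore
  rw [eq_bot_iff]
  apply sSup_le
  rintro N ⟨hN, hcop⟩
  intro g hg
  rw [Subgroup.mem_bot]
  by_contra hg1
  have hodd : ¬ 2 ∣ Nat.card N := by
    intro h
    have := Nat.Coprime.eq_one_of_dvd hcop.symm h
    omega
  rcases comm_q8 g hg1 with h4 | ⟨h, hy1, hy4⟩
  · exact hodd (even_of_pow_four g hg hg1 h4)
  · have hy : g⁻¹ * (h * g * h⁻¹) ∈ N := N.mul_mem (N.inv_mem hg) (hN.conj_mem g hg h)
    exact hodd (even_of_pow_four _ hy hy1 hy4)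

theorem pPrimePCore_isPGroup : IsPGroup 2 (Cfsg.pPrimePCore 2 SL23) := by
  intro w
  have hw : (w : SL23) ∈ Cfsg.pPrimePCore 2 SL23 := w.2
  unfold Cfsg.pPrimePCore at hw
  rw [Subgroup.mem_comap] at hw
  -- pCore is a 2-group
  have hP : IsPGroup 2 (Cfsg.pCore 2 (SL23 ⧸ Cfsg.pPrimeCore 2 SL23)) :=
    Sylow.sSup_of_normal _ (fun _ h => h.2) (fun _ h => h.1)
  obtain ⟨k, hk⟩ := hP ⟨_, hw⟩
  refine ⟨k, ?_⟩
  apply Subtype.ext
  have hk' : (QuotientGroup.mk' (Cfsg.pPrimeCore 2 SL23) (w : SL23)) ^ 2 ^ k = 1 := by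
    have := congrArg Subtype.val hk
    simpa using this
  rw [← map_pow, QuotientGroup.mk'_apply, QuotientGroup.eq_one_iff, core_eq_bot, Subgroup.mem_bot] at hk'
  simpa using hk'

theorem Q8_le : Q8 ≤ Cfsg.pPrimePCore 2 SL23 := by
  intro g hg
  unfold Cfsg.pPrimePCore
  rw [Subgroup.mem_comap]
  have h1 : (Q8.map (QuotientGroup.mk' (Cfsg.pPrimeCore 2 SL23))).Normal :=
    Subgroup.Normal.map inferInstance _ (QuotientGroup.mk'_surjective _)
  have h2 : IsPGroup 2 (Q8.map (QuotientGroup.mk' (Cfsg.pPrimeCore 2 SL23))) :=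
    Q8_isPGroup.map _
  have h3 : Q8.map (QuotientGroup.mk' (Cfsg.pPrimeCore 2 SL23)) ≤ Cfsg.pCore 2 _ :=
    le_sSup ⟨h1, h2⟩
  exact h3 (Subgroup.mem_map_of_mem _ hg)

/-- The group X = SL(2, 3): it is 2-constrained, O_{2'}(X) = 1, its centre A = Z(X) contains every involution of X = C_X(A), and X has a subgroup of order 3 (normalized by A) not contained in O_{2'}(X). -/
theorem result : Cfsg.IsPConstrained 2 (Matrix.SpecialLinearGroup (Fin 2) (ZMod 3)) ∧ Cfsg.pPrimeCore 2 (Matrix.SpecialLinearGroup (Fin 2) (ZMod 3)) = ⊥ ∧ (∀ t : Matrix.SpecialLinearGroup (Fin 2) (ZMod 3), orderOf t = 2 → t ∈ Subgroup.center (Matrix.SpecialLinearGroup (Fin 2) (ZMod 3))) ∧ ∃ Q : Subgroup (Matrix.SpecialLinearGroup (Fin 2) (ZMod 3)), Nat.card ↥Q = 3 ∧ ¬ (Q ≤ Cfsg.pPrimeCore 2 (Matrix.SpecialLinearGroup (Fin 2) (ZMod 3))) := by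
  refine ⟨?_, core_eq_bot, ?_, ?_⟩
  · intro P
    have hPtop : (P : Subgroup ↥(Cfsg.pPrimePCore 2 SL23)) = ⊤ := by
      have := P.is_maximal' (Q := ⊤) (pPrimePCore_isPGroup.to_subgroup ⊤) le_top
      exact this.symm
    rw [hPtop, ← MonoidHom.range_eq_map, Subgroup.range_subtype]
    intro g hg
    rw [Subgroup.mem_centralizer_iff] at hg
    have hi : iM ∈ Cfsg.pPrimePCore 2 SL23 := Q8_le ((mem_Q8 _).mpr iM4)
    have hj : jM ∈ Cfsg.pPrimePCore 2 SL23 := Q8_le ((mem_Q8 _).mpr jM4)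
    have h4 := cent_ij g (hg iM hi).symm (hg jM hj).symm
    exact Q8_le ((mem_Q8 g).mpr h4)
  · intro t ht
    have htsq : t ^ 2 = 1 := by
      have := pow_orderOf_eq_one t
      rwa [ht] at this
    rcases sq_one t htsq with rfl | rfl
    · rw [orderOf_one] at ht; omega
    · rw [Matrix.SpecialLinearGroup.mem_center_iff]
      refine ⟨-1, ?_, ?_⟩
      · norm_num
      · ext i j
        fin_cases i <;> fin_cases j <;> simp [Matrix.scalar_apply, Matrix.SpecialLinearGroup.coe_neg]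
  · refine ⟨Subgroup.zpowers uM, ?_, ?_⟩
    · rw [Nat.card_zpowers]
      exact orderOf_eq_prime uM3 uM1
    · rw [core_eq_bot]
      intro h
      have := h (Subgroup.mem_zpowers uM)
      rw [Subgroup.mem_bot] at this
      exact uM1 this

end Cfsg.Agent.S1303
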