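import Cfsg.Statements.S1304
import Mathlib
-- import your own Cfsg.Agent.* helpers here

set_option autoImplicit false
open Cfsg
open scoped commutatorElement

namespace Cfsg.Agent.S1304

/-- Let X be a perfect group and α an automorphism of X with α(x) x⁻¹ central for every x. Then α is the identity. -/
theorem result {X : Type*} [Group X] (hperf : commutator X = ⊤) (α : X ≃* X) (h : ∀ x : X, α x * x⁻¹ ∈ Subgroup.center X) : ∀ x : X, α x = x := by
  -- the map x ↦ α x * x⁻¹ is a homomorphism into the center
  let f : X →* X :=
    { toFun := fun x => α x * x⁻¹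
      map_one' := by simp
      map_mul' := by
        intro x y
        have hy := h y
        rw [Subgroup.mem_center_iff] at hy
        calc α (x * y) * (x * y)⁻¹ = α x * (α y * y⁻¹) * x⁻¹ := by
              simp [mul_assoc]
          _ = α x * (x⁻¹ * (α y * y⁻¹)) := by
              rw [mul_assoc, ← hy x⁻¹]
          _ = α x * x⁻¹ * (α y * y⁻¹) := by simp [mul_assoc] }
  have hcomm : ∀ a b : X, f ⁅a, b⁆ = 1 := by
    intro a b
    have ha := h a
    have hb := h b
    rw [Subgroup.mem_center_iff] at ha hb
    have : f ⁅a, b⁆ = ⁅f a, f b⁆ := map_commutatorElement f a b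
    rw [this]
    rw [commutatorElement_eq_one_iff_commute]
    exact (ha (f b)).symm
  have hker : (⊤ : Subgroup X) ≤ f.ker := by
    rw [← hperf, commutator_def, Subgroup.commutator_le]
    intro a _ b _
    exact hcomm a b
  intro x
  have hx : f x = 1 := by
    have : x ∈ f.ker := hker (Subgroup.mem_top x)
    exact this
  have : α x * x⁻¹ = 1 := hx
  exact mul_inv_eq_one.mp this

end Cfsg.Agent.S1304
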