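import Cfsg.Statements.S1306
import Cfsg.Agent.Lib.Helper22_Layer

set_option autoImplicit false
open Cfsg

namespace Cfsg.Agent.S1306

open Cfsg.Agent.Lib.Helper22_Layer Cfsg.Agent.Lib.Helper21_Components Cfsg.Agent.Lib.Helper29_Local

variable {G : Type*} [Group G]

/-- conjugate of a subgroup -/
abbrev cj (g : G) (H : Subgroup G) : Subgroup G := H.map (MulAut.conj g).toMonoidHom

theorem mem_cj {g : G} {H : Subgroup G} {x : G} : x ∈ cj g H ↔ g⁻¹ * x * g ∈ H := by
  constructor
  · rintro ⟨n, hn, rfl⟩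
    have : g⁻¹ * ((MulAut.conj g).toMonoidHom n) * g = n := by
      simp [MulAut.conj_apply, mul_assoc]
    rw [this]; exact hn
  · intro h
    refine ⟨g⁻¹ * x * g, h, ?_⟩
    simp [MulAut.conj_apply, mul_assoc]

theorem cj_centralizer_singleton (g y : G) :
    cj g (Subgroup.centralizer ({y} : Set G)) = Subgroup.centralizer ({g * y * g⁻¹} : Set G) := by
  ext x
  rw [mem_cj, Subgroup.mem_centralizer_iff, Subgroup.mem_centralizer_iff]
  constructor
  · intro h z hz
    rw [Set.mem_singleton_iff] at hz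
    subst hz
    have := h y (Set.mem_singleton y)
    calc g * y * g⁻¹ * x = g * (y * (g⁻¹ * x * g)) * g⁻¹ := by group
      _ = g * ((g⁻¹ * x * g) * y) * g⁻¹ := by rw [this]
      _ = x * (g * y * g⁻¹) := by group
  · intro h z hz
    rw [Set.mem_singleton_iff] at hz
    subst hz
    have := h (g * z * g⁻¹) (Set.mem_singleton _)
    calc z * (g⁻¹ * x * g) = g⁻¹ * ((g * z * g⁻¹) * x) * g := by group
      _ = g⁻¹ * (x * (g * z * g⁻¹)) * g := by rw [this]
      _ = g⁻¹ * x * g * z := by group

theorem cj_centralizer (g : G) (L : Subgroup G) :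
    cj g (Subgroup.centralizer (L : Set G)) = Subgroup.centralizer ((cj g L : Subgroup G) : Set G) := by
  ext x
  rw [mem_cj, Subgroup.mem_centralizer_iff, Subgroup.mem_centralizer_iff]
  constructor
  · rintro h _ ⟨l, hl, rfl⟩
    have := h l hl
    show (MulAut.conj g) l * x = x * (MulAut.conj g) l
    rw [MulAut.conj_apply]
    calc g * l * g⁻¹ * x = g * (l * (g⁻¹ * x * g)) * g⁻¹ := by group
      _ = g * ((g⁻¹ * x * g) * l) * g⁻¹ := by rw [this]
      _ = x * (g * l * g⁻¹) := by group
  · intro h l hl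
    have hl' : g * l * g⁻¹ ∈ ((cj g L : Subgroup G) : Set G) := ⟨l, hl, by simp [MulAut.conj_apply]⟩
    have := h (g * l * g⁻¹) hl'
    calc l * (g⁻¹ * x * g) = g⁻¹ * ((g * l * g⁻¹) * x) * g := by group
      _ = g⁻¹ * (x * (g * l * g⁻¹)) * g := by rw [this]
      _ = g⁻¹ * x * g * l := by group

/-- transport of "component of a subgroup" along an isomorphism -/
theorem isComponent_subgroupOf_map' {G' : Type*} [Group G'] (φ : G ≃* G') (L C : Subgroup G)
    (h : IsComponent (L.subgroupOf C)) :
    IsComponent ((L.map (φ : G →* G')).subgroupOf (C.map (φ : G →* G'))) := by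
  have h1 := isComponent_map_mulEquiv (φ.subgroupMap C) h
  have h2 : (L.subgroupOf C).map ((φ.subgroupMap C : ↥C ≃* ↥(C.map (φ : G →* G'))) : ↥C →* ↥(C.map (φ : G →* G'))) =
      (L.map (φ : G →* G')).subgroupOf (C.map (φ : G →* G')) := by
    ext ⟨z, hz⟩
    rw [Subgroup.mem_subgroupOf]
    constructor
    · rintro ⟨⟨c, hc⟩, hcL, hcz⟩
      rw [SetLike.mem_coe, Subgroup.mem_subgroupOf] at hcL
      have : φ c = z := congrArg Subtype.val hcz
      exact ⟨c, hcL, this⟩
    · rintro ⟨l, hl, hlz⟩
      obtain ⟨c, hc, hcz⟩ := hz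
      have hlc : l = c := φ.injective (by
        have h1 : φ l = z := hlz
        have h2 : φ c = z := hcz
        rw [h1, h2])
      refine ⟨⟨l, hlc ▸ hc⟩, ?_, ?_⟩
      · rw [SetLike.mem_coe, Subgroup.mem_subgroupOf]; exact hl
      · apply Subtype.ext; exact hlz
  rw [← h2]
  exact h1

theorem isComponent_subgroupOf_map {G' : Type*} [Group G'] (φ : G ≃* G') (L C : Subgroup G)
    (h : IsComponent (L.subgroupOf C)) :
    IsComponent ((L.map φ.toMonoidHom).subgroupOf (C.map φ.toMonoidHom)) :=
  isComponent_subgroupOf_map' φ L C h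

/-- Let G be finite, x an involution and L ≤ C_G(x) a component of C_G(x). Suppose L is a component of C_G(y) for every involution y ∈ C_G(L), and ⁅L, g L g⁻¹⁆ ≠ 1 whenever g L g⁻¹ ≠ L. Then L is a standard subgroup of G. -/
theorem result {G : Type*} [Group G] [Finite G] (x : G) (hx : orderOf x = 2) (L : Subgroup G) (hLx : L ≤ Subgroup.centralizer ({x} : Set G)) (hL : Cfsg.IsComponent (L.subgroupOf (Subgroup.centralizer ({x} : Set G)))) (hne : ∀ y : G, orderOf y = 2 → y ∈ Subgroup.centralizer (L : Set G) → L ≤ Subgroup.centralizer ({y} : Set G) ∧ Cfsg.IsComponent (L.subgroupOf (Subgroup.centralizer ({y} : Set G)))) (hnc : ∀ g : G, L.map (MulAut.conj g).toMonoidHom ≠ L → ⁅L, L.map (MulAut.conj g).toMonoidHom⁆ ≠ ⊥) : Cfsg.IsStandardSubgroup L := by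
  set K : Subgroup G := Subgroup.centralizer (L : Set G) with hK
  -- x lies in K
  have hxK : x ∈ K := by
    rw [hK, Subgroup.mem_centralizer_iff]
    intro l hl
    have := hLx hl
    rw [Subgroup.mem_centralizer_iff] at this
    exact (this x (Set.mem_singleton x)).symm
  -- key claim
  have key : ∀ (g y : G), orderOf y = 2 → y ∈ K → y ∈ cj g K → cj g L = L := by
    intro g y hy hyK hyKg
    by_contra hneq
    have h1 := hne y hy hyK
    -- y' = g⁻¹ y g
    have hy' : g⁻¹ * y * g ∈ K := mem_cj.mp hyKg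
    have hy'ord : orderOf (g⁻¹ * y * g) = 2 := by
      have : g⁻¹ * y * g = (MulAut.conj g⁻¹) y := by simp
      rw [this, MulEquiv.orderOf_eq]; exact hy
    have h2 := hne _ hy'ord hy'
    have h3 := isComponent_subgroupOf_map (MulAut.conj g) L _ h2.2
    have hC : (Subgroup.centralizer ({g⁻¹ * y * g} : Set G)).map (MulAut.conj g).toMonoidHom =
        Subgroup.centralizer ({y} : Set G) := by
      have := cj_centralizer_singleton g (g⁻¹ * y * g)
      have e : g * (g⁻¹ * y * g) * g⁻¹ = y := by group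
      rw [e] at this
      exact this
    rw [hC] at h3
    have hle : cj g L ≤ Subgroup.centralizer ({y} : Set G) := by
      rw [← hC]; exact Subgroup.map_mono h2.1
    have hne' : (cj g L).subgroupOf (Subgroup.centralizer ({y} : Set G)) ≠
        L.subgroupOf (Subgroup.centralizer ({y} : Set G)) := by
      intro heq
      apply hneq
      apply le_antisymm
      · exact le_of_subgroupOf_le hle heq.le
      · exact le_of_subgroupOf_le h1.1 heq.ge
    have hcomm := IsComponent.commutator_eq_bot_of_ne h1.2 h3 (Ne.symm hne')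
    have := commutator_eq_bot_of_subgroupOf h1.1 hle hcomm
    exact hnc g hneq this
  have hNL : Subgroup.normalizer (L : Set G) ≤ Subgroup.normalizer (K : Set G) := by
    intro g hg
    rw [Subgroup.mem_normalizer_iff_map_conj_eq]
    have h1 : cj g K = K := by
      have := cj_centralizer g L
      rw [← hK] at this
      rw [this]
      have hgL : cj g L = L := (Subgroup.mem_normalizer_iff_map_conj_eq (H := L)).mp hg
      rw [hgL]
    exact h1
  have hcjmem : ∀ g : G, cj g L = L → g ∈ Subgroup.normalizer (L : Set G) := fun g h =>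
    (Subgroup.mem_normalizer_iff_map_conj_eq (H := L)).mpr h
  refine ⟨?_, ⟨?_, ?_⟩, hnc, ?_⟩
  · exact isQuasisimple_of_mulEquiv (Subgroup.subgroupOfEquivOfLe hLx) hL.2
  · -- even order
    have : orderOf (⟨x, hxK⟩ : K) = 2 := by rw [Subgroup.orderOf_mk]; exact hx
    have hdvd : 2 ∣ Nat.card K := by rw [← this]; exact orderOf_dvd_natCard _
    exact even_iff_two_dvd.mpr hdvd
  · intro g hg
    by_contra hodd
    rw [Nat.not_odd_iff_even, even_iff_two_dvd] at hodd
    obtain ⟨y, hy⟩ := exists_prime_orderOf_dvd_card' (G := ↥(K ⊓ K.map (MulAut.conj g).toMonoidHom)) 2 hodd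
    have hy2 : orderOf (y : G) = 2 := by rw [Subgroup.orderOf_coe]; exact hy
    have := key g y hy2 y.2.1 y.2.2
    exact hg (hNL (hcjmem g this))
  · apply le_antisymm hNL
    intro g hg
    have hgK : cj g K = K := (Subgroup.mem_normalizer_iff_map_conj_eq (H := K)).mp hg
    have hxKg : x ∈ cj g K := by rw [hgK]; exact hxK
    exact hcjmem g (key g x hx hxK hxKg)

end Cfsg.Agent.S1306
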