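import Cfsg.Statements.S1307
import Cfsg.Agent.Lib.Helper64_ClassInv

set_option autoImplicit false
open Cfsg

namespace Cfsg.Agent.S1307

/-- Let G be finite, x an involution and L ≤ C_G(x) a component of C_G(x) of even order and 2-rank 1, such that L is a component of C_G(y) for every involution y ∈ C_G(L). Then some involution of L is a classical involution of G. -/
theorem result {G : Type*} [Group G] [Finite G] (x : G) (hx : orderOf x = 2) (L : Subgroup G) (hLx : L ≤ Subgroup.centralizer ({x} : Set G)) (hL : Cfsg.IsComponent (L.subgroupOf (Subgroup.centralizer ({x} : Set G)))) (heven : Even (Nat.card ↥L)) (hrk : Cfsg.PRankLE 2 1 ↥L) (hne : ∀ y : G, orderOf y = 2 → y ∈ Subgroup.centralizer (L : Set G) → L ≤ Subgroup.centralizer ({y} : Set G) ∧ Cfsg.IsComponent (L.subgroupOf (Subgroup.centralizer ({y} : Set G)))) : ∃ t ∈ L, Cfsg.IsClassicalInvolution t := by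
  have e : ↥(L.subgroupOf (Subgroup.centralizer ({x} : Set G))) ≃* ↥L :=
    Subgroup.subgroupOfEquivOfLe hLx
  have hq : IsQuasisimple ↥L := Cfsg.Agent.Lib.Helper29_Local.isQuasisimple_of_mulEquiv e hL.2
  have h2 : 2 ∣ Nat.card ↥L := heven.two_dvd
  obtain ⟨z, hz, hzc, S, n, hS⟩ :=
    Cfsg.Agent.Lib.Helper64_ClassInv.exists_central_involution_quaternion hq h2 hrk
  have hzG : orderOf (z : G) = 2 := by rw [Subgroup.orderOf_coe]; exact hz
  have hzcent : (z : G) ∈ Subgroup.centralizer (L : Set G) := by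
    rw [Subgroup.mem_centralizer_iff]
    intro g hg
    have := hzc ⟨g, hg⟩
    exact (congrArg Subtype.val this).symm
  obtain ⟨hLz, hcomp⟩ := hne (z : G) hzG hzcent
  exact ⟨(z : G), z.2, hzG, L, hLz, z.2, hcomp.1, S, n, hS⟩

end Cfsg.Agent.S1307
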