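import Cfsg.Statements.S1312
import Cfsg.Agent.Lib.Helper22_Bender

set_option autoImplicit false
open Cfsg

namespace Cfsg.Agent.S1312

open Subgroup Cfsg.Agent.Lib.Helper22_Bender Cfsg.Agent.Lib.Helper22_CoreCentralizer

/-- if all `O_p(M)` are trivial then `F(M) = 1` -/
theorem fittingSubgroup_eq_bot {M : Type*} [Group M] [Finite M] (h : ∀ p : ℕ, p.Prime → pCore p M = ⊥) :
    fittingSubgroup M = ⊥ := by
  rw [Cfsg.Agent.Lib.Helper1_Cores.fittingSubgroup_eq_iSup_pCore, eq_bot_iff]
  apply iSup_le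
  intro q
  rw [h q q.2]

/-- Let G be a non-abelian finite simple group and M ≠ N maximal subgroups of G with F*(M) ≤ N and F*(N) ≤ M. Then there is a prime p such that F*(M) and F*(N) are both p-groups. -/
theorem result {G : Type*} [Group G] [Finite G] [IsSimpleGroup G] (hna : ¬ IsMulCommutative G) (M N : Subgroup G) (hM : IsCoatom M) (hN : IsCoatom N) (hMN : M ≠ N) (h1 : (Cfsg.generalizedFittingSubgroup ↥M).map M.subtype ≤ N) (h2 : (Cfsg.generalizedFittingSubgroup ↥N).map N.subtype ≤ M) : ∃ p : ℕ, p.Prime ∧ IsPGroup p ↥(Cfsg.generalizedFittingSubgroup ↥M) ∧ IsPGroup p ↥(Cfsg.generalizedFittingSubgroup ↥N) := by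
  by_cases hex : ∃ p : ℕ, p.Prime ∧ pCoreOf p M ≠ ⊥
  · obtain ⟨p, hp, hPM⟩ := hex
    have : Fact p.Prime := ⟨hp⟩
    have hPN : pCoreOf p N ≠ ⊥ := pCoreOf_ne_bot p h1 h2 hPM
    exact ⟨p, hp, isPGroup_fstar_of_pCoreOf_ne_bot p hM hN hMN h1 h2 hPM hPN,
      isPGroup_fstar_of_pCoreOf_ne_bot p hN hM hMN.symm h2 h1 hPN hPM⟩
  · push Not at hex
    have hexN : ∀ p : ℕ, p.Prime → pCoreOf p N = ⊥ := by
      intro p hp
      by_contra hPN
      have : Fact p.Prime := ⟨hp⟩
      exact pCoreOf_ne_bot p h2 h1 hPN (hex p hp)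
    have hFM : fittingSubgroup ↥M = ⊥ := fittingSubgroup_eq_bot (fun p hp =>
      (Subgroup.map_eq_bot_iff_of_injective _ M.subtype_injective).mp (hex p hp))
    have hFN : fittingSubgroup ↥N = ⊥ := fittingSubgroup_eq_bot (fun p hp =>
      (Subgroup.map_eq_bot_iff_of_injective _ N.subtype_injective).mp (hexN p hp))
    have hE : (layer ↥M).map M.subtype = (layer ↥N).map N.subtype :=
      le_antisymm (layerOf_le_layerOf h2 h1 hFN) (layerOf_le_layerOf h1 h2 hFM)
    have hMU : M ≤ normalizer (((layer ↥M).map M.subtype : Subgroup G) : Set G) :=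
      le_normalizer_map_subtype (layer ↥M)
    have hNU : N ≤ normalizer (((layer ↥M).map M.subtype : Subgroup G) : Set G) := by
      rw [hE]; exact le_normalizer_map_subtype (layer ↥N)
    have htop : normalizer (((layer ↥M).map M.subtype : Subgroup G) : Set G) = ⊤ := by
      rw [eq_top_iff, ← hM.sup_eq_top_of_ne hN hMN]
      exact sup_le hMU hNU
    have hUn : ((layer ↥M).map M.subtype).Normal := normalizer_eq_top_iff.mp htop
    have hbot : (layer ↥M).map M.subtype = ⊥ := by
      rcases hUn.eq_bot_or_eq_top with h | h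
      · exact h
      · exfalso
        apply hM.1
        rw [eq_top_iff, ← h]; exact Subgroup.map_subtype_le _
    have hLM : layer ↥M = ⊥ := (Subgroup.map_eq_bot_iff_of_injective _ M.subtype_injective).mp hbot
    have hLN : layer ↥N = ⊥ := by
      rw [hE] at hbot
      exact (Subgroup.map_eq_bot_iff_of_injective _ N.subtype_injective).mp hbot
    have hSM : generalizedFittingSubgroup ↥M = ⊥ := by
      unfold generalizedFittingSubgroup; rw [hLM, hFM, sup_bot_eq]
    have hSN : generalizedFittingSubgroup ↥N = ⊥ := by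
      unfold generalizedFittingSubgroup; rw [hLN, hFN, sup_bot_eq]
    refine ⟨2, Nat.prime_two, ?_, ?_⟩
    · rw [hSM]; exact IsPGroup.of_bot
    · rw [hSN]; exact IsPGroup.of_bot

end Cfsg.Agent.S1312
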