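import Cfsg.Statements.S1313
import Cfsg.Agent.Lib.Helper21_FStar
import Mathlib

set_option autoImplicit false
open Cfsg

namespace Cfsg.Agent.S1313

open Cfsg.Agent.Lib.Helper29_Local

/-- automorphisms of a finite group of order `n` number at most `(n-1)!` -/
theorem card_mulAut_le {M : Type*} [Group M] [Finite M] :
    Nat.card (MulAut M) ≤ Nat.factorial (Nat.card M - 1) := by
  classical
  let ι : MulAut M → Equiv.Perm {x : M // x ≠ 1} := fun f =>
    f.toEquiv.subtypeEquiv (fun a => by
      show a ≠ 1 ↔ f a ≠ 1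
      rw [Ne, Ne, EmbeddingLike.map_eq_one_iff])
  have hinj : Function.Injective ι := by
    intro f g hfg
    ext a
    by_cases ha : a = 1
    · rw [ha, map_one, map_one]
    · have := congrArg (fun e : Equiv.Perm {x : M // x ≠ 1} => ((e ⟨a, ha⟩ : {x : M // x ≠ 1}) : M)) hfg
      simpa [ι] using this
  have h1 : Nat.card (MulAut M) ≤ Nat.card (Equiv.Perm {x : M // x ≠ 1}) :=
    Nat.card_le_card_of_injective ι hinj
  have h2 : Nat.card {x : M // x ≠ 1} = Nat.card M - 1 := by
    have := Fintype.ofFinite M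
    rw [Nat.card_eq_fintype_card, Nat.card_eq_fintype_card]
    exact Set.card_ne_eq (1 : M)
  rw [Nat.card_perm, h2] at h1
  exact h1

/-- For a finite group H, |H| ≤ |F*(H)|!. -/
theorem result {H : Type*} [Group H] [Finite H] : Nat.card H ≤ Nat.factorial (Nat.card ↥(Cfsg.generalizedFittingSubgroup H)) := by
  set Fs := Cfsg.generalizedFittingSubgroup H with hFs
  let φ : H →* MulAut ↥Fs := MulAut.conjNormal
  have hker : φ.ker ≤ Fs := by
    intro g hg
    apply Cfsg.Agent.Lib.Helper21_FStar.centralizer_generalizedFitting_le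
    rw [Subgroup.mem_centralizer_iff]
    intro x hx
    have h1 : φ g ⟨x, hx⟩ = ⟨x, hx⟩ := by
      rw [MonoidHom.mem_ker] at hg
      rw [hg]; rfl
    have h2 : g * x * g⁻¹ = x := by
      have := congrArg Subtype.val h1
      rwa [MulAut.conjNormal_apply] at this
    calc x * g = (g * x * g⁻¹) * g := by rw [h2]
      _ = g * x := by group
  have hcard : Nat.card φ.ker * Nat.card φ.range = Nat.card H := by
    rw [← Subgroup.index_ker]
    exact Subgroup.card_mul_index φ.ker
  have h1 : Nat.card φ.ker ≤ Nat.card Fs := Subgroup.card_le_of_le hker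
  have h2 : Nat.card φ.range ≤ Nat.factorial (Nat.card Fs - 1) :=
    (Subgroup.card_le_card_group φ.range).trans card_mulAut_le
  have hpos : 0 < Nat.card Fs := Nat.card_pos
  calc Nat.card H = Nat.card φ.ker * Nat.card φ.range := hcard.symm
    _ ≤ Nat.card Fs * Nat.factorial (Nat.card Fs - 1) := Nat.mul_le_mul h1 h2
    _ = Nat.factorial (Nat.card Fs) := Nat.mul_factorial_pred (Nat.pos_iff_ne_zero.mp hpos)

end Cfsg.Agent.S1313
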