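import Cfsg.Statements.S1314
import Mathlib

set_option autoImplicit false
open Cfsg

namespace Cfsg.Agent.S1314

open scoped commutatorElement

theorem comm_central {G : Type*} [Group G] (a b w₁ w₂ : G) (h1 : Commute w₁ b) (h2 : Commute w₁ w₂)
    (h3 : Commute w₂ a) : ⁅a * w₁, b * w₂⁆ = ⁅a, b⁆ := by
  rw [commutatorElement_def, commutatorElement_def]
  calc (a*w₁)*(b*w₂)*(a*w₁)⁻¹*(b*w₂)⁻¹
      = a*(w₁*b)*w₂*w₁⁻¹*a⁻¹*w₂⁻¹*b⁻¹ := by group
    _ = a*(b*w₁)*w₂*w₁⁻¹*a⁻¹*w₂⁻¹*b⁻¹ := by rw [h1.eq]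
    _ = a*b*(w₁*w₂)*w₁⁻¹*a⁻¹*w₂⁻¹*b⁻¹ := by group
    _ = a*b*(w₂*w₁)*w₁⁻¹*a⁻¹*w₂⁻¹*b⁻¹ := by rw [h2.eq]
    _ = a*b*(w₂*a⁻¹)*w₂⁻¹*b⁻¹ := by group
    _ = a*b*(a⁻¹*w₂)*w₂⁻¹*b⁻¹ := by rw [(h3.inv_right).eq]
    _ = a*b*a⁻¹*b⁻¹ := by group

/-- Let x be an involution of a group G and L a perfect subgroup with ⁅L, x L x⁻¹⁆ = 1. Then l ↦ l (x l x⁻¹) is a group homomorphism π from L to G whose kernel is central in L and whose image lies in C_G(x); and the commutator subgroup of C_{L ⊔ xLx⁻¹}(x) equals the image of π. -/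
theorem result {G : Type*} [Group G] [Finite G] (x : G) (hx : orderOf x = 2) (L : Subgroup G) (hperf : ⁅L, L⁆ = L) (hcomm : ⁅L, L.map (MulAut.conj x).toMonoidHom⁆ = ⊥) : ∃ π : ↥L →* G, (∀ l : ↥L, π l = (l : G) * (x * (l : G) * x⁻¹)) ∧ π.ker ≤ Subgroup.center ↥L ∧ π.range ≤ Subgroup.centralizer ({x} : Set G) ∧ ⁅(L ⊔ L.map (MulAut.conj x).toMonoidHom) ⊓ Subgroup.centralizer ({x} : Set G), (L ⊔ L.map (MulAut.conj x).toMonoidHom) ⊓ Subgroup.centralizer ({x} : Set G)⁆ = π.range := by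
  have hxsq : x * x = 1 := by
    have : x ^ 2 = 1 := by rw [← hx]; exact pow_orderOf_eq_one x
    rwa [pow_two] at this
  have hxinv : x⁻¹ = x := inv_eq_of_mul_eq_one_left hxsq
  set Lx : Subgroup G := L.map (MulAut.conj x).toMonoidHom with hLx
  have memLx : ∀ m, m ∈ Lx ↔ ∃ l ∈ L, x * l * x⁻¹ = m := by
    intro m
    rw [hLx, Subgroup.mem_map]
    rfl
  have conj_mem : ∀ l ∈ L, x * l * x⁻¹ ∈ Lx := fun l hl => (memLx _).mpr ⟨l, hl, rfl⟩
  have conj_mem' : ∀ m ∈ Lx, x * m * x⁻¹ ∈ L := by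
    intro m hm
    obtain ⟨l, hl, rfl⟩ := (memLx m).mp hm
    have : x * (x * l * x⁻¹) * x⁻¹ = (x * x) * l * (x * x)⁻¹ := by group
    rw [this, hxsq]; simpa using hl
  -- commuting
  have hC : ∀ l ∈ L, ∀ m ∈ Lx, Commute l m := by
    intro l hl m hm
    have := (Subgroup.commutator_eq_bot_iff_le_centralizer).mp hcomm hl
    rw [Subgroup.mem_centralizer_iff] at this
    exact (this m hm).symm
  -- the homomorphism
  let π : ↥L →* G :=
    { toFun := fun l => (l : G) * (x * (l : G) * x⁻¹)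
      map_one' := by simp
      map_mul' := by
        intro l l'
        have hc : Commute (l' : G) (x * (l : G) * x⁻¹) := hC l' l'.2 _ (conj_mem l l.2)
        calc ((l * l' : L) : G) * (x * ((l * l' : L) : G) * x⁻¹)
            = (l : G) * ((l' : G) * (x * (l : G) * x⁻¹)) * (x * (l' : G) * x⁻¹) := by
              simp only [Subgroup.coe_mul]; group
          _ = (l : G) * ((x * (l : G) * x⁻¹) * (l' : G)) * (x * (l' : G) * x⁻¹) := by rw [hc.eq]
          _ = (l : G) * (x * (l : G) * x⁻¹) * ((l' : G) * (x * (l' : G) * x⁻¹)) := by group }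
  have hπ : ∀ l : ↥L, π l = (l : G) * (x * (l : G) * x⁻¹) := fun l => rfl
  -- elements of L ⊓ Lx commute with L and Lx
  have hZL : ∀ w ∈ L ⊓ Lx, ∀ l ∈ L, Commute w l := fun w hw l hl => (hC l hl w hw.2).symm
  have hZLx : ∀ w ∈ L ⊓ Lx, ∀ m ∈ Lx, Commute w m := fun w hw m hm => hC w hw.1 m hm
  have hZπ : ∀ w ∈ L ⊓ Lx, ∀ l : L, Commute w (π l) := by
    intro w hw l
    rw [hπ]
    exact (hZL w hw l l.2).mul_right (hZLx w hw _ (conj_mem l l.2))
  have hπC : ∀ l : L, π l ∈ (L ⊔ Lx) ⊓ Subgroup.centralizer ({x} : Set G) := by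
    intro l
    refine Subgroup.mem_inf.mpr ⟨?_, ?_⟩
    · rw [hπ]
      exact (L ⊔ Lx).mul_mem (Subgroup.mem_sup_left l.2) (Subgroup.mem_sup_right (conj_mem l l.2))
    · rw [Subgroup.mem_centralizer_iff]
      intro c hc
      rw [Set.mem_singleton_iff] at hc
      subst hc
      rw [hπ]
      have hc : Commute (l : G) (c * (l : G) * c⁻¹) := hC l l.2 _ (conj_mem l l.2)
      calc c * ((l : G) * (c * (l : G) * c⁻¹)) = (c * (l : G) * c⁻¹) * ((c * c) * (l : G) * c⁻¹) := by group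
        _ = (c * (l : G) * c⁻¹) * ((l : G) * c⁻¹) := by rw [hxsq, one_mul]
        _ = ((c * (l : G) * c⁻¹) * (l : G)) * c⁻¹ := by group
        _ = ((l : G) * (c * (l : G) * c⁻¹)) * c⁻¹ := by rw [hc.eq]
        _ = (l : G) * (c * (l : G) * c⁻¹) * c := by rw [hxinv]
  -- perfectness of ⊤ in L
  have htop : ⁅(⊤ : Subgroup L), (⊤ : Subgroup L)⁆ = (⊤ : Subgroup L) := by
    apply Subgroup.map_injective L.subtype_injective
    rw [Subgroup.map_commutator, ← MonoidHom.range_eq_map, Subgroup.range_subtype, hperf]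
  have hrange : π.range = ⁅π.range, π.range⁆ := by
    conv_lhs => rw [MonoidHom.range_eq_map, ← htop, Subgroup.map_commutator, ← MonoidHom.range_eq_map]
  refine ⟨π, hπ, ?_, ?_, ?_⟩
  · -- kernel central
    intro l hl
    rw [MonoidHom.mem_ker, hπ] at hl
    have hlLx : (l : G) ∈ Lx := by
      have : (l : G) = (x * (l : G) * x⁻¹)⁻¹ := eq_inv_of_mul_eq_one_left hl
      rw [this]
      exact Lx.inv_mem (conj_mem l l.2)
    rw [Subgroup.mem_center_iff]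
    intro g
    apply Subtype.ext
    simp only [Subgroup.coe_mul]
    exact (hC g g.2 l hlLx).eq
  · rintro _ ⟨l, rfl⟩
    exact (hπC l).2
  · apply le_antisymm
    · rw [Subgroup.commutator_le]
      -- decomposition of elements of C
      have hdecomp : ∀ c ∈ (L ⊔ Lx) ⊓ Subgroup.centralizer ({x} : Set G),
          ∃ l : L, ∃ w ∈ L ⊓ Lx, c = π l * w := by
        intro c hc
        obtain ⟨hc1, hc2⟩ := hc
        have hnorm : Lx ≤ Subgroup.normalizer (L : Set G) := by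
          intro m hm
          rw [Subgroup.mem_normalizer_iff]
          intro l
          constructor
          · intro hl
            have := (hC l hl m hm).eq
            have e : m * l * m⁻¹ = l := by rw [← this]; group
            rw [e]; exact hl
          · intro hl
            have hm' : m⁻¹ ∈ Lx := Lx.inv_mem hm
            have := (hC _ hl m⁻¹ hm').eq
            have e : l = m⁻¹ * (m * l * m⁻¹) * m := by group
            have e2 : m⁻¹ * (m * l * m⁻¹) * m = (m * l * m⁻¹) := by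
              rw [← this]; group
            rw [e, e2]; exact hl
        have hc1' : c ∈ ((L ⊔ Lx : Subgroup G) : Set G) := hc1
        rw [Subgroup.coe_mul_of_right_le_normalizer_left L Lx hnorm] at hc1'
        obtain ⟨l₁, hl₁, m, hm, rfl⟩ := hc1'
        have hl₁ : l₁ ∈ L := hl₁
        have hm : m ∈ Lx := hm
        obtain ⟨l₂, hl₂, rfl⟩ := (memLx m).mp hm
        -- x commutes with l₁ * (x l₂ x⁻¹)
        have hc2' : l₁ * (x * l₂ * x⁻¹) ∈ Subgroup.centralizer ({x} : Set G) := hc2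
        rw [Subgroup.mem_centralizer_iff] at hc2'
        have hfix : x * (l₁ * (x * l₂ * x⁻¹)) = (l₁ * (x * l₂ * x⁻¹)) * x := hc2' x (Set.mem_singleton x)
        -- derive (x l₁ x⁻¹) l₂ = l₁ (x l₂ x⁻¹)
        have h1 : (x * l₁ * x⁻¹) * l₂ = l₁ * (x * l₂ * x⁻¹) := by
          have e1 : x * (l₁ * (x * l₂ * x⁻¹)) * x⁻¹ = l₁ * (x * l₂ * x⁻¹) := by rw [hfix]; group
          have e2 : (x * l₁ * x⁻¹) * l₂ = x * (l₁ * (x * l₂ * x⁻¹)) * x⁻¹ := by
            have : l₂ = (x * x) * l₂ * (x * x)⁻¹ := by rw [hxsq]; simp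
            conv_lhs => rw [this]
            group
          exact e2.trans e1
        have hcomm12 : Commute l₂ (x * l₁ * x⁻¹) := hC l₂ hl₂ _ (conj_mem l₁ hl₁)
        -- z = l₁⁻¹ l₂ ∈ L ⊓ Lx
        have hz : l₁⁻¹ * l₂ = x * (l₂ * l₁⁻¹) * x⁻¹ := by
          have h2 : l₂ * (x * l₁ * x⁻¹) = l₁ * (x * l₂ * x⁻¹) := by rw [hcomm12.eq, h1]
          calc l₁⁻¹ * l₂ = l₁⁻¹ * (l₂ * (x * l₁ * x⁻¹)) * (x * l₁ * x⁻¹)⁻¹ := by group
            _ = l₁⁻¹ * (l₁ * (x * l₂ * x⁻¹)) * (x * l₁ * x⁻¹)⁻¹ := by rw [h2]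
            _ = x * (l₂ * l₁⁻¹) * x⁻¹ := by group
        have hzL : l₁⁻¹ * l₂ ∈ L := L.mul_mem (L.inv_mem hl₁) hl₂
        have hzLx : l₁⁻¹ * l₂ ∈ Lx := by
          rw [hz]; exact conj_mem _ (L.mul_mem hl₂ (L.inv_mem hl₁))
        refine ⟨⟨l₁, hl₁⟩, x * (l₁⁻¹ * l₂) * x⁻¹, ⟨conj_mem' _ hzLx, conj_mem _ hzL⟩, ?_⟩
        rw [hπ]
        show l₁ * (x * l₂ * x⁻¹) = l₁ * (x * l₁ * x⁻¹) * (x * (l₁⁻¹ * l₂) * x⁻¹)
        group
      intro c₁ hc₁ c₂ hc₂
      obtain ⟨l₁, w₁, hw₁, rfl⟩ := hdecomp c₁ hc₁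
      obtain ⟨l₂, w₂, hw₂, rfl⟩ := hdecomp c₂ hc₂
      rw [comm_central (π l₁) (π l₂) w₁ w₂ (hZπ w₁ hw₁ l₂) (hZL w₁ hw₁ w₂ hw₂.1) (hZπ w₂ hw₂ l₁)]
      rw [← map_commutatorElement]
      exact ⟨_, rfl⟩
    · rw [hrange]
      apply Subgroup.commutator_mono
      · rintro _ ⟨l, rfl⟩; exact hπC l
      · rintro _ ⟨l, rfl⟩; exact hπC l

end Cfsg.Agent.S1314
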