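import Cfsg.Statements.S1316
import Cfsg.Agent.Lib.Helper22_Layer

set_option autoImplicit false
open Cfsg

namespace Cfsg.Agent.S1316

open Cfsg.Agent.Lib.Helper22_Layer Cfsg.Agent.Lib.Helper21_Components Cfsg.Agent.Lib.Helper29_Local

/-- derived series of a subgroup, computed in the ambient group -/
theorem map_derivedSeries_succ {X : Type*} [Group X] (H : Subgroup X) (n : ℕ) :
    (derivedSeries ↥H (n + 1)).map H.subtype =
      ⁅(derivedSeries ↥H n).map H.subtype, (derivedSeries ↥H n).map H.subtype⁆ := by
  rw [derivedSeries_succ, Subgroup.map_commutator]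

theorem map_derivedSeries_zero {X : Type*} [Group X] (H : Subgroup X) :
    (derivedSeries ↥H 0).map H.subtype = H := by
  rw [derivedSeries_zero, ← MonoidHom.range_eq_map, Subgroup.range_subtype]

/-- commutators modulo a normal subgroup -/
theorem commutator_sup_le {X : Type*} [Group X] (E A : Subgroup X) [E.Normal] :
    ⁅E ⊔ A, E ⊔ A⁆ ≤ E ⊔ ⁅A, A⁆ := by
  have h1 : (⁅E ⊔ A, E ⊔ A⁆).map (QuotientGroup.mk' E) = (⁅A, A⁆).map (QuotientGroup.mk' E) := by
    rw [Subgroup.map_commutator, Subgroup.map_commutator, Subgroup.map_sup]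
    have : E.map (QuotientGroup.mk' E) = ⊥ := by
      rw [Subgroup.map_eq_bot_iff, QuotientGroup.ker_mk']
    rw [this, bot_sup_eq]
  have h2 : ⁅E ⊔ A, E ⊔ A⁆ ≤ ((⁅E ⊔ A, E ⊔ A⁆).map (QuotientGroup.mk' E)).comap (QuotientGroup.mk' E) :=
    Subgroup.le_comap_map _ _
  rw [h1, Subgroup.comap_map_eq, QuotientGroup.ker_mk'] at h2
  rw [sup_comm E ⁅A, A⁆]
  exact h2

/-- For a finite group X, E(X) equals the intersection of the derived series of F*(X) (its last term). -/
theorem result {X : Type*} [Group X] [Finite X] : (⨅ n : ℕ, (derivedSeries ↥(Cfsg.generalizedFittingSubgroup X) n).map (Cfsg.generalizedFittingSubgroup X).subtype) = Cfsg.layer X := by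
  apply le_antisymm
  · -- some term lies in the layer
    have hnil : Group.IsNilpotent ↥(Cfsg.fittingSubgroup X) :=
      Cfsg.Agent.Lib.Helper1_Cores.fittingSubgroup_isNilpotent
    have hsolv : Group.IsSolvable ↥(Cfsg.fittingSubgroup X) := inferInstance
    obtain ⟨m, hm⟩ := hsolv.solvable
    have key : ∀ n : ℕ, (derivedSeries ↥(Cfsg.generalizedFittingSubgroup X) n).map
        (Cfsg.generalizedFittingSubgroup X).subtype ≤
        Cfsg.layer X ⊔ (derivedSeries ↥(Cfsg.fittingSubgroup X) n).map (Cfsg.fittingSubgroup X).subtype := by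
      intro n
      induction n with
      | zero =>
        rw [map_derivedSeries_zero, map_derivedSeries_zero]
        exact le_rfl
      | succ n ih =>
        rw [map_derivedSeries_succ, map_derivedSeries_succ]
        exact (Subgroup.commutator_mono ih ih).trans (commutator_sup_le _ _)
    refine (iInf_le _ m).trans ((key m).trans ?_)
    rw [hm, Subgroup.map_bot, sup_bot_eq]
  · apply le_iInf
    intro n
    induction n with
    | zero =>
      rw [map_derivedSeries_zero]
      exact layer_le_generalizedFittingSubgroup X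
    | succ n ih =>
      rw [map_derivedSeries_succ]
      calc Cfsg.layer X = ⁅Cfsg.layer X, Cfsg.layer X⁆ := layer_perfect.symm
        _ ≤ _ := Subgroup.commutator_mono ih ih

end Cfsg.Agent.S1316
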