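import Cfsg.Statements.S1317
import Cfsg.Agent.Lib.Helper22_Layer

set_option autoImplicit false
open Cfsg

namespace Cfsg.Agent.S1317

open Cfsg.Agent.Lib.Helper22_Layer Cfsg.Agent.Lib.Helper29_Local

/-- For a finite group X, the centre of the layer E(X) is F(X) ∩ E(X). -/
theorem result {X : Type*} [Group X] [Finite X] : (Subgroup.center ↥(Cfsg.layer X)).map (Cfsg.layer X).subtype = Cfsg.fittingSubgroup X ⊓ Cfsg.layer X := by
  apply le_antisymm
  · apply le_inf
    · -- the centre of the layer is a normal abelian subgroup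
      have : ((Subgroup.center ↥(Cfsg.layer X)).map (Cfsg.layer X).subtype).Normal :=
        ConjAct.normal_of_characteristic_of_normal
      apply le_fittingSubgroup
      have : IsMulCommutative ↥((Subgroup.center ↥(Cfsg.layer X)).map (Cfsg.layer X).subtype) := by
        refine ⟨⟨?_⟩⟩
        rintro ⟨_, ⟨a, ha, rfl⟩⟩ ⟨_, ⟨b, hb, rfl⟩⟩
        apply Subtype.ext
        have := Subgroup.mem_center_iff.mp ha b
        simpa using (congrArg Subtype.val this).symm
      exact isNilpotent_of_isMulCommutative
    · exact Subgroup.map_subtype_le _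
  · intro x hx
    have hxF : x ∈ Cfsg.fittingSubgroup X := hx.1
    have hxE : x ∈ Cfsg.layer X := hx.2
    refine ⟨⟨x, hxE⟩, ?_, rfl⟩
    show (⟨x, hxE⟩ : ↥(Cfsg.layer X)) ∈ Subgroup.center ↥(Cfsg.layer X)
    rw [Subgroup.mem_center_iff]
    intro e
    have h := layer_commutator_fitting (X := X)
    rw [Subgroup.commutator_eq_bot_iff_le_centralizer] at h
    have := h e.2
    rw [Subgroup.mem_centralizer_iff] at this
    apply Subtype.ext
    simpa using (this x hxF).symm

end Cfsg.Agent.S1317
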