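import Cfsg.Statements.S1318
import Cfsg.Agent.Lib.Helper22_Layer
import Cfsg.Agent.Lib.Helper21_FStar
import Cfsg.Agent.Lib.Helper1_Cores
import Cfsg.Agent.Lib.Helper21_Fitting

set_option autoImplicit false
open Cfsg

namespace Cfsg.Agent.S1318

open Subgroup Cfsg.Agent.Lib.Helper22_Layer Cfsg.Agent.Lib.Helper21_Components Cfsg.Agent.Lib.Helper21_FStar
  Cfsg.Agent.Lib.Helper29_Local Cfsg.Agent.Lib.Helper21_Fitting

universe u

/-- For a subnormal subgroup `S` of `X`: `F(S) = F(X) ∩ S`. -/
theorem map_fittingSubgroup_of_isSubnormal {X : Type u} [Group X] [Finite X] (S : Subgroup X)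
    (hS : S.IsSubnormal) : (fittingSubgroup ↥S).map S.subtype = fittingSubgroup X ⊓ S := by
  apply le_antisymm
  · apply le_inf _ (Subgroup.map_subtype_le _)
    apply le_fittingSubgroup_of_isSubnormal
    · exact IsSubnormal.trans' (Subgroup.Normal.isSubnormal inferInstance) hS
    · have hn : Group.IsNilpotent ↥(fittingSubgroup ↥S) :=
        Cfsg.Agent.Lib.Helper1_Cores.fittingSubgroup_isNilpotent
      exact isNilpotent_of_mulEquiv
        ((fittingSubgroup ↥S).equivMapOfInjective S.subtype S.subtype_injective) hn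
  · have hn : ((fittingSubgroup X).subgroupOf S).Normal := inferInstance
    have hnil : Group.IsNilpotent ↥((fittingSubgroup X).subgroupOf S) := by
      have h0 : Group.IsNilpotent ↥(fittingSubgroup X) :=
        Cfsg.Agent.Lib.Helper1_Cores.fittingSubgroup_isNilpotent
      have h1 : Group.IsNilpotent ↥(fittingSubgroup X ⊓ S) :=
        isNilpotent_of_mulEquiv (Subgroup.subgroupOfEquivOfLe
          (inf_le_left : fittingSubgroup X ⊓ S ≤ fittingSubgroup X)) (Subgroup.isNilpotent _)
      rw [← inf_subgroupOf_right]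
      exact isNilpotent_of_mulEquiv (Subgroup.subgroupOfEquivOfLe inf_le_right).symm h1
    have hle := le_fittingSubgroup ((fittingSubgroup X).subgroupOf S) hnil
    intro x hx
    exact ⟨⟨x, hx.2⟩, hle (by rw [Subgroup.mem_subgroupOf]; exact hx.1), rfl⟩

/-- Let X be finite and S ≤ F*(X) a subgroup subnormal in F*(X). Then F(S) = F(X) ∩ S (inside X) and S = F(S)E(S). -/
theorem result {X : Type*} [Group X] [Finite X] (S : Subgroup X) (hS : S ≤ Cfsg.generalizedFittingSubgroup X) (hsn : (S.subgroupOf (Cfsg.generalizedFittingSubgroup X)).IsSubnormal) : (Cfsg.fittingSubgroup ↥S).map S.subtype = Cfsg.fittingSubgroup X ⊓ S ∧ Cfsg.fittingSubgroup ↥S ⊔ Cfsg.layer ↥S = ⊤ := by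
  have hSsn : S.IsSubnormal := hsn.trans hS (Subgroup.Normal.isSubnormal inferInstance)
  have hF := map_fittingSubgroup_of_isSubnormal S hSsn
  refine ⟨hF, ?_⟩
  -- the two families of components
  set E1 : Subgroup X := ⨆ K : {K : Subgroup X // IsComponent K ∧ K ≤ S}, (K : Subgroup X) with hE1
  set E2 : Subgroup X := ⨆ K : {K : Subgroup X // IsComponent K ∧ ⁅K, S⁆ = ⊥}, (K : Subgroup X) with hE2
  have hE : layer X ≤ E1 ⊔ E2 := by
    rw [layer_le_iff]
    intro K hK
    rcases IsComponent.le_or_commutator_eq_bot hK hSsn with h | h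
    · exact le_trans (le_iSup (fun K : {K : Subgroup X // IsComponent K ∧ K ≤ S} => (K : Subgroup X))
        ⟨K, hK, h⟩) le_sup_left
    · exact le_trans (le_iSup (fun K : {K : Subgroup X // IsComponent K ∧ ⁅K, S⁆ = ⊥} => (K : Subgroup X))
        ⟨K, hK, h⟩) le_sup_right
  have hE1S : E1 ≤ S := iSup_le (fun K => K.2.2)
  have hE1E : E1 ≤ layer X := iSup_le (fun K => IsComponent.le_layer K.2.1)
  have hE2E : E2 ≤ layer X := iSup_le (fun K => IsComponent.le_layer K.2.1)
  have hE2S : E2 ≤ centralizer (S : Set X) :=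
    iSup_le (fun K => Subgroup.commutator_eq_bot_iff_le_centralizer.mp K.2.2)
  have hE2E1 : E2 ≤ centralizer (E1 : Set X) := hE2S.trans (Subgroup.centralizer_le hE1S)
  have hEF : layer X ≤ centralizer (fittingSubgroup X : Set X) :=
    Subgroup.commutator_eq_bot_iff_le_centralizer.mp layer_commutator_fitting
  have hFE : fittingSubgroup X ≤ centralizer (layer X : Set X) := by
    rw [← Subgroup.commutator_eq_bot_iff_le_centralizer, Subgroup.commutator_comm]
    exact layer_commutator_fitting
  have hUE1 : fittingSubgroup X ⊔ E2 ≤ centralizer (E1 : Set X) :=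
    sup_le (hFE.trans (Subgroup.centralizer_le hE1E)) hE2E1
  have hFstar : generalizedFittingSubgroup X ≤ (fittingSubgroup X ⊔ E2) ⊔ E1 := by
    unfold generalizedFittingSubgroup
    rw [sup_comm (layer X)]
    apply sup_le (le_sup_left.trans le_sup_left)
    refine hE.trans ?_
    rw [sup_comm E1 E2]
    exact sup_le_sup_right le_sup_right E1
  -- the center of `F*(X)` lies in `F(X)`
  have hZ : centralizer (generalizedFittingSubgroup X : Set X) ≤ fittingSubgroup X := by
    have hn : (centralizer (generalizedFittingSubgroup X : Set X)).Normal := Subgroup.normal_centralizer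
    apply le_fittingSubgroup
    have hcomm : IsMulCommutative ↥(centralizer (generalizedFittingSubgroup X : Set X)) := by
      refine ⟨⟨fun a b => ?_⟩⟩
      apply Subtype.ext
      have hb : (b : X) ∈ generalizedFittingSubgroup X := centralizer_generalizedFitting_le b.2
      exact (Subgroup.mem_centralizer_iff.mp a.2 (b : X) hb).symm
    let cg : CommGroup ↥(centralizer (generalizedFittingSubgroup X : Set X)) :=
      { (inferInstance : Group ↥(centralizer (generalizedFittingSubgroup X : Set X))) with
        mul_comm := fun a b => mul_comm' a b }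
    exact @CommGroup.isNilpotent _ cg
  rw [eq_top_iff]
  intro s _
  -- decompose `s`
  have hs1 : (s : X) ∈ ((fittingSubgroup X ⊔ E2) ⊔ E1 : Subgroup X) := hFstar (hS s.2)
  rw [← SetLike.mem_coe, Subgroup.coe_mul_of_left_le_normalizer_right _ _
    (hUE1.trans (Subgroup.centralizer_le_normalizer _))] at hs1
  obtain ⟨u, hu, e, he, hue⟩ := hs1
  have huS : u ∈ S := by
    have : u = (s : X) * e⁻¹ := by rw [← hue]; group
    rw [this]
    exact S.mul_mem s.2 (S.inv_mem (hE1S he))
  -- `u ∈ F(X)`
  have hu' : u ∈ ((fittingSubgroup X ⊔ E2 : Subgroup X) : Set X) := hu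
  rw [Subgroup.normal_mul] at hu'
  obtain ⟨f, hf, e2, he2, hfe⟩ := hu'
  have hf' : f ∈ fittingSubgroup X := hf
  have he2' : e2 ∈ E2 := he2
  have he2c : e2 ∈ centralizer (generalizedFittingSubgroup X : Set X) := by
    have h1 : e2 ∈ centralizer (fittingSubgroup X : Set X) := hEF (hE2E he2')
    have h2 : e2 ∈ centralizer (E1 : Set X) := hE2E1 he2'
    have h3 : e2 ∈ centralizer (E2 : Set X) := by
      -- `e2 = f⁻¹ u` and both `f` and `u` centralize `E2`
      have hfc : f ∈ centralizer (E2 : Set X) := (hFE.trans (Subgroup.centralizer_le hE2E)) hf'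
      have huc : u ∈ centralizer (E2 : Set X) := by
        rw [Subgroup.mem_centralizer_iff]
        intro y hy
        exact (Subgroup.mem_centralizer_iff.mp (hE2S hy) u huS).symm
      have : e2 = f⁻¹ * u := by rw [← hfe]; group
      rw [this]
      exact Subgroup.mul_mem _ (Subgroup.inv_mem _ hfc) huc
    have hle : generalizedFittingSubgroup X ≤ centralizer ({e2} : Set X) := by
      refine hFstar.trans (sup_le (sup_le ?_ ?_) ?_)
      · intro y hy
        rw [Subgroup.mem_centralizer_iff]
        intro z hz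
        rw [Set.mem_singleton_iff] at hz
        rw [hz]
        exact (Subgroup.mem_centralizer_iff.mp h1 y hy).symm
      · intro y hy
        rw [Subgroup.mem_centralizer_iff]
        intro z hz
        rw [Set.mem_singleton_iff] at hz
        rw [hz]
        exact (Subgroup.mem_centralizer_iff.mp h3 y hy).symm
      · intro y hy
        rw [Subgroup.mem_centralizer_iff]
        intro z hz
        rw [Set.mem_singleton_iff] at hz
        rw [hz]
        exact (Subgroup.mem_centralizer_iff.mp h2 y hy).symm
    rw [Subgroup.mem_centralizer_iff]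
    intro y hy
    exact (Subgroup.mem_centralizer_iff.mp (hle hy) e2 (Set.mem_singleton e2)).symm
  have huF : u ∈ fittingSubgroup X := by
    rw [← hfe]
    exact Subgroup.mul_mem _ hf' (hZ he2c)
  -- `u` comes from `F(S)`
  have hu1 : u ∈ (fittingSubgroup ↥S).map S.subtype := by
    rw [hF]; exact ⟨huF, huS⟩
  obtain ⟨u', hu'F, hu'u⟩ := hu1
  -- `e` comes from `E(S)`
  have hE1layer : E1 ≤ (layer ↥S).map S.subtype := by
    apply iSup_le
    rintro ⟨K, hK, hKS⟩
    have hc : IsComponent (K.subgroupOf S) := IsComponent.subgroupOf' hK hKS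
    have : K = (K.subgroupOf S).map S.subtype := (Subgroup.map_subgroupOf_eq_of_le hKS).symm
    show K ≤ _
    rw [this]
    exact Subgroup.map_mono (IsComponent.le_layer hc)
  obtain ⟨e', he'L, he'e⟩ := hE1layer he
  have hs : s = u' * e' := by
    apply Subtype.ext
    rw [Subgroup.coe_mul]
    have h1 : (u' : X) = u := hu'u
    have h2 : (e' : X) = e := he'e
    rw [h1, h2]
    exact hue.symm
  rw [hs]
  exact Subgroup.mul_mem _ ((le_sup_left : fittingSubgroup ↥S ≤ _) hu'F) ((le_sup_right : layer ↥S ≤ _) he'L)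

end Cfsg.Agent.S1318
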