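import Cfsg.Statements.S1320
import Cfsg.Agent.S1318

set_option autoImplicit false
open Cfsg

namespace Cfsg.Agent.S1320

open Subgroup Cfsg.Agent.Lib.Helper22_Layer Cfsg.Agent.Lib.Helper21_Components Cfsg.Agent.Lib.Helper29_Local

/-- the layer of a subnormal subgroup `S ≤ B` lies in the layer of `B` (inside `A`) -/
theorem map_layer_le_map_layer {A : Type*} [Group A] {S B : Subgroup A} (hS : S.IsSubnormal) (hSB : S ≤ B) :
    (layer ↥S).map S.subtype ≤ (layer ↥B).map B.subtype := by
  rw [Subgroup.map_le_iff_le_comap, layer_le_iff]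
  intro K hK
  rw [← Subgroup.map_le_iff_le_comap]
  have h1 : IsComponent (K.map S.subtype) := IsComponent.map_subtype hS hK
  have hKB : K.map S.subtype ≤ B := (Subgroup.map_subtype_le K).trans hSB
  have h2 : IsComponent ((K.map S.subtype).subgroupOf B) := IsComponent.subgroupOf' h1 hKB
  rw [← Subgroup.map_subgroupOf_eq_of_le hKB]
  exact Subgroup.map_mono (IsComponent.le_layer h2)

/-- Let B be a normal subgroup of the finite group A. Then F*(A) ∩ B = F*(B). -/
theorem result {A : Type*} [Group A] [Finite A] (B : Subgroup A) [B.Normal] : Cfsg.generalizedFittingSubgroup A ⊓ B = (Cfsg.generalizedFittingSubgroup ↥B).map B.subtype := by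
  have hBsn : B.IsSubnormal := Subgroup.Normal.isSubnormal inferInstance
  have hFB := Cfsg.Agent.S1318.map_fittingSubgroup_of_isSubnormal B hBsn
  apply le_antisymm
  · set S : Subgroup A := generalizedFittingSubgroup A ⊓ B with hSdef
    have hSn : S.Normal := inferInstance
    have hSsn : S.IsSubnormal := Subgroup.Normal.isSubnormal hSn
    have hS : S ≤ generalizedFittingSubgroup A := inf_le_left
    have hSB : S ≤ B := inf_le_right
    have hsn : (S.subgroupOf (generalizedFittingSubgroup A)).IsSubnormal :=
      Subgroup.Normal.isSubnormal inferInstance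
    obtain ⟨h1, h2⟩ := Cfsg.Agent.S1318.result S hS hsn
    have h3 : S = (fittingSubgroup ↥S ⊔ layer ↥S).map S.subtype := by
      rw [h2, ← MonoidHom.range_eq_map, Subgroup.range_subtype]
    rw [h3, Subgroup.map_sup]
    unfold generalizedFittingSubgroup
    rw [Subgroup.map_sup, sup_comm (Subgroup.map B.subtype (layer ↥B))]
    apply sup_le_sup
    · rw [h1, hFB]
      exact inf_le_inf_left _ hSB
    · exact map_layer_le_map_layer hSsn hSB
  · apply le_inf _ (Subgroup.map_subtype_le _)
    unfold generalizedFittingSubgroup
    rw [Subgroup.map_sup]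
    apply sup_le_sup
    · exact map_layer_subtype_le hBsn
    · rw [hFB]; exact inf_le_left

end Cfsg.Agent.S1320
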