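import Cfsg.Statements.S1321
import Cfsg.Agent.Lib.Helper22_Layer
import Cfsg.Agent.Lib.Helper22_Basic

set_option autoImplicit false
open Cfsg

namespace Cfsg.Agent.S1321

open Cfsg.Agent.Lib.Helper22_Layer Cfsg.Agent.Lib.Helper21_Components Cfsg.Agent.Lib.Helper29_Local
open Cfsg.Agent.Lib.Helper22_Basic

/-- Let X be finite and U ≤ X. Then E(X) is generated by C_{E(X)}(U) together with ⁅E(X), U⁆ (indeed it is their product, ⁅E(X), U⁆ being normal in E(X)). -/
theorem result {X : Type*} [Group X] [Finite X] (U : Subgroup X) : Cfsg.layer X = (Cfsg.layer X ⊓ Subgroup.centralizer (U : Set X)) ⊔ ⁅Cfsg.layer X, U⁆ ∧ ⁅Cfsg.layer X, U⁆ ≤ Cfsg.layer X := by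
  have hle : ⁅Cfsg.layer X, U⁆ ≤ Cfsg.layer X := Subgroup.commutator_le_left _ _
  refine ⟨?_, hle⟩
  apply le_antisymm
  · rw [layer_le_iff]
    intro L hL
    -- N = ⁅E, U⁆ is subnormal
    have hN : (⁅Cfsg.layer X, U⁆ : Subgroup X).IsSubnormal := by
      have hn : ((⁅Cfsg.layer X, U⁆ : Subgroup X).subgroupOf (Cfsg.layer X)).Normal := by
        rw [Subgroup.normal_subgroupOf_iff_le_normalizer hle]
        exact le_normalizer_commutator_left _ _
      exact Subgroup.IsSubnormal.trans hle hn.isSubnormal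
        (Subgroup.Normal.isSubnormal (inferInstance : (Cfsg.layer X).Normal))
    rcases IsComponent.le_or_commutator_eq_bot hL hN with h | h
    · exact h.trans le_sup_right
    · have h1 : ⁅⁅U, L⁆, L⁆ = ⊥ := by
        rw [eq_bot_iff, ← h, Subgroup.commutator_comm L]
        apply Subgroup.commutator_mono _ le_rfl
        rw [Subgroup.commutator_comm U L]
        exact Subgroup.commutator_mono (IsComponent.le_layer hL) le_rfl
      have h2 : ⁅L, U⁆ = ⊥ := commutator_eq_bot_of_perfect (IsComponent.commutator_self hL) h1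
      rw [Subgroup.commutator_eq_bot_iff_le_centralizer] at h2
      exact (le_inf (IsComponent.le_layer hL) h2).trans le_sup_left
  · exact sup_le inf_le_left hle

end Cfsg.Agent.S1321
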