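import Cfsg.Statements.S1323
import Mathlib

set_option autoImplicit false
open Cfsg

namespace Cfsg.Agent.S1323


open Equiv Equiv.Perm
open scoped commutatorElement

variable {n : ℕ}

theorem inv_app {α : Type*} (f : Perm α) (x : α) : f⁻¹ (f x) = x := by simp

theorem app_inv {α : Type*} (f : Perm α) (x : α) : f (f⁻¹ x) = x := by simp

/-- fixes the first four points -/
def FixS (σ : Perm (Fin n)) : Prop := ∀ x : Fin n, x.val < 4 → σ x = x
/-- fixes the remaining points -/
def FixT (σ : Perm (Fin n)) : Prop := ∀ x : Fin n, 4 ≤ x.val → σ x = x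
/-- maps the first four points to themselves -/
def MapS (σ : Perm (Fin n)) : Prop := ∀ x : Fin n, x.val < 4 → (σ x).val < 4
/-- maps the remaining points to themselves -/
def MapT (σ : Perm (Fin n)) : Prop := ∀ x : Fin n, 4 ≤ x.val → 4 ≤ (σ x).val

theorem MapS.inv {σ : Perm (Fin n)} (h : MapS σ) : MapS σ⁻¹ := by
  intro x hx
  exact perm_symm_on_of_perm_on_finite (p := fun x : Fin n => x.val < 4) h hx

theorem MapT.inv {σ : Perm (Fin n)} (h : MapT σ) : MapT σ⁻¹ := by
  intro x hx
  exact perm_symm_on_of_perm_on_finite (p := fun x : Fin n => 4 ≤ x.val) h hx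

theorem MapS.mapT {σ : Perm (Fin n)} (h : MapS σ) : MapT σ := by
  intro x hx
  by_contra hc
  push Not at hc
  have := h.inv (σ x) hc
  rw [inv_app] at this
  omega

theorem MapT.mapS {σ : Perm (Fin n)} (h : MapT σ) : MapS σ := by
  intro x hx
  by_contra hc
  push Not at hc
  have := h.inv (σ x) hc
  rw [inv_app] at this
  omega

theorem FixS.mapS {σ : Perm (Fin n)} (h : FixS σ) : MapS σ := by
  intro x hx; rw [h x hx]; exact hx

theorem FixT.mapT {σ : Perm (Fin n)} (h : FixT σ) : MapT σ := by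
  intro x hx; rw [h x hx]; exact hx

theorem FixS.inv {σ : Perm (Fin n)} (h : FixS σ) : FixS σ⁻¹ := by
  intro x hx
  rw [inv_eq_iff_eq, h x hx]

theorem FixT.inv {σ : Perm (Fin n)} (h : FixT σ) : FixT σ⁻¹ := by
  intro x hx
  rw [inv_eq_iff_eq, h x hx]

/-- permutations fixing complementary sets commute -/
theorem comm_of_fix {σ τ : Perm (Fin n)} (hσ : FixT σ) (hτ : FixS τ) : σ * τ = τ * σ := by
  have : Perm.Disjoint σ τ := by
    intro x
    by_cases hx : x.val < 4
    · right; exact hτ x hx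
    · left; exact hσ x (by omega)
  exact this.commute

/-- the three-cycle `a ↦ b ↦ c ↦ a` -/
def cyc3 (a b c : Fin n) : Perm (Fin n) := swap a b * swap b c

theorem cyc3_fst {a b c : Fin n} (hab : a ≠ b) (hac : a ≠ c) : cyc3 a b c a = b := by
  rw [cyc3, Perm.mul_apply, swap_apply_of_ne_of_ne hab hac, swap_apply_left]

theorem cyc3_snd {a b c : Fin n} (hac : a ≠ c) (hbc : b ≠ c) : cyc3 a b c b = c := by
  rw [cyc3, Perm.mul_apply, swap_apply_left, swap_apply_of_ne_of_ne hac.symm hbc.symm]

theorem cyc3_trd {a b c : Fin n} : cyc3 a b c c = a := by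
  rw [cyc3, Perm.mul_apply, swap_apply_right, swap_apply_right]

theorem cyc3_of_ne {a b c z : Fin n} (ha : z ≠ a) (hb : z ≠ b) (hc : z ≠ c) : cyc3 a b c z = z := by
  rw [cyc3, Perm.mul_apply, swap_apply_of_ne_of_ne hb hc, swap_apply_of_ne_of_ne ha hb]

theorem sign_cyc3 {a b c : Fin n} (hab : a ≠ b) (hbc : b ≠ c) : Perm.sign (cyc3 a b c) = 1 := by
  rw [cyc3, map_mul, sign_swap hab, sign_swap hbc]
  rfl

theorem fixS_cyc3 {a b c : Fin n} (ha : 4 ≤ a.val) (hb : 4 ≤ b.val) (hc : 4 ≤ c.val) :
    FixS (cyc3 a b c) := by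
  intro x hx
  apply cyc3_of_ne
  · intro h; rw [h] at hx; omega
  · intro h; rw [h] at hx; omega
  · intro h; rw [h] at hx; omega

/-- there is a point `≥ 4` outside any set of at most four points -/
theorem exists_ge_four (hn : 9 ≤ n) (s : Finset (Fin n)) (hs : s.card ≤ 4) :
    ∃ x : Fin n, 4 ≤ x.val ∧ x ∉ s := by
  by_contra hc
  push Not at hc
  -- the five points 4,...,8 all lie in s
  let f : Fin 5 → Fin n := fun i => ⟨4 + i.val, by omega⟩
  have hf : Function.Injective f := by
    intro i j hij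
    have := congrArg Fin.val hij
    simp only [f] at this
    exact Fin.ext (by omega)
  have hsub : Finset.univ.image f ⊆ s := by
    intro x hx
    rw [Finset.mem_image] at hx
    obtain ⟨i, -, rfl⟩ := hx
    exact hc _ (by simp [f])
  have := Finset.card_le_card hsub
  rw [Finset.card_image_of_injective _ hf, Finset.card_univ, Fintype.card_fin] at this
  omega

/-- the pointwise stabilizer of the first four points -/
abbrev Lsub (h4 : 4 ≤ n) : Subgroup ↥(alternatingGroup (Fin n)) :=
  ⨅ i : Fin 4, MulAction.stabilizer ↥(alternatingGroup (Fin n)) (Fin.castLE h4 i : Fin n)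

theorem mem_L (h4 : 4 ≤ n) (σ : ↥(alternatingGroup (Fin n))) : σ ∈ Lsub h4 ↔ FixS σ.1 := by
  rw [Subgroup.mem_iInf]
  simp only [MulAction.mem_stabilizer_iff]
  constructor
  · intro h x hx
    have := h ⟨x.val, hx⟩
    have hx' : Fin.castLE h4 ⟨x.val, hx⟩ = x := Fin.ext rfl
    rw [hx'] at this
    exact this
  · intro h i
    exact h _ (by rw [Fin.val_castLE]; exact i.2)

/-- a three-cycle on points `≥ 4`, as an element of `L` -/
def cycL (a b c : Fin n) (hab : a ≠ b) (hbc : b ≠ c) : ↥(alternatingGroup (Fin n)) :=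
  ⟨cyc3 a b c, Perm.mem_alternatingGroup.mpr (sign_cyc3 hab hbc)⟩

theorem cycL_mem (h4 : 4 ≤ n) {a b c : Fin n} (hab : a ≠ b) (hbc : b ≠ c)
    (ha : 4 ≤ a.val) (hb : 4 ≤ b.val) (hc : 4 ≤ c.val) : cycL a b c hab hbc ∈ Lsub h4 :=
  (mem_L h4 _).mpr (fixS_cyc3 ha hb hc)

/-- for every point `x ≥ 4` there is an element of `L` moving it -/
theorem exists_L_moving (h4 : 4 ≤ n) (hn : 9 ≤ n) (x : Fin n) (hx : 4 ≤ x.val) :
    ∃ τ ∈ Lsub h4, τ.1 x ≠ x := by
  obtain ⟨a, ha4, ha⟩ := exists_ge_four hn {x} (by simp)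
  obtain ⟨b, hb4, hb⟩ := exists_ge_four hn {x, a} (by
    exact le_trans (Finset.card_insert_le _ _) (by simp))
  simp only [Finset.mem_insert, Finset.mem_singleton, not_or] at ha hb
  have hxa : x ≠ a := fun h => ha h.symm
  have hab : a ≠ b := fun h => hb.2 h.symm
  refine ⟨cycL x a b hxa hab, cycL_mem h4 hxa hab hx ha4 hb4, ?_⟩
  show cyc3 x a b x ≠ x
  rw [cyc3_fst hxa (fun h => hb.1 h.symm)]
  exact hxa.symm

theorem mem_centralizer_L (h4 : 4 ≤ n) (hn : 9 ≤ n) (σ : ↥(alternatingGroup (Fin n))) :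
    σ ∈ Subgroup.centralizer (Lsub h4 : Set ↥(alternatingGroup (Fin n))) ↔ FixT σ.1 := by
  constructor
  · intro hσ x hx
    by_contra hne
    obtain ⟨a, ha4, ha⟩ := exists_ge_four hn {x, σ.1 x} (by
      exact le_trans (Finset.card_insert_le _ _) (by simp))
    obtain ⟨b, hb4, hb⟩ := exists_ge_four hn {x, σ.1 x, a} (by
      refine le_trans (Finset.card_insert_le _ _) ?_
      have := Finset.card_insert_le (σ.1 x) {a}
      simp at this ⊢
      omega)
    simp only [Finset.mem_insert, Finset.mem_singleton, not_or] at ha hb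
    have hxa : x ≠ a := fun h => ha.1 h.symm
    have hab : a ≠ b := fun h => hb.2.2 h.symm
    have hxb : x ≠ b := fun h => hb.1 h.symm
    have hcomm := (Subgroup.mem_centralizer_iff.mp hσ) _ (cycL_mem h4 hxa hab hx ha4 hb4)
    have h1 := congrArg (fun g : ↥(alternatingGroup (Fin n)) => g.1 x) hcomm
    simp only [Subgroup.coe_mul, Perm.mul_apply] at h1
    change cyc3 x a b (σ.1 x) = σ.1 (cyc3 x a b x) at h1
    rw [cyc3_fst hxa hxb, cyc3_of_ne hne (fun h => ha.2 h.symm) (fun h => hb.2.1 h.symm)] at h1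
    exact hxa (σ.1.injective h1)
  · intro hσ
    rw [Subgroup.mem_centralizer_iff]
    intro τ hτ
    apply Subtype.ext
    rw [Subgroup.coe_mul, Subgroup.coe_mul]
    exact (comm_of_fix hσ ((mem_L h4 τ).mp hτ)).symm

/-- conjugation formula -/
theorem conj_apply' (g h : ↥(alternatingGroup (Fin n))) (x : Fin n) :
    (g * h * g⁻¹).1 x = g.1 (h.1 (g.1⁻¹ x)) := by
  rw [Subgroup.coe_mul, Subgroup.coe_mul, Subgroup.coe_inv, Perm.mul_apply, Perm.mul_apply]

theorem mem_normalizer_L (h4 : 4 ≤ n) (hn : 9 ≤ n) (g : ↥(alternatingGroup (Fin n))) :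
    g ∈ Subgroup.normalizer (Lsub h4 : Set ↥(alternatingGroup (Fin n))) ↔ MapS g.1 := by
  -- first: membership implies `MapS g⁻¹`
  have key : ∀ g : ↥(alternatingGroup (Fin n)),
      g ∈ Subgroup.normalizer (Lsub h4 : Set ↥(alternatingGroup (Fin n))) → MapS g.1⁻¹ := by
    intro g hg s hs
    by_contra hc
    push Not at hc
    obtain ⟨τ, hτL, hτ⟩ := exists_L_moving h4 hn (g.1⁻¹ s) hc
    have h1 := (Subgroup.mem_normalizer_iff.mp hg τ).mp hτL
    have h2 := (mem_L h4 _).mp h1 s hs
    rw [conj_apply'] at h2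
    apply hτ
    have := congrArg (fun y => g.1⁻¹ y) h2
    simp only [inv_app] at this
    exact this
  constructor
  · intro hg
    have := key g⁻¹ (Subgroup.inv_mem _ hg)
    rwa [Subgroup.coe_inv, inv_inv] at this
  · intro hg
    rw [Subgroup.mem_normalizer_iff]
    intro h
    constructor
    · intro hh
      rw [mem_L] at hh ⊢
      intro x hx
      rw [conj_apply', hh _ (hg.inv x hx), app_inv]
    · intro hh
      rw [mem_L] at hh ⊢
      intro x hx
      have := hh (g.1 x) (hg x hx)
      rw [conj_apply', inv_app] at this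
      exact g.1.injective this

/-! ### the centralizer -/

set_option maxRecDepth 100000 in
theorem perm4_fact : ∀ f : Perm (Fin 4), Perm.sign f = 1 → f * f = 1 → (∃ i, f i = i) → f = 1 := by
  decide

/-- the first four points, as a type equivalent to `Fin 4` -/
def e4 (h4 : 4 ≤ n) : {x : Fin n // x.val < 4} ≃ Fin 4 where
  toFun x := ⟨x.1.val, x.2⟩
  invFun i := ⟨Fin.castLE h4 i, by rw [Fin.val_castLE]; exact i.2⟩
  left_inv x := by
    apply Subtype.ext
    apply Fin.ext
    rfl
  right_inv i := by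
    apply Fin.ext
    rfl

/-- an even involution fixing all points `≥ 4` and one further point is trivial -/
theorem eq_one_of_fix (h4 : 4 ≤ n) (f : Perm (Fin n)) (hs : Perm.sign f = 1) (h2 : f * f = 1)
    (hT : FixT f) (s : Fin n) (hs4 : s.val < 4) (hfs : f s = s) : f = 1 := by
  have hM : MapS f := hT.mapT.mapS
  have h₁ : ∀ x : Fin n, (f x).val < 4 ↔ x.val < 4 := by
    intro x
    constructor
    · intro hx
      by_contra hc
      push Not at hc
      rw [hT x hc] at hx
      omega
    · exact hM x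
  have h₂ : ∀ x : Fin n, f x ≠ x → x.val < 4 := by
    intro x hx
    by_contra hc
    push Not at hc
    exact hx (hT x hc)
  set f' : Perm {x : Fin n // x.val < 4} :=
    Perm.subtypePerm (p := fun x : Fin n => x.val < 4) f h₁ with hf'
  have hs' : Perm.sign f' = 1 := by rw [hf', Perm.sign_subtypePerm (p := fun x : Fin n => x.val < 4) f h₁ h₂, hs]
  have h2' : f' * f' = 1 := by
    ext x
    rw [Perm.mul_apply, hf', Perm.subtypePerm_apply, Perm.subtypePerm_apply]
    simp only [Perm.coe_one, id_eq]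
    have := congrArg (fun g : Perm (Fin n) => g x.1) h2
    simp only [Perm.mul_apply, Perm.coe_one, id_eq] at this
    rw [this]
  have key := perm4_fact ((e4 h4).permCongr f') (by rw [Perm.sign_permCongr, hs'])
    (by
      ext i
      simp only [Perm.mul_apply, Equiv.permCongr_apply, Equiv.symm_apply_apply, Perm.coe_one, id_eq]
      have := congrArg (fun g : Perm _ => g ((e4 h4).symm i)) h2'
      simp only [Perm.mul_apply, Perm.coe_one, id_eq] at this
      rw [this, Equiv.apply_symm_apply])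
    ⟨e4 h4 ⟨s, hs4⟩, by
      rw [Equiv.permCongr_apply, Equiv.symm_apply_apply, hf', Perm.subtypePerm_apply]
      congr 1
      exact Subtype.ext hfs⟩
  have hf1 : f' = 1 := by
    ext x
    have := congrArg (fun g : Perm (Fin 4) => g (e4 h4 x)) key
    simp only [Equiv.permCongr_apply, Equiv.symm_apply_apply, Perm.coe_one, id_eq] at this
    have := (e4 h4).injective this
    rw [this]
    rfl
  ext x
  by_cases hx : x.val < 4
  · have := congrArg (fun g : Perm _ => (g ⟨x, hx⟩).1) hf1
    simp only [hf', Perm.subtypePerm_apply, Perm.coe_one, id_eq] at this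
    rw [this]
    rfl
  · rw [hT x (by omega)]
    rfl

/-- the double transposition `(0 1)(2 3)` -/
def iota (h4 : 4 ≤ n) : ↥(alternatingGroup (Fin n)) :=
  ⟨swap (⟨0, by omega⟩ : Fin n) ⟨1, by omega⟩ * swap (⟨2, by omega⟩ : Fin n) ⟨3, by omega⟩, by
    rw [Perm.mem_alternatingGroup, map_mul, sign_swap, sign_swap]
    · rfl
    · intro h; have := congrArg Fin.val h; simp at this
    · intro h; have := congrArg Fin.val h; simp at this⟩

theorem iota_fixT (h4 : 4 ≤ n) : FixT (iota h4).1 := by
  intro x hx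
  show (swap (⟨0, by omega⟩ : Fin n) ⟨1, by omega⟩ * swap (⟨2, by omega⟩ : Fin n) ⟨3, by omega⟩) x = x
  have h1 : swap (⟨2, by omega⟩ : Fin n) ⟨3, by omega⟩ x = x := by
    apply swap_apply_of_ne_of_ne <;>
    · intro h; rw [h] at hx; simp at hx
  rw [Perm.mul_apply, h1]
  apply swap_apply_of_ne_of_ne <;>
  · intro h; rw [h] at hx; simp at hx

theorem iota_moves (h4 : 4 ≤ n) (s : Fin n) (hs : s.val < 4) : (iota h4).1 s ≠ s := by
  show (swap (⟨0, by omega⟩ : Fin n) ⟨1, by omega⟩ * swap (⟨2, by omega⟩ : Fin n) ⟨3, by omega⟩) s ≠ s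
  rw [Perm.mul_apply]
  have h01 : (⟨0, by omega⟩ : Fin n) ≠ ⟨1, by omega⟩ := by
    intro h; have := congrArg Fin.val h; simp at this
  have h23 : (⟨2, by omega⟩ : Fin n) ≠ ⟨3, by omega⟩ := by
    intro h; have := congrArg Fin.val h; simp at this
  have hcases : s = ⟨0, by omega⟩ ∨ s = ⟨1, by omega⟩ ∨ s = ⟨2, by omega⟩ ∨ s = ⟨3, by omega⟩ := by
    have : s.val = 0 ∨ s.val = 1 ∨ s.val = 2 ∨ s.val = 3 := by omega
    rcases this with h | h | h | h
    · left; exact Fin.ext h
    · right; left; exact Fin.ext h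
    · right; right; left; exact Fin.ext h
    · right; right; right; exact Fin.ext h
  have ne : ∀ (i j : ℕ) (hi : i < n) (hj : j < n), i ≠ j → (⟨i, hi⟩ : Fin n) ≠ ⟨j, hj⟩ := by
    intro i j hi hj hij h
    exact hij (congrArg Fin.val h)
  rcases hcases with h | h | h | h <;> rw [h]
  · have e : swap (⟨2, by omega⟩ : Fin n) ⟨3, by omega⟩ ⟨0, by omega⟩ = ⟨0, by omega⟩ :=
      swap_apply_of_ne_of_ne (ne _ _ _ _ (by omega)) (ne _ _ _ _ (by omega))
    rw [e, swap_apply_left]
    exact h01.symm
  · have e : swap (⟨2, by omega⟩ : Fin n) ⟨3, by omega⟩ ⟨1, by omega⟩ = ⟨1, by omega⟩ :=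
      swap_apply_of_ne_of_ne (ne _ _ _ _ (by omega)) (ne _ _ _ _ (by omega))
    rw [e, swap_apply_right]
    exact h01
  · rw [swap_apply_left, swap_apply_of_ne_of_ne (ne _ _ _ _ (by omega)) (ne _ _ _ _ (by omega))]
    exact h23.symm
  · rw [swap_apply_right, swap_apply_of_ne_of_ne (ne _ _ _ _ (by omega)) (ne _ _ _ _ (by omega))]
    exact h23

theorem mem_normalizer_C (h4 : 4 ≤ n) (hn : 9 ≤ n) (g : ↥(alternatingGroup (Fin n))) :
    g ∈ Subgroup.normalizer
      (Subgroup.centralizer (Lsub h4 : Set ↥(alternatingGroup (Fin n))) :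
        Set ↥(alternatingGroup (Fin n))) ↔ MapS g.1 := by
  have key : ∀ g : ↥(alternatingGroup (Fin n)),
      g ∈ Subgroup.normalizer
        (Subgroup.centralizer (Lsub h4 : Set ↥(alternatingGroup (Fin n))) :
          Set ↥(alternatingGroup (Fin n))) → MapT g.1⁻¹ := by
    intro g hg t ht
    by_contra hc
    push Not at hc
    have h1 := (Subgroup.mem_normalizer_iff.mp hg (iota h4)).mp
      ((mem_centralizer_L h4 hn _).mpr (iota_fixT h4))
    have h2 := (mem_centralizer_L h4 hn _).mp h1 t ht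
    rw [conj_apply'] at h2
    apply iota_moves h4 (g.1⁻¹ t) hc
    have := congrArg (fun y => g.1⁻¹ y) h2
    simp only [inv_app] at this
    exact this
  constructor
  · intro hg
    have := key g⁻¹ (Subgroup.inv_mem _ hg)
    rw [Subgroup.coe_inv, inv_inv] at this
    exact this.mapS
  · intro hg
    have hgT : MapT g.1 := hg.mapT
    rw [Subgroup.mem_normalizer_iff]
    intro h
    constructor
    · intro hh
      rw [mem_centralizer_L h4 hn] at hh ⊢
      intro x hx
      rw [conj_apply', hh _ (hgT.inv x hx), app_inv]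
    · intro hh
      rw [mem_centralizer_L h4 hn] at hh ⊢
      intro x hx
      have := hh (g.1 x) (hgT x hx)
      rw [conj_apply', inv_app] at this
      exact g.1.injective this

theorem tightly (h4 : 4 ≤ n) (hn : 9 ≤ n) :
    IsTightlyEmbedded (Subgroup.centralizer (Lsub h4 : Set ↥(alternatingGroup (Fin n)))) := by
  constructor
  · -- even order
    have hmem : iota h4 ∈ Subgroup.centralizer (Lsub h4 : Set ↥(alternatingGroup (Fin n))) :=
      (mem_centralizer_L h4 hn _).mpr (iota_fixT h4)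
    have hne : iota h4 ≠ 1 := by
      intro h
      have := iota_moves h4 ⟨0, by omega⟩ (by simp)
      rw [h] at this
      exact this rfl
    have hsq : iota h4 * iota h4 = 1 := by
      apply Subtype.ext
      rw [Subgroup.coe_mul]
      show (swap (⟨0, by omega⟩ : Fin n) ⟨1, by omega⟩ * swap (⟨2, by omega⟩ : Fin n) ⟨3, by omega⟩) *
        (swap (⟨0, by omega⟩ : Fin n) ⟨1, by omega⟩ * swap (⟨2, by omega⟩ : Fin n) ⟨3, by omega⟩) = 1
      have hd : Perm.Disjoint (swap (⟨0, by omega⟩ : Fin n) ⟨1, by omega⟩)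
          (swap (⟨2, by omega⟩ : Fin n) ⟨3, by omega⟩) := by
        intro x
        by_cases hx : x = ⟨2, by omega⟩ ∨ x = ⟨3, by omega⟩
        · left
          rcases hx with rfl | rfl <;>
          · apply swap_apply_of_ne_of_ne <;>
            · intro h; have := congrArg Fin.val h; simp at this
        · right
          push Not at hx
          exact swap_apply_of_ne_of_ne hx.1 hx.2
      rw [hd.commute.symm.mul_mul_mul_comm, swap_mul_self, swap_mul_self, one_mul]
    have : Fact (Nat.Prime 2) := ⟨Nat.prime_two⟩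
    have hord : orderOf (⟨iota h4, hmem⟩ :
        Subgroup.centralizer (Lsub h4 : Set ↥(alternatingGroup (Fin n)))) = 2 := by
      apply orderOf_eq_prime
      · apply Subtype.ext
        rw [pow_two]
        exact hsq
      · intro h
        exact hne (congrArg Subtype.val h)
    have := orderOf_dvd_natCard (⟨iota h4, hmem⟩ :
      Subgroup.centralizer (Lsub h4 : Set ↥(alternatingGroup (Fin n))))
    rw [hord] at this
    exact even_iff_two_dvd.mpr this
  · intro g hg
    rw [mem_normalizer_C h4 hn] at hg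
    -- some point `t ≥ 4` is mapped below 4
    have hT : ¬ MapT g.1 := fun h => hg h.mapS
    unfold MapT at hT
    push Not at hT
    obtain ⟨t, ht, hgt⟩ := hT
    rw [← Nat.not_even_iff_odd]
    intro hev
    have : Fact (Nat.Prime 2) := ⟨Nat.prime_two⟩
    obtain ⟨h, hh⟩ := exists_prime_orderOf_dvd_card' (G := ↥(Subgroup.centralizer
      (Lsub h4 : Set ↥(alternatingGroup (Fin n))) ⊓ (Subgroup.centralizer
      (Lsub h4 : Set ↥(alternatingGroup (Fin n)))).map (MulAut.conj g).toMonoidHom)) 2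
      (even_iff_two_dvd.mp hev)
    have hne : h ≠ 1 := by
      intro h1
      rw [h1, orderOf_one] at hh
      omega
    have hsq : h ^ 2 = 1 := by rw [← hh]; exact pow_orderOf_eq_one h
    obtain ⟨hC, hCg⟩ := h.2
    have hfT : FixT h.1.1 := (mem_centralizer_L h4 hn _).mp hC
    obtain ⟨σ, hσ, hσh⟩ := hCg
    have hσT : FixT σ.1 := (mem_centralizer_L h4 hn _).mp hσ
    have hfix : h.1.1 (g.1 t) = g.1 t := by
      rw [← hσh]
      show (g * σ * g⁻¹).1 (g.1 t) = g.1 t
      rw [conj_apply', inv_app, hσT t ht]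
    have hone : h.1.1 = 1 := by
      apply eq_one_of_fix h4 h.1.1 (Perm.mem_alternatingGroup.mp h.1.2) ?_ hfT (g.1 t) hgt hfix
      have h3 : h * h = 1 := by rw [← pow_two]; exact hsq
      exact congrArg (fun k => k.1.1) h3
    apply hne
    apply Subtype.ext
    apply Subtype.ext
    exact hone

/-! ### non-commuting conjugates -/

theorem exists_noncomm (h4 : 4 ≤ n) (hn : 9 ≤ n) (g : ↥(alternatingGroup (Fin n))) :
    ∃ x ∈ Lsub h4, ∃ y ∈ (Lsub h4).map (MulAut.conj g).toMonoidHom, x * y ≠ y * x := by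
  classical
  -- a point `a' ≥ 4` with `g a' ≥ 4`
  obtain ⟨a', ha'4, ha'⟩ := exists_ge_four hn
    (Finset.univ.image (fun i : Fin 4 => g.1⁻¹ (Fin.castLE h4 i))) (by
      refine le_trans Finset.card_image_le ?_
      simp)
  have hga' : 4 ≤ (g.1 a').val := by
    by_contra hc
    push Not at hc
    apply ha'
    rw [Finset.mem_image]
    refine ⟨⟨(g.1 a').val, hc⟩, Finset.mem_univ _, ?_⟩
    have : Fin.castLE h4 ⟨(g.1 a').val, hc⟩ = g.1 a' := Fin.ext rfl
    rw [this, inv_app]
  obtain ⟨d', hd'4, hd'⟩ := exists_ge_four hn {a'} (by simp)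
  obtain ⟨e', he'4, he'⟩ := exists_ge_four hn {a', d'} (by
    exact le_trans (Finset.card_insert_le _ _) (by simp))
  simp only [Finset.mem_insert, Finset.mem_singleton, not_or] at hd' he'
  have had' : a' ≠ d' := fun h => hd' h.symm
  have hde' : d' ≠ e' := fun h => he'.2 h.symm
  have hae' : a' ≠ e' := fun h => he'.1 h.symm
  obtain ⟨b, hb4, hb⟩ := exists_ge_four hn {g.1 a', g.1 d', g.1 e'} (by
    refine le_trans (Finset.card_insert_le _ _) ?_
    have := Finset.card_insert_le (g.1 d') {g.1 e'}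
    simp at this ⊢
    omega)
  obtain ⟨c, hc4, hc⟩ := exists_ge_four hn {g.1 a', b} (by
    exact le_trans (Finset.card_insert_le _ _) (by simp))
  simp only [Finset.mem_insert, Finset.mem_singleton, not_or] at hb hc
  have hab : g.1 a' ≠ b := fun h => hb.1 h.symm
  have hbc : b ≠ c := fun h => hc.2 h.symm
  have hac : g.1 a' ≠ c := fun h => hc.1 h.symm
  refine ⟨cycL (g.1 a') b c hab hbc, cycL_mem h4 hab hbc hga' hb4 hc4,
    g * cycL a' d' e' had' hde' * g⁻¹,
    ⟨cycL a' d' e' had' hde', cycL_mem h4 had' hde' ha'4 hd'4 he'4, rfl⟩, ?_⟩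
  intro hcomm
  have h1 := congrArg (fun k : ↥(alternatingGroup (Fin n)) => k.1 (g.1 a')) hcomm
  simp only [Subgroup.coe_mul, Perm.mul_apply] at h1
  -- left side: x (y a) = x d ; right side: y (x a) = y b = b
  have hy_a : (g * cycL a' d' e' had' hde' * g⁻¹).1 (g.1 a') = g.1 d' := by
    rw [conj_apply', inv_app]
    show g.1 (cyc3 a' d' e' a') = g.1 d'
    rw [cyc3_fst had' hae']
  have hx_a : (cycL (g.1 a') b c hab hbc).1 (g.1 a') = b := cyc3_fst hab hac
  have hy_b : (g * cycL a' d' e' had' hde' * g⁻¹).1 b = b := by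
    rw [conj_apply']
    show g.1 (cyc3 a' d' e' (g.1⁻¹ b)) = b
    rw [cyc3_of_ne, app_inv]
    · intro h; apply hb.1; rw [← h, app_inv]
    · intro h; apply hb.2.1; rw [← h, app_inv]
    · intro h; apply hb.2.2; rw [← h, app_inv]
  have h1' : (cycL (g.1 a') b c hab hbc).1 ((g * cycL a' d' e' had' hde' * g⁻¹).1 (g.1 a')) =
      (g * cycL a' d' e' had' hde' * g⁻¹).1 ((cycL (g.1 a') b c hab hbc).1 (g.1 a')) := h1
  rw [hy_a, hx_a, hy_b] at h1'
  -- `x (g d') = b = x (g a')`
  have := (cycL (g.1 a') b c hab hbc).1.injective (h1'.trans hx_a.symm)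
  exact had' (g.1.injective this).symm

/-! ### quasisimplicity -/

theorem qs_of_simple {K : Type*} [Group K] [IsSimpleGroup K] (hna : ∃ x y : K, x * y ≠ y * x) :
    IsQuasisimple K := by
  obtain ⟨x, y, hxy⟩ := hna
  have hc : Subgroup.center K = ⊥ := by
    rcases (inferInstance : (Subgroup.center K).Normal).eq_bot_or_eq_top with h | h
    · exact h
    · exfalso
      apply hxy
      have : x ∈ Subgroup.center K := by rw [h]; trivial
      exact (Subgroup.mem_center_iff.mp this y).symm
  have hp : commutator K = ⊤ := by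
    rcases (inferInstance : (commutator K).Normal).eq_bot_or_eq_top with h | h
    · exfalso
      apply hxy
      have : ⁅x, y⁆ ∈ commutator K :=
        Subgroup.commutator_mem_commutator (Subgroup.mem_top x) (Subgroup.mem_top y)
      rw [h, Subgroup.mem_bot] at this
      exact commutatorElement_eq_one_iff_mul_comm.mp this
    · exact h
  refine ⟨Group.isPerfect_def.mpr hp, ?_⟩
  have e : K ⧸ Subgroup.center K ≃* K :=
    (QuotientGroup.quotientMulEquivOfEq hc).trans QuotientGroup.quotientBot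
  exact e.isSimpleGroup

/-- the embedding of the alternating group on the points `≥ 4` -/
def phi (n : ℕ) : alternatingGroup {x : Fin n // 4 ≤ x.val} →* ↥(alternatingGroup (Fin n)) :=
  ((Perm.ofSubtype : Perm {x : Fin n // 4 ≤ x.val} →* Perm (Fin n)).comp
    (alternatingGroup {x : Fin n // 4 ≤ x.val}).subtype).codRestrict (alternatingGroup (Fin n))
    (fun σ => by
      rw [Perm.mem_alternatingGroup]
      show Perm.sign (Perm.ofSubtype σ.1) = 1
      rw [Perm.sign_ofSubtype]
      exact Perm.mem_alternatingGroup.mp σ.2)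

theorem phi_coe (σ : alternatingGroup {x : Fin n // 4 ≤ x.val}) :
    (phi n σ).1 = Perm.ofSubtype σ.1 := rfl

theorem phi_injective : Function.Injective (phi n) := by
  intro σ τ h
  have := congrArg Subtype.val h
  rw [phi_coe, phi_coe] at this
  exact Subtype.ext (Perm.ofSubtype_injective this)

theorem phi_range (h4 : 4 ≤ n) : (phi n).range = Lsub h4 := by
  ext τ
  rw [mem_L]
  constructor
  · rintro ⟨σ, rfl⟩ x hx
    rw [phi_coe]
    exact Perm.ofSubtype_apply_of_not_mem _ (by omega)
  · intro hτ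
    have hM : MapT τ.1 := hτ.mapS.mapT
    have h₁ : ∀ x : Fin n, 4 ≤ (τ.1 x).val ↔ 4 ≤ x.val := by
      intro x
      constructor
      · intro hx
        by_contra hc
        push Not at hc
        rw [hτ x hc] at hx
        omega
      · exact hM x
    have h₂ : ∀ x : Fin n, τ.1 x ≠ x → 4 ≤ x.val := by
      intro x hx
      by_contra hc
      push Not at hc
      exact hx (hτ x hc)
    have hsign : Perm.sign (Perm.subtypePerm (p := fun x : Fin n => 4 ≤ x.val) τ.1 h₁) = 1 := by
      rw [Perm.sign_subtypePerm (p := fun x : Fin n => 4 ≤ x.val) τ.1 h₁ h₂]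
      exact Perm.mem_alternatingGroup.mp τ.2
    refine ⟨⟨Perm.subtypePerm (p := fun x : Fin n => 4 ≤ x.val) τ.1 h₁,
      Perm.mem_alternatingGroup.mpr hsign⟩, ?_⟩
    apply Subtype.ext
    rw [phi_coe]
    exact Perm.ofSubtype_subtypePerm (p := fun x : Fin n => 4 ≤ x.val) h₁ h₂

theorem quasisimple_L (h4 : 4 ≤ n) (hn : 9 ≤ n) : IsQuasisimple ↥(Lsub h4) := by
  have hcard : 5 ≤ Nat.card {x : Fin n // 4 ≤ x.val} := by
    rw [Nat.card_eq_fintype_card]
    let f : Fin 5 → {x : Fin n // 4 ≤ x.val} := fun i => ⟨⟨4 + i.val, by omega⟩, by simp⟩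
    have hf : Function.Injective f := by
      intro i j hij
      have := congrArg (fun x : {x : Fin n // 4 ≤ x.val} => x.1.val) hij
      simp only [f] at this
      exact Fin.ext (by omega)
    have := Fintype.card_le_of_injective f hf
    rwa [Fintype.card_fin] at this
  have hsimple : IsSimpleGroup (alternatingGroup {x : Fin n // 4 ≤ x.val}) :=
    alternatingGroup.isSimpleGroup hcard
  let e : alternatingGroup {x : Fin n // 4 ≤ x.val} ≃* ↥(Lsub h4) :=
    (MonoidHom.ofInjective phi_injective).trans (MulEquiv.subgroupCongr (phi_range h4))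
  have : IsSimpleGroup ↥(Lsub h4) := e.symm.isSimpleGroup
  apply qs_of_simple
  obtain ⟨x, hx, y, hy, hxy⟩ := exists_noncomm h4 hn 1
  have hy' : y ∈ Lsub h4 := by
    obtain ⟨y', hy', rfl⟩ := hy
    simpa using hy'
  refine ⟨⟨x, hx⟩, ⟨y, hy'⟩, ?_⟩
  intro h
  exact hxy (congrArg Subtype.val h)



/-- For n ≥ 9, the subgroup of the alternating group on Fin n fixing each of the points 0, 1, 2, 3 is a standard subgroup. -/
theorem result (n : ℕ) (h4 : 4 ≤ n) (hn : 9 ≤ n) : Cfsg.IsStandardSubgroup (⨅ i : Fin 4, MulAction.stabilizer ↥(alternatingGroup (Fin n)) (Fin.castLE h4 i : Fin n)) := by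
  refine ⟨quasisimple_L h4 hn, tightly h4 hn, ?_, ?_⟩
  · intro g _ hbot
    obtain ⟨x, hx, y, hy, hxy⟩ := exists_noncomm h4 hn g
    have hmem : ⁅x, y⁆ ∈ ⁅Lsub h4, (Lsub h4).map (MulAut.conj g).toMonoidHom⁆ :=
      Subgroup.commutator_mem_commutator hx hy
    rw [hbot, Subgroup.mem_bot] at hmem
    exact hxy (commutatorElement_eq_one_iff_mul_comm.mp hmem)
  · ext g
    rw [mem_normalizer_L h4 hn, mem_normalizer_C h4 hn]

end Cfsg.Agent.S1323
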