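import Cfsg.Statements.S1326
import Cfsg.Agent.Lib.Helper22_Layer
import Cfsg.Agent.Lib.Helper21_FStar

set_option autoImplicit false
open Cfsg

namespace Cfsg.Agent.S1326

open Cfsg.Agent.Lib.Helper22_Layer Cfsg.Agent.Lib.Helper21_Components Cfsg.Agent.Lib.Helper29_Local

/-- For a finite group X: the Fitting subgroup contains its centralizer if and only if the layer of X is trivial. -/
theorem result {X : Type*} [Group X] [Finite X] : Subgroup.centralizer (Cfsg.fittingSubgroup X : Set X) ≤ Cfsg.fittingSubgroup X ↔ Cfsg.layer X = ⊥ := by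
  constructor
  · intro h
    have hnil : Group.IsNilpotent ↥(Cfsg.fittingSubgroup X) :=
      Cfsg.Agent.Lib.Helper1_Cores.fittingSubgroup_isNilpotent
    have hsolv : Group.IsSolvable ↥(Cfsg.fittingSubgroup X) := inferInstance
    rw [eq_bot_iff, layer_le_iff]
    intro L hL
    exfalso
    apply IsComponent.not_le_of_isSolvable hL hsolv
    have h1 : L ≤ Cfsg.layer X := IsComponent.le_layer hL
    have h2 : Cfsg.layer X ≤ Subgroup.centralizer (Cfsg.fittingSubgroup X : Set X) :=
      Subgroup.commutator_eq_bot_iff_le_centralizer.mp layer_commutator_fitting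
    exact h1.trans (h2.trans h)
  · intro h
    have hF : Cfsg.generalizedFittingSubgroup X = Cfsg.fittingSubgroup X := by
      unfold Cfsg.generalizedFittingSubgroup
      rw [h, bot_sup_eq]
    have := Cfsg.Agent.Lib.Helper21_FStar.centralizer_generalizedFitting_le (G := X)
    rwa [hF] at this

end Cfsg.Agent.S1326
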