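import Cfsg.Statements.S1327
import Cfsg.Agent.Lib.Helper23_PComp
import Cfsg.Agent.Lib.Helper22_Coprime
import Cfsg.Agent.S1326
import Cfsg.Agent.Lib.Helper22_PComponent

set_option autoImplicit false
open Cfsg

namespace Cfsg.Agent.S1327

open Cfsg.Agent.Lib.Helper23_PComp Cfsg.Agent.Lib.Helper21_Components
open Cfsg.Agent.Lib.Helper22_Layer Cfsg.Agent.Lib.Helper29_Local Cfsg.Agent.Lib.Helper1_Cores
open Cfsg.Agent.Lib.Helper22_Coprime

variable {X : Type*} [Group X] [Finite X] (p : ℕ) [Fact p.Prime]

/-- the Fitting subgroup of a finite group with trivial `p'`-core is the `p`-core -/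
theorem fitting_eq_pCore {Q : Type*} [Group Q] [Finite Q] (p : ℕ) [Fact p.Prime]
    (hQ : pPrimeCore p Q = ⊥) : fittingSubgroup Q = pCore p Q := by
  apply le_antisymm
  · rw [fittingSubgroup_eq_iSup_pCore]
    apply iSup_le
    intro q
    have : Fact (q : ℕ).Prime := ⟨q.2⟩
    by_cases hqp : (q : ℕ) = p
    · rw [hqp]
    · have h1 : pCore (q : ℕ) Q ≤ pPrimeCore p Q :=
        Cfsg.Agent.Lib.Helper1_Cores.le_pPrimeCore (Cfsg.Agent.Lib.Helper1_Cores.pCore_normal _)
          (pCore_card_coprime hqp)
      rw [hQ] at h1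
      exact h1.trans bot_le
  · exact pCore_le_fittingSubgroup p

/-- the `p`-layer is trivial iff the layer of the quotient by the `p'`-core is trivial -/
theorem pLayer_eq_bot_iff : pLayer p X = ⊥ ↔ layer (X ⧸ pPrimeCore p X) = ⊥ := by
  constructor
  · intro h
    rw [← pLayer_map_eq_layer p, h, Subgroup.map_bot]
  · intro h
    unfold pLayer
    rw [eq_bot_iff, sSup_le_iff]
    intro K hK
    exfalso
    have h1 : K.map (QuotientGroup.mk' (pPrimeCore p X)) ≤ layer (X ⧸ pPrimeCore p X) :=
      IsComponent.le_layer hK.2.1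
    rw [h, le_bot_iff] at h1
    exact Cfsg.Agent.Lib.Helper22_PComponent.ne_bot_of_isQuasisimple hK.2.1.2 h1

/-- if the image of `W` is a `p`-group, every Sylow `p`-subgroup of `W` maps onto it -/
theorem sylow_map_eq_general {Y : Type*} [Group Y] (π : X →* Y) (W : Subgroup X)
    (hpg : IsPGroup p ↥(W.map π)) (P : Sylow p ↥W) :
    ((P : Subgroup ↥W).map W.subtype).map π = W.map π := by
  have hsurj : Function.Surjective (π.subgroupMap W) := π.subgroupMap_surjective W
  have htop : ((P.mapSurjective hsurj : Sylow p ↥(W.map π)) : Subgroup ↥(W.map π)) = ⊤ := by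
    have := (P.mapSurjective hsurj).is_maximal' (Q := ⊤) (hpg.to_subgroup ⊤) le_top
    exact this.symm
  rw [Sylow.coe_mapSurjective] at htop
  have h2 : ((P : Subgroup ↥W).map (π.subgroupMap W)).map (W.map π).subtype =
      ((P : Subgroup ↥W).map W.subtype).map π := by
    rw [Subgroup.map_map, Subgroup.map_map]
    rfl
  rw [← h2, htop, ← MonoidHom.range_eq_map, Subgroup.range_subtype]

omit [Finite X] [Fact (Nat.Prime p)] in
theorem pPrimePCore_map : (pPrimePCore p X).map (QuotientGroup.mk' (pPrimeCore p X)) =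
    pCore p (X ⧸ pPrimeCore p X) := by
  unfold pPrimePCore
  exact Subgroup.map_comap_eq_self_of_surjective (QuotientGroup.mk'_surjective _) _

/-- every Sylow `p`-subgroup of `O_{p',p}(X)` maps onto `O_p(X / O_{p'}(X))` -/
theorem sylow_map_eq (P : Sylow p ↥(pPrimePCore p X)) :
    (((P : Subgroup ↥(pPrimePCore p X)).map (pPrimePCore p X).subtype).map
      (QuotientGroup.mk' (pPrimeCore p X))) = pCore p (X ⧸ pPrimeCore p X) := by
  rw [← pPrimePCore_map p]
  apply sylow_map_eq_general
  rw [pPrimePCore_map p]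
  exact Cfsg.Agent.Lib.Helper1_Cores.pCore_isPGroup p

/-- A finite group X is p-constrained if and only if its p-layer L_{p'}(X) is trivial (equivalently X / O_{p'}(X) has trivial layer). -/
theorem result {X : Type*} [Group X] [Finite X] (p : ℕ) [Fact p.Prime] : Cfsg.IsPConstrained p X ↔ Cfsg.pLayer p X = ⊥ := by
  have hQ : pPrimeCore p (X ⧸ pPrimeCore p X) = ⊥ := pPrimeCore_quotient_eq_bot X p
  have hF : fittingSubgroup (X ⧸ pPrimeCore p X) = pCore p (X ⧸ pPrimeCore p X) := fitting_eq_pCore p hQ
  have h26 := Cfsg.Agent.S1326.result (X := X ⧸ pPrimeCore p X)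
  rw [hF] at h26
  rw [pLayer_eq_bot_iff, ← h26]
  have hcop : ¬ p ∣ Nat.card (pPrimeCore p X) := by
    have := Cfsg.Agent.Lib.Helper1_Cores.pPrimeCore_card_coprime (G := X) p
    exact (Nat.Prime.coprime_iff_not_dvd Fact.out).mp this.symm
  constructor
  · intro hc
    obtain ⟨P⟩ : Nonempty (Sylow p ↥(pPrimePCore p X)) := inferInstance
    have hP := sylow_map_eq p P
    intro y hy
    obtain ⟨x, rfl⟩ := QuotientGroup.mk'_surjective (pPrimeCore p X) y
    set P' : Subgroup X := (P : Subgroup ↥(pPrimePCore p X)).map (pPrimePCore p X).subtype with hP'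
    have hP'p : IsPGroup p P' := P.isPGroup'.map _
    have hnorm : P' ≤ Subgroup.normalizer ((pPrimeCore p X : Subgroup X) : Set X) := by
      rw [Subgroup.normalizer_eq_top]; exact le_top
    have hcoset : ∀ g ∈ P', x⁻¹ * g * x * g⁻¹ ∈ pPrimeCore p X := by
      intro g hg
      rw [Subgroup.mem_centralizer_iff] at hy
      have hg' : QuotientGroup.mk' (pPrimeCore p X) g ∈ pCore p (X ⧸ pPrimeCore p X) := by
        rw [← hP]; exact Subgroup.mem_map_of_mem _ hg
      have hc' := hy _ hg'
      rw [← QuotientGroup.eq_one_iff, ← QuotientGroup.mk'_apply]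
      simp only [map_mul, map_inv]
      rw [mul_assoc _ _ (QuotientGroup.mk' (pPrimeCore p X) x), hc']
      group
    obtain ⟨m, hm, hfix⟩ := exists_fixed_in_coset P' (pPrimeCore p X) hP'p hcop hnorm x hcoset
    have hxm : x * m ∈ Subgroup.centralizer (P' : Set X) := by
      rw [Subgroup.mem_centralizer_iff]
      intro g hg
      have := hfix g hg
      calc g * (x * m) = g * (x * m) * g⁻¹ * g := by group
        _ = x * m * g := by rw [this]
    have hxmW : x * m ∈ pPrimePCore p X := hc P hxm
    unfold pPrimePCore at hxmW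
    rw [Subgroup.mem_comap, map_mul] at hxmW
    have hm1 : QuotientGroup.mk' (pPrimeCore p X) m = 1 := by
      rw [QuotientGroup.mk'_apply, QuotientGroup.eq_one_iff]; exact hm
    rw [hm1, mul_one] at hxmW
    exact hxmW
  · intro hc P x hx
    have hP := sylow_map_eq p P
    unfold pPrimePCore
    rw [Subgroup.mem_comap]
    apply hc
    rw [Subgroup.mem_centralizer_iff]
    intro y hy
    rw [← hP] at hy
    obtain ⟨g, hg, rfl⟩ := hy
    rw [Subgroup.mem_centralizer_iff] at hx
    have := hx g hg
    rw [← map_mul, ← map_mul, this]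

end Cfsg.Agent.S1327
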