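import Cfsg.Statements.S1328
import Mathlib
import Cfsg.Agent.Lib.Helper31_KBal
import Cfsg.Agent.Lib.Helper31_LocBal
import Cfsg.Agent.Lib.Helper31_Balance
import Cfsg.Agent.Lib.Helper31_CentCore
import Cfsg.Agent.Lib.Helper31_LBalance
import Cfsg.Agent.Lib.Helper46_Char
import Cfsg.Agent.Lib.Helper21_Components
import Cfsg.Agent.Lib.Helper29_Local
import Cfsg.Agent.Lib.Helper22_Cores
import Cfsg.Agent.Lib.Helper22_PComponent
import Cfsg.Agent.Lib.Helper1_Cores

set_option autoImplicit false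
open Cfsg

namespace Cfsg.Agent.S1328

open Cfsg.Agent.Lib.Helper31_KBal Cfsg.Agent.Lib.Helper31_LocBal
  Cfsg.Agent.Lib.Helper31_CentCore Cfsg.Agent.Lib.Helper31_Balance
  Cfsg.Agent.Lib.Helper31_LBalance
open scoped commutatorElement

universe u

/-- In a group with `O_{p'}(X) = 1`, a nontrivial subgroup of `O_{p'}(C_X(t))` fails to centralize
some component `E` with `⁅E, ⟨t⟩⁆ = E`; it normalizes all components. -/
theorem exists_component {X : Type u} [Group X] [Finite X] {p : ℕ} [Fact p.Prime]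
    (h0 : pPrimeCore p X = ⊥) {t : X} (ht : orderOf t = p) {Y : Subgroup X} (hY1 : Y ≠ ⊥)
    (hY : Y ≤ centralizerPPrimeCore p t) :
    ∃ E : Subgroup X, IsComponent E ∧ ⁅E, Subgroup.zpowers t⁆ = E ∧
      Y ≤ Subgroup.normalizer (E : Set X) ∧ ¬ Y ≤ Subgroup.centralizer (E : Set X) := by
  by_contra hne
  push Not at hne
  have hD := centralizerPPrimeCore_le h0 ht
  apply hY1
  rw [eq_bot_iff, ← h0]
  apply le_pPrimeCore_of_centralizes_components h0
  · intro y hy
    exact (hD (hY hy)).2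
  · exact Nat.Coprime.coprime_dvd_left (Subgroup.card_dvd_of_le hY)
      (centralizerPPrimeCore_card_coprime p t)
  · intro L hL
    by_cases heq : ⁅L, Subgroup.zpowers t⁆ = L
    · have hYL : Y ≤ Subgroup.normalizer (L : Set X) :=
        fun y hy => (mem_compKer.mp (hD (hY hy)).1) L hL
      have := hne L hL heq hYL
      rw [Subgroup.commutator_comm, Subgroup.commutator_eq_bot_iff_le_centralizer]
      exact this
    · have h1 := commutator_centralizerPPrimeCore_eq_bot h0 ht hL heq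
      rw [eq_bot_iff, ← h1]
      exact Subgroup.commutator_mono le_rfl hY

theorem coe_mem_normalizer_map {G : Type*} [Group G] [Finite G] {X : Subgroup G}
    {K : Subgroup ↥X} {g : ↥X} (hg : g ∈ Subgroup.normalizer (K : Set ↥X)) :
    (g : G) ∈ Subgroup.normalizer ((K.map X.subtype : Subgroup G) : Set G) := by
  apply mem_normalizer_of_conj_mem
  rintro _ ⟨k, hk, rfl⟩
  exact ⟨g * k * g⁻¹, (Subgroup.mem_normalizer_iff.mp hg k).mp hk, rfl⟩

theorem mem_centralizer_of_coe {G : Type*} [Group G] {X : Subgroup G}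
    {K : Subgroup ↥X} {g : ↥X}
    (hg : (g : G) ∈ Subgroup.centralizer ((K.map X.subtype : Subgroup G) : Set G)) :
    g ∈ Subgroup.centralizer (K : Set ↥X) := by
  rw [Subgroup.mem_centralizer_iff]
  intro k hk
  apply Subtype.ext
  exact Subgroup.mem_centralizer_iff.mp hg (k : G) ⟨k, hk, rfl⟩

/-- Let G be finite, H ≤ G with O(H) = 1, t an involution of G normalizing H, and Y a nontrivial subgroup of O(C_H(t)). Then some component E of H is normalized by t and by Y and centralized by neither t nor Y. -/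
theorem result {G : Type*} [Group G] [Finite G] (H : Subgroup G) (hO : Cfsg.oddCore ↥H = ⊥) (t : G) (ht : orderOf t = 2) (htH : t ∈ Subgroup.normalizer (H : Set G)) (Y : Subgroup G) (hY1 : Y ≠ ⊥) (hY : Y ≤ (Cfsg.oddCore ↥(H ⊓ Subgroup.centralizer ({t} : Set G))).map (H ⊓ Subgroup.centralizer ({t} : Set G)).subtype) : ∃ E : Subgroup ↥H, Cfsg.IsComponent E ∧ (E.map H.subtype).map (MulAut.conj t).toMonoidHom = E.map H.subtype ∧ Y ≤ Subgroup.normalizer ((E.map H.subtype : Subgroup G) : Set G) ∧ ¬ (t ∈ Subgroup.centralizer ((E.map H.subtype : Subgroup G) : Set G)) ∧ ¬ (Y ≤ Subgroup.centralizer ((E.map H.subtype : Subgroup G) : Set G)) := by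
  have : Fact (Nat.Prime 2) := ⟨Nat.prime_two⟩
  have hHX : H ≤ H ⊔ Subgroup.zpowers t := le_sup_left
  have htX : t ∈ H ⊔ Subgroup.zpowers t := Subgroup.mem_sup_right (Subgroup.mem_zpowers t)
  have htN : Subgroup.zpowers t ≤ Subgroup.normalizer (H : Set G) := Subgroup.zpowers_le.mpr htH
  have hXN : H ⊔ Subgroup.zpowers t ≤ Subgroup.normalizer (H : Set G) :=
    sup_le Subgroup.le_normalizer htN
  have hYM : Y ≤ H ⊓ Subgroup.centralizer ({t} : Set G) := hY.trans (Subgroup.map_subtype_le _)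
  have hYH : Y ≤ H := hYM.trans inf_le_left
  -- squares of elements of `X` lie in `H`
  have hsq : ∀ w ∈ H ⊔ Subgroup.zpowers t, w ^ 2 ∈ H := by
    intro w hw
    rw [sup_comm] at hw
    obtain ⟨q, hq, h, hh, rfl⟩ := exists_mul_of_mem_sup htN hw
    have hq2 : q ^ 2 = 1 := by
      obtain ⟨n, rfl⟩ := Subgroup.mem_zpowers_iff.mp hq
      rw [← zpow_natCast, ← zpow_mul, mul_comm, zpow_mul, zpow_natCast]
      have : t ^ 2 = 1 := by rw [← ht]; exact pow_orderOf_eq_one t
      rw [this, one_zpow]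
    have hqh : q * h * q⁻¹ ∈ H := (Subgroup.mem_normalizer_iff.mp (htN hq) h).mp hh
    have e : (q * h) ^ 2 = (q * h * q⁻¹) * (q ^ 2) * h := by
      rw [pow_two, pow_two]; group
    rw [e, hq2, mul_one]
    exact mul_mem hqh hh
  -- `O(X) = 1`
  have h0 : pPrimeCore 2 ↥(H ⊔ Subgroup.zpowers t) = ⊥ := by
    have hN : (pPrimeCore 2 ↥(H ⊔ Subgroup.zpowers t)).comap (Subgroup.inclusion hHX) ≤
        pPrimeCore 2 ↥H := by
      apply Cfsg.Agent.Lib.Helper1_Cores.le_pPrimeCore
      · exact (Cfsg.Agent.Lib.Helper1_Cores.pPrimeCore_normal 2).comap _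
      · exact Nat.Coprime.coprime_dvd_left
          (Subgroup.card_comap_dvd_of_injective _ _ (Subgroup.inclusion_injective hHX))
          (Cfsg.Agent.Lib.Helper22_Cores.pPrimeCore_coprime 2)
    rw [eq_bot_iff]
    intro w hw
    rw [Subgroup.mem_bot]
    apply eq_one_of_mem_pPrimeCore_of_pow hw
    have hw2 : ((w ^ 2 : ↥(H ⊔ Subgroup.zpowers t)) : G) ∈ H := by
      rw [Subgroup.coe_pow]; exact hsq _ w.2
    have h1 : (⟨_, hw2⟩ : ↥H) ∈ (pPrimeCore 2 ↥(H ⊔ Subgroup.zpowers t)).comap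
        (Subgroup.inclusion hHX) := by
      rw [Subgroup.mem_comap]
      have : Subgroup.inclusion hHX (⟨_, hw2⟩ : ↥H) = w ^ 2 := Subtype.ext rfl
      rw [this]
      exact pow_mem hw 2
    have h2 := hN h1
    have hO' : pPrimeCore 2 ↥H = ⊥ := hO
    rw [hO', Subgroup.mem_bot] at h2
    apply Subtype.ext
    have := congrArg Subtype.val h2
    exact this
  -- the involution in `X`
  have htx : orderOf (⟨t, htX⟩ : ↥(H ⊔ Subgroup.zpowers t)) = 2 := by
    rw [Subgroup.orderOf_mk]; exact ht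
  -- `Y` lies in `O(C_X(t))`
  have hYx : Y.subgroupOf (H ⊔ Subgroup.zpowers t) ≤
      centralizerPPrimeCore 2 (⟨t, htX⟩ : ↥(H ⊔ Subgroup.zpowers t)) := by
    have hle : Y.subgroupOf (H ⊔ Subgroup.zpowers t) ≤
        ((Cfsg.oddCore ↥(H ⊓ Subgroup.centralizer ({t} : Set G))).map
          (H ⊓ Subgroup.centralizer ({t} : Set G)).subtype).subgroupOf (H ⊔ Subgroup.zpowers t) := by
      intro y hy
      rw [Subgroup.mem_subgroupOf] at hy ⊢
      exact hY hy
    refine hle.trans ?_
    apply le_centralizerPPrimeCore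
    · intro n hn
      rw [Subgroup.mem_subgroupOf] at hn
      have h1 : (n : G) ∈ H ⊓ Subgroup.centralizer ({t} : Set G) := Subgroup.map_subtype_le _ hn
      rw [mem_centralizer_singleton]
      apply Subtype.ext
      exact mem_centralizer_singleton.mp h1.2
    · intro c hc n hn
      rw [Subgroup.mem_subgroupOf] at hn ⊢
      have hct : (c : G) * t = t * (c : G) := by
        have := mem_centralizer_singleton.mp hc
        exact congrArg Subtype.val this
      have hcN : (c : G) ∈ Subgroup.normalizer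
          ((H ⊓ Subgroup.centralizer ({t} : Set G) : Subgroup G) : Set G) := by
        apply mem_normalizer_of_conj_mem
        intro m hm
        refine Subgroup.mem_inf.mpr ⟨?_, ?_⟩
        · exact (Subgroup.mem_normalizer_iff.mp (hXN c.2) m).mp hm.1
        · have hmt : m * t = t * m := mem_centralizer_singleton.mp hm.2
          rw [mem_centralizer_singleton]
          have hct' : (c : G)⁻¹ * t = t * (c : G)⁻¹ := by
            calc (c : G)⁻¹ * t = (c : G)⁻¹ * (t * (c : G)) * (c : G)⁻¹ := by group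
              _ = (c : G)⁻¹ * ((c : G) * t) * (c : G)⁻¹ := by rw [hct]
              _ = t * (c : G)⁻¹ := by group
          calc (c : G) * m * (c : G)⁻¹ * t = (c : G) * m * ((c : G)⁻¹ * t) := by group
            _ = (c : G) * m * (t * (c : G)⁻¹) := by rw [hct']
            _ = (c : G) * (m * t) * (c : G)⁻¹ := by group
            _ = (c : G) * (t * m) * (c : G)⁻¹ := by rw [hmt]
            _ = ((c : G) * t) * m * (c : G)⁻¹ := by group
            _ = (t * (c : G)) * m * (c : G)⁻¹ := by rw [hct]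
            _ = t * ((c : G) * m * (c : G)⁻¹) := by group
      have hchar := Cfsg.Agent.Lib.Helper46_Char.normalizer_le_normalizer_of_char
        (H ⊓ Subgroup.centralizer ({t} : Set G))
        (pPrimeCore 2 ↥(H ⊓ Subgroup.centralizer ({t} : Set G))) hcN
      exact (Subgroup.mem_normalizer_iff.mp hchar (n : G)).mp hn
    · have h1 : Nat.card (((Cfsg.oddCore ↥(H ⊓ Subgroup.centralizer ({t} : Set G))).map
          (H ⊓ Subgroup.centralizer ({t} : Set G)).subtype).subgroupOf (H ⊔ Subgroup.zpowers t)) ∣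
          Nat.card ((Cfsg.oddCore ↥(H ⊓ Subgroup.centralizer ({t} : Set G))).map
          (H ⊓ Subgroup.centralizer ({t} : Set G)).subtype) :=
        Subgroup.card_comap_dvd_of_injective _ _ (Subgroup.subtype_injective _)
      rw [Subgroup.card_map_of_injective (Subgroup.subtype_injective _)] at h1
      exact Nat.Coprime.coprime_dvd_left h1 (Cfsg.Agent.Lib.Helper22_Cores.pPrimeCore_coprime 2)
  have hYx1 : Y.subgroupOf (H ⊔ Subgroup.zpowers t) ≠ ⊥ := by
    intro h
    apply hY1
    rw [eq_bot_iff]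
    intro y hy
    have : (⟨y, hHX (hYH hy)⟩ : ↥(H ⊔ Subgroup.zpowers t)) ∈
        Y.subgroupOf (H ⊔ Subgroup.zpowers t) := by
      rw [Subgroup.mem_subgroupOf]; exact hy
    rw [h, Subgroup.mem_bot] at this
    rw [Subgroup.mem_bot]
    exact congrArg Subtype.val this
  obtain ⟨Ex, hEx, hEt, hEYn, hEYc⟩ := exists_component h0 htx hYx1 hYx
  -- `Ex ≤ Hx`
  have hHxn : (H.subgroupOf (H ⊔ Subgroup.zpowers t)).Normal :=
    (Subgroup.normal_subgroupOf_iff_le_normalizer hHX).mpr hXN
  have hExH : Ex ≤ H.subgroupOf (H ⊔ Subgroup.zpowers t) := by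
    rcases Cfsg.Agent.Lib.Helper21_Components.IsComponent.le_or_commutator_eq_bot hEx
      hHxn.isSubnormal with h | h
    · exact h
    · exfalso
      apply hEYc
      rw [Subgroup.commutator_eq_bot_iff_le_centralizer, Subgroup.le_centralizer_iff] at h
      refine le_trans ?_ h
      intro y hy
      rw [Subgroup.mem_subgroupOf] at hy ⊢
      exact hYH hy
  have hEGH : Ex.map (H ⊔ Subgroup.zpowers t).subtype ≤ H := by
    rintro _ ⟨e, he, rfl⟩
    exact Subgroup.mem_subgroupOf.mp (hExH he)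
  -- the component of `H`
  have hcomp1 : IsComponent (Ex.subgroupOf (H.subgroupOf (H ⊔ Subgroup.zpowers t))) :=
    Cfsg.Agent.Lib.Helper21_Components.IsComponent.subgroupOf hEx hExH
  have hcomp2 := Cfsg.Agent.Lib.Helper29_Local.isComponent_map_mulEquiv
    (Subgroup.subgroupOfEquivOfLe hHX) hcomp1
  have hmapeq : ((Ex.subgroupOf (H.subgroupOf (H ⊔ Subgroup.zpowers t))).map
      ((Subgroup.subgroupOfEquivOfLe hHX : _ ≃* ↥H) : _ →* ↥H)).map H.subtype =
      Ex.map (H ⊔ Subgroup.zpowers t).subtype := by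
    ext g
    constructor
    · rintro ⟨_, ⟨y, hy, rfl⟩, rfl⟩
      rw [SetLike.mem_coe, Subgroup.mem_subgroupOf] at hy
      exact ⟨(y : ↥(H ⊔ Subgroup.zpowers t)), hy, rfl⟩
    · rintro ⟨e, he, rfl⟩
      have heH : e ∈ H.subgroupOf (H ⊔ Subgroup.zpowers t) := hExH he
      refine ⟨Subgroup.subgroupOfEquivOfLe hHX ⟨e, heH⟩, ⟨⟨e, heH⟩, ?_, rfl⟩, rfl⟩
      rw [SetLike.mem_coe, Subgroup.mem_subgroupOf]
      exact he
  refine ⟨_, hcomp2, ?_, ?_, ?_, ?_⟩
  · rw [hmapeq]
    have htn : (⟨t, htX⟩ : ↥(H ⊔ Subgroup.zpowers t)) ∈ Subgroup.normalizer (Ex : Set _) :=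
      zpowers_le_normalizer_of_commutator_eq hEt
    exact Subgroup.mem_normalizer_iff_map_conj_eq.mp (coe_mem_normalizer_map htn)
  · rw [hmapeq]
    intro y hy
    have : (⟨y, hHX (hYH hy)⟩ : ↥(H ⊔ Subgroup.zpowers t)) ∈
        Y.subgroupOf (H ⊔ Subgroup.zpowers t) := by
      rw [Subgroup.mem_subgroupOf]; exact hy
    exact coe_mem_normalizer_map (hEYn this)
  · rw [hmapeq]
    intro hc
    have h1 : (⟨t, htX⟩ : ↥(H ⊔ Subgroup.zpowers t)) ∈ Subgroup.centralizer (Ex : Set _) :=
      mem_centralizer_of_coe hc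
    have h2 : ⁅Ex, Subgroup.zpowers (⟨t, htX⟩ : ↥(H ⊔ Subgroup.zpowers t))⁆ = ⊥ := by
      rw [Subgroup.commutator_eq_bot_iff_le_centralizer, Subgroup.le_centralizer_iff,
        Subgroup.zpowers_le]
      exact h1
    rw [h2] at hEt
    exact Cfsg.Agent.Lib.Helper22_PComponent.ne_bot_of_isQuasisimple hEx.2 hEt.symm
  · rw [hmapeq]
    intro hc
    apply hEYc
    intro y hy
    rw [Subgroup.mem_subgroupOf] at hy
    exact mem_centralizer_of_coe (hc hy)

end Cfsg.Agent.S1328
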