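import Cfsg.Statements.S1331
import Cfsg.Agent.Lib.Helper38_HyperplaneGen

set_option autoImplicit false
open Cfsg

namespace Cfsg.Agent.S1331

/-- A `p`-group of order at least `p ^ 2` inside `G` has a subgroup of index `p`. -/
theorem exists_hyperplane {G : Type*} [Group G] [Finite G] (p : ℕ) [Fact p.Prime] (B : Subgroup G)
    (hB : IsPGroup p B) (hB2 : p ^ 2 ≤ Nat.card ↥B) :
    ∃ D : Subgroup G, D ≤ B ∧ D.relIndex B = p := by
  have hp : p.Prime := Fact.out
  obtain ⟨m, hm⟩ := IsPGroup.iff_card.mp hB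
  have hm2 : 2 ≤ m := by
    by_contra hlt
    push Not at hlt
    have : p ^ m ≤ p ^ 1 := Nat.pow_le_pow_right hp.pos (by omega)
    rw [hm] at hB2
    have h2 : p ^ 1 < p ^ 2 := Nat.pow_lt_pow_right hp.one_lt (by norm_num)
    omega
  obtain ⟨K, hK⟩ := Sylow.exists_subgroup_card_pow_prime (G := ↥B) p (n := m - 1)
    (by rw [hm]; exact pow_dvd_pow p (by omega))
  refine ⟨K.map B.subtype, Subgroup.map_subtype_le K, ?_⟩
  have h1 : (K.map B.subtype).subgroupOf B = K :=
    Subgroup.comap_map_eq_self_of_injective B.subtype_injective K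
  have h2 : (K.map B.subtype).relIndex B = K.index := by
    rw [Subgroup.relIndex, h1]
  rw [h2]
  have h3 := K.card_mul_index
  rw [hK, hm] at h3
  have h4 : p ^ m = p ^ (m - 1) * p := by
    rw [← pow_succ]; congr 1; omega
  rw [h4] at h3
  exact Nat.eq_of_mul_eq_mul_left (pow_pos hp.pos _) h3

/-- Let θ be a solvable A-signalizer functor on the finite group G for the prime p, A elementary abelian of rank at least 3, X a member of the family of θ, and B ≤ A with |B| ≥ p². Then X is generated by the subgroups X ∩ ⋂_{d ∈ D, d ≠ 1} θ d, D ranging over the subgroups of index p in B. -/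
theorem result {G : Type*} [Group G] [Finite G] (p : ℕ) [Fact p.Prime] (A : Subgroup G) (hA : Cfsg.IsElementaryAbelian p A) (hA3 : p ^ 3 ≤ Nat.card ↥A) (θ : G → Subgroup G) (hθ : Cfsg.IsSolvableSignalizerFunctor p A θ) (X : Subgroup G) (hX : X ∈ Cfsg.signalizerFamily p A θ) (B : Subgroup G) (hB : B ≤ A) (hB2 : p ^ 2 ≤ Nat.card ↥B) : X = ⨆ D : {D : Subgroup G // D ≤ B ∧ D.relIndex B = p}, X ⊓ Cfsg.signalizerInf (D : Subgroup G) θ := by
  have hp : p.Prime := Fact.out
  obtain ⟨hXsol, hXp, hXinv, hXθ⟩ := hX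
  have hBel : Cfsg.IsElementaryAbelian p B := by
    refine ⟨⟨⟨fun x y => ?_⟩⟩, fun b hb => hA.2 b (hB hb)⟩
    have := hA.1.is_comm.comm ⟨x.1, hB x.2⟩ ⟨y.1, hB y.2⟩
    have h2 : (x : G) * y = y * x := congrArg Subtype.val this
    apply Subtype.ext
    simpa using h2
  have hBp : IsPGroup p B := by
    intro x
    refine ⟨1, ?_⟩
    apply Subtype.ext
    simpa using hBel.2 x x.2
  have hBX : B ≤ Subgroup.normalizer (X : Set G) := by
    intro b hb
    rw [Subgroup.mem_normalizer_iff]
    intro y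
    refine ⟨hXinv b (hB hb) y, fun h => ?_⟩
    have := hXinv b⁻¹ (A.inv_mem (hB hb)) _ h
    have e : b⁻¹ * (b * y * b⁻¹) * b⁻¹⁻¹ = y := by group
    rwa [e] at this
  -- a hyperplane `D` contributes `C_X(D)`
  have hD : ∀ D : Subgroup G, D ≤ B → D.relIndex B = p →
      X ⊓ Subgroup.centralizer (D : Set G) ≤
        ⨆ D : {D : Subgroup G // D ≤ B ∧ D.relIndex B = p},
          X ⊓ Cfsg.signalizerInf (D : Subgroup G) θ := by
    intro D hDB hDp
    refine le_trans ?_ (le_iSup (fun D : {D : Subgroup G // D ≤ B ∧ D.relIndex B = p} =>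
      X ⊓ Cfsg.signalizerInf (D : Subgroup G) θ) ⟨D, hDB, hDp⟩)
    refine le_inf inf_le_left ?_
    unfold Cfsg.signalizerInf
    refine le_iInf fun d => ?_
    obtain ⟨d, hdD, hd1⟩ := d
    refine le_trans ?_ (hXθ d (hB (hDB hdD)) hd1)
    refine inf_le_inf_left X ?_
    exact Subgroup.centralizer_le (Set.singleton_subset_iff.mpr hdD)
  apply le_antisymm
  · refine Cfsg.Agent.Lib.Helper38_HyperplaneGen.le_of_hyperplane_centralizers_le (p := p) B X hBel
      hXp hBX _ ?_
    intro D hDB hDp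
    have hdvd : D.relIndex B ∣ Nat.card B := Subgroup.relIndex_dvd_card D B
    obtain ⟨m, hm⟩ := IsPGroup.iff_card.mp hBp
    rw [hm] at hdvd
    obtain ⟨j, _, hj⟩ := (Nat.dvd_prime_pow hp).mp hdvd
    rcases Nat.lt_or_ge j 1 with hj0 | hj1
    · -- `D = B`
      have hj0' : j = 0 := by omega
      rw [hj0', pow_zero] at hj
      have hBD : B ≤ D := Subgroup.relIndex_eq_one.mp hj
      obtain ⟨D', hD'B, hD'p⟩ := exists_hyperplane p B hBp hB2
      refine le_trans ?_ (hD D' hD'B hD'p)
      refine inf_le_inf_left X ?_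
      exact Subgroup.centralizer_le (hD'B.trans hBD)
    · have hj1' : j = 1 := by
        by_contra hne
        have : 2 ≤ j := by omega
        have h2 : p ^ 2 ≤ p ^ j := Nat.pow_le_pow_right hp.pos this
        have h3 : p ^ 1 < p ^ 2 := Nat.pow_lt_pow_right hp.one_lt (by norm_num)
        rw [pow_one] at h3
        rw [hj] at hDp
        omega
      rw [hj1', pow_one] at hj
      exact hD D hDB hj
  · exact iSup_le fun D => inf_le_left

end Cfsg.Agent.S1331
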