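import Cfsg.Statements.S1335

set_option autoImplicit false
open Cfsg

namespace Cfsg.Agent.S1335

/-- p-rank bound transfers backwards along an injective homomorphism. -/
theorem pRankLE_of_injective {A B : Type*} [Group A] [Group B] (p k : ℕ) (f : A →* B)
    (hf : Function.Injective f) (h : Cfsg.PRankLE p k B) : Cfsg.PRankLE p k A := by
  intro E hE hexp
  have h1 : IsMulCommutative ↥(E.map f) := by
    refine ⟨⟨?_⟩⟩
    rintro ⟨x, hx⟩ ⟨y, hy⟩
    obtain ⟨a, ha, rfl⟩ := hx
    obtain ⟨b, hb, rfl⟩ := hy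
    apply Subtype.ext
    show f a * f b = f b * f a
    have : (⟨a, ha⟩ : E) * ⟨b, hb⟩ = ⟨b, hb⟩ * ⟨a, ha⟩ := isMulCommutative_iff.mp hE _ _
    have h2 : a * b = b * a := congrArg Subtype.val this
    rw [← map_mul, ← map_mul, h2]
  have h2 : ∀ x ∈ E.map f, x ^ p = 1 := by
    rintro x ⟨a, ha, rfl⟩
    rw [← map_pow, hexp a ha, map_one]
  have h3 := h (E.map f) h1 h2
  have h4 : Nat.card ↥(E.map f) = Nat.card E :=
    (Nat.card_congr (E.equivMapOfInjective f hf).toEquiv).symm
  rw [h4] at h3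
  exact h3

theorem result {G : Type*} [Group G] [Finite G] {p : ℕ} [Fact p.Prime] (k : ℕ) (hk : 1 ≤ k) (H : Subgroup G) (P : Sylow p ↥H) (hP : ¬ Cfsg.PRankLE p (k - 1) ↥(P : Subgroup ↥H)) (hΓ : (∀ X : Subgroup G, X ≤ (P : Subgroup ↥H).map H.subtype → ¬ Cfsg.PRankLE p (k - 1) ↥X → Subgroup.normalizer (X : Set G) ≤ H)) : ∃ Q : Sylow p G, (Q : Subgroup G) = (P : Subgroup ↥H).map H.subtype := by
  classical
  set P' : Subgroup G := (P : Subgroup ↥H).map H.subtype with hP'
  have hinj : Function.Injective H.subtype := H.subtype_injective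
  -- P' is a p-group
  have hpg : IsPGroup p P' := P.isPGroup'.map H.subtype
  -- rank transfer
  have hrk : ¬ Cfsg.PRankLE p (k - 1) ↥P' := by
    intro h
    apply hP
    exact pRankLE_of_injective p (k - 1)
      ((P : Subgroup ↥H).equivMapOfInjective H.subtype hinj).toMonoidHom
      ((P : Subgroup ↥H).equivMapOfInjective H.subtype hinj).injective h
  have hN : Subgroup.normalizer (P' : Set G) ≤ H := hΓ P' le_rfl hrk
  have hP'H : P' ≤ H := Subgroup.map_subtype_le _
  -- p does not divide the index of P in H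
  have h1 : ¬ p ∣ (P : Subgroup ↥H).index := P.not_dvd_index
  have h2 : P'.relIndex H = (P : Subgroup ↥H).index := by
    rw [Subgroup.relIndex, hP']
    congr 1
    ext x
    simp [Subgroup.mem_subgroupOf]
  have h3 : ¬ p ∣ P'.relIndex (Subgroup.normalizer (P' : Set G)) := by
    intro h
    apply h1
    rw [← h2]
    exact dvd_trans h (Dvd.intro _ (Subgroup.relIndex_mul_relIndex P' _ H Subgroup.le_normalizer hN))
  obtain ⟨n, hn⟩ := hpg.exists_card_eq
  have h4 := Sylow.card_quotient_normalizer_modEq_card_quotient (G := G) (p := p) hn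
  have h5 : ¬ p ∣ P'.index := by
    intro h
    apply h3
    have h6 : Nat.card (G ⧸ P') ≡ 0 [MOD p] := by
      rw [Nat.modEq_zero_iff_dvd]
      exact h
    have h7 := h4.trans h6
    rw [Nat.modEq_zero_iff_dvd] at h7
    exact h7
  exact ⟨hpg.toSylow h5, rfl⟩

end Cfsg.Agent.S1335
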