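import Cfsg.Statements.S1336

set_option autoImplicit false
open Cfsg

namespace Cfsg.Agent.S1336

variable {G : Type*} [Group G]

/-- conjugate of a subgroup -/
abbrev cj (g : G) (A : Subgroup G) : Subgroup G := A.map (MulAut.conj g).toMonoidHom

/-- the edge relation of the commuting graph -/
abbrev Rel (p : ℕ) : Subgroup G → Subgroup G → Prop :=
  fun A B : Subgroup G => Cfsg.IsElementaryAbelian p A ∧ p ^ 1 ≤ Nat.card ↥A ∧
    Cfsg.IsElementaryAbelian p B ∧ p ^ 1 ≤ Nat.card ↥B ∧ ∀ a ∈ A, ∀ b ∈ B, a * b = b * a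

theorem mem_cj {g x : G} {A : Subgroup G} : x ∈ cj g A ↔ g⁻¹ * x * g ∈ A := by
  constructor
  · rintro ⟨y, hy, rfl⟩
    have : g⁻¹ * ((MulAut.conj g).toMonoidHom y) * g = y := by
      simp [MulAut.conj_apply]; group
    rw [this]; exact hy
  · intro h
    refine ⟨g⁻¹ * x * g, h, ?_⟩
    simp [MulAut.conj_apply]; group

theorem cj_one (A : Subgroup G) : cj 1 A = A := by
  ext x; rw [mem_cj]; simp

theorem cj_mul (g h : G) (A : Subgroup G) : cj (g * h) A = cj g (cj h A) := by
  ext x
  rw [mem_cj, mem_cj, mem_cj]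
  have : (g * h)⁻¹ * x * (g * h) = h⁻¹ * (g⁻¹ * x * g) * h := by group
  rw [this]

theorem cj_inv_cj (g : G) (A : Subgroup G) : cj g⁻¹ (cj g A) = A := by
  rw [← cj_mul, inv_mul_cancel, cj_one]

theorem cj_cj_inv (g : G) (A : Subgroup G) : cj g (cj g⁻¹ A) = A := by
  rw [← cj_mul, mul_inv_cancel, cj_one]

theorem cj_self {g : G} {A : Subgroup G} (hg : g ∈ A) : cj g A = A := by
  ext x
  rw [mem_cj]
  constructor
  · intro h
    have : x = g * (g⁻¹ * x * g) * g⁻¹ := by group
    rw [this]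
    exact mul_mem (mul_mem hg h) (inv_mem hg)
  · intro h
    exact mul_mem (mul_mem (inv_mem hg) h) hg

theorem card_cj (g : G) (A : Subgroup G) : Nat.card ↥(cj g A) = Nat.card A :=
  (Nat.card_congr (A.equivMapOfInjective (MulAut.conj g).toMonoidHom
    (MulAut.conj g).injective).toEquiv).symm

theorem elab_map {G' : Type*} [Group G'] (f : G →* G') {p : ℕ} {A : Subgroup G}
    (h : Cfsg.IsElementaryAbelian p A) : Cfsg.IsElementaryAbelian p (A.map f) := by
  obtain ⟨hc, he⟩ := h
  constructor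
  · refine ⟨⟨?_⟩⟩
    rintro ⟨x, hx⟩ ⟨y, hy⟩
    obtain ⟨a, ha, rfl⟩ := hx
    obtain ⟨b, hb, rfl⟩ := hy
    apply Subtype.ext
    show f a * f b = f b * f a
    have : (⟨a, ha⟩ : A) * ⟨b, hb⟩ = ⟨b, hb⟩ * ⟨a, ha⟩ := isMulCommutative_iff.mp hc _ _
    have h2 : a * b = b * a := congrArg Subtype.val this
    rw [← map_mul, ← map_mul, h2]
  · rintro x ⟨a, ha, rfl⟩
    rw [← map_pow, he a ha, map_one]

theorem rel_cj {p : ℕ} (g : G) {A B : Subgroup G} (h : Rel p A B) : Rel p (cj g A) (cj g B) := by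
  obtain ⟨h1, h2, h3, h4, h5⟩ := h
  refine ⟨elab_map _ h1, by rw [card_cj]; exact h2, elab_map _ h3, by rw [card_cj]; exact h4, ?_⟩
  rintro a ⟨a', ha', rfl⟩ b ⟨b', hb', rfl⟩
  rw [← map_mul, ← map_mul, h5 a' ha' b' hb']

theorem conn_cj {p : ℕ} (g : G) {A B : Subgroup G} (h : Relation.ReflTransGen (Rel p) A B) :
    Relation.ReflTransGen (Rel p) (cj g A) (cj g B) := by
  induction h with
  | refl => exact Relation.ReflTransGen.refl
  | tail _ hbc ih => exact Relation.ReflTransGen.tail ih (rel_cj g hbc)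

theorem rel_symm {p : ℕ} {A B : Subgroup G} (h : Rel p A B) : Rel p B A := by
  obtain ⟨h1, h2, h3, h4, h5⟩ := h
  exact ⟨h3, h4, h1, h2, fun b hb a ha => (h5 a ha b hb).symm⟩

theorem conn_symm {p : ℕ} {A B : Subgroup G} (h : Relation.ReflTransGen (Rel p) A B) :
    Relation.ReflTransGen (Rel p) B A := by
  induction h with
  | refl => exact Relation.ReflTransGen.refl
  | tail _ hbc ih => exact Relation.ReflTransGen.head (rel_symm hbc) ih

/-- a cyclic subgroup generated by an element of order `p` is a vertex -/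
theorem zpowers_vertex {p : ℕ} {z : G} (hz : orderOf z = p) :
    Cfsg.IsElementaryAbelian p (Subgroup.zpowers z) ∧ p ^ 1 ≤ Nat.card ↥(Subgroup.zpowers z) := by
  refine ⟨⟨inferInstance, ?_⟩, ?_⟩
  · intro a ha
    obtain ⟨k, rfl⟩ := Subgroup.mem_zpowers_iff.mp ha
    rw [← zpow_natCast, ← zpow_mul, mul_comm, zpow_mul, zpow_natCast, ← hz, pow_orderOf_eq_one,
      one_zpow]
  · rw [Nat.card_zpowers, hz, pow_one]

theorem vertex_isPGroup {p : ℕ} {A : Subgroup G} (h : Cfsg.IsElementaryAbelian p A) :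
    IsPGroup p A := by
  intro a
  refine ⟨1, ?_⟩
  apply Subtype.ext
  rw [pow_one]
  simpa using h.2 a a.2

theorem vertex_exists_ne_one {p : ℕ} [Fact p.Prime] {A : Subgroup G}
    (h2 : p ^ 1 ≤ Nat.card ↥A) : ∃ a ∈ A, a ≠ 1 := by
  rcases Subgroup.bot_or_exists_ne_one A with h | h
  · exfalso
    rw [h, Subgroup.card_bot, pow_one] at h2
    exact absurd h2 (not_le.mpr (Fact.out : p.Prime).one_lt)
  · exact h

open scoped Pointwise in
theorem mem_sylow_smul {K : Type*} [Group K] {p : ℕ} (g x : K) (P : Sylow p K) :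
    x ∈ (g • P : Sylow p K) ↔ g⁻¹ * x * g ∈ P := by
  show x ∈ (MulAut.conj g • (P : Subgroup K)) ↔ _
  rw [Subgroup.mem_pointwise_smul_iff_inv_smul_mem]
  have : (MulAut.conj g)⁻¹ • x = g⁻¹ * x * g := by
    rw [← map_inv, MulAut.smul_def, MulAut.conj_apply, inv_inv]
  rw [this]
  rfl

theorem orderOf_conj' (g z : G) : orderOf (g⁻¹ * z * g) = orderOf z := by
  have h := MulEquiv.orderOf_eq (MulAut.conj g⁻¹) z
  rw [MulAut.conj_apply, inv_inv] at h
  exact h

/-- Two vertices inside a common finite `p`-subgroup are connected. -/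
theorem conn_of_le_pgroup [Finite G] {p : ℕ} [Fact p.Prime] (P : Subgroup G) (hP : IsPGroup p P)
    {A B : Subgroup G} (hA1 : Cfsg.IsElementaryAbelian p A) (hA2 : p ^ 1 ≤ Nat.card ↥A)
    (hB1 : Cfsg.IsElementaryAbelian p B) (hB2 : p ^ 1 ≤ Nat.card ↥B) (hAP : A ≤ P) (hBP : B ≤ P) :
    Relation.ReflTransGen (Rel p) A B := by
  obtain ⟨a, haA, ha1⟩ := vertex_exists_ne_one (p := p) hA2
  have : Nontrivial P := ⟨⟨⟨a, hAP haA⟩, 1, fun h => ha1 (congrArg Subtype.val h)⟩⟩
  have := hP.center_nontrivial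
  have hcp : IsPGroup p (Subgroup.center P) := hP.to_subgroup _
  obtain ⟨k, hk⟩ := hcp.exists_card_eq
  have hk0 : k ≠ 0 := by
    rintro rfl
    rw [pow_zero] at hk
    have := (Nat.card_eq_one_iff_unique.mp hk).1
    exact not_subsingleton _ this
  have hdvd : p ∣ Nat.card (Subgroup.center P) := by
    rw [hk]; exact dvd_pow_self p hk0
  obtain ⟨x, hx⟩ := exists_prime_orderOf_dvd_card' p hdvd
  set z : G := ((x : P) : G) with hz
  have hzord : orderOf z = p := by
    rw [hz, Subgroup.orderOf_coe, Subgroup.orderOf_coe, hx]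
  have hzcomm : ∀ y ∈ P, y * z = z * y := by
    intro y hy
    have := Subgroup.mem_center_iff.mp x.2 ⟨y, hy⟩
    exact congrArg Subtype.val this
  have hZ := zpowers_vertex hzord
  have hcommZ : ∀ y ∈ P, ∀ b ∈ Subgroup.zpowers z, y * b = b * y := by
    intro y hy b hb
    obtain ⟨n, rfl⟩ := Subgroup.mem_zpowers_iff.mp hb
    exact ((show Commute y z from hzcomm y hy).zpow_right n).eq
  have h1 : Rel p A (Subgroup.zpowers z) :=
    ⟨hA1, hA2, hZ.1, hZ.2, fun a ha b hb => hcommZ a (hAP ha) b hb⟩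
  have h2 : Rel p (Subgroup.zpowers z) B :=
    ⟨hZ.1, hZ.2, hB1, hB2, fun b hb a ha => (hcommZ a (hBP ha) b hb).symm⟩
  exact Relation.ReflTransGen.tail (Relation.ReflTransGen.single h1) h2

theorem dvd_card_of_order_mem {p : ℕ} [Finite G] {K : Subgroup G} {b : G} (hb : orderOf b = p)
    (hbK : b ∈ K) : p ∣ Nat.card K := by
  have h1 : Subgroup.zpowers b ≤ K := by
    rw [Subgroup.zpowers_le]; exact hbK
  have h2 := Subgroup.card_dvd_of_le h1
  rwa [Nat.card_zpowers, hb] at h2

theorem forward [Finite G] (p : ℕ) [Fact p.Prime] (H : Subgroup G) (hHtop : H ≠ ⊤)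
    (hpH : p ∣ Nat.card ↥H)
    (hH : ∀ g : G, g ∉ H → ¬ p ∣ Nat.card ↥(H ⊓ H.map (MulAut.conj g).toMonoidHom)) :
    ¬ Cfsg.IsKConnected p 1 G := by
  intro hconn
  have hp : p.Prime := Fact.out
  obtain ⟨x, hx⟩ := exists_prime_orderOf_dvd_card' p hpH
  set z : G := (x : G) with hz
  have hzord : orderOf z = p := by rw [hz, Subgroup.orderOf_coe, hx]
  have hzH : z ∈ H := x.2
  obtain ⟨g, hg⟩ : ∃ g : G, g ∉ H := by
    by_contra hcon
    push Not at hcon
    exact hHtop (eq_top_iff.mpr fun y _ => hcon y)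
  have hV := zpowers_vertex hzord
  have hV' : Cfsg.IsElementaryAbelian p (cj g (Subgroup.zpowers z)) ∧
      p ^ 1 ≤ Nat.card ↥(cj g (Subgroup.zpowers z)) :=
    ⟨elab_map _ hV.1, by rw [card_cj]; exact hV.2⟩
  have hchain : Relation.ReflTransGen (Rel p) (Subgroup.zpowers z) (cj g (Subgroup.zpowers z)) :=
    hconn _ _ hV.1 hV.2 hV'.1 hV'.2
  -- key: commuting with a nontrivial element of order p of H forces membership in H
  have hkey : ∀ b c : G, b ∈ H → orderOf b = p → c * b * c⁻¹ ∈ H → c ∈ H := by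
    intro b c hbH hbord hcb
    by_contra hc
    apply hH c⁻¹ (fun h => hc (by simpa using inv_mem h))
    apply dvd_card_of_order_mem hbord
    refine Subgroup.mem_inf.mpr ⟨hbH, ?_⟩
    show b ∈ cj c⁻¹ H
    rw [mem_cj]
    simpa using hcb
  have hinv : ∀ B : Subgroup G, Relation.ReflTransGen (Rel p) (Subgroup.zpowers z) B → B ≤ H := by
    intro B hB
    induction hB with
    | refl => rw [Subgroup.zpowers_le]; exact hzH
    | @tail B C _ hBC ih =>
      obtain ⟨hB1, hB2, hC1, hC2, hcomm⟩ := hBC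
      obtain ⟨b, hbB, hb1⟩ := vertex_exists_ne_one (p := p) hB2
      have hbord : orderOf b = p := orderOf_eq_prime (hB1.2 b hbB) hb1
      intro c hc
      apply hkey b c (ih hbB) hbord
      have : c * b * c⁻¹ = b := by
        rw [← hcomm b hbB c hc]; group
      rw [this]; exact ih hbB
  have h1 : cj g (Subgroup.zpowers z) ≤ H := hinv _ hchain
  have h2 : g * z * g⁻¹ ∈ H := by
    apply h1
    rw [mem_cj]
    have : g⁻¹ * (g * z * g⁻¹) * g = z := by group
    rw [this]
    exact Subgroup.mem_zpowers z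
  exact hg (hkey z g hzH hzord h2)

theorem backward [Finite G] (p : ℕ) [Fact p.Prime] (hnc : ¬ Cfsg.IsKConnected p 1 G) :
    ∃ H : Subgroup G, H ≠ ⊤ ∧ p ∣ Nat.card ↥H ∧
      ∀ g : G, g ∉ H → ¬ p ∣ Nat.card ↥(H ⊓ H.map (MulAut.conj g).toMonoidHom) := by
  have hp : p.Prime := Fact.out
  unfold Cfsg.IsKConnected at hnc
  push Not at hnc
  obtain ⟨E, E', hE1, hE2, hE'1, hE'2, hEE'⟩ := hnc
  change ¬ Relation.ReflTransGen (Rel p) E E' at hEE'
  -- the stabilizer of the connected component of E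
  let H : Subgroup G :=
    { carrier := {g | ∀ B : Subgroup G, Relation.ReflTransGen (Rel p) E B ↔
        Relation.ReflTransGen (Rel p) E (cj g B)}
      one_mem' := by
        intro B
        rw [cj_one]
      mul_mem' := by
        intro a b ha hb B
        rw [cj_mul, ← ha, ← hb]
      inv_mem' := by
        intro a ha B
        rw [ha (cj a⁻¹ B), cj_cj_inv] }
  have hmemH : ∀ g : G, g ∈ H ↔ ∀ B : Subgroup G, Relation.ReflTransGen (Rel p) E B ↔
        Relation.ReflTransGen (Rel p) E (cj g B) := fun g => Iff.rfl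
  -- criterion for membership
  have hcrit : ∀ g : G, Relation.ReflTransGen (Rel p) E (cj g E) → g ∈ H := by
    intro g hg
    rw [hmemH]
    intro B
    constructor
    · intro hB
      exact hg.trans (conn_cj g hB)
    · intro hB
      have h1 := conn_cj g⁻¹ hB
      rw [cj_inv_cj] at h1
      have h2 := conn_cj g⁻¹ hg
      rw [cj_inv_cj] at h2
      exact (conn_symm h2).trans h1
  have hEH : E ≤ H := by
    intro e he
    apply hcrit
    rw [cj_self he]
  have hEp : IsPGroup p E := vertex_isPGroup hE1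
  have hE'p : IsPGroup p E' := vertex_isPGroup hE'1
  refine ⟨H, ?_, ?_, ?_⟩
  · -- H ≠ ⊤
    intro htop
    apply hEE'
    obtain ⟨P, hP⟩ := hEp.exists_le_sylow
    obtain ⟨Q, hQ⟩ := hE'p.exists_le_sylow
    obtain ⟨g, hg⟩ := MulAction.exists_smul_eq G P Q
    have hgH : g ∈ H := by rw [htop]; exact Subgroup.mem_top g
    have h1 : Relation.ReflTransGen (Rel p) E (cj g E) := ((hmemH g).mp hgH E).mp
      Relation.ReflTransGen.refl
    have h2 : cj g E ≤ (Q : Subgroup G) := by
      intro x hx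
      rw [mem_cj] at hx
      have hx' := hP hx
      rw [← hg]
      exact (mem_sylow_smul g x P).mpr hx'
    have h3 := conn_of_le_pgroup (Q : Subgroup G) Q.isPGroup' (elab_map _ hE1)
      (by rw [card_cj]; exact hE2) hE'1 hE'2 h2 hQ
    exact h1.trans h3
  · -- p ∣ |H|
    obtain ⟨e, heE, he1⟩ := vertex_exists_ne_one (p := p) hE2
    have heord : orderOf e = p := orderOf_eq_prime (hE1.2 e heE) he1
    exact dvd_card_of_order_mem heord (hEH heE)
  · -- strongly embedded
    intro g hg hdvd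
    apply hg
    obtain ⟨x, hx⟩ := exists_prime_orderOf_dvd_card' p hdvd
    set z : G := (x : G) with hz
    have hzord : orderOf z = p := by rw [hz, Subgroup.orderOf_coe, hx]
    obtain ⟨hzH, hzgH⟩ := Subgroup.mem_inf.mp x.2
    have hzgH' : g⁻¹ * z * g ∈ H := mem_cj.mp hzgH
    -- claim: every element of order p in H generates a subgroup connected to E
    have hclaim : ∀ y : G, y ∈ H → orderOf y = p →
        Relation.ReflTransGen (Rel p) E (Subgroup.zpowers y) := by
      intro y hyH hyord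
      have hVy := zpowers_vertex hyord
      -- p-subgroups of H
      have hEH_p : IsPGroup p (E.subgroupOf H) := hEp.comap_subtype
      have hY_p : IsPGroup p ((Subgroup.zpowers y).subgroupOf H) :=
        (vertex_isPGroup hVy.1).comap_subtype
      obtain ⟨S, hS⟩ := hY_p.exists_le_sylow
      obtain ⟨S', hS'⟩ := hEH_p.exists_le_sylow
      obtain ⟨h, hh⟩ := MulAction.exists_smul_eq H S' S
      -- the image of S in G
      set P : Subgroup G := (S : Subgroup H).map H.subtype with hPdef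
      have hPp : IsPGroup p P := S.isPGroup'.map _
      have hyP : Subgroup.zpowers y ≤ P := by
        intro w hw
        have hwH : w ∈ H := by
          have : Subgroup.zpowers y ≤ H := by rw [Subgroup.zpowers_le]; exact hyH
          exact this hw
        exact ⟨⟨w, hwH⟩, hS (Subgroup.mem_subgroupOf.mpr hw), rfl⟩
      have hEP : cj (h : G) E ≤ P := by
        intro w hw
        rw [mem_cj] at hw
        have hwH : w ∈ H := by
          have h1 : (h : G)⁻¹ * w * (h : G) ∈ H := hEH hw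
          have : w = (h : G) * ((h : G)⁻¹ * w * (h : G)) * (h : G)⁻¹ := by group
          rw [this]
          exact mul_mem (mul_mem h.2 h1) (inv_mem h.2)
        refine ⟨⟨w, hwH⟩, ?_, rfl⟩
        have h1 : h⁻¹ * ⟨w, hwH⟩ * h ∈ (S' : Subgroup H) := by
          apply hS'
          rw [Subgroup.mem_subgroupOf]
          simpa using hw
        rw [← hh]
        exact (mem_sylow_smul h ⟨w, hwH⟩ S').mpr h1
      have h3 := conn_of_le_pgroup P hPp (elab_map _ hE1)
        (by rw [card_cj]; exact hE2) hVy.1 hVy.2 hEP hyP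
      have h4 : Relation.ReflTransGen (Rel p) E (cj (h : G) E) :=
        ((hmemH h).mp h.2 E).mp Relation.ReflTransGen.refl
      exact h4.trans h3
    have h1 := hclaim z hzH hzord
    have hzord' : orderOf (g⁻¹ * z * g) = p := by
      rw [orderOf_conj', hzord]
    have h2 := hclaim _ hzgH' hzord'
    have h3 := conn_cj g h2
    have h4 : cj g (Subgroup.zpowers (g⁻¹ * z * g)) = Subgroup.zpowers z := by
      show (Subgroup.zpowers (g⁻¹ * z * g)).map (MulAut.conj g).toMonoidHom = _
      rw [MonoidHom.map_zpowers]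
      congr 1
      simp [MulAut.conj_apply]; group
    rw [h4] at h3
    apply hcrit
    exact h1.trans (conn_symm h3)

theorem result {G : Type*} [Group G] [Finite G] (p : ℕ) [Fact p.Prime] : (∃ H : Subgroup G, H ≠ ⊤ ∧ p ∣ Nat.card ↥H ∧ ∀ g : G, g ∉ H → ¬ p ∣ Nat.card ↥(H ⊓ H.map (MulAut.conj g).toMonoidHom)) ↔ ¬ Cfsg.IsKConnected p 1 G := by
  constructor
  · rintro ⟨H, h1, h2, h3⟩
    exact forward p H h1 h2 h3
  · exact backward p

end Cfsg.Agent.S1336
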