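import Mathlib
import Cfsg.Statements.S1338
import Cfsg.Agent.S1337
import Cfsg.Agent.Lib.Helper45_NormalRank4
import Cfsg.Agent.Lib.Helper45_ThreeRank4

set_option autoImplicit false
open Cfsg

namespace Cfsg.Agent.S1338

open Cfsg.Agent.Lib.Helper45_NormalRank4 Cfsg.Agent.Lib.Helper45_ThreeRank4

theorem elemAb_comm {P : Type*} [Group P] {p : ℕ} {A : Subgroup P}
    (hA : Cfsg.IsElementaryAbelian p A) : ∀ a ∈ A, ∀ b ∈ A, a * b = b * a := fun a ha b hb =>
  congrArg Subtype.val (hA.1.is_comm.comm (⟨a, ha⟩ : A) ⟨b, hb⟩)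

/-- in a 3-group of rank at least 4, every elementary abelian subgroup of order at least 9 lies in
an elementary abelian subgroup of order greater than 9 -/
theorem exists_bigger {P : Type*} [Group P] [Finite P] (hP : IsPGroup 3 P)
    (hrk : ¬ Cfsg.PRankLE 3 3 P) (X : Subgroup P) (hX : Cfsg.IsElementaryAbelian 3 X)
    (hXcard : 3 ^ 2 ≤ Nat.card X) :
    ∃ Y : Subgroup P, X ≤ Y ∧ Cfsg.IsElementaryAbelian 3 Y ∧ 3 ^ 2 < Nat.card Y := by
  have hXc := elemAb_comm hX
  by_cases h9 : 3 ^ 2 < Nat.card X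
  · exact ⟨X, le_refl _, hX, h9⟩
  · have hX9 : Nat.card X = 9 := by
      norm_num at h9 hXcard ⊢
      omega
    unfold Cfsg.PRankLE at hrk
    push Not at hrk
    obtain ⟨A, hAc, hAe, hAcard⟩ := hrk
    have h81 : 3 ^ 4 ≤ Nat.card A := by
      obtain ⟨m, hm⟩ := (hP.to_subgroup A).exists_card_eq
      rw [hm] at hAcard ⊢
      have : 3 < m := (Nat.pow_lt_pow_iff_right (by norm_num)).mp hAcard
      exact Nat.pow_le_pow_right (by norm_num) this
    obtain ⟨A', hA'A, hA'card⟩ :=
      Sylow.exists_subgroup_le_card_pow_prime_of_le_card Nat.prime_three hP h81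
    have hAc' : ∀ a ∈ A, ∀ b ∈ A, a * b = b * a := fun a ha b hb =>
      congrArg Subtype.val (hAc.is_comm.comm (⟨a, ha⟩ : A) ⟨b, hb⟩)
    have : Fact (Nat.Prime 3) := ⟨Nat.prime_three⟩
    obtain ⟨B, hBn, hBc, hBe, hBcard⟩ := exists_normal_rank_four (p := 3) (by norm_num) hP A'
      (fun a ha b hb => hAc' a (hA'A ha) b (hA'A hb)) (fun a ha => hAe a (hA'A ha)) hA'card
    obtain ⟨b, hbX, hb3, hbc⟩ :=
      exists_centralizing_not_mem B hBc hBe (by rw [hBcard]; norm_num) X hXc hX.2 hX9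
    have hZ : Cfsg.IsElementaryAbelian 3 (Subgroup.zpowers b) := by
      refine ⟨inferInstance, ?_⟩
      intro a ha
      obtain ⟨k, rfl⟩ := Subgroup.mem_zpowers_iff.mp ha
      rw [← zpow_natCast, ← zpow_mul, mul_comm, zpow_mul, zpow_natCast, hb3, one_zpow]
    refine ⟨X ⊔ Subgroup.zpowers b, le_sup_left,
      Cfsg.Agent.S1337.sup_elemAb 3 X _ hX hZ ?_, ?_⟩
    · intro a ha c hc
      obtain ⟨k, rfl⟩ := Subgroup.mem_zpowers_iff.mp hc
      have hcomm : Commute a b := (hbc a ha).symm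
      exact hcomm.zpow_right k
    · by_contra hcon
      push Not at hcon
      have heq : X = X ⊔ Subgroup.zpowers b :=
        Subgroup.eq_of_le_of_card_ge le_sup_left (by rw [hX9]; exact hcon)
      apply hbX
      rw [heq]
      exact Subgroup.mem_sup_right (Subgroup.mem_zpowers b)

/-- in a 3-group of rank at least 4, centralizers of elementary abelian subgroups of order at
least 9 have rank at least 3 -/
theorem not_pRankLE_centralizer {P : Type*} [Group P] [Finite P] (hP : IsPGroup 3 P)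
    (hrk : ¬ Cfsg.PRankLE 3 3 P) (X : Subgroup P) (hX : Cfsg.IsElementaryAbelian 3 X)
    (hXcard : 3 ^ 2 ≤ Nat.card X) :
    ¬ Cfsg.PRankLE 3 2 ↥(Subgroup.centralizer (X : Set P)) := by
  obtain ⟨Y, hXY, hY, hYcard⟩ := exists_bigger hP hrk X hX hXcard
  intro hle
  have hYc := elemAb_comm hY
  have hYC : Y ≤ Subgroup.centralizer (X : Set P) := by
    intro y hy
    rw [Subgroup.mem_centralizer_iff]
    intro x hx
    exact hYc x (hXY hx) y hy
  have h := hle (Y.subgroupOf (Subgroup.centralizer (X : Set P)))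
    ⟨⟨fun a b => Subtype.ext (Subtype.ext (hYc a.1.1 a.2 b.1.1 b.2))⟩⟩
    (fun a ha => Subtype.ext (hY.2 a.1 ha))
  have hcard : Nat.card (Y.subgroupOf (Subgroup.centralizer (X : Set P))) = Nat.card Y :=
    Nat.card_congr (Subgroup.subgroupOfEquivOfLe hYC).toEquiv
  omega

/-- A finite 3-group of 3-rank at least 4 is 2-connected for the prime 3: its commuting graph on elementary abelian subgroups of order ≥ 9 is connected. -/
theorem result {P : Type*} [Group P] [Finite P] (hP : IsPGroup 3 P) (hrk : ¬ Cfsg.PRankLE 3 3 P) : Cfsg.IsKConnected 3 2 P := by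
  have : Fact (Nat.Prime 3) := ⟨Nat.prime_three⟩
  have hrk2 : ¬ Cfsg.PRankLE 3 2 P := by
    intro h
    apply hrk
    intro A hAc hAe
    exact (h A hAc hAe).trans (by norm_num)
  obtain ⟨U, hUn, hUe, hUcard, hU⟩ := Cfsg.Agent.S1337.result 3 hP hrk2
  intro E E' hE hEc hE' hE'c
  have h1 := (hU E hE hEc).mpr (not_pRankLE_centralizer hP hrk E hE hEc)
  have h2 := (hU E' hE' hE'c).mpr (not_pRankLE_centralizer hP hrk E' hE' hE'c)
  refine h1.trans ?_
  clear h1 hU hUn hUe hUcard
  induction h2 with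
  | refl => exact Relation.ReflTransGen.refl
  | tail _ hbc ih =>
    obtain ⟨hA, hAc, hB, hBc, hAB⟩ := hbc
    exact Relation.ReflTransGen.head
      ⟨hB, hBc, hA, hAc, fun a ha b hb => (hAB b hb a ha).symm⟩ ih

end Cfsg.Agent.S1338
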