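import Mathlib
import Cfsg.Statements.S1340
import Cfsg.Agent.Lib.Helper90_BlockSL
import Cfsg.Agent.Lib.Helper22_Quasisimple
import Cfsg.Agent.Lib.Helper1_Cores

set_option autoImplicit false
open Cfsg

namespace Cfsg.Agent.S1340


open Matrix Cfsg.Agent.Lib.Helper90_BlockSL
open scoped MatrixGroups

variable {F : Type*} [Field F] {m : ℕ}

variable (F m) in
/-- the ambient general linear group -/
abbrev GLn := Matrix.GeneralLinearGroup (Fin (m+1)) F

/-- the involution `diag(-1,…,-1,1)` in `GL` -/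
def tG : GLn F m :=
  ⟨dg (-1) 1, dg (-1) 1, by rw [dg_mul_dg]; simp [dg_one_one], by rw [dg_mul_dg]; simp [dg_one_one]⟩

theorem tG_coe : (tG : GLn F m).1 = dg (-1) 1 := rfl

theorem mem_centralizer_tG (h2 : (-1 : F) ≠ 1) {x : GLn F m} :
    x ∈ Subgroup.centralizer {(tG : GLn F m)} ↔ IsBlk x.1 := by
  rw [Subgroup.mem_centralizer_iff]
  simp only [Set.mem_singleton_iff, forall_eq]
  rw [← comm_dg_iff h2]
  constructor
  · intro h
    have := congrArg Units.val h
    simpa [tG_coe] using this.symm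
  · intro h
    apply Units.ext
    simpa [tG_coe] using h.symm

/-- block embedding of `SL_m` into `GL_{m+1}` -/
noncomputable def jG : Matrix.SpecialLinearGroup (Fin m) F →* GLn F m :=
  Matrix.SpecialLinearGroup.toGL.comp blk0

theorem jG_coe (A : Matrix.SpecialLinearGroup (Fin m) F) : (jG A : GLn F m).1 = blkM A.1 := rfl

theorem jG_injective : Function.Injective (jG : Matrix.SpecialLinearGroup (Fin m) F →* GLn F m) := by
  intro A B h
  apply Subtype.ext
  apply blkM_injective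
  have := congrArg Units.val h
  simpa [jG_coe] using this


/-- the centralizer of the involution -/
def CG : Subgroup (GLn F m) := Subgroup.centralizer {(tG : GLn F m)}

theorem mem_CG (h2 : (-1 : F) ≠ 1) {x : GLn F m} : x ∈ (CG : Subgroup (GLn F m)) ↔ IsBlk x.1 :=
  mem_centralizer_tG h2

/-- block embedding into the centralizer -/
noncomputable def jC (h2 : (-1 : F) ≠ 1) : Matrix.SpecialLinearGroup (Fin m) F →* ↥(CG : Subgroup (GLn F m)) :=
  jG.codRestrict CG (fun A => (mem_CG h2).2 (by rw [jG_coe]; exact isBlk_blkM _))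

theorem jC_coe (h2 : (-1 : F) ≠ 1) (A : Matrix.SpecialLinearGroup (Fin m) F) :
    ((jC h2 A : ↥(CG : Subgroup (GLn F m))) : GLn F m).1 = blkM A.1 := rfl

theorem jC_injective (h2 : (-1 : F) ≠ 1) : Function.Injective (jC (m := m) h2) := by
  intro A B h
  apply jG_injective
  exact congrArg Subtype.val h

theorem jC_range_normal (h2 : (-1 : F) ≠ 1) : ((jC (m := m) h2).range).Normal := by
  constructor
  rintro _ ⟨A, rfl⟩ z
  have hZ : IsBlk (z : GLn F m).1 := (mem_CG h2).1 z.2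
  have hZZi : (z : GLn F m).1 * ((z⁻¹ : ↥(CG : Subgroup (GLn F m))) : GLn F m).1 = 1 := by
    rw [← Units.val_mul, ← Subgroup.coe_mul, mul_inv_cancel]; rfl
  obtain ⟨Z, hZdef⟩ : ∃ Z, Z = (z : GLn F m).1 := ⟨_, rfl⟩
  obtain ⟨Zi, hZidef⟩ : ∃ Zi, Zi = ((z⁻¹ : ↥(CG : Subgroup (GLn F m))) : GLn F m).1 := ⟨_, rfl⟩
  obtain ⟨X, hXdef⟩ : ∃ X, X = ((z * jC h2 A * z⁻¹ : ↥(CG : Subgroup (GLn F m))) : GLn F m).1 := ⟨_, rfl⟩
  rw [← hZdef] at hZ hZZi
  rw [← hZidef] at hZZi
  have hX : X = Z * (blkM A.1 * Zi) := by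
    rw [hXdef, hZdef, hZidef]
    simp only [Subgroup.coe_mul, Units.val_mul, jC_coe, Matrix.mul_assoc]
  have hXb : IsBlk X := by
    rw [hXdef]; exact (mem_CG h2).1 (z * jC h2 A * z⁻¹).2
  have hXll : X (Fin.last m) (Fin.last m) = 1 := by
    rw [hX, isBlk_mul_ll hZ, isBlk_mul_ll (isBlk_blkM _), blkM_ll, one_mul, ← isBlk_mul_ll hZ, hZZi]
    simp
  have hXdet : X.det = 1 := by
    rw [hX, Matrix.det_mul, Matrix.det_mul, blkM_det, A.2, one_mul, ← Matrix.det_mul, hZZi, Matrix.det_one]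
  have hXe := eq_blkM_of_isBlk hXb hXll
  have hdet' : (X.submatrix Fin.castSucc Fin.castSucc).det = 1 := by
    rw [← blkM_det, ← hXe]; exact hXdet
  refine ⟨⟨_, hdet'⟩, ?_⟩
  apply Subtype.ext
  apply Units.ext
  rw [← hXdef]
  exact hXe.symm


theorem exists_sq_ne_one [Finite F] (hF : 4 ≤ Nat.card F) : ∃ a : F, a ≠ 0 ∧ a ^ 2 ≠ 1 := by
  obtain ⟨x, hx⟩ : IsCyclic Fˣ := by infer_instance
  refine ⟨x, Units.ne_zero x, fun h ↦ ?_⟩
  have h1 : orderOf x ≤ 2 := orderOf_le_of_pow_eq_one zero_lt_two (Units.ext <| by simpa using h)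
  have h2 : Nat.card Fˣ = orderOf x := (orderOf_eq_card_of_forall_mem_zpowers hx).symm
  have h3 := Nat.card_eq_card_units_add_one F
  omega

theorem isQuasisimple_SL2 [Finite F] (hF : 4 ≤ Nat.card F) :
    IsQuasisimple (Matrix.SpecialLinearGroup (Fin 2) F) := by
  obtain ⟨a, ha, hasq⟩ := exists_sq_ne_one hF
  exact ⟨⟨Matrix.SL2.commutator_eq_top ha hasq⟩, Matrix.ProjectiveSpecialLinearGroup.rank_two_simple hF⟩

theorem isQuasisimple_SLm [Finite F] (h2m : 2 ≤ m) (hF : m = 2 → 4 ≤ Nat.card F) :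
    IsQuasisimple (Matrix.SpecialLinearGroup (Fin m) F) := by
  rcases Nat.lt_or_ge m 3 with h | h
  · obtain rfl : m = 2 := by omega
    exact isQuasisimple_SL2 (hF rfl)
  · exact isQuasisimple_SL h

/-- an involution of `SL_{k+2}` -/
def invA (k : ℕ) : Matrix.SpecialLinearGroup (Fin (k+2)) F :=
  ⟨Matrix.diagonal (fun i : Fin (k+2) => if (i : ℕ) < 2 then (-1 : F) else 1), by
    rw [Matrix.det_diagonal, Fin.prod_univ_succ, Fin.prod_univ_succ]
    simp⟩

theorem invA_coe (k : ℕ) : (invA k : Matrix.SpecialLinearGroup (Fin (k+2)) F).1 =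
    Matrix.diagonal (fun i : Fin (k+2) => if (i : ℕ) < 2 then (-1 : F) else 1) := rfl

theorem invA_sq (k : ℕ) : (invA k : Matrix.SpecialLinearGroup (Fin (k+2)) F) * invA k = 1 := by
  apply Subtype.ext
  rw [Matrix.SpecialLinearGroup.coe_mul, invA_coe,
    Matrix.diagonal_mul_diagonal, Matrix.SpecialLinearGroup.coe_one, ← Matrix.diagonal_one]
  congr 1
  funext i
  by_cases h : (i : ℕ) < 2 <;> simp [h]

theorem invA_ne_one (h2 : (-1 : F) ≠ 1) (k : ℕ) : (invA k : Matrix.SpecialLinearGroup (Fin (k+2)) F) ≠ 1 := by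
  intro h
  have := congrFun (congrFun (congrArg Subtype.val h) 0) 0
  rw [invA_coe] at this
  simp at this
  exact h2 this


theorem tG_sq : (tG : GLn F m) ^ 2 = 1 := by
  apply Units.ext
  rw [pow_two, Units.val_mul, tG_coe, dg_mul_dg]
  simp [dg_one_one]

theorem tG_ne_one (h1 : 1 ≤ m) (h2 : (-1 : F) ≠ 1) : (tG : GLn F m) ≠ 1 := by
  intro h
  have := congrArg Units.val h
  rw [tG_coe, Units.val_one, ← dg_one_one] at this
  exact h2 (dg_injective h1 this).1

theorem tG_not_mem_center (h1 : 1 ≤ m) (h2 : (-1 : F) ≠ 1) :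
    (tG : GLn F m) ∉ Subgroup.center (GLn F m) := by
  intro hc
  have hne : (Fin.castSucc (⟨0, h1⟩ : Fin m) : Fin (m+1)) ≠ Fin.last m :=
    (Fin.castSucc_lt_last _).ne
  let x : GLn F m := Matrix.SpecialLinearGroup.toGL (Matrix.SpecialLinearGroup.transvection hne (1 : F))
  have hx : x ∈ Subgroup.centralizer {(tG : GLn F m)} := by
    rw [Subgroup.mem_centralizer_iff]
    simp only [Set.mem_singleton_iff, forall_eq]
    exact ((Subgroup.mem_center_iff.1 hc) x).symm
  have hb := ((mem_centralizer_tG h2).1 hx ⟨0, h1⟩).1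
  have : x.1 = (1 : Matrix (Fin (m+1)) (Fin (m+1)) F) + Matrix.single (Fin.castSucc ⟨0, h1⟩) (Fin.last m) 1 := rfl
  rw [this, Matrix.add_apply, Matrix.one_apply_ne hne, Matrix.single_apply_same, zero_add] at hb
  exact one_ne_zero hb


theorem hasComponent_CG [Finite F] (h2m : 2 ≤ m) (h2 : (-1 : F) ≠ 1) (hcard : m = 2 → 4 ≤ Nat.card F) :
    Cfsg.HasComponent (↥(CG : Subgroup (GLn F m)) ⧸ Cfsg.oddCore ↥(CG : Subgroup (GLn F m))) := by
  have hLn : ((jC (m := m) h2).range).Normal := jC_range_normal h2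
  have hLq : IsQuasisimple ↥((jC (m := m) h2).range) :=
    Cfsg.Agent.Lib.Helper29_Local.isQuasisimple_of_mulEquiv (MonoidHom.ofInjective (jC_injective h2))
      (isQuasisimple_SLm h2m hcard)
  have hcomp : IsComponent ((jC (m := m) h2).range) := ⟨hLn.isSubnormal, hLq⟩
  rcases Cfsg.Agent.Lib.Helper22_Quasisimple.IsComponent.map_eq_bot_or
    (f := QuotientGroup.mk' (Cfsg.oddCore ↥(CG : Subgroup (GLn F m))))
    (QuotientGroup.mk'_surjective _) hcomp with h | h
  · exfalso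
    rw [Subgroup.map_eq_bot_iff, QuotientGroup.ker_mk'] at h
    obtain ⟨k, rfl⟩ : ∃ k, m = k + 2 := ⟨m - 2, by omega⟩
    have hu : jC h2 (invA k) ∈ (jC (m := k + 2) h2).range := ⟨_, rfl⟩
    have hfact : Fact (Nat.Prime 2) := ⟨Nat.prime_two⟩
    have ho : orderOf (jC h2 (invA k)) = 2 := by
      apply orderOf_eq_prime
      · rw [pow_two, ← map_mul, invA_sq, map_one]
      · intro h1
        exact invA_ne_one h2 k (jC_injective h2 (h1.trans (map_one _).symm))
    have hdvd := Subgroup.orderOf_dvd_natCard _ (h hu)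
    rw [ho] at hdvd
    have hcop := Cfsg.Agent.Lib.Helper1_Cores.pPrimeCore_card_coprime (G := ↥(CG : Subgroup (GLn F (k+2)))) 2
    have := Nat.Coprime.eq_one_of_dvd hcop.symm hdvd
    omega
  · exact ⟨_, h.1, h.2⟩



/-- Let F be a finite field of odd order and n ≥ 3 with (n, |F|) ≠ (3, 3). Then GL(n, F) has a non-central involution t such that C(t) / O(C(t)) has a component. -/
theorem result {F : Type*} [Field F] [Fintype F] [DecidableEq F] (hF : Odd (Fintype.card F)) (n : ℕ) (hn : 3 ≤ n) (h33 : ¬ (n = 3 ∧ Fintype.card F = 3)) : ∃ t : Matrix.GeneralLinearGroup (Fin n) F, orderOf t = 2 ∧ t ∉ Subgroup.center (Matrix.GeneralLinearGroup (Fin n) F) ∧ Cfsg.HasComponent (↥(Subgroup.centralizer ({t} : Set (Matrix.GeneralLinearGroup (Fin n) F))) ⧸ Cfsg.oddCore ↥(Subgroup.centralizer ({t} : Set (Matrix.GeneralLinearGroup (Fin n) F)))) := by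
  obtain ⟨m, rfl⟩ : ∃ m, n = m + 1 := ⟨n - 1, by omega⟩
  have h2m : 2 ≤ m := by omega
  have h2 : (-1 : F) ≠ 1 := by
    intro h
    have h20 : (2 : ℕ) • (1 : F) = 0 := by
      rw [two_nsmul]
      calc (1 : F) + 1 = -1 + 1 := by rw [h]
        _ = 0 := by ring
    have : Fact (Nat.Prime 2) := ⟨Nat.prime_two⟩
    have ho : addOrderOf (1 : F) = 2 := addOrderOf_eq_prime h20 one_ne_zero
    have hdvd : 2 ∣ Fintype.card F := ho ▸ addOrderOf_dvd_card
    exact (Nat.not_even_iff_odd.2 hF) (even_iff_two_dvd.2 hdvd)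
  have hcard : m = 2 → 4 ≤ Nat.card F := by
    intro hm2
    rw [Nat.card_eq_fintype_card]
    have h1 : 1 < Fintype.card F := Fintype.one_lt_card
    have h3 : Fintype.card F ≠ 3 := fun h => h33 ⟨by omega, h⟩
    obtain ⟨k, hk⟩ := hF
    omega
  refine ⟨tG, orderOf_eq_prime tG_sq (tG_ne_one (by omega) h2), tG_not_mem_center (by omega) h2, ?_⟩
  exact hasComponent_CG h2m h2 hcard

end Cfsg.Agent.S1340
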