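import Cfsg.Statements.S1341
import Cfsg.Agent.Lib.Helper23_Layer

set_option autoImplicit false
open Cfsg
open Cfsg.Agent.Lib.Helper23_Layer

namespace Cfsg.Agent.S1341

/-- `L ⊔ O_{2',2}` normalizes `L ⊔ O ⊔ O(C_X(T))`. -/
theorem le_normalizer_aux {X : Type*} [Group X] [Finite X] (N : Subgroup X)
    (hN1 : Cfsg.pPrimePCore 2 X ≤ N) (hN2 : N ≤ Cfsg.pLayer 2 X ⊔ Cfsg.pPrimePCore 2 X)
    (T : Sylow 2 ↥N) :
    N ≤ Subgroup.normalizer
      ((Cfsg.pLayer 2 X ⊔ Cfsg.oddCore X ⊔ relCore 2 (Subgroup.centralizer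
        (((T : Subgroup ↥N).map N.subtype : Subgroup X) : Set X)) : Subgroup X) : Set X) := by
  set TX : Subgroup X := (T : Subgroup ↥N).map N.subtype with hTX
  set D := relCore 2 (Subgroup.centralizer (TX : Set X)) with hD
  set W := Cfsg.pLayer 2 X ⊔ Cfsg.oddCore X ⊔ D with hW
  have hLW : Cfsg.pLayer 2 X ≤ W := le_sup_of_le_left le_sup_left
  have hOW : Cfsg.oddCore X ≤ W := le_sup_of_le_left le_sup_right
  have hWn : W ≤ Subgroup.normalizer (W : Set X) := Subgroup.le_normalizer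
  have hT : TX ≤ Subgroup.normalizer (W : Set X) := by
    intro t ht
    apply mem_normalizer_of_cj_eq
    have hcD : cj t D = D := by
      apply cj_eq_of_centralizes
      intro d hd
      have hd' : d ∈ Subgroup.centralizer (TX : Set X) := relCore_le 2 _ hd
      rw [Subgroup.mem_centralizer_iff] at hd'
      have := hd' t ht
      rw [this]; group
    rw [hW, cj, Subgroup.map_sup, Subgroup.map_sup]
    have h1 : cj t (pLayer 2 X) = pLayer 2 X := cj_eq_of_normal t _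
    have h2 : cj t (oddCore X) = oddCore X := cj_eq_of_normal t _
    rw [show Subgroup.map (MulAut.conj t).toMonoidHom (pLayer 2 X) = pLayer 2 X from h1,
      show Subgroup.map (MulAut.conj t).toMonoidHom (oddCore X) = oddCore X from h2,
      show Subgroup.map (MulAut.conj t).toMonoidHom D = D from hcD]
  have hR : Cfsg.pPrimePCore 2 X ≤ Cfsg.pPrimeCore 2 X ⊔ TX :=
    pPrimePCore_le_sup_sylow 2 N hN1 T
  exact hN2.trans (sup_le (hLW.trans hWn) (hR.trans (sup_le (hOW.trans hWn) hT)))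

theorem result {X : Type*} [Group X] [Finite X] (T : Sylow 2 ↥(Cfsg.pLayer 2 X ⊔ Cfsg.pPrimePCore 2 X)) : Cfsg.extendedTwoLayer X = Cfsg.pLayer 2 X ⊔ Cfsg.oddCore X ⊔ ((Cfsg.oddCore ↥(Subgroup.centralizer (((T : Subgroup ↥(Cfsg.pLayer 2 X ⊔ Cfsg.pPrimePCore 2 X)).map (Cfsg.pLayer 2 X ⊔ Cfsg.pPrimePCore 2 X).subtype : Subgroup X) : Set X))).map (Subgroup.centralizer (((T : Subgroup ↥(Cfsg.pLayer 2 X ⊔ Cfsg.pPrimePCore 2 X)).map (Cfsg.pLayer 2 X ⊔ Cfsg.pPrimePCore 2 X).subtype : Subgroup X) : Set X)).subtype) := by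
  apply le_antisymm
  · unfold extendedTwoLayer
    refine sup_le le_sup_left ?_
    apply iSup_le
    intro T'
    obtain ⟨n, hnN, hn⟩ := sylow_exists_cj (Cfsg.pLayer 2 X ⊔ Cfsg.pPrimePCore 2 X) T T'
    have h1 := relCore_cj 2 n (Subgroup.centralizer
      (((T : Subgroup ↥(pLayer 2 X ⊔ pPrimePCore 2 X)).map
          (pLayer 2 X ⊔ pPrimePCore 2 X).subtype : Subgroup X) : Set X))
    rw [cj_centralizer, ← hn] at h1
    change relCore 2 _ ≤ _
    rw [← h1]
    have h2 := cj_eq_of_mem_normalizer (le_normalizer_aux _ le_sup_right le_rfl T hnN)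
    have h3 : cj n (relCore 2 (Subgroup.centralizer
      (((T : Subgroup ↥(pLayer 2 X ⊔ pPrimePCore 2 X)).map
          (pLayer 2 X ⊔ pPrimePCore 2 X).subtype : Subgroup X) : Set X))) ≤
        cj n (Cfsg.pLayer 2 X ⊔ Cfsg.oddCore X ⊔ relCore 2 (Subgroup.centralizer
        (((T : Subgroup ↥(Cfsg.pLayer 2 X ⊔ Cfsg.pPrimePCore 2 X)).map
          (Cfsg.pLayer 2 X ⊔ Cfsg.pPrimePCore 2 X).subtype : Subgroup X) : Set X))) :=
      Subgroup.map_mono le_sup_right
    rw [h2] at h3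
    exact h3
  · unfold extendedTwoLayer
    refine sup_le le_sup_left ?_
    refine le_trans ?_ le_sup_right
    exact le_iSup (fun T' : Sylow 2 ↥(pLayer 2 X ⊔ pPrimePCore 2 X) =>
      ((oddCore ↥(Subgroup.centralizer (((T' : Subgroup ↥(pLayer 2 X ⊔ pPrimePCore 2 X)).map
          (pLayer 2 X ⊔ pPrimePCore 2 X).subtype : Subgroup X) : Set X))).map
        (Subgroup.centralizer (((T' : Subgroup ↥(pLayer 2 X ⊔ pPrimePCore 2 X)).map
          (pLayer 2 X ⊔ pPrimePCore 2 X).subtype : Subgroup X) : Set X)).subtype)) T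

end Cfsg.Agent.S1341
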