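import Cfsg.Statements.S1342
import Cfsg.Agent.Lib.Helper23_Layer

set_option autoImplicit false
open Cfsg
open Cfsg.Agent.Lib.Helper23_Layer

namespace Cfsg.Agent.S1342

theorem cj_extendedTwoLayer_le {X : Type*} [Group X] [Finite X] (g : X) :
    cj g (Cfsg.extendedTwoLayer X) ≤ Cfsg.extendedTwoLayer X := by
  unfold extendedTwoLayer
  rw [cj, Subgroup.map_sup, Subgroup.map_sup, Subgroup.map_iSup]
  refine sup_le (sup_le ?_ ?_) ?_
  · have : cj g (pLayer 2 X) = pLayer 2 X := cj_eq_of_normal g _
    rw [show Subgroup.map (MulAut.conj g).toMonoidHom (pLayer 2 X) = pLayer 2 X from this]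
    exact le_sup_of_le_left le_sup_left
  · have : cj g (oddCore X) = oddCore X := cj_eq_of_normal g _
    rw [show Subgroup.map (MulAut.conj g).toMonoidHom (oddCore X) = oddCore X from this]
    exact le_sup_of_le_left le_sup_right
  · apply iSup_le
    intro T
    refine le_trans ?_ le_sup_right
    refine le_trans ?_ (le_iSup _ (MulAut.conjNormal (H := pLayer 2 X ⊔ pPrimePCore 2 X) g • T))
    apply le_of_eq
    have h1 := relCore_cj 2 g (Subgroup.centralizer
      (((T : Subgroup ↥(pLayer 2 X ⊔ pPrimePCore 2 X)).map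
          (pLayer 2 X ⊔ pPrimePCore 2 X).subtype : Subgroup X) : Set X))
    rw [cj_centralizer, ← sylow_conjNormal_map] at h1
    exact h1

theorem result {X : Type*} [Group X] [Finite X] : (Cfsg.extendedTwoLayer X).Normal := by
  constructor
  intro n hn g
  exact cj_extendedTwoLayer_le g (conj_mem_cj hn)

end Cfsg.Agent.S1342
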