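import Cfsg.Statements.S1343
import Cfsg.Agent.Lib.Helper23_Layer
import Cfsg.Agent.S1341

set_option autoImplicit false
open Cfsg
open Cfsg.Agent.Lib.Helper23_Layer

namespace Cfsg.Agent.S1343

theorem result {X : Type*} [Group X] [Finite X] : ∃ F : Subgroup X, Odd (Nat.card ↥F) ∧ (∃ S : Sylow 2 X, (S : Subgroup X) ≤ Subgroup.normalizer (F : Set X)) ∧ Cfsg.extendedTwoLayer X = Cfsg.pLayer 2 X ⊔ F := by
  obtain ⟨T⟩ : Nonempty (Sylow 2 ↥(Cfsg.pLayer 2 X ⊔ Cfsg.pPrimePCore 2 X)) := inferInstance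
  have hTXp : IsPGroup 2 (((T : Subgroup ↥(Cfsg.pLayer 2 X ⊔ Cfsg.pPrimePCore 2 X)).map
      (Cfsg.pLayer 2 X ⊔ Cfsg.pPrimePCore 2 X).subtype : Subgroup X)) := T.isPGroup'.map _
  obtain ⟨S, hS⟩ := hTXp.exists_le_sylow
  refine ⟨Cfsg.oddCore X ⊔ relCore 2 (Subgroup.centralizer
      (((T : Subgroup ↥(Cfsg.pLayer 2 X ⊔ Cfsg.pPrimePCore 2 X)).map
      (Cfsg.pLayer 2 X ⊔ Cfsg.pPrimePCore 2 X).subtype : Subgroup X) : Set X)), ?_, ⟨S, ?_⟩, ?_⟩
  · -- odd order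
    apply Nat.Coprime.odd_of_right
    refine Nat.Coprime.coprime_dvd_left (card_sup_dvd _ _) ?_
    apply Nat.Coprime.mul_left
    · exact pPrimeCore_coprime 2
    · rw [card_relCore]
      exact pPrimeCore_coprime 2
  · -- normalized by S
    -- first: TX = S ⊓ N
    have hTS : (T : Subgroup ↥(Cfsg.pLayer 2 X ⊔ Cfsg.pPrimePCore 2 X)) =
        (S : Subgroup X).subgroupOf (Cfsg.pLayer 2 X ⊔ Cfsg.pPrimePCore 2 X) := by
      have hQ : IsPGroup 2 ((S : Subgroup X).subgroupOf (Cfsg.pLayer 2 X ⊔ Cfsg.pPrimePCore 2 X)) :=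
        S.isPGroup'.comap_subtype
      have hle : (T : Subgroup ↥(Cfsg.pLayer 2 X ⊔ Cfsg.pPrimePCore 2 X)) ≤
          (S : Subgroup X).subgroupOf (Cfsg.pLayer 2 X ⊔ Cfsg.pPrimePCore 2 X) := by
        intro t ht
        rw [Subgroup.mem_subgroupOf]
        exact hS ⟨t, ht, rfl⟩
      exact (T.is_maximal' hQ hle).symm
    have hTX : ((T : Subgroup ↥(Cfsg.pLayer 2 X ⊔ Cfsg.pPrimePCore 2 X)).map
        (Cfsg.pLayer 2 X ⊔ Cfsg.pPrimePCore 2 X).subtype : Subgroup X) =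
        (S : Subgroup X) ⊓ (Cfsg.pLayer 2 X ⊔ Cfsg.pPrimePCore 2 X) := by
      rw [hTS, Subgroup.subgroupOf_map_subtype]
    intro s hs
    apply mem_normalizer_of_cj_eq
    have hcTX : cj s ((S : Subgroup X) ⊓ (Cfsg.pLayer 2 X ⊔ Cfsg.pPrimePCore 2 X)) =
        (S : Subgroup X) ⊓ (Cfsg.pLayer 2 X ⊔ Cfsg.pPrimePCore 2 X) := by
      have hNn : (Cfsg.pLayer 2 X ⊔ Cfsg.pPrimePCore 2 X).Normal := inferInstance
      ext x
      rw [mem_cj, Subgroup.mem_inf, Subgroup.mem_inf]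
      constructor
      · rintro ⟨h1, h2⟩
        constructor
        · have : x = s * (s⁻¹ * x * s) * s⁻¹ := by group
          rw [this]
          exact mul_mem (mul_mem hs h1) (inv_mem hs)
        · have := hNn.conj_mem _ h2 s
          have h3 : s * (s⁻¹ * x * s) * s⁻¹ = x := by group
          rwa [h3] at this
      · rintro ⟨h1, h2⟩
        constructor
        · exact mul_mem (mul_mem (inv_mem hs) h1) hs
        · have := hNn.conj_mem _ h2 s⁻¹
          rwa [inv_inv] at this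
    have hcD := relCore_cj 2 s (Subgroup.centralizer
      (((T : Subgroup ↥(Cfsg.pLayer 2 X ⊔ Cfsg.pPrimePCore 2 X)).map
      (Cfsg.pLayer 2 X ⊔ Cfsg.pPrimePCore 2 X).subtype : Subgroup X) : Set X))
    rw [cj_centralizer, hTX, hcTX, ← hTX] at hcD
    rw [cj, Subgroup.map_sup]
    have h2 : cj s (oddCore X) = oddCore X := cj_eq_of_normal s _
    rw [show Subgroup.map (MulAut.conj s).toMonoidHom (oddCore X) = oddCore X from h2]
    congr 1
  · rw [Cfsg.Agent.S1341.result T, sup_assoc]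
    rfl

end Cfsg.Agent.S1343
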