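import Cfsg.Statements.S1344
import Cfsg.Agent.Lib.Helper23_PComp

set_option autoImplicit false
open Cfsg

namespace Cfsg.Agent.S1344

/-- Let K be a 2-component of the finite group X. Then K ≤ L*_{2'}(X) and K is normal in L*_{2'}(X). -/
theorem result {X : Type*} [Group X] [Finite X] (K : Subgroup X) (hK : Cfsg.IsPComponent 2 K) : K ≤ Cfsg.extendedTwoLayer X ∧ (K.subgroupOf (Cfsg.extendedTwoLayer X)).Normal := by
  have hKL : K ≤ Cfsg.pLayer 2 X := le_sSup hK
  have hle : K ≤ Cfsg.extendedTwoLayer X := by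
    unfold Cfsg.extendedTwoLayer
    exact hKL.trans (le_sup_of_le_left le_sup_left)
  refine ⟨hle, ?_⟩
  rw [Subgroup.normal_subgroupOf_iff_le_normalizer hle]
  unfold Cfsg.extendedTwoLayer
  refine sup_le (sup_le ?_ ?_) ?_
  · exact Cfsg.Agent.Lib.Helper23_PComp.pLayer_le_normalizer 2 hK
  · exact Cfsg.Agent.Lib.Helper23_PComp.pPrimeCore_le_normalizer 2 hK
  · apply iSup_le
    intro T
    refine le_trans (Subgroup.map_subtype_le _) ?_
    exact Cfsg.Agent.Lib.Helper23_PComp.centralizer_sylow_le_normalizer 2 hK _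
      (hKL.trans le_sup_left) T


end Cfsg.Agent.S1344
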