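import Mathlib
import Cfsg.Statements.S1348
import Cfsg.Agent.Lib.Helper90_BlockSL

set_option autoImplicit false
open Cfsg

namespace Cfsg.Agent.S1348

/-- Let F be a finite field of odd order, n ≥ 7 odd, and t ∈ SL(n, F) the diagonal matrix with entries −1, …, −1, 1. Then E(C(t)) is a standard subgroup of SL(n, F). -/
theorem result {F : Type*} [Field F] [Fintype F] [DecidableEq F] (hF : Odd (Fintype.card F)) (n : ℕ) (hn : 7 ≤ n) (hodd : Odd n) (t : Matrix.SpecialLinearGroup (Fin n) F) (ht : (t : Matrix (Fin n) (Fin n) F) = Matrix.diagonal (fun i : Fin n => if (i : ℕ) + 1 = n then (1 : F) else -1)) : Cfsg.IsStandardSubgroup ((Cfsg.layer ↥(Subgroup.centralizer ({t} : Set (Matrix.SpecialLinearGroup (Fin n) F)))).map (Subgroup.centralizer ({t} : Set (Matrix.SpecialLinearGroup (Fin n) F))).subtype) := by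
  obtain ⟨m, rfl⟩ : ∃ m, n = m + 1 := ⟨n - 1, by omega⟩
  have hm : Even m := by
    obtain ⟨k, hk⟩ := hodd
    exact ⟨k, by omega⟩
  have h3 : 3 ≤ m := by omega
  have h2 : (-1 : F) ≠ 1 := by
    intro h
    have h20 : (2 : ℕ) • (1 : F) = 0 := by
      rw [two_nsmul]
      calc (1 : F) + 1 = -1 + 1 := by rw [h]
        _ = 0 := by ring
    have : Fact (Nat.Prime 2) := ⟨Nat.prime_two⟩
    have ho : addOrderOf (1 : F) = 2 := addOrderOf_eq_prime h20 one_ne_zero
    have hdvd : 2 ∣ Fintype.card F := ho ▸ addOrderOf_dvd_card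
    exact (Nat.not_even_iff_odd.2 hF) (even_iff_two_dvd.2 hdvd)
  have ht0 : t = Cfsg.Agent.Lib.Helper90_BlockSL.t0 hm := by
    apply Subtype.ext
    rw [ht, Cfsg.Agent.Lib.Helper90_BlockSL.t0_coe]
    unfold Cfsg.Agent.Lib.Helper90_BlockSL.dg
    congr 1
    funext i
    induction i using Fin.lastCases with
    | last => simp
    | cast i =>
      have : (i : ℕ) ≠ m := Nat.ne_of_lt i.2
      simp [this]
  subst ht0
  have hC := Cfsg.Agent.Lib.Helper90_BlockSL.centralizer_t0 (F := F) hm h2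
  have key : ∀ C : Subgroup (Matrix.SpecialLinearGroup (Fin (m+1)) F),
      C = Cfsg.Agent.Lib.Helper90_BlockSL.Cb →
        Cfsg.IsStandardSubgroup ((Cfsg.layer ↥C).map C.subtype) := by
    rintro C rfl
    rw [Cfsg.Agent.Lib.Helper90_BlockSL.layer_Cb h3]
    exact Cfsg.Agent.Lib.Helper90_BlockSL.isStandardSubgroup_Lmap hm h3 h2
  exact key _ hC

end Cfsg.Agent.S1348
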