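import Cfsg.Statements.S1349
import Cfsg.Agent.S1324
import Cfsg.Agent.Lib.Helper1_Cores
import Cfsg.Agent.Lib.Helper55_Fitting
import Cfsg.Agent.Lib.Helper24_Coprime
import Cfsg.Agent.Lib.Helper4_DihedralIso

set_option autoImplicit false
open Cfsg

namespace Cfsg.Agent.S1349

open Cfsg.Agent.Lib.Helper24_Coprime

section
variable {G : Type*} [Group G]

/-- conjugation by an element of the normalizer, as an automorphism of the subgroup -/
def conjEquiv (L : Subgroup G) (a : G) (ha : a ∈ Subgroup.normalizer (L : Set G)) : ↥L ≃* ↥L where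
  toFun y := ⟨a * y * a⁻¹, (Subgroup.mem_normalizer_iff.mp ha y).mp y.2⟩
  invFun y := ⟨a⁻¹ * y * a, by
    have := (Subgroup.mem_normalizer_iff.mp (inv_mem ha) y).mp y.2
    simpa using this⟩
  left_inv y := by apply Subtype.ext; simp [mul_assoc]
  right_inv y := by apply Subtype.ext; simp [mul_assoc]
  map_mul' x y := by apply Subtype.ext; simp [mul_assoc]

theorem conjEquiv_coe (L : Subgroup G) (a : G) (ha : a ∈ Subgroup.normalizer (L : Set G)) (y : ↥L) :
    ((conjEquiv L a ha y : ↥L) : G) = a * y * a⁻¹ := rfl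

theorem fitting_conj_mem [Finite G] (L : Subgroup G) (a : G)
    (ha : a ∈ Subgroup.normalizer (L : Set G)) (y : ↥L) (hy : y ∈ Cfsg.fittingSubgroup ↥L) :
    conjEquiv L a ha y ∈ Cfsg.fittingSubgroup ↥L := by
  set φ := conjEquiv L a ha
  set N := (Cfsg.fittingSubgroup ↥L).map φ.toMonoidHom with hN
  have hnorm : N.Normal :=
    Subgroup.Normal.map Lib.Helper1_Cores.fittingSubgroup_normal φ.toMonoidHom φ.surjective
  have hnil : Group.IsNilpotent ↥N := by
    have : Group.IsNilpotent ↥(Cfsg.fittingSubgroup ↥L) := Lib.Helper1_Cores.fittingSubgroup_isNilpotent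
    exact Group.nilpotent_of_mulEquiv
      ((Cfsg.fittingSubgroup ↥L).equivMapOfInjective φ.toMonoidHom φ.injective)
  have hle := Lib.Helper1_Cores.le_fittingSubgroup hnorm hnil
  apply hle
  exact Subgroup.mem_map_of_mem _ hy

theorem exists_fitting [Finite G] (L A : Subgroup G)
    (hLs : Group.IsSolvable ↥L) (hLodd : Odd (Nat.card ↥L))
    (hA2 : ∀ a ∈ A, a ^ 2 = 1)
    (hAL : A ≤ Subgroup.normalizer (L : Set G))
    (hfaith : A ⊓ Subgroup.centralizer (L : Set G) = ⊥) :
    ∃ F : Subgroup G, F ≤ L ∧ Group.IsNilpotent ↥F ∧ A ≤ Subgroup.normalizer (F : Set G) ∧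
      A ⊓ Subgroup.centralizer (F : Set G) = ⊥ := by
  set F0 := Cfsg.fittingSubgroup ↥L with hF0
  set F := F0.map L.subtype with hF
  have hFL : F ≤ L := Subgroup.map_subtype_le _
  have hmemF : ∀ x : G, x ∈ F ↔ ∃ h : x ∈ L, (⟨x, h⟩ : ↥L) ∈ F0 := by
    intro x
    constructor
    · rintro ⟨y, hy, rfl⟩
      exact ⟨y.2, hy⟩
    · rintro ⟨h, hy⟩
      exact ⟨⟨x, h⟩, hy, rfl⟩
  have hconjA : ∀ a ∈ A, ∀ f ∈ F, a * f * a⁻¹ ∈ F := by
    intro a ha f hf
    obtain ⟨hfL, hf0⟩ := (hmemF f).mp hf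
    have := fitting_conj_mem L a (hAL ha) ⟨f, hfL⟩ hf0
    exact (hmemF _).mpr ⟨_, this⟩
  have hconjL : ∀ l ∈ L, ∀ f ∈ F, l * f * l⁻¹ ∈ F := by
    intro l hl f hf
    obtain ⟨hfL, hf0⟩ := (hmemF f).mp hf
    have hn : F0.Normal := Lib.Helper1_Cores.fittingSubgroup_normal
    have := hn.conj_mem ⟨f, hfL⟩ hf0 ⟨l, hl⟩
    exact (hmemF _).mpr ⟨_, this⟩
  refine ⟨F, hFL, ?_, ?_, ?_⟩
  · have : Group.IsNilpotent ↥F0 := Lib.Helper1_Cores.fittingSubgroup_isNilpotent
    exact Group.nilpotent_of_mulEquiv (F0.equivMapOfInjective L.subtype L.subtype_injective)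
  · intro a ha
    rw [Subgroup.mem_normalizer_iff]
    intro h
    constructor
    · exact hconjA a ha h
    · intro hh
      have := hconjA a⁻¹ (inv_mem ha) _ hh
      simpa [mul_assoc] using this
  · rw [eq_bot_iff]
    intro a ha
    rw [← hfaith]
    have haF := Subgroup.mem_centralizer_iff.mp ha.2
    refine Subgroup.mem_inf.mpr ⟨ha.1, ?_⟩
    rw [Subgroup.mem_centralizer_iff]
    intro x hx
    -- c = [a, x] centralizes F, hence lies in F
    have haN := hAL ha.1
    have hcL : a * x * a⁻¹ * x⁻¹ ∈ L :=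
      mul_mem ((Subgroup.mem_normalizer_iff.mp haN x).mp hx) (inv_mem hx)
    have hccent : ∀ f ∈ F, f * (a * x * a⁻¹ * x⁻¹) * f⁻¹ = a * x * a⁻¹ * x⁻¹ := by
      intro f hf
      apply conj_commutator_eq a f x (haF f hf).symm
      have hxf : x⁻¹ * f * x ∈ F := by
        have := hconjL x⁻¹ (inv_mem hx) f hf
        simpa using this
      exact (haF _ hxf).symm
    have hcF : a * x * a⁻¹ * x⁻¹ ∈ F := by
      rw [hmemF]
      refine ⟨hcL, ?_⟩
      have : Group.IsSolvable ↥L := hLs
      apply Lib.Helper55_Fitting.centralizer_fittingSubgroup_le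
      rw [Subgroup.mem_centralizer_iff]
      intro f hf
      apply Subtype.ext
      have hfF : (f : G) ∈ F := (hmemF _).mpr ⟨f.2, hf⟩
      have := hccent f hfF
      show (f : G) * (a * x * a⁻¹ * x⁻¹) = (a * x * a⁻¹ * x⁻¹) * f
      calc (f : G) * (a * x * a⁻¹ * x⁻¹) = ((f : G) * (a * x * a⁻¹ * x⁻¹) * (f : G)⁻¹) * f := by group
        _ = (a * x * a⁻¹ * x⁻¹) * f := by rw [this]
    have hac : a * (a * x * a⁻¹ * x⁻¹) = (a * x * a⁻¹ * x⁻¹) * a := (haF _ hcF).symm
    have hpow : (a * x * a⁻¹ * x⁻¹) ^ Nat.card ↥L = 1 := by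
      have h1 : (⟨a * x * a⁻¹ * x⁻¹, hcL⟩ : ↥L) ^ Nat.card ↥L = 1 := pow_card_eq_one'
      have h2 := congrArg (Subtype.val : ↥L → G) h1
      rw [Subgroup.coe_pow, Subgroup.coe_one] at h2
      exact h2
    have hcop : (orderOf a).Coprime (Nat.card ↥L) := by
      have h2 : orderOf a ∣ 2 := orderOf_dvd_of_pow_eq_one (hA2 a ha.1)
      exact Nat.Coprime.coprime_dvd_left h2 (Nat.coprime_two_left.mpr hLodd)
    exact (commute_of_coprime_commutator a x hac _ hpow hcop).symm

theorem eigen_core (A F B' : Subgroup G) (hAc : ∀ a ∈ A, ∀ c ∈ A, a * c = c * a)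
    (hA2 : ∀ a ∈ A, a ^ 2 = 1) (hAF : A ≤ Subgroup.normalizer (F : Set G)) (b : G) (hb : b ∈ A)
    (hB'A : B' ≤ A) (hB' : ∀ a ∈ A, a ∈ B' ∨ a * b ∈ B')
    (l : G) (hlF : l ∈ F) (hlB : l ∈ Subgroup.centralizer (B' : Set G)) (hl : b * l ≠ l * b) :
    ∃ x ∈ F, x ≠ 1 ∧ (∀ a ∈ A, a * x * a⁻¹ = x ∨ a * x * a⁻¹ = x⁻¹) ∧ b * x * b⁻¹ = x⁻¹ := by
  have hbb : b * b = 1 := by rw [← pow_two]; exact hA2 b hb
  have hbinv : b⁻¹ = b := inv_eq_of_mul_eq_one_left hbb
  set x : G := l⁻¹ * (b * l * b⁻¹) with hx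
  have hblF : b * l * b⁻¹ ∈ F := (Subgroup.mem_normalizer_iff.mp (hAF hb) l).mp hlF
  have hbx : b * x * b⁻¹ = x⁻¹ := by
    have h1 : b * x * b⁻¹ = (b * l⁻¹ * b⁻¹) * ((b * b) * l * (b * b)⁻¹) := by rw [hx]; group
    rw [h1, hbb, hx]; group
  have hcx : ∀ c ∈ B', c * x * c⁻¹ = x := by
    intro c hc
    have h1 : l * c = c * l := ((Subgroup.mem_centralizer_iff.mp hlB) c hc).symm
    have h2 : c * b = b * c := hAc c (hB'A hc) b hb
    have h3 : c * l⁻¹ = l⁻¹ * c := by
      calc c * l⁻¹ = l⁻¹ * (l * c) * l⁻¹ := by group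
        _ = l⁻¹ * (c * l) * l⁻¹ := by rw [h1]
        _ = l⁻¹ * c := by group
    have h4 : c * b⁻¹ = b⁻¹ * c := by rw [hbinv]; exact h2
    rw [hx]
    calc c * (l⁻¹ * (b * l * b⁻¹)) * c⁻¹ = (c * l⁻¹) * b * l * b⁻¹ * c⁻¹ := by group
      _ = l⁻¹ * (c * b) * l * b⁻¹ * c⁻¹ := by rw [h3]; group
      _ = l⁻¹ * b * (c * l) * b⁻¹ * c⁻¹ := by rw [h2]; group
      _ = l⁻¹ * b * l * (c * b⁻¹) * c⁻¹ := by rw [← h1]; group
      _ = l⁻¹ * (b * l * b⁻¹) := by rw [h4]; group
  refine ⟨x, mul_mem (inv_mem hlF) hblF, ?_, ?_, hbx⟩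
  · intro h1
    apply hl
    have h2 : b * l * b⁻¹ = l := by
      have : l * x = l := by rw [h1, mul_one]
      rw [hx] at this
      calc b * l * b⁻¹ = l * (l⁻¹ * (b * l * b⁻¹)) := by group
        _ = l := this
    calc b * l = (b * l * b⁻¹) * b := by group
      _ = l * b := by rw [h2]
  · intro a ha
    rcases hB' a ha with h | h
    · exact Or.inl (hcx a h)
    · right
      have h1 := hcx (a * b) h
      have h2 : a * b * x * (a * b)⁻¹ = a * (b * x * b⁻¹) * a⁻¹ := by group
      rw [h2, hbx] at h1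
      -- a x⁻¹ a⁻¹ = x
      calc a * x * a⁻¹ = (a * x⁻¹ * a⁻¹)⁻¹ := by group
        _ = x⁻¹ := by rw [h1]

theorem exists_eigen [Finite G] (A F : Subgroup G) (hAe : Cfsg.IsElementaryAbelian 2 A)
    (hFodd : Odd (Nat.card ↥F)) (hAF : A ≤ Subgroup.normalizer (F : Set G)) (b : G) (hb : b ∈ A)
    (hbF : ¬ ∀ x ∈ F, b * x = x * b) :
    ∃ x ∈ F, x ≠ 1 ∧ (∀ a ∈ A, a * x * a⁻¹ = x ∨ a * x * a⁻¹ = x⁻¹) ∧ b * x * b⁻¹ = x⁻¹ := by
  classical
  obtain ⟨hAcomm, hA2⟩ := hAe
  have hAc : ∀ a ∈ A, ∀ c ∈ A, a * c = c * a := by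
    intro a ha c hc
    have := hAcomm.is_comm.comm ⟨a, ha⟩ ⟨c, hc⟩
    exact congrArg Subtype.val this
  have hb1 : b ≠ 1 := by
    intro h; apply hbF; intro x _; rw [h]; simp
  have hbb : b * b = 1 := by rw [← pow_two]; exact hA2 b hb
  by_cases hcard : 2 ^ 2 ≤ Nat.card ↥A
  · have : Fact (Nat.Prime 2) := ⟨Nat.prime_two⟩
    have hX : ¬ 2 ∣ Nat.card ↥F := by
      intro h2
      exact (Nat.not_even_iff_odd.mpr hFodd) (even_iff_two_dvd.mpr h2)
    have hgen := Cfsg.Agent.S1324.result 2 A F ⟨hAcomm, hA2⟩ hcard hX hAF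
    -- find a hyperplane whose centralizer in F is moved by b
    have hex : ∃ B : {B : Subgroup G // B ≤ A ∧ B.relIndex A ≤ 2},
        ∃ l ∈ F ⊓ Subgroup.centralizer ((B : Subgroup G) : Set G), b * l ≠ l * b := by
      by_contra hcon
      simp only [not_exists, not_and, not_not] at hcon
      apply hbF
      have hle : F ≤ Subgroup.centralizer ({b} : Set G) := by
        rw [hgen]
        apply iSup_le
        intro B l hl
        rw [Subgroup.mem_centralizer_iff]
        intro z hz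
        rw [Set.mem_singleton_iff] at hz
        rw [hz]
        exact hcon B l hl
      intro x hx
      exact (Subgroup.mem_centralizer_iff.mp (hle hx)) b rfl
    obtain ⟨⟨B', hB'A, hB'idx⟩, l, hl, hlb⟩ := hex
    have hbB' : b ∉ B' := by
      intro hbB
      apply hlb
      exact (Subgroup.mem_centralizer_iff.mp hl.2) b hbB
    have hidx2 : (B'.subgroupOf A).index = 2 := by
      have h0 : B'.relIndex A ≠ 0 := by
        have : (B'.subgroupOf A).FiniteIndex := inferInstance
        exact Subgroup.FiniteIndex.index_ne_zero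
      have h1 : B'.relIndex A ≠ 1 := by
        intro h
        exact hbB' (Subgroup.relIndex_eq_one.mp h hb)
      have : B'.relIndex A = 2 := by omega
      exact this
    have hB' : ∀ a ∈ A, a ∈ B' ∨ a * b ∈ B' := by
      intro a ha
      by_cases haB : a ∈ B'
      · exact Or.inl haB
      · right
        have h := Subgroup.mul_mem_iff_of_index_two hidx2 (a := ⟨a, ha⟩) (b := ⟨b, hb⟩)
        rw [Subgroup.mem_subgroupOf, Subgroup.mem_subgroupOf, Subgroup.mem_subgroupOf] at h
        exact h.mpr ⟨fun h' => absurd h' haB, fun h' => absurd h' hbB'⟩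
    exact eigen_core A F B' hAc hA2 hAF b hb hB'A hB' l hl.1 hl.2 hlb
  · -- A = {1, b}
    have hsmall : ∀ a ∈ A, a = 1 ∨ a * b = 1 := by
      intro a ha
      by_contra hcon
      simp only [not_or] at hcon
      obtain ⟨ha1, hab1⟩ := hcon
      apply hcard
      have hab : a ≠ b := by
        intro h; apply hab1; rw [h]; exact hbb
      let S : Finset ↥A := {1, ⟨a, ha⟩, ⟨b, hb⟩, ⟨a * b, mul_mem ha hb⟩}
      have hS : S.card = 4 := by
        rw [Finset.card_insert_of_notMem, Finset.card_insert_of_notMem, Finset.card_insert_of_notMem,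
          Finset.card_singleton]
        · simp only [Finset.mem_singleton, Subtype.mk.injEq]
          intro h
          apply ha1
          calc a = a * b * b⁻¹ := by group
            _ = b * b⁻¹ := by rw [← h]
            _ = 1 := mul_inv_cancel b
        · simp only [Finset.mem_insert, Finset.mem_singleton, Subtype.mk.injEq, not_or]
          refine ⟨hab, ?_⟩
          intro h
          apply hb1
          calc b = a⁻¹ * (a * b) := by group
            _ = a⁻¹ * a := by rw [← h]
            _ = 1 := inv_mul_cancel a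
        · simp only [Finset.mem_insert, Finset.mem_singleton, not_or]
          refine ⟨?_, ?_, ?_⟩
          · intro h; apply ha1; exact (congrArg Subtype.val h).symm
          · intro h; apply hb1; exact (congrArg Subtype.val h).symm
          · intro h; apply hab1; exact (congrArg Subtype.val h).symm
      have : S.card ≤ Nat.card ↥A := by
        have : Fintype ↥A := Fintype.ofFinite _
        rw [Nat.card_eq_fintype_card]
        exact Finset.card_le_univ S
      omega
    obtain ⟨l, hlF, hlb⟩ : ∃ l ∈ F, b * l ≠ l * b := by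
      by_contra hcon
      simp only [not_exists, not_and, not_not] at hcon
      exact hbF hcon
    refine eigen_core A F ⊥ hAc hA2 hAF b hb bot_le ?_ l hlF ?_ hlb
    · intro a ha
      rcases hsmall a ha with h | h
      · left; rw [h]; exact one_mem _
      · right; rw [h]; exact one_mem _
    · rw [Subgroup.mem_centralizer_iff]
      intro z hz
      have : z = 1 := hz
      rw [this]; simp

/-- conjugation identities -/
theorem conj_eq_iff_comm (c x : G) : c * x * c⁻¹ = x ↔ x * c = c * x := by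
  constructor
  · intro h
    calc x * c = (c * x * c⁻¹) * c := by rw [h]
      _ = c * x := by group
  · intro h
    calc c * x * c⁻¹ = (c * x) * c⁻¹ := rfl
      _ = (x * c) * c⁻¹ := by rw [h]
      _ = x := by group

theorem mem_inf_centralizer_singleton (B : Subgroup G) (x c : G) :
    c ∈ B ⊓ Subgroup.centralizer ({x} : Set G) ↔ c ∈ B ∧ c * x * c⁻¹ = x := by
  rw [Subgroup.mem_inf, Subgroup.mem_centralizer_iff]
  constructor
  · rintro ⟨h1, h2⟩
    exact ⟨h1, (conj_eq_iff_comm c x).mpr (h2 x rfl)⟩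
  · rintro ⟨h1, h2⟩
    refine ⟨h1, ?_⟩
    intro z hz
    rw [Set.mem_singleton_iff] at hz
    rw [hz]
    exact (conj_eq_iff_comm c x).mp h2

theorem conj_mul (c d x : G) : (c * d) * x * (c * d)⁻¹ = c * (d * x * d⁻¹) * c⁻¹ := by group

theorem conj_inv' (c x : G) : c * x⁻¹ * c⁻¹ = (c * x * c⁻¹)⁻¹ := by group

theorem ne_inv_of_odd [Finite G] (F : Subgroup G) (hodd : Odd (Nat.card ↥F)) (x : G) (hx : x ∈ F)
    (hx1 : x ≠ 1) : x⁻¹ ≠ x := by
  intro h
  apply hx1
  have h2 : x ^ 2 = 1 := by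
    rw [pow_two]
    nth_rewrite 1 [← h]
    exact inv_mul_cancel x
  have h3 : orderOf x ∣ 2 := orderOf_dvd_of_pow_eq_one h2
  have h4 : orderOf x ∣ Nat.card ↥F := by
    have : orderOf (⟨x, hx⟩ : ↥F) ∣ Nat.card ↥F := orderOf_dvd_natCard _
    rwa [← Subgroup.orderOf_coe] at this
  have h5 : orderOf x ∣ Nat.gcd 2 (Nat.card ↥F) := Nat.dvd_gcd h3 h4
  rw [(Nat.coprime_two_left.mpr hodd).gcd_eq_one, Nat.dvd_one, orderOf_eq_one_iff] at h5
  exact h5

theorem main_ind [Finite G] (A : Subgroup G) (hAe : Cfsg.IsElementaryAbelian 2 A) :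
    ∀ r : ℕ, ∀ (F B : Subgroup G), Group.IsNilpotent ↥F → Odd (Nat.card ↥F) →
      A ≤ Subgroup.normalizer (F : Set G) → B ≤ A → Nat.card ↥B = 2 ^ r →
      B ⊓ Subgroup.centralizer (F : Set G) = ⊥ →
      ∃ (b x : Fin r → G),
        (∀ i, b i ∈ B ∧ b i ≠ 1 ∧ x i ∈ F ∧ x i ≠ 1 ∧
          (∀ a ∈ A, a * x i * a⁻¹ = x i ∨ a * x i * a⁻¹ = (x i)⁻¹) ∧
          b i * x i * (b i)⁻¹ = (x i)⁻¹) ∧
        (∀ i j, i ≠ j → b j * x i * (b j)⁻¹ = x i) ∧
        (∀ i j, x i * x j = x j * x i) ∧
        Subgroup.closure (Set.range b) = B := by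
  classical
  have hA2 : ∀ a ∈ A, a ^ 2 = 1 := hAe.2
  intro r
  induction r with
  | zero =>
    intro F B _ _ _ _ hcard _
    refine ⟨fun i => i.elim0, fun i => i.elim0, fun i => i.elim0, fun i => i.elim0,
      fun i => i.elim0, ?_⟩
    have hB : B = ⊥ := by
      rw [pow_zero] at hcard
      exact Subgroup.card_eq_one.mp hcard
    rw [hB, Set.range_eq_empty, Subgroup.closure_empty]
  | succ r ih =>
    intro F B hnil hodd hAF hBA hcard hfaith
    have hBne : B ≠ ⊥ := by
      intro h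
      rw [h, Subgroup.card_bot] at hcard
      have : 2 ≤ 2 ^ (r + 1) := by
        calc 2 = 2 ^ 1 := by norm_num
          _ ≤ 2 ^ (r + 1) := Nat.pow_le_pow_right (by norm_num) (by omega)
      omega
    obtain ⟨⟨b, hb⟩, hb1'⟩ := (Subgroup.ne_bot_iff_exists_ne_one).mp hBne
    have hb1 : b ≠ 1 := fun h => hb1' (Subtype.ext h)
    have hbF : ¬ ∀ x ∈ F, b * x = x * b := by
      intro h
      apply hb1
      have : b ∈ B ⊓ Subgroup.centralizer (F : Set G) := by
        refine Subgroup.mem_inf.mpr ⟨hb, ?_⟩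
        rw [Subgroup.mem_centralizer_iff]
        intro x hx
        exact (h x hx).symm
      rw [hfaith, Subgroup.mem_bot] at this
      exact this
    obtain ⟨x1, hx1F, hx1, heig, hbx1⟩ := exists_eigen A F hAe hodd hAF b (hBA hb) hbF
    have hx1inv : x1⁻¹ ≠ x1 := ne_inv_of_odd F hodd x1 hx1F hx1
    set B1 := B ⊓ Subgroup.centralizer ({x1} : Set G) with hB1
    set F1 := F ⊓ Subgroup.centralizer ({x1} : Set G) with hF1
    have hB1B : B1 ≤ B := inf_le_left
    have hF1F : F1 ≤ F := inf_le_left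
    -- index two
    have hidx : (B1.subgroupOf B).index = 2 := by
      rw [Subgroup.index_eq_two_iff]
      refine ⟨⟨b, hb⟩, ?_⟩
      intro c
      have e1 : (c * ⟨b, hb⟩ ∈ B1.subgroupOf B) ↔ ((c : G) * b) * x1 * ((c : G) * b)⁻¹ = x1 := by
        rw [Subgroup.mem_subgroupOf, hB1, mem_inf_centralizer_singleton]
        constructor
        · rintro ⟨_, h⟩; exact h
        · intro h; exact ⟨mul_mem c.2 hb, h⟩
      have e2 : (c ∈ B1.subgroupOf B) ↔ (c : G) * x1 * (c : G)⁻¹ = x1 := by
        rw [Subgroup.mem_subgroupOf, hB1, mem_inf_centralizer_singleton]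
        constructor
        · rintro ⟨_, h⟩; exact h
        · intro h; exact ⟨c.2, h⟩
      rw [e1, e2, conj_mul, hbx1, conj_inv']
      rcases heig c (hBA c.2) with h | h
      · right
        refine ⟨h, ?_⟩
        rw [h]; exact hx1inv
      · left
        refine ⟨by rw [h, inv_inv], ?_⟩
        rw [h]; exact hx1inv
    have hcardB1 : Nat.card ↥B1 = 2 ^ r := by
      have h1 := Subgroup.card_mul_index (B1.subgroupOf B)
      rw [hidx, Nat.card_congr (Subgroup.subgroupOfEquivOfLe hB1B).toEquiv, hcard, pow_succ] at h1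
      exact Nat.eq_of_mul_eq_mul_right (by norm_num) h1
    -- F1 nilpotent, odd
    have hnil1 : Group.IsNilpotent ↥F1 := by
      have : Group.IsNilpotent ↥F := hnil
      have h1 : Group.IsNilpotent ↥(F1.subgroupOf F) := inferInstance
      exact Group.nilpotent_of_mulEquiv (Subgroup.subgroupOfEquivOfLe hF1F)
    have hodd1 : Odd (Nat.card ↥F1) := Odd.of_dvd_nat hodd (Subgroup.card_dvd_of_le hF1F)
    -- A normalizes F1
    have hconjF1 : ∀ a ∈ A, ∀ h ∈ F1, a * h * a⁻¹ ∈ F1 := by
      intro a ha h hh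
      rw [hF1, Subgroup.mem_inf] at hh ⊢
      refine ⟨(Subgroup.mem_normalizer_iff.mp (hAF ha) h).mp hh.1, ?_⟩
      have hhx : h * x1 = x1 * h := ((Subgroup.mem_centralizer_iff.mp hh.2) x1 rfl).symm
      rw [Subgroup.mem_centralizer_iff]
      intro z hz
      rw [Set.mem_singleton_iff] at hz
      rw [hz]
      -- x1 * (a h a⁻¹) = (a h a⁻¹) * x1
      have hainv : a⁻¹ * x1 * a = x1 ∨ a⁻¹ * x1 * a = x1⁻¹ := by
        have := heig a⁻¹ (inv_mem ha)
        simpa using this
      have key : a⁻¹ * x1 * a * h = h * (a⁻¹ * x1 * a) := by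
        rcases hainv with e | e
        · rw [e]; exact hhx.symm
        · rw [e]
          calc x1⁻¹ * h = x1⁻¹ * (h * x1) * x1⁻¹ := by group
            _ = x1⁻¹ * (x1 * h) * x1⁻¹ := by rw [hhx]
            _ = h * x1⁻¹ := by group
      calc x1 * (a * h * a⁻¹) = a * (a⁻¹ * x1 * a * h) * a⁻¹ := by group
        _ = a * (h * (a⁻¹ * x1 * a)) * a⁻¹ := by rw [key]
        _ = a * h * a⁻¹ * x1 := by group
    have hAF1 : A ≤ Subgroup.normalizer (F1 : Set G) := by
      intro a ha
      rw [Subgroup.mem_normalizer_iff]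
      intro h
      constructor
      · exact hconjF1 a ha h
      · intro hh
        have := hconjF1 a⁻¹ (inv_mem ha) _ hh
        simpa [mul_assoc] using this
    have hB1A : B1 ≤ A := le_trans hB1B hBA
    -- faithful
    have hfaith1 : B1 ⊓ Subgroup.centralizer (F1 : Set G) = ⊥ := by
      rw [eq_bot_iff]
      intro c hc
      rw [← hfaith]
      obtain ⟨hcB1, hcF1⟩ := Subgroup.mem_inf.mp hc
      have hcB : c ∈ B := hB1B hcB1
      have hcx1 : c * x1 = x1 * c := by
        have := (mem_inf_centralizer_singleton B x1 c).mp hcB1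
        exact ((conj_eq_iff_comm c x1).mp this.2).symm
      refine Subgroup.mem_inf.mpr ⟨hcB, ?_⟩
      rw [Subgroup.mem_centralizer_iff]
      have hcop : (orderOf c).Coprime (Nat.card ↥F) := by
        have h2 : orderOf c ∣ 2 := orderOf_dvd_of_pow_eq_one (hA2 c (hBA hcB))
        exact Nat.Coprime.coprime_dvd_left h2 (Nat.coprime_two_left.mpr hodd)
      have hall := centralizes_of_nilpotent F hnil c
        (fun x hx => (Subgroup.mem_normalizer_iff.mp (hAF (hBA hcB)) x).mp hx) hcop
        ({x1} : Set G) (by intro z hz; rw [Set.mem_singleton_iff] at hz; rw [hz]; exact hx1F)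
        (by intro z hz; rw [Set.mem_singleton_iff] at hz; rw [hz]; exact hcx1)
        (by
          intro y hy hyc
          have hyF1 : y ∈ F1 := by
            rw [hF1]
            refine Subgroup.mem_inf.mpr ⟨hy, ?_⟩
            rw [Subgroup.mem_centralizer_iff]
            intro z hz
            rw [Set.mem_singleton_iff] at hz
            rw [hz]
            exact (hyc x1 rfl).symm
          exact ((Subgroup.mem_centralizer_iff.mp hcF1) y hyF1).symm)
      intro x hx
      exact (hall x hx).symm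
    obtain ⟨b', x', h1, h2, h3, h4⟩ := ih F1 B1 hnil1 hodd1 hAF1 hB1A hcardB1 hfaith1
    -- adjust b
    have hadj : ∀ s : Finset (Fin r), ∃ c ∈ B1, ∀ j ∈ s, (b * c) * x' j * (b * c)⁻¹ = x' j := by
      intro s
      induction s using Finset.induction_on with
      | empty => exact ⟨1, one_mem _, fun j hj => absurd hj (Finset.notMem_empty j)⟩
      | insert j₀ s hj₀ ihs =>
        obtain ⟨c, hc, hcs⟩ := ihs
        have hgA : b * c ∈ A := mul_mem (hBA hb) (hB1A hc)
        rcases (h1 j₀).2.2.2.2.1 (b * c) hgA with e | e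
        · refine ⟨c, hc, ?_⟩
          intro j hj
          rcases Finset.mem_insert.mp hj with rfl | hj
          · exact e
          · exact hcs j hj
        · refine ⟨c * b' j₀, mul_mem hc (h1 j₀).1, ?_⟩
          intro j hj
          rw [← mul_assoc, conj_mul]
          rcases Finset.mem_insert.mp hj with rfl | hj
          · rw [(h1 j).2.2.2.2.2, conj_inv', e, inv_inv]
          · have hne : j ≠ j₀ := fun h => hj₀ (h ▸ hj)
            rw [h2 j j₀ hne]
            exact hcs j hj
    obtain ⟨c, hcB1, hcall⟩ := hadj Finset.univ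
    set b1 := b * c with hb1def
    have hb1B : b1 ∈ B := mul_mem hb (hB1B hcB1)
    have hcx1 : c * x1 * c⁻¹ = x1 := ((mem_inf_centralizer_singleton B x1 c).mp hcB1).2
    have hb1x1 : b1 * x1 * b1⁻¹ = x1⁻¹ := by
      rw [hb1def, conj_mul, hcx1, hbx1]
    have hb1ne : b1 ≠ 1 := by
      intro h
      rw [h] at hb1x1
      apply hx1inv
      rw [← hb1x1]; simp
    refine ⟨Fin.cons b1 b', Fin.cons x1 x', ?_, ?_, ?_, ?_⟩
    · intro i
      refine Fin.cases ?_ (fun j => ?_) i
      · simp only [Fin.cons_zero]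
        exact ⟨hb1B, hb1ne, hx1F, hx1, heig, hb1x1⟩
      · simp only [Fin.cons_succ]
        obtain ⟨p1, p2, p3, p4, p5, p6⟩ := h1 j
        exact ⟨hB1B p1, p2, hF1F p3, p4, p5, p6⟩
    · intro i j
      refine Fin.cases ?_ (fun i' => ?_) i <;> refine Fin.cases ?_ (fun j' => ?_) j
      · intro h; exact absurd rfl h
      · intro _
        simp only [Fin.cons_zero, Fin.cons_succ]
        exact ((mem_inf_centralizer_singleton B x1 _).mp (h1 j').1).2
      · intro _
        simp only [Fin.cons_zero, Fin.cons_succ]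
        exact hcall i' (Finset.mem_univ _)
      · intro h
        simp only [Fin.cons_succ]
        exact h2 i' j' (fun e => h (by rw [e]))
    · intro i j
      refine Fin.cases ?_ (fun i' => ?_) i <;> refine Fin.cases ?_ (fun j' => ?_) j
      · rfl
      · simp only [Fin.cons_zero, Fin.cons_succ]
        have := (h1 j').2.2.1
        rw [hF1, Subgroup.mem_inf] at this
        exact (Subgroup.mem_centralizer_iff.mp this.2) x1 rfl
      · simp only [Fin.cons_zero, Fin.cons_succ]
        have := (h1 i').2.2.1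
        rw [hF1, Subgroup.mem_inf] at this
        exact ((Subgroup.mem_centralizer_iff.mp this.2) x1 rfl).symm
      · simp only [Fin.cons_succ]
        exact h3 i' j'
    · rw [Fin.range_cons]
      apply le_antisymm
      · rw [Subgroup.closure_le]
        intro z hz
        rcases Set.mem_insert_iff.mp hz with rfl | hz
        · exact hb1B
        · obtain ⟨j, rfl⟩ := hz
          exact hB1B (h1 j).1
      · intro z hz
        have hsub : B1 ≤ Subgroup.closure (insert b1 (Set.range b')) := by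
          rw [← h4]
          exact Subgroup.closure_mono (Set.subset_insert _ _)
        have hb1mem : b1 ∈ Subgroup.closure (insert b1 (Set.range b')) :=
          Subgroup.subset_closure (Set.mem_insert _ _)
        rcases heig z (hBA hz) with e | e
        · apply hsub
          exact (mem_inf_centralizer_singleton B x1 z).mpr ⟨hz, e⟩
        · have hzb : z * b1 ∈ B1 := by
            refine (mem_inf_centralizer_singleton B x1 _).mpr ⟨mul_mem hz hb1B, ?_⟩
            rw [conj_mul, hb1x1, conj_inv', e, inv_inv]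
          have : z = (z * b1) * b1⁻¹ := by group
          rw [this]
          exact mul_mem (hsub hzb) (inv_mem hb1mem)

theorem commute_sup_zpowers (a x c y : G) (h1 : a * c = c * a) (h2 : a * y = y * a)
    (h3 : x * c = c * x) (h4 : x * y = y * x) :
    ∀ u ∈ Subgroup.zpowers a ⊔ Subgroup.zpowers x, ∀ v ∈ Subgroup.zpowers c ⊔ Subgroup.zpowers y,
      u * v = v * u := by
  have hK : ∀ g : G, g * c = c * g → g * y = y * g →
      Subgroup.zpowers c ⊔ Subgroup.zpowers y ≤ Subgroup.centralizer ({g} : Set G) := by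
    intro g hc hy
    apply sup_le
    · rw [Subgroup.zpowers_le, Subgroup.mem_centralizer_iff]
      intro z hz
      rw [Set.mem_singleton_iff] at hz
      rw [hz]; exact hc
    · rw [Subgroup.zpowers_le, Subgroup.mem_centralizer_iff]
      intro z hz
      rw [Set.mem_singleton_iff] at hz
      rw [hz]; exact hy
  have hle : Subgroup.zpowers a ⊔ Subgroup.zpowers x ≤
      Subgroup.centralizer ((Subgroup.zpowers c ⊔ Subgroup.zpowers y : Subgroup G) : Set G) := by
    apply sup_le
    · rw [Subgroup.zpowers_le, Subgroup.mem_centralizer_iff]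
      intro v hv
      exact ((Subgroup.mem_centralizer_iff.mp (hK a h1 h2 hv)) a rfl).symm
    · rw [Subgroup.zpowers_le, Subgroup.mem_centralizer_iff]
      intro v hv
      exact ((Subgroup.mem_centralizer_iff.mp (hK x h3 h4 hv)) x rfl).symm
  intro u hu v hv
  exact ((Subgroup.mem_centralizer_iff.mp (hle hu)) v hv).symm

theorem dihedral_iso [Finite G] (b x : G) (hb2 : b ^ 2 = 1) (hb1 : b ≠ 1) (hx1 : x⁻¹ ≠ x)
    (hbx : b * x * b⁻¹ = x⁻¹) :
    Nonempty (↥(Subgroup.zpowers b ⊔ Subgroup.zpowers x) ≃* DihedralGroup (orderOf x)) := by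
  have hbb : b * b = 1 := by rw [← pow_two]; exact hb2
  have hbinv : b⁻¹ = b := inv_eq_of_mul_eq_one_left hbb
  have ht : (b * x) * (b * x) = 1 := by
    calc (b * x) * (b * x) = (b * x * b) * x := by group
      _ = x⁻¹ * x := by
        have : b * x * b = x⁻¹ := by
          nth_rewrite 2 [← hbinv]
          exact hbx
        rw [this]
      _ = 1 := inv_mul_cancel x
  have ht1 : b * x ≠ 1 := by
    intro h
    apply hx1
    have hxb : x = b⁻¹ := eq_inv_of_mul_eq_one_right h
    rw [← hbx, hxb]; group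
  have hst : b * (b * x) = x := by rw [← mul_assoc, hbb, one_mul]
  have hcl : Subgroup.closure ({b, b * x} : Set G) = Subgroup.zpowers b ⊔ Subgroup.zpowers x := by
    apply le_antisymm
    · rw [Subgroup.closure_le]
      intro z hz
      rcases hz with rfl | hz
      · exact Subgroup.mem_sup_left (Subgroup.mem_zpowers _)
      · rw [Set.mem_singleton_iff] at hz
        rw [hz]
        exact mul_mem (Subgroup.mem_sup_left (Subgroup.mem_zpowers _))
          (Subgroup.mem_sup_right (Subgroup.mem_zpowers _))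
    · have hbm : b ∈ Subgroup.closure ({b, b * x} : Set G) := Subgroup.subset_closure (by simp)
      have htm : b * x ∈ Subgroup.closure ({b, b * x} : Set G) := Subgroup.subset_closure (by simp)
      apply sup_le
      · rw [Subgroup.zpowers_le]; exact hbm
      · rw [Subgroup.zpowers_le]
        have hxm := mul_mem hbm htm
        rwa [hst] at hxm
  have e := Cfsg.Agent.Lib.Helper4_DihedralIso.dihedralEquiv hbb ht hb1 ht1
  rw [hst] at e
  exact ⟨(MulEquiv.subgroupCongr hcl.symm).trans e.symm⟩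

end

theorem result {G : Type*} [Group G] [Finite G] (L A : Subgroup G) (hLs : Group.IsSolvable ↥L) (hLodd : Odd (Nat.card ↥L)) (hA : Cfsg.IsElementaryAbelian 2 A) (d : ℕ) (hd : 1 ≤ d) (hAd : Nat.card ↥A = 2 ^ d) (hAL : A ≤ Subgroup.normalizer (L : Set G)) (hfaith : A ⊓ Subgroup.centralizer (L : Set G) = ⊥) : ∃ (Ai : Fin d → Subgroup G) (Li : Fin d → Subgroup G) (n : Fin d → ℕ), (∀ i, Ai i ≤ A ∧ Nat.card ↥(Ai i) = 2 ∧ Li i ≤ L ∧ Odd (n i) ∧ 3 ≤ n i ∧ Nonempty (↥(Ai i ⊔ Li i) ≃* DihedralGroup (n i))) ∧ (⨆ i, Ai i) = A ∧ ∀ i j, i ≠ j → ∀ x ∈ Ai i ⊔ Li i, ∀ y ∈ Ai j ⊔ Li j, x * y = y * x := by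
  classical
  obtain ⟨F, hFL, hFnil, hAF, hAFf⟩ := exists_fitting L A hLs hLodd hA.2 hAL hfaith
  have hFodd : Odd (Nat.card ↥F) := Odd.of_dvd_nat hLodd (Subgroup.card_dvd_of_le hFL)
  obtain ⟨b, x, h1, h2, h3, h4⟩ := main_ind A hA d F A hFnil hFodd hAF le_rfl hAd hAFf
  have hAc : ∀ a ∈ A, ∀ c ∈ A, a * c = c * a := by
    intro a ha c hc
    have := hA.1.is_comm.comm ⟨a, ha⟩ ⟨c, hc⟩
    exact congrArg Subtype.val this
  refine ⟨fun i => Subgroup.zpowers (b i), fun i => Subgroup.zpowers (x i), fun i => orderOf (x i),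
    ?_, ?_, ?_⟩
  · intro i
    obtain ⟨p1, p2, p3, p4, p5, p6⟩ := h1 i
    have hb2 : b i ^ 2 = 1 := hA.2 (b i) p1
    have hxinv : (x i)⁻¹ ≠ x i := ne_inv_of_odd F hFodd (x i) p3 p4
    have hodd : Odd (orderOf (x i)) := by
      have h4 : orderOf (x i) ∣ Nat.card ↥L := by
        have : orderOf (⟨x i, hFL p3⟩ : ↥L) ∣ Nat.card ↥L := orderOf_dvd_natCard _
        rwa [← Subgroup.orderOf_coe] at this
      exact Odd.of_dvd_nat hLodd h4
    refine ⟨Subgroup.zpowers_le.mpr p1, ?_, Subgroup.zpowers_le.mpr (hFL p3), hodd, ?_, ?_⟩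
    · rw [Nat.card_zpowers]
      exact orderOf_eq_prime hb2 p2
    · show 3 ≤ orderOf (x i)
      have h0 : 0 < orderOf (x i) := orderOf_pos _
      have h1' : orderOf (x i) ≠ 1 := fun h => p4 (orderOf_eq_one_iff.mp h)
      obtain ⟨k, hk⟩ := hodd
      omega
    · exact dihedral_iso (b i) (x i) hb2 p2 hxinv p6
  · rw [← h4, ← Set.iUnion_singleton_eq_range, Subgroup.closure_iUnion]
    congr 1
    funext i
    exact Subgroup.zpowers_eq_closure (b i)
  · intro i j hij
    apply commute_sup_zpowers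
    · exact hAc _ (h1 i).1 _ (h1 j).1
    · -- b i * x j = x j * b i
      exact ((conj_eq_iff_comm (b i) (x j)).mp (h2 j i (Ne.symm hij))).symm
    · exact (conj_eq_iff_comm (b j) (x i)).mp (h2 i j hij)
    · exact h3 i j

end Cfsg.Agent.S1349
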