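import Cfsg.Statements.S1378
import Cfsg.Agent.Lib.Helper30_SigmaPart
import Cfsg.Agent.Lib.Helper52_BG139
import Cfsg.Agent.Lib.Helper79_BG138
import Cfsg.Agent.S1428

set_option autoImplicit false
open Cfsg

namespace Cfsg.Agent.S1378

/-- Let G be a minimal simple group of odd order. Then every prime dividing the order of G belongs to σ(M) for some maximal subgroup M, and if σ(M) and σ(N) have a prime in common for maximal subgroups M, N then N is conjugate to M; so the sets σ(M_i) over representatives of the conjugacy classes of maximal subgroups partition the prime divisors of #G. -/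
theorem result {G : Type*} [Group G] [Finite G] (hG : Cfsg.IsMinSimpleOddOrder G) :
    (∀ p : ℕ, p.Prime → p ∣ Nat.card G → ∃ M : Subgroup G, IsCoatom M ∧ p ∈ Cfsg.sigma M) ∧
      ∀ M N : Subgroup G, IsCoatom M → IsCoatom N → (Cfsg.sigma M ∩ Cfsg.sigma N).Nonempty → ∃ g : G, N = M.map (MulAut.conj g).toMonoidHom := by
  refine ⟨fun p hp hpG => Cfsg.Agent.Lib.Helper30_SigmaPart.exists_coatom_mem_sigma hG hp hpG, ?_⟩
  exact Cfsg.Agent.Lib.Helper52_BG139.sigma_part hG
    (fun M hM E hE p hp P hPE hP R hR hRp => Cfsg.Agent.S1428.result hG M hM E hE p hp P hPE hP R hR hRp)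
    (fun M Ms hM hMs hnc p q qs _ _ _ hp hps P Q Qs hP hPI hQ hQs hPQ hPQs hf hfs hN hNs =>
      Cfsg.Agent.Lib.Helper79_BG138.asymmetry hG hM hMs hnc hp hps hP hPI hQ hQs hPQ hPQs hf hfs hN hNs)

end Cfsg.Agent.S1378
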