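import Cfsg.Statements.S1374
import Cfsg.Agent.S1403
import Cfsg.Agent.S1416
import Cfsg.Agent.S1417
import Cfsg.Agent.S1378
import Cfsg.Agent.Lib.Helper29_BG144c

set_option autoImplicit false
open Cfsg

namespace Cfsg.Agent.S1374

/-- Let G be a minimal simple group of odd order, M a maximal subgroup and x a non-identity element of M_σ. Then C_M(x) has order coprime to its index in C_G(x), and C_G(x) has a normal subgroup R complementing C_M(x) such that for every conjugate gMg⁻¹ containing x there is exactly one r ∈ R with rMr⁻¹ = gMg⁻¹. -/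
theorem result {G : Type*} [Group G] [Finite G] (hG : Cfsg.IsMinSimpleOddOrder G)
    (M : Subgroup G) (hM : IsCoatom M) (x : G) (hx : x ∈ Cfsg.sigmaCore M) (hx1 : x ≠ 1) :
    (Nat.card ↥(M ⊓ Subgroup.centralizer ({x} : Set G))).Coprime ((M ⊓ Subgroup.centralizer ({x} : Set G)).relIndex (Subgroup.centralizer ({x} : Set G))) ∧
      ∃ R : Subgroup G, Subgroup.centralizer ({x} : Set G) ≤ Subgroup.normalizer (R : Set G) ∧ Cfsg.IsComplIn (M ⊓ Subgroup.centralizer ({x} : Set G)) R (Subgroup.centralizer ({x} : Set G)) ∧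
        ∀ g : G, x ∈ M.map (MulAut.conj g).toMonoidHom → ∃! r : G, r ∈ R ∧ M.map (MulAut.conj r).toMonoidHom = M.map (MulAut.conj g).toMonoidHom := by
  have hU : Cfsg.Agent.Lib.Helper49_Sigma.UniqHyp G := fun K hK h1 h3 => Cfsg.Agent.S1403.result hG K hK h1 h3
  have hC : Cfsg.Agent.Lib.Helper73_BG12.CentHyp G := fun M hM p _ A hAM hAe hA2 =>
    (Cfsg.Agent.S1416.result hG M hM p A ⟨hAM, hAe, hA2⟩).1
  have h17 : Cfsg.Agent.Lib.Helper79_BG141.Hyp1417 G := fun M hM p _ hp A hA => Cfsg.Agent.S1417.result hG M hM p hp A hA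
  have hSP : Cfsg.Agent.Lib.Helper29_BG144b.SigmaPartition G := (Cfsg.Agent.S1378.result hG).2
  exact Cfsg.Agent.Lib.Helper29_BG144c.bg144_statement hG hU hC h17 hSP M hM x hx hx1

end Cfsg.Agent.S1374
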