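import Cfsg.Statements.S1432
import Cfsg.Agent.S1417
import Cfsg.Agent.S1418
import Cfsg.Agent.S1420
import Cfsg.Agent.S1430
import Cfsg.Agent.S1431
import Cfsg.Agent.Lib.Helper25_BG143


set_option autoImplicit false
open Cfsg

namespace Cfsg.Agent.S1432

/-- Let G be a minimal simple group of odd order, M a maximal subgroup, x a non-identity element of M_σ and x' a non-identity element of C_M(x) no prime divisor of whose order lies in σ(M). Then either all prime divisors of the order of x' lie in κ(M) and C_G(x) ≤ M; or all of them lie in τ₂(M), they all lie in σ(L) for a single maximal subgroup L, and C_G(x') ≤ M with M the unique maximal subgroup containing C_G(x'). -/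
theorem result {G : Type*} [Group G] [Finite G] (hG : Cfsg.IsMinSimpleOddOrder G)
    (M : Subgroup G) (hM : IsCoatom M) (x : G) (hx : x ∈ Cfsg.sigmaCore M) (hx1 : x ≠ 1) (x' : G) (hx' : x' ∈ M ⊓ Subgroup.centralizer ({x} : Set G)) (hx'1 : x' ≠ 1)
    (hσ : ∀ p : ℕ, p.Prime → p ∣ orderOf x' → p ∉ Cfsg.sigma M) :
    ((∀ p : ℕ, p.Prime → p ∣ orderOf x' → p ∈ Cfsg.kappa M) ∧ Subgroup.centralizer ({x} : Set G) ≤ M) ∨
      ((∀ p : ℕ, p.Prime → p ∣ orderOf x' → p ∈ Cfsg.tau2 M) ∧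
        (∃ L : Subgroup G, IsCoatom L ∧ ∀ p : ℕ, p.Prime → p ∣ orderOf x' → p ∈ Cfsg.sigma L) ∧
        (Subgroup.centralizer ({x'} : Set G) ≤ M ∧ ∀ L : Subgroup G, IsCoatom L → Subgroup.centralizer ({x'} : Set G) ≤ L → L = M)) := by
  have h17 : Cfsg.Agent.Lib.Helper33_BG16Hyp.H1417 G := fun M hM p _ hp A hA => Cfsg.Agent.S1417.result hG M hM p hp A hA
  have h18 : Cfsg.Agent.Lib.Helper33_BG16Hyp.H1418 G := fun M hM E hE p _ hp A hA => Cfsg.Agent.S1418.result hG M hM E hE p hp A hA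
  have h20 : Cfsg.Agent.Lib.Helper25_BG143.H1420 G := fun M hM E hE => Cfsg.Agent.S1420.result hG M hM E hE
  have h30 : Cfsg.Agent.Lib.Helper25_BGHyp.H1430 G := fun M hM K hK hK1 => Cfsg.Agent.S1430.result hG M hM K hK hK1
  have h31 : Cfsg.Agent.Lib.Helper25_BGHyp.H1431 G := fun M hM K hK hK1 => Cfsg.Agent.S1431.result hG M hM K hK hK1
  exact Cfsg.Agent.Lib.Helper25_BG143.statement_S1432 hG h17 h18 h20 h30 h31 M hM x hx hx1 x' hx' hx'1 hσ

end Cfsg.Agent.S1432
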