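import Cfsg.Statements.S1351
import Cfsg.Agent.S1350
import Cfsg.Agent.S1374
import Cfsg.Agent.S1375
import Cfsg.Agent.S1378
import Cfsg.Agent.S1429
import Cfsg.Agent.S1430
import Cfsg.Agent.S1431
import Cfsg.Agent.S1432
import Cfsg.Agent.S1433
import Cfsg.Agent.Lib.Helper34_BG147c

set_option autoImplicit false
open Cfsg

namespace Cfsg.Agent.S1351

/-- Let G be a minimal simple group of odd order and M a maximal subgroup. Then M possesses a Hall κ(M)-subgroup, and every Hall κ(M)-subgroup of M is cyclic. -/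
theorem result {G : Type*} [Group G] [Finite G] (hG : Cfsg.IsMinSimpleOddOrder G)
    (M : Subgroup G) (hM : IsCoatom M) :
    (∃ K : Subgroup G, Cfsg.IsPiHallOf (Cfsg.kappa M) K M) ∧
      ∀ K : Subgroup G, Cfsg.IsPiHallOf (Cfsg.kappa M) K M → IsCyclic K := by
  have h30 : Cfsg.Agent.Lib.Helper25_BGHyp.H1430 G :=
    fun M hM K hK hK1 => Cfsg.Agent.S1430.result hG M hM K hK hK1
  have h31 : Cfsg.Agent.Lib.Helper25_BGHyp.H1431 G :=
    fun M hM K hK hK1 => Cfsg.Agent.S1431.result hG M hM K hK hK1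
  have h32 : Cfsg.Agent.Lib.Helper34_BG147a.H1432 G :=
    fun M hM x hx hx1 x' hx' hx'1 hσ => Cfsg.Agent.S1432.result hG M hM x hx hx1 x' hx' hx'1 hσ
  have h78 : Cfsg.Agent.Lib.Helper79_BGTilde.Hyp1378 G := Cfsg.Agent.S1378.result hG
  have hSD : Cfsg.Agent.Lib.Helper25_BGHyp.SigmaDisj G := h78.2
  have hσ : Cfsg.Agent.Lib.Helper34_BG16a.HσHall G :=
    fun M hM => (Cfsg.Agent.S1350.result hG M hM).1
  have h50 : Cfsg.Agent.Lib.Helper4_BGTilde.H1350 G := fun M hM => (Cfsg.Agent.S1350.result hG M hM).1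
  have h74 : Cfsg.Agent.Lib.Helper4_BGTilde.H1374 G := by
    intro M hM x hx hx1
    obtain ⟨-, R, -, hR, hu⟩ := Cfsg.Agent.S1374.result hG M hM x hx hx1
    exact ⟨R, hR, hu⟩
  have h74c : Cfsg.Agent.Lib.Helper4_BG147.H1374c G :=
    fun M hM x hx hx1 => (Cfsg.Agent.S1374.result hG M hM x hx hx1).1
  have h75 : Cfsg.Agent.Lib.Helper4_BGTilde.H1375 G := by
    intro M hM x hx hx1 hc
    obtain ⟨N, ⟨hN, hxN⟩, hu, hNF, -, hcompl, -, -⟩ := Cfsg.Agent.S1375.result hG M hM x hx hx1 hc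
    exact ⟨N, hN, hxN, hu, hNF, hcompl⟩
  have h33 : Cfsg.Agent.Lib.Helper4_BGTilde.H1433 G := by
    intro M N hM hN x y hx hy hx1 hy1 hxy
    exact Cfsg.Agent.S1433.result hG M N hM hN x y hx hy hx1 hy1 hxy
  have h33' : Cfsg.Agent.Lib.Helper79_BGTilde.Hyp1433 G :=
    fun M N hM hN x y hx hy hx1 hy1 hxy => Cfsg.Agent.S1433.result hG M N hM hN x y hx hy hx1 hy1 hxy
  have hTil : ∀ M : Subgroup G, IsCoatom M →
      Set.ncard (tildeOf M ((sigmaCore M : Set G) \ {1})) = (Nat.card ↥(sigmaCore M) - 1) * M.index :=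
    fun M hM => Cfsg.Agent.Lib.Helper4_BGTilde.card_tilde hG h50 h74 h75 h33 hM
  have hnil : Cfsg.Agent.Lib.Helper34_BG147c.HNil G := by
    intro M hM ⟨p, hp, hpM, hpσ, hpκ⟩
    have : Fact p.Prime := ⟨hp⟩
    obtain ⟨S⟩ : Nonempty (Sylow p M) := inferInstance
    have hP1 : ¬ (∀ q : ℕ, q.Prime → q ∣ Nat.card M → q ∉ Cfsg.sigma M → q ∈ Cfsg.kappa M) :=
      fun h => hpκ (h p hp hpM hpσ)
    have hnot : p ∉ Cfsg.sigma M ∪ Cfsg.kappa M := by
      rintro (h | h)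
      · exact hpσ h
      · exact hpκ h
    exact (Cfsg.Agent.S1429.result hG M hM hP1 p hpM hnot S).2.2
  exact Cfsg.Agent.Lib.Helper34_BG147c.statement_S1351 hG h30 h31 h32 hSD hσ hTil h33' h78 h74c h75
    hnil M hM

end Cfsg.Agent.S1351
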