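import Mathlib
import Cfsg.Statements.S1377
import Cfsg.Agent.S1350
import Cfsg.Agent.S1374
import Cfsg.Agent.S1375
import Cfsg.Agent.S1433
import Cfsg.Agent.Lib.Helper4_BGTilde
-- import your own Cfsg.Agent.* helpers here

set_option autoImplicit false
open Cfsg

namespace Cfsg.Agent.S1377

/-- Let G be a minimal simple group of odd order and M a maximal subgroup. For x ≠ 1 in M_σ let R(x) = 1 if C_G(x) ≤ M and otherwise R(x) = C_{N_F}(x) for the unique maximal subgroup N containing C_G(x). Then the union over G-conjugates of the cosets x R(x) has cardinality (#M_σ − 1) times the index of M. -/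
theorem result {G : Type*} [Group G] [Finite G] (hG : Cfsg.IsMinSimpleOddOrder G)
    (M : Subgroup G) (hM : IsCoatom M) :
    Set.ncard (Cfsg.tildeOf M ((Cfsg.sigmaCore M : Set G) \ {1})) = (Nat.card (Cfsg.sigmaCore M) - 1) * M.index := by
  have h50 : Cfsg.Agent.Lib.Helper4_BGTilde.H1350 G := fun M hM => (Cfsg.Agent.S1350.result hG M hM).1
  have h74 : Cfsg.Agent.Lib.Helper4_BGTilde.H1374 G := by
    intro M hM x hx hx1
    obtain ⟨-, R, -, hR, hu⟩ := Cfsg.Agent.S1374.result hG M hM x hx hx1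
    exact ⟨R, hR, hu⟩
  have h75 : Cfsg.Agent.Lib.Helper4_BGTilde.H1375 G := by
    intro M hM x hx hx1 hc
    obtain ⟨N, ⟨hN, hxN⟩, hu, hNF, -, hcompl, -, -⟩ := Cfsg.Agent.S1375.result hG M hM x hx hx1 hc
    exact ⟨N, hN, hxN, hu, hNF, hcompl⟩
  have h33 : Cfsg.Agent.Lib.Helper4_BGTilde.H1433 G := by
    intro M N hM hN x y hx hy hx1 hy1 hxy
    exact Cfsg.Agent.S1433.result hG M N hM hN x y hx hy hx1 hy1 hxy
  exact Cfsg.Agent.Lib.Helper4_BGTilde.card_tilde hG h50 h74 h75 h33 hM

end Cfsg.Agent.S1377
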