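import Cfsg.Statements.S1366
import Cfsg.Agent.Lib.Helper2_BG147e
import Cfsg.Agent.Lib.Helper59_BG142c
import Cfsg.Agent.S1403
import Cfsg.Agent.S1417
import Cfsg.Agent.S1419
import Cfsg.Agent.S1444
import Cfsg.Agent.S1430
import Cfsg.Agent.S1431
import Cfsg.Agent.S1432
import Cfsg.Agent.S1377
import Cfsg.Agent.S1433
import Cfsg.Agent.S1378
-- import your own Cfsg.Agent.* helpers here

set_option autoImplicit false
open Cfsg

namespace Cfsg.Agent.S1366

/-- Let G be a minimal simple group of odd order, M a maximal subgroup with standard factorisation M = K U M_σ, K ≠ 1, and K* = M_σ ∩ C_G(K). Then there is exactly one maximal subgroup M* of G such that K = M*_σ ∩ C_G(K*) and K* is a Hall κ(M*)-subgroup of M* (in particular κ(M*) is nonempty). -/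
theorem result {G : Type*} [Group G] [Finite G] (hG : Cfsg.IsMinSimpleOddOrder G)
    (M : Subgroup G) (hM : IsCoatom M) (K U : Subgroup G) (hKU : Cfsg.IsSigmaDecomposition M K U) (hK1 : K ≠ ⊥) :
    ∃! Mstar : Subgroup G, IsCoatom Mstar ∧ K = Cfsg.sigmaCore Mstar ⊓ Subgroup.centralizer ((Cfsg.sigmaCore M ⊓ Subgroup.centralizer (K : Set G)) : Set G) ∧
        Cfsg.IsPiHallOf (Cfsg.kappa Mstar) (Cfsg.sigmaCore M ⊓ Subgroup.centralizer (K : Set G)) Mstar := by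
  have h30 : Cfsg.Agent.Lib.Helper72_BG16.H1430 G := fun M hM K hK hK1 =>
    Cfsg.Agent.S1430.result hG M hM K hK hK1
  have h31 : Cfsg.Agent.Lib.Helper72_BG16.H1431 G := fun M hM K hK hK1 =>
    Cfsg.Agent.S1431.result hG M hM K hK hK1
  have h32 : Cfsg.Agent.Lib.Helper2_BG147b.H1432 G := fun M hM x hx hx1 x' hx' hx'1 hσ =>
    Cfsg.Agent.S1432.result hG M hM x hx hx1 x' hx' hx'1 hσ
  have h77 : Cfsg.Agent.Lib.Helper2_BG147b.H1377 G := fun M hM => Cfsg.Agent.S1377.result hG M hM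
  have h33 : Cfsg.Agent.Lib.Helper79_BGTilde.Hyp1433 G := fun M N hM hN x y hx hy hx1 hy1 hxy =>
    Cfsg.Agent.S1433.result hG M N hM hN x y hx hy hx1 hy1 hxy
  have h78 : Cfsg.Agent.Lib.Helper79_BGTilde.Hyp1378 G := Cfsg.Agent.S1378.result hG
  have hU : Cfsg.Agent.Lib.Helper49_Sigma.UniqHyp G := fun K hK h1 h3 => Cfsg.Agent.S1403.result hG K hK h1 h3
  have h44 : Cfsg.Agent.Lib.Helper70_BG106.H1444 := fun X _ _ _ hodd H R R₀ _ hHall hR hR₀ hR₀p hZ q _ =>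
    Cfsg.Agent.S1444.result hodd H R R₀ hHall hR hR₀ hR₀p hZ q
  have h17 : Cfsg.Agent.Lib.Helper79_BG141.Hyp1417 G := fun M hM p _ hp A hA =>
    Cfsg.Agent.S1417.result hG M hM p hp A hA
  have h19 : Cfsg.Agent.Lib.Helper59_BG142c.H1419 G := fun M hM E hE p _ hp hS A hA =>
    Cfsg.Agent.S1419.result hG M hM E hE p hp hS A hA
  have hks : Cfsg.sigmaCore M ⊓ Subgroup.centralizer (K : Set G) ≠ ⊥ :=
    Cfsg.Agent.Lib.Helper25_BG147.kst_ne_bot (fun M hM K hK hK1 => h30 M hM K hK hK1) hM hKU.hall hK1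
  obtain ⟨L, hL, hKL, hHL⟩ :=
    Cfsg.Agent.Lib.Helper2_BG147b.exists_partner hG h30 h31 h32 h77 h33 h78 hM hKU.hall hK1
  refine ⟨L, ⟨hL, hKL, hHL⟩, ?_⟩
  intro L' hL'p
  have hL' := hL'p.1
  have hKL' := hL'p.2.1
  have hHL' := hL'p.2.2
  obtain ⟨X, hXK, hXp⟩ := Cfsg.Agent.Lib.Helper72_BG16.exists_prime_subgroup hK1
  have h1 := Cfsg.Agent.Lib.Helper59_BG142c.unique_of_le_kst hG hU h44 h17 h19 h31 hL' hHL' hks
    (X := X) (hXK.trans (le_of_eq hKL')) hXp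
  have h2 := Cfsg.Agent.Lib.Helper59_BG142c.unique_of_le_kst hG hU h44 h17 h19 h31 hL hHL hks
    (X := X) (hXK.trans (le_of_eq hKL)) hXp
  exact h2.2 L' hL' h1.1

end Cfsg.Agent.S1366
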