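import Mathlib
import Cfsg.Statements.S1369
import Cfsg.Agent.S1351
import Cfsg.Agent.S1352
import Cfsg.Agent.S1354
import Cfsg.Agent.S1366
import Cfsg.Agent.S1367
import Cfsg.Agent.S1374
import Cfsg.Agent.S1375
import Cfsg.Agent.S1377
import Cfsg.Agent.S1431
import Cfsg.Agent.S1433
import Cfsg.Agent.S1434
import Cfsg.Agent.Lib.Helper4_BG147
-- import your own Cfsg.Agent.* helpers here

set_option autoImplicit false
open Cfsg

namespace Cfsg.Agent.S1369

/-- Let G be a minimal simple group of odd order, M a maximal subgroup with standard factorisation M = K U M_σ, K ≠ 1, K* = M_σ ∩ C_G(K), and M* a maximal subgroup with K = M*_σ ∩ C_G(K*) and K* a Hall κ(M*)-subgroup of M*. Then either U ≠ 1 or every K*-invariant complement of K* M*_σ in M* is nontrivial; and every maximal subgroup H of G with κ(H) nonempty is conjugate to M or to M*. -/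
theorem result {G : Type*} [Group G] [Finite G] (hG : Cfsg.IsMinSimpleOddOrder G)
    (M : Subgroup G) (hM : IsCoatom M) (K U : Subgroup G) (hKU : Cfsg.IsSigmaDecomposition M K U) (hK1 : K ≠ ⊥) (Mstar : Subgroup G) (hMstar : IsCoatom Mstar)
    (hKst : K = Cfsg.sigmaCore Mstar ⊓ Subgroup.centralizer ((Cfsg.sigmaCore M ⊓ Subgroup.centralizer (K : Set G)) : Set G))
    (hKstH : Cfsg.IsPiHallOf (Cfsg.kappa Mstar) (Cfsg.sigmaCore M ⊓ Subgroup.centralizer (K : Set G)) Mstar) :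
    (U ≠ ⊥ ∨ ∀ Ustar : Subgroup G, Cfsg.IsSigmaDecomposition Mstar (Cfsg.sigmaCore M ⊓ Subgroup.centralizer (K : Set G)) Ustar → Ustar ≠ ⊥) ∧
      ∀ H : Subgroup G, IsCoatom H → (Cfsg.kappa H).Nonempty →
        ∃ g : G, H = M.map (MulAut.conj g).toMonoidHom ∨ H = Mstar.map (MulAut.conj g).toMonoidHom := by
  have pp : Cfsg.Agent.Lib.Helper4_BG147.PPair M K U Mstar := ⟨hM, hKU, hK1, hMstar, hKst, hKstH⟩
  have h34 : Cfsg.Agent.Lib.Helper4_BG147.H1434 G := by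
    intro M K U Mstar pp
    obtain ⟨-, h1, h2, h3, h4, h5⟩ :=
      Cfsg.Agent.S1434.result hG M pp.hM K U pp.hKU pp.hK1 Mstar pp.hMstar pp.hKst pp.hKstH
    exact ⟨h1, fun x hx hx1 y hy hy1 => (h2 x hx hx1 y hy hy1).2.2, h3, h4, h5⟩
  have h67 : Cfsg.Agent.Lib.Helper4_BG147.H1367 G := by
    intro M K U Mstar pp
    exact Cfsg.Agent.S1367.result hG M pp.hM K U pp.hKU pp.hK1 Mstar pp.hMstar pp.hKst pp.hKstH
  have h66 : Cfsg.Agent.Lib.Helper4_BG147.H1366 G := by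
    intro M K U hM hKU hK1
    obtain ⟨Ms, ⟨h1, h2, h3⟩, -⟩ := Cfsg.Agent.S1366.result hG M hM K U hKU hK1
    exact ⟨Ms, hM, hKU, hK1, h1, h2, h3⟩
  have h51 : Cfsg.Agent.Lib.Helper4_BG147.H1351 G := fun M hM => Cfsg.Agent.S1351.result hG M hM
  have h52 : Cfsg.Agent.Lib.Helper4_BG147.H1352 G :=
    fun M K hM hKc hK => (Cfsg.Agent.S1352.result hG M hM K hKc hK).1
  have h54 : Cfsg.Agent.Lib.Helper4_BG147.H1354 G :=
    fun M K hM hKc hK => (Cfsg.Agent.S1354.result hG M hM K hKc hK).1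
  have h31 : Cfsg.Agent.Lib.Helper4_BG147.H1431 G := by
    intro M K hM hK hK1
    obtain ⟨h1, -, h3, -⟩ := Cfsg.Agent.S1431.result hG M hM K hK hK1
    exact ⟨h1, fun p hp hpd S => (h3 p hp hpd S).2.2⟩
  have h77 : Cfsg.Agent.Lib.Helper4_BG147.H1377 G := fun M hM => Cfsg.Agent.S1377.result hG M hM
  have h33 : Cfsg.Agent.Lib.Helper4_BGTilde.H1433 G := by
    intro M N hM hN x y hx hy hx1 hy1 hxy
    exact Cfsg.Agent.S1433.result hG M N hM hN x y hx hy hx1 hy1 hxy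
  have h74c : Cfsg.Agent.Lib.Helper4_BG147.H1374c G :=
    fun M hM x hx hx1 => (Cfsg.Agent.S1374.result hG M hM x hx hx1).1
  have h75 : Cfsg.Agent.Lib.Helper4_BGTilde.H1375 G := by
    intro M hM x hx hx1 hc
    obtain ⟨N, ⟨hN, hxN⟩, hu, hNF, -, hcompl, -, -⟩ := Cfsg.Agent.S1375.result hG M hM x hx hx1 hc
    exact ⟨N, hN, hxN, hu, hNF, hcompl⟩
  exact Cfsg.Agent.Lib.Helper4_BG147.main hG h34 h67 h66 h51 h52 h54 h31 h77 h33 h74c h75 pp

end Cfsg.Agent.S1369
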