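import Cfsg.Statements.S1373
import Cfsg.Agent.S1350
import Cfsg.Agent.S1351
import Cfsg.Agent.S1352
import Cfsg.Agent.S1354
import Cfsg.Agent.S1366
import Cfsg.Agent.S1369
import Cfsg.Agent.S1430
import Cfsg.Agent.Lib.Helper34_BG16b
import Cfsg.Agent.Lib.Helper78_SigmaDecomp

set_option autoImplicit false
open Cfsg

namespace Cfsg.Agent.S1373

/-- Let G be a minimal simple group of odd order and M a maximal subgroup with standard factorisation M = K U M_σ, K ≠ 1 and U = 1. Then M_σ ∩ C_G(K) has prime order. -/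
theorem result {G : Type*} [Group G] [Finite G] (hG : Cfsg.IsMinSimpleOddOrder G)
    (M : Subgroup G) (hM : IsCoatom M) (K U : Subgroup G) (hKU : Cfsg.IsSigmaDecomposition M K U) (hK1 : K ≠ ⊥) (hU : U = ⊥) :
    (Nat.card ↥(Cfsg.sigmaCore M ⊓ Subgroup.centralizer (K : Set G))).Prime := by
  -- the partner maximal subgroup
  obtain ⟨Mstar, ⟨hMs, hKst, hKstH⟩, -⟩ := Cfsg.Agent.S1366.result hG M hM K U hKU hK1
  -- `K*` is cyclic and nontrivial
  have hcyc : IsCyclic ↥(Cfsg.sigmaCore M ⊓ Subgroup.centralizer (K : Set G)) :=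
    (Cfsg.Agent.S1351.result hG Mstar hMs).2 _ hKstH
  have hne : Cfsg.sigmaCore M ⊓ Subgroup.centralizer (K : Set G) ≠ ⊥ :=
    (Cfsg.Agent.S1354.result hG M hM K hKU.cyclic hKU.hall).1
  -- a standard factorisation of the partner
  obtain ⟨Ustar, hUstar⟩ := (Cfsg.Agent.S1352.result hG Mstar hMs _ hcyc hKstH).1
  -- it has a nontrivial complement, as `U = 1`
  have hUs1 : Ustar ≠ ⊥ := by
    rcases (Cfsg.Agent.S1369.result hG M hM K U hKU hK1 Mstar hMs hKst hKstH).1 with h | h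
    · exact absurd hU h
    · exact h Ustar hUstar
  -- the Hall property of the `σ`-cores and the prime action, as hypotheses
  have hσ : Cfsg.Agent.Lib.Helper34_BG16a.HσHall G :=
    fun L hL => (Cfsg.Agent.S1350.result hG L hL).1
  have h30 : Cfsg.Agent.Lib.Helper34_BG16a.H1430 G :=
    fun L hL K' hK' hK'1 => Cfsg.Agent.S1430.result hG L hL K' hK' hK'1
  -- a prime divisor of `|U*|` is outside `σ(M*) ∪ κ(M*)`
  have hcard : Nat.card Ustar ≠ 1 := fun h => hUs1 (Subgroup.card_eq_one.mp h)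
  obtain ⟨p, hp, hpd⟩ := Nat.exists_prime_and_dvd hcard
  have hpn := Cfsg.Agent.Lib.Helper78_SigmaDecomp.not_mem_of_dvd_card_U hUstar (hσ Mstar hMs) hp hpd
  have hpM : p ∣ Nat.card Mstar :=
    hpd.trans (Subgroup.card_dvd_of_le hUstar.compl.1)
  exact Cfsg.Agent.Lib.Helper34_BG16b.card_kappaHall_prime hG hσ h30 hMs hKstH hne
    ⟨p, hp, hpM, hpn.1, hpn.2⟩

end Cfsg.Agent.S1373
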