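import Mathlib
import Cfsg.Statements.S1355
import Cfsg.Agent.S1350
import Cfsg.Agent.S1351
import Cfsg.Agent.S1352
import Cfsg.Agent.S1415
import Cfsg.Agent.S1426
import Cfsg.Agent.S1437
import Cfsg.Agent.Lib.Helper53_BG16g

set_option autoImplicit false
open Cfsg

namespace Cfsg.Agent.S1355

/-- Let G be a minimal simple group of odd order and M a maximal subgroup. Then the largest normal nilpotent Hall subgroup M_F of M is nontrivial and contained in M_σ, M_σ is contained in the derived subgroup M', M' is proper in M, and the image of M' in M/M_F is nilpotent. -/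
theorem result {G : Type*} [Group G] [Finite G] (hG : Cfsg.IsMinSimpleOddOrder G)
    (M : Subgroup G) (hM : IsCoatom M) :
    Cfsg.fittingHallOf M ≠ ⊥ ∧ Cfsg.fittingHallOf M ≤ Cfsg.sigmaCore M ∧ Cfsg.sigmaCore M ≤ ⁅M, M⁆ ∧ ⁅M, M⁆ < M ∧
      Group.IsNilpotent ↥((commutator ↥M).map (QuotientGroup.mk' (Cfsg.fittingHall ↥M))) :=
  Cfsg.Agent.Lib.Helper53_BG16g.fitting_hall_chain_statement hG hM (Cfsg.Agent.S1350.result hG M hM).1
    (fun E hE => (Cfsg.Agent.S1415.result hG M hM E hE).1)
    (fun E hE => (Cfsg.Agent.S1426.result hG M hM E hE).2.1)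
    (by
      obtain ⟨K, hK⟩ := (Cfsg.Agent.S1351.result hG M hM).1
      obtain ⟨U, hU⟩ := (Cfsg.Agent.S1352.result hG M hM K ((Cfsg.Agent.S1351.result hG M hM).2 K hK) hK).1
      exact ⟨K, U, hU⟩)
    (fun K U hKU hne => Cfsg.Agent.S1437.result hG M hM K U hKU hne)

end Cfsg.Agent.S1355
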