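import Cfsg.Statements.S1421
import Cfsg.Agent.S1403
import Cfsg.Agent.S1444
import Cfsg.Agent.S1416
import Cfsg.Agent.S1417
import Cfsg.Agent.S1419
import Cfsg.Agent.Lib.Helper47_BG1211d
-- import your own Cfsg.Agent.* helpers here

set_option autoImplicit false
open Cfsg

namespace Cfsg.Agent.S1421

/-- Let G be a minimal simple group of odd order, M a maximal subgroup and E a complement to M_σ in M. Suppose that every non-identity element e of E all of whose order's prime divisors lie in τ₁(M) ∪ τ₃(M) has M_σ ∩ C_G(e) = 1. Then E has an abelian normal subgroup A₀ with E ∩ C_G(x) ≤ A₀ for every non-identity x ∈ M_σ, and E has a subgroup E₀ of the same exponent as E such that no non-identity element of E₀ centralizes a non-identity element of M_σ. -/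
theorem result {G : Type*} [Group G] [Finite G] (hG : Cfsg.IsMinSimpleOddOrder G)
    (M : Subgroup G) (hM : IsCoatom M) (E : Subgroup G) (hE : Cfsg.IsComplIn E (Cfsg.sigmaCore M) M)
    (h : ∀ e ∈ E, e ≠ 1 → (∀ p : ℕ, p.Prime → p ∣ orderOf e → p ∈ Cfsg.tau1 M ∪ Cfsg.tau3 M) →
      Cfsg.sigmaCore M ⊓ Subgroup.centralizer ({e} : Set G) = ⊥) :
    (∃ A₀ : Subgroup G, A₀ ≤ E ∧ E ≤ Subgroup.normalizer (A₀ : Set G) ∧ IsMulCommutative A₀ ∧
        ∀ x ∈ Cfsg.sigmaCore M, x ≠ 1 → E ⊓ Subgroup.centralizer ({x} : Set G) ≤ A₀) ∧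
      ∃ E₀ : Subgroup G, E₀ ≤ E ∧ Monoid.exponent E₀ = Monoid.exponent E ∧
        ∀ e ∈ E₀, e ≠ 1 → Cfsg.sigmaCore M ⊓ Subgroup.centralizer ({e} : Set G) = ⊥ := by
  have hU : Cfsg.Agent.Lib.Helper49_Sigma.UniqHyp G := fun K hK h1 h3 => Cfsg.Agent.S1403.result hG K hK h1 h3
  have h44 : Cfsg.Agent.Lib.Helper70_BG106.H1444 := fun X _ _ _ hodd H R R₀ _ hHall hR hR₀ hR₀p hZ q _ =>
    Cfsg.Agent.S1444.result hodd H R R₀ hHall hR hR₀ hR₀p hZ q
  have hC : Cfsg.Agent.Lib.Helper73_BG12.CentHyp G := fun M hM p _ A hAM hAe hA2 =>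
    (Cfsg.Agent.S1416.result hG M hM p A ⟨hAM, hAe, hA2⟩).1
  have h17 : Cfsg.Agent.Lib.Helper73_BG126.Hyp1417Full G := fun M hM q _ hq A hA =>
    Cfsg.Agent.S1417.result hG M hM q hq A hA
  have h19 : Cfsg.Agent.Lib.Helper59_BG142c.H1419 G := fun M hM E hE p _ hp hS A hA =>
    Cfsg.Agent.S1419.result hG M hM E hE p hp hS A hA
  exact Cfsg.Agent.Lib.Helper47_BG1211d.statement_S1421 hG hU h44 hC h17 h19 M hM E hE h

end Cfsg.Agent.S1421
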