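import Mathlib
import Cfsg.Statements.S1356
import Cfsg.Agent.S1350
import Cfsg.Agent.S1351
import Cfsg.Agent.S1352
import Cfsg.Agent.S1355
import Cfsg.Agent.S1420
import Cfsg.Agent.S1430
import Cfsg.Agent.S1437
import Cfsg.Agent.S1438
import Cfsg.Agent.S1439
import Cfsg.Agent.Lib.Helper53_BG16e

set_option autoImplicit false
open Cfsg

namespace Cfsg.Agent.S1356

/-- Let G be a minimal simple group of odd order and M a maximal subgroup. Then the second derived subgroup M'' lies in the Fitting subgroup F(M), F(M) is generated by M_F together with C_M(M_F), and if κ(M) is nonempty then F(M) ≤ M'. -/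
theorem result {G : Type*} [Group G] [Finite G] (hG : Cfsg.IsMinSimpleOddOrder G)
    (M : Subgroup G) (hM : IsCoatom M) :
    ⁅⁅M, M⁆, ⁅M, M⁆⁆ ≤ Cfsg.fittingOf M ∧
      Cfsg.fittingOf M = (M ⊓ Subgroup.centralizer (Cfsg.fittingHallOf M : Set G)) ⊔ Cfsg.fittingHallOf M ∧
      ((Cfsg.kappa M).Nonempty → Cfsg.fittingOf M ≤ ⁅M, M⁆) := by
  have h51 := Cfsg.Agent.S1351.result hG M hM
  have h55 := Cfsg.Agent.S1355.result hG M hM
  refine Cfsg.Agent.Lib.Helper53_BG16e.second_derived_statement hG hM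
    (Cfsg.Agent.S1350.result hG M hM).1 ?_ ?_ ⟨h55.1, h55.2.1, h55.2.2.1⟩ ?_ ?_ ?_ ?_ ?_
  · obtain ⟨K, hK⟩ := h51.1
    exact ⟨K, hK, h51.2 K hK⟩
  · intro K hKc hK
    exact (Cfsg.Agent.S1352.result hG M hM K hKc hK).1
  · intro E hE
    exact (Cfsg.Agent.S1420.result hG M hM E hE).2.1
  · intro K hK hK1
    have h := Cfsg.Agent.S1430.result hG M hM K hK hK1
    refine ⟨h.1, ?_⟩
    obtain ⟨U', -, h2, h3, h4⟩ := h.2.1
    exact ⟨U', h2, h3, h4⟩
  · intro K U hKU hne
    exact Cfsg.Agent.S1437.result hG M hM K U hKU hne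
  · intro H hH hH1 hcop
    exact (Cfsg.Agent.S1438.result hG M hM H hH hH1 hcop).1
  · exact (Cfsg.Agent.S1439.result hG M hM).2

end Cfsg.Agent.S1356
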