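import Mathlib
import Cfsg.Statements.S1357
import Cfsg.Agent.S1350
import Cfsg.Agent.S1355
import Cfsg.Agent.S1423
import Cfsg.Agent.S1426
import Cfsg.Agent.S1437
import Cfsg.Agent.S1439
import Cfsg.Agent.Lib.Helper53_BG16f

set_option autoImplicit false
open Cfsg

namespace Cfsg.Agent.S1357

/-- Let G be a minimal simple group of odd order and M a maximal subgroup with standard factorisation M = K U M_σ. If M_F ≠ M_σ then U = 1, the Fitting subgroup F(M) meets its conjugates by elements outside its normalizer trivially, and K has prime order. -/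
theorem result {G : Type*} [Group G] [Finite G] (hG : Cfsg.IsMinSimpleOddOrder G)
    (M : Subgroup G) (hM : IsCoatom M) (K U : Subgroup G) (hKU : Cfsg.IsSigmaDecomposition M K U) (hne : Cfsg.fittingHallOf M ≠ Cfsg.sigmaCore M) :
    U = ⊥ ∧ Cfsg.IsTISubset (Cfsg.fittingOf M : Set G) ∧ (Nat.card K).Prime :=
  ⟨(Cfsg.Agent.S1437.result hG M hM K U hKU hne).1,
    Cfsg.Agent.Lib.Helper53_BG16f.fitting_ti_of_ne hG hM hKU (Cfsg.Agent.S1350.result hG M hM).1
      (Cfsg.Agent.S1355.result hG M hM).2.1
      (Cfsg.Agent.S1437.result hG M hM K U hKU hne)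
      (Cfsg.Agent.S1439.result hG M hM)
      (fun E hE => Cfsg.Agent.S1426.result hG M hM E hE)
      (fun p _ hp X hXM hX P h => Cfsg.Agent.S1423.result hG M hM p hp X hXM hX P h),
    (Cfsg.Agent.S1437.result hG M hM K U hKU hne).2.2.1⟩

end Cfsg.Agent.S1357
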