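import Mathlib
import Cfsg.Statements.S1360
import Cfsg.Agent.S1350
import Cfsg.Agent.S1417
import Cfsg.Agent.S1420
import Cfsg.Agent.S1421
import Cfsg.Agent.S1430
import Cfsg.Agent.S1432
import Cfsg.Agent.Lib.Helper53_BG16b

set_option autoImplicit false
open Cfsg

namespace Cfsg.Agent.S1360

/-- Let G be a minimal simple group of odd order and M a maximal subgroup with standard factorisation M = K U M_σ. Then U contains a subgroup U₀ with the same exponent as U such that no non-identity element of U₀ centralizes a non-identity element of M_σ. -/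
theorem result {G : Type*} [Group G] [Finite G] (hG : Cfsg.IsMinSimpleOddOrder G)
    (M : Subgroup G) (hM : IsCoatom M) (K U : Subgroup G) (hKU : Cfsg.IsSigmaDecomposition M K U) :
    ∃ U₀ : Subgroup G, U₀ ≤ U ∧ Monoid.exponent U₀ = Monoid.exponent U ∧ ∀ u ∈ U₀, u ∈ Cfsg.sigmaHat M → u = 1 :=
  Cfsg.Agent.Lib.Helper53_BG16b.free_statement hG hM hKU (Cfsg.Agent.S1350.result hG M hM).1
    (fun hK1 => by
      obtain ⟨U', h1, h2, -⟩ := (Cfsg.Agent.S1430.result hG M hM K hKU.hall hK1).2.1
      exact ⟨U', h1, h2⟩)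
    (fun hE h => (Cfsg.Agent.S1421.result hG M hM U hE h).2)
    (fun x hx hx1 x' hx' hx'1 hσ => by
      rcases Cfsg.Agent.S1432.result hG M hM x hx hx1 x' hx' hx'1 hσ with h | h
      · exact Or.inl h.1
      · exact Or.inr h.1)
    (fun p _ hp A hA P hAP => (((Cfsg.Agent.S1417.result hG M hM p hp A hA).2.1 P).2 hAP).2)
    (fun E hE => (Cfsg.Agent.S1420.result hG M hM E hE).2.2.2)

end Cfsg.Agent.S1360
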