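import Cfsg.Statements.S1436
import Cfsg.Agent.S1351
import Cfsg.Agent.S1352
import Cfsg.Agent.S1354
import Cfsg.Agent.S1366
import Cfsg.Agent.S1369
import Cfsg.Agent.S1372
import Cfsg.Agent.S1374
import Cfsg.Agent.S1375
import Cfsg.Agent.S1378
import Cfsg.Agent.S1434
import Cfsg.Agent.Lib.Helper29_BG146e

set_option autoImplicit false
open Cfsg

namespace Cfsg.Agent.S1436

/-- Let G be a minimal simple group of odd order, M a maximal subgroup, x ≠ 1 in M_σ with C_G(x) ⊄ M, and N a maximal subgroup containing C_G(x). (a) If some prime of σ(N) divides the order of M, then κ(M) = ∅ and τ₂(M) = ∅. (b) If y ≠ 1 in M_σ has C_G(y) ⊄ M, N' is a maximal subgroup containing C_G(y), and gN'g⁻¹ = N for some g ∈ G, then mN'm⁻¹ = N for some m ∈ M. -/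
theorem result {G : Type*} [Group G] [Finite G] (hG : Cfsg.IsMinSimpleOddOrder G)
    (M : Subgroup G) (hM : IsCoatom M) (x : G) (hx : x ∈ Cfsg.sigmaCore M) (hx1 : x ≠ 1) (hxM : ¬ Subgroup.centralizer ({x} : Set G) ≤ M)
    (N : Subgroup G) (hN : IsCoatom N) (hxN : Subgroup.centralizer ({x} : Set G) ≤ N) :
    ((∃ p ∈ Cfsg.sigma N, p ∣ Nat.card M) → Cfsg.kappa M = ∅ ∧ Cfsg.tau2 M = ∅) ∧
      ∀ (y : G) (N' : Subgroup G) (g : G), y ∈ Cfsg.sigmaCore M → y ≠ 1 → ¬ Subgroup.centralizer ({y} : Set G) ≤ M → IsCoatom N' → Subgroup.centralizer ({y} : Set G) ≤ N' →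
        N'.map (MulAut.conj g).toMonoidHom = N → ∃ m ∈ M, N'.map (MulAut.conj m).toMonoidHom = N := by
  have hSD : Cfsg.Agent.Lib.Helper25_BGHyp.SigmaDisj G := (Cfsg.Agent.S1378.result hG).2
  have h74 : Cfsg.Agent.Lib.Helper29_BG146a.H1374 G := fun M hM x hx hx1 =>
    Cfsg.Agent.S1374.result hG M hM x hx hx1
  have h75 : Cfsg.Agent.Lib.Helper25_BGHyp.H1375 G := fun M hM x hx hx1 hxM =>
    Cfsg.Agent.S1375.result hG M hM x hx hx1 hxM
  have h51 : Cfsg.Agent.Lib.Helper33_BG16Hyp.H1351 G := fun M hM => Cfsg.Agent.S1351.result hG M hM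
  have h52 : Cfsg.Agent.Lib.Helper29_BG146c.H1352 G := fun M hM K hKc hKH =>
    (Cfsg.Agent.S1352.result hG M hM K hKc hKH).1
  have h54 : Cfsg.Agent.Lib.Helper29_BG146c.H1354 G := fun M hM K hKc hKH =>
    (Cfsg.Agent.S1354.result hG M hM K hKc hKH).1
  have h66 : Cfsg.Agent.Lib.Helper33_BG16Hyp.H1366 G := fun M hM K U hKU hK1 =>
    Cfsg.Agent.S1366.result hG M hM K U hKU hK1
  have h69 : Cfsg.Agent.Lib.Helper29_BG146c.H1369 G := fun M hM K U hKU hK1 Ms hMs hKst hKstH =>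
    (Cfsg.Agent.S1369.result hG M hM K U hKU hK1 Ms hMs hKst hKstH).2
  have h72 : Cfsg.Agent.Lib.Helper29_BG146c.H1372 G := fun M hM K U hKU hK1 hU1 =>
    (Cfsg.Agent.S1372.result hG M hM K U hKU hK1 hU1).2
  have h34 : Cfsg.Agent.Lib.Helper29_BG146c.H1434 G := fun M hM K U hKU hK1 Ms hMs hKst hKstH =>
    (Cfsg.Agent.S1434.result hG M hM K U hKU hK1 Ms hMs hKst hKstH).2.1
  exact Cfsg.Agent.Lib.Helper29_BG146e.statement_S1436 hG hSD h74 h75 h51 h52 h54 h66 h69 h72 h34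
    M hM x hx hx1 hxM N hN hxN

end Cfsg.Agent.S1436
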