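import Cfsg.Agent.Lib.Helper33_BG16c
import Cfsg.Agent.S1350
import Cfsg.Agent.S1366
import Cfsg.Agent.S1430
import Cfsg.Agent.S1435

set_option autoImplicit false
open Cfsg

namespace Cfsg.Agent.S1363

/-- Let G be a minimal simple group of odd order and M a maximal subgroup with standard factorisation M = K U M_σ and K ≠ 1. Then U is abelian and the normalizer of U in G is not contained in M. -/
theorem result {G : Type*} [Group G] [Finite G] (hG : Cfsg.IsMinSimpleOddOrder G)
    (M : Subgroup G) (hM : IsCoatom M) (K U : Subgroup G) (hKU : Cfsg.IsSigmaDecomposition M K U) (hK1 : K ≠ ⊥) :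
    IsMulCommutative U ∧ ¬ Subgroup.normalizer (U : Set G) ≤ M := by
  exact Cfsg.Agent.Lib.Helper33_BG16c.statement_S1363 hG
    (fun M hM => Cfsg.Agent.S1350.result hG M hM)
    (fun M hM K U hKU hK1 => Cfsg.Agent.S1366.result hG M hM K U hKU hK1)
    (fun M hM K hK hK1 => Cfsg.Agent.S1430.result hG M hM K hK hK1)
    (fun M hM K U hKU hK1 hU1 Mstar hMs hKst hKstH r _ hr R H hH hNR =>
      Cfsg.Agent.S1435.result hG M hM K U hKU hK1 hU1 Mstar hMs hKst hKstH r hr R H hH hNR)
    M hM K U hKU hK1

end Cfsg.Agent.S1363
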