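import Cfsg.Statements.S1370
import Cfsg.Agent.Lib.Helper72_BG16
import Cfsg.Agent.S1354
import Cfsg.Agent.S1366
import Cfsg.Agent.S1430
import Cfsg.Agent.S1431
import Cfsg.Agent.S1434

set_option autoImplicit false
open Cfsg

namespace Cfsg.Agent.S1370

/-- Let G be a minimal simple group of odd order, M a maximal subgroup with standard factorisation M = K U M_σ, K ≠ 1, K* = M_σ ∩ C_G(K) and Z the subgroup generated by K and K*. Then the set of elements of Z lying in neither K nor K* is a TI-subset of G, and its set-normalizer in G is exactly Z. -/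
theorem result {G : Type*} [Group G] [Finite G] (hG : Cfsg.IsMinSimpleOddOrder G)
    (M : Subgroup G) (hM : IsCoatom M) (K U : Subgroup G) (hKU : Cfsg.IsSigmaDecomposition M K U) (hK1 : K ≠ ⊥) :
    Cfsg.IsTISubset ((↑(K ⊔ (Cfsg.sigmaCore M ⊓ Subgroup.centralizer (K : Set G))) : Set G) \ ((K : Set G) ∪ ↑(Cfsg.sigmaCore M ⊓ Subgroup.centralizer (K : Set G)))) ∧ Subgroup.normalizer ((↑(K ⊔ (Cfsg.sigmaCore M ⊓ Subgroup.centralizer (K : Set G))) : Set G) \ ((K : Set G) ∪ ↑(Cfsg.sigmaCore M ⊓ Subgroup.centralizer (K : Set G)))) = K ⊔ (Cfsg.sigmaCore M ⊓ Subgroup.centralizer (K : Set G)) := by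
  exact Cfsg.Agent.Lib.Helper72_BG16.zhat_ti
    (fun M hM K hKc hK => Cfsg.Agent.S1354.result hG M hM K hKc hK)
    (fun M hM K U hKU hK1 => Cfsg.Agent.S1366.result hG M hM K U hKU hK1)
    (fun M hM K hK hK1 => Cfsg.Agent.S1430.result hG M hM K hK hK1)
    (fun M hM K hK hK1 => Cfsg.Agent.S1431.result hG M hM K hK hK1)
    (fun M hM K U hKU hK1 Mstar hMstar hKst hKstH =>
      Cfsg.Agent.S1434.result hG M hM K U hKU hK1 Mstar hMstar hKst hKstH)
    M hM K U hKU hK1

end Cfsg.Agent.S1370
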