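import Cfsg.Statements.S1383
import Cfsg.Agent.Lib.Helper11_BGTypes3
import Cfsg.Agent.Lib.Helper48_BG157
import Cfsg.Agent.S1350
import Cfsg.Agent.S1353
import Cfsg.Agent.S1354
import Cfsg.Agent.S1355
import Cfsg.Agent.S1356
import Cfsg.Agent.S1357
import Cfsg.Agent.S1364
import Cfsg.Agent.S1365
import Cfsg.Agent.S1370
import Cfsg.Agent.S1375
import Cfsg.Agent.S1430
import Cfsg.Agent.S1431

set_option autoImplicit false
open Cfsg

namespace Cfsg.Agent.S1383

/-- Let G be a minimal simple group of odd order and M a maximal subgroup with standard factorisation M = K U M_σ. Then M is of Type V if and only if K ≠ 1, U = 1 and M_F = M_σ. -/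
theorem result {G : Type*} [Group G] [Finite G] (hG : Cfsg.IsMinSimpleOddOrder G)
    (M : Subgroup G) (hM : IsCoatom M) (K U : Subgroup G) (hKU : Cfsg.IsSigmaDecomposition M K U) :
    Cfsg.IsOfTypeV M ↔ (K ≠ ⊥ ∧ U = ⊥ ∧ Cfsg.fittingHallOf M = Cfsg.sigmaCore M) :=
  Cfsg.Agent.Lib.Helper11_BGTypes3.typeV_iff' hKU
    (Cfsg.Agent.S1350.result hG M hM).1
    (Cfsg.Agent.S1354.result hG M hM K hKU.cyclic hKU.hall)
    (Cfsg.Agent.S1355.result hG M hM)
    (Cfsg.Agent.S1356.result hG M hM)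
    (Cfsg.Agent.S1364.result hG M hM K U hKU)
    (Cfsg.Agent.S1365.result hG M hM K U hKU)
    (Cfsg.Agent.S1370.result hG M hM K U hKU)
    (fun hK1 _ _ hTI =>
      Cfsg.Agent.Lib.Helper11_BGTypes3.typeV_alt_of_h40 hKU hK1
        (Cfsg.Agent.S1355.result hG M hM).2.1 hTI
        (fun g hg hX =>
          Cfsg.Agent.Lib.Helper48_BG157.main hG M hM K U hKU hK1 g hg hX
            (Cfsg.Agent.S1357.result hG M hM K U hKU)
            (fun x hx hx1 hxM => Cfsg.Agent.S1375.result hG M hM x hx hx1 hxM)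
            (Cfsg.Agent.S1430.result hG M hM K hKU.hall hK1)
            (Cfsg.Agent.S1431.result hG M hM K hKU.hall hK1)
            (Cfsg.Agent.S1353.result hG M hM K U hKU)
            (Cfsg.Agent.S1364.result hG M hM K U hKU hK1)))

end Cfsg.Agent.S1383
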