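import Cfsg.Statements.S1384
-- import your own Cfsg.Agent.* helpers here
import Cfsg.Agent.S1403
import Cfsg.Agent.S1444
import Cfsg.Agent.Lib.Helper70_BG107e
import Cfsg.Agent.Lib.Helper29_HallFusion

set_option autoImplicit false
open Cfsg

namespace Cfsg.Agent.S1384

/-- Let G be a minimal simple group of odd order and H a nilpotent subgroup whose order is coprime to its index. If x ∈ H and gxg⁻¹ ∈ H for some g ∈ G, then nxn⁻¹ = gxg⁻¹ for some n in the normalizer of H. -/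
theorem result {G : Type*} [Group G] [Finite G] (hG : Cfsg.IsMinSimpleOddOrder G)
    (H : Subgroup G) (hHn : Group.IsNilpotent H) (hHall : (Nat.card H).Coprime H.index) :
    ∀ x ∈ H, ∀ g : G, g * x * g⁻¹ ∈ H → ∃ n ∈ Subgroup.normalizer (H : Set G), n * x * n⁻¹ = g * x * g⁻¹ := by
  have hU : Cfsg.Agent.Lib.Helper49_Sigma.UniqHyp G := fun K hK h1 h3 => Cfsg.Agent.S1403.result hG K hK h1 h3
  have h44 : Cfsg.Agent.Lib.Helper70_BG106.H1444 := fun X _ _ _ hodd H R R₀ _ hHall hR hR₀ hR₀p hZ q _ =>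
    Cfsg.Agent.S1444.result hodd H R R₀ hHall hR hR₀ hR₀p hZ q
  have h04 := Cfsg.Agent.Lib.Helper70_BG107e.h1404_of_uniq hG hU
  have h10 := Cfsg.Agent.Lib.Helper70_BG107e.h1410_of_uniq hG hU h44
  exact Cfsg.Agent.Lib.Helper29_HallFusion.hall_fusion hG h04 h10 H hHn hHall

end Cfsg.Agent.S1384
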