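import Cfsg.Statements.S1386
import Mathlib.GroupTheory.NoncommCoprod

set_option autoImplicit false
open Cfsg

namespace Cfsg.Agent.S1386

/-- If `A ⊔ B` is cyclic and `A ⊓ B = ⊥` (finite), the orders of `A` and `B` are coprime. -/
theorem coprime_of_cyclic_sup {G : Type*} [Group G] [Finite G] (A B : Subgroup G)
    (hcyc : IsCyclic ↥(A ⊔ B)) (hAB : A ⊓ B = ⊥) : (Nat.card A).Coprime (Nat.card B) := by
  have hcomm : ∀ (a : A) (b : B),
      Commute (Subgroup.inclusion (le_sup_left : A ≤ A ⊔ B) a)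
        (Subgroup.inclusion (le_sup_right : B ≤ A ⊔ B) b) := by
    intro a b
    exact isMulCommutative_iff.mp (IsCyclic.isMulCommutative) _ _
  have hφ : Function.Injective (MonoidHom.noncommCoprod
      (Subgroup.inclusion (le_sup_left : A ≤ A ⊔ B))
      (Subgroup.inclusion (le_sup_right : B ≤ A ⊔ B)) hcomm) := by
    rw [MonoidHom.noncommCoprod_injective]
    refine ⟨Subgroup.inclusion_injective _, Subgroup.inclusion_injective _, ?_⟩
    rw [disjoint_iff_inf_le]
    rintro x ⟨⟨a, ha⟩, ⟨b, hb⟩⟩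
    have h1 : (x : G) ∈ A ⊓ B := by
      constructor
      · have : (x : G) = (a : G) := by rw [← ha]; rfl
        rw [this]; exact a.2
      · have : (x : G) = (b : G) := by rw [← hb]; rfl
        rw [this]; exact b.2
    rw [hAB, Subgroup.mem_bot] at h1
    rw [Subgroup.mem_bot]
    exact Subtype.ext h1
  have : IsCyclic (A × B) := isCyclic_of_injective _ hφ
  exact coprime_card_of_isCyclic_prod A B

theorem mem_sup_of_commute {G : Type*} [Group G] (A B : Subgroup G)
    (hc : ∀ a ∈ A, ∀ b ∈ B, a * b = b * a) {w : G} (hw : w ∈ A ⊔ B) :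
    ∃ a ∈ A, ∃ b ∈ B, w = a * b := by
  have hcomm : ∀ (a : A) (b : B), Commute (A.subtype a) (B.subtype b) := fun a b => hc a a.2 b b.2
  have h := MonoidHom.noncommCoprod_range A.subtype B.subtype hcomm
  rw [Subgroup.range_subtype, Subgroup.range_subtype] at h
  rw [← h] at hw
  obtain ⟨⟨a, b⟩, hab⟩ := hw
  refine ⟨a, a.2, b, b.2, ?_⟩
  rw [← hab]
  rfl

theorem result {G : Type*} [Group G] [Finite G] (W₁ W₂ S U W₂' : Subgroup G) (hW : Cfsg.IsSelfNormalizingCyclic W₁ W₂)
    (hSW : Cfsg.IsComplIn ⁅S, S⁆ W₁ S) (hW₂S : W₂ ≤ S) (hP : Cfsg.IsTypePWith S W₁ U W₂') :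
    W₂' = W₂ := by
  obtain ⟨hW1ne, hW2ne, hW12, hWcomm, hWcyc, hWnorm⟩ := hW
  obtain ⟨hS'S, hW1S, hS'W1, hSdec⟩ := hSW
  obtain ⟨_, hW2'ne, hW12', hWcomm', hWcyc', hWnorm'⟩ := hP.selfNormalizing
  -- pick a nontrivial x in W₁
  obtain ⟨x, hxW1, hx1⟩ := (Subgroup.bot_or_exists_ne_one W₁).resolve_left hW1ne
  have hcent := hP.W₂_centralizer x hxW1 hx1
  -- W₁ is commutative
  have hW1comm : ∀ a ∈ W₁, ∀ b ∈ W₁, a * b = b * a := by
    intro a ha b hb
    have := hP.W₁_cyclic
    have := isMulCommutative_iff.mp (IsCyclic.isMulCommutative (α := W₁)) ⟨a, ha⟩ ⟨b, hb⟩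
    exact congrArg Subtype.val this
  -- W₁ ⊔ W₂' is commutative
  have hW'comm : ∀ a ∈ W₁ ⊔ W₂', ∀ b ∈ W₁ ⊔ W₂', a * b = b * a := by
    intro a ha b hb
    have := isMulCommutative_iff.mp (IsCyclic.isMulCommutative (α := ↥(W₁ ⊔ W₂'))) ⟨a, ha⟩ ⟨b, hb⟩
    exact congrArg Subtype.val this
  have hcop : (Nat.card W₁).Coprime (Nat.card W₂) := coprime_of_cyclic_sup W₁ W₂ hWcyc hW12
  -- Step A
  have hA : W₂ ≤ W₂' := by
    intro z hz
    obtain ⟨a, ha, b, hb, hzab⟩ := hSdec z (hW₂S hz)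
    have hbx : b * x = x * b := hW1comm b hb x hxW1
    have hzx : x * z = z * x := hWcomm x hxW1 z hz
    have ha_eq : a = z * b⁻¹ := by rw [hzab]; group
    have hax : x * a = a * x := by
      have hbx' : b⁻¹ * x = x * b⁻¹ := by
        have : x = b⁻¹ * x * b := by rw [mul_assoc, ← hbx, ← mul_assoc, inv_mul_cancel, one_mul]
        calc b⁻¹ * x = b⁻¹ * x * b * b⁻¹ := by group
          _ = x * b⁻¹ := by rw [← this]
      rw [ha_eq, ← mul_assoc, hzx, mul_assoc, mul_assoc, hbx']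
    have haW2' : a ∈ W₂' := by
      rw [← hcent]
      refine Subgroup.mem_inf.mpr ⟨ha, ?_⟩
      rw [Subgroup.mem_centralizer_iff]
      intro h hh
      rw [Set.mem_singleton_iff] at hh
      rw [hh]; exact hax
    have hab : b * a = a * b := hWcomm' b hb a haW2'
    have hzn : z ^ Nat.card W₂ = 1 := by
      have : (⟨z, hz⟩ : W₂) ^ Nat.card W₂ = 1 := pow_card_eq_one'
      exact congrArg Subtype.val this
    have hbm : b ^ Nat.card W₁ = 1 := by
      have : (⟨b, hb⟩ : W₁) ^ Nat.card W₁ = 1 := pow_card_eq_one'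
      exact congrArg Subtype.val this
    have hbn : b ^ Nat.card W₂ = 1 := by
      have h1 : a ^ Nat.card W₂ * b ^ Nat.card W₂ = 1 := by
        rw [← (Commute.mul_pow (show Commute a b from hab.symm)), ← hzab, hzn]
      have h2 : b ^ Nat.card W₂ = (a ^ Nat.card W₂)⁻¹ := by
        rw [eq_inv_iff_mul_eq_one]
        have hc : Commute (a ^ Nat.card W₂) (b ^ Nat.card W₂) :=
          (show Commute a b from hab.symm).pow_pow _ _
        rw [← hc.eq]; exact h1
      have h3 : b ^ Nat.card W₂ ∈ W₁ ⊓ W₂' := by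
        refine Subgroup.mem_inf.mpr ⟨pow_mem hb _, ?_⟩
        rw [h2]
        exact inv_mem (pow_mem haW2' _)
      rw [hW12', Subgroup.mem_bot] at h3
      exact h3
    have hb1 : b = 1 := by
      have h1 : orderOf b ∣ Nat.card W₁ := orderOf_dvd_of_pow_eq_one hbm
      have h2 : orderOf b ∣ Nat.card W₂ := orderOf_dvd_of_pow_eq_one hbn
      have h3 : orderOf b = 1 := Nat.eq_one_of_dvd_coprimes hcop h1 h2
      exact orderOf_eq_one_iff.mp h3
    rw [hzab, hb1, mul_one]
    exact haW2'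
  -- Step B
  have hB : W₂' ≤ W₂ := by
    obtain ⟨z, hzW2, hz1⟩ := (Subgroup.bot_or_exists_ne_one W₂).resolve_left hW2ne
    have hxz_sup : x * z ∈ W₁ ⊔ W₂ :=
      mul_mem (Subgroup.mem_sup_left hxW1) (Subgroup.mem_sup_right hzW2)
    have hxz1 : x * z ∉ W₁ := by
      intro h
      have : z ∈ W₁ ⊓ W₂ := Subgroup.mem_inf.mpr ⟨by simpa using mul_mem (inv_mem hxW1) h, hzW2⟩
      rw [hW12, Subgroup.mem_bot] at this
      exact hz1 this
    have hxz2 : x * z ∉ W₂ := by
      intro h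
      have : x ∈ W₁ ⊓ W₂ := Subgroup.mem_inf.mpr ⟨hxW1, by simpa using mul_mem h (inv_mem hzW2)⟩
      rw [hW12, Subgroup.mem_bot] at this
      exact hx1 this
    have hN := hWnorm {x * z} (by
      intro y hy
      rw [Set.mem_singleton_iff] at hy
      rw [hy]
      refine ⟨hxz_sup, ?_⟩
      rintro (h | h)
      · exact hxz1 h
      · exact hxz2 h) (Set.singleton_nonempty _)
    intro w hw
    have hwx : w * x = x * w := (hWcomm' x hxW1 w hw).symm
    have hwz : w * z = z * w :=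
      hW'comm w (Subgroup.mem_sup_right hw) z (Subgroup.mem_sup_right (hA hzW2))
    have hwN : w ∈ Subgroup.normalizer ({x * z} : Set G) := by
      rw [Subgroup.mem_set_normalizer_iff]
      intro h
      simp only [Set.mem_singleton_iff]
      constructor
      · intro hh
        rw [hh]
        rw [← mul_assoc, hwx, mul_assoc x w z, hwz]
        group
      · intro hh
        have : h = w⁻¹ * (x * z) * w := by rw [← hh]; group
        rw [this, mul_assoc, mul_assoc x z w, ← hwz, ← mul_assoc x w z, ← hwx]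
        group
    rw [hN] at hwN
    obtain ⟨a, ha, b, hb, hwab⟩ := mem_sup_of_commute W₁ W₂ hWcomm hwN
    have ha1 : a ∈ W₁ ⊓ W₂' := by
      refine Subgroup.mem_inf.mpr ⟨ha, ?_⟩
      have : a = w * b⁻¹ := by rw [hwab]; group
      rw [this]
      exact mul_mem hw (inv_mem (hA hb))
    rw [hW12', Subgroup.mem_bot] at ha1
    rw [hwab, ha1, one_mul]
    exact hb
  exact le_antisymm hB hA

end Cfsg.Agent.S1386
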