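import Cfsg.Statements.S1388
import Cfsg.Agent.S1386
import Cfsg.Agent.S1387

set_option autoImplicit false
open Cfsg

namespace Cfsg.Agent.S1388

/-- Cardinality of an internal complement decomposition. -/
theorem card_of_isComplIn {G : Type*} [Group G] {A B M : Subgroup G} (h : IsComplIn A B M) :
    Nat.card A * Nat.card B = Nat.card M := by
  obtain ⟨hA, hB, hAB, hdec⟩ := h
  rw [← Nat.card_prod]
  apply Nat.card_congr
  refine Equiv.ofBijective
    (fun ab : A × B => (⟨(ab.1 : G) * (ab.2 : G), mul_mem (hA ab.1.2) (hB ab.2.2)⟩ : M)) ⟨?_, ?_⟩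
  · rintro ⟨⟨a, ha⟩, ⟨b, hb⟩⟩ ⟨⟨a', ha'⟩, ⟨b', hb'⟩⟩ heq
    have heq' : a * b = a' * b' := congrArg Subtype.val heq
    have h1 : a'⁻¹ * a = b' * b⁻¹ := by
      calc a'⁻¹ * a = a'⁻¹ * (a * b) * b⁻¹ := by group
        _ = b' * b⁻¹ := by rw [heq']; group
    have h2 : a'⁻¹ * a ∈ A ⊓ B := by
      refine Subgroup.mem_inf.mpr ⟨mul_mem (inv_mem ha') ha, ?_⟩
      rw [h1]; exact mul_mem hb' (inv_mem hb)
    rw [hAB, Subgroup.mem_bot] at h2
    have h3 : a = a' := by
      have := inv_mul_eq_one.mp h2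
      exact this.symm
    have h4 : b = b' := by
      rw [h3] at heq'
      exact mul_left_cancel heq'
    subst h3; subst h4; rfl
  · rintro ⟨m, hm⟩
    obtain ⟨a, ha, b, hb, hmab⟩ := hdec m hm
    exact ⟨(⟨a, ha⟩, ⟨b, hb⟩), Subtype.ext hmab.symm⟩

theorem pow_card_subgroup {G : Type*} [Group G] {A : Subgroup G} {a : G} (ha : a ∈ A) :
    a ^ Nat.card A = 1 := by
  have : (⟨a, ha⟩ : A) ^ Nat.card A = 1 := pow_card_eq_one'
  exact congrArg Subtype.val this

theorem result {G : Type*} [Group G] [Finite G] (M W₁ U W₂ : Subgroup G) (hP : Cfsg.IsTypePWith M W₁ U W₂) :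
    ⁅U, U⁆ ≤ Subgroup.centralizer (Cfsg.fittingHallOf M : Set G) ∧ (U ≠ ⊥ → ¬ U ≤ Subgroup.centralizer (Cfsg.fittingHallOf M : Set G)) := by
  have hF := Cfsg.Agent.S1387.result M W₁ U W₂ hP
  obtain ⟨hHM', hUM', hHU, hdec⟩ := hP.U_compl
  obtain ⟨hM'M, hW1M, hM'W1, hdecM⟩ := hP.W₁_compl
  have hUM : U ≤ M := hUM'.trans hM'M
  constructor
  · -- first part
    intro w hw
    have hwU : w ∈ U := by
      have : ⁅U, U⁆ ≤ U := by
        rw [Subgroup.commutator_le]
        intro g₁ h₁ g₂ h₂
        exact mul_mem (mul_mem (mul_mem h₁ h₂) (inv_mem h₁)) (inv_mem h₂)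
      exact this hw
    have hw2 : w ∈ ⁅⁅M, M⁆, ⁅M, M⁆⁆ := Subgroup.commutator_mono hUM' hUM' hw
    have hw3 : w ∈ fittingHallOf M ⊔ (U ⊓ Subgroup.centralizer (fittingHallOf M : Set G)) := by
      rw [← hF, ← hP.fitting_eq]
      exact hP.derived_two_le hw2
    have hcomm : ∀ a ∈ fittingHallOf M,
        ∀ b ∈ U ⊓ Subgroup.centralizer (fittingHallOf M : Set G), a * b = b * a := by
      intro a ha b hb
      have hb2 := (Subgroup.mem_inf.mp hb).2
      rw [Subgroup.mem_centralizer_iff] at hb2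
      exact hb2 a ha
    obtain ⟨h, hh, c, hc, hwhc⟩ := Cfsg.Agent.S1386.mem_sup_of_commute _ _ hcomm hw3
    obtain ⟨hcU, hcC⟩ := Subgroup.mem_inf.mp hc
    have hh1 : h ∈ fittingHallOf M ⊓ U := by
      refine Subgroup.mem_inf.mpr ⟨hh, ?_⟩
      have : h = w * c⁻¹ := by rw [hwhc]; group
      rw [this]
      exact mul_mem hwU (inv_mem hcU)
    rw [hHU, Subgroup.mem_bot] at hh1
    rw [hwhc, hh1, one_mul]
    exact hcC
  · -- second part
    intro hUne hUC
    apply hUne
    -- cardinalities
    have hcard1 := card_of_isComplIn hP.U_compl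
    have hcard2 := card_of_isComplIn hP.W₁_compl
    have hHcard : Nat.card (fittingHallOf M) = Nat.card (fittingHall M) := by
      unfold fittingHallOf
      exact (Nat.card_congr ((fittingHall ↥M).equivMapOfInjective M.subtype
        M.subtype_injective).toEquiv).symm
    have hUMcard : Nat.card (U.subgroupOf M) = Nat.card U :=
      Nat.card_congr (Subgroup.subgroupOfEquivOfLe hUM).toEquiv
    have hHall := Cfsg.Agent.S1387.fittingHall_coprime ↥M
    -- |M| = |H| * |U| * |W₁|
    have hMcard : Nat.card M = Nat.card (fittingHallOf M) * Nat.card U * Nat.card W₁ := by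
      rw [← hcard2, ← hcard1]
    -- |H| coprime to |U|
    have hidx : (fittingHall ↥M).index = Nat.card U * Nat.card W₁ := by
      have h1 := (fittingHall ↥M).card_mul_index
      rw [hMcard, ← hHcard, mul_assoc] at h1
      exact Nat.eq_of_mul_eq_mul_left Nat.card_pos h1
    have hcopHU : (Nat.card (fittingHallOf M)).Coprime (Nat.card U) := by
      rw [hHcard]
      rw [hidx] at hHall
      exact Nat.Coprime.coprime_mul_right_right hHall
    -- |W₁| coprime to |M'|
    have hcopW : (Nat.card W₁).Coprime (Nat.card ↥⁅M, M⁆) := by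
      have h1 := hP.W₁_hall
      have h2 : W₁.relIndex M = Nat.card ↥⁅M, M⁆ := by
        have h3 := Subgroup.relIndex_mul_relIndex (⊥ : Subgroup G) W₁ M bot_le hW1M
        rw [Subgroup.relIndex_bot_left, Subgroup.relIndex_bot_left, ← hcard2, mul_comm] at h3
        exact Nat.eq_of_mul_eq_mul_right Nat.card_pos h3
      rw [h2] at h1
      exact h1
    have hcopWU : (Nat.card W₁).Coprime (Nat.card U) := by
      rw [← hcard1] at hcopW
      exact Nat.Coprime.coprime_mul_left_right hcopW
    -- U.subgroupOf M is normal in M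
    have hM'normal : ∀ m ∈ M, ∀ v ∈ ⁅M, M⁆, m * v * m⁻¹ ∈ ⁅M, M⁆ := by
      intro m hm v hv
      have h1 : (⁅M, M⁆).map (MulAut.conj m).toMonoidHom = ⁅M, M⁆ := by
        have hMm : M.map (MulAut.conj m).toMonoidHom = M := by
          apply le_antisymm
          · rintro x ⟨y, hy, rfl⟩
            exact mul_mem (mul_mem hm hy) (inv_mem hm)
          · intro x hx
            refine ⟨m⁻¹ * x * m, mul_mem (mul_mem (inv_mem hm) hx) hm, ?_⟩
            simp [MulAut.conj_apply]; group
        rw [Subgroup.map_commutator, hMm]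
      rw [← h1]
      exact ⟨v, hv, rfl⟩
    have hUnormal : ∀ m ∈ M, ∀ v ∈ U, m * v * m⁻¹ ∈ U := by
      intro m hm v hv
      have h1 : m * v * m⁻¹ ∈ ⁅M, M⁆ := hM'normal m hm v (hUM' hv)
      obtain ⟨h, hh, u, hu, hvhu⟩ := hdec _ h1
      have hhu : Commute h u := by
        have := hUC hu
        rw [Subgroup.mem_centralizer_iff] at this
        exact this h hh
      have h2 : (m * v * m⁻¹) ^ Nat.card U = 1 := by
        have : (m * v * m⁻¹) ^ Nat.card U = m * v ^ Nat.card U * m⁻¹ := by
          rw [conj_pow]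
        rw [this, pow_card_subgroup hv]; group
      rw [hvhu, hhu.mul_pow, pow_card_subgroup hu, mul_one] at h2
      have h3 : h ^ Nat.card (fittingHallOf M) = 1 := pow_card_subgroup hh
      have h4 : orderOf h = 1 := Nat.eq_one_of_dvd_coprimes hcopHU
        (orderOf_dvd_of_pow_eq_one h3) (orderOf_dvd_of_pow_eq_one h2)
      rw [orderOf_eq_one_iff] at h4
      rw [hvhu, h4, one_mul]
      exact hu
    have hnorm : (U.subgroupOf M).Normal := by
      constructor
      intro n hn g
      rw [Subgroup.mem_subgroupOf] at hn ⊢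
      exact hUnormal g g.2 n hn
    have hnil : Group.IsNilpotent (U.subgroupOf M) := by
      have := hP.U_nilpotent
      exact Group.nilpotent_of_mulEquiv (Subgroup.subgroupOfEquivOfLe hUM).symm
    have hcop : (Nat.card (U.subgroupOf M)).Coprime (U.subgroupOf M).index := by
      have h1 := (U.subgroupOf M).card_mul_index
      rw [hUMcard, hMcard] at h1
      have h2 : (U.subgroupOf M).index = Nat.card (fittingHallOf M) * Nat.card W₁ := by
        have : Nat.card U * (U.subgroupOf M).index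
            = Nat.card U * (Nat.card (fittingHallOf M) * Nat.card W₁) := by
          rw [h1]; ring
        exact Nat.eq_of_mul_eq_mul_left Nat.card_pos this
      rw [hUMcard, h2]
      exact Nat.Coprime.mul_right hcopHU.symm hcopWU.symm
    have hle : U.subgroupOf M ≤ fittingHall ↥M := le_sSup ⟨hnorm, hnil, hcop⟩
    have hUH : U ≤ fittingHallOf M := by
      intro u hu
      exact Subgroup.mem_map.mpr ⟨⟨u, hUM hu⟩, hle (Subgroup.mem_subgroupOf.mpr hu), rfl⟩
    rw [eq_bot_iff, ← hHU]
    exact le_inf hUH le_rfl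

end Cfsg.Agent.S1388
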