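import Cfsg.Statements.S1389
import Cfsg.Agent.S1350
import Cfsg.Agent.S1351
import Cfsg.Agent.S1352
import Cfsg.Agent.S1355
import Cfsg.Agent.S1382
import Cfsg.Agent.S1437
import Cfsg.Agent.S1387
import Cfsg.Agent.Lib.Helper49_SigmaDisjoint

set_option autoImplicit false
open Cfsg

namespace Cfsg.Agent.S1389

open Cfsg.Agent.Lib.Helper84_RelSylow (IsSylowIn isSylowIn_of_sylow)
open Cfsg.Agent.Lib.Helper49_Sigma (SylM exists_sylM_of_mem_sigma exists_sylM_ge)

/-- A Hall subgroup `T` of `M` inside `M_σ`: its nontrivial Sylow subgroups have their normalizers in `M`,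
and `T` is a Hall subgroup of `G`. -/
theorem hall_in_sigmaCore {G : Type*} [Group G] [Finite G] {M T : Subgroup G} (hTM : T ≤ M)
    (hTσ : T ≤ Cfsg.sigmaCore M) (hHall : (Nat.card T).Coprime (T.relIndex M)) :
    (∀ (p : ℕ), p.Prime → ∀ (P : Sylow p ↥T), (P : Subgroup ↥T) ≠ ⊥ →
        Subgroup.normalizer ((((P : Subgroup ↥T).map T.subtype : Subgroup G)) : Set G) ≤ M) ∧
      (Nat.card T).Coprime T.index := by
  -- the basic step: a nontrivial Sylow subgroup of `T` is a good Sylow subgroup of `G`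
  have key : ∀ (p : ℕ) [Fact p.Prime] (P : Sylow p ↥T), p ∣ Nat.card T →
      SylM p M ((P : Subgroup ↥T).map T.subtype) := by
    intro p hp P hpT
    have hpp : p.Prime := hp.out
    set Q : Subgroup G := (P : Subgroup ↥T).map T.subtype with hQ
    have hQT : IsSylowIn p Q T := isSylowIn_of_sylow P
    have hpσ : p ∈ Cfsg.sigma M :=
      Cfsg.Agent.Lib.Helper49_SigmaDisjoint.mem_sigma_of_dvd_card_sigmaCore M hpp
        (dvd_trans hpT (Subgroup.card_dvd_of_le hTσ))
    obtain ⟨P₀, hP₀⟩ := exists_sylM_of_mem_sigma hpσ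
    obtain ⟨P', hP', hQP'⟩ := exists_sylM_ge hP₀ hQT.isPGroup (hQT.le.trans hTM)
    have hQM : IsSylowIn p Q M := by
      refine ⟨hQT.le.trans hTM, hQT.isPGroup, ?_⟩
      rw [← Subgroup.relIndex_mul_relIndex Q T M hQT.le hTM]
      intro hd
      rcases (Nat.Prime.dvd_mul hpp).mp hd with h | h
      · exact hQT.not_dvd h
      · exact (Nat.Prime.coprime_iff_not_dvd hpp).mp
          (Nat.Coprime.coprime_dvd_left hpT hHall) h
    have heq : P' = Q := hQM.eq_of_le hQP' hP'.2.1 hP'.1.isPGroup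
    rw [← heq]
    exact hP'
  have hdvd : ∀ (p : ℕ) [Fact p.Prime] (P : Sylow p ↥T), (P : Subgroup ↥T) ≠ ⊥ → p ∣ Nat.card T := by
    intro p hp P hP
    have hpp : p.Prime := hp.out
    obtain ⟨k, hk⟩ := IsPGroup.iff_card.mp P.2
    have hk0 : k ≠ 0 := by
      rintro rfl
      rw [pow_zero] at hk
      exact hP ((Subgroup.card_eq_one).mp hk)
    have h1 : p ∣ Nat.card (P : Subgroup ↥T) := hk ▸ dvd_pow_self p hk0
    exact dvd_trans h1 (Subgroup.card_subgroup_dvd_card _)
  refine ⟨?_, ?_⟩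
  · intro p hpp P hP
    haveI : Fact p.Prime := ⟨hpp⟩
    exact (key p P (hdvd p P hP)).2.2
  · apply Nat.Coprime.symm
    apply Nat.coprime_of_dvd
    intro p hpp hpi hpT
    haveI : Fact p.Prime := ⟨hpp⟩
    obtain ⟨P⟩ : Nonempty (Sylow p ↥T) := inferInstance
    have hS := key p P hpT
    have hQT : IsSylowIn p ((P : Subgroup ↥T).map T.subtype) T := isSylowIn_of_sylow P
    have h1 : ¬ p ∣ ((P : Subgroup ↥T).map T.subtype).index := by
      have := hS.1.not_dvd
      rwa [Subgroup.relIndex_top_right] at this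
    apply h1
    rw [← Subgroup.relIndex_mul_index hQT.le]
    exact dvd_mul_of_dvd_right hpi _

/-- Let G be a minimal simple group of odd order and M a maximal subgroup, and let M_s be M' if M is of Type III or IV and M_F otherwise. Then N_G(P) ≤ M for every nontrivial Sylow subgroup P of M_s, and both M_F and M_s have order coprime to their index in G. -/
theorem result {G : Type*} [Group G] [Finite G] (hG : Cfsg.IsMinSimpleOddOrder G)
    (M : Subgroup G) (hM : IsCoatom M) :
    (∀ (p : ℕ), p.Prime → ∀ (P : Sylow p ↥(Cfsg.typeCore M)), (P : Subgroup ↥(Cfsg.typeCore M)) ≠ ⊥ →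
        Subgroup.normalizer ((((P : Subgroup ↥(Cfsg.typeCore M)).map (Cfsg.typeCore M).subtype : Subgroup G)) : Set G) ≤ M) ∧
      (Nat.card (Cfsg.fittingHallOf M)).Coprime (Cfsg.fittingHallOf M).index ∧
      (Nat.card (Cfsg.typeCore M)).Coprime (Cfsg.typeCore M).index := by
  have h55 := Cfsg.Agent.S1355.result hG M hM
  have h50 := Cfsg.Agent.S1350.result hG M hM
  -- `M_F` is a Hall subgroup of `M`
  have hFM : Cfsg.fittingHallOf M ≤ M := Subgroup.map_subtype_le _
  have hFcop : (Nat.card (Cfsg.fittingHallOf M)).Coprime ((Cfsg.fittingHallOf M).relIndex M) := by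
    have h := Cfsg.Agent.S1387.fittingHall_coprime ↥M
    have e1 : Nat.card (Cfsg.fittingHallOf M) = Nat.card (Cfsg.fittingHall ↥M) :=
      Subgroup.card_map_of_injective M.subtype_injective
    have e2 : (Cfsg.fittingHallOf M).relIndex M = (Cfsg.fittingHall ↥M).index := by
      rw [Cfsg.fittingHallOf, Subgroup.relIndex, Subgroup.subgroupOf,
        Subgroup.comap_map_eq_self_of_injective M.subtype_injective]
    rw [e1, e2]
    exact h
  have hF := hall_in_sigmaCore hFM h55.2.1 hFcop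
  by_cases hT : Cfsg.IsOfTypeIII M ∨ Cfsg.IsOfTypeIV M
  · obtain ⟨K, hK⟩ := (Cfsg.Agent.S1351.result hG M hM).1
    have hKc := (Cfsg.Agent.S1351.result hG M hM).2 K hK
    obtain ⟨U, hKU⟩ := (Cfsg.Agent.S1352.result hG M hM K hKc hK).1
    have h82 := (Cfsg.Agent.S1382.result hG M hM K U hKU).mp hT
    have h37 := Cfsg.Agent.S1437.result hG M hM K U hKU h82.2.2
    have hcore : Cfsg.typeCore M = Cfsg.sigmaCore M := by
      simp only [Cfsg.typeCore, if_pos hT]
      exact h37.2.1.symm
    have hScop : (Nat.card (Cfsg.sigmaCore M)).Coprime ((Cfsg.sigmaCore M).relIndex M) := by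
      apply Nat.coprime_of_dvd
      intro p hpp h1 h2
      exact h50.1.2.2 p hpp (h50.1.2.1 p hpp h1) h2
    have hS := hall_in_sigmaCore h50.1.1 le_rfl hScop
    rw [hcore]
    exact ⟨hS.1, hF.2, hS.2⟩
  · have hcore : Cfsg.typeCore M = Cfsg.fittingHallOf M := by
      simp only [Cfsg.typeCore, if_neg hT]
    rw [hcore]
    exact ⟨hF.1, hF.2, hF.2⟩

end Cfsg.Agent.S1389
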