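import Cfsg.Statements.S1390
import Cfsg.Agent.S1351
import Cfsg.Agent.S1352
import Cfsg.Agent.S1358
import Cfsg.Agent.S1361
import Cfsg.Agent.S1362
import Cfsg.Agent.S1365
import Cfsg.Agent.S1355
import Cfsg.Agent.S1364
import Cfsg.Agent.Lib.Helper11_BGTypes5
import Cfsg.Agent.S1381
import Cfsg.Agent.S1382
import Cfsg.Agent.S1437
import Cfsg.Agent.S1350
import Cfsg.Agent.Lib.Helper39_BGBasic

set_option autoImplicit false
open Cfsg

namespace Cfsg.Agent.S1390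

open Cfsg.Agent.Lib.Helper39_BGBasic

/-- The three conclusions, from a standard factorisation `M = K' U M_σ` with `M_F = M_σ` and the
identification of `A(M) \ A₁(M)` with `A(M) \ M_σ` in the language of the factorisation. -/
theorem core {G : Type*} [Group G] [Finite G] (hG : Cfsg.IsMinSimpleOddOrder G)
    (M : Subgroup G) (hM : IsCoatom M) (K' U : Subgroup G) (hKU : Cfsg.IsSigmaDecomposition M K' U)
    (hF : Cfsg.fittingHallOf M = Cfsg.sigmaCore M)
    (hA : Cfsg.typeA M \ Cfsg.typeA1 M = Cfsg.sigmaA M U \ (Cfsg.sigmaCore M : Set G)) :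
    (∀ (p : ℕ), p.Prime → ∀ P : Sylow p U, IsMulCommutative (P : Subgroup U) ∧ Cfsg.PRankLE p 2 (P : Subgroup U)) ∧
      (∀ X : Set G, X ⊆ (U : Set G) \ {1} → X.Nonempty → Cfsg.fittingHallOf M ⊓ Subgroup.centralizer X ≠ ⊥ →
        Subgroup.centralizer X ≤ M ∧ ∀ L : Subgroup G, IsCoatom L → Subgroup.centralizer X ≤ L → L = M) ∧
      Cfsg.IsTISubset (Cfsg.typeA M \ Cfsg.typeA1 M) := by
  refine ⟨Cfsg.Agent.S1358.result hG M hM K' U hKU, ?_, ?_⟩
  · intro X hXU hXne hXc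
    have hcl : Subgroup.closure X ≤ U := (Subgroup.closure_le U).mpr (fun x hx => (hXU hx).1)
    have hne : Subgroup.closure X ≠ ⊥ := by
      obtain ⟨x, hx⟩ := hXne
      intro h
      have h1 : x ∈ Subgroup.closure X := Subgroup.subset_closure hx
      rw [h, Subgroup.mem_bot] at h1
      exact (hXU hx).2 h1
    have hcent : Subgroup.centralizer ((Subgroup.closure X : Subgroup G) : Set G) = Subgroup.centralizer X :=
      Subgroup.centralizer_closure X
    have h61 := Cfsg.Agent.S1361.result hG M hM K' U hKU (Subgroup.closure X) hcl hne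
      (by rw [hcent, ← hF]; exact hXc)
    rw [hcent] at h61
    exact h61
  · rw [hA]
    exact Cfsg.Agent.S1362.result hG M hM K' U hKU

/-- Let G be a minimal simple group of odd order, M a maximal subgroup and H = M_F; suppose M is of Type I and U is a complement to H in M, or M is of Type II and U is a complement to H in M'. Then every Sylow subgroup of U is abelian with no elementary abelian subgroup of order p ^ 3; for every nonempty set X of non-identity elements of U centralizing a non-identity element of H, C_G(X) ≤ M and M is the unique maximal subgroup containing C_G(X); and A(M) with A₁(M) removed is a TI-subset of G. -/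
theorem result {G : Type*} [Group G] [Finite G] (hG : Cfsg.IsMinSimpleOddOrder G)
    (M : Subgroup G) (hM : IsCoatom M) (U : Subgroup G)
    (hU : (Cfsg.IsOfTypeI M ∧ Cfsg.IsComplIn (Cfsg.fittingHallOf M) U M) ∨ (Cfsg.IsOfTypeII M ∧ Cfsg.IsComplIn (Cfsg.fittingHallOf M) U ⁅M, M⁆)) :
    (∀ (p : ℕ), p.Prime → ∀ P : Sylow p U, IsMulCommutative (P : Subgroup U) ∧ Cfsg.PRankLE p 2 (P : Subgroup U)) ∧
      (∀ X : Set G, X ⊆ (U : Set G) \ {1} → X.Nonempty → Cfsg.fittingHallOf M ⊓ Subgroup.centralizer X ≠ ⊥ →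
        Subgroup.centralizer X ≤ M ∧ ∀ L : Subgroup G, IsCoatom L → Subgroup.centralizer X ≤ L → L = M) ∧
      Cfsg.IsTISubset (Cfsg.typeA M \ Cfsg.typeA1 M) := by
  -- some standard factorisation `M = K₀ U₀ M_σ`
  obtain ⟨K₀, hK₀⟩ := (Cfsg.Agent.S1351.result hG M hM).1
  have hK₀c := (Cfsg.Agent.S1351.result hG M hM).2 K₀ hK₀
  obtain ⟨U₀, hKU₀⟩ := (Cfsg.Agent.S1352.result hG M hM K₀ hK₀c hK₀).1
  have h80 : Cfsg.IsOfTypeI M → K₀ = ⊥ ∧ U₀ ≠ ⊥ :=
    Cfsg.Agent.Lib.Helper11_BGTypes5.typeI_imp hKU₀ (Cfsg.Agent.S1355.result hG M hM)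
      (fun hK1 => Cfsg.Agent.S1364.result hG M hM K₀ U₀ hKU₀ hK1)
  have h81 := Cfsg.Agent.S1381.result hG M hM K₀ U₀ hKU₀
  have h82 := Cfsg.Agent.S1382.result hG M hM K₀ U₀ hKU₀
  have hσM : Cfsg.sigmaCore M ≤ M := sigmaCore_le M
  have hσN : M ≤ Subgroup.normalizer (Cfsg.sigmaCore M : Set G) := le_normalizer_sigmaCore M
  rcases hU with ⟨hI, hc⟩ | ⟨hII, hc⟩
  · -- Type I: `K₀ = 1`, `U₀ ≠ 1`
    obtain ⟨hK1, hU1⟩ := h80 hI
    have hF : Cfsg.fittingHallOf M = Cfsg.sigmaCore M := by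
      by_contra hne
      exact hU1 (Cfsg.Agent.S1437.result hG M hM K₀ U₀ hKU₀ hne).1
    have hnot : ¬ (Cfsg.IsOfTypeIII M ∨ Cfsg.IsOfTypeIV M) := fun h => (h82.mp h).1 hK1
    have hcore : Cfsg.typeCore M = Cfsg.sigmaCore M := by
      simp only [Cfsg.typeCore, if_neg hnot]; exact hF
    rw [hF] at hc
    have hc' : Cfsg.IsComplIn U (Cfsg.sigmaCore M) M := IsComplIn.symm_of_normal hc hσN
    have hKU : Cfsg.IsSigmaDecomposition M ⊥ U := by
      refine ⟨?_, ?_, ?_, ?_⟩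
      · rw [← hK1]; exact hKU₀.cyclic
      · rw [← hK1]; exact hKU₀.hall
      · rw [bot_sup_eq]; exact hc'
      · exact bot_le
    have hsup : U ⊔ Cfsg.sigmaCore M = M := IsComplIn.sup_eq hc'
    refine core hG M hM ⊥ U hKU hF ?_
    ext a
    simp only [Cfsg.typeA, if_pos hI, Cfsg.typeA1, hcore, hF, Cfsg.sigmaA, Cfsg.sigmaHat, hsup,
      Set.mem_sdiff, Set.mem_ofPred_eq, Set.mem_inter_iff, SetLike.mem_coe, Set.mem_singleton_iff]
    constructor
    · rintro ⟨⟨haM, ha1, x, hx, hx1, hax⟩, hna⟩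
      exact ⟨⟨⟨haM, x, hx, hx1, hax⟩, haM⟩, fun h => hna ⟨h, ha1⟩⟩
    · rintro ⟨⟨⟨haM, x, hx, hx1, hax⟩, -⟩, haσ⟩
      have ha1 : a ≠ 1 := by
        rintro rfl
        exact haσ (one_mem _)
      exact ⟨⟨haM, ha1, x, hx, hx1, hax⟩, fun h => haσ h.1⟩
  · -- Type II: `K₀ ≠ 1`, `U₀ ≠ 1`
    obtain ⟨hK1, hU1⟩ := h81.mp hII
    have hF : Cfsg.fittingHallOf M = Cfsg.sigmaCore M := by
      by_contra hne
      exact hU1 (Cfsg.Agent.S1437.result hG M hM K₀ U₀ hKU₀ hne).1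
    have hnotI : ¬ Cfsg.IsOfTypeI M := fun h => hK1 (h80 h).1
    have hnot : ¬ (Cfsg.IsOfTypeIII M ∨ Cfsg.IsOfTypeIV M) := fun h => hU1 (h82.mp h).2.1
    have hcore : Cfsg.typeCore M = Cfsg.sigmaCore M := by
      simp only [Cfsg.typeCore, if_neg hnot]; exact hF
    rw [hF] at hc
    -- `M' = U₀ M_σ`, so `U₀` and `U` are complements of `M_σ` in `M'`
    have hder : ⁅M, M⁆ = U₀ ⊔ Cfsg.sigmaCore M := (Cfsg.Agent.S1365.result hG M hM K₀ U₀ hKU₀ hK1).1
    have hderM : ⁅M, M⁆ ≤ M := Subgroup.commutator_le.mpr (fun a ha b hb =>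
      mul_mem (mul_mem (mul_mem ha hb) (inv_mem ha)) (inv_mem hb))
    have hU₀M : U₀ ≤ M := hKU₀.compl.1
    have hc₀ : Cfsg.IsComplIn (Cfsg.sigmaCore M) U₀ ⁅M, M⁆ := by
      rw [hder]
      apply isComplIn_sup (hU₀M.trans hσN)
      have h1 : U₀ ⊓ (K₀ ⊔ Cfsg.sigmaCore M) = ⊥ := hKU₀.compl.2.2.1
      have h2 : Cfsg.sigmaCore M ⊓ U₀ ≤ U₀ ⊓ (K₀ ⊔ Cfsg.sigmaCore M) :=
        le_inf inf_le_right (inf_le_left.trans le_sup_right)
      exact le_bot_iff.mp (h1 ▸ h2)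
    have hsolv : Group.IsSolvable ↥⁅M, M⁆ :=
      hG.2.2.2 _ (ne_top_of_le_ne_top hM.1 hderM)
    have h50 := (Cfsg.Agent.S1350.result hG M hM).1
    have hcop : (Nat.card (Cfsg.sigmaCore M)).Coprime ((Cfsg.sigmaCore M).relIndex ⁅M, M⁆) := by
      apply Nat.coprime_of_dvd
      intro p hpp h1 h2
      apply h50.2.2 p hpp (h50.2.1 p hpp h1)
      rw [← Subgroup.relIndex_mul_relIndex (Cfsg.sigmaCore M) ⁅M, M⁆ M hc.1 hderM]
      exact dvd_mul_of_dvd_left h2 _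
    obtain ⟨g, hgD, hgU⟩ := exists_cjg_eq_of_isComplIn hsolv hc₀ hc hcop
    have hKU : Cfsg.IsSigmaDecomposition M (cjg g K₀) U := by
      have := IsSigmaDecomposition.cjg_of_mem hKU₀ (hderM hgD)
      rwa [hgU] at this
    have hsup : U ⊔ Cfsg.sigmaCore M = ⁅M, M⁆ := by
      rw [sup_comm]; exact IsComplIn.sup_eq hc
    refine core hG M hM _ U hKU hF ?_
    ext a
    simp only [Cfsg.typeA, if_neg hnotI, Cfsg.typeA1, hcore, Cfsg.sigmaA, Cfsg.sigmaHat, hsup,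
      Set.mem_sdiff, Set.mem_ofPred_eq, Set.mem_inter_iff, SetLike.mem_coe, Set.mem_singleton_iff]
    constructor
    · rintro ⟨⟨haD, ha1, x, hx, hx1, hax⟩, hna⟩
      exact ⟨⟨⟨hderM haD, x, hx, hx1, hax⟩, haD⟩, fun h => hna ⟨h, ha1⟩⟩
    · rintro ⟨⟨⟨-, x, hx, hx1, hax⟩, haD⟩, haσ⟩
      have ha1 : a ≠ 1 := by
        rintro rfl
        exact haσ (one_mem _)
      exact ⟨⟨haD, ha1, x, hx, hx1, hax⟩, fun h => haσ h.1⟩

end Cfsg.Agent.S1390
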