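import Cfsg.Statements.S1441

set_option autoImplicit false
open Cfsg
open scoped commutatorElement

namespace Cfsg.Agent.S1441

/-- Iterating a conjugation: if `a * h * a⁻¹ = z * h` and `a` commutes with `z`,
then `a ^ m * h * a⁻¹ ^ m = z ^ m * h`. -/
theorem conj_pow_eq {G : Type*} [Group G] (a h z : G) (hz : a * z = z * a)
    (hah : a * h * a⁻¹ = z * h) (m : ℕ) : a ^ m * h * (a ^ m)⁻¹ = z ^ m * h := by
  induction m with
  | zero => simp
  | succ m ih =>
    have hzm : a * z ^ m = z ^ m * a := by
      have : Commute a z := hz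
      exact (this.pow_right m).eq
    calc a ^ (m + 1) * h * (a ^ (m + 1))⁻¹
        = a * (a ^ m * h * (a ^ m)⁻¹) * a⁻¹ := by
          rw [pow_succ', mul_inv_rev]; group
      _ = a * (z ^ m * h) * a⁻¹ := by rw [ih]
      _ = (a * z ^ m) * h * a⁻¹ := by group
      _ = z ^ m * (a * h * a⁻¹) := by rw [hzm]; group
      _ = z ^ m * (z * h) := by rw [hah]
      _ = z ^ (m + 1) * h := by rw [pow_succ]; group

/-- An element of `A` of order coprime to `|H|` stabilizing the chain centralizes `H`. -/
theorem centralizes_of_coprime {G : Type*} [Group G] [Finite G] (H A : Subgroup G)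
    (n : ℕ) (c : Fin (n + 1) → Subgroup G) (hc0 : c 0 = H) (hcn : c (Fin.last n) = ⊥)
    (hanti : Antitone c)
    (htriv : ∀ i : Fin n, ⁅c i.castSucc, A⁆ ≤ c i.succ)
    (a : G) (haA : a ∈ A) (hcop : (orderOf a).Coprime (Nat.card H)) :
    ∀ i : Fin (n + 1), ∀ h ∈ c i, a * h = h * a := by
  intro i
  induction i using Fin.reverseInduction with
  | last =>
    intro h hh
    rw [hcn, Subgroup.mem_bot] at hh
    subst hh; simp
  | cast i ih =>
    intro h hh
    -- z = a h a⁻¹ h⁻¹ ∈ c i.succ
    set z := a * h * a⁻¹ * h⁻¹ with hz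
    have hzmem : z ∈ c i.succ := by
      have h1 : ⁅h, a⁆ ∈ ⁅c i.castSucc, A⁆ := Subgroup.commutator_mem_commutator hh haA
      have h2 := htriv i h1
      have h3 : z = ⁅h, a⁆⁻¹ := by
        rw [hz, commutatorElement_def]; group
      rw [h3]; exact inv_mem h2
    have hza : a * z = z * a := ih z hzmem
    have hah : a * h * a⁻¹ = z * h := by rw [hz]; group
    have hpow := conj_pow_eq a h z hza hah (orderOf a)
    rw [pow_orderOf_eq_one] at hpow
    simp only [one_mul, inv_one, mul_one] at hpow
    have hzpow : z ^ orderOf a = 1 := by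
      have : z ^ orderOf a * h = 1 * h := by rw [← hpow, one_mul]
      exact mul_right_cancel this
    have hzH : z ∈ H := by
      rw [← hc0]; exact hanti (Fin.zero_le _) hzmem
    have hord1 : orderOf z ∣ orderOf a := orderOf_dvd_of_pow_eq_one hzpow
    have hord2 : orderOf z ∣ Nat.card H := by
      have := Subgroup.orderOf_dvd_natCard H hzH
      exact this
    have : orderOf z = 1 := Nat.eq_one_of_dvd_coprimes hcop hord1 hord2
    have hz1 : z = 1 := orderOf_eq_one_iff.mp this
    rw [hz1, one_mul] at hah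
    calc a * h = a * h * a⁻¹ * a := by group
      _ = h * a := by rw [hah]

/-- Let G be a finite group, H a solvable subgroup and A a subgroup normalizing H. Suppose there is a chain H = H₀ ≥ H₁ ≥ ⋯ ≥ H_n = 1 of subgroups normal in H and normalized by A such that A acts trivially on each factor H_{i-1}/H_i (that is, [H_{i-1}, A] ≤ H_i). Then every prime dividing the index of C_A(H) in A divides the order of H. -/
theorem result {G : Type*} [Group G] [Finite G] (H A : Subgroup G) (hH : Group.IsSolvable H) (hA : (A ≤ Subgroup.normalizer (H : Set G)))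
    (n : ℕ) (c : Fin (n + 1) → Subgroup G) (hc0 : c 0 = H) (hcn : c (Fin.last n) = ⊥) (hanti : Antitone c)
    (hcN : ∀ i, H ≤ Subgroup.normalizer ((c i : Subgroup G) : Set G)) (hcA : ∀ i, A ≤ Subgroup.normalizer ((c i : Subgroup G) : Set G))
    (htriv : ∀ i : Fin n, ⁅c i.castSucc, A⁆ ≤ c i.succ) :
    ∀ p : ℕ, p.Prime → p ∣ (A ⊓ Subgroup.centralizer (H : Set G)).relIndex A → p ∣ Nat.card H := by
  intro p hp hdvd
  by_contra hpH
  have : Fact p.Prime := ⟨hp⟩
  -- a Sylow p-subgroup of A lies in the centralizer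
  obtain P : Sylow p A := default
  have hPle : (P : Subgroup A) ≤ (A ⊓ Subgroup.centralizer (H : Set G)).subgroupOf A := by
    intro x hx
    rw [Subgroup.mem_subgroupOf]
    refine ⟨x.2, ?_⟩
    -- order of x is a power of p
    obtain ⟨k, hk⟩ := (P.2 ⟨x, hx⟩)
    have hxk : (x : G) ^ p ^ k = 1 := by
      have := congrArg (fun y : (P : Subgroup A) => ((y : A) : G)) hk
      simpa using this
    have hord : orderOf (x : G) ∣ p ^ k := orderOf_dvd_of_pow_eq_one hxk
    have hcop : (orderOf (x : G)).Coprime (Nat.card H) := by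
      have h1 : (p ^ k).Coprime (Nat.card H) :=
        Nat.Coprime.pow_left k ((Nat.Prime.coprime_iff_not_dvd hp).mpr hpH)
      exact Nat.Coprime.coprime_dvd_left hord h1
    have key := centralizes_of_coprime H A n c hc0 hcn hanti htriv (x : G) x.2 hcop 0
    rw [hc0] at key
    refine Subgroup.mem_centralizer_iff.mpr ?_
    intro h hh
    exact (key h hh).symm
  have h1 : ((A ⊓ Subgroup.centralizer (H : Set G)).subgroupOf A).index ∣ (P : Subgroup A).index :=
    Subgroup.index_dvd_of_le hPle
  have h2 : ¬ p ∣ (P : Subgroup A).index := P.not_dvd_index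
  exact h2 (dvd_trans hdvd h1)

end Cfsg.Agent.S1441
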