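import Cfsg.Statements.S1442

set_option autoImplicit false
open Cfsg

namespace Cfsg.Agent.S1442

/-- Iterating a conjugation: if `a * h * a⁻¹ = z * h` and `a` commutes with `z`,
then `a ^ m * h * a⁻¹ ^ m = z ^ m * h`. -/
theorem conj_pow_eq {G : Type*} [Group G] (a h z : G) (hz : a * z = z * a)
    (hah : a * h * a⁻¹ = z * h) (m : ℕ) : a ^ m * h * (a ^ m)⁻¹ = z ^ m * h := by
  induction m with
  | zero => simp
  | succ m ih =>
    have hzm : a * z ^ m = z ^ m * a := by
      have : Commute a z := hz
      exact (this.pow_right m).eq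
    calc a ^ (m + 1) * h * (a ^ (m + 1))⁻¹
        = a * (a ^ m * h * (a ^ m)⁻¹) * a⁻¹ := by
          rw [pow_succ', mul_inv_rev]; group
      _ = a * (z ^ m * h) * a⁻¹ := by rw [ih]
      _ = (a * z ^ m) * h * a⁻¹ := by group
      _ = z ^ m * (a * h * a⁻¹) := by rw [hzm]; group
      _ = z ^ m * (z * h) := by rw [hah]
      _ = z ^ (m + 1) * h := by rw [pow_succ]; group

/-- If `a x a⁻¹ = z x`, `a` commutes with `z`, and `z ^ k = 1` with `k` coprime to the order of `a`,
then `a` commutes with `x`. -/
theorem commute_of_coprime_step {G : Type*} [Group G] (a x z : G) (hz : a * z = z * a)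
    (hax : a * x * a⁻¹ = z * x) (k : ℕ) (hzk : z ^ k = 1) (hcop : (orderOf a).Coprime k) :
    a * x = x * a := by
  have hpow := conj_pow_eq a x z hz hax (orderOf a)
  rw [pow_orderOf_eq_one] at hpow
  simp only [one_mul, inv_one, mul_one] at hpow
  have hzpow : z ^ orderOf a = 1 := by
    have : z ^ orderOf a * x = 1 * x := by rw [← hpow, one_mul]
    exact mul_right_cancel this
  have hord1 : orderOf z ∣ orderOf a := orderOf_dvd_of_pow_eq_one hzpow
  have hord2 : orderOf z ∣ k := orderOf_dvd_of_pow_eq_one hzk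
  have : orderOf z = 1 := Nat.eq_one_of_dvd_coprimes hcop hord1 hord2
  have hz1 : z = 1 := orderOf_eq_one_iff.mp this
  rw [hz1, one_mul] at hax
  calc a * x = a * x * a⁻¹ * a := by group
    _ = x * a := by rw [hax]

/-- Let G be a finite group, H a nilpotent subgroup and A a subgroup normalizing H with the orders of A and H coprime. Put C = H ∩ C_G(A). If H ∩ C_G(C) ≤ C then A centralizes H. -/
theorem result {G : Type*} [Group G] [Finite G] (H A : Subgroup G) (hH : Group.IsNilpotent H) (hA : (A ≤ Subgroup.normalizer (H : Set G))) (hcop : (Nat.card A).Coprime (Nat.card H))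
    (hC : H ⊓ Subgroup.centralizer (((H ⊓ Subgroup.centralizer (A : Set G)) : Subgroup G) : Set G) ≤ (H ⊓ Subgroup.centralizer (A : Set G))) :
    A ≤ Subgroup.centralizer (H : Set G) := by
  set C : Subgroup G := H ⊓ Subgroup.centralizer (A : Set G) with hCdef
  have hnc := Group.normalizerCondition_of_isNilpotent (G := H)
  rw [normalizerCondition_iff_only_full_group_self_normalizing] at hnc
  have htop : C.subgroupOf H = ⊤ := by
    apply hnc
    apply le_antisymm _ Subgroup.le_normalizer
    intro x hx
    rw [Subgroup.mem_subgroupOf]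
    refine ⟨x.2, ?_⟩
    refine Subgroup.mem_centralizer_iff.mpr ?_
    intro a ha
    -- x normalizes C
    have hxN : ∀ c ∈ C, (x : G)⁻¹ * c * (x : G) ∈ C := by
      intro c hc
      have hcH : c ∈ H := hc.1
      have h1 := (Subgroup.mem_normalizer_iff''.mp hx ⟨c, hcH⟩).mp
        (by rw [Subgroup.mem_subgroupOf]; exact hc)
      rw [Subgroup.mem_subgroupOf] at h1
      simpa using h1
    -- z = a x a⁻¹ x⁻¹
    set z : G := a * x * a⁻¹ * (x : G)⁻¹ with hz
    have haxH : a * x * a⁻¹ ∈ H := by
      have := (Subgroup.mem_normalizer_iff.mp (hA ha) (x : G)).mp x.2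
      exact this
    have hzH : z ∈ H := H.mul_mem haxH (H.inv_mem x.2)
    have hzC : z ∈ Subgroup.centralizer (C : Set G) := by
      refine Subgroup.mem_centralizer_iff.mpr ?_
      intro c hc
      have hc' := hxN c hc
      -- a commutes with x⁻¹ c x and with c
      have h1 : (x : G)⁻¹ * c * x * a = a * ((x : G)⁻¹ * c * x) :=
        (Subgroup.mem_centralizer_iff.mp hc'.2 a ha).symm
      have h2 : c * a = a * c := (Subgroup.mem_centralizer_iff.mp hc.2 a ha).symm
      -- goal: c * z = z * c
      have h3 : z * c * z⁻¹ = c := by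
        calc z * c * z⁻¹ = a * x * (a⁻¹ * ((x : G)⁻¹ * c * x) * a) * (x : G)⁻¹ * a⁻¹ := by
              rw [hz]; group
          _ = a * x * ((x : G)⁻¹ * c * x) * (x : G)⁻¹ * a⁻¹ := by
              have : a⁻¹ * ((x : G)⁻¹ * c * x) * a = (x : G)⁻¹ * c * x := by
                rw [mul_assoc, h1]; group
              rw [this]
          _ = a * c * a⁻¹ := by group
          _ = c := by rw [← h2]; group
      calc c * z = (z * c * z⁻¹) * z := by rw [h3]
        _ = z * c := by group
    have hzmem : z ∈ C := hC ⟨hzH, hzC⟩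
    have hza : a * z = z * a := Subgroup.mem_centralizer_iff.mp hzmem.2 a ha
    have hax : a * x * a⁻¹ = z * x := by rw [hz]; group
    have hzk : z ^ Nat.card H = 1 := by
      have := Subgroup.orderOf_dvd_natCard H hzH
      exact orderOf_dvd_iff_pow_eq_one.mp this
    have hcop' : (orderOf a).Coprime (Nat.card H) :=
      Nat.Coprime.coprime_dvd_left (Subgroup.orderOf_dvd_natCard A ha) hcop
    exact commute_of_coprime_step a x z hza hax (Nat.card H) hzk hcop'
  have hHC : H ≤ C := Subgroup.subgroupOf_eq_top.mp htop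
  intro a ha
  refine Subgroup.mem_centralizer_iff.mpr ?_
  intro h hh
  exact (Subgroup.mem_centralizer_iff.mp (hHC hh).2 a ha).symm

end Cfsg.Agent.S1442
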