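import Cfsg.Statements.S1456
import Cfsg.Agent.Lib.Helper24_NarrowFitting
-- import your own Cfsg.Agent.* helpers here

set_option autoImplicit false
open Cfsg

namespace Cfsg.Agent.S1456

open Cfsg.Agent.Lib.Helper24_NarrowFitting Cfsg.Agent.Lib.Helper1_Cores

/-- Let G be a solvable group of odd order, p a prime, and E an elementary abelian p-subgroup of the Fitting subgroup F(G) such that F(G) ∩ C_G(E) has no elementary abelian subgroup of order q ^ 3 for any prime q. Then the derived subgroup of G is contained in F(G). -/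
theorem result {G : Type*} [Group G] [Finite G] [Group.IsSolvable G] (hodd : Odd (Nat.card G)) (p : ℕ) [Fact p.Prime] (E : Subgroup G) (hE : E ≤ Cfsg.fittingSubgroup G) (hEe : Cfsg.IsElementaryAbelian p E)
    (hr : Cfsg.RankLE 2 ↥(Cfsg.fittingSubgroup G ⊓ Subgroup.centralizer (E : Set G))) :
    commutator G ≤ Cfsg.fittingSubgroup G := by
  classical
  have hpP : p.Prime := Fact.out
  -- `E ≤ O_p(G)`
  have hEp : E ≤ Cfsg.pCore p G := by
    intro e he
    have h1 : orderOf e ∣ p ^ 1 := by
      rw [pow_one]; exact orderOf_dvd_of_pow_eq_one (hEe.2 e he)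
    obtain ⟨j, -, hj⟩ := (Nat.dvd_prime_pow hpP).mp h1
    exact mem_pCore_of_mem_fitting (hE he) hj
  apply le_fitting_of_forall_pow_mem (commutator G)
  intro q hq x hx
  have : Fact q.Prime := ⟨hq⟩
  have hQP : IsPGroup q ↥(Cfsg.pCore q G) := pCore_isPGroup q
  by_cases hq2 : q = 2
  · refine ⟨0, ?_⟩
    have hbot : Cfsg.pCore q G = ⊥ := by
      obtain ⟨b, hb⟩ := IsPGroup.iff_card.mp hQP
      have hdvd : Nat.card ↥(Cfsg.pCore q G) ∣ Nat.card G := Subgroup.card_subgroup_dvd_card _
      have hb0 : b = 0 := by
        by_contra hne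
        have h2 : 2 ∣ Nat.card G := by
          refine dvd_trans ?_ hdvd
          rw [hb, hq2]
          exact dvd_pow_self 2 hne
        exact (Nat.not_even_iff_odd.mpr hodd) (even_iff_two_dvd.mpr h2)
      rw [hb0, pow_zero] at hb
      exact Subgroup.card_eq_one.mp hb
    rw [hbot]
    rw [Subgroup.mem_centralizer_iff]
    intro h hh
    rw [SetLike.mem_coe, Subgroup.mem_bot] at hh
    rw [hh, one_mul, mul_one]
  · have hQn : (Cfsg.pCore q G).Normal := Cfsg.Agent.Lib.Helper1_Cores.pCore_normal (G := G) q
    apply exists_pow_mem_centralizer hodd hq2 (Cfsg.pCore q G) hQP ?_ hx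
    by_cases hqp : q = p
    · -- the prime `p`
      by_cases hrk : Cfsg.PRankLE q 2 ↥(Cfsg.pCore q G)
      · exact Or.inl hrk
      · right
        have hEq : E ≤ Cfsg.pCore q G := by rw [hqp]; exact hEp
        have hEe' : Cfsg.IsElementaryAbelian q E := by rw [hqp]; exact hEe
        have hE' : Cfsg.IsElementaryAbelian q (E.subgroupOf (Cfsg.pCore q G)) :=
          Cfsg.Agent.Lib.Helper10_Thompson.ea_subgroupOf hEe' _
        refine exists_nData hq2 hQP (E.subgroupOf (Cfsg.pCore q G)) hE' ?_ hrk
        -- the centralizer has rank at most two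
        have hmem : ∀ y : ↥(Subgroup.centralizer
            ((E.subgroupOf (Cfsg.pCore q G) : Subgroup ↥(Cfsg.pCore q G)) :
              Set ↥(Cfsg.pCore q G))),
            ((Cfsg.pCore q G).subtype.comp (Subgroup.subtype _)) y ∈
              Cfsg.fittingSubgroup G ⊓ Subgroup.centralizer (E : Set G) := by
          intro y
          refine ⟨pCore_le_fittingSubgroup q y.1.2, ?_⟩
          show ((y : ↥(Cfsg.pCore q G)) : G) ∈ Subgroup.centralizer (E : Set G)
          rw [Subgroup.mem_centralizer_iff]
          intro e he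
          have h1 := (Subgroup.mem_centralizer_iff.mp y.2) ⟨e, hEq he⟩
            (by rw [SetLike.mem_coe, Subgroup.mem_subgroupOf]; exact he)
          exact congrArg Subtype.val h1
        refine Cfsg.Agent.Lib.Helper2_PRank.pRankLE_of_injective' q 2
          (((Cfsg.pCore q G).subtype.comp (Subgroup.subtype _)).codRestrict _ hmem) ?_ (hr q hq)
        intro a b hab
        have h1 := congrArg Subtype.val hab
        exact Subtype.ext (Subtype.ext h1)
    · -- primes different from `p`
      left
      have hpq : p ≠ q := fun h => hqp h.symm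
      have hle : Cfsg.pCore q G ≤ Cfsg.fittingSubgroup G ⊓ Subgroup.centralizer (E : Set G) := by
        refine le_inf (pCore_le_fittingSubgroup q) ?_
        intro w hw
        rw [Subgroup.mem_centralizer_iff]
        intro e he
        have hdisj : Disjoint (Cfsg.pCore p G) (Cfsg.pCore q G) := by
          apply Subgroup.disjoint_of_coprime_natCard
          obtain ⟨b, hb⟩ := IsPGroup.iff_card.mp hQP
          rw [hb]
          exact Nat.Coprime.pow_right b (pCore_card_coprime hpq)
        exact (Subgroup.commute_of_normal_of_disjoint _ _ (Cfsg.Agent.Lib.Helper1_Cores.pCore_normal (G := G) p) hQn hdisj e w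
          (hEp he) hw).eq
      exact Cfsg.Agent.Lib.Helper2_PRank.pRankLE_of_injective' q 2 (Subgroup.inclusion hle)
        (Subgroup.inclusion_injective hle) (hr q hq)

end Cfsg.Agent.S1456
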