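import Cfsg.Statements.S1458
import Cfsg.Agent.Lib.Helper32_ZJo6
import Cfsg.Agent.Lib.Helper32_Sylow
import Cfsg.Agent.S0018

set_option autoImplicit false
open Cfsg

namespace Cfsg.Agent.S1458

open Cfsg.Agent.Lib.Helper11_ZJ Cfsg.Agent.Lib.Helper11_ZJ3 Cfsg.Agent.S0654

open Cfsg.Agent.Lib.Helper32_ZJe (fam thompsonSubgroupOf_eq_sSup prEA_iff)

universe u

/-- elementary abelian subgroups correspond under a homomorphism injective on `T` -/
theorem prEA_map_iff {G H : Type u} [Group G] [Group H] (p : ℕ) (f : G →* H) (T : Subgroup G)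
    (hinj : ∀ x ∈ T, f x = 1 → x = 1) (A : Subgroup G) (hA : A ≤ T) :
    PrEA p (A.map f) ↔ PrEA p A := by
  constructor
  · intro h
    rw [prEA_iff] at h ⊢
    refine ⟨?_, ?_⟩
    · intro a ha b hb
      apply eq_of_map_eq_of_injOn f T hinj (T.mul_mem (hA ha) (hA hb)) (T.mul_mem (hA hb) (hA ha))
      rw [map_mul, map_mul]
      exact h.1 _ ⟨a, ha, rfl⟩ _ ⟨b, hb, rfl⟩
    · intro a ha
      apply hinj _ (T.pow_mem (hA ha) p)
      rw [map_pow]
      exact h.2 _ ⟨a, ha, rfl⟩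
  · intro h
    exact Cfsg.Agent.S0622.isElementaryAbelian_map f h

/-- `Z(J_e(·))` commutes with homomorphisms injective on the subgroup -/
theorem centerThompsonOf_map_of_injOn {G H : Type u} [Group G] [Group H] (p : ℕ) (f : G →* H)
    (T : Subgroup G) (hinj : ∀ x ∈ T, f x = 1 → x = 1) :
    Cfsg.centerThompsonOf p (T.map f) = (Cfsg.centerThompsonOf p T).map f := by
  have hJ : Cfsg.thompsonSubgroupOf p (T.map f) = (Cfsg.thompsonSubgroupOf p T).map f := by
    rw [thompsonSubgroupOf_eq_sSup, thompsonSubgroupOf_eq_sSup]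
    show sSup (maxFam (PrEA p) (T.map f)) = (sSup (maxFam (PrEA p) T)).map f
    rw [maxFam_map_of_injOn f T hinj (prEA_map_iff p f T hinj),
      (Subgroup.gc_map_comap f).l_sSup, sSup_image]
  have hJT : Cfsg.thompsonSubgroupOf p T ≤ T :=
    Cfsg.Agent.Lib.Helper49_Thompson.thompsonSubgroupOf_le p T
  unfold Cfsg.centerThompsonOf
  rw [hJ]
  ext y
  rw [Subgroup.mem_inf, Subgroup.mem_map]
  constructor
  · rintro ⟨⟨x, hx, rfl⟩, hy2⟩
    have hxc : x ∈ Subgroup.centralizer ((Cfsg.thompsonSubgroupOf p T : Subgroup G) : Set G) := by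
      rw [Subgroup.mem_centralizer_iff]
      intro j hj
      apply eq_of_map_eq_of_injOn f T hinj (T.mul_mem (hJT hj) (hJT hx))
        (T.mul_mem (hJT hx) (hJT hj))
      rw [map_mul, map_mul]
      exact Subgroup.mem_centralizer_iff.mp hy2 _ ⟨j, hj, rfl⟩
    exact ⟨x, Subgroup.mem_inf.mpr ⟨hx, hxc⟩, rfl⟩
  · rintro ⟨x, hx, rfl⟩
    obtain ⟨hx1, hx2⟩ := Subgroup.mem_inf.mp hx
    refine ⟨⟨x, hx1, rfl⟩, ?_⟩
    rw [Subgroup.mem_centralizer_iff]
    rintro _ ⟨j, hj, rfl⟩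
    rw [← map_mul, ← map_mul, Subgroup.mem_centralizer_iff.mp hx2 j hj]

/-- Let G be a solvable group of odd order, p a prime and S a Sylow p-subgroup of G. Then the subgroup generated by the centre of the Thompson subgroup of S and O_{p'}(G) is normal in G. -/
theorem result {G : Type*} [Group G] [Finite G] [Group.IsSolvable G] (hodd : Odd (Nat.card G)) (p : ℕ) [Fact p.Prime] (S : Sylow p G) :
    (Cfsg.centerThompsonOf p (S : Subgroup G) ⊔ Cfsg.pPrimeCore p G).Normal := by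
  have hKn : (Cfsg.pPrimeCore p G).Normal := Cfsg.Agent.Lib.Helper1_Cores.pPrimeCore_normal p
  have hKcop : (Nat.card (Cfsg.pPrimeCore p G)).Coprime p :=
    Cfsg.Agent.Lib.Helper1_Cores.pPrimeCore_card_coprime p
  have hSK : (S : Subgroup G) ⊓ Cfsg.pPrimeCore p G = ⊥ :=
    Cfsg.Agent.Lib.Helper32_Sylow.inf_eq_bot_of_pgroup_of_coprime S.isPGroup' hKcop
  have hinj : ∀ x ∈ (S : Subgroup G), QuotientGroup.mk' (Cfsg.pPrimeCore p G) x = 1 → x = 1 := by
    intro x hx h1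
    have hxK : x ∈ Cfsg.pPrimeCore p G := (QuotientGroup.eq_one_iff x).mp h1
    have : x ∈ (S : Subgroup G) ⊓ Cfsg.pPrimeCore p G := ⟨hx, hxK⟩
    rwa [hSK, Subgroup.mem_bot] at this
  have hsurj : Function.Surjective (QuotientGroup.mk' (Cfsg.pPrimeCore p G)) :=
    QuotientGroup.mk'_surjective _
  have hoddX : Odd (Nat.card (G ⧸ Cfsg.pPrimeCore p G)) :=
    Odd.of_dvd_nat hodd (Subgroup.card_quotient_dvd_card _)
  have hcore : Cfsg.pPrimeCore p (G ⧸ Cfsg.pPrimeCore p G) = ⊥ :=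
    Cfsg.Agent.S0018.pPrimeCore_quotient_eq_bot p
  have hc := Cfsg.Agent.Lib.Helper55_Fitting.centralizer_pCore_le (G := G ⧸ Cfsg.pPrimeCore p G) p hcore
  have hn := Cfsg.Agent.Lib.Helper32_ZJo.centerThompsonOf_normal_of_odd hoddX hc
    (S.mapSurjective hsurj)
  rw [Sylow.coe_mapSurjective, centerThompsonOf_map_of_injOn p _ _ hinj] at hn
  have h2 := Subgroup.Normal.comap hn (QuotientGroup.mk' (Cfsg.pPrimeCore p G))
  rw [Subgroup.comap_map_eq, QuotientGroup.ker_mk'] at h2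
  exact h2

end Cfsg.Agent.S1458
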