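import Cfsg.Statements.S1460
import Cfsg.Agent.Lib.Helper24_CoprimeAction

set_option autoImplicit false
open Cfsg
open Cfsg.Agent.S0001
open Cfsg.Agent.Lib.Helper24_CoprimeAction

namespace Cfsg.Agent.S1460

/-- Fusion statement (third part). -/
theorem fusion {G : Type*} [Group G] [Finite G] [Group.IsSolvable G] (K U H : Subgroup G) [K.Normal]
    (hKU : K ⊔ U = ⊤) (hH : H ≤ U) (hcop : (Nat.card H).Coprime (Nat.card K))
    (g : G) (hg : H.map (MulAut.conj g).toMonoidHom ≤ U) :
    ∃ u ∈ U, ∃ c ∈ K ⊓ Subgroup.centralizer (H : Set G), g = u * c := by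
  -- write `g = u * k`
  have hgtop : g ∈ ((U ⊔ K : Subgroup G) : Set G) := by
    rw [sup_comm, hKU]; trivial
  rw [Subgroup.mul_normal] at hgtop
  obtain ⟨u, hu, k, hk, rfl⟩ := hgtop
  have hu : u ∈ U := hu
  have hk : k ∈ K := hk
  -- `k H k⁻¹ ≤ U`
  have hkU : H.map (MulAut.conj k).toMonoidHom ≤ U := by
    rintro _ ⟨h, hh, rfl⟩
    have h1 : (MulAut.conj (u * k)).toMonoidHom h ∈ U := hg ⟨h, hh, rfl⟩
    have e : (MulAut.conj k).toMonoidHom h = u⁻¹ * (MulAut.conj (u * k)).toMonoidHom h * u := by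
      simp [mul_assoc]
    rw [e]
    exact U.mul_mem (U.mul_mem (U.inv_mem hu) h1) hu
  -- set up relative S-Z in `(K ⊓ U) H`
  have hHn : H ≤ Subgroup.normalizer ((K ⊓ U : Subgroup G) : Set G) := by
    refine (le_inf ?_ (hH.trans Subgroup.le_normalizer)).trans
      Subgroup.inf_normalizer_le_normalizer_inf
    rw [Subgroup.normalizer_eq_top]; exact le_top
  have hcop' : (Nat.card H).Coprime (Nat.card (K ⊓ U : Subgroup G)) :=
    Nat.Coprime.coprime_dvd_right (Subgroup.card_dvd_of_le inf_le_left) hcop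
  have hB : H.map (MulAut.conj k).toMonoidHom ≤ (K ⊓ U) ⊔ H := by
    rintro _ ⟨h, hh, rfl⟩
    have h1 : (MulAut.conj k).toMonoidHom h ∈ U := hkU ⟨h, hh, rfl⟩
    have e : (MulAut.conj k).toMonoidHom h = (k * h * k⁻¹ * h⁻¹) * h := by
      simp [mul_assoc]
    rw [e]
    refine Subgroup.mul_mem _ (Subgroup.mem_sup_left ⟨?_, ?_⟩) (Subgroup.mem_sup_right hh)
    · have : k * h * k⁻¹ * h⁻¹ = k * (h * k⁻¹ * h⁻¹) := by group
      rw [this]
      exact K.mul_mem hk (Subgroup.Normal.conj_mem inferInstance _ (K.inv_mem hk) h)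
    · have e2 : k * h * k⁻¹ * h⁻¹ = (MulAut.conj k).toMonoidHom h * h⁻¹ := by simp
      rw [e2]
      exact U.mul_mem h1 (U.inv_mem (hH hh))
  obtain ⟨x, hx, hxe⟩ := sz_rel_conj H (K ⊓ U) (H.map (MulAut.conj k).toMonoidHom) hHn hcop'
    (Or.inl inferInstance) hB (card_map_conj k H)
  -- `c := x⁻¹ * k` normalizes, hence centralizes `H`
  have hc : x⁻¹ * k ∈ K := K.mul_mem (K.inv_mem hx.1) hk
  have hcH : H.map (MulAut.conj (x⁻¹ * k)).toMonoidHom = H := by
    rw [← map_conj_mul, ← hxe, map_conj_mul, inv_mul_cancel]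
    exact map_conj_of_mem H H.one_mem
  have hdisj : K ⊓ H = ⊥ := by
    rw [inf_comm]; exact (Subgroup.disjoint_of_coprime_natCard hcop).eq_bot
  have hHK : H ≤ Subgroup.normalizer (K : Set G) := by
    rw [Subgroup.normalizer_eq_top]; exact le_top
  have hcomm := commute_of_map_conj_eq H K hHK hdisj hc hcH
  exact ⟨u * x, U.mul_mem hu hx.2, x⁻¹ * k,
    ⟨hc, Subgroup.mem_centralizer_iff.mpr (fun h hh => hcomm h hh)⟩, by group⟩

/-- `G' ≤ K U'` when `G = K U` with `K` normal. -/
theorem commutator_le_sup {G : Type*} [Group G] (K U : Subgroup G) [K.Normal] (hKU : K ⊔ U = ⊤) :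
    commutator G ≤ K ⊔ ⁅U, U⁆ := by
  have h1 : (⊤ : Subgroup G).map (QuotientGroup.mk' K) = U.map (QuotientGroup.mk' K) := by
    rw [← hKU, Subgroup.map_sup, QuotientGroup.map_mk'_self, bot_sup_eq]
  have h2 : (commutator G).map (QuotientGroup.mk' K) = (⁅U, U⁆).map (QuotientGroup.mk' K) := by
    rw [commutator_def, Subgroup.map_commutator, h1, ← Subgroup.map_commutator]
  have h3 : commutator G ≤ ((⁅U, U⁆).map (QuotientGroup.mk' K)).comap (QuotientGroup.mk' K) := by
    rw [← h2]; exact Subgroup.le_comap_map _ _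
  rw [Subgroup.comap_map_eq, QuotientGroup.ker_mk', sup_comm] at h3
  exact h3

/-- Let G be a finite solvable group, K a normal subgroup and U a subgroup with G = KU, and H ≤ U a subgroup whose order is coprime to that of K. Then H ∩ G' = H ∩ U'; N_G(H) is generated by K ∩ C_G(H) and U ∩ N_G(H); and if gHg⁻¹ ≤ U for some g ∈ G then g = u c with u ∈ U and c ∈ K ∩ C_G(H). -/
theorem result {G : Type*} [Group G] [Finite G] [Group.IsSolvable G] (K U H : Subgroup G) [K.Normal] (hKU : K ⊔ U = ⊤) (hH : H ≤ U) (hcop : (Nat.card H).Coprime (Nat.card K)) :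
    H ⊓ commutator G = H ⊓ ⁅U, U⁆ ∧
      Subgroup.normalizer (H : Set G) = (K ⊓ Subgroup.centralizer (H : Set G)) ⊔ (U ⊓ Subgroup.normalizer (H : Set G)) ∧
      ∀ g : G, H.map (MulAut.conj g).toMonoidHom ≤ U → ∃ u ∈ U, ∃ c ∈ K ⊓ Subgroup.centralizer (H : Set G), g = u * c := by
  refine ⟨?_, ?_, fun g hg => fusion K U H hKU hH hcop g hg⟩
  · apply le_antisymm
    · rintro h ⟨hh, hc⟩
      refine ⟨hh, ?_⟩
      have hh : h ∈ H := hh
      have hc : h ∈ commutator G := hc
      have h1 : h ∈ ((K ⊔ ⁅U, U⁆ : Subgroup G) : Set G) := commutator_le_sup K U hKU hc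
      rw [Subgroup.normal_mul] at h1
      obtain ⟨k, hk, u', hu', hku⟩ := h1
      have hk : k ∈ K := hk
      have hu' : u' ∈ ⁅U, U⁆ := hu'
      have hu'U : u' ∈ U := Subgroup.commutator_le_self U hu'
      have hhU : h ∈ U := hH hh
      have hkU : k ∈ U := by
        have : k = h * u'⁻¹ := by rw [← hku]; group
        rw [this]; exact U.mul_mem hhU (U.inv_mem hu'U)
      rw [← Subgroup.map_subtype_commutator] at hu' ⊢
      obtain ⟨y, hy, hyu⟩ := hu'
      refine ⟨⟨h, hhU⟩, ?_, rfl⟩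
      show (⟨h, hhU⟩ : U) ∈ commutator U
      rw [← QuotientGroup.ker_mk' (commutator U), MonoidHom.mem_ker]
      set φ := QuotientGroup.mk' (commutator U) with hφ
      have hy1 : φ y = 1 := by
        rw [← MonoidHom.mem_ker, QuotientGroup.ker_mk']; exact hy
      have hsplit : (⟨h, hhU⟩ : U) = ⟨k, hkU⟩ * y := by
        apply Subtype.ext
        simp only [Subgroup.coe_mul]
        rw [show ((y : U) : G) = u' from hyu]
        exact hku.symm
      have hφh : φ ⟨h, hhU⟩ = φ ⟨k, hkU⟩ := by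
        rw [hsplit, map_mul, hy1, mul_one]
      have hpowH : (φ ⟨h, hhU⟩) ^ Nat.card H = 1 := by
        rw [← map_pow]
        have : (⟨h, hhU⟩ : U) ^ Nat.card H = 1 := by
          apply Subtype.ext
          have h2 : ((⟨h, hh⟩ : H) ^ Nat.card H : H) = 1 := pow_card_eq_one'
          have h3 := congrArg Subtype.val h2
          simpa only [Subgroup.coe_pow, Subgroup.coe_one] using h3
        rw [this, map_one]
      have hpowK : (φ ⟨h, hhU⟩) ^ Nat.card K = 1 := by
        rw [hφh, ← map_pow]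
        have : (⟨k, hkU⟩ : U) ^ Nat.card K = 1 := by
          apply Subtype.ext
          have h2 : ((⟨k, hk⟩ : K) ^ Nat.card K : K) = 1 := pow_card_eq_one'
          have h3 := congrArg Subtype.val h2
          simpa only [Subgroup.coe_pow, Subgroup.coe_one] using h3
        rw [this, map_one]
      have hd : orderOf (φ ⟨h, hhU⟩) ∣ 1 := by
        have := Nat.dvd_gcd (orderOf_dvd_of_pow_eq_one hpowH) (orderOf_dvd_of_pow_eq_one hpowK)
        rwa [hcop] at this
      exact orderOf_eq_one_iff.mp (Nat.dvd_one.mp hd)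
    · refine inf_le_inf_left _ ?_
      rw [commutator_def]
      exact Subgroup.commutator_mono le_top le_top
  · apply le_antisymm
    · intro g hg
      have hgH : H.map (MulAut.conj g).toMonoidHom = H := mem_normalizer_iff_map_conj.mp hg
      obtain ⟨u, hu, c, hc, rfl⟩ := fusion K U H hKU hH hcop g (hgH.le.trans hH)
      have hcN : c ∈ Subgroup.normalizer (H : Set G) := Subgroup.centralizer_le_normalizer _ hc.2
      have huN : u ∈ Subgroup.normalizer (H : Set G) := by
        have : u = (u * c) * c⁻¹ := by group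
        rw [this]
        exact Subgroup.mul_mem _ hg (Subgroup.inv_mem _ hcN)
      exact Subgroup.mul_mem _ (Subgroup.mem_sup_right ⟨hu, huN⟩) (Subgroup.mem_sup_left hc)
    · exact sup_le (inf_le_right.trans (Subgroup.centralizer_le_normalizer _)) inf_le_right

end Cfsg.Agent.S1460
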