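import Mathlib
import Cfsg.Statements.S3076
import Cfsg.Agent.Lib.Helper1_Cores
import Cfsg.Agent.Lib.Helper32_Sylow

set_option autoImplicit false
open Cfsg

namespace Cfsg.Agent.S3076

open Cfsg.Agent.Lib.Helper1_Cores Cfsg.Agent.Lib.Helper32_Sylow

section abstract
variable {M : Type*} [Group M] [Finite M] {p : ℕ} [Fact p.Prime]

/-- if every element of `N` has a `p`-power in the normal subgroup `A`, then `|N : N ∩ A|` is a power of `p`. -/
theorem relIndex_eq_pow (A N : Subgroup M) [A.Normal] (h : ∀ x ∈ N, ∃ k : ℕ, x ^ p ^ k ∈ A) :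
    ∃ n : ℕ, A.relIndex N = p ^ n := by
  have hq : IsPGroup p (↥N ⧸ A.subgroupOf N) := by
    intro g
    induction g using QuotientGroup.induction_on with
    | H x =>
      obtain ⟨k, hk⟩ := h x x.2
      refine ⟨k, ?_⟩
      rw [← QuotientGroup.mk_pow, QuotientGroup.eq_one_iff, Subgroup.mem_subgroupOf]
      simpa using hk
  obtain ⟨n, hn⟩ := IsPGroup.iff_card.mp hq
  refine ⟨n, ?_⟩
  rw [Subgroup.relIndex, Subgroup.index_eq_card, hn]

/-- a normal subgroup all of whose elements have a `p`-power in `A` lies in the preimage of `O_p(M/A)`. -/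
theorem le_comap_pCore (A X : Subgroup M) [A.Normal] [hX : X.Normal]
    (h : ∀ x ∈ X, ∃ k : ℕ, x ^ p ^ k ∈ A) :
    X ≤ (pCore p (M ⧸ A)).comap (QuotientGroup.mk' A) := by
  rw [← Subgroup.map_le_iff_le_comap]
  apply le_pCore
  · exact hX.map _ (QuotientGroup.mk'_surjective A)
  · rintro ⟨y, hy⟩
    obtain ⟨x, hx, rfl⟩ := hy
    obtain ⟨k, hk⟩ := h x hx
    refine ⟨k, ?_⟩
    apply Subtype.ext
    simp only [Subgroup.coe_pow, Subgroup.coe_one]
    rw [← map_pow]
    exact (QuotientGroup.eq_one_iff _).mpr hk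

theorem exists_pow_mem_of_mem_comap_pCore (A : Subgroup M) [A.Normal] (x : M)
    (hx : x ∈ (pCore p (M ⧸ A)).comap (QuotientGroup.mk' A)) : ∃ k : ℕ, x ^ p ^ k ∈ A := by
  rw [Subgroup.mem_comap] at hx
  obtain ⟨k, hk⟩ := (pCore_isPGroup (G := M ⧸ A) p) ⟨_, hx⟩
  refine ⟨k, ?_⟩
  have := congrArg Subtype.val hk
  simp only [Subgroup.coe_pow, Subgroup.coe_one] at this
  rw [← map_pow] at this
  exact (QuotientGroup.eq_one_iff _).mp this

/-- elements of `H ⊔ K`, `H` a `p`-group and `K` normal, have a `p`-power in `K`. -/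
theorem exists_pow_mem_of_mem_sup (H K : Subgroup M) [K.Normal] (hH : IsPGroup p H) (y : M)
    (hy : y ∈ H ⊔ K) : ∃ j : ℕ, y ^ p ^ j ∈ K := by
  have h1 : QuotientGroup.mk' K y ∈ (H ⊔ K).map (QuotientGroup.mk' K) := Subgroup.mem_map_of_mem _ hy
  rw [Subgroup.map_sup, QuotientGroup.map_mk'_self, sup_bot_eq] at h1
  obtain ⟨j, hj⟩ := (hH.map (QuotientGroup.mk' K)) ⟨_, h1⟩
  refine ⟨j, ?_⟩
  have := congrArg Subtype.val hj
  simp only [Subgroup.coe_pow, Subgroup.coe_one] at this
  rw [← map_pow] at this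
  exact (QuotientGroup.eq_one_iff _).mp this

/-- if `H ⊓ C` contains a Sylow `p`-subgroup of `C = C_M(H)`, then `C ≤ H ⊔ O_{p'}(M)`. -/
theorem centralizer_le_sup_pPrimeCore (H C : Subgroup M) [H.Normal] [C.Normal] (hH : IsPGroup p H)
    (hC : ∀ x, x ∈ C ↔ ∀ h ∈ H, h * x = x * h)
    (hZ : ¬ p ∣ (H ⊓ C).relIndex C) : C ≤ H ⊔ pPrimeCore p M := by
  set Z' : Subgroup ↥C := (H ⊓ C).subgroupOf C with hZ'
  have hZp : IsPGroup p Z' := (hH.to_le inf_le_left).comap_subtype
  have hZi : ¬ p ∣ Z'.index := hZ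
  let Sy : Sylow p ↥C := hZp.toSylow hZi
  have hSy : (Sy : Subgroup ↥C) = Z' := IsPGroup.toSylow_coe _ _
  have hcent : Subgroup.normalizer ((Sy : Subgroup ↥C) : Set ↥C) ≤
      Subgroup.centralizer ((Sy : Subgroup ↥C) : Set ↥C) := by
    intro c _
    rw [Subgroup.mem_centralizer_iff]
    intro z hz
    have hz1 : z ∈ Z' := by rw [← hSy]; exact hz
    have hz' : (z : M) ∈ H := by
      rw [hZ', Subgroup.mem_subgroupOf] at hz1
      exact hz1.1
    apply Subtype.ext
    exact (hC c).mp c.2 z hz'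
  have hcompl := MonoidHom.ker_transferSylow_isComplement' Sy hcent
  have hnd := MonoidHom.not_dvd_card_ker_transferSylow Sy hcent
  set K₀ := (MonoidHom.transferSylow Sy hcent).ker with hK₀
  have hK₀n : K₀.Normal := MonoidHom.normal_ker _
  have hcop : (Nat.card K₀).Coprime p :=
    ((Nat.Prime.coprime_iff_not_dvd (Fact.out : p.Prime)).mpr hnd).symm
  have hK₀le : K₀ ≤ pPrimeCore p ↥C := le_pPrimeCore hK₀n hcop
  have hK₁n : ((pPrimeCore p ↥C).map C.subtype).Normal := inferInstance
  have hK₁c : (Nat.card ((pPrimeCore p ↥C).map C.subtype)).Coprime p := by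
    rw [Subgroup.card_map_of_injective (Subgroup.subtype_injective C)]
    exact pPrimeCore_card_coprime p
  have hK₁le : (pPrimeCore p ↥C).map C.subtype ≤ pPrimeCore p M := le_pPrimeCore hK₁n hK₁c
  intro c hc
  obtain ⟨⟨⟨k, hk⟩, ⟨z, hz⟩⟩, hkz, _⟩ := hcompl.existsUnique (⟨c, hc⟩ : ↥C)
  simp only at hkz
  have hc_eq : c = (k : M) * (z : M) := by
    have := congrArg Subtype.val hkz
    simpa using this.symm
  rw [hc_eq]
  have hk' : (k : M) ∈ pPrimeCore p M := hK₁le (Subgroup.mem_map_of_mem C.subtype (hK₀le hk))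
  have hz1 : z ∈ Z' := by rw [← hSy]; exact hz
  have hz' : (z : M) ∈ H := by
    rw [hZ', Subgroup.mem_subgroupOf] at hz1
    exact hz1.1
  have e : (k : M) * (z : M) = (z : M) * ((z : M)⁻¹ * (k : M) * (z : M)) := by group
  rw [e]
  apply Subgroup.mul_mem
  · exact (le_sup_left : H ≤ _) hz'
  · apply (le_sup_right : pPrimeCore p M ≤ H ⊔ pPrimeCore p M)
    have hn : (pPrimeCore p M).Normal := inferInstance
    have := hn.conj_mem _ hk' (z : M)⁻¹
    simpa using this

theorem abstract_iff (H C S : Subgroup M) [H.Normal] [C.Normal] (hH : IsPGroup p H)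
    (hS : IsPGroup p S) (hSi : ¬ p ∣ S.index)
    (hC : ∀ x, x ∈ C ↔ ∀ h ∈ H, h * x = x * h) :
    (H ≤ (pCore p (M ⧸ C)).comap (QuotientGroup.mk' C) ∧
      ¬ p ∣ H.relIndex ((pCore p (M ⧸ C)).comap (QuotientGroup.mk' C))) ↔
    (S ⊓ C ≤ H ∧ pPrimePCore p M = H ⊔ C) := by
  have hp : p.Prime := Fact.out
  set K := pPrimeCore p M with hK
  set N := (pCore p (M ⧸ C)).comap (QuotientGroup.mk' C) with hN
  have hNn : N.Normal := inferInstance
  have hL : pPrimePCore p M = (pCore p (M ⧸ K)).comap (QuotientGroup.mk' K) := rfl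
  rw [hL]
  set L := (pCore p (M ⧸ K)).comap (QuotientGroup.mk' K) with hLdef
  have hLn : L.Normal := inferInstance
  have hKcop : (Nat.card K).Coprime p := pPrimeCore_card_coprime p
  have hKC : K ≤ C := by
    intro k hk
    rw [hC]
    intro h hh
    have hdisj : Disjoint H K := by
      rw [disjoint_iff]; exact inf_eq_bot_of_pgroup_of_coprime hH hKcop
    exact (Subgroup.commute_of_normal_of_disjoint H K inferInstance inferInstance hdisj h k hh hk).eq
  have hpow1 : ∀ (T : Subgroup M), IsPGroup p T → ∀ x ∈ T, ∃ k : ℕ, x ^ p ^ k = 1 := by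
    intro T hT x hx
    obtain ⟨k, hk⟩ := hT ⟨x, hx⟩
    refine ⟨k, ?_⟩
    have := congrArg Subtype.val hk
    simpa using this
  have hHN : H ≤ N := le_comap_pCore C H (fun x hx => by
    obtain ⟨k, hk⟩ := hpow1 H hH x hx
    exact ⟨k, by rw [hk]; exact C.one_mem⟩)
  have hCN : C ≤ N := by
    intro x hx
    rw [hN, Subgroup.mem_comap]
    have : QuotientGroup.mk' C x = 1 := (QuotientGroup.eq_one_iff x).mpr hx
    rw [this]; exact Subgroup.one_mem _
  let Sy : Sylow p M := hS.toSylow hSi
  have hSy : (Sy : Subgroup M) = S := IsPGroup.toSylow_coe _ _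
  have hLN : L ≤ N := le_comap_pCore C L (fun x hx => by
    obtain ⟨k, hk⟩ := exists_pow_mem_of_mem_comap_pCore K x hx
    exact ⟨k, hKC hk⟩)
  -- consequences of `C ≤ H ⊔ K`
  have hiv : C ≤ H ⊔ K → ∀ x ∈ N, ∃ k : ℕ, x ^ p ^ k ∈ K := by
    intro hb x hx
    obtain ⟨k, hk⟩ := exists_pow_mem_of_mem_comap_pCore C x hx
    obtain ⟨j, hj⟩ := exists_pow_mem_of_mem_sup H K hH _ (hb hk)
    refine ⟨k + j, ?_⟩
    rw [pow_add, pow_mul]
    exact hj
  constructor
  · rintro ⟨_, h1⟩
    have hZ : ¬ p ∣ (H ⊓ C).relIndex C := by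
      rw [Subgroup.inf_relIndex_right]
      intro hd
      apply h1
      have e1 : H.relIndex (H ⊔ C) = H.relIndex C := Subgroup.relIndex_sup_left C H
      have e2 := Subgroup.relIndex_mul_relIndex H (H ⊔ C) N le_sup_left (sup_le hHN hCN)
      rw [← e2, e1]
      exact Dvd.dvd.mul_right hd _
    have hb := centralizer_le_sup_pPrimeCore H C hH hC hZ
    have hiv' := hiv hb
    have hNL : N ≤ L := le_comap_pCore K N hiv'
    have hi : S ⊓ C ≤ H := by
      have hTp : IsPGroup p ↥(H ⊔ (S ⊓ C)) :=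
        IsPGroup.to_sup_of_normal_left hH (hS.to_le inf_le_left)
      have hTN : H ⊔ (S ⊓ C) ≤ N := sup_le hHN (inf_le_right.trans hCN)
      obtain ⟨n, hn⟩ := relIndex_eq_pow (p := p) H (H ⊔ (S ⊓ C)) (fun x hx => by
        obtain ⟨k, hk⟩ := hpow1 _ hTp x hx
        exact ⟨k, by rw [hk]; exact H.one_mem⟩)
      have e2 := Subgroup.relIndex_mul_relIndex H (H ⊔ (S ⊓ C)) N le_sup_left hTN
      have hn0 : n = 0 := by
        by_contra hne
        apply h1
        rw [← e2, hn]
        exact Dvd.dvd.mul_right (dvd_pow_self p hne) _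
      rw [hn0, pow_zero] at hn
      exact le_sup_right.trans (Subgroup.relIndex_eq_one.mp hn)
    have hNHK : N ≤ H ⊔ K := by
      obtain ⟨n, hn⟩ := relIndex_eq_pow (p := p) K N hiv'
      have d1 : (H ⊔ K).relIndex N ∣ H.relIndex N := Subgroup.relIndex_dvd_of_le_left N le_sup_left
      have d2 : (H ⊔ K).relIndex N ∣ K.relIndex N := Subgroup.relIndex_dvd_of_le_left N le_sup_right
      rw [hn] at d2
      have hcop : Nat.Coprime (H.relIndex N) (p ^ n) :=
        Nat.Coprime.pow_right n ((Nat.Prime.coprime_iff_not_dvd hp).mpr h1).symm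
      exact Subgroup.relIndex_eq_one.mp (Nat.eq_one_of_dvd_coprimes hcop d1 d2)
    refine ⟨hi, le_antisymm ?_ ?_⟩
    · exact (hLN.trans hNHK).trans (sup_le_sup_left hKC H)
    · exact (sup_le hHN hCN).trans hNL
  · rintro ⟨h1, h2⟩
    have hZ : ¬ p ∣ (H ⊓ C).relIndex C := by
      have hs := not_dvd_relIndex_inf_normal Sy C
      rw [hSy] at hs
      intro hd
      apply hs
      have : (H ⊓ C).relIndex C ∣ (S ⊓ C).relIndex C :=
        Subgroup.relIndex_dvd_of_le_left C (le_inf h1 inf_le_right)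
      exact hd.trans this
    have hb := centralizer_le_sup_pPrimeCore H C hH hC hZ
    have hiv' := hiv hb
    have hNL : N ≤ L := le_comap_pCore K N hiv'
    have hNHK : N ≤ H ⊔ K := by
      rw [h2] at hNL
      exact hNL.trans (sup_le le_sup_left hb)
    have hNeq : N = H ⊔ K := le_antisymm hNHK (sup_le hHN (hKC.trans hCN))
    refine ⟨hHN, ?_⟩
    rw [hNeq, Subgroup.relIndex_sup_left K H]
    intro hd
    have hd2 : H.relIndex K ∣ Nat.card K := Subgroup.relIndex_dvd_card H K
    exact ((Nat.Prime.coprime_iff_not_dvd hp).mp hKcop.symm) (hd.trans hd2)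

end abstract

/-- Let P be a Sylow p-subgroup of the finite group G and H ≤ P a subgroup with N_P(H) a Sylow p-subgroup of N_G(H). Let N be the preimage in N_G(H) of O_p(N_G(H)/C_G(H)). Then H is a Sylow p-subgroup of N if and only if C_P(H) ≤ H and O_{p',p}(N_G(H)) = H·C_G(H). -/
theorem result {G : Type*} [Group G] [Finite G] {p : ℕ} [Fact p.Prime]
    (P : Sylow p G) (H : Subgroup G) (hHP : H ≤ (P : Subgroup G))
    (hSyl : ¬ p ∣ ((P : Subgroup G) ⊓ Subgroup.normalizer (H : Set G)).relIndex (Subgroup.normalizer (H : Set G)))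
    [hC : ((Subgroup.centralizer (H : Set G)).subgroupOf (Subgroup.normalizer (H : Set G))).Normal] :
    (H ≤ ((Cfsg.pCore p (↥(Subgroup.normalizer (H : Set G)) ⧸
              (Subgroup.centralizer (H : Set G)).subgroupOf (Subgroup.normalizer (H : Set G)))).comap
            (QuotientGroup.mk' _)).map (Subgroup.normalizer (H : Set G)).subtype ∧
      ¬ p ∣ H.relIndex (((Cfsg.pCore p (↥(Subgroup.normalizer (H : Set G)) ⧸
              (Subgroup.centralizer (H : Set G)).subgroupOf (Subgroup.normalizer (H : Set G)))).comap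
            (QuotientGroup.mk' _)).map (Subgroup.normalizer (H : Set G)).subtype)) ↔
    ((P : Subgroup G) ⊓ Subgroup.centralizer (H : Set G) ≤ H ∧
      (Cfsg.pPrimePCore p ↥(Subgroup.normalizer (H : Set G))).map (Subgroup.normalizer (H : Set G)).subtype =
        H ⊔ Subgroup.centralizer (H : Set G)) := by
  have hHM : H ≤ Subgroup.normalizer (H : Set G) := Subgroup.le_normalizer
  have hCM : Subgroup.centralizer (H : Set G) ≤ Subgroup.normalizer (H : Set G) :=
    Subgroup.centralizer_le_normalizer _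
  have hHn : (H.subgroupOf (Subgroup.normalizer (H : Set G))).Normal := Subgroup.normal_in_normalizer
  have hH' : IsPGroup p ↥(H.subgroupOf (Subgroup.normalizer (H : Set G))) :=
    (P.isPGroup'.to_le hHP).comap_subtype
  have hS' : IsPGroup p ↥((P : Subgroup G).subgroupOf (Subgroup.normalizer (H : Set G))) :=
    P.isPGroup'.comap_subtype
  have hSi' : ¬ p ∣ ((P : Subgroup G).subgroupOf (Subgroup.normalizer (H : Set G))).index := by
    rw [Subgroup.inf_relIndex_right] at hSyl
    exact hSyl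
  have hC' : ∀ x : ↥(Subgroup.normalizer (H : Set G)),
      x ∈ (Subgroup.centralizer (H : Set G)).subgroupOf (Subgroup.normalizer (H : Set G)) ↔
      ∀ h ∈ H.subgroupOf (Subgroup.normalizer (H : Set G)), h * x = x * h := by
    intro x
    rw [Subgroup.mem_subgroupOf, Subgroup.mem_centralizer_iff]
    constructor
    · intro hx h hh
      apply Subtype.ext
      exact hx h (Subgroup.mem_subgroupOf.mp hh)
    · intro hx h hh
      have := hx ⟨h, hHM hh⟩ (Subgroup.mem_subgroupOf.mpr hh)
      exact congrArg Subtype.val this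
  have key := abstract_iff (p := p) (H.subgroupOf (Subgroup.normalizer (H : Set G)))
    ((Subgroup.centralizer (H : Set G)).subgroupOf (Subgroup.normalizer (H : Set G)))
    ((P : Subgroup G).subgroupOf (Subgroup.normalizer (H : Set G))) hH' hS' hSi' hC'
  have hinj := Subgroup.subtype_injective (Subgroup.normalizer (H : Set G))
  have hHmap : (H.subgroupOf (Subgroup.normalizer (H : Set G))).map
      (Subgroup.normalizer (H : Set G)).subtype = H := by
    rw [Subgroup.subgroupOf_map_subtype, inf_eq_left.mpr hHM]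
  have hCmap : ((Subgroup.centralizer (H : Set G)).subgroupOf (Subgroup.normalizer (H : Set G))).map
      (Subgroup.normalizer (H : Set G)).subtype = Subgroup.centralizer (H : Set G) := by
    rw [Subgroup.subgroupOf_map_subtype, inf_eq_left.mpr hCM]
  have e1 : ∀ N' : Subgroup ↥(Subgroup.normalizer (H : Set G)),
      (H ≤ N'.map (Subgroup.normalizer (H : Set G)).subtype ↔
        H.subgroupOf (Subgroup.normalizer (H : Set G)) ≤ N') := by
    intro N'
    rw [← Subgroup.map_le_map_iff_of_injective hinj, hHmap]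
  have e2 : ∀ N' : Subgroup ↥(Subgroup.normalizer (H : Set G)),
      H.relIndex (N'.map (Subgroup.normalizer (H : Set G)).subtype) =
        (H.subgroupOf (Subgroup.normalizer (H : Set G))).relIndex N' := by
    intro N'
    rw [← Subgroup.relIndex_map_map_of_injective _ _ hinj, hHmap]
  have e3 : ((P : Subgroup G) ⊓ Subgroup.centralizer (H : Set G) ≤ H) ↔
      ((P : Subgroup G).subgroupOf (Subgroup.normalizer (H : Set G)) ⊓
        (Subgroup.centralizer (H : Set G)).subgroupOf (Subgroup.normalizer (H : Set G)) ≤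
        H.subgroupOf (Subgroup.normalizer (H : Set G))) := by
    constructor
    · intro h x hx
      rw [Subgroup.mem_inf, Subgroup.mem_subgroupOf, Subgroup.mem_subgroupOf] at hx
      exact Subgroup.mem_subgroupOf.mpr (h (Subgroup.mem_inf.mpr hx))
    · intro h g hg
      rw [Subgroup.mem_inf] at hg
      have : (⟨g, hCM hg.2⟩ : ↥(Subgroup.normalizer (H : Set G))) ∈
          H.subgroupOf (Subgroup.normalizer (H : Set G)) := by
        apply h
        rw [Subgroup.mem_inf, Subgroup.mem_subgroupOf, Subgroup.mem_subgroupOf]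
        exact hg
      exact Subgroup.mem_subgroupOf.mp this
  have e4 : ((Cfsg.pPrimePCore p ↥(Subgroup.normalizer (H : Set G))).map
        (Subgroup.normalizer (H : Set G)).subtype = H ⊔ Subgroup.centralizer (H : Set G)) ↔
      (Cfsg.pPrimePCore p ↥(Subgroup.normalizer (H : Set G)) =
        H.subgroupOf (Subgroup.normalizer (H : Set G)) ⊔
          (Subgroup.centralizer (H : Set G)).subgroupOf (Subgroup.normalizer (H : Set G))) := by
    rw [← (Subgroup.map_injective hinj).eq_iff, Subgroup.map_sup, hHmap, hCmap]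
  rw [e1, e2, e3, e4]
  exact key

end Cfsg.Agent.S3076
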