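import Mathlib
import Cfsg.Statements.S1461
import Cfsg.Agent.Lib.Helper1_Cores
import Cfsg.Agent.S3076
-- keeps ONE copy of the on-demand lemma `Cfsg.upperPSeries.eq_def` (RULES.md: copies with different proofs collide)
import Cfsg.Agent.S0634

set_option autoImplicit false
open Cfsg

namespace Cfsg.Agent.S1461

open Cfsg.Agent.Lib.Helper1_Cores
open scoped commutatorElement

section series
variable {G : Type*} [Group G] (p : ℕ)

theorem upperPSeries_succ_of_even (n : ℕ) (hn : Even n) :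
    (upperPSeries p G (n + 1)).1 =
      (pPrimeCore p (G ⧸ (upperPSeries p G n).1)).comap (QuotientGroup.mk' _) := by
  rw [upperPSeries]
  simp only [hn, if_true]

theorem upperPSeries_succ_of_not_even (n : ℕ) (hn : ¬ Even n) :
    (upperPSeries p G (n + 1)).1 =
      (pCore p (G ⧸ (upperPSeries p G n).1)).comap (QuotientGroup.mk' _) := by
  rw [upperPSeries]
  simp only [hn, if_false]

theorem upperPSeries_zero : (upperPSeries p G 0).1 = ⊥ := by
  rw [upperPSeries]

end series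

section struct
variable {G : Type*} [Group G] [Finite G] (p : ℕ) [Fact p.Prime]

/-- the structure of a group of `p`-length at most one: a normal `p'`-subgroup `K` with `S ⊔ K` normal. -/
theorem exists_normal_pPrime (hpl : PLengthLE p 1 G) (S : Sylow p G) :
    ∃ K : Subgroup G, K.Normal ∧ (Nat.card K).Coprime p ∧ ((S : Subgroup G) ⊔ K).Normal := by
  have hp : p.Prime := Fact.out
  set U₀ := (upperPSeries p G 0).1 with hU₀
  set U₁ := (upperPSeries p G 1).1 with hU₁
  set U₂ := (upperPSeries p G 2).1 with hU₂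
  have h1 : U₁ = (pPrimeCore p (G ⧸ U₀)).comap (QuotientGroup.mk' U₀) :=
    upperPSeries_succ_of_even p 0 (by decide)
  have h2 : U₂ = (pCore p (G ⧸ U₁)).comap (QuotientGroup.mk' U₁) :=
    upperPSeries_succ_of_not_even p 1 (by decide)
  have h3 : (⊤ : Subgroup G) = (pPrimeCore p (G ⧸ U₂)).comap (QuotientGroup.mk' U₂) := by
    have := upperPSeries_succ_of_even (G := G) p 2 (by decide)
    rw [← this]
    exact hpl.symm
  have hU₀bot : U₀ = ⊥ := upperPSeries_zero p
  -- card of U₁ coprime to p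
  have hinj : Function.Injective (QuotientGroup.mk' U₀) := by
    rw [← MonoidHom.ker_eq_bot_iff, QuotientGroup.ker_mk', hU₀bot]
  have hU₁card : (Nat.card U₁).Coprime p := by
    have e1 : (U₁.map (QuotientGroup.mk' U₀)) = pPrimeCore p (G ⧸ U₀) := by
      rw [h1]
      exact Subgroup.map_comap_eq_self_of_surjective (QuotientGroup.mk'_surjective _) _
    rw [← Subgroup.card_map_of_injective hinj, e1]
    exact pPrimeCore_card_coprime p
  -- G / U₂ has order prime to p
  have hquot : (Nat.card (G ⧸ U₂)).Coprime p := by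
    have htop : pPrimeCore p (G ⧸ U₂) = ⊤ := by
      have := congrArg (Subgroup.map (QuotientGroup.mk' U₂)) h3
      rw [Subgroup.map_comap_eq_self_of_surjective (QuotientGroup.mk'_surjective _),
        Subgroup.map_top_of_surjective _ (QuotientGroup.mk'_surjective _)] at this
      exact this.symm
    have h := pPrimeCore_card_coprime (G := G ⧸ U₂) p
    rw [htop] at h
    rwa [Nat.card_congr (Subgroup.topEquiv (G := G ⧸ U₂)).toEquiv] at h
  have hidx : ¬ p ∣ U₂.index := by
    rw [Subgroup.index_eq_card]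
    exact (Nat.Prime.coprime_iff_not_dvd hp).mp hquot.symm
  -- S ≤ U₂
  have hSU₂ : (S : Subgroup G) ≤ U₂ := by
    intro x hx
    obtain ⟨k, hk⟩ := S.isPGroup' ⟨x, hx⟩
    have hk' : x ^ p ^ k = 1 := by
      have := congrArg Subtype.val hk
      simpa using this
    have ho1 : orderOf (QuotientGroup.mk' U₂ x) ∣ p ^ k := by
      apply orderOf_dvd_of_pow_eq_one
      rw [← map_pow, hk', map_one]
    have ho2 : orderOf (QuotientGroup.mk' U₂ x) ∣ Nat.card (G ⧸ U₂) := orderOf_dvd_natCard _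
    have hcop : Nat.Coprime (Nat.card (G ⧸ U₂)) (p ^ k) := Nat.Coprime.pow_right k hquot
    have := Nat.eq_one_of_dvd_coprimes hcop ho2 ho1
    rw [orderOf_eq_one_iff] at this
    exact (QuotientGroup.eq_one_iff x).mp this
  have hU₁U₂ : U₁ ≤ U₂ := by
    intro x hx
    rw [h2, Subgroup.mem_comap]
    have : QuotientGroup.mk' U₁ x = 1 := (QuotientGroup.eq_one_iff x).mpr hx
    rw [this]
    exact Subgroup.one_mem _
  -- U₂ = S ⊔ U₁
  have hU₂eq : U₂ = (S : Subgroup G) ⊔ U₁ := by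
    apply le_antisymm _ (sup_le hSU₂ hU₁U₂)
    obtain ⟨n, hn⟩ := Cfsg.Agent.S3076.relIndex_eq_pow (p := p) U₁ U₂ (fun x hx => by
      rw [h2] at hx
      exact Cfsg.Agent.S3076.exists_pow_mem_of_mem_comap_pCore U₁ x hx)
    have d1 : ((S : Subgroup G) ⊔ U₁).relIndex U₂ ∣ U₁.relIndex U₂ :=
      Subgroup.relIndex_dvd_of_le_left U₂ le_sup_right
    have d2 : ((S : Subgroup G) ⊔ U₁).relIndex U₂ ∣ (S : Subgroup G).relIndex U₂ :=
      Subgroup.relIndex_dvd_of_le_left U₂ le_sup_left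
    have d3 : (S : Subgroup G).relIndex U₂ ∣ (S : Subgroup G).index :=
      Subgroup.relIndex_dvd_index_of_le hSU₂
    rw [hn] at d1
    have hcop : Nat.Coprime ((S : Subgroup G).index) (p ^ n) :=
      Nat.Coprime.pow_right n ((Nat.Prime.coprime_iff_not_dvd hp).mpr S.not_dvd_index).symm
    exact Subgroup.relIndex_eq_one.mp (Nat.eq_one_of_dvd_coprimes hcop (d2.trans d3) d1)
  refine ⟨U₁, inferInstance, hU₁card, ?_⟩
  rw [← hU₂eq]
  infer_instance

end struct

section frattini
variable {G : Type*} [Group G] [Finite G] {p : ℕ} [Fact p.Prime]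

theorem frattini_decomp (S : Sylow p G) (K : Subgroup G) [K.Normal]
    [hU : ((S : Subgroup G) ⊔ K).Normal] (x : G) :
    ∃ g ∈ Subgroup.normalizer ((S : Subgroup G) : Set G), ∃ k ∈ K, x = g * k := by
  have hSU : (S : Subgroup G) ≤ (S : Subgroup G) ⊔ K := le_sup_left
  have h := Sylow.normalizer_sup_eq_top (S.subtype hSU)
  rw [Sylow.coe_subtype, Subgroup.subgroupOf_map_subtype, inf_eq_left.mpr hSU] at h
  have hx : x ∈ Subgroup.normalizer ((S : Subgroup G) : Set G) ⊔ ((S : Subgroup G) ⊔ K) := by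
    rw [h]; exact Subgroup.mem_top x
  obtain ⟨g, hg, u, hu, rfl⟩ := Subgroup.mem_sup_of_normal_right.mp hx
  obtain ⟨s, hs, k, hk, rfl⟩ := Subgroup.mem_sup_of_normal_right.mp hu
  refine ⟨g * s, Subgroup.mul_mem _ hg (Subgroup.le_normalizer hs), k, hk, ?_⟩
  rw [mul_assoc]

theorem frattini_decomp' (S : Sylow p G) (K : Subgroup G) [K.Normal]
    [hU : ((S : Subgroup G) ⊔ K).Normal] (x : G) :
    ∃ k ∈ K, ∃ g ∈ Subgroup.normalizer ((S : Subgroup G) : Set G), x = k * g := by
  obtain ⟨g, hg, k, hk, h⟩ := frattini_decomp S K x⁻¹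
  refine ⟨k⁻¹, K.inv_mem hk, g⁻¹, Subgroup.inv_mem _ hg, ?_⟩
  rw [← mul_inv_rev, ← h, inv_inv]

end frattini

/-- Let G be a finite solvable group, p a prime with G = O_{p',p,p'}(G), and S a Sylow p-subgroup. Then: if S ≤ G' then S ≤ [N_G(S), N_G(S)]; if Y ⊆ S and xYx⁻¹ ⊆ S then x = g c for some g ∈ N_G(S) and c centralizing Y; and for every p-subgroup Q there is x ∈ C_G(Q ∩ S) with xQx⁻¹ ≤ S. -/
theorem result {G : Type*} [Group G] [Finite G] [Group.IsSolvable G] (p : ℕ) [Fact p.Prime] (hpl : Cfsg.PLengthLE p 1 G) (S : Sylow p G) :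
    ((S : Subgroup G) ≤ commutator G → (S : Subgroup G) ≤ ⁅Subgroup.normalizer ((S : Subgroup G) : Set G), Subgroup.normalizer ((S : Subgroup G) : Set G)⁆) ∧
      (∀ (Y : Set G) (x : G), Y ⊆ (S : Subgroup G) → (fun y => x * y * x⁻¹) '' Y ⊆ (S : Subgroup G) →
        ∃ g ∈ Subgroup.normalizer ((S : Subgroup G) : Set G), ∃ c ∈ Subgroup.centralizer Y, g * c = x) ∧
      ∀ Q : Subgroup G, IsPGroup p Q → ∃ x ∈ Subgroup.centralizer ((Q ⊓ (S : Subgroup G) : Subgroup G) : Set G), Q.map (MulAut.conj x).toMonoidHom ≤ (S : Subgroup G) := by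
  obtain ⟨K, hKn, hKcop, hUn⟩ := exists_normal_pPrime p hpl S
  have hSK : ∀ x : G, x ∈ (S : Subgroup G) → x ∈ K → x = 1 := by
    intro x hxS hxK
    have h := Cfsg.Agent.Lib.Helper32_Sylow.inf_eq_bot_of_pgroup_of_coprime S.isPGroup' hKcop
    have : x ∈ (S : Subgroup G) ⊓ K := ⟨hxS, hxK⟩
    rw [h, Subgroup.mem_bot] at this
    exact this
  refine ⟨?_, ?_, ?_⟩
  · -- transfer-free focal argument
    intro hSG
    set N := Subgroup.normalizer ((S : Subgroup G) : Set G) with hN
    have hSN : (S : Subgroup G) ≤ N := Subgroup.le_normalizer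
    -- M = N' ⊔ K is normal with abelian quotient
    have hMn : (⁅N, N⁆ ⊔ K).Normal := by
      constructor
      intro m hm x
      obtain ⟨g, hg, k, hk, rfl⟩ := frattini_decomp S K x
      obtain ⟨a, ha, b, hb, rfl⟩ := Subgroup.mem_sup_of_normal_right.mp hm
      -- conjugate by k first, then by g
      have h1 : k * (a * b) * k⁻¹ ∈ ⁅N, N⁆ ⊔ K := by
        have e : k * (a * b) * k⁻¹ = a * ((a⁻¹ * k * a) * b * k⁻¹) := by group
        rw [e]
        refine Subgroup.mul_mem _ (Subgroup.mem_sup_left ha) (Subgroup.mem_sup_right ?_)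
        refine K.mul_mem (K.mul_mem ?_ hb) (K.inv_mem hk)
        have := hKn.conj_mem k hk a⁻¹
        simpa using this
      obtain ⟨a', ha', b', hb', hab'⟩ := Subgroup.mem_sup_of_normal_right.mp h1
      have e : g * k * (a * b) * (g * k)⁻¹ = g * (k * (a * b) * k⁻¹) * g⁻¹ := by group
      rw [e, ← hab']
      have e2 : g * (a' * b') * g⁻¹ = (g * a' * g⁻¹) * (g * b' * g⁻¹) := by group
      rw [e2]
      refine Subgroup.mul_mem _ (Subgroup.mem_sup_left ?_) (Subgroup.mem_sup_right (hKn.conj_mem b' hb' g))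
      -- N' is normalized by N
      have hcn : (⁅N, N⁆ : Subgroup G) = (commutator ↥N).map N.subtype :=
        (Subgroup.map_subtype_commutator N).symm
      rw [hcn] at ha' ⊢
      obtain ⟨a'', ha'', rfl⟩ := ha'
      have hnorm : (commutator ↥N).Normal := inferInstance
      have := hnorm.conj_mem a'' ha'' ⟨g, hg⟩
      exact ⟨_, this, by simp⟩
    have hcomm : commutator G ≤ ⁅N, N⁆ ⊔ K := by
      rw [commutator_def, Subgroup.commutator_le]
      intro x _ y _
      obtain ⟨g₁, hg₁, k₁, hk₁, rfl⟩ := frattini_decomp S K x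
      obtain ⟨g₂, hg₂, k₂, hk₂, rfl⟩ := frattini_decomp S K y
      rw [← QuotientGroup.eq_one_iff (N := ⁅N, N⁆ ⊔ K)]
      have hk1 : ((k₁ : G) : G ⧸ (⁅N, N⁆ ⊔ K)) = 1 :=
        (QuotientGroup.eq_one_iff _).mpr (Subgroup.mem_sup_right hk₁)
      have hk2 : ((k₂ : G) : G ⧸ (⁅N, N⁆ ⊔ K)) = 1 :=
        (QuotientGroup.eq_one_iff _).mpr (Subgroup.mem_sup_right hk₂)
      have hc : ((⁅g₁, g₂⁆ : G) : G ⧸ (⁅N, N⁆ ⊔ K)) = 1 :=
        (QuotientGroup.eq_one_iff _).mpr
          (Subgroup.mem_sup_left (Subgroup.commutator_mem_commutator hg₁ hg₂))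
      rw [commutatorElement_def] at hc ⊢
      simp only [QuotientGroup.mk_mul, QuotientGroup.mk_inv, hk1, hk2, mul_one] at hc ⊢
      exact hc
    intro s hs
    obtain ⟨a, ha, k, hk, hak⟩ := Subgroup.mem_sup_of_normal_right.mp (hcomm (hSG hs))
    have hcle : ⁅N, N⁆ ≤ N := by
      rw [Subgroup.commutator_le]
      intro g₁ h₁ g₂ h₂
      rw [commutatorElement_def]
      exact N.mul_mem (N.mul_mem (N.mul_mem h₁ h₂) (N.inv_mem h₁)) (N.inv_mem h₂)
    have haN : a ∈ N := hcle ha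
    have hkN : k ∈ N := by
      have : k = a⁻¹ * s := by rw [← hak]; group
      rw [this]
      exact N.mul_mem (N.inv_mem haN) (hSN hs)
    -- pass to the abelianization of N
    have hcn : (⁅N, N⁆ : Subgroup G) = (commutator ↥N).map N.subtype :=
      (Subgroup.map_subtype_commutator N).symm
    have ha' : (⟨a, haN⟩ : ↥N) ∈ commutator ↥N := by
      rw [hcn] at ha
      obtain ⟨a'', ha'', h⟩ := ha
      have : a'' = ⟨a, haN⟩ := Subtype.ext h
      rwa [← this]
    have hof : Abelianization.of (⟨s, hSN hs⟩ : ↥N) = Abelianization.of (⟨k, hkN⟩ : ↥N) := by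
      have e : (⟨s, hSN hs⟩ : ↥N) = ⟨a, haN⟩ * ⟨k, hkN⟩ := Subtype.ext hak.symm
      rw [e, map_mul]
      have : Abelianization.of (⟨a, haN⟩ : ↥N) = 1 := by
        rw [← MonoidHom.mem_ker, Abelianization.ker_of]; exact ha'
      rw [this, one_mul]
    obtain ⟨e, he⟩ := S.isPGroup' ⟨s, hs⟩
    have he' : s ^ p ^ e = 1 := by
      have := congrArg Subtype.val he
      simpa using this
    have ho1 : orderOf (Abelianization.of (⟨s, hSN hs⟩ : ↥N)) ∣ p ^ e := by
      apply orderOf_dvd_of_pow_eq_one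
      rw [← map_pow]
      have : (⟨s, hSN hs⟩ : ↥N) ^ p ^ e = 1 := Subtype.ext (by simpa using he')
      rw [this, map_one]
    have ho2 : orderOf (Abelianization.of (⟨s, hSN hs⟩ : ↥N)) ∣ Nat.card K := by
      rw [hof]
      refine (orderOf_map_dvd _ _).trans ?_
      have : orderOf (⟨k, hkN⟩ : ↥N) = orderOf k := Subgroup.orderOf_mk k hkN
      rw [this]
      have h2 : orderOf (⟨k, hk⟩ : ↥K) ∣ Nat.card K := orderOf_dvd_natCard _
      rwa [Subgroup.orderOf_mk] at h2
    have hcop : Nat.Coprime (Nat.card K) (p ^ e) := Nat.Coprime.pow_right e hKcop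
    have h1 := Nat.eq_one_of_dvd_coprimes hcop ho2 ho1
    rw [orderOf_eq_one_iff, ← MonoidHom.mem_ker, Abelianization.ker_of] at h1
    rw [hcn]
    exact ⟨_, h1, rfl⟩
  · intro Y x hY hxY
    obtain ⟨g, hg, k, hk, rfl⟩ := frattini_decomp S K x
    refine ⟨g, hg, k, ?_, rfl⟩
    rw [Subgroup.mem_centralizer_iff]
    intro y hy
    have h1 : g * k * y * (g * k)⁻¹ ∈ (S : Subgroup G) := hxY ⟨y, hy, rfl⟩
    have h2 : k * y * k⁻¹ ∈ (S : Subgroup G) := by
      have := (Subgroup.mem_normalizer_iff.mp (Subgroup.inv_mem _ hg) _).mp h1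
      have e : g⁻¹ * (g * k * y * (g * k)⁻¹) * g⁻¹⁻¹ = k * y * k⁻¹ := by group
      rwa [e] at this
    have h3 : k * y * k⁻¹ * y⁻¹ = 1 := by
      apply hSK
      · exact Subgroup.mul_mem _ h2 (Subgroup.inv_mem _ (hY hy))
      · have e : k * y * k⁻¹ * y⁻¹ = k * (y * k⁻¹ * y⁻¹) := by group
        rw [e]
        exact K.mul_mem hk (hKn.conj_mem _ (K.inv_mem hk) y)
    have h4 : k * y * k⁻¹ = y := by
      rw [mul_inv_eq_one] at h3
      exact h3
    rw [mul_inv_eq_iff_eq_mul] at h4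
    exact h4.symm
  · intro Q hQ
    obtain ⟨S', hQS'⟩ := hQ.exists_le_sylow
    obtain ⟨x, hx⟩ := MulAction.exists_smul_eq G S S'
    obtain ⟨k, hk, g, hg, rfl⟩ := frattini_decomp' S K x
    have hQk : ∀ q ∈ Q, k⁻¹ * q * k ∈ (S : Subgroup G) := by
      intro q hq
      have h1 : q ∈ (S' : Subgroup G) := hQS' hq
      rw [← hx, Sylow.coe_subgroup_smul, Subgroup.mem_pointwise_smul_iff_inv_smul_mem, ← map_inv,
        MulAut.smul_def, MulAut.conj_apply, inv_inv] at h1
      have h2 := (Subgroup.mem_normalizer_iff.mp hg _).mp h1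
      have e : g * ((k * g)⁻¹ * q * (k * g)) * g⁻¹ = k⁻¹ * q * k := by group
      rwa [e] at h2
    refine ⟨k⁻¹, ?_, ?_⟩
    · rw [Subgroup.mem_centralizer_iff]
      intro d hd
      have hd' : d ∈ Q ⊓ (S : Subgroup G) := hd
      have h2 := hQk d hd'.1
      have h3 : k⁻¹ * d * k * d⁻¹ = 1 := by
        apply hSK
        · exact Subgroup.mul_mem _ h2 (Subgroup.inv_mem _ hd'.2)
        · have e : k⁻¹ * d * k * d⁻¹ = k⁻¹ * (d * k * d⁻¹) := by group
          rw [e]
          exact K.mul_mem (K.inv_mem hk) (hKn.conj_mem _ hk d)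
      rw [mul_inv_eq_one] at h3
      -- h3 : k⁻¹ * d * k = d
      exact (eq_mul_inv_of_mul_eq h3).symm
    · rintro _ ⟨q, hq, rfl⟩
      simpa [MulAut.conj_apply] using hQk q hq

end Cfsg.Agent.S1461
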