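import Cfsg.Statements.S1462
import Cfsg.Agent.Lib.Helper23_PLength
import Cfsg.Agent.Lib.Helper23_PComp
import Cfsg.Agent.S1461

set_option autoImplicit false
open Cfsg

namespace Cfsg.Agent.S1462

/-- Let G be a finite solvable group, p an odd prime with G = O_{p',p,p'}(G), E an elementary abelian p-subgroup contained in no larger elementary abelian p-subgroup of G, and L a subgroup of order coprime to p normalized by E. Then L ≤ O_{p'}(G). -/
theorem result {G : Type*} [Group G] [Finite G] [Group.IsSolvable G] (p : ℕ) [Fact p.Prime] (hp : p ≠ 2) (hpl : Cfsg.PLengthLE p 1 G) (E L : Subgroup G) (hE : Cfsg.IsElementaryAbelian p E)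
    (hEmax : ∀ B : Subgroup G, Cfsg.IsElementaryAbelian p B → E ≤ B → B = E) (hL : (Nat.card L).Coprime p) (hEL : E ≤ Subgroup.normalizer (L : Set G)) :
    L ≤ Cfsg.pPrimeCore p G := by
  classical
  set O := pPrimeCore p G with hO
  have hOn : O.Normal := Cfsg.Agent.Lib.Helper1_Cores.pPrimeCore_normal p
  set π := QuotientGroup.mk' O with hπ
  have hπs : Function.Surjective π := QuotientGroup.mk'_surjective O
  have hkerπ : π.ker = O := QuotientGroup.ker_mk' O
  have hEp : IsPGroup p E := by
    intro a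
    refine ⟨1, ?_⟩
    apply Subtype.ext
    simpa using hE.2 a a.2
  obtain ⟨S, hES⟩ := hEp.exists_le_sylow
  obtain ⟨K, hKn, hKcop, hSKn⟩ := Cfsg.Agent.S1461.exists_normal_pPrime p hpl S
  have hKO : K ≤ O := Cfsg.Agent.Lib.Helper1_Cores.le_pPrimeCore hKn hKcop
  have hOcop : (Nat.card ↥O).Coprime p := Cfsg.Agent.Lib.Helper1_Cores.pPrimeCore_card_coprime p
  have hSO : Disjoint (S : Subgroup G) O := by
    apply Subgroup.disjoint_of_coprime_natCard
    obtain ⟨k, hk⟩ := IsPGroup.iff_card.mp S.2
    rw [hk]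
    exact (Nat.Coprime.pow_right k hOcop).symm
  -- the image of `S`
  set Q : Subgroup (G ⧸ O) := (S : Subgroup G).map π with hQ
  have hQn : Q.Normal := by
    have h1 : ((S : Subgroup G) ⊔ K).map π = Q := by
      rw [Subgroup.map_sup]
      have : K.map π = ⊥ := by
        rw [Subgroup.map_eq_bot_iff, hkerπ]; exact hKO
      rw [this, sup_bot_eq]
    rw [← h1]
    exact hSKn.map π hπs
  have hQp : IsPGroup p ↥Q := S.2.map π
  set S' : Sylow p (G ⧸ O) := S.mapSurjective hπs with hS'
  have hS'Q : (S' : Subgroup (G ⧸ O)) = Q := Sylow.coe_mapSurjective hπs S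
  have hQall : ∀ B : Subgroup (G ⧸ O), IsPGroup p ↥B → B ≤ Q := by
    intro B hB
    obtain ⟨P', hP'⟩ := hB.exists_le_sylow
    obtain ⟨g, hg⟩ := MulAction.exists_smul_eq (G ⧸ O) S' P'
    have hn : (S' : Subgroup (G ⧸ O)).Normal := hS'Q ▸ hQn
    have h2 : g • S' = S' := Sylow.smul_eq_of_normal
    rw [h2] at hg
    rw [← hS'Q, hg]
    exact hP'
  -- images of `E` and `L`
  have hEbar : IsElementaryAbelian p (E.map π) := by
    refine ⟨?_, ?_⟩
    · have := hE.1
      infer_instance
    · rintro _ ⟨e, he, rfl⟩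
      rw [← map_pow, hE.2 e he, map_one]
  have hEmaxbar : ∀ B : Subgroup (G ⧸ O), IsElementaryAbelian p B → E.map π ≤ B → B = E.map π := by
    intro B hB hEB
    have hBp : IsPGroup p ↥B := by
      intro a
      refine ⟨1, ?_⟩
      apply Subtype.ext
      simpa using hB.2 a a.2
    have hBQ : B ≤ Q := hQall B hBp
    set B' : Subgroup G := B.comap π ⊓ (S : Subgroup G) with hB'
    have hinj : ∀ s ∈ (S : Subgroup G), π s = 1 → s = 1 := by
      intro s hs h1
      have : s ∈ O := by rw [← hkerπ]; exact h1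
      exact Subgroup.disjoint_def.mp hSO hs this
    have hB'ea : IsElementaryAbelian p B' := by
      refine ⟨⟨⟨fun a b => ?_⟩⟩, ?_⟩
      · apply Subtype.ext
        show (a : G) * b = b * a
        have ha := Subgroup.mem_inf.mp a.2
        have hb := Subgroup.mem_inf.mp b.2
        have hcomm : π (a : G) * π (b : G) = π (b : G) * π (a : G) := by
          have := hB.1
          have h1 := mul_comm' (⟨π (a : G), ha.1⟩ : ↥B) ⟨π (b : G), hb.1⟩
          exact congrArg Subtype.val h1
        have h2 : π ((a : G) * b * ((b : G) * a)⁻¹) = 1 := by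
          rw [map_mul, map_inv, map_mul, map_mul, hcomm, mul_inv_cancel]
        have h3 : (a : G) * b * ((b : G) * a)⁻¹ ∈ (S : Subgroup G) :=
          Subgroup.mul_mem _ (Subgroup.mul_mem _ ha.2 hb.2)
            (Subgroup.inv_mem _ (Subgroup.mul_mem _ hb.2 ha.2))
        have h4 := hinj _ h3 h2
        exact mul_inv_eq_one.mp h4
      · intro s hs
        have hs' := Subgroup.mem_inf.mp hs
        apply hinj _ (Subgroup.pow_mem _ hs'.2 p)
        rw [map_pow]
        exact hB.2 _ hs'.1
    have hEB' : E ≤ B' := by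
      intro e he
      exact Subgroup.mem_inf.mpr ⟨hEB (Subgroup.mem_map_of_mem π he), hES he⟩
    have hB'E : B' = E := hEmax B' hB'ea hEB'
    apply le_antisymm _ hEB
    intro b hb
    obtain ⟨s, hs, rfl⟩ := hBQ hb
    have : s ∈ B' := Subgroup.mem_inf.mpr ⟨hb, hs⟩
    rw [hB'E] at this
    exact Subgroup.mem_map_of_mem π this
  have hLbar : (Nat.card ↥(L.map π)).Coprime p := by
    have h1 : Nat.card ↥(L.map π) ∣ Nat.card ↥L :=
      Subgroup.card_dvd_of_surjective (π.subgroupMap L) (π.subgroupMap_surjective L)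
    exact Nat.Coprime.coprime_dvd_left h1 hL
  have hELbar : E.map π ≤ Subgroup.normalizer ((L.map π : Subgroup (G ⧸ O)) : Set (G ⧸ O)) :=
    (Subgroup.map_mono hEL).trans (Subgroup.le_normalizer_map π)
  have hcore : pPrimeCore p (G ⧸ O) = ⊥ := Cfsg.Agent.Lib.Helper23_PComp.pPrimeCore_quotient_eq_bot G p
  have hbot := Cfsg.Agent.Lib.Helper23_PLength.eq_bot_of_normalized_by_max_elementaryAbelian hp hcore Q hQn hQp
    hQall (E.map π) (L.map π) hEbar hEmaxbar hLbar hELbar
  rw [Subgroup.map_eq_bot_iff, hkerπ] at hbot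
  exact hbot

end Cfsg.Agent.S1462
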