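import Cfsg.Statements.S1472
-- import your own Cfsg.Agent.* helpers here
import Cfsg.Agent.Lib.Helper69_AppCDefs
import Cfsg.Agent.Lib.Helper69_AppCLam
import Cfsg.Agent.Lib.Helper1_AppC_PKD
import Cfsg.Agent.Lib.Helper55_AppC_PK6
import Cfsg.Agent.Lib.Helper32_AppC_PKA
import Cfsg.Agent.Lib.Helper73_AppC_PK2a
import Cfsg.Agent.Lib.Helper73_AppC_PK2b
import Cfsg.Agent.Lib.Helper55_AppC_PK7
import Cfsg.Agent.Lib.Helper73_AppC_PK8
import Cfsg.Agent.Lib.Helper67_AppC_PKB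

set_option autoImplicit false
open Cfsg

namespace Cfsg.Agent.S1472

/-- Let p, q be primes with (p^q − 1)/(p − 1) coprime to p − 1, G a finite group, F a field with p ^ q elements, and P, U, Q subgroups of G with: f : G → F bijective from P onto F and additive on P; U normalizing P and acting through ψ : G → F, injective and multiplicative on U with ψ(u) ≠ 0 and f(uxu⁻¹) = ψ(u) f(x); #U · (p − 1) = p^q − 1; Q abelian of order coprime to p, normalized by every x ∈ P with f(x) in the prime field; and some y ∈ Q such that y x y⁻¹ normalizes U for every such x. Then p ≤ q. -/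
theorem result {G : Type*} [Group G] [Finite G] (p q : ℕ) [Fact p.Prime] [Fact q.Prime] (hA : Nat.Coprime ((p ^ q - 1) / (p - 1)) (p - 1))
    (F : Type*) [Field F] [Fintype F] (hF : Fintype.card F = p ^ q) (P U Q : Subgroup G) (f ψ : G → F)
    (hf : Set.BijOn f (P : Set G) Set.univ) (hfadd : ∀ x ∈ P, ∀ z ∈ P, f (x * z) = f x + f z)
    (hUP : U ≤ Subgroup.normalizer (P : Set G)) (hψ : ∀ u ∈ U, ψ u ≠ 0 ∧ ∀ x ∈ P, f (u * x * u⁻¹) = ψ u * f x)
    (hψmul : ∀ u ∈ U, ∀ v ∈ U, ψ (u * v) = ψ u * ψ v) (hψinj : Set.InjOn ψ (U : Set G)) (hUcard : Nat.card U * (p - 1) = p ^ q - 1)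
    (hQ : IsMulCommutative Q) (hQp : (Nat.card Q).Coprime p) (hP0Q : ∀ x ∈ P, f x ^ p = f x → x ∈ Subgroup.normalizer (Q : Set G))
    (y : G) (hy : y ∈ Q) (hP0U : ∀ x ∈ P, f x ^ p = f x → y * x * y⁻¹ ∈ Subgroup.normalizer (U : Set G)) :
    p ≤ q := by
  classical
  have hpp : p.Prime := Fact.out
  have hqp : q.Prime := Fact.out
  by_cases hp2 : p = 2
  · rw [hp2]; exact hqp.two_le
  by_cases hq2 : q = 2
  · exfalso
    subst hq2
    have h1 : (p ^ 2 - 1) / (p - 1) = p + 1 := by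
      have h2 : p ^ 2 - 1 = (p + 1) * (p - 1) := by
        have h5 : 1 ≤ p := hpp.one_le
        have h6 : 1 ≤ p ^ 2 := Nat.one_le_pow _ _ hpp.pos
        zify [h5, h6]; ring
      rw [h2, Nat.mul_div_cancel _ (by have := hpp.two_le; omega)]
    rw [h1] at hA
    have hodd : Odd p := hpp.odd_of_ne_two hp2
    obtain ⟨k, hk⟩ := hodd
    have h3 : 2 ∣ Nat.gcd (p + 1) (p - 1) := Nat.dvd_gcd ⟨k + 1, by omega⟩ ⟨k, by omega⟩
    rw [hA] at h3
    omega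
  obtain ⟨c, hcU, hcψ, hN1⟩ := Cfsg.Agent.Lib.Helper67_AppC_PKB.PKB p q hp2 hA F hF P U Q f ψ hf hfadd hUP hψ hψmul hψinj hUcard hQ hQp
    hP0Q y hy hP0U
  have hTH := Cfsg.Agent.Lib.Helper69_AppCLam.TNotH c
  have hTN := Cfsg.Agent.Lib.Helper69_AppCLam.TNotNormP c
  have hSA := Cfsg.Agent.Lib.Helper69_AppCLam.stepA c
  have hCX := Cfsg.Agent.Lib.Helper69_AppCLam.CXs c
  have hXH := Cfsg.Agent.Lib.Helper69_AppCLam.XH c
  have hTI := Cfsg.Agent.Lib.Helper73_AppC_PK2a.PK2a c hTN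
  have hDi := Cfsg.Agent.Lib.Helper73_AppC_PK2b.PK2b c hTH hTI
  have hPu := Cfsg.Agent.Lib.Helper1_AppC_PKD.PKD c hSA
  have hRi := Cfsg.Agent.Lib.Helper55_AppC_PK6.PK6 c hDi hTH hSA hCX hXH hPu
  have hTr := Cfsg.Agent.Lib.Helper55_AppC_PK7.PK7 c hRi
  have hEI := Cfsg.Agent.Lib.Helper73_AppC_PK8.PK8 c hTr
  refine Cfsg.Agent.Lib.Helper32_AppC_PKA.PKA p q hp2 hq2 hA F hF ?_
  intro a ha h2a
  obtain ⟨w, hw, rfl⟩ := (hN1 a).mp ha
  obtain ⟨w', hw', h2⟩ := (hN1 _).mp h2a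
  have hw1 : w ∈ c.U := hcU ▸ hw
  have hw1' : w' ∈ c.U := hcU ▸ hw'
  obtain ⟨w'', hw'', h3⟩ := hEI w hw1 ⟨w', hw1', by rw [hcψ, ← h2]; ring⟩
  rw [hcψ] at h3
  rw [hcU] at hw''
  have h4 : (ψ w)⁻¹ = ψ w⁻¹ := by
    have := c.ψ_inv hw1
    rw [hcψ] at this
    exact this.symm
  rw [h4]
  exact (hN1 _).mpr ⟨w'', hw'', by rw [← h3]; ring⟩

end Cfsg.Agent.S1472
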