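import Mathlib
import Cfsg.Statements.S1475

set_option autoImplicit false
open Cfsg

namespace Cfsg.Agent.S1475

/-- If `b` normalizes `M`, then `(b * m)^i ∈ b^i M` for `m ∈ M`. -/
theorem pow_mul_mem {L : Type*} [Group L] (M : Subgroup L) (b : L)
    (hbN : ∀ m ∈ M, b⁻¹ * m * b ∈ M) (m : L) (hm : m ∈ M) (i : ℕ) :
    ∃ m' ∈ M, (b * m) ^ i = b ^ i * m' := by
  induction i with
  | zero => exact ⟨1, M.one_mem, by simp⟩
  | succ i ih =>
    obtain ⟨m', hm', h⟩ := ih
    refine ⟨(b⁻¹ * m' * b) * m, M.mul_mem (hbN m' hm') hm, ?_⟩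
    rw [pow_succ, h, pow_succ]; group

/-- If `x^i = y^i` with `x^t = y^t = 1`, `t` prime and `0 < i < t`, then `x = y`. -/
theorem eq_of_pow_eq {L : Type*} [Group L] (x y : L) (t i : ℕ) (ht : t.Prime)
    (hi0 : 0 < i) (hit : i < t) (hx : x ^ t = 1) (hy : y ^ t = 1) (h : x ^ i = y ^ i) : x = y := by
  have hcop : Nat.Coprime i t := by
    rw [Nat.coprime_comm]
    exact (Nat.Prime.coprime_iff_not_dvd ht).mpr (Nat.not_dvd_of_pos_of_lt hi0 hit)
  obtain ⟨u, -, hu⟩ := Nat.exists_mul_mod_eq_one_of_coprime hcop ht.one_lt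
  have hx' : x ^ (i * u) = x := by rw [pow_eq_pow_mod (i * u) hx, hu, pow_one]
  have hy' : y ^ (i * u) = y := by rw [pow_eq_pow_mod (i * u) hy, hu, pow_one]
  rw [← hx', ← hy', pow_mul, pow_mul, h]

/-- The norm of `v` under an element `x` with `x^t = 1` acting without fixed points is trivial. -/
theorem norm_eq_one {L V : Type*} [Group L] [CommGroup V] (φ : L →* MulAut V) (x : L) (t : ℕ)
    (hxt : x ^ t = 1) (hfpf : ∀ v : V, φ x v = v → v = 1) (v : V) :
    ∏ i ∈ Finset.range t, φ (x ^ i) v = 1 := by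
  apply hfpf
  rw [map_prod]
  have h1 : ∀ i, φ x (φ (x ^ i) v) = φ (x ^ (i + 1)) v := by
    intro i
    rw [pow_succ', map_mul, MulAut.mul_apply]
  simp_rw [h1]
  have h2 := Finset.prod_range_succ' (fun i => φ (x ^ i) v) t
  have h3 := Finset.prod_range_succ (fun i => φ (x ^ i) v) t
  simp only [pow_zero, map_one, MulAut.one_apply] at h2
  rw [hxt, map_one, MulAut.one_apply] at h3
  rw [h3] at h2
  exact (mul_right_cancel h2).symm

/-- Key abstract step: a group containing a nontrivial subgroup `M` normalized by an element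
`b ∉ M` such that every element of the coset `b M` has order dividing the prime `t` cannot act
without fixed points on a nontrivial abelian group of order prime to `|M|`. -/
theorem abstract_key {L V : Type*} [Group L] [CommGroup V] (φ : L →* MulAut V)
    (M : Subgroup L) [Finite M] (hM : M ≠ ⊥) (b : L) (hbN : ∀ m ∈ M, b⁻¹ * m * b ∈ M)
    (t : ℕ) (ht : t.Prime) (hbt : ∀ m ∈ M, (b * m) ^ t = 1)
    (hfpf : ∀ k : L, k ≠ 1 → ∀ v : V, φ k v = v → v = 1) (hb : b ∉ M) (v : V) :
    v ^ Nat.card M = 1 := by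
  classical
  have : Fintype M := Fintype.ofFinite M
  -- (2) the product of the M-conjugates of any w is trivial
  have hP : ∀ w : V, ∏ m : M, φ (m : L) w = 1 := by
    intro w
    obtain ⟨m₀, hm₀, hm₀1⟩ := (Subgroup.ne_bot_iff_exists_ne_one).mp hM |> fun ⟨a, ha⟩ => 
      (⟨(a : L), a.2, fun h => ha (Subtype.ext h)⟩ : ∃ m₀ : L, m₀ ∈ M ∧ m₀ ≠ 1)
    apply hfpf m₀ hm₀1
    rw [map_prod]
    have : ∀ m : M, φ m₀ (φ (m : L) w) = φ (((⟨m₀, hm₀⟩ : M) * m : M) : L) w := by
      intro m
      rw [Subgroup.coe_mul, map_mul, MulAut.mul_apply]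
    simp_rw [this]
    exact Function.Bijective.prod_comp (Group.mulLeft_bijective (⟨m₀, hm₀⟩ : M))
      (fun m : M => φ (m : L) w)
  -- (1) norms over the coset b M are trivial
  have hN : ∀ m : M, ∏ i ∈ Finset.range t, φ ((b * (m : L)) ^ i) v = 1 := by
    intro m
    apply norm_eq_one φ (b * m) t (hbt m m.2)
    apply hfpf
    intro h
    apply hb
    have : b = (m : L)⁻¹ := eq_inv_of_mul_eq_one_left h
    rw [this]; exact M.inv_mem m.2
  -- (3) for 0 < i < t the product over m of φ ((b m)^i) v is trivial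
  have h3 : ∀ i, 0 < i → i < t → ∏ m : M, φ ((b * (m : L)) ^ i) v = 1 := by
    intro i hi0 hit
    have hex : ∀ m : M, ∃ m' : M, (b * (m : L)) ^ i = b ^ i * (m' : L) := by
      intro m
      obtain ⟨m', hm', h⟩ := pow_mul_mem M b hbN m m.2 i
      exact ⟨⟨m', hm'⟩, h⟩
    choose g hg using hex
    have hginj : Function.Injective g := by
      intro m₁ m₂ h12
      have e : (b * (m₁ : L)) ^ i = (b * (m₂ : L)) ^ i := by rw [hg m₁, hg m₂, h12]
      have := eq_of_pow_eq _ _ t i ht hi0 hit (hbt m₁ m₁.2) (hbt m₂ m₂.2) e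
      exact Subtype.ext (mul_left_cancel this)
    have hgbij : Function.Bijective g := Finite.injective_iff_bijective.mp hginj
    calc ∏ m : M, φ ((b * (m : L)) ^ i) v = ∏ m : M, φ (b ^ i) (φ ((g m : M) : L) v) := by
          apply Finset.prod_congr rfl
          intro m _
          rw [hg m, map_mul, MulAut.mul_apply]
      _ = φ (b ^ i) (∏ m : M, φ ((g m : M) : L) v) := by rw [map_prod]
      _ = φ (b ^ i) (∏ m : M, φ (m : L) v) := by
          rw [Function.Bijective.prod_comp hgbij (fun m : M => φ (m : L) v)]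
      _ = 1 := by rw [hP v, map_one]
  -- (4) combine
  have hall : ∏ m : M, ∏ i ∈ Finset.range t, φ ((b * (m : L)) ^ i) v = 1 := by
    apply Finset.prod_eq_one
    intro m _
    exact hN m
  rw [Finset.prod_comm] at hall
  obtain ⟨t', rfl⟩ : ∃ t', t = t' + 1 := ⟨t - 1, by have := ht.pos; omega⟩
  rw [Finset.prod_range_succ'] at hall
  have hrest : ∏ i ∈ Finset.range t', ∏ m : M, φ ((b * (m : L)) ^ (i + 1)) v = 1 := by
    apply Finset.prod_eq_one
    intro i hi
    rw [Finset.mem_range] at hi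
    exact h3 (i + 1) (by omega) (by omega)
  rw [hrest, one_mul] at hall
  simp only [pow_zero, map_one, MulAut.one_apply, Finset.prod_const, Finset.card_univ] at hall
  rw [Nat.card_eq_fintype_card]
  exact hall

/-- In a group all of whose elements have prime-power order, commuting elements of coprime
orders cannot both be non-trivial. -/
theorem eq_one_of_commute_coprime {G : Type*} [Group G]
    (h : ∀ g : G, IsPrimePow (orderOf g) ∨ g = 1) (k v : G) (hkv : Commute k v)
    (hcop : Nat.Coprime (orderOf k) (orderOf v)) (hk : k ≠ 1) : v = 1 := by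
  by_contra hv
  have hord : orderOf (k * v) = orderOf k * orderOf v :=
    hkv.orderOf_mul_eq_mul_orderOf_of_coprime hcop
  rcases h (k * v) with hpp | h1
  · rw [hord] at hpp
    have hne : orderOf k * orderOf v ≠ 0 := hpp.ne_zero
    have hk0 : orderOf k ≠ 0 := fun h0 => hne (by rw [h0, zero_mul])
    have hv0 : orderOf v ≠ 0 := fun h0 => hne (by rw [h0, mul_zero])
    rcases (Nat.Coprime.isPrimePow_dvd_mul hcop hpp).mp dvd_rfl with h2 | h2
    · have : orderOf v ∣ 1 := by
        have h3 : orderOf k * orderOf v ∣ orderOf k * 1 := by rw [mul_one]; exact h2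
        exact Nat.dvd_of_mul_dvd_mul_left (Nat.pos_of_ne_zero hk0) h3
      exact hv (orderOf_eq_one_iff.mp (Nat.dvd_one.mp this))
    · have : orderOf k ∣ 1 := by
        have h3 : orderOf k * orderOf v ∣ 1 * orderOf v := by rw [one_mul]; exact h2
        exact Nat.dvd_of_mul_dvd_mul_right (Nat.pos_of_ne_zero hv0) h3
      exact hk (orderOf_eq_one_iff.mp (Nat.dvd_one.mp this))
  · have : orderOf k * orderOf v = 1 := by rw [← hord, h1, orderOf_one]
    exact hk (orderOf_eq_one_iff.mp (Nat.eq_one_of_mul_eq_one_right this))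

/-- A nontrivial finite solvable group all of whose elements have prime-power order has a
nontrivial normal abelian `p`-subgroup. -/
theorem exists_normal_abelian {G : Type*} [Group G] [Finite G] [Group.IsSolvable G] [Nontrivial G]
    (h : ∀ g : G, IsPrimePow (orderOf g) ∨ g = 1) :
    ∃ (p : ℕ) (A : Subgroup G), p.Prime ∧ A.Normal ∧ (∀ a ∈ A, ∀ b ∈ A, a * b = b * a) ∧
      A ≠ ⊥ ∧ IsPGroup p A := by
  classical
  have hsol : ∃ n, derivedSeries G n = ⊥ := (Group.isSolvable_def G).mp inferInstance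
  have hn0 : Nat.find hsol ≠ 0 := by
    intro h0
    have := Nat.find_spec hsol
    rw [h0, derivedSeries_zero] at this
    exact top_ne_bot this
  obtain ⟨n, hn⟩ := Nat.exists_eq_succ_of_ne_zero hn0
  set A := derivedSeries G n with hAdef
  have hA1 : A ≠ ⊥ := Nat.find_min hsol (by omega : n < Nat.find hsol)
  have hAn : A.Normal := derivedSeries_normal G n
  have hAc : ∀ a ∈ A, ∀ b ∈ A, a * b = b * a := by
    have h1 : derivedSeries G (n + 1) = ⊥ := by
      have := Nat.find_spec hsol
      rwa [hn] at this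
    rw [derivedSeries_succ, Subgroup.commutator_eq_bot_iff_le_centralizer] at h1
    intro a ha b hb
    have := h1 ha
    rw [Subgroup.mem_centralizer_iff] at this
    exact (this b hb).symm
  have hAnt : Nontrivial A := (Subgroup.nontrivial_iff_ne_bot A).mpr hA1
  have hcard : 1 < Nat.card A := Finite.one_lt_card
  obtain ⟨p, hp, hpd⟩ := Nat.exists_prime_and_dvd (Nat.ne_of_gt hcard)
  have : Fact p.Prime := ⟨hp⟩
  obtain ⟨c, hc⟩ := exists_prime_orderOf_dvd_card' p hpd
  refine ⟨p, A, hp, hAn, hAc, hA1, ?_⟩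
  intro a
  rcases h (a : G) with hpp | h1
  · obtain ⟨s, j, hs, hj, hsj⟩ := (isPrimePow_nat_iff _).mp hpp
    by_cases hsp : s = p
    · refine ⟨j, ?_⟩
      apply Subtype.ext
      rw [Subgroup.coe_pow, Subgroup.coe_one, ← hsp, hsj]
      exact pow_orderOf_eq_one (a : G)
    · exfalso
      have hc1 : (c : G) ≠ 1 := by
        intro h1
        have : orderOf (c : G) = 1 := by rw [h1, orderOf_one]
        rw [Subgroup.orderOf_coe, hc] at this
        exact hp.one_lt.ne' this
      have hcop : Nat.Coprime (orderOf (c : G)) (orderOf (a : G)) := by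
        rw [Subgroup.orderOf_coe, hc, ← hsj]
        exact Nat.Coprime.pow_right j ((Nat.coprime_primes hp hs).mpr (Ne.symm hsp))
      have := eq_one_of_commute_coprime h (c : G) (a : G) (hAc c c.2 a a.2) hcop hc1
      rw [this, orderOf_one] at hpp
      exact not_isPrimePow_one hpp
  · exact ⟨0, Subtype.ext (by simpa using h1)⟩

/-- In a group with all element orders prime powers: if `M` is a normal `s`-subgroup, `b` has
prime order `t ≠ s` and `m ∈ M`, then `b ∉ M` and `(b * m)^t = 1`. -/
theorem coset_pow_eq_one {H : Type*} [Group H]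
    (h : ∀ g : H, IsPrimePow (orderOf g) ∨ g = 1) (M : Subgroup H) [hMn : M.Normal] (s : ℕ)
    [hs : Fact s.Prime] (hMs : IsPGroup s M) (b : H) (t : ℕ) (ht : t.Prime) (hbt : orderOf b = t)
    (hts : t ≠ s) : b ∉ M ∧ ∀ m ∈ M, (b * m) ^ t = 1 := by
  have hcop : ∀ e : ℕ, Nat.Coprime t (s ^ e) := fun e =>
    Nat.Coprime.pow_right e ((Nat.coprime_primes ht hs.out).mpr hts)
  have hbM : b ∉ M := by
    intro hb
    obtain ⟨e, he⟩ := (IsPGroup.iff_orderOf.mp hMs) ⟨b, hb⟩
    have h1 : orderOf b = s ^ e := by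
      rw [← he]; exact Subgroup.orderOf_coe (⟨b, hb⟩ : M)
    rw [hbt] at h1
    have := hcop e
    rw [← h1] at this
    exact ht.one_lt.ne' ((Nat.coprime_self t).mp this)
  refine ⟨hbM, ?_⟩
  intro m hm
  set x := b * m with hxdef
  -- x^t ∈ M
  have hπm : (QuotientGroup.mk' M) m = 1 := (QuotientGroup.eq_one_iff m).mpr hm
  have hπx : (QuotientGroup.mk' M) x = (QuotientGroup.mk' M) b := by
    rw [hxdef, map_mul, hπm, mul_one]
  have hxtM : x ^ t ∈ M := by
    rw [← QuotientGroup.eq_one_iff]
    have : (QuotientGroup.mk' M) (x ^ t) = 1 := by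
      rw [map_pow, hπx, ← map_pow, ← hbt, pow_orderOf_eq_one, map_one]
    exact this
  rcases h x with hpp | h1
  · obtain ⟨u, j, hu, hj, huj⟩ := (isPrimePow_nat_iff _).mp hpp
    obtain ⟨e, he⟩ := (IsPGroup.iff_orderOf.mp hMs) ⟨x ^ t, hxtM⟩
    have he' : orderOf (x ^ t) = s ^ e := by
      rw [← he]; exact Subgroup.orderOf_coe (⟨x ^ t, hxtM⟩ : M)
    have hdvd : orderOf (x ^ t) ∣ u ^ j := by
      rw [huj]; exact orderOf_pow_dvd t
    by_cases hus : u = s
    · exfalso
      apply hbM
      rw [← QuotientGroup.eq_one_iff]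
      have h2 : ((QuotientGroup.mk' M) b) ^ (s ^ j) = 1 := by
        rw [← hπx, ← map_pow, ← hus, huj, pow_orderOf_eq_one, map_one]
      have d1 : orderOf ((QuotientGroup.mk' M) b) ∣ s ^ j := orderOf_dvd_of_pow_eq_one h2
      have d2 : orderOf ((QuotientGroup.mk' M) b) ∣ t := by
        rw [← hbt]; exact orderOf_map_dvd _ b
      have := Nat.dvd_gcd d2 d1
      rw [(hcop j)] at this
      exact orderOf_eq_one_iff.mp (Nat.dvd_one.mp this)
    · have hc : Nat.Coprime (s ^ e) (u ^ j) :=
        Nat.Coprime.pow _ _ ((Nat.coprime_primes hs.out hu).mpr (Ne.symm hus))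
      rw [he'] at hdvd
      have := Nat.Coprime.eq_one_of_dvd hc hdvd
      rw [← he'] at this
      exact orderOf_eq_one_iff.mp this
  · rw [h1, one_pow]

/-- The prime-power-order property passes to quotients. -/
theorem eppo_quotient {G : Type*} [Group G] (h : ∀ g : G, IsPrimePow (orderOf g) ∨ g = 1)
    (A : Subgroup G) [A.Normal] : ∀ x : G ⧸ A, IsPrimePow (orderOf x) ∨ x = 1 := by
  intro x
  induction x using QuotientGroup.induction_on with
  | H g =>
    rcases h g with hpp | h1
    · obtain ⟨u, j, hu, hj, huj⟩ := (isPrimePow_nat_iff _).mp hpp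
      have hd : orderOf (g : G ⧸ A) ∣ u ^ j := by
        rw [huj]; exact orderOf_map_dvd (QuotientGroup.mk' A) g
      obtain ⟨i, hi, hio⟩ := (Nat.dvd_prime_pow hu).mp hd
      by_cases hi0 : i = 0
      · right
        subst hi0
        rw [pow_zero] at hio
        exact orderOf_eq_one_iff.mp hio
      · left
        rw [hio]
        exact hu.isPrimePow.pow hi0
    · right
      rw [h1]; rfl

/-- The prime-power-order property passes to subgroups. -/
theorem eppo_subgroup {G : Type*} [Group G] (h : ∀ g : G, IsPrimePow (orderOf g) ∨ g = 1)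
    (H : Subgroup G) : ∀ x : H, IsPrimePow (orderOf x) ∨ x = 1 := by
  intro x
  rcases h (x : G) with hpp | h1
  · left; rwa [Subgroup.orderOf_coe] at hpp
  · right; exact Subtype.ext h1

universe u

theorem main_aux : ∀ (n : ℕ) (G : Type u) [Group G] [Finite G] [Group.IsSolvable G],
    Nat.card G = n → (∀ g : G, IsPrimePow (orderOf g) ∨ g = 1) →
    (Nat.card G).primeFactors.card ≤ 2 := by
  intro n
  induction n using Nat.strong_induction_on with
  | _ n ih =>
  intro G _ _ _ hn h
  by_cases hnt : Nontrivial G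
  swap
  · rw [not_nontrivial_iff_subsingleton] at hnt
    have : Nat.card G = 1 := Nat.card_eq_one_iff_unique.mpr ⟨hnt, ⟨1⟩⟩
    simp [this]
  obtain ⟨p, A, hp, hAn, hAc, hA1, hAp⟩ := exists_normal_abelian h
  have : Fact p.Prime := ⟨hp⟩
  have hAnt : Nontrivial A := (Subgroup.nontrivial_iff_ne_bot A).mpr hA1
  obtain ⟨k, hk, hcardA⟩ := hAp.nontrivial_iff_card.mp hAnt
  have hcardG : Nat.card G = Nat.card (G ⧸ A) * Nat.card A :=
    Subgroup.card_eq_card_quotient_mul_card_subgroup A
  obtain ⟨n', hn'def⟩ : ∃ n', n' = Nat.card (G ⧸ A) := ⟨_, rfl⟩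
  rw [← hn'def] at hcardG
  have hn'pos : 0 < n' := by rw [hn'def]; exact Nat.card_pos
  have hpk : 1 < p ^ k := Nat.one_lt_pow hk.ne' hp.one_lt
  have hlt : n' < n := by
    rw [← hn, hcardG, hcardA]
    nlinarith
  have hq := eppo_quotient h A
  have ih' := ih n' hlt (G ⧸ A) hn'def.symm hq
  rw [← hn'def] at ih'
  have hpf : (Nat.card G).primeFactors = n'.primeFactors ∪ {p} := by
    rw [hcardG, hcardA, Nat.primeFactors_mul (ne_of_gt hn'pos) (pow_ne_zero _ hp.ne_zero),
      Nat.primeFactors_prime_pow hk.ne' hp]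
  rw [hpf]
  by_cases hpn : p ∈ n'.primeFactors
  · rw [Finset.union_eq_left.mpr (Finset.singleton_subset_iff.mpr hpn)]; exact ih'
  by_cases hc1 : n'.primeFactors.card ≤ 1
  · calc (n'.primeFactors ∪ {p}).card ≤ n'.primeFactors.card + ({p} : Finset ℕ).card :=
          Finset.card_union_le _ _
      _ ≤ 2 := by rw [Finset.card_singleton]; omega
  exfalso
  have hc2 : 1 < n'.primeFactors.card := by omega
  have hpn' : ¬ p ∣ n' := fun hd => hpn (Nat.mem_primeFactors.mpr ⟨hp, hd, ne_of_gt hn'pos⟩)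
  have hcopn : Nat.Coprime n' (p ^ k) :=
    Nat.Coprime.pow_right k (Nat.Coprime.symm ((Nat.Prime.coprime_iff_not_dvd hp).mpr hpn'))
  have hcop : Nat.Coprime (Nat.card A) A.index := by
    rw [hcardA, Subgroup.index_eq_card, ← hn'def]; exact hcopn.symm
  obtain ⟨H, hH⟩ := Subgroup.exists_right_complement'_of_coprime hcop
  have hcardH : Nat.card H = n' := by
    have h1 := hH.card_mul_card
    rw [hcardG, mul_comm] at h1
    exact Nat.eq_of_mul_eq_mul_right Nat.card_pos h1
  have hHe := eppo_subgroup h H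
  have hHnt : Nontrivial H := by
    rw [← Finite.one_lt_card_iff_nontrivial, hcardH]
    by_contra hle
    have : n' = 1 := by omega
    rw [this] at hc2
    simp at hc2
  obtain ⟨s, M, hs, hMn, hMc, hM1, hMs⟩ := exists_normal_abelian hHe
  have : Fact s.Prime := ⟨hs⟩
  have hMnt : Nontrivial M := (Subgroup.nontrivial_iff_ne_bot M).mpr hM1
  obtain ⟨c, hc, hcardM⟩ := hMs.nontrivial_iff_card.mp hMnt
  have hsn' : s ∈ n'.primeFactors := by
    rw [Nat.mem_primeFactors]
    refine ⟨hs, ?_, ne_of_gt hn'pos⟩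
    rw [← hcardH]
    have : s ∣ Nat.card M := by rw [hcardM]; exact dvd_pow_self s hc.ne'
    exact this.trans (Subgroup.card_subgroup_dvd_card M)
  obtain ⟨t, htn', hts⟩ := Finset.exists_mem_ne hc2 s
  have ht : t.Prime := (Nat.mem_primeFactors.mp htn').1
  have htd : t ∣ Nat.card H := by rw [hcardH]; exact (Nat.mem_primeFactors.mp htn').2.1
  have : Fact t.Prime := ⟨ht⟩
  obtain ⟨b, hb⟩ := exists_prime_orderOf_dvd_card' t htd
  obtain ⟨hbM, hbt⟩ := coset_pow_eq_one hHe M s hMs b t ht hb hts
  letI : CommGroup A :=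
    { (inferInstance : Group A) with mul_comm := fun a b => Subtype.ext (hAc a a.2 b b.2) }
  let φ : H →* MulAut A := (MulAut.conjNormal (H := A)).comp H.subtype
  have hfpf : ∀ x : H, x ≠ 1 → ∀ v : A, φ x v = v → v = 1 := by
    intro x hx v hv
    have hv' : (x : G) * v * (x : G)⁻¹ = v := by
      have := congrArg Subtype.val hv
      simpa [φ, MulAut.conjNormal_apply] using this
    have hcomm : Commute (x : G) (v : G) := by
      show (x : G) * v = v * x
      calc (x : G) * v = (x : G) * v * (x : G)⁻¹ * x := by group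
        _ = v * x := by rw [hv']
    have hx1 : (x : G) ≠ 1 := fun h1 => hx (Subtype.ext h1)
    have hcop' : Nat.Coprime (orderOf (x : G)) (orderOf (v : G)) := by
      have d1 : orderOf (x : G) ∣ n' := by
        rw [Subgroup.orderOf_coe, ← hcardH]; exact orderOf_dvd_natCard x
      have d2 : orderOf (v : G) ∣ p ^ k := by
        rw [Subgroup.orderOf_coe, ← hcardA]; exact orderOf_dvd_natCard v
      exact Nat.Coprime.coprime_dvd_left d1 (Nat.Coprime.coprime_dvd_right d2 hcopn)
    have := eq_one_of_commute_coprime h (x : G) (v : G) hcomm hcop' hx1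
    exact Subtype.ext this
  have hbN : ∀ m ∈ M, b⁻¹ * m * b ∈ M := by
    intro m hm
    have := hMn.conj_mem m hm b⁻¹
    simpa using this
  have hkey := abstract_key φ M hM1 b hbN t ht hbt hfpf hbM
  apply hA1
  rw [eq_bot_iff]
  intro v hv
  rw [Subgroup.mem_bot]
  have h1 := hkey ⟨v, hv⟩
  have h2 : orderOf (⟨v, hv⟩ : A) ∣ s ^ c := by
    rw [← hcardM]; exact orderOf_dvd_of_pow_eq_one h1
  have h3 : orderOf (⟨v, hv⟩ : A) ∣ p ^ k := by
    rw [← hcardA]; exact orderOf_dvd_natCard _
  have hps : p ≠ s := fun hps => hpn (hps ▸ hsn')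
  have hcsp : Nat.Coprime (s ^ c) (p ^ k) :=
    Nat.Coprime.pow _ _ ((Nat.coprime_primes hs hp).mpr (Ne.symm hps))
  have h4 : orderOf (⟨v, hv⟩ : A) = 1 := Nat.eq_one_of_dvd_coprimes hcsp h2 h3
  have := orderOf_eq_one_iff.mp h4
  exact congrArg Subtype.val this

/-- Let G be a finite solvable group such that the order of every element is a prime power (1 included). Then at most two distinct primes divide the order of G. -/
theorem result {G : Type*} [Group G] [Finite G] [Group.IsSolvable G] (h : ∀ g : G, IsPrimePow (orderOf g) ∨ g = 1) :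
    (Nat.card G).primeFactors.card ≤ 2 := by
  exact main_aux (Nat.card G) G rfl h

end Cfsg.Agent.S1475
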