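import Cfsg.Statements.S1480
import Cfsg.Agent.Lib.Helper49_Transitivity3
-- import your own Cfsg.Agent.* helpers here

set_option autoImplicit false
open Cfsg

namespace Cfsg.Agent.S1480

open Subgroup Cfsg.Agent.Lib.Helper49_Transitivity Cfsg.Agent.Lib.Helper22_BGTrans
  Cfsg.Agent.Lib.Helper22_Radical
open scoped commutatorElement

/-- the local `p'`-subgroup attached to `b` -/
theorem local_theta {G : Type*} [Group G] [Finite G] (p : ℕ) [Fact p.Prime]
    (hloc : ∀ T : Subgroup G, IsPGroup p T → T ≠ ⊥ → Cfsg.IsPConstrained p ↥(Subgroup.normalizer (T : Set G)))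
    (h2 : p = 2 → ∀ S : Sylow p G, Group.IsNilpotent (S : Subgroup G) ∧ Group.nilpotencyClass (S : Subgroup G) ≤ 2)
    (E : Subgroup G) (hEp : IsPGroup p E) (hEc : ∀ a ∈ E, ∀ b ∈ E, a * b = b * a)
    (hEfull : ∀ x ∈ Subgroup.centralizer (E : Set G), IsPGroup p (Subgroup.zpowers x) → x ∈ E)
    (q : ℕ) [Fact q.Prime] (hqp : q ≠ p) (b : G) (hb : b ∈ E) (hb1 : b ≠ 1)
    (U : Subgroup G) (hUq : IsPGroup q U) (hUb : U ≤ centralizer ({b} : Set G))
    (hEU : E ≤ normalizer (U : Set G)) :
    U ≤ (pPrimeCore p ↥(normalizer ((zpowers b : Subgroup G) : Set G))).map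
      (normalizer ((zpowers b : Subgroup G) : Set G)).subtype := by
  have hp : p.Prime := Fact.out
  have hq : q.Prime := Fact.out
  set X := normalizer ((zpowers b : Subgroup G) : Set G) with hX
  have hzp : IsPGroup p (zpowers b) := hEp.to_le (zpowers_le.mpr hb)
  have hzne : zpowers b ≠ ⊥ := zpowers_ne_bot.mpr hb1
  have hXc : IsPConstrained p ↥X := hloc (zpowers b) hzp hzne
  have hcentX : ∀ V : Subgroup G, (∀ v ∈ V, v * b = b * v) → V ≤ X := by
    intro V hV
    have hbC : b ∈ centralizer (V : Set G) := by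
      rw [mem_centralizer_iff]; intro v hv; exact hV v hv
    have h1 : zpowers b ≤ centralizer (V : Set G) := zpowers_le.mpr hbC
    exact (Subgroup.le_centralizer_iff.mp h1).trans (centralizer_le_normalizer _)
  have hEX : E ≤ X := hcentX E (fun e he => hEc e he b hb)
  have hUX : U ≤ X := hcentX U (fun u hu =>
    ((mem_centralizer_iff.mp (hUb hu)) b (Set.mem_singleton b)).symm)
  have hpq : p ≠ q := fun h => hqp h.symm
  have hUcop : (Nat.card U).Coprime p :=
    ((Nat.Prime.coprime_iff_not_dvd hp).mpr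
      (Cfsg.Agent.Lib.Helper22_BGTransRank.not_dvd_card_of_isPGroup hp hq hpq hUq)).symm
  have key : U.subgroupOf X ≤ pPrimeCore p ↥X := by
    apply le_pPrimeCore_of_full p hXc (E.subgroupOf X) hEp.comap_subtype
    · intro a ha c hc
      apply Subtype.ext
      simp only [Subgroup.coe_mul]
      exact hEc _ (mem_subgroupOf.mp ha) _ (mem_subgroupOf.mp hc)
    · intro x hx hxp
      rw [mem_subgroupOf]
      apply hEfull
      · rw [mem_centralizer_iff]
        intro e he
        have := (mem_centralizer_iff.mp hx) ⟨e, hEX he⟩ (mem_subgroupOf.mpr he)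
        have h' := congrArg Subtype.val this
        simpa using h'
      · obtain ⟨k, hk⟩ := hxp
        have hk' : (x : G) ^ (p ^ k) = 1 := by
          have := congrArg Subtype.val hk
          simpa using this
        obtain ⟨j, -, hj⟩ := (Nat.dvd_prime_pow hp).mp (orderOf_dvd_of_pow_eq_one hk')
        apply IsPGroup.of_card (n := j)
        rw [Nat.card_zpowers, hj]
    · intro hp2 S x hx y hy z hz
      have hSp : IsPGroup p ((S : Subgroup X).map X.subtype) := S.isPGroup'.map _
      obtain ⟨T, hT⟩ := hSp.exists_le_sylow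
      obtain ⟨hnil, hcl⟩ := h2 hp2 T
      have := triple_comm_eq_one (T : Subgroup G) hcl (x : G) (hT ⟨x, hx, rfl⟩) (y : G)
        (hT ⟨y, hy, rfl⟩) (z : G) (hT ⟨z, hz, rfl⟩)
      apply Subtype.ext
      simpa [commutatorElement_def] using this
    · rw [Cfsg.Agent.Lib.Helper24_CoprimeAction.card_subgroupOf_of_le hUX]
      exact hUcop
    · intro a ha
      rw [mem_normalizer_iff]
      intro y
      rw [mem_subgroupOf, mem_subgroupOf]
      have := mem_normalizer_iff.mp (hEU (mem_subgroupOf.mp ha)) (y : G)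
      simpa using this
  intro u hu
  exact ⟨⟨u, hUX hu⟩, key (mem_subgroupOf.mpr hu), rfl⟩

/-- Let G be a finite group and p a prime such that the normalizer of every nontrivial p-subgroup of G is p-constrained; if p = 2 assume also that the Sylow 2-subgroups of G have nilpotency class at most 2. Let E be an abelian p-subgroup containing an elementary abelian subgroup of order p ^ 3 and containing every element of p-power order of C_G(E). Then for every prime q ≠ p, any two maximal E-invariant q-subgroups of G are conjugate by an element of O_{p'}(C_G(E)). -/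
theorem result {G : Type*} [Group G] [Finite G] (p : ℕ) [Fact p.Prime]
    (hloc : ∀ T : Subgroup G, IsPGroup p T → T ≠ ⊥ → Cfsg.IsPConstrained p ↥(Subgroup.normalizer (T : Set G)))
    (h2 : p = 2 → ∀ S : Sylow p G, Group.IsNilpotent (S : Subgroup G) ∧ Group.nilpotencyClass (S : Subgroup G) ≤ 2)
    (E : Subgroup G) (hEp : IsPGroup p E) (hEc : IsMulCommutative E) (hE3 : ¬ Cfsg.PRankLE p 2 E)
    (hEfull : ∀ x ∈ Subgroup.centralizer (E : Set G), IsPGroup p (Subgroup.zpowers x) → x ∈ E)
    (q : ℕ) [Fact q.Prime] (hqp : q ≠ p) :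
    ∀ Q₁ ∈ Cfsg.maxInvSubgroups ⊤ E {q}, ∀ Q₂ ∈ Cfsg.maxInvSubgroups ⊤ E {q},
        ∃ k ∈ Cfsg.piCoreOf (Cfsg.primesNotDvd p) (Subgroup.centralizer (E : Set G)), Q₂ = Q₁.map (MulAut.conj k).toMonoidHom := by
  intro Q₁ hQ₁ Q₂ hQ₂
  have hp : p.Prime := Fact.out
  have hq : q.Prime := Fact.out
  have hEc' : ∀ a ∈ E, ∀ b ∈ E, a * b = b * a := by
    intro a ha b hb
    have h1 := hEc.is_comm.comm (⟨a, ha⟩ : E) ⟨b, hb⟩
    simpa using congrArg Subtype.val h1
  obtain ⟨E₀, hE₀E, hE₀p, hE₀card⟩ : ∃ E₀ : Subgroup G, E₀ ≤ E ∧ (∀ a ∈ E₀, a ^ p = 1) ∧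
      p ^ 2 < Nat.card E₀ := by
    unfold PRankLE at hE3
    push Not at hE3
    obtain ⟨B, hBc, hBp, hlt⟩ := hE3
    refine ⟨B.map E.subtype, Subgroup.map_subtype_le _, ?_, ?_⟩
    · rintro _ ⟨x, hx, rfl⟩
      have h1 := hBp x hx
      simpa using congrArg Subtype.val h1
    · rw [Subgroup.card_map_of_injective E.subtype_injective]; exact hlt
  set K := piCoreOf (primesNotDvd p) (centralizer (E : Set G)) with hK
  have hKC : K ≤ centralizer (E : Set G) := piCoreOf_le _ _
  have hKmem := mem_piCoreOf_of_coprime p E hEp hEc' hEfull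
  set θ : G → Subgroup G := fun b =>
    (pPrimeCore p ↥(normalizer ((zpowers b : Subgroup G) : Set G))).map
      (normalizer ((zpowers b : Subgroup G) : Set G)).subtype with hθdef
  have hθcop : ∀ b ∈ E, b ≠ 1 → (Nat.card (θ b)).Coprime p := by
    intro b _ _
    rw [hθdef]
    simp only
    rw [Subgroup.card_map_of_injective (Subgroup.subtype_injective _)]
    exact Cfsg.Agent.Lib.Helper22_Cores.pPrimeCore_coprime p
  have hθE : ∀ b ∈ E, b ≠ 1 → E ≤ normalizer (θ b : Set G) := by
    intro b hb _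
    have hEX : E ≤ normalizer ((zpowers b : Subgroup G) : Set G) := by
      have hbC : b ∈ centralizer (E : Set G) := by
        rw [mem_centralizer_iff]; intro e he; exact hEc' e he b hb
      have h1 : zpowers b ≤ centralizer (E : Set G) := zpowers_le.mpr hbC
      exact (Subgroup.le_centralizer_iff.mp h1).trans (centralizer_le_normalizer _)
    refine hEX.trans ?_
    have h1 := Subgroup.le_normalizer_map
      (H := pPrimeCore p ↥(normalizer ((zpowers b : Subgroup G) : Set G)))
      (normalizer ((zpowers b : Subgroup G) : Set G)).subtype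
    have hnt : normalizer ((pPrimeCore p ↥(normalizer ((zpowers b : Subgroup G) : Set G)) :
        Subgroup ↥(normalizer ((zpowers b : Subgroup G) : Set G))) :
        Set ↥(normalizer ((zpowers b : Subgroup G) : Set G))) = ⊤ := Subgroup.normalizer_eq_top _
    rw [hnt, ← MonoidHom.range_eq_map, Subgroup.range_subtype] at h1
    exact h1
  have hθ : ∀ b ∈ E, b ≠ 1 → ∀ U : Subgroup G, IsPGroup q U → U ≤ centralizer ({b} : Set G) →
      E ≤ normalizer (U : Set G) → U ≤ θ b := by
    intro b hb hb1 U hUq hUb hEU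
    exact local_theta p hloc h2 E hEp hEc' hEfull q hqp b hb hb1 U hUq hUb hEU
  exact kconj_of_local E K hKC hq
    (fun Q hQ Q' hQ' h1 h2' => local_step p E hEp hEc' E₀ hE₀E hE₀p hE₀card K hKmem hqp θ hθcop hθE hθ
      Q Q' hQ hQ' h1 h2') _ Q₁ hQ₁ Q₂ hQ₂ rfl

end Cfsg.Agent.S1480
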