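import Cfsg.Statements.S1481
import Cfsg.Agent.Lib.Helper22_FitLocal3
import Cfsg.Agent.Lib.Helper32_Cores
import Cfsg.Agent.S0025

set_option autoImplicit false
open Cfsg

namespace Cfsg.Agent.S1481

open Subgroup Cfsg.Agent.Lib.Helper22_FitLocal Cfsg.Agent.Lib.Helper22_BGTrans
  Cfsg.Agent.Lib.Helper24_CoprimeAction

/-- BG Lemma: for a maximal local subgroup H whose Fitting subgroup F involves at least two primes, M ≤ F with
C_F(M) ≤ M, and a solvable subgroup R normalized by M and by C_H(F): for q ∉ π(F) the maximal M-invariant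
q-subgroup of R is unique, lies in O_{π(F)'}(R) and is a Sylow q-subgroup of it. -/
theorem result {G : Type*} [Group G] [Finite G] (H : Subgroup G) (hH : Cfsg.IsLocalSubgroup H) (hHmax : ∀ L : Subgroup G, Cfsg.IsLocalSubgroup L → H ≤ L → L = H)
    (hF2 : 2 ≤ (Nat.card (Cfsg.fittingOf H)).primeFactors.card)
    (M : Subgroup G) (hM : M ≤ Cfsg.fittingOf H) (hCM : Cfsg.fittingOf H ⊓ Subgroup.centralizer (M : Set G) ≤ M)
    (R : Subgroup G) (hR : Group.IsSolvable R) (hMR : M ≤ Subgroup.normalizer (R : Set G))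
    (hXR : H ⊓ Subgroup.centralizer (Cfsg.fittingOf H : Set G) ≤ Subgroup.normalizer (R : Set G))
    (q : ℕ) [Fact q.Prime] (hq : ¬ q ∣ Nat.card (Cfsg.fittingOf H)) :
    ∃! Q : Subgroup G, Q ∈ Cfsg.maxInvSubgroups R M {q} ∧
      (∀ Q' : Subgroup G, Q' ∈ Cfsg.maxInvSubgroups R M {q} →
        Q' ≤ Cfsg.piCoreOf (Cfsg.primesNotDvd (Nat.card (Cfsg.fittingOf H))) R ∧
        ¬ q ∣ Q'.relIndex (Cfsg.piCoreOf (Cfsg.primesNotDvd (Nat.card (Cfsg.fittingOf H))) R)) := by
  have hqP : q.Prime := Fact.out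
  set n := Nat.card (fittingOf H) with hn
  set π' := primesNotDvd n with hπ'
  set W := piCoreOf π' R with hW
  have hWR : W ≤ R := piCoreOf_le π' R
  have hMH : M ≤ H := hM.trans (fittingOf_le H)
  have hMW : M ≤ normalizer (W : Set G) := by
    have : (piCore π' ↥R).Characteristic := Cfsg.Agent.Lib.Helper32_Cores.piCore_characteristic π'
    exact hMR.trans (normalizer_le_normalizer_map_of_characteristic R (piCore π' ↥R))
  have hnW : n.Coprime (Nat.card W) := coprime_of_primesNotDvd (piCoreOf_primes π' R)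
  have hcop : (Nat.card M).Coprime (Nat.card W) :=
    Nat.Coprime.coprime_dvd_left (Subgroup.card_dvd_of_le hM) hnW
  have hsolv : Group.IsSolvable M ∨ Group.IsSolvable W := Or.inr (isSolvable_of_le hWR hR)
  -- `C_W(M) = 1`
  have hCW : W ⊓ centralizer (M : Set G) = ⊥ := by
    obtain ⟨p, hp⟩ : ∃ p, p ∈ n.primeFactors := by
      apply Finset.card_pos.mp
      omega
    have hpP : p.Prime := Nat.prime_of_mem_primeFactors hp
    have : Fact p.Prime := ⟨hpP⟩
    have hZ1 : zpart p H ≠ ⊥ := zpart_ne_bot H (Nat.dvd_of_mem_primeFactors hp)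
    have hCZ : centralizer (zpart p H : Set G) ≤ H :=
      centralizer_le_of_maxLocal hHmax hpP (zpart_isPGroup p H) hZ1 (le_normalizer_zpart p H)
    have hZM : zpart p H ≤ M := zpart_le_of_le hM hCM p
    apply eq_bot_of_invariant hM hCM hR hXR
      (inf_le_right.trans ((Subgroup.centralizer_le (show (zpart p H : Set G) ⊆ M from hZM)).trans hCZ))
      (inf_le_left.trans hWR)
    · exact le_normalizer_inf' hMW (le_normalizer_centralizer_self M)
    · exact (Nat.Coprime.coprime_dvd_right (Subgroup.card_dvd_of_le inf_le_left) hnW).symm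
  -- structure of the maximal members
  have hstruct : ∀ Q' : Subgroup G, Q' ∈ maxInvSubgroups R M {q} →
      ∃ P : Sylow q W, Q' = sylowImage P ∧ M ≤ normalizer ((sylowImage P : Subgroup G) : Set G) := by
    intro Q' hQ'
    obtain ⟨⟨hQR, hQprimes, hMQ⟩, hQmax⟩ := hQ'
    have hQq : IsPGroup q Q' := isPGroup_of_primes hqP hQprimes
    have hQW : Q' ≤ W := le_piCoreOf_of_invariant hHmax hF2 hM hCM hR hMR hXR hq hQq hQR hMQ
    obtain ⟨P, hQP, hMP⟩ := Cfsg.Agent.S0025.result M W hMW hcop hsolv q Q' hQW hQq hMQ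
    refine ⟨P, ?_, hMP⟩
    have hPinv : sylowImage P ∈ invSubgroups R M {q} := by
      refine ⟨(Subgroup.map_subtype_le _).trans hWR, ?_, hMP⟩
      exact primes_of_isPGroup hqP (P.isPGroup'.map _)
    exact (hQmax _ hPinv hQP).symm
  -- existence
  have hex : ∃ Q, Q ∈ maxInvSubgroups R M {q} := by
    have hfin : (invSubgroups R M ({q} : Set ℕ)).Finite := Set.toFinite _
    have hmem : (⊥ : Subgroup G) ∈ invSubgroups R M ({q} : Set ℕ) := by
      refine ⟨bot_le, ?_, ?_⟩
      · intro p hp hpd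
        rw [Subgroup.card_bot] at hpd
        exact absurd (Nat.dvd_one.mp hpd) hp.one_lt.ne'
      · intro m _
        rw [mem_normalizer_iff]
        intro x
        simp
    obtain ⟨b, _, hb⟩ := hfin.exists_le_maximal hmem
    exact ⟨b, hb.1, fun R' hR' hle => le_antisymm (hb.2 hR' hle) hle⟩
  obtain ⟨Q, hQ⟩ := hex
  refine ⟨Q, ⟨hQ, ?_⟩, ?_⟩
  · intro Q' hQ'
    obtain ⟨P, rfl, _⟩ := hstruct Q' hQ'
    refine ⟨Subgroup.map_subtype_le _, ?_⟩
    have h1 : (sylowImage P).subgroupOf W = (P : Subgroup W) := by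
      unfold Subgroup.subgroupOf
      exact Subgroup.comap_map_eq_self_of_injective W.subtype_injective _
    unfold Subgroup.relIndex
    rw [h1]
    exact P.not_dvd_index
  · rintro Q₂ ⟨hQ₂, -⟩
    obtain ⟨P, rfl, hMP⟩ := hstruct Q hQ
    obtain ⟨P₂, rfl, hMP₂⟩ := hstruct Q₂ hQ₂
    obtain ⟨c, hcM, hc⟩ := invariant_sylow_conj M W hMW hcop hsolv q P P₂ hMP hMP₂
    have hc1 : (c : G) ∈ W ⊓ centralizer (M : Set G) := Subgroup.mem_inf.mpr ⟨c.2, hcM⟩
    rw [hCW, mem_bot] at hc1
    have hc1' : c = 1 := Subtype.ext hc1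
    rw [hc1', one_smul] at hc
    rw [hc]

end Cfsg.Agent.S1481
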