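import Cfsg.Statements.S1483
import Mathlib
import Cfsg.Agent.Lib.Helper31_CN
import Cfsg.Agent.S1477

set_option autoImplicit false
open Cfsg

namespace Cfsg.Agent.S1483

/-- Let G be a minimal simple group of odd order in which every non-identity element has nilpotent centralizer. Then any two nilpotent subgroups each contained in no larger nilpotent subgroup are either conjugate or of coprime orders; and for primes p, q, r: if some elements x, y ≠ 1 of p-power and q-power order commute, and some elements y', z ≠ 1 of q-power and r-power order commute, then some elements of p-power and r-power order, both ≠ 1, commute. -/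
theorem result {G : Type*} [Group G] [Finite G] (hG : Cfsg.IsMinSimpleOddOrder G) (hCN : Cfsg.IsCNGroup G) :
    (∀ H₁ H₂ : Subgroup G, (Group.IsNilpotent ↥H₁ ∧ ∀ L : Subgroup G, Group.IsNilpotent L → H₁ ≤ L → L = H₁) → (Group.IsNilpotent ↥H₂ ∧ ∀ L : Subgroup G, Group.IsNilpotent L → H₂ ≤ L → L = H₂) → (∃ g : G, H₂ = H₁.map (MulAut.conj g).toMonoidHom) ∨ (Nat.card H₁).Coprime (Nat.card H₂)) ∧
      ∀ (p q r : ℕ), p.Prime → q.Prime → r.Prime → ∀ (x y y' z : G), x ≠ 1 → y ≠ 1 → y' ≠ 1 → z ≠ 1 →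
        IsPGroup p (Subgroup.zpowers x) → IsPGroup q (Subgroup.zpowers y) → IsPGroup q (Subgroup.zpowers y') → IsPGroup r (Subgroup.zpowers z) →
        x * y = y * x → y' * z = z * y' →
        ∃ x' z' : G, x' ≠ 1 ∧ z' ≠ 1 ∧ IsPGroup p (Subgroup.zpowers x') ∧ IsPGroup r (Subgroup.zpowers z') ∧ x' * z' = z' * x' := by
  classical
  refine ⟨?_, ?_⟩
  · rintro H₁ H₂ ⟨h₁, hmax₁⟩ ⟨h₂, hmax₂⟩
    by_cases hcop : (Nat.card H₁).Coprime (Nat.card H₂)
    · right; exact hcop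
    · left
      obtain ⟨p, hp, hp₁, hp₂⟩ := Nat.Prime.not_coprime_iff_dvd.mp hcop
      have : Fact p.Prime := ⟨hp⟩
      exact Cfsg.Agent.Lib.Helper31_CN.conj_of_dvd hCN H₁ H₂ h₁ hmax₁ h₂ hmax₂ p hp₁ hp₂
  · intro p q r hp hq hr x y y' z hx hy hy' hz hxp hyq hy'q hzr hxy hy'z
    obtain ⟨H₁, hC₁, hn₁, hm₁⟩ := Cfsg.Agent.Lib.Helper31_CN.exists_max_nilpotent
      (Subgroup.centralizer ({y} : Set G)) (hCN y hy)
    obtain ⟨H₂, hC₂, hn₂, hm₂⟩ := Cfsg.Agent.Lib.Helper31_CN.exists_max_nilpotent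
      (Subgroup.centralizer ({y'} : Set G)) (hCN y' hy')
    have hyH₁ : y ∈ H₁ := hC₁ (Subgroup.mem_centralizer_singleton_iff.mpr rfl)
    have hxH₁ : x ∈ H₁ := hC₁ (Subgroup.mem_centralizer_singleton_iff.mpr hxy)
    have hy'H₂ : y' ∈ H₂ := hC₂ (Subgroup.mem_centralizer_singleton_iff.mpr rfl)
    have hzH₂ : z ∈ H₂ := hC₂ (Subgroup.mem_centralizer_singleton_iff.mpr hy'z.symm)
    have hq₁ : q ∣ Nat.card H₁ := Cfsg.Agent.Lib.Helper31_CN.dvd_card_of_mem hq hy hyq hyH₁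
    have hq₂ : q ∣ Nat.card H₂ := Cfsg.Agent.Lib.Helper31_CN.dvd_card_of_mem hq hy' hy'q hy'H₂
    have : Fact q.Prime := ⟨hq⟩
    obtain ⟨g, hg⟩ := Cfsg.Agent.Lib.Helper31_CN.conj_of_dvd hCN H₁ H₂ hn₁ hm₁ hn₂ hm₂ q hq₁ hq₂
    by_cases hpr : p = r
    · subst hpr
      exact ⟨z, z, hz, hz, hzr, hzr, rfl⟩
    · obtain ⟨kx, hkx⟩ := hxp ⟨x, Subgroup.mem_zpowers x⟩
      have hkx' : x ^ (p ^ kx) = 1 := congrArg Subtype.val hkx
      obtain ⟨kz, hkz⟩ := hzr ⟨z, Subgroup.mem_zpowers z⟩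
      have hkz' : z ^ (r ^ kz) = 1 := congrArg Subtype.val hkz
      have hgx : (g * x * g⁻¹) ^ (p ^ kx) = 1 := by
        rw [conj_pow, hkx']; group
      refine ⟨g * x * g⁻¹, z, ?_, hz, ?_, hzr, ?_⟩
      · intro h
        apply hx
        have : x = g⁻¹ * (g * x * g⁻¹) * g := by group
        rw [this, h]; group
      · have hmap : Subgroup.zpowers (g * x * g⁻¹) =
            (Subgroup.zpowers x).map (MulAut.conj g).toMonoidHom := by
          rw [MonoidHom.map_zpowers]; rfl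
        rw [hmap]
        exact hxp.map _
      · have hgxH₂ : g * x * g⁻¹ ∈ H₂ := by
          rw [hg]
          exact ⟨x, hxH₁, rfl⟩
        exact Cfsg.Agent.S1477.commute_pq H₂ hn₂ p r hp hr (fun h => hpr h.symm) _ z hgxH₂ hzH₂
          kx kz hgx hkz'

end Cfsg.Agent.S1483
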