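import Cfsg.Statements.S1485
-- import your own Cfsg.Agent.* helpers here

set_option autoImplicit false
open Cfsg

namespace Cfsg.Agent.S1485

/-- Let H be a normal subgroup of the finite group G and θ an irreducible character of H. On H, the function induced from θ equals r times the sum of the distinct G-conjugates of θ, where r is the number of elements of G fixing θ under conjugation divided by the order of H (the index of H in the inertia group). -/
theorem result {G : Type*} [Group G] [Fintype G] (H : Subgroup G) [hN : H.Normal] (θ : H → ℂ) (hθ : Cfsg.IsIrrCharacter H θ) : (fun h : H => Cfsg.indFun H θ h) = ((Nat.card {g : G // ∀ h : H, θ ⟨g * h * g⁻¹, hN.conj_mem h h.2 g⟩ = θ h} : ℂ) / (Nat.card H : ℂ)) • ∑ᶠ ψ ∈ {ψ : H → ℂ | ∃ g : G, ψ = fun h : H => θ ⟨g * h * g⁻¹, hN.conj_mem h h.2 g⟩}, ψ := by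
  classical
  -- the conjugation action of `G` on functions on `H`
  set c : G → (H → ℂ) := fun g h' => θ ⟨g * h' * g⁻¹, hN.conj_mem h' h'.2 g⟩ with hc
  have hcmul : ∀ a b : G, ∀ h' : H, c (a * b) h' = c a ⟨b * h' * b⁻¹, hN.conj_mem h' h'.2 b⟩ := by
    intro a b h'
    simp only [hc]
    congr 1
    apply Subtype.ext
    simp only [mul_inv_rev]
    group
  have hset : {ψ : H → ℂ | ∃ g : G, ψ = fun h : H => θ ⟨g * h * g⁻¹, hN.conj_mem h h.2 g⟩} =
      ((Finset.univ.image c : Finset (H → ℂ)) : Set (H → ℂ)) := by
    ext ψ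
    simp only [Set.mem_ofPred_eq, Finset.coe_image, Finset.coe_univ, Set.image_univ, Set.mem_range]
    constructor
    · rintro ⟨g, rfl⟩; exact ⟨g, rfl⟩
    · rintro ⟨g, rfl⟩; exact ⟨g, rfl⟩
  rw [hset, finsum_mem_coe_finset]
  funext h
  -- the stabilizer cardinality
  have hstab : Nat.card {g : G // ∀ h : H, θ ⟨g * h * g⁻¹, hN.conj_mem h h.2 g⟩ = θ h} =
      (Finset.univ.filter (fun g : G => c g = θ)).card := by
    rw [Nat.card_eq_fintype_card, Fintype.card_subtype]
    congr 1
    ext g
    simp only [Finset.mem_filter, Finset.mem_univ, true_and]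
    constructor
    · intro hg; funext h'; exact hg h'
    · intro hg h'; exact congrFun hg h'
  -- each fibre of `c` has the cardinality of the stabilizer
  have hfib : ∀ b ∈ (Finset.univ.image c : Finset (H → ℂ)),
      (Finset.univ.filter (fun a : G => c a = b)).card =
        (Finset.univ.filter (fun g : G => c g = θ)).card := by
    intro b hb
    obtain ⟨g₀, _, rfl⟩ := Finset.mem_image.1 hb
    apply Finset.card_bij (fun a _ => a * g₀⁻¹)
    · intro a ha
      simp only [Finset.mem_filter, Finset.mem_univ, true_and] at ha ⊢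
      funext h'
      rw [hcmul]
      have := congrFun ha ⟨g₀⁻¹ * h' * g₀⁻¹⁻¹, hN.conj_mem h' h'.2 g₀⁻¹⟩
      rw [this]
      simp only [hc]
      congr 1
      apply Subtype.ext
      simp only [inv_inv]
      group
    · intro a _ a' _ haa
      exact mul_right_cancel haa
    · intro g hg
      simp only [Finset.mem_filter, Finset.mem_univ, true_and] at hg
      refine ⟨g * g₀, ?_, by group⟩
      simp only [Finset.mem_filter, Finset.mem_univ, true_and]
      funext h'
      rw [hcmul, hg]
  -- compute the induced function on `H`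
  have hsum : ∑ x : G, Cfsg.extendByZero H θ (x⁻¹ * (h : G) * x) = ∑ x : G, c x h := by
    rw [← Equiv.sum_comp (Equiv.inv G) (fun x => c x h)]
    apply Finset.sum_congr rfl
    intro x _
    simp only [Equiv.inv_apply, hc]
    have hmem : x⁻¹ * (h : G) * x ∈ H := by
      have := hN.conj_mem h h.2 x⁻¹
      simpa using this
    have : x⁻¹ * (h : G) * x = ((⟨x⁻¹ * (h : G) * x, hmem⟩ : H) : G) := rfl
    unfold Cfsg.extendByZero
    rw [this, Function.Injective.extend_apply Subtype.val_injective]
    congr 1
    apply Subtype.ext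
    simp
  unfold Cfsg.indFun
  rw [hsum, Finset.sum_comp (fun ψ : H → ℂ => ψ h) c]
  rw [Pi.smul_apply, Finset.sum_apply, hstab]
  rw [Finset.sum_congr rfl (fun b hb => by rw [hfib b hb])]
  rw [← Finset.smul_sum, smul_eq_mul, nsmul_eq_mul]
  ring

end Cfsg.Agent.S1485
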