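import Cfsg.Statements.S1487
import Cfsg.Agent.Lib.Helper3_CharEigen
-- import your own Cfsg.Agent.* helpers here

set_option autoImplicit false
open Cfsg

namespace Cfsg.Agent.S1487

theorem extendByZero_coe {G : Type*} [Group G] (H : Subgroup G) (θ : H → ℂ) (h : H) :
    extendByZero H θ (h : G) = θ h := by
  unfold extendByZero
  exact Subtype.val_injective.extend_apply θ 0 h

theorem eq_of_re_eq_of_norm_le (z : ℂ) (n : ℝ) (h1 : z.re = n) (h2 : ‖z‖ ≤ n) : z = (n : ℂ) := by
  have hn : 0 ≤ n := le_trans (norm_nonneg z) h2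
  have h3 : ‖z‖ ^ 2 ≤ n ^ 2 := pow_le_pow_left₀ (norm_nonneg z) h2 2
  rw [Complex.sq_norm, Complex.normSq_apply] at h3
  have him : z.im = 0 := by
    have : z.im * z.im ≤ 0 := by rw [h1] at h3; nlinarith
    nlinarith [mul_self_nonneg z.im]
  apply Complex.ext
  · simpa using h1
  · simpa using him

/-- Let A ≤ H be normal subgroups of the finite group G and θ an irreducible character of H. Then θ takes the value θ 1 on all of A if and only if the function induced from θ to G takes its value at 1 on all of A. -/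
theorem result {G : Type*} [Group G] [Fintype G] (A H : Subgroup G) [A.Normal] [H.Normal] (hAH : A ≤ H) (θ : H → ℂ) (hθ : Cfsg.IsIrrCharacter H θ) : (∀ a : H, (a : G) ∈ A → θ a = θ 1) ↔ (∀ a : G, a ∈ A → Cfsg.indFun H θ a = Cfsg.indFun H θ 1) := by
  classical
  obtain ⟨n, ρ, hirr, rfl⟩ := hθ
  have hA : ∀ a : G, a ∈ A → ∀ x : G, x⁻¹ * a * x ∈ A := fun a ha x =>
    Subgroup.Normal.conj_mem' inferInstance a ha x
  have hone : ρ.character 1 = (n : ℂ) := by
    rw [Representation.char_one]; simp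
  have hnorm : ∀ h : H, ‖ρ.character h‖ ≤ (n : ℝ) := fun h => by
    have := Cfsg.Agent.Lib.Helper3_CharEigen.norm_char_le ρ h
    simpa using this
  -- formula for the induced function on A
  have key : ∀ a : G, ∀ ha : a ∈ A, indFun H ρ.character a =
      (Nat.card H : ℂ)⁻¹ * ∑ x : G, ρ.character ⟨x⁻¹ * a * x, hAH (hA a ha x)⟩ := by
    intro a ha
    unfold indFun
    congr 1
    refine Finset.sum_congr rfl (fun x _ => ?_)
    exact extendByZero_coe H ρ.character ⟨x⁻¹ * a * x, hAH (hA a ha x)⟩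
  have key1 : indFun H ρ.character 1 = (Nat.card H : ℂ)⁻¹ * ∑ _x : G, (n : ℂ) := by
    rw [key 1 A.one_mem]
    congr 1
    refine Finset.sum_congr rfl (fun x _ => ?_)
    rw [← hone]
    congr 1
    apply Subtype.ext
    simp
  constructor
  · intro h a ha
    rw [key a ha, key1]
    congr 1
    refine Finset.sum_congr rfl (fun x _ => ?_)
    rw [h _ (hA a ha x), hone]
  · intro h a ha
    have h2 := h a ha
    rw [key a ha, key1] at h2
    have hH : (Nat.card H : ℂ)⁻¹ ≠ 0 := by
      apply inv_ne_zero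
      exact_mod_cast Nat.card_pos.ne'
    have h3 := mul_left_cancel₀ hH h2
    have h4 : ∑ x : G, (ρ.character ⟨x⁻¹ * (a : G) * x, hAH (hA a ha x)⟩).re = ∑ _x : G, (n : ℝ) := by
      have := congrArg Complex.re h3
      simpa using this
    have hle : ∀ x ∈ (Finset.univ : Finset G),
        (ρ.character ⟨x⁻¹ * (a : G) * x, hAH (hA a ha x)⟩).re ≤ (n : ℝ) := fun x _ =>
      le_trans (Complex.re_le_norm _) (hnorm _)
    have h5 := (Finset.sum_eq_sum_iff_of_le hle).mp h4 1 (Finset.mem_univ 1)
    have h6 : (⟨(1 : G)⁻¹ * (a : G) * 1, hAH (hA a ha 1)⟩ : H) = a := by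
      apply Subtype.ext; simp
    rw [h6] at h5
    rw [hone]
    exact_mod_cast eq_of_re_eq_of_norm_le _ (n : ℝ) h5 (hnorm a)

end Cfsg.Agent.S1487
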