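import Cfsg.Statements.S1488

set_option autoImplicit false
open Cfsg

namespace Cfsg.Agent.S1488

theorem sum_quot {G : Type*} [Group G] [Fintype G] (A : Subgroup G) [A.Normal] [Fintype (G ⧸ A)]
    (f : G ⧸ A → ℂ) :
    ∑ x : G, f (QuotientGroup.mk' A x) = (Nat.card A : ℂ) * ∑ y : G ⧸ A, f y := by
  classical
  have : Fintype A := Fintype.ofFinite A
  have h := Equiv.sum_comp (Subgroup.groupEquivQuotientProdSubgroup (s := A)) (fun p : (G ⧸ A) × A => f p.1)
  have h2 : ∀ x : G, (Subgroup.groupEquivQuotientProdSubgroup (s := A) x).1 = QuotientGroup.mk' A x :=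
    fun x => rfl
  simp only [h2] at h
  rw [h, Fintype.sum_prod_type]
  simp only [Finset.sum_const, Finset.card_univ, nsmul_eq_mul, Nat.card_eq_fintype_card]
  rw [Finset.mul_sum]

theorem ext_eq {G : Type*} [Group G] (A H : Subgroup G) [A.Normal] (hAH : A ≤ H)
    (θ : H → ℂ) (θ₁ : ↥(H.map (QuotientGroup.mk' A)) → ℂ)
    (hθ : ∀ x : H, θ₁ ⟨QuotientGroup.mk' A x, Subgroup.mem_map_of_mem _ x.2⟩ = θ x) (z : G) :
    Cfsg.extendByZero H θ z = Cfsg.extendByZero (H.map (QuotientGroup.mk' A)) θ₁ (QuotientGroup.mk' A z) := by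
  classical
  unfold Cfsg.extendByZero
  by_cases hz : z ∈ H
  · have e1 : Function.extend (Subtype.val : H → G) θ 0 z = θ ⟨z, hz⟩ :=
      Subtype.val_injective.extend_apply θ 0 ⟨z, hz⟩
    have e2 : Function.extend (Subtype.val : ↥(H.map (QuotientGroup.mk' A)) → G ⧸ A) θ₁ 0
        (QuotientGroup.mk' A z) = θ₁ ⟨QuotientGroup.mk' A z, Subgroup.mem_map_of_mem _ hz⟩ :=
      Subtype.val_injective.extend_apply θ₁ 0 ⟨QuotientGroup.mk' A z, Subgroup.mem_map_of_mem _ hz⟩
    rw [e1, e2]
    exact (hθ ⟨z, hz⟩).symm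
  · have hz' : QuotientGroup.mk' A z ∉ H.map (QuotientGroup.mk' A) := by
      rintro ⟨h, hh, hhz⟩
      apply hz
      have : h⁻¹ * z ∈ A := by
        rw [← QuotientGroup.eq]; exact hhz
      have := H.mul_mem hh (hAH this)
      simpa using this
    rw [Function.extend_apply' _ _ _ (by rintro ⟨y, rfl⟩; exact hz y.2),
      Function.extend_apply' _ _ _ (by rintro ⟨y, hy⟩; exact hz' (hy ▸ y.2))]
    rfl


/-- Let A be a normal subgroup of the finite group G contained in the subgroup H, let θ be a function on H and θ₁ a function on the image of H in G ⧸ A whose composite with the projection is θ. Then the function induced from θ₁ to G ⧸ A, composed with the projection G → G ⧸ A, equals the function induced from θ to G. -/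
theorem result {G : Type*} [Group G] [Fintype G] (A H : Subgroup G) [A.Normal] (hAH : A ≤ H) [Fintype (G ⧸ A)] [Fintype ↥(H.map (QuotientGroup.mk' A))] (θ : H → ℂ) (θ₁ : ↥(H.map (QuotientGroup.mk' A)) → ℂ) (hθ : ∀ x : H, θ₁ ⟨QuotientGroup.mk' A x, Subgroup.mem_map_of_mem _ x.2⟩ = θ x) (g : G) : Cfsg.indFun (H.map (QuotientGroup.mk' A)) θ₁ (QuotientGroup.mk' A g) = Cfsg.indFun H θ g := by
  classical
  unfold Cfsg.indFun
  simp only [fun x : G => ext_eq A H hAH θ θ₁ hθ (x⁻¹ * g * x)]
  have h1 := sum_quot A (fun y : G ⧸ A => Cfsg.extendByZero (H.map (QuotientGroup.mk' A)) θ₁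
    (y⁻¹ * QuotientGroup.mk' A g * y))
  simp only [map_mul, map_inv] at h1 ⊢
  rw [h1]
  have hcard : Nat.card H = Nat.card A * Nat.card ↥(H.map (QuotientGroup.mk' A)) := by
    have := Subgroup.relIndex_mul_relIndex (H := (⊥ : Subgroup G)) (K := A) (L := H) bot_le hAH
    rw [Subgroup.relIndex_bot_left, Subgroup.relIndex_bot_left] at this
    rw [← this]
    congr 1
    have h2 := Subgroup.relIndex_ker (QuotientGroup.mk' A) (K := H)
    rw [QuotientGroup.ker_mk'] at h2
    exact h2
  have hA : (Nat.card A : ℂ) ≠ 0 := by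
    exact_mod_cast (Nat.card_pos (α := A)).ne'
  have hHb : (Nat.card ↥(H.map (QuotientGroup.mk' A)) : ℂ) ≠ 0 := by
    exact_mod_cast (Nat.card_pos (α := ↥(H.map (QuotientGroup.mk' A)))).ne'
  rw [hcard]
  push_cast
  field_simp

end Cfsg.Agent.S1488
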