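import Cfsg.Statements.S1490
import Cfsg.Agent.Lib.Helper75_AbelianInertia2

set_option autoImplicit false
open Cfsg

namespace Cfsg.Agent.S1490

open Cfsg.Agent.Lib.Helper3_CharBridge Cfsg.Agent.Lib.Helper3_CharOrtho
  Cfsg.Agent.Lib.Helper3_CharComplete Cfsg.Agent.Lib.Helper75_CharArith
  Cfsg.Agent.Lib.Helper75_Induced Cfsg.Agent.Lib.Helper75_IndChar
  Cfsg.Agent.Lib.Helper75_Clifford Cfsg.Agent.Lib.Helper75_AbelianInertia2 in
/-- Let H be a normal subgroup of the finite group G, θ an irreducible character of H with inertia group T, and suppose the commutator of any two elements of T lies in H (T/H abelian). Then there are a positive integer e and a finite set C of irreducible characters of G with e ^ 2 * |C| * |H| = |T|, such that the function induced from θ is e times the sum of the members of C and every member of C has degree [G:T] * e * θ(1). -/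
theorem result {G : Type*} [Group G] [Fintype G] (H T : Subgroup G) [hN : H.Normal] (θ : H → ℂ) (hθ : Cfsg.IsIrrCharacter H θ) (hT : ∀ g : G, g ∈ T ↔ ∀ h : H, θ ⟨g * h * g⁻¹, hN.conj_mem h h.2 g⟩ = θ h) (hab : ∀ x ∈ T, ∀ y ∈ T, x * y * x⁻¹ * y⁻¹ ∈ H) : ∃ (e : ℕ) (C : Finset (G → ℂ)), 0 < e ∧ (∀ χ ∈ C, Cfsg.IsIrrCharacter G χ) ∧ e ^ 2 * C.card * Nat.card H = Nat.card T ∧ Cfsg.indFun H θ = (e : ℂ) • ∑ χ ∈ C, χ ∧ ∀ χ ∈ C, χ 1 = (T.index : ℂ) * e * θ 1 := by
  classical
  have : Fintype H := Fintype.ofFinite H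
  have : Fintype T := Fintype.ofFinite T
  have : Fintype (H.subgroupOf T) := Fintype.ofFinite _
  have hT' : ∀ g : G, g ∈ T ↔ Cfsg.Agent.Lib.Helper75_Clifford.conjFun H hN θ g = θ := by
    intro g
    rw [hT g]
    constructor
    · intro h
      funext n
      exact h n
    · intro h n
      exact congrFun h n
  have hHT : H ≤ T := le_inertia H T hN (isClassFunction_of_isIrrCharacter hθ) hT'
  set θ' := resSubgroupOf H T θ with hθ'def
  have hθ' : Cfsg.IsIrrCharacter (H.subgroupOf T) θ' := isIrrCharacter_resSubgroupOf H T hHT hθ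
  have hInd : Cfsg.IsCharacter T (Cfsg.indFun (H.subgroupOf T) θ') :=
    isCharacter_indFun _ (isCharacter_of_isIrrCharacter hθ')
  -- a constituent
  have hne : Cfsg.classInner (Cfsg.indFun (H.subgroupOf T) θ')
      (Cfsg.indFun (H.subgroupOf T) θ') ≠ 0 := by
    apply classInner_self_ne_zero
    rw [indFun_one_index]
    apply mul_ne_zero
    · rw [Nat.cast_ne_zero]
      exact Subgroup.index_ne_zero_of_finite
    · exact irr_one_ne_zero hθ'
  rw [classInner_self_eq_sum (isClassFunction_of_isCharacter hInd)] at hne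
  obtain ⟨ψ₀, -, hψ₀⟩ := Finset.exists_ne_zero_of_sum_ne_zero hne
  have hψ₀ne : Cfsg.classInner (Cfsg.indFun (H.subgroupOf T) θ') (ψ₀ : T → ℂ) ≠ 0 :=
    left_ne_zero_of_mul hψ₀
  rw [frobenius_reciprocity _ θ' _ (isClassFunction_of_isIrrCharacter ψ₀.2)] at hψ₀ne
  obtain ⟨e, he⟩ := classInner_isCharacter_nat
    (isCharacter_res (H.subgroupOf T) (isCharacter_of_isIrrCharacter ψ₀.2))
    (isCharacter_of_isIrrCharacter hθ')
  have he0 : e ≠ 0 := by
    intro h0
    apply hψ₀ne
    rw [← classInner_conj_symm]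
    have : (fun h : H.subgroupOf T => (ψ₀ : T → ℂ) h) = res (H.subgroupOf T) (ψ₀ : T → ℂ) := rfl
    rw [this, he, h0, Nat.cast_zero, map_zero]
  obtain ⟨C, hC1, hC2, hC3, hC4⟩ :=
    ind_decomp_of_abelian_inertia H T hN hθ hT' hab ψ₀ ψ₀.2 e he0 he
  exact ⟨e, C, Nat.pos_of_ne_zero he0, hC1, hC2, hC3, hC4⟩

end Cfsg.Agent.S1490
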