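import Cfsg.Statements.S1491
import Cfsg.Agent.Lib.Helper75_AbelianInertia2
import Cfsg.Agent.Lib.Helper75_ExtendCoprime

set_option autoImplicit false
open Cfsg

namespace Cfsg.Agent.S1491

open Cfsg.Agent.Lib.Helper3_CharBridge Cfsg.Agent.Lib.Helper3_CharOrtho
  Cfsg.Agent.Lib.Helper3_CharComplete Cfsg.Agent.Lib.Helper75_CharArith
  Cfsg.Agent.Lib.Helper75_Induced Cfsg.Agent.Lib.Helper75_IndChar
  Cfsg.Agent.Lib.Helper75_Clifford Cfsg.Agent.Lib.Helper75_AbelianInertia2
  Cfsg.Agent.Lib.Helper75_ExtendCoprime in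
/-- Let H be a normal subgroup of the finite group G and θ an irreducible character of H with inertia group T, where T/H is abelian (commutators of T lie in H) and the index of H in T is coprime to the order of H. Then the function induced from θ is the sum of a set of exactly [T:H] irreducible characters of G, each of degree [G:T] * θ(1). -/
theorem result {G : Type*} [Group G] [Fintype G] (H T : Subgroup G) [hN : H.Normal] (θ : H → ℂ) (hθ : Cfsg.IsIrrCharacter H θ) (hT : ∀ g : G, g ∈ T ↔ ∀ h : H, θ ⟨g * h * g⁻¹, hN.conj_mem h h.2 g⟩ = θ h) (hab : ∀ x ∈ T, ∀ y ∈ T, x * y * x⁻¹ * y⁻¹ ∈ H) (hcop : Nat.Coprime (Nat.card H) (H.relIndex T)) : ∃ C : Finset (G → ℂ), (∀ χ ∈ C, Cfsg.IsIrrCharacter G χ) ∧ C.card = H.relIndex T ∧ Cfsg.indFun H θ = ∑ χ ∈ C, χ ∧ ∀ χ ∈ C, χ 1 = (T.index : ℂ) * θ 1 := by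
  classical
  have : Fintype H := Fintype.ofFinite H
  have : Fintype T := Fintype.ofFinite T
  have : Fintype (H.subgroupOf T) := Fintype.ofFinite _
  have hT' : ∀ g : G, g ∈ T ↔ Cfsg.Agent.Lib.Helper75_Clifford.conjFun H hN θ g = θ := by
    intro g
    rw [hT g]
    constructor
    · intro h
      funext n
      exact h n
    · intro h n
      exact congrFun h n
  have hHT : H ≤ T := le_inertia H T hN (isClassFunction_of_isIrrCharacter hθ) hT'
  have hN' : (H.subgroupOf T).Normal := inferInstance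
  set θ' := resSubgroupOf H T θ with hθ'def
  have hθ' : Cfsg.IsIrrCharacter (H.subgroupOf T) θ' := isIrrCharacter_resSubgroupOf H T hHT hθ
  have hcard : Nat.card (H.subgroupOf T) = Nat.card H :=
    Nat.card_congr (Subgroup.subgroupOfEquivOfLe hHT).toEquiv
  -- the quotient is abelian, hence solvable
  have hsolv : Group.IsSolvable (↥T ⧸ H.subgroupOf T) := by
    apply Group.isSolvable_of_comm
    intro a b
    obtain ⟨x, rfl⟩ := QuotientGroup.mk_surjective a
    obtain ⟨y, rfl⟩ := QuotientGroup.mk_surjective b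
    rw [← QuotientGroup.mk_mul, ← QuotientGroup.mk_mul, QuotientGroup.eq, Subgroup.mem_subgroupOf]
    have := hab (y⁻¹ : T) (y⁻¹ : T).2 (x⁻¹ : T) (x⁻¹ : T).2
    simp only [Subgroup.coe_inv, inv_inv] at this
    simp only [Subgroup.coe_mul, Subgroup.coe_inv, mul_inv_rev]
    convert this using 1
    group
  have hcop' : Nat.Coprime (Nat.card (H.subgroupOf T)) (H.subgroupOf T).index := by
    rw [hcard]
    exact hcop
  have hinv' : ∀ (g : T) (n : H.subgroupOf T),
      θ' ⟨g * n * g⁻¹, hN'.conj_mem (n : T) n.2 g⟩ = θ' n := by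
    intro g n
    exact (hT g).mp g.2 ⟨((n : T) : G), Subgroup.mem_subgroupOf.mp n.2⟩
  obtain ⟨ψ₀, hψ₀, hψ₀N⟩ :=
    exists_extension_of_coprime_solvable (H.subgroupOf T) hsolv hcop' θ' hθ' hinv'
  have he : Cfsg.classInner (res (H.subgroupOf T) ψ₀) θ' = ((1 : ℕ) : ℂ) := by
    have : res (H.subgroupOf T) ψ₀ = θ' := funext hψ₀N
    rw [this, classInner_self_of_isIrrCharacter hθ', Nat.cast_one]
  obtain ⟨C, hC1, hC2, hC3, hC4⟩ :=
    ind_decomp_of_abelian_inertia H T hN hθ hT' hab ψ₀ hψ₀ 1 one_ne_zero he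
  refine ⟨C, hC1, ?_, ?_, ?_⟩
  · have h1 : (H.subgroupOf T).index * Nat.card (H.subgroupOf T) = Nat.card T :=
      Subgroup.index_mul_card _
    rw [hcard] at h1
    rw [one_pow, one_mul, ← h1] at hC2
    have hH : 0 < Nat.card H := Nat.card_pos
    exact Nat.eq_of_mul_eq_mul_right hH hC2
  · rw [hC3, Nat.cast_one, one_smul]
  · intro χ hχ
    rw [hC4 χ hχ, Nat.cast_one, mul_one]

end Cfsg.Agent.S1491
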