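import Mathlib
import Cfsg.Statements.S1492
import Cfsg.Agent.Lib.Helper75_CharArith
import Cfsg.Agent.Lib.Helper3_CharEigen
import Cfsg.Agent.Lib.Helper78_CentralChar

set_option autoImplicit false
open Cfsg

namespace Cfsg.Agent.S1492

open scoped ComplexConjugate
open Cfsg.Agent.Lib.Helper3_CharBridge Cfsg.Agent.Lib.Helper3_CharOrtho
  Cfsg.Agent.Lib.Helper3_CharComplete Cfsg.Agent.Lib.Helper75_CharArith
  Cfsg.Agent.Lib.Helper3_CharEigen

/-- Lemma A: if `θ` is an irreducible character of `K`, trivial on the set `B'`, and `d` has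
all its commutators with `K` inside `B'`, then `‖θ d‖ = ‖θ 1‖`. -/
theorem norm_eq_of_central_mod {K : Type*} [Group K] [Finite K] (θ : K → ℂ)
    (hθ : Cfsg.IsIrrCharacter K θ) (B' : Set K) (hB : ∀ b ∈ B', θ b = θ 1) (d : K)
    (hd : ∀ c : K, d * c * d⁻¹ * c⁻¹ ∈ B') : ‖θ d‖ = ‖θ 1‖ := by
  obtain ⟨n, ρ, hirr, rfl⟩ := hθ
  haveI := hirr
  have h1 : ρ.character 1 = (Module.finrank ℂ (Fin n → ℂ) : ℂ) := by
    rw [Representation.char_one]
  have hBid : ∀ b ∈ B', ρ b = LinearMap.id := by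
    intro b hb
    rw [← char_eq_finrank_iff ρ b, hB b hb, h1]
  have hcomm : ∀ c : K, ρ d ∘ₗ ρ c = ρ c ∘ₗ ρ d := by
    intro c
    have h2 := hBid _ (hd c)
    have h3 : d * c = (d * c * d⁻¹ * c⁻¹) * (c * d) := by group
    have h4 : ρ (d * c) = ρ (c * d) := by
      rw [h3, map_mul, h2]
      rfl
    rw [map_mul, map_mul] at h4
    exact h4
  obtain ⟨ω, hω⟩ := Cfsg.Agent.Lib.Helper78_CentralChar.exists_scalar_of_commute ρ (ρ d) hcomm
  have h5 := (norm_char_eq_iff ρ d).mpr ⟨ω, hω⟩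
  rw [h5, h1, Complex.norm_natCast]

/-- Lemma B: `∑ ‖θ k‖² = |K|` for an irreducible character. -/
theorem sum_norm_sq_irr {K : Type*} [Group K] [Fintype K] (θ : K → ℂ)
    (hθ : Cfsg.IsIrrCharacter K θ) : ∑ k : K, ‖θ k‖ ^ 2 = (Nat.card K : ℝ) := by
  have h := classInner_self_of_isIrrCharacter hθ
  unfold Cfsg.classInner at h
  have hne : (Nat.card K : ℂ) ≠ 0 := by exact_mod_cast Nat.card_pos.ne'
  have h2 : ∑ g : K, θ g * conj (θ g) = (Nat.card K : ℂ) := by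
    field_simp at h
    exact h
  have h3 : ∀ g : K, θ g * conj (θ g) = ((‖θ g‖ ^ 2 : ℝ) : ℂ) := by
    intro g
    rw [Complex.mul_conj, Complex.normSq_eq_norm_sq]
  simp only [h3] at h2
  rw [← Complex.ofReal_sum] at h2
  have h4 : ((Nat.card K : ℝ) : ℂ) = (Nat.card K : ℂ) := by simp
  rw [← h4] at h2
  exact Complex.ofReal_injective h2

/-- Lemma C. -/
theorem card_mul_sq_le {K : Type*} [Group K] [Finite K] (θ : K → ℂ)
    (hθ : Cfsg.IsIrrCharacter K θ) (B' : Set K) (hB : ∀ b ∈ B', θ b = θ 1) (D' : Subgroup K)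
    (hd : ∀ d ∈ D', ∀ c : K, d * c * d⁻¹ * c⁻¹ ∈ B') :
    (Nat.card D' : ℝ) * ‖θ 1‖ ^ 2 ≤ (Nat.card K : ℝ) := by
  classical
  haveI := Fintype.ofFinite K
  rw [← sum_norm_sq_irr θ hθ]
  have h1 : ∑ k ∈ Finset.univ.filter (fun k => k ∈ D'), ‖θ k‖ ^ 2 ≤ ∑ k : K, ‖θ k‖ ^ 2 := by
    apply Finset.sum_le_sum_of_subset_of_nonneg (Finset.filter_subset _ _)
    intro i _ _
    positivity
  refine le_trans ?_ h1
  have h2 : ∀ k ∈ Finset.univ.filter (fun k => k ∈ D'), ‖θ k‖ ^ 2 = ‖θ 1‖ ^ 2 := by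
    intro k hk
    rw [Finset.mem_filter] at hk
    rw [norm_eq_of_central_mod θ hθ B' hB k (hd k hk.2)]
  rw [Finset.sum_congr rfl h2, Finset.sum_const, nsmul_eq_mul]
  have h3 : (Finset.univ.filter (fun k => k ∈ D')).card = Nat.card D' := by
    rw [Nat.card_eq_fintype_card, Fintype.card_subtype]
  rw [h3]

/-- Let ψ be an irreducible character of the finite group G and B ≤ D ≤ C subgroups with B normal in C, every commutator of an element of D with an element of C lying in B (so D/B is central in C/B), and ψ constant equal to ψ 1 on B. Then ψ(1) ^ 2 * |C| * |D| ≤ |G| ^ 2. -/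
theorem result {G : Type*} [Group G] [Finite G] (ψ : G → ℂ) (hψ : Cfsg.IsIrrCharacter G ψ) (B C D : Subgroup G) (hBD : B ≤ D) (hDC : D ≤ C) (hBn : ∀ c ∈ C, ∀ b ∈ B, c * b * c⁻¹ ∈ B) (hcent : ∀ d ∈ D, ∀ c ∈ C, d * c * d⁻¹ * c⁻¹ ∈ B) (hker : ∀ b ∈ B, ψ b = ψ 1) : ‖ψ 1‖ ^ 2 * (Nat.card C : ℝ) * (Nat.card D : ℝ) ≤ (Nat.card G : ℝ) ^ 2 := by
  classical
  haveI := Fintype.ofFinite G
  haveI : Fintype ↥C := Fintype.ofFinite _
  -- the restriction
  set φ : ↥C → ℂ := fun c => ψ c with hφ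
  have hφchar : Cfsg.IsCharacter ↥C φ := isCharacter_restrict C (isCharacter_of_isIrrCharacter hψ)
  obtain ⟨m, hm, hsum⟩ := exists_multiplicities hφchar
  have hself := classInner_self_eq_sum (isClassFunction_of_isCharacter hφchar)
  -- degrees
  have hdeg : ∀ χ : Cfsg.IrrCharacter ↥C, ∃ n : ℕ, (χ : ↥C → ℂ) 1 = n := by
    intro χ
    obtain ⟨n, ρ, hirr, hρ⟩ := χ.2
    refine ⟨n, ?_⟩
    rw [← hρ, Representation.char_one]
    simp
  choose n hn using hdeg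
  -- norm bound
  have hbound : ∀ (χ : Cfsg.IrrCharacter ↥C) (c : ↥C), ‖(χ : ↥C → ℂ) c‖ ≤ (n χ : ℝ) := by
    intro χ c
    obtain ⟨k, ρ, hirr, hρ⟩ := χ.2
    have h1 := norm_char_le ρ c
    have h2 : (χ : ↥C → ℂ) 1 = (Module.finrank ℂ (Fin k → ℂ) : ℂ) := by
      rw [← hρ, Representation.char_one]
    rw [hn χ] at h2
    have h3 : n χ = Module.finrank ℂ (Fin k → ℂ) := by exact_mod_cast h2
    rw [← hρ, h3]
    exact h1
  -- M := ∑ m², |C| * M ≤ |G|
  set M : ℝ := ∑ χ : Cfsg.IrrCharacter ↥C, (m χ : ℝ) ^ 2 with hM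
  have hCM : (Nat.card C : ℝ) * M ≤ (Nat.card G : ℝ) := by
    have h1 : Cfsg.classInner φ φ = ((M : ℝ) : ℂ) := by
      rw [hself, hM]
      push_cast
      apply Finset.sum_congr rfl
      intro χ _
      rw [hm χ]
      simp
      ring
    unfold Cfsg.classInner at h1
    have hne : (Nat.card ↥C : ℂ) ≠ 0 := by exact_mod_cast Nat.card_pos.ne'
    have h2 : ∑ g : ↥C, φ g * conj (φ g) = (Nat.card ↥C : ℂ) * ((M : ℝ) : ℂ) := by
      rw [← h1]
      field_simp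
    have h3 : ∀ g : ↥C, φ g * conj (φ g) = ((‖φ g‖ ^ 2 : ℝ) : ℂ) := by
      intro g
      rw [Complex.mul_conj, Complex.normSq_eq_norm_sq]
    simp only [h3] at h2
    rw [← Complex.ofReal_sum] at h2
    have h4 : (Nat.card ↥C : ℂ) * ((M : ℝ) : ℂ) = (((Nat.card ↥C : ℝ) * M : ℝ) : ℂ) := by
      push_cast; ring
    rw [h4] at h2
    have h5 : ∑ g : ↥C, ‖φ g‖ ^ 2 = (Nat.card ↥C : ℝ) * M := Complex.ofReal_injective h2
    rw [← h5, ← sum_norm_sq_irr ψ hψ]
    -- ∑ over C ≤ ∑ over G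
    have h6 : ∑ g : ↥C, ‖φ g‖ ^ 2 = ∑ g ∈ Finset.univ.filter (fun g : G => g ∈ C), ‖ψ g‖ ^ 2 := by
      rw [← Finset.sum_subtype (Finset.univ.filter (fun g : G => g ∈ C))
        (fun g => by simp) (fun g => ‖ψ g‖ ^ 2)]
    rw [h6]
    apply Finset.sum_le_sum_of_subset_of_nonneg (Finset.filter_subset _ _)
    intro i _ _
    positivity
  -- B in the kernel of each constituent
  set B' : Set ↥C := {c : ↥C | (c : G) ∈ B} with hB'
  have hconst : ∀ χ : Cfsg.IrrCharacter ↥C, m χ ≠ 0 → ∀ b ∈ B', (χ : ↥C → ℂ) b = (χ : ↥C → ℂ) 1 := by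
    intro χ hmχ b hb
    have hφb : φ b = φ 1 := by
      simp only [hφ]
      rw [hker _ hb]
      simp
    have e1 := congrFun hsum b
    have e2 := congrFun hsum 1
    rw [hφb, e2] at e1
    simp only [Finset.sum_apply, Pi.smul_apply, smul_eq_mul] at e1
    have e3 : ∑ χ : Cfsg.IrrCharacter ↥C, (m χ : ℝ) * ((n χ : ℝ) - ((χ : ↥C → ℂ) b).re) = 0 := by
      have := congrArg Complex.re e1
      simp only [Complex.re_sum, hn] at this
      have h7 : ∀ χ : Cfsg.IrrCharacter ↥C, ((m χ : ℂ) * (n χ : ℂ)).re = (m χ : ℝ) * (n χ : ℝ) := by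
        intro χ
        rw [← Nat.cast_mul, Complex.natCast_re]
        push_cast; ring
      have h8 : ∀ χ : Cfsg.IrrCharacter ↥C, ((m χ : ℂ) * (χ : ↥C → ℂ) b).re = (m χ : ℝ) * ((χ : ↥C → ℂ) b).re := by
        intro χ
        rw [← Complex.ofReal_natCast, Complex.re_ofReal_mul]
      simp only [h7, h8] at this
      simp only [mul_sub, Finset.sum_sub_distrib]
      linarith
    have e4 := (Finset.sum_eq_zero_iff_of_nonneg (fun χ _ => by
      apply mul_nonneg (Nat.cast_nonneg _)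
      have := hbound χ b
      have h9 := Complex.re_le_norm ((χ : ↥C → ℂ) b)
      linarith)).mp e3 χ (Finset.mem_univ _)
    have hmpos : (m χ : ℝ) ≠ 0 := by exact_mod_cast hmχ
    have hre : ((χ : ↥C → ℂ) b).re = (n χ : ℝ) := by
      rcases mul_eq_zero.mp e4 with h0 | h0
      · exact absurd h0 hmpos
      · linarith
    have hnorm := hbound χ b
    have him : ((χ : ↥C → ℂ) b).im = 0 := by
      have h1 := Complex.sq_norm ((χ : ↥C → ℂ) b)
      rw [Complex.normSq_apply, hre] at h1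
      have h2 : ‖(χ : ↥C → ℂ) b‖ ^ 2 ≤ (n χ : ℝ) ^ 2 := by
        apply pow_le_pow_left₀ (norm_nonneg _) hnorm
      nlinarith
    rw [hn χ]
    apply Complex.ext
    · simpa using hre
    · simpa using him
  -- the degree bound for constituents
  set D' : Subgroup ↥C := D.subgroupOf C with hD'
  have hcardD' : Nat.card D' = Nat.card D := by
    rw [hD']
    exact Nat.card_congr (Subgroup.subgroupOfEquivOfLe hDC).toEquiv
  have hdegb : ∀ χ : Cfsg.IrrCharacter ↥C, m χ ≠ 0 →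
      (Nat.card D : ℝ) * (n χ : ℝ) ^ 2 ≤ (Nat.card C : ℝ) := by
    intro χ hmχ
    have h1 := card_mul_sq_le (χ : ↥C → ℂ) χ.2 B' (hconst χ hmχ) D' (by
      intro d hd c
      rw [hD', Subgroup.mem_subgroupOf] at hd
      exact hcent _ hd _ c.2)
    rw [hcardD', hn χ, Complex.norm_natCast] at h1
    exact h1
  -- ψ 1 = ∑ m n
  have hψ1 : ‖ψ 1‖ = ∑ χ : Cfsg.IrrCharacter ↥C, (m χ : ℝ) * (n χ : ℝ) := by
    have e2 := congrFun hsum 1
    simp only [Finset.sum_apply, Pi.smul_apply, smul_eq_mul, hn] at e2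
    have : φ 1 = ψ 1 := by simp [hφ]
    rw [← this, e2]
    have h3 : ∑ χ : Cfsg.IrrCharacter ↥C, (m χ : ℂ) * (n χ : ℂ) =
        ((∑ χ : Cfsg.IrrCharacter ↥C, m χ * n χ : ℕ) : ℂ) := by
      push_cast; rfl
    rw [h3, Complex.norm_natCast]
    push_cast; rfl
  -- final inequality
  have hCpos : (0 : ℝ) < Nat.card C := by exact_mod_cast Nat.card_pos
  have hDpos : (0 : ℝ) < Nat.card D := by exact_mod_cast Nat.card_pos
  have hGpos : (0 : ℝ) < Nat.card G := by exact_mod_cast Nat.card_pos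
  set r : ℝ := Real.sqrt ((Nat.card C : ℝ) / (Nat.card D : ℝ)) with hr
  have hr2 : r ^ 2 = (Nat.card C : ℝ) / (Nat.card D : ℝ) := by
    rw [hr, Real.sq_sqrt]
    positivity
  have hrnn : 0 ≤ r := Real.sqrt_nonneg _
  have hterm : ∀ χ : Cfsg.IrrCharacter ↥C, (m χ : ℝ) * (n χ : ℝ) ≤ r * (m χ : ℝ) ^ 2 := by
    intro χ
    by_cases hmχ : m χ = 0
    · simp [hmχ]
    · have h1 := hdegb χ hmχ
      have h2 : (n χ : ℝ) ≤ r := by
        rw [hr]
        apply Real.le_sqrt_of_sq_le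
        rw [le_div_iff₀ hDpos]
        linarith
      have h3 : (1 : ℝ) ≤ m χ := by exact_mod_cast Nat.one_le_iff_ne_zero.mpr hmχ
      have h4 : (m χ : ℝ) ≤ (m χ : ℝ) ^ 2 := by nlinarith
      calc (m χ : ℝ) * (n χ : ℝ) ≤ (m χ : ℝ) * r := by
            apply mul_le_mul_of_nonneg_left h2 (Nat.cast_nonneg _)
        _ = r * (m χ : ℝ) := by ring
        _ ≤ r * (m χ : ℝ) ^ 2 := by apply mul_le_mul_of_nonneg_left h4 hrnn
  have hS : ‖ψ 1‖ ≤ r * M := by
    rw [hψ1, hM, Finset.mul_sum]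
    exact Finset.sum_le_sum (fun χ _ => hterm χ)
  have hMnn : 0 ≤ M := by
    rw [hM]; positivity
  have hS2 : ‖ψ 1‖ ^ 2 ≤ (r * M) ^ 2 := pow_le_pow_left₀ (norm_nonneg _) hS 2
  have hCM2 : ((Nat.card C : ℝ) * M) ^ 2 ≤ (Nat.card G : ℝ) ^ 2 :=
    pow_le_pow_left₀ (by positivity) hCM 2
  calc ‖ψ 1‖ ^ 2 * (Nat.card C : ℝ) * (Nat.card D : ℝ)
      ≤ (r * M) ^ 2 * (Nat.card C : ℝ) * (Nat.card D : ℝ) := by
        apply mul_le_mul_of_nonneg_right _ hDpos.le
        apply mul_le_mul_of_nonneg_right hS2 hCpos.le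
    _ = ((Nat.card C : ℝ) * M) ^ 2 := by
        rw [mul_pow, hr2]
        field_simp
    _ ≤ (Nat.card G : ℝ) ^ 2 := hCM2

end Cfsg.Agent.S1492
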