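import Cfsg.Statements.S1493
import Cfsg.Agent.Lib.Helper75_GalConj

set_option autoImplicit false
open Cfsg

namespace Cfsg.Agent.S1493

open Cfsg.Agent.Lib.Helper3_CharBridge Cfsg.Agent.Lib.Helper75_CharArith
  Cfsg.Agent.Lib.Helper75_GalConj in
/-- Let G be a finite group of order a * b with a and b coprime, let k be coprime to a, and let χ be a character of G. Then there is a character χ' of G such that χ'(g) = χ(g ^ k) whenever the order of g divides a and χ'(g) = χ(g) whenever the order of g is coprime to a; moreover χ' is irreducible if χ is. -/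
theorem result {G : Type*} [Group G] [Finite G] (a b k : ℕ) (hab : Nat.card G = a * b) (hcop : Nat.Coprime a b) (hk : Nat.Coprime k a) (χ : G → ℂ) (hχ : Cfsg.IsCharacter G χ) : ∃ χ' : G → ℂ, Cfsg.IsCharacter G χ' ∧ (Cfsg.IsIrrCharacter G χ → Cfsg.IsIrrCharacter G χ') ∧ (∀ g : G, orderOf g ∣ a → χ' g = χ (g ^ k)) ∧ (∀ g : G, Nat.Coprime (orderOf g) a → χ' g = χ g) := by
  classical
  have : Fintype G := Fintype.ofFinite G
  obtain ⟨k', hk'a, hk'b⟩ := Nat.chineseRemainder hcop k 1
  have hcopk' : k'.Coprime (Nat.card G) := by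
    rw [hab]
    apply Nat.Coprime.mul_right
    · have := hk'a.gcd_eq
      unfold Nat.Coprime
      rw [this]
      exact hk
    · have := hk'b.gcd_eq
      unfold Nat.Coprime
      rw [this]
      exact Nat.gcd_one_left b
  refine ⟨fun g => χ (g ^ k'), ?_, ?_, ?_, ?_⟩
  · obtain ⟨m, hm, hsum⟩ := exists_multiplicities hχ
    have h1 : (fun g => χ (g ^ k')) =
        ∑ ψ : Cfsg.IrrCharacter G, m ψ • (fun g => (ψ : G → ℂ) (g ^ k')) := by
      funext g
      conv_lhs => rw [hsum]
      simp [Finset.sum_apply]
    rw [h1]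
    apply isCharacter_sum
    intro ψ _
    exact isCharacter_nsmul _ (isCharacter_of_isIrrCharacter (isIrrCharacter_powMap ψ.2 k' hcopk'))
  · intro hirr
    exact isIrrCharacter_powMap hirr k' hcopk'
  · intro g hg
    have h1 : g ^ k' = g ^ k := by
      rw [pow_eq_pow_iff_modEq]
      exact hk'a.of_dvd hg
    simp only [h1]
  · intro g hg
    have h0 : orderOf g ∣ b := by
      have := orderOf_dvd_natCard g
      rw [hab] at this
      exact hg.dvd_of_dvd_mul_left this
    have h1 : g ^ k' = g := by
      conv_rhs => rw [← pow_one g]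
      rw [pow_eq_pow_iff_modEq]
      exact hk'b.of_dvd h0
    simp only [h1]

end Cfsg.Agent.S1493
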