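import Cfsg.Statements.S1494
import Cfsg.Agent.Lib.Helper3_CharEigen

set_option autoImplicit false
open Cfsg

namespace Cfsg.Agent.S1494

open Cfsg.Agent.Lib.Helper3_CharEigen

theorem isIntegral_trace_of_pow_eq_one {W : Type*} [AddCommGroup W] [Module ℂ W]
    [FiniteDimensional ℂ W] (f : Module.End ℂ W) {N : ℕ} (hN : 0 < N) (h : f ^ N = 1) :
    IsIntegral ℤ (LinearMap.trace ℂ W f) := by
  have hs := isSemisimple_of_pow_eq_one hN h
  rw [trace_eq_sum_of_scalar_on_eigenspaces hs f (fun μ => μ)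
    (fun μ v hv => Module.End.mem_eigenspace_iff.mp hv)]
  refine IsIntegral.sum _ (fun μ hμ => ?_)
  refine IsIntegral.mul ?_ ?_
  · have := isIntegral_algebraMap (R := ℤ) (A := ℂ)
      (x := ((Module.finrank ℂ (Module.End.eigenspace f μ) : ℕ) : ℤ))
    simpa using this
  · exact ⟨Polynomial.X ^ N - 1, Polynomial.monic_X_pow_sub_C (1 : ℤ) hN.ne',
      by simp [eigenvalue_pow_eq_one h (mem_eigSet.mp hμ)]⟩

theorem root_sub_one (p : ℕ) (hp : p.Prime) (μ : ℂ) (hμ : μ ^ p = 1) :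
    ∃ s : ℂ, IsIntegral ℤ s ∧ μ - 1 = (1 - Complex.exp (2 * Real.pi * Complex.I / p)) * s := by
  have : NeZero p := ⟨hp.ne_zero⟩
  have hprim := Complex.isPrimitiveRoot_exp p hp.ne_zero
  set ε := Complex.exp (2 * Real.pi * Complex.I / p) with hε
  have hεint : IsIntegral ℤ ε :=
    ⟨Polynomial.X ^ p - 1, Polynomial.monic_X_pow_sub_C (1 : ℤ) hp.ne_zero,
      by simp [hprim.pow_eq_one]⟩
  obtain ⟨j, _, hj⟩ := hprim.eq_pow_of_pow_eq_one hμ
  refine ⟨-∑ i ∈ Finset.range j, ε ^ i, ?_, ?_⟩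
  · exact (IsIntegral.sum _ (fun i _ => hεint.pow i)).neg
  · rw [← hj]
    have := geom_sum_mul ε j
    linear_combination -this

theorem char_case {G : Type*} [Group G] [Finite G] (n : ℕ) (ρ : Representation ℂ G (Fin n → ℂ))
    (p : ℕ) (hp : p.Prime) (x y : G) (hx : orderOf x = p) (hxy : x * y = y * x) :
    ∃ ω : ℂ, IsIntegral ℤ ω ∧ ρ.character (x * y) - ρ.character y =
      (1 - Complex.exp (2 * Real.pi * Complex.I / p)) * ω := by
  classical
  set X : Module.End ℂ (Fin n → ℂ) := ρ x with hX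
  set Y : Module.End ℂ (Fin n → ℂ) := ρ y with hY
  have hXs : X.IsSemisimple := rho_isSemisimple ρ x
  have hcomm : ∀ v, X (Y v) = Y (X v) := by
    intro v
    have h1 : ρ (x * y) v = ρ (y * x) v := by rw [hxy]
    simpa [map_mul] using h1
  have hmapsY : ∀ μ, Set.MapsTo Y (X.eigenspace μ) (X.eigenspace μ) := by
    intro μ v hv
    have hv' : X v = μ • v := Module.End.mem_eigenspace_iff.mp hv
    show Y v ∈ X.eigenspace μ
    rw [Module.End.mem_eigenspace_iff, hcomm, hv', map_smul]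
  have hXY : ∀ μ, ∀ v ∈ X.eigenspace μ, ρ (x * y) v = μ • Y v := by
    intro μ v hv
    have h1 := hmapsY μ hv
    rw [map_mul, Module.End.mul_apply]
    exact Module.End.mem_eigenspace_iff.mp h1
  have hmapsXY : ∀ μ, Set.MapsTo (ρ (x * y)) (X.eigenspace μ) (X.eigenspace μ) := by
    intro μ v hv
    show ρ (x * y) v ∈ X.eigenspace μ
    rw [hXY μ v hv]
    exact Submodule.smul_mem _ _ (hmapsY μ hv)
  have e1 : ρ.character (x * y) = ∑ μ ∈ (eigFinite X).toFinset,
      LinearMap.trace ℂ _ ((ρ (x * y)).restrict (hmapsXY μ)) :=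
    LinearMap.trace_eq_sum_trace_restrict' (isInternal_eigenspace hXs) (eigFinite X) hmapsXY
  have e2 : ρ.character y = ∑ μ ∈ (eigFinite X).toFinset,
      LinearMap.trace ℂ _ (Y.restrict (hmapsY μ)) :=
    LinearMap.trace_eq_sum_trace_restrict' (isInternal_eigenspace hXs) (eigFinite X) hmapsY
  have e3 : ∀ μ, (ρ (x * y)).restrict (hmapsXY μ) = μ • Y.restrict (hmapsY μ) := by
    intro μ
    apply LinearMap.ext
    intro v
    apply Subtype.ext
    exact hXY μ v v.2
  have hint : ∀ μ, IsIntegral ℤ (LinearMap.trace ℂ _ (Y.restrict (hmapsY μ))) := by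
    intro μ
    apply isIntegral_trace_of_pow_eq_one _ (orderOf_pos y)
    have hpow : ∀ k : ℕ, ∀ v : X.eigenspace μ,
        (((Y.restrict (hmapsY μ)) ^ k) v : Fin n → ℂ) = (Y ^ k) (v : Fin n → ℂ) := by
      intro k
      induction k with
      | zero => intro v; simp
      | succ k ih =>
        intro v
        rw [pow_succ, Module.End.mul_apply, ih, pow_succ, Module.End.mul_apply]
        rfl
    apply LinearMap.ext
    intro v
    apply Subtype.ext
    rw [hpow, hY, rho_pow_orderOf ρ y]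
    rfl
  have hroot : ∀ μ ∈ (eigFinite X).toFinset, μ ^ p = 1 := by
    intro μ hμ
    have : μ ∈ eigSet X := hμ
    have := eig_pow_orderOf ρ this
    rwa [hx] at this
  have hs : ∀ μ : ℂ, ∃ s : ℂ, μ ∈ (eigFinite X).toFinset →
      (IsIntegral ℤ s ∧ μ - 1 = (1 - Complex.exp (2 * Real.pi * Complex.I / p)) * s) := by
    intro μ
    by_cases hμ : μ ∈ (eigFinite X).toFinset
    · obtain ⟨s, h1, h2⟩ := root_sub_one p hp μ (hroot μ hμ)
      exact ⟨s, fun _ => ⟨h1, h2⟩⟩
    · exact ⟨0, fun h => absurd h hμ⟩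
  choose s hs using hs
  refine ⟨∑ μ ∈ (eigFinite X).toFinset, s μ * LinearMap.trace ℂ _ (Y.restrict (hmapsY μ)), ?_, ?_⟩
  · exact IsIntegral.sum _ (fun μ hμ => (hs μ hμ).1.mul (hint μ))
  · rw [e1, e2, ← Finset.sum_sub_distrib, Finset.mul_sum]
    refine Finset.sum_congr rfl (fun μ hμ => ?_)
    rw [e3, map_smul, smul_eq_mul]
    have := (hs μ hμ).2
    linear_combination (LinearMap.trace ℂ _ (Y.restrict (hmapsY μ))) * this


/-- Let χ be a generalized character of the finite group G, p a prime, x an element of order p and y an element commuting with x. Then χ(x * y) − χ(y) = (1 − ε) * ω for some algebraic integer ω, where ε = exp(2πi/p). -/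
theorem result {G : Type*} [Group G] [Finite G] (χ : G → ℂ) (hχ : Cfsg.IsGeneralizedCharacter G χ) (p : ℕ) (hp : p.Prime) (x y : G) (hx : orderOf x = p) (hxy : x * y = y * x) : ∃ ω : ℂ, IsIntegral ℤ ω ∧ χ (x * y) - χ y = (1 - Complex.exp (2 * Real.pi * Complex.I / p)) * ω := by
  obtain ⟨χ₁, χ₂, ⟨n₁, ρ₁, h₁⟩, ⟨n₂, ρ₂, h₂⟩, rfl⟩ := hχ
  obtain ⟨ω₁, i₁, e₁⟩ := char_case n₁ ρ₁ p hp x y hx hxy
  obtain ⟨ω₂, i₂, e₂⟩ := char_case n₂ ρ₂ p hp x y hx hxy
  refine ⟨ω₁ - ω₂, i₁.sub i₂, ?_⟩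
  simp only [Pi.sub_apply, ← h₁, ← h₂]
  linear_combination e₁ - e₂

end Cfsg.Agent.S1494
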