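import Mathlib
import Cfsg.Statements.S1495

set_option autoImplicit false
open Cfsg

namespace Cfsg.Agent.S1495

open Polynomial in
/-- The product of `1 - μ` over the primitive `p`-th roots of unity is `p`. -/
theorem prod_one_sub_primitiveRoots (p : ℕ) [hp : Fact p.Prime] {ε : ℂ} (hε : IsPrimitiveRoot ε p) :
    ∏ μ ∈ primitiveRoots p ℂ, (1 - μ) = (p : ℂ) := by
  have h1 := Polynomial.cyclotomic_eq_prod_X_sub_primitiveRoots hε
  have h2 : Polynomial.eval 1 (Polynomial.cyclotomic p ℂ) = (p : ℂ) :=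
    Polynomial.eval_one_cyclotomic_prime
  rw [h1, Polynomial.eval_prod] at h2
  simpa using h2

/-- A rational number that is an algebraic integer (as a complex number) is an integer. -/
theorem int_of_isIntegral_rat (r : ℚ) (h : IsIntegral ℤ (r : ℂ)) : ∃ m : ℤ, (m : ℚ) = r := by
  have h1 : IsIntegral ℤ r := by
    have : (r : ℂ) = algebraMap ℚ ℂ r := rfl
    rw [this] at h
    exact (isIntegral_algebraMap_iff (algebraMap ℚ ℂ).injective).mp h
  obtain ⟨y, hy⟩ := IsIntegrallyClosed.isIntegral_iff.mp h1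
  exact ⟨y, by simpa using hy⟩

/-- Let p be a prime, ε = exp(2πi/p), and n an integer such that n = (1 − ε) * ω for some algebraic integer ω. Then p divides n. -/
theorem result (p : ℕ) (hp : p.Prime) (n : ℤ) (ω : ℂ) (hω : IsIntegral ℤ ω) (h : (n : ℂ) = (1 - Complex.exp (2 * Real.pi * Complex.I / p)) * ω) : (p : ℤ) ∣ n := by
  have : Fact p.Prime := ⟨hp⟩
  have : NeZero p := ⟨hp.ne_zero⟩
  set ε : ℂ := Complex.exp (2 * Real.pi * Complex.I / p) with hεdef
  have hε : IsPrimitiveRoot ε p := Complex.isPrimitiveRoot_exp p hp.ne_zero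
  -- for each primitive root μ, n = (1 - μ) * (algebraic integer)
  have key : ∀ μ ∈ primitiveRoots p ℂ, ∃ W : ℂ, IsIntegral ℤ W ∧ (n : ℂ) = (1 - μ) * W := by
    intro μ hμ
    rw [mem_primitiveRoots hp.pos] at hμ
    obtain ⟨m, _, hm⟩ := hμ.eq_pow_of_pow_eq_one hε.pow_eq_one
    refine ⟨(∑ i ∈ Finset.range m, μ ^ i) * ω, ?_, ?_⟩
    · apply IsIntegral.mul _ hω
      apply IsIntegral.sum
      intro i _
      exact (hμ.isIntegral hp.pos).pow i
    · rw [← mul_assoc, mul_neg_geom_sum, hm]; exact h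
  choose! W hW1 hW2 using key
  have hprod : ((n : ℂ)) ^ (p - 1) = (p : ℂ) * ∏ μ ∈ primitiveRoots p ℂ, W μ := by
    have hcard : (primitiveRoots p ℂ).card = p - 1 := by
      rw [hε.card_primitiveRoots, Nat.totient_prime hp]
    calc ((n : ℂ)) ^ (p - 1) = ∏ _μ ∈ primitiveRoots p ℂ, (n : ℂ) := by
          rw [Finset.prod_const, hcard]
      _ = ∏ μ ∈ primitiveRoots p ℂ, ((1 - μ) * W μ) := Finset.prod_congr rfl (fun μ hμ => hW2 μ hμ)
      _ = (∏ μ ∈ primitiveRoots p ℂ, (1 - μ)) * ∏ μ ∈ primitiveRoots p ℂ, W μ := Finset.prod_mul_distrib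
      _ = (p : ℂ) * ∏ μ ∈ primitiveRoots p ℂ, W μ := by rw [prod_one_sub_primitiveRoots p hε]
  have hWint : IsIntegral ℤ (∏ μ ∈ primitiveRoots p ℂ, W μ) := IsIntegral.prod _ hW1
  -- the product equals the rational number n^(p-1)/p
  have hp0 : (p : ℂ) ≠ 0 := Nat.cast_ne_zero.mpr hp.ne_zero
  have hrat : (∏ μ ∈ primitiveRoots p ℂ, W μ) = (((n : ℚ) ^ (p - 1) / (p : ℚ) : ℚ) : ℂ) := by
    rw [eq_comm]
    push_cast
    rw [div_eq_iff hp0, mul_comm, ← hprod]
  rw [hrat] at hWint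
  obtain ⟨m, hm⟩ := int_of_isIntegral_rat _ hWint
  have hp0' : (p : ℚ) ≠ 0 := Nat.cast_ne_zero.mpr hp.ne_zero
  have hdvd : (p : ℤ) ∣ n ^ (p - 1) := by
    refine ⟨m, ?_⟩
    have : ((n ^ (p - 1) : ℤ) : ℚ) = (((p : ℤ) * m : ℤ) : ℚ) := by
      push_cast
      rw [hm, mul_div_cancel₀ _ hp0']
    exact_mod_cast this
  exact (Nat.prime_iff_prime_int.mp hp).dvd_of_dvd_pow hdvd

end Cfsg.Agent.S1495
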