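import Cfsg.Statements.S1496
import Cfsg.Agent.Lib.Helper1_SZ
import Cfsg.Agent.Lib.Helper1_Transport
import Cfsg.Agent.Lib.Helper25_Dade

set_option autoImplicit false
set_option linter.style.haveILetI false
open Cfsg

namespace Cfsg.Agent.S1496

open Cfsg.Agent.Lib.Helper1_SZ Cfsg.Agent.Lib.Helper1_Transport
open scoped Pointwise

variable {G : Type*} [Group G]

/-- Powers in a coset `H g` for `g` normalising `H`. -/
theorem coset_pow (H : Subgroup G) (g : G) (hg : g ∈ Subgroup.normalizer (H : Set G)) (h : G)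
    (hh : h ∈ H) (j : ℕ) : ∃ h' ∈ H, (h * g) ^ j = h' * g ^ j := by
  induction j with
  | zero => exact ⟨1, one_mem _, by simp⟩
  | succ j ih =>
    obtain ⟨h', hh', e⟩ := ih
    have hgj : g ^ j ∈ Subgroup.normalizer (H : Set G) := pow_mem hg j
    refine ⟨h' * (g ^ j * h * (g ^ j)⁻¹),
      mul_mem hh' ((Subgroup.mem_normalizer_iff.mp hgj h).mp hh), ?_⟩
    rw [pow_succ, e, pow_succ]; group

theorem pow_card_of_mem [Finite G] (K : Subgroup G) (x : G) (hx : x ∈ K) :
    x ^ Nat.card K = 1 := by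
  have h1 : (⟨x, hx⟩ : K) ^ Nat.card K = 1 := pow_card_eq_one'
  have h2 := congrArg Subtype.val h1
  simp only [Subgroup.coe_pow, Subgroup.coe_one] at h2
  exact h2

theorem inf_zpowers_eq_bot [Finite G] (H : Subgroup G) (g : G)
    (hcop : Nat.Coprime (orderOf g) (Nat.card H)) : H ⊓ Subgroup.zpowers g = ⊥ := by
  apply disjoint_iff.mp
  apply Subgroup.disjoint_of_coprime_natCard
  rw [Nat.card_zpowers]
  exact hcop.symm

/-- An element of the coset `H g` of the same order as `g` is `H`-conjugate to `g`. -/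
theorem conj_to_gen [Finite G] (H : Subgroup G) (g : G)
    (hg : g ∈ Subgroup.normalizer (H : Set G))
    (hcop : Nat.Coprime (orderOf g) (Nat.card H)) (h' : G) (hh' : h' ∈ H)
    (hord : orderOf (h' * g) = orderOf g) : ∃ x ∈ H, x * (h' * g) * x⁻¹ = g := by
  have hZnorm : Subgroup.zpowers g ≤ Subgroup.normalizer (H : Set G) :=
    Subgroup.zpowers_le.mpr hg
  have hZcard : Nat.card (Subgroup.zpowers g) = orderOf g := Nat.card_zpowers g
  have hdisj : H ⊓ Subgroup.zpowers g = ⊥ := inf_zpowers_eq_bot H g hcop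
  have hHL : H ≤ Subgroup.zpowers g ⊔ H := le_sup_right
  have hZL : Subgroup.zpowers g ≤ Subgroup.zpowers g ⊔ H := le_sup_left
  have hLnorm : Subgroup.zpowers g ⊔ H ≤ Subgroup.normalizer (H : Set G) :=
    sup_le hZnorm Subgroup.le_normalizer
  haveI hN : (H.subgroupOf (Subgroup.zpowers g ⊔ H)).Normal :=
    (Subgroup.normal_subgroupOf_iff_le_normalizer hHL).mpr hLnorm
  have hcompl := Cfsg.Agent.Lib.Helper25_Dade.card_mul_card_of_semidirect
    (Subgroup.zpowers g ⊔ H) H (Subgroup.zpowers g) hHL hZL hLnorm hdisj (by rw [sup_comm])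
  have hidx : (H.subgroupOf (Subgroup.zpowers g ⊔ H)).index = orderOf g := by
    rw [hcompl.symm.index_eq_card, card_subgroupOf hZL, hZcard]
  have hcardN : Nat.card (H.subgroupOf (Subgroup.zpowers g ⊔ H)) = Nat.card H :=
    card_subgroupOf hHL
  have hsolv : Group.IsSolvable
      (↥(Subgroup.zpowers g ⊔ H) ⧸ H.subgroupOf (Subgroup.zpowers g ⊔ H)) := by
    haveI := Subgroup.normal_subgroupOf_of_le_normalizer hZnorm
    let e := QuotientGroup.quotientInfEquivProdNormalizerQuotient (Subgroup.zpowers g) H hZnorm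
    haveI : Group.IsSolvable (Subgroup.zpowers g) :=
      Group.isSolvable_of_comm (fun a b => mul_comm' a b)
    exact Group.isSolvable_of_surjective (f := e.toMonoidHom) e.surjective
  have hZ₁L : Subgroup.zpowers (h' * g) ≤ Subgroup.zpowers g ⊔ H :=
    Subgroup.zpowers_le.mpr (mul_mem (hHL hh') (hZL (Subgroup.mem_zpowers g)))
  obtain ⟨y, hy⟩ := sz_conj_card (H.subgroupOf (Subgroup.zpowers g ⊔ H))
    (by rw [hcardN, hidx]; exact hcop.symm) (Or.inr hsolv)
    ((Subgroup.zpowers (h' * g)).subgroupOf (Subgroup.zpowers g ⊔ H))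
    ((Subgroup.zpowers g).subgroupOf (Subgroup.zpowers g ⊔ H))
    (by rw [card_subgroupOf hZ₁L, Nat.card_zpowers, hord, hidx])
    (by rw [card_subgroupOf hZL, hZcard, hidx])
  have hy' := conj_of_subgroupOf hZ₁L hZL y hy
  have hyL : (y : G) ∈ (↑(Subgroup.zpowers g ⊔ H) : Set G) := y.2
  rw [Subgroup.coe_mul_of_left_le_normalizer_right (Subgroup.zpowers g) H hZnorm] at hyL
  obtain ⟨z, hz, u, hu, hzu⟩ := hyL
  have hz' : z ∈ Subgroup.zpowers g := hz
  have hu' : u ∈ H := hu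
  have h1 : (y : G) * (h' * g) * (y : G)⁻¹ ∈ Subgroup.zpowers g := by
    have hmem : (y : G) * (h' * g) * (y : G)⁻¹ ∈
        MulAut.conj (y : G) • Subgroup.zpowers (h' * g) := by
      rw [mem_conj_smul_iff]
      have : (y : G)⁻¹ * ((y : G) * (h' * g) * (y : G)⁻¹) * (y : G) = h' * g := by group
      rw [this]
      exact Subgroup.mem_zpowers _
    rw [hy'] at hmem
    exact hmem
  have h2 : u * (h' * g) * u⁻¹ ∈ Subgroup.zpowers g := by
    have : u * (h' * g) * u⁻¹ = z⁻¹ * ((y : G) * (h' * g) * (y : G)⁻¹) * z := by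
      rw [← hzu]; group
    rw [this]; exact mul_mem (mul_mem (inv_mem hz') h1) hz'
  have h3 : u * (h' * g) * u⁻¹ * g⁻¹ ∈ H := by
    have : u * (h' * g) * u⁻¹ * g⁻¹ = u * h' * (g * u⁻¹ * g⁻¹) := by group
    rw [this]
    exact mul_mem (mul_mem hu' hh') ((Subgroup.mem_normalizer_iff.mp hg u⁻¹).mp (inv_mem hu'))
  have h4 : u * (h' * g) * u⁻¹ * g⁻¹ ∈ Subgroup.zpowers g :=
    mul_mem h2 (inv_mem (Subgroup.mem_zpowers g))
  have h5 : u * (h' * g) * u⁻¹ * g⁻¹ = 1 := by
    have : u * (h' * g) * u⁻¹ * g⁻¹ ∈ H ⊓ Subgroup.zpowers g := ⟨h3, h4⟩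
    rw [hdisj] at this
    exact this
  exact ⟨u, hu', mul_inv_eq_one.mp h5⟩

theorem result {G : Type*} [Group G] [Finite G] (H : Subgroup G) (g : G) (hg : g ∈ Subgroup.normalizer (H : Set G)) (hcop : Nat.Coprime (orderOf g) (Nat.card H)) (h : G) (hh : h ∈ H) : ∃ x ∈ H, ∃ c ∈ H, c * g = g * c ∧ x * (h * g) * x⁻¹ = c * g := by
  have hdisj : H ⊓ Subgroup.zpowers g = ⊥ := inf_zpowers_eq_bot H g hcop
  obtain ⟨k, hk1, hk0⟩ := Nat.chineseRemainder hcop 1 0
  obtain ⟨h', hh', e⟩ := coset_pow H g hg h hh k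
  have hgk : g ^ k = g := by
    have : g ^ k = g ^ 1 := pow_eq_pow_iff_modEq.mpr hk1
    simpa using this
  rw [hgk] at e
  have hord : orderOf (h' * g) = orderOf g := by
    apply Nat.dvd_antisymm
    · apply orderOf_dvd_of_pow_eq_one
      obtain ⟨h'', hh'', e2⟩ := coset_pow H g hg h hh (orderOf g)
      rw [pow_orderOf_eq_one, mul_one] at e2
      obtain ⟨t, ht⟩ : Nat.card H ∣ k := (Nat.modEq_zero_iff_dvd).mp hk0
      have e3 : (h * g) ^ (orderOf g * Nat.card H) = 1 := by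
        rw [pow_mul, e2]
        exact pow_card_of_mem H h'' hh''
      rw [← e, ← pow_mul, ht]
      have : Nat.card H * t * orderOf g = orderOf g * Nat.card H * t := by ring
      rw [this, pow_mul, e3, one_pow]
    · apply orderOf_dvd_of_pow_eq_one
      obtain ⟨h₃, hh₃, e3⟩ := coset_pow H g hg h' hh' (orderOf (h' * g))
      rw [pow_orderOf_eq_one] at e3
      have hmem : g ^ orderOf (h' * g) ∈ H ⊓ Subgroup.zpowers g := by
        refine Subgroup.mem_inf.mpr ⟨?_, pow_mem (Subgroup.mem_zpowers g) _⟩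
        have : g ^ orderOf (h' * g) = h₃⁻¹ := eq_inv_of_mul_eq_one_right e3.symm
        rw [this]
        exact inv_mem hh₃
      rw [hdisj] at hmem
      exact hmem
  obtain ⟨x, hx, hxe⟩ := conj_to_gen H g hg hcop h' hh' hord
  refine ⟨x, hx, x * (h * h'⁻¹) * x⁻¹, ?_, ?_, ?_⟩
  · exact mul_mem (mul_mem hx (mul_mem hh (inv_mem hh'))) (inv_mem hx)
  · have hc : (h * h'⁻¹) * (h' * g) = (h' * g) * (h * h'⁻¹) := by
      have e1 : h * h'⁻¹ = (h * g) * ((h * g) ^ k)⁻¹ := by rw [e]; group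
      rw [e1, ← e]
      have hcm : Commute (h * g) ((h * g) ^ k) := (Commute.refl (h * g)).pow_right k
      have hcm2 : Commute ((h * g) * ((h * g) ^ k)⁻¹) ((h * g) ^ k) :=
        hcm.mul_left ((Commute.refl ((h * g) ^ k)).inv_left)
      exact hcm2
    calc x * (h * h'⁻¹) * x⁻¹ * g = x * (h * h'⁻¹) * x⁻¹ * (x * (h' * g) * x⁻¹) := by rw [hxe]
      _ = x * ((h * h'⁻¹) * (h' * g)) * x⁻¹ := by group
      _ = x * ((h' * g) * (h * h'⁻¹)) * x⁻¹ := by rw [hc]
      _ = (x * (h' * g) * x⁻¹) * (x * (h * h'⁻¹) * x⁻¹) := by group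
      _ = g * (x * (h * h'⁻¹) * x⁻¹) := by rw [hxe]
  · calc x * (h * g) * x⁻¹ = x * (h * h'⁻¹) * x⁻¹ * (x * (h' * g) * x⁻¹) := by group
      _ = x * (h * h'⁻¹) * x⁻¹ * g := by rw [hxe]

end Cfsg.Agent.S1496
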