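import Cfsg.Statements.S1497

set_option autoImplicit false
open Cfsg

namespace Cfsg.Agent.S1497

theorem result {G : Type*} [Group G] [Finite G] (A : Set G) (hA : A.Nonempty) (h1 : (1 : G) ∉ A) (L : Subgroup G) : (Cfsg.IsTISubset A ∧ Subgroup.normalizer A = L) ↔ Cfsg.DadeHypothesis A L (fun _ => ⊥) := by
  constructor
  · rintro ⟨hTI, hN⟩
    -- key: if a ∈ A and g a g⁻¹ ∈ A then g ∈ L
    have key : ∀ a ∈ A, ∀ g : G, g * a * g⁻¹ ∈ A → g ∈ L := by
      intro a ha g hg
      by_contra hgL
      rw [← hN] at hgL
      have := hTI g hgL a ha hg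
      exact h1 (this ▸ ha)
    have hcent : ∀ a ∈ A, Subgroup.centralizer ({a} : Set G) ≤ L := by
      intro a ha c hc
      apply key a ha c
      have : a * c = c * a := (Subgroup.mem_centralizer_iff.mp hc) a rfl
      have e : c * a * c⁻¹ = a := by rw [← this]; group
      rw [e]; exact ha
    refine
      { one_not_mem := h1
        subset := ?_
        conj_mem := ?_
        fusion := ?_
        le_centralizer := fun a _ => bot_le
        conj_mem_H := ?_
        inf_eq_bot := fun a _ => bot_inf_eq _
        sup_eq := ?_
        coprime := ?_ }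
    · intro a ha
      apply key a ha a
      have e : a * a * a⁻¹ = a := by group
      rw [e]; exact ha
    · intro x hx a ha
      rw [← hN] at hx
      exact (Subgroup.mem_set_normalizer_iff.mp hx a).mp ha
    · intro a ha g hg
      exact ⟨g, key a ha g hg, rfl⟩
    · intro a _ c _ u hu
      have : u = 1 := by simpa using hu
      rw [this]
      simp
    · intro a ha
      rw [bot_sup_eq]
      exact inf_eq_right.mpr (hcent a ha)
    · intro a _ b _
      simp
  · intro hD
    have hcent : ∀ a ∈ A, Subgroup.centralizer ({a} : Set G) ≤ L := by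
      intro a ha
      have := hD.sup_eq a ha
      rw [bot_sup_eq] at this
      rw [← this]
      exact inf_le_left
    have key : ∀ a ∈ A, ∀ g : G, g * a * g⁻¹ ∈ A → g ∈ L := by
      intro a ha g hg
      obtain ⟨x, hxL, hx⟩ := hD.fusion a ha g hg
      have hc : x⁻¹ * g ∈ Subgroup.centralizer ({a} : Set G) := by
        rw [Subgroup.mem_centralizer_iff]
        intro h hh
        have hh' : h = a := hh
        subst hh'
        have e : g * h = x * h * x⁻¹ * g := by
          rw [hx]; group
        calc h * (x⁻¹ * g) = x⁻¹ * (x * h * x⁻¹ * g) := by group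
          _ = x⁻¹ * (g * h) := by rw [e]
          _ = x⁻¹ * g * h := by group
      have : g = x * (x⁻¹ * g) := by group
      rw [this]
      exact L.mul_mem hxL (hcent a ha hc)
    have hLN : L ≤ Subgroup.normalizer A := by
      intro x hx
      rw [Subgroup.mem_set_normalizer_iff]
      intro n
      constructor
      · intro hn
        exact hD.conj_mem x hx n hn
      · intro hn
        have := hD.conj_mem x⁻¹ (L.inv_mem hx) _ hn
        have e : x⁻¹ * (x * n * x⁻¹) * x⁻¹⁻¹ = n := by group
        rwa [e] at this
    have hNL : Subgroup.normalizer A ≤ L := by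
      intro g hg
      obtain ⟨a, ha⟩ := hA
      exact key a ha g ((Subgroup.mem_set_normalizer_iff.mp hg a).mp ha)
    refine ⟨?_, le_antisymm hNL hLN⟩
    intro g hg x hx hgx
    exact absurd (hLN (key x hx g hgx)) hg

end Cfsg.Agent.S1497
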