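import Cfsg.Statements.S1507
import Cfsg.Agent.Lib.Helper25_CyclicTI
import Cfsg.Agent.Lib.Helper25_CyclicDual

set_option autoImplicit false
set_option linter.style.haveILetI false
open Cfsg

namespace Cfsg.Agent.S1507

open Cfsg.Agent.Lib.Helper25_CyclicTI Cfsg.Agent.Lib.Helper25_CyclicDual
open Finset

theorem matrix_lemma {I J : Type*} [Fintype I] [Fintype J] [DecidableEq I] [DecidableEq J]
    (F : I → ℂ) (G : J → ℂ) (hIJ : Fintype.card I + 2 ≤ Fintype.card J) (hI : 0 < Fintype.card I)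
    (hfew : (Finset.univ.filter (fun p : I × J => F p.1 + G p.2 ≠ 0)).card < 2 * Fintype.card I) :
    (∀ i j, F i + G j = 0) ∨ (∃ j₀ a, ∀ i j, F i + G j = if j = j₀ then a else 0) ∨
      (∃ i₀ a, ∀ i j, F i + G j = if i = i₀ then a else 0) := by
  classical
  set m := Fintype.card I with hm
  set n := Fintype.card J with hn
  let d : I → ℕ := fun i => (Finset.univ.filter (fun j : J => F i + G j ≠ 0)).card
  let z : I → ℕ := fun i => (Finset.univ.filter (fun j : J => F i + G j = 0)).card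
  have hdz : ∀ i, z i + d i = n := by
    intro i
    have := Finset.card_filter_add_card_filter_not (s := (Finset.univ : Finset J)) (fun j : J => F i + G j = 0)
    simpa [d, z, hn] using this
  have hN : (Finset.univ.filter (fun p : I × J => F p.1 + G p.2 ≠ 0)).card = ∑ i, d i := by
    rw [Finset.card_filter, Fintype.sum_prod_type]
    apply Finset.sum_congr rfl
    intro i _
    simp only [d]
    rw [Finset.card_filter]
  rw [hN] at hfew
  obtain ⟨i₀⟩ : Nonempty I := Fintype.card_pos_iff.mp hI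
  by_cases hFc : ∀ i i', F i = F i'
  · -- F constant
    let C : Finset J := Finset.univ.filter (fun j : J => F i₀ + G j ≠ 0)
    have hd : ∀ i, d i = C.card := by
      intro i
      simp only [d, C]
      rw [hFc i i₀]
    have hsum : ∑ i, d i = m * C.card := by
      simp_rw [hd]
      rw [Finset.sum_const, Finset.card_univ, smul_eq_mul]
    rw [hsum] at hfew
    have hC : C.card < 2 := by
      by_contra h
      have h := not_lt.mp h
      have : m * 2 ≤ m * C.card := Nat.mul_le_mul_left m h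
      omega
    interval_cases hc : C.card
    · left
      intro i j
      by_contra hne
      have : j ∈ C := by
        simp only [C, Finset.mem_filter, Finset.mem_univ, true_and]
        rw [← hFc i i₀]; exact hne
      rw [Finset.card_eq_zero.mp hc] at this
      exact absurd this (Finset.notMem_empty j)
    · right; left
      obtain ⟨j₀, hj₀⟩ := Finset.card_eq_one.mp hc
      refine ⟨j₀, F i₀ + G j₀, ?_⟩
      intro i j
      by_cases hj : j = j₀
      · rw [if_pos hj, hj, hFc i i₀]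
      · rw [if_neg hj]
        by_contra hne
        have : j ∈ C := by
          simp only [C, Finset.mem_filter, Finset.mem_univ, true_and]
          rw [← hFc i i₀]; exact hne
        rw [hj₀, Finset.mem_singleton] at this
        exact hj this
  by_cases hGc : ∀ j j', G j = G j'
  · -- G constant
    have hJ : 0 < n := by omega
    obtain ⟨j₀⟩ : Nonempty J := Fintype.card_pos_iff.mp hJ
    let R : Finset I := Finset.univ.filter (fun i : I => F i + G j₀ ≠ 0)
    have hd : ∀ i, d i = if i ∈ R then n else 0 := by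
      intro i
      by_cases hi : i ∈ R
      · rw [if_pos hi]
        simp only [R, Finset.mem_filter, Finset.mem_univ, true_and] at hi
        simp only [d]
        rw [Finset.filter_true_of_mem, Finset.card_univ]
        intro j _
        rw [hGc j j₀]; exact hi
      · rw [if_neg hi]
        simp only [R, Finset.mem_filter, Finset.mem_univ, true_and, not_not] at hi
        simp only [d]
        rw [Finset.card_eq_zero, Finset.filter_eq_empty_iff]
        intro j _
        rw [hGc j j₀, not_not]; exact hi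
    have hsum : ∑ i, d i = R.card * n := by
      simp_rw [hd]
      rw [Finset.sum_ite_mem, Finset.univ_inter, Finset.sum_const, smul_eq_mul]
    rw [hsum] at hfew
    have hR : R.card < 2 := by
      by_contra h
      have h := not_lt.mp h
      have : 2 * n ≤ R.card * n := Nat.mul_le_mul_right n h
      omega
    interval_cases hc : R.card
    · left
      intro i j
      by_contra hne
      have : i ∈ R := by
        simp only [R, Finset.mem_filter, Finset.mem_univ, true_and]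
        rw [← hGc j j₀]; exact hne
      rw [Finset.card_eq_zero.mp hc] at this
      exact absurd this (Finset.notMem_empty i)
    · right; right
      obtain ⟨i₁, hi₁⟩ := Finset.card_eq_one.mp hc
      refine ⟨i₁, F i₁ + G j₀, ?_⟩
      intro i j
      by_cases hi : i = i₁
      · rw [if_pos hi, hi, hGc j j₀]
      · rw [if_neg hi]
        by_contra hne
        have : i ∈ R := by
          simp only [R, Finset.mem_filter, Finset.mem_univ, true_and]
          rw [← hGc j j₀]; exact hne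
        rw [hi₁, Finset.mem_singleton] at this
        exact hi this
  -- neither constant: contradiction
  exfalso
  simp only [not_forall] at hFc hGc
  obtain ⟨imin, -, himin⟩ := Finset.exists_min_image Finset.univ d ⟨i₀, Finset.mem_univ _⟩
  have hmin : ∀ i, d imin ≤ d i := fun i => himin i (Finset.mem_univ i)
  -- d imin ≠ 0
  have hd0 : d imin ≠ 0 := by
    intro h0
    obtain ⟨j, j', hjj'⟩ := hGc
    have hz : ∀ j, F imin + G j = 0 := by
      intro j
      by_contra hne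
      have : j ∈ Finset.univ.filter (fun j : J => F imin + G j ≠ 0) := by
        simp only [Finset.mem_filter, Finset.mem_univ, true_and]; exact hne
      have h1 : (Finset.univ.filter (fun j : J => F imin + G j ≠ 0)) = ∅ := Finset.card_eq_zero.mp h0
      rw [h1] at this
      exact absurd this (Finset.notMem_empty j)
    apply hjj'
    have e1 := hz j
    have e2 := hz j'
    have : G j = -F imin := by linear_combination e1
    rw [this]
    linear_combination -e2
  by_cases hd2 : 2 ≤ d imin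
  · have : ∑ _i : I, 2 ≤ ∑ i, d i := Finset.sum_le_sum (fun i _ => le_trans hd2 (hmin i))
    rw [Finset.sum_const, Finset.card_univ, smul_eq_mul] at this
    omega
  · have hd1 : d imin = 1 := by omega
    -- a row with different F
    obtain ⟨i₁, hi₁⟩ : ∃ i₁, F i₁ ≠ F imin := by
      obtain ⟨i, i', hii'⟩ := hFc
      by_cases h : F i = F imin
      · exact ⟨i', fun h' => hii' (h.trans h'.symm)⟩
      · exact ⟨i, h⟩
    have hdisj : Disjoint (Finset.univ.filter (fun j : J => F imin + G j = 0))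
        (Finset.univ.filter (fun j : J => F i₁ + G j = 0)) := by
      rw [Finset.disjoint_left]
      intro j h1 h2
      simp only [Finset.mem_filter, Finset.mem_univ, true_and] at h1 h2
      apply hi₁
      linear_combination h2 - h1
    have hzz : z imin + z i₁ ≤ n := by
      have := Finset.card_union_of_disjoint hdisj
      have h2 : ((Finset.univ.filter (fun j : J => F imin + G j = 0)) ∪
        (Finset.univ.filter (fun j : J => F i₁ + G j = 0))).card ≤ n := by
        rw [hn, ← Finset.card_univ]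
        exact Finset.card_le_card (Finset.subset_univ _)
      simp only [z]
      omega
    have h1 := hdz imin
    have h2 := hdz i₁
    have hdi₁ : n - 1 ≤ d i₁ := by omega
    -- sum bound
    have hsum : d i₁ + (m - 1) ≤ ∑ i, d i := by
      rw [← Finset.add_sum_erase Finset.univ d (Finset.mem_univ i₁)]
      have : ∑ _i ∈ Finset.univ.erase i₁, 1 ≤ ∑ i ∈ Finset.univ.erase i₁, d i := by
        apply Finset.sum_le_sum
        intro i _
        have := hmin i
        omega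
      rw [Finset.sum_const, Finset.card_erase_of_mem (Finset.mem_univ i₁), Finset.card_univ,
        smul_eq_mul, mul_one] at this
      omega
    omega


open Classical in
theorem result {G : Type*} [Group G] [Fintype G] (W₁ W₂ : Subgroup G) (hW : Cfsg.IsSelfNormalizingCyclic W₁ W₂) (hodd : Odd (Nat.card ↥(W₁ ⊔ W₂))) (χ : (↥(W₁ ⊔ W₂) →* ℂˣ) → (G → ℂ)) (hχ : Cfsg.IsCyclicTIFamily W₁ W₂ χ) (hlt : Nat.card W₁ < Nat.card W₂) (θ : G → ℂ) (hθ : Cfsg.IsClassFunction G θ) (hθV : ∀ w : ↥(W₁ ⊔ W₂), (w : G) ∉ W₁ → (w : G) ∉ W₂ → θ w = 0) (hfew : Nat.card {ω : ↥(W₁ ⊔ W₂) →* ℂˣ // Cfsg.classInner θ (χ ω) ≠ 0} < 2 * Nat.card W₁) : (∀ ω, Cfsg.classInner θ (χ ω) = 0) ∨ (∃ (ψ₀ : ↥(W₁ ⊔ W₂) →* ℂˣ) (a : ℂ), ∀ ω, Cfsg.classInner θ (χ ω) = if (∀ w : ↥(W₁ ⊔ W₂), (w : G) ∈ W₂ → (ω * ψ₀⁻¹) w = 1) then a else 0) ∨ (∃ (φ₀ : ↥(W₁ ⊔ W₂) →* ℂˣ) (a : ℂ), ∀ ω, Cfsg.classInner θ (χ ω) = if (∀ w : ↥(W₁ ⊔ W₂), (w : G) ∈ W₁ → (ω * φ₀⁻¹) w = 1) then a else 0) := by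
  obtain ⟨_, _, hdisj, hcomm, hcyc, _⟩ := hW
  haveI := hcyc
  -- cardinalities
  have hcardW : Nat.card ↥(W₁ ⊔ W₂) = Nat.card W₁ * Nat.card W₂ := card_sup_of_commute W₁ W₂ hdisj hcomm
  have hcardHom : Nat.card (↥(W₁ ⊔ W₂) →* ℂˣ) = Nat.card ↥(W₁ ⊔ W₂) := card_hom_cyclic _
  haveI : Finite (↥(W₁ ⊔ W₂) →* ℂˣ) :=
    Nat.finite_of_card_ne_zero (by rw [hcardHom]; exact Nat.card_pos.ne')
  letI : Fintype (↥(W₁ ⊔ W₂) →* ℂˣ) := Fintype.ofFinite _
  have hW₁pos : 0 < Nat.card W₁ := Nat.card_pos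
  have hW₂pos : 0 < Nat.card W₂ := Nat.card_pos
  have hcardI : Nat.card {φ : ↥(W₁ ⊔ W₂) →* ℂˣ // ∀ w : ↥(W₁ ⊔ W₂), (w : G) ∈ W₂ → φ w = 1} = Nat.card W₁ := by
    have h := card_hom_trivial_on ↥(W₁ ⊔ W₂) (W₂.subgroupOf (W₁ ⊔ W₂))
    rw [Nat.card_congr (Subgroup.subgroupOfEquivOfLe (le_sup_right : W₂ ≤ W₁ ⊔ W₂)).toEquiv, hcardW] at h
    exact Nat.eq_of_mul_eq_mul_right hW₂pos h
  have hcardJ : Nat.card {ψ : ↥(W₁ ⊔ W₂) →* ℂˣ // ∀ w : ↥(W₁ ⊔ W₂), (w : G) ∈ W₁ → ψ w = 1} = Nat.card W₂ := by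
    have h := card_hom_trivial_on ↥(W₁ ⊔ W₂) (W₁.subgroupOf (W₁ ⊔ W₂))
    rw [Nat.card_congr (Subgroup.subgroupOfEquivOfLe (le_sup_left : W₁ ≤ W₁ ⊔ W₂)).toEquiv, hcardW, mul_comm (Nat.card W₁)] at h
    exact Nat.eq_of_mul_eq_mul_right hW₁pos h
  set I := {φ : ↥(W₁ ⊔ W₂) →* ℂˣ // ∀ w : ↥(W₁ ⊔ W₂), (w : G) ∈ W₂ → φ w = 1} with hIdef
  set J := {ψ : ↥(W₁ ⊔ W₂) →* ℂˣ // ∀ w : ↥(W₁ ⊔ W₂), (w : G) ∈ W₁ → ψ w = 1} with hJdef
  letI : Fintype I := Fintype.ofFinite _
  letI : Fintype J := Fintype.ofFinite _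
  -- the multiplication map is a bijection
  let mulMap : I × J → (↥(W₁ ⊔ W₂) →* ℂˣ) := fun p => p.1.1 * p.2.1
  have hinj : Function.Injective mulMap := by
    rintro ⟨⟨φ, hφ⟩, ⟨ψ, hψ⟩⟩ ⟨⟨φ', hφ'⟩, ⟨ψ', hψ'⟩⟩ h
    obtain ⟨h1, h2⟩ := mul_eq_mul W₁ W₂ φ φ' ψ ψ' hφ hφ' hψ hψ' h
    subst h1; subst h2; rfl
  have hbij : Function.Bijective mulMap := by
    rw [Fintype.bijective_iff_injective_and_card]
    refine ⟨hinj, ?_⟩
    rw [Fintype.card_prod, ← Nat.card_eq_fintype_card, ← Nat.card_eq_fintype_card,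
      ← Nat.card_eq_fintype_card, hcardI, hcardJ, hcardHom, hcardW]
  let e : I × J ≃ (↥(W₁ ⊔ W₂) →* ℂˣ) := Equiv.ofBijective mulMap hbij
  -- coefficient functions
  let a : (↥(W₁ ⊔ W₂) →* ℂˣ) → ℂ := fun ω => Cfsg.classInner θ (χ ω)
  let F : I → ℂ := fun φ => a φ.1 - a 1
  let Gf : J → ℂ := fun ψ => a ψ.1
  have hFG : ∀ p : I × J, F p.1 + Gf p.2 = a (e p) := by
    rintro ⟨⟨φ, hφ⟩, ⟨ψ, hψ⟩⟩
    show a φ - a 1 + a ψ = a (φ * ψ)
    simp only [a]
    rw [coeff_mul W₁ W₂ χ hχ θ hθ hθV φ ψ hφ hψ]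
    ring
  -- odd cardinalities
  have hmn : Fintype.card I + 2 ≤ Fintype.card J := by
    rw [← Nat.card_eq_fintype_card, ← Nat.card_eq_fintype_card, hcardI, hcardJ]
    rw [hcardW] at hodd
    have h1 : Odd (Nat.card W₁) := (Nat.odd_mul.mp hodd).1
    have h2 : Odd (Nat.card W₂) := (Nat.odd_mul.mp hodd).2
    obtain ⟨k₁, hk₁⟩ := h1
    obtain ⟨k₂, hk₂⟩ := h2
    omega
  have hIpos : 0 < Fintype.card I := by
    rw [← Nat.card_eq_fintype_card, hcardI]; exact hW₁pos
  have hfew' : (Finset.univ.filter (fun p : I × J => F p.1 + Gf p.2 ≠ 0)).card < 2 * Fintype.card I := by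
    have hcongr : Nat.card {p : I × J // F p.1 + Gf p.2 ≠ 0} =
        Nat.card {ω : ↥(W₁ ⊔ W₂) →* ℂˣ // Cfsg.classInner θ (χ ω) ≠ 0} := by
      apply Nat.card_congr
      exact Equiv.subtypeEquiv e (fun p => by rw [hFG p])
    rw [← Fintype.card_subtype, ← Nat.card_eq_fintype_card, hcongr, ← Nat.card_eq_fintype_card (α := I), hcardI]
    exact hfew
  have key := matrix_lemma F Gf hmn hIpos hfew'
  rcases key with h | ⟨j₀, a₀, h⟩ | ⟨i₀, a₀, h⟩
  · left
    intro ω
    obtain ⟨p, rfl⟩ := e.surjective ω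
    have := h p.1 p.2
    rw [hFG p] at this
    exact this
  · right; left
    refine ⟨j₀.1, a₀, ?_⟩
    intro ω
    obtain ⟨⟨⟨φ, hφ⟩, ⟨ψ, hψ⟩⟩, rfl⟩ := e.surjective ω
    have h1 := h ⟨φ, hφ⟩ ⟨ψ, hψ⟩
    have h2 : F ⟨φ, hφ⟩ + Gf ⟨ψ, hψ⟩ = a (e (⟨φ, hφ⟩, ⟨ψ, hψ⟩)) := hFG (⟨φ, hφ⟩, ⟨ψ, hψ⟩)
    rw [h2] at h1
    show a (e (⟨φ, hφ⟩, ⟨ψ, hψ⟩)) = _
    rw [h1]
    have hiff : ((⟨ψ, hψ⟩ : J) = j₀) ↔ (∀ w : ↥(W₁ ⊔ W₂), (w : G) ∈ W₂ → ((e (⟨φ, hφ⟩, ⟨ψ, hψ⟩)) * j₀.1⁻¹) w = 1) := by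
      constructor
      · intro hj w hw
        rw [← hj]
        show ((φ * ψ) * ψ⁻¹) w = 1
        simp only [MonoidHom.mul_apply, MonoidHom.inv_apply, hφ w hw, one_mul]
        exact mul_inv_cancel _
      · intro hall
        apply Subtype.ext
        apply hom_ext_sup
        · intro w hw
          rw [hψ w hw, j₀.2 w hw]
        · intro w hw
          have := hall w hw
          have e1 : ((φ * ψ) * j₀.1⁻¹) w = 1 := this
          simp only [MonoidHom.mul_apply, MonoidHom.inv_apply, hφ w hw, one_mul] at e1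
          exact mul_inv_eq_one.mp e1
    by_cases hj : (⟨ψ, hψ⟩ : J) = j₀
    · rw [if_pos hj, if_pos (hiff.mp hj)]
    · rw [if_neg hj, if_neg (fun hh => hj (hiff.mpr hh))]
  · right; right
    refine ⟨i₀.1, a₀, ?_⟩
    intro ω
    obtain ⟨⟨⟨φ, hφ⟩, ⟨ψ, hψ⟩⟩, rfl⟩ := e.surjective ω
    have h1 := h ⟨φ, hφ⟩ ⟨ψ, hψ⟩
    have h2 : F ⟨φ, hφ⟩ + Gf ⟨ψ, hψ⟩ = a (e (⟨φ, hφ⟩, ⟨ψ, hψ⟩)) := hFG (⟨φ, hφ⟩, ⟨ψ, hψ⟩)
    rw [h2] at h1
    show a (e (⟨φ, hφ⟩, ⟨ψ, hψ⟩)) = _
    rw [h1]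
    have hiff : ((⟨φ, hφ⟩ : I) = i₀) ↔ (∀ w : ↥(W₁ ⊔ W₂), (w : G) ∈ W₁ → ((e (⟨φ, hφ⟩, ⟨ψ, hψ⟩)) * i₀.1⁻¹) w = 1) := by
      constructor
      · intro hi w hw
        rw [← hi]
        show ((φ * ψ) * φ⁻¹) w = 1
        simp only [MonoidHom.mul_apply, MonoidHom.inv_apply, hψ w hw, mul_one]
        exact mul_inv_cancel _
      · intro hall
        apply Subtype.ext
        apply hom_ext_sup
        · intro w hw
          have := hall w hw
          have e1 : ((φ * ψ) * i₀.1⁻¹) w = 1 := this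
          simp only [MonoidHom.mul_apply, MonoidHom.inv_apply, hψ w hw, mul_one] at e1
          exact mul_inv_eq_one.mp e1
        · intro w hw
          rw [hφ w hw, i₀.2 w hw]
    by_cases hi : (⟨φ, hφ⟩ : I) = i₀
    · rw [if_pos hi, if_pos (hiff.mp hi)]
    · rw [if_neg hi, if_neg (fun hh => hi (hiff.mpr hh))]

end Cfsg.Agent.S1507
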