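import Cfsg.Statements.S1508
import Cfsg.Agent.S1503
import Cfsg.Agent.Lib.Helper75_GalConj
import Cfsg.Agent.Lib.Helper3_CharGaloisAct
import Cfsg.Agent.Lib.Helper3_CharEigen
import Cfsg.Agent.Lib.Helper25_CyclicDual

set_option autoImplicit false
set_option linter.style.haveILetI false
open Cfsg

namespace Cfsg.Agent.S1508

open Cfsg.Agent.Lib.Helper3_CharOrtho

/-- Lifting a residue coprime to `d` to one coprime to a multiple `N` of `d`. -/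
theorem exists_coprime_lift (d N : ℕ) [NeZero N] (h : d ∣ N) (x : ℕ) (hx : x.Coprime d) :
    ∃ y : ℕ, y.Coprime N ∧ y ≡ x [MOD d] := by
  obtain ⟨u, hu⟩ := ZMod.unitsMap_surjective h (ZMod.unitOfCoprime x hx)
  refine ⟨(u : ZMod N).val, ZMod.val_coe_unit_coprime u, ?_⟩
  rw [← ZMod.natCast_eq_natCast_iff]
  have h1 := congrArg (fun v : (ZMod d)ˣ => (v : ZMod d)) hu
  simp only [ZMod.unitsMap_def, Units.coe_map, MonoidHom.coe_coe, ZMod.castHom_apply,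
    ZMod.coe_unitOfCoprime] at h1
  rw [ZMod.natCast_val]
  exact h1

variable {G : Type*} [Group G]

theorem exists_V (W₁ W₂ : Subgroup G) (hW : Cfsg.IsSelfNormalizingCyclic W₁ W₂) :
    ∃ v : ↥(W₁ ⊔ W₂), (v : G) ∉ W₁ ∧ (v : G) ∉ W₂ := by
  obtain ⟨h1, h2, hdisj, -, -, -⟩ := hW
  obtain ⟨⟨w₁, hw₁⟩, hw₁1⟩ := (Subgroup.ne_bot_iff_exists_ne_one.mp h1)
  obtain ⟨⟨w₂, hw₂⟩, hw₂1⟩ := (Subgroup.ne_bot_iff_exists_ne_one.mp h2)
  have hw₁1' : w₁ ≠ 1 := fun h => hw₁1 (Subtype.ext h)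
  have hw₂1' : w₂ ≠ 1 := fun h => hw₂1 (Subtype.ext h)
  refine ⟨⟨w₁ * w₂, mul_mem (Subgroup.mem_sup_left hw₁) (Subgroup.mem_sup_right hw₂)⟩, ?_, ?_⟩
  · intro h
    have : w₂ ∈ W₁ ⊓ W₂ := by
      refine Subgroup.mem_inf.mpr ⟨?_, hw₂⟩
      have e : w₂ = w₁⁻¹ * (w₁ * w₂) := by group
      rw [e]; exact mul_mem (inv_mem hw₁) h
    rw [hdisj, Subgroup.mem_bot] at this
    exact hw₂1' this
  · intro h
    have : w₁ ∈ W₁ ⊓ W₂ := by
      refine Subgroup.mem_inf.mpr ⟨hw₁, ?_⟩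
      have e : w₁ = (w₁ * w₂) * w₂⁻¹ := by group
      rw [e]; exact mul_mem h (inv_mem hw₂)
    rw [hdisj, Subgroup.mem_bot] at this
    exact hw₁1' this

/-- Powers coprime to the order stay outside a subgroup. -/
theorem pow_not_mem [Finite G] (K : Subgroup G) (v : G) (hv : v ∉ K) (m : ℕ)
    (hm : m.Coprime (orderOf v)) : v ^ m ∉ K := by
  intro h
  obtain ⟨k, hk⟩ := exists_pow_eq_self_of_coprime hm
  apply hv
  rw [← hk]
  exact pow_mem h k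

/-- A linear character of `W` that is constant `δ = ±1` on `V` is trivial, and `δ = 1`,
when `|W|` is odd. -/
theorem lin_trivial_of_const [Finite G] (W₁ W₂ : Subgroup G)
    (hW : Cfsg.IsSelfNormalizingCyclic W₁ W₂) (hodd : Odd (Nat.card ↥(W₁ ⊔ W₂)))
    (lam : ↥(W₁ ⊔ W₂) →* ℂˣ) (δ : ℂ) (hδ : δ = 1 ∨ δ = -1)
    (hlam : ∀ v : ↥(W₁ ⊔ W₂), (v : G) ∉ W₁ → (v : G) ∉ W₂ → ((lam v : ℂˣ) : ℂ) = δ) :
    δ = 1 ∧ lam = 1 := by
  obtain ⟨v₀, hv₀1, hv₀2⟩ := exists_V W₁ W₂ hW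
  have hpowW : ∀ w : ↥(W₁ ⊔ W₂), ((lam w : ℂˣ) : ℂ) ^ Nat.card ↥(W₁ ⊔ W₂) = 1 := by
    intro w
    have : (lam w) ^ Nat.card ↥(W₁ ⊔ W₂) = 1 := by
      rw [← map_pow, pow_card_eq_one', map_one]
    have := congrArg (fun u : ℂˣ => (u : ℂ)) this
    simpa using this
  have hδ1 : δ = 1 := by
    rcases hδ with h | h
    · exact h
    · exfalso
      have h1 := hpowW v₀
      rw [hlam v₀ hv₀1 hv₀2, h, Odd.neg_one_pow hodd] at h1
      norm_num at h1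
  refine ⟨hδ1, ?_⟩
  subst hδ1
  have hlam' : ∀ v : ↥(W₁ ⊔ W₂), (v : G) ∉ W₁ → (v : G) ∉ W₂ → lam v = 1 := by
    intro v h1 h2
    apply Units.ext
    rw [hlam v h1 h2]; rfl
  obtain ⟨hne1, hne2, hdisj, -, -, -⟩ := hW
  -- odd order: squares of non-identity elements are non-identity
  have hsq : ∀ w : ↥(W₁ ⊔ W₂), w ≠ 1 → w ^ 2 ≠ 1 := by
    intro w hw h2
    have hdvd : orderOf w ∣ 2 := orderOf_dvd_of_pow_eq_one h2
    have hdvd' : orderOf w ∣ Nat.card ↥(W₁ ⊔ W₂) := orderOf_dvd_natCard w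
    have hcop : Nat.Coprime 2 (Nat.card ↥(W₁ ⊔ W₂)) := by
      rw [Nat.coprime_two_left]; exact hodd
    have : orderOf w = 1 := Nat.eq_one_of_dvd_coprimes hcop hdvd hdvd'
    exact hw (orderOf_eq_one_iff.mp this)
  -- general step: if a ∈ A \ 1 and some b ∈ B \ 1 with A ∩ B = 1 ...
  have key : ∀ (A B : Subgroup G), A ≤ W₁ ⊔ W₂ → B ≤ W₁ ⊔ W₂ → A ⊓ B = ⊥ → B ≠ ⊥ →
      (∀ v : ↥(W₁ ⊔ W₂), (v : G) ∉ A → (v : G) ∉ B → lam v = 1) →
      ∀ w : ↥(W₁ ⊔ W₂), (w : G) ∈ A → lam w = 1 := by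
    intro A B hA hB hAB hBne hAB1 w hwA
    by_cases hw1 : w = 1
    · rw [hw1, map_one]
    obtain ⟨⟨b, hb⟩, hb1⟩ := (Subgroup.ne_bot_iff_exists_ne_one.mp hBne)
    have hb1' : b ≠ 1 := fun h => hb1 (Subtype.ext h)
    set b' : ↥(W₁ ⊔ W₂) := ⟨b, hB hb⟩ with hb'
    have hnot : ∀ a : ↥(W₁ ⊔ W₂), (a : G) ∈ A → a ≠ 1 →
        ((a * b' : ↥(W₁ ⊔ W₂)) : G) ∉ A ∧ ((a * b' : ↥(W₁ ⊔ W₂)) : G) ∉ B := by
      intro a haA ha1
      constructor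
      · intro h
        have : b ∈ A ⊓ B := by
          refine Subgroup.mem_inf.mpr ⟨?_, hb⟩
          have e : b = (a : G)⁻¹ * ((a * b' : ↥(W₁ ⊔ W₂)) : G) := by
            simp [hb']
          rw [e]; exact mul_mem (inv_mem haA) h
        rw [hAB, Subgroup.mem_bot] at this
        exact hb1' this
      · intro h
        have : (a : G) ∈ A ⊓ B := by
          refine Subgroup.mem_inf.mpr ⟨haA, ?_⟩
          have e : (a : G) = ((a * b' : ↥(W₁ ⊔ W₂)) : G) * b⁻¹ := by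
            simp [hb']
          rw [e]; exact mul_mem h (inv_mem hb)
        rw [hAB, Subgroup.mem_bot] at this
        exact ha1 (Subtype.ext this)
    have h1 := hAB1 _ (hnot w hwA hw1).1 (hnot w hwA hw1).2
    have hw2A : ((w ^ 2 : ↥(W₁ ⊔ W₂)) : G) ∈ A := by
      rw [Subgroup.coe_pow]; exact pow_mem hwA 2
    have h2 := hAB1 _ (hnot (w ^ 2) hw2A (hsq w hw1)).1 (hnot (w ^ 2) hw2A (hsq w hw1)).2
    rw [map_mul] at h1 h2
    rw [map_pow] at h2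
    -- lam w * lam b' = 1, (lam w)^2 * lam b' = 1
    have : lam w = (lam w ^ 2 * lam b') * (lam w * lam b')⁻¹ := by
      rw [mul_inv_rev, pow_two]
      group
    rw [this, h1, h2]; simp
  apply Cfsg.Agent.Lib.Helper25_CyclicDual.hom_ext_sup
  · intro w hw
    rw [MonoidHom.one_apply]
    exact key W₁ W₂ le_sup_left le_sup_right hdisj hne2 hlam' w hw
  · intro w hw
    rw [MonoidHom.one_apply]
    refine key W₂ W₁ le_sup_right le_sup_left (by rw [inf_comm]; exact hdisj) hne1 ?_ w hw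
    intro v h2 h1
    exact hlam' v h1 h2

theorem signed_irr [Fintype G] (W₁ W₂ : Subgroup G) (χ : (↥(W₁ ⊔ W₂) →* ℂˣ) → (G → ℂ))
    (hχ : Cfsg.IsCyclicTIFamily W₁ W₂ χ) (ω : ↥(W₁ ⊔ W₂) →* ℂˣ) :
    ∃ ε : ℂ, (ε = 1 ∨ ε = -1) ∧ ∃ μ : G → ℂ, Cfsg.IsIrrCharacter G μ ∧ χ ω = ε • μ := by
  rcases hχ.irr_or_neg ω with h | h
  · exact ⟨1, Or.inl rfl, χ ω, h, by simp⟩
  · exact ⟨-1, Or.inr rfl, -χ ω, h, by simp⟩

/-- Galois equivariance of a cyclic TI family. -/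
theorem gal_equiv [Fintype G] (W₁ W₂ : Subgroup G) (hW : Cfsg.IsSelfNormalizingCyclic W₁ W₂)
    (hodd : Odd (Nat.card ↥(W₁ ⊔ W₂))) (χ : (↥(W₁ ⊔ W₂) →* ℂˣ) → (G → ℂ))
    (hχ : Cfsg.IsCyclicTIFamily W₁ W₂ χ) (ω : ↥(W₁ ⊔ W₂) →* ℂˣ) (m : ℕ)
    (hm : m.Coprime (Nat.card G)) : ∀ x : G, χ ω (x ^ m) = χ (ω ^ m) x := by
  classical
  obtain ⟨v₀, hv₀1, hv₀2⟩ := exists_V W₁ W₂ hW
  obtain ⟨ε, hε, μ, hμ, hχω⟩ := signed_irr W₁ W₂ χ hχ ω
  have hθ : Cfsg.IsIrrCharacter G (fun x => μ (x ^ m)) :=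
    Cfsg.Agent.Lib.Helper75_GalConj.isIrrCharacter_powMap hμ m hm
  have hVpow : ∀ v : ↥(W₁ ⊔ W₂), (v : G) ∉ W₁ → (v : G) ∉ W₂ →
      ((v ^ m : ↥(W₁ ⊔ W₂)) : G) ∉ W₁ ∧ ((v ^ m : ↥(W₁ ⊔ W₂)) : G) ∉ W₂ := by
    intro v h1 h2
    have hcop : m.Coprime (orderOf (v : G)) :=
      Nat.Coprime.coprime_dvd_right (orderOf_dvd_natCard _) hm
    rw [Subgroup.coe_pow]
    exact ⟨pow_not_mem W₁ v h1 m hcop, pow_not_mem W₂ v h2 m hcop⟩
  have hχV : ∀ v : ↥(W₁ ⊔ W₂), (v : G) ∉ W₁ → (v : G) ∉ W₂ →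
      χ ω ((v : G) ^ m) = ((ω (v ^ m) : ℂˣ) : ℂ) := by
    intro v h1 h2
    have := hχ.eq_on ω (v ^ m) (hVpow v h1 h2).1 (hVpow v h1 h2).2
    rwa [Subgroup.coe_pow] at this
  have hex : ∃ ω', Cfsg.classInner (fun x => μ (x ^ m)) (χ ω') ≠ 0 := by
    by_contra hcon
    have hcon' : ∀ ω', Cfsg.classInner (fun x => μ (x ^ m)) (χ ω') = 0 := by
      intro ω'
      by_contra h
      exact hcon ⟨ω', h⟩
    have h0 : μ ((v₀ : G) ^ m) = 0 :=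
      Cfsg.Agent.S1503.result W₁ W₂ hW χ hχ _ hθ hcon' v₀ hv₀1 hv₀2
    have h1 := hχV v₀ hv₀1 hv₀2
    rw [hχω] at h1
    have h2 : (ε • μ) ((v₀ : G) ^ m) = ε * μ ((v₀ : G) ^ m) := rfl
    rw [h2, h0, mul_zero] at h1
    exact (Units.ne_zero _) h1.symm
  obtain ⟨ω', hω'⟩ := hex
  obtain ⟨ε', hε', μ', hμ', hχω'⟩ := signed_irr W₁ W₂ χ hχ ω'
  have hθμ' : (fun x => μ (x ^ m)) = μ' := by
    by_contra hne
    apply hω'
    rw [hχω', classInner_smul_right, classInner_of_isIrrCharacter_of_ne hθ hμ' hne, mul_zero]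
  have hrel : ∀ x, χ ω (x ^ m) = (ε * ε') * χ ω' x := by
    intro x
    have h1 : χ ω (x ^ m) = ε * μ (x ^ m) := by rw [hχω]; rfl
    have h2 : μ (x ^ m) = μ' x := congrFun hθμ' x
    have h3 : χ ω' x = ε' * μ' x := by rw [hχω']; rfl
    have h4 : ε' * ε' = 1 := by rcases hε' with h | h <;> rw [h] <;> norm_num
    rw [h1, h2, h3]
    linear_combination (-(ε * μ' x)) * h4
  have hδ : ε * ε' = 1 ∨ ε * ε' = -1 := by
    rcases hε with h | h <;> rcases hε' with h' | h' <;> rw [h, h'] <;> norm_num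
  have hlam : ∀ v : ↥(W₁ ⊔ W₂), (v : G) ∉ W₁ → (v : G) ∉ W₂ →
      (((ω ^ m * ω'⁻¹) v : ℂˣ) : ℂ) = ε * ε' := by
    intro v h1 h2
    have e1 := hχV v h1 h2
    have e2 : χ ω' v = ((ω' v : ℂˣ) : ℂ) := hχ.eq_on ω' v h1 h2
    have e3 := hrel (v : G)
    rw [e1, e2, map_pow] at e3
    rw [MonoidHom.mul_apply, MonoidHom.inv_apply, MonoidHom.pow_apply, Units.val_mul,
      Units.val_inv_eq_inv_val]
    have hne : ((ω' v : ℂˣ) : ℂ) ≠ 0 := Units.ne_zero _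
    field_simp
    rw [e3]; ring
  obtain ⟨hδ1, hlam1⟩ := lin_trivial_of_const W₁ W₂ hW hodd (ω ^ m * ω'⁻¹) (ε * ε') hδ hlam
  have hω'eq : ω' = ω ^ m := (mul_inv_eq_one.mp hlam1).symm
  intro x
  rw [hrel x, hδ1, one_mul, hω'eq]

theorem result {G : Type*} [Group G] [Fintype G] (W₁ W₂ : Subgroup G) (hW : Cfsg.IsSelfNormalizingCyclic W₁ W₂) (hodd : Odd (Nat.card ↥(W₁ ⊔ W₂))) (χ : (↥(W₁ ⊔ W₂) →* ℂˣ) → (G → ℂ)) (hχ : Cfsg.IsCyclicTIFamily W₁ W₂ χ) (ω : ↥(W₁ ⊔ W₂) →* ℂˣ) (g : G) (hg : Nat.Coprime (orderOf g) (orderOf ω)) : ∃ n : ℤ, χ ω g = n := by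
  classical
  haveI : NeZero (Nat.card G) := ⟨Nat.card_pos.ne'⟩
  have hinv : ∀ m : ℕ, m.Coprime (Nat.card G) → χ ω (g ^ m) = χ ω g := by
    intro m hm
    have ha : orderOf g ∣ Nat.card G := orderOf_dvd_natCard g
    have hb : orderOf ω ∣ Nat.card G := by
      have h1 : ω ^ Nat.card ↥(W₁ ⊔ W₂) = 1 := by
        ext w
        rw [MonoidHom.pow_apply, ← map_pow, pow_card_eq_one', map_one]
        rfl
      exact dvd_trans (orderOf_dvd_of_pow_eq_one h1) (Subgroup.card_subgroup_dvd_card _)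
    have hab : orderOf g * orderOf ω ∣ Nat.card G := Nat.Coprime.mul_dvd_of_dvd_of_dvd hg ha hb
    obtain ⟨m₀, h1, h2⟩ := Nat.chineseRemainder hg 1 m
    have hm₀ : (m₀ : ℕ).Coprime (orderOf g * orderOf ω) := by
      apply Nat.Coprime.mul_right
      · have h3 : Nat.gcd (m₀ : ℕ) (orderOf g) = Nat.gcd 1 (orderOf g) := Nat.ModEq.gcd_eq h1
        have h4 : Nat.gcd 1 (orderOf g) = 1 := Nat.gcd_one_left _
        exact h3.trans h4
      · have h3 : Nat.gcd (m₀ : ℕ) (orderOf ω) = Nat.gcd m (orderOf ω) := Nat.ModEq.gcd_eq h2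
        have h4 : Nat.gcd m (orderOf ω) = 1 := Nat.Coprime.coprime_dvd_right hb hm
        exact h3.trans h4
    obtain ⟨m', hm'N, hm'⟩ := exists_coprime_lift (orderOf g * orderOf ω) (Nat.card G) hab m₀ hm₀
    have hm'a : m' ≡ 1 [MOD orderOf g] := (Nat.ModEq.of_mul_right _ hm').trans h1
    have hm'b : m' ≡ m [MOD orderOf ω] := (Nat.ModEq.of_mul_left _ hm').trans h2
    have e1 : ω ^ m = ω ^ m' := by
      rw [← pow_mod_orderOf ω m, ← pow_mod_orderOf ω m']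
      have : m' % orderOf ω = m % orderOf ω := hm'b
      rw [this]
    have e2 : g ^ m' = g := by
      have : g ^ m' = g ^ 1 := pow_eq_pow_iff_modEq.mpr hm'a
      simpa using this
    calc χ ω (g ^ m) = χ (ω ^ m) g := gal_equiv W₁ W₂ hW hodd χ hχ ω m hm g
      _ = χ (ω ^ m') g := by rw [e1]
      _ = χ ω (g ^ m') := (gal_equiv W₁ W₂ hW hodd χ hχ ω m' hm'N g).symm
      _ = χ ω g := by rw [e2]
  obtain ⟨ε, hε, μ, hμ, hχω⟩ := signed_irr W₁ W₂ χ hχ ω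
  obtain ⟨d, ρ, hirr, rfl⟩ := hμ
  have hε0 : ε ≠ 0 := by rcases hε with h | h <;> rw [h] <;> norm_num
  have hinv' : ∀ m : ℕ, m.Coprime (Nat.card G) → ρ.character (g ^ m) = ρ.character g := by
    intro m hm
    have h1 := hinv m hm
    rw [hχω] at h1
    have h2 : ε * ρ.character (g ^ m) = ε * ρ.character g := h1
    exact mul_left_cancel₀ hε0 h2
  obtain ⟨q, hq⟩ := Cfsg.Agent.Lib.Helper3_CharGaloisAct.exists_rat_of_forall_pow ρ g hinv'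
  have hint : IsIntegral ℤ (ρ.character g) := Cfsg.Agent.Lib.Helper3_CharEigen.isIntegral_char ρ g
  rw [hq] at hint
  have h3 : IsIntegral ℤ q := by
    have : ((q : ℚ) : ℂ) = algebraMap ℚ ℂ q := rfl
    rw [this] at hint
    exact (isIntegral_algebraMap_iff (algebraMap ℚ ℂ).injective).1 hint
  obtain ⟨n, hn⟩ := IsIntegrallyClosed.isIntegral_iff.mp h3
  have hval : ρ.character g = (n : ℂ) := by
    rw [hq, ← hn]
    simp
  have hχg : χ ω g = ε * ρ.character g := by rw [hχω]; rfl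
  rcases hε with h | h
  · exact ⟨n, by rw [hχg, h, hval, one_mul]⟩
  · exact ⟨-n, by rw [hχg, h, hval]; push_cast; ring⟩

end Cfsg.Agent.S1508
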