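import Cfsg.Statements.S1510
import Mathlib.GroupTheory.Complement
import Mathlib.GroupTheory.SpecificGroups.Cyclic

set_option autoImplicit false
open Cfsg
open scoped Pointwise

namespace Cfsg.Agent.S1510

/-- The `π`-part trick: if `a` and `u` commute, `a ^ m = 1`, `u ^ n = 1` and `s * m + t * n = 1`
then `(a * u) ^ (t * n) = a`. -/
theorem zpow_part {G : Type*} [Group G] (a u : G) (hcomm : a * u = u * a) (m n : ℕ) (s t : ℤ)
    (ha : a ^ m = 1) (hu : u ^ n = 1) (hst : s * m + t * n = 1) : (a * u) ^ (t * n) = a := by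
  have hc : Commute a u := hcomm
  rw [hc.mul_zpow]
  have h1 : u ^ (t * (n : ℤ)) = 1 := by
    rw [mul_comm, zpow_mul, zpow_natCast, hu, one_zpow]
  have h2 : a ^ (t * (n : ℤ)) = a := by
    have e : t * (n : ℤ) = 1 - (m : ℤ) * s := by linarith
    rw [e, zpow_sub, zpow_one, zpow_mul, zpow_natCast, ha, one_zpow, inv_one, mul_one]
  rw [h1, h2, mul_one]

theorem pow_card_of_mem {G : Type*} [Group G] [Finite G] (K : Subgroup G) (x : G) (hx : x ∈ K) :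
    x ^ Nat.card K = 1 := by
  have h1 : (⟨x, hx⟩ : K) ^ Nat.card K = 1 := pow_card_eq_one'
  have h2 := congrArg Subtype.val h1
  simp only [Subgroup.coe_pow, Subgroup.coe_one] at h2
  exact h2

theorem conj_zpow' {G : Type*} [Group G] (g y : G) (k : ℤ) : g * y ^ k * g⁻¹ = (g * y * g⁻¹) ^ k := by
  have := map_zpow (MulAut.conj g) y k
  simp only [MulAut.conj_apply] at this
  exact this

theorem result {L : Type*} [Group L] [Fintype L] (K W₁ W₂ : Subgroup L) [hK : K.Normal] (hKW₁ : K ⊓ W₁ = ⊥) (hKW₁' : K ⊔ W₁ = ⊤) (hW₁ : W₁ ≠ ⊥) (hW₁c : IsCyclic W₁) (hHall : Nat.Coprime (Nat.card W₁) W₁.index) (hW₂ : W₂ ≠ ⊥) (hW₂c : IsCyclic W₂) (hW₂K : W₂ ≤ K) (hC : ∀ x ∈ W₁, x ≠ 1 → K ⊓ Subgroup.centralizer ({x} : Set L) = W₂) (hodd : Odd (Nat.card ↥(W₁ ⊔ W₂))) : Cfsg.IsSelfNormalizingCyclic W₁ W₂ := by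
  -- |K| = index of W₁
  have hcompl : Subgroup.IsComplement' K W₁ := by
    apply Subgroup.isComplement'_of_disjoint_and_mul_eq_univ
    · rw [disjoint_iff]; exact hKW₁
    · rw [← Subgroup.normal_mul, hKW₁']; rfl
  have hidx : W₁.index = Nat.card K := hcompl.index_eq_card
  have hcop : Nat.Coprime (Nat.card W₁) (Nat.card K) := hidx ▸ hHall
  obtain ⟨s, t, hst⟩ := (Nat.isCoprime_iff_coprime.mpr hcop)
  -- commutation
  have hcomm : ∀ a ∈ W₁, ∀ b ∈ W₂, a * b = b * a := by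
    intro a ha b hb
    by_cases h1 : a = 1
    · rw [h1]; simp
    · have hb' : b ∈ K ⊓ Subgroup.centralizer ({a} : Set L) := by rw [hC a ha h1]; exact hb
      exact (Subgroup.mem_centralizer_iff.mp hb'.2) a rfl
  have hdisj : W₁ ⊓ W₂ = ⊥ := by
    apply le_antisymm _ bot_le
    rw [← hKW₁]
    exact le_inf (le_trans inf_le_right hW₂K) inf_le_left
  -- the power trick for elements of W
  have hpart : ∀ w₁ ∈ W₁, ∀ w₂ ∈ W₂, (w₁ * w₂) ^ (t * (Nat.card K : ℤ)) = w₁ := by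
    intro w₁ h₁ w₂ h₂
    exact zpow_part w₁ w₂ (hcomm w₁ h₁ w₂ h₂) (Nat.card W₁) (Nat.card K) s t
      (pow_card_of_mem W₁ w₁ h₁) (pow_card_of_mem K w₂ (hW₂K h₂)) hst
  have hpart2 : ∀ w₁ ∈ W₁, ∀ w₂ ∈ W₂, (w₁ * w₂) ^ (s * (Nat.card W₁ : ℤ)) = w₂ := by
    intro w₁ h₁ w₂ h₂
    have h := zpow_part w₂ w₁ (hcomm w₁ h₁ w₂ h₂).symm (Nat.card K) (Nat.card W₁) t s
      (pow_card_of_mem K w₂ (hW₂K h₂)) (pow_card_of_mem W₁ w₁ h₁) (by linarith)
    rw [← (hcomm w₁ h₁ w₂ h₂)] at h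
    exact h
  -- generators
  obtain ⟨⟨g₁, hg₁W⟩, hg₁⟩ := hW₁c.exists_generator
  obtain ⟨⟨g₂, hg₂W⟩, hg₂⟩ := hW₂c.exists_generator
  have hW₁z : W₁ = Subgroup.zpowers g₁ := by
    apply le_antisymm
    · intro x hx
      have := hg₁ ⟨x, hx⟩
      obtain ⟨k, hk⟩ := Subgroup.mem_zpowers_iff.mp this
      refine Subgroup.mem_zpowers_iff.mpr ⟨k, ?_⟩
      have := congrArg Subtype.val hk
      simpa using this
    · exact Subgroup.zpowers_le.mpr hg₁W
  have hW₂z : W₂ = Subgroup.zpowers g₂ := by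
    apply le_antisymm
    · intro x hx
      have := hg₂ ⟨x, hx⟩
      obtain ⟨k, hk⟩ := Subgroup.mem_zpowers_iff.mp this
      refine Subgroup.mem_zpowers_iff.mpr ⟨k, ?_⟩
      have := congrArg Subtype.val hk
      simpa using this
    · exact Subgroup.zpowers_le.mpr hg₂W
  have hWz : W₁ ⊔ W₂ = Subgroup.zpowers (g₁ * g₂) := by
    apply le_antisymm
    · apply sup_le
      · rw [hW₁z]
        apply Subgroup.zpowers_le.mpr
        have h : (g₁ * g₂) ^ (t * (Nat.card K : ℤ)) ∈ Subgroup.zpowers (g₁ * g₂) :=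
          Subgroup.zpow_mem_zpowers _ _
        rwa [hpart g₁ hg₁W g₂ hg₂W] at h
      · rw [hW₂z]
        apply Subgroup.zpowers_le.mpr
        have h : (g₁ * g₂) ^ (s * (Nat.card W₁ : ℤ)) ∈ Subgroup.zpowers (g₁ * g₂) :=
          Subgroup.zpow_mem_zpowers _ _
        rwa [hpart2 g₁ hg₁W g₂ hg₂W] at h
    · apply Subgroup.zpowers_le.mpr
      exact Subgroup.mul_mem _ (Subgroup.mem_sup_left hg₁W) (Subgroup.mem_sup_right hg₂W)
  have hWform : ∀ x ∈ W₁ ⊔ W₂, ∃ w₁ ∈ W₁, ∃ w₂ ∈ W₂, x = w₁ * w₂ := by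
    intro x hx
    rw [hWz] at hx
    obtain ⟨j, rfl⟩ := Subgroup.mem_zpowers_iff.mp hx
    refine ⟨g₁ ^ j, W₁.zpow_mem hg₁W j, g₂ ^ j, W₂.zpow_mem hg₂W j, ?_⟩
    have hc : Commute g₁ g₂ := hcomm g₁ hg₁W g₂ hg₂W
    exact hc.mul_zpow j
  have hWcomm : ∀ x ∈ W₁ ⊔ W₂, ∀ y ∈ W₁ ⊔ W₂, x * y = y * x := by
    intro x hx y hy
    rw [hWz] at hx hy
    obtain ⟨i, rfl⟩ := Subgroup.mem_zpowers_iff.mp hx
    obtain ⟨j, rfl⟩ := Subgroup.mem_zpowers_iff.mp hy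
    rw [← zpow_add, ← zpow_add, add_comm]
  refine ⟨hW₁, hW₂, hdisj, hcomm, ?_, ?_⟩
  · rw [hWz]
    infer_instance
  · intro X hX hXne
    apply le_antisymm
    · intro g hg
      rw [Subgroup.mem_set_normalizer_iff] at hg
      obtain ⟨x, hxX⟩ := hXne
      obtain ⟨hxW, hxn⟩ := hX hxX
      have hx₁ : x ∉ W₁ := fun h => hxn (Or.inl h)
      have hx₂ : x ∉ W₂ := fun h => hxn (Or.inr h)
      obtain ⟨w₁, hw₁, w₂, hw₂, rfl⟩ := hWform x hxW
      have hw₁ne : w₁ ≠ 1 := by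
        intro h
        apply hx₂
        rw [h, one_mul]; exact hw₂
      have hyX : g * (w₁ * w₂) * g⁻¹ ∈ X := (hg _).mp hxX
      obtain ⟨v₁, hv₁, v₂, hv₂, hy⟩ := hWform _ (hX hyX).1
      -- g w₁ g⁻¹ = v₁
      have hgw : g * w₁ * g⁻¹ = v₁ := by
        calc g * w₁ * g⁻¹ = g * (w₁ * w₂) ^ (t * (Nat.card K : ℤ)) * g⁻¹ := by rw [hpart w₁ hw₁ w₂ hw₂]
          _ = (g * (w₁ * w₂) * g⁻¹) ^ (t * (Nat.card K : ℤ)) := conj_zpow' _ _ _
          _ = (v₁ * v₂) ^ (t * (Nat.card K : ℤ)) := by rw [hy]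
          _ = v₁ := hpart v₁ hv₁ v₂ hv₂
      -- decompose g = k₀ * w
      have hgtop : g ∈ K ⊔ W₁ := by rw [hKW₁']; exact Subgroup.mem_top g
      have hgmul : g ∈ (K : Set L) * (W₁ : Set L) := by
        rw [← Subgroup.normal_mul]; exact hgtop
      obtain ⟨k₀, hk₀, w, hw, rfl⟩ := hgmul
      have hk₀K : k₀ ∈ K := hk₀
      have hwW : w ∈ W₁ := hw
      have hww : w * w₁ * w⁻¹ = w₁ := by
        have := hWcomm w (Subgroup.mem_sup_left hwW) w₁ (Subgroup.mem_sup_left hw₁)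
        rw [this]; group
      have hk₀w₁ : k₀ * w₁ * k₀⁻¹ = v₁ := by
        rw [← hgw]
        calc k₀ * w₁ * k₀⁻¹ = k₀ * (w * w₁ * w⁻¹) * k₀⁻¹ := by rw [hww]
          _ = k₀ * w * w₁ * (k₀ * w)⁻¹ := by group
      have hc1 : k₀ * w₁ * k₀⁻¹ * w₁⁻¹ ∈ W₁ := by
        rw [hk₀w₁]
        exact W₁.mul_mem hv₁ (W₁.inv_mem hw₁)
      have hc2 : k₀ * w₁ * k₀⁻¹ * w₁⁻¹ ∈ K := by
        have : k₀ * w₁ * k₀⁻¹ * w₁⁻¹ = k₀ * (w₁ * k₀⁻¹ * w₁⁻¹) := by group
        rw [this]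
        exact K.mul_mem hk₀K (hK.conj_mem _ (K.inv_mem hk₀K) w₁)
      have hc3 : k₀ * w₁ * k₀⁻¹ * w₁⁻¹ = 1 := by
        have : k₀ * w₁ * k₀⁻¹ * w₁⁻¹ ∈ K ⊓ W₁ := ⟨hc2, hc1⟩
        rw [hKW₁] at this
        exact Subgroup.mem_bot.mp this
      have hk₀cent : k₀ ∈ K ⊓ Subgroup.centralizer ({w₁} : Set L) := by
        refine ⟨hk₀K, ?_⟩
        show k₀ ∈ Subgroup.centralizer ({w₁} : Set L)
        rw [Subgroup.mem_centralizer_iff]
        intro h hh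
        have : h = w₁ := hh
        subst this
        calc h * k₀ = (k₀ * h * k₀⁻¹ * h⁻¹)⁻¹ * (k₀ * h) := by group
          _ = k₀ * h := by rw [hc3]; simp
      rw [hC w₁ hw₁ hw₁ne] at hk₀cent
      exact Subgroup.mul_mem _ (Subgroup.mem_sup_right hk₀cent) (Subgroup.mem_sup_left hwW)
    · intro w hw
      rw [Subgroup.mem_set_normalizer_iff]
      intro n
      constructor
      · intro hn
        have : w * n * w⁻¹ = n := by
          rw [hWcomm w hw n (hX hn).1]; group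
        rw [this]; exact hn
      · intro hn
        have hy := (hX hn).1
        have : w * n * w⁻¹ = n := by
          have h1 : w⁻¹ * (w * n * w⁻¹) = (w * n * w⁻¹) * w⁻¹ :=
            hWcomm _ (Subgroup.inv_mem _ hw) _ hy
          have h2 : n * w⁻¹ = w * n * w⁻¹ * w⁻¹ := by
            rw [← h1]; group
          have h3 : n = w * n * w⁻¹ := by
            have := congrArg (· * w) h2
            simpa using this
          exact h3.symm
        rw [this] at hn; exact hn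

end Cfsg.Agent.S1510
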