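import Cfsg.Statements.S1512
import Cfsg.Agent.S1496

set_option autoImplicit false
open Cfsg

namespace Cfsg.Agent.S1512

/-- Every `x`-invariant conjugacy class of `K` meets `W₂ = C_K(x)`. -/
theorem exists_rep_in_cent {L : Type*} [Group L] [Finite L] (K W₂ : Subgroup L) [hK : K.Normal]
    (x : L) (hx1 : x ≠ 1) (hx : Nat.Coprime (orderOf x) (Nat.card K))
    (hC : ∀ y ∈ Subgroup.zpowers x, y ≠ 1 → K ⊓ Subgroup.centralizer ({y} : Set L) = W₂)
    (C : ConjClasses K)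
    (hinv : ConjClasses.map (MulEquiv.toMonoidHom ((MulAut.conjNormal x : MulAut K))) C = C) :
    ∃ (w : L) (_ : w ∈ W₂) (hwK : w ∈ K), ConjClasses.mk (⟨w, hwK⟩ : K) = C := by
  obtain ⟨k, rfl⟩ := ConjClasses.exists_rep C
  have h1 : IsConj ((MulAut.conjNormal x : MulAut K) k) k := by
    rw [← ConjClasses.mk_eq_mk_iff_isConj]
    exact hinv
  obtain ⟨u, hu⟩ := isConj_iff.mp h1
  -- in L : u (x k x⁻¹) u⁻¹ = k
  have hu' : (u : L) * (x * (k : L) * x⁻¹) * (u : L)⁻¹ = (k : L) := by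
    have := congrArg Subtype.val hu
    simpa [MulAut.conjNormal_apply] using this
  have hxn : x ∈ Subgroup.normalizer (K : Set L) := by
    have : Subgroup.normalizer (K : Set L) = ⊤ := Subgroup.normalizer_eq_top K
    rw [this]; exact Subgroup.mem_top x
  obtain ⟨v, hv, c, hc, hcx, hvc⟩ := Cfsg.Agent.S1496.result K x hxn hx (u : L) u.2
  -- k' = v k v⁻¹ commutes with c x
  have hk' : (c * x) * (v * (k : L) * v⁻¹) * (c * x)⁻¹ = v * (k : L) * v⁻¹ := by
    rw [← hvc]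
    calc v * ((u : L) * x) * v⁻¹ * (v * (k : L) * v⁻¹) * (v * ((u : L) * x) * v⁻¹)⁻¹
        = v * ((u : L) * (x * (k : L) * x⁻¹) * (u : L)⁻¹) * v⁻¹ := by group
      _ = v * (k : L) * v⁻¹ := by rw [hu']
  -- x is a power of c x
  obtain ⟨j, hj1, hj0⟩ := Nat.chineseRemainder hx 1 0
  have hxj : (c * x) ^ (j : ℕ) = x := by
    have hcomm : Commute c x := hcx
    rw [hcomm.mul_pow]
    have e1 : x ^ (j : ℕ) = x := by
      have : x ^ (j : ℕ) = x ^ 1 := pow_eq_pow_iff_modEq.mpr hj1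
      simpa using this
    have e2 : c ^ (j : ℕ) = 1 := by
      obtain ⟨t, ht⟩ : Nat.card K ∣ j := (Nat.modEq_zero_iff_dvd).mp hj0
      rw [ht, pow_mul, Cfsg.Agent.S1496.pow_card_of_mem K c hc, one_pow]
    rw [e1, e2, one_mul]
  have hcomm2 : Commute (c * x) (v * (k : L) * v⁻¹) := by
    have : (c * x) * (v * (k : L) * v⁻¹) = (v * (k : L) * v⁻¹) * (c * x) := by
      calc (c * x) * (v * (k : L) * v⁻¹)
          = (c * x) * (v * (k : L) * v⁻¹) * (c * x)⁻¹ * (c * x) := by group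
        _ = (v * (k : L) * v⁻¹) * (c * x) := by rw [hk']
    exact this
  have hcomm3 : Commute x (v * (k : L) * v⁻¹) := by
    rw [← hxj]
    exact hcomm2.pow_left j
  have hkK : v * (k : L) * v⁻¹ ∈ K := mul_mem (mul_mem hv k.2) (inv_mem hv)
  have hmem : v * (k : L) * v⁻¹ ∈ K ⊓ Subgroup.centralizer ({x} : Set L) := by
    refine Subgroup.mem_inf.mpr ⟨hkK, ?_⟩
    rw [Subgroup.mem_centralizer_iff]
    intro y hy
    have : y = x := hy
    subst this
    exact hcomm3.eq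
  rw [hC x (Subgroup.mem_zpowers x) hx1] at hmem
  refine ⟨v * (k : L) * v⁻¹, hmem, hkK, ?_⟩
  rw [ConjClasses.mk_eq_mk_iff_isConj, isConj_iff]
  refine ⟨⟨v, hv⟩⁻¹, ?_⟩
  apply Subtype.ext
  simp only [Subgroup.coe_mul, Subgroup.coe_inv, inv_inv]
  group

theorem result {L : Type*} [Group L] [Finite L] (K W₂ : Subgroup L) [hK : K.Normal] (x : L) (hx1 : x ≠ 1) (hx : Nat.Coprime (orderOf x) (Nat.card K)) (hC : ∀ y ∈ Subgroup.zpowers x, y ≠ 1 → K ⊓ Subgroup.centralizer ({y} : Set L) = W₂) : Nat.card {C : ConjClasses K // ConjClasses.map (MulEquiv.toMonoidHom ((MulAut.conjNormal x : MulAut K))) C = C} ≤ Nat.card W₂ := by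
  classical
  have key := exists_rep_in_cent K W₂ x hx1 hx hC
  choose f hf1 hf2 hf3 using key
  let F : {C : ConjClasses K // ConjClasses.map
      (MulEquiv.toMonoidHom ((MulAut.conjNormal x : MulAut K))) C = C} → W₂ :=
    fun C => ⟨f C.1 C.2, hf1 C.1 C.2⟩
  apply Nat.card_le_card_of_injective F
  intro C₁ C₂ h
  apply Subtype.ext
  have e : f C₁.1 C₁.2 = f C₂.1 C₂.2 := congrArg Subtype.val h
  rw [← hf3 C₁.1 C₁.2, ← hf3 C₂.1 C₂.2]
  congr 1
  exact Subtype.ext e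

end Cfsg.Agent.S1512
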