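-- Statement S1513 (row 1513): Cfsg.type_p_like_characters_of_kernel
import Cfsg.Statements.S1513
import Cfsg.Agent.Lib.Helper25_TypeP
import Cfsg.Agent.Lib.Helper75_Clifford
import Cfsg.Agent.Lib.Helper3_CharBridge

set_option autoImplicit false
open Cfsg

namespace Cfsg.Agent.S1513

open Cfsg.Agent.Lib.Helper25_TypeP Cfsg.Agent.Lib.Helper3_CharBridge

/-- Let L be a finite group with K normal with complement W₁ ≠ 1 a cyclic Hall subgroup, and W₂ ≠ 1 a cyclic subgroup of K equal to C_K(x) for every non-identity x ∈ W₁, with W₁W₂ of odd order. For an irreducible character θ of K: if θ is not fixed under conjugation by some element of W₁, then the function induced from θ to L is an irreducible character of L; and the irreducible characters of K fixed by all of W₁ are exactly Nat.card W₂ in number, each inducing to the sum of Nat.card W₁ pairwise distinct irreducible characters of L. -/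
theorem result {L : Type*} [Group L] [Fintype L] (K W₁ W₂ : Subgroup L) [hK : K.Normal] (hKW₁ : K ⊓ W₁ = ⊥) (hKW₁' : K ⊔ W₁ = ⊤) (hW₁ : W₁ ≠ ⊥) (hW₁c : IsCyclic W₁) (hHall : Nat.Coprime (Nat.card W₁) W₁.index) (hW₂ : W₂ ≠ ⊥) (hW₂c : IsCyclic W₂) (hW₂K : W₂ ≤ K) (hC : ∀ x ∈ W₁, x ≠ 1 → K ⊓ Subgroup.centralizer ({x} : Set L) = W₂) (hodd : Odd (Nat.card ↥(W₁ ⊔ W₂))) : (∀ θ : K → ℂ, Cfsg.IsIrrCharacter K θ → (∃ x ∈ W₁, (fun k : K => θ ⟨x * k * x⁻¹, hK.conj_mem (k : L) k.2 x⟩) ≠ θ) → Cfsg.IsIrrCharacter L (Cfsg.indFun K θ)) ∧ Nat.card {θ : Cfsg.IrrCharacter K // ∀ x ∈ W₁, (fun k : K => (θ : K → ℂ) ⟨x * k * x⁻¹, hK.conj_mem (k : L) k.2 x⟩) = θ} = Nat.card W₂ ∧ (∀ θ : K → ℂ, Cfsg.IsIrrCharacter K θ → (∀ x ∈ W₁, (fun k : K => θ ⟨x * k * x⁻¹, hK.conj_mem (k : L) k.2 x⟩) = θ) → ∃ C : Finset (L → ℂ), C.card = Nat.card W₁ ∧ (∀ μ ∈ C, Cfsg.IsIrrCharacter L μ) ∧ Cfsg.indFun K θ = ∑ μ ∈ C, μ) := by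
  classical
  obtain ⟨s, hsW, hs⟩ := exists_generator W₁ hW₁c
  have hs1 : s ≠ 1 := by
    rintro rfl
    apply hW₁
    rw [← hs, Subgroup.zpowers_one_eq_bot]
  refine ⟨?_, ?_, ?_⟩
  · intro θ hθ hmoved
    exact isIrrCharacter_indFun_of_moved K W₁ W₂ hKW₁ hKW₁' hW₁c hHall hW₂c hC hθ hmoved
  · rw [← card_fixed_by K W₁ W₂ hKW₁ hKW₁' hHall hW₂c hC hsW hs1]
    apply Nat.card_congr
    apply Equiv.subtypeEquivRight
    intro θ
    exact invariant_iff K W₁ hs (θ : K → ℂ)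
  · intro θ hθ hinvW
    have hcl : Cfsg.IsClassFunction K θ := isClassFunction_of_isIrrCharacter hθ
    have hinv : ∀ (g : L) (n : K), θ ⟨g * n * g⁻¹, hK.conj_mem (n : L) n.2 g⟩ = θ n := by
      intro g n
      have hg' : g ∈ K ⊔ W₁ := by rw [hKW₁']; trivial
      rw [← SetLike.mem_coe, Subgroup.normal_mul, Set.mem_mul] at hg'
      obtain ⟨k, hk, w, hw, rfl⟩ := hg'
      have h1 : Cfsg.Agent.Lib.Helper75_Clifford.conjFun K hK θ (k * w) = θ := by
        rw [← Cfsg.Agent.Lib.Helper75_Clifford.conjFun_conjFun,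
          Cfsg.Agent.Lib.Helper75_Clifford.conjFun_of_mem K hK hcl ⟨k, hk⟩]
        exact hinvW w hw
      exact congrFun h1 n
    have hcyc : IsCyclic (L ⧸ K) := by
      have := hW₁c
      apply isCyclic_of_surjective ((QuotientGroup.mk' K).comp W₁.subtype)
      intro q
      obtain ⟨g, rfl⟩ := QuotientGroup.mk_surjective q
      have hg' : g ∈ K ⊔ W₁ := by rw [hKW₁']; trivial
      rw [← SetLike.mem_coe, Subgroup.normal_mul, Set.mem_mul] at hg'
      obtain ⟨k, hk, w, hw, rfl⟩ := hg'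
      refine ⟨⟨w, hw⟩, ?_⟩
      show ((w : L) : L ⧸ K) = ((k * w : L) : L ⧸ K)
      rw [QuotientGroup.mk_mul, (QuotientGroup.eq_one_iff k).mpr hk, one_mul]
    obtain ⟨C, hCcard, hCirr, hCsum⟩ := exists_finset_of_invariant K hcyc hθ hinv
    exact ⟨C, by rw [hCcard, index_eq_card K W₁ hKW₁ hKW₁'], hCirr, hCsum⟩

end Cfsg.Agent.S1513
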