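import Cfsg.Statements.S1518
import Cfsg.Agent.S1500
import Cfsg.Agent.S1501
import Cfsg.Agent.S1514
import Cfsg.Agent.Lib.Helper25_DadeIso
import Cfsg.Agent.Lib.Helper3_CharOrtho
import Cfsg.Agent.Lib.Helper3_CharBridge
import Cfsg.Agent.Lib.Helper75_CharProd
import Cfsg.Agent.Lib.Helper78_CentralChar
import Cfsg.Agent.Lib.Helper80_CharBasic

set_option autoImplicit false
open Cfsg

namespace Cfsg.Agent.S1518

open scoped ComplexConjugate
open Cfsg.Agent.Lib.Helper3_CharOrtho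

theorem dade_conjFun {G : Type*} [Group G] (A : Set G) (L : Subgroup G) (H : G → Subgroup G)
    (α : L → ℂ) : Cfsg.dadeIsometry A L H (Cfsg.conjFun α) =
      Cfsg.conjFun (Cfsg.dadeIsometry A L H α) := by
  classical
  funext g
  unfold Cfsg.dadeIsometry Cfsg.conjFun
  by_cases h : ∃ a : ↥L, (a : G) ∈ A ∧ ∃ x : G, ∃ u ∈ H (a : G), x * g * x⁻¹ = (a : G) * u
  · simp only [dif_pos h]
  · simp only [dif_neg h, map_zero]

theorem dade_neg {G : Type*} [Group G] (A : Set G) (L : Subgroup G) (H : G → Subgroup G)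
    (α : L → ℂ) : Cfsg.dadeIsometry A L H (-α) = -(Cfsg.dadeIsometry A L H α) := by
  classical
  funext g
  unfold Cfsg.dadeIsometry
  by_cases h : ∃ a : ↥L, (a : G) ∈ A ∧ ∃ x : G, ∃ u ∈ H (a : G), x * g * x⁻¹ = (a : G) * u
  · simp only [Pi.neg_apply, dif_pos h]
  · simp only [Pi.neg_apply, dif_neg h, neg_zero]

theorem dade_zero {G : Type*} [Group G] (A : Set G) (L : Subgroup G) (H : G → Subgroup G) :
    Cfsg.dadeIsometry A L H (0 : L → ℂ) = 0 := by
  classical
  funext g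
  unfold Cfsg.dadeIsometry
  by_cases h : ∃ a : ↥L, (a : G) ∈ A ∧ ∃ x : G, ∃ u ∈ H (a : G), x * g * x⁻¹ = (a : G) * u
  · simp only [dif_pos h, Pi.zero_apply]
  · simp only [dif_neg h, Pi.zero_apply]

theorem dade_one {G : Type*} [Group G] (A : Set G) (L : Subgroup G) (H : G → Subgroup G)
    (hD : Cfsg.DadeHypothesis A L H) (α : L → ℂ) : Cfsg.dadeIsometry A L H α 1 = 0 := by
  apply Cfsg.Agent.Lib.Helper25_DadeIso.dade_of_not
  rintro ⟨a, ha, x, u, hu, hx⟩
  have h1 : (a : G) * u = 1 := by rw [← hx]; group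
  have hau : (a : G) = u⁻¹ := eq_inv_of_mul_eq_one_left h1
  have haH : (a : G) ∈ H (a : G) := by
    have := (H (a : G)).inv_mem hu
    rwa [← hau] at this
  have hmem : (a : G) ∈ H (a : G) ⊓ (L ⊓ Subgroup.centralizer ({(a : G)} : Set G)) := by
    refine Subgroup.mem_inf.mpr ⟨haH, Subgroup.mem_inf.mpr ⟨a.2, ?_⟩⟩
    rw [Subgroup.mem_centralizer_iff]
    intro z hz
    have : z = (a : G) := hz
    rw [this]
  rw [hD.inf_eq_bot (a : G) ha, Subgroup.mem_bot] at hmem
  rw [hmem] at ha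
  exact hD.one_not_mem ha

/-- Under the Dade hypothesis for (A, L, H): if χ is an irreducible character of L vanishing at every non-identity element of L outside A, then the Dade image of χ − conj χ equals μ − conj μ for some irreducible character μ of G. -/
theorem result {G : Type*} [Group G] [Fintype G] (A : Set G) (L : Subgroup G) [Fintype L] (H : G → Subgroup G) (hD : Cfsg.DadeHypothesis A L H) (χ : L → ℂ) (hχ : Cfsg.IsIrrCharacter L χ) (hsupp : ∀ x : L, x ≠ 1 → (x : G) ∉ A → χ x = 0) : ∃ μ : G → ℂ, Cfsg.IsIrrCharacter G μ ∧ Cfsg.dadeIsometry A L H (χ - Cfsg.conjFun χ) = μ - Cfsg.conjFun μ := by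
  classical
  by_cases hreal : Cfsg.conjFun χ = χ
  · refine ⟨fun _ => 1, Cfsg.Agent.Lib.Helper80_CharBasic.isIrrCharacter_one G, ?_⟩
    rw [hreal, sub_self, dade_zero]
    funext g
    simp [Cfsg.conjFun]
  · have hχbar : Cfsg.IsIrrCharacter L (Cfsg.conjFun χ) :=
      Cfsg.Agent.Lib.Helper75_CharProd.isIrrCharacter_conj hχ
    have hχc : Cfsg.IsCharacter L χ :=
      Cfsg.Agent.Lib.Helper3_CharBridge.isCharacter_of_isIrrCharacter hχ
    have hχbarc : Cfsg.IsCharacter L (Cfsg.conjFun χ) :=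
      Cfsg.Agent.Lib.Helper3_CharBridge.isCharacter_of_isIrrCharacter hχbar
    set α : L → ℂ := χ - Cfsg.conjFun χ with hαdef
    have hαgen : Cfsg.IsGeneralizedCharacter L α := ⟨χ, Cfsg.conjFun χ, hχc, hχbarc, rfl⟩
    have hαcf : Cfsg.IsClassFunction L α := by
      have h1 := Cfsg.Agent.Lib.Helper3_CharBridge.isClassFunction_of_isCharacter hχc
      have h2 := Cfsg.Agent.Lib.Helper3_CharBridge.isClassFunction_of_isCharacter hχbarc
      intro g h
      simp only [hαdef, Pi.sub_apply, h1 g h, h2 g h]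
    have hαA : ∀ x : L, (x : G) ∉ A → α x = 0 := by
      intro x hx
      by_cases hx1 : x = 1
      · subst hx1
        obtain ⟨n, _, hn⟩ := Cfsg.Agent.Lib.Helper78_CentralChar.isIrrCharacter_one_eq_natCast hχ
        simp only [hαdef, Pi.sub_apply, Cfsg.conjFun, hn, Complex.conj_natCast, sub_self]
      · have := hsupp x hx1 hx
        simp only [hαdef, Pi.sub_apply, Cfsg.conjFun, this, map_zero, sub_self]
    set θ := Cfsg.dadeIsometry A L H α with hθdef
    have hθgen : Cfsg.IsGeneralizedCharacter G θ := Cfsg.Agent.S1501.result A L H hD α hαgen hαA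
    have hnorm : Cfsg.classInner θ θ = 2 := by
      rw [hθdef, (Cfsg.Agent.S1500.result A L H hD α hαcf hαA).1 α hαcf hαA]
      have hne : χ ≠ Cfsg.conjFun χ := fun h => hreal h.symm
      simp only [hαdef]
      rw [classInner_sub_left, Cfsg.Agent.S1514.classInner_sub_right',
        Cfsg.Agent.S1514.classInner_sub_right', classInner_self_of_isIrrCharacter hχ,
        classInner_self_of_isIrrCharacter hχbar,
        classInner_of_isIrrCharacter_of_ne hχ hχbar hne,
        classInner_of_isIrrCharacter_of_ne hχbar hχ (Ne.symm hne)]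
      norm_num
    have hθ1 : θ 1 = 0 := dade_one A L H hD α
    obtain ⟨ψ₁, ψ₂, hψ₁, hψ₂, hne12, hθeq⟩ := Cfsg.Agent.S1514.norm_two θ hθgen hnorm hθ1
    have hconjα : Cfsg.conjFun α = -α := by
      funext x
      simp only [hαdef, Cfsg.conjFun, Pi.sub_apply, Pi.neg_apply, map_sub, Complex.conj_conj]
      ring
    have hconjθ : Cfsg.conjFun θ = -θ := by
      rw [hθdef, ← dade_conjFun, hconjα, dade_neg]
    have hψ₁bar : Cfsg.IsIrrCharacter G (Cfsg.conjFun ψ₁) :=
      Cfsg.Agent.Lib.Helper75_CharProd.isIrrCharacter_conj hψ₁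
    have hψ₂bar : Cfsg.IsIrrCharacter G (Cfsg.conjFun ψ₂) :=
      Cfsg.Agent.Lib.Helper75_CharProd.isIrrCharacter_conj hψ₂
    -- conj ψ₁ + ψ₁ = ψ₂ + conj ψ₂
    have hsum : Cfsg.conjFun ψ₁ + ψ₁ = ψ₂ + Cfsg.conjFun ψ₂ := by
      have h1 : Cfsg.conjFun θ = Cfsg.conjFun ψ₁ - Cfsg.conjFun ψ₂ := by
        rw [hθeq]; funext g; simp [Cfsg.conjFun]
      rw [hθeq] at hconjθ
      have h2 : Cfsg.conjFun ψ₁ - Cfsg.conjFun ψ₂ = -(ψ₁ - ψ₂) := by
        rw [← hconjθ, ← hθeq, h1]
      funext g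
      have := congrFun h2 g
      simp only [Pi.sub_apply, Pi.neg_apply, Pi.add_apply] at this ⊢
      linear_combination this
    have hkey : Cfsg.conjFun ψ₂ = ψ₁ := by
      by_contra hne
      have h : Cfsg.classInner (Cfsg.conjFun ψ₁ + ψ₁) ψ₁ =
          Cfsg.classInner (ψ₂ + Cfsg.conjFun ψ₂) ψ₁ := by rw [hsum]
      rw [classInner_add_left, classInner_add_left, classInner_self_of_isIrrCharacter hψ₁,
        classInner_of_isIrrCharacter_of_ne hψ₂ hψ₁ (Ne.symm hne12),
        classInner_of_isIrrCharacter_of_ne hψ₂bar hψ₁ hne,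
        classInner_irr hψ₁bar hψ₁] at h
      split_ifs at h <;> norm_num at h
    refine ⟨ψ₁, hψ₁, ?_⟩
    rw [hθeq]
    congr 1
    rw [← hkey, Cfsg.Agent.S1514.conjFun_conjFun]

end Cfsg.Agent.S1518
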