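import Cfsg.Statements.S1525
import Cfsg.Agent.S1500
import Cfsg.Agent.Lib.Helper25_DadeIso

set_option autoImplicit false
open Cfsg
namespace Cfsg.Agent.S1525

open Cfsg.Agent.Lib.Helper25_DadeIso
open scoped ComplexConjugate

/-- Jensen for a finite family of complex numbers: `‖c⁻¹ ∑ z‖² ≤ c⁻¹ ∑ ‖z‖²` with `c` the number of terms. -/
theorem norm_avg_sq_le {ι : Type*} (s : Finset ι) (hs : s.Nonempty) (z : ι → ℂ) :
    ‖((s.card : ℂ))⁻¹ * ∑ i ∈ s, z i‖ ^ 2 ≤ ((s.card : ℝ))⁻¹ * ∑ i ∈ s, ‖z i‖ ^ 2 := by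
  have hc : (0 : ℝ) < s.card := by exact_mod_cast hs.card_pos
  rw [norm_mul, norm_inv, Complex.norm_natCast, mul_pow]
  have h1 : ‖∑ i ∈ s, z i‖ ≤ ∑ i ∈ s, ‖z i‖ := norm_sum_le _ _
  have h2 : (∑ i ∈ s, ‖z i‖) ^ 2 ≤ s.card * ∑ i ∈ s, ‖z i‖ ^ 2 := sq_sum_le_card_mul_sum_sq
  have h3 : ‖∑ i ∈ s, z i‖ ^ 2 ≤ s.card * ∑ i ∈ s, ‖z i‖ ^ 2 :=
    (pow_le_pow_left₀ (norm_nonneg _) h1 2).trans h2
  calc ((s.card : ℝ))⁻¹ ^ 2 * ‖∑ i ∈ s, z i‖ ^ 2
      ≤ ((s.card : ℝ))⁻¹ ^ 2 * (s.card * ∑ i ∈ s, ‖z i‖ ^ 2) :=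
        mul_le_mul_of_nonneg_left h3 (by positivity)
    _ = ((s.card : ℝ))⁻¹ * ∑ i ∈ s, ‖z i‖ ^ 2 := by
        field_simp

/-- Under the Dade hypothesis for (A, L, H), let χ be a class function of G and let ψ be a function on L whose value at each a ∈ A is the average of χ over the coset a·H(a). Then (1/|G|) Σ |χ g|² over the elements g of G conjugate into some coset a·H(a) with a ∈ A is at least (1/|L|) Σ_{a ∈ A ∩ L} |ψ a|². -/
theorem result {G : Type*} [Group G] [Fintype G] (A : Set G) (L : Subgroup G) [Fintype L] (H : G → Subgroup G) (hD : Cfsg.DadeHypothesis A L H) (χ : G → ℂ) (hχ : Cfsg.IsClassFunction G χ) (ψ : L → ℂ) (hψ : ∀ a : L, (a : G) ∈ A → ψ a = (Nat.card (H a) : ℂ)⁻¹ * ∑ᶠ u ∈ (H a : Set G), χ (a * u)) : (Nat.card L : ℝ)⁻¹ * ∑ᶠ a ∈ {a : L | (a : G) ∈ A}, ‖ψ a‖ ^ 2 ≤ (Nat.card G : ℝ)⁻¹ * ∑ᶠ g ∈ {g : G | ∃ a ∈ A, ∃ u ∈ H a, ∃ x : G, x * g * x⁻¹ = a * u}, ‖χ g‖ ^ 2 := by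
  classical
  -- the indicator function of `A` on `L`
  set α : L → ℂ := fun a => if (a : G) ∈ A then 1 else 0 with hα
  have hiff : ∀ g h : L, ((h * g * h⁻¹ : L) : G) ∈ A ↔ (g : G) ∈ A := by
    intro g h
    constructor
    · intro hh
      have := hD.conj_mem ((h⁻¹ : L) : G) (h⁻¹).2 _ hh
      have e : ((h⁻¹ : L) : G) * ((h * g * h⁻¹ : L) : G) * ((h⁻¹ : L) : G)⁻¹ = (g : G) := by
        simp only [Subgroup.coe_mul, Subgroup.coe_inv]; group
      rwa [e] at this
    · intro hg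
      have := hD.conj_mem (h : G) h.2 _ hg
      simpa using this
  have hαc : Cfsg.IsClassFunction L α := by
    intro g h
    simp only [hα, hiff g h]
  have hαA : ∀ x : L, (x : G) ∉ A → α x = 0 := fun x hx => if_neg hx
  set Fr : G → ℝ := fun g => ‖χ g‖ ^ 2 with hFr
  set Fc : G → ℂ := fun g => ((Fr g : ℝ) : ℂ) with hFc
  have hFcc : Cfsg.IsClassFunction G Fc := fun g h => by simp only [hFc, hFr]; rw [hχ g h]
  -- the averaged function, real form
  set r : L → ℝ := fun a => ((Nat.card (H a) : ℝ))⁻¹ * ∑ u : G, (H (a : G) : Set G).indicator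
    (fun u => Fr ((a : G) * u)) u with hr
  set Ψ : L → ℂ := fun a => (Nat.card (H a) : ℂ)⁻¹ * ∑ᶠ u ∈ (H a : Set G), Fc (a * u) with hΨ
  have hΨr : ∀ a : L, Ψ a = ((r a : ℝ) : ℂ) := by
    intro a
    simp only [hΨ, hr]
    rw [finsum_mem_def, finsum_eq_sum_of_fintype]
    push_cast
    congr 1
    apply Finset.sum_congr rfl
    intro u _
    by_cases hu : u ∈ (H (a : G) : Set G)
    · rw [Set.indicator_of_mem hu, Set.indicator_of_mem hu]
    · rw [Set.indicator_of_notMem hu, Set.indicator_of_notMem hu]; simp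
  have key := (Cfsg.Agent.S1500.result A L H hD α hαc hαA).2 Fc Ψ hFcc (fun a _ => rfl)
  -- the Dade image of `α` is the indicator function of the support
  set D : Set G := {g : G | ∃ a ∈ A, ∃ u ∈ H a, ∃ x : G, x * g * x⁻¹ = a * u} with hDdef
  have hdade : ∀ g : G, Cfsg.dadeIsometry A L H α g = if g ∈ D then 1 else 0 := by
    intro g
    by_cases hg : g ∈ D
    · rw [if_pos hg]
      obtain ⟨a, ha, u, hu, x, hx⟩ := hg
      rw [dade_apply A L H hD α hαc g ⟨a, hD.subset ha⟩ ha x u hu hx]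
      exact if_pos ha
    · rw [if_neg hg]
      apply dade_of_not
      rintro ⟨a, ha, x, u, hu, hx⟩
      exact hg ⟨a, ha, u, hu, x, hx⟩
  -- rewrite both sides of `key`
  have hL : Cfsg.classInner (Cfsg.dadeIsometry A L H α) Fc =
      (((Nat.card G : ℝ)⁻¹ * ∑ g : G, D.indicator Fr g : ℝ) : ℂ) := by
    unfold Cfsg.classInner
    push_cast
    congr 1
    apply Finset.sum_congr rfl
    intro g _
    rw [hdade g]
    by_cases hg : g ∈ D
    · rw [if_pos hg, Set.indicator_of_mem hg, one_mul]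
      simp only [hFc, Complex.conj_ofReal]
    · rw [if_neg hg, Set.indicator_of_notMem hg, zero_mul]; simp
  have hR : Cfsg.classInner α Ψ =
      (((Nat.card L : ℝ)⁻¹ * ∑ a : L, {a : L | (a : G) ∈ A}.indicator r a : ℝ) : ℂ) := by
    unfold Cfsg.classInner
    push_cast
    congr 1
    apply Finset.sum_congr rfl
    intro a _
    rw [hΨr a, Complex.conj_ofReal]
    by_cases ha : (a : G) ∈ A
    · rw [Set.indicator_of_mem (show a ∈ {a : L | (a : G) ∈ A} from ha)]
      simp only [hα, if_pos ha, one_mul]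
    · rw [Set.indicator_of_notMem (show a ∉ {a : L | (a : G) ∈ A} from ha)]
      simp only [hα, if_neg ha, zero_mul]; simp
  rw [hL, hR] at key
  have key' := Complex.ofReal_injective key
  -- the inequality
  rw [finsum_mem_def, finsum_eq_sum_of_fintype, finsum_mem_def, finsum_eq_sum_of_fintype, key']
  apply mul_le_mul_of_nonneg_left _ (by positivity)
  apply Finset.sum_le_sum
  intro a _
  by_cases ha : (a : G) ∈ A
  · rw [Set.indicator_of_mem (show a ∈ {a : L | (a : G) ∈ A} from ha),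
      Set.indicator_of_mem (show a ∈ {a : L | (a : G) ∈ A} from ha)]
    rw [hψ a ha, finsum_mem_def, finsum_eq_sum_of_fintype]
    simp only [hr, hFr]
    -- sums over the finset of `H a`
    set s : Finset G := Finset.univ.filter (fun u => u ∈ H (a : G)) with hs
    have hsne : s.Nonempty := ⟨1, by simp [hs]⟩
    have hcard : s.card = Nat.card (H (a : G)) := by
      rw [Nat.card_eq_fintype_card, Fintype.card_subtype]
    have e1 : ∑ u : G, (H (a : G) : Set G).indicator (fun u => χ ((a : G) * u)) u =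
        ∑ u ∈ s, χ ((a : G) * u) := by
      rw [hs, Finset.sum_filter]
      apply Finset.sum_congr rfl
      intro u _
      simp [Set.indicator_apply]
    have e2 : ∑ u : G, (H (a : G) : Set G).indicator (fun u => ‖χ ((a : G) * u)‖ ^ 2) u =
        ∑ u ∈ s, ‖χ ((a : G) * u)‖ ^ 2 := by
      rw [hs, Finset.sum_filter]
      apply Finset.sum_congr rfl
      intro u _
      simp [Set.indicator_apply]
    rw [e1, e2, ← hcard]
    exact norm_avg_sq_le s hsne _
  · rw [Set.indicator_of_notMem (show a ∉ {a : L | (a : G) ∈ A} from ha),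
      Set.indicator_of_notMem (show a ∉ {a : L | (a : G) ∈ A} from ha)]

end Cfsg.Agent.S1525
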