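import Cfsg.Statements.S1527
-- import your own Cfsg.Agent.* helpers here
set_option autoImplicit false
open Cfsg

namespace Cfsg.Agent.S1527

theorem card_ne_one (α : Type*) [One α] [Finite α] : Nat.card {x : α // x ≠ 1} = Nat.card α - 1 := by
  classical
  have := Fintype.ofFinite α
  rw [Nat.card_eq_fintype_card, Nat.card_eq_fintype_card]
  exact Set.card_ne_eq (1 : α)

/-- conjugating by an element of the normalizer preserves membership -/
theorem conj_mem_of_mem_normalizer {G : Type*} [Group G] {K : Subgroup G} {n : G} (hn : n ∈ Subgroup.normalizer (K : Set G))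
    {x : G} (hx : x ∈ K) : n⁻¹ * x * n ∈ K := by
  have := (Subgroup.mem_normalizer_iff''.mp hn x).mp hx
  exact this

/-- Let G be a finite group and H i (i in a finite index type) subgroups of pairwise coprime orders, each of whose underlying sets is a TI-subset of G, such that every non-identity element of G is conjugate to an element of some H i. Then Nat.card G − 1 = Σ_i [G : N_G(H i)] · (Nat.card (H i) − 1). -/
theorem result {G : Type*} [Group G] [Finite G] {ι : Type*} [Fintype ι] (H : ι → Subgroup G) (hcop : ∀ i j, i ≠ j → Nat.Coprime (Nat.card (H i)) (Nat.card (H j))) (hTI : ∀ i, Cfsg.IsTISubset (H i : Set G)) (hcover : ∀ g : G, g ≠ 1 → ∃ i, ∃ x : G, x * g * x⁻¹ ∈ H i) : Nat.card G - 1 = ∑ i, (Subgroup.normalizer (H i : Set G)).index * (Nat.card (H i) - 1) := by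
  classical
  let f : (Σ i, (G ⧸ Subgroup.normalizer (H i : Set G)) × {x : H i // x ≠ 1}) → {g : G // g ≠ 1} :=
    fun p => ⟨p.2.1.out * (p.2.2.1 : G) * p.2.1.out⁻¹, by
      intro h
      apply p.2.2.2
      have h2 : ((p.2.2.1 : H p.1) : G) = 1 := by
        have := congrArg (fun t => p.2.1.out⁻¹ * t * p.2.1.out) h
        simpa [mul_assoc] using this
      exact Subtype.ext h2⟩
  have hf : Function.Bijective f := by
    constructor
    · rintro ⟨i, q, x, hx⟩ ⟨j, q', x', hx'⟩ h
      have h0 : q.out * (x : G) * q.out⁻¹ = q'.out * (x' : G) * q'.out⁻¹ := congrArg Subtype.val h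
      have hxne : (x : G) ≠ 1 := fun h1 => hx (Subtype.ext h1)
      have hij : i = j := by
        by_contra hne
        have h1 : orderOf (x : G) ∣ Nat.card (H i) := by
          rw [Subgroup.orderOf_coe]; exact orderOf_dvd_natCard x
        have h2 : orderOf (x' : G) ∣ Nat.card (H j) := by
          rw [Subgroup.orderOf_coe]; exact orderOf_dvd_natCard x'
        have h3 : orderOf (x : G) = orderOf (x' : G) := by
          have e1 : orderOf (q.out * (x : G) * q.out⁻¹) = orderOf (x : G) := (SemiconjBy.orderOf_eq _ (SemiconjBy.conj_mk q.out (x : G))).symm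
          have e2 : orderOf (q'.out * (x' : G) * q'.out⁻¹) = orderOf (x' : G) := (SemiconjBy.orderOf_eq _ (SemiconjBy.conj_mk q'.out (x' : G))).symm
          rw [← e1, ← e2, h0]
        rw [← h3] at h2
        have := Nat.eq_one_of_dvd_coprimes (hcop i j hne) h1 h2
        exact hxne (orderOf_eq_one_iff.mp this)
      subst hij
      -- now same index
      have hn : q'.out⁻¹ * q.out ∈ Subgroup.normalizer (H i : Set G) := by
        by_contra hnot
        apply hxne
        refine hTI i _ hnot (x : G) x.2 ?_
        have : q'.out⁻¹ * q.out * (x : G) * (q'.out⁻¹ * q.out)⁻¹ = (x' : G) := by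
          have := congrArg (fun t => q'.out⁻¹ * t * q'.out) h0
          simp only [mul_assoc, inv_mul_cancel_left, inv_mul_cancel, mul_one] at this
          simp only [mul_inv_rev, inv_inv, mul_assoc]
          exact this
        rw [this]
        exact x'.2
      have hq : q = q' := by
        rw [← QuotientGroup.out_eq' q, ← QuotientGroup.out_eq' q']
        exact (QuotientGroup.eq.mpr hn).symm
      subst hq
      have hxx : (x : G) = (x' : G) := by
        have := congrArg (fun t => q.out⁻¹ * t * q.out) h0
        simpa [mul_assoc] using this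
      have : x = x' := Subtype.ext hxx
      subst this
      rfl
    · rintro ⟨g, hg⟩
      obtain ⟨i, y, hy⟩ := hcover g hg
      -- a = y⁻¹, q = ⟦a⟧
      set q : G ⧸ Subgroup.normalizer (H i : Set G) := QuotientGroup.mk (y⁻¹ : G) with hq
      have hn : (y⁻¹)⁻¹ * q.out ∈ Subgroup.normalizer (H i : Set G) := by
        rw [← QuotientGroup.eq, QuotientGroup.out_eq']
      set n := (y⁻¹)⁻¹ * q.out with hn'
      have hout : q.out = y⁻¹ * n := by rw [hn']; group
      have hxmem : q.out⁻¹ * g * q.out ∈ H i := by
        have := conj_mem_of_mem_normalizer hn hy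
        rw [hout]
        have e : (y⁻¹ * n)⁻¹ * g * (y⁻¹ * n) = n⁻¹ * (y * g * y⁻¹) * n := by group
        rw [e]; exact this
      have hxne : (⟨q.out⁻¹ * g * q.out, hxmem⟩ : H i) ≠ 1 := by
        intro h1
        have h2 : q.out⁻¹ * g * q.out = 1 := congrArg Subtype.val h1
        apply hg
        have := congrArg (fun t => q.out * t * q.out⁻¹) h2
        simpa [mul_assoc] using this
      refine ⟨⟨i, q, ⟨⟨q.out⁻¹ * g * q.out, hxmem⟩, hxne⟩⟩, ?_⟩
      apply Subtype.ext
      show q.out * (q.out⁻¹ * g * q.out) * q.out⁻¹ = g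
      group
  have hcard := Nat.card_congr (Equiv.ofBijective f hf)
  rw [card_ne_one G] at *
  rw [← hcard, Nat.card_sigma]
  refine Finset.sum_congr rfl fun i _ => ?_
  rw [Nat.card_prod, card_ne_one]
  rfl

end Cfsg.Agent.S1527
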