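import Cfsg.Statements.S1529
import Cfsg.Agent.Lib.Helper25_VirtNorm
import Cfsg.Agent.S1509

set_option autoImplicit false
open Cfsg

namespace Cfsg.Agent.S1529

open Cfsg.Agent.Lib.Helper3_CharOrtho Cfsg.Agent.Lib.Helper25_VirtNorm

theorem result {G : Type*} [Group G] [Fintype G] (N : Subgroup G) [Fintype N] (S : Set (N → ℂ)) (hirr : ∀ χ ∈ S, Cfsg.IsIrrCharacter N χ) (htwo : ∃ χ ∈ S, ∃ ψ ∈ S, χ ≠ ψ) (τ₁ : (N → ℂ) → (G → ℂ)) (hτ₁ : Cfsg.IsLinearIsometryOn (Cfsg.zspan S) τ₁) (h0 : ∀ α ∈ Cfsg.zspan S, α 1 = 0 → τ₁ α 1 = 0) : ∃ ε : ℂ, (ε = 1 ∨ ε = -1) ∧ (∀ χ ∈ S, Cfsg.IsIrrCharacter G (ε • τ₁ χ)) ∧ (∀ χ ∈ S, ∀ ψ ∈ S, τ₁ χ = τ₁ ψ → χ = ψ) := by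
  classical
  obtain ⟨hadd, hsmul, hiso, hgen⟩ := hτ₁
  have hmem : ∀ χ ∈ S, χ ∈ Cfsg.zspan S := fun χ hχ => Submodule.subset_span hχ
  have hsmem : ∀ χ ∈ S, ∀ n : ℤ, n • χ ∈ Cfsg.zspan S := fun χ hχ n =>
    Submodule.smul_mem _ n (Submodule.subset_span hχ)
  -- each image is irreducible up to sign
  have hpm : ∀ χ ∈ S, Cfsg.IsIrrCharacter G (τ₁ χ) ∨ Cfsg.IsIrrCharacter G (-τ₁ χ) := by
    intro χ hχ
    apply norm_one _ (hgen χ (hmem χ hχ))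
    rw [hiso χ (hmem χ hχ) χ (hmem χ hχ)]
    exact classInner_self_of_isIrrCharacter (hirr χ hχ)
  -- sign function: real sign of the degree
  have hdeg : ∀ χ ∈ S, ∃ r : ℝ, r ≠ 0 ∧ τ₁ χ 1 = (r : ℂ) ∧
      (0 < r → Cfsg.IsIrrCharacter G (τ₁ χ)) ∧ (r < 0 → Cfsg.IsIrrCharacter G (-τ₁ χ)) := by
    intro χ hχ
    rcases hpm χ hχ with h | h
    · obtain ⟨n, hn, e⟩ := Cfsg.Agent.S1509.irr_one_pos _ h
      refine ⟨(n : ℝ), by positivity, by rw [e]; simp, fun _ => h, fun hneg => ?_⟩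
      exfalso
      have : (0 : ℝ) < n := by exact_mod_cast hn
      linarith
    · obtain ⟨n, hn, e⟩ := Cfsg.Agent.S1509.irr_one_pos _ h
      have hnpos : (0 : ℝ) < n := by exact_mod_cast hn
      refine ⟨-(n : ℝ), neg_ne_zero.mpr hnpos.ne', ?_, fun hpos => ?_, fun _ => h⟩
      · have e' : τ₁ χ 1 = -((n : ℂ)) := by
          have : (-τ₁ χ) 1 = -(τ₁ χ 1) := rfl
          rw [this] at e
          rw [← e, neg_neg]
        rw [e']; simp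
      · exfalso; linarith
  -- same sign for distinct members
  have hsame : ∀ χ ∈ S, ∀ ψ ∈ S, ∀ r s : ℝ, τ₁ χ 1 = (r : ℂ) → τ₁ ψ 1 = (s : ℂ) →
      r ≠ 0 → s ≠ 0 → 0 < r * s := by
    intro χ hχ ψ hψ r s hr hs hr0 hs0
    obtain ⟨n, hn, en⟩ := Cfsg.Agent.S1509.irr_one_pos _ (hirr χ hχ)
    obtain ⟨m, hm, em⟩ := Cfsg.Agent.S1509.irr_one_pos _ (hirr ψ hψ)
    have hα : ((m : ℤ) • χ + (-(n : ℤ)) • ψ) ∈ Cfsg.zspan S :=
      Submodule.add_mem _ (hsmem χ hχ _) (hsmem ψ hψ _)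
    have hα1 : ((m : ℤ) • χ + (-(n : ℤ)) • ψ) 1 = 0 := by
      simp only [Pi.add_apply, Pi.smul_apply, en, em]
      simp
      ring
    have h1 := h0 _ hα hα1
    rw [hadd _ (hsmem χ hχ _) _ (hsmem ψ hψ _), hsmul χ (hmem χ hχ), hsmul ψ (hmem ψ hψ)] at h1
    simp only [Pi.add_apply, Pi.smul_apply, hr, hs] at h1
    have h2 : (m : ℝ) * r - (n : ℝ) * s = 0 := by
      have : ((m : ℝ) * r - (n : ℝ) * s : ℂ) = 0 := by
        rw [← h1]; simp; ring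
      exact_mod_cast this
    have hnpos : (0 : ℝ) < n := by exact_mod_cast hn
    have hmpos : (0 : ℝ) < m := by exact_mod_cast hm
    -- m r = n s with m, n > 0
    have h3 : (m : ℝ) * r = (n : ℝ) * s := by linarith
    have h4 : 0 < ((m : ℝ) * r) * ((n : ℝ) * s) := by
      rw [h3]
      have : (n : ℝ) * s ≠ 0 := mul_ne_zero hnpos.ne' hs0
      exact mul_self_pos.mpr this
    have h5 : ((m : ℝ) * r) * ((n : ℝ) * s) = ((m : ℝ) * n) * (r * s) := by ring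
    rw [h5] at h4
    have hmn : (0 : ℝ) < (m : ℝ) * n := by positivity
    exact (mul_pos_iff_of_pos_left hmn).mp h4
  obtain ⟨χ₀, hχ₀, ψ₀, hψ₀, hne⟩ := htwo
  obtain ⟨r₀, hr₀, er₀, hpos₀, hneg₀⟩ := hdeg χ₀ hχ₀
  have hinj : ∀ χ ∈ S, ∀ ψ ∈ S, τ₁ χ = τ₁ ψ → χ = ψ := by
    intro χ hχ ψ hψ h
    by_contra hcon
    have h1 := hiso χ (hmem χ hχ) ψ (hmem ψ hψ)
    rw [classInner_of_isIrrCharacter_of_ne (hirr χ hχ) (hirr ψ hψ) hcon, ← h,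
      hiso χ (hmem χ hχ) χ (hmem χ hχ), classInner_self_of_isIrrCharacter (hirr χ hχ)] at h1
    exact one_ne_zero h1
  rcases lt_or_gt_of_ne hr₀ with hlt | hgt
  · -- negative sign
    refine ⟨-1, Or.inr rfl, ?_, hinj⟩
    intro χ hχ
    obtain ⟨r, hr, er, hpos, hneg⟩ := hdeg χ hχ
    have hrs := hsame χ₀ hχ₀ χ hχ r₀ r er₀ er hr₀ hr
    have : r < 0 := by
      by_contra hcon
      have : 0 ≤ r := not_lt.mp hcon
      nlinarith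
    have e : (-1 : ℂ) • τ₁ χ = -τ₁ χ := by funext g; simp
    rw [e]
    exact hneg this
  · refine ⟨1, Or.inl rfl, ?_, hinj⟩
    intro χ hχ
    obtain ⟨r, hr, er, hpos, hneg⟩ := hdeg χ hχ
    have hrs := hsame χ₀ hχ₀ χ hχ r₀ r er₀ er hr₀ hr
    have : 0 < r := by
      by_contra hcon
      have : r ≤ 0 := not_lt.mp hcon
      nlinarith
    rw [one_smul]
    exact hpos this

end Cfsg.Agent.S1529
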