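import Cfsg.Statements.S1531
import Cfsg.Agent.Lib.Helper17_CohExt
import Cfsg.Agent.S1529

set_option autoImplicit false
open Cfsg

namespace Cfsg.Agent.S1531

open scoped ComplexConjugate
open Cfsg.Agent.Lib.Helper3_CharOrtho Cfsg.Agent.Lib.Helper75_CharArith
  Cfsg.Agent.Lib.Helper17_CohSys Cfsg.Agent.Lib.Helper17_CohExt

section Main

variable {G : Type*} [Group G] [Fintype G]

theorem isCharacter_of_irr {L : Type*} [Group L] {χ : L → ℂ} (h : Cfsg.IsIrrCharacter L χ) :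
    Cfsg.IsCharacter L χ := by
  obtain ⟨n, ρ, -, rfl⟩ := h
  exact ⟨n, ρ, rfl⟩

theorem irr_degree {L : Type*} [Group L] [Fintype L] {χ : L → ℂ} (h : Cfsg.IsIrrCharacter L χ) :
    ∃ n : ℕ, χ 1 = n ∧ 0 < n := by
  obtain ⟨n, hn⟩ := char_apply_one_nat (isCharacter_of_irr h)
  refine ⟨n, hn, Nat.pos_of_ne_zero ?_⟩
  rintro rfl
  exact isIrrCharacter_ne_zero h (char_eq_zero_of_apply_one (isCharacter_of_irr h) (by rw [hn]; simp))

theorem exists_other {T : Type*} {X : Set T} (hX2 : ∃ a ∈ X, ∃ b ∈ X, a ≠ b) (x : T) :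
    ∃ y ∈ X, y ≠ x := by
  obtain ⟨a, ha, b, hb, hab⟩ := hX2
  by_cases h : a = x
  · exact ⟨b, hb, fun h' => hab (h.trans h'.symm)⟩
  · exact ⟨a, ha, h⟩

/-- the element `d' • x - d • x'` of `zspanOn X {1}ᶜ` -/
theorem diff_mem {L : Type*} [Group L] {X : Set (L → ℂ)} {x x' : L → ℂ} (hx : x ∈ X) (hx' : x' ∈ X)
    {d d' : ℕ} (hd : x 1 = d) (hd' : x' 1 = d') :
    (d' : ℤ) • x - (d : ℤ) • x' ∈ Cfsg.zspanOn X ({1}ᶜ : Set L) := by
  refine ⟨Submodule.sub_mem _ (Submodule.smul_mem _ _ (Submodule.subset_span hx))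
    (Submodule.smul_mem _ _ (Submodule.subset_span hx')), ?_⟩
  intro l hl
  have hl' : l = 1 := by simpa using hl
  rw [hl', Pi.sub_apply, Pi.smul_apply, Pi.smul_apply, hd, hd']
  simp [mul_comm]

theorem part1 (N : Subgroup G) [Fintype N] (S X Y : Set (N → ℂ))
    (hirr : ∀ ξ ∈ S, Cfsg.IsIrrCharacter N ξ) (hXS : X ⊆ S) (hYS : Y ⊆ S) (hXY : Disjoint X Y)
    (hX2 : ∃ a ∈ X, ∃ b ∈ X, a ≠ b) (hY2 : ∃ a ∈ Y, ∃ b ∈ Y, a ≠ b) (α : (N → ℂ) → (G → ℂ))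
    (hα : Cfsg.IsLinearIsometryOn (Cfsg.zspanOn S {1}ᶜ) α)
    (hα1 : ∀ θ ∈ Cfsg.zspanOn S {1}ᶜ, α θ 1 = 0) (σ τ : (N → ℂ) → (G → ℂ))
    (hσ : Cfsg.IsLinearIsometryOn (Cfsg.zspan X) σ)
    (hσα : ∀ θ ∈ Cfsg.zspanOn X {1}ᶜ, σ θ = α θ) (hτ : Cfsg.IsLinearIsometryOn (Cfsg.zspan Y) τ)
    (hτα : ∀ θ ∈ Cfsg.zspanOn Y {1}ᶜ, τ θ = α θ) :
    ∀ χ ∈ X, ∀ η ∈ Y, Cfsg.classInner (σ χ) (τ η) = 0 := by
  classical
  have h0σ : ∀ θ ∈ Cfsg.zspan X, θ 1 = 0 → σ θ 1 = 0 := by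
    intro θ hθ h1
    have hm : θ ∈ Cfsg.zspanOn X ({1}ᶜ : Set N) :=
      ⟨hθ, fun x hx => by
        have : x = 1 := by simpa using hx
        rw [this, h1]⟩
    rw [hσα θ hm]
    exact hα1 θ ⟨Submodule.span_mono hXS hθ, hm.2⟩
  have h0τ : ∀ θ ∈ Cfsg.zspan Y, θ 1 = 0 → τ θ 1 = 0 := by
    intro θ hθ h1
    have hm : θ ∈ Cfsg.zspanOn Y ({1}ᶜ : Set N) :=
      ⟨hθ, fun x hx => by
        have : x = 1 := by simpa using hx
        rw [this, h1]⟩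
    rw [hτα θ hm]
    exact hα1 θ ⟨Submodule.span_mono hYS hθ, hm.2⟩
  obtain ⟨εX, hεX, hirrX, hinjX⟩ :=
    Cfsg.Agent.S1529.result N X (fun χ hχ => hirr χ (hXS hχ)) hX2 σ hσ h0σ
  obtain ⟨εY, hεY, hirrY, hinjY⟩ :=
    Cfsg.Agent.S1529.result N Y (fun χ hχ => hirr χ (hYS hχ)) hY2 τ hτ h0τ
  intro χ hχ η hη
  by_contra hne
  obtain ⟨χ', hχ', hχχ'⟩ := exists_other hX2 χ
  obtain ⟨η', hη', hηη'⟩ := exists_other hY2 η
  obtain ⟨dχ, hdχ, hdχpos⟩ := irr_degree (hirr χ (hXS hχ))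
  obtain ⟨dχ', hdχ', hdχ'pos⟩ := irr_degree (hirr χ' (hXS hχ'))
  obtain ⟨dη, hdη, hdηpos⟩ := irr_degree (hirr η (hYS hη))
  obtain ⟨dη', hdη', hdη'pos⟩ := irr_degree (hirr η' (hYS hη'))
  have hm1 := diff_mem hχ hχ' hdχ hdχ'
  have hm2 := diff_mem hη hη' hdη hdη'
  have hm1S : (dχ' : ℤ) • χ - (dχ : ℤ) • χ' ∈ Cfsg.zspanOn S ({1}ᶜ : Set N) :=
    ⟨Submodule.span_mono hXS hm1.1, hm1.2⟩
  have hm2S : (dη' : ℤ) • η - (dη : ℤ) • η' ∈ Cfsg.zspanOn S ({1}ᶜ : Set N) :=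
    ⟨Submodule.span_mono hYS hm2.1, hm2.2⟩
  -- X and Y are disjoint, so their members are orthogonal
  have hXYne : ∀ x ∈ X, ∀ y ∈ Y, x ≠ y := by
    intro x hx y hy hxy
    exact Set.disjoint_left.1 hXY hx (hxy ▸ hy)
  have horthXY : ∀ x ∈ X, ∀ y ∈ Y, Cfsg.classInner x y = 0 := fun x hx y hy =>
    classInner_of_isIrrCharacter_of_ne (hirr x (hXS hx)) (hirr y (hYS hy)) (hXYne x hx y hy)
  have hzero : Cfsg.classInner (σ ((dχ' : ℤ) • χ - (dχ : ℤ) • χ'))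
      (τ ((dη' : ℤ) • η - (dη : ℤ) • η')) = 0 := by
    rw [hσα _ hm1, hτα _ hm2, hα.2.2.1 _ hm1S _ hm2S]
    simp only [classInner_sub_left, classInner_sub_right, classInner_zsmul_right,
      classInner_zsmul_left]
    rw [horthXY χ hχ η hη, horthXY χ hχ η' hη', horthXY χ' hχ' η hη, horthXY χ' hχ' η' hη']
    ring
  have e1 : σ ((dχ' : ℤ) • χ - (dχ : ℤ) • χ') = (dχ' : ℤ) • σ χ - (dχ : ℤ) • σ χ' := by
    rw [map_sub_of (M := Submodule.span ℤ X) hσ (Submodule.smul_mem _ _ (Submodule.subset_span hχ))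
      (Submodule.smul_mem _ _ (Submodule.subset_span hχ')), hσ.2.1 _ (subset_zspan hχ),
      hσ.2.1 _ (subset_zspan hχ')]
  have e2 : τ ((dη' : ℤ) • η - (dη : ℤ) • η') = (dη' : ℤ) • τ η - (dη : ℤ) • τ η' := by
    rw [map_sub_of (M := Submodule.span ℤ Y) hτ (Submodule.smul_mem _ _ (Submodule.subset_span hη))
      (Submodule.smul_mem _ _ (Submodule.subset_span hη')), hτ.2.1 _ (subset_zspan hη),
      hτ.2.1 _ (subset_zspan hη')]
  rw [e1, e2] at hzero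
  simp only [classInner_sub_left, classInner_sub_right, classInner_zsmul_right,
    classInner_zsmul_left] at hzero
  -- the four inner products
  have hεX0 : εX ≠ 0 := by rcases hεX with h | h <;> rw [h] <;> norm_num
  have hεY0 : εY ≠ 0 := by rcases hεY with h | h <;> rw [h] <;> norm_num
  have hcεY : conj εY = εY := by rcases hεY with h | h <;> rw [h] <;> simp
  have hζ : εX • σ χ = εY • τ η := by
    by_contra hneq
    have h3 := classInner_of_isIrrCharacter_of_ne (hirrX χ hχ) (hirrY η hη) hneq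
    rw [classInner_smul_left, classInner_smul_right] at h3
    rcases mul_eq_zero.1 h3 with h | h
    · exact hεX0 h
    · rcases mul_eq_zero.1 h with h' | h'
      · rw [hcεY] at h'; exact hεY0 h'
      · exact hne h'
  have hστ : ∀ x ∈ X, ∀ y ∈ Y, εX * εY * Cfsg.classInner (σ x) (τ y) =
      Cfsg.classInner (εX • σ x) (εY • τ y) := by
    intro x hx y hy
    rw [classInner_smul_left, classInner_smul_right, hcεY]
    ring
  have hσσ : Cfsg.classInner (σ χ') (σ χ) = 0 := by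
    rw [hσ.2.2.1 _ (subset_zspan hχ') _ (subset_zspan hχ)]
    exact classInner_of_isIrrCharacter_of_ne (hirr χ' (hXS hχ')) (hirr χ (hXS hχ)) hχχ'
  have hττ : Cfsg.classInner (τ η) (τ η') = 0 := by
    rw [hτ.2.2.1 _ (subset_zspan hη) _ (subset_zspan hη')]
    exact classInner_of_isIrrCharacter_of_ne (hirr η (hYS hη)) (hirr η' (hYS hη')) (Ne.symm hηη')
  have hττ1 : Cfsg.classInner (τ η) (τ η) = 1 := by
    rw [hτ.2.2.1 _ (subset_zspan hη) _ (subset_zspan hη)]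
    exact classInner_self_of_isIrrCharacter (hirr η (hYS hη))
  have hεX2 : εX * εX = 1 := by rcases hεX with h | h <;> rw [h] <;> norm_num
  have hεY2 : εY * εY = 1 := by rcases hεY with h | h <;> rw [h] <;> norm_num
  -- σ χ = (εX * εY) • τ η
  have hA : σ χ = (εX * εY) • τ η := by
    have : εX • (εX • σ χ) = εX • (εY • τ η) := by rw [hζ]
    rw [smul_smul, hεX2, one_smul, smul_smul] at this
    exact this
  have hB : τ η = (εX * εY) • σ χ := by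
    rw [hA, smul_smul]
    have : εX * εY * (εX * εY) = 1 := by
      calc εX * εY * (εX * εY) = (εX * εX) * (εY * εY) := by ring
        _ = 1 := by rw [hεX2, hεY2, one_mul]
    rw [this, one_smul]
  have hcs : conj (εX * εY) = εX * εY := by
    rcases hεX with h | h <;> rcases hεY with h' | h' <;> rw [h, h'] <;> simp
  have i1 : Cfsg.classInner (σ χ) (τ η) = εX * εY := by
    rw [hA, classInner_smul_left, hττ1, mul_one]
  have i2 : Cfsg.classInner (σ χ) (τ η') = 0 := by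
    rw [hA, classInner_smul_left, hττ, mul_zero]
  have i3 : Cfsg.classInner (σ χ') (τ η) = 0 := by
    rw [hB, classInner_smul_right, hσσ, mul_zero]
  have i4 : εX * εY * Cfsg.classInner (σ χ') (τ η') = 0 ∨
      εX * εY * Cfsg.classInner (σ χ') (τ η') = 1 := by
    rw [hστ χ' hχ' η' hη', classInner_irr (hirrX χ' hχ') (hirrY η' hη')]
    split_ifs
    · right; rfl
    · left; rfl
  rw [i1, i2, i3] at hzero
  -- multiply by εX * εY
  have hfin : (dχ' : ℂ) * dη' + (dχ : ℂ) * dη * (εX * εY * Cfsg.classInner (σ χ') (τ η')) = 0 := by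
    have h5 := congrArg (fun z => εX * εY * z) hzero
    simp only [mul_zero] at h5
    have h6 : εX * εY * (εX * εY) = 1 := by
      calc εX * εY * (εX * εY) = (εX * εX) * (εY * εY) := by ring
        _ = 1 := by rw [hεX2, hεY2, one_mul]
    push_cast at h5
    linear_combination h5 - (dχ' : ℂ) * dη' * h6
  rcases i4 with h | h
  · rw [h, mul_zero, add_zero] at hfin
    have : (dχ' * dη' : ℕ) = 0 := by exact_mod_cast hfin
    have := Nat.mul_pos hdχ'pos hdη'pos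
    omega
  · rw [h, mul_one] at hfin
    have : (dχ' * dη' + dχ * dη : ℕ) = 0 := by exact_mod_cast hfin
    have := Nat.mul_pos hdχ'pos hdη'pos
    omega

theorem map_comb3 {L : Type*} [Group L] [Fintype L] {M : Submodule ℤ (L → ℂ)}
    {f : (L → ℂ) → (G → ℂ)}
    (hf : Cfsg.IsLinearIsometryOn (M : Set (L → ℂ)) f) {g p q : L → ℂ} (hg : g ∈ M) (hp : p ∈ M)
    (hq : q ∈ M) (c₁ c₂ c₃ : ℤ) :
    f (c₁ • g + c₂ • p + c₃ • q) = c₁ • f g + c₂ • f p + c₃ • f q := by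
  rw [hf.1 _ (M.add_mem (M.smul_mem c₁ hg) (M.smul_mem c₂ hp)) _ (M.smul_mem c₃ hq),
    hf.1 _ (M.smul_mem c₁ hg) _ (M.smul_mem c₂ hp), hf.2.1 _ hg, hf.2.1 _ hp, hf.2.1 _ hq]

end Main

/-- Let N be a subgroup of the finite group G, S a set of irreducible characters of N, and α a linear isometry on the integer combinations of S vanishing at 1 with values virtual characters of G vanishing at 1. Let X, Y ⊆ S be disjoint, each with at least two members, and σ, τ linear isometries on ℤ[X], ℤ[Y] into virtual characters agreeing with α on the members vanishing at 1. Then ⟨σ χ, τ η⟩ = 0 for χ ∈ X, η ∈ Y; and if for some χ₀ ∈ X, η₀ ∈ Y with degrees c = χ₀ 1, e = η₀ 1 one has α (c • η₀ − e • χ₀) = c • τ η₀ − e • σ χ₀, then (X ∪ Y, N minus 1, α) is coherent. -/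
theorem result {G : Type*} [Group G] [Fintype G] (N : Subgroup G) [Fintype N] (S X Y : Set (N → ℂ)) (hirr : ∀ ξ ∈ S, Cfsg.IsIrrCharacter N ξ) (hXS : X ⊆ S) (hYS : Y ⊆ S) (hXY : Disjoint X Y) (hX2 : ∃ a ∈ X, ∃ b ∈ X, a ≠ b) (hY2 : ∃ a ∈ Y, ∃ b ∈ Y, a ≠ b) (α : (N → ℂ) → (G → ℂ)) (hα : Cfsg.IsLinearIsometryOn (Cfsg.zspanOn S {1}ᶜ) α) (hα1 : ∀ θ ∈ Cfsg.zspanOn S {1}ᶜ, α θ 1 = 0) (σ τ : (N → ℂ) → (G → ℂ)) (hσ : Cfsg.IsLinearIsometryOn (Cfsg.zspan X) σ) (hσα : ∀ θ ∈ Cfsg.zspanOn X {1}ᶜ, σ θ = α θ) (hτ : Cfsg.IsLinearIsometryOn (Cfsg.zspan Y) τ) (hτα : ∀ θ ∈ Cfsg.zspanOn Y {1}ᶜ, τ θ = α θ) : (∀ χ ∈ X, ∀ η ∈ Y, Cfsg.classInner (σ χ) (τ η) = 0) ∧ ((∃ χ₀ ∈ X, ∃ η₀ ∈ Y, α (χ₀ 1 • η₀ - η₀ 1 • χ₀) = χ₀ 1 • τ η₀ - η₀ 1 • σ χ₀) → Cfsg.IsCoherent (X ∪ Y) {1}ᶜ α) := by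
  classical
  have h1 := part1 N S X Y hirr hXS hYS hXY hX2 hY2 α hα hα1 σ τ hσ hσα hτ hτα
  refine ⟨h1, ?_⟩
  rintro ⟨χ₀, hχ₀, η₀, hη₀, hμ⟩
  have hα' : Cfsg.IsLinearIsometryOn
      ((zspanOnSub S ({1}ᶜ : Set N) : Submodule ℤ (N → ℂ)) : Set (N → ℂ)) α := hα
  have hnotX : ∀ y ∈ Y, y ∉ X := fun y hy hx => Set.disjoint_left.1 hXY hx hy
  have hS'S : X ∪ Y ⊆ S := Set.union_subset hXS hYS
  have hirr' : ∀ x ∈ X ∪ Y, Cfsg.IsIrrCharacter N x := fun x hx => hirr x (hS'S hx)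
  have horth' : ∀ x ∈ X ∪ Y, ∀ y ∈ X ∪ Y, x ≠ y → Cfsg.classInner x y = 0 :=
    fun x hx y hy h => classInner_of_isIrrCharacter_of_ne (hirr' x hx) (hirr' y hy) h
  have hne' : ∀ x ∈ X ∪ Y, Cfsg.classInner x x ≠ 0 := by
    intro x hx
    rw [classInner_self_of_isIrrCharacter (hirr' x hx)]
    exact one_ne_zero
  have hdeg : ∀ x : N → ℂ, ∃ n : ℕ, x ∈ S → (x 1 = n ∧ 0 < n) := by
    intro x
    by_cases hx : x ∈ S
    · obtain ⟨n, hn, hpos⟩ := irr_degree (hirr x hx)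
      exact ⟨n, fun _ => ⟨hn, hpos⟩⟩
    · exact ⟨0, fun h => absurd h hx⟩
  choose d hd using hdeg
  -- the assignment
  set v : (N → ℂ) → (G → ℂ) := fun φ => if φ ∈ X then σ φ else τ φ with hv
  have hvX : ∀ x ∈ X, v x = σ x := fun x hx => by simp [hv, hx]
  have hvY : ∀ y ∈ Y, v y = τ y := fun y hy => by simp [hv, hnotX y hy]
  have hvg : ∀ φ ∈ X ∪ Y, Cfsg.IsGeneralizedCharacter G (v φ) := by
    intro φ hφ
    rcases hφ with h | h
    · rw [hvX φ h]; exact hσ.2.2.2 _ (subset_zspan h)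
    · rw [hvY φ h]; exact hτ.2.2.2 _ (subset_zspan h)
  have hvv : ∀ x ∈ X ∪ Y, ∀ y ∈ X ∪ Y, Cfsg.classInner (v x) (v y) = Cfsg.classInner x y := by
    intro x hx y hy
    rcases hx with h | h <;> rcases hy with h' | h'
    · rw [hvX x h, hvX y h', hσ.2.2.1 _ (subset_zspan h) _ (subset_zspan h')]
    · rw [hvX x h, hvY y h', h1 x h y h',
        classInner_of_isIrrCharacter_of_ne (hirr x (hXS h)) (hirr y (hYS h'))
          (fun e => hnotX y h' (e ▸ h))]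
    · rw [hvY x h, hvX y h', ← classInner_conj_symm, h1 y h' x h, map_zero,
        classInner_of_isIrrCharacter_of_ne (hirr x (hYS h)) (hirr y (hXS h'))
          (fun e => hnotX x h (e ▸ h'))]
    · rw [hvY x h, hvY y h', hτ.2.2.1 _ (subset_zspan h) _ (subset_zspan h')]
  obtain ⟨ρ, hρ, hρv⟩ := exists_isometry_of_assignment horth' hne' v hvg hvv
  obtain ⟨a, ha, b, hb, hab⟩ := hX2
  have hsubX : Cfsg.zspan X ⊆ Cfsg.zspan (X ∪ Y) := fun x hx =>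
    Submodule.span_mono Set.subset_union_left hx
  have hsubY : Cfsg.zspan Y ⊆ Cfsg.zspan (X ∪ Y) := fun x hx =>
    Submodule.span_mono Set.subset_union_right hx
  refine ⟨⟨(d b : ℤ) • a - (d a : ℤ) • b, ?_, ?_⟩, ρ, hρ, ?_⟩
  · have := diff_mem ha hb (hd a (hXS ha)).1 (hd b (hXS hb)).1
    exact ⟨hsubX this.1, this.2⟩
  · intro h0
    have h2 := congrArg (fun f => Cfsg.classInner f a) h0
    simp only [classInner_sub_left, classInner_zsmul_left, classInner_zero_left] at h2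
    rw [classInner_self_of_isIrrCharacter (hirr a (hXS ha)),
      classInner_of_isIrrCharacter_of_ne (hirr b (hXS hb)) (hirr a (hXS ha)) (Ne.symm hab)] at h2
    have h3 : ((d b : ℤ) : ℂ) = 0 := by linear_combination h2
    have h4 : d b = 0 := by exact_mod_cast h3
    have := (hd b (hXS hb)).2
    omega
  intro β hβ
  have hβS : β ∈ Cfsg.zspanOn S ({1}ᶜ : Set N) := ⟨Submodule.span_mono hS'S hβ.1, hβ.2⟩
  have hfin : (X ∪ Y).Finite := finite_of_orthogonal horth' hne'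
  set F : Finset (N → ℂ) := hfin.toFinset with hFdef
  have hF : ∀ x, x ∈ F ↔ x ∈ X ∪ Y := fun x => hfin.mem_toFinset
  have hexp := expansion horth' hne' F hF hβ.1
  have hint := coef_int horth' hne' hβ.1
  choose! c hc using hint
  have hβ1 : β = ∑ x ∈ F, c x • x := by
    conv_lhs => rw [hexp]
    refine Finset.sum_congr rfl (fun x hx => ?_)
    rw [hc x ((hF x).1 hx)]
    funext l
    simp
  set βX : N → ℂ := ∑ x ∈ F.filter (· ∈ X), c x • x with hβX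
  set βY : N → ℂ := ∑ x ∈ F.filter (· ∉ X), c x • x with hβY
  have hsplit : β = βX + βY := by
    rw [hβ1, hβX, hβY, Finset.sum_filter_add_sum_filter_not]
  have hβXspan : βX ∈ Submodule.span ℤ X :=
    Submodule.sum_mem _ (fun x hx =>
      Submodule.smul_mem _ _ (Submodule.subset_span (Finset.mem_filter.1 hx).2))
  have hβYspan : βY ∈ Submodule.span ℤ Y :=
    Submodule.sum_mem _ (fun x hx => by
      have h2 := Finset.mem_filter.1 hx
      rcases (hF x).1 h2.1 with h | h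
      · exact absurd h h2.2
      · exact Submodule.smul_mem _ _ (Submodule.subset_span h))
  set p : ℤ := ∑ x ∈ F.filter (· ∈ X), c x * (d x : ℤ) with hp
  have hβX1 : βX 1 = (p : ℂ) := by
    rw [hβX, Finset.sum_apply, hp]
    push_cast
    refine Finset.sum_congr rfl (fun x hx => ?_)
    rw [Pi.smul_apply, (hd x (hXS (Finset.mem_filter.1 hx).2)).1, zsmul_eq_mul]
  have hβY1 : βY 1 = -(p : ℂ) := by
    have h2 : β 1 = 0 := hβ.2 1 (by simp)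
    rw [hsplit, Pi.add_apply, hβX1] at h2
    linear_combination h2
  have hdχ₀ := (hd χ₀ (hXS hχ₀)).1
  have hdη₀ := (hd η₀ (hYS hη₀)).1
  -- the three pieces
  have hβ₁ : (d χ₀ : ℤ) • βX - p • χ₀ ∈ Cfsg.zspanOn X ({1}ᶜ : Set N) := by
    refine ⟨Submodule.sub_mem _ (Submodule.smul_mem _ _ hβXspan)
      (Submodule.smul_mem _ _ (Submodule.subset_span hχ₀)), ?_⟩
    intro l hl
    have hl' : l = 1 := by simpa using hl
    rw [hl', Pi.sub_apply, Pi.smul_apply, Pi.smul_apply, hβX1, hdχ₀]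
    simp [mul_comm]
  have hβ₂ : (d η₀ : ℤ) • βY + p • η₀ ∈ Cfsg.zspanOn Y ({1}ᶜ : Set N) := by
    refine ⟨Submodule.add_mem _ (Submodule.smul_mem _ _ hβYspan)
      (Submodule.smul_mem _ _ (Submodule.subset_span hη₀)), ?_⟩
    intro l hl
    have hl' : l = 1 := by simpa using hl
    rw [hl', Pi.add_apply, Pi.smul_apply, Pi.smul_apply, hβY1, hdη₀]
    simp [mul_comm]
  have hμeq : χ₀ 1 • η₀ - η₀ 1 • χ₀ = (d χ₀ : ℤ) • η₀ - (d η₀ : ℤ) • χ₀ := by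
    rw [hdχ₀, hdη₀]
    funext l
    simp
  have hμmem : (d χ₀ : ℤ) • η₀ - (d η₀ : ℤ) • χ₀ ∈ Cfsg.zspanOn S ({1}ᶜ : Set N) := by
    refine ⟨Submodule.sub_mem _ (Submodule.smul_mem _ _ (Submodule.subset_span (hYS hη₀)))
      (Submodule.smul_mem _ _ (Submodule.subset_span (hXS hχ₀))), ?_⟩
    intro l hl
    have hl' : l = 1 := by simpa using hl
    rw [hl', Pi.sub_apply, Pi.smul_apply, Pi.smul_apply, hdχ₀, hdη₀]
    simp [mul_comm]
  have hμα : α ((d χ₀ : ℤ) • η₀ - (d η₀ : ℤ) • χ₀) = (d χ₀ : ℤ) • τ η₀ - (d η₀ : ℤ) • σ χ₀ := by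
    rw [← hμeq, hμ, hdχ₀, hdη₀]
    funext l
    simp
  have hβ₁S : (d χ₀ : ℤ) • βX - p • χ₀ ∈ Cfsg.zspanOn S ({1}ᶜ : Set N) :=
    ⟨Submodule.span_mono hXS hβ₁.1, hβ₁.2⟩
  have hβ₂S : (d η₀ : ℤ) • βY + p • η₀ ∈ Cfsg.zspanOn S ({1}ᶜ : Set N) :=
    ⟨Submodule.span_mono hYS hβ₂.1, hβ₂.2⟩
  have hident : ((d χ₀ * d η₀ : ℕ) : ℤ) • β =
      (d η₀ : ℤ) • ((d χ₀ : ℤ) • βX - p • χ₀) + (d χ₀ : ℤ) • ((d η₀ : ℤ) • βY + p • η₀) +
        (-p) • ((d χ₀ : ℤ) • η₀ - (d η₀ : ℤ) • χ₀) := by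
    rw [hsplit]
    funext l
    simp only [Pi.add_apply, Pi.smul_apply, Pi.sub_apply]
    simp only [zsmul_eq_mul]
    push_cast
    ring
  -- α side
  have eα : ((d χ₀ * d η₀ : ℕ) : ℤ) • α β =
      (d η₀ : ℤ) • α ((d χ₀ : ℤ) • βX - p • χ₀) + (d χ₀ : ℤ) • α ((d η₀ : ℤ) • βY + p • η₀) +
        (-p) • α ((d χ₀ : ℤ) • η₀ - (d η₀ : ℤ) • χ₀) := by
    rw [← hα.2.1 β hβS, hident]
    exact map_comb3 hα' hβ₁S hβ₂S hμmem _ _ _
  -- ρ side
  have hχ₀S' : χ₀ ∈ X ∪ Y := Or.inl hχ₀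
  have hη₀S' : η₀ ∈ X ∪ Y := Or.inr hη₀
  have hμS' : (d χ₀ : ℤ) • η₀ - (d η₀ : ℤ) • χ₀ ∈ Submodule.span ℤ (X ∪ Y) :=
    Submodule.sub_mem _ (Submodule.smul_mem _ _ (Submodule.subset_span hη₀S'))
      (Submodule.smul_mem _ _ (Submodule.subset_span hχ₀S'))
  have eρ : ((d χ₀ * d η₀ : ℕ) : ℤ) • ρ β =
      (d η₀ : ℤ) • ρ ((d χ₀ : ℤ) • βX - p • χ₀) + (d χ₀ : ℤ) • ρ ((d η₀ : ℤ) • βY + p • η₀) +
        (-p) • ρ ((d χ₀ : ℤ) • η₀ - (d η₀ : ℤ) • χ₀) := by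
    rw [← hρ.2.1 β hβ.1, hident]
    exact map_comb3 (M := Submodule.span ℤ (X ∪ Y)) hρ (hsubX hβ₁.1) (hsubY hβ₂.1) hμS' _ _ _
  have r1 : ρ ((d χ₀ : ℤ) • βX - p • χ₀) = α ((d χ₀ : ℤ) • βX - p • χ₀) := by
    rw [agree_on_span (isometry_mono hsubX hρ) hσ
      (fun x hx => by rw [hρv x (Or.inl hx), hvX x hx]) hβ₁.1]
    exact hσα _ hβ₁
  have r2 : ρ ((d η₀ : ℤ) • βY + p • η₀) = α ((d η₀ : ℤ) • βY + p • η₀) := by
    rw [agree_on_span (isometry_mono hsubY hρ) hτ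
      (fun x hx => by rw [hρv x (Or.inr hx), hvY x hx]) hβ₂.1]
    exact hτα _ hβ₂
  have r3 : ρ ((d χ₀ : ℤ) • η₀ - (d η₀ : ℤ) • χ₀) = α ((d χ₀ : ℤ) • η₀ - (d η₀ : ℤ) • χ₀) := by
    rw [hμα, map_sub_of (M := Submodule.span ℤ (X ∪ Y)) hρ
      (Submodule.smul_mem _ _ (Submodule.subset_span hη₀S'))
      (Submodule.smul_mem _ _ (Submodule.subset_span hχ₀S')),
      hρ.2.1 _ (subset_zspan hη₀S'), hρ.2.1 _ (subset_zspan hχ₀S'),
      hρv η₀ hη₀S', hρv χ₀ hχ₀S', hvY η₀ hη₀, hvX χ₀ hχ₀]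
  rw [r1, r2, r3, ← eα] at eρ
  have hK : ((d χ₀ * d η₀ : ℕ) : ℤ) ≠ 0 := by
    have h3 := (hd χ₀ (hXS hχ₀)).2
    have h4 := (hd η₀ (hYS hη₀)).2
    have := Nat.mul_pos h3 h4
    exact_mod_cast this.ne'
  funext g
  have h5 := congrFun eρ g
  simp only [Pi.smul_apply, zsmul_eq_mul] at h5
  have hK' : (((d χ₀ * d η₀ : ℕ) : ℤ) : ℂ) ≠ 0 := by exact_mod_cast hK
  exact mul_left_cancel₀ hK' h5

end Cfsg.Agent.S1531
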