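import Cfsg.Statements.S1532
import Cfsg.Agent.S1522
import Cfsg.Agent.S1514
import Cfsg.Agent.Lib.Helper25_FrobTI
import Cfsg.Agent.Lib.Helper16_CohBasic
import Cfsg.Agent.Lib.Helper79_UniqueSingular
import Cfsg.Agent.Lib.Helper3_CharBridge

set_option autoImplicit false
open Cfsg

namespace Cfsg.Agent.S1532

open Cfsg.Agent.Lib.Helper25_FrobTI

/-- Let G be a finite group, p an odd prime and P a Sylow p-subgroup that is non-abelian, whose underlying set is a TI-subset of G, with P properly contained in its set normaliser N and C_G(x) ≤ P for every non-identity x ∈ P. Let Z be a nontrivial subgroup of the centre of P normalised by N. Then the set of irreducible characters χ of N with χ z ≠ χ 1 for some z ∈ Z is coherent for the map induced by induction from N to G. -/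
theorem result {G : Type*} [Group G] [Fintype G] (p : ℕ) [Fact p.Prime] (hp : p ≠ 2) (P : Sylow p G) (hna : ¬ IsMulCommutative (P : Subgroup G)) (hTI : Cfsg.IsTISubset ((P : Subgroup G) : Set G)) (hlt : (P : Subgroup G) < Subgroup.normalizer ((P : Subgroup G) : Set G)) (hC : ∀ k ∈ (P : Subgroup G), k ≠ 1 → Subgroup.centralizer ({k} : Set G) ≤ (P : Subgroup G)) [Fintype ↥(Subgroup.normalizer ((P : Subgroup G) : Set G))] (Z : Subgroup G) (hZ1 : Z ≠ ⊥) (hZP : ∀ z ∈ Z, z ∈ (P : Subgroup G) ∧ ∀ y ∈ (P : Subgroup G), z * y = y * z) (hZn : ∀ x ∈ Subgroup.normalizer ((P : Subgroup G) : Set G), ∀ z ∈ Z, x * z * x⁻¹ ∈ Z) : Cfsg.IsCoherent {χ : ↥(Subgroup.normalizer ((P : Subgroup G) : Set G)) → ℂ | Cfsg.IsIrrCharacter ↥(Subgroup.normalizer ((P : Subgroup G) : Set G)) χ ∧ ∃ z : ↥(Subgroup.normalizer ((P : Subgroup G) : Set G)), (z : G) ∈ Z ∧ χ z ≠ χ 1} {1}ᶜ (fun α => Cfsg.indFun (Subgroup.normalizer ((P : Subgroup G) : Set G)) α) := by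
  classical
  have hPN : (P : Subgroup G) ≤ Subgroup.normalizer ((P : Subgroup G) : Set G) :=
    Subgroup.le_normalizer
  -- the kernel inside the normalizer
  let K : Subgroup ↥(Subgroup.normalizer ((P : Subgroup G) : Set G)) :=
    (P : Subgroup G).subgroupOf (Subgroup.normalizer ((P : Subgroup G) : Set G))
  have hKn : K.Normal := Subgroup.normal_in_normalizer
  have hmemK : ∀ x : ↥(Subgroup.normalizer ((P : Subgroup G) : Set G)),
      x ∈ K ↔ (x : G) ∈ (P : Subgroup G) := fun x => Subgroup.mem_subgroupOf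
  have hfrob : ∀ k ∈ K, k ≠ 1 → ∀ x : ↥(Subgroup.normalizer ((P : Subgroup G) : Set G)),
      x * k = k * x → x ∈ K := by
    intro k hk hk1 x hx
    rw [hmemK] at hk ⊢
    have hk1' : (k : G) ≠ 1 := fun h => hk1 (Subtype.ext h)
    apply hC (k : G) hk hk1'
    rw [Subgroup.mem_centralizer_singleton_iff]
    exact congrArg Subtype.val hx
  have hcardK : Nat.card K = Nat.card (P : Subgroup G) :=
    Nat.card_congr (Subgroup.subgroupOfEquivOfLe hPN).toEquiv
  have hcop : (Nat.card K).Coprime K.index := by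
    rw [hcardK]
    have h1 : (Nat.card (P : Subgroup G)).Coprime (P : Subgroup G).index := P.card_coprime_index
    have h2 : K.index ∣ (P : Subgroup G).index :=
      Dvd.intro _ (Subgroup.relIndex_mul_index hPN)
    exact Nat.Coprime.coprime_dvd_right h2 h1
  have hKp : IsPGroup p K := P.isPGroup'.comap_subtype
  have hKodd : Odd (Nat.card K) := by
    obtain ⟨n, hn⟩ := hKp.exists_card_eq
    rw [hn]
    exact Odd.pow ((Fact.out : p.Prime).odd_of_ne_two hp)
  have hKna : ¬ ∀ a ∈ K, ∀ b ∈ K, a * b = b * a := by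
    intro h
    apply hna
    refine ⟨⟨fun a b => ?_⟩⟩
    have := h ⟨(a : G), hPN a.2⟩ ((hmemK _).mpr a.2) ⟨(b : G), hPN b.2⟩ ((hmemK _).mpr b.2)
    exact Subtype.ext (congrArg (fun z : ↥(Subgroup.normalizer ((P : Subgroup G) : Set G)) => (z : G)) this)
  have hodd : Odd (Nat.card ↥(Subgroup.normalizer ((P : Subgroup G) : Set G))) :=
    odd_card_of_not_comm K hfrob hKodd hKna
  have hnil : Group.IsNilpotent K := hKp.isNilpotent
  have hsolv : Group.IsSolvable K := by
    have := hnil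
    infer_instance
  -- the set of induced characters
  have hirrS : ∀ χ ∈ Cfsg.inducedIrrAbove K ⊥,
      Cfsg.IsIrrCharacter ↥(Subgroup.normalizer ((P : Subgroup G) : Set G)) χ := by
    rintro χ ⟨θ, hθ, hne, -, rfl⟩
    exact isIrrCharacter_indFun K hfrob hcop hθ hne
  have hK1 : Nontrivial K := by
    by_contra h
    rw [not_nontrivial_iff_subsingleton] at h
    apply hKna
    intro a ha b hb
    have := Subsingleton.elim (⟨a, ha⟩ : K) ⟨b, hb⟩
    have hab : a = b := congrArg Subtype.val this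
    rw [hab]
  obtain ⟨x₀, hx₀N, hx₀P⟩ := SetLike.exists_of_lt hlt
  have hx₀K : (⟨x₀, hx₀N⟩ : ↥(Subgroup.normalizer ((P : Subgroup G) : Set G))) ∉ K := by
    rw [hmemK]; exact hx₀P
  have hSne : (Cfsg.inducedIrrAbove K ⊥).Nonempty := by
    obtain ⟨θ, hθ, hne⟩ := Cfsg.Agent.Lib.Helper79_UniqueSingular.exists_irr_ne_one hK1
    refine ⟨Cfsg.indFun K θ, θ, hθ, hne, fun a ha => ?_, rfl⟩
    have ha1 : a = 1 := Subtype.ext (Subgroup.mem_bot.mp ha)
    rw [ha1]
  have hvanS : ∀ χ ∈ Cfsg.inducedIrrAbove K ⊥,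
      ∀ x : ↥(Subgroup.normalizer ((P : Subgroup G) : Set G)), (x : G) ∉ (P : Subgroup G) →
        χ x = 0 := by
    rintro χ ⟨θ, hθ, hne, -, rfl⟩ x hx
    exact Cfsg.Agent.Lib.Helper16_CohBasic.indFun_eq_zero_of_not_mem K θ
      (fun h => hx ((hmemK x).mp h))
  have hconj : ∀ χ ∈ Cfsg.inducedIrrAbove K ⊥,
      Cfsg.conjFun χ ∈ Cfsg.inducedIrrAbove K ⊥ ∧ Cfsg.conjFun χ ≠ χ := by
    intro χ hχ
    refine ⟨Cfsg.Agent.Lib.Helper16_CohBasic.conj_mem_inducedIrrAbove K ⊥ hχ, fun h => ?_⟩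
    have h1 := eq_one_of_real hodd (hirrS χ hχ) h
    have h2 := hvanS χ hχ ⟨x₀, hx₀N⟩ hx₀P
    rw [h1] at h2
    exact one_ne_zero h2
  obtain ⟨hτ, hτ1⟩ := isometry_of_TI (P : Subgroup G) hTI (Cfsg.inducedIrrAbove K ⊥)
    (fun χ hχ => Cfsg.Agent.Lib.Helper3_CharBridge.isCharacter_of_isIrrCharacter (hirrS χ hχ))
    hvanS
  obtain ⟨R, hR⟩ := Cfsg.Agent.S1514.result (Cfsg.inducedIrrAbove K ⊥) hSne hirrS hconj
    (fun α => Cfsg.indFun (Subgroup.normalizer ((P : Subgroup G) : Set G)) α) hτ hτ1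
  -- hypotheses of the coherence theorem
  have hder : ⁅K, K⁆ < K := by
    refine lt_of_le_of_ne (Subgroup.commutator_le_left K K) (fun h => ?_)
    have h1 : ⁅K, K⁆ = Subgroup.map K.subtype ⁅(⊤ : Subgroup K), ⊤⁆ := by
      rw [Subgroup.map_commutator, ← MonoidHom.range_eq_map, Subgroup.range_subtype]
    have h2 : K = Subgroup.map K.subtype ⊤ := by
      rw [← MonoidHom.range_eq_map, Subgroup.range_subtype]
    have h3 := Subgroup.map_injective K.subtype_injective ((h1.symm.trans h).trans h2)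
    have := hsolv
    exact (Group.IsSolvable.commutator_lt_top_of_nontrivial K).ne h3
  have hKL : K < ⊤ := by
    rw [lt_top_iff_ne_top]
    intro h
    apply hx₀K
    rw [h]
    trivial
  have hfrob' : ∀ k ∈ K, k ∉ ⁅K, K⁆ →
      ∀ x : ↥(Subgroup.normalizer ((P : Subgroup G) : Set G)),
        x * k * x⁻¹ * k⁻¹ ∈ ⁅K, K⁆ → x ∈ K :=
    fun k hk hk' x hx => mem_of_commutator K hfrob hk hk' x hx
  let Z' : Subgroup ↥(Subgroup.normalizer ((P : Subgroup G) : Set G)) :=
    Z.subgroupOf (Subgroup.normalizer ((P : Subgroup G) : Set G))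
  have hmemZ : ∀ x : ↥(Subgroup.normalizer ((P : Subgroup G) : Set G)),
      x ∈ Z' ↔ (x : G) ∈ Z := fun x => Subgroup.mem_subgroupOf
  have hZ'n : Z'.Normal := by
    refine ⟨fun z hz x => ?_⟩
    rw [hmemZ] at hz ⊢
    exact hZn x x.2 z hz
  have hZ'1 : Z' ≠ ⊥ := by
    obtain ⟨z, hz1⟩ := (Subgroup.ne_bot_iff_exists_ne_one).mp hZ1
    intro h
    apply hz1
    have hzN : (z : G) ∈ Subgroup.normalizer ((P : Subgroup G) : Set G) := hPN (hZP z z.2).1
    have hmem : (⟨z, hzN⟩ : ↥(Subgroup.normalizer ((P : Subgroup G) : Set G))) ∈ Z' := by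
      rw [hmemZ]; exact z.2
    rw [h, Subgroup.mem_bot] at hmem
    exact Subtype.ext (congrArg (fun w : ↥(Subgroup.normalizer ((P : Subgroup G) : Set G)) => (w : G)) hmem)
  have hZ'K : Z' ≤ K := by
    intro z hz
    rw [hmemZ] at hz
    rw [hmemK]
    exact (hZP z hz).1
  have hZ'c : ∀ z ∈ Z', ∀ k ∈ K, z * k = k * z := by
    intro z hz k hk
    rw [hmemZ] at hz
    rw [hmemK] at hk
    exact Subtype.ext ((hZP z hz).2 k hk)
  have hirr' : ∀ χ ∈ Cfsg.inducedIrrAbove K ⊥ \ Cfsg.inducedIrrAbove K Z',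
      Cfsg.IsIrrCharacter ↥(Subgroup.normalizer ((P : Subgroup G) : Set G)) χ :=
    fun χ hχ => hirrS χ hχ.1
  obtain ⟨hset, hcoh⟩ := Cfsg.Agent.S1522.result K hsolv
    (fun α => Cfsg.indFun (Subgroup.normalizer ((P : Subgroup G) : Set G)) α) R hR hodd hnil hder
    hKL hfrob' Z' hZ'1 hZ'K hZ'c hirr'
  rw [hset] at hcoh
  exact hcoh

end Cfsg.Agent.S1532
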