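import Cfsg.Statements.S1533
import Cfsg.Agent.S1524
import Cfsg.Agent.Lib.Helper25_FrobTI
import Cfsg.Agent.Lib.Helper25_FrobSet
import Cfsg.Agent.Lib.Helper25_EqDeg
import Cfsg.Agent.Lib.Helper16_CohBasic
import Cfsg.Agent.Lib.Helper79_UniqueSingular
import Cfsg.Agent.Lib.Helper3_CharBridge

set_option autoImplicit false
open Cfsg

namespace Cfsg.Agent.S1533

open Cfsg.Agent.Lib.Helper25_FrobTI Cfsg.Agent.Lib.Helper25_FrobSet

/-- Let G be a finite group, p an odd prime and P a nontrivial Sylow p-subgroup whose underlying set is a TI-subset of G, with P properly contained in its set normaliser N and C_G(x) ≤ P for every non-identity x ∈ P. Then either N has exactly one irreducible character not trivial on P, P is elementary abelian and |P| = [N : P] + 1; or the set of irreducible characters of N not trivial on P is coherent for the map induced by induction from N to G. -/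
theorem result {G : Type*} [Group G] [Fintype G] (p : ℕ) [Fact p.Prime] (hp : p ≠ 2) (P : Sylow p G) (hP1 : (P : Subgroup G) ≠ ⊥) (hTI : Cfsg.IsTISubset ((P : Subgroup G) : Set G)) (hlt : (P : Subgroup G) < Subgroup.normalizer ((P : Subgroup G) : Set G)) (hC : ∀ k ∈ (P : Subgroup G), k ≠ 1 → Subgroup.centralizer ({k} : Set G) ≤ (P : Subgroup G)) [Fintype ↥(Subgroup.normalizer ((P : Subgroup G) : Set G))] : (Nat.card {χ : ↥(Subgroup.normalizer ((P : Subgroup G) : Set G)) → ℂ // Cfsg.IsIrrCharacter ↥(Subgroup.normalizer ((P : Subgroup G) : Set G)) χ ∧ ∃ x : ↥(Subgroup.normalizer ((P : Subgroup G) : Set G)), (x : G) ∈ (P : Subgroup G) ∧ χ x ≠ χ 1} = 1 ∧ Cfsg.IsElementaryAbelian p (P : Subgroup G) ∧ Nat.card (P : Subgroup G) = ((P : Subgroup G).subgroupOf (Subgroup.normalizer ((P : Subgroup G) : Set G))).index + 1) ∨ Cfsg.IsCoherent {χ : ↥(Subgroup.normalizer ((P : Subgroup G) : Set G)) → ℂ | Cfsg.IsIrrCharacter ↥(Subgroup.normalizer ((P : Subgroup G) : Set G)) χ ∧ ∃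 x : ↥(Subgroup.normalizer ((P : Subgroup G) : Set G)), (x : G) ∈ (P : Subgroup G) ∧ χ x ≠ χ 1} {1}ᶜ (fun α => Cfsg.indFun (Subgroup.normalizer ((P : Subgroup G) : Set G)) α) := by
  classical
  have hPN : (P : Subgroup G) ≤ Subgroup.normalizer ((P : Subgroup G) : Set G) :=
    Subgroup.le_normalizer
  let K : Subgroup ↥(Subgroup.normalizer ((P : Subgroup G) : Set G)) :=
    (P : Subgroup G).subgroupOf (Subgroup.normalizer ((P : Subgroup G) : Set G))
  have hKn : K.Normal := Subgroup.normal_in_normalizer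
  have hmemK : ∀ x : ↥(Subgroup.normalizer ((P : Subgroup G) : Set G)),
      x ∈ K ↔ (x : G) ∈ (P : Subgroup G) := fun x => Subgroup.mem_subgroupOf
  have hfrob : ∀ k ∈ K, k ≠ 1 → ∀ x : ↥(Subgroup.normalizer ((P : Subgroup G) : Set G)),
      x * k = k * x → x ∈ K := by
    intro k hk hk1 x hx
    rw [hmemK] at hk ⊢
    have hk1' : (k : G) ≠ 1 := fun h => hk1 (Subtype.ext h)
    apply hC (k : G) hk hk1'
    rw [Subgroup.mem_centralizer_singleton_iff]
    exact congrArg Subtype.val hx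
  have hcardK : Nat.card K = Nat.card (P : Subgroup G) :=
    Nat.card_congr (Subgroup.subgroupOfEquivOfLe hPN).toEquiv
  have hcop : (Nat.card K).Coprime K.index := by
    rw [hcardK]
    have h1 : (Nat.card (P : Subgroup G)).Coprime (P : Subgroup G).index := P.card_coprime_index
    have h2 : K.index ∣ (P : Subgroup G).index :=
      Dvd.intro _ (Subgroup.relIndex_mul_index hPN)
    exact Nat.Coprime.coprime_dvd_right h2 h1
  have hKp : IsPGroup p K := P.isPGroup'.comap_subtype
  have hKodd : Odd (Nat.card K) := by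
    obtain ⟨n, hn⟩ := hKp.exists_card_eq
    rw [hn]
    exact Odd.pow ((Fact.out : p.Prime).odd_of_ne_two hp)
  have hK1 : K ≠ ⊥ := by
    intro h
    apply hP1
    rw [eq_bot_iff]
    intro x hx
    have hmem : (⟨x, hPN hx⟩ : ↥(Subgroup.normalizer ((P : Subgroup G) : Set G))) ∈ K :=
      (hmemK _).mpr hx
    rw [h, Subgroup.mem_bot] at hmem
    rw [Subgroup.mem_bot]
    exact congrArg (fun w : ↥(Subgroup.normalizer ((P : Subgroup G) : Set G)) => (w : G)) hmem
  have hKnt : Nontrivial K := (Subgroup.nontrivial_iff_ne_bot K).mpr hK1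
  -- the set of characters
  have hset : {χ : ↥(Subgroup.normalizer ((P : Subgroup G) : Set G)) → ℂ |
      Cfsg.IsIrrCharacter ↥(Subgroup.normalizer ((P : Subgroup G) : Set G)) χ ∧
        ∃ x : ↥(Subgroup.normalizer ((P : Subgroup G) : Set G)), (x : G) ∈ (P : Subgroup G) ∧
          χ x ≠ χ 1} = Cfsg.inducedIrrAbove K ⊥ := setOf_irr_eq K hfrob hcop
  have hirrS : ∀ χ ∈ Cfsg.inducedIrrAbove K ⊥,
      Cfsg.IsIrrCharacter ↥(Subgroup.normalizer ((P : Subgroup G) : Set G)) χ := by
    rintro χ ⟨θ, hθ, hne, -, rfl⟩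
    exact isIrrCharacter_indFun K hfrob hcop hθ hne
  have hSne : (Cfsg.inducedIrrAbove K ⊥).Nonempty := by
    obtain ⟨θ, hθ, hne⟩ := Cfsg.Agent.Lib.Helper79_UniqueSingular.exists_irr_ne_one hKnt
    refine ⟨Cfsg.indFun K θ, θ, hθ, hne, fun a ha => ?_, rfl⟩
    have ha1 : a = 1 := Subtype.ext (Subgroup.mem_bot.mp ha)
    rw [ha1]
  have hvanS : ∀ χ ∈ Cfsg.inducedIrrAbove K ⊥,
      ∀ x : ↥(Subgroup.normalizer ((P : Subgroup G) : Set G)), (x : G) ∉ (P : Subgroup G) →
        χ x = 0 := by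
    rintro χ ⟨θ, hθ, hne, -, rfl⟩ x hx
    exact Cfsg.Agent.Lib.Helper16_CohBasic.indFun_eq_zero_of_not_mem K θ
      (fun h => hx ((hmemK x).mp h))
  obtain ⟨hτ, hτ1⟩ := isometry_of_TI (P : Subgroup G) hTI (Cfsg.inducedIrrAbove K ⊥)
    (fun χ hχ => Cfsg.Agent.Lib.Helper3_CharBridge.isCharacter_of_isIrrCharacter (hirrS χ hχ))
    hvanS
  by_cases hcomm : ∀ a ∈ K, ∀ b ∈ K, a * b = b * a
  · by_cases h2 : ∃ a ∈ Cfsg.inducedIrrAbove K ⊥, ∃ b ∈ Cfsg.inducedIrrAbove K ⊥, a ≠ b
    · right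
      obtain ⟨a, ha, b, hb, hab⟩ := h2
      rw [hset]
      refine Cfsg.Agent.Lib.Helper25_EqDeg.coherent_of_equal_degree _ hirrS a b ha hb hab ?_ _
        hτ hτ1
      intro φ hφ ψ hψ
      rw [apply_one_of_comm K hcomm hφ, apply_one_of_comm K hcomm hψ]
    · left
      push Not at h2
      obtain ⟨χ₀, hχ₀⟩ := hSne
      have hS : Cfsg.inducedIrrAbove K ⊥ = {χ₀} := by
        ext χ
        constructor
        · intro hχ
          exact h2 χ hχ χ₀ hχ₀
        · intro hχ
          rw [Set.mem_singleton_iff] at hχ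
          rw [hχ]; exact hχ₀
      obtain ⟨hcard, hexp⟩ := exceptional K hfrob hcop hcomm hK1 χ₀ hS p hKp
      refine ⟨?_, ⟨?_, ?_⟩, ?_⟩
      · have h3 : Nat.card ↥({χ : ↥(Subgroup.normalizer ((P : Subgroup G) : Set G)) → ℂ |
            Cfsg.IsIrrCharacter ↥(Subgroup.normalizer ((P : Subgroup G) : Set G)) χ ∧
              ∃ x : ↥(Subgroup.normalizer ((P : Subgroup G) : Set G)),
                (x : G) ∈ (P : Subgroup G) ∧ χ x ≠ χ 1}) = 1 := by
          rw [hset, hS]
          exact Nat.card_unique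
        exact h3
      · refine ⟨⟨fun a b => ?_⟩⟩
        have := hcomm ⟨(a : G), hPN a.2⟩ ((hmemK _).mpr a.2) ⟨(b : G), hPN b.2⟩
          ((hmemK _).mpr b.2)
        exact Subtype.ext
          (congrArg (fun z : ↥(Subgroup.normalizer ((P : Subgroup G) : Set G)) => (z : G)) this)
      · intro a ha
        have := hexp ⟨a, hPN ha⟩ ((hmemK _).mpr ha)
        exact congrArg (fun z : ↥(Subgroup.normalizer ((P : Subgroup G) : Set G)) => (z : G)) this
      · rw [← hcardK]
        exact hcard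
  · right
    rw [hset]
    have hodd : Odd (Nat.card ↥(Subgroup.normalizer ((P : Subgroup G) : Set G))) :=
      odd_card_of_not_comm K hfrob hKodd hcomm
    obtain ⟨W, hW⟩ := Subgroup.exists_right_complement'_of_coprime hcop
    have hdisj : K ⊓ W = ⊥ := hW.disjoint.eq_bot
    have hsupW : K ⊔ W = ⊤ := hW.sup_eq_top
    let W₁ : Subgroup G := W.map (Subgroup.normalizer ((P : Subgroup G) : Set G)).subtype
    have hW₁N : W₁ ≤ Subgroup.normalizer ((P : Subgroup G) : Set G) := by
      rintro _ ⟨w, -, rfl⟩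
      exact w.2
    have hinf : (P : Subgroup G) ⊓ W₁ = ⊥ := by
      rw [eq_bot_iff]
      rintro x ⟨hxP, w, hw, rfl⟩
      have hwK : w ∈ K := (hmemK w).mpr hxP
      have : w ∈ K ⊓ W := ⟨hwK, hw⟩
      rw [hdisj, Subgroup.mem_bot] at this
      rw [Subgroup.mem_bot, this]
      rfl
    have hsup : (P : Subgroup G) ⊔ W₁ = Subgroup.normalizer ((P : Subgroup G) : Set G) := by
      have h1 : (K ⊔ W).map (Subgroup.normalizer ((P : Subgroup G) : Set G)).subtype =
          Subgroup.normalizer ((P : Subgroup G) : Set G) := by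
        rw [hsupW, ← MonoidHom.range_eq_map, Subgroup.range_subtype]
      rw [Subgroup.map_sup, Subgroup.map_subgroupOf_eq_of_le hPN] at h1
      exact h1
    have hW1 : W₁ ≠ ⊥ := by
      intro h
      rw [h, sup_bot_eq] at hsup
      exact hlt.ne hsup
    have hfpf : ∀ w ∈ W₁, w ≠ 1 → ∀ h ∈ (P : Subgroup G), w * h = h * w → h = 1 := by
      intro w hw hw1 h hh hc
      by_contra hh1
      have hwP : w ∈ (P : Subgroup G) := by
        apply hC h hh hh1
        rw [Subgroup.mem_centralizer_singleton_iff]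
        exact hc
      have : w ∈ (P : Subgroup G) ⊓ W₁ := ⟨hwP, hw⟩
      rw [hinf, Subgroup.mem_bot] at this
      exact hw1 this
    have hHn : ∀ x ∈ Subgroup.normalizer ((P : Subgroup G) : Set G), ∀ h ∈ (P : Subgroup G),
        x * h * x⁻¹ ∈ (P : Subgroup G) := by
      intro x hx h hh
      exact (Subgroup.mem_normalizer_iff.mp hx h).mp hh
    exact Cfsg.Agent.S1524.result (P : Subgroup G) (Subgroup.normalizer ((P : Subgroup G) : Set G))
      W₁ hodd hPN hW₁N hP1 hW1 P.isPGroup'.isNilpotent hHn hinf hsup hfpf hTI rfl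

end Cfsg.Agent.S1533
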