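import Cfsg.Statements.S1534
import Cfsg.Agent.S1535
import Cfsg.Agent.S1524
import Cfsg.Agent.Lib.Helper25_FrobTI
import Cfsg.Agent.Lib.Helper25_FrobSet
import Cfsg.Agent.Lib.Helper25_FrobCount
import Cfsg.Agent.Lib.Helper25_FrobExc
import Cfsg.Agent.Lib.Helper25_FrobSemi
import Cfsg.Agent.Lib.Helper16_CohBasic
import Cfsg.Agent.Lib.Helper79_UniqueSingular
import Cfsg.Agent.Lib.Helper3_CharBridge

set_option autoImplicit false
open Cfsg

namespace Cfsg.Agent.S1534

open Cfsg.Agent.Lib.Helper25_FrobTI Cfsg.Agent.Lib.Helper25_FrobSet Cfsg.Agent.Lib.Helper25_FrobCount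
  Cfsg.Agent.Lib.Helper25_FrobExc Cfsg.Agent.Lib.Helper25_FrobSemi

/-- Let G be a finite group and K a nontrivial nilpotent subgroup whose underlying set is a TI-subset of G, properly contained in its set normaliser N, with C_G(k) ≤ K for every non-identity k ∈ K; let e be the index of K in N and S the set of irreducible characters χ of N with χ k ≠ χ 1 for some k ∈ K. Then one of: S has exactly one member, Nat.card K = e + 1 and K is an elementary abelian p-group for some prime p; or K is a Sylow 2-subgroup of G (Nat.card K is the largest power of 2 dividing Nat.card G) and [K : [K,K]] < 4e²; or (S, N minus 1, induction to G) is coherent. -/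
theorem result {G : Type*} [Group G] [Fintype G] (K : Subgroup G) (hK1 : K ≠ ⊥) (hnil : Group.IsNilpotent K) (hTI : Cfsg.IsTISubset (K : Set G)) (hlt : K < Subgroup.normalizer (K : Set G)) (hC : ∀ k ∈ K, k ≠ 1 → Subgroup.centralizer ({k} : Set G) ≤ K) [Fintype ↥(Subgroup.normalizer (K : Set G))] : (Nat.card {χ : ↥(Subgroup.normalizer (K : Set G)) → ℂ // Cfsg.IsIrrCharacter ↥(Subgroup.normalizer (K : Set G)) χ ∧ ∃ k : ↥(Subgroup.normalizer (K : Set G)), (k : G) ∈ K ∧ χ k ≠ χ 1} = 1 ∧ Nat.card K = (K.subgroupOf (Subgroup.normalizer (K : Set G))).index + 1 ∧ ∃ p : ℕ, p.Prime ∧ Cfsg.IsElementaryAbelian p K) ∨ (Nat.card K = 2 ^ (Nat.card G).factorization 2 ∧ (⁅K, K⁆.subgroupOf K).index < 4 * (K.subgroupOf (Subgroup.normalizer (K : Set G))).index ^ 2) ∨ Cfsg.IsCoherent {χ : ↥(Subgroup.normalizer (K : Set G)) → ℂ | Cfsg.IsIrrCharacter ↥(Subgroup.normalizer (K : Set G)) χ ∧ ∃ k : ↥(Subgroup.normalizer (K : Set G)), (k : G) ∈ K ∧ χ k ≠ χ 1} {1}ᶜ (fun α => Cfsg.indFun (Subgroup.normalizer (K : Set G)) α) := by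
  classical
  have hKN : K ≤ Subgroup.normalizer (K : Set G) := Subgroup.le_normalizer
  let H : Subgroup ↥(Subgroup.normalizer (K : Set G)) :=
    K.subgroupOf (Subgroup.normalizer (K : Set G))
  have hHn : H.Normal := Subgroup.normal_in_normalizer
  have hmemH : ∀ x : ↥(Subgroup.normalizer (K : Set G)), x ∈ H ↔ (x : G) ∈ K :=
    fun x => Subgroup.mem_subgroupOf
  have hfrob : ∀ k ∈ H, k ≠ 1 → ∀ x : ↥(Subgroup.normalizer (K : Set G)),
      x * k = k * x → x ∈ H := by
    intro k hk hk1 x hx
    rw [hmemH] at hk ⊢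
    have hk1' : (k : G) ≠ 1 := fun h => hk1 (Subtype.ext h)
    apply hC (k : G) hk hk1'
    rw [Subgroup.mem_centralizer_singleton_iff]
    exact congrArg Subtype.val hx
  have hcop : (Nat.card H).Coprime H.index := coprime_card_index H hfrob
  have hcardH : Nat.card H = Nat.card K :=
    Nat.card_congr (Subgroup.subgroupOfEquivOfLe hKN).toEquiv
  have hH1 : H ≠ ⊥ := by
    intro h
    apply hK1
    rw [eq_bot_iff]
    intro x hx
    have hmem : (⟨x, hKN hx⟩ : ↥(Subgroup.normalizer (K : Set G))) ∈ H := (hmemH _).mpr hx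
    rw [h, Subgroup.mem_bot] at hmem
    rw [Subgroup.mem_bot]
    exact congrArg (fun w : ↥(Subgroup.normalizer (K : Set G)) => (w : G)) hmem
  have hHnt : Nontrivial H := (Subgroup.nontrivial_iff_ne_bot H).mpr hH1
  have hHnil : Group.IsNilpotent H :=
    (Group.isNilpotent_congr (Subgroup.subgroupOfEquivOfLe hKN)).mpr hnil
  obtain ⟨x₀, hx₀N, hx₀K⟩ := SetLike.exists_of_lt hlt
  have hHtop : H ≠ ⊤ := by
    intro h
    apply hx₀K
    have : (⟨x₀, hx₀N⟩ : ↥(Subgroup.normalizer (K : Set G))) ∈ H := by rw [h]; trivial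
    exact (hmemH _).mp this
  -- the set of characters
  have hset : {χ : ↥(Subgroup.normalizer (K : Set G)) → ℂ |
      Cfsg.IsIrrCharacter ↥(Subgroup.normalizer (K : Set G)) χ ∧
        ∃ k : ↥(Subgroup.normalizer (K : Set G)), (k : G) ∈ K ∧ χ k ≠ χ 1} =
      Cfsg.inducedIrrAbove H ⊥ := setOf_irr_eq H hfrob hcop
  have hirrS : ∀ χ ∈ Cfsg.inducedIrrAbove H ⊥,
      Cfsg.IsIrrCharacter ↥(Subgroup.normalizer (K : Set G)) χ := by
    rintro χ ⟨θ, hθ, hne, -, rfl⟩
    exact isIrrCharacter_indFun H hfrob hcop hθ hne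
  have hSne : (Cfsg.inducedIrrAbove H ⊥).Nonempty := by
    obtain ⟨θ, hθ, hne⟩ := Cfsg.Agent.Lib.Helper79_UniqueSingular.exists_irr_ne_one hHnt
    refine ⟨Cfsg.indFun H θ, θ, hθ, hne, fun a ha => ?_, rfl⟩
    have ha1 : a = 1 := Subtype.ext (Subgroup.mem_bot.mp ha)
    rw [ha1]
  have hvanS : ∀ χ ∈ Cfsg.inducedIrrAbove H ⊥,
      ∀ x : ↥(Subgroup.normalizer (K : Set G)), (x : G) ∉ K → χ x = 0 := by
    rintro χ ⟨θ, hθ, hne, -, rfl⟩ x hx
    exact Cfsg.Agent.Lib.Helper16_CohBasic.indFun_eq_zero_of_not_mem H θ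
      (fun h => hx ((hmemH x).mp h))
  obtain ⟨hτ, hτ1⟩ := isometry_of_TI K hTI (Cfsg.inducedIrrAbove H ⊥)
    (fun χ hχ => Cfsg.Agent.Lib.Helper3_CharBridge.isCharacter_of_isIrrCharacter (hirrS χ hχ))
    hvanS
  by_cases hexc : Nat.card H = H.index + 1
  · left
    obtain ⟨χ₀, hχ₀⟩ := hSne
    have hsub := subsingleton_of_card H hfrob hHnil hH1 hexc
    have hS : Cfsg.inducedIrrAbove H ⊥ = {χ₀} := by
      ext χ
      constructor
      · intro hχ
        exact hsub χ hχ χ₀ hχ₀
      · intro hχ
        rw [Set.mem_singleton_iff] at hχ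
        rw [hχ]; exact hχ₀
    refine ⟨?_, ?_, ?_⟩
    · have h3 : Nat.card ↥({χ : ↥(Subgroup.normalizer (K : Set G)) → ℂ |
          Cfsg.IsIrrCharacter ↥(Subgroup.normalizer (K : Set G)) χ ∧
            ∃ k : ↥(Subgroup.normalizer (K : Set G)), (k : G) ∈ K ∧ χ k ≠ χ 1}) = 1 := by
        rw [hset, hS]
        exact Nat.card_unique
      exact h3
    · rw [← hcardH]; exact hexc
    · obtain ⟨p, hp, hexp⟩ := exponent_of_card H hfrob hHnil hH1 hexc
      have hcomm := comm_of_card H hfrob hHnil hH1 hexc
      refine ⟨p, hp, ⟨⟨fun a b => ?_⟩⟩, fun a ha => ?_⟩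
      · have := hcomm ⟨(a : G), hKN a.2⟩ ((hmemH _).mpr a.2) ⟨(b : G), hKN b.2⟩
          ((hmemH _).mpr b.2)
        exact Subtype.ext
          (congrArg (fun z : ↥(Subgroup.normalizer (K : Set G)) => (z : G)) this)
      · have := hexp ⟨a, hKN ha⟩ ((hmemH _).mpr ha)
        exact congrArg (fun z : ↥(Subgroup.normalizer (K : Set G)) => (z : G)) this
  · right
    have hC' : ∀ h ∈ H, h ≠ 1 → Subgroup.centralizer
        ({h} : Set ↥(Subgroup.normalizer (K : Set G))) ≤ H := by
      intro h hh hh1 x hx
      rw [Subgroup.mem_centralizer_singleton_iff] at hx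
      exact hfrob h hh hh1 x hx
    have hτ' : Cfsg.IsLinearIsometryOn (Cfsg.zspanOn
        {χ : ↥(Subgroup.normalizer (K : Set G)) → ℂ |
          Cfsg.IsIrrCharacter ↥(Subgroup.normalizer (K : Set G)) χ ∧ ∃ h ∈ H, χ h ≠ χ 1} {1}ᶜ)
        (fun α => Cfsg.indFun (Subgroup.normalizer (K : Set G)) α) := by
      rw [setOf_irr_eq H hfrob hcop]; exact hτ
    have hτ1' : ∀ α ∈ Cfsg.zspanOn
        {χ : ↥(Subgroup.normalizer (K : Set G)) → ℂ |
          Cfsg.IsIrrCharacter ↥(Subgroup.normalizer (K : Set G)) χ ∧ ∃ h ∈ H, χ h ≠ χ 1} {1}ᶜ,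
        Cfsg.indFun (Subgroup.normalizer (K : Set G)) α 1 = 0 := by
      rw [setOf_irr_eq H hfrob hcop]; exact hτ1
    rcases Cfsg.Agent.S1535.result H hH1 hHtop hC' hexc
      (fun α => Cfsg.indFun (Subgroup.normalizer (K : Set G)) α) hτ' hτ1' with
      hcoh | ⟨p, hp, ⟨m, hm⟩, hnc, hidx⟩
    · right
      rw [hset, ← setOf_irr_eq H hfrob hcop]
      exact hcoh
    · have : Fact p.Prime := ⟨hp⟩
      have hHp : IsPGroup p H := IsPGroup.of_card hm
      have hKp : IsPGroup p K := by
        apply IsPGroup.of_card (n := m)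
        rw [← hcardH]; exact hm
      have hna : ¬ ∀ a ∈ H, ∀ b ∈ H, a * b = b * a := by
        intro h
        apply hnc
        exact ⟨⟨fun a b => Subtype.ext (h a a.2 b b.2)⟩⟩
      by_cases hp2 : p = 2
      · left
        subst hp2
        -- K is a Sylow 2-subgroup
        obtain ⟨P, hP⟩ := exists_sylow_eq 2 K hKp hK1 (by
          intro k hk hk1 x _ hx
          apply hC k hk hk1
          rw [Subgroup.mem_centralizer_singleton_iff]
          exact hx)
        refine ⟨?_, ?_⟩
        · rw [← hP]
          exact P.card_eq_multiplicity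
        · -- index of the derived subgroup
          have hrel : (⁅K, K⁆.subgroupOf K).index = (⁅H, H⁆.subgroupOf H).index := by
            show (⁅K, K⁆).relIndex K = (⁅H, H⁆).relIndex H
            have hmapH : H.map (Subgroup.normalizer (K : Set G)).subtype = K :=
              Subgroup.map_subgroupOf_eq_of_le hKN
            have hmapC : (⁅H, H⁆).map (Subgroup.normalizer (K : Set G)).subtype = ⁅K, K⁆ := by
              rw [Subgroup.map_commutator, hmapH]
            have h1 := Subgroup.relIndex_map_map_of_injective (⁅H, H⁆) H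
              (Subgroup.subtype_injective (Subgroup.normalizer (K : Set G)))
            rw [hmapC, hmapH] at h1
            exact h1
          rw [hrel]
          set d := (⁅H, H⁆.subgroupOf H).index with hd
          set e := H.index with he
          have hddvd : d ∣ 2 ^ m := by
            rw [← hm]
            exact Subgroup.index_dvd_card _
          obtain ⟨j, -, hj⟩ := (Nat.dvd_prime_pow Nat.prime_two).mp hddvd
          have hm0 : m ≠ 0 := by
            rintro rfl
            rw [pow_zero] at hm
            exact hH1 (Subgroup.card_eq_one.mp hm)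
          have hecop : Nat.Coprime 2 e := by
            rw [hm] at hcop
            exact (Nat.coprime_pow_left_iff (Nat.pos_of_ne_zero hm0) 2 e).mp hcop
          have hj0 : j ≠ 0 := by
            rintro rfl
            rw [pow_zero] at hj
            -- derived subgroup proper
            have hder : ⁅(⊤ : Subgroup H), (⊤ : Subgroup H)⁆ < (⊤ : Subgroup H) := by
              have := hHnil
              exact Group.IsSolvable.commutator_lt_top_of_nontrivial H
            have h1 : (⁅H, H⁆.subgroupOf H) = ⁅(⊤ : Subgroup H), (⊤ : Subgroup H)⁆ := by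
              apply Subgroup.map_injective H.subtype_injective
              rw [Subgroup.map_commutator, ← MonoidHom.range_eq_map, Subgroup.range_subtype,
                Subgroup.map_subgroupOf_eq_of_le (Subgroup.commutator_le_left H H)]
            rw [hd, h1, Subgroup.index_eq_one] at hj
            exact hder.ne hj
          have hne1 : d ≠ 4 * e ^ 2 + 1 := by
            intro h
            have h2 : Even d := by
              rw [hj]; exact (Nat.even_pow' hj0).mpr even_two
            rw [h] at h2
            exact (Nat.not_even_iff_odd.mpr ⟨2 * e ^ 2, by ring⟩) h2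
          have hne2 : d ≠ 4 * e ^ 2 := by
            intro h
            have h2 : e ∣ 2 ^ j := by
              rw [← hj, h]
              exact Dvd.intro_left (4 * e) (by ring)
            have h3 : e = 1 := Nat.Coprime.eq_one_of_dvd
              (Nat.Coprime.pow_right j hecop.symm) h2
            apply hHtop
            rw [← Subgroup.index_eq_one]
            exact h3
          omega
      · right
        rw [hset]
        have hHodd : Odd (Nat.card H) := by
          rw [hm]
          exact Odd.pow (hp.odd_of_ne_two hp2)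
        have hodd : Odd (Nat.card ↥(Subgroup.normalizer (K : Set G))) :=
          odd_card_of_not_comm H hfrob hHodd hna
        obtain ⟨W, hW⟩ := Subgroup.exists_right_complement'_of_coprime hcop
        have hdisj : H ⊓ W = ⊥ := hW.disjoint.eq_bot
        have hsupW : H ⊔ W = ⊤ := hW.sup_eq_top
        let W₁ : Subgroup G := W.map (Subgroup.normalizer (K : Set G)).subtype
        have hW₁N : W₁ ≤ Subgroup.normalizer (K : Set G) := by
          rintro _ ⟨w, -, rfl⟩
          exact w.2
        have hinf : K ⊓ W₁ = ⊥ := by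
          rw [eq_bot_iff]
          rintro x ⟨hxP, w, hw, rfl⟩
          have hwK : w ∈ H := (hmemH w).mpr hxP
          have : w ∈ H ⊓ W := ⟨hwK, hw⟩
          rw [hdisj, Subgroup.mem_bot] at this
          rw [Subgroup.mem_bot, this]
          rfl
        have hsup : K ⊔ W₁ = Subgroup.normalizer (K : Set G) := by
          have h1 : (H ⊔ W).map (Subgroup.normalizer (K : Set G)).subtype =
              Subgroup.normalizer (K : Set G) := by
            rw [hsupW, ← MonoidHom.range_eq_map, Subgroup.range_subtype]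
          rw [Subgroup.map_sup, Subgroup.map_subgroupOf_eq_of_le hKN] at h1
          exact h1
        have hW1 : W₁ ≠ ⊥ := by
          intro h
          rw [h, sup_bot_eq] at hsup
          exact hlt.ne hsup
        have hfpf : ∀ w ∈ W₁, w ≠ 1 → ∀ h ∈ K, w * h = h * w → h = 1 := by
          intro w hw hw1 h hh hc
          by_contra hh1
          have hwP : w ∈ K := by
            apply hC h hh hh1
            rw [Subgroup.mem_centralizer_singleton_iff]
            exact hc
          have : w ∈ K ⊓ W₁ := ⟨hwP, hw⟩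
          rw [hinf, Subgroup.mem_bot] at this
          exact hw1 this
        have hHnorm : ∀ x ∈ Subgroup.normalizer (K : Set G), ∀ h ∈ K, x * h * x⁻¹ ∈ K := by
          intro x hx h hh
          exact (Subgroup.mem_normalizer_iff.mp hx h).mp hh
        exact Cfsg.Agent.S1524.result K (Subgroup.normalizer (K : Set G))
          W₁ hodd hKN hW₁N hK1 hW1 hnil hHnorm hinf hsup hfpf hTI rfl

end Cfsg.Agent.S1534
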