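import Cfsg.Statements.S1536
import Cfsg.Agent.Lib.Helper75_BrauerPerm
import Cfsg.Agent.S1496

set_option autoImplicit false
set_option linter.style.haveILetI false
open Cfsg

namespace Cfsg.Agent.S1536

open scoped ComplexConjugate
open Cfsg.Agent.Lib.Helper75_Clifford Cfsg.Agent.Lib.Helper75_BrauerPerm
  Cfsg.Agent.Lib.Helper3_CharOrtho

/-- Orbit-stabiliser for conjugation, summed over the class. -/
theorem card_eq_sum_centralizer {K : Type*} [Group K] [Fintype K] (h : K)
    [∀ n : K, Decidable (IsConj h n)] :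
    Nat.card K = ∑ n : K, if IsConj h n then Nat.card (Subgroup.centralizer ({n} : Set K)) else 0 := by
  classical
  rw [Nat.card_eq_fintype_card, ← Finset.card_univ,
    Finset.card_eq_sum_card_fiberwise (f := fun u : K => u * h * u⁻¹) (t := Finset.univ)
      (fun _ _ => Finset.mem_coe.mpr (Finset.mem_univ _))]
  apply Finset.sum_congr rfl
  intro n _
  split_ifs with hn
  · obtain ⟨u₀, hu₀⟩ := isConj_iff.mp hn
    have e1 : (Finset.univ.filter (fun u : K => u * h * u⁻¹ = n)).card =
        Nat.card {u : K // u * h * u⁻¹ = n} := by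
      rw [Nat.card_eq_fintype_card, Fintype.card_subtype]
    rw [e1]
    apply Nat.card_congr
    refine ⟨fun u => ⟨u.1 * u₀⁻¹, ?_⟩, fun c => ⟨c.1 * u₀, ?_⟩, ?_, ?_⟩
    · rw [Subgroup.mem_centralizer_iff]
      intro y hy
      have hy' : y = n := hy
      subst hy'
      have h2 : u.1 * h * u.1⁻¹ = y := u.2
      have : u.1 * u₀⁻¹ * y * (u.1 * u₀⁻¹)⁻¹ = y := by
        calc u.1 * u₀⁻¹ * y * (u.1 * u₀⁻¹)⁻¹
            = u.1 * u₀⁻¹ * (u₀ * h * u₀⁻¹) * (u.1 * u₀⁻¹)⁻¹ := by rw [hu₀]
          _ = u.1 * h * u.1⁻¹ := by group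
          _ = y := h2
      calc y * (u.1 * u₀⁻¹) = (u.1 * u₀⁻¹ * y * (u.1 * u₀⁻¹)⁻¹) * (u.1 * u₀⁻¹) := by rw [this]
        _ = u.1 * u₀⁻¹ * y := by group
    · have hc : n * c.1 = c.1 * n := (Subgroup.mem_centralizer_iff.mp c.2) n rfl
      calc c.1 * u₀ * h * (c.1 * u₀)⁻¹ = c.1 * (u₀ * h * u₀⁻¹) * c.1⁻¹ := by group
        _ = c.1 * n * c.1⁻¹ := by rw [hu₀]
        _ = n * c.1 * c.1⁻¹ := by rw [hc]
        _ = n := by group
    · intro u; apply Subtype.ext; simp
    · intro c; apply Subtype.ext; simp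
  · rw [Finset.card_eq_zero, Finset.filter_eq_empty_iff]
    intro u _ hu
    exact hn (isConj_iff.mpr ⟨u, hu⟩)

/-- Coprime case: an `x`-invariant nontrivial class of `H` contains an element commuting with `x`. -/
theorem exists_comm_of_coprime {M : Type*} [Group M] [Finite M] (H : Subgroup M) [hN : H.Normal]
    (x : M) (hcop : Nat.Coprime (orderOf x) (Nat.card H)) (n u : M) (hn : n ∈ H) (hn1 : n ≠ 1)
    (hu : u ∈ H) (hun : (u * x) * n * (u * x)⁻¹ = n) : ∃ h ∈ H, h ≠ 1 ∧ x * h = h * x := by
  have hxn : x ∈ Subgroup.normalizer (H : Set M) := by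
    have : Subgroup.normalizer (H : Set M) = ⊤ := Subgroup.normalizer_eq_top H
    rw [this]; exact Subgroup.mem_top x
  obtain ⟨v, hv, c, hc, hcx, hvc⟩ := Cfsg.Agent.S1496.result H x hxn hcop u hu
  have hk' : (c * x) * (v * n * v⁻¹) * (c * x)⁻¹ = v * n * v⁻¹ := by
    rw [← hvc]
    calc v * (u * x) * v⁻¹ * (v * n * v⁻¹) * (v * (u * x) * v⁻¹)⁻¹
        = v * ((u * x) * n * (u * x)⁻¹) * v⁻¹ := by group
      _ = v * n * v⁻¹ := by rw [hun]
  obtain ⟨j, hj1, hj0⟩ := Nat.chineseRemainder hcop 1 0
  have hxj : (c * x) ^ (j : ℕ) = x := by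
    have hcomm : Commute c x := hcx
    rw [hcomm.mul_pow]
    have e1 : x ^ (j : ℕ) = x := by
      have : x ^ (j : ℕ) = x ^ 1 := pow_eq_pow_iff_modEq.mpr hj1
      simpa using this
    have e2 : c ^ (j : ℕ) = 1 := by
      obtain ⟨t, ht⟩ : Nat.card H ∣ j := (Nat.modEq_zero_iff_dvd).mp hj0
      rw [ht, pow_mul, Cfsg.Agent.S1496.pow_card_of_mem H c hc, one_pow]
    rw [e1, e2, one_mul]
  have hcomm2 : Commute (c * x) (v * n * v⁻¹) := by
    have : (c * x) * (v * n * v⁻¹) = (v * n * v⁻¹) * (c * x) := by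
      calc (c * x) * (v * n * v⁻¹)
          = (c * x) * (v * n * v⁻¹) * (c * x)⁻¹ * (c * x) := by group
        _ = (v * n * v⁻¹) * (c * x) := by rw [hk']
    exact this
  have hcomm3 : Commute x (v * n * v⁻¹) := by
    rw [← hxj]
    exact hcomm2.pow_left j
  refine ⟨v * n * v⁻¹, mul_mem (mul_mem hv hn) (inv_mem hv), ?_, hcomm3.eq⟩
  intro h1
  apply hn1
  have : n = v⁻¹ * (v * n * v⁻¹) * v := by group
  rw [this, h1]; group

theorem result {M : Type*} [Group M] [Finite M] (H : Subgroup M) [hN : H.Normal] (hHall : Nat.Coprime (Nat.card H) H.index) (x : M) : (∃ θ : H → ℂ, Cfsg.IsIrrCharacter H θ ∧ θ ≠ (fun _ => 1) ∧ (fun h : H => θ ⟨x * h * x⁻¹, hN.conj_mem h h.2 x⟩) = θ) ↔ ∃ h ∈ H, h ≠ 1 ∧ x * h = h * x := by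
  classical
  letI : Fintype H := Fintype.ofFinite H
  constructor
  · rintro ⟨θ, hθ, hθ1, hfix⟩
    -- some nontrivial class is fixed
    have hex : ∃ n : H, IsConj (⟨x * n * x⁻¹, hN.conj_mem n n.2 x⟩ : H) n ∧ n ≠ 1 := by
      by_contra hcon
      apply hθ1
      apply eq_one_of_conjFun_eq H hN x ?_ hθ hfix
      intro n hn
      by_contra hn1
      exact hcon ⟨n, hn, hn1⟩
    obtain ⟨n, hconj, hn1⟩ := hex
    obtain ⟨u, hu⟩ := isConj_iff.mp hconj
    have hu' : ((u : M) * x) * (n : M) * ((u : M) * x)⁻¹ = (n : M) := by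
      have := congrArg Subtype.val hu
      simp only [Subgroup.coe_mul, Subgroup.coe_inv] at this
      calc ((u : M) * x) * (n : M) * ((u : M) * x)⁻¹
          = (u : M) * (x * (n : M) * x⁻¹) * (u : M)⁻¹ := by group
        _ = (n : M) := this
    have hn1' : (n : M) ≠ 1 := fun h => hn1 (Subtype.ext h)
    -- split on whether x ^ index = 1
    by_cases hxi : x ^ H.index = 1
    · have hdvd : orderOf x ∣ H.index := orderOf_dvd_of_pow_eq_one hxi
      have hcop : Nat.Coprime (orderOf x) (Nat.card H) :=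
        (Nat.Coprime.coprime_dvd_left hdvd hHall.symm)
      exact exists_comm_of_coprime H x hcop n u n.2 hn1' u.2 hu'
    · refine ⟨x ^ H.index, ?_, hxi, ?_⟩
      · have h1 : ((x : M ⧸ H)) ^ H.index = 1 := by
          rw [Subgroup.index_eq_card]
          exact pow_card_eq_one'
        rw [← QuotientGroup.mk_pow] at h1
        exact (QuotientGroup.eq_one_iff _).mp h1
      · rw [← pow_succ', ← pow_succ]
  · rintro ⟨h, hhH, hh1, hxh⟩
    by_contra hcon
    have hfix : ∀ χ : Cfsg.IrrCharacter H, Cfsg.Agent.Lib.Helper75_Clifford.conjFun H hN (χ : H → ℂ) x = χ →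
        (χ : H → ℂ) = fun _ => 1 := by
      intro χ hχ
      by_contra hne
      exact hcon ⟨χ, χ.2, hne, hχ⟩
    have h1 := sum_classInner_conjFun H hN x
    have hL : ∑ χ : Cfsg.IrrCharacter H,
        Cfsg.classInner (Cfsg.Agent.Lib.Helper75_Clifford.conjFun H hN (χ : H → ℂ) x) (χ : H → ℂ) = 1 := by
      have hterm : ∀ χ : Cfsg.IrrCharacter H,
          Cfsg.classInner (Cfsg.Agent.Lib.Helper75_Clifford.conjFun H hN (χ : H → ℂ) x) (χ : H → ℂ) =
            if Cfsg.Agent.Lib.Helper75_Clifford.conjFun H hN (χ : H → ℂ) x = χ then 1 else 0 := fun χ =>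
        classInner_irr (isIrrCharacter_conjFun H hN χ.2 x) χ.2
      rw [Finset.sum_congr rfl (fun χ _ => hterm χ)]
      rw [Finset.sum_eq_single
        (⟨fun _ => 1, Cfsg.Agent.Lib.Helper80_CharBasic.isIrrCharacter_one H⟩ : Cfsg.IrrCharacter H)]
      · rw [if_pos]; funext n; rfl
      · intro χ _ hne
        rw [if_neg]
        intro hfixχ
        exact hne (Subtype.ext (hfix χ hfixχ))
      · intro hh; exact absurd (Finset.mem_univ _) hh
    rw [hL] at h1
    -- the natural-number version of the right-hand side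
    set φ : H → H := fun n => ⟨x * n * x⁻¹, hN.conj_mem n n.2 x⟩ with hφ
    set fN : H → ℕ := fun n => if IsConj (φ n) n then
      Nat.card (Subgroup.centralizer ({φ n} : Set H)) else 0 with hfN
    have hcast : ∑ n : H,
        (if IsConj (⟨x * n * x⁻¹, hN.conj_mem n n.2 x⟩ : H) n then
          (Nat.card (Subgroup.centralizer
            ({(⟨x * n * x⁻¹, hN.conj_mem n n.2 x⟩ : H)} : Set H)) : ℂ)
        else 0) = ((∑ n : H, fN n : ℕ) : ℂ) := by
      push_cast
      apply Finset.sum_congr rfl
      intro n _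
      simp only [hfN, hφ]
      split_ifs <;> simp
    rw [hcast] at h1
    have hHpos : 0 < Nat.card H := Nat.card_pos
    have hH0 : (Nat.card H : ℂ) ≠ 0 := by exact_mod_cast hHpos.ne'
    have hsum : ∑ n : H, fN n = Nat.card H := by
      have : ((∑ n : H, fN n : ℕ) : ℂ) = (Nat.card H : ℂ) := by
        field_simp at h1
        exact h1.symm
      exact_mod_cast this
    -- lower bound
    set h' : H := ⟨h, hhH⟩ with hh'
    have hh'1 : h' ≠ 1 := fun e => hh1 (congrArg Subtype.val e)
    have hφh : φ h' = h' := by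
      apply Subtype.ext
      show x * h * x⁻¹ = h
      rw [hxh]; group
    have hφconj : ∀ a b : H, IsConj a b → IsConj (φ a) (φ b) := by
      intro a b hab
      obtain ⟨c, hc⟩ := isConj_iff.mp hab
      rw [isConj_iff]
      refine ⟨φ c, ?_⟩
      apply Subtype.ext
      have := congrArg Subtype.val hc
      simp only [Subgroup.coe_mul, Subgroup.coe_inv] at this
      simp only [hφ, Subgroup.coe_mul, Subgroup.coe_inv]
      rw [← this]; group
    set ψ : H → H := fun n => ⟨x⁻¹ * n * x, by
      have := hN.conj_mem n n.2 x⁻¹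
      rwa [inv_inv] at this⟩ with hψ
    have hφψ : ∀ n, φ (ψ n) = n := by
      intro n; apply Subtype.ext; simp only [hφ, hψ]; group
    have hψφ : ∀ n, ψ (φ n) = n := by
      intro n; apply Subtype.ext; simp only [hφ, hψ]; group
    have hψconj : ∀ a b : H, IsConj a b → IsConj (ψ a) (ψ b) := by
      intro a b hab
      obtain ⟨c, hc⟩ := isConj_iff.mp hab
      rw [isConj_iff]
      refine ⟨ψ c, ?_⟩
      apply Subtype.ext
      have := congrArg Subtype.val hc
      simp only [Subgroup.coe_mul, Subgroup.coe_inv] at this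
      simp only [hψ, Subgroup.coe_mul, Subgroup.coe_inv]
      rw [← this]; group
    have hψh : ψ h' = h' := by
      have := congrArg ψ hφh
      rw [hψφ] at this
      exact this.symm
    let φe : H ≃ H := ⟨φ, ψ, hψφ, hφψ⟩
    have hiff : ∀ n : H, IsConj h' (φ n) ↔ IsConj h' n := by
      intro n
      constructor
      · intro hc
        have := hψconj _ _ hc
        rwa [hψh, hψφ] at this
      · intro hc
        have := hφconj _ _ hc
        rwa [hφh] at this
    have hge : ∀ n : H, (if n = 1 then Nat.card H else 0) +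
        (if IsConj h' n then Nat.card (Subgroup.centralizer ({φ n} : Set H)) else 0) ≤ fN n := by
      intro n
      by_cases hn1 : n = 1
      · subst hn1
        have hnc : ¬ IsConj h' 1 := by
          intro hc
          exact hh'1 (isConj_one_right.mp hc.symm)
        rw [if_pos rfl, if_neg hnc, add_zero]
        have hφ1 : φ 1 = 1 := by apply Subtype.ext; simp [hφ]
        simp only [hfN]
        rw [hφ1, if_pos (IsConj.refl 1)]
        have : Subgroup.centralizer ({(1 : H)} : Set H) = ⊤ := by
          rw [eq_top_iff]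
          intro y _
          rw [Subgroup.mem_centralizer_singleton_iff]
          simp
        rw [this, Subgroup.card_top]
      · rw [if_neg hn1, zero_add]
        by_cases hc : IsConj h' n
        · rw [if_pos hc]
          simp only [hfN]
          have h2 : IsConj (φ n) n := by
            have h3 : IsConj h' (φ n) := (hiff n).mpr hc
            exact h3.symm.trans hc
          rw [if_pos h2]
        · rw [if_neg hc]; exact Nat.zero_le _
    have hlow : Nat.card H + Nat.card H ≤ ∑ n : H, fN n := by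
      calc Nat.card H + Nat.card H
          = ∑ n : H, ((if n = 1 then Nat.card H else 0) +
            (if IsConj h' n then Nat.card (Subgroup.centralizer ({φ n} : Set H)) else 0)) := by
            rw [Finset.sum_add_distrib, Finset.sum_ite_eq' Finset.univ (1 : H),
              if_pos (Finset.mem_univ _)]
            congr 1
            rw [card_eq_sum_centralizer h']
            symm
            apply Fintype.sum_equiv φe
            intro n
            have hφe : φe n = φ n := rfl
            rw [hφe]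
            by_cases hc : IsConj h' n
            · rw [if_pos hc, if_pos ((hiff n).mpr hc)]
            · rw [if_neg hc, if_neg (fun h => hc ((hiff n).mp h))]
        _ ≤ ∑ n : H, fN n := Finset.sum_le_sum (fun n _ => hge n)
    omega

end Cfsg.Agent.S1536
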