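import Cfsg.Statements.S1538
import Cfsg.Agent.S1350
import Cfsg.Agent.S1351
import Cfsg.Agent.S1352
import Cfsg.Agent.S1354
import Cfsg.Agent.S1355
import Cfsg.Agent.S1356
import Cfsg.Agent.S1357
import Cfsg.Agent.S1360
import Cfsg.Agent.S1361
import Cfsg.Agent.S1362
import Cfsg.Agent.S1363
import Cfsg.Agent.S1364
import Cfsg.Agent.S1365
import Cfsg.Agent.S1370
import Cfsg.Agent.S1371
import Cfsg.Agent.S1374
import Cfsg.Agent.S1375
import Cfsg.Agent.S1436
import Cfsg.Agent.Lib.Helper84_PF8g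

set_option autoImplicit false
open Cfsg

namespace Cfsg.Agent.S1538

/-- Let G be a minimal simple group of odd order and M a maximal subgroup of Type II. Then each of A₀(M), A(M), A₁(M) is a TI-subset of G whose set normaliser is M. -/
theorem result {G : Type*} [Group G] [Finite G] (hG : Cfsg.IsMinSimpleOddOrder G) (M : Subgroup G) (hM : IsCoatom M) (hII : Cfsg.IsOfTypeII M) : (Cfsg.IsTISubset (Cfsg.typeA0 M) ∧ Subgroup.normalizer (Cfsg.typeA0 M) = M) ∧ (Cfsg.IsTISubset (Cfsg.typeA M) ∧ Subgroup.normalizer (Cfsg.typeA M) = M) ∧ (Cfsg.IsTISubset (Cfsg.typeA1 M) ∧ Subgroup.normalizer (Cfsg.typeA1 M) = M) := by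
  have I : Cfsg.Agent.Lib.Helper84_PF8e.BGIn G :=
    { h50 := Cfsg.Agent.S1350.result hG
      h51 := Cfsg.Agent.S1351.result hG
      h52 := Cfsg.Agent.S1352.result hG
      h54 := Cfsg.Agent.S1354.result hG
      h55 := Cfsg.Agent.S1355.result hG
      h56 := Cfsg.Agent.S1356.result hG
      h57 := Cfsg.Agent.S1357.result hG
      h60 := Cfsg.Agent.S1360.result hG
      h61 := Cfsg.Agent.S1361.result hG
      h62 := Cfsg.Agent.S1362.result hG
      h63 := Cfsg.Agent.S1363.result hG
      h64 := Cfsg.Agent.S1364.result hG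
      h65 := Cfsg.Agent.S1365.result hG
      h70 := Cfsg.Agent.S1370.result hG
      h71 := Cfsg.Agent.S1371.result hG
      h74 := Cfsg.Agent.S1374.result hG
      h75 := Cfsg.Agent.S1375.result hG
      h436 := Cfsg.Agent.S1436.result hG }
  exact Cfsg.Agent.Lib.Helper84_PF8g.typeII_TI hG I M hM hII

end Cfsg.Agent.S1538
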