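import Mathlib
import Cfsg.Statements.S1546
-- import your own Cfsg.Agent.* helpers here

set_option autoImplicit false
open Cfsg

namespace Cfsg.Agent.S1546

/-- If `p ≡ 1 (mod r)` then the geometric sum `1 + p + ⋯ + p^(q-1)` is `≡ q (mod r)`. -/
theorem geom_cast (p q r : ℕ) (h : (p : ZMod r) = 1) :
    ((∑ i ∈ Finset.range q, p ^ i : ℕ) : ZMod r) = (q : ZMod r) := by
  push_cast
  simp [h]

theorem mod_eq_one_of_cast (p q : ℕ) (hq : 2 ≤ q) (h : (p : ZMod q) = 1) : p % q = 1 := by
  have h1 : ((p : ℕ) : ZMod q) = ((1 : ℕ) : ZMod q) := by simpa using h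
  rw [ZMod.natCast_eq_natCast_iff'] at h1
  rw [h1]
  exact Nat.mod_eq_of_lt hq

theorem cast_of_mod_eq_one (p q : ℕ) (h : p % q = 1) : (p : ZMod q) = 1 := by
  have : ((p : ℕ) : ZMod q) = ((p % q : ℕ) : ZMod q) := by
    simp
  rw [this, h]; simp

/-- Let p and q be odd primes and N = (p ^ q − 1) / (p − 1) = 1 + p + ⋯ + p^(q−1). Then N is odd; if p ≡ 1 (mod q) then q ∣ N; and if p is not ≡ 1 (mod q) then N is coprime to p − 1 and every divisor of N is ≡ 1 (mod q). -/
theorem result (p q : ℕ) (hp : p.Prime) (hq : q.Prime) (hp2 : p ≠ 2) (hq2 : q ≠ 2) : Odd ((p ^ q - 1) / (p - 1)) ∧ (p % q = 1 → q ∣ (p ^ q - 1) / (p - 1)) ∧ (p % q ≠ 1 → Nat.Coprime ((p ^ q - 1) / (p - 1)) (p - 1) ∧ ∀ x : ℕ, x ∣ (p ^ q - 1) / (p - 1) → x % q = 1) := by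
  have hp2' : 2 ≤ p := hp.two_le
  have hq2' : 2 ≤ q := hq.two_le
  rw [← Nat.geomSum_eq hp2' q]
  set N := ∑ i ∈ Finset.range q, p ^ i with hN
  have hpodd : Odd p := hp.odd_of_ne_two hp2
  have hqodd : Odd q := hq.odd_of_ne_two hq2
  have hNodd : Odd N := by
    rw [hN, Finset.odd_sum_iff_odd_card_odd]
    have : (Finset.range q).filter (fun i => Odd (p ^ i)) = Finset.range q := by
      apply Finset.filter_true_of_mem
      intro i _
      exact hpodd.pow
    rw [this, Finset.card_range]
    exact hqodd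
  have hNpos : 0 < N := hNodd.pos
  -- N * (p - 1) = p ^ q - 1
  have hmul : N * (p - 1) = p ^ q - 1 := by
    have := Nat.geomSum_eq hp2' q
    rw [hN, this]
    apply Nat.div_mul_cancel
    exact Nat.sub_one_dvd_pow_sub_one p q |> fun h => by simpa using h
  refine ⟨hNodd, ?_, ?_⟩
  · intro h1
    have hc := geom_cast p q q (cast_of_mod_eq_one p q h1)
    rw [ZMod.natCast_self] at hc
    exact (ZMod.natCast_eq_zero_iff _ _).mp hc
  · intro hne
    have key : ∀ r : ℕ, r ∣ N → (p : ZMod r) = 1 → r ∣ q := by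
      intro r hrN hpr
      have hc := geom_cast p q r hpr
      have : ((N : ℕ) : ZMod r) = 0 := (ZMod.natCast_eq_zero_iff _ _).mpr hrN
      rw [← hN, this] at hc
      exact (ZMod.natCast_eq_zero_iff _ _).mp hc.symm
    have hnot : ∀ r : ℕ, r ∣ N → (p : ZMod r) = 1 → r = 1 := by
      intro r hrN hpr
      have hrq := key r hrN hpr
      rcases (Nat.dvd_prime hq).mp hrq with h | h
      · exact h
      · exfalso
        subst h
        exact hne (mod_eq_one_of_cast p r hq2' hpr)
    constructor
    · -- coprimality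
      rw [Nat.coprime_iff_gcd_eq_one]
      apply hnot _ (Nat.gcd_dvd_left _ _)
      have hg : Nat.gcd N (p - 1) ∣ p - 1 := Nat.gcd_dvd_right _ _
      have h1 : ((p - 1 : ℕ) : ZMod (Nat.gcd N (p - 1))) = 0 :=
        (ZMod.natCast_eq_zero_iff _ _).mpr hg
      rw [Nat.cast_sub (by omega)] at h1
      simpa [sub_eq_zero] using h1
    · intro x
      induction x using Nat.recOnMul with
      | zero =>
        intro h0
        exfalso
        have := Nat.eq_zero_of_zero_dvd h0
        omega
      | one =>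
        intro _
        exact Nat.mod_eq_of_lt hq2'
      | prime r hr =>
        intro hrN
        have hr' : r.Prime := hr
        have : Fact r.Prime := ⟨hr'⟩
        -- p ^ q = 1 in ZMod r
        have hpq : ((p : ZMod r)) ^ q = 1 := by
          have h1 : r ∣ p ^ q - 1 := by
            rw [← hmul]; exact Dvd.dvd.mul_right hrN _
          have h2 : ((p ^ q - 1 : ℕ) : ZMod r) = 0 := (ZMod.natCast_eq_zero_iff _ _).mpr h1
          rw [Nat.cast_sub (Nat.one_le_pow _ _ (by omega))] at h2
          push_cast at h2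
          exact sub_eq_zero.mp h2
        have hord : orderOf (p : ZMod r) ∣ q := orderOf_dvd_of_pow_eq_one hpq
        rcases (Nat.dvd_prime hq).mp hord with h | h
        · exfalso
          have hp1 : (p : ZMod r) = 1 := orderOf_eq_one_iff.mp h
          have := hnot r hrN hp1
          exact hr'.one_lt.ne' this
        · have hp0 : (p : ZMod r) ≠ 0 := by
            intro h0
            rw [h0, zero_pow hq.ne_zero] at hpq
            exact zero_ne_one hpq
          have hfer : (p : ZMod r) ^ (r - 1) = 1 := ZMod.pow_card_sub_one_eq_one hp0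
          have hdvd : q ∣ r - 1 := by
            rw [← h]; exact orderOf_dvd_of_pow_eq_one hfer
          obtain ⟨k, hk⟩ := hdvd
          have hr1 : r = 1 + q * k := by have := hr'.one_lt; omega
          rw [hr1, Nat.add_mul_mod_self_left]
          exact Nat.mod_eq_of_lt hq2'
      | mul a b iha ihb =>
        intro hab
        have ha := iha (Dvd.dvd.trans (Dvd.intro _ rfl) hab)
        have hb := ihb (Dvd.dvd.trans (Dvd.intro_left _ rfl) hab)
        rw [Nat.mul_mod, ha, hb]
        simp
        exact Nat.mod_eq_of_lt hq2'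

end Cfsg.Agent.S1546
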