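-- Statement S1552 (row 1552): sextet stabiliser orbits on sextets and maximality.
import Mathlib
import Cfsg.Statements.S1552
import Cfsg.Agent.Lib.Helper26_SelfOrbits
import Cfsg.Agent.Lib.Helper26_SextSelf
import Cfsg.Agent.Lib.Helper93_M24Fams
import Cfsg.Agent.Lib.Helper93_M24Sextets
import Cfsg.Agent.S1550

set_option autoImplicit false
set_option linter.constructorNameAsVariable false
open scoped Pointwise
open Cfsg
open Cfsg.Agent.Lib.Helper26_Golay Cfsg.Agent.Lib.Helper93_M24Obj

namespace Cfsg.Agent.S1552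

open Cfsg.Agent.Lib.Helper26_SextSelf

/-- The orbit counts. -/
def Nv (v : ℕ) : ℕ := if v = 3780 then 1 else if v = 324 then 90 else if v = 356 then 240 else
  if v = 196 then 1440 else 0

theorem arith : ∀ V ∈ ({3780, 324, 356, 196} : Finset ℕ).powerset, 3780 ∈ V →
    (∑ v ∈ V, Nv v) ∣ 1771 → (∑ v ∈ V, Nv v) = 1 ∨ (∑ v ∈ V, Nv v) = 1771 := by
  decide

theorem invC_self : invC (sextAt 0) = 3780 := by decide +kernel

theorem hself : inv ((objCoding 6).decode refCode) ((objCoding 6).decode refCode) = 3780 := by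
  have h := hinv 0 (by norm_num)
  rw [invC_self] at h
  exact h

theorem ref_mem : (objCoding 6).decode refCode ∈ sextets := sext0_mem

theorem c3780 : {Y | Y ∈ sextets ∧ inv ((objCoding 6).decode refCode) Y = 3780}.ncard = 1 := by
  rw [count, count_3780]

theorem c324 : {Y | Y ∈ sextets ∧ inv ((objCoding 6).decode refCode) Y = 324}.ncard = 90 := by
  rw [count, count_324]

theorem c356 : {Y | Y ∈ sextets ∧ inv ((objCoding 6).decode refCode) Y = 356}.ncard = 240 := by
  rw [count, count_356]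

theorem c196 : {Y | Y ∈ sextets ∧ inv ((objCoding 6).decode refCode) Y = 196}.ncard = 1440 := by
  rw [count, count_196]

/-- A sextet stabiliser has four orbits on the 1771 sextets, of sizes 1, 90, 240, 1440; and the stabiliser is a maximal proper subgroup. -/
theorem result (S : Finset (Finset Cfsg.GolayPt)) (hS : S ∈ Cfsg.sextets) : ∃ X₁ ∈ Cfsg.sextets, ∃ X₂ ∈ Cfsg.sextets, ∃ X₃ ∈ Cfsg.sextets, (MulAction.orbit ↥(MulAction.stabilizer Cfsg.M24 S) X₁).ncard = 90 ∧ (MulAction.orbit ↥(MulAction.stabilizer Cfsg.M24 S) X₂).ncard = 240 ∧ (MulAction.orbit ↥(MulAction.stabilizer Cfsg.M24 S) X₃).ncard = 1440 ∧ Cfsg.sextets = {S} ∪ MulAction.orbit ↥(MulAction.stabilizer Cfsg.M24 S) X₁ ∪ MulAction.orbit ↥(MulAction.stabilizer Cfsg.M24 S) X₂ ∪ MulAction.orbit ↥(MulAction.stabilizer Cfsg.M24 S) X₃ ∧ IsCoatom (MulAction.stabilizer Cfsg.M24 S) := by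
  have hR : ∃ g ∈ M24, g • ((objCoding 6).decode refCode) = S := exists_smul_sext0_eq hS
  obtain ⟨X₁, hX₁, X₂, hX₂, X₃, hX₃, h1, h2, h3, hU⟩ :=
    self3 inv inv_smul sextets (fun g hg X hX => smul_mem_sextets hg hX) sextets_finite _ ref_mem
      classifies 3780 324 356 196 90 240 1440 (by decide) hself c3780 c324 c356 c196 (by decide)
      Cfsg.Agent.S1550.sextets_ncard S hR
  refine ⟨X₁, hX₁, X₂, hX₂, X₃, hX₃, h1, h2, h3, hU, ?_⟩
  apply isCoatom_of_classifies inv inv_smul sextets (fun g hg X hX => smul_mem_sextets hg hX)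
    sextets_finite _ ref_mem (fun S hS => exists_smul_sext0_eq hS) classifies
    ({3780, 324, 356, 196} : Finset ℕ) Nv ?_ ?_ ?_ ?_ S hS
  · intro v hv
    simp only [Finset.mem_insert, Finset.mem_singleton] at hv
    rcases hv with rfl | rfl | rfl | rfl
    · exact c3780
    · exact c324
    · exact c356
    · exact c196
  · rw [Cfsg.Agent.S1550.sextets_ncard]; decide
  · intro V hV h0 hd
    rw [Cfsg.Agent.S1550.sextets_ncard] at hd ⊢
    rw [hself] at h0
    exact arith V (Finset.mem_powerset.mpr hV) h0 hd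
  · rw [Cfsg.Agent.S1550.sextets_ncard]; norm_num

end Cfsg.Agent.S1552
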