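-- Statement S1555 (row 1555): Cfsg.octad_meet_counts.
import Mathlib
import Cfsg.Statements.S1555
import Cfsg.Agent.Lib.Helper26_OctStabThms

set_option autoImplicit false
set_option linter.constructorNameAsVariable false
open Cfsg
open scoped Pointwise
open Cfsg.Agent.Lib.Helper26_Golay

namespace Cfsg.Agent.S1555

/-- Number of octads meeting `o` exactly in `s`. -/
def cnt (o s : Finset GolayPt) : ℕ := (octFinset.filter (fun o' => o ∩ o' = s)).card

theorem ncard_eq_cnt (o s : Finset GolayPt) :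
    {o' : Finset GolayPt | o' ∈ octads ∧ o ∩ o' = s}.ncard = cnt o s := by
  have hset : {o' : Finset GolayPt | o' ∈ octads ∧ o ∩ o' = s} =
      ↑(octFinset.filter (fun o' => o ∩ o' = s)) := by
    ext x
    simp only [Set.mem_ofPred_eq, Finset.coe_filter, mem_octFinset_iff]
  rw [hset, Set.ncard_coe_finset]
  rfl

theorem cnt_smul {g : Equiv.Perm GolayPt} (hg : g ∈ M24) (o s : Finset GolayPt) :
    cnt (g • o) (g • s) = cnt o s := by
  unfold cnt
  apply card_filter_octFinset_smul hg
  intro x _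
  rw [← Finset.smul_finset_inter]
  exact (MulAction.injective g).eq_iff

theorem cnt_base (s : Finset GolayPt) :
    cnt oct0 s = countOct (fun n => octAt 0 &&& n == enc s) := by
  unfold cnt
  apply card_filter_octFinset
  intro n hn
  rw [inter_eq_iff_enc, enc_oct0, enc_dec n (lt_of_isCode ((mem_octList_iff n).mp hn).1),
    beq_iff_eq]

theorem cnt_pair0 : cnt oct0 pair0 = 16 := by
  rw [cnt_base, enc_pair0]
  decide +kernel

theorem cnt_quad0 : cnt oct0 quad0 = 4 := by
  rw [cnt_base, enc_quad0]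
  decide +kernel

theorem cnt_base_of_card_two {s : Finset GolayPt} (hs : s ⊆ oct0) (hk : s.card = 2) :
    cnt oct0 s = 16 := by
  obtain ⟨g, hg, rfl⟩ := octStab_pairs hs hk
  have hgM : g ∈ M24 := (Subgroup.mem_inf.mp hg).1
  have hg0 : g • oct0 = oct0 := MulAction.mem_stabilizer_iff.mp (Subgroup.mem_inf.mp hg).2
  have := cnt_smul hgM oct0 pair0
  rw [hg0] at this
  rw [this, cnt_pair0]

theorem cnt_base_of_card_four {s : Finset GolayPt} (hs : s ⊆ oct0) (hk : s.card = 4) :
    cnt oct0 s = 4 := by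
  obtain ⟨g, hg, rfl⟩ := octStab_quads hs hk
  have hgM : g ∈ M24 := (Subgroup.mem_inf.mp hg).1
  have hg0 : g • oct0 = oct0 := MulAction.mem_stabilizer_iff.mp (Subgroup.mem_inf.mp hg).2
  have := cnt_smul hgM oct0 quad0
  rw [hg0] at this
  rw [this, cnt_quad0]

/-- Bottom row of the Leech triangle: an octad is met in a prescribed pair of its points by exactly 16 octads and in a prescribed 4-subset by exactly 4 octads. -/
theorem result (o : Finset Cfsg.GolayPt) (ho : o ∈ Cfsg.octads) (s : Finset Cfsg.GolayPt) (hs : s ⊆ o) : (s.card = 2 → {o' : Finset Cfsg.GolayPt | o' ∈ Cfsg.octads ∧ o ∩ o' = s}.ncard = 16) ∧ (s.card = 4 → {o' : Finset Cfsg.GolayPt | o' ∈ Cfsg.octads ∧ o ∩ o' = s}.ncard = 4) := by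
  obtain ⟨g, hg, rfl⟩ := exists_smul_oct0_eq ho
  have hs' : g⁻¹ • s ⊆ oct0 := by
    rw [← inv_smul_smul g oct0]
    exact Finset.smul_finset_subset_smul_finset hs
  have hcnt : cnt (g • oct0) s = cnt oct0 (g⁻¹ • s) := by
    have := cnt_smul hg oct0 (g⁻¹ • s)
    rwa [smul_inv_smul] at this
  rw [ncard_eq_cnt, hcnt]
  constructor
  · intro hk
    exact cnt_base_of_card_two hs' (by rw [card_smul_pts]; exact hk)
  · intro hk
    exact cnt_base_of_card_four hs' (by rw [card_smul_pts]; exact hk)

end Cfsg.Agent.S1555
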