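-- Statement S1556 (row 1556): Cfsg.octad_stabilizer_orbits_on_octads.
import Mathlib
import Cfsg.Statements.S1556
import Cfsg.Agent.Lib.Helper26_OctStabThms

set_option autoImplicit false
set_option linter.constructorNameAsVariable false
open Cfsg
open scoped Pointwise
open Cfsg.Agent.Lib.Helper26_Golay

namespace Cfsg.Agent.S1556

theorem card_inter_smul (g : Equiv.Perm GolayPt) (s t : Finset GolayPt) :
    (g • s ∩ g • t).card = (s ∩ t).card := by
  rw [← Finset.smul_finset_inter, card_smul_pts]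

/-- Two octads meeting a fixed octad in equally many points are in the same orbit of its stabiliser. -/
theorem result (o o' o'' : Finset Cfsg.GolayPt) (ho : o ∈ Cfsg.octads) (ho' : o' ∈ Cfsg.octads) (ho'' : o'' ∈ Cfsg.octads) (h : (o ∩ o').card = (o ∩ o'').card) : ∃ g : Equiv.Perm Cfsg.GolayPt, g ∈ Cfsg.M24 ∧ g • o = o ∧ g • o' = o'' := by
  obtain ⟨g₀, hg₀, rfl⟩ := exists_smul_oct0_eq ho
  have hx' : g₀⁻¹ • o' ∈ octads := smul_mem_octads (M24.inv_mem hg₀) ho'
  have hx'' : g₀⁻¹ • o'' ∈ octads := smul_mem_octads (M24.inv_mem hg₀) ho''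
  have hc : (oct0 ∩ g₀⁻¹ • o').card = (oct0 ∩ g₀⁻¹ • o'').card := by
    have e1 : (g₀ • oct0 ∩ o').card = (oct0 ∩ g₀⁻¹ • o').card := by
      conv_lhs => rw [← smul_inv_smul g₀ o']
      rw [card_inter_smul]
    have e2 : (g₀ • oct0 ∩ o'').card = (oct0 ∩ g₀⁻¹ • o'').card := by
      conv_lhs => rw [← smul_inv_smul g₀ o'']
      rw [card_inter_smul]
    rw [← e1, ← e2, h]
  obtain ⟨k, hk, hkx⟩ := octStab_orbit hx' hx'' hc
  have hkM : k ∈ M24 := (Subgroup.mem_inf.mp hk).1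
  have hk0 : k • oct0 = oct0 := MulAction.mem_stabilizer_iff.mp (Subgroup.mem_inf.mp hk).2
  refine ⟨g₀ * k * g₀⁻¹, M24.mul_mem (M24.mul_mem hg₀ hkM) (M24.inv_mem hg₀), ?_, ?_⟩
  · rw [mul_smul, mul_smul, inv_smul_smul, hk0]
  · rw [mul_smul, mul_smul, hkx, smul_inv_smul]

end Cfsg.Agent.S1556
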