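-- Statement S1559 (row 1559): trio stabiliser orbits on trios and maximality.
import Mathlib
import Cfsg.Statements.S1559
import Cfsg.Agent.Lib.Helper26_SelfOrbits
import Cfsg.Agent.Lib.Helper26_TrioSelf
import Cfsg.Agent.Lib.Helper93_M24Fams
import Cfsg.Agent.Lib.Helper93_M24Trios
import Cfsg.Agent.S1557

set_option autoImplicit false
set_option linter.constructorNameAsVariable false
open scoped Pointwise
open Cfsg
open Cfsg.Agent.Lib.Helper26_Golay Cfsg.Agent.Lib.Helper93_M24Obj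

namespace Cfsg.Agent.S1559

open Cfsg.Agent.Lib.Helper26_TrioSelf

/-- The orbit counts. -/
def Nv (v : ℕ) : ℕ := if v = 1171881 then 1 else if v = 393129 then 42 else if v = 3753 then 56
  else if v = 2601 then 1008 else if v = 2025 then 2688 else 0

theorem arith : ∀ V ∈ ({1171881, 393129, 3753, 2601, 2025} : Finset ℕ).powerset, 1171881 ∈ V →
    (∑ v ∈ V, Nv v) ∣ 3795 → (∑ v ∈ V, Nv v) = 1 ∨ (∑ v ∈ V, Nv v) = 3795 := by
  decide

theorem invC_self : invC (trioAt 0) = 1171881 := by decide +kernel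

theorem hself : inv ((objCoding 3).decode refCode) ((objCoding 3).decode refCode) = 1171881 := by
  have h := hinv 0 (by norm_num)
  rw [invC_self] at h
  exact h

theorem ref_mem : (objCoding 3).decode refCode ∈ trios := trio0_mem

theorem c0 : {Y | Y ∈ trios ∧ inv ((objCoding 3).decode refCode) Y = 1171881}.ncard = 1 := by
  rw [count, count_1171881]

theorem c1 : {Y | Y ∈ trios ∧ inv ((objCoding 3).decode refCode) Y = 393129}.ncard = 42 := by
  rw [count, count_393129]

theorem c2 : {Y | Y ∈ trios ∧ inv ((objCoding 3).decode refCode) Y = 3753}.ncard = 56 := by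
  rw [count, count_3753]

theorem c3 : {Y | Y ∈ trios ∧ inv ((objCoding 3).decode refCode) Y = 2601}.ncard = 1008 := by
  rw [count, count_2601]

theorem c4 : {Y | Y ∈ trios ∧ inv ((objCoding 3).decode refCode) Y = 2025}.ncard = 2688 := by
  rw [count, count_2025]

/-- A trio stabiliser has five orbits on the 3795 trios, of sizes 1, 42, 56, 1008, 2688; and the stabiliser is a maximal proper subgroup. -/
theorem result (T : Finset (Finset Cfsg.GolayPt)) (hT : T ∈ Cfsg.trios) : ∃ X₁ ∈ Cfsg.trios, ∃ X₂ ∈ Cfsg.trios, ∃ X₃ ∈ Cfsg.trios, ∃ X₄ ∈ Cfsg.trios, (MulAction.orbit ↥(MulAction.stabilizer Cfsg.M24 T) X₁).ncard = 42 ∧ (MulAction.orbit ↥(MulAction.stabilizer Cfsg.M24 T) X₂).ncard = 56 ∧ (MulAction.orbit ↥(MulAction.stabilizer Cfsg.M24 T) X₃).ncard = 1008 ∧ (MulAction.orbit ↥(MulAction.stabilizer Cfsg.M24 T) X₄).ncard = 2688 ∧ Cfsg.trios = {T} ∪ MulAction.orbit ↥(MulAction.stabilizer Cfsg.M24 T) X₁ ∪ MulAction.orbit ↥(MulAction.stabilizer Cfsg.M24 T) X₂ ∪ MulAction.orbit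 ↥(MulAction.stabilizer Cfsg.M24 T) X₃ ∪ MulAction.orbit ↥(MulAction.stabilizer Cfsg.M24 T) X₄ ∧ IsCoatom (MulAction.stabilizer Cfsg.M24 T) := by
  have hR : ∃ g ∈ M24, g • ((objCoding 3).decode refCode) = T := exists_smul_trio0_eq hT
  obtain ⟨X₁, hX₁, X₂, hX₂, X₃, hX₃, X₄, hX₄, h1, h2, h3, h4, hU⟩ :=
    self4 inv inv_smul trios (fun g hg X hX => smul_mem_trios hg hX) trios_finite _ ref_mem
      classifies 1171881 393129 3753 2601 2025 42 56 1008 2688 (by decide) hself c0 c1 c2 c3 c4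
      (by decide) Cfsg.Agent.S1557.trios_ncard T hR
  refine ⟨X₁, hX₁, X₂, hX₂, X₃, hX₃, X₄, hX₄, h1, h2, h3, h4, hU, ?_⟩
  apply isCoatom_of_classifies inv inv_smul trios (fun g hg X hX => smul_mem_trios hg hX)
    trios_finite _ ref_mem (fun S hS => exists_smul_trio0_eq hS) classifies
    ({1171881, 393129, 3753, 2601, 2025} : Finset ℕ) Nv ?_ ?_ ?_ ?_ T hT
  · intro v hv
    simp only [Finset.mem_insert, Finset.mem_singleton] at hv
    rcases hv with rfl | rfl | rfl | rfl | rfl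
    · exact c0
    · exact c1
    · exact c2
    · exact c3
    · exact c4
  · rw [Cfsg.Agent.S1557.trios_ncard]; decide
  · intro V hV h0 hd
    rw [Cfsg.Agent.S1557.trios_ncard] at hd ⊢
    rw [hself] at h0
    exact arith V (Finset.mem_powerset.mpr hV) h0 hd
  · rw [Cfsg.Agent.S1557.trios_ncard]; norm_num

end Cfsg.Agent.S1559
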