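import Cfsg.Statements.S1560
import Mathlib
import Cfsg.Agent.Lib.Helper26_GolaySets

set_option autoImplicit false
open scoped Pointwise
open Cfsg

namespace Cfsg.Agent.S1560

open Cfsg.Agent.Lib.Helper26_Golay

theorem card_pts : Fintype.card GolayPt = 24 := rfl

/-- an octad meets a dodecad in 2, 4 or 6 points -/
theorem oct_dod_inter {o d : Finset GolayPt} (ho : o ∈ octads) (hd : d ∈ dodecads) :
    (d ∩ o).card = 2 ∨ (d ∩ o).card = 4 ∨ (d ∩ o).card = 6 := by
  have hs := supports_symmDiff hd.1 ho.1
  have hc := card_symmDiff_add d o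
  rw [hd.2, ho.2] at hc
  have hle : (d ∩ o).card ≤ 8 := ho.2 ▸ Finset.card_le_card Finset.inter_subset_right
  rcases card_of_mem_supports hs with h | h | h | h | h
  · have : (symmDiff d o).card = 0 := by rw [h]; rfl
    omega
  · omega
  · omega
  · omega
  · have : (symmDiff d o).card = 24 := by rw [h, Finset.card_univ, card_pts]
    omega

/-- two dodecads meet in 0, 4, 6, 8 or 12 points -/
theorem dod_dod_inter {d d' : Finset GolayPt} (hd : d ∈ dodecads) (hd' : d' ∈ dodecads) :
    (d' = dᶜ ∧ (d ∩ d').card = 0) ∨ (d ∩ d').card = 4 ∨ (d ∩ d').card = 6 ∨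
      (d ∩ d').card = 8 ∨ (d' = d ∧ (d ∩ d').card = 12) := by
  have hs := supports_symmDiff hd.1 hd'.1
  have hc := card_symmDiff_add d d'
  rw [hd.2, hd'.2] at hc
  rcases card_of_mem_supports hs with h | h | h | h | h
  · have h0 : (symmDiff d d').card = 0 := by rw [h]; rfl
    have : symmDiff d d' = ⊥ := h
    have hdd : d = d' := symmDiff_eq_bot.mp this
    right; right; right; right
    exact ⟨hdd.symm, by omega⟩
  · right; right; right; left; omega
  · right; right; left; omega
  · right; left; omega
  · have h24 : (symmDiff d d').card = 24 := by rw [h, Finset.card_univ, card_pts]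
    have : symmDiff d d' = ⊤ := h
    have hcompl : IsCompl d d' := (_root_.symmDiff_eq_top (a := d) (b := d')).mp this
    left
    exact ⟨hcompl.compl_eq.symm, by omega⟩

/-- every four points lie in exactly five octads -/
theorem lambda4 (T : Finset GolayPt) (hT : T.card = 4) :
    (octFinset.filter (fun o => T ⊆ o)).card = 5 := by
  classical
  set A := octFinset.filter (fun o => T ⊆ o) with hA
  have key := Finset.sum_card_bipartiteAbove_eq_sum_card_bipartiteBelow
    (s := Tᶜ) (t := A) (fun (x : GolayPt) (o : Finset GolayPt) => x ∈ o)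
  have hleft : ∀ x ∈ Tᶜ, (A.bipartiteAbove (fun (x : GolayPt) (o : Finset GolayPt) => x ∈ o) x).card = 1 := by
    intro x hx
    rw [Finset.mem_compl] at hx
    have hcard : (insert x T).card = 5 := by rw [Finset.card_insert_of_notMem hx, hT]
    obtain ⟨o, ⟨ho, hsub⟩, huniq⟩ := exists_unique_octad (insert x T) hcard
    rw [Finset.card_eq_one]
    refine ⟨o, ?_⟩
    ext o'
    simp only [Finset.bipartiteAbove, Finset.mem_filter, Finset.mem_singleton, hA,
      mem_octFinset_iff]
    constructor
    · rintro ⟨⟨ho', hT'⟩, hx'⟩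
      exact huniq o' ⟨ho', Finset.insert_subset hx' hT'⟩
    · rintro rfl
      exact ⟨⟨ho, (Finset.subset_insert x T).trans hsub⟩, hsub (Finset.mem_insert_self x T)⟩
  have hright : ∀ o ∈ A, ((Tᶜ).bipartiteBelow (fun (x : GolayPt) (o : Finset GolayPt) => x ∈ o) o).card = 4 := by
    intro o ho
    rw [hA, Finset.mem_filter, mem_octFinset_iff] at ho
    have : (Tᶜ).bipartiteBelow (fun (x : GolayPt) (o : Finset GolayPt) => x ∈ o) o = o \ T := by
      ext x
      simp only [Finset.bipartiteBelow, Finset.mem_filter, Finset.mem_compl, Finset.mem_sdiff]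
      tauto
    rw [this, Finset.card_sdiff_of_subset ho.2, ho.1.2, hT]
  rw [Finset.sum_congr rfl hleft, Finset.sum_congr rfl hright, Finset.sum_const, Finset.sum_const,
    Finset.card_compl, card_pts, hT] at key
  simp only [smul_eq_mul] at key
  omega

/-- the number of octads meeting `d` in exactly `k` points -/
def nOct (d : Finset GolayPt) (k : ℕ) : ℕ := (octFinset.filter (fun o => (d ∩ o).card = k)).card

theorem nOct_eq_sum (d : Finset GolayPt) (k : ℕ) :
    nOct d k = ∑ o ∈ octFinset, if (d ∩ o).card = k then 1 else 0 := by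
  unfold nOct
  rw [Finset.card_filter]

/-- double counting `j`-subsets of `d` against octads -/
theorem double_count (d : Finset GolayPt) (j : ℕ) :
    ∑ S ∈ d.powersetCard j, (octFinset.filter (fun o => S ⊆ o)).card =
      ∑ o ∈ octFinset, ((d ∩ o).card).choose j := by
  classical
  have key := Finset.sum_card_bipartiteAbove_eq_sum_card_bipartiteBelow
    (s := d.powersetCard j) (t := octFinset)
    (fun (S : Finset GolayPt) (o : Finset GolayPt) => S ⊆ o)
  have hright : ∀ o ∈ octFinset, ((d.powersetCard j).bipartiteBelow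
      (fun (S : Finset GolayPt) (o : Finset GolayPt) => S ⊆ o) o).card = ((d ∩ o).card).choose j := by
    intro o _
    have : (d.powersetCard j).bipartiteBelow
        (fun (S : Finset GolayPt) (o : Finset GolayPt) => S ⊆ o) o = (d ∩ o).powersetCard j := by
      ext S
      simp only [Finset.bipartiteBelow, Finset.mem_filter, Finset.mem_powersetCard,
        Finset.subset_inter_iff]
      constructor
      · rintro ⟨⟨h1, h2⟩, h3⟩
        exact ⟨⟨h1, h3⟩, h2⟩
      · rintro ⟨⟨h1, h3⟩, h2⟩
        exact ⟨⟨h1, h2⟩, h3⟩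
    rw [this, Finset.card_powersetCard]
  rw [Finset.sum_congr rfl hright] at key
  exact key

theorem nOct6 {d : Finset GolayPt} (hd : d ∈ dodecads) : nOct d 6 = 132 := by
  have h := double_count d 5
  have hleft : ∀ S ∈ d.powersetCard 5, (octFinset.filter (fun o => S ⊆ o)).card = 1 := by
    intro S hS
    rw [Finset.mem_powersetCard] at hS
    obtain ⟨o, ⟨ho, hsub⟩, huniq⟩ := exists_unique_octad S hS.2
    rw [Finset.card_eq_one]
    refine ⟨o, ?_⟩
    ext o'
    simp only [Finset.mem_filter, Finset.mem_singleton, mem_octFinset_iff]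
    constructor
    · rintro ⟨ho', hS'⟩
      exact huniq o' ⟨ho', hS'⟩
    · rintro rfl
      exact ⟨ho, hsub⟩
  have hright : ∀ o ∈ octFinset, ((d ∩ o).card).choose 5 = 6 * (if (d ∩ o).card = 6 then 1 else 0) := by
    intro o ho
    rw [mem_octFinset_iff] at ho
    rcases oct_dod_inter ho hd with h | h | h <;> rw [h] <;> decide
  rw [Finset.sum_congr rfl hleft, Finset.sum_congr rfl hright, ← Finset.mul_sum, ← nOct_eq_sum,
    Finset.sum_const, Finset.card_powersetCard, hd.2] at h
  have h792 : Nat.choose 12 5 = 792 := by decide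
  rw [h792] at h
  simp only [smul_eq_mul] at h
  omega

theorem nOct4 {d : Finset GolayPt} (hd : d ∈ dodecads) : nOct d 4 = 495 := by
  have h := double_count d 4
  have hleft : ∀ S ∈ d.powersetCard 4, (octFinset.filter (fun o => S ⊆ o)).card = 5 := by
    intro S hS
    rw [Finset.mem_powersetCard] at hS
    exact lambda4 S hS.2
  have hright : ∀ o ∈ octFinset, ((d ∩ o).card).choose 4 =
      (if (d ∩ o).card = 4 then 1 else 0) + 15 * (if (d ∩ o).card = 6 then 1 else 0) := by
    intro o ho
    rw [mem_octFinset_iff] at ho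
    rcases oct_dod_inter ho hd with h | h | h <;> rw [h] <;> decide
  rw [Finset.sum_congr rfl hleft, Finset.sum_congr rfl hright, Finset.sum_add_distrib,
    ← Finset.mul_sum, ← nOct_eq_sum, ← nOct_eq_sum, nOct6 hd,
    Finset.sum_const, Finset.card_powersetCard, hd.2] at h
  have h495 : Nat.choose 12 4 = 495 := by decide
  rw [h495] at h
  simp only [smul_eq_mul] at h
  omega

/-- the number of dodecads meeting `d` in exactly `k` points -/
def nDod (d : Finset GolayPt) (k : ℕ) : ℕ := (dodFinset.filter (fun d' => (d ∩ d').card = k)).card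

theorem ncard_eq_nDod (d : Finset GolayPt) (k : ℕ) :
    {d' : Finset GolayPt | d' ∈ dodecads ∧ (d ∩ d').card = k}.ncard = nDod d k := by
  unfold nDod
  rw [← Set.ncard_coe_finset]
  congr 1
  ext d'
  simp [mem_dodFinset_iff]

theorem inter_symmDiff_self (d x : Finset GolayPt) : d ∩ symmDiff d x = d \ x := by
  ext p
  simp only [Finset.mem_inter, Finset.mem_symmDiff, Finset.mem_sdiff]
  tauto

theorem nDod8 {d : Finset GolayPt} (hd : d ∈ dodecads) : nDod d 8 = 495 := by
  rw [← nOct4 hd]
  unfold nDod nOct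
  refine Finset.card_nbij' (fun x => symmDiff d x) (fun x => symmDiff d x) ?_ ?_ ?_ ?_
  · intro d' hd'
    simp only [Finset.coe_filter, Set.mem_ofPred_eq, mem_dodFinset_iff, mem_octFinset_iff] at hd' ⊢
    obtain ⟨hd'1, hd'2⟩ := hd'
    have hc := card_symmDiff_add d d'
    rw [hd.2, hd'1.2, hd'2] at hc
    have h1 := Finset.card_sdiff_add_card_inter d d'
    rw [hd.2, hd'2] at h1
    refine ⟨⟨supports_symmDiff hd.1 hd'1.1, by omega⟩, ?_⟩
    rw [inter_symmDiff_self]; omega
  · intro o ho
    simp only [Finset.coe_filter, Set.mem_ofPred_eq, mem_dodFinset_iff, mem_octFinset_iff] at ho ⊢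
    obtain ⟨ho1, ho2⟩ := ho
    have hc := card_symmDiff_add d o
    rw [hd.2, ho1.2, ho2] at hc
    have h1 := Finset.card_sdiff_add_card_inter d o
    rw [hd.2, ho2] at h1
    refine ⟨⟨supports_symmDiff hd.1 ho1.1, by omega⟩, ?_⟩
    rw [inter_symmDiff_self]; omega
  · intro x _; exact symmDiff_symmDiff_cancel_left d x
  · intro x _; exact symmDiff_symmDiff_cancel_left d x

theorem nDod4 {d : Finset GolayPt} (hd : d ∈ dodecads) : nDod d 4 = 495 := by
  rw [← nDod8 hd]
  unfold nDod
  have hmaps : ∀ (a b : ℕ), a + b = 12 → ∀ x ∈ dodFinset.filter (fun d' => (d ∩ d').card = a),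
      xᶜ ∈ dodFinset.filter (fun d' => (d ∩ d').card = b) := by
    intro a b hab x hx
    simp only [Finset.mem_filter, mem_dodFinset_iff] at hx ⊢
    obtain ⟨hx1, hx2⟩ := hx
    refine ⟨⟨supports_compl hx1.1, ?_⟩, ?_⟩
    · rw [Finset.card_compl, card_pts, hx1.2]
    · have h1 := Finset.card_sdiff_add_card_inter d x
      rw [hd.2, hx2] at h1
      have : d ∩ xᶜ = d \ x := by
        ext p; simp only [Finset.mem_inter, Finset.mem_compl, Finset.mem_sdiff]
      rw [this]; omega
  refine Finset.card_nbij' (fun x => xᶜ) (fun x => xᶜ) ?_ ?_ ?_ ?_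
  · intro x hx; exact hmaps 4 8 rfl x hx
  · intro x hx; exact hmaps 8 4 rfl x hx
  · intro x _; exact compl_compl x
  · intro x _; exact compl_compl x

theorem nDod12 {d : Finset GolayPt} (hd : d ∈ dodecads) : nDod d 12 = 1 := by
  unfold nDod
  rw [Finset.card_eq_one]
  refine ⟨d, ?_⟩
  ext d'
  simp only [Finset.mem_filter, mem_dodFinset_iff, Finset.mem_singleton]
  constructor
  · rintro ⟨h1, h2⟩
    rcases dod_dod_inter hd h1 with h | h | h | h | h
    · omega
    · omega
    · omega
    · omega
    · exact h.1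
  · rintro rfl
    exact ⟨hd, by rw [Finset.inter_self, hd.2]⟩

theorem nDod0 {d : Finset GolayPt} (hd : d ∈ dodecads) : nDod d 0 = 1 := by
  unfold nDod
  rw [Finset.card_eq_one]
  refine ⟨dᶜ, ?_⟩
  ext d'
  simp only [Finset.mem_filter, mem_dodFinset_iff, Finset.mem_singleton]
  constructor
  · rintro ⟨h1, h2⟩
    rcases dod_dod_inter hd h1 with h | h | h | h | h
    · exact h.1
    · omega
    · omega
    · omega
    · omega
  · rintro rfl
    refine ⟨⟨supports_compl hd.1, ?_⟩, ?_⟩
    · rw [Finset.card_compl, card_pts, hd.2]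
    · rw [Finset.inter_compl]; rfl

theorem nDod6 {d : Finset GolayPt} (hd : d ∈ dodecads) : nDod d 6 = 1584 := by
  have hmaps : ((dodFinset : Finset (Finset GolayPt)) : Set (Finset GolayPt)).MapsTo
      (fun d' => (d ∩ d').card) (({0, 4, 6, 8, 12} : Finset ℕ) : Set ℕ) := by
    intro d' hd'
    simp only [Finset.mem_coe, mem_dodFinset_iff] at hd'
    simp only [Finset.coe_insert, Finset.coe_singleton, Set.mem_insert_iff, Set.mem_singleton_iff]
    rcases dod_dod_inter hd hd' with h | h | h | h | h
    · left; exact h.2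
    · right; left; exact h
    · right; right; left; exact h
    · right; right; right; left; exact h
    · right; right; right; right; exact h.2
  have h := Finset.card_eq_sum_card_fiberwise hmaps
  rw [dodFinset_card] at h
  have e : ∀ k, (dodFinset.filter (fun d' => (d ∩ d').card = k)).card = nDod d k := fun k => rfl
  simp only [e] at h
  rw [Finset.sum_insert (by decide), Finset.sum_insert (by decide), Finset.sum_insert (by decide),
    Finset.sum_insert (by decide), Finset.sum_singleton, nDod0 hd, nDod4 hd, nDod8 hd, nDod12 hd] at h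
  omega

/-- Intersection numbers of dodecads: a dodecad meets every other dodecad in 0, 4, 6 or 8 points, meeting 495 of them in 4 points, 1584 in 6 points and 495 in 8 points. -/
theorem result (d : Finset Cfsg.GolayPt) (hd : d ∈ Cfsg.dodecads) : (∀ d' ∈ Cfsg.dodecads, d' ≠ d → (d ∩ d').card = 0 ∨ (d ∩ d').card = 4 ∨ (d ∩ d').card = 6 ∨ (d ∩ d').card = 8) ∧ {d' : Finset Cfsg.GolayPt | d' ∈ Cfsg.dodecads ∧ (d ∩ d').card = 4}.ncard = 495 ∧ {d' : Finset Cfsg.GolayPt | d' ∈ Cfsg.dodecads ∧ (d ∩ d').card = 6}.ncard = 1584 ∧ {d' : Finset Cfsg.GolayPt | d' ∈ Cfsg.dodecads ∧ (d ∩ d').card = 8}.ncard = 495 := by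
  refine ⟨?_, ?_, ?_, ?_⟩
  · intro d' hd' hne
    rcases dod_dod_inter hd hd' with h | h | h | h | h
    · left; exact h.2
    · right; left; exact h
    · right; right; left; exact h
    · right; right; right; exact h
    · exact absurd h.1 hne
  · rw [ncard_eq_nDod, nDod4 hd]
  · rw [ncard_eq_nDod, nDod6 hd]
  · rw [ncard_eq_nDod, nDod8 hd]

end Cfsg.Agent.S1560
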