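-- Statement S1561 (row 1556): Cfsg.dodecad_stabilizer_orbits_on_dodecads.
import Mathlib
import Cfsg.Statements.S1561
import Cfsg.Agent.Lib.Helper26_OctStabThms

set_option autoImplicit false
set_option linter.constructorNameAsVariable false
open Cfsg
open scoped Pointwise
open Cfsg.Agent.Lib.Helper26_Golay

namespace Cfsg.Agent.S1561

theorem card_inter_smul (g : Equiv.Perm GolayPt) (s t : Finset GolayPt) :
    (g • s ∩ g • t).card = (s ∩ t).card := by
  rw [← Finset.smul_finset_inter, card_smul_pts]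

/-- Two dodecads meeting a fixed dodecad in equally many points lie in one orbit of its stabiliser. -/
theorem result (d d' d'' : Finset Cfsg.GolayPt) (hd : d ∈ Cfsg.dodecads) (hd' : d' ∈ Cfsg.dodecads) (hd'' : d'' ∈ Cfsg.dodecads) (h : (d ∩ d').card = (d ∩ d'').card) : ∃ g : Equiv.Perm Cfsg.GolayPt, g ∈ Cfsg.M24 ∧ g • d = d ∧ g • d' = d'' := by
  obtain ⟨g₀, hg₀, rfl⟩ := exists_smul_dod0_eq hd
  have hx' : g₀⁻¹ • d' ∈ dodecads := smul_mem_dodecads (M24.inv_mem hg₀) hd'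
  have hx'' : g₀⁻¹ • d'' ∈ dodecads := smul_mem_dodecads (M24.inv_mem hg₀) hd''
  have hc : (dod0 ∩ g₀⁻¹ • d').card = (dod0 ∩ g₀⁻¹ • d'').card := by
    have e1 : (g₀ • dod0 ∩ d').card = (dod0 ∩ g₀⁻¹ • d').card := by
      conv_lhs => rw [← smul_inv_smul g₀ d']
      rw [card_inter_smul]
    have e2 : (g₀ • dod0 ∩ d'').card = (dod0 ∩ g₀⁻¹ • d'').card := by
      conv_lhs => rw [← smul_inv_smul g₀ d'']
      rw [card_inter_smul]
    rw [← e1, ← e2, h]
  obtain ⟨k, hk, hkx⟩ := dodStab_orbit hx' hx'' hc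
  have hkM : k ∈ M24 := (Subgroup.mem_inf.mp hk).1
  have hk0 : k • dod0 = dod0 := MulAction.mem_stabilizer_iff.mp (Subgroup.mem_inf.mp hk).2
  refine ⟨g₀ * k * g₀⁻¹, M24.mul_mem (M24.mul_mem hg₀ hkM) (M24.inv_mem hg₀), ?_, ?_⟩
  · rw [mul_smul, mul_smul, inv_smul_smul, hk0]
  · rw [mul_smul, mul_smul, hkx, smul_inv_smul]

end Cfsg.Agent.S1561
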