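-- Statement S1562 (row 1562): Cfsg.triad_stabilizer_orbits_on_disjoint_triads.
import Mathlib
import Cfsg.Statements.S1562
import Cfsg.Agent.Lib.Helper26_SubsetCounts
import Cfsg.Agent.Lib.Helper26_OctCounts

set_option autoImplicit false
set_option linter.constructorNameAsVariable false
open Cfsg
open scoped Pointwise
open Cfsg.Agent.Lib.Helper26_Golay

namespace Cfsg.Agent.S1562

theorem triInvSet_smul_left {g : Equiv.Perm GolayPt} (hg : g ∈ M24) (T y : Finset GolayPt) :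
    triInvSet (g • T) y = triInvSet T (g⁻¹ • y) := by
  conv_lhs => rw [← smul_inv_smul g y]
  rw [triInvSet_smul hg]

theorem orbit_of_inv {s y z : Finset GolayPt} (hs : s.card = 3) (hy : y.card = 3) (hz : z.card = 3)
    (h : triInvSet s y = triInvSet s z) : ∃ g ∈ M24, g • s = s ∧ g • y = z := by
  obtain ⟨g₀, hg₀, hgs⟩ := exists_smul_tri0_eq hs
  apply orbit_transfer hg₀ hgs
  apply triStab_orbit (by rw [card_smul_pts]; exact hy) (by rw [card_smul_pts]; exact hz)
  rw [← triInvSet_smul_left hg₀, ← triInvSet_smul_left hg₀, hgs, h]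

theorem inv_eq_one_iff (T U : Finset GolayPt) :
    triInvSet T U = 1 ↔ Disjoint T U ∧ ∃ o ∈ octads, T ∪ U ⊆ o := by
  classical
  unfold triInvSet
  rw [Finset.disjoint_iff_inter_eq_empty, ← Finset.card_eq_zero]
  by_cases h : ∃ o ∈ octads, T ∪ U ⊆ o
  · rw [if_pos h]
    constructor
    · intro h1; exact ⟨by omega, h⟩
    · rintro ⟨h1, _⟩; omega
  · rw [if_neg h]
    constructor
    · intro h1; omega
    · rintro ⟨_, h2⟩; exact absurd h2 h

theorem inv_eq_zero_iff (T U : Finset GolayPt) :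
    triInvSet T U = 0 ↔ Disjoint T U ∧ ¬ ∃ o ∈ octads, T ∪ U ⊆ o := by
  classical
  unfold triInvSet
  rw [Finset.disjoint_iff_inter_eq_empty, ← Finset.card_eq_zero]
  by_cases h : ∃ o ∈ octads, T ∪ U ⊆ o
  · rw [if_pos h]
    constructor
    · intro h1; omega
    · rintro ⟨_, h2⟩; exact absurd h h2
  · rw [if_neg h]
    constructor
    · intro h1; exact ⟨by omega, h⟩
    · rintro ⟨h1, _⟩; omega

/-- Orbits of a triad stabiliser on the triads disjoint from it: the 210 triads inside a common octad with it form one orbit and the remaining 1120 another. -/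
theorem result (T : Finset Cfsg.GolayPt) (hT : T.card = 3) : {U : Finset Cfsg.GolayPt | U.card = 3 ∧ Disjoint T U ∧ (∃ o ∈ Cfsg.octads, T ∪ U ⊆ o)}.ncard = 210 ∧ {U : Finset Cfsg.GolayPt | U.card = 3 ∧ Disjoint T U ∧ ¬ (∃ o ∈ Cfsg.octads, T ∪ U ⊆ o)}.ncard = 1120 ∧ ∀ U U' : Finset Cfsg.GolayPt, U.card = 3 → U'.card = 3 → Disjoint T U → Disjoint T U' → ((∃ o ∈ Cfsg.octads, T ∪ U ⊆ o) ↔ (∃ o ∈ Cfsg.octads, T ∪ U' ⊆ o)) → ∃ g : Equiv.Perm Cfsg.GolayPt, g ∈ Cfsg.M24 ∧ g • T = T ∧ g • U = U' := by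
  classical
  refine ⟨?_, ?_, ?_⟩
  · have hset : {U : Finset GolayPt | U.card = 3 ∧ Disjoint T U ∧ (∃ o ∈ octads, T ∪ U ⊆ o)} =
        ↑(triFinset.filter (fun U => triInvSet T U = 1)) := by
      ext U
      simp only [Set.mem_ofPred_eq, Finset.coe_filter, mem_triFinset, inv_eq_one_iff]
    rw [hset, Set.ncard_coe_finset, tri_inv_count hT 1, countTri_inv1]
  · have hset : {U : Finset GolayPt | U.card = 3 ∧ Disjoint T U ∧ ¬ (∃ o ∈ octads, T ∪ U ⊆ o)} =
        ↑(triFinset.filter (fun U => triInvSet T U = 0)) := by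
      ext U
      simp only [Set.mem_ofPred_eq, Finset.coe_filter, mem_triFinset, inv_eq_zero_iff]
    rw [hset, Set.ncard_coe_finset, tri_inv_count hT 0, countTri_inv0]
  · intro U U' hU hU' hd hd' hiff
    apply orbit_of_inv hT hU hU'
    by_cases h : ∃ o ∈ octads, T ∪ U ⊆ o
    · rw [(inv_eq_one_iff T U).mpr ⟨hd, h⟩, (inv_eq_one_iff T U').mpr ⟨hd', hiff.mp h⟩]
    · rw [(inv_eq_zero_iff T U).mpr ⟨hd, h⟩,
        (inv_eq_zero_iff T U').mpr ⟨hd', fun h' => h (hiff.mpr h')⟩]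

end Cfsg.Agent.S1562
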