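-- Statement S1563 (row 1563): Cfsg.duad_stabilizer_maximal.
import Mathlib
import Cfsg.Statements.S1563
import Cfsg.Agent.Lib.Helper26_SubsetCounts
import Cfsg.Agent.Lib.Helper26_OctCounts
import Cfsg.Agent.Lib.Helper26_Maximal

set_option autoImplicit false
set_option linter.constructorNameAsVariable false
open Cfsg
open scoped Pointwise
open Cfsg.Agent.Lib.Helper26_Golay

namespace Cfsg.Agent.S1563

/-- The orbit counts. -/
def Nv (v : ℕ) : ℕ := if v = 2 then 1 else if v = 1 then 44 else if v = 0 then 231 else 0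

theorem arith : ∀ V ∈ ({0, 1, 2} : Finset ℕ).powerset, 2 ∈ V → (∑ v ∈ V, Nv v) ∣ 276 →
    (∑ v ∈ V, Nv v) = 1 ∨ (∑ v ∈ V, Nv v) = 276 := by
  decide

theorem orbit_of_meet {s y z : Finset GolayPt} (hs : s.card = 2) (hy : y.card = 2) (hz : z.card = 2)
    (h : (s ∩ y).card = (s ∩ z).card) : ∃ g ∈ M24, g • s = s ∧ g • y = z := by
  obtain ⟨g₀, hg₀, hgs⟩ := exists_smul_duad0_eq hs
  apply orbit_transfer hg₀ hgs
  apply duadStab_orbit (by rw [card_smul_pts]; exact hy) (by rw [card_smul_pts]; exact hz)
  rw [← card_inter_smul_left, ← card_inter_smul_left, hgs, h]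

/-- The stabiliser of a pair of points (setwise) is a maximal proper subgroup of the group of the length-24 code. -/
theorem result (s : Finset Cfsg.GolayPt) (hs : s.card = 2) : IsCoatom (MulAction.stabilizer Cfsg.M24 s) := by
  classical
  apply isCoatom_stabilizer_of_counts (G := ↥M24) (α := Finset GolayPt) s duadFinset ?_
    (fun y => (s ∩ y).card) ({0, 1, 2} : Finset ℕ) Nv
  · intro y hy z hz hyz
    rw [mem_duadFinset] at hy hz
    obtain ⟨g, hg, hgs, hgy⟩ := orbit_of_meet hs hy hz hyz
    exact ⟨⟨g, hg⟩, MulAction.mem_stabilizer_iff.mpr hgs, hgy⟩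
  · intro y hy
    rw [mem_duadFinset] at hy
    simp only [Finset.mem_insert, Finset.mem_singleton]
    have : (s ∩ y).card ≤ 2 := hs ▸ Finset.card_le_card Finset.inter_subset_left
    omega
  · intro v hv
    simp only [Finset.mem_insert, Finset.mem_singleton] at hv
    rw [duad_meet_count hs v]
    rcases hv with rfl | rfl | rfl
    · exact countDuad_meet0
    · exact countDuad_meet1
    · exact countDuad_meet2
  · intro V hV h2 hd
    rw [duadFinset_card] at hd ⊢
    have h2' : 2 ∈ V := by
      have : (s ∩ s).card = 2 := by rw [Finset.inter_self]; exact hs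
      rwa [this] at h2
    exact arith V (Finset.mem_powerset.mpr hV) h2' hd
  · rw [duadFinset_card]; norm_num
  · intro y
    rw [mem_duadFinset]
    constructor
    · intro hy
      obtain ⟨g, hg, rfl⟩ := exists_smul_duad0_eq hs
      obtain ⟨g', hg', rfl⟩ := exists_smul_duad0_eq hy
      refine ⟨⟨g' * g⁻¹, M24.mul_mem hg' (M24.inv_mem hg)⟩, ?_⟩
      show (g' * g⁻¹) • g • duad0 = g' • duad0
      rw [mul_smul, inv_smul_smul]
    · rintro ⟨g, rfl⟩
      show ((g : Equiv.Perm GolayPt) • s).card = 2
      rw [card_smul_pts]; exact hs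

end Cfsg.Agent.S1563
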