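-- Statement S1564 (row 1564): Cfsg.triad_stabilizer_maximal.
import Mathlib
import Cfsg.Statements.S1564
import Cfsg.Agent.Lib.Helper26_SubsetCounts
import Cfsg.Agent.Lib.Helper26_OctCounts
import Cfsg.Agent.Lib.Helper26_Maximal

set_option autoImplicit false
set_option linter.constructorNameAsVariable false
open Cfsg
open scoped Pointwise
open Cfsg.Agent.Lib.Helper26_Golay

namespace Cfsg.Agent.S1564

/-- The orbit counts. -/
def Nv (v : ℕ) : ℕ := if v = 7 then 1 else if v = 5 then 63 else if v = 3 then 630 else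
  if v = 1 then 210 else if v = 0 then 1120 else 0

theorem arith : ∀ V ∈ ({0, 1, 3, 5, 7} : Finset ℕ).powerset, 7 ∈ V → (∑ v ∈ V, Nv v) ∣ 2024 →
    (∑ v ∈ V, Nv v) = 1 ∨ (∑ v ∈ V, Nv v) = 2024 := by
  decide

theorem triInvSet_smul_left {g : Equiv.Perm GolayPt} (hg : g ∈ M24) (T y : Finset GolayPt) :
    triInvSet (g • T) y = triInvSet T (g⁻¹ • y) := by
  conv_lhs => rw [← smul_inv_smul g y]
  rw [triInvSet_smul hg]

theorem orbit_of_inv {s y z : Finset GolayPt} (hs : s.card = 3) (hy : y.card = 3) (hz : z.card = 3)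
    (h : triInvSet s y = triInvSet s z) : ∃ g ∈ M24, g • s = s ∧ g • y = z := by
  obtain ⟨g₀, hg₀, hgs⟩ := exists_smul_tri0_eq hs
  apply orbit_transfer hg₀ hgs
  apply triStab_orbit (by rw [card_smul_pts]; exact hy) (by rw [card_smul_pts]; exact hz)
  rw [← triInvSet_smul_left hg₀, ← triInvSet_smul_left hg₀, hgs, h]

theorem triInvSet_self {s : Finset GolayPt} (hs : s.card = 3) : triInvSet s s = 7 := by
  classical
  unfold triInvSet
  rw [Finset.inter_self, hs, Finset.union_self]
  have : ∃ o ∈ octads, s ⊆ o := by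
    -- extend `s` to a 5-set and use the Steiner property
    have hle : s.card ≤ 5 := by omega
    have h24 : 5 ≤ (Finset.univ : Finset GolayPt).card := by
      rw [Finset.card_univ]; decide
    obtain ⟨u, hsu, _, hu⟩ := Finset.exists_subsuperset_card_eq (Finset.subset_univ s) hle h24
    obtain ⟨o, ⟨ho, huo⟩, _⟩ := exists_unique_octad u hu
    exact ⟨o, ho, hsu.trans huo⟩
  rw [if_pos this]

/-- The stabiliser of a set of three points (setwise) is a maximal proper subgroup of the group of the length-24 code. -/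
theorem result (s : Finset Cfsg.GolayPt) (hs : s.card = 3) : IsCoatom (MulAction.stabilizer Cfsg.M24 s) := by
  classical
  apply isCoatom_stabilizer_of_counts (G := ↥M24) (α := Finset GolayPt) s triFinset ?_
    (fun y => triInvSet s y) ({0, 1, 3, 5, 7} : Finset ℕ) Nv
  · intro y hy z hz hyz
    rw [mem_triFinset] at hy hz
    obtain ⟨g, hg, hgs, hgy⟩ := orbit_of_inv hs hy hz hyz
    exact ⟨⟨g, hg⟩, MulAction.mem_stabilizer_iff.mpr hgs, hgy⟩
  · intro y hy
    rw [mem_triFinset] at hy
    simp only [Finset.mem_insert, Finset.mem_singleton]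
    exact triInvSet_mem hs hy
  · intro v hv
    simp only [Finset.mem_insert, Finset.mem_singleton] at hv
    rw [tri_inv_count hs v]
    rcases hv with rfl | rfl | rfl | rfl | rfl
    · exact countTri_inv0
    · exact countTri_inv1
    · exact countTri_inv3
    · exact countTri_inv5
    · exact countTri_inv7
  · intro V hV h7 hd
    rw [triFinset_card] at hd ⊢
    have h7' : 7 ∈ V := by
      simp only [triInvSet_self hs] at h7
      exact h7
    exact arith V (Finset.mem_powerset.mpr hV) h7' hd
  · rw [triFinset_card]; norm_num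
  · intro y
    rw [mem_triFinset]
    constructor
    · intro hy
      obtain ⟨g, hg, rfl⟩ := exists_smul_tri0_eq hs
      obtain ⟨g', hg', rfl⟩ := exists_smul_tri0_eq hy
      refine ⟨⟨g' * g⁻¹, M24.mul_mem hg' (M24.inv_mem hg)⟩, ?_⟩
      show (g' * g⁻¹) • g • tri0 = g' • tri0
      rw [mul_smul, inv_smul_smul]
    · rintro ⟨g, rfl⟩
      show ((g : Equiv.Perm GolayPt) • s).card = 3
      rw [card_smul_pts]; exact hs

end Cfsg.Agent.S1564
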