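-- Statement S1565 (row 1565): Cfsg.octad_stabilizer_maximal.
import Mathlib
import Cfsg.Statements.S1565
import Cfsg.Agent.Lib.Helper26_OctCounts
import Cfsg.Agent.Lib.Helper26_Maximal
import Cfsg.Agent.S1556

set_option autoImplicit false
set_option linter.constructorNameAsVariable false
open Cfsg
open scoped Pointwise
open Cfsg.Agent.Lib.Helper26_Golay

namespace Cfsg.Agent.S1565

/-- The orbit counts. -/
def Nv (v : ℕ) : ℕ := if v = 8 then 1 else if v = 0 then 30 else if v = 4 then 280 else
  if v = 2 then 448 else 0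

theorem arith : ∀ V ∈ ({0, 2, 4, 8} : Finset ℕ).powerset, 8 ∈ V → (∑ v ∈ V, Nv v) ∣ 759 →
    (∑ v ∈ V, Nv v) = 1 ∨ (∑ v ∈ V, Nv v) = 759 := by
  decide

/-- The stabiliser of an octad is a maximal proper subgroup of the group of the length-24 code. -/
theorem result (o : Finset Cfsg.GolayPt) (ho : o ∈ Cfsg.octads) : IsCoatom (MulAction.stabilizer Cfsg.M24 o) := by
  classical
  apply isCoatom_stabilizer_of_counts (G := ↥M24) (α := Finset GolayPt) o octFinset ?_
    (fun y => (o ∩ y).card) ({0, 2, 4, 8} : Finset ℕ) Nv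
  · -- stabiliser orbits are classified by the size of the intersection
    intro y hy z hz hyz
    rw [mem_octFinset_iff] at hy hz
    obtain ⟨g, hg, hgo, hgy⟩ := Cfsg.Agent.S1556.result o y z ho hy hz hyz
    exact ⟨⟨g, hg⟩, MulAction.mem_stabilizer_iff.mpr hgo, hgy⟩
  · intro y hy
    rw [mem_octFinset_iff] at hy
    simp only [Finset.mem_insert, Finset.mem_singleton]
    exact octad_meet_mem ho hy
  · intro v hv
    simp only [Finset.mem_insert, Finset.mem_singleton] at hv
    rw [octad_meet_count ho v]
    rcases hv with rfl | rfl | rfl | rfl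
    · exact countOct_meet0
    · exact countOct_meet2
    · exact countOct_meet4
    · exact countOct_meet8
  · intro V hV h8 hd
    rw [octFinset_card] at hd ⊢
    have h8' : 8 ∈ V := by
      have : (o ∩ o).card = 8 := by rw [Finset.inter_self]; exact ho.2
      rwa [this] at h8
    exact arith V (Finset.mem_powerset.mpr hV) h8' hd
  · rw [octFinset_card]; norm_num
  · -- the orbit of `o` is the set of octads
    intro y
    rw [mem_octFinset_iff]
    constructor
    · intro hy
      obtain ⟨g, hg, rfl⟩ := exists_smul_oct0_eq ho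
      obtain ⟨g', hg', rfl⟩ := exists_smul_oct0_eq hy
      refine ⟨⟨g' * g⁻¹, M24.mul_mem hg' (M24.inv_mem hg)⟩, ?_⟩
      show (g' * g⁻¹) • g • oct0 = g' • oct0
      rw [mul_smul, inv_smul_smul]
    · rintro ⟨g, rfl⟩
      exact smul_mem_octads g.2 ho

end Cfsg.Agent.S1565
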