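-- Statement S1566 (row 1566): Cfsg.dodecad_pair_stabilizer_maximal.
import Mathlib
import Cfsg.Statements.S1566
import Cfsg.Agent.Lib.Helper26_OctCounts
import Cfsg.Agent.Lib.Helper26_Maximal
import Cfsg.Agent.S1561

set_option autoImplicit false
set_option linter.constructorNameAsVariable false
open Cfsg
open scoped Pointwise
open Cfsg.Agent.Lib.Helper26_Golay

namespace Cfsg.Agent.S1566

/-- The pair formed by a set and its complement. -/
def pairOf (e : Finset GolayPt) : Finset (Finset GolayPt) := {e, eᶜ}

theorem ne_compl {e : Finset GolayPt} (he : e ∈ dodecads) : e ≠ eᶜ := by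
  intro h
  have h1 : e ∩ eᶜ = ∅ := Finset.inter_compl e
  rw [← h, Finset.inter_self] at h1
  have := he.2
  rw [h1] at this
  simp at this

theorem smul_compl_pts (g : Equiv.Perm GolayPt) (s : Finset GolayPt) : g • sᶜ = (g • s)ᶜ := by
  ext p
  rw [Finset.mem_compl, Finset.mem_smul_finset, Finset.mem_smul_finset]
  constructor
  · rintro ⟨q, hq, rfl⟩ ⟨q', hq', h⟩
    rw [Finset.mem_compl] at hq
    have : q' = q := MulAction.injective g h
    exact hq (this ▸ hq')
  · intro h
    refine ⟨g⁻¹ • p, ?_, smul_inv_smul g p⟩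
    rw [Finset.mem_compl]
    intro hq
    exact h ⟨g⁻¹ • p, hq, smul_inv_smul g p⟩

theorem smul_pairOf (g : Equiv.Perm GolayPt) (e : Finset GolayPt) :
    g • pairOf e = pairOf (g • e) := by
  unfold pairOf
  rw [Finset.smul_finset_insert, Finset.smul_finset_singleton, smul_compl_pts]

theorem pairOf_compl (e : Finset GolayPt) : pairOf eᶜ = pairOf e := by
  unfold pairOf
  rw [compl_compl, Finset.pair_comm]

theorem pairOf_eq_iff {e e' : Finset GolayPt} : pairOf e = pairOf e' ↔ e' = e ∨ e' = eᶜ := by
  unfold pairOf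
  constructor
  · intro h
    have : e' ∈ ({e, eᶜ} : Finset (Finset GolayPt)) := by
      rw [h]; exact Finset.mem_insert_self _ _
    rwa [Finset.mem_insert, Finset.mem_singleton] at this
  · rintro (rfl | rfl)
    · rfl
    · rw [compl_compl, Finset.pair_comm]

/-- The invariant: product of the intersection sizes with `d`. -/
def fInv (d : Finset GolayPt) (S : Finset (Finset GolayPt)) : ℕ := ∏ e ∈ S, (d ∩ e).card

theorem card_inter_compl {d : Finset GolayPt} (hd : d ∈ dodecads) (e : Finset GolayPt) :
    (d ∩ eᶜ).card = 12 - (d ∩ e).card := by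
  have h1 : d ∩ eᶜ = d \ e := by
    ext p
    simp [Finset.mem_sdiff]
  have h2 := Finset.card_sdiff_add_card_inter d e
  rw [hd.2] at h2
  rw [h1]
  omega

theorem fInv_pairOf {d e : Finset GolayPt} (hd : d ∈ dodecads) (he : e ∈ dodecads) :
    fInv d (pairOf e) = (d ∩ e).card * (12 - (d ∩ e).card) := by
  unfold fInv pairOf
  rw [Finset.prod_pair (ne_compl he), card_inter_compl hd]

/-- The orbit counts. -/
def Nv (v : ℕ) : ℕ := if v = 0 then 1 else if v = 32 then 495 else if v = 36 then 792 else 0

theorem arith : ∀ V ∈ ({0, 32, 36} : Finset ℕ).powerset, 0 ∈ V → (∑ v ∈ V, Nv v) ∣ 1288 →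
    (∑ v ∈ V, Nv v) = 1 ∨ (∑ v ∈ V, Nv v) = 1288 := by
  decide

/-- The set of all pairs `{e, eᶜ}` of complementary dodecads. -/
def pairsX : Finset (Finset (Finset GolayPt)) := dodFinset.image pairOf

/-- The map `e ↦ {e, eᶜ}` is two-to-one. -/
theorem two_to_one (P : Finset (Finset GolayPt) → Prop) [DecidablePred P] :
    (dodFinset.filter (fun e => P (pairOf e))).card = 2 * (pairsX.filter P).card := by
  have hmaps : ((dodFinset.filter (fun e => P (pairOf e)) : Finset (Finset GolayPt)) :
      Set (Finset GolayPt)).MapsTo pairOf (pairsX.filter P) := by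
    intro e he
    have he' := Finset.mem_filter.mp (Finset.mem_coe.mp he)
    exact Finset.mem_coe.mpr (Finset.mem_filter.mpr ⟨Finset.mem_image_of_mem _ he'.1, he'.2⟩)
  rw [Finset.card_eq_sum_card_fiberwise hmaps]
  have : ∀ S ∈ pairsX.filter P,
      ((dodFinset.filter (fun e => P (pairOf e))).filter (fun e => pairOf e = S)).card = 2 := by
    intro S hS
    obtain ⟨hSX, hPS⟩ := Finset.mem_filter.mp hS
    obtain ⟨e, he, rfl⟩ := Finset.mem_image.mp hSX
    have he' := (mem_dodFinset_iff e).mp he
    have : (dodFinset.filter (fun e => P (pairOf e))).filter (fun e' => pairOf e' = pairOf e) =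
        {e, eᶜ} := by
      ext e'
      rw [Finset.mem_filter, Finset.mem_filter, Finset.mem_insert, Finset.mem_singleton]
      constructor
      · rintro ⟨_, h⟩
        exact pairOf_eq_iff.mp h.symm
      · rintro (rfl | rfl)
        · exact ⟨⟨he, hPS⟩, rfl⟩
        · refine ⟨⟨(mem_dodFinset_iff _).mpr (compl_mem_dodecads he'), ?_⟩, pairOf_compl e⟩
          rw [pairOf_compl]; exact hPS
    rw [this, Finset.card_pair (ne_compl he')]
  rw [Finset.sum_congr rfl this, Finset.sum_const, smul_eq_mul, mul_comm]

theorem pairsX_card : pairsX.card = 1288 := by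
  have := two_to_one (fun _ => True)
  have h1 : dodFinset.filter (fun e => (fun _ : Finset (Finset GolayPt) => True) (pairOf e)) =
      dodFinset := Finset.filter_true_of_mem (fun _ _ => trivial)
  have h2 : pairsX.filter (fun _ => True) = pairsX := Finset.filter_true_of_mem (fun _ _ => trivial)
  rw [h1, h2, dodFinset_card] at this
  omega

theorem cnt0 : countDod (fun n => (pop (dodAt 0 &&& n) * (12 - pop (dodAt 0 &&& n)) == 0)) = 2 := by
  decide +kernel
theorem cnt32 : countDod (fun n => (pop (dodAt 0 &&& n) * (12 - pop (dodAt 0 &&& n)) == 32)) = 990 := by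
  decide +kernel
theorem cnt36 : countDod (fun n => (pop (dodAt 0 &&& n) * (12 - pop (dodAt 0 &&& n)) == 36)) = 1584 := by
  decide +kernel

theorem count_pairs {d : Finset GolayPt} (hd : d ∈ dodecads) (v : ℕ) :
    2 * (pairsX.filter (fun S => fInv d S = v)).card =
      countDod (fun n => (pop (dodAt 0 &&& n) * (12 - pop (dodAt 0 &&& n)) == v)) := by
  rw [← two_to_one (fun S => fInv d S = v),
    ← dodecad_meet_count_gen hd (fun k => k * (12 - k) == v)]
  apply congrArg Finset.card
  apply Finset.filter_congr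
  intro e he
  rw [fInv_pairOf hd ((mem_dodFinset_iff e).mp he), beq_iff_eq]

theorem eq_or_eq_of_prod {k k' : ℕ}
    (hk : k = 0 ∨ k = 4 ∨ k = 6 ∨ k = 8 ∨ k = 12) (hk' : k' = 0 ∨ k' = 4 ∨ k' = 6 ∨ k' = 8 ∨ k' = 12)
    (h : k * (12 - k) = k' * (12 - k')) : k' = k ∨ k' = 12 - k := by
  rcases hk with rfl | rfl | rfl | rfl | rfl <;> rcases hk' with rfl | rfl | rfl | rfl | rfl <;>
    simp at h ⊢

/-- The setwise stabiliser of a dodecad together with its complement is a maximal proper subgroup of the group of the length-24 code. -/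
theorem result (d : Finset Cfsg.GolayPt) (hd : d ∈ Cfsg.dodecads) : IsCoatom (MulAction.stabilizer Cfsg.M24 ({d, dᶜ} : Finset (Finset Cfsg.GolayPt))) := by
  classical
  show IsCoatom (MulAction.stabilizer Cfsg.M24 (pairOf d))
  apply isCoatom_stabilizer_of_counts (G := ↥M24) (α := Finset (Finset GolayPt)) (pairOf d) pairsX ?_
    (fInv d) ({0, 32, 36} : Finset ℕ) Nv
  · -- stabiliser orbits are classified by the invariant
    intro y hy z hz hyz
    obtain ⟨e, he, rfl⟩ := Finset.mem_image.mp hy
    obtain ⟨e', he', rfl⟩ := Finset.mem_image.mp hz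
    rw [mem_dodFinset_iff] at he he'
    rw [fInv_pairOf hd he, fInv_pairOf hd he'] at hyz
    have key : ∀ e'' : Finset GolayPt, e'' ∈ dodecads → (d ∩ e).card = (d ∩ e'').card →
        pairOf e'' = pairOf e' →
        ∃ h ∈ MulAction.stabilizer (↥M24) (pairOf d), h • pairOf e = pairOf e' := by
      intro e'' he'' hc hp
      obtain ⟨g, hg, hgd, hge⟩ := Cfsg.Agent.S1561.result d e e'' hd he he'' hc
      refine ⟨⟨g, hg⟩, ?_, ?_⟩
      · rw [MulAction.mem_stabilizer_iff]
        show g • pairOf d = pairOf d
        rw [smul_pairOf, hgd]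
      · show g • pairOf e = pairOf e'
        rw [smul_pairOf, hge, hp]
    rcases eq_or_eq_of_prod (dodecad_meet_mem hd he) (dodecad_meet_mem hd he') hyz with h | h
    · exact key e' he' h.symm rfl
    · apply key e'ᶜ (compl_mem_dodecads he') _ (pairOf_compl e')
      rw [card_inter_compl hd, h]
      have := dodecad_meet_mem hd he
      omega
  · intro y hy
    obtain ⟨e, he, rfl⟩ := Finset.mem_image.mp hy
    rw [mem_dodFinset_iff] at he
    rw [fInv_pairOf hd he]
    simp only [Finset.mem_insert, Finset.mem_singleton]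
    rcases dodecad_meet_mem hd he with h | h | h | h | h <;> rw [h] <;> simp
  · intro v hv
    simp only [Finset.mem_insert, Finset.mem_singleton] at hv
    have := count_pairs hd v
    rcases hv with rfl | rfl | rfl
    · rw [cnt0] at this
      show _ = 1
      omega
    · rw [cnt32] at this
      show _ = 495
      omega
    · rw [cnt36] at this
      show _ = 792
      omega
  · intro V hV h0 hdv
    rw [pairsX_card] at hdv ⊢
    have h0' : 0 ∈ V := by
      have : fInv d (pairOf d) = 0 := by
        rw [fInv_pairOf hd hd, Finset.inter_self, hd.2]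
      rwa [this] at h0
    exact arith V (Finset.mem_powerset.mpr hV) h0' hdv
  · rw [pairsX_card]; norm_num
  · -- the orbit of `{d, dᶜ}`
    intro y
    constructor
    · intro hy
      obtain ⟨e, he, rfl⟩ := Finset.mem_image.mp hy
      rw [mem_dodFinset_iff] at he
      obtain ⟨g, hg, hgd⟩ := exists_smul_dod0_eq hd
      obtain ⟨g', hg', hge⟩ := exists_smul_dod0_eq he
      refine ⟨⟨g' * g⁻¹, M24.mul_mem hg' (M24.inv_mem hg)⟩, ?_⟩
      show (g' * g⁻¹) • pairOf d = pairOf e
      rw [smul_pairOf, ← hgd, mul_smul, inv_smul_smul, hge]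
    · rintro ⟨g, rfl⟩
      show (g : Equiv.Perm GolayPt) • pairOf d ∈ pairsX
      rw [smul_pairOf]
      exact Finset.mem_image_of_mem _ ((mem_dodFinset_iff _).mpr (smul_mem_dodecads g.2 hd))

end Cfsg.Agent.S1566
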