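import Cfsg.Statements.S1578
import Cfsg.Agent.S1573
import Cfsg.Agent.S0401
import Cfsg.Agent.Lib.Helper92_OrthPairs

/-!
The number 552 by double counting.  The pairs `(v, u)` with `v` minimal, `u` of sum of squares 48
and `u - v` minimal are counted in two ways: for fixed `v` the vectors `u - v` are the minimal
vectors of inner product `-8` with `v`, 47104 of them (`S1573`); for fixed `u` the number of `v`
does not depend on `u`, the automorphism group being transitive on the vectors of sum of squares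
48 (`S0401`).  Hence `196560 * 47104 = 16773120 * N`.
-/

set_option autoImplicit false
open scoped Pointwise
open Cfsg

namespace Cfsg.Agent.S1578

open Cfsg.Agent.Lib.Helper92_LeechMod2 Cfsg.Agent.Lib.Helper92_Monomial
  Cfsg.Agent.Lib.Helper92_Co0Order Cfsg.Agent.Lib.Helper92_OrthPairs
open Cfsg.Agent.S5546 (Lam)

/-- The minimal vectors `v` with `u - v` minimal. -/
def Nb (u : Lam) : Set Lam :=
  {v | sqNorm (v : GolayPt → ℤ) = 32 ∧ sqNorm ((u - v : Lam) : GolayPt → ℤ) = 32}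

/-- The minimal vectors of inner product `-8` with `v`. -/
def Fb (v : Lam) : Set Lam :=
  {w | sqNorm (w : GolayPt → ℤ) = 32 ∧ dotInt (v : GolayPt → ℤ) (w : GolayPt → ℤ) = -8}

theorem Fb_ncard (v : Lam) (hv : sqNorm (v : GolayPt → ℤ) = 32) : (Fb v).ncard = 47104 := by
  rw [← (Cfsg.Agent.S1573.result v.1 v.2 hv).2.1,
    ← Set.ncard_image_of_injective (Fb v) Subtype.val_injective]
  congr 1
  ext x
  constructor
  · rintro ⟨w, ⟨h1, h2⟩, rfl⟩
    exact ⟨w.2, h1, h2⟩
  · rintro ⟨hx, h1, h2⟩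
    exact ⟨⟨x, hx⟩, ⟨h1, h2⟩, rfl⟩

/-- The vectors `u` of sum of squares 48 with `u - v` minimal are the `v + w`, `w` in `Fb v`. -/
theorem above_eq (v : Lam) (hv : sqNorm (v : GolayPt → ℤ) = 32) :
    {u : Lam | sqNorm (u : GolayPt → ℤ) = 48 ∧ sqNorm ((u - v : Lam) : GolayPt → ℤ) = 32} =
      (fun w => v + w) '' Fb v := by
  ext u
  constructor
  · rintro ⟨h1, h2⟩
    refine ⟨u - v, ⟨h2, ?_⟩, by show v + (u - v) = u; abel⟩
    have e : (u : GolayPt → ℤ) = (v : GolayPt → ℤ) + ((u - v : Lam) : GolayPt → ℤ) := by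
      show (u : GolayPt → ℤ) = (v : GolayPt → ℤ) + ((u : GolayPt → ℤ) - (v : GolayPt → ℤ))
      abel
    rw [e, sqNorm_add', hv, h2] at h1
    omega
  · rintro ⟨w, ⟨h1, h2⟩, rfl⟩
    refine ⟨?_, ?_⟩
    · show sqNorm ((v : GolayPt → ℤ) + (w : GolayPt → ℤ)) = 48
      rw [sqNorm_add', hv, h1, h2]; rfl
    · have : v + w - v = w := by abel
      rw [this]; exact h1

theorem above_ncard (v : Lam) (hv : sqNorm (v : GolayPt → ℤ) = 32) :
    {u : Lam | sqNorm (u : GolayPt → ℤ) = 48 ∧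
      sqNorm ((u - v : Lam) : GolayPt → ℤ) = 32}.ncard = 47104 := by
  rw [above_eq v hv, Set.ncard_image_of_injective _ (add_right_injective v), Fb_ncard v hv]

/-- The sets `Nb u` are permuted by the automorphism group. -/
theorem Nb_smul (g : ↥Co0) (u : Lam) : g • Nb u = Nb (g • u) := by
  ext w
  rw [Set.mem_smul_set]
  constructor
  · rintro ⟨v, ⟨h1, h2⟩, rfl⟩
    refine ⟨by rw [sqNorm_smul]; exact h1, ?_⟩
    rw [← smul_sub', sqNorm_smul]; exact h2
  · rintro ⟨h1, h2⟩
    refine ⟨g⁻¹ • w, ⟨by rw [sqNorm_smul]; exact h1, ?_⟩, smul_inv_smul g w⟩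
    have : u - g⁻¹ • w = g⁻¹ • (g • u - w) := by
      rw [smul_sub', inv_smul_smul]
    rw [this, sqNorm_smul]; exact h2

theorem Nb_ncard_eq (u u' : Lam) (hu : sqNorm (u : GolayPt → ℤ) = 48)
    (hu' : sqNorm (u' : GolayPt → ℤ) = 48) : (Nb u').ncard = (Nb u).ncard := by
  obtain ⟨g, hg⟩ := Cfsg.Agent.S0401.result u u' hu hu'
  rw [← hg, ← Nb_smul]
  exact Set.ncard_image_of_injective _ (MulAction.injective g)

theorem count (u : Lam) (hu : sqNorm (u : GolayPt → ℤ) = 48) : (Nb u).ncard = 552 := by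
  classical
  let A32 : Finset Lam := fin_32.toFinset
  let A48 : Finset Lam := fin_48.toFinset
  have hA32 : ∀ v, v ∈ A32 ↔ sqNorm (v : GolayPt → ℤ) = 32 := fun v => by
    rw [Set.Finite.mem_toFinset]; rfl
  have hA48 : ∀ v, v ∈ A48 ↔ sqNorm (v : GolayPt → ℤ) = 48 := fun v => by
    rw [Set.Finite.mem_toFinset]; rfl
  have hc32 : A32.card = 196560 := by
    rw [← Set.ncard_eq_toFinset_card _ fin_32, ncard_32]
  have hc48 : A48.card = 16773120 := by
    rw [← Set.ncard_eq_toFinset_card _ fin_48, ncard_48]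
  have key := Finset.sum_card_bipartiteAbove_eq_sum_card_bipartiteBelow (s := A32) (t := A48)
    (fun (v u : Lam) => sqNorm ((u - v : Lam) : GolayPt → ℤ) = 32)
  have hL : ∀ v ∈ A32, (Finset.bipartiteAbove
      (fun (v u : Lam) => sqNorm ((u - v : Lam) : GolayPt → ℤ) = 32) A48 v).card = 47104 := by
    intro v hv
    rw [hA32] at hv
    rw [← above_ncard v hv, ← Set.ncard_coe_finset]
    congr 1
    ext x
    rw [Finset.mem_coe, Finset.mem_bipartiteAbove, hA48]
    rfl
  have hR : ∀ x ∈ A48, (Finset.bipartiteBelow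
      (fun (v u : Lam) => sqNorm ((u - v : Lam) : GolayPt → ℤ) = 32) A32 x).card =
      (Nb u).ncard := by
    intro x hx
    rw [hA48] at hx
    rw [← Nb_ncard_eq u x hu hx, ← Set.ncard_coe_finset]
    congr 1
    ext y
    rw [Finset.mem_coe, Finset.mem_bipartiteBelow, hA32]
    rfl
  rw [Finset.sum_congr rfl hL, Finset.sum_congr rfl hR, Finset.sum_const, Finset.sum_const,
    smul_eq_mul, smul_eq_mul, hc32, hc48] at key
  omega

/-- A lattice vector of customary norm 6 is the sum of an unordered pair of minimal vectors in exactly 276 ways (552 ordered summands). -/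
theorem result (u : ↥Cfsg.leechLattice) (hu : Cfsg.sqNorm (u : Cfsg.GolayPt → ℤ) = 48) : {v : ↥Cfsg.leechLattice | Cfsg.sqNorm (v : Cfsg.GolayPt → ℤ) = 32 ∧ Cfsg.sqNorm ((u - v) : Cfsg.GolayPt → ℤ) = 32}.ncard = 552 :=
  count u hu

end Cfsg.Agent.S1578
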