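import Cfsg.Statements.S1579
import Cfsg.Agent.S0400
import Cfsg.Agent.S1575
import Cfsg.Agent.S5593

/-!
Corollary of `S0400` (transitivity on the minimal vectors) and `S1575` (the stabiliser of a
minimal vector `v` is transitive on the minimal vectors of inner product `-8` with `v`):
if `u = v + w = v' + w'` with all four summands minimal, then `v.w = v'.w' = -8`; move `v'` to
`v`, then the image of `w'` to `w` keeping `v` fixed; the composite fixes `u`.
-/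

set_option autoImplicit false
open scoped Pointwise
open Cfsg

namespace Cfsg.Agent.S1579

open Cfsg.Agent.Lib.Helper92_LeechMod2 Cfsg.Agent.Lib.Helper92_Monomial
  Cfsg.Agent.Lib.Helper92_Co0Order Cfsg.Agent.Lib.Helper92_OrthPairs
open Cfsg.Agent.S5546 (Lam)

theorem dot_of_split (u v : Lam) (hu : sqNorm (u : GolayPt → ℤ) = 48)
    (hv : sqNorm (v : GolayPt → ℤ) = 32) (huv : sqNorm ((u - v : Lam) : GolayPt → ℤ) = 32) :
    dotInt (v : GolayPt → ℤ) ((u - v : Lam) : GolayPt → ℤ) = -8 := by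
  have e : (u : GolayPt → ℤ) = (v : GolayPt → ℤ) + ((u - v : Lam) : GolayPt → ℤ) := by
    show (u : GolayPt → ℤ) = (v : GolayPt → ℤ) + ((u : GolayPt → ℤ) - (v : GolayPt → ℤ))
    abel
  have h := sqNorm_add' (v : GolayPt → ℤ) ((u - v : Lam) : GolayPt → ℤ)
  rw [← e, hu, hv, huv] at h
  omega

/-- The stabiliser of a vector `u` of customary norm 6 is transitive on the minimal `v` with `u − v` minimal. -/
theorem result (u v v' : ↥Cfsg.leechLattice) (hu : Cfsg.sqNorm (u : Cfsg.GolayPt → ℤ) = 48) (hv : Cfsg.sqNorm (v : Cfsg.GolayPt → ℤ) = 32 ∧ Cfsg.sqNorm ((u - v) : Cfsg.GolayPt → ℤ) = 32) (hv' : Cfsg.sqNorm (v' : Cfsg.GolayPt → ℤ) = 32 ∧ Cfsg.sqNorm ((u - v') : Cfsg.GolayPt → ℤ) = 32) : ∃ g : ↥Cfsg.Co0, g • u = u ∧ g • v = v' := by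
  obtain ⟨g₁, hg₁⟩ := Cfsg.Agent.S0400.result v v' hv.1 hv'.1
  have hd := dot_of_split u v hu hv.1 hv.2
  have hd' := dot_of_split u v' hu hv'.1 hv'.2
  have hn1 : sqNorm ((g₁ • (u - v) : Lam) : GolayPt → ℤ) = 32 := by
    rw [sqNorm_smul]; exact hv.2
  have hd1 : dotInt (v' : GolayPt → ℤ) ((g₁ • (u - v) : Lam) : GolayPt → ℤ) = -8 := by
    rw [← hg₁, Cfsg.Agent.S5593.dot_smul]; exact hd
  obtain ⟨g₂, hg₂, hg₂'⟩ := Cfsg.Agent.S1575.result v' (g₁ • (u - v)) (u - v') hv'.1 hn1 hv'.2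
    hd1 hd'
  refine ⟨g₂ * g₁, ?_, ?_⟩
  · have hu' : u = v + (u - v) := by abel
    rw [mul_smul]
    nth_rewrite 1 [hu']
    rw [smul_add', smul_add', hg₁, hg₂, hg₂']
    abel
  · rw [mul_smul, hg₁, hg₂]

end Cfsg.Agent.S1579
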