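import Cfsg.Statements.S1580
import Cfsg.Agent.Lib.Helper91_Co3L2Thm

set_option autoImplicit false
open Cfsg

namespace Cfsg.Agent.S1580

open Cfsg.Agent.Lib.Helper7_Xi Cfsg.Agent.Lib.Helper91_LeechGlue Cfsg.Agent.Lib.Helper91_Co3L1
  Cfsg.Agent.Lib.Helper91_Co3L2

/-- the standard form of the set of `x` -/
def Sset (u v : leechLattice) : Set leechLattice :=
  {x | sqNorm (x : GolayPt → ℤ) = 32 ∧ dotInt (u : GolayPt → ℤ) (x : GolayPt → ℤ) = 24 ∧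
    dotInt (v : GolayPt → ℤ) (x : GolayPt → ℤ) = 16}

theorem set_eq (u v : leechLattice) (hu : sqNorm (u : GolayPt → ℤ) = 48) :
    {x : leechLattice | sqNorm (x : GolayPt → ℤ) = 32 ∧
      sqNorm ((u : GolayPt → ℤ) - (x : GolayPt → ℤ)) = 32 ∧
      dotInt (v : GolayPt → ℤ) (x : GolayPt → ℤ) = 16} = Sset u v := by
  ext x
  unfold Sset
  simp only [Set.mem_ofPred_eq]
  rw [sqNorm_sub', hu]
  constructor
  · rintro ⟨h1, h2, h3⟩
    exact ⟨h1, by omega, h3⟩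
  · rintro ⟨h1, h2, h3⟩
    exact ⟨h1, by omega, h3⟩

theorem mem_smul (g : Co0) (u v x : leechLattice) : x ∈ Sset u v ↔ g • x ∈ Sset (g • u) (g • v) := by
  unfold Sset
  simp only [Set.mem_ofPred_eq]
  rw [sqNorm_smul, dotInt_smul, dotInt_smul]

theorem ncard_Sset (g : Co0) (u v : leechLattice) :
    (Sset u v).ncard = (Sset (g • u) (g • v)).ncard := by
  have : Sset (g • u) (g • v) = (fun x => g • x) '' Sset u v := by
    ext x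
    constructor
    · intro hx
      refine ⟨g⁻¹ • x, ?_, smul_inv_smul g x⟩
      rw [mem_smul g, smul_inv_smul]
      exact hx
    · rintro ⟨y, hy, rfl⟩
      exact (mem_smul g u v y).mp hy
  rw [this, Set.ncard_image_of_injective _ (MulAction.injective g)]

theorem result (u v : ↥Cfsg.leechLattice) (hu : Cfsg.sqNorm (u : Cfsg.GolayPt → ℤ) = 48) (hv : Cfsg.sqNorm (v : Cfsg.GolayPt → ℤ) = 32 ∧ Cfsg.sqNorm ((u - v) : Cfsg.GolayPt → ℤ) = 32) : {x : ↥Cfsg.leechLattice | Cfsg.sqNorm (x : Cfsg.GolayPt → ℤ) = 32 ∧ Cfsg.sqNorm ((u - x) : Cfsg.GolayPt → ℤ) = 32 ∧ Cfsg.dotInt (v : Cfsg.GolayPt → ℤ) (x : Cfsg.GolayPt → ℤ) = 16}.ncard = 275 ∧ ∀ x ∈ {x : ↥Cfsg.leechLattice | Cfsg.sqNorm (x : Cfsg.GolayPt → ℤ) = 32 ∧ Cfsg.sqNorm ((u - x) : Cfsg.GolayPt → ℤ) = 32 ∧ Cfsg.dotInt (v : Cfsg.GolayPt → ℤ) (x : Cfsg.GolayPt → ℤ) = 16}, ∀ x' ∈ {x : ↥Cfsg.leechLattice | Cfsg.sqNorm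 (x : Cfsg.GolayPt → ℤ) = 32 ∧ Cfsg.sqNorm ((u - x) : Cfsg.GolayPt → ℤ) = 32 ∧ Cfsg.dotInt (v : Cfsg.GolayPt → ℤ) (x : Cfsg.GolayPt → ℤ) = 16}, ∃ g : ↥Cfsg.Co0, g • u = u ∧ g • v = v ∧ g • x = x' := by
  have hd : dotInt (u : GolayPt → ℤ) (v : GolayPt → ℤ) = 24 := by
    have := sqNorm_sub' (u : GolayPt → ℤ) (v : GolayPt → ℤ)
    rw [hu, hv.1, hv.2] at this
    omega
  obtain ⟨g, hgu, hgv⟩ := pair_std u v hu hv.1 hd
  have hS := set_eq u v hu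
  have hS' : {x : leechLattice | sqNorm (x : GolayPt → ℤ) = 32 ∧
      sqNorm (((u - x : GolayPt → ℤ))) = 32 ∧
      dotInt (v : GolayPt → ℤ) (x : GolayPt → ℤ) = 16} = Sset u v := hS
  rw [hS']
  constructor
  · rw [ncard_Sset g u v, hgu, hgv]
    exact count2
  · intro x hx x' hx'
    have h1 := (mem_smul g u v x).mp hx
    have h2 := (mem_smul g u v x').mp hx'
    rw [hgu, hgv] at h1 h2
    obtain ⟨h, hU, hV, hh⟩ := trans2 (g • x) (g • x') h1.1 h1.2.1 h1.2.2 h2.1 h2.2.1 h2.2.2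
    refine ⟨g⁻¹ * h * g, ?_, ?_, ?_⟩
    · rw [mul_smul, mul_smul, hgu, hU, ← hgu, inv_smul_smul]
    · rw [mul_smul, mul_smul, hgv, hV, ← hgv, inv_smul_smul]
    · rw [mul_smul, mul_smul, hh, inv_smul_smul]

end Cfsg.Agent.S1580
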