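import Mathlib
import Cfsg.Agent.S1640
import Cfsg.Agent.S0401

set_option autoImplicit false

namespace Cfsg.Agent.S1585

open Cfsg

theorem dot_neg_add (a b c : GolayPt → ℤ) :
    dotInt a (-(b + c)) = -(dotInt a b + dotInt a c) := by
  unfold dotInt
  rw [← Finset.sum_add_distrib, ← Finset.sum_neg_distrib]
  apply Finset.sum_congr rfl
  intro i _
  simp only [Pi.neg_apply, Pi.add_apply]
  ring

theorem norm_neg_add (b c : GolayPt → ℤ) :
    sqNorm (-(b + c)) = sqNorm b + 2 * dotInt b c + sqNorm c := by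
  unfold sqNorm dotInt
  rw [Finset.mul_sum, ← Finset.sum_add_distrib, ← Finset.sum_add_distrib]
  apply Finset.sum_congr rfl
  intro i _
  simp only [Pi.neg_apply, Pi.add_apply]
  ring

theorem dot_self (a : GolayPt → ℤ) : dotInt a a = sqNorm a := by
  unfold dotInt sqNorm
  apply Finset.sum_congr rfl
  intro i _
  ring

theorem dot_comm (a b : GolayPt → ℤ) : dotInt a b = dotInt b a := by
  unfold dotInt
  apply Finset.sum_congr rfl
  intro i _
  ring

theorem co0_neg (g : Equiv.Perm leechLattice) (hg : g ∈ Co0) (a : leechLattice) :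
    g (-a) = -(g a) := by
  have h0 : g 0 = 0 := by
    have := hg.1 0 0
    rw [add_zero] at this
    exact left_eq_add.mp this
  have := hg.1 (-a) a
  rw [neg_add_cancel, h0] at this
  exact eq_neg_of_add_eq_zero_left this.symm

theorem result (v w : ↥Cfsg.leechLattice) (hv : Cfsg.sqNorm (v : Cfsg.GolayPt → ℤ) = 48) (hw : Cfsg.sqNorm (w : Cfsg.GolayPt → ℤ) = 48) (hvw : Cfsg.dotInt (v : Cfsg.GolayPt → ℤ) (w : Cfsg.GolayPt → ℤ) = -32) : ∃ g : ↥Cfsg.Co0, g • v = w ∧ g • w = v := by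
  set x : leechLattice := -(v + w) with hx
  have hxc : (x : GolayPt → ℤ) = -((v : GolayPt → ℤ) + (w : GolayPt → ℤ)) := rfl
  have hxn : sqNorm (x : GolayPt → ℤ) = 32 := by
    rw [hxc, norm_neg_add, hv, hw, hvw]; norm_num
  have hwx : dotInt (w : GolayPt → ℤ) (x : GolayPt → ℤ) = -16 := by
    rw [hxc, dot_neg_add, dot_self, hw, dot_comm, hvw]; norm_num
  have hvx : dotInt (v : GolayPt → ℤ) (x : GolayPt → ℤ) = -16 := by
    rw [hxc, dot_neg_add, dot_self, hv, hvw]; norm_num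
  obtain ⟨h, hh⟩ := Cfsg.Agent.S0401.result v w hv hw
  have hh' : h.1 v = w := hh
  have hhx : dotInt (w : GolayPt → ℤ) ((h.1 x : leechLattice) : GolayPt → ℤ) = -16 := by
    have := Cfsg.Agent.Lib.Helper26_Leech.dotInt_co0 h.1 h.2 v x
    rw [hh'] at this
    rw [this]; exact hvx
  have hhxn : sqNorm ((h.1 x : leechLattice) : GolayPt → ℤ) = 32 := by
    rw [h.2.2 x]; exact hxn
  obtain ⟨g, hg1, hg2⟩ := (Cfsg.Agent.S1640.result w hw).2 (h.1 x) ⟨hhxn, hhx⟩ x ⟨hxn, hwx⟩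
  have hg1' : g.1 w = w := hg1
  have hg2' : g.1 (h.1 x) = x := hg2
  refine ⟨g * h, ?_, ?_⟩
  · show g.1 (h.1 v) = w
    rw [hh', hg1']
  · show g.1 (h.1 w) = v
    have e : w = -(v + x) := by
      rw [hx]; abel
    have e1 : h.1 w = -(h.1 v + h.1 x) := by
      rw [e, co0_neg h.1 h.2, h.2.1]
    rw [e1, co0_neg g.1 g.2, g.2.1, hh', hg1', hg2', hx]
    abel

end Cfsg.Agent.S1585
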