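import Cfsg.Statements.S1587

set_option autoImplicit false
open Matrix
open Cfsg

namespace Cfsg.Agent.S1587

/-- symmetry of the bilinear form -/
theorem bil_symm (B : Matrix (Fin 24) (Fin 24) ℤ) (hsymm : B.IsSymm) (x y : Fin 24 → ℤ) :
    y ⬝ᵥ (B *ᵥ x) = x ⬝ᵥ (B *ᵥ y) := by
  rw [Matrix.dotProduct_mulVec, ← Matrix.mulVec_transpose, hsymm.eq, dotProduct_comm]

/-- norm at least four for nonzero vectors -/
theorem norm_ge_four (B : Matrix (Fin 24) (Fin 24) ℤ)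
    (hpos : ∀ x : Fin 24 → ℤ, x ≠ 0 → 0 < x ⬝ᵥ (B *ᵥ x))
    (heven : ∀ x : Fin 24 → ℤ, (2 : ℤ) ∣ x ⬝ᵥ (B *ᵥ x))
    (h2 : ∀ x : Fin 24 → ℤ, x ⬝ᵥ (B *ᵥ x) ≠ 2) (z : Fin 24 → ℤ) (hz : z ≠ 0) :
    4 ≤ z ⬝ᵥ (B *ᵥ z) := by
  have h1 := hpos z hz
  have h3 := heven z
  have h4 := h2 z
  omega

/-- First step of the characterisation of the rank-24 lattice: in an even lattice without roots, norm-8 vectors congruent modulo 2 are equal, opposite or orthogonal. -/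
theorem result (B : Matrix (Fin 24) (Fin 24) ℤ) (hsymm : B.IsSymm) (hpos : ∀ x : Fin 24 → ℤ, x ≠ 0 → 0 < x ⬝ᵥ (B *ᵥ x)) (heven : ∀ x : Fin 24 → ℤ, (2 : ℤ) ∣ x ⬝ᵥ (B *ᵥ x)) (h2 : ∀ x : Fin 24 → ℤ, x ⬝ᵥ (B *ᵥ x) ≠ 2) (x y : Fin 24 → ℤ) (hx : x ⬝ᵥ (B *ᵥ x) = 8) (hy : y ⬝ᵥ (B *ᵥ y) = 8) (hc : ∀ i, (2 : ℤ) ∣ (x - y) i) : y = x ∨ y = -x ∨ x ⬝ᵥ (B *ᵥ y) = 0 := by
  choose z hz using hc
  have hz' : x - y = (2 : ℤ) • z := by
    funext i; simp [hz i]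
  have hxy : x + y = (2 : ℤ) • (z + y) := by
    have : x = (2 : ℤ) • z + y := by rw [← hz']; abel
    rw [this]; simp [two_smul]; abel
  by_cases h0 : z = 0
  · left
    rw [h0, smul_zero, sub_eq_zero] at hz'
    exact hz'.symm
  by_cases h1 : z + y = 0
  · right; left
    rw [h1, smul_zero] at hxy
    exact (eq_neg_of_add_eq_zero_right hxy)
  right; right
  have n1 := norm_ge_four B hpos heven h2 z h0
  have n2 := norm_ge_four B hpos heven h2 (z + y) h1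
  have hs := bil_symm B hsymm x y
  have e1 : (x - y) ⬝ᵥ (B *ᵥ (x - y)) = 4 * (z ⬝ᵥ (B *ᵥ z)) := by
    rw [hz']; simp only [Matrix.mulVec_smul, dotProduct_smul, smul_dotProduct, smul_eq_mul]; ring
  have e2 : (x + y) ⬝ᵥ (B *ᵥ (x + y)) = 4 * ((z + y) ⬝ᵥ (B *ᵥ (z + y))) := by
    rw [hxy]; simp only [Matrix.mulVec_smul, dotProduct_smul, smul_dotProduct, smul_eq_mul]; ring
  have e3 : (x - y) ⬝ᵥ (B *ᵥ (x - y)) = 16 - 2 * (x ⬝ᵥ (B *ᵥ y)) := by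
    simp only [Matrix.mulVec_sub, dotProduct_sub, sub_dotProduct, hs, hx, hy]; ring
  have e4 : (x + y) ⬝ᵥ (B *ᵥ (x + y)) = 16 + 2 * (x ⬝ᵥ (B *ᵥ y)) := by
    simp only [Matrix.mulVec_add, dotProduct_add, add_dotProduct, hs, hx, hy]; ring
  omega

end Cfsg.Agent.S1587
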