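import Cfsg.Statements.S1588
import Mathlib

set_option autoImplicit false
open Matrix
open Cfsg

namespace Cfsg.Agent.S1588

/-- symmetry of the bilinear form -/
theorem bil_symm (B : Matrix (Fin 24) (Fin 24) ℤ) (hsymm : B.IsSymm) (x y : Fin 24 → ℤ) :
    y ⬝ᵥ (B *ᵥ x) = x ⬝ᵥ (B *ᵥ y) := by
  rw [Matrix.dotProduct_mulVec, ← Matrix.mulVec_transpose, hsymm.eq, dotProduct_comm]

/-- norm at least four for nonzero vectors -/
theorem norm_ge_four (B : Matrix (Fin 24) (Fin 24) ℤ)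
    (hpos : ∀ x : Fin 24 → ℤ, x ≠ 0 → 0 < x ⬝ᵥ (B *ᵥ x))
    (heven : ∀ x : Fin 24 → ℤ, (2 : ℤ) ∣ x ⬝ᵥ (B *ᵥ x))
    (h2 : ∀ x : Fin 24 → ℤ, x ⬝ᵥ (B *ᵥ x) ≠ 2) (z : Fin 24 → ℤ) (hz : z ≠ 0) :
    4 ≤ z ⬝ᵥ (B *ᵥ z) := by
  have h1 := hpos z hz
  have h3 := heven z
  have h4 := h2 z
  omega

/-- short vectors congruent modulo 2 are equal, opposite, or orthogonal of norm 8 -/
theorem short_congr (B : Matrix (Fin 24) (Fin 24) ℤ) (hsymm : B.IsSymm)
    (hpos : ∀ x : Fin 24 → ℤ, x ≠ 0 → 0 < x ⬝ᵥ (B *ᵥ x))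
    (heven : ∀ x : Fin 24 → ℤ, (2 : ℤ) ∣ x ⬝ᵥ (B *ᵥ x))
    (h2 : ∀ x : Fin 24 → ℤ, x ⬝ᵥ (B *ᵥ x) ≠ 2) (x y : Fin 24 → ℤ)
    (hx : x ⬝ᵥ (B *ᵥ x) ≤ 8) (hy : y ⬝ᵥ (B *ᵥ y) ≤ 8) (hc : ∀ i, (2 : ℤ) ∣ (x - y) i) :
    y = x ∨ y = -x ∨
      (x ⬝ᵥ (B *ᵥ x) = 8 ∧ y ⬝ᵥ (B *ᵥ y) = 8 ∧ x ⬝ᵥ (B *ᵥ y) = 0) := by
  choose z hz using hc
  have hz' : x - y = (2 : ℤ) • z := by
    funext i; simp [hz i]
  have hxy : x + y = (2 : ℤ) • (z + y) := by
    have : x = (2 : ℤ) • z + y := by rw [← hz']; abel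
    rw [this]; simp [two_smul]; abel
  by_cases h0 : z = 0
  · left
    rw [h0, smul_zero, sub_eq_zero] at hz'
    exact hz'.symm
  by_cases h1 : z + y = 0
  · right; left
    rw [h1, smul_zero] at hxy
    exact (eq_neg_of_add_eq_zero_right hxy)
  right; right
  have n1 := norm_ge_four B hpos heven h2 z h0
  have n2 := norm_ge_four B hpos heven h2 (z + y) h1
  have hs := bil_symm B hsymm x y
  have e1 : (x - y) ⬝ᵥ (B *ᵥ (x - y)) = 4 * (z ⬝ᵥ (B *ᵥ z)) := by
    rw [hz']; simp only [Matrix.mulVec_smul, dotProduct_smul, smul_dotProduct, smul_eq_mul]; ring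
  have e2 : (x + y) ⬝ᵥ (B *ᵥ (x + y)) = 4 * ((z + y) ⬝ᵥ (B *ᵥ (z + y))) := by
    rw [hxy]; simp only [Matrix.mulVec_smul, dotProduct_smul, smul_dotProduct, smul_eq_mul]; ring
  have e3 : (x - y) ⬝ᵥ (B *ᵥ (x - y)) =
      x ⬝ᵥ (B *ᵥ x) + y ⬝ᵥ (B *ᵥ y) - 2 * (x ⬝ᵥ (B *ᵥ y)) := by
    simp only [Matrix.mulVec_sub, dotProduct_sub, sub_dotProduct, hs]; ring
  have e4 : (x + y) ⬝ᵥ (B *ᵥ (x + y)) =
      x ⬝ᵥ (B *ᵥ x) + y ⬝ᵥ (B *ᵥ y) + 2 * (x ⬝ᵥ (B *ᵥ y)) := by
    simp only [Matrix.mulVec_add, dotProduct_add, add_dotProduct, hs]; ring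
  omega

/-- A finite set of vectors which are pairwise equal, opposite or orthogonal, all of nonzero
norm, has at most 48 elements. -/
theorem card_le_48 (B : Matrix (Fin 24) (Fin 24) ℤ)
    (hpos : ∀ x : Fin 24 → ℤ, x ≠ 0 → 0 < x ⬝ᵥ (B *ᵥ x))
    (F : Finset (Fin 24 → ℤ)) (h0 : ∀ y ∈ F, y ≠ 0)
    (hF : ∀ y ∈ F, ∀ y' ∈ F, y' = y ∨ y' = -y ∨ y ⬝ᵥ (B *ᵥ y') = 0) : F.card ≤ 48 := by
  classical
  -- representatives
  have key : ∀ F' : Finset (Fin 24 → ℤ), F' ⊆ F →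
      ∃ R : Finset (Fin 24 → ℤ), R ⊆ F' ∧ (∀ r ∈ R, ∀ r' ∈ R, r ≠ r' → r ⬝ᵥ (B *ᵥ r') = 0) ∧
        F' ⊆ R ∪ R.image (fun r => -r) := by
    intro F'
    induction F' using Finset.induction_on with
    | empty => intro _; exact ⟨∅, by simp, by simp, by simp⟩
    | insert y F' hy ih =>
      intro hsub
      obtain ⟨R, hR1, hR2, hR3⟩ := ih (fun a ha => hsub (Finset.mem_insert_of_mem ha))
      by_cases hneg : -y ∈ R
      · refine ⟨R, fun a ha => Finset.mem_insert_of_mem (hR1 ha), hR2, ?_⟩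
        intro a ha
        rcases Finset.mem_insert.1 ha with rfl | ha
        · apply Finset.mem_union_right
          rw [Finset.mem_image]
          exact ⟨-a, hneg, by simp⟩
        · exact hR3 ha
      · refine ⟨insert y R, Finset.insert_subset_insert y hR1, ?_, ?_⟩
        · have hyF : y ∈ F := hsub (Finset.mem_insert_self _ _)
          have hortho : ∀ r ∈ R, y ⬝ᵥ (B *ᵥ r) = 0 ∧ r ⬝ᵥ (B *ᵥ y) = 0 := by
            intro r hr
            have hrF : r ∈ F := hsub (Finset.mem_insert_of_mem (hR1 hr))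
            have hry : r ≠ y := fun h => hy (h ▸ hR1 hr)
            have hry' : r ≠ -y := fun h => hneg (h ▸ hr)
            constructor
            · rcases hF y hyF r hrF with h | h | h
              · exact (hry h).elim
              · exact (hry' h).elim
              · exact h
            · rcases hF r hrF y hyF with h | h | h
              · exact (hry h.symm).elim
              · exact (hry' (by rw [h]; simp)).elim
              · exact h
          intro r hr r' hr' hrr'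
          rcases Finset.mem_insert.1 hr with h1 | h1
          · rcases Finset.mem_insert.1 hr' with h2 | h2
            · exact (hrr' (h1.trans h2.symm)).elim
            · rw [h1]; exact (hortho r' h2).1
          · rcases Finset.mem_insert.1 hr' with h2 | h2
            · rw [h2]; exact (hortho r h1).2
            · exact hR2 r h1 r' h2 hrr'
        · intro a ha
          rcases Finset.mem_insert.1 ha with rfl | ha
          · exact Finset.mem_union_left _ (Finset.mem_insert_self _ _)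
          · rcases Finset.mem_union.1 (hR3 ha) with h | h
            · exact Finset.mem_union_left _ (Finset.mem_insert_of_mem h)
            · apply Finset.mem_union_right
              rw [Finset.mem_image] at h ⊢
              obtain ⟨r, hr, hra⟩ := h
              exact ⟨r, Finset.mem_insert_of_mem hr, hra⟩
  obtain ⟨R, hR1, hR2, hR3⟩ := key F (Finset.Subset.refl _)
  -- linear independence
  have hli : LinearIndependent ℤ (fun x : R => (x : Fin 24 → ℤ)) := by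
    rw [linearIndependent_iff']
    intro s w hs i hi
    have h1 : (∑ j ∈ s, w j • (j : Fin 24 → ℤ)) ⬝ᵥ (B *ᵥ (i : Fin 24 → ℤ)) = 0 := by
      rw [hs]; simp
    rw [sum_dotProduct] at h1
    have h2 : ∑ j ∈ s, (w j • (j : Fin 24 → ℤ)) ⬝ᵥ (B *ᵥ (i : Fin 24 → ℤ)) =
        w i * ((i : Fin 24 → ℤ) ⬝ᵥ (B *ᵥ (i : Fin 24 → ℤ))) := by
      rw [Finset.sum_eq_single_of_mem i hi]
      · rw [smul_dotProduct, smul_eq_mul]
      · intro j _ hji
        rw [smul_dotProduct, hR2 j j.2 i i.2 (fun h => hji (Subtype.ext h)), smul_zero]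
    rw [h2] at h1
    have h3 : (i : Fin 24 → ℤ) ⬝ᵥ (B *ᵥ (i : Fin 24 → ℤ)) ≠ 0 :=
      (hpos _ (h0 _ (hR1 i.2))).ne'
    exact (mul_eq_zero.1 h1).resolve_right h3
  have hcardR : R.card ≤ 24 := by
    have := hli.finset_card_le_finrank
    rwa [Module.finrank_fin_fun] at this
  calc F.card ≤ (R ∪ R.image (fun r => -r)).card := Finset.card_le_card hR3
    _ ≤ R.card + (R.image (fun r => -r)).card := Finset.card_union_le _ _
    _ ≤ R.card + R.card := Nat.add_le_add_left Finset.card_image_le _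
    _ ≤ 48 := by omega

/-- reduction modulo 2 -/
def red (x : Fin 24 → ℤ) : Fin 24 → ZMod 2 := fun i => (x i : ZMod 2)

theorem red_eq_iff (x y : Fin 24 → ℤ) : red x = red y ↔ ∀ i, (2 : ℤ) ∣ (x - y) i := by
  constructor
  · intro h i
    have := congrFun h i
    unfold red at this
    rw [ZMod.intCast_eq_intCast_iff_dvd_sub] at this
    have h2 : (x - y) i = -(y i - x i) := by simp
    rw [h2]
    exact (dvd_neg).2 (by exact_mod_cast this)
  · intro h
    funext i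
    unfold red
    rw [ZMod.intCast_eq_intCast_iff_dvd_sub]
    have h2 : y i - x i = -((x - y) i) := by simp
    rw [h2]
    exact_mod_cast (dvd_neg).2 (h i)

theorem norm_neg (B : Matrix (Fin 24) (Fin 24) ℤ) (x : Fin 24 → ℤ) :
    (-x) ⬝ᵥ (B *ᵥ (-x)) = x ⬝ᵥ (B *ᵥ x) := by
  simp [Matrix.mulVec_neg]

/-- Second step of the characterisation: under the vector counts of the rank-24 lattice, the norm-8 vectors fall into congruence classes of exactly 48 modulo twice the lattice. -/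
theorem result (B : Matrix (Fin 24) (Fin 24) ℤ) (hsymm : B.IsSymm) (hpos : ∀ x : Fin 24 → ℤ, x ≠ 0 → 0 < x ⬝ᵥ (B *ᵥ x)) (heven : ∀ x : Fin 24 → ℤ, (2 : ℤ) ∣ x ⬝ᵥ (B *ᵥ x)) (h2 : ∀ x : Fin 24 → ℤ, x ⬝ᵥ (B *ᵥ x) ≠ 2) (h4 : {x : Fin 24 → ℤ | x ⬝ᵥ (B *ᵥ x) = 4}.ncard = 196560) (h6 : {x : Fin 24 → ℤ | x ⬝ᵥ (B *ᵥ x) = 6}.ncard = 16773120) (h8 : {x : Fin 24 → ℤ | x ⬝ᵥ (B *ᵥ x) = 8}.ncard = 398034000) (x : Fin 24 → ℤ) (hx : x ⬝ᵥ (B *ᵥ x) = 8) : {y : Fin 24 → ℤ | y ⬝ᵥ (B *ᵥ y) = 8 ∧ ∀ i, (2 : ℤ) ∣ (x - y) i}.ncard = 48 := by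
  classical
  have fin4 : {x : Fin 24 → ℤ | x ⬝ᵥ (B *ᵥ x) = 4}.Finite :=
    Set.finite_of_ncard_ne_zero (by rw [h4]; norm_num)
  have fin6 : {x : Fin 24 → ℤ | x ⬝ᵥ (B *ᵥ x) = 6}.Finite :=
    Set.finite_of_ncard_ne_zero (by rw [h6]; norm_num)
  have fin8 : {x : Fin 24 → ℤ | x ⬝ᵥ (B *ᵥ x) = 8}.Finite :=
    Set.finite_of_ncard_ne_zero (by rw [h8]; norm_num)
  set S4 := fin4.toFinset with hS4
  set S6 := fin6.toFinset with hS6
  set S8 := fin8.toFinset with hS8
  have c4 : S4.card = 196560 := by rw [← h4, Set.ncard_eq_toFinset_card _ fin4]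
  have c6 : S6.card = 16773120 := by rw [← h6, Set.ncard_eq_toFinset_card _ fin6]
  have c8 : S8.card = 398034000 := by rw [← h8, Set.ncard_eq_toFinset_card _ fin8]
  have m4 : ∀ y, y ∈ S4 ↔ y ⬝ᵥ (B *ᵥ y) = 4 := fun y => by simp [hS4]
  have m6 : ∀ y, y ∈ S6 ↔ y ⬝ᵥ (B *ᵥ y) = 6 := fun y => by simp [hS6]
  have m8 : ∀ y, y ∈ S8 ↔ y ⬝ᵥ (B *ᵥ y) = 8 := fun y => by simp [hS8]
  have q0 : (0 : Fin 24 → ℤ) ⬝ᵥ (B *ᵥ 0) = 0 := by simp
  set T := ((S8 ∪ S6) ∪ S4) ∪ {0} with hT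
  have mT : ∀ y, y ∈ T ↔ (y ⬝ᵥ (B *ᵥ y) = 8 ∨ y ⬝ᵥ (B *ᵥ y) = 6 ∨ y ⬝ᵥ (B *ᵥ y) = 4 ∨ y = 0) := by
    intro y
    simp only [hT, Finset.mem_union, m4, m6, m8, Finset.mem_singleton]
    tauto
  have shortT : ∀ y ∈ T, y ⬝ᵥ (B *ᵥ y) ≤ 8 := by
    intro y hy
    rcases (mT y).1 hy with h | h | h | h
    · omega
    · omega
    · omega
    · rw [h, q0]; norm_num
  -- the weight
  set w : (Fin 24 → ℤ) → ℕ := fun y => if y = 0 then 48 else
    if y ⬝ᵥ (B *ᵥ y) = 8 then 1 else 24 with hw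
  have w8 : ∀ y, y ⬝ᵥ (B *ᵥ y) = 8 → w y = 1 := by
    intro y hy
    have : y ≠ 0 := by
      rintro rfl
      rw [q0] at hy; omega
    simp only [hw, if_neg this, if_pos hy]
  have w6 : ∀ y, y ⬝ᵥ (B *ᵥ y) = 6 → w y = 24 := by
    intro y hy
    have : y ≠ 0 := by
      rintro rfl
      rw [q0] at hy; omega
    have h' : ¬ y ⬝ᵥ (B *ᵥ y) = 8 := by omega
    simp only [hw, if_neg this, if_neg h']
  have w4 : ∀ y, y ⬝ᵥ (B *ᵥ y) = 4 → w y = 24 := by
    intro y hy
    have : y ≠ 0 := by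
      rintro rfl
      rw [q0] at hy; omega
    have h' : ¬ y ⬝ᵥ (B *ᵥ y) = 8 := by omega
    simp only [hw, if_neg this, if_neg h']
  have w0 : w 0 = 48 := by simp [hw]
  -- total weight
  have total : ∑ y ∈ T, w y = 48 * 2 ^ 24 := by
    have d1 : Disjoint S8 S6 := by
      rw [Finset.disjoint_left]; intro y h h'
      rw [m8] at h; rw [m6] at h'; omega
    have d2 : Disjoint (S8 ∪ S6) S4 := by
      rw [Finset.disjoint_left]; intro y h h'
      rw [Finset.mem_union, m8, m6] at h; rw [m4] at h'; omega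
    have d3 : Disjoint ((S8 ∪ S6) ∪ S4) {0} := by
      rw [Finset.disjoint_left]; intro y h h'
      rw [Finset.mem_union, Finset.mem_union, m8, m6, m4] at h
      rw [Finset.mem_singleton] at h'
      rw [h', q0] at h; omega
    rw [hT, Finset.sum_union d3, Finset.sum_union d2, Finset.sum_union d1]
    rw [Finset.sum_congr rfl (fun y hy => w8 y ((m8 y).1 hy)),
      Finset.sum_congr rfl (fun y hy => w6 y ((m6 y).1 hy)),
      Finset.sum_congr rfl (fun y hy => w4 y ((m4 y).1 hy))]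
    simp only [Finset.sum_const, Finset.sum_singleton, c4, c6, c8, w0, smul_eq_mul]
    norm_num
  -- per class bound
  have hpair : ∀ y ∈ T, ∀ y' ∈ T, red y = red y' →
      y' = y ∨ y' = -y ∨ (y ⬝ᵥ (B *ᵥ y) = 8 ∧ y' ⬝ᵥ (B *ᵥ y') = 8 ∧ y ⬝ᵥ (B *ᵥ y') = 0) := by
    intro y hy y' hy' hred
    exact short_congr B hsymm hpos heven h2 y y' (shortT y hy) (shortT y' hy')
      ((red_eq_iff y y').1 hred)
  have class8 : ∀ x₀ ∈ T, x₀ ⬝ᵥ (B *ᵥ x₀) = 8 → ∀ y ∈ T, red y = red x₀ →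
      y ⬝ᵥ (B *ᵥ y) = 8 := by
    intro x₀ hx₀ hq y hy hred
    rcases hpair x₀ hx₀ y hy hred.symm with h | h | h
    · rw [h]; exact hq
    · rw [h, norm_neg]; exact hq
    · exact h.2.1
  have class8card : ∀ x₀ ∈ T, x₀ ⬝ᵥ (B *ᵥ x₀) = 8 →
      (T.filter (fun y => red y = red x₀)).card ≤ 48 := by
    intro x₀ hx₀ hq
    apply card_le_48 B hpos
    · intro y hy
      rw [Finset.mem_filter] at hy
      have := class8 x₀ hx₀ hq y hy.1 hy.2
      rintro rfl
      rw [q0] at this; omega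
    · intro y hy y' hy'
      rw [Finset.mem_filter] at hy hy'
      rcases hpair y hy.1 y' hy'.1 (hy.2.trans hy'.2.symm) with h | h | h
      · exact Or.inl h
      · exact Or.inr (Or.inl h)
      · exact Or.inr (Or.inr h.2.2)
  have class8sum : ∀ x₀ ∈ T, x₀ ⬝ᵥ (B *ᵥ x₀) = 8 →
      ∑ y ∈ T.filter (fun y => red y = red x₀), w y =
        (T.filter (fun y => red y = red x₀)).card := by
    intro x₀ hx₀ hq
    rw [Finset.card_eq_sum_ones]
    apply Finset.sum_congr rfl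
    intro y hy
    rw [Finset.mem_filter] at hy
    exact w8 y (class8 x₀ hx₀ hq y hy.1 hy.2)
  have hclass : ∀ f ∈ T.image red, ∑ y ∈ T.filter (fun y => red y = f), w y ≤ 48 := by
    intro f hf
    rw [Finset.mem_image] at hf
    obtain ⟨x₀, hx₀, rfl⟩ := hf
    by_cases hq : x₀ ⬝ᵥ (B *ᵥ x₀) = 8
    · rw [class8sum x₀ hx₀ hq]
      exact class8card x₀ hx₀ hq
    · have hsub : T.filter (fun y => red y = red x₀) ⊆ {x₀, -x₀} := by
        intro y hy
        rw [Finset.mem_filter] at hy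
        rw [Finset.mem_insert, Finset.mem_singleton]
        rcases hpair x₀ hx₀ y hy.1 hy.2.symm with h | h | h
        · exact Or.inl h
        · exact Or.inr h
        · exact (hq h.1).elim
      refine (Finset.sum_le_sum_of_subset hsub).trans ?_
      by_cases h0 : x₀ = 0
      · rw [h0]
        simp [w0]
      · have hne : x₀ ≠ -x₀ := by
          intro h
          apply h0
          funext i
          have := congrFun h i
          simp only [Pi.neg_apply, Pi.zero_apply] at this ⊢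
          omega
        rw [Finset.sum_pair hne]
        have hw1 : w x₀ = 24 := by
          rcases (mT x₀).1 hx₀ with h | h | h | h
          · exact (hq h).elim
          · exact w6 _ h
          · exact w4 _ h
          · exact (h0 h).elim
        have hw2 : w (-x₀) = 24 := by
          rcases (mT x₀).1 hx₀ with h | h | h | h
          · exact (hq h).elim
          · exact w6 _ (by rw [norm_neg]; exact h)
          · exact w4 _ (by rw [norm_neg]; exact h)
          · exact (h0 h).elim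
        rw [hw1, hw2]
  -- counting
  have hfib := Finset.sum_fiberwise_of_maps_to (s := T) (t := T.image red) (g := red)
    (fun y hy => Finset.mem_image_of_mem red hy) w
  have hcardimg : (T.image red).card ≤ 2 ^ 24 := by
    have := Finset.card_le_univ (T.image red)
    simpa using this
  have hsum48 : ∑ f ∈ T.image red, ∑ y ∈ T.filter (fun y => red y = f), w y =
      ∑ _f ∈ T.image red, 48 := by
    apply le_antisymm (Finset.sum_le_sum hclass)
    rw [hfib, total, Finset.sum_const, smul_eq_mul, mul_comm]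
    exact Nat.mul_le_mul_left 48 hcardimg
  have heach := (Finset.sum_eq_sum_iff_of_le hclass).1 hsum48
  -- conclusion
  have hxT : x ∈ T := (mT x).2 (Or.inl hx)
  have h48 := heach (red x) (Finset.mem_image_of_mem red hxT)
  rw [class8sum x hxT hx] at h48
  rw [← h48, ← Set.ncard_coe_finset]
  congr 1
  ext y
  simp only [Set.mem_ofPred_eq, Finset.coe_filter]
  constructor
  · rintro ⟨hy, hdiv⟩
    refine ⟨(mT y).2 (Or.inl hy), ?_⟩
    exact ((red_eq_iff x y).2 hdiv).symm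
  · rintro ⟨hyT, hred⟩
    exact ⟨class8 x hxT hx y hyT hred, (red_eq_iff x y).1 hred.symm⟩

end Cfsg.Agent.S1588
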