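import Cfsg.Statements.S1589
import Cfsg.Agent.Lib.Helper93_S1589e

set_option autoImplicit false
open scoped Pointwise
open Cfsg

namespace Cfsg.Agent.S1589

/-- Subgroups of the group of the length-24 code of index 759, 276 and 1771 are exactly the octad, duad and sextet stabilisers, and no subgroup has index 253. -/
theorem result : (∀ H : Subgroup ↥Cfsg.M24, H.index = 759 → ∃ o ∈ Cfsg.octads, H = MulAction.stabilizer Cfsg.M24 o) ∧ (∀ H : Subgroup ↥Cfsg.M24, H.index = 276 → ∃ s : Finset Cfsg.GolayPt, s.card = 2 ∧ H = MulAction.stabilizer Cfsg.M24 s) ∧ (∀ H : Subgroup ↥Cfsg.M24, H.index = 1771 → ∃ S ∈ Cfsg.sextets, H = MulAction.stabilizer Cfsg.M24 S) ∧ ∀ H : Subgroup ↥Cfsg.M24, H.index ≠ 253 := by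
  classical
  have hM : Nat.card ↥M24 = 244823040 := Cfsg.Agent.S0364.result
  -- the image of a subgroup in the permutation group
  have key : ∀ H : Subgroup ↥Cfsg.M24, ∃ K : Subgroup (Equiv.Perm GolayPt), K ≤ M24 ∧
      Nat.card ↥K = Nat.card ↥H ∧ ∀ h : ↥M24, h ∈ H → (h : Equiv.Perm GolayPt) ∈ K := by
    intro H
    refine ⟨H.map M24.subtype, ?_, Subgroup.card_map_of_injective M24.subtype_injective, ?_⟩
    · rintro _ ⟨y, _, rfl⟩
      exact y.2
    · intro h hh
      exact ⟨h, hh, rfl⟩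
  refine ⟨?_, ?_, ?_, ?_⟩
  · intro H hH
    obtain ⟨K, hKM, hKc, hKH⟩ := key H
    have hHc : Nat.card ↥H = 322560 := by
      have h1 := Subgroup.card_mul_index H
      rw [hH, hM] at h1
      omega
    rw [hHc] at hKc
    obtain ⟨o, ho, hKo⟩ := Cfsg.Agent.Lib.Helper93_S1589.perm_759 K hKM hKc
    refine ⟨o, ho, ?_⟩
    have hle : H ≤ MulAction.stabilizer Cfsg.M24 o := by
      intro h hh
      exact MulAction.mem_stabilizer_iff.mpr (hKo _ (hKH h hh))
    exact Subgroup.eq_of_le_of_card_ge hle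
      (by rw [hHc, Cfsg.Agent.Lib.Helper26_Golay.card_stabilizer_octad ho])
  · intro H hH
    obtain ⟨K, hKM, hKc, hKH⟩ := key H
    have hHc : Nat.card ↥H = 887040 := by
      have h1 := Subgroup.card_mul_index H
      rw [hH, hM] at h1
      omega
    rw [hHc] at hKc
    obtain ⟨s, hs, hKs⟩ := Cfsg.Agent.Lib.Helper93_S1589.pres_of_card_887040 K hKM hKc
    refine ⟨s, hs, ?_⟩
    have hle : H ≤ MulAction.stabilizer Cfsg.M24 s := by
      intro h hh
      exact MulAction.mem_stabilizer_iff.mpr (hKs _ (hKH h hh))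
    apply Subgroup.eq_of_le_of_card_ge hle
    rw [hHc]
    obtain ⟨L, hLM, hLc, hLH⟩ := key (MulAction.stabilizer Cfsg.M24 s)
    rw [← hLc]
    -- the image of the stabiliser stabilises the pair
    have hLs : ∀ k ∈ (MulAction.stabilizer Cfsg.M24 s).map M24.subtype, k • s = s := by
      rintro _ ⟨y, hy, rfl⟩
      exact MulAction.mem_stabilizer_iff.mp hy
    have := Cfsg.Agent.Lib.Helper93_S1589.card_le_of_pair
      ((MulAction.stabilizer Cfsg.M24 s).map M24.subtype)
      (by rintro _ ⟨y, _, rfl⟩; exact y.2) s hs hLs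
    rw [Subgroup.card_map_of_injective M24.subtype_injective] at this
    rw [hLc]
    exact this
  · intro H hH
    obtain ⟨K, hKM, hKc, hKH⟩ := key H
    have hHc : Nat.card ↥H = 138240 := by
      have h1 := Subgroup.card_mul_index H
      rw [hH, hM] at h1
      omega
    rw [hHc] at hKc
    obtain ⟨S, hS, hKS⟩ := Cfsg.Agent.Lib.Helper93_S1589.perm_1771 K hKM hKc
    refine ⟨S, hS, ?_⟩
    have hle : H ≤ MulAction.stabilizer Cfsg.M24 S := by
      intro h hh
      exact MulAction.mem_stabilizer_iff.mpr (hKS _ (hKH h hh))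
    exact Subgroup.eq_of_le_of_card_ge hle
      (by rw [hHc, Cfsg.Agent.Lib.Helper26_Golay.card_stabilizer_sextet hS])
  · intro H hH
    obtain ⟨K, hKM, hKc, hKH⟩ := key H
    have hHc : Nat.card ↥H = 967680 := by
      have h1 := Subgroup.card_mul_index H
      rw [hH, hM] at h1
      omega
    rw [hHc] at hKc
    exact Cfsg.Agent.Lib.Helper93_S1589.perm_253 K hKM hKc

end Cfsg.Agent.S1589
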