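import Cfsg.Statements.S1593
import Cfsg.Agent.Lib.Helper27_TernaryGolay

set_option autoImplicit false
open Cfsg

namespace Cfsg.Agent.S1593

open Cfsg.Agent.Lib.Helper27_TernaryGolay

theorem unit_cases : ∀ u : (ZMod 3)ˣ, u = 1 ∨ u = -1 := by decide

theorem all_eq (c : Cfsg.ArrayPt → (ZMod 3)ˣ) (h : (∀ x ∈ Cfsg.ternaryGolayCode, Cfsg.monomialMap 1 c x ∈ Cfsg.ternaryGolayCode)) : ∀ p, c p = c (0, 0) := by
  have key : ∀ j k : Fin 6, (monomialMap 1 c (gen j)) ⬝ᵥ gen k = 0 := fun j k =>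
    dot_eq_zero (h _ (gen_mem j)) (gen_mem k)
  have h3 : (3 : ZMod 3) = 0 := by decide
  have E00 : (c (0, 0) : ZMod 3) * 1 * 1 + (c (0, 1) : ZMod 3) * 0 * 0 + (c (0, 2) : ZMod 3) * 0 * 0 + ((c (1, 0) : ZMod 3) * 0 * 0 + (c (1, 1) : ZMod 3) * 0 * 0 + (c (1, 2) : ZMod 3) * 1 * 1) + ((c (2, 0) : ZMod 3) * 0 * 0 + (c (2, 1) : ZMod 3) * 0 * 0 + (c (2, 2) : ZMod 3) * 1 * 1) + ((c (3, 0) : ZMod 3) * 1 * 1 + (c (3, 1) : ZMod 3) * 1 * 1 + (c (3, 2) : ZMod 3) * 2 * 2) = 0 := by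
    have := key 0 0
    rw [dotProduct, sum12] at this
    exact this
  have E01 : (c (0, 0) : ZMod 3) * 1 * 0 + (c (0, 1) : ZMod 3) * 0 * 1 + (c (0, 2) : ZMod 3) * 0 * 0 + ((c (1, 0) : ZMod 3) * 0 * 0 + (c (1, 1) : ZMod 3) * 0 * 0 + (c (1, 2) : ZMod 3) * 1 * 1) + ((c (2, 0) : ZMod 3) * 0 * 0 + (c (2, 1) : ZMod 3) * 0 * 2 + (c (2, 2) : ZMod 3) * 1 * 2) + ((c (3, 0) : ZMod 3) * 1 * 2 + (c (3, 1) : ZMod 3) * 1 * 0 + (c (3, 2) : ZMod 3) * 2 * 2) = 0 := by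
    have := key 0 1
    rw [dotProduct, sum12] at this
    exact this
  have E02 : (c (0, 0) : ZMod 3) * 1 * 0 + (c (0, 1) : ZMod 3) * 0 * 0 + (c (0, 2) : ZMod 3) * 0 * 1 + ((c (1, 0) : ZMod 3) * 0 * 0 + (c (1, 1) : ZMod 3) * 0 * 0 + (c (1, 2) : ZMod 3) * 1 * 1) + ((c (2, 0) : ZMod 3) * 0 * 0 + (c (2, 1) : ZMod 3) * 0 * 1 + (c (2, 2) : ZMod 3) * 1 * 0) + ((c (3, 0) : ZMod 3) * 1 * 2 + (c (3, 1) : ZMod 3) * 1 * 1 + (c (3, 2) : ZMod 3) * 2 * 1) = 0 := by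
    have := key 0 2
    rw [dotProduct, sum12] at this
    exact this
  have E03 : (c (0, 0) : ZMod 3) * 1 * 0 + (c (0, 1) : ZMod 3) * 0 * 0 + (c (0, 2) : ZMod 3) * 0 * 0 + ((c (1, 0) : ZMod 3) * 0 * 1 + (c (1, 1) : ZMod 3) * 0 * 0 + (c (1, 2) : ZMod 3) * 1 * 2) + ((c (2, 0) : ZMod 3) * 0 * 0 + (c (2, 1) : ZMod 3) * 0 * 2 + (c (2, 2) : ZMod 3) * 1 * 1) + ((c (3, 0) : ZMod 3) * 1 * 2 + (c (3, 1) : ZMod 3) * 1 * 1 + (c (3, 2) : ZMod 3) * 2 * 0) = 0 := by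
    have := key 0 3
    rw [dotProduct, sum12] at this
    exact this
  have E04 : (c (0, 0) : ZMod 3) * 1 * 0 + (c (0, 1) : ZMod 3) * 0 * 0 + (c (0, 2) : ZMod 3) * 0 * 0 + ((c (1, 0) : ZMod 3) * 0 * 0 + (c (1, 1) : ZMod 3) * 0 * 1 + (c (1, 2) : ZMod 3) * 1 * 2) + ((c (2, 0) : ZMod 3) * 0 * 0 + (c (2, 1) : ZMod 3) * 0 * 1 + (c (2, 2) : ZMod 3) * 1 * 2) + ((c (3, 0) : ZMod 3) * 1 * 0 + (c (3, 1) : ZMod 3) * 1 * 1 + (c (3, 2) : ZMod 3) * 2 * 2) = 0 := by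
    have := key 0 4
    rw [dotProduct, sum12] at this
    exact this
  have E11 : (c (0, 0) : ZMod 3) * 0 * 0 + (c (0, 1) : ZMod 3) * 1 * 1 + (c (0, 2) : ZMod 3) * 0 * 0 + ((c (1, 0) : ZMod 3) * 0 * 0 + (c (1, 1) : ZMod 3) * 0 * 0 + (c (1, 2) : ZMod 3) * 1 * 1) + ((c (2, 0) : ZMod 3) * 0 * 0 + (c (2, 1) : ZMod 3) * 2 * 2 + (c (2, 2) : ZMod 3) * 2 * 2) + ((c (3, 0) : ZMod 3) * 2 * 2 + (c (3, 1) : ZMod 3) * 0 * 0 + (c (3, 2) : ZMod 3) * 2 * 2) = 0 := by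
    have := key 1 1
    rw [dotProduct, sum12] at this
    exact this
  have E12 : (c (0, 0) : ZMod 3) * 0 * 0 + (c (0, 1) : ZMod 3) * 1 * 0 + (c (0, 2) : ZMod 3) * 0 * 1 + ((c (1, 0) : ZMod 3) * 0 * 0 + (c (1, 1) : ZMod 3) * 0 * 0 + (c (1, 2) : ZMod 3) * 1 * 1) + ((c (2, 0) : ZMod 3) * 0 * 0 + (c (2, 1) : ZMod 3) * 2 * 1 + (c (2, 2) : ZMod 3) * 2 * 0) + ((c (3, 0) : ZMod 3) * 2 * 2 + (c (3, 1) : ZMod 3) * 0 * 1 + (c (3, 2) : ZMod 3) * 2 * 1) = 0 := by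
    have := key 1 2
    rw [dotProduct, sum12] at this
    exact this
  have E22 : (c (0, 0) : ZMod 3) * 0 * 0 + (c (0, 1) : ZMod 3) * 0 * 0 + (c (0, 2) : ZMod 3) * 1 * 1 + ((c (1, 0) : ZMod 3) * 0 * 0 + (c (1, 1) : ZMod 3) * 0 * 0 + (c (1, 2) : ZMod 3) * 1 * 1) + ((c (2, 0) : ZMod 3) * 0 * 0 + (c (2, 1) : ZMod 3) * 1 * 1 + (c (2, 2) : ZMod 3) * 0 * 0) + ((c (3, 0) : ZMod 3) * 2 * 2 + (c (3, 1) : ZMod 3) * 1 * 1 + (c (3, 2) : ZMod 3) * 1 * 1) = 0 := by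
    have := key 2 2
    rw [dotProduct, sum12] at this
    exact this
  have E33 : (c (0, 0) : ZMod 3) * 0 * 0 + (c (0, 1) : ZMod 3) * 0 * 0 + (c (0, 2) : ZMod 3) * 0 * 0 + ((c (1, 0) : ZMod 3) * 1 * 1 + (c (1, 1) : ZMod 3) * 0 * 0 + (c (1, 2) : ZMod 3) * 2 * 2) + ((c (2, 0) : ZMod 3) * 0 * 0 + (c (2, 1) : ZMod 3) * 2 * 2 + (c (2, 2) : ZMod 3) * 1 * 1) + ((c (3, 0) : ZMod 3) * 2 * 2 + (c (3, 1) : ZMod 3) * 1 * 1 + (c (3, 2) : ZMod 3) * 0 * 0) = 0 := by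
    have := key 3 3
    rw [dotProduct, sum12] at this
    exact this
  have E44 : (c (0, 0) : ZMod 3) * 0 * 0 + (c (0, 1) : ZMod 3) * 0 * 0 + (c (0, 2) : ZMod 3) * 0 * 0 + ((c (1, 0) : ZMod 3) * 0 * 0 + (c (1, 1) : ZMod 3) * 1 * 1 + (c (1, 2) : ZMod 3) * 2 * 2) + ((c (2, 0) : ZMod 3) * 0 * 0 + (c (2, 1) : ZMod 3) * 1 * 1 + (c (2, 2) : ZMod 3) * 2 * 2) + ((c (3, 0) : ZMod 3) * 0 * 0 + (c (3, 1) : ZMod 3) * 1 * 1 + (c (3, 2) : ZMod 3) * 2 * 2) = 0 := by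
    have := key 4 4
    rw [dotProduct, sum12] at this
    exact this
  have E55 : (c (0, 0) : ZMod 3) * 0 * 0 + (c (0, 1) : ZMod 3) * 0 * 0 + (c (0, 2) : ZMod 3) * 0 * 0 + ((c (1, 0) : ZMod 3) * 0 * 0 + (c (1, 1) : ZMod 3) * 0 * 0 + (c (1, 2) : ZMod 3) * 0 * 0) + ((c (2, 0) : ZMod 3) * 1 * 1 + (c (2, 1) : ZMod 3) * 1 * 1 + (c (2, 2) : ZMod 3) * 1 * 1) + ((c (3, 0) : ZMod 3) * 2 * 2 + (c (3, 1) : ZMod 3) * 2 * 2 + (c (3, 2) : ZMod 3) * 2 * 2) = 0 := by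
    have := key 5 5
    rw [dotProduct, sum12] at this
    exact this
  have D1 : (c (0, 1) : ZMod 3) = (c (0, 0) : ZMod 3) := by linear_combination (-1) * E00 + (1) * E01 + (1) * E02 + (-1) * E03 + (1) * E04 + (1) * E11 + (1) * E12 + ((-1) * (c (1, 2) : ZMod 3) + (-2) * (c (2, 1) : ZMod 3) + (-2) * (c (2, 2) : ZMod 3) + (-3) * (c (3, 0) : ZMod 3) + (-4) * (c (3, 2) : ZMod 3)) * h3
  have D2 : (c (0, 2) : ZMod 3) = (c (0, 0) : ZMod 3) := by linear_combination (-1) * E00 + (1) * E02 + (-1) * E04 + (1) * E12 + (1) * E22 + ((-1) * (c (2, 1) : ZMod 3) + (1) * (c (2, 2) : ZMod 3) + (-3) * (c (3, 0) : ZMod 3) + (1) * (c (3, 2) : ZMod 3)) * h3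
  have D3 : (c (1, 0) : ZMod 3) = (c (0, 0) : ZMod 3) := by linear_combination (-1) * E00 + (1) * E01 + (-1) * E02 + (1) * E03 + (1) * E12 + (1) * E33 + ((-2) * (c (1, 2) : ZMod 3) + (-2) * (c (2, 1) : ZMod 3) + (-1) * (c (2, 2) : ZMod 3) + (-3) * (c (3, 0) : ZMod 3)) * h3
  have D4 : (c (1, 1) : ZMod 3) = (c (0, 0) : ZMod 3) := by linear_combination (-1) * E00 + (-1) * E01 + (1) * E03 + (-1) * E04 + (1) * E12 + (1) * E44 + ((-1) * (c (1, 2) : ZMod 3) + (-1) * (c (2, 1) : ZMod 3) + (-1) * (c (3, 0) : ZMod 3) + (2) * (c (3, 2) : ZMod 3)) * h3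
  have D5 : (c (1, 2) : ZMod 3) = (c (0, 0) : ZMod 3) := by linear_combination (-1) * E00 + (-1) * E01 + (-1) * E02 + (1) * E03 + (1) * E04 + ((1) * (c (3, 0) : ZMod 3) + (2) * (c (3, 2) : ZMod 3)) * h3
  have D6 : (c (2, 0) : ZMod 3) = (c (0, 0) : ZMod 3) := by linear_combination (-1) * E00 + (-1) * E01 + (-1) * E02 + (1) * E04 + (1) * E12 + (1) * E55 + ((-1) * (c (2, 1) : ZMod 3) + (-1) * (c (3, 0) : ZMod 3) + (-1) * (c (3, 1) : ZMod 3)) * h3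
  have D7 : (c (2, 1) : ZMod 3) = (c (0, 0) : ZMod 3) := by linear_combination (-1) * E00 + (1) * E03 + (-1) * E12 + ((1) * (c (2, 1) : ZMod 3) + (1) * (c (3, 0) : ZMod 3) + (2) * (c (3, 2) : ZMod 3)) * h3
  have D8 : (c (2, 2) : ZMod 3) = (c (0, 0) : ZMod 3) := by linear_combination (-1) * E00 + (1) * E02 + (1) * E03 + (-1) * E04 + ((1) * (c (2, 2) : ZMod 3) + (-1) * (c (3, 0) : ZMod 3) + (2) * (c (3, 2) : ZMod 3)) * h3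
  have D9 : (c (3, 0) : ZMod 3) = (c (0, 0) : ZMod 3) := by linear_combination (-1) * E00 + (-1) * E01 + (-1) * E03 + (-1) * E04 + ((2) * (c (1, 2) : ZMod 3) + (2) * (c (2, 2) : ZMod 3) + (2) * (c (3, 0) : ZMod 3) + (1) * (c (3, 1) : ZMod 3) + (4) * (c (3, 2) : ZMod 3)) * h3
  have D10 : (c (3, 1) : ZMod 3) = (c (0, 0) : ZMod 3) := by linear_combination (-1) * E00 + (1) * E01 + (1) * E02 + (1) * E04 + ((-1) * (c (1, 2) : ZMod 3) + (-1) * (c (2, 2) : ZMod 3) + (-1) * (c (3, 0) : ZMod 3) + (-2) * (c (3, 2) : ZMod 3)) * h3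
  have D11 : (c (3, 2) : ZMod 3) = (c (0, 0) : ZMod 3) := by linear_combination (-1) * E00 + (1) * E01 + (-1) * E02 + (-1) * E03 + ((1) * (c (1, 2) : ZMod 3) + (1) * (c (3, 0) : ZMod 3) + (1) * (c (3, 1) : ZMod 3) + (1) * (c (3, 2) : ZMod 3)) * h3

  rintro ⟨i, r⟩
  fin_cases i <;> fin_cases r
  · rfl
  · exact Units.ext D1
  · exact Units.ext D2
  · exact Units.ext D3
  · exact Units.ext D4
  · exact Units.ext D5
  · exact Units.ext D6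
  · exact Units.ext D7
  · exact Units.ext D8
  · exact Units.ext D9
  · exact Units.ext D10
  · exact Units.ext D11

/-- The only sign changes preserving the length-12 ternary code are the identity and negation of all coordinates. -/
theorem result (c : Cfsg.ArrayPt → (ZMod 3)ˣ) (h : (∀ x ∈ Cfsg.ternaryGolayCode, Cfsg.monomialMap 1 c x ∈ Cfsg.ternaryGolayCode)) : (∀ p, c p = 1) ∨ (∀ p, c p = -1) := by
  have hall := all_eq c h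
  rcases unit_cases (c (0, 0)) with h0 | h0
  · left; intro p; rw [hall p, h0]
  · right; intro p; rw [hall p, h0]

end Cfsg.Agent.S1593
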