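import Cfsg.Statements.S1594
import Cfsg.Agent.S1593
import Cfsg.Agent.Lib.Helper27_TernaryAut

set_option autoImplicit false
open Cfsg

namespace Cfsg.Agent.S1594

open Cfsg.Agent.Lib.Helper27_TernaryGolay Cfsg.Agent.Lib.Helper27_TernaryHexads
  Cfsg.Agent.Lib.Helper27_TernaryAut

/-- two sign vectors for the same permutation differ by a constant sign -/
theorem fiber (σ : Equiv.Perm ArrayPt) (c c' : ArrayPt → (ZMod 3)ˣ) (h : Pres σ c)
    (h' : Pres σ c') : (∀ p, c' p = c p) ∨ (∀ p, c' p = -c p) := by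
  have hd : ∀ x ∈ ternaryGolayCode,
      monomialMap 1 (fun i => c' i * (c i)⁻¹) x ∈ ternaryGolayCode := by
    intro y hy
    obtain ⟨x, hx, rfl⟩ := pres_surj h y hy
    have : monomialMap 1 (fun i => c' i * (c i)⁻¹) (monomialMap σ c x) = monomialMap σ c' x := by
      funext i
      simp only [monomialMap, Units.val_mul]
      show (c' i : ZMod 3) * (((c i)⁻¹ : (ZMod 3)ˣ) : ZMod 3) * ((c i : ZMod 3) * x (σ.symm i)) = _
      rw [mul_assoc, ← mul_assoc (((c i)⁻¹ : (ZMod 3)ˣ) : ZMod 3), Units.inv_mul, one_mul]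
    rw [this]
    exact h' x hx
  rcases Cfsg.Agent.S1593.result _ hd with h1 | h1
  · left
    intro p
    have := h1 p
    rwa [mul_inv_eq_one] at this
  · right
    intro p
    have := h1 p
    rw [mul_inv_eq_iff_eq_mul] at this
    rw [this, neg_mul, one_mul]

/-- the set of signed permutations preserving the code -/
abbrev MonAut : Type :=
  {f : Equiv.Perm ArrayPt × (ArrayPt → (ZMod 3)ˣ) //
    (∀ x ∈ ternaryGolayCode, monomialMap f.1 f.2 x ∈ ternaryGolayCode)}

/-- permutation part and one sign -/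
def proj (f : MonAut) : Hgrp × (ZMod 3)ˣ := (⟨f.1.1, ⟨f.1.2, f.2⟩⟩, f.1.2 (0, 0))

theorem neg_ne_self : ∀ u : (ZMod 3)ˣ, u ≠ -u := by decide

theorem proj_bijective : Function.Bijective proj := by
  constructor
  · rintro ⟨⟨σ, c⟩, hc⟩ ⟨⟨σ', c'⟩, hc'⟩ hff
    simp only [proj, Prod.mk.injEq] at hff
    obtain ⟨h1, h0⟩ := hff
    have hσ : σ = σ' := congrArg Subtype.val h1
    subst hσ
    have : c' = c := by
      rcases fiber σ c c' hc hc' with h | h
      · exact funext h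
      · exfalso
        have := h (0, 0)
        rw [← h0] at this
        exact neg_ne_self _ this
    subst this
    rfl
  · rintro ⟨⟨σ, c₀, hc₀⟩, u⟩
    refine ⟨⟨(σ, fun i => (u * (c₀ (0, 0))⁻¹) * c₀ i), pres_smul hc₀ _⟩, ?_⟩
    simp only [proj, Prod.mk.injEq, true_and]
    rw [inv_mul_cancel_right]

theorem card_units : Nat.card (ZMod 3)ˣ = 2 := by
  rw [Nat.card_eq_fintype_card]; decide

theorem result : Nat.card {f : Equiv.Perm Cfsg.ArrayPt × (Cfsg.ArrayPt → (ZMod 3)ˣ) // (∀ x ∈ Cfsg.ternaryGolayCode, Cfsg.monomialMap f.1 f.2 x ∈ Cfsg.ternaryGolayCode)} = 190080 ∧ {σ : Equiv.Perm Cfsg.ArrayPt | ∃ c : Cfsg.ArrayPt → (ZMod 3)ˣ, (∀ x ∈ Cfsg.ternaryGolayCode, Cfsg.monomialMap σ c x ∈ Cfsg.ternaryGolayCode)} = (Cfsg.setSystemAut {h : Finset Cfsg.ArrayPt | ∃ x ∈ Cfsg.ternaryGolayCode, Cfsg.ternarySupport x = h ∧ h.card = 6} : Set (Equiv.Perm Cfsg.ArrayPt)) := by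
  constructor
  · rw [Nat.card_congr (Equiv.ofBijective proj proj_bijective), Nat.card_prod, card_Hgrp,
      card_units]
  · exact congrArg (fun K : Subgroup (Equiv.Perm ArrayPt) => (K : Set (Equiv.Perm ArrayPt)))
      Hgrp_eq_Agrp

end Cfsg.Agent.S1594
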