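import Cfsg.Statements.S1595
import Cfsg.Agent.Lib.Helper6_SteinerExact

set_option autoImplicit false
open Cfsg

namespace Cfsg.Agent.S1595

open Cfsg.Agent.Lib.Helper6_Steiner

section
variable {α : Type*} [Fintype α] [DecidableEq α]

theorem lam5 (hα : Fintype.card α = 12) {B : Set (Finset α)} (hB : Cfsg.IsSteinerSystem 5 6 B)
    (J : Finset α) (hJ : J.card = 5) : (blocksThrough B J).card = 1 :=
  card_blocksThrough_eq hB (j := 5) (by norm_num) (by rw [hα]; decide) (by decide) J hJ

theorem lam4 (hα : Fintype.card α = 12) {B : Set (Finset α)} (hB : Cfsg.IsSteinerSystem 5 6 B)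
    (J : Finset α) (hJ : J.card = 4) : (blocksThrough B J).card = 4 :=
  card_blocksThrough_eq hB (j := 4) (by norm_num) (by rw [hα]; decide) (by decide) J hJ

theorem lam3 (hα : Fintype.card α = 12) {B : Set (Finset α)} (hB : Cfsg.IsSteinerSystem 5 6 B)
    (J : Finset α) (hJ : J.card = 3) : (blocksThrough B J).card = 12 :=
  card_blocksThrough_eq hB (j := 3) (by norm_num) (by rw [hα]; decide) (by decide) J hJ

theorem lam2 (hα : Fintype.card α = 12) {B : Set (Finset α)} (hB : Cfsg.IsSteinerSystem 5 6 B)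
    (J : Finset α) (hJ : J.card = 2) : (blocksThrough B J).card = 30 :=
  card_blocksThrough_eq hB (j := 2) (by norm_num) (by rw [hα]; decide) (by decide) J hJ

theorem lam1 (hα : Fintype.card α = 12) {B : Set (Finset α)} (hB : Cfsg.IsSteinerSystem 5 6 B)
    (J : Finset α) (hJ : J.card = 1) : (blocksThrough B J).card = 66 :=
  card_blocksThrough_eq hB (j := 1) (by norm_num) (by rw [hα]; decide) (by decide) J hJ

variable (hα : Fintype.card α = 12) {B : Set (Finset α)} (hB : Cfsg.IsSteinerSystem 5 6 B)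
  {b : Finset α} (hb : b ∈ B)
include hα hB hb

omit hα in
theorem ex6 (u : Finset α) (hu : u ⊆ b) (hc : u.card = 6) : (exactBlocks B b u).card = 1 := by
  have : u = b := Finset.eq_of_subset_of_card_le hu (by rw [hB.1 b hb, hc])
  rw [this]
  exact card_exactBlocks_self hB hb

theorem ex5 (s : Finset α) (hs : s ⊆ b) (hc : s.card = 5) : (exactBlocks B b s).card = 0 := by
  have h := card_blocksThrough_eq_sum_range B hs
  have e := layer_eq B hs
  have c6 := layer_const B hs (j := 6) (by omega) (ex6 hB hb)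
  rw [hB.1 b hb, hc] at c6
  rw [hc] at e
  rw [hB.1 b hb, lam5 hα hB s hc] at h
  simp only [Finset.sum_range_succ, Finset.sum_range_zero] at h
  rw [layer_lt B (j := 0) (by omega), layer_lt B (j := 1) (by omega), layer_lt B (j := 2) (by omega),
    layer_lt B (j := 3) (by omega), layer_lt B (j := 4) (by omega), e, c6] at h
  norm_num [Nat.choose] at h
  exact Finset.card_eq_zero.2 h

theorem ex4 (s : Finset α) (hs : s ⊆ b) (hc : s.card = 4) : (exactBlocks B b s).card = 3 := by
  have h := card_blocksThrough_eq_sum_range B hs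
  have e := layer_eq B hs
  have c6 := layer_const B hs (j := 6) (by omega) (ex6 hB hb)
  have c5 := layer_const B hs (j := 5) (by omega) (ex5 hα hB hb)
  rw [hB.1 b hb, hc] at c6 c5
  rw [hc] at e
  rw [hB.1 b hb, lam4 hα hB s hc] at h
  simp only [Finset.sum_range_succ, Finset.sum_range_zero] at h
  rw [layer_lt B (j := 0) (by omega), layer_lt B (j := 1) (by omega), layer_lt B (j := 2) (by omega),
    layer_lt B (j := 3) (by omega), e, c5, c6] at h
  norm_num [Nat.choose] at h
  omega

theorem ex3 (s : Finset α) (hs : s ⊆ b) (hc : s.card = 3) : (exactBlocks B b s).card = 2 := by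
  have h := card_blocksThrough_eq_sum_range B hs
  have e := layer_eq B hs
  have c6 := layer_const B hs (j := 6) (by omega) (ex6 hB hb)
  have c5 := layer_const B hs (j := 5) (by omega) (ex5 hα hB hb)
  have c4 := layer_const B hs (j := 4) (by omega) (ex4 hα hB hb)
  rw [hB.1 b hb, hc] at c6 c5 c4
  rw [hc] at e
  rw [hB.1 b hb, lam3 hα hB s hc] at h
  simp only [Finset.sum_range_succ, Finset.sum_range_zero] at h
  rw [layer_lt B (j := 0) (by omega), layer_lt B (j := 1) (by omega), layer_lt B (j := 2) (by omega),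
    e, c4, c5, c6] at h
  norm_num [Nat.choose] at h
  omega

theorem ex2 (s : Finset α) (hs : s ⊆ b) (hc : s.card = 2) : (exactBlocks B b s).card = 3 := by
  have h := card_blocksThrough_eq_sum_range B hs
  have e := layer_eq B hs
  have c6 := layer_const B hs (j := 6) (by omega) (ex6 hB hb)
  have c5 := layer_const B hs (j := 5) (by omega) (ex5 hα hB hb)
  have c4 := layer_const B hs (j := 4) (by omega) (ex4 hα hB hb)
  have c3 := layer_const B hs (j := 3) (by omega) (ex3 hα hB hb)
  rw [hB.1 b hb, hc] at c6 c5 c4 c3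
  rw [hc] at e
  rw [hB.1 b hb, lam2 hα hB s hc] at h
  simp only [Finset.sum_range_succ, Finset.sum_range_zero] at h
  rw [layer_lt B (j := 0) (by omega), layer_lt B (j := 1) (by omega),
    e, c3, c4, c5, c6] at h
  norm_num [Nat.choose] at h
  omega

theorem ex1 (s : Finset α) (hs : s ⊆ b) (hc : s.card = 1) : (exactBlocks B b s).card = 0 := by
  have h := card_blocksThrough_eq_sum_range B hs
  have e := layer_eq B hs
  have c6 := layer_const B hs (j := 6) (by omega) (ex6 hB hb)
  have c5 := layer_const B hs (j := 5) (by omega) (ex5 hα hB hb)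
  have c4 := layer_const B hs (j := 4) (by omega) (ex4 hα hB hb)
  have c3 := layer_const B hs (j := 3) (by omega) (ex3 hα hB hb)
  have c2 := layer_const B hs (j := 2) (by omega) (ex2 hα hB hb)
  rw [hB.1 b hb, hc] at c6 c5 c4 c3 c2
  rw [hc] at e
  rw [hB.1 b hb, lam1 hα hB s hc] at h
  simp only [Finset.sum_range_succ, Finset.sum_range_zero] at h
  rw [layer_lt B (j := 0) (by omega), e, c2, c3, c4, c5, c6] at h
  norm_num [Nat.choose] at h
  exact Finset.card_eq_zero.2 h

end

/-- Leech triangle of S(5, 6, 12): blocks meet in 0, 2, 3 or 4 points, and a block is met exactly in a given 2-, 3- or 4-subset by 3, 2, 3 blocks respectively. -/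
theorem result {α : Type*} [Fintype α] [DecidableEq α] (hα : Fintype.card α = 12) {B : Set (Finset α)} (hB : Cfsg.IsSteinerSystem 5 6 B) (b : Finset α) (hb : b ∈ B) : (∀ c ∈ B, c ≠ b → (b ∩ c).card = 0 ∨ (b ∩ c).card = 2 ∨ (b ∩ c).card = 3 ∨ (b ∩ c).card = 4) ∧ ∀ s ⊆ b, (s.card = 2 → {c : Finset α | c ∈ B ∧ b ∩ c = s}.ncard = 3) ∧ (s.card = 3 → {c : Finset α | c ∈ B ∧ b ∩ c = s}.ncard = 2) ∧ (s.card = 4 → {c : Finset α | c ∈ B ∧ b ∩ c = s}.ncard = 3) := by
  refine ⟨?_, ?_⟩
  · intro c hc hcb
    have hlt := card_inter_lt hB hb hc (Ne.symm hcb)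
    have h1 : (b ∩ c).card ≠ 1 := by
      intro h1
      have := ex1 hα hB hb (b ∩ c) Finset.inter_subset_left h1
      have hmem : c ∈ exactBlocks B b (b ∩ c) := mem_exactBlocks.2 ⟨hc, rfl⟩
      rw [Finset.card_eq_zero] at this
      rw [this] at hmem
      exact absurd hmem (Finset.notMem_empty _)
    omega
  · intro s hs
    refine ⟨fun h => ?_, fun h => ?_, fun h => ?_⟩
    · rw [ncard_exact]; exact ex2 hα hB hb s hs h
    · rw [ncard_exact]; exact ex3 hα hB hb s hs h
    · rw [ncard_exact]; exact ex4 hα hB hb s hs h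

end Cfsg.Agent.S1595
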