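import Cfsg.Statements.S1602
import Cfsg.Agent.S0384
import Cfsg.Agent.Lib.Helper27_M12Pair

set_option autoImplicit false
open scoped Pointwise
open Cfsg

namespace Cfsg.Agent.S1602

open Cfsg.Agent.Lib.Helper26_Golay Cfsg.Agent.Lib.Helper91_M24Stab
  Cfsg.Agent.Lib.Helper27_M12Pair

/-- the group in the statement -/
abbrev KGrp (d : Finset GolayPt) (p q q' : GolayPt) : Subgroup ↥M24 :=
  MulAction.stabilizer M24 d ⊓ MulAction.stabilizer M24 p ⊓
    MulAction.stabilizer M24 ({q, q'} : Finset GolayPt)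

theorem mem_KGrp {d : Finset GolayPt} {p q q' : GolayPt} {g : ↥M24} :
    g ∈ KGrp d p q q' ↔ (g : Equiv.Perm GolayPt) • d = d ∧ (g : Equiv.Perm GolayPt) p = p ∧
      (g : Equiv.Perm GolayPt) • ({q, q'} : Finset GolayPt) = {q, q'} := by
  simp only [KGrp, Subgroup.mem_inf, MulAction.mem_stabilizer_iff, and_assoc]
  rfl

theorem apply_mem {g : Equiv.Perm GolayPt} {s : Finset GolayPt} (hg : g • s = s) {x : GolayPt}
    (hx : x ∈ s) : g x ∈ s := by
  have := Finset.smul_mem_smul_finset (a := g) hx
  rwa [hg] at this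

theorem apply_mem_iff {g : Equiv.Perm GolayPt} {s : Finset GolayPt} (hg : g • s = s)
    (x : GolayPt) : g x ∈ s ↔ x ∈ s := by
  conv_lhs => rw [← hg]
  exact mem_smul_iff g x s

section main
variable {d : Finset GolayPt} (hd : d ∈ dodecads) {p q q' : GolayPt} (hp : p ∈ d) (hq : q ∉ d)
  (hq' : q' ∉ d) (hqq : q ≠ q') {o : Finset GolayPt} (ho : o ∈ octads) (po : p ∈ o) (qo : q ∈ o)
  (qo' : q' ∈ o) (c6 : (o ∩ d).card = 6)

include hq hq' hqq ho qo qo' c6 in
theorem sdiff_eq : o \ d = {q, q'} := by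
  symm
  apply Finset.eq_of_subset_of_card_le
  · intro x hx
    rw [Finset.mem_insert, Finset.mem_singleton] at hx
    rcases hx with rfl | rfl
    · exact Finset.mem_sdiff.2 ⟨qo, hq⟩
    · exact Finset.mem_sdiff.2 ⟨qo', hq'⟩
  · have := Finset.card_sdiff_add_card_inter o d
    rw [c6, ho.2] at this
    rw [Finset.card_pair hqq]
    omega

include hd hp hq hq' hqq ho po qo qo' c6 in
/-- an element of `M24` fixing `d` fixes `p` and `{q, q'}` iff it fixes the five further points of the
hexad `o ∩ d` as a set -/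
theorem fix_iff (g : Equiv.Perm GolayPt) (hg : g ∈ M24) (hgd : g • d = d) :
    (g p = p ∧ g • ({q, q'} : Finset GolayPt) = {q, q'}) ↔
      g • ((o ∩ d).erase p) = (o ∩ d).erase p := by
  have key : g • o = o → (g p = p ↔ g • ((o ∩ d).erase p) = (o ∩ d).erase p) := by
    intro hgo
    have hgh : g • (o ∩ d) = o ∩ d := by rw [Finset.smul_finset_inter, hgo, hgd]
    constructor
    · intro hgp
      ext x
      constructor
      · intro hx
        obtain ⟨y, hy, rfl⟩ := Finset.mem_smul_finset.1 hx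
        obtain ⟨hyp, hyh⟩ := Finset.mem_erase.1 hy
        refine Finset.mem_erase.2 ⟨?_, apply_mem hgh hyh⟩
        intro h
        apply hyp
        apply g.injective
        rw [hgp]; exact h
      · intro hx
        obtain ⟨hxp, hxh⟩ := Finset.mem_erase.1 hx
        have h1 : g⁻¹ x ∈ o ∩ d := by
          rw [← apply_mem_iff hgh]; simpa using hxh
        have : g (g⁻¹ x) ∈ g • ((o ∩ d).erase p) := by
          apply Finset.smul_mem_smul_finset (a := g)
          refine Finset.mem_erase.2 ⟨?_, h1⟩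
          intro h
          apply hxp
          rw [← hgp, ← h]; simp
        simpa using this
    · intro hO
      have h1 : g p ∈ o ∩ d := apply_mem hgh (Finset.mem_inter.2 ⟨po, hp⟩)
      by_contra hne
      have h2 : g p ∈ (o ∩ d).erase p := Finset.mem_erase.2 ⟨hne, h1⟩
      rw [← hO] at h2
      obtain ⟨y, hy, hyp⟩ := Finset.mem_smul_finset.1 h2
      have : y = p := g.injective hyp
      rw [this] at hy
      exact (Finset.mem_erase.1 hy).1 rfl
  constructor
  · rintro ⟨hgp, hgq⟩
    have hgo : g • o = o := by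
      have mq : q ∈ g • o := by
        have h1 : g⁻¹ q ∈ ({q, q'} : Finset GolayPt) := by
          rw [← apply_mem_iff hgq]; simp
        have h2 : g⁻¹ q ∈ o := by
          rw [Finset.mem_insert, Finset.mem_singleton] at h1
          rcases h1 with h | h <;> rw [h] <;> assumption
        have := Finset.smul_mem_smul_finset (a := g) h2
        simpa using this
      have mq' : q' ∈ g • o := by
        have h1 : g⁻¹ q' ∈ ({q, q'} : Finset GolayPt) := by
          rw [← apply_mem_iff hgq]; simp
        have h2 : g⁻¹ q' ∈ o := by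
          rw [Finset.mem_insert, Finset.mem_singleton] at h1
          rcases h1 with h | h <;> rw [h] <;> assumption
        have := Finset.smul_mem_smul_finset (a := g) h2
        simpa using this
      have mp : p ∈ g • o := by
        have := Finset.smul_mem_smul_finset (a := g) po
        rwa [Equiv.Perm.smul_def, hgp] at this
      have c : (g • o ∩ d).card = 6 := by
        conv_lhs => rw [← hgd]
        rw [card_inter_smul, c6]
      exact octad_unique hd (smul_mem_octads hg ho) ho c c6 hp hq hq' hqq mp mq mq' po qo qo'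
    exact (key hgo).1 hgp
  · intro hO
    have hsub : (o ∩ d).erase p ⊆ o := fun x hx =>
      (Finset.mem_inter.1 (Finset.mem_erase.1 hx).2).1
    have hgo : g • o = o := by
      apply octad_eq_of_five_le (smul_mem_octads hg ho) ho
      have h5 : ((o ∩ d).erase p).card = 5 := by
        rw [Finset.card_erase_of_mem (Finset.mem_inter.2 ⟨po, hp⟩), c6]
      rw [← h5]
      apply Finset.card_le_card
      intro x hx
      refine Finset.mem_inter.2 ⟨?_, hsub hx⟩
      rw [← hO] at hx
      exact Finset.smul_finset_subset_smul_finset hsub hx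
    refine ⟨(key hgo).2 hO, ?_⟩
    rw [← sdiff_eq hq hq' hqq ho qo qo' c6]
    have : g • (o \ d) = g • o \ g • d := Finset.smul_finset_sdiff
    rw [this, hgo, hgd]

end main

/-- the main isomorphism, for a fixed five-element subset `O` of `d` whose setwise stabiliser in the
stabiliser of `d` is the given group -/
theorem iso_of_five (d : Finset GolayPt) (hd : d ∈ dodecads) (K : Subgroup ↥M24)
    (O : Finset GolayPt) (hO : O ⊆ d) (h5 : O.card = 5)
    (hK : ∀ g : ↥M24, g ∈ K ↔ ((g : Equiv.Perm GolayPt) • d = d ∧ (g : Equiv.Perm GolayPt) • O = O)) :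
    Nonempty (↥K ≃* Equiv.Perm (Fin 5)) := by
  classical
  have hgO : ∀ g : ↥K, ((g : ↥M24) : Equiv.Perm GolayPt) • O = O := fun g => ((hK g.1).1 g.2).2
  have hgd : ∀ g : ↥K, ((g : ↥M24) : Equiv.Perm GolayPt) • d = d := fun g => ((hK g.1).1 g.2).1
  -- the restriction homomorphism
  let φ : ↥K →* Equiv.Perm {x // x ∈ O} :=
    { toFun := fun g => (((g : ↥M24) : Equiv.Perm GolayPt)).subtypePerm
        (fun x => apply_mem_iff (hgO g) x)
      map_one' := by
        ext x; rfl
      map_mul' := by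
        intro g g'
        ext x; rfl }
  have φ_apply : ∀ (g : ↥K) (x : {x // x ∈ O}),
      ((φ g x : {x // x ∈ O}) : GolayPt) = ((g : ↥M24) : Equiv.Perm GolayPt) x := fun g x => rfl
  -- an enumeration of `O`
  let e : {x // x ∈ O} ≃ Fin 5 := Finset.equivFinOfCardEq h5
  let x₀ : Fin 5 ↪ GolayPt := e.symm.toEmbedding.trans (Function.Embedding.subtype _)
  have hx₀ : ∀ i, x₀ i ∈ d := fun i => hO (e.symm i).2
  have hx₀e : ∀ z : {x // x ∈ O}, x₀ (e z) = z := by
    intro z
    show ((e.symm (e z) : {x // x ∈ O}) : GolayPt) = z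
    rw [Equiv.symm_apply_apply]
  have hφ : Function.Bijective φ := by
    constructor
    · intro g g' hgg
      have hagree : ∀ i, ((g : ↥M24) : Equiv.Perm GolayPt) (x₀ i) =
          ((g' : ↥M24) : Equiv.Perm GolayPt) (x₀ i) := by
        intro i
        have := congrArg (fun π : Equiv.Perm {x // x ∈ O} => ((π (e.symm i) : {x // x ∈ O}) : GolayPt)) hgg
        exact this
      let y : Fin 5 ↪ GolayPt := x₀.trans ((g : ↥M24) : Equiv.Perm GolayPt).toEmbedding
      have hy : ∀ i, y i ∈ d := fun i => apply_mem (hgd g) (hx₀ i)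
      obtain ⟨k, -, hk⟩ := Cfsg.Agent.S0384.result d hd x₀ y hx₀ hy
      have e1 := hk ⟨g.1, MulAction.mem_stabilizer_iff.2 (hgd g)⟩ (fun i => rfl)
      have e2 := hk ⟨g'.1, MulAction.mem_stabilizer_iff.2 (hgd g')⟩ (fun i => (hagree i).symm)
      apply Subtype.ext
      have h12 := congrArg Subtype.val (e1.trans e2.symm)
      exact h12
    · intro π
      let y : Fin 5 ↪ GolayPt :=
        (e.symm.toEmbedding.trans π.toEmbedding).trans (Function.Embedding.subtype _)
      have hy : ∀ i, y i ∈ d := fun i => hO (π (e.symm i)).2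
      obtain ⟨k, hk, -⟩ := Cfsg.Agent.S0384.result d hd x₀ y hx₀ hy
      have k1 : ((k : ↥M24) : Equiv.Perm GolayPt) • d = d := MulAction.mem_stabilizer_iff.1 k.2
      have kz : ∀ z : {x // x ∈ O}, ((k : ↥M24) : Equiv.Perm GolayPt) z = π z := by
        intro z
        have := hk (e z)
        rw [hx₀e] at this
        rw [this]
        show ((π (e.symm (e z)) : {x // x ∈ O}) : GolayPt) = π z
        rw [Equiv.symm_apply_apply]
      have k2 : ((k : ↥M24) : Equiv.Perm GolayPt) • O = O := by
        apply Finset.eq_of_subset_of_card_le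
        · intro x hx
          obtain ⟨z, hz, rfl⟩ := Finset.mem_smul_finset.1 hx
          have := kz ⟨z, hz⟩
          show ((k : ↥M24) : Equiv.Perm GolayPt) z ∈ O
          rw [this]
          exact (π ⟨z, hz⟩).2
        · rw [Finset.card_smul_finset]
      refine ⟨⟨k.1, (hK k.1).2 ⟨k1, k2⟩⟩, ?_⟩
      refine Equiv.ext fun z => Subtype.ext ?_
      rw [φ_apply]
      exact kz z
  exact ⟨(MulEquiv.ofBijective φ hφ).trans (Equiv.permCongrHom e)⟩

theorem result (d : Finset Cfsg.GolayPt) (hd : d ∈ Cfsg.dodecads) (p q q' : Cfsg.GolayPt) (hp : p ∈ d) (hq : q ∉ d) (hq' : q' ∉ d) (hqq' : q ≠ q') : Nonempty (↥(MulAction.stabilizer Cfsg.M24 d ⊓ MulAction.stabilizer Cfsg.M24 p ⊓ MulAction.stabilizer Cfsg.M24 ({q, q'} : Finset Cfsg.GolayPt)) ≃* Equiv.Perm (Fin 5)) := by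
  obtain ⟨o, ho, po, qo, qo', c6⟩ := exists_octad hd hp hq hq' hqq'
  apply iso_of_five d hd _ ((o ∩ d).erase p)
  · intro x hx
    exact (Finset.mem_inter.1 (Finset.mem_erase.1 hx).2).2
  · rw [Finset.card_erase_of_mem (Finset.mem_inter.2 ⟨po, hp⟩), c6]
  · intro g
    rw [mem_KGrp]
    constructor
    · rintro ⟨h1, h2, h3⟩
      exact ⟨h1, (fix_iff hd hp hq hq' hqq' ho po qo qo' c6 _ g.2 h1).1 ⟨h2, h3⟩⟩
    · rintro ⟨h1, h2⟩
      obtain ⟨h3, h4⟩ := (fix_iff hd hp hq hq' hqq' ho po qo qo' c6 _ g.2 h1).2 h2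
      exact ⟨h1, h3, h4⟩

end Cfsg.Agent.S1602
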