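import Cfsg.Statements.S1603
import Cfsg.Agent.S0384
import Cfsg.Agent.Lib.Helper91_M24Stab3

set_option autoImplicit false
open scoped Pointwise
open Cfsg
open Cfsg.Agent.Lib.Helper26_Golay
open Cfsg.Agent.Lib.Helper91_M24Stab Cfsg.Agent.Lib.Helper91_M24Stab3

namespace Cfsg.Agent.S1603

/-- an element of a dodecad stabiliser fixing five points of the dodecad is trivial -/
theorem fix_eq_one {d : Finset GolayPt} (hd : d ∈ dodecads) {σ : Equiv.Perm GolayPt} (hσ : σ ∈ M24)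
    (hσd : σ • d = d) (y : Fin 5 ↪ GolayPt) (hy : ∀ i, y i ∈ d) (hfix : ∀ i, σ (y i) = y i) :
    σ = 1 := by
  obtain ⟨g, _, huniq⟩ := Cfsg.Agent.S0384.result d hd y y hy hy
  have hmem : (⟨σ, hσ⟩ : M24) ∈ MulAction.stabilizer M24 d := by
    rw [MulAction.mem_stabilizer_iff]
    exact hσd
  have h1 := huniq ⟨⟨σ, hσ⟩, hmem⟩ hfix
  have h2 := huniq 1 (fun i => rfl)
  have h3 : (⟨⟨σ, hσ⟩, hmem⟩ : MulAction.stabilizer M24 d) = 1 := h1.trans h2.symm
  have h4 := congrArg (fun g : MulAction.stabilizer M24 d => ((g : M24) : Equiv.Perm GolayPt)) h3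
  exact h4

theorem eq_of_agree {d : Finset GolayPt} (hd : d ∈ dodecads) {σ τ : Equiv.Perm GolayPt}
    (hσ : σ ∈ M24) (hτ : τ ∈ M24) (hσd : σ • d = d) (hτd : τ • d = d)
    (y : Fin 5 ↪ GolayPt) (hy : ∀ i, y i ∈ d) (h : ∀ i, σ (y i) = τ (y i)) : σ = τ := by
  have h1 : τ⁻¹ * σ = 1 := by
    apply fix_eq_one hd (M24.mul_mem (M24.inv_mem hτ) hσ) _ y hy
    · intro i
      rw [Equiv.Perm.mul_apply, h i]
      simp
    · rw [mul_smul, hσd, inv_smul_eq_iff, hτd]
  calc σ = τ * (τ⁻¹ * σ) := by group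
    _ = τ := by rw [h1, mul_one]

theorem smul_mem_of_stab {d : Finset GolayPt} {σ : Equiv.Perm GolayPt} (hσd : σ • d = d)
    {q : GolayPt} (hq : q ∈ d) : σ q ∈ d := by
  have := (mem_smul_iff σ q d).mpr hq
  rwa [hσd] at this

/-- a nontrivial element of a dodecad stabiliser moves a point of the dodecad outside any given
set of at most seven points -/
theorem exists_moved {d : Finset GolayPt} (hd : d ∈ dodecads) {σ : Equiv.Perm GolayPt}
    (hσ : σ ∈ M24) (hσd : σ • d = d) (hne : σ ≠ 1) (F : Finset GolayPt) (hF : F.card ≤ 7) :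
    ∃ a ∈ d, a ∉ F ∧ σ a ≠ a := by
  by_contra hcon
  have hfix : ∀ a ∈ d \ F, σ a = a := by
    intro a ha
    rw [Finset.mem_sdiff] at ha
    by_contra h
    exact hcon ⟨a, ha.1, ha.2, h⟩
  have hcard : 5 ≤ (d \ F).card := by
    have h1 := Finset.le_card_sdiff F d
    have h2 : d.card = 12 := hd.2
    omega
  obtain ⟨t, ht, htc⟩ := Finset.exists_subset_card_eq hcard
  let y : Fin 5 ↪ GolayPt :=
    (Finset.equivFinOfCardEq htc).symm.toEmbedding.trans (Function.Embedding.subtype _)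
  have hyt : ∀ i, y i ∈ t := fun i => ((Finset.equivFinOfCardEq htc).symm i).2
  apply hne
  apply fix_eq_one hd hσ hσd y
  · intro i
    exact (Finset.mem_sdiff.mp (ht (hyt i))).1
  · intro i
    exact hfix _ (ht (hyt i))

/-- an embedding of `Fin 5` from five distinct points -/
def emb5 (p a b c e : GolayPt) (h : [p, a, b, c, e].Nodup) : Fin 5 ↪ GolayPt :=
  ⟨fun i => [p, a, b, c, e].get i, List.nodup_iff_injective_get.mp h⟩

theorem emb5_0 (p a b c e : GolayPt) (h : [p, a, b, c, e].Nodup) : emb5 p a b c e h 0 = p := rfl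
theorem emb5_1 (p a b c e : GolayPt) (h : [p, a, b, c, e].Nodup) : emb5 p a b c e h 1 = a := rfl
theorem emb5_2 (p a b c e : GolayPt) (h : [p, a, b, c, e].Nodup) : emb5 p a b c e h 2 = b := rfl
theorem emb5_3 (p a b c e : GolayPt) (h : [p, a, b, c, e].Nodup) : emb5 p a b c e h 3 = c := rfl
theorem emb5_4 (p a b c e : GolayPt) (h : [p, a, b, c, e].Nodup) : emb5 p a b c e h 4 = e := rfl

theorem forall_fin5 {P : Fin 5 → Prop} (h0 : P 0) (h1 : P 1) (h2 : P 2) (h3 : P 3) (h4 : P 4) :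
    ∀ i, P i := by
  intro i
  fin_cases i
  · exact h0
  · exact h1
  · exact h2
  · exact h3
  · exact h4

/-- a fixed-point-free-on-two-pairs description of an involution of a point stabiliser in a
dodecad stabiliser -/
theorem exists_two_cycles {d : Finset GolayPt} (hd : d ∈ dodecads) {p : GolayPt} (hp : p ∈ d)
    {σ : Equiv.Perm GolayPt} (hσ : σ ∈ M24) (hσd : σ • d = d) (hσp : σ p = p) (hne : σ ≠ 1)
    (hsq : σ * σ = 1) :
    ∃ a b c e : GolayPt, [p, a, b, c, e].Nodup ∧ a ∈ d ∧ b ∈ d ∧ c ∈ d ∧ e ∈ d ∧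
      σ a = b ∧ σ b = a ∧ σ c = e ∧ σ e = c := by
  have hinv : ∀ q, σ (σ q) = q := by
    intro q
    have := congrArg (fun τ : Equiv.Perm GolayPt => τ q) hsq
    simpa using this
  obtain ⟨a, had, _, hσa⟩ := exists_moved hd hσ hσd hne ∅ (by simp)
  obtain ⟨c, hcd, hcF, hσc⟩ := exists_moved hd hσ hσd hne {a, σ a}
    (by
      have := Finset.card_le_two (a := a) (b := σ a)
      omega)
  rw [Finset.mem_insert, Finset.mem_singleton, not_or] at hcF
  refine ⟨a, σ a, c, σ c, ?_, had, smul_mem_of_stab hσd had, hcd, smul_mem_of_stab hσd hcd, rfl,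
    hinv a, rfl, hinv c⟩
  have hap : a ≠ p := by
    rintro rfl
    exact hσa hσp
  have hcp : c ≠ p := by
    rintro rfl
    exact hσc hσp
  have hbp : σ a ≠ p := by
    intro h
    apply hap
    rw [← hinv a, h, hσp]
  have hep : σ c ≠ p := by
    intro h
    apply hcp
    rw [← hinv c, h, hσp]
  have hea : σ c ≠ a := by
    intro h
    apply hcF.2
    rw [← hinv c, h]
  have heb : σ c ≠ σ a := by
    intro h
    exact hcF.1 (σ.injective h)
  simp only [List.nodup_cons, List.mem_cons, List.not_mem_nil, or_false, not_or, List.nodup_nil,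
    and_true, not_false_eq_true]
  refine ⟨⟨hap.symm, hbp.symm, hcp.symm, hep.symm⟩, ⟨fun h => hσa h.symm, fun h => hcF.1 h.symm,
    hea.symm⟩, ⟨fun h => hcF.2 h.symm, heb.symm⟩, fun h => hσc h.symm⟩

theorem allFold_false_iff (f : ℕ → Bool) (n : ℕ) :
    allFold f n = false ↔ ∃ j < n, f j = false := by
  constructor
  · intro h
    by_contra hcon
    have : allFold f n = true := by
      rw [allFold_eq_true]
      intro j hj
      by_contra h2
      exact hcon ⟨j, hj, by simpa using h2⟩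
    rw [this] at h
    exact Bool.noConfusion h
  · rintro ⟨j, hj, hf⟩
    by_contra h
    have h1 : allFold f n = true := by simpa using h
    rw [allFold_eq_true] at h1
    rw [h1 j hj] at hf
    exact Bool.noConfusion hf

def TT : ℕ := 0x339f494cb0ad9a2485683de241b1402ba557c0d3a590249eed0ae2460d404ba8f854b29d9033056d546e4130e033a70abd349590c2aa2d3dd64188204bab29d0cf859ac29ee85456410c202ba13a49357d9a332a280aee4608e0bce547b9b0b54a34910b39a21131406cdf6942eea556349cc522221609406ce0ea3d36954a2baa2b220c160ce04cecf752f2854ac69ccb5450118880bcdd0b49347d56c6aa253990110c804ce92859af75562b9105544c11b0e05c1f593913b50cc491b70962710d40442567cd6ead2ec484a623627189404c2d27556f9d0c3404b7545a7608805c1d3b3d35952e342a26095a7130804426eac9367d0c25aa37234a71b0204c2af9d912752e2591a6544a760c208d60fa3912b4ca2311ab526e11b0e08d5d2b40cfa4d6c41ee5525a118880356d473e3094cac4292b3dda110c804564e7d0d684ca389eeb23521609404569684a2e7cd6232925236e160ce0355f09591474d63891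a53dd2113140bbeb09b914b4923291b13996a6082043e8e84cb6ac92cb8571234ca10ce02bed3742f5a492241cd10adaa1b080bbdd4b54b09ca2240569399aa60c8043e76ad2ee84a2329cc92356a130202be15a591374a2cb91a90acca188e08d272ab9afb40c2291175256760c208d1cfb4cb2ac2e36856652507608806d1ee954b69c0cc8857722127189406d2b69be2e942e22a926221671b0202d2d574a337c0c36a9370ad07130802d2537d9b5742ec891060ad2710d405ca93839b5b3d2c31111096ea188e034ad074d74abd22684b13dd0a60c806caae9c0d6a3d2359ef1220aa130206ca16a556e9be2c304a9222ea10ce05c9d5b50d383e2269ee90950a1b08034a74ad9b073e23591093dcaa608208da12a4d6fab9a3b84a8524c4130e08da6fac2f2a390c59ccd524a410c20bda507d5749b902884ad399241b1405da9583e3393903ba92d094c4608e05d9f3952f5839a289cc80952460d40bdab49ca307b9ac5a928398a418820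
def XT : ℕ := 0x33a70abd349590c2aa2d3dd6418820
def L0 : ℕ := 0x2a4110000000
def L1 : ℕ := 0x6a140000000

/-- first and second coordinate of the label of the point with index `i` -/
def l0 (i : ℕ) : ℕ := (L0 >>> (2 * i)) &&& 3
def l1 (i : ℕ) : ℕ := (L1 >>> (2 * i)) &&& 3

def tb (k : ℕ) : ℕ := get120 TT k
def xt : ℕ := get120 XT 0

theorem TT_in : GensIn (stab2 dod0 {pt 0}) TT 48 := by
  apply gensIn_stab2 dod0 {pt 0} (dodAt 0) 1 enc_dod0 (enc_singleton_pt 0 (by norm_num))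
  decide +kernel

theorem XT_in : GensIn (stab2 dod0 {pt 0}) XT 1 := by
  apply gensIn_stab2 dod0 {pt 0} (dodAt 0) 1 enc_dod0 (enc_singleton_pt 0 (by norm_num))
  decide +kernel

theorem commCheck : allFold (fun k => allFold (fun i =>
    img (tb k) (img xt i) == img xt (img (tb k) i)) 24) 48 = true := by
  decide +kernel

def linOk (T i : ℕ) : Bool :=
  (l0 (img T i) == (l0 (img T 14) * l0 i + l0 (img T 15) * l1 i) % 3) &&
    (l1 (img T i) == (l1 (img T 14) * l0 i + l1 (img T 15) * l1 i) % 3)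

theorem linCheck : allFold (fun k => allFold (fun i => linOk (tb k) i) 24) 48 = true := by
  decide +kernel

def inS (i : ℕ) : Bool := ((dodAt 0 >>> i) &&& 1 == 1) && (img xt i != i)

theorem covCheck : allFold (fun iu => allFold (fun iv =>
    !(inS iu && inS iv && (iv != iu) && (iv != img xt iu)) ||
      !(allFold (fun k => !((img (tb k) 14 == iu) && (img (tb k) 15 == iv))) 48)) 24) 24 = true := by
  decide +kernel

theorem surjCheck : allFold (fun a => allFold (fun b => allFold (fun c => allFold (fun d =>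
    ((a * d + 2 * (b * c)) % 3 == 0) ||
      !(allFold (fun k => !((l0 (img (tb k) 14) == a) && (l1 (img (tb k) 14) == c) &&
        (l0 (img (tb k) 15) == b) && (l1 (img (tb k) 15) == d))) 48)) 3) 3) 3) 3 = true := by
  decide +kernel

theorem injCheck : allFold (fun i => allFold (fun j =>
    !((l0 i == l0 j) && (l1 i == l1 j) && ((l0 i != 0) || (l1 i != 0))) || (i == j)) 24) 24 = true := by
  decide +kernel

theorem xCheck : allFold (fun i => img xt (img xt i) == i) 24 = true := by decide +kernel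

theorem xVals : img xt 0 = 0 ∧ img xt 14 = 22 ∧ img xt 22 = 14 ∧ img xt 15 = 18 ∧ img xt 18 = 15 := by
  decide +kernel

theorem labVals : l0 14 = 1 ∧ l1 14 = 0 ∧ l0 15 = 0 ∧ l1 15 = 1 ∧ l0 22 = 2 ∧ l1 18 = 2 := by
  decide +kernel

theorem dodBits : (dodAt 0 >>> 0) &&& 1 = 1 ∧ (dodAt 0 >>> 14) &&& 1 = 1 ∧ (dodAt 0 >>> 22) &&& 1 = 1 ∧
    (dodAt 0 >>> 15) &&& 1 = 1 ∧ (dodAt 0 >>> 18) &&& 1 = 1 := by
  decide +kernel


/-! ### lifting the table checks to permutations -/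

theorem rep_apply {σ : Equiv.Perm GolayPt} {T : ℕ} (h : Represents σ T) (i : ℕ) (hi : i < 24) :
    σ (pt i) = pt (img T i) := by
  have h1 := h (pt i)
  rw [idx_pt i hi] at h1
  rw [← h1, pt_idx]

theorem x0_exists : ∃ σ ∈ stab2 dod0 {pt 0}, Represents σ xt := XT_in 0 (by norm_num)

/-- the standard involution -/
noncomputable def x0 : Equiv.Perm GolayPt := Classical.choose x0_exists

theorem x0_mem : x0 ∈ stab2 dod0 {pt 0} := (Classical.choose_spec x0_exists).1

theorem x0_rep : Represents x0 xt := (Classical.choose_spec x0_exists).2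

theorem x0_M24 : x0 ∈ M24 := (mem_stab2.mp x0_mem).1

theorem x0_dod : x0 • dod0 = dod0 := (mem_stab2.mp x0_mem).2.1

theorem x0_p : x0 (pt 0) = pt 0 := smul_singleton_eq (mem_stab2.mp x0_mem).2.2

theorem x0_a : x0 (pt 14) = pt 22 := by rw [rep_apply x0_rep 14 (by norm_num), xVals.2.1]
theorem x0_b : x0 (pt 22) = pt 14 := by rw [rep_apply x0_rep 22 (by norm_num), xVals.2.2.1]
theorem x0_c : x0 (pt 15) = pt 18 := by rw [rep_apply x0_rep 15 (by norm_num), xVals.2.2.2.1]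
theorem x0_e : x0 (pt 18) = pt 15 := by rw [rep_apply x0_rep 18 (by norm_num), xVals.2.2.2.2]

/-- membership in the centraliser of the standard involution, for permutations -/
def InC (σ : Equiv.Perm GolayPt) : Prop :=
  σ ∈ M24 ∧ σ • dod0 = dod0 ∧ σ (pt 0) = pt 0 ∧ σ * x0 = x0 * σ

theorem inC_one : InC 1 := ⟨M24.one_mem, one_smul _ _, rfl, by rw [one_mul, mul_one]⟩

theorem inC_comm {σ : Equiv.Perm GolayPt} (h : InC σ) (q : GolayPt) : σ (x0 q) = x0 (σ q) := by
  have := congrArg (fun τ : Equiv.Perm GolayPt => τ q) h.2.2.2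
  simpa using this

theorem inC_mul {σ τ : Equiv.Perm GolayPt} (h1 : InC σ) (h2 : InC τ) : InC (σ * τ) := by
  refine ⟨M24.mul_mem h1.1 h2.1, ?_, ?_, ?_⟩
  · rw [mul_smul, h2.2.1, h1.2.1]
  · rw [Equiv.Perm.mul_apply, h2.2.2.1, h1.2.2.1]
  · rw [mul_assoc, h2.2.2.2, ← mul_assoc, h1.2.2.2, mul_assoc]

theorem inC_table (k : ℕ) (hk : k < 48) : ∃ σ, InC σ ∧ Represents σ (tb k) := by
  obtain ⟨σ, hσ, hT'⟩ := TT_in k hk
  have hT : Represents σ (tb k) := hT'
  obtain ⟨h1, h2, h3⟩ := mem_stab2.mp hσ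
  refine ⟨σ, ⟨h1, h2, smul_singleton_eq h3, ?_⟩, hT⟩
  apply Equiv.ext
  intro q
  rw [Equiv.Perm.mul_apply, Equiv.Perm.mul_apply]
  apply idx_injective
  have hc := (allFold_eq_true _ _).mp ((allFold_eq_true _ _).mp commCheck k hk) (idx q) (idx_lt q)
  rw [beq_iff_eq] at hc
  have e1 : idx (σ (x0 q)) = img (tb k) (img xt (idx q)) := by
    rw [hT (x0 q), x0_rep q]
  have e2 : idx (x0 (σ q)) = img xt (img (tb k) (idx q)) := by
    rw [x0_rep (σ q), hT q]
  rw [e1, e2, hc]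

/-- the two coordinates of the label of a point, in the field with three elements -/
def ℓ0 (q : GolayPt) : ZMod 3 := (l0 (idx q) : ZMod 3)
def ℓ1 (q : GolayPt) : ZMod 3 := (l1 (idx q) : ZMod 3)

theorem ℓ0_a : ℓ0 (pt 14) = 1 := by
  unfold ℓ0; rw [idx_pt 14 (by norm_num), labVals.1]; rfl
theorem ℓ1_a : ℓ1 (pt 14) = 0 := by
  unfold ℓ1; rw [idx_pt 14 (by norm_num), labVals.2.1]; rfl
theorem ℓ0_c : ℓ0 (pt 15) = 0 := by
  unfold ℓ0; rw [idx_pt 15 (by norm_num), labVals.2.2.1]; rfl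
theorem ℓ1_c : ℓ1 (pt 15) = 1 := by
  unfold ℓ1; rw [idx_pt 15 (by norm_num), labVals.2.2.2.1]; rfl

/-- a permutation acts linearly on the labels -/
def Lin (σ : Equiv.Perm GolayPt) : Prop :=
  ∀ q, ℓ0 (σ q) = ℓ0 (σ (pt 14)) * ℓ0 q + ℓ0 (σ (pt 15)) * ℓ1 q ∧
    ℓ1 (σ q) = ℓ1 (σ (pt 14)) * ℓ0 q + ℓ1 (σ (pt 15)) * ℓ1 q

theorem lin_of_rep {σ : Equiv.Perm GolayPt} {k : ℕ} (hk : k < 48) (hT : Represents σ (tb k)) :
    Lin σ := by
  intro q
  have hc := (allFold_eq_true _ _).mp ((allFold_eq_true _ _).mp linCheck k hk) (idx q) (idx_lt q)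
  unfold linOk at hc
  rw [Bool.and_eq_true, beq_iff_eq, beq_iff_eq] at hc
  have ia : idx (σ (pt 14)) = img (tb k) 14 := by rw [hT, idx_pt 14 (by norm_num)]
  have ic : idx (σ (pt 15)) = img (tb k) 15 := by rw [hT, idx_pt 15 (by norm_num)]
  unfold ℓ0 ℓ1
  rw [hT q, ia, ic, hc.1, hc.2]
  constructor
  · rw [ZMod.natCast_mod]; push_cast; rfl
  · rw [ZMod.natCast_mod]; push_cast; rfl

/-- the standard five points of the base dodecad -/
theorem std_nodup : [pt 0, pt 14, pt 22, pt 15, pt 18].Nodup := by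
  have h : ∀ i j : ℕ, i < 24 → j < 24 → i ≠ j → pt i ≠ pt j := by
    intro i j hi hj hij h
    apply hij
    rw [← idx_pt i hi, ← idx_pt j hj, h]
  simp only [List.nodup_cons, List.mem_cons, List.not_mem_nil, or_false, not_or, List.nodup_nil,
    and_true, not_false_eq_true]
  refine ⟨⟨h _ _ (by norm_num) (by norm_num) (by norm_num), h _ _ (by norm_num) (by norm_num) (by norm_num),
    h _ _ (by norm_num) (by norm_num) (by norm_num), h _ _ (by norm_num) (by norm_num) (by norm_num)⟩,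
    ⟨h _ _ (by norm_num) (by norm_num) (by norm_num), h _ _ (by norm_num) (by norm_num) (by norm_num),
    h _ _ (by norm_num) (by norm_num) (by norm_num)⟩,
    ⟨h _ _ (by norm_num) (by norm_num) (by norm_num), h _ _ (by norm_num) (by norm_num) (by norm_num)⟩,
    h _ _ (by norm_num) (by norm_num) (by norm_num)⟩

noncomputable def y0 : Fin 5 ↪ GolayPt := emb5 (pt 0) (pt 14) (pt 22) (pt 15) (pt 18) std_nodup

theorem pt_mem_dod0 (i : ℕ) (hi : i < 24) (h : (dodAt 0 >>> i) &&& 1 = 1) : pt i ∈ dod0 := by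
  rw [mem_iff_bit, idx_pt i hi, enc_dod0]
  exact h

theorem y0_mem : ∀ i, y0 i ∈ dod0 :=
  forall_fin5 (pt_mem_dod0 0 (by norm_num) dodBits.1) (pt_mem_dod0 14 (by norm_num) dodBits.2.1)
    (pt_mem_dod0 22 (by norm_num) dodBits.2.2.1) (pt_mem_dod0 15 (by norm_num) dodBits.2.2.2.1)
    (pt_mem_dod0 18 (by norm_num) dodBits.2.2.2.2)

/-- two elements of the centraliser agreeing on the two base points are equal -/
theorem inC_eq {σ τ : Equiv.Perm GolayPt} (hσ : InC σ) (hτ : InC τ) (ha : σ (pt 14) = τ (pt 14))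
    (hc : σ (pt 15) = τ (pt 15)) : σ = τ := by
  apply eq_of_agree dod0_mem hσ.1 hτ.1 hσ.2.1 hτ.2.1 y0 y0_mem
  apply forall_fin5
  · show σ (pt 0) = τ (pt 0)
    rw [hσ.2.2.1, hτ.2.2.1]
  · exact ha
  · show σ (pt 22) = τ (pt 22)
    rw [← x0_a, inC_comm hσ, inC_comm hτ, ha]
  · exact hc
  · show σ (pt 18) = τ (pt 18)
    rw [← x0_c, inC_comm hσ, inC_comm hτ, hc]

theorem inS_of {c : Equiv.Perm GolayPt} (hc : InC c) {q : GolayPt} (hq : q ∈ dod0) (hx : x0 q ≠ q) :
    inS (idx (c q)) = true := by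
  unfold inS
  rw [Bool.and_eq_true, beq_iff_eq, bne_iff_ne]
  constructor
  · rw [← enc_dod0, ← mem_iff_bit]
    exact smul_mem_of_stab hc.2.1 hq
  · rw [← x0_rep (c q), ← inC_comm hc]
    intro h
    exact hx (c.injective (idx_injective h))

/-- every element of the centraliser is one of the 48 tables -/
theorem inC_rep {c : Equiv.Perm GolayPt} (hc : InC c) : ∃ k < 48, Represents c (tb k) := by
  have ha : (pt 14 : GolayPt) ∈ dod0 := y0_mem 1
  have hcc : (pt 15 : GolayPt) ∈ dod0 := y0_mem 3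
  have hnd := std_nodup
  simp only [List.nodup_cons, List.mem_cons, List.not_mem_nil, or_false, not_or, List.nodup_nil,
    and_true, not_false_eq_true] at hnd
  have h1 : inS (idx (c (pt 14))) = true := inS_of hc ha (by rw [x0_a]; exact fun h => hnd.2.1.1 h.symm)
  have h2 : inS (idx (c (pt 15))) = true := inS_of hc hcc (by rw [x0_c]; exact fun h => hnd.2.2.2 h.symm)
  have h3 : idx (c (pt 15)) ≠ idx (c (pt 14)) := by
    intro h
    exact hnd.2.1.2.1 (c.injective (idx_injective h)).symm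
  have h4 : idx (c (pt 15)) ≠ img xt (idx (c (pt 14))) := by
    rw [← x0_rep (c (pt 14)), ← inC_comm hc, x0_a]
    intro h
    exact hnd.2.2.1.1 (c.injective (idx_injective h)).symm
  have hcov := (allFold_eq_true _ _).mp ((allFold_eq_true _ _).mp covCheck (idx (c (pt 14))) (idx_lt _))
    (idx (c (pt 15))) (idx_lt _)
  rw [h1, h2] at hcov
  have h3' : (idx (c (pt 15)) != idx (c (pt 14))) = true := bne_iff_ne.mpr h3
  have h4' : (idx (c (pt 15)) != img xt (idx (c (pt 14)))) = true := bne_iff_ne.mpr h4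
  rw [h3', h4'] at hcov
  simp only [Bool.and_self, Bool.not_true, Bool.false_or, Bool.not_eq_eq_eq_not] at hcov
  obtain ⟨k, hk, hkk⟩ := (allFold_false_iff _ _).mp hcov
  simp only [Bool.not_eq_eq_eq_not, Bool.not_false, Bool.and_eq_true, beq_iff_eq] at hkk
  obtain ⟨σ, hσ, hT⟩ := inC_table k hk
  have e1 : σ (pt 14) = c (pt 14) := by
    rw [rep_apply hT 14 (by norm_num), hkk.1, pt_idx]
  have e2 : σ (pt 15) = c (pt 15) := by
    rw [rep_apply hT 15 (by norm_num), hkk.2, pt_idx]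
  have : σ = c := inC_eq hσ hc e1 e2
  rw [← this]
  exact ⟨k, hk, hT⟩

theorem inC_lin {c : Equiv.Perm GolayPt} (hc : InC c) : Lin c := by
  obtain ⟨k, hk, hT⟩ := inC_rep hc
  exact lin_of_rep hk hT

/-! ### the matrix of an element of the centraliser -/

/-- the matrix of a permutation with respect to the labels of the two base points -/
noncomputable def Mat (σ : Equiv.Perm GolayPt) : Matrix (Fin 2) (Fin 2) (ZMod 3) :=
  !![ℓ0 (σ (pt 14)), ℓ0 (σ (pt 15)); ℓ1 (σ (pt 14)), ℓ1 (σ (pt 15))]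

theorem Mat_one : Mat 1 = 1 := by
  unfold Mat
  rw [Equiv.Perm.one_apply, Equiv.Perm.one_apply, ℓ0_a, ℓ0_c, ℓ1_a, ℓ1_c, Matrix.one_fin_two]

theorem Mat_mul {σ τ : Equiv.Perm GolayPt} (hσ : Lin σ) : Mat (σ * τ) = Mat σ * Mat τ := by
  unfold Mat
  rw [Matrix.mul_fin_two]
  simp only [Equiv.Perm.mul_apply]
  rw [(hσ (τ (pt 14))).1, (hσ (τ (pt 14))).2, (hσ (τ (pt 15))).1, (hσ (τ (pt 15))).2]

theorem uniqA : allFold (fun i => !((l0 i % 3 == 1) && (l1 i % 3 == 0)) || (i == 14)) 24 = true := by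
  decide +kernel

theorem uniqC : allFold (fun i => !((l0 i % 3 == 0) && (l1 i % 3 == 1)) || (i == 15)) 24 = true := by
  decide +kernel

theorem cast_eq_one {n : ℕ} (h : (n : ZMod 3) = 1) : n % 3 = 1 := by
  have h1 : (n : ZMod 3) = ((1 : ℕ) : ZMod 3) := by rw [h, Nat.cast_one]
  exact (ZMod.natCast_eq_natCast_iff' n 1 3).mp h1

theorem cast_eq_zero {n : ℕ} (h : (n : ZMod 3) = 0) : n % 3 = 0 :=
  Nat.mod_eq_zero_of_dvd ((ZMod.natCast_eq_zero_iff n 3).mp h)

theorem eq_a_of_label {q : GolayPt} (h0 : ℓ0 q = 1) (h1 : ℓ1 q = 0) : q = pt 14 := by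
  have h := (allFold_eq_true _ _).mp uniqA (idx q) (idx_lt q)
  rw [cast_eq_one h0, cast_eq_zero h1] at h
  simp only [beq_self_eq_true, Bool.and_self, Bool.not_true, Bool.false_or, beq_iff_eq] at h
  rw [← pt_idx q, h]

theorem eq_c_of_label {q : GolayPt} (h0 : ℓ0 q = 0) (h1 : ℓ1 q = 1) : q = pt 15 := by
  have h := (allFold_eq_true _ _).mp uniqC (idx q) (idx_lt q)
  rw [cast_eq_zero h0, cast_eq_one h1] at h
  simp only [beq_self_eq_true, Bool.and_self, Bool.not_true, Bool.false_or, beq_iff_eq] at h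
  rw [← pt_idx q, h]

theorem eq_one_of_Mat {c : Equiv.Perm GolayPt} (hc : InC c) (h : Mat c = 1) : c = 1 := by
  unfold Mat at h
  rw [Matrix.one_fin_two] at h
  have h00 := congrFun (congrFun h 0) 0
  have h01 := congrFun (congrFun h 0) 1
  have h10 := congrFun (congrFun h 1) 0
  have h11 := congrFun (congrFun h 1) 1
  simp only [Matrix.of_apply, Matrix.cons_val_zero, Matrix.cons_val_one, Matrix.cons_val',
    Matrix.cons_val_fin_one] at h00 h01 h10 h11
  apply inC_eq hc inC_one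
  · rw [Equiv.Perm.one_apply]
    exact eq_a_of_label h00 h10
  · rw [Equiv.Perm.one_apply]
    exact eq_c_of_label h01 h11

theorem exists_of_matrix (A : Matrix (Fin 2) (Fin 2) (ZMod 3)) (hA : IsUnit A) :
    ∃ c, InC c ∧ Mat c = A := by
  have hdet : A 0 0 * A 1 1 - A 0 1 * A 1 0 ≠ 0 := by
    rw [← Matrix.det_fin_two]
    exact ((Matrix.isUnit_iff_isUnit_det A).mp hA).ne_zero
  have hlt : ∀ z : ZMod 3, z.val < 3 := fun z => ZMod.val_lt z
  have hcheck := (allFold_eq_true _ _).mp ((allFold_eq_true _ _).mp ((allFold_eq_true _ _).mp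
    ((allFold_eq_true _ _).mp surjCheck (A 0 0).val (hlt _)) (A 0 1).val (hlt _))
    (A 1 0).val (hlt _)) (A 1 1).val (hlt _)
  have hnz : (((A 0 0).val * (A 1 1).val + 2 * ((A 0 1).val * (A 1 0).val)) % 3 == 0) = false := by
    rw [beq_eq_false_iff_ne]
    intro h
    apply hdet
    have h2 : ((((A 0 0).val * (A 1 1).val + 2 * ((A 0 1).val * (A 1 0).val) : ℕ)) : ZMod 3) = 0 :=
      (ZMod.natCast_eq_zero_iff _ 3).mpr (Nat.dvd_of_mod_eq_zero h)
    push_cast at h2
    rw [ZMod.natCast_zmod_val, ZMod.natCast_zmod_val, ZMod.natCast_zmod_val,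
      ZMod.natCast_zmod_val] at h2
    have h3 : (2 : ZMod 3) = -1 := by decide
    rw [h3] at h2
    rw [← h2]
    ring
  rw [hnz, Bool.false_or, Bool.not_eq_eq_eq_not, Bool.not_true] at hcheck
  obtain ⟨k, hk, hkk⟩ := (allFold_false_iff _ _).mp hcheck
  simp only [Bool.not_eq_eq_eq_not, Bool.not_false, Bool.and_eq_true, beq_iff_eq] at hkk
  obtain ⟨⟨⟨h00, h10⟩, h01⟩, h11⟩ := hkk
  obtain ⟨σ, hσ, hT⟩ := inC_table k hk
  refine ⟨σ, hσ, ?_⟩
  have ia : idx (σ (pt 14)) = img (tb k) 14 := by rw [hT, idx_pt 14 (by norm_num)]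
  have ic : idx (σ (pt 15)) = img (tb k) 15 := by rw [hT, idx_pt 15 (by norm_num)]
  unfold Mat ℓ0 ℓ1
  rw [ia, ic, h00, h10, h01, h11, ZMod.natCast_zmod_val, ZMod.natCast_zmod_val,
    ZMod.natCast_zmod_val, ZMod.natCast_zmod_val]
  exact (Matrix.eta_fin_two A).symm

/-! ### reduction to the standard configuration -/

theorem exists_conj {d : Finset GolayPt} (hd : d ∈ dodecads) {p : GolayPt} (hp : p ∈ d)
    {σ : Equiv.Perm GolayPt} (hσ : σ ∈ M24) (hσd : σ • d = d) (hσp : σ p = p) (hne : σ ≠ 1)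
    (hsq : σ * σ = 1) :
    ∃ k ∈ M24, k • d = dod0 ∧ k p = pt 0 ∧ k * σ * k⁻¹ = x0 := by
  obtain ⟨a, b, c, e, hnd, had, hbd, hcd, hed, hab, hba, hce, hec⟩ :=
    exists_two_cycles hd hp hσ hσd hσp hne hsq
  obtain ⟨h, hh, hhd⟩ := exists_smul_dod0_eq hd
  let y : Fin 5 ↪ GolayPt := emb5 p a b c e hnd
  have hy : ∀ i, y i ∈ d := forall_fin5 hp had hbd hcd hed
  let y' : Fin 5 ↪ GolayPt := y.trans (Equiv.toEmbedding (h⁻¹ : Equiv.Perm GolayPt))
  have hy'a : ∀ i, y' i = h⁻¹ (y i) := fun i => rfl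
  have hy' : ∀ i, y' i ∈ dod0 := by
    intro i
    rw [hy'a, ← mem_smul_iff h, hhd]
    simpa using hy i
  obtain ⟨g, hg, _⟩ := Cfsg.Agent.S0384.result dod0 dod0_mem y' y0 hy' y0_mem
  have hgM : ((g : M24) : Equiv.Perm GolayPt) ∈ M24 := (g : M24).2
  have hgd : ((g : M24) : Equiv.Perm GolayPt) • dod0 = dod0 := MulAction.mem_stabilizer_iff.mp g.2
  have hkM : ((g : M24) : Equiv.Perm GolayPt) * h⁻¹ ∈ M24 := M24.mul_mem hgM (M24.inv_mem hh)
  have hkd : (((g : M24) : Equiv.Perm GolayPt) * h⁻¹) • d = dod0 := by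
    rw [mul_smul, inv_smul_eq_iff.mpr hhd.symm, hgd]
  have hky : ∀ i, (((g : M24) : Equiv.Perm GolayPt) * h⁻¹) (y i) = y0 i := by
    intro i
    rw [Equiv.Perm.mul_apply, ← hy'a, hg i]
  refine ⟨((g : M24) : Equiv.Perm GolayPt) * h⁻¹, hkM, hkd, hky 0, ?_⟩
  set k : Equiv.Perm GolayPt := ((g : M24) : Equiv.Perm GolayPt) * h⁻¹ with hkdef
  have hx'M : k * σ * k⁻¹ ∈ M24 := M24.mul_mem (M24.mul_mem hkM hσ) (M24.inv_mem hkM)
  have hx'd : (k * σ * k⁻¹) • dod0 = dod0 := by
    rw [mul_smul, mul_smul, inv_smul_eq_iff.mpr hkd.symm, hσd, hkd]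
  have hx'y : ∀ i, (k * σ * k⁻¹) (y0 i) = k (σ (y i)) := by
    intro i
    rw [← hky i]
    simp
  apply eq_of_agree dod0_mem hx'M x0_M24 hx'd x0_dod y0 y0_mem
  intro i
  rw [hx'y]
  revert i
  apply forall_fin5
  · show k (σ p) = x0 (pt 0)
    rw [hσp, x0_p]
    exact hky 0
  · show k (σ a) = x0 (pt 14)
    rw [hab, x0_a]
    exact hky 2
  · show k (σ b) = x0 (pt 22)
    rw [hba, x0_b]
    exact hky 1
  · show k (σ c) = x0 (pt 15)
    rw [hce, x0_c]
    exact hky 4
  · show k (σ e) = x0 (pt 18)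
    rw [hec, x0_e]
    exact hky 3

/-- Involution centralisers in the smallest Mathieu group are isomorphic to GL(2, 3). -/
theorem result (d : Finset Cfsg.GolayPt) (hd : d ∈ Cfsg.dodecads) (p : Cfsg.GolayPt) (hp : p ∈ d) (x : ↥(MulAction.stabilizer Cfsg.M24 d ⊓ MulAction.stabilizer Cfsg.M24 p)) (hx : orderOf x = 2) : Nonempty (↥(Subgroup.centralizer ({x} : Set ↥(MulAction.stabilizer Cfsg.M24 d ⊓ MulAction.stabilizer Cfsg.M24 p))) ≃* GL (Fin 2) (ZMod 3)) := by
  -- the coercion to permutations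
  let co : ↥(MulAction.stabilizer M24 d ⊓ MulAction.stabilizer M24 p) →* Equiv.Perm GolayPt :=
    (Subgroup.subtype M24).comp (Subgroup.subtype _)
  have hco_inj : Function.Injective co :=
    (Subgroup.subtype_injective M24).comp (Subgroup.subtype_injective _)
  have hcoM : ∀ z, co z ∈ M24 := fun z => (z : M24).2
  have hcod : ∀ z, co z • d = d := fun z =>
    MulAction.mem_stabilizer_iff.mp (Subgroup.mem_inf.mp z.2).1
  have hcop : ∀ z, co z p = p := fun z =>
    MulAction.mem_stabilizer_iff.mp (Subgroup.mem_inf.mp z.2).2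
  have hne : co x ≠ 1 := by
    intro h
    have h1 : x = 1 := hco_inj (by rw [h, map_one])
    rw [h1, orderOf_one] at hx
    exact absurd hx (by norm_num)
  have hsq : co x * co x = 1 := by
    rw [← map_mul, ← sq, ← hx, pow_orderOf_eq_one, map_one]
  obtain ⟨k, hk, hkd, hkp, hkx⟩ := exists_conj hd hp (hcoM x) (hcod x) (hcop x) hne hsq
  have hkd' : k⁻¹ • dod0 = d := inv_smul_eq_iff.mpr hkd.symm
  have hkp' : k⁻¹ (pt 0) = p := by rw [← hkp]; simp
  -- conjugating the centraliser into the standard one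
  let toP : ↥(Subgroup.centralizer ({x} : Set ↥(MulAction.stabilizer M24 d ⊓
      MulAction.stabilizer M24 p))) → Equiv.Perm GolayPt := fun c => k * co c.1 * k⁻¹
  have htoP_mul : ∀ c₁ c₂, toP (c₁ * c₂) = toP c₁ * toP c₂ := by
    intro c₁ c₂
    show k * co (c₁.1 * c₂.1) * k⁻¹ = (k * co c₁.1 * k⁻¹) * (k * co c₂.1 * k⁻¹)
    rw [map_mul]
    group
  have htoP_one : toP 1 = 1 := by
    show k * co 1 * k⁻¹ = 1
    rw [map_one]
    group
  have hC : ∀ c, InC (toP c) := by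
    intro c
    have hcx : co c.1 * co x = co x * co c.1 := by
      rw [← map_mul, ← map_mul]
      exact congrArg co (Subgroup.mem_centralizer_iff.mp c.2 x rfl).symm
    refine ⟨M24.mul_mem (M24.mul_mem hk (hcoM _)) (M24.inv_mem hk), ?_, ?_, ?_⟩
    · show (k * co c.1 * k⁻¹) • dod0 = dod0
      rw [mul_smul, mul_smul, hkd', hcod, hkd]
    · show (k * co c.1 * k⁻¹) (pt 0) = pt 0
      rw [Equiv.Perm.mul_apply, Equiv.Perm.mul_apply, hkp', hcop, hkp]
    · show (k * co c.1 * k⁻¹) * x0 = x0 * (k * co c.1 * k⁻¹)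
      rw [← hkx]
      calc k * co c.1 * k⁻¹ * (k * co x * k⁻¹) = k * (co c.1 * co x) * k⁻¹ := by group
        _ = k * (co x * co c.1) * k⁻¹ := by rw [hcx]
        _ = k * co x * k⁻¹ * (k * co c.1 * k⁻¹) := by group
  let F : ↥(Subgroup.centralizer ({x} : Set ↥(MulAction.stabilizer M24 d ⊓
      MulAction.stabilizer M24 p))) →* Matrix (Fin 2) (Fin 2) (ZMod 3) :=
    { toFun := fun c => Mat (toP c)
      map_one' := by rw [htoP_one, Mat_one]
      map_mul' := fun c₁ c₂ => by rw [htoP_mul, Mat_mul (inC_lin (hC c₁))] }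
  refine ⟨MulEquiv.ofBijective F.toHomUnits ⟨?_, ?_⟩⟩
  · rw [injective_iff_map_eq_one]
    intro c hc
    have h1 : F c = 1 := by
      have := congrArg Units.val hc
      rwa [MonoidHom.coe_toHomUnits] at this
    have h2 : toP c = 1 := eq_one_of_Mat (hC c) h1
    have h3 : co c.1 = 1 := by
      have : co c.1 = k⁻¹ * toP c * k := by
        show co c.1 = k⁻¹ * (k * co c.1 * k⁻¹) * k
        group
      rw [this, h2]
      group
    have h4 : c.1 = 1 := hco_inj (by rw [h3, map_one])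
    exact Subtype.ext h4
  · intro A
    obtain ⟨c', hc', hM⟩ := exists_of_matrix A.val A.isUnit
    have hτM : k⁻¹ * c' * k ∈ M24 := M24.mul_mem (M24.mul_mem (M24.inv_mem hk) hc'.1) hk
    have hτd : (k⁻¹ * c' * k) • d = d := by
      rw [mul_smul, mul_smul, hkd, hc'.2.1, hkd']
    have hτp : (k⁻¹ * c' * k) p = p := by
      rw [Equiv.Perm.mul_apply, Equiv.Perm.mul_apply, hkp, hc'.2.2.1, hkp']
    let τ₁ : M24 := ⟨k⁻¹ * c' * k, hτM⟩
    have hτ₁ : τ₁ ∈ MulAction.stabilizer M24 d ⊓ MulAction.stabilizer M24 p :=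
      Subgroup.mem_inf.mpr ⟨MulAction.mem_stabilizer_iff.mpr hτd,
        MulAction.mem_stabilizer_iff.mpr hτp⟩
    let τ₂ : ↥(MulAction.stabilizer M24 d ⊓ MulAction.stabilizer M24 p) := ⟨τ₁, hτ₁⟩
    have hco2 : co τ₂ = k⁻¹ * c' * k := rfl
    have hτ₂ : τ₂ ∈ Subgroup.centralizer ({x} : Set ↥(MulAction.stabilizer M24 d ⊓
        MulAction.stabilizer M24 p)) := by
      rw [Subgroup.mem_centralizer_iff]
      intro z hz
      rw [Set.mem_singleton_iff] at hz
      subst hz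
      apply hco_inj
      rw [map_mul, map_mul, hco2]
      have hxk : co z = k⁻¹ * x0 * k := by
        rw [← hkx]
        group
      rw [hxk]
      calc k⁻¹ * x0 * k * (k⁻¹ * c' * k) = k⁻¹ * (x0 * c') * k := by group
        _ = k⁻¹ * (c' * x0) * k := by rw [hc'.2.2.2]
        _ = k⁻¹ * c' * k * (k⁻¹ * x0 * k) := by group
    refine ⟨⟨τ₂, hτ₂⟩, ?_⟩
    apply Units.ext
    rw [MonoidHom.coe_toHomUnits]
    show Mat (k * co τ₂ * k⁻¹) = A.val
    rw [hco2, ← hM]
    congr 1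
    group
end Cfsg.Agent.S1603
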