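import Cfsg.Statements.S1606
import Cfsg.Agent.Lib.Helper27_M22Index
import Cfsg.Agent.S0366
import Cfsg.Agent.S0378

set_option autoImplicit false
open scoped Pointwise
open Cfsg

namespace Cfsg.Agent.S1606

open Cfsg.Agent.Lib.Helper27_M22Index Cfsg.Agent.Lib.Helper27_OutM22

theorem card_of_index (p q : Cfsg.GolayPt) (hpq : p ≠ q)
    (H : Subgroup ↥(MulAction.stabilizer Cfsg.M24 p ⊓ MulAction.stabilizer Cfsg.M24 q)) :
    Nat.card ↥H * H.index = 443520 := by
  rw [Subgroup.card_mul_index, Cfsg.Agent.S0378.result p q hpq]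

theorem aux (p q : Cfsg.GolayPt) (hpq : p ≠ q)
    (H : Subgroup ↥(MulAction.stabilizer Cfsg.M24 p ⊓ MulAction.stabilizer Cfsg.M24 q))
    (hcard : Nat.card ↥H = 7920 ∨ Nat.card ↥H = 2112) : False := by
  have h5 := Cfsg.Agent.S0366.result
  have h2 : MulAction.IsMultiplyPretransitive M24 GolayPt 2 :=
    MulAction.isMultiplyPretransitive_of_le (n := 5) (by norm_num)
      (by rw [Cfsg.Agent.S0378.card_golayPt]; norm_num)
  have h2' : ∀ a b c d : GolayPt, a ≠ b → c ≠ d → ∃ g : ↥M24, g • a = c ∧ g • b = d :=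
    fun a b c d hab hcd => MulAction.is_two_pretransitive_iff.1 h2 hab hcd
  obtain ⟨t, ht1, ht2⟩ := h2' (none : GolayPt) (some 0) p q (by decide) hpq
  have ht1' : t.1 none = p := ht1
  have ht2' : t.1 (some 0) = q := ht2
  -- the subgroup of permutations
  let ι : ↥(MulAction.stabilizer Cfsg.M24 p ⊓ MulAction.stabilizer Cfsg.M24 q) →*
      Equiv.Perm GolayPt := M24.subtype.comp (Subgroup.subtype _)
  have hι : Function.Injective ι := by
    intro x y h
    exact Subtype.ext (Subtype.ext h)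
  let φ : Equiv.Perm GolayPt ≃* Equiv.Perm GolayPt := MulAut.conj t.1⁻¹
  have hφ : ∀ w, φ w = t.1⁻¹ * w * t.1 := by
    intro w
    show MulAut.conj t.1⁻¹ w = _
    rw [MulAut.conj_apply, inv_inv]
  have hc : Nat.card ↥((H.map ι).map φ.toMonoidHom) = Nat.card ↥H := by
    rw [Subgroup.card_map_of_injective φ.injective, Subgroup.card_map_of_injective hι]
  apply no_subgroup ((H.map ι).map φ.toMonoidHom) ?_ (by rw [hc]; exact hcard)
  rintro z ⟨w, ⟨h, hh, rfl⟩, rfl⟩
  show φ (ι h) ∈ Spor.M22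
  rw [hφ, mem_M22]
  have hM : ι h ∈ M24 := h.1.2
  have hp : (ι h) p = p := MulAction.mem_stabilizer_iff.1 (Subgroup.mem_inf.1 h.2).1
  have hq : (ι h) q = q := MulAction.mem_stabilizer_iff.1 (Subgroup.mem_inf.1 h.2).2
  refine ⟨M24.mul_mem (M24.mul_mem (M24.inv_mem t.2) hM) t.2, ?_, ?_⟩
  · show t.1⁻¹ ((ι h) (t.1 none)) = none
    rw [ht1', hp]
    exact inv_apply_of_apply ht1'
  · show t.1⁻¹ ((ι h) (t.1 (some 0))) = some 0
    rw [ht2', hq]
    exact inv_apply_of_apply ht2'


/-- The stabiliser of two points in the group of the length-24 code has no subgroups of index 56 or 210. -/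
theorem result (p q : Cfsg.GolayPt) (hpq : p ≠ q) (H : Subgroup ↥(MulAction.stabilizer Cfsg.M24 p ⊓ MulAction.stabilizer Cfsg.M24 q)) : H.index ≠ 56 ∧ H.index ≠ 210 := by
  have h := card_of_index p q hpq H
  constructor
  · intro e
    rw [e] at h
    exact aux p q hpq H (Or.inl (by omega))
  · intro e
    rw [e] at h
    exact aux p q hpq H (Or.inr (by omega))


end Cfsg.Agent.S1606
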