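import Cfsg.Statements.S1609
import Cfsg.Agent.Lib.Helper93_S1609e

set_option autoImplicit false
open scoped Pointwise
open Cfsg

namespace Cfsg.Agent.S1609

/-- Subgroups of index 253 in the Mathieu group of degree 23 are exactly the duad stabilisers and the heptad stabilisers. -/
theorem result (x : Cfsg.GolayPt) (H : Subgroup ↥(MulAction.stabilizer Cfsg.M24 x)) (hH : H.index = 253) : (∃ s : Finset Cfsg.GolayPt, s.card = 2 ∧ x ∉ s ∧ H = (MulAction.stabilizer Cfsg.M24 s).subgroupOf (MulAction.stabilizer Cfsg.M24 x)) ∨ ∃ o ∈ Cfsg.octads, x ∈ o ∧ H = (MulAction.stabilizer Cfsg.M24 o).subgroupOf (MulAction.stabilizer Cfsg.M24 x) := by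
  classical
  let Gx : Subgroup ↥M24 := MulAction.stabilizer Cfsg.M24 x
  let Kp : Subgroup (Equiv.Perm GolayPt) := (H.map Gx.subtype).map M24.subtype
  have hmemKp : ∀ h : ↥Gx, ((h : ↥M24) : Equiv.Perm GolayPt) ∈ Kp ↔ h ∈ H := by
    intro h
    constructor
    · rintro ⟨y, ⟨z, hz, rfl⟩, hy⟩
      have e1 : Gx.subtype z = (h : ↥M24) := Subtype.ext hy
      have e2 : z = h := Subtype.ext e1
      rwa [← e2]
    · intro hh
      exact ⟨(h : ↥M24), ⟨h, hh, rfl⟩, rfl⟩
  have hKpM : Kp ≤ M24 := by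
    rintro _ ⟨y, _, rfl⟩
    exact y.2
  have hKpx : ∀ k ∈ Kp, k x = x := by
    rintro _ ⟨y, ⟨z, _, rfl⟩, rfl⟩
    exact MulAction.mem_stabilizer_iff.mp z.2
  have hGx : Nat.card ↥Gx = 10200960 := by
    have h1 := Cfsg.Agent.Lib.Helper93_S1609b.ncard_Fix1 {x} (Finset.card_singleton x)
    rw [← h1]
    have : Cfsg.Agent.Lib.Helper93_S1609b.PFix {x} =
        (fun g : ↥M24 => (g : Equiv.Perm GolayPt)) '' (Gx : Set ↥M24) := by
      ext g
      simp only [Cfsg.Agent.Lib.Helper93_S1609b.PFix, Set.mem_ofPred_eq, Set.mem_image,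
        SetLike.mem_coe, Finset.mem_singleton, forall_eq]
      constructor
      · rintro ⟨hg, hgx⟩
        exact ⟨⟨g, hg⟩, MulAction.mem_stabilizer_iff.mpr hgx, rfl⟩
      · rintro ⟨y, hy, rfl⟩
        exact ⟨y.2, MulAction.mem_stabilizer_iff.mp hy⟩
    rw [this, Set.ncard_image_of_injective _ Subtype.val_injective]
    rfl
  have hHcard : Nat.card ↥H = 40320 := by
    have h1 := Subgroup.card_mul_index H
    rw [hH, hGx] at h1
    omega
  have hKpcard : Nat.card ↥Kp = 40320 := by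
    rw [Subgroup.card_map_of_injective M24.subtype_injective,
      Subgroup.card_map_of_injective Gx.subtype_injective, hHcard]
  rcases Cfsg.Agent.Lib.Helper93_S1609e.perm_main Kp hKpM x hKpx hKpcard with
    ⟨s, hs, hxs, hK⟩ | ⟨o, ho, hxo, hK⟩
  · left
    refine ⟨s, hs, hxs, ?_⟩
    ext h
    rw [Subgroup.mem_subgroupOf, ← hmemKp h, hK]
    constructor
    · rintro ⟨_, _, h3⟩
      exact MulAction.mem_stabilizer_iff.mpr h3
    · intro h3
      exact ⟨(h : ↥M24).2, MulAction.mem_stabilizer_iff.mp h.2, MulAction.mem_stabilizer_iff.mp h3⟩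
  · right
    refine ⟨o, ho, hxo, ?_⟩
    ext h
    rw [Subgroup.mem_subgroupOf, ← hmemKp h, hK]
    constructor
    · rintro ⟨_, _, h3⟩
      exact MulAction.mem_stabilizer_iff.mpr h3
    · intro h3
      exact ⟨(h : ↥M24).2, MulAction.mem_stabilizer_iff.mp h.2, MulAction.mem_stabilizer_iff.mp h3⟩

end Cfsg.Agent.S1609
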