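import Mathlib
import Cfsg.Statements.S1612
import Cfsg.Agent.S5345
import Cfsg.Agent.Lib.Helper89_Prim
import Cfsg.Agent.Lib.Helper89_Blocks
import Cfsg.Agent.Lib.Helper89_Modules
import Cfsg.Agent.Lib.Helper89_RankThree
import Cfsg.Agent.Lib.Helper89_FischerHyp
import Cfsg.Agent.Lib.Helper89_TTClass
import Cfsg.Agent.Lib.Helper89_InvolSylow

set_option autoImplicit false
open Cfsg

namespace Cfsg.Agent.S1612

open Cfsg.Agent.Lib.Helper89_TTClass Cfsg.Agent.Lib.Helper89_InvolSylow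
  Cfsg.Agent.Lib.Helper89_Prim Cfsg.Agent.Lib.Helper89_RankThree
  Cfsg.Agent.Lib.Helper89_FischerHyp Cfsg.Agent.Lib.Helper89_Blocks
  Cfsg.Agent.Lib.Helper89_Modules

open scoped Pointwise

variable {G : Type*} [Group G]

/-- A commuting set of members of `D` generates a 2-group. -/
theorem isPGroup_closure {D E : Set G} (hD : Cfsg.IsThreeTranspositionClass D) (hE : E ⊆ D)
    (hc : ∀ a ∈ E, ∀ b ∈ E, Commute a b) : IsPGroup 2 ↥(Subgroup.closure E) := by
  have h1 : Subgroup.closure E ≤ Subgroup.centralizer E := by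
    rw [Subgroup.closure_le]
    intro e he
    rw [SetLike.mem_coe, Subgroup.mem_centralizer_iff]
    intro f hf
    exact (hc f hf e he).eq
  have h2 : Subgroup.closure E ≤ Subgroup.centralizer (Subgroup.closure E : Set G) := by
    rw [Subgroup.closure_le]
    intro e he
    rw [SetLike.mem_coe, Subgroup.mem_centralizer_iff]
    intro k hk
    have := Subgroup.mem_centralizer_iff.mp (h1 hk) e he
    exact this.symm
  have hsq : ∀ g ∈ Subgroup.closure E, g * g = 1 := by
    intro g hg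
    induction hg using Subgroup.closure_induction with
    | mem x hx => exact sq_of_orderOf_two (hD.1.1 x (hE hx))
    | one => simp
    | mul a b ha hb iha ihb =>
      have hab : b * a = a * b := Subgroup.mem_centralizer_iff.mp (h2 ha) b hb
      calc a * b * (a * b) = a * (b * a) * b := by group
        _ = a * (a * b) * b := by rw [hab]
        _ = (a * a) * (b * b) := by group
        _ = 1 := by rw [iha, ihb, one_mul]
    | inv a _ iha =>
      calc a⁻¹ * a⁻¹ = (a * a)⁻¹ := by group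
        _ = 1 := by rw [iha, inv_one]
  intro g
  refine ⟨1, ?_⟩
  apply Subtype.ext
  rw [pow_one, pow_two]
  exact hsq g.1 g.2

/-- A maximal commuting set is the set of members of `D` in any 2-subgroup containing it. -/
theorem inter_eq_of_max [Finite G] {D E : Set G} (hD : Cfsg.IsThreeTranspositionClass D)
    (hmax : ∀ E' : Set G, E' ⊆ D → (∀ a ∈ E', ∀ b ∈ E', Commute a b) → E'.ncard ≤ E.ncard)
    (hE : E ⊆ D) (T : Subgroup G) (hT : IsPGroup 2 ↥T) (hET : E ⊆ T) :
    {x : G | x ∈ D ∧ x ∈ T} = E := by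
  have hsub : E ⊆ {x : G | x ∈ D ∧ x ∈ T} := fun e he => ⟨hE he, hET he⟩
  have hle : {x : G | x ∈ D ∧ x ∈ T}.ncard ≤ E.ncard := by
    apply hmax _ (fun x hx => hx.1)
    intro a ha b hb
    exact Cfsg.Agent.S5345.comm_of_mem_two_group hD.1 T hT ha.1 hb.1 ha.2 hb.2
  exact (Set.eq_of_subset_of_ncard_le hsub hle (Set.toFinite _)).symm

/-- Two `p`-subgroups of a subgroup `C`: some `C`-conjugate of the second lies with the first
in a common `p`-subgroup. -/
theorem exists_conj_le_pGroup [Finite G] {p : ℕ} [Fact p.Prime] (C K₁ K₂ : Subgroup G)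
    (h₁ : K₁ ≤ C) (h₂ : K₂ ≤ C) (hp₁ : IsPGroup p ↥K₁) (hp₂ : IsPGroup p ↥K₂) :
    ∃ k ∈ C, ∃ T : Subgroup G, IsPGroup p ↥T ∧ K₁ ≤ T ∧ ∀ x ∈ K₂, k⁻¹ * x * k ∈ T := by
  have hq₁ : IsPGroup p ↥(K₁.subgroupOf C) := hp₁.comap_subtype
  have hq₂ : IsPGroup p ↥(K₂.subgroupOf C) := hp₂.comap_subtype
  obtain ⟨T₁, hT₁⟩ := hq₁.exists_le_sylow
  obtain ⟨T₂, hT₂⟩ := hq₂.exists_le_sylow
  obtain ⟨k, hk⟩ := MulAction.exists_smul_eq ↥C T₁ T₂
  refine ⟨k, k.2, (T₁ : Subgroup ↥C).map C.subtype, T₁.2.map _, ?_, ?_⟩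
  · intro x hx
    refine ⟨⟨x, h₁ hx⟩, hT₁ ?_, rfl⟩
    rw [Subgroup.mem_subgroupOf]
    exact hx
  · intro x hx
    have hx2 : (⟨x, h₂ hx⟩ : ↥C) ∈ (T₂ : Subgroup ↥C) := by
      apply hT₂
      rw [Subgroup.mem_subgroupOf]
      exact hx
    rw [← hk, Sylow.coe_subgroup_smul, Subgroup.mem_pointwise_smul_iff_inv_smul_mem] at hx2
    refine ⟨_, hx2, ?_⟩
    simp [MulAut.smul_def]

/-- In a 3-transposition group (no solvable normal subgroup, perfect derived group), the normaliser of a commuting set of transpositions of maximum size contains a Sylow 2-subgroup and is doubly transitive on the set. -/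
theorem result {G : Type*} [Group G] [Finite G] (hsol : ∀ N : Subgroup G, N.Normal → Group.IsSolvable ↥N → N = ⊥) (hperf : ⁅commutator G, commutator G⁆ = commutator G) {D : Set G} (hD : Cfsg.IsThreeTranspositionClass D) {E : Set G} (hE : E ⊆ D) (hc : ∀ a ∈ E, ∀ b ∈ E, Commute a b) (hmax : ∀ E' : Set G, E' ⊆ D → (∀ a ∈ E', ∀ b ∈ E', Commute a b) → E'.ncard ≤ E.ncard) : (∃ P : Sylow 2 G, (P : Subgroup G) ≤ Subgroup.normalizer E) ∧ ∀ a ∈ E, ∀ b ∈ E, ∀ c ∈ E, ∀ d ∈ E, a ≠ b → c ≠ d → ∃ g ∈ Subgroup.normalizer E, g * a * g⁻¹ = c ∧ g * b * g⁻¹ = d := by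
  have : Fact (Nat.Prime 2) := ⟨Nat.prime_two⟩
  obtain ⟨hprim, hw⟩ := prim_of_fischer hsol hperf hD
  have hconn := connected_of_prim hD hprim hw
  have hK : IsPGroup 2 ↥(Subgroup.closure E) := isPGroup_closure hD hE hc
  constructor
  · obtain ⟨P, hP⟩ := hK.exists_le_sylow
    have hEP : {x : G | x ∈ D ∧ x ∈ (P : Subgroup G)} = E :=
      inter_eq_of_max hD hmax hE (P : Subgroup G) P.2
        (fun e he => hP (Subgroup.subset_closure he))
    refine ⟨P, ?_⟩
    intro g hg
    rw [Subgroup.mem_set_normalizer_iff]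
    intro n
    rw [← hEP]
    constructor
    · rintro ⟨hn, hnP⟩
      exact ⟨conj_mem hD g hn, mul_mem (mul_mem hg hnP) (inv_mem hg)⟩
    · rintro ⟨hn, hnP⟩
      have e : n = g⁻¹ * (g * n * g⁻¹) * g⁻¹⁻¹ := by group
      rw [e]
      refine ⟨conj_mem hD g⁻¹ hn, ?_⟩
      rw [inv_inv]
      exact mul_mem (mul_mem (inv_mem hg) hnP) hg
  · intro a ha b hb c hcE d hdE hab hcd
    -- a conjugating element
    obtain ⟨h, hh⟩ := exists_conj hD (hE ha) (hE hcE)
    have hb' : h * b * h⁻¹ ∈ D := conj_mem hD h (hE hb)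
    have hb'c : h * b * h⁻¹ ≠ c := by
      intro heq
      apply hab
      rw [← hh] at heq
      exact (mul_left_cancel (mul_right_cancel heq)).symm
    have hcb' : Commute c (h * b * h⁻¹) := by
      rw [← hh]
      exact (Commute.conj_iff h).mpr (hc a ha b hb)
    obtain ⟨k₀, hk₀c, hk₀b⟩ := pc_of_commute hD hprim hconn (hE hcE) _ hb' d (hE hdE) hb'c
      (fun h => hcd h.symm) hcb' (hc c hcE d hdE)
    have hga : (k₀ * h) * a * (k₀ * h)⁻¹ = c := by
      calc (k₀ * h) * a * (k₀ * h)⁻¹ = k₀ * (h * a * h⁻¹) * k₀⁻¹ := by group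
        _ = c := by rw [hh, hk₀c]
    have hgb : (k₀ * h) * b * (k₀ * h)⁻¹ = d := by
      calc (k₀ * h) * b * (k₀ * h)⁻¹ = k₀ * (h * b * h⁻¹) * k₀⁻¹ := by group
        _ = d := hk₀b
    -- the two maximal commuting sets `E` and `g E g⁻¹` inside the centralizer of `c, d`
    have hcjD : cj (k₀ * h) E ⊆ D := by
      rintro _ ⟨e, he, rfl⟩
      exact conj_mem hD _ (hE he)
    have hcjc : ∀ x ∈ cj (k₀ * h) E, ∀ y ∈ cj (k₀ * h) E, Commute x y := by
      rintro _ ⟨e, he, rfl⟩ _ ⟨f, hf, rfl⟩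
      exact (Commute.conj_iff (k₀ * h)).mpr (hc e he f hf)
    have hK₂ : IsPGroup 2 ↥(Subgroup.closure (cj (k₀ * h) E)) := isPGroup_closure hD hcjD hcjc
    have h₁ : Subgroup.closure E ≤ Subgroup.centralizer ({c, d} : Set G) := by
      rw [Subgroup.closure_le]
      intro e he
      rw [SetLike.mem_coe, Subgroup.mem_centralizer_iff]
      intro z hz
      rcases hz with rfl | hz
      · exact (hc z hcE e he).eq
      · rw [Set.mem_singleton_iff] at hz
        rw [hz]
        exact (hc d hdE e he).eq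
    have h₂ : Subgroup.closure (cj (k₀ * h) E) ≤ Subgroup.centralizer ({c, d} : Set G) := by
      rw [Subgroup.closure_le]
      intro x hx
      rw [SetLike.mem_coe, Subgroup.mem_centralizer_iff]
      intro z hz
      have hcx : Commute c x := hcjc c ⟨a, ha, hga⟩ x hx
      have hdx : Commute d x := hcjc d ⟨b, hb, hgb⟩ x hx
      rcases hz with rfl | hz
      · exact hcx.eq
      · rw [Set.mem_singleton_iff] at hz
        rw [hz]
        exact hdx.eq
    obtain ⟨k, hkC, T, hT, hKT, hconjT⟩ :=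
      exists_conj_le_pGroup (Subgroup.centralizer ({c, d} : Set G)) _ _ h₁ h₂ hK hK₂
    have hET : {x : G | x ∈ D ∧ x ∈ T} = E :=
      inter_eq_of_max hD hmax hE T hT (fun e he => hKT (Subgroup.subset_closure he))
    have hkc : k⁻¹ * c * k = c := by
      have := Subgroup.mem_centralizer_iff.mp hkC c (Set.mem_insert c {d})
      rw [mul_assoc, this]; group
    have hkd : k⁻¹ * d * k = d := by
      have := Subgroup.mem_centralizer_iff.mp hkC d (Set.mem_insert_of_mem c rfl)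
      rw [mul_assoc, this]; group
    have hsub : cj (k⁻¹ * (k₀ * h)) E ⊆ E := by
      rintro _ ⟨e, he, rfl⟩
      rw [← hET]
      refine ⟨conj_mem hD _ (hE he), ?_⟩
      have e1 : k⁻¹ * (k₀ * h) * e * (k⁻¹ * (k₀ * h))⁻¹
          = k⁻¹ * ((k₀ * h) * e * (k₀ * h)⁻¹) * k := by group
      show k⁻¹ * (k₀ * h) * e * (k⁻¹ * (k₀ * h))⁻¹ ∈ T
      rw [e1]
      exact hconjT _ (Subgroup.subset_closure ⟨e, he, rfl⟩)
    have heq : cj (k⁻¹ * (k₀ * h)) E = E := by
      apply Set.eq_of_subset_of_ncard_le hsub _ (Set.toFinite _)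
      rw [cj_ncard]
    refine ⟨k⁻¹ * (k₀ * h), ?_, ?_, ?_⟩
    · rw [Subgroup.mem_set_normalizer_iff]
      intro n
      constructor
      · intro hn
        rw [← heq]
        exact ⟨n, hn, rfl⟩
      · intro hn
        rw [← heq] at hn
        obtain ⟨e, he, hen⟩ := hn
        have : e = n := mul_left_cancel (mul_right_cancel hen)
        rw [← this]; exact he
    · calc k⁻¹ * (k₀ * h) * a * (k⁻¹ * (k₀ * h))⁻¹
          = k⁻¹ * ((k₀ * h) * a * (k₀ * h)⁻¹) * k := by group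
        _ = c := by rw [hga, hkc]
    · calc k⁻¹ * (k₀ * h) * b * (k⁻¹ * (k₀ * h))⁻¹
          = k⁻¹ * ((k₀ * h) * b * (k₀ * h)⁻¹) * k := by group
        _ = d := by rw [hgb, hkd]

end Cfsg.Agent.S1612
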