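import Mathlib
import Cfsg.Statements.S1613
import Cfsg.Agent.Lib.Helper89_Prim
import Cfsg.Agent.Lib.Helper89_FischerHyp
import Cfsg.Agent.Lib.Helper89_LocalClass

set_option autoImplicit false
open Cfsg

namespace Cfsg.Agent.S1613

open Cfsg.Agent.Lib.Helper89_Prim Cfsg.Agent.Lib.Helper89_FischerHyp
  Cfsg.Agent.Lib.Helper89_LocalClass

/-- For a transposition x of a Fischer 3-transposition group, the transpositions commuting with x (other than x) form one conjugacy class of the subgroup they generate. -/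
theorem result {G : Type*} [Group G] [Finite G] (hsol : ∀ N : Subgroup G, N.Normal → Group.IsSolvable ↥N → N = ⊥) (hperf : ⁅commutator G, commutator G⁆ = commutator G) {D : Set G} (hD : Cfsg.IsThreeTranspositionClass D) (x : G) (hx : x ∈ D) : ∀ y ∈ {y : G | y ∈ D ∧ y ≠ x ∧ Commute x y}, ∀ y' ∈ {y : G | y ∈ D ∧ y ≠ x ∧ Commute x y}, ∃ g ∈ Subgroup.closure {y : G | y ∈ D ∧ y ≠ x ∧ Commute x y}, g * y * g⁻¹ = y' := by
  obtain ⟨hprim, hw⟩ := prim_of_fischer hsol hperf hD
  have hconn := connected_of_prim hD hprim hw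
  intro y hy y' hy'
  exact orb_of_mem hD hprim hconn hx y hy y' hy'

end Cfsg.Agent.S1613
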