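import Mathlib
import Cfsg.Statements.S1615
import Cfsg.Agent.Lib.Helper1_Cores
import Cfsg.Agent.Lib.Helper89_Prim
import Cfsg.Agent.Lib.Helper89_FischerHyp
import Cfsg.Agent.Lib.Helper89_LocalClass
import Cfsg.Agent.Lib.Helper89_SameNbr
import Cfsg.Agent.Lib.Helper89_LocalThree
import Cfsg.Agent.Lib.Helper89_LocalS5

set_option autoImplicit false
open Cfsg

namespace Cfsg.Agent.S1615

open Cfsg.Agent.Lib.Helper89_Prim Cfsg.Agent.Lib.Helper89_FischerHyp
  Cfsg.Agent.Lib.Helper89_LocalClass Cfsg.Agent.Lib.Helper89_SameNbr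
  Cfsg.Agent.Lib.Helper89_LocalThree Cfsg.Agent.Lib.Helper89_LocalS5

/-- If O(⟨D_x⟩) is not central in ⟨D_x⟩ for some transposition x, the 3-transposition group is the symmetric group of degree 5. -/
theorem result {G : Type*} [Group G] [Finite G] (hsol : ∀ N : Subgroup G, N.Normal → Group.IsSolvable ↥N → N = ⊥) (hperf : ⁅commutator G, commutator G⁆ = commutator G) {D : Set G} (hD : Cfsg.IsThreeTranspositionClass D) (x : G) (hx : x ∈ D) (h : ¬ Cfsg.oddCore ↥(Subgroup.closure {y : G | y ∈ D ∧ y ≠ x ∧ Commute x y}) ≤ Subgroup.center ↥(Subgroup.closure {y : G | y ∈ D ∧ y ≠ x ∧ Commute x y})) : Nonempty (G ≃* Equiv.Perm (Fin 5)) := by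
  obtain ⟨hprim, hw⟩ := prim_of_fischer hsol hperf hD
  have hconn := connected_of_prim hD hprim hw
  have hZ : Subgroup.center G = ⊥ :=
    hsol _ inferInstance (Group.isSolvable_of_comm (fun a b =>
      Subtype.ext (Subgroup.mem_center_iff.mp b.2 a)))
  -- an element of the odd core which is not central
  change ¬ Cfsg.oddCore ↥(Subgroup.closure (S D x)) ≤ Subgroup.center ↥(Subgroup.closure (S D x))
    at h
  rw [SetLike.not_le_iff_exists] at h
  obtain ⟨q, hq, hqc⟩ := h
  -- the image of the odd core in `G`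
  have hodd : Odd (Nat.card ((Cfsg.oddCore ↥(Subgroup.closure (S D x))).map
      (Subgroup.closure (S D x)).subtype)) := by
    rw [Subgroup.card_map_of_injective (Subgroup.subtype_injective _)]
    have := Cfsg.Agent.Lib.Helper1_Cores.pPrimeCore_card_coprime (G := ↥(Subgroup.closure (S D x))) 2
    exact (Nat.coprime_two_right.mp this)
  have hnorm : ∀ l ∈ Subgroup.closure (S D x),
      ∀ n ∈ (Cfsg.oddCore ↥(Subgroup.closure (S D x))).map (Subgroup.closure (S D x)).subtype,
      l * n * l⁻¹ ∈ (Cfsg.oddCore ↥(Subgroup.closure (S D x))).map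
        (Subgroup.closure (S D x)).subtype := by
    rintro l hl _ ⟨n, hn, rfl⟩
    have hN : (Cfsg.oddCore ↥(Subgroup.closure (S D x))).Normal :=
      Cfsg.Agent.Lib.Helper1_Cores.pPrimeCore_normal 2
    exact ⟨⟨l, hl⟩ * n * ⟨l, hl⟩⁻¹, hN.conj_mem n hn ⟨l, hl⟩, rfl⟩
  have hqN : (q : G) ∈ (Cfsg.oddCore ↥(Subgroup.closure (S D x))).map
      (Subgroup.closure (S D x)).subtype := ⟨q, hq, rfl⟩
  -- a generator not commuting with `q`
  have hex : ∃ y ∈ S D x, ¬ Commute (q : G) y := by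
    by_contra hcon
    push Not at hcon
    apply hqc
    rw [Subgroup.mem_center_iff]
    intro l
    apply Subtype.ext
    rw [Subgroup.coe_mul, Subgroup.coe_mul]
    have := conj_eq_of_commute_closure hcon l.2
    calc (l : G) * q = ((q : G) * l * (q : G)⁻¹) * q := by rw [this]
      _ = q * l := by group
  obtain ⟨y, hy, hqy⟩ := hex
  have hsame := exists_sameNbr hD _ hodd hnorm hqN q.2 hy hqy
  have hAC : AC D := eq_of_commute_of_sameNbr hD hprim hconn hx hsame
  have hpair : ∃ d ∈ D, ∃ a ∈ S D d, ∃ a₂ ∈ S D d, a ≠ a₂ :=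
    ⟨x, hx, y, hsame.1, _, hsame.2.1, fun h' => hsame.2.2.1 (h' ▸ Commute.refl y)⟩
  exact nonempty_mulEquiv_of_AC hD hprim hconn hAC hpair hZ

end Cfsg.Agent.S1615
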