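import Cfsg.Statements.S1618
import Mathlib
import Cfsg.Agent.Lib.Helper1_Cores
import Cfsg.Agent.S5560

set_option autoImplicit false
set_option linter.style.haveILetI false
open Cfsg
open scoped commutatorElement

namespace Cfsg.Agent.S1618


/-- If all products of two members of a generating set of involutions lie in `O_p(G)`, then the
derived subgroup of `G` is nilpotent. -/
theorem nilpotent_of_prod_mem_pCore {G : Type*} [Group G] [Finite G] (p : ℕ) (hp : p.Prime)
    {D : Set G} (hinv : ∀ d ∈ D, orderOf d = 2) (hgen : Subgroup.closure D = ⊤)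
    (hcore : ∀ a ∈ D, ∀ b ∈ D, a * b ∈ Cfsg.pCore p G) :
    Group.IsNilpotent ↥(commutator G) := by
  haveI : Fact p.Prime := ⟨hp⟩
  haveI : (Cfsg.pCore p G).Normal := Cfsg.Agent.Lib.Helper1_Cores.pCore_normal p
  have hle : commutator G ≤ Cfsg.pCore p G := by
    rcases D.eq_empty_or_nonempty with hD | ⟨d₀, hd₀⟩
    · -- `G` is trivial
      rw [hD, Subgroup.closure_empty] at hgen
      intro x _
      have : x ∈ (⊥ : Subgroup G) := by rw [hgen]; exact Subgroup.mem_top x
      rw [Subgroup.mem_bot] at this
      rw [this]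
      exact Subgroup.one_mem _
    · set φ := QuotientGroup.mk' (Cfsg.pCore p G) with hφ
      -- all members of `D` have the same image
      have himg : ∀ a ∈ D, φ a = φ d₀ := by
        intro a ha
        have h1 : φ (a * d₀) = 1 := (QuotientGroup.eq_one_iff _).mpr (hcore a ha d₀ hd₀)
        have h2 : d₀ * d₀ = 1 := by
          have := pow_orderOf_eq_one d₀
          rwa [hinv d₀ hd₀, pow_two] at this
        have h3 : φ d₀ * φ d₀ = 1 := by rw [← map_mul, h2, map_one]
        rw [map_mul] at h1
        calc φ a = φ a * (φ d₀ * φ d₀) := by rw [h3, mul_one]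
          _ = (φ a * φ d₀) * φ d₀ := by rw [mul_assoc]
          _ = φ d₀ := by rw [h1, one_mul]
      -- hence the quotient is cyclic
      have hall : ∀ x : G, φ x ∈ Subgroup.zpowers (φ d₀) := by
        intro x
        have hx : x ∈ Subgroup.closure D := by rw [hgen]; exact Subgroup.mem_top x
        have hsub : Subgroup.closure D ≤ (Subgroup.zpowers (φ d₀)).comap φ := by
          rw [Subgroup.closure_le]
          intro a ha
          change φ a ∈ Subgroup.zpowers (φ d₀)
          rw [himg a ha]
          exact Subgroup.mem_zpowers _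
        exact hsub hx
      rw [commutator_def, Subgroup.commutator_le]
      intro x _ y _
      obtain ⟨i, hi⟩ := hall x
      obtain ⟨j, hj⟩ := hall y
      rw [← QuotientGroup.eq_one_iff]
      change φ ⁅x, y⁆ = 1
      rw [commutatorElement_def, map_mul, map_mul, map_mul, map_inv, map_inv, ← hi, ← hj]
      have hc : (φ d₀) ^ i * (φ d₀) ^ j = (φ d₀) ^ j * (φ d₀) ^ i := zpow_mul_comm _ _ _
      rw [hc]
      group
  have hpg : IsPGroup p (commutator G) :=
    (Cfsg.Agent.Lib.Helper1_Cores.pCore_isPGroup (G := G) p).to_le hle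
  exact hpg.isNilpotent

/-- A group generated by a class of involutions whose pairwise products (of distinct members) have p-power order for a fixed odd prime p has nilpotent derived subgroup. -/
theorem result {G : Type*} [Group G] [Finite G] (p : ℕ) (hp : p.Prime) (hodd : p ≠ 2) {D : Set G} (hinv : ∀ d ∈ D, orderOf d = 2) (hconj : ∃ d ∈ D, D = conjugatesOf d) (hgen : Subgroup.closure D = ⊤) (hprod : ∀ x ∈ D, ∀ y ∈ D, x ≠ y → ∃ k : ℕ, orderOf (x * y) = p ^ k) : Group.IsNilpotent ↥(commutator G) := by
  obtain ⟨d, hdD, hDeq⟩ := hconj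
  apply nilpotent_of_prod_mem_pCore p hp hinv hgen
  have hd2 : orderOf d = 2 := hinv d hdD
  have key := Cfsg.Agent.S5560.result hp hodd d hd2 (by
    intro a ha b hb
    by_cases hab : a = b
    · refine ⟨0, ?_⟩
      have ha2 : orderOf a = 2 := hinv a (by rw [hDeq]; exact ha)
      have : a * a = 1 := by
        have := pow_orderOf_eq_one a
        rwa [ha2, pow_two] at this
      rw [← hab, this, orderOf_one, pow_zero]
    · exact hprod a (by rw [hDeq]; exact ha) b (by rw [hDeq]; exact hb) hab)
  intro a ha b hb
  rw [hDeq] at ha hb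
  exact key a ha b hb

end Cfsg.Agent.S1618
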