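import Cfsg.Statements.S1624
import Cfsg.Agent.Lib.Helper8_U33Orb

set_option autoImplicit false
open Quaternion
open Cfsg

namespace Cfsg.Agent.S1624

/-- The Hall–Janko group contains PSU(3, 3) with index 100 and acts on the 100 cosets with rank 3 and subdegrees 1, 36, 63. -/
theorem result : ∃ H : Subgroup Cfsg.Spor.J2, H.index = 100 ∧ (∃ (F : Type) (_ : Field F) (_ : Fintype F), Fintype.card F = 9 ∧ Nonempty (↥H ≃* Cfsg.PSU 3 F 3)) ∧ ∃ c₁ c₂ : Cfsg.Spor.J2 ⧸ H, (MulAction.orbit ↥H c₁).ncard = 36 ∧ (MulAction.orbit ↥H c₂).ncard = 63 := by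
  refine ⟨Cfsg.Agent.Lib.Helper8_U33.HU, Cfsg.Agent.Lib.Helper8_U33.index_HU,
    ⟨Cfsg.Agent.Lib.Helper61_F9.F9, inferInstance, inferInstance, Cfsg.Agent.Lib.Helper61_F9.F9.card, ?_⟩,
    QuotientGroup.mk Cfsg.Agent.Lib.Helper8_U33.x1, QuotientGroup.mk Cfsg.Agent.Lib.Helper8_U33.x2,
    Cfsg.Agent.Lib.Helper8_U33.orbit_ncards⟩
  obtain ⟨e1⟩ := Cfsg.Agent.Lib.Helper8_U33.exists_equivHU
  obtain ⟨e2⟩ := Cfsg.Agent.Lib.Helper8_U33.exists_iso_SU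
  have e5 : Cfsg.PSU 3 Cfsg.Agent.Lib.Helper61_F9.F9 3 ≃* ↥(Cfsg.SU 3 Cfsg.Agent.Lib.Helper61_F9.F9 3) :=
    (QuotientGroup.quotientMulEquivOfEq Cfsg.Agent.Lib.Helper61_SU33Spec.center_SU).trans
      QuotientGroup.quotientBot
  exact ⟨e1.symm.trans (e2.trans e5.symm)⟩

end Cfsg.Agent.S1624
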