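import Cfsg.Statements.S1628
import Cfsg.Agent.Lib.Helper26_RuMin

set_option autoImplicit false
open Cfsg

namespace Cfsg.Agent.S1628

open Cfsg.Spor Cfsg.Agent.Lib.Helper26_Ru in
theorem first_mem : ruTable.getD 0 0 ∈ ruLattice := by
  rw [ruLattice, AddSubgroup.mem_sInf]
  intro L hL
  exact hL.1 _ (by simp [ruTable])

open Cfsg.Spor Cfsg.Agent.Lib.Helper26_Ru in
set_option maxRecDepth 100000 in
theorem first_norm : ruNorm (ruTable.getD 0 0) = 16 := by decide +kernel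

open Cfsg.Spor Cfsg.Agent.Lib.Helper26_Ru in
theorem eq_zero_of_norm {x : RuVec} (h : ruNorm x = 0) : x = 0 := by
  unfold ruNorm at h
  funext p
  have := (Finset.sum_eq_zero_iff_of_nonneg (fun r _ => gnorm_nonneg (x r))).1 h p
    (Finset.mem_univ p)
  exact (gnorm_eq_zero _).1 this

/-- The Conway–Wales lattice as stored is even with no vectors of true norm 2: stored norms are multiples of 8, never equal to 8, and the minimum over nonzero vectors is 16. -/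
theorem result : (∀ x ∈ Cfsg.Spor.ruLattice, (8 : ℤ) ∣ Cfsg.Spor.ruNorm x) ∧ (∀ x ∈ Cfsg.Spor.ruLattice, Cfsg.Spor.ruNorm x ≠ 8) ∧ (∀ x ∈ Cfsg.Spor.ruLattice, x ≠ 0 → 16 ≤ Cfsg.Spor.ruNorm x) ∧ ∃ x ∈ Cfsg.Spor.ruLattice, Cfsg.Spor.ruNorm x = 16 := by
  refine ⟨fun x hx => Cfsg.Agent.Lib.Helper26_Ru.norm_dvd x
      (Cfsg.Agent.Lib.Helper26_Ru.ruLattice_le x hx),
    fun x hx => Cfsg.Agent.Lib.Helper26_Ru.norm_ne_eight hx, fun x hx hx0 => ?_,
    ⟨_, first_mem, first_norm⟩⟩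
  have h8 := Cfsg.Agent.Lib.Helper26_Ru.norm_dvd x (Cfsg.Agent.Lib.Helper26_Ru.ruLattice_le x hx)
  have hne := Cfsg.Agent.Lib.Helper26_Ru.norm_ne_eight hx
  have hnn : 0 ≤ Cfsg.Spor.ruNorm x :=
    Finset.sum_nonneg fun r _ => Cfsg.Agent.Lib.Helper26_Ru.gnorm_nonneg (x r)
  have h0 : Cfsg.Spor.ruNorm x ≠ 0 := fun h => hx0 (eq_zero_of_norm h)
  omega

end Cfsg.Agent.S1628
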