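import Cfsg.Statements.S1630
import Cfsg.Agent.Lib.Helper8_OrthF2Mat
import Cfsg.Agent.Lib.Helper44_StdForms

set_option autoImplicit false
open scoped MatrixGroups
open Cfsg

namespace Cfsg.Agent.S1630

open Cfsg.Agent.Lib.Helper8_OrthF2Mat Cfsg.Agent.Lib.Helper44_StdForms

theorem nondeg (m : ℕ) : (Bf (qfMinus m (ZMod 2) 1 1)).Nondegenerate := by
  have hB := Bf_isAlt (qfMinus m (ZMod 2) 1 1)
  refine (LinearMap.IsRefl.nondegenerate_iff_separatingLeft hB.isRefl).mpr ?_
  intro x hx
  have h2 : (2 : ZMod 2) = 0 := by decide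
  have key : ∀ y : (Fin m ⊕ Fin m) ⊕ Fin 2 → ZMod 2,
      (∑ i : Fin m, (x (Sum.inl (Sum.inl i)) * y (Sum.inl (Sum.inr i))
            + y (Sum.inl (Sum.inl i)) * x (Sum.inl (Sum.inr i))))
        + (x (Sum.inr 0) * y (Sum.inr 1) + y (Sum.inr 0) * x (Sum.inr 1)) = 0 := by
    intro y
    have := hx y
    rw [Bf_apply, coe_qfMinus, polar_quadFormMinus, h2] at this
    simpa using this
  funext j
  rcases j with (i | i) | i
  · have := key (Pi.single (Sum.inl (Sum.inr i)) 1)
    simpa [Pi.single_apply] using this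
  · have := key (Pi.single (Sum.inl (Sum.inl i)) 1)
    simpa [Pi.single_apply] using this
  · fin_cases i
    · have := key (Pi.single (Sum.inr 1) 1)
      simpa [Pi.single_apply] using this
    · have := key (Pi.single (Sum.inr 0) 1)
      simpa [Pi.single_apply] using this


/-- The orthogonal transvections of the minus-type orthogonal group in dimension ≥ 6 over the field with two elements form a generating conjugacy class of 3-transpositions. -/
theorem result (m : ℕ) (hm : 2 ≤ m) : Cfsg.IsThreeTranspositionClass {g : ↥(Cfsg.isometryGroup (ZMod 2) (Cfsg.quadFormMinus m (ZMod 2) 1 1)) | (((g : GL ((Fin m ⊕ Fin m) ⊕ Fin 2) (ZMod 2)) : Matrix ((Fin m ⊕ Fin m) ⊕ Fin 2) ((Fin m ⊕ Fin m) ⊕ Fin 2) (ZMod 2)) - 1).rank = 1} := by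
  have h := three_transp_class (qfMinus m (ZMod 2) 1 1) (nondeg m) (by simp; omega)
  rw [coe_qfMinus] at h
  exact h

end Cfsg.Agent.S1630
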