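import Cfsg.Statements.S1631
import Cfsg.Agent.S2644
import Cfsg.Agent.S0780

set_option autoImplicit false
open scoped MatrixGroups
open Cfsg

namespace Cfsg.Agent.S1631

open Matrix Module Cfsg.Agent.Lib.Helper94_Herm Cfsg.Agent.Lib.Helper94_HermTrans
  Cfsg.Agent.Lib.Helper94_HermBridge Cfsg.Agent.Lib.Helper94_Bridge
  Cfsg.Agent.Lib.Helper94_SLBridge Cfsg.Agent.Lib.Helper99_UnitaryTv Cfsg.Agent.S2644

section general

variable {K : Type*} [Field K] {n : ℕ}

/-- A matrix of determinant one with `M - 1` of rank one satisfies `(M - 1)^2 = 0`. -/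
lemma sq_zero_of_rank_one (M : Matrix (Fin n) (Fin n) K) (hdet : M.det = 1)
    (hr : (M - 1).rank = 1) : (M - 1) * (M - 1) = 0 := by
  obtain ⟨N, hN⟩ : ∃ N, N = M - 1 := ⟨_, rfl⟩
  rw [← hN] at hr ⊢
  have hr' : finrank K (LinearMap.range N.mulVecLin) = 1 := hr
  obtain ⟨⟨a, haR⟩, ha0, hspan⟩ := finrank_eq_one_iff'.mp hr'
  have ha0' : a ≠ 0 := fun h => ha0 (Subtype.ext h)
  obtain ⟨i, hi⟩ : ∃ i, a i ≠ 0 := by
    by_contra h
    push Not at h
    exact ha0' (funext h)
  let φ : (Fin n → K) →ₗ[K] K := ((a i)⁻¹ • LinearMap.proj i).comp N.mulVecLin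
  have hφ : ∀ x, N *ᵥ x = φ x • a := by
    intro x
    obtain ⟨r, hr⟩ := hspan ⟨N *ᵥ x, ⟨x, rfl⟩⟩
    have hr2 : r • a = N *ᵥ x := congrArg Subtype.val hr
    have : φ x = r := by
      change (a i)⁻¹ • (N *ᵥ x) i = r
      rw [← hr2, Pi.smul_apply, smul_eq_mul, smul_eq_mul, mul_comm r, ← mul_assoc,
        inv_mul_cancel₀ hi, one_mul]
    rw [this, hr2]
  have hM : Matrix.toLin' M = LinearMap.transvection φ a := by
    apply LinearMap.ext
    intro x
    rw [Matrix.toLin'_apply, LinearMap.transvection.apply, ← hφ, hN, Matrix.sub_mulVec,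
      Matrix.one_mulVec]
    abel
  have hdet' : LinearMap.det (Matrix.toLin' M) = 1 := by rw [LinearMap.det_toLin', hdet]
  rw [hM, LinearMap.transvection.det] at hdet'
  have hφa : φ a = 0 := by linear_combination hdet'
  have hNa : N *ᵥ a = 0 := by rw [hφ, hφa, zero_smul]
  apply Matrix.toLin'.injective
  apply LinearMap.ext
  intro x
  rw [Matrix.toLin'_apply, ← Matrix.mulVec_mulVec, hφ x, Matrix.mulVec_smul, hNa, smul_zero]
  simp

/-- If `(M - 1) x = f x • a` with `a ≠ 0` and `f` not identically zero, then `M - 1` has rank one. -/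
lemma rank_one_of_apply (M : Matrix (Fin n) (Fin n) K) (a : Fin n → K) (ha : a ≠ 0)
    (f : (Fin n → K) → K) (hf : ∃ x, f x ≠ 0) (h : ∀ x, M *ᵥ x = x + f x • a) :
    (M - 1).rank = 1 := by
  have hN : ∀ x, (M - 1) *ᵥ x = f x • a := by
    intro x
    rw [Matrix.sub_mulVec, Matrix.one_mulVec, h]
    abel
  have hrange : LinearMap.range (M - 1).mulVecLin = Submodule.span K {a} := by
    apply le_antisymm
    · rintro _ ⟨x, rfl⟩
      rw [Matrix.mulVecLin_apply, hN]
      exact Submodule.smul_mem _ _ (Submodule.mem_span_singleton_self a)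
    · rw [Submodule.span_singleton_le_iff_mem]
      obtain ⟨x, hx⟩ := hf
      refine ⟨(f x)⁻¹ • x, ?_⟩
      rw [Matrix.mulVecLin_apply, Matrix.mulVec_smul, hN, smul_smul, inv_mul_cancel₀ hx, one_smul]
  change finrank K (LinearMap.range (M - 1).mulVecLin) = 1
  rw [hrange]
  exact finrank_span_singleton ha

end general


section four

variable {F : Type} [Field F] [Fintype F] {n : ℕ}

lemma two_eq_zero (hF : Fintype.card F = 4) : (2 : F) = 0 := by
  have h4 : ((4 : ℕ) : F) = 0 := by rw [← hF]; exact Nat.cast_card_eq_zero F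
  have h22 : (2 : F) * 2 = 0 := by
    have : ((4 : ℕ) : F) = 2 * 2 := by norm_num
    rw [← this]; exact h4
  exact mul_self_eq_zero.mp h22

lemma add_self_eq_zero' (hF : Fintype.card F = 4) (x : F) : x + x = 0 := by
  have := two_eq_zero hF
  linear_combination x * this

lemma neg_eq_self (hF : Fintype.card F = 4) (x : F) : -x = x := by
  have := add_self_eq_zero' hF x
  linear_combination -this

lemma cube_eq_one (hF : Fintype.card F = 4) {x : F} (hx : x ≠ 0) : x ^ 3 = 1 := by
  have := FiniteField.pow_card_sub_one_eq_one x hx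
  rw [hF] at this
  exact this

variable (σ : F →+* F) (hσq : ∀ x, σ x = x ^ 2)

/-- The set of unitary transvections, described through `utv`. -/
lemma mem_iff (hF : Fintype.card F = 4) (hσ : Invol σ) (s : ↥(Cfsg.SU n F 2)) :
    (((s : Matrix.SpecialLinearGroup (Fin n) F) : Matrix (Fin n) (Fin n) F) - 1).rank = 1 ↔
      ∃ a : Fin n → F, a ≠ 0 ∧ hermB n σ hσq a a = 0 ∧ psi s = utv (hermB n σ hσq) a 1 := by
  constructor
  · intro hr
    have hdet : ((s : Matrix.SpecialLinearGroup (Fin n) F) : Matrix (Fin n) (Fin n) F).det = 1 :=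
      (s : Matrix.SpecialLinearGroup (Fin n) F).2
    have hsq := sq_zero_of_rank_one _ hdet hr
    obtain ⟨a, c, ha0, hc0, hc, haa, hs⟩ := psi_eq_utv σ hσq hσ s ⟨hr, hsq⟩
    refine ⟨a, ha0, haa, ?_⟩
    have hc1 : c = 1 := by
      rw [hσq, neg_eq_self hF] at hc
      have : c * (c - 1) = 0 := by linear_combination hc
      rcases mul_eq_zero.mp this with h | h
      · exact absurd h hc0
      · exact sub_eq_zero.mp h
    rw [hs, hc1]
  · rintro ⟨a, ha0, haa, hs⟩
    obtain ⟨y, -, hy⟩ := hermB_nondeg σ hσq a trivial ha0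
    have hya : hermB n σ hσq y a ≠ 0 := herm_ne_zero hσ (hermB_isHerm σ hσq hσ) hy
    refine rank_one_of_apply _ a ha0 (fun x => hermB n σ hσq x a) ⟨y, hya⟩ ?_
    intro x
    have h1 := psi_apply s x
    rw [hs, utv_apply _ haa, one_mul] at h1
    exact h1.symm

end four


section main

variable {F : Type} [Field F] [Fintype F] {n : ℕ}
variable (σ : F →+* F) (hσq : ∀ x, σ x = x ^ 2)

lemma utv_one_sq (hF : Fintype.card F = 4) (a : Fin n → F) :
    utv (hermB n σ hσq) a 1 * utv (hermB n σ hσq) a 1 = 1 := by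
  by_cases haa : hermB n σ hσq a a = 0
  · apply LinearEquiv.ext
    intro x
    rw [LinearEquiv.mul_apply, utv_apply _ haa, utv_apply _ haa]
    simp only [one_mul, map_add, map_smul, LinearMap.add_apply, LinearMap.smul_apply, haa,
      smul_eq_mul, mul_zero, add_zero, LinearEquiv.coe_one, id_eq]
    rw [add_assoc, ← add_smul, add_self_eq_zero' hF, zero_smul, add_zero]
  · simp [utv, haa]

/-- Two unitary transvections with orthogonal centres commute; otherwise they satisfy the braid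
relation. -/
lemma utv_conj_eq (hF : Fintype.card F = 4) (hσ : Invol σ) {a b : Fin n → F}
    (haa : hermB n σ hσq a a = 0) (hbb : hermB n σ hσq b b = 0) :
    (hermB n σ hσq a b = 0 →
      utv (hermB n σ hσq) a 1 * utv (hermB n σ hσq) b 1 * (utv (hermB n σ hσq) a 1)⁻¹ =
        utv (hermB n σ hσq) b 1) ∧
    (hermB n σ hσq a b ≠ 0 →
      utv (hermB n σ hσq) a 1 * utv (hermB n σ hσq) b 1 * (utv (hermB n σ hσq) a 1)⁻¹ =
        utv (hermB n σ hσq) b 1 * utv (hermB n σ hσq) a 1 * (utv (hermB n σ hσq) b 1)⁻¹) := by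
  have hB : IsHerm (hermB n σ hσq) := hermB_isHerm σ hσq hσ
  have hσ1 : σ 1 = -1 := by rw [map_one, neg_eq_self hF]
  have hua : utv (hermB n σ hσq) a 1 ∈ uG (hermB n σ hσq) := utv_mem_uG hB a hσ1
  have hub : utv (hermB n σ hσq) b 1 ∈ uG (hermB n σ hσq) := utv_mem_uG hB b hσ1
  constructor
  · intro h0
    rw [conj_utv hua, utv_apply _ haa, herm_eq_zero hB h0, mul_zero, zero_smul, add_zero]
  · intro hβ
    rw [conj_utv hua, conj_utv hub, utv_apply _ haa, utv_apply _ hbb, one_mul, one_mul]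
    obtain ⟨β, hβdef⟩ : ∃ β, β = hermB n σ hσq a b := ⟨_, rfl⟩
    have hba : hermB n σ hσq b a = σ β := by rw [hβdef]; exact hB a b
    rw [hba, ← hβdef]
    have hβ0 : β ≠ 0 := by rw [hβdef]; exact hβ
    have hN : σ β * β = 1 := by
      rw [hσq, ← pow_succ]
      exact cube_eq_one hF hβ0
    have hvec : b + σ β • a = σ β • (a + β • b) := by
      rw [smul_add, smul_smul, hN, one_smul, add_comm]
    rw [hvec, utv_smul, hσ.invol, hN, one_mul]

end main


section assemble

variable {F : Type} [Field F] {n : ℕ}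

/-- A generator `x ↦ x + c h(x, v) v` lying in `SU` is trivial or has `g - 1` of rank one. -/
lemma gen_mem (s : ↥(Cfsg.SU n F 2)) (v : Fin n → F) (c : F)
    (hs : ((s : Matrix.SpecialLinearGroup (Fin n) F) : Matrix (Fin n) (Fin n) F) =
      Cfsg.unitaryTransvection n 2 v c) :
    s = 1 ∨ (((s : Matrix.SpecialLinearGroup (Fin n) F) : Matrix (Fin n) (Fin n) F) - 1).rank = 1 := by
  by_cases hc : c = 0
  · left
    apply Subtype.ext
    apply Subtype.ext
    rw [hs, hc]
    simp [Cfsg.unitaryTransvection]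
  by_cases hv : v = 0
  · left
    apply Subtype.ext
    apply Subtype.ext
    rw [hs, hv]
    have : Matrix.vecMulVec (0 : Fin n → F) (fun j => ((0 : Fin n → F) j) ^ 2) = 0 := by
      ext i j
      simp [Matrix.vecMulVec_apply]
    simp [Cfsg.unitaryTransvection]
  right
  obtain ⟨j, hj⟩ : ∃ j, v j ≠ 0 := by
    by_contra h
    push Not at h
    exact hv (funext h)
  refine rank_one_of_apply _ v hv (fun x => c * ((fun j => (v j) ^ 2) ⬝ᵥ x)) ⟨Pi.single j 1, ?_⟩ ?_
  · simp only [dotProduct_single_one]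
    exact mul_ne_zero hc (pow_ne_zero 2 hj)
  · intro x
    rw [hs, Cfsg.unitaryTransvection, Matrix.add_mulVec, Matrix.one_mulVec, Matrix.smul_mulVec,
      Matrix.vecMulVec_mulVec, op_smul_eq_smul, smul_smul]

theorem main [Fintype F] (hF : Fintype.card F = 4) (hn : 4 ≤ n)
    (hgen : Subgroup.closure {A : ↥(Cfsg.SU n F 2) | ∃ (v : Fin n → F) (c : F),
      Cfsg.hermForm n F 2 v v = 0 ∧
        ((A : Matrix.SpecialLinearGroup (Fin n) F) : Matrix (Fin n) (Fin n) F) =
          Cfsg.unitaryTransvection n 2 v c} = ⊤) :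
    Cfsg.IsThreeTranspositionClass {g : ↥(Cfsg.SU n F 2) |
      (((g : Matrix.SpecialLinearGroup (Fin n) F) : Matrix (Fin n) (Fin n) F) - 1).rank = 1} := by
  have hF' : Fintype.card F = 2 ^ 2 := by rw [hF]; norm_num
  obtain ⟨σ, hσq, hσ⟩ := exists_frob hF'
  have hB : IsHerm (hermB n σ hσq) := hermB_isHerm σ hσq hσ
  have hnd : NondegOn (hermB n σ hσq) ⊤ := hermB_nondeg σ hσq
  obtain ⟨D, hD⟩ : ∃ D : Set ↥(Cfsg.SU n F 2), D = {g : ↥(Cfsg.SU n F 2) |
      (((g : Matrix.SpecialLinearGroup (Fin n) F) : Matrix (Fin n) (Fin n) F) - 1).rank = 1} :=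
    ⟨_, rfl⟩
  rw [← hD]
  have hmem : ∀ s, s ∈ D ↔ ∃ a : Fin n → F, a ≠ 0 ∧ hermB n σ hσq a a = 0 ∧
      psi s = utv (hermB n σ hσq) a 1 := by
    intro s
    rw [hD]
    exact mem_iff σ hσq hF hσ s
  have hsq : ∀ d ∈ D, d * d = 1 := by
    intro d hd
    obtain ⟨a, ha0, haa, hs⟩ := (hmem d).mp hd
    apply psi_injective
    rw [map_mul, hs, utv_one_sq σ hσq hF, map_one]
  have hne : ∀ d ∈ D, d ≠ 1 := by
    intro d hd h1
    rw [h1, hD] at hd
    have h0 : (((1 : ↥(Cfsg.SU n F 2)) : Matrix.SpecialLinearGroup (Fin n) F) :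
        Matrix (Fin n) (Fin n) F) - 1 = 0 := by simp
    have hd' : ((((1 : ↥(Cfsg.SU n F 2)) : Matrix.SpecialLinearGroup (Fin n) F) :
        Matrix (Fin n) (Fin n) F) - 1).rank = 1 := hd
    rw [h0, Matrix.rank_zero] at hd'
    exact zero_ne_one hd'
  have hinv : ∀ d ∈ D, d⁻¹ = d := fun d hd => inv_eq_of_mul_eq_one_right (hsq d hd)
  have hconjmem : ∀ d ∈ D, ∀ h : ↥(Cfsg.SU n F 2), h * d * h⁻¹ ∈ D := by
    intro d hd h
    obtain ⟨a, ha0, haa, hs⟩ := (hmem d).mp hd
    apply (hmem _).mpr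
    refine ⟨psi h a, ?_, ?_, ?_⟩
    · intro h0
      exact ha0 ((psi h).map_eq_zero_iff.mp h0)
    · rw [psi_mem_uG σ hσq h, haa]
    · rw [map_mul, map_mul, map_inv, hs, conj_utv (psi_mem_uG σ hσq h)]
  refine ⟨⟨?_, ?_⟩, ?_, ?_⟩
  · intro d hd
    have : Fact (Nat.Prime 2) := ⟨Nat.prime_two⟩
    exact orderOf_eq_prime (by rw [pow_two]; exact hsq d hd) (hne d hd)
  · intro d hd e he
    obtain ⟨a, ha0, haa, hsd⟩ := (hmem d).mp hd
    obtain ⟨b, hb0, hbb, hse⟩ := (hmem e).mp he
    obtain ⟨h1, h2⟩ := utv_conj_eq σ hσq hF hσ haa hbb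
    by_cases hβ : hermB n σ hσq a b = 0
    · left
      have key : d * e * d⁻¹ = e := psi_injective (by
        rw [map_mul, map_mul, map_inv, hsd, hse]; exact h1 hβ)
      rw [hinv d hd] at key
      rw [pow_two, ← mul_assoc, key]
      exact hsq e he
    · right
      have key : d * e * d⁻¹ = e * d * e⁻¹ := psi_injective (by
        rw [map_mul, map_mul, map_inv, map_mul, map_mul, map_inv, hsd, hse]; exact h2 hβ)
      rw [hinv d hd, hinv e he] at key
      calc (d * e) ^ 3 = (d * e * d) * (e * d * e) := by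
            rw [pow_succ, pow_two]; simp only [mul_assoc]
        _ = (e * d * e) * (e * d * e) := by rw [key]
        _ = e * d * (e * e) * d * e := by group
        _ = e * (d * d) * e := by rw [hsq e he]; group
        _ = 1 := by rw [hsq d hd, mul_one, hsq e he]
  · -- a single conjugacy class
    have hn2 : 2 ≤ n := by omega
    obtain ⟨x, y, hx, hy⟩ : ∃ x y : Fin n → F, x ≠ 0 ∧ y ∉ Submodule.span F {x} := by
      refine ⟨Pi.single ⟨0, by omega⟩ 1, Pi.single ⟨1, by omega⟩ 1, ?_, ?_⟩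
      · intro h
        have := congrFun h ⟨0, by omega⟩
        simp at this
      · intro h
        obtain ⟨r, hr⟩ := Submodule.mem_span_singleton.mp h
        have := congrFun hr ⟨1, by omega⟩
        simp [Fin.ext_iff] at this
    obtain ⟨r₁, r₂, ha0, haa⟩ := exists_iso hσ hB hx hy
    obtain ⟨a, haeq⟩ : ∃ a, a = r₁ • x + r₂ • y := ⟨_, rfl⟩
    rw [← haeq] at ha0 haa
    have hσ1 : σ 1 = -1 := by rw [map_one, neg_eq_self hF]
    obtain ⟨d₀, hd₀⟩ := exists_psi_eq σ hσq (utv (hermB n σ hσq) a 1) (utv_mem_uG hB a hσ1)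
      (det_utv a 1)
    have hd₀D : d₀ ∈ D := (hmem d₀).mpr ⟨a, ha0, haa, hd₀⟩
    refine ⟨d₀, hd₀D, ?_⟩
    ext g
    change g ∈ D ↔ IsConj d₀ g
    constructor
    · intro hg
      have tr : ∀ s ∈ D, Cfsg.IsTransvection
          (((s : GL (Fin n) F) : Matrix (Fin n) (Fin n) F)) := by
        intro s hs
        rw [hD] at hs
        exact ⟨hs, sq_zero_of_rank_one _ (s : Matrix.SpecialLinearGroup (Fin n) F).2 hs⟩
      exact Cfsg.Agent.S2644.result hF' (by omega) d₀ g (tr d₀ hd₀D) (tr g hg)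
    · intro hg
      obtain ⟨h, hh⟩ := isConj_iff.mp hg
      rw [← hh]
      exact hconjmem d₀ hd₀D h
  · -- generation
    rw [eq_top_iff, ← hgen, Subgroup.closure_le]
    rintro A ⟨v, c, hv, hA⟩
    rcases gen_mem A v c hA with h | h
    · rw [h]; exact Subgroup.one_mem _
    · apply Subgroup.subset_closure
      rw [hD]
      exact h

end assemble

/-- The unitary transvections of SU(n, 2), n ≥ 4, form a generating conjugacy class of 3-transpositions. -/
theorem result (F : Type) [Field F] [Fintype F] [DecidableEq F] (hF : Fintype.card F = 4) (n : ℕ) (hn : 4 ≤ n) : Cfsg.IsThreeTranspositionClass {g : ↥(Cfsg.SU n F 2) | (((g : Matrix.SpecialLinearGroup (Fin n) F) : Matrix (Fin n) (Fin n) F) - 1).rank = 1} := by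
  have hF' : Fintype.card F = 2 ^ 2 := by rw [hF]; norm_num
  exact main hF hn (Cfsg.Agent.S0780.result hF' n (by omega) (by omega))

end Cfsg.Agent.S1631
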