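import Cfsg.Statements.S1635
import Cfsg.Agent.Lib.Helper27_GolayLike

set_option autoImplicit false
open Cfsg

namespace Cfsg.Agent.S1635

open Cfsg.Agent.Lib.Helper93_Code24 Cfsg.Agent.Lib.Helper27_GolayLike in
/-- Coset leaders of the length-24 code: a coset contains a unique word of weight ≤ 3, or else exactly six words of weight 4 and none lighter. -/
theorem result (w : Cfsg.GolayPt → ZMod 2) : ({v : Cfsg.GolayPt → ZMod 2 | hammingNorm v ≤ 4 ∧ w - v ∈ Cfsg.golayCode}.ncard = 1 ∧ ∃ v : Cfsg.GolayPt → ZMod 2, hammingNorm v ≤ 3 ∧ w - v ∈ Cfsg.golayCode) ∨ ({v : Cfsg.GolayPt → ZMod 2 | hammingNorm v ≤ 4 ∧ w - v ∈ Cfsg.golayCode}.ncard = 6 ∧ ∀ v : Cfsg.GolayPt → ZMod 2, w - v ∈ Cfsg.golayCode → hammingNorm v ≤ 4 → hammingNorm v = 4) := by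
  have hiff : ∀ v : GolayPt → ZMod 2, w - v ∈ golayCode ↔ v - w ∈ golayCode := by
    intro v
    rw [← neg_sub v w]
    exact neg_mem_iff
  have hset : {v : GolayPt → ZMod 2 | hammingNorm v ≤ 4 ∧ w - v ∈ golayCode} =
      {u : GolayPt → ZMod 2 | u - w ∈ golayCode ∧ hammingNorm u ≤ 4} := by
    ext v
    simp only [Set.mem_ofPred_eq, hiff v, and_comm]
  rw [hset]
  rcases sextet_form golayCode_isGolayLike w with ⟨u, hu, hu3⟩ | ⟨h6, hall⟩
  · left
    refine ⟨by rw [hu, Set.ncard_singleton], u, hu3, ?_⟩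
    have : u ∈ {u : GolayPt → ZMod 2 | u - w ∈ golayCode ∧ hammingNorm u ≤ 4} := by
      rw [hu]; exact Set.mem_singleton u
    exact (hiff u).2 this.1
  · right
    refine ⟨h6, fun v hv hv4 => ?_⟩
    exact (hall v ⟨(hiff v).1 hv, hv4⟩).1

end Cfsg.Agent.S1635
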