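import Cfsg.Statements.S1637
import Cfsg.Agent.Lib.Helper27_Golay23

set_option autoImplicit false
open Cfsg

namespace Cfsg.Agent.S1637

open Cfsg.Agent.Lib.Helper27_Golay23 Cfsg.Agent.Lib.Helper93_Code24

/-- the punctured code as a submodule -/
def C23 : Submodule (ZMod 2) (ZMod 23 → ZMod 2) := Submodule.map punct golayCode

theorem coe_C23 : (C23 : Set (ZMod 23 → ZMod 2)) = code23 := by
  rw [code23_eq]; rfl

theorem mem_C23_iff (u : ZMod 23 → ZMod 2) : u ∈ C23 ↔ u ∈ code23 := by
  rw [← coe_C23]; rfl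

theorem dist_eq (x y : ZMod 23 → ZMod 2) : hammingDist x y = hammingNorm (x - y) := by
  rw [hammingDist_comm, hammingDist_eq_hammingNorm]
  congr 1
  abel

/-- distinct words of the punctured code are at distance at least 7 -/
theorem dist_ge {c c' : ZMod 23 → ZMod 2} (hc : c ∈ code23) (hc' : c' ∈ code23)
    (h : hammingDist c c' ≤ 6) : c = c' := by
  by_contra hne
  have hmem : c - c' ∈ code23 := (mem_C23_iff _).1 (C23.sub_mem ((mem_C23_iff _).2 hc) ((mem_C23_iff _).2 hc'))
  have h7 := seven_le_of_mem_code23 hmem (sub_ne_zero.2 hne)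
  rw [← dist_eq] at h7
  omega

/-- the ball of radius 3 around zero -/
def ball : Finset (ZMod 23 → ZMod 2) := Finset.univ.filter (fun e => hammingNorm e ≤ 3)

theorem ball_card : ball.card = 2048 := by
  rw [ball, card_wt_le 3]
  simp only [ZMod.card]
  decide

/-- the sum map from code × ball -/
def addMap (p : ↥C23 × ↥ball) : ZMod 23 → ZMod 2 := p.1.1 + p.2.1

theorem addMap_injective : Function.Injective addMap := by
  rintro ⟨⟨c, hc⟩, ⟨e, he⟩⟩ ⟨⟨c', hc'⟩, ⟨e', he'⟩⟩ h
  simp only [addMap] at h
  have he3 : hammingNorm e ≤ 3 := (Finset.mem_filter.1 he).2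
  have he3' : hammingNorm e' ≤ 3 := (Finset.mem_filter.1 he').2
  have hcc : c - c' = e' - e := by
    have : c = c' + e' - e := by rw [← h]; abel
    rw [this]; abel
  have hd : hammingDist c c' ≤ 6 := by
    rw [dist_eq, hcc, ← dist_eq]
    have := hammingDist_triangle e' 0 e
    rw [hammingDist_zero_right, hammingDist_zero_left] at this
    omega
  have hceq : c = c' := dist_ge ((mem_C23_iff _).1 hc) ((mem_C23_iff _).1 hc') hd
  subst hceq
  have : e = e' := add_left_cancel h
  subst this
  rfl

theorem addMap_surjective : Function.Surjective addMap := by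
  have hcard : Nat.card (ZMod 23 → ZMod 2) ≤ Nat.card (↥C23 × ↥ball) := by
    rw [Nat.card_prod]
    have h1 : Nat.card ↥C23 = 4096 := by
      have : Nat.card ↥C23 = (C23 : Set (ZMod 23 → ZMod 2)).ncard := rfl
      rw [this, coe_C23, code23_ncard]
    have h2 : Nat.card ↥ball = 2048 := by
      rw [Nat.card_eq_fintype_card, Fintype.card_coe, ball_card]
    rw [h1, h2, Nat.card_eq_fintype_card, Fintype.card_fun, ZMod.card, ZMod.card]
    norm_num
  exact (addMap_injective.bijective_of_nat_card_le hcard).2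

/-- The punctured length-23 code is a perfect 3-error-correcting code: each word of length 23 is within distance 3 of exactly one codeword. -/
theorem result (u : ZMod 23 → ZMod 2) : ∃! c : ZMod 23 → ZMod 2, c ∈ {u : ZMod 23 → ZMod 2 | ∃ w ∈ Cfsg.golayCode, ∀ x : ZMod 23, u x = w (some x)} ∧ hammingDist u c ≤ 3 := by
  obtain ⟨⟨⟨c, hc⟩, ⟨e, he⟩⟩, h⟩ := addMap_surjective u
  simp only [addMap] at h
  have he3 : hammingNorm e ≤ 3 := (Finset.mem_filter.1 he).2
  refine ⟨c, ⟨(mem_C23_iff _).1 hc, ?_⟩, ?_⟩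
  · rw [dist_eq, ← h]
    simpa using he3
  · rintro c' ⟨hc', hd'⟩
    have hd : hammingDist u c ≤ 3 := by
      rw [dist_eq, ← h]
      simpa using he3
    apply dist_ge hc' ((mem_C23_iff _).1 hc)
    have := hammingDist_triangle c' u c
    rw [hammingDist_comm c' u] at this
    omega

end Cfsg.Agent.S1637
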