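import Cfsg.Statements.S1638
import Cfsg.Agent.S0366
import Cfsg.Agent.Lib.Helper91_M24Stab3

set_option autoImplicit false
open scoped Pointwise
open Cfsg
open Cfsg.Agent.Lib.Helper26_Golay
open Cfsg.Agent.Lib.Helper91_M24Stab
open Cfsg.Agent.Lib.Helper91_M24Stab3

namespace Cfsg.Agent.S1638

/-! ### General tools -/

theorem allFold_eq_false (f : ℕ → Bool) (n : ℕ) :
    allFold f n = false ↔ ∃ k < n, f k = false := by
  rw [← Bool.not_eq_true, allFold_eq_true]
  constructor
  · intro h
    by_contra h2
    apply h
    intro k hk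
    by_contra h3
    exact h2 ⟨k, hk, by simpa using h3⟩
  · rintro ⟨k, hk, h⟩ h2
    rw [h2 k hk] at h
    exact Bool.noConfusion h

/-- Lookup in a forest on arbitrary masks: two nodes with the same root are related by `H`. -/
theorem exists_map_of_forest (H : Subgroup (Equiv.Perm GolayPt)) (TT r : ℕ)
    (hg : GensIn H TT r) (tAt : ℕ → ℕ) (n : ℕ) (hlt : ∀ j < n, tAt j < 2 ^ 24) (P G D R : ℕ)
    (hf : forestCheck (maskStepOk TT r) tAt P G D R n = true)
    (z' z'' : Finset GolayPt) (j1 j2 : ℕ) (hj1 : j1 < n) (hj2 : j2 < n)
    (h1 : tAt j1 = enc z') (h2 : tAt j2 = enc z'') (hroot : get16 R j1 = get16 R j2) :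
    ∃ g ∈ H, g • z' = z'' := by
  obtain ⟨m0, _, m1⟩ := mask_forest H TT r hg tAt P G D R n hf j1 hj1
  have m2 := (mask_forest H TT r hg tAt P G D R n hf j2 hj2).2.2
  rw [hroot] at m1 m0
  have m3 : MaskRel H (enc z') (enc z'') := by
    rw [← h1, ← h2]
    exact maskRel_trans (maskRel_symm (hlt _ m0) m1) m2
  exact exists_of_maskRel m3

/-- counting along a permutation -/
theorem ncard_transport (h : Equiv.Perm GolayPt) (C C' : Finset GolayPt → Prop)
    (hC : ∀ t, C' (h • t) ↔ C t) : {t | C' t}.ncard = {t | C t}.ncard := by
  have h1 : {t | C' t} = (fun t => h • t) '' {t | C t} := by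
    ext t
    constructor
    · intro ht
      refine ⟨h⁻¹ • t, ?_, smul_inv_smul h t⟩
      have : C' (h • (h⁻¹ • t)) := by rw [smul_inv_smul]; exact ht
      exact (hC _).mp this
    · rintro ⟨u, hu, rfl⟩
      exact (hC u).mpr hu
  rw [h1, Set.ncard_image_of_injective _ (MulAction.injective h)]

theorem enc_pair (a b : GolayPt) : enc ({a, b} : Finset GolayPt) = 2 ^ idx a ||| 2 ^ idx b := by
  rw [Finset.insert_eq, enc_union, enc_singleton, enc_singleton]

/-! ### Pairs of points as masks -/

/-- the mask of the pair of points with indices `k / 24` and `k % 24` -/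
def pairAt (k : ℕ) : ℕ := 2 ^ (k / 24) ||| 2 ^ (k % 24)

/-- the masks of the 276 pairs of points -/
def pairList : List ℕ := ((List.range 576).filter (fun k => k / 24 < k % 24)).map pairAt

theorem pairList_nodup : pairList.Nodup := by decide +kernel

theorem pairList_lt : ∀ n ∈ pairList, n < 2 ^ 24 := by decide +kernel

theorem pairList_pop : ∀ n ∈ pairList, pop n = 2 := by decide +kernel

theorem pairAt_lt : ∀ k < 576, pairAt k < 2 ^ 24 := by decide +kernel

/-- a pair of points is a node of the table -/
theorem exists_node {t : Finset GolayPt} (ht : t.card = 2) :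
    ∃ k < 576, k / 24 < k % 24 ∧ pairAt k = enc t := by
  obtain ⟨a, b, hab, rfl⟩ := Finset.card_eq_two.mp ht
  have hne : idx a ≠ idx b := fun h => hab (idx_injective h)
  have ha := idx_lt a
  have hb := idx_lt b
  rcases lt_or_gt_of_ne hne with h | h
  · refine ⟨24 * idx a + idx b, by omega, by omega, ?_⟩
    rw [enc_pair]
    unfold pairAt
    congr 2 <;> omega
  · refine ⟨24 * idx b + idx a, by omega, by omega, ?_⟩
    rw [Finset.pair_comm, enc_pair]
    unfold pairAt
    congr 2 <;> omega

theorem card_eq_two_iff (t : Finset GolayPt) : t.card = 2 ↔ enc t ∈ pairList := by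
  constructor
  · intro ht
    obtain ⟨k, hk, hk2, hkt⟩ := exists_node ht
    rw [← hkt]
    unfold pairList
    refine List.mem_map.mpr ⟨k, ?_, rfl⟩
    rw [List.mem_filter, List.mem_range]
    exact ⟨hk, by simpa using hk2⟩
  · intro h
    rw [card_eq_pop]
    exact pairList_pop _ h

/-- counting pairs with a property on masks -/
theorem count_pairs (P : Finset GolayPt → Prop) (Q : ℕ → Bool)
    (h : ∀ n ∈ pairList, P (dec n) ↔ Q n = true) :
    {t : Finset GolayPt | t.card = 2 ∧ P t}.ncard = pairList.countP Q := by
  classical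
  have h1 : {t : Finset GolayPt | t.card = 2 ∧ P t} = ↑((pairList.map dec).toFinset.filter P) := by
    ext t
    simp only [Set.mem_ofPred_eq, Finset.coe_filter, List.mem_toFinset, List.mem_map]
    constructor
    · rintro ⟨h2, hP⟩
      exact ⟨⟨enc t, (card_eq_two_iff t).mp h2, dec_enc t⟩, hP⟩
    · rintro ⟨⟨n, hn, rfl⟩, hP⟩
      refine ⟨?_, hP⟩
      rw [card_eq_two_iff, enc_dec n (pairList_lt n hn)]
      exact hn
  rw [h1, Set.ncard_coe_finset]
  exact card_filter_map_dec pairList pairList_nodup pairList_lt P Q h

/-! ### The base configuration -/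

def p0 : GolayPt := pt 0
def q0 : GolayPt := pt 1
def s0 : Finset GolayPt := {pt 2, pt 3}

theorem idx_p0 : idx p0 = 0 := idx_pt 0 (by norm_num)
theorem idx_q0 : idx q0 = 1 := idx_pt 1 (by norm_num)

theorem enc_p0 : enc ({p0} : Finset GolayPt) = 1 := by
  unfold p0; rw [enc_singleton_pt 0 (by norm_num)]; norm_num

theorem enc_q0 : enc ({q0} : Finset GolayPt) = 2 := by
  unfold q0; rw [enc_singleton_pt 1 (by norm_num)]; norm_num

theorem enc_s0 : enc s0 = 12 := by
  unfold s0
  rw [enc_pair, idx_pt 2 (by norm_num), idx_pt 3 (by norm_num)]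
  rfl

/-- the octad property -/
def OProp (p q : GolayPt) (s t : Finset GolayPt) : Prop :=
  ∃ o ∈ octads, p ∈ o ∧ q ∈ o ∧ s ∪ t ⊆ o

/-- the octad property of the base configuration, on masks -/
def oprop (n : ℕ) : Bool :=
  !(allFold (fun j => !(((15 ||| n) &&& octAt j) == (15 ||| n))) 759)

theorem oprop_iff (t : Finset GolayPt) : OProp p0 q0 s0 t ↔ oprop (enc t) = true := by
  have hU : ∀ o : Finset GolayPt, (p0 ∈ o ∧ q0 ∈ o ∧ s0 ∪ t ⊆ o) ↔
      (15 ||| enc t) &&& enc o = 15 ||| enc t := by
    intro o
    have e1 : enc (insert p0 (insert q0 (s0 ∪ t))) = 15 ||| enc t := by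
      have e0 : (1 ||| 2 ||| 12 : ℕ) = 15 := by decide
      rw [Finset.insert_eq, Finset.insert_eq, enc_union, enc_union, enc_union, enc_p0, enc_q0,
        enc_s0, ← Nat.lor_assoc, ← Nat.lor_assoc, e0]
    rw [← e1, ← subset_iff_enc, Finset.insert_subset_iff, Finset.insert_subset_iff]
  unfold oprop
  rw [Bool.not_eq_true', allFold_eq_false]
  constructor
  · rintro ⟨o, ho, h⟩
    obtain ⟨j, hj, hjo⟩ := exists_index_of_mem_octads ho
    refine ⟨j, hj, ?_⟩
    rw [Bool.not_eq_false', beq_iff_eq, hjo]
    exact (hU o).mp h
  · rintro ⟨j, hj, h⟩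
    rw [Bool.not_eq_false', beq_iff_eq] at h
    have ho : dec (octAt j) ∈ octads := by
      rw [mem_octads_iff, enc_dec _ (octAt_lt j)]
      exact List.mem_map.mpr ⟨j, List.mem_range.mpr hj, rfl⟩
    refine ⟨dec (octAt j), ho, (hU _).mpr ?_⟩
    rw [enc_dec _ (octAt_lt j)]
    exact h

theorem OProp_smul {h : Equiv.Perm GolayPt} (hh : h ∈ M24) {p q : GolayPt} {s t : Finset GolayPt}
    (hO : OProp p q s t) : OProp (h p) (h q) (h • s) (h • t) := by
  obtain ⟨o, ho, hp, hq, hst⟩ := hO
  refine ⟨h • o, smul_mem_octads hh ho, (mem_smul_iff h p o).mpr hp, (mem_smul_iff h q o).mpr hq, ?_⟩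
  rw [← Finset.smul_finset_union]
  exact Finset.smul_finset_subset_smul_finset hst

theorem OProp_smul_iff {h : Equiv.Perm GolayPt} (hh : h ∈ M24) (p q : GolayPt) (s t : Finset GolayPt) :
    OProp (h p) (h q) (h • s) (h • t) ↔ OProp p q s t := by
  constructor
  · intro hO
    have := OProp_smul (M24.inv_mem hh) hO
    simpa using this
  · exact fun hO => OProp_smul hh hO

/-! ### Certificates -/

/-- elements of the stabiliser of the base configuration -/
def gH : ℕ := 0x7cac66266a3c16e6c684bd50510c209965465507241a98aeea339f610c209c6cb69a15a3d2c712f23950a10c20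

def fP : ℕ := 0x690000000000000000000000000000000000000000000000000000000000000000000000000000000000000000000000970072000000000000000000000000000000000000000000000000000000000000000000000000000000000000000000ec0074017800000000000000000000000000000000000000000000000000000000000000000000000000000000000000ef01ad00a1017f0000000000000000000000000000000000000000000000000000000000000000000000000000000000ed020e00a600cf01ae000000000000000000000000000000000000000000000000000000000000000000000000000000b2020e009a017e010100d600000000000000000000000000000000000000000000000000000000000000000000000000e9006e009e017901af00d101160000000000000000000000000000000000000000000000000000000000000000000000810065008a00ef008f022701070086000000000000000000000000000000000000000000000000000000000000000000b4006601180117013100a5009b0119011600000000000000000000000000000000000000000000000000000000000000b3011d009b017b011900d300fb01160085011b0000000000000000000000000000000000000000000000000000000000eb013500a3012f01df00cc011b0131008b00a3014b0000000000000000000000000000000000000000000000000000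00e2014d01020104014900d400fb01ac0082009a00fd014b0000000000000000000000000000000000000000000000000069006800d200d400d70068010000710080006b011800d300ca0000000000000000000000000000000000000000000000ba01c500a200ea01aa01c60102014901460132014b01c3014a00cc000000000000000000000000000000000000000000810071008801ac008f008001190089008f00830149008b01010065008a00000000000000000000000000000000000000e8017d00b800b700bf017e00ff00b9017f00b30148017b01000067017a007f0000000000000000000000000000000000ea006700ba017a01ac00d201c601aa007f009701c301dc00b20072014a00b900ba0000000000000000000000000000006700a501c600690071020e00a6006e009e00a600a301de010600d600720065009700a200000000000000000000000000e20105010000ff017f00ca00ca010100d700fb010300d300ff00cf00d20080000000d4000000000000000000000000003900340042003f00410038003b00410035003b003b0043003d003400420041003f00420034003800000000000000000051005d005800570059005e00520056004d004e0055005b005200580055004d0058005a005e000000000000000000000021001c002a00270029002e00220029001d00230023002b0022001c002a001d0027002a001c0000001a000000000000000900040012000f00110016000a00110005000b000b0013000a000400120005000f0012000400000002000000000000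
def fG : ℕ := 0x10000000000000000000000000000000000000000000000020100000000000000000000000000000000000000000000010100000000000000000000000000000000000000000000000202000000000000000000000000000000000000000000010202000200000000000000000000000000000000000000020002000200000000000000000000000000000000000000000102000000010000000000000000000000000000000000010101020102020100000000000000000000000000000000020100000201010000000000000000000000000000000000020202000200020201000000000000000000000000000000010002000100010001010100000000000000000000000000010201010200010001010102000000000000000000000000000101010100020001000201010000000000000000000000020202020202020000020002020100000000000000000000000100010000010002000102010002000000000000000000010200000002020002000102010002000000000000000000000101000200000001010002010000010000000000000000020001020201000200010001010102020000000000000000000000000100020002000002010102020002000000000000000101000200010001000201020002010200020200000000000000000202020101010101010200000100010000000000000101000202020001000201010002000200020000000000000101000202020001000201010002000200020000000000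
def fD : ℕ := 0x40000000000000000000000000000000000000000000000040300000000000000000000000000000000000000000000070404000000000000000000000000000000000000000000040506050000000000000000000000000000000000000000050402030500000000000000000000000000000000000000020404020504000000000000000000000000000000000000050405060305050000000000000000000000000000000000040105040205050300000000000000000000000000000000040504060604030405000000000000000000000000000000050503030403030505050000000000000000000000000000060504050505050604040500000000000000000000000000060404050404030305040505000000000000000000000000040303040503040302040403020000000000000000000000030304060505040406060506040500000000000000000000040305030202040302050404050105000000000000000000050605060602030405050603040106050000000000000000060103060303050505040606020304040300000000000000010405040304020405020406040403010404000000000000060404030502020505030603030303020004000000000000050103030303030303030305050103030303010300000000040404040402020402040404020404020404020000000000040103030302020302030304020103020303010001000000040103030302020302030304020103020303010001000000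
def fR : ℕ := 0x23f023e023d023c023b023a0239023802370236023502340233023202310230022f022e022d022c022b022a0229022800650226022502240223022202210220021f021e021d021c021b021a021902180217021602150214021302120211021000650065020d020c020b020a020902080207020602050204020302020201020001ff01fe01fd01fc01fb01fa01f901f800650065006701f401f301f201f101f001ef01ee01ed01ec01eb01ea01e901e801e701e601e501e401e301e201e101e0006500650065006501db01da01d901d801d701d601d501d401d301d201d101d001cf01ce01cd01cc01cb01ca01c901c80065006500670067006501c201c101c001bf01be01bd01bc01bb01ba01b901b801b701b601b501b401b301b201b101b000670065006500650065006501a901a801a701a601a501a401a301a201a101a0019f019e019d019c019b019a0199019800650065006500650067006500650190018f018e018d018c018b018a01890188018701860185018401830182018101800065006500650065006700650065006701770176017501740173017201710170016f016e016d016c016b016a01690168006700650065006500650065006700650065015e015d015c015b015a01590158015701560155015401530152015101500065006500670067006500670065006500650065014501440143014201410140013f013e013d013c013b013a01390138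00650065006500650065006500650065006500650065012c012b012a01290128012701260125012401230122012101200065006700650065006500650065006500650065006500650113011201110110010f010e010d010c010b010a01090108006500650065006500650065006500650065006500650067006500fa00f900f800f700f600f500f400f300f200f100f00065006700650065006500650065006500650065006500650067006500e100e000df00de00dd00dc00db00da00d900d800650065006500650067006500650067006700650065006500650065006500c800c700c600c500c400c300c200c100c0006500650065006500650065006500650065006500650067006500670065006500af00ae00ad00ac00ab00aa00a900a8006500670065006500650065006500650065006500650065006700650067006500650096009500940093009200910090006700650065006500650065006700650065006700650065006500650065006500650065007d007c007b007a0079007800650065006500650065006500650065006500650065006700650067006500650067006500650064006300620061006000340034003400340034003400340034003400340034003400340034003400340034003400340034004b004a00490048003400340034003400340034003400340034003400340034003400340034003400340034003400340033003200310030001c001c001c001c001c001c001c001c001c001c001c001c001c001c001c001c001c001c001c001c001a001a00190018000400040004000400040004000400040004000400040004000400040004000400040004000400040002000200010000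

/-- root of the orbit of pairs, by intersection size with the base pair and the octad property -/
def rootIdx (c : ℕ) (b : Bool) : ℕ := if c == 1 then 52 else if b then 103 else 101

theorem gH_in : GensIn (stab3 {p0} {q0} s0) gH 3 := by
  apply gensIn_stab3 {p0} {q0} s0 1 2 12 enc_p0 enc_q0 enc_s0
  decide +kernel

theorem forest_ok : forestCheck (maskStepOk gH 3) pairAt fP fG fD fR 576 = true := by
  decide +kernel

theorem forest_root :
    allFold (fun k => !(decide (k / 24 < k % 24)) || ((pairAt k >>> 0) &&& 1 == 1) ||
      ((pairAt k >>> 1) &&& 1 == 1) || (pairAt k == 12) ||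
      (get16 fR k == rootIdx (pop (12 &&& pairAt k)) (oprop (pairAt k)))) 576 = true := by
  decide +kernel

/-- Transitivity of the stabiliser of the base configuration on pairs. -/
theorem base_trans (t t' : Finset GolayPt) (ht : t.card = 2 ∧ p0 ∉ t ∧ q0 ∉ t)
    (ht' : t'.card = 2 ∧ p0 ∉ t' ∧ q0 ∉ t') (hne : t ≠ s0) (hne' : t' ≠ s0)
    (hc : (s0 ∩ t).card = (s0 ∩ t').card)
    (ho : OProp p0 q0 s0 t ↔ OProp p0 q0 s0 t') :
    ∃ g ∈ M24, g p0 = p0 ∧ g q0 = q0 ∧ g • s0 = s0 ∧ g • t = t' := by
  have key : ∀ (k : ℕ) (z : Finset GolayPt), k < 576 → k / 24 < k % 24 → pairAt k = enc z →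
      p0 ∉ z → q0 ∉ z → z ≠ s0 →
      get16 fR k = rootIdx ((s0 ∩ z).card) (oprop (enc z)) := by
    intro k z hk hk2 hkz hpz hqz hzs
    have h2 := (allFold_eq_true _ _).mp forest_root k hk
    have h3 : (pairAt k >>> 0) &&& 1 = 0 := by
      rw [hkz, ← idx_p0]; exact (not_mem_iff_bit z p0).mp hpz
    have h4 : (pairAt k >>> 1) &&& 1 = 0 := by
      rw [hkz, ← idx_q0]; exact (not_mem_iff_bit z q0).mp hqz
    have h5 : pairAt k ≠ 12 := by
      rw [hkz, ← enc_s0]
      exact fun h => hzs (enc_injective h)
    rw [h3, h4] at h2
    simp only [Bool.or_eq_true, beq_iff_eq, Bool.not_eq_true', decide_eq_false_iff_not] at h2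
    rw [card_inter_eq_pop, enc_s0, ← hkz]
    rcases h2 with (((h | h) | h) | h) | h
    · exact absurd hk2 h
    · exact absurd h (by norm_num)
    · exact absurd h (by norm_num)
    · exact absurd h h5
    · exact h
  obtain ⟨k1, hk1, hk1', hkt1⟩ := exists_node ht.1
  obtain ⟨k2, hk2, hk2', hkt2⟩ := exists_node ht'.1
  have r1 := key k1 t hk1 hk1' hkt1 ht.2.1 ht.2.2 hne
  have r2 := key k2 t' hk2 hk2' hkt2 ht'.2.1 ht'.2.2 hne'
  have hb : oprop (enc t) = oprop (enc t') := by
    rw [Bool.eq_iff_iff, ← oprop_iff, ← oprop_iff]
    exact ho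
  obtain ⟨s, hs, hsz⟩ := exists_map_of_forest _ gH 3 gH_in pairAt 576 pairAt_lt fP fG fD fR
    forest_ok t t' k1 k2 hk1 hk2 hkt1 hkt2 (by rw [r1, r2, hc, hb])
  obtain ⟨hs1, hs2, hs3, hs4⟩ := mem_stab3.mp hs
  exact ⟨s, hs1, smul_singleton_eq hs2, smul_singleton_eq hs3, hs4, hsz⟩

theorem count_base_in :
    {t : Finset GolayPt | t.card = 2 ∧ ((p0 ∉ t ∧ q0 ∉ t) ∧ Disjoint s0 t ∧ OProp p0 q0 s0 t)}.ncard
      = 30 := by
  rw [count_pairs _ (fun n => ((n >>> 0) &&& 1 == 0) && ((n >>> 1) &&& 1 == 0) &&
    ((12 &&& n == 0) && oprop n))]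
  · decide +kernel
  · intro n hn
    have hlt := pairList_lt n hn
    rw [not_mem_iff_bit, not_mem_iff_bit, idx_p0, idx_q0, disjoint_iff_enc, enc_s0, oprop_iff,
      enc_dec n hlt, Bool.and_eq_true, Bool.and_eq_true, Bool.and_eq_true, beq_iff_eq, beq_iff_eq,
      beq_iff_eq]

theorem count_base_out :
    {t : Finset GolayPt | t.card = 2 ∧ ((p0 ∉ t ∧ q0 ∉ t) ∧ Disjoint s0 t ∧ ¬ OProp p0 q0 s0 t)}.ncard
      = 160 := by
  rw [count_pairs _ (fun n => ((n >>> 0) &&& 1 == 0) && ((n >>> 1) &&& 1 == 0) &&
    ((12 &&& n == 0) && !(oprop n)))]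
  · decide +kernel
  · intro n hn
    have hlt := pairList_lt n hn
    rw [not_mem_iff_bit, not_mem_iff_bit, idx_p0, idx_q0, disjoint_iff_enc, enc_s0, oprop_iff,
      enc_dec n hlt, Bool.and_eq_true, Bool.and_eq_true, Bool.and_eq_true, beq_iff_eq, beq_iff_eq,
      beq_iff_eq, Bool.not_eq_true', Bool.not_eq_true]

/-- `M24` is transitive on the configurations (two points, a pair of further points). -/
theorem exists_base {p q : GolayPt} (hpq : p ≠ q) {s : Finset GolayPt}
    (hs : s.card = 2 ∧ p ∉ s ∧ q ∉ s) : ∃ h ∈ M24, h p0 = p ∧ h q0 = q ∧ h • s0 = s := by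
  obtain ⟨a, b, hab, rfl⟩ := Finset.card_eq_two.mp hs.1
  have hpa : p ≠ a := fun h => hs.2.1 (by rw [h]; exact Finset.mem_insert_self _ _)
  have hpb : p ≠ b := fun h => hs.2.1 (by rw [h]; simp)
  have hqa : q ≠ a := fun h => hs.2.2 (by rw [h]; exact Finset.mem_insert_self _ _)
  have hqb : q ≠ b := fun h => hs.2.2 (by rw [h]; simp)
  have h5 := Cfsg.Agent.S0366.result
  have hc : Nat.card GolayPt = 24 := by
    rw [Nat.card_eq_fintype_card]; rfl
  have h4 : MulAction.IsMultiplyPretransitive M24 GolayPt 4 :=
    MulAction.isMultiplyPretransitive_of_le (n := 5) (by norm_num) (by rw [hc]; norm_num)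
  let x : Fin 4 ↪ GolayPt := ⟨![pt 0, pt 1, pt 2, pt 3], by
    intro i j hij
    have key : ∀ i j : Fin 4, idx (![pt 0, pt 1, pt 2, pt 3] i) = idx (![pt 0, pt 1, pt 2, pt 3] j) → i = j := by
      intro i j
      fin_cases i <;> fin_cases j <;>
        simp [idx_pt]
    exact key i j (by rw [hij])⟩
  let y : Fin 4 ↪ GolayPt := ⟨![p, q, a, b], by
    intro i j hij
    fin_cases i <;> fin_cases j <;> simp_all⟩
  obtain ⟨g, hg⟩ := MulAction.exists_smul_eq M24 x y
  have hg' : ∀ i, (g : Equiv.Perm GolayPt) (x i) = y i := by
    intro i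
    have := DFunLike.congr_fun hg i
    exact this
  refine ⟨g.1, g.2, hg' 0, hg' 1, ?_⟩
  unfold s0
  rw [Finset.smul_finset_insert, Finset.smul_finset_singleton]
  have e2 := hg' 2
  have e3 := hg' 3
  show insert (g.1 (pt 2)) {g.1 (pt 3)} = {a, b}
  rw [show g.1 (pt 2) = a from e2, show g.1 (pt 3) = b from e3]

/-- Fix two points p ≠ q and a pair s of two further points. Among the pairs avoiding p, q and disjoint from s, exactly 30 lie in an octad together with p, q and s and exactly 160 do not; and any two pairs other than s that meet s in equally many points and agree on that octad property are carried to one another by an element of the group of the length-24 code fixing p, q and s. -/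
theorem result (p q : Cfsg.GolayPt) (hpq : p ≠ q) (s : Finset Cfsg.GolayPt) (hs : (s.card = 2 ∧ p ∉ s ∧ q ∉ s)) : {t : Finset Cfsg.GolayPt | (t.card = 2 ∧ p ∉ t ∧ q ∉ t) ∧ Disjoint s t ∧ (∃ o ∈ Cfsg.octads, p ∈ o ∧ q ∈ o ∧ s ∪ t ⊆ o)}.ncard = 30 ∧ {t : Finset Cfsg.GolayPt | (t.card = 2 ∧ p ∉ t ∧ q ∉ t) ∧ Disjoint s t ∧ ¬ (∃ o ∈ Cfsg.octads, p ∈ o ∧ q ∈ o ∧ s ∪ t ⊆ o)}.ncard = 160 ∧ ∀ t t' : Finset Cfsg.GolayPt, (t.card = 2 ∧ p ∉ t ∧ q ∉ t) → (t'.card = 2 ∧ p ∉ t' ∧ q ∉ t') → t ≠ s → t' ≠ s → (s ∩ t).card = (s ∩ t').card → ((∃ o ∈ Cfsg.octads, p ∈ o ∧ q ∈ o ∧ s ∪ t ⊆ o) ↔ (∃ o ∈ Cfsg.octads, p ∈ o ∧ q ∈ o ∧ s ∪ t' ⊆ o)) → ∃ g : Equiv.Perm Cfsg.GolayPt, g ∈ Cfsg.M24 ∧ g p = p ∧ g q = q ∧ g • s = s ∧ g • t = t' := by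
  obtain ⟨h, hh, rfl, rfl, rfl⟩ := exists_base hpq hs
  have hhi : h⁻¹ ∈ M24 := M24.inv_mem hh
  have hcard : ∀ t : Finset GolayPt, (h • t).card = t.card := fun t => Finset.card_smul_finset h t
  have hdisj : ∀ t : Finset GolayPt, Disjoint (h • s0) (h • t) ↔ Disjoint s0 t := by
    intro t
    rw [Finset.disjoint_iff_inter_eq_empty, Finset.disjoint_iff_inter_eq_empty,
      ← Finset.smul_finset_inter, Finset.smul_finset_eq_empty]
  refine ⟨?_, ?_, ?_⟩
  · rw [← count_base_in]
    have := ncard_transport h
      (fun t => t.card = 2 ∧ ((p0 ∉ t ∧ q0 ∉ t) ∧ Disjoint s0 t ∧ OProp p0 q0 s0 t))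
      (fun t => (t.card = 2 ∧ h p0 ∉ t ∧ h q0 ∉ t) ∧ Disjoint (h • s0) t ∧
        (∃ o ∈ octads, h p0 ∈ o ∧ h q0 ∈ o ∧ h • s0 ∪ t ⊆ o))
      (by
        intro t
        rw [hcard, mem_smul_iff, mem_smul_iff, hdisj]
        have := OProp_smul_iff hh p0 q0 s0 t
        unfold OProp at this ⊢
        rw [this]
        constructor
        · rintro ⟨⟨a, b, c⟩, d, e⟩; exact ⟨a, ⟨b, c⟩, d, e⟩
        · rintro ⟨a, ⟨b, c⟩, d, e⟩; exact ⟨⟨a, b, c⟩, d, e⟩)
    exact this
  · rw [← count_base_out]
    have := ncard_transport h
      (fun t => t.card = 2 ∧ ((p0 ∉ t ∧ q0 ∉ t) ∧ Disjoint s0 t ∧ ¬ OProp p0 q0 s0 t))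
      (fun t => (t.card = 2 ∧ h p0 ∉ t ∧ h q0 ∉ t) ∧ Disjoint (h • s0) t ∧
        ¬ (∃ o ∈ octads, h p0 ∈ o ∧ h q0 ∈ o ∧ h • s0 ∪ t ⊆ o))
      (by
        intro t
        rw [hcard, mem_smul_iff, mem_smul_iff, hdisj]
        have := OProp_smul_iff hh p0 q0 s0 t
        unfold OProp at this ⊢
        rw [this]
        constructor
        · rintro ⟨⟨a, b, c⟩, d, e⟩; exact ⟨a, ⟨b, c⟩, d, e⟩
        · rintro ⟨a, ⟨b, c⟩, d, e⟩; exact ⟨⟨a, b, c⟩, d, e⟩)
    exact this
  · intro t t' ht ht' hne hne' hc ho
    have e1 : h • (h⁻¹ • t) = t := smul_inv_smul h t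
    have e2 : h • (h⁻¹ • t') = t' := smul_inv_smul h t'
    have hz : (h⁻¹ • t).card = 2 ∧ p0 ∉ h⁻¹ • t ∧ q0 ∉ h⁻¹ • t := by
      refine ⟨by rw [Finset.card_smul_finset]; exact ht.1, ?_, ?_⟩
      · rw [← mem_smul_iff h p0, e1]; exact ht.2.1
      · rw [← mem_smul_iff h q0, e1]; exact ht.2.2
    have hz' : (h⁻¹ • t').card = 2 ∧ p0 ∉ h⁻¹ • t' ∧ q0 ∉ h⁻¹ • t' := by
      refine ⟨by rw [Finset.card_smul_finset]; exact ht'.1, ?_, ?_⟩
      · rw [← mem_smul_iff h p0, e2]; exact ht'.2.1
      · rw [← mem_smul_iff h q0, e2]; exact ht'.2.2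
    have hn : h⁻¹ • t ≠ s0 := by
      intro hx; apply hne; rw [← e1, hx]
    have hn' : h⁻¹ • t' ≠ s0 := by
      intro hx; apply hne'; rw [← e2, hx]
    have hc' : (s0 ∩ h⁻¹ • t).card = (s0 ∩ h⁻¹ • t').card := by
      rw [← card_inter_smul h s0 (h⁻¹ • t), ← card_inter_smul h s0 (h⁻¹ • t'), e1, e2]
      exact hc
    have ho' : OProp p0 q0 s0 (h⁻¹ • t) ↔ OProp p0 q0 s0 (h⁻¹ • t') := by
      rw [← OProp_smul_iff hh p0 q0 s0 (h⁻¹ • t), ← OProp_smul_iff hh p0 q0 s0 (h⁻¹ • t'), e1, e2]
      exact ho
    obtain ⟨s, hs, hsp, hsq, hss, hsz⟩ := base_trans _ _ hz hz' hn hn' hc' ho'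
    refine ⟨h * s * h⁻¹, M24.mul_mem (M24.mul_mem hh hs) hhi, ?_, ?_, ?_, ?_⟩
    · have e3 : h⁻¹ (h p0) = p0 := by simp
      rw [Equiv.Perm.mul_apply, Equiv.Perm.mul_apply, e3, hsp]
    · have e3 : h⁻¹ (h q0) = q0 := by simp
      rw [Equiv.Perm.mul_apply, Equiv.Perm.mul_apply, e3, hsq]
    · rw [mul_smul, mul_smul, inv_smul_smul, hss]
    · rw [mul_smul, mul_smul, hsz, e2]

end Cfsg.Agent.S1638
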