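import Mathlib
import Cfsg.Agent.Lib.Helper26_HSInvol
import Cfsg.Agent.Lib.Helper26_HSPair
import Cfsg.Agent.S1583

set_option autoImplicit false

namespace Cfsg.Agent.S1642

open Cfsg Cfsg.Agent.Lib.Helper26_VecCode Cfsg.Agent.Lib.Helper26_CfgHS100
  Cfsg.Agent.Lib.Helper26_HSPair Cfsg.Agent.Lib.Helper26_HSInvol

theorem result (v w : ↥Cfsg.leechLattice) (hv : Cfsg.sqNorm (v : Cfsg.GolayPt → ℤ) = 48) (hw : Cfsg.sqNorm (w : Cfsg.GolayPt → ℤ) = 48) (hvw : Cfsg.dotInt (v : Cfsg.GolayPt → ℤ) (w : Cfsg.GolayPt → ℤ) = -32) : ∃ g : ↥Cfsg.Co0, g • v = v ∧ g • w = w ∧ orderOf g = 2 ∧ ∀ x ∈ {x : ↥Cfsg.leechLattice | Cfsg.sqNorm (x : Cfsg.GolayPt → ℤ) = 32 ∧ Cfsg.dotInt (v : Cfsg.GolayPt → ℤ) (x : Cfsg.GolayPt → ℤ) = 24 ∧ Cfsg.dotInt (w : Cfsg.GolayPt → ℤ) (x : Cfsg.GolayPt → ℤ) = -24}, g • x ≠ x := by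
  obtain ⟨h, h1, h2⟩ := to_std v w hv hw hvw
  obtain ⟨g₀, hg₀, f1, f2, hsq, hfpf⟩ := std_invol
  have hv' : h.1 v = ⟨vecC con1.a, mem1⟩ := Subtype.ext h1
  have hw' : h.1 w = ⟨vecC con2.a, mem2⟩ := Subtype.ext h2
  set G : Co0 := ⟨g₀, hg₀⟩ with hG
  have hGG : G * G = 1 := Subtype.ext hsq
  have key : ∀ x : leechLattice, (h⁻¹ * G * h) • x = x → g₀ (h.1 x) = h.1 x := by
    intro x hx
    have : (h.1)⁻¹ (g₀ (h.1 x)) = x := hx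
    rw [Equiv.Perm.inv_def, Equiv.symm_apply_eq] at this
    exact this
  have hfp : ∀ x ∈ {x : ↥Cfsg.leechLattice | Cfsg.sqNorm (x : Cfsg.GolayPt → ℤ) = 32 ∧
      Cfsg.dotInt (v : Cfsg.GolayPt → ℤ) (x : Cfsg.GolayPt → ℤ) = 24 ∧
      Cfsg.dotInt (w : Cfsg.GolayPt → ℤ) (x : Cfsg.GolayPt → ℤ) = -24},
      (h⁻¹ * G * h) • x ≠ x := by
    intro x hx hgx
    have hm : ((h.1 x : leechLattice) : GolayPt → ℤ) ∈ minSet consL := by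
      have := (mem_minSet_two h.1 h.2 con1 con2 v w h1 h2 x).mpr
      rw [con1_k, con2_k] at this
      exact this hx
    exact hfpf _ hm (key x hgx)
  have hne : (h⁻¹ * G * h) ≠ 1 := by
    intro h1'
    have hS := (Cfsg.Agent.S1583.result v w hv hw hvw).1
    have hne : ({x : ↥Cfsg.leechLattice | Cfsg.sqNorm (x : Cfsg.GolayPt → ℤ) = 32 ∧
        Cfsg.dotInt (v : Cfsg.GolayPt → ℤ) (x : Cfsg.GolayPt → ℤ) = 24 ∧
        Cfsg.dotInt (w : Cfsg.GolayPt → ℤ) (x : Cfsg.GolayPt → ℤ) = -24}).Nonempty := by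
      apply Set.nonempty_of_ncard_ne_zero
      rw [hS]; norm_num
    obtain ⟨x, hx⟩ := hne
    apply hfp x hx
    rw [h1', one_smul]
  refine ⟨h⁻¹ * G * h, ?_, ?_, ?_, hfp⟩
  · show (h.1)⁻¹ (g₀ (h.1 v)) = v
    rw [hv', f1 mem1, ← hv', Equiv.Perm.inv_def, Equiv.symm_apply_apply]
  · show (h.1)⁻¹ (g₀ (h.1 w)) = w
    rw [hw', f2 mem2, ← hw', Equiv.Perm.inv_def, Equiv.symm_apply_apply]
  · haveI : Fact (Nat.Prime 2) := ⟨Nat.prime_two⟩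
    apply orderOf_eq_prime _ hne
    rw [pow_two]
    calc (h⁻¹ * G * h) * (h⁻¹ * G * h) = h⁻¹ * (G * G) * h := by group
      _ = 1 := by rw [hGG]; group

end Cfsg.Agent.S1642
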