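import Cfsg.Statements.S1643
import Cfsg.Agent.Lib.Helper93_S1643f

set_option autoImplicit false
open scoped Pointwise
open Cfsg

namespace Cfsg.Agent.S1643

open Cfsg.Agent.Lib.Helper93_S1643

/-- PSL(2, 23) = ⟨t ↦ t+1, t ↦ u t (u square), t ↦ −1/t⟩ is maximal of order 6072 in the group of the length-24 code, and its point stabiliser 23:11 (order 253) is maximal in the Mathieu group of degree 23. -/
theorem result : (Subgroup.closure ({Equiv.optionCongr (Equiv.addRight (1 : ZMod 23)), Cfsg.projInv} ∪ {g : Equiv.Perm Cfsg.GolayPt | ∃ u : (ZMod 23)ˣ, IsSquare u ∧ g = Equiv.optionCongr (Units.mulLeft u)}) ≤ Cfsg.M24 ∧ Nat.card ↥(Subgroup.closure ({Equiv.optionCongr (Equiv.addRight (1 : ZMod 23)), Cfsg.projInv} ∪ {g : Equiv.Perm Cfsg.GolayPt | ∃ u : (ZMod 23)ˣ, IsSquare u ∧ g = Equiv.optionCongr (Units.mulLeft u)})) = 6072 ∧ IsCoatom ((Subgroup.closure ({Equiv.optionCongr (Equiv.addRight (1 : ZMod 23)), Cfsg.projInv} ∪ {g : Equiv.Perm Cfsg.GolayPt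 | ∃ u : (ZMod 23)ˣ, IsSquare u ∧ g = Equiv.optionCongr (Units.mulLeft u)})).subgroupOf Cfsg.M24)) ∧ (Subgroup.closure ({Equiv.optionCongr (Equiv.addRight (1 : ZMod 23))} ∪ {g : Equiv.Perm Cfsg.GolayPt | ∃ u : (ZMod 23)ˣ, IsSquare u ∧ g = Equiv.optionCongr (Units.mulLeft u)}) ≤ Cfsg.M24 ⊓ MulAction.stabilizer (Equiv.Perm Cfsg.GolayPt) (none : Cfsg.GolayPt) ∧ Nat.card ↥(Subgroup.closure ({Equiv.optionCongr (Equiv.addRight (1 : ZMod 23))} ∪ {g : Equiv.Perm Cfsg.GolayPt | ∃ u : (ZMod 23)ˣ, IsSquare u ∧ g = Equiv.optionCongr (Units.mulLeft u)})) = 253 ∧ IsCoatom (((Subgroup.closure ({Equiv.optionCongr (Equiv.addRight (1 : ZMod 23))} ∪ {g : Equiv.Perm Cfsg.GolayPt | ∃ u : (ZMod 23)ˣ, IsSquare u ∧ g = Equiv.optionCongr (Units.mulLeft u)})).subgroupOf Cfsg.M24).subgroupOf (MulAction.stabilizer Cfsg.M24 (none : Cfsg.GolayPt)))) := by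
  have hS : MulAction.stabilizer Cfsg.M24 (none : Cfsg.GolayPt) = M23.subgroupOf Cfsg.M24 := by
    ext x
    rw [MulAction.mem_stabilizer_iff, Subgroup.mem_subgroupOf, mem_M23]
    constructor
    · intro h
      exact ⟨x.2, h⟩
    · intro h
      exact h.2
  change (Subgroup.closure genL ≤ Cfsg.M24 ∧ Nat.card ↥(Subgroup.closure genL) = 6072 ∧
      IsCoatom ((Subgroup.closure genL).subgroupOf Cfsg.M24)) ∧
    (Subgroup.closure genF ≤ M23 ∧ Nat.card ↥(Subgroup.closure genF) = 253 ∧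
      IsCoatom (((Subgroup.closure genF).subgroupOf Cfsg.M24).subgroupOf
        (MulAction.stabilizer Cfsg.M24 (none : Cfsg.GolayPt))))
  rw [closure_genF, hS]
  refine ⟨⟨genL_le_M24, card_closure_genL, ?_⟩, affSq_le_M23, card_affSq, ?_⟩
  · apply isCoatom_subgroupOf genL_le_M24
    · intro h
      have h1 := card_closure_genL
      rw [h, card_M24] at h1
      omega
    · intro H h1 h2
      exact main_M24 H h1 h2
  · have hle : affSq ≤ Cfsg.M24 := affSq_le_M23.trans inf_le_left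
    have hle2 : M23 ≤ Cfsg.M24 := inf_le_left
    apply isCoatom_subgroupOf
    · intro x hx
      exact affSq_le_M23 hx
    · intro h
      have h1 : Nat.card ↥(affSq.subgroupOf Cfsg.M24) = 253 := by
        rw [card_subgroupOf_of_le hle, card_affSq]
      rw [h, card_subgroupOf_of_le hle2, card_M23] at h1
      omega
    · intro K h1 h2
      have hK : (K.map (Cfsg.M24).subtype).subgroupOf Cfsg.M24 = K :=
        Subgroup.comap_map_eq_self_of_injective Subtype.coe_injective K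
      have h3 : affSq ≤ K.map (Cfsg.M24).subtype := by
        intro y hy
        exact ⟨⟨y, hle hy⟩, h1 (show (⟨y, hle hy⟩ : ↥Cfsg.M24) ∈ affSq.subgroupOf Cfsg.M24 from hy),
          rfl⟩
      have h4 : K.map (Cfsg.M24).subtype ≤ M23 := by
        rintro y ⟨k, hk, rfl⟩
        exact h2 hk
      rcases main_M23 _ h3 h4 with h5 | h5
      · left
        rw [← hK, h5]
      · right
        rw [← hK, h5]

end Cfsg.Agent.S1643
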