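import Cfsg.Statements.S1666
import Cfsg.Agent.Lib.Helper7_HSconcrete
import Cfsg.Agent.Lib.Helper26_HSPair
import Cfsg.Agent.Lib.Helper92_OrthPairs
import Cfsg.Agent.S0378

set_option autoImplicit false
open Cfsg

namespace Cfsg.Agent.S1666

open MulAction Cfsg.Agent.Lib.Helper92_HS Cfsg.Agent.Lib.Helper92_RankSimple
open Cfsg.Agent.S5546 (Lam)

/-! ### the order of the concrete `M22` -/

theorem mem_M22 {g : Equiv.Perm GolayPt} : g ∈ Spor.M22 ↔
    g ∈ M24 ∧ g none = none ∧ g (some 0) = some 0 := by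
  unfold Spor.M22 Spor.M23
  rw [Subgroup.mem_inf, Subgroup.mem_inf, and_assoc]
  rfl

theorem card_M22 : Nat.card ↥Spor.M22 = 443520 := by
  rw [← Cfsg.Agent.S0378.result (none : GolayPt) (some 0) (by decide)]
  apply Nat.card_congr
  exact
    { toFun := fun k => ⟨⟨k.1, (mem_M22.1 k.2).1⟩, Subgroup.mem_inf.2
        ⟨MulAction.mem_stabilizer_iff.2 (mem_M22.1 k.2).2.1,
         MulAction.mem_stabilizer_iff.2 (mem_M22.1 k.2).2.2⟩⟩
      invFun := fun k => ⟨k.1.1, mem_M22.2 ⟨k.1.2,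
        MulAction.mem_stabilizer_iff.1 (Subgroup.mem_inf.1 k.2).1,
        MulAction.mem_stabilizer_iff.1 (Subgroup.mem_inf.1 k.2).2⟩⟩
      left_inv := fun k => rfl
      right_inv := fun k => rfl }

/-! ### the concrete Higman–Sims group is conjugate to the standard joint stabiliser -/

theorem mem_HS {g : Equiv.Perm Lam} : g ∈ Spor.HS ↔
    g ∈ Co0 ∧ g Spor.leechV = Spor.leechV ∧ g Spor.leechU' = Spor.leechU' := by
  unfold Spor.HS Spor.Co3
  rw [Subgroup.mem_inf, Subgroup.mem_inf, and_assoc]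
  rfl

/-- the third vertex of the triangle -/
def wL : Lam := -(Spor.leechV + Spor.leechU')

theorem norm_V : sqNorm (Spor.leechV : GolayPt → ℤ) = 48 := by
  show sqNorm Spor.vecV = 48
  simp [sqNorm, Spor.vecV, Fintype.sum_option]

theorem norm_U' : sqNorm (Spor.leechU' : GolayPt → ℤ) = 32 := by
  show sqNorm Spor.vecU' = 32
  simp [sqNorm, Spor.vecU', Fintype.sum_option, Finset.sum_ite_eq']

theorem dot_V_U' : dotInt (Spor.leechV : GolayPt → ℤ) (Spor.leechU' : GolayPt → ℤ) = -16 := by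
  show dotInt Spor.vecV Spor.vecU' = -16
  simp [dotInt, Spor.vecV, Spor.vecU', Fintype.sum_option, Finset.sum_ite_eq']

theorem norm_w : sqNorm (wL : GolayPt → ℤ) = 48 := by
  show sqNorm (-((Spor.leechV : GolayPt → ℤ) + (Spor.leechU' : GolayPt → ℤ))) = 48
  rw [Cfsg.Agent.Lib.Helper26_HSPair.norm_neg_add, norm_V, norm_U', dot_V_U']
  norm_num

theorem dot_V_w : dotInt (Spor.leechV : GolayPt → ℤ) (wL : GolayPt → ℤ) = -32 := by
  show dotInt (Spor.leechV : GolayPt → ℤ)
    (-((Spor.leechV : GolayPt → ℤ) + (Spor.leechU' : GolayPt → ℤ))) = -32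
  rw [Cfsg.Agent.Lib.Helper26_HSPair.dot_neg_add, Cfsg.Agent.Lib.Helper26_HSPair.dot_self,
    norm_V, dot_V_U']
  norm_num

/-- the concrete group, as a joint stabiliser in the automorphism group -/
def hsEquiv : ↥Spor.HS ≃*
    ↥(stabilizer ↥Co0 Spor.leechV ⊓ stabilizer ↥Co0 wL) where
  toFun k := ⟨⟨k.1, (mem_HS.1 k.2).1⟩, by
    have h1 : k.1 Spor.leechV = Spor.leechV := (mem_HS.1 k.2).2.1
    have h2 : k.1 Spor.leechU' = Spor.leechU' := (mem_HS.1 k.2).2.2
    refine ⟨mem_stabilizer_iff.2 h1, mem_stabilizer_iff.2 ?_⟩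
    show k.1 (-(Spor.leechV + Spor.leechU')) = -(Spor.leechV + Spor.leechU')
    rw [Cfsg.Agent.Lib.Helper26_HSPair.co0_neg k.1 (mem_HS.1 k.2).1, (mem_HS.1 k.2).1.1, h1, h2]⟩
  invFun k := ⟨k.1.1, mem_HS.2 ⟨k.1.2, by
    have h1 : k.1.1 Spor.leechV = Spor.leechV := mem_stabilizer_iff.1 k.2.1
    have h2 : k.1.1 wL = wL := mem_stabilizer_iff.1 k.2.2
    refine ⟨h1, ?_⟩
    have e : Spor.leechU' = -(Spor.leechV + wL) := by
      unfold wL
      abel
    rw [e, Cfsg.Agent.Lib.Helper26_HSPair.co0_neg k.1.1 k.1.2, k.1.2.1, h1, h2]⟩⟩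
  left_inv k := rfl
  right_inv k := rfl
  map_mul' k k' := rfl

/-- the concrete group is isomorphic to the standard joint stabiliser -/
theorem hs_iso_G1 : Nonempty (↥Spor.HS ≃* ↥G1) := by
  obtain ⟨h, h1, h2⟩ := Cfsg.Agent.Lib.Helper26_HSPair.pair_trans Spor.leechV wL v1L w1L
    norm_V norm_w dot_V_w v1_norm w1_norm dot_v1_w1
  have h1' : h • Spor.leechV = v1L := h1
  have h2' : h • wL = w1L := h2
  have e0 := conjInf (G := ↥Co0) h Spor.leechV wL
  rw [h1', h2'] at e0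
  exact ⟨hsEquiv.trans e0⟩

/-- Recognition of the Higman–Sims group as a rank 3 permutation group: a transitive permutation group on 100 points in which the stabiliser of a point is isomorphic to the Mathieu group M₂₂ and has two further orbits, of sizes 22 and 77, is isomorphic to the Higman–Sims group. -/
theorem result {Ω : Type*} [Fintype Ω] [DecidableEq Ω] (hΩ : Fintype.card Ω = 100) (G : Subgroup (Equiv.Perm Ω)) [MulAction.IsPretransitive G Ω] (a : Ω)  (e : MulAction.stabilizer G a ≃* Cfsg.Spor.M22) (b c : Ω) (hb : (MulAction.orbit (MulAction.stabilizer G a) b).ncard = 22) (hc : (MulAction.orbit (MulAction.stabilizer G a) c).ncard = 77) : Cfsg.Spor.IsoHS G := by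
  have : FaithfulSMul ↥G Ω := ⟨fun {g g'} h => Subtype.ext (Equiv.ext h)⟩
  have hV : Nat.card Ω = 100 := by rw [Nat.card_eq_fintype_card]; exact hΩ
  have hs : Nat.card ↥(MulAction.stabilizer ↥G a) = 443520 := by
    rw [Nat.card_congr e.toEquiv]; exact card_M22
  obtain ⟨e1⟩ := Cfsg.Agent.Lib.Helper7_HSconcrete.iso_G1 (H := ↥G) a b c hV hb hc hs
  obtain ⟨e2⟩ := hs_iso_G1
  exact ⟨e1.trans e2.symm⟩

end Cfsg.Agent.S1666
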