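import Cfsg.Statements.S1681
import Cfsg.Agent.Lib.helper19_TC2P
import Cfsg.Agent.Lib.helper19_SuzA

set_option autoImplicit false
set_option maxRecDepth 100000
open Cfsg

namespace Cfsg.Agent.S1681

open Cfsg.Spor Cfsg.Agent.Lib.helper19_TC2 Cfsg.Agent.Lib.helper19_TC2L Cfsg.Agent.Lib.helper19_TC2P
open Cfsg.Agent.Lib.helper19_SuzU Cfsg.Agent.Lib.helper19_SuzL Cfsg.Agent.Lib.helper19_SuzA

/-- the relators -/
abbrev Rels : Set (FreeGroup Suz.Gen) := coxRelators Suz.edges ∪ {r | r ∈ Suz.extra}

/-- the letters -/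
def gen (s : ℕ) : Suz.Gen := [Suz.Gen.a, Suz.Gen.b, Suz.Gen.c, Suz.Gen.d, Suz.Gen.e, Suz.Gen.f, Suz.Gen.g].getD s Suz.Gen.a

/-- the index of a generator -/
def idx : Suz.Gen → ℕ
  | .a => 0
  | .b => 1
  | .c => 2
  | .d => 3
  | .e => 4
  | .f => 5
  | .g => 6

theorem gen_idx (x : Suz.Gen) : gen (idx x) = x := by cases x <;> rfl

theorem nodes (x : Suz.Gen) : x ∈ coxNodes Suz.edges := by cases x <;> decide

/-- the generators of the presented group -/
noncomputable def S (s : ℕ) : PresentedGroup Rels := PresentedGroup.of (gen s)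

theorem S_inv (s : ℕ) : (S s)⁻¹ = S s := inv_of (nodes _)

theorem cox_rel (i j m : ℕ) (hm : coxLabel Suz.edges (gen i) (gen j) = m) :
    wprod S (altWord i j m) = 1 := by
  rw [wprod_altWord, ← hm]; exact pair_rel (nodes _) (nodes _)

theorem sq_word (s : ℕ) : wprod S [s, s] = 1 := by
  simp only [wprod, mul_one]; exact sq_rel (nodes _)

/-- the values of the further relators in a group generated by involutions -/
theorem extras_eq {Γ : Type*} [Group Γ] (t : ℕ → Γ) (ht : ∀ i, (t i)⁻¹ = t i)
    (φ : FreeGroup Suz.Gen →* Γ) (hφ : ∀ x, φ (FreeGroup.of x) = t (idx x)) :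
    φ (Suz.extra.getD 0 1) = wprod t [0, 3, 2, 3, 2, 3, 2, 3, 2] ∧
    φ (Suz.extra.getD 1 1) = wprod t [0, 6, 5, 6, 5] ∧
    φ (Suz.extra.getD 2 1) = wprod t [0, 1, 2, 5, 0, 1, 2, 5, 0, 1, 2, 5, 0, 1, 2, 5, 0, 1, 2, 5] ∧
    φ (Suz.extra.getD 3 1) = wprod t [1, 5, 6, 1, 5, 6, 1, 5, 6, 1, 5, 6, 1, 5, 6] ∧
    φ (Suz.extra.getD 4 1) = wprod t [1, 2, 3, 2, 3, 1, 2, 3, 2, 3, 1, 2, 3, 2, 3, 1, 2, 3, 2, 3, 1, 2, 3, 2, 3, 4, 1, 2, 3, 2, 3, 1, 2, 3, 2, 3, 1, 2, 3, 2, 3, 1, 2, 3, 2, 3, 1, 2, 3, 2, 3, 4, 1, 2, 3, 2, 3, 1, 2, 3, 2, 3, 1, 2, 3, 2, 3, 1, 2, 3, 2, 3, 1, 2, 3, 2, 3, 4] := by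
  refine ⟨?_, ?_, ?_, ?_, ?_⟩ <;>
  simp only [Suz.extra, List.getD_cons_zero, List.getD_cons_succ, Suz.a, Suz.b, Suz.c, Suz.d, Suz.e, Suz.f, Suz.g,
    map_mul, map_inv, map_pow, hφ, idx, wprod, ← inv_pow, mul_inv_rev, ht, pow_succ, pow_zero,
    one_mul, mul_one, mul_assoc]

theorem mk_of (x : Suz.Gen) : PresentedGroup.mk Rels (FreeGroup.of x) = S (idx x) := by
  cases x <;> rfl

theorem extra_word0 : wprod S [0, 3, 2, 3, 2, 3, 2, 3, 2] = 1 := by
  have h := (extras_eq S S_inv (PresentedGroup.mk Rels) mk_of).1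
  rw [← h]
  exact extra_rel (by simp [Suz.extra])

theorem extra_word1 : wprod S [0, 6, 5, 6, 5] = 1 := by
  have h := (extras_eq S S_inv (PresentedGroup.mk Rels) mk_of).2.1
  rw [← h]
  exact extra_rel (by simp [Suz.extra])

theorem extra_word2 : wprod S [0, 1, 2, 5, 0, 1, 2, 5, 0, 1, 2, 5, 0, 1, 2, 5, 0, 1, 2, 5] = 1 := by
  have h := (extras_eq S S_inv (PresentedGroup.mk Rels) mk_of).2.2.1
  rw [← h]
  exact extra_rel (by simp [Suz.extra])

theorem extra_word3 : wprod S [1, 5, 6, 1, 5, 6, 1, 5, 6, 1, 5, 6, 1, 5, 6] = 1 := by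
  have h := (extras_eq S S_inv (PresentedGroup.mk Rels) mk_of).2.2.2.1
  rw [← h]
  exact extra_rel (by simp [Suz.extra])

theorem extra_word4 : wprod S [1, 2, 3, 2, 3, 1, 2, 3, 2, 3, 1, 2, 3, 2, 3, 1, 2, 3, 2, 3, 1, 2, 3, 2, 3, 4, 1, 2, 3, 2, 3, 1, 2, 3, 2, 3, 1, 2, 3, 2, 3, 1, 2, 3, 2, 3, 1, 2, 3, 2, 3, 4, 1, 2, 3, 2, 3, 1, 2, 3, 2, 3, 1, 2, 3, 2, 3, 1, 2, 3, 2, 3, 1, 2, 3, 2, 3, 4] = 1 := by
  have h := (extras_eq S S_inv (PresentedGroup.mk Rels) mk_of).2.2.2.2
  rw [← h]
  exact extra_rel (by simp [Suz.extra])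

/-- the subgroup of the statement -/
noncomputable abbrev Hs : Subgroup (PresentedGroup Rels) :=
  (Subgroup.closure ({Cfsg.Spor.Suz.a, Cfsg.Spor.Suz.b, Cfsg.Spor.Suz.c, Cfsg.Spor.Suz.d, Cfsg.Spor.Suz.f, Cfsg.Spor.Suz.g} : Set (FreeGroup Cfsg.Spor.Suz.Gen))).map (PresentedGroup.mk Rels)

theorem S_mem_Hs (s : ℕ) (hs : s ∈ [0, 1, 2, 3, 5, 6]) : S s ∈ Hs := by
  refine Subgroup.mem_map_of_mem _ (Subgroup.subset_closure ?_)
  simp only [List.mem_cons, List.not_mem_nil, or_false] at hs
  rcases hs with rfl | rfl | rfl | rfl | rfl | rfl <;> simp [gen]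

/-- the model for the upper bound -/
noncomputable def Mo : Model P (PresentedGroup Rels) where
  S := S
  H := Hs
  hinv := by
    intro l hl
    have hl' : l < 7 := hl
    rw [inv_eq l hl', S_inv]
    interval_cases l <;> rfl
  hrel := by
    intro wid hwid hs
    have hwid' : wid < 40 := hwid
    interval_cases wid
    · exact cox_rel 2 5 2 (by decide)
    · exact cox_rel 1 3 2 (by decide)
    · exact cox_rel 2 6 2 (by decide)
    · exact cox_rel 1 4 2 (by decide)
    · exact cox_rel 3 5 2 (by decide)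
    · exact cox_rel 0 5 2 (by decide)
    · exact cox_rel 3 6 2 (by decide)
    · exact cox_rel 4 5 2 (by decide)
    · exact cox_rel 4 6 2 (by decide)
    · exact cox_rel 0 6 2 (by decide)
    · exact cox_rel 1 5 3 (by decide)
    · exact cox_rel 1 6 3 (by decide)
    · exact cox_rel 1 2 3 (by decide)
    · exact cox_rel 2 4 2 (by decide)
    · exact extra_word1
    · exact cox_rel 0 3 2 (by decide)
    · exact cox_rel 5 6 4 (by decide)
    · exact cox_rel 0 2 2 (by decide)
    · exact sq_word 1
    · exact cox_rel 0 4 2 (by decide)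
    · exact sq_word 6
    · exact sq_word 5
    · exact sq_word 2
    · exact sq_word 3
    · exact sq_word 0
    · exact cox_rel 3 4 3 (by decide)
    · exact cox_rel 0 1 5 (by decide)
    · exact sq_word 4
    · exact extra_word0
    · exact cox_rel 2 3 8 (by decide)
    · exact extra_word3
    · exact extra_word2
    · exact extra_word4
    · rfl
    · exact absurd hs (by decide)
    · exact absurd hs (by decide)
    · exact absurd hs (by decide)
    · exact absurd hs (by decide)
    · exact absurd hs (by decide)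
    · exact absurd hs (by decide)
  hsub := by
    intro wid hwid hs
    have hwid' : wid < 40 := hwid
    interval_cases wid
    · exact absurd hs (by decide)
    · exact absurd hs (by decide)
    · exact absurd hs (by decide)
    · exact absurd hs (by decide)
    · exact absurd hs (by decide)
    · exact absurd hs (by decide)
    · exact absurd hs (by decide)
    · exact absurd hs (by decide)
    · exact absurd hs (by decide)
    · exact absurd hs (by decide)
    · exact absurd hs (by decide)
    · exact absurd hs (by decide)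
    · exact absurd hs (by decide)
    · exact absurd hs (by decide)
    · exact absurd hs (by decide)
    · exact absurd hs (by decide)
    · exact absurd hs (by decide)
    · exact absurd hs (by decide)
    · exact absurd hs (by decide)
    · exact absurd hs (by decide)
    · exact absurd hs (by decide)
    · exact absurd hs (by decide)
    · exact absurd hs (by decide)
    · exact absurd hs (by decide)
    · exact absurd hs (by decide)
    · exact absurd hs (by decide)
    · exact absurd hs (by decide)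
    · exact absurd hs (by decide)
    · exact absurd hs (by decide)
    · exact absurd hs (by decide)
    · exact absurd hs (by decide)
    · exact absurd hs (by decide)
    · exact absurd hs (by decide)
    · exact absurd hs (by decide)
    · show wprod S [0] ∈ Hs
      simp only [wprod, mul_one]; exact S_mem_Hs 0 (by decide)
    · show wprod S [1] ∈ Hs
      simp only [wprod, mul_one]; exact S_mem_Hs 1 (by decide)
    · show wprod S [2] ∈ Hs
      simp only [wprod, mul_one]; exact S_mem_Hs 2 (by decide)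
    · show wprod S [3] ∈ Hs
      simp only [wprod, mul_one]; exact S_mem_Hs 3 (by decide)
    · show wprod S [5] ∈ Hs
      simp only [wprod, mul_one]; exact S_mem_Hs 5 (by decide)
    · show wprod S [6] ∈ Hs
      simp only [wprod, mul_one]; exact S_mem_Hs 6 (by decide)

theorem hgen : Subgroup.closure (S '' {s | s < P.k}) = ⊤ := by
  rw [eq_top_iff, ← PresentedGroup.closure_range_of]
  apply Subgroup.closure_mono
  rintro _ ⟨x, rfl⟩
  refine ⟨idx x, ?_, ?_⟩
  · show idx x < 7
    cases x <;> decide
  · show PresentedGroup.of (gen (idx x)) = _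
    rw [gen_idx]

theorem upper_bound : Hs.index ≠ 0 ∧ Hs.index ≤ 22880 := upper Mo hgen

/-! ### the lower bound -/

/-- the images of the generators -/
noncomputable def q (s : ℕ) : Equiv.Perm (Fin 22880) := (perm isAction s)⁻¹

theorem q_inv (s : ℕ) : (q s)⁻¹ = q s := by
  by_cases hs : s < 7
  · have h1 : pword isAction [s, s] = 1 := by
      apply pword_eq_one isAction
      · intro t ht; simp at ht; omega
      · have := isAction.cancel s hs
        have hinv : invL s = s := by interval_cases s <;> rfl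
        intro x hx
        have := this x hx
        rw [hinv] at this
        exact this
    have h2 : q s * q s = 1 := by simpa [pword, q] using h1
    exact inv_eq_of_mul_eq_one_right h2
  · simp [q, perm, hs]

theorem pword_eq_wprod (word : List ℕ) : pword isAction word = wprod q word := by
  induction word with
  | nil => rfl
  | cons s word ih => rw [pword_cons, ih]; rfl

theorem q_pair (i j m : ℕ) (hi : i < 7) (hj : j < 7)
    (hfix : ∀ x < 22880, tr A (altWord i j m) x = x) :
    (q i * q j) ^ m = 1 ∧ (q j * q i) ^ m = 1 := pair_perm isAction i j m hi hj hfix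

theorem q_sq (i : ℕ) : (q i * q i) ^ 1 = 1 := by
  rw [pow_one]; exact mul_eq_one_iff_inv_eq.mpr (q_inv i)

/-- the images of the generators, by name -/
noncomputable def fq (x : Suz.Gen) : Equiv.Perm (Fin 22880) := q (idx x)

theorem cox_ok (x y : Suz.Gen) : (fq x * fq y) ^ coxLabel Suz.edges x y = 1 := by
  have p0_1 := q_pair 0 1 5 (by decide) (by decide) fix26
  have p0_2 := q_pair 0 2 2 (by decide) (by decide) fix17
  have p0_3 := q_pair 0 3 2 (by decide) (by decide) fix15
  have p0_4 := q_pair 0 4 2 (by decide) (by decide) fix19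
  have p0_5 := q_pair 0 5 2 (by decide) (by decide) fix5
  have p0_6 := q_pair 0 6 2 (by decide) (by decide) fix9
  have p1_2 := q_pair 1 2 3 (by decide) (by decide) fix12
  have p1_3 := q_pair 1 3 2 (by decide) (by decide) fix1
  have p1_4 := q_pair 1 4 2 (by decide) (by decide) fix3
  have p1_5 := q_pair 1 5 3 (by decide) (by decide) fix10
  have p1_6 := q_pair 1 6 3 (by decide) (by decide) fix11
  have p2_3 := q_pair 2 3 8 (by decide) (by decide) fix29
  have p2_4 := q_pair 2 4 2 (by decide) (by decide) fix13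
  have p2_5 := q_pair 2 5 2 (by decide) (by decide) fix0
  have p2_6 := q_pair 2 6 2 (by decide) (by decide) fix2
  have p3_4 := q_pair 3 4 3 (by decide) (by decide) fix25
  have p3_5 := q_pair 3 5 2 (by decide) (by decide) fix4
  have p3_6 := q_pair 3 6 2 (by decide) (by decide) fix6
  have p4_5 := q_pair 4 5 2 (by decide) (by decide) fix7
  have p4_6 := q_pair 4 6 2 (by decide) (by decide) fix8
  have p5_6 := q_pair 5 6 4 (by decide) (by decide) fix16
  cases x <;> cases y
  · exact q_sq 0
  · exact p0_1.1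
  · exact p0_2.1
  · exact p0_3.1
  · exact p0_4.1
  · exact p0_5.1
  · exact p0_6.1
  · exact p0_1.2
  · exact q_sq 1
  · exact p1_2.1
  · exact p1_3.1
  · exact p1_4.1
  · exact p1_5.1
  · exact p1_6.1
  · exact p0_2.2
  · exact p1_2.2
  · exact q_sq 2
  · exact p2_3.1
  · exact p2_4.1
  · exact p2_5.1
  · exact p2_6.1
  · exact p0_3.2
  · exact p1_3.2
  · exact p2_3.2
  · exact q_sq 3
  · exact p3_4.1
  · exact p3_5.1
  · exact p3_6.1
  · exact p0_4.2
  · exact p1_4.2
  · exact p2_4.2
  · exact p3_4.2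
  · exact q_sq 4
  · exact p4_5.1
  · exact p4_6.1
  · exact p0_5.2
  · exact p1_5.2
  · exact p2_5.2
  · exact p3_5.2
  · exact p4_5.2
  · exact q_sq 5
  · exact p5_6.1
  · exact p0_6.2
  · exact p1_6.2
  · exact p2_6.2
  · exact p3_6.2
  · exact p4_6.2
  · exact p5_6.2
  · exact q_sq 6

theorem lift_of (x : Suz.Gen) : FreeGroup.lift fq (FreeGroup.of x) = q (idx x) := by
  simp [fq]

theorem rels_ok : ∀ r ∈ Rels, FreeGroup.lift fq r = 1 := by
  intro r hr
  rcases hr with ⟨x, -, y, -, rfl⟩ | hr
  · rw [map_pow, map_mul, FreeGroup.lift_apply_of, FreeGroup.lift_apply_of]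
    exact cox_ok x y
  · have he := extras_eq q q_inv (FreeGroup.lift fq) lift_of
    have hr' : r ∈ Suz.extra := hr
    simp only [Suz.extra, List.mem_cons, List.not_mem_nil, or_false] at hr'
    rcases hr' with rfl | rfl | rfl | rfl | rfl
    · have h := he.1
      simp only [Suz.extra, List.getD_cons_zero, List.getD_cons_succ] at h
      rw [h, ← pword_eq_wprod]
      exact pword_eq_one isAction _ (by decide) fix28
    · have h := he.2.1
      simp only [Suz.extra, List.getD_cons_zero, List.getD_cons_succ] at h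
      rw [h, ← pword_eq_wprod]
      exact pword_eq_one isAction _ (by decide) fix14
    · have h := he.2.2.1
      simp only [Suz.extra, List.getD_cons_zero, List.getD_cons_succ] at h
      rw [h, ← pword_eq_wprod]
      exact pword_eq_one isAction _ (by decide) fix31
    · have h := he.2.2.2.1
      simp only [Suz.extra, List.getD_cons_zero, List.getD_cons_succ] at h
      rw [h, ← pword_eq_wprod]
      exact pword_eq_one isAction _ (by decide) fix30
    · have h := he.2.2.2.2
      simp only [Suz.extra, List.getD_cons_zero, List.getD_cons_succ] at h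
      rw [h, ← pword_eq_wprod]
      exact pword_eq_one isAction _ (by decide) fix32

/-- the permutation representation -/
noncomputable def psi : PresentedGroup Rels →* Equiv.Perm (Fin 22880) := PresentedGroup.toGroup rels_ok

theorem psi_S (s : ℕ) (hs : s < 7) : psi (S s) = (perm isAction s)⁻¹ := by
  show PresentedGroup.toGroup rels_ok (PresentedGroup.of (gen s)) = _
  rw [PresentedGroup.toGroup.of]
  show q (idx (gen s)) = _
  have : idx (gen s) = s := by interval_cases s <;> rfl
  rw [this]; rfl

theorem psi_fix (g : PresentedGroup Rels) (hg : g ∈ Hs) : psi g ⟨0, by decide⟩ = ⟨0, by decide⟩ := by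
  obtain ⟨w, hw, rfl⟩ := hg
  induction hw using Subgroup.closure_induction with
  | mem x hx =>
    have hx' : ∃ s ∈ [0, 1, 2, 3, 5, 6], x = FreeGroup.of (gen s) := by
      simp only [Set.mem_insert_iff, Set.mem_singleton_iff] at hx
      rcases hx with rfl | rfl | rfl | rfl | rfl | rfl
      · exact ⟨0, by decide, rfl⟩
      · exact ⟨1, by decide, rfl⟩
      · exact ⟨2, by decide, rfl⟩
      · exact ⟨3, by decide, rfl⟩
      · exact ⟨5, by decide, rfl⟩
      · exact ⟨6, by decide, rfl⟩
    obtain ⟨s, hs, rfl⟩ := hx'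
    have hsk : s < 7 := by
      simp only [List.mem_cons, List.not_mem_nil, or_false] at hs
      omega
    show psi (S s) _ = _
    rw [psi_S s hsk]
    rw [Equiv.Perm.inv_eq_iff_eq]
    apply Fin.ext
    rw [perm_apply isAction hsk]
    exact (sub0 s hs).symm
  | one => simp
  | mul a b _ _ iha ihb => rw [map_mul, map_mul, Equiv.Perm.mul_apply, ihb, iha]
  | inv a _ iha =>
    rw [map_inv, map_inv, Equiv.Perm.inv_eq_iff_eq]
    exact iha.symm

theorem lower_bound [Finite (PresentedGroup Rels ⧸ Hs)] : 22880 ≤ Hs.index :=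
  le_index Hs (by decide) isAction S psi psi_S psi_fix tree_ok

/-- In the presented sporadic Suzuki group (generators a, …, g), the subgroup generated by the images of a, b, c, d, f, g has index 22880. -/
theorem result : (((Subgroup.closure ({Cfsg.Spor.Suz.a, Cfsg.Spor.Suz.b, Cfsg.Spor.Suz.c, Cfsg.Spor.Suz.d, Cfsg.Spor.Suz.f, Cfsg.Spor.Suz.g} : Set (FreeGroup Cfsg.Spor.Suz.Gen))).map (PresentedGroup.mk (Cfsg.Spor.coxRelators Cfsg.Spor.Suz.edges ∪ {r | r ∈ Cfsg.Spor.Suz.extra})))).index = 22880 :=
  index_eq_of_bounds Hs 22880 upper_bound (fun _ => lower_bound)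

end Cfsg.Agent.S1681
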