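import Cfsg.Statements.S1690
import Cfsg.Agent.Lib.helper19_TC2P
import Cfsg.Agent.Lib.helper19_Benes
import Cfsg.Agent.Lib.helper19_Fi24A

set_option autoImplicit false
set_option maxRecDepth 100000
open Cfsg

namespace Cfsg.Agent.S1690

open Cfsg.Spor Cfsg.Agent.Lib.helper19_TC2 Cfsg.Agent.Lib.helper19_TC2L Cfsg.Agent.Lib.helper19_TC2P
open Cfsg.Agent.Lib.helper19_Benes
open Cfsg.Agent.Lib.helper19_Fi24U Cfsg.Agent.Lib.helper19_Fi24L Cfsg.Agent.Lib.helper19_Fi24A

/-- the relators -/
abbrev Rels : Set (FreeGroup Fi24.Gen) := coxRelators Fi24.edges ∪ {r | r ∈ Fi24.extra}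

/-- the letters -/
def gen (s : ℕ) : Fi24.Gen := [Fi24.Gen.l, Fi24.Gen.k, Fi24.Gen.a, Fi24.Gen.b, Fi24.Gen.c, Fi24.Gen.d, Fi24.Gen.e, Fi24.Gen.f, Fi24.Gen.g, Fi24.Gen.j, Fi24.Gen.h, Fi24.Gen.i].getD s Fi24.Gen.l

/-- the index of a generator -/
def idx : Fi24.Gen → ℕ
  | .l => 0
  | .k => 1
  | .a => 2
  | .b => 3
  | .c => 4
  | .d => 5
  | .e => 6
  | .f => 7
  | .g => 8
  | .j => 9
  | .h => 10
  | .i => 11

theorem gen_idx (x : Fi24.Gen) : gen (idx x) = x := by cases x <;> rfl

theorem nodes (x : Fi24.Gen) : x ∈ coxNodes Fi24.edges := by cases x <;> decide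

/-- the generators of the presented group -/
noncomputable def S (s : ℕ) : PresentedGroup Rels := PresentedGroup.of (gen s)

theorem S_inv (s : ℕ) : (S s)⁻¹ = S s := inv_of (nodes _)

theorem cox_rel (i j m : ℕ) (hm : coxLabel Fi24.edges (gen i) (gen j) = m) :
    wprod S (altWord i j m) = 1 := by
  rw [wprod_altWord, ← hm]; exact pair_rel (nodes _) (nodes _)

theorem sq_word (s : ℕ) : wprod S [s, s] = 1 := by
  simp only [wprod, mul_one]; exact sq_rel (nodes _)

/-- the values of the further relators in a group generated by involutions -/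
theorem extras_eq {Γ : Type*} [Group Γ] (t : ℕ → Γ) (ht : ∀ i, (t i)⁻¹ = t i)
    (φ : FreeGroup Fi24.Gen →* Γ) (hφ : ∀ x, φ (FreeGroup.of x) = t (idx x)) :
    φ (Fi24.extra.getD 0 1) = wprod t [0, 10, 7, 6, 5, 4, 3, 2, 10, 7, 6, 5, 4, 3, 2, 10, 7, 6, 5, 4, 3, 2, 10, 7, 6, 5, 4, 3, 2, 10, 7, 6, 5, 4, 3, 2, 10, 7, 6, 5, 4, 3, 2, 10, 7, 6, 5, 4, 3, 2, 10, 7, 6, 5, 4, 3, 2, 10, 7, 6, 5, 4, 3, 2] ∧
    φ (Fi24.extra.getD 1 1) = wprod t [5, 4, 3, 2, 1, 0, 5, 6, 7, 8, 9, 5, 10, 11, 5, 4, 3, 2, 1, 0, 5, 6, 7, 8, 9, 5, 10, 11, 5, 4, 3, 2, 1, 0, 5, 6, 7, 8, 9, 5, 10, 11, 5, 4, 3, 2, 1, 0, 5, 6, 7, 8, 9, 5, 10, 11, 5, 4, 3, 2, 1, 0, 5, 6, 7, 8, 9, 5, 10, 11, 5, 4, 3, 2, 1, 0, 5, 6, 7, 8, 9, 5, 10, 11, 5, 4, 3, 2, 1, 0, 5, 6, 7, 8, 9, 5, 10, 11, 5, 4, 3, 2, 1, 0, 5, 6, 7, 8, 9, 5, 10, 11, 5, 4, 3, 2, 1, 0, 5, 6, 7, 8, 9, 5, 10, 11, 5, 4, 3, 2, 1, 0, 5, 6, 7, 8, 9, 5, 10, 11, 5, 4, 3, 2, 1, 0, 5, 6, 7, 8, 9, 5, 10, 11, 5, 4, 3, 2, 1, 0, 5, 6, 7, 8, 9, 5, 10, 11, 5, 4, 3, 2, 1, 0, 5, 6, 7, 8, 9,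 5, 10, 11, 5, 4, 3, 2, 1, 0, 5, 6, 7, 8, 9, 5, 10, 11, 5, 4, 3, 2, 1, 0, 5, 6, 7, 8, 9, 5, 10, 11, 5, 4, 3, 2, 1, 0, 5, 6, 7, 8, 9, 5, 10, 11, 5, 4, 3, 2, 1, 0, 5, 6, 7, 8, 9, 5, 10, 11] := by
  refine ⟨?_, ?_⟩ <;>
  simp only [Fi24.extra, List.getD_cons_zero, List.getD_cons_succ, Fi24.l, Fi24.k, Fi24.a, Fi24.b, Fi24.c, Fi24.d, Fi24.e, Fi24.f, Fi24.g, Fi24.j, Fi24.h, Fi24.i,
    map_mul, map_inv, map_pow, hφ, idx, wprod, ← inv_pow, mul_inv_rev, ht, pow_succ, pow_zero,
    one_mul, mul_one, mul_assoc]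

theorem mk_of (x : Fi24.Gen) : PresentedGroup.mk Rels (FreeGroup.of x) = S (idx x) := by
  cases x <;> rfl

theorem extra_word0 : wprod S [0, 10, 7, 6, 5, 4, 3, 2, 10, 7, 6, 5, 4, 3, 2, 10, 7, 6, 5, 4, 3, 2, 10, 7, 6, 5, 4, 3, 2, 10, 7, 6, 5, 4, 3, 2, 10, 7, 6, 5, 4, 3, 2, 10, 7, 6, 5, 4, 3, 2, 10, 7, 6, 5, 4, 3, 2, 10, 7, 6, 5, 4, 3, 2] = 1 := by
  have h := (extras_eq S S_inv (PresentedGroup.mk Rels) mk_of).1
  rw [← h]
  exact extra_rel (by simp [Fi24.extra])

theorem extra_word1 : wprod S [5, 4, 3, 2, 1, 0, 5, 6, 7, 8, 9, 5, 10, 11, 5, 4, 3, 2, 1, 0, 5, 6, 7, 8, 9, 5, 10, 11, 5, 4, 3, 2, 1, 0, 5, 6, 7, 8, 9, 5, 10, 11, 5, 4, 3, 2, 1, 0, 5, 6, 7, 8, 9, 5, 10, 11, 5, 4, 3, 2, 1, 0, 5, 6, 7, 8, 9, 5, 10, 11, 5, 4, 3, 2, 1, 0, 5, 6, 7, 8, 9, 5, 10, 11, 5, 4, 3, 2, 1, 0, 5, 6, 7, 8, 9, 5, 10, 11, 5, 4, 3, 2, 1, 0, 5, 6, 7, 8, 9, 5, 10, 11, 5, 4, 3, 2, 1, 0, 5, 6, 7, 8, 9, 5, 10, 11, 5, 4, 3, 2, 1, 0, 5, 6, 7, 8, 9, 5, 10, 11, 5, 4, 3, 2, 1, 0, 5, 6, 7, 8, 9, 5, 10, 11, 5, 4, 3, 2, 1,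 0, 5, 6, 7, 8, 9, 5, 10, 11, 5, 4, 3, 2, 1, 0, 5, 6, 7, 8, 9, 5, 10, 11, 5, 4, 3, 2, 1, 0, 5, 6, 7, 8, 9, 5, 10, 11, 5, 4, 3, 2, 1, 0, 5, 6, 7, 8, 9, 5, 10, 11, 5, 4, 3, 2, 1, 0, 5, 6, 7, 8, 9, 5, 10, 11, 5, 4, 3, 2, 1, 0, 5, 6, 7, 8, 9, 5, 10, 11] = 1 := by
  have h := (extras_eq S S_inv (PresentedGroup.mk Rels) mk_of).2
  rw [← h]
  exact extra_rel (by simp [Fi24.extra])

/-- the subgroup of the statement -/
noncomputable abbrev Hs : Subgroup (PresentedGroup Rels) :=
  (Subgroup.closure ({Cfsg.Spor.Fi24.a, Cfsg.Spor.Fi24.b, Cfsg.Spor.Fi24.c, Cfsg.Spor.Fi24.d, Cfsg.Spor.Fi24.e, Cfsg.Spor.Fi24.f, Cfsg.Spor.Fi24.g, Cfsg.Spor.Fi24.h, Cfsg.Spor.Fi24.i, Cfsg.Spor.Fi24.j, Cfsg.Spor.Fi24.l} : Set (FreeGroup Cfsg.Spor.Fi24.Gen))).map (PresentedGroup.mk Rels)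

theorem S_mem_Hs (s : ℕ) (hs : s ∈ [2, 3, 4, 5, 6, 7, 8, 10, 11, 9, 0]) : S s ∈ Hs := by
  refine Subgroup.mem_map_of_mem _ (Subgroup.subset_closure ?_)
  simp only [List.mem_cons, List.not_mem_nil, or_false] at hs
  rcases hs with rfl | rfl | rfl | rfl | rfl | rfl | rfl | rfl | rfl | rfl | rfl <;> simp [gen]

/-- the model for the upper bound -/
noncomputable def Mo : Model P (PresentedGroup Rels) where
  S := S
  H := Hs
  hinv := by
    intro l hl
    have hl' : l < 12 := hl
    rw [inv_eq l hl', S_inv]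
    interval_cases l <;> rfl
  hrel := by
    intro wid hwid hs
    have hwid' : wid < 92 := hwid
    interval_cases wid
    · exact cox_rel 6 10 2 (by decide)
    · exact cox_rel 5 11 2 (by decide)
    · exact cox_rel 6 11 2 (by decide)
    · exact cox_rel 7 10 2 (by decide)
    · exact cox_rel 7 11 2 (by decide)
    · exact cox_rel 4 10 2 (by decide)
    · exact cox_rel 4 11 2 (by decide)
    · exact cox_rel 8 11 2 (by decide)
    · exact cox_rel 8 10 2 (by decide)
    · exact cox_rel 3 10 2 (by decide)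
    · exact cox_rel 9 11 2 (by decide)
    · exact cox_rel 5 10 3 (by decide)
    · exact cox_rel 3 11 2 (by decide)
    · exact cox_rel 10 11 3 (by decide)
    · exact cox_rel 9 10 2 (by decide)
    · exact cox_rel 5 7 2 (by decide)
    · exact cox_rel 2 10 2 (by decide)
    · exact cox_rel 2 11 2 (by decide)
    · exact cox_rel 1 10 2 (by decide)
    · exact cox_rel 0 10 2 (by decide)
    · exact cox_rel 1 11 2 (by decide)
    · exact cox_rel 0 11 2 (by decide)
    · exact cox_rel 5 8 2 (by decide)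
    · exact cox_rel 5 6 3 (by decide)
    · exact cox_rel 6 8 2 (by decide)
    · exact cox_rel 3 5 2 (by decide)
    · exact cox_rel 4 6 2 (by decide)
    · exact cox_rel 5 9 2 (by decide)
    · exact cox_rel 6 9 2 (by decide)
    · exact cox_rel 2 5 2 (by decide)
    · exact cox_rel 4 7 2 (by decide)
    · exact cox_rel 3 6 2 (by decide)
    · exact cox_rel 6 7 3 (by decide)
    · exact cox_rel 1 5 2 (by decide)
    · exact cox_rel 4 5 3 (by decide)
    · exact cox_rel 0 5 2 (by decide)
    · exact cox_rel 2 6 2 (by decide)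
    · exact cox_rel 1 6 2 (by decide)
    · exact cox_rel 0 6 2 (by decide)
    · exact cox_rel 4 8 2 (by decide)
    · exact cox_rel 3 7 2 (by decide)
    · exact cox_rel 7 9 2 (by decide)
    · exact cox_rel 2 7 2 (by decide)
    · exact cox_rel 4 9 2 (by decide)
    · exact cox_rel 1 7 2 (by decide)
    · exact cox_rel 7 8 3 (by decide)
    · exact cox_rel 2 4 2 (by decide)
    · exact cox_rel 0 7 2 (by decide)
    · exact cox_rel 3 8 2 (by decide)
    · exact sq_word 10
    · exact sq_word 11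
    · exact cox_rel 1 4 2 (by decide)
    · exact cox_rel 0 4 2 (by decide)
    · exact cox_rel 3 4 3 (by decide)
    · exact cox_rel 2 8 2 (by decide)
    · exact cox_rel 3 9 2 (by decide)
    · exact cox_rel 1 8 2 (by decide)
    · exact sq_word 5
    · exact cox_rel 0 8 2 (by decide)
    · exact cox_rel 8 9 3 (by decide)
    · exact sq_word 6
    · exact sq_word 8
    · exact cox_rel 2 9 2 (by decide)
    · exact cox_rel 1 3 2 (by decide)
    · exact sq_word 7
    · exact cox_rel 0 3 2 (by decide)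
    · exact sq_word 9
    · exact cox_rel 2 3 3 (by decide)
    · exact sq_word 4
    · exact cox_rel 1 9 2 (by decide)
    · exact sq_word 1
    · exact sq_word 2
    · exact cox_rel 0 9 2 (by decide)
    · exact sq_word 3
    · exact cox_rel 0 2 2 (by decide)
    · exact sq_word 0
    · exact cox_rel 1 2 3 (by decide)
    · rfl
    · exact cox_rel 0 1 3 (by decide)
    · exact extra_word0
    · exact extra_word1
    · exact absurd hs (by decide)
    · exact absurd hs (by decide)
    · exact absurd hs (by decide)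
    · exact absurd hs (by decide)
    · exact absurd hs (by decide)
    · exact absurd hs (by decide)
    · exact absurd hs (by decide)
    · exact absurd hs (by decide)
    · exact absurd hs (by decide)
    · exact absurd hs (by decide)
    · exact absurd hs (by decide)
  hsub := by
    intro wid hwid hs
    have hwid' : wid < 92 := hwid
    interval_cases wid
    · exact absurd hs (by decide)
    · exact absurd hs (by decide)
    · exact absurd hs (by decide)
    · exact absurd hs (by decide)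
    · exact absurd hs (by decide)
    · exact absurd hs (by decide)
    · exact absurd hs (by decide)
    · exact absurd hs (by decide)
    · exact absurd hs (by decide)
    · exact absurd hs (by decide)
    · exact absurd hs (by decide)
    · exact absurd hs (by decide)
    · exact absurd hs (by decide)
    · exact absurd hs (by decide)
    · exact absurd hs (by decide)
    · exact absurd hs (by decide)
    · exact absurd hs (by decide)
    · exact absurd hs (by decide)
    · exact absurd hs (by decide)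
    · exact absurd hs (by decide)
    · exact absurd hs (by decide)
    · exact absurd hs (by decide)
    · exact absurd hs (by decide)
    · exact absurd hs (by decide)
    · exact absurd hs (by decide)
    · exact absurd hs (by decide)
    · exact absurd hs (by decide)
    · exact absurd hs (by decide)
    · exact absurd hs (by decide)
    · exact absurd hs (by decide)
    · exact absurd hs (by decide)
    · exact absurd hs (by decide)
    · exact absurd hs (by decide)
    · exact absurd hs (by decide)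
    · exact absurd hs (by decide)
    · exact absurd hs (by decide)
    · exact absurd hs (by decide)
    · exact absurd hs (by decide)
    · exact absurd hs (by decide)
    · exact absurd hs (by decide)
    · exact absurd hs (by decide)
    · exact absurd hs (by decide)
    · exact absurd hs (by decide)
    · exact absurd hs (by decide)
    · exact absurd hs (by decide)
    · exact absurd hs (by decide)
    · exact absurd hs (by decide)
    · exact absurd hs (by decide)
    · exact absurd hs (by decide)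
    · exact absurd hs (by decide)
    · exact absurd hs (by decide)
    · exact absurd hs (by decide)
    · exact absurd hs (by decide)
    · exact absurd hs (by decide)
    · exact absurd hs (by decide)
    · exact absurd hs (by decide)
    · exact absurd hs (by decide)
    · exact absurd hs (by decide)
    · exact absurd hs (by decide)
    · exact absurd hs (by decide)
    · exact absurd hs (by decide)
    · exact absurd hs (by decide)
    · exact absurd hs (by decide)
    · exact absurd hs (by decide)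
    · exact absurd hs (by decide)
    · exact absurd hs (by decide)
    · exact absurd hs (by decide)
    · exact absurd hs (by decide)
    · exact absurd hs (by decide)
    · exact absurd hs (by decide)
    · exact absurd hs (by decide)
    · exact absurd hs (by decide)
    · exact absurd hs (by decide)
    · exact absurd hs (by decide)
    · exact absurd hs (by decide)
    · exact absurd hs (by decide)
    · exact absurd hs (by decide)
    · exact absurd hs (by decide)
    · exact absurd hs (by decide)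
    · exact absurd hs (by decide)
    · exact absurd hs (by decide)
    · show wprod S [2] ∈ Hs
      simp only [wprod, mul_one]; exact S_mem_Hs 2 (by decide)
    · show wprod S [3] ∈ Hs
      simp only [wprod, mul_one]; exact S_mem_Hs 3 (by decide)
    · show wprod S [4] ∈ Hs
      simp only [wprod, mul_one]; exact S_mem_Hs 4 (by decide)
    · show wprod S [5] ∈ Hs
      simp only [wprod, mul_one]; exact S_mem_Hs 5 (by decide)
    · show wprod S [6] ∈ Hs
      simp only [wprod, mul_one]; exact S_mem_Hs 6 (by decide)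
    · show wprod S [7] ∈ Hs
      simp only [wprod, mul_one]; exact S_mem_Hs 7 (by decide)
    · show wprod S [8] ∈ Hs
      simp only [wprod, mul_one]; exact S_mem_Hs 8 (by decide)
    · show wprod S [10] ∈ Hs
      simp only [wprod, mul_one]; exact S_mem_Hs 10 (by decide)
    · show wprod S [11] ∈ Hs
      simp only [wprod, mul_one]; exact S_mem_Hs 11 (by decide)
    · show wprod S [9] ∈ Hs
      simp only [wprod, mul_one]; exact S_mem_Hs 9 (by decide)
    · show wprod S [0] ∈ Hs
      simp only [wprod, mul_one]; exact S_mem_Hs 0 (by decide)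

theorem hgen : Subgroup.closure (S '' {s | s < P.k}) = ⊤ := by
  rw [eq_top_iff, ← PresentedGroup.closure_range_of]
  apply Subgroup.closure_mono
  rintro _ ⟨x, rfl⟩
  refine ⟨idx x, ?_, ?_⟩
  · show idx x < 12
    cases x <;> decide
  · show PresentedGroup.of (gen (idx x)) = _
    rw [gen_idx]

theorem upper_bound : Hs.index ≠ 0 ∧ Hs.index ≤ 306936 := upper Mo hgen

/-! ### the lower bound -/

/-- the images of the generators -/
noncomputable def q (s : ℕ) : Equiv.Perm (Fin 306936) := (perm isAction s)⁻¹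

theorem q_inv (s : ℕ) : (q s)⁻¹ = q s := by
  by_cases hs : s < 12
  · have h1 : pword isAction [s, s] = 1 := by
      apply pword_eq_one isAction
      · intro t ht; simp at ht; omega
      · have := isAction.cancel s hs
        have hinv : invL s = s := by interval_cases s <;> rfl
        intro x hx
        have := this x hx
        rw [hinv] at this
        exact this
    have h2 : q s * q s = 1 := by simpa [pword, q] using h1
    exact inv_eq_of_mul_eq_one_right h2
  · simp [q, perm, hs]

theorem pword_eq_wprod (word : List ℕ) : pword isAction word = wprod q word := by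
  induction word with
  | nil => rfl
  | cons s word ih => rw [pword_cons, ih]; rfl

theorem q_pair (i j m : ℕ) (hi : i < 12) (hj : j < 12)
    (hfix : ∀ x < 306936, tr A (altWord i j m) x = x) :
    (q i * q j) ^ m = 1 ∧ (q j * q i) ^ m = 1 := pair_perm isAction i j m hi hj hfix

theorem q_sq (i : ℕ) : (q i * q i) ^ 1 = 1 := by
  rw [pow_one]; exact mul_eq_one_iff_inv_eq.mpr (q_inv i)

/-- the images of the generators, by name -/
noncomputable def fq (x : Fi24.Gen) : Equiv.Perm (Fin 306936) := q (idx x)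

theorem cox_ok (x y : Fi24.Gen) : (fq x * fq y) ^ coxLabel Fi24.edges x y = 1 := by
  have p0_1 := q_pair 0 1 3 (by decide) (by decide) fix78
  have p0_2 := q_pair 0 2 2 (by decide) (by decide) fix74
  have p0_3 := q_pair 0 3 2 (by decide) (by decide) fix65
  have p0_4 := q_pair 0 4 2 (by decide) (by decide) fix52
  have p0_5 := q_pair 0 5 2 (by decide) (by decide) fix35
  have p0_6 := q_pair 0 6 2 (by decide) (by decide) fix38
  have p0_7 := q_pair 0 7 2 (by decide) (by decide) fix47
  have p0_8 := q_pair 0 8 2 (by decide) (by decide) fix58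
  have p0_9 := q_pair 0 9 2 (by decide) (by decide) fix72
  have p0_10 := q_pair 0 10 2 (by decide) (by decide) fix19
  have p0_11 := q_pair 0 11 2 (by decide) (by decide) fix21
  have p1_2 := q_pair 1 2 3 (by decide) (by decide) fix76
  have p1_3 := q_pair 1 3 2 (by decide) (by decide) fix63
  have p1_4 := q_pair 1 4 2 (by decide) (by decide) fix51
  have p1_5 := q_pair 1 5 2 (by decide) (by decide) fix33
  have p1_6 := q_pair 1 6 2 (by decide) (by decide) fix37
  have p1_7 := q_pair 1 7 2 (by decide) (by decide) fix44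
  have p1_8 := q_pair 1 8 2 (by decide) (by decide) fix56
  have p1_9 := q_pair 1 9 2 (by decide) (by decide) fix69
  have p1_10 := q_pair 1 10 2 (by decide) (by decide) fix18
  have p1_11 := q_pair 1 11 2 (by decide) (by decide) fix20
  have p2_3 := q_pair 2 3 3 (by decide) (by decide) fix67
  have p2_4 := q_pair 2 4 2 (by decide) (by decide) fix46
  have p2_5 := q_pair 2 5 2 (by decide) (by decide) fix29
  have p2_6 := q_pair 2 6 2 (by decide) (by decide) fix36
  have p2_7 := q_pair 2 7 2 (by decide) (by decide) fix42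
  have p2_8 := q_pair 2 8 2 (by decide) (by decide) fix54
  have p2_9 := q_pair 2 9 2 (by decide) (by decide) fix62
  have p2_10 := q_pair 2 10 2 (by decide) (by decide) fix16
  have p2_11 := q_pair 2 11 2 (by decide) (by decide) fix17
  have p3_4 := q_pair 3 4 3 (by decide) (by decide) fix53
  have p3_5 := q_pair 3 5 2 (by decide) (by decide) fix25
  have p3_6 := q_pair 3 6 2 (by decide) (by decide) fix31
  have p3_7 := q_pair 3 7 2 (by decide) (by decide) fix40
  have p3_8 := q_pair 3 8 2 (by decide) (by decide) fix48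
  have p3_9 := q_pair 3 9 2 (by decide) (by decide) fix55
  have p3_10 := q_pair 3 10 2 (by decide) (by decide) fix9
  have p3_11 := q_pair 3 11 2 (by decide) (by decide) fix12
  have p4_5 := q_pair 4 5 3 (by decide) (by decide) fix34
  have p4_6 := q_pair 4 6 2 (by decide) (by decide) fix26
  have p4_7 := q_pair 4 7 2 (by decide) (by decide) fix30
  have p4_8 := q_pair 4 8 2 (by decide) (by decide) fix39
  have p4_9 := q_pair 4 9 2 (by decide) (by decide) fix43
  have p4_10 := q_pair 4 10 2 (by decide) (by decide) fix5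
  have p4_11 := q_pair 4 11 2 (by decide) (by decide) fix6
  have p5_6 := q_pair 5 6 3 (by decide) (by decide) fix23
  have p5_7 := q_pair 5 7 2 (by decide) (by decide) fix15
  have p5_8 := q_pair 5 8 2 (by decide) (by decide) fix22
  have p5_9 := q_pair 5 9 2 (by decide) (by decide) fix27
  have p5_10 := q_pair 5 10 3 (by decide) (by decide) fix11
  have p5_11 := q_pair 5 11 2 (by decide) (by decide) fix1
  have p6_7 := q_pair 6 7 3 (by decide) (by decide) fix32
  have p6_8 := q_pair 6 8 2 (by decide) (by decide) fix24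
  have p6_9 := q_pair 6 9 2 (by decide) (by decide) fix28
  have p6_10 := q_pair 6 10 2 (by decide) (by decide) fix0
  have p6_11 := q_pair 6 11 2 (by decide) (by decide) fix2
  have p7_8 := q_pair 7 8 3 (by decide) (by decide) fix45
  have p7_9 := q_pair 7 9 2 (by decide) (by decide) fix41
  have p7_10 := q_pair 7 10 2 (by decide) (by decide) fix3
  have p7_11 := q_pair 7 11 2 (by decide) (by decide) fix4
  have p8_9 := q_pair 8 9 3 (by decide) (by decide) fix59
  have p8_10 := q_pair 8 10 2 (by decide) (by decide) fix8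
  have p8_11 := q_pair 8 11 2 (by decide) (by decide) fix7
  have p9_10 := q_pair 9 10 2 (by decide) (by decide) fix14
  have p9_11 := q_pair 9 11 2 (by decide) (by decide) fix10
  have p10_11 := q_pair 10 11 3 (by decide) (by decide) fix13
  cases x <;> cases y
  · exact q_sq 0
  · exact p0_1.1
  · exact p0_2.1
  · exact p0_3.1
  · exact p0_4.1
  · exact p0_5.1
  · exact p0_6.1
  · exact p0_7.1
  · exact p0_8.1
  · exact p0_9.1
  · exact p0_10.1
  · exact p0_11.1
  · exact p0_1.2
  · exact q_sq 1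
  · exact p1_2.1
  · exact p1_3.1
  · exact p1_4.1
  · exact p1_5.1
  · exact p1_6.1
  · exact p1_7.1
  · exact p1_8.1
  · exact p1_9.1
  · exact p1_10.1
  · exact p1_11.1
  · exact p0_2.2
  · exact p1_2.2
  · exact q_sq 2
  · exact p2_3.1
  · exact p2_4.1
  · exact p2_5.1
  · exact p2_6.1
  · exact p2_7.1
  · exact p2_8.1
  · exact p2_9.1
  · exact p2_10.1
  · exact p2_11.1
  · exact p0_3.2
  · exact p1_3.2
  · exact p2_3.2
  · exact q_sq 3
  · exact p3_4.1
  · exact p3_5.1
  · exact p3_6.1
  · exact p3_7.1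
  · exact p3_8.1
  · exact p3_9.1
  · exact p3_10.1
  · exact p3_11.1
  · exact p0_4.2
  · exact p1_4.2
  · exact p2_4.2
  · exact p3_4.2
  · exact q_sq 4
  · exact p4_5.1
  · exact p4_6.1
  · exact p4_7.1
  · exact p4_8.1
  · exact p4_9.1
  · exact p4_10.1
  · exact p4_11.1
  · exact p0_5.2
  · exact p1_5.2
  · exact p2_5.2
  · exact p3_5.2
  · exact p4_5.2
  · exact q_sq 5
  · exact p5_6.1
  · exact p5_7.1
  · exact p5_8.1
  · exact p5_9.1
  · exact p5_10.1
  · exact p5_11.1
  · exact p0_6.2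
  · exact p1_6.2
  · exact p2_6.2
  · exact p3_6.2
  · exact p4_6.2
  · exact p5_6.2
  · exact q_sq 6
  · exact p6_7.1
  · exact p6_8.1
  · exact p6_9.1
  · exact p6_10.1
  · exact p6_11.1
  · exact p0_7.2
  · exact p1_7.2
  · exact p2_7.2
  · exact p3_7.2
  · exact p4_7.2
  · exact p5_7.2
  · exact p6_7.2
  · exact q_sq 7
  · exact p7_8.1
  · exact p7_9.1
  · exact p7_10.1
  · exact p7_11.1
  · exact p0_8.2
  · exact p1_8.2
  · exact p2_8.2
  · exact p3_8.2
  · exact p4_8.2
  · exact p5_8.2
  · exact p6_8.2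
  · exact p7_8.2
  · exact q_sq 8
  · exact p8_9.1
  · exact p8_10.1
  · exact p8_11.1
  · exact p0_9.2
  · exact p1_9.2
  · exact p2_9.2
  · exact p3_9.2
  · exact p4_9.2
  · exact p5_9.2
  · exact p6_9.2
  · exact p7_9.2
  · exact p8_9.2
  · exact q_sq 9
  · exact p9_10.1
  · exact p9_11.1
  · exact p0_10.2
  · exact p1_10.2
  · exact p2_10.2
  · exact p3_10.2
  · exact p4_10.2
  · exact p5_10.2
  · exact p6_10.2
  · exact p7_10.2
  · exact p8_10.2
  · exact p9_10.2
  · exact q_sq 10
  · exact p10_11.1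
  · exact p0_11.2
  · exact p1_11.2
  · exact p2_11.2
  · exact p3_11.2
  · exact p4_11.2
  · exact p5_11.2
  · exact p6_11.2
  · exact p7_11.2
  · exact p8_11.2
  · exact p9_11.2
  · exact p10_11.2
  · exact q_sq 11

theorem lift_of (x : Fi24.Gen) : FreeGroup.lift fq (FreeGroup.of x) = q (idx x) := by
  simp [fq]

theorem rels_ok : ∀ r ∈ Rels, FreeGroup.lift fq r = 1 := by
  intro r hr
  rcases hr with ⟨x, -, y, -, rfl⟩ | hr
  · rw [map_pow, map_mul, FreeGroup.lift_apply_of, FreeGroup.lift_apply_of]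
    exact cox_ok x y
  · have he := extras_eq q q_inv (FreeGroup.lift fq) lift_of
    have hr' : r ∈ Fi24.extra := hr
    simp only [Fi24.extra, List.mem_cons, List.not_mem_nil, or_false] at hr'
    rcases hr' with rfl | rfl
    · have h := he.1
      simp only [Fi24.extra, List.getD_cons_zero, List.getD_cons_succ] at h
      rw [h, ← pword_eq_wprod]
      exact pword_eq_one isAction _ (by decide) fix79
    · have h := he.2
      simp only [Fi24.extra, List.getD_cons_zero, List.getD_cons_succ] at h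
      rw [h, ← pword_eq_wprod]
      exact pword_eq_one isAction _ (by decide) fix80

/-- the permutation representation -/
noncomputable def psi : PresentedGroup Rels →* Equiv.Perm (Fin 306936) := PresentedGroup.toGroup rels_ok

theorem psi_S (s : ℕ) (hs : s < 12) : psi (S s) = (perm isAction s)⁻¹ := by
  show PresentedGroup.toGroup rels_ok (PresentedGroup.of (gen s)) = _
  rw [PresentedGroup.toGroup.of]
  show q (idx (gen s)) = _
  have : idx (gen s) = s := by interval_cases s <;> rfl
  rw [this]; rfl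

theorem psi_fix (g : PresentedGroup Rels) (hg : g ∈ Hs) : psi g ⟨0, by decide⟩ = ⟨0, by decide⟩ := by
  obtain ⟨w, hw, rfl⟩ := hg
  induction hw using Subgroup.closure_induction with
  | mem x hx =>
    have hx' : ∃ s ∈ [2, 3, 4, 5, 6, 7, 8, 10, 11, 9, 0], x = FreeGroup.of (gen s) := by
      simp only [Set.mem_insert_iff, Set.mem_singleton_iff] at hx
      rcases hx with rfl | rfl | rfl | rfl | rfl | rfl | rfl | rfl | rfl | rfl | rfl
      · exact ⟨2, by decide, rfl⟩
      · exact ⟨3, by decide, rfl⟩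
      · exact ⟨4, by decide, rfl⟩
      · exact ⟨5, by decide, rfl⟩
      · exact ⟨6, by decide, rfl⟩
      · exact ⟨7, by decide, rfl⟩
      · exact ⟨8, by decide, rfl⟩
      · exact ⟨10, by decide, rfl⟩
      · exact ⟨11, by decide, rfl⟩
      · exact ⟨9, by decide, rfl⟩
      · exact ⟨0, by decide, rfl⟩
    obtain ⟨s, hs, rfl⟩ := hx'
    have hsk : s < 12 := by
      simp only [List.mem_cons, List.not_mem_nil, or_false] at hs
      omega
    show psi (S s) _ = _
    rw [psi_S s hsk]
    rw [Equiv.Perm.inv_eq_iff_eq]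
    apply Fin.ext
    rw [perm_apply isAction hsk]
    exact (sub0 s hs).symm
  | one => simp
  | mul a b _ _ iha ihb => rw [map_mul, map_mul, Equiv.Perm.mul_apply, ihb, iha]
  | inv a _ iha =>
    rw [map_inv, map_inv, Equiv.Perm.inv_eq_iff_eq]
    exact iha.symm

theorem lower_bound [Finite (PresentedGroup Rels ⧸ Hs)] : 306936 ≤ Hs.index :=
  le_index_of_reach Hs (by decide) isAction S psi psi_S psi_fix reach_ok

theorem index_eq : Hs.index = 306936 :=
  index_eq_of_bounds Hs 306936 upper_bound (fun _ => lower_bound)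

/-- the statement -/
theorem result : (((Subgroup.closure ({Cfsg.Spor.Fi24.a, Cfsg.Spor.Fi24.b, Cfsg.Spor.Fi24.c, Cfsg.Spor.Fi24.d, Cfsg.Spor.Fi24.e, Cfsg.Spor.Fi24.f, Cfsg.Spor.Fi24.g, Cfsg.Spor.Fi24.h, Cfsg.Spor.Fi24.i, Cfsg.Spor.Fi24.j, Cfsg.Spor.Fi24.l} : Set (FreeGroup Cfsg.Spor.Fi24.Gen))).map (PresentedGroup.mk (Cfsg.Spor.coxRelators Cfsg.Spor.Fi24.edges ∪ {r | r ∈ Cfsg.Spor.Fi24.extra})))).index = 306936 := index_eq

end Cfsg.Agent.S1690
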