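import Cfsg.Statements.S1691

set_option autoImplicit false
open Cfsg

namespace Cfsg.Agent.S1691

open Cfsg.Spor

/-- the relator set of the presented group -/
abbrev rels : Set (FreeGroup Fi24.Gen) := coxRelators Fi24.edges ∪ {r | r ∈ Fi24.extra}

/-- The constant map to the nontrivial element of `Multiplicative (ZMod 2)`. -/
def sgnGen : Fi24.Gen → Multiplicative (ZMod 2) := fun _ => Multiplicative.ofAdd 1

theorem z2_sq (x : Multiplicative (ZMod 2)) : x * x = 1 := by
  revert x; decide

theorem z2_pow_two (x : Multiplicative (ZMod 2)) : x ^ 2 = 1 := by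
  rw [pow_two]; exact z2_sq x

theorem sgn_rel : ∀ r ∈ rels, FreeGroup.lift sgnGen r = 1 := by
  rintro r (⟨x, _, y, _, rfl⟩ | hr)
  · simp only [map_pow, map_mul, FreeGroup.lift_apply_of, sgnGen]
    rw [z2_sq, one_pow]
  · simp only [Fi24.extra, Set.mem_ofPred_eq, List.mem_cons, List.not_mem_nil, or_false] at hr
    rcases hr with rfl | rfl
    · simp only [map_pow, map_mul, map_inv, FreeGroup.lift_apply_of, sgnGen]
      decide
    · simp only [map_pow, map_mul, FreeGroup.lift_apply_of, sgnGen]
      decide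

/-- The sign homomorphism on the presented group. -/
def sgn : Fi24 →* Multiplicative (ZMod 2) := PresentedGroup.toGroup sgn_rel

theorem sgn_of (x : Fi24.Gen) : sgn (PresentedGroup.of x) = Multiplicative.ofAdd 1 :=
  PresentedGroup.toGroup.of sgn_rel

theorem cox_rel (x y : Fi24.Gen) (hx : x ∈ coxNodes Fi24.edges) (hy : y ∈ coxNodes Fi24.edges) :
    ((PresentedGroup.of x : Fi24) * PresentedGroup.of y) ^ coxLabel Fi24.edges x y = 1 := by
  have h : (FreeGroup.of x * FreeGroup.of y) ^ coxLabel Fi24.edges x y ∈ rels :=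
    Or.inl ⟨x, hx, y, hy, rfl⟩
  have := PresentedGroup.one_of_mem h
  simpa [PresentedGroup.of] using this

theorem all_nodes (x : Fi24.Gen) : x ∈ coxNodes Fi24.edges := by
  cases x <;> decide

/-- image of a generator in the abelianization -/
noncomputable def ab (x : Fi24.Gen) : Abelianization Fi24 := Abelianization.of (PresentedGroup.of x)

theorem ab_sq (x : Fi24.Gen) : ab x * ab x = 1 := by
  have h := cox_rel x x (all_nodes x) (all_nodes x)
  have h1 : coxLabel Fi24.edges x x = 1 := by simp [coxLabel]
  rw [h1, pow_one] at h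
  have := congrArg (Abelianization.of (G := Fi24)) h
  simpa [ab] using this

theorem ab_eq_of_three (x y : Fi24.Gen) (h3 : coxLabel Fi24.edges x y = 3) : ab x = ab y := by
  have h := cox_rel x y (all_nodes x) (all_nodes y)
  rw [h3] at h
  have h' := congrArg (Abelianization.of (G := Fi24)) h
  simp only [map_pow, map_mul, map_one] at h'
  change (ab x * ab y) ^ 3 = 1 at h'
  have hx := ab_sq x
  have hy := ab_sq y
  -- in a commutative group
  have : (ab x * ab y) ^ 3 = (ab x * ab x) * (ab y * ab y) * (ab x * ab y) := by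
    rw [pow_succ, pow_two]
    simp only [mul_assoc, mul_comm, mul_left_comm]
  rw [this, hx, hy, one_mul, one_mul] at h'
  -- ab x * ab y = 1, ab y * ab y = 1
  have : ab x * ab y = ab y * ab y := by rw [h', hy]
  exact mul_right_cancel this

theorem ab_eq_a (x : Fi24.Gen) : ab x = ab Fi24.Gen.a := by
  have hl : ab .l = ab .k := ab_eq_of_three _ _ (by decide)
  have hk : ab .k = ab .a := ab_eq_of_three _ _ (by decide)
  have hb : ab .a = ab .b := ab_eq_of_three _ _ (by decide)
  have hc : ab .b = ab .c := ab_eq_of_three _ _ (by decide)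
  have hd : ab .c = ab .d := ab_eq_of_three _ _ (by decide)
  have he : ab .d = ab .e := ab_eq_of_three _ _ (by decide)
  have hh : ab .d = ab .h := ab_eq_of_three _ _ (by decide)
  have hf : ab .e = ab .f := ab_eq_of_three _ _ (by decide)
  have hg : ab .f = ab .g := ab_eq_of_three _ _ (by decide)
  have hj : ab .g = ab .j := ab_eq_of_three _ _ (by decide)
  have hi : ab .h = ab .i := ab_eq_of_three _ _ (by decide)
  cases x
  · rw [hl, hk]
  · rw [hk]
  · rfl
  · rw [← hb]
  · rw [← hc, ← hb]
  · rw [← hd, ← hc, ← hb]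
  · rw [← he, ← hd, ← hc, ← hb]
  · rw [← hf, ← he, ← hd, ← hc, ← hb]
  · rw [← hg, ← hf, ← he, ← hd, ← hc, ← hb]
  · rw [← hj, ← hg, ← hf, ← he, ← hd, ← hc, ← hb]
  · rw [← hh, ← hd, ← hc, ← hb]
  · rw [← hi, ← hh, ← hd, ← hc, ← hb]

theorem ab_cases (y : Abelianization Fi24) : y = 1 ∨ y = ab Fi24.Gen.a := by
  obtain ⟨g, rfl⟩ := QuotientGroup.mk_surjective y
  change Abelianization.of g = 1 ∨ Abelianization.of g = ab Fi24.Gen.a
  have hmem : g ∈ (⊤ : Subgroup Fi24) := Subgroup.mem_top g
  rw [← PresentedGroup.closure_range_of] at hmem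
  induction hmem using Subgroup.closure_induction with
  | mem x hx =>
    obtain ⟨s, rfl⟩ := hx
    right
    exact ab_eq_a s
  | one => left; simp
  | mul x y _ _ hx hy =>
    rw [map_mul]
    rcases hx with hx | hx <;> rcases hy with hy | hy <;> rw [hx, hy]
    · left; simp
    · right; simp
    · right; simp
    · left; exact ab_sq _
  | inv x _ hx =>
    rw [map_inv]
    rcases hx with hx | hx <;> rw [hx]
    · left; simp
    · right
      exact inv_eq_of_mul_eq_one_left (ab_sq _)

theorem ab_a_ne_one : ab Fi24.Gen.a ≠ 1 := by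
  intro h
  have h1 := congrArg (Abelianization.lift sgn) h
  rw [ab, Abelianization.lift_apply_of, sgn_of, (Abelianization.lift sgn).map_one] at h1
  revert h1
  decide

theorem result : (commutator Cfsg.Spor.Fi24).index = 2 := by
  rw [Subgroup.index_eq_card]
  change Nat.card (Abelianization Fi24) = 2
  rw [Nat.card_eq_two_iff]
  refine ⟨1, ab Fi24.Gen.a, fun h => ab_a_ne_one h.symm, ?_⟩
  ext y
  simp only [Set.mem_insert_iff, Set.mem_singleton_iff, Set.mem_univ, iff_true]
  exact ab_cases y

end Cfsg.Agent.S1691
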