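import Cfsg.Statements.S1692
import Cfsg.Agent.Lib.helper19_TC2P
import Cfsg.Agent.Lib.helper19_ONA

set_option autoImplicit false
set_option maxRecDepth 100000
open Cfsg

namespace Cfsg.Agent.S1692

open Cfsg.Spor Cfsg.Agent.Lib.helper19_TC2 Cfsg.Agent.Lib.helper19_TC2L Cfsg.Agent.Lib.helper19_TC2P
open Cfsg.Agent.Lib.helper19_ONU Cfsg.Agent.Lib.helper19_ONL Cfsg.Agent.Lib.helper19_ONA

/-- the relators -/
abbrev Rels : Set (FreeGroup ON.Gen) := coxRelators ON.edges ∪ {r | r ∈ ON.extra}

/-- the generators by letter (letter `7` is the inverse of `g`) -/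
def gen (s : ℕ) : ON.Gen := [ON.Gen.g, ON.Gen.a, ON.Gen.b, ON.Gen.c, ON.Gen.d, ON.Gen.e, ON.Gen.f].getD s ON.Gen.g

/-- the index of a generator -/
def idx : ON.Gen → ℕ
  | .g => 0
  | .a => 1
  | .b => 2
  | .c => 3
  | .d => 4
  | .e => 5
  | .f => 6

/-- the letters in the presented group -/
noncomputable def S (s : ℕ) : PresentedGroup Rels :=
  if s = 7 then (PresentedGroup.of ON.Gen.g)⁻¹ else PresentedGroup.of (gen s)

theorem S_of (s : ℕ) (hs : s ≠ 7) : S s = PresentedGroup.of (gen s) := by simp [S, hs]

theorem S_seven : S 7 = (S 0)⁻¹ := by simp [S, gen]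

theorem S_idx (x : ON.Gen) : S (idx x) = PresentedGroup.of x := by cases x <;> rfl

theorem S_inv (s : ℕ) (h1 : 1 ≤ s) (h6 : s ≤ 6) : (S s)⁻¹ = S s := by
  rw [S_of s (by omega)]
  apply inv_of
  interval_cases s <;> decide

theorem cox_rel (i j m : ℕ) (hi : i ≠ 7) (hj : j ≠ 7) (hni : gen i ∈ coxNodes ON.edges)
    (hnj : gen j ∈ coxNodes ON.edges) (hm : coxLabel ON.edges (gen i) (gen j) = m) :
    wprod S (altWord i j m) = 1 := by
  rw [wprod_altWord, S_of i hi, S_of j hj, ← hm]; exact pair_rel hni hnj

theorem sq_word (s : ℕ) (h1 : 1 ≤ s) (h6 : s ≤ 6) : wprod S [s, s] = 1 := by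
  simp only [wprod, mul_one]
  exact mul_eq_one_iff_inv_eq.mpr (S_inv s h1 h6)

/-- the values of the further relators -/
theorem extras_eq {Γ : Type*} [Group Γ] (t : ℕ → Γ) (hti : ∀ i ∈ [1, 2, 3, 4, 5, 6], (t i)⁻¹ = t i)
    (ht7 : t 7 = (t 0)⁻¹)
    (φ : FreeGroup ON.Gen →* Γ) (hφ : ∀ x, φ (FreeGroup.of x) = t (idx x)) :
    φ (ON.extra.getD 0 1) = wprod t [1, 6, 7, 7] ∧
    φ (ON.extra.getD 1 1) = wprod t [1, 6, 4, 3, 4, 3, 4, 3, 4, 3] ∧
    φ (ON.extra.getD 2 1) = wprod t [3, 7, 4, 7, 4, 3, 4, 0, 4, 0] ∧
    φ (ON.extra.getD 3 1) = wprod t [4, 7, 3, 7, 3, 4, 3, 0, 3, 0] ∧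
    φ (ON.extra.getD 4 1) = wprod t [2, 3, 4, 0, 2, 3, 4, 0, 2, 3, 4, 0, 2, 3, 4, 0, 2, 3, 4, 0] ∧
    φ (ON.extra.getD 5 1) = wprod t [0, 2, 3, 0, 3, 2, 0, 2, 3, 0, 3] ∧
    φ (ON.extra.getD 6 1) = wprod t [0, 5, 4, 0, 4, 5, 0, 5, 4, 0, 4] := by
  have h1 := hti 1 (by decide)
  have h2 := hti 2 (by decide)
  have h3 := hti 3 (by decide)
  have h4 := hti 4 (by decide)
  have h5 := hti 5 (by decide)
  have h6 := hti 6 (by decide)
  refine ⟨?_, ?_, ?_, ?_, ?_, ?_, ?_⟩ <;>
  simp only [ON.extra, List.getD_cons_zero, List.getD_cons_succ, ON.g, ON.a, ON.b, ON.c, ON.d, ON.e, ON.f,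
    map_mul, map_inv, map_pow, hφ, idx, wprod, mul_inv_rev, inv_inv, h1, h2, h3, h4, h5, h6, ht7,
    pow_succ, pow_zero, one_mul, mul_one, mul_assoc]

theorem mk_of (x : ON.Gen) : PresentedGroup.mk Rels (FreeGroup.of x) = S (idx x) := by
  cases x <;> rfl

theorem S_inv_list : ∀ i ∈ [1, 2, 3, 4, 5, 6], (S i)⁻¹ = S i := by
  intro i hi
  simp only [List.mem_cons, List.not_mem_nil, or_false] at hi
  exact S_inv i (by omega) (by omega)

theorem extra_word0 : wprod S [1, 6, 7, 7] = 1 := by
  have h := (extras_eq S S_inv_list S_seven (PresentedGroup.mk Rels) mk_of).1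
  rw [← h]
  exact extra_rel (by simp [ON.extra])

theorem extra_word1 : wprod S [1, 6, 4, 3, 4, 3, 4, 3, 4, 3] = 1 := by
  have h := (extras_eq S S_inv_list S_seven (PresentedGroup.mk Rels) mk_of).2.1
  rw [← h]
  exact extra_rel (by simp [ON.extra])

theorem extra_word2 : wprod S [3, 7, 4, 7, 4, 3, 4, 0, 4, 0] = 1 := by
  have h := (extras_eq S S_inv_list S_seven (PresentedGroup.mk Rels) mk_of).2.2.1
  rw [← h]
  exact extra_rel (by simp [ON.extra])

theorem extra_word3 : wprod S [4, 7, 3, 7, 3, 4, 3, 0, 3, 0] = 1 := by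
  have h := (extras_eq S S_inv_list S_seven (PresentedGroup.mk Rels) mk_of).2.2.2.1
  rw [← h]
  exact extra_rel (by simp [ON.extra])

theorem extra_word4 : wprod S [2, 3, 4, 0, 2, 3, 4, 0, 2, 3, 4, 0, 2, 3, 4, 0, 2, 3, 4, 0] = 1 := by
  have h := (extras_eq S S_inv_list S_seven (PresentedGroup.mk Rels) mk_of).2.2.2.2.1
  rw [← h]
  exact extra_rel (by simp [ON.extra])

theorem extra_word5 : wprod S [0, 2, 3, 0, 3, 2, 0, 2, 3, 0, 3] = 1 := by
  have h := (extras_eq S S_inv_list S_seven (PresentedGroup.mk Rels) mk_of).2.2.2.2.2.1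
  rw [← h]
  exact extra_rel (by simp [ON.extra])

theorem extra_word6 : wprod S [0, 5, 4, 0, 4, 5, 0, 5, 4, 0, 4] = 1 := by
  have h := (extras_eq S S_inv_list S_seven (PresentedGroup.mk Rels) mk_of).2.2.2.2.2.2
  rw [← h]
  exact extra_rel (by simp [ON.extra])

/-- the subgroup of the statement -/
noncomputable abbrev Hs : Subgroup (PresentedGroup Rels) :=
  (Subgroup.closure ({Cfsg.Spor.ON.a, Cfsg.Spor.ON.b, Cfsg.Spor.ON.c, Cfsg.Spor.ON.d, Cfsg.Spor.ON.e, Cfsg.Spor.ON.f} : Set (FreeGroup Cfsg.Spor.ON.Gen))).map (PresentedGroup.mk Rels)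

theorem S_mem_Hs (s : ℕ) (hs : s ∈ [1, 2, 3, 4, 5, 6]) : S s ∈ Hs := by
  have h7 : s ≠ 7 := by
    simp only [List.mem_cons, List.not_mem_nil, or_false] at hs; omega
  rw [S_of s h7]
  refine Subgroup.mem_map_of_mem _ (Subgroup.subset_closure ?_)
  simp only [List.mem_cons, List.not_mem_nil, or_false] at hs
  rcases hs with rfl | rfl | rfl | rfl | rfl | rfl <;> simp [gen]

/-- the model for the upper bound -/
noncomputable def Mo : Model P (PresentedGroup Rels) where
  S := S
  H := Hs
  hinv := by
    intro l hl
    have hl' : l < 8 := hl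
    rw [inv_eq l hl']
    interval_cases l
    · exact S_seven
    · exact (S_inv 1 (by decide) (by decide)).symm
    · exact (S_inv 2 (by decide) (by decide)).symm
    · exact (S_inv 3 (by decide) (by decide)).symm
    · exact (S_inv 4 (by decide) (by decide)).symm
    · exact (S_inv 5 (by decide) (by decide)).symm
    · exact (S_inv 6 (by decide) (by decide)).symm
    · show S 0 = (S 7)⁻¹
      rw [S_seven, inv_inv]
  hrel := by
    intro wid hwid hs
    have hwid' : wid < 37 := hwid
    interval_cases wid
    · exact extra_word0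
    · exact extra_word2
    · exact extra_word6
    · exact sq_word 5 (by decide) (by decide)
    · exact sq_word 4 (by decide) (by decide)
    · exact sq_word 6 (by decide) (by decide)
    · show wprod S [0, 7] = 1
      simp only [wprod, mul_one, S_seven]; simp
    · exact cox_rel 3 5 2 (by decide) (by decide) (by decide) (by decide) (by decide)
    · show wprod S [7, 0] = 1
      simp only [wprod, mul_one, S_seven]; simp
    · exact sq_word 3 (by decide) (by decide)
    · exact extra_word3
    · exact cox_rel 2 5 2 (by decide) (by decide) (by decide) (by decide) (by decide)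
    · exact extra_word5
    · exact cox_rel 4 6 2 (by decide) (by decide) (by decide) (by decide) (by decide)
    · exact cox_rel 2 4 2 (by decide) (by decide) (by decide) (by decide) (by decide)
    · exact sq_word 2 (by decide) (by decide)
    · exact cox_rel 3 6 2 (by decide) (by decide) (by decide) (by decide) (by decide)
    · exact cox_rel 1 5 2 (by decide) (by decide) (by decide) (by decide) (by decide)
    · exact sq_word 1 (by decide) (by decide)
    · exact cox_rel 1 4 2 (by decide) (by decide) (by decide) (by decide) (by decide)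
    · exact cox_rel 2 6 2 (by decide) (by decide) (by decide) (by decide) (by decide)
    · exact cox_rel 1 6 2 (by decide) (by decide) (by decide) (by decide) (by decide)
    · exact cox_rel 1 3 2 (by decide) (by decide) (by decide) (by decide) (by decide)
    · exact cox_rel 4 5 3 (by decide) (by decide) (by decide) (by decide) (by decide)
    · exact cox_rel 5 6 3 (by decide) (by decide) (by decide) (by decide) (by decide)
    · exact cox_rel 2 3 3 (by decide) (by decide) (by decide) (by decide) (by decide)
    · exact cox_rel 1 2 3 (by decide) (by decide) (by decide) (by decide) (by decide)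
    · exact extra_word1
    · exact cox_rel 3 4 8 (by decide) (by decide) (by decide) (by decide) (by decide)
    · exact extra_word4
    · rfl
    · exact absurd hs (by decide)
    · exact absurd hs (by decide)
    · exact absurd hs (by decide)
    · exact absurd hs (by decide)
    · exact absurd hs (by decide)
    · exact absurd hs (by decide)
  hsub := by
    intro wid hwid hs
    have hwid' : wid < 37 := hwid
    interval_cases wid
    · exact absurd hs (by decide)
    · exact absurd hs (by decide)
    · exact absurd hs (by decide)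
    · exact absurd hs (by decide)
    · exact absurd hs (by decide)
    · exact absurd hs (by decide)
    · exact absurd hs (by decide)
    · exact absurd hs (by decide)
    · exact absurd hs (by decide)
    · exact absurd hs (by decide)
    · exact absurd hs (by decide)
    · exact absurd hs (by decide)
    · exact absurd hs (by decide)
    · exact absurd hs (by decide)
    · exact absurd hs (by decide)
    · exact absurd hs (by decide)
    · exact absurd hs (by decide)
    · exact absurd hs (by decide)
    · exact absurd hs (by decide)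
    · exact absurd hs (by decide)
    · exact absurd hs (by decide)
    · exact absurd hs (by decide)
    · exact absurd hs (by decide)
    · exact absurd hs (by decide)
    · exact absurd hs (by decide)
    · exact absurd hs (by decide)
    · exact absurd hs (by decide)
    · exact absurd hs (by decide)
    · exact absurd hs (by decide)
    · exact absurd hs (by decide)
    · exact absurd hs (by decide)
    · show wprod S [1] ∈ Hs
      simp only [wprod, mul_one]; exact S_mem_Hs 1 (by decide)
    · show wprod S [2] ∈ Hs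
      simp only [wprod, mul_one]; exact S_mem_Hs 2 (by decide)
    · show wprod S [3] ∈ Hs
      simp only [wprod, mul_one]; exact S_mem_Hs 3 (by decide)
    · show wprod S [4] ∈ Hs
      simp only [wprod, mul_one]; exact S_mem_Hs 4 (by decide)
    · show wprod S [5] ∈ Hs
      simp only [wprod, mul_one]; exact S_mem_Hs 5 (by decide)
    · show wprod S [6] ∈ Hs
      simp only [wprod, mul_one]; exact S_mem_Hs 6 (by decide)

theorem hgen : Subgroup.closure (S '' {s | s < P.k}) = ⊤ := by
  rw [eq_top_iff, ← PresentedGroup.closure_range_of]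
  apply Subgroup.closure_mono
  rintro _ ⟨x, rfl⟩
  refine ⟨idx x, ?_, S_idx x⟩
  show idx x < 8
  cases x <;> decide

theorem upper_bound : Hs.index ≠ 0 ∧ Hs.index ≤ 122760 := upper Mo hgen

/-! ### the lower bound -/

/-- the images of the letters -/
noncomputable def q (s : ℕ) : Equiv.Perm (Fin 122760) := (perm isAction s)⁻¹

theorem q_inv (s : ℕ) (h1 : 1 ≤ s) (h6 : s ≤ 6) : (q s)⁻¹ = q s := by
  have hs : s < 8 := by omega
  have h1' : pword isAction [s, s] = 1 := by
    apply pword_eq_one isAction
    · intro t ht; simp at ht; omega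
    · have := isAction.cancel s hs
      have hinv : invL s = s := by interval_cases s <;> rfl
      intro x hx
      have := this x hx
      rw [hinv] at this
      exact this
  have h2 : q s * q s = 1 := by simpa [pword, q] using h1'
  exact inv_eq_of_mul_eq_one_right h2

theorem q_inv_list : ∀ i ∈ [1, 2, 3, 4, 5, 6], (q i)⁻¹ = q i := by
  intro i hi
  simp only [List.mem_cons, List.not_mem_nil, or_false] at hi
  exact q_inv i (by omega) (by omega)

theorem perm_seven : perm isAction 7 = (perm isAction 0)⁻¹ := by
  have h : perm isAction 0 * perm isAction 7 = 1 := by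
    ext x
    rw [Equiv.Perm.mul_apply, perm_apply isAction (by decide), perm_apply isAction (by decide)]
    exact isAction.cancel 7 (by decide) x x.2
  exact eq_inv_of_mul_eq_one_right h

theorem q_seven : q 7 = (q 0)⁻¹ := by
  simp only [q, perm_seven]

theorem pword_eq_wprod (word : List ℕ) : pword isAction word = wprod q word := by
  induction word with
  | nil => rfl
  | cons s word ih => rw [pword_cons, ih]; rfl

theorem q_pair (i j m : ℕ) (hi : i < 8) (hj : j < 8)
    (hfix : ∀ x < 122760, tr A (altWord i j m) x = x) :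
    (q i * q j) ^ m = 1 ∧ (q j * q i) ^ m = 1 := pair_perm isAction i j m hi hj hfix

theorem q_sq (i : ℕ) (h1 : 1 ≤ i) (h6 : i ≤ 6) : (q i * q i) ^ 1 = 1 := by
  rw [pow_one]; exact mul_eq_one_iff_inv_eq.mpr (q_inv i h1 h6)

/-- the images of the generators, by name -/
noncomputable def fq (x : ON.Gen) : Equiv.Perm (Fin 122760) := q (idx x)

theorem cox_ok (x y : ON.Gen) (hx : x ∈ coxNodes ON.edges) (hy : y ∈ coxNodes ON.edges) :
    (fq x * fq y) ^ coxLabel ON.edges x y = 1 := by
  have p1_2 := q_pair 1 2 3 (by decide) (by decide) fix26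
  have p1_3 := q_pair 1 3 2 (by decide) (by decide) fix22
  have p1_4 := q_pair 1 4 2 (by decide) (by decide) fix19
  have p1_5 := q_pair 1 5 2 (by decide) (by decide) fix17
  have p1_6 := q_pair 1 6 2 (by decide) (by decide) fix21
  have p2_3 := q_pair 2 3 3 (by decide) (by decide) fix25
  have p2_4 := q_pair 2 4 2 (by decide) (by decide) fix14
  have p2_5 := q_pair 2 5 2 (by decide) (by decide) fix11
  have p2_6 := q_pair 2 6 2 (by decide) (by decide) fix20
  have p3_4 := q_pair 3 4 8 (by decide) (by decide) fix28
  have p3_5 := q_pair 3 5 2 (by decide) (by decide) fix7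
  have p3_6 := q_pair 3 6 2 (by decide) (by decide) fix16
  have p4_5 := q_pair 4 5 3 (by decide) (by decide) fix23
  have p4_6 := q_pair 4 6 2 (by decide) (by decide) fix13
  have p5_6 := q_pair 5 6 3 (by decide) (by decide) fix24
  cases x <;> cases y
  · exact absurd hx (by decide)
  · exact absurd hx (by decide)
  · exact absurd hx (by decide)
  · exact absurd hx (by decide)
  · exact absurd hx (by decide)
  · exact absurd hx (by decide)
  · exact absurd hx (by decide)
  · exact absurd hy (by decide)
  · exact q_sq 1 (by decide) (by decide)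
  · exact p1_2.1
  · exact p1_3.1
  · exact p1_4.1
  · exact p1_5.1
  · exact p1_6.1
  · exact absurd hy (by decide)
  · exact p1_2.2
  · exact q_sq 2 (by decide) (by decide)
  · exact p2_3.1
  · exact p2_4.1
  · exact p2_5.1
  · exact p2_6.1
  · exact absurd hy (by decide)
  · exact p1_3.2
  · exact p2_3.2
  · exact q_sq 3 (by decide) (by decide)
  · exact p3_4.1
  · exact p3_5.1
  · exact p3_6.1
  · exact absurd hy (by decide)
  · exact p1_4.2
  · exact p2_4.2
  · exact p3_4.2
  · exact q_sq 4 (by decide) (by decide)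
  · exact p4_5.1
  · exact p4_6.1
  · exact absurd hy (by decide)
  · exact p1_5.2
  · exact p2_5.2
  · exact p3_5.2
  · exact p4_5.2
  · exact q_sq 5 (by decide) (by decide)
  · exact p5_6.1
  · exact absurd hy (by decide)
  · exact p1_6.2
  · exact p2_6.2
  · exact p3_6.2
  · exact p4_6.2
  · exact p5_6.2
  · exact q_sq 6 (by decide) (by decide)

theorem lift_of (x : ON.Gen) : FreeGroup.lift fq (FreeGroup.of x) = q (idx x) := by
  simp [fq]

theorem rels_ok : ∀ r ∈ Rels, FreeGroup.lift fq r = 1 := by
  intro r hr
  rcases hr with ⟨x, hx, y, hy, rfl⟩ | hr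
  · rw [map_pow, map_mul, FreeGroup.lift_apply_of, FreeGroup.lift_apply_of]
    exact cox_ok x y hx hy
  · have he := extras_eq q q_inv_list q_seven (FreeGroup.lift fq) lift_of
    have hr' : r ∈ ON.extra := hr
    simp only [ON.extra, List.mem_cons, List.not_mem_nil, or_false] at hr'
    rcases hr' with rfl | rfl | rfl | rfl | rfl | rfl | rfl
    · have h := he.1
      simp only [ON.extra, List.getD_cons_zero, List.getD_cons_succ] at h
      rw [h, ← pword_eq_wprod]
      exact pword_eq_one isAction _ (by decide) fix0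
    · have h := he.2.1
      simp only [ON.extra, List.getD_cons_zero, List.getD_cons_succ] at h
      rw [h, ← pword_eq_wprod]
      exact pword_eq_one isAction _ (by decide) fix27
    · have h := he.2.2.1
      simp only [ON.extra, List.getD_cons_zero, List.getD_cons_succ] at h
      rw [h, ← pword_eq_wprod]
      exact pword_eq_one isAction _ (by decide) fix1
    · have h := he.2.2.2.1
      simp only [ON.extra, List.getD_cons_zero, List.getD_cons_succ] at h
      rw [h, ← pword_eq_wprod]
      exact pword_eq_one isAction _ (by decide) fix10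
    · have h := he.2.2.2.2.1
      simp only [ON.extra, List.getD_cons_zero, List.getD_cons_succ] at h
      rw [h, ← pword_eq_wprod]
      exact pword_eq_one isAction _ (by decide) fix29
    · have h := he.2.2.2.2.2.1
      simp only [ON.extra, List.getD_cons_zero, List.getD_cons_succ] at h
      rw [h, ← pword_eq_wprod]
      exact pword_eq_one isAction _ (by decide) fix12
    · have h := he.2.2.2.2.2.2
      simp only [ON.extra, List.getD_cons_zero, List.getD_cons_succ] at h
      rw [h, ← pword_eq_wprod]
      exact pword_eq_one isAction _ (by decide) fix2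

/-- the permutation representation -/
noncomputable def psi : PresentedGroup Rels →* Equiv.Perm (Fin 122760) := PresentedGroup.toGroup rels_ok

theorem psi_of (x : ON.Gen) : psi (PresentedGroup.of x) = q (idx x) := by
  show PresentedGroup.toGroup rels_ok (PresentedGroup.of x) = _
  rw [PresentedGroup.toGroup.of]; rfl

theorem psi_S (s : ℕ) (hs : s < 8) : psi (S s) = (perm isAction s)⁻¹ := by
  interval_cases s
  · show psi (PresentedGroup.of ON.Gen.g) = _; rw [psi_of]; rfl
  · show psi (PresentedGroup.of ON.Gen.a) = _; rw [psi_of]; rfl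
  · show psi (PresentedGroup.of ON.Gen.b) = _; rw [psi_of]; rfl
  · show psi (PresentedGroup.of ON.Gen.c) = _; rw [psi_of]; rfl
  · show psi (PresentedGroup.of ON.Gen.d) = _; rw [psi_of]; rfl
  · show psi (PresentedGroup.of ON.Gen.e) = _; rw [psi_of]; rfl
  · show psi (PresentedGroup.of ON.Gen.f) = _; rw [psi_of]; rfl
  · show psi ((PresentedGroup.of ON.Gen.g)⁻¹) = _
    rw [map_inv, psi_of]
    show (q 0)⁻¹ = q 7
    rw [q_seven]

theorem psi_S_fix (s : ℕ) (hs : s ∈ [1, 2, 3, 4, 5, 6]) : psi (S s) ⟨0, by decide⟩ = ⟨0, by decide⟩ := by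
  have hsk : s < 8 := by
    simp only [List.mem_cons, List.not_mem_nil, or_false] at hs
    omega
  rw [psi_S s hsk, Equiv.Perm.inv_eq_iff_eq]
  apply Fin.ext
  rw [perm_apply isAction hsk]
  exact (sub0 s hs).symm

theorem psi_fix (g : PresentedGroup Rels) (hg : g ∈ Hs) : psi g ⟨0, by decide⟩ = ⟨0, by decide⟩ := by
  obtain ⟨w, hw, rfl⟩ := hg
  induction hw using Subgroup.closure_induction with
  | mem x hx =>
    simp only [Set.mem_insert_iff, Set.mem_singleton_iff] at hx
    rcases hx with rfl | rfl | rfl | rfl | rfl | rfl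
    · exact psi_S_fix 1 (by decide)
    · exact psi_S_fix 2 (by decide)
    · exact psi_S_fix 3 (by decide)
    · exact psi_S_fix 4 (by decide)
    · exact psi_S_fix 5 (by decide)
    · exact psi_S_fix 6 (by decide)
  | one => simp
  | mul a b _ _ iha ihb => rw [map_mul, map_mul, Equiv.Perm.mul_apply, ihb, iha]
  | inv a _ iha =>
    rw [map_inv, map_inv, Equiv.Perm.inv_eq_iff_eq]
    exact iha.symm

theorem lower_bound [Finite (PresentedGroup Rels ⧸ Hs)] : 122760 ≤ Hs.index :=
  le_index Hs (by decide) isAction S psi psi_S psi_fix tree_ok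

theorem index_eq : Hs.index = 122760 :=
  index_eq_of_bounds Hs 122760 upper_bound (fun _ => lower_bound)

/-- In the presented O'Nan group (generators g, a, b, c, d, e, f), the subgroup generated by the images of a, …, f has index 122760. -/
theorem result : (((Subgroup.closure ({Cfsg.Spor.ON.a, Cfsg.Spor.ON.b, Cfsg.Spor.ON.c, Cfsg.Spor.ON.d, Cfsg.Spor.ON.e, Cfsg.Spor.ON.f} : Set (FreeGroup Cfsg.Spor.ON.Gen))).map (PresentedGroup.mk (Cfsg.Spor.coxRelators Cfsg.Spor.ON.edges ∪ {r | r ∈ Cfsg.Spor.ON.extra})))).index = 122760 := index_eq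

end Cfsg.Agent.S1692
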