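import Cfsg.Statements.S1693
import Cfsg.Agent.S1692
import Cfsg.Agent.Lib.Helper96_ONFinal

set_option autoImplicit false
open Cfsg

namespace Cfsg.Agent.S1693

open Cfsg.Spor

/-- the generators `a` and `b` act differently on one of the first points -/
theorem A_ne : (List.range 40).any (fun x => Cfsg.Agent.Lib.helper19_ONL.A 1 x != Cfsg.Agent.Lib.helper19_ONL.A 2 x) = true := by decide +kernel

/-- `a ≠ b` in the presented group, from the permutation representation on 122760 points of S1692 -/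
theorem hab : (PresentedGroup.of ON.Gen.a : ON) ≠ PresentedGroup.of ON.Gen.b := by
  intro h
  have h1 : Cfsg.Agent.S1692.psi (Cfsg.Agent.S1692.S 1) = Cfsg.Agent.S1692.psi (Cfsg.Agent.S1692.S 2) := by
    rw [Cfsg.Agent.S1692.S_of 1 (by decide), Cfsg.Agent.S1692.S_of 2 (by decide)]
    show Cfsg.Agent.S1692.psi (PresentedGroup.of ON.Gen.a) = Cfsg.Agent.S1692.psi (PresentedGroup.of ON.Gen.b)
    rw [h]
  rw [Cfsg.Agent.S1692.psi_S 1 (by decide), Cfsg.Agent.S1692.psi_S 2 (by decide), inv_inj] at h1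
  have h2 : ∀ x : ℕ, x < 40 → Cfsg.Agent.Lib.helper19_ONL.A 1 x = Cfsg.Agent.Lib.helper19_ONL.A 2 x := by
    intro x hx
    have hx' : x < 122760 := by omega
    have h3 := congrArg (fun p : Equiv.Perm (Fin 122760) => ((p ⟨x, hx'⟩ : Fin 122760) : ℕ)) h1
    beta_reduce at h3
    rw [Cfsg.Agent.Lib.helper19_TC2L.perm_apply Cfsg.Agent.Lib.helper19_ONA.isAction (by decide),
      Cfsg.Agent.Lib.helper19_TC2L.perm_apply Cfsg.Agent.Lib.helper19_ONA.isAction (by decide)] at h3
    exact h3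
  have h4 := A_ne
  rw [List.any_eq_true] at h4
  obtain ⟨x, hx, hne⟩ := h4
  rw [List.mem_range] at hx
  rw [h2 x hx] at hne
  simp at hne

/-- In the presented O'Nan group, the subgroup H generated by the images of a, …, f has a normal subgroup of index 2 isomorphic to PSL(3, 7). -/
theorem result : ∃ N : Subgroup (((Subgroup.closure ({Cfsg.Spor.ON.a, Cfsg.Spor.ON.b, Cfsg.Spor.ON.c, Cfsg.Spor.ON.d, Cfsg.Spor.ON.e, Cfsg.Spor.ON.f} : Set (FreeGroup Cfsg.Spor.ON.Gen))).map (PresentedGroup.mk (Cfsg.Spor.coxRelators Cfsg.Spor.ON.edges ∪ {r | r ∈ Cfsg.Spor.ON.extra})))), N.Normal ∧ N.index = 2 ∧ Nonempty (N ≃* Matrix.ProjectiveSpecialLinearGroup (Fin 3) (ZMod 7)) := by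
  exact Cfsg.Agent.Lib.Helper96_ONFinal.main hab

end Cfsg.Agent.S1693
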