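import Cfsg.Statements.S1698
import Cfsg.Agent.S1690
import Cfsg.Agent.S1691
import Cfsg.Agent.S1697
import Cfsg.Agent.Lib.Helper96_Fi24Final
import Cfsg.Agent.Lib.Helper28_Fi24Max

set_option autoImplicit false
open Cfsg

namespace Cfsg.Agent.S1698

/-- The commutator subgroup of the presented Fi₂₄ (our definition of Fi₂₄′) is simple of the expected order (that is, it is a simple group of the order of the Fischer group Fi₂₄′). -/
theorem result : Cfsg.IsFi24' Cfsg.Spor.Fi24' :=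
  Cfsg.Agent.Lib.Helper96_Fi24Final.main Cfsg.Agent.S1697.result Cfsg.Agent.S1690.index_eq
    Cfsg.Agent.S1691.result Cfsg.Agent.Lib.Helper28_Fi24Max.hs_max
    Cfsg.Agent.Lib.Helper28_Fi24Max.normalClosure_l Cfsg.Agent.S1690.psi
    Cfsg.Agent.Lib.Helper28_Fi24Max.acts_trivially Cfsg.Agent.Lib.Helper28_Fi24Max.psi_l_ne_one
    Cfsg.Agent.Lib.Helper28_Fi24Max.psi_a_ne_one Cfsg.Agent.Lib.Helper28_Fi24Max.psi_a_ne_l

end Cfsg.Agent.S1698
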