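import Mathlib
import Cfsg.Statements.S1717

set_option autoImplicit false
open Cfsg

namespace Cfsg.Agent.S1717

/-- Abstract part: if the centre of a Sylow 2-subgroup `T` of `C = C_G(z)` is `{1, z}`, then `T` is a Sylow
2-subgroup of `G`. -/
theorem sylow_of_center_aux {G : Type*} [Group G] [Finite G] (z : G) (hz : orderOf z = 2)
    (C : Subgroup G) (hC : C = Subgroup.centralizer ({z} : Set G))
    (T : Sylow 2 C)
    (hcen0 : ∃ w : C, ∀ y : C, y ∈ T → (∀ x ∈ T, x * y = y * x) → y = 1 ∨ y = w) :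
    ¬ 2 ∣ ((T : Subgroup C).map C.subtype).index := by
  have hp : Fact (Nat.Prime 2) := ⟨Nat.prime_two⟩
  set TG := (T : Subgroup C).map C.subtype with hTG
  intro hdvd
  have hz1 : z ≠ 1 := by
    rintro rfl
    simp at hz
  have hzC : z ∈ C := by
    rw [hC, Subgroup.mem_centralizer_iff]
    intro y hy
    rw [Set.mem_singleton_iff] at hy
    rw [hy]
  -- z' ∈ T
  have hcentral : ∀ c : C, c * ⟨z, hzC⟩ = ⟨z, hzC⟩ * c := by
    rintro ⟨c, hc⟩
    apply Subtype.ext
    rw [hC, Subgroup.mem_centralizer_iff] at hc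
    exact (hc z rfl).symm
  have hzT : (⟨z, hzC⟩ : C) ∈ T := by
    have hN : (Subgroup.zpowers (⟨z, hzC⟩ : C)).Normal := by
      constructor
      intro n hn c
      have : c * n * c⁻¹ = n := by
        obtain ⟨k, rfl⟩ := hn
        have h1 : Commute c (⟨z, hzC⟩ : C) := hcentral c
        have h2 : Commute c ((⟨z, hzC⟩ : C) ^ k) := h1.zpow_right k
        calc c * (⟨z, hzC⟩ : C) ^ k * c⁻¹ = (⟨z, hzC⟩ : C) ^ k * c * c⁻¹ := by rw [h2.eq]
          _ = (⟨z, hzC⟩ : C) ^ k := by group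
      rw [this]; exact hn
    have hord : orderOf (⟨z, hzC⟩ : C) = 2 := by
      rw [← hz]
      exact (orderOf_injective C.subtype C.subtype_injective ⟨z, hzC⟩).symm
    have hP : IsPGroup 2 (Subgroup.zpowers (⟨z, hzC⟩ : C)) := by
      apply IsPGroup.of_card (n := 1)
      rw [Nat.card_zpowers, hord, pow_one]
    exact (hP.le_sylow_of_normal T) (Subgroup.mem_zpowers _)
  have hzTG : z ∈ TG := ⟨⟨z, hzC⟩, hzT, rfl⟩
  have hcen : ∀ y : C, y ∈ T → (∀ x ∈ T, x * y = y * x) → y = 1 ∨ (y : G) = z := by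
    obtain ⟨w, hw⟩ := hcen0
    have hzw : (⟨z, hzC⟩ : C) = w := by
      rcases hw ⟨z, hzC⟩ hzT (fun x _ => hcentral x) with h | h
      · exact absurd (congrArg Subtype.val h) hz1
      · exact h
    intro y hy hyc
    rcases hw y hy hyc with h | h
    · left; exact h
    · right; rw [h, ← hzw]
  -- orders
  obtain ⟨n, hn⟩ := (IsPGroup.iff_card (p := 2)).mp T.isPGroup'
  have hTGcard : Nat.card TG = 2 ^ n := by
    rw [hTG, Subgroup.card_map_of_injective C.subtype_injective]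
    exact hn
  have hdvd2 : 2 ^ (n + 1) ∣ Nat.card G := by
    rw [← TG.index_mul_card, hTGcard, pow_succ, mul_comm]
    exact Nat.mul_dvd_mul_right hdvd _
  obtain ⟨K, hKcard, hTK⟩ := Sylow.exists_subgroup_card_pow_succ hdvd2 hTGcard
  have hK2 : IsPGroup 2 K := IsPGroup.of_card hKcard
  -- TG has index 2 in K, hence is normal in K
  have hidx : (TG.subgroupOf K).index = 2 := by
    have h1 := (TG.subgroupOf K).index_mul_card
    rw [Nat.card_congr (Subgroup.subgroupOfEquivOfLe hTK).toEquiv, hTGcard, hKcard, pow_succ] at h1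
    have : 0 < 2 ^ n := by positivity
    nlinarith
  have hnormal : (TG.subgroupOf K).Normal := Subgroup.normal_of_index_eq_two hidx
  have hconj : ∀ k ∈ K, ∀ x ∈ TG, k * x * k⁻¹ ∈ TG := by
    intro k hk x hx
    have := hnormal.conj_mem ⟨x, hTK hx⟩ (by rw [Subgroup.mem_subgroupOf]; exact hx) ⟨k, hk⟩
    rw [Subgroup.mem_subgroupOf] at this
    exact this
  -- K centralizes z
  have hKC : K ≤ C := by
    intro k hk
    have h1 : k * z * k⁻¹ ∈ TG := hconj k hk z hzTG
    obtain ⟨y, hyT, hy⟩ := h1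
    have hycomm : ∀ x ∈ T, x * y = y * x := by
      intro x hx
      apply Subtype.ext
      have hxTG : (x : G) ∈ TG := ⟨x, hx, rfl⟩
      have h2 : k⁻¹ * x * k ∈ TG := by
        have := hconj k⁻¹ (K.inv_mem hk) x hxTG
        simpa using this
      obtain ⟨x', _, hx'⟩ := h2
      -- z commutes with x' ∈ C
      have h3 : (x' : G) * z = z * x' := by
        have hx'C : (x' : G) ∈ Subgroup.centralizer ({z} : Set G) := hC ▸ x'.2
        rw [Subgroup.mem_centralizer_iff] at hx'C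
        exact (hx'C z rfl).symm
      have h4 : C.subtype y = k * z * k⁻¹ := hy
      have h5 : C.subtype x' = k⁻¹ * x * k := hx'
      change (x : G) * (y : G) = (y : G) * (x : G)
      have h6 : (y : G) = k * z * k⁻¹ := h4
      have h7 : (x : G) = k * (x' : G) * k⁻¹ := by
        have : (x' : G) = k⁻¹ * x * k := h5
        rw [this]; group
      rw [h6, h7]
      calc k * ↑x' * k⁻¹ * (k * z * k⁻¹) = k * (↑x' * z) * k⁻¹ := by group
        _ = k * (z * ↑x') * k⁻¹ := by rw [h3]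
        _ = k * z * k⁻¹ * (k * ↑x' * k⁻¹) := by group
    rcases hcen y hyT hycomm with h | h
    · exfalso
      have h4 : (y : G) = k * z * k⁻¹ := hy
      rw [h] at h4
      have : z = 1 := by
        have h5 : k * z * k⁻¹ = 1 := h4.symm
        calc z = k⁻¹ * (k * z * k⁻¹) * k := by group
          _ = 1 := by rw [h5]; group
      exact hz1 this
    · have h4 : (y : G) = k * z * k⁻¹ := hy
      rw [h] at h4
      rw [hC, Subgroup.mem_centralizer_iff]
      intro w hw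
      rw [Set.mem_singleton_iff] at hw
      rw [hw]
      calc z * k = k * z * k⁻¹ * k := by rw [← h4]
        _ = k * z := by group
  -- K.subgroupOf C is a 2-group containing T
  have hK'2 : IsPGroup 2 (K.subgroupOf C) := hK2.comap_subtype
  have hTK' : (T : Subgroup C) ≤ K.subgroupOf C := by
    intro x hx
    rw [Subgroup.mem_subgroupOf]
    exact hTK ⟨x, hx, rfl⟩
  have heq := T.is_maximal' hK'2 hTK'
  have h1 : Nat.card (K.subgroupOf C) = 2 ^ (n + 1) := by
    rw [Nat.card_congr (Subgroup.subgroupOfEquivOfLe hKC).toEquiv, hKcard]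
  rw [heq, hn] at h1
  have : 2 ^ n < 2 ^ (n + 1) := Nat.pow_lt_pow_right (by norm_num) (by omega)
  omega


open Matrix

abbrev SL5 := Matrix.SpecialLinearGroup (Fin 5) (ZMod 2)

theorem inv_mulVec_mulVec (g : SL5) (v : Fin 5 → ZMod 2) : (g⁻¹).1 *ᵥ (g.1 *ᵥ v) = v := by
  rw [Matrix.mulVec_mulVec, ← Matrix.SpecialLinearGroup.coe_mul, inv_mul_cancel]
  simp

theorem mulVec_inv_mulVec (g : SL5) (v : Fin 5 → ZMod 2) : g.1 *ᵥ ((g⁻¹).1 *ᵥ v) = v := by
  rw [Matrix.mulVec_mulVec, ← Matrix.SpecialLinearGroup.coe_mul, mul_inv_cancel]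
  simp

theorem vecMul_vecMul_inv (g : SL5) (v : Fin 5 → ZMod 2) : (v ᵥ* g.1) ᵥ* (g⁻¹).1 = v := by
  rw [Matrix.vecMul_vecMul, ← Matrix.SpecialLinearGroup.coe_mul, mul_inv_cancel]
  simp

theorem vecMul_inv_vecMul (g : SL5) (v : Fin 5 → ZMod 2) : (v ᵥ* (g⁻¹).1) ᵥ* g.1 = v := by
  rw [Matrix.vecMul_vecMul, ← Matrix.SpecialLinearGroup.coe_mul, inv_mul_cancel]
  simp

theorem SL5_ext_mulVec {g h : SL5} (H : ∀ v, g.1 *ᵥ v = h.1 *ᵥ v) : g = h := by
  apply Subtype.ext
  apply Matrix.mulVec_injective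
  funext v
  exact H v

theorem SL5_ext_vecMul {g h : SL5} (H : ∀ v, v ᵥ* g.1 = v ᵥ* h.1) : g = h := by
  apply Subtype.ext
  apply Matrix.vecMul_injective
  funext v
  exact H v

/-- elements fixing `e_a` and acting trivially modulo `e_a` (column vectors) -/
def Eleft (a : Fin 5) : Subgroup SL5 where
  carrier := {g | g.1 *ᵥ Pi.single a 1 = Pi.single a 1 ∧
    ∀ v, ∃ c : ZMod 2, g.1 *ᵥ v = v + c • Pi.single a 1}
  mul_mem' := by
    rintro g h ⟨hg1, hg2⟩ ⟨hh1, hh2⟩
    refine ⟨?_, fun v => ?_⟩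
    · rw [Matrix.SpecialLinearGroup.coe_mul, ← Matrix.mulVec_mulVec, hh1, hg1]
    · obtain ⟨c, hc⟩ := hh2 v
      obtain ⟨d, hd⟩ := hg2 v
      refine ⟨d + c, ?_⟩
      rw [Matrix.SpecialLinearGroup.coe_mul, ← Matrix.mulVec_mulVec, hc, Matrix.mulVec_add,
        Matrix.mulVec_smul, hg1, hd, add_smul, add_assoc]
  one_mem' := by
    refine ⟨by rw [Matrix.SpecialLinearGroup.coe_one, Matrix.one_mulVec], fun v => ⟨0, by simp⟩⟩
  inv_mem' := by
    rintro g ⟨hg1, hg2⟩
    have h1 : (g⁻¹).1 *ᵥ Pi.single a 1 = Pi.single a 1 := by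
      conv_lhs => rw [← hg1]
      exact inv_mulVec_mulVec g _
    refine ⟨h1, fun v => ?_⟩
    obtain ⟨c, hc⟩ := hg2 ((g⁻¹).1 *ᵥ v)
    rw [mulVec_inv_mulVec] at hc
    refine ⟨-c, ?_⟩
    rw [neg_smul, ← sub_eq_add_neg, eq_sub_iff_add_eq]
    exact hc.symm

/-- elements fixing `e_b` and acting trivially modulo `e_b` (row vectors) -/
def Eright (b : Fin 5) : Subgroup SL5 where
  carrier := {g | Pi.single b 1 ᵥ* g.1 = Pi.single b 1 ∧
    ∀ v, ∃ c : ZMod 2, v ᵥ* g.1 = v + c • Pi.single b 1}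
  mul_mem' := by
    rintro g h ⟨hg1, hg2⟩ ⟨hh1, hh2⟩
    refine ⟨?_, fun v => ?_⟩
    · rw [Matrix.SpecialLinearGroup.coe_mul, ← Matrix.vecMul_vecMul, hg1, hh1]
    · obtain ⟨c, hc⟩ := hg2 v
      obtain ⟨d, hd⟩ := hh2 v
      refine ⟨d + c, ?_⟩
      rw [Matrix.SpecialLinearGroup.coe_mul, ← Matrix.vecMul_vecMul, hc, Matrix.add_vecMul,
        Matrix.smul_vecMul, hh1, hd, add_smul, add_assoc]
  one_mem' := by
    refine ⟨by rw [Matrix.SpecialLinearGroup.coe_one, Matrix.vecMul_one], fun v => ⟨0, by simp⟩⟩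
  inv_mem' := by
    rintro g ⟨hg1, hg2⟩
    have h1 : Pi.single b 1 ᵥ* (g⁻¹).1 = Pi.single b 1 := by
      conv_lhs => rw [← hg1]
      exact vecMul_vecMul_inv g _
    refine ⟨h1, fun v => ?_⟩
    obtain ⟨c, hc⟩ := hg2 (v ᵥ* (g⁻¹).1)
    rw [vecMul_inv_vecMul] at hc
    refine ⟨-c, ?_⟩
    rw [neg_smul, ← sub_eq_add_neg, eq_sub_iff_add_eq]
    exact hc.symm

theorem Eleft_sq {a : Fin 5} {g : SL5} (hg : g ∈ Eleft a) : g * g = 1 := by
  obtain ⟨hg1, hg2⟩ := hg
  apply SL5_ext_mulVec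
  intro v
  obtain ⟨c, hc⟩ := hg2 v
  rw [Matrix.SpecialLinearGroup.coe_mul, ← Matrix.mulVec_mulVec, hc, Matrix.mulVec_add,
    Matrix.mulVec_smul, hg1, hc, Matrix.SpecialLinearGroup.coe_one, Matrix.one_mulVec, add_assoc,
    ← add_smul, CharTwo.add_self_eq_zero, zero_smul, add_zero]

theorem Eright_sq {b : Fin 5} {g : SL5} (hg : g ∈ Eright b) : g * g = 1 := by
  obtain ⟨hg1, hg2⟩ := hg
  apply SL5_ext_vecMul
  intro v
  obtain ⟨c, hc⟩ := hg2 v
  rw [Matrix.SpecialLinearGroup.coe_mul, ← Matrix.vecMul_vecMul, hc, Matrix.add_vecMul,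
    Matrix.smul_vecMul, hg1, hc, Matrix.SpecialLinearGroup.coe_one, Matrix.vecMul_one, add_assoc,
    ← add_smul, CharTwo.add_self_eq_zero, zero_smul, add_zero]

theorem Eleft_comm {a : Fin 5} {g h : SL5} (hg : g ∈ Eleft a) (hh : h ∈ Eleft a) : g * h = h * g := by
  obtain ⟨hg1, hg2⟩ := hg
  obtain ⟨hh1, hh2⟩ := hh
  apply SL5_ext_mulVec
  intro v
  obtain ⟨c, hc⟩ := hg2 v
  obtain ⟨d, hd⟩ := hh2 v
  rw [Matrix.SpecialLinearGroup.coe_mul, Matrix.SpecialLinearGroup.coe_mul, ← Matrix.mulVec_mulVec,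
    ← Matrix.mulVec_mulVec, hc, hd, Matrix.mulVec_add, Matrix.mulVec_add, Matrix.mulVec_smul,
    Matrix.mulVec_smul, hg1, hh1, hc, hd]
  abel

theorem Eright_comm {b : Fin 5} {g h : SL5} (hg : g ∈ Eright b) (hh : h ∈ Eright b) : g * h = h * g := by
  obtain ⟨hg1, hg2⟩ := hg
  obtain ⟨hh1, hh2⟩ := hh
  apply SL5_ext_vecMul
  intro v
  obtain ⟨c, hc⟩ := hg2 v
  obtain ⟨d, hd⟩ := hh2 v
  rw [Matrix.SpecialLinearGroup.coe_mul, Matrix.SpecialLinearGroup.coe_mul, ← Matrix.vecMul_vecMul,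
    ← Matrix.vecMul_vecMul, hc, hd, Matrix.add_vecMul, Matrix.add_vecMul, Matrix.smul_vecMul,
    Matrix.smul_vecMul, hg1, hh1, hc, hd]
  abel

theorem Eleft_conj {a : Fin 5} {c g : SL5} (hc : c.1 *ᵥ Pi.single a 1 = Pi.single a 1)
    (hg : g ∈ Eleft a) : c * g * c⁻¹ ∈ Eleft a := by
  obtain ⟨hg1, hg2⟩ := hg
  have hc' : (c⁻¹).1 *ᵥ Pi.single a 1 = Pi.single a 1 := by
    conv_lhs => rw [← hc]
    exact inv_mulVec_mulVec c _
  refine ⟨?_, fun v => ?_⟩
  · rw [Matrix.SpecialLinearGroup.coe_mul, Matrix.SpecialLinearGroup.coe_mul, ← Matrix.mulVec_mulVec,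
      ← Matrix.mulVec_mulVec, hc', hg1, hc]
  · obtain ⟨d, hd⟩ := hg2 ((c⁻¹).1 *ᵥ v)
    refine ⟨d, ?_⟩
    rw [Matrix.SpecialLinearGroup.coe_mul, Matrix.SpecialLinearGroup.coe_mul, ← Matrix.mulVec_mulVec,
      ← Matrix.mulVec_mulVec, hd, Matrix.mulVec_add, Matrix.mulVec_smul, hc, mulVec_inv_mulVec]

theorem Eright_conj {b : Fin 5} {c g : SL5} (hc : Pi.single b 1 ᵥ* c.1 = Pi.single b 1)
    (hg : g ∈ Eright b) : c * g * c⁻¹ ∈ Eright b := by
  obtain ⟨hg1, hg2⟩ := hg
  have hc' : Pi.single b 1 ᵥ* (c⁻¹).1 = Pi.single b 1 := by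
    conv_lhs => rw [← hc]
    exact vecMul_vecMul_inv c _
  refine ⟨?_, fun v => ?_⟩
  · rw [Matrix.SpecialLinearGroup.coe_mul, Matrix.SpecialLinearGroup.coe_mul, ← Matrix.vecMul_vecMul,
      ← Matrix.vecMul_vecMul, hc, hg1, hc']
  · obtain ⟨d, hd⟩ := hg2 (v ᵥ* c.1)
    refine ⟨d, ?_⟩
    rw [Matrix.SpecialLinearGroup.coe_mul, Matrix.SpecialLinearGroup.coe_mul, ← Matrix.vecMul_vecMul,
      ← Matrix.vecMul_vecMul, hd, Matrix.add_vecMul, Matrix.smul_vecMul, hc', vecMul_vecMul_inv]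

theorem vecMul_single_eq (i j : Fin 5) (b : ZMod 2) (w : Fin 5 → ZMod 2) :
    w ᵥ* Matrix.single i j b = (w i * b) • Pi.single j (1 : ZMod 2) := by
  ext k
  simp only [Matrix.vecMul, dotProduct, Matrix.single_apply, Pi.smul_apply, Pi.single_apply, smul_eq_mul]
  rw [Finset.sum_eq_single i]
  · by_cases h : j = k <;> simp [h, eq_comm]
  · intro l _ hl
    simp [hl.symm]
  · simp

/-- the transvection `1 + E_{ij}` as an element of `SL₅(2)` -/
def tv (i j : Fin 5) (h : i ≠ j) : SL5 :=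
  ⟨Matrix.transvection i j 1, Matrix.det_transvection_of_ne i j h 1⟩

theorem tv_mulVec (i j : Fin 5) (h : i ≠ j) (v : Fin 5 → ZMod 2) :
    (tv i j h).1 *ᵥ v = v + v j • Pi.single i 1 := by
  change (Matrix.transvection i j 1) *ᵥ v = _
  rw [Matrix.transvection, Matrix.add_mulVec, Matrix.one_mulVec, Matrix.single_mulVec_eq, one_mul]

theorem tv_vecMul (i j : Fin 5) (h : i ≠ j) (v : Fin 5 → ZMod 2) :
    v ᵥ* (tv i j h).1 = v + v i • Pi.single j 1 := by
  change v ᵥ* (Matrix.transvection i j 1) = _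
  rw [Matrix.transvection, Matrix.vecMul_add, Matrix.vecMul_one, vecMul_single_eq, mul_one]

theorem tv_mem_Eleft (i j : Fin 5) (h : i ≠ j) : tv i j h ∈ Eleft i := by
  refine ⟨?_, fun v => ⟨v j, tv_mulVec i j h v⟩⟩
  rw [tv_mulVec, Pi.single_eq_of_ne h.symm, zero_smul, add_zero]

theorem tv_mem_Eright (i j : Fin 5) (h : i ≠ j) : tv i j h ∈ Eright j := by
  refine ⟨?_, fun v => ⟨v i, tv_vecMul i j h v⟩⟩
  rw [tv_vecMul, Pi.single_eq_of_ne h, zero_smul, add_zero]

theorem single_ne_zero' (a : Fin 5) : (Pi.single a 1 : Fin 5 → ZMod 2) ≠ 0 := by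
  intro h
  have := congrFun h a
  simp at this

theorem zmod2_cases (x : ZMod 2) : x = 0 ∨ x = 1 := by
  revert x; decide

/-- An element commuting with the transvection `1 + E₀₁` fixes the column vector `e₀` and the row vector `e₁`. -/
theorem fix_of_comm (c : SL5) (hc : c * tv 0 1 (by decide) = tv 0 1 (by decide) * c) :
    c.1 *ᵥ Pi.single 0 1 = Pi.single 0 1 ∧ Pi.single 1 1 ᵥ* c.1 = Pi.single 1 1 := by
  constructor
  · have h1 := congrArg (fun x : SL5 => x.1 *ᵥ (Pi.single 1 1 : Fin 5 → ZMod 2)) hc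
    simp only [Matrix.SpecialLinearGroup.coe_mul, ← Matrix.mulVec_mulVec, tv_mulVec] at h1
    rw [Pi.single_eq_same, one_smul, Matrix.mulVec_add] at h1
    have h2 : c.1 *ᵥ Pi.single 0 1 = (c.1 *ᵥ Pi.single 1 1) 1 • (Pi.single 0 1 : Fin 5 → ZMod 2) :=
      add_left_cancel h1
    rcases zmod2_cases ((c.1 *ᵥ Pi.single 1 1) 1) with h | h
    · exfalso
      rw [h, zero_smul] at h2
      have h3 := inv_mulVec_mulVec c (Pi.single 0 1)
      rw [h2, Matrix.mulVec_zero] at h3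
      exact single_ne_zero' 0 h3.symm
    · rw [h, one_smul] at h2
      exact h2
  · have h1 := congrArg (fun x : SL5 => (Pi.single 0 1 : Fin 5 → ZMod 2) ᵥ* x.1) hc
    simp only [Matrix.SpecialLinearGroup.coe_mul, ← Matrix.vecMul_vecMul, tv_vecMul] at h1
    rw [Pi.single_eq_same, one_smul, Matrix.add_vecMul] at h1
    have h2 : (Pi.single 1 1 : Fin 5 → ZMod 2) ᵥ* c.1 =
        ((Pi.single 0 1 : Fin 5 → ZMod 2) ᵥ* c.1) 0 • (Pi.single 1 1 : Fin 5 → ZMod 2) :=
      (add_left_cancel h1).symm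
    rcases zmod2_cases (((Pi.single 0 1 : Fin 5 → ZMod 2) ᵥ* c.1) 0) with h | h
    · exfalso
      rw [h, zero_smul] at h2
      have h3 := vecMul_vecMul_inv c (Pi.single 1 1)
      rw [h2, Matrix.zero_vecMul] at h3
      exact single_ne_zero' 1 h3.symm
    · rw [h, one_smul] at h2
      exact h2

theorem mulVec_single_apply (g : SL5) (a b : Fin 5) : (g.1 *ᵥ Pi.single b 1) a = g.1 a b := by
  rw [Matrix.mulVec_single_one, Matrix.col_apply]

/-- The centralizer of `Eleft 0` and `Eright 1` in `SL₅(2)` is `{1, 1 + E₀₁}`. -/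
theorem centralizer_E (g : SL5) (h1 : ∀ x ∈ Eleft 0, x * g = g * x) (h2 : ∀ x ∈ Eright 1, x * g = g * x) :
    g.1 = 1 ∨ g.1 = Matrix.transvection 0 1 1 := by
  -- Step 1: columns i ≠ 1
  have hcol : ∀ i : Fin 5, i ≠ 1 → g.1 *ᵥ Pi.single i 1 = (g.1 1 1) • (Pi.single i 1 : Fin 5 → ZMod 2) := by
    intro i hi
    have h := congrArg (fun x : SL5 => x.1 *ᵥ (Pi.single 1 1 : Fin 5 → ZMod 2))
      (h2 (tv i 1 hi) (tv_mem_Eright i 1 hi))
    simp only [Matrix.SpecialLinearGroup.coe_mul, ← Matrix.mulVec_mulVec, tv_mulVec] at h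
    rw [Pi.single_eq_same, one_smul, Matrix.mulVec_add, mulVec_single_apply] at h
    exact (add_left_cancel h).symm
  -- Step 2: row 1
  have hrow1 : ∀ b : Fin 5, b ≠ 1 → g.1 1 b = 0 := by
    intro b hb
    have h := congrArg (fun x : SL5 => x.1 *ᵥ (Pi.single b 1 : Fin 5 → ZMod 2))
      (h1 (tv 0 1 (by decide)) (tv_mem_Eleft 0 1 (by decide)))
    simp only [Matrix.SpecialLinearGroup.coe_mul, ← Matrix.mulVec_mulVec, tv_mulVec] at h
    rw [Pi.single_eq_of_ne (Ne.symm hb), zero_smul, add_zero, mulVec_single_apply] at h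
    have h' : g.1 1 b • (Pi.single 0 1 : Fin 5 → ZMod 2) = 0 := add_left_cancel (a := g.1 *ᵥ Pi.single b 1) (by rw [h, add_zero])
    have := congrFun h' 0
    simpa using this
  -- Step 3: column 1
  have hcol1 : ∀ a : Fin 5, a ≠ 0 → a ≠ 1 → g.1 a 1 = 0 := by
    intro a ha0 ha1
    have h := congrArg (fun x : SL5 => x.1 *ᵥ (Pi.single 1 1 : Fin 5 → ZMod 2))
      (h1 (tv 0 a (Ne.symm ha0)) (tv_mem_Eleft 0 a (Ne.symm ha0)))
    simp only [Matrix.SpecialLinearGroup.coe_mul, ← Matrix.mulVec_mulVec, tv_mulVec] at h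
    rw [Pi.single_eq_of_ne ha1, zero_smul, add_zero, mulVec_single_apply] at h
    have h' : g.1 a 1 • (Pi.single 0 1 : Fin 5 → ZMod 2) = 0 := add_left_cancel (a := g.1 *ᵥ Pi.single 1 1) (by rw [h, add_zero])
    have := congrFun h' 0
    simpa using this
  -- Step 4: g 1 1 = 1
  have h11 : g.1 1 1 = 1 := by
    rcases zmod2_cases (g.1 1 1) with h | h
    · exfalso
      have hrow : (Pi.single 1 1 : Fin 5 → ZMod 2) ᵥ* g.1 = 0 := by
        rw [Matrix.single_one_vecMul]
        funext b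
        rw [Matrix.row_apply]
        by_cases hb : b = 1
        · rw [hb, h]; rfl
        · rw [hrow1 b hb]; rfl
      have h3 := vecMul_vecMul_inv g (Pi.single 1 1)
      rw [hrow, Matrix.zero_vecMul] at h3
      exact single_ne_zero' 1 h3.symm
    · exact h
  -- Step 5: entries
  have hentry : ∀ a b : Fin 5, b ≠ 1 → g.1 a b = if a = b then 1 else 0 := by
    intro a b hb
    have := congrFun (hcol b hb) a
    rw [mulVec_single_apply, h11, one_smul, Pi.single_apply] at this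
    exact this
  rcases zmod2_cases (g.1 0 1) with h01 | h01
  · left
    ext a b
    by_cases hb : b = 1
    · subst hb
      by_cases ha0 : a = 0
      · subst ha0; rw [h01]; rfl
      by_cases ha1 : a = 1
      · subst ha1; rw [h11]; rfl
      · rw [hcol1 a ha0 ha1, Matrix.one_apply_ne ha1]
    · rw [hentry a b hb, Matrix.one_apply]
  · right
    ext a b
    by_cases hb : b = 1
    · subst hb
      by_cases ha0 : a = 0
      · subst ha0; rw [h01]; rfl
      by_cases ha1 : a = 1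
      · subst ha1; rw [h11]; rfl
      · rw [hcol1 a ha0 ha1]
        simp [Matrix.transvection, Matrix.one_apply_ne ha1, Ne.symm ha0]
    · rw [hentry a b hb]
      simp [Matrix.transvection, Matrix.one_apply, Ne.symm hb]

/-- The concrete fact: in the centralizer `C₀` of the transvection `s = 1 + E₀₁` of `SL₅(2)`, for every
isomorphic copy `C` and every Sylow 2-subgroup `T` of `C`, the centre of `T` has at most one nontrivial element. -/
theorem center_sylow {C : Type*} [Group C] [Finite C]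
    (e : C ≃* Subgroup.centralizer ({tv 0 1 (by decide)} : Set SL5)) (T : Sylow 2 C) :
    ∃ w : C, ∀ y : C, y ∈ T → (∀ x ∈ T, x * y = y * x) → y = 1 ∨ y = w := by
  have hp : Fact (Nat.Prime 2) := ⟨Nat.prime_two⟩
  set s : SL5 := tv 0 1 (by decide) with hs
  set C₀ := Subgroup.centralizer ({s} : Set SL5) with hC₀
  have hsL : s ∈ Eleft 0 := tv_mem_Eleft 0 1 (by decide)
  have hsR : s ∈ Eright 1 := tv_mem_Eright 0 1 (by decide)
  have hfix : ∀ c ∈ C₀, c.1 *ᵥ Pi.single 0 1 = Pi.single 0 1 ∧ Pi.single 1 1 ᵥ* c.1 = Pi.single 1 1 := by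
    intro c hc
    apply fix_of_comm
    rw [hC₀, Subgroup.mem_centralizer_iff] at hc
    exact (hc s rfl).symm
  have hL : Eleft 0 ≤ C₀ := by
    intro x hx
    rw [hC₀, Subgroup.mem_centralizer_iff]
    intro y hy
    rw [Set.mem_singleton_iff] at hy
    rw [hy]
    exact Eleft_comm hsL hx
  have hR : Eright 1 ≤ C₀ := by
    intro x hx
    rw [hC₀, Subgroup.mem_centralizer_iff]
    intro y hy
    rw [Set.mem_singleton_iff] at hy
    rw [hy]
    exact Eright_comm hsR hx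
  have hsC : s ∈ C₀ := hL hsL
  -- the two normal 2-subgroups of C₀
  have hE₁n : ((Eleft 0).subgroupOf C₀).Normal := by
    constructor
    intro n hn c
    rw [Subgroup.mem_subgroupOf] at hn ⊢
    exact Eleft_conj (hfix c.1 c.2).1 hn
  have hE₂n : ((Eright 1).subgroupOf C₀).Normal := by
    constructor
    intro n hn c
    rw [Subgroup.mem_subgroupOf] at hn ⊢
    exact Eright_conj (hfix c.1 c.2).2 hn
  have hE₁p : IsPGroup 2 ((Eleft 0).subgroupOf C₀) := by
    intro g
    refine ⟨1, ?_⟩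
    apply Subtype.ext
    apply Subtype.ext
    have := Eleft_sq (Subgroup.mem_subgroupOf.mp g.2)
    rw [pow_one, pow_two]
    exact this
  have hE₂p : IsPGroup 2 ((Eright 1).subgroupOf C₀) := by
    intro g
    refine ⟨1, ?_⟩
    apply Subtype.ext
    apply Subtype.ext
    have := Eright_sq (Subgroup.mem_subgroupOf.mp g.2)
    rw [pow_one, pow_two]
    exact this
  -- pull back to C
  have hN₁n : (((Eleft 0).subgroupOf C₀).comap e.toMonoidHom).Normal := hE₁n.comap _
  have hN₂n : (((Eright 1).subgroupOf C₀).comap e.toMonoidHom).Normal := hE₂n.comap _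
  have hN₁T : ((Eleft 0).subgroupOf C₀).comap e.toMonoidHom ≤ T :=
    (hE₁p.comap_of_injective e.toMonoidHom e.injective).le_sylow_of_normal T
  have hN₂T : ((Eright 1).subgroupOf C₀).comap e.toMonoidHom ≤ T :=
    (hE₂p.comap_of_injective e.toMonoidHom e.injective).le_sylow_of_normal T
  refine ⟨e.symm ⟨s, hsC⟩, ?_⟩
  intro y hy hyc
  have h1 : ∀ x ∈ Eleft 0, x * (e y).1 = (e y).1 * x := by
    intro x hx
    have hxT : e.symm ⟨x, hL hx⟩ ∈ T := by
      apply hN₁T
      rw [Subgroup.mem_comap, Subgroup.mem_subgroupOf]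
      simpa using hx
    have := hyc _ hxT
    have h3 := congrArg e this
    rw [map_mul, map_mul, e.apply_symm_apply] at h3
    exact congrArg Subtype.val h3
  have h2 : ∀ x ∈ Eright 1, x * (e y).1 = (e y).1 * x := by
    intro x hx
    have hxT : e.symm ⟨x, hR hx⟩ ∈ T := by
      apply hN₂T
      rw [Subgroup.mem_comap, Subgroup.mem_subgroupOf]
      simpa using hx
    have := hyc _ hxT
    have h3 := congrArg e this
    rw [map_mul, map_mul, e.apply_symm_apply] at h3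
    exact congrArg Subtype.val h3
  rcases centralizer_E (e y).1 h1 h2 with h | h
  · left
    have : e y = 1 := by
      apply Subtype.ext
      apply Subtype.ext
      exact h
    exact (map_eq_one_iff e e.injective).mp this
  · right
    have : e y = ⟨s, hsC⟩ := by
      apply Subtype.ext
      apply Subtype.ext
      exact h
    rw [← this, e.symm_apply_apply]

theorem result {G : Type*} [Group G] [Finite G] (s : Matrix.SpecialLinearGroup (Fin 5) (ZMod 2)) (hs : (s : Matrix (Fin 5) (Fin 5) (ZMod 2)) = Matrix.transvection 0 1 1) (z : G) (hz : orderOf z = 2) (e : (Subgroup.centralizer ({z} : Set G)) ≃* Subgroup.centralizer ({s} : Set (Matrix.SpecialLinearGroup (Fin 5) (ZMod 2)))) (T : Sylow 2 (Subgroup.centralizer ({z} : Set G))) : ¬ 2 ∣ ((T : Subgroup (Subgroup.centralizer ({z} : Set G))).map (Subgroup.subtype (Subgroup.centralizer ({z} : Set G)))).index := by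
  have hs' : s = tv 0 1 (by decide) := Subtype.ext hs
  subst hs'
  exact sylow_of_center_aux z hz _ rfl T (center_sylow e T)

end Cfsg.Agent.S1717
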