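import Cfsg.Statements.S1754
import Cfsg.Agent.Lib.Helper29_Local

set_option autoImplicit false
open Cfsg

namespace Cfsg.Agent.S1754

open Cfsg.Agent.Lib.Helper29_Local

theorem result {G : Type*} [Group G] [Finite G]
    (A : Subgroup G) (hA : Cfsg.IsStandardSubgroup A) (t : G) (ht : orderOf t = 2) (htA : t ∈ Subgroup.centralizer (A : Set G)) :
    Subgroup.centralizer ({t} : Set G) ≤ Subgroup.normalizer (A : Set G) ∧
      Cfsg.IsComponent (A.subgroupOf (Subgroup.centralizer ({t} : Set G))) := by
  obtain ⟨hqs, ⟨_, htight⟩, _, hnorm⟩ := hA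
  have h1 : Subgroup.centralizer ({t} : Set G) ≤ Subgroup.normalizer (A : Set G) := by
    intro g hg
    rw [hnorm]
    by_contra hgn
    have hodd := htight g hgn
    have hgt : g * t * g⁻¹ = t := by
      rw [Subgroup.mem_centralizer_iff] at hg
      have := hg t rfl
      calc g * t * g⁻¹ = t * g * g⁻¹ := by rw [this]
        _ = t := by group
    have hmem : t ∈ Subgroup.centralizer (A : Set G) ⊓
        (Subgroup.centralizer (A : Set G)).map (MulAut.conj g).toMonoidHom := by
      refine ⟨htA, ⟨t, htA, ?_⟩⟩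
      simpa [MulAut.conj_apply] using hgt
    have hdvd := Subgroup.orderOf_dvd_natCard _ hmem
    rw [ht] at hdvd
    exact (Nat.not_even_iff_odd.mpr hodd) (even_iff_two_dvd.mpr hdvd)
  refine ⟨h1, ?_⟩
  have hle : A ≤ Subgroup.centralizer ({t} : Set G) := by
    intro a ha
    rw [Subgroup.mem_centralizer_iff]
    intro y hy
    rw [Set.mem_singleton_iff] at hy
    rw [hy]
    rw [Subgroup.mem_centralizer_iff] at htA
    exact (htA a ha).symm
  refine ⟨Subgroup.Normal.isSubnormal ((Subgroup.normal_subgroupOf_iff_le_normalizer hle).mpr h1), ?_⟩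
  exact isQuasisimple_of_mulEquiv (Subgroup.subgroupOfEquivOfLe hle).symm hqs

end Cfsg.Agent.S1754
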