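import Cfsg.Statements.S1755

set_option autoImplicit false
open Cfsg

namespace Cfsg.Agent.S1755

/-- In a finite cyclic group there is at most one element of order 2. -/
theorem cyclic_unique_involution {H : Type*} [Group H] [Finite H] [IsCyclic H] {x y : H}
    (hx : orderOf x = 2) (hy : orderOf y = 2) : x = y := by
  classical
  have : Fintype H := Fintype.ofFinite H
  by_contra hxy
  have h2 := IsCyclic.card_pow_eq_one_le (α := H) (n := 2) (by norm_num)
  have hx1 : x ≠ 1 := by
    rintro rfl; simp at hx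
  have hy1 : y ≠ 1 := by
    rintro rfl; simp at hy
  have hx2 : x ^ 2 = 1 := by rw [← hx]; exact pow_orderOf_eq_one x
  have hy2 : y ^ 2 = 1 := by rw [← hy]; exact pow_orderOf_eq_one y
  have hsub : ({1, x, y} : Finset H) ⊆ Finset.univ.filter (fun a : H => a ^ 2 = 1) := by
    intro a ha
    simp only [Finset.mem_insert, Finset.mem_singleton] at ha
    rcases ha with rfl | rfl | rfl <;> simp [hx2, hy2]
  have hcard : ({1, x, y} : Finset H).card = 3 := by
    rw [Finset.card_insert_of_notMem, Finset.card_insert_of_notMem, Finset.card_singleton]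
    · simpa using hxy
    · simp only [Finset.mem_insert, Finset.mem_singleton, not_or]
      exact ⟨fun h => hx1 h.symm, fun h => hy1 h.symm⟩
  have := Finset.card_le_card hsub
  omega

/-- In a finite 2-group, a nontrivial element has a power of order 2. -/
theorem exists_pow_order_two {H : Type*} [Group H] (hH : IsPGroup 2 H) {b : H} (hb : b ≠ 1) :
    ∃ m : ℕ, orderOf (b ^ m) = 2 := by
  have : Fact (Nat.Prime 2) := ⟨Nat.prime_two⟩
  obtain ⟨k, hk⟩ := (IsPGroup.iff_orderOf.mp hH) b
  have hk0 : k ≠ 0 := by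
    rintro rfl
    rw [pow_zero, orderOf_eq_one_iff] at hk
    exact hb hk
  refine ⟨orderOf b / 2, orderOf_pow_orderOf_div ?_ ?_⟩
  · rw [hk]; positivity
  · rw [hk]; exact dvd_pow_self 2 hk0

theorem isNilpotent_of_comm {H : Type*} [Group H] [IsMulCommutative H] : Group.IsNilpotent H :=
  ⟨1, by rw [Subgroup.upperCentralSeries_one]; exact Subgroup.center_eq_top⟩

theorem main {G : Type*} [Group G] [Finite G] (z : G) (hz : orderOf z = 2) (C : Subgroup G)
    (hC : C = Subgroup.centralizer ({z} : Set G)) (Q : Subgroup ↥C) (hQdef : Q = Cfsg.generalizedFittingSubgroup ↥C)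
    (hQ : Cfsg.IsOfSymplecticType ↥Q)
    (B : Subgroup ↥Q) (hBc : B.Characteristic) (hBa : IsMulCommutative ↥B) (g : G) :
    ((B.map Q.subtype).map C.subtype).map (MulAut.conj g).toMonoidHom = (B.map Q.subtype).map C.subtype ∨
      ((B.map Q.subtype).map C.subtype).map (MulAut.conj g).toMonoidHom ⊓ (B.map Q.subtype).map C.subtype = ⊥ := by
  have : Fact (Nat.Prime 2) := ⟨Nat.prime_two⟩
  obtain ⟨hQ2, hQcyc⟩ := hQ
  -- Step A: no components, so Q = fittingSubgroup C
  have hlayer : Cfsg.layer ↥C = ⊥ := by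
    unfold Cfsg.layer
    rw [sSup_eq_bot]
    intro K hK
    exfalso
    have hKQ : K ≤ Q := le_trans (le_sSup hK) (by rw [hQdef]; exact le_sup_left)
    obtain ⟨_, hperf, hsimp⟩ := hK
    have hK2 : IsPGroup 2 ↥K := hQ2.to_le hKQ
    have hnil : Group.IsNilpotent ↥K := hK2.isNilpotent
    have hnt : Nontrivial ↥K := by
      have : Nontrivial (↥K ⧸ Subgroup.center ↥K) := hsimp.toNontrivial
      exact (QuotientGroup.mk'_surjective (Subgroup.center ↥K)).nontrivial
    exact Group.IsPerfect.not_isNilpotent ↥K hnil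
  have hQfit : Q = Cfsg.fittingSubgroup ↥C := by
    rw [hQdef]
    unfold Cfsg.generalizedFittingSubgroup
    rw [hlayer, bot_sup_eq]
  have hQnormal : Q.Normal := by
    rw [hQfit]
    exact Subgroup.sSup_normal _ (fun _ h => h.1)
  -- Step C: z lies in Q
  have hzC : z ∈ C := by
    rw [hC, Subgroup.mem_centralizer_iff]
    intro y hy
    rw [Set.mem_singleton_iff] at hy
    rw [hy]
  have hzcenter : (⟨z, hzC⟩ : ↥C) ∈ Subgroup.center ↥C := by
    rw [Subgroup.mem_center_iff]
    rintro ⟨c, hc⟩
    apply Subtype.ext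
    rw [hC, Subgroup.mem_centralizer_iff] at hc
    exact (hc z rfl).symm
  have hcenter_le : Subgroup.center ↥C ≤ Q := by
    rw [hQfit]
    apply le_sSup
    exact ⟨inferInstance, isNilpotent_of_comm⟩
  have hzQ : (⟨z, hzC⟩ : ↥C) ∈ Q := hcenter_le hzcenter
  -- the inclusion of Q in G
  let ι : ↥Q →* G := C.subtype.comp Q.subtype
  have hι : Function.Injective ι := by
    intro a b hab
    exact Subtype.ext (Subtype.ext hab)
  have hmap : (B.map Q.subtype).map C.subtype = B.map ι := Subgroup.map_map _ _ _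
  rw [hmap]
  set zQ : ↥Q := ⟨⟨z, hzC⟩, hzQ⟩ with hzQdef
  have hιz : ι zQ = z := rfl
  have hzQord : orderOf zQ = 2 := by
    rw [← orderOf_injective ι hι zQ, hιz, hz]
  have hzQcenter : zQ ∈ Subgroup.center ↥Q := by
    rw [Subgroup.mem_center_iff]
    rintro ⟨q, hq⟩
    apply Subtype.ext
    have := (Subgroup.mem_center_iff.mp hzcenter) q
    exact this
  -- center of Q is cyclic
  have hZcyc : IsCyclic ↥(Subgroup.center ↥Q) := hQcyc _ inferInstance inferInstance
  have hBcyc : IsCyclic ↥B := hQcyc B hBc hBa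
  have hBnormal : B.Normal := inferInstance
  -- any involution in B equals zQ
  have hinvB : ∀ u : ↥Q, u ∈ B → orderOf u = 2 → u = zQ := by
    intro u hu hu2
    have hucenter : u ∈ Subgroup.center ↥Q := by
      rw [Subgroup.mem_center_iff]
      intro q
      have h1 : q * u * q⁻¹ ∈ B := hBnormal.conj_mem u hu q
      have h2 : orderOf (q * u * q⁻¹) = 2 := by
        rw [← hu2]
        exact orderOf_injective (MulAut.conj q).toMonoidHom (MulAut.conj q).injective u
      have h3 : (⟨q * u * q⁻¹, h1⟩ : ↥B) = ⟨u, hu⟩ := by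
        apply cyclic_unique_involution
        · rw [← orderOf_injective B.subtype B.subtype_injective]; exact h2
        · rw [← orderOf_injective B.subtype B.subtype_injective]; exact hu2
      have h4 : q * u * q⁻¹ = u := congrArg Subtype.val h3
      calc q * u = q * u * q⁻¹ * q := by group
        _ = u * q := by rw [h4]
    have h5 : (⟨u, hucenter⟩ : ↥(Subgroup.center ↥Q)) = ⟨zQ, hzQcenter⟩ := by
      apply cyclic_unique_involution
      · rw [← orderOf_injective (Subgroup.center ↥Q).subtype (Subgroup.center ↥Q).subtype_injective]; exact hu2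
      · rw [← orderOf_injective (Subgroup.center ↥Q).subtype (Subgroup.center ↥Q).subtype_injective]; exact hzQord
    exact congrArg Subtype.val h5
  by_cases hint : (B.map ι).map (MulAut.conj g).toMonoidHom ⊓ B.map ι = ⊥
  · right; exact hint
  left
  -- get a nontrivial element of the intersection
  obtain ⟨⟨x, hx⟩, hx1⟩ := (Subgroup.ne_bot_iff_exists_ne_one.mp hint)
  have hx1' : x ≠ 1 := fun h => hx1 (Subtype.ext h)
  obtain ⟨⟨y, ⟨b', hb', rfl⟩, hyx⟩, ⟨b, hb, hbx⟩⟩ := hx
  -- x = ι b = g (ι b') g⁻¹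
  have hgx : g * ι b' * g⁻¹ = x := hyx
  have hb1 : b ≠ 1 := by
    rintro rfl
    exact hx1' (by rw [← hbx, map_one])
  obtain ⟨m, hm⟩ := exists_pow_order_two hQ2 hb1
  have hbm : b ^ m = zQ := hinvB _ (B.pow_mem hb m) hm
  have hxm : x ^ m = z := by
    rw [← hbx, ← map_pow, hbm, hιz]
  -- the corresponding power of b' also has order 2
  have hb'm2 : orderOf (b' ^ m) = 2 := by
    have h1 : g * ι (b' ^ m) * g⁻¹ = z := by
      rw [map_pow, ← conj_pow, hgx, hxm]
    have h2 : orderOf (g * ι (b' ^ m) * g⁻¹) = orderOf (b' ^ m) := by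
      rw [← orderOf_injective ι hι (b' ^ m)]
      exact orderOf_injective (MulAut.conj g).toMonoidHom (MulAut.conj g).injective _
    rw [← h2, h1, hz]
  have hb'm : b' ^ m = zQ := hinvB _ (B.pow_mem hb' m) hb'm2
  have hgz : g * z * g⁻¹ = z := by
    have h1 : z = ι (b' ^ m) := by rw [hb'm, hιz]
    calc g * z * g⁻¹ = g * ι (b' ^ m) * g⁻¹ := by rw [← h1]
      _ = (g * ι b' * g⁻¹) ^ m := by rw [map_pow, conj_pow]
      _ = z := by rw [hgx, hxm]
  -- so g ∈ C
  have hgC : g ∈ C := by
    rw [hC, Subgroup.mem_centralizer_iff]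
    intro y hy
    rw [Set.mem_singleton_iff] at hy
    rw [hy]
    calc z * g = g * z * g⁻¹ * g := by rw [hgz]
      _ = g * z := by group
  -- B.map Q.subtype is normal in C
  have hBCnormal : (B.map Q.subtype).Normal := inferInstance
  have hconj : ∀ c : G, c ∈ C → ∀ y ∈ B.map ι, c * y * c⁻¹ ∈ B.map ι := by
    intro c hc y hy
    obtain ⟨q, hq, rfl⟩ := hy
    have h1 : (⟨c, hc⟩ : ↥C) * Q.subtype q * (⟨c, hc⟩ : ↥C)⁻¹ ∈ B.map Q.subtype :=
      hBCnormal.conj_mem _ ⟨q, hq, rfl⟩ _
    obtain ⟨q', hq', hq'eq⟩ := h1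
    refine ⟨q', hq', ?_⟩
    have := congrArg C.subtype hq'eq
    simpa [ι] using this
  ext y
  constructor
  · rintro ⟨w, hw, rfl⟩
    exact hconj g hgC w hw
  · intro hy
    refine ⟨g⁻¹ * y * g, ?_, ?_⟩
    · have := hconj g⁻¹ (C.inv_mem hgC) y hy
      simpa using this
    · simp [MulAut.conj_apply]
      group

theorem result {G : Type*} [Group G] [Finite G] (z : G) (hz : orderOf z = 2) (hQ : Cfsg.IsOfSymplecticType ↥(Cfsg.generalizedFittingSubgroup ↥(Subgroup.centralizer ({z} : Set G))))
    (B : Subgroup ↥(Cfsg.generalizedFittingSubgroup ↥(Subgroup.centralizer ({z} : Set G)))) (hBc : B.Characteristic) (hBa : IsMulCommutative ↥B) (g : G) :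
    ((B.map (Cfsg.generalizedFittingSubgroup ↥(Subgroup.centralizer ({z} : Set G))).subtype).map (Subgroup.centralizer ({z} : Set G)).subtype).map (MulAut.conj g).toMonoidHom =
        (B.map (Cfsg.generalizedFittingSubgroup ↥(Subgroup.centralizer ({z} : Set G))).subtype).map (Subgroup.centralizer ({z} : Set G)).subtype ∨
      ((B.map (Cfsg.generalizedFittingSubgroup ↥(Subgroup.centralizer ({z} : Set G))).subtype).map (Subgroup.centralizer ({z} : Set G)).subtype).map (MulAut.conj g).toMonoidHom ⊓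
        (B.map (Cfsg.generalizedFittingSubgroup ↥(Subgroup.centralizer ({z} : Set G))).subtype).map (Subgroup.centralizer ({z} : Set G)).subtype = ⊥ :=
  main z hz _ rfl _ rfl hQ B hBc hBa g

end Cfsg.Agent.S1755
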